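import Mathlib
import Groth.Prelude
import Groth.Agent.Lib.ConormTrans2_helper7
import Groth.Agent.Lib.ConormOpen_helper4

/-!
# Transitivity of conormal sheaves for quasi-compact immersions (helper7)

Generalizes `ConormTrans2_helper7` from closed immersions to quasi-compact immersions
`j : Z → Y`, `i : Y → X`: the sequence `j^* C_{Y/X} → C_{Z/X} → C_{Z/Y} → 0` is exact, and short
exact when `j` is `H_1`-regular.
APPEND-ONLY once landed.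
-/

set_option autoImplicit false
set_option linter.style.haveILetI false

universe u

open CategoryTheory CategoryTheory.Limits AlgebraicGeometry Opposite TopologicalSpace
open QcqsLoc QCohExtn

namespace Groth.Agent.Lib.ConormTrans3H7

open PBH8 Groth.Agent.Lib.ConormSeqH4 Groth.Agent.Lib.OmegaCompat2H4
open Groth.Agent.Lib.ConormDiffH4 Groth.Agent.Lib.OmegaAffH4

section Ring

/-- Surjectivity passes to localizations at one element. -/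
theorem surj_loc {A B A' B' : Type*} [CommRing A] [CommRing B] [CommRing A'] [CommRing B']
    (φ : A →+* B) (ρ : A →+* A') (σ : B →+* B') (φ' : A' →+* B')
    (hcomm : ∀ x, φ' (ρ x) = σ (φ x)) (a : A) (hu : IsUnit (ρ a))
    (hφ : Function.Surjective φ)
    (hloc : ∀ z : B', ∃ (y : B) (n : ℕ), z * σ (φ a) ^ n = σ y) : Function.Surjective φ' := by
  intro z
  obtain ⟨y, n, h⟩ := hloc z
  obtain ⟨x, rfl⟩ := hφ y
  obtain ⟨v, hv⟩ := hu.pow n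
  have e1 : σ (φ a) ^ n = φ' (↑v) := by rw [hv, map_pow, hcomm]
  have hu' : IsUnit (σ (φ a) ^ n) := by
    rw [e1]
    exact v.isUnit.map φ'
  have e2 : ρ x * ↑v⁻¹ * ↑v = ρ x := by rw [mul_assoc, Units.inv_mul, mul_one]
  refine ⟨ρ x * ↑v⁻¹, ?_⟩
  have h1 : φ' (ρ x * ↑v⁻¹) * σ (φ a) ^ n = z * σ (φ a) ^ n := by
    rw [h, e1, ← map_mul, e2, hcomm]
  exact hu'.mul_left_injective h1

end Ring

section One

variable {X Y : Scheme.{u}} (f : Y ⟶ X)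

/-- Good affine opens for an immersion restrict to good basic opens. -/
theorem good_basicOpen {W : X.Opens} (hV : IsAffineOpen (f ⁻¹ᵁ W))
    (hs : Function.Surjective (f.app W).hom) (a : Γ(X, W)) :
    IsAffineOpen (f ⁻¹ᵁ X.basicOpen a) ∧ Function.Surjective (f.app (X.basicOpen a)).hom := by
  have hpre : f ⁻¹ᵁ X.basicOpen a = Y.basicOpen ((f.app W).hom a) :=
    Scheme.preimage_basicOpen f a
  refine ⟨?_, ?_⟩
  · rw [hpre]
    exact hV.basicOpen _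
  · let ι : f ⁻¹ᵁ X.basicOpen a ⟶ f ⁻¹ᵁ W :=
      (Opens.map f.base).map (homOfLE (X.basicOpen_le a))
    letI alg : Algebra Γ(Y, f ⁻¹ᵁ W) Γ(Y, f ⁻¹ᵁ X.basicOpen a) :=
      (Y.presheaf.map ι.op).hom.toAlgebra
    haveI hloc : IsLocalization.Away ((f.app W).hom a) Γ(Y, f ⁻¹ᵁ X.basicOpen a) :=
      hV.isLocalization_of_eq_basicOpen ((f.app W).hom a) ι hpre
    have hnat : ∀ x : Γ(X, W), (f.app (X.basicOpen a)).hom
        ((X.presheaf.map (homOfLE (X.basicOpen_le a)).op).hom x) =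
        (Y.presheaf.map ι.op).hom ((f.app W).hom x) := by
      intro x
      have h := f.naturality (homOfLE (X.basicOpen_le a)).op
      exact congrArg (fun k => k.hom x) h
    have hu : IsUnit ((X.presheaf.map (homOfLE (X.basicOpen_le a)).op).hom a) :=
      X.toRingedSpace.isUnit_res_basicOpen a
    refine surj_loc (f.app W).hom (X.presheaf.map (homOfLE (X.basicOpen_le a)).op).hom
      (Y.presheaf.map ι.op).hom (f.app (X.basicOpen a)).hom hnat a hu hs (fun z => ?_)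
    obtain ⟨n, y, hy⟩ := IsLocalization.Away.surj ((f.app W).hom a) z
    exact ⟨y, n, hy⟩

theorem cUV_surjective' (F : X.Modules) [F.IsQuasicoherent] {W : X.Opens} (hW : IsAffineOpen W)
    (hV : IsAffineOpen (f ⁻¹ᵁ W)) (hs : Function.Surjective (f.app W).hom)
    (z : Γ((Scheme.Modules.pullback f).obj F, f ⁻¹ᵁ W)) :
    ∃ x : Γ(F, W), cUV f F (le_refl (f ⁻¹ᵁ W)) x = z := by
  letI := (f.appLE W (f ⁻¹ᵁ W) (le_refl _)).hom.toAlgebra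
  letI : Module Γ(X, W) Γ((Scheme.Modules.pullback f).obj F, f ⁻¹ᵁ W) :=
    Module.compHom _ (f.appLE W (f ⁻¹ᵁ W) (le_refl _)).hom
  haveI : IsScalarTower Γ(X, W) Γ(Y, f ⁻¹ᵁ W) Γ((Scheme.Modules.pullback f).obj F, f ⁻¹ᵁ W) :=
    IsScalarTower.of_algebraMap_smul fun _ _ => rfl
  have bc := isBaseChange_cUV f F (le_refl (f ⁻¹ᵁ W)) hV hW
  have happ : f.appLE W (f ⁻¹ᵁ W) (le_refl _) = f.app W := f.appLE_eq_app
  have hsurj : Function.Surjective (algebraMap Γ(X, W) Γ(Y, f ⁻¹ᵁ W)) := by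
    show Function.Surjective (f.appLE W (f ⁻¹ᵁ W) (le_refl _)).hom
    rw [happ]
    exact hs
  exact Groth.Agent.Lib.RegSecIsoH7.surjective_of_isBaseChange hsurj
    (cUVLin f F (le_refl (f ⁻¹ᵁ W))) bc z

theorem cUV_eq_zero' [QuasiCompact f] (F : X.Modules) [F.IsQuasicoherent] {W : X.Opens}
    (hW : IsAffineOpen W) (hV : IsAffineOpen (f ⁻¹ᵁ W))
    (hs : Function.Surjective (f.app W).hom)
    (x : Γ(F, W)) (hx : cUV f F (le_refl (f ⁻¹ᵁ W)) x = 0) :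
    x ∈ (f.ker.ideal ⟨W, hW⟩) • (⊤ : Submodule Γ(X, W) Γ(F, W)) := by
  letI := (f.appLE W (f ⁻¹ᵁ W) (le_refl _)).hom.toAlgebra
  letI : Module Γ(X, W) Γ((Scheme.Modules.pullback f).obj F, f ⁻¹ᵁ W) :=
    Module.compHom _ (f.appLE W (f ⁻¹ᵁ W) (le_refl _)).hom
  haveI : IsScalarTower Γ(X, W) Γ(Y, f ⁻¹ᵁ W) Γ((Scheme.Modules.pullback f).obj F, f ⁻¹ᵁ W) :=
    IsScalarTower.of_algebraMap_smul fun _ _ => rfl
  have bc := isBaseChange_cUV f F (le_refl (f ⁻¹ᵁ W)) hV hW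
  have happ : f.appLE W (f ⁻¹ᵁ W) (le_refl _) = f.app W := f.appLE_eq_app
  have hsurj : Function.Surjective (algebraMap Γ(X, W) Γ(Y, f ⁻¹ᵁ W)) := by
    show Function.Surjective (f.appLE W (f ⁻¹ᵁ W) (le_refl _)).hom
    rw [happ]
    exact hs
  have h1 := Groth.Agent.Lib.RegSecIsoH7.mem_ker_smul_top_of_isBaseChange hsurj
    (cUVLin f F (le_refl (f ⁻¹ᵁ W))) bc x hx
  have hker : RingHom.ker (algebraMap Γ(X, W) Γ(Y, f ⁻¹ᵁ W)) = f.ker.ideal ⟨W, hW⟩ := by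
    rw [Scheme.Hom.ker_apply]
    show RingHom.ker (f.appLE W (f ⁻¹ᵁ W) (le_refl _)).hom = _
    rw [happ]
  rw [hker] at h1
  exact h1

theorem cUV_of_mem' [QuasiCompact f] (F : X.Modules) {W : X.Opens} (hW : IsAffineOpen W)
    (x : Γ(F, W))
    (hx : x ∈ (f.ker.ideal ⟨W, hW⟩) • (⊤ : Submodule Γ(X, W) Γ(F, W))) :
    cUV f F (le_refl (f ⁻¹ᵁ W)) x = 0 := by
  have happ : f.appLE W (f ⁻¹ᵁ W) (le_refl _) = f.app W := f.appLE_eq_app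
  refine Submodule.smul_induction_on
    (p := fun x => cUV f F (le_refl (f ⁻¹ᵁ W)) x = 0) hx ?_ ?_
  · intro r hr m _
    show cUV f F (le_refl (f ⁻¹ᵁ W)) (r • m) = 0
    rw [cUV_smul]
    have h0 : (f.appLE W (f ⁻¹ᵁ W) (le_refl _)) r = 0 := by
      rw [happ]
      rw [Scheme.Hom.ker_apply, RingHom.mem_ker] at hr
      exact hr
    rw [h0, zero_smul]
  · intro a b ha hb
    show cUV f F (le_refl (f ⁻¹ᵁ W)) (a + b) = 0
    rw [cUV_add, ha, hb, add_zero]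

end One

section Two

variable {X Y Z : Scheme.{u}} (i : Y ⟶ X) (j : Z ⟶ Y)

/-- An affine open of `X` adapted to the pair of immersions `j : Z → Y`, `i : Y → X`. -/
structure Good (W : X.Opens) : Prop where
  hW : IsAffineOpen W
  hV : IsAffineOpen (i ⁻¹ᵁ W)
  hsi : Function.Surjective (i.app W).hom
  hU : IsAffineOpen (j ⁻¹ᵁ (i ⁻¹ᵁ W))
  hsj : Function.Surjective (j.app (i ⁻¹ᵁ W)).hom

theorem Good.hU' {W : X.Opens} (G : Good i j W) : IsAffineOpen ((j ≫ i) ⁻¹ᵁ W) := G.hU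

theorem Good.hs' {W : X.Opens} (G : Good i j W) :
    Function.Surjective ((j ≫ i).app W).hom := by
  intro z
  obtain ⟨y, hy⟩ := G.hsj z
  obtain ⟨x, hx⟩ := G.hsi y
  exact ⟨x, (ConormTransH7.comp_app_apply i j W x).trans
    ((congrArg (j.app (i ⁻¹ᵁ W)).hom hx).trans hy)⟩

/-- The class in `C_{Y/X}(i⁻¹W)` of a section of the ideal of `Y` over `W`. -/
noncomputable def cY (W : X.Opens) (n : Γ(ClSub.idealMod i.ker, W)) :
    Γ(Omega.conormal i, i ⁻¹ᵁ W) :=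
  cUV i (ClSub.idealMod i.ker) (le_refl (i ⁻¹ᵁ W)) n

/-- The class in `C_{Z/X}` of a section of the ideal of `Z` in `X` over `W`. -/
noncomputable def cZ (W : X.Opens) (n' : Γ(ClSub.idealMod (j ≫ i).ker, W)) :
    Γ(Omega.conormal (j ≫ i), j ⁻¹ᵁ (i ⁻¹ᵁ W)) :=
  cUV (j ≫ i) (ClSub.idealMod (j ≫ i).ker) (le_refl ((j ≫ i) ⁻¹ᵁ W)) n'

/-- The class in `C_{Z/Y}` of a section of the ideal of `Z` in `Y` over `V`. -/
noncomputable def cJ (V : Y.Opens) (n'' : Γ(ClSub.idealMod j.ker, V)) :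
    Γ(Omega.conormal j, j ⁻¹ᵁ V) :=
  cUV j (ClSub.idealMod j.ker) (le_refl (j ⁻¹ᵁ V)) n''

/-- The pullback to `Z` of a section of `C_{Y/X}` over `V`. -/
noncomputable def cP (V : Y.Opens) (y : Γ(Omega.conormal i, V)) :
    Γ((Scheme.Modules.pullback j).obj (Omega.conormal i), j ⁻¹ᵁ V) :=
  cUV j (Omega.conormal i) (le_refl (j ⁻¹ᵁ V)) y

theorem cZ_add (W : X.Opens) (a b : Γ(ClSub.idealMod (j ≫ i).ker, W)) :
    cZ i j W (a + b) = cZ i j W a + cZ i j W b :=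
  cUV_add (j ≫ i) (ClSub.idealMod (j ≫ i).ker) (le_refl ((j ≫ i) ⁻¹ᵁ W)) a b

theorem cJ_zero (V : Y.Opens) : cJ j V 0 = 0 := cUV_zero j _ _

theorem cJ_add (V : Y.Opens) (a b : Γ(ClSub.idealMod j.ker, V)) :
    cJ j V (a + b) = cJ j V a + cJ j V b :=
  cUV_add j (ClSub.idealMod j.ker) (le_refl (j ⁻¹ᵁ V)) a b

theorem cJ_smul (V : Y.Opens) (r : Γ(Y, V)) (a : Γ(ClSub.idealMod j.ker, V)) :
    cJ j V (r • a) = ((j.app V).hom r) • cJ j V a := by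
  have h1 := cUV_smul j (ClSub.idealMod j.ker) (le_refl (j ⁻¹ᵁ V)) r a
  have happ : j.appLE V (j ⁻¹ᵁ V) (le_refl _) = j.app V := j.appLE_eq_app
  rw [happ] at h1
  exact h1

theorem cY_add (W : X.Opens) (a b : Γ(ClSub.idealMod i.ker, W)) :
    cY i W (a + b) = cY i W a + cY i W b :=
  cUV_add i (ClSub.idealMod i.ker) (le_refl (i ⁻¹ᵁ W)) a b

theorem cY_smul (W : X.Opens) (r : Γ(X, W)) (a : Γ(ClSub.idealMod i.ker, W)) :
    cY i W (r • a) = ((i.app W).hom r) • cY i W a := by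
  have h1 := cUV_smul i (ClSub.idealMod i.ker) (le_refl (i ⁻¹ᵁ W)) r a
  have happ : i.appLE W (i ⁻¹ᵁ W) (le_refl _) = i.app W := i.appLE_eq_app
  rw [happ] at h1
  exact h1

section Formulas

variable (φ₁ : (Scheme.Modules.pullback j).obj (Omega.conormal i) ⟶ Omega.conormal (j ≫ i))
  (hφ₁ : OmegaSh.IsConormalMap (j ≫ i) i (𝟙 X) j φ₁)
  (φ₂ : (Scheme.Modules.pullback (𝟙 Z)).obj (Omega.conormal (j ≫ i)) ⟶ Omega.conormal j)
  (hφ₂ : OmegaSh.IsConormalMap j (j ≫ i) i (𝟙 Z) φ₂)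

include hφ₁ in
theorem phi1_formula (W : X.Opens) (n : Γ(ClSub.idealMod i.ker, W))
    (n' : Γ(ClSub.idealMod (j ≫ i).ker, W))
    (hc : OmegaSh.idealSect (j ≫ i).ker W n' = OmegaSh.idealSect i.ker W n) :
    φ₁.app (j ⁻¹ᵁ (i ⁻¹ᵁ W)) (cP i j (i ⁻¹ᵁ W) (cY i W n)) = cZ i j W n' := by
  have hid : ∀ x : Γ(X, W), (𝟙 X : X ⟶ X).app W x = x := fun x => by
    first
      | rfl
      | (simp only [Scheme.Hom.id_app]; rfl)
  have hc' : OmegaSh.idealSect (j ≫ i).ker ((𝟙 X) ⁻¹ᵁ W) n' =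
      (𝟙 X : X ⟶ X).app W (OmegaSh.idealSect i.ker W n) := hc.trans (hid _).symm
  have h := hφ₁.2 W n n' hc' (j ⁻¹ᵁ (i ⁻¹ᵁ W)) (le_refl _) (le_refl _)
  have e1 : cY i W n = OmegaSh.conormalSect i W n := cUV_rfl i _ W n
  have e2 : ∀ y : Γ(Omega.conormal i, i ⁻¹ᵁ W),
      cP i j (i ⁻¹ᵁ W) y = OmegaSh.pullSect j (Omega.conormal i) (i ⁻¹ᵁ W) y :=
    fun y => cUV_rfl j _ _ y
  rw [e1, e2]
  exact (map_homOfLE_rfl (Omega.conormal (j ≫ i)) _ _).symm.trans h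

include hφ₂ in
theorem psi2_formula (W : X.Opens) (n' : Γ(ClSub.idealMod (j ≫ i).ker, W))
    (n'' : Γ(ClSub.idealMod j.ker, i ⁻¹ᵁ W))
    (hc : OmegaSh.idealSect j.ker (i ⁻¹ᵁ W) n'' =
      (i.app W).hom (OmegaSh.idealSect (j ≫ i).ker W n')) :
    ((Scheme.Modules.pullbackId Z).inv.app (Omega.conormal (j ≫ i)) ≫ φ₂).app
        (j ⁻¹ᵁ (i ⁻¹ᵁ W)) (cZ i j W n') = cJ j (i ⁻¹ᵁ W) n'' := by
  have h := psi_formula i j (j ≫ i) φ₂ hφ₂ n' n'' hc (le_refl _)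
  have e1 : cZ i j W n' = OmegaSh.conormalSect (j ≫ i) W n' := cUV_rfl (j ≫ i) _ W n'
  have e2 := ConormTransH7.pullbackId_inv_app (Omega.conormal (j ≫ i)) ((j ≫ i) ⁻¹ᵁ W)
    (OmegaSh.conormalSect (j ≫ i) W n')
  have e3 : ((Scheme.Modules.pullbackId Z).inv.app (Omega.conormal (j ≫ i)) ≫ φ₂).app
      (j ⁻¹ᵁ (i ⁻¹ᵁ W)) (OmegaSh.conormalSect (j ≫ i) W n') = cJ j (i ⁻¹ᵁ W) n'' :=
    (congrArg (fun t => φ₂.app ((j ≫ i) ⁻¹ᵁ W) t) e2).trans h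
  rw [e1]
  exact e3

end Formulas

variable [QuasiCompact i] [QuasiCompact j]

theorem mem_K_iff {W : X.Opens} (G : Good i j W) (x : Γ(X, W)) :
    x ∈ (j ≫ i).ker.ideal ⟨W, G.hW⟩ ↔
      (i.app W).hom x ∈ j.ker.ideal ⟨i ⁻¹ᵁ W, G.hV⟩ := by
  have h1 := ConormTransH7.mem_I_iff (j ≫ i) G.hW x
  have h2 := ConormTransH7.mem_I_iff j G.hV ((i.app W).hom x)
  have h3 := ConormTransH7.comp_app_apply i j W x
  rw [h3] at h1
  exact h1.trans h2.symm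

theorem I_le_K {W : X.Opens} (G : Good i j W) {x : Γ(X, W)}
    (hx : x ∈ i.ker.ideal ⟨W, G.hW⟩) : x ∈ (j ≫ i).ker.ideal ⟨W, G.hW⟩ := by
  rw [mem_K_iff i j G, (ConormTransH7.mem_I_iff i G.hW x).mp hx]
  exact Ideal.zero_mem _

theorem K_eq_comap {W : X.Opens} (G : Good i j W) :
    (j ≫ i).ker.ideal ⟨W, G.hW⟩ =
      (j.ker.ideal ⟨i ⁻¹ᵁ W, G.hV⟩).comap (i.app W).hom :=
  Ideal.ext fun x => (mem_K_iff i j G x).trans Ideal.mem_comap.symm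

theorem map_K {W : X.Opens} (G : Good i j W) :
    ((j ≫ i).ker.ideal ⟨W, G.hW⟩).map (i.app W).hom = j.ker.ideal ⟨i ⁻¹ᵁ W, G.hV⟩ := by
  rw [K_eq_comap i j G]
  exact Ideal.map_comap_of_surjective _ G.hsi _

theorem cY_surj {W : X.Opens} (G : Good i j W) (y : Γ(Omega.conormal i, i ⁻¹ᵁ W)) :
    ∃ n, cY i W n = y := by
  haveI qc1 : (ClSub.idealMod i.ker).IsQuasicoherent := isQuasicoherent_idealMod _
  exact cUV_surjective' i (ClSub.idealMod i.ker) G.hW G.hV G.hsi y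

theorem cZ_surj {W : X.Opens} (G : Good i j W)
    (m : Γ(Omega.conormal (j ≫ i), j ⁻¹ᵁ (i ⁻¹ᵁ W))) : ∃ n', cZ i j W n' = m := by
  haveI qc1 : (ClSub.idealMod (j ≫ i).ker).IsQuasicoherent := isQuasicoherent_idealMod _
  exact cUV_surjective' (j ≫ i) (ClSub.idealMod (j ≫ i).ker) G.hW (Good.hU' i j G)
    (Good.hs' i j G) m

omit [QuasiCompact j] in
theorem cJ_surj {V : Y.Opens} (hV : IsAffineOpen V) (hU : IsAffineOpen (j ⁻¹ᵁ V))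
    (hs : Function.Surjective (j.app V).hom) (y : Γ(Omega.conormal j, j ⁻¹ᵁ V)) :
    ∃ n'', cJ j V n'' = y := by
  haveI qc1 : (ClSub.idealMod j.ker).IsQuasicoherent := isQuasicoherent_idealMod _
  exact cUV_surjective' j (ClSub.idealMod j.ker) hV hU hs y

omit [QuasiCompact j] in
theorem cP_surj {V : Y.Opens} (hV : IsAffineOpen V) (hU : IsAffineOpen (j ⁻¹ᵁ V))
    (hs : Function.Surjective (j.app V).hom)
    (x : Γ((Scheme.Modules.pullback j).obj (Omega.conormal i), j ⁻¹ᵁ V)) :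
    ∃ y, cP i j V y = x := by
  haveI qc1 : (ClSub.idealMod i.ker).IsQuasicoherent := isQuasicoherent_idealMod _
  haveI qc2 : (Omega.conormal i).IsQuasicoherent := by
    unfold Omega.conormal
    infer_instance
  exact cUV_surjective' j (Omega.conormal i) hV hU hs x

theorem cZ_eq_zero {W : X.Opens} (G : Good i j W) (n' : Γ(ClSub.idealMod (j ≫ i).ker, W))
    (h : cZ i j W n' = 0) :
    n' ∈ (j ≫ i).ker.ideal ⟨W, G.hW⟩ •
      (⊤ : Submodule Γ(X, W) Γ(ClSub.idealMod (j ≫ i).ker, W)) := by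
  haveI qc1 : (ClSub.idealMod (j ≫ i).ker).IsQuasicoherent := isQuasicoherent_idealMod _
  exact cUV_eq_zero' (j ≫ i) (ClSub.idealMod (j ≫ i).ker) G.hW (Good.hU' i j G)
    (Good.hs' i j G) n' h

theorem cZ_of_mem {W : X.Opens} (hW : IsAffineOpen W) (n' : Γ(ClSub.idealMod (j ≫ i).ker, W))
    (h : n' ∈ (j ≫ i).ker.ideal ⟨W, hW⟩ •
      (⊤ : Submodule Γ(X, W) Γ(ClSub.idealMod (j ≫ i).ker, W))) : cZ i j W n' = 0 :=
  cUV_of_mem' (j ≫ i) (ClSub.idealMod (j ≫ i).ker) hW n' h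

theorem cJ_eq_zero {V : Y.Opens} (hV : IsAffineOpen V) (hU : IsAffineOpen (j ⁻¹ᵁ V))
    (hs : Function.Surjective (j.app V).hom) (n'' : Γ(ClSub.idealMod j.ker, V))
    (h : cJ j V n'' = 0) :
    n'' ∈ j.ker.ideal ⟨V, hV⟩ • (⊤ : Submodule Γ(Y, V) Γ(ClSub.idealMod j.ker, V)) := by
  haveI qc1 : (ClSub.idealMod j.ker).IsQuasicoherent := isQuasicoherent_idealMod _
  exact cUV_eq_zero' j (ClSub.idealMod j.ker) hV hU hs n'' h

theorem cP_of_mem {V : Y.Opens} (hV : IsAffineOpen V) (y : Γ(Omega.conormal i, V))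
    (h : y ∈ j.ker.ideal ⟨V, hV⟩ • (⊤ : Submodule Γ(Y, V) Γ(Omega.conormal i, V))) :
    cP i j V y = 0 :=
  cUV_of_mem' j (Omega.conormal i) hV y h

variable (φ₁ : (Scheme.Modules.pullback j).obj (Omega.conormal i) ⟶ Omega.conormal (j ≫ i))
  (hφ₁ : OmegaSh.IsConormalMap (j ≫ i) i (𝟙 X) j φ₁)
  (φ₂ : (Scheme.Modules.pullback (𝟙 Z)).obj (Omega.conormal (j ≫ i)) ⟶ Omega.conormal j)
  (hφ₂ : OmegaSh.IsConormalMap j (j ≫ i) i (𝟙 Z) φ₂)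

include hφ₁ hφ₂ in
theorem comp_zero_sections {W : X.Opens} (G : Good i j W)
    (x : Γ((Scheme.Modules.pullback j).obj (Omega.conormal i), j ⁻¹ᵁ (i ⁻¹ᵁ W))) :
    (φ₁ ≫ ((Scheme.Modules.pullbackId Z).inv.app (Omega.conormal (j ≫ i)) ≫ φ₂)).app
      (j ⁻¹ᵁ (i ⁻¹ᵁ W)) x = 0 := by
  have hW := G.hW
  obtain ⟨y, rfl⟩ := cP_surj i j G.hV G.hU G.hsj x
  obtain ⟨n, rfl⟩ := cY_surj i j G y
  have hnI := TensH8.idealModι_mem i.ker hW n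
  obtain ⟨n', hn'⟩ := TensH8.exists_idealMod_section (j ≫ i).ker hW _ (I_le_K i j G hnI)
  show ((Scheme.Modules.pullbackId Z).inv.app (Omega.conormal (j ≫ i)) ≫ φ₂).app
    (j ⁻¹ᵁ (i ⁻¹ᵁ W)) (φ₁.app (j ⁻¹ᵁ (i ⁻¹ᵁ W)) (cP i j (i ⁻¹ᵁ W) (cY i W n))) = 0
  rw [phi1_formula i j φ₁ hφ₁ W n n' hn']
  have hc : OmegaSh.idealSect j.ker (i ⁻¹ᵁ W) 0 =
      (i.app W).hom (OmegaSh.idealSect (j ≫ i).ker W n') := by
    rw [map_zero]
    have h1 : OmegaSh.idealSect (j ≫ i).ker W n' ∈ i.ker.ideal ⟨W, hW⟩ := by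
      have h2 : OmegaSh.idealSect (j ≫ i).ker W n' = OmegaSh.idealSect i.ker W n := hn'
      rw [h2]
      exact hnI
    exact ((ConormTransH7.mem_I_iff i hW _).mp h1).symm
  rw [psi2_formula i j φ₂ hφ₂ W n' 0 hc]
  exact cJ_zero j _

include hφ₁ hφ₂ in
theorem exact_sections {W : X.Opens} (G : Good i j W)
    (m : Γ(Omega.conormal (j ≫ i), j ⁻¹ᵁ (i ⁻¹ᵁ W)))
    (hm : ((Scheme.Modules.pullbackId Z).inv.app (Omega.conormal (j ≫ i)) ≫ φ₂).app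
      (j ⁻¹ᵁ (i ⁻¹ᵁ W)) m = 0) :
    ∃ x : Γ((Scheme.Modules.pullback j).obj (Omega.conormal i), j ⁻¹ᵁ (i ⁻¹ᵁ W)),
      φ₁.app (j ⁻¹ᵁ (i ⁻¹ᵁ W)) x = m := by
  have hW := G.hW
  have hV : IsAffineOpen (i ⁻¹ᵁ W) := G.hV
  obtain ⟨n', rfl⟩ := cZ_surj i j G m
  have hkK := TensH8.idealModι_mem (j ≫ i).ker hW n'
  have hik := (mem_K_iff i j G _).mp hkK
  obtain ⟨n'', hn''⟩ := TensH8.exists_idealMod_section j.ker hV _ hik
  rw [psi2_formula i j φ₂ hφ₂ W n' n'' hn''] at hm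
  have h1 := cJ_eq_zero j hV G.hU G.hsj n'' hm
  have h2 := (ConormTransH7.mem_smul_top_iff j.ker hV _ n'').mp h1
  have h2' : (i.app W).hom (OmegaSh.idealSect (j ≫ i).ker W n') ∈
      j.ker.ideal ⟨i ⁻¹ᵁ W, hV⟩ * j.ker.ideal ⟨i ⁻¹ᵁ W, hV⟩ := by
    have h3 : OmegaSh.idealSect j.ker (i ⁻¹ᵁ W) n'' =
        (i.app W).hom (OmegaSh.idealSect (j ≫ i).ker W n') := hn''
    rw [← h3]
    exact h2
  have h3 : j.ker.ideal ⟨i ⁻¹ᵁ W, hV⟩ * j.ker.ideal ⟨i ⁻¹ᵁ W, hV⟩ =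
      ((j ≫ i).ker.ideal ⟨W, hW⟩ * (j ≫ i).ker.ideal ⟨W, hW⟩).map (i.app W).hom := by
    rw [Ideal.map_mul, map_K i j G]
  rw [h3] at h2'
  obtain ⟨k₂, hk₂, hk₂e⟩ :=
    (Ideal.mem_map_iff_of_surjective _ G.hsi).mp h2'
  have hι : OmegaSh.idealSect (j ≫ i).ker W n' - k₂ ∈ i.ker.ideal ⟨W, hW⟩ := by
    rw [ConormTransH7.mem_I_iff i hW, map_sub, hk₂e, sub_self]
  obtain ⟨nι, hnι⟩ := TensH8.exists_idealMod_section i.ker hW _ hι
  obtain ⟨nι', hnι'⟩ := TensH8.exists_idealMod_section (j ≫ i).ker hW _ (I_le_K i j G hι)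
  obtain ⟨n₂, hn₂⟩ := TensH8.exists_idealMod_section (j ≫ i).ker hW k₂ (Ideal.mul_le_left hk₂)
  have hn₂' : n₂ ∈ (j ≫ i).ker.ideal ⟨W, hW⟩ •
      (⊤ : Submodule Γ(X, W) Γ(ClSub.idealMod (j ≫ i).ker, W)) := by
    refine (ConormTransH7.mem_smul_top_iff (j ≫ i).ker hW _ n₂).mpr ?_
    have h4 : OmegaSh.idealSect (j ≫ i).ker W n₂ = k₂ := hn₂
    rw [h4]
    exact hk₂
  have hsum : n' = nι' + n₂ := by
    apply TensH8.idealModι_injective (j ≫ i).ker W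
    have h4 : OmegaSh.idealSect (j ≫ i).ker W nι' =
        OmegaSh.idealSect (j ≫ i).ker W n' - k₂ := hnι'
    have h5 : OmegaSh.idealSect (j ≫ i).ker W n₂ = k₂ := hn₂
    have h6 : OmegaSh.idealSect (j ≫ i).ker W (nι' + n₂) =
        OmegaSh.idealSect (j ≫ i).ker W n' := by
      rw [map_add, h4, h5, sub_add_cancel]
    exact h6.symm
  refine ⟨cP i j (i ⁻¹ᵁ W) (cY i W nι), ?_⟩
  have hc : OmegaSh.idealSect (j ≫ i).ker W nι' = OmegaSh.idealSect i.ker W nι := by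
    have h4 : OmegaSh.idealSect (j ≫ i).ker W nι' =
        OmegaSh.idealSect (j ≫ i).ker W n' - k₂ := hnι'
    have h5 : OmegaSh.idealSect i.ker W nι = OmegaSh.idealSect (j ≫ i).ker W n' - k₂ := hnι
    rw [h4, h5]
  rw [phi1_formula i j φ₁ hφ₁ W nι nι' hc, hsum, cZ_add, cZ_of_mem i j hW n₂ hn₂', add_zero]

include hφ₂ in
theorem surj_sections {W : X.Opens} (G : Good i j W)
    (y : Γ(Omega.conormal j, j ⁻¹ᵁ (i ⁻¹ᵁ W))) :
    ∃ m : Γ(Omega.conormal (j ≫ i), j ⁻¹ᵁ (i ⁻¹ᵁ W)),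
      ((Scheme.Modules.pullbackId Z).inv.app (Omega.conormal (j ≫ i)) ≫ φ₂).app
        (j ⁻¹ᵁ (i ⁻¹ᵁ W)) m = y := by
  have hW := G.hW
  have hV : IsAffineOpen (i ⁻¹ᵁ W) := G.hV
  obtain ⟨n'', rfl⟩ := cJ_surj j hV G.hU G.hsj y
  have hκ := TensH8.idealModι_mem j.ker hV n''
  obtain ⟨k, hk⟩ := G.hsi (OmegaSh.idealSect j.ker (i ⁻¹ᵁ W) n'')
  have hkK : k ∈ (j ≫ i).ker.ideal ⟨W, hW⟩ := by
    rw [mem_K_iff i j G]
    have h1 : (i.app W).hom k = OmegaSh.idealSect j.ker (i ⁻¹ᵁ W) n'' := hk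
    rw [h1]
    exact hκ
  obtain ⟨n', hn'⟩ := TensH8.exists_idealMod_section (j ≫ i).ker hW k hkK
  refine ⟨cZ i j W n', ?_⟩
  refine psi2_formula i j φ₂ hφ₂ W n' n'' ?_
  have h1 : OmegaSh.idealSect (j ≫ i).ker W n' = k := hn'
  rw [h1]
  exact hk.symm

include hφ₁ in
theorem inj_sections {W : X.Opens} (G : Good i j W) (rs : List Γ(Y, i ⁻¹ᵁ W))
    (hrs : CAlgX.IsH1Regular rs.get)
    (hKbar : j.ker.ideal ⟨i ⁻¹ᵁ W, G.hV⟩ = Ideal.ofList rs)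
    (x : Γ((Scheme.Modules.pullback j).obj (Omega.conormal i), j ⁻¹ᵁ (i ⁻¹ᵁ W)))
    (hx : φ₁.app (j ⁻¹ᵁ (i ⁻¹ᵁ W)) x = 0) : x = 0 := by
  have hW := G.hW
  have hV : IsAffineOpen (i ⁻¹ᵁ W) := G.hV
  obtain ⟨y, rfl⟩ := cP_surj i j hV G.hU G.hsj x
  obtain ⟨n, rfl⟩ := cY_surj i j G y
  have hnI := TensH8.idealModι_mem i.ker hW n
  obtain ⟨n', hn'⟩ := TensH8.exists_idealMod_section (j ≫ i).ker hW _ (I_le_K i j G hnI)
  rw [phi1_formula i j φ₁ hφ₁ W n n' hn'] at hx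
  have h1 := cZ_eq_zero i j G n' hx
  have h2 := (ConormTransH7.mem_smul_top_iff (j ≫ i).ker hW _ n').mp h1
  have h2' : OmegaSh.idealSect i.ker W n ∈
      (j ≫ i).ker.ideal ⟨W, hW⟩ * (j ≫ i).ker.ideal ⟨W, hW⟩ := by
    have h3 : OmegaSh.idealSect (j ≫ i).ker W n' = OmegaSh.idealSect i.ker W n := hn'
    rw [← h3]
    exact h2
  have hI : i.ker.ideal ⟨W, hW⟩ = RingHom.ker (i.app W).hom := Scheme.Hom.ker_apply i ⟨W, hW⟩
  have hK : (j ≫ i).ker.ideal ⟨W, hW⟩ =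
      (Ideal.span (Set.range rs.get)).comap (i.app W).hom := by
    rw [K_eq_comap i j G, hKbar, ConormTransH7.ofList_eq_span_range]
  have h3 := ConormTransH7.inf_sq_le_mul (i.app W).hom G.hsi rs.get hrs _ _ hI hK _ hnI h2'
  have h4 : n ∈ (j ≫ i).ker.ideal ⟨W, hW⟩ •
      (⊤ : Submodule Γ(X, W) Γ(ClSub.idealMod i.ker, W)) := by
    refine (ConormTransH7.mem_smul_top_iff i.ker hW _ n).mpr ?_
    rw [mul_comm]
    exact h3
  have h5 : cY i W n ∈ j.ker.ideal ⟨i ⁻¹ᵁ W, hV⟩ •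
      (⊤ : Submodule Γ(Y, i ⁻¹ᵁ W) Γ(Omega.conormal i, i ⁻¹ᵁ W)) := by
    refine Submodule.smul_induction_on
      (p := fun n => cY i W n ∈ j.ker.ideal ⟨i ⁻¹ᵁ W, hV⟩ •
          (⊤ : Submodule Γ(Y, i ⁻¹ᵁ W) Γ(Omega.conormal i, i ⁻¹ᵁ W))) h4 ?_ ?_
    · intro r hr m _
      show cY i W (r • m) ∈ _
      rw [cY_smul]
      exact Submodule.smul_mem_smul ((mem_K_iff i j G r).mp hr) Submodule.mem_top
    · intro a b ha hb
      show cY i W (a + b) ∈ _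
      rw [cY_add]
      exact Submodule.add_mem _ ha hb
  exact cP_of_mem i j hV _ h5

end Two

section Main

variable {X Y Z : Scheme.{u}} (i : Y ⟶ X) (j : Z ⟶ Y)

/-- `H_1`-regular generation of the ideal of `j` over an affine open. -/
def RegAt (V : Y.Opens) (hV : IsAffineOpen V) : Prop :=
  ∃ rs : List Γ(Y, V), CAlgX.IsH1Regular rs.get ∧ j.ker.ideal ⟨V, hV⟩ = Ideal.ofList rs

theorem regAt_basicOpen {V₀ : Y.Opens} (hV₀ : IsAffineOpen V₀) (H : RegAt j V₀ hV₀)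
    (g : Γ(Y, V₀)) : RegAt j (Y.basicOpen g) (hV₀.basicOpen g) := by
  obtain ⟨rs, hrs, hK⟩ := H
  refine ⟨rs.map (Y.presheaf.map (homOfLE (Y.basicOpen_le g)).op).hom,
    Groth.Agent.Lib.RegKindFlat.h1_map_of_flat _ (ConormTransH7.flat_res hV₀ g) rs hrs, ?_⟩
  have h1 := j.ker.map_ideal_basicOpen ⟨V₀, hV₀⟩ g
  rw [hK, Ideal.map_ofList] at h1
  exact h1.symm

/-- Good affine opens form a basis, compatibly with a basic-open-stable property of affine opens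
of `Y` that holds near every point of `Z`. -/
theorem good_basis [IsImmersion i] [IsImmersion j]
    (Q : ∀ V : Y.Opens, IsAffineOpen V → Prop)
    (hQb : ∀ (V : Y.Opens) (hV : IsAffineOpen V) (g : Γ(Y, V)), Q V hV →
      Q (Y.basicOpen g) (hV.basicOpen g))
    (hQ : ∀ z : Z, ∃ (V : Y.Opens) (hV : IsAffineOpen V), j z ∈ V ∧ Q V hV)
    (O : Z.Opens) (z : Z) (hz : z ∈ O) :
    ∃ (W : X.Opens) (G : Good i j W),
      Q (i ⁻¹ᵁ W) G.hV ∧ z ∈ j ⁻¹ᵁ (i ⁻¹ᵁ W) ∧ j ⁻¹ᵁ (i ⁻¹ᵁ W) ≤ O := by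
  have hQe : ∀ (V V' : Y.Opens) (_ : V = V') (hV : IsAffineOpen V) (hV' : IsAffineOpen V'),
      Q V' hV' → Q V hV := by
    intro V V' h hV hV' H
    subst h
    exact H
  obtain ⟨OX, hOX, hOXeq⟩ := (j ≫ i).isEmbedding.isInducing.isOpen_iff.mp O.isOpen
  have hcomp : ∀ z' : Z, (j ≫ i) z' = i (j z') := fun z' => Scheme.Hom.comp_apply j i z'
  have hzOX : i (j z) ∈ (⟨OX, hOX⟩ : X.Opens) := by
    have h0 : z ∈ (j ≫ i) ⁻¹' OX := by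
      rw [hOXeq]
      exact hz
    have h1 : (j ≫ i) z ∈ OX := h0
    rw [hcomp] at h1
    exact h1
  obtain ⟨W₁, hW₁, hzW₁, hW₁O, hV₁, hs₁⟩ :=
    ConormOpenH4.exists_good_affine i (j z) (⟨OX, hOX⟩ : X.Opens) hzOX
  have hzV₁ : j z ∈ i ⁻¹ᵁ W₁ := hzW₁
  obtain ⟨V₀, hV₀, hzV₀, hQV₀⟩ := hQ z
  obtain ⟨V₂, hV₂, hzV₂, hV₂le, hU₂, hs₂⟩ :=
    ConormOpenH4.exists_good_affine j z (i ⁻¹ᵁ W₁ ⊓ V₀) ⟨hzV₁, hzV₀⟩
  -- step A: a basic open of `V₂` which is also a basic open of `V₀`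
  obtain ⟨f₂, g₀, hfg₀, hzf₂⟩ := exists_basicOpen_le_affine_inter hV₂ hV₀ (j z) ⟨hzV₂, hzV₀⟩
  have hV₃ : IsAffineOpen (Y.basicOpen f₂) := hV₂.basicOpen f₂
  have hQ₃ : Q (Y.basicOpen f₂) hV₃ :=
    hQe _ _ hfg₀ hV₃ (hV₀.basicOpen g₀) (hQb V₀ hV₀ g₀ hQV₀)
  obtain ⟨hU₃, hs₃⟩ := good_basicOpen j hU₂ hs₂ f₂
  -- step B: a basic open of `i⁻¹W₁` which is also a basic open of `V₃`
  obtain ⟨f₁, g₃, hfg₃, hzf₁⟩ := exists_basicOpen_le_affine_inter hV₁ hV₃ (j z) ⟨hzV₁, hzf₂⟩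
  obtain ⟨a, ha⟩ := hs₁ f₁
  have hpre : i ⁻¹ᵁ (X.basicOpen a) = Y.basicOpen g₃ := by
    rw [Scheme.preimage_basicOpen]
    have h0 : (i.app W₁) a = f₁ := ha
    rw [h0, hfg₃]
  obtain ⟨hV₄, hs₄⟩ := good_basicOpen i hV₁ hs₁ a
  have hV₅ : IsAffineOpen (Y.basicOpen g₃) := hV₃.basicOpen g₃
  have hQ₅ : Q (Y.basicOpen g₃) hV₅ := hQb _ hV₃ g₃ hQ₃
  obtain ⟨hU₅, hs₅⟩ := good_basicOpen j hU₃ hs₃ g₃
  have hGood : Good i j (X.basicOpen a) := by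
    refine ⟨hW₁.basicOpen a, hV₄, hs₄, ?_, ?_⟩
    · rw [hpre]
      exact hU₅
    · rw [hpre]
      exact hs₅
  refine ⟨X.basicOpen a, hGood, hQe _ _ hpre hGood.hV hV₅ hQ₅, ?_, ?_⟩
  · show j z ∈ i ⁻¹ᵁ (X.basicOpen a)
    rw [hpre, ← hfg₃]
    exact hzf₁
  · intro z' hz'
    have h1 : i (j z') ∈ W₁ := X.basicOpen_le a hz'
    have h2 : (j ≫ i) z' ∈ OX := by
      rw [hcomp]
      exact hW₁O h1
    have h3 : z' ∈ (j ≫ i) ⁻¹' OX := h2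
    rw [hOXeq] at h3
    exact h3

/-- The basis of opens of `Z` used to check exactness. -/
def PGood (U : Z.Opens) : Prop :=
  ∃ (W : X.Opens), Good i j W ∧ U = j ⁻¹ᵁ (i ⁻¹ᵁ W)

/-- The basis of opens of `Z` used to check short exactness. -/
def PReg (U : Z.Opens) : Prop :=
  ∃ (W : X.Opens) (G : Good i j W), U = j ⁻¹ᵁ (i ⁻¹ᵁ W) ∧ RegAt j (i ⁻¹ᵁ W) G.hV

theorem PGood_basis [IsImmersion i] [IsImmersion j] (O : Z.Opens) (z : Z) (hz : z ∈ O) :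
    ∃ U : Z.Opens, PGood i j U ∧ z ∈ U ∧ U ≤ O := by
  have hQ : ∀ z : Z, ∃ (V : Y.Opens) (_ : IsAffineOpen V), j z ∈ V ∧ True := by
    intro z
    obtain ⟨_, ⟨V, hV : IsAffineOpen V, rfl⟩, hzV, -⟩ :=
      (Y.isBasis_affineOpens).exists_subset_of_mem_open (Set.mem_univ (j z)) isOpen_univ
    exact ⟨V, hV, hzV, trivial⟩
  obtain ⟨W, G, -, h1, h2⟩ := good_basis i j (fun _ _ => True) (fun _ _ _ _ => trivial) hQ O z hz
  exact ⟨_, ⟨W, G, rfl⟩, h1, h2⟩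

theorem PReg_basis [IsImmersion i] [IsImmersion j] [QuasiCompact j]
    (hj : RegImm.IsRegularImmersion RegImm.Kind.h1 j) (O : Z.Opens) (z : Z) (hz : z ∈ O) :
    ∃ U : Z.Opens, PReg i j U ∧ z ∈ U ∧ U ≤ O := by
  have hQ : ∀ z : Z, ∃ (V : Y.Opens) (hV : IsAffineOpen V), j z ∈ V ∧ RegAt j V hV := by
    intro z
    obtain ⟨V₀, hzV₀, -, rs₀, hrs₀, hker₀⟩ := hj.2 z
    refine ⟨V₀.1, V₀.2, hzV₀, rs₀, hrs₀, ?_⟩
    rw [Scheme.Hom.ker_apply]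
    exact hker₀
  obtain ⟨W, G, hR, h1, h2⟩ := good_basis i j (fun V hV => RegAt j V hV)
    (fun V hV g H => regAt_basicOpen j hV H g) hQ O z hz
  exact ⟨_, ⟨W, G, rfl, hR⟩, h1, h2⟩

variable [IsImmersion i] [IsImmersion j] [QuasiCompact i] [QuasiCompact j]
  (φ₁ : (Scheme.Modules.pullback j).obj (Omega.conormal i) ⟶ Omega.conormal (j ≫ i))
  (hφ₁ : OmegaSh.IsConormalMap (j ≫ i) i (𝟙 X) j φ₁)
  (φ₂ : (Scheme.Modules.pullback (𝟙 Z)).obj (Omega.conormal (j ≫ i)) ⟶ Omega.conormal j)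
  (hφ₂ : OmegaSh.IsConormalMap j (j ≫ i) i (𝟙 Z) φ₂)

include hφ₁ hφ₂ in
theorem comp_zero :
    φ₁ ≫ ((Scheme.Modules.pullbackId Z).inv.app (Omega.conormal (j ≫ i)) ≫ φ₂) = 0 := by
  refine hom_eq_zero_of_basis (PGood i j) (PGood_basis i j) _ (fun U hU s => ?_)
  obtain ⟨W, G, rfl⟩ := hU
  exact comp_zero_sections i j φ₁ hφ₁ φ₂ hφ₂ G s

include hφ₁ hφ₂ in
theorem exact_mid
    (w : φ₁ ≫ ((Scheme.Modules.pullbackId Z).inv.app (Omega.conormal (j ≫ i)) ≫ φ₂) = 0) :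
    (ShortComplex.mk φ₁
      ((Scheme.Modules.pullbackId Z).inv.app (Omega.conormal (j ≫ i)) ≫ φ₂) w).Exact := by
  refine exact_of_basis (PGood i j) (PGood_basis i j) φ₁ _ w (fun U hU m hm => ?_)
  obtain ⟨W, G, rfl⟩ := hU
  exact exact_sections i j φ₁ hφ₁ φ₂ hφ₂ G m hm

include hφ₂ in
theorem epi_right :
    Epi ((Scheme.Modules.pullbackId Z).inv.app (Omega.conormal (j ≫ i)) ≫ φ₂) := by
  refine epi_of_surjective_basis _ (PGood i j) (PGood_basis i j) (fun U hU y => ?_)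
  obtain ⟨W, G, rfl⟩ := hU
  exact surj_sections i j φ₂ hφ₂ G y

include hφ₁ in
theorem mono_left (hj : RegImm.IsRegularImmersion RegImm.Kind.h1 j) : Mono φ₁ := by
  refine mono_of_injective_basis φ₁ (PReg i j) (PReg_basis i j hj) (fun U hU => ?_)
  obtain ⟨W, G, rfl, rs, hrs, hK⟩ := hU
  intro s t hst
  have hs : φ₁.app (j ⁻¹ᵁ (i ⁻¹ᵁ W)) (s - t) = 0 := by
    rw [map_sub, hst, sub_self]
  exact sub_eq_zero.mp (inj_sections i j φ₁ hφ₁ G rs hrs hK _ hs)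

include hφ₁ hφ₂ in
theorem main5974 :
    Epi φ₂ ∧ imageSubobject φ₁ =
      kernelSubobject ((Scheme.Modules.pullbackId Z).inv.app (Omega.conormal (j ≫ i)) ≫ φ₂) := by
  have w := comp_zero i j φ₁ hφ₁ φ₂ hφ₂
  have hex := exact_mid i j φ₁ hφ₁ φ₂ hφ₂ w
  haveI hepi := epi_right i j φ₂ hφ₂
  refine ⟨epi_of_epi ((Scheme.Modules.pullbackId Z).inv.app (Omega.conormal (j ≫ i))) φ₂, ?_⟩
  exact (ShortComplex.exact_iff_image_eq_kernel _).mp hex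

end Main

end Groth.Agent.Lib.ConormTrans3H7
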