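import Mathlib
import Groth.Prelude
import Groth.Agent.Lib.ConormBC1_helper7
import Groth.Agent.Lib.ConormTrans3_helper7

/-!
# The conormal map of a cartesian square is surjective, and bijective for flat base change (helper7)
APPEND-ONLY once landed.
-/

set_option autoImplicit false
set_option linter.style.haveILetI false

universe u

open CategoryTheory CategoryTheory.Limits AlgebraicGeometry Opposite TopologicalSpace
open AlgebraicGeometry.Scheme.Modules TensorProduct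

namespace Groth.Agent.Lib.ConormBCH7

open Groth.Agent.Lib.GrpdOmegaH7

section Algebra

/-- In a pushout square of commutative rings with `p'` surjective, the kernel of the opposite map
is the extension of the kernel of `p'`. -/
theorem ker_eq_map_of_isPushout {A' A B' B : CommRingCat.{u}} (a : A' ⟶ A) (p' : A' ⟶ B')
    (p : A ⟶ B) (b : B' ⟶ B) (h : IsPushout a p' p b) (hp' : Function.Surjective p'.hom) :
    RingHom.ker p.hom = Ideal.map a.hom (RingHom.ker p'.hom) := by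
  apply le_antisymm
  · intro x hx
    let K : Ideal A := Ideal.map a.hom (RingHom.ker p'.hom)
    let q : A →+* A ⧸ K := Ideal.Quotient.mk K
    have hker : RingHom.ker p'.hom ≤ RingHom.ker (q.comp a.hom) := by
      intro y hy
      rw [RingHom.mem_ker, RingHom.comp_apply]
      exact Ideal.Quotient.eq_zero_iff_mem.mpr (Ideal.mem_map_of_mem _ hy)
    let c : B' →+* A ⧸ K := (p'.hom.liftOfSurjective hp') ⟨q.comp a.hom, hker⟩
    have hc : ∀ y, c (p'.hom y) = q (a.hom y) := fun y =>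
      RingHom.liftOfSurjective_comp_apply p'.hom hp' ⟨q.comp a.hom, hker⟩ y
    have w : a ≫ CommRingCat.ofHom q = p' ≫ CommRingCat.ofHom c := by
      ext y
      exact (hc y).symm
    have hd : p ≫ h.desc (CommRingCat.ofHom q) (CommRingCat.ofHom c) w = CommRingCat.ofHom q :=
      h.inl_desc _ _ w
    have h1 := congrArg (fun k => k.hom x) hd
    have h2 : q x = (h.desc (CommRingCat.ofHom q) (CommRingCat.ofHom c) w).hom (p.hom x) :=
      h1.symm
    have hx0 : p.hom x = 0 := hx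
    rw [hx0, map_zero] at h2
    exact Ideal.Quotient.eq_zero_iff_mem.mp h2
  · rw [Ideal.map_le_iff_le_comap]
    intro y hy
    have hy0 : p'.hom y = 0 := hy
    have h1 := congrArg (fun k => k.hom y) h.w
    have h2 : p.hom (a.hom y) = b.hom (p'.hom y) := h1
    rw [Ideal.mem_comap, RingHom.mem_ker, h2, hy0, map_zero]

/-- Spanning property of a base change. -/
theorem span_of_isBaseChange {R S M N : Type*} [CommRing R] [CommRing S] [Algebra R S]
    [AddCommGroup M] [Module R M] [AddCommGroup N] [Module R N] [Module S N] [IsScalarTower R S N]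
    (f : M →ₗ[R] N) (h : IsBaseChange S f) (t : N) :
    t ∈ Submodule.span S (Set.range f) :=
  h.inductionOn t (fun t => t ∈ Submodule.span S (Set.range f)) (Submodule.zero_mem _)
    (fun m => Submodule.subset_span ⟨m, rfl⟩) (fun s _ hn => Submodule.smul_mem _ s hn)
    (fun _ _ h1 h2 => Submodule.add_mem _ h1 h2)

/-- Lifting a semilinear map along a flat base change of an ideal-like module. -/
theorem exists_lift_of_flat {A' A : Type u} [CommRing A'] [CommRing A] (a : A' →+* A)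
    (hflat : a.Flat)
    {P' P : Type u} [AddCommGroup P'] [Module A' P'] [AddCommGroup P] [Module A P]
    (ι' : P' →+ A') (hι' : ∀ r x, ι' (r • x) = r * ι' x) (hι'inj : Function.Injective ι')
    (ι : P →+ A) (hι : ∀ r x, ι (r • x) = r * ι x) (hιinj : Function.Injective ι)
    (α : P' →+ P) (hα : ∀ r x, α (r • x) = a r • α x) (hαι : ∀ x, ι (α x) = a (ι' x))
    (hspan : ∀ s : P, s ∈ Submodule.span A (Set.range α))
    (N : Type u) [AddCommGroup N] [Module A N] (k : P' →+ N)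
    (hk : ∀ r x, k (r • x) = a r • k x) :
    ∃ F : P →ₗ[A] N, ∀ x, F (α x) = k x := by
  letI : Algebra A' A := a.toAlgebra
  haveI : Module.Flat A' A := hflat
  letI : Module A' P := Module.compHom P a
  haveI : IsScalarTower A' A P := IsScalarTower.of_algebraMap_smul fun _ _ => rfl
  letI : Module A' N := Module.compHom N a
  haveI : IsScalarTower A' A N := IsScalarTower.of_algebraMap_smul fun _ _ => rfl
  let αL : P' →ₗ[A'] P := { toFun := α, map_add' := α.map_add, map_smul' := hα }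
  let ι'L : P' →ₗ[A'] A' :=
    { toFun := ι', map_add' := ι'.map_add, map_smul' := fun r x => hι' r x }
  let kL : P' →ₗ[A'] N := { toFun := k, map_add' := k.map_add, map_smul' := hk }
  let μ : A ⊗[A'] P' →ₗ[A] P := LinearMap.liftBaseChange A αL
  have hμ : ∀ (r : A) (x : P'), μ (r ⊗ₜ x) = r • α x := fun r x => rfl
  have hinj : Function.Injective μ := by
    have hj : Function.Injective (LinearMap.lTensor A ι'L) :=
      Module.Flat.lTensor_preserves_injective_linearMap ι'L hι'inj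
    have hcomp : ∀ z, ι (μ z) = (TensorProduct.rid A' A) (LinearMap.lTensor A ι'L z) := by
      intro z
      induction z using TensorProduct.induction_on with
      | zero => simp
      | tmul r x =>
          rw [hμ, hι, hαι, LinearMap.lTensor_tmul, TensorProduct.rid_tmul, Algebra.smul_def,
            mul_comm]
          rfl
      | add z w hz hw => rw [map_add, map_add, map_add, map_add, hz, hw]
    intro z w hzw
    apply hj
    apply (TensorProduct.rid A' A).injective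
    rw [← hcomp, ← hcomp, hzw]
  have hsurj : Function.Surjective μ := by
    intro s
    have hle : Submodule.span A (Set.range α) ≤ LinearMap.range μ := by
      refine Submodule.span_le.mpr ?_
      rintro _ ⟨x, rfl⟩
      exact ⟨1 ⊗ₜ x, by rw [hμ, one_smul]⟩
    exact hle (hspan s)
  let e : A ⊗[A'] P' ≃ₗ[A] P := LinearEquiv.ofBijective μ ⟨hinj, hsurj⟩
  refine ⟨(LinearMap.liftBaseChange A kL).comp e.symm.toLinearMap, fun x => ?_⟩
  have h1 : e.symm (α x) = 1 ⊗ₜ x := by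
    rw [LinearEquiv.symm_apply_eq]
    show α x = μ (1 ⊗ₜ x)
    rw [hμ, one_smul]
  show (LinearMap.liftBaseChange A kL) (e.symm (α x)) = k x
  rw [h1, LinearMap.liftBaseChange_tmul, one_smul]
  rfl

/-- The key injectivity statement: a linear map between two base changes of the same module
compatible with the canonical maps is injective. -/
theorem injective_of_baseChange
    {A' A B : Type u} [CommRing A'] [CommRing A] [CommRing B] (a : A' →+* A) (p : A →+* B)
    {P' P R Q : Type u} [AddCommGroup P'] [Module A' P'] [AddCommGroup P] [Module A P]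
    [AddCommGroup R] [Module B R] [AddCommGroup Q] [Module B Q]
    (α : P' →+ P)
    (γ : P' →+ R) (hγ : ∀ r x, γ (r • x) = p (a r) • γ x)
    (c : P →+ Q)
    (φ : R →ₗ[B] Q) (hφ : ∀ x, φ (γ x) = c (α x))
    (hspan : ∀ t : R, t ∈ Submodule.span B (Set.range γ))
    (H1 : ∀ (N : Type u) [AddCommGroup N] [Module A N] (k : P' →+ N),
      (∀ r x, k (r • x) = a r • k x) → ∃ F : P →ₗ[A] N, ∀ x, F (α x) = k x)
    (H2 : ∀ (N : Type u) [AddCommGroup N] [Module B N] (k : P →+ N),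
      (∀ r x, k (r • x) = p r • k x) → ∃ F : Q →ₗ[B] N, ∀ x, F (c x) = k x) :
    Function.Injective φ := by
  letI : Module A R := Module.compHom R p
  obtain ⟨F₁, hF₁⟩ := H1 R γ (fun r x => hγ r x)
  obtain ⟨F₂, hF₂⟩ := H2 R F₁.toAddMonoidHom (fun r x => F₁.map_smul r x)
  have key : ∀ t : R, F₂ (φ t) = t := by
    intro t
    refine Submodule.span_induction (p := fun t _ => F₂ (φ t) = t) ?_ ?_ ?_ ?_ (hspan t)
    · rintro _ ⟨x, rfl⟩
      rw [hφ, hF₂]
      exact hF₁ x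
    · simp
    · intro x y _ _ hx hy
      rw [map_add, map_add, hx, hy]
    · intro r x _ hx
      rw [LinearMap.map_smul, LinearMap.map_smul, hx]
  exact Function.LeftInverse.injective key

end Algebra

section CUV

variable {X Y : Scheme.{u}} (f : X ⟶ Y) (F : Y.Modules) [F.IsQuasicoherent]
  {U : X.Opens} {V : Y.Opens} (h : U ≤ f ⁻¹ᵁ V) (hU : IsAffineOpen U) (hV : IsAffineOpen V)

include hU hV in
theorem span_cUV (t : Γ((Scheme.Modules.pullback f).obj F, U)) :
    t ∈ Submodule.span Γ(X, U) (Set.range (PBH8.cUV f F h)) := by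
  letI := (f.appLE V U h).hom.toAlgebra
  letI : Module Γ(Y, V) Γ((Scheme.Modules.pullback f).obj F, U) :=
    Module.compHom _ (f.appLE V U h).hom
  haveI : IsScalarTower Γ(Y, V) Γ(X, U) Γ((Scheme.Modules.pullback f).obj F, U) :=
    IsScalarTower.of_algebraMap_smul fun _ _ => rfl
  have bc := PBH8.isBaseChange_cUV f F h hU hV
  exact span_of_isBaseChange (PBH8.cUVLin f F h) bc t

include hU hV in
theorem exists_lift_cUV (N : Type u) [AddCommGroup N] [Module Γ(X, U) N] (k : Γ(F, V) →+ N)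
    (hk : ∀ (r : Γ(Y, V)) (x : Γ(F, V)), k (r • x) = (f.appLE V U h).hom r • k x) :
    ∃ L : Γ((Scheme.Modules.pullback f).obj F, U) →ₗ[Γ(X, U)] N,
      ∀ x, L (PBH8.cUV f F h x) = k x := by
  letI := (f.appLE V U h).hom.toAlgebra
  letI : Module Γ(Y, V) Γ((Scheme.Modules.pullback f).obj F, U) :=
    Module.compHom _ (f.appLE V U h).hom
  haveI : IsScalarTower Γ(Y, V) Γ(X, U) Γ((Scheme.Modules.pullback f).obj F, U) :=
    IsScalarTower.of_algebraMap_smul fun _ _ => rfl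
  have bc := PBH8.isBaseChange_cUV f F h hU hV
  letI : Module Γ(Y, V) N := Module.compHom N (f.appLE V U h).hom
  haveI : IsScalarTower Γ(Y, V) Γ(X, U) N := IsScalarTower.of_algebraMap_smul fun _ _ => rfl
  let kL : Γ(F, V) →ₗ[Γ(Y, V)] N := { toFun := k, map_add' := k.map_add, map_smul' := hk }
  exact ⟨bc.lift kL, fun x => bc.lift_eq kL x⟩

end CUV

section Sections

variable {Z X Z' X' : Scheme.{u}} (i : Z ⟶ X) (i' : Z' ⟶ X') (g : X ⟶ X') (gZ : Z ⟶ Z')
  [QuasiCompact i] (hw : gZ ≫ i' = i ≫ g)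
  {U' : X'.Opens} {U : X.Opens} (hUU' : U ≤ g ⁻¹ᵁ U')

/-- `s' ↦ (g♯ s')|_U`. -/
noncomputable def alpha : Γ(ClSub.idealMod i'.ker, U') →+ Γ(ClSub.idealMod i.ker, U) :=
  AddMonoidHom.mk'
    (fun s' => (ClSub.idealMod i.ker).presheaf.map (homOfLE hUU').op (aSec i i' g gZ hw U' s'))
    (fun a b => by rw [aSec_add, map_add])

theorem idealSect_alpha (s' : Γ(ClSub.idealMod i'.ker, U')) :
    OmegaSh.idealSect i.ker U (alpha i i' g gZ hw hUU' s') =
      (g.appLE U' U hUU').hom (OmegaSh.idealSect i'.ker U' s') := by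
  have e1 := Groth.Agent.Lib.ConormSeqH4.idealSect_res i.ker hUU' (aSec i i' g gZ hw U' s')
  have e2 := aSec_spec i i' g gZ hw U' s'
  exact e1.trans (congrArg (fun z => (X.presheaf.map (homOfLE hUU').op).hom z) e2)

theorem alpha_smul (r : Γ(X', U')) (s' : Γ(ClSub.idealMod i'.ker, U')) :
    alpha i i' g gZ hw hUU' (r • s') =
      (g.appLE U' U hUU').hom r • alpha i i' g gZ hw hUU' s' := by
  apply idealSect_injective
  rw [idealSect_alpha, idealSect_smul, idealSect_smul, idealSect_alpha, map_mul]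

theorem phi_formula
    (φ : (Scheme.Modules.pullback gZ).obj (Omega.conormal i') ⟶ Omega.conormal i)
    (hφ : OmegaSh.IsConormalMap i i' g gZ φ) {W : Z.Opens}
    (h₁ : W ≤ gZ ⁻¹ᵁ (i' ⁻¹ᵁ U')) (h₂ : W ≤ i ⁻¹ᵁ U) (s' : Γ(ClSub.idealMod i'.ker, U')) :
    φ.app W (PBH8.cUV gZ (Omega.conormal i') h₁ (OmegaSh.conormalSect i' U' s')) =
      PBH8.cUV i (ClSub.idealMod i.ker) h₂ (alpha i i' g gZ hw hUU' s') := by
  have h := hφ.2 U' s' (aSec i i' g gZ hw U' s') (aSec_spec i i' g gZ hw U' s') W h₁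
    (h₂.trans (i.preimage_mono hUU'))
  have l1 : φ.app W (PBH8.cUV gZ (Omega.conormal i') h₁ (OmegaSh.conormalSect i' U' s')) =
      (Omega.conormal i).presheaf.map (homOfLE h₁).op
        (φ.app (gZ ⁻¹ᵁ (i' ⁻¹ᵁ U')) (OmegaSh.pullSect gZ (Omega.conormal i') (i' ⁻¹ᵁ U')
          (OmegaSh.conormalSect i' U' s'))) :=
    QCohCrit.app_naturality φ (homOfLE h₁) _
  have l2 : PBH8.cUV i (ClSub.idealMod i.ker) h₂ (alpha i i' g gZ hw hUU' s') =
      (Omega.conormal i).presheaf.map (homOfLE (h₂.trans (i.preimage_mono hUU'))).op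
        (OmegaSh.conormalSect i (g ⁻¹ᵁ U') (aSec i i' g gZ hw U' s')) :=
    Groth.Agent.Lib.ConormSeqH4.cUV_src_res i (ClSub.idealMod i.ker) hUU' h₂
      (aSec i i' g gZ hw U' s')
  exact l1.trans (h.trans l2.symm)

include hw hUU' in
theorem preimage_le' : i ⁻¹ᵁ U ≤ gZ ⁻¹ᵁ (i' ⁻¹ᵁ U') := by
  intro z hz
  have h1 : (gZ ≫ i') z = (i ≫ g) z := by rw [hw]
  have h2 : i' (gZ z) = g (i z) := h1
  show i' (gZ z) ∈ U'
  rw [h2]
  exact hUU' hz

include hw in
theorem square_appLE (r : Γ(X', U')) :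
    (gZ.appLE (i' ⁻¹ᵁ U') (i ⁻¹ᵁ U) (preimage_le' i i' g gZ hw hUU')).hom ((i'.app U').hom r) =
      (i.appLE U (i ⁻¹ᵁ U) le_rfl).hom ((g.appLE U' U hUU').hom r) := by
  have c1 := Scheme.Hom.appLE_comp_appLE gZ i' U' (i' ⁻¹ᵁ U') (i ⁻¹ᵁ U) le_rfl
    (preimage_le' i i' g gZ hw hUU')
  have c2 := Scheme.Hom.appLE_comp_appLE i g U' U (i ⁻¹ᵁ U) hUU' le_rfl
  have c := c1.trans ((OmegaSh.appLE_congr_hom hw _ _).trans c2.symm)
  have e1 : i'.appLE U' (i' ⁻¹ᵁ U') le_rfl = i'.app U' := i'.appLE_eq_app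
  rw [e1] at c
  exact congrArg (fun k => k.hom r) c

variable [QuasiCompact i'] (hpb : IsPullback i gZ g i')
  (φ : (Scheme.Modules.pullback gZ).obj (Omega.conormal i') ⟶ Omega.conormal i)
  (hφ : OmegaSh.IsConormalMap i i' g gZ φ)
  (hU' : IsAffineOpen U') (hV' : IsAffineOpen (i' ⁻¹ᵁ U'))
  (hs' : Function.Surjective (i'.app U').hom)
  (hU : IsAffineOpen U) (hW : IsAffineOpen (i ⁻¹ᵁ U)) (hs : Function.Surjective (i.app U).hom)

include hw hpb hU' hV' hs' hU in
theorem ker_eq :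
    RingHom.ker (i.app U).hom =
      Ideal.map (g.appLE U' U hUU').hom (RingHom.ker (i'.app U').hom) := by
  have hWV' := preimage_le' i i' g gZ hw hUU'
  have hUY : i ⁻¹ᵁ U = i ⁻¹ᵁ U ⊓ gZ ⁻¹ᵁ (i' ⁻¹ᵁ U') := (inf_eq_left.mpr hWV').symm
  have hpo := (isIso_pushoutSection_iff hpb (le_refl (i' ⁻¹ᵁ U')) hUU' hUY).mp
    (isIso_pushoutSection_of_isAffineOpen hpb (le_refl (i' ⁻¹ᵁ U')) hUU' hUY hU' hV' hU)
  have e1 : i'.appLE U' (i' ⁻¹ᵁ U') le_rfl = i'.app U' := i'.appLE_eq_app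
  have e2 : i.appLE U (i ⁻¹ᵁ U) le_rfl = i.app U := i.appLE_eq_app
  have hsurj : Function.Surjective (i'.appLE U' (i' ⁻¹ᵁ U') le_rfl).hom := by
    rw [e1]
    exact hs'
  have k1 : RingHom.ker (i.appLE U (i ⁻¹ᵁ U) le_rfl).hom =
      Ideal.map (g.appLE U' U hUU').hom (RingHom.ker (i'.appLE U' (i' ⁻¹ᵁ U') le_rfl).hom) :=
    ker_eq_map_of_isPushout _ _ _ _ hpo hsurj
  rw [e1, e2] at k1
  exact k1

include hpb hU' hV' hs' hU in
theorem mem_span_alpha (s : Γ(ClSub.idealMod i.ker, U)) :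
    s ∈ Submodule.span Γ(X, U) (Set.range (alpha i i' g gZ hw hUU')) := by
  have hx : OmegaSh.idealSect i.ker U s ∈
      Ideal.map (g.appLE U' U hUU').hom (RingHom.ker (i'.app U').hom) := by
    rw [← ker_eq i i' g gZ hw hUU' hpb hU' hV' hs' hU]
    exact (RingHom.mem_ker).mpr (app_idealSect_eq_zero i U s)
  have hx' : OmegaSh.idealSect i.ker U s ∈ Submodule.span Γ(X, U)
      ((g.appLE U' U hUU').hom '' (RingHom.ker (i'.app U').hom : Set Γ(X', U'))) := hx
  have key : ∀ x ∈ Submodule.span Γ(X, U)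
      ((g.appLE U' U hUU').hom '' (RingHom.ker (i'.app U').hom : Set Γ(X', U'))),
      ∃ s₁ ∈ Submodule.span Γ(X, U) (Set.range (alpha i i' g gZ hw hUU')),
        OmegaSh.idealSect i.ker U s₁ = x := by
    intro x hx
    refine Submodule.span_induction
      (p := fun x _ => ∃ s₁ ∈ Submodule.span Γ(X, U) (Set.range (alpha i i' g gZ hw hUU')),
        OmegaSh.idealSect i.ker U s₁ = x) ?_ ?_ ?_ ?_ hx
    · rintro _ ⟨x', hx', rfl⟩
      obtain ⟨s', hs'e⟩ := TensH8.exists_idealMod_section i'.ker hU' x'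
        (by rw [Scheme.Hom.ker_apply]; exact hx')
      have hs'e' : OmegaSh.idealSect i'.ker U' s' = x' := hs'e
      exact ⟨alpha i i' g gZ hw hUU' s', Submodule.subset_span ⟨s', rfl⟩, by
        rw [idealSect_alpha, hs'e']⟩
    · exact ⟨0, Submodule.zero_mem _, map_zero _⟩
    · rintro x y _ _ ⟨s₁, h₁, e₁⟩ ⟨s₂, h₂, e₂⟩
      exact ⟨s₁ + s₂, Submodule.add_mem _ h₁ h₂, by rw [map_add, e₁, e₂]⟩
    · rintro r x _ ⟨s₁, h₁, e₁⟩
      exact ⟨r • s₁, Submodule.smul_mem _ r h₁, by rw [idealSect_smul, e₁]; rfl⟩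
  obtain ⟨s₁, h₁, e₁⟩ := key _ hx'
  rwa [idealSect_injective _ _ e₁] at h₁

include hw hUU' hpb hφ hU' hV' hs' hU hW hs in
theorem surjective_app : Function.Surjective (φ.app (i ⁻¹ᵁ U)) := by
  haveI qc1 : (ClSub.idealMod i.ker).IsQuasicoherent :=
    Groth.Agent.Lib.OmegaAffH4.isQuasicoherent_idealMod _
  intro y
  obtain ⟨s, rfl⟩ := Groth.Agent.Lib.ConormTrans3H7.cUV_surjective' i (ClSub.idealMod i.ker)
    hU hW hs y
  have hmem := mem_span_alpha i i' g gZ hw hUU' hpb hU' hV' hs' hU s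
  refine Submodule.span_induction
    (p := fun s _ => ∃ t, φ.app (i ⁻¹ᵁ U) t =
      PBH8.cUV i (ClSub.idealMod i.ker) (le_refl (i ⁻¹ᵁ U)) s) ?_ ?_ ?_ ?_ hmem
  · rintro _ ⟨s', rfl⟩
    exact ⟨_, phi_formula i i' g gZ hw hUU' φ hφ (preimage_le' i i' g gZ hw hUU') (le_refl _) s'⟩
  · exact ⟨0, (map_zero (φ.app (i ⁻¹ᵁ U)).hom).trans
      (Groth.Agent.Lib.ConormSeqH4.cUV_zero i (ClSub.idealMod i.ker) (le_refl (i ⁻¹ᵁ U))).symm⟩
  · rintro a b _ _ ⟨t₁, e₁⟩ ⟨t₂, e₂⟩
    exact ⟨t₁ + t₂, (map_add (φ.app (i ⁻¹ᵁ U)).hom t₁ t₂).trans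
      ((congrArg₂ (fun x y => x + y) e₁ e₂).trans
        (PBH8.cUV_add i (ClSub.idealMod i.ker) (le_refl (i ⁻¹ᵁ U)) a b).symm)⟩
  · rintro r a _ ⟨t, e⟩
    exact ⟨(i.appLE U (i ⁻¹ᵁ U) le_rfl).hom r • t,
      (Scheme.Modules.Hom.app_smul φ ((i.appLE U (i ⁻¹ᵁ U) le_rfl).hom r) t).trans
        ((congrArg (fun z => (i.appLE U (i ⁻¹ᵁ U) le_rfl).hom r • z) e).trans
          (PBH8.cUV_smul i (ClSub.idealMod i.ker) (le_refl (i ⁻¹ᵁ U)) r a).symm)⟩

include hw hUU' hpb hφ hU' hV' hs' hU hW hs in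
theorem injective_app [Flat g] : Function.Injective (φ.app (i ⁻¹ᵁ U)) := by
  haveI qc1 : (ClSub.idealMod i.ker).IsQuasicoherent :=
    Groth.Agent.Lib.OmegaAffH4.isQuasicoherent_idealMod _
  haveI qc1' : (ClSub.idealMod i'.ker).IsQuasicoherent :=
    Groth.Agent.Lib.OmegaAffH4.isQuasicoherent_idealMod _
  haveI qc2' : (Omega.conormal i').IsQuasicoherent := by
    unfold Omega.conormal
    infer_instance
  have hWV' := preimage_le' i i' g gZ hw hUU'
  -- the linear map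
  let φL : Γ((Scheme.Modules.pullback gZ).obj (Omega.conormal i'), i ⁻¹ᵁ U) →ₗ[Γ(Z, i ⁻¹ᵁ U)]
      Γ(Omega.conormal i, i ⁻¹ᵁ U) :=
    { toFun := fun t => φ.app (i ⁻¹ᵁ U) t
      map_add' := fun a b => map_add _ a b
      map_smul' := fun r x => Scheme.Modules.Hom.app_smul φ r x }
  let γ : Γ(ClSub.idealMod i'.ker, U') →+
      Γ((Scheme.Modules.pullback gZ).obj (Omega.conormal i'), i ⁻¹ᵁ U) :=
    (AddMonoidHom.mk' (PBH8.cUV gZ (Omega.conormal i') hWV')
      (PBH8.cUV_add gZ (Omega.conormal i') hWV')).comp (OmegaSh.conormalSect i' U').hom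
  let c : Γ(ClSub.idealMod i.ker, U) →+ Γ(Omega.conormal i, i ⁻¹ᵁ U) :=
    AddMonoidHom.mk' (PBH8.cUV i (ClSub.idealMod i.ker) (le_refl (i ⁻¹ᵁ U)))
      (PBH8.cUV_add i (ClSub.idealMod i.ker) (le_refl (i ⁻¹ᵁ U)))
  have hγ : ∀ (r : Γ(X', U')) (x : Γ(ClSub.idealMod i'.ker, U')),
      γ (r • x) = (i.appLE U (i ⁻¹ᵁ U) le_rfl).hom ((g.appLE U' U hUU').hom r) • γ x := by
    intro r x
    have e1 : OmegaSh.conormalSect i' U' (r • x) =
        (i'.app U').hom r • OmegaSh.conormalSect i' U' x :=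
      Scheme.Modules.Hom.app_smul
        ((pullbackPushforwardAdjunction i').unit.app (ClSub.idealMod i'.ker)) r x
    have e2 := PBH8.cUV_smul gZ (Omega.conormal i') hWV' ((i'.app U').hom r)
      (OmegaSh.conormalSect i' U' x)
    have e3 := square_appLE i i' g gZ hw hUU' r
    show PBH8.cUV gZ (Omega.conormal i') hWV' (OmegaSh.conormalSect i' U' (r • x)) = _
    rw [e1]
    refine e2.trans ?_
    rw [← e3]
    rfl
  have hφL : ∀ x, φL (γ x) = c (alpha i i' g gZ hw hUU' x) := fun x =>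
    phi_formula i i' g gZ hw hUU' φ hφ hWV' (le_refl _) x
  have hspan : ∀ t : Γ((Scheme.Modules.pullback gZ).obj (Omega.conormal i'), i ⁻¹ᵁ U),
      t ∈ Submodule.span Γ(Z, i ⁻¹ᵁ U) (Set.range γ) := by
    intro t
    refine Submodule.span_mono ?_ (span_cUV gZ (Omega.conormal i') hWV' hW hV' t)
    rintro _ ⟨y, rfl⟩
    obtain ⟨s', hs'e⟩ := Groth.Agent.Lib.ConormTrans3H7.cUV_surjective' i'
      (ClSub.idealMod i'.ker) hU' hV' hs' y
    refine ⟨s', ?_⟩
    show PBH8.cUV gZ (Omega.conormal i') hWV' (OmegaSh.conormalSect i' U' s') =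
      PBH8.cUV gZ (Omega.conormal i') hWV' y
    rw [← hs'e, Groth.Agent.Lib.ConormDiffH4.cUV_rfl]
    rfl
  have H1 : ∀ (N : Type u) [AddCommGroup N] [Module Γ(X, U) N]
      (k : Γ(ClSub.idealMod i'.ker, U') →+ N),
      (∀ r x, k (r • x) = (g.appLE U' U hUU').hom r • k x) →
      ∃ F : Γ(ClSub.idealMod i.ker, U) →ₗ[Γ(X, U)] N,
        ∀ x, F (alpha i i' g gZ hw hUU' x) = k x := by
    intro N _ _ k hk
    exact exists_lift_of_flat (g.appLE U' U hUU').hom (g.flat_appLE hU' hU hUU')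
      (OmegaSh.idealSect i'.ker U') (idealSect_smul i'.ker U') (idealSect_injective i'.ker U')
      (OmegaSh.idealSect i.ker U) (idealSect_smul i.ker U) (idealSect_injective i.ker U)
      (alpha i i' g gZ hw hUU') (alpha_smul i i' g gZ hw hUU')
      (idealSect_alpha i i' g gZ hw hUU')
      (mem_span_alpha i i' g gZ hw hUU' hpb hU' hV' hs' hU) N k hk
  have H2 : ∀ (N : Type u) [AddCommGroup N] [Module Γ(Z, i ⁻¹ᵁ U) N]
      (k : Γ(ClSub.idealMod i.ker, U) →+ N),
      (∀ r x, k (r • x) = (i.appLE U (i ⁻¹ᵁ U) le_rfl).hom r • k x) →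
      ∃ F : Γ(Omega.conormal i, i ⁻¹ᵁ U) →ₗ[Γ(Z, i ⁻¹ᵁ U)] N, ∀ x, F (c x) = k x := by
    intro N _ _ k hk
    exact exists_lift_cUV i (ClSub.idealMod i.ker) (le_refl (i ⁻¹ᵁ U)) hW hU N k hk
  exact injective_of_baseChange (g.appLE U' U hUU').hom (i.appLE U (i ⁻¹ᵁ U) le_rfl).hom
    (alpha i i' g gZ hw hUU') γ hγ c φL hφL hspan H1 H2

end Sections

section Main

variable {Z X Z' X' : Scheme.{u}} (i : Z ⟶ X) (i' : Z' ⟶ X') (g : X ⟶ X') (gZ : Z ⟶ Z')

/-- Opens of `Z` adapted to the square. -/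
def GoodBC (W : Z.Opens) : Prop :=
  ∃ (U' : X'.Opens) (U : X.Opens), IsAffineOpen U' ∧ IsAffineOpen (i' ⁻¹ᵁ U') ∧
    Function.Surjective (i'.app U').hom ∧ IsAffineOpen U ∧ U ≤ g ⁻¹ᵁ U' ∧ W = i ⁻¹ᵁ U ∧
    IsAffineOpen (i ⁻¹ᵁ U) ∧ Function.Surjective (i.app U).hom

theorem exists_goodBC [IsImmersion i] [IsImmersion i'] (hw : gZ ≫ i' = i ≫ g) (O : Z.Opens)
    (z : Z) (hz : z ∈ O) : ∃ W : Z.Opens, GoodBC i i' g W ∧ z ∈ W ∧ W ≤ O := by
  obtain ⟨OX, hOX, hOXeq⟩ := i.isEmbedding.isInducing.isOpen_iff.mp O.isOpen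
  have hpt : i' (gZ z) = g (i z) := by
    have h1 : (gZ ≫ i') z = (i ≫ g) z := by rw [hw]
    exact h1
  have hizOX : i z ∈ OX := by
    have : z ∈ i ⁻¹' OX := by rw [hOXeq]; exact hz
    exact this
  obtain ⟨U', hU', hzU', -, hV', hs'⟩ :=
    Groth.Agent.Lib.ConormOpenH4.exists_good_affine i' (gZ z) ⊤ trivial
  have hiz : i z ∈ (⟨OX, hOX⟩ : X.Opens) ⊓ g ⁻¹ᵁ U' := by
    refine ⟨hizOX, ?_⟩
    show g (i z) ∈ U'
    rw [← hpt]
    exact hzU'
  obtain ⟨U, hU, hzU, hUle, hW, hs⟩ :=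
    Groth.Agent.Lib.ConormOpenH4.exists_good_affine i z _ hiz
  refine ⟨i ⁻¹ᵁ U, ⟨U', U, hU', hV', hs', hU, hUle.trans inf_le_right, rfl, hW, hs⟩, hzU, ?_⟩
  intro w hw'
  have h1 : w ∈ i ⁻¹' OX := (hUle hw').1
  rw [hOXeq] at h1
  exact h1

theorem main9372 [IsImmersion i] [IsImmersion i'] [QuasiCompact i] [QuasiCompact i']
    (hsq : IsPullback i gZ g i')
    (φ : (Scheme.Modules.pullback gZ).obj (Omega.conormal i') ⟶ Omega.conormal i)
    (hφ : OmegaSh.IsConormalMap i i' g gZ φ) :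
    Epi φ ∧ (Flat g → IsIso φ) := by
  have hw : gZ ≫ i' = i ≫ g := hφ.1
  have hepi : Epi φ := by
    refine Groth.Agent.Lib.OmegaCompat2H4.epi_of_surjective_basis φ (GoodBC i i' g)
      (exists_goodBC i i' g gZ hw) (fun W hWg => ?_)
    obtain ⟨U', U, hU', hV', hs', hU, hUU', rfl, hW, hs⟩ := hWg
    exact surjective_app i i' g gZ hw hUU' hsq φ hφ hU' hV' hs' hU hW hs
  refine ⟨hepi, fun hflat => ?_⟩
  haveI := hflat
  haveI := hepi
  haveI : Mono φ := by
    refine Groth.Agent.Lib.OmegaCompat2H4.mono_of_injective_basis φ (GoodBC i i' g)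
      (exists_goodBC i i' g gZ hw) (fun W hWg => ?_)
    obtain ⟨U', U, hU', hV', hs', hU, hUU', rfl, hW, hs⟩ := hWg
    exact injective_app i i' g gZ hw hUU' hsq φ hφ hU' hV' hs' hU hW hs
  exact isIso_of_mono_of_epi φ

end Main

end Groth.Agent.Lib.ConormBCH7
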