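import Mathlib
import Groth.Prelude
import Groth.Agent.Lib.ConormBC2_helper7

/-!
# Base change of `i^* 𝓙` for ideal sheaves `𝓙`, `𝓙'` compatible with a cartesian square (helper7)

A generic version of `ConormBC2_helper7` for arbitrary ideal sheaves `J` on `X`, `J'` on `X'`
(e.g. powers of the kernel ideals), used for the graded pieces `Gr_n`.
APPEND-ONLY once landed.
-/

set_option autoImplicit false
set_option linter.style.haveILetI false

universe u

open CategoryTheory CategoryTheory.Limits AlgebraicGeometry Opposite TopologicalSpace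
open AlgebraicGeometry.Scheme.Modules TensorProduct

namespace Groth.Agent.Lib.ConormBCH7

open Groth.Agent.Lib.GrpdOmegaH7

section Generic

variable {Z X Z' X' : Scheme.{u}} (i : Z ⟶ X) (i' : Z' ⟶ X') (g : X ⟶ X') (gZ : Z ⟶ Z')
  [QuasiCompact i] (J : X.IdealSheafData) (J' : X'.IdealSheafData)
  {U' : X'.Opens} {U : X.Opens} (hUU' : U ≤ g ⁻¹ᵁ U')
  (hE : ∀ s' : Γ(ClSub.idealMod J', U'), ∃ s : Γ(ClSub.idealMod J, g ⁻¹ᵁ U'),
    OmegaSh.idealSect J (g ⁻¹ᵁ U') s = (g.app U').hom (OmegaSh.idealSect J' U' s'))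

/-- a chosen section over `g⁻¹ U'` with image `g♯ s'`. -/
noncomputable def eSec (s' : Γ(ClSub.idealMod J', U')) : Γ(ClSub.idealMod J, g ⁻¹ᵁ U') :=
  Classical.choose (hE s')

theorem eSec_spec (s' : Γ(ClSub.idealMod J', U')) :
    OmegaSh.idealSect J (g ⁻¹ᵁ U') (eSec g J J' hE s') =
      (g.app U').hom (OmegaSh.idealSect J' U' s') :=
  Classical.choose_spec (hE s')

/-- `s' ↦ (g♯ s')|_U`. -/
noncomputable def alphaFun (s' : Γ(ClSub.idealMod J', U')) : Γ(ClSub.idealMod J, U) :=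
  (ClSub.idealMod J).presheaf.map (homOfLE hUU').op (eSec g J J' hE s')

theorem idealSect_alphaFun (s' : Γ(ClSub.idealMod J', U')) :
    OmegaSh.idealSect J U (alphaFun g J J' hUU' hE s') =
      (g.appLE U' U hUU').hom (OmegaSh.idealSect J' U' s') := by
  have e1 := Groth.Agent.Lib.ConormSeqH4.idealSect_res J hUU' (eSec g J J' hE s')
  have e2 := eSec_spec g J J' hE s'
  exact e1.trans (congrArg (fun z => (X.presheaf.map (homOfLE hUU').op).hom z) e2)

theorem alphaFun_add (a b : Γ(ClSub.idealMod J', U')) :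
    alphaFun g J J' hUU' hE (a + b) = alphaFun g J J' hUU' hE a + alphaFun g J J' hUU' hE b := by
  apply idealSect_injective
  rw [idealSect_alphaFun, map_add, map_add, map_add, idealSect_alphaFun, idealSect_alphaFun]

/-- `alphaFun` as an additive map. -/
noncomputable def alphaJ : Γ(ClSub.idealMod J', U') →+ Γ(ClSub.idealMod J, U) :=
  AddMonoidHom.mk' (alphaFun g J J' hUU' hE) (alphaFun_add g J J' hUU' hE)

theorem idealSect_alphaJ (s' : Γ(ClSub.idealMod J', U')) :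
    OmegaSh.idealSect J U (alphaJ g J J' hUU' hE s') =
      (g.appLE U' U hUU').hom (OmegaSh.idealSect J' U' s') :=
  idealSect_alphaFun g J J' hUU' hE s'

theorem alphaJ_smul (r : Γ(X', U')) (s' : Γ(ClSub.idealMod J', U')) :
    alphaJ g J J' hUU' hE (r • s') = (g.appLE U' U hUU').hom r • alphaJ g J J' hUU' hE s' := by
  apply idealSect_injective
  rw [idealSect_alphaJ, idealSect_smul, idealSect_smul, idealSect_alphaJ, map_mul]

variable (φ : (Scheme.Modules.pullback gZ).obj ((Scheme.Modules.pullback i').obj (ClSub.idealMod J')) ⟶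
    (Scheme.Modules.pullback i).obj (ClSub.idealMod J))
  (hφ2 : ∀ (U' : X'.Opens) (s' : Γ(ClSub.idealMod J', U'))
    (s : Γ(ClSub.idealMod J, g ⁻¹ᵁ U')),
    OmegaSh.idealSect J (g ⁻¹ᵁ U') s = g.app U' (OmegaSh.idealSect J' U' s') →
    ∀ (V : Z.Opens) (h₁ : V ≤ gZ ⁻¹ᵁ (i' ⁻¹ᵁ U')) (h₂ : V ≤ i ⁻¹ᵁ (g ⁻¹ᵁ U')),
      ((Scheme.Modules.pullback i).obj (ClSub.idealMod J)).presheaf.map (homOfLE h₁).op
          (φ.app (gZ ⁻¹ᵁ (i' ⁻¹ᵁ U'))
            (OmegaSh.pullSect gZ ((Scheme.Modules.pullback i').obj (ClSub.idealMod J'))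
              (i' ⁻¹ᵁ U') (OmegaSh.pullSect i' (ClSub.idealMod J') U' s'))) =
        ((Scheme.Modules.pullback i).obj (ClSub.idealMod J)).presheaf.map (homOfLE h₂).op
          (OmegaSh.pullSect i (ClSub.idealMod J) (g ⁻¹ᵁ U') s))

include hφ2 in
theorem formulaJ {W : Z.Opens} (h₁ : W ≤ gZ ⁻¹ᵁ (i' ⁻¹ᵁ U')) (h₂ : W ≤ i ⁻¹ᵁ U)
    (s' : Γ(ClSub.idealMod J', U')) :
    φ.app W (PBH8.cUV gZ ((Scheme.Modules.pullback i').obj (ClSub.idealMod J')) h₁
        (OmegaSh.pullSect i' (ClSub.idealMod J') U' s')) =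
      PBH8.cUV i (ClSub.idealMod J) h₂ (alphaJ g J J' hUU' hE s') := by
  have h := hφ2 U' s' (eSec g J J' hE s') (eSec_spec g J J' hE s') W h₁
    (h₂.trans (i.preimage_mono hUU'))
  have l1 : φ.app W (PBH8.cUV gZ ((Scheme.Modules.pullback i').obj (ClSub.idealMod J')) h₁
        (OmegaSh.pullSect i' (ClSub.idealMod J') U' s')) =
      ((Scheme.Modules.pullback i).obj (ClSub.idealMod J)).presheaf.map (homOfLE h₁).op
        (φ.app (gZ ⁻¹ᵁ (i' ⁻¹ᵁ U'))
          (OmegaSh.pullSect gZ ((Scheme.Modules.pullback i').obj (ClSub.idealMod J'))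
            (i' ⁻¹ᵁ U') (OmegaSh.pullSect i' (ClSub.idealMod J') U' s'))) :=
    QCohCrit.app_naturality φ (homOfLE h₁) _
  have l2 : PBH8.cUV i (ClSub.idealMod J) h₂ (alphaJ g J J' hUU' hE s') =
      ((Scheme.Modules.pullback i).obj (ClSub.idealMod J)).presheaf.map
        (homOfLE (h₂.trans (i.preimage_mono hUU'))).op
        (OmegaSh.pullSect i (ClSub.idealMod J) (g ⁻¹ᵁ U') (eSec g J J' hE s')) :=
    Groth.Agent.Lib.ConormSeqH4.cUV_src_res i (ClSub.idealMod J) hUU' h₂ (eSec g J J' hE s')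
  exact l1.trans (h.trans l2.symm)

variable (hw : gZ ≫ i' = i ≫ g)
  (hU' : IsAffineOpen U') (hV' : IsAffineOpen (i' ⁻¹ᵁ U'))
  (hs' : Function.Surjective (i'.app U').hom)
  (hU : IsAffineOpen U) (hW : IsAffineOpen (i ⁻¹ᵁ U)) (hs : Function.Surjective (i.app U).hom)
  (hK : J.ideal ⟨U, hU⟩ = Ideal.map (g.appLE U' U hUU').hom (J'.ideal ⟨U', hU'⟩))

include hK in
theorem mem_span_alphaJ (s : Γ(ClSub.idealMod J, U)) :
    s ∈ Submodule.span Γ(X, U) (Set.range (alphaJ g J J' hUU' hE)) := by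
  have hx : OmegaSh.idealSect J U s ∈
      Ideal.map (g.appLE U' U hUU').hom (J'.ideal ⟨U', hU'⟩) := by
    rw [← hK]
    exact TensH8.idealModι_mem J hU s
  have hx' : OmegaSh.idealSect J U s ∈ Submodule.span Γ(X, U)
      ((g.appLE U' U hUU').hom '' (J'.ideal ⟨U', hU'⟩ : Set Γ(X', U'))) := hx
  have key : ∀ x ∈ Submodule.span Γ(X, U)
      ((g.appLE U' U hUU').hom '' (J'.ideal ⟨U', hU'⟩ : Set Γ(X', U'))),
      ∃ s₁ ∈ Submodule.span Γ(X, U) (Set.range (alphaJ g J J' hUU' hE)),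
        OmegaSh.idealSect J U s₁ = x := by
    intro x hx
    refine Submodule.span_induction
      (p := fun x _ => ∃ s₁ ∈ Submodule.span Γ(X, U) (Set.range (alphaJ g J J' hUU' hE)),
        OmegaSh.idealSect J U s₁ = x) ?_ ?_ ?_ ?_ hx
    · rintro _ ⟨x', hx', rfl⟩
      obtain ⟨s', hs'e⟩ := TensH8.exists_idealMod_section J' hU' x' hx'
      have hs'e' : OmegaSh.idealSect J' U' s' = x' := hs'e
      exact ⟨alphaJ g J J' hUU' hE s', Submodule.subset_span ⟨s', rfl⟩, by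
        rw [idealSect_alphaJ, hs'e']⟩
    · exact ⟨0, Submodule.zero_mem _, map_zero _⟩
    · rintro x y _ _ ⟨s₁, h₁, e₁⟩ ⟨s₂, h₂, e₂⟩
      exact ⟨s₁ + s₂, Submodule.add_mem _ h₁ h₂, by rw [map_add, e₁, e₂]⟩
    · rintro r x _ ⟨s₁, h₁, e₁⟩
      exact ⟨r • s₁, Submodule.smul_mem _ r h₁, by rw [idealSect_smul, e₁]; rfl⟩
  obtain ⟨s₁, h₁, e₁⟩ := key _ hx'
  rwa [idealSect_injective _ _ e₁] at h₁

include hE hw hφ2 hW hs hK in
theorem surjective_appJ : Function.Surjective (φ.app (i ⁻¹ᵁ U)) := by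
  haveI qc1 : (ClSub.idealMod J).IsQuasicoherent :=
    Groth.Agent.Lib.OmegaAffH4.isQuasicoherent_idealMod _
  intro y
  obtain ⟨s, rfl⟩ := Groth.Agent.Lib.ConormTrans3H7.cUV_surjective' i (ClSub.idealMod J)
    hU hW hs y
  have hmem := mem_span_alphaJ g J J' hUU' hE hU' hU hK s
  refine Submodule.span_induction
    (p := fun s _ => ∃ t, φ.app (i ⁻¹ᵁ U) t =
      PBH8.cUV i (ClSub.idealMod J) (le_refl (i ⁻¹ᵁ U)) s) ?_ ?_ ?_ ?_ hmem
  · rintro _ ⟨s', rfl⟩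
    exact ⟨_, formulaJ i i' g gZ J J' hUU' hE φ hφ2 (preimage_le' i i' g gZ hw hUU')
      (le_refl _) s'⟩
  · exact ⟨0, (map_zero (φ.app (i ⁻¹ᵁ U)).hom).trans
      (Groth.Agent.Lib.ConormSeqH4.cUV_zero i (ClSub.idealMod J) (le_refl (i ⁻¹ᵁ U))).symm⟩
  · rintro a b _ _ ⟨t₁, e₁⟩ ⟨t₂, e₂⟩
    exact ⟨t₁ + t₂, (map_add (φ.app (i ⁻¹ᵁ U)).hom t₁ t₂).trans
      ((congrArg₂ (fun x y => x + y) e₁ e₂).trans
        (PBH8.cUV_add i (ClSub.idealMod J) (le_refl (i ⁻¹ᵁ U)) a b).symm)⟩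
  · rintro r a _ ⟨t, e⟩
    exact ⟨(i.appLE U (i ⁻¹ᵁ U) le_rfl).hom r • t,
      (Scheme.Modules.Hom.app_smul φ ((i.appLE U (i ⁻¹ᵁ U) le_rfl).hom r) t).trans
        ((congrArg (fun z => (i.appLE U (i ⁻¹ᵁ U) le_rfl).hom r • z) e).trans
          (PBH8.cUV_smul i (ClSub.idealMod J) (le_refl (i ⁻¹ᵁ U)) r a).symm)⟩

include hE hw hφ2 hV' hs' hW hK in
theorem injective_appJ (hflat : (g.appLE U' U hUU').hom.Flat) :
    Function.Injective (φ.app (i ⁻¹ᵁ U)) := by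
  haveI qc1 : (ClSub.idealMod J).IsQuasicoherent :=
    Groth.Agent.Lib.OmegaAffH4.isQuasicoherent_idealMod _
  haveI qc1' : (ClSub.idealMod J').IsQuasicoherent :=
    Groth.Agent.Lib.OmegaAffH4.isQuasicoherent_idealMod _
  have hWV' := preimage_le' i i' g gZ hw hUU'
  let φL : Γ((Scheme.Modules.pullback gZ).obj
      ((Scheme.Modules.pullback i').obj (ClSub.idealMod J')), i ⁻¹ᵁ U) →ₗ[Γ(Z, i ⁻¹ᵁ U)]
      Γ((Scheme.Modules.pullback i).obj (ClSub.idealMod J), i ⁻¹ᵁ U) :=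
    { toFun := fun t => φ.app (i ⁻¹ᵁ U) t
      map_add' := fun a b => map_add _ a b
      map_smul' := fun r x => Scheme.Modules.Hom.app_smul φ r x }
  let γ : Γ(ClSub.idealMod J', U') →+
      Γ((Scheme.Modules.pullback gZ).obj
        ((Scheme.Modules.pullback i').obj (ClSub.idealMod J')), i ⁻¹ᵁ U) :=
    (AddMonoidHom.mk'
      (PBH8.cUV gZ ((Scheme.Modules.pullback i').obj (ClSub.idealMod J')) hWV')
      (PBH8.cUV_add gZ ((Scheme.Modules.pullback i').obj (ClSub.idealMod J')) hWV')).comp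
      (OmegaSh.pullSect i' (ClSub.idealMod J') U').hom
  let c : Γ(ClSub.idealMod J, U) →+
      Γ((Scheme.Modules.pullback i).obj (ClSub.idealMod J), i ⁻¹ᵁ U) :=
    AddMonoidHom.mk' (PBH8.cUV i (ClSub.idealMod J) (le_refl (i ⁻¹ᵁ U)))
      (PBH8.cUV_add i (ClSub.idealMod J) (le_refl (i ⁻¹ᵁ U)))
  have hγ : ∀ (r : Γ(X', U')) (x : Γ(ClSub.idealMod J', U')),
      γ (r • x) = (i.appLE U (i ⁻¹ᵁ U) le_rfl).hom ((g.appLE U' U hUU').hom r) • γ x := by
    intro r x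
    have e1 : OmegaSh.pullSect i' (ClSub.idealMod J') U' (r • x) =
        (i'.app U').hom r • OmegaSh.pullSect i' (ClSub.idealMod J') U' x :=
      Scheme.Modules.Hom.app_smul
        ((pullbackPushforwardAdjunction i').unit.app (ClSub.idealMod J')) r x
    have e2 := PBH8.cUV_smul gZ ((Scheme.Modules.pullback i').obj (ClSub.idealMod J')) hWV'
      ((i'.app U').hom r) (OmegaSh.pullSect i' (ClSub.idealMod J') U' x)
    have e3 := square_appLE i i' g gZ hw hUU' r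
    show PBH8.cUV gZ ((Scheme.Modules.pullback i').obj (ClSub.idealMod J')) hWV'
      (OmegaSh.pullSect i' (ClSub.idealMod J') U' (r • x)) = _
    rw [e1]
    refine e2.trans ?_
    rw [← e3]
    rfl
  have hφL : ∀ x, φL (γ x) = c (alphaJ g J J' hUU' hE x) := fun x =>
    formulaJ i i' g gZ J J' hUU' hE φ hφ2 hWV' (le_refl _) x
  have hspan : ∀ t : Γ((Scheme.Modules.pullback gZ).obj
      ((Scheme.Modules.pullback i').obj (ClSub.idealMod J')), i ⁻¹ᵁ U),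
      t ∈ Submodule.span Γ(Z, i ⁻¹ᵁ U) (Set.range γ) := by
    intro t
    refine Submodule.span_mono ?_
      (span_cUV gZ ((Scheme.Modules.pullback i').obj (ClSub.idealMod J')) hWV' hW hV' t)
    rintro _ ⟨y, rfl⟩
    obtain ⟨s', hs'e⟩ := Groth.Agent.Lib.ConormTrans3H7.cUV_surjective' i'
      (ClSub.idealMod J') hU' hV' hs' y
    refine ⟨s', ?_⟩
    show PBH8.cUV gZ ((Scheme.Modules.pullback i').obj (ClSub.idealMod J')) hWV'
        (OmegaSh.pullSect i' (ClSub.idealMod J') U' s') =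
      PBH8.cUV gZ ((Scheme.Modules.pullback i').obj (ClSub.idealMod J')) hWV' y
    rw [← hs'e, Groth.Agent.Lib.ConormDiffH4.cUV_rfl]
  have H1 : ∀ (N : Type u) [AddCommGroup N] [Module Γ(X, U) N]
      (k : Γ(ClSub.idealMod J', U') →+ N),
      (∀ r x, k (r • x) = (g.appLE U' U hUU').hom r • k x) →
      ∃ F : Γ(ClSub.idealMod J, U) →ₗ[Γ(X, U)] N,
        ∀ x, F (alphaJ g J J' hUU' hE x) = k x := by
    intro N _ _ k hk
    exact exists_lift_of_flat (g.appLE U' U hUU').hom hflat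
      (OmegaSh.idealSect J' U') (idealSect_smul J' U') (idealSect_injective J' U')
      (OmegaSh.idealSect J U) (idealSect_smul J U) (idealSect_injective J U)
      (alphaJ g J J' hUU' hE) (alphaJ_smul g J J' hUU' hE)
      (idealSect_alphaJ g J J' hUU' hE)
      (mem_span_alphaJ g J J' hUU' hE hU' hU hK) N k hk
  have H2 : ∀ (N : Type u) [AddCommGroup N] [Module Γ(Z, i ⁻¹ᵁ U) N]
      (k : Γ(ClSub.idealMod J, U) →+ N),
      (∀ r x, k (r • x) = (i.appLE U (i ⁻¹ᵁ U) le_rfl).hom r • k x) →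
      ∃ F : Γ((Scheme.Modules.pullback i).obj (ClSub.idealMod J), i ⁻¹ᵁ U) →ₗ[Γ(Z, i ⁻¹ᵁ U)] N,
        ∀ x, F (c x) = k x := by
    intro N _ _ k hk
    exact exists_lift_cUV i (ClSub.idealMod J) (le_refl (i ⁻¹ᵁ U)) hW hU N k hk
  exact injective_of_baseChange (g.appLE U' U hUU').hom (i.appLE U (i ⁻¹ᵁ U) le_rfl).hom
    (alphaJ g J J' hUU' hE) γ hγ c φL hφL hspan H1 H2

end Generic

section Pow

variable {Z X Z' X' : Scheme.{u}} (i : Z ⟶ X) (i' : Z' ⟶ X') (g : X ⟶ X') (gZ : Z ⟶ Z')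
  [QuasiCompact i] [QuasiCompact i'] (hw : gZ ≫ i' = i ≫ g) (n : ℕ)

include hw in
/-- `g♯` maps the kernel of `i'♯` into the kernel of `i♯`, on affine opens. -/
theorem map_ker_le {U' : X'.Opens} {W : X.Opens} (hWU' : W ≤ g ⁻¹ᵁ U') :
    Ideal.map (g.appLE U' W hWU').hom (RingHom.ker (i'.app U').hom) ≤
      RingHom.ker (i.app W).hom := by
  rw [Ideal.map_le_iff_le_comap]
  intro y hy
  have hy0 : (i'.app U').hom y = 0 := hy
  have e3 := square_appLE i i' g gZ hw hWU' y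
  have e2 : i.appLE W (i ⁻¹ᵁ W) le_rfl = i.app W := i.appLE_eq_app
  rw [e2, hy0, map_zero] at e3
  exact (RingHom.mem_ker).mpr e3.symm

include hw in
theorem exists_sec_pow {U' : X'.Opens} (hU' : IsAffineOpen U')
    (s' : Γ(ClSub.idealMod (i'.ker ^ n), U')) :
    ∃ s : Γ(ClSub.idealMod (i.ker ^ n), g ⁻¹ᵁ U'),
      OmegaSh.idealSect (i.ker ^ n) (g ⁻¹ᵁ U') s =
        (g.app U').hom (OmegaSh.idealSect (i'.ker ^ n) U' s') := by
  refine Groth.Agent.Lib.ConormSeqH4.exists_ideal_section (i.ker ^ n) (g ⁻¹ᵁ U') _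
    (fun W hW hWle => ?_)
  have hx' : OmegaSh.idealSect (i'.ker ^ n) U' s' ∈ (i'.ker ^ n).ideal ⟨U', hU'⟩ :=
    TensH8.idealModι_mem (i'.ker ^ n) hU' s'
  have hx'' : OmegaSh.idealSect (i'.ker ^ n) U' s' ∈ (RingHom.ker (i'.app U').hom) ^ n := by
    have h0 : (i'.ker ^ n).ideal ⟨U', hU'⟩ = (i'.ker.ideal ⟨U', hU'⟩) ^ n := rfl
    rw [h0, Scheme.Hom.ker_apply] at hx'
    exact hx'
  have h1 : (g.appLE U' W hWle).hom (OmegaSh.idealSect (i'.ker ^ n) U' s') ∈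
      (RingHom.ker (i.app W).hom) ^ n := by
    have h2 := Ideal.mem_map_of_mem (g.appLE U' W hWle).hom hx''
    rw [Ideal.map_pow] at h2
    exact Ideal.pow_right_mono (map_ker_le i i' g gZ hw hWle) n h2
  have h0 : (i.ker ^ n).ideal ⟨W, hW⟩ = (i.ker.ideal ⟨W, hW⟩) ^ n := rfl
  rw [h0, Scheme.Hom.ker_apply]
  exact h1

include hw in
theorem ideal_pow_eq (hpb : IsPullback i gZ g i') {U' : X'.Opens} {U : X.Opens}
    (hUU' : U ≤ g ⁻¹ᵁ U') (hU' : IsAffineOpen U') (hV' : IsAffineOpen (i' ⁻¹ᵁ U'))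
    (hs' : Function.Surjective (i'.app U').hom) (hU : IsAffineOpen U) :
    (i.ker ^ n).ideal ⟨U, hU⟩ =
      Ideal.map (g.appLE U' U hUU').hom ((i'.ker ^ n).ideal ⟨U', hU'⟩) := by
  have h0 : (i.ker ^ n).ideal ⟨U, hU⟩ = (i.ker.ideal ⟨U, hU⟩) ^ n := rfl
  have h0' : (i'.ker ^ n).ideal ⟨U', hU'⟩ = (i'.ker.ideal ⟨U', hU'⟩) ^ n := rfl
  rw [h0, h0', Scheme.Hom.ker_apply, Scheme.Hom.ker_apply, Ideal.map_pow]
  exact congrArg (fun K => K ^ n) (ker_eq i i' g gZ hw hUU' hpb hU' hV' hs' hU)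

end Pow

section Main5953

variable {Y X Y' X' : Scheme.{u}} (f : Y ⟶ X) [IsClosedImmersion f] (v : X' ⟶ X) (u : Y' ⟶ Y)
  (f' : Y' ⟶ X')

theorem main5953 [Flat v] (hsq : IsPullback u f' f v) (n : ℕ)
    (φ : (Scheme.Modules.pullback u).obj (PrinPart.grMod f n) ⟶ PrinPart.grMod f' n)
    (hφ : PrinPart.IsGrMap f' f v u n φ) : IsIso φ := by
  haveI : IsClosedImmersion f' :=
    MorphismProperty.of_isPullback (P := @IsClosedImmersion) hsq inferInstance
  have hw : u ≫ f = f' ≫ v := hφ.1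
  have hpb : IsPullback f' u v f := hsq.flip
  haveI : Epi φ := by
    refine Groth.Agent.Lib.OmegaCompat2H4.epi_of_surjective_basis φ (GoodBC f' f v)
      (exists_goodBC f' f v u hw) (fun W hWg => ?_)
    obtain ⟨U', U, hU', hV', hs', hU, hUU', rfl, hW, hs⟩ := hWg
    exact surjective_appJ f' f v u (f'.ker ^ n) (f.ker ^ n) hUU'
      (fun s' => exists_sec_pow f' f v u hw n hU' s') φ hφ.2 hw hU' hU hW hs
      (ideal_pow_eq f' f v u hw n hpb hUU' hU' hV' hs' hU)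
  haveI : Mono φ := by
    refine Groth.Agent.Lib.OmegaCompat2H4.mono_of_injective_basis φ (GoodBC f' f v)
      (exists_goodBC f' f v u hw) (fun W hWg => ?_)
    obtain ⟨U', U, hU', hV', hs', hU, hUU', rfl, hW, hs⟩ := hWg
    exact injective_appJ f' f v u (f'.ker ^ n) (f.ker ^ n) hUU'
      (fun s' => exists_sec_pow f' f v u hw n hU' s') φ hφ.2 hw hU' hV' hs' hU hW
      (ideal_pow_eq f' f v u hw n hpb hUU' hU' hV' hs' hU) (v.flat_appLE hU' hU hUU')
  exact isIso_of_mono_of_epi φ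

end Main5953

end Groth.Agent.Lib.ConormBCH7
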