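import Mathlib
import Groth.Prelude
import Groth.Agent.Lib.BasisHom_helper7
import Groth.Agent.Lib.ConormBC3_helper7
import Groth.Agent.Lib.FibVan3_helper2
import Groth.Agent.Lib.BCFun3_helper2
import Groth.Agent.Lib.Tens8_helper8
import Groth.Agent.Lib.Tens30_helper8
import Groth.Agent.Lib.Leray_helper9
import Groth.Agent.Lib.RpushVanish_helper9
import Groth.Agent.Lib.HHVan_helper9
import Groth.Agent.Lib.QCohExact_helper9

/-!
# Vanishing of `H¹` of the ideal of a step in a flat tower over an Artinian quotient (helper7)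

`X` flat over `Spec R`, `m ⊂ R` maximal with `m^(k+1) = 0`, `J ⊂ O_X` the ideal `m^k O_X`,
`j : Z ⟶ X` the closed fibre (`ker j = m O_X`), `H¹(Z, O_Z) = 0`  ⟹  `H¹(X, J) = 0`.
APPEND-ONLY once landed.
-/

set_option autoImplicit false
set_option linter.style.haveILetI false

universe u

open CategoryTheory CategoryTheory.Limits AlgebraicGeometry Opposite TopologicalSpace
open QcqsLoc QCohExtn

namespace Groth.Agent.Lib.AdicPicH7

open Groth.Agent.Lib.FormalFnH2 Groth.Agent.Lib.FormalModPowH4 Groth.Agent.Lib.FlatBCH2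
  Groth.Agent.Lib.FibVanH2

section Alg

variable {R : Type u} [CommRing R] {X : Scheme.{u}} [X.Over (Spec (CommRingCat.of R))]

theorem mem_map_of_mem_smul_top (U : X.Opens) (K : Ideal R)
    (x : Γ(Coh.structureModule X, U))
    (hx : letI := secMod R (Coh.structureModule X) U
      x ∈ K • (⊤ : Submodule R Γ(Coh.structureModule X, U))) :
    OmegaSh.fnSect X U x ∈ Ideal.map (rUHom (A := R) U) K := by
  letI := secMod R (Coh.structureModule X) U
  refine Submodule.smul_induction_on
    (p := fun y => OmegaSh.fnSect X U y ∈ Ideal.map (rUHom (A := R) U) K) hx ?_ ?_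
  · intro r hr y _
    show rUHom (A := R) U r * OmegaSh.fnSect X U y ∈ _
    exact Ideal.mul_mem_right _ _ (Ideal.mem_map_of_mem _ hr)
  · intro y z hy hz
    rw [map_add]
    exact Ideal.add_mem _ hy hz

theorem modPowπ_eq_zero_of_mem_map (I : Ideal R) (k : ℕ) (U : X.Opens)
    (x : Γ(Coh.structureModule X, U))
    (hx : OmegaSh.fnSect X U x ∈ Ideal.map (rUHom (A := R) U) (I ^ k)) :
    ap (Formal.modPowπ I k (Coh.structureModule X)) U x = 0 := by
  have hx' : OmegaSh.fnSect X U x ∈ Submodule.span Γ(X, U)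
      ((rUHom (A := R) U) '' ((I ^ k : Ideal R) : Set R)) := hx
  have key : ∀ y ∈ Submodule.span Γ(X, U) ((rUHom (A := R) U) '' ((I ^ k : Ideal R) : Set R)),
      ap (Formal.modPowπ I k (Coh.structureModule X)) U (OmegaSh.strSect X U y) = 0 := by
    intro y hy
    refine Submodule.span_induction
      (p := fun y _ => ap (Formal.modPowπ I k (Coh.structureModule X)) U
        (OmegaSh.strSect X U y) = 0) ?_ ?_ ?_ ?_ hy
    · rintro _ ⟨a, ha, rfl⟩
      have e : OmegaSh.strSect X U (rUHom (A := R) U a) =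
          ap (Formal.smulMod R (Coh.structureModule X) a) U (OmegaSh.strSect X U 1) := by
        show (rUHom (A := R) U a : Γ(X, U)) = rU a U * (1 : Γ(X, U))
        rw [mul_one]
        rfl
      rw [e]
      exact congrArg (fun ψ => ap ψ U (OmegaSh.strSect X U 1))
        (smulMod_modPowπ (Coh.structureModule X) I k ha)
    · rw [map_zero, map_zero]
    · intro y z _ _ hy hz
      rw [map_add, map_add, hy, hz, add_zero]
    · intro c y _ hy
      have e : OmegaSh.strSect X U (c • y) = c • OmegaSh.strSect X U y := rfl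
      rw [e, ap_smul, hy, smul_zero]
  exact key _ hx'

end Alg

section KerMap

variable {R R' : Type u} [CommRing R] [CommRing R'] (φ : R →+* R')
  (hφ : Function.Surjective φ)
  {X Z : Scheme.{u}} [X.Over (Spec (CommRingCat.of R))] (j : Z ⟶ X)
  (g : Z ⟶ Spec (CommRingCat.of R'))
  (H : IsPullback j g (X ↘ Spec (CommRingCat.of R)) (Spec.map (CommRingCat.ofHom φ)))

include hφ H in
theorem isClosedImmersion_of_isPullback : IsClosedImmersion j := by
  haveI : IsClosedImmersion (Spec.map (CommRingCat.ofHom φ)) :=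
    IsClosedImmersion.spec_of_surjective _ hφ
  exact MorphismProperty.of_isPullback (P := @IsClosedImmersion) H.flip inferInstance

include hφ H in
theorem ker_ideal_eq_map [IsClosedImmersion j] (U : X.Opens) (hU : IsAffineOpen U) :
    j.ker.ideal ⟨U, hU⟩ = Ideal.map (rUHom (A := R) U) (RingHom.ker φ) := by
  haveI : IsClosedImmersion (Spec.map (CommRingCat.ofHom φ)) :=
    IsClosedImmersion.spec_of_surjective _ hφ
  have hUU' : U ≤ (X ↘ Spec (CommRingCat.of R)) ⁻¹ᵁ ⊤ := fun _ _ => trivial
  have hTop : IsAffineOpen (⊤ : (Spec (CommRingCat.of R)).Opens) := isAffineOpen_top _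
  have hV' : IsAffineOpen ((Spec.map (CommRingCat.ofHom φ)) ⁻¹ᵁ ⊤) :=
    hTop.preimage (Spec.map (CommRingCat.ofHom φ))
  have hs' : Function.Surjective ((Spec.map (CommRingCat.ofHom φ)).app ⊤).hom :=
    (Spec.map (CommRingCat.ofHom φ)).app_surjective ⊤ hTop
  have k1 := Groth.Agent.Lib.ConormBCH7.ker_eq j (Spec.map (CommRingCat.ofHom φ))
    (X ↘ Spec (CommRingCat.of R)) g H.w.symm hUU' H hTop hV' hs' hU
  rw [Scheme.Hom.ker_apply, k1]
  have nat : ∀ y : Γ(Spec (CommRingCat.of R), ⊤),
      (Scheme.ΓSpecIso (CommRingCat.of R')).hom.hom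
        (((Spec.map (CommRingCat.ofHom φ)).app ⊤).hom y) =
      φ ((Scheme.ΓSpecIso (CommRingCat.of R)).hom.hom y) := by
    intro y
    have h := Scheme.ΓSpecIso_naturality (CommRingCat.ofHom φ)
    exact congrArg (fun k => k.hom y) h
  have hδγ : ∀ y : Γ(Spec (CommRingCat.of R), ⊤),
      (Scheme.ΓSpecIso (CommRingCat.of R)).inv.hom
        ((Scheme.ΓSpecIso (CommRingCat.of R)).hom.hom y) = y := fun y =>
    congrArg (fun k => k.hom y) (Scheme.ΓSpecIso (CommRingCat.of R)).hom_inv_id
  have hγδ : ∀ a : R, (Scheme.ΓSpecIso (CommRingCat.of R)).hom.hom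
        ((Scheme.ΓSpecIso (CommRingCat.of R)).inv.hom a) = a := fun a =>
    congrArg (fun k => k.hom a) (Scheme.ΓSpecIso (CommRingCat.of R)).inv_hom_id
  have hinj' : Function.Injective (Scheme.ΓSpecIso (CommRingCat.of R')).hom.hom :=
    (ConcreteCategory.bijective_of_isIso (Scheme.ΓSpecIso (CommRingCat.of R')).hom).1
  have hr : ∀ a : R, rUHom (A := R) U a =
      ((X ↘ Spec (CommRingCat.of R)).appLE ⊤ U hUU').hom
        ((Scheme.ΓSpecIso (CommRingCat.of R)).inv.hom a) := by
    intro a
    have h := ofHom_rUHom (A := R) U hUU'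
    exact congrArg (fun k => k.hom a) h
  apply le_antisymm
  · rw [Ideal.map_le_iff_le_comap]
    intro y hy
    have hy0 : (((Spec.map (CommRingCat.ofHom φ)).app ⊤).hom y :
        Γ(Spec (CommRingCat.of R'), ⊤)) = 0 := hy
    have h1 : φ ((Scheme.ΓSpecIso (CommRingCat.of R)).hom.hom y) = 0 := by
      rw [← nat y]
      exact (congrArg (Scheme.ΓSpecIso (CommRingCat.of R')).hom.hom hy0).trans (map_zero _)
    have h2 : ((X ↘ Spec (CommRingCat.of R)).appLE ⊤ U hUU').hom y =
        rUHom (A := R) U ((Scheme.ΓSpecIso (CommRingCat.of R)).hom.hom y) := by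
      rw [hr, hδγ]
    rw [Ideal.mem_comap, h2]
    exact Ideal.mem_map_of_mem _ (RingHom.mem_ker.mpr h1)
  · rw [Ideal.map_le_iff_le_comap]
    intro a ha
    have ha0 : φ a = 0 := ha
    rw [Ideal.mem_comap, hr a]
    refine Ideal.mem_map_of_mem _ (RingHom.mem_ker.mpr ?_)
    apply hinj'
    refine (nat _).trans ?_
    rw [hγδ, ha0]
    exact (map_zero (Scheme.ΓSpecIso (CommRingCat.of R')).hom.hom).symm

end KerMap

section PushIso

variable {R : Type u} [CommRing R] [IsNoetherianRing R] {X Z : Scheme.{u}}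
  [X.Over (Spec (CommRingCat.of R))]
  (j : Z ⟶ X) [IsClosedImmersion j] (I : Ideal R) (k : ℕ)
  (hker : ∀ (U : X.Opens) (hU : IsAffineOpen U),
    j.ker.ideal ⟨U, hU⟩ = Ideal.map (rUHom (A := R) U) (I ^ k))

/-- `j_* O_Z`. -/
noncomputable abbrev pushO : X.Modules :=
  (Scheme.Modules.pushforward j).obj (Coh.structureModule Z)

include hker in
theorem smulMod_unitToPush {a : R} (ha : a ∈ I ^ k) :
    Formal.smulMod R (Coh.structureModule X) a ≫ ClSub.unitToPush j = 0 := by
  have hB : Opens.IsBasis {U : X.Opens | IsAffineOpen U} := X.isBasis_affineOpens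
  refine BasisHomH7.hom_ext_basis hB _ _ (fun U hU x => ?_)
  have hUa : IsAffineOpen U := hU
  have hmem : rUHom (A := R) U a ∈ RingHom.ker (j.app U).hom := by
    rw [← Scheme.Hom.ker_apply j ⟨U, hUa⟩, hker U hUa]
    exact Ideal.mem_map_of_mem _ ha
  have h0 : (j.app U).hom (rU a U) = 0 := hmem
  have e1 : ap (Formal.smulMod R (Coh.structureModule X) a ≫ ClSub.unitToPush j) U x =
      (show Γ(pushO j, U) from (j.app U).hom (rU a U * OmegaSh.fnSect X U x)) := rfl
  rw [e1, map_mul, h0, zero_mul]
  rfl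

include hker in
theorem smulFamily_unitToPush :
    Formal.smulFamily (I ^ k) (Coh.structureModule X) ≫ ClSub.unitToPush j = 0 := by
  apply Sigma.hom_ext
  intro a
  rw [comp_zero, ← Category.assoc, ι_smulFamily]
  exact smulMod_unitToPush j I k hker a.2

/-- `O_X / I^k O_X ⟶ j_* O_Z`. -/
noncomputable def chi : Formal.modPow I k (Coh.structureModule X) ⟶ pushO j :=
  cokernel.desc _ (ClSub.unitToPush j) (smulFamily_unitToPush j I k hker)

theorem π_chi :
    Formal.modPowπ I k (Coh.structureModule X) ≫ chi j I k hker = ClSub.unitToPush j :=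
  cokernel.π_desc _ _ _

theorem isIso_chi : IsIso (chi j I k hker) := by
  have hB : Opens.IsBasis {U : X.Opens | IsAffineOpen U} := X.isBasis_affineOpens
  haveI : (Coh.structureModule X).IsQuasicoherent := TensH8.isQuasicoherent_structureModule
  refine BasisHomH7.isIso_of_bijective_basis hB _ (fun U hU => ?_)
  have hUa : IsAffineOpen U := hU
  have hπs := modPowπ_app_surjective R I (Coh.structureModule X) k hUa
  have hfac : ∀ x : Γ(Coh.structureModule X, U),
      ap (chi j I k hker) U (ap (Formal.modPowπ I k (Coh.structureModule X)) U x) =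
        ap (ClSub.unitToPush j) U x := fun x =>
    congrArg (fun ψ => ap ψ U x) (π_chi j I k hker)
  constructor
  · refine (injective_iff_map_eq_zero (ap (chi j I k hker) U)).mpr (fun t ht => ?_)
    obtain ⟨x, hx⟩ := hπs t
    have hx' : ap (Formal.modPowπ I k (Coh.structureModule X)) U x = t := hx
    rw [← hx'] at ht ⊢
    rw [hfac] at ht
    have h0 : (j.app U).hom (OmegaSh.fnSect X U x) = 0 := ht
    have hmem : OmegaSh.fnSect X U x ∈ Ideal.map (rUHom (A := R) U) (I ^ k) := by
      rw [← hker U hUa, Scheme.Hom.ker_apply]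
      exact RingHom.mem_ker.mpr h0
    exact modPowπ_eq_zero_of_mem_map I k U x hmem
  · intro y
    obtain ⟨x, hx⟩ := j.app_surjective U hUa (show Γ(Z, j ⁻¹ᵁ U) from y)
    refine ⟨ap (Formal.modPowπ I k (Coh.structureModule X)) U (OmegaSh.strSect X U x), ?_⟩
    rw [hfac]
    exact hx

include hker in
theorem subsingleton_HH_modPow (h1 : Subsingleton (Coh.HH Z (Coh.structureModule Z) 1)) :
    Subsingleton (Coh.HH X (Formal.modPow I k (Coh.structureModule X)) 1) := by
  obtain ⟨e⟩ := _root_.Leray.nonempty_H_addEquiv_push j.base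
    (Coh.toAb (Coh.structureModule Z))
    (fun q => _root_.RpushVanish.isZero_Rpush_succ_of_isClosedEmbedding j.base
      j.isClosedEmbedding (Coh.toAb (Coh.structureModule Z)) q) 1
  haveI := h1
  have h2 : Subsingleton (Coh.HH X (pushO j) 1) := e.symm.toEquiv.subsingleton
  haveI := isIso_chi j I k hker
  exact Groth.Agent.HHVan.subsingleton_of_iso (asIso (chi j I k hker)).symm 1 h2

end PushIso

section IdealIso

variable {R : Type u} [CommRing R] [IsNoetherianRing R] {X : Scheme.{u}}
  [X.Over (Spec (CommRingCat.of R))]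
  (J : X.IdealSheafData) (I : Ideal R) (k : ℕ) (hI : I ^ (k + 1) = ⊥)
  (hJ : ∀ (U : X.Opens) (hU : IsAffineOpen U),
    J.ideal ⟨U, hU⟩ = Ideal.map (rUHom (A := R) U) (I ^ k))

include hI in
theorem isIso_modPowπ_succ : IsIso (Formal.modPowπ I (k + 1) (Coh.structureModule X)) := by
  have h0 : Formal.smulFamily (I ^ (k + 1)) (Coh.structureModule X) = 0 := by
    apply Sigma.hom_ext
    intro a
    rw [comp_zero, ι_smulFamily]
    have ha : (a : R) = 0 := by
      have hle : I ^ (k + 1) ≤ ⊥ := le_of_eq hI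
      exact (Submodule.mem_bot R).mp (hle a.2)
    rw [ha]
    exact smulMod_zero _
  exact cokernel.π_of_zero h0

include hJ in
theorem idealModι_modPowπ :
    ClSub.idealModι J ≫ Formal.modPowπ I k (Coh.structureModule X) = 0 := by
  have hB : Opens.IsBasis {U : X.Opens | IsAffineOpen U} := X.isBasis_affineOpens
  refine BasisHomH7.hom_ext_basis hB _ _ (fun U hU s => ?_)
  have hUa : IsAffineOpen U := hU
  have hmem : OmegaSh.fnSect X U (ap (ClSub.idealModι J) U s) ∈
      Ideal.map (rUHom (A := R) U) (I ^ k) := by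
    rw [← hJ U hUa]
    exact TensH8.idealModι_mem J hUa s
  show ap (Formal.modPowπ I k (Coh.structureModule X)) U (ap (ClSub.idealModι J) U s) = 0
  exact modPowπ_eq_zero_of_mem_map I k U _ hmem

/-- `J ⟶ ker (O/I^(k+1) ⟶ O/I^k)`. -/
noncomputable def phi : ClSub.idealMod J ⟶ grK R I (Coh.structureModule X) k :=
  kernel.lift _ (ClSub.idealModι J ≫ Formal.modPowπ I (k + 1) (Coh.structureModule X)) (by
    rw [Category.assoc, Formal.modPowπ_trans]
    exact idealModι_modPowπ J I k hJ)

theorem phi_ι : phi J I k hJ ≫ grι R I (Coh.structureModule X) k =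
    ClSub.idealModι J ≫ Formal.modPowπ I (k + 1) (Coh.structureModule X) :=
  kernel.lift_ι _ _ _

include hI in
theorem isIso_phi : IsIso (phi J I k hJ) := by
  have hB : Opens.IsBasis {U : X.Opens | IsAffineOpen U} := X.isBasis_affineOpens
  haveI : (Coh.structureModule X).IsQuasicoherent := TensH8.isQuasicoherent_structureModule
  haveI := isIso_modPowπ_succ (X := X) I k hI
  refine BasisHomH7.isIso_of_bijective_basis hB _ (fun U hU => ?_)
  have hUa : IsAffineOpen U := hU
  have hfac : ∀ s : Γ(ClSub.idealMod J, U),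
      ap (grι R I (Coh.structureModule X) k) U (ap (phi J I k hJ) U s) =
        ap (Formal.modPowπ I (k + 1) (Coh.structureModule X)) U
          (ap (ClSub.idealModι J) U s) := fun s =>
    congrArg (fun ψ => ap ψ U s) (phi_ι J I k hJ)
  have hπinj : Function.Injective
      (ap (Formal.modPowπ I (k + 1) (Coh.structureModule X)) U) :=
    QCohExact.app_injective_of_mono _ U
  have hιinj : Function.Injective (ap (grι R I (Coh.structureModule X) k) U) :=
    QCohExact.app_injective_of_mono _ U
  constructor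
  · intro s s' hss
    have h1 := congrArg (ap (grι R I (Coh.structureModule X) k) U) hss
    rw [hfac, hfac] at h1
    have h2 := hπinj h1
    exact Groth.Agent.Lib.ConormBCH7.idealSect_injective J U
      (congrArg (OmegaSh.fnSect X U) h2)
  · intro t
    obtain ⟨x, hx⟩ := modPowπ_app_surjective R I (Coh.structureModule X) (k + 1) hUa
      (ap (grι R I (Coh.structureModule X) k) U t)
    have hx' : ap (Formal.modPowπ I (k + 1) (Coh.structureModule X)) U x =
        ap (grι R I (Coh.structureModule X) k) U t := hx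
    have h0 : ap (Formal.modPowπ I k (Coh.structureModule X)) U x = 0 := by
      have e1 : ap (Formal.modPowπ I k (Coh.structureModule X)) U x =
          ap (Formal.modPowTrans I k (Coh.structureModule X)) U
            (ap (Formal.modPowπ I (k + 1) (Coh.structureModule X)) U x) :=
        (congrArg (fun ψ => ap ψ U x)
          (Formal.modPowπ_trans I k (Coh.structureModule X))).symm
      rw [e1, hx']
      exact TensH8.kernel_section_mem (Formal.modPowTrans I k (Coh.structureModule X)) t
    have hmem := mem_smul_top_of_modPowπ_app_eq_zero R I (Coh.structureModule X) k hUa x h0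
    have hmem' := mem_map_of_mem_smul_top U (I ^ k) x hmem
    rw [← hJ U hUa] at hmem'
    obtain ⟨s, hs⟩ := TensH8.exists_idealMod_section J hUa _ hmem'
    have hs' : ap (ClSub.idealModι J) U s = x := hs
    refine ⟨s, hιinj ?_⟩
    rw [hfac, hs', hx']

end IdealIso

/-- **Vanishing of `H¹` of the top graded piece.** -/
theorem subsingleton_HH_idealMod_tower
    {R : Type u} [CommRing R] [IsNoetherianRing R] (m : Ideal R) (hm : m.IsMaximal) (k : ℕ)
    (hmk : m ^ (k + 1) = ⊥) {X : Scheme.{u}} [X.Over (Spec (CommRingCat.of R))]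
    [Flat (X ↘ Spec (CommRingCat.of R))]
    (J : X.IdealSheafData)
    (hJ : ∀ (U : X.Opens) (hU : IsAffineOpen U),
      J.ideal ⟨U, hU⟩ = Ideal.map (rUHom (A := R) U) (m ^ k))
    {Z : Scheme.{u}} (j : Z ⟶ X) [IsClosedImmersion j]
    (hj : ∀ (U : X.Opens) (hU : IsAffineOpen U),
      j.ker.ideal ⟨U, hU⟩ = Ideal.map (rUHom (A := R) U) (m ^ 1))
    (h1 : Subsingleton (Coh.HH Z (Coh.structureModule Z) 1)) :
    Subsingleton (Coh.HH X (ClSub.idealMod J) 1) := by
  haveI : (Coh.structureModule X).IsQuasicoherent := TensH8.isQuasicoherent_structureModule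
  have hvan := subsingleton_HH_modPow j m 1 hj h1
  have hfl := Groth.Agent.Lib.BCFunH2.isFlatOver_unit (X ↘ Spec (CommRingCat.of R))
  have hgr := subsingleton_HH_grK R m (Coh.structureModule X) hm hfl k 1 hvan
  haveI := isIso_phi J m k hmk hJ
  exact Groth.Agent.HHVan.subsingleton_of_iso (asIso (phi J m k hJ)).symm 1 hgr

end Groth.Agent.Lib.AdicPicH7
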