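import Mathlib
import Groth.Prelude
import Groth.Agent.Lib.OmegaFunct_helper4
import Groth.Agent.Lib.RegSecIso_helper7
import Groth.Agent.Lib.ConormSeq1_helper4
import Groth.Agent.Lib.ConormBC1_helper7

/-!
# Uniqueness of extensions of a morphism along a square-zero thickening (helper7)

Two `S`-morphisms `h, h' : X ⟶ Y` agreeing on the closed subscheme `X₀ = V(J)`, `J² = 0`, differ by
the `S`-derivation `h'♯ − h♯ : O_Y → g_* (j^* J)`; if `Hom(g^* Ω_{Y/S}, j^* J) = 0` they are equal.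
APPEND-ONLY once landed.
-/

set_option autoImplicit false
set_option linter.style.haveILetI false

universe u

open CategoryTheory CategoryTheory.Limits AlgebraicGeometry Opposite TopologicalSpace
open AlgebraicGeometry.Scheme.Modules

namespace Groth.Agent.Lib.LiftUniqH7

open Groth.Agent.Lib.OmegaUniv2H4 Groth.Agent.Lib.ConormBCH7

section Gen

variable {X : Scheme.{u}} (J : X.IdealSheafData)

theorem exists_idealSect (U : X.Opens) (a : Γ(X, U)) (ha : (J.subschemeι.app U).hom a = 0) :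
    ∃ t : Γ(ClSub.idealMod J, U), OmegaSh.idealSect J U t = a :=
  TensH8.exists_kernel_section (ClSub.toSubscheme J) (W := U) (OmegaSh.strSect X U a) ha

theorem surjective_of_sq (hJ : J ^ 2 = ⊥) (x : X) : ∃ z : J.subscheme, J.subschemeι z = x := by
  have hsupp : J.support = ⊤ := by
    have h2 : (J ^ (1 + 1)).support = J.support := Scheme.IdealSheafData.support_pow_succ J 1
    have h3 : (J ^ (1 + 1)) = ⊥ := hJ
    rw [← h2, h3]
    rfl
  have hx : x ∈ Set.range J.subschemeι := by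
    rw [J.range_subschemeι, hsupp]
    exact Set.mem_univ x
  exact hx

theorem idealSect_eq_zero_of_mem (hJ : J ^ 2 = ⊥) {W : X.Opens} (hW : IsAffineOpen W)
    (t : Γ(ClSub.idealMod J, W))
    (ht : t ∈ (J.ideal ⟨W, hW⟩) • (⊤ : Submodule Γ(X, W) Γ(ClSub.idealMod J, W))) :
    OmegaSh.idealSect J W t = 0 := by
  have hsq : (J.ideal ⟨W, hW⟩) ^ 2 = ⊥ :=
    congrArg (fun K : X.IdealSheafData => K.ideal ⟨W, hW⟩) hJ
  refine Submodule.smul_induction_on (p := fun t => OmegaSh.idealSect J W t = 0) ht ?_ ?_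
  · intro r hr m _
    have hm : OmegaSh.idealSect J W m ∈ J.ideal ⟨W, hW⟩ := TensH8.idealModι_mem J hW m
    have h1 : r * OmegaSh.idealSect J W m ∈ (J.ideal ⟨W, hW⟩) ^ 2 := by
      rw [pow_two]
      exact Ideal.mul_mem_mul hr hm
    rw [hsq] at h1
    show OmegaSh.idealSect J W (r • m) = 0
    rw [idealSect_smul]
    exact h1
  · intro x y hx hy
    show OmegaSh.idealSect J W (x + y) = 0
    rw [map_add, hx, hy, add_zero]

theorem smul_pushforward' {Y : Scheme.{u}} (f : X ⟶ Y) (F : X.Modules) (V : Y.Opens) (r : Γ(Y, V))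
    (s : Γ((Scheme.Modules.pushforward f).obj F, V)) :
    r • s = (show Γ((Scheme.Modules.pushforward f).obj F, V) from
      ((f.app V).hom r • (show Γ(F, f ⁻¹ᵁ V) from s))) := rfl

end Gen

/-- The data: two morphisms agreeing on the closed subscheme and over the base. -/
structure Dat (X Y S : Scheme.{u}) where
  q : Y ⟶ S
  J : X.IdealSheafData
  h : X ⟶ Y
  h' : X ⟶ Y
  hb : ∀ V : Y.Opens, h ⁻¹ᵁ V ≤ h' ⁻¹ᵁ V
  hj : J.subschemeι ≫ h' = J.subschemeι ≫ h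
  hq : h' ≫ q = h ≫ q

namespace Dat

variable {X Y S : Scheme.{u}} (d : Dat X Y S)

/-- The difference `h'♯ b − h♯ b`. -/
noncomputable def del (V : Y.Opens) (b : Γ(Y, V)) : Γ(X, d.h ⁻¹ᵁ V) :=
  (d.h'.appLE V (d.h ⁻¹ᵁ V) (d.hb V)).hom b - (d.h.app V).hom b

theorem del_add (V : Y.Opens) (b b' : Γ(Y, V)) : d.del V (b + b') = d.del V b + d.del V b' := by
  unfold del
  rw [map_add, map_add]
  abel

theorem del_mul (V : Y.Opens) (b b' : Γ(Y, V)) :
    d.del V (b * b') = (d.h'.appLE V (d.h ⁻¹ᵁ V) (d.hb V)).hom b * d.del V b' +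
      (d.h.app V).hom b' * d.del V b := by
  unfold del
  rw [map_mul, map_mul]
  ring

theorem app_j_eq (V : Y.Opens) (b : Γ(Y, V)) :
    (d.J.subschemeι.app (d.h ⁻¹ᵁ V)).hom ((d.h'.appLE V (d.h ⁻¹ᵁ V) (d.hb V)).hom b) =
      (d.J.subschemeι.app (d.h ⁻¹ᵁ V)).hom ((d.h.app V).hom b) := by
  have c1 := Scheme.Hom.appLE_comp_appLE d.J.subschemeι d.h' V (d.h ⁻¹ᵁ V)
    (d.J.subschemeι ⁻¹ᵁ (d.h ⁻¹ᵁ V)) (d.hb V) le_rfl
  have c2 := Scheme.Hom.appLE_comp_appLE d.J.subschemeι d.h V (d.h ⁻¹ᵁ V)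
    (d.J.subschemeι ⁻¹ᵁ (d.h ⁻¹ᵁ V)) le_rfl le_rfl
  have c := c1.trans ((OmegaSh.appLE_congr_hom d.hj _ _).trans c2.symm)
  have e1 : d.J.subschemeι.appLE (d.h ⁻¹ᵁ V) (d.J.subschemeι ⁻¹ᵁ (d.h ⁻¹ᵁ V)) le_rfl =
      d.J.subschemeι.app (d.h ⁻¹ᵁ V) := d.J.subschemeι.appLE_eq_app
  have e2 : d.h.appLE V (d.h ⁻¹ᵁ V) le_rfl = d.h.app V := d.h.appLE_eq_app
  rw [e1, e2] at c
  exact congrArg (fun k => k.hom b) c

theorem del_ker (V : Y.Opens) (b : Γ(Y, V)) :
    (d.J.subschemeι.app (d.h ⁻¹ᵁ V)).hom (d.del V b) = 0 := by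
  unfold del
  rw [map_sub, app_j_eq, sub_self]

theorem del_res {V V' : Y.Opens} (e : V' ≤ V) (b : Γ(Y, V)) :
    d.del V' ((Y.presheaf.map (homOfLE e).op).hom b) =
      (X.presheaf.map (homOfLE (d.h.preimage_mono e)).op).hom (d.del V b) := by
  have n1 : (d.h.app V').hom ((Y.presheaf.map (homOfLE e).op).hom b) =
      (X.presheaf.map (homOfLE (d.h.preimage_mono e)).op).hom ((d.h.app V).hom b) :=
    app_res d.h e b
  have n2 : (d.h'.appLE V' (d.h ⁻¹ᵁ V') (d.hb V')).hom ((Y.presheaf.map (homOfLE e).op).hom b) =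
      (X.presheaf.map (homOfLE (d.h.preimage_mono e)).op).hom
        ((d.h'.appLE V (d.h ⁻¹ᵁ V) (d.hb V)).hom b) := by
    have m1 := d.h'.map_appLE (d.hb V') (homOfLE e).op
    have m2 := d.h'.appLE_map (d.hb V) (homOfLE (d.h.preimage_mono e)).op
    exact (congrArg (fun k => k.hom b) m1).trans (congrArg (fun k => k.hom b) m2).symm
  unfold del
  rw [map_sub, n1, n2]

theorem del_base (W : S.Opens) (s : Γ(S, W)) :
    d.del (d.q ⁻¹ᵁ W) ((d.q.app W).hom s) = 0 := by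
  have c1 := Scheme.Hom.appLE_comp_appLE d.h' d.q W (d.q ⁻¹ᵁ W) (d.h ⁻¹ᵁ (d.q ⁻¹ᵁ W)) le_rfl
    (d.hb _)
  have c2 := Scheme.Hom.appLE_comp_appLE d.h d.q W (d.q ⁻¹ᵁ W) (d.h ⁻¹ᵁ (d.q ⁻¹ᵁ W)) le_rfl
    le_rfl
  have c := c1.trans ((OmegaSh.appLE_congr_hom d.hq _ _).trans c2.symm)
  have e1 : d.q.appLE W (d.q ⁻¹ᵁ W) le_rfl = d.q.app W := d.q.appLE_eq_app
  have e2 : d.h.appLE (d.q ⁻¹ᵁ W) (d.h ⁻¹ᵁ (d.q ⁻¹ᵁ W)) le_rfl = d.h.app (d.q ⁻¹ᵁ W) :=
    d.h.appLE_eq_app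
  rw [e1, e2] at c
  have c' := congrArg (fun k => k.hom s) c
  exact sub_eq_zero.mpr c'

/-- The section of the ideal module with underlying function `del`. -/
noncomputable def tSec (V : Y.Opens) (b : Γ(Y, V)) : Γ(ClSub.idealMod d.J, d.h ⁻¹ᵁ V) :=
  Classical.choose (exists_idealSect d.J (d.h ⁻¹ᵁ V) (d.del V b) (d.del_ker V b))

theorem tSec_spec (V : Y.Opens) (b : Γ(Y, V)) :
    OmegaSh.idealSect d.J (d.h ⁻¹ᵁ V) (d.tSec V b) = d.del V b :=
  Classical.choose_spec (exists_idealSect d.J (d.h ⁻¹ᵁ V) (d.del V b) (d.del_ker V b))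

theorem tSec_add (V : Y.Opens) (b b' : Γ(Y, V)) :
    d.tSec V (b + b') = d.tSec V b + d.tSec V b' := by
  apply idealSect_injective
  rw [map_add, tSec_spec, tSec_spec, tSec_spec, del_add]

theorem tSec_mul (V : Y.Opens) (b b' : Γ(Y, V)) :
    d.tSec V (b * b') = (d.h'.appLE V (d.h ⁻¹ᵁ V) (d.hb V)).hom b • d.tSec V b' +
      (d.h.app V).hom b' • d.tSec V b := by
  apply idealSect_injective
  rw [map_add, idealSect_smul, idealSect_smul, tSec_spec, tSec_spec, tSec_spec, del_mul]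

theorem tSec_res {V V' : Y.Opens} (e : V' ≤ V) (b : Γ(Y, V)) :
    d.tSec V' ((Y.presheaf.map (homOfLE e).op).hom b) =
      (ClSub.idealMod d.J).presheaf.map (homOfLE (d.h.preimage_mono e)).op (d.tSec V b) := by
  apply idealSect_injective
  rw [Groth.Agent.Lib.ConormSeqH4.idealSect_res, tSec_spec, tSec_spec, del_res]

theorem tSec_base (W : S.Opens) (s : Γ(S, W)) :
    d.tSec (d.q ⁻¹ᵁ W) ((d.q.app W).hom s) = 0 := by
  apply idealSect_injective
  rw [tSec_spec, del_base, map_zero]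

/-- `j^* J`. -/
noncomputable abbrev MJ : d.J.subscheme.Modules :=
  (Scheme.Modules.pullback d.J.subschemeι).obj (ClSub.idealMod d.J)

/-- `g_* j^* J`. -/
noncomputable abbrev FJ : Y.Modules :=
  (Scheme.Modules.pushforward (d.J.subschemeι ≫ d.h)).obj d.MJ

/-- The derivation on sections. -/
noncomputable def dFun (V : Y.Opens) (b : Γ(Y, V)) :
    Γ(d.MJ, d.J.subschemeι ⁻¹ᵁ (d.h ⁻¹ᵁ V)) :=
  OmegaSh.pullSect d.J.subschemeι (ClSub.idealMod d.J) (d.h ⁻¹ᵁ V) (d.tSec V b)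

theorem dFun_add (V : Y.Opens) (b b' : Γ(Y, V)) :
    d.dFun V (b + b') = d.dFun V b + d.dFun V b' := by
  unfold dFun
  rw [tSec_add]
  exact map_add (OmegaSh.pullSect d.J.subschemeι (ClSub.idealMod d.J) (d.h ⁻¹ᵁ V)).hom _ _

theorem dFun_mul (V : Y.Opens) (b b' : Γ(Y, V)) :
    d.dFun V (b * b') =
      (d.J.subschemeι.app (d.h ⁻¹ᵁ V)).hom ((d.h.app V).hom b) • d.dFun V b' +
        (d.J.subschemeι.app (d.h ⁻¹ᵁ V)).hom ((d.h.app V).hom b') • d.dFun V b := by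
  have e1 : d.dFun V (b * b') =
      OmegaSh.pullSect d.J.subschemeι (ClSub.idealMod d.J) (d.h ⁻¹ᵁ V)
        ((d.h'.appLE V (d.h ⁻¹ᵁ V) (d.hb V)).hom b • d.tSec V b' +
          (d.h.app V).hom b' • d.tSec V b) :=
    congrArg (fun z => OmegaSh.pullSect d.J.subschemeι (ClSub.idealMod d.J) (d.h ⁻¹ᵁ V) z)
      (d.tSec_mul V b b')
  have e2 := map_add (OmegaSh.pullSect d.J.subschemeι (ClSub.idealMod d.J) (d.h ⁻¹ᵁ V)).hom
    ((d.h'.appLE V (d.h ⁻¹ᵁ V) (d.hb V)).hom b • d.tSec V b')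
    ((d.h.app V).hom b' • d.tSec V b)
  have e3 := OmegaSh.pullSect_smul d.J.subschemeι (ClSub.idealMod d.J) (d.h ⁻¹ᵁ V)
    ((d.h'.appLE V (d.h ⁻¹ᵁ V) (d.hb V)).hom b) (d.tSec V b')
  have e4 := OmegaSh.pullSect_smul d.J.subschemeι (ClSub.idealMod d.J) (d.h ⁻¹ᵁ V)
    ((d.h.app V).hom b') (d.tSec V b)
  have e5 := d.app_j_eq V b
  refine e1.trans (e2.trans ?_)
  refine congrArg₂ (· + ·) (e3.trans ?_) e4
  exact congrArg (fun r => r • d.dFun V b') e5

theorem dFun_mul' (V : Y.Opens) (a b : Γ(Y, V)) :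
    (show Γ(d.FJ, V) from d.dFun V (a * b)) =
      a • (show Γ(d.FJ, V) from d.dFun V b) + b • (show Γ(d.FJ, V) from d.dFun V a) := by
  rw [smul_pushforward', smul_pushforward']
  exact d.dFun_mul V a b

theorem dFun_res {V V' : Y.Opens} (e : V' ≤ V) (b : Γ(Y, V)) :
    d.dFun V' ((Y.presheaf.map (homOfLE e).op).hom b) =
      d.MJ.presheaf.map
        (homOfLE (d.J.subschemeι.preimage_mono (d.h.preimage_mono e))).op (d.dFun V b) := by
  unfold dFun
  rw [tSec_res]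
  exact OmegaSh.pullSect_map d.J.subschemeι (ClSub.idealMod d.J) (d.h.preimage_mono e)
    (d.tSec V b)

theorem dFun_base (W : S.Opens) (s : Γ(S, W)) :
    d.dFun (d.q ⁻¹ᵁ W) ((d.q.app W).hom s) = 0 := by
  unfold dFun
  rw [tSec_base]
  exact map_zero (OmegaSh.pullSect d.J.subschemeι (ClSub.idealMod d.J)
    (d.h ⁻¹ᵁ (d.q ⁻¹ᵁ W))).hom

/-- The derivation `h'♯ − h♯ : O_Y → g_* j^* J`. -/
noncomputable def der : OmegaSh.Der d.q d.FJ where
  d {W} := AddMonoidHom.mk' (fun s => d.dFun W.unop s) (fun a b => d.dFun_add W.unop a b)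
  d_mul {W} a b := d.dFun_mul' W.unop a b
  d_map {W W'} i s := d.dFun_res (leOfHom i.unop) s
  d_app {V} s := d.dFun_base V.unop s

theorem der_app (O : Y.Opens) (s : Γ(Y, O)) : d.der.app O s = d.dFun O s := rfl

theorem dFun_eq_zero [QuasiSeparated d.q]
    (h0 : Subsingleton ((Scheme.Modules.pullback (d.J.subschemeι ≫ d.h)).obj (Omega.sheaf d.q) ⟶
      (Scheme.Modules.pullback d.J.subschemeι).obj (ClSub.idealMod d.J)))
    (O : Y.Opens) (s : Γ(Y, O)) : d.dFun O s = 0 := by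
  obtain ⟨α, hα⟩ := exists_lift d.q d.FJ d.der
  have h1 : ((Scheme.Modules.pullbackPushforwardAdjunction (d.J.subschemeι ≫ d.h)).homEquiv
      (Omega.sheaf d.q) d.MJ).symm α =
      ((Scheme.Modules.pullbackPushforwardAdjunction (d.J.subschemeι ≫ d.h)).homEquiv
      (Omega.sheaf d.q) d.MJ).symm 0 := Subsingleton.elim _ _
  have h2 : α = 0 := Equiv.injective _ h1
  have h3 := hα O s
  rw [h2] at h3
  exact ((d.der_app O s).symm.trans h3.symm).trans rfl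

theorem appLE_eq (hJ : d.J ^ 2 = ⊥) (hD : ∀ (O : Y.Opens) (s : Γ(Y, O)), d.dFun O s = 0)
    {V : Y.Opens} {W : X.Opens} (hW : IsAffineOpen W) (e : W ≤ d.h ⁻¹ᵁ V) :
    d.h'.appLE V W (e.trans (d.hb V)) = d.h.appLE V W e := by
  refine CommRingCat.hom_ext (RingHom.ext fun b => ?_)
  have ht : OmegaSh.pullSect d.J.subschemeι (ClSub.idealMod d.J) (d.h ⁻¹ᵁ V) (d.tSec V b) = 0 :=
    hD V b
  have e1 := OmegaSh.pullSect_map d.J.subschemeι (ClSub.idealMod d.J) e (d.tSec V b)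
  have e2 : OmegaSh.pullSect d.J.subschemeι (ClSub.idealMod d.J) W
      ((ClSub.idealMod d.J).presheaf.map (homOfLE e).op (d.tSec V b)) = 0 := by
    rw [e1, ht, map_zero]
  have hc : PBH8.cUV d.J.subschemeι (ClSub.idealMod d.J) (le_refl (d.J.subschemeι ⁻¹ᵁ W))
      ((ClSub.idealMod d.J).presheaf.map (homOfLE e).op (d.tSec V b)) = 0 := by
    show ((Scheme.Modules.pullback d.J.subschemeι).obj (ClSub.idealMod d.J)).presheaf.map
      (homOfLE (le_refl (d.J.subschemeι ⁻¹ᵁ W))).op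
      (OmegaSh.pullSect d.J.subschemeι (ClSub.idealMod d.J) W
        ((ClSub.idealMod d.J).presheaf.map (homOfLE e).op (d.tSec V b))) = 0
    rw [e2, map_zero]
  haveI : (ClSub.idealMod d.J).IsQuasicoherent :=
    Groth.Agent.Lib.OmegaAffH4.isQuasicoherent_idealMod d.J
  have hmem := Groth.Agent.Lib.RegSecIsoH7.cUV_eq_zero d.J.subschemeι (ClSub.idealMod d.J) hW
    ((ClSub.idealMod d.J).presheaf.map (homOfLE e).op (d.tSec V b)) hc
  rw [d.J.ker_subschemeι] at hmem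
  have hz := idealSect_eq_zero_of_mem d.J hJ hW _ hmem
  have r1 := Groth.Agent.Lib.ConormSeqH4.idealSect_res d.J e (d.tSec V b)
  rw [d.tSec_spec V b] at r1
  have r2 : (X.presheaf.map (homOfLE e).op).hom (d.del V b) = 0 := r1.symm.trans hz
  have m2 := d.h'.appLE_map (d.hb V) (homOfLE e).op
  have m2' : (X.presheaf.map (homOfLE e).op).hom ((d.h'.appLE V (d.h ⁻¹ᵁ V) (d.hb V)).hom b) =
      (d.h'.appLE V W (e.trans (d.hb V))).hom b := congrArg (fun k => k.hom b) m2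
  have m1' : (X.presheaf.map (homOfLE e).op).hom ((d.h.app V).hom b) =
      (d.h.appLE V W e).hom b := rfl
  have r3 : (X.presheaf.map (homOfLE e).op).hom (d.del V b) =
      (d.h'.appLE V W (e.trans (d.hb V))).hom b - (d.h.appLE V W e).hom b := by
    unfold del
    rw [map_sub, m2', m1']
  exact sub_eq_zero.mp (r3.symm.trans r2)

end Dat

theorem main11775 {X Y S : Scheme.{u}} (q : Y ⟶ S) [QuasiSeparated q] (J : X.IdealSheafData)
    (hJ : J ^ 2 = ⊥) (h h' : X ⟶ Y)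
    (h0 : Subsingleton ((Scheme.Modules.pullback (J.subschemeι ≫ h)).obj (Omega.sheaf q) ⟶
      (Scheme.Modules.pullback J.subschemeι).obj (ClSub.idealMod J)))
    (hj : J.subschemeι ≫ h' = J.subschemeι ≫ h) (hq : h' ≫ q = h ≫ q) : h = h' := by
  have hpt : ∀ x : X, h x = h' x := by
    intro x
    obtain ⟨z, rfl⟩ := surjective_of_sq J hJ x
    have h1 : (J.subschemeι ≫ h') z = (J.subschemeι ≫ h) z := by rw [hj]
    exact h1.symm
  have hb : ∀ V : Y.Opens, h ⁻¹ᵁ V ≤ h' ⁻¹ᵁ V := by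
    intro V x hx
    show h' x ∈ V
    rw [← hpt x]
    exact hx
  let d : Dat X Y S := ⟨q, J, h, h', hb, hj, hq⟩
  haveI : QuasiSeparated d.q := ‹QuasiSeparated q›
  have hD := d.dFun_eq_zero h0
  refine Scheme.hom_ext_of_forall h h' fun x => ?_
  obtain ⟨V, hV, hxV, -⟩ := (Opens.isBasis_iff_nbhd.mp Y.isBasis_affineOpens)
    (show h x ∈ (⊤ : Y.Opens) from trivial)
  obtain ⟨W, hW, hxW, hWV⟩ := (Opens.isBasis_iff_nbhd.mp X.isBasis_affineOpens)
    (show x ∈ h ⁻¹ᵁ V from hxV)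
  refine ⟨W, hxW, ?_⟩
  have e1 := IsAffineOpen.SpecMap_appLE_fromSpec h hV hW hWV
  have e2 := IsAffineOpen.SpecMap_appLE_fromSpec h' hV hW (hWV.trans (hb V))
  have e3 : h'.appLE V W (hWV.trans (hb V)) = h.appLE V W hWV := d.appLE_eq hJ hD hW hWV
  have e4 : IsAffineOpen.fromSpec hW ≫ h = IsAffineOpen.fromSpec hW ≫ h' := by
    rw [← e1, ← e2, e3]
  have e5 : Scheme.Opens.ι W = (IsAffineOpen.isoSpec hW).hom ≫ IsAffineOpen.fromSpec hW :=
    (IsAffineOpen.isoSpec_hom_fromSpec hW).symm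
  rw [e5, Category.assoc, Category.assoc, e4]

end Groth.Agent.Lib.LiftUniqH7
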