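import Mathlib
import Groth.Prelude
import Groth.Agent.Lib.RestrOpen_helper2
import Groth.Agent.Lib.LiftUniq_helper7

/-!
# The units exact sequence `0 → J → O_X^× → i_* O_{X₀}^× → 0` of a square-zero ideal (helper7)
APPEND-ONLY once landed.
-/

set_option autoImplicit false
set_option linter.style.haveILetI false

universe u

open CategoryTheory CategoryTheory.Limits AlgebraicGeometry Opposite TopologicalSpace

namespace Groth.Agent.Lib.UnitsSeqH7

open Groth.Agent.Lib.ConormBCH7 Groth.Agent.Lib.LiftUniqH7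

variable {X : Scheme.{u}} (J : X.IdealSheafData)

theorem idealSect_mul_eq_zero (hJ : J * J = ⊥) (U : X.Opens) (s t : Γ(ClSub.idealMod J, U)) :
    OmegaSh.idealSect J U s * OmegaSh.idealSect J U t = 0 := by
  have h0 : OmegaSh.strSect X U (OmegaSh.idealSect J U s * OmegaSh.idealSect J U t) = 0 := by
    refine QcqsLoc.eq_zero_of_cover (F := Coh.structureModule X) _ (fun x hx => ?_)
    obtain ⟨W, hW, hxW, hWU⟩ := (Opens.isBasis_iff_nbhd.mp X.isBasis_affineOpens) hx
    refine ⟨W, hWU, hxW, ?_⟩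
    have r1 := Groth.Agent.Lib.ConormSeqH4.idealSect_res J hWU s
    have r2 := Groth.Agent.Lib.ConormSeqH4.idealSect_res J hWU t
    have m1 : OmegaSh.idealSect J W ((ClSub.idealMod J).presheaf.map (homOfLE hWU).op s) ∈
        J.ideal ⟨W, hW⟩ := TensH8.idealModι_mem J hW _
    have m2 : OmegaSh.idealSect J W ((ClSub.idealMod J).presheaf.map (homOfLE hWU).op t) ∈
        J.ideal ⟨W, hW⟩ := TensH8.idealModι_mem J hW _
    have h3 := Ideal.mul_mem_mul m1 m2
    have h4 : (J.ideal ⟨W, hW⟩) * (J.ideal ⟨W, hW⟩) = ⊥ :=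
      congrArg (fun K : X.IdealSheafData => K.ideal ⟨W, hW⟩) hJ
    rw [h4, r1, r2, ← map_mul] at h3
    exact h3
  exact h0

/-- The unit `1 + t`. -/
noncomputable def unitOf (hJ : J * J = ⊥) (U : X.Opens) (t : Γ(ClSub.idealMod J, U)) :
    (Γ(X, U))ˣ where
  val := 1 + OmegaSh.idealSect J U t
  inv := 1 - OmegaSh.idealSect J U t
  val_inv := by
    have h := idealSect_mul_eq_zero J hJ U t t
    have e : (1 + OmegaSh.idealSect J U t) * (1 - OmegaSh.idealSect J U t) =
        1 - OmegaSh.idealSect J U t * OmegaSh.idealSect J U t := by ring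
    rw [e, h, sub_zero]
  inv_val := by
    have h := idealSect_mul_eq_zero J hJ U t t
    have e : (1 - OmegaSh.idealSect J U t) * (1 + OmegaSh.idealSect J U t) =
        1 - OmegaSh.idealSect J U t * OmegaSh.idealSect J U t := by ring
    rw [e, h, sub_zero]

theorem unitOf_val (hJ : J * J = ⊥) (U : X.Opens) (t : Γ(ClSub.idealMod J, U)) :
    (unitOf J hJ U t).val = 1 + OmegaSh.idealSect J U t := rfl

theorem unitOf_add (hJ : J * J = ⊥) (U : X.Opens) (s t : Γ(ClSub.idealMod J, U)) :
    unitOf J hJ U (s + t) = unitOf J hJ U s * unitOf J hJ U t := by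
  refine Units.ext ?_
  show 1 + OmegaSh.idealSect J U (s + t) =
    (1 + OmegaSh.idealSect J U s) * (1 + OmegaSh.idealSect J U t)
  have h := idealSect_mul_eq_zero J hJ U s t
  rw [map_add]
  linear_combination (-1 : Γ(X, U)) * h

theorem unitOf_res (hJ : J * J = ⊥) {U V : X.Opens} (e : V ≤ U) (t : Γ(ClSub.idealMod J, U)) :
    unitOf J hJ V ((ClSub.idealMod J).presheaf.map (homOfLE e).op t) =
      Units.map (X.presheaf.map (homOfLE e).op).hom.toMonoidHom (unitOf J hJ U t) := by
  refine Units.ext ?_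
  show 1 + OmegaSh.idealSect J V ((ClSub.idealMod J).presheaf.map (homOfLE e).op t) =
    (X.presheaf.map (homOfLE e).op).hom (1 + OmegaSh.idealSect J U t)
  rw [Groth.Agent.Lib.ConormSeqH4.idealSect_res, map_add, map_one]

theorem unitOf_injective (hJ : J * J = ⊥) (U : X.Opens) (s t : Γ(ClSub.idealMod J, U))
    (h : unitOf J hJ U s = unitOf J hJ U t) : s = t := by
  apply idealSect_injective
  have h1 : (unitOf J hJ U s).val = (unitOf J hJ U t).val := congrArg Units.val h
  rw [unitOf_val, unitOf_val] at h1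
  exact add_left_cancel h1

/-- Components of `φ`. -/
noncomputable def phiApp (hJ : J * J = ⊥) (U : (Opens X)ᵒᵖ) :
    (ClSub.idealMod J).val.obj U →+ (UnitsSh.unitsAb X).obj.obj U :=
  AddMonoidHom.mk'
    (fun t => UnitsSh.sectOfUnit (X := X.toTopCat) (O := X.sheaf.obj) (U := U)
      (unitOf J hJ U.unop t))
    (fun s t => by
      have h := unitOf_add J hJ U.unop s t
      exact congrArg (fun v => UnitsSh.sectOfUnit (X := X.toTopCat) (O := X.sheaf.obj) (U := U) v) h)

theorem unitOfSect_phiApp (hJ : J * J = ⊥) (U : (Opens X)ᵒᵖ) (t : (ClSub.idealMod J).val.obj U) :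
    UnitsSh.unitOfSect (phiApp J hJ U t) = unitOf J hJ U.unop t := rfl

/-- The morphism `J → O_X^×`, `f ↦ 1 + f`. -/
noncomputable def phi (hJ : J * J = ⊥) : Coh.toAb (ClSub.idealMod J) ⟶ UnitsSh.unitsAb X :=
  ⟨{ app := fun U => AddCommGrpCat.ofHom (phiApp J hJ U)
     naturality := by
       intro U V f
       ext t
       have h := unitOf_res J hJ (leOfHom f.unop) t
       exact congrArg (fun v => UnitsSh.sectOfUnit (X := X.toTopCat) (O := X.sheaf.obj) (U := V) v) h }⟩

theorem phi_app (hJ : J * J = ⊥) (U : (Opens X)ᵒᵖ) (t : (ClSub.idealMod J).val.obj U) :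
    UnitsSh.unitOfSect ((phi J hJ).hom.app U t) = unitOf J hJ U.unop t := rfl

theorem phi_spec (hJ : J * J = ⊥) (U : X.Opens) (f : (ClSub.idealMod J).val.obj (op U)) :
    (UnitsSh.unitOfSect ((phi J hJ).hom.app (op U) f)).val =
      1 + (show X.sheaf.obj.obj (op U) from (ClSub.idealModι J).val.app (op U) f) := rfl

theorem ker_idealSect (U : X.Opens) (t : Γ(ClSub.idealMod J, U)) :
    (J.subschemeι.app U).hom (OmegaSh.idealSect J U t) = 0 :=
  TensH8.kernel_section_mem (ClSub.toSubscheme J) t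

theorem phi_comap (hJ : J * J = ⊥) : phi J hJ ≫ UnitsSh.comap J.subschemeι = 0 := by
  apply Sheaf.hom_ext
  ext U t
  have h1 : Units.map (J.subschemeι.app U.unop).hom.toMonoidHom (unitOf J hJ U.unop t) = 1 := by
    refine Units.ext ?_
    show (J.subschemeι.app U.unop).hom (1 + OmegaSh.idealSect J U.unop t) = 1
    rw [map_add, map_one, ker_idealSect, add_zero]
  exact congrArg (fun v => UnitsSh.sectOfUnit (X := X.toTopCat)
    (O := (J.subschemeι.base _* J.subscheme.presheaf)) (U := U) v) h1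

theorem mono_phi (hJ : J * J = ⊥) : Mono (phi J hJ) := by
  haveI : ∀ U, Mono ((phi J hJ).hom.app U) := fun U => by
    refine (AddCommGrpCat.mono_iff_injective _).mpr fun s t h => ?_
    have h1 : unitOf J hJ U.unop s = unitOf J hJ U.unop t :=
      congrArg (fun z => UnitsSh.unitOfSect z) h
    exact unitOf_injective J hJ U.unop s t h1
  exact (sheafToPresheaf _ _).mono_of_mono_map (NatTrans.mono_of_mono_app (phi J hJ).hom)

theorem exact_phi (hJ : J * J = ⊥) :
    (ShortComplex.mk (phi J hJ) (UnitsSh.comap J.subschemeι) (phi_comap J hJ)).Exact := by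
  refine Groth.Agent.Lib.RestrOpen.exact_of_local _ ?_
  intro V s hs x hx
  refine ⟨V, le_rfl, hx, ?_⟩
  let u : (Γ(X, V))ˣ := UnitsSh.unitOfSect (X := X.toTopCat) (O := X.sheaf.obj) (U := op V) s
  have hu : Units.map (J.subschemeι.app V).hom.toMonoidHom u = 1 :=
    congrArg (fun z => UnitsSh.unitOfSect z) hs
  have hu1 : (J.subschemeι.app V).hom u.val = 1 := congrArg Units.val hu
  have hk : (J.subschemeι.app V).hom (u.val - 1) = 0 := by
    rw [map_sub, hu1, map_one, sub_self]
  obtain ⟨t, ht⟩ := exists_idealSect J V _ hk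
  refine ⟨t, ?_⟩
  have h1 : unitOf J hJ V t = u := by
    refine Units.ext ?_
    rw [unitOf_val, ht]
    ring
  have h2 : (phi J hJ).hom.app (op V) t = s :=
    congrArg (fun v => UnitsSh.sectOfUnit (X := X.toTopCat) (O := X.sheaf.obj) (U := op V) v) h1
  exact h2.trans (Groth.Agent.Lib.Cech.res_self _ _ s).symm

theorem epi_comap (hJ : J * J = ⊥) : Epi (UnitsSh.comap J.subschemeι) := by
  refine Groth.Agent.Lib.RestrOpen.epi_of_local _ ?_
  intro V s x hx
  obtain ⟨W, hW, hxW, hWV⟩ := (Opens.isBasis_iff_nbhd.mp X.isBasis_affineOpens) hx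
  refine ⟨W, hWV, hxW, ?_⟩
  set s' := Groth.Agent.Lib.Cech.res ((CohTop.push J.subschemeι.base).obj
    (UnitsSh.unitsAb J.subscheme)).obj hWV s with hs'
  let ub : (Γ(J.subscheme, J.subschemeι ⁻¹ᵁ W))ˣ :=
    UnitsSh.unitOfSect (X := J.subscheme.toTopCat) (O := J.subscheme.sheaf.obj)
      (U := op (J.subschemeι ⁻¹ᵁ W)) s'
  obtain ⟨a, ha⟩ := J.subschemeι.app_surjective W hW ub.val
  obtain ⟨b, hb⟩ := J.subschemeι.app_surjective W hW ub.inv
  have ha' : (J.subschemeι.app W).hom a = ub.val := ha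
  have hb' : (J.subschemeι.app W).hom b = ub.inv := hb
  have hk : (J.subschemeι.app W).hom (a * b - 1) = 0 := by
    rw [map_sub, map_mul, ha', hb', map_one, ub.val_inv, sub_self]
  obtain ⟨tn, htn⟩ := exists_idealSect J W _ hk
  have hnn : (a * b - 1) * (a * b - 1) = 0 := by
    have := idealSect_mul_eq_zero J hJ W tn tn
    rw [htn] at this
    exact this
  have hinv : a * (b * (1 - (a * b - 1))) = 1 := by
    linear_combination (-1 : Γ(X, W)) * hnn
  let au : (Γ(X, W))ˣ := ⟨a, b * (1 - (a * b - 1)), hinv, (mul_comm _ _).trans hinv⟩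
  refine ⟨UnitsSh.sectOfUnit (X := X.toTopCat) (O := X.sheaf.obj) (U := op W) au, ?_⟩
  have h1 : Units.map (J.subschemeι.app W).hom.toMonoidHom au = ub := Units.ext ha'
  exact congrArg (fun v => UnitsSh.sectOfUnit (X := X.toTopCat)
    (O := (J.subschemeι.base _* J.subscheme.presheaf)) (U := op W) v) h1

theorem main15747 (hJ : J * J = ⊥) :
    ∃ φ : Coh.toAb (ClSub.idealMod J) ⟶ UnitsSh.unitsAb X,
      (∀ (U : X.Opens) (f : (ClSub.idealMod J).val.obj (op U)),
        (UnitsSh.unitOfSect (φ.hom.app (op U) f)).val =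
          1 + (show X.sheaf.obj.obj (op U) from (ClSub.idealModι J).val.app (op U) f)) ∧
      ∃ w : φ ≫ UnitsSh.comap J.subschemeι = 0,
        (ShortComplex.mk φ (UnitsSh.comap J.subschemeι) w).ShortExact :=
  ⟨phi J hJ, phi_spec J hJ, phi_comap J hJ,
    ShortComplex.ShortExact.mk' (exact_phi J hJ) (mono_phi J hJ) (epi_comap J hJ)⟩

end Groth.Agent.Lib.UnitsSeqH7
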