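import Mathlib
import Groth.Prelude
import Groth.Agent.Lib.BasisHom_helper7
import Groth.Agent.Lib.UnitsSeq_helper7
import Groth.Agent.Lib.NilAff1_helper8
import Groth.Agent.Lib.GenLoc_helper8
import Groth.Agent.Lib.SerreCrit3_helper9
import Groth.Agent.Lib.ConormSeq1_helper4
import Groth.Agent.Lib.Tens6_helper8
import Groth.Agent.Lib.Tens30_helper8

/-!
# Invertible modules trivial modulo a square-zero ideal with `H¹(X, I) = 0` are trivial (helper7)

`PicSqH7.core`: `J * J = ⊥`, `M` invertible on `X`, `τ` a global section of `i_* i^* M` generating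
it on affine opens, `H¹(X, J) = 0`  ⟹  `M ≅ O_X`.
APPEND-ONLY once landed.
-/

set_option autoImplicit false
set_option linter.style.haveILetI false

universe u

open CategoryTheory CategoryTheory.Limits AlgebraicGeometry Opposite TopologicalSpace
open QcqsLoc QCohExtn GenLocH8 FLFH8

namespace Groth.Agent.Lib.PicSqH7

open Groth.Agent.Lib.ConormBCH7 Groth.Agent.Lib.LiftUniqH7 Groth.Agent.Lib.UnitsSeqH7

variable {X : Scheme.{u}} (J : X.IdealSheafData) (M : X.Modules)

/-- `i_* i^* M` for the closed immersion `i` of `V(J)`. -/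
noncomputable abbrev iM : X.Modules :=
  (Scheme.Modules.pushforward J.subschemeι).obj ((Scheme.Modules.pullback J.subschemeι).obj M)

/-- The unit `M ⟶ i_* i^* M`. -/
noncomputable abbrev eta : M ⟶ iM J M :=
  (Scheme.Modules.pullbackPushforwardAdjunction J.subschemeι).unit.app M

theorem rF_self' (F : X.Modules) {U : X.Opens} (h : U ≤ U) (s : Γ(F, U)) : rF F h s = s := by
  change F.presheaf.map (homOfLE h).op s = s
  have : (homOfLE h).op = 𝟙 (op U) := rfl
  rw [this, F.presheaf.map_id]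
  rfl

/-- `τ` generates `i_* i^* M` over every affine open. -/
def GenMod (τ : Γ(iM J M, ⊤)) : Prop :=
  ∀ (U : X.Opens), IsAffineOpen U → ∀ m : Γ(iM J M, U),
    ∃ d : Γ(X, U), d • rF (iM J M) (le_top : U ≤ ⊤) τ = m

theorem idealSect_smul_iM (W : X.Opens) (b : Γ(ClSub.idealMod J, W)) (t : Γ(iM J M, W)) :
    OmegaSh.idealSect J W b • t = 0 := by
  have h0 : (J.subschemeι.app W).hom (OmegaSh.idealSect J W b) = 0 :=
    TensH8.kernel_section_mem (ClSub.toSubscheme J) b
  have h1 : OmegaSh.idealSect J W b • t = (show Γ(iM J M, W) from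
      ((J.subschemeι.app W).hom (OmegaSh.idealSect J W b) •
        (show Γ((Scheme.Modules.pullback J.subschemeι).obj M, J.subschemeι ⁻¹ᵁ W) from t))) := rfl
  rw [h1, h0, zero_smul]
  rfl

section QC

variable [M.IsQuasicoherent]

theorem mem_of_ker {U : X.Opens} (hU : IsAffineOpen U) (m : Γ(M, U))
    (hm : ap (eta J M) U m = 0) :
    m ∈ (J.ideal ⟨U, hU⟩) • (⊤ : Submodule Γ(X, U) Γ(M, U)) := by
  have h0 := NilAffH8.unit_app_ker J.subschemeι M hU m hm
  rw [J.ker_subschemeι] at h0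
  exact h0

theorem idealSect_smul_eq_zero (hJ : J * J = ⊥) {U : X.Opens} (hU : IsAffineOpen U)
    (b : Γ(ClSub.idealMod J, U)) (m : Γ(M, U)) (hm : ap (eta J M) U m = 0) :
    OmegaSh.idealSect J U b • m = 0 := by
  have hmem := mem_of_ker J M hU m hm
  refine Submodule.smul_induction_on (p := fun m => OmegaSh.idealSect J U b • m = 0) hmem ?_ ?_
  · intro r hr n _
    obtain ⟨b', hb'⟩ := TensH8.exists_idealMod_section J hU r hr
    have hb'' : OmegaSh.idealSect J U b' = r := hb'
    show OmegaSh.idealSect J U b • (r • n) = 0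
    rw [smul_smul, ← hb'', idealSect_mul_eq_zero J hJ U b b', zero_smul]
  · intro x y hx hy
    show OmegaSh.idealSect J U b • (x + y) = 0
    rw [smul_add, hx, hy, add_zero]

theorem exists_idealSect_of_ker {U : X.Opens} (hU : IsAffineOpen U) (g : Γ(M, U))
    (hg : IsGen M U g) (r : Γ(X, U)) (hr : ap (eta J M) U (r • g) = 0) :
    ∃ b : Γ(ClSub.idealMod J, U), OmegaSh.idealSect J U b = r := by
  have hmem := mem_of_ker J M hU (r • g) hr
  have key : ∀ m ∈ (J.ideal ⟨U, hU⟩) • (⊤ : Submodule Γ(X, U) Γ(M, U)),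
      ∃ a ∈ J.ideal ⟨U, hU⟩, m = a • g := by
    intro m hm
    refine Submodule.smul_induction_on (p := fun m => ∃ a ∈ J.ideal ⟨U, hU⟩, m = a • g) hm ?_ ?_
    · intro r' hr' n _
      obtain ⟨c, hc⟩ := (hg U le_rfl).1 n
      rw [rF_self'] at hc
      exact ⟨r' * c, Ideal.mul_mem_right c _ hr', by rw [hc, smul_smul]⟩
    · rintro x y ⟨a, ha, rfl⟩ ⟨a', ha', rfl⟩
      exact ⟨a + a', Ideal.add_mem _ ha ha', (add_smul a a' g).symm⟩
  obtain ⟨a, ha, hag⟩ := key _ hmem
  have h1 : (r - a) • rF M (le_refl U) g = 0 := by rw [rF_self', sub_smul, hag, sub_self]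
  have h2 : r - a = 0 := (hg U le_rfl).2 _ h1
  have h3 : r = a := sub_eq_zero.mp h2
  obtain ⟨b, hb⟩ := TensH8.exists_idealMod_section J hU a ha
  exact ⟨b, hb.trans h3.symm⟩

/-- A lift of `τ` over an affine open with a generator is a unit multiple of the generator. -/
theorem exists_unit_coeff (hJ : J * J = ⊥) (τ : Γ(iM J M, ⊤)) (hτ : GenMod J M τ)
    {U : X.Opens} (hU : IsAffineOpen U) (g : Γ(M, U)) (hg : IsGen M U g) (s : Γ(M, U))
    (hs : ap (eta J M) U s = rF (iM J M) (le_top : U ≤ ⊤) τ) :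
    ∃ c : (Γ(X, U))ˣ, s = (c : Γ(X, U)) • g := by
  obtain ⟨c, hc⟩ := (hg U le_rfl).1 s
  rw [rF_self'] at hc
  obtain ⟨d, hd⟩ := hτ U hU (ap (eta J M) U g)
  have e1 : (1 - d * c) • g = g - d • s := by rw [hc, sub_smul, one_smul, smul_smul]
  have e2 : ap (eta J M) U (g - d • s) = ap (eta J M) U g - d • ap (eta J M) U s := by
    rw [map_sub, ap_smul]
  have h1 : ap (eta J M) U ((1 - d * c) • g) = 0 := by
    rw [e1, e2, hs, hd, sub_self]
  obtain ⟨b, hb⟩ := exists_idealSect_of_ker J M hU g hg _ h1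
  have hbb := idealSect_mul_eq_zero J hJ U b b
  rw [hb] at hbb
  have h2 : c * (d * (1 + (1 - d * c))) = 1 := by
    linear_combination (-1 : Γ(X, U)) * hbb
  have h3 : (d * (1 + (1 - d * c))) * c = 1 := by rw [mul_comm]; exact h2
  exact ⟨⟨c, d * (1 + (1 - d * c)), h2, h3⟩, hc⟩

end QC

/-- The basis: affine opens over which `M` has a generator. -/
def B : Set X.Opens := {U | IsAffineOpen U ∧ ∃ g : Γ(M, U), IsGen M U g}

variable {M} in
theorem hP (hM : PicF.IsInvertible M) (O : X.Opens) (x : X) (hx : x ∈ O) :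
    ∃ W : X.Opens, W ∈ B M ∧ x ∈ W ∧ W ≤ O := by
  obtain ⟨W, hW, hxW, g, hg⟩ := exists_isGen hM x
  obtain ⟨V, hV, hxV, hVle⟩ := (Opens.isBasis_iff_nbhd.mp X.isBasis_affineOpens)
    (show x ∈ W ⊓ O from ⟨hxW, hx⟩)
  exact ⟨V, ⟨hV, rF M (hVle.trans inf_le_left) g, hg.res _⟩, hxV, hVle.trans inf_le_right⟩

variable {M} in
theorem isBasis_B (hM : PicF.IsInvertible M) : Opens.IsBasis (B M) := by
  rw [Opens.isBasis_iff_nbhd]
  intro O x hx
  obtain ⟨W, hW, hxW, hWO⟩ := hP hM O x hx
  exact ⟨W, hW, hxW, hWO⟩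

section Lift

variable [M.IsQuasicoherent] (τ : Γ(iM J M, ⊤))

theorem exists_lift {U : X.Opens} (hU : IsAffineOpen U) :
    ∃ s : Γ(M, U), ap (eta J M) U s = rF (iM J M) (le_top : U ≤ ⊤) τ :=
  NilAffH8.unit_app_surjective J.subschemeι M hU _

/-- A chosen lift of `τ` over a member of the basis. -/
noncomputable def lift (U : X.Opens) (hU : U ∈ B M) : Γ(M, U) :=
  (exists_lift J M τ hU.1).choose

theorem lift_spec (U : X.Opens) (hU : U ∈ B M) :
    ap (eta J M) U (lift J M τ U hU) = rF (iM J M) (le_top : U ≤ ⊤) τ :=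
  (exists_lift J M τ hU.1).choose_spec

/-- The maps `a ↦ a • (lift of τ)` on the basis. -/
noncomputable def data (hJ : J * J = ⊥) : BasisHomH7.Data (ClSub.idealMod J) M (B M) where
  ψ U hU :=
    { toFun := fun a => OmegaSh.idealSect J U a • lift J M τ U hU
      map_zero' := by rw [map_zero, zero_smul]
      map_add' := fun a a' => by rw [map_add, add_smul] }
  res U V hU hV h a := by
    show rF M h (OmegaSh.idealSect J U a • lift J M τ U hU) =
      OmegaSh.idealSect J V (rF (ClSub.idealMod J) h a) • lift J M τ V hV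
    have e1 : OmegaSh.idealSect J V (rF (ClSub.idealMod J) h a) =
        rX h (OmegaSh.idealSect J U a) := Groth.Agent.Lib.ConormSeqH4.idealSect_res J h a
    have hd : ap (eta J M) V (rF M h (lift J M τ U hU) - lift J M τ V hV) = 0 := by
      rw [map_sub, ap_rF, lift_spec, lift_spec, rF_rF, sub_self]
    have h0 := idealSect_smul_eq_zero J M hJ hV.1 (rF (ClSub.idealMod J) h a) _ hd
    rw [smul_sub, sub_eq_zero] at h0
    rw [rF_smul, ← e1]
    exact h0
  lin U hU r a := by
    show OmegaSh.idealSect J U (r • a) • lift J M τ U hU =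
      r • (OmegaSh.idealSect J U a • lift J M τ U hU)
    rw [idealSect_smul, mul_smul]

end Lift

end Groth.Agent.Lib.PicSqH7
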