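import Mathlib
import Groth.Prelude
import Groth.Agent.Lib.Tens41_helper8
import Groth.Agent.Lib.TwistEpi_helper5

/-!
# Two modules trivialised on a cover with cohomologous cocycles are isomorphic (helper9)
APPEND-ONLY once landed.
-/

set_option autoImplicit false

namespace CocycIsoH9

open AlgebraicGeometry CategoryTheory CategoryTheory.Limits TopologicalSpace Opposite
open QcqsLoc QCohExtn GenLocH8 TensH8

universe u

section Transfer

variable {X : Scheme.{u}} {ι : Type u} {U : ι → X.Opens} {L L' : X.Modules}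
  {s : ∀ i, Γ(L, U i)} {s' : ∀ i, Γ(L', U i)}
  {η η' : ∀ i j, Γ(X, U i ⊓ U j)} {u : ∀ i, Γ(X, U i)}

theorem eta_res (hη : ∀ i j, rF L (inf_le_left : U i ⊓ U j ≤ U i) (s i) =
      η i j • rF L (inf_le_right : U i ⊓ U j ≤ U j) (s j))
    {i j : ι} {W : X.Opens} (hi : W ≤ U i) (hj : W ≤ U j) :
    rF L hi (s i) = rX (le_inf hi hj) (η i j) • rF L hj (s j) := by
  rw [← rF_rF L (le_inf hi hj) (inf_le_left : U i ⊓ U j ≤ U i) (s i), hη i j, rF_smul, rF_rF]

theorem u_res (hu : ∀ i j, η' i j * rX (inf_le_left : U i ⊓ U j ≤ U i) (u i) =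
      rX (inf_le_right : U i ⊓ U j ≤ U j) (u j) * η i j)
    {i j : ι} {W : X.Opens} (hi : W ≤ U i) (hj : W ≤ U j) :
    rX (le_inf hi hj) (η' i j) * rX hi (u i) = rX hj (u j) * rX (le_inf hi hj) (η i j) := by
  have h := congrArg (rX (le_inf hi hj)) (hu i j)
  rw [map_mul, map_mul, rX_rX, rX_rX] at h
  exact h

variable (s s' u) in
/-- the defining property of the transferred section -/
def Spec (V : X.Opens) (m : Γ(L, V)) (σ : Γ(L', V)) : Prop :=
  ∀ (i : ι) (W : X.Opens) (hWV : W ≤ V) (hWU : W ≤ U i), ∃ c : Γ(X, W),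
    rF L hWV m = c • rF L hWU (s i) ∧ rF L' hWV σ = (c * rX hWU (u i)) • rF L' hWU (s' i)

variable (hU : iSup U = ⊤) (hs : ∀ i, IsGen L (U i) (s i))

include hU hs in
theorem spec_unique {V : X.Opens} {m : Γ(L, V)} {σ σ' : Γ(L', V)} (h : Spec s s' u V m σ)
    (h' : Spec s s' u V m σ') : σ = σ' := by
  apply eq_of_cover L'
  intro x hx
  obtain ⟨i, hi⟩ := Opens.mem_iSup.1 (show x ∈ iSup U by rw [hU]; trivial)
  refine ⟨V ⊓ U i, inf_le_left, ⟨hx, hi⟩, ?_⟩
  obtain ⟨c, hc1, hc2⟩ := h i (V ⊓ U i) inf_le_left inf_le_right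
  obtain ⟨c', hc1', hc2'⟩ := h' i (V ⊓ U i) inf_le_left inf_le_right
  have hcc : c = c' := TensH8.IsGen.coef_ext ((hs i).res inf_le_right) (hc1.symm.trans hc1')
  rw [hc2, hc2', hcc]

variable (hη : ∀ i j, rF L (inf_le_left : U i ⊓ U j ≤ U i) (s i) =
      η i j • rF L (inf_le_right : U i ⊓ U j ≤ U j) (s j))
  (hη' : ∀ i j, rF L' (inf_le_left : U i ⊓ U j ≤ U i) (s' i) =
      η' i j • rF L' (inf_le_right : U i ⊓ U j ≤ U j) (s' j))
  (hu : ∀ i j, η' i j * rX (inf_le_left : U i ⊓ U j ≤ U i) (u i) =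
      rX (inf_le_right : U i ⊓ U j ≤ U j) (u j) * η i j)

include hU hs hη hη' hu in
theorem exists_spec (V : X.Opens) (m : Γ(L, V)) : ∃ σ : Γ(L', V), Spec s s' u V m σ := by
  let O : ι → X.Opens := fun i => V ⊓ U i
  have hOV : ∀ i, O i ≤ V := fun i => inf_le_left
  have hOU : ∀ i, O i ≤ U i := fun i => inf_le_right
  have hcov : V ≤ ⨆ i, O i := by
    intro x hx
    obtain ⟨i, hi⟩ := Opens.mem_iSup.1 (show x ∈ iSup U by rw [hU]; trivial)
    exact Opens.mem_iSup.2 ⟨i, hx, hi⟩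
  have hc : ∀ i, ∃ c : Γ(X, O i), rF L (hOV i) m = c • rF L (hOU i) (s i) := fun i =>
    ((hs i).res (hOU i)).exists_coef _
  choose c hc using hc
  let τ : ∀ i, Γ(L', O i) := fun i => (c i * rX (hOU i) (u i)) • rF L' (hOU i) (s' i)
  have hcompat : ∀ i j, rF L' (inf_le_left : O i ⊓ O j ≤ O i) (τ i) =
      rF L' (inf_le_right : O i ⊓ O j ≤ O j) (τ j) := by
    intro i j
    have hWi : O i ⊓ O j ≤ O i := inf_le_left
    have hWj : O i ⊓ O j ≤ O j := inf_le_right
    have hi : O i ⊓ O j ≤ U i := hWi.trans (hOU i)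
    have hj : O i ⊓ O j ≤ U j := hWj.trans (hOU j)
    have h1 : rX hWj (c j) = rX hWi (c i) * rX (le_inf hi hj) (η i j) := by
      apply TensH8.IsGen.coef_ext ((hs j).res hj)
      rw [mul_smul, ← eta_res hη hi hj]
      have e1 : rF L (hWj.trans (hOV j)) m = rX hWj (c j) • rF L hj (s j) := by
        rw [← rF_rF L hWj (hOV j) m, hc j, rF_smul, rF_rF]
      have e2 : rF L (hWi.trans (hOV i)) m = rX hWi (c i) • rF L hi (s i) := by
        rw [← rF_rF L hWi (hOV i) m, hc i, rF_smul, rF_rF]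
      exact e1.symm.trans e2
    show rF L' hWi ((c i * rX (hOU i) (u i)) • rF L' (hOU i) (s' i)) =
      rF L' hWj ((c j * rX (hOU j) (u j)) • rF L' (hOU j) (s' j))
    rw [rF_smul, rF_smul, rF_rF, rF_rF, map_mul, map_mul, rX_rX, rX_rX, h1,
      eta_res hη' hi hj, ← mul_smul]
    congr 1
    have h2 := u_res hu hi hj
    calc rX hWi (c i) * rX hi (u i) * rX (le_inf hi hj) (η' i j)
        = rX hWi (c i) * (rX (le_inf hi hj) (η' i j) * rX hi (u i)) := by ring
      _ = rX hWi (c i) * (rX hj (u j) * rX (le_inf hi hj) (η i j)) := by rw [h2]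
      _ = rX hWi (c i) * rX (le_inf hi hj) (η i j) * rX hj (u j) := by ring
  obtain ⟨σ, hσ⟩ := glue L' O V hOV hcov τ hcompat
  refine ⟨σ, fun i W hWV hWU => ?_⟩
  have hWO : W ≤ O i := le_inf hWV hWU
  refine ⟨rX hWO (c i), ?_, ?_⟩
  · rw [← rF_rF L hWO (hOV i) m, hc i, rF_smul, rF_rF]
  · rw [← rF_rF L' hWO (hOV i) σ, hσ i]
    show rF L' hWO ((c i * rX (hOU i) (u i)) • rF L' (hOU i) (s' i)) = _
    rw [rF_smul, rF_rF, map_mul, rX_rX]

end Transfer

end CocycIsoH9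

namespace CocycIsoH9

open AlgebraicGeometry CategoryTheory CategoryTheory.Limits TopologicalSpace Opposite
open QcqsLoc QCohExtn GenLocH8 TensH8

universe u

section Hom

variable {X : Scheme.{u}} {ι : Type u} {U : ι → X.Opens} {L L' : X.Modules}
  {s : ∀ i, Γ(L, U i)} {s' : ∀ i, Γ(L', U i)}
  {η η' : ∀ i j, Γ(X, U i ⊓ U j)} {u : ∀ i, Γ(X, U i)}
  (hU : iSup U = ⊤) (hs : ∀ i, IsGen L (U i) (s i))
  (hη : ∀ i j, rF L (inf_le_left : U i ⊓ U j ≤ U i) (s i) =
      η i j • rF L (inf_le_right : U i ⊓ U j ≤ U j) (s j))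
  (hη' : ∀ i j, rF L' (inf_le_left : U i ⊓ U j ≤ U i) (s' i) =
      η' i j • rF L' (inf_le_right : U i ⊓ U j ≤ U j) (s' j))
  (hu : ∀ i j, η' i j * rX (inf_le_left : U i ⊓ U j ≤ U i) (u i) =
      rX (inf_le_right : U i ⊓ U j ≤ U j) (u j) * η i j)

omit hU hs hη hη' hu in
theorem rX_self_aux {W : X.Opens} (h : W ≤ W) (c : Γ(X, W)) : rX h c = c := by
  have h1 : (homOfLE h).op = 𝟙 (op W) := Subsingleton.elim _ _
  show (X.presheaf.map (homOfLE h).op).hom c = c
  rw [h1, X.presheaf.map_id]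
  rfl

/-- the transferred section -/
noncomputable def transfer (V : X.Opens) (m : Γ(L, V)) : Γ(L', V) :=
  Classical.choose (exists_spec hU hs hη hη' hu V m)

theorem transfer_spec (V : X.Opens) (m : Γ(L, V)) :
    Spec s s' u V m (transfer hU hs hη hη' hu V m) :=
  Classical.choose_spec (exists_spec hU hs hη hη' hu V m)

theorem transfer_add (V : X.Opens) (m m' : Γ(L, V)) :
    transfer hU hs hη hη' hu V (m + m') =
      transfer hU hs hη hη' hu V m + transfer hU hs hη hη' hu V m' := by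
  refine spec_unique hU hs (transfer_spec hU hs hη hη' hu V (m + m')) ?_
  intro i W hWV hWU
  obtain ⟨c, h1, h2⟩ := transfer_spec hU hs hη hη' hu V m i W hWV hWU
  obtain ⟨c', h1', h2'⟩ := transfer_spec hU hs hη hη' hu V m' i W hWV hWU
  refine ⟨c + c', ?_, ?_⟩
  · rw [map_add, h1, h1', add_smul]
  · rw [map_add, h2, h2', add_mul, add_smul]

theorem transfer_smul (V : X.Opens) (r : Γ(X, V)) (m : Γ(L, V)) :
    transfer hU hs hη hη' hu V (r • m) = r • transfer hU hs hη hη' hu V m := by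
  refine spec_unique hU hs (transfer_spec hU hs hη hη' hu V (r • m)) ?_
  intro i W hWV hWU
  obtain ⟨c, h1, h2⟩ := transfer_spec hU hs hη hη' hu V m i W hWV hWU
  refine ⟨rX hWV r * c, ?_, ?_⟩
  · rw [rF_smul, h1, mul_smul]
  · rw [rF_smul, h2, ← mul_smul, mul_assoc]

theorem transfer_rF {V V' : X.Opens} (h : V' ≤ V) (m : Γ(L, V)) :
    rF L' h (transfer hU hs hη hη' hu V m) = transfer hU hs hη hη' hu V' (rF L h m) := by
  refine (spec_unique hU hs (transfer_spec hU hs hη hη' hu V' (rF L h m)) ?_).symm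
  intro i W hWV hWU
  obtain ⟨c, h1, h2⟩ := transfer_spec hU hs hη hη' hu V m i W (hWV.trans h) hWU
  refine ⟨c, ?_, ?_⟩
  · rw [rF_rF]; exact h1
  · rw [rF_rF]; exact h2

/-- the morphism `L ⟶ L'` defined by the family `u`. -/
noncomputable def hom : L ⟶ L' :=
  Groth.Agent.FinGG.homOfSections (M := L) (P := L')
    (fun V => AddMonoidHom.mk' (fun m => transfer hU hs hη hη' hu V m)
      (fun a b => transfer_add hU hs hη hη' hu V a b))
    (fun V r m => transfer_smul hU hs hη hη' hu V r m)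
    (fun {V V'} h m => transfer_rF hU hs hη hη' hu h m)

theorem ap_hom_gen (i : ι) : ap (hom hU hs hη hη' hu) (U i) (s i) = u i • s' i := by
  obtain ⟨c, h1, h2⟩ := transfer_spec hU hs hη hη' hu (U i) (s i) i (U i) le_rfl le_rfl
  rw [SubExt.rF_self] at h1 h2
  rw [SubExt.rF_self, rX_self_aux] at h2
  have hc : c = 1 := TensH8.IsGen.coef_ext (hs i) (by rw [one_smul]; exact h1.symm)
  rw [hc, one_mul] at h2
  exact h2

include hU hs hη hη' hu in
theorem nonempty_iso (hs' : ∀ i, IsGen L' (U i) (s' i)) (hunit : ∀ i, IsUnit (u i)) :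
    Nonempty (L ≅ L') := by
  haveI : IsIso (hom hU hs hη hη' hu) := by
    apply isIso_of_isGen_cover
    intro x
    obtain ⟨i, hi⟩ := Opens.mem_iSup.1 (show x ∈ iSup U by rw [hU]; trivial)
    refine ⟨U i, hi, s i, hs i, ?_⟩
    rw [ap_hom_gen]
    exact isGen_smul_of_isUnit (hs' i) (hunit i)
  exact ⟨asIso (hom hU hs hη hη' hu)⟩

end Hom

end CocycIsoH9
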