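import Mathlib
import Groth.Prelude
import Groth.Agent.Lib.Tens16_helper8

/-!
# The invertible module attached to a unit cocycle (helper5).  APPEND-ONLY once landed.

Sections over `V` are the functions `y ↦ f y ∈ O_{X,y}` (`y ∈ V`) which locally are of the form
`y ↦ a_y · (η_{i, c y})_y` for one index `i` and a function `a`; here `c` chooses for each point an
index of the cover containing it.
-/

set_option autoImplicit false
universe u
open CategoryTheory AlgebraicGeometry TopologicalSpace Opposite TopCat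

noncomputable section

namespace Groth.Agent.CocycMod

variable {X : Scheme.{u}} {ι : Type u} (U : ι → X.Opens)
  (η : ∀ i j : ι, (Γ(X, U i ⊓ U j))ˣ)

/-- the germ of `η i j` at `y` -/
def g (i j : ι) (y : X) (hy : y ∈ U i ⊓ U j) : X.presheaf.stalk y :=
  (X.presheaf.germ (U i ⊓ U j) y hy).hom (η i j : Γ(X, U i ⊓ U j))

theorem isUnit_g (i j : ι) (y : X) (hy : y ∈ U i ⊓ U j) : IsUnit (g U η i j y hy) :=
  (η i j).isUnit.map (X.presheaf.germ (U i ⊓ U j) y hy).hom

/-- the cocycle condition -/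
def Cocycle : Prop :=
  ∀ i j k : ι,
      X.presheaf.map (homOfLE (inf_le_inf_right (U k) inf_le_left : U i ⊓ U j ⊓ U k ≤ U i ⊓ U k)).op
          (η i k : Γ(X, U i ⊓ U k)) =
        X.presheaf.map (homOfLE (inf_le_left : U i ⊓ U j ⊓ U k ≤ U i ⊓ U j)).op (η i j : Γ(X, U i ⊓ U j)) *
          X.presheaf.map (homOfLE (inf_le_inf_right (U k) inf_le_right : U i ⊓ U j ⊓ U k ≤ U j ⊓ U k)).op
            (η j k : Γ(X, U j ⊓ U k))

variable {U η}

theorem g_cocycle (hη : Cocycle U η) (i j k : ι) (y : X) (hi : y ∈ U i) (hj : y ∈ U j)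
    (hk : y ∈ U k) :
    g U η i k y ⟨hi, hk⟩ = g U η i j y ⟨hi, hj⟩ * g U η j k y ⟨hj, hk⟩ := by
  have h1 := congrArg (X.presheaf.germ (U i ⊓ U j ⊓ U k) y ⟨⟨hi, hj⟩, hk⟩).hom (hη i j k)
  rw [map_mul] at h1
  unfold g
  rw [← TopCat.Presheaf.germ_res_apply X.presheaf
      (homOfLE (inf_le_inf_right (U k) inf_le_left : U i ⊓ U j ⊓ U k ≤ U i ⊓ U k)) y ⟨⟨hi, hj⟩, hk⟩,
    ← TopCat.Presheaf.germ_res_apply X.presheaf
      (homOfLE (inf_le_left : U i ⊓ U j ⊓ U k ≤ U i ⊓ U j)) y ⟨⟨hi, hj⟩, hk⟩,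
    ← TopCat.Presheaf.germ_res_apply X.presheaf
      (homOfLE (inf_le_inf_right (U k) inf_le_right : U i ⊓ U j ⊓ U k ≤ U j ⊓ U k)) y ⟨⟨hi, hj⟩, hk⟩]
  exact h1

theorem g_self (hη : Cocycle U η) (i : ι) (y : X) (hi : y ∈ U i) : g U η i i y ⟨hi, hi⟩ = 1 := by
  have h1 := g_cocycle hη i i i y hi hi hi
  have h2 := isUnit_g U η i i y ⟨hi, hi⟩
  have h3 : g U η i i y ⟨hi, hi⟩ * 1 = g U η i i y ⟨hi, hi⟩ * g U η i i y ⟨hi, hi⟩ := by
    rw [mul_one]; exact h1
  exact (h2.mul_left_cancel h3).symm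

section Construction
variable (U η) (c : X → ι) (hc : ∀ x, x ∈ U (c x))

/-- the type family of germs -/
abbrev T (y : X.toTopCat) : Type u := X.presheaf.stalk y

/-- `f` is given on all of `V` by `a · η_{i, c y}` -/
def IsRep {V : Opens X.toTopCat} (f : ∀ y : V, T y.1) : Prop :=
  ∃ (i : ι) (hV : V ≤ U i) (a : Γ(X, V)), ∀ y : V,
    f y = (X.presheaf.germ V y.1 y.2).hom a * g U η i (c y.1) y.1 ⟨hV y.2, hc y.1⟩

def isRepPrelocal : PrelocalPredicate (fun y : X.toTopCat => T y) where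
  pred f := IsRep U η c hc f
  res := by
    rintro W V i f ⟨j, hV, a, h⟩
    refine ⟨j, i.le.trans hV, X.presheaf.map i.op a, fun y => ?_⟩
    have h1 := h (i y)
    refine h1.trans ?_
    congr 1
    exact (TopCat.Presheaf.germ_res_apply X.presheaf i y.1 y.2 a).symm

def isLocRep : LocalPredicate (fun y : X.toTopCat => T y) :=
  (isRepPrelocal U η c hc).sheafify

instance smulSect (V : (Opens X.toTopCat)ᵒᵖ) :
    SMul (X.presheaf.obj V) (∀ y : V.unop, T y.1) :=
  ⟨fun r f y => (X.presheaf.germ V.unop y.1 y.2).hom r * f y⟩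

@[simp] theorem smul_apply (V : (Opens X.toTopCat)ᵒᵖ) (r : X.presheaf.obj V)
    (f : ∀ y : V.unop, T y.1) (y : V.unop) :
    (r • f) y = (X.presheaf.germ V.unop y.1 y.2).hom r * f y := rfl

instance modSect (V : (Opens X.toTopCat)ᵒᵖ) :
    Module (X.presheaf.obj V) (∀ y : V.unop, T y.1) where
  one_smul f := by funext y; rw [smul_apply, map_one, one_mul]
  mul_smul r t f := by funext y; simp only [smul_apply, map_mul, mul_assoc]
  smul_zero r := by funext y; simp only [smul_apply, Pi.zero_apply, mul_zero]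
  smul_add r f f' := by funext y; simp only [smul_apply, Pi.add_apply, mul_add]
  add_smul r t f := by funext y; simp only [smul_apply, Pi.add_apply, map_add, add_mul]
  zero_smul f := by funext y; simp only [smul_apply, map_zero, zero_mul, Pi.zero_apply]

theorem zero_mem (V : (Opens X.toTopCat)ᵒᵖ) :
    (isLocRep U η c hc).pred (0 : ∀ y : V.unop, T y.1) := fun x =>
  ⟨V.unop ⊓ U (c x.1), ⟨x.2, hc x.1⟩, Opens.infLELeft _ _, c x.1, inf_le_right, 0, fun y => by
    simp only [Pi.zero_apply, map_zero, zero_mul]⟩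

variable (hη : Cocycle U η)
include hη

theorem add_mem (V : (Opens X.toTopCat)ᵒᵖ) (f f' : ∀ y : V.unop, T y.1)
    (hf : (isLocRep U η c hc).pred f) (hf' : (isLocRep U η c hc).pred f') :
    (isLocRep U η c hc).pred (f + f') := fun x => by
  obtain ⟨W, hxW, iW, i, hWi, a, ha⟩ := hf x
  obtain ⟨W', hxW', iW', i', hWi', a', ha'⟩ := hf' x
  have hle : W ⊓ W' ≤ U i' ⊓ U i := fun y hy => ⟨hWi' hy.2, hWi hy.1⟩
  refine ⟨W ⊓ W', ⟨hxW, hxW'⟩, Opens.infLELeft _ _ ≫ iW, i, inf_le_left.trans hWi,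
    X.presheaf.map (homOfLE (inf_le_left : W ⊓ W' ≤ W)).op a +
      X.presheaf.map (homOfLE (inf_le_right : W ⊓ W' ≤ W')).op a' *
        X.presheaf.map (homOfLE hle).op (η i' i : Γ(X, U i' ⊓ U i)), fun y => ?_⟩
  have e1 := ha ⟨y.1, y.2.1⟩
  have e2 := ha' ⟨y.1, y.2.2⟩
  have e3 := g_cocycle hη i' i (c y.1) y.1 (hWi' y.2.2) (hWi y.2.1) (hc y.1)
  simp only [Pi.add_apply] at e1 e2 ⊢
  have e1' : f ((Opens.infLELeft W W' ≫ iW) y) = f (iW ⟨y.1, y.2.1⟩) := rfl
  have e2' : f' ((Opens.infLELeft W W' ≫ iW) y) = f' (iW' ⟨y.1, y.2.2⟩) := rfl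
  rw [e1', e2', e1, e2, e3, map_add, map_mul,
    TopCat.Presheaf.germ_res_apply X.presheaf (homOfLE (inf_le_left : W ⊓ W' ≤ W)) y.1 y.2 a,
    TopCat.Presheaf.germ_res_apply X.presheaf (homOfLE (inf_le_right : W ⊓ W' ≤ W')) y.1 y.2 a',
    TopCat.Presheaf.germ_res_apply X.presheaf (homOfLE hle) y.1 y.2]
  unfold g
  ring

omit hη in
theorem smul_mem (V : (Opens X.toTopCat)ᵒᵖ) (r : X.presheaf.obj V) (f : ∀ y : V.unop, T y.1)
    (hf : (isLocRep U η c hc).pred f) : (isLocRep U η c hc).pred (r • f) := fun x => by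
  obtain ⟨W, hxW, iW, i, hWi, a, ha⟩ := hf x
  refine ⟨W, hxW, iW, i, hWi, X.presheaf.map iW.op r * a, fun y => ?_⟩
  have e1 := ha y
  simp only [smul_apply] at e1 ⊢
  rw [e1, map_mul, TopCat.Presheaf.germ_res_apply X.presheaf iW y.1 y.2 r, mul_assoc]
  rfl

/-- The module of sections over `V`. -/
def sect (V : (Opens X.toTopCat)ᵒᵖ) : Submodule (X.presheaf.obj V) (∀ y : V.unop, T y.1) where
  carrier := {f | (isLocRep U η c hc).pred f}
  zero_mem' := zero_mem U η c hc V
  add_mem' := add_mem U η c hc hη V _ _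
  smul_mem' := smul_mem U η c hc V

/-- Restriction of sections. -/
def res {V W : (Opens X.toTopCat)ᵒᵖ} (i : V ⟶ W) (f : sect U η c hc hη V) :
    sect U η c hc hη W :=
  ⟨fun y => f.1 (i.unop y), (isLocRep U η c hc).res i.unop f.1 f.2⟩

/-- The underlying presheaf of abelian groups. -/
def pre : TopCat.Presheaf AddCommGrpCat.{u} X.toTopCat where
  obj V := AddCommGrpCat.of (sect U η c hc hη V)
  map i := AddCommGrpCat.ofHom
    { toFun := res U η c hc hη i
      map_zero' := rfl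
      map_add' := fun _ _ => rfl }

def preCompForget : pre U η c hc hη ⋙ forget AddCommGrpCat ≅ (subsheafToTypes (isLocRep U η c hc)).1 :=
  NatIso.ofComponents (fun _ => Iso.refl _) (by intros; rfl)

/-- The presheaf of modules. -/
def pmod : PresheafOfModules.{u} (X.presheaf ⋙ forget₂ CommRingCat RingCat) :=
  letI (V : (Opens X.toTopCat)ᵒᵖ) :
      Module ↑((X.presheaf ⋙ forget₂ CommRingCat RingCat).obj V) ↑((pre U η c hc hη).obj V) := by
    dsimp; exact (inferInstance : Module (X.presheaf.obj V) (sect U η c hc hη V))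
  .ofPresheaf (pre U η c hc hη) fun V W i r m => by
    apply Subtype.ext
    funext y
    exact congrArg (· * _) (TopCat.Presheaf.germ_res_apply X.presheaf i.unop y.1 y.2 r).symm

/-- **The invertible module attached to the cocycle `η`.** -/
def L : X.Modules where
  val := pmod U η c hc hη
  isSheaf := (TopCat.Presheaf.isSheaf_iff_isSheaf_comp (forget AddCommGrpCat) _).2
    (subsheafToTypes (isLocRep U η c hc)).2

end Construction

end Groth.Agent.CocycMod
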