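import Mathlib
import Groth.Prelude
import Groth.Agent.Lib.CocycMod1_helper5
import Groth.Agent.Lib.Tens5_helper8

/-!
# The invertible module attached to a unit cocycle: generators and transition functions (helper5).
APPEND-ONLY once landed.
-/

set_option autoImplicit false
universe u
open CategoryTheory AlgebraicGeometry TopologicalSpace Opposite TopCat

noncomputable section

namespace Groth.Agent.CocycMod

open QcqsLoc QCohExtn GenLocH8 TensH8

variable {X : Scheme.{u}} {ι : Type u} (U : ι → X.Opens)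
  (η : ∀ i j : ι, (Γ(X, U i ⊓ U j))ˣ) (c : X → ι) (hc : ∀ x, x ∈ U (c x)) (hη : Cocycle U η)

/-- the value of a section at a point -/
abbrev val {V : X.Opens} (s : Γ(L U η c hc hη, V)) (y : V) : X.presheaf.stalk y.1 :=
  (show sect U η c hc hη (op V) from s).1 y

theorem ext {V : X.Opens} (s t : Γ(L U η c hc hη, V))
    (h : ∀ y : V, val U η c hc hη s y = val U η c hc hη t y) : s = t := by
  apply Subtype.ext
  funext y
  exact h y

theorem val_smul {V : X.Opens} (r : Γ(X, V)) (s : Γ(L U η c hc hη, V)) (y : V) :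
    val U η c hc hη (r • s) y = (X.presheaf.germ V y.1 y.2).hom r * val U η c hc hη s y := rfl

theorem val_rF {V V' : X.Opens} (h : V' ≤ V) (s : Γ(L U η c hc hη, V)) (y : V') :
    val U η c hc hη (rF (L U η c hc hη) h s) y = val U η c hc hη s ⟨y.1, h y.2⟩ := rfl

theorem val_zero {V : X.Opens} (y : V) :
    val U η c hc hη (0 : Γ(L U η c hc hη, V)) y = 0 := rfl

/-- The generator over `U i`. -/
def sec (i : ι) : Γ(L U η c hc hη, U i) :=
  (show sect U η c hc hη (op (U i)) from
    ⟨fun y => g U η i (c y.1) y.1 ⟨y.2, hc y.1⟩, fun x =>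
      ⟨U i, x.2, 𝟙 _, i, le_refl _, 1, fun y => by rw [map_one, one_mul]; rfl⟩⟩)

theorem val_sec (i : ι) (y : U i) :
    val U η c hc hη (sec U η c hc hη i) y = g U η i (c y.1) y.1 ⟨y.2, hc y.1⟩ := rfl

/-- **Transition functions.** -/
theorem rF_sec (i j : ι) :
    rF (L U η c hc hη) (inf_le_left : U i ⊓ U j ≤ U i) (sec U η c hc hη i) =
      (η i j : Γ(X, U i ⊓ U j)) •
        rF (L U η c hc hη) (inf_le_right : U i ⊓ U j ≤ U j) (sec U η c hc hη j) := by
  apply ext
  intro y
  rw [val_smul, val_rF, val_rF, val_sec, val_sec]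
  exact g_cocycle hη i j (c y.1) y.1 y.2.1 y.2.2 (hc y.1)

theorem germ_rX {V V' : X.Opens} (h : V' ≤ V) (r : Γ(X, V)) (y : X) (hy : y ∈ V') :
    (X.presheaf.germ V' y hy).hom (rX h r) = (X.presheaf.germ V y (h hy)).hom r :=
  TopCat.Presheaf.germ_res_apply X.presheaf (homOfLE h) y hy r

theorem eq_of_germ {V : X.Opens} (r r' : Γ(X, V))
    (h : ∀ (y : X) (hy : y ∈ V), (X.presheaf.germ V y hy).hom r = (X.presheaf.germ V y hy).hom r') :
    r = r' :=
  TopCat.Presheaf.section_ext X.sheaf V r r' h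

/-- **The sections `sec i` are generators.** -/
theorem isGen_sec (i : ι) : IsGen (L U η c hc hη) (U i) (sec U η c hc hη i) := by
  intro O hO
  constructor
  · intro l
    have hloc : ∀ x : O, ∃ (W : X.Opens) (hW : W ≤ O), x.1 ∈ W ∧ ∃ r : Γ(X, W), ∀ y : W,
        val U η c hc hη l ⟨y.1, hW y.2⟩ =
          (X.presheaf.germ W y.1 y.2).hom r * g U η i (c y.1) y.1 ⟨hO (hW y.2), hc y.1⟩ := by
      intro x
      obtain ⟨W, hxW, iW, j, hWj, a, ha⟩ := (show sect U η c hc hη (op O) from l).2 x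
      have hle : W ≤ U j ⊓ U i := fun y hy => ⟨hWj hy, hO (iW.le hy)⟩
      refine ⟨W, iW.le, hxW, a * rX hle (η j i : Γ(X, U j ⊓ U i)), fun y => ?_⟩
      have e1 := ha y
      have e3 := g_cocycle hη j i (c y.1) y.1 (hWj y.2) (hO (iW.le y.2)) (hc y.1)
      rw [map_mul, germ_rX, mul_assoc]
      refine e1.trans ?_
      rw [e3]
      rfl
    choose W hW hxW r hr using hloc
    obtain ⟨t, ht⟩ := glueX W O hW (fun x hx => Opens.mem_iSup.mpr ⟨⟨x, hx⟩, hxW ⟨x, hx⟩⟩) r (by
      intro x x'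
      apply eq_of_germ
      intro y hy
      rw [germ_rX, germ_rX]
      have e1 := hr x ⟨y, hy.1⟩
      have e2 := hr x' ⟨y, hy.2⟩
      have hu := isUnit_g U η i (c y) y ⟨hO (hW x hy.1), hc y⟩
      exact hu.mul_right_cancel (e1.symm.trans e2))
    refine ⟨t, ?_⟩
    apply ext
    intro y
    rw [val_smul, val_rF, val_sec]
    have e1 := hr y ⟨y.1, hxW y⟩
    refine e1.trans ?_
    congr 1
    rw [← ht y, germ_rX]
  · intro r hr
    apply eq_of_germ
    intro y hy
    have h1 := congrArg (fun s => val U η c hc hη s ⟨y, hy⟩) hr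
    simp only at h1
    rw [val_smul, val_rF, val_sec, val_zero] at h1
    have hu := isUnit_g U η i (c y) y ⟨hO hy, hc y⟩
    rw [map_zero]
    exact hu.mul_left_eq_zero.mp h1

/-- **The module `L` is invertible.** -/
theorem isInvertible_L (hU : iSup U = ⊤) : PicF.IsInvertible (L U η c hc hη) := by
  apply isInvertible_of_gens
  intro x
  obtain ⟨i, hi⟩ := Opens.mem_iSup.mp (show x ∈ iSup U by rw [hU]; trivial)
  obtain ⟨_, ⟨W, hW : IsAffineOpen W, rfl⟩, hxW, hle⟩ :=
    (X.isBasis_affineOpens).exists_subset_of_mem_open hi (U i).isOpen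
  exact ⟨W, hW, hxW, _, (isGen_sec U η c hc hη i).res hle⟩

end Groth.Agent.CocycMod
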