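import Mathlib

/-!
# Hilbert 90 for a faithfully flat ring map, Zariski-local form (helper4)

`K → C` faithfully flat, `u ∈ (C ⊗[K] C)ˣ` a multiplicative 1-cocycle (`d1 u = d2 u * d0 u` in
`C ⊗ (C ⊗ C)`).  Let `L = {c : u * (c ⊗ 1) = 1 ⊗ c}` (the descended module).
* `one_mem_span`: `L` generates the unit ideal of `C` (flatness only).
* `mem_iff_of_comap_eq`: the zero locus of an element of `L` is saturated for `Spec C → Spec K`.
* `hilbert90_local`: around every prime of `K` there is a basic open `D(f)` and an `l ∈ L`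
  invertible over `D(f)`: the cocycle is a coboundary over `D(f)`.
-/

set_option autoImplicit false
set_option linter.style.haveILetI false
set_option linter.unusedSectionVars false
universe u
open CategoryTheory AlgebraicGeometry TensorProduct

namespace Groth.Agent.Lib.GmTorsH4

section Alg

variable {K C : Type u} [CommRing K] [CommRing C] [Algebra K C]

/-- coface `x ↦ 1 ⊗ x` -/
noncomputable def d0 : C ⊗[K] C →ₐ[K] C ⊗[K] (C ⊗[K] C) :=
  Algebra.TensorProduct.includeRight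

/-- coface `a ⊗ b ↦ a ⊗ (1 ⊗ b)` -/
noncomputable def d1 : C ⊗[K] C →ₐ[K] C ⊗[K] (C ⊗[K] C) :=
  Algebra.TensorProduct.map (AlgHom.id K C) Algebra.TensorProduct.includeRight

/-- coface `a ⊗ b ↦ a ⊗ (b ⊗ 1)` -/
noncomputable def d2 : C ⊗[K] C →ₐ[K] C ⊗[K] (C ⊗[K] C) :=
  Algebra.TensorProduct.map (AlgHom.id K C) Algebra.TensorProduct.includeLeft

/-- `c ↦ u * (c ⊗ 1) - 1 ⊗ c` -/
noncomputable def Dmap (u : C ⊗[K] C) : C →ₗ[K] C ⊗[K] C :=
  (LinearMap.mulLeft K u) ∘ₗ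
      (Algebra.TensorProduct.includeLeft : C →ₐ[K] C ⊗[K] C).toLinearMap -
    (Algebra.TensorProduct.includeRight : C →ₐ[K] C ⊗[K] C).toLinearMap

theorem Dmap_apply (u : C ⊗[K] C) (c : C) : Dmap u c = u * (c ⊗ₜ[K] 1) - 1 ⊗ₜ[K] c := by
  simp [Dmap]

theorem lTensor_Dmap (u x : C ⊗[K] C) : (Dmap u).lTensor C x = d0 u * d2 x - d1 x := by
  induction x using TensorProduct.induction_on with
  | zero => simp
  | tmul a c =>
    simp only [LinearMap.lTensor_tmul, Dmap_apply, d0, d1, d2, Algebra.TensorProduct.map_tmul,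
      AlgHom.id_apply, Algebra.TensorProduct.includeRight_apply,
      Algebra.TensorProduct.includeLeft_apply, TensorProduct.tmul_sub,
      Algebra.TensorProduct.tmul_mul_tmul, one_mul]
  | add x y hx hy =>
    rw [map_add, hx, hy, map_add, map_add, mul_add]
    abel

/-- total multiplication `C ⊗ (C ⊗ C) → C` -/
noncomputable def mu3 : C ⊗[K] (C ⊗[K] C) →ₐ[K] C :=
  (Algebra.TensorProduct.lmul' K).comp
    (Algebra.TensorProduct.map (AlgHom.id K C) (Algebra.TensorProduct.lmul' K))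

theorem mu3_d0 : (mu3 (K := K) (C := C)).comp d0 = Algebra.TensorProduct.lmul' K := by
  apply Algebra.TensorProduct.ext'
  intro a b
  simp [mu3, d0]

theorem mu3_d1 : (mu3 (K := K) (C := C)).comp d1 = Algebra.TensorProduct.lmul' K := by
  apply Algebra.TensorProduct.ext'
  intro a b
  simp [mu3, d1]

theorem mu3_d2 : (mu3 (K := K) (C := C)).comp d2 = Algebra.TensorProduct.lmul' K := by
  apply Algebra.TensorProduct.ext'
  intro a b
  simp [mu3, d2]

theorem lmul_eq_one (u : C ⊗[K] C) (hu : IsUnit u) (hcoc : d1 u = d2 u * d0 u) :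
    Algebra.TensorProduct.lmul' K u = 1 := by
  have h := congrArg (mu3 (K := K) (C := C)) hcoc
  rw [map_mul] at h
  have e0 : mu3 (d0 u) = Algebra.TensorProduct.lmul' K u := AlgHom.congr_fun mu3_d0 u
  have e1 : mu3 (d1 u) = Algebra.TensorProduct.lmul' K u := AlgHom.congr_fun mu3_d1 u
  have e2 : mu3 (d2 u) = Algebra.TensorProduct.lmul' K u := AlgHom.congr_fun mu3_d2 u
  rw [e0, e1, e2] at h
  have hm : IsUnit (Algebra.TensorProduct.lmul' K u) := hu.map _
  exact hm.mul_left_cancel (h.symm.trans (mul_one _).symm)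

theorem lmul_lTensor_mem (L : Submodule K C) (z : C ⊗[K] L) :
    Algebra.TensorProduct.lmul' K (L.subtype.lTensor C z) ∈ Ideal.span (L : Set C) := by
  induction z using TensorProduct.induction_on with
  | zero => simp
  | tmul a l =>
    simp only [LinearMap.lTensor_tmul, Submodule.subtype_apply, Algebra.TensorProduct.lmul'_apply_tmul]
    exact Ideal.mul_mem_left _ _ (Ideal.subset_span l.2)
  | add x y hx hy =>
    rw [map_add, map_add]
    exact Ideal.add_mem _ hx hy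

theorem one_mem_span [Module.Flat K C] (u : C ⊗[K] C) (hu : IsUnit u)
    (hcoc : d1 u = d2 u * d0 u) :
    (1 : C) ∈ Ideal.span ((LinearMap.ker (Dmap u) : Submodule K C) : Set C) := by
  have h1 : (Dmap u).lTensor C u = 0 := by
    rw [lTensor_Dmap, hcoc, mul_comm, sub_self]
  have hex : Function.Exact (LinearMap.ker (Dmap u)).subtype (Dmap u) :=
    LinearMap.exact_subtype_ker_map _
  have hex' := Module.Flat.lTensor_exact C hex
  obtain ⟨z, hz⟩ := (hex' u).1 h1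
  have h2 := lmul_lTensor_mem (LinearMap.ker (Dmap u)) z
  rw [hz, lmul_eq_one u hu hcoc] at h2
  exact h2

end Alg

section Sat

variable {K C : Type u} [CommRing K] [CommRing C] [Algebra K C]

theorem exists_prime_tensor (𝔮₁ 𝔮₂ : PrimeSpectrum C)
    (h : PrimeSpectrum.comap (algebraMap K C) 𝔮₁ = PrimeSpectrum.comap (algebraMap K C) 𝔮₂) :
    ∃ 𝔯 : PrimeSpectrum (C ⊗[K] C),
      PrimeSpectrum.comap
        (Algebra.TensorProduct.includeLeftRingHom (R := K) (A := C) (B := C)) 𝔯 = 𝔮₁ ∧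
      PrimeSpectrum.comap
        (Algebra.TensorProduct.includeRight (R := K) (A := C) (B := C)).toRingHom 𝔯 = 𝔮₂ := by
  have hpb := isPullback_SpecMap_of_isPushout _ _ _ _ (CommRingCat.isPushout_tensorProduct K C C)
  obtain ⟨𝔯, h1, h2⟩ := Scheme.exists_preimage_of_isPullback hpb 𝔮₁ 𝔮₂ h
  exact ⟨𝔯, h1, h2⟩

theorem mem_iff_of_comap_eq (u : C ⊗[K] C) (hu : IsUnit u) (l : C) (hl : Dmap u l = 0)
    (𝔮₁ 𝔮₂ : PrimeSpectrum C)
    (h : PrimeSpectrum.comap (algebraMap K C) 𝔮₁ = PrimeSpectrum.comap (algebraMap K C) 𝔮₂) :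
    l ∈ 𝔮₁.asIdeal ↔ l ∈ 𝔮₂.asIdeal := by
  obtain ⟨𝔯, rfl, rfl⟩ := exists_prime_tensor 𝔮₁ 𝔮₂ h
  have hrel : u * (l ⊗ₜ[K] 1) = 1 ⊗ₜ[K] l := by
    rw [Dmap_apply, sub_eq_zero] at hl
    exact hl
  change (l ⊗ₜ[K] (1 : C)) ∈ 𝔯.asIdeal ↔ ((1 : C) ⊗ₜ[K] l) ∈ 𝔯.asIdeal
  rw [← hrel]
  constructor
  · intro h'
    exact Ideal.mul_mem_left _ _ h'
  · intro h'
    exact (𝔯.isPrime.mem_or_mem h').resolve_left
      (fun hu' => 𝔯.isPrime.ne_top (Ideal.eq_top_of_isUnit_mem _ hu' hu))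

theorem hilbert90_local [Module.FaithfullyFlat K C] (u : C ⊗[K] C) (hu : IsUnit u)
    (hcoc : d1 u = d2 u * d0 u) (𝔭 : PrimeSpectrum K) :
    ∃ (f : K) (l m : C) (n : ℕ), f ∉ 𝔭.asIdeal ∧ u * (l ⊗ₜ[K] 1) = 1 ⊗ₜ[K] l ∧
      l * m = (algebraMap K C f) ^ n := by
  have hsurj : Function.Surjective (PrimeSpectrum.comap (algebraMap K C)) :=
    PrimeSpectrum.comap_surjective_of_faithfullyFlat
  obtain ⟨𝔮, h𝔮⟩ := hsurj 𝔭
  have hA := one_mem_span u hu hcoc
  obtain ⟨l, hlL, hl𝔮⟩ : ∃ l ∈ LinearMap.ker (Dmap u), l ∉ 𝔮.asIdeal := by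
    by_contra hcon
    simp only [not_exists, not_and, not_not] at hcon
    have hle : Ideal.span ((LinearMap.ker (Dmap u) : Submodule K C) : Set C) ≤ 𝔮.asIdeal :=
      Ideal.span_le.2 (fun l hl => hcon l hl)
    exact 𝔮.isPrime.ne_top ((Ideal.eq_top_iff_one _).2 (hle hA))
  have hl0 : Dmap u l = 0 := hlL
  obtain ⟨Z, hZdef⟩ : ∃ Z : Set (PrimeSpectrum K),
      Z = PrimeSpectrum.comap (algebraMap K C) '' PrimeSpectrum.zeroLocus {l} := ⟨_, rfl⟩
  have hpre : PrimeSpectrum.comap (algebraMap K C) ⁻¹' Z = PrimeSpectrum.zeroLocus {l} := by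
    ext 𝔮'
    constructor
    · intro h'
      rw [hZdef] at h'
      obtain ⟨𝔮'', h'', heq⟩ := h'
      have h3 : l ∈ 𝔮''.asIdeal := by simpa using h''
      have := (mem_iff_of_comap_eq u hu l hl0 𝔮'' 𝔮' heq).1 h3
      simpa using this
    · intro h'
      rw [hZdef]
      exact ⟨𝔮', h', rfl⟩
  have hq : Topology.IsQuotientMap (PrimeSpectrum.comap (algebraMap K C)) :=
    PrimeSpectrum.isQuotientMap_of_generalizingMap hsurj
      (Algebra.HasGoingDown.iff_generalizingMap_primeSpectrumComap.1 inferInstance)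
  have hZ : IsClosed Z := by
    rw [← hq.isClosed_preimage, hpre]
    exact PrimeSpectrum.isClosed_zeroLocus _
  have h𝔭Z : 𝔭 ∉ Z := by
    intro h'
    rw [hZdef] at h'
    obtain ⟨𝔮', h'', heq⟩ := h'
    have h3 : l ∈ 𝔮'.asIdeal := by simpa using h''
    exact hl𝔮 ((mem_iff_of_comap_eq u hu l hl0 𝔮' 𝔮 (heq.trans h𝔮.symm)).1 h3)
  obtain ⟨f, hf𝔭, hfZ⟩ : ∃ f : K, 𝔭 ∈ PrimeSpectrum.basicOpen f ∧
      (PrimeSpectrum.basicOpen f : Set (PrimeSpectrum K)) ⊆ Zᶜ := by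
    obtain ⟨_, ⟨f, rfl⟩, h1, h2⟩ :=
      (PrimeSpectrum.isTopologicalBasis_basic_opens (R := K)).exists_subset_of_mem_open h𝔭Z
        hZ.isOpen_compl
    exact ⟨f, h1, h2⟩
  have hrad : algebraMap K C f ∈ (Ideal.span {l}).radical := by
    rw [← PrimeSpectrum.vanishingIdeal_zeroLocus_eq_radical, PrimeSpectrum.mem_vanishingIdeal]
    intro 𝔮' h'
    have h3 : l ∈ 𝔮'.asIdeal := by
      rw [PrimeSpectrum.zeroLocus_span] at h'
      simpa using h'
    have h4 : PrimeSpectrum.comap (algebraMap K C) 𝔮' ∈ Z := by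
      rw [hZdef]
      exact ⟨𝔮', by simpa using h3, rfl⟩
    by_contra hcon
    exact hfZ (show PrimeSpectrum.comap (algebraMap K C) 𝔮' ∈ PrimeSpectrum.basicOpen f from hcon) h4
  obtain ⟨n, hn⟩ := hrad
  obtain ⟨m, hm⟩ := Ideal.mem_span_singleton'.1 hn
  refine ⟨f, l, m, n, hf𝔭, ?_, ?_⟩
  · rw [Dmap_apply, sub_eq_zero] at hl0
    exact hl0
  · rw [mul_comm, hm]

end Sat

end Groth.Agent.Lib.GmTorsH4
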