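import Mathlib
import Groth.Prelude.Def_EtBase
import Groth.Agent.Lib.GaCech3_helper8
import Groth.Agent.Lib.GmTorsA_helper4

/-!
# Dictionary between Čech cocycles of units on an affine étale cover and `C ⊗ C` (helper8)
APPEND-ONLY once landed.
-/

set_option autoImplicit false
universe u
open CategoryTheory CategoryTheory.Limits AlgebraicGeometry Opposite TensorProduct

namespace Groth.Agent.Lib.H90EtH8

open Groth.Agent.Lib.GaCechH8 Groth.Agent.Lib.GmTorsH4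

variable {X : Scheme.{u}} (U : X.Etale) [HasFiniteProducts (Over U)] [IsAffine U.left]

attribute [local instance] algOver

lemma pbA_comp {W₁ W₂ W₃ : Over U} (a : W₁ ⟶ W₂) (b : W₂ ⟶ W₃) :
    (pbA U a).comp (pbA U b) = pbA U (a ≫ b) := by
  ext x
  exact appTop_comp_apply U a b x

lemma pbA_comp_apply {W₁ W₂ W₃ : Over U} (a : W₁ ⟶ W₂) (b : W₂ ⟶ W₃) (x : Γ(W₃.left.left, ⊤)) :
    pbA U a (pbA U b x) = pbA U (a ≫ b) x :=
  appTop_comp_apply U a b x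

variable (V : Over U) [IsAffine V.left.left]

/-- functions on `V ×_U V` -/
noncomputable def θ₂ : Γ(V.left.left, ⊤) ⊗[Γ(U.left, ⊤)] Γ(V.left.left, ⊤) →ₐ[Γ(U.left, ⊤)]
    Γ((V ⨯ V).left.left, ⊤) :=
  Algebra.TensorProduct.productMap (pbA U (prod.fst (X := V) (Y := V)))
    (pbA U (prod.snd (X := V) (Y := V)))

lemma θ₂_tmul (a b : Γ(V.left.left, ⊤)) :
    θ₂ U V (a ⊗ₜ b) = pbA U (prod.fst (X := V) (Y := V)) a * pbA U (prod.snd (X := V) (Y := V)) b :=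
  Algebra.TensorProduct.productMap_apply_tmul _ _ a b

lemma θ₂_bijective : Function.Bijective (θ₂ U V) := by
  obtain ⟨θ, hθ⟩ := exists_thetaW U V V
  have h : ∀ z, θ₂ U V z = θ z := by
    intro z
    induction z using TensorProduct.induction_on with
    | zero => simp
    | tmul a b => rw [θ₂_tmul, hθ]; rfl
    | add z w hz hw => rw [map_add, map_add, hz, hw]
  have h2 : (θ₂ U V : _ → _) = θ := funext h
  rw [h2]
  exact θ.bijective

/-- functions on `V ×_U (V ×_U V)` -/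
noncomputable def Θ₃ : Γ(V.left.left, ⊤) ⊗[Γ(U.left, ⊤)]
      (Γ(V.left.left, ⊤) ⊗[Γ(U.left, ⊤)] Γ(V.left.left, ⊤)) →ₐ[Γ(U.left, ⊤)]
    Γ((V ⨯ (V ⨯ V)).left.left, ⊤) :=
  Algebra.TensorProduct.productMap (pbA U (prod.fst (X := V) (Y := V ⨯ V)))
    ((pbA U (prod.snd (X := V) (Y := V ⨯ V))).comp (θ₂ U V))

lemma Θ₃_tmul (a : Γ(V.left.left, ⊤))
    (z : Γ(V.left.left, ⊤) ⊗[Γ(U.left, ⊤)] Γ(V.left.left, ⊤)) :
    Θ₃ U V (a ⊗ₜ z) = pbA U (prod.fst (X := V) (Y := V ⨯ V)) a *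
      pbA U (prod.snd (X := V) (Y := V ⨯ V)) (θ₂ U V z) :=
  Algebra.TensorProduct.productMap_apply_tmul _ _ a z

lemma Θ₃_injective : Function.Injective (Θ₃ U V) := by
  haveI : IsAffine (V ⨯ V).left.left := isAffine_prod U V V
  obtain ⟨θ, hθ⟩ := exists_thetaW U V (V ⨯ V)
  let e2 : Γ(V.left.left, ⊤) ⊗[Γ(U.left, ⊤)] Γ(V.left.left, ⊤) ≃ₗ[Γ(U.left, ⊤)]
      Γ((V ⨯ V).left.left, ⊤) :=
    LinearEquiv.ofBijective (θ₂ U V).toLinearMap (θ₂_bijective U V)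
  have h : ∀ z, Θ₃ U V z = θ ((LinearEquiv.lTensor Γ(V.left.left, ⊤) e2) z) := by
    intro z
    induction z using TensorProduct.induction_on with
    | zero => simp
    | tmul a b =>
      rw [Θ₃_tmul, LinearEquiv.lTensor_tmul, hθ]
      rfl
    | add z w hz hw => rw [map_add, map_add, map_add, hz, hw]
  have h2 : (Θ₃ U V : _ → _) = θ ∘ (LinearEquiv.lTensor Γ(V.left.left, ⊤) e2) := funext h
  rw [h2]
  exact θ.injective.comp (LinearEquiv.injective _)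

/-- `(v₁, (v₂, v₃)) ↦ (v₁, v₃)` -/
noncomputable def m₁ : V ⨯ (V ⨯ V) ⟶ V ⨯ V := prod.lift prod.fst (prod.snd ≫ prod.snd)

/-- `(v₁, (v₂, v₃)) ↦ (v₁, v₂)` -/
noncomputable def m₂ : V ⨯ (V ⨯ V) ⟶ V ⨯ V := prod.lift prod.fst (prod.snd ≫ prod.fst)

lemma Θ₃_d0 (z : Γ(V.left.left, ⊤) ⊗[Γ(U.left, ⊤)] Γ(V.left.left, ⊤)) :
    Θ₃ U V (d0 z) = pbA U (prod.snd (X := V) (Y := V ⨯ V)) (θ₂ U V z) := by
  show Θ₃ U V ((1 : Γ(V.left.left, ⊤)) ⊗ₜ z) = _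
  rw [Θ₃_tmul, map_one, one_mul]

lemma Θ₃_d1 (z : Γ(V.left.left, ⊤) ⊗[Γ(U.left, ⊤)] Γ(V.left.left, ⊤)) :
    Θ₃ U V (d1 z) = pbA U (m₁ U V) (θ₂ U V z) := by
  induction z using TensorProduct.induction_on with
  | zero => simp
  | tmul a b =>
    show Θ₃ U V (a ⊗ₜ ((1 : Γ(V.left.left, ⊤)) ⊗ₜ b)) = _
    rw [Θ₃_tmul, θ₂_tmul, θ₂_tmul, map_one, one_mul, map_mul, pbA_comp_apply, pbA_comp_apply,
      pbA_comp_apply]
    unfold m₁
    rw [prod.lift_fst, prod.lift_snd]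
  | add z w hz hw => rw [map_add, map_add, map_add, map_add, hz, hw]

lemma Θ₃_d2 (z : Γ(V.left.left, ⊤) ⊗[Γ(U.left, ⊤)] Γ(V.left.left, ⊤)) :
    Θ₃ U V (d2 z) = pbA U (m₂ U V) (θ₂ U V z) := by
  induction z using TensorProduct.induction_on with
  | zero => simp
  | tmul a b =>
    show Θ₃ U V (a ⊗ₜ (b ⊗ₜ (1 : Γ(V.left.left, ⊤)))) = _
    rw [Θ₃_tmul, θ₂_tmul, θ₂_tmul, map_one, mul_one, map_mul, pbA_comp_apply, pbA_comp_apply,
      pbA_comp_apply]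
    unfold m₂
    rw [prod.lift_fst, prod.lift_snd]
  | add z w hz hw => rw [map_add, map_add, map_add, map_add, hz, hw]

/-- **Hilbert 90, Zariski-local form, for a multiplicative cocycle of functions on `V ×_U V`.** -/
theorem exists_local_coboundary (hV : Surjective V.hom.left) (w : Γ((V ⨯ V).left.left, ⊤))
    (hw : IsUnit w)
    (hcoc : pbA U (m₁ U V) w = pbA U (m₂ U V) w * pbA U (prod.snd (X := V) (Y := V ⨯ V)) w)
    (𝔭 : PrimeSpectrum Γ(U.left, ⊤)) :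
    ∃ (f : Γ(U.left, ⊤)) (l m : Γ(V.left.left, ⊤)) (n : ℕ), f ∉ 𝔭.asIdeal ∧
      w * pbA U (prod.fst (X := V) (Y := V)) l = pbA U (prod.snd (X := V) (Y := V)) l ∧
      l * m = (algebraMap Γ(U.left, ⊤) Γ(V.left.left, ⊤) f) ^ n := by
  haveI hff : Module.FaithfullyFlat Γ(U.left, ⊤) Γ(V.left.left, ⊤) :=
    (Flat.flat_and_surjective_iff_faithfullyFlat_of_isAffine (f := V.hom.left)).1 ⟨inferInstance, hV⟩
  let e := AlgEquiv.ofBijective (θ₂ U V) (θ₂_bijective U V)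
  obtain ⟨ũ, hũ⟩ : ∃ ũ, θ₂ U V ũ = w := (θ₂_bijective U V).2 w
  have hunit : IsUnit ũ := by
    have h1 : ũ = e.symm w := by
      rw [AlgEquiv.eq_symm_apply]
      exact hũ
    rw [h1]
    exact hw.map e.symm
  have hcoc' : d1 ũ = d2 ũ * d0 ũ := by
    apply Θ₃_injective U V
    rw [map_mul, Θ₃_d1, Θ₃_d2, Θ₃_d0, hũ]
    exact hcoc
  obtain ⟨f, l, m, n, hf, hrel, hlm⟩ := hilbert90_local ũ hunit hcoc' 𝔭
  refine ⟨f, l, m, n, hf, ?_, hlm⟩
  have h2 := congrArg (θ₂ U V) hrel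
  rw [map_mul, hũ, θ₂_tmul, θ₂_tmul, map_one, map_one, mul_one, one_mul] at h2
  exact h2

end Groth.Agent.Lib.H90EtH8
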