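import Mathlib
import Groth.Prelude.Def_EtBase
import Groth.Prelude.Def_EtGm
import Groth.Agent.Lib.H90Et1_helper8
import Groth.Agent.Lib.EtCartan3_helper8

/-!
# Zariski-local triviality of `G_m`-torsors, sheaf-theoretic form (helper8)
APPEND-ONLY once landed.
-/

set_option autoImplicit false
universe u
open CategoryTheory CategoryTheory.Limits AlgebraicGeometry Opposite TensorProduct

namespace Groth.Agent.Lib.H90EtH8

open Groth.Agent.Lib.GaCechH8 Groth.Agent.Lib.GmTorsH4 Groth.Agent.Lib.CechSite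
  Groth.Agent.Lib.EtCartanH8 Groth.Agent.Lib.EtCechPush
  Groth.Agent.Lib.EtSchSite_helper7 Groth.Agent.Lib.EtZarAff_helper7

variable {X : Scheme.{u}}

attribute [local instance] hasFiniteProducts_over
attribute [local instance] algOver

/-- a unit as a section of `G_m` -/
def ofU (Z : X.Etale) (a : Γ(Z.left, ⊤)ˣ) : (EtCoh.Gm X).obj.obj (op Z) :=
  ULift.up (Additive.ofMul a)

/-- a section of `G_m` as a unit -/
def toU (Z : X.Etale) (s : (EtCoh.Gm X).obj.obj (op Z)) : Γ(Z.left, ⊤)ˣ :=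
  Additive.toMul (ULift.down s)

lemma ofU_toU (Z : X.Etale) (s : (EtCoh.Gm X).obj.obj (op Z)) : ofU Z (toU Z s) = s := rfl

lemma toU_ofU (Z : X.Etale) (a : Γ(Z.left, ⊤)ˣ) : toU Z (ofU Z a) = a := rfl

lemma toU_add (Z : X.Etale) (s t : (EtCoh.Gm X).obj.obj (op Z)) :
    toU Z (s + t) = toU Z s * toU Z t := rfl

lemma ofU_mul (Z : X.Etale) (a b : Γ(Z.left, ⊤)ˣ) : ofU Z (a * b) = ofU Z a + ofU Z b := rfl

lemma toU_injective (Z : X.Etale) : Function.Injective (toU Z) := by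
  intro s t h
  rw [← ofU_toU Z s, ← ofU_toU Z t, h]

lemma toU_rs {Z Z' : X.Etale} (k : Z' ⟶ Z) (s : (EtCoh.Gm X).obj.obj (op Z)) :
    ((toU Z' (rs (EtCoh.Gm X).obj k s) : Γ(Z'.left, ⊤)ˣ) : Γ(Z'.left, ⊤)) =
      k.left.appTop.hom ((toU Z s : Γ(Z.left, ⊤)ˣ) : Γ(Z.left, ⊤)) := rfl

lemma rs_ofU {Z Z' : X.Etale} (k : Z' ⟶ Z) (a : Γ(Z.left, ⊤)ˣ) :
    rs (EtCoh.Gm X).obj k (ofU Z a) = ofU Z' (Units.map k.left.appTop.hom.toMonoidHom a) := by
  apply toU_injective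
  apply Units.ext
  rfl

/-- the prime of global functions vanishing at a point -/
noncomputable def primeAt (Y : Scheme.{u}) (y : Y) : PrimeSpectrum Γ(Y, ⊤) :=
  ⟨Ideal.comap (Y.presheaf.germ ⊤ y trivial).hom (IsLocalRing.maximalIdeal _), inferInstance⟩

lemma not_mem_primeAt_iff (Y : Scheme.{u}) (y : Y) (φ : Γ(Y, ⊤)) :
    φ ∉ (primeAt Y y).asIdeal ↔ y ∈ Y.basicOpen φ := by
  rw [Scheme.mem_basicOpen_top]
  show ¬ ((Y.presheaf.germ ⊤ y trivial).hom φ ∈ IsLocalRing.maximalIdeal _) ↔ _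
  rw [IsLocalRing.mem_maximalIdeal, mem_nonunits_iff, not_not]

lemma isUnit_appTop_of_forall_mem {A B : Scheme.{u}} (k : A ⟶ B) (φ : Γ(B, ⊤))
    (h : ∀ a : A, k a ∈ B.basicOpen φ) : IsUnit (k.appTop.hom φ) := by
  have h1 : A.basicOpen (k.appTop.hom φ) = ⊤ := by
    have := Scheme.preimage_basicOpen_top k φ
    rw [← this]
    apply top_le_iff.1
    intro a _
    exact h a
  apply RingedSpace.isUnit_of_isUnit_germ
  intro a ha
  have h2 : a ∈ A.basicOpen (k.appTop.hom φ) := by rw [h1]; trivial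
  exact (Scheme.mem_basicOpen_top _ _ _).1 h2

variable (S : ShortComplex (EtCoh.Ab X)) (hS : S.ShortExact)

include hS in
/-- a section of the quotient lifts on an affine surjective étale cover -/
theorem exists_affine_lift (U : X.Etale) [IsAffine U.left] (z : S.X₃.obj.obj (op U)) :
    ∃ (V : X.Etale) (_ : IsAffine V.left) (d : V ⟶ U) (_ : Surjective d.left)
      (tV : S.X₂.obj.obj (op V)), (S.g.hom.app (op V)).hom tV = rs S.X₃.obj d z := by
  haveI := hS.epi_g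
  obtain ⟨V, hV, d, hd, ι, Vj, ij, hRj, hglue⟩ :=
    exists_affine_surj' (imageSieve_mem_of_epi S.g U z)
  choose t ht using hRj
  obtain ⟨tV, htV, -⟩ := hglue S.X₂ t
  refine ⟨V, hV, d, hd, tV, ?_⟩
  apply (hglue S.X₃ (fun j => (S.g.hom.app (op (Vj j))).hom (t j))).unique
  · intro j
    have h := rs_app S.X₂.obj S.g.hom (ij j) tV
    have h2 : rs S.X₂.obj (ij j) tV = t j := htV j
    rw [h2] at h
    exact h.symm
  · intro j
    have h := rs_rs S.X₃.obj (ij j) d z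
    exact h.trans (ht j).symm

section Local

variable {I Q : EtCoh.Ab X} (f : EtCoh.Gm X ⟶ I) [Mono f]
  (W₀ : X.Etale) [IsAffine W₀.left] (V : Over W₀)
  (tV : I.obj.obj (op V.left)) (u : (EtCoh.Gm X).obj.obj (op (V ⨯ V).left))
  (hu : (f.hom.app (op (V ⨯ V).left)).hom u =
    rs I.obj (prod.snd (X := V) (Y := V)).left tV - rs I.obj (prod.fst (X := V) (Y := V)).left tV)

include hu in
lemma cocycle_u :
    pbA W₀ (m₁ W₀ V) ((toU _ u : Γ((V ⨯ V).left.left, ⊤)ˣ) : Γ((V ⨯ V).left.left, ⊤)) =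
      pbA W₀ (m₂ W₀ V) ((toU _ u : Γ((V ⨯ V).left.left, ⊤)ˣ) : Γ((V ⨯ V).left.left, ⊤)) *
      pbA W₀ (prod.snd (X := V) (Y := V ⨯ V))
        ((toU _ u : Γ((V ⨯ V).left.left, ⊤)ˣ) : Γ((V ⨯ V).left.left, ⊤)) := by
  have key : rs (EtCoh.Gm X).obj (m₁ W₀ V).left u =
      rs (EtCoh.Gm X).obj (m₂ W₀ V).left u +
        rs (EtCoh.Gm X).obj (prod.snd (X := V) (Y := V ⨯ V)).left u := by
    apply app_injective f
    rw [map_add, rs_app, rs_app, rs_app, hu, map_sub, map_sub, map_sub, rs_rs, rs_rs, rs_rs, rs_rs,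
      rs_rs, rs_rs, ← Over.comp_left, ← Over.comp_left, ← Over.comp_left, ← Over.comp_left,
      ← Over.comp_left, ← Over.comp_left]
    unfold m₁ m₂
    rw [prod.lift_fst, prod.lift_snd, prod.lift_fst, prod.lift_snd]
    abel
  exact congrArg (fun s => ((toU _ s : Γ((V ⨯ (V ⨯ V)).left.left, ⊤)ˣ) :
    Γ((V ⨯ (V ⨯ V)).left.left, ⊤))) key

include hu in
lemma indep {Z : X.Etale} (a b : Z ⟶ V.left) (hab : a ≫ V.hom = b ≫ V.hom)
    (la lb : Γ(Z.left, ⊤)ˣ) (l : Γ(V.left.left, ⊤))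
    (hrel : ((toU _ u : Γ((V ⨯ V).left.left, ⊤)ˣ) : Γ((V ⨯ V).left.left, ⊤)) *
      pbA W₀ (prod.fst (X := V) (Y := V)) l = pbA W₀ (prod.snd (X := V) (Y := V)) l)
    (hla : (la : Γ(Z.left, ⊤)) = a.left.appTop.hom l)
    (hlb : (lb : Γ(Z.left, ⊤)) = b.left.appTop.hom l) :
    rs I.obj a tV - (f.hom.app (op Z)).hom (ofU Z la) =
      rs I.obj b tV - (f.hom.app (op Z)).hom (ofU Z lb) := by
  let Z' : Over W₀ := Over.mk (a ≫ V.hom)
  let a' : Z' ⟶ V := Over.homMk a rfl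
  let b' : Z' ⟶ V := Over.homMk b hab.symm
  let c : Z' ⟶ V ⨯ V := prod.lift a' b'
  obtain ⟨cl, hcl⟩ : ∃ cl : Z ⟶ (V ⨯ V).left, cl = c.left := ⟨_, rfl⟩
  have h1 : cl ≫ (prod.fst (X := V) (Y := V)).left = a := by
    rw [hcl, ← Over.comp_left, prod.lift_fst]; rfl
  have h2 : cl ≫ (prod.snd (X := V) (Y := V)).left = b := by
    rw [hcl, ← Over.comp_left, prod.lift_snd]; rfl
  have h3 : rs (EtCoh.Gm X).obj cl u + ofU Z la = ofU Z lb := by
    apply toU_injective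
    apply Units.ext
    show cl.left.appTop.hom ((toU _ u : Γ((V ⨯ V).left.left, ⊤)ˣ) : Γ((V ⨯ V).left.left, ⊤)) *
      (la : Γ(Z.left, ⊤)) = (lb : Γ(Z.left, ⊤))
    have h := congrArg (pbA W₀ c) hrel
    rw [map_mul, pbA_comp_apply, pbA_comp_apply, prod.lift_fst, prod.lift_snd] at h
    rw [hla, hlb, hcl]
    exact h
  have h4 : rs I.obj cl ((f.hom.app (op (V ⨯ V).left)).hom u) =
      rs I.obj b tV - rs I.obj a tV := by
    rw [hu, map_sub, rs_rs, rs_rs, h1, h2]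
  have h5 := rs_app (EtCoh.Gm X).obj f.hom cl u
  have h6 := congrArg (fun s => (f.hom.app (op Z)).hom s) h3
  simp only [map_add] at h6
  rw [h5, h4] at h6
  rw [← h6]
  abel

end Local

lemma appTop_comp_left {A B C : X.Etale} (p : A ⟶ B) (q : B ⟶ C) (y : Γ(C.left, ⊤)) :
    (p ≫ q).left.appTop.hom y = p.left.appTop.hom (q.left.appTop.hom y) := by
  have : (p ≫ q).left = p.left ≫ q.left := rfl
  rw [this, Scheme.Hom.comp_appTop]
  rfl

/-- **Zariski-local lifting through a `G_m`-extension.** -/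
theorem exists_local_lift {I Q : EtCoh.Ab X} (f : EtCoh.Gm X ⟶ I) (g : I ⟶ Q) (wfg : f ≫ g = 0)
    (hS : (ShortComplex.mk f g wfg).ShortExact) (W₀ : X.Etale) [IsAffine W₀.left]
    (q : Q.obj.obj (op W₀)) (x₀ : W₀.left) :
    ∃ φ : Γ(W₀.left, ⊤), x₀ ∈ W₀.left.basicOpen φ ∧
      ∀ (W₁ : X.Etale) (h : W₁ ⟶ W₀), IsUnit (h.left.appTop.hom φ) →
        ∃ t : I.obj.obj (op W₁), (g.hom.app (op W₁)).hom t = rs Q.obj h q := by
  haveI : Mono f := hS.mono_f
  obtain ⟨V, hV, d, hd, tV, htV⟩ := exists_affine_lift (ShortComplex.mk f g wfg) hS W₀ q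
  haveI := hV
  obtain ⟨V', hV'⟩ : ∃ V' : Over W₀, V' = Over.mk d := ⟨_, rfl⟩
  haveI : IsAffine V'.left.left := by rw [hV']; exact hV
  have hd' : Surjective V'.hom.left := by rw [hV']; exact hd
  obtain ⟨tV', htV'⟩ : ∃ tV' : I.obj.obj (op V'.left), (g.hom.app (op V'.left)).hom tV' = rs Q.obj V'.hom q := by
    subst hV'
    exact ⟨tV, htV⟩
  have hp : (prod.fst (X := V') (Y := V')).left ≫ V'.hom =
      (prod.snd (X := V') (Y := V')).left ≫ V'.hom :=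
    (Over.w (prod.fst (X := V') (Y := V'))).trans (Over.w (prod.snd (X := V') (Y := V'))).symm
  obtain ⟨u, hu⟩ : ∃ u : (EtCoh.Gm X).obj.obj (op (V' ⨯ V').left),
      (f.hom.app (op (V' ⨯ V').left)).hom u =
        rs I.obj (prod.snd (X := V') (Y := V')).left tV' -
          rs I.obj (prod.fst (X := V') (Y := V')).left tV' := by
    apply sections_exact (ShortComplex.mk f g wfg) hS.exact inferInstance
    show (g.hom.app _).hom _ = 0
    rw [map_sub, rs_app, rs_app, htV', rs_rs, rs_rs, hp, sub_self]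
  obtain ⟨φ, l, m, n, hφ, hrel, hlm⟩ := exists_local_coboundary W₀ V' hd'
    ((toU _ u : Γ((V' ⨯ V').left.left, ⊤)ˣ) : Γ((V' ⨯ V').left.left, ⊤)) (Units.isUnit _)
    (cocycle_u f W₀ V' tV' u hu) (primeAt W₀.left x₀)
  refine ⟨φ, (not_mem_primeAt_iff _ _ _).1 hφ, ?_⟩
  intro W₁ h hunit
  -- the covering sieve
  have hcov : Sieve.generate (Presieve.singleton V'.hom) ∈ X.smallEtaleTopology W₀ := by
    apply sieve_mem_of_forall_exists
    intro w
    obtain ⟨v, hv⟩ := hd'.surj w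
    exact ⟨V'.left, V'.hom, ⟨V'.left, 𝟙 _, V'.hom, Presieve.singleton_self V'.hom,
      Category.id_comp _⟩, ⟨v, hv⟩⟩
  let R : Sieve W₁ := Sieve.pullback h (Sieve.generate (Presieve.singleton V'.hom))
  have hR : R ∈ X.smallEtaleTopology W₁ := X.smallEtaleTopology.pullback_stable h hcov
  have hlift : ∀ (Z : X.Etale) (k : Z ⟶ W₁), R k → ∃ a : Z ⟶ V'.left, a ≫ V'.hom = k ≫ h := by
    intro Z k hk
    obtain ⟨Y, a, e, he, hae⟩ := hk
    cases he
    exact ⟨a, hae⟩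
  choose a ha using hlift
  have hunitZ : ∀ (Z : X.Etale) (k : Z ⟶ W₁) (b : Z ⟶ V'.left), b ≫ V'.hom = k ≫ h →
      IsUnit (b.left.appTop.hom l) := by
    intro Z k b hb
    have h1 : b.left.appTop.hom l * b.left.appTop.hom m =
        (k.left.appTop.hom (h.left.appTop.hom φ)) ^ n := by
      rw [← map_mul, hlm, map_pow, ← appTop_comp_left, ← hb, appTop_comp_left]
      rfl
    exact isUnit_of_mul_isUnit_left (h1 ▸ ((hunit.map _).pow n))
  -- the local sections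
  let xfam : Presieve.FamilyOfElements (I.obj ⋙ forget AddCommGrpCat.{u + 1}) R.arrows :=
    fun Z k hk => rs I.obj (a Z k hk) tV' -
      (f.hom.app (op Z)).hom (ofU Z (hunitZ Z k (a Z k hk) (ha Z k hk)).unit)
  have hcompat : xfam.Compatible := by
    intro Y₁ Y₂ Z g₁ g₂ k₁ k₂ hk₁ hk₂ hcomm
    show rs I.obj g₁ (rs I.obj (a Y₁ k₁ hk₁) tV' -
        (f.hom.app (op Y₁)).hom (ofU Y₁ (hunitZ Y₁ k₁ (a Y₁ k₁ hk₁) (ha Y₁ k₁ hk₁)).unit)) =
      rs I.obj g₂ (rs I.obj (a Y₂ k₂ hk₂) tV' -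
        (f.hom.app (op Y₂)).hom (ofU Y₂ (hunitZ Y₂ k₂ (a Y₂ k₂ hk₂) (ha Y₂ k₂ hk₂)).unit))
    rw [map_sub, map_sub, rs_rs, rs_rs, ← rs_app, ← rs_app, rs_ofU, rs_ofU]
    refine indep f W₀ V' tV' u hu (g₁ ≫ a Y₁ k₁ hk₁) (g₂ ≫ a Y₂ k₂ hk₂) ?_ _ _ l hrel ?_ ?_
    · rw [Category.assoc, Category.assoc, ha, ha, ← Category.assoc, ← Category.assoc, hcomm]
    · rw [appTop_comp_left]
      rfl
    · rw [appTop_comp_left]
      rfl
  obtain ⟨t, ht, -⟩ := isSheaf_forget (J := X.smallEtaleTopology) I R hR xfam hcompat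
  refine ⟨t, ?_⟩
  refine ((isSheaf_forget (J := X.smallEtaleTopology) Q R hR).isSeparatedFor).ext ?_
  intro Z k hk
  show rs Q.obj k ((g.hom.app (op W₁)).hom t) = rs Q.obj k (rs Q.obj h q)
  have ht' : rs I.obj k t = xfam k hk := ht k hk
  rw [← rs_app, ht']
  show (g.hom.app (op Z)).hom (rs I.obj (a Z k hk) tV' -
      (f.hom.app (op Z)).hom (ofU Z (hunitZ Z k (a Z k hk) (ha Z k hk)).unit)) = _
  rw [map_sub, app_comp_zero (ShortComplex.mk f g wfg) Z, sub_zero, rs_app, htV', rs_rs, rs_rs, ha]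

end Groth.Agent.Lib.H90EtH8
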