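import Mathlib
import Groth.Prelude.Def_EtBase
import Groth.Prelude.Def_EtGm
import Groth.Agent.Lib.H90Et2_helper8
import Groth.Agent.Lib.EtHpull0_helper7

/-!
# Hilbert 90 on the small étale site of a local affine scheme (helper8)
APPEND-ONLY once landed.
-/

set_option autoImplicit false
universe u
open CategoryTheory CategoryTheory.Limits AlgebraicGeometry Opposite Abelian

namespace Groth.Agent.Lib.H90EtH8

open Groth.Agent.Lib.EtFlasque_helper7 Groth.Agent.Lib.EtExtFr_helper7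
  Groth.Agent.Lib.EtHpull0_helper7 Groth.Agent.Lib.CechSite

/-- **Hilbert 90**: `H¹(X_et, G_m) = 0` for an affine scheme `X` which is local at a point `x₀`
(every global function not vanishing at `x₀` is a unit). -/
theorem h1_gm_eq_zero_of_local (X : Scheme.{u}) [IsAffine X] (x₀ : X)
    (hloc : ∀ φ : Γ(X, ⊤), x₀ ∈ X.basicOpen φ → IsUnit φ) (c : EtCoh.H X (EtCoh.Gm X) 1) :
    c = 0 := by
  obtain ⟨W₀, hW₀⟩ : ∃ W₀ : X.Etale, W₀ = EtCoh.top X := ⟨_, rfl⟩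
  haveI : IsAffine W₀.left := by rw [hW₀]; exact inferInstanceAs (IsAffine X)
  let Sx : ShortComplex (EtCoh.Ab X) :=
    ShortComplex.mk (Injective.ι (EtCoh.Gm X)) (cokernel.π (Injective.ι (EtCoh.Gm X)))
      (cokernel.condition _)
  have hSx : Sx.ShortExact := { exact := ShortComplex.exact_cokernel (Injective.ι (EtCoh.Gm X)) }
  haveI : Injective Sx.X₂ := inferInstanceAs (Injective (Injective.under (EtCoh.Gm X)))
  obtain ⟨x₃, hx₃⟩ : ∃ x₃ : Ext (fr W₀) Sx.X₃ 0, x₃.comp hSx.extClass (zero_add 1) =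
      (Ext.mk₀ (aW W₀)).comp c (zero_add 1) :=
    Ext.covariant_sequence_exact₁ _ hSx _ (Ext.eq_zero_of_injective _) (zero_add 1)
  obtain ⟨ψ, rfl⟩ := (Ext.mk₀_bijective _ _).2 x₃
  obtain ⟨φ, hφ, hlift⟩ := exists_local_lift Sx.f Sx.g Sx.zero hSx W₀ (frEquiv W₀ Sx.X₃ ψ)
    (hW₀ ▸ x₀)
  subst hW₀
  have hunit : IsUnit ((𝟙 (EtCoh.top X) : EtCoh.top X ⟶ EtCoh.top X).left.appTop.hom φ) := by
    have e : (𝟙 (EtCoh.top X) : EtCoh.top X ⟶ EtCoh.top X).left.appTop.hom φ = φ := by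
      show (𝟙 X : X ⟶ X).appTop.hom φ = φ
      rfl
    rw [e]
    exact hloc φ hφ
  obtain ⟨t, ht⟩ := hlift _ (𝟙 _) hunit
  rw [rs_id] at ht
  have hψ : ψ = (frEquiv _ Sx.X₂).symm t ≫ Sx.g := by
    apply (frEquiv _ Sx.X₃).injective
    rw [frEquiv_comp, Equiv.apply_symm_apply]
    exact ht.symm
  have key : (Ext.mk₀ (aW (EtCoh.top X))).comp c (zero_add 1) = 0 := by
    rw [← hx₃, hψ, ← Ext.mk₀_comp_mk₀]
    refine (Ext.comp_assoc_of_second_deg_zero (Ext.mk₀ ((frEquiv _ Sx.X₂).symm t)) (Ext.mk₀ Sx.g)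
      hSx.extClass (zero_add 1)).trans ?_
    exact (congrArg (fun s => (Ext.mk₀ ((frEquiv _ Sx.X₂).symm t)).comp s (zero_add 1))
      hSx.comp_extClass).trans (Ext.comp_zero _ _ _ _ _)
  haveI := isIso_aW_top (X := X)
  have h2 := congrArg (fun s => (Ext.mk₀ (inv (aW (EtCoh.top X)))).comp s (zero_add 1)) key
  simp only [Ext.mk₀_comp_mk₀_assoc, IsIso.inv_hom_id, Ext.mk₀_id_comp, Ext.comp_zero] at h2
  exact h2

end Groth.Agent.Lib.H90EtH8
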