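import Mathlib
import Groth.Prelude.Def_EtBase
import Groth.Prelude.Def_EtGm
import Groth.Prelude.Def_EtZar
import Groth.Agent.Lib.H90Et3_helper8
import Groth.Agent.Lib.GaZar_helper8

/-!
# `H¹(X_et, G_m)` and Zariski-local data (helper8)
APPEND-ONLY once landed.
-/

set_option autoImplicit false
universe u
open CategoryTheory CategoryTheory.Limits AlgebraicGeometry Opposite Abelian

namespace Groth.Agent.Lib.H90EtH8

open Groth.Agent.Lib.EtFlasque_helper7 Groth.Agent.Lib.EtExtFr_helper7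
  Groth.Agent.Lib.EtHpull0_helper7 Groth.Agent.Lib.CechSite
  Groth.Agent.Lib.EtSchSite_helper7

variable {X : Scheme.{u}}

/-! ### Opens as objects of the small étale site -/

/-- an open of `X` as an étale `X`-scheme -/
noncomputable abbrev zO (V : X.Opens) : X.Etale := (EtZar.zarToEt X).obj V

/-- inclusions of opens -/
noncomputable abbrev zle {V' V : X.Opens} (h : V' ≤ V) : zO V' ⟶ zO V :=
  (EtZar.zarToEt X).map (homOfLE h)

lemma zhom_ext {Z : X.Etale} {V : X.Opens} (a b : Z ⟶ zO V) : a = b := by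
  apply MorphismProperty.Over.Hom.ext
  have ha : a.left ≫ V.ι = Z.hom := MorphismProperty.Over.w a
  have hb : b.left ≫ V.ι = Z.hom := MorphismProperty.Over.w b
  exact (cancel_mono V.ι).1 (ha.trans hb.symm)

lemma range_hom_subset {Z : X.Etale} {V : X.Opens} (a : Z ⟶ zO V) :
    Set.range Z.hom ⊆ (V : Set X) := by
  have ha : a.left ≫ V.ι = Z.hom := MorphismProperty.Over.w a
  rintro _ ⟨z, rfl⟩
  rw [← ha, Scheme.Hom.comp_apply]
  exact (a.left z).2

lemma range_subset_range_ι (Z : X.Etale) (V : X.Opens) (h : Set.range Z.hom ⊆ (V : Set X)) :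
    Set.range (Z.hom : Z.left ⟶ X) ⊆ Set.range (V.ι : V.toScheme ⟶ X) := by
  rw [Scheme.Opens.range_ι]; exact h

/-- the underlying morphism of `zlift` -/
noncomputable def zliftLeft (Z : X.Etale) (V : X.Opens) (h : Set.range Z.hom ⊆ (V : Set X)) :
    Z.left ⟶ V.toScheme :=
  IsOpenImmersion.lift (V.ι : V.toScheme ⟶ X) (Z.hom : Z.left ⟶ X) (range_subset_range_ι Z V h)

lemma zliftLeft_fac (Z : X.Etale) (V : X.Opens) (h : Set.range Z.hom ⊆ (V : Set X)) :
    zliftLeft Z V h ≫ V.ι = Z.hom :=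
  IsOpenImmersion.lift_fac (V.ι : V.toScheme ⟶ X) (Z.hom : Z.left ⟶ X) (range_subset_range_ι Z V h)

/-- a morphism into an open, from a bound on the image -/
noncomputable def zlift (Z : X.Etale) (V : X.Opens) (h : Set.range Z.hom ⊆ (V : Set X)) :
    Z ⟶ zO V :=
  MorphismProperty.Over.homMk (zliftLeft Z V h) (zliftLeft_fac Z V h) trivial

/-! ### Units on opens as sections of `G_m` -/

/-- a section of `G_m` over an open, as a unit of `Γ(V, ⊤)` -/
noncomputable def toUV (V : X.Opens) (s : (EtCoh.Gm X).obj.obj (op (zO V))) : Γ(V.toScheme, ⊤)ˣ :=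
  toU (zO V) s

/-- a section of `G_m` over an open, as a unit of `Γ(X, V)` -/
noncomputable def uO (V : X.Opens) (s : (EtCoh.Gm X).obj.obj (op (zO V))) : Γ(X, V)ˣ :=
  Units.map (V.topIso.hom.hom : Γ(V.toScheme, ⊤) →* Γ(X, V)) (toUV V s)

/-- a unit of `Γ(X, V)` as a section of `G_m` -/
noncomputable def sO (V : X.Opens) (a : Γ(X, V)ˣ) : (EtCoh.Gm X).obj.obj (op (zO V)) :=
  ofU (zO V) (Units.map (V.topIso.inv.hom : Γ(X, V) →* Γ(V.toScheme, ⊤)) a)

lemma uO_sO (V : X.Opens) (a : Γ(X, V)ˣ) : uO V (sO V a) = a := by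
  apply Units.ext
  show V.topIso.hom.hom (V.topIso.inv.hom (a : Γ(X, V))) = a
  exact congrArg (fun φ : Γ(X, V) ⟶ Γ(X, V) => φ.hom (a : Γ(X, V))) V.topIso.inv_hom_id

lemma sO_uO (V : X.Opens) (s : (EtCoh.Gm X).obj.obj (op (zO V))) : sO V (uO V s) = s := by
  apply toU_injective
  apply Units.ext
  show V.topIso.inv.hom (V.topIso.hom.hom ((toUV V s : Γ(V.toScheme, ⊤)ˣ) : Γ(V.toScheme, ⊤))) = _
  exact congrArg (fun φ : Γ(V.toScheme, ⊤) ⟶ Γ(V.toScheme, ⊤) =>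
    φ.hom ((toUV V s : Γ(V.toScheme, ⊤)ˣ) : Γ(V.toScheme, ⊤))) V.topIso.hom_inv_id

lemma uO_injective (V : X.Opens) : Function.Injective (uO (X := X) V) := by
  intro s t h
  rw [← sO_uO V s, ← sO_uO V t, h]

lemma uO_add (V : X.Opens) (s t : (EtCoh.Gm X).obj.obj (op (zO V))) :
    uO V (s + t) = uO V s * uO V t := by
  unfold uO
  have : toUV V (s + t) = toUV V s * toUV V t := rfl
  rw [this, map_mul]

lemma uO_zero (V : X.Opens) : uO (X := X) V 0 = 1 := by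
  have h := uO_add V (0 : (EtCoh.Gm X).obj.obj (op (zO V))) 0
  rw [add_zero] at h
  exact (mul_eq_left.1 h.symm)

lemma uO_neg (V : X.Opens) (s : (EtCoh.Gm X).obj.obj (op (zO V))) :
    uO V (-s) = (uO V s)⁻¹ := by
  have h := uO_add V s (-s)
  rw [add_neg_cancel, uO_zero] at h
  exact (eq_inv_of_mul_eq_one_right h.symm)

lemma uO_sub (V : X.Opens) (s t : (EtCoh.Gm X).obj.obj (op (zO V))) :
    uO V (s - t) = uO V s * (uO V t)⁻¹ := by
  rw [sub_eq_add_neg, uO_add, uO_neg]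

set_option backward.isDefEq.respectTransparency false in
lemma res_comm' {U V : X.Opens} (h : V ≤ U) :
    (X.homOfLE h).appTop ≫ V.topIso.hom = U.topIso.hom ≫ X.presheaf.map (homOfLE h).op := by
  rw [X.homOfLE_appTop, Scheme.Opens.topIso_hom, Scheme.Opens.topIso_hom, ← Functor.map_comp,
    ← Functor.map_comp]
  congr 1

lemma uO_rs {V' V : X.Opens} (h : V' ≤ V) (s : (EtCoh.Gm X).obj.obj (op (zO V))) :
    ((uO V' (rs (EtCoh.Gm X).obj (zle h) s) : Γ(X, V')ˣ) : Γ(X, V')) =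
      (X.presheaf.map (homOfLE h).op).hom ((uO V s : Γ(X, V)ˣ) : Γ(X, V)) := by
  have h1 := congrArg (fun φ => φ.hom ((toUV V s : Γ(V.toScheme, ⊤)ˣ) : Γ(V.toScheme, ⊤)))
    (res_comm' (X := X) h)
  exact h1

/-! ### Gluing over Zariski covers -/

attribute [local instance] Groth.Agent.Lib.EtCechPush.hasFiniteProducts_over

/-- the family of opens as objects over the terminal object -/
noncomputable def Yf (U : X → X.Opens) : ULift.{u + 1} X → Over (EtCoh.top X) :=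
  fun i => Over.mk (toTop (zO (U i.down)))

lemma Yf_cover (U : X → X.Opens) (hU : ∀ x, x ∈ U x) :
    Sieve.ofArrows (fun i => (Yf U i).left) (fun i => (Yf U i).hom) ∈
      X.smallEtaleTopology (EtCoh.top X) := by
  apply sieve_mem_of_forall_exists
  intro w
  refine ⟨zO (U w), toTop (zO (U w)), Sieve.ofArrows_mk _ _ (ULift.up w), ?_⟩
  refine ⟨⟨w, hU w⟩, ?_⟩
  have h1 : (toTop (zO (U w))).left ≫ (EtCoh.top X).hom = (zO (U w)).hom :=
    MorphismProperty.Over.w (toTop (zO (U w)))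
  have h2 : (toTop (zO (U w))).left = (U w).ι :=
    (Category.comp_id _).symm.trans h1
  rw [h2]
  rfl

theorem glue_zar (F : EtCoh.Ab X) (U : X → X.Opens) (hU : ∀ x, x ∈ U x)
    (s : ∀ x, F.obj.obj (op (zO (U x))))
    (hs : ∀ x y, rs F.obj (zle (inf_le_left : U x ⊓ U y ≤ U x)) (s x) =
      rs F.obj (zle (inf_le_right : U x ⊓ U y ≤ U y)) (s y)) :
    ∃ t : F.obj.obj (op (EtCoh.top X)), ∀ x, rs F.obj (toTop (zO (U x))) t = s x := by
  obtain ⟨t, ht, -⟩ := existsUnique_glue (Yf U) F (Yf_cover U hU) (fun i => s i.down) (by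
    intro i j Z gi gj _
    have hr : Set.range Z.hom ⊆ ((U i.down ⊓ U j.down : X.Opens) : Set X) := by
      intro p hp
      exact ⟨range_hom_subset gi hp, range_hom_subset gj hp⟩
    have e1 : gi = zlift Z _ hr ≫ zle inf_le_left := zhom_ext _ _
    have e2 : gj = zlift Z _ hr ≫ zle inf_le_right := zhom_ext _ _
    rw [e1, e2]
    exact (rs_rs F.obj _ _ _).symm.trans ((congrArg _ (hs i.down j.down)).trans (rs_rs F.obj _ _ _)))
  exact ⟨t, fun x => ht (ULift.up x)⟩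

theorem ext_zar (F : EtCoh.Ab X) (U : X → X.Opens) (hU : ∀ x, x ∈ U x)
    (t t' : F.obj.obj (op (EtCoh.top X)))
    (h : ∀ x, rs F.obj (toTop (zO (U x))) t = rs F.obj (toTop (zO (U x))) t') : t = t' :=
  ext_of_cover (Yf U) F (Yf_cover U hU) t t' (fun i => h i.down)

/-! ### `H¹` via an injective hull -/

section Hull

variable (S : ShortComplex (EtCoh.Ab X)) (hS : S.ShortExact)
include hS

theorem h_eq_zero_of_lift [Injective S.X₂]
    (h : ∀ q : S.X₃.obj.obj (op (EtCoh.top X)), ∃ t : S.X₂.obj.obj (op (EtCoh.top X)),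
      (S.g.hom.app (op (EtCoh.top X))).hom t = q)
    (c : EtCoh.H X S.X₁ 1) : c = 0 := by
  obtain ⟨x₃, hx₃⟩ : ∃ x₃ : Ext (fr (EtCoh.top X)) S.X₃ 0, x₃.comp hS.extClass (zero_add 1) =
      (Ext.mk₀ (aW (EtCoh.top X))).comp c (zero_add 1) :=
    Ext.covariant_sequence_exact₁ _ hS _ (Ext.eq_zero_of_injective _) (zero_add 1)
  obtain ⟨ψ, rfl⟩ := (Ext.mk₀_bijective _ _).2 x₃
  obtain ⟨t, ht⟩ := h (frEquiv _ S.X₃ ψ)
  have hψ : ψ = (frEquiv _ S.X₂).symm t ≫ S.g := by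
    apply (frEquiv _ S.X₃).injective
    rw [frEquiv_comp, Equiv.apply_symm_apply]
    exact ht.symm
  have key : (Ext.mk₀ (aW (EtCoh.top X))).comp c (zero_add 1) = 0 := by
    rw [← hx₃, hψ, ← Ext.mk₀_comp_mk₀]
    refine (Ext.comp_assoc_of_second_deg_zero (Ext.mk₀ ((frEquiv _ S.X₂).symm t)) (Ext.mk₀ S.g)
      hS.extClass (zero_add 1)).trans ?_
    exact (congrArg (fun s => (Ext.mk₀ ((frEquiv _ S.X₂).symm t)).comp s (zero_add 1))
      hS.comp_extClass).trans (Ext.comp_zero _ _ _ _ _)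
  haveI := isIso_aW_top (X := X)
  have h2 := congrArg (fun s => (Ext.mk₀ (inv (aW (EtCoh.top X)))).comp s (zero_add 1)) key
  simp only [Ext.mk₀_comp_mk₀_assoc, IsIso.inv_hom_id, Ext.mk₀_id_comp, Ext.comp_zero] at h2
  exact h2

theorem exists_lift_of_subsingleton (hsub : Subsingleton (EtCoh.H X S.X₁ 1))
    (q : S.X₃.obj.obj (op (EtCoh.top X))) :
    ∃ t : S.X₂.obj.obj (op (EtCoh.top X)), (S.g.hom.app (op (EtCoh.top X))).hom t = q := by
  haveI := isIso_aW_top (X := X)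
  have h0 : ∀ y : Ext (fr (EtCoh.top X)) S.X₁ 1, y = 0 := by
    intro y
    have e : (Ext.mk₀ (inv (aW (EtCoh.top X)))).comp y (zero_add 1) = 0 := Subsingleton.elim _ _
    have h2 := congrArg (fun s => (Ext.mk₀ (aW (EtCoh.top X))).comp s (zero_add 1)) e
    simp only [Ext.mk₀_comp_mk₀_assoc, IsIso.hom_inv_id, Ext.mk₀_id_comp, Ext.comp_zero] at h2
    exact h2
  obtain ⟨x₂, hx₂⟩ := Ext.covariant_sequence_exact₃ _ hS
    (Ext.mk₀ ((frEquiv (EtCoh.top X) S.X₃).symm q)) (zero_add 1) (h0 _)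
  obtain ⟨ψ₂, rfl⟩ := (Ext.mk₀_bijective _ _).2 x₂
  rw [Ext.mk₀_comp_mk₀] at hx₂
  have h3 := (Ext.mk₀_bijective _ _).1 hx₂
  refine ⟨frEquiv _ S.X₂ ψ₂, ?_⟩
  have h4 := frEquiv_comp (EtCoh.top X) ψ₂ S.g
  rw [h3, Equiv.apply_symm_apply] at h4
  exact h4.symm

end Hull

/-- Zariski-local lifts through a `G_m`-extension -/
theorem exists_zar_lift {I Q : EtCoh.Ab X} (f : EtCoh.Gm X ⟶ I) (g : I ⟶ Q) (wfg : f ≫ g = 0)
    (hS : (ShortComplex.mk f g wfg).ShortExact) (q : Q.obj.obj (op (EtCoh.top X))) (x : X) :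
    ∃ (U : X.Opens) (_ : x ∈ U) (t : I.obj.obj (op (zO U))),
      (g.hom.app (op (zO U))).hom t = rs Q.obj (toTop (zO U)) q := by
  obtain ⟨X', hX', hxX'⟩ : ∃ X' : X.Opens, IsAffineOpen X' ∧ x ∈ X' := by
    obtain ⟨_, ⟨X', hX', rfl⟩, hxX', -⟩ :=
      X.isBasis_affineOpens.exists_subset_of_mem_open (Set.mem_univ x) isOpen_univ
    exact ⟨X', hX', hxX'⟩
  obtain ⟨W₀, hW₀⟩ : ∃ W₀ : X.Etale, W₀ = zO X' := ⟨_, rfl⟩
  haveI : IsAffine W₀.left := by rw [hW₀]; exact hX'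
  obtain ⟨φ, hφ, hlift⟩ := exists_local_lift f g wfg hS W₀ (rs Q.obj (toTop W₀) q)
    (hW₀ ▸ (⟨x, hxX'⟩ : X'))
  subst hW₀
  obtain ⟨U, hU⟩ : ∃ U : X.Opens, U = X'.ι ''ᵁ (X'.toScheme.basicOpen φ) := ⟨_, rfl⟩
  have hle : U ≤ X' := by rw [hU]; exact X'.ι_image_le _
  have hunit : IsUnit ((zle hle).left.appTop.hom φ) := by
    apply isUnit_appTop_of_forall_mem
    intro a
    obtain ⟨a', ha'⟩ : ∃ a' : U, a' = a := ⟨_, rfl⟩
    subst ha'
    have ha : (a' : X) ∈ X'.ι ''ᵁ (X'.toScheme.basicOpen φ) := hU ▸ a'.2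
    obtain ⟨b, hb, hba⟩ := ha
    have e : (zle hle).left a' = b := by
      apply Subtype.ext
      show (X.homOfLE hle a').1 = b.1
      rw [Scheme.homOfLE_apply]
      exact hba.symm
    rw [e]; exact hb
  obtain ⟨t, ht⟩ := hlift _ (zle hle) hunit
  refine ⟨U, by rw [hU]; exact ⟨⟨x, hxX'⟩, hφ, rfl⟩, t, ?_⟩
  rw [ht, rs_rs]
  congr 2
  exact (EtCore.topIsTerminal X).hom_ext _ _

end Groth.Agent.Lib.H90EtH8
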