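import Mathlib
import Groth.Prelude.Def_Pic
import Groth.Agent.Lib.H90Pic1_helper8
import Groth.Agent.Lib.CocycMod2_helper5
import Groth.Agent.Lib.CocycIso_helper9

/-!
# `Pic X = 0 ⟹ H¹(X_et, G_m) = 0` (helper8)
APPEND-ONLY once landed.
-/

set_option autoImplicit false
universe u
open CategoryTheory CategoryTheory.Limits AlgebraicGeometry Opposite Abelian TopologicalSpace

namespace Groth.Agent.Lib.H90EtH8

open Groth.Agent.Lib.EtFlasque_helper7 Groth.Agent.Lib.EtExtFr_helper7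
  Groth.Agent.Lib.EtHpull0_helper7 Groth.Agent.Lib.CechSite
  Groth.Agent.Lib.EtSchSite_helper7
open QcqsLoc QCohExtn GenLocH8 TensH8 FLFH8

variable {X : Scheme.{u}}

/-- the coefficient between two generators is a unit -/
theorem isUnit_coef {L : X.Modules} {W : X.Opens} {e e' : Γ(L, W)} (he : IsGen L W e)
    (he' : IsGen L W e') {c : Γ(X, W)} (h : e' = c • e) : IsUnit c := by
  obtain ⟨c', hc'⟩ := (he' W le_rfl).1 e
  rw [SubExt.rF_self] at hc'
  have h1 : (c' * c) • e = (1 : Γ(X, W)) • e := by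
    rw [mul_smul, ← h, ← hc', one_smul]
  have h2 := TensH8.IsGen.coef_ext he h1
  exact IsUnit.of_mul_eq_one _ ((mul_comm _ _).trans h2)

lemma rs_zle_zle (F : EtCoh.Ab X) {V'' V' V : X.Opens} (h' : V'' ≤ V') (h : V' ≤ V)
    (s : F.obj.obj (op (zO V))) :
    rs F.obj (zle h') (rs F.obj (zle h) s) = rs F.obj (zle (h'.trans h)) s := by
  rw [rs_rs]
  congr 2
  exact zhom_ext _ _

section Main

variable {I Q : EtCoh.Ab X} (f : EtCoh.Gm X ⟶ I) (g : I ⟶ Q) (wfg : f ≫ g = 0)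
  (hS : (ShortComplex.mk f g wfg).ShortExact)
  (U : X → X.Opens) (hxU : ∀ x, x ∈ U x) (t : ∀ x, I.obj.obj (op (zO (U x))))
  (e : ∀ x y, (EtCoh.Gm X).obj.obj (op (zO (U x ⊓ U y))))
  (he : ∀ x y, (f.hom.app (op (zO (U x ⊓ U y)))).hom (e x y) =
    rs I.obj (zle (inf_le_left : U x ⊓ U y ≤ U x)) (t x) -
      rs I.obj (zle (inf_le_right : U x ⊓ U y ≤ U y)) (t y))

include hS he in
theorem cocycle_of_diff : Groth.Agent.CocycMod.Cocycle U (fun x y => uO (U x ⊓ U y) (e x y)) := by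
  haveI : Mono f := hS.mono_f
  intro i j k
  have key : rs (EtCoh.Gm X).obj
      (zle (inf_le_inf_right (U k) inf_le_left : U i ⊓ U j ⊓ U k ≤ U i ⊓ U k)) (e i k) =
      rs (EtCoh.Gm X).obj (zle (inf_le_left : U i ⊓ U j ⊓ U k ≤ U i ⊓ U j)) (e i j) +
        rs (EtCoh.Gm X).obj
          (zle (inf_le_inf_right (U k) inf_le_right : U i ⊓ U j ⊓ U k ≤ U j ⊓ U k)) (e j k) := by
    apply app_injective f
    rw [map_add, rs_app, rs_app, rs_app, he, he, he, map_sub, map_sub, map_sub,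
      rs_zle_zle, rs_zle_zle, rs_zle_zle, rs_zle_zle, rs_zle_zle, rs_zle_zle]
    abel
  have h2 := congrArg (fun s => ((uO (U i ⊓ U j ⊓ U k) s : Γ(X, U i ⊓ U j ⊓ U k)ˣ) :
    Γ(X, U i ⊓ U j ⊓ U k))) key
  simp only [uO_add, Units.val_mul, uO_rs] at h2
  exact h2

end Main

/-- if every invertible module is trivial, global sections of `Q = I/G_m` lift to `I` -/
theorem exists_lift_of_pic_trivial
    (hpic : ∀ L : X.Modules, PicF.IsInvertible L → Nonempty (L ≅ Coh.structureModule X))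
    {I Q : EtCoh.Ab X} (f : EtCoh.Gm X ⟶ I) (g : I ⟶ Q) (wfg : f ≫ g = 0)
    (hS : (ShortComplex.mk f g wfg).ShortExact) (q : Q.obj.obj (op (EtCoh.top X))) :
    ∃ T : I.obj.obj (op (EtCoh.top X)), (g.hom.app (op (EtCoh.top X))).hom T = q := by
  haveI : Mono f := hS.mono_f
  choose U hxU t ht using exists_zar_lift f g wfg hS q
  -- the differences
  have hδ : ∀ x y, ∃ e : (EtCoh.Gm X).obj.obj (op (zO (U x ⊓ U y))),
      (f.hom.app (op (zO (U x ⊓ U y)))).hom e =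
        rs I.obj (zle (inf_le_left : U x ⊓ U y ≤ U x)) (t x) -
          rs I.obj (zle (inf_le_right : U x ⊓ U y ≤ U y)) (t y) := by
    intro x y
    apply sections_exact (ShortComplex.mk f g wfg) hS.exact inferInstance
    show (g.hom.app _).hom _ = 0
    rw [map_sub, rs_app, rs_app, ht, ht, rs_rs, rs_rs, sub_eq_zero]
    congr 2
    exact (EtCore.topIsTerminal X).hom_ext _ _
  choose e he using hδ
  have hη := cocycle_of_diff f g wfg hS U t e he
  have hU : iSup U = ⊤ := by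
    apply top_le_iff.1
    intro x _
    exact Opens.mem_iSup.2 ⟨x, hxU x⟩
  obtain ⟨L, hL⟩ : ∃ L : X.Modules, L = Groth.Agent.CocycMod.L U
      (fun x y => uO (U x ⊓ U y) (e x y)) (fun x => x) hxU hη := ⟨_, rfl⟩
  have hsec : ∃ sec : ∀ x, Γ(L, U x), (∀ x, IsGen L (U x) (sec x)) ∧
      ∀ x y, rF L (inf_le_left : U x ⊓ U y ≤ U x) (sec x) =
        ((uO (U x ⊓ U y) (e x y) : Γ(X, U x ⊓ U y)ˣ) : Γ(X, U x ⊓ U y)) •
          rF L (inf_le_right : U x ⊓ U y ≤ U y) (sec y) := by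
    subst hL
    exact ⟨Groth.Agent.CocycMod.sec U _ _ hxU hη, Groth.Agent.CocycMod.isGen_sec U _ _ hxU hη,
      Groth.Agent.CocycMod.rF_sec U _ _ hxU hη⟩
  obtain ⟨sec, hgen, hsecη⟩ := hsec
  have hLinv : PicF.IsInvertible L := by
    subst hL
    exact Groth.Agent.CocycMod.isInvertible_L U _ _ hxU hη hU
  obtain ⟨α⟩ := hpic L hLinv
  -- the global generator
  obtain ⟨s₀, hs₀⟩ : ∃ s₀ : Γ(L, ⊤), IsGen L ⊤ s₀ :=
    ⟨_, isGen_of_iso α.symm (isGen_one ⊤)⟩
  have hv : ∀ x, ∃ v : Γ(X, U x), rF L (le_top : U x ≤ ⊤) s₀ = v • sec x := by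
    intro x
    obtain ⟨c, hc⟩ := (hgen x (U x) le_rfl).1 (rF L (le_top : U x ≤ ⊤) s₀)
    rw [SubExt.rF_self] at hc
    exact ⟨c, hc⟩
  choose v hv using hv
  have hvu : ∀ x, IsUnit (v x) := fun x => isUnit_coef (hgen x) (hs₀.res le_top) (hv x)
  have hvrel : ∀ x y, rX (inf_le_left : U x ⊓ U y ≤ U x) (v x) *
      ((uO (U x ⊓ U y) (e x y) : Γ(X, U x ⊓ U y)ˣ) : Γ(X, U x ⊓ U y)) =
      rX (inf_le_right : U x ⊓ U y ≤ U y) (v y) := by
    intro x y
    apply TensH8.IsGen.coef_ext ((hgen y).res (inf_le_right : U x ⊓ U y ≤ U y))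
    rw [mul_smul, ← hsecη, ← rF_smul, ← rF_smul, ← hv, ← hv, rF_rF, rF_rF]
  -- the corrected local lifts
  obtain ⟨w, hw⟩ : ∃ w : ∀ x, (EtCoh.Gm X).obj.obj (op (zO (U x))),
      ∀ x, w x = sO (U x) (hvu x).unit := ⟨_, fun _ => rfl⟩
  have hwu : ∀ x, ((uO (U x) (w x) : Γ(X, U x)ˣ) : Γ(X, U x)) = v x := by
    intro x
    rw [hw, uO_sO]
    exact (hvu x).unit_spec
  have hcomp : ∀ x y, rs I.obj (zle (inf_le_left : U x ⊓ U y ≤ U x))
        (t x + (f.hom.app (op (zO (U x)))).hom (w x)) =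
      rs I.obj (zle (inf_le_right : U x ⊓ U y ≤ U y))
        (t y + (f.hom.app (op (zO (U y)))).hom (w y)) := by
    intro x y
    have h0 : e x y + rs (EtCoh.Gm X).obj (zle (inf_le_left : U x ⊓ U y ≤ U x)) (w x) =
        rs (EtCoh.Gm X).obj (zle (inf_le_right : U x ⊓ U y ≤ U y)) (w y) := by
      apply uO_injective
      apply Units.ext
      rw [uO_add, Units.val_mul]
      have h1 := uO_rs (inf_le_left : U x ⊓ U y ≤ U x) (w x)
      have h2 := uO_rs (inf_le_right : U x ⊓ U y ≤ U y) (w y)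
      rw [hwu] at h1 h2
      rw [h1, h2, mul_comm]
      exact hvrel x y
    have h3 := congrArg (fun s => (f.hom.app (op (zO (U x ⊓ U y)))).hom s) h0
    simp only [map_add, rs_app, he] at h3
    rw [map_add, map_add, ← h3]
    abel
  obtain ⟨T, hT⟩ := glue_zar I U hxU (fun x => t x + (f.hom.app (op (zO (U x)))).hom (w x)) hcomp
  refine ⟨T, ?_⟩
  apply ext_zar Q U hxU
  intro x
  rw [← rs_app, hT, map_add, app_comp_zero (ShortComplex.mk f g wfg), add_zero, ht]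

theorem h1_subsingleton_of_pic_trivial (X : Scheme.{u})
    (hpic : ∀ L : X.Modules, PicF.IsInvertible L → Nonempty (L ≅ Coh.structureModule X)) :
    Subsingleton (EtCoh.H X (EtCoh.Gm X) 1) := by
  let Sx : ShortComplex (EtCoh.Ab X) :=
    ShortComplex.mk (Injective.ι (EtCoh.Gm X)) (cokernel.π (Injective.ι (EtCoh.Gm X)))
      (cokernel.condition _)
  have hSx : Sx.ShortExact := { exact := ShortComplex.exact_cokernel (Injective.ι (EtCoh.Gm X)) }
  haveI : Injective Sx.X₂ := inferInstanceAs (Injective (Injective.under (EtCoh.Gm X)))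
  have h0 : ∀ c : EtCoh.H X (EtCoh.Gm X) 1, c = 0 :=
    h_eq_zero_of_lift Sx hSx (fun q => exists_lift_of_pic_trivial hpic Sx.f Sx.g Sx.zero hSx q)
  exact ⟨fun c c' => (h0 c).trans (h0 c').symm⟩

end Groth.Agent.Lib.H90EtH8
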