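import Mathlib
import Groth.Prelude.Def_Pic
import Groth.Agent.Lib.H90Pic2_helper8
import Groth.Agent.Lib.CechSiteInj_helper2
import Groth.Agent.Lib.EtCechPush_helper2

/-!
# `H¹(X_et, G_m) = 0 ⟹ Pic X = 0` (helper8)
APPEND-ONLY once landed.
-/

set_option autoImplicit false
universe u
open CategoryTheory CategoryTheory.Limits AlgebraicGeometry Opposite Abelian TopologicalSpace

namespace Groth.Agent.Lib.H90EtH8

open Groth.Agent.Lib.EtFlasque_helper7 Groth.Agent.Lib.EtExtFr_helper7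
  Groth.Agent.Lib.EtHpull0_helper7 Groth.Agent.Lib.CechSite
  Groth.Agent.Lib.EtSchSite_helper7 Groth.Agent.Lib.EtCechPush
open QcqsLoc QCohExtn GenLocH8 TensH8 FLFH8

variable {X : Scheme.{u}}

attribute [local instance] hasFiniteProducts_over

section Gens

variable {L : X.Modules} (U : X → X.Opens) (s : ∀ x, Γ(L, U x)) (hs : ∀ x, IsGen L (U x) (s x))
  (c : ∀ x y, Γ(X, U x ⊓ U y))
  (hc : ∀ x y, rF L (inf_le_left : U x ⊓ U y ≤ U x) (s x) =
    c x y • rF L (inf_le_right : U x ⊓ U y ≤ U y) (s y))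

include hs hc in
lemma isUnit_c (x y : X) : IsUnit (c x y) :=
  isUnit_coef ((hs y).res inf_le_right) ((hs x).res inf_le_left) (hc x y)

include hs hc in
lemma c_cocycle (i j k : X) :
    rX (inf_le_inf_right (U k) inf_le_left : U i ⊓ U j ⊓ U k ≤ U i ⊓ U k) (c i k) =
      rX (inf_le_left : U i ⊓ U j ⊓ U k ≤ U i ⊓ U j) (c i j) *
        rX (inf_le_inf_right (U k) inf_le_right : U i ⊓ U j ⊓ U k ≤ U j ⊓ U k) (c j k) := by
  have hk : U i ⊓ U j ⊓ U k ≤ U k := inf_le_right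
  apply TensH8.IsGen.coef_ext ((hs k).res hk)
  have h1 := congrArg (rF L (inf_le_inf_right (U k) inf_le_left : U i ⊓ U j ⊓ U k ≤ U i ⊓ U k))
    (hc i k)
  have h2 := congrArg (rF L (inf_le_left : U i ⊓ U j ⊓ U k ≤ U i ⊓ U j)) (hc i j)
  have h3 := congrArg (rF L (inf_le_inf_right (U k) inf_le_right : U i ⊓ U j ⊓ U k ≤ U j ⊓ U k))
    (hc j k)
  rw [rF_smul, rF_rF, rF_rF] at h1 h2 h3
  rw [mul_smul, ← h3, ← h2, ← h1]

end Gens

section Cech

variable (S : ShortComplex (EtCoh.Ab X)) (hS : S.ShortExact) [Injective S.X₂]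
  (hsub : Subsingleton (EtCoh.H X S.X₁ 1))
  (U : X → X.Opens) (hxU : ∀ x, x ∈ U x)
  (e : ∀ x y, S.X₁.obj.obj (op (zO (U x ⊓ U y))))
  (hcoc : ∀ i j k,
    rs S.X₁.obj (zle (inf_le_inf_right (U k) inf_le_left : U i ⊓ U j ⊓ U k ≤ U i ⊓ U k)) (e i k) =
      rs S.X₁.obj (zle (inf_le_left : U i ⊓ U j ⊓ U k ≤ U i ⊓ U j)) (e i j) +
        rs S.X₁.obj (zle (inf_le_inf_right (U k) inf_le_right : U i ⊓ U j ⊓ U k ≤ U j ⊓ U k))
          (e j k))

/-- the map from a fibre product of members of the cover to an intersection -/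
noncomputable def kap (σ : Fin 2 → ULift.{u + 1} X) :
    (T (Yf U) σ).left ⟶ zO (U (σ 0).down ⊓ U (σ 1).down) :=
  zlift _ _ (by
    intro p hp
    exact ⟨range_hom_subset (V := U (σ 0).down) (pr (Yf U) σ 0) hp,
      range_hom_subset (V := U (σ 1).down) (pr (Yf U) σ 1) hp⟩)

/-- the Čech 1-cochain of the cocycle -/
noncomputable def aCoch : Coch (Qr S.X₁.obj) (Yf U) 1 :=
  fun σ => rs S.X₁.obj (kap U σ) (e (σ 0).down (σ 1).down)

lemma add_neg_add_eq_zero {A B : Type*} [AddCommGroup A] [AddCommGroup B] (φ : B →+ A)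
    (x y z : B) (h : y = z + x) : φ x + -φ y + φ z = 0 := by
  rw [h, map_add]; abel

lemma rs_aCoch {Z : X.Etale} (σ : Fin 2 → ULift.{u + 1} X) (m : Z ⟶ (T (Yf U) σ).left)
    (W : X.Opens) (M : Z ⟶ zO W) (h : W ≤ U (σ 0).down ⊓ U (σ 1).down) :
    rs S.X₁.obj m (aCoch S U e σ) =
      rs S.X₁.obj M (rs S.X₁.obj (zle h) (e (σ 0).down (σ 1).down)) := by
  unfold aCoch
  rw [rs_rs, rs_rs]
  congr 2
  exact zhom_ext _ _

include hcoc in
lemma Dd_aCoch : Dd (Qr S.X₁.obj) (Yf U) 1 (aCoch S U e) = 0 := by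
  funext τ
  rw [Dd_apply', Fin.sum_univ_three]
  have hr : Set.range (T (Yf U) τ).left.hom ⊆
      ((U (τ 0).down ⊓ U (τ 1).down ⊓ U (τ 2).down : X.Opens) : Set X) := by
    intro p hp
    exact ⟨⟨range_hom_subset (V := U (τ 0).down) (pr (Yf U) τ 0) hp,
      range_hom_subset (V := U (τ 1).down) (pr (Yf U) τ 1) hp⟩,
      range_hom_subset (V := U (τ 2).down) (pr (Yf U) τ 2) hp⟩
  have h0 := rs_aCoch S U e (τ ∘ Fin.succAbove 0) (face (Yf U) τ 0).left _ (zlift _ _ hr)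
    (inf_le_inf_right _ inf_le_right :
      U (τ 0).down ⊓ U (τ 1).down ⊓ U (τ 2).down ≤ U (τ 1).down ⊓ U (τ 2).down)
  have h1 := rs_aCoch S U e (τ ∘ Fin.succAbove 1) (face (Yf U) τ 1).left _ (zlift _ _ hr)
    (inf_le_inf_right _ inf_le_left :
      U (τ 0).down ⊓ U (τ 1).down ⊓ U (τ 2).down ≤ U (τ 0).down ⊓ U (τ 2).down)
  have h2 := rs_aCoch S U e (τ ∘ Fin.succAbove 2) (face (Yf U) τ 2).left _ (zlift _ _ hr)
    (inf_le_left :
      U (τ 0).down ⊓ U (τ 1).down ⊓ U (τ 2).down ≤ U (τ 0).down ⊓ U (τ 1).down)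
  refine (congrArg₂ (· + ·) (congrArg₂ (· + ·) (congrArg _ h0) (congrArg _ h1))
    (congrArg _ h2)).trans ?_
  have hc := hcoc (τ 0).down (τ 1).down (τ 2).down
  simp only [Fin.val_zero, Fin.val_one, Fin.val_two, pow_zero, pow_one, one_smul, neg_smul]
  rw [show ((-1 : ℤ) ^ 2) = 1 by norm_num, one_smul]
  exact add_neg_add_eq_zero (rs S.X₁.obj (zlift _ _ hr)) _ _ _ hc

include hS hsub hxU hcoc in
/-- **Čech `H¹` of a Zariski cover injects into `H¹(X_et, -)`.** -/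
theorem coboundary_of_h1 :
    ∃ v : ∀ x, S.X₁.obj.obj (op (zO (U x))), ∀ x y,
      e x y = rs S.X₁.obj (zle (inf_le_right : U x ⊓ U y ≤ U y)) (v y) -
        rs S.X₁.obj (zle (inf_le_left : U x ⊓ U y ≤ U x)) (v x) := by
  haveI := hS.mono_f
  haveI : Injective S.X₂.obj := injective_obj_et S.X₂
  have hY := Yf_cover U hxU
  -- `f(a)` is a coboundary
  have hH := isZero_cech_of_injective (Yf U) S.X₂.obj 0
  rw [isZero_homology_succ_iff] at hH
  obtain ⟨fa, hfa⟩ : ∃ fa : Coch (Qr S.X₂.obj) (Yf U) 1,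
      ∀ σ, fa σ = (S.f.hom.app (op (T (Yf U) σ).left)).hom (aCoch S U e σ) := ⟨_, fun _ => rfl⟩
  have hDfa : Dd (Qr S.X₂.obj) (Yf U) 1 fa = 0 := by
    funext τ
    have h1 := congrFun (Dd_aCoch S U e hcoc) τ
    rw [Dd_apply', Fin.sum_univ_three] at h1 ⊢
    have h2 := congrArg (fun z => (S.f.hom.app (op (T (Yf U) τ).left)).hom z) h1
    simp only [map_add, map_zsmul, rs_app] at h2
    simp only [hfa]
    exact h2.trans (map_zero _)
  obtain ⟨β, hβ⟩ := hH fa hDfa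
  obtain ⟨b, hb⟩ : ∃ b : ∀ i, S.X₂.obj.obj (op (Yf U i).left), b = ofCoch0 (Yf U) S.X₂.obj β :=
    ⟨_, rfl⟩
  have hfab : ∀ σ : Fin 2 → ULift.{u + 1} X, fa σ =
      rs S.X₂.obj (pr (Yf U) σ 1) (b (σ 1)) - rs S.X₂.obj (pr (Yf U) σ 0) (b (σ 0)) := by
    intro σ
    rw [← hβ, Dd0_apply, hb]
  -- glue `g(b)`
  have hpair : ∀ σ : Fin 2 → ULift.{u + 1} X,
      rs S.X₃.obj (pr (Yf U) σ 0) ((S.g.hom.app (op (Yf U (σ 0)).left)).hom (b (σ 0))) =
      rs S.X₃.obj (pr (Yf U) σ 1) ((S.g.hom.app (op (Yf U (σ 1)).left)).hom (b (σ 1))) := by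
    intro σ
    have h1 := congrArg (fun z => (S.g.hom.app (op (T (Yf U) σ).left)).hom z) (hfab σ)
    simp only [hfa, app_comp_zero, map_sub, rs_app] at h1
    exact (sub_eq_zero.1 h1.symm).symm
  obtain ⟨q, hq, -⟩ := existsUnique_glue (Yf U) S.X₃ hY
    (fun i => (S.g.hom.app (op (Yf U i).left)).hom (b i))
    (compat_of_pair (Yf U) S.X₃.obj _ hpair)
  obtain ⟨T₀, hT₀⟩ := exists_lift_of_subsingleton S hS hsub q
  -- the local corrections
  have hv : ∀ i : ULift.{u + 1} X, ∃ v : S.X₁.obj.obj (op (Yf U i).left),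
      (S.f.hom.app (op (Yf U i).left)).hom v = b i - rs S.X₂.obj (Yf U i).hom T₀ := by
    intro i
    apply sections_exact S hS.exact inferInstance
    rw [map_sub, rs_app, hT₀, hq, sub_self]
  choose v hv using hv
  have hav : ∀ σ : Fin 2 → ULift.{u + 1} X, aCoch S U e σ =
      rs S.X₁.obj (pr (Yf U) σ 1) (v (σ 1)) - rs S.X₁.obj (pr (Yf U) σ 0) (v (σ 0)) := by
    intro σ
    have h1 : (S.f.hom.app (op (T (Yf U) σ).left)).hom (aCoch S U e σ) =
        (S.f.hom.app (op (T (Yf U) σ).left)).hom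
          (rs S.X₁.obj (pr (Yf U) σ 1) (v (σ 1)) - rs S.X₁.obj (pr (Yf U) σ 0) (v (σ 0))) := by
      rw [← hfa, hfab, map_sub, rs_app, rs_app, hv, hv, map_sub, map_sub, rs_rs, rs_rs, pr_hom,
        pr_hom]
      abel
    exact app_injective S.f (T (Yf U) σ).left h1
  refine ⟨fun x => v (ULift.up x), ?_⟩
  intro x y
  have hcomm : zle (inf_le_left : U x ⊓ U y ≤ U x) ≫ (Yf U (ULift.up x)).hom =
      zle (inf_le_right : U x ⊓ U y ≤ U y) ≫ (Yf U (ULift.up y)).hom :=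
    (EtCore.topIsTerminal X).hom_ext _ _
  have h1 := congrArg (rs S.X₁.obj (lft2 (Yf U) (ULift.up x) (ULift.up y)
    (zle (inf_le_left : U x ⊓ U y ≤ U x)) (zle (inf_le_right : U x ⊓ U y ≤ U y)) hcomm))
    (hav ![ULift.up x, ULift.up y])
  rw [map_sub, rs_rs, rs_rs, lft2_pr0, lft2_pr1] at h1
  have h2 := rs_aCoch S U e ![ULift.up x, ULift.up y] (lft2 (Yf U) (ULift.up x) (ULift.up y)
    (zle (inf_le_left : U x ⊓ U y ≤ U x)) (zle (inf_le_right : U x ⊓ U y ≤ U y)) hcomm)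
    (U x ⊓ U y) (𝟙 _) le_rfl
  rw [rs_id] at h2
  have h3 : rs S.X₁.obj (zle (le_refl (U x ⊓ U y))) (e x y) = e x y := by
    have : zle (le_refl (U x ⊓ U y)) = 𝟙 (zO (U x ⊓ U y)) := zhom_ext _ _
    rw [this, rs_id]
  exact (h3.symm.trans h2.symm).trans h1

end Cech

theorem pic_trivial_of_h1_subsingleton (X : Scheme.{u})
    (hsub : Subsingleton (EtCoh.H X (EtCoh.Gm X) 1)) (L : X.Modules) (hL : PicF.IsInvertible L) :
    Nonempty (L ≅ Coh.structureModule X) := by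
  choose W hWaff hxW s hs using exists_isGen hL
  have hc : ∀ x y, ∃ c : Γ(X, W x ⊓ W y), rF L (inf_le_left : W x ⊓ W y ≤ W x) (s x) =
      c • rF L (inf_le_right : W x ⊓ W y ≤ W y) (s y) := by
    intro x y
    obtain ⟨c, hc⟩ := (((hs y).res (inf_le_right : W x ⊓ W y ≤ W y)) (W x ⊓ W y) le_rfl).1
      (rF L (inf_le_left : W x ⊓ W y ≤ W x) (s x))
    rw [SubExt.rF_self] at hc
    exact ⟨c, hc⟩
  choose c hc using hc
  have hcu := isUnit_c W s hs c hc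
  obtain ⟨e, he⟩ : ∃ e : ∀ x y, (EtCoh.Gm X).obj.obj (op (zO (W x ⊓ W y))),
      ∀ x y, e x y = sO (W x ⊓ W y) (hcu x y).unit := ⟨_, fun _ _ => rfl⟩
  have hue : ∀ x y, ((uO (W x ⊓ W y) (e x y) : Γ(X, W x ⊓ W y)ˣ) : Γ(X, W x ⊓ W y)) = c x y := by
    intro x y
    rw [he, uO_sO]
    exact (hcu x y).unit_spec
  have hcoc : ∀ i j k,
      rs (EtCoh.Gm X).obj
        (zle (inf_le_inf_right (W k) inf_le_left : W i ⊓ W j ⊓ W k ≤ W i ⊓ W k)) (e i k) =
      rs (EtCoh.Gm X).obj (zle (inf_le_left : W i ⊓ W j ⊓ W k ≤ W i ⊓ W j)) (e i j) +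
        rs (EtCoh.Gm X).obj
          (zle (inf_le_inf_right (W k) inf_le_right : W i ⊓ W j ⊓ W k ≤ W j ⊓ W k)) (e j k) := by
    intro i j k
    apply uO_injective
    apply Units.ext
    rw [uO_add, Units.val_mul, uO_rs, uO_rs, uO_rs, hue, hue, hue]
    exact c_cocycle W s hs c hc i j k
  let Sx : ShortComplex (EtCoh.Ab X) :=
    ShortComplex.mk (Injective.ι (EtCoh.Gm X)) (cokernel.π (Injective.ι (EtCoh.Gm X)))
      (cokernel.condition _)
  have hSx : Sx.ShortExact := { exact := ShortComplex.exact_cokernel (Injective.ι (EtCoh.Gm X)) }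
  haveI : Injective Sx.X₂ := inferInstanceAs (Injective (Injective.under (EtCoh.Gm X)))
  obtain ⟨v, hv⟩ := coboundary_of_h1 Sx hSx hsub W hxW e hcoc
  -- the rescaling units
  have hU : iSup W = ⊤ := by
    apply top_le_iff.1
    intro x _
    exact Opens.mem_iSup.2 ⟨x, hxW x⟩
  have hmap : ∀ {V' V : X.Opens} (h : V' ≤ V) (z : (EtCoh.Gm X).obj.obj (op (zO V))),
      uO V' (rs (EtCoh.Gm X).obj (zle h) z) = Units.map (rX h : Γ(X, V) →* Γ(X, V')) (uO V z) := by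
    intro V' V h z
    apply Units.ext
    exact uO_rs h z
  have hu : ∀ i j, (1 : Γ(X, W i ⊓ W j)) *
      rX (inf_le_left : W i ⊓ W j ≤ W i) (((uO (W i) (v i))⁻¹ : Γ(X, W i)ˣ) : Γ(X, W i)) =
      rX (inf_le_right : W i ⊓ W j ≤ W j) (((uO (W j) (v j))⁻¹ : Γ(X, W j)ˣ) : Γ(X, W j)) *
        c i j := by
    intro i j
    have h1 := congrArg (uO (W i ⊓ W j)) (hv i j)
    rw [uO_sub, hmap, hmap] at h1
    have h2 := congrArg (fun z : Γ(X, W i ⊓ W j)ˣ => (z : Γ(X, W i ⊓ W j))) h1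
    simp only [hue, Units.val_mul] at h2
    rw [h2, one_mul]
    have h3 : ∀ {V' V : X.Opens} (h : V' ≤ V) (z : Γ(X, V)ˣ),
        rX h ((z⁻¹ : Γ(X, V)ˣ) : Γ(X, V)) =
          (((Units.map (rX h : Γ(X, V) →* Γ(X, V')) z)⁻¹ : Γ(X, V')ˣ) : Γ(X, V')) := by
      intro V' V h z
      rw [← map_inv]
      rfl
    rw [h3, h3, ← mul_assoc, ← Units.val_mul, inv_mul_cancel, Units.val_one, one_mul]
  have hη' : ∀ i j, rF (Coh.structureModule X) (inf_le_left : W i ⊓ W j ≤ W i)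
        (toM (1 : Γ(X, W i))) =
      (1 : Γ(X, W i ⊓ W j)) • rF (Coh.structureModule X) (inf_le_right : W i ⊓ W j ≤ W j)
        (toM (1 : Γ(X, W j))) := by
    intro i j
    rw [one_smul]
    exact (map_one (rX (inf_le_left : W i ⊓ W j ≤ W i))).trans
      (map_one (rX (inf_le_right : W i ⊓ W j ≤ W j))).symm
  exact CocycIsoH9.nonempty_iso hU hs hc hη' hu (fun i => isGen_one (W i))
    (fun i => Units.isUnit _)

end Groth.Agent.Lib.H90EtH8
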