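import Mathlib
import Groth.Prelude.Def_Pic
import Groth.Agent.Lib.H90Pic3_helper8

/-!
# `Pic X ≅ H¹(X_et, G_m)`: Zariski-local data (helper8)
APPEND-ONLY once landed.
-/

set_option autoImplicit false
universe u
open CategoryTheory CategoryTheory.Limits AlgebraicGeometry Opposite Abelian TopologicalSpace

namespace Groth.Agent.Lib.H90EtH8

open Groth.Agent.Lib.EtFlasque_helper7 Groth.Agent.Lib.EtExtFr_helper7
  Groth.Agent.Lib.EtHpull0_helper7 Groth.Agent.Lib.CechSite
  Groth.Agent.Lib.EtSchSite_helper7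
open QcqsLoc QCohExtn GenLocH8 TensH8 FLFH8

variable {X : Scheme.{u}}

section Datum

variable {I Q : EtCoh.Ab X} (f : EtCoh.Gm X ⟶ I) (g : I ⟶ Q)

/-- Zariski-local data relating a global section `q` of `Q = I/G_m` and an `O_X`-module `L`. -/
structure Datum (q : Q.obj.obj (op (EtCoh.top X))) (L : X.Modules) where
  U : X → X.Opens
  hxU : ∀ x, x ∈ U x
  t : ∀ x, I.obj.obj (op (zO (U x)))
  ht : ∀ x, (g.hom.app (op (zO (U x)))).hom (t x) = rs Q.obj (toTop (zO (U x))) q
  e : ∀ x y, (EtCoh.Gm X).obj.obj (op (zO (U x ⊓ U y)))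
  he : ∀ x y, (f.hom.app (op (zO (U x ⊓ U y)))).hom (e x y) =
    rs I.obj (zle (inf_le_left : U x ⊓ U y ≤ U x)) (t x) -
      rs I.obj (zle (inf_le_right : U x ⊓ U y ≤ U y)) (t y)
  sec : ∀ x, Γ(L, U x)
  hgen : ∀ x, IsGen L (U x) (sec x)
  hsec : ∀ x y, rF L (inf_le_left : U x ⊓ U y ≤ U x) (sec x) =
    ((uO (U x ⊓ U y) (e x y) : Γ(X, U x ⊓ U y)ˣ) : Γ(X, U x ⊓ U y)) •
      rF L (inf_le_right : U x ⊓ U y ≤ U y) (sec y)

variable {f g}

/-- restrict a datum to a finer cover -/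
noncomputable def Datum.refine {q : Q.obj.obj (op (EtCoh.top X))} {L : X.Modules}
    (D : Datum f g q L) (V : X → X.Opens) (hxV : ∀ x, x ∈ V x) (hVU : ∀ x, V x ≤ D.U x) :
    Datum f g q L where
  U := V
  hxU := hxV
  t := fun x => rs I.obj (zle (hVU x)) (D.t x)
  ht := fun x => by
    rw [rs_app, D.ht, rs_rs]
    congr 2
    exact (EtCore.topIsTerminal X).hom_ext _ _
  e := fun x y => rs (EtCoh.Gm X).obj (zle (inf_le_inf (hVU x) (hVU y))) (D.e x y)
  he := fun x y => by
    rw [rs_app, D.he, map_sub, rs_zle_zle, rs_zle_zle, rs_zle_zle, rs_zle_zle]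
  sec := fun x => rF L (hVU x) (D.sec x)
  hgen := fun x => (D.hgen x).res (hVU x)
  hsec := fun x y => by
    rw [rF_rF, uO_rs]
    have h := congrArg (rF L (inf_le_inf (hVU x) (hVU y))) (D.hsec x y)
    rw [rF_smul, rF_rF, rF_rF] at h
    rw [rF_rF]
    exact h

theorem Datum.isInvertible {q : Q.obj.obj (op (EtCoh.top X))} {L : X.Modules}
    (D : Datum f g q L) : PicF.IsInvertible L := by
  apply isInvertible_of_gens
  intro x
  obtain ⟨_, ⟨W, hW : IsAffineOpen W, rfl⟩, hxW, hle⟩ :=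
    (X.isBasis_affineOpens).exists_subset_of_mem_open (D.hxU x) (D.U x).isOpen
  exact ⟨W, hW, hxW, _, (D.hgen x).res hle⟩

end Datum

section Main

variable {I Q : EtCoh.Ab X} (f : EtCoh.Gm X ⟶ I) (g : I ⟶ Q) (wfg : f ≫ g = 0)
  (hS : (ShortComplex.mk f g wfg).ShortExact)

include hS in
/-- every global section of `Q` has a datum with some invertible module -/
theorem exists_datum (q : Q.obj.obj (op (EtCoh.top X))) :
    ∃ L : X.Modules, Nonempty (Datum f g q L) := by
  haveI : Mono f := hS.mono_f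
  choose U hxU t ht using exists_zar_lift f g wfg hS q
  have hδ : ∀ x y, ∃ e : (EtCoh.Gm X).obj.obj (op (zO (U x ⊓ U y))),
      (f.hom.app (op (zO (U x ⊓ U y)))).hom e =
        rs I.obj (zle (inf_le_left : U x ⊓ U y ≤ U x)) (t x) -
          rs I.obj (zle (inf_le_right : U x ⊓ U y ≤ U y)) (t y) := by
    intro x y
    apply sections_exact (ShortComplex.mk f g wfg) hS.exact inferInstance
    show (g.hom.app _).hom _ = 0
    rw [map_sub, rs_app, rs_app, ht, ht, rs_rs, rs_rs, sub_eq_zero]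
    congr 2
    exact (EtCore.topIsTerminal X).hom_ext _ _
  choose e he using hδ
  have hη := cocycle_of_diff f g wfg hS U t e he
  refine ⟨Groth.Agent.CocycMod.L U (fun x y => uO (U x ⊓ U y) (e x y)) (fun x => x) hxU hη, ⟨?_⟩⟩
  exact
    { U := U
      hxU := hxU
      t := t
      ht := ht
      e := e
      he := he
      sec := Groth.Agent.CocycMod.sec U _ _ hxU hη
      hgen := Groth.Agent.CocycMod.isGen_sec U _ _ hxU hη
      hsec := Groth.Agent.CocycMod.rF_sec U _ _ hxU hη }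

include hS in
/-- two data with the same cover and the same `q` give isomorphic modules -/
theorem datum_unique_aux {q : Q.obj.obj (op (EtCoh.top X))} {L L' : X.Modules}
    (D : Datum f g q L) (D' : Datum f g q L') (hU : D'.U = D.U) : Nonempty (L ≅ L') := by
  haveI : Mono f := hS.mono_f
  obtain ⟨U, hxU, t, ht, e, he, sec, hgen, hsec⟩ := D
  obtain ⟨U', hxU', t', ht', e', he', sec', hgen', hsec'⟩ := D'
  simp only at hU
  subst hU
  -- the difference of the lifts
  have hw : ∀ x, ∃ w : (EtCoh.Gm X).obj.obj (op (zO (U' x))),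
      (f.hom.app (op (zO (U' x)))).hom w = t x - t' x := by
    intro x
    apply sections_exact (ShortComplex.mk f g wfg) hS.exact inferInstance
    show (g.hom.app _).hom _ = 0
    rw [map_sub, ht, ht', sub_self]
  choose w hw using hw
  have hew : ∀ x y, e x y - e' x y =
      rs (EtCoh.Gm X).obj (zle (inf_le_left : U' x ⊓ U' y ≤ U' x)) (w x) -
        rs (EtCoh.Gm X).obj (zle (inf_le_right : U' x ⊓ U' y ≤ U' y)) (w y) := by
    intro x y
    apply app_injective f
    rw [map_sub, map_sub, rs_app, rs_app, he, he', hw, hw, map_sub, map_sub]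
    abel
  have hUtop : iSup U' = ⊤ := by
    apply top_le_iff.1
    intro x _
    exact Opens.mem_iSup.2 ⟨x, hxU' x⟩
  refine CocycIsoH9.nonempty_iso (u := fun x => ((uO (U' x) (w x) : Γ(X, U' x)ˣ) : Γ(X, U' x)))
    hUtop hgen hsec hsec' ?_ hgen' (fun i => Units.isUnit _)
  intro x y
  have h0 : e' x y + rs (EtCoh.Gm X).obj (zle (inf_le_left : U' x ⊓ U' y ≤ U' x)) (w x) =
      rs (EtCoh.Gm X).obj (zle (inf_le_right : U' x ⊓ U' y ≤ U' y)) (w y) + e x y := by
    have := sub_eq_sub_iff_add_eq_add.1 (hew x y)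
    rw [add_comm (e' x y), ← this, add_comm]
  have h1 := congrArg (fun s => ((uO (U' x ⊓ U' y) s : Γ(X, U' x ⊓ U' y)ˣ) : Γ(X, U' x ⊓ U' y))) h0
  simp only [uO_add, Units.val_mul, uO_rs] at h1
  exact h1

include hS in
theorem datum_unique {q : Q.obj.obj (op (EtCoh.top X))} {L L' : X.Modules}
    (D : Datum f g q L) (D' : Datum f g q L') : Nonempty (L ≅ L') :=
  datum_unique_aux f g wfg hS
    (D.refine (fun x => D.U x ⊓ D'.U x) (fun x => ⟨D.hxU x, D'.hxU x⟩) (fun x => inf_le_left))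
    (D'.refine (fun x => D.U x ⊓ D'.U x) (fun x => ⟨D.hxU x, D'.hxU x⟩) (fun x => inf_le_right))
    rfl

omit wfg in
theorem datum_add_aux {q q' : Q.obj.obj (op (EtCoh.top X))} {L L' : X.Modules}
    (D : Datum f g q L) (D' : Datum f g q' L') (hU : D'.U = D.U) :
    Nonempty (Datum f g (q + q') (CohB1.tensorMod L L')) := by
  obtain ⟨U, hxU, t, ht, e, he, sec, hgen, hsec⟩ := D
  obtain ⟨U', hxU', t', ht', e', he', sec', hgen', hsec'⟩ := D'
  simp only at hU
  subst hU
  exact ⟨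
    { U := U'
      hxU := hxU'
      t := fun x => t x + t' x
      ht := fun x => by rw [map_add, map_add, ht, ht']
      e := fun x y => e x y + e' x y
      he := fun x y => by
        rw [map_add, map_add, map_add, he, he']
        abel
      sec := fun x => SecTwist.tmul L L' (U' x) (sec x) (sec' x)
      hgen := fun x => isGen_tmul (hgen x) (hgen' x)
      hsec := fun x y => by
        rw [rF_tmul, rF_tmul, hsec, hsec', tmul_smul_left, tmul_smul_right, uO_add, Units.val_mul,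
          mul_smul] }⟩

omit wfg in
theorem datum_add {q q' : Q.obj.obj (op (EtCoh.top X))} {L L' : X.Modules}
    (D : Datum f g q L) (D' : Datum f g q' L') :
    Nonempty (Datum f g (q + q') (CohB1.tensorMod L L')) :=
  datum_add_aux f g
    (D.refine (fun x => D.U x ⊓ D'.U x) (fun x => ⟨D.hxU x, D'.hxU x⟩) (fun x => inf_le_left))
    (D'.refine (fun x => D.U x ⊓ D'.U x) (fun x => ⟨D.hxU x, D'.hxU x⟩) (fun x => inf_le_right))
    rfl

omit wfg in
/-- sections coming from `I` correspond to the trivial module -/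
noncomputable def datumOfLift (T : I.obj.obj (op (EtCoh.top X))) :
    Datum f g ((g.hom.app (op (EtCoh.top X))).hom T) (Coh.structureModule X) where
  U := fun _ => ⊤
  hxU := fun _ => trivial
  t := fun _ => rs I.obj (toTop (zO ⊤)) T
  ht := fun _ => by rw [rs_app]
  e := fun _ _ => 0
  he := fun _ _ => by
    rw [map_zero, rs_rs]
    have : zle (inf_le_left : (⊤ : X.Opens) ⊓ ⊤ ≤ ⊤) ≫ toTop (zO ⊤) =
        zle (inf_le_right : (⊤ : X.Opens) ⊓ ⊤ ≤ ⊤) ≫ toTop (zO ⊤) :=
      (EtCore.topIsTerminal X).hom_ext _ _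
    rw [this, sub_self]
  sec := fun _ => toM (1 : Γ(X, ⊤))
  hgen := fun _ => isGen_one ⊤
  hsec := fun _ _ => by
    rw [uO_zero, Units.val_one, one_smul]

include wfg in
/-- a datum with a trivial module lifts `q` to `I` -/
theorem lift_of_datum_trivial {q : Q.obj.obj (op (EtCoh.top X))} {L : X.Modules}
    (D : Datum f g q L) (α : L ≅ Coh.structureModule X) :
    ∃ T : I.obj.obj (op (EtCoh.top X)), (g.hom.app (op (EtCoh.top X))).hom T = q := by
  obtain ⟨U, hxU, t, ht, e, he, sec, hgen, hsecη⟩ := D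
  obtain ⟨s₀, hs₀⟩ : ∃ s₀ : Γ(L, ⊤), IsGen L ⊤ s₀ :=
    ⟨_, isGen_of_iso α.symm (isGen_one ⊤)⟩
  have hv : ∀ x, ∃ v : Γ(X, U x), rF L (le_top : U x ≤ ⊤) s₀ = v • sec x := by
    intro x
    obtain ⟨c, hc⟩ := (hgen x (U x) le_rfl).1 (rF L (le_top : U x ≤ ⊤) s₀)
    rw [SubExt.rF_self] at hc
    exact ⟨c, hc⟩
  choose v hv using hv
  have hvu : ∀ x, IsUnit (v x) := fun x => isUnit_coef (hgen x) (hs₀.res le_top) (hv x)
  have hvrel : ∀ x y, rX (inf_le_left : U x ⊓ U y ≤ U x) (v x) *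
      ((uO (U x ⊓ U y) (e x y) : Γ(X, U x ⊓ U y)ˣ) : Γ(X, U x ⊓ U y)) =
      rX (inf_le_right : U x ⊓ U y ≤ U y) (v y) := by
    intro x y
    apply TensH8.IsGen.coef_ext ((hgen y).res (inf_le_right : U x ⊓ U y ≤ U y))
    rw [mul_smul, ← hsecη, ← rF_smul, ← rF_smul, ← hv, ← hv, rF_rF, rF_rF]
  obtain ⟨w, hw⟩ : ∃ w : ∀ x, (EtCoh.Gm X).obj.obj (op (zO (U x))),
      ∀ x, w x = sO (U x) (hvu x).unit := ⟨_, fun _ => rfl⟩
  have hwu : ∀ x, ((uO (U x) (w x) : Γ(X, U x)ˣ) : Γ(X, U x)) = v x := by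
    intro x
    rw [hw, uO_sO]
    exact (hvu x).unit_spec
  have hcomp : ∀ x y, rs I.obj (zle (inf_le_left : U x ⊓ U y ≤ U x))
        (t x + (f.hom.app (op (zO (U x)))).hom (w x)) =
      rs I.obj (zle (inf_le_right : U x ⊓ U y ≤ U y))
        (t y + (f.hom.app (op (zO (U y)))).hom (w y)) := by
    intro x y
    have h0 : e x y + rs (EtCoh.Gm X).obj (zle (inf_le_left : U x ⊓ U y ≤ U x)) (w x) =
        rs (EtCoh.Gm X).obj (zle (inf_le_right : U x ⊓ U y ≤ U y)) (w y) := by
      apply uO_injective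
      apply Units.ext
      rw [uO_add, Units.val_mul]
      have h1 := uO_rs (inf_le_left : U x ⊓ U y ≤ U x) (w x)
      have h2 := uO_rs (inf_le_right : U x ⊓ U y ≤ U y) (w y)
      rw [hwu] at h1 h2
      rw [h1, h2, mul_comm]
      exact hvrel x y
    have h3 := congrArg (fun s => (f.hom.app (op (zO (U x ⊓ U y)))).hom s) h0
    simp only [map_add, rs_app, he] at h3
    rw [map_add, map_add, ← h3]
    abel
  obtain ⟨T, hT⟩ := glue_zar I U hxU (fun x => t x + (f.hom.app (op (zO (U x)))).hom (w x)) hcomp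
  refine ⟨T, ?_⟩
  apply ext_zar Q U hxU
  intro x
  rw [← rs_app, hT, map_add, app_comp_zero (ShortComplex.mk f g wfg), add_zero, ht]

end Main

end Groth.Agent.Lib.H90EtH8
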