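import Mathlib
import Groth.Prelude.Def_Pic
import Groth.Prelude.Def_UnitsSh
import Groth.Agent.Lib.H90Pic3_helper8
import Groth.Agent.Lib.CechConcrete_helper2
import Groth.Agent.Lib.PicH1a_helper8

/-!
# `Pic X ≅ H¹(X, O_X^×)` (Zariski): local data (helper8)
APPEND-ONLY once landed.
-/

set_option autoImplicit false
universe u
open CategoryTheory CategoryTheory.Limits AlgebraicGeometry Opposite Abelian TopologicalSpace

namespace Groth.Agent.Lib.PicZarH8

open Groth.Agent.Lib.Cech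
open QcqsLoc QCohExtn GenLocH8 TensH8 FLFH8

variable {X : Scheme.{u}}

/-- a section of `O_X^×` over an open, as a unit -/
def uZ (V : X.Opens) (s : (UnitsSh.unitsAb X).obj.obj (op V)) : Γ(X, V)ˣ := UnitsSh.unitOfSect s

/-- a unit as a section of `O_X^×` -/
def sZ (V : X.Opens) (a : Γ(X, V)ˣ) : (UnitsSh.unitsAb X).obj.obj (op V) := UnitsSh.sectOfUnit a

lemma uZ_sZ (V : X.Opens) (a : Γ(X, V)ˣ) : uZ V (sZ V a) = a := rfl

lemma sZ_uZ (V : X.Opens) (s : (UnitsSh.unitsAb X).obj.obj (op V)) : sZ V (uZ V s) = s := rfl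

lemma uZ_injective (V : X.Opens) : Function.Injective (uZ (X := X) V) := by
  intro s t h
  rw [← sZ_uZ V s, ← sZ_uZ V t, h]

lemma uZ_add (V : X.Opens) (s t : (UnitsSh.unitsAb X).obj.obj (op V)) :
    uZ V (s + t) = uZ V s * uZ V t := rfl

lemma uZ_zero (V : X.Opens) : uZ (X := X) V 0 = 1 := rfl

lemma uZ_neg (V : X.Opens) (s : (UnitsSh.unitsAb X).obj.obj (op V)) :
    uZ V (-s) = (uZ V s)⁻¹ := rfl

lemma uZ_sub (V : X.Opens) (s t : (UnitsSh.unitsAb X).obj.obj (op V)) :
    uZ V (s - t) = uZ V s * (uZ V t)⁻¹ := by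
  rw [sub_eq_add_neg, uZ_add, uZ_neg]

lemma uZ_res {V' V : X.Opens} (h : V' ≤ V) (s : (UnitsSh.unitsAb X).obj.obj (op V)) :
    ((uZ V' (res (UnitsSh.unitsAb X).obj h s) : Γ(X, V')ˣ) : Γ(X, V')) =
      (X.presheaf.map (homOfLE h).op).hom ((uZ V s : Γ(X, V)ˣ) : Γ(X, V)) := rfl

section Datum

variable {I Q : CohTop.Ab X.toTopCat} (f : UnitsSh.unitsAb X ⟶ I) (g : I ⟶ Q)

/-- Zariski-local data relating a global section `q` of `Q = I/O_X^×` and an `O_X`-module `L`. -/
structure Datum (q : Q.obj.obj (op (⊤ : X.Opens))) (L : X.Modules) where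
  U : X → X.Opens
  hxU : ∀ x, x ∈ U x
  t : ∀ x, I.obj.obj (op (U x))
  ht : ∀ x, (g.hom.app (op (U x))).hom (t x) = res Q.obj (le_top : U x ≤ ⊤) q
  e : ∀ x y, (UnitsSh.unitsAb X).obj.obj (op (U x ⊓ U y))
  he : ∀ x y, (f.hom.app (op (U x ⊓ U y))).hom (e x y) =
    res I.obj (inf_le_left : U x ⊓ U y ≤ U x) (t x) -
      res I.obj (inf_le_right : U x ⊓ U y ≤ U y) (t y)
  sec : ∀ x, Γ(L, U x)
  hgen : ∀ x, IsGen L (U x) (sec x)
  hsec : ∀ x y, rF L (inf_le_left : U x ⊓ U y ≤ U x) (sec x) =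
    ((uZ (U x ⊓ U y) (e x y) : Γ(X, U x ⊓ U y)ˣ) : Γ(X, U x ⊓ U y)) •
      rF L (inf_le_right : U x ⊓ U y ≤ U y) (sec y)

variable {f g}

/-- restrict a datum to a finer cover -/
noncomputable def Datum.refine {q : Q.obj.obj (op (⊤ : X.Opens))} {L : X.Modules}
    (D : Datum f g q L) (V : X → X.Opens) (hxV : ∀ x, x ∈ V x) (hVU : ∀ x, V x ≤ D.U x) :
    Datum f g q L where
  U := V
  hxU := hxV
  t := fun x => res I.obj (hVU x) (D.t x)
  ht := fun x => by
    rw [res_app, D.ht, res_res]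
  e := fun x y => res (UnitsSh.unitsAb X).obj (inf_le_inf (hVU x) (hVU y)) (D.e x y)
  he := fun x y => by
    rw [res_app, D.he, map_sub, res_res, res_res, res_res, res_res]
  sec := fun x => rF L (hVU x) (D.sec x)
  hgen := fun x => (D.hgen x).res (hVU x)
  hsec := fun x y => by
    rw [rF_rF, uZ_res]
    have h := congrArg (rF L (inf_le_inf (hVU x) (hVU y))) (D.hsec x y)
    rw [rF_smul, rF_rF, rF_rF] at h
    rw [rF_rF]
    exact h

theorem Datum.isInvertible {q : Q.obj.obj (op (⊤ : X.Opens))} {L : X.Modules}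
    (D : Datum f g q L) : PicF.IsInvertible L := by
  apply isInvertible_of_gens
  intro x
  obtain ⟨_, ⟨W, hW : IsAffineOpen W, rfl⟩, hxW, hle⟩ :=
    (X.isBasis_affineOpens).exists_subset_of_mem_open (D.hxU x) (D.U x).isOpen
  exact ⟨W, hW, hxW, _, (D.hgen x).res hle⟩

end Datum

section Main

variable {I Q : CohTop.Ab X.toTopCat} (f : UnitsSh.unitsAb X ⟶ I) (g : I ⟶ Q) (wfg : f ≫ g = 0)
  (hS : (ShortComplex.mk f g wfg).ShortExact)

section Coc

variable (U : X → X.Opens) (t : ∀ x, I.obj.obj (op (U x)))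
  (e : ∀ x y, (UnitsSh.unitsAb X).obj.obj (op (U x ⊓ U y)))
  (he : ∀ x y, (f.hom.app (op (U x ⊓ U y))).hom (e x y) =
    res I.obj (inf_le_left : U x ⊓ U y ≤ U x) (t x) -
      res I.obj (inf_le_right : U x ⊓ U y ≤ U y) (t y))

include hS he in
theorem cocycle_of_diff : Groth.Agent.CocycMod.Cocycle U (fun x y => uZ (U x ⊓ U y) (e x y)) := by
  haveI : Mono f := hS.mono_f
  intro i j k
  have key : res (UnitsSh.unitsAb X).obj
      (inf_le_inf_right (U k) inf_le_left : U i ⊓ U j ⊓ U k ≤ U i ⊓ U k) (e i k) =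
      res (UnitsSh.unitsAb X).obj (inf_le_left : U i ⊓ U j ⊓ U k ≤ U i ⊓ U j) (e i j) +
        res (UnitsSh.unitsAb X).obj
          (inf_le_inf_right (U k) inf_le_right : U i ⊓ U j ⊓ U k ≤ U j ⊓ U k) (e j k) := by
    apply app_injective f
    rw [map_add, res_app, res_app, res_app, he, he, he, map_sub, map_sub, map_sub,
      res_res, res_res, res_res, res_res, res_res, res_res]
    abel
  have h2 := congrArg (fun s => ((uZ (U i ⊓ U j ⊓ U k) s : Γ(X, U i ⊓ U j ⊓ U k)ˣ) :
    Γ(X, U i ⊓ U j ⊓ U k))) key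
  simp only [uZ_add, Units.val_mul, uZ_res] at h2
  exact h2

end Coc

include hS in
/-- every global section of `Q` has a datum with some module -/
theorem exists_datum (q : Q.obj.obj (op (⊤ : X.Opens))) :
    ∃ L : X.Modules, Nonempty (Datum f g q L) := by
  haveI : Mono f := hS.mono_f
  haveI : Epi g := hS.epi_g
  have hloc : ∀ x : X, ∃ (U : X.Opens) (_ : x ∈ U) (t : I.obj.obj (op U)),
      (g.hom.app (op U)).hom t = res Q.obj (le_top : U ≤ ⊤) q := by
    intro x
    obtain ⟨W, hW, hxW, t, ht⟩ := exists_local_lift g q x trivial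
    exact ⟨W, hxW, t, ht⟩
  choose U hxU t ht using hloc
  have hδ : ∀ x y, ∃ e : (UnitsSh.unitsAb X).obj.obj (op (U x ⊓ U y)),
      (f.hom.app (op (U x ⊓ U y))).hom e =
        res I.obj (inf_le_left : U x ⊓ U y ≤ U x) (t x) -
          res I.obj (inf_le_right : U x ⊓ U y ≤ U y) (t y) := by
    intro x y
    apply exists_of_app_eq_zero (ShortComplex.mk f g wfg) hS
    show (g.hom.app _).hom _ = 0
    rw [map_sub, res_app, res_app, ht, ht, res_res, res_res, sub_self]
  choose e he using hδ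
  have hη := cocycle_of_diff f g wfg hS U t e he
  refine ⟨Groth.Agent.CocycMod.L U (fun x y => uZ (U x ⊓ U y) (e x y)) (fun x => x) hxU hη, ⟨?_⟩⟩
  exact
    { U := U
      hxU := hxU
      t := t
      ht := ht
      e := e
      he := he
      sec := Groth.Agent.CocycMod.sec U _ _ hxU hη
      hgen := Groth.Agent.CocycMod.isGen_sec U _ _ hxU hη
      hsec := Groth.Agent.CocycMod.rF_sec U _ _ hxU hη }

include hS in
/-- two data with the same cover and the same `q` give isomorphic modules -/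
theorem datum_unique_aux {q : Q.obj.obj (op (⊤ : X.Opens))} {L L' : X.Modules}
    (D : Datum f g q L) (D' : Datum f g q L') (hU : D'.U = D.U) : Nonempty (L ≅ L') := by
  haveI : Mono f := hS.mono_f
  obtain ⟨U, hxU, t, ht, e, he, sec, hgen, hsec⟩ := D
  obtain ⟨U', hxU', t', ht', e', he', sec', hgen', hsec'⟩ := D'
  simp only at hU
  subst hU
  have hw : ∀ x, ∃ w : (UnitsSh.unitsAb X).obj.obj (op (U' x)),
      (f.hom.app (op (U' x))).hom w = t x - t' x := by
    intro x
    apply exists_of_app_eq_zero (ShortComplex.mk f g wfg) hS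
    show (g.hom.app _).hom _ = 0
    rw [map_sub, ht, ht', sub_self]
  choose w hw using hw
  have hew : ∀ x y, e x y - e' x y =
      res (UnitsSh.unitsAb X).obj (inf_le_left : U' x ⊓ U' y ≤ U' x) (w x) -
        res (UnitsSh.unitsAb X).obj (inf_le_right : U' x ⊓ U' y ≤ U' y) (w y) := by
    intro x y
    apply app_injective f
    rw [map_sub, map_sub, res_app, res_app, he, he', hw, hw, map_sub, map_sub]
    abel
  have hUtop : iSup U' = ⊤ := by
    apply top_le_iff.1
    intro x _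
    exact Opens.mem_iSup.2 ⟨x, hxU' x⟩
  refine CocycIsoH9.nonempty_iso (u := fun x => ((uZ (U' x) (w x) : Γ(X, U' x)ˣ) : Γ(X, U' x)))
    hUtop hgen hsec hsec' ?_ hgen' (fun i => Units.isUnit _)
  intro x y
  have h0 : e' x y + res (UnitsSh.unitsAb X).obj (inf_le_left : U' x ⊓ U' y ≤ U' x) (w x) =
      res (UnitsSh.unitsAb X).obj (inf_le_right : U' x ⊓ U' y ≤ U' y) (w y) + e x y := by
    have := sub_eq_sub_iff_add_eq_add.1 (hew x y)
    rw [add_comm (e' x y), ← this, add_comm]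
  have h1 := congrArg (fun s => ((uZ (U' x ⊓ U' y) s : Γ(X, U' x ⊓ U' y)ˣ) : Γ(X, U' x ⊓ U' y))) h0
  simp only [uZ_add, Units.val_mul, uZ_res] at h1
  exact h1

include hS in
theorem datum_unique {q : Q.obj.obj (op (⊤ : X.Opens))} {L L' : X.Modules}
    (D : Datum f g q L) (D' : Datum f g q L') : Nonempty (L ≅ L') :=
  datum_unique_aux f g wfg hS
    (D.refine (fun x => D.U x ⊓ D'.U x) (fun x => ⟨D.hxU x, D'.hxU x⟩) (fun x => inf_le_left))
    (D'.refine (fun x => D.U x ⊓ D'.U x) (fun x => ⟨D.hxU x, D'.hxU x⟩) (fun x => inf_le_right))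
    rfl

omit wfg in
theorem datum_add_aux {q q' : Q.obj.obj (op (⊤ : X.Opens))} {L L' : X.Modules}
    (D : Datum f g q L) (D' : Datum f g q' L') (hU : D'.U = D.U) :
    Nonempty (Datum f g (q + q') (CohB1.tensorMod L L')) := by
  obtain ⟨U, hxU, t, ht, e, he, sec, hgen, hsec⟩ := D
  obtain ⟨U', hxU', t', ht', e', he', sec', hgen', hsec'⟩ := D'
  simp only at hU
  subst hU
  exact ⟨
    { U := U'
      hxU := hxU'
      t := fun x => t x + t' x
      ht := fun x => by rw [map_add, map_add, ht, ht']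
      e := fun x y => e x y + e' x y
      he := fun x y => by
        rw [map_add, map_add, map_add, he, he']
        abel
      sec := fun x => SecTwist.tmul L L' (U' x) (sec x) (sec' x)
      hgen := fun x => isGen_tmul (hgen x) (hgen' x)
      hsec := fun x y => by
        rw [rF_tmul, rF_tmul, hsec, hsec', tmul_smul_left, tmul_smul_right, uZ_add, Units.val_mul,
          mul_smul] }⟩

omit wfg in
theorem datum_add {q q' : Q.obj.obj (op (⊤ : X.Opens))} {L L' : X.Modules}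
    (D : Datum f g q L) (D' : Datum f g q' L') :
    Nonempty (Datum f g (q + q') (CohB1.tensorMod L L')) :=
  datum_add_aux f g
    (D.refine (fun x => D.U x ⊓ D'.U x) (fun x => ⟨D.hxU x, D'.hxU x⟩) (fun x => inf_le_left))
    (D'.refine (fun x => D.U x ⊓ D'.U x) (fun x => ⟨D.hxU x, D'.hxU x⟩) (fun x => inf_le_right))
    rfl

omit wfg in
/-- sections coming from `I` correspond to the trivial module -/
noncomputable def datumOfLift (T : I.obj.obj (op (⊤ : X.Opens))) :
    Datum f g ((g.hom.app (op (⊤ : X.Opens))).hom T) (Coh.structureModule X) where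
  U := fun _ => ⊤
  hxU := fun _ => trivial
  t := fun _ => T
  ht := fun _ => (res_self Q.obj _ _).symm
  e := fun _ _ => 0
  he := fun _ _ => by
    rw [map_zero, sub_self]
  sec := fun _ => toM (1 : Γ(X, ⊤))
  hgen := fun _ => isGen_one ⊤
  hsec := fun _ _ => by
    rw [uZ_zero, Units.val_one, one_smul]

include wfg in
/-- a datum with a trivial module lifts `q` to `I` -/
theorem lift_of_datum_trivial {q : Q.obj.obj (op (⊤ : X.Opens))} {L : X.Modules}
    (D : Datum f g q L) (α : L ≅ Coh.structureModule X) :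
    ∃ T : I.obj.obj (op (⊤ : X.Opens)), (g.hom.app (op (⊤ : X.Opens))).hom T = q := by
  obtain ⟨U, hxU, t, ht, e, he, sec, hgen, hsecη⟩ := D
  obtain ⟨s₀, hs₀⟩ : ∃ s₀ : Γ(L, ⊤), IsGen L ⊤ s₀ :=
    ⟨_, isGen_of_iso α.symm (isGen_one ⊤)⟩
  have hv : ∀ x, ∃ v : Γ(X, U x), rF L (le_top : U x ≤ ⊤) s₀ = v • sec x := by
    intro x
    obtain ⟨c, hc⟩ := (hgen x (U x) le_rfl).1 (rF L (le_top : U x ≤ ⊤) s₀)
    rw [SubExt.rF_self] at hc
    exact ⟨c, hc⟩
  choose v hv using hv
  have hvu : ∀ x, IsUnit (v x) := fun x =>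
    Groth.Agent.Lib.H90EtH8.isUnit_coef (hgen x) (hs₀.res le_top) (hv x)
  have hvrel : ∀ x y, rX (inf_le_left : U x ⊓ U y ≤ U x) (v x) *
      ((uZ (U x ⊓ U y) (e x y) : Γ(X, U x ⊓ U y)ˣ) : Γ(X, U x ⊓ U y)) =
      rX (inf_le_right : U x ⊓ U y ≤ U y) (v y) := by
    intro x y
    apply TensH8.IsGen.coef_ext ((hgen y).res (inf_le_right : U x ⊓ U y ≤ U y))
    rw [mul_smul, ← hsecη, ← rF_smul, ← rF_smul, ← hv, ← hv, rF_rF, rF_rF]
  obtain ⟨w, hw⟩ : ∃ w : ∀ x, (UnitsSh.unitsAb X).obj.obj (op (U x)),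
      ∀ x, w x = sZ (U x) (hvu x).unit := ⟨_, fun _ => rfl⟩
  have hwu : ∀ x, ((uZ (U x) (w x) : Γ(X, U x)ˣ) : Γ(X, U x)) = v x := by
    intro x
    rw [hw, uZ_sZ]
    exact (hvu x).unit_spec
  have hcomp : ∀ x y, res I.obj (inf_le_left : U x ⊓ U y ≤ U x)
        (t x + (f.hom.app (op (U x))).hom (w x)) =
      res I.obj (inf_le_right : U x ⊓ U y ≤ U y)
        (t y + (f.hom.app (op (U y))).hom (w y)) := by
    intro x y
    have h0 : e x y + res (UnitsSh.unitsAb X).obj (inf_le_left : U x ⊓ U y ≤ U x) (w x) =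
        res (UnitsSh.unitsAb X).obj (inf_le_right : U x ⊓ U y ≤ U y) (w y) := by
      apply uZ_injective
      apply Units.ext
      rw [uZ_add, Units.val_mul]
      have h1 := uZ_res (inf_le_left : U x ⊓ U y ≤ U x) (w x)
      have h2 := uZ_res (inf_le_right : U x ⊓ U y ≤ U y) (w y)
      rw [hwu] at h1 h2
      rw [h1, h2, mul_comm]
      exact hvrel x y
    have h3 := congrArg (fun s => (f.hom.app (op (U x ⊓ U y))).hom s) h0
    simp only [map_add, res_app, he] at h3
    rw [map_add, map_add, ← h3]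
    abel
  have hU : (⊤ : X.Opens) ≤ iSup U := by
    intro x _
    exact Opens.mem_iSup.2 ⟨x, hxU x⟩
  obtain ⟨T, hT⟩ := glue I U ⊤ (fun _ => le_top) hU
    (fun x => t x + (f.hom.app (op (U x))).hom (w x)) hcomp
  refine ⟨T, ?_⟩
  apply ext_of_cover Q U ⊤ (fun _ => le_top) hU
  intro x
  rw [← res_app, hT, map_add, app_comp_zero (ShortComplex.mk f g wfg), add_zero, ht]

end Main

end Groth.Agent.Lib.PicZarH8
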