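import Mathlib
import Groth.Prelude.Def_Pic
import Groth.Prelude.Def_UnitsSh
import Groth.Agent.Lib.PicZ1_helper8

/-!
# Relative local data: `Pic Z` and `H¹(X, i_* O_Z^×)` for a morphism `i : Z ⟶ X` (helper8)
APPEND-ONLY once landed.
-/

set_option autoImplicit false
universe u
open CategoryTheory CategoryTheory.Limits AlgebraicGeometry Opposite Abelian TopologicalSpace

namespace Groth.Agent.Lib.PicRelH8

open Groth.Agent.Lib.Cech
open QcqsLoc QCohExtn GenLocH8 TensH8 FLFH8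

variable {X Z : Scheme.{u}} (i : Z ⟶ X)

/-- `i_* O_Z^×` as an abelian sheaf on `X` -/
noncomputable abbrev EZ : CohTop.Ab X.toTopCat := (CohTop.push i.base).obj (UnitsSh.unitsAb Z)

/-- a section of `i_* O_Z^×` over an open, as a unit -/
def uR (V : X.Opens) (s : (EZ i).obj.obj (op V)) : Γ(Z, i ⁻¹ᵁ V)ˣ :=
  UnitsSh.unitOfSect (X := Z.toTopCat) (O := Z.sheaf.obj) (U := op (i ⁻¹ᵁ V)) s

/-- a unit as a section of `i_* O_Z^×` -/
def sR (V : X.Opens) (a : Γ(Z, i ⁻¹ᵁ V)ˣ) : (EZ i).obj.obj (op V) :=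
  UnitsSh.sectOfUnit (X := Z.toTopCat) (O := Z.sheaf.obj) (U := op (i ⁻¹ᵁ V)) a

lemma uR_sR (V : X.Opens) (a : Γ(Z, i ⁻¹ᵁ V)ˣ) : uR i V (sR i V a) = a := rfl

lemma sR_uR (V : X.Opens) (s : (EZ i).obj.obj (op V)) : sR i V (uR i V s) = s := rfl

lemma uR_injective (V : X.Opens) : Function.Injective (uR i V) := by
  intro s t h
  rw [← sR_uR i V s, ← sR_uR i V t, h]

lemma uR_add (V : X.Opens) (s t : (EZ i).obj.obj (op V)) :
    uR i V (s + t) = uR i V s * uR i V t := rfl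

lemma uR_zero (V : X.Opens) : uR i V 0 = 1 := rfl

lemma uR_neg (V : X.Opens) (s : (EZ i).obj.obj (op V)) :
    uR i V (-s) = (uR i V s)⁻¹ := rfl

lemma uR_sub (V : X.Opens) (s t : (EZ i).obj.obj (op V)) :
    uR i V (s - t) = uR i V s * (uR i V t)⁻¹ := by
  rw [sub_eq_add_neg, uR_add, uR_neg]

lemma pre_mono {V' V : X.Opens} (h : V' ≤ V) : i ⁻¹ᵁ V' ≤ i ⁻¹ᵁ V := fun _ hz => h hz

lemma uR_res {V' V : X.Opens} (h : V' ≤ V) (s : (EZ i).obj.obj (op V)) :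
    ((uR i V' (res (EZ i).obj h s) : Γ(Z, i ⁻¹ᵁ V')ˣ) : Γ(Z, i ⁻¹ᵁ V')) =
      (Z.presheaf.map (homOfLE (pre_mono i h)).op).hom ((uR i V s : Γ(Z, i ⁻¹ᵁ V)ˣ) : Γ(Z, i ⁻¹ᵁ V)) := rfl

/-- a section over `U ⊓ V` as a unit on `i⁻¹U ⊓ i⁻¹V` -/
def uR2 (U V : X.Opens) (s : (EZ i).obj.obj (op (U ⊓ V))) : Γ(Z, i ⁻¹ᵁ U ⊓ i ⁻¹ᵁ V)ˣ :=
  uR i (U ⊓ V) s

lemma uR2_add (U V : X.Opens) (s t : (EZ i).obj.obj (op (U ⊓ V))) :
    uR2 i U V (s + t) = uR2 i U V s * uR2 i U V t := rfl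

lemma uR2_zero (U V : X.Opens) : uR2 i U V 0 = 1 := rfl

lemma uR2_res {V' V W' W : X.Opens} (h₁ : V' ≤ V) (h₂ : W' ≤ W)
    (s : (EZ i).obj.obj (op (V ⊓ W))) :
    ((uR2 i V' W' (res (EZ i).obj (inf_le_inf h₁ h₂) s) : Γ(Z, i ⁻¹ᵁ V' ⊓ i ⁻¹ᵁ W')ˣ) :
        Γ(Z, i ⁻¹ᵁ V' ⊓ i ⁻¹ᵁ W')) =
      (Z.presheaf.map (homOfLE (inf_le_inf (pre_mono i h₁) (pre_mono i h₂))).op).hom
        ((uR2 i V W s : Γ(Z, i ⁻¹ᵁ V ⊓ i ⁻¹ᵁ W)ˣ) : Γ(Z, i ⁻¹ᵁ V ⊓ i ⁻¹ᵁ W)) := rfl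

section Datum

variable {I Q : CohTop.Ab X.toTopCat} (f : EZ i ⟶ I) (g : I ⟶ Q)

/-- Local data (for a cover of `X`) relating a global section `q` of `Q = I/i_*O_Z^×` and an
`O_Z`-module `L`. -/
structure Datum (q : Q.obj.obj (op (⊤ : X.Opens))) (L : Z.Modules) where
  U : X → X.Opens
  hxU : ∀ x, x ∈ U x
  t : ∀ x, I.obj.obj (op (U x))
  ht : ∀ x, (g.hom.app (op (U x))).hom (t x) = res Q.obj (le_top : U x ≤ ⊤) q
  e : ∀ x y, (EZ i).obj.obj (op (U x ⊓ U y))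
  he : ∀ x y, (f.hom.app (op (U x ⊓ U y))).hom (e x y) =
    res I.obj (inf_le_left : U x ⊓ U y ≤ U x) (t x) -
      res I.obj (inf_le_right : U x ⊓ U y ≤ U y) (t y)
  sec : ∀ x, Γ(L, i ⁻¹ᵁ U x)
  hgen : ∀ x, IsGen L (i ⁻¹ᵁ U x) (sec x)
  hsec : ∀ x y, rF L (inf_le_left : i ⁻¹ᵁ U x ⊓ i ⁻¹ᵁ U y ≤ i ⁻¹ᵁ U x) (sec x) =
    ((uR2 i (U x) (U y) (e x y) : Γ(Z, i ⁻¹ᵁ U x ⊓ i ⁻¹ᵁ U y)ˣ) : Γ(Z, i ⁻¹ᵁ U x ⊓ i ⁻¹ᵁ U y)) •
      rF L (inf_le_right : i ⁻¹ᵁ U x ⊓ i ⁻¹ᵁ U y ≤ i ⁻¹ᵁ U y) (sec y)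

variable {i f g}

/-- restrict a datum to a finer cover -/
noncomputable def Datum.refine {q : Q.obj.obj (op (⊤ : X.Opens))} {L : Z.Modules}
    (D : Datum i f g q L) (V : X → X.Opens) (hxV : ∀ x, x ∈ V x) (hVU : ∀ x, V x ≤ D.U x) :
    Datum i f g q L where
  U := V
  hxU := hxV
  t := fun x => res I.obj (hVU x) (D.t x)
  ht := fun x => by
    rw [res_app, D.ht, res_res]
  e := fun x y => res (EZ i).obj (inf_le_inf (hVU x) (hVU y)) (D.e x y)
  he := fun x y => by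
    rw [res_app, D.he, map_sub, res_res, res_res, res_res, res_res]
  sec := fun x => rF L (pre_mono i (hVU x)) (D.sec x)
  hgen := fun x => (D.hgen x).res (pre_mono i (hVU x))
  hsec := fun x y => by
    rw [rF_rF, uR2_res i (hVU x) (hVU y)]
    have h := congrArg (rF L (inf_le_inf (pre_mono i (hVU x)) (pre_mono i (hVU y)))) (D.hsec x y)
    rw [rF_smul, rF_rF, rF_rF] at h
    rw [rF_rF]
    exact h

theorem Datum.isInvertible {q : Q.obj.obj (op (⊤ : X.Opens))} {L : Z.Modules}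
    (D : Datum i f g q L) : PicF.IsInvertible L := by
  apply isInvertible_of_gens
  intro z
  obtain ⟨_, ⟨W, hW : IsAffineOpen W, rfl⟩, hxW, hle⟩ :=
    (Z.isBasis_affineOpens).exists_subset_of_mem_open
      (show z ∈ i ⁻¹ᵁ D.U (i z) from D.hxU (i z)) (i ⁻¹ᵁ D.U (i z)).isOpen
  exact ⟨W, hW, hxW, _, (D.hgen (i z)).res hle⟩

end Datum

section Main

variable {I Q : CohTop.Ab X.toTopCat} (f : EZ i ⟶ I) (g : I ⟶ Q) (wfg : f ≫ g = 0)
  (hS : (ShortComplex.mk f g wfg).ShortExact)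

section Coc

variable (U : X → X.Opens) (t : ∀ x, I.obj.obj (op (U x)))
  (e : ∀ x y, (EZ i).obj.obj (op (U x ⊓ U y)))
  (he : ∀ x y, (f.hom.app (op (U x ⊓ U y))).hom (e x y) =
    res I.obj (inf_le_left : U x ⊓ U y ≤ U x) (t x) -
      res I.obj (inf_le_right : U x ⊓ U y ≤ U y) (t y))

include hS he in
theorem cocycle_of_diff :
    Groth.Agent.CocycMod.Cocycle (fun x => i ⁻¹ᵁ U x) (fun x y => uR2 i (U x) (U y) (e x y)) := by
  haveI : Mono f := hS.mono_f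
  intro a b c
  have key : res (EZ i).obj
      (inf_le_inf_right (U c) inf_le_left : U a ⊓ U b ⊓ U c ≤ U a ⊓ U c) (e a c) =
      res (EZ i).obj (inf_le_left : U a ⊓ U b ⊓ U c ≤ U a ⊓ U b) (e a b) +
        res (EZ i).obj
          (inf_le_inf_right (U c) inf_le_right : U a ⊓ U b ⊓ U c ≤ U b ⊓ U c) (e b c) := by
    apply app_injective f
    rw [map_add, res_app, res_app, res_app, he, he, he, map_sub, map_sub, map_sub,
      res_res, res_res, res_res, res_res, res_res, res_res]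
    abel
  have h2 := congrArg (fun s => ((uR i (U a ⊓ U b ⊓ U c) s : Γ(Z, i ⁻¹ᵁ (U a ⊓ U b ⊓ U c))ˣ) :
    Γ(Z, i ⁻¹ᵁ (U a ⊓ U b ⊓ U c)))) key
  simp only [uR_add, Units.val_mul, uR_res] at h2
  exact h2

end Coc

include hS in
/-- every global section of `Q` has a datum with some module -/
theorem exists_datum (q : Q.obj.obj (op (⊤ : X.Opens))) :
    ∃ L : Z.Modules, Nonempty (Datum i f g q L) := by
  haveI : Mono f := hS.mono_f
  haveI : Epi g := hS.epi_g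
  have hloc : ∀ x : X, ∃ (U : X.Opens) (_ : x ∈ U) (t : I.obj.obj (op U)),
      (g.hom.app (op U)).hom t = res Q.obj (le_top : U ≤ ⊤) q := by
    intro x
    obtain ⟨W, hW, hxW, t, ht⟩ := exists_local_lift g q x trivial
    exact ⟨W, hxW, t, ht⟩
  choose U hxU t ht using hloc
  have hδ : ∀ x y, ∃ e : (EZ i).obj.obj (op (U x ⊓ U y)),
      (f.hom.app (op (U x ⊓ U y))).hom e =
        res I.obj (inf_le_left : U x ⊓ U y ≤ U x) (t x) -
          res I.obj (inf_le_right : U x ⊓ U y ≤ U y) (t y) := by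
    intro x y
    apply exists_of_app_eq_zero (ShortComplex.mk f g wfg) hS
    show (g.hom.app _).hom _ = 0
    rw [map_sub, res_app, res_app, ht, ht, res_res, res_res, sub_self]
  choose e he using hδ
  have hη := cocycle_of_diff i f g wfg hS U t e he
  have hc : ∀ z : Z, z ∈ i ⁻¹ᵁ U (i z) := fun z => hxU (i z)
  refine ⟨Groth.Agent.CocycMod.L (fun x => i ⁻¹ᵁ U x) (fun x y => uR2 i (U x) (U y) (e x y))
    (fun z => i z) hc hη, ⟨?_⟩⟩
  exact
    { U := U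
      hxU := hxU
      t := t
      ht := ht
      e := e
      he := he
      sec := Groth.Agent.CocycMod.sec (fun x => i ⁻¹ᵁ U x) _ _ hc hη
      hgen := Groth.Agent.CocycMod.isGen_sec (fun x => i ⁻¹ᵁ U x) _ _ hc hη
      hsec := Groth.Agent.CocycMod.rF_sec (fun x => i ⁻¹ᵁ U x) _ _ hc hη }

include hS in
/-- two data with the same cover and the same `q` give isomorphic modules -/
theorem datum_unique_aux {q : Q.obj.obj (op (⊤ : X.Opens))} {L L' : Z.Modules}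
    (D : Datum i f g q L) (D' : Datum i f g q L') (hU : D'.U = D.U) : Nonempty (L ≅ L') := by
  haveI : Mono f := hS.mono_f
  obtain ⟨U, hxU, t, ht, e, he, sec, hgen, hsec⟩ := D
  obtain ⟨U', hxU', t', ht', e', he', sec', hgen', hsec'⟩ := D'
  simp only at hU
  subst hU
  have hw : ∀ x, ∃ w : (EZ i).obj.obj (op (U' x)),
      (f.hom.app (op (U' x))).hom w = t x - t' x := by
    intro x
    apply exists_of_app_eq_zero (ShortComplex.mk f g wfg) hS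
    show (g.hom.app _).hom _ = 0
    rw [map_sub, ht, ht', sub_self]
  choose w hw using hw
  have hew : ∀ x y, e x y - e' x y =
      res (EZ i).obj (inf_le_left : U' x ⊓ U' y ≤ U' x) (w x) -
        res (EZ i).obj (inf_le_right : U' x ⊓ U' y ≤ U' y) (w y) := by
    intro x y
    apply app_injective f
    rw [map_sub, map_sub, res_app, res_app, he, he', hw, hw, map_sub, map_sub]
    abel
  have hUtop : iSup (fun x => i ⁻¹ᵁ U' x) = ⊤ := by
    apply top_le_iff.1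
    intro z _
    exact Opens.mem_iSup.2 ⟨i z, hxU' (i z)⟩
  refine CocycIsoH9.nonempty_iso (U := fun x => i ⁻¹ᵁ U' x)
    (u := fun x => ((uR i (U' x) (w x) : Γ(Z, i ⁻¹ᵁ U' x)ˣ) : Γ(Z, i ⁻¹ᵁ U' x)))
    hUtop hgen hsec hsec' ?_ hgen' (fun x => Units.isUnit _)
  intro x y
  have h0 : e' x y + res (EZ i).obj (inf_le_left : U' x ⊓ U' y ≤ U' x) (w x) =
      res (EZ i).obj (inf_le_right : U' x ⊓ U' y ≤ U' y) (w y) + e x y := by
    have := sub_eq_sub_iff_add_eq_add.1 (hew x y)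
    rw [add_comm (e' x y), ← this, add_comm]
  have h1 := congrArg (fun s => ((uR i (U' x ⊓ U' y) s : Γ(Z, i ⁻¹ᵁ (U' x ⊓ U' y))ˣ) :
    Γ(Z, i ⁻¹ᵁ (U' x ⊓ U' y)))) h0
  simp only [uR_add, Units.val_mul, uR_res] at h1
  exact h1

include hS in
theorem datum_unique {q : Q.obj.obj (op (⊤ : X.Opens))} {L L' : Z.Modules}
    (D : Datum i f g q L) (D' : Datum i f g q L') : Nonempty (L ≅ L') :=
  datum_unique_aux i f g wfg hS
    (D.refine (fun x => D.U x ⊓ D'.U x) (fun x => ⟨D.hxU x, D'.hxU x⟩) (fun _ => inf_le_left))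
    (D'.refine (fun x => D.U x ⊓ D'.U x) (fun x => ⟨D.hxU x, D'.hxU x⟩) (fun _ => inf_le_right))
    rfl

omit wfg in
theorem datum_add_aux {q q' : Q.obj.obj (op (⊤ : X.Opens))} {L L' : Z.Modules}
    (D : Datum i f g q L) (D' : Datum i f g q' L') (hU : D'.U = D.U) :
    Nonempty (Datum i f g (q + q') (CohB1.tensorMod L L')) := by
  obtain ⟨U, hxU, t, ht, e, he, sec, hgen, hsec⟩ := D
  obtain ⟨U', hxU', t', ht', e', he', sec', hgen', hsec'⟩ := D'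
  simp only at hU
  subst hU
  exact ⟨
    { U := U'
      hxU := hxU'
      t := fun x => t x + t' x
      ht := fun x => by rw [map_add, map_add, ht, ht']
      e := fun x y => e x y + e' x y
      he := fun x y => by
        rw [map_add, map_add, map_add, he, he']
        abel
      sec := fun x => SecTwist.tmul L L' (i ⁻¹ᵁ U' x) (sec x) (sec' x)
      hgen := fun x => isGen_tmul (hgen x) (hgen' x)
      hsec := fun x y => by
        rw [rF_tmul, rF_tmul, hsec, hsec', tmul_smul_left, tmul_smul_right, uR2_add, Units.val_mul,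
          mul_smul] }⟩

omit wfg in
theorem datum_add {q q' : Q.obj.obj (op (⊤ : X.Opens))} {L L' : Z.Modules}
    (D : Datum i f g q L) (D' : Datum i f g q' L') :
    Nonempty (Datum i f g (q + q') (CohB1.tensorMod L L')) :=
  datum_add_aux i f g
    (D.refine (fun x => D.U x ⊓ D'.U x) (fun x => ⟨D.hxU x, D'.hxU x⟩) (fun _ => inf_le_left))
    (D'.refine (fun x => D.U x ⊓ D'.U x) (fun x => ⟨D.hxU x, D'.hxU x⟩) (fun _ => inf_le_right))
    rfl

omit wfg in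
/-- sections coming from `I` correspond to the trivial module -/
noncomputable def datumOfLift (T : I.obj.obj (op (⊤ : X.Opens))) :
    Datum i f g ((g.hom.app (op (⊤ : X.Opens))).hom T) (Coh.structureModule Z) where
  U := fun _ => ⊤
  hxU := fun _ => trivial
  t := fun _ => T
  ht := fun _ => (res_self Q.obj _ _).symm
  e := fun _ _ => 0
  he := fun _ _ => by
    rw [map_zero, sub_self]
  sec := fun _ => toM (1 : Γ(Z, i ⁻¹ᵁ ⊤))
  hgen := fun _ => isGen_one (i ⁻¹ᵁ ⊤)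
  hsec := fun _ _ => by
    rw [uR2_zero, Units.val_one, one_smul]

include wfg in
/-- a datum with a trivial module lifts `q` to `I` -/
theorem lift_of_datum_trivial {q : Q.obj.obj (op (⊤ : X.Opens))} {L : Z.Modules}
    (D : Datum i f g q L) (α : L ≅ Coh.structureModule Z) :
    ∃ T : I.obj.obj (op (⊤ : X.Opens)), (g.hom.app (op (⊤ : X.Opens))).hom T = q := by
  obtain ⟨U, hxU, t, ht, e, he, sec, hgen, hsecη⟩ := D
  obtain ⟨s₀, hs₀⟩ : ∃ s₀ : Γ(L, ⊤), IsGen L ⊤ s₀ :=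
    ⟨_, isGen_of_iso α.symm (isGen_one ⊤)⟩
  have hv : ∀ x, ∃ v : Γ(Z, i ⁻¹ᵁ U x), rF L (le_top : i ⁻¹ᵁ U x ≤ ⊤) s₀ = v • sec x := by
    intro x
    obtain ⟨c, hc⟩ := (hgen x (i ⁻¹ᵁ U x) le_rfl).1 (rF L (le_top : i ⁻¹ᵁ U x ≤ ⊤) s₀)
    rw [SubExt.rF_self] at hc
    exact ⟨c, hc⟩
  choose v hv using hv
  have hvu : ∀ x, IsUnit (v x) := fun x =>
    Groth.Agent.Lib.H90EtH8.isUnit_coef (hgen x) (hs₀.res le_top) (hv x)
  have hvrel : ∀ x y, rX (inf_le_left : i ⁻¹ᵁ U x ⊓ i ⁻¹ᵁ U y ≤ i ⁻¹ᵁ U x) (v x) *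
      ((uR2 i (U x) (U y) (e x y) : Γ(Z, i ⁻¹ᵁ U x ⊓ i ⁻¹ᵁ U y)ˣ) :
        Γ(Z, i ⁻¹ᵁ U x ⊓ i ⁻¹ᵁ U y)) =
      rX (inf_le_right : i ⁻¹ᵁ U x ⊓ i ⁻¹ᵁ U y ≤ i ⁻¹ᵁ U y) (v y) := by
    intro x y
    apply TensH8.IsGen.coef_ext
      ((hgen y).res (inf_le_right : i ⁻¹ᵁ U x ⊓ i ⁻¹ᵁ U y ≤ i ⁻¹ᵁ U y))
    rw [mul_smul, ← hsecη, ← rF_smul, ← rF_smul, ← hv, ← hv, rF_rF, rF_rF]
  obtain ⟨w, hw⟩ : ∃ w : ∀ x, (EZ i).obj.obj (op (U x)),
      ∀ x, w x = sR i (U x) (hvu x).unit := ⟨_, fun _ => rfl⟩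
  have hwu : ∀ x, ((uR i (U x) (w x) : Γ(Z, i ⁻¹ᵁ U x)ˣ) : Γ(Z, i ⁻¹ᵁ U x)) = v x := by
    intro x
    rw [hw, uR_sR]
    exact (hvu x).unit_spec
  have hcomp : ∀ x y, res I.obj (inf_le_left : U x ⊓ U y ≤ U x)
        (t x + (f.hom.app (op (U x))).hom (w x)) =
      res I.obj (inf_le_right : U x ⊓ U y ≤ U y)
        (t y + (f.hom.app (op (U y))).hom (w y)) := by
    intro x y
    have h0 : e x y + res (EZ i).obj (inf_le_left : U x ⊓ U y ≤ U x) (w x) =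
        res (EZ i).obj (inf_le_right : U x ⊓ U y ≤ U y) (w y) := by
      apply uR_injective
      apply Units.ext
      rw [uR_add, Units.val_mul]
      have h1 := uR_res i (inf_le_left : U x ⊓ U y ≤ U x) (w x)
      have h2 := uR_res i (inf_le_right : U x ⊓ U y ≤ U y) (w y)
      rw [hwu] at h1 h2
      rw [h1, h2, mul_comm]
      exact hvrel x y
    have h3 := congrArg (fun s => (f.hom.app (op (U x ⊓ U y))).hom s) h0
    simp only [map_add, res_app, he] at h3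
    rw [map_add, map_add, ← h3]
    abel
  have hU : (⊤ : X.Opens) ≤ iSup U := by
    intro x _
    exact Opens.mem_iSup.2 ⟨x, hxU x⟩
  obtain ⟨T, hT⟩ := glue I U ⊤ (fun _ => le_top) hU
    (fun x => t x + (f.hom.app (op (U x))).hom (w x)) hcomp
  refine ⟨T, ?_⟩
  apply ext_of_cover Q U ⊤ (fun _ => le_top) hU
  intro x
  rw [← res_app, hT, map_add, app_comp_zero (ShortComplex.mk f g wfg), add_zero, ht]

end Main

end Groth.Agent.Lib.PicRelH8
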