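import Mathlib
import Groth.Prelude.Def_Pic
import Groth.Prelude.Def_UnitsSh
import Groth.Agent.Lib.PicZ1_helper8
import Groth.Agent.Lib.CechLeray_helper2

/-!
# `Pic X ≅ H¹(X, O_X^×)` (Zariski): every invertible module has a datum (helper8)
APPEND-ONLY once landed.
-/

set_option autoImplicit false
universe u
open CategoryTheory CategoryTheory.Limits AlgebraicGeometry Opposite Abelian TopologicalSpace

namespace Groth.Agent.Lib.PicZarH8

open Groth.Agent.Lib.Cech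
open QcqsLoc QCohExtn GenLocH8 TensH8 FLFH8

variable {X : Scheme.{u}}

section Cech

variable (S : ShortComplex (CohTop.Ab X.toTopCat)) [TopCat.Sheaf.IsFlasque S.X₂]
  (U : X → X.Opens)
  (e : ∀ x y, S.X₁.obj.obj (op (U x ⊓ U y)))
  (hcoc : ∀ i j k,
    res S.X₁.obj (inf_le_inf_right (U k) inf_le_left : U i ⊓ U j ⊓ U k ≤ U i ⊓ U k) (e i k) =
      res S.X₁.obj (inf_le_left : U i ⊓ U j ⊓ U k ≤ U i ⊓ U j) (e i j) +
        res S.X₁.obj (inf_le_inf_right (U k) inf_le_right : U i ⊓ U j ⊓ U k ≤ U j ⊓ U k)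
          (e j k))

lemma hσ2 (σ : Fin 2 → X) : (⨅ k, U (σ k)) ≤ U (σ 0) ⊓ U (σ 1) :=
  le_inf (iInf_le (fun k => U (σ k)) 0) (iInf_le (fun k => U (σ k)) 1)

/-- the Čech 1-cochain of `f(e)` -/
noncomputable def aCoch : Coch S.X₂.obj U 1 :=
  fun σ => res S.X₂.obj (hσ2 U σ) ((S.f.hom.app (op (U (σ 0) ⊓ U (σ 1)))).hom (e (σ 0) (σ 1)))

include hcoc in
lemma D_aCoch : D S.X₂.obj U 1 (aCoch S U e) = 0 := by
  funext τ
  rw [D_apply, Fin.sum_univ_three]
  have h3 : (⨅ k, U (τ k)) ≤ U (τ 0) ⊓ U (τ 1) ⊓ U (τ 2) :=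
    le_inf (le_inf (iInf_le (fun k => U (τ k)) 0) (iInf_le (fun k => U (τ k)) 1))
      (iInf_le (fun k => U (τ k)) 2)
  have h01 : (⨅ k, U (τ k)) ≤ U (τ 0) ⊓ U (τ 1) := h3.trans inf_le_left
  have h02 : (⨅ k, U (τ k)) ≤ U (τ 0) ⊓ U (τ 2) := h3.trans (inf_le_inf_right _ inf_le_left)
  have h12 : (⨅ k, U (τ k)) ≤ U (τ 1) ⊓ U (τ 2) := h3.trans (inf_le_inf_right _ inf_le_right)
  have hT0 : res S.X₂.obj (face_le U τ 0) (aCoch S U e (τ ∘ Fin.succAbove 0)) =
      (S.f.hom.app (op _)).hom (res S.X₁.obj h12 (e (τ 1) (τ 2))) := by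
    show res S.X₂.obj _ (res S.X₂.obj _ ((S.f.hom.app (op _)).hom (e (τ 1) (τ 2)))) = _
    rw [res_res, res_app]
  have hT1 : res S.X₂.obj (face_le U τ 1) (aCoch S U e (τ ∘ Fin.succAbove 1)) =
      (S.f.hom.app (op _)).hom (res S.X₁.obj h02 (e (τ 0) (τ 2))) := by
    show res S.X₂.obj _ (res S.X₂.obj _ ((S.f.hom.app (op _)).hom (e (τ 0) (τ 2)))) = _
    rw [res_res, res_app]
  have hT2 : res S.X₂.obj (face_le U τ 2) (aCoch S U e (τ ∘ Fin.succAbove 2)) =
      (S.f.hom.app (op _)).hom (res S.X₁.obj h01 (e (τ 0) (τ 1))) := by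
    show res S.X₂.obj _ (res S.X₂.obj _ ((S.f.hom.app (op _)).hom (e (τ 0) (τ 1)))) = _
    rw [res_res, res_app]
  rw [hT0, hT1, hT2]
  have hc := congrArg (res S.X₁.obj h3) (hcoc (τ 0) (τ 1) (τ 2))
  rw [map_add, res_res, res_res, res_res] at hc
  simp only [Fin.val_zero, Fin.val_one, Fin.val_two, pow_zero, pow_one, one_smul, neg_smul]
  rw [show ((-1 : ℤ) ^ 2) = 1 by norm_num, one_smul, hc, map_add]
  show _ = (0 : S.X₂.obj.obj (op (⨅ k, U (τ k))))
  abel

include hcoc in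
/-- a Zariski Čech 1-cocycle becomes a coboundary in a flasque sheaf -/
theorem exists_cobound_flasque :
    ∃ b : ∀ x, S.X₂.obj.obj (op (U x)), ∀ x y,
      (S.f.hom.app (op (U x ⊓ U y))).hom (e x y) =
        res S.X₂.obj (inf_le_right : U x ⊓ U y ≤ U y) (b y) -
          res S.X₂.obj (inf_le_left : U x ⊓ U y ≤ U x) (b x) := by
  obtain ⟨β, hβ⟩ := exists_primitive (surjHyp_of_isFlasque S.X₂ U) 0 (aCoch S U e)
    (D_aCoch S U e hcoc)
  refine ⟨fun x => res S.X₂.obj (le_const U x) (β (fun _ => x)), ?_⟩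
  intro x y
  have hτ : U x ⊓ U y ≤ ⨅ k, U ((![x, y] : Fin 2 → X) k) := le_iInf fun k => by
    fin_cases k
    · exact inf_le_left
    · exact inf_le_right
  have h1 := congrArg (res S.X₂.obj hτ) (congrFun hβ ![x, y])
  rw [D_apply, Fin.sum_univ_two] at h1
  simp only [Fin.val_zero, Fin.val_one, pow_zero, pow_one, one_smul, neg_smul, map_add, map_neg,
    res_res] at h1
  have h2 : res S.X₂.obj hτ (aCoch S U e ![x, y]) =
      (S.f.hom.app (op (U x ⊓ U y))).hom (e x y) := by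
    show res S.X₂.obj _ (res S.X₂.obj _ ((S.f.hom.app (op (U x ⊓ U y))).hom (e x y))) = _
    rw [res_res, res_self]
  rw [h2] at h1
  rw [← h1, res_res, res_res, sub_eq_add_neg]
  congr 1
  · exact res_congr_idx S.X₂.obj (A := fun c : Fin 1 → X => ⨅ k, U (c k)) β
      (funext fun k => by fin_cases k; rfl) _ _
  · congr 1
    exact res_congr_idx S.X₂.obj (A := fun c : Fin 1 → X => ⨅ k, U (c k)) β
      (funext fun k => by fin_cases k; rfl) _ _

end Cech

section Surj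

variable {I Q : CohTop.Ab X.toTopCat} (f : UnitsSh.unitsAb X ⟶ I) (g : I ⟶ Q) (wfg : f ≫ g = 0)
  [TopCat.Sheaf.IsFlasque I]

include wfg in
/-- every invertible module has a datum -/
theorem exists_datum_of_invertible (L : X.Modules) (hL : PicF.IsInvertible L) :
    ∃ q : Q.obj.obj (op (⊤ : X.Opens)), Nonempty (Datum f g q L) := by
  choose W hWaff hxW s hs using exists_isGen hL
  have hc : ∀ x y, ∃ c : Γ(X, W x ⊓ W y), rF L (inf_le_left : W x ⊓ W y ≤ W x) (s x) =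
      c • rF L (inf_le_right : W x ⊓ W y ≤ W y) (s y) := by
    intro x y
    obtain ⟨c, hc⟩ := (((hs y).res (inf_le_right : W x ⊓ W y ≤ W y)) (W x ⊓ W y) le_rfl).1
      (rF L (inf_le_left : W x ⊓ W y ≤ W x) (s x))
    rw [SubExt.rF_self] at hc
    exact ⟨c, hc⟩
  choose c hc using hc
  have hcu := Groth.Agent.Lib.H90EtH8.isUnit_c W s hs c hc
  obtain ⟨e, he⟩ : ∃ e : ∀ x y, (UnitsSh.unitsAb X).obj.obj (op (W x ⊓ W y)),
      ∀ x y, e x y = sZ (W x ⊓ W y) (hcu x y).unit := ⟨_, fun _ _ => rfl⟩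
  have hue : ∀ x y, ((uZ (W x ⊓ W y) (e x y) : Γ(X, W x ⊓ W y)ˣ) : Γ(X, W x ⊓ W y)) = c x y := by
    intro x y
    rw [he, uZ_sZ]
    exact (hcu x y).unit_spec
  have hcoc : ∀ i j k,
      res (UnitsSh.unitsAb X).obj
        (inf_le_inf_right (W k) inf_le_left : W i ⊓ W j ⊓ W k ≤ W i ⊓ W k) (e i k) =
      res (UnitsSh.unitsAb X).obj (inf_le_left : W i ⊓ W j ⊓ W k ≤ W i ⊓ W j) (e i j) +
        res (UnitsSh.unitsAb X).obj
          (inf_le_inf_right (W k) inf_le_right : W i ⊓ W j ⊓ W k ≤ W j ⊓ W k) (e j k) := by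
    intro i j k
    apply uZ_injective
    apply Units.ext
    rw [uZ_add, Units.val_mul, uZ_res, uZ_res, uZ_res, hue, hue, hue]
    exact Groth.Agent.Lib.H90EtH8.c_cocycle W s hs c hc i j k
  obtain ⟨b, hb⟩ := exists_cobound_flasque (ShortComplex.mk f g wfg) W e hcoc
  have hcompat : ∀ x y, res Q.obj (inf_le_left : W x ⊓ W y ≤ W x)
        ((g.hom.app (op (W x))).hom (-b x)) =
      res Q.obj (inf_le_right : W x ⊓ W y ≤ W y) ((g.hom.app (op (W y))).hom (-b y)) := by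
    intro x y
    have h1 := congrArg (fun z => (g.hom.app (op (W x ⊓ W y))).hom z) (hb x y)
    simp only [app_comp_zero (ShortComplex.mk f g wfg), map_sub, res_app] at h1
    rw [map_neg, map_neg, map_neg, map_neg, neg_inj]
    exact (sub_eq_zero.1 h1.symm).symm
  have hU : (⊤ : X.Opens) ≤ iSup W := by
    intro x _
    exact Opens.mem_iSup.2 ⟨x, hxW x⟩
  obtain ⟨q, hq⟩ := glue Q W ⊤ (fun _ => le_top) hU
    (fun x => (g.hom.app (op (W x))).hom (-b x)) hcompat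
  refine ⟨q, ⟨?_⟩⟩
  exact
    { U := W
      hxU := hxW
      t := fun x => -b x
      ht := fun x => (hq x).symm
      e := e
      he := fun x y => by
        rw [hb, map_neg, map_neg]
        abel
      sec := s
      hgen := hs
      hsec := fun x y => by rw [hue]; exact hc x y }

end Surj

end Groth.Agent.Lib.PicZarH8
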