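import Mathlib
import Groth.Prelude.Def_Pic
import Groth.Prelude.Def_UnitsSh
import Groth.Agent.Lib.PicRel1_helper8
import Groth.Agent.Lib.PicZ2_helper8

/-!
# Relative local data: every invertible module on `Z` has a datum (helper8)
APPEND-ONLY once landed.
-/

set_option autoImplicit false
universe u
open CategoryTheory CategoryTheory.Limits AlgebraicGeometry Opposite Abelian TopologicalSpace

namespace Groth.Agent.Lib.PicRelH8

open Groth.Agent.Lib.Cech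
open QcqsLoc QCohExtn GenLocH8 TensH8 FLFH8

section Gens

variable {Z : Scheme.{u}} {ι : Type u} {L : Z.Modules} (V : ι → Z.Opens) (s : ∀ x, Γ(L, V x))
  (hs : ∀ x, IsGen L (V x) (s x))
  (c : ∀ x y, Γ(Z, V x ⊓ V y))
  (hc : ∀ x y, rF L (inf_le_left : V x ⊓ V y ≤ V x) (s x) =
    c x y • rF L (inf_le_right : V x ⊓ V y ≤ V y) (s y))

include hs hc in
lemma isUnit_c (x y : ι) : IsUnit (c x y) :=
  Groth.Agent.Lib.H90EtH8.isUnit_coef ((hs y).res inf_le_right) ((hs x).res inf_le_left) (hc x y)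

include hs hc in
lemma c_cocycle (a b d : ι) :
    rX (inf_le_inf_right (V d) inf_le_left : V a ⊓ V b ⊓ V d ≤ V a ⊓ V d) (c a d) =
      rX (inf_le_left : V a ⊓ V b ⊓ V d ≤ V a ⊓ V b) (c a b) *
        rX (inf_le_inf_right (V d) inf_le_right : V a ⊓ V b ⊓ V d ≤ V b ⊓ V d) (c b d) := by
  have hk : V a ⊓ V b ⊓ V d ≤ V d := inf_le_right
  apply TensH8.IsGen.coef_ext ((hs d).res hk)
  have h1 := congrArg (rF L (inf_le_inf_right (V d) inf_le_left : V a ⊓ V b ⊓ V d ≤ V a ⊓ V d))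
    (hc a d)
  have h2 := congrArg (rF L (inf_le_left : V a ⊓ V b ⊓ V d ≤ V a ⊓ V b)) (hc a b)
  have h3 := congrArg (rF L (inf_le_inf_right (V d) inf_le_right : V a ⊓ V b ⊓ V d ≤ V b ⊓ V d))
    (hc b d)
  rw [rF_smul, rF_rF, rF_rF] at h1 h2 h3
  rw [mul_smul, ← h3, ← h2, ← h1]

end Gens

variable {X Z : Scheme.{u}} (i : Z ⟶ X)

section Surj

variable {I Q : CohTop.Ab X.toTopCat} (f : EZ i ⟶ I) (g : I ⟶ Q) (wfg : f ≫ g = 0)
  [TopCat.Sheaf.IsFlasque I]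

include wfg in
/-- every invertible module on `Z` has a datum, if `i` is surjective and the preimages of opens
form a basis -/
theorem exists_datum_of_invertible (hsurj : Function.Surjective i.base)
    (hloc : ∀ (z : Z) (V : Z.Opens), z ∈ V → ∃ U : X.Opens, i z ∈ U ∧ i ⁻¹ᵁ U ≤ V)
    (L : Z.Modules) (hL : PicF.IsInvertible L) :
    ∃ q : Q.obj.obj (op (⊤ : X.Opens)), Nonempty (Datum i f g q L) := by
  have h0 : ∀ x : X, ∃ (W : X.Opens) (_ : x ∈ W) (s : Γ(L, i ⁻¹ᵁ W)), IsGen L (i ⁻¹ᵁ W) s := by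
    intro x
    obtain ⟨z, rfl⟩ := hsurj x
    obtain ⟨W₀, -, hzW, s₀, hs₀⟩ := exists_isGen hL z
    obtain ⟨U, hzU, hUW⟩ := hloc z W₀ hzW
    exact ⟨U, hzU, rF L hUW s₀, hs₀.res hUW⟩
  choose W hxW s hs using h0
  have hc : ∀ x y, ∃ c : Γ(Z, i ⁻¹ᵁ W x ⊓ i ⁻¹ᵁ W y),
      rF L (inf_le_left : i ⁻¹ᵁ W x ⊓ i ⁻¹ᵁ W y ≤ i ⁻¹ᵁ W x) (s x) =
      c • rF L (inf_le_right : i ⁻¹ᵁ W x ⊓ i ⁻¹ᵁ W y ≤ i ⁻¹ᵁ W y) (s y) := by
    intro x y
    obtain ⟨c, hc⟩ := (((hs y).res (inf_le_right : i ⁻¹ᵁ W x ⊓ i ⁻¹ᵁ W y ≤ i ⁻¹ᵁ W y))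
      (i ⁻¹ᵁ W x ⊓ i ⁻¹ᵁ W y) le_rfl).1
      (rF L (inf_le_left : i ⁻¹ᵁ W x ⊓ i ⁻¹ᵁ W y ≤ i ⁻¹ᵁ W x) (s x))
    rw [SubExt.rF_self] at hc
    exact ⟨c, hc⟩
  choose c hc using hc
  have hcu := isUnit_c (fun x => i ⁻¹ᵁ W x) s hs c hc
  obtain ⟨e, he⟩ : ∃ e : ∀ x y, (EZ i).obj.obj (op (W x ⊓ W y)),
      ∀ x y, e x y = sR i (W x ⊓ W y) (hcu x y).unit := ⟨_, fun _ _ => rfl⟩
  have hue : ∀ x y, ((uR2 i (W x) (W y) (e x y) : Γ(Z, i ⁻¹ᵁ W x ⊓ i ⁻¹ᵁ W y)ˣ) :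
      Γ(Z, i ⁻¹ᵁ W x ⊓ i ⁻¹ᵁ W y)) = c x y := by
    intro x y
    rw [he]
    exact (hcu x y).unit_spec
  have hcoc : ∀ a b d,
      res (EZ i).obj
        (inf_le_inf_right (W d) inf_le_left : W a ⊓ W b ⊓ W d ≤ W a ⊓ W d) (e a d) =
      res (EZ i).obj (inf_le_left : W a ⊓ W b ⊓ W d ≤ W a ⊓ W b) (e a b) +
        res (EZ i).obj
          (inf_le_inf_right (W d) inf_le_right : W a ⊓ W b ⊓ W d ≤ W b ⊓ W d) (e b d) := by
    intro a b d
    apply uR_injective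
    apply Units.ext
    rw [uR_add, Units.val_mul, uR_res, uR_res, uR_res]
    have h := c_cocycle (fun x => i ⁻¹ᵁ W x) s hs c hc a b d
    rw [← hue, ← hue, ← hue] at h
    exact h
  obtain ⟨b, hb⟩ := Groth.Agent.Lib.PicZarH8.exists_cobound_flasque
    (ShortComplex.mk f g wfg) W e hcoc
  have hcompat : ∀ x y, res Q.obj (inf_le_left : W x ⊓ W y ≤ W x)
        ((g.hom.app (op (W x))).hom (-b x)) =
      res Q.obj (inf_le_right : W x ⊓ W y ≤ W y) ((g.hom.app (op (W y))).hom (-b y)) := by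
    intro x y
    have h1 := congrArg (fun z => (g.hom.app (op (W x ⊓ W y))).hom z) (hb x y)
    simp only [app_comp_zero (ShortComplex.mk f g wfg), map_sub, res_app] at h1
    rw [map_neg, map_neg, map_neg, map_neg, neg_inj]
    exact (sub_eq_zero.1 h1.symm).symm
  have hU : (⊤ : X.Opens) ≤ iSup W := by
    intro x _
    exact Opens.mem_iSup.2 ⟨x, hxW x⟩
  obtain ⟨q, hq⟩ := glue Q W ⊤ (fun _ => le_top) hU
    (fun x => (g.hom.app (op (W x))).hom (-b x)) hcompat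
  refine ⟨q, ⟨?_⟩⟩
  exact
    { U := W
      hxU := hxW
      t := fun x => -b x
      ht := fun x => (hq x).symm
      e := e
      he := fun x y => by
        rw [hb, map_neg, map_neg]
        abel
      sec := s
      hgen := hs
      hsec := fun x y => by rw [hue]; exact hc x y }

end Surj

end Groth.Agent.Lib.PicRelH8
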