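import Mathlib
import Groth.Prelude.Def_Pic
import Groth.Prelude.Def_PicGrp
import Groth.Prelude.Def_UnitsSh
import Groth.Agent.Lib.PicZ2_helper8
import Groth.Agent.Lib.FlasqueAcyclic_helper2

/-!
# `Pic X ≅ H¹(X, O_X^×)` (Zariski) as groups (helper8)
APPEND-ONLY once landed.
-/

set_option autoImplicit false
universe u
open CategoryTheory CategoryTheory.Limits AlgebraicGeometry Opposite Abelian TopologicalSpace

namespace Groth.Agent.Lib.PicZarH8

open Groth.Agent.Lib.Cech
open QcqsLoc QCohExtn GenLocH8 TensH8 FLFH8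

section GenDelta

variable {Y : TopCat.{u}} (G : CohTop.Ab Y) (U : Opens Y)
  (e : ∀ F : CohTop.Ab Y, (G ⟶ F) ≃ F.obj.obj (op U))
  (he : ∀ {F F' : CohTop.Ab Y} (f : G ⟶ F) (φ : F ⟶ F'),
    e F' (f ≫ φ) = (φ.hom.app (op U)).hom (e F f))

include he in
lemma e_add (F : CohTop.Ab Y) (f g : G ⟶ F) : e F (f + g) = e F f + e F g := by
  have h1 : f + g = biprod.lift f g ≫ (biprod.fst + biprod.snd) := by
    rw [Preadditive.comp_add, biprod.lift_fst, biprod.lift_snd]
  rw [h1, he]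
  have h2 : ((biprod.fst + biprod.snd : F ⊞ F ⟶ F).hom.app (op U)) =
      (biprod.fst : F ⊞ F ⟶ F).hom.app (op U) + (biprod.snd : F ⊞ F ⟶ F).hom.app (op U) := rfl
  rw [h2]
  show ((biprod.fst : F ⊞ F ⟶ F).hom.app (op U)).hom _ + ((biprod.snd : F ⊞ F ⟶ F).hom.app (op U)).hom _ = _
  have e1 := he (biprod.lift f g) (biprod.fst : F ⊞ F ⟶ F)
  have e2 := he (biprod.lift f g) (biprod.snd : F ⊞ F ⟶ F)
  rw [biprod.lift_fst] at e1
  rw [biprod.lift_snd] at e2
  rw [e1, e2]

include he in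
lemma e_symm_add (F : CohTop.Ab Y) (a b : F.obj.obj (op U)) :
    (e F).symm (a + b) = (e F).symm a + (e F).symm b := by
  apply (e F).injective
  rw [e_add G U e he, Equiv.apply_symm_apply, Equiv.apply_symm_apply, Equiv.apply_symm_apply]

include he in
lemma e_symm_comp {F F' : CohTop.Ab Y} (s : F.obj.obj (op U)) (φ : F ⟶ F') :
    (e F).symm s ≫ φ = (e F').symm ((φ.hom.app (op U)).hom s) := by
  apply (e F').injective
  rw [he, Equiv.apply_symm_apply, Equiv.apply_symm_apply]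

variable {S : ShortComplex (CohTop.Ab Y)} (hS : S.ShortExact)

/-- the connecting map `S.X₃(U) → Ext¹(G, S.X₁)` -/
noncomputable def deltaG : S.X₃.obj.obj (op U) →+ Ext G S.X₁ 1 :=
  AddMonoidHom.mk' (fun q => (Ext.mk₀ ((e S.X₃).symm q)).comp hS.extClass (zero_add 1)) (by
    intro a b
    rw [e_symm_add G U e he, Ext.mk₀_add, Ext.add_comp])

lemma deltaG_apply (q : S.X₃.obj.obj (op U)) :
    deltaG G U e he hS q = (Ext.mk₀ ((e S.X₃).symm q)).comp hS.extClass (zero_add 1) := rfl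

lemma deltaG_surjective (hI : ∀ ξ : Ext G S.X₂ 1, ξ = 0) :
    Function.Surjective (deltaG G U e he hS) := by
  intro ξ
  obtain ⟨x, hx⟩ := Ext.covariant_sequence_exact₁ G hS ξ (hI _) (zero_add 1)
  obtain ⟨ψ, rfl⟩ := (Ext.mk₀_bijective _ _).2 x
  refine ⟨e S.X₃ ψ, ?_⟩
  rw [deltaG_apply, Equiv.symm_apply_apply]
  exact hx

lemma deltaG_eq_zero_iff (q : S.X₃.obj.obj (op U)) :
    deltaG G U e he hS q = 0 ↔ ∃ t : S.X₂.obj.obj (op U), (S.g.hom.app (op U)).hom t = q := by
  rw [deltaG_apply]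
  constructor
  · intro h
    obtain ⟨y, hy⟩ := Ext.covariant_sequence_exact₃ G hS _ (zero_add 1) h
    obtain ⟨ψ, rfl⟩ := (Ext.mk₀_bijective _ _).2 y
    rw [Ext.mk₀_comp_mk₀] at hy
    have h3 := (Ext.mk₀_bijective _ _).1 hy
    refine ⟨e S.X₂ ψ, ?_⟩
    have h4 := he ψ S.g
    rw [h3, Equiv.apply_symm_apply] at h4
    exact h4.symm
  · rintro ⟨t, rfl⟩
    rw [← e_symm_comp G U e he, ← Ext.mk₀_comp_mk₀, Ext.comp_assoc_of_second_deg_zero,
      hS.comp_extClass, Ext.comp_zero]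

end GenDelta

variable {X : Scheme.{u}}

section Rho

variable {I Q : CohTop.Ab X.toTopCat} (f : UnitsSh.unitsAb X ⟶ I) (g : I ⟶ Q) (wfg : f ≫ g = 0)
  (hS : (ShortComplex.mk f g wfg).ShortExact)

/-- a chosen module attached to `q` -/
noncomputable def modOf (q : Q.obj.obj (op (⊤ : X.Opens))) : X.Modules :=
  (exists_datum f g wfg hS q).choose

/-- its datum -/
noncomputable def datumOf (q : Q.obj.obj (op (⊤ : X.Opens))) :
    Datum f g q (modOf f g wfg hS q) :=
  (exists_datum f g wfg hS q).choose_spec.some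

include hS in
theorem cls_eq_of_datum {q : Q.obj.obj (op (⊤ : X.Opens))} {L L' : X.Modules}
    (D : Datum f g q L) (D' : Datum f g q L') :
    PicGrp.cls L D.isInvertible = PicGrp.cls L' D'.isInvertible :=
  (PicGrp.cls_eq_cls_iff _ _).2 (datum_unique f g wfg hS D D')

variable [PicGrp.Law X]

/-- the map `Q(X) → Pic X` -/
noncomputable def rho : Q.obj.obj (op (⊤ : X.Opens)) →+ Additive (PicLoc.PicSet X) :=
  AddMonoidHom.mk' (fun q => Additive.ofMul
      (PicGrp.cls (modOf f g wfg hS q) (datumOf f g wfg hS q).isInvertible))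
    (by
      intro a b
      obtain ⟨D''⟩ := datum_add f g (datumOf f g wfg hS a) (datumOf f g wfg hS b)
      have h1 := cls_eq_of_datum f g wfg hS (datumOf f g wfg hS (a + b)) D''
      rw [← ofMul_mul]
      congr 1
      rw [h1]
      apply Subtype.ext
      rw [PicGrp.cls_mul_cls_val]
      rfl)

theorem rho_apply (q : Q.obj.obj (op (⊤ : X.Opens))) :
    rho f g wfg hS q = Additive.ofMul
      (PicGrp.cls (modOf f g wfg hS q) (datumOf f g wfg hS q).isInvertible) := rfl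

theorem rho_surjective [TopCat.Sheaf.IsFlasque I] : Function.Surjective (rho f g wfg hS) := by
  intro c
  obtain ⟨L, hL, hc⟩ := PicGrp.exists_eq_cls (Additive.toMul c)
  obtain ⟨q, ⟨D⟩⟩ := exists_datum_of_invertible f g wfg L hL
  refine ⟨q, ?_⟩
  rw [rho_apply, cls_eq_of_datum f g wfg hS (datumOf f g wfg hS q) D]
  apply Additive.toMul.injective
  exact hc.symm

theorem rho_eq_zero_iff (q : Q.obj.obj (op (⊤ : X.Opens))) :
    rho f g wfg hS q = 0 ↔ ∃ t : I.obj.obj (op (⊤ : X.Opens)),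
      (g.hom.app (op (⊤ : X.Opens))).hom t = q := by
  rw [rho_apply]
  constructor
  · intro h
    have h1 : PicGrp.cls (modOf f g wfg hS q) (datumOf f g wfg hS q).isInvertible = 1 :=
      Additive.ofMul.injective h
    obtain ⟨α⟩ := (PicGrp.cls_eq_one_iff _).1 h1
    exact lift_of_datum_trivial f g wfg (datumOf f g wfg hS q) α
  · rintro ⟨t, rfl⟩
    rw [cls_eq_of_datum f g wfg hS (datumOf f g wfg hS _) (datumOfLift f g t)]
    exact congrArg Additive.ofMul ((PicGrp.cls_eq_one_iff _).2 ⟨Iso.refl _⟩)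

end Rho

open Groth.Agent.Lib.FlasqueAcyclic in
/-- **`Pic X ≅ H¹(X, O_X^×)`** as groups. -/
theorem nonempty_pic_addEquiv_h1_zar (X : Scheme.{u}) [PicGrp.Law X] :
    Nonempty (Additive (PicLoc.PicSet X) ≃+ CohTop.H (UnitsSh.unitsAb X) 1) := by
  let Sx : ShortComplex (CohTop.Ab X.toTopCat) :=
    ShortComplex.mk (Injective.ι (UnitsSh.unitsAb X)) (cokernel.π (Injective.ι (UnitsSh.unitsAb X)))
      (cokernel.condition _)
  have hSx : Sx.ShortExact :=
    { exact := ShortComplex.exact_cokernel (Injective.ι (UnitsSh.unitsAb X)) }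
  have hinj : Injective (Injective.under (UnitsSh.unitsAb X)) := Injective.injective_under _
  haveI : TopCat.Sheaf.IsFlasque (Injective.under (UnitsSh.unitsAb X)) :=
    @isFlasque_of_injective _ (Injective.under (UnitsSh.unitsAb X)) hinj
  haveI : TopCat.Sheaf.IsFlasque Sx.X₂ :=
    inferInstanceAs (TopCat.Sheaf.IsFlasque (Injective.under (UnitsSh.unitsAb X)))
  let ρ := rho Sx.f Sx.g Sx.zero hSx
  let δ : Sx.X₃.obj.obj (op (⊤ : X.Opens)) →+ CohTop.H (UnitsSh.unitsAb X) 1 :=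
    deltaG _ ⊤ (fun F => constEquiv F) (fun f φ => constEquiv_comp f φ) hSx
  have hρ : Function.Surjective ρ := rho_surjective Sx.f Sx.g Sx.zero hSx
  have hδ : Function.Surjective δ :=
    deltaG_surjective _ ⊤ (fun F => constEquiv F) (fun f φ => constEquiv_comp f φ) hSx
      (fun ξ => H_eq_zero_of_isFlasque Sx.X₂ 0 ξ)
  have hk : ρ.ker = δ.ker := by
    ext q
    rw [AddMonoidHom.mem_ker, AddMonoidHom.mem_ker]
    exact (rho_eq_zero_iff Sx.f Sx.g Sx.zero hSx q).trans
      (deltaG_eq_zero_iff _ ⊤ (fun F => constEquiv F) (fun f φ => constEquiv_comp f φ) hSx q).symm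
  exact ⟨(QuotientAddGroup.quotientKerEquivOfSurjective ρ hρ).symm.trans
    ((QuotientAddGroup.quotientAddEquivOfEq hk).trans
      (QuotientAddGroup.quotientKerEquivOfSurjective δ hδ))⟩

end Groth.Agent.Lib.PicZarH8
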