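import Mathlib
import Groth.Prelude.Def_Pic
import Groth.Prelude.Def_PicGrp
import Groth.Prelude.Def_UnitsSh
import Groth.Agent.Lib.PicRel2_helper8
import Groth.Agent.Lib.PicZ3_helper8

/-!
# Relative local data: `Pic Z ≅ H¹(X, i_* O_Z^×)` (helper8)
APPEND-ONLY once landed.
-/

set_option autoImplicit false
universe u v w
open CategoryTheory CategoryTheory.Limits AlgebraicGeometry Opposite Abelian TopologicalSpace

namespace Groth.Agent.Lib.PicRelH8

open Groth.Agent.Lib.Cech
open QcqsLoc QCohExtn GenLocH8 TensH8 FLFH8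

/-- two surjections with the same kernel have isomorphic targets, compatibly -/
theorem exists_addEquiv_of_surj {Q : Type u} {P : Type v} {H : Type w} [AddCommGroup Q]
    [AddCommGroup P] [AddCommGroup H] (ρ : Q →+ P) (δ : Q →+ H)
    (hρ : Function.Surjective ρ) (hδ : Function.Surjective δ) (hk : ρ.ker = δ.ker) :
    ∃ ψ : P ≃+ H, ∀ q, ψ (ρ q) = δ q := by
  refine ⟨(QuotientAddGroup.quotientKerEquivOfSurjective ρ hρ).symm.trans
    ((QuotientAddGroup.quotientAddEquivOfEq hk).trans
      (QuotientAddGroup.quotientKerEquivOfSurjective δ hδ)), ?_⟩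
  intro q
  have h1 : (QuotientAddGroup.quotientKerEquivOfSurjective ρ hρ).symm (ρ q) =
      (QuotientAddGroup.mk q : Q ⧸ ρ.ker) := by
    rw [AddEquiv.symm_apply_eq]
    rfl
  rw [AddEquiv.trans_apply, h1, AddEquiv.trans_apply]
  rfl

variable {X Z : Scheme.{u}} (i : Z ⟶ X)

section Rho

variable {I Q : CohTop.Ab X.toTopCat} (f : EZ i ⟶ I) (g : I ⟶ Q) (wfg : f ≫ g = 0)
  (hS : (ShortComplex.mk f g wfg).ShortExact)

/-- a chosen module attached to `q` -/
noncomputable def modOf (q : Q.obj.obj (op (⊤ : X.Opens))) : Z.Modules :=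
  (exists_datum i f g wfg hS q).choose

/-- its datum -/
noncomputable def datumOf (q : Q.obj.obj (op (⊤ : X.Opens))) :
    Datum i f g q (modOf i f g wfg hS q) :=
  (exists_datum i f g wfg hS q).choose_spec.some

include hS in
theorem cls_eq_of_datum {q : Q.obj.obj (op (⊤ : X.Opens))} {L L' : Z.Modules}
    (D : Datum i f g q L) (D' : Datum i f g q L') :
    PicGrp.cls L D.isInvertible = PicGrp.cls L' D'.isInvertible :=
  (PicGrp.cls_eq_cls_iff _ _).2 (datum_unique i f g wfg hS D D')

variable [PicGrp.Law Z]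

/-- the map `Q(X) → Pic Z` -/
noncomputable def rho : Q.obj.obj (op (⊤ : X.Opens)) →+ Additive (PicLoc.PicSet Z) :=
  AddMonoidHom.mk' (fun q => Additive.ofMul
      (PicGrp.cls (modOf i f g wfg hS q) (datumOf i f g wfg hS q).isInvertible))
    (by
      intro a b
      obtain ⟨D''⟩ := datum_add i f g (datumOf i f g wfg hS a) (datumOf i f g wfg hS b)
      have h1 := cls_eq_of_datum i f g wfg hS (datumOf i f g wfg hS (a + b)) D''
      rw [← ofMul_mul]
      congr 1
      rw [h1]
      apply Subtype.ext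
      rw [PicGrp.cls_mul_cls_val]
      rfl)

theorem rho_apply (q : Q.obj.obj (op (⊤ : X.Opens))) :
    rho i f g wfg hS q = Additive.ofMul
      (PicGrp.cls (modOf i f g wfg hS q) (datumOf i f g wfg hS q).isInvertible) := rfl

theorem rho_eq_of_datum {q : Q.obj.obj (op (⊤ : X.Opens))} {L : Z.Modules}
    (D : Datum i f g q L) :
    rho i f g wfg hS q = Additive.ofMul (PicGrp.cls L D.isInvertible) := by
  rw [rho_apply, cls_eq_of_datum i f g wfg hS (datumOf i f g wfg hS q) D]

theorem rho_surjective [TopCat.Sheaf.IsFlasque I] (hsurj : Function.Surjective i.base)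
    (hloc : ∀ (z : Z) (V : Z.Opens), z ∈ V → ∃ U : X.Opens, i z ∈ U ∧ i ⁻¹ᵁ U ≤ V) :
    Function.Surjective (rho i f g wfg hS) := by
  intro c
  obtain ⟨L, hL, hc⟩ := PicGrp.exists_eq_cls (Additive.toMul c)
  obtain ⟨q, ⟨D⟩⟩ := exists_datum_of_invertible i f g wfg hsurj hloc L hL
  refine ⟨q, ?_⟩
  rw [rho_eq_of_datum i f g wfg hS D]
  apply Additive.toMul.injective
  exact hc.symm

theorem rho_eq_zero_iff (q : Q.obj.obj (op (⊤ : X.Opens))) :
    rho i f g wfg hS q = 0 ↔ ∃ t : I.obj.obj (op (⊤ : X.Opens)),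
      (g.hom.app (op (⊤ : X.Opens))).hom t = q := by
  rw [rho_apply]
  constructor
  · intro h
    have h1 : PicGrp.cls (modOf i f g wfg hS q) (datumOf i f g wfg hS q).isInvertible = 1 :=
      Additive.ofMul.injective h
    obtain ⟨α⟩ := (PicGrp.cls_eq_one_iff _).1 h1
    exact lift_of_datum_trivial i f g wfg (datumOf i f g wfg hS q) α
  · rintro ⟨t, rfl⟩
    rw [cls_eq_of_datum i f g wfg hS (datumOf i f g wfg hS _) (datumOfLift i f g t)]
    exact congrArg Additive.ofMul ((PicGrp.cls_eq_one_iff _).2 ⟨Iso.refl _⟩)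

end Rho

end Groth.Agent.Lib.PicRelH8
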