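import Mathlib
import Groth.Prelude.Def_Pic
import Groth.Prelude.Def_PicGrp
import Groth.Prelude.Def_UnitsSh
import Groth.Agent.Lib.PicRel3_helper8
import Groth.Agent.Lib.Tens41_helper8

/-!
# Relative local data: compatibility with pullback of modules (helper8)
APPEND-ONLY once landed.
-/

set_option autoImplicit false
universe u
open CategoryTheory CategoryTheory.Limits AlgebraicGeometry Opposite Abelian TopologicalSpace

namespace Groth.Agent.Lib.PicRelH8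

open Groth.Agent.Lib.Cech
open QcqsLoc QCohExtn GenLocH8 TensH8 FLFH8 PBH8

lemma app_comp' {Y : TopCat.{u}} {F G H : CohTop.Ab Y} (f : F ⟶ G) (g : G ⟶ H) (V : Opens Y)
    (a : F.obj.obj (op V)) :
    ((f ≫ g).hom.app (op V)).hom a = (g.hom.app (op V)).hom ((f.hom.app (op V)).hom a) := rfl

variable {X Z : Scheme.{u}} (i : Z ⟶ X)

section Pull

variable {I Q : CohTop.Ab X.toTopCat} (f : UnitsSh.unitsAb X ⟶ I) (g : I ⟶ Q)
  {IZ QZ : CohTop.Ab X.toTopCat} (fZ : EZ i ⟶ IZ) (gZ : IZ ⟶ QZ)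
  (cI : I ⟶ IZ) (cQ : Q ⟶ QZ)
  (hfc : f ≫ cI = UnitsSh.comap i ≫ fZ) (hgc : g ≫ cQ = cI ≫ gZ)

lemma uR_comap (V : X.Opens) (s : (UnitsSh.unitsAb X).obj.obj (op V)) :
    ((uR i V (((UnitsSh.comap i).hom.app (op V)).hom s) : Γ(Z, i ⁻¹ᵁ V)ˣ) : Γ(Z, i ⁻¹ᵁ V)) =
      (i.app V).hom ((Groth.Agent.Lib.PicZarH8.uZ V s : Γ(X, V)ˣ) : Γ(X, V)) := rfl

include hfc hgc in
/-- a datum for `(q, L)` on `X` gives a datum for `(cQ q, i^* L)` -/
theorem pull_datum {q : Q.obj.obj (op (⊤ : X.Opens))} {L : X.Modules}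
    (D : Groth.Agent.Lib.PicZarH8.Datum f g q L) :
    Nonempty (Datum i fZ gZ ((cQ.hom.app (op (⊤ : X.Opens))).hom q)
      ((Scheme.Modules.pullback i).obj L)) := by
  have hL : PicF.IsInvertible L := D.isInvertible
  have hV : ∀ x : X, ∃ V : X.Opens, IsAffineOpen V ∧ x ∈ V ∧ V ≤ D.U x := by
    intro x
    obtain ⟨_, ⟨W, hW : IsAffineOpen W, rfl⟩, hxW, hle⟩ :=
      (X.isBasis_affineOpens).exists_subset_of_mem_open (D.hxU x) (D.U x).isOpen
    exact ⟨W, hW, hxW, hle⟩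
  choose V hVaff hxV hVU using hV
  obtain ⟨D', hD'⟩ : ∃ D' : Groth.Agent.Lib.PicZarH8.Datum f g q L, D'.U = V :=
    ⟨D.refine V hxV hVU, rfl⟩
  obtain ⟨U, hxU, t, ht, e, he, sec, hgen, hsec⟩ := D'
  simp only at hD'
  subst hD'
  exact ⟨
    { U := U
      hxU := hxU
      t := fun x => (cI.hom.app (op (U x))).hom (t x)
      ht := fun x => by
        have h1 := app_comp' g cQ (U x) (t x)
        rw [hgc, app_comp'] at h1
        rw [h1, ht, res_app]
      e := fun x y => ((UnitsSh.comap i).hom.app (op (U x ⊓ U y))).hom (e x y)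
      he := fun x y => by
        have h1 := app_comp' f cI (U x ⊓ U y) (e x y)
        rw [hfc, app_comp'] at h1
        rw [h1, he, map_sub, res_app, res_app]
      sec := fun x => cUV i L (le_rfl : i ⁻¹ᵁ U x ≤ i ⁻¹ᵁ U x) (sec x)
      hgen := fun x => isGen_cUV i hL (hVaff x) (hgen x)
      hsec := fun x y => by
        have h1 := congrArg (cUV i L (le_rfl : i ⁻¹ᵁ (U x ⊓ U y) ≤ i ⁻¹ᵁ (U x ⊓ U y))) (hsec x y)
        rw [cUV_smul_app, cUV_resV, cUV_resV] at h1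
        rw [rF_cUV, rF_cUV]
        exact h1 }⟩

variable (wfg : f ≫ g = 0) (hS : (ShortComplex.mk f g wfg).ShortExact)
  (wZ : fZ ≫ gZ = 0) (hSZ : (ShortComplex.mk fZ gZ wZ).ShortExact)
  [PicGrp.Law X] [PicGrp.Law Z] (hi : PicGrp.PullMul i)

include hfc hgc in
/-- the maps `Q(X) → Pic X` and `Q_Z(X) → Pic Z` are compatible with pullback -/
theorem rho_pull (q : Q.obj.obj (op (⊤ : X.Opens))) :
    rho i fZ gZ wZ hSZ ((cQ.hom.app (op (⊤ : X.Opens))).hom q) =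
      Additive.ofMul (PicGrp.pullHom i hi
        (Additive.toMul (Groth.Agent.Lib.PicZarH8.rho f g wfg hS q))) := by
  obtain ⟨D'⟩ := pull_datum i f g fZ gZ cI cQ hfc hgc
    (Groth.Agent.Lib.PicZarH8.datumOf f g wfg hS q)
  rw [rho_eq_of_datum i fZ gZ wZ hSZ D', Groth.Agent.Lib.PicZarH8.rho_apply, toMul_ofMul,
    PicGrp.pullHom_cls]

end Pull

end Groth.Agent.Lib.PicRelH8
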