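import Mathlib
import Groth.Prelude.Def_Pic
import Groth.Prelude.Def_PicGrp
import Groth.Prelude.Def_UnitsSh
import Groth.Prelude.Def_Coh
import Groth.Prelude.Def_ClSub2
import Groth.Agent.Lib.PicRel4_helper8
import Groth.Agent.Lib.UnitsSeq_helper7

/-!
# The exact sequence of units and Picard groups of a first-order thickening (helper8)
APPEND-ONLY once landed.
-/

set_option autoImplicit false
universe u
open CategoryTheory CategoryTheory.Limits AlgebraicGeometry Opposite Abelian TopologicalSpace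

namespace Groth.Agent.Lib.PicRelH8

open Groth.Agent.Lib.Cech Groth.Agent.Lib.PicZarH8
open QcqsLoc QCohExtn GenLocH8 TensH8 FLFH8 PBH8

section GenDelta

variable {Y : TopCat.{u}} (G : CohTop.Ab Y) (U : Opens Y)
  (e : ∀ F : CohTop.Ab Y, (G ⟶ F) ≃ F.obj.obj (op U))
  (he : ∀ {F F' : CohTop.Ab Y} (f : G ⟶ F) (φ : F ⟶ F'),
    e F' (f ≫ φ) = (φ.hom.app (op U)).hom (e F f))

include he in
/-- naturality of the connecting map -/
lemma deltaG_naturality {S₁ S₂ : ShortComplex (CohTop.Ab Y)} (h₁ : S₁.ShortExact)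
    (h₂ : S₂.ShortExact) (φ : S₁ ⟶ S₂) (q : S₁.X₃.obj.obj (op U)) :
    (deltaG G U e he h₁ q).comp (Ext.mk₀ φ.τ₁) (add_zero 1) =
      deltaG G U e he h₂ ((φ.τ₃.hom.app (op U)).hom q) := by
  rw [deltaG_apply, deltaG_apply, Ext.comp_assoc_of_third_deg_zero,
    ShortComplex.ShortExact.extClass_naturality h₁ h₂ φ,
    ← Ext.comp_assoc_of_second_deg_zero, Ext.mk₀_comp_mk₀, e_symm_comp G U e he]

/-- degree-zero `Ext` from `G` is sections over `U` -/
noncomputable def secEquiv (F : CohTop.Ab Y) : Ext G F 0 ≃+ F.obj.obj (op U) where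
  toFun x := e F (Ext.addEquiv₀ x)
  invFun s := Ext.addEquiv₀.symm ((e F).symm s)
  left_inv x := by
    show Ext.addEquiv₀.symm ((e F).symm (e F (Ext.addEquiv₀ x))) = x
    rw [Equiv.symm_apply_apply, AddEquiv.symm_apply_apply]
  right_inv s := by
    show e F (Ext.addEquiv₀ (Ext.addEquiv₀.symm ((e F).symm s))) = s
    rw [AddEquiv.apply_symm_apply, Equiv.apply_symm_apply]
  map_add' x y := by
    show e F (Ext.addEquiv₀ (x + y)) = e F (Ext.addEquiv₀ x) + e F (Ext.addEquiv₀ y)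
    rw [map_add, e_add G U e he]

lemma secEquiv_symm_apply (F : CohTop.Ab Y) (s : F.obj.obj (op U)) :
    (secEquiv G U e he F).symm s = Ext.mk₀ ((e F).symm s) := rfl

lemma secEquiv_mk₀ (F : CohTop.Ab Y) (ψ : G ⟶ F) :
    secEquiv G U e he F (Ext.mk₀ ψ) = e F ψ := by
  show e F (Ext.addEquiv₀ (Ext.mk₀ ψ)) = e F ψ
  congr 1
  exact Ext.addEquiv₀.apply_symm_apply ψ

lemma secEquiv_comp {F F' : CohTop.Ab Y} (x : Ext G F 0) (φ : F ⟶ F') :
    secEquiv G U e he F' (x.comp (Ext.mk₀ φ) (add_zero 0)) =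
      (φ.hom.app (op U)).hom (secEquiv G U e he F x) := by
  obtain ⟨ψ, rfl⟩ := Ext.addEquiv₀.symm.surjective x
  show secEquiv G U e he F' ((Ext.mk₀ ψ).comp (Ext.mk₀ φ) (add_zero 0)) =
    (φ.hom.app (op U)).hom (secEquiv G U e he F (Ext.mk₀ ψ))
  rw [Ext.mk₀_comp_mk₀, secEquiv_mk₀, secEquiv_mk₀, he]

lemma deltaG_secEquiv {S : ShortComplex (CohTop.Ab Y)} (hS : S.ShortExact)
    (x₃ : Ext G S.X₃ 0) :
    deltaG G U e he hS (secEquiv G U e he S.X₃ x₃) = x₃.comp hS.extClass (zero_add 1) := by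
  rw [deltaG_apply, ← secEquiv_symm_apply G U e he, AddEquiv.symm_apply_apply]

end GenDelta

section Thick

open Groth.Agent.Lib.UnitsSeqH7 Groth.Agent.Lib.FlasqueAcyclic

variable {X : Scheme.{u}} (J : X.IdealSheafData) (hJ : J * J = ⊥)

include hJ in
lemma surjective_subschemeι : Function.Surjective J.subschemeι.base := by
  intro x
  have h1 : (J * J).support = J.support ⊔ J.support := rfl
  rw [hJ, sup_idem] at h1
  have h2 : x ∈ (J.support : Set X) := by
    rw [← h1]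
    trivial
  rw [← Scheme.IdealSheafData.range_subschemeι] at h2
  exact h2

lemma loc_subschemeι (z : J.subscheme) (V : J.subscheme.Opens) (hz : z ∈ V) :
    ∃ U : X.Opens, J.subschemeι z ∈ U ∧ J.subschemeι ⁻¹ᵁ U ≤ V := by
  obtain ⟨t, ht, htV⟩ := J.subschemeι.isEmbedding.isInducing.isOpen_iff.1 V.isOpen
  refine ⟨⟨t, ht⟩, ?_, ?_⟩
  · show z ∈ J.subschemeι.base ⁻¹' t
    rw [htV]
    exact hz
  · intro w hw
    have : w ∈ J.subschemeι.base ⁻¹' t := hw
    rw [htV] at this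
    exact this

/-- the constant sheaf `ℤ` -/
noncomputable abbrev GX (X : Scheme.{u}) : CohTop.Ab X.toTopCat :=
  (constantSheaf (Opens.grothendieckTopology X.toTopCat) AddCommGrpCat.{u}).obj
    (AddCommGrpCat.of (ULift ℤ))

/-- the units sequence `0 → J → O_X^× → i_* O_Z^× → 0` -/
noncomputable abbrev S₀ : ShortComplex (CohTop.Ab X.toTopCat) :=
  ShortComplex.mk (phi J hJ) (UnitsSh.comap J.subschemeι) (phi_comap J hJ)

lemma hS₀ : (S₀ J hJ).ShortExact :=
  ShortComplex.ShortExact.mk' (exact_phi J hJ) (mono_phi J hJ) (epi_comap J hJ)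

include hJ in
/-- compatible identifications `Pic X ≅ H¹(X, O_X^×)` and `Pic Z ≅ H¹(X, i_* O_Z^×)` -/
theorem exists_psi [PicGrp.Law X] [PicGrp.Law J.subscheme]
    (hi : PicGrp.PullMul J.subschemeι) :
    ∃ (ψX : Additive (PicLoc.PicSet X) ≃+ Ext (GX X) (UnitsSh.unitsAb X) 1)
      (ψZ : Additive (PicLoc.PicSet J.subscheme) ≃+ Ext (GX X) (EZ J.subschemeι) 1),
      ∀ p : PicLoc.PicSet X, ψZ (Additive.ofMul (PicGrp.pullHom J.subschemeι hi p)) =
        (ψX (Additive.ofMul p)).comp (Ext.mk₀ (UnitsSh.comap J.subschemeι)) (add_zero 1) := by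
  -- the absolute sequence
  let Sx : ShortComplex (CohTop.Ab X.toTopCat) :=
    ShortComplex.mk (Injective.ι (UnitsSh.unitsAb X)) (cokernel.π (Injective.ι (UnitsSh.unitsAb X)))
      (cokernel.condition _)
  have hSx : Sx.ShortExact :=
    { exact := ShortComplex.exact_cokernel (Injective.ι (UnitsSh.unitsAb X)) }
  have hinj : Injective (Injective.under (UnitsSh.unitsAb X)) := Injective.injective_under _
  haveI : TopCat.Sheaf.IsFlasque (Injective.under (UnitsSh.unitsAb X)) :=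
    @isFlasque_of_injective _ (Injective.under (UnitsSh.unitsAb X)) hinj
  haveI : TopCat.Sheaf.IsFlasque Sx.X₂ :=
    inferInstanceAs (TopCat.Sheaf.IsFlasque (Injective.under (UnitsSh.unitsAb X)))
  -- the relative sequence
  let SZ : ShortComplex (CohTop.Ab X.toTopCat) :=
    ShortComplex.mk (Injective.ι (EZ J.subschemeι)) (cokernel.π (Injective.ι (EZ J.subschemeι)))
      (cokernel.condition _)
  have hSZ : SZ.ShortExact :=
    { exact := ShortComplex.exact_cokernel (Injective.ι (EZ J.subschemeι)) }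
  have hinjZ : Injective (Injective.under (EZ J.subschemeι)) := Injective.injective_under _
  haveI : TopCat.Sheaf.IsFlasque (Injective.under (EZ J.subschemeι)) :=
    @isFlasque_of_injective _ (Injective.under (EZ J.subschemeι)) hinjZ
  haveI : TopCat.Sheaf.IsFlasque SZ.X₂ :=
    inferInstanceAs (TopCat.Sheaf.IsFlasque (Injective.under (EZ J.subschemeι)))
  haveI : Injective SZ.X₂ := hinjZ
  haveI : Mono Sx.f := hSx.mono_f
  -- the morphism of sequences
  let cI : Sx.X₂ ⟶ SZ.X₂ := Injective.factorThru (UnitsSh.comap J.subschemeι ≫ SZ.f) Sx.f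
  have hfc : Sx.f ≫ cI = UnitsSh.comap J.subschemeι ≫ SZ.f := Injective.comp_factorThru _ _
  have hz : Sx.f ≫ cI ≫ SZ.g = 0 := by
    rw [← Category.assoc, hfc, Category.assoc, SZ.zero, comp_zero]
  let cQ : Sx.X₃ ⟶ SZ.X₃ := cokernel.desc Sx.f (cI ≫ SZ.g) hz
  have hgc : Sx.g ≫ cQ = cI ≫ SZ.g := cokernel.π_desc _ _ _
  let Φ : Sx ⟶ SZ :=
    { τ₁ := UnitsSh.comap J.subschemeι
      τ₂ := cI
      τ₃ := cQ
      comm₁₂ := hfc.symm
      comm₂₃ := hgc.symm }
  -- the maps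
  let ρX := Groth.Agent.Lib.PicZarH8.rho Sx.f Sx.g Sx.zero hSx
  let δX : Sx.X₃.obj.obj (op (⊤ : X.Opens)) →+ Ext (GX X) (UnitsSh.unitsAb X) 1 :=
    deltaG _ ⊤ (fun F => constEquiv F) (fun f φ => constEquiv_comp f φ) hSx
  have hρX : Function.Surjective ρX :=
    Groth.Agent.Lib.PicZarH8.rho_surjective Sx.f Sx.g Sx.zero hSx
  have hδX : Function.Surjective δX :=
    deltaG_surjective _ ⊤ (fun F => constEquiv F) (fun f φ => constEquiv_comp f φ) hSx
      (fun ξ => H_eq_zero_of_isFlasque Sx.X₂ 0 ξ)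
  have hkX : ρX.ker = δX.ker := by
    ext q
    rw [AddMonoidHom.mem_ker, AddMonoidHom.mem_ker]
    exact (Groth.Agent.Lib.PicZarH8.rho_eq_zero_iff Sx.f Sx.g Sx.zero hSx q).trans
      (deltaG_eq_zero_iff _ ⊤ (fun F => constEquiv F) (fun f φ => constEquiv_comp f φ) hSx q).symm
  obtain ⟨ψX, hψX⟩ := exists_addEquiv_of_surj ρX δX hρX hδX hkX
  let ρZ := rho J.subschemeι SZ.f SZ.g SZ.zero hSZ
  let δZ : SZ.X₃.obj.obj (op (⊤ : X.Opens)) →+ Ext (GX X) (EZ J.subschemeι) 1 :=
    deltaG _ ⊤ (fun F => constEquiv F) (fun f φ => constEquiv_comp f φ) hSZ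
  have hρZ : Function.Surjective ρZ :=
    rho_surjective J.subschemeι SZ.f SZ.g SZ.zero hSZ (surjective_subschemeι J hJ)
      (loc_subschemeι J)
  have hδZ : Function.Surjective δZ :=
    deltaG_surjective _ ⊤ (fun F => constEquiv F) (fun f φ => constEquiv_comp f φ) hSZ
      (fun ξ => H_eq_zero_of_isFlasque SZ.X₂ 0 ξ)
  have hkZ : ρZ.ker = δZ.ker := by
    ext q
    rw [AddMonoidHom.mem_ker, AddMonoidHom.mem_ker]
    exact (rho_eq_zero_iff J.subschemeι SZ.f SZ.g SZ.zero hSZ q).trans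
      (deltaG_eq_zero_iff _ ⊤ (fun F => constEquiv F) (fun f φ => constEquiv_comp f φ) hSZ q).symm
  obtain ⟨ψZ, hψZ⟩ := exists_addEquiv_of_surj ρZ δZ hρZ hδZ hkZ
  refine ⟨ψX, ψZ, ?_⟩
  intro p
  obtain ⟨q, hq⟩ := hρX (Additive.ofMul p)
  have h1 : ρZ ((cQ.hom.app (op (⊤ : X.Opens))).hom q) =
      Additive.ofMul (PicGrp.pullHom J.subschemeι hi (Additive.toMul (ρX q))) :=
    rho_pull J.subschemeι Sx.f Sx.g SZ.f SZ.g cI cQ hfc hgc Sx.zero hSx SZ.zero hSZ hi q
  rw [hq, toMul_ofMul] at h1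
  rw [← h1, hψZ, ← hq, hψX]
  exact (deltaG_naturality _ ⊤ (fun F => constEquiv F) (fun f φ => constEquiv_comp f φ)
    hSx hSZ Φ q).symm

lemma comap_sZ (u : (Γ(X, ⊤))ˣ) :
    ((UnitsSh.comap J.subschemeι).hom.app (op (⊤ : X.Opens))).hom (sZ ⊤ u) =
      sR J.subschemeι ⊤ (Units.map J.subschemeι.appTop.hom.toMonoidHom u) := rfl

include hJ in
/-- **The exact sequence of a first-order thickening**:
`0 → H⁰(J) → Γ(O_X)^× → Γ(O_Z)^× → H¹(J) → Pic X → Pic Z → H²(J)`. -/
theorem thick_seq [PicGrp.Law X] [PicGrp.Law J.subscheme]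
    (hi : PicGrp.PullMul J.subschemeι) :
    ∃ (ε : Multiplicative (Coh.HH X (ClSub.idealMod J) 0) →* (Γ(X, ⊤))ˣ)
      (δ₀ : (Γ(J.subscheme, ⊤))ˣ →* Multiplicative (Coh.HH X (ClSub.idealMod J) 1))
      (α : Multiplicative (Coh.HH X (ClSub.idealMod J) 1) →* PicLoc.PicSet X)
      (δ₁ : PicLoc.PicSet J.subscheme →* Multiplicative (Coh.HH X (ClSub.idealMod J) 2)),
      Function.Injective ε ∧
      (Units.map J.subschemeι.appTop.hom.toMonoidHom).ker = ε.range ∧
      δ₀.ker = (Units.map J.subschemeι.appTop.hom.toMonoidHom).range ∧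
      α.ker = δ₀.range ∧
      (PicGrp.pullHom J.subschemeι hi).ker = α.range ∧
      δ₁.ker = (PicGrp.pullHom J.subschemeι hi).range := by
  obtain ⟨ψX, ψZ, hsq⟩ := exists_psi J hJ hi
  have hS := hS₀ J hJ
  haveI : Mono (phi J hJ) := mono_phi J hJ
  let sE := secEquiv (GX X) (⊤ : X.Opens) (fun F => constEquiv F)
    (fun f φ => constEquiv_comp f φ)
  let dG : (EZ J.subschemeι).obj.obj (op (⊤ : X.Opens)) →+
      Ext (GX X) (Coh.toAb (ClSub.idealMod J)) 1 :=
    deltaG (GX X) (⊤ : X.Opens) (fun F => constEquiv F) (fun f φ => constEquiv_comp f φ) hS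
  let ε : Multiplicative (Coh.HH X (ClSub.idealMod J) 0) →* (Γ(X, ⊤))ˣ :=
    { toFun := fun x => uZ ⊤ (((phi J hJ).hom.app (op (⊤ : X.Opens))).hom
        (sE (Coh.toAb (ClSub.idealMod J)) (Multiplicative.toAdd x)))
      map_one' := by rw [toAdd_one, map_zero, map_zero, uZ_zero]
      map_mul' := fun x y => by rw [toAdd_mul, map_add, map_add, uZ_add] }
  let δ₀ : (Γ(J.subscheme, ⊤))ˣ →* Multiplicative (Coh.HH X (ClSub.idealMod J) 1) :=
    { toFun := fun u => Multiplicative.ofAdd (dG (sR J.subschemeι ⊤ u))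
      map_one' := by
        have : sR J.subschemeι ⊤ (1 : (Γ(J.subscheme, ⊤))ˣ) = 0 := rfl
        rw [this, map_zero, ofAdd_zero]
      map_mul' := fun u v => by
        have : sR J.subschemeι ⊤ (u * v) = sR J.subschemeι ⊤ u + sR J.subschemeι ⊤ v := rfl
        rw [this, map_add, ofAdd_add] }
  let α : Multiplicative (Coh.HH X (ClSub.idealMod J) 1) →* PicLoc.PicSet X :=
    { toFun := fun x => Additive.toMul (ψX.symm
        ((Multiplicative.toAdd x).comp (Ext.mk₀ (phi J hJ)) (add_zero 1)))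
      map_one' := by rw [toAdd_one, Ext.zero_comp, map_zero, toMul_zero]
      map_mul' := fun x y => by rw [toAdd_mul, Ext.add_comp, map_add, toMul_add] }
  let δ₁ : PicLoc.PicSet J.subscheme →* Multiplicative (Coh.HH X (ClSub.idealMod J) 2) :=
    { toFun := fun p => Multiplicative.ofAdd
        ((ψZ (Additive.ofMul p)).comp hS.extClass (rfl : 1 + 1 = 2))
      map_one' := by rw [ofMul_one, map_zero, Ext.zero_comp, ofAdd_zero]
      map_mul' := fun p p' => by rw [ofMul_mul, map_add, Ext.add_comp, ofAdd_add] }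
  refine ⟨ε, δ₀, α, δ₁, ?_, ?_, ?_, ?_, ?_, ?_⟩
  · intro x y h
    have h1 : uZ ⊤ (((phi J hJ).hom.app (op (⊤ : X.Opens))).hom
        (sE (Coh.toAb (ClSub.idealMod J)) (Multiplicative.toAdd x))) =
        uZ ⊤ (((phi J hJ).hom.app (op (⊤ : X.Opens))).hom
        (sE (Coh.toAb (ClSub.idealMod J)) (Multiplicative.toAdd y))) := h
    have h2 := app_injective (phi J hJ) ⊤ (uZ_injective ⊤ h1)
    exact Multiplicative.toAdd.injective ((sE _).injective h2)
  · ext u
    rw [MonoidHom.mem_ker, MonoidHom.mem_range]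
    constructor
    · intro h
      have h' : ((UnitsSh.comap J.subschemeι).hom.app (op (⊤ : X.Opens))).hom (sZ ⊤ u) = 0 := by
        rw [comap_sZ, h]
        rfl
      obtain ⟨a, ha⟩ := exists_of_app_eq_zero (S₀ J hJ) hS ⊤ (sZ ⊤ u) h'
      refine ⟨Multiplicative.ofAdd ((sE _).symm a), ?_⟩
      show uZ ⊤ (((phi J hJ).hom.app (op (⊤ : X.Opens))).hom
        (sE (Coh.toAb (ClSub.idealMod J))
          (Multiplicative.toAdd (Multiplicative.ofAdd ((sE _).symm a))))) = u
      rw [toAdd_ofAdd, AddEquiv.apply_symm_apply]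
      have ha' : ((phi J hJ).hom.app (op (⊤ : X.Opens))).hom a = sZ ⊤ u := ha
      rw [ha', uZ_sZ]
    · rintro ⟨x, rfl⟩
      have h0 := app_comp_zero (S₀ J hJ) ⊤
        (sE (Coh.toAb (ClSub.idealMod J)) (Multiplicative.toAdd x))
      have h1 := congrArg (uR J.subschemeι ⊤) h0
      exact h1
  · ext u
    rw [MonoidHom.mem_ker, MonoidHom.mem_range]
    have key : δ₀ u = 1 ↔ dG (sR J.subschemeι ⊤ u) = 0 := by
      show Multiplicative.ofAdd _ = 1 ↔ _
      rw [ofAdd_eq_one]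
    rw [key, deltaG_eq_zero_iff]
    constructor
    · rintro ⟨t, ht⟩
      refine ⟨uZ ⊤ t, ?_⟩
      have := congrArg (uR J.subschemeι ⊤) ht
      exact this
    · rintro ⟨w, rfl⟩
      exact ⟨sZ ⊤ w, comap_sZ J w⟩
  · ext x
    rw [MonoidHom.mem_ker, MonoidHom.mem_range]
    have key : α x = 1 ↔
        (Multiplicative.toAdd x).comp (Ext.mk₀ (phi J hJ)) (add_zero 1) = 0 := by
      show Additive.toMul (ψX.symm _) = 1 ↔ _
      rw [toMul_eq_one, AddEquiv.map_eq_zero_iff]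
    rw [key]
    constructor
    · intro h
      obtain ⟨x₃, hx₃⟩ := Ext.covariant_sequence_exact₁ (GX X) hS (Multiplicative.toAdd x) h
        (zero_add 1)
      refine ⟨uR J.subschemeι ⊤ (sE (EZ J.subschemeι) x₃), ?_⟩
      show Multiplicative.ofAdd (dG (sR J.subschemeι ⊤
        (uR J.subschemeι ⊤ (sE (EZ J.subschemeι) x₃)))) = x
      rw [sR_uR]
      have h2 : dG (sE (EZ J.subschemeι) x₃) = x₃.comp hS.extClass (zero_add 1) :=
        deltaG_secEquiv (GX X) (⊤ : X.Opens) (fun F => constEquiv F)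
          (fun f φ => constEquiv_comp f φ) hS x₃
      rw [h2, hx₃]
      rfl
    · rintro ⟨u, rfl⟩
      show (dG (sR J.subschemeι ⊤ u)).comp (Ext.mk₀ (phi J hJ)) (add_zero 1) = 0
      rw [deltaG_apply, Ext.comp_assoc_of_third_deg_zero]
      have h3 : hS.extClass.comp (Ext.mk₀ (phi J hJ)) (add_zero 1) = 0 := hS.extClass_comp
      rw [h3, Ext.comp_zero]
  · ext p
    rw [MonoidHom.mem_ker, MonoidHom.mem_range]
    constructor
    · intro h
      have h1 := hsq p
      rw [h, ofMul_one, map_zero] at h1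
      obtain ⟨x₁, hx₁⟩ := Ext.covariant_sequence_exact₂ (GX X) hS (ψX (Additive.ofMul p))
        h1.symm
      refine ⟨Multiplicative.ofAdd x₁, ?_⟩
      show Additive.toMul (ψX.symm ((Multiplicative.toAdd (Multiplicative.ofAdd x₁)).comp
        (Ext.mk₀ (phi J hJ)) (add_zero 1))) = p
      have hx₁' : x₁.comp (Ext.mk₀ (phi J hJ)) (add_zero 1) = ψX (Additive.ofMul p) := hx₁
      rw [toAdd_ofAdd, hx₁', AddEquiv.symm_apply_apply, toMul_ofMul]
    · rintro ⟨x, rfl⟩
      have h1 := hsq (α x)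
      have h2 : ψX (Additive.ofMul (α x)) =
          (Multiplicative.toAdd x).comp (Ext.mk₀ (phi J hJ)) (add_zero 1) := by
        show ψX (Additive.ofMul (Additive.toMul (ψX.symm _))) = _
        rw [ofMul_toMul, AddEquiv.apply_symm_apply]
      have h3 : phi J hJ ≫ UnitsSh.comap J.subschemeι = 0 := phi_comap J hJ
      rw [h2, Ext.comp_assoc_of_third_deg_zero, Ext.mk₀_comp_mk₀, h3, Ext.mk₀_zero,
        Ext.comp_zero] at h1
      have h4 := (AddEquiv.map_eq_zero_iff ψZ).1 h1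
      exact ofMul_eq_zero.1 h4
  · ext p
    rw [MonoidHom.mem_ker, MonoidHom.mem_range]
    have key : δ₁ p = 1 ↔
        (ψZ (Additive.ofMul p)).comp hS.extClass (rfl : 1 + 1 = 2) = 0 := by
      show Multiplicative.ofAdd _ = 1 ↔ _
      rw [ofAdd_eq_one]
    rw [key]
    constructor
    · intro h
      obtain ⟨x₂, hx₂⟩ := Ext.covariant_sequence_exact₃ (GX X) hS (ψZ (Additive.ofMul p)) rfl h
      refine ⟨Additive.toMul (ψX.symm x₂), ?_⟩
      have h1 := hsq (Additive.toMul (ψX.symm x₂))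
      have hx₂' : x₂.comp (Ext.mk₀ (UnitsSh.comap J.subschemeι)) (add_zero 1) =
          ψZ (Additive.ofMul p) := hx₂
      rw [ofMul_toMul, AddEquiv.apply_symm_apply, hx₂'] at h1
      exact Additive.ofMul.injective (ψZ.injective h1)
    · rintro ⟨p', rfl⟩
      rw [hsq, Ext.comp_assoc_of_second_deg_zero]
      have h3 : (Ext.mk₀ (UnitsSh.comap J.subschemeι)).comp hS.extClass (zero_add 1) = 0 :=
        hS.comp_extClass
      rw [h3, Ext.comp_zero]

end Thick

end Groth.Agent.Lib.PicRelH8
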