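import Mathlib
import Groth.Prelude
import Groth.Agent.Lib.Exist7_helper2
import Groth.Agent.Lib.FormalQuot2_helper2
import Groth.Agent.Lib.SubExt4_helper9
import Groth.Agent.Lib.Tens14_helper8
import Groth.Agent.Lib.CohDev8_helper8

/-!
# Coherent formal modules on an open of `Spec A`: extension vs. completion (helper2)

* `isCohFormal_completion` : the completion of a coherent module is a coherent formal module.
* `nonempty_completion_iso_of_iso`, `nonempty_completion_pullback_iso`,
  `nonempty_completion_restrict_iso` : completion commutes with isomorphisms, pullback along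
  morphisms over `Spec A`, and restriction to opens of `Spec A`.
* `main9535` (S9535), `main9536` (S9536).
APPEND-ONLY once landed.
-/

set_option autoImplicit false
universe u
open CategoryTheory CategoryTheory.Limits AlgebraicGeometry TopologicalSpace Opposite

namespace Groth.Agent.Lib.AlgzExtH2

open Formal Groth.Agent.Lib.FormalModPowH4 Groth.Agent.Lib.FormalFnH2 Groth.Agent.Lib.FibAmpH2
  Groth.Agent.Lib.FormalQuotH2

section Gen

variable {A : Type u} [CommRing A] {X : Scheme.{u}} [X.Over (Spec (CommRingCat.of A))]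
  (I : Ideal A)

theorem completion_map_succ (M : X.Modules) (n : ℕ) :
    (Formal.completion I M).map (homOfLE (Nat.le_succ n)).op = Formal.modPowTrans I (n + 1) M := by
  unfold Formal.completion
  exact Functor.ofOpSequence_map_homOfLE_succ _ n

theorem isQuot_modPowTrans (M : X.Modules) (n : ℕ) :
    IsQuot (I ^ (n + 1)) (Formal.modPowTrans I (n + 1) M) := by
  refine IsQuot.of_comp (isQuot_modPowπ I (n + 1 + 1) M) ?_
  rw [Formal.modPowπ_trans]
  exact isQuot_modPowπ I (n + 1) M

theorem isCohFormal_completion [IsLocallyNoetherian X] (M : X.Modules) (hM : Coh.IsCoh M) :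
    Formal.IsCohFormal I (Formal.completion I M) := by
  refine ⟨fun n => isCoh_modPow I hM (n + 1),
    fun n a ha => smulMod_modPow_eq_zero M I (n + 1) ha, fun n => ?_⟩
  rw [completion_map_succ]
  exact (isQuot_modPowTrans I M n).cond

theorem nonempty_completion_iso_of_iso {M M' : X.Modules} (e : M ≅ M') :
    Nonempty (Formal.completion I M ≅ Formal.completion I M') := by
  refine nonempty_completion_iso_of_isQuot I M (Formal.completion I M')
    (fun n => e.hom ≫ Formal.modPowπ I (n + 1) M')
    (fun n => IsQuot.iso_comp e.hom (isQuot_modPowπ I (n + 1) M')) (fun n => ?_)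
  show (e.hom ≫ Formal.modPowπ I (n + 1 + 1) M') ≫
    (Formal.completion I M').map (homOfLE (Nat.le_succ n)).op = _
  rw [completion_map_succ]
  exact (Category.assoc _ _ _).trans
    (congrArg (fun t => e.hom ≫ t) (Formal.modPowπ_trans I (n + 1) M'))

end Gen

section Pull

variable {A : Type u} [CommRing A] {X Z : Scheme.{u}} [X.Over (Spec (CommRingCat.of A))]
  [Z.Over (Spec (CommRingCat.of A))] (I : Ideal A) (f : Z ⟶ X)
  (hf : f ≫ (X ↘ Spec (CommRingCat.of A)) = (Z ↘ Spec (CommRingCat.of A)))

include hf in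
theorem nonempty_completion_pullback_iso (M : X.Modules) :
    Nonempty (Formal.completion I ((Scheme.Modules.pullback f).obj M) ≅
      Formal.completion I M ⋙ Scheme.Modules.pullback f) := by
  refine nonempty_completion_iso_of_isQuot I _ (Formal.completion I M ⋙ Scheme.Modules.pullback f)
    (fun n => (Scheme.Modules.pullback f).map (Formal.modPowπ I (n + 1) M))
    (fun n => (isQuot_modPowπ I (n + 1) M).pullback f hf) (fun n => ?_)
  show (Scheme.Modules.pullback f).map (Formal.modPowπ I (n + 1 + 1) M) ≫
    (Scheme.Modules.pullback f).map ((Formal.completion I M).map (homOfLE (Nat.le_succ n)).op) = _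
  rw [completion_map_succ]
  exact ((Scheme.Modules.pullback f).map_comp _ _).symm.trans
    (congrArg (Scheme.Modules.pullback f).map (Formal.modPowπ_trans I (n + 1) M))

end Pull

section Open

variable (A : Type u) [CommRing A] (I : Ideal A) (U : (Spec (CommRingCat.of A)).Opens)

/-- `Spec A` over itself through the identity (the instance used by the frozen statements) -/
noncomputable local instance (priority := 10000) selfOver :
    (Spec (CommRingCat.of A)).Over (Spec (CommRingCat.of A)) := ⟨𝟙 _⟩

theorem nonempty_completion_restrict_iso (M : (Spec (CommRingCat.of A)).Modules) :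
    Nonempty (Formal.completion I (M.restrict U.ι) ≅
      Algz.restrictSys U (Formal.completion I M)) := by
  obtain ⟨d1⟩ := nonempty_completion_iso_of_iso I
    ((Scheme.Modules.restrictFunctorIsoPullback U.ι).app M)
  obtain ⟨d2⟩ := nonempty_completion_pullback_iso I U.ι (Category.comp_id _) M
  exact ⟨d1 ≪≫ d2 ≪≫
    (Functor.isoWhiskerLeft (Formal.completion I M) (Scheme.Modules.restrictFunctorIsoPullback U.ι)).symm⟩

end Open

section Main

noncomputable local instance (priority := 10000) selfOver' (A : Type u) [CommRing A] :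
    (Spec (CommRingCat.of A)).Over (Spec (CommRingCat.of A)) := ⟨𝟙 _⟩

/-- **S9535** -/
theorem main9535 (A : Type u) [CommRing A] [IsNoetherianRing A] (I : Ideal A)
    [IsAdicComplete I A] (U : (Spec (CommRingCat.of A)).Opens)
    (G : ℕᵒᵖ ⥤ (↑U : Scheme.{u}).Modules)
    (h : @Algz.Extends A _ (Spec (CommRingCat.of A)) ⟨𝟙 (Spec (CommRingCat.of A))⟩ I U G) :
    ∃ F : (↑U : Scheme.{u}).Modules, Coh.IsCoh F ∧ Nonempty (Formal.completion I F ≅ G) := by
  obtain ⟨G', hG', ⟨e⟩⟩ := h
  have hL : CohB1.IsAmple (Coh.structureModule (Spec (CommRingCat.of A))) :=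
    TensH8.isAmple_structureModule_iff.mpr inferInstance
  haveI : IsProper ((Spec (CommRingCat.of A)) ↘ Spec (CommRingCat.of A)) := by
    show IsProper (𝟙 _)
    infer_instance
  obtain ⟨M, hM, ⟨c⟩⟩ := exists_algebraization A I (Spec (CommRingCat.of A)) _ hL G' hG'
  obtain ⟨d⟩ := nonempty_completion_restrict_iso A I U M
  refine ⟨M.restrict U.ι, ?_, ⟨d ≪≫ Functor.isoWhiskerRight c (Scheme.Modules.restrictFunctor U.ι) ≪≫ e⟩⟩
  exact CohDevH8.isCoh_of_iso ((Scheme.Modules.restrictFunctorIsoPullback U.ι).app M)
    (Groth.Agent.Lib.ConsModH2.isCoh_pullback U.ι M hM)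

/-- **S9536** -/
theorem main9536 (A : Type u) [CommRing A] [IsNoetherianRing A] (I : Ideal A)
    (U : (Spec (CommRingCat.of A)).Opens) (G : ℕᵒᵖ ⥤ (↑U : Scheme.{u}).Modules)
    (F : (↑U : Scheme.{u}).Modules) (hF : Coh.IsCoh F) (e : Formal.completion I F ≅ G) :
    @Algz.Extends A _ (Spec (CommRingCat.of A)) ⟨𝟙 (Spec (CommRingCat.of A))⟩ I U G := by
  haveI := hF.1
  have hX : ∀ x : (Spec (CommRingCat.of A)), ∃ V : (Spec (CommRingCat.of A)).Opens,
      x ∈ V ∧ NoetherianSpace (V : Set (Spec (CommRingCat.of A))) := by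
    intro x
    haveI : NoetherianSpace (Spec (CommRingCat.of A)) :=
      inferInstanceAs (NoetherianSpace (PrimeSpectrum A))
    exact ⟨⊤, trivial, NoetherianSpace.set _⟩
  obtain ⟨F', hF'q, hF'ft, ⟨r⟩⟩ := SubExt.extend_ft_module_locNoeth hX U F hF.2
  have hF' : Coh.IsCoh F' := ⟨hF'q, hF'ft⟩
  obtain ⟨d⟩ := nonempty_completion_restrict_iso A I U F'
  obtain ⟨d'⟩ := nonempty_completion_iso_of_iso I r
  exact ⟨Formal.completion I F', isCohFormal_completion I F' hF', ⟨d.symm ≪≫ d' ≪≫ e⟩⟩

end Main

end Groth.Agent.Lib.AlgzExtH2
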