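import Groth.Agent.Lib.LimHomGlue_helper2
import Groth.Agent.Lib.PB10_helper8
import Groth.Agent.Lib.SubExt_helper9
import Groth.Agent.Lib.RefHull8_helper8

/-!
# Calculus of sections of the sheaf Hom as families of stalk maps (helper2)

Sections of `RefHull.homSh A B` over an open `U` are admissible families of stalk maps; they play
the role of morphisms `A|_U ⟶ B|_U`.  Identity, composition, inverse, gluing, and the passage to
global morphisms.
APPEND-ONLY once landed.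
-/

set_option autoImplicit false
set_option maxHeartbeats 1000000
set_option linter.style.haveILetI false
set_option linter.unusedSectionVars false
set_option linter.unusedVariables false
universe u

open CategoryTheory CategoryTheory.Limits AlgebraicGeometry TopologicalSpace Opposite
open HomLinH8 RefHullH8 QcqsLoc SecOrdH8 QCohExtn

namespace Groth.Agent.Lib.StalkFam

variable {X : Scheme.{u}}

section Basic

variable {A B C : X.Modules}

/-- The identity family. -/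
noncomputable def idSec (A : X.Modules) (U : X.Opens) : Γ(RefHull.homSh A A, U) :=
  ⟨fun _ => LinearMap.id, fun V _ m x => ⟨V, x.2, 𝟙 V, m, fun _ => rfl⟩⟩

theorem idSec_apply (A : X.Modules) (U : X.Opens) (y : U) : (idSec A U).1 y = LinearMap.id := rfl

/-- Composition of families of stalk maps. -/
noncomputable def compSec {U : X.Opens} (l : Γ(RefHull.homSh A B, U))
    (l' : Γ(RefHull.homSh B C, U)) : Γ(RefHull.homSh A C, U) :=
  ⟨fun y => (l'.1 y).comp (l.1 y), fun V i m x => by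
    obtain ⟨W, hxW, j, n, hn⟩ := RefHull.isLocSect_of_mem l V i m x
    obtain ⟨W', hxW', j', p, hp⟩ := RefHull.isLocSect_of_mem l' W (j ≫ i) n ⟨x.1, hxW⟩
    refine ⟨W', hxW', j' ≫ j, p, fun y => ?_⟩
    have e1 := hn ⟨y.1, j'.le y.2⟩
    have e2 := hp y
    rw [LinearMap.comp_apply]
    exact (congrArg (l'.1 ⟨y.1, i.le (j.le (j'.le y.2))⟩) e1).trans e2⟩

theorem compSec_apply {U : X.Opens} (l : Γ(RefHull.homSh A B, U))
    (l' : Γ(RefHull.homSh B C, U)) (y : U) : (compSec l l').1 y = (l'.1 y).comp (l.1 y) := rfl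

/-- Restriction of a family to a smaller open. -/
noncomputable abbrev resSec {U U' : X.Opens} (h : U' ≤ U) (l : Γ(RefHull.homSh A B, U)) :
    Γ(RefHull.homSh A B, U') := rF (RefHull.homSh A B) h l

theorem resSec_apply {U U' : X.Opens} (h : U' ≤ U) (l : Γ(RefHull.homSh A B, U)) (y : U') :
    (resSec h l).1 y = l.1 ⟨y.1, h y.2⟩ := rfl

/-- The inverse of a family of bijective stalk maps. -/
noncomputable def invSec {U : X.Opens} (l : Γ(RefHull.homSh A B, U))
    (h : ∀ y, Function.Bijective (l.1 y)) : Γ(RefHull.homSh B A, U) :=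
  ⟨fun y => ((LinearEquiv.ofBijective (l.1 y) (h y)).symm :
      B.presheaf.stalk y.1 →ₗ[X.presheaf.stalk y.1] A.presheaf.stalk y.1), fun V i n x => by
    obtain ⟨V₁, hx₁, m, hm⟩ := TopCat.Presheaf.exists_germ_eq (F := A.presheaf)
      ((LinearEquiv.ofBijective (l.1 ⟨x.1, i.le x.2⟩) (h _)).symm (B.presheaf.germ V x.1 x.2 n))
    have hV₂V : V₁ ⊓ V ≤ V := inf_le_right
    obtain ⟨W, hxW, j, n', hn'⟩ := RefHull.isLocSect_of_mem l (V₁ ⊓ V) (homOfLE hV₂V ≫ i)
      (rF A inf_le_left m) ⟨x.1, ⟨hx₁, x.2⟩⟩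
    have hWV : W ≤ V := j.le.trans hV₂V
    have hWV₁ : W ≤ V₁ := j.le.trans inf_le_left
    have hx' := hn' ⟨x.1, hxW⟩
    have e1 : B.presheaf.germ W x.1 hxW n' = B.presheaf.germ W x.1 hxW (rF B hWV n) := by
      rw [germ_rF]
      have e0 : A.presheaf.germ (V₁ ⊓ V) x.1 (j.le hxW) (rF A inf_le_left m) =
          A.presheaf.germ V₁ x.1 hx₁ m := germ_rF A inf_le_left x.1 _ m
      rw [← hx']
      refine (congrArg (l.1 ⟨x.1, i.le x.2⟩) (e0.trans hm)).trans ?_
      exact (LinearEquiv.ofBijective (l.1 ⟨x.1, i.le x.2⟩) (h _)).apply_symm_apply _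
    obtain ⟨W', hW'W, hxW', e2⟩ := (germ_eq_iff B x.1 hxW _ _).mp e1
    refine ⟨W', hxW', homOfLE (hW'W.trans hWV), rF A (hW'W.trans hWV₁) m, fun y => ?_⟩
    have hy := hn' ⟨y.1, hW'W y.2⟩
    have e3 : B.presheaf.germ W y.1 (hW'W y.2) n' = B.presheaf.germ V y.1 (hWV (hW'W y.2)) n := by
      rw [← germ_rF B hW'W y.1 y.2 n', e2, germ_rF, germ_rF]
    have e4 : A.presheaf.germ (V₁ ⊓ V) y.1 (j.le (hW'W y.2)) (rF A inf_le_left m) =
        A.presheaf.germ W' y.1 y.2 (rF A (hW'W.trans hWV₁) m) := by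
      rw [germ_rF, germ_rF]
    change (LinearEquiv.ofBijective (l.1 ⟨y.1, _⟩) (h _)).symm (B.presheaf.germ V y.1 _ n) = _
    rw [LinearEquiv.symm_apply_eq, ← e4]
    exact (e3.symm.trans hy.symm)⟩

theorem invSec_apply_apply {U : X.Opens} (l : Γ(RefHull.homSh A B, U))
    (h : ∀ y, Function.Bijective (l.1 y)) (y : U) (a : A.presheaf.stalk y.1) :
    (invSec l h).1 y (l.1 y a) = a :=
  (LinearEquiv.ofBijective (l.1 y) (h y)).symm_apply_apply a

theorem apply_invSec_apply {U : X.Opens} (l : Γ(RefHull.homSh A B, U))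
    (h : ∀ y, Function.Bijective (l.1 y)) (y : U) (b : B.presheaf.stalk y.1) :
    l.1 y ((invSec l h).1 y b) = b :=
  (LinearEquiv.ofBijective (l.1 y) (h y)).apply_symm_apply b

theorem invSec_bijective {U : X.Opens} (l : Γ(RefHull.homSh A B, U))
    (h : ∀ y, Function.Bijective (l.1 y)) (y : U) : Function.Bijective ((invSec l h).1 y) :=
  (LinearEquiv.ofBijective (l.1 y) (h y)).symm.bijective

theorem compSec_bijective {U : X.Opens} (l : Γ(RefHull.homSh A B, U))
    (l' : Γ(RefHull.homSh B C, U)) (h : ∀ y, Function.Bijective (l.1 y))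
    (h' : ∀ y, Function.Bijective (l'.1 y)) (y : U) :
    Function.Bijective ((compSec l l').1 y) := (h' y).comp (h y)

/-- **Gluing** of families of stalk maps. -/
theorem exists_glueSec {ι : Type*} (V : ι → X.Opens) (l : ∀ i, Γ(RefHull.homSh A B, V i))
    (hl : ∀ i j (x : X) (hi : x ∈ V i) (hj : x ∈ V j), (l i).1 ⟨x, hi⟩ = (l j).1 ⟨x, hj⟩)
    (U : X.Opens) (hU : ∀ x ∈ U, ∃ i, x ∈ V i) :
    ∃ L : Γ(RefHull.homSh A B, U), ∀ i (y : X) (hy : y ∈ U) (hi : y ∈ V i),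
      L.1 ⟨y, hy⟩ = (l i).1 ⟨y, hi⟩ := by
  classical
  choose ix hix using hU
  obtain ⟨f, hf⟩ : ∃ f : ∀ x : U, RefHull.StalkHom A B x.1,
      ∀ x, f x = (l (ix x.1 x.2)).1 ⟨x.1, hix x.1 x.2⟩ :=
    ⟨fun x => (l (ix x.1 x.2)).1 ⟨x.1, hix x.1 x.2⟩, fun _ => rfl⟩
  have hfl : ∀ i (x : X) (hx : x ∈ U) (hi : x ∈ V i), f ⟨x, hx⟩ = (l i).1 ⟨x, hi⟩ := by
    intro i x hx hi
    rw [hf]
    exact hl _ _ x _ hi
  have hpred : RefHull.IsLocSect A B f := by
    apply (RefHull.homLoc A B).locality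
    intro x
    refine ⟨V (ix x.1 x.2) ⊓ U, ⟨hix x.1 x.2, x.2⟩, homOfLE inf_le_right, ?_⟩
    have e : (fun z : (V (ix x.1 x.2) ⊓ U : X.Opens) =>
        f ((homOfLE inf_le_right : V (ix x.1 x.2) ⊓ U ⟶ U) z)) =
        (resSec (inf_le_left : V (ix x.1 x.2) ⊓ U ≤ V (ix x.1 x.2)) (l (ix x.1 x.2))).1 := by
      funext z
      exact hfl _ z.1 z.2.2 z.2.1
    change RefHull.IsLocSect A B (fun z : (V (ix x.1 x.2) ⊓ U : X.Opens) =>
      f ((homOfLE inf_le_right : V (ix x.1 x.2) ⊓ U ⟶ U) z))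
    rw [e]
    exact (resSec (inf_le_left : V (ix x.1 x.2) ⊓ U ≤ V (ix x.1 x.2)) (l (ix x.1 x.2))).2
  exact ⟨⟨f, hpred⟩, fun i y hy hi => hfl i y hy hi⟩

/-- Gluing two families. -/
theorem exists_glue2 {U₁ U₂ : X.Opens} (l₁ : Γ(RefHull.homSh A B, U₁))
    (l₂ : Γ(RefHull.homSh A B, U₂))
    (h : ∀ (y : X) (h1 : y ∈ U₁) (h2 : y ∈ U₂), l₁.1 ⟨y, h1⟩ = l₂.1 ⟨y, h2⟩)
    (U : X.Opens) (hU : U ≤ U₁ ⊔ U₂) :
    ∃ L : Γ(RefHull.homSh A B, U), (∀ (y : X) (hy : y ∈ U) (h1 : y ∈ U₁),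
      L.1 ⟨y, hy⟩ = l₁.1 ⟨y, h1⟩) ∧ ∀ (y : X) (hy : y ∈ U) (h2 : y ∈ U₂),
      L.1 ⟨y, hy⟩ = l₂.1 ⟨y, h2⟩ := by
  obtain ⟨L, hL⟩ := exists_glueSec (A := A) (B := B) (fun b : Bool => if b then U₁ else U₂)
    (fun b => match b with
      | true => l₁
      | false => l₂)
    (fun i j x hi hj => by
      match i, j with
      | true, true => rfl
      | true, false => exact h x hi hj
      | false, true => exact (h x hj hi).symm
      | false, false => rfl) U
    (fun x hx => by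
      rcases hU hx with h1 | h2
      · exact ⟨true, h1⟩
      · exact ⟨false, h2⟩)
  exact ⟨L, fun y hy h1 => hL true y hy h1, fun y hy h2 => hL false y hy h2⟩

end Basic

section Global

variable {A B C : X.Modules}

theorem stalkMapₗ_comp (φ : A ⟶ B) (ψ : B ⟶ C) (y : X) :
    RefHull.stalkMapₗ (φ ≫ ψ) y = (RefHull.stalkMapₗ ψ y).comp (RefHull.stalkMapₗ φ y) := by
  apply LinearMap.ext
  intro a
  obtain ⟨U, hy, s, rfl⟩ := TopCat.Presheaf.exists_germ_eq (F := A.presheaf) a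
  rw [LinearMap.comp_apply, RefHull.stalkMapₗ_germ, RefHull.stalkMapₗ_germ,
    RefHull.stalkMapₗ_germ]
  rfl

theorem stalkMapₗ_id (A : X.Modules) (y : X) :
    RefHull.stalkMapₗ (𝟙 A) y = LinearMap.id := by
  apply LinearMap.ext
  intro a
  obtain ⟨U, hy, s, rfl⟩ := TopCat.Presheaf.exists_germ_eq (F := A.presheaf) a
  rw [RefHull.stalkMapₗ_germ]
  rfl

theorem stalkMapₗ_bijective_of_isIso (φ : A ⟶ B) [IsIso φ] (y : X) :
    Function.Bijective (RefHull.stalkMapₗ φ y) := by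
  have h1 : (RefHull.stalkMapₗ (inv φ) y).comp (RefHull.stalkMapₗ φ y) = LinearMap.id := by
    rw [← stalkMapₗ_comp, IsIso.hom_inv_id, stalkMapₗ_id]
  have h2 : (RefHull.stalkMapₗ φ y).comp (RefHull.stalkMapₗ (inv φ) y) = LinearMap.id := by
    rw [← stalkMapₗ_comp, IsIso.inv_hom_id, stalkMapₗ_id]
  refine Function.bijective_iff_has_inverse.mpr ⟨RefHull.stalkMapₗ (inv φ) y, fun a => ?_, fun b => ?_⟩
  · exact LinearMap.congr_fun h1 a
  · exact LinearMap.congr_fun h2 b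

/-- A morphism which is bijective on the sections over all small opens near `y` is bijective on
the stalk at `y`. -/
theorem stalkMapₗ_bijective_of_sections (φ : A ⟶ B) {N : X.Opens}
    (h : ∀ Q : X.Opens, Q ≤ N → Function.Bijective (ap φ Q)) (y : X) (hy : y ∈ N) :
    Function.Bijective (RefHull.stalkMapₗ φ y) := by
  constructor
  · rw [injective_iff_map_eq_zero]
    intro a ha
    obtain ⟨U, hyU, s, rfl⟩ := TopCat.Presheaf.exists_germ_eq (F := A.presheaf) a
    have hQN : U ⊓ N ≤ N := inf_le_right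
    have hQU : U ⊓ N ≤ U := inf_le_left
    have hyQ : y ∈ U ⊓ N := ⟨hyU, hy⟩
    rw [← germ_rF A hQU y hyQ s] at ha ⊢
    rw [RefHull.stalkMapₗ_germ] at ha
    have h0 : B.presheaf.germ (U ⊓ N) y hyQ (φ.app (U ⊓ N) (rF A hQU s)) =
        B.presheaf.germ (U ⊓ N) y hyQ 0 := by rw [ha, map_zero]
    obtain ⟨Q', hQ'Q, hyQ', e⟩ := (germ_eq_iff B y hyQ _ _).mp h0
    have e' : ap φ Q' (rF A hQ'Q (rF A hQU s)) = ap φ Q' 0 := by
      rw [ap_rF]
      rw [map_zero] at e ⊢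
      exact e
    have e'' := (h Q' (hQ'Q.trans hQN)).1 e'
    rw [← germ_rF A hQ'Q y hyQ', e'', map_zero]
  · intro b
    obtain ⟨U, hyU, t, rfl⟩ := TopCat.Presheaf.exists_germ_eq (F := B.presheaf) b
    have hQN : U ⊓ N ≤ N := inf_le_right
    have hQU : U ⊓ N ≤ U := inf_le_left
    have hyQ : y ∈ U ⊓ N := ⟨hyU, hy⟩
    obtain ⟨s, hs⟩ := (h (U ⊓ N) hQN).2 (rF B hQU t)
    refine ⟨A.presheaf.germ (U ⊓ N) y hyQ s, ?_⟩
    rw [RefHull.stalkMapₗ_germ]
    have : φ.app (U ⊓ N) s = rF B hQU t := hs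
    rw [this, germ_rF]

/-- A family of stalk maps over the whole space comes from a morphism. -/
theorem exists_hom_of_sec (L : Γ(RefHull.homSh A B, (⊤ : X.Opens))) :
    ∃ φ : A ⟶ B, ∀ (O : X.Opens) (s : Γ(A, O)) (y : X) (hy : y ∈ O),
      B.presheaf.germ O y hy (φ.app O s) = L.1 ⟨y, trivial⟩ (A.presheaf.germ O y hy s) := by
  obtain ⟨φ, hφ⟩ := Groth.Agent.Lib.LimMod.exists_hom_of_local A B (fun _ : Unit => (⊤ : X.Opens))
    (fun x => ⟨(), trivial⟩) (fun _ => L) (fun _ _ _ _ _ => rfl)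
  exact ⟨φ, fun O s y hy => hφ () O le_top s y hy⟩

theorem stalkMapₗ_of_sec (L : Γ(RefHull.homSh A B, (⊤ : X.Opens))) (φ : A ⟶ B)
    (hφ : ∀ (O : X.Opens) (s : Γ(A, O)) (y : X) (hy : y ∈ O),
      B.presheaf.germ O y hy (φ.app O s) = L.1 ⟨y, trivial⟩ (A.presheaf.germ O y hy s)) (y : X) :
    RefHull.stalkMapₗ φ y = L.1 ⟨y, trivial⟩ := by
  apply LinearMap.ext
  intro a
  obtain ⟨U, hy, s, rfl⟩ := TopCat.Presheaf.exists_germ_eq (F := A.presheaf) a
  rw [RefHull.stalkMapₗ_germ, hφ]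

/-- A family of bijective stalk maps over the whole space gives an isomorphism. -/
theorem nonempty_iso_of_sec (L : Γ(RefHull.homSh A B, (⊤ : X.Opens)))
    (h : ∀ y, Function.Bijective (L.1 y)) : Nonempty (A ≅ B) := by
  obtain ⟨φ, hφ⟩ := exists_hom_of_sec L
  haveI : IsIso φ := by
    apply SubExt.isIso_of_bijective
    intro W
    constructor
    · intro s s' hss
      refine TopCat.Presheaf.section_ext ⟨A.presheaf, A.isSheaf⟩ W _ _ (fun y hy => ?_)
      apply (h ⟨y, trivial⟩).1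
      rw [← hφ W s y hy, ← hφ W s' y hy]
      exact congrArg (B.presheaf.germ W y hy) hss
    · intro t
      refine ⟨evSec (resSec (le_top : W ≤ ⊤) (invSec L h)) t, ?_⟩
      refine TopCat.Presheaf.section_ext ⟨B.presheaf, B.isSheaf⟩ W _ _ (fun y hy => ?_)
      have e1 := hφ W (evSec (resSec (le_top : W ≤ ⊤) (invSec L h)) t) y hy
      refine e1.trans ?_
      rw [germ_evSec]
      exact apply_invSec_apply L h ⟨y, trivial⟩ _
  exact ⟨asIso φ⟩

end Global

section Ev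

variable {A B C : X.Modules}

theorem evSec_compSec {O : X.Opens} (l : Γ(RefHull.homSh A B, O)) (l' : Γ(RefHull.homSh B C, O))
    (s : Γ(A, O)) : evSec (compSec l l') s = evSec l' (evSec l s) := by
  apply evSec_unique
  intro y hy
  rw [germ_evSec, germ_evSec]
  rfl

theorem evSec_invSec {O : X.Opens} (l : Γ(RefHull.homSh A B, O))
    (h : ∀ y, Function.Bijective (l.1 y)) (s : Γ(A, O)) : evSec (invSec l h) (evSec l s) = s := by
  apply evSec_unique
  intro y hy
  rw [germ_evSec]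
  exact (invSec_apply_apply l h ⟨y, hy⟩ _).symm

theorem evSec_evSec_invSec {O : X.Opens} (l : Γ(RefHull.homSh A B, O))
    (h : ∀ y, Function.Bijective (l.1 y)) (t : Γ(B, O)) : evSec l (evSec (invSec l h) t) = t := by
  apply evSec_unique
  intro y hy
  rw [germ_evSec]
  exact (apply_invSec_apply l h ⟨y, hy⟩ _).symm

theorem evSec_ofHom (φ : A ⟶ B) (O : X.Opens) (s : Γ(A, O)) :
    evSec (RefHull.ofHom φ O) s = φ.app O s := by
  apply evSec_unique
  intro y hy
  exact (RefHull.stalkMapₗ_germ φ y hy s).symm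

end Ev

end Groth.Agent.Lib.StalkFam
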