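import Mathlib
import Groth.Prelude
import Groth.Agent.Lib.StalkFam1_helper2
import Groth.Agent.Lib.HomLin4_helper8
import Groth.Agent.Lib.Exist4_helper2

/-!
# Full faithfulness of completion: the sheaf Hom and morphisms (helper2)

Bridge between `RefHull.homSh M N` and morphisms:
* `evLin M N U : Γ(U, Hom(M, N)) →ₗ (Γ(U, M) →ₗ Γ(U, N))`, bijective for `U` affine, `M`
  quasi-coherent (`evEquiv`);
* `evSec_homMap`: evaluation commutes with post-composition;
* global sections are morphisms: `ofHom_injective`, `ofHom_surjective`, `homMap_ofHom`;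
* `killedBy_homSh`.
APPEND-ONLY once landed.
-/

set_option autoImplicit false
universe u
open CategoryTheory CategoryTheory.Limits AlgebraicGeometry TopologicalSpace Opposite
open HomLinH8 RefHullH8 QcqsLoc SecOrdH8 QCohExtn

namespace Groth.Agent.Lib.FormalFFH2

open Groth.Agent.Lib.StalkFam Groth.Agent.Lib.LimMod Groth.Agent.Lib.FormalQuotH2
  Groth.Agent.Lib.FormalModPowH4

section Ev

variable {X : Scheme.{u}} {M N N' : X.Modules}

/-- evaluation of a section of the sheaf Hom, as a linear map -/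
noncomputable def evL {U : X.Opens} (l : Γ(RefHull.homSh M N, U)) :
    Γ(M, U) →ₗ[Γ(X, U)] Γ(N, U) where
  toFun s := evSec l s
  map_add' := evSec_add_right l
  map_smul' a s := evSec_smul_right l a s

@[simp]
theorem evL_apply {U : X.Opens} (l : Γ(RefHull.homSh M N, U)) (s : Γ(M, U)) :
    evL l s = evSec l s := rfl

variable (M N) in
/-- evaluation, linear in the section of the sheaf Hom -/
noncomputable def evLin (U : X.Opens) :
    Γ(RefHull.homSh M N, U) →ₗ[Γ(X, U)] (Γ(M, U) →ₗ[Γ(X, U)] Γ(N, U)) where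
  toFun l := evL l
  map_add' l l' := LinearMap.ext (fun s => evSec_add_left l l' s)
  map_smul' a l := LinearMap.ext (fun s => evSec_smul_left a l s)

@[simp]
theorem evLin_apply (U : X.Opens) (l : Γ(RefHull.homSh M N, U)) (s : Γ(M, U)) :
    evLin M N U l s = evSec l s := rfl

theorem evSec_homMap (g : N ⟶ N') {U : X.Opens} (l : Γ(RefHull.homSh M N, U)) (s : Γ(M, U)) :
    evSec ((RefFun.homMap M g).app U l) s = g.app U (evSec l s) := by
  apply evSec_unique
  intro y hy
  rw [← RefHull.stalkMapₗ_germ g y hy, germ_evSec]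
  rfl

theorem evLin_injective [M.IsQuasicoherent] {U : X.Opens} (hU : IsAffineOpen U) :
    Function.Injective (evLin M N U) := by
  intro l l' h
  apply homSh_ext
  intro y
  apply LinearMap.ext_on_range (span_germ_univ M hU y.2)
  intro m
  rw [← germ_evSec l m y.1 y.2, ← germ_evSec l' m y.1 y.2]
  have h1 : evSec l m = evSec l' m := LinearMap.congr_fun h m
  rw [h1]

theorem evSec_linSec [M.IsQuasicoherent] {U : X.Opens} (hU : IsAffineOpen U)
    (ψ : Γ(M, U) →ₗ[Γ(X, U)] Γ(N, U)) (m : Γ(M, U)) : evSec (linSec M N hU ψ) m = ψ m := by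
  apply evSec_unique
  intro y hy
  exact (linSec_germ M N hU ψ y hy m).symm

theorem evLin_surjective [M.IsQuasicoherent] {U : X.Opens} (hU : IsAffineOpen U) :
    Function.Surjective (evLin M N U) := fun ψ =>
  ⟨linSec M N hU ψ, LinearMap.ext (fun m => evSec_linSec hU ψ m)⟩

variable (M N) in
/-- sections of the sheaf Hom over an affine open are the linear maps of sections -/
noncomputable def evEquiv [M.IsQuasicoherent] {U : X.Opens} (hU : IsAffineOpen U) :
    Γ(RefHull.homSh M N, U) ≃ₗ[Γ(X, U)] (Γ(M, U) →ₗ[Γ(X, U)] Γ(N, U)) :=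
  LinearEquiv.ofBijective (evLin M N U) ⟨evLin_injective hU, evLin_surjective hU⟩

@[simp]
theorem evEquiv_apply [M.IsQuasicoherent] {U : X.Opens} (hU : IsAffineOpen U)
    (l : Γ(RefHull.homSh M N, U)) (s : Γ(M, U)) : evEquiv M N hU l s = evSec l s := rfl

end Ev

section Global

variable {X : Scheme.{u}} {M N N' : X.Modules}

theorem ofHom_injective (φ φ' : M ⟶ N)
    (h : RefHull.ofHom φ (⊤ : X.Opens) = RefHull.ofHom φ' ⊤) : φ = φ' := by
  have h1 : ∀ y : X, RefHull.stalkMapₗ φ y = RefHull.stalkMapₗ φ' y := fun y =>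
    congrFun (congrArg Subtype.val h) ⟨y, trivial⟩
  refine Scheme.Modules.hom_ext _ _ (fun U => ?_)
  ext s
  refine TopCat.Presheaf.section_ext ⟨N.presheaf, N.isSheaf⟩ U _ _ (fun y hy => ?_)
  exact (RefHull.stalkMapₗ_germ φ y hy s).symm.trans
    ((congrArg (fun f => f (M.presheaf.germ U y hy s)) (h1 y)).trans
      (RefHull.stalkMapₗ_germ φ' y hy s))

theorem ofHom_surjective (L : Γ(RefHull.homSh M N, (⊤ : X.Opens))) :
    ∃ φ : M ⟶ N, RefHull.ofHom φ ⊤ = L := by
  obtain ⟨φ, hφ⟩ := exists_hom_of_sec L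
  refine ⟨φ, homSh_ext _ _ (fun y => ?_)⟩
  exact stalkMapₗ_of_sec L φ hφ y.1

theorem homMap_ofHom (φ : M ⟶ N) (g : N ⟶ N') (U : X.Opens) :
    (RefFun.homMap M g).app U (RefHull.ofHom φ U) = RefHull.ofHom (φ ≫ g) U := by
  apply homSh_ext
  intro y
  rw [RefFun.homMap_app_apply, RefHull.ofHom_apply, RefHull.ofHom_apply, RefFun.stalkMapₗ_comp]

end Global

section Killed

variable {A : Type u} [CommRing A] {X : Scheme.{u}} [X.Over (Spec (CommRingCat.of A))]

theorem killedBy_homSh (M : X.Modules) [M.IsQuasicoherent] {N : X.Modules} {J : Ideal A}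
    (hN : Formal.KilledBy J N) : Formal.KilledBy J (RefHull.homSh M N) := by
  intro a ha
  refine hom_ext_affine _ _ (fun U hU l => ?_)
  rw [Groth.Agent.Lib.FibVanH2.zero_app', smulMod_app]
  apply evLin_injective hU
  rw [map_smul, map_zero]
  ext s
  rw [LinearMap.smul_apply, evLin_apply, LinearMap.zero_apply, ← smulMod_app, hN a ha,
    Groth.Agent.Lib.FibVanH2.zero_app']

end Killed

end Groth.Agent.Lib.FormalFFH2
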