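import Mathlib

/-!
# Full faithfulness of completion: Artin–Rees for modules of homomorphisms (helper2)

`B` Noetherian, `J` an ideal, `M`, `N` finite `B`-modules.
* `exists_hom_mem_smul_top`: there is `c` such that a homomorphism `φ : M → N` with image in
  `J^{k+c} N` lies in `J^k Hom(M, N)`;
* `exists_hom_lift`: there is `c` such that a homomorphism `M → N/J^{k+c}N` agrees modulo `J^k`
  with a homomorphism `M → N`.
APPEND-ONLY once landed.
-/

set_option autoImplicit false
universe u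

namespace Groth.Agent.Lib.FormalFFH2

section Alg

variable {B : Type u} [CommRing B] [IsNoetherianRing B] (J : Ideal B)

/-- Artin–Rees for the image of a linear map -/
theorem exists_AR_linear {P Q : Type u} [AddCommGroup P] [Module B P] [Module.Finite B P]
    [AddCommGroup Q] [Module B Q] (g : Q →ₗ[B] P) :
    ∃ c : ℕ, ∀ (k : ℕ) (x : Q), g x ∈ J ^ (k + c) • (⊤ : Submodule B P) →
      ∃ δ ∈ J ^ k • (⊤ : Submodule B Q), g δ = g x := by
  obtain ⟨c, hc⟩ := Ideal.exists_pow_inf_eq_pow_smul J (LinearMap.range g)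
  refine ⟨c, fun k x hx => ?_⟩
  have h1 : g x ∈ J ^ (k + c) • (⊤ : Submodule B P) ⊓ LinearMap.range g := ⟨hx, ⟨x, rfl⟩⟩
  rw [hc (k + c) (Nat.le_add_left c k), Nat.add_sub_cancel] at h1
  have h2 : J ^ k • (J ^ c • (⊤ : Submodule B P) ⊓ LinearMap.range g) ≤
      Submodule.map g (J ^ k • (⊤ : Submodule B Q)) := by
    rw [Submodule.map_smul'', Submodule.map_top]
    exact Submodule.smul_mono le_rfl inf_le_right
  obtain ⟨δ, hδ, hδx⟩ := h2 h1
  exact ⟨δ, hδ, hδx⟩

theorem mem_smul_top_pi {N : Type u} [AddCommGroup N] [Module B N] {n : ℕ} (K : Ideal B)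
    (x : Fin n → N) (hx : ∀ i, x i ∈ K • (⊤ : Submodule B N)) :
    x ∈ K • (⊤ : Submodule B (Fin n → N)) := by
  classical
  have h1 : x = ∑ i, Pi.single i (x i) := (Finset.univ_sum_single x).symm
  rw [h1]
  refine Submodule.sum_mem _ (fun i _ => ?_)
  have h2 : Pi.single i (x i) ∈
      Submodule.map (LinearMap.single B (fun _ : Fin n => N) i) (K • (⊤ : Submodule B N)) :=
    ⟨x i, hx i, rfl⟩
  rw [Submodule.map_smul''] at h2
  exact Submodule.smul_mono le_rfl le_top h2

/-- evaluation at a family of elements -/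
def evGen {T N : Type u} [AddCommGroup T] [Module B T] [AddCommGroup N] [Module B N] {r : ℕ}
    (t : Fin r → T) : (T →ₗ[B] N) →ₗ[B] (Fin r → N) where
  toFun φ := fun i => φ (t i)
  map_add' _ _ := rfl
  map_smul' _ _ := rfl

theorem evGen_injective {T N : Type u} [AddCommGroup T] [Module B T] [AddCommGroup N]
    [Module B N] {r : ℕ} (t : Fin r → T) (ht : Submodule.span B (Set.range t) = ⊤) :
    Function.Injective (evGen (B := B) (N := N) t) := by
  intro φ φ' h
  apply LinearMap.ext_on_range ht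
  intro i
  exact congrFun h i

theorem apply_mem_of_mem_smul_top {T N : Type u} [AddCommGroup T] [Module B T] [AddCommGroup N]
    [Module B N] (K : Ideal B) (δ : T →ₗ[B] N)
    (hδ : δ ∈ K • (⊤ : Submodule B (T →ₗ[B] N))) (x : T) : δ x ∈ K • (⊤ : Submodule B N) := by
  refine Submodule.smul_induction_on hδ (fun b hb q _ => ?_) (fun q q' hq hq' => ?_)
  · rw [LinearMap.smul_apply]
    exact Submodule.smul_mem_smul hb Submodule.mem_top
  · rw [LinearMap.add_apply]
    exact Submodule.add_mem _ hq hq'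

variable {M N : Type u} [AddCommGroup M] [Module B M] [Module.Finite B M] [AddCommGroup N]
  [Module B N] [Module.Finite B N]

theorem exists_hom_mem_smul_top (M N : Type u) [AddCommGroup M] [Module B M] [Module.Finite B M]
    [AddCommGroup N] [Module B N] [Module.Finite B N] :
    ∃ c : ℕ, ∀ (k : ℕ) (φ : M →ₗ[B] N),
      (∀ m, φ m ∈ J ^ (k + c) • (⊤ : Submodule B N)) →
        φ ∈ J ^ k • (⊤ : Submodule B (M →ₗ[B] N)) := by
  obtain ⟨n, s, hs⟩ := Module.Finite.exists_fin (R := B) (M := M)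
  obtain ⟨c, hc⟩ := exists_AR_linear J (evGen (B := B) (N := N) s)
  refine ⟨c, fun k φ hφ => ?_⟩
  obtain ⟨δ, hδ, hδφ⟩ := hc k φ (mem_smul_top_pi _ _ (fun i => hφ (s i)))
  rw [← evGen_injective s hs hδφ]
  exact hδ

theorem exists_hom_lift (M N : Type u) [AddCommGroup M] [Module B M] [Module.Finite B M]
    [AddCommGroup N] [Module B N] [Module.Finite B N] :
    ∃ c : ℕ, ∀ (k : ℕ) (N₁ N₂ : Type u) [AddCommGroup N₁] [Module B N₁] [AddCommGroup N₂]
      [Module B N₂] (q₁ : N →ₗ[B] N₁) (_ : Function.Surjective q₁)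
      (_ : ∀ x, q₁ x = 0 → x ∈ J ^ (k + c) • (⊤ : Submodule B N))
      (q₂ : N →ₗ[B] N₂) (_ : ∀ x ∈ J ^ k • (⊤ : Submodule B N), q₂ x = 0)
      (lam : N₁ →ₗ[B] N₂) (_ : ∀ x, lam (q₁ x) = q₂ x) (ψ : M →ₗ[B] N₁),
      ∃ φ : M →ₗ[B] N, ∀ m, q₂ (φ m) = lam (ψ m) := by
  obtain ⟨n, s, hs⟩ := Module.Finite.exists_fin (R := B) (M := M)
  set π : (Fin n → B) →ₗ[B] M := Fintype.linearCombination B s with hπ
  have hπs : Function.Surjective π := by
    rw [← LinearMap.range_eq_top, hπ, Fintype.range_linearCombination, hs]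
  obtain ⟨r, t, ht⟩ := Module.Finite.exists_fin (R := B) (M := ↥(LinearMap.ker π))
  -- restriction to the kernel followed by evaluation at generators
  let ρ : ((Fin n → B) →ₗ[B] N) →ₗ[B] (↥(LinearMap.ker π) →ₗ[B] N) :=
    LinearMap.lcomp B N (LinearMap.ker π).subtype
  obtain ⟨c, hc⟩ := exists_AR_linear J ((evGen (B := B) (N := N) t).comp ρ)
  refine ⟨c, fun k N₁ N₂ _ _ _ _ q₁ hq₁ hk₁ q₂ hk₂ lam hlam ψ => ?_⟩
  choose ν hν using fun i : Fin n => hq₁ (ψ (s i))
  set q : (Fin n → B) →ₗ[B] N := Fintype.linearCombination B ν with hq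
  have hq1 : ∀ f, q₁ (q f) = ψ (π f) := by
    intro f
    rw [hq, hπ, Fintype.linearCombination_apply, Fintype.linearCombination_apply, map_sum,
      map_sum]
    refine Finset.sum_congr rfl (fun i _ => ?_)
    rw [map_smul, map_smul, hν]
  have hqr : ∀ x : ↥(LinearMap.ker π), q x.1 ∈ J ^ (k + c) • (⊤ : Submodule B N) := by
    intro x
    apply hk₁
    rw [hq1, LinearMap.mem_ker.mp x.2, map_zero]
  obtain ⟨δ, hδ, hδq⟩ := hc k q (mem_smul_top_pi _ _ (fun i => hqr (t i)))
  have hρ : ρ δ = ρ q := evGen_injective t ht hδq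
  have hker : LinearMap.ker π ≤ LinearMap.ker (q - δ) := by
    intro x hx
    have h1 : (ρ δ) ⟨x, hx⟩ = (ρ q) ⟨x, hx⟩ := by rw [hρ]
    have h2 : δ x = q x := h1
    rw [LinearMap.mem_ker, LinearMap.sub_apply, h2, sub_self]
  let φ : M →ₗ[B] N := ((LinearMap.ker π).liftQ (q - δ) hker).comp
    (π.quotKerEquivOfSurjective hπs).symm.toLinearMap
  refine ⟨φ, fun m => ?_⟩
  obtain ⟨f, rfl⟩ := hπs m
  have hφ : φ (π f) = q f - δ f := by
    show ((LinearMap.ker π).liftQ (q - δ) hker)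
      ((π.quotKerEquivOfSurjective hπs).symm (π f)) = _
    rw [LinearMap.quotKerEquivOfSurjective_symm_apply, Submodule.liftQ_apply,
      LinearMap.sub_apply]
  rw [hφ, map_sub, hk₂ _ (apply_mem_of_mem_smul_top _ δ hδ f), sub_zero, ← hlam, hq1]

end Alg

end Groth.Agent.Lib.FormalFFH2
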