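import Mathlib
import Groth.Prelude
import Groth.Agent.Lib.FF1_helper2
import Groth.Agent.Lib.FF2_helper2
import Groth.Agent.Lib.Exist6_helper2

/-!
# Full faithfulness of completion: the systems `Hom(M, N)/I^{n+1}` and `Hom(M, N/I^{n+1}N)`
(helper2)

`X` a Noetherian scheme over `A`, `M`, `N` coherent.  With `pP n : Hom(M, N) ⟶ Hom(M, N/I^{n+1}N)`
and the transition maps `tP`:
* `exists_ker_le`: there is `c` with `Ker (pP (n + c)) ⊆ I^{n+1} Hom(M, N)`;
* `exists_factor`: there is `c` such that `tP : Hom(M, N/I^{n+c+1}N) ⟶ Hom(M, N/I^{n+1}N)` factors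
  through the image of `pP n`.
APPEND-ONLY once landed.
-/

set_option autoImplicit false
universe u
open CategoryTheory CategoryTheory.Limits AlgebraicGeometry TopologicalSpace Opposite
open HomLinH8 RefHullH8 QcqsLoc SecOrdH8 QCohExtn

namespace Groth.Agent.Lib.FormalFFH2

open Formal Groth.Agent.Lib.FormalModPowH4 Groth.Agent.Lib.FormalFnH2 Groth.Agent.Lib.FibAmpH2
  Groth.Agent.Lib.FlatBCH2 Groth.Agent.Lib.FibVanH2 Groth.Agent.Lib.FormalQuotH2

section Sys

variable {A : Type u} [CommRing A] (I : Ideal A) {X : Scheme.{u}}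
  [X.Over (Spec (CommRingCat.of A))] (M N : X.Modules)

/-- `Hom(M, N) ⟶ Hom(M, N/I^{n+1}N)` -/
noncomputable def pP (n : ℕ) :
    RefHull.homSh M N ⟶ RefHull.homSh M (Formal.modPow I (n + 1) N) :=
  RefFun.homMap M (Formal.modPowπ I (n + 1) N)

/-- the transition maps `Hom(M, N/I^{m+1}N) ⟶ Hom(M, N/I^{n+1}N)` -/
noncomputable def tP {n m : ℕ} (h : n ≤ m) :
    RefHull.homSh M (Formal.modPow I (m + 1) N) ⟶ RefHull.homSh M (Formal.modPow I (n + 1) N) :=
  RefFun.homMap M (Formal2.modPowLE I (Nat.succ_le_succ h) N)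

theorem pP_tP {n m : ℕ} (h : n ≤ m) : pP I M N m ≫ tP I M N h = pP I M N n := by
  unfold pP tP
  rw [← RefFun.homMap_comp, Formal2.modPowπ_modPowLE]

theorem tP_trans {n m k : ℕ} (h1 : n ≤ m) (h2 : m ≤ k) :
    tP I M N h2 ≫ tP I M N h1 = tP I M N (h1.trans h2) := by
  unfold tP
  rw [← RefFun.homMap_comp, modPowLE_trans]

theorem evSec_pP (n : ℕ) {U : X.Opens} (l : Γ(RefHull.homSh M N, U)) (s : Γ(M, U)) :
    evSec ((pP I M N n).app U l) s = (Formal.modPowπ I (n + 1) N).app U (evSec l s) :=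
  evSec_homMap _ l s

theorem evSec_tP {n m : ℕ} (h : n ≤ m) {U : X.Opens}
    (l : Γ(RefHull.homSh M (Formal.modPow I (m + 1) N), U)) (s : Γ(M, U)) :
    evSec ((tP I M N h).app U l) s =
      (Formal2.modPowLE I (Nat.succ_le_succ h) N).app U (evSec l s) :=
  evSec_homMap _ l s

end Sys

section Loc

variable (A : Type u) [CommRing A] (I : Ideal A) {X : Scheme.{u}}
  [X.Over (Spec (CommRingCat.of A))] [AlgebraicGeometry.IsNoetherian X]
  (M N : X.Modules) (hM : Coh.IsCoh M) (hN : Coh.IsCoh N)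

omit [AlgebraicGeometry.IsNoetherian X] in
theorem mem_smul_top_of_evEquiv [M.IsQuasicoherent] {U : X.Opens} (hU : IsAffineOpen U)
    (K : Ideal Γ(X, U)) (l : Γ(RefHull.homSh M N, U))
    (h : evEquiv M N hU l ∈ K • (⊤ : Submodule Γ(X, U) (Γ(M, U) →ₗ[Γ(X, U)] Γ(N, U)))) :
    l ∈ K • (⊤ : Submodule Γ(X, U) Γ(RefHull.homSh M N, U)) := by
  have h1 : (K • (⊤ : Submodule Γ(X, U) (Γ(M, U) →ₗ[Γ(X, U)] Γ(N, U)))) =
      Submodule.map (evEquiv M N hU).toLinearMap
        (K • (⊤ : Submodule Γ(X, U) Γ(RefHull.homSh M N, U))) := by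
    rw [Submodule.map_smul'', Submodule.map_top, LinearEquiv.range]
  rw [h1] at h
  obtain ⟨l', hl', e⟩ := h
  have e' : l' = l := (evEquiv M N hU).injective e
  rw [← e']
  exact hl'

include hM hN in
theorem exists_ker_le_affine {U : X.Opens} (hU : IsAffineOpen U) :
    ∃ c : ℕ, ∀ (n : ℕ) (l : Γ(RefHull.homSh M N, U)), (pP I M N (n + c)).app U l = 0 →
      (Formal.modPowπ I (n + 1) (RefHull.homSh M N)).app U l = 0 := by
  haveI : M.IsQuasicoherent := hM.1
  haveI : SheafOfModules.IsFiniteType (R := X.ringCatSheaf) M := hM.2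
  haveI : N.IsQuasicoherent := hN.1
  haveI : SheafOfModules.IsFiniteType (R := X.ringCatSheaf) N := hN.2
  haveI : IsNoetherianRing Γ(X, U) := IsLocallyNoetherian.component_noetherian ⟨U, hU⟩
  haveI : Module.Finite Γ(X, U) Γ(M, U) := QCohFT.finite_of_isFiniteType M hU
  haveI : Module.Finite Γ(X, U) Γ(N, U) := QCohFT.finite_of_isFiniteType N hU
  obtain ⟨c, hc⟩ := exists_hom_mem_smul_top (JU A I U) Γ(M, U) Γ(N, U)
  refine ⟨c, fun n l hl => ?_⟩
  refine modPowπ_app_eq_zero_of_mem_JU A I _ (n + 1) U l ?_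
  refine mem_smul_top_of_evEquiv M N hU _ l (hc (n + 1) _ (fun m => ?_))
  have e1 : n + 1 + c = n + c + 1 := Nat.add_right_comm n 1 c
  rw [e1, ← modPowπ_app_eq_zero_iff A I N (n + c + 1) hU, evEquiv_apply, ← evSec_pP, hl,
    evSec_zero_left]

include hM hN in
theorem exists_factor_affine {U : X.Opens} (hU : IsAffineOpen U) :
    ∃ c : ℕ, ∀ (n : ℕ) (ψ : Γ(RefHull.homSh M (Formal.modPow I (n + c + 1) N), U)),
      ∃ l : Γ(RefHull.homSh M N, U),
        (pP I M N n).app U l = (tP I M N (Nat.le_add_right n c)).app U ψ := by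
  haveI : M.IsQuasicoherent := hM.1
  haveI : SheafOfModules.IsFiniteType (R := X.ringCatSheaf) M := hM.2
  haveI : N.IsQuasicoherent := hN.1
  haveI : SheafOfModules.IsFiniteType (R := X.ringCatSheaf) N := hN.2
  haveI : IsNoetherianRing Γ(X, U) := IsLocallyNoetherian.component_noetherian ⟨U, hU⟩
  haveI : Module.Finite Γ(X, U) Γ(M, U) := QCohFT.finite_of_isFiniteType M hU
  haveI : Module.Finite Γ(X, U) Γ(N, U) := QCohFT.finite_of_isFiniteType N hU
  obtain ⟨c, hc⟩ := exists_hom_lift (JU A I U) Γ(M, U) Γ(N, U)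
  refine ⟨c, fun n ψ => ?_⟩
  have e1 : n + 1 + c = n + c + 1 := Nat.add_right_comm n 1 c
  obtain ⟨φ, hφ⟩ := hc (n + 1) Γ(Formal.modPow I (n + c + 1) N, U)
    Γ(Formal.modPow I (n + 1) N, U) (sl (Formal.modPowπ I (n + c + 1) N) U)
    (sl_surjective_of_epi _ hU)
    (fun x hx => by
      rw [e1]
      exact (modPowπ_app_eq_zero_iff A I N (n + c + 1) hU x).mp hx)
    (sl (Formal.modPowπ I (n + 1) N) U)
    (fun x hx => modPowπ_app_eq_zero_of_mem_JU A I N (n + 1) U x hx)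
    (sl (Formal2.modPowLE I (Nat.succ_le_succ (Nat.le_add_right n c)) N) U)
    (fun x => by rw [sl_comp_apply, Formal2.modPowπ_modPowLE])
    (evEquiv M _ hU ψ)
  refine ⟨(evEquiv M N hU).symm φ, ?_⟩
  apply evLin_injective hU
  ext m
  rw [evLin_apply, evLin_apply, evSec_pP, evSec_tP]
  have h1 : evSec ((evEquiv M N hU).symm φ) m = φ m := by
    rw [← evEquiv_apply hU, LinearEquiv.apply_symm_apply]
  rw [h1]
  exact hφ m

end Loc

section Glob

variable (A : Type u) [CommRing A] (I : Ideal A) {X : Scheme.{u}}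
  [X.Over (Spec (CommRingCat.of A))] [AlgebraicGeometry.IsNoetherian X]
  (M N : X.Modules) (hM : Coh.IsCoh M) (hN : Coh.IsCoh N)

include hM hN in
theorem exists_ker_le : ∃ c : ℕ, ∀ n : ℕ,
    kernel.ι (pP I M N (n + c)) ≫ Formal.modPowπ I (n + 1) (RefHull.homSh M N) = 0 := by
  classical
  have hq : ∀ k, (RefHull.homSh M (Formal.modPow I k N)).IsQuasicoherent := fun k =>
    (isCoh_homSh M _ hM (isCoh_modPow I hN k)).1
  haveI : (RefHull.homSh M N).IsQuasicoherent := (isCoh_homSh M N hM hN).1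
  obtain ⟨s, hsfin, hs⟩ := (isCompact_iff_finite_and_eq_biUnion_affineOpens
    (X := X) (U := ⊤)).mp (by simpa using isCompact_univ)
  choose cf hcf using fun V : X.affineOpens => exists_ker_le_affine A I M N hM hN V.2
  refine ⟨hsfin.toFinset.sup cf, fun n => ?_⟩
  haveI := hq (n + hsfin.toFinset.sup cf + 1)
  haveI : (kernel (pP I M N (n + hsfin.toFinset.sup cf))).IsQuasicoherent :=
    SubExt.isQuasicoherent_kernel _
  refine hom_eq_zero_of_affine_cover _ ((fun V : X.affineOpens => V.1) '' s) ?_ ?_ ?_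
  · rintro _ ⟨V, _, rfl⟩
    exact V.2
  · intro x
    have hx : x ∈ (⊤ : X.Opens) := trivial
    rw [hs] at hx
    simp only [Opens.mem_iSup] at hx
    obtain ⟨V, hV, hxV⟩ := hx
    exact ⟨V.1, ⟨V, hV, rfl⟩, hxV⟩
  · rintro _ ⟨V, hV, rfl⟩ y
    rw [comp_app']
    have hle : cf V ≤ hsfin.toFinset.sup cf := Finset.le_sup (hsfin.mem_toFinset.mpr hV)
    refine hcf V n _ ?_
    have h1 : (pP I M N (n + hsfin.toFinset.sup cf)).app V.1
        ((kernel.ι (pP I M N (n + hsfin.toFinset.sup cf))).app V.1 y) = 0 := by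
      rw [← comp_app', kernel.condition, zero_app']
    rw [← pP_tP I M N (Nat.add_le_add_left hle n), comp_app', h1, app_zero']

include hM hN in
theorem exists_factor : ∃ c : ℕ, ∀ n : ℕ,
    tP I M N (Nat.le_add_right n c) ≫ cokernel.π (pP I M N n) = 0 := by
  classical
  have hq : ∀ k, (RefHull.homSh M (Formal.modPow I k N)).IsQuasicoherent := fun k =>
    (isCoh_homSh M _ hM (isCoh_modPow I hN k)).1
  obtain ⟨s, hsfin, hs⟩ := (isCompact_iff_finite_and_eq_biUnion_affineOpens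
    (X := X) (U := ⊤)).mp (by simpa using isCompact_univ)
  choose cf hcf using fun V : X.affineOpens => exists_factor_affine A I M N hM hN V.2
  refine ⟨hsfin.toFinset.sup cf, fun n => ?_⟩
  haveI := hq (n + hsfin.toFinset.sup cf + 1)
  refine hom_eq_zero_of_affine_cover _ ((fun V : X.affineOpens => V.1) '' s) ?_ ?_ ?_
  · rintro _ ⟨V, _, rfl⟩
    exact V.2
  · intro x
    have hx : x ∈ (⊤ : X.Opens) := trivial
    rw [hs] at hx
    simp only [Opens.mem_iSup] at hx
    obtain ⟨V, hV, hxV⟩ := hx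
    exact ⟨V.1, ⟨V, hV, rfl⟩, hxV⟩
  · rintro _ ⟨V, hV, rfl⟩ y
    have hle : cf V ≤ hsfin.toFinset.sup cf := Finset.le_sup (hsfin.mem_toFinset.mpr hV)
    obtain ⟨l, hl⟩ := hcf V n ((tP I M N (Nat.add_le_add_left hle n)).app V.1 y)
    rw [← comp_app', tP_trans] at hl
    rw [comp_app', ← hl, ← comp_app', cokernel.condition, zero_app']

end Glob

end Groth.Agent.Lib.FormalFFH2
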