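import Mathlib
import Groth.Prelude
import Groth.Agent.Lib.FF3_helper2
import Groth.Agent.Lib.Exist2_helper2

/-!
# Full faithfulness of completion on coherent modules, proper case (helper2)

`X` proper over a Noetherian `I`-adically complete ring `A`, `M`, `N` coherent: compatible maps
`M ⟶ N/I^{n+1}N` come from exactly one map `M ⟶ N` (`existsUnique_hom_of_compatible`), and
`main0060`.
APPEND-ONLY once landed.
-/

set_option autoImplicit false
universe u
open CategoryTheory CategoryTheory.Limits AlgebraicGeometry TopologicalSpace Opposite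
open HomLinH8 RefHullH8 QcqsLoc SecOrdH8 QCohExtn

namespace Groth.Agent.Lib.FormalFFH2

open Formal Groth.Agent.Lib.FormalModPowH4 Groth.Agent.Lib.FormalFnH2 Groth.Agent.Lib.FibAmpH2
  Groth.Agent.Lib.FlatBCH2 Groth.Agent.Lib.FibVanH2 Groth.Agent.Lib.FormalQuotH2

section Ab

variable {C : Type*} [Category C] [Abelian C]

theorem exists_fac_of_epi' {B B' Z : C} (f : B ⟶ B') [Epi f] (g : B ⟶ Z)
    (h : kernel.ι f ≫ g = 0) : ∃ g' : B' ⟶ Z, f ≫ g' = g := by
  have hc := Abelian.epiIsCokernelOfKernel _ (kernelIsKernel f)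
  exact ⟨hc.desc (CokernelCofork.ofπ g h), hc.fac (CokernelCofork.ofπ g h) WalkingParallelPair.one⟩

/-- the relation `g ∘ f⁻¹ ∘ s` -/
theorem exists_zigzag {H P Q P' : C} (f : H ⟶ P) (g : H ⟶ Q) (s : P' ⟶ P)
    (hker : kernel.ι f ≫ g = 0) (him : s ≫ cokernel.π f = 0) :
    ∃ d : P' ⟶ Q,
      (∀ (W : C) (a : W ⟶ P') (b : W ⟶ H), a ≫ s = b ≫ f → a ≫ d = b ≫ g) ∧
      (∀ (R : C) (g' : Q ⟶ R) (f' : P ⟶ R), g ≫ g' = f ≫ f' → d ≫ g' = s ≫ f') := by
  let e := Abelian.factorThruImage f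
  have he : e ≫ Abelian.image.ι f = f := Abelian.image.fac f
  let θ : P' ⟶ Abelian.image f := kernel.lift (cokernel.π f) s him
  have hθ : θ ≫ Abelian.image.ι f = s := kernel.lift_ι _ _ _
  have hke : kernel.ι e ≫ g = 0 := by
    have h1 : kernel.ι e ≫ f = 0 :=
      (congrArg (fun t => kernel.ι e ≫ t) he.symm).trans (by
        rw [← Category.assoc, kernel.condition, zero_comp])
    rw [← kernel.lift_ι f (kernel.ι e) h1, Category.assoc, hker, comp_zero]
  obtain ⟨β, hβ⟩ := exists_fac_of_epi' e g hke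
  refine ⟨θ ≫ β, fun W a b hab => ?_, fun R g' f' hgf => ?_⟩
  · have h1 : a ≫ θ = b ≫ e := by
      rw [← cancel_mono (Abelian.image.ι f), Category.assoc, hθ, Category.assoc, he, hab]
    rw [← Category.assoc, h1, Category.assoc, hβ]
  · have h1 : β ≫ g' = Abelian.image.ι f ≫ f' := by
      rw [← cancel_epi e, ← Category.assoc, hβ, hgf, ← Category.assoc, he]
    rw [Category.assoc, h1, ← Category.assoc, hθ]

end Ab

section Inj

variable (A : Type u) [CommRing A] [IsNoetherianRing A] (I : Ideal A) [IsAdicComplete I A]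
  (X : Scheme.{u}) [X.Over (Spec (CommRingCat.of A))] [IsProper (X ↘ Spec (CommRingCat.of A))]
  (F : X.Modules) (hF : Coh.IsCoh F)

include hF in
/-- formal functions in degree `0`, injectivity -/
theorem section_eq_zero_of_forall (w : Γ(F, ⊤))
    (hw : ∀ n, (Formal.modPowπ I (n + 1) F).app ⊤ w = 0) : w = 0 := by
  have h1 : Formal.toHHlim I F 0 ((h0Add F).symm w) = 0 := by
    apply Subtype.ext
    funext n
    show Groth.Agent.HHVan.hmap (Formal.modPowπ I (n + 1) F) 0 ((h0Add F).symm w) = 0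
    rw [h0Add_symm_hmap, hw n, map_zero]
  have h2 : (h0Add F).symm w = 0 :=
    (main0003 A I X F hF 0).1 (h1.trans (map_zero _).symm)
  have h3 := congrArg (h0Add F) h2
  rwa [AddEquiv.apply_symm_apply, map_zero] at h3

end Inj

section Main

variable (A : Type u) [CommRing A] [IsNoetherianRing A] (I : Ideal A) [IsAdicComplete I A]
  (X : Scheme.{u}) [X.Over (Spec (CommRingCat.of A))] [IsProper (X ↘ Spec (CommRingCat.of A))]
  (M N : X.Modules) (hM : Coh.IsCoh M) (hN : Coh.IsCoh N)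

/-- `Hom(M, N)/I^{n+1} ⟶ Hom(M, N/I^{n+1}N)` -/
noncomputable def cP [M.IsQuasicoherent] (n : ℕ) :
    Formal.modPow I (n + 1) (RefHull.homSh M N) ⟶
      RefHull.homSh M (Formal.modPow I (n + 1) N) :=
  cokernel.desc _ (pP I M N n) (smulFamily_comp_eq_zero_of_killed _
    (killedBy_homSh M (fun a ha => smulMod_modPow_eq_zero N I (n + 1) ha)))

omit [IsNoetherianRing A] [IsAdicComplete I A] [IsProper (X ↘ Spec (CommRingCat.of A))] in
theorem π_cP [M.IsQuasicoherent] (n : ℕ) :
    Formal.modPowπ I (n + 1) (RefHull.homSh M N) ≫ cP A I X M N n = pP I M N n :=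
  cokernel.π_desc _ _ _

omit [IsNoetherianRing A] [IsAdicComplete I A] [IsProper (X ↘ Spec (CommRingCat.of A))] in
theorem LE_cP [M.IsQuasicoherent] {n m : ℕ} (h : n ≤ m) :
    Formal2.modPowLE I (Nat.succ_le_succ h) (RefHull.homSh M N) ≫ cP A I X M N n =
      cP A I X M N m ≫ tP I M N h := by
  rw [← cancel_epi (Formal.modPowπ I (m + 1) (RefHull.homSh M N)), ← Category.assoc,
    Formal2.modPowπ_modPowLE, π_cP, ← Category.assoc, π_cP, pP_tP]

omit [IsNoetherianRing A] [IsAdicComplete I A] [IsProper (X ↘ Spec (CommRingCat.of A))] in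
theorem tP_refl (n : ℕ) : tP I M N (le_refl n) = 𝟙 _ := by
  unfold tP
  rw [modPowLE_refl A I N (n + 1)]
  exact RefFun.homMap_id M _

include hM hN in
/-- **Full faithfulness**, in terms of compatible families -/
theorem existsUnique_hom_of_compatible
    (ψ : ∀ n : ℕ, M ⟶ Formal.modPow I (n + 1) N)
    (hψ : ∀ n, ψ (n + 1) ≫ Formal.modPowTrans I (n + 1) N = ψ n) :
    ∃! φ : M ⟶ N, ∀ n, φ ≫ Formal.modPowπ I (n + 1) N = ψ n := by
  haveI : IsLocallyNoetherian X :=
    LocallyOfFiniteType.isLocallyNoetherian (X ↘ Spec (CommRingCat.of A))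
  haveI : CompactSpace X :=
    QuasiCompact.compactSpace_of_compactSpace (X ↘ Spec (CommRingCat.of A))
  haveI : AlgebraicGeometry.IsNoetherian X := {}
  haveI : M.IsQuasicoherent := hM.1
  have hH : Coh.IsCoh (RefHull.homSh M N) := isCoh_homSh M N hM hN
  obtain ⟨c₁, hc₁⟩ := exists_ker_le A I M N hM hN
  obtain ⟨c₂, hc₂⟩ := exists_factor A I M N hM hN
  -- kernel of `pP` on global sections
  have hkey : ∀ (n : ℕ) (s : Γ(RefHull.homSh M N, ⊤)), (pP I M N (n + c₁)).app ⊤ s = 0 →
      (Formal.modPowπ I (n + 1) (RefHull.homSh M N)).app ⊤ s = 0 := by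
    intro n s hs
    have h1 : s ∈ LinearMap.ker (sl (pP I M N (n + c₁)) ⊤) := hs
    rw [← sl_range_kernel_ι] at h1
    obtain ⟨k, rfl⟩ := h1
    show (Formal.modPowπ I (n + 1) (RefHull.homSh M N)).app ⊤
      ((kernel.ι (pP I M N (n + c₁))).app ⊤ k) = 0
    rw [← comp_app', hc₁ n, zero_app']
  have hkey' : ∀ (s : Γ(RefHull.homSh M N, ⊤)), (∀ n, (pP I M N n).app ⊤ s = 0) → s = 0 :=
    fun s hs => section_eq_zero_of_forall A I X _ hH s (fun n => hkey n s (hs _))
  -- the compatible family of sections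
  let Ψ : ∀ n, Γ(RefHull.homSh M (Formal.modPow I (n + 1) N), ⊤) := fun n =>
    RefHull.ofHom (ψ n) ⊤
  have hΨ : ∀ {n m : ℕ} (h : n ≤ m), (tP I M N h).app ⊤ (Ψ m) = Ψ n := by
    intro n m h
    induction m, h using Nat.le_induction with
    | base =>
      rw [tP_refl A I X M N n]
      rfl
    | succ m h ih =>
      rw [← tP_trans I M N h (Nat.le_succ m), comp_app']
      have h1 : (tP I M N (Nat.le_succ m)).app ⊤ (Ψ (m + 1)) = Ψ m := by
        show (RefFun.homMap M _).app ⊤ (RefHull.ofHom (ψ (m + 1)) ⊤) = RefHull.ofHom (ψ m) ⊤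
        rw [homMap_ofHom, ← modPowTrans_eq_modPowLE, hψ m]
      rw [h1, ih]
  refine existsUnique_of_exists_of_unique ?_ ?_
  · -- existence
    have hd : ∀ n : ℕ, ∃ d : RefHull.homSh M (Formal.modPow I (n + c₁ + c₂ + 1) N) ⟶
        Formal.modPow I (n + 1) (RefHull.homSh M N),
        cP A I X M N (n + c₁ + c₂) ≫ d =
          Formal2.modPowLE I (Nat.succ_le_succ
            ((Nat.le_add_right n c₁).trans (Nat.le_add_right (n + c₁) c₂))) _ ∧
        d ≫ cP A I X M N n =
          tP I M N ((Nat.le_add_right n c₁).trans (Nat.le_add_right (n + c₁) c₂)) := by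
      intro n
      obtain ⟨d, hd1, hd2⟩ := exists_zigzag (pP I M N (n + c₁))
        (Formal.modPowπ I (n + 1) (RefHull.homSh M N))
        (tP I M N (Nat.le_add_right (n + c₁) c₂)) (hc₁ n) (hc₂ (n + c₁))
      refine ⟨d, ?_, ?_⟩
      · rw [← cancel_epi (Formal.modPowπ I (n + c₁ + c₂ + 1) (RefHull.homSh M N)),
          ← Category.assoc, π_cP, Formal2.modPowπ_modPowLE]
        have h1 := hd1 _ (pP I M N (n + c₁ + c₂)) (𝟙 _) (by rw [pP_tP, Category.id_comp])
        rw [h1, Category.id_comp]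
      · have h2 := hd2 _ (cP A I X M N n) (tP I M N (Nat.le_add_right n c₁))
          (by rw [π_cP, pP_tP])
        rw [h2, tP_trans]
    choose d hd1 hd2 using hd
    -- preimages
    have hy : ∀ m : ℕ, ∃ y : Γ(Formal.modPow I (m + 1) (RefHull.homSh M N), ⊤),
        (cP A I X M N m).app ⊤ y = Ψ m := fun m =>
      ⟨(d m).app ⊤ (Ψ (m + c₁ + c₂)), by rw [← comp_app', hd2 m, hΨ]⟩
    choose y hy using hy
    -- vanishing
    have hvan : ∀ (n m : ℕ) (h : n + c₁ + c₂ ≤ m)
        (x : Γ(Formal.modPow I (m + 1) (RefHull.homSh M N), ⊤)),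
        (cP A I X M N m).app ⊤ x = 0 →
        (Formal2.modPowLE I (Nat.succ_le_succ (((Nat.le_add_right n c₁).trans
          (Nat.le_add_right (n + c₁) c₂)).trans h)) (RefHull.homSh M N)).app ⊤ x = 0 := by
      intro n m h x hx
      rw [← modPowLE_trans I _ (Nat.succ_le_succ ((Nat.le_add_right n c₁).trans
        (Nat.le_add_right (n + c₁) c₂))) (Nat.succ_le_succ h), comp_app', ← hd1 n, comp_app',
        ← comp_app' _ (cP A I X M N (n + c₁ + c₂)), LE_cP A I X M N h, comp_app', hx, app_zero',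
        app_zero']
    let σ : ∀ n : ℕ, Γ(Formal.modPow I (n + 1) (RefHull.homSh M N), ⊤) := fun n =>
      (Formal2.modPowLE I (Nat.succ_le_succ (Nat.le_add_left n (c₁ + c₂)))
        (RefHull.homSh M N)).app ⊤ (y (c₁ + c₂ + n))
    have hσ : ∀ n, (Formal.modPowTrans I (n + 1) (RefHull.homSh M N)).app ⊤ (σ (n + 1)) =
        σ n := by
      intro n
      have hle : n + c₁ + c₂ ≤ c₁ + c₂ + n := by omega
      have h1 := hvan n (c₁ + c₂ + n) hle
        ((Formal.modPowTrans I (c₁ + c₂ + n + 1) (RefHull.homSh M N)).app ⊤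
          (y (c₁ + c₂ + n + 1)) - y (c₁ + c₂ + n)) (by
        rw [app_sub', modPowTrans_eq_modPowLE, ← comp_app',
          LE_cP A I X M N (Nat.le_succ (c₁ + c₂ + n)), comp_app', hy, hy, hΨ, sub_self])
      rw [app_sub', sub_eq_zero, modPowTrans_eq_modPowLE, ← comp_app', modPowLE_trans] at h1
      show (Formal.modPowTrans I (n + 1) (RefHull.homSh M N)).app ⊤
        ((Formal2.modPowLE I _ (RefHull.homSh M N)).app ⊤ (y (c₁ + c₂ + (n + 1)))) =
        (Formal2.modPowLE I _ (RefHull.homSh M N)).app ⊤ (y (c₁ + c₂ + n))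
      rw [modPowTrans_eq_modPowLE, ← comp_app', modPowLE_trans]
      exact h1
    obtain ⟨s, hs⟩ := exists_section_of_compatible A I X _ hH σ hσ
    obtain ⟨φ, hφ⟩ := ofHom_surjective s
    refine ⟨φ, fun n => ?_⟩
    apply ofHom_injective
    rw [← homMap_ofHom, hφ]
    show (pP I M N n).app ⊤ s = Ψ n
    rw [← π_cP A I X M N n, comp_app', hs n]
    show (cP A I X M N n).app ⊤ ((Formal2.modPowLE I _ (RefHull.homSh M N)).app ⊤
      (y (c₁ + c₂ + n))) = Ψ n
    rw [← comp_app', LE_cP A I X M N (Nat.le_add_left n (c₁ + c₂)), comp_app', hy, hΨ]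
  · -- uniqueness
    intro φ φ' hφ hφ'
    apply ofHom_injective
    rw [← sub_eq_zero]
    apply hkey'
    intro n
    rw [app_sub']
    show (RefFun.homMap M _).app ⊤ (RefHull.ofHom φ ⊤) -
      (RefFun.homMap M _).app ⊤ (RefHull.ofHom φ' ⊤) = 0
    rw [homMap_ofHom, homMap_ofHom, hφ n, hφ' n, sub_self]

include hM hN in
/-- **S0060** -/
theorem main0060 (τ : Formal.completion I M ⟶ Formal.completion I N) :
    ∃! φ : M ⟶ N, ∀ n : ℕ,
      Formal.modPowπ I (n + 1) M ≫ τ.app (op n) = φ ≫ Formal.modPowπ I (n + 1) N := by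
  have hmapN : ∀ n, (Formal.completion I N).map (homOfLE (Nat.le_succ n)).op =
      Formal.modPowTrans I (n + 1) N := by
    intro n
    unfold Formal.completion
    exact Functor.ofOpSequence_map_homOfLE_succ _ n
  have hmapM : ∀ n, (Formal.completion I M).map (homOfLE (Nat.le_succ n)).op =
      Formal.modPowTrans I (n + 1) M := by
    intro n
    unfold Formal.completion
    exact Functor.ofOpSequence_map_homOfLE_succ _ n
  obtain ⟨τn, hτn⟩ : ∃ τn : ∀ n, Formal.modPow I (n + 1) M ⟶ Formal.modPow I (n + 1) N,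
      ∀ n, τn n = τ.app (op n) := ⟨fun n => τ.app (op n), fun n => rfl⟩
  have hnat : ∀ n, Formal.modPowTrans I (n + 1) M ≫ τn n =
      τn (n + 1) ≫ Formal.modPowTrans I (n + 1) N := by
    intro n
    have h1 := τ.naturality (homOfLE (Nat.le_succ n)).op
    rw [hmapN, hmapM] at h1
    rw [hτn n, hτn (n + 1)]
    exact h1
  obtain ⟨φ, hφ, huniq⟩ := existsUnique_hom_of_compatible A I X M N hM hN
    (fun n => Formal.modPowπ I (n + 1) M ≫ τn n) (fun n => by
      rw [Category.assoc, ← hnat n, ← Category.assoc, Formal.modPowπ_trans])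
  refine ⟨φ, fun n => ?_, fun φ' hφ' => huniq φ' (fun n => ?_)⟩
  · rw [← hτn n]
    exact (hφ n).symm
  · have h2 := hφ' n
    rw [← hτn n] at h2
    exact h2.symm

end Main

end Groth.Agent.Lib.FormalFFH2
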