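import Mathlib
import Groth.Prelude
import Groth.Agent.Lib.Exist7_helper2
import Groth.Agent.Lib.CohKer_helper8
import Groth.Agent.Lib.CohDev2_helper8
import Groth.Agent.Lib.CohDev8_helper8
import Groth.Agent.Lib.CohDev16_helper8
import Groth.Agent.Lib.QCohFT_helper9

/-!
# The abelian category of coherent modules on a locally Noetherian scheme (helper2)

* `cohP X : ObjectProperty X.Modules`, `CohC X` its full subcategory;
* closure instances, hence `Abelian (CohC X)` (Mathlib's `Abelian/Subcategory`);
* `mono_hom` : monomorphisms of `CohC X` are monomorphisms of modules;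
* `secSub`, `eq_of_le_of_secSub_le`;
* `isNoetherianObject` : on a Noetherian scheme every coherent module is a Noetherian object
  of `CohC X`.
APPEND-ONLY once landed.
-/

set_option autoImplicit false
set_option backward.isDefEq.respectTransparency false
set_option linter.style.haveILetI false
set_option linter.unusedSectionVars false
set_option linter.overlappingInstances false
universe u
open CategoryTheory CategoryTheory.Limits AlgebraicGeometry TopologicalSpace Opposite ZeroObject

namespace Groth.Agent.Lib.CohAbH2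

open Groth.Agent.Lib.FormalQuotH2 Groth.Agent.Lib.FibVanH2 QcqsLoc

section Cat

variable (X : Scheme.{u})

/-- coherence as an object property -/
def cohP : ObjectProperty X.Modules := fun M => Coh.IsCoh M

/-- the category of coherent modules -/
abbrev CohC : Type (u + 1) := (cohP X).FullSubcategory

variable [IsLocallyNoetherian X]

instance : (cohP X).IsClosedUnderIsomorphisms where
  of_iso e h := CohDevH8.isCoh_of_iso e.symm h

instance : (cohP X).ContainsZero where
  exists_zero := ⟨0, isZero_zero _, CohDevH8.isCoh_of_isZero (isZero_zero _)⟩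

instance : (cohP X).IsClosedUnderKernels where
  kernels_le := by
    rintro M ⟨f, k, hk, hf⟩
    exact CohDevH8.isCoh_of_iso (IsLimit.conePointUniqueUpToIso hk (kernelIsKernel f))
      (CohKerH8.isCoh_kernel hf.1 hf.2 f)

instance : (cohP X).IsClosedUnderCokernels where
  cokernels_le := by
    rintro M ⟨f, k, hk, hf⟩
    exact CohDevH8.isCoh_of_iso (IsColimit.coconePointUniqueUpToIso hk (cokernelIsCokernel f))
      (CohKerH8.isCoh_cokernel hf.1 hf.2 f)

instance : (cohP X).IsClosedUnderBinaryProducts :=
  ObjectProperty.IsClosedUnderLimitsOfShape.mk' (by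
    rintro _ ⟨F, hF⟩
    exact CohDevH8.isCoh_of_iso
      (HasLimit.isoOfNatIso (diagramIsoPair F) ≪≫ (biprod.isoProd _ _).symm)
      (CohDevH8.isCoh_biprod (hF ⟨WalkingPair.left⟩) (hF ⟨WalkingPair.right⟩)))

instance : (cohP X).IsClosedUnderFiniteProducts := ObjectProperty.IsClosedUnderFiniteProducts.mk'

noncomputable instance : Abelian (CohC X) := inferInstance

end Cat

section Noeth

variable {X : Scheme.{u}} [IsLocallyNoetherian X]

theorem mono_hom {F G : CohC X} (f : F ⟶ G) [Mono f] : Mono f.hom := by
  haveI := (cohP X).preservesMonomorphisms_ι_of_isNormalEpiCategory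
  exact inferInstanceAs (Mono ((cohP X).ι.map f))

theorem isIso_of_isIso_hom {F G : CohC X} (f : F ⟶ G) (h : IsIso f.hom) : IsIso f := by
  haveI : IsIso ((cohP X).ι.map f) := h
  exact isIso_of_reflects_iso f (cohP X).ι

/-- the submodule of sections of a subobject -/
noncomputable def secSub {F : CohC X} (S : Subobject F) (U : X.Opens) :
    Submodule Γ(X, U) Γ(F.obj, U) :=
  LinearMap.range (sl S.arrow.hom U)

theorem secSub_mono {F : CohC X} {S S' : Subobject F} (h : S ≤ S') (U : X.Opens) :
    secSub S U ≤ secSub S' U := by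
  have e : S.arrow.hom = (Subobject.ofLE S S' h).hom ≫ S'.arrow.hom :=
    (congrArg (fun t => t.hom) (Subobject.ofLE_arrow h)).symm
  unfold secSub
  rw [e, sl_comp]
  exact LinearMap.range_comp_le_range _ _

/-- subobjects `S ≤ S'` with the same sections over an affine cover are equal -/
theorem eq_of_le_of_secSub_le {F : CohC X} {S S' : Subobject F} (h : S ≤ S')
    (𝒰 : Set X.Opens) (h𝒰 : ∀ U ∈ 𝒰, IsAffineOpen U) (hcov : ∀ x : X, ∃ U ∈ 𝒰, x ∈ U)
    (hs : ∀ U ∈ 𝒰, secSub S' U ≤ secSub S U) : S = S' := by
  set j := Subobject.ofLE S S' h with hj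
  have e : j.hom ≫ S'.arrow.hom = S.arrow.hom :=
    congrArg (fun t => t.hom) (Subobject.ofLE_arrow h)
  haveI : Mono j.hom := mono_hom j
  haveI : Mono S'.arrow.hom := mono_hom S'.arrow
  haveI : ((Subobject.underlying.obj S' : CohC X).obj).IsQuasicoherent :=
    (Subobject.underlying.obj S' : CohC X).property.1
  haveI : Epi j.hom := by
    apply Abelian.epi_of_cokernel_π_eq_zero
    refine hom_eq_zero_of_affine_cover _ 𝒰 h𝒰 hcov (fun U hU y => ?_)
    have h1 : sl S'.arrow.hom U y ∈ secSub S U := hs U hU ⟨y, rfl⟩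
    obtain ⟨x, hx⟩ := h1
    have h2 : sl S'.arrow.hom U (sl j.hom U x) = sl S'.arrow.hom U y := by
      rw [sl_comp_apply, e]
      exact hx
    have h3 : sl j.hom U x = y := sl_injective_of_mono S'.arrow.hom U h2
    rw [← h3]
    show (cokernel.π j.hom).app U (j.hom.app U x) = 0
    rw [← comp_app', cokernel.condition, zero_app']
  haveI : IsIso j.hom := isIso_of_mono_of_epi j.hom
  haveI : IsIso j := isIso_of_isIso_hom j inferInstance
  refine le_antisymm h (Subobject.le_of_comm (inv j) ?_)
  rw [IsIso.inv_comp_eq]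
  exact (Subobject.ofLE_arrow h).symm

theorem isNoetherianObject [AlgebraicGeometry.IsNoetherian X] (F : CohC X) :
    IsNoetherianObject F := by
  rw [isNoetherianObject_iff_monotone_chain_condition]
  intro f
  obtain ⟨s, hsfin, hs⟩ := (isCompact_iff_finite_and_eq_biUnion_affineOpens
    (X := X) (U := ⊤)).mp (by simpa using isCompact_univ)
  haveI : F.obj.IsQuasicoherent := F.property.1
  haveI := F.property.2
  have hU : ∀ U : X.affineOpens, ∃ n, ∀ m, n ≤ m → secSub (f n) U.1 = secSub (f m) U.1 := by
    intro U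
    haveI : IsNoetherianRing Γ(X, U.1) := IsLocallyNoetherian.component_noetherian U
    haveI : Module.Finite Γ(X, U.1) Γ(F.obj, U.1) := QCohFT.finite_of_isFiniteType F.obj U.2
    haveI : IsNoetherian Γ(X, U.1) Γ(F.obj, U.1) := isNoetherian_of_isNoetherianRing_of_finite _ _
    exact (monotone_stabilizes_iff_noetherian.mpr inferInstance)
      ⟨fun n => secSub (f n) U.1, fun a b hab => secSub_mono (f.monotone hab) _⟩
  choose N hN using hU
  obtain ⟨n₀, hn₀⟩ := (hsfin.image N).bddAbove
  refine ⟨n₀, fun m hm => eq_of_le_of_secSub_le (f.monotone hm)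
    {U | ∃ V ∈ s, V.1 = U} ?_ ?_ ?_⟩
  · rintro _ ⟨V, -, rfl⟩
    exact V.2
  · intro p
    obtain ⟨U, hUs, hpU⟩ : ∃ U ∈ s, p ∈ U.1 := by
      have h1 : p ∈ (⊤ : X.Opens) := trivial
      rw [hs] at h1
      simpa using h1
    exact ⟨U.1, ⟨U, hUs, rfl⟩, hpU⟩
  · rintro _ ⟨V, hV, rfl⟩
    have h1 : N V ≤ n₀ := hn₀ (Set.mem_image_of_mem N hV)
    rw [← hN V n₀ h1, hN V m (h1.trans hm)]

end Noeth

end Groth.Agent.Lib.CohAbH2
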