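import Mathlib
import Groth.Prelude
import Groth.Agent.Lib.CohAb1_helper2
import Groth.Agent.Lib.ARAbCat_helper4

/-!
# Coherent formal modules as adic Noetherian systems (helper2)

`X` a Noetherian scheme over `Spec A`, `I ⊆ A`.  Via a ring map `ρ : B → A` from a Noetherian ring
with an ideal `J` such that `ρ(J) O_X = I O_X`, the category `CohC X` of coherent modules is a
`B`-linear abelian category with Noetherian objects, and `Formal2.CohFormalCat I X` is equivalent
to the category of `J`-adic Noetherian systems in `CohC X` of helper4's `ARAbCat`, which is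
abelian.  In particular `CohFormalCat I X` has kernels (S0834).
APPEND-ONLY once landed.
-/

set_option autoImplicit false
set_option backward.isDefEq.respectTransparency false
set_option linter.style.haveILetI false
set_option linter.unusedSectionVars false
set_option linter.overlappingInstances false
universe w u
open CategoryTheory CategoryTheory.Limits AlgebraicGeometry TopologicalSpace Opposite

namespace Groth.Agent.Lib.CohAbH2

open Formal Groth.Agent.Lib.FormalModPowH4 Groth.Agent.Lib.FormalFnH2 Groth.Agent.Lib.FibAmpH2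
  Groth.Agent.Lib.FormalQuotH2 Groth.Agent.Lib.ARAbCatH4

section Lin

variable {A : Type u} [CommRing A] {X : Scheme.{u}} [X.Over (Spec (CommRingCat.of A))]
  {B : Type w} [CommRing B]

/-- the `B`-linear structure on modules induced by `ρ : B →+* A` -/
noncomputable def linMod (ρ : B →+* A) : Linear B X.Modules where
  homModule M N :=
    { smul := fun b f => f ≫ Formal.smulMod A N (ρ b)
      one_smul := fun f => by
        show f ≫ Formal.smulMod A N (ρ 1) = f
        rw [map_one, smulMod_one, Category.comp_id]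
      mul_smul := fun b c f => by
        show f ≫ Formal.smulMod A N (ρ (b * c)) =
          (f ≫ Formal.smulMod A N (ρ c)) ≫ Formal.smulMod A N (ρ b)
        rw [map_mul, smulMod_mul, Category.assoc]
      smul_zero := fun b => by
        show (0 : M ⟶ N) ≫ Formal.smulMod A N (ρ b) = 0
        rw [zero_comp]
      smul_add := fun b f g => by
        show (f + g) ≫ Formal.smulMod A N (ρ b) =
          f ≫ Formal.smulMod A N (ρ b) + g ≫ Formal.smulMod A N (ρ b)
        rw [Preadditive.add_comp]
      add_smul := fun b c f => by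
        show f ≫ Formal.smulMod A N (ρ (b + c)) =
          f ≫ Formal.smulMod A N (ρ b) + f ≫ Formal.smulMod A N (ρ c)
        rw [map_add, smulMod_add, Preadditive.comp_add]
      zero_smul := fun f => by
        show f ≫ Formal.smulMod A N (ρ 0) = 0
        rw [map_zero, smulMod_zero, comp_zero] }
  smul_comp M N P b f g := by
    show (f ≫ Formal.smulMod A N (ρ b)) ≫ g = (f ≫ g) ≫ Formal.smulMod A P (ρ b)
    rw [Category.assoc, smulMod_naturality, Category.assoc]
  comp_smul M N P f b g := by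
    show f ≫ (g ≫ Formal.smulMod A P (ρ b)) = (f ≫ g) ≫ Formal.smulMod A P (ρ b)
    rw [Category.assoc]

end Lin

section Bridge

variable {A : Type u} [CommRing A] (I : Ideal A) {X : Scheme.{u}}
  [X.Over (Spec (CommRingCat.of A))] [AlgebraicGeometry.IsNoetherian X]
  {B : Type w} [CommRing B] (ρ : B →+* A) (J : Ideal B) [Linear B X.Modules]
  (hsmul : ∀ (b : B) {M N : X.Modules} (f : M ⟶ N), b • f = f ≫ Formal.smulMod A N (ρ b))
  (hle : Ideal.map ρ J ≤ I)
  (hcomp : ∀ (n : ℕ) {M Z : X.Modules} (g : M ⟶ Z),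
    (∀ b ∈ J ^ n, Formal.smulMod A M (ρ b) ≫ g = 0) →
      ∀ a ∈ I ^ n, Formal.smulMod A M a ≫ g = 0)

theorem smul_hom (b : B) {F G : CohC X} (f : F ⟶ G) : (b • f).hom = b • f.hom := rfl

include hsmul in
theorem smul_id_hom (b : B) (Y : CohC X) :
    (b • 𝟙 Y : Y ⟶ Y).hom = Formal.smulMod A Y.obj (ρ b) := by
  rw [smul_hom, hsmul]
  exact Category.id_comp _

include hsmul in
theorem smul_hom' (b : B) {F G : CohC X} (f : F ⟶ G) :
    (b • f).hom = Formal.smulMod A F.obj (ρ b) ≫ f.hom := by
  rw [smul_hom, hsmul, smulMod_naturality]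

include hsmul in
theorem killedBy_iff (K : Ideal B) (Y : CohC X) :
    ARSys.KilledBy K Y ↔ ∀ b ∈ K, Formal.smulMod A Y.obj (ρ b) = 0 := by
  constructor
  · intro h b hb
    rw [← smul_id_hom ρ hsmul b Y]
    exact congrArg (fun t => t.hom) (h b hb)
  · intro h b hb
    apply ObjectProperty.hom_ext
    rw [smul_id_hom ρ hsmul b Y, h b hb]
    rfl

include hsmul in
theorem homKilledBy_iff (K : Ideal B) {Y Z : CohC X} (φ : Y ⟶ Z) :
    ARSys.HomKilledBy K φ ↔ ∀ b ∈ K, Formal.smulMod A Y.obj (ρ b) ≫ φ.hom = 0 := by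
  constructor
  · intro h b hb
    rw [← smul_hom' ρ hsmul b φ]
    exact congrArg (fun t => t.hom) (h b hb)
  · intro h b hb
    apply ObjectProperty.hom_ext
    rw [smul_hom' ρ hsmul b φ, h b hb]
    rfl

include hle in
theorem map_mem_pow {k : ℕ} {b : B} (hb : b ∈ J ^ k) : ρ b ∈ I ^ k :=
  Ideal.pow_right_mono hle k (by
    rw [← Ideal.map_pow]
    exact Ideal.mem_map_of_mem ρ hb)

include hsmul hcomp in
theorem killed_of_arsKilled {k : ℕ} (Y : CohC X) (h : ARSys.KilledBy (J ^ k) Y) :
    Formal.KilledBy (I ^ k) Y.obj := by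
  intro a ha
  have h1 := hcomp k (𝟙 Y.obj) (fun b hb => by
    rw [Category.comp_id]
    exact (killedBy_iff ρ hsmul _ Y).mp h b hb) a ha
  rwa [Category.comp_id] at h1

include hsmul hle hcomp in
theorem arsIsQuot_of_isQuot {k : ℕ} {F G : CohC X} (t : F ⟶ G)
    (ht : FormalQuotH2.IsQuot (I ^ k) t.hom) : ARSys.IsQuot (J ^ k) t := by
  haveI := ht.2.1
  have hG : Formal.KilledBy (I ^ k) G.obj := by
    intro a ha
    rw [← cancel_epi t.hom, comp_zero, ← smulMod_naturality]
    exact ht.1 a ha
  refine ⟨(killedBy_iff ρ hsmul _ G).mpr (fun b hb => hG _ (map_mem_pow I ρ J hle hb)),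
    fun Y φ hφ => ?_⟩
  have h1 : ∀ a ∈ I ^ k, Formal.smulMod A F.obj a ≫ φ.hom = 0 :=
    hcomp k φ.hom ((homKilledBy_iff ρ hsmul _ φ).mp hφ)
  obtain ⟨g', hg'⟩ := ht.2.2 Y.obj φ.hom h1
  refine ⟨ObjectProperty.homMk g', ObjectProperty.hom_ext _ hg', fun ψ hψ => ?_⟩
  apply ObjectProperty.hom_ext
  show ψ.hom = g'
  rw [← cancel_epi t.hom, hg']
  exact congrArg (fun t => t.hom) hψ

include hsmul hle hcomp in
theorem cond_of_arsIsQuot {k : ℕ} {F G : CohC X} (t : F ⟶ G) (ht : ARSys.IsQuot (J ^ k) t) :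
    ∃ h : Formal.smulFamily (I ^ k) F.obj ≫ t.hom = 0, IsIso (cokernel.desc _ t.hom h) := by
  have hGk : Formal.KilledBy (I ^ k) G.obj := killed_of_arsKilled I ρ J hsmul hcomp G ht.1
  have h : Formal.smulFamily (I ^ k) F.obj ≫ t.hom = 0 :=
    smulFamily_comp_eq_zero _ _ (fun a ha => by rw [smulMod_naturality, hGk a ha, comp_zero])
  refine ⟨h, ?_⟩
  let Q : CohC X := ⟨Formal.modPow I k F.obj, isCoh_modPow I F.property k⟩
  let π : F ⟶ Q := ObjectProperty.homMk (Formal.modPowπ I k F.obj)
  have hπ : ARSys.HomKilledBy (J ^ k) π := (homKilledBy_iff ρ hsmul _ π).mpr (fun b hb =>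
    smulMod_modPowπ F.obj I k (map_mem_pow I ρ J hle hb))
  obtain ⟨ψ, hψ, -⟩ := ht.2 Q π hπ
  have ht' : ARSys.HomKilledBy (J ^ k) t := (homKilledBy_iff ρ hsmul _ t).mpr (fun b hb => by
    rw [smulMod_naturality, hGk _ (map_mem_pow I ρ J hle hb), comp_zero])
  obtain ⟨ψ', -, huniq⟩ := ht.2 G t ht'
  have hψ' : t.hom ≫ ψ.hom = Formal.modPowπ I k F.obj := congrArg (fun t => t.hom) hψ
  obtain ⟨d, hd⟩ : ∃ d : Formal.modPow I k F.obj ⟶ G.obj,
      d = cokernel.desc (Formal.smulFamily (I ^ k) F.obj) t.hom h := ⟨_, rfl⟩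
  have hπd : Formal.modPowπ I k F.obj ≫ d = t.hom := by
    rw [hd]
    exact cokernel.π_desc _ _ _
  have h1 : d ≫ ψ.hom = 𝟙 _ := by
    rw [← cancel_epi (Formal.modPowπ I k F.obj), ← Category.assoc, hπd, Category.comp_id]
    exact hψ'
  have h2 : ψ.hom ≫ d = 𝟙 _ := by
    have e1 : ψ ≫ (ObjectProperty.homMk d : Q ⟶ G) = ψ' := huniq _ (by
      apply ObjectProperty.hom_ext
      show t.hom ≫ ψ.hom ≫ d = t.hom
      rw [← Category.assoc, hψ', hπd])
    have e2 : 𝟙 G = ψ' := huniq _ (Category.comp_id t)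
    exact congrArg (fun t => t.hom) (e1.trans e2.symm)
  rw [← hd]
  exact ⟨⟨ψ.hom, h1, h2⟩⟩

/-- a coherent formal system as a system of coherent modules -/
noncomputable def liftSys (G : ℕᵒᵖ ⥤ X.Modules) (hG : Formal.IsCohFormal I G) :
    ℕᵒᵖ ⥤ CohC X :=
  (cohP X).lift G (fun j => hG.1 j.unop)

include hsmul hle hcomp in
theorem isAdicNoeth_liftSys (G : ℕᵒᵖ ⥤ X.Modules) (hG : Formal.IsCohFormal I G) :
    ARSys.IsAdicNoeth J (liftSys I G hG) := by
  refine ⟨⟨fun n => ?_, fun n m h => ?_⟩, fun n => isNoetherianObject _⟩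
  · exact (killedBy_iff ρ hsmul _ _).mpr (fun b hb => hG.2.1 n _ (map_mem_pow I ρ J hle hb))
  · exact arsIsQuot_of_isQuot I ρ J hsmul hle hcomp ((liftSys I G hG).map (homOfLE h).op)
      (isQuot_gm hG h)

include hsmul hle hcomp in
theorem isCohFormal_of_isAdicNoeth (Y : ARSys.PS (CohC X)) (hY : ARSys.IsAdicNoeth J Y) :
    Formal.IsCohFormal I (Y ⋙ (cohP X).ι) := by
  refine ⟨fun n => (Y.obj (op n)).property, fun n => ?_, fun n => ?_⟩
  · exact killed_of_arsKilled I ρ J hsmul hcomp (Y.obj (op n)) (hY.1.1 n)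
  · exact cond_of_arsIsQuot I ρ J hsmul hle hcomp (Y.map (homOfLE (Nat.le_succ n)).op)
      (hY.1.2 n (n + 1) (Nat.le_succ n))

/-- morphisms of systems of coherent modules -/
noncomputable def liftMap {G G' : ℕᵒᵖ ⥤ X.Modules} (hG : Formal.IsCohFormal I G)
    (hG' : Formal.IsCohFormal I G') (φ : G ⟶ G') : liftSys I G hG ⟶ liftSys I G' hG' where
  app j := ObjectProperty.homMk (φ.app j)
  naturality j j' f := by
    apply ObjectProperty.hom_ext
    exact φ.naturality f

/-- the comparison functor to helper4's category of adic Noetherian systems -/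
noncomputable def E : Formal2.CohFormalCat I X ⥤ D (C := CohC X) J where
  obj G := ⟨liftSys I G.obj G.property,
    isAdicNoeth_liftSys I ρ J hsmul hle hcomp G.obj G.property⟩
  map {G G'} φ := ObjectProperty.homMk (liftMap I G.property G'.property φ.hom)
  map_id G := by
    apply ObjectProperty.hom_ext
    apply NatTrans.ext
    funext j
    apply ObjectProperty.hom_ext
    rfl
  map_comp φ ψ := by
    apply ObjectProperty.hom_ext
    apply NatTrans.ext
    funext j
    apply ObjectProperty.hom_ext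
    rfl

instance E_faithful : (E I ρ J hsmul hle hcomp).Faithful where
  map_injective {G G'} φ φ' h := by
    apply ObjectProperty.hom_ext
    apply NatTrans.ext
    funext j
    exact congrArg (fun t => (t.hom.app j).hom) h

instance E_full : (E I ρ J hsmul hle hcomp).Full where
  map_surjective {G G'} ψ := by
    refine ⟨ObjectProperty.homMk
      { app := fun j => (ψ.hom.app j).hom
        naturality := fun j j' f => congrArg (fun t => t.hom) (ψ.hom.naturality f) }, ?_⟩
    apply ObjectProperty.hom_ext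
    apply NatTrans.ext
    funext j
    apply ObjectProperty.hom_ext
    rfl

instance E_essSurj : (E I ρ J hsmul hle hcomp).EssSurj where
  mem_essImage Y := by
    refine ⟨⟨Y.obj ⋙ (cohP X).ι, isCohFormal_of_isAdicNoeth I ρ J hsmul hle hcomp Y.obj
      Y.property⟩, ⟨ObjectProperty.isoMk _ (NatIso.ofComponents
        (fun j => ObjectProperty.isoMk _ (Iso.refl _)) (fun {j j'} f => ?_))⟩⟩
    apply ObjectProperty.hom_ext
    show (Y.obj.map f).hom ≫ 𝟙 _ = 𝟙 _ ≫ (Y.obj.map f).hom
    rw [Category.comp_id, Category.id_comp]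

include hsmul hle hcomp in
theorem hasKernels_of_data [IsNoetherianRing B] : HasKernels (Formal2.CohFormalCat I X) := by
  obtain ⟨hab⟩ := nonempty_abelian (C := CohC X) J
  haveI : HasLimitsOfShape WalkingParallelPair (D (C := CohC X) J) := by
    letI := hab
    infer_instance
  haveI : (E I ρ J hsmul hle hcomp).IsEquivalence := {}
  haveI : HasLimitsOfShape WalkingParallelPair (Formal2.CohFormalCat I X) :=
    Adjunction.hasLimitsOfShape_of_equivalence (E I ρ J hsmul hle hcomp)
  infer_instance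

end Bridge

section Main

variable {A : Type u} [CommRing A] (I : Ideal A) (X : Scheme.{u})
  [X.Over (Spec (CommRingCat.of A))] [AlgebraicGeometry.IsNoetherian X]

theorem main0834 : HasKernels (Formal2.CohFormalCat I X) := by
  classical
  obtain ⟨I₀, hI₀le, hfg, hI₀⟩ := exists_fg_le A I X
  obtain ⟨r, a, ha⟩ := Submodule.fg_iff_exists_fin_generating_family.mp hfg
  let ρ : MvPolynomial (Fin r) ℤ →+* A := MvPolynomial.eval₂Hom (Int.castRingHom A) a
  let J : Ideal (MvPolynomial (Fin r) ℤ) :=
    Ideal.span (Set.range (MvPolynomial.X : Fin r → MvPolynomial (Fin r) ℤ))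
  have hmap : Ideal.map ρ J = I₀ := by
    rw [Ideal.map_span, ← Set.range_comp, ← ha]
    congr 2
    funext i
    exact MvPolynomial.eval₂_X _ _ i
  have hle : Ideal.map ρ J ≤ I := hmap.trans_le hI₀le
  have hcomp : ∀ (n : ℕ) {M Z : X.Modules} (g : M ⟶ Z),
      (∀ b ∈ J ^ n, Formal.smulMod A M (ρ b) ≫ g = 0) →
        ∀ a ∈ I ^ n, Formal.smulMod A M a ≫ g = 0 := by
    intro n M Z g hg
    refine hI₀ n g (fun a' ha' => ?_)
    rw [← hmap, ← Ideal.map_pow] at ha'
    refine Submodule.span_induction (p := fun x _ => Formal.smulMod A M x ≫ g = 0)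
      ?_ ?_ ?_ ?_ ha'
    · rintro _ ⟨b, hb, rfl⟩
      exact hg b hb
    · rw [smulMod_zero, zero_comp]
    · intro x y _ _ hx hy
      rw [smulMod_add, Preadditive.add_comp, hx, hy, add_zero]
    · intro c x _ hx
      rw [smul_eq_mul, smulMod_mul, Category.assoc, smulMod_naturality g c, ← Category.assoc, hx,
        zero_comp]
  letI : Linear (MvPolynomial (Fin r) ℤ) X.Modules := linMod ρ
  exact hasKernels_of_data I ρ J (fun _ _ _ _ => rfl) hle hcomp

end Main

end Groth.Agent.Lib.CohAbH2
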