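import Mathlib
import Groth.Prelude
import Groth.Agent.Lib.AdicSys1_helper2

/-!
# Finite-level Artin–Rees for maps from an adic system to the completion of a finite module (helper2)

`R` Noetherian, `J` an ideal, `N` a finite `R`-module, `(Y_n)` an adic system of `R`-modules
(`Y_{n+1} → Y_n` surjective with kernel `J^{n+1}Y_{n+1}`, `J^{n+1}Y_n = 0`), `(Nn_n)` the system
`N/J^{n+1}N` (given abstractly through surjections `p_n : N → Nn_n` with kernel `J^{n+1}N`), and a map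
of systems `α_n : Y_n → Nn_n` whose kernels and cokernels are killed by `J^c`.

* `AdicData` : the data;
* `AdicData.exists_lift` : lifting compatible families (Mittag-Leffler for the fibres);
* `AdicData.core` : uniform Artin–Rees: an element of `ker α_m` dying in `Y_n` (`n ≥ n₀`) dies in
  `Y_j` for `j + 2c ≤ m`;
* `AdicData.E` : the fibre product `N ×_{lim Nn} lim Y`;
* `AdicData.mem_smul_top_of_proj_eq_zero` : `ker (E → Y_n) = J^{n+1} E`.
APPEND-ONLY once landed.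
-/

set_option autoImplicit false
universe u

namespace Groth.Agent.Lib.FormalARH2

open Groth.Agent.Lib.AdicSysH2

section Gen

variable {R : Type u} [CommRing R]

theorem exists_generators_of_fg' {K : Ideal R} (hK : K.FG) :
    ∃ (σ : Type u) (_ : Fintype σ) (a : σ → R), (∀ i, a i ∈ K) ∧ Ideal.span (Set.range a) = K := by
  obtain ⟨s, hs⟩ := hK
  refine ⟨{x // x ∈ s}, inferInstance, Subtype.val, fun i => ?_, ?_⟩
  · rw [← hs]
    exact Ideal.subset_span i.2
  · rw [Subtype.range_coe_subtype]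
    exact hs

theorem exists_sum_pairs {M : Type u} [AddCommGroup M] [Module R M] {ι : Type u} [Fintype ι]
    (g : ι → R) (K : Ideal R) (hK : Ideal.span (Set.range g) = K) (P : Submodule R M) (x : M)
    (hx : x ∈ K • (K • P)) :
    ∃ w : ι × ι → M, (∀ l, w l ∈ P) ∧ x = ∑ l, (g l.1 * g l.2) • w l := by
  rw [← hK] at hx
  obtain ⟨u, hu, rfl⟩ := exists_sum_of_mem_span_smul g (Ideal.span (Set.range g) • P) x hx
  choose w hw hw' using fun i => exists_sum_of_mem_span_smul g P (u i) (hu i)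
  refine ⟨fun l => w l.1 l.2, fun l => hw l.1 l.2, ?_⟩
  rw [Fintype.sum_prod_type]
  refine Finset.sum_congr rfl (fun i _ => ?_)
  rw [hw' i, Finset.smul_sum]
  refine Finset.sum_congr rfl (fun j _ => ?_)
  rw [mul_smul]

theorem exists_mem_smul_top_of_surjective {M M' : Type u} [AddCommGroup M] [Module R M]
    [AddCommGroup M'] [Module R M'] (f : M →ₗ[R] M') (hf : Function.Surjective f) (K : Ideal R)
    {ν : M'} (hν : ν ∈ K • (⊤ : Submodule R M')) :
    ∃ x ∈ K • (⊤ : Submodule R M), f x = ν := by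
  have h1 : K • (⊤ : Submodule R M') = Submodule.map f (K • (⊤ : Submodule R M)) := by
    rw [Submodule.map_smul'', Submodule.map_top, LinearMap.range_eq_top.mpr hf]
  rw [h1] at hν
  exact hν

theorem pi_mem_smul_top {κ : Type u} [Fintype κ] [DecidableEq κ] {M : Type u} [AddCommGroup M]
    [Module R M] (K : Ideal R) (v : κ → M) (hv : ∀ l, v l ∈ K • (⊤ : Submodule R M)) :
    v ∈ K • (⊤ : Submodule R (κ → M)) := by
  have h1 : v = ∑ l, (LinearMap.single R (fun _ : κ => M) l) (v l) := by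
    funext l'
    rw [Finset.sum_apply]
    simp [Pi.single_apply]
  rw [h1]
  exact Submodule.sum_mem _ (fun l _ => map_mem_smul_top K _ (hv l))

end Gen

/-- the data of an adic system mapping to the completion of a module, with kernels and cokernels
killed by `J^c` -/
structure AdicData (R : Type u) [CommRing R] (J : Ideal R) (c : ℕ) (N : Type u) [AddCommGroup N]
    [Module R N] where
  Y : ℕ → Type u
  Nn : ℕ → Type u
  [acgY : ∀ n, AddCommGroup (Y n)]
  [modY : ∀ n, Module R (Y n)]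
  [acgN : ∀ n, AddCommGroup (Nn n)]
  [modN : ∀ n, Module R (Nn n)]
  T : ∀ {n m : ℕ}, n ≤ m → Y m →ₗ[R] Y n
  S : ∀ {n m : ℕ}, n ≤ m → Nn m →ₗ[R] Nn n
  p : ∀ n, N →ₗ[R] Nn n
  α : ∀ n, Y n →ₗ[R] Nn n
  T_refl : ∀ (n : ℕ) (y : Y n), T (le_refl n) y = y
  T_trans : ∀ {n m k : ℕ} (h1 : n ≤ m) (h2 : m ≤ k) (y : Y k), T h1 (T h2 y) = T (h1.trans h2) y
  T_surj : ∀ {n m : ℕ} (h : n ≤ m), Function.Surjective (T h)
  T_ker : ∀ {n m : ℕ} (h : n ≤ m), LinearMap.ker (T h) ≤ J ^ (n + 1) • (⊤ : Submodule R (Y m))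
  Y_kill : ∀ n, J ^ (n + 1) • (⊤ : Submodule R (Y n)) = ⊥
  S_p : ∀ {n m : ℕ} (h : n ≤ m) (g : N), S h (p m g) = p n g
  p_surj : ∀ n, Function.Surjective (p n)
  p_ker : ∀ n, LinearMap.ker (p n) ≤ J ^ (n + 1) • (⊤ : Submodule R N)
  α_nat : ∀ {n m : ℕ} (h : n ≤ m) (y : Y m), S h (α m y) = α n (T h y)
  ker_kill : ∀ n, ∀ a ∈ J ^ c, ∀ z : Y n, α n z = 0 → a • z = 0
  coker_kill : ∀ n, ∀ a ∈ J ^ c, ∀ ν : Nn n, a • ν ∈ LinearMap.range (α n)

attribute [instance] AdicData.acgY AdicData.modY AdicData.acgN AdicData.modN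

namespace AdicData

variable {R : Type u} [CommRing R] {J : Ideal R} {c : ℕ} {N : Type u} [AddCommGroup N]
  [Module R N] (D : AdicData R J c N)

theorem T_mem_smul_top {n m : ℕ} (h : n ≤ m) (K : Ideal R) {y : D.Y m}
    (hy : y ∈ K • (⊤ : Submodule R (D.Y m))) : D.T h y ∈ K • (⊤ : Submodule R (D.Y n)) :=
  map_mem_smul_top K (D.T h) hy

theorem eq_zero_of_mem_pow {n k : ℕ} (hk : n + 1 ≤ k) {y : D.Y n}
    (hy : y ∈ J ^ k • (⊤ : Submodule R (D.Y n))) : y = 0 := by
  have h1 : J ^ k • (⊤ : Submodule R (D.Y n)) ≤ J ^ (n + 1) • ⊤ :=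
    Submodule.smul_mono_left (Ideal.pow_le_pow_right hk)
  have h2 := h1 hy
  rw [D.Y_kill n] at h2
  exact (Submodule.mem_bot R).mp h2

theorem S_ker {n m : ℕ} (h : n ≤ m) (ν : D.Nn m) (hν : D.S h ν = 0) :
    ν ∈ J ^ (n + 1) • (⊤ : Submodule R (D.Nn m)) := by
  obtain ⟨g, rfl⟩ := D.p_surj m ν
  rw [D.S_p] at hν
  have h1 : g ∈ J ^ (n + 1) • (⊤ : Submodule R N) := D.p_ker n hν
  exact map_mem_smul_top (J ^ (n + 1)) (D.p m) h1

theorem mem_map_of_mem_pow (n k : ℕ) (ε : D.Nn n)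
    (hε : ε ∈ J ^ (k + c) • (⊤ : Submodule R (D.Nn n))) :
    ∃ δ ∈ J ^ k • (⊤ : Submodule R (D.Y n)), D.α n δ = ε := by
  have h1 : J ^ c • (⊤ : Submodule R (D.Nn n)) ≤ LinearMap.range (D.α n) := by
    rw [Submodule.smul_le]
    intro a ha ν _
    exact D.coker_kill n a ha ν
  have h2 : ε ∈ J ^ k • LinearMap.range (D.α n) := by
    rw [pow_add, mul_smul] at hε
    exact Submodule.smul_mono le_rfl h1 hε
  rw [← Submodule.map_top, ← Submodule.map_smul''] at h2
  obtain ⟨δ, hδ, rfl⟩ := h2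
  exact ⟨δ, hδ, rfl⟩

/-- lifting along the tower through liftable subsets -/
theorem exists_compatible (Sst : ∀ k, Set (D.Y k))
    (hlift : ∀ k, ∀ y ∈ Sst k, ∃ y' ∈ Sst (k + 1), D.T (Nat.le_succ k) y' = y)
    (n : ℕ) (v : D.Y n) (hv : v ∈ Sst n) :
    ∃ y : ∀ k, D.Y k, (∀ k l (h : k ≤ l), D.T h (y l) = y k) ∧ y n = v ∧
      ∀ k, n ≤ k → y k ∈ Sst k := by
  classical
  have hS' : ∀ (k : ℕ) (y : D.Y k), ∃ x : D.Y (k + 1),
      y ∈ Sst k → (x ∈ Sst (k + 1) ∧ D.T (Nat.le_succ k) x = y) := by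
    intro k y
    by_cases hy : y ∈ Sst k
    · obtain ⟨x, hx1, hx2⟩ := hlift k y hy
      exact ⟨x, fun _ => ⟨hx1, hx2⟩⟩
    · exact ⟨0, fun h => absurd h hy⟩
  choose lift hlift' using hS'
  let w : ∀ m, D.Y m := fun m =>
    Nat.rec (motive := fun m => D.Y m) (D.T (Nat.zero_le n) v)
      (fun m wm => if h : m + 1 ≤ n then D.T h v else lift m wm) m
  have hw0 : w 0 = D.T (Nat.zero_le n) v := rfl
  have hws : ∀ m, w (m + 1) = if h : m + 1 ≤ n then D.T h v else lift m (w m) := fun m => rfl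
  have hA : ∀ m (h : m ≤ n), w m = D.T h v := by
    intro m h
    cases m with
    | zero => exact hw0
    | succ m => rw [hws, dif_pos h]
  have hmem : ∀ m, n ≤ m → w m ∈ Sst m := by
    intro m hm
    induction m, hm using Nat.le_induction with
    | base =>
      rw [hA n le_rfl, D.T_refl]
      exact hv
    | succ m hm ih =>
      rw [hws, dif_neg (by omega)]
      exact (hlift' m (w m) ih).1
  have hB : ∀ m, D.T (Nat.le_succ m) (w (m + 1)) = w m := by
    intro m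
    by_cases h : m + 1 ≤ n
    · rw [hws, dif_pos h, hA m (Nat.le_of_succ_le h), D.T_trans]
    · rw [hws, dif_neg h]
      exact (hlift' m (w m) (hmem m (by omega))).2
  have hC : ∀ k l (h : k ≤ l), D.T h (w l) = w k := by
    intro k l h
    induction l, h using Nat.le_induction with
    | base => exact D.T_refl k _
    | succ l h ih => rw [← D.T_trans h (Nat.le_succ l), hB l, ih]
  exact ⟨w, hC, by rw [hA n le_rfl, D.T_refl], hmem⟩

/-- Mittag-Leffler for the fibres: an element of `Y_{n+c}` over `g` can be corrected, without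
changing its image in `Y_n`, to a compatible family over `g` -/
theorem exists_lift (n : ℕ) (x : D.Y (n + c)) (g : N) (hx : D.α (n + c) x = D.p (n + c) g) :
    ∃ y : ∀ k, D.Y k, (∀ k l (h : k ≤ l), D.T h (y l) = y k) ∧ (∀ k, D.α k (y k) = D.p k g) ∧
      y n = D.T (Nat.le_add_right n c) x := by
  let Sst : ∀ k, Set (D.Y k) := fun k => {y | ∃ x' : D.Y (k + c),
    D.α (k + c) x' = D.p (k + c) g ∧ D.T (Nat.le_add_right k c) x' = y}
  have hlift : ∀ k, ∀ y ∈ Sst k, ∃ y' ∈ Sst (k + 1), D.T (Nat.le_succ k) y' = y := by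
    rintro k y ⟨x', hx', rfl⟩
    have hle : k + c ≤ k + 1 + c := by omega
    obtain ⟨x0, hx0⟩ := D.T_surj hle x'
    have hε : D.p (k + 1 + c) g - D.α (k + 1 + c) x0 ∈
        J ^ (k + 1 + c) • (⊤ : Submodule R (D.Nn (k + 1 + c))) := by
      have h1 := D.S_ker hle (D.p (k + 1 + c) g - D.α (k + 1 + c) x0) (by
        rw [map_sub, D.S_p, D.α_nat, hx0, hx', sub_self])
      have e : k + c + 1 = k + 1 + c := by omega
      rwa [e] at h1
    obtain ⟨δ, hδ, hδε⟩ := D.mem_map_of_mem_pow (k + 1 + c) (k + 1) _ hε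
    refine ⟨D.T (Nat.le_add_right (k + 1) c) (x0 + δ), ⟨x0 + δ, ?_, rfl⟩, ?_⟩
    · rw [map_add, hδε, add_sub_cancel]
    · rw [D.T_trans, map_add]
      have h2 : D.T ((Nat.le_succ k).trans (Nat.le_add_right (k + 1) c)) δ = 0 :=
        D.eq_zero_of_mem_pow (le_refl _) (D.T_mem_smul_top _ _ hδ)
      rw [h2, add_zero, ← D.T_trans (Nat.le_add_right k c) hle, hx0]
  obtain ⟨y, hy1, hy2, hy3⟩ :=
    D.exists_compatible Sst hlift n (D.T (Nat.le_add_right n c) x) ⟨x, hx, rfl⟩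
  have hkey : ∀ k, n ≤ k → D.α k (y k) = D.p k g := by
    intro k hk
    obtain ⟨x', hx', hxy⟩ := hy3 k hk
    rw [← hxy, ← D.α_nat, hx', D.S_p]
  refine ⟨y, hy1, fun k => ?_, hy2⟩
  by_cases hk : n ≤ k
  · exact hkey k hk
  · have hk' : k ≤ n := by omega
    rw [← hy1 k n hk', ← D.α_nat, hkey n le_rfl, D.S_p]

/-- the fibre product `N ×_{lim Nn} lim Y` -/
def E : Submodule R (N × (∀ k, D.Y k)) where
  carrier := {e | (∀ k l (h : k ≤ l), D.T h (e.2 l) = e.2 k) ∧ ∀ k, D.α k (e.2 k) = D.p k e.1}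
  add_mem' := by
    rintro e e' ⟨h1, h2⟩ ⟨h1', h2'⟩
    refine ⟨fun k l h => ?_, fun k => ?_⟩
    · show D.T h (e.2 l + e'.2 l) = e.2 k + e'.2 k
      rw [map_add, h1 k l h, h1' k l h]
    · show D.α k (e.2 k + e'.2 k) = D.p k (e.1 + e'.1)
      rw [map_add, map_add, h2 k, h2' k]
  zero_mem' := by
    refine ⟨fun k l h => ?_, fun k => ?_⟩
    · show D.T h 0 = 0
      rw [map_zero]
    · show D.α k 0 = D.p k 0
      rw [map_zero, map_zero]
  smul_mem' := by
    rintro a e ⟨h1, h2⟩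
    refine ⟨fun k l h => ?_, fun k => ?_⟩
    · show D.T h (a • e.2 l) = a • e.2 k
      rw [map_smul, h1 k l h]
    · show D.α k (a • e.2 k) = D.p k (a • e.1)
      rw [map_smul, map_smul, h2 k]

/-- the projection `E → N` -/
def fstE : D.E →ₗ[R] N := (LinearMap.fst R N (∀ k, D.Y k)).comp D.E.subtype

/-- the projections `E → Y_k` -/
def projE (k : ℕ) : D.E →ₗ[R] D.Y k :=
  (LinearMap.proj k).comp ((LinearMap.snd R N (∀ k, D.Y k)).comp D.E.subtype)

theorem fstE_apply (e : D.E) : D.fstE e = e.1.1 := rfl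

theorem projE_apply (k : ℕ) (e : D.E) : D.projE k e = e.1.2 k := rfl

theorem T_projE {k l : ℕ} (h : k ≤ l) (e : D.E) : D.T h (D.projE l e) = D.projE k e :=
  e.2.1 k l h

theorem α_projE (k : ℕ) (e : D.E) : D.α k (D.projE k e) = D.p k (D.fstE e) := e.2.2 k

theorem E_ext (e e' : D.E) (h1 : D.fstE e = D.fstE e') (h2 : ∀ k, D.projE k e = D.projE k e') :
    e = e' :=
  Subtype.ext (Prod.ext h1 (funext h2))

theorem projE_surjective (n : ℕ) : Function.Surjective (D.projE n) := by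
  intro x
  obtain ⟨x', hx'⟩ := D.T_surj (Nat.le_add_right n c) x
  obtain ⟨g, hg⟩ := D.p_surj (n + c) (D.α (n + c) x')
  obtain ⟨y, hy1, hy2, hy3⟩ := D.exists_lift n x' g hg.symm
  exact ⟨⟨(g, y), hy1, hy2⟩, hy3.trans hx'⟩

theorem smul_mem_range_fstE (g : N) {a : R} (ha : a ∈ J ^ c) : a • g ∈ LinearMap.range D.fstE := by
  obtain ⟨x, hx⟩ := D.coker_kill (0 + c) a ha (D.p (0 + c) g)
  have hx' : D.α (0 + c) x = D.p (0 + c) (a • g) := by rw [hx, map_smul]
  obtain ⟨y, hy1, hy2, -⟩ := D.exists_lift 0 x (a • g) hx'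
  exact ⟨⟨(a • g, y), hy1, hy2⟩, rfl⟩

/-- **uniform Artin–Rees** -/
theorem core [IsNoetherianRing R] [Module.Finite R N] :
    ∃ n₀ : ℕ, ∀ (n m j : ℕ) (hnm : n ≤ m) (hjm : j ≤ m), n₀ ≤ n → j + 2 * c ≤ m →
      ∀ y : D.Y m, D.α m y = 0 → D.T hnm y = 0 → D.T hjm y = 0 := by
  classical
  obtain ⟨ι, _, g, hg, hspan⟩ := exists_generators_of_fg' (IsNoetherian.noetherian (J ^ c))
  let b : ι × ι → R := fun l => g l.1 * g l.2
  let Ψ : (ι × ι → N) →ₗ[R] N := ∑ l, b l • LinearMap.proj l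
  have hΨ : ∀ v : ι × ι → N, Ψ v = ∑ l, b l • v l := by
    intro v
    show (∑ l, b l • (LinearMap.proj l : (ι × ι → N) →ₗ[R] N)) v = _
    rw [LinearMap.sum_apply]
    rfl
  obtain ⟨k, hk⟩ := Ideal.exists_pow_inf_eq_pow_smul J (LinearMap.ker Ψ)
  refine ⟨k + 3 * c, ?_⟩
  intro n m j hnm hjm hn hj y hαy hTy
  obtain ⟨e, he1, he2⟩ : ∃ e, n + 1 = c + c + e ∧ k + c ≤ e := ⟨n + 1 - 2 * c, by omega, by omega⟩
  obtain ⟨e', he'1, he'2, he'3⟩ : ∃ e', m + 1 = c + c + e' ∧ e ≤ e' ∧ j + 1 ≤ e' :=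
    ⟨m + 1 - 2 * c, by omega, by omega, by omega⟩
  -- the quasi-inverses
  have hβ : ∀ l : ι × ι, ∃ β : D.Nn m →ₗ[R] D.Y m,
      (∀ z, β (D.α m z) = b l • z) ∧ (∀ ν, D.α m (β ν) = b l • ν) := by
    intro l
    let γ : D.Nn m →ₗ[R] LinearMap.range (D.α m) :=
      LinearMap.codRestrict (LinearMap.range (D.α m)) (g l.1 • LinearMap.id)
        (fun ν => D.coker_kill m (g l.1) (hg l.1) ν)
    let δ : (D.Y m ⧸ LinearMap.ker (D.α m)) →ₗ[R] D.Y m :=
      (LinearMap.ker (D.α m)).liftQ (g l.2 • LinearMap.id)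
        (fun z hz => by
          rw [LinearMap.mem_ker]
          show g l.2 • z = 0
          exact D.ker_kill m (g l.2) (hg l.2) z hz)
    let eqv := (D.α m).quotKerEquivRange
    refine ⟨δ.comp (eqv.symm.toLinearMap.comp γ), fun z => ?_, fun ν => ?_⟩
    · have h1 : γ (D.α m z) = eqv (Submodule.Quotient.mk (g l.1 • z)) := by
        apply Subtype.ext
        show g l.1 • D.α m z = D.α m (g l.1 • z)
        rw [map_smul]
      show δ (eqv.symm (γ (D.α m z))) = b l • z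
      rw [h1, LinearEquiv.symm_apply_apply]
      show g l.2 • g l.1 • z = (g l.1 * g l.2) • z
      rw [smul_smul, mul_comm]
    · obtain ⟨x, hx⟩ := Submodule.Quotient.mk_surjective _ (eqv.symm (γ ν))
      have h1 : eqv (Submodule.Quotient.mk x) = γ ν := by
        rw [hx, LinearEquiv.apply_symm_apply]
      have h2 : D.α m x = g l.1 • ν := congrArg Subtype.val h1
      show D.α m (δ (eqv.symm (γ ν))) = b l • ν
      rw [← hx]
      show D.α m (g l.2 • x) = (g l.1 * g l.2) • ν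
      rw [map_smul, h2, smul_smul, mul_comm]
  choose β hβ1 hβ2 using hβ
  let Θ : (ι × ι → N) →ₗ[R] D.Y m := ∑ l, ((β l).comp (D.p m)).comp (LinearMap.proj l)
  have hΘ : ∀ v : ι × ι → N, Θ v = ∑ l, β l (D.p m (v l)) := by
    intro v
    show (∑ l, ((β l).comp (D.p m)).comp (LinearMap.proj l : (ι × ι → N) →ₗ[R] N)) v = _
    rw [LinearMap.sum_apply]
    rfl
  have hαΘ : ∀ v, D.α m (Θ v) = D.p m (Ψ v) := by
    intro v
    rw [hΘ, hΨ, map_sum, map_sum]
    refine Finset.sum_congr rfl (fun l _ => ?_)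
    rw [hβ2, map_smul]
  -- step 1: decompose `y`
  have hy1 : y ∈ J ^ (n + 1) • (⊤ : Submodule R (D.Y m)) := D.T_ker hnm hTy
  rw [he1, pow_add, pow_add, mul_smul, mul_smul] at hy1
  obtain ⟨w, hw, hyw⟩ := exists_sum_pairs g (J ^ c) hspan _ y hy1
  -- step 2: lift `α (w l)` to `N`
  have hv : ∀ l, ∃ vt ∈ J ^ e • (⊤ : Submodule R N), D.p m vt = D.α m (w l) := fun l =>
    exists_mem_smul_top_of_surjective (D.p m) (D.p_surj m) (J ^ e)
      (map_mem_smul_top (J ^ e) (D.α m) (hw l))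
  choose vt hvt hvt' using hv
  -- step 3
  have hsum : ∑ l, b l • vt l ∈ J ^ (m + 1) • (⊤ : Submodule R N) := by
    apply D.p_ker m
    rw [LinearMap.mem_ker, map_sum]
    have h1 : ∑ l, D.p m (b l • vt l) = D.α m y := by
      rw [hyw, map_sum]
      refine Finset.sum_congr rfl (fun l _ => ?_)
      rw [map_smul, map_smul, hvt']
    rw [h1, hαy]
  rw [he'1, pow_add, pow_add, mul_smul, mul_smul] at hsum
  obtain ⟨w', hw', hsw'⟩ := exists_sum_pairs g (J ^ c) hspan _ _ hsum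
  -- step 4
  have hu_mem : (fun l => vt l - w' l) ∈ J ^ e • (⊤ : Submodule R (ι × ι → N)) := by
    refine pi_mem_smul_top (J ^ e) _ (fun l => ?_)
    refine Submodule.sub_mem _ (hvt l) ?_
    exact Submodule.smul_mono_left (Ideal.pow_le_pow_right he'2) (hw' l)
  have hu_ker : Ψ (fun l => vt l - w' l) = 0 := by
    rw [hΨ]
    have h1 : ∑ l, b l • (vt l - w' l) = ∑ l, b l • vt l - ∑ l, b l • w' l := by
      rw [← Finset.sum_sub_distrib]
      refine Finset.sum_congr rfl (fun l _ => ?_)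
      rw [smul_sub]
    rw [h1, hsw', sub_self]
  have hu2 : (fun l => vt l - w' l) ∈ J ^ c • LinearMap.ker Ψ := by
    have h1 : (fun l => vt l - w' l) ∈ J ^ e • (⊤ : Submodule R (ι × ι → N)) ⊓ LinearMap.ker Ψ :=
      ⟨hu_mem, hu_ker⟩
    rw [hk e (by omega)] at h1
    have h2 : J ^ (e - k) ≤ J ^ c := Ideal.pow_le_pow_right (by omega)
    exact Submodule.smul_mono h2 inf_le_right h1
  -- step 5
  have hΘu : Θ (fun l => vt l - w' l) = 0 := by
    refine Submodule.smul_induction_on (p := fun v => Θ v = 0) hu2 (fun a ha v hv => ?_)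
      (fun v v' hv hv' => ?_)
    · rw [map_smul]
      refine D.ker_kill m a ha _ ?_
      rw [hαΘ, (LinearMap.mem_ker.mp hv), map_zero]
    · rw [map_add, hv, hv', add_zero]
  -- step 6
  have hyΘ : y = Θ vt := by
    rw [hΘ, hyw]
    refine Finset.sum_congr rfl (fun l _ => ?_)
    rw [hvt', hβ1]
  have hΘw' : Θ w' ∈ J ^ e' • (⊤ : Submodule R (D.Y m)) := by
    rw [hΘ]
    exact Submodule.sum_mem _ (fun l _ =>
      map_mem_smul_top (J ^ e') ((β l).comp (D.p m)) (hw' l))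
  have hy2 : y = Θ w' := by
    have h1 : vt = (fun l => vt l - w' l) + w' := by
      funext l
      show vt l = vt l - w' l + w' l
      rw [sub_add_cancel]
    rw [hyΘ, h1, map_add, hΘu, zero_add]
  rw [hy2]
  exact D.eq_zero_of_mem_pow he'3 (D.T_mem_smul_top hjm _ hΘw')

/-- limit form of `core` -/
theorem eq_zero_of_fstE_projE [IsNoetherianRing R] [Module.Finite R N] :
    ∃ n₀ : ℕ, ∀ n : ℕ, n₀ ≤ n → ∀ e : D.E, D.fstE e = 0 → D.projE n e = 0 → e = 0 := by
  obtain ⟨n₀, h⟩ := D.core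
  refine ⟨n₀, fun n hn e he1 he2 => ?_⟩
  apply D.E_ext
  · rw [he1, map_zero]
  · intro l
    rw [map_zero]
    have h1 := h n (max n (l + 2 * c)) l (le_max_left _ _)
      ((Nat.le_add_right l (2 * c)).trans (le_max_right _ _)) hn (le_max_right _ _)
      (D.projE _ e) (by rw [D.α_projE, he1, map_zero]) (by rw [D.T_projE]; exact he2)
    rw [D.T_projE] at h1
    exact h1

/-- `ker (E → Y_n) = J^{n+1} E` -/
theorem mem_smul_top_of_proj_eq_zero [IsNoetherianRing R] [Module.Finite R N] (n : ℕ) (e : D.E)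
    (he : D.projE n e = 0) : e ∈ J ^ (n + 1) • (⊤ : Submodule R D.E) := by
  obtain ⟨n₀, hn₀⟩ := D.eq_zero_of_fstE_projE
  obtain ⟨m', hm'1, hm'2⟩ : ∃ m', n ≤ m' ∧ n₀ ≤ m' := ⟨max n n₀, le_max_left _ _, le_max_right _ _⟩
  obtain ⟨m, hm⟩ : ∃ m, m = m' + c := ⟨_, rfl⟩
  have hnm : n ≤ m := by omega
  have hm'm : m' ≤ m := by omega
  -- Step 1
  have h1 : D.projE m e ∈ J ^ (n + 1) • (⊤ : Submodule R (D.Y m)) := by
    apply D.T_ker hnm
    rw [LinearMap.mem_ker, D.T_projE]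
    exact he
  obtain ⟨e1, he1, he1'⟩ :=
    exists_mem_smul_top_of_surjective (D.projE m) (D.projE_surjective m) (J ^ (n + 1)) h1
  -- Step 2
  have he2 : D.projE m (e - e1) = 0 := by rw [map_sub, he1', sub_self]
  have h2 : D.fstE (e - e1) ∈ J ^ (m + 1) • (⊤ : Submodule R N) := by
    apply D.p_ker m
    rw [LinearMap.mem_ker, ← D.α_projE, he2, map_zero]
  have h3 : D.fstE (e - e1) ∈ Submodule.map D.fstE (J ^ (m' + 1) • (⊤ : Submodule R D.E)) := by
    rw [Submodule.map_smul'', Submodule.map_top]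
    have e : m + 1 = (m' + 1) + c := by omega
    rw [e, pow_add, mul_smul] at h2
    refine Submodule.smul_mono le_rfl ?_ h2
    rw [Submodule.smul_le]
    intro a ha g _
    exact D.smul_mem_range_fstE g ha
  obtain ⟨e3, he3, he3'⟩ := h3
  have hκ : (e - e1) - e3 = 0 := by
    apply hn₀ m' hm'2
    · rw [map_sub, he3', sub_self]
    · rw [map_sub]
      have h4 : D.projE m' (e - e1) = 0 := by
        rw [← D.T_projE hm'm, he2, map_zero]
      rw [h4, zero_sub, neg_eq_zero]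
      exact D.eq_zero_of_mem_pow le_rfl (map_mem_smul_top _ (D.projE m') he3)
  have h5 : e = e1 + e3 := by
    have h6 := sub_eq_zero.mp hκ
    rw [← h6]
    abel
  rw [h5]
  exact Submodule.add_mem _ he1
    (Submodule.smul_mono_left (Ideal.pow_le_pow_right (by omega)) he3)

end AdicData

end Groth.Agent.Lib.FormalARH2
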