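import Mathlib
import Groth.Prelude
import Groth.Agent.Lib.FormalAR1_helper2
import Groth.Agent.Lib.LimTrunc1_helper2
import Groth.Agent.Lib.CohDev14_helper8
import Groth.Agent.Lib.CohDev8_helper8
import Groth.Agent.Lib.CohDev2_helper8
import Groth.Agent.Lib.CohKer_helper8

/-!
# Formal glueing for coherent formal modules, sheaf part I (helper2)

`X` Noetherian over `Spec A`, `G` coherent, `(F_n)` a coherent formal module, `α : (F_n) → (G/I^{n+1}G)`
with kernels and cokernels killed by `I^c`.  We construct `F' = lim_n (G ×_{G_n} F_n)` with its maps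
`a : F' → G`, `τ_n : F' → F_n`, describe its sections over any open, and attach to every affine open
the `AdicData` of `FormalAR1_helper2`.
APPEND-ONLY once landed.
-/

set_option autoImplicit false
set_option backward.isDefEq.respectTransparency false
set_option linter.style.haveILetI false
universe u
open CategoryTheory CategoryTheory.Limits AlgebraicGeometry TopologicalSpace Opposite

namespace Groth.Agent.Lib.FormalARH2

open Formal Groth.Agent.Lib.FormalModPowH4 Groth.Agent.Lib.FormalFnH2 Groth.Agent.Lib.FibAmpH2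
  Groth.Agent.Lib.FlatBCH2 Groth.Agent.Lib.FibVanH2 Groth.Agent.Lib.FormalQuotH2
  Groth.Agent.Lib.AdicSysH2 Groth.Agent.Lib.LimTruncH2 QcqsLoc

section PB

variable {X : Scheme.{u}} {M N Z : X.Modules} (f : M ⟶ Z) (g : N ⟶ Z)

theorem isPullback_secT (U : X.Opens) :
    IsPullback ((secT X U).map (pullback.fst f g)) ((secT X U).map (pullback.snd f g))
      ((secT X U).map f) ((secT X U).map g) := by
  haveI : PreservesLimitsOfSize.{0, 0} (QCohExact.sec X U) :=
    preservesSmallestLimits_of_preservesLimits _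
  haveI : PreservesLimitsOfSize.{0, 0} (forget Ab.{u}) :=
    preservesSmallestLimits_of_preservesLimits _
  exact (IsPullback.of_hasPullback f g).map (secT X U)

theorem pullback_sec_ext (U : X.Opens) (p q : Γ(pullback f g, U))
    (h1 : (pullback.fst f g).app U p = (pullback.fst f g).app U q)
    (h2 : (pullback.snd f g).app U p = (pullback.snd f g).app U q) : p = q :=
  Types.ext_of_isPullback (isPullback_secT f g U) h1 h2

theorem pullback_sec_exists (U : X.Opens) (m : Γ(M, U)) (n : Γ(N, U))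
    (h : f.app U m = g.app U n) :
    ∃ p : Γ(pullback f g, U), (pullback.fst f g).app U p = m ∧ (pullback.snd f g).app U p = n :=
  Types.exists_of_isPullback (isPullback_secT f g U) m n h

end PB

/-- the context -/
structure Ctx (A : Type u) [CommRing A] (I : Ideal A) (X : Scheme.{u})
    [X.Over (Spec (CommRingCat.of A))] where
  G : X.Modules
  hG : Coh.IsCoh G
  F : ℕᵒᵖ ⥤ X.Modules
  hF : Formal.IsCohFormal I F
  α : F ⟶ Formal.completion I G
  c : ℕ
  hα : ∀ n : ℕ, Formal.KilledBy (I ^ c) (kernel (α.app (op n))) ∧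
    Formal.KilledBy (I ^ c) (cokernel (α.app (op n)))

namespace Ctx

variable {A : Type u} [CommRing A] {I : Ideal A} {X : Scheme.{u}}
  [X.Over (Spec (CommRingCat.of A))] (C : Ctx A I X)

/-- the completion of `G` -/
noncomputable abbrev Gc : ℕᵒᵖ ⥤ X.Modules := Formal.completion I C.G

/-- the projection to the `n`-th term of the completion -/
noncomputable def πc (n : ℕ) : C.G ⟶ Gn C.Gc n := Formal.modPowπ I (n + 1) C.G

theorem tG_Gc (n : ℕ) : tG C.Gc n = Formal.modPowTrans I (n + 1) C.G :=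
  completion_map_succ I C.G n

theorem πc_tG (n : ℕ) : C.πc (n + 1) ≫ tG C.Gc n = C.πc n := by
  rw [tG_Gc]
  exact Formal.modPowπ_trans I (n + 1) C.G

theorem πc_gm {n m : ℕ} (h : n ≤ m) : C.πc m ≫ gm C.Gc h = C.πc n := by
  induction m, h using Nat.le_induction with
  | base => rw [gm_refl, Category.comp_id]
  | succ m h ih =>
    have e : gm C.Gc (h.trans (Nat.le_succ m)) = tG C.Gc m ≫ gm C.Gc h :=
      (gm_trans h (Nat.le_succ m)).symm
    rw [e, ← Category.assoc, πc_tG, ih]

instance epi_πc (n : ℕ) : Epi (C.πc n) :=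
  inferInstanceAs (Epi (cokernel.π (Formal.smulFamily (I ^ (n + 1)) C.G)))

/-- the `n`-th component of `α` -/
noncomputable abbrev αn (n : ℕ) : Gn C.F n ⟶ Gn C.Gc n := C.α.app (op n)

theorem α_tG (n : ℕ) : tG C.F n ≫ C.αn n = C.αn (n + 1) ≫ tG C.Gc n :=
  C.α.naturality (homOfLE (Nat.le_succ n)).op

theorem α_gm {n m : ℕ} (h : n ≤ m) : gm C.F h ≫ C.αn n = C.αn m ≫ gm C.Gc h :=
  C.α.naturality (homOfLE h).op

/-- the fibre products `G ×_{G_n} F_n` -/
noncomputable abbrev Pn (n : ℕ) : X.Modules := pullback (C.πc n) (C.αn n)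

/-- the transition maps of the fibre products -/
noncomputable def θ (n : ℕ) : C.Pn (n + 1) ⟶ C.Pn n :=
  pullback.lift (pullback.fst _ _) (pullback.snd _ _ ≫ tG C.F n) (by
    rw [Category.assoc, α_tG, ← pullback.condition_assoc, πc_tG])

theorem θ_fst (n : ℕ) : C.θ n ≫ pullback.fst _ _ = pullback.fst _ _ :=
  pullback.lift_fst _ _ _

theorem θ_snd (n : ℕ) : C.θ n ≫ pullback.snd _ _ = pullback.snd _ _ ≫ tG C.F n :=
  pullback.lift_snd _ _ _

/-- the tower of fibre products -/
noncomputable def PF : ℕᵒᵖ ⥤ X.Modules :=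
  Functor.ofOpSequence (X := fun n => C.Pn n) (fun n => C.θ n)

theorem tG_PF (n : ℕ) : tG C.PF n = C.θ n :=
  Functor.ofOpSequence_map_homOfLE_succ _ n

/-- the module `F' = lim_n (G ×_{G_n} F_n)` -/
noncomputable def Fp : X.Modules := limit C.PF

/-- the projections of the limit -/
noncomputable def ρ (n : ℕ) : C.Fp ⟶ C.Pn n := limit.π C.PF (op n)

theorem ρ_succ (n : ℕ) : C.ρ (n + 1) ≫ C.θ n = C.ρ n := by
  rw [← tG_PF]
  exact limit.w C.PF (homOfLE (Nat.le_succ n)).op

theorem ρ_gm {n m : ℕ} (h : n ≤ m) : C.ρ m ≫ gm C.PF h = C.ρ n :=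
  limit.w C.PF (homOfLE h).op

/-- the map `a : F' → G` -/
noncomputable def aF : C.Fp ⟶ C.G := C.ρ 0 ≫ pullback.fst _ _

theorem ρ_fst (n : ℕ) : C.ρ n ≫ pullback.fst _ _ = C.aF := by
  induction n with
  | zero => rfl
  | succ n ih => rw [← ih, ← C.ρ_succ n, Category.assoc, θ_fst]

/-- the maps `τ_n : F' → F_n` -/
noncomputable def τ (n : ℕ) : C.Fp ⟶ Gn C.F n := C.ρ n ≫ pullback.snd _ _

theorem τ_succ (n : ℕ) : C.τ (n + 1) ≫ tG C.F n = C.τ n := by
  unfold τ
  rw [Category.assoc, ← θ_snd, ← Category.assoc, ρ_succ]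

theorem τ_gm {n m : ℕ} (h : n ≤ m) : C.τ m ≫ gm C.F h = C.τ n := by
  induction m, h using Nat.le_induction with
  | base => rw [gm_refl, Category.comp_id]
  | succ m h ih =>
    have e : gm C.F (h.trans (Nat.le_succ m)) = tG C.F m ≫ gm C.F h :=
      (gm_trans h (Nat.le_succ m)).symm
    rw [e, ← Category.assoc, τ_succ, ih]

theorem τ_α (n : ℕ) : C.τ n ≫ C.αn n = C.aF ≫ C.πc n := by
  unfold τ
  rw [Category.assoc, ← pullback.condition, ← Category.assoc, ρ_fst]

theorem gm_PF_fst {n m : ℕ} (h : n ≤ m) :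
    gm C.PF h ≫ pullback.fst (C.πc n) (C.αn n) = pullback.fst (C.πc m) (C.αn m) := by
  induction m, h using Nat.le_induction with
  | base => rw [gm_refl, Category.id_comp]
  | succ m h ih =>
    have e : gm C.PF (h.trans (Nat.le_succ m)) = tG C.PF m ≫ gm C.PF h :=
      (gm_trans h (Nat.le_succ m)).symm
    rw [e, Category.assoc, ih, tG_PF, θ_fst]

theorem gm_PF_snd {n m : ℕ} (h : n ≤ m) :
    gm C.PF h ≫ pullback.snd (C.πc n) (C.αn n) = pullback.snd (C.πc m) (C.αn m) ≫ gm C.F h := by
  induction m, h using Nat.le_induction with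
  | base => rw [gm_refl, gm_refl, Category.id_comp, Category.comp_id]
  | succ m h ih =>
    have e : gm C.PF (h.trans (Nat.le_succ m)) = tG C.PF m ≫ gm C.PF h :=
      (gm_trans h (Nat.le_succ m)).symm
    have e' : gm C.F (h.trans (Nat.le_succ m)) = tG C.F m ≫ gm C.F h :=
      (gm_trans h (Nat.le_succ m)).symm
    rw [e, e', Category.assoc, ih, tG_PF, ← Category.assoc, θ_snd, Category.assoc]

/-- sections of `F'` are determined by their images in `G` and the `F_n` -/
theorem Fp_sec_ext (U : X.Opens) (s : Γ(C.Fp, U)) (h1 : C.aF.app U s = 0)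
    (h2 : ∀ k, (C.τ k).app U s = 0) : s = 0 := by
  have hρ : ∀ k, (C.ρ k).app U s = 0 := by
    intro k
    apply pullback_sec_ext (C.πc k) (C.αn k) U
    · rw [← comp_app', ρ_fst, h1, app_zero']
    · have h3 := h2 k
      unfold τ at h3
      rw [comp_app'] at h3
      rw [h3, app_zero']
  obtain ⟨s0, -, huniq⟩ := limit_sec_existsUnique C.PF U (fun _ => 0) (fun k => app_zero' _ U)
  have e1 : s = s0 := huniq s hρ
  have e2 : (0 : Γ(C.Fp, U)) = s0 := huniq 0 (fun k => app_zero' _ U)
  rw [e1, ← e2]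

/-- compatible families are sections of `F'` -/
theorem Fp_sec_exists (U : X.Opens) (g : Γ(C.G, U)) (y : ∀ k : ℕ, Γ(Gn C.F k, U))
    (hy : ∀ k, (tG C.F k).app U (y (k + 1)) = y k)
    (hα : ∀ k, (C.αn k).app U (y k) = (C.πc k).app U g) :
    ∃ s : Γ(C.Fp, U), C.aF.app U s = g ∧ ∀ k, (C.τ k).app U s = y k := by
  have hp : ∀ k, ∃ p : Γ(C.Pn k, U), (pullback.fst (C.πc k) (C.αn k)).app U p = g ∧
      (pullback.snd (C.πc k) (C.αn k)).app U p = y k := fun k =>
    pullback_sec_exists (C.πc k) (C.αn k) U g (y k) (hα k).symm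
  choose p hp1 hp2 using hp
  have hθ : ∀ k, (C.θ k).app U (p (k + 1)) = p k := by
    intro k
    apply pullback_sec_ext (C.πc k) (C.αn k) U
    · rw [← comp_app', θ_fst, hp1, hp1]
    · rw [← comp_app', θ_snd, comp_app', hp2, hp2, hy]
  have hcompat : ∀ k, (C.PF.map (homOfLE (Nat.le_succ k)).op).app U (p (k + 1)) = p k := by
    intro k
    have e : C.PF.map (homOfLE (Nat.le_succ k)).op = C.θ k := C.tG_PF k
    rw [e]
    exact hθ k
  obtain ⟨s, hs, -⟩ := limit_sec_existsUnique C.PF U p hcompat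
  have hs' : ∀ k, (C.ρ k).app U s = p k := hs
  refine ⟨s, ?_, fun k => ?_⟩
  · unfold aF
    rw [comp_app', hs', hp1]
  · unfold τ
    rw [comp_app', hs', hp2]

end Ctx

end Groth.Agent.Lib.FormalARH2
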