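import Mathlib
import Groth.Prelude
import Groth.Agent.Lib.FormalAR2_helper2

/-!
# Formal glueing for coherent formal modules, sheaf part II (helper2)

The `AdicData` attached to an affine open, the identification of `Γ(U, F')` with the fibre product
`E`, uniform Artin–Rees on `X`, and the coherence of `F'`.
APPEND-ONLY once landed.
-/

set_option autoImplicit false
set_option backward.isDefEq.respectTransparency false
set_option linter.style.haveILetI false
universe u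
open CategoryTheory CategoryTheory.Limits AlgebraicGeometry TopologicalSpace Opposite

namespace Groth.Agent.Lib.FormalARH2

open Formal Groth.Agent.Lib.FormalModPowH4 Groth.Agent.Lib.FormalFnH2 Groth.Agent.Lib.FibAmpH2
  Groth.Agent.Lib.FlatBCH2 Groth.Agent.Lib.FibVanH2 Groth.Agent.Lib.FormalQuotH2
  Groth.Agent.Lib.AdicSysH2 Groth.Agent.Lib.LimTruncH2 QcqsLoc

namespace Ctx

variable {A : Type u} [CommRing A] {I : Ideal A} {X : Scheme.{u}}
  [X.Over (Spec (CommRingCat.of A))] (C : Ctx A I X)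

instance qc_F (n : ℕ) : (Gn C.F n).IsQuasicoherent := (C.hF.1 n).1

instance qc_G : C.G.IsQuasicoherent := C.hG.1

theorem isCoh_Gc (n : ℕ) : Coh.IsCoh (Gn C.Gc n) := isCoh_modPow I C.hG (n + 1)

instance qc_Gc (n : ℕ) : (Gn C.Gc n).IsQuasicoherent := (C.isCoh_Gc n).1

variable [AlgebraicGeometry.IsNoetherian X]

theorem T_surj {U : X.Opens} (hU : IsAffineOpen U) {n m : ℕ} (h : n ≤ m) :
    Function.Surjective (sl (gm C.F h) U) := by
  haveI := (isQuot_gm C.hF h).2.1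
  exact sl_surjective_of_epi (gm C.F h) hU

theorem T_ker {U : X.Opens} (hU : IsAffineOpen U) {n m : ℕ} (h : n ≤ m) :
    LinearMap.ker (sl (gm C.F h) U) ≤
      (JU A I U) ^ (n + 1) • (⊤ : Submodule Γ(X, U) Γ(Gn C.F m, U)) :=
  ((isQuot_gm C.hF h).ker_sl A I hU).le

omit [AlgebraicGeometry.IsNoetherian X] in
theorem Y_kill (U : X.Opens) (n : ℕ) :
    (JU A I U) ^ (n + 1) • (⊤ : Submodule Γ(X, U) Γ(Gn C.F n, U)) = ⊥ := by
  rw [eq_bot_iff]
  intro x hx
  rw [Submodule.mem_bot]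
  exact eq_zero_of_mem_smul_top_of_killed A I (C.hF.2.1 n) U x hx

omit [AlgebraicGeometry.IsNoetherian X] in
theorem p_surj {U : X.Opens} (hU : IsAffineOpen U) (n : ℕ) :
    Function.Surjective (sl (C.πc n) U) :=
  sl_surjective_of_epi (C.πc n) hU

theorem p_ker {U : X.Opens} (hU : IsAffineOpen U) (n : ℕ) :
    LinearMap.ker (sl (C.πc n) U) ≤
      (JU A I U) ^ (n + 1) • (⊤ : Submodule Γ(X, U) Γ(C.G, U)) := by
  intro x hx
  have h : sl (C.πc n) U x = 0 := LinearMap.mem_ker.mp hx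
  exact (modPowπ_app_eq_zero_iff A I C.G (n + 1) hU x).mp h

omit [AlgebraicGeometry.IsNoetherian X] in
theorem ker_kill (U : X.Opens) (n : ℕ) (a : Γ(X, U)) (ha : a ∈ (JU A I U) ^ C.c)
    (z : Γ(Gn C.F n, U)) (hz : sl (C.αn n) U z = 0) : a • z = 0 := by
  have h1 : z ∈ LinearMap.range (sl (kernel.ι (C.αn n)) U) := by
    rw [sl_range_kernel_ι]
    exact hz
  obtain ⟨k, rfl⟩ := h1
  rw [← map_smul]
  have h2 : a • k = 0 := eq_zero_of_mem_smul_top_of_killed A I (C.hα n).1 U (a • k)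
    (Submodule.smul_mem_smul ha Submodule.mem_top)
  rw [h2, map_zero]

omit [AlgebraicGeometry.IsNoetherian X] in
theorem coker_kill {U : X.Opens} (hU : IsAffineOpen U) (n : ℕ) (a : Γ(X, U))
    (ha : a ∈ (JU A I U) ^ C.c) (ν : Γ(Gn C.Gc n, U)) :
    a • ν ∈ LinearMap.range (sl (C.αn n) U) := by
  haveI : (cokernel (C.αn n)).IsQuasicoherent := BModH6.isQuasicoherent_cokernel _
  haveI : (kernel (cokernel.π (C.αn n))).IsQuasicoherent := SubExt.isQuasicoherent_kernel _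
  have h1 : sl (cokernel.π (C.αn n)) U (a • ν) = 0 := by
    rw [map_smul]
    exact eq_zero_of_mem_smul_top_of_killed A I (C.hα n).2 U _
      (Submodule.smul_mem_smul ha Submodule.mem_top)
  have h2 : a • ν ∈ LinearMap.range (sl (kernel.ι (cokernel.π (C.αn n))) U) := by
    rw [sl_range_kernel_ι]
    exact h1
  obtain ⟨w, hw⟩ := h2
  obtain ⟨x, hx⟩ := sl_surjective_of_epi (Abelian.factorThruImage (C.αn n)) hU w
  refine ⟨x, ?_⟩
  rw [← hw, ← hx]
  have h3 := sl_comp_apply (Abelian.factorThruImage (C.αn n)) (Abelian.image.ι (C.αn n)) U x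
  rw [Abelian.image.fac] at h3
  exact h3.symm

/-- the adic data attached to an affine open -/
noncomputable def DU {U : X.Opens} (hU : IsAffineOpen U) :
    AdicData Γ(X, U) (JU A I U) C.c Γ(C.G, U) where
  Y n := Γ(Gn C.F n, U)
  Nn n := Γ(Gn C.Gc n, U)
  T h := sl (gm C.F h) U
  S h := sl (gm C.Gc h) U
  p n := sl (C.πc n) U
  α n := sl (C.αn n) U
  T_refl n y := by
    rw [gm_refl]
    rfl
  T_trans h1 h2 y := by rw [sl_comp_apply, gm_trans]
  T_surj h := C.T_surj hU h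
  T_ker h := C.T_ker hU h
  Y_kill n := C.Y_kill U n
  S_p h g := by rw [sl_comp_apply, πc_gm]
  p_surj n := C.p_surj hU n
  p_ker n := C.p_ker hU n
  α_nat h y := by rw [sl_comp_apply, sl_comp_apply, α_gm]
  ker_kill n a ha z hz := C.ker_kill U n a ha z hz
  coker_kill n a ha ν := C.coker_kill hU n a ha ν

/-- sections of `F'` over an affine open, as elements of the fibre product -/
noncomputable def toE {U : X.Opens} (hU : IsAffineOpen U) :
    Γ(C.Fp, U) →ₗ[Γ(X, U)] (C.DU hU).E :=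
  LinearMap.codRestrict (C.DU hU).E
    ((sl C.aF U).prod (LinearMap.pi (fun k => sl (C.τ k) U)))
    (fun s => ⟨fun k l h => by
        show sl (gm C.F h) U (sl (C.τ l) U s) = sl (C.τ k) U s
        rw [sl_comp_apply, τ_gm],
      fun k => by
        show sl (C.αn k) U (sl (C.τ k) U s) = sl (C.πc k) U (sl C.aF U s)
        rw [sl_comp_apply, sl_comp_apply, τ_α]⟩)

theorem fstE_toE {U : X.Opens} (hU : IsAffineOpen U) (s : Γ(C.Fp, U)) :
    (C.DU hU).fstE (C.toE hU s) = C.aF.app U s := rfl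

theorem projE_toE {U : X.Opens} (hU : IsAffineOpen U) (k : ℕ) (s : Γ(C.Fp, U)) :
    (C.DU hU).projE k (C.toE hU s) = (C.τ k).app U s := rfl

theorem toE_injective {U : X.Opens} (hU : IsAffineOpen U) : Function.Injective (C.toE hU) := by
  rw [injective_iff_map_eq_zero]
  intro s hs
  apply C.Fp_sec_ext U s
  · rw [← fstE_toE, hs, map_zero]
  · intro k
    rw [← projE_toE, hs, map_zero]

theorem toE_surjective {U : X.Opens} (hU : IsAffineOpen U) :
    Function.Surjective (C.toE hU) := by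
  intro e
  obtain ⟨s, hs1, hs2⟩ := C.Fp_sec_exists U e.1.1 e.1.2
    (fun k => e.2.1 k (k + 1) (Nat.le_succ k)) (fun k => e.2.2 k)
  refine ⟨s, ?_⟩
  apply (C.DU hU).E_ext
  · exact hs1
  · intro k
    exact hs2 k

/-- uniform Artin–Rees on `X` -/
theorem exists_n0 : ∃ n₀ : ℕ, ∀ (m j j' : ℕ) (hm : m ≤ j') (hj : j ≤ j'), n₀ ≤ m →
    j + 2 * C.c ≤ j' →
      kernel.ι (kernel.ι (C.αn j') ≫ gm C.F hm) ≫ kernel.ι (C.αn j') ≫ gm C.F hj = 0 := by
  classical
  obtain ⟨s, hsfin, hs⟩ := (isCompact_iff_finite_and_eq_biUnion_affineOpens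
    (X := X) (U := ⊤)).mp (by simpa using isCompact_univ)
  have hN : ∀ V : X.affineOpens, ∃ n₀ : ℕ, ∀ (n m j : ℕ) (hnm : n ≤ m) (hjm : j ≤ m),
      n₀ ≤ n → j + 2 * C.c ≤ m → ∀ y : Γ(Gn C.F m, V.1), sl (C.αn m) V.1 y = 0 →
        sl (gm C.F hnm) V.1 y = 0 → sl (gm C.F hjm) V.1 y = 0 := by
    intro V
    haveI : IsNoetherianRing Γ(X, V.1) := IsLocallyNoetherian.component_noetherian V
    haveI : SheafOfModules.IsFiniteType (R := X.ringCatSheaf) C.G := C.hG.2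
    haveI : Module.Finite Γ(X, V.1) Γ(C.G, V.1) := QCohFT.finite_of_isFiniteType C.G V.2
    exact (C.DU V.2).core
  choose Nf hNf using hN
  refine ⟨hsfin.toFinset.sup Nf, fun m j j' hm hj hn hjj => ?_⟩
  haveI : (kernel (C.αn j')).IsQuasicoherent := SubExt.isQuasicoherent_kernel _
  haveI : (kernel (kernel.ι (C.αn j') ≫ gm C.F hm)).IsQuasicoherent :=
    SubExt.isQuasicoherent_kernel _
  refine hom_eq_zero_of_affine_cover _ ((fun V : X.affineOpens => V.1) '' s) ?_ ?_ ?_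
  · rintro _ ⟨V, _, rfl⟩
    exact V.2
  · intro x
    have hx : x ∈ (⊤ : X.Opens) := trivial
    rw [hs] at hx
    simp only [Opens.mem_iSup] at hx
    obtain ⟨V, hV, hxV⟩ := hx
    exact ⟨V.1, ⟨V, hV, rfl⟩, hxV⟩
  · rintro _ ⟨V, hV, rfl⟩ y
    have hle : Nf V ≤ hsfin.toFinset.sup Nf := Finset.le_sup (hsfin.mem_toFinset.mpr hV)
    rw [comp_app', comp_app']
    refine hNf V m j' j hm hj (hle.trans hn) hjj _ ?_ ?_
    · show (C.αn j').app V.1 ((kernel.ι (C.αn j')).app V.1 _) = 0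
      rw [← comp_app', kernel.condition, zero_app']
    · show (gm C.F hm).app V.1 ((kernel.ι (C.αn j')).app V.1
        ((kernel.ι (kernel.ι (C.αn j') ≫ gm C.F hm)).app V.1 y)) = 0
      rw [← comp_app', ← comp_app', kernel.condition, zero_app']

omit [AlgebraicGeometry.IsNoetherian X] in
/-- injectivity of `F' → P_m` on sections, from uniform Artin–Rees -/
theorem ρ_app_eq_zero (n₀ : ℕ)
    (hn₀ : ∀ (m j j' : ℕ) (hm : m ≤ j') (hj : j ≤ j'), n₀ ≤ m → j + 2 * C.c ≤ j' →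
      kernel.ι (kernel.ι (C.αn j') ≫ gm C.F hm) ≫ kernel.ι (C.αn j') ≫ gm C.F hj = 0)
    (m : ℕ) (hm : n₀ ≤ m) (W : X.Opens) (s : Γ(C.Fp, W)) (hs : (C.ρ m).app W s = 0) :
    s = 0 := by
  have h1 : C.aF.app W s = 0 := by rw [← C.ρ_fst m, comp_app', hs, app_zero']
  have h2 : (C.τ m).app W s = 0 := by
    unfold τ
    rw [comp_app', hs, app_zero']
  apply C.Fp_sec_ext W s h1
  intro j
  obtain ⟨j', hmj', hjj'⟩ : ∃ j', m ≤ j' ∧ j + 2 * C.c ≤ j' :=
    ⟨max m (j + 2 * C.c), le_max_left _ _, le_max_right _ _⟩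
  have hj : j ≤ j' := by omega
  have hx : sl (C.αn j') W (sl (C.τ j') W s) = 0 := by
    rw [sl_comp_apply, τ_α, ← sl_comp_apply]
    show (C.πc j').app W (C.aF.app W s) = 0
    rw [h1, app_zero']
  have hx' : sl (C.τ j') W s ∈ LinearMap.range (sl (kernel.ι (C.αn j')) W) := by
    rw [sl_range_kernel_ι]
    exact hx
  obtain ⟨z, hz⟩ := hx'
  have hz2 : sl (kernel.ι (C.αn j') ≫ gm C.F hmj') W z = 0 := by
    rw [← sl_comp_apply, hz, sl_comp_apply, τ_gm]
    exact h2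
  have hz' : z ∈ LinearMap.range (sl (kernel.ι (kernel.ι (C.αn j') ≫ gm C.F hmj')) W) := by
    rw [sl_range_kernel_ι]
    exact hz2
  obtain ⟨y, hy⟩ := hz'
  have h3 := hn₀ m j j' hmj' hj hm hjj'
  have h4 : sl (C.τ j) W s = sl (kernel.ι (kernel.ι (C.αn j') ≫ gm C.F hmj') ≫
      kernel.ι (C.αn j') ≫ gm C.F hj) W y := by
    rw [← sl_comp_apply, ← sl_comp_apply, hy, hz, sl_comp_apply, τ_gm]
  show sl (C.τ j) W s = 0
  rw [h4, h3, sl_zero]
  rfl

omit [AlgebraicGeometry.IsNoetherian X] in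
theorem mono_ρ (n₀ : ℕ)
    (hn₀ : ∀ (m j j' : ℕ) (hm : m ≤ j') (hj : j ≤ j'), n₀ ≤ m → j + 2 * C.c ≤ j' →
      kernel.ι (kernel.ι (C.αn j') ≫ gm C.F hm) ≫ kernel.ι (C.αn j') ≫ gm C.F hj = 0)
    (m : ℕ) (hm : n₀ ≤ m) : Mono (C.ρ m) := by
  refine mono_of_app_injective' _ (fun W s s' h => ?_)
  have h1 : (C.ρ m).app W (s - s') = 0 := by rw [app_sub', h, sub_self]
  exact sub_eq_zero.mp (C.ρ_app_eq_zero n₀ hn₀ m hm W _ h1)

theorem isCoh_Pn (n : ℕ) : Coh.IsCoh (C.Pn n) := by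
  have e : C.Pn n ≅ kernel (biprod.desc (C.πc n) (-C.αn n)) :=
    IsLimit.conePointUniqueUpToIso
      (Abelian.PullbackToBiproductIsKernel.isLimitPullbackToBiproduct (C.πc n) (C.αn n))
      (limit.isLimit (parallelPair (biprod.desc (C.πc n) (-C.αn n)) 0))
  exact CohDevH8.isCoh_of_iso e
    (CohKerH8.isCoh_kernel (CohDevH8.isCoh_biprod C.hG (C.hF.1 n)) (C.isCoh_Gc n) _)

instance qc_Pn (n : ℕ) : (C.Pn n).IsQuasicoherent := (C.isCoh_Pn n).1

/-- the transition map `P_{m+c} → P_m` -/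
noncomputable def θc (m : ℕ) : C.Pn (m + C.c) ⟶ C.Pn m := gm C.PF (Nat.le_add_right m C.c)

omit [AlgebraicGeometry.IsNoetherian X] in
theorem ρ_θc (m : ℕ) : C.ρ (m + C.c) ≫ C.θc m = C.ρ m := C.ρ_gm (Nat.le_add_right m C.c)

omit [AlgebraicGeometry.IsNoetherian X] in
theorem θc_fst (m : ℕ) : C.θc m ≫ pullback.fst _ _ = pullback.fst _ _ :=
  C.gm_PF_fst (Nat.le_add_right m C.c)

omit [AlgebraicGeometry.IsNoetherian X] in
theorem θc_snd (m : ℕ) :
    C.θc m ≫ pullback.snd _ _ = pullback.snd _ _ ≫ gm C.F (Nat.le_add_right m C.c) :=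
  C.gm_PF_snd (Nat.le_add_right m C.c)

/-- the map from `F'` to the image of `P_{m+c} → P_m` -/
noncomputable def σ (m : ℕ) : C.Fp ⟶ Abelian.image (C.θc m) :=
  kernel.lift (cokernel.π (C.θc m)) (C.ρ m) (by
    rw [← C.ρ_θc m, Category.assoc, cokernel.condition, comp_zero])

omit [AlgebraicGeometry.IsNoetherian X] in
theorem σ_ι (m : ℕ) : C.σ m ≫ Abelian.image.ι (C.θc m) = C.ρ m := kernel.lift_ι _ _ _

theorem isQuasicoherent_image_θc (m : ℕ) : (Abelian.image (C.θc m)).IsQuasicoherent := by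
  haveI : (cokernel (C.θc m)).IsQuasicoherent := BModH6.isQuasicoherent_cokernel _
  exact SubExt.isQuasicoherent_kernel _

theorem epi_σ (m : ℕ) : Epi (C.σ m) := by
  haveI := C.isQuasicoherent_image_θc m
  refine epi_of_app_surjective_affine _ (fun U hU w => ?_)
  obtain ⟨p, hp⟩ := sl_surjective_of_epi (Abelian.factorThruImage (C.θc m)) hU w
  obtain ⟨g, hg⟩ : ∃ g, g = (pullback.fst (C.πc (m + C.c)) (C.αn (m + C.c))).app U p := ⟨_, rfl⟩
  obtain ⟨x, hx⟩ : ∃ x, x = (pullback.snd (C.πc (m + C.c)) (C.αn (m + C.c))).app U p := ⟨_, rfl⟩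
  have hcond : (C.αn (m + C.c)).app U x = (C.πc (m + C.c)).app U g := by
    rw [hx, hg, ← comp_app', ← comp_app', pullback.condition]
  obtain ⟨y, hy1, hy2, hy3⟩ := (C.DU hU).exists_lift m x g hcond
  obtain ⟨s, hs1, hs2⟩ := C.Fp_sec_exists U g y (fun k => hy1 k (k + 1) (Nat.le_succ k)) hy2
  refine ⟨s, ?_⟩
  apply sl_injective_of_mono (Abelian.image.ι (C.θc m)) U
  show sl (Abelian.image.ι (C.θc m)) U (sl (C.σ m) U s) = sl (Abelian.image.ι (C.θc m)) U w
  rw [sl_comp_apply, σ_ι, ← hp, sl_comp_apply, Abelian.image.fac]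
  apply pullback_sec_ext (C.πc m) (C.αn m) U
  · show (pullback.fst (C.πc m) (C.αn m)).app U ((C.ρ m).app U s) =
      (pullback.fst (C.πc m) (C.αn m)).app U ((C.θc m).app U p)
    rw [← comp_app', ρ_fst, hs1, ← comp_app', θc_fst, hg]
  · show (pullback.snd (C.πc m) (C.αn m)).app U ((C.ρ m).app U s) =
      (pullback.snd (C.πc m) (C.αn m)).app U ((C.θc m).app U p)
    rw [← comp_app' (C.θc m), θc_snd, comp_app', ← hx]
    have h5 : (pullback.snd (C.πc m) (C.αn m)).app U ((C.ρ m).app U s) = (C.τ m).app U s := rfl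
    rw [h5, hs2, hy3]
    rfl

/-- `F'` is coherent -/
theorem isCoh_Fp : Coh.IsCoh C.Fp := by
  obtain ⟨n₀, hn₀⟩ := C.exists_n0
  haveI : Mono (C.ρ n₀) := C.mono_ρ n₀ hn₀ n₀ le_rfl
  haveI : Mono (C.σ n₀) := mono_of_mono_fac (C.σ_ι n₀)
  haveI := C.epi_σ n₀
  haveI : IsIso (C.σ n₀) := isIso_of_mono_of_epi _
  have qc := C.isQuasicoherent_image_θc n₀
  have h1 : Coh.IsCoh (Abelian.image (C.θc n₀)) :=
    CohDevH8.isCoh_of_mono (Abelian.image.ι (C.θc n₀)) qc (C.isCoh_Pn n₀)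
  exact CohDevH8.isCoh_of_iso (asIso (C.σ n₀)) h1

end Ctx

end Groth.Agent.Lib.FormalARH2
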