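import Mathlib
import Groth.Prelude
import Groth.Agent.Lib.FormalAR3_helper2

/-!
# Formal glueing for coherent formal modules, sheaf part III (helper2)

`F' → F_n` is the quotient by `I^{n+1}`, the kernel and cokernel of `F' → G` are killed by `I^c`, and
the main theorem `main0829` (S0829).
APPEND-ONLY once landed.
-/

set_option autoImplicit false
set_option backward.isDefEq.respectTransparency false
set_option linter.style.haveILetI false
universe u
open CategoryTheory CategoryTheory.Limits AlgebraicGeometry TopologicalSpace Opposite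

namespace Groth.Agent.Lib.FormalARH2

open Formal Groth.Agent.Lib.FormalModPowH4 Groth.Agent.Lib.FormalFnH2 Groth.Agent.Lib.FibAmpH2
  Groth.Agent.Lib.FlatBCH2 Groth.Agent.Lib.FibVanH2 Groth.Agent.Lib.FormalQuotH2
  Groth.Agent.Lib.AdicSysH2 Groth.Agent.Lib.LimTruncH2 QcqsLoc

section Gen

variable {A : Type u} [CommRing A] {X : Scheme.{u}} [X.Over (Spec (CommRingCat.of A))]

/-- a compatible family of quotient maps `M ⟶ G_n` identifies `G` with the completion of `M`,
compatibly with the projections -/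
theorem exists_completion_iso_of_isQuot (I : Ideal A) (M : X.Modules) (G : ℕᵒᵖ ⥤ X.Modules)
    (τ : ∀ n, M ⟶ Gn G n) (hτq : ∀ n, IsQuot (I ^ (n + 1)) (τ n))
    (hcomp : ∀ n, τ (n + 1) ≫ tG G n = τ n) :
    ∃ β : Formal.completion I M ≅ G,
      ∀ n, Formal.modPowπ I (n + 1) M ≫ β.hom.app (op n) = τ n := by
  have he : ∀ n, ∃ e : Formal.modPow I (n + 1) M ≅ Gn G n,
      Formal.modPowπ I (n + 1) M ≫ e.hom = τ n := fun n =>
    (isQuot_modPowπ I (n + 1) M).exists_iso (hτq n)
  choose e he using he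
  have hmap : ∀ n, (Formal.completion I M).map (homOfLE (Nat.le_add_right n 1)).op =
      Formal.modPowTrans I (n + 1) M := by
    intro n
    unfold Formal.completion
    exact Functor.ofOpSequence_map_homOfLE_succ _ n
  have hnat : ∀ n, Formal.modPowTrans I (n + 1) M ≫ (e n).hom =
      (e (n + 1)).hom ≫ tG G n := by
    intro n
    rw [← cancel_epi (Formal.modPowπ I (n + 1 + 1) M), ← Category.assoc,
      Formal.modPowπ_trans, he n, ← Category.assoc, he (n + 1)]
    exact (hcomp n).symm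
  let α : Formal.completion I M ⟶ G :=
    NatTrans.ofOpSequence (fun n => (e n).hom) (fun n => by
      rw [hmap n]
      exact hnat n)
  haveI : ∀ n, IsIso (α.app n) := fun n => by
    show IsIso (e n.unop).hom
    infer_instance
  haveI : IsIso α := NatIso.isIso_of_isIso_app α
  refine ⟨asIso α, fun n => ?_⟩
  show Formal.modPowπ I (n + 1) M ≫ (e n).hom = τ n
  exact he n

end Gen

namespace Ctx

variable {A : Type u} [CommRing A] {I : Ideal A} {X : Scheme.{u}}
  [X.Over (Spec (CommRingCat.of A))] (C : Ctx A I X)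

theorem Fp_hom_ext {W : X.Modules} (f g : W ⟶ C.Fp) (h1 : f ≫ C.aF = g ≫ C.aF)
    (h2 : ∀ n, f ≫ C.τ n = g ≫ C.τ n) : f = g := by
  refine limit.hom_ext (fun j => ?_)
  obtain ⟨n⟩ := j
  show f ≫ C.ρ n = g ≫ C.ρ n
  apply pullback.hom_ext
  · rw [Category.assoc, Category.assoc, ρ_fst]
    exact h1
  · rw [Category.assoc, Category.assoc]
    exact h2 n

theorem killed_kernel_aF : Formal.KilledBy (I ^ C.c) (kernel C.aF) := by
  intro b hb
  rw [← cancel_mono (kernel.ι C.aF), zero_comp, smulMod_naturality]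
  apply C.Fp_hom_ext
  · rw [Category.assoc, smulMod_naturality, ← Category.assoc, kernel.condition, zero_comp,
      zero_comp]
  · intro n
    have hcond : (kernel.ι C.aF ≫ C.τ n) ≫ C.αn n = 0 := by
      rw [Category.assoc, τ_α, ← Category.assoc, kernel.condition, zero_comp]
    have hu : kernel.lift (C.αn n) (kernel.ι C.aF ≫ C.τ n) hcond ≫ kernel.ι (C.αn n) =
        kernel.ι C.aF ≫ C.τ n := kernel.lift_ι _ _ _
    rw [zero_comp, Category.assoc, smulMod_naturality, ← Category.assoc, ← hu, Category.assoc,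
      ← smulMod_naturality, (C.hα n).1 b hb, zero_comp, comp_zero]

variable [AlgebraicGeometry.IsNoetherian X]

instance qc_Fp : C.Fp.IsQuasicoherent := C.isCoh_Fp.1

theorem epi_τ (n : ℕ) : Epi (C.τ n) := by
  refine epi_of_app_surjective_affine _ (fun U hU x => ?_)
  obtain ⟨e, he⟩ := (C.DU hU).projE_surjective n x
  obtain ⟨s, hs⟩ := C.toE_surjective hU e
  refine ⟨s, ?_⟩
  rw [← C.projE_toE hU n s, hs]
  exact he

omit [AlgebraicGeometry.IsNoetherian X] in
theorem affine_cover (x : X) : ∃ U ∈ {U : X.Opens | IsAffineOpen U}, x ∈ U := by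
  obtain ⟨U, hU, hxU, -⟩ := (Opens.isBasis_iff_nbhd.mp X.isBasis_affineOpens)
    (show x ∈ (⊤ : X.Opens) from trivial)
  exact ⟨U, hU, hxU⟩

theorem isQuot_τ (n : ℕ) : IsQuot (I ^ (n + 1)) (C.τ n) := by
  haveI := C.epi_τ n
  refine ⟨fun a ha => ?_, inferInstance, fun Z g hg => ?_⟩
  · rw [smulMod_naturality, C.hF.2.1 n a ha, comp_zero]
  · refine exists_fac_of_epi (C.τ n) g ?_
    haveI : (kernel (C.τ n)).IsQuasicoherent := SubExt.isQuasicoherent_kernel _
    refine hom_eq_zero_of_affine_cover _ {U | IsAffineOpen U} (fun U hU => hU) affine_cover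
      (fun U hU k => ?_)
    have hU' : IsAffineOpen U := hU
    haveI : IsNoetherianRing Γ(X, U) := IsLocallyNoetherian.component_noetherian ⟨U, hU'⟩
    haveI : SheafOfModules.IsFiniteType (R := X.ringCatSheaf) C.G := C.hG.2
    haveI : Module.Finite Γ(X, U) Γ(C.G, U) := QCohFT.finite_of_isFiniteType C.G hU'
    rw [comp_app']
    refine app_eq_zero_of_mem_smul_top A I g hg U _ ?_
    obtain ⟨s, hs⟩ : ∃ s, s = (kernel.ι (C.τ n)).app U k := ⟨_, rfl⟩
    rw [← hs]
    have hs0 : (C.τ n).app U s = 0 := by rw [hs, ← comp_app', kernel.condition, zero_app']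
    have h1 : C.toE hU' s ∈ (JU A I U) ^ (n + 1) • (⊤ : Submodule Γ(X, U) (C.DU hU').E) :=
      (C.DU hU').mem_smul_top_of_proj_eq_zero n _ (by rw [projE_toE]; exact hs0)
    obtain ⟨s', hs', hss'⟩ :=
      exists_mem_smul_top_of_surjective (C.toE hU') (C.toE_surjective hU') _ h1
    rw [← C.toE_injective hU' hss']
    exact hs'

theorem killed_cokernel_aF : Formal.KilledBy (I ^ C.c) (cokernel C.aF) := by
  intro b hb
  haveI : (cokernel C.aF).IsQuasicoherent := BModH6.isQuasicoherent_cokernel _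
  refine hom_eq_zero_of_affine_cover _ {U | IsAffineOpen U} (fun U hU => hU) affine_cover
    (fun U hU y => ?_)
  have hU' : IsAffineOpen U := hU
  obtain ⟨g, rfl⟩ := sl_surjective_of_epi (cokernel.π C.aF) hU' y
  show (Formal.smulMod A (cokernel C.aF) b).app U ((cokernel.π C.aF).app U g) = 0
  rw [← comp_app', ← smulMod_naturality, comp_app', smulMod_app]
  have hb' : rU b U ∈ (JU A I U) ^ C.c := by
    rw [← rUHom_apply]
    show rUHom (A := A) U b ∈ (Ideal.map (rUHom (A := A) U) I) ^ C.c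
    rw [← Ideal.map_pow]
    exact Ideal.mem_map_of_mem _ hb
  obtain ⟨e, he⟩ := (C.DU hU').smul_mem_range_fstE g hb'
  obtain ⟨s, hs⟩ := C.toE_surjective hU' e
  have h1 : rU b U • g = C.aF.app U s := by rw [← C.fstE_toE hU' s, hs, he]
  rw [h1, ← comp_app', cokernel.condition, zero_app']

end Ctx

/-- **S0829**. -/
theorem main0829 (A : Type u) [CommRing A] (I : Ideal A) (X : Scheme.{u})
    [X.Over (Spec (CommRingCat.of A))] [AlgebraicGeometry.IsNoetherian X] (G : X.Modules)
    (hG : Coh.IsCoh G) (F : ℕᵒᵖ ⥤ X.Modules) (hF : Formal.IsCohFormal I F)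
    (α : F ⟶ Formal.completion I G) (hα : Formal2.KerCokerKilledByIPow I α) :
    ∃ (F' : X.Modules) (a : F' ⟶ G) (β : F ≅ Formal.completion I F'), Coh.IsCoh F' ∧
      Formal2.KerCokerKilledByIPowHom I a ∧
      ∀ n : ℕ, Formal.modPowπ I (n + 1) F' ≫ β.inv.app (op n) ≫ α.app (op n) =
        a ≫ Formal.modPowπ I (n + 1) G := by
  obtain ⟨t, ht⟩ := hα
  let C : Ctx A I X := ⟨G, hG, F, hF, α, t + 1, ht⟩
  obtain ⟨β, hβ⟩ := exists_completion_iso_of_isQuot I C.Fp F C.τ C.isQuot_τ C.τ_succ
  refine ⟨C.Fp, C.aF, β.symm, C.isCoh_Fp, ⟨t, C.killed_kernel_aF, C.killed_cokernel_aF⟩,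
    fun n => ?_⟩
  show Formal.modPowπ I (n + 1) C.Fp ≫ β.hom.app (op n) ≫ α.app (op n) = _
  rw [← Category.assoc, hβ n]
  exact C.τ_α n

end Groth.Agent.Lib.FormalARH2
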