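import Mathlib
import Groth.Agent.Lib.RegFlat_helper3
import Groth.Agent.Lib.GeomRegAdic_helper3
import Groth.Agent.Lib.CompleteNoeth_lead

/-!
# Adic completions of regular rings are regular (helper3)

* `isNoetherianRing_adicCompletion`
* `isRegularRing_adicCompletion`
APPEND-ONLY once landed.
-/

set_option autoImplicit false
set_option maxSynthPendingDepth 3

namespace Groth.Agent.Lib.ComplRegH3

open IsLocalRing

universe u

variable (A : Type u) [CommRing A] [IsNoetherianRing A] (I : Ideal A)

theorem isNoetherianRing_adicCompletion : IsNoetherianRing (AdicCompletion I A) := by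
  have fg : I.FG := IsNoetherian.noetherian I
  haveI := AdicCompletion.isAdicComplete_self I fg
  obtain ⟨n, x, hx⟩ := Submodule.fg_iff_exists_fin_generating_family.mp fg
  have e : (AdicCompletion I A ⧸ I.map (algebraMap A (AdicCompletion I A))) ≃+* (A ⧸ I) :=
    (Ideal.quotEquivOfEq (AdicCompletion.ker_evalOneₐ_eq_map I fg).symm).trans
      (RingHom.quotientKerEquivOfSurjective
        (f := (AdicCompletion.evalOneₐ I).toRingHom) (AdicCompletion.evalOneₐ_surjective I))
  haveI : IsNoetherianRing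
      (AdicCompletion I A ⧸ I.map (algebraMap A (AdicCompletion I A))) :=
    isNoetherianRing_of_ringEquiv _ e.symm
  have hspan : I.map (algebraMap A (AdicCompletion I A)) =
      Ideal.span (Set.range (fun i => algebraMap A (AdicCompletion I A) (x i))) := by
    have key : ∀ K : Ideal A, K = Ideal.span (Set.range x) →
        K.map (algebraMap A (AdicCompletion I A)) =
          Ideal.span (Set.range (fun i => algebraMap A (AdicCompletion I A) (x i))) := by
      rintro K rfl
      rw [Ideal.map_span, ← Set.range_comp]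
      rfl
    exact key I hx.symm
  refine Groth.Agent.Lib.CompleteNoethLead.isNoetherianRing_of_isAdicComplete
    (I.map (algebraMap A (AdicCompletion I A)))
    (fun i => algebraMap A (AdicCompletion I A) (x i)) ?_ ?_
  · intro i
    apply Ideal.mem_map_of_mem
    rw [← hx]
    exact Submodule.subset_span ⟨i, rfl⟩
  · rw [← hspan]
    exact le_sup_left

theorem isRegularRing_adicCompletion [IsRegularRing A] : IsRegularRing (AdicCompletion I A) := by
  have fg : I.FG := IsNoetherian.noetherian I
  haveI := isNoetherianRing_adicCompletion A I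
  haveI := AdicCompletion.isAdicComplete_self I fg
  apply Groth.Agent.Lib.GeomRegAdicH3.isRegularRing_of_forall_maximal
  intro 𝔐 h𝔐
  haveI := h𝔐
  haveI : 𝔐.IsPrime := h𝔐.isPrime
  have hJ𝔐 : I.map (algebraMap A (AdicCompletion I A)) ≤ 𝔐 :=
    (IsAdicComplete.le_jacobson_bot _).trans (sInf_le ⟨bot_le, h𝔐⟩)
  set 𝔪 : Ideal A := 𝔐.under A with h𝔪
  have hI𝔪 : I ≤ 𝔪 := fun x hx => hJ𝔐 (Ideal.mem_map_of_mem _ hx)
  -- `A → Â/𝔐` is surjective
  let f : A →+* AdicCompletion I A ⧸ 𝔐 :=
    (Ideal.Quotient.mk 𝔐).comp (algebraMap A (AdicCompletion I A))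
  have hf : Function.Surjective f := by
    intro z
    obtain ⟨z, rfl⟩ := Ideal.Quotient.mk_surjective z
    obtain ⟨a, ha⟩ := Ideal.Quotient.mk_surjective (AdicCompletion.evalOneₐ I z)
    refine ⟨a, ?_⟩
    show Ideal.Quotient.mk 𝔐 (algebraMap A (AdicCompletion I A) a) = Ideal.Quotient.mk 𝔐 z
    rw [Ideal.Quotient.eq]
    apply hJ𝔐
    rw [← AdicCompletion.ker_evalOneₐ_eq_map I fg, RingHom.mem_ker, map_sub]
    have h1 : (AdicCompletion.evalOneₐ I).toRingHom (algebraMap A (AdicCompletion I A) a) =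
        Ideal.Quotient.mk I a :=
      RingHom.congr_fun (AdicCompletion.evalOneₐ_comp_algebraMap_eq_mk I) a
    rw [h1, ha]
    exact sub_self _
  letI : Field (AdicCompletion I A ⧸ 𝔐) := Ideal.Quotient.field 𝔐
  haveI h𝔪max : 𝔪.IsMaximal := by
    have h1 : (Ideal.comap f ⊥).IsMaximal :=
      Ideal.comap_isMaximal_of_surjective f hf (K := ⊥)
    have h2 : Ideal.comap f ⊥ = 𝔪 := by
      ext a
      rw [Ideal.mem_comap, Ideal.mem_bot]
      show Ideal.Quotient.mk 𝔐 (algebraMap A (AdicCompletion I A) a) = 0 ↔ _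
      rw [Ideal.Quotient.eq_zero_iff_mem]
      rfl
    rwa [h2] at h1
  have hmax := AdicCompletion.isMaximal_map_of_le I 𝔪 hI𝔪 fg
  have h𝔐eq : 𝔪.map (algebraMap A (AdicCompletion I A)) = 𝔐 :=
    hmax.eq_of_le h𝔐.ne_top Ideal.map_comap_le
  haveI : 𝔐.LiesOver 𝔪 := ⟨rfl⟩
  letI := Localization.AtPrime.algebraOfLiesOver 𝔪 𝔐
  haveI : IsNoetherianRing (Localization.AtPrime 𝔐) :=
    IsLocalization.isNoetherianRing 𝔐.primeCompl _ inferInstance
  haveI : IsNoetherianRing (Localization.AtPrime 𝔪) :=
    IsLocalization.isNoetherianRing 𝔪.primeCompl _ inferInstance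
  have hI : maximalIdeal (Localization.AtPrime 𝔐) =
      (maximalIdeal (Localization.AtPrime 𝔪)).map
        (algebraMap (Localization.AtPrime 𝔪) (Localization.AtPrime 𝔐)) := by
    rw [← Localization.AtPrime.map_eq_maximalIdeal (I := 𝔪), Ideal.map_map,
      ← IsScalarTower.algebraMap_eq,
      IsScalarTower.algebraMap_eq A (AdicCompletion I A) (Localization.AtPrime 𝔐),
      ← Ideal.map_map, h𝔐eq, Localization.AtPrime.map_eq_maximalIdeal]
  haveI : IsRegularLocalRing (Localization.AtPrime 𝔐 ⧸ maximalIdeal (Localization.AtPrime 𝔐)) :=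
    inferInstanceAs (IsRegularLocalRing (ResidueField (Localization.AtPrime 𝔐)))
  exact Groth.Agent.Lib.RegFlatH3.isRegularLocalRing_of_flat (A := Localization.AtPrime 𝔪)
    (maximalIdeal (Localization.AtPrime 𝔐)) hI

end Groth.Agent.Lib.ComplRegH3
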