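import Mathlib
import Groth.Prelude
import Groth.Agent.Lib.AdicSys1_helper2
import Groth.Agent.Lib.CompleteNoeth_lead
import Groth.Agent.Lib.ComplReg_helper3

/-!
# A two-ideal Artin–Rees statement for adic systems of modules (helper2)

`R` Noetherian, `J`, `𝔨` ideals.  An `J`-adically complete `R`-module `L` with `L/JL` finite is a
finite module over the Noetherian ring `S = AdicCompletion J R`; Artin–Rees over `S` (for `𝔨 S` and
for `J S`) gives `exists_two_ideal_AR`.  `exists_AR_two_ideals` is the consequence for adic systems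
of modules: a compatible family of submodules `S_n ⊆ Y_n` killed by `𝔨^t` meets `𝔨^e Y_n` trivially
up to translation.
APPEND-ONLY once landed.
-/

set_option autoImplicit false
set_option linter.style.haveILetI false
set_option linter.unusedSectionVars false
universe u
open CategoryTheory CategoryTheory.Limits Opposite

namespace Groth.Agent.Lib.GExH2

open Groth.Agent.Lib.AdicSysH2

section Complete

variable {R : Type u} [CommRing R] [IsNoetherianRing R] (J 𝔨 : Ideal R)
  (L : Type u) [AddCommGroup L] [Module R L] [IsAdicComplete J L]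

/-- the auxiliary statement over the completed ring -/
theorem exists_two_ideal_AR_aux (S : Type u) [CommRing S] [IsNoetherianRing S] [Algebra R S]
    [Module S L] [IsScalarTower R S L] [Module.Finite S L]
    (𝒜 : Submodule R L) (t : ℕ) (hkill : ∀ k ∈ 𝔨 ^ t, ∀ a ∈ 𝒜, k • a = 0) :
    ∃ e r : ℕ, ∀ n, ∀ ξ ∈ 𝒜, ξ ∈ 𝔨 ^ e • (⊤ : Submodule R L) ⊔ J ^ (n + r) • ⊤ →
      ξ ∈ J ^ n • (⊤ : Submodule R L) := by
  obtain ⟨JS, hJS⟩ : ∃ JS : Ideal S, JS = J.map (algebraMap R S) := ⟨_, rfl⟩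
  obtain ⟨kS, hkS⟩ : ∃ kS : Ideal S, kS = 𝔨.map (algebraMap R S) := ⟨_, rfl⟩
  -- the `S`-span of `𝒜`
  obtain ⟨AS, hAS⟩ : ∃ AS : Submodule S L, AS = Submodule.span S (𝒜 : Set L) := ⟨_, rfl⟩
  have hA_le : ∀ a ∈ 𝒜, a ∈ AS := fun a ha => by
    rw [hAS]
    exact Submodule.subset_span ha
  -- restriction of scalars of `JS^n • ⊤` and `kS^n • ⊤`
  have hresJ : ∀ n : ℕ, ∀ x : L, x ∈ JS ^ n • (⊤ : Submodule S L) ↔
      x ∈ J ^ n • (⊤ : Submodule R L) := by
    intro n x
    have h1 := Ideal.smul_restrictScalars (J ^ n) (⊤ : Submodule S L)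
    rw [Ideal.map_pow, ← hJS, Submodule.restrictScalars_top] at h1
    rw [← h1]
    rfl
  have hresk : ∀ n : ℕ, ∀ x : L, x ∈ kS ^ n • (⊤ : Submodule S L) ↔
      x ∈ 𝔨 ^ n • (⊤ : Submodule R L) := by
    intro n x
    have h1 := Ideal.smul_restrictScalars (𝔨 ^ n) (⊤ : Submodule S L)
    rw [Ideal.map_pow, ← hkS, Submodule.restrictScalars_top] at h1
    rw [← h1]
    rfl
  -- `kS^t` kills `AS`
  have hkillS : kS ^ t • AS = ⊥ := by
    rw [eq_bot_iff, Submodule.smul_le]
    intro s hs a ha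
    rw [Submodule.mem_bot]
    rw [hkS, ← Ideal.map_pow] at hs
    -- `s` is an `S`-combination of images of elements of `𝔨^t`
    have h2 : ∀ s ∈ Ideal.map (algebraMap R S) (𝔨 ^ t), ∀ a ∈ AS, s • a = 0 := by
      intro s hs
      refine Submodule.span_induction (p := fun s _ => ∀ a ∈ AS, s • a = 0) ?_ ?_ ?_ ?_ hs
      · rintro _ ⟨k, hk, rfl⟩ a ha
        rw [hAS] at ha
        refine Submodule.span_induction (p := fun a _ => (algebraMap R S k) • a = 0) ?_ ?_ ?_ ?_ ha
        · intro a ha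
          rw [algebraMap_smul]
          exact hkill k hk a ha
        · rw [smul_zero]
        · intro x y _ _ hx hy
          rw [smul_add, hx, hy, add_zero]
        · intro c x _ hx
          rw [smul_comm, hx, smul_zero]
      · intro a _
        rw [zero_smul]
      · intro x y _ _ hx hy a ha
        rw [add_smul, hx a ha, hy a ha, add_zero]
      · intro c x _ hx a ha
        rw [smul_eq_mul, mul_smul, hx a ha, smul_zero]
    exact h2 s hs a ha
  -- Artin–Rees for `kS`
  obtain ⟨c, hc⟩ := Ideal.exists_pow_inf_eq_pow_smul kS AS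
  have hAR1 : kS ^ (c + t) • (⊤ : Submodule S L) ⊓ AS = ⊥ := by
    rw [hc (c + t) (Nat.le_add_right c t), Nat.add_sub_cancel_left, eq_bot_iff, ← hkillS]
    exact Submodule.smul_mono le_rfl inf_le_right
  obtain ⟨P, hP⟩ : ∃ P : Submodule S L, P = AS ⊔ kS ^ (c + t) • (⊤ : Submodule S L) := ⟨_, rfl⟩
  obtain ⟨r, hr⟩ := Ideal.exists_pow_inf_eq_pow_smul JS P
  refine ⟨c + t, r, fun n ξ hξ hmem => ?_⟩
  obtain ⟨y, hy, z, hz, rfl⟩ := Submodule.mem_sup.mp hmem
  have hyS : y ∈ kS ^ (c + t) • (⊤ : Submodule S L) := (hresk _ y).mpr hy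
  have hzS : z ∈ JS ^ (n + r) • (⊤ : Submodule S L) := (hresJ _ z).mpr hz
  have hzP : z ∈ P := by
    have h1 : z = (y + z) - y := by abel
    rw [h1, hP]
    exact Submodule.sub_mem _ (Submodule.mem_sup_left (hA_le _ hξ)) (Submodule.mem_sup_right hyS)
  have hz2 : z ∈ JS ^ n • P := by
    have h1 : z ∈ JS ^ (n + r) • (⊤ : Submodule S L) ⊓ P := ⟨hzS, hzP⟩
    rw [hr (n + r) (Nat.le_add_left r n), Nat.add_sub_cancel] at h1
    exact Submodule.smul_mono le_rfl inf_le_right h1
  rw [hP, Submodule.smul_sup] at hz2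
  obtain ⟨z₁, hz₁, z₂, hz₂, hzz⟩ := Submodule.mem_sup.mp hz2
  have hz₁A : z₁ ∈ AS := Submodule.smul_le_right hz₁
  have hz₂k : z₂ ∈ kS ^ (c + t) • (⊤ : Submodule S L) := Submodule.smul_le_right hz₂
  have h0 : (y + z) - z₁ ∈ kS ^ (c + t) • (⊤ : Submodule S L) ⊓ AS := by
    refine ⟨?_, Submodule.sub_mem _ (hA_le _ hξ) hz₁A⟩
    have h1 : (y + z) - z₁ = y + z₂ := by
      rw [← hzz]
      abel
    rw [h1]
    exact Submodule.add_mem _ hyS hz₂k
  rw [hAR1, Submodule.mem_bot, sub_eq_zero] at h0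
  rw [h0, ← hresJ]
  exact Submodule.smul_mono le_rfl le_top hz₁

/-- **two-ideal Artin–Rees** for a `J`-adically complete module with `L/JL` finite -/
theorem exists_two_ideal_AR (hfin : Module.Finite R (L ⧸ (J • (⊤ : Submodule R L))))
    (𝒜 : Submodule R L) (t : ℕ) (hkill : ∀ k ∈ 𝔨 ^ t, ∀ a ∈ 𝒜, k • a = 0) :
    ∃ e r : ℕ, ∀ n, ∀ ξ ∈ 𝒜, ξ ∈ 𝔨 ^ e • (⊤ : Submodule R L) ⊔ J ^ (n + r) • ⊤ →
      ξ ∈ J ^ n • (⊤ : Submodule R L) := by
  have fg : J.FG := IsNoetherian.noetherian J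
  haveI hSN : IsNoetherianRing (AdicCompletion J R) :=
    Groth.Agent.Lib.ComplRegH3.isNoetherianRing_adicCompletion R J
  haveI hSc : IsAdicComplete (J.map (algebraMap R (AdicCompletion J R))) (AdicCompletion J R) :=
    AdicCompletion.isAdicComplete_self J fg
  letI mS : Module (AdicCompletion J R) L :=
    (AdicCompletion.ofLinearEquiv J L).toAddEquiv.module (AdicCompletion J R)
  haveI hT : IsScalarTower R (AdicCompletion J R) L :=
    LinearEquiv.isScalarTower (AdicCompletion J R) (AdicCompletion.ofLinearEquiv J L)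
  haveI hH : IsHausdorff (J.map (algebraMap R (AdicCompletion J R))) L :=
    (IsHausdorff.map_algebraMap_iff (I := J) (S := AdicCompletion J R) (M := L)).mpr inferInstance
  haveI hF : Module.Finite (AdicCompletion J R) L := by
    refine Groth.Agent.Lib.CompleteNoethLead.finite_of_hausdorff
      (J.map (algebraMap R (AdicCompletion J R))) L ?_
    have h1 := Ideal.smul_restrictScalars J (⊤ : Submodule (AdicCompletion J R) L)
    rw [Submodule.restrictScalars_top] at h1
    have e1 : (L ⧸ (J • (⊤ : Submodule R L))) ≃ₗ[R]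
        (L ⧸ ((J.map (algebraMap R (AdicCompletion J R))) •
          (⊤ : Submodule (AdicCompletion J R) L))) :=
      (Submodule.quotEquivOfEq _ _ h1.symm).trans
        (Submodule.Quotient.restrictScalarsEquiv R _)
    haveI : Module.Finite R (L ⧸ ((J.map (algebraMap R (AdicCompletion J R))) •
        (⊤ : Submodule (AdicCompletion J R) L))) := Module.Finite.equiv e1
    exact Module.Finite.of_restrictScalars_finite R (AdicCompletion J R) _
  exact exists_two_ideal_AR_aux J 𝔨 L (AdicCompletion J R) 𝒜 t hkill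

end Complete

section Sys

variable {R : Type u} [CommRing R] (Y : ARSys.PS (ModuleCat.{u} R))

theorem T_mem_of_stable (S : ∀ n, Set (Y.obj (op n)))
    (hS2 : ∀ n, ∀ x ∈ S (n + 1), T Y (Nat.le_succ n) x ∈ S n) :
    ∀ (m k : ℕ) (h : m ≤ k) (x : Y.obj (op k)), x ∈ S k → T Y h x ∈ S m := by
  intro m k h
  induction k, h using Nat.le_induction with
  | base =>
    intro x hx
    rw [T_refl]
    exact hx
  | succ k hk ih =>
    intro x hx
    rw [← T_T Y hk (Nat.le_succ k) x]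
    exact ih _ (hS2 k x hx)

/-- lifting along a tower through a stable family of liftable subsets -/
theorem exists_Lsub_of_liftable' (S : ∀ n, Set (Y.obj (op n)))
    (hS1 : ∀ n, ∀ y ∈ S n, ∃ x ∈ S (n + 1), T Y (Nat.le_succ n) x = y)
    (hS2 : ∀ n, ∀ x ∈ S (n + 1), T Y (Nat.le_succ n) x ∈ S n)
    (n : ℕ) (v : Y.obj (op n)) (hv : v ∈ S n) :
    ∃ z : Lsub Y, πL Y n z = v ∧ ∀ m, πL Y m z ∈ S m := by
  classical
  have hS' : ∀ (k : ℕ) (y : Y.obj (op k)), ∃ x : Y.obj (op (k + 1)),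
      y ∈ S k → (x ∈ S (k + 1) ∧ T Y (Nat.le_succ k) x = y) := by
    intro k y
    by_cases hy : y ∈ S k
    · obtain ⟨x, hx1, hx2⟩ := hS1 k y hy
      exact ⟨x, fun _ => ⟨hx1, hx2⟩⟩
    · exact ⟨0, fun h => absurd h hy⟩
  choose lift hlift using hS'
  let w : ∀ m, Y.obj (op m) := fun m =>
    Nat.rec (motive := fun m => Y.obj (op m)) (T Y (Nat.zero_le n) v)
      (fun m wm => if h : m + 1 ≤ n then T Y h v else lift m wm) m
  have hw0 : w 0 = T Y (Nat.zero_le n) v := rfl
  have hws : ∀ m, w (m + 1) = if h : m + 1 ≤ n then T Y h v else lift m (w m) := fun m => rfl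
  have hA : ∀ m (h : m ≤ n), w m = T Y h v := by
    intro m h
    cases m with
    | zero => exact hw0
    | succ m => rw [hws, dif_pos h]
  have hmem : ∀ m, n ≤ m → w m ∈ S m := by
    intro m hm
    induction m, hm using Nat.le_induction with
    | base =>
      rw [hA n le_rfl, T_refl]
      exact hv
    | succ m hm ih =>
      rw [hws, dif_neg (by omega)]
      exact (hlift m (w m) ih).1
  have hB : ∀ m, T Y (Nat.le_succ m) (w (m + 1)) = w m := by
    intro m
    by_cases h : m + 1 ≤ n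
    · rw [hws, dif_pos h, hA m (Nat.le_of_succ_le h), T_T]
    · rw [hws, dif_neg h]
      exact (hlift m (w m) (hmem m (by omega))).2
  refine ⟨⟨w, mem_Lsub_of_succ Y w hB⟩, ?_, fun m => ?_⟩
  · show w n = v
    rw [hA n le_rfl, T_refl]
  · show w m ∈ S m
    by_cases h : n ≤ m
    · exact hmem m h
    · have h' : m ≤ n := by omega
      rw [hA m h']
      exact T_mem_of_stable Y S hS2 m n h' v hv

variable (hS : ∀ n, Function.Surjective (T Y (Nat.le_succ n))) (J : Ideal R)
  (hK : ∀ n, LinearMap.ker (T Y (Nat.le_succ n)) ≤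
    J ^ (n + 1) • (⊤ : Submodule R (Y.obj (op n.succ))))
  (hZ : ∀ n, J ^ (n + 1) • (⊤ : Submodule R (Y.obj (op n))) = ⊥)

include hS hK hZ in
theorem isAdicComplete_Lsub (hJ : J.FG) : IsAdicComplete J (Lsub Y) := by
  haveI h1 : IsHausdorff J (Lsub Y) := ⟨fun x hx => by
    apply Lsub_ext
    intro n
    have h1 : x ∈ J ^ (n + 1) • (⊤ : Submodule R (Lsub Y)) := by
      have := hx (n + 1)
      rwa [SModEq.zero] at this
    rw [πL_eq_zero_of_mem_smul_top Y J hZ (le_refl (n + 1)) x h1, map_zero]⟩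
  haveI h2 : IsPrecomplete J (Lsub Y) := ⟨fun f hf => by
    have hcomp : ∀ n, T Y (Nat.le_succ n) (πL Y (n + 1) (f (n + 1 + 1))) =
        πL Y n (f (n + 1)) := by
      intro n
      rw [T_πL]
      have h1 : f (n + 1) ≡ f (n + 1 + 1) [SMOD (J ^ (n + 1) • ⊤ : Submodule R (Lsub Y))] :=
        hf (Nat.le_succ (n + 1))
      have h2 : f (n + 1) - f (n + 1 + 1) ∈ J ^ (n + 1) • (⊤ : Submodule R (Lsub Y)) :=
        SModEq.sub_mem.mp h1
      have h3 := πL_eq_zero_of_mem_smul_top Y J hZ (le_refl (n + 1)) _ h2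
      rw [map_sub, sub_eq_zero] at h3
      exact h3.symm
    refine ⟨⟨fun n => πL Y n (f (n + 1)), mem_Lsub_of_succ Y _ hcomp⟩, fun n => ?_⟩
    cases n with
    | zero =>
      rw [pow_zero, Ideal.one_eq_top, Submodule.top_smul]
      exact SModEq.top
    | succ n =>
      rw [SModEq.sub_mem]
      apply mem_smul_top_of_apply_eq_zero Y hS J hK hZ hJ n
      rw [map_sub, sub_eq_zero]
      rfl⟩
  exact { toIsHausdorff := h1, toIsPrecomplete := h2 }

include hS hK hZ in
theorem finite_quot_Lsub (hJ : J.FG) (hfin : Module.Finite R (Y.obj (op 0))) :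
    Module.Finite R (Lsub Y ⧸ (J • (⊤ : Submodule R (Lsub Y)))) := by
  have hker : LinearMap.ker (πL Y 0) = J • (⊤ : Submodule R (Lsub Y)) := by
    apply le_antisymm
    · intro x hx
      have := mem_smul_top_of_apply_eq_zero Y hS J hK hZ hJ 0 x (LinearMap.mem_ker.mp hx)
      rwa [zero_add, pow_one] at this
    · intro x hx
      rw [LinearMap.mem_ker]
      refine πL_eq_zero_of_mem_smul_top Y J hZ (le_refl 1) x ?_
      rwa [pow_one]
  have e : (Lsub Y ⧸ (J • (⊤ : Submodule R (Lsub Y)))) ≃ₗ[R] Y.obj (op 0) :=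
    (Submodule.quotEquivOfEq _ _ hker.symm).trans
      (LinearMap.quotKerEquivOfSurjective (πL Y 0) (πL_surjective Y hS 0))
  exact Module.Finite.equiv e.symm

include hS hK hZ in
/-- **two-ideal Artin–Rees for adic systems**: a stable liftable family of submodules `S_n ⊆ Y_n`
killed by `𝔨^t` meets `𝔨^e Y_n` trivially up to translation. -/
theorem exists_AR_two_ideals [IsNoetherianRing R] (𝔨 : Ideal R)
    (hfin : Module.Finite R (Y.obj (op 0)))
    (S : ∀ n, Submodule R (Y.obj (op n)))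
    (hS1 : ∀ n, ∀ y ∈ S n, ∃ x ∈ S (n + 1), T Y (Nat.le_succ n) x = y)
    (hS2 : ∀ n, ∀ x ∈ S (n + 1), T Y (Nat.le_succ n) x ∈ S n)
    (t : ℕ) (hkill : ∀ n, ∀ k ∈ 𝔨 ^ t, ∀ a ∈ S n, k • a = 0) :
    ∃ e r : ℕ, ∀ n, ∀ x ∈ S (n + r),
      x ∈ 𝔨 ^ e • (⊤ : Submodule R (Y.obj (op (n + r)))) →
        T Y (Nat.le_add_right n r) x = 0 := by
  have hJ : J.FG := IsNoetherian.noetherian J
  haveI := isAdicComplete_Lsub Y hS J hK hZ hJ
  have hfin' := finite_quot_Lsub Y hS J hK hZ hJ hfin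
  let 𝒜 : Submodule R (Lsub Y) :=
    { carrier := {z | ∀ m, πL Y m z ∈ S m}
      add_mem' := fun {a b} ha hb m => by
        rw [map_add]
        exact (S m).add_mem (ha m) (hb m)
      zero_mem' := fun m => by
        rw [map_zero]
        exact (S m).zero_mem
      smul_mem' := fun c z hz m => by
        rw [map_smul]
        exact (S m).smul_mem c (hz m) }
  have hkillA : ∀ k ∈ 𝔨 ^ t, ∀ a ∈ 𝒜, k • a = 0 := by
    intro k hk a ha
    apply Lsub_ext
    intro m
    rw [map_smul, map_zero]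
    exact hkill m k hk _ (ha m)
  obtain ⟨e, r, her⟩ := exists_two_ideal_AR J 𝔨 (Lsub Y) hfin' 𝒜 t hkillA
  refine ⟨e, r, fun n x hx hxk => ?_⟩
  obtain ⟨ξ, hξ1, hξ2⟩ := exists_Lsub_of_liftable' Y (fun m => (S m : Set (Y.obj (op m))))
    hS1 hS2 (n + r) x hx
  have hsurj := πL_surjective Y hS (n + r)
  have h1 : x ∈ Submodule.map (πL Y (n + r)) (𝔨 ^ e • (⊤ : Submodule R (Lsub Y))) := by
    rw [Submodule.map_smul'', Submodule.map_top, LinearMap.range_eq_top.mpr hsurj]
    exact hxk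
  obtain ⟨η, hη, hηx⟩ := h1
  have h2 : ξ - η ∈ J ^ (n + 1 + r) • (⊤ : Submodule R (Lsub Y)) := by
    have h3 : πL Y (n + r) (ξ - η) = 0 := by rw [map_sub, hξ1, hηx, sub_self]
    have h4 := mem_smul_top_of_apply_eq_zero Y hS J hK hZ hJ (n + r) _ h3
    have e1 : n + r + 1 = n + 1 + r := by omega
    rwa [e1] at h4
  have h5 : ξ ∈ 𝔨 ^ e • (⊤ : Submodule R (Lsub Y)) ⊔ J ^ (n + 1 + r) • ⊤ := by
    have : ξ = η + (ξ - η) := by abel
    rw [this]
    exact Submodule.add_mem_sup hη h2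
  have h6 := her (n + 1) ξ hξ2 h5
  have h7 := πL_eq_zero_of_mem_smul_top Y J hZ (le_refl (n + 1)) ξ h6
  rw [← hξ1, T_πL]
  exact h7

end Sys

end Groth.Agent.Lib.GExH2
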