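import Mathlib
import Groth.Prelude
import Groth.Agent.Lib.GEx01_helper2
import Groth.Agent.Lib.CohAb2_helper2
import Groth.Agent.Lib.FormalAR4_helper2
import Groth.Agent.Lib.AlgzExt1_helper2
import Groth.Agent.Lib.CohDev7_helper8
import Groth.Agent.Lib.CohDev10_helper8
import Groth.Agent.Lib.ClPush1_helper8
import Groth.Agent.Lib.NilAff1_helper8
import Groth.Agent.Lib.ARAb_helper4

/-!
# Grothendieck existence, two-ideal step: bridging lemmas (helper2)

* comparison of the `ARSys` predicates (for the `A`-linear structure `KLin.linearOver`) with `Formal.KilledBy`, `FormalQuotH2.IsQuot`, `Formal.IsCohFormal`;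
* `IsComplOf I M G τ` : `(G, τ)` is a completion datum of `M`;
* section-level criteria: `isARNull_of_affine`, `isQuot_of_sections`.
APPEND-ONLY once landed.
-/

set_option autoImplicit false
set_option backward.isDefEq.respectTransparency false
set_option linter.style.haveILetI false
set_option linter.unusedSectionVars false
universe u
open CategoryTheory CategoryTheory.Limits AlgebraicGeometry TopologicalSpace Opposite

namespace Groth.Agent.Lib.GExH2

open Formal Groth.Agent.Lib.FormalModPowH4 Groth.Agent.Lib.FormalFnH2 Groth.Agent.Lib.FibAmpH2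
  Groth.Agent.Lib.FlatBCH2 Groth.Agent.Lib.FibVanH2 Groth.Agent.Lib.FormalQuotH2
  Groth.Agent.Lib.AdicSysH2 Groth.Agent.Lib.LimTruncH2 QcqsLoc

section Bridge

variable {A : Type u} [CommRing A] {X : Scheme.{u}} [X.Over (Spec (CommRingCat.of A))]

theorem smul_eq' {M N : X.Modules} (a : A) (f : M ⟶ N) : a • f = Formal.smulMod A M a ≫ f := rfl

theorem smul_eq {M N : X.Modules} (a : A) (f : M ⟶ N) : a • f = f ≫ Formal.smulMod A N a := by
  rw [smul_eq', smulMod_naturality]

theorem smul_id_eq (M : X.Modules) (a : A) : a • 𝟙 M = Formal.smulMod A M a := KLin.smul_id M a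

theorem arsKilledBy_iff (J : Ideal A) (M : X.Modules) :
    ARSys.KilledBy J M ↔ Formal.KilledBy J M := by
  constructor
  · intro h a ha
    rw [← smul_id_eq]
    exact h a ha
  · intro h a ha
    rw [smul_id_eq]
    exact h a ha

theorem arsHomKilledBy_iff (J : Ideal A) {M N : X.Modules} (φ : M ⟶ N) :
    ARSys.HomKilledBy J φ ↔ ∀ a ∈ J, Formal.smulMod A M a ≫ φ = 0 := by
  constructor
  · intro h a ha
    rw [← smul_eq']
    exact h a ha
  · intro h a ha
    rw [smul_eq']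
    exact h a ha

theorem killed_of_isQuot {J : Ideal A} {M N : X.Modules} {t : M ⟶ N}
    (ht : FormalQuotH2.IsQuot J t) : Formal.KilledBy J N := by
  intro a ha
  haveI := ht.2.1
  rw [← cancel_epi t, comp_zero, ← smulMod_naturality]
  exact ht.1 a ha

theorem arsIsQuot_iff (J : Ideal A) {M N : X.Modules} (t : M ⟶ N) :
    ARSys.IsQuot J t ↔ FormalQuotH2.IsQuot J t := by
  constructor
  · intro h
    have hN : Formal.KilledBy J N := (arsKilledBy_iff J N).mp h.1
    haveI : Epi t := ARNoethH4.epi_of_isQuot t h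
    refine ⟨fun a ha => by rw [smulMod_naturality, hN a ha, comp_zero], inferInstance,
      fun Z g hg => ?_⟩
    obtain ⟨ψ, hψ, -⟩ := h.2 Z g ((arsHomKilledBy_iff J g).mpr hg)
    exact ⟨ψ, hψ⟩
  · intro h
    haveI := h.2.1
    refine ⟨(arsKilledBy_iff J N).mpr (killed_of_isQuot h), fun Z φ hφ => ?_⟩
    obtain ⟨g', hg'⟩ := h.2.2 Z φ ((arsHomKilledBy_iff J φ).mp hφ)
    exact ⟨g', hg', fun ψ hψ => by rw [← cancel_epi t, hψ, hg']⟩

variable {I : Ideal A}

theorem isAdic_of_isCohFormal {F : ℕᵒᵖ ⥤ X.Modules} (hF : Formal.IsCohFormal I F) :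
    ARSys.IsAdic I F :=
  ⟨fun n => (arsKilledBy_iff _ _).mpr (hF.2.1 n),
    fun _ _ h => (arsIsQuot_iff _ _).mpr (isQuot_gm hF h)⟩

theorem isCohFormal_of_isAdic {F : ℕᵒᵖ ⥤ X.Modules} (hF : ARSys.IsAdic I F)
    (hcoh : ∀ n, Coh.IsCoh (F.obj (op n))) : Formal.IsCohFormal I F :=
  ⟨hcoh, fun n => (arsKilledBy_iff _ _).mp (hF.1 n),
    fun n => ((arsIsQuot_iff _ _).mp (hF.2 n (n + 1) (Nat.le_succ n))).cond⟩

theorem isStrict_of_isAdic {F : ℕᵒᵖ ⥤ X.Modules} (hF : ARSys.IsAdic I F) : ARSys.IsStrict F :=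
  fun n m h => ARNoethH4.epi_of_isQuot _ (hF.2 n m h)

end Bridge

section Compl

variable {A : Type u} [CommRing A] {X : Scheme.{u}} [X.Over (Spec (CommRingCat.of A))]

/-- `(G, τ)` is a completion datum of `M`: compatible quotient maps `M ⟶ G_n` by `I^(n+1)` -/
structure IsComplOf (I : Ideal A) (M : X.Modules) (G : ℕᵒᵖ ⥤ X.Modules)
    (τ : ∀ n, M ⟶ Gn G n) : Prop where
  quot : ∀ n, IsQuot (I ^ (n + 1)) (τ n)
  comp : ∀ n, τ (n + 1) ≫ tG G n = τ n

theorem isComplOf_completion (I : Ideal A) (M : X.Modules) :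
    IsComplOf I M (Formal.completion I M) (fun n => Formal.modPowπ I (n + 1) M) where
  quot n := isQuot_modPowπ I (n + 1) M
  comp n := by
    show Formal.modPowπ I (n + 1 + 1) M ≫
      (Formal.completion I M).map (homOfLE (Nat.le_succ n)).op = _
    rw [Groth.Agent.Lib.AlgzExtH2.completion_map_succ]
    exact Formal.modPowπ_trans I (n + 1) M

namespace IsComplOf

variable {I : Ideal A} {M : X.Modules} {G : ℕᵒᵖ ⥤ X.Modules} {τ : ∀ n, M ⟶ Gn G n}

theorem epi (h : IsComplOf I M G τ) (n : ℕ) : Epi (τ n) := (h.quot n).2.1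

theorem killed (h : IsComplOf I M G τ) (n : ℕ) : Formal.KilledBy (I ^ (n + 1)) (Gn G n) :=
  killed_of_isQuot (h.quot n)

theorem comp_le (h : IsComplOf I M G τ) {n m : ℕ} (hnm : n ≤ m) : τ m ≫ gm G hnm = τ n := by
  induction m, hnm using Nat.le_induction with
  | base => rw [gm_refl, Category.comp_id]
  | succ m hm ih =>
    rw [← gm_trans hm (Nat.le_succ m), ← Category.assoc]
    have : τ (m + 1) ≫ gm G (Nat.le_succ m) = τ m := h.comp m
    rw [this, ih]

theorem exists_iso (h : IsComplOf I M G τ) : ∃ β : Formal.completion I M ≅ G,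
    ∀ n, Formal.modPowπ I (n + 1) M ≫ β.hom.app (op n) = τ n :=
  Groth.Agent.Lib.FormalARH2.exists_completion_iso_of_isQuot I M G τ h.quot h.comp

theorem isQuot_tG (h : IsComplOf I M G τ) (n : ℕ) : IsQuot (I ^ (n + 1)) (tG G n) := by
  refine IsQuot.of_comp (h.quot (n + 1)) ?_
  rw [h.comp n]
  exact h.quot n

theorem isCohFormal [IsLocallyNoetherian X] (h : IsComplOf I M G τ) (hM : Coh.IsCoh M) :
    Formal.IsCohFormal I G := by
  refine ⟨fun n => ?_, fun n => h.killed n, fun n => (h.isQuot_tG n).cond⟩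
  obtain ⟨e, -⟩ := (isQuot_modPowπ I (n + 1) M).exists_iso (h.quot n)
  exact CohDevH8.isCoh_of_iso e.symm (isCoh_modPow I hM (n + 1))

/-- the universal property of a completion datum -/
theorem exists_desc (h : IsComplOf I M G τ) (G' : ℕᵒᵖ ⥤ X.Modules)
    (hk : ∀ n, Formal.KilledBy (I ^ (n + 1)) (Gn G' n))
    (g : ∀ n, M ⟶ Gn G' n) (hg : ∀ n, g (n + 1) ≫ tG G' n = g n) :
    ∃ γ : G ⟶ G', ∀ n, τ n ≫ γ.app (op n) = g n := by
  have hex : ∀ n, ∃ c : Gn G n ⟶ Gn G' n, τ n ≫ c = g n := fun n =>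
    (h.quot n).2.2 _ (g n) (fun a ha => by rw [smulMod_naturality, hk n a ha, comp_zero])
  choose c hc using hex
  refine ⟨NatTrans.ofOpSequence c (fun n => ?_), fun n => hc n⟩
  haveI := h.epi (n + 1)
  show tG G n ≫ c n = c (n + 1) ≫ tG G' n
  rw [← cancel_epi (τ (n + 1)), ← Category.assoc, h.comp n, hc n, ← Category.assoc, hc (n + 1),
    hg n]

theorem hom_ext (h : IsComplOf I M G τ) {G' : ℕᵒᵖ ⥤ X.Modules} (γ γ' : G ⟶ G')
    (hγ : ∀ n, τ n ≫ γ.app (op n) = τ n ≫ γ'.app (op n)) : γ = γ' := by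
  apply NatTrans.ext
  funext k
  obtain ⟨n⟩ := k
  haveI := h.epi n
  exact (cancel_epi (τ n)).mp (hγ n)

/-- functoriality of completion data -/
theorem exists_map (h : IsComplOf I M G τ) {N : X.Modules} {G' : ℕᵒᵖ ⥤ X.Modules}
    {τ' : ∀ n, N ⟶ Gn G' n} (h' : IsComplOf I N G' τ') (φ : M ⟶ N) :
    ∃ φh : G ⟶ G', ∀ n, τ n ≫ φh.app (op n) = φ ≫ τ' n :=
  h.exists_desc G' h'.killed (fun n => φ ≫ τ' n) (fun n => by
    rw [Category.assoc]
    exact congrArg (fun t => φ ≫ t) (h'.comp n))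

/-- full faithfulness, transported to completion data -/
theorem existsUnique_of_FF (h : IsComplOf I M G τ) {N : X.Modules} {G' : ℕᵒᵖ ⥤ X.Modules}
    {τ' : ∀ n, N ⟶ Gn G' n} (h' : IsComplOf I N G' τ')
    (hFF : ∀ ψ : Formal.completion I M ⟶ Formal.completion I N, ∃! φ : M ⟶ N, ∀ n : ℕ,
      Formal.modPowπ I (n + 1) M ≫ ψ.app (op n) = φ ≫ Formal.modPowπ I (n + 1) N)
    (γ : G ⟶ G') : ∃! φ : M ⟶ N, ∀ n, τ n ≫ γ.app (op n) = φ ≫ τ' n := by
  obtain ⟨β, hβ⟩ := h.exists_iso
  obtain ⟨β', hβ'⟩ := h'.exists_iso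
  have e1 : ∀ n, τ' n ≫ β'.inv.app (op n) = Formal.modPowπ I (n + 1) N := by
    intro n
    rw [← hβ' n, Category.assoc, β'.hom_inv_id_app]
    exact Category.comp_id _
  obtain ⟨φ, hφ, huniq⟩ := hFF (β.hom ≫ γ ≫ β'.inv)
  refine ⟨φ, fun n => ?_, fun φ' hφ' => huniq φ' (fun n => ?_)⟩
  · have h1 := hφ n
    rw [NatTrans.comp_app, NatTrans.comp_app, ← Category.assoc, hβ n] at h1
    have h2 : τ n ≫ γ.app (op n) = (τ n ≫ γ.app (op n) ≫ β'.inv.app (op n)) ≫
        β'.hom.app (op n) := by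
      rw [Category.assoc, Category.assoc, β'.inv_hom_id_app]
      exact (congrArg (fun t => τ n ≫ t) (Category.comp_id _)).symm
    rw [h2, h1, Category.assoc, hβ' n]
  · rw [NatTrans.comp_app, NatTrans.comp_app, ← Category.assoc, hβ n, ← Category.assoc, hφ' n,
      Category.assoc, e1 n]

end IsComplOf

end Compl

section Sec

variable {X : Scheme.{u}}

theorem affine_cover' (x : X) : ∃ U ∈ {U : X.Opens | IsAffineOpen U}, x ∈ U := by
  obtain ⟨_, ⟨V, rfl⟩, hxV, -⟩ := Opens.isBasis_iff_nbhd.mp (isBasis_affine (X := X))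
    (show x ∈ (⊤ : X.Opens) from trivial)
  exact ⟨V.1, V.2, hxV⟩

/-- AR-null criterion via sections over affine opens -/
theorem isARNull_of_affine [CompactSpace X] (𝒩 : ℕᵒᵖ ⥤ X.Modules)
    [∀ n, (Gn 𝒩 n).IsQuasicoherent]
    (h : ∀ U : X.Opens, IsAffineOpen U → ∃ r : ℕ, ∀ (n : ℕ) (s : Γ(Gn 𝒩 (n + r), U)),
      (gm 𝒩 (Nat.le_add_right n r)).app U s = 0) : ARSys.IsARNull 𝒩 := by
  classical
  obtain ⟨s, hsfin, hs⟩ := (isCompact_iff_finite_and_eq_biUnion_affineOpens
    (X := X) (U := ⊤)).mp (by simpa using isCompact_univ)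
  have h' : ∀ V : X.affineOpens, ∃ r : ℕ, ∀ (n : ℕ) (y : Γ(Gn 𝒩 (n + r), V.1)),
      (gm 𝒩 (Nat.le_add_right n r)).app V.1 y = 0 := fun V => h V.1 V.2
  choose rf hrf using h'
  refine ⟨hsfin.toFinset.sup rf, fun n => ?_⟩
  show gm 𝒩 (Nat.le_add_right n (hsfin.toFinset.sup rf)) = 0
  refine hom_eq_zero_of_affine_cover _ ((fun V : X.affineOpens => V.1) '' s) ?_ ?_ ?_
  · rintro _ ⟨V, _, rfl⟩
    exact V.2
  · intro x
    have hx : x ∈ (⊤ : X.Opens) := trivial
    rw [hs] at hx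
    simp only [Opens.mem_iSup] at hx
    obtain ⟨V, hV, hxV⟩ := hx
    exact ⟨V.1, ⟨V, hV, rfl⟩, hxV⟩
  · rintro _ ⟨V, hV, rfl⟩ y
    have hle : rf V ≤ hsfin.toFinset.sup rf := Finset.le_sup (hsfin.mem_toFinset.mpr hV)
    have h1 : n + rf V ≤ n + hsfin.toFinset.sup rf := Nat.add_le_add_left hle n
    rw [← gm_trans (Nat.le_add_right n (rf V)) h1, comp_app']
    exact hrf V n _

theorem isPullback_sec_ext {P M N Z : X.Modules} {fst : P ⟶ M} {snd : P ⟶ N} {f : M ⟶ Z}
    {g : N ⟶ Z} (h : IsPullback fst snd f g) (U : X.Opens) (p q : Γ(P, U))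
    (h1 : fst.app U p = fst.app U q) (h2 : snd.app U p = snd.app U q) : p = q := by
  haveI : PreservesLimitsOfSize.{0, 0} (QCohExact.sec X U) :=
    preservesSmallestLimits_of_preservesLimits _
  haveI : PreservesLimitsOfSize.{0, 0} (forget Ab.{u}) :=
    preservesSmallestLimits_of_preservesLimits _
  exact Types.ext_of_isPullback (h.map (secT X U)) h1 h2

theorem isPullback_sec_exists {P M N Z : X.Modules} {fst : P ⟶ M} {snd : P ⟶ N} {f : M ⟶ Z}
    {g : N ⟶ Z} (h : IsPullback fst snd f g) (U : X.Opens) (m : Γ(M, U)) (n : Γ(N, U))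
    (hmn : f.app U m = g.app U n) :
    ∃ p : Γ(P, U), fst.app U p = m ∧ snd.app U p = n := by
  haveI : PreservesLimitsOfSize.{0, 0} (QCohExact.sec X U) :=
    preservesSmallestLimits_of_preservesLimits _
  haveI : PreservesLimitsOfSize.{0, 0} (forget Ab.{u}) :=
    preservesSmallestLimits_of_preservesLimits _
  exact Types.exists_of_isPullback (h.map (secT X U)) m n hmn

section Killed

variable {K : X.IdealSheafData}

theorem killedByIdeal_of_mono {M N : X.Modules} (j : M ⟶ N) [Mono j]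
    (hN : ClSub.KilledByIdeal K N) : ClSub.KilledByIdeal K M := by
  intro U a ha m
  apply sl_injective_of_mono j U.1
  rw [map_smul, map_zero]
  exact hN U a ha _

theorem killedByIdeal_of_epi {M N : X.Modules} [M.IsQuasicoherent] [N.IsQuasicoherent]
    (p : M ⟶ N) [Epi p] (hM : ClSub.KilledByIdeal K M) : ClSub.KilledByIdeal K N := by
  intro U a ha n
  obtain ⟨m, rfl⟩ := sl_surjective_of_epi p U.2 n
  have h1 : sl p U.1 (a • m) = a • sl p U.1 m := map_smul _ _ _
  refine h1.symm.trans ?_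
  rw [hM U a ha m, map_zero]

theorem killedByIdeal_of_iso {M N : X.Modules} (e : M ≅ N) (hN : ClSub.KilledByIdeal K N) :
    ClSub.KilledByIdeal K M := killedByIdeal_of_mono e.hom hN

theorem killedByIdeal_pow_mono {M : X.Modules} {t e : ℕ} (hte : t ≤ e)
    (hM : ClSub.KilledByIdeal (K ^ t) M) : ClSub.KilledByIdeal (K ^ e) M := by
  intro U a ha m
  refine hM U a ?_ m
  have h1 : (K ^ e).ideal U = (K.ideal U) ^ e := rfl
  have h2 : (K ^ t).ideal U = (K.ideal U) ^ t := rfl
  rw [h1] at ha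
  rw [h2]
  exact Ideal.pow_le_pow_right hte ha

theorem eq_zero_of_mem_ideal_smul_top {M : X.Modules} (hM : ClSub.KilledByIdeal K M)
    (U : X.affineOpens) (x : Γ(M, U.1))
    (hx : x ∈ K.ideal U • (⊤ : Submodule Γ(X, U.1) Γ(M, U.1))) : x = 0 := by
  refine Submodule.smul_induction_on hx (fun a ha y _ => hM U a ha y) (fun y z hy hz => ?_)
  rw [hy, hz, add_zero]

end Killed

section QuotCrit

variable {A : Type u} [CommRing A] (I : Ideal A) [X.Over (Spec (CommRingCat.of A))]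

theorem isQuasicoherent_modPow (M : X.Modules) [M.IsQuasicoherent] (k : ℕ) :
    (Formal.modPow I k M).IsQuasicoherent := by
  haveI : (∐ fun _ : (I ^ k : Ideal A) => M).IsQuasicoherent :=
    Groth.Agent.Lib.BModH6.isQuasicoherent_sigma _
  exact Groth.Agent.Lib.BModH6.isQuasicoherent_cokernel _

/-- a criterion, in terms of sections over affine opens, for being a quotient map by `I^k` -/
theorem isQuot_of_sections {M N : X.Modules} [M.IsQuasicoherent] [N.IsQuasicoherent] (k : ℕ)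
    (t : M ⟶ N) [Epi t] (h1 : ∀ a ∈ I ^ k, Formal.smulMod A M a ≫ t = 0)
    (h2 : ∀ (U : X.Opens), IsAffineOpen U → ∀ x : Γ(M, U), t.app U x = 0 →
      x ∈ (JU A I U) ^ k • (⊤ : Submodule Γ(X, U) Γ(M, U))) : IsQuot (I ^ k) t := by
  have h0 : Formal.smulFamily (I ^ k) M ≫ t = 0 := smulFamily_comp_eq_zero _ _ h1
  refine IsQuot.of_cond t h0 ?_
  obtain ⟨d, hd⟩ : ∃ d : Formal.modPow I k M ⟶ N,
      d = cokernel.desc (Formal.smulFamily (I ^ k) M) t h0 := ⟨_, rfl⟩
  rw [← hd]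
  have hπd : Formal.modPowπ I k M ≫ d = t := by
    rw [hd]
    exact cokernel.π_desc _ _ _
  haveI : Epi (Formal.modPowπ I k M ≫ d) := by
    rw [hπd]
    infer_instance
  haveI : Epi d := epi_of_epi (Formal.modPowπ I k M) d
  haveI : (Formal.modPow I k M).IsQuasicoherent := isQuasicoherent_modPow I M k
  haveI : (kernel d).IsQuasicoherent := SubExt.isQuasicoherent_kernel _
  haveI : Mono d := by
    apply Preadditive.mono_of_kernel_zero
    refine hom_eq_zero_of_affine_cover _ {U : X.Opens | IsAffineOpen U} (fun U hU => hU)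
      affine_cover' ?_
    intro U hU y
    obtain ⟨x, hx⟩ := sl_surjective_of_epi (Formal.modPowπ I k M) hU ((kernel.ι d).app U y)
    have hx' : (Formal.modPowπ I k M).app U x = (kernel.ι d).app U y := hx
    have h3 : t.app U x = 0 := by
      rw [← hπd, comp_app', hx', ← comp_app', kernel.condition, zero_app']
    have h4 := modPowπ_app_eq_zero_of_mem_JU A I M k U x (h2 U hU x h3)
    rw [← hx']
    exact h4
  exact isIso_of_mono_of_epi d

end QuotCrit

end Sec

end Groth.Agent.Lib.GExH2
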