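import Mathlib
import Groth.Prelude
import Groth.Agent.Lib.GEx02_helper2

/-!
# Grothendieck existence, two-ideal step: Artin–Rees exactness of completion (helper2)

* `exists_AR_joint` : Artin–Rees for a jointly injective pair of maps of finite modules;
* `Qf K`, `ηf K` : the functor `M ↦ M/KM` and the projection, with their section-level API;
  `isQuot_Qmap` : `Qf K` preserves quotient maps by `I^k`;
* `isARNull_of_affine_cover`, `isARNull_of_joint_mono`;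
* `epi_lift_kernel`, `epi_lift_pullback` : right exactness of completion data.
APPEND-ONLY once landed.
-/

set_option autoImplicit false
set_option backward.isDefEq.respectTransparency false
set_option linter.style.haveILetI false
set_option linter.unusedSectionVars false
universe u
open CategoryTheory CategoryTheory.Limits AlgebraicGeometry TopologicalSpace Opposite

namespace Groth.Agent.Lib.GExH2

open Formal Groth.Agent.Lib.FormalModPowH4 Groth.Agent.Lib.FormalFnH2 Groth.Agent.Lib.FibAmpH2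
  Groth.Agent.Lib.FlatBCH2 Groth.Agent.Lib.FibVanH2 Groth.Agent.Lib.FormalQuotH2
  Groth.Agent.Lib.AdicSysH2 Groth.Agent.Lib.LimTruncH2 QcqsLoc

section Alg

variable {R : Type u} [CommRing R] [IsNoetherianRing R] (J : Ideal R)
  {M' M₁ M₂ : Type u} [AddCommGroup M'] [Module R M'] [AddCommGroup M₁] [Module R M₁]
  [AddCommGroup M₂] [Module R M₂]

omit [IsNoetherianRing R] in
theorem prod_mem_smul_top (K : Ideal R) {a : M₁} {b : M₂}
    (ha : a ∈ K • (⊤ : Submodule R M₁)) (hb : b ∈ K • (⊤ : Submodule R M₂)) :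
    ((a, b) : M₁ × M₂) ∈ K • (⊤ : Submodule R (M₁ × M₂)) := by
  have h1 : ((a, b) : M₁ × M₂) = LinearMap.inl R M₁ M₂ a + LinearMap.inr R M₁ M₂ b := by
    simp
  rw [h1]
  exact Submodule.add_mem _ (map_mem_smul_top K (LinearMap.inl R M₁ M₂) ha)
    (map_mem_smul_top K (LinearMap.inr R M₁ M₂) hb)

/-- Artin–Rees for a jointly injective pair of maps into finite modules -/
theorem exists_AR_joint [Module.Finite R M₁] [Module.Finite R M₂]
    (f₁ : M' →ₗ[R] M₁) (f₂ : M' →ₗ[R] M₂) (hinj : ∀ x, f₁ x = 0 → f₂ x = 0 → x = 0) :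
    ∃ r : ℕ, ∀ (n : ℕ) (x : M'), f₁ x ∈ J ^ (n + r) • (⊤ : Submodule R M₁) →
      f₂ x ∈ J ^ (n + r) • (⊤ : Submodule R M₂) → x ∈ J ^ n • (⊤ : Submodule R M') := by
  obtain ⟨f, hf⟩ : ∃ f : M' →ₗ[R] M₁ × M₂, f = f₁.prod f₂ := ⟨_, rfl⟩
  have hfinj : Function.Injective f := by
    rw [← LinearMap.ker_eq_bot, LinearMap.ker_eq_bot']
    intro x hx
    rw [hf] at hx
    have h1 : f₁ x = 0 := congrArg Prod.fst hx
    have h2 : f₂ x = 0 := congrArg Prod.snd hx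
    exact hinj x h1 h2
  obtain ⟨r, hr⟩ := Ideal.exists_pow_inf_eq_pow_smul J (LinearMap.range f)
  refine ⟨r, fun n x h1 h2 => ?_⟩
  have h3 : f x ∈ J ^ (n + r) • (⊤ : Submodule R (M₁ × M₂)) ⊓ LinearMap.range f := by
    refine ⟨?_, ⟨x, rfl⟩⟩
    rw [hf]
    exact prod_mem_smul_top (J ^ (n + r)) h1 h2
  rw [hr (n + r) (Nat.le_add_left r n), Nat.add_sub_cancel] at h3
  have h4 : f x ∈ J ^ n • LinearMap.range f := Submodule.smul_mono le_rfl inf_le_right h3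
  rw [LinearMap.range_eq_map, ← Submodule.map_smul''] at h4
  obtain ⟨x', hx', hxx'⟩ := h4
  rw [← hfinj hxx']
  exact hx'

end Alg

section Q

variable {X : Scheme.{u}} (K : X.IdealSheafData)

/-- `M ↦ M/KM` as a functor -/
noncomputable def Qf : X.Modules ⥤ X.Modules :=
  Scheme.Modules.pullback K.subschemeι ⋙ Scheme.Modules.pushforward K.subschemeι

/-- the projection `M ⟶ M/KM` -/
noncomputable def ηf : 𝟭 X.Modules ⟶ Qf K :=
  (Scheme.Modules.pullbackPushforwardAdjunction K.subschemeι).unit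

/-- the projection `M ⟶ M/KM`, with source literally `M` -/
noncomputable def ηa (M : X.Modules) : M ⟶ (Qf K).obj M := (ηf K).app M

theorem ηf_naturality {M N : X.Modules} (f : M ⟶ N) :
    f ≫ ηa K N = ηa K M ≫ (Qf K).map f :=
  (ηf K).naturality f

instance isQuasicoherent_Qf (M : X.Modules) [M.IsQuasicoherent] :
    ((Qf K).obj M).IsQuasicoherent := by
  haveI hq2 : ((Scheme.Modules.pullback K.subschemeι).obj M).IsQuasicoherent := inferInstance
  exact QCohCrit.isQuasicoherent_pushforward K.subschemeι _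

theorem isCoh_Qf [IsLocallyNoetherian X] {M : X.Modules} (hM : Coh.IsCoh M) :
    Coh.IsCoh ((Qf K).obj M) := CohDevH8.isCoh_quotJ K M hM

instance epi_ηf (M : X.Modules) [M.IsQuasicoherent] : Epi (ηa K M) :=
  CohDevH8.epi_quotJπ K M

theorem killed_Qf (M : X.Modules) : ClSub.KilledByIdeal K ((Qf K).obj M) :=
  CohDevH8.killed_quotJ K M

theorem ηf_surjective (M : X.Modules) [M.IsQuasicoherent] {U : X.Opens} (hU : IsAffineOpen U) :
    Function.Surjective (sl (ηa K M) U) :=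
  NilAffH8.unit_app_surjective K.subschemeι M hU

theorem mem_of_ηf_eq_zero (M : X.Modules) [M.IsQuasicoherent] {U : X.Opens} (hU : IsAffineOpen U)
    (m : Γ(M, U)) (hm : (ηa K M).app U m = 0) :
    m ∈ K.ideal ⟨U, hU⟩ • (⊤ : Submodule Γ(X, U) Γ(M, U)) := by
  have h := NilAffH8.unit_app_ker K.subschemeι M hU m hm
  rwa [K.ker_subschemeι] at h

theorem ηf_eq_zero_of_mem (M : X.Modules) (U : X.affineOpens) (m : Γ(M, U.1))
    (hm : m ∈ K.ideal U • (⊤ : Submodule Γ(X, U.1) Γ(M, U.1))) :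
    (ηa K M).app U.1 m = 0 := by
  have h1 : sl (ηa K M) U.1 m ∈
      K.ideal U • (⊤ : Submodule Γ(X, U.1) Γ((Qf K).obj M, U.1)) :=
    map_mem_smul_top _ _ hm
  exact eq_zero_of_mem_ideal_smul_top (killed_Qf K M) U _ h1

theorem isIso_ηf (M : X.Modules) [M.IsQuasicoherent] (hM : ClSub.KilledByIdeal K M) :
    IsIso (ηa K M) := by
  have h : ClSub.KilledByIdeal K.subschemeι.ker M := by rwa [K.ker_subschemeι]
  exact ClPushH8.isIso_unit K.subschemeι M h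

/-- the universal property of `M ⟶ M/KM` -/
theorem exists_Qdesc {M Z : X.Modules} [Z.IsQuasicoherent] (hZ : ClSub.KilledByIdeal K Z)
    (g : M ⟶ Z) : ∃ g' : (Qf K).obj M ⟶ Z, ηa K M ≫ g' = g := by
  haveI := isIso_ηf K Z hZ
  refine ⟨(Qf K).map g ≫ inv (ηa K Z), ?_⟩
  rw [← Category.assoc, ← ηf_naturality, Category.assoc, IsIso.hom_inv_id, Category.comp_id]

variable {A : Type u} [CommRing A] (I : Ideal A) [X.Over (Spec (CommRingCat.of A))]

/-- `Qf K` preserves quotient maps by `I^k` -/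
theorem isQuot_Qmap [AlgebraicGeometry.IsNoetherian X] {M N : X.Modules} [M.IsQuasicoherent]
    [N.IsQuasicoherent] {k : ℕ} {t : M ⟶ N} (ht : IsQuot (I ^ k) t) :
    IsQuot (I ^ k) ((Qf K).map t) := by
  haveI := ht.2.1
  haveI : Epi (ηa K M ≫ (Qf K).map t) := by
    rw [← ηf_naturality]
    infer_instance
  haveI : Epi ((Qf K).map t) := epi_of_epi (ηa K M) _
  refine isQuot_of_sections I k _ (fun a ha => ?_) (fun U hU x hx => ?_)
  · rw [← cancel_epi (ηa K M), comp_zero, ← Category.assoc, ← smulMod_naturality,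
      Category.assoc, ← ηf_naturality, ← Category.assoc, ht.1 a ha, zero_comp]
  · obtain ⟨x₀, rfl⟩ := ηf_surjective K M hU x
    have h1 : (ηa K N).app U (t.app U x₀) = 0 := by
      rw [← comp_app', ηf_naturality, comp_app']
      exact hx
    have h2 := mem_of_ηf_eq_zero K N hU _ h1
    rw [smul_top_eq_map_of_surjective t U (sl_surjective_of_epi t hU) (K.ideal ⟨U, hU⟩)] at h2
    obtain ⟨x₁, hx₁, hx₁t⟩ := h2
    have hx₁t' : t.app U x₁ = t.app U x₀ := hx₁t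
    have h3 : t.app U (x₀ - x₁) = 0 := by
      rw [app_sub', hx₁t', sub_self]
    have h4 := (ht.app_eq_zero_iff A I hU _).mp h3
    have h5 : sl (ηa K M) U x₀ = sl (ηa K M) U (x₀ - x₁) := by
      rw [map_sub, show sl (ηa K M) U x₁ = 0 from ηf_eq_zero_of_mem K M ⟨U, hU⟩ x₁ hx₁,
        sub_zero]
    rw [h5]
    exact map_mem_smul_top _ _ h4

end Q

section ARCrit

variable {X : Scheme.{u}}

theorem exists_finite_affine_cover [CompactSpace X] : ∃ S : Set X.Opens, S.Finite ∧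
    (∀ U ∈ S, IsAffineOpen U) ∧ ∀ x : X, ∃ U ∈ S, x ∈ U := by
  obtain ⟨s, hsfin, hs⟩ := (isCompact_iff_finite_and_eq_biUnion_affineOpens
    (X := X) (U := ⊤)).mp (by simpa using isCompact_univ)
  refine ⟨(fun V : X.affineOpens => V.1) '' s, hsfin.image _, ?_, ?_⟩
  · rintro _ ⟨V, _, rfl⟩
    exact V.2
  · intro x
    have hx : x ∈ (⊤ : X.Opens) := trivial
    rw [hs] at hx
    simp only [Opens.mem_iSup] at hx
    obtain ⟨V, hV, hxV⟩ := hx
    exact ⟨V.1, ⟨V, hV, rfl⟩, hxV⟩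

/-- AR-null criterion via sections over the members of a finite affine cover -/
theorem isARNull_of_affine_cover (S : Set X.Opens) (hfin : S.Finite)
    (hS : ∀ U ∈ S, IsAffineOpen U) (hcov : ∀ x : X, ∃ U ∈ S, x ∈ U)
    (𝒩 : ℕᵒᵖ ⥤ X.Modules) [∀ n, (Gn 𝒩 n).IsQuasicoherent]
    (h : ∀ U ∈ S, ∃ r : ℕ, ∀ (n : ℕ) (s : Γ(Gn 𝒩 (n + r), U)),
      (gm 𝒩 (Nat.le_add_right n r)).app U s = 0) : ARSys.IsARNull 𝒩 := by
  classical
  have h' : ∀ U : X.Opens, ∃ r : ℕ, U ∈ S → ∀ (n : ℕ) (s : Γ(Gn 𝒩 (n + r), U)),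
      (gm 𝒩 (Nat.le_add_right n r)).app U s = 0 := by
    intro U
    by_cases hU : U ∈ S
    · obtain ⟨r, hr⟩ := h U hU
      exact ⟨r, fun _ => hr⟩
    · exact ⟨0, fun h => absurd h hU⟩
  choose rf hrf using h'
  refine ⟨hfin.toFinset.sup rf, fun n => ?_⟩
  show gm 𝒩 (Nat.le_add_right n (hfin.toFinset.sup rf)) = 0
  refine hom_eq_zero_of_affine_cover _ S hS hcov ?_
  intro U hU y
  have hle : rf U ≤ hfin.toFinset.sup rf := Finset.le_sup (hfin.mem_toFinset.mpr hU)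
  have h1 : n + rf U ≤ n + hfin.toFinset.sup rf := Nat.add_le_add_left hle n
  rw [← gm_trans (Nat.le_add_right n (rf U)) h1, comp_app']
  exact hrf U hU n _

variable {A : Type u} [CommRing A] {I : Ideal A} [X.Over (Spec (CommRingCat.of A))]
  [AlgebraicGeometry.IsNoetherian X]

theorem IsComplOf.isQuasicoherent {M : X.Modules} {G : ℕᵒᵖ ⥤ X.Modules} {τ : ∀ n, M ⟶ Gn G n}
    (h : IsComplOf I M G τ) [M.IsQuasicoherent] (n : ℕ) : (Gn G n).IsQuasicoherent := by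
  obtain ⟨e, -⟩ := (isQuot_modPowπ I (n + 1) M).exists_iso (h.quot n)
  haveI := isQuasicoherent_modPow I M (n + 1)
  exact CohOpenH8.isQuasicoherent_of_iso e.symm

/-- sections of a completion datum: surjectivity -/
theorem IsComplOf.sl_surjective {M : X.Modules} {G : ℕᵒᵖ ⥤ X.Modules} {τ : ∀ n, M ⟶ Gn G n}
    (h : IsComplOf I M G τ) [M.IsQuasicoherent] (n : ℕ) {U : X.Opens} (hU : IsAffineOpen U) :
    Function.Surjective (sl (τ n) U) := by
  haveI := h.isQuasicoherent n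
  haveI := h.epi n
  exact sl_surjective_of_epi (τ n) hU

/-- sections of a completion datum: the kernel -/
theorem IsComplOf.app_eq_zero_iff {M : X.Modules} {G : ℕᵒᵖ ⥤ X.Modules} {τ : ∀ n, M ⟶ Gn G n}
    (h : IsComplOf I M G τ) [M.IsQuasicoherent] (n : ℕ) {U : X.Opens} (hU : IsAffineOpen U)
    (x : Γ(M, U)) :
    (τ n).app U x = 0 ↔ x ∈ (JU A I U) ^ (n + 1) • (⊤ : Submodule Γ(X, U) Γ(M, U)) :=
  (h.quot n).app_eq_zero_iff A I hU x

/-- **Artin–Rees for coherent modules**: a system mapping monomorphically to the completion of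
`M'` and killed by the completions of a jointly injective pair `M' ⟶ M₁`, `M' ⟶ M₂` is AR-null. -/
theorem isARNull_of_joint_mono {M' M₁ M₂ : X.Modules} (hM' : Coh.IsCoh M') (hM₁ : Coh.IsCoh M₁)
    (hM₂ : Coh.IsCoh M₂) {G' G₁ G₂ : ℕᵒᵖ ⥤ X.Modules} {τ' : ∀ n, M' ⟶ Gn G' n}
    {τ₁ : ∀ n, M₁ ⟶ Gn G₁ n} {τ₂ : ∀ n, M₂ ⟶ Gn G₂ n} (h' : IsComplOf I M' G' τ')
    (h₁ : IsComplOf I M₁ G₁ τ₁) (h₂ : IsComplOf I M₂ G₂ τ₂) (f₁ : M' ⟶ M₁) (f₂ : M' ⟶ M₂)
    (hinj : ∀ (U : X.Opens) (x : Γ(M', U)), f₁.app U x = 0 → f₂.app U x = 0 → x = 0)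
    (f₁h : G' ⟶ G₁) (hf₁ : ∀ n, τ' n ≫ f₁h.app (op n) = f₁ ≫ τ₁ n)
    (f₂h : G' ⟶ G₂) (hf₂ : ∀ n, τ' n ≫ f₂h.app (op n) = f₂ ≫ τ₂ n)
    (𝒩 : ℕᵒᵖ ⥤ X.Modules) [∀ n, (Gn 𝒩 n).IsQuasicoherent] (j : 𝒩 ⟶ G')
    [∀ n, Mono (j.app (op n))] (hj₁ : j ≫ f₁h = 0) (hj₂ : j ≫ f₂h = 0) : ARSys.IsARNull 𝒩 := by
  haveI := hM'.1
  haveI := hM₁.1
  haveI := hM₂.1
  refine isARNull_of_affine 𝒩 (fun U hU => ?_)
  haveI : IsNoetherianRing Γ(X, U) := IsLocallyNoetherian.component_noetherian ⟨U, hU⟩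
  haveI : SheafOfModules.IsFiniteType (R := X.ringCatSheaf) M₁ := hM₁.2
  haveI : SheafOfModules.IsFiniteType (R := X.ringCatSheaf) M₂ := hM₂.2
  haveI : Module.Finite Γ(X, U) Γ(M₁, U) := QCohFT.finite_of_isFiniteType M₁ hU
  haveI : Module.Finite Γ(X, U) Γ(M₂, U) := QCohFT.finite_of_isFiniteType M₂ hU
  obtain ⟨r, hr⟩ := exists_AR_joint (JU A I U) (sl f₁ U) (sl f₂ U) (hinj U)
  refine ⟨r, fun n s => ?_⟩
  apply sl_injective_of_mono (j.app (op n)) U
  rw [map_zero]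
  show (j.app (op n)).app U ((gm 𝒩 (Nat.le_add_right n r)).app U s) = 0
  rw [← comp_app']
  have hnat : gm 𝒩 (Nat.le_add_right n r) ≫ j.app (op n) =
      j.app (op (n + r)) ≫ gm G' (Nat.le_add_right n r) := j.naturality _
  rw [hnat, comp_app']
  obtain ⟨x, hx⟩ := h'.sl_surjective (n + r) hU ((j.app (op (n + r))).app U s)
  have hx' : (τ' (n + r)).app U x = (j.app (op (n + r))).app U s := hx
  rw [← hx', ← comp_app', h'.comp_le (Nat.le_add_right n r)]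
  have e1 : n + r + 1 = n + 1 + r := by omega
  have hk₁ : (sl f₁ U) x ∈ (JU A I U) ^ (n + 1 + r) • (⊤ : Submodule Γ(X, U) Γ(M₁, U)) := by
    rw [← e1, ← h₁.app_eq_zero_iff (n + r) hU]
    show (τ₁ (n + r)).app U (f₁.app U x) = 0
    rw [← comp_app', ← hf₁ (n + r), comp_app', hx', ← comp_app', ← NatTrans.comp_app, hj₁]
    exact zero_app' U s
  have hk₂ : (sl f₂ U) x ∈ (JU A I U) ^ (n + 1 + r) • (⊤ : Submodule Γ(X, U) Γ(M₂, U)) := by
    rw [← e1, ← h₂.app_eq_zero_iff (n + r) hU]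
    show (τ₂ (n + r)).app U (f₂.app U x) = 0
    rw [← comp_app', ← hf₂ (n + r), comp_app', hx', ← comp_app', ← NatTrans.comp_app, hj₂]
    exact zero_app' U s
  exact (h'.app_eq_zero_iff n hU x).mpr (hr (n + 1) x hk₁ hk₂)

end ARCrit

section RightExact

variable {X : Scheme.{u}} {A : Type u} [CommRing A] {I : Ideal A}
  [X.Over (Spec (CommRingCat.of A))] [AlgebraicGeometry.IsNoetherian X]

/-- right exactness of completion data, kernel form -/
theorem epi_lift_kernel {M N : X.Modules} [M.IsQuasicoherent] [N.IsQuasicoherent] (ψ : M ⟶ N)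
    [Epi ψ] {G' G GN : ℕᵒᵖ ⥤ X.Modules} {τ' : ∀ n, kernel ψ ⟶ Gn G' n} {τ : ∀ n, M ⟶ Gn G n}
    {τN : ∀ n, N ⟶ Gn GN n} (h : IsComplOf I M G τ) (hN : IsComplOf I N GN τN)
    (ιh : G' ⟶ G) (hι : ∀ n, τ' n ≫ ιh.app (op n) = kernel.ι ψ ≫ τ n)
    (ψh : G ⟶ GN) (hψ : ∀ n, τ n ≫ ψh.app (op n) = ψ ≫ τN n)
    (𝒦 : ℕᵒᵖ ⥤ X.Modules) (k : 𝒦 ⟶ G) [∀ n, Mono (k.app (op n))] (hk : k ≫ ψh = 0)
    (v : G' ⟶ 𝒦) (hv : v ≫ k = ιh) (n : ℕ) : Epi (v.app (op n)) := by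
  refine epi_of_app_surjective_affine _ (fun U hU y => ?_)
  obtain ⟨x, hx⟩ := h.sl_surjective n hU ((k.app (op n)).app U y)
  have hx' : (τ n).app U x = (k.app (op n)).app U y := hx
  have h1 : (τN n).app U (ψ.app U x) = 0 := by
    rw [← comp_app', ← hψ n, comp_app', hx', ← comp_app', ← NatTrans.comp_app, hk]
    exact zero_app' U y
  have h2 := (hN.app_eq_zero_iff n hU _).mp h1
  rw [smul_top_eq_map_of_surjective ψ U (sl_surjective_of_epi ψ hU)] at h2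
  obtain ⟨x₁, hx₁, hx₁ψ⟩ := h2
  have hx₁ψ' : ψ.app U x₁ = ψ.app U x := hx₁ψ
  have h3 : sl ψ U (x - x₁) = 0 := by
    show ψ.app U (x - x₁) = 0
    rw [app_sub', hx₁ψ', sub_self]
  have h4 : x - x₁ ∈ LinearMap.range (sl (kernel.ι ψ) U) := by
    rw [sl_range_kernel_ι]
    exact h3
  obtain ⟨m', hm'⟩ := h4
  have hm'' : (kernel.ι ψ).app U m' = x - x₁ := hm'
  refine ⟨(τ' n).app U m', ?_⟩
  apply sl_injective_of_mono (k.app (op n)) U
  show (k.app (op n)).app U ((v.app (op n)).app U ((τ' n).app U m')) = (k.app (op n)).app U y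
  rw [← comp_app', ← comp_app', ← NatTrans.comp_app, hv, hι n, comp_app', hm'', app_sub', hx',
    (h.app_eq_zero_iff n hU x₁).mpr hx₁, sub_zero]

/-- right exactness of completion data, pullback form -/
theorem epi_lift_pullback {P M₁ M₂ M₀ : X.Modules} [M₁.IsQuasicoherent]
    [M₂.IsQuasicoherent] [M₀.IsQuasicoherent] {fst : P ⟶ M₁} {snd : P ⟶ M₂} {u : M₁ ⟶ M₀}
    {q : M₂ ⟶ M₀} (sq : IsPullback fst snd u q) [Epi q]
    {GP G₁ G₂ G₀ : ℕᵒᵖ ⥤ X.Modules} {τP : ∀ n, P ⟶ Gn GP n} {τ₁ : ∀ n, M₁ ⟶ Gn G₁ n}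
    {τ₂ : ∀ n, M₂ ⟶ Gn G₂ n} {τ₀ : ∀ n, M₀ ⟶ Gn G₀ n}
    (h₁ : IsComplOf I M₁ G₁ τ₁) (h₂ : IsComplOf I M₂ G₂ τ₂) (h₀ : IsComplOf I M₀ G₀ τ₀)
    (fsth : GP ⟶ G₁) (hfst : ∀ n, τP n ≫ fsth.app (op n) = fst ≫ τ₁ n)
    (sndh : GP ⟶ G₂) (hsnd : ∀ n, τP n ≫ sndh.app (op n) = snd ≫ τ₂ n)
    (uh : G₁ ⟶ G₀) (huh : ∀ n, τ₁ n ≫ uh.app (op n) = u ≫ τ₀ n)
    (qh : G₂ ⟶ G₀) (hqh : ∀ n, τ₂ n ≫ qh.app (op n) = q ≫ τ₀ n)
    (ℛ : ℕᵒᵖ ⥤ X.Modules) (r₁ : ℛ ⟶ G₁) (r₂ : ℛ ⟶ G₂)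
    (hℛ : ∀ n, IsPullback (r₁.app (op n)) (r₂.app (op n)) (uh.app (op n)) (qh.app (op n)))
    (w : GP ⟶ ℛ) (hw₁ : w ≫ r₁ = fsth) (hw₂ : w ≫ r₂ = sndh) (n : ℕ) :
    Epi (w.app (op n)) := by
  refine epi_of_app_surjective_affine _ (fun U hU ρ => ?_)
  obtain ⟨f, hf⟩ := h₁.sl_surjective n hU ((r₁.app (op n)).app U ρ)
  have hf' : (τ₁ n).app U f = (r₁.app (op n)).app U ρ := hf
  obtain ⟨m, hm⟩ := h₂.sl_surjective n hU ((r₂.app (op n)).app U ρ)
  have hm' : (τ₂ n).app U m = (r₂.app (op n)).app U ρ := hm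
  have h1 : (τ₀ n).app U (u.app U f - q.app U m) = 0 := by
    rw [app_sub', ← comp_app', ← comp_app', ← huh n, ← hqh n, comp_app', comp_app', hf', hm',
      ← comp_app', ← comp_app', (hℛ n).w, sub_self]
  have h2 := (h₀.app_eq_zero_iff n hU _).mp h1
  rw [smul_top_eq_map_of_surjective q U (sl_surjective_of_epi q hU)] at h2
  obtain ⟨m', hm'1, hm'2⟩ := h2
  have hm'3 : q.app U m' = u.app U f - q.app U m := hm'2
  have h3 : u.app U f = q.app U (m + m') := by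
    rw [app_add', hm'3]
    abel
  obtain ⟨p, hp1, hp2⟩ := isPullback_sec_exists sq U f (m + m') h3
  refine ⟨(τP n).app U p, ?_⟩
  apply isPullback_sec_ext (hℛ n) U
  · show (r₁.app (op n)).app U ((w.app (op n)).app U ((τP n).app U p)) =
      (r₁.app (op n)).app U ρ
    rw [← comp_app', ← comp_app', ← NatTrans.comp_app, hw₁, hfst n, comp_app', hp1, hf']
  · show (r₂.app (op n)).app U ((w.app (op n)).app U ((τP n).app U p)) =
      (r₂.app (op n)).app U ρ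
    rw [← comp_app', ← comp_app', ← NatTrans.comp_app, hw₂, hsnd n, comp_app', hp2, app_add',
      hm', (h₂.app_eq_zero_iff n hU m').mpr hm'1, add_zero]

end RightExact

end Groth.Agent.Lib.GExH2
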