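import Mathlib
import Groth.Prelude
import Groth.Agent.Lib.GEx03_helper2

/-!
# Grothendieck existence, two-ideal step: the crux (helper2)

* `secFunR U`, `secSysR U G` : sections over `U` as `Γ(X, U)`-modules;
* `exists_crux_affine`, `exists_crux` : for an adic coherent system `F`, a pointwise epimorphism
  `θ : F ⟶ Ĝ_N` onto a completion datum with kernels killed by `K^t`, sections of `ker θ_n`
  lying in `K^e F_n` die under translation (uniformly on a finite affine cover);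
* `epi_lift_Qpullback`, `isARNull_of_crux`;
* quasi-coherence of kernels / pullbacks of systems, `iso_of_zigzag`.
APPEND-ONLY once landed.
-/

set_option autoImplicit false
set_option backward.isDefEq.respectTransparency false
set_option linter.style.haveILetI false
set_option linter.unusedSectionVars false
universe u
open CategoryTheory CategoryTheory.Limits AlgebraicGeometry TopologicalSpace Opposite

namespace Groth.Agent.Lib.GExH2

open Formal Groth.Agent.Lib.FormalModPowH4 Groth.Agent.Lib.FormalFnH2 Groth.Agent.Lib.FibAmpH2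
  Groth.Agent.Lib.FlatBCH2 Groth.Agent.Lib.FibVanH2 Groth.Agent.Lib.FormalQuotH2
  Groth.Agent.Lib.AdicSysH2 Groth.Agent.Lib.LimTruncH2 QcqsLoc

section SecR

variable {X : Scheme.{u}} (U : X.Opens)

/-- sections over `U` as a `Γ(X, U)`-module -/
noncomputable def secFunR : X.Modules ⥤ ModuleCat.{u} Γ(X, U) where
  obj M := ModuleCat.of Γ(X, U) Γ(M, U)
  map φ := ModuleCat.ofHom (sl φ U)
  map_id M := by
    apply ModuleCat.hom_ext
    apply LinearMap.ext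
    intro x
    rfl
  map_comp φ ψ := by
    apply ModuleCat.hom_ext
    apply LinearMap.ext
    intro x
    exact comp_app' φ ψ U x

/-- the system of sections over `U` -/
noncomputable abbrev secSysR (G : ℕᵒᵖ ⥤ X.Modules) : ARSys.PS (ModuleCat.{u} Γ(X, U)) :=
  G ⋙ secFunR U

theorem T_secSysR (G : ℕᵒᵖ ⥤ X.Modules) {n k : ℕ} (h : n ≤ k) (x : Γ(G.obj (op k), U)) :
    T (secSysR U G) h x = (gm G h).app U x := rfl

end SecR

section Crux

variable {X : Scheme.{u}} {A : Type u} [CommRing A] {I : Ideal A}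
  [X.Over (Spec (CommRingCat.of A))] [AlgebraicGeometry.IsNoetherian X]

theorem exists_crux_affine (K : X.IdealSheafData) {F : ℕᵒᵖ ⥤ X.Modules}
    (hF : Formal.IsCohFormal I F) {N : X.Modules} [N.IsQuasicoherent]
    {GN : ℕᵒᵖ ⥤ X.Modules} {τN : ∀ n, N ⟶ Gn GN n} (hcN : IsComplOf I N GN τN) (θ : F ⟶ GN)
    (hθ : ∀ n, Epi (θ.app (op n))) (t : ℕ)
    (hker : ∀ n, ClSub.KilledByIdeal (K ^ t) (kernel (θ.app (op n))))
    {U : X.Opens} (hU : IsAffineOpen U) :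
    ∃ e r : ℕ, ∀ (n : ℕ) (x : Γ(Gn F (n + r), U)), (θ.app (op (n + r))).app U x = 0 →
      x ∈ (K.ideal ⟨U, hU⟩) ^ e • (⊤ : Submodule Γ(X, U) Γ(Gn F (n + r), U)) →
      (gm F (Nat.le_add_right n r)).app U x = 0 := by
  haveI : IsNoetherianRing Γ(X, U) := IsLocallyNoetherian.component_noetherian ⟨U, hU⟩
  haveI hqF : ∀ n, (Gn F n).IsQuasicoherent := fun n => (hF.1 n).1
  haveI hqN : ∀ n, (Gn GN n).IsQuasicoherent := fun n => hcN.isQuasicoherent n
  have hsurj : ∀ n, Function.Surjective (T (secSysR U F) (Nat.le_succ n)) := by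
    intro n
    haveI := (isQuot_gm hF (Nat.le_succ n)).2.1
    exact sl_surjective_of_epi (gm F (Nat.le_succ n)) hU
  have hK : ∀ n, LinearMap.ker (T (secSysR U F) (Nat.le_succ n)) ≤
      (JU A I U) ^ (n + 1) • (⊤ : Submodule Γ(X, U) ((secSysR U F).obj (op n.succ))) := by
    intro n
    exact ((isQuot_gm hF (Nat.le_succ n)).ker_sl A I hU).le
  have hZ : ∀ n, (JU A I U) ^ (n + 1) •
      (⊤ : Submodule Γ(X, U) ((secSysR U F).obj (op n))) = ⊥ := by
    intro n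
    rw [eq_bot_iff]
    intro x hx
    rw [Submodule.mem_bot]
    exact eq_zero_of_mem_smul_top_of_killed A I (hF.2.1 n) U x hx
  have hfin : Module.Finite Γ(X, U) ((secSysR U F).obj (op 0)) := by
    haveI : SheafOfModules.IsFiniteType (R := X.ringCatSheaf) (Gn F 0) := (hF.1 0).2
    exact QCohFT.finite_of_isFiniteType (Gn F 0) hU
  obtain ⟨S, hSdef⟩ : ∃ S : ∀ n, Submodule Γ(X, U) ((secSysR U F).obj (op n)),
      ∀ n (x : Γ(Gn F n, U)), x ∈ S n ↔ (θ.app (op n)).app U x = 0 :=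
    ⟨fun n => LinearMap.ker (sl (θ.app (op n)) U), fun n x => LinearMap.mem_ker⟩
  have hS2 : ∀ n, ∀ x ∈ S (n + 1), T (secSysR U F) (Nat.le_succ n) x ∈ S n := by
    intro n x hx
    rw [hSdef] at hx ⊢
    rw [T_secSysR, ← comp_app']
    have hnat : gm F (Nat.le_succ n) ≫ θ.app (op n) =
        θ.app (op (n + 1)) ≫ gm GN (Nat.le_succ n) := θ.naturality _
    rw [hnat, comp_app', hx, app_zero']
  have hS1 : ∀ n, ∀ y ∈ S n, ∃ x ∈ S (n + 1), T (secSysR U F) (Nat.le_succ n) x = y := by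
    intro n y hy
    rw [hSdef] at hy
    obtain ⟨x₀, hx₀'⟩ : ∃ x₀ : Γ(Gn F (n + 1), U), (gm F (Nat.le_succ n)).app U x₀ = y :=
      hsurj n y
    have hx₀ : T (secSysR U F) (Nat.le_succ n) x₀ = y := hx₀' 
    have h1 : (gm GN (Nat.le_succ n)).app U ((θ.app (op (n + 1))).app U x₀) = 0 := by
      have hnat : gm F (Nat.le_succ n) ≫ θ.app (op n) =
          θ.app (op (n + 1)) ≫ gm GN (Nat.le_succ n) := θ.naturality _
      rw [← comp_app', ← hnat, comp_app', hx₀', hy]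
    have h2 : (θ.app (op (n + 1))).app U x₀ ∈
        (JU A I U) ^ (n + 1) • (⊤ : Submodule Γ(X, U) Γ(Gn GN (n + 1), U)) :=
      ((hcN.isQuot_tG n).app_eq_zero_iff A I hU _).mp h1
    haveI := hθ (n + 1)
    rw [smul_top_eq_map_of_surjective (θ.app (op (n + 1))) U
      (sl_surjective_of_epi (θ.app (op (n + 1))) hU)] at h2
    obtain ⟨x₁, hx₁, hx₁θ⟩ := h2
    have hx₁θ' : (θ.app (op (n + 1))).app U x₁ = (θ.app (op (n + 1))).app U x₀ := hx₁θ
    refine ⟨x₀ - x₁, ?_, ?_⟩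
    · rw [hSdef, app_sub', hx₁θ', sub_self]
    · have h3 : T (secSysR U F) (Nat.le_succ n) x₁ ∈
          (JU A I U) ^ (n + 1) • (⊤ : Submodule Γ(X, U) ((secSysR U F).obj (op n))) :=
        map_mem_smul_top _ _ hx₁
      rw [hZ n, Submodule.mem_bot] at h3
      rw [map_sub, h3, sub_zero]
      exact hx₀
  have hkill : ∀ n, ∀ k ∈ (K.ideal ⟨U, hU⟩) ^ t, ∀ a ∈ S n, k • a = 0 := by
    intro n k hk a ha
    rw [hSdef] at ha
    have h1 : a ∈ LinearMap.range (sl (kernel.ι (θ.app (op n))) U) := by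
      rw [sl_range_kernel_ι]
      exact ha
    obtain ⟨z, rfl⟩ := h1
    have h2 : k • z = 0 := hker n ⟨U, hU⟩ k hk z
    have h3 : sl (kernel.ι (θ.app (op n))) U (k • z) = k • sl (kernel.ι (θ.app (op n))) U z :=
      map_smul _ _ _
    rw [← h3, h2, map_zero]
  obtain ⟨e, r, her⟩ := exists_AR_two_ideals (secSysR U F) hsurj (JU A I U) hK hZ
    (K.ideal ⟨U, hU⟩) hfin S hS1 hS2 t hkill
  refine ⟨e, r, fun n x hx hxk => ?_⟩
  exact her n x ((hSdef _ x).mpr hx) hxk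

/-- the crux, uniformly over a finite family of affine opens -/
theorem exists_crux (K : X.IdealSheafData) {F : ℕᵒᵖ ⥤ X.Modules}
    (hF : Formal.IsCohFormal I F) {N : X.Modules} [N.IsQuasicoherent]
    {GN : ℕᵒᵖ ⥤ X.Modules} {τN : ∀ n, N ⟶ Gn GN n} (hcN : IsComplOf I N GN τN) (θ : F ⟶ GN)
    (hθ : ∀ n, Epi (θ.app (op n))) (t : ℕ)
    (hker : ∀ n, ClSub.KilledByIdeal (K ^ t) (kernel (θ.app (op n))))
    (S : Set X.Opens) (hfin : S.Finite) (hS : ∀ U ∈ S, IsAffineOpen U) :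
    ∃ e : ℕ, ∀ (U : X.Opens) (hU : U ∈ S), ∃ r : ℕ, ∀ (n : ℕ) (x : Γ(Gn F (n + r), U)),
      (θ.app (op (n + r))).app U x = 0 →
      x ∈ (K.ideal ⟨U, hS U hU⟩) ^ e • (⊤ : Submodule Γ(X, U) Γ(Gn F (n + r), U)) →
      (gm F (Nat.le_add_right n r)).app U x = 0 := by
  classical
  have h' : ∀ U : X.Opens, ∃ e : ℕ, ∀ hU : U ∈ S, ∃ r : ℕ,
      ∀ (n : ℕ) (x : Γ(Gn F (n + r), U)), (θ.app (op (n + r))).app U x = 0 →
      x ∈ (K.ideal ⟨U, hS U hU⟩) ^ e • (⊤ : Submodule Γ(X, U) Γ(Gn F (n + r), U)) →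
      (gm F (Nat.le_add_right n r)).app U x = 0 := by
    intro U
    by_cases hU : U ∈ S
    · obtain ⟨e, r, her⟩ := exists_crux_affine K hF hcN θ hθ t hker (hS U hU)
      exact ⟨e, fun _ => ⟨r, her⟩⟩
    · exact ⟨0, fun h => absurd h hU⟩
  choose ef hef using h'
  refine ⟨hfin.toFinset.sup ef, fun U hU => ?_⟩
  obtain ⟨r, hr⟩ := hef U hU
  refine ⟨r, fun n x hx hxk => hr n x hx ?_⟩
  have hle : ef U ≤ hfin.toFinset.sup ef := Finset.le_sup (hfin.mem_toFinset.mpr hU)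
  exact Submodule.smul_mono_left (Ideal.pow_le_pow_right hle) hxk

/-- `F_n ⟶ F_n/K F_n ×_{N_n/K N_n} N_n` is an epimorphism when `F_n ⟶ N_n` is -/
theorem epi_lift_Qpullback (K : X.IdealSheafData) {F GN : ℕᵒᵖ ⥤ X.Modules} (θ : F ⟶ GN)
    [∀ n, (Gn F n).IsQuasicoherent] [∀ n, (Gn GN n).IsQuasicoherent]
    (hθ : ∀ n, Epi (θ.app (op n)))
    (ℛ : ℕᵒᵖ ⥤ X.Modules) (r₁ : ∀ n, Gn ℛ n ⟶ (Qf K).obj (Gn F n)) (r₂ : ℛ ⟶ GN)
    (hℛ : ∀ n, IsPullback (r₁ n) (r₂.app (op n)) ((Qf K).map (θ.app (op n)))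
      (ηa K (Gn GN n)))
    (a : F ⟶ ℛ) (ha₁ : ∀ n, a.app (op n) ≫ r₁ n = ηa K (Gn F n)) (ha₂ : a ≫ r₂ = θ) (n : ℕ) :
    Epi (a.app (op n)) := by
  refine epi_of_app_surjective_affine _ (fun U hU ρ => ?_)
  obtain ⟨a₀, ha₀⟩ := ηf_surjective K (Gn F n) hU ((r₁ n).app U ρ)
  have ha₀' : (ηa K (Gn F n)).app U a₀ = (r₁ n).app U ρ := ha₀
  have h1 : (ηa K (Gn GN n)).app U ((θ.app (op n)).app U a₀ - (r₂.app (op n)).app U ρ) = 0 := by
    rw [app_sub', ← comp_app', ηf_naturality, comp_app', ha₀', ← comp_app', ← comp_app',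
      (hℛ n).w, sub_self]
  have h2 := mem_of_ηf_eq_zero K (Gn GN n) hU _ h1
  haveI := hθ n
  rw [smul_top_eq_map_of_surjective (θ.app (op n)) U
    (sl_surjective_of_epi (θ.app (op n)) hU)] at h2
  obtain ⟨a₁, ha₁m, ha₁θ⟩ := h2
  have ha₁θ' : (θ.app (op n)).app U a₁ =
      (θ.app (op n)).app U a₀ - (r₂.app (op n)).app U ρ := ha₁θ
  refine ⟨a₀ - a₁, ?_⟩
  apply isPullback_sec_ext (hℛ n) U
  · show (r₁ n).app U ((a.app (op n)).app U (a₀ - a₁)) = (r₁ n).app U ρ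
    rw [← comp_app', ha₁ n, app_sub', ha₀', ηf_eq_zero_of_mem K (Gn F n) ⟨U, hU⟩ a₁ ha₁m,
      sub_zero]
  · show (r₂.app (op n)).app U ((a.app (op n)).app U (a₀ - a₁)) = (r₂.app (op n)).app U ρ
    rw [← comp_app', ← NatTrans.comp_app, ha₂, app_sub', ha₁θ']
    abel

/-- a subsystem of `F` killed by `θ` and by `F ⟶ F/K^e F` is AR-null, given the crux -/
theorem isARNull_of_crux (K : X.IdealSheafData) (e : ℕ) {F GN : ℕᵒᵖ ⥤ X.Modules}
    [∀ n, (Gn F n).IsQuasicoherent] (θ : F ⟶ GN)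
    (S : Set X.Opens) (hfin : S.Finite) (hS : ∀ U ∈ S, IsAffineOpen U)
    (hcov : ∀ x : X, ∃ U ∈ S, x ∈ U)
    (hcrux : ∀ (U : X.Opens) (hU : U ∈ S), ∃ r : ℕ, ∀ (n : ℕ) (x : Γ(Gn F (n + r), U)),
      (θ.app (op (n + r))).app U x = 0 →
      x ∈ (K.ideal ⟨U, hS U hU⟩) ^ e • (⊤ : Submodule Γ(X, U) Γ(Gn F (n + r), U)) →
      (gm F (Nat.le_add_right n r)).app U x = 0)
    (𝒩 : ℕᵒᵖ ⥤ X.Modules) [∀ n, (Gn 𝒩 n).IsQuasicoherent] (j : 𝒩 ⟶ F)
    [∀ n, Mono (j.app (op n))] (hj₁ : ∀ n, j.app (op n) ≫ ηa (K ^ e) (Gn F n) = 0)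
    (hj₂ : j ≫ θ = 0) : ARSys.IsARNull 𝒩 := by
  refine isARNull_of_affine_cover S hfin hS hcov 𝒩 (fun U hU => ?_)
  obtain ⟨r, hr⟩ := hcrux U hU
  refine ⟨r, fun n s => ?_⟩
  apply sl_injective_of_mono (j.app (op n)) U
  rw [map_zero]
  show (j.app (op n)).app U ((gm 𝒩 (Nat.le_add_right n r)).app U s) = 0
  have hnat : gm 𝒩 (Nat.le_add_right n r) ≫ j.app (op n) =
      j.app (op (n + r)) ≫ gm F (Nat.le_add_right n r) := j.naturality _
  rw [← comp_app', hnat, comp_app']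
  refine hr n _ ?_ ?_
  · rw [← comp_app', ← NatTrans.comp_app, hj₂]
    exact zero_app' U s
  · have h1 : (ηa (K ^ e) (Gn F (n + r))).app U ((j.app (op (n + r))).app U s) = 0 := by
      rw [← comp_app', hj₁ (n + r)]
      exact zero_app' U s
    exact mem_of_ηf_eq_zero (K ^ e) (Gn F (n + r)) (hS U hU) _ h1

end Crux

section QC

variable {X : Scheme.{u}}

theorem isQuasicoherent_kernel_app {F G : ℕᵒᵖ ⥤ X.Modules} (f : F ⟶ G) (n : ℕ)
    [(Gn F n).IsQuasicoherent] [(Gn G n).IsQuasicoherent] :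
    ((kernel f).obj (op n)).IsQuasicoherent := by
  have e : (kernel f).obj (op n) ≅ kernel (f.app (op n)) :=
    PreservesKernel.iso ((evaluation ℕᵒᵖ X.Modules).obj (op n)) f
  haveI : (kernel (f.app (op n))).IsQuasicoherent := SubExt.isQuasicoherent_kernel _
  exact CohOpenH8.isQuasicoherent_of_iso e

theorem isQuasicoherent_of_isPullback {P M N Z : X.Modules} {fst : P ⟶ M} {snd : P ⟶ N}
    {f : M ⟶ Z} {g : N ⟶ Z} (sq : IsPullback fst snd f g) [M.IsQuasicoherent]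
    [N.IsQuasicoherent] [Z.IsQuasicoherent] : P.IsQuasicoherent := by
  have e : pullback f g ≅ kernel (biprod.desc f (-g)) :=
    IsLimit.conePointUniqueUpToIso
      (Abelian.PullbackToBiproductIsKernel.isLimitPullbackToBiproduct f g)
      (limit.isLimit (parallelPair (biprod.desc f (-g)) 0))
  haveI : (M ⊞ N).IsQuasicoherent := CohOpenH8.isQuasicoherent_biprod M N
  haveI : (kernel (biprod.desc f (-g))).IsQuasicoherent := SubExt.isQuasicoherent_kernel _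
  exact CohOpenH8.isQuasicoherent_of_iso (sq.isoPullback ≪≫ e)

end QC

section Zigzag

open ARSys

variable {C : Type*} [Category C] [Abelian C] {A : Type*} [CommRing A] [Linear A C]

/-- two adic systems joined by a zigzag of isomorphisms up to translation are isomorphic -/
theorem iso_of_zigzag (J : Ideal A) {P Q R : PS C} (hP : IsAdic J P) (hQ : IsAdic J Q)
    (a : P ⟶ R) (b : Q ⟶ R) (ha : IsARIso a) (hb : IsARIso b) : Nonempty (P ≅ Q) := by
  have hPs : IsStrict P := fun n m h => ARNoethH4.epi_of_isQuot _ (hP.2 n m h)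
  have hQs : IsStrict Q := fun n m h => ARNoethH4.epi_of_isQuot _ (hQ.2 n m h)
  obtain ⟨l, hl⟩ := Groth.Agent.Lib.ARAbH4.lift_of_isARIso J a ha hP.1 hQ b
  obtain ⟨m, hm⟩ := Groth.Agent.Lib.ARAbH4.lift_of_isARIso J b hb hQ.1 hP a
  have h1 : l ≫ m = 𝟙 Q := by
    refine Groth.Agent.Lib.ARAbH4.eq_of_comp_eq_of_null b hb.1 hQs _ _ ?_
    rw [Category.assoc, hm, hl, Category.id_comp]
  have h2 : m ≫ l = 𝟙 P := by
    refine Groth.Agent.Lib.ARAbH4.eq_of_comp_eq_of_null a ha.1 hPs _ _ ?_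
    rw [Category.assoc, hl, hm, Category.id_comp]
  exact ⟨⟨m, l, h2, h1⟩⟩

end Zigzag

end Groth.Agent.Lib.GExH2
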