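import Mathlib
import Groth.Prelude
import Groth.Agent.Lib.GEx04_helper2

/-!
# Grothendieck existence, two-ideal step: the epimorphic case (helper2)

`exists_of_epi` : `F` an adic coherent system, `θ : F ⟶ N^` a pointwise epimorphism onto the
completion of a coherent module with kernels killed by `K^t`; if coherent formal modules killed by
powers of `K` are algebraizable (fully faithfully), then `F` is algebraizable.
APPEND-ONLY once landed.
-/

set_option autoImplicit false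
set_option backward.isDefEq.respectTransparency false
set_option linter.style.haveILetI false
set_option linter.unusedSectionVars false
universe u
open CategoryTheory CategoryTheory.Limits AlgebraicGeometry TopologicalSpace Opposite

namespace Groth.Agent.Lib.GExH2

open Formal Groth.Agent.Lib.FormalModPowH4 Groth.Agent.Lib.FormalFnH2 Groth.Agent.Lib.FibAmpH2
  Groth.Agent.Lib.FlatBCH2 Groth.Agent.Lib.FibVanH2 Groth.Agent.Lib.FormalQuotH2
  Groth.Agent.Lib.AdicSysH2 Groth.Agent.Lib.LimTruncH2 QcqsLoc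

section Prep

variable {X : Scheme.{u}} {A : Type u} [CommRing A] {I : Ideal A}
  [X.Over (Spec (CommRingCat.of A))]

theorem isComplOf_of_iso {M : X.Modules} {G G' : ℕᵒᵖ ⥤ X.Modules} {τ : ∀ n, M ⟶ Gn G n}
    (h : IsComplOf I M G τ) (ζ : G ≅ G') :
    IsComplOf I M G' (fun n => τ n ≫ ζ.hom.app (op n)) where
  quot n := (h.quot n).comp_iso _
  comp n := by
    show (τ (n + 1) ≫ ζ.hom.app (op (n + 1))) ≫ tG G' n = τ n ≫ ζ.hom.app (op n)
    have hnat : tG G n ≫ ζ.hom.app (op n) = ζ.hom.app (op (n + 1)) ≫ tG G' n :=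
      ζ.hom.naturality _
    rw [Category.assoc, ← hnat, ← Category.assoc, h.comp n]

theorem isCoh_of_isPullback [IsLocallyNoetherian X] {P M N Z : X.Modules} {fst : P ⟶ M}
    {snd : P ⟶ N} {f : M ⟶ Z} {g : N ⟶ Z} (sq : IsPullback fst snd f g) (hM : Coh.IsCoh M)
    (hN : Coh.IsCoh N) (hZ : Coh.IsCoh Z) : Coh.IsCoh P := by
  have e : pullback f g ≅ kernel (biprod.desc f (-g)) :=
    IsLimit.conePointUniqueUpToIso
      (Abelian.PullbackToBiproductIsKernel.isLimitPullbackToBiproduct f g)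
      (limit.isLimit (parallelPair (biprod.desc f (-g)) 0))
  exact CohDevH8.isCoh_of_iso (sq.isoPullback ≪≫ e)
    (CohKerH8.isCoh_kernel (CohDevH8.isCoh_biprod hM hN) hZ _)

variable [AlgebraicGeometry.IsNoetherian X] (K : X.IdealSheafData)

theorem killedBy_Qf {M : X.Modules} [M.IsQuasicoherent] {J : Ideal A}
    (hM : Formal.KilledBy J M) : Formal.KilledBy J ((Qf K).obj M) := by
  intro a ha
  rw [← cancel_epi (ηa K M), comp_zero, ← smulMod_naturality, hM a ha, zero_comp]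

theorem isCohFormal_comp_Qf {F : ℕᵒᵖ ⥤ X.Modules} (hF : Formal.IsCohFormal I F) :
    Formal.IsCohFormal I (F ⋙ Qf K) := by
  haveI hqF : ∀ n, (Gn F n).IsQuasicoherent := fun n => (hF.1 n).1
  refine ⟨fun n => isCoh_Qf K (hF.1 n), fun n => killedBy_Qf K (hF.2.1 n), fun n => ?_⟩
  exact (isQuot_Qmap K I (FormalQuotH2.isQuot_tG hF n)).cond

theorem isComplOf_comp_Qf {M : X.Modules} [M.IsQuasicoherent] {G : ℕᵒᵖ ⥤ X.Modules}
    {τ : ∀ n, M ⟶ Gn G n} (h : IsComplOf I M G τ) :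
    IsComplOf I ((Qf K).obj M) (G ⋙ Qf K) (fun n => (Qf K).map (τ n)) where
  quot n := by
    haveI := h.isQuasicoherent n
    exact isQuot_Qmap K I (h.quot n)
  comp n := by
    show (Qf K).map (τ (n + 1)) ≫ (Qf K).map (tG G n) = (Qf K).map (τ n)
    rw [← Functor.map_comp, h.comp n]

end Prep

section Main

variable (A : Type u) [CommRing A] (I : Ideal A) (X : Scheme.{u})
  [X.Over (Spec (CommRingCat.of A))] [AlgebraicGeometry.IsNoetherian X]

open Groth.Agent.Lib.ARSerreH4 in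
/-- the epimorphic case of the two-ideal existence step -/
theorem exists_of_epi (K : X.IdealSheafData) (F : ℕᵒᵖ ⥤ X.Modules)
    (hF : Formal.IsCohFormal I F)
    (h₁ : ∀ e : ℕ,
      (∀ (M N : X.Modules), Coh.IsCoh M → Coh.IsCoh N → ClSub.KilledByIdeal (K ^ e) M →
        ClSub.KilledByIdeal (K ^ e) N → ∀ ψ : Formal.completion I M ⟶ Formal.completion I N,
          ∃! φ : M ⟶ N, ∀ n : ℕ, Formal.modPowπ I (n + 1) M ≫ ψ.app (op n) =
            φ ≫ Formal.modPowπ I (n + 1) N) ∧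
      (∀ G : ℕᵒᵖ ⥤ X.Modules, Formal.IsCohFormal I G →
        (∀ n : ℕ, ClSub.KilledByIdeal (K ^ e) (G.obj (op n))) →
        ∃ M : X.Modules, Coh.IsCoh M ∧ ClSub.KilledByIdeal (K ^ e) M ∧
          Nonempty (Formal.completion I M ≅ G)))
    (N : X.Modules) (hN : Coh.IsCoh N) (θ : F ⟶ Formal.completion I N)
    (hθ : ∀ n, Epi (θ.app (op n))) (t : ℕ)
    (hker : ∀ n, ClSub.KilledByIdeal (K ^ t) (kernel (θ.app (op n)))) :
    ∃ M : X.Modules, Coh.IsCoh M ∧ Nonempty (Formal.completion I M ≅ F) := by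
  haveI := hN.1
  haveI hqF : ∀ n, (Gn F n).IsQuasicoherent := fun n => (hF.1 n).1
  obtain ⟨πN, hπN⟩ : ∃ πN : ∀ n, N ⟶ Gn (Formal.completion I N) n,
      πN = fun n => Formal.modPowπ I (n + 1) N := ⟨_, rfl⟩
  have hcN : IsComplOf I N (Formal.completion I N) πN := by
    rw [hπN]
    exact isComplOf_completion I N
  haveI hqN : ∀ n, (Gn (Formal.completion I N) n).IsQuasicoherent :=
    fun n => hcN.isQuasicoherent n
  obtain ⟨S, hSfin, hS, hcov⟩ := exists_finite_affine_cover (X := X)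
  obtain ⟨e, hcrux⟩ := exists_crux K hF hcN θ hθ t hker S hSfin hS
  -- the system `F/K^e F`
  have hFe : Formal.IsCohFormal I (F ⋙ Qf (K ^ e)) := isCohFormal_comp_Qf (K ^ e) hF
  obtain ⟨Fm, hFm, hFmk, ⟨ζ⟩⟩ := (h₁ e).2 (F ⋙ Qf (K ^ e)) hFe (fun n => killed_Qf (K ^ e) _)
  haveI := hFm.1
  obtain ⟨τe, hτe⟩ : ∃ τe : ∀ n, Fm ⟶ Gn (F ⋙ Qf (K ^ e)) n,
      τe = fun n => Formal.modPowπ I (n + 1) Fm ≫ ζ.hom.app (op n) := ⟨_, rfl⟩
  have hcFm : IsComplOf I Fm (F ⋙ Qf (K ^ e)) τe := by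
    rw [hτe]
    exact isComplOf_of_iso (isComplOf_completion I Fm) ζ
  -- `N/K^e N`
  have hNe : Coh.IsCoh ((Qf (K ^ e)).obj N) := isCoh_Qf (K ^ e) hN
  haveI := hNe.1
  obtain ⟨πe, hπe⟩ : ∃ πe : ∀ n, (Qf (K ^ e)).obj N ⟶ Gn (Formal.completion I N ⋙ Qf (K ^ e)) n,
      πe = fun n => (Qf (K ^ e)).map (πN n) := ⟨_, rfl⟩
  have hcNe : IsComplOf I ((Qf (K ^ e)).obj N) (Formal.completion I N ⋙ Qf (K ^ e)) πe := by
    rw [hπe]
    exact isComplOf_comp_Qf (K ^ e) hcN
  -- `θ_e`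
  obtain ⟨θe, hθe⟩ : ∃ θe : F ⋙ Qf (K ^ e) ⟶ Formal.completion I N ⋙ Qf (K ^ e),
      ∀ n, θe.app (op n) = (Qf (K ^ e)).map (θ.app (op n)) :=
    ⟨Functor.whiskerRight θ (Qf (K ^ e)), fun n => rfl⟩
  obtain ⟨u, hu, -⟩ := hcFm.existsUnique_of_FF hcNe
    ((h₁ e).1 Fm ((Qf (K ^ e)).obj N) hFm hNe hFmk (killed_Qf (K ^ e) N)) θe
  -- the projections
  obtain ⟨p, hp⟩ : ∃ p : Formal.completion I N ⟶ Formal.completion I N ⋙ Qf (K ^ e),
      ∀ n, p.app (op n) = ηa (K ^ e) (Gn (Formal.completion I N) n) :=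
    ⟨{ app := fun k => ηa (K ^ e) ((Formal.completion I N).obj k)
       naturality := fun _ _ f => ηf_naturality (K ^ e) _ }, fun n => rfl⟩
  obtain ⟨qF, hqF'⟩ : ∃ qF : F ⟶ F ⋙ Qf (K ^ e), ∀ n, qF.app (op n) = ηa (K ^ e) (Gn F n) :=
    ⟨{ app := fun k => ηa (K ^ e) (F.obj k)
       naturality := fun _ _ f => ηf_naturality (K ^ e) _ }, fun n => rfl⟩
  have hpq : ∀ n, πN n ≫ p.app (op n) = ηa (K ^ e) N ≫ πe n := by
    intro n
    rw [hp n, hπe]
    exact ηf_naturality (K ^ e) _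
  -- `F*`
  have sq : IsPullback (pullback.fst u (ηa (K ^ e) N)) (pullback.snd u (ηa (K ^ e) N)) u
      (ηa (K ^ e) N) := IsPullback.of_hasPullback u (ηa (K ^ e) N)
  have hFs : Coh.IsCoh (pullback u (ηa (K ^ e) N)) := isCoh_of_isPullback sq hFm hN hNe
  haveI := hFs.1
  obtain ⟨πs, hπs⟩ : ∃ πs : ∀ n, pullback u (ηa (K ^ e) N) ⟶
      Gn (Formal.completion I (pullback u (ηa (K ^ e) N))) n,
      πs = fun n => Formal.modPowπ I (n + 1) (pullback u (ηa (K ^ e) N)) := ⟨_, rfl⟩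
  have hcFs : IsComplOf I (pullback u (ηa (K ^ e) N))
      (Formal.completion I (pullback u (ηa (K ^ e) N))) πs := by
    rw [hπs]
    exact isComplOf_completion I _
  obtain ⟨fsth, hfst⟩ := hcFs.exists_map hcFm (pullback.fst u (ηa (K ^ e) N))
  obtain ⟨sndh, hsnd⟩ := hcFs.exists_map hcN (pullback.snd u (ηa (K ^ e) N))
  have hwc : fsth ≫ θe = sndh ≫ p := hcFs.hom_ext _ _ (fun n => by
    have e1 : πs n ≫ (fsth ≫ θe).app (op n) =
        pullback.fst u (ηa (K ^ e) N) ≫ u ≫ πe n := by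
      rw [NatTrans.comp_app, ← Category.assoc, hfst n, Category.assoc, hu n]
    have e2 : πs n ≫ (sndh ≫ p).app (op n) =
        pullback.snd u (ηa (K ^ e) N) ≫ ηa (K ^ e) N ≫ πe n := by
      rw [NatTrans.comp_app, ← Category.assoc, hsnd n, Category.assoc, hpq n]
    rw [e1, e2, ← Category.assoc, ← Category.assoc, pullback.condition])
  have hac : qF ≫ θe = θ ≫ p := by
    apply NatTrans.ext
    funext k
    obtain ⟨n⟩ := k
    rw [NatTrans.comp_app, NatTrans.comp_app, hqF' n, hθe n, hp n]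
    exact (ηf_naturality (K ^ e) (θ.app (op n))).symm
  have hℛ : ∀ n, IsPullback ((pullback.fst θe p).app (op n)) ((pullback.snd θe p).app (op n))
      (θe.app (op n)) (p.app (op n)) := fun n =>
    (IsPullback.of_hasPullback θe p).map ((evaluation ℕᵒᵖ X.Modules).obj (op n))
  haveI hqℛ : ∀ n, (Gn (pullback θe p) n).IsQuasicoherent := fun n => by
    haveI : (Gn (F ⋙ Qf (K ^ e)) n).IsQuasicoherent := (hFe.1 n).1
    haveI : (Gn (Formal.completion I N ⋙ Qf (K ^ e)) n).IsQuasicoherent :=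
      hcNe.isQuasicoherent n
    exact isQuasicoherent_of_isPullback (hℛ n)
  haveI hqFs : ∀ n, (Gn (Formal.completion I (pullback u (ηa (K ^ e) N))) n).IsQuasicoherent :=
    fun n => hcFs.isQuasicoherent n
  obtain ⟨w, hw₁, hw₂⟩ : ∃ w : Formal.completion I (pullback u (ηa (K ^ e) N)) ⟶ pullback θe p,
      w ≫ pullback.fst θe p = fsth ∧ w ≫ pullback.snd θe p = sndh :=
    ⟨pullback.lift fsth sndh hwc, pullback.lift_fst _ _ _, pullback.lift_snd _ _ _⟩
  obtain ⟨a, ha₁, ha₂⟩ : ∃ a : F ⟶ pullback θe p,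
      a ≫ pullback.fst θe p = qF ∧ a ≫ pullback.snd θe p = θ :=
    ⟨pullback.lift qF θ hac, pullback.lift_fst _ _ _, pullback.lift_snd _ _ _⟩
  -- `w` is an isomorphism up to translation
  have hw : ARSys.IsARIso w := by
    haveI : Epi w := by
      haveI : ∀ k : ℕᵒᵖ, Epi (w.app k) := fun k => by
        obtain ⟨n⟩ := k
        exact epi_lift_pullback sq hcFm hcN hcNe fsth hfst sndh hsnd θe hu p hpq
          (pullback θe p) (pullback.fst θe p) (pullback.snd θe p) hℛ w hw₁ hw₂ n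
      exact NatTrans.epi_of_epi_app _
    refine isARIso_of_epi _ ?_
    haveI : ∀ n, (Gn (kernel w) n).IsQuasicoherent := fun n => isQuasicoherent_kernel_app _ n
    haveI : ∀ n, Mono ((kernel.ι w).app (op n)) := fun n => inferInstance
    refine isARNull_of_joint_mono hFs hFm hN hcFs hcFm hcN (pullback.fst u (ηa (K ^ e) N))
      (pullback.snd u (ηa (K ^ e) N))
      (fun U x h1 h2 => isPullback_sec_ext sq U x 0 (by rw [h1, app_zero'])
        (by rw [h2, app_zero'])) fsth hfst sndh hsnd _ (kernel.ι w) ?_ ?_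
    · rw [← hw₁, ← Category.assoc, kernel.condition, zero_comp]
    · rw [← hw₂, ← Category.assoc, kernel.condition, zero_comp]
  -- `a` is an isomorphism up to translation
  have ha : ARSys.IsARIso a := by
    have hℛ' : ∀ n, IsPullback ((pullback.fst θe p).app (op n))
        ((pullback.snd θe p).app (op n)) ((Qf (K ^ e)).map (θ.app (op n)))
        (ηa (K ^ e) (Gn (Formal.completion I N) n)) := fun n => by
      rw [← hθe n, ← hp n]
      exact hℛ n
    haveI : Epi a := by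
      haveI : ∀ k : ℕᵒᵖ, Epi (a.app k) := fun k => by
        obtain ⟨n⟩ := k
        refine epi_lift_Qpullback (K ^ e) θ hθ (pullback θe p)
          (fun n => (pullback.fst θe p).app (op n)) (pullback.snd θe p) hℛ'
          a (fun n => ?_) ha₂ n
        rw [← NatTrans.comp_app, ha₁, hqF' n]
      exact NatTrans.epi_of_epi_app _
    refine isARIso_of_epi _ ?_
    haveI : ∀ n, (Gn (kernel a) n).IsQuasicoherent := fun n => isQuasicoherent_kernel_app _ n
    haveI : ∀ n, Mono ((kernel.ι a).app (op n)) := fun n => inferInstance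
    refine isARNull_of_crux K e θ S hSfin hS hcov hcrux _ (kernel.ι a) (fun n => ?_) ?_
    · rw [← hqF' n, ← NatTrans.comp_app, ← ha₁, ← Category.assoc, kernel.condition, zero_comp]
      rfl
    · rw [← ha₂, ← Category.assoc, kernel.condition, zero_comp]
  obtain ⟨iso⟩ := iso_of_zigzag I (isAdic_of_isCohFormal (hcFs.isCohFormal hFs))
    (isAdic_of_isCohFormal hF) w a hw ha
  exact ⟨pullback u (ηa (K ^ e) N), hFs, ⟨iso⟩⟩

end Main

end Groth.Agent.Lib.GExH2
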