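import Mathlib
import Groth.Prelude
import Groth.Agent.Lib.GEx05_helper2

/-!
# Grothendieck existence, two-ideal step: the general case (helper2)

`main0830` : reduction of the general case (kernels and cokernels of `α : F ⟶ H^` killed by a power
of `K`) to the epimorphic case `exists_of_epi`.
APPEND-ONLY once landed.
-/

set_option autoImplicit false
set_option backward.isDefEq.respectTransparency false
set_option linter.style.haveILetI false
set_option linter.unusedSectionVars false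
universe u
open CategoryTheory CategoryTheory.Limits AlgebraicGeometry TopologicalSpace Opposite

namespace Groth.Agent.Lib.GExH2

open Formal Groth.Agent.Lib.FormalModPowH4 Groth.Agent.Lib.FormalFnH2 Groth.Agent.Lib.FibAmpH2
  Groth.Agent.Lib.FlatBCH2 Groth.Agent.Lib.FibVanH2 Groth.Agent.Lib.FormalQuotH2
  Groth.Agent.Lib.AdicSysH2 Groth.Agent.Lib.LimTruncH2 QcqsLoc

section Cat

variable {C : Type*} [Category C] [Abelian C]

theorem epi_kernel_comp_cokernel {P Q R : C} (α' : P ⟶ Q) (v : Q ⟶ R) [Epi v]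
    [Epi (α' ≫ v)] : Epi (kernel.ι v ≫ cokernel.π α') := by
  apply Preadditive.epi_of_cokernel_zero
  have h0 : kernel.ι v ≫ cokernel.π α' ≫ cokernel.π (kernel.ι v ≫ cokernel.π α') = 0 := by
    rw [← Category.assoc, cokernel.condition]
  have h1 : v ≫ Abelian.epiDesc v _ h0 =
      cokernel.π α' ≫ cokernel.π (kernel.ι v ≫ cokernel.π α') := Abelian.comp_epiDesc _ _ _
  have h2 : Abelian.epiDesc v _ h0 = 0 := by
    rw [← cancel_epi (α' ≫ v), Category.assoc, h1, ← Category.assoc, cokernel.condition,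
      zero_comp, comp_zero]
  rw [h2, comp_zero] at h1
  rw [← cancel_epi (cokernel.π α'), ← h1, comp_zero]

end Cat

section Epi

variable {X : Scheme.{u}} {A : Type u} [CommRing A] {I : Ideal A}
  [X.Over (Spec (CommRingCat.of A))]

/-- a map of coherent modules whose completion is pointwise epi is epi, given full faithfulness
on its cokernel -/
theorem epi_of_epi_completion {H B : X.Modules} (ψ : H ⟶ B)
    {GH GB : ℕᵒᵖ ⥤ X.Modules} {πH : ∀ n, H ⟶ Gn GH n} {τB : ∀ n, B ⟶ Gn GB n}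
    (hcH : IsComplOf I H GH πH) (hcB : IsComplOf I B GB τB) (ψh : GH ⟶ GB)
    (hψ : ∀ n, πH n ≫ ψh.app (op n) = ψ ≫ τB n) (hepi : ∀ n, Epi (ψh.app (op n)))
    (hFF : ∀ ψ' : Formal.completion I (cokernel ψ) ⟶ Formal.completion I (cokernel ψ),
      ∃! φ : cokernel ψ ⟶ cokernel ψ, ∀ n : ℕ,
        Formal.modPowπ I (n + 1) (cokernel ψ) ≫ ψ'.app (op n) =
          φ ≫ Formal.modPowπ I (n + 1) (cokernel ψ)) : Epi ψ := by
  have h0 : ∀ n, Formal.modPowπ I (n + 1) (cokernel ψ) = 0 := by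
    intro n
    have hk : ∀ a ∈ I ^ (n + 1), Formal.smulMod A B a ≫
        cokernel.π ψ ≫ Formal.modPowπ I (n + 1) (cokernel ψ) = 0 := by
      intro a ha
      rw [← Category.assoc, smulMod_naturality, Category.assoc,
        smulMod_modPowπ (cokernel ψ) I (n + 1) ha, comp_zero]
    obtain ⟨δ, hδ⟩ := (hcB.quot n).2.2 _ _ hk
    haveI := hcH.epi n
    haveI := hepi n
    have h1 : δ = 0 := by
      rw [← cancel_epi (ψh.app (op n)), ← cancel_epi (πH n), ← Category.assoc, hψ n,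
        Category.assoc, hδ, ← Category.assoc, cokernel.condition, zero_comp, comp_zero,
        comp_zero]
    rw [h1, comp_zero] at hδ
    rw [← cancel_epi (cokernel.π ψ), ← hδ, comp_zero]
  obtain ⟨φ, -, huniq⟩ := hFF (𝟙 _)
  have e1 : 𝟙 (cokernel ψ) = φ := huniq _ (fun n => by
    rw [NatTrans.id_app, Category.id_comp]
    exact Category.comp_id _)
  have e2 : (0 : cokernel ψ ⟶ cokernel ψ) = φ := huniq _ (fun n => by
    rw [h0 n, zero_comp, comp_zero])
  apply Preadditive.epi_of_cokernel_zero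
  rw [← Category.comp_id (cokernel.π ψ), e1, ← e2, comp_zero]

end Epi

section Main

variable (A : Type u) [CommRing A] (I : Ideal A) (X : Scheme.{u})
  [X.Over (Spec (CommRingCat.of A))] [AlgebraicGeometry.IsNoetherian X]

open Groth.Agent.Lib.ARSerreH4 in
/-- **S0830** -/
theorem main0830 (K : X.IdealSheafData) (F : ℕᵒᵖ ⥤ X.Modules)
    (hF : Formal.IsCohFormal I F)
    (h₁ : ∀ e : ℕ,
      (∀ (M N : X.Modules), Coh.IsCoh M → Coh.IsCoh N → ClSub.KilledByIdeal (K ^ e) M →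
        ClSub.KilledByIdeal (K ^ e) N → ∀ ψ : Formal.completion I M ⟶ Formal.completion I N,
          ∃! φ : M ⟶ N, ∀ n : ℕ, Formal.modPowπ I (n + 1) M ≫ ψ.app (op n) =
            φ ≫ Formal.modPowπ I (n + 1) N) ∧
      (∀ G : ℕᵒᵖ ⥤ X.Modules, Formal.IsCohFormal I G →
        (∀ n : ℕ, ClSub.KilledByIdeal (K ^ e) (G.obj (op n))) →
        ∃ M : X.Modules, Coh.IsCoh M ∧ ClSub.KilledByIdeal (K ^ e) M ∧
          Nonempty (Formal.completion I M ≅ G)))
    (h₂ : ∃ (H : X.Modules) (α : F ⟶ Formal.completion I H), Coh.IsCoh H ∧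
      Formal2.KerCokerKilledByPow K α) :
    ∃ M : X.Modules, Coh.IsCoh M ∧ Nonempty (Formal.completion I M ≅ F) := by
  obtain ⟨H, α, hH, t, hα⟩ := h₂
  haveI := hH.1
  haveI hqF : ∀ n, (Gn F n).IsQuasicoherent := fun n => (hF.1 n).1
  obtain ⟨πH, hπH⟩ : ∃ πH : ∀ n, H ⟶ Gn (Formal.completion I H) n,
      πH = fun n => Formal.modPowπ I (n + 1) H := ⟨_, rfl⟩
  have hcH : IsComplOf I H (Formal.completion I H) πH := by
    rw [hπH]
    exact isComplOf_completion I H
  have hHf : Formal.IsCohFormal I (Formal.completion I H) := hcH.isCohFormal hH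
  haveI hqH : ∀ n, (Gn (Formal.completion I H) n).IsQuasicoherent := fun n => (hHf.1 n).1
  have hFadic := isAdic_of_isCohFormal hF
  have hHadic := isAdic_of_isCohFormal hHf
  -- the cokernel system
  have hℬadic : ARSys.IsAdic I (cokernel α) := by
    have hIs : ARSys.IsStrict (Abelian.image α) :=
      Groth.Agent.Lib.ARExtH4.strict_of_epi (Abelian.factorThruImage α)
        (isStrict_of_isAdic hFadic)
    exact ARSESH4.main3152 (ARLimH4.ses2 α) (ARLimH4.ses2_shortExact α) I hIs hHadic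
  have eB : ∀ n, (cokernel α).obj (op n) ≅ cokernel (α.app (op n)) := fun n =>
    PreservesCokernel.iso ((evaluation ℕᵒᵖ X.Modules).obj (op n)) α
  have hℬcoh : ∀ n, Coh.IsCoh ((cokernel α).obj (op n)) := fun n =>
    CohDevH8.isCoh_of_iso (eB n) (CohKerH8.isCoh_cokernel (hF.1 n) (hHf.1 n) _)
  have hℬk : ∀ n, ClSub.KilledByIdeal (K ^ (t + 1)) ((cokernel α).obj (op n)) := fun n =>
    killedByIdeal_of_iso (eB n) (hα n).2
  have hℬ : Formal.IsCohFormal I (cokernel α) := isCohFormal_of_isAdic hℬadic hℬcoh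
  obtain ⟨B, hB, hBk, ⟨ζ⟩⟩ := (h₁ (t + 1)).2 (cokernel α) hℬ hℬk
  haveI := hB.1
  obtain ⟨τB, hτB⟩ : ∃ τB : ∀ n, B ⟶ Gn (cokernel α) n,
      τB = fun n => Formal.modPowπ I (n + 1) B ≫ ζ.hom.app (op n) := ⟨_, rfl⟩
  have hcB : IsComplOf I B (cokernel α) τB := by
    rw [hτB]
    exact isComplOf_of_iso (isComplOf_completion I B) ζ
  haveI hqℬ : ∀ n, (Gn (cokernel α) n).IsQuasicoherent := fun n => (hℬcoh n).1
  -- `H/K^(t+1)H`
  have hHt : Coh.IsCoh ((Qf (K ^ (t + 1))).obj H) := isCoh_Qf _ hH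
  haveI := hHt.1
  obtain ⟨πt, hπt⟩ : ∃ πt : ∀ n, (Qf (K ^ (t + 1))).obj H ⟶
      Gn (Formal.completion I H ⋙ Qf (K ^ (t + 1))) n,
      πt = fun n => (Qf (K ^ (t + 1))).map (πH n) := ⟨_, rfl⟩
  have hcHt : IsComplOf I ((Qf (K ^ (t + 1))).obj H)
      (Formal.completion I H ⋙ Qf (K ^ (t + 1))) πt := by
    rw [hπt]
    exact isComplOf_comp_Qf (K ^ (t + 1)) hcH
  have hg : ∀ n, ∃ g : (Qf (K ^ (t + 1))).obj H ⟶ Gn (cokernel α) n,
      ηa (K ^ (t + 1)) H ≫ g = πH n ≫ (cokernel.π α).app (op n) := fun n =>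
    exists_Qdesc (K ^ (t + 1)) (hℬk n) _
  choose g hg using hg
  have hgc : ∀ n, g (n + 1) ≫ tG (cokernel α) n = g n := by
    intro n
    have hnat : tG (Formal.completion I H) n ≫ (cokernel.π α).app (op n) =
        (cokernel.π α).app (op (n + 1)) ≫ tG (cokernel α) n := (cokernel.π α).naturality _
    rw [← cancel_epi (ηa (K ^ (t + 1)) H), ← Category.assoc, hg (n + 1), hg n, Category.assoc,
      ← hnat, ← Category.assoc, hcH.comp n]
  obtain ⟨γ, hγ⟩ := hcHt.exists_desc (cokernel α) hcB.killed g hgc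
  obtain ⟨ψ₀, hψ₀, -⟩ := hcHt.existsUnique_of_FF hcB
    ((h₁ (t + 1)).1 _ B hHt hB (killed_Qf _ H) hBk) γ
  obtain ⟨ψ, hψdef⟩ : ∃ ψ : H ⟶ B, ψ = ηa (K ^ (t + 1)) H ≫ ψ₀ := ⟨_, rfl⟩
  have hψ : ∀ n, πH n ≫ (cokernel.π α).app (op n) = ψ ≫ τB n := by
    intro n
    rw [hψdef, Category.assoc, ← hψ₀ n, hγ n, hg n]
  -- `ψ` is an epimorphism
  haveI hψepi : Epi ψ := by
    have hC : Coh.IsCoh (cokernel ψ) := CohKerH8.isCoh_cokernel hH hB ψ
    haveI := hC.1
    have hCk : ClSub.KilledByIdeal (K ^ (t + 1)) (cokernel ψ) :=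
      killedByIdeal_of_epi (cokernel.π ψ) hBk
    exact epi_of_epi_completion ψ hcH hcB (cokernel.π α) hψ (fun n => inferInstance)
      ((h₁ (t + 1)).1 _ _ hC hC hCk hCk)
  -- `H' = ker ψ`
  have hH' : Coh.IsCoh (kernel ψ) := CohKerH8.isCoh_kernel hH hB ψ
  haveI := hH'.1
  obtain ⟨π', hπ'⟩ : ∃ π' : ∀ n, kernel ψ ⟶ Gn (Formal.completion I (kernel ψ)) n,
      π' = fun n => Formal.modPowπ I (n + 1) (kernel ψ) := ⟨_, rfl⟩
  have hcH' : IsComplOf I (kernel ψ) (Formal.completion I (kernel ψ)) π' := by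
    rw [hπ']
    exact isComplOf_completion I _
  have hH'f : Formal.IsCohFormal I (Formal.completion I (kernel ψ)) := hcH'.isCohFormal hH'
  haveI hqH' : ∀ n, (Gn (Formal.completion I (kernel ψ)) n).IsQuasicoherent :=
    fun n => (hH'f.1 n).1
  have hH'adic := isAdic_of_isCohFormal hH'f
  obtain ⟨ιh, hιh⟩ := hcH'.exists_map hcH (kernel.ι ψ)
  have hιπ : ιh ≫ cokernel.π α = 0 := hcH'.hom_ext _ _ (fun n => by
    rw [NatTrans.comp_app, ← Category.assoc, hιh n, Category.assoc, hψ n, ← Category.assoc,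
      kernel.condition, zero_comp, NatTrans.app_zero, comp_zero])
  obtain ⟨v, hv⟩ : ∃ v : Formal.completion I (kernel ψ) ⟶ kernel (cokernel.π α),
      v ≫ kernel.ι (cokernel.π α) = ιh := ⟨kernel.lift _ ιh hιπ, kernel.lift_ι _ _ _⟩
  haveI hq𝒦 : ∀ n, (Gn (kernel (cokernel.π α)) n).IsQuasicoherent :=
    fun n => isQuasicoherent_kernel_app _ n
  haveI hvepi : Epi v := by
    haveI : ∀ n, Mono ((kernel.ι (cokernel.π α)).app (op n)) := fun n => inferInstance
    haveI : ∀ k : ℕᵒᵖ, Epi (v.app k) := fun k => by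
      obtain ⟨n⟩ := k
      exact epi_lift_kernel ψ hcH hcB ιh hιh (cokernel.π α) hψ (kernel (cokernel.π α))
        (kernel.ι (cokernel.π α)) (kernel.condition _) v hv n
    exact NatTrans.epi_of_epi_app _
  have hvAR : ARSys.IsARIso v := by
    refine isARIso_of_epi _ ?_
    haveI : ∀ n, (Gn (kernel v) n).IsQuasicoherent := fun n => isQuasicoherent_kernel_app _ n
    haveI : ∀ n, Mono ((kernel.ι v).app (op n)) := fun n => inferInstance
    have hj : kernel.ι v ≫ ιh = 0 := by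
      rw [← hv, ← Category.assoc, kernel.condition, zero_comp]
    exact isARNull_of_joint_mono hH' hH hH hcH' hcH hcH (kernel.ι ψ) (kernel.ι ψ)
      (fun U x h1 _ => by
        apply sl_injective_of_mono (kernel.ι ψ) U
        rw [map_zero]
        exact h1) ιh hιh ιh hιh _ (kernel.ι v) hj hj
  -- the lift `α'`
  obtain ⟨α₁, hα₁⟩ : ∃ α₁ : F ⟶ kernel (cokernel.π α), α₁ ≫ kernel.ι (cokernel.π α) = α :=
    ⟨kernel.lift _ α (cokernel.condition α), kernel.lift_ι _ _ _⟩
  haveI hα₁epi : Epi α₁ := by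
    have e : α₁ = Abelian.factorThruImage α := by
      rw [← cancel_mono (kernel.ι (cokernel.π α)), hα₁]
      exact (Abelian.image.fac α).symm
    rw [e]
    infer_instance
  obtain ⟨α', hα'⟩ := Groth.Agent.Lib.ARAbH4.lift_of_isARIso I v hvAR hH'adic.1 hFadic α₁
  haveI hα'epi : Epi α' := by
    refine Groth.Agent.Lib.ARAbH4.epi_of_arNull_cokernel_of_strict α' ?_
      (isStrict_of_isAdic hH'adic)
    haveI : Epi (α' ≫ v) := by
      rw [hα']
      infer_instance
    haveI := epi_kernel_comp_cokernel α' v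
    exact Groth.Agent.Lib.ARShift.isARNull_of_epi (kernel.ι v ≫ cokernel.π α') hvAR.1
  have hαfac : α' ≫ ιh = α := by
    rw [← hv, ← Category.assoc, hα', hα₁]
  have hk' : ∀ n, ClSub.KilledByIdeal (K ^ (t + 1)) (kernel (α'.app (op n))) := fun n => by
    have h0 : kernel.ι (α'.app (op n)) ≫ α.app (op n) = 0 := by
      rw [← hαfac, NatTrans.comp_app, ← Category.assoc, kernel.condition, zero_comp]
    haveI : Mono (kernel.lift (α.app (op n)) (kernel.ι (α'.app (op n))) h0) :=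
      mono_of_mono_fac (kernel.lift_ι _ _ _)
    exact killedByIdeal_of_mono (kernel.lift (α.app (op n)) (kernel.ι (α'.app (op n))) h0)
      (hα n).1
  exact exists_of_epi A I X K F hF h₁ (kernel ψ) hH' α' (fun n => inferInstance) (t + 1) hk'

end Main

end Groth.Agent.Lib.GExH2
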