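import Mathlib
import Groth.Prelude
import Groth.Agent.Lib.AdicSys1_helper2

/-!
# Grothendieck existence, push–pull step: algebra (helper2)

* `bijective_of_isBaseChange_of_tors` : a base change `N → R' ⊗_R N` is bijective when `N` is killed by an ideal `𝔞`
  with `R/𝔞 ≅ R'/𝔞R'`;
* the two conditions for `R' = AdicCompletion I R`;
* `finite_level_bound` : from bounds on kernel and cokernel of a map of limits of adic systems to bounds at every
  finite level (Stacks 30.25.2).
APPEND-ONLY once landed.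
-/

set_option autoImplicit false
set_option backward.isDefEq.respectTransparency false
set_option linter.style.haveILetI false
set_option linter.unusedSectionVars false
universe u
open CategoryTheory CategoryTheory.Limits Opposite TensorProduct

namespace Groth.Agent.Lib.GExH2

open Groth.Agent.Lib.AdicSysH2

section TorsBC

variable {R R' : Type u} [CommRing R] [CommRing R'] [Algebra R R']
  {N N' : Type u} [AddCommGroup N] [Module R N] [AddCommGroup N'] [Module R N'] [Module R' N']
  [IsScalarTower R R' N']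

theorem smul_eq_zero_of_mem_map (𝔞 : Ideal R) (hk : ∀ a ∈ 𝔞, ∀ m : N, a • m = 0)
    (c : N →ₗ[R] N') (hc : IsBaseChange R' c) (e : R') (he : e ∈ 𝔞.map (algebraMap R R'))
    (n' : N') : e • n' = 0 := by
  have h1 : ∀ a ∈ 𝔞, ∀ n' : N', (algebraMap R R' a) • n' = 0 := by
    intro a ha n'
    induction n' using hc.inductionOn with
    | zero => exact smul_zero _
    | tmul m => rw [algebraMap_smul, ← map_smul, hk a ha m, map_zero]
    | smul s n ih => rw [smul_smul, mul_comm, ← smul_smul, ih, smul_zero]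
    | add n₁ n₂ h₁ h₂ => rw [smul_add, h₁, h₂, add_zero]
  have h2 : 𝔞.map (algebraMap R R') ≤ Module.annihilator R' N' := by
    rw [Ideal.map_le_iff_le_comap]
    intro a ha
    rw [Ideal.mem_comap, Module.mem_annihilator]
    exact h1 a ha
  exact Module.mem_annihilator.mp (h2 he) n'

/-- a base change of a module killed by `𝔞` along `R → R'` with `R/𝔞 ≅ R'/𝔞R'` is bijective -/
theorem bijective_of_isBaseChange_of_tors (𝔞 : Ideal R)
    (hsurj : ∀ s : R', ∃ b : R, s - algebraMap R R' b ∈ 𝔞.map (algebraMap R R'))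
    (hinj : ∀ b : R, algebraMap R R' b ∈ 𝔞.map (algebraMap R R') → b ∈ 𝔞)
    (hk : ∀ a ∈ 𝔞, ∀ m : N, a • m = 0)
    (c : N →ₗ[R] N') (hc : IsBaseChange R' c) : Function.Bijective c := by
  have hk' := smul_eq_zero_of_mem_map 𝔞 hk c hc
  constructor
  · choose b hb using hsurj
    have key : ∀ (r : R), algebraMap R R' r ∈ 𝔞.map (algebraMap R R') → ∀ m : N, r • m = 0 :=
      fun r hr m => hk r (hinj r hr) m
    let f : R' →ₗ[R] (N →ₗ[R] N) :=
      { toFun := fun s => b s • LinearMap.id
        map_add' := fun s s' => by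
          apply LinearMap.ext
          intro m
          show b (s + s') • m = b s • m + b s' • m
          rw [← add_smul, ← sub_eq_zero, ← sub_smul]
          refine key _ ?_ m
          have : algebraMap R R' (b (s + s') - (b s + b s')) =
              (s - algebraMap R R' (b s)) + (s' - algebraMap R R' (b s')) -
                (s + s' - algebraMap R R' (b (s + s'))) := by
            rw [map_sub, map_add]; ring
          rw [this]
          exact Ideal.sub_mem _ (Ideal.add_mem _ (hb s) (hb s')) (hb (s + s'))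
        map_smul' := fun r s => by
          apply LinearMap.ext
          intro m
          show b (r • s) • m = r • (b s • m)
          rw [smul_smul, ← sub_eq_zero, ← sub_smul]
          refine key _ ?_ m
          have : algebraMap R R' (b (r • s) - r * b s) =
              algebraMap R R' r * (s - algebraMap R R' (b s)) -
                (r • s - algebraMap R R' (b (r • s))) := by
            rw [map_sub, map_mul, Algebra.smul_def]; ring
          rw [this]
          exact Ideal.sub_mem _ (Ideal.mul_mem_left _ _ (hb s)) (hb (r • s)) }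
    let ψ : R' ⊗[R] N →ₗ[R] N := TensorProduct.lift f
    have hψ : ∀ m : N, ψ ((1 : R') ⊗ₜ m) = m := by
      intro m
      have h0 : ψ ((1 : R') ⊗ₜ m) = b 1 • m := TensorProduct.lift.tmul _ _
      rw [h0]
      have h1 : (b 1 - 1) • m = 0 := by
        refine key _ ?_ m
        have : algebraMap R R' (b 1 - 1) = -((1 : R') - algebraMap R R' (b 1)) := by
          rw [map_sub, map_one]; ring
        rw [this]
        exact (Ideal.neg_mem_iff _).mpr (hb 1)
      rw [sub_smul, one_smul, sub_eq_zero] at h1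
      exact h1
    intro m₁ m₂ h12
    have h1 : hc.equiv ((1 : R') ⊗ₜ m₁) = hc.equiv ((1 : R') ⊗ₜ m₂) := by
      rw [IsBaseChange.equiv_tmul, IsBaseChange.equiv_tmul, one_smul, one_smul, h12]
    have h2 := hc.equiv.injective h1
    rw [← hψ m₁, ← hψ m₂, h2]
  · intro n
    induction n using hc.inductionOn with
    | zero => exact ⟨0, map_zero _⟩
    | tmul m => exact ⟨m, rfl⟩
    | smul s n ih =>
      obtain ⟨m, rfl⟩ := ih
      obtain ⟨b, hb⟩ := hsurj s
      refine ⟨b • m, ?_⟩
      rw [map_smul]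
      have h1 : (s - algebraMap R R' b) • c m = 0 := hk' _ hb _
      rw [sub_smul, sub_eq_zero, algebraMap_smul] at h1
      exact h1.symm
    | add n₁ n₂ h₁ h₂ =>
      obtain ⟨m₁, rfl⟩ := h₁
      obtain ⟨m₂, rfl⟩ := h₂
      exact ⟨m₁ + m₂, map_add _ _ _⟩

end TorsBC

section Compl

variable {B : Type u} [CommRing B] (I : Ideal B)

theorem adic_mem_map_of_evalₐ_eq_zero (hI : I.FG) (n : ℕ) (x : AdicCompletion I B)
    (hx : AdicCompletion.evalₐ I n x = 0) :
    x ∈ (I ^ n).map (algebraMap B (AdicCompletion I B)) := by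
  have hle : I ^ n ≤ (I ^ n • ⊤ : Ideal B) := by
    have h : (I ^ n • ⊤ : Ideal B) = I ^ n := by ext x; simp
    exact h.ge
  have h1 : AdicCompletion.eval I B n x = 0 := by
    rw [← AdicCompletion.factor_evalₐ_eq_eval I x hle, hx, map_zero]
  have h2 : x ∈ LinearMap.ker (AdicCompletion.eval I B n) := h1
  rw [← AdicCompletion.pow_smul_top_eq_ker_eval hI, Ideal.smul_top_eq_map] at h2
  exact h2

theorem adic_exists_sub_mem (hI : I.FG) (n : ℕ) (s : AdicCompletion I B) :
    ∃ b : B, s - algebraMap B (AdicCompletion I B) b ∈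
      (I ^ n).map (algebraMap B (AdicCompletion I B)) := by
  obtain ⟨b, hb⟩ := Ideal.Quotient.mk_surjective (AdicCompletion.evalₐ I n s)
  refine ⟨b, adic_mem_map_of_evalₐ_eq_zero I hI n _ ?_⟩
  rw [map_sub, AlgHom.commutes, sub_eq_zero]
  exact hb.symm

theorem adic_mem_of_map_mem (hI : I.FG) (n : ℕ) (b : B)
    (hb : algebraMap B (AdicCompletion I B) b ∈
      (I ^ n).map (algebraMap B (AdicCompletion I B))) : b ∈ I ^ n := by
  have h2 : algebraMap B (AdicCompletion I B) b ∈
      (I ^ n • ⊤ : Submodule B (AdicCompletion I B)) := by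
    rw [Ideal.smul_top_eq_map]
    exact hb
  rw [AdicCompletion.pow_smul_top_eq_ker_eval hI, LinearMap.mem_ker] at h2
  have hle : (I ^ n • ⊤ : Ideal B) ≤ I ^ n := by
    have h : (I ^ n • ⊤ : Ideal B) = I ^ n := by ext x; simp
    exact h.le
  have h3 : AdicCompletion.evalₐ I n (algebraMap B (AdicCompletion I B) b) = 0 := by
    rw [← AdicCompletion.factor_eval_eq_evalₐ I _ hle, h2, map_zero]
  rw [AlgHom.commutes] at h3
  exact Ideal.Quotient.eq_zero_iff_mem.mp h3

end Compl

section FB

variable {R : Type u} [CommRing R] {N P : ARSys.PS (ModuleCat.{u} R)} (a : N ⟶ P)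

/-- the induced map on limits -/
def Lmap : Lsub N →ₗ[R] Lsub P where
  toFun x := ⟨fun n => (a.app (op n)).hom (x.1 n), fun n k h => by
    show T P h ((a.app (op k)).hom (x.1 k)) = (a.app (op n)).hom (x.1 n)
    have hnat : ARSys.tr N h ≫ a.app (op n) = a.app (op k) ≫ ARSys.tr P h := a.naturality _
    have h2 := congrArg (fun φ : N.obj (op k) ⟶ P.obj (op n) => φ.hom (x.1 k)) hnat
    exact h2.symm.trans (congrArg (a.app (op n)).hom (x.2 n k h))⟩
  map_add' x y := by
    apply Subtype.ext
    funext n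
    exact map_add (a.app (op n)).hom _ _
  map_smul' r x := by
    apply Subtype.ext
    funext n
    exact map_smul (a.app (op n)).hom _ _

theorem Lmap_apply (x : Lsub N) (n : ℕ) : (Lmap a x).1 n = (a.app (op n)).hom (x.1 n) := rfl

/-- **Stacks 30.25.2**: bounds on the limit give bounds at every level -/
theorem finite_level_bound (I : Ideal R) (hI : I.FG)
    (hSN : ∀ n, Function.Surjective (T N (Nat.le_succ n)))
    (hZN : ∀ n, I ^ (n + 1) • (⊤ : Submodule R (N.obj (op n))) = ⊥)
    (hSP : ∀ n, Function.Surjective (T P (Nat.le_succ n)))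
    (hKP : ∀ n, LinearMap.ker (T P (Nat.le_succ n)) ≤
      I ^ (n + 1) • (⊤ : Submodule R (P.obj (op n.succ))))
    (hZP : ∀ n, I ^ (n + 1) • (⊤ : Submodule R (P.obj (op n))) = ⊥)
    (𝔨 : Ideal R) (t : ℕ)
    (hker : ∀ x : Lsub N, Lmap a x = 0 → ∀ k ∈ 𝔨 ^ t, k • x = 0)
    (hcok : ∀ p : Lsub P, ∀ k ∈ 𝔨 ^ t, ∃ x : Lsub N, Lmap a x = k • p) (n : ℕ) :
    (∀ x : N.obj (op n), (a.app (op n)).hom x = 0 → ∀ k ∈ 𝔨 ^ (t + t), k • x = 0) ∧
    (∀ p : P.obj (op n), ∀ k ∈ 𝔨 ^ t, ∃ x : N.obj (op n), (a.app (op n)).hom x = k • p) := by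
  constructor
  · intro x hx
    obtain ⟨xh, rfl⟩ := πL_surjective N hSN n x
    have h0 : πL P n (Lmap a xh) = 0 := hx
    have h1 := mem_smul_top_of_apply_eq_zero P hSP I hKP hZP hI n (Lmap a xh) h0
    have hQ : ∀ y ∈ I ^ (n + 1) • (⊤ : Submodule R (Lsub P)), ∀ k ∈ 𝔨 ^ t,
        ∃ u : Lsub N, u ∈ I ^ (n + 1) • (⊤ : Submodule R (Lsub N)) ∧ Lmap a u = k • y := by
      intro y hy k hk
      refine Submodule.smul_induction_on hy (fun g hg p _ => ?_) (fun y z hy hz => ?_)
      · obtain ⟨z, hz⟩ := hcok p k hk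
        refine ⟨g • z, Submodule.smul_mem_smul hg Submodule.mem_top, ?_⟩
        rw [map_smul, hz, smul_comm]
      · obtain ⟨u, hu, e⟩ := hy
        obtain ⟨v, hv, e'⟩ := hz
        exact ⟨u + v, Submodule.add_mem _ hu hv, by rw [map_add, e, e', smul_add]⟩
    have hprod : ∀ k ∈ 𝔨 ^ t, ∀ k' ∈ 𝔨 ^ t, (k' * k) • πL N n xh = 0 := by
      intro k hk k' hk'
      obtain ⟨u, hu, e⟩ := hQ _ h1 k hk
      have h2 : Lmap a (k • xh - u) = 0 := by rw [map_sub, map_smul, e, sub_self]
      have h3 := hker _ h2 k' hk'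
      rw [smul_sub, sub_eq_zero, smul_smul] at h3
      rw [← map_smul, h3, map_smul, πL_eq_zero_of_mem_smul_top N I hZN (le_refl _) u hu,
        smul_zero]
    intro k hk
    rw [pow_add] at hk
    refine Submodule.mul_induction_on hk (fun k₁ hk₁ k₂ hk₂ => hprod k₂ hk₂ k₁ hk₁)
      (fun y z hy hz => ?_)
    rw [add_smul, hy, hz, add_zero]
  · intro p k hk
    obtain ⟨ph, rfl⟩ := πL_surjective P hSP n p
    obtain ⟨x, hx⟩ := hcok ph k hk
    refine ⟨πL N n x, ?_⟩
    exact congrArg (fun y : Lsub P => πL P n y) hx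

end FB

end Groth.Agent.Lib.GExH2
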