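import Mathlib

/-!
# Pulling sections back along morphisms from affine schemes  (helper5)

`pb h D hle : Γ(P, D) ⟶ B` for `h : Spec B ⟶ P` landing in the open `D`.
-/

set_option autoImplicit false
universe u
open AlgebraicGeometry CategoryTheory CategoryTheory.Limits Opposite TopologicalSpace

noncomputable section

namespace Groth.Agent.LineImm

variable {X P : Scheme.{u}}

/-- Pull back sections over `D` along `h : Spec B ⟶ P` with image in `D`. -/
def pb {B : CommRingCat.{u}} (h : Spec B ⟶ P) (D : P.Opens) (hle : ⊤ ≤ h ⁻¹ᵁ D) : Γ(P, D) ⟶ B :=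
  h.appLE D ⊤ hle ≫ (Scheme.ΓSpecIso B).hom

theorem pb_congr {B : CommRingCat.{u}} {h h' : Spec B ⟶ P} (e : h = h') (D : P.Opens)
    (hle : ⊤ ≤ h ⁻¹ᵁ D) : pb h D hle = pb h' D (e ▸ hle) := by
  subst e; rfl

theorem pb_map {B B' : CommRingCat.{u}} (φ : B ⟶ B') (h : Spec B ⟶ P) (D : P.Opens)
    (hle : ⊤ ≤ h ⁻¹ᵁ D) (hle' : ⊤ ≤ (Spec.map φ ≫ h) ⁻¹ᵁ D) :
    pb (Spec.map φ ≫ h) D hle' = pb h D hle ≫ φ := by
  unfold pb
  have h1 : (Spec.map φ ≫ h).appLE D ⊤ hle' =
      h.appLE D ⊤ hle ≫ (Spec.map φ).appLE ⊤ ⊤ le_top := by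
    rw [Scheme.Hom.appLE_comp_appLE]
  have h2 : (Spec.map φ).appLE ⊤ ⊤ le_top = (Spec.map φ).appTop := by
    rw [Scheme.Hom.appTop, Scheme.Hom.app_eq_appLE]; rfl
  rw [h1, h2, Category.assoc, Scheme.ΓSpecIso_naturality, Category.assoc]

theorem pb_comp {B : CommRingCat.{u}} (c : Spec B ⟶ X) (R : X ⟶ P) (D : P.Opens) (V : X.Opens)
    (hV : V ≤ R ⁻¹ᵁ D) (hc : ⊤ ≤ c ⁻¹ᵁ V) (hle : ⊤ ≤ (c ≫ R) ⁻¹ᵁ D) :
    pb (c ≫ R) D hle = R.appLE D V hV ≫ pb c V hc := by
  unfold pb
  rw [← Category.assoc, Scheme.Hom.appLE_comp_appLE]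

theorem pb_fromSpec (V : X.Opens) (hV : IsAffineOpen V) (hle : ⊤ ≤ hV.fromSpec ⁻¹ᵁ V) :
    pb hV.fromSpec V hle = 𝟙 _ := by
  unfold pb
  have h1 : hV.fromSpec.appLE V ⊤ hle = hV.fromSpec.app V ≫
      (Spec Γ(X, V)).presheaf.map (homOfLE hle).op := rfl
  rw [h1, hV.fromSpec_app_self]
  simp only [Category.assoc]
  rw [← Functor.map_comp_assoc]
  have e' : ((eqToHom hV.fromSpec_preimage_self).op ≫ (homOfLE hle).op :
      op (⊤ : (Spec Γ(X, V)).Opens) ⟶ op ⊤) = 𝟙 _ := Subsingleton.elim _ _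
  rw [e', CategoryTheory.Functor.map_id, Category.id_comp, Iso.inv_hom_id]

theorem pb_bijective {B : CommRingCat.{u}} (h : Spec B ⟶ P) [IsOpenImmersion h] (D : P.Opens)
    (hD : h.opensRange = D) (hle : ⊤ ≤ h ⁻¹ᵁ D) : Function.Bijective (pb h D hle).hom := by
  rw [← ConcreteCategory.isIso_iff_bijective]
  subst hD
  unfold pb
  have h0 : IsIso (h.app h.opensRange) := Scheme.Hom.isIso_app h _ le_rfl
  have h1 : h.appLE h.opensRange ⊤ hle = h.app h.opensRange ≫
      (Spec B).presheaf.map (homOfLE hle).op := rfl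
  have h2 : IsIso ((Spec B).presheaf.map (homOfLE hle).op) := by
    have : IsIso (homOfLE hle) :=
      ⟨homOfLE le_top, Subsingleton.elim _ _, Subsingleton.elim _ _⟩
    infer_instance
  rw [h1]
  infer_instance

theorem surjective_restrict_iff (f : X ⟶ P) (U : P.Opens) :
    Function.Surjective (f ∣_ U).appTop ↔ Function.Surjective (f.app U) := by
  rw [morphismRestrict_appTop]
  have key : ∀ (U' : P.Opens) (e : U' = U) (W : X.Opens) (e' : W = f ⁻¹ᵁ U'),
      Function.Surjective (f.app U' ≫ X.presheaf.map (eqToHom e').op) ↔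
        Function.Surjective (f.app U) := by
    intro U' e W e'; subst e; subst e'; simp
  exact key _ U.ι_image_top _ _

theorem injective_restrict_iff (f : X ⟶ P) (U : P.Opens) :
    Function.Injective (f ∣_ U).appTop ↔ Function.Injective (f.app U) := by
  rw [morphismRestrict_appTop]
  have key : ∀ (U' : P.Opens) (e : U' = U) (W : X.Opens) (e' : W = f ⁻¹ᵁ U'),
      Function.Injective (f.app U' ≫ X.presheaf.map (eqToHom e').op) ↔
        Function.Injective (f.app U) := by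
    intro U' e W e'; subst e; subst e'; simp
  exact key _ U.ι_image_top _ _

end Groth.Agent.LineImm
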