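import Mathlib
import Groth.Prelude
import Groth.Agent.Lib.GEx06_helper2
import Groth.Agent.Lib.GEx07_helper2
import Groth.Agent.Lib.LocIso1_helper8
import Groth.Agent.Lib.LimHomGlue_helper2
import Groth.Agent.Lib.LineImm1_helper5

/-!
# Grothendieck existence, push–pull step: scheme generalities (helper2)

* change of base ring for `Formal.smulMod`, `Formal.KilledBy`, `IsQuot`, `IsComplOf`, `Formal.IsCohFormal`;
* sections of the pullback along an open immersion (`cUV_bijective_of_isOpenImmersion`);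
* base change of "isomorphism over an open" (`isIso_morphismRestrict_of_isPullback`) and the unit of
  pullback–pushforward over such opens (`unit_app_bijective_of_iso`);
* pullback of completion data.
APPEND-ONLY once landed.
-/

set_option autoImplicit false
set_option backward.isDefEq.respectTransparency false
set_option linter.style.haveILetI false
set_option linter.unusedSectionVars false
universe u
open CategoryTheory CategoryTheory.Limits AlgebraicGeometry TopologicalSpace Opposite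

namespace Groth.Agent.Lib.GExH2

open Formal Groth.Agent.Lib.FormalModPowH4 Groth.Agent.Lib.FormalFnH2 Groth.Agent.Lib.FibAmpH2
  Groth.Agent.Lib.FlatBCH2 Groth.Agent.Lib.FibVanH2 Groth.Agent.Lib.FormalQuotH2
  Groth.Agent.Lib.AdicSysH2 Groth.Agent.Lib.LimTruncH2 QcqsLoc

section BaseRing

variable {R R' : Type u} [CommRing R] [CommRing R'] (φ : R →+* R') {Z : Scheme.{u}}
  [Z.Over (Spec (CommRingCat.of R))] [Z.Over (Spec (CommRingCat.of R'))]
  (hZ : (Z ↘ Spec (CommRingCat.of R)) =
    (Z ↘ Spec (CommRingCat.of R')) ≫ Spec.map (CommRingCat.ofHom φ))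

include hZ in
theorem toGlobal_map (a : R) :
    Coh.toGlobal (Z ↘ Spec (CommRingCat.of R)) a =
      Coh.toGlobal (Z ↘ Spec (CommRingCat.of R')) (φ a) := by
  have h2 : (Scheme.ΓSpecIso (CommRingCat.of R)).inv ≫
      (Spec.map (CommRingCat.ofHom φ)).appTop =
      CommRingCat.ofHom φ ≫ (Scheme.ΓSpecIso (CommRingCat.of R')).inv :=
    (Scheme.ΓSpecIso_inv_naturality (CommRingCat.ofHom φ)).symm
  have key : (Scheme.ΓSpecIso (CommRingCat.of R)).inv ≫
      (Z ↘ Spec (CommRingCat.of R)).appTop =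
      CommRingCat.ofHom φ ≫ (Scheme.ΓSpecIso (CommRingCat.of R')).inv ≫
        (Z ↘ Spec (CommRingCat.of R')).appTop := by
    rw [hZ, Scheme.Hom.comp_appTop, ← Category.assoc, h2, Category.assoc]
  exact congrArg (fun ψ => ψ.hom a) key

include hZ in
theorem smulMod_map (M : Z.Modules) (a : R) :
    Formal.smulMod R M a = Formal.smulMod R' M (φ a) := by
  unfold Formal.smulMod
  rw [toGlobal_map φ hZ]

/-- the ideal of scalars `b` with `b · g = 0` -/
def annHom {R : Type u} [CommRing R] {Z : Scheme.{u}} [Z.Over (Spec (CommRingCat.of R))]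
    {M Z' : Z.Modules} (g : M ⟶ Z') : Ideal R where
  carrier := {b | Formal.smulMod R M b ≫ g = 0}
  add_mem' := by
    intro b b' hb hb'
    have hb1 : Formal.smulMod R M b ≫ g = 0 := hb
    have hb2 : Formal.smulMod R M b' ≫ g = 0 := hb'
    show Formal.smulMod R M (b + b') ≫ g = 0
    rw [smulMod_add, Preadditive.add_comp, hb1, hb2, add_zero]
  zero_mem' := by
    show Formal.smulMod R M 0 ≫ g = 0
    rw [smulMod_zero, zero_comp]
  smul_mem' := by
    intro r b hb
    have hb1 : Formal.smulMod R M b ≫ g = 0 := hb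
    show Formal.smulMod R M (r • b) ≫ g = 0
    rw [smul_eq_mul, mul_comm, smulMod_mul, Category.assoc, hb1, comp_zero]

theorem mem_annHom {R : Type u} [CommRing R] {Z : Scheme.{u}} [Z.Over (Spec (CommRingCat.of R))]
    {M Z' : Z.Modules} (g : M ⟶ Z') (b : R) :
    b ∈ annHom g ↔ Formal.smulMod R M b ≫ g = 0 := Iff.rfl

include hZ in
theorem killedBy_map {I : Ideal R} {M : Z.Modules} (h : Formal.KilledBy I M) :
    Formal.KilledBy (I.map φ) M := by
  intro b hb
  have h1 : I.map φ ≤ annHom (R := R') (𝟙 M) := by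
    rw [Ideal.map_le_iff_le_comap]
    intro a ha
    rw [Ideal.mem_comap, mem_annHom, Category.comp_id, ← smulMod_map φ hZ]
    exact h a ha
  have h2 := (mem_annHom (R := R') (𝟙 M) b).mp (h1 hb)
  rwa [Category.comp_id] at h2

include hZ in
theorem isQuot_map {I : Ideal R} {M N : Z.Modules} {t : M ⟶ N} (h : IsQuot I t) :
    IsQuot (I.map φ) t := by
  refine ⟨fun b hb => ?_, h.2.1, fun Z' g hg => ?_⟩
  · have h1 : I.map φ ≤ annHom (R := R') t := by
      rw [Ideal.map_le_iff_le_comap]
      intro a ha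
      rw [Ideal.mem_comap, mem_annHom, ← smulMod_map φ hZ]
      exact h.1 a ha
    exact (mem_annHom (R := R') t b).mp (h1 hb)
  · refine h.2.2 Z' g (fun a ha => ?_)
    rw [smulMod_map φ hZ]
    exact hg _ (Ideal.mem_map_of_mem φ ha)

include hZ in
theorem isComplOf_map {I : Ideal R} {M : Z.Modules} {G : ℕᵒᵖ ⥤ Z.Modules}
    {τ : ∀ n, M ⟶ Gn G n} (h : IsComplOf I M G τ) : IsComplOf (I.map φ) M G τ where
  quot n := by
    rw [← Ideal.map_pow]
    exact isQuot_map φ hZ (h.quot n)
  comp := h.comp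

include hZ in
theorem isCohFormal_map {I : Ideal R} {G : ℕᵒᵖ ⥤ Z.Modules} (hG : Formal.IsCohFormal I G) :
    Formal.IsCohFormal (I.map φ) G := by
  refine ⟨hG.1, fun n => ?_, fun n => ?_⟩
  · rw [← Ideal.map_pow]
    exact killedBy_map φ hZ (hG.2.1 n)
  · have := (isQuot_map φ hZ (isQuot_tG hG n)).cond
    rw [Ideal.map_pow] at this
    exact this

end BaseRing

section OpenImm

variable {X' X : Scheme.{u}} (ι : X' ⟶ X) [IsOpenImmersion ι]

theorem image_le_of_le_preimage {V' : X'.Opens} {U : X.Opens} (h : V' ≤ ι ⁻¹ᵁ U) :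
    ι ''ᵁ V' ≤ U := (ι.image_mono h).trans (ι.image_preimage_le U)

/-- the canonical map to the sections of the pullback along an open immersion, through the
restriction functor -/
theorem cUV_openImm_eq (M : X.Modules) {V' : X'.Opens} {U : X.Opens} (h : V' ≤ ι ⁻¹ᵁ U)
    (x : Γ(M, U)) :
    PBH8.cUV ι M h x =
      ((Scheme.Modules.restrictFunctorIsoPullback ι).hom.app M).app V'
        (show Γ(M.restrict ι, V') from
          M.presheaf.map (homOfLE (image_le_of_le_preimage ι h)).op x) := by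
  have hu : (Scheme.Modules.pullbackPushforwardAdjunction ι).unit.app M =
      (Scheme.Modules.restrictAdjunction ι).unit.app M ≫
        (Scheme.Modules.pushforward ι).map
          ((Scheme.Modules.restrictFunctorIsoPullback ι).hom.app M) :=
    ((Scheme.Modules.restrictAdjunction ι).unit_leftAdjointUniq_hom_app
      (Scheme.Modules.pullbackPushforwardAdjunction ι) M).symm
  unfold PBH8.cUV
  rw [hu]
  have h1 := QCohCrit.app_naturality ((Scheme.Modules.restrictFunctorIsoPullback ι).hom.app M)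
    (homOfLE h) (show Γ(M.restrict ι, ι ⁻¹ᵁ U) from
      M.presheaf.map (homOfLE (ι.image_preimage_le U)).op x)
  refine h1.symm.trans ?_
  congr 1
  have := congrArg (fun ψ => ψ x) (M.presheaf.map_comp (homOfLE (ι.image_preimage_le U)).op
    (homOfLE (ι.image_mono h)).op)
  exact this.symm

theorem cUV_bijective_of_isOpenImmersion (M : X.Modules) {V' : X'.Opens} {U : X.Opens}
    (h : V' ≤ ι ⁻¹ᵁ U) (himg : ι ''ᵁ V' = U) : Function.Bijective (PBH8.cUV ι M h) := by
  subst himg
  have hfun : ∀ x : Γ(M, ι ''ᵁ V'), PBH8.cUV ι M h x =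
      ((Scheme.Modules.restrictFunctorIsoPullback ι).hom.app M).app V'
        (show Γ(M.restrict ι, V') from x) := by
    intro x
    rw [cUV_openImm_eq]
    congr 1
    have h0 : (homOfLE (image_le_of_le_preimage ι h)) = 𝟙 (ι ''ᵁ V') := rfl
    rw [h0, op_id, M.presheaf.map_id]
    rfl
  constructor
  · intro x y hxy
    rw [hfun, hfun] at hxy
    have h2 := congrArg (fun z => ((Scheme.Modules.restrictFunctorIsoPullback ι).inv.app M).app V' z)
      hxy
    simp only at h2
    rw [← comp_app', ← comp_app', Iso.hom_inv_id_app] at h2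
    exact h2
  · intro z
    refine ⟨((Scheme.Modules.restrictFunctorIsoPullback ι).inv.app M).app V' z, ?_⟩
    rw [hfun]
    show ((Scheme.Modules.restrictFunctorIsoPullback ι).hom.app M).app V'
      (((Scheme.Modules.restrictFunctorIsoPullback ι).inv.app M).app V' z) = z
    rw [← comp_app', Iso.inv_hom_id_app]
    rfl

end OpenImm

section IsoOver

/-- base change of "isomorphism over an open" -/
theorem isIso_morphismRestrict_of_isPullback {X' X T Y : Scheme.{u}} {q : X' ⟶ X} {f' : X' ⟶ T}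
    {f : X ⟶ Y} {r : T ⟶ Y} (sq : IsPullback q f' f r) (V : Y.Opens) (hV : IsIso (f ∣_ V))
    (D : T.Opens) (hD : D ≤ r ⁻¹ᵁ V) : IsIso (f' ∣_ D) := by
  have s1 : IsPullback (f' ⁻¹ᵁ D).ι (f' ∣_ D) f' D.ι := (isPullback_morphismRestrict f' D).flip
  have s2 : IsPullback ((f' ⁻¹ᵁ D).ι ≫ q) (f' ∣_ D) f (D.ι ≫ r) := s1.paste_horiz sq
  have hrange : Set.range (D.ι ≫ r) ⊆ Set.range V.ι := by
    rintro _ ⟨x, rfl⟩
    rw [Scheme.Opens.range_ι]
    have hx : D.ι x ∈ D := by
      have := Set.mem_range_self (f := D.ι) x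
      rwa [Scheme.Opens.range_ι] at this
    rw [Scheme.Hom.comp_apply]
    exact hD hx
  have hρ : IsOpenImmersion.lift V.ι (D.ι ≫ r) hrange ≫ V.ι = D.ι ≫ r :=
    IsOpenImmersion.lift_fac _ _ _
  have t : IsPullback (f ⁻¹ᵁ V).ι (f ∣_ V) f V.ι := (isPullback_morphismRestrict f V).flip
  have s3 : IsPullback ((f' ⁻¹ᵁ D).ι ≫ q) (f' ∣_ D) f
      (IsOpenImmersion.lift V.ι (D.ι ≫ r) hrange ≫ V.ι) := by
    rw [hρ]
    exact s2
  have s4 := IsPullback.of_right' s3 t
  exact s4.isIso_snd_of_isIso hV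

theorem isAffineOpen_preimage_of_isIso_restrict {X' T : Scheme.{u}} (f' : X' ⟶ T) {D : T.Opens}
    (hD : IsAffineOpen D) (h : IsIso (f' ∣_ D)) : IsAffineOpen (f' ⁻¹ᵁ D) := by
  haveI : IsAffine (D : Scheme.{u}) := hD
  haveI := h
  exact IsAffine.of_isIso (f' ∣_ D)

theorem app_bijective_of_isIso_restrict {X' T : Scheme.{u}} (f' : X' ⟶ T) (D : T.Opens)
    (h : IsIso (f' ∣_ D)) : Function.Bijective (f'.app D).hom := by
  haveI := h
  have h1 : Function.Bijective (f' ∣_ D).appTop.hom :=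
    ConcreteCategory.bijective_of_isIso (f' ∣_ D).appTop
  exact ⟨(Groth.Agent.LineImm.injective_restrict_iff f' D).mp h1.1,
    (Groth.Agent.LineImm.surjective_restrict_iff f' D).mp h1.2⟩

/-- the unit of pullback–pushforward is bijective on sections over affine opens over which the
morphism is an isomorphism -/
theorem unit_app_bijective_of_iso {X' T : Scheme.{u}} (f' : X' ⟶ T) (𝒩 : T.Modules)
    [𝒩.IsQuasicoherent] {D : T.Opens} (hD : IsAffineOpen D) (hiso : IsIso (f' ∣_ D)) :
    Function.Bijective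
      (((Scheme.Modules.pullbackPushforwardAdjunction f').unit.app 𝒩).app D) := by
  have hU : IsAffineOpen (f' ⁻¹ᵁ D) := isAffineOpen_preimage_of_isIso_restrict f' hD hiso
  letI := (f'.appLE D (f' ⁻¹ᵁ D) (le_refl _)).hom.toAlgebra
  letI : Module Γ(T, D) Γ((Scheme.Modules.pullback f').obj 𝒩, f' ⁻¹ᵁ D) :=
    Module.compHom _ (f'.appLE D (f' ⁻¹ᵁ D) (le_refl _)).hom
  haveI : IsScalarTower Γ(T, D) Γ(X', f' ⁻¹ᵁ D)
      Γ((Scheme.Modules.pullback f').obj 𝒩, f' ⁻¹ᵁ D) :=
    IsScalarTower.of_algebraMap_smul fun _ _ => rfl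
  have bc := PBH8.isBaseChange_cUV f' 𝒩 (le_refl (f' ⁻¹ᵁ D)) hU hD
  have happ : f'.appLE D (f' ⁻¹ᵁ D) (le_refl _) = f'.app D := f'.appLE_eq_app
  have hbij : Function.Bijective (algebraMap Γ(T, D) Γ(X', f' ⁻¹ᵁ D)) := by
    show Function.Bijective (f'.appLE D (f' ⁻¹ᵁ D) (le_refl _)).hom
    rw [happ]
    exact app_bijective_of_isIso_restrict f' D hiso
  have hb := ClPushH8.bijective_of_isBaseChange_of_killed hbij.2 (fun a ha m => by
    have h0 : a = 0 := hbij.1 (by rw [RingHom.mem_ker.mp ha, map_zero])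
    rw [h0, zero_smul]) (PBH8.cUVLin f' 𝒩 (le_refl (f' ⁻¹ᵁ D))) bc
  have heq : ⇑(PBH8.cUVLin f' 𝒩 (le_refl (f' ⁻¹ᵁ D))) =
      ⇑(((Scheme.Modules.pullbackPushforwardAdjunction f').unit.app 𝒩).app D) := by
    funext x
    exact cUV_self' f' 𝒩 D x
  rw [← heq]
  exact hb

end IsoOver

section PullCompl

variable {A : Type u} [CommRing A] {X Z : Scheme.{u}} [X.Over (Spec (CommRingCat.of A))]
  [Z.Over (Spec (CommRingCat.of A))] (g : Z ⟶ X)
  (hg : g ≫ (X ↘ Spec (CommRingCat.of A)) = (Z ↘ Spec (CommRingCat.of A)))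

include hg in
theorem IsComplOf.pullback {I : Ideal A} {M : X.Modules} {G : ℕᵒᵖ ⥤ X.Modules}
    {τ : ∀ n, M ⟶ Gn G n} (h : IsComplOf I M G τ) :
    IsComplOf I ((Scheme.Modules.pullback g).obj M) (G ⋙ Scheme.Modules.pullback g)
      (fun n => (Scheme.Modules.pullback g).map (τ n)) where
  quot n := (h.quot n).pullback g hg
  comp n := by
    show (Scheme.Modules.pullback g).map (τ (n + 1)) ≫
      (Scheme.Modules.pullback g).map (tG G n) = _
    rw [← Functor.map_comp, h.comp n]

end PullCompl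

end Groth.Agent.Lib.GExH2
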