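import Mathlib
import Groth.Prelude
import Groth.Agent.Lib.GEx08_helper2
import Groth.Agent.Lib.FF4_helper2
import Groth.Agent.Lib.Exist2_helper2
import Groth.Agent.Lib.FormalFn4_helper2
import Groth.Agent.Lib.ConsMod1_helper2

/-!
# Grothendieck existence, push–pull step: formal functions on sections (helper2)

* `Jsub I k M V` : the subgroup `I^k Γ(M, V)`;
* formal functions in degree zero for completion data `IsComplOf I M H τ` on a scheme proper over a Noetherian ring
  (`exists_ker_bound`, `exists_range_bound`), and over a complete ring (`eq_zero_of_forall_app_eq_zero`,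
  `exists_section_of_compatible_compl`);
* the same over an open of `X` which is proper over an affine scheme (`exists_ker_bound_open`,
  `exists_range_bound_open`).
APPEND-ONLY once landed.
-/

set_option autoImplicit false
set_option backward.isDefEq.respectTransparency false
set_option linter.style.haveILetI false
set_option linter.unusedSectionVars false
universe u
open CategoryTheory CategoryTheory.Limits AlgebraicGeometry TopologicalSpace Opposite

namespace Groth.Agent.Lib.GExH2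

open Formal Groth.Agent.Lib.FormalModPowH4 Groth.Agent.Lib.FormalFnH2 Groth.Agent.Lib.FibAmpH2
  Groth.Agent.Lib.FlatBCH2 Groth.Agent.Lib.FibVanH2 Groth.Agent.Lib.FormalQuotH2
  Groth.Agent.Lib.AdicSysH2 Groth.Agent.Lib.LimTruncH2 QcqsLoc

section JsubDef

variable {R : Type u} [CommRing R] (I : Ideal R) {Z : Scheme.{u}}
  [Z.Over (Spec (CommRingCat.of R))]

/-- the subgroup `I^k Γ(M, V)` of sections -/
noncomputable def Jsub (k : ℕ) (M : Z.Modules) (V : Z.Opens) : AddSubgroup Γ(M, V) :=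
  AddSubgroup.closure {y | ∃ a ∈ I ^ k, ∃ x : Γ(M, V), y = (Formal.smulMod R M a).app V x}

theorem app_eq_zero_of_mem_Jsub {k : ℕ} {M N : Z.Modules} (ψ : M ⟶ N)
    (hψ : ∀ a ∈ I ^ k, Formal.smulMod R M a ≫ ψ = 0) (V : Z.Opens) (y : Γ(M, V))
    (hy : y ∈ Jsub I k M V) : ψ.app V y = 0 := by
  refine AddSubgroup.closure_induction (p := fun y _ => ψ.app V y = 0) ?_ ?_ ?_ ?_ hy
  · rintro _ ⟨a, ha, x, rfl⟩
    rw [← comp_app', hψ a ha, zero_app']
  · exact app_zero' ψ V
  · intro y z _ _ hy hz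
    rw [app_add', hy, hz, add_zero]
  · intro y _ hy
    have h1 : ψ.app V (-y) = -(ψ.app V y) := map_neg (ψ.app V).hom y
    rw [h1, hy, neg_zero]

theorem cUV_zero' {X Y : Scheme.{u}} (f : X ⟶ Y) (F : Y.Modules) {U : X.Opens} {V : Y.Opens}
    (h : U ≤ f ⁻¹ᵁ V) : PBH8.cUV f F h 0 = 0 := by
  have h1 := PBH8.cUV_add f F h 0 0
  rw [add_zero] at h1
  exact left_eq_add.mp h1

end JsubDef

section JsubMap

variable {R R' : Type u} [CommRing R] [CommRing R'] (φ : R →+* R') {Z : Scheme.{u}}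
  [Z.Over (Spec (CommRingCat.of R))] [Z.Over (Spec (CommRingCat.of R'))]
  (hZ : (Z ↘ Spec (CommRingCat.of R)) =
    (Z ↘ Spec (CommRingCat.of R')) ≫ Spec.map (CommRingCat.ofHom φ))

include hZ in
theorem Jsub_map_le (I : Ideal R) (k : ℕ) (M : Z.Modules) (V : Z.Opens) :
    Jsub (I.map φ) k M V ≤ Jsub I k M V := by
  have key : ∀ b ∈ (I ^ k).map φ, ∀ x : Γ(M, V),
      (Formal.smulMod R' M b).app V x ∈ Jsub I k M V := by
    intro b hb
    refine Submodule.span_induction (p := fun b _ => ∀ x : Γ(M, V),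
      (Formal.smulMod R' M b).app V x ∈ Jsub I k M V) ?_ ?_ ?_ ?_ hb
    · rintro _ ⟨a, ha, rfl⟩ x
      rw [← smulMod_map φ hZ]
      exact AddSubgroup.subset_closure ⟨a, ha, x, rfl⟩
    · intro x
      show rU (X := Z) (0 : R') V • x ∈ _
      rw [rU_zero, zero_smul]
      exact zero_mem _
    · intro b b' _ _ hb hb' x
      show rU (X := Z) (b + b') V • x ∈ _
      rw [rU_add, add_smul]
      exact add_mem (hb x) (hb' x)
    · intro r b _ hb x
      show rU (X := Z) (r • b) V • x ∈ _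
      rw [smul_eq_mul, mul_comm, rU_mul, mul_smul]
      exact hb (rU (X := Z) r V • x)
  unfold Jsub
  rw [AddSubgroup.closure_le]
  rintro _ ⟨b, hb, x, rfl⟩
  rw [← Ideal.map_pow] at hb
  exact key b hb x

end JsubMap

section JsubPull

variable {A : Type u} [CommRing A] {X Z : Scheme.{u}} [X.Over (Spec (CommRingCat.of A))]
  [Z.Over (Spec (CommRingCat.of A))] (g : Z ⟶ X)
  (hg : g ≫ (X ↘ Spec (CommRingCat.of A)) = (Z ↘ Spec (CommRingCat.of A)))

include hg in
theorem mem_Jsub_of_cUV_mem (I : Ideal A) (k : ℕ) (M : X.Modules) {V' : Z.Opens} {U : X.Opens}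
    (h : V' ≤ g ⁻¹ᵁ U) (hbij : Function.Bijective (PBH8.cUV g M h)) (e : Γ(M, U))
    (he : PBH8.cUV g M h e ∈ Jsub I k ((Scheme.Modules.pullback g).obj M) V') :
    e ∈ Jsub I k M U := by
  have key : ∀ m ∈ Jsub I k ((Scheme.Modules.pullback g).obj M) V', ∀ e : Γ(M, U),
      PBH8.cUV g M h e = m → e ∈ Jsub I k M U := by
    intro m hm
    refine AddSubgroup.closure_induction (p := fun m _ => ∀ e : Γ(M, U),
      PBH8.cUV g M h e = m → e ∈ Jsub I k M U) ?_ ?_ ?_ ?_ hm
    · rintro _ ⟨a, ha, x', rfl⟩ e he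
      obtain ⟨x₀, rfl⟩ := hbij.2 x'
      have h1 : (Formal.smulMod A ((Scheme.Modules.pullback g).obj M) a).app V'
          (PBH8.cUV g M h x₀) = PBH8.cUV g M h ((Formal.smulMod A M a).app U x₀) := by
        rw [← Groth.Agent.Lib.ThickH2.pull_smulMod' g hg, PBH8.cUV_naturality]
      rw [h1] at he
      rw [hbij.1 he]
      exact AddSubgroup.subset_closure ⟨a, ha, x₀, rfl⟩
    · intro e he
      have h0 : e = 0 := hbij.1 (he.trans (cUV_zero' g M h).symm)
      rw [h0]
      exact zero_mem _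
    · intro m₁ m₂ _ _ ih₁ ih₂ e he
      obtain ⟨e₁, rfl⟩ := hbij.2 m₁
      obtain ⟨e₂, rfl⟩ := hbij.2 m₂
      have h0 : e = e₁ + e₂ := hbij.1 (he.trans (PBH8.cUV_add g M h e₁ e₂).symm)
      rw [h0]
      exact add_mem (ih₁ e₁ rfl) (ih₂ e₂ rfl)
    · intro m _ ih e he
      obtain ⟨e₁, rfl⟩ := hbij.2 m
      have hneg : PBH8.cUV g M h (-e₁) = -PBH8.cUV g M h e₁ := by
        have h0 := PBH8.cUV_add g M h (-e₁) e₁
        rw [neg_add_cancel, cUV_zero'] at h0
        exact eq_neg_of_add_eq_zero_left h0.symm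
      have h0 : e = -e₁ := hbij.1 (he.trans hneg.symm)
      rw [h0]
      exact neg_mem (ih e₁ rfl)
  exact key _ he e rfl

end JsubPull

section FFsec

variable {R : Type u} [CommRing R] [IsNoetherianRing R] {I : Ideal R} {Z : Scheme.{u}}
  [Z.Over (Spec (CommRingCat.of R))] [IsProper (Z ↘ Spec (CommRingCat.of R))]
  {M : Z.Modules} (hM : Coh.IsCoh M) {H : ℕᵒᵖ ⥤ Z.Modules} {τ : ∀ n, M ⟶ Gn H n}
  (hc : IsComplOf I M H τ)

omit [IsNoetherianRing R] [IsProper (Z ↘ Spec (CommRingCat.of R))] in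
include hc in
/-- the comparison isomorphism of a completion datum, with opaque components -/
theorem IsComplOf.exists_iso' :
    ∃ (b : ∀ n, Formal.modPow I (n + 1) M ⟶ Gn H n)
      (b' : ∀ n, Gn H n ⟶ Formal.modPow I (n + 1) M)
      (tr : ∀ (n k : ℕ), n ≤ k → (Formal.modPow I (k + 1) M ⟶ Formal.modPow I (n + 1) M)),
      (∀ n, b n ≫ b' n = 𝟙 _) ∧ (∀ n, b' n ≫ b n = 𝟙 _) ∧
      (∀ n, Formal.modPowπ I (n + 1) M ≫ b n = τ n) ∧
      (∀ (n k : ℕ) (hnk : n ≤ k), tr n k hnk ≫ b n = b k ≫ gm H hnk) ∧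
      (∀ (n k : ℕ) (hnk : n ≤ k), tr n k hnk = (Formal.completion I M).map (homOfLE hnk).op) ∧
      (∀ n, tr n (n + 1) (Nat.le_succ n) = Formal.modPowTrans I (n + 1) M) := by
  obtain ⟨β, hβ⟩ := hc.exists_iso
  exact ⟨fun n => β.hom.app (op n), fun n => β.inv.app (op n),
    fun n k hnk => (Formal.completion I M).map (homOfLE hnk).op,
    fun n => β.hom_inv_id_app (op n), fun n => β.inv_hom_id_app (op n), hβ,
    fun n k hnk => β.hom.naturality _, fun _ _ _ => rfl,
    fun n => Groth.Agent.Lib.AlgzExtH2.completion_map_succ I M n⟩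

include hM hc in
/-- formal functions, part (1), in degree zero, for a completion datum -/
theorem exists_ker_bound :
    ∃ c : ℕ, ∀ (n : ℕ) (e : Γ(M, ⊤)), (τ (n + c)).app ⊤ e = 0 → e ∈ Jsub I (n + 1) M ⊤ := by
  obtain ⟨b, b', tr, hbb', hb'b, hbπ, hbnat, htr, htr1⟩ := hc.exists_iso'
  obtain ⟨c₀, hc₀⟩ := main0057 R I Z M hM 0
  refine ⟨c₀ + 1, fun n e he => ?_⟩
  have h1 : (Formal.modPowπ I (n + (c₀ + 1) + 1) M).app ⊤ e = 0 := by
    have h2 : (b (n + (c₀ + 1))).app ⊤ ((Formal.modPowπ I (n + (c₀ + 1) + 1) M).app ⊤ e) = 0 := by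
      rw [← comp_app', hbπ]
      exact he
    have h3 := congrArg (fun y => (b' (n + (c₀ + 1))).app ⊤ y) h2
    simp only at h3
    rw [← comp_app', hbb', app_zero'] at h3
    exact h3
  have h4 : Formal.toHHmodPow I M 0 (n + (c₀ + 1)) ((h0Add M).symm e) = 0 := by
    show Groth.Agent.HHVan.hmap (Formal.modPowπ I (n + (c₀ + 1) + 1) M) 0 ((h0Add M).symm e) = 0
    rw [h0Add_symm_hmap, h1, map_zero]
  have h5 := hc₀ (n + (c₀ + 1)) (by omega) (AddMonoidHom.mem_ker.mpr h4)
  have h6 : n + (c₀ + 1) - c₀ = n + 1 := by omega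
  rw [h6] at h5
  have key : ∀ x ∈ (I ^ (n + 1) • (⊤ : Submodule R (Coh.HH Z M 0))),
      h0Add M x ∈ Jsub I (n + 1) M ⊤ := by
    intro x hx
    refine Submodule.smul_induction_on hx (fun a ha y _ => ?_) (fun y z hy hz => ?_)
    · rw [h0Add_smul]
      exact AddSubgroup.subset_closure ⟨a, ha, h0Add M y, rfl⟩
    · rw [map_add]
      exact add_mem hy hz
  have h7 := key _ h5
  rwa [AddEquiv.apply_symm_apply] at h7

include hM hc in
/-- formal functions, part (3), in degree zero, for a completion datum -/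
theorem exists_range_bound :
    ∃ c : ℕ, ∀ (n k : ℕ) (h : n ≤ k), n + c ≤ k → ∀ y : Γ(Gn H k, ⊤),
      ∃ e : Γ(M, ⊤), (τ n).app ⊤ e = (gm H h).app ⊤ y := by
  obtain ⟨b, b', tr, hbb', hb'b, hbπ, hbnat, htr, htr1⟩ := hc.exists_iso'
  obtain ⟨c, hc'⟩ := main0058 R I Z M hM 0
  refine ⟨c, fun n k h hk y => ?_⟩
  have h1 : Groth.Agent.HHVan.hmap (tr n k h) 0
      ((h0Add (Formal.modPow I (k + 1) M)).symm ((b' k).app ⊤ y)) ∈
      Set.range (Formal.toHHmodPow I M 0 n) := by
    rw [htr n k h]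
    exact (Set.ext_iff.mp (hc' n k h hk) _).mp (Set.mem_range_self _)
  obtain ⟨x, hx⟩ := h1
  refine ⟨h0Add M x, ?_⟩
  have h2 := congrArg (h0Add (Formal.modPow I (n + 1) M)) hx
  have h3 : h0Add (Formal.modPow I (n + 1) M) (Formal.toHHmodPow I M 0 n x) =
      (Formal.modPowπ I (n + 1) M).app ⊤ (h0Add M x) :=
    h0Add_hmap (Formal.modPowπ I (n + 1) M) x
  rw [h3, h0Add_hmap, AddEquiv.apply_symm_apply] at h2
  rw [← hbπ n, comp_app', h2, ← comp_app', hbnat, comp_app', ← comp_app' (b' k), hb'b]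
  rfl

include hM hc in
theorem eq_zero_of_forall_app_eq_zero [IsAdicComplete I R] (e : Γ(M, ⊤))
    (he : ∀ n, (τ n).app ⊤ e = 0) : e = 0 := by
  obtain ⟨b, b', tr, hbb', hb'b, hbπ, hbnat, htr, htr1⟩ := hc.exists_iso'
  refine Groth.Agent.Lib.FormalFFH2.section_eq_zero_of_forall R I Z M hM e (fun n => ?_)
  have h2 : (b n).app ⊤ ((Formal.modPowπ I (n + 1) M).app ⊤ e) = 0 := by
    rw [← comp_app', hbπ]
    exact he n
  have h3 := congrArg (fun y => (b' n).app ⊤ y) h2
  simp only at h3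
  rw [← comp_app', hbb', app_zero'] at h3
  exact h3

include hM hc in
theorem exists_section_of_compatible_compl [IsAdicComplete I R] (z : ∀ n, Γ(Gn H n, ⊤))
    (hz : ∀ n, (tG H n).app ⊤ (z (n + 1)) = z n) :
    ∃ e : Γ(M, ⊤), ∀ n, (τ n).app ⊤ e = z n := by
  obtain ⟨b, b', tr, hbb', hb'b, hbπ, hbnat, htr, htr1⟩ := hc.exists_iso'
  have hnat' : ∀ n, tG H n ≫ b' n = b' (n + 1) ≫ Formal.modPowTrans I (n + 1) M := by
    intro n
    have h1 := hbnat n (n + 1) (Nat.le_succ n)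
    rw [htr1] at h1
    have h2 : gm H (Nat.le_succ n) = tG H n := rfl
    rw [h2] at h1
    calc tG H n ≫ b' n = (b' (n + 1) ≫ b (n + 1)) ≫ tG H n ≫ b' n := by
          rw [hb'b, Category.id_comp]
      _ = b' (n + 1) ≫ (Formal.modPowTrans I (n + 1) M ≫ b n) ≫ b' n := by
          rw [h1]; simp only [Category.assoc]
      _ = b' (n + 1) ≫ Formal.modPowTrans I (n + 1) M := by
          rw [Category.assoc, hbb', Category.comp_id]
  have hz' : ∀ n, (Formal.modPowTrans I (n + 1) M).app ⊤ ((b' (n + 1)).app ⊤ (z (n + 1))) =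
      (b' n).app ⊤ (z n) := by
    intro n
    rw [← comp_app', ← hnat', comp_app', hz n]
  obtain ⟨e, he⟩ := exists_section_of_compatible R I Z M hM
    (fun n => (b' n).app ⊤ (z n)) hz'
  refine ⟨e, fun n => ?_⟩
  rw [← hbπ n, comp_app', he n, ← comp_app', hb'b]
  rfl

end FFsec

section FFopen

variable {A : Type u} [CommRing A] (J : Ideal A) {X : Scheme.{u}}
  [X.Over (Spec (CommRingCat.of A))]
  {B : Type u} [CommRing B] [IsNoetherianRing B] (φ : A →+* B)
  {Z : Scheme.{u}} [Z.Over (Spec (CommRingCat.of A))] [Z.Over (Spec (CommRingCat.of B))]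
  [IsProper (Z ↘ Spec (CommRingCat.of B))]
  (hZ : (Z ↘ Spec (CommRingCat.of A)) =
    (Z ↘ Spec (CommRingCat.of B)) ≫ Spec.map (CommRingCat.ofHom φ))
  (ι : Z ⟶ X) [IsOpenImmersion ι]
  (hι : ι ≫ (X ↘ Spec (CommRingCat.of A)) = (Z ↘ Spec (CommRingCat.of A)))
  {U : X.Opens} (hU : ι ''ᵁ ⊤ = U) {F : X.Modules} (hF : Coh.IsCoh F)

include hU in
theorem top_le_preimage_of_image_eq : (⊤ : Z.Opens) ≤ ι ⁻¹ᵁ U := by
  rw [← hU, ι.preimage_image_eq]

include hZ hι hU hF in
/-- formal functions (1) over an open of `X` proper over an affine scheme -/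
theorem exists_ker_bound_open :
    ∃ c : ℕ, ∀ (n : ℕ) (e : Γ(F, U)), (Formal.modPowπ J (n + c + 1) F).app U e = 0 →
      e ∈ Jsub J (n + 1) F U := by
  have hle := top_le_preimage_of_image_eq ι hU
  have hM : Coh.IsCoh ((Scheme.Modules.pullback ι).obj F) :=
    Groth.Agent.Lib.ConsModH2.isCoh_pullback ι F hF
  have hc1 := (isComplOf_completion J F).pullback ι hι
  have hc2 := isComplOf_map φ hZ hc1
  obtain ⟨c, hc⟩ := exists_ker_bound hM hc2
  refine ⟨c, fun n e he => ?_⟩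
  have hbij := cUV_bijective_of_isOpenImmersion ι F hle hU
  have h1 : ((Scheme.Modules.pullback ι).map (Formal.modPowπ J (n + c + 1) F)).app ⊤
      (PBH8.cUV ι F hle e) = 0 := by
    rw [PBH8.cUV_naturality, he, cUV_zero']
  have h2 := hc n _ h1
  have h3 := Jsub_map_le φ hZ J (n + 1) _ ⊤ h2
  exact mem_Jsub_of_cUV_mem ι hι J (n + 1) F hle hbij e h3

include hZ hι hU hF in
/-- formal functions (3) over an open of `X` proper over an affine scheme -/
theorem exists_range_bound_open :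
    ∃ c : ℕ, ∀ (n k : ℕ) (h : n ≤ k), n + c ≤ k →
      ∀ y : Γ(Gn (Formal.completion J F) k, U),
        ∃ e : Γ(F, U), (Formal.modPowπ J (n + 1) F).app U e =
          (gm (Formal.completion J F) h).app U y := by
  have hle := top_le_preimage_of_image_eq ι hU
  have hM : Coh.IsCoh ((Scheme.Modules.pullback ι).obj F) :=
    Groth.Agent.Lib.ConsModH2.isCoh_pullback ι F hF
  have hc1 := (isComplOf_completion J F).pullback ι hι
  have hc2 := isComplOf_map φ hZ hc1
  obtain ⟨c, hc⟩ := exists_range_bound hM hc2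
  refine ⟨c, fun n k h hk y => ?_⟩
  have hbF := cUV_bijective_of_isOpenImmersion ι F hle hU
  have hbn := cUV_bijective_of_isOpenImmersion ι (Gn (Formal.completion J F) n) hle hU
  obtain ⟨e', he'⟩ := hc n k h hk (PBH8.cUV ι (Gn (Formal.completion J F) k) hle y)
  obtain ⟨e, rfl⟩ := hbF.2 e'
  refine ⟨e, hbn.1 ?_⟩
  have h1 : ((Scheme.Modules.pullback ι).map (Formal.modPowπ J (n + 1) F)).app ⊤
      (PBH8.cUV ι F hle e) =
      PBH8.cUV ι (Gn (Formal.completion J F) n) hle ((Formal.modPowπ J (n + 1) F).app U e) :=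
    PBH8.cUV_naturality ι (Formal.modPowπ J (n + 1) F) hle e
  have h2 : ((Scheme.Modules.pullback ι).map (gm (Formal.completion J F) h)).app ⊤
      (PBH8.cUV ι (Gn (Formal.completion J F) k) hle y) =
      PBH8.cUV ι (Gn (Formal.completion J F) n) hle ((gm (Formal.completion J F) h).app U y) :=
    PBH8.cUV_naturality ι (gm (Formal.completion J F) h) hle y
  rw [← h1, ← h2]
  exact he'

end FFopen

end Groth.Agent.Lib.GExH2
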