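import Mathlib
import Groth.Prelude
import Groth.Agent.Lib.GEx09_helper2
import Groth.Agent.Lib.RpushCoh1_helper9
import Groth.Agent.Lib.RpushRestrict_helper9

/-!
# Grothendieck existence, push–pull step: the comparison map (helper2)

For `f : X ⟶ Y` proper over `Spec A`, `Y` Noetherian, `F` coherent on `X`, `E = f_* F`:
* `isCoh_pushforward`, `exists_chart` (the affine chart over an affine open `W` of `Y`);
* `exists_delta` : the comparison `δ : Ê ⟶ f_* F̂`; `exists_gamma` : `γ : G ⟶ f_* F̂` from
  `β : f^* G ≅ F̂`;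
* `exists_ker_bound_push`, `exists_range_bound_push` : formal functions for `δ` on sections over affine opens;
* `isARIso_delta`, `exists_alpha`.
APPEND-ONLY once landed.
-/

set_option autoImplicit false
set_option backward.isDefEq.respectTransparency false
set_option linter.style.haveILetI false
set_option linter.unusedSectionVars false
universe u
open CategoryTheory CategoryTheory.Limits AlgebraicGeometry TopologicalSpace Opposite

namespace Groth.Agent.Lib.GExH2

open Formal Groth.Agent.Lib.FormalModPowH4 Groth.Agent.Lib.FormalFnH2 Groth.Agent.Lib.FibAmpH2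
  Groth.Agent.Lib.FlatBCH2 Groth.Agent.Lib.FibVanH2 Groth.Agent.Lib.FormalQuotH2
  Groth.Agent.Lib.AdicSysH2 Groth.Agent.Lib.LimTruncH2 QcqsLoc

section PushCoh

theorem isCoh_pushforward {X Y : Scheme.{u}} (f : X ⟶ Y) [IsProper f] [IsLocallyNoetherian Y]
    {F : X.Modules} (hF : Coh.IsCoh F) : Coh.IsCoh ((Scheme.Modules.pushforward f).obj F) := by
  haveI : EnoughInjectives X.Modules := RpushQC.enoughInjectives_modules X
  haveI : HasInjectiveResolutions X.Modules := inferInstance
  exact CohDevH8.isCoh_of_iso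
    ((Functor.rightDerivedZeroIsoSelf (Scheme.Modules.pushforward f)).app F).symm
    (RpushQC.isCoh_Rpush f F 0 hF)

theorem isQuasicoherent_cokernel_app {X : Scheme.{u}} {F G : ℕᵒᵖ ⥤ X.Modules} (f : F ⟶ G) (n : ℕ)
    [(Gn F n).IsQuasicoherent] [(Gn G n).IsQuasicoherent] :
    ((cokernel f).obj (op n)).IsQuasicoherent := by
  have e : (cokernel f).obj (op n) ≅ cokernel (f.app (op n)) :=
    PreservesCokernel.iso ((evaluation ℕᵒᵖ X.Modules).obj (op n)) f
  haveI : (cokernel (f.app (op n))).IsQuasicoherent :=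
    Groth.Agent.Lib.BModH6.isQuasicoherent_cokernel _
  exact CohOpenH8.isQuasicoherent_of_iso e

end PushCoh

section Chart

variable {A : Type u} [CommRing A] {X Y : Scheme.{u}} [X.Over (Spec (CommRingCat.of A))]
  [Y.Over (Spec (CommRingCat.of A))]

theorem fromSpec_comp_over {W : Y.Opens} (hW : IsAffineOpen W) :
    hW.fromSpec ≫ (Y ↘ Spec (CommRingCat.of A)) =
      Spec.map (CommRingCat.ofHom (rUHom (A := A) W)) := by
  have h1 := IsAffineOpen.SpecMap_appLE_fromSpec (Y ↘ Spec (CommRingCat.of A))
    (isAffineOpen_top _) hW le_top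
  rw [← h1, IsAffineOpen.fromSpec_top, Scheme.isoSpec_Spec_inv, ← Spec.map_comp,
    ofHom_rUHom W le_top]

/-- the chart of `f` over an affine open `W` of the target -/
theorem exists_chart (f : X ⟶ Y) [IsProper f]
    (hf : f ≫ (Y ↘ Spec (CommRingCat.of A)) = X ↘ Spec (CommRingCat.of A))
    {W : Y.Opens} (hW : IsAffineOpen W) :
    ∃ (Z : Scheme.{u}) (ι : Z ⟶ X) (p : Z ⟶ Spec (CommRingCat.of Γ(Y, W)))
      (_ : IsOpenImmersion ι), IsProper p ∧ ι ''ᵁ ⊤ = f ⁻¹ᵁ W ∧
      ι ≫ (X ↘ Spec (CommRingCat.of A)) =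
        p ≫ Spec.map (CommRingCat.ofHom (rUHom (A := A) W)) ∧
      IsPullback ι p f hW.fromSpec := by
  refine ⟨pullback f hW.fromSpec, pullback.fst f hW.fromSpec, pullback.snd f hW.fromSpec,
    inferInstance, inferInstance, ?_, ?_, IsPullback.of_hasPullback f hW.fromSpec⟩
  · apply TopologicalSpace.Opens.ext
    rw [Scheme.Hom.image_top_eq_opensRange]
    show Set.range (pullback.fst f hW.fromSpec) = f ⁻¹' (W : Set Y)
    rw [Scheme.Pullback.range_fst, hW.range_fromSpec]
  · rw [← hf, ← Category.assoc, pullback.condition, Category.assoc, fromSpec_comp_over hW]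

end Chart

section Delta

variable {A : Type u} [CommRing A] (J : Ideal A) {X Y : Scheme.{u}}
  [X.Over (Spec (CommRingCat.of A))] [Y.Over (Spec (CommRingCat.of A))]
  (f : X ⟶ Y) (hf : f ≫ (Y ↘ Spec (CommRingCat.of A)) = X ↘ Spec (CommRingCat.of A))

include hf in
/-- the comparison map from the completion of `f_* F` to the pushforward of the completion of `F` -/
theorem exists_delta (F : X.Modules) :
    ∃ δ : Formal.completion J ((Scheme.Modules.pushforward f).obj F) ⟶
        Formal.completion J F ⋙ Scheme.Modules.pushforward f,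
      ∀ n, Formal.modPowπ J (n + 1) ((Scheme.Modules.pushforward f).obj F) ≫ δ.app (op n) =
        (Scheme.Modules.pushforward f).map (Formal.modPowπ J (n + 1) F) := by
  refine (isComplOf_completion J ((Scheme.Modules.pushforward f).obj F)).exists_desc
    (Formal.completion J F ⋙ Scheme.Modules.pushforward f) (fun n => ?_)
    (fun n => (Scheme.Modules.pushforward f).map (Formal.modPowπ J (n + 1) F)) (fun n => ?_)
  · exact Groth.Agent.Lib.ThickH2.killedBy_pushforward f hf _ _
      ((isComplOf_completion J F).killed n)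
  · show (Scheme.Modules.pushforward f).map (Formal.modPowπ J (n + 1 + 1) F) ≫
      (Scheme.Modules.pushforward f).map (tG (Formal.completion J F) n) = _
    rw [← Functor.map_comp]
    exact congrArg (fun t => (Scheme.Modules.pushforward f).map t)
      ((isComplOf_completion J F).comp n)

/-- the map `G ⟶ f_* F̂` adjoint to `f^* G ≅ F̂` -/
theorem exists_gamma (G : ℕᵒᵖ ⥤ Y.Modules) (F : X.Modules)
    (β : (G ⋙ Scheme.Modules.pullback f) ≅ Formal.completion J F) :
    ∃ γ : G ⟶ Formal.completion J F ⋙ Scheme.Modules.pushforward f,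
      ∀ n, γ.app (op n) =
        (Scheme.Modules.pullbackPushforwardAdjunction f).unit.app (Gn G n) ≫
          (Scheme.Modules.pushforward f).map (β.hom.app (op n)) := by
  refine ⟨{ app := fun k => (Scheme.Modules.pullbackPushforwardAdjunction f).unit.app (G.obj k) ≫
              (Scheme.Modules.pushforward f).map (β.hom.app k)
            naturality := fun k l φ => ?_ }, fun n => rfl⟩
  have h1 : G.map φ ≫ (Scheme.Modules.pullbackPushforwardAdjunction f).unit.app (G.obj l) =
      (Scheme.Modules.pullbackPushforwardAdjunction f).unit.app (G.obj k) ≫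
        (Scheme.Modules.pushforward f).map ((Scheme.Modules.pullback f).map (G.map φ)) :=
    (Scheme.Modules.pullbackPushforwardAdjunction f).unit.naturality (G.map φ)
  have h2 : (Scheme.Modules.pullback f).map (G.map φ) ≫ β.hom.app l =
      β.hom.app k ≫ (Formal.completion J F).map φ := β.hom.naturality φ
  show G.map φ ≫ (Scheme.Modules.pullbackPushforwardAdjunction f).unit.app (G.obj l) ≫
      (Scheme.Modules.pushforward f).map (β.hom.app l) =
    ((Scheme.Modules.pullbackPushforwardAdjunction f).unit.app (G.obj k) ≫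
      (Scheme.Modules.pushforward f).map (β.hom.app k)) ≫
      (Scheme.Modules.pushforward f).map ((Formal.completion J F).map φ)
  rw [← Category.assoc, h1, Category.assoc, ← Functor.map_comp, h2, Functor.map_comp,
    Category.assoc]

include hf in
theorem app_modPowπ_push_eq_zero (k : ℕ) (F : X.Modules) (W : Y.Opens) (e : Γ(F, f ⁻¹ᵁ W))
    (he : e ∈ Jsub J k F (f ⁻¹ᵁ W)) :
    (Formal.modPowπ J k ((Scheme.Modules.pushforward f).obj F)).app W
      (show Γ((Scheme.Modules.pushforward f).obj F, W) from e) = 0 := by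
  refine AddSubgroup.closure_induction (p := fun e _ =>
    (Formal.modPowπ J k ((Scheme.Modules.pushforward f).obj F)).app W
      (show Γ((Scheme.Modules.pushforward f).obj F, W) from e) = 0) ?_ ?_ ?_ ?_ he
  · rintro _ ⟨a, ha, x, rfl⟩
    have h1 : (Formal.smulMod A F a).app (f ⁻¹ᵁ W) x =
        (Formal.smulMod A ((Scheme.Modules.pushforward f).obj F) a).app W
          (show Γ((Scheme.Modules.pushforward f).obj F, W) from x) := by
      rw [← Groth.Agent.Lib.ThickH2.push_smulMod' f hf]
      rfl
    show (Formal.modPowπ J k ((Scheme.Modules.pushforward f).obj F)).app W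
      ((Formal.smulMod A F a).app (f ⁻¹ᵁ W) x) = 0
    rw [h1, ← comp_app', smulMod_modPowπ _ J k ha, zero_app']
  · exact app_zero' _ W
  · intro y z _ _ hy hz
    have h1 := app_add' (Formal.modPowπ J k ((Scheme.Modules.pushforward f).obj F)) W
      (show Γ((Scheme.Modules.pushforward f).obj F, W) from y)
      (show Γ((Scheme.Modules.pushforward f).obj F, W) from z)
    refine h1.trans ?_
    rw [hy, hz, add_zero]
  · intro y _ hy
    have h1 : (Formal.modPowπ J k ((Scheme.Modules.pushforward f).obj F)).app W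
        (-(show Γ((Scheme.Modules.pushforward f).obj F, W) from y)) =
        -((Formal.modPowπ J k ((Scheme.Modules.pushforward f).obj F)).app W
          (show Γ((Scheme.Modules.pushforward f).obj F, W) from y)) :=
      map_neg ((Formal.modPowπ J k ((Scheme.Modules.pushforward f).obj F)).app W).hom _
    refine h1.trans ?_
    rw [hy, neg_zero]

end Delta

section Bounds

variable {A : Type u} [CommRing A] (J : Ideal A) {X Y : Scheme.{u}}
  [X.Over (Spec (CommRingCat.of A))] [Y.Over (Spec (CommRingCat.of A))]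
  [AlgebraicGeometry.IsNoetherian Y]
  (f : X ⟶ Y) [IsProper f]
  (hf : f ≫ (Y ↘ Spec (CommRingCat.of A)) = X ↘ Spec (CommRingCat.of A))
  {F : X.Modules} (hF : Coh.IsCoh F)
  (δ : Formal.completion J ((Scheme.Modules.pushforward f).obj F) ⟶
        Formal.completion J F ⋙ Scheme.Modules.pushforward f)
  (hδ : ∀ n, Formal.modPowπ J (n + 1) ((Scheme.Modules.pushforward f).obj F) ≫ δ.app (op n) =
        (Scheme.Modules.pushforward f).map (Formal.modPowπ J (n + 1) F))

include hf hF hδ in
/-- formal functions (1) for `δ`, on sections over an affine open -/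
theorem exists_ker_bound_push {W : Y.Opens} (hW : IsAffineOpen W) :
    ∃ c : ℕ, ∀ (n : ℕ)
      (z : Γ(Gn (Formal.completion J ((Scheme.Modules.pushforward f).obj F)) (n + c), W)),
      (δ.app (op (n + c))).app W z = 0 →
      (gm (Formal.completion J ((Scheme.Modules.pushforward f).obj F))
        (Nat.le_add_right n c)).app W z = 0 := by
  obtain ⟨Z, ι, p, hι, hp, hU, hcomm, -⟩ := exists_chart f hf hW
  haveI := hι
  letI oA : Z.Over (Spec (CommRingCat.of A)) := ⟨ι ≫ (X ↘ Spec (CommRingCat.of A))⟩
  letI oB : Z.Over (Spec (CommRingCat.of Γ(Y, W))) := ⟨p⟩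
  haveI : IsProper (Z ↘ Spec (CommRingCat.of Γ(Y, W))) := hp
  haveI : IsNoetherianRing Γ(Y, W) := IsLocallyNoetherian.component_noetherian ⟨W, hW⟩
  obtain ⟨c, hc⟩ := exists_ker_bound_open J (rUHom (A := A) W) (Z := Z) hcomm ι rfl hU hF
  have hE := isCoh_pushforward f hF
  haveI := hE.1
  obtain ⟨πE, hπE⟩ : ∃ πE : ∀ n, (Scheme.Modules.pushforward f).obj F ⟶
      Gn (Formal.completion J ((Scheme.Modules.pushforward f).obj F)) n,
      πE = fun n => Formal.modPowπ J (n + 1) ((Scheme.Modules.pushforward f).obj F) := ⟨_, rfl⟩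
  obtain ⟨πF, hπF⟩ : ∃ πF : ∀ n, F ⟶ Gn (Formal.completion J F) n,
      πF = fun n => Formal.modPowπ J (n + 1) F := ⟨_, rfl⟩
  have hcE : IsComplOf J ((Scheme.Modules.pushforward f).obj F)
      (Formal.completion J ((Scheme.Modules.pushforward f).obj F)) πE := by
    rw [hπE]
    exact isComplOf_completion J _
  have hδ' : ∀ n, πE n ≫ δ.app (op n) = (Scheme.Modules.pushforward f).map (πF n) := by
    intro n
    rw [hπE, hπF]
    exact hδ n
  have hc' : ∀ (n : ℕ) (e : Γ(F, f ⁻¹ᵁ W)), (πF (n + c)).app (f ⁻¹ᵁ W) e = 0 →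
      e ∈ Jsub J (n + 1) F (f ⁻¹ᵁ W) := by
    rw [hπF]
    exact hc
  have h4' : ∀ (n : ℕ) (e : Γ(F, f ⁻¹ᵁ W)), e ∈ Jsub J (n + 1) F (f ⁻¹ᵁ W) →
      (πE n).app W (show Γ((Scheme.Modules.pushforward f).obj F, W) from e) = 0 := by
    rw [hπE]
    intro n e he
    exact app_modPowπ_push_eq_zero J f hf (n + 1) F W e he
  refine ⟨c, fun n z hz => ?_⟩
  obtain ⟨e, he⟩ := hcE.sl_surjective (n + c) hW z
  have he' : (πE (n + c)).app W e = z := he
  have h1 : (πF (n + c)).app (f ⁻¹ᵁ W) (show Γ(F, f ⁻¹ᵁ W) from e) = 0 := by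
    have h2 := congrArg (fun ψ => ψ.app W e) (hδ' (n + c))
    simp only at h2
    rw [comp_app', he', hz] at h2
    exact h2.symm
  have h3 := hc' n _ h1
  have h4 := h4' n _ h3
  rw [← he', ← comp_app', hcE.comp_le (Nat.le_add_right n c)]
  exact h4

include hf hF hδ in
/-- formal functions (3) for `δ`, on sections over an affine open -/
theorem exists_range_bound_push {W : Y.Opens} (hW : IsAffineOpen W) :
    ∃ c : ℕ, ∀ (n : ℕ) (y : Γ(Gn (Formal.completion J F) (n + c), f ⁻¹ᵁ W)),
      ∃ z : Γ(Gn (Formal.completion J ((Scheme.Modules.pushforward f).obj F)) n, W),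
        (δ.app (op n)).app W z =
          (gm (Formal.completion J F) (Nat.le_add_right n c)).app (f ⁻¹ᵁ W) y := by
  obtain ⟨Z, ι, p, hι, hp, hU, hcomm, -⟩ := exists_chart f hf hW
  haveI := hι
  letI oA : Z.Over (Spec (CommRingCat.of A)) := ⟨ι ≫ (X ↘ Spec (CommRingCat.of A))⟩
  letI oB : Z.Over (Spec (CommRingCat.of Γ(Y, W))) := ⟨p⟩
  haveI : IsProper (Z ↘ Spec (CommRingCat.of Γ(Y, W))) := hp
  haveI : IsNoetherianRing Γ(Y, W) := IsLocallyNoetherian.component_noetherian ⟨W, hW⟩
  obtain ⟨c, hc⟩ := exists_range_bound_open J (rUHom (A := A) W) (Z := Z) hcomm ι rfl hU hF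
  obtain ⟨πE, hπE⟩ : ∃ πE : ∀ n, (Scheme.Modules.pushforward f).obj F ⟶
      Gn (Formal.completion J ((Scheme.Modules.pushforward f).obj F)) n,
      πE = fun n => Formal.modPowπ J (n + 1) ((Scheme.Modules.pushforward f).obj F) := ⟨_, rfl⟩
  obtain ⟨πF, hπF⟩ : ∃ πF : ∀ n, F ⟶ Gn (Formal.completion J F) n,
      πF = fun n => Formal.modPowπ J (n + 1) F := ⟨_, rfl⟩
  have hδ' : ∀ n, πE n ≫ δ.app (op n) = (Scheme.Modules.pushforward f).map (πF n) := by
    intro n
    rw [hπE, hπF]
    exact hδ n
  have hc' : ∀ (n k : ℕ) (h : n ≤ k), n + c ≤ k →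
      ∀ y : Γ(Gn (Formal.completion J F) k, f ⁻¹ᵁ W),
        ∃ e : Γ(F, f ⁻¹ᵁ W), (πF n).app (f ⁻¹ᵁ W) e =
          (gm (Formal.completion J F) h).app (f ⁻¹ᵁ W) y := by
    rw [hπF]
    exact hc
  refine ⟨c, fun n y => ?_⟩
  obtain ⟨e, he⟩ := hc' n (n + c) (Nat.le_add_right n c) (le_refl _) y
  refine ⟨(πE n).app W (show Γ((Scheme.Modules.pushforward f).obj F, W) from e), ?_⟩
  rw [← comp_app', hδ' n]
  exact he

include hf hF hδ in
/-- **the comparison map is an isomorphism up to translation** -/
theorem isARIso_delta : ARSys.IsARIso δ := by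
  haveI : IsLocallyNoetherian X := LocallyOfFiniteType.isLocallyNoetherian f
  haveI : CompactSpace X := QuasiCompact.compactSpace_of_compactSpace f
  haveI : AlgebraicGeometry.IsNoetherian X := {}
  have hE := isCoh_pushforward f hF
  haveI := hE.1
  haveI := hF.1
  haveI hq1 : ∀ n, (Gn (Formal.completion J
      ((Scheme.Modules.pushforward f).obj F)) n).IsQuasicoherent :=
    fun n => (isComplOf_completion J _).isQuasicoherent n
  haveI hq2 : ∀ n, (Gn (Formal.completion J F ⋙
      Scheme.Modules.pushforward f) n).IsQuasicoherent :=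
    fun n => (isCoh_pushforward f (isCoh_modPow J hF (n + 1))).1
  constructor
  · haveI : ∀ n, (Gn (kernel δ) n).IsQuasicoherent := fun n => isQuasicoherent_kernel_app δ n
    refine isARNull_of_affine (kernel δ) (fun W hW => ?_)
    obtain ⟨c, hc⟩ := exists_ker_bound_push J f hf hF δ hδ hW
    refine ⟨c, fun n s => ?_⟩
    haveI : Mono ((kernel.ι δ).app (op n)) := inferInstance
    apply sl_injective_of_mono ((kernel.ι δ).app (op n)) W
    rw [map_zero]
    show ((kernel.ι δ).app (op n)).app W ((gm (kernel δ) (Nat.le_add_right n c)).app W s) = 0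
    have hnat : gm (kernel δ) (Nat.le_add_right n c) ≫ (kernel.ι δ).app (op n) =
        (kernel.ι δ).app (op (n + c)) ≫
          gm (Formal.completion J ((Scheme.Modules.pushforward f).obj F))
            (Nat.le_add_right n c) :=
      (kernel.ι δ).naturality _
    rw [← comp_app', hnat, comp_app']
    refine hc n _ ?_
    rw [← comp_app', ← NatTrans.comp_app, kernel.condition]
    exact zero_app' W s
  · haveI : ∀ n, (Gn (cokernel δ) n).IsQuasicoherent :=
      fun n => isQuasicoherent_cokernel_app δ n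
    refine isARNull_of_affine (cokernel δ) (fun W hW => ?_)
    obtain ⟨c, hc⟩ := exists_range_bound_push J f hf hF δ hδ hW
    refine ⟨c, fun n s => ?_⟩
    haveI : Epi ((cokernel.π δ).app (op (n + c))) := inferInstance
    obtain ⟨y, hy⟩ := sl_surjective_of_epi ((cokernel.π δ).app (op (n + c))) hW s
    have hy' : ((cokernel.π δ).app (op (n + c))).app W y = s := hy
    obtain ⟨z, hz⟩ := hc n y
    have hnat : gm (Formal.completion J F ⋙ Scheme.Modules.pushforward f)
        (Nat.le_add_right n c) ≫ (cokernel.π δ).app (op n) =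
        (cokernel.π δ).app (op (n + c)) ≫ gm (cokernel δ) (Nat.le_add_right n c) :=
      (cokernel.π δ).naturality _
    rw [← hy', ← comp_app', ← hnat, comp_app']
    have h1 : (gm (Formal.completion J F ⋙ Scheme.Modules.pushforward f)
        (Nat.le_add_right n c)).app W y = (δ.app (op n)).app W z := hz.symm
    rw [h1, ← comp_app', ← NatTrans.comp_app, cokernel.condition]
    exact zero_app' W z

include hf hF hδ in
/-- the lift of `γ` through the comparison map -/
theorem exists_alpha {G : ℕᵒᵖ ⥤ Y.Modules} (hG : Formal.IsCohFormal J G)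
    (γ : G ⟶ Formal.completion J F ⋙ Scheme.Modules.pushforward f) :
    ∃ α : G ⟶ Formal.completion J ((Scheme.Modules.pushforward f).obj F), α ≫ δ = γ := by
  have hE := isCoh_pushforward f hF
  exact Groth.Agent.Lib.ARAbH4.lift_of_isARIso J δ (isARIso_delta J f hf hF δ hδ)
    (isAdic_of_isCohFormal
      (Groth.Agent.Lib.AlgzExtH2.isCohFormal_completion J _ hE)).1
    (isAdic_of_isCohFormal hG) γ

end Bounds

end Groth.Agent.Lib.GExH2
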