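import Mathlib
import Groth.Prelude
import Groth.Agent.Lib.GEx10_helper2
import Groth.Agent.Lib.AlgzExt1_helper2
import Groth.Agent.Lib.CohDev10_helper8
import Groth.Agent.S0543

/-!
# Grothendieck existence, push–pull step: bounds at the level of limits (helper2)

* `LProp f G h 𝔨 t` : for compatible families of sections of `G_n` over `W` and of `f^* G_n` over `U ⊆ f⁻¹ W`,
  kernel and cokernel of the canonical map are killed by `𝔨^t`;
* `LProp.transfer` : transfer of `LProp` along a commutative square whose horizontal maps induce bijections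
  on the relevant sections;
* `cUV_bijective_of_adic` : sections of a module killed by `𝔟^k` do not change under base change to the `𝔟`-adic
  completion;
* `LProp_complete` : `LProp` over a complete Noetherian affine base (algebraization + formal functions);
* `exists_LProp_affine` : `LProp` over every affine open of the Noetherian base.
APPEND-ONLY once landed.
-/

set_option autoImplicit false
set_option backward.isDefEq.respectTransparency false
set_option linter.style.haveILetI false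
set_option linter.unusedSectionVars false
universe u
open CategoryTheory CategoryTheory.Limits AlgebraicGeometry TopologicalSpace Opposite

namespace Groth.Agent.Lib.GExH2

open Formal Groth.Agent.Lib.FormalModPowH4 Groth.Agent.Lib.FormalFnH2 Groth.Agent.Lib.FibAmpH2
  Groth.Agent.Lib.FlatBCH2 Groth.Agent.Lib.FibVanH2 Groth.Agent.Lib.FormalQuotH2
  Groth.Agent.Lib.AdicSysH2 Groth.Agent.Lib.LimTruncH2 QcqsLoc

section LPropDef

/-- the limit-level bound property -/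
def LProp {X Y : Scheme.{u}} (f : X ⟶ Y) (G : ℕᵒᵖ ⥤ Y.Modules) {U : X.Opens} {W : Y.Opens}
    (h : U ≤ f ⁻¹ᵁ W) (𝔨 : Ideal Γ(Y, W)) (t : ℕ) : Prop :=
  (∀ x : ∀ n, Γ(Gn G n, W), (∀ n, (tG G n).app W (x (n + 1)) = x n) →
      (∀ n, PBH8.cUV f (Gn G n) h (x n) = 0) → ∀ k ∈ 𝔨 ^ t, ∀ n, k • x n = 0) ∧
  (∀ y : ∀ n, Γ((Scheme.Modules.pullback f).obj (Gn G n), U),
      (∀ n, ((Scheme.Modules.pullback f).map (tG G n)).app U (y (n + 1)) = y n) →
      ∀ k ∈ 𝔨 ^ t, ∃ x : ∀ n, Γ(Gn G n, W), (∀ n, (tG G n).app W (x (n + 1)) = x n) ∧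
        ∀ n, PBH8.cUV f (Gn G n) h (x n) = (f.appLE W U h k) • y n)

theorem app_injective_of_iso {Z : Scheme.{u}} {M N : Z.Modules} (e : M ≅ N) (U : Z.Opens) :
    Function.Injective (e.hom.app U) := by
  intro a b hab
  have h := congrArg (fun z => e.inv.app U z) hab
  simp only at h
  rw [← comp_app', ← comp_app', e.hom_inv_id] at h
  exact h

theorem app_surjective_of_iso {Z : Scheme.{u}} {M N : Z.Modules} (e : M ≅ N) (U : Z.Opens) :
    Function.Surjective (e.hom.app U) := by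
  intro z
  refine ⟨e.inv.app U z, ?_⟩
  rw [← comp_app', e.inv_hom_id]
  rfl

theorem appLE_congr {X Y : Scheme.{u}} {φ ψ : X ⟶ Y} (e : φ = ψ) {W : Y.Opens} {U : X.Opens}
    (h1 : U ≤ φ ⁻¹ᵁ W) (h2 : U ≤ ψ ⁻¹ᵁ W) : φ.appLE W U h1 = ψ.appLE W U h2 := by
  subst e
  rfl

theorem LProp.transfer {X Y X' T : Scheme.{u}} {f : X ⟶ Y} {q : X' ⟶ X} {f' : X' ⟶ T}
    {r : T ⟶ Y} (w : q ≫ f = f' ≫ r) (G : ℕᵒᵖ ⥤ Y.Modules)
    {U : X.Opens} {W : Y.Opens} (h : U ≤ f ⁻¹ᵁ W)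
    {U' : X'.Opens} {W' : T.Opens} (h' : U' ≤ f' ⁻¹ᵁ W') (hr : W' ≤ r ⁻¹ᵁ W)
    (hq : U' ≤ q ⁻¹ᵁ U)
    (hc₁ : ∀ n, Function.Bijective (PBH8.cUV r (Gn G n) hr))
    (hc₂ : ∀ n, Function.Injective
      (PBH8.cUV q ((Scheme.Modules.pullback f).obj (Gn G n)) hq))
    (𝔨 : Ideal Γ(Y, W)) (𝔨' : Ideal Γ(T, W')) (h𝔨 : ∀ k ∈ 𝔨, r.appLE W W' hr k ∈ 𝔨')
    (t : ℕ) (H : LProp f' (G ⋙ Scheme.Modules.pullback r) h' 𝔨' t) : LProp f G h 𝔨 t := by
  have hUW : U' ≤ (q ≫ f) ⁻¹ᵁ W := fun x hx => h (hq hx)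
  obtain ⟨θ, hθ1, hθ2⟩ : ∃ θ : ∀ n,
      (Scheme.Modules.pullback q).obj ((Scheme.Modules.pullback f).obj (Gn G n)) ≅
      (Scheme.Modules.pullback f').obj ((Scheme.Modules.pullback r).obj (Gn G n)),
      (∀ n (x : Γ(Gn G n, W)),
        (θ n).hom.app U' (PBH8.cUV q _ hq (PBH8.cUV f (Gn G n) h x)) =
          PBH8.cUV f' _ h' (PBH8.cUV r (Gn G n) hr x)) ∧
      (∀ n, (Scheme.Modules.pullback q).map ((Scheme.Modules.pullback f).map (tG G n)) ≫
        (θ n).hom = (θ (n + 1)).hom ≫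
          (Scheme.Modules.pullback f').map ((Scheme.Modules.pullback r).map (tG G n))) := by
    refine ⟨fun n => (DescH8.pbIso q f (q ≫ f) rfl).app (Gn G n) ≪≫
      ((DescH8.pbIso f' r (q ≫ f) w.symm).app (Gn G n)).symm, fun n x => ?_, fun n => ?_⟩
    · have e1 := Groth.Agent.Lib.LimMod.pbIso_cUV q f (q ≫ f) rfl (Gn G n) hq h hUW x
      have e2 := Groth.Agent.Lib.LimMod.pbIso_cUV f' r (q ≫ f) w.symm (Gn G n) h' hr hUW x
      show ((DescH8.pbIso f' r (q ≫ f) w.symm).inv.app (Gn G n)).app U'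
        (((DescH8.pbIso q f (q ≫ f) rfl).hom.app (Gn G n)).app U'
          (PBH8.cUV q ((Scheme.Modules.pullback f).obj (Gn G n)) hq
            (PBH8.cUV f (Gn G n) h x))) =
        PBH8.cUV f' ((Scheme.Modules.pullback r).obj (Gn G n)) h' (PBH8.cUV r (Gn G n) hr x)
      rw [e1, ← e2, ← comp_app', Iso.hom_inv_id_app]
      rfl
    · have n1 : (Scheme.Modules.pullback q).map ((Scheme.Modules.pullback f).map (tG G n)) ≫
          (DescH8.pbIso q f (q ≫ f) rfl).hom.app (Gn G n) =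
          (DescH8.pbIso q f (q ≫ f) rfl).hom.app (Gn G (n + 1)) ≫
            (Scheme.Modules.pullback (q ≫ f)).map (tG G n) :=
        (DescH8.pbIso q f (q ≫ f) rfl).hom.naturality (tG G n)
      have n2 : (Scheme.Modules.pullback (q ≫ f)).map (tG G n) ≫
          (DescH8.pbIso f' r (q ≫ f) w.symm).inv.app (Gn G n) =
          (DescH8.pbIso f' r (q ≫ f) w.symm).inv.app (Gn G (n + 1)) ≫
            (Scheme.Modules.pullback f').map ((Scheme.Modules.pullback r).map (tG G n)) :=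
        (DescH8.pbIso f' r (q ≫ f) w.symm).inv.naturality (tG G n)
      show (Scheme.Modules.pullback q).map ((Scheme.Modules.pullback f).map (tG G n)) ≫
        (DescH8.pbIso q f (q ≫ f) rfl).hom.app (Gn G n) ≫
          (DescH8.pbIso f' r (q ≫ f) w.symm).inv.app (Gn G n) =
        ((DescH8.pbIso q f (q ≫ f) rfl).hom.app (Gn G (n + 1)) ≫
          (DescH8.pbIso f' r (q ≫ f) w.symm).inv.app (Gn G (n + 1))) ≫
          (Scheme.Modules.pullback f').map ((Scheme.Modules.pullback r).map (tG G n))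
      rw [← Category.assoc, n1, Category.assoc, n2, Category.assoc]
  have hc₂' : ∀ n, Function.Injective (fun y =>
      (θ n).hom.app U' (PBH8.cUV q ((Scheme.Modules.pullback f).obj (Gn G n)) hq y)) :=
    fun n => (app_injective_of_iso (θ n) U').comp (hc₂ n)
  have hpow : ∀ k ∈ 𝔨 ^ t, r.appLE W W' hr k ∈ 𝔨' ^ t := by
    intro k hk
    have h1 : 𝔨.map (r.appLE W W' hr).hom ≤ 𝔨' :=
      Ideal.map_le_iff_le_comap.mpr (fun k hk => h𝔨 k hk)
    have h2 := Ideal.mem_map_of_mem (r.appLE W W' hr).hom hk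
    rw [Ideal.map_pow] at h2
    exact Ideal.pow_right_mono h1 t h2
  have hsemi : ∀ n (k : Γ(Y, W)) (y : Γ((Scheme.Modules.pullback f).obj (Gn G n), U)),
      (θ n).hom.app U' (PBH8.cUV q _ hq ((f.appLE W U h k) • y)) =
        (f'.appLE W' U' h' (r.appLE W W' hr k)) • (θ n).hom.app U' (PBH8.cUV q _ hq y) := by
    intro n k y
    rw [PBH8.cUV_smul, Scheme.Modules.Hom.app_smul]
    congr 1
    have e1 := congrArg (fun φ => φ.hom k) (Scheme.Hom.appLE_comp_appLE q f W U U' h hq)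
    have e2 := congrArg (fun φ => φ.hom k) (Scheme.Hom.appLE_comp_appLE f' r W W' U' hr h')
    have e3 := congrArg (fun φ => φ.hom k) (appLE_congr w (W := W) (U := U')
      (hq.trans ((Opens.map q.base).map (homOfLE h)).le)
      (h'.trans ((Opens.map f'.base).map (homOfLE hr)).le))
    exact e1.trans (e3.trans e2.symm)
  refine ⟨fun x hx hx0 k hk n => ?_, fun y hy k hk => ?_⟩
  · have hx' : ∀ n, (tG (G ⋙ Scheme.Modules.pullback r) n).app W'
        (PBH8.cUV r (Gn G (n + 1)) hr (x (n + 1))) = PBH8.cUV r (Gn G n) hr (x n) := by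
      intro n
      show ((Scheme.Modules.pullback r).map (tG G n)).app W' _ = _
      rw [PBH8.cUV_naturality, hx n]
    have hx0' : ∀ n, PBH8.cUV f' (Gn (G ⋙ Scheme.Modules.pullback r) n) h'
        (PBH8.cUV r (Gn G n) hr (x n)) = 0 := by
      intro n
      show PBH8.cUV f' ((Scheme.Modules.pullback r).obj (Gn G n)) h' _ = 0
      rw [← hθ1 n (x n), hx0 n, cUV_zero']
      exact app_zero' _ U'
    have h1 := H.1 (fun n => PBH8.cUV r (Gn G n) hr (x n)) hx' hx0' _ (hpow k hk) n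
    apply (hc₁ n).1
    rw [PBH8.cUV_smul, cUV_zero']
    exact h1
  · have hy' : ∀ n, ((Scheme.Modules.pullback f').map
        (tG (G ⋙ Scheme.Modules.pullback r) n)).app U'
        ((θ (n + 1)).hom.app U' (PBH8.cUV q _ hq (y (n + 1)))) =
        (θ n).hom.app U' (PBH8.cUV q _ hq (y n)) := by
      intro n
      show ((Scheme.Modules.pullback f').map
        ((Scheme.Modules.pullback r).map (tG G n))).app U' _ = _
      rw [← comp_app', ← hθ2 n, comp_app', PBH8.cUV_naturality, hy n]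
    obtain ⟨x', hx'c, hx'⟩ := H.2 (fun n => (θ n).hom.app U' (PBH8.cUV q _ hq (y n))) hy' _
      (hpow k hk)
    choose x hx using fun n => (hc₁ n).2 (x' n)
    refine ⟨x, fun n => ?_, fun n => ?_⟩
    · apply (hc₁ n).1
      rw [← PBH8.cUV_naturality, hx (n + 1), hx n]
      exact hx'c n
    · apply hc₂' n
      show (θ n).hom.app U' (PBH8.cUV q _ hq (PBH8.cUV f (Gn G n) h (x n))) =
        (θ n).hom.app U' (PBH8.cUV q _ hq ((f.appLE W U h k) • y n))
      rw [hθ1 n (x n), hx n, hsemi n k (y n)]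
      exact hx' n

end LPropDef

section BC

variable {B : Type u} [CommRing B] [IsNoetherianRing B] (𝔟 : Ideal B)
  {Z X' : Scheme.{u}} [Z.Over (Spec (CommRingCat.of B))]
  [X'.Over (Spec (CommRingCat.of (AdicCompletion 𝔟 B)))] {g' : X' ⟶ Z}
  (hsq : IsPullback g' (X' ↘ Spec (CommRingCat.of (AdicCompletion 𝔟 B)))
    (Z ↘ Spec (CommRingCat.of B))
    (Spec.map (CommRingCat.ofHom (algebraMap B (AdicCompletion 𝔟 B)))))
  [CompactSpace Z] [QuasiSeparatedSpace Z] (M : Z.Modules) [M.IsQuasicoherent]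

include hsq in
/-- global sections of a module killed by `𝔟^k` do not change under base change to the `𝔟`-adic
completion -/
theorem cUV_bijective_of_adic (k : ℕ) (hM : Formal.KilledBy (𝔟 ^ k) M) :
    Function.Bijective (PBH8.cUV g' M (topLe g')) := by
  letI m1 := secMod B M ⊤
  letI n1 := secMod (AdicCompletion 𝔟 B) ((Scheme.Modules.pullback g').obj M) ⊤
  letI n1A := secModA B (AdicCompletion 𝔟 B) ((Scheme.Modules.pullback g').obj M) ⊤
  haveI t1 := secTower B (AdicCompletion 𝔟 B) ((Scheme.Modules.pullback g').obj M) ⊤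
  let c : Γ(M, ⊤) →ₗ[B] Γ((Scheme.Modules.pullback g').obj M, ⊤) :=
    { toFun := fun x => PBH8.cUV g' M (topLe g') x
      map_add' := fun x y => PBH8.cUV_add g' M _ x y
      map_smul' := fun a x => by
        show PBH8.cUV g' M (topLe g') (rUHom (A := B) (X := Z) ⊤ a • x) =
          rUHom (A := AdicCompletion 𝔟 B) (X := X') ⊤ (algebraMap B (AdicCompletion 𝔟 B) a) •
            PBH8.cUV g' M (topLe g') x
        rw [PBH8.cUV_smul]
        congr 1
        exact appLE_rUHom g' hsq ⊤ a }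
  have hbc : IsBaseChange (AdicCompletion 𝔟 B) c := isBaseChange_cTop hsq M c (fun m => rfl)
  have hfg : 𝔟.FG := IsNoetherian.noetherian 𝔟
  refine bijective_of_isBaseChange_of_tors (𝔟 ^ k) (adic_exists_sub_mem 𝔟 hfg k)
    (adic_mem_of_map_mem 𝔟 hfg k) (fun a ha m => ?_) c hbc
  show rU (X := Z) a ⊤ • m = 0
  rw [← smulMod_app, hM a ha, zero_app']

end BC

section TopSec

theorem map_map_eq_self {X : Scheme.{u}} (M : X.Modules) {U V : X.Opens} (h1 : U ≤ V) (h2 : V ≤ U)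
    (z : Γ(M, U)) :
    M.presheaf.map (homOfLE h1).op (M.presheaf.map (homOfLE h2).op z) = z := by
  rw [Groth.Agent.Lib.LimMod.map_map_sec M h1 h2 z]
  have h : (homOfLE (h1.trans h2)).op = 𝟙 (op U) := rfl
  rw [h, M.presheaf.map_id]
  rfl

theorem preTop_le {X Y : Scheme.{u}} (f : X ⟶ Y) : f ⁻¹ᵁ (⊤ : Y.Opens) ≤ (⊤ : X.Opens) := le_top

theorem cUV_top_smul {X Y : Scheme.{u}} (f : X ⟶ Y) (𝒩 : Y.Modules) (e : Γ(𝒩, ⊤)) (k : Γ(Y, ⊤))
    (e' : Γ((Scheme.Modules.pullback f).obj 𝒩, ⊤))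
    (he : ((Scheme.Modules.pullbackPushforwardAdjunction f).unit.app 𝒩).app ⊤ e =
      k • (show Γ((Scheme.Modules.pushforward f).obj ((Scheme.Modules.pullback f).obj 𝒩), ⊤) from
        ((Scheme.Modules.pullback f).obj 𝒩).presheaf.map (homOfLE (preTop_le f)).op e')) :
    PBH8.cUV f 𝒩 (topLe f) e = (f.appLE ⊤ ⊤ (topLe f) k) • e' := by
  unfold PBH8.cUV
  rw [he]
  have h1 := Scheme.Modules.map_smul ((Scheme.Modules.pullback f).obj 𝒩) (homOfLE (topLe f))
    (f.app ⊤ k) (((Scheme.Modules.pullback f).obj 𝒩).presheaf.map (homOfLE (preTop_le f)).op e')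
  rw [map_map_eq_self] at h1
  exact h1

theorem cUV_top_smul' {X Y : Scheme.{u}} (f : X ⟶ Y) (𝒩 : Y.Modules) (e : Γ(𝒩, ⊤)) (k : Γ(Y, ⊤))
    (e' : Γ((Scheme.Modules.pullback f).obj 𝒩, ⊤))
    (p : Γ((Scheme.Modules.pushforward f).obj ((Scheme.Modules.pullback f).obj 𝒩), ⊤))
    (hp : p = (show Γ((Scheme.Modules.pushforward f).obj
      ((Scheme.Modules.pullback f).obj 𝒩), ⊤) from
        ((Scheme.Modules.pullback f).obj 𝒩).presheaf.map (homOfLE (preTop_le f)).op e'))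
    (he : ((Scheme.Modules.pullbackPushforwardAdjunction f).unit.app 𝒩).app ⊤ e = k • p) :
    PBH8.cUV f 𝒩 (topLe f) e = (f.appLE ⊤ ⊤ (topLe f) k) • e' := by
  subst hp
  exact cUV_top_smul f 𝒩 e k e' he

theorem unit_app_top_eq_zero {X Y : Scheme.{u}} (f : X ⟶ Y) (𝒩 : Y.Modules) (e : Γ(𝒩, ⊤))
    (he : PBH8.cUV f 𝒩 (topLe f) e = 0) :
    ((Scheme.Modules.pullbackPushforwardAdjunction f).unit.app 𝒩).app ⊤ e = 0 := by
  have h1 := map_map_eq_self ((Scheme.Modules.pullback f).obj 𝒩) (preTop_le f) (topLe f)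
    (((Scheme.Modules.pullbackPushforwardAdjunction f).unit.app 𝒩).app ⊤ e)
  have h2 : ((Scheme.Modules.pullback f).obj 𝒩).presheaf.map (homOfLE (topLe f)).op
      (((Scheme.Modules.pullbackPushforwardAdjunction f).unit.app 𝒩).app ⊤ e) = 0 := he
  rw [h2, map_zero] at h1
  exact h1.symm

/-- exactness of sections over an affine open at the target of a morphism of quasi-coherent
modules -/
theorem exists_of_cokernel_π_app_eq_zero {X : Scheme.{u}} {N P : X.Modules} [N.IsQuasicoherent]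
    [P.IsQuasicoherent] (η : N ⟶ P) {U : X.Opens} (hU : IsAffineOpen U) (p : Γ(P, U))
    (hp : (cokernel.π η).app U p = 0) : ∃ e : Γ(N, U), η.app U e = p := by
  haveI : (cokernel η).IsQuasicoherent := Groth.Agent.Lib.BModH6.isQuasicoherent_cokernel η
  haveI : (Abelian.image η).IsQuasicoherent := SubExt.isQuasicoherent_kernel (cokernel.π η)
  have h1 : p ∈ LinearMap.ker (sl (cokernel.π η) U) := hp
  rw [← sl_range_kernel_ι] at h1
  obtain ⟨z, hz⟩ := h1
  have hz' : (Abelian.image.ι η).app U z = p := hz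
  obtain ⟨e, he⟩ := sl_surjective_of_epi (Abelian.factorThruImage η) hU z
  have he' : (Abelian.factorThruImage η).app U e = z := he
  refine ⟨e, ?_⟩
  have hfac : Abelian.factorThruImage η ≫ Abelian.image.ι η = η := Abelian.image.fac η
  rw [← hfac, comp_app', he', hz']

end TopSec

section Complete

noncomputable local instance (priority := 10000) selfOver'' (S : Type u) [CommRing S] :
    (Spec (CommRingCat.of S)).Over (Spec (CommRingCat.of S)) := ⟨𝟙 _⟩

variable {S : Type u} [CommRing S] [IsNoetherianRing S] (I : Ideal S) [IsAdicComplete I S]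
  {X' : Scheme.{u}} [X'.Over (Spec (CommRingCat.of S))]
  [IsProper (X' ↘ Spec (CommRingCat.of S))]

/-- **the bound over a complete affine base**, via algebraization and formal functions -/
theorem LProp_complete (𝒢 : ℕᵒᵖ ⥤ (Spec (CommRingCat.of S)).Modules)
    (h𝒢 : Formal.IsCohFormal I 𝒢) (V' : (Spec (CommRingCat.of S)).Opens)
    (hV' : IsIso ((X' ↘ Spec (CommRingCat.of S)) ∣_ V'))
    (𝔨 : Ideal Γ(Spec (CommRingCat.of S), ⊤))
    (h𝔨 : ∀ s ∈ 𝔨, (Spec (CommRingCat.of S)).basicOpen s ≤ V') :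
    ∃ t : ℕ, LProp (X' ↘ Spec (CommRingCat.of S)) 𝒢
      (topLe (X' ↘ Spec (CommRingCat.of S))) 𝔨 t := by
  haveI hpT : IsProper ((Spec (CommRingCat.of S)) ↘ Spec (CommRingCat.of S)) := by
    show IsProper (𝟙 _)
    infer_instance
  have hL : CohB1.IsAmple (Coh.structureModule (Spec (CommRingCat.of S))) :=
    TensH8.isAmple_structureModule_iff.mpr inferInstance
  obtain ⟨𝒩, h𝒩, ⟨c⟩⟩ := exists_algebraization S I (Spec (CommRingCat.of S)) _ hL 𝒢 h𝒢
  haveI := h𝒩.1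
  obtain ⟨τ, hτdef⟩ : ∃ τ : ∀ n, 𝒩 ⟶ Gn 𝒢 n,
      τ = fun n => Formal.modPowπ I (n + 1) 𝒩 ≫ c.hom.app (op n) := ⟨_, rfl⟩
  have hτ : IsComplOf I 𝒩 𝒢 τ := by
    rw [hτdef]
    exact isComplOf_of_iso (isComplOf_completion I 𝒩) c
  have hfid : (X' ↘ Spec (CommRingCat.of S)) ≫
      ((Spec (CommRingCat.of S)) ↘ Spec (CommRingCat.of S)) = X' ↘ Spec (CommRingCat.of S) :=
    Category.comp_id _
  obtain ⟨τ', hτ'def⟩ : ∃ τ' : ∀ n, (Scheme.Modules.pullback (X' ↘ Spec (CommRingCat.of S))).obj 𝒩 ⟶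
      Gn (𝒢 ⋙ Scheme.Modules.pullback (X' ↘ Spec (CommRingCat.of S))) n,
      τ' = fun n => (Scheme.Modules.pullback (X' ↘ Spec (CommRingCat.of S))).map (τ n) :=
    ⟨_, rfl⟩
  have hτ' : IsComplOf I ((Scheme.Modules.pullback (X' ↘ Spec (CommRingCat.of S))).obj 𝒩)
      (𝒢 ⋙ Scheme.Modules.pullback (X' ↘ Spec (CommRingCat.of S))) τ' := by
    rw [hτ'def]
    exact hτ.pullback (X' ↘ Spec (CommRingCat.of S)) hfid
  have h𝒩' : Coh.IsCoh ((Scheme.Modules.pullback (X' ↘ Spec (CommRingCat.of S))).obj 𝒩) :=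
    Groth.Agent.Lib.ConsModH2.isCoh_pullback _ 𝒩 h𝒩
  haveI := h𝒩'.1
  have hP : Coh.IsCoh ((Scheme.Modules.pushforward (X' ↘ Spec (CommRingCat.of S))).obj
      ((Scheme.Modules.pullback (X' ↘ Spec (CommRingCat.of S))).obj 𝒩)) :=
    isCoh_pushforward _ h𝒩'
  haveI := hP.1
  obtain ⟨η, hη⟩ : ∃ η : 𝒩 ⟶ (Scheme.Modules.pushforward (X' ↘ Spec (CommRingCat.of S))).obj
      ((Scheme.Modules.pullback (X' ↘ Spec (CommRingCat.of S))).obj 𝒩),
      η = (Scheme.Modules.pullbackPushforwardAdjunction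
        (X' ↘ Spec (CommRingCat.of S))).unit.app 𝒩 := ⟨_, rfl⟩
  have hKer : Coh.IsCoh (kernel η) := CohKerH8.isCoh_kernel h𝒩 hP η
  have hCok : Coh.IsCoh (cokernel η) := CohKerH8.isCoh_cokernel h𝒩 hP η
  have hbij : ∀ s ∈ 𝔨, Function.Bijective
      (η.app ((Spec (CommRingCat.of S)).basicOpen s)) := by
    intro s hs
    have hD : IsAffineOpen ((Spec (CommRingCat.of S)).basicOpen s) :=
      (isAffineOpen_top _).basicOpen s
    have hiso : IsIso ((X' ↘ Spec (CommRingCat.of S)) ∣_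
        (Spec (CommRingCat.of S)).basicOpen s) :=
      isIso_morphismRestrict_of_isPullback
        (IsPullback.id_horiz (X' ↘ Spec (CommRingCat.of S))) V' hV' _ (h𝔨 s hs)
    rw [hη]
    exact unit_app_bijective_of_iso (X' ↘ Spec (CommRingCat.of S)) 𝒩 hD hiso
  have hsK : CohB1.support (kernel η) ⊆
      ((Scheme.IdealSheafData.ofIdealTop 𝔨).support : Set (Spec (CommRingCat.of S))) := by
    intro x hx
    rw [Scheme.IdealSheafData.coe_support_ofIdealTop, Scheme.mem_zeroLocus_iff]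
    intro s hs hxs
    exact CohDevH8.support_kernel_subset_compl h𝒩 hP η ((isAffineOpen_top _).basicOpen s)
      (hbij s hs).1 hx hxs
  have hsC : CohB1.support (cokernel η) ⊆
      ((Scheme.IdealSheafData.ofIdealTop 𝔨).support : Set (Spec (CommRingCat.of S))) := by
    intro x hx
    rw [Scheme.IdealSheafData.coe_support_ofIdealTop, Scheme.mem_zeroLocus_iff]
    intro s hs hxs
    exact CohDevH8.support_cokernel_subset_compl h𝒩 hP η ((isAffineOpen_top _).basicOpen s)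
      (hbij s hs).2 hx hxs
  haveI := hKer.1
  haveI : SheafOfModules.IsFiniteType (R := (Spec (CommRingCat.of S)).ringCatSheaf) (kernel η) :=
    hKer.2
  haveI := hCok.1
  haveI : SheafOfModules.IsFiniteType (R := (Spec (CommRingCat.of S)).ringCatSheaf)
      (cokernel η) := hCok.2
  obtain ⟨m₁, hm₁⟩ := CohDevH8.exists_pow_le_annIdeal (kernel η) (Scheme.IdealSheafData.ofIdealTop 𝔨) hsK
  obtain ⟨m₂, hm₂⟩ := CohDevH8.exists_pow_le_annIdeal (cokernel η)
    (Scheme.IdealSheafData.ofIdealTop 𝔨) hsC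
  have hρ : ∀ k : Γ(Spec (CommRingCat.of S), ⊤),
      ((Spec (CommRingCat.of S)).presheaf.map
        (homOfLE (le_top : (⊤ : (Spec (CommRingCat.of S)).Opens) ≤ ⊤)).op).hom k = k := by
    intro k
    have h0 : (homOfLE (le_top : (⊤ : (Spec (CommRingCat.of S)).Opens) ≤ ⊤)).op = 𝟙 _ := rfl
    rw [h0, (Spec (CommRingCat.of S)).presheaf.map_id]
    rfl
  have hkill : ∀ (N : (Spec (CommRingCat.of S)).Modules) [N.IsQuasicoherent]
      [SheafOfModules.IsFiniteType (R := (Spec (CommRingCat.of S)).ringCatSheaf) N] (m : ℕ),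
      (Scheme.IdealSheafData.ofIdealTop 𝔨) ^ m ≤ AnnShH8.annIdeal N → ∀ k ∈ 𝔨 ^ m,
      ∀ z : Γ(N, ⊤), k • z = 0 := by
    intro N _ _ m hle k hk z
    have hk' : k ∈ ((Scheme.IdealSheafData.ofIdealTop 𝔨) ^ m).ideal ⟨⊤, isAffineOpen_top _⟩ := by
      show k ∈ ((Scheme.IdealSheafData.ofIdealTop 𝔨).ideal ⟨⊤, isAffineOpen_top _⟩) ^ m
      rw [Scheme.IdealSheafData.ofIdealTop_ideal, ← Ideal.map_pow]
      have h1 := Ideal.mem_map_of_mem ((Spec (CommRingCat.of S)).presheaf.map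
        (homOfLE (le_top : (⊤ : (Spec (CommRingCat.of S)).Opens) ≤ ⊤)).op).hom hk
      rwa [hρ] at h1
    have h2 := hle ⟨⊤, isAffineOpen_top _⟩ hk'
    rw [AnnShH8.annIdeal_ideal, Module.mem_annihilator] at h2
    exact h2 z
  refine ⟨max m₁ m₂, fun x hx hx0 k hk n => ?_, fun y hy k hk => ?_⟩
  · obtain ⟨e, he⟩ := exists_section_of_compatible_compl h𝒩 hτ x hx
    have he' : PBH8.cUV (X' ↘ Spec (CommRingCat.of S)) 𝒩
        (topLe (X' ↘ Spec (CommRingCat.of S))) e = 0 := by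
      refine eq_zero_of_forall_app_eq_zero h𝒩' hτ' _ (fun n => ?_)
      rw [hτ'def]
      show ((Scheme.Modules.pullback (X' ↘ Spec (CommRingCat.of S))).map (τ n)).app ⊤
        (PBH8.cUV (X' ↘ Spec (CommRingCat.of S)) 𝒩 (topLe (X' ↘ Spec (CommRingCat.of S))) e) = 0
      rw [PBH8.cUV_naturality, he n]
      exact hx0 n
    have h1 : η.app ⊤ e = 0 := by
      rw [hη]
      exact unit_app_top_eq_zero _ 𝒩 e he'
    have h2 : e ∈ LinearMap.ker (sl η ⊤) := h1
    rw [← sl_range_kernel_ι] at h2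
    obtain ⟨z, hz⟩ := h2
    have h3 : k • z = 0 :=
      hkill (kernel η) m₁ hm₁ k (Ideal.pow_le_pow_right (le_max_left m₁ m₂) hk) z
    have h4 : k • e = 0 := by
      rw [← hz, ← map_smul, h3, map_zero]
    rw [← he n, ← Scheme.Modules.Hom.app_smul, h4]
    exact app_zero' _ ⊤
  · obtain ⟨e', he'⟩ := exists_section_of_compatible_compl h𝒩' hτ' y hy
    obtain ⟨p, hp⟩ : ∃ p : Γ((Scheme.Modules.pushforward (X' ↘ Spec (CommRingCat.of S))).obj
        ((Scheme.Modules.pullback (X' ↘ Spec (CommRingCat.of S))).obj 𝒩), ⊤),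
        p = (show Γ((Scheme.Modules.pushforward (X' ↘ Spec (CommRingCat.of S))).obj
          ((Scheme.Modules.pullback (X' ↘ Spec (CommRingCat.of S))).obj 𝒩), ⊤) from
          ((Scheme.Modules.pullback (X' ↘ Spec (CommRingCat.of S))).obj 𝒩).presheaf.map
            (homOfLE (preTop_le (X' ↘ Spec (CommRingCat.of S)))).op e') := ⟨_, rfl⟩
    have h3 : k • ((cokernel.π η).app ⊤ p) = 0 :=
      hkill (cokernel η) m₂ hm₂ k (Ideal.pow_le_pow_right (le_max_right m₁ m₂) hk) _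
    have h4 : (cokernel.π η).app ⊤ (k • p) = 0 := by
      rw [Scheme.Modules.Hom.app_smul, h3]
    obtain ⟨e, he⟩ := exists_of_cokernel_π_app_eq_zero η (isAffineOpen_top _) (k • p) h4
    refine ⟨fun n => (τ n).app ⊤ e, fun n => ?_, fun n => ?_⟩
    · rw [← comp_app', hτ.comp n]
    · rw [← PBH8.cUV_naturality]
      have h5 : PBH8.cUV (X' ↘ Spec (CommRingCat.of S)) 𝒩
          (topLe (X' ↘ Spec (CommRingCat.of S))) e =
          ((X' ↘ Spec (CommRingCat.of S)).appLE ⊤ ⊤ (topLe (X' ↘ Spec (CommRingCat.of S))) k) •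
            e' := by
        refine cUV_top_smul' (X' ↘ Spec (CommRingCat.of S)) 𝒩 e k e' p hp ?_
        rw [← hη]
        exact he
      rw [h5, Scheme.Modules.Hom.app_smul]
      have h6 : ((Scheme.Modules.pullback (X' ↘ Spec (CommRingCat.of S))).map (τ n)).app ⊤ e' =
          y n := by
        have h7 := he' n
        rw [hτ'def] at h7
        exact h7
      rw [h6]

end Complete

section ChartL

noncomputable local instance (priority := 10000) selfOver3 (S : Type u) [CommRing S] :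
    (Spec (CommRingCat.of S)).Over (Spec (CommRingCat.of S)) := ⟨𝟙 _⟩

theorem cUV_comp_bijective {X Y Z : Scheme.{u}} (a : X ⟶ Y) (b : Y ⟶ Z) (F : Z.Modules)
    {U : X.Opens} {V : Y.Opens} {W : Z.Opens} (hUV : U ≤ a ⁻¹ᵁ V) (hVW : V ≤ b ⁻¹ᵁ W)
    (hUW : U ≤ (a ≫ b) ⁻¹ᵁ W) (hb : Function.Bijective (PBH8.cUV b F hVW))
    (ha : Function.Bijective (PBH8.cUV a ((Scheme.Modules.pullback b).obj F) hUV)) :
    Function.Bijective (PBH8.cUV (a ≫ b) F hUW) := by
  have h : PBH8.cUV (a ≫ b) F hUW = fun p => ((DescH8.pbIso a b (a ≫ b) rfl).hom.app F).app U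
      (PBH8.cUV a ((Scheme.Modules.pullback b).obj F) hUV (PBH8.cUV b F hVW p)) :=
    funext (fun p => (Groth.Agent.Lib.LimMod.pbIso_cUV a b (a ≫ b) rfl F hUV hVW hUW p).symm)
  rw [h]
  have hi : Function.Bijective (((DescH8.pbIso a b (a ≫ b) rfl).hom.app F).app U) :=
    ⟨app_injective_of_iso ((DescH8.pbIso a b (a ≫ b) rfl).app F) U,
      app_surjective_of_iso ((DescH8.pbIso a b (a ≫ b) rfl).app F) U⟩
  exact hi.comp (ha.comp hb)

variable {A : Type u} [CommRing A] (J : Ideal A) {X Y : Scheme.{u}}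
  [X.Over (Spec (CommRingCat.of A))] [Y.Over (Spec (CommRingCat.of A))]
  [AlgebraicGeometry.IsNoetherian Y]
  (f : X ⟶ Y) [IsProper f]
  (hf : f ≫ (Y ↘ Spec (CommRingCat.of A)) = X ↘ Spec (CommRingCat.of A))
  (K : Y.IdealSheafData) (hV : IsIso (f ∣_ K.support.compl))
  {G : ℕᵒᵖ ⥤ Y.Modules} (hG : Formal.IsCohFormal J G)

include hf hV hG in
/-- the bound over an affine chart, by base change to the completion -/
theorem LProp_of_chart {W : Y.Opens} {B : Type u} [CommRing B] [IsNoetherianRing B]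
    (φ : A →+* B) (j : Spec (CommRingCat.of B) ⟶ Y)
    (hjA : j ≫ (Y ↘ Spec (CommRingCat.of A)) = Spec.map (CommRingCat.ofHom φ))
    (hjW : (⊤ : (Spec (CommRingCat.of B)).Opens) ≤ j ⁻¹ᵁ W)
    (hjbij : ∀ n, Function.Bijective (PBH8.cUV j (Gn G n) hjW))
    {Z : Scheme.{u}} (ι : Z ⟶ X) [IsOpenImmersion ι] (p : Z ⟶ Spec (CommRingCat.of B))
    [IsProper p] (hU : ι ''ᵁ ⊤ = f ⁻¹ᵁ W)
    (hcomm : ι ≫ (X ↘ Spec (CommRingCat.of A)) = p ≫ Spec.map (CommRingCat.ofHom φ))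
    (sq : IsPullback ι p f j) (𝔨 : Ideal Γ(Y, W))
    (h𝔨 : ∀ k ∈ 𝔨, Y.basicOpen k ≤ K.support.compl) :
    ∃ t : ℕ, LProp f G (le_refl (f ⁻¹ᵁ W)) 𝔨 t := by
  haveI hqG : ∀ n, (Gn G n).IsQuasicoherent := fun n => (hG.1 n).1
  obtain ⟨𝔟, h𝔟⟩ : ∃ 𝔟 : Ideal B, 𝔟 = Ideal.map φ J := ⟨_, rfl⟩
  have hfg : 𝔟.FG := IsNoetherian.noetherian 𝔟
  haveI : IsNoetherianRing (AdicCompletion 𝔟 B) := Groth.Agent.S0543.result B 𝔟
  letI oZA : Z.Over (Spec (CommRingCat.of A)) := ⟨ι ≫ (X ↘ Spec (CommRingCat.of A))⟩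
  letI oZB : Z.Over (Spec (CommRingCat.of B)) := ⟨p⟩
  letI oBA : (Spec (CommRingCat.of B)).Over (Spec (CommRingCat.of A)) :=
    ⟨j ≫ (Y ↘ Spec (CommRingCat.of A))⟩
  haveI : CompactSpace Z := QuasiCompact.compactSpace_of_compactSpace p
  haveI : QuasiSeparatedSpace Z := quasiSeparatedSpace_of_quasiSeparated p
  obtain ⟨X', g', f', sq2⟩ : ∃ (X' : Scheme.{u}) (g' : X' ⟶ Z)
      (f' : X' ⟶ Spec (CommRingCat.of (AdicCompletion 𝔟 B))),
      IsPullback g' f' p (Spec.map (CommRingCat.ofHom (algebraMap B (AdicCompletion 𝔟 B)))) :=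
    ⟨_, _, _, IsPullback.of_hasPullback p _⟩
  letI oX' : X'.Over (Spec (CommRingCat.of (AdicCompletion 𝔟 B))) := ⟨f'⟩
  haveI hpf' : IsProper (X' ↘ Spec (CommRingCat.of (AdicCompletion 𝔟 B))) :=
    MorphismProperty.of_isPullback (P := @IsProper) sq2 inferInstance
  set hS := Spec.map (CommRingCat.ofHom (algebraMap B (AdicCompletion 𝔟 B))) with hSdef
  letI oTA : (Spec (CommRingCat.of (AdicCompletion 𝔟 B))).Over (Spec (CommRingCat.of A)) :=
    ⟨(hS ≫ j) ≫ (Y ↘ Spec (CommRingCat.of A))⟩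
  have w : (g' ≫ ι) ≫ f = f' ≫ (hS ≫ j) := by
    rw [Category.assoc, sq.w, ← Category.assoc, sq2.w, Category.assoc]
  have sqq : IsPullback (g' ≫ ι) f' f (hS ≫ j) := sq2.paste_horiz sq
  have hr : (⊤ : (Spec (CommRingCat.of (AdicCompletion 𝔟 B))).Opens) ≤ (hS ≫ j) ⁻¹ᵁ W :=
    fun x _ => hjW (show hS x ∈ (⊤ : (Spec (CommRingCat.of B)).Opens) from trivial)
  have hιle : (⊤ : Z.Opens) ≤ ι ⁻¹ᵁ (f ⁻¹ᵁ W) := by
    rw [← hU, ι.preimage_image_eq]
  have hq : (⊤ : X'.Opens) ≤ (g' ≫ ι) ⁻¹ᵁ (f ⁻¹ᵁ W) :=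
    fun x _ => hιle (show g' x ∈ (⊤ : Z.Opens) from trivial)
  have hkB : ∀ n, Formal.KilledBy (𝔟 ^ (n + 1)) ((Scheme.Modules.pullback j).obj (Gn G n)) := by
    intro n
    have h1 := Groth.Agent.Lib.ThickH2.killedBy_pullback j rfl (J ^ (n + 1)) (Gn G n) (hG.2.1 n)
    have hZB : ((Spec (CommRingCat.of B)) ↘ Spec (CommRingCat.of A)) =
        ((Spec (CommRingCat.of B)) ↘ Spec (CommRingCat.of B)) ≫
          Spec.map (CommRingCat.ofHom φ) := by
      show j ≫ (Y ↘ Spec (CommRingCat.of A)) = 𝟙 _ ≫ Spec.map (CommRingCat.ofHom φ)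
      rw [Category.id_comp, hjA]
    have h2 := killedBy_map φ hZB h1
    rwa [Ideal.map_pow, ← h𝔟] at h2
  have hkZ : ∀ n, Formal.KilledBy (𝔟 ^ (n + 1))
      ((Scheme.Modules.pullback ι).obj ((Scheme.Modules.pullback f).obj (Gn G n))) := by
    intro n
    have h0 := Groth.Agent.Lib.ThickH2.killedBy_pullback f hf (J ^ (n + 1)) (Gn G n) (hG.2.1 n)
    have h1 := Groth.Agent.Lib.ThickH2.killedBy_pullback ι rfl (J ^ (n + 1)) _ h0
    have h2 := killedBy_map φ hcomm h1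
    rwa [Ideal.map_pow, ← h𝔟] at h2
  have hc₁ : ∀ n, Function.Bijective (PBH8.cUV (hS ≫ j) (Gn G n) hr) := by
    intro n
    haveI : ((Scheme.Modules.pullback j).obj (Gn G n)).IsQuasicoherent :=
      (Groth.Agent.Lib.ConsModH2.isCoh_pullback j _ (hG.1 n)).1
    refine cUV_comp_bijective hS j (Gn G n) (topLe hS) hjW hr (hjbij n) ?_
    exact cUV_bijective_of_adic 𝔟 (IsPullback.id_vert hS) _ (n + 1) (hkB n)
  have hc₂ : ∀ n, Function.Bijective
      (PBH8.cUV (g' ≫ ι) ((Scheme.Modules.pullback f).obj (Gn G n)) hq) := by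
    intro n
    have hc1 := Groth.Agent.Lib.ConsModH2.isCoh_pullback f _ (hG.1 n)
    haveI : ((Scheme.Modules.pullback f).obj (Gn G n)).IsQuasicoherent := hc1.1
    haveI : ((Scheme.Modules.pullback ι).obj
        ((Scheme.Modules.pullback f).obj (Gn G n))).IsQuasicoherent :=
      (Groth.Agent.Lib.ConsModH2.isCoh_pullback ι _ hc1).1
    refine cUV_comp_bijective g' ι _ (topLe g') hιle hq
      (cUV_bijective_of_isOpenImmersion ι _ hιle hU) ?_
    exact cUV_bijective_of_adic 𝔟 sq2 _ (n + 1) (hkZ n)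
  -- the coherent formal module on the completion
  have h𝒢A : Formal.IsCohFormal J (G ⋙ Scheme.Modules.pullback (hS ≫ j)) :=
    main0835 A J _ Y (hS ≫ j) rfl G hG
  obtain ⟨ψ, hψ⟩ : ∃ ψ : A →+* AdicCompletion 𝔟 B,
      ψ = (algebraMap B (AdicCompletion 𝔟 B)).comp φ := ⟨_, rfl⟩
  have hZT : ((Spec (CommRingCat.of (AdicCompletion 𝔟 B))) ↘ Spec (CommRingCat.of A)) =
      ((Spec (CommRingCat.of (AdicCompletion 𝔟 B))) ↘
        Spec (CommRingCat.of (AdicCompletion 𝔟 B))) ≫ Spec.map (CommRingCat.ofHom ψ) := by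
    show (hS ≫ j) ≫ (Y ↘ Spec (CommRingCat.of A)) = 𝟙 _ ≫ Spec.map (CommRingCat.ofHom ψ)
    rw [Category.id_comp, Category.assoc, hjA, hψ, hSdef, ← Spec.map_comp]
    rfl
  have h𝒢S : Formal.IsCohFormal (J.map ψ) (G ⋙ Scheme.Modules.pullback (hS ≫ j)) :=
    isCohFormal_map ψ hZT h𝒢A
  have hI : J.map ψ = 𝔟.map (algebraMap B (AdicCompletion 𝔟 B)) := by
    rw [hψ, ← Ideal.map_map, ← h𝔟]
  haveI hcompl : IsAdicComplete (J.map ψ) (AdicCompletion 𝔟 B) := by
    rw [hI]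
    exact AdicCompletion.isAdicComplete_self 𝔟 hfg
  have hV' : IsIso (f' ∣_ ((hS ≫ j) ⁻¹ᵁ K.support.compl)) :=
    isIso_morphismRestrict_of_isPullback sqq K.support.compl hV _ (le_refl _)
  obtain ⟨𝔨', h𝔨'def⟩ : ∃ 𝔨' : Ideal Γ(Spec (CommRingCat.of (AdicCompletion 𝔟 B)), ⊤),
      𝔨' = 𝔨.map ((hS ≫ j).appLE W ⊤ hr).hom := ⟨_, rfl⟩
  have h𝔨' : ∀ s ∈ 𝔨', (Spec (CommRingCat.of (AdicCompletion 𝔟 B))).basicOpen s ≤
      (hS ≫ j) ⁻¹ᵁ K.support.compl := by
    intro s hs x hx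
    by_contra hxV
    have hz : x ∈ (Spec (CommRingCat.of (AdicCompletion 𝔟 B))).zeroLocus (U := ⊤)
        (𝔨' : Set Γ(Spec (CommRingCat.of (AdicCompletion 𝔟 B)), ⊤)) := by
      rw [h𝔨'def]
      show x ∈ (Spec (CommRingCat.of (AdicCompletion 𝔟 B))).zeroLocus (U := ⊤)
        ((Ideal.span (((hS ≫ j).appLE W ⊤ hr).hom '' (𝔨 : Set Γ(Y, W))) :
          Ideal Γ(Spec (CommRingCat.of (AdicCompletion 𝔟 B)), ⊤)) :
            Set Γ(Spec (CommRingCat.of (AdicCompletion 𝔟 B)), ⊤))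
      rw [Scheme.zeroLocus_span, Scheme.mem_zeroLocus_iff]
      rintro _ ⟨k, hk, rfl⟩ hxk
      apply hxV
      have h1 : x ∈ (⊤ : (Spec (CommRingCat.of (AdicCompletion 𝔟 B))).Opens) ⊓
          (hS ≫ j) ⁻¹ᵁ (Y.basicOpen k) := by
        rw [← Scheme.basicOpen_appLE (hS ≫ j) ⊤ W hr k]
        exact hxk
      exact h𝔨 k hk h1.2
    exact (Scheme.mem_zeroLocus_iff _ _ _).mp hz s hs hx
  obtain ⟨t, H⟩ := LProp_complete (J.map ψ) (G ⋙ Scheme.Modules.pullback (hS ≫ j)) h𝒢S _ hV'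
    𝔨' h𝔨'
  refine ⟨t, LProp.transfer w G (le_refl (f ⁻¹ᵁ W)) (topLe f') hr hq hc₁ (fun n => (hc₂ n).1)
    𝔨 𝔨' (fun k hk => ?_) t H⟩
  rw [h𝔨'def]
  exact Ideal.mem_map_of_mem _ hk

include hf hV hG in
/-- **the limit-level bound over every affine open of the base** -/
theorem exists_LProp_affine {W : Y.Opens} (hW : IsAffineOpen W) :
    ∃ t : ℕ, LProp f G (le_refl (f ⁻¹ᵁ W)) (K.ideal ⟨W, hW⟩) t := by
  obtain ⟨Z, ι, p, hι, hp, hU, hcomm, sq⟩ := exists_chart f hf hW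
  haveI := hι
  haveI := hp
  haveI : IsNoetherianRing Γ(Y, W) := IsLocallyNoetherian.component_noetherian ⟨W, hW⟩
  haveI hqG : ∀ n, (Gn G n).IsQuasicoherent := fun n => (hG.1 n).1
  refine LProp_of_chart J f hf K hV hG (B := Γ(Y, W)) (rUHom (A := A) W) hW.fromSpec
    (fromSpec_comp_over hW) (LocIsoH8.top_le_preimage hW)
    (fun n => LocIsoH8.cUV_bijective (Gn G n) hW) ι p hU hcomm sq _ (fun k hk y hy => ?_)
  have hyW : y ∈ W := Y.basicOpen_le k hy
  show y ∉ K.support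
  intro hys
  rw [Scheme.IdealSheafData.mem_support_iff_of_mem (U := ⟨W, hW⟩) hyW,
    Scheme.mem_zeroLocus_iff] at hys
  exact hys k hk hy

end ChartL

end Groth.Agent.Lib.GExH2
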