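import Mathlib
import Groth.Prelude
import Groth.Agent.Lib.GEx11_helper2

/-!
# Grothendieck existence, push–pull step: assembly (helper2)

* `secSys_facts` : the system of sections of a coherent formal module over an affine open is an adic system of
  modules;
* `exists_level_bound_affine` : bounds for kernel and cokernel of `α_n` on sections over an affine open;
* `killedByIdeal_of_cover`;
* `main0831` (S0831).
APPEND-ONLY once landed.
-/

set_option autoImplicit false
set_option backward.isDefEq.respectTransparency false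
set_option linter.style.haveILetI false
set_option linter.unusedSectionVars false
universe u
open CategoryTheory CategoryTheory.Limits AlgebraicGeometry TopologicalSpace Opposite

namespace Groth.Agent.Lib.GExH2

open Formal Groth.Agent.Lib.FormalModPowH4 Groth.Agent.Lib.FormalFnH2 Groth.Agent.Lib.FibAmpH2
  Groth.Agent.Lib.FlatBCH2 Groth.Agent.Lib.FibVanH2 Groth.Agent.Lib.FormalQuotH2
  Groth.Agent.Lib.AdicSysH2 Groth.Agent.Lib.LimTruncH2 QcqsLoc

section Facts

variable {A : Type u} [CommRing A] (J : Ideal A) {Y : Scheme.{u}}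
  [Y.Over (Spec (CommRingCat.of A))] [AlgebraicGeometry.IsNoetherian Y]

theorem secSys_facts {Fs : ℕᵒᵖ ⥤ Y.Modules} (hFs : Formal.IsCohFormal J Fs) {W : Y.Opens}
    (hW : IsAffineOpen W) :
    (∀ n, Function.Surjective (T (secSysR W Fs) (Nat.le_succ n))) ∧
    (∀ n, LinearMap.ker (T (secSysR W Fs) (Nat.le_succ n)) ≤
      (JU A J W) ^ (n + 1) • (⊤ : Submodule Γ(Y, W) ((secSysR W Fs).obj (op n.succ)))) ∧
    (∀ n, (JU A J W) ^ (n + 1) •
      (⊤ : Submodule Γ(Y, W) ((secSysR W Fs).obj (op n))) = ⊥) := by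
  haveI hqF : ∀ n, (Gn Fs n).IsQuasicoherent := fun n => (hFs.1 n).1
  refine ⟨fun n => ?_, fun n => ?_, fun n => ?_⟩
  · haveI := (isQuot_gm hFs (Nat.le_succ n)).2.1
    exact sl_surjective_of_epi (gm Fs (Nat.le_succ n)) hW
  · exact ((isQuot_gm hFs (Nat.le_succ n)).ker_sl A J hW).le
  · rw [eq_bot_iff]
    intro x hx
    rw [Submodule.mem_bot]
    exact eq_zero_of_mem_smul_top_of_killed A J (hFs.2.1 n) W x hx

theorem killedByIdeal_of_cover (K : Y.IdealSheafData) {N : Y.Modules} (hN : Coh.IsCoh N)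
    (S : Set Y.Opens) (hS : ∀ U ∈ S, IsAffineOpen U) (hcov : ∀ y : Y, ∃ U ∈ S, y ∈ U) (m : ℕ)
    (h : ∀ (U : Y.Opens) (hU : U ∈ S), ∀ a ∈ (K.ideal ⟨U, hS U hU⟩) ^ m,
      ∀ z : Γ(N, U), a • z = 0) : ClSub.KilledByIdeal (K ^ m) N := by
  haveI := hN.1
  haveI : SheafOfModules.IsFiniteType (R := Y.ringCatSheaf) N := hN.2
  rw [CohDevH8.killedByIdeal_iff_le_annIdeal]
  refine Scheme.IdealSheafData.le_of_iSup_eq_top
    (fun U : S => (⟨U.1, hS U.1 U.2⟩ : Y.affineOpens)) ?_ (fun U => ?_)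
  · rw [eq_top_iff]
    intro y _
    obtain ⟨U, hU, hy⟩ := hcov y
    exact Opens.mem_iSup.mpr ⟨⟨U, hU⟩, hy⟩
  · intro a ha
    rw [AnnShH8.annIdeal_ideal, Module.mem_annihilator]
    exact h U.1 U.2 a ha

end Facts

section Assembly

variable {A : Type u} [CommRing A] (J : Ideal A) {X Y : Scheme.{u}}
  [X.Over (Spec (CommRingCat.of A))] [Y.Over (Spec (CommRingCat.of A))]
  [AlgebraicGeometry.IsNoetherian Y]
  (f : X ⟶ Y) [IsProper f]
  (hf : f ≫ (Y ↘ Spec (CommRingCat.of A)) = X ↘ Spec (CommRingCat.of A))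
  (K : Y.IdealSheafData) (hV : IsIso (f ∣_ K.support.compl))
  {G : ℕᵒᵖ ⥤ Y.Modules} (hG : Formal.IsCohFormal J G) {F : X.Modules} (hF : Coh.IsCoh F)
  (β : (G ⋙ Scheme.Modules.pullback f) ≅ Formal.completion J F)
  (δ : Formal.completion J ((Scheme.Modules.pushforward f).obj F) ⟶
        Formal.completion J F ⋙ Scheme.Modules.pushforward f)
  (hδ : ∀ n, Formal.modPowπ J (n + 1) ((Scheme.Modules.pushforward f).obj F) ≫ δ.app (op n) =
        (Scheme.Modules.pushforward f).map (Formal.modPowπ J (n + 1) F))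
  (α : G ⟶ Formal.completion J ((Scheme.Modules.pushforward f).obj F))
  (hα : ∀ n, α.app (op n) ≫ δ.app (op n) =
    (Scheme.Modules.pullbackPushforwardAdjunction f).unit.app (Gn G n) ≫
      (Scheme.Modules.pushforward f).map (β.hom.app (op n)))

include hf hV hG hF hδ hα in
theorem exists_level_bound_affine {W : Y.Opens} (hW : IsAffineOpen W) :
    ∃ t : ℕ, ∀ n,
      (∀ x : Γ(Gn G n, W), (α.app (op n)).app W x = 0 →
        ∀ k ∈ (K.ideal ⟨W, hW⟩) ^ t, k • x = 0) ∧
      (∀ p : Γ(Gn (Formal.completion J ((Scheme.Modules.pushforward f).obj F)) n, W),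
        ∀ k ∈ (K.ideal ⟨W, hW⟩) ^ t, ∃ x : Γ(Gn G n, W), (α.app (op n)).app W x = k • p) := by
  haveI : IsNoetherianRing Γ(Y, W) := IsLocallyNoetherian.component_noetherian ⟨W, hW⟩
  have hE := isCoh_pushforward f hF
  have hcE := Groth.Agent.Lib.AlgzExtH2.isCohFormal_completion J _ hE
  obtain ⟨t, hL⟩ := exists_LProp_affine J f hf K hV hG hW
  obtain ⟨c, hc⟩ := exists_ker_bound_push J f hf hF δ hδ hW
  obtain ⟨hSN, -, hZN⟩ := secSys_facts J hG hW
  obtain ⟨hSP, hKP, hZP⟩ := secSys_facts J hcE hW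
  have hkey : ∀ n (x : Γ(Gn G n, W)), (δ.app (op n)).app W ((α.app (op n)).app W x) =
      (β.hom.app (op n)).app (f ⁻¹ᵁ W) (PBH8.cUV f (Gn G n) (le_refl _) x) := by
    intro n x
    rw [← comp_app', hα n, comp_app', cUV_self']
    rfl
  have hδinj : ∀ z : Lsub (secSysR W (Formal.completion J ((Scheme.Modules.pushforward f).obj F))),
      (∀ n, (δ.app (op n)).app W (z.1 n) = 0) → z = 0 := by
    intro z hz0
    apply Subtype.ext
    funext n
    have h1 := z.2 n (n + c) (Nat.le_add_right n c)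
    show z.1 n = 0
    rw [← h1]
    exact hc n (z.1 (n + c)) (hz0 (n + c))
  obtain ⟨a, ha⟩ : ∃ a : secSysR W G ⟶
      secSysR W (Formal.completion J ((Scheme.Modules.pushforward f).obj F)),
      ∀ n (x : Γ(Gn G n, W)), (a.app (op n)).hom x = (α.app (op n)).app W x :=
    ⟨Functor.whiskerRight α (secFunR W), fun n x => rfl⟩
  have hker : ∀ x : Lsub (secSysR W G), Lmap a x = 0 →
      ∀ k ∈ (K.ideal ⟨W, hW⟩) ^ t, k • x = 0 := by
    intro x hx k hk
    have hx0 : ∀ n, (α.app (op n)).app W (x.1 n) = 0 := fun n => by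
      rw [← ha n]
      exact congrArg (fun y : Lsub (secSysR W (Formal.completion J
        ((Scheme.Modules.pushforward f).obj F))) => y.1 n) hx
    have hcu : ∀ n, PBH8.cUV f (Gn G n) (le_refl _) (x.1 n) = 0 := fun n => by
      have h1 := hkey n (x.1 n)
      rw [hx0 n, app_zero'] at h1
      apply app_injective_of_iso (β.app (op n)) (f ⁻¹ᵁ W)
      show (β.hom.app (op n)).app (f ⁻¹ᵁ W) _ = (β.hom.app (op n)).app (f ⁻¹ᵁ W) 0
      rw [← h1, app_zero']
    have h2 := hL.1 (fun n => x.1 n) (fun n => x.2 n (n + 1) (Nat.le_succ n)) hcu k hk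
    exact Subtype.ext (funext h2)
  have hcok : ∀ p : Lsub (secSysR W (Formal.completion J
      ((Scheme.Modules.pushforward f).obj F))), ∀ k ∈ (K.ideal ⟨W, hW⟩) ^ t,
      ∃ x : Lsub (secSysR W G), Lmap a x = k • p := by
    intro p k hk
    obtain ⟨u, hu⟩ : ∃ u : ∀ n, Γ(Gn (Formal.completion J F) n, f ⁻¹ᵁ W),
        ∀ n, u n = (δ.app (op n)).app W (p.1 n) := ⟨fun n => (δ.app (op n)).app W (p.1 n),
          fun n => rfl⟩
    have huc : ∀ n, (tG (Formal.completion J F) n).app (f ⁻¹ᵁ W) (u (n + 1)) = u n := by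
      intro n
      have n2 : tG (Formal.completion J ((Scheme.Modules.pushforward f).obj F)) n ≫
          δ.app (op n) = δ.app (op (n + 1)) ≫
            (Scheme.Modules.pushforward f).map (tG (Formal.completion J F) n) :=
        δ.naturality _
      have h1 : (δ.app (op n)).app W
          ((tG (Formal.completion J ((Scheme.Modules.pushforward f).obj F)) n).app W
            (p.1 (n + 1))) =
          ((Scheme.Modules.pushforward f).map (tG (Formal.completion J F) n)).app W
            ((δ.app (op (n + 1))).app W (p.1 (n + 1))) :=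
        congrArg (fun ψ => ψ.app W (p.1 (n + 1))) n2
      have h2 : (tG (Formal.completion J ((Scheme.Modules.pushforward f).obj F)) n).app W
          (p.1 (n + 1)) = p.1 n := p.2 n (n + 1) (Nat.le_succ n)
      rw [h2] at h1
      rw [hu n, hu (n + 1)]
      exact h1.symm
    have hy : ∀ n, ((Scheme.Modules.pullback f).map (tG G n)).app (f ⁻¹ᵁ W)
        ((β.inv.app (op (n + 1))).app (f ⁻¹ᵁ W) (u (n + 1))) =
        (β.inv.app (op n)).app (f ⁻¹ᵁ W) (u n) := by
      intro n
      have n1 : tG (Formal.completion J F) n ≫ β.inv.app (op n) =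
          β.inv.app (op (n + 1)) ≫ (Scheme.Modules.pullback f).map (tG G n) :=
        β.inv.naturality _
      have h2 : (β.inv.app (op n)).app (f ⁻¹ᵁ W)
          ((tG (Formal.completion J F) n).app (f ⁻¹ᵁ W) (u (n + 1))) =
          ((Scheme.Modules.pullback f).map (tG G n)).app (f ⁻¹ᵁ W)
            ((β.inv.app (op (n + 1))).app (f ⁻¹ᵁ W) (u (n + 1))) :=
        congrArg (fun ψ => ψ.app (f ⁻¹ᵁ W) (u (n + 1))) n1
      rw [← h2, huc n]
    obtain ⟨x, hxc, hx⟩ := hL.2 (fun n => (β.inv.app (op n)).app (f ⁻¹ᵁ W) (u n)) hy k hk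
    refine ⟨⟨x, mem_Lsub_of_succ (secSysR W G) x hxc⟩, ?_⟩
    rw [← sub_eq_zero]
    apply hδinj
    intro n
    show (δ.app (op n)).app W ((a.app (op n)).hom (x n) - k • p.1 n) = 0
    rw [ha n, app_sub', hkey n (x n), hx n, Scheme.Modules.Hom.app_smul,
      Scheme.Modules.Hom.app_smul, ← comp_app', Iso.inv_hom_id_app, ← hu n, sub_eq_zero]
    have happ : f.appLE W (f ⁻¹ᵁ W) (le_refl _) = f.app W := f.appLE_eq_app
    rw [happ]
    rfl
  have hfl := finite_level_bound a (JU A J W) (IsNoetherian.noetherian _) hSN hZN hSP hKP hZP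
    (K.ideal ⟨W, hW⟩) t hker hcok
  refine ⟨t + t, fun n => ⟨fun x hx k hk => ?_, fun p k hk => ?_⟩⟩
  · exact (hfl n).1 x ((ha n x).trans hx) k hk
  · obtain ⟨x, hx⟩ := (hfl n).2 p k (Ideal.pow_le_pow_right (Nat.le_add_right t t) hk)
    exact ⟨x, (ha n x).symm.trans hx⟩

end Assembly

section Main

/-- **S0831** (Stacks 30.25.3): the push–pull comparison of inverse systems -/
theorem main0831 (A : Type u) [CommRing A] (J : Ideal A) (X Y : Scheme.{u})
    [X.Over (Spec (CommRingCat.of A))] [Y.Over (Spec (CommRingCat.of A))]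
    [AlgebraicGeometry.IsNoetherian Y]
    (f : X ⟶ Y) [IsProper f]
    (hf : f ≫ (Y ↘ Spec (CommRingCat.of A)) = X ↘ Spec (CommRingCat.of A))
    (K : Y.IdealSheafData) (hV : IsIso (f ∣_ K.support.compl))
    (G : ℕᵒᵖ ⥤ Y.Modules) (hG : Formal.IsCohFormal J G) (F : X.Modules) (hF : Coh.IsCoh F)
    (β : (G ⋙ Scheme.Modules.pullback f) ≅ Formal.completion J F) :
    ∃ α : G ⟶ Formal.completion J ((Scheme.Modules.pushforward f).obj F),
      Formal2.KerCokerKilledByPow K α := by
  classical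
  obtain ⟨δ, hδ⟩ := exists_delta J f hf F
  obtain ⟨γ, hγ⟩ := exists_gamma J f G F β
  obtain ⟨α, hα⟩ := exists_alpha J f hf hF δ hδ hG γ
  have hα' : ∀ n, α.app (op n) ≫ δ.app (op n) =
      (Scheme.Modules.pullbackPushforwardAdjunction f).unit.app (Gn G n) ≫
        (Scheme.Modules.pushforward f).map (β.hom.app (op n)) := by
    intro n
    rw [← NatTrans.comp_app, hα, hγ n]
  have hE := isCoh_pushforward f hF
  have hcE := Groth.Agent.Lib.AlgzExtH2.isCohFormal_completion J _ hE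
  obtain ⟨S, hSfin, hS, hcov⟩ := exists_finite_affine_cover (X := Y)
  have h' : ∀ W : Y.Opens, ∃ t : ℕ, ∀ hW : W ∈ S, ∀ n,
      (∀ x : Γ(Gn G n, W), (α.app (op n)).app W x = 0 →
        ∀ k ∈ (K.ideal ⟨W, hS W hW⟩) ^ t, k • x = 0) ∧
      (∀ p : Γ(Gn (Formal.completion J ((Scheme.Modules.pushforward f).obj F)) n, W),
        ∀ k ∈ (K.ideal ⟨W, hS W hW⟩) ^ t,
          ∃ x : Γ(Gn G n, W), (α.app (op n)).app W x = k • p) := by
    intro W
    by_cases hW : W ∈ S
    · obtain ⟨t, ht⟩ := exists_level_bound_affine J f hf K hV hG hF β δ hδ α hα' (hS W hW)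
      exact ⟨t, fun _ => ht⟩
    · exact ⟨0, fun h => absurd h hW⟩
  choose tf htf using h'
  refine ⟨α, hSfin.toFinset.sup tf, fun n => ⟨?_, ?_⟩⟩
  · have hcoh : Coh.IsCoh (kernel (α.app (op n))) :=
      CohKerH8.isCoh_kernel (hG.1 n) (hcE.1 n) _
    refine killedByIdeal_of_cover K hcoh S hS hcov _ (fun W hW a ha z => ?_)
    have hle : tf W ≤ hSfin.toFinset.sup tf + 1 :=
      (Finset.le_sup (hSfin.mem_toFinset.mpr hW)).trans (Nat.le_succ _)
    apply sl_injective_of_mono (kernel.ι (α.app (op n))) W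
    rw [map_smul, map_zero]
    refine (htf W hW n).1 _ ?_ a (Ideal.pow_le_pow_right hle ha)
    show (α.app (op n)).app W ((kernel.ι (α.app (op n))).app W z) = 0
    rw [← comp_app', kernel.condition]
    exact zero_app' W z
  · have hcoh : Coh.IsCoh (cokernel (α.app (op n))) :=
      CohKerH8.isCoh_cokernel (hG.1 n) (hcE.1 n) _
    haveI := (hcE.1 n).1
    haveI := hcoh.1
    refine killedByIdeal_of_cover K hcoh S hS hcov _ (fun W hW a ha z => ?_)
    have hle : tf W ≤ hSfin.toFinset.sup tf + 1 :=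
      (Finset.le_sup (hSfin.mem_toFinset.mpr hW)).trans (Nat.le_succ _)
    obtain ⟨p, hp⟩ := sl_surjective_of_epi (cokernel.π (α.app (op n))) (hS W hW) z
    obtain ⟨x, hx⟩ := (htf W hW n).2 p a (Ideal.pow_le_pow_right hle ha)
    rw [← hp, ← map_smul]
    show (cokernel.π (α.app (op n))).app W (a • p) = 0
    rw [← hx, ← comp_app', cokernel.condition]
    exact zero_app' W x

end Main

end Groth.Agent.Lib.GExH2
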