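import Mathlib

/-!
# Quasi-compactness from locally Noetherian spaces (helper6)
-/

set_option autoImplicit false
universe u
open CategoryTheory CategoryTheory.Limits AlgebraicGeometry Opposite TopologicalSpace Topology

namespace Groth.Agent.Lib.SchNoeth_helper6

/-- A compact subset of a space all of whose points have Noetherian open neighbourhoods is a
Noetherian space. -/
theorem noetherianSpace_of_isCompact_of_locNoeth {α : Type*} [TopologicalSpace α] {K : Set α}
    (hK : IsCompact K)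
    (h : ∀ x ∈ K, ∃ U : Set α, IsOpen U ∧ x ∈ U ∧ NoetherianSpace U) : NoetherianSpace K := by
  choose! V hVo hxV hVn using h
  obtain ⟨b', hb'K, hb'fin, hcov⟩ := hK.elim_finite_subcover_image (b := K) (c := V)
    (fun x hx => hVo x hx) (fun x hx => Set.mem_biUnion hx (hxV x hx))
  haveI : Finite b' := hb'fin
  haveI : ∀ i : b', NoetherianSpace (V i) := fun i => hVn i (hb'K i.2)
  haveI : NoetherianSpace (⋃ i : b', V i) := NoetherianSpace.iUnion _
  rw [Set.biUnion_eq_iUnion] at hcov
  exact NoetherianSpace.of_subset hcov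

theorem quasiCompact_of_comp_of_locNoeth {X Y Z : Scheme.{u}} (f : X ⟶ Y) (g : Y ⟶ Z)
    [QuasiCompact (f ≫ g)]
    (hX : ∀ x : X, ∃ U : X.Opens, x ∈ U ∧ NoetherianSpace U) : QuasiCompact f := by
  refine ⟨fun U hUo hUc => ?_⟩
  have key : ∀ W : Z.affineOpens, NoetherianSpace ((f ≫ g) ⁻¹' (W.1 : Set Z)) := by
    intro W
    apply noetherianSpace_of_isCompact_of_locNoeth
    · exact QuasiCompact.isCompact_preimage (f := f ≫ g) _ W.1.isOpen W.2.isCompact
    · intro x _
      obtain ⟨V, hxV, hV⟩ := hX x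
      exact ⟨V, V.isOpen, hxV, hV⟩
  obtain ⟨t, ht⟩ := hUc.elim_finite_subcover (fun W : Z.affineOpens => g ⁻¹' (W.1 : Set Z))
    (fun W => W.1.isOpen.preimage g.continuous) (by
      intro y _
      obtain ⟨W, hW, hyW, -⟩ := exists_isAffineOpen_mem_and_subset (x := g y) (U := ⊤) trivial
      exact Set.mem_iUnion.2 ⟨⟨W, hW⟩, hyW⟩)
  have : f ⁻¹' U = ⋃ W ∈ t, (f ⁻¹' U ∩ (f ≫ g) ⁻¹' (W.1 : Set Z)) := by
    ext x
    simp only [Set.mem_preimage, Set.mem_iUnion, Set.mem_inter_iff, exists_and_left, exists_prop]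
    constructor
    · intro hx
      obtain ⟨W, hWt, hW⟩ := Set.mem_iUnion₂.1 (ht hx)
      exact ⟨hx, W, hWt, by simpa using hW⟩
    · exact fun h => h.1
  rw [this]
  refine t.isCompact_biUnion fun W _ => ?_
  exact (noetherianSpace_set_iff _).1 (key W) _ Set.inter_subset_right

theorem quasiCompact_of_isImmersion_of_locNoeth {X Y : Scheme.{u}} (f : X ⟶ Y) [IsImmersion f]
    (hY : ∀ y : Y, ∃ U : Y.Opens, y ∈ U ∧ NoetherianSpace U) : QuasiCompact f := by
  refine ⟨fun U hUo hUc => ?_⟩
  haveI : NoetherianSpace U := noetherianSpace_of_isCompact_of_locNoeth hUc (fun y _ => by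
    obtain ⟨V, hyV, hV⟩ := hY y
    exact ⟨V, V.isOpen, hyV, hV⟩)
  rw [← Set.preimage_inter_range]
  apply f.isEmbedding.isInducing.isCompact_preimage'
  · exact (noetherianSpace_set_iff _).1 ‹_› _ Set.inter_subset_left
  · exact Set.inter_subset_right

theorem exists_noetherian_nbhd {X : Scheme.{u}} [IsLocallyNoetherian X] (x : X) :
    ∃ U : X.Opens, x ∈ U ∧ NoetherianSpace U := by
  obtain ⟨W, hW, hxW, -⟩ := exists_isAffineOpen_mem_and_subset (x := x) (U := ⊤) trivial
  haveI : IsNoetherianRing Γ(X, W) := IsLocallyNoetherian.component_noetherian ⟨W, hW⟩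
  exact ⟨W, hxW, noetherianSpace_of_isAffineOpen W hW⟩

theorem wellFoundedGT_pi {ι : Type*} [Finite ι] {α : ι → Type*} [∀ i, Preorder (α i)]
    [∀ i, WellFoundedGT (α i)] : WellFoundedGT (∀ i, α i) :=
  ⟨(Pi.wellFoundedLT (α := fun i => (α i)ᵒᵈ)).wf⟩

theorem wellFoundedGT_idealSheafData (X : Scheme.{u}) [IsNoetherian X] :
    WellFoundedGT X.IdealSheafData := by
  let 𝒰 := X.affineCover.finiteSubcover
  have haff : ∀ i, IsAffine (𝒰.X i) := by
    intro i
    rw [X.affineCover.finiteSubcover_X]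
    apply Scheme.isAffine_affineCover
  let U : 𝒰.I₀ → X.affineOpens := fun i =>
    ⟨(𝒰.f i).opensRange, by haveI := haff i; exact isAffineOpen_opensRange _⟩
  have hU : ⨆ i, (U i).1 = ⊤ := 𝒰.iSup_opensRange
  haveI : ∀ i, IsNoetherianRing Γ(X, (U i).1) :=
    fun i => IsLocallyNoetherian.component_noetherian (U i)
  let φ : X.IdealSheafData → (∀ i, Ideal Γ(X, (U i).1)) := fun I i => I.ideal (U i)
  have hφ : StrictMono φ := by
    apply Monotone.strictMono_of_injective
    · intro I J h i; exact h (U i)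
    · intro I J h
      exact Scheme.IdealSheafData.ext_of_iSup_eq_top U hU (fun i => congrFun h i)
  haveI : WellFoundedGT (∀ i, Ideal Γ(X, (U i).1)) := wellFoundedGT_pi
  exact hφ.wellFoundedGT

end Groth.Agent.Lib.SchNoeth_helper6
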