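import Mathlib
import Groth.Prelude
import Groth.Agent.Lib.GEx12_helper2
import Groth.Agent.Lib.ProperFin7_helper9
import Groth.Agent.Lib.PnOver_helper5
import Groth.Agent.Lib.SchNoeth_helper6
import Groth.Agent.Lib.CohDev16_helper8
import Groth.Agent.S0025
import Groth.Agent.S0060
import Groth.Agent.S0061

/-!
# Grothendieck's existence theorem for proper schemes: essential surjectivity (helper2)

Noetherian induction on closed subschemes, Chow's lemma, the projective case (S0061), the push–pull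
step (`main0831`) and the two-ideal step (`main0830`).

* `isZero_of_isEmpty`, `ker_eq_bot_of_ker_comp_eq`, `support_compl_vanishingIdeal`,
  `vanishingIdeal_pow_ne_bot`;
* `isQuot_pushforward`, `isComplOf_pushforward`, `exists_completion_pushforward_iso` : completion commutes
  with pushforward along a closed immersion;
* `nonempty_iso_pull_push`;
* `exists_chow_proj` : Chow's lemma with a closed immersion into `P^n_A`;
* `step0004`, `main0004b`.
APPEND-ONLY once landed.
-/

set_option autoImplicit false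
set_option backward.isDefEq.respectTransparency false
set_option linter.style.haveILetI false
set_option linter.unusedSectionVars false
universe u
open CategoryTheory CategoryTheory.Limits AlgebraicGeometry TopologicalSpace Opposite

namespace Groth.Agent.Lib.GExH2

open Formal Groth.Agent.Lib.FormalModPowH4 Groth.Agent.Lib.FormalFnH2 Groth.Agent.Lib.FibAmpH2
  Groth.Agent.Lib.FlatBCH2 Groth.Agent.Lib.FibVanH2 Groth.Agent.Lib.FormalQuotH2
  Groth.Agent.Lib.AdicSysH2 Groth.Agent.Lib.LimTruncH2 QcqsLoc Groth.Agent.Lib.ThickH2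

section Empty

theorem isZero_of_isEmpty {X : Scheme.{u}} [IsEmpty X] (F : X.Modules) : IsZero F :=
  CohDevH8.isZero_of_support_eq_empty F (Set.eq_empty_of_isEmpty _)

end Empty

section Ker

theorem ker_eq_bot_of_ker_comp_eq {Z' Z X : Scheme.{u}} (j : Z' ⟶ Z) (i : Z ⟶ X)
    [IsClosedImmersion i] (h : (j ≫ i).ker = i.ker) : j.ker = ⊥ := by
  rw [Scheme.Hom.ker_comp, ← Scheme.IdealSheafData.map_bot i] at h
  refine le_bot_iff.mp ?_
  refine Scheme.IdealSheafData.le_of_iSup_eq_top
    (fun U : X.affineOpens => (⟨i ⁻¹ᵁ U.1, U.2.preimage i⟩ : Z.affineOpens)) ?_ ?_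
  · rw [eq_top_iff]
    intro z _
    obtain ⟨_, ⟨U, hU, rfl⟩, hzU, -⟩ := X.isBasis_affineOpens.exists_subset_of_mem_open
      (Set.mem_univ (i z)) isOpen_univ
    exact TopologicalSpace.Opens.mem_iSup.mpr ⟨⟨U, hU⟩, hzU⟩
  · intro U
    have h1 := Scheme.IdealSheafData.ideal_map_of_isAffineHom j.ker i U
    have h2 := Scheme.IdealSheafData.ideal_map_of_isAffineHom (⊥ : Z.IdealSheafData) i U
    rw [h] at h1
    have h3 := h1.symm.trans h2
    have hs : Function.Surjective (i.app U.1).hom := i.app_surjective U.1 U.2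
    exact (Ideal.comap_injective_of_surjective _ hs h3).le

end Ker

section Van

theorem support_compl_vanishingIdeal {Z : Scheme.{u}} (U : Z.Opens) :
    (Scheme.IdealSheafData.vanishingIdeal
      ⟨(U : Set Z)ᶜ, U.isOpen.isClosed_compl⟩).support.compl = U := by
  apply Opens.ext
  show (((Scheme.IdealSheafData.vanishingIdeal
    ⟨(U : Set Z)ᶜ, U.isOpen.isClosed_compl⟩).support : Closeds Z) : Set Z)ᶜ = (U : Set Z)
  rw [Scheme.IdealSheafData.coe_support_vanishingIdeal]
  exact compl_compl _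

theorem vanishingIdeal_pow_ne_bot {Z : Scheme.{u}} [Nonempty Z] (U : Z.Opens)
    (hU : Dense (U : Set Z)) (e : ℕ) :
    (Scheme.IdealSheafData.vanishingIdeal
      ⟨(U : Set Z)ᶜ, U.isOpen.isClosed_compl⟩) ^ e ≠ ⊥ := by
  intro h
  have h1 : (((Scheme.IdealSheafData.vanishingIdeal
      ⟨(U : Set Z)ᶜ, U.isOpen.isClosed_compl⟩) ^ e).support : Set Z) = Set.univ := by
    rw [h, Scheme.IdealSheafData.support_bot]
    rfl
  rcases Nat.eq_zero_or_pos e with he | he
  · subst he
    rw [pow_zero, Scheme.IdealSheafData.one_eq_top, Scheme.IdealSheafData.support_top] at h1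
    exact Set.empty_ne_univ h1
  · rw [Scheme.IdealSheafData.support_pow _ e he.ne',
      Scheme.IdealSheafData.coe_support_vanishingIdeal] at h1
    have h2 : (U : Set Z) = ∅ := Set.compl_univ_iff.mp h1
    have h3 := hU.nonempty
    rw [h2] at h3
    exact Set.not_nonempty_empty h3

end Van

section Push

variable {A : Type u} [CommRing A] {Z Z' : Scheme.{u}} [Z.Over (Spec (CommRingCat.of A))]
  [Z'.Over (Spec (CommRingCat.of A))] (j : Z' ⟶ Z) [IsClosedImmersion j]
  (hj : j ≫ (Z ↘ Spec (CommRingCat.of A)) = (Z' ↘ Spec (CommRingCat.of A)))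

include hj in
theorem isQuot_pushforward {J : Ideal A} {M N : Z'.Modules} {t : M ⟶ N} (ht : IsQuot J t) :
    IsQuot J ((Scheme.Modules.pushforward j).map t) := by
  haveI := ClAdjH8.preservesColimits_modules_pushforward j
  haveI := ht.2.1
  obtain ⟨h0, hiso⟩ := ht.cond
  haveI := hiso
  refine ⟨fun a ha => ?_, inferInstance, fun Z₀ g hg => ?_⟩
  · rw [← push_smulMod' j hj, ← Functor.map_comp, ht.1 a ha, Functor.map_zero]
  · have hz : (Scheme.Modules.pushforward j).map (Formal.smulFamily J M) ≫ g = 0 := by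
      haveI : IsIso (sigmaComparison (Scheme.Modules.pushforward j) (fun _ : J => M)) :=
        inferInstance
      rw [← cancel_epi (sigmaComparison (Scheme.Modules.pushforward j) (fun _ : J => M)),
        ← Category.assoc, sigmaComparison_smulFamily j hj, comp_zero]
      exact smulFamily_comp_eq_zero J g hg
    refine ⟨(Scheme.Modules.pushforward j).map (inv (cokernel.desc _ t h0)) ≫
      (PreservesCokernel.iso (Scheme.Modules.pushforward j) (Formal.smulFamily J M)).hom ≫
        cokernel.desc _ g hz, ?_⟩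
    have e1 : (Scheme.Modules.pushforward j).map t ≫
        (Scheme.Modules.pushforward j).map (inv (cokernel.desc _ t h0)) =
        (Scheme.Modules.pushforward j).map (cokernel.π (Formal.smulFamily J M)) := by
      rw [← Functor.map_comp]
      congr 1
      rw [IsIso.comp_inv_eq, cokernel.π_desc]
    rw [← Category.assoc, e1, ← Category.assoc, PreservesCokernel.π_iso_hom, cokernel.π_desc]

include hj in
theorem isComplOf_pushforward {I : Ideal A} {M : Z'.Modules} {G : ℕᵒᵖ ⥤ Z'.Modules}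
    {τ : ∀ n, M ⟶ Gn G n} (h : IsComplOf I M G τ) :
    IsComplOf I ((Scheme.Modules.pushforward j).obj M) (G ⋙ Scheme.Modules.pushforward j)
      (fun n => (Scheme.Modules.pushforward j).map (τ n)) where
  quot n := isQuot_pushforward j hj (h.quot n)
  comp n := by
    show (Scheme.Modules.pushforward j).map (τ (n + 1)) ≫
      (Scheme.Modules.pushforward j).map (tG G n) = _
    rw [← Functor.map_comp, h.comp n]

include hj in
theorem exists_completion_pushforward_iso (I : Ideal A) (M : Z'.Modules) :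
    Nonempty (Formal.completion I ((Scheme.Modules.pushforward j).obj M) ≅
      Formal.completion I M ⋙ Scheme.Modules.pushforward j) := by
  obtain ⟨β, -⟩ := (isComplOf_pushforward j hj (isComplOf_completion I M)).exists_iso
  exact ⟨β⟩

end Push

section PullPush

theorem nonempty_iso_pull_push {Z Z' : Scheme.{u}} (j : Z' ⟶ Z) [IsClosedImmersion j]
    (G : ℕᵒᵖ ⥤ Z.Modules) (hq : ∀ k, (G.obj k).IsQuasicoherent)
    (hk : ∀ k, ClSub.KilledByIdeal j.ker (G.obj k)) :
    Nonempty (G ≅ (G ⋙ Scheme.Modules.pullback j) ⋙ Scheme.Modules.pushforward j) := by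
  haveI : ∀ k, IsIso ((Scheme.Modules.pullbackPushforwardAdjunction j).unit.app (G.obj k)) :=
    fun k => haveI := hq k; ClPushH8.isIso_unit j _ (hk k)
  exact ⟨NatIso.ofComponents
    (fun k => asIso ((Scheme.Modules.pullbackPushforwardAdjunction j).unit.app (G.obj k)))
    (fun f => ((Scheme.Modules.pullbackPushforwardAdjunction j).unit.naturality (G.map f)))⟩

end PullPush

section Step

open CohB1

variable (A : Type u) [CommRing A] [IsNoetherianRing A]

theorem exists_chow_proj (Z : Scheme.{u})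
    [Z.Over (Spec (CommRingCat.of A))] [IsProper (Z ↘ Spec (CommRingCat.of A))] :
    ∃ (n : ℕ) (X' : Scheme.{u}) (π : X' ⟶ Z) (i' : X' ⟶ CohB1.ProjSpace n A),
      IsClosedImmersion i' ∧
      i' ≫ CohB1.ProjSpace.toSpec n A = π ≫ (Z ↘ Spec (CommRingCat.of A)) ∧
      IsProper π ∧ ∃ U : Z.Opens, Dense (U : Set Z) ∧ IsIso (π ∣_ U) := by
  obtain ⟨n, X', π, j, hj, hcomp, hπ, -, U, hU, hiso⟩ :=
    Groth.Agent.S0025.result (Z ↘ Spec (CommRingCat.of A))
  haveI := hj
  haveI := hπ
  have hjc : IsClosedImmersion j :=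
    (ProperFinH9.exists_closedImmersion_of_chow n (Z ↘ Spec (CommRingCat.of A)) π j hcomp).1
  have h1 : Spec.map (CommRingCat.ofHom (Groth.Agent.PnOver.zHom A)) =
      specULiftZIsTerminal.from (Spec (CommRingCat.of A)) := specULiftZIsTerminal.hom_ext _ _
  have hpb : IsPullback (Groth.Agent.ProjBCn.projMapH n (Groth.Agent.PnOver.zHom A))
      (CohB1.ProjSpace.toSpec n A) (CohB1.ProjSpace.toSpec n (ULift.{u} ℤ))
      (specULiftZIsTerminal.from (Spec (CommRingCat.of A))) := by
    rw [← h1]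
    exact Groth.Agent.ProjBCn.isPullback_projMapH n (Groth.Agent.PnOver.zHom A)
  refine ⟨n, X', π, j ≫ hpb.isoPullback.inv, ?_, ?_, hπ, U, hU, hiso⟩
  · haveI := hjc
    infer_instance
  · rw [Category.assoc, hpb.isoPullback_inv_snd]
    exact hcomp

variable (I : Ideal A) [IsAdicComplete I A]

/-- the induction step -/
theorem step0004 (Z : Scheme.{u}) [Z.Over (Spec (CommRingCat.of A))]
    [IsProper (Z ↘ Spec (CommRingCat.of A))]
    (IH : ∀ (Z' : Scheme.{u}) [Z'.Over (Spec (CommRingCat.of A))] (j : Z' ⟶ Z)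
      [IsClosedImmersion j],
      j ≫ (Z ↘ Spec (CommRingCat.of A)) = (Z' ↘ Spec (CommRingCat.of A)) → j.ker ≠ ⊥ →
      ∀ G' : ℕᵒᵖ ⥤ Z'.Modules, Formal.IsCohFormal I G' →
        ∃ M : Z'.Modules, Coh.IsCoh M ∧ Nonempty (Formal.completion I M ≅ G'))
    (G : ℕᵒᵖ ⥤ Z.Modules) (hG : Formal.IsCohFormal I G) :
    ∃ M : Z.Modules, Coh.IsCoh M ∧ Nonempty (Formal.completion I M ≅ G) := by
  classical
  haveI : AlgebraicGeometry.IsNoetherian Z :=
    { __ := LocallyOfFiniteType.isLocallyNoetherian (Z ↘ Spec (CommRingCat.of A))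
      __ := QuasiCompact.compactSpace_of_compactSpace (Z ↘ Spec (CommRingCat.of A)) }
  rcases isEmpty_or_nonempty Z with hZ | hZ
  · have hz : ∀ F : Z.Modules, IsZero F := fun F => isZero_of_isEmpty F
    exact ⟨G.obj (op 0), hG.1 0, ⟨NatIso.ofComponents (fun k => (hz _).iso (hz _))
      (fun f => (hz _).eq_of_src _ _)⟩⟩
  obtain ⟨n, X', π, i', hi'cl, hi', hπ, U, hU, hiso⟩ := exists_chow_proj A Z
  haveI := hi'cl
  haveI := hπ
  letI : X'.Over (Spec (CommRingCat.of A)) := ⟨π ≫ (Z ↘ Spec (CommRingCat.of A))⟩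
  have hπo : π ≫ (Z ↘ Spec (CommRingCat.of A)) = (X' ↘ Spec (CommRingCat.of A)) := rfl
  have hG₁ := main0835 A I X' Z π hπo G hG
  obtain ⟨F', hF', ⟨β'⟩⟩ :=
    Groth.Agent.S0061.result A I n X' i' hi' (G ⋙ Scheme.Modules.pullback π) hG₁
  obtain ⟨K, hK⟩ : ∃ K : Z.IdealSheafData, K = Scheme.IdealSheafData.vanishingIdeal
      ⟨(U : Set Z)ᶜ, U.isOpen.isClosed_compl⟩ := ⟨_, rfl⟩
  have hKU : K.support.compl = U := by
    rw [hK]
    exact support_compl_vanishingIdeal U
  have hV : IsIso (π ∣_ K.support.compl) := by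
    rw [hKU]
    exact hiso
  obtain ⟨α, hα⟩ := main0831 A I X' Z π hπo K hV G hG F' hF' β'.symm
  refine main0830 A I Z K G hG (fun e => ⟨fun M N hM hN _ _ ψ =>
    Groth.Agent.S0060.result A I Z M N hM hN ψ, fun G' hG' hk => ?_⟩)
    ⟨_, α, isCoh_pushforward π hF', hα⟩
  -- existence for systems killed by `K^e`
  have hne : K ^ e ≠ ⊥ := by
    rw [hK]
    exact vanishingIdeal_pow_ne_bot U hU e
  letI : (K ^ e).subscheme.Over (Spec (CommRingCat.of A)) :=
    ⟨(K ^ e).subschemeι ≫ (Z ↘ Spec (CommRingCat.of A))⟩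
  have hjo : (K ^ e).subschemeι ≫ (Z ↘ Spec (CommRingCat.of A)) =
      ((K ^ e).subscheme ↘ Spec (CommRingCat.of A)) := rfl
  have hker : (K ^ e).subschemeι.ker = K ^ e := Scheme.IdealSheafData.ker_subschemeι _
  obtain ⟨M'', hM'', ⟨β''⟩⟩ := IH (K ^ e).subscheme (K ^ e).subschemeι hjo
    (by rw [hker]; exact hne)
    (G' ⋙ Scheme.Modules.pullback (K ^ e).subschemeι)
    (main0835 A I (K ^ e).subscheme Z (K ^ e).subschemeι hjo G' hG')
  refine ⟨(Scheme.Modules.pushforward (K ^ e).subschemeι).obj M'',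
    CohDevH8.isCoh_pushforward_of_isFinite _ hM'', ?_, ?_⟩
  · have := killedByIdeal_pushforward (K ^ e).subschemeι M''
    rwa [hker] at this
  · obtain ⟨e1⟩ := exists_completion_pushforward_iso (K ^ e).subschemeι hjo I M''
    obtain ⟨e2⟩ := nonempty_iso_pull_push (K ^ e).subschemeι G'
      (fun k => (hG'.1 k.unop).1) (fun k => by rw [hker]; exact hk k.unop)
    exact ⟨e1 ≪≫ Functor.isoWhiskerRight β'' _ ≪≫ e2.symm⟩

/-- the induction predicate -/
def Q0004 (X : Scheme.{u}) [X.Over (Spec (CommRingCat.of A))] (𝒦 : X.IdealSheafData) : Prop :=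
  ∀ (Z : Scheme.{u}) [Z.Over (Spec (CommRingCat.of A))] (i : Z ⟶ X) [IsClosedImmersion i],
    i ≫ (X ↘ Spec (CommRingCat.of A)) = (Z ↘ Spec (CommRingCat.of A)) → i.ker = 𝒦 →
    ∀ G : ℕᵒᵖ ⥤ Z.Modules, Formal.IsCohFormal I G →
      ∃ M : Z.Modules, Coh.IsCoh M ∧ Nonempty (Formal.completion I M ≅ G)

/-- **S0004 (b)**: essential surjectivity in Grothendieck's existence theorem. -/
theorem main0004b (X : Scheme.{u}) [X.Over (Spec (CommRingCat.of A))]
    [IsProper (X ↘ Spec (CommRingCat.of A))]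
    (G : ℕᵒᵖ ⥤ X.Modules) (hG : Formal.IsCohFormal I G) :
    ∃ M : X.Modules, Coh.IsCoh M ∧ Nonempty (Formal.completion I M ≅ G) := by
  haveI : AlgebraicGeometry.IsNoetherian X :=
    { __ := LocallyOfFiniteType.isLocallyNoetherian (X ↘ Spec (CommRingCat.of A))
      __ := QuasiCompact.compactSpace_of_compactSpace (X ↘ Spec (CommRingCat.of A)) }
  haveI := Groth.Agent.Lib.SchNoeth_helper6.wellFoundedGT_idealSheafData X
  have key : ∀ 𝒦 : X.IdealSheafData, Q0004 A I X 𝒦 := by
    intro 𝒦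
    refine WellFoundedGT.induction (motive := Q0004 A I X) 𝒦 ?_
    intro 𝒦 IH Z _ i _ hi hker G hG
    haveI : IsProper (Z ↘ Spec (CommRingCat.of A)) := by
      rw [← hi]
      infer_instance
    refine step0004 A I Z ?_ G hG
    intro Z' _ j _ hj hne G' hG'
    have hlt : 𝒦 < (j ≫ i).ker := by
      rw [← hker]
      refine lt_of_le_of_ne (Scheme.Hom.le_ker_comp j i) ?_
      intro h
      exact hne (ker_eq_bot_of_ker_comp_eq j i h.symm)
    exact IH _ hlt Z' (j ≫ i) (by rw [Category.assoc, hi, hj]) rfl G' hG'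
  exact key ⊥ X (𝟙 X) (Category.id_comp _) (Scheme.Hom.ker_eq_bot_of_isIso _) G hG

end Step

end Groth.Agent.Lib.GExH2
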