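import Mathlib

set_option autoImplicit false
universe u

namespace Groth.Agent.Lib.AdicProj

open Submodule

section
variable {A : Type*} [CommRing A]

theorem map_mem_smul_top {M N : Type*} [AddCommGroup M] [Module A M] [AddCommGroup N]
    [Module A N] (J : Ideal A) (f : M →ₗ[A] N) {x : M} (hx : x ∈ (J • ⊤ : Submodule A M)) :
    f x ∈ (J • ⊤ : Submodule A N) := by
  have hle : Submodule.map f (J • ⊤ : Submodule A M) ≤ (J • ⊤ : Submodule A N) := by
    rw [Submodule.map_smul'']
    exact Submodule.smul_mono le_rfl le_top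
  exact hle ⟨x, hx, rfl⟩

theorem smul_top_self (J : Ideal A) : (J • ⊤ : Submodule A A) = J := by
  rw [smul_eq_mul, Ideal.mul_top]

theorem mem_smul_top_pi {r : ℕ} (J : Ideal A) (x : Fin r → A) :
    x ∈ (J • ⊤ : Submodule A (Fin r → A)) ↔ ∀ i, x i ∈ J := by
  constructor
  · intro hx i
    have h := map_mem_smul_top J (LinearMap.proj (R := A) (φ := fun _ : Fin r => A) i) hx
    rw [smul_top_self] at h
    exact h
  · intro hx
    rw [pi_eq_sum_univ x]
    refine Submodule.sum_mem _ fun i _ => ?_
    exact Submodule.smul_mem_smul (hx i) Submodule.mem_top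

theorem isAdicComplete_pi (I : Ideal A) [IsAdicComplete I A] (r : ℕ) :
    IsAdicComplete I (Fin r → A) := by
  have hH : IsHausdorff I (Fin r → A) := by
    refine ⟨fun x hx => ?_⟩
    funext i
    apply IsHausdorff.haus' (I := I) (x i)
    intro n
    rw [SModEq.zero]
    have := hx n
    rw [SModEq.zero, mem_smul_top_pi] at this
    rw [smul_top_self]; exact this i
  have hP : IsPrecomplete I (Fin r → A) := by
    refine ⟨fun f hf => ?_⟩
    have hcoord : ∀ i, ∃ L : A, ∀ n, f n i ≡ L [SMOD (I ^ n • ⊤ : Submodule A A)] := by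
      intro i
      apply IsPrecomplete.prec' (I := I) (fun n => f n i)
      intro m n hmn
      have := hf hmn
      rw [SModEq.sub_mem, mem_smul_top_pi] at this
      rw [SModEq.sub_mem, smul_top_self]
      exact this i
    choose L hL using hcoord
    refine ⟨L, fun n => ?_⟩
    rw [SModEq.sub_mem, mem_smul_top_pi]
    intro i
    have := hL i n
    rw [SModEq.sub_mem, smul_top_self] at this
    exact this
  exact { toIsHausdorff := hH, toIsPrecomplete := hP }

theorem isAdicComplete_of_retract (I : Ideal A) {Q F : Type*} [AddCommGroup Q] [Module A Q]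
    [AddCommGroup F] [Module A F] [IsAdicComplete I F] (s : Q →ₗ[A] F) (π : F →ₗ[A] Q)
    (h : ∀ x, π (s x) = x) : IsAdicComplete I Q := by
  have hH : IsHausdorff I Q := by
    refine ⟨fun x hx => ?_⟩
    have hs : s x = 0 := by
      apply IsHausdorff.haus' (I := I) (s x)
      intro n
      rw [SModEq.zero]
      exact map_mem_smul_top (I ^ n) s (SModEq.zero.mp (hx n))
    rw [← h x, hs, map_zero]
  have hP : IsPrecomplete I Q := by
    refine ⟨fun f hf => ?_⟩
    obtain ⟨L', hL'⟩ := IsPrecomplete.prec' (I := I) (fun n => s (f n)) (by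
      intro m n hmn
      rw [SModEq.sub_mem, ← map_sub]
      exact map_mem_smul_top (I ^ m) s (SModEq.sub_mem.mp (hf hmn)))
    refine ⟨π L', fun n => ?_⟩
    rw [SModEq.sub_mem]
    have := map_mem_smul_top (I ^ n) π (SModEq.sub_mem.mp (hL' n))
    rw [map_sub, h] at this
    exact this
  exact { toIsHausdorff := hH, toIsPrecomplete := hP }

end

theorem main (A : Type u) [CommRing A] (I : Ideal A) [IsAdicComplete I A] (P Q : Type u)
    [AddCommGroup P] [Module A P] [AddCommGroup Q] [Module A Q] [Module.Finite A Q]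
    [Module.Projective A Q] :
    (∀ f f' : P →ₗ[A] Q, (∀ n : ℕ, f.reduceModIdeal (I ^ n) = f'.reduceModIdeal (I ^ n)) →
      f = f') ∧
    (∀ g : ∀ n : ℕ, P ⧸ (I ^ n • ⊤ : Submodule A P) →ₗ[A] Q ⧸ (I ^ n • ⊤ : Submodule A Q),
      (∀ n : ℕ, AdicCompletion.transitionMap I Q (Nat.le_succ n) ∘ₗ g (n + 1) =
        g n ∘ₗ AdicCompletion.transitionMap I P (Nat.le_succ n)) →
      ∃ f : P →ₗ[A] Q, ∀ n : ℕ, f.reduceModIdeal (I ^ n) = g n) := by
  obtain ⟨r, π, s, -, -, hπs⟩ := Module.Finite.exists_comp_eq_id_of_projective A Q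
  haveI : IsAdicComplete I (Fin r → A) := isAdicComplete_pi I r
  haveI hQ : IsAdicComplete I Q :=
    isAdicComplete_of_retract I s π (fun x => LinearMap.congr_fun hπs x)
  constructor
  · intro f f' hff
    ext x
    rw [← sub_eq_zero]
    apply IsHausdorff.haus' (I := I) (f x - f' x)
    intro n
    rw [SModEq.zero]
    have h1 := LinearMap.congr_fun (hff n) (Submodule.Quotient.mk x)
    have h2 : (Submodule.Quotient.mk (f x) : Q ⧸ (I ^ n • ⊤ : Submodule A Q)) =
        Submodule.Quotient.mk (f' x) := h1
    exact (Submodule.Quotient.eq _).mp h2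
  · intro g hg
    have hcompat : ∀ (m n : ℕ) (hle : m ≤ n) (x : P),
        Submodule.factorPow I Q hle (g n (Submodule.Quotient.mk x)) =
          g m (Submodule.Quotient.mk x) := by
      intro m n hle
      induction n, hle using Nat.le_induction with
      | base =>
        intro x
        obtain ⟨y, hy⟩ := Submodule.Quotient.mk_surjective _ (g m (Submodule.Quotient.mk x))
        rw [← hy]; rfl
      | succ n hmn ih =>
        intro x
        obtain ⟨y, hy⟩ :=
          Submodule.Quotient.mk_surjective _ (g (n + 1) (Submodule.Quotient.mk x))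
        have h1 := LinearMap.congr_fun (hg n) (Submodule.Quotient.mk x)
        have h1' : Submodule.factorPow I Q (Nat.le_succ n)
            (g (n + 1) (Submodule.Quotient.mk x)) = g n (Submodule.Quotient.mk x) := h1
        have e1 : Submodule.factorPow I Q (hmn.trans (Nat.le_succ n))
            (g (n + 1) (Submodule.Quotient.mk x)) =
            Submodule.factorPow I Q hmn (Submodule.factorPow I Q (Nat.le_succ n)
              (g (n + 1) (Submodule.Quotient.mk x))) := by
          rw [← hy]; rfl
        rw [e1, h1', ih]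
    let F : ∀ n : ℕ, P →ₗ[A] Q ⧸ (I ^ n • ⊤ : Submodule A Q) :=
      fun n => g n ∘ₗ Submodule.mkQ _
    have hF : ∀ {m n : ℕ} (hle : m ≤ n), Submodule.factorPow I Q hle ∘ₗ F n = F m := by
      intro m n hle
      ext x
      exact hcompat m n hle x
    refine ⟨IsAdicComplete.lift I F hF, fun n => ?_⟩
    apply LinearMap.ext
    intro z
    obtain ⟨x, rfl⟩ := Submodule.Quotient.mk_surjective _ z
    show (Submodule.Quotient.mk (IsAdicComplete.lift I F hF x) :
      Q ⧸ (I ^ n • ⊤ : Submodule A Q)) = g n (Submodule.Quotient.mk x)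
    exact IsAdicComplete.mk_lift I hF n x

end Groth.Agent.Lib.AdicProj
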