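import Groth.Statements.S8384
import Mathlib.RingTheory.AdicCompletion.RingHom

/-! # Points of a scheme with values in a complete local ring (lead) -/

set_option backward.isDefEq.respectTransparency false
set_option backward.isDefEq.respectTransparency.types false
set_option linter.unusedSimpArgs false
set_option linter.unusedVariables false
set_option linter.unusedSectionVars false
set_option linter.style.longLine false
set_option maxHeartbeats 800000

universe u

open CategoryTheory CategoryTheory.Limits AlgebraicGeometry Opposite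

namespace Groth.Agent.Lib.AdicPts

variable {A : Type u} [CommRing A] [IsLocalRing A]

theorem ι_apply (n : ℕ) (p : PrimeSpectrum (A ⧸ IsLocalRing.maximalIdeal A ^ n)) :
    PrimeSpectrum.comap (Ideal.Quotient.mk (IsLocalRing.maximalIdeal A ^ n)) p =
      IsLocalRing.closedPoint A := by
  apply PrimeSpectrum.ext
  have hq : (PrimeSpectrum.comap (Ideal.Quotient.mk (IsLocalRing.maximalIdeal A ^ n))
      p).asIdeal.IsPrime := (PrimeSpectrum.comap _ p).isPrime
  have hle : IsLocalRing.maximalIdeal A ^ n ≤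
      (PrimeSpectrum.comap (Ideal.Quotient.mk (IsLocalRing.maximalIdeal A ^ n)) p).asIdeal := by
    intro x hx
    show Ideal.Quotient.mk _ x ∈ p.asIdeal
    rw [Ideal.Quotient.eq_zero_iff_mem.mpr hx]
    exact p.asIdeal.zero_mem
  have hle' : IsLocalRing.maximalIdeal A ≤
      (PrimeSpectrum.comap (Ideal.Quotient.mk (IsLocalRing.maximalIdeal A ^ n)) p).asIdeal :=
    Ideal.IsPrime.le_of_pow_le hle
  exact ((IsLocalRing.maximalIdeal.isMaximal A).eq_of_le hq.ne_top hle').symm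

theorem subsingleton_quot (n : ℕ) :
    Subsingleton (PrimeSpectrum (A ⧸ IsLocalRing.maximalIdeal A ^ n)) :=
  ⟨fun p q => PrimeSpectrum.comap_injective_of_surjective _ Ideal.Quotient.mk_surjective
    ((ι_apply n p).trans (ι_apply n q).symm)⟩

theorem nonempty_one : Nonempty (PrimeSpectrum (A ⧸ IsLocalRing.maximalIdeal A ^ 1)) := by
  haveI : Nontrivial (A ⧸ IsLocalRing.maximalIdeal A ^ 1) := by
    rw [pow_one]
    exact Ideal.Quotient.nontrivial_iff.mpr (IsLocalRing.maximalIdeal.isMaximal A).ne_top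
  infer_instance

theorem exists_affineOpen (X : Scheme.{u}) (x : X) : ∃ W : X.Opens, IsAffineOpen W ∧ x ∈ W := by
  obtain ⟨W, hW, hw, -⟩ := TopologicalSpace.Opens.isBasis_iff_nbhd.mp X.isBasis_affineOpens
    (TopologicalSpace.Opens.mem_top x)
  exact ⟨W, hW, hw⟩

theorem range_subset (X : Scheme.{u}) (f : Spec (CommRingCat.of A) ⟶ X) (W : X.Opens)
    (hw : f (IsLocalRing.closedPoint A) ∈ W) : Set.range f ⊆ Set.range W.ι := by
  rw [Scheme.Opens.range_ι]
  rintro _ ⟨p, rfl⟩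
  exact ((IsLocalRing.specializes_closedPoint p).map f.continuous).mem_open W.isOpen hw

theorem uniq [IsAdicComplete (IsLocalRing.maximalIdeal A) A] (X : Scheme.{u})
    (f g : Spec (CommRingCat.of A) ⟶ X)
    (h : ∀ n : ℕ,
      Spec.map (CommRingCat.ofHom (Ideal.Quotient.mk (IsLocalRing.maximalIdeal A ^ n))) ≫ f =
      Spec.map (CommRingCat.ofHom (Ideal.Quotient.mk (IsLocalRing.maximalIdeal A ^ n))) ≫ g) :
    f = g := by
  obtain ⟨W, hW, hw⟩ := exists_affineOpen X (f (IsLocalRing.closedPoint A))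
  obtain ⟨q⟩ := nonempty_one (A := A)
  have hq : (Spec.map (CommRingCat.ofHom (Ideal.Quotient.mk (IsLocalRing.maximalIdeal A ^ 1)))) q =
      IsLocalRing.closedPoint A := ι_apply 1 q
  have hgw : g (IsLocalRing.closedPoint A) ∈ W := by
    have e : (Spec.map (CommRingCat.ofHom (Ideal.Quotient.mk (IsLocalRing.maximalIdeal A ^ 1))) ≫
        f) q = (Spec.map (CommRingCat.ofHom (Ideal.Quotient.mk (IsLocalRing.maximalIdeal A ^ 1))) ≫
        g) q := by rw [h 1]
    have e1 : f ((Spec.map (CommRingCat.ofHom (Ideal.Quotient.mk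
        (IsLocalRing.maximalIdeal A ^ 1)))) q) = g ((Spec.map (CommRingCat.ofHom (Ideal.Quotient.mk
        (IsLocalRing.maximalIdeal A ^ 1)))) q) := e
    rw [hq] at e1
    rw [← e1]
    exact hw
  obtain ⟨f', hf'⟩ : ∃ f' : Spec (CommRingCat.of A) ⟶ ↑W, f' ≫ W.ι = f :=
    ⟨IsOpenImmersion.lift W.ι f (range_subset X f W hw), IsOpenImmersion.lift_fac _ _ _⟩
  obtain ⟨g', hg'⟩ : ∃ g' : Spec (CommRingCat.of A) ⟶ ↑W, g' ≫ W.ι = g :=
    ⟨IsOpenImmersion.lift W.ι g (range_subset X g W hgw), IsOpenImmersion.lift_fac _ _ _⟩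
  obtain ⟨φ, hφ⟩ := Spec.map_surjective (f' ≫ hW.isoSpec.hom)
  obtain ⟨ψ, hψ⟩ := Spec.map_surjective (g' ≫ hW.isoSpec.hom)
  have hn : ∀ n, φ ≫ CommRingCat.ofHom (Ideal.Quotient.mk (IsLocalRing.maximalIdeal A ^ n)) =
      ψ ≫ CommRingCat.ofHom (Ideal.Quotient.mk (IsLocalRing.maximalIdeal A ^ n)) := by
    intro n
    apply Spec.map_injective
    rw [Spec.map_comp, Spec.map_comp, hφ, hψ, ← Category.assoc, ← Category.assoc]
    congr 1
    rw [← cancel_mono W.ι, Category.assoc, Category.assoc, hf', hg']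
    exact h n
  have key : φ = ψ := by
    have hc : ∀ {m n : ℕ} (hle : m ≤ n),
        (Ideal.Quotient.factorPow (IsLocalRing.maximalIdeal A) hle).comp
          ((Ideal.Quotient.mk (IsLocalRing.maximalIdeal A ^ n)).comp φ.hom) =
        (Ideal.Quotient.mk (IsLocalRing.maximalIdeal A ^ m)).comp φ.hom := by
      intro m n hle
      ext x
      simp
    have e1 := IsAdicComplete.eq_liftRingHom (IsLocalRing.maximalIdeal A)
      (fun n => (Ideal.Quotient.mk (IsLocalRing.maximalIdeal A ^ n)).comp φ.hom) hc φ.hom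
      (fun n => rfl)
    have e2 := IsAdicComplete.eq_liftRingHom (IsLocalRing.maximalIdeal A)
      (fun n => (Ideal.Quotient.mk (IsLocalRing.maximalIdeal A ^ n)).comp φ.hom) hc ψ.hom
      (fun n => (congrArg CommRingCat.Hom.hom (hn n)).symm)
    exact CommRingCat.hom_ext (e1.trans e2.symm)
  rw [← hf', ← hg', (Iso.eq_comp_inv _).mpr hφ.symm, (Iso.eq_comp_inv _).mpr hψ.symm, key]

theorem exist [IsAdicComplete (IsLocalRing.maximalIdeal A) A] (X : Scheme.{u})
    (u : (n : ℕ) → (Spec (CommRingCat.of (A ⧸ IsLocalRing.maximalIdeal A ^ n)) ⟶ X))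
    (hu : ∀ n : ℕ, Spec.map (CommRingCat.ofHom (Ideal.Quotient.factor
        (Ideal.pow_le_pow_right (I := IsLocalRing.maximalIdeal A) (Nat.le_succ n)))) ≫ u (n + 1) =
      u n) :
    ∃ f : Spec (CommRingCat.of A) ⟶ X, ∀ n : ℕ,
      Spec.map (CommRingCat.ofHom (Ideal.Quotient.mk (IsLocalRing.maximalIdeal A ^ n))) ≫ f =
        u n := by
  obtain ⟨q⟩ := nonempty_one (A := A)
  obtain ⟨W, hW, hw⟩ := exists_affineOpen X ((u 1) q)
  have hjn : ∀ n : ℕ, ∃ j : Spec (CommRingCat.of (A ⧸ IsLocalRing.maximalIdeal A ^ 1)) ⟶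
      Spec (CommRingCat.of (A ⧸ IsLocalRing.maximalIdeal A ^ (n + 1))), j ≫ u (n + 1) = u 1 := by
    intro n
    induction n with
    | zero => exact ⟨𝟙 _, Category.id_comp _⟩
    | succ n ih =>
      obtain ⟨j, hj⟩ := ih
      exact ⟨j ≫ Spec.map (CommRingCat.ofHom (Ideal.Quotient.factor
        (Ideal.pow_le_pow_right (I := IsLocalRing.maximalIdeal A) (Nat.le_succ (n + 1))))),
        by rw [Category.assoc, hu, hj]⟩
  have hr : ∀ n, Set.range (u n) ⊆ Set.range W.ι := by
    intro n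
    rw [Scheme.Opens.range_ι]
    rintro _ ⟨p, rfl⟩
    cases n with
    | zero =>
      exfalso
      haveI : Subsingleton (A ⧸ IsLocalRing.maximalIdeal A ^ 0) :=
        Ideal.Quotient.subsingleton_iff.mpr (by rw [pow_zero, Ideal.one_eq_top])
      have hp : (p : PrimeSpectrum (A ⧸ IsLocalRing.maximalIdeal A ^ 0)).asIdeal.IsPrime :=
        (p : PrimeSpectrum (A ⧸ IsLocalRing.maximalIdeal A ^ 0)).isPrime
      exact hp.ne_top (Ideal.eq_top_of_isUnit_mem _ (Ideal.zero_mem _) (isUnit_of_subsingleton 0))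
    | succ n =>
      obtain ⟨j, hj⟩ := hjn n
      have hp : p = j q := (subsingleton_quot (A := A) (n + 1)).elim _ _
      have e : (u (n + 1)) (j q) = (u 1) q := by
        rw [← hj]
        rfl
      rw [hp, e]
      exact hw
  choose v hv using fun n => (⟨IsOpenImmersion.lift W.ι (u n) (hr n),
    IsOpenImmersion.lift_fac _ _ _⟩ :
      ∃ v : Spec (CommRingCat.of (A ⧸ IsLocalRing.maximalIdeal A ^ n)) ⟶ ↑W, v ≫ W.ι = u n)
  have hvc : ∀ n, Spec.map (CommRingCat.ofHom (Ideal.Quotient.factor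
      (Ideal.pow_le_pow_right (I := IsLocalRing.maximalIdeal A) (Nat.le_succ n)))) ≫ v (n + 1) =
      v n := by
    intro n
    rw [← cancel_mono W.ι, Category.assoc, hv, hv, hu]
  choose ψ hψ using fun n => Spec.map_surjective (v n ≫ hW.isoSpec.hom)
  have hψc : ∀ n, ψ (n + 1) ≫ CommRingCat.ofHom (Ideal.Quotient.factor
      (Ideal.pow_le_pow_right (I := IsLocalRing.maximalIdeal A) (Nat.le_succ n))) = ψ n := by
    intro n
    apply Spec.map_injective
    rw [Spec.map_comp, hψ, hψ, ← Category.assoc, hvc]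
  obtain ⟨φ, hφ⟩ : ∃ φ : Γ(X, W) →+* A, ∀ n,
      (Ideal.Quotient.mk (IsLocalRing.maximalIdeal A ^ n)).comp φ = (ψ n).hom :=
    ⟨IsAdicComplete.StrictMono.liftRingHom (IsLocalRing.maximalIdeal A) strictMono_id
      (fun n => (ψ n).hom) (fun {m} => congrArg CommRingCat.Hom.hom (hψc m)),
      fun n => IsAdicComplete.StrictMono.mk_comp_liftRingHom (IsLocalRing.maximalIdeal A)
        strictMono_id (fun n => (ψ n).hom) (fun {m} => congrArg CommRingCat.Hom.hom (hψc m))⟩
  refine ⟨Spec.map (CommRingCat.ofHom φ) ≫ hW.isoSpec.inv ≫ W.ι, fun n => ?_⟩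
  have h1 : CommRingCat.ofHom φ ≫
      CommRingCat.ofHom (Ideal.Quotient.mk (IsLocalRing.maximalIdeal A ^ n)) = ψ n :=
    CommRingCat.hom_ext (hφ n)
  calc Spec.map (CommRingCat.ofHom (Ideal.Quotient.mk (IsLocalRing.maximalIdeal A ^ n))) ≫
        Spec.map (CommRingCat.ofHom φ) ≫ hW.isoSpec.inv ≫ W.ι
      = Spec.map (CommRingCat.ofHom φ ≫
          CommRingCat.ofHom (Ideal.Quotient.mk (IsLocalRing.maximalIdeal A ^ n))) ≫
            hW.isoSpec.inv ≫ W.ι := by rw [Spec.map_comp, Category.assoc]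
    _ = (v n ≫ hW.isoSpec.hom) ≫ hW.isoSpec.inv ≫ W.ι := by rw [h1, hψ]
    _ = u n := by rw [Category.assoc, Iso.hom_inv_id_assoc, hv]

theorem main (A : Type u) [CommRing A] [IsLocalRing A]
    [IsAdicComplete (IsLocalRing.maximalIdeal A) A] (X : Scheme.{u}) :
    (∀ f g : (Spec (CommRingCat.of A)) ⟶ X,
      (∀ n : ℕ, (Spec.map (CommRingCat.ofHom (Ideal.Quotient.mk ((IsLocalRing.maximalIdeal A) ^ n)))) ≫ f = (Spec.map (CommRingCat.ofHom (Ideal.Quotient.mk ((IsLocalRing.maximalIdeal A) ^ n)))) ≫ g) → f = g) ∧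
    (∀ u : (n : ℕ) → (Spec (CommRingCat.of (A ⧸ (IsLocalRing.maximalIdeal A) ^ n)) ⟶ X),
      (∀ n : ℕ, (Spec.map (CommRingCat.ofHom (Ideal.Quotient.factor
          (Ideal.pow_le_pow_right (I := (IsLocalRing.maximalIdeal A)) (Nat.le_succ n))))) ≫ u (n + 1) = u n) →
      ∃ f : (Spec (CommRingCat.of A)) ⟶ X, ∀ n : ℕ, (Spec.map (CommRingCat.ofHom (Ideal.Quotient.mk ((IsLocalRing.maximalIdeal A) ^ n)))) ≫ f = u n) :=
  ⟨fun f g h => uniq X f g h, fun u hu => exist X u hu⟩

end Groth.Agent.Lib.AdicPts
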