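import Mathlib

/-!
# Adic completeness of retracts and finite free modules (helper9)
-/

set_option autoImplicit false
universe u v

namespace Groth.Agent.Lib.AdicRetract

open AdicCompletion in
theorem isAdicComplete_of_retract {A : Type u} [CommRing A] (I : Ideal A) {M : Type*} {P : Type*}
    [AddCommGroup M] [Module A M] [AddCommGroup P] [Module A P] [IsAdicComplete I P]
    (i : M →ₗ[A] P) (r : P →ₗ[A] M) (h : r.comp i = LinearMap.id) : IsAdicComplete I M := by
  rw [← AdicCompletion.of_bijective_iff]
  have hP := AdicCompletion.of_bijective I P
  constructor
  · intro x y hxy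
    have h1 : of I P (i x) = of I P (i y) := by
      rw [← map_of, ← map_of, hxy]
    have h2 := hP.1 h1
    have := congrArg r h2
    simpa [← LinearMap.comp_apply, h] using this
  · intro y
    obtain ⟨p, hp⟩ := hP.2 (map I i y)
    refine ⟨r p, ?_⟩
    rw [← map_of, hp, map_comp_apply, h, map_id]
    rfl

open AdicCompletion in
theorem isAdicComplete_pi {A : Type u} [CommRing A] (I : Ideal A) [IsAdicComplete I A] (n : ℕ) :
    IsAdicComplete I (Fin n → A) := by
  rw [← AdicCompletion.of_bijective_iff]
  have hA := AdicCompletion.of_bijective I A
  constructor
  · intro x y hxy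
    funext j
    apply hA.1
    have := congrArg (map I (LinearMap.proj (R := A) (φ := fun _ : Fin n => A) j)) hxy
    simpa [map_of] using this
  · intro y
    choose a ha using fun j => hA.2 (map I (LinearMap.proj (R := A) (φ := fun _ : Fin n => A) j) y)
    refine ⟨a, ?_⟩
    apply (piEquivFin I n).injective
    funext j
    rw [piEquivFin_apply, piEquivFin_apply]
    simp only [pi, LinearMap.pi_apply, map_of, LinearMap.proj_apply]
    exact ha j

/-- A finite projective module over an `I`-adically complete ring is `I`-adically complete. -/
theorem isAdicComplete_of_finite_projective {A : Type u} [CommRing A] (I : Ideal A)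
    [IsAdicComplete I A] (M : Type v) [AddCommGroup M] [Module A M] [Module.Finite A M]
    [Module.Projective A M] : IsAdicComplete I M := by
  obtain ⟨n, f, hf⟩ := Module.Finite.exists_fin' A M
  obtain ⟨g, hg⟩ := Module.projective_lifting_property f LinearMap.id hf
  haveI := isAdicComplete_pi I n
  exact isAdicComplete_of_retract I g f hg

end Groth.Agent.Lib.AdicRetract
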