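import Mathlib
import Groth.Prelude.Def_CAlgX
import Groth.Prelude.Def_Found
import Groth.Agent.Lib.GeomRegFS_helper3

/-!
# Transitivity of adic formal smoothness along a formally smooth map (helper3)

* `adic_trans` : `k → A` adic formally smooth for `𝔪`, `A → B` formally smooth, `𝔪 B ≤ 𝔫` ⇒
  `k → B` adic formally smooth for `𝔫`.
* `isGeometricallyRegular_of_formallySmooth` : `A` Noetherian geometrically regular over `k`,
  `B` Noetherian and formally smooth over `A` ⇒ `B` geometrically regular over `k`.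
APPEND-ONLY once landed.
-/

set_option autoImplicit false
set_option maxSynthPendingDepth 3

namespace Groth.Agent.Lib.AdicTransH3

open TensorProduct IsLocalRing

universe u

theorem adic_trans {k A B : Type u} [CommRing k] [CommRing A] [CommRing B] [Algebra k A]
    [Algebra A B] [Algebra k B] [IsScalarTower k A B] [Algebra.FormallySmooth A B]
    (𝔪 : Ideal A) (𝔫 : Ideal B) (hle : 𝔪.map (algebraMap A B) ≤ 𝔫)
    (h : CAlgX.IsAdicFormallySmooth k A 𝔪) : CAlgX.IsAdicFormallySmooth k B 𝔫 := by
  intro C _ _ J hJ ψ hψ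
  obtain ⟨n, hn⟩ := hψ
  let ψA : A →ₐ[k] C ⧸ J := ψ.comp (IsScalarTower.toAlgHom k A B)
  have hψA : ∃ n : ℕ, ∀ x ∈ 𝔪 ^ n, ψA x = 0 := ⟨n, fun x hx => hn _ (by
    have : algebraMap A B x ∈ (𝔪.map (algebraMap A B)) ^ n := by
      rw [← Ideal.map_pow]
      exact Ideal.mem_map_of_mem _ hx
    exact Ideal.pow_right_mono hle n this)⟩
  obtain ⟨χA, hχA⟩ := h C J hJ ψA hψA
  letI : Algebra A C := χA.toRingHom.toAlgebra
  haveI : IsScalarTower k A C := IsScalarTower.of_algebraMap_eq (fun x => (χA.commutes x).symm)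
  let ψ' : B →ₐ[A] C ⧸ J :=
    { ψ.toRingHom with
      commutes' := fun a => by
        show ψ (algebraMap A B a) = Ideal.Quotient.mk J (χA a)
        exact (AlgHom.congr_fun hχA a).symm }
  let χ : B →ₐ[A] C := Algebra.FormallySmooth.lift J ⟨2, hJ⟩ ψ'
  refine ⟨χ.restrictScalars k, ?_⟩
  refine AlgHom.ext fun b => ?_
  exact Algebra.FormallySmooth.mk_lift J ⟨2, hJ⟩ ψ' b

theorem isGeometricallyRegular_of_formallySmooth (k : Type u) [Field k] (A : Type u) [CommRing A]
    [Algebra k A] [IsNoetherianRing A] (B : Type u) [CommRing B] [Algebra k B] [Algebra A B]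
    [IsScalarTower k A B] [IsNoetherianRing B] [Algebra.FormallySmooth A B]
    (hA : CAlg.IsGeometricallyRegular k A) : CAlg.IsGeometricallyRegular k B := by
  have hadic := (Groth.Agent.Lib.GeomRegFSH3.isGeometricallyRegular_iff_forall_adic
    (k := k) (S := A)).mp hA
  rw [Groth.Agent.Lib.GeomRegFSH3.isGeometricallyRegular_iff_forall_adic]
  intro 𝔮 _
  let p := 𝔮.under A
  haveI : p.IsPrime := inferInstance
  haveI : 𝔮.LiesOver p := ⟨rfl⟩
  letI := Localization.AtPrime.algebraOfLiesOver p 𝔮
  haveI : IsScalarTower A (Localization.AtPrime p) (Localization.AtPrime 𝔮) := inferInstance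
  haveI : IsScalarTower k (Localization.AtPrime p) (Localization.AtPrime 𝔮) := inferInstance
  haveI : Algebra.FormallySmooth A (Localization.AtPrime 𝔮) := inferInstance
  haveI : Algebra.FormallySmooth (Localization.AtPrime p) (Localization.AtPrime 𝔮) :=
    Algebra.FormallySmooth.localization_base p.primeCompl
  exact adic_trans (maximalIdeal (Localization.AtPrime p)) (maximalIdeal (Localization.AtPrime 𝔮))
    (IsLocalRing.map_maximalIdeal_le _) (hadic p)

end Groth.Agent.Lib.AdicTransH3
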