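import Mathlib
import Groth.Prelude.Def_DerLim

/-!
# The short exact sequence `0 → ⨁ Fₙ → ⨁ Fₙ → colim F → 0` (helper9)

`A` abelian with exact colimits of shape `ℕ`, `F : ℕ ⥤ A` with `∐ F.obj`.  We write `∐ F.obj` as
the colimit of the finite stages `T N = F 0 ⊞ ⋯ ⊞ F N` in two ways so that `1 - shift` becomes
the colimit of the split monomorphisms `inl : T N ⟶ T N ⊞ F (N+1)`.
-/

open CategoryTheory CategoryTheory.Limits

namespace SeqColim

universe v u

section Eval

variable {J : Type*} [Category J] {C : Type u} [Category.{v} C] [Abelian C]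

/-- exactness in a functor category can be checked pointwise -/
lemma exact_of_eval (S : ShortComplex (J ⥤ C))
    (h : ∀ j, (S.map ((evaluation J C).obj j)).Exact) : S.Exact := by
  rw [S.exact_iff_isZero_homology, Functor.isZero_iff]
  intro j
  have h1 := (h j)
  rw [ShortComplex.exact_iff_isZero_homology] at h1
  exact IsZero.of_iso h1 (S.mapHomologyIso ((evaluation J C).obj j)).symm

end Eval

variable {A : Type u} [Category.{v} A] [Abelian A] (F : ℕ ⥤ A)

/-- the finite stages `F 0 ⊞ ⋯ ⊞ F N` -/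
noncomputable def T : ℕ → A
  | 0 => F.obj 0
  | N + 1 => T N ⊞ F.obj (N + 1)

/-- the transition map of `F` -/
abbrev tr (n : ℕ) : F.obj n ⟶ F.obj (n + 1) := F.map (homOfLE (Nat.le_succ n))

/-- inclusion of a stage in the next one -/
noncomputable def inlT (N : ℕ) : T F N ⟶ T F (N + 1) := (biprod.inl : T F N ⟶ T F N ⊞ F.obj (N + 1))

/-- inclusion of the top summand -/
noncomputable def inrT (N : ℕ) : F.obj (N + 1) ⟶ T F (N + 1) :=
  (biprod.inr : F.obj (N + 1) ⟶ T F N ⊞ F.obj (N + 1))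

/-- a map out of a stage -/
noncomputable def descT {X : A} (N : ℕ) (a : T F N ⟶ X) (b : F.obj (N + 1) ⟶ X) : T F (N + 1) ⟶ X :=
  (biprod.desc a b : T F N ⊞ F.obj (N + 1) ⟶ X)

@[reassoc (attr := simp)]
lemma inlT_descT {X : A} (N : ℕ) (a : T F N ⟶ X) (b : F.obj (N + 1) ⟶ X) :
    inlT F N ≫ descT F N a b = a := biprod.inl_desc _ _

@[reassoc (attr := simp)]
lemma inrT_descT {X : A} (N : ℕ) (a : T F N ⟶ X) (b : F.obj (N + 1) ⟶ X) :
    inrT F N ≫ descT F N a b = b := biprod.inr_desc _ _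

lemma hom_extT {X : A} (N : ℕ) {a b : T F (N + 1) ⟶ X} (h1 : inlT F N ≫ a = inlT F N ≫ b)
    (h2 : inrT F N ≫ a = inrT F N ≫ b) : a = b :=
  biprod.hom_ext' _ _ h1 h2

/-- projection to the top summand -/
noncomputable def sndT (N : ℕ) : T F (N + 1) ⟶ F.obj (N + 1) :=
  (biprod.snd : T F N ⊞ F.obj (N + 1) ⟶ F.obj (N + 1))

@[reassoc (attr := simp)]
lemma inlT_sndT (N : ℕ) : inlT F N ≫ sndT F N = 0 := biprod.inl_snd

@[reassoc (attr := simp)]
lemma inrT_sndT (N : ℕ) : inrT F N ≫ sndT F N = 𝟙 _ := biprod.inr_snd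

/-- the split short exact sequence `T N ⟶ T (N+1) ⟶ F (N+1)` -/
lemma exact_inlT_sndT (N : ℕ) :
    (ShortComplex.mk (inlT F N) (sndT F N) (inlT_sndT F N)).Exact :=
  (ShortComplex.Splitting.ofHasBinaryBiproduct (T F N) (F.obj (N + 1))).exact

instance mono_inlT (N : ℕ) : Mono (inlT F N) :=
  mono_of_mono_fac (show inlT F N ≫ (biprod.fst : T F N ⊞ F.obj (N + 1) ⟶ T F N) = 𝟙 _ from
    biprod.inl_fst)

section Main

variable [HasCoproduct F.obj]

/-- the standard inclusion `T N ⟶ ∐ F` -/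
noncomputable def a : ∀ N, T F N ⟶ ∐ F.obj
  | 0 => Sigma.ι F.obj 0
  | N + 1 => descT F N (a N) (Sigma.ι F.obj (N + 1))

lemma a_zero : a F 0 = Sigma.ι F.obj 0 := rfl

lemma a_succ (N : ℕ) : a F (N + 1) = descT F N (a F N) (Sigma.ι F.obj (N + 1)) := rfl

lemma inlT_a (N : ℕ) : inlT F N ≫ a F (N + 1) = a F N := by
  rw [a_succ, inlT_descT]

lemma inrT_a (N : ℕ) : inrT F N ≫ a F (N + 1) = Sigma.ι F.obj (N + 1) := by
  rw [a_succ, inrT_descT]

/-- the inclusion of the top summand `F n ⟶ T n` -/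
noncomputable def incl : ∀ n, F.obj n ⟶ T F n
  | 0 => 𝟙 (F.obj 0)
  | n + 1 => inrT F n

lemma incl_a (n : ℕ) : incl F n ≫ a F n = Sigma.ι F.obj n := by
  cases n with
  | zero => exact Category.id_comp _
  | succ n => exact inrT_descT F n _ _

/-- `1 - shift` -/
noncomputable abbrev φ : ∐ F.obj ⟶ ∐ F.obj := 𝟙 _ - DerLim.shiftMap F.obj (fun n => tr F n)

lemma ι_φ (n : ℕ) :
    Sigma.ι F.obj n ≫ φ F = Sigma.ι F.obj n - tr F n ≫ Sigma.ι F.obj (n + 1) := by
  unfold φ DerLim.shiftMap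
  rw [Preadditive.comp_sub, Category.comp_id, Sigma.ι_desc]

/-- the twisted inclusion `T (N+1) ⟶ ∐ F` -/
noncomputable def b (N : ℕ) : T F (N + 1) ⟶ ∐ F.obj :=
  descT F N (a F N ≫ φ F) (Sigma.ι F.obj (N + 1))

/-- the twisted transition maps -/
noncomputable def k (N : ℕ) : T F (N + 1) ⟶ T F (N + 1 + 1) :=
  descT F N (inlT F N ≫ inlT F (N + 1)) (inrT F N ≫ inlT F (N + 1) + tr F (N + 1) ≫ inrT F (N + 1))

lemma k_b (N : ℕ) : k F N ≫ b F (N + 1) = b F N := by
  apply hom_extT
  · unfold k b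
    rw [inlT_descT_assoc, Category.assoc, inlT_descT, inlT_descT, a_succ, inlT_descT_assoc]
  · unfold k b
    rw [inrT_descT_assoc, inrT_descT, Preadditive.add_comp, Category.assoc, inlT_descT,
      Category.assoc, inrT_descT, a_succ, inrT_descT_assoc, ι_φ]
    abel

lemma inlT_k (N : ℕ) : inlT F N ≫ k F N = inlT F N ≫ inlT F (N + 1) := by
  unfold k
  rw [inlT_descT]

lemma inrT_k (N : ℕ) :
    inrT F N ≫ k F N = inrT F N ≫ inlT F (N + 1) + tr F (N + 1) ≫ inrT F (N + 1) := by
  unfold k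
  rw [inrT_descT]

lemma k_sndT (N : ℕ) : k F N ≫ sndT F (N + 1) = sndT F N ≫ tr F (N + 1) := by
  apply hom_extT
  · rw [← Category.assoc, inlT_k, Category.assoc, inlT_sndT, comp_zero, inlT_sndT_assoc, zero_comp]
  · rw [← Category.assoc, inrT_k, Preadditive.add_comp, Category.assoc, inlT_sndT, comp_zero,
      zero_add, Category.assoc, inrT_sndT, Category.comp_id, inrT_sndT_assoc]

/-- the functor of finite stages -/
noncomputable def P : ℕ ⥤ A := Functor.ofSequence (fun N => inlT F N)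

/-- the functor of finite stages, shifted and twisted -/
noncomputable def Q : ℕ ⥤ A := Functor.ofSequence (fun N => k F N)

/-- the shifted sequence -/
noncomputable def R : ℕ ⥤ A := Functor.ofSequence (fun N => tr F (N + 1))

omit [HasCoproduct F.obj] in
lemma P_map (N : ℕ) : (P F).map (homOfLE (Nat.le_add_right N 1)) = inlT F N :=
  Functor.ofSequence_map_homOfLE_succ _ N

lemma Q_map (N : ℕ) : (Q F).map (homOfLE (Nat.le_add_right N 1)) = k F N :=
  Functor.ofSequence_map_homOfLE_succ _ N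

omit [HasCoproduct F.obj] in
lemma R_map (N : ℕ) : (R F).map (homOfLE (Nat.le_add_right N 1)) = tr F (N + 1) :=
  Functor.ofSequence_map_homOfLE_succ _ N

/-- `inl` -/
noncomputable def α : P F ⟶ Q F :=
  NatTrans.ofSequence (F := P F) (G := Q F) (fun N => inlT F N) (fun N => by
    rw [P_map, Q_map]
    exact (inlT_k F N).symm)

/-- `snd` -/
noncomputable def β : Q F ⟶ R F :=
  NatTrans.ofSequence (F := Q F) (G := R F) (fun N => sndT F N) (fun N => by
    rw [Q_map, R_map]
    exact k_sndT F N)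

lemma α_app (N : ℕ) : (α F).app N = inlT F N := rfl

lemma β_app (N : ℕ) : (β F).app N = sndT F N := rfl

/-- the short complex of functors -/
noncomputable def S₀ : ShortComplex (ℕ ⥤ A) :=
  ShortComplex.mk (α F) (β F) (by
    ext N
    exact inlT_sndT F N)

lemma S₀_exact : (S₀ F).Exact :=
  exact_of_eval _ (fun N => exact_inlT_sndT F N)

instance : Mono (α F) := by
  haveI : ∀ N, Mono ((α F).app N) := fun N => mono_inlT F N
  exact NatTrans.mono_of_mono_app _

/-- the standard cocone -/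
noncomputable def cP : Cocone (P F) where
  pt := ∐ F.obj
  ι := NatTrans.ofSequence (F := P F) (G := (Functor.const ℕ).obj (∐ F.obj)) (fun N => a F N)
    (fun N => by
      rw [P_map]
      exact (inlT_a F N).trans (Category.comp_id _).symm)

/-- the twisted cocone -/
noncomputable def cQ : Cocone (Q F) where
  pt := ∐ F.obj
  ι := NatTrans.ofSequence (F := Q F) (G := (Functor.const ℕ).obj (∐ F.obj)) (fun N => b F N)
    (fun N => by
      rw [Q_map]
      exact (k_b F N).trans (Category.comp_id _).symm)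

lemma cP_ι (N : ℕ) : (cP F).ι.app N = a F N := rfl

lemma cQ_ι (N : ℕ) : (cQ F).ι.app N = b F N := rfl

lemma cocone_P_w (t : Cocone (P F)) (N : ℕ) :
    inlT F N ≫ t.ι.app (N + 1) = t.ι.app N := by
  have := t.w (homOfLE (Nat.le_add_right N 1))
  rwa [P_map] at this

lemma cocone_Q_w (t : Cocone (Q F)) (N : ℕ) :
    k F N ≫ t.ι.app (N + 1) = t.ι.app N := by
  have := t.w (homOfLE (Nat.le_add_right N 1))
  rwa [Q_map] at this

lemma cocone_R_w (t : Cocone (R F)) (N : ℕ) :
    tr F (N + 1) ≫ t.ι.app (N + 1) = t.ι.app N := by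
  have := t.w (homOfLE (Nat.le_add_right N 1))
  rwa [R_map] at this

/-- the candidate for `desc` of `cP` -/
noncomputable def descP (t : Cocone (P F)) : ∐ F.obj ⟶ t.pt :=
  Sigma.desc (fun n => incl F n ≫ t.ι.app n)

lemma ι_descP (t : Cocone (P F)) (n : ℕ) :
    Sigma.ι F.obj n ≫ descP F t = incl F n ≫ t.ι.app n := by
  unfold descP
  exact Sigma.ι_desc _ _

lemma a_descP (t : Cocone (P F)) (N : ℕ) : a F N ≫ descP F t = t.ι.app N := by
  induction N with
  | zero => exact (ι_descP F t 0).trans (Category.id_comp _)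
  | succ N ih =>
    apply hom_extT
    · rw [← Category.assoc, inlT_a, ih]
      exact (cocone_P_w F t N).symm
    · rw [← Category.assoc, inrT_a]
      exact ι_descP F t (N + 1)

/-- `∐ F` is the colimit of the finite stages -/
noncomputable def isColimitCP : IsColimit (cP F) where
  desc t := descP F t
  fac t N := a_descP F t N
  uniq t m hm := by
    apply Sigma.hom_ext
    intro n
    rw [ι_descP, ← incl_a, Category.assoc]
    congr 1
    exact hm n

lemma inlT_b (N : ℕ) : inlT F N ≫ b F N = a F N ≫ φ F := by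
  unfold b
  rw [inlT_descT]

lemma inrT_b (N : ℕ) : inrT F N ≫ b F N = Sigma.ι F.obj (N + 1) := by
  unfold b
  rw [inrT_descT]

lemma ι_φ_comp {X : A} (n : ℕ) (m : ∐ F.obj ⟶ X) :
    Sigma.ι F.obj n ≫ φ F ≫ m = Sigma.ι F.obj n ≫ m - tr F n ≫ Sigma.ι F.obj (n + 1) ≫ m := by
  rw [← Category.assoc, ι_φ, Preadditive.sub_comp, Category.assoc]

/-- the legs of a cocone over `Q`, with normalised types -/
noncomputable def tq (t : Cocone (Q F)) (N : ℕ) : T F (N + 1) ⟶ t.pt := t.ι.app N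

lemma k_tq (t : Cocone (Q F)) (N : ℕ) : k F N ≫ tq F t (N + 1) = tq F t N :=
  cocone_Q_w F t N

/-- `inl : F 0 ⟶ F 0 ⊞ F 1` -/
noncomputable def inl0 : F.obj 0 ⟶ T F 1 := inlT F 0

/-- the components of the candidate for `desc` of `cQ` -/
noncomputable def descQfun (t : Cocone (Q F)) : ∀ n, F.obj n ⟶ t.pt
  | 0 => inl0 F ≫ tq F t 0 + tr F 0 ≫ inrT F 0 ≫ tq F t 0
  | n + 1 => inrT F n ≫ tq F t n

/-- the candidate for `desc` of `cQ` -/
noncomputable def descQ (t : Cocone (Q F)) : ∐ F.obj ⟶ t.pt := Sigma.desc (descQfun F t)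

lemma ι_descQ_zero (t : Cocone (Q F)) :
    Sigma.ι F.obj 0 ≫ descQ F t = inl0 F ≫ tq F t 0 + tr F 0 ≫ inrT F 0 ≫ tq F t 0 := by
  unfold descQ
  exact Sigma.ι_desc _ _

lemma ι_descQ_succ (t : Cocone (Q F)) (n : ℕ) :
    Sigma.ι F.obj (n + 1) ≫ descQ F t = inrT F n ≫ tq F t n := by
  unfold descQ
  exact Sigma.ι_desc _ _

lemma inlT_t (t : Cocone (Q F)) (N : ℕ) :
    inlT F N ≫ tq F t N = inlT F N ≫ inlT F (N + 1) ≫ tq F t (N + 1) := by
  rw [← k_tq, ← Category.assoc, inlT_k, Category.assoc]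

lemma inrT_t (t : Cocone (Q F)) (N : ℕ) :
    inrT F N ≫ tq F t N = inrT F N ≫ inlT F (N + 1) ≫ tq F t (N + 1) +
      tr F (N + 1) ≫ inrT F (N + 1) ≫ tq F t (N + 1) := by
  rw [← k_tq F t N, ← Category.assoc, inrT_k, Preadditive.add_comp, Category.assoc, Category.assoc]

lemma claimQ0 (t : Cocone (Q F)) :
    Sigma.ι F.obj 0 ≫ φ F ≫ descQ F t = inl0 F ≫ tq F t 0 := by
  rw [ι_φ_comp, ι_descQ_zero, ι_descQ_succ]
  abel

lemma claimQ (t : Cocone (Q F)) (N : ℕ) :
    a F N ≫ φ F ≫ descQ F t = inlT F N ≫ tq F t N := by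
  induction N with
  | zero => exact claimQ0 F t
  | succ N ih =>
    apply hom_extT
    · rw [← Category.assoc, inlT_a, ih]
      exact inlT_t F t N
    · rw [← Category.assoc, inrT_a, ι_φ_comp, ι_descQ_succ, ι_descQ_succ, inrT_t]
      abel

lemma b_descQ (t : Cocone (Q F)) (N : ℕ) : b F N ≫ descQ F t = tq F t N := by
  apply hom_extT
  · rw [← Category.assoc, inlT_b, Category.assoc, claimQ]
  · rw [← Category.assoc, inrT_b, ι_descQ_succ]

lemma uniqQ (t : Cocone (Q F)) (m : ∐ F.obj ⟶ t.pt) (hm : ∀ N, b F N ≫ m = tq F t N) :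
    m = descQ F t := by
  have h1 : ∀ n, Sigma.ι F.obj (n + 1) ≫ m = inrT F n ≫ tq F t n := fun n => by
    rw [← hm n, ← Category.assoc, inrT_b]
  have h0 : inl0 F ≫ tq F t 0 = Sigma.ι F.obj 0 ≫ φ F ≫ m := by
    rw [← hm 0]
    have := inlT_b F 0
    calc inl0 F ≫ b F 0 ≫ m = (inlT F 0 ≫ b F 0) ≫ m := (Category.assoc _ _ _).symm
      _ = (a F 0 ≫ φ F) ≫ m := by rw [this]
      _ = a F 0 ≫ φ F ≫ m := Category.assoc _ _ _
  apply Sigma.hom_ext
  intro n
  cases n with
  | zero =>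
    rw [ι_descQ_zero, h0, ι_φ_comp, ← h1 0]
    abel
  | succ n => rw [ι_descQ_succ, h1]

/-- `∐ F` is also the colimit of the twisted system -/
noncomputable def isColimitCQ : IsColimit (cQ F) where
  desc t := descQ F t
  fac t N := b_descQ F t N
  uniq t m hm := uniqQ F t m hm

section Colim

variable [HasColimit F]

/-- the canonical map `∐ F ⟶ colim F` -/
noncomputable abbrev p : ∐ F.obj ⟶ colimit F := Sigma.desc (fun n => colimit.ι F n)

lemma tr_colimit_ι (n : ℕ) : tr F n ≫ colimit.ι F (n + 1) = colimit.ι F n :=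
  colimit.w F (homOfLE (Nat.le_succ n))

lemma φ_p : φ F ≫ p F = 0 := by
  apply Sigma.hom_ext
  intro n
  rw [ι_φ_comp, Sigma.ι_desc, Sigma.ι_desc, tr_colimit_ι, sub_self, comp_zero]

/-- the shifted colimit cocone -/
noncomputable def cR : Cocone (R F) where
  pt := colimit F
  ι := NatTrans.ofSequence (F := R F) (G := (Functor.const ℕ).obj (colimit F))
    (fun N => colimit.ι F (N + 1)) (fun N => by
      rw [R_map]
      exact (tr_colimit_ι F (N + 1)).trans (Category.comp_id _).symm)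

/-- a cocone over `F` from a cocone over the shifted sequence -/
noncomputable def coconeOfR (t : Cocone (R F)) : Cocone F where
  pt := t.pt
  ι := NatTrans.ofSequence (F := F) (G := (Functor.const ℕ).obj t.pt)
    (fun n => tr F n ≫ t.ι.app n) (fun n => by
      have h := cocone_R_w F t n
      change tr F n ≫ tr F (n + 1) ≫ t.ι.app (n + 1) = (tr F n ≫ t.ι.app n) ≫ 𝟙 _
      rw [h, Category.comp_id])

/-- `desc` for the shifted cocone -/
noncomputable def descR (t : Cocone (R F)) : colimit F ⟶ t.pt := colimit.desc F (coconeOfR F t)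

lemma ι_descR (t : Cocone (R F)) (n : ℕ) :
    colimit.ι F n ≫ descR F t = tr F n ≫ t.ι.app n := by
  unfold descR
  exact colimit.ι_desc _ _

lemma uniqR (t : Cocone (R F)) (m : colimit F ⟶ t.pt)
    (hm : ∀ N, colimit.ι F (N + 1) ≫ m = t.ι.app N) : m = descR F t := by
  apply colimit.hom_ext
  intro n
  have e1 : colimit.ι F n ≫ m = tr F n ≫ t.ι.app n := by
    rw [← tr_colimit_ι F n, Category.assoc, hm]
  exact e1.trans (ι_descR F t n).symm

/-- the shifted cocone is a colimit cocone -/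
noncomputable def isColimitCR : IsColimit (cR F) where
  desc t := descR F t
  fac t N := (ι_descR F t (N + 1)).trans (cocone_R_w F t N)
  uniq t m hm := by
    exact uniqR F t m hm

lemma b_p (N : ℕ) : b F N ≫ p F = sndT F N ≫ colimit.ι F (N + 1) := by
  apply hom_extT
  · rw [← Category.assoc, inlT_b, Category.assoc, φ_p, comp_zero, inlT_sndT_assoc, zero_comp]
  · rw [← Category.assoc, inrT_b, Sigma.ι_desc, inrT_sndT_assoc]

instance epi_p : Epi (p F) where
  left_cancellation g h w := by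
    apply colimit.hom_ext
    intro n
    have := congrArg (fun x => Sigma.ι F.obj n ≫ x) w
    simpa using this

end Colim

theorem shortExact [HasColimitsOfShape ℕ A] [HasExactColimitsOfShape ℕ A] :
    ∃ w : φ F ≫ p F = 0, (ShortComplex.mk _ _ w).ShortExact := by
  have hf : ∀ N, (cP F).ι.app N ≫ φ F = (S₀ F).f.app N ≫ (cQ F).ι.app N :=
    fun N => (inlT_b F N).symm
  have hg : ∀ N, (cQ F).ι.app N ≫ p F = (S₀ F).g.app N ≫ (cR F).ι.app N := fun N => b_p F N
  have hex := colim.exact_mapShortComplex (S₀_exact F) (isColimitCP F) (isColimitCQ F)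
    (isColimitCR F) (φ F) (p F) hf hg
  have hmono : Mono (φ F) :=
    colim.map_mono' (α F) (isColimitCP F) (isColimitCQ F) (φ F) hf
  exact ⟨φ_p F, ShortComplex.ShortExact.mk' hex hmono (epi_p F)⟩

end Main

end SeqColim
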