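import Mathlib
import Groth.Prelude.Def_DerLim
import Groth.Agent.Lib.SeqColim_helper9

/-!
# A homological functor commuting with countable sums sends homotopy colimits to colimits (helper9)
-/

open CategoryTheory CategoryTheory.Limits Pretriangulated

namespace HocolimHomological

universe v' u' v u

section General

variable {D : Type u} [Category.{v} D] [Preadditive D]
  {A : Type u'} [Category.{v'} A] [Abelian A]
  (H : D ⥤ A) [H.Additive]
  (K : ℕ → D) (f : ∀ n, K n ⟶ K (n + 1)) [HasCoproduct K]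
  [PreservesColimit (Discrete.functor K) H]

/-- the sequence `H(K n)` -/
noncomputable abbrev G : ℕ ⥤ A := Functor.ofSequence (fun n => H.map (f n))

include H K in
lemma hasCoproduct_map : HasCoproduct (fun n => H.obj (K n)) := by
  have : HasColimit (Discrete.functor K ⋙ H) :=
    ⟨⟨⟨_, isColimitOfPreserves H (colimit.isColimit (Discrete.functor K))⟩⟩⟩
  exact hasColimit_of_iso
    (Discrete.natIso (fun _ => Iso.refl _) :
      Discrete.functor (fun n => H.obj (K n)) ≅ Discrete.functor K ⋙ H)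

lemma tr_G (n : ℕ) : SeqColim.tr (G H K f) n = H.map (f n) :=
  Functor.ofSequence_map_homOfLE_succ _ n

variable [HasCoproduct (fun n => H.obj (K n))]

/-- the comparison isomorphism -/
noncomputable def e : (∐ fun n => H.obj (K n)) ≅ H.obj (∐ K) :=
  (PreservesCoproduct.iso H K).symm

lemma ι_e (n : ℕ) : Sigma.ι (fun n => H.obj (K n)) n ≫ (e H K).hom = H.map (Sigma.ι K n) :=
  ι_comp_sigmaComparison H K n

/-- `1 - shift` for `H(K n)`, with clean types -/
noncomputable def φ' : (∐ fun n => H.obj (K n)) ⟶ ∐ fun n => H.obj (K n) :=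
  𝟙 _ - DerLim.shiftMap (fun n => H.obj (K n)) (fun n => H.map (f n))

lemma ι_φ' (n : ℕ) : Sigma.ι (fun n => H.obj (K n)) n ≫ φ' H K f =
    Sigma.ι (fun n => H.obj (K n)) n - H.map (f n) ≫ Sigma.ι (fun n => H.obj (K n)) (n + 1) := by
  unfold φ' DerLim.shiftMap
  rw [Preadditive.comp_sub, Category.comp_id, Sigma.ι_desc]

lemma conj : (e H K).hom ≫ H.map (𝟙 _ - DerLim.shiftMap K f) = φ' H K f ≫ (e H K).hom := by
  apply Sigma.hom_ext
  intro n
  rw [← Category.assoc, ι_e, ← Functor.map_comp, ← Category.assoc, ι_φ', Preadditive.sub_comp,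
    Category.assoc, ι_e, ι_e, Preadditive.comp_sub, Category.comp_id, Functor.map_sub,
    ← Functor.map_comp]
  congr 2
  unfold DerLim.shiftMap
  rw [Sigma.ι_desc]

lemma φ_eq :
    @SeqColim.φ A _ _ (G H K f) ‹HasCoproduct (fun n => H.obj (K n))› = φ' H K f := by
  refine @Sigma.hom_ext _ _ _ (fun n => H.obj (K n)) _ _ _ _ ?_
  intro n
  have h1 := @SeqColim.ι_φ A _ _ (G H K f) ‹HasCoproduct (fun n => H.obj (K n))› n
  rw [tr_G] at h1
  exact h1.trans (ι_φ' H K f n).symm

section

variable [HasColimitsOfShape ℕ A]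

/-- the canonical map to the colimit, with clean types -/
noncomputable def p' : (∐ fun n => H.obj (K n)) ⟶ colimit (G H K f) :=
  Sigma.desc (fun n => colimit.ι (G H K f) n)

lemma ι_p' (n : ℕ) : Sigma.ι (fun n => H.obj (K n)) n ≫ p' H K f = colimit.ι (G H K f) n := by
  unfold p'
  rw [Sigma.ι_desc]

theorem shortExact' [HasExactColimitsOfShape ℕ A] :
    ∃ w : φ' H K f ≫ p' H K f = 0, (ShortComplex.mk _ _ w).ShortExact := by
  obtain ⟨w, h⟩ := @SeqColim.shortExact A _ _ (G H K f) ‹_› _ _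
  revert w h
  rw [φ_eq]
  intro w h
  exact ⟨w, h⟩

end

end General

section Main

variable {D : Type u} [Category.{v} D] [Preadditive D] [HasZeroObject D] [HasShift D ℤ]
  [∀ n : ℤ, (shiftFunctor D n).Additive] [Pretriangulated D]
  [HasColimitsOfShape (Discrete ℕ) D]
  {A : Type u'} [Category.{v'} A] [Abelian A] [HasColimitsOfShape ℕ A]
  [HasExactColimitsOfShape ℕ A]
  (H : D ⥤ A) [H.IsHomological] [PreservesColimitsOfShape (Discrete ℕ) H]
  (K : ℕ → D) (f : ∀ n, K n ⟶ K (n + 1)) (L : D) (i : ∀ n, K n ⟶ L)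

include H in
lemma mono_of_conj {X Y : A} (a : X ≅ Y) (g : Y ⟶ Y) (h : X ⟶ X) [Mono h]
    (w : a.hom ≫ g = h ≫ a.hom) : Mono g := by
  have : g = a.inv ≫ h ≫ a.hom := by rw [← w, a.inv_hom_id_assoc]
  rw [this]
  infer_instance

theorem exists_iso (hL : DerLim.IsHocolim K f L i) :
    ∃ e : colimit (Functor.ofSequence (fun n => H.map (f n))) ≅ H.obj L,
      ∀ n : ℕ, colimit.ι (Functor.ofSequence (fun n => H.map (f n))) n ≫ e.hom = H.map (i n) := by
  obtain ⟨c, hT⟩ := hL
  have hT1 := H.map_distinguished_exact _ hT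
  have hT2 := H.map_distinguished_exact _ (rot_of_distTriang _ hT)
  have hT3 := H.map_distinguished_exact _ (rot_of_distTriang _ (rot_of_distTriang _ hT))
  haveI : HasCoproduct (fun n => H.obj (K n)) := hasCoproduct_map H K
  obtain ⟨w, hS⟩ := shortExact' H K f
  -- the shifted functor
  let H' : D ⥤ A := shiftFunctor D (1 : ℤ) ⋙ H
  haveI : H'.Additive := by dsimp [H']; infer_instance
  haveI : PreservesColimit (Discrete.functor K) H' := by dsimp [H']; infer_instance
  haveI : HasCoproduct (fun n => H'.obj (K n)) := hasCoproduct_map H' K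
  obtain ⟨w', hS'⟩ := shortExact' H' K f
  haveI := hS'.mono_f
  have hmono : Mono (H'.map (𝟙 _ - DerLim.shiftMap K f)) :=
    mono_of_conj H (e H' K) _ (φ' H' K f) (conj H' K f)
  -- `H(c) = 0`
  have z3 : H.map c ≫ H.map (-(shiftFunctor D (1 : ℤ)).map (𝟙 _ - DerLim.shiftMap K f)) = 0 :=
    ((shortComplexOfDistTriangle _
      (rot_of_distTriang _ (rot_of_distTriang _ hT))).map H).zero
  rw [Functor.map_neg, Preadditive.comp_neg, neg_eq_zero] at z3
  have hc0 : H.map c = 0 :=
    (cancel_mono (H'.map (𝟙 _ - DerLim.shiftMap K f))).1 (z3.trans zero_comp.symm)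
  have hepi : Epi (H.map (Sigma.desc i)) := hT2.epi_f hc0
  -- the second cokernel presentation
  have w1 : φ' H K f ≫ (e H K).hom ≫ H.map (Sigma.desc i) = 0 := by
    rw [← Category.assoc, ← conj, Category.assoc, ← Functor.map_comp]
    have z1 : (𝟙 _ - DerLim.shiftMap K f) ≫ Sigma.desc i = 0 :=
      comp_distTriang_mor_zero₁₂ _ hT
    rw [z1, Functor.map_zero, comp_zero]
  let S1 : ShortComplex A := ShortComplex.mk (φ' H K f) ((e H K).hom ≫ H.map (Sigma.desc i)) w1
  have hS1 : S1.Exact := by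
    have c1 : (e H K).hom ≫ H.map (𝟙 _ - DerLim.shiftMap K f) = S1.f ≫ (e H K).hom :=
      conj H K f
    have c2 : (e H K).hom ≫ H.map (Sigma.desc i) = S1.g ≫ 𝟙 _ := (Category.comp_id _).symm
    let ι1 : S1 ≅ (shortComplexOfDistTriangle _ hT).map H :=
      ShortComplex.isoMk (e H K) (e H K) (Iso.refl _) c1 c2
    exact ShortComplex.exact_of_iso ι1.symm hT1
  haveI : Epi S1.g := by
    dsimp [S1]
    infer_instance
  haveI := hS.epi_g
  let iso : colimit (G H K f) ≅ H.obj L :=
    IsColimit.coconePointUniqueUpToIso hS.exact.gIsCokernel hS1.gIsCokernel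
  have hiso : p' H K f ≫ iso.hom = (e H K).hom ≫ H.map (Sigma.desc i) :=
    IsColimit.comp_coconePointUniqueUpToIso_hom hS.exact.gIsCokernel hS1.gIsCokernel
      WalkingParallelPair.one
  refine ⟨iso, fun n => ?_⟩
  have h1 : colimit.ι (G H K f) n ≫ iso.hom =
      Sigma.ι (fun n => H.obj (K n)) n ≫ p' H K f ≫ iso.hom :=
    (congrArg (fun x => x ≫ iso.hom) (ι_p' H K f n)).symm.trans (Category.assoc _ _ _)
  have h2 : Sigma.ι (fun n => H.obj (K n)) n ≫ (e H K).hom ≫ H.map (Sigma.desc i) =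
      H.map (i n) := by
    rw [← Category.assoc, ι_e, ← Functor.map_comp, Sigma.ι_desc]
  rw [hiso] at h1
  exact h1.trans h2

end Main

end HocolimHomological
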