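import Mathlib
import Groth.Prelude.Def_DerLim
import Groth.Prelude.Def_CohDer
import Groth.Agent.Lib.HocolimHomological_helper9

/-!
# Compact objects and homotopy colimits (helper9)
-/

open CategoryTheory CategoryTheory.Limits Pretriangulated Opposite

namespace CompactH9

universe v u

variable {D : Type u} [Category.{v} D] [Preadditive D]

/-- `Hom(C, -)` preserves `v`-small coproducts -/
def PresCoprod (C : D) : Prop :=
  ∀ κ : Type v, PreservesColimitsOfShape (Discrete κ) (preadditiveCoyoneda.obj (op C))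

section A

open scoped Classical in
lemma homSum_of [HasCoproducts.{v} D] {C : D} (κ : Type v) (X : κ → D) (k : κ) (g : C ⟶ X k) :
    CohDer.homSumToHomCoprod C X (DirectSum.of (fun i => C ⟶ X i) k g) = g ≫ Sigma.ι X k := by
  unfold CohDer.homSumToHomCoprod
  simp
  rfl

variable [HasCoproducts.{v} D] {C : D} (hC : CohDer.IsCompactObject C) (κ : Type v) (X : κ → D)

/-- the defining bijection of a compact object -/
noncomputable def eqv : DirectSum κ (fun i => C ⟶ X i) ≃+ (C ⟶ ∐ X) :=
  AddEquiv.ofBijective (CohDer.homSumToHomCoprod C X) (hC κ X)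

open scoped Classical in
lemma eqv_of (k : κ) (g : C ⟶ X k) :
    eqv hC κ X (DirectSum.of (fun i => C ⟶ X i) k g) = g ≫ Sigma.ι X k :=
  homSum_of κ X k g

open scoped Classical in
lemma eqv_symm_comp (k : κ) (g : C ⟶ X k) :
    (eqv hC κ X).symm (g ≫ Sigma.ι X k) = DirectSum.of (fun i => C ⟶ X i) k g := by
  rw [AddEquiv.symm_apply_eq]
  exact (eqv_of hC κ X k g).symm

open scoped Classical in
/-- the map out of `Hom(C, ∐ X)` induced by maps out of the `Hom(C, X k)` -/
noncomputable def dsc {M : Type*} [AddCommMonoid M] (φ : ∀ k, (C ⟶ X k) →+ M) : (C ⟶ ∐ X) →+ M :=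
  (DirectSum.toAddMonoid φ).comp (eqv hC κ X).symm.toAddMonoidHom

lemma dsc_comp {M : Type*} [AddCommMonoid M] (φ : ∀ k, (C ⟶ X k) →+ M) (k : κ) (g : C ⟶ X k) :
    dsc hC κ X φ (g ≫ Sigma.ι X k) = φ k g := by
  classical
  unfold dsc
  simp only [AddMonoidHom.coe_comp, Function.comp_apply, AddEquiv.coe_toAddMonoidHom]
  rw [eqv_symm_comp]
  exact DirectSum.toAddMonoid_of _ _ _

lemma dsc_uniq {M : Type*} [AddCommMonoid M] (φ : ∀ k, (C ⟶ X k) →+ M) (ψ : (C ⟶ ∐ X) →+ M)
    (h : ∀ k (g : C ⟶ X k), ψ (g ≫ Sigma.ι X k) = φ k g) : ψ = dsc hC κ X φ := by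
  classical
  have h1 : ψ.comp (eqv hC κ X).toAddMonoidHom =
      (dsc hC κ X φ).comp (eqv hC κ X).toAddMonoidHom := by
    apply DirectSum.addHom_ext
    intro k g
    simp only [AddMonoidHom.coe_comp, Function.comp_apply, AddEquiv.coe_toAddMonoidHom]
    rw [eqv_of, h, dsc_comp]
  ext x
  obtain ⟨y, rfl⟩ := (eqv hC κ X).surjective x
  exact DFunLike.congr_fun h1 y

/-- the cofan `Hom(C, X k) ⟶ Hom(C, ∐ X)` is a colimit when `C` is compact -/
noncomputable def isColimitCofan :
    IsColimit (Cofan.mk ((preadditiveCoyoneda.obj (op C)).obj (∐ X))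
      (fun j => (preadditiveCoyoneda.obj (op C)).map (Sigma.ι X j))) :=
  Cofan.IsColimit.mk _
    (fun t => AddCommGrpCat.ofHom (dsc hC κ X (fun j => (t.inj j).hom)))
    (fun t j => by
      ext g
      exact dsc_comp hC κ X (fun j => (t.inj j).hom) j g)
    (fun t m hm => by
      apply AddCommGrpCat.hom_ext
      exact dsc_uniq hC κ X (fun j => (t.inj j).hom) m.hom
        (fun k g => congrArg (fun φ => φ.hom g) (hm k)))

include hC in
theorem presCoprod_of_isCompactObject : PresCoprod C := by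
  intro κ
  constructor
  intro K
  have e : K ≅ Discrete.functor (K.obj ∘ Discrete.mk) := Discrete.natIsoFunctor
  haveI : PreservesColimit (Discrete.functor (K.obj ∘ Discrete.mk))
      (preadditiveCoyoneda.obj (op C)) :=
    preservesColimit_of_preserves_colimit_cocone (coproductIsCoproduct _)
      ((isColimitMapCoconeCofanMkEquiv _ _ _).symm (isColimitCofan hC κ _))
  exact preservesColimit_of_iso_diagram _ e.symm

end A

section B

variable [HasShift D ℤ] [∀ n : ℤ, (shiftFunctor D n).Additive]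

/-- `Hom(C, (-)⟦-m⟧) ≅ Hom(C⟦m⟧, -)` -/
noncomputable def coyonedaShiftIso (C : D) (m : ℤ) :
    shiftFunctor D (-m) ⋙ preadditiveCoyoneda.obj (op C) ≅
      preadditiveCoyoneda.obj (op ((shiftFunctor D m).obj C)) :=
  haveI : (shiftEquiv D m).functor.Additive := inferInstanceAs (shiftFunctor D m).Additive
  NatIso.ofComponents
    (fun Z => (((shiftEquiv D m).toAdjunction.homAddEquiv C Z).symm).toAddCommGrpIso)
    (fun {Z Z'} f => by
      ext g
      exact ((shiftEquiv D m).toAdjunction.homEquiv_naturality_right_symm g f))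

theorem presCoprod_shift {C : D} (h : PresCoprod C) (m : ℤ) :
    PresCoprod ((shiftFunctor D m).obj C) := by
  intro κ
  haveI := h κ
  exact preservesColimitsOfShape_of_natIso (coyonedaShiftIso C m)

end B

section C

instance hasExactColimitsOfShape_nat_ab : HasExactColimitsOfShape ℕ AddCommGrpCat.{v} := by
  let e := ULiftHomULiftCategory.equiv.{v, v} ℕ
  haveI : IsFiltered (ULiftHom.{v} (ULift.{v} ℕ)) := IsFiltered.of_equivalence e
  exact HasExactColimitsOfShape.of_domain_equivalence _ e.symm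

variable [HasZeroObject D] [HasShift D ℤ] [∀ n : ℤ, (shiftFunctor D n).Additive]
  [Pretriangulated D] [HasColimitsOfShape (Discrete ℕ) D]

theorem factor_of_presCoprod {C : D} (hC : PresCoprod C) (K : ℕ → D) (f : ∀ n, K n ⟶ K (n + 1))
    (L : D) (i : ∀ n, K n ⟶ L) (hL : DerLim.IsHocolim K f L i) (g : C ⟶ L) :
    ∃ (n : ℕ) (g' : C ⟶ K n), g = g' ≫ i n := by
  haveI := hC (ULift.{v} ℕ)
  haveI : PreservesColimitsOfShape (Discrete ℕ) (preadditiveCoyoneda.obj (op C)) :=
    preservesColimitsOfShape_of_equiv (Discrete.equivalence Equiv.ulift.{v}) _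
  obtain ⟨e, he⟩ := HocolimHomological.exists_iso (preadditiveCoyoneda.obj (op C)) K f L i hL
  haveI : PreservesFilteredColimitsOfSize.{0, 0} (forget AddCommGrpCat.{v}) :=
    preservesFilteredColimitsOfSize_shrink.{0, v, 0, v} _
  obtain ⟨n, y, hy⟩ := Concrete.colimit_exists_rep _ (e.inv.hom g)
  refine ⟨n, y, ?_⟩
  have h1 := congrArg (fun φ => φ.hom y) (he n)
  simp only [AddCommGrpCat.hom_comp, AddMonoidHom.coe_comp, Function.comp_apply] at h1
  have h2 : e.hom.hom (e.inv.hom g) = g := by
    have := congrArg (fun φ => φ.hom g) e.inv_hom_id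
    simpa using this
  rw [← h2, ← hy]
  exact h1

end C

end CompactH9
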