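import Mathlib
import Groth.Prelude.Def_CohDer
import Groth.Agent.Lib.CompactHocolim_helper9

/-!
# Objects all of whose maps into coproducts factor through finite subcoproducts (helper9)
-/

open CategoryTheory CategoryTheory.Limits Pretriangulated

namespace FinFactor

universe w v u

variable {D : Type u} [Category.{v} D] [Preadditive D]

section Idem

variable {κ : Type w} (X : κ → D) [HasCoproduct X]

open Classical in
/-- the idempotent of `∐ X` projecting onto the summands in `s` -/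
noncomputable def e (s : Set κ) : ∐ X ⟶ ∐ X :=
  Sigma.desc (fun k => if k ∈ s then Sigma.ι X k else 0)

lemma ι_e_of_mem {s : Set κ} {k : κ} (hk : k ∈ s) : Sigma.ι X k ≫ e X s = Sigma.ι X k := by
  unfold e
  rw [Sigma.ι_desc, if_pos hk]

lemma ι_e_of_not_mem {s : Set κ} {k : κ} (hk : k ∉ s) : Sigma.ι X k ≫ e X s = 0 := by
  unfold e
  rw [Sigma.ι_desc, if_neg hk]

lemma e_comp_of_subset {s t : Set κ} (h : s ⊆ t) : e X s ≫ e X t = e X s := by
  apply Sigma.hom_ext
  intro k
  by_cases hk : k ∈ s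
  · rw [← Category.assoc, ι_e_of_mem X hk, ι_e_of_mem X (h hk)]
  · rw [← Category.assoc, ι_e_of_not_mem X hk, zero_comp]

lemma e_empty : e X (∅ : Set κ) = 0 := by
  apply Sigma.hom_ext
  intro k
  rw [ι_e_of_not_mem X (Set.notMem_empty k), comp_zero]

variable {X}

lemma supp_mono {C : D} {g : C ⟶ ∐ X} {s t : Set κ} (h : s ⊆ t) (hg : g ≫ e X s = g) :
    g ≫ e X t = g := by
  rw [← hg, Category.assoc, e_comp_of_subset X h]

/-- `g` factors through a finite subcoproduct -/
def FinSupp {C : D} (g : C ⟶ ∐ X) : Prop := ∃ s : Finset κ, g ≫ e X (s : Set κ) = g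

lemma finSupp_zero {C : D} : FinSupp (0 : C ⟶ ∐ X) := ⟨∅, zero_comp⟩

lemma finSupp_add {C : D} {g₁ g₂ : C ⟶ ∐ X} (h₁ : FinSupp g₁) (h₂ : FinSupp g₂) :
    FinSupp (g₁ + g₂) := by
  classical
  obtain ⟨s₁, hs₁⟩ := h₁
  obtain ⟨s₂, hs₂⟩ := h₂
  refine ⟨s₁ ∪ s₂, ?_⟩
  rw [Preadditive.add_comp, supp_mono (t := ((s₁ ∪ s₂ : Finset κ) : Set κ)) (by simp) hs₁,
    supp_mono (t := ((s₁ ∪ s₂ : Finset κ) : Set κ)) (by simp) hs₂]

lemma finSupp_comp_ι {C : D} (k : κ) (g : C ⟶ X k) : FinSupp (g ≫ Sigma.ι X k) := by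
  classical
  refine ⟨{k}, ?_⟩
  rw [Category.assoc, ι_e_of_mem X (by simp)]

lemma finSupp_precomp {C C' : D} (a : C' ⟶ C) {g : C ⟶ ∐ X} (h : FinSupp g) : FinSupp (a ≫ g) := by
  obtain ⟨s, hs⟩ := h
  exact ⟨s, by rw [Category.assoc, hs]⟩

end Idem

/-- every map from `C` to a `v`-small coproduct factors through a finite subcoproduct -/
def FF [HasCoproducts.{v} D] (C : D) : Prop :=
  ∀ (κ : Type v) (X : κ → D) (g : C ⟶ ∐ X), FinSupp g

section L1

variable [HasCoproducts.{v} D]

theorem ff_of_isCompactObject {C : D} (hC : CohDer.IsCompactObject C) : FF C := by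
  classical
  intro κ X g
  obtain ⟨x, rfl⟩ := (CompactH9.eqv hC κ X).surjective g
  induction x using DirectSum.induction_on with
  | zero => rw [map_zero]; exact finSupp_zero
  | of k g' => rw [CompactH9.eqv_of]; exact finSupp_comp_ι k g'
  | add a b ha hb => rw [map_add]; exact finSupp_add ha hb

end L1

section L2

variable [HasCoproducts.{v} D] [HasShift D ℤ] [∀ n : ℤ, (shiftFunctor D n).Additive]

lemma e_shift {κ : Type v} (X : κ → D) (n : ℤ) (s : Set κ) :
    e (fun k => (shiftFunctor D n).obj (X k)) s ≫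
        (PreservesCoproduct.iso (shiftFunctor D n) X).inv =
      (PreservesCoproduct.iso (shiftFunctor D n) X).inv ≫ (shiftFunctor D n).map (e X s) := by
  apply Sigma.hom_ext
  intro k
  have h1 : Sigma.ι (fun k => (shiftFunctor D n).obj (X k)) k ≫
      (PreservesCoproduct.iso (shiftFunctor D n) X).inv =
      (shiftFunctor D n).map (Sigma.ι X k) := ι_comp_sigmaComparison (shiftFunctor D n) X k
  by_cases hk : k ∈ s
  · rw [← Category.assoc, ι_e_of_mem _ hk, h1, ← Category.assoc, h1, ← Functor.map_comp,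
      ι_e_of_mem _ hk]
  · rw [← Category.assoc, ι_e_of_not_mem _ hk, zero_comp, ← Category.assoc, h1,
      ← Functor.map_comp, ι_e_of_not_mem _ hk, Functor.map_zero]

theorem ff_shift {C : D} (hC : FF C) (m : ℤ) : FF ((shiftFunctor D m).obj C) := by
  intro κ X g
  let adj : shiftFunctor D m ⊣ shiftFunctor D (-m) := (shiftEquiv D m).toAdjunction
  let σ := PreservesCoproduct.iso (shiftFunctor D (-m)) X
  obtain ⟨s, hs⟩ := hC κ (fun k => (shiftFunctor D (-m)).obj (X k))
    (adj.homEquiv C (∐ X) g ≫ σ.hom)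
  refine ⟨s, ?_⟩
  apply (adj.homEquiv C (∐ X)).injective
  rw [adj.homEquiv_naturality_right]
  have h2 : adj.homEquiv C (∐ X) g ≫ (shiftFunctor D (-m)).map (e X (s : Set κ)) =
      ((adj.homEquiv C (∐ X) g ≫ σ.hom) ≫
        e (fun k => (shiftFunctor D (-m)).obj (X k)) (s : Set κ)) ≫ σ.inv := by
    rw [Category.assoc, Category.assoc, e_shift, σ.hom_inv_id_assoc]
  have h3 : adj.homEquiv C (∐ X) g ≫ (shiftFunctor D (-m)).map (e X (s : Set κ)) =
      adj.homEquiv C (∐ X) g := by
    rw [h2, hs, Category.assoc, σ.hom_inv_id, Category.comp_id]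
  exact h3

end L2

section L3

variable [HasCoproducts.{v} D] [HasZeroObject D] [HasShift D ℤ]
  [∀ n : ℤ, (shiftFunctor D n).Additive] [Pretriangulated D]

/-- `FF` passes to the third vertex of a distinguished triangle -/
theorem ff_triangle (T : Triangle D) (hT : T ∈ distTriang D) (h2 : FF T.obj₂)
    (h1 : FF ((shiftFunctor D (1 : ℤ)).obj T.obj₁)) : FF T.obj₃ := by
  classical
  intro κ X g
  obtain ⟨s₁, hs₁⟩ := h2 κ X (T.mor₂ ≫ g)
  have z : T.mor₂ ≫ (g - g ≫ e X (s₁ : Set κ)) = 0 := by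
    rw [Preadditive.comp_sub, ← Category.assoc, hs₁, sub_self]
  obtain ⟨g'', hg''⟩ := Triangle.yoneda_exact₃ T hT _ z
  have hf : FinSupp (g - g ≫ e X (s₁ : Set κ)) := by
    rw [hg'']
    exact finSupp_precomp _ (h1 κ X g'')
  have hf2 : FinSupp (g ≫ e X (s₁ : Set κ)) :=
    ⟨s₁, by rw [Category.assoc, e_comp_of_subset X (Set.Subset.refl _)]⟩
  have := finSupp_add hf hf2
  rwa [sub_add_cancel] at this

/-- `FF` passes to the first vertex of a distinguished triangle -/
theorem ff_triangle₁ (T : Triangle D) (hT : T ∈ distTriang D) (h2 : FF T.obj₂)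
    (h3 : FF T.obj₃) : FF T.obj₁ := by
  have hT' := inv_rot_of_distTriang _ (inv_rot_of_distTriang _ hT)
  refine ff_triangle _ hT' ?_ ?_
  · exact ff_shift h3 (-1)
  · exact ff_shift (ff_shift h2 (-1)) 1

end L3

section L4

variable [HasCoproducts.{v} D]

theorem ff_finite_coprod {J : Type w} [Finite J] (Z : J → D) [HasCoproduct Z]
    (hZ : ∀ j, FF (Z j)) : FF (∐ Z) := by
  classical
  haveI := Fintype.ofFinite J
  intro κ X g
  choose s hs using fun j => hZ j κ X (Sigma.ι Z j ≫ g)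
  refine ⟨Finset.univ.biUnion s, ?_⟩
  apply Sigma.hom_ext
  intro j
  rw [← Category.assoc]
  refine supp_mono ?_ (hs j)
  intro k hk
  simp only [Finset.coe_biUnion, Finset.coe_univ, Set.mem_univ, Set.iUnion_true, Set.mem_iUnion,
    Finset.mem_coe]
  exact ⟨j, hk⟩

end L4

section Sub

variable {κ : Type w} (X : κ → D) (t : Finset κ) [HasCoproduct X]
  [HasCoproduct (fun k : t => X k)]

/-- the finite subcoproduct -/
noncomputable abbrev sub : D := ∐ (fun k : t => X k)

/-- inclusion of the finite subcoproduct -/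
noncomputable def subι : sub X t ⟶ ∐ X := Sigma.desc (fun k : t => Sigma.ι X k)

open Classical in
/-- retraction onto the finite subcoproduct -/
noncomputable def subπ : ∐ X ⟶ sub X t :=
  Sigma.desc (fun k => if h : k ∈ t then Sigma.ι (fun k : t => X k) ⟨k, h⟩ else 0)

lemma subπ_subι : subπ X t ≫ subι X t = e X (t : Set κ) := by
  apply Sigma.hom_ext
  intro k
  unfold subπ subι
  rw [← Category.assoc, Sigma.ι_desc]
  by_cases hk : k ∈ t
  · rw [dif_pos hk, Sigma.ι_desc, ι_e_of_mem X (by exact hk)]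
  · rw [dif_neg hk, zero_comp, ι_e_of_not_mem X (by exact hk)]

end Sub

end FinFactor
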