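import Mathlib
import Groth.Prelude.Def_CohDer
import Groth.Agent.Lib.FinFactor_helper9

/-!
# Compact objects form a triangulated subcategory (helper9)
-/

open CategoryTheory CategoryTheory.Limits Pretriangulated ZeroObject

namespace CompactTri

open FinFactor

universe v u

variable {D : Type u} [Category.{v} D] [Preadditive D] [HasCoproducts.{v} D]

section Proj

variable {κ : Type v} (X : κ → D)

open Classical in
/-- projection of a coproduct onto a summand -/
noncomputable def pr (k : κ) : ∐ X ⟶ X k :=
  Sigma.desc (fun j => if h : j = k then eqToHom (by rw [h]) else 0)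

lemma ι_pr_self (k : κ) : Sigma.ι X k ≫ pr X k = 𝟙 _ := by
  unfold pr
  rw [Sigma.ι_desc, dif_pos rfl, eqToHom_refl]

lemma ι_pr_ne {j k : κ} (h : j ≠ k) : Sigma.ι X j ≫ pr X k = 0 := by
  unfold pr
  rw [Sigma.ι_desc, dif_neg h]

open Classical in
lemma homSum_pr {C : D} (x : DirectSum κ (fun i => C ⟶ X i)) (k : κ) :
    CohDer.homSumToHomCoprod C X x ≫ pr X k = x k := by
  induction x using DirectSum.induction_on with
  | zero => simp
  | of j g =>
    rw [CompactH9.homSum_of]
    by_cases h : j = k
    · subst h
      rw [Category.assoc, ι_pr_self, Category.comp_id, DirectSum.of_eq_same]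
    · rw [Category.assoc, ι_pr_ne X h, comp_zero, DirectSum.of_eq_of_ne _ _ _ (Ne.symm h)]
  | add a b ha hb =>
    rw [map_add, Preadditive.add_comp, ha, hb, DirectSum.add_apply]

lemma homSum_injective (C : D) : Function.Injective (CohDer.homSumToHomCoprod C X) := by
  classical
  intro x y hxy
  ext k
  rw [← homSum_pr X x k, ← homSum_pr X y k, hxy]

open Classical in
lemma e_eq_sum (s : Finset κ) : e X (s : Set κ) = ∑ k ∈ s, pr X k ≫ Sigma.ι X k := by
  apply Sigma.hom_ext
  intro j
  rw [Preadditive.comp_sum]
  by_cases hj : j ∈ s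
  · rw [ι_e_of_mem X (by exact hj), Finset.sum_eq_single j]
    · rw [← Category.assoc, ι_pr_self, Category.id_comp]
    · intro k _ hkj
      rw [← Category.assoc, ι_pr_ne X (Ne.symm hkj), zero_comp]
    · intro h
      exact absurd hj h
  · rw [ι_e_of_not_mem X (by exact hj)]
    symm
    apply Finset.sum_eq_zero
    intro k hk
    have : j ≠ k := fun h => hj (h ▸ hk)
    rw [← Category.assoc, ι_pr_ne X this, zero_comp]

end Proj

theorem isCompactObject_of_ff {C : D} (hC : FF C) : CohDer.IsCompactObject C := by
  classical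
  intro κ X
  refine ⟨homSum_injective X C, fun g => ?_⟩
  obtain ⟨s, hs⟩ := hC κ X g
  refine ⟨∑ k ∈ s, DirectSum.of (fun i => C ⟶ X i) k (g ≫ pr X k), ?_⟩
  rw [map_sum]
  simp only [CompactH9.homSum_of]
  calc ∑ k ∈ s, (g ≫ pr X k) ≫ Sigma.ι X k
      = g ≫ ∑ k ∈ s, pr X k ≫ Sigma.ι X k := by
        rw [Preadditive.comp_sum]
        simp only [Category.assoc]
    _ = g ≫ e X (s : Set κ) := by rw [e_eq_sum]
    _ = g := hs

theorem isCompactObject_iff_ff {C : D} : CohDer.IsCompactObject C ↔ FF C :=
  ⟨ff_of_isCompactObject, isCompactObject_of_ff⟩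

section Tri

variable [HasZeroObject D] [HasShift D ℤ] [∀ n : ℤ, (shiftFunctor D n).Additive]
  [Pretriangulated D]

theorem isTriangulated :
    ObjectProperty.IsTriangulated (fun K : D => CohDer.IsCompactObject K) where
  exists_zero := ⟨(0 : D), isZero_zero D, isCompactObject_of_ff (fun κ X g => by
    have : g = 0 := (isZero_zero D).eq_of_src _ _
    rw [this]
    exact finSupp_zero)⟩
  isStableUnderShiftBy a :=
    { le_shift := fun K hK => isCompactObject_of_ff (ff_shift (ff_of_isCompactObject hK) a) }
  ext₂' T hT h1 h3 := by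
    apply ObjectProperty.le_isoClosure
    apply isCompactObject_of_ff
    refine ff_triangle _ (inv_rot_of_distTriang _ hT) (ff_of_isCompactObject h1) ?_
    exact ff_shift (ff_shift (ff_of_isCompactObject h3) (-1)) 1

end Tri

end CompactTri
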