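import Mathlib
import Groth.Prelude.Def_CohDer
import Groth.Agent.Lib.CompactTri_helper9
import Groth.Agent.S7881

/-!
# Right adjoints preserving coproducts and compactness of images of generators (helper9)
-/

open CategoryTheory CategoryTheory.Limits Pretriangulated

namespace AdjCompact

universe v u u'

section A

variable {D : Type u} [Category.{v} D] [Preadditive D] [HasCoproducts.{v} D]
  {E : Type u'} [Category.{v} E] [Preadditive E] [HasCoproducts.{v} E]
  {F : D ⥤ E} [F.Additive] {G : E ⥤ D} (adj : F ⊣ G)

include adj in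
/-- if `C` and `F C` are compact then `Hom(C, ∐ G X) → Hom(C, G ∐ X)` is bijective -/
theorem comp_sigmaComparison_bijective (C : D) (hC : CohDer.IsCompactObject C)
    (hFC : CohDer.IsCompactObject (F.obj C)) (κ : Type v) (X : κ → E) :
    Function.Bijective (fun g : C ⟶ ∐ (fun k => G.obj (X k)) => g ≫ sigmaComparison G X) := by
  classical
  let a := CohDer.homSumToHomCoprod C (fun k => G.obj (X k))
  let b := CohDer.homSumToHomCoprod (F.obj C) X
  let m : DirectSum κ (fun k => C ⟶ G.obj (X k)) →+ DirectSum κ (fun k => F.obj C ⟶ X k) :=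
    DirectSum.map (fun k => (adj.homAddEquiv C (X k)).symm.toAddMonoidHom)
  have ha : Function.Bijective a := hC κ _
  have hb : Function.Bijective b := hFC κ X
  have hm : Function.Bijective m := by
    constructor
    · exact (DirectSum.map_injective _).2 (fun k => (adj.homAddEquiv C (X k)).symm.injective)
    · exact (DirectSum.map_surjective _).2 (fun k => (adj.homAddEquiv C (X k)).symm.surjective)
  have sq : (Preadditive.rightComp C (sigmaComparison G X)).comp a =
      (adj.homAddEquiv C (∐ X)).toAddMonoidHom.comp (b.comp m) := by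
    apply DirectSum.addHom_ext
    intro k g
    have h1 : a (DirectSum.of _ k g) = g ≫ Sigma.ι (fun k => G.obj (X k)) k :=
      CompactH9.homSum_of κ (fun k => G.obj (X k)) k g
    have h2 : m (DirectSum.of _ k g) = DirectSum.of (fun k => F.obj C ⟶ X k) k
        ((adj.homEquiv C (X k)).symm g) := by
      dsimp only [m]
      rw [DirectSum.map_of]
      rfl
    have h3 : b (DirectSum.of (fun k => F.obj C ⟶ X k) k ((adj.homEquiv C (X k)).symm g)) =
        (adj.homEquiv C (X k)).symm g ≫ Sigma.ι X k := CompactH9.homSum_of κ X k _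
    show a (DirectSum.of _ k g) ≫ sigmaComparison G X =
      adj.homEquiv C (∐ X) (b (m (DirectSum.of _ k g)))
    rw [h1, h2, h3, Category.assoc, ι_comp_sigmaComparison, Adjunction.homEquiv_naturality_right,
      Equiv.apply_symm_apply]
  have hcomp : Function.Bijective
      ((fun g : C ⟶ ∐ (fun k => G.obj (X k)) => g ≫ sigmaComparison G X) ∘ a) := by
    have : ((fun g : C ⟶ ∐ (fun k => G.obj (X k)) => g ≫ sigmaComparison G X) ∘ a) =
        (adj.homEquiv C (∐ X)) ∘ b ∘ m := by
      funext x
      exact DFunLike.congr_fun sq x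
    rw [this]
    exact (adj.homEquiv C (∐ X)).bijective.comp (hb.comp hm)
  exact (Function.Bijective.of_comp_iff _ ha).1 hcomp

include adj in
/-- if `C` is compact and `G` preserves the coproduct of `X`, then `Hom(F C, -)` preserves it -/
theorem homSum_bijective_of_isIso (C : D) (hC : CohDer.IsCompactObject C)
    (κ : Type v) (X : κ → E) [IsIso (sigmaComparison G X)] :
    Function.Bijective (CohDer.homSumToHomCoprod (F.obj C) X) := by
  classical
  let a := CohDer.homSumToHomCoprod C (fun k => G.obj (X k))
  let b := CohDer.homSumToHomCoprod (F.obj C) X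
  let m : DirectSum κ (fun k => C ⟶ G.obj (X k)) →+ DirectSum κ (fun k => F.obj C ⟶ X k) :=
    DirectSum.map (fun k => (adj.homAddEquiv C (X k)).symm.toAddMonoidHom)
  have ha : Function.Bijective a := hC κ _
  have hm : Function.Bijective m := by
    constructor
    · exact (DirectSum.map_injective _).2 (fun k => (adj.homAddEquiv C (X k)).symm.injective)
    · exact (DirectSum.map_surjective _).2 (fun k => (adj.homAddEquiv C (X k)).symm.surjective)
  have sq : (Preadditive.rightComp C (sigmaComparison G X)).comp a =
      (adj.homAddEquiv C (∐ X)).toAddMonoidHom.comp (b.comp m) := by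
    apply DirectSum.addHom_ext
    intro k g
    have h1 : a (DirectSum.of _ k g) = g ≫ Sigma.ι (fun k => G.obj (X k)) k :=
      CompactH9.homSum_of κ (fun k => G.obj (X k)) k g
    have h2 : m (DirectSum.of _ k g) = DirectSum.of (fun k => F.obj C ⟶ X k) k
        ((adj.homEquiv C (X k)).symm g) := by
      dsimp only [m]
      rw [DirectSum.map_of]
      rfl
    have h3 : b (DirectSum.of (fun k => F.obj C ⟶ X k) k ((adj.homEquiv C (X k)).symm g)) =
        (adj.homEquiv C (X k)).symm g ≫ Sigma.ι X k := CompactH9.homSum_of κ X k _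
    show a (DirectSum.of _ k g) ≫ sigmaComparison G X =
      adj.homEquiv C (∐ X) (b (m (DirectSum.of _ k g)))
    rw [h1, h2, h3, Category.assoc, ι_comp_sigmaComparison, Adjunction.homEquiv_naturality_right,
      Equiv.apply_symm_apply]
  have hφ : Function.Bijective
      (fun g : C ⟶ ∐ (fun k => G.obj (X k)) => g ≫ sigmaComparison G X) := by
    constructor
    · intro g₁ g₂ h
      exact (cancel_mono (sigmaComparison G X)).1 h
    · intro h
      exact ⟨h ≫ inv (sigmaComparison G X), by simp⟩
  have hcomp : Function.Bijective ((adj.homEquiv C (∐ X)) ∘ b ∘ m) := by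
    have : ((fun g : C ⟶ ∐ (fun k => G.obj (X k)) => g ≫ sigmaComparison G X) ∘ a) =
        (adj.homEquiv C (∐ X)) ∘ b ∘ m := by
      funext x
      exact DFunLike.congr_fun sq x
    rw [← this]
    exact hφ.comp ha
  have h1 : Function.Bijective (b ∘ m) :=
    (Function.Bijective.of_comp_iff' (adj.homEquiv C (∐ X)).bijective _).1 hcomp
  exact (Function.Bijective.of_comp_iff _ hm).1 h1

end A

section B

variable {D : Type u} [Category.{v} D] [Preadditive D] [HasZeroObject D] [HasShift D ℤ]
  [∀ n : ℤ, (shiftFunctor D n).Additive] [Pretriangulated D]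

/-- variant of S7881 with the shifts on the source -/
theorem isIso_of_bijective {ι : Type v} (S : ι → D) (hS : CohDer.Generates S) {X Y : D} (f : X ⟶ Y)
    (H : ∀ (i : ι) (m : ℤ),
      Function.Bijective (fun g : (shiftFunctor D m).obj (S i) ⟶ X => g ≫ f)) : IsIso f := by
  rw [Groth.Agent.S7881.result S hS f]
  intro i n
  let adjS : shiftFunctor D (-n) ⊣ shiftFunctor D n := (shiftEquiv D n).symm.toAdjunction
  have : (fun g : S i ⟶ (shiftFunctor D n).obj X => g ≫ (shiftFunctor D n).map f) =
      (adjS.homEquiv (S i) Y) ∘ (fun g : (shiftFunctor D (-n)).obj (S i) ⟶ X => g ≫ f) ∘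
        (adjS.homEquiv (S i) X).symm := by
    funext g
    simp only [Function.comp_apply]
    rw [Adjunction.homEquiv_naturality_right, Equiv.apply_symm_apply]
  rw [this]
  exact (adjS.homEquiv _ _).bijective.comp ((H i (-n)).comp (adjS.homEquiv _ _).symm.bijective)

end B

end AdjCompact
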