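import Mathlib
import Groth.Prelude.Def_DRing2
import Groth.Prelude.Def_DDual2
import Groth.Prelude.Def_DerCA
import Groth.Agent.Lib.DMod12_helper6

/-!
# Derived category toolkit (helper6), part 13: cohomology of restriction of scalars, relative
pseudo-coherence over Noetherian rings.
-/

set_option autoImplicit false
universe u
open CategoryTheory CategoryTheory.Limits Pretriangulated DerivedCategory ZeroObject
attribute [local instance] HasDerivedCategory.standard

namespace Groth.Agent.Lib.DMod_helper6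

open DRing

section RestrictHomology

variable {P A : Type u} [CommRing P] [CommRing A] (φ : P →+* A)

/-- `H^i` commutes with restriction of scalars. -/
lemma nonempty_HD_restrictD_iso (K : Dual.D A) (i : ℤ) :
    Nonempty ((DerivedCategory.homologyFunctor (ModuleCat.{u} P) i).obj ((restrictD φ).obj K) ≅
      (ModuleCat.restrictScalars.{u} φ).obj
        ((DerivedCategory.homologyFunctor (ModuleCat.{u} A) i).obj K)) := by
  let F := ModuleCat.restrictScalars.{u} φ
  let E := Q.objPreimage K
  let e : Q.obj E ≅ K := Q.objObjPreimageIso K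
  exact ⟨(DerivedCategory.homologyFunctor _ i).mapIso
      ((restrictD φ).mapIso e.symm ≪≫ (F.mapDerivedCategoryFactors).app E) ≪≫
    (homologyFunctorFactors _ i).app _ ≪≫ (E.sc i).mapHomologyIso F ≪≫
    F.mapIso (((homologyFunctorFactors _ i).app E).symm ≪≫
      (DerivedCategory.homologyFunctor _ i).mapIso e)⟩

lemma finite_restrictScalars_iff (hφ : Function.Surjective φ) (N : ModuleCat.{u} A) :
    Module.Finite P ((ModuleCat.restrictScalars.{u} φ).obj N) ↔ Module.Finite A N := by
  letI : Algebra P A := φ.toAlgebra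
  letI inst1 : Module P N := Module.compHom N φ
  haveI inst2 : IsScalarTower P A N :=
    ⟨fun p a n => by show (φ p * a) • n = φ p • (a • n); exact mul_smul _ _ _⟩
  haveI : Module.Finite P A := Module.Finite.of_surjective (Algebra.linearMap P A) hφ
  constructor
  · intro h
    haveI : Module.Finite P N := h
    exact @Module.Finite.of_restrictScalars_finite P A N _ _ _ inst1 _ _ inst2 _
  · intro h
    exact @Module.Finite.trans P A N _ _ _ _ inst1 _ inst2 _ h

lemma finite_HD_restrictD_iff (hφ : Function.Surjective φ) (K : Dual.D A) (i : ℤ) :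
    Module.Finite P (Dual.HD P ((restrictD φ).obj K) i) ↔ Module.Finite A (Dual.HD A K i) := by
  obtain ⟨e⟩ := nonempty_HD_restrictD_iso φ K i
  rw [← finite_restrictScalars_iff φ hφ]
  exact ⟨fun h => finite_of_iso e h, fun h => finite_of_iso e.symm h⟩

lemma subsingleton_HD_restrictD_iff (K : Dual.D A) (i : ℤ) :
    Subsingleton (Dual.HD P ((restrictD φ).obj K) i) ↔ Subsingleton (Dual.HD A K i) := by
  obtain ⟨e⟩ := nonempty_HD_restrictD_iso φ K i
  exact e.toLinearEquiv.toEquiv.subsingleton_congr

end RestrictHomology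

section Rel

variable {R A : Type u} [CommRing R] [IsNoetherianRing R] [CommRing A] [Algebra R A]

theorem isRelPseudoCoherentVia_iff_noeth {n : ℕ} (α : MvPolynomial (Fin n) R →ₐ[R] A)
    (hα : Function.Surjective α) (m : ℤ) (K : Dual.D A) :
    DerCA.IsRelPseudoCoherentVia α m K ↔
      (∃ b : ℤ, ∀ i : ℤ, b < i → Subsingleton (Dual.HD A K i)) ∧
        ∀ i : ℤ, m ≤ i → Module.Finite A (Dual.HD A K i) := by
  unfold DerCA.IsRelPseudoCoherentVia
  rw [isPseudoCoherent_iff_noeth]
  have hα' : Function.Surjective (α : MvPolynomial (Fin n) R →+* A) := hα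
  constructor
  · rintro ⟨⟨b, hb⟩, hfin⟩
    exact ⟨⟨b, fun i hi => (subsingleton_HD_restrictD_iff _ K i).1 (hb i hi)⟩,
      fun i hi => (finite_HD_restrictD_iff _ hα' K i).1 (hfin i hi)⟩
  · rintro ⟨⟨b, hb⟩, hfin⟩
    exact ⟨⟨b, fun i hi => (subsingleton_HD_restrictD_iff _ K i).2 (hb i hi)⟩,
      fun i hi => (finite_HD_restrictD_iff _ hα' K i).2 (hfin i hi)⟩

theorem isRelPseudoCoherent_iff_noeth [Algebra.FiniteType R A] (m : ℤ) (K : Dual.D A) :
    DerCA.IsRelPseudoCoherent R A m K ↔
      (∃ b : ℤ, ∀ i : ℤ, b < i → Subsingleton (Dual.HD A K i)) ∧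
        ∀ i : ℤ, m ≤ i → Module.Finite A (Dual.HD A K i) := by
  constructor
  · rintro ⟨n, α, hα, h⟩
    exact (isRelPseudoCoherentVia_iff_noeth α hα m K).1 h
  · intro h
    obtain ⟨n, α, hα⟩ := Algebra.FiniteType.iff_quotient_mvPolynomial''.1
      (inferInstance : Algebra.FiniteType R A)
    exact ⟨n, α, hα, (isRelPseudoCoherentVia_iff_noeth α hα m K).2 h⟩

theorem isRelPseudoCoherentAll_iff_noeth [Algebra.FiniteType R A] (K : Dual.D A) :
    DerCA.IsRelPseudoCoherentAll R A K ↔
      (∃ b : ℤ, ∀ i : ℤ, b < i → Subsingleton (Dual.HD A K i)) ∧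
        ∀ i : ℤ, Module.Finite A (Dual.HD A K i) := by
  unfold DerCA.IsRelPseudoCoherentAll
  simp only [isRelPseudoCoherent_iff_noeth]
  constructor
  · intro h
    exact ⟨(h 0).1, fun i => (h i).2 i le_rfl⟩
  · rintro ⟨hb, hfin⟩ m
    exact ⟨hb, fun i _ => hfin i⟩

theorem isRelPseudoCoherentModuleAll_iff_noeth [Algebra.FiniteType R A] (M : Type u)
    [AddCommGroup M] [Module A M] :
    DerCA.IsRelPseudoCoherentModuleAll R A M ↔ Module.Finite A M := by
  unfold DerCA.IsRelPseudoCoherentModuleAll
  rw [isRelPseudoCoherentAll_iff_noeth]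
  constructor
  · rintro ⟨_, hfin⟩
    exact finite_of_iso (HDinDIso (ModuleCat.of A M)) (hfin 0)
  · intro h
    refine ⟨⟨0, fun i hi => ModuleCat.subsingleton_of_isZero (isZero_HD_inD _ i (by omega))⟩,
      fun i => ?_⟩
    by_cases hi : i = 0
    · subst hi
      exact finite_of_iso (HDinDIso (ModuleCat.of A M)).symm h
    · haveI : Subsingleton (Dual.HD A (Dual.inD A M) i) :=
        ModuleCat.subsingleton_of_isZero (isZero_HD_inD _ i hi)
      exact Module.Finite.of_finite

end Rel

end Groth.Agent.Lib.DMod_helper6
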