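import Mathlib
import Groth.Prelude.Def_DRing2
import Groth.Prelude.Def_DDual2
import Groth.Prelude.Def_DerCA
import Groth.Agent.Lib.DMod29_helper6

/-!
# Derived category toolkit (helper6), part 36: restriction of scalars along composites,
polynomial rings are pseudo-coherent over bigger polynomial rings, and independence of the
presentation for relative pseudo-coherence.
-/

set_option autoImplicit false
universe u
open CategoryTheory CategoryTheory.Limits Pretriangulated DerivedCategory ZeroObject
attribute [local instance] HasDerivedCategory.standard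

namespace Groth.Agent.Lib.DMod_helper6

open DRing CochainComplex

lemma isPseudoCoherent_iff_of_iso {A : Type u} [CommRing A] {K L : Dual.D A} (e : K ≅ L) (m : ℤ) :
    IsPseudoCoherent A m K ↔ IsPseudoCoherent A m L := by
  rw [isPseudoCoherent_iff_pcmP, isPseudoCoherent_iff_pcmP]
  exact ⟨fun h => (pcmP A m).prop_of_iso e h, fun h => (pcmP A m).prop_of_iso e.symm h⟩

section Comp

variable {R₁ R₂ R₃ : Type u} [CommRing R₁] [CommRing R₂] [CommRing R₃]
  (f : R₁ →+* R₂) (g : R₂ →+* R₃) (gf : R₁ →+* R₃) (hgf : gf = g.comp f)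

/-- restriction of scalars of complexes along a composite -/
noncomputable def restrictCxCompIso (C : Cx R₃) :
    (restrictCx gf).obj C ≅ (restrictCx f).obj ((restrictCx g).obj C) :=
  HomologicalComplex.Hom.isoOfComponents
    (fun i => ModuleCat.restrictScalarsComp'App f g gf hgf (C.X i))
    (fun i j _ => by
      apply ModuleCat.hom_ext; apply LinearMap.ext; intro x; rfl)

/-- restriction of scalars on derived categories along a composite (objectwise) -/
noncomputable def restrictDCompIso (K : Dual.D R₃) :
    (restrictD gf).obj K ≅ (restrictD f).obj ((restrictD g).obj K) :=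
  let C : Cx R₃ := Q.objPreimage K
  let eC : toD C ≅ K := Q.objObjPreimageIso K
  (restrictD gf).mapIso eC.symm ≪≫
    (ModuleCat.restrictScalars gf).mapDerivedCategoryFactors.app C ≪≫
    Q.mapIso (restrictCxCompIso f g gf hgf C) ≪≫
    ((ModuleCat.restrictScalars f).mapDerivedCategoryFactors.app ((restrictCx g).obj C)).symm ≪≫
    (restrictD f).mapIso (((ModuleCat.restrictScalars g).mapDerivedCategoryFactors.app C).symm) ≪≫
    (restrictD f).mapIso ((restrictD g).mapIso eC)

include hgf in
lemma resPC_comp (hf : resPC f (Dual.inD R₂ R₂)) (hg : resPC g (Dual.inD R₃ R₃)) :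
    resPC gf (Dual.inD R₃ R₃) := by
  have h1 : IsPseudoCoherent' R₁ ((restrictD f).obj ((restrictD g).obj (Dual.inD R₃ R₃))) :=
    (isPseudoCoherent'_restrictD_iff f hf _).1 hg
  exact (pcProp R₁).prop_of_iso (restrictDCompIso f g gf hgf _).symm h1

end Comp

lemma resPC_of_bijective {S S' : Type u} [CommRing S] [CommRing S'] (φ : S →+* S')
    (hφ : Function.Bijective φ) : resPC φ (Dual.inD S' S') := by
  let l : S →ₗ[S] ((ModuleCat.restrictScalars φ).obj (ModuleCat.of S' S')) :=
    { toFun := fun s => (φ s : S')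
      map_add' := fun a b => map_add φ a b
      map_smul' := fun a b => map_mul φ a b }
  let e : S ≃ₗ[S] ((ModuleCat.restrictScalars φ).obj (ModuleCat.of S' S')) :=
    LinearEquiv.ofBijective l hφ
  have h1 : pcProp S (Dual.inD S S) :=
    pcProp_inD_of_finite_free (ModuleCat.of S S) (inferInstanceAs (Module.Finite S S))
      (inferInstanceAs (Module.Free S S))
  exact (pcProp S).prop_of_iso
    ((DerivedCategory.singleFunctor _ 0).mapIso e.toModuleIso ≪≫
      (restrictDInDIso φ (ModuleCat.of S' S')).symm) h1

open Polynomial in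
/-- `B`, as a module over `B[X]` via evaluation at `b`, is pseudo-coherent. -/
lemma resPC_evalAt (B : Type u) [CommRing B] (b : B) :
    resPC (Polynomial.evalRingHom b) (Dual.inD B B) := by
  letI inst : Module B[X] B := Module.compHom B (Polynomial.evalRingHom b)
  have hsmul : ∀ (q : B[X]) (r : B), q • r = q.eval b * r := fun q r => rfl
  let fl : B[X] →ₗ[B[X]] B[X] := LinearMap.mulLeft B[X] (X - C b : B[X])
  let gl : B[X] →ₗ[B[X]] B :=
    { toFun := fun p => p.eval b
      map_add' := fun p q => Polynomial.eval_add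
      map_smul' := fun q p => by
        rw [RingHom.id_apply, hsmul, smul_eq_mul, Polynomial.eval_mul] }
  have hfl : ∀ p : B[X], fl p = (X - C b) * p := fun p => rfl
  have hgl : ∀ p : B[X], gl p = p.eval b := fun p => rfl
  let f : ModuleCat.of B[X] B[X] ⟶ ModuleCat.of B[X] B[X] := ModuleCat.ofHom fl
  let g : ModuleCat.of B[X] B[X] ⟶ ModuleCat.of B[X] B := ModuleCat.ofHom gl
  have w : f ≫ g = 0 := by
    apply ModuleCat.hom_ext
    apply LinearMap.ext
    intro p
    show gl (fl p) = 0
    rw [hfl, hgl, Polynomial.eval_mul, Polynomial.eval_sub, Polynomial.eval_X, Polynomial.eval_C,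
      sub_self, zero_mul]
  have hS : (ShortComplex.mk f g w).ShortExact := by
    refine ShortComplex.ShortExact.mk' ?_ ?_ ?_
    · rw [ShortComplex.moduleCat_exact_iff]
      intro p hp
      have hp' : gl p = 0 := hp
      rw [hgl] at hp'
      obtain ⟨q, hq⟩ := (Polynomial.dvd_iff_isRoot (p := p) (a := b)).2 hp'
      exact ⟨q, hq.symm⟩
    · refine (ModuleCat.mono_iff_injective _).2 (fun p q hpq => ?_)
      have hpq' : fl p = fl q := hpq
      rw [hfl, hfl] at hpq'
      exact (Polynomial.monic_X_sub_C b).isRegular.left hpq'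
    · refine (ModuleCat.epi_iff_surjective _).2 (fun r => ⟨Polynomial.C r, ?_⟩)
      show gl (Polynomial.C r) = r
      rw [hgl, Polynomial.eval_C]
  have h1 : pcProp B[X] (Dual.inD B[X] B[X]) :=
    pcProp_inD_of_finite_free (ModuleCat.of B[X] B[X]) (inferInstanceAs (Module.Finite B[X] B[X]))
      (inferInstanceAs (Module.Free B[X] B[X]))
  have h3 := (pcProp B[X]).ext_of_isTriangulatedClosed₃ _ hS.singleTriangle_distinguished h1 h1
  exact (pcProp B[X]).prop_of_iso
    (restrictDInDIso (Polynomial.evalRingHom b) (ModuleCat.of B B)).symm h3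

/-- `B`, as a module over `B[x_1, …, x_k]` via evaluation at `f`, is pseudo-coherent. -/
lemma resPC_eval : ∀ (k : ℕ) (B : Type u) [CommRing B] (f : Fin k → B),
    resPC (MvPolynomial.eval f) (Dual.inD B B) := by
  intro k
  induction k with
  | zero =>
    intro B _ f
    refine resPC_of_bijective _ ⟨?_, ?_⟩
    · intro p q hpq
      obtain ⟨a, rfl⟩ := MvPolynomial.C_surjective (Fin 0) p
      obtain ⟨b, rfl⟩ := MvPolynomial.C_surjective (Fin 0) q
      rw [MvPolynomial.eval_C, MvPolynomial.eval_C] at hpq
      rw [hpq]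
    · intro b
      exact ⟨MvPolynomial.C b, MvPolynomial.eval_C _⟩
  | succ k ih =>
    intro B _ f
    let S := MvPolynomial (Fin k) B
    let ε : Polynomial S →+* S := Polynomial.evalRingHom (MvPolynomial.C (f 0) : S)
    let ψ : S →+* B := MvPolynomial.eval (fun j => f j.succ)
    let e : MvPolynomial (Fin (k+1)) B →+* Polynomial S :=
      ((MvPolynomial.finSuccEquiv B k : MvPolynomial (Fin (k+1)) B ≃+* Polynomial S) : _ →+* _)
    have he : resPC e (Dual.inD (Polynomial S) (Polynomial S)) :=
      resPC_of_bijective _ (MvPolynomial.finSuccEquiv B k).bijective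
    have hε : resPC ε (Dual.inD S S) := resPC_evalAt S _
    have hψ : resPC ψ (Dual.inD B B) := ih B _
    have h1 : resPC (ε.comp e) (Dual.inD S S) := resPC_comp e ε _ rfl he hε
    refine resPC_comp (ε.comp e) ψ _ ?_ h1 hψ
    apply MvPolynomial.ringHom_ext
    · intro b
      show MvPolynomial.eval f (MvPolynomial.C b) =
        ψ (ε ((MvPolynomial.finSuccEquiv B k) (MvPolynomial.C b)))
      rw [MvPolynomial.finSuccEquiv_apply]
      simp [ε, ψ]
      exact (MvPolynomial.eval_C (f := fun j : Fin k => f j.succ) b).symm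
    · intro i
      show MvPolynomial.eval f (MvPolynomial.X i) =
        ψ (ε ((MvPolynomial.finSuccEquiv B k) (MvPolynomial.X i)))
      refine Fin.cases ?_ (fun j => ?_) i
      · rw [MvPolynomial.finSuccEquiv_X_zero]
        simp [ε, ψ]
        exact (MvPolynomial.eval_C (f := fun j : Fin k => f j.succ) (f 0)).symm
      · rw [MvPolynomial.finSuccEquiv_X_succ]
        simp [ε, ψ]
        exact (MvPolynomial.eval_X (f := fun j : Fin k => f j.succ) j).symm

/-- Independence of the presentation for relative pseudo-coherence. -/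
theorem isPseudoCoherent_restrictD_presentation_iff {R A : Type u} [CommRing R] [CommRing A]
    [Algebra R A] {n k : ℕ} (α : MvPolynomial (Fin n) R →ₐ[R] A) (hα : Function.Surjective α)
    (β : MvPolynomial (Fin k) R →ₐ[R] A) (hβ : Function.Surjective β) (K : Dual.D A) (m : ℤ) :
    IsPseudoCoherent (MvPolynomial (Fin n) R) m
        ((restrictD (α : MvPolynomial (Fin n) R →+* A)).obj K) ↔
      IsPseudoCoherent (MvPolynomial (Fin k) R) m
        ((restrictD (β : MvPolynomial (Fin k) R →+* A)).obj K) := by
  let P := MvPolynomial (Fin n) R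
  let P' := MvPolynomial (Fin k) R
  choose p hp using fun j : Fin k => hα (β (MvPolynomial.X j))
  choose q hq using fun i : Fin n => hβ (α (MvPolynomial.X i))
  let π₁ : MvPolynomial (Fin k) P →+* P := MvPolynomial.eval p
  let π₂' : MvPolynomial (Fin n) P' →+* P' := MvPolynomial.eval q
  let e : MvPolynomial (Fin k) P →+* MvPolynomial (Fin n) P' :=
    ((MvPolynomial.commAlgEquiv R (Fin k) (Fin n) :
      MvPolynomial (Fin k) P ≃+* MvPolynomial (Fin n) P') : _ →+* _)
  let π₂ : MvPolynomial (Fin k) P →+* P' := π₂'.comp e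
  have h1 : resPC π₁ (Dual.inD P P) := resPC_eval k P p
  have h2' : resPC π₂' (Dual.inD P' P') := resPC_eval n P' q
  have he : resPC e (Dual.inD (MvPolynomial (Fin n) P') (MvPolynomial (Fin n) P')) :=
    resPC_of_bijective _ (MvPolynomial.commAlgEquiv R (Fin k) (Fin n)).bijective
  have h2 : resPC π₂ (Dual.inD P' P') := resPC_comp e π₂' _ rfl he h2'
  have hC : ((α : P →+* A).comp π₁).comp MvPolynomial.C =
      ((β : P' →+* A).comp π₂).comp MvPolynomial.C := by
    apply MvPolynomial.ringHom_ext
    · intro r
      show α (π₁ (MvPolynomial.C (MvPolynomial.C r))) =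
        β (π₂' ((MvPolynomial.commAlgEquiv R (Fin k) (Fin n)) (MvPolynomial.C (MvPolynomial.C r))))
      simp [π₁, π₂', MvPolynomial.algebraMap_eq]
    · intro i
      show α (π₁ (MvPolynomial.C (MvPolynomial.X i))) =
        β (π₂' ((MvPolynomial.commAlgEquiv R (Fin k) (Fin n)) (MvPolynomial.C (MvPolynomial.X i))))
      rw [MvPolynomial.commAlgEquiv_C_X]
      simp [π₁, π₂', hq]
  have hcomp : (α : P →+* A).comp π₁ = (β : P' →+* A).comp π₂ := by
    apply MvPolynomial.ringHom_ext
    · intro x
      exact DFunLike.congr_fun hC x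
    · intro j
      show α (π₁ (MvPolynomial.X j)) =
        β (π₂' ((MvPolynomial.commAlgEquiv R (Fin k) (Fin n)) (MvPolynomial.X j)))
      rw [MvPolynomial.commAlgEquiv_X]
      simp [π₁, π₂', hp]
  have key1 : IsPseudoCoherent P m ((restrictD (α : P →+* A)).obj K) ↔
      IsPseudoCoherent (MvPolynomial (Fin k) P) m
        ((restrictD ((α : P →+* A).comp π₁)).obj K) :=
    (isPseudoCoherent_restrictD_iff π₁ h1 m _).trans
      (isPseudoCoherent_iff_of_iso (restrictDCompIso π₁ (α : P →+* A) _ rfl K).symm m)
  have key2 : IsPseudoCoherent P' m ((restrictD (β : P' →+* A)).obj K) ↔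
      IsPseudoCoherent (MvPolynomial (Fin k) P) m
        ((restrictD ((α : P →+* A).comp π₁)).obj K) :=
    (isPseudoCoherent_restrictD_iff π₂ h2 m _).trans
      (isPseudoCoherent_iff_of_iso (restrictDCompIso π₂ (β : P' →+* A) _ hcomp K).symm m)
  exact key1.trans key2.symm

end Groth.Agent.Lib.DMod_helper6
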