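import Mathlib
import Groth.Prelude.Def_DRing2
import Groth.Prelude.Def_DDual2
import Groth.Prelude.Def_DerCA
import Groth.Agent.Lib.DMod36_helper6
import Groth.Agent.Lib.DMod13_helper6

/-!
# Derived category toolkit (helper6), part 37: relative pseudo-coherence via a fixed presentation.
-/

set_option autoImplicit false
universe u
open CategoryTheory CategoryTheory.Limits Pretriangulated DerivedCategory ZeroObject
attribute [local instance] HasDerivedCategory.standard

namespace Groth.Agent.Lib.DMod_helper6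

open DRing CochainComplex

lemma isPseudoCoherentModule_iff_of_iso {P : Type u} [CommRing P] {N N' : ModuleCat.{u} P}
    (e : N ≅ N') (m : ℤ) :
    IsPseudoCoherentModule P m N ↔ IsPseudoCoherentModule P m N' :=
  isPseudoCoherent_iff_of_iso ((DerivedCategory.singleFunctor _ 0).mapIso e) m

section Rel

variable {R A : Type u} [CommRing R] [CommRing A] [Algebra R A] {n : ℕ}
  (α : MvPolynomial (Fin n) R →ₐ[R] A) (hα : Function.Surjective α)

include hα in
lemma isRelPseudoCoherent_iff_via (m : ℤ) (K : Dual.D A) :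
    DerCA.IsRelPseudoCoherent R A m K ↔
      IsPseudoCoherent (MvPolynomial (Fin n) R) m
        ((restrictD (α : MvPolynomial (Fin n) R →+* A)).obj K) :=
  ⟨fun ⟨_, α', hα', h⟩ => (isPseudoCoherent_restrictD_presentation_iff α' hα' α hα K m).1 h,
    fun h => ⟨n, α, hα, h⟩⟩

include hα in
lemma isRelPseudoCoherentModule_iff (m : ℤ) (N : ModuleCat.{u} A) :
    DerCA.IsRelPseudoCoherentModule R A m N ↔
      IsPseudoCoherentModule (MvPolynomial (Fin n) R) m
        ((ModuleCat.restrictScalars (α : MvPolynomial (Fin n) R →+* A)).obj N) := by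
  unfold DerCA.IsRelPseudoCoherentModule IsPseudoCoherentModule
  rw [isRelPseudoCoherent_iff_via α hα]
  exact isPseudoCoherent_iff_of_iso (restrictDInDIso (α : MvPolynomial (Fin n) R →+* A) N) m

include hα in
theorem isRelPseudoCoherent_of_terms (m : ℤ) (K : Cx A) (b : ℤ) (hb : VanishesAbove K b)
    (h : ∀ i : ℤ, DerCA.IsRelPseudoCoherentModule R A (m - i) (K.X i)) :
    DerCA.IsRelPseudoCoherent R A m (toD K) := by
  rw [isRelPseudoCoherent_iff_via α hα]
  let φ : MvPolynomial (Fin n) R →+* A := α
  have hb' : VanishesAbove ((restrictCx φ).obj K) b := fun i hi =>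
    (ModuleCat.restrictScalars φ).map_isZero (hb i hi)
  have h' : ∀ i : ℤ, IsPseudoCoherentModule _ (m - i) (((restrictCx φ).obj K).X i) := fun i =>
    (isRelPseudoCoherentModule_iff α hα (m - i) (K.X i)).1 (h i)
  have := isPseudoCoherent_of_terms ((restrictCx φ).obj K) b hb' m h'
  exact (isPseudoCoherent_iff_of_iso
    ((ModuleCat.restrictScalars φ).mapDerivedCategoryFactors.app K) m).2 this

include hα in
theorem isRelPseudoCoherent_of_homology (m : ℤ) (K : Dual.D A)
    (hb : ∃ b : ℤ, ∀ i : ℤ, b < i → Subsingleton (Dual.HD A K i))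
    (h : ∀ i : ℤ, DerCA.IsRelPseudoCoherentModule R A (m - i) (Dual.HD A K i)) :
    DerCA.IsRelPseudoCoherent R A m K := by
  rw [isRelPseudoCoherent_iff_via α hα]
  let φ : MvPolynomial (Fin n) R →+* A := α
  obtain ⟨b, hb⟩ := hb
  refine isPseudoCoherent_of_homology _ m
    ⟨b, fun i hi => (subsingleton_HD_restrictD_iff φ K i).2 (hb i hi)⟩ (fun i => ?_)
  obtain ⟨e⟩ := nonempty_HD_restrictD_iso φ K i
  exact (isPseudoCoherentModule_iff_of_iso e (m - i)).2
    ((isRelPseudoCoherentModule_iff α hα (m - i)
      ((DerivedCategory.homologyFunctor (ModuleCat.{u} A) i).obj K)).1 (h i))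

end Rel

end Groth.Agent.Lib.DMod_helper6
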