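import Mathlib
import Groth.Prelude.Def_DRing2
import Groth.Prelude.Def_DDual2
import Groth.Prelude.Def_DerCA
import Groth.Agent.Lib.DMod37_helper6
import Groth.Agent.Lib.DMod8_helper6

/-!
# Derived category toolkit (helper6), part 38: iterated presentations, polynomial base change,
relative pseudo-coherence over an intermediate pseudo-coherent algebra.
-/

set_option autoImplicit false
universe u
open CategoryTheory CategoryTheory.Limits Pretriangulated DerivedCategory ZeroObject
open scoped TensorProduct
attribute [local instance] HasDerivedCategory.standard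

namespace Groth.Agent.Lib.DMod_helper6

open DRing CochainComplex

/-- Relative pseudo-coherence can be tested on an iterated presentation
`R[x_1..x_n][y_1..y_k] → A`. -/
theorem isRelPseudoCoherent_iff_iterated {R A : Type u} [CommRing R] [CommRing A] [Algebra R A]
    {n k : ℕ} (γ : MvPolynomial (Fin k) (MvPolynomial (Fin n) R) →ₐ[R] A)
    (hγ : Function.Surjective γ) (m : ℤ) (K : Dual.D A) :
    DerCA.IsRelPseudoCoherent R A m K ↔
      IsPseudoCoherent (MvPolynomial (Fin k) (MvPolynomial (Fin n) R)) m
        ((restrictD (γ : MvPolynomial (Fin k) (MvPolynomial (Fin n) R) →+* A)).obj K) := by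
  let ε : MvPolynomial (Fin (k + n)) R ≃ₐ[R] MvPolynomial (Fin k) (MvPolynomial (Fin n) R) :=
    (MvPolynomial.renameEquiv R finSumFinEquiv.symm).trans (MvPolynomial.sumAlgEquiv R (Fin k) (Fin n))
  let δ : MvPolynomial (Fin (k + n)) R →ₐ[R] A := γ.comp ε.toAlgHom
  have hδ : Function.Surjective δ := hγ.comp ε.surjective
  rw [isRelPseudoCoherent_iff_via δ hδ]
  let ε' : MvPolynomial (Fin (k + n)) R →+* MvPolynomial (Fin k) (MvPolynomial (Fin n) R) :=
    (ε.toRingEquiv : _ →+* _)
  have hε : resPC ε' (Dual.inD (MvPolynomial (Fin k) (MvPolynomial (Fin n) R))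
      (MvPolynomial (Fin k) (MvPolynomial (Fin n) R))) := resPC_of_bijective ε' ε.bijective
  let γ' : MvPolynomial (Fin k) (MvPolynomial (Fin n) R) →+* A := γ
  let δ' : MvPolynomial (Fin (k + n)) R →+* A := δ
  have hcomp : δ' = γ'.comp ε' := RingHom.ext fun _ => rfl
  have k1 : IsPseudoCoherent (MvPolynomial (Fin k) (MvPolynomial (Fin n) R)) m
      ((restrictD γ').obj K) ↔ IsPseudoCoherent (MvPolynomial (Fin (k + n)) R) m
        ((restrictD ε').obj ((restrictD γ').obj K)) :=
    isPseudoCoherent_restrictD_iff ε' hε m ((restrictD γ').obj K)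
  have k2 : IsPseudoCoherent (MvPolynomial (Fin (k + n)) R) m ((restrictD δ').obj K) ↔
      IsPseudoCoherent (MvPolynomial (Fin (k + n)) R) m
        ((restrictD ε').obj ((restrictD γ').obj K)) :=
    isPseudoCoherent_iff_of_iso (restrictDCompIso ε' γ' δ' hcomp K) m
  exact k2.trans k1.symm

section PolyBC

variable {P A : Type u} [CommRing P] [CommRing A] [Algebra P A] (k : ℕ)

/-- `P[y] ⊗_P A ≃ A[y]` as `P[y]`-modules. -/
noncomputable def polyBCEquiv :
    (MvPolynomial (Fin k) P ⊗[P] A) ≃ₗ[MvPolynomial (Fin k) P]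
      ((ModuleCat.restrictScalars (MvPolynomial.map (σ := Fin k) (algebraMap P A))).obj
        (ModuleCat.of (MvPolynomial (Fin k) A) (MvPolynomial (Fin k) A))) :=
  let e₁ : (MvPolynomial (Fin k) P ⊗[P] A) ≃ₗ[P] (A ⊗[P] MvPolynomial (Fin k) P) :=
    TensorProduct.comm P (MvPolynomial (Fin k) P) A
  let e₂ : (A ⊗[P] MvPolynomial (Fin k) P) ≃ₐ[A] MvPolynomial (Fin k) A :=
    MvPolynomial.algebraTensorAlgEquiv P A
  { toFun := fun t => (e₂ (e₁ t) : MvPolynomial (Fin k) A)
    invFun := fun z => e₁.symm (e₂.symm (z : MvPolynomial (Fin k) A))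
    left_inv := fun t => by
      show e₁.symm (e₂.symm (e₂ (e₁ t))) = t
      rw [AlgEquiv.symm_apply_apply, LinearEquiv.symm_apply_apply]
    right_inv := fun z => by
      show e₂ (e₁ (e₁.symm (e₂.symm (z : MvPolynomial (Fin k) A)))) = z
      rw [LinearEquiv.apply_symm_apply, AlgEquiv.apply_symm_apply]
    map_add' := fun s t => by
      show e₂ (e₁ (s + t)) = e₂ (e₁ s) + e₂ (e₁ t)
      rw [map_add, map_add]
    map_smul' := fun p t => by
      show e₂ (e₁ (p • t)) = MvPolynomial.map (algebraMap P A) p * e₂ (e₁ t)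
      induction t using TensorProduct.induction_on with
      | zero => simp
      | tmul q a =>
        rw [TensorProduct.smul_tmul', smul_eq_mul]
        show e₂ (a ⊗ₜ[P] (p * q)) = MvPolynomial.map (algebraMap P A) p * e₂ (a ⊗ₜ[P] q)
        rw [MvPolynomial.algebraTensorAlgEquiv_tmul, MvPolynomial.algebraTensorAlgEquiv_tmul,
          map_mul, mul_smul_comm]
      | add s t hs ht =>
        rw [smul_add, map_add, map_add, hs, ht, map_add, map_add, mul_add] }

lemma resPC_map_of_pc (hA : IsPseudoCoherentModule' P A) :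
    resPC (MvPolynomial.map (σ := Fin k) (algebraMap P A))
      (Dual.inD (MvPolynomial (Fin k) A) (MvPolynomial (Fin k) A)) := by
  have h : IsPseudoCoherent' (MvPolynomial (Fin k) P)
      ((DerivedCategory.singleFunctor (ModuleCat.{u} (MvPolynomial (Fin k) P)) 0).obj
        (ModuleCat.of (MvPolynomial (Fin k) P) (MvPolynomial (Fin k) P ⊗[P] A))) :=
    isPseudoCoherentModule'_baseChange (A := P) (B := MvPolynomial (Fin k) P) A hA
  let X : ModuleCat.{u} (MvPolynomial (Fin k) P) :=
    (ModuleCat.restrictScalars (MvPolynomial.map (σ := Fin k) (algebraMap P A))).obj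
        (ModuleCat.of (MvPolynomial (Fin k) A) (MvPolynomial (Fin k) A))
  have e1 : ModuleCat.of (MvPolynomial (Fin k) P) (MvPolynomial (Fin k) P ⊗[P] A) ≅ X :=
    (polyBCEquiv (P := P) (A := A) k).toModuleIso
  have h2 : IsPseudoCoherent' (MvPolynomial (Fin k) P)
      ((DerivedCategory.singleFunctor (ModuleCat.{u} (MvPolynomial (Fin k) P)) 0).obj X) :=
    (pcProp _).prop_of_iso ((DerivedCategory.singleFunctor _ 0).mapIso e1) h
  exact (pcProp _).prop_of_iso
    (restrictDInDIso (MvPolynomial.map (σ := Fin k) (algebraMap P A))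
        (ModuleCat.of (MvPolynomial (Fin k) A) (MvPolynomial (Fin k) A))).symm h2

end PolyBC

/-- Relative pseudo-coherence over an intermediate pseudo-coherent algebra. -/
theorem isRelPseudoCoherent_iff_of_intermediate {R A B : Type u} [CommRing R] [CommRing A]
    [CommRing B] [Algebra R A] [Algebra A B] [Algebra R B] [IsScalarTower R A B]
    [Algebra.FiniteType R A] [Algebra.FiniteType A B]
    (hA : DerCA.IsRelPseudoCoherentModuleAll R A A) (K : Dual.D B) (m : ℤ) :
    DerCA.IsRelPseudoCoherent A B m K ↔ DerCA.IsRelPseudoCoherent R B m K := by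
  obtain ⟨n, α, hα⟩ := Algebra.FiniteType.iff_quotient_mvPolynomial''.1
    (inferInstance : Algebra.FiniteType R A)
  obtain ⟨k, β, hβ⟩ := Algebra.FiniteType.iff_quotient_mvPolynomial''.1
    (inferInstance : Algebra.FiniteType A B)
  letI algPA : Algebra (MvPolynomial (Fin n) R) A := α.toRingHom.toAlgebra
  have hA' : IsPseudoCoherentModule' (MvPolynomial (Fin n) R) A := by
    have h1 : IsPseudoCoherent' (MvPolynomial (Fin n) R)
        ((restrictD (α : MvPolynomial (Fin n) R →+* A)).obj (Dual.inD A A)) :=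
      (isPseudoCoherent'_iff_forall _).2
        (fun m' => (isRelPseudoCoherent_iff_via α hα m' _).1 (hA m'))
    exact (pcProp (MvPolynomial (Fin n) R)).prop_of_iso
      (restrictDInDSelfIso (A := MvPolynomial (Fin n) R) (B := A)) h1
  have hμ := resPC_map_of_pc (P := MvPolynomial (Fin n) R) (A := A) k hA'
  let μ : MvPolynomial (Fin k) (MvPolynomial (Fin n) R) →+* MvPolynomial (Fin k) A :=
    MvPolynomial.map (algebraMap (MvPolynomial (Fin n) R) A)
  let γ : MvPolynomial (Fin k) (MvPolynomial (Fin n) R) →ₐ[R] B :=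
    { (β : MvPolynomial (Fin k) A →+* B).comp μ with
      commutes' := fun r => by
        show β (μ (algebraMap R _ r)) = algebraMap R B r
        have h1 : algebraMap R (MvPolynomial (Fin k) (MvPolynomial (Fin n) R)) r =
            MvPolynomial.C (MvPolynomial.C r) := rfl
        have h2 : algebraMap (MvPolynomial (Fin n) R) A (MvPolynomial.C r) = algebraMap R A r :=
          α.commutes r
        rw [h1]
        show β (MvPolynomial.map _ (MvPolynomial.C (MvPolynomial.C r))) = _
        rw [MvPolynomial.map_C, h2, ← MvPolynomial.algebraMap_eq, AlgHom.commutes,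
          ← IsScalarTower.algebraMap_apply] }
  have hγ : Function.Surjective γ :=
    hβ.comp (MvPolynomial.map_surjective _ hα)
  rw [isRelPseudoCoherent_iff_via β hβ, isRelPseudoCoherent_iff_iterated γ hγ]
  let β' : MvPolynomial (Fin k) A →+* B := β
  let γ' : MvPolynomial (Fin k) (MvPolynomial (Fin n) R) →+* B := γ
  have hcomp : γ' = β'.comp μ := RingHom.ext fun _ => rfl
  have k1 : IsPseudoCoherent (MvPolynomial (Fin k) A) m ((restrictD β').obj K) ↔
      IsPseudoCoherent (MvPolynomial (Fin k) (MvPolynomial (Fin n) R)) m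
        ((restrictD μ).obj ((restrictD β').obj K)) :=
    isPseudoCoherent_restrictD_iff μ hμ m ((restrictD β').obj K)
  have k2 : IsPseudoCoherent (MvPolynomial (Fin k) (MvPolynomial (Fin n) R)) m
      ((restrictD γ').obj K) ↔
      IsPseudoCoherent (MvPolynomial (Fin k) (MvPolynomial (Fin n) R)) m
        ((restrictD μ).obj ((restrictD β').obj K)) :=
    isPseudoCoherent_iff_of_iso (restrictDCompIso μ β' γ' hcomp K) m
  exact k1.trans k2.symm

end Groth.Agent.Lib.DMod_helper6
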