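import Mathlib
import Groth.Prelude.Def_DRing2
import Groth.Prelude.Def_DDual2
import Groth.Prelude.Def_DerCA
import Groth.Agent.Lib.DMod38_helper6

/-!
# Derived category toolkit (helper6), part 39: adjoining integral elements and relative
pseudo-coherence along finite ring maps.
-/

set_option autoImplicit false
universe u
open CategoryTheory CategoryTheory.Limits Pretriangulated DerivedCategory ZeroObject
attribute [local instance] HasDerivedCategory.standard

namespace Groth.Agent.Lib.DMod_helper6

open DRing CochainComplex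

section AdjoinRoot

open Polynomial

variable {S : Type u} [CommRing S] (F : S[X]) (hF : F.Monic)

include hF in
/-- `S[X]/(F)` is pseudo-coherent over `S[X]` for `F` monic. -/
lemma resPC_adjoinRoot_mk :
    resPC (AdjoinRoot.mk F) (Dual.inD (AdjoinRoot F) (AdjoinRoot F)) := by
  letI inst : Module S[X] (AdjoinRoot F) := Module.compHom (AdjoinRoot F) (AdjoinRoot.mk F)
  have hsmul : ∀ (q : S[X]) (r : AdjoinRoot F), q • r = AdjoinRoot.mk F q * r := fun q r => rfl
  let fl : S[X] →ₗ[S[X]] S[X] := LinearMap.mulLeft S[X] F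
  let gl : S[X] →ₗ[S[X]] AdjoinRoot F :=
    { toFun := fun p => AdjoinRoot.mk F p
      map_add' := fun p q => map_add _ p q
      map_smul' := fun q p => by
        rw [RingHom.id_apply, hsmul, smul_eq_mul, map_mul] }
  have hfl : ∀ p : S[X], fl p = F * p := fun p => rfl
  have hgl : ∀ p : S[X], gl p = AdjoinRoot.mk F p := fun p => rfl
  let f : ModuleCat.of S[X] S[X] ⟶ ModuleCat.of S[X] S[X] := ModuleCat.ofHom fl
  let g : ModuleCat.of S[X] S[X] ⟶ ModuleCat.of S[X] (AdjoinRoot F) := ModuleCat.ofHom gl
  have w : f ≫ g = 0 := by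
    apply ModuleCat.hom_ext
    apply LinearMap.ext
    intro p
    show gl (fl p) = 0
    rw [hfl, hgl, AdjoinRoot.mk_eq_zero]
    exact dvd_mul_right F p
  have hS : (ShortComplex.mk f g w).ShortExact := by
    refine ShortComplex.ShortExact.mk' ?_ ?_ ?_
    · rw [ShortComplex.moduleCat_exact_iff]
      intro p hp
      have hp' : gl p = 0 := hp
      rw [hgl, AdjoinRoot.mk_eq_zero] at hp'
      obtain ⟨q, hq⟩ := hp'
      exact ⟨q, hq.symm⟩
    · refine (ModuleCat.mono_iff_injective _).2 (fun p q hpq => ?_)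
      have hpq' : fl p = fl q := hpq
      rw [hfl, hfl] at hpq'
      exact hF.isRegular.left hpq'
    · refine (ModuleCat.epi_iff_surjective _).2 (fun r => ?_)
      obtain ⟨p, hp⟩ := AdjoinRoot.mk_surjective (g := F) r
      exact ⟨p, hp⟩
  have h1 : pcProp S[X] (Dual.inD S[X] S[X]) :=
    pcProp_inD_of_finite_free (ModuleCat.of S[X] S[X]) (inferInstanceAs (Module.Finite S[X] S[X]))
      (inferInstanceAs (Module.Free S[X] S[X]))
  have h3 := (pcProp S[X]).ext_of_isTriangulatedClosed₃ _ hS.singleTriangle_distinguished h1 h1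
  exact (pcProp S[X]).prop_of_iso
    (restrictDInDIso (AdjoinRoot.mk F) (ModuleCat.of (AdjoinRoot F) (AdjoinRoot F))).symm h3

include hF in
/-- `S[X]/(F)` is pseudo-coherent over `S` for `F` monic. -/
lemma resPC_adjoinRoot_of :
    resPC (algebraMap S (AdjoinRoot F)) (Dual.inD (AdjoinRoot F) (AdjoinRoot F)) := by
  have h1 : pcProp S (Dual.inD S (AdjoinRoot F)) :=
    pcProp_inD_of_finite_free (ModuleCat.of S (AdjoinRoot F)) hF.finite_adjoinRoot
      hF.free_adjoinRoot
  exact (pcProp S).prop_of_iso
    (restrictDInDSelfIso (A := S) (B := AdjoinRoot F)).symm h1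

include hF in
lemma isPseudoCoherent_restrictD_polynomial_iff {B : Type u} [CommRing B] (ι : S →+* B) (b : B)
    (hb : F.eval₂ ι b = 0) (K : Dual.D B) (m : ℤ) :
    IsPseudoCoherent S[X] m ((restrictD (Polynomial.eval₂RingHom ι b)).obj K) ↔
      IsPseudoCoherent S m ((restrictD ι).obj K) := by
  let ψ : AdjoinRoot F →+* B := AdjoinRoot.lift ι b hb
  have h1 : Polynomial.eval₂RingHom ι b = ψ.comp (AdjoinRoot.mk F) := by
    apply Polynomial.ringHom_ext
    · intro s
      show Polynomial.eval₂ ι b (C s) = AdjoinRoot.lift ι b hb (AdjoinRoot.mk F (C s))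
      rw [AdjoinRoot.lift_mk]
    · show Polynomial.eval₂ ι b X = AdjoinRoot.lift ι b hb (AdjoinRoot.mk F X)
      rw [AdjoinRoot.lift_mk]
  have h2 : ι = ψ.comp (algebraMap S (AdjoinRoot F)) := by
    apply RingHom.ext
    intro s
    show ι s = AdjoinRoot.lift ι b hb (AdjoinRoot.of F s)
    rw [AdjoinRoot.lift_of]
  have k1 : IsPseudoCoherent S[X] m ((restrictD (Polynomial.eval₂RingHom ι b)).obj K) ↔
      IsPseudoCoherent S[X] m ((restrictD (AdjoinRoot.mk F)).obj ((restrictD ψ).obj K)) :=
    isPseudoCoherent_iff_of_iso (restrictDCompIso (AdjoinRoot.mk F) ψ _ h1 K) m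
  have k2 : IsPseudoCoherent (AdjoinRoot F) m ((restrictD ψ).obj K) ↔
      IsPseudoCoherent S[X] m ((restrictD (AdjoinRoot.mk F)).obj ((restrictD ψ).obj K)) :=
    isPseudoCoherent_restrictD_iff (AdjoinRoot.mk F) (resPC_adjoinRoot_mk F hF) m _
  have k3 : IsPseudoCoherent (AdjoinRoot F) m ((restrictD ψ).obj K) ↔
      IsPseudoCoherent S m
        ((restrictD (algebraMap S (AdjoinRoot F))).obj ((restrictD ψ).obj K)) :=
    isPseudoCoherent_restrictD_iff (algebraMap S (AdjoinRoot F)) (resPC_adjoinRoot_of F hF) m _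
  have k4 : IsPseudoCoherent S m ((restrictD ι).obj K) ↔
      IsPseudoCoherent S m
        ((restrictD (algebraMap S (AdjoinRoot F))).obj ((restrictD ψ).obj K)) :=
    isPseudoCoherent_iff_of_iso (restrictDCompIso (algebraMap S (AdjoinRoot F)) ψ _ h2 K) m
  exact (k1.trans k2.symm).trans (k3.trans k4.symm)

end AdjoinRoot

/-- Adjoining finitely many integral elements does not change `m`-pseudo-coherence. -/
theorem isPseudoCoherent_restrictD_mvPolynomial_iff : ∀ (r : ℕ) {S B : Type u} [CommRing S]
    [CommRing B] (ι : S →+* B) (b : Fin r → B) (_ : ∀ j, ι.IsIntegralElem (b j))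
    (K : Dual.D B) (m : ℤ),
    IsPseudoCoherent (MvPolynomial (Fin r) S) m
        ((restrictD (MvPolynomial.eval₂Hom ι b)).obj K) ↔
      IsPseudoCoherent S m ((restrictD ι).obj K) := by
  intro r
  induction r with
  | zero =>
    intro S B _ _ ι b _ K m
    let c : S →+* MvPolynomial (Fin 0) S := MvPolynomial.C
    have hc : Function.Bijective c :=
      ⟨MvPolynomial.C_injective (Fin 0) S, MvPolynomial.C_surjective (Fin 0)⟩
    have hcomp : ι = (MvPolynomial.eval₂Hom ι b).comp c := by
      apply RingHom.ext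
      intro s
      show ι s = MvPolynomial.eval₂Hom ι b (MvPolynomial.C s)
      rw [MvPolynomial.eval₂Hom_C]
    have k1 : IsPseudoCoherent (MvPolynomial (Fin 0) S) m
        ((restrictD (MvPolynomial.eval₂Hom ι b)).obj K) ↔
        IsPseudoCoherent S m ((restrictD c).obj ((restrictD (MvPolynomial.eval₂Hom ι b)).obj K)) :=
      isPseudoCoherent_restrictD_iff c (resPC_of_bijective c hc) m _
    have k2 : IsPseudoCoherent S m ((restrictD ι).obj K) ↔
        IsPseudoCoherent S m ((restrictD c).obj ((restrictD (MvPolynomial.eval₂Hom ι b)).obj K)) :=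
      isPseudoCoherent_iff_of_iso (restrictDCompIso c (MvPolynomial.eval₂Hom ι b) ι hcomp K) m
    exact k1.trans k2.symm
  | succ r ih =>
    intro S B _ _ ι b hb K m
    let T := MvPolynomial (Fin r) S
    let ιT : T →+* B := MvPolynomial.eval₂Hom ι (fun j : Fin r => b j.succ)
    obtain ⟨F₀, hF₀, hF₀b⟩ := hb 0
    let cT : S →+* T := MvPolynomial.C
    have hιT : ιT.comp cT = ι := by
      apply RingHom.ext
      intro s
      show MvPolynomial.eval₂Hom ι (fun j : Fin r => b j.succ) (MvPolynomial.C s) = ι s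
      rw [MvPolynomial.eval₂Hom_C]
    let F : Polynomial T := F₀.map cT
    have hF : F.Monic := hF₀.map cT
    have hFb : F.eval₂ ιT (b 0) = 0 := by
      show (F₀.map cT).eval₂ ιT (b 0) = 0
      rw [Polynomial.eval₂_map, hιT]
      exact hF₀b
    let ev : Polynomial T →+* B := Polynomial.eval₂RingHom ιT (b 0)
    let e : MvPolynomial (Fin (r + 1)) S →+* Polynomial T :=
      ((MvPolynomial.finSuccEquiv S r : MvPolynomial (Fin (r + 1)) S ≃+* Polynomial T) : _ →+* _)
    have he : Function.Bijective e := (MvPolynomial.finSuccEquiv S r).bijective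
    have hcomp : MvPolynomial.eval₂Hom ι b = ev.comp e := by
      apply MvPolynomial.ringHom_ext
      · intro s
        show MvPolynomial.eval₂Hom ι b (MvPolynomial.C s) =
          Polynomial.eval₂ ιT (b 0) ((MvPolynomial.finSuccEquiv S r) (MvPolynomial.C s))
        rw [MvPolynomial.finSuccEquiv_apply, MvPolynomial.eval₂Hom_C, MvPolynomial.eval₂Hom_C]
        show ι s = Polynomial.eval₂ ιT (b 0) (Polynomial.C (MvPolynomial.C s))
        rw [Polynomial.eval₂_C]
        exact (DFunLike.congr_fun hιT s).symm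
      · intro i
        show MvPolynomial.eval₂Hom ι b (MvPolynomial.X i) =
          Polynomial.eval₂ ιT (b 0) ((MvPolynomial.finSuccEquiv S r) (MvPolynomial.X i))
        refine Fin.cases ?_ (fun j => ?_) i
        · rw [MvPolynomial.finSuccEquiv_X_zero, Polynomial.eval₂_X, MvPolynomial.eval₂Hom_X']
        · rw [MvPolynomial.finSuccEquiv_X_succ, Polynomial.eval₂_C, MvPolynomial.eval₂Hom_X']
          show b j.succ = MvPolynomial.eval₂Hom ι (fun j : Fin r => b j.succ) (MvPolynomial.X j)
          rw [MvPolynomial.eval₂Hom_X']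
    have k1 : IsPseudoCoherent (MvPolynomial (Fin (r + 1)) S) m
        ((restrictD (MvPolynomial.eval₂Hom ι b)).obj K) ↔
        IsPseudoCoherent (MvPolynomial (Fin (r + 1)) S) m
          ((restrictD e).obj ((restrictD ev).obj K)) :=
      isPseudoCoherent_iff_of_iso (restrictDCompIso e ev _ hcomp K) m
    have k2 : IsPseudoCoherent (Polynomial T) m ((restrictD ev).obj K) ↔
        IsPseudoCoherent (MvPolynomial (Fin (r + 1)) S) m
          ((restrictD e).obj ((restrictD ev).obj K)) :=
      isPseudoCoherent_restrictD_iff e (resPC_of_bijective e he) m _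
    have k3 : IsPseudoCoherent (Polynomial T) m ((restrictD ev).obj K) ↔
        IsPseudoCoherent T m ((restrictD ιT).obj K) :=
      isPseudoCoherent_restrictD_polynomial_iff F hF ιT (b 0) hFb K m
    have k4 : IsPseudoCoherent T m ((restrictD ιT).obj K) ↔
        IsPseudoCoherent S m ((restrictD ι).obj K) :=
      ih ι (fun j : Fin r => b j.succ) (fun j => hb j.succ) K m
    exact (k1.trans k2.symm).trans (k3.trans k4)

/-- Relative pseudo-coherence along a finite map of finite type algebras. -/
theorem isRelPseudoCoherent_iff_restrict_of_finite {R A B : Type u} [CommRing R] [CommRing A]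
    [CommRing B] [Algebra R A] [Algebra A B] [Algebra R B] [IsScalarTower R A B]
    [Algebra.FiniteType R A] [Module.Finite A B] (K : Dual.D B) (m : ℤ) :
    DerCA.IsRelPseudoCoherent R B m K ↔
      DerCA.IsRelPseudoCoherent R A m ((restrictD (algebraMap A B)).obj K) := by
  obtain ⟨n, α, hα⟩ := Algebra.FiniteType.iff_quotient_mvPolynomial''.1
    (inferInstance : Algebra.FiniteType R A)
  obtain ⟨r, b, hb⟩ := Module.Finite.exists_fin (R := A) (M := B)
  let α' : MvPolynomial (Fin n) R →+* A := α
  let ι : MvPolynomial (Fin n) R →+* B := (algebraMap A B).comp α'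
  have hint : ∀ j, ι.IsIntegralElem (b j) := fun j =>
    RingHom.IsIntegral.trans α' (algebraMap A B) (RingHom.isIntegral_of_surjective _ hα)
      (fun x => IsIntegral.of_finite A x) (b j)
  let γ₀ : MvPolynomial (Fin r) (MvPolynomial (Fin n) R) →+* B := MvPolynomial.eval₂Hom ι b
  let γ : MvPolynomial (Fin r) (MvPolynomial (Fin n) R) →ₐ[R] B :=
    { γ₀ with
      commutes' := fun x => by
        show MvPolynomial.eval₂Hom ι b (algebraMap R _ x) = algebraMap R B x
        have h1 : algebraMap R (MvPolynomial (Fin r) (MvPolynomial (Fin n) R)) x =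
            MvPolynomial.C (MvPolynomial.C x) := rfl
        rw [h1, MvPolynomial.eval₂Hom_C]
        show algebraMap A B (α (MvPolynomial.C x)) = algebraMap R B x
        have h2 : α (MvPolynomial.C x) = algebraMap R A x := α.commutes x
        rw [h2, ← IsScalarTower.algebraMap_apply] }
  have hγ : Function.Surjective γ := by
    intro x
    have hx : x ∈ Submodule.span A (Set.range b) := by rw [hb]; trivial
    induction hx using Submodule.span_induction with
    | mem y hy =>
      obtain ⟨j, rfl⟩ := hy
      exact ⟨MvPolynomial.X j, MvPolynomial.eval₂Hom_X' _ _ _⟩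
    | zero => exact ⟨0, map_zero _⟩
    | add y z _ _ hy hz =>
      obtain ⟨p, rfl⟩ := hy
      obtain ⟨q, rfl⟩ := hz
      exact ⟨p + q, map_add _ _ _⟩
    | smul a y _ hy =>
      obtain ⟨p, rfl⟩ := hy
      obtain ⟨c, rfl⟩ := hα a
      refine ⟨MvPolynomial.C c * p, ?_⟩
      rw [map_mul, Algebra.smul_def]
      congr 1
      exact MvPolynomial.eval₂Hom_C _ _ _
  rw [isRelPseudoCoherent_iff_iterated γ hγ, isRelPseudoCoherent_iff_via α hα]
  have k1 : IsPseudoCoherent (MvPolynomial (Fin r) (MvPolynomial (Fin n) R)) m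
      ((restrictD γ₀).obj K) ↔ IsPseudoCoherent (MvPolynomial (Fin n) R) m ((restrictD ι).obj K) :=
    isPseudoCoherent_restrictD_mvPolynomial_iff r ι b hint K m
  have k2 : IsPseudoCoherent (MvPolynomial (Fin n) R) m ((restrictD ι).obj K) ↔
      IsPseudoCoherent (MvPolynomial (Fin n) R) m
        ((restrictD α').obj ((restrictD (algebraMap A B)).obj K)) :=
    isPseudoCoherent_iff_of_iso (restrictDCompIso α' (algebraMap A B) ι rfl K) m
  exact k1.trans k2

end Groth.Agent.Lib.DMod_helper6
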