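import Mathlib
import Groth.Prelude.Def_DRing2
import Groth.Prelude.Def_DDual2
import Groth.Prelude.Def_DualSh
import Groth.Agent.Lib.DMod59_helper6

/-!
# Derived category toolkit (helper6), part 60: chain level base change of tor amplitude, the
pushout identification `res (A' ⊗_A M) = R' ⊗_R res M` and base change of `R`-perfect objects (S7075).
-/

set_option autoImplicit false
universe u
open CategoryTheory CategoryTheory.Limits Pretriangulated DerivedCategory ZeroObject
open scoped TensorProduct ChangeOfRings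
attribute [local instance] HasDerivedCategory.standard

namespace Groth.Agent.Lib.DMod_helper6

open DRing CochainComplex Groth.Agent.ExtendScalarsLib

section Comm2

variable {A : Type u} [CommRing A]

lemma exact_rTensor_of_exact_lTensor {M₁ M₂ M₃ : Type u} [AddCommGroup M₁] [AddCommGroup M₂]
    [AddCommGroup M₃] [Module A M₁] [Module A M₂] [Module A M₃]
    (f : M₁ →ₗ[A] M₂) (g : M₂ →ₗ[A] M₃) (N : Type u) [AddCommGroup N] [Module A N]
    (h : Function.Exact (f.lTensor N) (g.lTensor N)) :
    Function.Exact (f.rTensor N) (g.rTensor N) := by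
  intro y
  have h' := h (TensorProduct.comm A M₂ N y)
  rw [lTensor_comm_apply, LinearEquiv.map_eq_zero_iff] at h'
  rw [h']
  constructor
  · rintro ⟨x, hx⟩
    obtain ⟨x', rfl⟩ := (TensorProduct.comm A M₁ N).surjective x
    rw [lTensor_comm_apply] at hx
    exact ⟨x', (TensorProduct.comm A M₂ N).injective hx⟩
  · rintro ⟨x, rfl⟩
    exact ⟨TensorProduct.comm A M₁ N x, by rw [lTensor_comm_apply]⟩

end Comm2

section TransferRev

variable {A B : Type u} [CommRing A] [CommRing B] [Algebra A B]

/-- exactness of `N ⊗_A M_•` gives exactness of `(B ⊗_A M_•) ⊗_B N` -/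
lemma exact_rTensor_ES_of_exact_lTensor (N : Type u) [AddCommGroup N] [Module A N] [Module B N]
    [IsScalarTower A B N] {M₁ M₂ M₃ : ModuleCat.{u} A} (f : M₁ ⟶ M₂) (g : M₂ ⟶ M₃)
    (h : Function.Exact (f.hom.lTensor N) (g.hom.lTensor N)) :
    Function.Exact (((ES A B).map f).hom.rTensor N) (((ES A B).map g).hom.rTensor N) := by
  have hcomm : ∀ {X Y : ModuleCat.{u} A} (u : X ⟶ Y)
      (x : N ⊗[B] ((ES A B).obj X)),
      (LinearEquiv.lTensor N (extendScalarsEquivTensor (S := B) Y))
        ((((ES A B).map u).hom.lTensor N) x) =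
      ((u.hom.baseChange B).lTensor N)
        ((LinearEquiv.lTensor N (extendScalarsEquivTensor (S := B) X)) x) := by
    intro X Y u x
    have hc : (extendScalarsEquivTensor (S := B) Y).toLinearMap ∘ₗ ((ES A B).map u).hom =
        (u.hom.baseChange B) ∘ₗ (extendScalarsEquivTensor (S := B) X).toLinearMap := by
      apply LinearMap.ext
      intro z
      exact ES_map_comm u z
    show ((extendScalarsEquivTensor (S := B) Y).toLinearMap.lTensor N)
        ((((ES A B).map u).hom.lTensor N) x) =
      ((u.hom.baseChange B).lTensor N)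
        (((extendScalarsEquivTensor (S := B) X).toLinearMap.lTensor N) x)
    rw [← LinearMap.comp_apply, ← LinearMap.lTensor_comp, hc, LinearMap.lTensor_comp,
      LinearMap.comp_apply]
  have h2 : Function.Exact ((f.hom.baseChange B).lTensor N) ((g.hom.baseChange B).lTensor N) :=
    (function_exact_iff_of_equiv
      (TensorProduct.AlgebraTensorModule.cancelBaseChange A B B N M₁).toEquiv
      (TensorProduct.AlgebraTensorModule.cancelBaseChange A B B N M₂).toEquiv
      (TensorProduct.AlgebraTensorModule.cancelBaseChange A B B N M₃).toEquiv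
      (map_zero (TensorProduct.AlgebraTensorModule.cancelBaseChange A B B N M₃)) _ _ _ _
      (cancelBaseChange_comm N f.hom) (cancelBaseChange_comm N g.hom)).2 h
  have h1 : Function.Exact (((ES A B).map f).hom.lTensor N) (((ES A B).map g).hom.lTensor N) :=
    (function_exact_iff_of_equiv
      (LinearEquiv.lTensor N (extendScalarsEquivTensor (S := B) M₁)).toEquiv
      (LinearEquiv.lTensor N (extendScalarsEquivTensor (S := B) M₂)).toEquiv
      (LinearEquiv.lTensor N (extendScalarsEquivTensor (S := B) M₃)).toEquiv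
      (map_zero (LinearEquiv.lTensor N (extendScalarsEquivTensor (S := B) M₃))) _ _ _ _
      (hcomm f) (hcomm g)).2 h2
  exact exact_rTensor_of_exact_lTensor _ _ N h1

end TransferRev

section ChainBC

open MonoidalCategory

variable {R R' : Type u} [CommRing R] [CommRing R'] [Algebra R R']

/-- chain level: `(R' ⊗_R C) ⊗_{R'} N = C ⊗_R N` is exact outside the tor amplitude of `C`. -/
theorem exactAt_TN_ESc (C : Cx R) (b' : ℤ) (hb : VanishesAbove C b') (hflat : TermwiseFlat C)
    (a b : ℤ) (h : HasTorAmplitudeIn R a b (toD C)) (N : ModuleCat.{u} R') (i : ℤ)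
    (hi : i < a ∨ b < i) :
    ((TN N).obj ((ESc (algebraMap R R')).obj C)).ExactAt i := by
  letI : Module R N := Module.compHom N (algebraMap R R')
  haveI : IsScalarTower R R' N := IsScalarTower.of_algebraMap_smul (fun r x => rfl)
  have h0 := exactAt_TN_of_hasTorAmplitudeIn' C b' hb hflat a b h (ModuleCat.of R N) i hi
  have h1 := function_exact_of_exactAt _ (i - 1) i (i + 1) (by omega) rfl h0
  have h2 : Function.Exact ((C.d (i - 1) i).hom.lTensor N) ((C.d i (i + 1)).hom.lTensor N) :=
    exact_lTensor_of_exact_rTensor _ _ N h1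
  have h3 := exact_rTensor_ES_of_exact_lTensor (A := R) (B := R') N (C.d (i - 1) i)
    (C.d i (i + 1)) h2
  exact exactAt_of_function_exact _ (i - 1) i (i + 1) (by omega) rfl h3

/-- chain level base change of tor amplitude (lower bound kept, upper bound the vanishing bound) -/
theorem hasTorAmplitudeIn_ESc (C : Cx R) (b' : ℤ) (hb : VanishesAbove C b')
    (hflat : TermwiseFlat C) (a b : ℤ) (h : HasTorAmplitudeIn R a b (toD C)) :
    HasTorAmplitudeIn R' a b' (toD ((ESc (algebraMap R R')).obj C)) := by
  have hb2 : VanishesAbove ((ESc (algebraMap R R')).obj C) b' := fun i hi =>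
    (ModuleCat.extendScalars.{u, u, u} (algebraMap R R')).map_isZero (hb i hi)
  have hf2 : TermwiseFlat ((ESc (algebraMap R R')).obj C) := fun i =>
    flat_ES (A := R) (B := R') (C.X i) (hflat i)
  refine hasTorAmplitudeIn_of_TN_exact' _ a b' hb2 hf2 (fun i hi => ?_)
    (fun N => exactAt_TN_ESc C b' hb hflat a b h N (a - 1) (Or.inl (by omega)))
  have h1 := exactAt_TN_ESc C b' hb hflat a b h (𝟙_ (ModuleCat.{u} R')) i (Or.inl hi)
  have e : (TN (𝟙_ (ModuleCat.{u} R'))).obj ((ESc (algebraMap R R')).obj C) ≅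
      (ESc (algebraMap R R')).obj C :=
    (NatIso.mapHomologicalComplex (MonoidalCategory.rightUnitorNatIso (ModuleCat.{u} R'))
      (ComplexShape.up ℤ) ≪≫ Functor.mapHomologicalComplexIdIso _ _).app _
  exact exactAt_of_iso_toD _ _ (Q.mapIso e.symm) i h1

end ChainBC

section Pushout

/-- restriction of scalars of a linear equivalence -/
noncomputable def resLinearEquiv {S T : Type u} [CommRing S] [CommRing T] [Algebra S T]
    (Y : ModuleCat.{u} T) (Z : Type u) [AddCommGroup Z] [Module T Z] [Module S Z]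
    [IsScalarTower S T Z] (e : Y ≃ₗ[T] Z) :
    ((ModuleCat.restrictScalars.{u} (algebraMap S T)).obj Y) ≃ₗ[S] Z where
  toFun := fun y => e y
  invFun := fun z => e.symm z
  map_add' := fun x y => e.map_add x y
  map_smul' := fun r y => by
    change e ((algebraMap S T r) • (show Y from y)) = r • e y
    rw [e.map_smul, algebraMap_smul]
  left_inv := e.left_inv
  right_inv := e.right_inv

variable (R A R' : Type u) [CommRing R] [CommRing A] [CommRing R'] [Algebra R A] [Algebra R R']

attribute [local instance] Algebra.TensorProduct.rightAlgebra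

/-- `R' ⊗_R res M = res ((R' ⊗_R A) ⊗_A M)` -/
noncomputable def pushoutEquiv (M : ModuleCat.{u} A) :
    ((ES R R').obj ((ModuleCat.restrictScalars.{u} (algebraMap R A)).obj M)) ≃ₗ[R']
      ((ModuleCat.restrictScalars.{u} (algebraMap R' (R' ⊗[R] A))).obj
        ((ES A (R' ⊗[R] A)).obj M)) := by
  letI : Module A ((ModuleCat.restrictScalars.{u} (algebraMap R A)).obj M) :=
    inferInstanceAs (Module A M)
  haveI : IsScalarTower R A ((ModuleCat.restrictScalars.{u} (algebraMap R A)).obj M) :=
    ⟨fun r a m => by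
      show ((r • a) • m : M) = (algebraMap R A r) • ((a • m : M))
      rw [Algebra.smul_def, mul_smul]⟩
  exact (extendScalarsEquivTensor (S := R')
      ((ModuleCat.restrictScalars.{u} (algebraMap R A)).obj M)) ≪≫ₗ
    (Algebra.IsPushout.cancelBaseChange R R' A (R' ⊗[R] A)
      ((ModuleCat.restrictScalars.{u} (algebraMap R A)).obj M)).symm ≪≫ₗ
    (resLinearEquiv (S := R') (T := R' ⊗[R] A) ((ES A (R' ⊗[R] A)).obj M) _
      (extendScalarsEquivTensor (S := R' ⊗[R] A) M)).symm

lemma pushoutEquiv_one_tmul (M : ModuleCat.{u} A) (m : M) :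
    pushoutEquiv R A R' M ((1 : R') ⊗ₜ[R, algebraMap R R'] m) =
      ((1 : R' ⊗[R] A) ⊗ₜ[A, algebraMap A (R' ⊗[R] A)] m) := by
  letI : Module A ((ModuleCat.restrictScalars.{u} (algebraMap R A)).obj M) :=
    inferInstanceAs (Module A M)
  haveI : IsScalarTower R A ((ModuleCat.restrictScalars.{u} (algebraMap R A)).obj M) :=
    ⟨fun r a m => by
      show ((r • a) • m : M) = (algebraMap R A r) • ((a • m : M))
      rw [Algebra.smul_def, mul_smul]⟩
  show (resLinearEquiv (S := R') (T := R' ⊗[R] A) ((ES A (R' ⊗[R] A)).obj M) _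
      (extendScalarsEquivTensor (S := R' ⊗[R] A) M)).symm
    ((Algebra.IsPushout.cancelBaseChange R R' A (R' ⊗[R] A)
      ((ModuleCat.restrictScalars.{u} (algebraMap R A)).obj M)).symm
      ((extendScalarsEquivTensor (S := R')
        ((ModuleCat.restrictScalars.{u} (algebraMap R A)).obj M))
        ((1 : R') ⊗ₜ[R, algebraMap R R'] m))) = _
  rw [extendScalarsEquivTensor_tmul, Algebra.IsPushout.cancelBaseChange_symm_tmul, map_one]
  rfl

lemma pushoutEquiv_naturality {M N : ModuleCat.{u} A} (f : M ⟶ N) :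
    (pushoutEquiv R A R' M).toModuleIso.hom ≫
        (ModuleCat.restrictScalars.{u} (algebraMap R' (R' ⊗[R] A))).map
          ((ES A (R' ⊗[R] A)).map f) =
      (ES R R').map ((ModuleCat.restrictScalars.{u} (algebraMap R A)).map f) ≫
        (pushoutEquiv R A R' N).toModuleIso.hom := by
  refine ModuleCat.ExtendScalars.hom_ext (fun m => ?_)
  show ((ES A (R' ⊗[R] A)).map f).hom
      (pushoutEquiv R A R' M ((1 : R') ⊗ₜ[R, algebraMap R R'] m)) =
    pushoutEquiv R A R' N ((1 : R') ⊗ₜ[R, algebraMap R R'] (f.hom m))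
  rw [pushoutEquiv_one_tmul, pushoutEquiv_one_tmul]
  rfl

/-- the complex version of `pushoutEquiv` -/
noncomputable def pushoutCxIso (E : Cx A) :
    (ESc (algebraMap R R')).obj ((restrictCx (algebraMap R A)).obj E) ≅
      (restrictCx (algebraMap R' (R' ⊗[R] A))).obj ((ESc (algebraMap A (R' ⊗[R] A))).obj E) :=
  HomologicalComplex.Hom.isoOfComponents (fun i => (pushoutEquiv R A R' (E.X i)).toModuleIso)
    (fun i j _ => pushoutEquiv_naturality R A R' (E.d i j))

/-- S7075 (flatness of `R → A` is used; finite presentation is not). -/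
theorem isRelPerfect_lBaseChange [Module.Flat R A]
    [HasLBaseChange (algebraMap A (R' ⊗[R] A))] (K : Dual.D A)
    (hK : Dual2.IsRelPerfect R A K) :
    Dual2.IsRelPerfect R' (R' ⊗[R] A) ((LBaseChange (algebraMap A (R' ⊗[R] A))).obj K) := by
  obtain ⟨⟨E, b₁, hEb, hEff, ⟨e⟩⟩, a, b, hamp⟩ := hK
  haveI : E.IsKProjective := isKProjective_of_projective_bounded E b₁ hEb
    (fun j => by haveI := (hEff j).2; infer_instance)
  obtain ⟨eL⟩ := nonempty_lBaseChange_iso_of_isKProjective (algebraMap A (R' ⊗[R] A)) E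
  have e1 : (LBaseChange (algebraMap A (R' ⊗[R] A))).obj K ≅
      toD ((ESc (algebraMap A (R' ⊗[R] A))).obj E) :=
    (LBaseChange (algebraMap A (R' ⊗[R] A))).mapIso e.symm ≪≫ eL
  constructor
  · refine ⟨(ESc (algebraMap A (R' ⊗[R] A))).obj E, b₁, ?_, ?_, ⟨e1.symm⟩⟩
    · exact fun i hi =>
        (ModuleCat.extendScalars.{u, u, u} (algebraMap A (R' ⊗[R] A))).map_isZero (hEb i hi)
    · intro i
      exact ⟨finite_ES (A := A) (B := R' ⊗[R] A) (E.X i) (hEff i).1,
        free_ES (A := A) (B := R' ⊗[R] A) (E.X i) (hEff i).2⟩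
  · have hamp' : HasTorAmplitudeIn R a b (toD ((restrictCx (algebraMap R A)).obj E)) :=
      hasTorAmplitudeIn_of_iso ((restrictD (algebraMap R A)).mapIso e.symm ≪≫ restrictDIso E)
        a b hamp
    have hb' : VanishesAbove ((restrictCx (algebraMap R A)).obj E) b₁ := fun i hi =>
      (ModuleCat.restrictScalars.{u} (algebraMap R A)).map_isZero (hEb i hi)
    have hf' : TermwiseFlat ((restrictCx (algebraMap R A)).obj E) := fun i =>
      flat_restrictScalars (E.X i) (by haveI := (hEff i).2; infer_instance)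
    have h2 := hasTorAmplitudeIn_ESc (R' := R') _ b₁ hb' hf' a b hamp'
    exact ⟨a, b₁, hasTorAmplitudeIn_of_iso (Q.mapIso (pushoutCxIso R A R' E) ≪≫
      (restrictDIso _).symm ≪≫ (restrictD (algebraMap R' (R' ⊗[R] A))).mapIso e1.symm) a b₁ h2⟩

end Pushout

end Groth.Agent.Lib.DMod_helper6
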