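import Mathlib
import Groth.Prelude.Def_DRing2
import Groth.Prelude.Def_DDual2
import Groth.Prelude.Def_MoreMor
import Groth.Agent.Lib.DMod60_helper6
import Groth.Agent.Lib.DMod39_helper6

/-!
# Derived category toolkit (helper6), part 61: tor dimension of ring maps along composites,
of evaluation maps of polynomial rings, and perfect ring maps through presentations (S7066).
-/

set_option autoImplicit false
universe u
open CategoryTheory CategoryTheory.Limits Pretriangulated DerivedCategory ZeroObject
open scoped TensorProduct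
attribute [local instance] HasDerivedCategory.standard

namespace Groth.Agent.Lib.DMod_helper6

open DRing CochainComplex

section TorDimOfAmp

variable {A : Type u} [CommRing A]

/-- tor dimension from any tor amplitude with lower bound `≥ -d` -/
theorem hasTorDimLE_of_hasTorAmplitudeIn (M : Type u) [AddCommGroup M] [Module A M] (a b : ℤ)
    (d : ℕ) (had : -(d : ℤ) ≤ a) (h : HasTorAmplitudeIn A a b (Dual.inD A M)) :
    HasTorDimLE A d M := by
  let R := ProjectiveResolution.of (ModuleCat.of A M)
  let P : Cx A := R.cochainComplex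
  have hb : VanishesAbove P 0 := fun i hi => CochainComplex.isZero_of_isStrictlyLE P 0 i hi
  have hflat : TermwiseFlat P := fun i => by
    haveI : Module.Projective A (P.X i) :=
      (IsProjective.iff_projective (P.X i)).2 (inferInstance : Projective (R.cochainComplex.X i))
    exact Module.Flat.of_projective
  haveI : IsIso (Q.map R.π') := (isIso_Q_map_iff_quasiIso _ _).2 inferInstance
  let e : toD P ≅ Dual.inD A M := asIso (Q.map R.π') ≪≫
    ((singleFunctorIsoCompQ (ModuleCat.{u} A) 0).app (ModuleCat.of A M)).symm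
  intro N _ _ p hp
  obtain ⟨q, rfl⟩ : ∃ q, p = q + 1 := ⟨p - 1, by omega⟩
  rw [subsingleton_tor_succ_iff]
  exact exactAt_TN_of_hasTorAmplitudeIn P 0 hb hflat a b
    (hasTorAmplitudeIn_of_iso e.symm _ _ h) _ _ (by push_cast; omega)

end TorDimOfAmp

section ResTA

variable {R₁ R₂ R₃ : Type u} [CommRing R₁] [CommRing R₂] [CommRing R₃]

/-- `R₂` has tor dimension `≤ d` over `R₁` along `f` -/
def resTA (f : R₁ →+* R₂) (d : ℕ) : Prop :=
  HasTorAmplitudeIn R₁ (-(d : ℤ)) 0 ((restrictD f).obj (Dual.inD R₂ R₂))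

lemma resTA_comp (f : R₁ →+* R₂) (g : R₂ →+* R₃) (gf : R₁ →+* R₃) (hgf : gf = g.comp f)
    (d₁ d₂ d : ℕ) (hd : d = d₁ + d₂) (hf : resTA f d₁) (hg : resTA g d₂) : resTA gf d := by
  letI := f.toAlgebra
  have hB : HasTorAmplitudeIn R₁ (-(d₁ : ℤ)) 0 (Dual.inD R₁ R₂) :=
    hasTorAmplitudeIn_of_iso (restrictDInDSelfIso (A := R₁) (B := R₂)) _ _ hf
  have h := hasTorAmplitudeIn_restrictD_of_torDim d₁ hB _ (-(d₂ : ℤ)) 0 hg
  have h' := hasTorAmplitudeIn_of_iso (restrictDCompIso f g gf hgf (Dual.inD R₃ R₃)).symm _ _ h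
  have hcast : -(d : ℤ) = -(d₂ : ℤ) - (d₁ : ℤ) := by subst hd; push_cast; ring
  unfold resTA
  rw [hcast]
  exact h'

lemma resTA_of_bijective {S S' : Type u} [CommRing S] [CommRing S'] (φ : S →+* S')
    (hφ : Function.Bijective φ) : resTA φ 0 := by
  let l : S →ₗ[S] ((ModuleCat.restrictScalars φ).obj (ModuleCat.of S' S')) :=
    { toFun := fun s => (φ s : S')
      map_add' := fun a b => map_add φ a b
      map_smul' := fun a b => map_mul φ a b }
  let e : S ≃ₗ[S] ((ModuleCat.restrictScalars φ).obj (ModuleCat.of S' S')) :=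
    LinearEquiv.ofBijective l hφ
  have h1 : HasTorAmplitudeIn S 0 0 (Dual.inD S S) :=
    (hasTorAmplitudeIn_zero_zero_iff_flat S).2 inferInstance
  unfold resTA
  rw [Nat.cast_zero, neg_zero]
  exact hasTorAmplitudeIn_of_iso
    ((DerivedCategory.singleFunctor _ 0).mapIso e.toModuleIso ≪≫
      (restrictDInDIso φ (ModuleCat.of S' S')).symm) 0 0 h1

open Polynomial in
/-- `B`, as a module over `B[X]` via evaluation at `b`, has tor dimension `≤ 1`. -/
lemma resTA_evalAt (B : Type u) [CommRing B] (b : B) :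
    resTA (Polynomial.evalRingHom b) 1 := by
  letI inst : Module B[X] B := Module.compHom B (Polynomial.evalRingHom b)
  have hsmul : ∀ (q : B[X]) (r : B), q • r = q.eval b * r := fun q r => rfl
  let fl : B[X] →ₗ[B[X]] B[X] := LinearMap.mulLeft B[X] (X - C b : B[X])
  let gl : B[X] →ₗ[B[X]] B :=
    { toFun := fun p => p.eval b
      map_add' := fun p q => Polynomial.eval_add
      map_smul' := fun q p => by
        rw [RingHom.id_apply, hsmul, smul_eq_mul, Polynomial.eval_mul] }
  have hfl : ∀ p : B[X], fl p = (X - C b) * p := fun p => rfl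
  have hgl : ∀ p : B[X], gl p = p.eval b := fun p => rfl
  let f : ModuleCat.of B[X] B[X] ⟶ ModuleCat.of B[X] B[X] := ModuleCat.ofHom fl
  let g : ModuleCat.of B[X] B[X] ⟶ ModuleCat.of B[X] B := ModuleCat.ofHom gl
  have w : f ≫ g = 0 := by
    apply ModuleCat.hom_ext
    apply LinearMap.ext
    intro p
    show gl (fl p) = 0
    rw [hfl, hgl, Polynomial.eval_mul, Polynomial.eval_sub, Polynomial.eval_X, Polynomial.eval_C,
      sub_self, zero_mul]
  have hS : (ShortComplex.mk f g w).ShortExact := by
    refine ShortComplex.ShortExact.mk' ?_ ?_ ?_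
    · rw [ShortComplex.moduleCat_exact_iff]
      intro p hp
      have hp' : gl p = 0 := hp
      rw [hgl] at hp'
      obtain ⟨q, hq⟩ := (Polynomial.dvd_iff_isRoot (p := p) (a := b)).2 hp'
      exact ⟨q, hq.symm⟩
    · refine (ModuleCat.mono_iff_injective _).2 (fun p q hpq => ?_)
      have hpq' : fl p = fl q := hpq
      rw [hfl, hfl] at hpq'
      exact (Polynomial.monic_X_sub_C b).isRegular.left hpq'
    · refine (ModuleCat.epi_iff_surjective _).2 (fun r => ⟨Polynomial.C r, ?_⟩)
      show gl (Polynomial.C r) = r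
      rw [hgl, Polynomial.eval_C]
  have h0 : HasTorAmplitudeIn B[X] 0 0 (Dual.inD B[X] B[X]) :=
    (hasTorAmplitudeIn_zero_zero_iff_flat B[X]).2 inferInstance
  have h3 := hasTorAmplitudeIn_cone _ hS.singleTriangle_distinguished (-1) 0
    (hasTorAmplitudeIn_mono _ 0 0 _ _ (by norm_num) (by norm_num) h0)
    (hasTorAmplitudeIn_mono _ 0 0 _ _ (by norm_num) (by norm_num) h0)
  unfold resTA
  rw [Nat.cast_one]
  exact hasTorAmplitudeIn_of_iso
    (restrictDInDIso (Polynomial.evalRingHom b) (ModuleCat.of B B)).symm _ _ h3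

/-- `B`, as a module over `B[x_1, …, x_k]` via evaluation at `f`, has tor dimension `≤ k`. -/
lemma resTA_eval : ∀ (k : ℕ) (B : Type u) [CommRing B] (f : Fin k → B),
    resTA (MvPolynomial.eval f) k := by
  intro k
  induction k with
  | zero =>
    intro B _ f
    refine resTA_of_bijective _ ⟨?_, ?_⟩
    · intro p q hpq
      obtain ⟨a, rfl⟩ := MvPolynomial.C_surjective (Fin 0) p
      obtain ⟨b, rfl⟩ := MvPolynomial.C_surjective (Fin 0) q
      rw [MvPolynomial.eval_C, MvPolynomial.eval_C] at hpq
      rw [hpq]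
    · intro b
      exact ⟨MvPolynomial.C b, MvPolynomial.eval_C _⟩
  | succ k ih =>
    intro B _ f
    let S := MvPolynomial (Fin k) B
    let ε : Polynomial S →+* S := Polynomial.evalRingHom (MvPolynomial.C (f 0) : S)
    let ψ : S →+* B := MvPolynomial.eval (fun j => f j.succ)
    let e : MvPolynomial (Fin (k+1)) B →+* Polynomial S :=
      ((MvPolynomial.finSuccEquiv B k : MvPolynomial (Fin (k+1)) B ≃+* Polynomial S) : _ →+* _)
    have he : resTA e 0 := resTA_of_bijective _ (MvPolynomial.finSuccEquiv B k).bijective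
    have hε : resTA ε 1 := resTA_evalAt S _
    have hψ : resTA ψ k := ih B _
    have h1 : resTA (ε.comp e) 1 := resTA_comp e ε _ rfl 0 1 1 rfl he hε
    refine resTA_comp (ε.comp e) ψ _ ?_ 1 k (k + 1) (by omega) h1 hψ
    apply MvPolynomial.ringHom_ext
    · intro b
      show MvPolynomial.eval f (MvPolynomial.C b) =
        ψ (ε ((MvPolynomial.finSuccEquiv B k) (MvPolynomial.C b)))
      rw [MvPolynomial.finSuccEquiv_apply]
      simp [ε, ψ]
      exact (MvPolynomial.eval_C (f := fun j : Fin k => f j.succ) b).symm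
    · intro i
      show MvPolynomial.eval f (MvPolynomial.X i) =
        ψ (ε ((MvPolynomial.finSuccEquiv B k) (MvPolynomial.X i)))
      refine Fin.cases ?_ (fun j => ?_) i
      · rw [MvPolynomial.finSuccEquiv_X_zero]
        simp [ε, ψ]
        exact (MvPolynomial.eval_C (f := fun j : Fin k => f j.succ) (f 0)).symm
      · rw [MvPolynomial.finSuccEquiv_X_succ]
        simp [ε, ψ]
        exact (MvPolynomial.eval_X (f := fun j : Fin k => f j.succ) j).symm

end ResTA

section PerfectHom

variable (A B : Type u) [CommRing A] [CommRing B] [Algebra A B]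

attribute [local instance] MvPolynomial.algebraMvPolynomial

/-- tor dimension of `B[x_1..x_n]` over `A[x_1..x_n]` -/
lemma resTA_map (n e : ℕ) (he : HasTorDimLE A e B) :
    HasTorAmplitudeIn (MvPolynomial (Fin n) A) (-(e : ℤ)) 0
      (Dual.inD (MvPolynomial (Fin n) A) (MvPolynomial (Fin n) B)) := by
  have h1 : HasTorAmplitudeIn A (-(e : ℤ)) 0 (Dual.inD A B) := (hasTorDimLE_iff B e).1 he
  have h2 := hasTorAmplitudeIn_baseChange (A := A) (B := MvPolynomial (Fin n) A) (-(e : ℤ)) 0 B h1
  let eq : (MvPolynomial (Fin n) A) ⊗[A] B ≃ₗ[MvPolynomial (Fin n) A] MvPolynomial (Fin n) B :=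
    (Algebra.IsPushout.equiv A (MvPolynomial (Fin n) A) B (MvPolynomial (Fin n) B)).toLinearEquiv
  exact hasTorAmplitudeIn_of_iso
    ((DerivedCategory.singleFunctor (ModuleCat.{u} (MvPolynomial (Fin n) A)) 0).mapIso
      eq.toModuleIso) _ _ h2

/-- S7066 -/
theorem isPerfectHom_iff :
    MoreMor.IsPerfectHom A B ↔
      ∃ (n : ℕ) (φ : MvPolynomial (Fin n) A →ₐ[A] B), Function.Surjective φ ∧
        letI := φ.toRingHom.toAlgebra
        DRing.IsPerfectModule (MvPolynomial (Fin n) A) B := by
  constructor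
  · rintro ⟨⟨n, φ, hφ, hpc⟩, ⟨e, he⟩⟩
    refine ⟨n, φ, hφ, ?_⟩
    letI : Algebra (MvPolynomial (Fin n) A) B := φ.toRingHom.toAlgebra
    have hpc' : IsPseudoCoherent' (MvPolynomial (Fin n) A)
        (Dual.inD (MvPolynomial (Fin n) A) B) := hpc
    show IsPerfect (MvPolynomial (Fin n) A) (Dual.inD (MvPolynomial (Fin n) A) B)
    rw [isPerfect_iff_pc_and_finiteTorDim]
    refine ⟨hpc', ?_⟩
    let b : Fin n → B := fun i => φ (MvPolynomial.X i)
    have hB := resTA_map A B n e he
    have hK : HasTorAmplitudeIn (MvPolynomial (Fin n) B) (-(n : ℤ)) 0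
        ((restrictD (MvPolynomial.eval b)).obj (Dual.inD B B)) := resTA_eval n B b
    have h3 := hasTorAmplitudeIn_restrictD_of_torDim e hB _ (-(n : ℤ)) 0 hK
    have hgf : φ.toRingHom = (MvPolynomial.eval b).comp
        (algebraMap (MvPolynomial (Fin n) A) (MvPolynomial (Fin n) B)) := by
      apply MvPolynomial.ringHom_ext
      · intro a
        show φ (MvPolynomial.C a) = MvPolynomial.eval b
          (MvPolynomial.map (algebraMap A B) (MvPolynomial.C a))
        rw [MvPolynomial.map_C, MvPolynomial.eval_C]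
        exact φ.commutes a
      · intro i
        show φ (MvPolynomial.X i) = MvPolynomial.eval b
          (MvPolynomial.map (algebraMap A B) (MvPolynomial.X i))
        rw [MvPolynomial.map_X, MvPolynomial.eval_X]
    have h4 := hasTorAmplitudeIn_of_iso
      (restrictDCompIso _ _ φ.toRingHom hgf (Dual.inD B B)).symm _ _ h3
    exact ⟨_, _, hasTorAmplitudeIn_of_iso
      (restrictDInDSelfIso (A := MvPolynomial (Fin n) A) (B := B)) _ _ h4⟩
  · rintro ⟨n, φ, hφ, hperf⟩
    refine ⟨⟨n, φ, hφ, ?_⟩, ?_⟩
    · exact isPseudoCoherent'_of_isPerfect _ hperf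
    · letI : Algebra (MvPolynomial (Fin n) A) B := φ.toRingHom.toAlgebra
      have hperf' : IsPerfect (MvPolynomial (Fin n) A)
          (Dual.inD (MvPolynomial (Fin n) A) B) := hperf
      obtain ⟨a, b, hab⟩ := hasTorAmplitudeIn_of_isPerfect _ hperf'
      have h1 := hasTorAmplitudeIn_restrictD (R := A) (A := MvPolynomial (Fin n) A) _ a b hab
      let l : ((ModuleCat.restrictScalars (algebraMap A (MvPolynomial (Fin n) A))).obj
          (ModuleCat.of (MvPolynomial (Fin n) A) B)) ≃ₗ[A] B :=
        { toFun := fun x => x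
          invFun := fun x => x
          map_add' := fun _ _ => rfl
          map_smul' := fun r x => by
            show φ (algebraMap A (MvPolynomial (Fin n) A) r) * (show B from x) = r • (show B from x)
            rw [φ.commutes, Algebra.smul_def]
          left_inv := fun _ => rfl
          right_inv := fun _ => rfl }
      have h2 : HasTorAmplitudeIn A a b (Dual.inD A B) :=
        hasTorAmplitudeIn_of_iso
          (restrictDInDIso (algebraMap A (MvPolynomial (Fin n) A))
            (ModuleCat.of (MvPolynomial (Fin n) A) B) ≪≫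
            (DerivedCategory.singleFunctor _ 0).mapIso l.toModuleIso) _ _ h1
      exact ⟨(-a).toNat, hasTorDimLE_of_hasTorAmplitudeIn B a b _ (by omega) h2⟩

end PerfectHom

end Groth.Agent.Lib.DMod_helper6
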