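import Mathlib
import Groth.Prelude.Def_DRing2
import Groth.Prelude.Def_DDual2
import Groth.Prelude.Def_MoreMor
import Groth.Prelude.Def_LCI2
import Groth.Agent.Lib.DMod61_helper6
import Groth.Agent.Lib.KoszulTop_helper7

/-!
# Derived category toolkit (helper6), part 62: Koszul complexes are perfect, quotients by
Koszul-regular ideals are perfect modules, local complete intersection ring maps are perfect (S7070).
-/

set_option autoImplicit false
universe u
open CategoryTheory CategoryTheory.Limits Pretriangulated DerivedCategory ZeroObject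
open scoped TensorProduct
attribute [local instance] HasDerivedCategory.standard

namespace Groth.Agent.Lib.DMod_helper6

open DRing CochainComplex Groth.Agent.ExtendScalarsLib

section Basic

variable {A : Type u} [CommRing A]

lemma isPerfect_of_iso {K L : Dual.D A} (e : K ≅ L) (h : IsPerfect A K) : IsPerfect A L := by
  obtain ⟨E, a, b, h1, h2, ⟨e'⟩⟩ := h
  exact ⟨E, a, b, h1, h2, ⟨e' ≪≫ e⟩⟩

lemma isPerfect_of_isZero (K : Dual.D A) (hK : IsZero K) : IsPerfect A K := by
  have hz : IsZero (0 : Cx A) := isZero_zero _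
  refine ⟨0, 0, 0, fun i _ => isZero_X_of_isZero hz i, fun i => ?_,
    ⟨(Q.map_isZero hz).iso hK⟩⟩
  haveI : Subsingleton ((0 : Cx A).X i) :=
    ModuleCat.subsingleton_of_isZero (isZero_X_of_isZero hz i)
  exact ⟨inferInstance, inferInstance⟩

end Basic

section KoszulPerfect

variable (A : Type u) [CommRing A]

lemma koszul_props : ∀ l : List A,
    VanishesOutside (Koszul.koszul A l) (-(l.length : ℤ)) 0 ∧
      TermwiseFiniteFree (Koszul.koszul A l)
  | [] => by
    constructor
    · intro i hi
      have hi' : i ≠ 0 := by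
        rcases hi with hi | hi
        · simp at hi; omega
        · omega
      exact HomologicalComplex.isZero_single_obj_X (ComplexShape.up ℤ) 0 _ i hi'
    · intro i
      by_cases hi : i = 0
      · subst hi
        have e := (HomologicalComplex.singleObjXSelf (ComplexShape.up ℤ) 0 (ModuleCat.of A A))
        exact ⟨finite_of_iso e.symm (inferInstanceAs (Module.Finite A A)),
          free_of_iso e.symm (inferInstanceAs (Module.Free A A))⟩
      · have hz : IsZero ((Koszul.koszul A []).X i) :=
          HomologicalComplex.isZero_single_obj_X (ComplexShape.up ℤ) 0 _ i hi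
        haveI := ModuleCat.subsingleton_of_isZero hz
        exact ⟨inferInstance, Module.Free.of_subsingleton _ _⟩
  | f :: l => by
    obtain ⟨h1, h2⟩ := koszul_props l
    constructor
    · intro i hi
      have hlen : ((f :: l).length : ℤ) = (l.length : ℤ) + 1 := by
        rw [List.length_cons]; push_cast; ring
      rw [hlen] at hi
      show IsZero ((CochainComplex.mappingCone (f • 𝟙 (Koszul.koszul A l))).X i)
      refine IsZero.of_iso (isZero_biprod (h1 (i + 1) ?_) (h1 i ?_)) (coneXIso _ i)
      · rcases hi with hi | hi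
        · exact Or.inl (by omega)
        · exact Or.inr (by omega)
      · rcases hi with hi | hi
        · exact Or.inl (by omega)
        · exact Or.inr (by omega)
    · intro i
      show Module.Finite A ((CochainComplex.mappingCone (f • 𝟙 (Koszul.koszul A l))).X i) ∧
        Module.Free A ((CochainComplex.mappingCone (f • 𝟙 (Koszul.koszul A l))).X i)
      exact ⟨finite_of_iso (coneXIso _ i).symm (finite_biprod (h2 (i + 1)).1 (h2 i).1),
        free_of_iso (coneXIso _ i).symm (free_biprod (h2 (i + 1)).2 (h2 i).2)⟩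

theorem toD_koszul_iso (l : List A) (hl : LCI.IsKoszulRegularSeq A l) :
    Nonempty (toD (Koszul.koszul A l) ≅ Dual.inD A (A ⧸ Ideal.ofList l)) := by
  have hex : ∀ i : ℤ, i ≠ 0 → (Koszul.koszul A l).ExactAt i := fun i hi =>
    (HomologicalComplex.exactAt_iff_isZero_homology _ _).2 (hl i hi)
  have hsub : ∀ i : ℤ, i ≠ 0 → Subsingleton (Dual.HD A (toD (Koszul.koszul A l)) i) :=
    fun i hi => (exactAt_iff_subsingleton_HD (Iso.refl (toD (Koszul.koszul A l))) i).1 (hex i hi)
  haveI : DerivedCategory.IsGE (toD (Koszul.koszul A l)) 0 :=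
    isGE_of_subsingleton_HD _ 0 (fun i hi => hsub i (by omega))
  haveI : DerivedCategory.IsLE (toD (Koszul.koszul A l)) 0 :=
    isLE_toD_of_vanishesAbove _ 0 (fun i hi => (koszul_props A l).1 i (Or.inr hi))
  obtain ⟨Y, ⟨e⟩⟩ :=
    DerivedCategory.exists_iso_singleFunctor_obj_of_isGE_of_isLE (toD (Koszul.koszul A l)) 0
  have e1 : Y ≅ (Koszul.koszul A l).homology 0 :=
    (HDinDIso Y).symm ≪≫ (DerivedCategory.homologyFunctor _ 0).mapIso e.symm ≪≫
      (homologyFunctorFactors (ModuleCat.{u} A) 0).app (Koszul.koszul A l)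
  obtain ⟨e2⟩ : Nonempty ((Koszul.koszul A l).homology 0 ≅
      ModuleCat.of A (A ⧸ Ideal.ofList l)) := by
    obtain ⟨e⟩ := Groth.Agent.Lib.KoszulTopH7.top_equiv' A l 0 rfl
    have h : (Ideal.ofList l • (⊤ : Submodule A A)) = Ideal.ofList l := by
      rw [smul_eq_mul, Ideal.mul_top]
    exact ⟨(HomologicalComplex.homologyFunctor _ _ 0).mapIso
        (eqToIso (Groth.Agent.Lib.KoszulTopH7.koszul_eq l)) ≪≫
      (e.trans (Submodule.quotEquivOfEq _ _ h)).toModuleIso⟩
  exact ⟨e ≪≫ (DerivedCategory.singleFunctor _ 0).mapIso (e1 ≪≫ e2)⟩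

theorem isPerfect_quotient_of_koszulRegularSeq (l : List A) (hl : LCI.IsKoszulRegularSeq A l) :
    IsPerfect A (Dual.inD A (A ⧸ Ideal.ofList l)) := by
  obtain ⟨e⟩ := toD_koszul_iso A l hl
  obtain ⟨h1, h2⟩ := koszul_props A l
  exact ⟨Koszul.koszul A l, -(l.length : ℤ), 0, h1,
    fun i => ⟨(h2 i).1, by haveI := (h2 i).2; infer_instance⟩, ⟨e⟩⟩

end KoszulPerfect

section LocalGlobal

variable {P : Type u} [CommRing P]

theorem isPerfectModule_of_forall_prime (M : Type u) [AddCommGroup M] [Module P M]
    (h : ∀ 𝔭 : PrimeSpectrum P, ∃ g : P, g ∉ 𝔭.asIdeal ∧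
      IsPerfect (Localization.Away g)
        (Dual.inD (Localization.Away g) (Localization.Away g ⊗[P] M))) :
    IsPerfect P (Dual.inD P M) := by
  let G : Set P := {g | IsPerfect (Localization.Away g)
    (Dual.inD (Localization.Away g) (Localization.Away g ⊗[P] M))}
  have hG : Ideal.span G = ⊤ := by
    by_contra hne
    obtain ⟨m, hm, hle⟩ := Ideal.exists_le_maximal _ hne
    obtain ⟨g, hg, hgG⟩ := h ⟨m, hm.isPrime⟩
    exact hg (hle (Ideal.subset_span hgG))
  obtain ⟨s, hsG, hs⟩ := (Ideal.span_eq_top_iff_finite G).1 hG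
  let f : Fin s.card → P := fun i => ((s.equivFin.symm i : s) : P)
  have hrange : Set.range f = (s : Set P) := by
    ext x
    constructor
    · rintro ⟨i, rfl⟩
      exact (s.equivFin.symm i).2
    · intro hx
      exact ⟨s.equivFin ⟨x, hx⟩, by simp [f]⟩
  have hf : Ideal.span (Set.range f) = ⊤ := by rw [hrange]; exact hs
  let K : Cx P := (HomologicalComplex.single (ModuleCat.{u} P) (ComplexShape.up ℤ) 0).obj
    (ModuleCat.of P M)
  have hK : IsPerfect P (toD K) := by
    refine isPerfect_of_localization_away hf K (fun j => ?_)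
    have hj : f j ∈ G := hsG (s.equivFin.symm j).2
    haveI : Module.Flat P (Localization.Away (f j)) :=
      IsLocalization.flat _ (Submonoid.powers (f j))
    exact isPerfect_of_iso
      ((bcSingleIso (A := P) (B := Localization.Away (f j)) M).symm ≪≫
        (bcD P (Localization.Away (f j))).mapIso
          ((singleFunctorIsoCompQ (ModuleCat.{u} P) 0).app (ModuleCat.of P M)) ≪≫
        bcDIso (A := P) (B := Localization.Away (f j)) K) hj
  exact isPerfect_of_iso ((singleFunctorIsoCompQ (ModuleCat.{u} P) 0).app (ModuleCat.of P M)).symm hK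

theorem isPerfect_quotient_of_isKoszulRegularIdeal (I : Ideal P)
    (hI : LCI.IsKoszulRegularIdeal I) : IsPerfect P (Dual.inD P (P ⧸ I)) := by
  apply isPerfectModule_of_forall_prime
  intro 𝔭
  by_cases hle : I ≤ 𝔭.asIdeal
  · obtain ⟨g, hg, l, hl, hIl⟩ := hI 𝔭 hle
    refine ⟨g, hg, ?_⟩
    have h1 := isPerfect_quotient_of_koszulRegularSeq (Localization.Away g) l hl
    have hIl' : I.map (algebraMap P (Localization.Away g)) = Ideal.ofList l := hIl
    let e : (Localization.Away g ⧸ Ideal.ofList l) ≃ₗ[Localization.Away g]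
        (Localization.Away g) ⊗[P] (P ⧸ I) :=
      (Submodule.quotEquivOfEq _ _ hIl'.symm) ≪≫ₗ
        (Algebra.TensorProduct.quotIdealMapEquivTensorQuot (Localization.Away g) I).toLinearEquiv
    exact isPerfect_of_iso ((DerivedCategory.singleFunctor _ 0).mapIso e.toModuleIso) h1
  · obtain ⟨g, hgI, hg⟩ := Set.not_subset.1 hle
    refine ⟨g, hg, ?_⟩
    have htop : I.map (algebraMap P (Localization.Away g)) = ⊤ :=
      Ideal.eq_top_of_isUnit_mem _ (Ideal.mem_map_of_mem _ hgI)
        (IsLocalization.Away.algebraMap_isUnit g)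
    haveI : Subsingleton (Localization.Away g ⧸ I.map (algebraMap P (Localization.Away g))) :=
      Ideal.Quotient.subsingleton_iff.2 htop
    haveI hsub : Subsingleton ((Localization.Away g) ⊗[P] (P ⧸ I)) :=
      (Algebra.TensorProduct.quotIdealMapEquivTensorQuot (Localization.Away g)
        I).symm.toEquiv.subsingleton
    exact isPerfect_of_isZero _
      ((DerivedCategory.singleFunctor (ModuleCat.{u} (Localization.Away g)) 0).map_isZero
        (ModuleCat.isZero_of_subsingleton _))

end LocalGlobal

section LCIPerfect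

variable (A B : Type u) [CommRing A] [CommRing B] [Algebra A B]

/-- S7070 -/
theorem isPerfectHom_of_isLCI (h : LCI.IsLCI A B) : MoreMor.IsPerfectHom A B := by
  obtain ⟨_, n, φ, hφ, hI⟩ := h
  rw [isPerfectHom_iff]
  refine ⟨n, φ, hφ, ?_⟩
  letI : Algebra (MvPolynomial (Fin n) A) B := φ.toRingHom.toAlgebra
  show IsPerfect (MvPolynomial (Fin n) A) (Dual.inD (MvPolynomial (Fin n) A) B)
  have key := isPerfect_quotient_of_isKoszulRegularIdeal (RingHom.ker φ.toRingHom) hI
  let re := RingHom.quotientKerEquivOfSurjective (f := φ.toRingHom) hφ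
  let e : (MvPolynomial (Fin n) A ⧸ RingHom.ker φ.toRingHom) ≃ₗ[MvPolynomial (Fin n) A] B :=
    { toFun := fun x => re x
      invFun := fun y => re.symm y
      map_add' := fun x y => map_add re x y
      map_smul' := fun p x => by
        obtain ⟨q, rfl⟩ := Ideal.Quotient.mk_surjective x
        have h1 : p • (Ideal.Quotient.mk (RingHom.ker φ.toRingHom) q) =
            Ideal.Quotient.mk (RingHom.ker φ.toRingHom) (p * q) := rfl
        show re (p • Ideal.Quotient.mk _ q) = φ.toRingHom p * re (Ideal.Quotient.mk _ q)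
        rw [h1]
        show (RingHom.quotientKerEquivOfSurjective hφ) (Ideal.Quotient.mk _ (p * q)) =
          φ.toRingHom p * (RingHom.quotientKerEquivOfSurjective hφ) (Ideal.Quotient.mk _ q)
        rw [RingHom.quotientKerEquivOfSurjective_apply_mk,
          RingHom.quotientKerEquivOfSurjective_apply_mk, map_mul]
      left_inv := re.left_inv
      right_inv := re.right_inv }
  exact isPerfect_of_iso ((DerivedCategory.singleFunctor _ 0).mapIso e.toModuleIso) key

end LCIPerfect

end Groth.Agent.Lib.DMod_helper6
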