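import Mathlib
import Groth.Prelude.Def_DRing2
import Groth.Prelude.Def_DDual2
import Groth.Agent.Lib.DMod62_helper6

/-!
# Derived category toolkit (helper6), part 63: perfectness over `B` from finite tor amplitude over
`A` when the fibres of the flat map `A → B` have finite global dimension (S7035).
-/

set_option autoImplicit false
universe u
open CategoryTheory CategoryTheory.Limits Pretriangulated DerivedCategory ZeroObject
open scoped TensorProduct
attribute [local instance] HasDerivedCategory.standard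

namespace Groth.Agent.Lib.DMod_helper6

open DRing CochainComplex Groth.Agent.ExtendScalarsLib

section FibreGlobalDim

variable {A B : Type u} [CommRing A] [CommRing B] [Algebra A B]

attribute [local instance] Algebra.TensorProduct.rightAlgebra

/-- S7035 -/
theorem isPerfect_of_flat_fibres_globalDim [Module.Flat A B] (d : ℕ)
    (hgl : ∀ (p : PrimeSpectrum A) (M : ModuleCat.{u} (p.asIdeal.ResidueField ⊗[A] B)),
      HasProjectiveDimensionLT M (d + 1))
    (a b : ℤ) (K : Dual.D B) (hK : IsPseudoCoherent' B K)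
    (hKa : HasTorAmplitudeIn A a b ((restrictD (algebraMap A B)).obj K)) :
    IsPerfect B K ∧ HasTorAmplitudeIn B (a - d) b K := by
  obtain ⟨E, b₁, hEb, hEff, ⟨e⟩⟩ := hK
  have hampA : HasTorAmplitudeIn A a b (toD ((restrictCx (algebraMap A B)).obj E)) :=
    hasTorAmplitudeIn_of_iso ((restrictD (algebraMap A B)).mapIso e.symm ≪≫ restrictDIso E)
      a b hKa
  have hresb : VanishesAbove ((restrictCx (algebraMap A B)).obj E) b₁ := fun i hi =>
    (ModuleCat.restrictScalars.{u} (algebraMap A B)).map_isZero (hEb i hi)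
  have hresf : TermwiseFlat ((restrictCx (algebraMap A B)).obj E) := fun i =>
    flat_restrictScalars (E.X i) (by haveI := (hEff i).2; infer_instance)
  have hq : ∀ (m : Ideal B), m.IsMaximal → ∀ i : ℤ, (i < a - d ∨ b < i) →
      Function.Exact ((E.d (i - 1) i).hom.lTensor (B ⧸ m))
        ((E.d i (i + 1)).hom.lTensor (B ⧸ m)) := by
    intro m hm i hi
    haveI := hm
    let p : Ideal A := m.comap (algebraMap A B)
    haveI hp : p.IsPrime := Ideal.comap_isPrime _ _
    let 𝔭 : PrimeSpectrum A := ⟨p, hp⟩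
    have h2 : ∀ j : ℤ, (j < a ∨ b < j) →
        ((ESc (algebraMap A p.ResidueField)).obj
          ((restrictCx (algebraMap A B)).obj E)).ExactAt j := by
      intro j hj
      have h0 := exactAt_TN_of_hasTorAmplitudeIn' _ b₁ hresb hresf a b hampA
        (ModuleCat.of A p.ResidueField) j hj
      have h1 := function_exact_of_exactAt _ (j - 1) j (j + 1) (by omega) rfl h0
      have h1' := exact_lTensor_of_exact_rTensor _ _ p.ResidueField h1
      exact exactAt_of_function_exact _ (j - 1) j (j + 1) (by omega) rfl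
        ((exact_ES_map_iff (A := A) (B := p.ResidueField) _ _).2 h1')
    have h4 : ∀ j : ℤ, (j < a ∨ b < j) →
        ((ESc (algebraMap B (p.ResidueField ⊗[A] B))).obj E).ExactAt j := by
      intro j hj
      apply exactAt_of_exactAt_restrictCx
        (algebraMap p.ResidueField (p.ResidueField ⊗[A] B))
      exact exactAt_of_iso_toD _ _ (Q.mapIso (pushoutCxIso A B p.ResidueField E).symm) j
        (h2 j hj)
    have h5 : HasTorAmplitudeIn (p.ResidueField ⊗[A] B) (a - d) b
        (toD ((ESc (algebraMap B (p.ResidueField ⊗[A] B))).obj E)) :=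
      hasTorAmplitudeIn_of_globalDim d (fun M => hgl 𝔭 M) _ a b
        (fun j hj => (exactAt_iff_subsingleton_HD (Iso.refl _) j).1 (h4 j hj))
    have hFb : VanishesAbove ((ESc (algebraMap B (p.ResidueField ⊗[A] B))).obj E) b₁ :=
      fun j hj => (ModuleCat.extendScalars.{u, u, u}
        (algebraMap B (p.ResidueField ⊗[A] B))).map_isZero (hEb j hj)
    have hFf : TermwiseFlat ((ESc (algebraMap B (p.ResidueField ⊗[A] B))).obj E) := fun j =>
      flat_ES (A := B) (B := p.ResidueField ⊗[A] B) (E.X j)
        (by haveI := (hEff j).2; infer_instance)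
    let f₀ : A →ₐ[A] B ⧸ m := Algebra.ofId A (B ⧸ m)
    have hf₀ : ∀ x : A, f₀ x = Ideal.Quotient.mk m (algebraMap A B x) := fun x => rfl
    have hf₁ : p ≤ RingHom.ker f₀ := by
      intro x hx
      rw [RingHom.mem_ker]
      show f₀ x = 0
      rw [hf₀, Ideal.Quotient.eq_zero_iff_mem]
      exact hx
    have hf₂ : p.primeCompl ≤ (IsUnit.submonoid (B ⧸ m)).comap f₀ := by
      intro x hx
      show IsUnit (f₀ x)
      have hne : f₀ x ≠ 0 := by
        rw [hf₀, Ne, Ideal.Quotient.eq_zero_iff_mem]
        exact hx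
      obtain ⟨y, hy⟩ := Ideal.Quotient.exists_inv hne
      exact IsUnit.of_mul_eq_one y hy
    let ψ : (p.ResidueField ⊗[A] B) →ₐ[A] B ⧸ m :=
      Algebra.TensorProduct.lift (Ideal.ResidueField.liftₐ p f₀ hf₁ hf₂)
        (IsScalarTower.toAlgHom A B (B ⧸ m)) (fun _ _ => Commute.all _ _)
    letI : Module (p.ResidueField ⊗[A] B) (B ⧸ m) := Module.compHom (B ⧸ m) ψ.toRingHom
    haveI : IsScalarTower B (p.ResidueField ⊗[A] B) (B ⧸ m) := ⟨fun y x n => by
      show ψ (y • x) * n = y • (ψ x * n)
      have hy : ψ (algebraMap B (p.ResidueField ⊗[A] B) y) = algebraMap B (B ⧸ m) y := by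
        show ψ ((1 : p.ResidueField) ⊗ₜ[A] y) = _
        rw [Algebra.TensorProduct.lift_tmul, map_one, one_mul]
        rfl
      rw [Algebra.smul_def y x, map_mul, hy, Algebra.smul_def y (ψ x * n), mul_assoc]⟩
    have h6 := exactAt_TN_of_hasTorAmplitudeIn' _ b₁ hFb hFf (a - d) b h5
      (ModuleCat.of (p.ResidueField ⊗[A] B) (B ⧸ m)) i hi
    have h7 := function_exact_of_exactAt _ (i - 1) i (i + 1) (by omega) rfl h6
    exact exact_lTensor_of_exact_rTensor_ES (A := B) (B := p.ResidueField ⊗[A] B) (B ⧸ m)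
      (E.d (i - 1) i) (E.d i (i + 1)) h7
  obtain ⟨h1, h2⟩ := perfect_of_exact_mod_maximal E b₁ hEb hEff (a - d) b hq
  exact ⟨isPerfect_of_iso e h1, hasTorAmplitudeIn_of_iso e _ _ h2⟩

end FibreGlobalDim

end Groth.Agent.Lib.DMod_helper6
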