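import Mathlib
import Groth.Prelude.Def_DRing2
import Groth.Prelude.Def_DDual2
import Groth.Prelude.Def_MoreMor
import Groth.Agent.Lib.DMod63_helper6
import Groth.Agent.Lib.GlDim_helper5

/-!
# Derived category toolkit (helper6), part 64: spreading out tor amplitude from a prime to a
principal open, and perfect complexes over regular rings (S6962, S7031, S7069).
-/

set_option autoImplicit false
universe u
open CategoryTheory CategoryTheory.Limits Pretriangulated DerivedCategory ZeroObject
open scoped TensorProduct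
attribute [local instance] HasDerivedCategory.standard

namespace Groth.Agent.Lib.DMod_helper6

open DRing CochainComplex Groth.Agent.ExtendScalarsLib

section CokerES

variable {R B : Type u} [CommRing R] [CommRing B] [Algebra R B]

/-- extension of scalars commutes with cokernels, elementwise form -/
noncomputable def cokerESEquiv {M N : ModuleCat.{u} R} (f : M ⟶ N) :
    (((ES R B).obj N) ⧸ LinearMap.range ((ES R B).map f).hom) ≃ₗ[B]
      B ⊗[R] (N ⧸ LinearMap.range f.hom) :=
  ((ModuleCat.cokernelIsoRangeQuotient ((ES R B).map f)).symm ≪≫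
    (PreservesCokernel.iso (ES R B) f).symm ≪≫
    (ES R B).mapIso (ModuleCat.cokernelIsoRangeQuotient f)).toLinearEquiv ≪≫ₗ
  extendScalarsEquivTensor (S := B) (ModuleCat.of R (N ⧸ LinearMap.range f.hom))

lemma exactAt_ESc_of_exactAt [Module.Flat R B] (K : Cx R) (i : ℤ) (h : K.ExactAt i) :
    (((ES R B).mapHomologicalComplex (ComplexShape.up ℤ)).obj K).ExactAt i := by
  rw [HomologicalComplex.exactAt_iff_isZero_homology] at h ⊢
  exact IsZero.of_iso ((ES R B).map_isZero h) ((K.sc i).mapHomologyIso (ES R B))

end CokerES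

section Spread

variable {R : Type u} [CommRing R]

/-- spreading out a lower bound of the tor amplitude from a prime to a principal open -/
theorem exists_away_hasTorAmplitudeIn (E : Cx R) (b₁ : ℤ) (hEb : VanishesAbove E b₁)
    (hEff : TermwiseFiniteFree E) (c : ℤ) (hex : ∀ i, i ≤ c → E.ExactAt i) (p : Ideal R)
    [p.IsPrime] (b' : ℤ)
    (hp : HasTorAmplitudeIn (Localization.AtPrime p) (c + 1) b'
      (toD (((ES R (Localization.AtPrime p)).mapHomologicalComplex
        (ComplexShape.up ℤ)).obj E))) :
    ∃ g : R, g ∉ p ∧ HasTorAmplitudeIn (Localization.Away g) (c + 1) b₁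
      (toD (((ES R (Localization.Away g)).mapHomologicalComplex (ComplexShape.up ℤ)).obj E)) := by
  have hEpb : VanishesAbove (((ES R (Localization.AtPrime p)).mapHomologicalComplex
      (ComplexShape.up ℤ)).obj E) b₁ := fun i hi =>
    (ES R (Localization.AtPrime p)).map_isZero (hEb i hi)
  have hEpf : TermwiseFlat (((ES R (Localization.AtPrime p)).mapHomologicalComplex
      (ComplexShape.up ℤ)).obj E) := fun i =>
    flat_ES (A := R) (B := Localization.AtPrime p) (E.X i)
      (by haveI := (hEff i).2; infer_instance)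
  have hTN : ∀ N : ModuleCat.{u} (Localization.AtPrime p),
      ((TN N).obj (((ES R (Localization.AtPrime p)).mapHomologicalComplex
        (ComplexShape.up ℤ)).obj E)).ExactAt c := fun N =>
    exactAt_TN_of_hasTorAmplitudeIn _ b₁ hEpb hEpf (c + 1) b' hp N c (by omega)
  have hflat_p : Module.Flat (Localization.AtPrime p)
      (↥((ES R (Localization.AtPrime p)).obj (E.X (c + 1))) ⧸
        LinearMap.range ((ES R (Localization.AtPrime p)).map (E.d c (c + 1))).hom) :=
    flat_coker_of_TN_exact _ c (c + 1) rfl (hEpf (c + 1)) hTN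
  haveI : Module.Finite R (E.X (c + 1)) := (hEff (c + 1)).1
  haveI : Module.Free R (E.X (c + 1)) := (hEff (c + 1)).2
  haveI : Module.Finite R (E.X c) := (hEff c).1
  haveI hCfp : Module.FinitePresentation R
      (E.X (c + 1) ⧸ LinearMap.range (E.d c (c + 1)).hom) :=
    Module.finitePresentation_of_free_of_surjective
      (LinearMap.range (E.d c (c + 1)).hom).mkQ (Submodule.mkQ_surjective _)
      (by rw [Submodule.ker_mkQ, LinearMap.range_eq_map]; exact Module.Finite.fg_top.map _)
  haveI hflat_C : Module.Flat (Localization.AtPrime p)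
      ((Localization.AtPrime p) ⊗[R] (E.X (c + 1) ⧸ LinearMap.range (E.d c (c + 1)).hom)) :=
    Module.Flat.of_linearEquiv
      (cokerESEquiv (B := Localization.AtPrime p) (E.d c (c + 1))).symm
  haveI hfree : Module.Free (Localization.AtPrime p)
      ((Localization.AtPrime p) ⊗[R] (E.X (c + 1) ⧸ LinearMap.range (E.d c (c + 1)).hom)) :=
    Module.free_of_flat_of_isLocalRing
  obtain ⟨g, hg, hgfree, -⟩ := Module.FinitePresentation.exists_free_localizedModule_powers
    p.primeCompl (TensorProduct.mk R (Localization.AtPrime p)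
      (E.X (c + 1) ⧸ LinearMap.range (E.d c (c + 1)).hom) 1) (Localization.AtPrime p)
  refine ⟨g, hg, ?_⟩
  haveI : Module.Flat R (Localization.Away g) := IsLocalization.flat _ (Submonoid.powers g)
  have hEgb : VanishesAbove (((ES R (Localization.Away g)).mapHomologicalComplex
      (ComplexShape.up ℤ)).obj E) b₁ := fun i hi =>
    (ES R (Localization.Away g)).map_isZero (hEb i hi)
  have hEgf : TermwiseFlat (((ES R (Localization.Away g)).mapHomologicalComplex
      (ComplexShape.up ℤ)).obj E) := fun i =>
    flat_ES (A := R) (B := Localization.Away g) (E.X i)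
      (by haveI := (hEff i).2; infer_instance)
  have hexg : ∀ i, i ≤ c → (((ES R (Localization.Away g)).mapHomologicalComplex
      (ComplexShape.up ℤ)).obj E).ExactAt i := fun i hi =>
    exactAt_ESc_of_exactAt E i (hex i hi)
  have hflat_g : Module.Flat (Localization.Away g)
      (↥((ES R (Localization.Away g)).obj (E.X (c + 1))) ⧸
        LinearMap.range ((ES R (Localization.Away g)).map (E.d c (c + 1))).hom) := by
    haveI : Module.Flat (Localization.Away g)
        (LocalizedModule (Submonoid.powers g)
          (E.X (c + 1) ⧸ LinearMap.range (E.d c (c + 1)).hom)) := by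
      haveI : Module.Free (Localization.Away g)
          (LocalizedModule (Submonoid.powers g)
            (E.X (c + 1) ⧸ LinearMap.range (E.d c (c + 1)).hom)) := hgfree
      exact Module.Flat.of_free
    haveI : Module.Flat (Localization.Away g)
        ((Localization.Away g) ⊗[R] (E.X (c + 1) ⧸ LinearMap.range (E.d c (c + 1)).hom)) :=
      Module.Flat.of_linearEquiv
        (LocalizedModule.equivTensorProduct (Submonoid.powers g)
          (E.X (c + 1) ⧸ LinearMap.range (E.d c (c + 1)).hom)).symm
    exact Module.Flat.of_linearEquiv (cokerESEquiv (B := Localization.Away g) (E.d c (c + 1)))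
  obtain ⟨T, π, hπ, hT0, hTf, hTz⟩ := exists_flat_trunc _ c hexg hEgf hflat_g
  refine ⟨T, fun i hi => ?_, hTf, ⟨(asIso (Q.map π)).symm⟩⟩
  rcases hi with hi | hi
  · exact hT0 i (by omega)
  · exact hTz i (hEgb i hi)

/-- perfectness is local for the Zariski topology (complex version) -/
theorem isPerfect_of_forall_prime (E : Cx R)
    (h : ∀ 𝔭 : PrimeSpectrum R, ∃ g : R, g ∉ 𝔭.asIdeal ∧
      IsPerfect (Localization.Away g)
        (toD (((ES R (Localization.Away g)).mapHomologicalComplex
          (ComplexShape.up ℤ)).obj E))) :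
    IsPerfect R (toD E) := by
  let G : Set R := {g | IsPerfect (Localization.Away g)
    (toD (((ES R (Localization.Away g)).mapHomologicalComplex (ComplexShape.up ℤ)).obj E))}
  have hG : Ideal.span G = ⊤ := by
    by_contra hne
    obtain ⟨m, hm, hle⟩ := Ideal.exists_le_maximal _ hne
    obtain ⟨g, hg, hgG⟩ := h ⟨m, hm.isPrime⟩
    exact hg (hle (Ideal.subset_span hgG))
  obtain ⟨s, hsG, hs⟩ := (Ideal.span_eq_top_iff_finite G).1 hG
  let f : Fin s.card → R := fun i => ((s.equivFin.symm i : s) : R)
  have hrange : Set.range f = (s : Set R) := by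
    ext x
    constructor
    · rintro ⟨i, rfl⟩
      exact (s.equivFin.symm i).2
    · intro hx
      exact ⟨s.equivFin ⟨x, hx⟩, by simp [f]⟩
  have hf : Ideal.span (Set.range f) = ⊤ := by rw [hrange]; exact hs
  exact isPerfect_of_localization_away hf E (fun j => hsG (s.equivFin.symm j).2)

end Spread

section Regular

variable {R : Type u} [CommRing R] [IsNoetherianRing R]

/-- over a regular ring, bounded complexes with finite cohomology are perfect -/
theorem isPerfect_of_regular
    (hreg : ∀ p : PrimeSpectrum R, IsRegularLocalRing (Localization.AtPrime p.asIdeal))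
    (K : Dual.D R) (a₀ b₀ : ℤ)
    (hK : ∀ i : ℤ, (i < a₀ ∨ b₀ < i) → Subsingleton (Dual.HD R K i))
    (hfin : ∀ i : ℤ, Module.Finite R (Dual.HD R K i)) : IsPerfect R K := by
  have hpc : IsPseudoCoherent' R K :=
    isPseudoCoherent'_of_homology K ⟨b₀, fun i hi => hK i (Or.inr hi)⟩
      (fun i => (isPseudoCoherentModule'_iff_noeth _).2 (hfin i))
  obtain ⟨E, b₁, hEb, hEff, ⟨e⟩⟩ := hpc
  refine isPerfect_of_iso e (isPerfect_of_forall_prime E (fun 𝔭 => ?_))
  haveI := hreg 𝔭
  obtain ⟨d, hd⟩ := Groth.Agent.GlDim.exists_dim (Localization.AtPrime 𝔭.asIdeal)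
  have hex : ∀ i : ℤ, (i < a₀ ∨ b₀ < i) → E.ExactAt i := fun i hi =>
    (exactAt_iff_subsingleton_HD e i).2 (hK i hi)
  haveI : Module.Flat R (Localization.AtPrime 𝔭.asIdeal) :=
    IsLocalization.flat _ 𝔭.asIdeal.primeCompl
  have hKp : ∀ i : ℤ, (i < a₀ ∨ b₀ < i) →
      Subsingleton (Dual.HD (Localization.AtPrime 𝔭.asIdeal)
        (toD (((ES R (Localization.AtPrime 𝔭.asIdeal)).mapHomologicalComplex
          (ComplexShape.up ℤ)).obj E)) i) := fun i hi =>
    (exactAt_iff_subsingleton_HD (Iso.refl _) i).1 (exactAt_ESc_of_exactAt E i (hex i hi))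
  have hamp := hasTorAmplitudeIn_of_globalDim d
    (fun M => Groth.Agent.GlDim.hasProjectiveDimensionLT_of_regular
      (Localization.AtPrime 𝔭.asIdeal) d hd M) _ a₀ b₀ hKp
  obtain ⟨g, hg, hgamp⟩ := exists_away_hasTorAmplitudeIn E b₁ hEb hEff (a₀ - d - 1)
    (fun i hi => hex i (Or.inl (by omega))) 𝔭.asIdeal b₀ (by rwa [sub_add_cancel])
  refine ⟨g, hg, ?_⟩
  rw [isPerfect_iff_pc_and_finiteTorDim]
  refine ⟨⟨_, b₁, fun i hi => (ES R (Localization.Away g)).map_isZero (hEb i hi),
    fun i => ⟨finite_ES (A := R) (B := Localization.Away g) (E.X i) (hEff i).1,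
      free_ES (A := R) (B := Localization.Away g) (E.X i) (hEff i).2⟩, ⟨Iso.refl _⟩⟩,
    ⟨_, _, hgamp⟩⟩

/-- S7031 -/
theorem isPerfect_iff_bounded_finite_of_regular
    (hreg : ∀ p : PrimeSpectrum R, IsRegularLocalRing (Localization.AtPrime p.asIdeal))
    (K : Dual.D R) :
    IsPerfect R K ↔
      (∃ a b : ℤ, ∀ i : ℤ, (i < a ∨ b < i) → Subsingleton (Dual.HD R K i)) ∧
        ∀ i : ℤ, Module.Finite R (Dual.HD R K i) := by
  constructor
  · intro h
    have hpc := isPseudoCoherent'_of_isPerfect K h
    obtain ⟨E, a, b, hE, -, ⟨e⟩⟩ := h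
    refine ⟨⟨a, b, fun i hi => (exactAt_iff_subsingleton_HD e i).1
      (exactAt_of_isZero_X E i (hE i hi))⟩, fun i => ?_⟩
    exact ((isPseudoCoherent_iff_noeth i K).1 ((isPseudoCoherent'_iff_forall K).1 hpc i)).2 i
      le_rfl
  · rintro ⟨⟨a, b, hab⟩, hfin⟩
    exact isPerfect_of_regular hreg K a b hab hfin

/-- S6962 -/
theorem isPerfectModule_iff_finite_of_regular
    (hreg : ∀ p : PrimeSpectrum R, IsRegularLocalRing (Localization.AtPrime p.asIdeal))
    (M : Type u) [AddCommGroup M] [Module R M] :
    IsPerfectModule R M ↔ Module.Finite R M := by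
  constructor
  · intro h
    exact (isPseudoCoherentModule'_iff_noeth M).1 (isPseudoCoherent'_of_isPerfect _ h)
  · intro hM
    refine isPerfect_of_regular hreg _ 0 0 (fun i hi => ?_) (fun i => ?_)
    · exact ModuleCat.subsingleton_of_isZero (isZero_HD_inD (ModuleCat.of R M) i (by omega))
    · by_cases hi : i = 0
      · subst hi
        exact finite_of_iso (HDinDIso (ModuleCat.of R M)).symm hM
      · haveI := ModuleCat.subsingleton_of_isZero (isZero_HD_inD (ModuleCat.of R M) i hi)
        infer_instance

end Regular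

section RegularHom

/-- S7069 (finiteness of the Krull dimension is not needed) -/
theorem isPerfectHom_of_finiteType_of_isRegularRing (A B : Type u) [CommRing A] [CommRing B]
    [Algebra A B] [IsRegularRing A] [Algebra.FiniteType A B] : MoreMor.IsPerfectHom A B := by
  obtain ⟨n, φ, hφ⟩ := Algebra.FiniteType.iff_quotient_mvPolynomial''.1
    (inferInstance : Algebra.FiniteType A B)
  rw [isPerfectHom_iff]
  refine ⟨n, φ, hφ, ?_⟩
  letI : Algebra (MvPolynomial (Fin n) A) B := φ.toRingHom.toAlgebra
  haveI : IsRegularRing (MvPolynomial (Fin n) A) := inferInstance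
  haveI : Module.Finite (MvPolynomial (Fin n) A) B :=
    Module.Finite.of_surjective (Algebra.linearMap (MvPolynomial (Fin n) A) B) hφ
  exact (isPerfectModule_iff_finite_of_regular
    (fun p => IsRegularRing.isRegularLocalRing_localization p.asIdeal) B).2 inferInstance

end RegularHom

end Groth.Agent.Lib.DMod_helper6
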