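import Mathlib
import Groth.Prelude.Def_DRing2
import Groth.Prelude.Def_DDual2
import Groth.Agent.Lib.DMod64_helper6

/-!
# Derived category toolkit (helper6), part 65: chain level base change along an arbitrary pushout
square of commutative rings, and perfectness over `B` for a flat local homomorphism `A → B` with
regular closed fibre (S6977).
-/

set_option autoImplicit false
universe u
open CategoryTheory CategoryTheory.Limits Pretriangulated DerivedCategory ZeroObject
open scoped TensorProduct ChangeOfRings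
attribute [local instance] HasDerivedCategory.standard

namespace Groth.Agent.Lib.DMod_helper6

open DRing CochainComplex Groth.Agent.ExtendScalarsLib

section PushoutGen

variable (R A R' F : Type u) [CommRing R] [CommRing A] [CommRing R'] [CommRing F]
  [Algebra R A] [Algebra R R'] [Algebra R F] [Algebra A F] [Algebra R' F]
  [IsScalarTower R A F] [IsScalarTower R R' F] [Algebra.IsPushout R R' A F]

/-- `R' ⊗_R res M = res (F ⊗_A M)` for a pushout square `F = R' ⊗_R A`. -/
noncomputable def pushoutEquivGen (M : ModuleCat.{u} A) :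
    ((ES R R').obj ((ModuleCat.restrictScalars.{u} (algebraMap R A)).obj M)) ≃ₗ[R']
      ((ModuleCat.restrictScalars.{u} (algebraMap R' F)).obj
        ((ES A F).obj M)) := by
  letI : Module A ((ModuleCat.restrictScalars.{u} (algebraMap R A)).obj M) :=
    inferInstanceAs (Module A M)
  haveI : IsScalarTower R A ((ModuleCat.restrictScalars.{u} (algebraMap R A)).obj M) :=
    ⟨fun r a m => by
      show ((r • a) • m : M) = (algebraMap R A r) • ((a • m : M))
      rw [Algebra.smul_def, mul_smul]⟩
  exact (extendScalarsEquivTensor (S := R')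
      ((ModuleCat.restrictScalars.{u} (algebraMap R A)).obj M)) ≪≫ₗ
    (Algebra.IsPushout.cancelBaseChange R R' A F
      ((ModuleCat.restrictScalars.{u} (algebraMap R A)).obj M)).symm ≪≫ₗ
    (resLinearEquiv (S := R') (T := F) ((ES A F).obj M) _
      (extendScalarsEquivTensor (S := F) M)).symm

lemma pushoutEquivGen_one_tmul (M : ModuleCat.{u} A) (m : M) :
    pushoutEquivGen R A R' F M ((1 : R') ⊗ₜ[R, algebraMap R R'] m) =
      ((1 : F) ⊗ₜ[A, algebraMap A F] m) := by
  letI : Module A ((ModuleCat.restrictScalars.{u} (algebraMap R A)).obj M) :=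
    inferInstanceAs (Module A M)
  haveI : IsScalarTower R A ((ModuleCat.restrictScalars.{u} (algebraMap R A)).obj M) :=
    ⟨fun r a m => by
      show ((r • a) • m : M) = (algebraMap R A r) • ((a • m : M))
      rw [Algebra.smul_def, mul_smul]⟩
  show (resLinearEquiv (S := R') (T := F) ((ES A F).obj M) _
      (extendScalarsEquivTensor (S := F) M)).symm
    ((Algebra.IsPushout.cancelBaseChange R R' A F
      ((ModuleCat.restrictScalars.{u} (algebraMap R A)).obj M)).symm
      ((extendScalarsEquivTensor (S := R')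
        ((ModuleCat.restrictScalars.{u} (algebraMap R A)).obj M))
        ((1 : R') ⊗ₜ[R, algebraMap R R'] m))) = _
  rw [extendScalarsEquivTensor_tmul, Algebra.IsPushout.cancelBaseChange_symm_tmul, map_one]
  rfl

lemma pushoutEquivGen_naturality {M N : ModuleCat.{u} A} (f : M ⟶ N) :
    (pushoutEquivGen R A R' F M).toModuleIso.hom ≫
        (ModuleCat.restrictScalars.{u} (algebraMap R' F)).map
          ((ES A F).map f) =
      (ES R R').map ((ModuleCat.restrictScalars.{u} (algebraMap R A)).map f) ≫
        (pushoutEquivGen R A R' F N).toModuleIso.hom := by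
  refine ModuleCat.ExtendScalars.hom_ext (fun m => ?_)
  show ((ES A F).map f).hom
      (pushoutEquivGen R A R' F M ((1 : R') ⊗ₜ[R, algebraMap R R'] m)) =
    pushoutEquivGen R A R' F N ((1 : R') ⊗ₜ[R, algebraMap R R'] (f.hom m))
  rw [pushoutEquivGen_one_tmul, pushoutEquivGen_one_tmul]
  rfl

/-- the complex version of `pushoutEquivGen` -/
noncomputable def pushoutCxIsoGen (E : Cx A) :
    (ESc (algebraMap R R')).obj ((restrictCx (algebraMap R A)).obj E) ≅
      (restrictCx (algebraMap R' F)).obj ((ESc (algebraMap A F)).obj E) :=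
  HomologicalComplex.Hom.isoOfComponents (fun i => (pushoutEquivGen R A R' F (E.X i)).toModuleIso)
    (fun i j _ => pushoutEquivGen_naturality R A R' F (E.d i j))

end PushoutGen

section QuotientPushout

attribute [local instance] Algebra.TensorProduct.rightAlgebra in
/-- `B ⧸ J B` is the pushout of `A ⧸ J` and `B` over `A`. -/
theorem isPushout_quotient {A B : Type u} [CommRing A] [CommRing B] [Algebra A B] (J : Ideal A) :
    Algebra.IsPushout A (A ⧸ J) B (B ⧸ J.map (algebraMap A B)) := by
  haveI h : Algebra.IsPushout A (A ⧸ J) B ((A ⧸ J) ⊗[A] B) := TensorProduct.isPushout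
  refine Algebra.IsPushout.of_equiv
    (Algebra.TensorProduct.quotIdealMapEquivQuotTensor B J).symm ?_
  ext x
  show (Algebra.TensorProduct.quotIdealMapEquivQuotTensor B J).symm ((1 : A ⧸ J) ⊗ₜ[A] x) = _
  rw [AlgEquiv.symm_apply_eq]
  exact (Algebra.TensorProduct.quotIdealMapEquivQuotTensor_mk B J x).symm

end QuotientPushout

section LocalRegularFibre

/-- S6977 -/
theorem isPerfect_of_flat_local_regular_fibre {A B : Type u} [CommRing A] [CommRing B]
    [IsLocalRing A] [IsLocalRing B] [Algebra A B] [IsLocalHom (algebraMap A B)] [Module.Flat A B]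
    (d : ℕ)
    [IsRegularLocalRing (B ⧸ (IsLocalRing.maximalIdeal A).map (algebraMap A B))]
    (hd : ringKrullDim (B ⧸ (IsLocalRing.maximalIdeal A).map (algebraMap A B)) = d)
    [HasLBaseChange (IsLocalRing.residue A)] (a b : ℤ) (K : Dual.D B)
    (hK : IsPseudoCoherent' B K)
    (h : ∀ i : ℤ, (i < a ∨ b < i) → Subsingleton (Dual.HD (IsLocalRing.ResidueField A)
      ((LBaseChange (IsLocalRing.residue A)).obj ((restrictD (algebraMap A B)).obj K)) i)) :
    IsPerfect B K ∧ HasTorAmplitudeIn B (a - d) b K := by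
  obtain ⟨E, b₁, hEb, hEff, ⟨e⟩⟩ := hK
  have hresb : VanishesAbove ((restrictCx (algebraMap A B)).obj E) b₁ := fun i hi =>
    (ModuleCat.restrictScalars.{u} (algebraMap A B)).map_isZero (hEb i hi)
  have hresf : TermwiseFlat ((restrictCx (algebraMap A B)).obj E) := fun i =>
    flat_restrictScalars (E.X i) (by haveI := (hEff i).2; infer_instance)
  obtain ⟨eL⟩ := nonempty_lBaseChange_iso_of_flat (IsLocalRing.residue A)
    ((restrictCx (algebraMap A B)).obj E) b₁ hresb hresf
  have iso1 := eL.symm ≪≫ (LBaseChange (IsLocalRing.residue A)).mapIso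
    ((restrictDIso E).symm ≪≫ (restrictD (algebraMap A B)).mapIso e)
  have h2 : ∀ j : ℤ, (j < a ∨ b < j) →
      (((ModuleCat.extendScalars.{u, u, u} (IsLocalRing.residue A)).mapHomologicalComplex
        (ComplexShape.up ℤ)).obj ((restrictCx (algebraMap A B)).obj E)).ExactAt j :=
    fun j hj => (exactAt_iff_subsingleton_HD iso1 j).2 (h j hj)
  have h3 : ∀ j : ℤ, (j < a ∨ b < j) →
      Function.Exact
        ((((restrictCx (algebraMap A B)).obj E).d (j - 1) j).hom.lTensor
          (A ⧸ IsLocalRing.maximalIdeal A))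
        ((((restrictCx (algebraMap A B)).obj E).d j (j + 1)).hom.lTensor
          (A ⧸ IsLocalRing.maximalIdeal A)) := by
    intro j hj
    have h1 := function_exact_of_exactAt _ (j - 1) j (j + 1) (by omega) rfl (h2 j hj)
    exact (exact_ES_map_iff (A := A) (B := IsLocalRing.ResidueField A) _ _).1 h1
  haveI hpo : Algebra.IsPushout A (A ⧸ IsLocalRing.maximalIdeal A) B
      (B ⧸ (IsLocalRing.maximalIdeal A).map (algebraMap A B)) :=
    isPushout_quotient (IsLocalRing.maximalIdeal A)
  have h4 : ∀ j : ℤ, (j < a ∨ b < j) →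
      ((ESc (algebraMap B (B ⧸ (IsLocalRing.maximalIdeal A).map (algebraMap A B)))).obj
        E).ExactAt j := by
    intro j hj
    apply exactAt_of_exactAt_restrictCx
      (algebraMap (A ⧸ IsLocalRing.maximalIdeal A)
        (B ⧸ (IsLocalRing.maximalIdeal A).map (algebraMap A B)))
    refine exactAt_of_iso_toD _ _ (Q.mapIso (pushoutCxIsoGen A B (A ⧸ IsLocalRing.maximalIdeal A)
      (B ⧸ (IsLocalRing.maximalIdeal A).map (algebraMap A B)) E).symm) j ?_
    exact exactAt_of_function_exact _ (j - 1) j (j + 1) (by omega) rfl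
      ((exact_ES_map_iff (A := A) (B := A ⧸ IsLocalRing.maximalIdeal A) _ _).2 (h3 j hj))
  have h5 : HasTorAmplitudeIn (B ⧸ (IsLocalRing.maximalIdeal A).map (algebraMap A B)) (a - d) b
      (toD ((ESc (algebraMap B
        (B ⧸ (IsLocalRing.maximalIdeal A).map (algebraMap A B)))).obj E)) :=
    hasTorAmplitudeIn_of_globalDim d
      (fun M => Groth.Agent.GlDim.hasProjectiveDimensionLT_of_regular
        (B ⧸ (IsLocalRing.maximalIdeal A).map (algebraMap A B)) d hd M) _ a b
      (fun j hj => (exactAt_iff_subsingleton_HD (Iso.refl _) j).1 (h4 j hj))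
  have hFb : VanishesAbove ((ESc (algebraMap B
      (B ⧸ (IsLocalRing.maximalIdeal A).map (algebraMap A B)))).obj E) b₁ :=
    fun j hj => (ModuleCat.extendScalars.{u, u, u} (algebraMap B
      (B ⧸ (IsLocalRing.maximalIdeal A).map (algebraMap A B)))).map_isZero (hEb j hj)
  have hFf : TermwiseFlat ((ESc (algebraMap B
      (B ⧸ (IsLocalRing.maximalIdeal A).map (algebraMap A B)))).obj E) := fun j =>
    flat_ES (A := B) (B := B ⧸ (IsLocalRing.maximalIdeal A).map (algebraMap A B)) (E.X j)
      (by haveI := (hEff j).2; infer_instance)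
  have hq : ∀ (m : Ideal B), m.IsMaximal → ∀ i : ℤ, (i < a - d ∨ b < i) →
      Function.Exact ((E.d (i - 1) i).hom.lTensor (B ⧸ m))
        ((E.d i (i + 1)).hom.lTensor (B ⧸ m)) := by
    intro m hm i hi
    have hIm : (IsLocalRing.maximalIdeal A).map (algebraMap A B) ≤ m := by
      rw [IsLocalRing.eq_maximalIdeal hm]
      exact IsLocalRing.map_maximalIdeal_le (algebraMap A B)
    letI : Algebra (B ⧸ (IsLocalRing.maximalIdeal A).map (algebraMap A B)) (B ⧸ m) :=
      (Ideal.Quotient.factor hIm).toAlgebra
    haveI : IsScalarTower B (B ⧸ (IsLocalRing.maximalIdeal A).map (algebraMap A B)) (B ⧸ m) :=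
      IsScalarTower.of_algebraMap_eq (fun x => rfl)
    have h6 := exactAt_TN_of_hasTorAmplitudeIn' _ b₁ hFb hFf (a - d) b h5
      (ModuleCat.of (B ⧸ (IsLocalRing.maximalIdeal A).map (algebraMap A B)) (B ⧸ m)) i hi
    have h7 := function_exact_of_exactAt _ (i - 1) i (i + 1) (by omega) rfl h6
    exact exact_lTensor_of_exact_rTensor_ES (A := B)
      (B := B ⧸ (IsLocalRing.maximalIdeal A).map (algebraMap A B)) (B ⧸ m)
      (E.d (i - 1) i) (E.d i (i + 1)) h7
  obtain ⟨h1, h2⟩ := perfect_of_exact_mod_maximal E b₁ hEb hEff (a - d) b hq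
  exact ⟨isPerfect_of_iso e h1, hasTorAmplitudeIn_of_iso e _ _ h2⟩

end LocalRegularFibre

end Groth.Agent.Lib.DMod_helper6
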