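import Mathlib
import Groth.Prelude.Def_DRing2
import Groth.Prelude.Def_DDual2
import Groth.Agent.Lib.DMod65_helper6

/-!
# Derived category toolkit (helper6), part 66: injective amplitude (S6965).
Morphisms from modules into K-injective complexes, Baer's criterion for the kernel `Z^b` of a
bounded below complex of injectives, and the characterisation of injective amplitude `[a, b]` by the
vanishing of `Hom(R/I, K[i])`.
-/

set_option autoImplicit false
universe u
open CategoryTheory CategoryTheory.Limits Pretriangulated DerivedCategory ZeroObject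
attribute [local instance] HasDerivedCategory.standard

namespace Groth.Agent.Lib.DMod_helper6

open DRing CochainComplex

variable {A : Type u} [CommRing A]

lemma homotopy_zero_of_Q_map_eq_zero_of_isKInjective {X Y : Cx A} [Y.IsKInjective] (φ : X ⟶ Y)
    (h : Q.map φ = 0) : Nonempty (Homotopy φ 0) := by
  have hinj := (CochainComplex.IsKInjective.Qh_map_bijective
    ((HomotopyCategory.quotient _ _).obj X) Y).injective
  have h1 : Qh.map ((HomotopyCategory.quotient _ _).map φ) =
      Qh.map ((HomotopyCategory.quotient _ _).map (0 : X ⟶ Y)) := by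
    have e1 := (quotientCompQhIso (ModuleCat.{u} A)).hom.naturality φ
    simp only [Functor.comp_map] at e1
    rw [h, comp_zero] at e1
    have h2 : Qh.map ((HomotopyCategory.quotient _ _).map φ) = 0 := by
      rw [← cancel_mono ((quotientCompQhIso (ModuleCat.{u} A)).hom.app Y), e1, zero_comp]
    rw [h2, Functor.map_zero, Functor.map_zero]
  exact ⟨HomotopyCategory.homotopyOfEq _ _ (hinj h1)⟩

lemma exists_lift_of_homotopy (L : Cx A) (c' c : ℤ) (hc' : c' + 1 = c) (M : ModuleCat.{u} A)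
    (g : M ⟶ L.X c) (hg : ∀ j, (ComplexShape.up ℤ).Rel c j → g ≫ L.d c j = 0)
    (H : Homotopy (HomologicalComplex.mkHomFromSingle g hg) 0) :
    ∃ s : M ⟶ L.X c', g = s ≫ L.d c' c := by
  have hc := H.comm c
  rw [dNext_eq H.hom (show (ComplexShape.up ℤ).Rel c (c + 1) from rfl),
    prevD_eq H.hom (show (ComplexShape.up ℤ).Rel c' c from hc'),
    HomologicalComplex.mkHomFromSingle_f, HomologicalComplex.zero_f, add_zero,
    HomologicalComplex.single_obj_d, zero_comp, zero_add] at hc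
  refine ⟨(HomologicalComplex.singleObjXSelf (ComplexShape.up ℤ) c M).inv ≫ H.hom c c', ?_⟩
  rw [Category.assoc, ← hc, ← Category.assoc, Iso.inv_hom_id, Category.id_comp]

lemma Q_map_eq_zero_of_subsingleton_from {P : Cx A} {K : Dual.D A} (e : toD P ≅ K) (c : ℤ)
    (M : ModuleCat.{u} A) (h : Subsingleton (Dual.inD A M ⟶ K⟦c⟧))
    (φ : (HomologicalComplex.single (ModuleCat.{u} A) (ComplexShape.up ℤ) c).obj M ⟶ P) :
    Q.map φ = 0 := by
  have hψ : (toDSingleIso M c (-c) (by omega)).inv ≫ Q.map φ ≫ e.hom = 0 := by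
    apply (CategoryTheory.shiftFunctor (Dual.D A) c).map_injective
    rw [Functor.map_zero]
    have h0 : (shiftFunctorCompIsoId (Dual.D A) (-c) c (by omega)).inv.app (Dual.inD A M) ≫
        ((toDSingleIso M c (-c) (by omega)).inv ≫ Q.map φ ≫ e.hom)⟦c⟧' = 0 :=
      @Subsingleton.elim _ h _ _
    exact (cancel_epi ((shiftFunctorCompIsoId (Dual.D A) (-c) c (by omega)).inv.app
      (Dual.inD A M))).1 (h0.trans comp_zero.symm)
  rw [← cancel_epi (toDSingleIso M c (-c) (by omega)).inv, ← cancel_mono e.hom, Category.assoc,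
    hψ, comp_zero, zero_comp]

/-- `Hom((A/0)[0], K[n]) = 0` implies `H^n(K) = 0`. -/
theorem subsingleton_HD_of_hom_quot_bot (K : Dual.D A) (n : ℤ)
    (h : Subsingleton (Dual.inD A (A ⧸ (⊥ : Ideal A)) ⟶ K⟦n⟧)) :
    Subsingleton (Dual.HD A K n) := by
  let C : Cx A := Q.objPreimage K
  let eC : toD C ≅ K := Q.objObjPreimageIso K
  rw [← exactAt_iff_subsingleton_HD eC n]
  refine exactAt_of_forall C (n - 1) n (n + 1) (by omega) rfl (fun y hy => ?_)
  let M : ModuleCat.{u} A := ModuleCat.of A (A ⧸ (⊥ : Ideal A))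
  let φ₀ : (A ⧸ (⊥ : Ideal A)) →ₗ[A] C.X n :=
    Submodule.liftQ ⊥ (LinearMap.toSpanSingleton A (C.X n) y) bot_le
  have hφ₀ : ∀ j, (ComplexShape.up ℤ).Rel n j →
      (ModuleCat.ofHom φ₀ : M ⟶ C.X n) ≫ C.d n j = 0 := by
    intro j hj
    obtain rfl : n + 1 = j := hj
    apply ModuleCat.hom_ext
    apply LinearMap.ext
    intro x
    obtain ⟨r, rfl⟩ := Submodule.mkQ_surjective (⊥ : Ideal A) x
    show (C.d n (n + 1)).hom (r • y) = 0
    rw [map_smul, hy, smul_zero]
  let P : Cx A := (HomologicalComplex.single (ModuleCat.{u} A) (ComplexShape.up ℤ) n).obj M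
  haveI : P.IsKProjective := isKProjective_of_projective_bounded P n
    (fun j hj => HomologicalComplex.isZero_single_obj_X _ n _ j (by omega)) (fun j => by
      by_cases hj : j = n
      · subst hj
        exact projective_of_iso (HomologicalComplex.singleObjXSelf (ComplexShape.up ℤ) j M).symm
          (Module.Projective.of_equiv (Submodule.quotEquivOfEqBot (⊥ : Ideal A) rfl).symm)
      · obtain ⟨_, hf⟩ := finite_free_of_isZero
          (HomologicalComplex.isZero_single_obj_X (ComplexShape.up ℤ) n M j hj)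
        infer_instance)
  have hQ := Q_map_eq_zero_of_subsingleton_from eC n M h
    (HomologicalComplex.mkHomFromSingle (ModuleCat.ofHom φ₀) hφ₀)
  obtain ⟨H⟩ := homotopy_zero_of_Q_map_eq_zero _ hQ
  obtain ⟨s, hs⟩ := exists_lift_of_homotopy C (n - 1) n (by omega) M _ hφ₀ H
  refine ⟨s.hom (Submodule.Quotient.mk 1), ?_⟩
  have h1 := LinearMap.congr_fun (congrArg ModuleCat.Hom.hom hs) (Submodule.Quotient.mk 1)
  have h2 : φ₀ (Submodule.Quotient.mk 1) = y := by
    show (LinearMap.toSpanSingleton A (C.X n) y) 1 = y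
    rw [LinearMap.toSpanSingleton_apply, one_smul]
  exact h1.symm.trans h2

/-- Baer's criterion for the kernel `Z^b` in a K-injective complex. -/
theorem injective_ker_of_hom_vanishing (L : Cx A) [L.IsKInjective] (b : ℤ)
    (hinj : Module.Injective A (L.X b))
    (hvan : ∀ (I : Ideal A) (f : (HomologicalComplex.single (ModuleCat.{u} A)
      (ComplexShape.up ℤ) (b + 1)).obj (ModuleCat.of A (A ⧸ I)) ⟶ L), Q.map f = 0) :
    Module.Injective A (LinearMap.ker (L.d b (b + 1)).hom) := by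
  apply Module.Baer.injective
  intro I g₀
  obtain ⟨h, hh⟩ := Module.Baer.of_injective hinj I
    ((LinearMap.ker (L.d b (b + 1)).hom).subtype ∘ₗ g₀)
  have hx₀ : ∀ (r : A) (mem : r ∈ I), r • h 1 = (g₀ ⟨r, mem⟩ : L.X b) := fun r mem => by
    have h1 : h r = r • h 1 := by rw [← h.map_smul, smul_eq_mul, mul_one]
    rw [← h1]
    exact hh r mem
  have hz : ∀ r ∈ I, r • (L.d b (b + 1)).hom (h 1) = 0 := fun r mem => by
    rw [← map_smul, hx₀ r mem]
    exact LinearMap.mem_ker.1 (g₀ ⟨r, mem⟩).2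
  let φ₀ : (A ⧸ I) →ₗ[A] L.X (b + 1) :=
    Submodule.liftQ I (LinearMap.toSpanSingleton A (L.X (b + 1)) ((L.d b (b + 1)).hom (h 1)))
      (fun r hr => by
        rw [LinearMap.mem_ker, LinearMap.toSpanSingleton_apply]
        exact hz r hr)
  have hφ₀ : ∀ j, (ComplexShape.up ℤ).Rel (b + 1) j →
      (ModuleCat.ofHom φ₀ : ModuleCat.of A (A ⧸ I) ⟶ L.X (b + 1)) ≫ L.d (b + 1) j = 0 := by
    intro j _
    apply ModuleCat.hom_ext
    apply LinearMap.ext
    intro x
    obtain ⟨r, rfl⟩ := Submodule.mkQ_surjective I x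
    show (L.d (b + 1) j).hom (r • (L.d b (b + 1)).hom (h 1)) = 0
    rw [map_smul]
    have h0 : (L.d (b + 1) j).hom ((L.d b (b + 1)).hom (h 1)) = 0 :=
      LinearMap.congr_fun (congrArg ModuleCat.Hom.hom (L.d_comp_d b (b + 1) j)) (h 1)
    rw [h0, smul_zero]
  obtain ⟨H⟩ := homotopy_zero_of_Q_map_eq_zero_of_isKInjective _
    (hvan I (HomologicalComplex.mkHomFromSingle (ModuleCat.ofHom φ₀) hφ₀))
  obtain ⟨s, hs⟩ := exists_lift_of_homotopy L b (b + 1) rfl _ _ hφ₀ H
  have hs1 : (L.d b (b + 1)).hom (s.hom (Submodule.Quotient.mk 1)) =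
      (L.d b (b + 1)).hom (h 1) := by
    have h1 := LinearMap.congr_fun (congrArg ModuleCat.Hom.hom hs) (Submodule.Quotient.mk 1)
    have h2 : φ₀ (Submodule.Quotient.mk 1) = (L.d b (b + 1)).hom (h 1) := by
      show (LinearMap.toSpanSingleton A (L.X (b + 1)) ((L.d b (b + 1)).hom (h 1))) 1 = _
      rw [LinearMap.toSpanSingleton_apply, one_smul]
    exact h1.symm.trans h2
  have hs2 : ∀ r ∈ I, r • s.hom (Submodule.Quotient.mk 1) = 0 := fun r mem => by
    rw [← map_smul]
    have h0 : r • (Submodule.Quotient.mk 1 : A ⧸ I) = 0 := by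
      rw [← Submodule.Quotient.mk_smul, smul_eq_mul, mul_one]
      exact (Submodule.Quotient.mk_eq_zero I).2 mem
    rw [h0, map_zero]
  have hw : h 1 - s.hom (Submodule.Quotient.mk 1) ∈ LinearMap.ker (L.d b (b + 1)).hom := by
    rw [LinearMap.mem_ker, map_sub, hs1, sub_self]
  refine ⟨LinearMap.toSpanSingleton A _ ⟨_, hw⟩, fun r mem => ?_⟩
  apply Subtype.ext
  rw [LinearMap.toSpanSingleton_apply]
  show r • (h 1 - s.hom (Submodule.Quotient.mk 1)) = (g₀ ⟨r, mem⟩ : L.X b)
  rw [smul_sub, hs2 r mem, sub_zero, hx₀ r mem]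

/-- (3) ⟹ (1) of S6965 -/
theorem hasInjAmplitudeIn_of_hom_quot_vanishing (K : Dual.D A) (a b : ℤ)
    (h3 : ∀ (I : Ideal A) (i : ℤ), (i < a ∨ b < i) →
      Subsingleton (Dual.inD A (A ⧸ I) ⟶ K⟦i⟧)) :
    HasInjAmplitudeIn A a b K := by
  have hH : ∀ i : ℤ, (i < a ∨ b < i) → Subsingleton (Dual.HD A K i) := fun i hi =>
    subsingleton_HD_of_hom_quot_bot K i (h3 ⊥ i hi)
  haveI hge : DerivedCategory.IsGE K a := by
    rw [DerivedCategory.isGE_iff]
    intro i hi
    haveI := hH i (Or.inl hi)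
    exact ModuleCat.isZero_of_subsingleton _
  obtain ⟨L₀, hL₀, ⟨e₀⟩⟩ := DerivedCategory.exists_iso_Q_obj_of_isGE K a
  haveI := hL₀
  obtain ⟨L, i, hi, hLinj, hLge⟩ :=
    CochainComplex.Plus.modelCategoryQuillen.exists_quasiIso_injective L₀ a
  haveI := hi
  haveI := hLge
  haveI := hLinj
  haveI : L.IsKInjective := CochainComplex.isKInjective_of_injective L a
  let e : toD L ≅ K := (asIso (Q.map i)).symm ≪≫ e₀.symm
  have hLmod : ∀ n, Module.Injective A (L.X n) := fun n =>
    Module.injective_module_of_injective_object A (L.X n)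
  have hex : ∀ j, b < j → L.ExactAt j := fun j hj =>
    (exactAt_iff_subsingleton_HD e j).2 (hH j (Or.inr hj))
  obtain ⟨T, ι, hι, hT1, hT2, ⟨hT3⟩⟩ := exists_top_trunc L b hex
  haveI := hι
  have hker : Module.Injective A (LinearMap.ker (L.d b (b + 1)).hom) :=
    injective_ker_of_hom_vanishing L b (hLmod b) (fun I f =>
      Q_map_eq_zero_of_subsingleton_from e (b + 1) _ (h3 I (b + 1) (Or.inr (by omega))) f)
  refine ⟨T, ?_, ?_, ⟨asIso (Q.map ι) ≪≫ e⟩⟩
  · rintro j (hj | hj)
    · rcases lt_trichotomy j b with hjb | hjb | hjb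
      · obtain ⟨e'⟩ := hT2 j hjb
        exact IsZero.of_iso (CochainComplex.isZero_of_isStrictlyGE L a j hj) e'
      · subst hjb
        haveI : Subsingleton (L.X j) :=
          ModuleCat.subsingleton_of_isZero (CochainComplex.isZero_of_isStrictlyGE L a j hj)
        haveI : Subsingleton (LinearMap.ker (L.d j (j + 1)).hom) :=
          ⟨fun x y => Subtype.ext (Subsingleton.elim _ _)⟩
        exact IsZero.of_iso (ModuleCat.isZero_of_subsingleton _) hT3
      · exact hT1 j hjb
    · exact hT1 j hj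
  · intro j
    rcases lt_trichotomy j b with hjb | hjb | hjb
    · obtain ⟨e'⟩ := hT2 j hjb
      exact injective_of_iso e'.symm (hLmod j)
    · subst hjb
      exact injective_of_iso hT3.symm hker
    · exact injective_of_isZero (hT1 j hjb)

/-- (1) ⟹ (2) of S6965 -/
theorem hom_subsingleton_of_hasInjAmplitudeIn (K : Dual.D A) (a b : ℤ)
    (h : HasInjAmplitudeIn A a b K) (N : ModuleCat.{u} A) (i : ℤ) (hi : i < a ∨ b < i) :
    Subsingleton (Dual.inD A N ⟶ K⟦i⟧) := by
  obtain ⟨E, hE, hinj, ⟨e⟩⟩ := h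
  haveI : E.IsKInjective := isKInjective_of_injCls ⟨a, b, hE, hinj⟩
  refine subsingleton_of_forall_eq 0 (fun φ => ?_)
  let iso : K⟦i⟧ ≅ toD (E⟦i⟧) :=
    (CategoryTheory.shiftFunctor (Dual.D A) i).mapIso e.symm ≪≫ ((Q.commShiftIso i).app E).symm
  let iso0 := (singleFunctorIsoCompQ (ModuleCat.{u} A) 0).app N
  obtain ⟨f, hf⟩ := exists_Q_map_eq_of_isKInjective (iso0.inv ≫ φ ≫ iso.hom)
  have hf0 : f = 0 := by
    apply HomologicalComplex.from_single_hom_ext
    exact (hE (0 + i) (by omega)).eq_of_tgt _ _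
  rw [hf0, Functor.map_zero] at hf
  rw [← cancel_epi iso0.inv, ← cancel_mono iso.hom, Category.assoc, ← hf, comp_zero, zero_comp]

end Groth.Agent.Lib.DMod_helper6
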