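import Mathlib
import Groth.Prelude.Def_DRing2
import Groth.Prelude.Def_DDual2
import Groth.Agent.Lib.DMod2_helper6

/-!
# Derived category toolkit (helper6), part 71: Artin–Rees for `Ext` out of a pseudo-coherent
object (S7149).
-/

set_option autoImplicit false
universe u
open CategoryTheory CategoryTheory.Limits DerivedCategory
attribute [local instance] HasDerivedCategory.standard

namespace Groth.Agent.Lib.DMod_helper6

open DRing

variable {A : Type u} [CommRing A]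

/-- linear maps from a finite free module with values in `J • ⊤` lie in `J • ⊤`. -/
lemma linearMap_mem_smul_top_of_forall_mem {P M : Type u} [AddCommGroup P] [Module A P]
    [Module.Finite A P] [Module.Free A P] [AddCommGroup M] [Module A M] (J : Ideal A)
    (ψ : P →ₗ[A] M) (h : ∀ x, ψ x ∈ (J • ⊤ : Submodule A M)) :
    ψ ∈ (J • ⊤ : Submodule A (P →ₗ[A] M)) := by
  classical
  let b := Module.Free.chooseBasis A P
  have hψ : ψ = ∑ i, (b.coord i).smulRight (ψ (b i)) := by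
    apply b.ext
    intro j
    rw [LinearMap.sum_apply, Finset.sum_eq_single j]
    · simp
    · intro i _ hij
      simp [Finsupp.single_apply, hij.symm]
    · intro h; exact absurd (Finset.mem_univ j) h
  rw [hψ]
  refine Submodule.sum_mem _ (fun i _ => ?_)
  let L : M →ₗ[A] (P →ₗ[A] M) :=
    { toFun := fun m => (b.coord i).smulRight m
      map_add' := fun m m' => by ext x; simp [smul_add]
      map_smul' := fun a m => by
        ext x
        simp only [LinearMap.smulRight_apply, LinearMap.smul_apply, RingHom.id_apply]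
        rw [smul_comm] }
  have hL : (J • ⊤ : Submodule A M).map L ≤ J • ⊤ := by
    rw [Submodule.map_smul'']; exact Submodule.smul_mono le_rfl le_top
  exact hL ⟨_, h (b i), rfl⟩

/-- the complex `X[0]`. -/
noncomputable abbrev sCx (X : ModuleCat.{u} A) : Cx A :=
  (CochainComplex.singleFunctor (ModuleCat.{u} A) 0).obj X

noncomputable def evIso (X : ModuleCat.{u} A) (p : ℤ) : ((sCx X)⟦p⟧).X (-p) ≅ X :=
  (show ((sCx X)⟦p⟧).X (-p) ≅ (sCx X).X 0 from
    HomologicalComplex.XIsoOfEq (sCx X) (neg_add_cancel p)) ≪≫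
    HomologicalComplex.singleObjXSelf (ComplexShape.up ℤ) 0 X

noncomputable def evLin (E : Cx A) (X : ModuleCat.{u} A) (p : ℤ) :
    (E ⟶ (sCx X)⟦p⟧) →ₗ[A] (E.X (-p) →ₗ[A] X) where
  toFun f := (f.f (-p) ≫ (evIso X p).hom).hom
  map_add' f g := by
    rw [HomologicalComplex.add_f_apply, Preadditive.add_comp, ModuleCat.hom_add]
  map_smul' a f := by
    rw [HomologicalComplex.smul_f_apply, Linear.smul_comp, ModuleCat.hom_smul]
    rfl

lemma evLin_injective (E : Cx A) (X : ModuleCat.{u} A) (p : ℤ) :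
    Function.Injective (evLin E X p) := by
  rw [injective_iff_map_eq_zero]
  intro f hf
  apply HomologicalComplex.hom_ext
  intro i
  by_cases hi : i = -p
  · subst hi
    have h0 : f.f (-p) ≫ (evIso X p).hom = 0 := ModuleCat.hom_ext hf
    exact (cancel_mono (evIso X p).hom).1 (by rw [h0, HomologicalComplex.zero_f, zero_comp])
  · apply IsZero.eq_of_tgt
    exact HomologicalComplex.isZero_single_obj_X (ComplexShape.up ℤ) 0 X (i + p) (by omega)

lemma evLin_comp (E : Cx A) {X Y : ModuleCat.{u} A} (φ : X ⟶ Y) (p : ℤ) (g : E ⟶ (sCx X)⟦p⟧) :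
    evLin E Y p (g ≫ ((CochainComplex.singleFunctor (ModuleCat.{u} A) 0).map φ)⟦p⟧') =
      φ.hom ∘ₗ evLin E X p g := by
  show ((g ≫ ((CochainComplex.singleFunctor (ModuleCat.{u} A) 0).map φ)⟦p⟧').f (-p) ≫
    (evIso Y p).hom).hom = φ.hom ∘ₗ (g.f (-p) ≫ (evIso X p).hom).hom
  rw [← ModuleCat.hom_comp]
  congr 1
  rw [HomologicalComplex.comp_f, Category.assoc, Category.assoc]
  congr 1
  have h1 : (((CochainComplex.singleFunctor (ModuleCat.{u} A) 0).map φ)⟦p⟧').f (-p) =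
      ((CochainComplex.singleFunctor (ModuleCat.{u} A) 0).map φ).f (-p + p) := rfl
  rw [h1]
  unfold evIso
  simp only [Iso.trans_hom]
  erw [HomologicalComplex.XIsoOfEq_hom_naturality_assoc]
  congr 1

noncomputable def thetaLin {E : Cx A} {K : Dual.D A} (ε : toD E ≅ K) (X : ModuleCat.{u} A) (p : ℤ) :
    (E ⟶ (sCx X)⟦p⟧) →ₗ[A] (K ⟶ (Q.obj (sCx X))⟦p⟧) where
  toFun f := ε.inv ≫ Q.map f ≫ (Q.commShiftIso p).hom.app (sCx X)
  map_add' f g := by simp [Functor.map_add]
  map_smul' a f := by simp [Functor.map_smul]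

lemma thetaLin_surjective {E : Cx A} (hE : pcCls E) {K : Dual.D A} (ε : toD E ≅ K)
    (X : ModuleCat.{u} A) (p : ℤ) (e : K ⟶ (Q.obj (sCx X))⟦p⟧) :
    ∃ f, thetaLin ε X p f = e := by
  haveI := isKProjective_of_pcCls hE
  obtain ⟨f, hf⟩ := exists_Q_map_eq_of_isKProjective
    (ε.hom ≫ e ≫ (Q.commShiftIso p).inv.app (sCx X))
  refine ⟨f, ?_⟩
  show ε.inv ≫ Q.map f ≫ _ = e
  rw [hf]
  simp

lemma thetaLin_comp {E : Cx A} {K : Dual.D A} (ε : toD E ≅ K) {X Y : ModuleCat.{u} A} (φ : X ⟶ Y)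
    (p : ℤ) (g : E ⟶ (sCx X)⟦p⟧) :
    thetaLin ε X p g ≫ (Q.map ((CochainComplex.singleFunctor (ModuleCat.{u} A) 0).map φ))⟦p⟧' =
      thetaLin ε Y p (g ≫ ((CochainComplex.singleFunctor (ModuleCat.{u} A) 0).map φ)⟦p⟧') := by
  show (ε.inv ≫ Q.map g ≫ (Q.commShiftIso p).hom.app (sCx X)) ≫ _ =
    ε.inv ≫ Q.map (g ≫ _) ≫ (Q.commShiftIso p).hom.app (sCx Y)
  have h := (Q.commShiftIso p).hom.naturality
    ((CochainComplex.singleFunctor (ModuleCat.{u} A) 0).map φ)
  simp only [Functor.comp_map] at h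
  rw [Functor.map_comp, Category.assoc, Category.assoc, Category.assoc, h]

/-- Artin–Rees for `Ext^p(K, -)` with `K` pseudo-coherent (S7149). -/
theorem ext_image_mem_pow_smul [IsNoetherianRing A] (I : Ideal A)
    (K : Dual.D A) (hK : DRing.IsPseudoCoherent' A K) (M : Type u) [AddCommGroup M] [Module A M]
    [Module.Finite A M] (p : ℤ) :
    ∃ c : ℕ, ∀ n : ℕ, c ≤ n →
      ∀ e : K ⟶ (Dual.inD A ↥(I ^ n • ⊤ : Submodule A M))⟦p⟧,
        e ≫ ((DerivedCategory.singleFunctor (ModuleCat.{u} A) 0).map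
              (ModuleCat.ofHom (I ^ n • ⊤ : Submodule A M).subtype))⟦p⟧' ∈
          (I ^ (n - c) • ⊤ : Submodule A (K ⟶ (Dual.inD A M)⟦p⟧)) := by
  obtain ⟨E, b, h1, h2, ⟨ε⟩⟩ := hK
  haveI : Module.Finite A (E.X (-p)) := (h2 (-p)).1
  haveI : Module.Free A (E.X (-p)) := (h2 (-p)).2
  haveI : Module.Finite A (E.X (-p) →ₗ[A] M) := inferInstance
  obtain ⟨c, hc⟩ := Ideal.exists_pow_inf_eq_pow_smul I
    (LinearMap.range (evLin E (ModuleCat.of A M) p))
  refine ⟨c, fun n hn e => ?_⟩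
  obtain ⟨g, rfl⟩ := thetaLin_surjective ⟨b, h1, h2⟩ ε
    (ModuleCat.of A ↥(I ^ n • ⊤ : Submodule A M)) p e
  have hcomp := thetaLin_comp ε (ModuleCat.ofHom (I ^ n • ⊤ : Submodule A M).subtype) p g
  refine (congrArg (fun t => t ∈ (I ^ (n - c) • ⊤ :
    Submodule A (K ⟶ (Dual.inD A M)⟦p⟧))) hcomp).mpr ?_
  set f := g ≫ ((CochainComplex.singleFunctor (ModuleCat.{u} A) 0).map
    (ModuleCat.ofHom (I ^ n • ⊤ : Submodule A M).subtype))⟦p⟧' with hf
  have hev : evLin E (ModuleCat.of A M) p f ∈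
      (I ^ n • ⊤ : Submodule A (E.X (-p) →ₗ[A] M)) ⊓
        LinearMap.range (evLin E (ModuleCat.of A M) p) := by
    refine ⟨?_, ⟨f, rfl⟩⟩
    rw [hf, evLin_comp]
    apply linearMap_mem_smul_top_of_forall_mem
    intro x
    exact ((evLin E (ModuleCat.of A ↥(I ^ n • ⊤ : Submodule A M)) p g) x).2
  rw [hc n hn] at hev
  have h3 : (I ^ (n - c) • ((I ^ c • ⊤ : Submodule A (E.X (-p) →ₗ[A] M)) ⊓
      LinearMap.range (evLin E (ModuleCat.of A M) p))) ≤
      (I ^ (n - c) • ⊤ : Submodule A (E ⟶ (sCx (ModuleCat.of A M))⟦p⟧)).map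
        (evLin E (ModuleCat.of A M) p) := by
    rw [Submodule.map_smul'', Submodule.map_top]
    exact Submodule.smul_mono le_rfl inf_le_right
  obtain ⟨f', hf', hff'⟩ := h3 hev
  have hf'f : f' = f := evLin_injective _ _ _ hff'
  rw [hf'f] at hf'
  have h4 : (I ^ (n - c) • ⊤ : Submodule A (E ⟶ (sCx (ModuleCat.of A M))⟦p⟧)).map
      (thetaLin ε (ModuleCat.of A M) p) ≤ I ^ (n - c) • ⊤ := by
    rw [Submodule.map_smul'']; exact Submodule.smul_mono le_rfl le_top
  exact h4 ⟨f, hf', rfl⟩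

end Groth.Agent.Lib.DMod_helper6
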