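import Mathlib
import Groth.Prelude.Def_DRing2
import Groth.Prelude.Def_DDual2
import Groth.Agent.Lib.DMod71_helper6

/-!
# Derived category toolkit (helper6), part 73: the inverse system `Ext^i(K, M/IⁿM)` is essentially
constant when `Ext^i(K, -)` is `I`-power torsion on finite modules (S7164).
-/

set_option autoImplicit false
universe u
open CategoryTheory CategoryTheory.Limits DerivedCategory Pretriangulated
attribute [local instance] HasDerivedCategory.standard

namespace Groth.Agent.Lib.DMod_helper6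

open DRing

section Generic

variable {C : Type*} [Category C] [Preadditive C] [HasZeroObject C] [HasShift C ℤ]
  [∀ n : ℤ, (shiftFunctor C n).Additive] [Pretriangulated C]

lemma coyoneda_exact₂_shift (T : Triangle C) (hT : T ∈ distTriang C) (i : ℤ) {X : C}
    (f : X ⟶ T.obj₂⟦i⟧) (hf : f ≫ T.mor₂⟦i⟧' = 0) : ∃ g : X ⟶ T.obj₁⟦i⟧, f = g ≫ T.mor₁⟦i⟧' := by
  obtain ⟨g, hg⟩ : ∃ g : X ⟶ T.obj₁⟦i⟧, f = g ≫ (i.negOnePow • T.mor₁⟦i⟧') :=
    Triangle.coyoneda_exact₂ _ (Triangle.shift_distinguished T hT i) f (by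
      show f ≫ (i.negOnePow • T.mor₂⟦i⟧') = 0
      rw [Linear.comp_units_smul, hf, smul_zero])
  refine ⟨i.negOnePow • g, ?_⟩
  rw [hg, Linear.comp_units_smul, Linear.units_smul_comp]

lemma coyoneda_exact₃_shift (T : Triangle C) (hT : T ∈ distTriang C) (i : ℤ) {X : C}
    (f : X ⟶ T.obj₃⟦i⟧) (hf : f ≫ T.mor₃⟦i⟧' = 0) : ∃ g : X ⟶ T.obj₂⟦i⟧, f = g ≫ T.mor₂⟦i⟧' := by
  obtain ⟨g, hg⟩ : ∃ g : X ⟶ T.obj₂⟦i⟧, f = g ≫ (i.negOnePow • T.mor₂⟦i⟧') :=
    Triangle.coyoneda_exact₃ _ (Triangle.shift_distinguished T hT i) f (by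
      show f ≫ (i.negOnePow • T.mor₃⟦i⟧' ≫ (shiftFunctorComm C 1 i).hom.app T.obj₁) = 0
      rw [Linear.comp_units_smul, ← Category.assoc, hf, zero_comp, smul_zero])
  refine ⟨i.negOnePow • g, ?_⟩
  rw [hg, Linear.comp_units_smul, Linear.units_smul_comp]

end Generic

variable {A : Type u} [CommRing A]

lemma exists_pow_annihilates (I : Ideal A) (E : Type*) [AddCommGroup E] [Module A E]
    [Module.Finite A E] (h : ∀ e : E, ∃ n : ℕ, ∀ x ∈ I ^ n, x • e = 0) :
    ∃ t : ℕ, ∀ x ∈ I ^ t, ∀ e : E, x • e = 0 := by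
  obtain ⟨r, s, hs⟩ := Module.Finite.exists_fin (R := A) (M := E)
  choose nn hnn using h
  refine ⟨∑ j, nn (s j), fun x hx e => ?_⟩
  have he : e ∈ Submodule.span A (Set.range s) := by rw [hs]; trivial
  induction he using Submodule.span_induction with
  | mem y hy =>
    obtain ⟨j, rfl⟩ := hy
    exact hnn (s j) x (Ideal.pow_le_pow_right
      (Finset.single_le_sum (fun _ _ => Nat.zero_le _) (Finset.mem_univ j)) hx)
  | zero => exact smul_zero x
  | add y z _ _ hy hz => rw [smul_add, hy, hz, add_zero]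
  | smul a y _ hy => rw [smul_comm, hy, smul_zero]

/-- `Ext^p(K, M)` is a finite module for `K` pseudo-coherent, `M` finite over a noetherian ring. -/
theorem hom_finite_of_pseudoCoherent [IsNoetherianRing A] (K : Dual.D A)
    (hK : DRing.IsPseudoCoherent' A K) (M : Type u) [AddCommGroup M] [Module A M]
    [Module.Finite A M] (p : ℤ) : Module.Finite A (K ⟶ (Dual.inD A M)⟦p⟧) := by
  obtain ⟨E, b, h1, h2, ⟨ε⟩⟩ := hK
  haveI : Module.Finite A (E.X (-p)) := (h2 (-p)).1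
  haveI : Module.Free A (E.X (-p)) := (h2 (-p)).2
  haveI : Module.Finite A (E.X (-p) →ₗ[A] M) := inferInstance
  haveI : IsNoetherian A (E.X (-p) →ₗ[A] M) := isNoetherian_of_isNoetherianRing_of_finite A _
  haveI : Module.Finite A (E ⟶ (sCx (ModuleCat.of A M))⟦p⟧) :=
    Module.Finite.of_injective (evLin E (ModuleCat.of A M) p) (evLin_injective _ _ _)
  exact Module.Finite.of_surjective (thetaLin ε (ModuleCat.of A M) p)
    (fun e => thetaLin_surjective ⟨b, h1, h2⟩ ε _ p e)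

theorem key_vanishing [IsNoetherianRing A] (I : Ideal A) (K : Dual.D A)
    (hK : DRing.IsPseudoCoherent' A K) (M' : Type u) [AddCommGroup M'] [Module A M']
    [Module.Finite A M'] (j : ℤ)
    (htors : ∀ e : K ⟶ (Dual.inD A M')⟦j⟧, ∃ n : ℕ, ∀ x ∈ I ^ n, x • e = 0) :
    ∃ n₀ : ℕ, ∀ e : K ⟶ (Dual.inD A ↥(I ^ n₀ • ⊤ : Submodule A M'))⟦j⟧,
      e ≫ ((DerivedCategory.singleFunctor (ModuleCat.{u} A) 0).map
        (ModuleCat.ofHom (I ^ n₀ • ⊤ : Submodule A M').subtype))⟦j⟧' = 0 := by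
  haveI : Module.Finite A (K ⟶ (Dual.inD A M')⟦j⟧) := hom_finite_of_pseudoCoherent K hK M' j
  obtain ⟨t, ht⟩ := exists_pow_annihilates I (K ⟶ (Dual.inD A M')⟦j⟧) htors
  obtain ⟨c, hc⟩ := ext_image_mem_pow_smul I K hK M' j
  refine ⟨c + t, fun e => ?_⟩
  have h1 := hc (c + t) (by omega) e
  rw [Nat.add_sub_cancel_left] at h1
  have h2 : (I ^ t • ⊤ : Submodule A (K ⟶ (Dual.inD A M')⟦j⟧)) = ⊥ := by
    rw [eq_bot_iff]
    apply Submodule.smul_le.2
    intro x hx e _
    rw [ht x hx e]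
    exact Submodule.zero_mem _
  rw [h2] at h1
  exact (Submodule.mem_bot A).1 h1

/-- the short complex `0 → N → M → M/N → 0`. -/
noncomputable abbrev subSC {M : Type u} [AddCommGroup M] [Module A M] (N : Submodule A M) :
    ShortComplex (ModuleCat.{u} A) :=
  ShortComplex.mk (ModuleCat.ofHom N.subtype) (ModuleCat.ofHom N.mkQ)
    (by ext x; exact (Submodule.Quotient.mk_eq_zero N).2 x.2)

lemma subSC_shortExact {M : Type u} [AddCommGroup M] [Module A M] (N : Submodule A M) :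
    (subSC N).ShortExact := by
  refine ShortComplex.ShortExact.mk' ?_ ?_ ?_
  · rw [ShortComplex.moduleCat_exact_iff_range_eq_ker]
    simp
  · exact (ModuleCat.mono_iff_injective _).2 (Submodule.injective_subtype _)
  · exact (ModuleCat.epi_iff_surjective _).2 (Submodule.mkQ_surjective _)

noncomputable def subSCMap {M : Type u} [AddCommGroup M] [Module A M] {N' N : Submodule A M}
    (h : N' ≤ N) : subSC N' ⟶ subSC N :=
  ShortComplex.homMk (ModuleCat.ofHom (Submodule.inclusion h)) (𝟙 _)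
    (ModuleCat.ofHom (Submodule.mapQ N' N LinearMap.id h))
    (by ext x; rfl) (by ext x; rfl)

theorem ext_essentially_constant [IsNoetherianRing A]
    (I : Ideal A) (K : Dual.D A) (hK : DRing.IsPseudoCoherent' A K) (a : ℤ)
    (htors : ∀ (M : Type u) [AddCommGroup M] [Module A M], Module.Finite A M → ∀ i : ℤ, a ≤ i →
      ∀ e : K ⟶ (Dual.inD A M)⟦i⟧, ∃ n : ℕ, ∀ x ∈ I ^ n, x • e = 0)
    (M : Type u) [AddCommGroup M] [Module A M] [Module.Finite A M] (i : ℤ) (hi : a ≤ i) :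
    (∃ m : ℕ, Function.Injective (fun e : K ⟶ (Dual.inD A M)⟦i⟧ =>
      e ≫ ((DerivedCategory.singleFunctor (ModuleCat.{u} A) 0).map
        (ModuleCat.ofHom (I ^ m • ⊤ : Submodule A M).mkQ))⟦i⟧')) ∧
      ∀ n : ℕ, ∃ (m' : ℕ) (hnm : n ≤ m'),
        Set.range (fun e : K ⟶ (Dual.inD A (M ⧸ (I ^ m' • ⊤ : Submodule A M)))⟦i⟧ =>
          e ≫ ((DerivedCategory.singleFunctor (ModuleCat.{u} A) 0).map (ModuleCat.ofHom
            (Submodule.mapQ (I ^ m' • ⊤ : Submodule A M) (I ^ n • ⊤ : Submodule A M)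
              (LinearMap.id : M →ₗ[A] M)
              (Submodule.smul_mono_left (Ideal.pow_le_pow_right hnm)))))⟦i⟧') ⊆
        Set.range (fun e : K ⟶ (Dual.inD A M)⟦i⟧ =>
          e ≫ ((DerivedCategory.singleFunctor (ModuleCat.{u} A) 0).map
            (ModuleCat.ofHom (I ^ n • ⊤ : Submodule A M).mkQ))⟦i⟧') := by
  haveI : IsNoetherian A M := isNoetherian_of_isNoetherianRing_of_finite A M
  constructor
  · obtain ⟨m, hm⟩ := key_vanishing I K hK M i (htors M inferInstance i hi)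
    refine ⟨m, fun e₁ e₂ h => ?_⟩
    have h0 : (e₁ - e₂) ≫ ((DerivedCategory.singleFunctor (ModuleCat.{u} A) 0).map
        (ModuleCat.ofHom (I ^ m • ⊤ : Submodule A M).mkQ))⟦i⟧' = 0 := by
      rw [Preadditive.sub_comp]; exact sub_eq_zero.2 h
    obtain ⟨g, hg⟩ : ∃ g : K ⟶ (Dual.inD A ↥(I ^ m • ⊤ : Submodule A M))⟦i⟧,
        e₁ - e₂ = g ≫ ((DerivedCategory.singleFunctor (ModuleCat.{u} A) 0).map
        (ModuleCat.ofHom (I ^ m • ⊤ : Submodule A M).subtype))⟦i⟧' :=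
      coyoneda_exact₂_shift _
        (subSC_shortExact (I ^ m • ⊤ : Submodule A M)).singleTriangle_distinguished i (e₁ - e₂) h0
    rw [hm g] at hg
    exact sub_eq_zero.1 hg
  · intro n
    haveI : Module.Finite A ↥(I ^ n • ⊤ : Submodule A M) :=
      Module.Finite.iff_fg.2 (IsNoetherian.noetherian _)
    obtain ⟨n₀, hn₀⟩ := key_vanishing I K hK ↥(I ^ n • ⊤ : Submodule A M) (i + 1)
      (htors ↥(I ^ n • ⊤ : Submodule A M) inferInstance (i + 1) (by omega))
    have hnm : n ≤ n₀ + n := by omega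
    refine ⟨n₀ + n, hnm, ?_⟩
    rintro _ ⟨y, rfl⟩
    have hle : (I ^ (n₀ + n) • ⊤ : Submodule A M) ≤ I ^ n • ⊤ :=
      Submodule.smul_mono_left (Ideal.pow_le_pow_right hnm)
    have hSn := subSC_shortExact (I ^ n • ⊤ : Submodule A M)
    have hSm := subSC_shortExact (I ^ (n₀ + n) • ⊤ : Submodule A M)
    have comm₃ : hSm.singleδ ≫ ((DerivedCategory.singleFunctor (ModuleCat.{u} A) 0).map
        (ModuleCat.ofHom (Submodule.inclusion hle)))⟦(1 : ℤ)⟧' =
        (DerivedCategory.singleFunctor (ModuleCat.{u} A) 0).map (ModuleCat.ofHom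
          (Submodule.mapQ (I ^ (n₀ + n) • ⊤ : Submodule A M) (I ^ n • ⊤ : Submodule A M)
            (LinearMap.id : M →ₗ[A] M) hle)) ≫ hSn.singleδ :=
      (ShortComplex.ShortExact.singleTriangle.map hSm hSn (subSCMap hle)).comm₃
    -- the inclusion factors through `I^n₀ (IⁿM)`
    have hmem : ∀ x : ↥(I ^ (n₀ + n) • ⊤ : Submodule A M), Submodule.inclusion hle x ∈
        (I ^ n₀ • ⊤ : Submodule A ↥(I ^ n • ⊤ : Submodule A M)) := by
      intro x
      have h1 : (I ^ n₀ • ⊤ : Submodule A ↥(I ^ n • ⊤ : Submodule A M)).map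
          (I ^ n • ⊤ : Submodule A M).subtype = I ^ (n₀ + n) • ⊤ := by
        rw [Submodule.map_smul'', Submodule.map_top, Submodule.range_subtype, pow_add,
          Submodule.mul_smul]
      have h2 : (x : M) ∈ (I ^ n₀ • ⊤ : Submodule A ↥(I ^ n • ⊤ : Submodule A M)).map
          (I ^ n • ⊤ : Submodule A M).subtype := by rw [h1]; exact x.2
      obtain ⟨y, hy, hyx⟩ := h2
      have : y = Submodule.inclusion hle x := Subtype.ext hyx
      rw [← this]; exact hy
    let β : ↥(I ^ (n₀ + n) • ⊤ : Submodule A M) →ₗ[A]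
        ↥(I ^ n₀ • ⊤ : Submodule A ↥(I ^ n • ⊤ : Submodule A M)) :=
      LinearMap.codRestrict _ (Submodule.inclusion hle) hmem
    have hβ : ModuleCat.ofHom β ≫
        ModuleCat.ofHom (I ^ n₀ • ⊤ : Submodule A ↥(I ^ n • ⊤ : Submodule A M)).subtype =
        ModuleCat.ofHom (Submodule.inclusion hle) := by
      ext x; rfl
    let α := shiftFunctorAdd' (DerivedCategory (ModuleCat.{u} A)) 1 i (i + 1) (by omega)
    have hnat := α.hom.naturality ((DerivedCategory.singleFunctor (ModuleCat.{u} A) 0).map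
      (ModuleCat.ofHom (I ^ n₀ • ⊤ : Submodule A ↥(I ^ n • ⊤ : Submodule A M)).subtype))
    dsimp only [Functor.comp_map, Functor.comp_obj] at hnat
    have hw := hn₀ ((y ≫ hSm.singleδ⟦i⟧' ≫
      (((DerivedCategory.singleFunctor (ModuleCat.{u} A) 0).map
        (ModuleCat.ofHom β))⟦(1 : ℤ)⟧')⟦i⟧') ≫ α.inv.app _)
    have hδ : (y ≫ ((DerivedCategory.singleFunctor (ModuleCat.{u} A) 0).map (ModuleCat.ofHom
          (Submodule.mapQ (I ^ (n₀ + n) • ⊤ : Submodule A M) (I ^ n • ⊤ : Submodule A M)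
            (LinearMap.id : M →ₗ[A] M) hle)))⟦i⟧') ≫ hSn.singleδ⟦i⟧' = 0 := by
      calc (y ≫ ((DerivedCategory.singleFunctor (ModuleCat.{u} A) 0).map (ModuleCat.ofHom
              (Submodule.mapQ (I ^ (n₀ + n) • ⊤ : Submodule A M) (I ^ n • ⊤ : Submodule A M)
              (LinearMap.id : M →ₗ[A] M) hle)))⟦i⟧') ≫ hSn.singleδ⟦i⟧'
          = y ≫ ((DerivedCategory.singleFunctor (ModuleCat.{u} A) 0).map (ModuleCat.ofHom
              (Submodule.mapQ (I ^ (n₀ + n) • ⊤ : Submodule A M) (I ^ n • ⊤ : Submodule A M)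
              (LinearMap.id : M →ₗ[A] M) hle)) ≫ hSn.singleδ)⟦i⟧' := by
            simp only [Functor.map_comp, Category.assoc]
        _ = y ≫ (hSm.singleδ ≫ ((DerivedCategory.singleFunctor (ModuleCat.{u} A) 0).map
              (ModuleCat.ofHom (Submodule.inclusion hle)))⟦(1 : ℤ)⟧')⟦i⟧' := by rw [comm₃]
        _ = y ≫ (hSm.singleδ ≫ ((DerivedCategory.singleFunctor (ModuleCat.{u} A) 0).map
              (ModuleCat.ofHom β ≫ ModuleCat.ofHom
                (I ^ n₀ • ⊤ : Submodule A ↥(I ^ n • ⊤ : Submodule A M)).subtype))⟦(1 : ℤ)⟧')⟦i⟧' := by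
            rw [hβ]
        _ = ((y ≫ hSm.singleδ⟦i⟧' ≫ (((DerivedCategory.singleFunctor (ModuleCat.{u} A) 0).map
              (ModuleCat.ofHom β))⟦(1 : ℤ)⟧')⟦i⟧') ≫ α.inv.app _) ≫ (α.hom.app _ ≫
              (((DerivedCategory.singleFunctor (ModuleCat.{u} A) 0).map (ModuleCat.ofHom
                (I ^ n₀ • ⊤ : Submodule A ↥(I ^ n • ⊤ : Submodule A M)).subtype))⟦(1 : ℤ)⟧')⟦i⟧') := by
            simp only [Functor.map_comp, Category.assoc, Iso.inv_hom_id_app_assoc]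
        _ = ((y ≫ hSm.singleδ⟦i⟧' ≫ (((DerivedCategory.singleFunctor (ModuleCat.{u} A) 0).map
              (ModuleCat.ofHom β))⟦(1 : ℤ)⟧')⟦i⟧') ≫ α.inv.app _) ≫
              (((DerivedCategory.singleFunctor (ModuleCat.{u} A) 0).map (ModuleCat.ofHom
                (I ^ n₀ • ⊤ : Submodule A ↥(I ^ n • ⊤ : Submodule A M)).subtype))⟦i + 1⟧' ≫
                α.hom.app _) := by rw [hnat]
        _ = 0 := by rw [← Category.assoc, hw, zero_comp]
    obtain ⟨g, hg⟩ : ∃ g : K ⟶ (Dual.inD A M)⟦i⟧,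
        y ≫ ((DerivedCategory.singleFunctor (ModuleCat.{u} A) 0).map (ModuleCat.ofHom
          (Submodule.mapQ (I ^ (n₀ + n) • ⊤ : Submodule A M) (I ^ n • ⊤ : Submodule A M)
            (LinearMap.id : M →ₗ[A] M) hle)))⟦i⟧' =
        g ≫ ((DerivedCategory.singleFunctor (ModuleCat.{u} A) 0).map
            (ModuleCat.ofHom (I ^ n • ⊤ : Submodule A M).mkQ))⟦i⟧' :=
      coyoneda_exact₃_shift _ hSn.singleTriangle_distinguished i _ hδ
    exact ⟨g, hg.symm⟩

end Groth.Agent.Lib.DMod_helper6
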