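import Mathlib
import Groth.Prelude.Def_DRing2
import Groth.Prelude.Def_DDual2
import Groth.Agent.Lib.DMod73_helper6
import Groth.Agent.Lib.DMod21_helper6
import Groth.Agent.Lib.DMod5_helper6
import Groth.Agent.Lib.DMod25_helper6
import Groth.Agent.Lib.DerivedTrunc_helper2

/-!
# Derived category toolkit (helper6), part 74: finiteness of `Ext^i(K, L)` for `K`, `L` with finite
cohomology and `L` of finite injective dimension (S1746).
-/

set_option autoImplicit false
universe u
open CategoryTheory CategoryTheory.Limits DerivedCategory Pretriangulated ZeroObject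
attribute [local instance] HasDerivedCategory.standard

namespace Groth.Agent.Lib.DMod_helper6

open DRing Groth.Agent.Lib.DerivedTrunc_helper2

variable {A : Type u} [CommRing A]

/-- morphisms from an object of `D^{≥ m}` to a shift of an object of injective amplitude `[a, b]`
vanish when `b - i < m`. -/
lemma hom_eq_zero_of_isGE_of_hasInjAmplitudeIn (L : Dual.D A) (a b : ℤ)
    (h : HasInjAmplitudeIn A a b L) (X : Dual.D A) (m i : ℤ) [DerivedCategory.IsGE X m]
    (hm : b - i < m) (φ : X ⟶ L⟦i⟧) : φ = 0 := by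
  obtain ⟨E, hE, hinj, ⟨e⟩⟩ := h
  haveI : E.IsKInjective := isKInjective_of_injCls ⟨a, b, hE, hinj⟩
  obtain ⟨X', hX', ⟨eX⟩⟩ := DerivedCategory.exists_iso_Q_obj_of_isGE X m
  haveI := hX'
  let iso : L⟦i⟧ ≅ toD (E⟦i⟧) :=
    (CategoryTheory.shiftFunctor (Dual.D A) i).mapIso e.symm ≪≫ ((Q.commShiftIso i).app E).symm
  obtain ⟨f, hf⟩ := exists_Q_map_eq_of_isKInjective (eX.inv ≫ φ ≫ iso.hom)
  have hf0 : f = 0 := by
    apply HomologicalComplex.hom_ext
    intro j
    by_cases hj : j < m
    · exact (CochainComplex.isZero_of_isStrictlyGE X' m j hj).eq_of_src _ _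
    · exact (hE (j + i) (Or.inr (by omega))).eq_of_tgt _ _
  rw [hf0, Functor.map_zero] at hf
  rw [← cancel_epi eX.inv, ← cancel_mono iso.hom, Category.assoc, ← hf, comp_zero, zero_comp]

/-- `Hom(K, L[i])` is a noetherian module for all `i`. -/
def NoethHom (K : Dual.D A) : ObjectProperty (Dual.D A) :=
  fun L => ∀ i : ℤ, IsNoetherian A (K ⟶ L⟦i⟧)

instance noethHom_isClosedUnderIsomorphisms (K : Dual.D A) :
    (NoethHom K).IsClosedUnderIsomorphisms where
  of_iso {L L'} e h i := by
    haveI := h i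
    exact isNoetherian_of_linearEquiv (Linear.homCongr A (Iso.refl K)
      ((CategoryTheory.shiftFunctor (Dual.D A) i).mapIso e))

instance noethHom_isTriangulated (K : Dual.D A) : (NoethHom K).IsTriangulated := by
  haveI : (NoethHom K).ContainsZero := by
    refine ⟨⟨0, isZero_zero _, fun n => ?_⟩⟩
    haveI : Subsingleton (K ⟶ (0 : Dual.D A)⟦n⟧) :=
      ⟨fun g g' => ((CategoryTheory.shiftFunctor (Dual.D A) n).map_isZero
        (isZero_zero _)).eq_of_tgt _ _⟩
    infer_instance
  haveI : (NoethHom K).IsStableUnderShift ℤ := by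
    refine ⟨fun a => ⟨?_⟩⟩
    intro L hL
    show NoethHom K (L⟦a⟧)
    intro n
    haveI := hL (a + n)
    exact isNoetherian_of_linearEquiv (Linear.homCongr A (Iso.refl K)
      ((shiftFunctorAdd' (Dual.D A) a n (a + n) rfl).app L))
  haveI : (NoethHom K).IsTriangulatedClosed₂ := by
    refine ObjectProperty.IsTriangulatedClosed₂.mk' ?_
    intro T hT h1 h3 n
    haveI := h1 n
    haveI := h3 n
    refine isNoetherian_of_range_eq_ker (Linear.rightComp A K (T.mor₁⟦n⟧'))
      (Linear.rightComp A K (T.mor₂⟦n⟧')) ?_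
    ext g
    constructor
    · rintro ⟨g', rfl⟩
      show (g' ≫ T.mor₁⟦n⟧') ≫ T.mor₂⟦n⟧' = 0
      rw [Category.assoc, ← Functor.map_comp, comp_distTriang_mor_zero₁₂ _ hT, Functor.map_zero,
        comp_zero]
    · intro hg
      obtain ⟨g', hg'⟩ := coyoneda_exact₂_shift T hT n g hg
      exact ⟨g', hg'.symm⟩
  exact {}

instance finite_isClosedUnderIsomorphisms :
    ObjectProperty.IsClosedUnderIsomorphisms (fun Y : ModuleCat.{u} A => Module.Finite A Y) where
  of_iso {Y Y'} e h := by
    haveI := h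
    exact Module.Finite.equiv e.toLinearEquiv

/-- `Ext^i(K, L)` is noetherian for `K` pseudo-coherent and `L` bounded with finite cohomology. -/
theorem noethHom_of_pseudoCoherent [IsNoetherianRing A] (K : Dual.D A)
    (hK : IsPseudoCoherent' A K) (L : Dual.D A) (a : ℤ) (n : ℕ)
    (hb : ∀ i : ℤ, i < a ∨ a + n < i → IsZero ((homologyFunctor (ModuleCat.{u} A) i).obj L))
    (hL : ∀ i : ℤ, Module.Finite A (Dual.HD A L i)) : NoethHom K L := by
  refine devissage (fun Y : ModuleCat.{u} A => Module.Finite A Y) (NoethHom K) ?_ n a L hb hL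
  intro Y hY i
  haveI : Module.Finite A Y := hY
  haveI : Module.Finite A (K ⟶ (Dual.inD A Y)⟦i⟧) := hom_finite_of_pseudoCoherent K hK Y i
  exact isNoetherian_of_isNoetherianRing_of_finite A (K ⟶ (Dual.inD A Y)⟦i⟧)

/-- S1746. -/
theorem hom_finite_of_finiteInjDim [IsNoetherianRing A] (K L : Dual.D A)
    (hK : ∀ i : ℤ, Module.Finite A (Dual.HD A K i))
    (hL : ∀ i : ℤ, Module.Finite A (Dual.HD A L i)) (hLi : HasFiniteInjDim A L) (i : ℤ) :
    Module.Finite A (K ⟶ L⟦i⟧) := by
  obtain ⟨a, b, hab⟩ := hLi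
  -- `L` is bounded
  have hLb : ∀ j : ℤ, (j < a ∨ b < j) →
      IsZero ((homologyFunctor (ModuleCat.{u} A) j).obj L) := by
    intro j hj
    obtain ⟨E, hE, -, ⟨e⟩⟩ := hab
    have hex : E.ExactAt j := ShortComplex.exact_of_isZero_X₂ _ (hE j hj)
    haveI := (exactAt_iff_subsingleton_HD e j).1 hex
    exact ModuleCat.isZero_of_subsingleton _
  have hLb' : ∀ j : ℤ, j < a ∨ a + ((b - a).toNat : ℕ) < j →
      IsZero ((homologyFunctor (ModuleCat.{u} A) j).obj L) := by
    intro j hj
    by_cases hab' : a ≤ b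
    · apply hLb j
      rcases hj with hj | hj
      · exact Or.inl hj
      · right
        have : ((b - a).toNat : ℤ) = b - a := Int.toNat_of_nonneg (by omega)
        omega
    · apply hLb j
      by_cases h1 : j < a
      · exact Or.inl h1
      · exact Or.inr (by omega)
  set c := b - i with hc
  -- the truncation of `K`
  have hK'fin : ∀ j : ℤ, Module.Finite A (Dual.HD A (((tt (ModuleCat.{u} A)).truncLE c).obj K) j) := by
    intro j
    by_cases hj : j ≤ c
    · haveI := isIso_homology_map_truncLEι K c j hj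
      haveI := hK j
      have e : (homologyFunctor (ModuleCat.{u} A) j).obj (((tt (ModuleCat.{u} A)).truncLE c).obj K) ≅
          (homologyFunctor (ModuleCat.{u} A) j).obj K :=
        asIso ((homologyFunctor (ModuleCat.{u} A) j).map
          (((tt (ModuleCat.{u} A)).truncLEι c).app K))
      exact Module.Finite.equiv e.symm.toLinearEquiv
    · haveI := ModuleCat.subsingleton_of_isZero (isZero_homology_truncLE K c j (by omega))
      infer_instance
  have hK' : IsPseudoCoherent' A (((tt (ModuleCat.{u} A)).truncLE c).obj K) := by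
    refine isPseudoCoherent'_of_homology _ ⟨c, fun j hj => ?_⟩ (fun j => ?_)
    · exact ModuleCat.subsingleton_of_isZero (isZero_homology_truncLE K c j hj)
    · haveI := hK'fin j
      exact isPseudoCoherentModule'_of_finite _
  haveI : IsNoetherian A ((((tt (ModuleCat.{u} A)).truncLE c).obj K) ⟶ L⟦i⟧) :=
    noethHom_of_pseudoCoherent _ hK' L a (b - a).toNat hLb' hL i
  refine Module.Finite.of_injective
    (Linear.leftComp A (L⟦i⟧) (((tt (ModuleCat.{u} A)).truncLEι c).app K)) ?_
  rw [injective_iff_map_eq_zero]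
  intro φ hφ
  have hφ' : ((tt (ModuleCat.{u} A)).truncLEι c).app K ≫ φ = 0 := hφ
  obtain ⟨ψ, hψ⟩ : ∃ ψ : ((tt (ModuleCat.{u} A)).truncGT c).obj K ⟶ L⟦i⟧,
      φ = ((tt (ModuleCat.{u} A)).truncGTπ c).app K ≫ ψ :=
    Triangle.yoneda_exact₂ _
      ((tt (ModuleCat.{u} A)).triangleLEGT_distinguished c K) φ hφ'
  have hψ0 : ψ = 0 :=
    hom_eq_zero_of_isGE_of_hasInjAmplitudeIn L a b hab _ (c + 1) i (by omega) ψ
  rw [hψ, hψ0]
  exact comp_zero

end Groth.Agent.Lib.DMod_helper6
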