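import Mathlib
import Groth.Prelude.Def_DRing2
import Groth.Prelude.Def_DDual2
import Groth.Agent.Lib.DMod48_helper6
import Groth.Agent.Lib.DMod53_helper6
import Groth.Agent.Lib.DMod22_helper6
import Groth.Agent.Lib.DMod25_helper6

/-!
# Derived category toolkit (helper6), part 78: localization of `Hom` in the derived category.

For a localization `B = S⁻¹A`, a pseudo-coherent object `K` and a bounded below object `L` of
`D(A)`, the map `Hom(K, L) → Hom(K_B, L_B)` is a localization at `S`, in elementwise form: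
every morphism `K_B → L_B` becomes, after multiplication by some `s ∈ S`, the base change of a
morphism `K → L`, and a morphism `K → L` whose base change vanishes is killed by some `s ∈ S`.
The proof is at the level of the cochain groups `Hom^n(P, E)`.
-/

set_option autoImplicit false
universe u
open CategoryTheory CategoryTheory.Limits DerivedCategory
open scoped TensorProduct ChangeOfRings
attribute [local instance] HasDerivedCategory.standard

namespace Groth.Agent.Lib.DMod_helper6

open DRing Groth.Agent.ExtendScalarsLib CochainComplex.HomComplex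

section ModuleLevel

variable {A B : Type u} [CommRing A] [CommRing B] [Algebra A B]

/-- `m ↦ γ (1 ⊗ m)` as an `A`-linear map into the honest tensor product -/
noncomputable def flatMap {M N : ModuleCat.{u} A} (γ : (ES A B).obj M ⟶ (ES A B).obj N) :
    M →ₗ[A] B ⊗[A] N :=
  ((extendScalarsEquivTensor (S := B) N).toLinearMap ∘ₗ γ.hom ∘ₗ
    (extendScalarsEquivTensor (S := B) M).symm.toLinearMap).restrictScalars A ∘ₗ
    TensorProduct.mk A B M 1

lemma flatMap_apply {M N : ModuleCat.{u} A} (γ : (ES A B).obj M ⟶ (ES A B).obj N) (m : M) :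
    flatMap γ m = extendScalarsEquivTensor (S := B) N
      (γ.hom ((1 : B) ⊗ₜ[A,algebraMap A B] m)) := by
  have h1 : (extendScalarsEquivTensor (S := B) M).symm ((1 : B) ⊗ₜ[A] m) =
      (1 : B) ⊗ₜ[A,algebraMap A B] m := by
    rw [LinearEquiv.symm_apply_eq]
    exact (extendScalarsEquivTensor_tmul (S := B) M 1 m).symm
  show extendScalarsEquivTensor (S := B) N (γ.hom ((extendScalarsEquivTensor (S := B) M).symm
    ((1 : B) ⊗ₜ[A] m))) = _
  rw [h1]
  rfl

/-- semilinearity of extension of scalars on morphisms -/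
lemma ES_map_smul {M N : ModuleCat.{u} A} (a : A) (h : M ⟶ N) :
    (ES A B).map (a • h) = algebraMap A B a • (ES A B).map h := by
  apply ModuleCat.hom_ext
  apply LinearMap.ext
  intro x
  apply (extendScalarsEquivTensor (S := B) N).injective
  rw [ES_map_comm]
  have h2 : ((algebraMap A B a • (ES A B).map h).hom x) =
      algebraMap A B a • ((ES A B).map h).hom x := rfl
  rw [h2, map_smul, ES_map_comm, algebraMap_smul]
  have h3 : (a • h).hom = a • h.hom := rfl
  rw [h3, LinearMap.baseChange_smul, LinearMap.smul_apply]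

variable (S : Submonoid A) [IsLocalization S B]

/-- lifting a `B`-linear map between extended modules, up to an element of `S` -/
lemma exists_lift_ES (M N : ModuleCat.{u} A) [Module.FinitePresentation A M]
    (γ : (ES A B).obj M ⟶ (ES A B).obj N) :
    ∃ (h : M ⟶ N) (s : S), (ES A B).map h = algebraMap A B (s : A) • γ := by
  obtain ⟨h, s, hs⟩ := Module.FinitePresentation.exists_lift_of_isLocalizedModule S
    (TensorProduct.mk A B N 1) (flatMap γ)
  refine ⟨ModuleCat.ofHom h, s, ?_⟩
  apply ModuleCat.ExtendScalars.hom_ext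
  intro m
  apply (extendScalarsEquivTensor (S := B) N).injective
  have h1 := LinearMap.congr_fun hs m
  rw [LinearMap.comp_apply, TensorProduct.mk_apply, LinearMap.smul_apply, flatMap_apply,
    Submonoid.smul_def] at h1
  have h2 : ((algebraMap A B (s : A) • γ).hom ((1 : B) ⊗ₜ[A,algebraMap A B] m)) =
      algebraMap A B (s : A) • γ.hom ((1 : B) ⊗ₜ[A,algebraMap A B] m) := rfl
  have h4 : extendScalarsEquivTensor (S := B) N (((ES A B).map (ModuleCat.ofHom h)).hom
      ((1 : B) ⊗ₜ[A,algebraMap A B] m)) = (1 : B) ⊗ₜ[A] (h m) := by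
    rw [ES_map_comm, extendScalarsEquivTensor_tmul, LinearMap.baseChange_tmul]
    rfl
  show extendScalarsEquivTensor (S := B) N (((ES A B).map (ModuleCat.ofHom h)).hom
      ((1 : B) ⊗ₜ[A,algebraMap A B] m)) = extendScalarsEquivTensor (S := B) N
      ((algebraMap A B (s : A) • γ).hom ((1 : B) ⊗ₜ[A,algebraMap A B] m))
  rw [h4, h2, map_smul, algebraMap_smul, h1]

omit [IsLocalization S B] in
lemma ES_map_smul_of_eq {M N : ModuleCat.{u} A} (c s : A) (h : M ⟶ N)
    (γ : (ES A B).obj M ⟶ (ES A B).obj N) (hs : (ES A B).map h = algebraMap A B s • γ) :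
    (ES A B).map (c • h) = algebraMap A B (c * s) • γ := by
  rw [ES_map_smul, hs, smul_smul, ← map_mul]

/-- two maps which agree after extension of scalars agree up to an element of `S` -/
lemma exists_smul_eq_of_ES_map_eq (M N : ModuleCat.{u} A) [Module.Finite A M] (h₁ h₂ : M ⟶ N)
    (h : (ES A B).map h₁ = (ES A B).map h₂) : ∃ s : S, (s : A) • h₁ = (s : A) • h₂ := by
  have hcomp : (TensorProduct.mk A B N 1).comp h₁.hom = (TensorProduct.mk A B N 1).comp h₂.hom := by
    apply LinearMap.ext
    intro m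
    have h5 := congrArg (fun g => extendScalarsEquivTensor (S := B) N
      (g.hom ((1 : B) ⊗ₜ[A,algebraMap A B] m))) h
    simp only [ES_map_comm, extendScalarsEquivTensor_tmul, LinearMap.baseChange_tmul] at h5
    simpa using h5
  obtain ⟨s, hs⟩ := Module.Finite.exists_smul_of_comp_eq_of_isLocalizedModule S
    (TensorProduct.mk A B N 1) h₁.hom h₂.hom hcomp
  refine ⟨s, ?_⟩
  apply ModuleCat.hom_ext
  rw [Submonoid.smul_def, Submonoid.smul_def] at hs
  exact hs

end ModuleLevel

section CochainLevel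

variable {A B : Type u} [CommRing A] [CommRing B] [Algebra A B]

/-- semilinearity of `Cochain.map` -/
lemma cochain_map_smul {P E : Cx A} {n : ℤ} (a : A) (α : Cochain P E n) :
    (a • α).map (ES A B) = algebraMap A B a • α.map (ES A B) := by
  refine Cochain.ext _ _ (fun p q hpq => ?_)
  simp only [Cochain.map_v, Cochain.smul_v]
  exact ES_map_smul (B := B) a _

lemma cochain_ofHom_smul {R : Type u} [CommRing R] {P E : Cx R} (a : R) (f : P ⟶ E) :
    Cochain.ofHom (a • f) = a • Cochain.ofHom f := by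
  refine Cochain.ext₀ _ _ (fun p => ?_)
  simp only [Cochain.ofHom_v, Cochain.smul_v, HomologicalComplex.smul_f_apply]

variable (S : Submonoid A) [IsLocalization S B]

/-- lifting cochains, up to an element of `S` -/
theorem cochain_lift (P E : Cx A) (a b : ℤ) (hPb : VanishesAbove P b)
    (hPf : ∀ i, Module.FinitePresentation A (P.X i)) (hE : ∀ q : ℤ, q < a → IsZero (E.X q))
    (n : ℤ) (γ : Cochain ((ESc (algebraMap A B)).obj P) ((ESc (algebraMap A B)).obj E) n) :
    ∃ (s : S) (α : Cochain P E n), α.map (ES A B) = algebraMap A B (s : A) • γ := by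
  classical
  have key : ∀ p : ℤ, ∃ (h : P.X p ⟶ E.X (p + n)) (s : S),
      (ES A B).map h = algebraMap A B (s : A) • γ.v p (p + n) rfl := fun p => by
    haveI := hPf p
    exact exists_lift_ES S (P.X p) (E.X (p + n)) (γ.v p (p + n) rfl)
  choose h s hs using key
  let I : Finset ℤ := Finset.Icc (a - n) b
  refine ⟨∏ j ∈ I, s j, Cochain.mk (fun p q hpq =>
    if hp : p ∈ I then ((∏ j ∈ I.erase p, s j : S) : A) • (h p ≫ (E.XIsoOfEq hpq).hom)
    else 0), ?_⟩
  refine Cochain.ext _ _ (fun p q hpq => ?_)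
  subst hpq
  simp only [Cochain.map_v, Cochain.mk_v, Cochain.smul_v]
  by_cases hp : p ∈ I
  · rw [dif_pos hp]
    simp only [HomologicalComplex.XIsoOfEq_rfl, Iso.refl_hom, Category.comp_id]
    have hc : ((∏ j ∈ I.erase p, s j : S) : A) * (s p : A) = ((∏ j ∈ I, s j : S) : A) := by
      rw [← Submonoid.coe_mul, Finset.prod_erase_mul _ _ hp]
    have h5 := ES_map_smul_of_eq ((∏ j ∈ I.erase p, s j : S) : A) (s p : A) (h p)
      (γ.v p (p + n) rfl) (hs p)
    rw [hc] at h5
    exact h5
  · rw [dif_neg hp, Functor.map_zero]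
    have hz : γ.v p (p + n) rfl = 0 := by
      rw [Finset.mem_Icc, not_and_or, not_le, not_le] at hp
      rcases hp with hp | hp
      · exact ((ES A B).map_isZero (hE (p + n) (by omega))).eq_of_tgt _ _
      · exact ((ES A B).map_isZero (hPb p hp)).eq_of_src _ _
    rw [hz, smul_zero]
    rfl

/-- a cochain whose extension of scalars vanishes is killed by an element of `S` -/
theorem cochain_torsion (P E : Cx A) (a b : ℤ) (hPb : VanishesAbove P b)
    (hPf : ∀ i, Module.Finite A (P.X i)) (hE : ∀ q : ℤ, q < a → IsZero (E.X q))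
    (n : ℤ) (α : Cochain P E n) (hα : α.map (ES A B) = 0) : ∃ s : S, (s : A) • α = 0 := by
  classical
  have key : ∀ p : ℤ, ∃ s : S, (s : A) • α.v p (p + n) rfl = 0 := fun p => by
    haveI := hPf p
    have h0 : (ES A B).map (α.v p (p + n) rfl) = (ES A B).map 0 := by
      rw [Functor.map_zero]
      exact Cochain.congr_v hα p (p + n) rfl
    obtain ⟨s, hs⟩ := exists_smul_eq_of_ES_map_eq S _ _ _ _ h0
    exact ⟨s, by rw [hs, smul_zero]⟩
  choose s hs using key
  let I : Finset ℤ := Finset.Icc (a - n) b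
  refine ⟨∏ j ∈ I, s j, ?_⟩
  refine Cochain.ext _ _ (fun p q hpq => ?_)
  subst hpq
  simp only [Cochain.smul_v, Cochain.zero_v]
  by_cases hp : p ∈ I
  · rw [← Finset.prod_erase_mul _ _ hp, Submonoid.coe_mul, mul_smul, hs p, smul_zero]
  · have hz : α.v p (p + n) rfl = 0 := by
      rw [Finset.mem_Icc, not_and_or, not_le, not_le] at hp
      rcases hp with hp | hp
      · exact (hE (p + n) (by omega)).eq_of_tgt _ _
      · exact (hPb p hp).eq_of_src _ _
    rw [hz, smul_zero]

/-- lifting chain maps, up to an element of `S` -/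
theorem hom_lift (P E : Cx A) (a b : ℤ) (hPb : VanishesAbove P b)
    (hPf : ∀ i, Module.FinitePresentation A (P.X i)) (hE : ∀ q : ℤ, q < a → IsZero (E.X q))
    (g : (ESc (algebraMap A B)).obj P ⟶ (ESc (algebraMap A B)).obj E) :
    ∃ (s : S) (f : P ⟶ E), (ESc (algebraMap A B)).map f = algebraMap A B (s : A) • g := by
  obtain ⟨s₁, α, hα⟩ := cochain_lift S P E a b hPb hPf hE 0 (Cochain.ofHom g)
  have h1 : (δ 0 1 α).map (ES A B) = 0 := by
    rw [← δ_map, hα, δ_smul, δ_ofHom, smul_zero]
  obtain ⟨s₂, hs₂⟩ := cochain_torsion S P E a b hPb (fun i => by haveI := hPf i; infer_instance)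
    hE 1 (δ 0 1 α) h1
  have h2 : δ 0 1 ((s₂ : A) • α) = 0 := by rw [δ_smul, hs₂]
  let z : Cocycle P E 0 := Cocycle.mk ((s₂ : A) • α) 1 (zero_add 1) h2
  refine ⟨s₂ * s₁, Cocycle.homOf z, ?_⟩
  apply Cochain.ofHom_injective
  rw [← Cochain.map_ofHom, Cocycle.cochain_ofHom_homOf_eq_coe]
  show ((s₂ : A) • α).map (ES A B) = _
  rw [cochain_map_smul, hα, smul_smul, ← map_mul, ← Submonoid.coe_mul, cochain_ofHom_smul]

/-- descending null-homotopies, up to an element of `S` -/
theorem homotopy_descend (P E : Cx A) (a b : ℤ) (hPb : VanishesAbove P b)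
    (hPf : ∀ i, Module.FinitePresentation A (P.X i)) (hE : ∀ q : ℤ, q < a → IsZero (E.X q))
    (f : P ⟶ E) (H : Homotopy ((ESc (algebraMap A B)).map f) 0) :
    ∃ s : S, Nonempty (Homotopy ((s : A) • f) 0) := by
  obtain ⟨β, hβ⟩ := Cochain.equivHomotopy _ _ H
  obtain ⟨s₁, α, hα⟩ := cochain_lift S P E a b hPb hPf hE (-1) β
  have h1 : (δ (-1) 0 α - (s₁ : A) • Cochain.ofHom f).map (ES A B) = 0 := by
    rw [Cochain.map_sub, ← δ_map, hα, δ_smul, cochain_map_smul, Cochain.map_ofHom, hβ,
      Cochain.ofHom_zero, add_zero, sub_self]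
  obtain ⟨s₂, hs₂⟩ := cochain_torsion S P E a b hPb (fun i => by haveI := hPf i; infer_instance)
    hE 0 _ h1
  rw [smul_sub, sub_eq_zero] at hs₂
  refine ⟨s₂ * s₁, ⟨(Cochain.equivHomotopy _ _).symm ⟨(s₂ : A) • α, ?_⟩⟩⟩
  rw [Cochain.ofHom_zero, add_zero, δ_smul, hs₂, smul_smul, Submonoid.coe_mul, cochain_ofHom_smul]

end CochainLevel

section DerivedLevel

variable {A B : Type u} [CommRing A] [CommRing B] [Algebra A B] [Module.Flat A B]

/-- semilinearity of the flat base change functor on derived categories -/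
lemma bcD_map_smul {K L : Dual.D A} (a : A) (f : K ⟶ L) :
    (bcD A B).map (a • f) = algebraMap A B a • (bcD A B).map f := by
  have key : ∀ X : Cx A, (bcD A B).map (a • 𝟙 (toD X)) =
      algebraMap A B a • 𝟙 ((bcD A B).obj (toD X)) := by
    intro X
    have h1 : a • 𝟙 (toD X) = Q.map (a • 𝟙 X) := by
      rw [Functor.map_smul, CategoryTheory.Functor.map_id]
    have h2 : (ESc (algebraMap A B)).map (a • 𝟙 X) =
        algebraMap A B a • 𝟙 ((ESc (algebraMap A B)).obj X) := by
      apply HomologicalComplex.hom_ext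
      intro i
      show (ES A B).map ((a • 𝟙 X : X ⟶ X).f i) = _
      rw [HomologicalComplex.smul_f_apply, HomologicalComplex.id_f, ES_map_smul,
        CategoryTheory.Functor.map_id]
      rfl
    have h3 := (ES A B).mapDerivedCategoryFactors_hom_naturality (a • 𝟙 X)
    rw [h1, ← cancel_mono ((ES A B).mapDerivedCategoryFactors.hom.app X), h3]
    show _ ≫ Q.map ((ESc (algebraMap A B)).map (a • 𝟙 X)) = _
    rw [h2, Functor.map_smul, CategoryTheory.Functor.map_id, Linear.comp_smul, Linear.smul_comp,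
      Category.comp_id, Category.id_comp]
  have hK : (bcD A B).map (a • 𝟙 K) = algebraMap A B a • 𝟙 ((bcD A B).obj K) := by
    let e : Q.obj (Q.objPreimage K) ≅ K := Q.objObjPreimageIso K
    have h1 : a • 𝟙 K = e.inv ≫ (a • 𝟙 (Q.obj (Q.objPreimage K))) ≫ e.hom := by
      rw [Linear.smul_comp, Linear.comp_smul, Category.id_comp, Iso.inv_hom_id]
    rw [h1, Functor.map_comp, Functor.map_comp, key, Linear.smul_comp, Linear.comp_smul,
      Category.id_comp, ← Functor.map_comp, Iso.inv_hom_id, CategoryTheory.Functor.map_id]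
  have h0 : a • f = (a • 𝟙 K) ≫ f := by rw [Linear.smul_comp, Category.id_comp]
  rw [h0, Functor.map_comp, hK, Linear.smul_comp, Category.id_comp]

lemma isKProjective_ESc (P : Cx A) (b : ℤ) (hPb : VanishesAbove P b)
    (hPp : ∀ i, Module.Projective A (P.X i)) :
    ((ESc (algebraMap A B)).obj P).IsKProjective :=
  isKProjective_of_projective_bounded _ b
    (fun i hi => (ES A B).map_isZero (hPb i hi)) (fun i => projective_ES (P.X i) (hPp i))

variable (S : Submonoid A) [IsLocalization S B]

/-- the map `Hom(K, L) → Hom(K_B, L_B)` is a localization at `S` for `K` pseudo-coherent and `L`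
bounded below, for `B = S⁻¹A`: elementwise form. -/
theorem locHom (K L : Dual.D A) (hK : IsPseudoCoherent' A K) (a : ℤ)
    [DerivedCategory.IsGE L a] :
    (∀ g : (bcD A B).obj K ⟶ (bcD A B).obj L, ∃ (s : S) (f : K ⟶ L),
      algebraMap A B (s : A) • g = (bcD A B).map f) ∧
    (∀ f : K ⟶ L, (bcD A B).map f = 0 → ∃ s : S, (s : A) • f = 0) := by
  obtain ⟨P, b, hPb, hPff, ⟨eK⟩⟩ := hK
  obtain ⟨E, hEge, ⟨eL⟩⟩ := DerivedCategory.exists_iso_Q_obj_of_isGE L a
  have hPp : ∀ i, Module.Projective A (P.X i) := fun i => by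
    haveI := (hPff i).2
    infer_instance
  have hPf : ∀ i, Module.FinitePresentation A (P.X i) := fun i => by
    haveI := (hPff i).1
    haveI := (hPff i).2
    exact Module.finitePresentation_of_projective A (P.X i)
  have hE : ∀ q : ℤ, q < a → IsZero (E.X q) :=
    fun q hq => CochainComplex.isZero_of_isStrictlyGE E a q hq
  haveI : P.IsKProjective := isKProjective_of_projective_bounded P b hPb hPp
  haveI : ((ESc (algebraMap A B)).obj P).IsKProjective := isKProjective_ESc P b hPb hPp
  have hnat : ∀ f₀ : P ⟶ E, (bcD A B).map (Q.map f₀) =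
      (bcDIso P).hom ≫ Q.map ((ESc (algebraMap A B)).map f₀) ≫ (bcDIso E).inv := by
    intro f₀
    have h3 := (ES A B).mapDerivedCategoryFactors_hom_naturality f₀
    rw [← cancel_mono ((bcDIso E).hom), Category.assoc, Category.assoc, Iso.inv_hom_id,
      Category.comp_id]
    exact h3
  constructor
  · intro g
    obtain ⟨g₀, hg₀⟩ := exists_Q_map_eq_of_isKProjective
      (E := (ESc (algebraMap A B)).obj P) (F := (ESc (algebraMap A B)).obj E)
      ((bcDIso P).inv ≫ (bcD A B).map eK.hom ≫ g ≫ (bcD A B).map eL.hom ≫ (bcDIso E).hom)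
    obtain ⟨s, f₀, hf₀⟩ := hom_lift S P E a b hPb hPf hE g₀
    refine ⟨s, eK.inv ≫ Q.map f₀ ≫ eL.inv, ?_⟩
    rw [Functor.map_comp, Functor.map_comp, hnat, hf₀, Functor.map_smul, hg₀]
    simp only [Linear.smul_comp, Linear.comp_smul, Category.assoc, Iso.hom_inv_id_assoc,
      Iso.hom_inv_id, Category.comp_id, ← Functor.map_comp, Iso.inv_hom_id_assoc,
      Iso.inv_hom_id, CategoryTheory.Functor.map_id]
    rw [← Functor.map_comp_assoc, Iso.inv_hom_id, CategoryTheory.Functor.map_id, Category.id_comp]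
  · intro f hf
    obtain ⟨f₀, hf₀⟩ := exists_Q_map_eq_of_isKProjective (E := P) (F := E)
      (eK.hom ≫ f ≫ eL.hom)
    have h1 : Q.map ((ESc (algebraMap A B)).map f₀) = 0 := by
      have h2 := hnat f₀
      rw [hf₀, Functor.map_comp, Functor.map_comp, hf, zero_comp, comp_zero] at h2
      rw [← cancel_epi ((bcDIso P).hom), ← cancel_mono ((bcDIso E).inv), Category.assoc, ← h2,
        comp_zero, zero_comp]
    obtain ⟨H⟩ := homotopy_zero_of_Q_map_eq_zero _ h1
    obtain ⟨s, ⟨H'⟩⟩ := homotopy_descend S P E a b hPb hPf hE f₀ H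
    refine ⟨s, ?_⟩
    have h3 : Q.map ((s : A) • f₀) = 0 := by
      rw [DerivedCategory.Q_map_eq_of_homotopy _ H', Functor.map_zero]
    rw [Functor.map_smul, hf₀] at h3
    have h4 : (s : A) • f = eK.inv ≫ ((s : A) • (eK.hom ≫ f ≫ eL.hom)) ≫ eL.inv := by
      simp only [Linear.smul_comp, Linear.comp_smul, Category.assoc, Iso.hom_inv_id,
        Category.comp_id, Iso.inv_hom_id_assoc]
    rw [h4, h3, zero_comp, comp_zero]

end DerivedLevel

end Groth.Agent.Lib.DMod_helper6
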