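import Mathlib
import Groth.Prelude.Def_DRing2
import Groth.Prelude.Def_DDual2
import Groth.Agent.Lib.DMod78_helper6
import Groth.Agent.Lib.DMod74_helper6
import Groth.Agent.Lib.DMod66_helper6
import Groth.Agent.Lib.DMod12_helper6

/-!
# Derived category toolkit (helper6), part 79: derived base change along a flat map is induced by
the exact functor `- ⊗ B`; the localization of a dualizing complex is dualizing (S1775).
-/

set_option autoImplicit false
universe u
open CategoryTheory CategoryTheory.Limits DerivedCategory
open scoped TensorProduct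
attribute [local instance] HasDerivedCategory.standard

namespace Groth.Agent.Lib.DMod_helper6

open DRing Groth.Agent.ExtendScalarsLib

section LBC

variable {A B : Type u} [CommRing A] [CommRing B] [Algebra A B] [Module.Flat A B]

/-- for a flat algebra, derived base change is the functor induced by the exact functor `- ⊗ B` -/
lemma nonempty_lBaseChange_iso_bcD [HasLBaseChange (algebraMap A B)] :
    Nonempty (LBaseChange (algebraMap A B) ≅ bcD A B) := by
  haveI : (bcD A B).IsLeftDerivedFunctor ((ES A B).mapDerivedCategoryFactorsh).hom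
      (HomotopyCategory.quasiIso (ModuleCat.{u} A) (ComplexShape.up ℤ)) :=
    Functor.isLeftDerivedFunctor_of_inverts _ (bcD A B) ((ES A B).mapDerivedCategoryFactorsh)
  exact ⟨Functor.leftDerivedUnique (bcD A B) (LBaseChange (algebraMap A B))
    ((baseChangeKh (algebraMap A B)).totalLeftDerivedCounit DerivedCategory.Qh
      (HomotopyCategory.quasiIso (ModuleCat.{u} A) (ComplexShape.up ℤ)))
    ((ES A B).mapDerivedCategoryFactorsh).hom
    (HomotopyCategory.quasiIso (ModuleCat.{u} A) (ComplexShape.up ℤ))⟩

end LBC

section Iso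

variable {A : Type u} [CommRing A]

/-- being a dualizing complex is invariant under isomorphism -/
lemma isDualizing_of_iso {ω ω' : Dual.D A} (e : ω ≅ ω') (h : Dual.IsDualizing A ω) :
    Dual.IsDualizing A ω' where
  isNoetherianRing := h.isNoetherianRing
  finite_injective_dimension := by
    obtain ⟨a, b, hab⟩ := h.finite_injective_dimension
    refine ⟨a, b, fun M _ _ i hi => ?_⟩
    haveI := hab M i hi
    exact (((CategoryTheory.shiftFunctor (Dual.D A) i).mapIso e.symm).homToEquiv).subsingleton
  finite_cohomology := fun i => by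
    haveI := h.finite_cohomology i
    exact Module.Finite.equiv
      ((DerivedCategory.homologyFunctor (ModuleCat.{u} A) i).mapIso e).toLinearEquiv
  toEnd_bijective := by
    have h1 : (fun a : A => a • 𝟙 ω') = (fun f : ω ⟶ ω => e.inv ≫ f ≫ e.hom) ∘
        (fun a : A => a • 𝟙 ω) := by
      funext a
      simp only [Function.comp_apply, Linear.smul_comp, Linear.comp_smul, Category.id_comp,
        Iso.inv_hom_id]
    rw [h1]
    refine Function.Bijective.comp ?_ h.toEnd_bijective
    exact (Iso.homCongr e e).bijective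
  ext_self_subsingleton := fun i hi => by
    haveI := h.ext_self_subsingleton i hi
    exact (Iso.homCongr e ((CategoryTheory.shiftFunctor (Dual.D A) i).mapIso e)).symm.subsingleton

end Iso

section Loc

variable {A B : Type u} [CommRing A] [CommRing B] [Algebra A B] [Module.Flat A B]
  (S : Submonoid A) [IsLocalization S B]

include S in
lemma smul_eq_zero_of_algebraMap_smul {X Y : Dual.D B} (s : S) (g : X ⟶ Y)
    (h : algebraMap A B (s : A) • g = 0) : g = 0 :=
  ((IsLocalization.map_units B s).smul_eq_zero).1 h

include S in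
/-- the cyclic `B`-module `B/J'` is the base change of `A/J` for `J` the contraction of `J'` -/
lemma nonempty_bcD_quot_iso (J' : Ideal B) :
    Nonempty ((bcD A B).obj (Dual.inD A (A ⧸ J'.comap (algebraMap A B))) ≅
      Dual.inD B (B ⧸ J')) := by
  set J : Ideal A := J'.comap (algebraMap A B) with hJ
  have hloc : Submodule.localized' B S (Algebra.linearMap A B) J = J' := by
    rw [Submodule.localized'_eq_span]
    exact IsLocalization.map_comap S B J'
  let l : A ⧸ J →ₗ[A] B ⧸ Submodule.localized' B S (Algebra.linearMap A B) J :=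
    Submodule.toLocalizedQuotient' B S (Algebra.linearMap A B) J
  let e1 : B ⊗[A] (A ⧸ J) ≃ₗ[B] (B ⧸ Submodule.localized' B S (Algebra.linearMap A B) J) :=
    (IsLocalizedModule.isBaseChange S B l).equiv
  let e2 : (B ⧸ Submodule.localized' B S (Algebra.linearMap A B) J) ≃ₗ[B] (B ⧸ J') :=
    Submodule.quotEquivOfEq _ _ hloc
  exact ⟨bcSingleIso (A ⧸ J) ≪≫
    (DerivedCategory.singleFunctor (ModuleCat.{u} B) 0).mapIso (e1.trans e2).toModuleIso⟩

include S in
/-- S1775, for the functor induced by `- ⊗ B`. -/
theorem isDualizing_bcD [IsNoetherianRing A] (ω : Dual.D A) (hω : Dual.IsDualizing A ω) :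
    Dual.IsDualizing B ((bcD A B).obj ω) := by
  haveI : IsNoetherianRing B := IsLocalization.isNoetherianRing S B inferInstance
  obtain ⟨a, b, hab⟩ := hω.finite_injective_dimension
  have hH : ∀ i : ℤ, (i < a ∨ b < i) → Subsingleton (Dual.HD A ω i) := fun i hi =>
    subsingleton_HD_of_hom_quot_bot ω i (hab (A ⧸ (⊥ : Ideal A)) i hi)
  haveI hge : DerivedCategory.IsGE ω a := by
    rw [DerivedCategory.isGE_iff]
    intro i hi
    haveI := hH i (Or.inl hi)
    exact ModuleCat.isZero_of_subsingleton _
  have hpc : IsPseudoCoherent' A ω := by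
    refine isPseudoCoherent'_of_homology ω ⟨b, fun j hj => hH j (Or.inr hj)⟩ (fun j => ?_)
    haveI := hω.finite_cohomology j
    exact isPseudoCoherentModule'_of_finite _
  have hgeShift : ∀ i : ℤ, DerivedCategory.IsGE (ω⟦i⟧) (a - i) := fun i =>
    TStructure.t.isGE_shift ω a i (a - i) (by omega)
  -- vanishing of morphisms into shifts
  have hvan : ∀ (K : Dual.D A) (_ : IsPseudoCoherent' A K) (i : ℤ),
      Subsingleton (K ⟶ ω⟦i⟧) → ∀ g : (bcD A B).obj K ⟶ ((bcD A B).obj ω)⟦i⟧, g = 0 := by
    intro K hK i hsub g
    haveI := hgeShift i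
    obtain ⟨s, f, hf⟩ := (locHom S K (ω⟦i⟧) hK (a - i)).1
      (g ≫ ((bcD A B).commShiftIso i).inv.app ω)
    have hf0 : f = 0 := Subsingleton.elim _ _
    rw [hf0, Functor.map_zero] at hf
    have h1 := smul_eq_zero_of_algebraMap_smul S s _ hf
    rw [← cancel_mono (((bcD A B).commShiftIso i).inv.app ω), h1, zero_comp]
  refine ⟨inferInstance, ?_, ?_, ?_, ?_⟩
  · -- finite injective dimension
    have h3 : ∀ (J' : Ideal B) (i : ℤ), (i < a ∨ b < i) →
        Subsingleton (Dual.inD B (B ⧸ J') ⟶ ((bcD A B).obj ω)⟦i⟧) := by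
      intro J' i hi
      obtain ⟨e⟩ := nonempty_bcD_quot_iso (A := A) S J'
      refine subsingleton_of_forall_eq 0 (fun g => ?_)
      have hK : IsPseudoCoherent' A (Dual.inD A (A ⧸ J'.comap (algebraMap A B))) :=
        isPseudoCoherentModule'_of_finite _
      have := hvan _ hK i (hab _ i hi) (e.hom ≫ g)
      rw [← cancel_epi e.hom, this, comp_zero]
    have hamp := hasInjAmplitudeIn_of_hom_quot_vanishing ((bcD A B).obj ω) a b h3
    exact ⟨a, b, fun M _ _ i hi =>
      hom_subsingleton_of_hasInjAmplitudeIn _ a b hamp (ModuleCat.of B M) i hi⟩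
  · -- finite cohomology
    intro i
    obtain ⟨P, b', hPb, hPff, ⟨eK⟩⟩ := hpc
    have e : (DerivedCategory.homologyFunctor (ModuleCat.{u} B) i).obj ((bcD A B).obj ω) ≅
        ((ESc (algebraMap A B)).obj P).homology i :=
      (DerivedCategory.homologyFunctor (ModuleCat.{u} B) i).mapIso
        ((bcD A B).mapIso eK.symm ≪≫ bcDIso P) ≪≫
        (homologyFunctorFactors (ModuleCat.{u} B) i).app _
    haveI : Module.Finite B (((ESc (algebraMap A B)).obj P).homology i) :=
      finite_homology_noeth _ i (finite_ES (P.X i) (hPff i).1)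
    exact Module.Finite.equiv e.symm.toLinearEquiv
  · -- `B → End` is bijective
    obtain ⟨hsurj, hinj⟩ := locHom (B := B) S ω ω hpc a
    constructor
    · intro b₁ b₂ h12
      have h0 : (b₁ - b₂) • 𝟙 ((bcD A B).obj ω) = 0 := by
        rw [sub_smul, sub_eq_zero]
        exact h12
      obtain ⟨x, s, hxs⟩ := IsLocalization.exists_mk'_eq S (b₁ - b₂)
      have h1 : algebraMap A B x = algebraMap A B (s : A) * (b₁ - b₂) := by
        rw [← hxs, mul_comm, IsLocalization.mk'_spec]
      have h2 : (bcD A B).map (x • 𝟙 ω) = 0 := by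
        rw [bcD_map_smul, CategoryTheory.Functor.map_id, h1, mul_smul, h0, smul_zero]
      obtain ⟨t, ht⟩ := hinj _ h2
      rw [smul_smul] at ht
      have h3 : (t : A) * x = 0 := by
        apply hω.toEnd_bijective.1
        show ((t : A) * x) • 𝟙 ω = (0 : A) • 𝟙 ω
        rw [ht, zero_smul]
      have h4 : algebraMap A B x = 0 := (IsLocalization.map_eq_zero_iff S B x).2 ⟨t, h3⟩
      rw [h4] at h1
      have h5 : b₁ - b₂ = 0 :=
        ((IsLocalization.map_units B s).mul_right_eq_zero).1 h1.symm
      exact sub_eq_zero.1 h5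
    · intro g
      obtain ⟨s, f, hf⟩ := hsurj g
      obtain ⟨x, hx⟩ := hω.toEnd_bijective.2 f
      refine ⟨IsLocalization.mk' B x s, ?_⟩
      apply ((IsLocalization.map_units B s).smul_left_cancel).1
      show algebraMap A B (s : A) • (IsLocalization.mk' B x s • 𝟙 ((bcD A B).obj ω)) =
        algebraMap A B (s : A) • g
      rw [hf, ← hx, smul_smul, mul_comm, IsLocalization.mk'_spec]
      show _ = (bcD A B).map (x • 𝟙 ω)
      rw [bcD_map_smul, CategoryTheory.Functor.map_id]
  · -- no self-extensions
    intro i hi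
    haveI := hω.ext_self_subsingleton i hi
    exact subsingleton_of_forall_eq 0 (fun g => hvan ω hpc i inferInstance g)

end Loc

section Final

/-- S1775. -/
theorem isDualizing_lBaseChange_localization {A : Type u} [CommRing A] [IsNoetherianRing A]
    (S : Submonoid A) [HasLBaseChange (algebraMap A (Localization S))] (ω : Dual.D A)
    (hω : Dual.IsDualizing A ω) :
    Dual.IsDualizing (Localization S)
      ((LBaseChange (algebraMap A (Localization S))).obj ω) := by
  haveI : Module.Flat A (Localization S) := IsLocalization.flat _ S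
  obtain ⟨e⟩ := nonempty_lBaseChange_iso_bcD (A := A) (B := Localization S)
  exact isDualizing_of_iso (e.app ω).symm (isDualizing_bcD S ω hω)

end Final

end Groth.Agent.Lib.DMod_helper6
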