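import Mathlib
import Groth.Prelude.Def_DRing2
import Groth.Prelude.Def_DDual2
import Groth.Agent.Lib.DMod14_helper6
import Groth.Agent.Lib.DMod11_helper6

/-!
# Derived category toolkit (helper6), part 72: Artin–Rees for `Ext^p(M, N)` restricted to `IⁿM`
(S7148).
-/

set_option autoImplicit false
universe u
open CategoryTheory CategoryTheory.Limits DerivedCategory Pretriangulated
attribute [local instance] HasDerivedCategory.standard

namespace Groth.Agent.Lib.DMod_helper6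

open DRing

variable {A : Type u} [CommRing A]

/-- a morphism `X₃ ⟶ Y[q+1]` factors through the connecting morphism of a short exact sequence
as soon as `Hom(X₂, Y[q+1]) = 0`. -/
lemma exists_factor_singleδ {S : ShortComplex (ModuleCat.{u} A)} (hS : S.ShortExact) (Y : Dual.D A)
    (q q1 : ℤ) (hq : q + 1 = q1)
    (hvan : ∀ g : (DerivedCategory.singleFunctor (ModuleCat.{u} A) 0).obj S.X₂ ⟶ Y⟦q1⟧, g = 0)
    (e : (DerivedCategory.singleFunctor (ModuleCat.{u} A) 0).obj S.X₃ ⟶ Y⟦q1⟧) :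
    ∃ ξ : (DerivedCategory.singleFunctor (ModuleCat.{u} A) 0).obj S.X₁ ⟶ Y⟦q⟧,
      e = hS.singleδ ≫ ξ⟦(1 : ℤ)⟧' ≫ (shiftFunctorAdd' (DerivedCategory (ModuleCat.{u} A)) q 1 q1 hq).inv.app Y := by
  obtain ⟨g, hg⟩ : ∃ g : ((DerivedCategory.singleFunctor (ModuleCat.{u} A) 0).obj S.X₁)⟦(1 : ℤ)⟧ ⟶
      Y⟦q1⟧, e = hS.singleδ ≫ g :=
    Pretriangulated.Triangle.yoneda_exact₃ _ hS.singleTriangle_distinguished e (hvan _)
  obtain ⟨ξ, hξ⟩ : ∃ ξ : (DerivedCategory.singleFunctor (ModuleCat.{u} A) 0).obj S.X₁ ⟶ Y⟦q⟧,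
      ξ⟦(1 : ℤ)⟧' = g ≫ (shiftFunctorAdd' (DerivedCategory (ModuleCat.{u} A)) q 1 q1 hq).hom.app Y :=
    (shiftFunctor (DerivedCategory (ModuleCat.{u} A)) (1 : ℤ)).map_surjective
      (g ≫ (shiftFunctorAdd' (DerivedCategory (ModuleCat.{u} A)) q 1 q1 hq).hom.app Y)
  refine ⟨ξ, ?_⟩
  have h2 : ξ⟦(1 : ℤ)⟧' ≫ (shiftFunctorAdd' (DerivedCategory (ModuleCat.{u} A)) q 1 q1 hq).inv.app Y = g := by
    rw [hξ, Category.assoc, Iso.hom_inv_id_app]; exact Category.comp_id g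
  rw [h2]; exact hg

lemma map_pow_smul_top_le (I : Ideal A) {M N : Type u} [AddCommGroup M] [Module A M]
    [AddCommGroup N] [Module A N] (ψ : M →ₗ[A] N) {n k : ℕ} (h : k ≤ n) (x : M)
    (hx : x ∈ (I ^ n • ⊤ : Submodule A M)) : ψ x ∈ (I ^ k • ⊤ : Submodule A N) := by
  have h1 : (I ^ n • ⊤ : Submodule A M).map ψ ≤ I ^ k • ⊤ := by
    rw [Submodule.map_smul'']
    exact Submodule.smul_mono (Ideal.pow_le_pow_right h) le_top
  exact h1 ⟨x, hx, rfl⟩

/-- the short complex `0 → ker p → F → M → 0`. -/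
noncomputable abbrev kerSC {F M : Type u} [AddCommGroup F] [Module A F] [AddCommGroup M] [Module A M]
    (p : F →ₗ[A] M) : ShortComplex (ModuleCat.{u} A) :=
  ShortComplex.mk (ModuleCat.ofHom (LinearMap.ker p).subtype) (ModuleCat.ofHom p)
    (by ext x; exact LinearMap.mem_ker.1 x.2)

lemma kerSC_shortExact {F M : Type u} [AddCommGroup F] [Module A F] [AddCommGroup M] [Module A M]
    (p : F →ₗ[A] M) (hp : Function.Surjective p) : (kerSC p).ShortExact :=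
  shortExact_of_surjective p hp

theorem ext_artin_rees_aux [IsNoetherianRing A] (I : Ideal A) (N : Type u) [AddCommGroup N]
    [Module A N] (p : ℕ) :
    ∀ (M : Type u) [AddCommGroup M] [Module A M] [Module.Finite A M],
    ∃ c : ℕ, ∀ n k : ℕ, k + c ≤ n →
      ∀ e : Dual.inD A M ⟶ (Dual.inD A N)⟦(p : ℤ)⟧,
        ∃ e' : Dual.inD A ↥(I ^ n • ⊤ : Submodule A M) ⟶
            (Dual.inD A ↥(I ^ k • ⊤ : Submodule A N))⟦(p : ℤ)⟧,
          e' ≫ ((DerivedCategory.singleFunctor (ModuleCat.{u} A) 0).map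
                  (ModuleCat.ofHom (I ^ k • ⊤ : Submodule A N).subtype))⟦(p : ℤ)⟧' =
            (DerivedCategory.singleFunctor (ModuleCat.{u} A) 0).map
                (ModuleCat.ofHom (I ^ n • ⊤ : Submodule A M).subtype) ≫ e := by
  induction p with
  | zero =>
    intro M _ _ _
    refine ⟨0, fun n k hk e => ?_⟩
    let z := shiftFunctorZero' (DerivedCategory (ModuleCat.{u} A)) ((0 : ℕ) : ℤ) (by simp)
    obtain ⟨ψ, hψ⟩ := (DerivedCategory.singleFunctor (ModuleCat.{u} A) 0).map_surjective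
      (e ≫ z.hom.app (Dual.inD A N))
    let ψ' : ↥(I ^ n • ⊤ : Submodule A M) →ₗ[A] ↥(I ^ k • ⊤ : Submodule A N) :=
      ψ.hom.restrict (fun x hx => map_pow_smul_top_le I ψ.hom (by omega) x hx)
    have hψ' : ModuleCat.ofHom ψ' ≫ ModuleCat.ofHom (I ^ k • ⊤ : Submodule A N).subtype =
        ModuleCat.ofHom (I ^ n • ⊤ : Submodule A M).subtype ≫ ψ := by
      ext x; rfl
    refine ⟨(DerivedCategory.singleFunctor (ModuleCat.{u} A) 0).map (ModuleCat.ofHom ψ') ≫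
      z.inv.app (Dual.inD A ↥(I ^ k • ⊤ : Submodule A N)), ?_⟩
    have hnat := z.inv.naturality ((DerivedCategory.singleFunctor (ModuleCat.{u} A) 0).map
      (ModuleCat.ofHom (I ^ k • ⊤ : Submodule A N).subtype))
    simp only [Functor.id_map] at hnat
    rw [Category.assoc, ← hnat, ← Category.assoc, ← Functor.map_comp, hψ', Functor.map_comp,
      hψ, Category.assoc, Category.assoc, Iso.hom_inv_id_app, Category.comp_id]
  | succ q ih =>
    intro M _ _ _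
    obtain ⟨t, π, hπ⟩ := Module.Finite.exists_fin' A M
    haveI : Module.Finite A (LinearMap.ker π) :=
      Module.Finite.iff_fg.2 (IsNoetherian.noetherian (LinearMap.ker π))
    obtain ⟨c₁, hc₁⟩ := Ideal.exists_pow_inf_eq_pow_smul I (LinearMap.ker π)
    obtain ⟨c₂, hc₂⟩ := ih ↥(LinearMap.ker π)
    refine ⟨c₁ + c₂, fun n k hk e => ?_⟩
    have hq : (q : ℤ) + 1 = ((q + 1 : ℕ) : ℤ) := by push_cast; rfl
    -- the restricted presentation
    let πn : ↥(I ^ n • ⊤ : Submodule A (Fin t → A)) →ₗ[A] ↥(I ^ n • ⊤ : Submodule A M) :=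
      π.restrict (fun x hx => map_pow_smul_top_le I π le_rfl x hx)
    have hπn : Function.Surjective πn := by
      intro y
      have hy : (y : M) ∈ (I ^ n • ⊤ : Submodule A (Fin t → A)).map π := by
        rw [Submodule.map_smul'', Submodule.map_top, LinearMap.range_eq_top.2 hπ]
        exact y.2
      obtain ⟨x, hx, hxy⟩ := hy
      exact ⟨⟨x, hx⟩, Subtype.ext hxy⟩
    have hS := kerSC_shortExact π hπ
    have hS' := kerSC_shortExact πn hπn
    -- the map on kernels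
    let τ₁ : ↥(LinearMap.ker πn) →ₗ[A] ↥(LinearMap.ker π) :=
      LinearMap.codRestrict (LinearMap.ker π)
        ((I ^ n • ⊤ : Submodule A (Fin t → A)).subtype ∘ₗ (LinearMap.ker πn).subtype)
        (fun x => by
          have hx : πn x.1 = 0 := LinearMap.mem_ker.1 x.2
          have : ((πn x.1 : ↥(I ^ n • ⊤ : Submodule A M)) : M) = 0 := by rw [hx]; rfl
          exact LinearMap.mem_ker.2 this)
    have hτ₁ : ∀ x, τ₁ x ∈ (I ^ (k + c₂) • ⊤ : Submodule A ↥(LinearMap.ker π)) := by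
      intro x
      have h1 : ((τ₁ x : ↥(LinearMap.ker π)) : Fin t → A) ∈
          (I ^ n • ⊤ : Submodule A (Fin t → A)) ⊓ LinearMap.ker π :=
        ⟨x.1.2, (τ₁ x).2⟩
      rw [hc₁ n (by omega)] at h1
      have h2 : I ^ (n - c₁) • ((I ^ c₁ • ⊤ : Submodule A (Fin t → A)) ⊓ LinearMap.ker π) ≤
          (I ^ (k + c₂) • ⊤ : Submodule A ↥(LinearMap.ker π)).map (LinearMap.ker π).subtype := by
        rw [Submodule.map_smul'', Submodule.map_top, Submodule.range_subtype]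
        exact Submodule.smul_mono (Ideal.pow_le_pow_right (by omega)) inf_le_right
      obtain ⟨y, hy, hyx⟩ := h2 h1
      have : y = τ₁ x := Subtype.ext hyx
      rw [← this]; exact hy
    let am : ↥(LinearMap.ker πn) →ₗ[A] ↥(I ^ (k + c₂) • ⊤ : Submodule A ↥(LinearMap.ker π)) :=
      LinearMap.codRestrict _ τ₁ hτ₁
    let φ : kerSC πn ⟶ kerSC π :=
      ShortComplex.homMk
        (ModuleCat.ofHom (R := A) (X := ↥(LinearMap.ker πn)) (Y := ↥(LinearMap.ker π)) τ₁)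
        (show ModuleCat.of A ↥(I ^ n • ⊤ : Submodule A (Fin t → A)) ⟶
          ModuleCat.of A (Fin t → A) from
          ModuleCat.ofHom (I ^ n • ⊤ : Submodule A (Fin t → A)).subtype)
        (show ModuleCat.of A ↥(I ^ n • ⊤ : Submodule A M) ⟶ ModuleCat.of A M from
          ModuleCat.ofHom (I ^ n • ⊤ : Submodule A M).subtype)
        (by ext x; rfl) (by ext x; rfl)
    have comm₃ := (ShortComplex.ShortExact.singleTriangle.map hS' hS φ).comm₃
    have ham : ModuleCat.ofHom (R := A) (X := ↥(LinearMap.ker πn)) (Y := ↥(I ^ (k + c₂) • ⊤ : Submodule A ↥(LinearMap.ker π))) am ≫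
        ModuleCat.ofHom (I ^ (k + c₂) • ⊤ : Submodule A ↥(LinearMap.ker π)).subtype =
        ModuleCat.ofHom (R := A) (X := ↥(LinearMap.ker πn)) (Y := ↥(LinearMap.ker π)) τ₁ := by
      ext x; rfl
    -- vanishing of `Hom(F, N[q+1])`
    haveI : Projective (ModuleCat.of A (Fin t → A)) :=
      (IsProjective.iff_projective (Fin t → A)).1 inferInstance
    haveI : DerivedCategory.IsLE ((Dual.inD A N)⟦((q + 1 : ℕ) : ℤ)⟧) (-((q + 1 : ℕ) : ℤ)) :=
      TStructure.t.isLE_shift (Dual.inD A N) 0 ((q + 1 : ℕ) : ℤ) (-((q + 1 : ℕ) : ℤ)) (by omega)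
    haveI : DerivedCategory.IsLE ((Dual.inD A N)⟦((q + 1 : ℕ) : ℤ)⟧) (-1) :=
      TStructure.t.isLE_of_le _ (-((q + 1 : ℕ) : ℤ)) (-1) (by omega)
    obtain ⟨ξ, hξ⟩ := exists_factor_singleδ hS (Dual.inD A N) (q : ℤ) ((q + 1 : ℕ) : ℤ) hq
      (fun g => hom_single_eq_zero (ModuleCat.of A (Fin t → A)) _ g) e
    obtain ⟨ξ', hξ'⟩ := hc₂ (k + c₂) k le_rfl ξ
    refine ⟨hS'.singleδ ≫ ((DerivedCategory.singleFunctor (ModuleCat.{u} A) 0).map
      (ModuleCat.ofHom (R := A) (X := ↥(LinearMap.ker πn)) (Y := ↥(I ^ (k + c₂) • ⊤ : Submodule A ↥(LinearMap.ker π))) am) ≫ ξ')⟦(1 : ℤ)⟧' ≫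
      (shiftFunctorAdd' (DerivedCategory (ModuleCat.{u} A)) (q : ℤ) 1 ((q + 1 : ℕ) : ℤ) hq).inv.app _, ?_⟩
    have hnat := (shiftFunctorAdd' (DerivedCategory (ModuleCat.{u} A)) (q : ℤ) 1 ((q + 1 : ℕ) : ℤ) hq).inv.naturality
      ((DerivedCategory.singleFunctor (ModuleCat.{u} A) 0).map
        (ModuleCat.ofHom (I ^ k • ⊤ : Submodule A N).subtype))
    dsimp only [Functor.comp_map, Functor.comp_obj] at hnat
    set jN := (DerivedCategory.singleFunctor (ModuleCat.{u} A) 0).map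
        (ModuleCat.ofHom (I ^ k • ⊤ : Submodule A N).subtype) with hjN
    set X1 := (DerivedCategory.singleFunctor (ModuleCat.{u} A) 0).map (ModuleCat.ofHom (R := A) (X := ↥(LinearMap.ker πn)) (Y := ↥(I ^ (k + c₂) • ⊤ : Submodule A ↥(LinearMap.ker π))) am) ≫ ξ' with hX1
    have e1 : X1 ≫ jN⟦(q : ℤ)⟧' =
        (DerivedCategory.singleFunctor (ModuleCat.{u} A) 0).map (ModuleCat.ofHom (R := A) (X := ↥(LinearMap.ker πn)) (Y := ↥(LinearMap.ker π)) τ₁) ≫ ξ := by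
      rw [hX1, Category.assoc, hξ', ← Category.assoc, ← Functor.map_comp, ham]
    have comm₃' : hS'.singleδ ≫ ((DerivedCategory.singleFunctor (ModuleCat.{u} A) 0).map
        (ModuleCat.ofHom (R := A) (X := ↥(LinearMap.ker πn)) (Y := ↥(LinearMap.ker π)) τ₁))⟦(1 : ℤ)⟧' =
        (DerivedCategory.singleFunctor (ModuleCat.{u} A) 0).map
          (ModuleCat.ofHom (I ^ n • ⊤ : Submodule A M).subtype) ≫ hS.singleδ := comm₃
    calc (hS'.singleδ ≫ X1⟦(1 : ℤ)⟧' ≫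
          (shiftFunctorAdd' (DerivedCategory (ModuleCat.{u} A)) (q : ℤ) 1 ((q + 1 : ℕ) : ℤ) hq).inv.app _) ≫
          jN⟦((q + 1 : ℕ) : ℤ)⟧'
        = hS'.singleδ ≫ X1⟦(1 : ℤ)⟧' ≫
          ((shiftFunctorAdd' (DerivedCategory (ModuleCat.{u} A)) (q : ℤ) 1 ((q + 1 : ℕ) : ℤ) hq).inv.app _ ≫
          jN⟦((q + 1 : ℕ) : ℤ)⟧') := by simp only [Category.assoc]
      _ = hS'.singleδ ≫ X1⟦(1 : ℤ)⟧' ≫ ((jN⟦(q : ℤ)⟧')⟦(1 : ℤ)⟧' ≫
          (shiftFunctorAdd' (DerivedCategory (ModuleCat.{u} A)) (q : ℤ) 1 ((q + 1 : ℕ) : ℤ) hq).inv.app _) := by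
        rw [hnat]
      _ = hS'.singleδ ≫ (X1 ≫ jN⟦(q : ℤ)⟧')⟦(1 : ℤ)⟧' ≫
          (shiftFunctorAdd' (DerivedCategory (ModuleCat.{u} A)) (q : ℤ) 1 ((q + 1 : ℕ) : ℤ) hq).inv.app _ := by
        simp only [Functor.map_comp, Category.assoc]
      _ = hS'.singleδ ≫ ((DerivedCategory.singleFunctor (ModuleCat.{u} A) 0).map (ModuleCat.ofHom (R := A) (X := ↥(LinearMap.ker πn)) (Y := ↥(LinearMap.ker π)) τ₁) ≫ ξ)⟦(1 : ℤ)⟧' ≫
          (shiftFunctorAdd' (DerivedCategory (ModuleCat.{u} A)) (q : ℤ) 1 ((q + 1 : ℕ) : ℤ) hq).inv.app _ :=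
        congrArg (fun t => hS'.singleδ ≫ t⟦(1 : ℤ)⟧' ≫
          (shiftFunctorAdd' (DerivedCategory (ModuleCat.{u} A)) (q : ℤ) 1 ((q + 1 : ℕ) : ℤ) hq).inv.app
            (Dual.inD A N)) e1
      _ = (hS'.singleδ ≫ ((DerivedCategory.singleFunctor (ModuleCat.{u} A) 0).map (ModuleCat.ofHom (R := A) (X := ↥(LinearMap.ker πn)) (Y := ↥(LinearMap.ker π)) τ₁))⟦(1 : ℤ)⟧') ≫ ξ⟦(1 : ℤ)⟧' ≫
          (shiftFunctorAdd' (DerivedCategory (ModuleCat.{u} A)) (q : ℤ) 1 ((q + 1 : ℕ) : ℤ) hq).inv.app _ := by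
        simp only [Functor.map_comp, Category.assoc]
      _ = (DerivedCategory.singleFunctor (ModuleCat.{u} A) 0).map
          (ModuleCat.ofHom (I ^ n • ⊤ : Submodule A M).subtype) ≫ e := by
        rw [comm₃', Category.assoc, ← hξ]

/-- S7148. -/
theorem ext_artin_rees [IsNoetherianRing A] (I : Ideal A)
    (M N : Type u) [AddCommGroup M] [Module A M] [Module.Finite A M] [AddCommGroup N] [Module A N]
    (p : ℕ) :
    ∃ c : ℕ, ∀ n : ℕ, c ≤ n →
      ∀ e : Dual.inD A M ⟶ (Dual.inD A N)⟦(p : ℤ)⟧,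
        ∃ e' : Dual.inD A ↥(I ^ n • ⊤ : Submodule A M) ⟶
            (Dual.inD A ↥(I ^ (n - c) • ⊤ : Submodule A N))⟦(p : ℤ)⟧,
          e' ≫ ((DerivedCategory.singleFunctor (ModuleCat.{u} A) 0).map
                  (ModuleCat.ofHom (I ^ (n - c) • ⊤ : Submodule A N).subtype))⟦(p : ℤ)⟧' =
            (DerivedCategory.singleFunctor (ModuleCat.{u} A) 0).map
                (ModuleCat.ofHom (I ^ n • ⊤ : Submodule A M).subtype) ≫ e := by
  obtain ⟨c, hc⟩ := ext_artin_rees_aux I N p M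
  exact ⟨c, fun n hn e => hc n (n - c) (le_of_eq (Nat.sub_add_cancel hn)) e⟩

end Groth.Agent.Lib.DMod_helper6
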