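import Mathlib
import Groth.Prelude.Def_DRing2
import Groth.Prelude.Def_DDual2
import Groth.Prelude.Def_Wider
import Groth.Agent.Lib.DMod66_helper6
import Groth.Agent.Lib.DMod74_helper6
import Groth.Agent.Lib.DMod13_helper6
import Groth.Agent.Lib.DMod2_helper6

/-!
# Derived category toolkit (helper6), part 86: for a normalized dualizing complex `ω` over a
noetherian local ring, `Ext^i(M, ω) = 0` for `i > 0` and every finite module `M`; consequently
`Hom(N, ω[i]) = 0` for `N ∈ D^{≥ 0}` and `i > 0` (S19132).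
-/

set_option autoImplicit false
universe u
open CategoryTheory CategoryTheory.Limits DerivedCategory Pretriangulated ZeroObject
attribute [local instance] HasDerivedCategory.standard

namespace Groth.Agent.Lib.DMod_helper6

open DRing

variable {A : Type u} [CommRing A]

/-- `Ext^i(N, ω) = 0` for all `i > 0`. -/
def ExtVanish (ω : Dual.D A) (N : Type u) [AddCommGroup N] [Module A N] : Prop :=
  ∀ i : ℤ, 0 < i → Subsingleton (Dual.inD A N ⟶ ω⟦i⟧)

lemma extVanish_of_subsingleton (ω : Dual.D A) (N : Type u) [AddCommGroup N] [Module A N]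
    [Subsingleton N] : ExtVanish ω N := by
  intro i _
  have hz : IsZero (Dual.inD A N) :=
    (DerivedCategory.singleFunctor (ModuleCat.{u} A) 0).map_isZero
      (ModuleCat.isZero_of_subsingleton _)
  exact ⟨fun f g => hz.eq_of_src f g⟩

lemma extVanish_of_linearEquiv (ω : Dual.D A) {N N' : Type u} [AddCommGroup N] [Module A N]
    [AddCommGroup N'] [Module A N'] (e : N ≃ₗ[A] N') (h : ExtVanish ω N) : ExtVanish ω N' := by
  intro i hi
  haveI := h i hi
  let iso : Dual.inD A N ≅ Dual.inD A N' :=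
    (DerivedCategory.singleFunctor (ModuleCat.{u} A) 0).mapIso e.toModuleIso
  refine ⟨fun a b => ?_⟩
  rw [← cancel_epi iso.hom]
  exact Subsingleton.elim _ _

/-- the short complex given by linear maps with `Function.Exact` -/
noncomputable abbrev linSC {N₁ N₂ N₃ : Type u} [AddCommGroup N₁] [Module A N₁] [AddCommGroup N₂]
    [Module A N₂] [AddCommGroup N₃] [Module A N₃] (f : N₁ →ₗ[A] N₂) (g : N₂ →ₗ[A] N₃)
    (hfg : Function.Exact f g) : ShortComplex (ModuleCat.{u} A) :=
  ShortComplex.mk (ModuleCat.ofHom f) (ModuleCat.ofHom g)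
    (by ext x; exact hfg.apply_apply_eq_zero x)

lemma linSC_shortExact {N₁ N₂ N₃ : Type u} [AddCommGroup N₁] [Module A N₁] [AddCommGroup N₂]
    [Module A N₂] [AddCommGroup N₃] [Module A N₃] (f : N₁ →ₗ[A] N₂) (g : N₂ →ₗ[A] N₃)
    (hfg : Function.Exact f g) (hf : Function.Injective f) (hg : Function.Surjective g) :
    (linSC f g hfg).ShortExact :=
  ModuleCat.shortComplex_shortExact _ hfg hf hg

lemma extVanish_of_exact (ω : Dual.D A) {N₁ N₂ N₃ : Type u} [AddCommGroup N₁] [Module A N₁]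
    [AddCommGroup N₂] [Module A N₂] [AddCommGroup N₃] [Module A N₃] (f : N₁ →ₗ[A] N₂)
    (g : N₂ →ₗ[A] N₃) (hf : Function.Injective f) (hg : Function.Surjective g)
    (hfg : Function.Exact f g) (h1 : ExtVanish ω N₁) (h3 : ExtVanish ω N₃) :
    ExtVanish ω N₂ := by
  intro i hi
  have hS := linSC_shortExact f g hfg hf hg
  have hT := hS.singleTriangle_distinguished
  refine subsingleton_of_forall_eq 0 (fun φ => ?_)
  obtain ⟨ψ, hψ⟩ : ∃ ψ : Dual.inD A N₃ ⟶ ω⟦i⟧,
      φ = (DerivedCategory.singleFunctor (ModuleCat.{u} A) 0).map (ModuleCat.ofHom g) ≫ ψ :=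
    Pretriangulated.Triangle.yoneda_exact₂ _ hT φ (@Subsingleton.elim _ (h1 i hi) _ _)
  rw [hψ, @Subsingleton.elim _ (h3 i hi) ψ 0, comp_zero]

lemma extVanish_of_ann [IsNoetherianRing A] (ω : Dual.D A) (J : Ideal A)
    (hJ : ∀ q : PrimeSpectrum A, J ≤ q.asIdeal → ExtVanish ω (A ⧸ q.asIdeal))
    (N : Type u) [AddCommGroup N] [Module A N] [hN : Module.Finite A N]
    (hann : ∀ a ∈ J, ∀ n : N, a • n = 0) : ExtVanish ω N := by
  revert hann
  induction hN using IsNoetherianRing.induction_on_isQuotientEquivQuotientPrime A with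
  | subsingleton N => intro _; exact extVanish_of_subsingleton ω N
  | quotient N p e =>
    intro hann
    refine extVanish_of_linearEquiv ω e.symm (hJ p ?_)
    intro a ha
    have h1 : a • e.symm (1 : A ⧸ p.1) = 0 := hann a ha _
    rw [← map_smul, LinearEquiv.map_eq_zero_iff] at h1
    have h2 : Ideal.Quotient.mk p.1 a = 0 := by
      rw [← h1, Algebra.smul_def, mul_one]; rfl
    exact Ideal.Quotient.eq_zero_iff_mem.1 h2
  | exact N₁ N₂ N₃ f g hf hg hfg h₁ h₃ =>
    intro hann
    refine extVanish_of_exact ω f g hf hg hfg (h₁ ?_) (h₃ ?_)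
    · intro a ha n
      apply hf
      rw [map_smul, hann a ha, map_zero]
    · intro a ha n
      obtain ⟨m, rfl⟩ := hg n
      rw [← map_smul, hann a ha, map_zero]

lemma finite_HD_inD (N : Type u) [AddCommGroup N] [Module A N] [hN : Module.Finite A N] (j : ℤ) :
    Module.Finite A (Dual.HD A (Dual.inD A N) j) := by
  by_cases hj : j = 0
  · subst hj
    exact finite_of_iso (HDinDIso (ModuleCat.of A N)).symm hN
  · haveI : Subsingleton (Dual.HD A (Dual.inD A N) j) :=
      ModuleCat.subsingleton_of_isZero (isZero_HD_inD _ j hj)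
    exact Module.Finite.of_finite

lemma hasFiniteInjDim_of_isDualizing (ω : Dual.D A) (hω : Dual.IsDualizing A ω) :
    HasFiniteInjDim A ω := by
  obtain ⟨a, b, hab⟩ := hω.finite_injective_dimension
  exact ⟨a, b, hasInjAmplitudeIn_of_hom_quot_vanishing ω a b (fun I i hi => hab (A ⧸ I) i hi)⟩

/-- key step: `x ∈ m` injective on the finite module `M` with cokernel `N₃`:
`Ext^{>0}(N₃, ω) = 0` implies `Ext^{>0}(M, ω) = 0` (Nakayama). -/
lemma extVanish_of_regular [IsLocalRing A] [IsNoetherianRing A] (ω : Dual.D A)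
    (hω : Dual.IsDualizing A ω)
    {M N₃ : Type u} [AddCommGroup M] [Module A M] [Module.Finite A M] [AddCommGroup N₃]
    [Module A N₃] (x : A) (hx : x ∈ IsLocalRing.maximalIdeal A) (g : M →ₗ[A] N₃)
    (hinj : Function.Injective (x • (LinearMap.id : M →ₗ[A] M)))
    (hg : Function.Surjective g) (hfg : Function.Exact (x • (LinearMap.id : M →ₗ[A] M)) g)
    (h3 : ExtVanish ω N₃) : ExtVanish ω M := by
  intro i hi
  have hS := linSC_shortExact (x • (LinearMap.id : M →ₗ[A] M)) g hfg hinj hg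
  have hT := hS.singleTriangle_distinguished
  haveI : Module.Finite A (Dual.inD A M ⟶ ω⟦i⟧) :=
    hom_finite_of_finiteInjDim (Dual.inD A M) ω (finite_HD_inD M) hω.finite_cohomology
      (hasFiniteInjDim_of_isDualizing ω hω) i
  have hmap : (DerivedCategory.singleFunctor (ModuleCat.{u} A) 0).map
      (ModuleCat.ofHom (x • (LinearMap.id : M →ₗ[A] M))) = x • 𝟙 (Dual.inD A M) := by
    have : ModuleCat.ofHom (x • (LinearMap.id : M →ₗ[A] M)) = x • 𝟙 (ModuleCat.of A M) := by
      ext m
      rfl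
    rw [this, Functor.map_smul, CategoryTheory.Functor.map_id]
  have hsurj : ∀ φ : Dual.inD A M ⟶ ω⟦i⟧, ∃ ψ : Dual.inD A M ⟶ ω⟦i⟧, φ = x • ψ := by
    intro φ
    let e : ω⟦i + 1⟧ ≅ (ω⟦i⟧)⟦(1 : ℤ)⟧ := (shiftFunctorAdd' (Dual.D A) i 1 (i + 1) rfl).app ω
    haveI := h3 (i + 1) (by omega)
    have h0 : hS.singleδ ≫ φ⟦(1 : ℤ)⟧' = 0 := by
      rw [← cancel_mono e.inv, zero_comp]
      exact Subsingleton.elim _ _
    obtain ⟨γ, hγ⟩ : ∃ γ : (Dual.inD A M)⟦(1 : ℤ)⟧ ⟶ (ω⟦i⟧)⟦(1 : ℤ)⟧,
        φ⟦(1 : ℤ)⟧' = (-((DerivedCategory.singleFunctor (ModuleCat.{u} A) 0).map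
          (ModuleCat.ofHom (x • (LinearMap.id : M →ₗ[A] M))))⟦(1 : ℤ)⟧') ≫ γ :=
      Pretriangulated.Triangle.yoneda_exact₃ _ (rot_of_distTriang _ hT) (φ⟦(1 : ℤ)⟧') h0
    obtain ⟨γ', rfl⟩ := (shiftFunctor (Dual.D A) (1 : ℤ)).map_surjective γ
    refine ⟨-γ', ?_⟩
    apply (shiftFunctor (Dual.D A) (1 : ℤ)).map_injective
    rw [hγ, hmap]
    simp only [Functor.map_smul, Functor.map_neg, CategoryTheory.Functor.map_id, Preadditive.neg_comp,
      Linear.smul_comp, Category.id_comp, smul_neg]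
  have htop : (⊤ : Submodule A (Dual.inD A M ⟶ ω⟦i⟧)) = ⊥ := by
    refine Submodule.eq_bot_of_le_smul_of_le_jacobson_bot (IsLocalRing.maximalIdeal A) ⊤
      Module.Finite.fg_top ?_ (IsLocalRing.maximalIdeal_le_jacobson ⊥)
    intro φ _
    obtain ⟨ψ, rfl⟩ := hsurj φ
    exact Submodule.smul_mem_smul hx Submodule.mem_top
  refine subsingleton_of_forall_eq 0 (fun φ => ?_)
  have hφ : φ ∈ (⊥ : Submodule A (Dual.inD A M ⟶ ω⟦i⟧)) := htop ▸ Submodule.mem_top
  exact (Submodule.mem_bot A).1 hφ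

/-- `A ⧸ m` and the residue field as `A`-modules -/
noncomputable def resEquiv [IsLocalRing A] :
    (A ⧸ IsLocalRing.maximalIdeal A) ≃ₗ[A] IsLocalRing.ResidueField A :=
  AddEquiv.toLinearEquiv
    (show (A ⧸ IsLocalRing.maximalIdeal A) ≃+ IsLocalRing.ResidueField A from AddEquiv.refl _)
    (fun _ _ => rfl)

theorem extVanish_quot_prime [IsLocalRing A] [IsNoetherianRing A] (ω : Dual.D A)
    (hω : Dual.IsDualizing A ω) (hn : Dual.IsNormalized A ω) (p : Ideal A) (hp : p.IsPrime) :
    ExtVanish ω (A ⧸ p) := by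
  revert hp
  induction p using IsNoetherian.induction with
  | hgt p ih =>
    intro hp
    by_cases hpm : p = IsLocalRing.maximalIdeal A
    · subst hpm
      refine extVanish_of_linearEquiv ω resEquiv.symm ?_
      intro i hi
      exact hn i (ne_of_gt hi)
    · have hle : p ≤ IsLocalRing.maximalIdeal A := IsLocalRing.le_maximalIdeal hp.ne_top
      have hlt : p < IsLocalRing.maximalIdeal A := lt_of_le_of_ne hle hpm
      obtain ⟨x, hxm, hxp⟩ := SetLike.exists_of_lt hlt
      have hxJ : x ∈ p ⊔ Ideal.span {x} :=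
        Ideal.mem_sup_right (Ideal.mem_span_singleton_self x)
      have hpJ : p < p ⊔ Ideal.span {x} := by
        refine lt_of_le_of_ne le_sup_left (fun h => hxp ?_)
        rw [h]; exact hxJ
      have h3 : ExtVanish ω (A ⧸ (p ⊔ Ideal.span {x})) := by
        refine extVanish_of_ann ω (p ⊔ Ideal.span {x})
          (fun q hq => ih q.asIdeal (lt_of_lt_of_le hpJ hq) q.isPrime) _ ?_
        intro r hr n
        obtain ⟨b, rfl⟩ := Ideal.Quotient.mk_surjective n
        show Ideal.Quotient.mk (p ⊔ Ideal.span {x}) (r * b) = 0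
        exact Ideal.Quotient.eq_zero_iff_mem.2 (Ideal.mul_mem_right b _ hr)
      have hinj : Function.Injective (x • LinearMap.id : A ⧸ p →ₗ[A] A ⧸ p) := by
        refine (injective_iff_map_eq_zero _).2 (fun y hy => ?_)
        obtain ⟨c, rfl⟩ := Ideal.Quotient.mk_surjective y
        have h' : Ideal.Quotient.mk p (x * c) = 0 := hy
        rcases hp.mem_or_mem (Ideal.Quotient.eq_zero_iff_mem.1 h') with h | h
        · exact absurd h hxp
        · exact Ideal.Quotient.eq_zero_iff_mem.2 h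
      have hfg : Function.Exact (x • LinearMap.id : A ⧸ p →ₗ[A] A ⧸ p)
          (Submodule.factor hpJ.le) := by
        intro y
        constructor
        · intro h
          obtain ⟨c, rfl⟩ := Ideal.Quotient.mk_surjective y
          have h' : Ideal.Quotient.mk (p ⊔ Ideal.span {x}) c = 0 := h
          have hcJ : c ∈ p ⊔ Ideal.span {x} := Ideal.Quotient.eq_zero_iff_mem.1 h'
          obtain ⟨b, hb, c', hc', rfl⟩ := Submodule.mem_sup.1 hcJ
          obtain ⟨d, rfl⟩ := Ideal.mem_span_singleton'.1 hc'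
          refine ⟨Ideal.Quotient.mk p d, ?_⟩
          show Ideal.Quotient.mk p (x * d) = Ideal.Quotient.mk p (b + d * x)
          rw [Ideal.Quotient.eq]
          have : x * d - (b + d * x) = -b := by ring
          rw [this]; exact p.neg_mem hb
        · rintro ⟨z, rfl⟩
          obtain ⟨d, rfl⟩ := Ideal.Quotient.mk_surjective z
          show Ideal.Quotient.mk (p ⊔ Ideal.span {x}) (x * d) = 0
          exact Ideal.Quotient.eq_zero_iff_mem.2 (Ideal.mul_mem_right d _ hxJ)
      exact extVanish_of_regular ω hω x hxm (Submodule.factor hpJ.le) hinj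
        (Submodule.factor_surjective hpJ.le) hfg h3

/-- S19132. -/
theorem hom_shift_dualizing_subsingleton_of_isGE [IsLocalRing A] [IsNoetherianRing A]
    (ω : Dual.D A) (hω : Dual.IsDualizing A ω) (hn : Dual.IsNormalized A ω) (N : Dual.D A)
    (hge : ∀ i : ℤ, i < 0 → Subsingleton (Dual.HD A N i)) (i : ℤ) (hi : 0 < i) :
    Subsingleton (N ⟶ ω⟦i⟧) := by
  obtain ⟨a, b, hab⟩ := hω.finite_injective_dimension
  have hvan : ∀ (M : Type u) [AddCommGroup M] [Module A M] [Module.Finite A M],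
      ExtVanish ω M := by
    intro M _ _ _
    refine extVanish_of_ann ω ⊥
      (fun q _ => extVanish_quot_prime ω hω hn q.asIdeal q.isPrime) M ?_
    intro r hr n
    rw [(Submodule.mem_bot A).1 hr, zero_smul]
  have hamp : HasInjAmplitudeIn A a 0 ω := by
    refine hasInjAmplitudeIn_of_hom_quot_vanishing ω a 0 (fun I j hj => ?_)
    rcases hj with hj | hj
    · exact hab (A ⧸ I) j (Or.inl hj)
    · exact hvan (A ⧸ I) j hj
  haveI : DerivedCategory.IsGE N 0 := by
    rw [DerivedCategory.isGE_iff]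
    intro j hj
    haveI := hge j hj
    exact ModuleCat.isZero_of_subsingleton _
  exact subsingleton_of_forall_eq 0 (fun φ =>
    hom_eq_zero_of_isGE_of_hasInjAmplitudeIn ω a 0 hamp N 0 i (by omega) φ)

end Groth.Agent.Lib.DMod_helper6
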