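import Mathlib
import Groth.Prelude.Def_DRing2
import Groth.Prelude.Def_DDual2
import Groth.Prelude.Def_Wider
import Groth.Prelude.Def_CAlg
import Groth.Agent.Lib.DMod86_helper6
import Groth.Agent.Lib.DMod72_helper6

/-!
# Derived category toolkit (helper6), part 87: depth of a finite module over a noetherian local
ring with normalized dualizing complex `ω` is the least `δ` with `Ext^{-δ}(M, ω) ≠ 0`
(S0367, S0365).
-/

set_option autoImplicit false
universe u
open CategoryTheory CategoryTheory.Limits DerivedCategory Pretriangulated ZeroObject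
open scoped Pointwise
attribute [local instance] HasDerivedCategory.standard

namespace Groth.Agent.Lib.DMod_helper6

open DRing

variable {A : Type u} [CommRing A]

section LES

variable (ω : Dual.D A) {N₁ N₂ N₃ : Type u} [AddCommGroup N₁] [Module A N₁] [AddCommGroup N₂]
  [Module A N₂] [AddCommGroup N₃] [Module A N₃] (f : N₁ →ₗ[A] N₂) (g : N₂ →ₗ[A] N₃)
  (hf : Function.Injective f) (hg : Function.Surjective g) (hfg : Function.Exact f g)

include hf hg hfg

/-- exactness of `Ext^i(N₃, ω) → Ext^i(N₂, ω) → Ext^i(N₁, ω)` -/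
lemma les_mid (i : ℤ) (φ : Dual.inD A N₂ ⟶ ω⟦i⟧)
    (h : (DerivedCategory.singleFunctor (ModuleCat.{u} A) 0).map (ModuleCat.ofHom f) ≫ φ = 0) :
    ∃ ψ : Dual.inD A N₃ ⟶ ω⟦i⟧,
      φ = (DerivedCategory.singleFunctor (ModuleCat.{u} A) 0).map (ModuleCat.ofHom g) ≫ ψ :=
  Pretriangulated.Triangle.yoneda_exact₂ _
    (linSC_shortExact f g hfg hf hg).singleTriangle_distinguished φ h

/-- `Ext^i(N₂, ω) → Ext^i(N₁, ω)` is surjective when `Ext^{i+1}(N₃, ω) = 0` -/
lemma les_left_surj (i j : ℤ) (hij : i + 1 = j) (h3 : Subsingleton (Dual.inD A N₃ ⟶ ω⟦j⟧))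
    (φ : Dual.inD A N₁ ⟶ ω⟦i⟧) :
    ∃ ψ : Dual.inD A N₂ ⟶ ω⟦i⟧,
      φ = (DerivedCategory.singleFunctor (ModuleCat.{u} A) 0).map (ModuleCat.ofHom f) ≫ ψ := by
  subst hij
  have hS := linSC_shortExact f g hfg hf hg
  have hT := hS.singleTriangle_distinguished
  let e : ω⟦i + 1⟧ ≅ (ω⟦i⟧)⟦(1 : ℤ)⟧ := (shiftFunctorAdd' (Dual.D A) i 1 (i + 1) rfl).app ω
  have h0 : hS.singleδ ≫ φ⟦(1 : ℤ)⟧' = 0 := by
    rw [← cancel_mono e.inv, zero_comp]
    exact @Subsingleton.elim _ h3 _ _
  obtain ⟨γ, hγ⟩ : ∃ γ : (Dual.inD A N₂)⟦(1 : ℤ)⟧ ⟶ (ω⟦i⟧)⟦(1 : ℤ)⟧,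
      φ⟦(1 : ℤ)⟧' = (-((DerivedCategory.singleFunctor (ModuleCat.{u} A) 0).map
        (ModuleCat.ofHom f))⟦(1 : ℤ)⟧') ≫ γ :=
    Pretriangulated.Triangle.yoneda_exact₃ _ (rot_of_distTriang _ hT) (φ⟦(1 : ℤ)⟧') h0
  obtain ⟨γ', rfl⟩ := (shiftFunctor (Dual.D A) (1 : ℤ)).map_surjective γ
  refine ⟨-γ', ?_⟩
  apply (shiftFunctor (Dual.D A) (1 : ℤ)).map_injective
  rw [hγ]
  simp only [Functor.map_neg, Functor.map_comp, Preadditive.neg_comp, Preadditive.comp_neg]

/-- `Ext^i(N₁, ω) = 0` and `Ext^{i+1}(N₂, ω) = 0` imply `Ext^{i+1}(N₃, ω) = 0` -/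
lemma les_right_subsingleton (i j : ℤ) (hij : i + 1 = j)
    (h1 : Subsingleton (Dual.inD A N₁ ⟶ ω⟦i⟧)) (h2 : Subsingleton (Dual.inD A N₂ ⟶ ω⟦j⟧)) :
    Subsingleton (Dual.inD A N₃ ⟶ ω⟦j⟧) := by
  have hS := linSC_shortExact f g hfg hf hg
  refine subsingleton_of_forall_eq 0 (fun e => ?_)
  obtain ⟨ξ, hξ⟩ := exists_factor_singleδ hS ω i j hij
    (fun g' => @Subsingleton.elim _ h2 g' 0) e
  rw [hξ, @Subsingleton.elim _ h1 ξ 0, Functor.map_zero, zero_comp, comp_zero]

end LES

section Regular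

variable [IsLocalRing A] [IsNoetherianRing A] (ω : Dual.D A)

/-- `x ∈ m` injective on the finite module `M` with cokernel `N₃`: `Ext^{i+1}(N₃, ω) = 0`
implies `Ext^i(M, ω) = 0` (Nakayama). -/
lemma subsingleton_of_regular (hω : Dual.IsDualizing A ω)
    {M N₃ : Type u} [AddCommGroup M] [Module A M] [Module.Finite A M] [AddCommGroup N₃]
    [Module A N₃] (x : A) (hx : x ∈ IsLocalRing.maximalIdeal A) (g : M →ₗ[A] N₃)
    (hinj : Function.Injective (x • (LinearMap.id : M →ₗ[A] M)))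
    (hg : Function.Surjective g) (hfg : Function.Exact (x • (LinearMap.id : M →ₗ[A] M)) g)
    (i j : ℤ) (hij : i + 1 = j) (h3 : Subsingleton (Dual.inD A N₃ ⟶ ω⟦j⟧)) :
    Subsingleton (Dual.inD A M ⟶ ω⟦i⟧) := by
  haveI : Module.Finite A (Dual.inD A M ⟶ ω⟦i⟧) :=
    hom_finite_of_finiteInjDim (Dual.inD A M) ω (finite_HD_inD M) hω.finite_cohomology
      (hasFiniteInjDim_of_isDualizing ω hω) i
  have hmap : (DerivedCategory.singleFunctor (ModuleCat.{u} A) 0).map
      (ModuleCat.ofHom (x • (LinearMap.id : M →ₗ[A] M))) = x • 𝟙 (Dual.inD A M) := by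
    have : ModuleCat.ofHom (x • (LinearMap.id : M →ₗ[A] M)) = x • 𝟙 (ModuleCat.of A M) := by
      ext m
      rfl
    rw [this, Functor.map_smul, CategoryTheory.Functor.map_id]
  have hsurj : ∀ φ : Dual.inD A M ⟶ ω⟦i⟧, ∃ ψ : Dual.inD A M ⟶ ω⟦i⟧, φ = x • ψ := by
    intro φ
    obtain ⟨ψ, hψ⟩ := les_left_surj ω _ g hinj hg hfg i j hij h3 φ
    exact ⟨ψ, by rw [hψ, hmap, Linear.smul_comp, Category.id_comp]⟩
  have htop : (⊤ : Submodule A (Dual.inD A M ⟶ ω⟦i⟧)) = ⊥ := by
    refine Submodule.eq_bot_of_le_smul_of_le_jacobson_bot (IsLocalRing.maximalIdeal A) ⊤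
      Module.Finite.fg_top ?_ (IsLocalRing.maximalIdeal_le_jacobson ⊥)
    intro φ _
    obtain ⟨ψ, rfl⟩ := hsurj φ
    exact Submodule.smul_mem_smul hx Submodule.mem_top
  refine subsingleton_of_forall_eq 0 (fun φ => ?_)
  have hφ : φ ∈ (⊥ : Submodule A (Dual.inD A M ⟶ ω⟦i⟧)) := htop ▸ Submodule.mem_top
  exact (Submodule.mem_bot A).1 hφ

omit [IsLocalRing A] [IsNoetherianRing A] in
lemma quotSMulTop_exact (x : A) (M : Type u) [AddCommGroup M] [Module A M] :
    Function.Exact (x • (LinearMap.id : M →ₗ[A] M)) (x • (⊤ : Submodule A M)).mkQ := by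
  intro y
  rw [Submodule.mkQ_apply, Submodule.Quotient.mk_eq_zero, Submodule.mem_smul_pointwise_iff_exists]
  constructor
  · rintro ⟨z, -, rfl⟩
    exact ⟨z, rfl⟩
  · rintro ⟨z, rfl⟩
    exact ⟨z, Submodule.mem_top, rfl⟩

omit [IsLocalRing A] [IsNoetherianRing A] in
lemma injective_of_isSMulRegular {x : A} {M : Type u} [AddCommGroup M] [Module A M]
    (hreg : IsSMulRegular M x) : Function.Injective (x • (LinearMap.id : M →ₗ[A] M)) :=
  fun _ _ h => hreg h

/-- (R1): `Ext^{i+1}(M/xM, ω) = 0` implies `Ext^i(M, ω) = 0`. -/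
lemma subsingleton_of_quotSMulTop (hω : Dual.IsDualizing A ω)
    {M : Type u} [AddCommGroup M] [Module A M] [Module.Finite A M] (x : A)
    (hx : x ∈ IsLocalRing.maximalIdeal A) (hreg : IsSMulRegular M x) (i j : ℤ) (hij : i + 1 = j)
    (h : Subsingleton (Dual.inD A (QuotSMulTop x M) ⟶ ω⟦j⟧)) :
    Subsingleton (Dual.inD A M ⟶ ω⟦i⟧) :=
  subsingleton_of_regular ω hω x hx (x • (⊤ : Submodule A M)).mkQ
    (injective_of_isSMulRegular hreg) (Submodule.mkQ_surjective _) (quotSMulTop_exact x M) i j hij h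

omit [IsLocalRing A] [IsNoetherianRing A] in
/-- (R2): `Ext^i(M, ω) = 0 = Ext^{i+1}(M, ω)` implies `Ext^{i+1}(M/xM, ω) = 0`. -/
lemma subsingleton_quotSMulTop
    {M : Type u} [AddCommGroup M] [Module A M] (x : A) (hreg : IsSMulRegular M x) (i j : ℤ)
    (hij : i + 1 = j) (h1 : Subsingleton (Dual.inD A M ⟶ ω⟦i⟧))
    (h2 : Subsingleton (Dual.inD A M ⟶ ω⟦j⟧)) :
    Subsingleton (Dual.inD A (QuotSMulTop x M) ⟶ ω⟦j⟧) :=
  les_right_subsingleton ω _ (x • (⊤ : Submodule A M)).mkQ
    (injective_of_isSMulRegular hreg) (Submodule.mkQ_surjective _) (quotSMulTop_exact x M) i j hij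
    h1 h2

end Regular

section VanishOn

/-- `Ext^i(N, ω) = 0` for all `i ∈ S`. -/
def ExtVanishOn (S : Set ℤ) (ω : Dual.D A) (N : Type u) [AddCommGroup N] [Module A N] : Prop :=
  ∀ i ∈ S, Subsingleton (Dual.inD A N ⟶ ω⟦i⟧)

variable (S : Set ℤ) (ω : Dual.D A)

lemma extVanishOn_of_subsingleton (N : Type u) [AddCommGroup N] [Module A N]
    [Subsingleton N] : ExtVanishOn S ω N := by
  intro i _
  have hz : IsZero (Dual.inD A N) :=
    (DerivedCategory.singleFunctor (ModuleCat.{u} A) 0).map_isZero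
      (ModuleCat.isZero_of_subsingleton _)
  exact ⟨fun f g => hz.eq_of_src f g⟩

/-- the isomorphism `N[0] ≅ N'[0]` attached to a linear equivalence -/
noncomputable def inDIsoOfLinearEquiv {N N' : Type u} [AddCommGroup N] [Module A N]
    [AddCommGroup N'] [Module A N'] (e : N ≃ₗ[A] N') : Dual.inD A N ≅ Dual.inD A N' :=
  (DerivedCategory.singleFunctor (ModuleCat.{u} A) 0).mapIso e.toModuleIso

lemma subsingleton_hom_of_linearEquiv {N N' : Type u} [AddCommGroup N] [Module A N]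
    [AddCommGroup N'] [Module A N'] (e : N ≃ₗ[A] N') (K : Dual.D A)
    (h : Subsingleton (Dual.inD A N ⟶ K)) : Subsingleton (Dual.inD A N' ⟶ K) := by
  refine ⟨fun a b => ?_⟩
  rw [← cancel_epi (inDIsoOfLinearEquiv e).hom]
  exact Subsingleton.elim _ _

lemma nontrivial_hom_of_linearEquiv {N N' : Type u} [AddCommGroup N] [Module A N]
    [AddCommGroup N'] [Module A N'] (e : N ≃ₗ[A] N') (K : Dual.D A)
    (h : Nontrivial (Dual.inD A N ⟶ K)) : Nontrivial (Dual.inD A N' ⟶ K) := by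
  by_contra hcon
  rw [not_nontrivial_iff_subsingleton] at hcon
  exact not_subsingleton _ (subsingleton_hom_of_linearEquiv e.symm K hcon)

lemma extVanishOn_of_linearEquiv {N N' : Type u} [AddCommGroup N] [Module A N]
    [AddCommGroup N'] [Module A N'] (e : N ≃ₗ[A] N') (h : ExtVanishOn S ω N) :
    ExtVanishOn S ω N' :=
  fun i hi => subsingleton_hom_of_linearEquiv e _ (h i hi)

lemma extVanishOn_of_exact {N₁ N₂ N₃ : Type u} [AddCommGroup N₁] [Module A N₁]
    [AddCommGroup N₂] [Module A N₂] [AddCommGroup N₃] [Module A N₃] (f : N₁ →ₗ[A] N₂)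
    (g : N₂ →ₗ[A] N₃) (hf : Function.Injective f) (hg : Function.Surjective g)
    (hfg : Function.Exact f g) (h1 : ExtVanishOn S ω N₁) (h3 : ExtVanishOn S ω N₃) :
    ExtVanishOn S ω N₂ := by
  intro i hi
  refine subsingleton_of_forall_eq 0 (fun φ => ?_)
  obtain ⟨ψ, hψ⟩ := les_mid ω f g hf hg hfg i φ (@Subsingleton.elim _ (h1 i hi) _ _)
  rw [hψ, @Subsingleton.elim _ (h3 i hi) ψ 0, comp_zero]

lemma extVanishOn_of_ann [IsNoetherianRing A] (J : Ideal A)
    (hJ : ∀ q : PrimeSpectrum A, J ≤ q.asIdeal → ExtVanishOn S ω (A ⧸ q.asIdeal))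
    (N : Type u) [AddCommGroup N] [Module A N] [hN : Module.Finite A N]
    (hann : ∀ a ∈ J, ∀ n : N, a • n = 0) : ExtVanishOn S ω N := by
  revert hann
  induction hN using IsNoetherianRing.induction_on_isQuotientEquivQuotientPrime A with
  | subsingleton N => intro _; exact extVanishOn_of_subsingleton S ω N
  | quotient N p e =>
    intro hann
    refine extVanishOn_of_linearEquiv S ω e.symm (hJ p ?_)
    intro a ha
    have h1 : a • e.symm (1 : A ⧸ p.1) = 0 := hann a ha _
    rw [← map_smul, LinearEquiv.map_eq_zero_iff] at h1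
    have h2 : Ideal.Quotient.mk p.1 a = 0 := by
      rw [← h1, Algebra.smul_def, mul_one]; rfl
    exact Ideal.Quotient.eq_zero_iff_mem.1 h2
  | exact N₁ N₂ N₃ f g hf hg hfg h₁ h₃ =>
    intro hann
    refine extVanishOn_of_exact S ω f g hf hg hfg (h₁ ?_) (h₃ ?_)
    · intro a ha n
      apply hf
      rw [map_smul, hann a ha, map_zero]
    · intro a ha n
      obtain ⟨m, rfl⟩ := hg n
      rw [← map_smul, hann a ha, map_zero]

theorem extVanishOn_quot_prime [IsLocalRing A] [IsNoetherianRing A]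
    (hS : ∀ i ∈ S, i + 1 ∈ S) (hω : Dual.IsDualizing A ω)
    (hk : ExtVanishOn S ω (IsLocalRing.ResidueField A)) (p : Ideal A) (hp : p.IsPrime) :
    ExtVanishOn S ω (A ⧸ p) := by
  revert hp
  induction p using IsNoetherian.induction with
  | hgt p ih =>
    intro hp
    by_cases hpm : p = IsLocalRing.maximalIdeal A
    · subst hpm
      exact extVanishOn_of_linearEquiv S ω resEquiv.symm hk
    · have hle : p ≤ IsLocalRing.maximalIdeal A := IsLocalRing.le_maximalIdeal hp.ne_top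
      have hlt : p < IsLocalRing.maximalIdeal A := lt_of_le_of_ne hle hpm
      obtain ⟨x, hxm, hxp⟩ := SetLike.exists_of_lt hlt
      have hxJ : x ∈ p ⊔ Ideal.span {x} :=
        Ideal.mem_sup_right (Ideal.mem_span_singleton_self x)
      have hpJ : p < p ⊔ Ideal.span {x} := by
        refine lt_of_le_of_ne le_sup_left (fun h => hxp ?_)
        rw [h]; exact hxJ
      have hreg : IsSMulRegular (A ⧸ p) x := by
        refine isSMulRegular_iff_right_eq_zero_of_smul.2 (fun y hy => ?_)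
        obtain ⟨c, rfl⟩ := Ideal.Quotient.mk_surjective y
        have h' : Ideal.Quotient.mk p (x * c) = 0 := hy
        rcases hp.mem_or_mem (Ideal.Quotient.eq_zero_iff_mem.1 h') with h | h
        · exact absurd h hxp
        · exact Ideal.Quotient.eq_zero_iff_mem.2 h
      have h3 : ExtVanishOn S ω (QuotSMulTop x (A ⧸ p)) := by
        refine extVanishOn_of_ann S ω (p ⊔ Ideal.span {x})
          (fun q hq => ih q.asIdeal (lt_of_lt_of_le hpJ hq) q.isPrime) _ ?_
        intro r hr n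
        obtain ⟨b, hb, c, hc, rfl⟩ := Submodule.mem_sup.1 hr
        obtain ⟨d, rfl⟩ := Ideal.mem_span_singleton'.1 hc
        have h1 : b • n = 0 := by
          obtain ⟨y, rfl⟩ := Submodule.mkQ_surjective _ n
          obtain ⟨z, rfl⟩ := Ideal.Quotient.mk_surjective y
          have hz : b • (Ideal.Quotient.mk p z) = 0 :=
            show Ideal.Quotient.mk p (b * z) = 0 from
              Ideal.Quotient.eq_zero_iff_mem.2 (Ideal.mul_mem_right z _ hb)
          rw [← map_smul, hz, map_zero]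
        have h2 : (d * x) • n = 0 := by
          rw [mul_smul, Module.mem_annihilator.1 (QuotSMulTop.mem_annihilator (A ⧸ p) x) n,
            smul_zero]
        rw [add_smul, h1, h2, add_zero]
      intro i hi
      exact subsingleton_of_quotSMulTop ω hω x hxm hreg i (i + 1) rfl (h3 (i + 1) (hS i hi))

theorem extVanishOn_of_finite [IsLocalRing A] [IsNoetherianRing A]
    (hS : ∀ i ∈ S, i + 1 ∈ S) (hω : Dual.IsDualizing A ω)
    (hk : ExtVanishOn S ω (IsLocalRing.ResidueField A))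
    (M : Type u) [AddCommGroup M] [Module A M] [Module.Finite A M] : ExtVanishOn S ω M := by
  refine extVanishOn_of_ann S ω ⊥
    (fun q _ => extVanishOn_quot_prime S ω hS hω hk q.asIdeal q.isPrime) M ?_
  intro r hr n
  rw [(Submodule.mem_bot A).1 hr, zero_smul]

end VanishOn

section Depth

variable [IsLocalRing A] [IsNoetherianRing A] (ω : Dual.D A)

/-- `Ext^i(M, ω) = 0` for `i > 0` and finite `M`. -/
theorem extVanish_of_finite (hω : Dual.IsDualizing A ω) (hn : Dual.IsNormalized A ω)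
    (M : Type u) [AddCommGroup M] [Module A M] [Module.Finite A M] : ExtVanish ω M := by
  refine extVanish_of_ann ω ⊥
    (fun q _ => extVanish_quot_prime ω hω hn q.asIdeal q.isPrime) M ?_
  intro r hr n
  rw [(Submodule.mem_bot A).1 hr, zero_smul]

/-- `Hom(κ, ω) ≠ 0` for a normalized dualizing complex. -/
theorem nontrivial_hom_residueField (hω : Dual.IsDualizing A ω) (hn : Dual.IsNormalized A ω) :
    Nontrivial (Dual.inD A (IsLocalRing.ResidueField A) ⟶ ω⟦(0 : ℤ)⟧) := by
  by_contra hcon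
  rw [not_nontrivial_iff_subsingleton] at hcon
  have hk : ExtVanishOn Set.univ ω (IsLocalRing.ResidueField A) := by
    intro i _
    by_cases hi : i = 0
    · subst hi; exact hcon
    · exact hn i hi
  have hall := extVanishOn_of_finite Set.univ ω (fun i _ => Set.mem_univ _) hω hk
    (A ⧸ (⊥ : Ideal A))
  have hH : ∀ i : ℤ, Subsingleton (Dual.HD A ω i) := fun i =>
    subsingleton_HD_of_hom_quot_bot ω i (hall i (Set.mem_univ i))
  haveI : DerivedCategory.IsGE ω 1 := by
    rw [DerivedCategory.isGE_iff]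
    intro j _
    haveI := hH j
    exact ModuleCat.isZero_of_subsingleton _
  haveI : DerivedCategory.IsLE ω 0 := by
    rw [DerivedCategory.isLE_iff]
    intro j _
    haveI := hH j
    exact ModuleCat.isZero_of_subsingleton _
  have hz : IsZero ω := DerivedCategory.TStructure.t.isZero ω 0 1 (by omega)
  have h1 : (fun a : A => a • 𝟙 ω) 1 = (fun a : A => a • 𝟙 ω) 0 := hz.eq_of_src _ _
  exact one_ne_zero (hω.toEnd_bijective.1 h1)

/-- if no element of `m` is `M`-regular then `Hom(M, ω) ≠ 0`. -/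
theorem nontrivial_ext_zero_of_no_regular (hω : Dual.IsDualizing A ω)
    (hn : Dual.IsNormalized A ω) (M : Type u) [AddCommGroup M] [Module A M] [Module.Finite A M]
    (h : ¬ ∃ x ∈ IsLocalRing.maximalIdeal A, IsSMulRegular M x) :
    Nontrivial (Dual.inD A M ⟶ ω⟦(0 : ℤ)⟧) := by
  have hns : ¬ Subsingleton ((A ⧸ IsLocalRing.maximalIdeal A) →ₗ[A] M) := by
    intro hs
    obtain ⟨r, hr, hreg⟩ := IsSMulRegular.subsingleton_linearMap_iff.1 hs
    rw [Ideal.annihilator_quotient] at hr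
    exact h ⟨r, hr, hreg⟩
  rw [not_subsingleton_iff_nontrivial] at hns
  obtain ⟨f, hf0⟩ := exists_ne (0 : (A ⧸ IsLocalRing.maximalIdeal A) →ₗ[A] M)
  haveI : IsSimpleModule A (A ⧸ IsLocalRing.maximalIdeal A) :=
    isSimpleModule_iff_quot_maximal.2 ⟨IsLocalRing.maximalIdeal A, inferInstance,
      ⟨LinearEquiv.refl A _⟩⟩
  have hinj : Function.Injective f := LinearMap.injective_of_ne_zero hf0
  have hex : Function.Exact f (LinearMap.range f).mkQ := LinearMap.exact_map_mkQ_range f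
  have h1 : Subsingleton (Dual.inD A (M ⧸ LinearMap.range f) ⟶ ω⟦(1 : ℤ)⟧) :=
    extVanish_of_finite ω hω hn _ 1 one_pos
  haveI hk : Nontrivial (Dual.inD A (A ⧸ IsLocalRing.maximalIdeal A) ⟶ ω⟦(0 : ℤ)⟧) :=
    nontrivial_hom_of_linearEquiv resEquiv.symm _ (nontrivial_hom_residueField ω hω hn)
  obtain ⟨φ, hφ⟩ := exists_ne (0 : Dual.inD A (A ⧸ IsLocalRing.maximalIdeal A) ⟶ ω⟦(0 : ℤ)⟧)
  obtain ⟨ψ, hψ⟩ := les_left_surj ω f _ hinj (Submodule.mkQ_surjective _) hex 0 1 rfl h1 φ
  exact ⟨ψ, 0, fun h0 => hφ (by rw [hψ, h0, comp_zero])⟩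

/-- `Ext^i(M, ω) = 0` for `i > -n` and `Ext^{-n}(M, ω) ≠ 0`. -/
def ExtDepth (ω : Dual.D A) (M : Type u) [AddCommGroup M] [Module A M] (n : ℕ) : Prop :=
  (∀ i : ℤ, -(n : ℤ) < i → Subsingleton (Dual.inD A M ⟶ ω⟦i⟧)) ∧
    Nontrivial (Dual.inD A M ⟶ ω⟦(-(n : ℤ))⟧)

lemma not_extDepth_zero_of_regular (hω : Dual.IsDualizing A ω) (hn : Dual.IsNormalized A ω)
    {M : Type u} [AddCommGroup M] [Module A M] [Module.Finite A M] (x : A)
    (hx : x ∈ IsLocalRing.maximalIdeal A) (hreg : IsSMulRegular M x) : ¬ ExtDepth ω M 0 := by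
  rintro ⟨-, hnt⟩
  have h1 : Subsingleton (Dual.inD A (QuotSMulTop x M) ⟶ ω⟦(1 : ℤ)⟧) :=
    extVanish_of_finite ω hω hn (QuotSMulTop x M) 1 one_pos
  have h2 : Subsingleton (Dual.inD A M ⟶ ω⟦(-((0 : ℕ) : ℤ))⟧) :=
    subsingleton_of_quotSMulTop ω hω x hx hreg (-((0 : ℕ) : ℤ)) 1 (by simp) h1
  exact not_subsingleton _ h2

lemma extDepth_quotSMulTop (hω : Dual.IsDualizing A ω)
    {M : Type u} [AddCommGroup M] [Module A M] [Module.Finite A M] (x : A)
    (hx : x ∈ IsLocalRing.maximalIdeal A) (hreg : IsSMulRegular M x) (k : ℕ)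
    (h : ExtDepth ω M (k + 1)) : ExtDepth ω (QuotSMulTop x M) k := by
  obtain ⟨hv, hnt⟩ := h
  refine ⟨fun i hi => ?_, ?_⟩
  · exact subsingleton_quotSMulTop ω x hreg (i - 1) i (by omega)
      (hv (i - 1) (by push_cast; omega)) (hv i (by push_cast; omega))
  · by_contra hcon
    rw [not_nontrivial_iff_subsingleton] at hcon
    have h2 := subsingleton_of_quotSMulTop ω hω x hx hreg (-((k + 1 : ℕ) : ℤ)) (-(k : ℤ))
      (by push_cast; omega) hcon
    exact not_subsingleton _ h2

lemma length_le_of_extDepth (hω : Dual.IsDualizing A ω) (hn : Dual.IsNormalized A ω) :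
    ∀ (rs : List A) (M : Type u) [AddCommGroup M] [Module A M] [Module.Finite A M] (n : ℕ),
      ExtDepth ω M n → RingTheory.Sequence.IsWeaklyRegular M rs →
      (∀ r ∈ rs, r ∈ IsLocalRing.maximalIdeal A) → rs.length ≤ n := by
  intro rs
  induction rs with
  | nil => intros; simp
  | cons x rs ih =>
    intro M _ _ _ n hD hreg hmem
    rw [RingTheory.Sequence.isWeaklyRegular_cons_iff] at hreg
    have hx : x ∈ IsLocalRing.maximalIdeal A := hmem x List.mem_cons_self
    cases n with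
    | zero => exact absurd hD (not_extDepth_zero_of_regular ω hω hn x hx hreg.1)
    | succ k =>
      have := ih (QuotSMulTop x M) k (extDepth_quotSMulTop ω hω x hx hreg.1 k hD) hreg.2
        (fun r hr => hmem r (List.mem_cons_of_mem _ hr))
      simp only [List.length_cons]
      omega

lemma exists_regular_of_extDepth (hω : Dual.IsDualizing A ω) (hn : Dual.IsNormalized A ω) :
    ∀ (n : ℕ) (M : Type u) [AddCommGroup M] [Module A M] [Module.Finite A M],
      ExtDepth ω M n → ∃ rs : List A, RingTheory.Sequence.IsWeaklyRegular M rs ∧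
        (∀ r ∈ rs, r ∈ IsLocalRing.maximalIdeal A) ∧ rs.length = n := by
  intro n
  induction n with
  | zero =>
    intro M _ _ _ _
    exact ⟨[], RingTheory.Sequence.IsWeaklyRegular.nil A M, by simp, rfl⟩
  | succ k ih =>
    intro M _ _ _ hD
    have hreg : ∃ x ∈ IsLocalRing.maximalIdeal A, IsSMulRegular M x := by
      by_contra hcon
      haveI hnt := nontrivial_ext_zero_of_no_regular ω hω hn M hcon
      have := hD.1 0 (by push_cast; omega)
      exact not_subsingleton _ this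
    obtain ⟨x, hx, hreg⟩ := hreg
    obtain ⟨rs, h1, h2, h3⟩ := ih (QuotSMulTop x M) (extDepth_quotSMulTop ω hω x hx hreg k hD)
    refine ⟨x :: rs, (RingTheory.Sequence.isWeaklyRegular_cons_iff M x rs).2 ⟨hreg, h1⟩, ?_, ?_⟩
    · intro r hr
      rcases List.mem_cons.1 hr with rfl | hr
      · exact hx
      · exact h2 r hr
    · simp [h3]

omit [IsLocalRing A] [IsNoetherianRing A] in
lemma nontrivial_of_nontrivial_hom (K : Dual.D A) (M : Type u) [AddCommGroup M] [Module A M]
    (h : Nontrivial (Dual.inD A M ⟶ K)) : Nontrivial M := by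
  by_contra hcon
  rw [not_nontrivial_iff_subsingleton] at hcon
  have hz : IsZero (Dual.inD A M) :=
    (DerivedCategory.singleFunctor (ModuleCat.{u} A) 0).map_isZero
      (ModuleCat.isZero_of_subsingleton _)
  obtain ⟨a, b, hab⟩ := h
  exact hab (hz.eq_of_src a b)

theorem depth_eq_of_extDepth (hω : Dual.IsDualizing A ω) (hn : Dual.IsNormalized A ω)
    (M : Type u) [AddCommGroup M] [Module A M] [Module.Finite A M] (n : ℕ)
    (hD : ExtDepth ω M n) : LocCoh.depth A M = n := by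
  haveI : Nontrivial M := nontrivial_of_nontrivial_hom _ M hD.2
  have htop : IsLocalRing.maximalIdeal A • (⊤ : Submodule A M) ≠ ⊤ :=
    (Submodule.top_ne_ideal_smul_of_le_jacobson_annihilator
      (IsLocalRing.maximalIdeal_le_jacobson _)).symm
  unfold LocCoh.depth LocCoh.idealDepth
  rw [if_neg htop]
  apply le_antisymm
  · refine iSup₂_le (fun rs hrs => ?_)
    exact_mod_cast length_le_of_extDepth ω hω hn rs M n hD hrs.1 hrs.2
  · obtain ⟨rs, h1, h2, h3⟩ := exists_regular_of_extDepth ω hω hn n M hD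
    exact le_iSup₂_of_le rs ⟨h1, h2⟩ (by rw [h3])

/-- some `Ext^i(M, ω)` is nonzero for `M ≠ 0` finite. -/
theorem exists_nontrivial_ext (hω : Dual.IsDualizing A ω) (hn : Dual.IsNormalized A ω)
    (M : Type u) [AddCommGroup M] [Module A M] [Module.Finite A M] [Nontrivial M] :
    ∃ i : ℤ, Nontrivial (Dual.inD A M ⟶ ω⟦i⟧) := by
  suffices H : ∀ (I : Ideal A) (M : Type u) [AddCommGroup M] [Module A M] [Module.Finite A M]
      [Nontrivial M], Module.annihilator A M = I → ∃ i : ℤ, Nontrivial (Dual.inD A M ⟶ ω⟦i⟧) from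
    H _ M rfl
  intro I
  induction I using IsNoetherian.induction with
  | hgt I ih =>
    intro M _ _ _ _ hI
    by_cases hreg : ∃ x ∈ IsLocalRing.maximalIdeal A, IsSMulRegular M x
    · obtain ⟨x, hxm, hx⟩ := hreg
      haveI : Nontrivial (QuotSMulTop x M) :=
        Submodule.Quotient.nontrivial_iff.2
          (Submodule.top_ne_pointwise_smul_of_mem_jacobson_annihilator
            (IsLocalRing.maximalIdeal_le_jacobson _ hxm)).symm
      have hlt : I < Module.annihilator A (QuotSMulTop x M) := by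
        refine lt_of_le_of_ne ?_ ?_
        · intro a ha
          rw [← hI] at ha
          refine Module.mem_annihilator.2 (fun n => ?_)
          obtain ⟨y, rfl⟩ := Submodule.mkQ_surjective _ n
          rw [← map_smul, Module.mem_annihilator.1 ha y, map_zero]
        · intro heq
          have hxI : x ∈ Module.annihilator A M := by
            rw [hI, heq]; exact QuotSMulTop.mem_annihilator M x
          obtain ⟨y, hy⟩ := exists_ne (0 : M)
          exact hy (hx (by
            show x • y = x • 0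
            rw [Module.mem_annihilator.1 hxI y, smul_zero]))
      obtain ⟨i, hi⟩ := ih _ hlt (QuotSMulTop x M) rfl
      by_contra hcon
      push_neg at hcon
      have h1 : Subsingleton (Dual.inD A M ⟶ ω⟦i - 1⟧) := hcon (i - 1)
      have h2 : Subsingleton (Dual.inD A M ⟶ ω⟦i⟧) := hcon i
      exact not_subsingleton _ (subsingleton_quotSMulTop ω x hx (i - 1) i (by omega) h1 h2)
    · exact ⟨0, nontrivial_ext_zero_of_no_regular ω hω hn M hreg⟩

theorem exists_extDepth (hω : Dual.IsDualizing A ω) (hn : Dual.IsNormalized A ω)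
    (M : Type u) [AddCommGroup M] [Module A M] [Module.Finite A M] [Nontrivial M] :
    ∃ n : ℕ, ExtDepth ω M n := by
  obtain ⟨i₀, hi₀⟩ := exists_nontrivial_ext ω hω hn M
  have hbd : ∀ z : ℤ, Nontrivial (Dual.inD A M ⟶ ω⟦z⟧) → z ≤ 0 := by
    intro z hz
    by_contra hlt
    push_neg at hlt
    exact not_subsingleton _ (extVanish_of_finite ω hω hn M z hlt)
  obtain ⟨ub, hub, hmax⟩ := Int.exists_greatest_of_bdd
    (P := fun i => Nontrivial (Dual.inD A M ⟶ ω⟦i⟧)) ⟨0, hbd⟩ ⟨i₀, hi₀⟩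
  have hub0 : ub ≤ 0 := hbd ub hub
  refine ⟨(-ub).toNat, fun i hi => ?_, ?_⟩
  · by_contra hcon
    rw [not_subsingleton_iff_nontrivial] at hcon
    have := hmax i hcon
    omega
  · have h : (-(((-ub).toNat : ℕ) : ℤ)) = ub := by omega
    rw [h]
    exact hub

/-- S0367. -/
theorem depth_eq_iff_ext (hω : Dual.IsDualizing A ω) (hn : Dual.IsNormalized A ω)
    (M : Type u) [AddCommGroup M] [Module A M] [Module.Finite A M] [Nontrivial M] (n : ℕ) :
    LocCoh.depth A M = n ↔
      ((∀ δ : ℕ, δ < n → Subsingleton (Dual.inD A M ⟶ ω⟦(-(δ : ℤ))⟧)) ∧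
        Nontrivial (Dual.inD A M ⟶ ω⟦(-(n : ℤ))⟧)) := by
  constructor
  · intro h
    obtain ⟨n', hD⟩ := exists_extDepth ω hω hn M
    have h' := depth_eq_of_extDepth ω hω hn M n' hD
    have hnn : n = n' := by
      rw [h] at h'
      exact_mod_cast h'
    subst hnn
    exact ⟨fun δ hδ => hD.1 _ (by omega), hD.2⟩
  · rintro ⟨h1, h2⟩
    refine depth_eq_of_extDepth ω hω hn M n ⟨fun i hi => ?_, h2⟩
    by_cases hi0 : 0 < i
    · exact extVanish_of_finite ω hω hn M i hi0
    · have h : i = -(((-i).toNat : ℕ) : ℤ) := by omega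
      rw [h]
      exact h1 _ (by omega)

end Depth

end Groth.Agent.Lib.DMod_helper6
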