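import Mathlib
import Groth.Prelude.Def_DRing2
import Groth.Prelude.Def_DDual2
import Groth.Prelude.Def_Wider
import Groth.Prelude.Def_CAlg
import Groth.Agent.Lib.DMod87_helper6
import Groth.Agent.Lib.DMod14_helper6
import Groth.Agent.Lib.DerivedTrunc_helper2

/-!
# Derived category toolkit (helper6), part 88: `Hom(A[0], K[i]) = 0 ↔ H^i(K) = 0`;
depth of a noetherian local ring via the cohomology of a normalized dualizing complex (S0365);
vanishing of `Ext^i(M, ω)` below `-dim M`; Cohen–Macaulay criterion (S0368).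
-/

set_option autoImplicit false
universe u
open CategoryTheory CategoryTheory.Limits DerivedCategory Pretriangulated ZeroObject
open scoped Pointwise
attribute [local instance] HasDerivedCategory.standard

namespace Groth.Agent.Lib.DMod_helper6

open DRing Groth.Agent.Lib.DerivedTrunc_helper2

variable {A : Type u} [CommRing A]

section HomSelf

lemma hom_inD_self_eq_zero_of_subsingleton_HD (K : Dual.D A)
    (h : Subsingleton (Dual.HD A K 0)) (g : Dual.inD A A ⟶ K) : g = 0 := by
  have hT := (tt (ModuleCat.{u} A)).triangleLEGT_distinguished 0 K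
  have h0 : g ≫ ((tt (ModuleCat.{u} A)).truncGTπ 0).app K = 0 :=
    (tt (ModuleCat.{u} A)).zero _ 0 (0 + 1) (by omega)
  obtain ⟨g', hg'⟩ : ∃ g' : Dual.inD A A ⟶ ((tt (ModuleCat.{u} A)).truncLE 0).obj K,
      g = g' ≫ ((tt (ModuleCat.{u} A)).truncLEι 0).app K :=
    Triangle.coyoneda_exact₂ _ hT g h0
  haveI : DerivedCategory.IsLE (((tt (ModuleCat.{u} A)).truncLE 0).obj K) (-1) := by
    rw [DerivedCategory.isLE_iff]
    intro i hi
    by_cases hi0 : i = 0
    · subst hi0
      haveI := isIso_homology_map_truncLEι K 0 0 le_rfl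
      have hz : IsZero ((homologyFunctor (ModuleCat.{u} A) 0).obj K) :=
        ModuleCat.isZero_of_subsingleton _
      exact IsZero.of_iso hz
        (asIso ((homologyFunctor (ModuleCat.{u} A) 0).map
          (((tt (ModuleCat.{u} A)).truncLEι 0).app K)))
    · exact isZero_homology_truncLE K 0 i (by omega)
  haveI : Projective (ModuleCat.of A A) := (IsProjective.iff_projective (R := A) A).1 inferInstance
  have hg0 : g' = 0 := hom_single_eq_zero (ModuleCat.of A A) _ g'
  rw [hg', hg0, zero_comp]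

lemma subsingleton_HD_shift_zero_iff (K : Dual.D A) (i : ℤ) :
    Subsingleton (Dual.HD A (K⟦i⟧) 0) ↔ Subsingleton (Dual.HD A K i) := by
  have e : (homologyFunctor (ModuleCat.{u} A) 0).obj (K⟦i⟧) ≅
      (homologyFunctor (ModuleCat.{u} A) i).obj K :=
    ((homologyFunctor (ModuleCat.{u} A) 0).shiftIso i 0 i (add_zero i)).app K
  constructor
  · intro h
    exact ModuleCat.subsingleton_of_isZero (IsZero.of_iso (ModuleCat.isZero_of_subsingleton _) e.symm)
  · intro h
    exact ModuleCat.subsingleton_of_isZero (IsZero.of_iso (ModuleCat.isZero_of_subsingleton _) e)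

theorem subsingleton_hom_inD_self_iff (K : Dual.D A) (i : ℤ) :
    Subsingleton (Dual.inD A A ⟶ K⟦i⟧) ↔ Subsingleton (Dual.HD A K i) := by
  constructor
  · intro h
    exact subsingleton_HD_of_hom_quot_bot K i
      (subsingleton_hom_of_linearEquiv (Submodule.quotEquivOfEqBot (⊥ : Ideal A) rfl).symm _ h)
  · intro h
    have h' := (subsingleton_HD_shift_zero_iff K i).2 h
    exact subsingleton_of_forall_eq 0 (fun g => hom_inD_self_eq_zero_of_subsingleton_HD _ h' g)

theorem nontrivial_hom_inD_self_iff (K : Dual.D A) (i : ℤ) :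
    Nontrivial (Dual.inD A A ⟶ K⟦i⟧) ↔ Nontrivial (Dual.HD A K i) := by
  rw [← not_subsingleton_iff_nontrivial, ← not_subsingleton_iff_nontrivial,
    subsingleton_hom_inD_self_iff]

end HomSelf

section Depth

variable [IsLocalRing A] [IsNoetherianRing A] (ω : Dual.D A)

/-- S0365. -/
theorem depth_self_eq_iff (hω : Dual.IsDualizing A ω) (hn : Dual.IsNormalized A ω) (n : ℕ) :
    LocCoh.depth A A = n ↔
      ((∀ δ : ℕ, δ < n → Subsingleton (Dual.HD A ω (-(δ : ℤ)))) ∧
        Nontrivial (Dual.HD A ω (-(n : ℤ)))) := by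
  rw [depth_eq_iff_ext ω hω hn A n]
  constructor
  · rintro ⟨h1, h2⟩
    exact ⟨fun δ hδ => (subsingleton_hom_inD_self_iff ω _).1 (h1 δ hδ),
      (nontrivial_hom_inD_self_iff ω _).1 h2⟩
  · rintro ⟨h1, h2⟩
    exact ⟨fun δ hδ => (subsingleton_hom_inD_self_iff ω _).2 (h1 δ hδ),
      (nontrivial_hom_inD_self_iff ω _).2 h2⟩

lemma withBot_enat_le_of_add_one_le (a : WithBot ℕ∞) (k : ℕ)
    (h : a + 1 ≤ ((k + 1 : ℕ) : WithBot ℕ∞)) : a ≤ (k : WithBot ℕ∞) := by
  induction a using WithBot.recBotCoe with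
  | bot => exact bot_le
  | coe e =>
    have h' : ((e + 1 : ℕ∞) : WithBot ℕ∞) ≤ (((k + 1 : ℕ) : ℕ∞) : WithBot ℕ∞) := by
      exact_mod_cast h
    rw [WithBot.coe_le_coe] at h'
    have h'' : e ≤ (k : ℕ∞) := by
      have : e + 1 ≤ (k : ℕ∞) + 1 := by exact_mod_cast h'
      exact (ENat.add_le_add_iff_right (by simp)).1 this
    exact_mod_cast WithBot.coe_le_coe.2 h''

lemma withBot_enat_eq_bot_of_add_one_le_zero (a : WithBot ℕ∞)
    (h : a + 1 ≤ ((0 : ℕ) : WithBot ℕ∞)) : a = ⊥ := by
  induction a using WithBot.recBotCoe with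
  | bot => rfl
  | coe e =>
    exfalso
    have h' : ((e + 1 : ℕ∞) : WithBot ℕ∞) ≤ (((0 : ℕ) : ℕ∞) : WithBot ℕ∞) := by
      exact_mod_cast h
    rw [WithBot.coe_le_coe] at h'
    simp at h'

omit [IsLocalRing A] [IsNoetherianRing A] in
lemma isSMulRegular_quot_prime (p : Ideal A) (hp : p.IsPrime) (x : A) (hxp : x ∉ p) :
    IsSMulRegular (A ⧸ p) x := by
  refine isSMulRegular_iff_right_eq_zero_of_smul.2 (fun y hy => ?_)
  obtain ⟨c, rfl⟩ := Ideal.Quotient.mk_surjective y
  have h' : Ideal.Quotient.mk p (x * c) = 0 := hy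
  rcases hp.mem_or_mem (Ideal.Quotient.eq_zero_iff_mem.1 h') with h | h
  · exact absurd h hxp
  · exact Ideal.Quotient.eq_zero_iff_mem.2 h

/-- `Ext^i(M, ω) = 0` for `i < -dim Supp M`. -/
theorem subsingleton_ext_of_lt_neg_supportDim (hω : Dual.IsDualizing A ω)
    (hn : Dual.IsNormalized A ω) :
    ∀ (d : ℕ) (M : Type u) [AddCommGroup M] [Module A M] [Module.Finite A M],
      Module.supportDim A M ≤ (d : WithBot ℕ∞) → ∀ i : ℤ, i < -(d : ℤ) →
        Subsingleton (Dual.inD A M ⟶ ω⟦i⟧) := by
  have IL : ∀ (d : ℕ), (∀ (N : Type u) [AddCommGroup N] [Module A N] [Module.Finite A N],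
      Module.supportDim A N + 1 ≤ (d : WithBot ℕ∞) → ∀ j : ℤ, j < -(d : ℤ) + 1 →
        Subsingleton (Dual.inD A N ⟶ ω⟦j⟧)) →
      ∀ (M : Type u) [AddCommGroup M] [Module A M] [Module.Finite A M],
        Module.supportDim A M ≤ (d : WithBot ℕ∞) → ∀ i : ℤ, i < -(d : ℤ) →
          Subsingleton (Dual.inD A M ⟶ ω⟦i⟧) := by
    intro d HQ M _ _ hM
    induction hM using IsNoetherianRing.induction_on_isQuotientEquivQuotientPrime A with
    | subsingleton N =>
      intro _ i _
      exact extVanishOn_of_subsingleton Set.univ ω N i (Set.mem_univ i)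
    | quotient N p e =>
      intro hdim i hi
      refine subsingleton_hom_of_linearEquiv e.symm _ ?_
      have hdim' : Module.supportDim A (A ⧸ p.1) ≤ (d : WithBot ℕ∞) := by
        rw [← Module.supportDim_eq_of_equiv e]; exact hdim
      by_cases hpm : p.1 = IsLocalRing.maximalIdeal A
      · have hi0 : i ≠ 0 := by omega
        exact subsingleton_hom_of_linearEquiv
          (resEquiv.symm.trans (Submodule.quotEquivOfEq _ _ hpm).symm) _ (hn i hi0)
      · have hle : p.1 ≤ IsLocalRing.maximalIdeal A := IsLocalRing.le_maximalIdeal p.2.ne_top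
        have hlt : p.1 < IsLocalRing.maximalIdeal A := lt_of_le_of_ne hle hpm
        obtain ⟨x, hxm, hxp⟩ := SetLike.exists_of_lt hlt
        have hreg : IsSMulRegular (A ⧸ p.1) x := isSMulRegular_quot_prime p.1 p.2 x hxp
        have hQdim : Module.supportDim A (QuotSMulTop x (A ⧸ p.1)) + 1 ≤ (d : WithBot ℕ∞) := by
          rw [Module.supportDim_quotSMulTop_succ_eq_supportDim_mem_jacobson hreg
            (IsLocalRing.maximalIdeal_le_jacobson _ hxm)]
          exact hdim'
        exact subsingleton_of_quotSMulTop ω hω x hxm hreg i (i + 1) rfl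
          (HQ _ hQdim (i + 1) (by omega))
    | exact N₁ N₂ N₃ f g hf hg hfg h₁ h₃ =>
      intro hdim i hi
      have hv1 := h₁ ((Module.supportDim_le_of_injective f hf).trans hdim) i hi
      have hv3 := h₃ ((Module.supportDim_le_of_surjective g hg).trans hdim) i hi
      refine subsingleton_of_forall_eq 0 (fun φ => ?_)
      obtain ⟨ψ, hψ⟩ := les_mid ω f g hf hg hfg i φ (@Subsingleton.elim _ hv1 _ _)
      rw [hψ, @Subsingleton.elim _ hv3 ψ 0, comp_zero]
  intro d
  induction d with
  | zero =>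
    intro M _ _ _
    refine IL 0 (fun N _ _ _ hN j _ => ?_) M
    have hbot := withBot_enat_eq_bot_of_add_one_le_zero _ hN
    haveI : Subsingleton N := (Module.supportDim_eq_bot_iff_subsingleton A N).1 hbot
    exact extVanishOn_of_subsingleton Set.univ ω N j (Set.mem_univ j)
  | succ k ih =>
    intro M _ _ _
    refine IL (k + 1) (fun N _ _ _ hN j hj => ?_) M
    exact ih N (withBot_enat_le_of_add_one_le _ k hN) j (by push_cast at hj; omega)

/-- S0368. -/
theorem isCohenMacaulayModule_iff_ext (hω : Dual.IsDualizing A ω) (hn : Dual.IsNormalized A ω)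
    (M : Type u) [AddCommGroup M] [Module A M] [Module.Finite A M] [Nontrivial M] (d : ℕ)
    (hd : Module.supportDim A M = d) :
    LocCoh.IsCohenMacaulayModule A M ↔
      ∀ i : ℤ, i ≠ d → Subsingleton (Dual.inD A M ⟶ ω⟦(-i)⟧) := by
  unfold LocCoh.IsCohenMacaulayModule
  rw [hd]
  constructor
  · intro h
    have hdep : LocCoh.depth A M = d := by
      have h' : ((d : ℕ∞) : WithBot ℕ∞) = ((LocCoh.depth A M : ℕ∞) : WithBot ℕ∞) := by
        exact_mod_cast h
      exact (WithBot.coe_injective h').symm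
    obtain ⟨h1, h2⟩ := (depth_eq_iff_ext ω hω hn M d).1 hdep
    intro i hi
    rcases lt_or_gt_of_ne hi with hlt | hgt
    · by_cases hi0 : 0 < -i
      · exact extVanish_of_finite ω hω hn M (-i) hi0
      · have h : -i = -((i.toNat : ℕ) : ℤ) := by omega
        rw [h]
        exact h1 _ (by omega)
    · exact subsingleton_ext_of_lt_neg_supportDim ω hω hn d M hd.le (-i) (by omega)
  · intro h
    obtain ⟨n', hD⟩ := exists_extDepth ω hω hn M
    have hn'd : n' = d := by
      by_contra hne
      have h3 := h (n' : ℤ) (by exact_mod_cast hne)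
      haveI := hD.2
      exact not_subsingleton _ h3
    subst hn'd
    rw [depth_eq_of_extDepth ω hω hn M n' hD]
    rfl

end Depth

end Groth.Agent.Lib.DMod_helper6
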