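import Mathlib
import Groth.Prelude.Def_DRing2
import Groth.Prelude.Def_DDual2
import Groth.Prelude.Def_Wider
import Groth.Prelude.Def_CAlg
import Groth.Agent.Lib.DMod88_helper6

/-!
# Derived category toolkit (helper6), part 89: for a normalized dualizing complex `ω` over a
noetherian local ring and a finite module `M`, `dim Supp Ext^i(M, ω) ≤ -i` (S0366).
-/

set_option autoImplicit false
universe u
open CategoryTheory CategoryTheory.Limits DerivedCategory Pretriangulated ZeroObject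
open scoped Pointwise
attribute [local instance] HasDerivedCategory.standard

namespace Groth.Agent.Lib.DMod_helper6

open DRing

variable {A : Type u} [CommRing A]

lemma single_map_smul_id (x : A) (M : Type u) [AddCommGroup M] [Module A M] :
    (DerivedCategory.singleFunctor (ModuleCat.{u} A) 0).map
      (ModuleCat.ofHom (x • (LinearMap.id : M →ₗ[A] M))) = x • 𝟙 (Dual.inD A M) := by
  have : ModuleCat.ofHom (x • (LinearMap.id : M →ₗ[A] M)) = x • 𝟙 (ModuleCat.of A M) := by
    ext m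
    rfl
  rw [this, Functor.map_smul, CategoryTheory.Functor.map_id]

/-- if `r` kills `N` then it kills `Hom(N[0], K)`. -/
lemma smul_hom_eq_zero_of_smul_eq_zero {N : Type u} [AddCommGroup N] [Module A N] (r : A)
    (hr : ∀ n : N, r • n = 0) {K : Dual.D A} (χ : Dual.inD A N ⟶ K) : r • χ = 0 := by
  have h1 : r • χ = (r • 𝟙 (Dual.inD A N)) ≫ χ := by rw [Linear.smul_comp, Category.id_comp]
  have h2 : r • 𝟙 (Dual.inD A N) = 0 := by
    rw [← single_map_smul_id]
    have : ModuleCat.ofHom (r • (LinearMap.id : N →ₗ[A] N)) = 0 := by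
      ext n
      exact hr n
    rw [this, Functor.map_zero]
  rw [h1, h2, zero_comp]

/-- the connecting map `Ext^i(X₁, ω) → Ext^{i+1}(X₃, ω)` as a linear map -/
noncomputable def deltaLin {S : ShortComplex (ModuleCat.{u} A)} (hS : S.ShortExact)
    (ω : Dual.D A) (i j : ℤ) (hij : i + 1 = j) :
    ((DerivedCategory.singleFunctor (ModuleCat.{u} A) 0).obj S.X₁ ⟶ ω⟦i⟧) →ₗ[A]
      ((DerivedCategory.singleFunctor (ModuleCat.{u} A) 0).obj S.X₃ ⟶ ω⟦j⟧) where
  toFun φ := hS.singleδ ≫ φ⟦(1 : ℤ)⟧' ≫ (shiftFunctorAdd' (Dual.D A) i 1 j hij).inv.app ω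
  map_add' φ φ' := by rw [Functor.map_add, Preadditive.add_comp, Preadditive.comp_add]
  map_smul' r φ := by
    rw [Functor.map_smul, Linear.smul_comp, Linear.comp_smul, RingHom.id_apply]

section LES

variable (ω : Dual.D A) {N₁ N₂ N₃ : Type u} [AddCommGroup N₁] [Module A N₁] [AddCommGroup N₂]
  [Module A N₂] [AddCommGroup N₃] [Module A N₃] (f : N₁ →ₗ[A] N₂) (g : N₂ →ₗ[A] N₃)
  (hf : Function.Injective f) (hg : Function.Surjective g) (hfg : Function.Exact f g)

/-- exactness of `Ext^i(N₂, ω) → Ext^i(N₁, ω) → Ext^{i+1}(N₃, ω)` -/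
lemma les_left_exact (i j : ℤ) (hij : i + 1 = j) (φ : Dual.inD A N₁ ⟶ ω⟦i⟧)
    (h : deltaLin (linSC_shortExact f g hfg hf hg) ω i j hij φ = 0) :
    ∃ ψ : Dual.inD A N₂ ⟶ ω⟦i⟧,
      φ = (DerivedCategory.singleFunctor (ModuleCat.{u} A) 0).map (ModuleCat.ofHom f) ≫ ψ := by
  have hS := linSC_shortExact f g hfg hf hg
  have hT := hS.singleTriangle_distinguished
  have h0 : hS.singleδ ≫ φ⟦(1 : ℤ)⟧' = 0 := by
    have h' : (hS.singleδ ≫ φ⟦(1 : ℤ)⟧') ≫
        (shiftFunctorAdd' (Dual.D A) i 1 j hij).inv.app ω = 0 := by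
      rw [Category.assoc]; exact h
    exact (cancel_mono ((shiftFunctorAdd' (Dual.D A) i 1 j hij).inv.app ω)).1
      (h'.trans zero_comp.symm)
  obtain ⟨γ, hγ⟩ : ∃ γ : (Dual.inD A N₂)⟦(1 : ℤ)⟧ ⟶ (ω⟦i⟧)⟦(1 : ℤ)⟧,
      φ⟦(1 : ℤ)⟧' = (-((DerivedCategory.singleFunctor (ModuleCat.{u} A) 0).map
        (ModuleCat.ofHom f))⟦(1 : ℤ)⟧') ≫ γ :=
    Pretriangulated.Triangle.yoneda_exact₃ _ (rot_of_distTriang _ hT) (φ⟦(1 : ℤ)⟧') h0
  obtain ⟨γ', rfl⟩ := (shiftFunctor (Dual.D A) (1 : ℤ)).map_surjective γ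
  refine ⟨-γ', ?_⟩
  apply (shiftFunctor (Dual.D A) (1 : ℤ)).map_injective
  rw [hγ]
  simp only [Functor.map_neg, Functor.map_comp, Preadditive.neg_comp, Preadditive.comp_neg]

end LES

section Support

variable [IsLocalRing A] [IsNoetherianRing A] (ω : Dual.D A)

lemma finite_ext (hω : Dual.IsDualizing A ω) (M : Type u) [AddCommGroup M] [Module A M]
    [Module.Finite A M] (i : ℤ) : Module.Finite A (Dual.inD A M ⟶ ω⟦i⟧) :=
  hom_finite_of_finiteInjDim (Dual.inD A M) ω (finite_HD_inD M) hω.finite_cohomology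
    (hasFiniteInjDim_of_isDualizing ω hω) i

omit [IsLocalRing A] in
lemma exists_ker_pow_stable (x : A) (M : Type u) [AddCommGroup M] [Module A M]
    [Module.Finite A M] : ∃ k : ℕ, ∀ m : M, x ^ (k + 1) • m = 0 → x ^ k • m = 0 := by
  haveI : IsNoetherian A M := isNoetherian_of_isNoetherianRing_of_finite A M
  let F : ℕ →o Submodule A M :=
    { toFun := fun k => LinearMap.ker ((x ^ k) • (LinearMap.id : M →ₗ[A] M))
      monotone' := by
        refine monotone_nat_of_le_succ (fun k m hm => ?_)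
        rw [LinearMap.mem_ker] at hm ⊢
        have hm' : x ^ k • m = 0 := hm
        show x ^ (k + 1) • m = 0
        rw [pow_succ', mul_smul, hm', smul_zero] }
  obtain ⟨k, hk⟩ := monotone_stabilizes_iff_noetherian.2 inferInstance F
  refine ⟨k, fun m hm => ?_⟩
  have h1 : m ∈ F (k + 1) := LinearMap.mem_ker.2 hm
  rw [← hk (k + 1) (Nat.le_succ k)] at h1
  exact LinearMap.mem_ker.1 h1

/-- a chain of primes of length `l` starting in `Supp Ext^i(M, ω)` forces `i ≤ -l`. -/
theorem le_neg_of_chain_in_support (hω : Dual.IsDualizing A ω) (hn : Dual.IsNormalized A ω) :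
    ∀ (l : ℕ) (M : Type u) [AddCommGroup M] [Module A M] [Module.Finite A M] (i : ℤ)
      (c : Fin (l + 1) → PrimeSpectrum A), StrictMono c →
      c 0 ∈ Module.support A (Dual.inD A M ⟶ ω⟦i⟧) → i ≤ -(l : ℤ) := by
  intro l
  induction l with
  | zero =>
    intro M _ _ _ i c _ hc
    haveI hnt : Nontrivial (Dual.inD A M ⟶ ω⟦i⟧) := Module.nonempty_support_iff.1 ⟨_, hc⟩
    by_contra hlt
    push_neg at hlt
    exact not_subsingleton _ (extVanish_of_finite ω hω hn M i (by simpa using hlt))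
  | succ l ih =>
    intro M _ _ _ i c hc hc0
    have h01 : c 0 < c (Fin.succ 0) := hc (Fin.succ_pos 0)
    obtain ⟨x, hx1, hx0⟩ := SetLike.exists_of_lt ((PrimeSpectrum.asIdeal_lt_asIdeal _ _).2 h01)
    obtain ⟨k, hk⟩ := exists_ker_pow_stable x M
    -- the `x`-power torsion and the quotient
    let T : Submodule A M := LinearMap.ker ((x ^ k) • (LinearMap.id : M →ₗ[A] M))
    have hT : ∀ t : T, x ^ k • t = 0 := fun t => Subtype.ext (LinearMap.mem_ker.1 t.2)
    have hreg : IsSMulRegular (M ⧸ T) x := by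
      refine isSMulRegular_iff_right_eq_zero_of_smul.2 (fun y hy => ?_)
      obtain ⟨m, rfl⟩ := Submodule.mkQ_surjective T y
      have h1 : x • m ∈ T := (Submodule.Quotient.mk_eq_zero T).1 hy
      have h2 : x ^ k • (x • m) = 0 := LinearMap.mem_ker.1 h1
      have h3 : x ^ (k + 1) • m = 0 := by rw [pow_succ, mul_smul]; exact h2
      exact (Submodule.Quotient.mk_eq_zero T).2 (LinearMap.mem_ker.2 (hk m h3))
    have hxk0 : x ^ k ∉ (c 0).asIdeal := fun h => hx0 ((c 0).isPrime.mem_of_pow_mem k h)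
    -- `c 0 ∈ Supp Ext^i(M/T, ω)`
    have hc0' : c 0 ∈ Module.support A (Dual.inD A (M ⧸ T) ⟶ ω⟦i⟧) := by
      by_contra hcon
      rw [Module.notMem_support_iff'] at hcon
      obtain ⟨φ, hφ⟩ := Module.mem_support_iff'.1 hc0
      have hres : (DerivedCategory.singleFunctor (ModuleCat.{u} A) 0).map
          (ModuleCat.ofHom T.subtype) ≫ (x ^ k • φ) = 0 := by
        rw [Linear.comp_smul]
        exact smul_hom_eq_zero_of_smul_eq_zero (x ^ k) hT _
      obtain ⟨ψ, hψ⟩ := les_mid ω T.subtype T.mkQ (Submodule.injective_subtype T)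
        (Submodule.mkQ_surjective T) (LinearMap.exact_subtype_mkQ T) i (x ^ k • φ) hres
      obtain ⟨r, hr, hrψ⟩ := hcon ψ
      refine hφ (r * x ^ k) (fun h => ?_) ?_
      · rcases (c 0).isPrime.mem_or_mem h with h | h
        · exact hr h
        · exact hxk0 h
      · rw [mul_smul, hψ, ← Linear.comp_smul, hrψ, comp_zero]
    -- pass to `Q' = (M/T)/x(M/T)`
    haveI : Module.Finite A (Dual.inD A (M ⧸ T) ⟶ ω⟦i⟧) := finite_ext ω hω (M ⧸ T) i
    have hc1 : c (Fin.succ 0) ∈ Module.support A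
        (QuotSMulTop x (Dual.inD A (M ⧸ T) ⟶ ω⟦i⟧)) := by
      rw [Module.support_quotSMulTop]
      refine ⟨Module.mem_support_mono h01.le hc0', ?_⟩
      rw [PrimeSpectrum.mem_zeroLocus, Set.singleton_subset_iff]
      exact hx1
    have hS := linSC_shortExact (x • (LinearMap.id : (M ⧸ T) →ₗ[A] (M ⧸ T)))
      (x • (⊤ : Submodule A (M ⧸ T))).mkQ (quotSMulTop_exact x (M ⧸ T))
      (injective_of_isSMulRegular hreg) (Submodule.mkQ_surjective _)
    let δ := deltaLin hS ω i (i + 1) rfl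
    have hle : x • (⊤ : Submodule A (Dual.inD A (M ⧸ T) ⟶ ω⟦i⟧)) ≤ LinearMap.ker δ := by
      intro φ hφ
      obtain ⟨ψ, -, rfl⟩ := (Submodule.mem_smul_pointwise_iff_exists _ _ _).1 hφ
      rw [LinearMap.mem_ker, map_smul]
      exact smul_hom_eq_zero_of_smul_eq_zero x
        (fun n => Module.mem_annihilator.1 (QuotSMulTop.mem_annihilator (M ⧸ T) x) n) _
    have hker : LinearMap.ker δ ≤ x • (⊤ : Submodule A (Dual.inD A (M ⧸ T) ⟶ ω⟦i⟧)) := by
      intro φ hφ
      obtain ⟨ψ, hψ⟩ := les_left_exact ω _ _ (injective_of_isSMulRegular hreg)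
        (Submodule.mkQ_surjective _) (quotSMulTop_exact x (M ⧸ T)) i (i + 1) rfl φ
        (LinearMap.mem_ker.1 hφ)
      rw [hψ, single_map_smul_id, Linear.smul_comp, Category.id_comp]
      exact Submodule.smul_mem_pointwise_smul ψ x ⊤ Submodule.mem_top
    have hinj : Function.Injective ((x • (⊤ : Submodule A (Dual.inD A (M ⧸ T) ⟶ ω⟦i⟧))).liftQ
        δ hle) :=
      LinearMap.ker_eq_bot.1 (Submodule.ker_liftQ_eq_bot _ _ _ hker)
    have hc1' : c (Fin.succ 0) ∈ Module.support A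
        (Dual.inD A (QuotSMulTop x (M ⧸ T)) ⟶ ω⟦i + 1⟧) :=
      Module.support_subset_of_injective _ hinj hc1
    have := ih (QuotSMulTop x (M ⧸ T)) (i + 1) (c ∘ Fin.succ)
      (hc.comp (Fin.strictMono_succ)) hc1'
    push_cast
    omega

/-- S0366. -/
theorem ext_dualizing_vanishing_and_support (hω : Dual.IsDualizing A ω)
    (hn : Dual.IsNormalized A ω) (M : Type u) [AddCommGroup M] [Module A M] [Module.Finite A M]
    (d : ℕ) (hd : Module.supportDim A M = d) (i : ℤ) :
    (Nontrivial (Dual.inD A M ⟶ ω⟦i⟧) → (-(d : ℤ) ≤ i ∧ i ≤ 0)) ∧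
      Module.supportDim A (Dual.inD A M ⟶ ω⟦i⟧) ≤ ((-i).toNat : WithBot ℕ∞) := by
  constructor
  · intro hnt
    constructor
    · by_contra hlt
      push_neg at hlt
      exact not_subsingleton _
        (subsingleton_ext_of_lt_neg_supportDim ω hω hn d M hd.le i hlt)
    · by_contra hlt
      push_neg at hlt
      exact not_subsingleton _ (extVanish_of_finite ω hω hn M i hlt)
  · unfold Module.supportDim Order.krullDim
    refine iSup_le (fun p => ?_)
    have h := le_neg_of_chain_in_support ω hω hn p.length M i (fun j => (p j).1)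
      (fun a b hab => p.strictMono hab) (p 0).2
    have h' : p.length ≤ (-i).toNat := by omega
    exact_mod_cast h'

end Support

end Groth.Agent.Lib.DMod_helper6
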