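import Mathlib
import Groth.Prelude.Def_DRing2
import Groth.Prelude.Def_DDual2
import Groth.Prelude.Def_Wider
import Groth.Prelude.Def_CAlg
import Groth.Agent.Lib.DMod89_helper6
import Groth.Agent.Lib.DMod79_helper6

/-!
# Derived category toolkit (helper6), part 90: localization of a normalized dualizing complex at a
prime `p` with `dim A/p = e`: `ω_p[-e]` is a normalized dualizing complex over `A_p`.
-/

set_option autoImplicit false
universe u
open CategoryTheory CategoryTheory.Limits DerivedCategory Pretriangulated ZeroObject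
open scoped Pointwise TensorProduct
attribute [local instance] HasDerivedCategory.standard

namespace Groth.Agent.Lib.DMod_helper6

open DRing Groth.Agent.ExtendScalarsLib

section Shift

variable {A : Type u} [CommRing A]

lemma subsingleton_hom_iso_right {X Y Y' : Dual.D A} (e : Y ≅ Y') :
    Subsingleton (X ⟶ Y) ↔ Subsingleton (X ⟶ Y') :=
  (Iso.homCongr (Iso.refl X) e).subsingleton_congr

lemma nontrivial_hom_iso_right {X Y Y' : Dual.D A} (e : Y ≅ Y') :
    Nontrivial (X ⟶ Y) ↔ Nontrivial (X ⟶ Y') :=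
  (Iso.homCongr (Iso.refl X) e).nontrivial_congr

lemma subsingleton_hom_iso_left {X X' Y : Dual.D A} (e : X ≅ X') :
    Subsingleton (X ⟶ Y) ↔ Subsingleton (X' ⟶ Y) :=
  (Iso.homCongr e (Iso.refl Y)).subsingleton_congr

lemma nontrivial_hom_iso_left {X X' Y : Dual.D A} (e : X ≅ X') :
    Nontrivial (X ⟶ Y) ↔ Nontrivial (X' ⟶ Y) :=
  (Iso.homCongr e (Iso.refl Y)).nontrivial_congr

/-- a shift of a dualizing complex is dualizing -/
theorem isDualizing_shift (ω : Dual.D A) (hω : Dual.IsDualizing A ω) (n : ℤ) :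
    Dual.IsDualizing A (ω⟦n⟧) where
  isNoetherianRing := hω.isNoetherianRing
  finite_injective_dimension := by
    obtain ⟨a, b, hab⟩ := hω.finite_injective_dimension
    refine ⟨a - n, b - n, fun M _ _ i hi => ?_⟩
    have e' : (ω⟦n⟧)⟦i⟧ ≅ ω⟦n + i⟧ :=
      ((shiftFunctorAdd' (Dual.D A) n i (n + i) rfl).app ω).symm
    exact (subsingleton_hom_iso_right e').2 (hab M (n + i) (by omega))
  finite_cohomology := fun i => by
    have e : (homologyFunctor (ModuleCat.{u} A) i).obj (ω⟦n⟧) ≅
        (homologyFunctor (ModuleCat.{u} A) (n + i)).obj ω :=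
      ((homologyFunctor (ModuleCat.{u} A) 0).shiftIso n i (n + i) rfl).app ω
    haveI := hω.finite_cohomology (n + i)
    exact Module.Finite.equiv e.symm.toLinearEquiv
  toEnd_bijective := by
    have h1 : (fun a : A => a • 𝟙 (ω⟦n⟧)) =
        (fun f : ω ⟶ ω => f⟦n⟧') ∘ (fun a : A => a • 𝟙 ω) := by
      funext a
      simp only [Function.comp_apply, Functor.map_smul, CategoryTheory.Functor.map_id]
    rw [h1]
    exact Function.Bijective.comp
      ⟨(shiftFunctor (Dual.D A) n).map_injective, (shiftFunctor (Dual.D A) n).map_surjective⟩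
      hω.toEnd_bijective
  ext_self_subsingleton := fun i hi => by
    haveI := hω.ext_self_subsingleton i hi
    refine subsingleton_of_forall_eq 0 (fun g => ?_)
    let e : (ω⟦n⟧)⟦i⟧ ≅ (ω⟦i⟧)⟦n⟧ := (shiftFunctorComm (Dual.D A) n i).app ω
    obtain ⟨g', hg'⟩ := (shiftFunctor (Dual.D A) n).map_surjective (g ≫ e.hom)
    have h0 : g' = 0 := Subsingleton.elim _ _
    rw [h0, Functor.map_zero] at hg'
    rw [← cancel_mono e.hom, ← hg', zero_comp]

end Shift

section Loc

variable {A : Type u} [CommRing A] [IsNoetherianRing A] (ω : Dual.D A) (p : Ideal A) [p.IsPrime]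

/-- the localization of `ω` at `p` -/
noncomputable abbrev locD : Dual.D (Localization.AtPrime p) :=
  (bcD A (Localization.AtPrime p)).obj ω

/-- `p ∈ Supp Ext^i(M, ω)` iff `Ext^i(M_p, ω_p) ≠ 0`. -/
theorem mem_support_ext_iff (hω : Dual.IsDualizing A ω) (M : Type u) [AddCommGroup M]
    [Module A M] [Module.Finite A M] (i : ℤ) :
    (⟨p, inferInstance⟩ : PrimeSpectrum A) ∈ Module.support A (Dual.inD A M ⟶ ω⟦i⟧) ↔
      Nontrivial (Dual.inD (Localization.AtPrime p) ((Localization.AtPrime p) ⊗[A] M) ⟶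
        (locD ω p)⟦i⟧) := by
  obtain ⟨a, b, hab⟩ := hω.finite_injective_dimension
  haveI hge : DerivedCategory.IsGE ω a := by
    rw [DerivedCategory.isGE_iff]
    intro j hj
    haveI := subsingleton_HD_of_hom_quot_bot ω j (hab (A ⧸ (⊥ : Ideal A)) j (Or.inl hj))
    exact ModuleCat.isZero_of_subsingleton _
  haveI : DerivedCategory.IsGE (ω⟦i⟧) (a - i) :=
    TStructure.t.isGE_shift ω a i (a - i) (by omega)
  have hK : IsPseudoCoherent' A (Dual.inD A M) := isPseudoCoherentModule'_of_finite M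
  obtain ⟨hsurj, hinj⟩ := locHom (B := Localization.AtPrime p) p.primeCompl (Dual.inD A M)
    (ω⟦i⟧) hK (a - i)
  constructor
  · intro h
    obtain ⟨f, hf⟩ := Module.mem_support_iff'.1 h
    have hb : (bcD A (Localization.AtPrime p)).map f ≠ 0 := by
      intro h0
      obtain ⟨s, hs⟩ := hinj f h0
      exact hf (s : A) s.2 hs
    refine ⟨(bcSingleIso (B := Localization.AtPrime p) M).inv ≫
      (bcD A (Localization.AtPrime p)).map f ≫
        ((bcD A (Localization.AtPrime p)).commShiftIso i).hom.app ω, 0, fun h0 => hb ?_⟩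
    rw [← cancel_epi (bcSingleIso (B := Localization.AtPrime p) M).inv,
      ← cancel_mono (((bcD A (Localization.AtPrime p)).commShiftIso i).hom.app ω),
      Category.assoc, h0, comp_zero, zero_comp]
  · rintro ⟨g, g₀, hne⟩
    have hg1 : g - g₀ ≠ 0 := sub_ne_zero.2 hne
    obtain ⟨s, f, hf⟩ := hsurj ((bcSingleIso (B := Localization.AtPrime p) M).hom ≫ (g - g₀) ≫
      ((bcD A (Localization.AtPrime p)).commShiftIso i).inv.app ω)
    refine Module.mem_support_iff'.2 ⟨f, fun r hr h0 => hg1 ?_⟩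
    have h1 : algebraMap A (Localization.AtPrime p) r •
        (bcD A (Localization.AtPrime p)).map f = 0 := by
      rw [← bcD_map_smul, h0, Functor.map_zero]
    rw [← hf] at h1
    have h2 := smul_eq_zero_of_algebraMap_smul p.primeCompl (⟨r, hr⟩ : p.primeCompl) _ h1
    have h3 := smul_eq_zero_of_algebraMap_smul p.primeCompl s _ h2
    rw [← cancel_epi (bcSingleIso (B := Localization.AtPrime p) M).hom,
      ← cancel_mono (((bcD A (Localization.AtPrime p)).commShiftIso i).inv.app ω),
      Category.assoc, h3, comp_zero, zero_comp]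

variable [IsLocalRing A]

/-- `Ext^j(κ(p), ω_p) = 0` for `j ≠ -dim A/p`. -/
theorem subsingleton_hom_residueField_locD (hω : Dual.IsDualizing A ω)
    (hn : Dual.IsNormalized A ω) (e : ℕ) (c : Fin (e + 1) → PrimeSpectrum A) (hc : StrictMono c)
    (hpc : p ≤ (c 0).asIdeal) (hdim : Module.supportDim A (A ⧸ p) ≤ (e : WithBot ℕ∞))
    (j : ℤ) (hj : j ≠ -(e : ℤ)) :
    Subsingleton (Dual.inD (Localization.AtPrime p)
      (IsLocalRing.ResidueField (Localization.AtPrime p)) ⟶ (locD ω p)⟦j⟧) := by
  have hns : (⟨p, inferInstance⟩ : PrimeSpectrum A) ∉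
      Module.support A (Dual.inD A (A ⧸ p) ⟶ ω⟦j⟧) := by
    intro hmem
    rcases lt_or_gt_of_ne hj with hlt | hgt
    · haveI := subsingleton_ext_of_lt_neg_supportDim ω hω hn e (A ⧸ p) hdim j hlt
      rw [Module.support_eq_empty] at hmem
      exact hmem
    · have h1 := le_neg_of_chain_in_support ω hω hn e (A ⧸ p) j c hc
        (Module.mem_support_mono (p := ⟨p, inferInstance⟩) hpc hmem)
      omega
  rw [mem_support_ext_iff ω p hω (A ⧸ p) j, not_nontrivial_iff_subsingleton] at hns
  obtain ⟨e1⟩ := nonempty_bcD_quot_iso (A := A) (B := Localization.AtPrime p) p.primeCompl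
    (IsLocalRing.maximalIdeal (Localization.AtPrime p))
  have hcomap : (IsLocalRing.maximalIdeal (Localization.AtPrime p)).comap
      (algebraMap A (Localization.AtPrime p)) = p :=
    IsLocalization.AtPrime.under_maximalIdeal (Localization.AtPrime p) p
  let e2 : Dual.inD A (A ⧸ p) ≅ Dual.inD A (A ⧸ (IsLocalRing.maximalIdeal
      (Localization.AtPrime p)).comap (algebraMap A (Localization.AtPrime p))) :=
    inDIsoOfLinearEquiv (Submodule.quotEquivOfEq _ _ hcomap.symm)
  let iso : Dual.inD (Localization.AtPrime p) ((Localization.AtPrime p) ⊗[A] (A ⧸ p)) ≅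
      Dual.inD (Localization.AtPrime p) (IsLocalRing.ResidueField (Localization.AtPrime p)) :=
    (bcSingleIso (B := Localization.AtPrime p) (A ⧸ p)).symm ≪≫
      (bcD A (Localization.AtPrime p)).mapIso e2 ≪≫ e1 ≪≫ inDIsoOfLinearEquiv resEquiv
  exact (subsingleton_hom_iso_left iso).1 hns

/-- `ω_p[-e]` is normalized for `e = dim A/p`. -/
theorem isNormalized_locD_shift (hω : Dual.IsDualizing A ω)
    (hn : Dual.IsNormalized A ω) (e : ℕ) (c : Fin (e + 1) → PrimeSpectrum A) (hc : StrictMono c)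
    (hpc : p ≤ (c 0).asIdeal) (hdim : Module.supportDim A (A ⧸ p) ≤ (e : WithBot ℕ∞)) :
    Dual.IsNormalized (Localization.AtPrime p) ((locD ω p)⟦(-(e : ℤ))⟧) := by
  intro i hi
  have e' : ((locD ω p)⟦(-(e : ℤ))⟧)⟦i⟧ ≅ (locD ω p)⟦(-(e : ℤ)) + i⟧ :=
    ((shiftFunctorAdd' (Dual.D (Localization.AtPrime p))
      (-(e : ℤ)) i (-(e : ℤ) + i) rfl).app (locD ω p)).symm
  exact (subsingleton_hom_iso_right e').2
    (subsingleton_hom_residueField_locD ω p hω hn e c hc hpc hdim _ (by omega))

omit [IsLocalRing A] in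
theorem isDualizing_locD_shift (hω : Dual.IsDualizing A ω) (n : ℤ) :
    Dual.IsDualizing (Localization.AtPrime p) ((locD ω p)⟦n⟧) :=
  isDualizing_shift _ (isDualizing_bcD p.primeCompl ω hω) n

omit [IsLocalRing A] in
/-- a chain of primes of length `e = dim A/p` above `p` -/
lemma exists_chain_of_supportDim_quot_eq (e : ℕ)
    (h : Module.supportDim A (A ⧸ p) = (e : WithBot ℕ∞)) :
    ∃ c : Fin (e + 1) → PrimeSpectrum A, StrictMono c ∧ p ≤ (c 0).asIdeal := by
  haveI : Nontrivial (A ⧸ p) := Ideal.Quotient.nontrivial_iff.2 (Ideal.IsPrime.ne_top inferInstance)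
  haveI : Nonempty (Module.support A (A ⧸ p)) := Module.nonempty_support_of_nontrivial.to_subtype
  unfold Module.supportDim at h
  rw [Order.krullDim_eq_iSup_length] at h
  have h' : (⨆ s : LTSeries (Module.support A (A ⧸ p)), (s.length : ℕ∞)) = (e : ℕ∞) := by
    exact_mod_cast h
  obtain ⟨s, hs⟩ := ENat.exists_eq_iSup_of_lt_top (h' ▸ ENat.coe_lt_top e)
  rw [h'] at hs
  have hse : s.length = e := by exact_mod_cast hs
  subst hse
  refine ⟨fun j => (s j).1, fun a b hab => s.strictMono hab, ?_⟩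
  have h0 := Module.mem_support_iff_of_finite.1 (s 0).2
  rwa [Ideal.annihilator_quotient] at h0

end Loc

end Groth.Agent.Lib.DMod_helper6
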