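import Mathlib
import Groth.Prelude.Def_DRing2
import Groth.Prelude.Def_DDual2
import Groth.Prelude.Def_Wider
import Groth.Prelude.Def_CAlg
import Groth.Agent.Lib.DMod90_helper6

/-!
# Derived category toolkit (helper6), part 91: the cohomology of a normalized dualizing complex at
a minimal prime `p` is concentrated in degree `-dim A/p` (S1719).
-/

set_option autoImplicit false
universe u
open CategoryTheory CategoryTheory.Limits DerivedCategory Pretriangulated ZeroObject
open scoped Pointwise TensorProduct
attribute [local instance] HasDerivedCategory.standard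

namespace Groth.Agent.Lib.DMod_helper6

open DRing Groth.Agent.ExtendScalarsLib

section DimZero

variable {A : Type u} [CommRing A] [IsLocalRing A] [IsNoetherianRing A] (ω : Dual.D A)

/-- for a module of dimension `≤ 0`, only `Ext^0(M, ω)` is nonzero. -/
theorem nontrivial_ext_iff_of_supportDim_le_zero (hω : Dual.IsDualizing A ω)
    (hn : Dual.IsNormalized A ω) (M : Type u) [AddCommGroup M] [Module A M] [Module.Finite A M]
    [Nontrivial M] (h0 : Module.supportDim A M ≤ ((0 : ℕ) : WithBot ℕ∞)) (j : ℤ) :
    Nontrivial (Dual.inD A M ⟶ ω⟦j⟧) ↔ j = 0 := by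
  have hv : ∀ j : ℤ, j ≠ 0 → Subsingleton (Dual.inD A M ⟶ ω⟦j⟧) := by
    intro j hj
    rcases lt_or_gt_of_ne hj with hlt | hgt
    · exact subsingleton_ext_of_lt_neg_supportDim ω hω hn 0 M h0 j (by simpa using hlt)
    · exact extVanish_of_finite ω hω hn M j hgt
  constructor
  · intro h
    by_contra hj
    exact not_subsingleton _ (hv j hj)
  · rintro rfl
    obtain ⟨j₀, h⟩ := exists_nontrivial_ext ω hω hn M
    have hj₀ : j₀ = 0 := by
      by_contra hj
      exact not_subsingleton _ (hv j₀ hj)
    subst hj₀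
    exact h

end DimZero

section Loc

variable {A : Type u} [CommRing A] [IsNoetherianRing A] (p : Ideal A) [p.IsPrime]

/-- `H^i(K_p) ≠ 0` iff `H^i(K)_p ≠ 0`. -/
lemma nontrivial_HD_locD_iff (K : Dual.D A) (i : ℤ) :
    Nontrivial (Dual.HD (Localization.AtPrime p) (locD K p) i) ↔
      Nontrivial (LocalizedModule p.primeCompl (Dual.HD A K i)) := by
  let C : Cx A := Q.objPreimage K
  let eC : toD C ≅ K := Q.objObjPreimageIso K
  let C' : Cx (Localization.AtPrime p) :=
    ((ES A (Localization.AtPrime p)).mapHomologicalComplex (ComplexShape.up ℤ)).obj C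
  let e1 : (homologyFunctor (ModuleCat.{u} (Localization.AtPrime p)) i).obj
      ((bcD A (Localization.AtPrime p)).obj K) ≅ C'.homology i :=
    (homologyFunctor (ModuleCat.{u} (Localization.AtPrime p)) i).mapIso
      ((bcD A (Localization.AtPrime p)).mapIso eC.symm ≪≫ bcDIso C) ≪≫
      (homologyFunctorFactors (ModuleCat.{u} (Localization.AtPrime p)) i).app C'
  let e2 : C'.homology i ≅ (ES A (Localization.AtPrime p)).obj (C.homology i) :=
    (C.sc i).mapHomologyIso (ES A (Localization.AtPrime p))
  let e3 : C.homology i ≅ (homologyFunctor (ModuleCat.{u} A) i).obj K :=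
    ((homologyFunctorFactors (ModuleCat.{u} A) i).app C).symm ≪≫
      (homologyFunctor (ModuleCat.{u} A) i).mapIso eC
  let e4 := (e1 ≪≫ e2 ≪≫ (ES A (Localization.AtPrime p)).mapIso e3).toLinearEquiv
  let e5 := extendScalarsEquivTensor (S := Localization.AtPrime p)
    ((homologyFunctor (ModuleCat.{u} A) i).obj K)
  let e6 := (IsLocalizedModule.isBaseChange p.primeCompl (Localization.AtPrime p)
    (LocalizedModule.mkLinearMap p.primeCompl (Dual.HD A K i))).equiv
  exact ((e4.trans e5).trans e6).toEquiv.nontrivial_congr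

variable [IsLocalRing A] (ω : Dual.D A)

/-- S1719. -/
theorem nontrivial_localized_HD_iff (hω : Dual.IsDualizing A ω) (hn : Dual.IsNormalized A ω)
    (hp : p ∈ minimalPrimes A) (e : ℕ) (he : ringKrullDim (A ⧸ p) = e) (i : ℤ) :
    Nontrivial (LocalizedModule p.primeCompl (Dual.HD A ω i)) ↔ i = -(e : ℤ) := by
  have hdim : Module.supportDim A (A ⧸ p) = (e : WithBot ℕ∞) := by
    rw [Module.supportDim_quotient_eq_ringKrullDim]; exact he
  obtain ⟨c, hc, hpc⟩ := exists_chain_of_supportDim_quot_eq p e hdim
  have hω' := isDualizing_locD_shift ω p hω (-(e : ℤ))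
  have hn' := isNormalized_locD_shift ω p hω hn e c hc hpc hdim.le
  haveI : IsNoetherianRing (Localization.AtPrime p) :=
    IsLocalization.isNoetherianRing p.primeCompl _ inferInstance
  have h0 : Module.supportDim (Localization.AtPrime p) (Localization.AtPrime p) ≤
      ((0 : ℕ) : WithBot ℕ∞) := by
    rw [Module.supportDim_self_eq_ringKrullDim,
      IsLocalization.AtPrime.ringKrullDim_eq_height p (Localization.AtPrime p),
      Ideal.height_eq_zero_iff.2 hp]
    rfl
  rw [← nontrivial_HD_locD_iff p ω i, ← nontrivial_hom_inD_self_iff]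
  have e' : (((locD ω p)⟦(-(e : ℤ))⟧)⟦i + e⟧) ≅ (locD ω p)⟦i⟧ :=
    ((shiftFunctorAdd' (Dual.D (Localization.AtPrime p)) (-(e : ℤ)) (i + e) i
      (by omega)).app (locD ω p)).symm
  rw [← nontrivial_hom_iso_right e',
    nontrivial_ext_iff_of_supportDim_le_zero _ hω' hn' (Localization.AtPrime p) h0 (i + e)]
  omega

end Loc

end Groth.Agent.Lib.DMod_helper6
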