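import Mathlib
import Groth.Prelude.Def_DRing2
import Groth.Prelude.Def_DDual2
import Groth.Prelude.Def_Wider
import Groth.Prelude.Def_CAlg
import Groth.Agent.Lib.DMod91_helper6

/-!
# Derived category toolkit (helper6), part 92: `Ext^{-dim M}(M, ω) ≠ 0` (S19859) and the support of
`Ext^{-j}(M, ω)` in terms of depth and dimension (S1712).
-/

set_option autoImplicit false
universe u
open CategoryTheory CategoryTheory.Limits DerivedCategory Pretriangulated ZeroObject
open scoped Pointwise TensorProduct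
attribute [local instance] HasDerivedCategory.standard

namespace Groth.Agent.Lib.DMod_helper6

open DRing Groth.Agent.ExtendScalarsLib

variable {A : Type u} [CommRing A] [IsNoetherianRing A]

lemma exists_ltSeries_support_of_supportDim_eq (M : Type u) [AddCommGroup M] [Module A M]
    [Nontrivial M] (d : ℕ) (h : Module.supportDim A M = (d : WithBot ℕ∞)) :
    ∃ s : LTSeries (Module.support A M), s.length = d := by
  haveI : Nonempty (Module.support A M) := Module.nonempty_support_of_nontrivial.to_subtype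
  unfold Module.supportDim at h
  rw [Order.krullDim_eq_iSup_length] at h
  have h' : (⨆ s : LTSeries (Module.support A M), (s.length : ℕ∞)) = (d : ℕ∞) := by
    exact_mod_cast h
  obtain ⟨s, hs⟩ := ENat.exists_eq_iSup_of_lt_top (h' ▸ ENat.coe_lt_top d)
  rw [h'] at hs
  exact ⟨s, by exact_mod_cast hs⟩

lemma nontrivial_tensor_iff_nontrivial_localizedModule (p : Ideal A) [p.IsPrime] (M : Type u)
    [AddCommGroup M] [Module A M] :
    Nontrivial ((Localization.AtPrime p) ⊗[A] M) ↔ Nontrivial (LocalizedModule p.primeCompl M) :=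
  (IsLocalizedModule.isBaseChange p.primeCompl (Localization.AtPrime p)
    (LocalizedModule.mkLinearMap p.primeCompl M)).equiv.toEquiv.nontrivial_congr

variable [IsLocalRing A] (ω : Dual.D A)

/-- S19859. -/
theorem nontrivial_ext_neg_supportDim (hω : Dual.IsDualizing A ω) (hn : Dual.IsNormalized A ω)
    (M : Type u) [AddCommGroup M] [Module A M] [Module.Finite A M] [Nontrivial M] (d : ℕ)
    (hd : Module.supportDim A M = (d : WithBot ℕ∞)) :
    Nontrivial (Dual.inD A M ⟶ ω⟦(-(d : ℤ))⟧) := by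
  obtain ⟨s, hs⟩ := exists_ltSeries_support_of_supportDim_eq M d hd
  subst hs
  let p : PrimeSpectrum A := (s 0).1
  haveI := p.isPrime
  have hpM : p ∈ Module.support A M := (s 0).2
  have hdimp : Module.supportDim A (A ⧸ p.asIdeal) ≤ (s.length : WithBot ℕ∞) := by
    rw [← hd]
    have hsub : Module.support A (A ⧸ p.asIdeal) ⊆ Module.support A M := by
      intro q hq
      have h0 := Module.mem_support_iff_of_finite.1 hq
      rw [Ideal.annihilator_quotient] at h0
      exact Module.mem_support_mono h0 hpM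
    exact Order.krullDim_le_of_strictMono (fun a => ⟨a.1, hsub a.2⟩) (fun {_ _} lt => lt)
  have hcm : StrictMono (fun j : Fin (s.length + 1) => (s j).1) := fun a b hab => s.strictMono hab
  have hω' := isDualizing_locD_shift ω p.asIdeal hω (-(s.length : ℤ))
  have hn' := isNormalized_locD_shift ω p.asIdeal hω hn s.length (fun j => (s j).1) hcm le_rfl hdimp
  haveI : IsNoetherianRing (Localization.AtPrime p.asIdeal) :=
    IsLocalization.isNoetherianRing p.asIdeal.primeCompl _ inferInstance
  haveI : Nontrivial ((Localization.AtPrime p.asIdeal) ⊗[A] M) :=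
    (nontrivial_tensor_iff_nontrivial_localizedModule p.asIdeal M).2 (Module.mem_support_iff.1 hpM)
  obtain ⟨j, hj⟩ := exists_nontrivial_ext _ hω' hn' ((Localization.AtPrime p.asIdeal) ⊗[A] M)
  have e' : ((locD ω p.asIdeal)⟦(-(s.length : ℤ))⟧)⟦j⟧ ≅
      (locD ω p.asIdeal)⟦(-(s.length : ℤ)) + j⟧ :=
    ((shiftFunctorAdd' (Dual.D (Localization.AtPrime p.asIdeal)) (-(s.length : ℤ)) j
      (-(s.length : ℤ) + j) rfl).app (locD ω p.asIdeal)).symm
  rw [nontrivial_hom_iso_right e', ← mem_support_ext_iff ω p.asIdeal hω M] at hj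
  have h1 := le_neg_of_chain_in_support ω hω hn s.length M _ (fun j => (s j).1) hcm hj
  haveI hnt : Nontrivial (Dual.inD A M ⟶ ω⟦(-(s.length : ℤ)) + j⟧) :=
    Module.nonempty_support_iff.1 ⟨_, hj⟩
  have h2 : -(s.length : ℤ) ≤ -(s.length : ℤ) + j := by
    by_contra hlt
    push_neg at hlt
    exact not_subsingleton _
      (subsingleton_ext_of_lt_neg_supportDim ω hω hn s.length M hd.le _ hlt)
  have hj0 : -(s.length : ℤ) + j = -(s.length : ℤ) := by omega
  rw [hj0] at hnt
  exact hnt

omit [IsNoetherianRing A] [IsLocalRing A] in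
lemma exists_nat_eq_of_nonneg_of_lt_top (x : WithBot ℕ∞) (h0 : 0 ≤ x) (h1 : x < ⊤) :
    ∃ e : ℕ, x = (e : WithBot ℕ∞) := by
  induction x using WithBot.recBotCoe with
  | bot => exact absurd h0 (not_le_of_gt (WithBot.bot_lt_coe 0))
  | coe y =>
    have hy : y ≠ ⊤ := by
      rintro rfl
      exact lt_irrefl _ h1
    obtain ⟨n, rfl⟩ := ENat.ne_top_iff_exists.1 hy
    exact ⟨n, rfl⟩

omit [IsNoetherianRing A] in
lemma depth_eq_top_of_subsingleton (N : Type u) [AddCommGroup N] [Module A N] [Subsingleton N] :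
    LocCoh.depth A N = ⊤ := by
  unfold LocCoh.depth LocCoh.idealDepth
  rw [if_pos (Subsingleton.elim _ _)]

/-- S1712. -/
theorem support_ext_iff_depth_add_dim (hω : Dual.IsDualizing A ω) (hn : Dual.IsNormalized A ω)
    (M : Type u) [AddCommGroup M] [Module A M] [Module.Finite A M] (i : ℕ)
    (p : PrimeSpectrum A) :
    (∃ j : ℕ, j ≤ i ∧ p ∈ Module.support A (Dual.inD A M ⟶ ω⟦(-(j : ℤ))⟧)) ↔
      ((LocCoh.depth (Localization.AtPrime p.asIdeal)
        (LocalizedModule p.asIdeal.primeCompl M) : ℕ∞) : WithBot ℕ∞) +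
          ringKrullDim (A ⧸ p.asIdeal) ≤ (i : WithBot ℕ∞) := by
  haveI : IsNoetherianRing (Localization.AtPrime p.asIdeal) :=
    IsLocalization.isNoetherianRing p.asIdeal.primeCompl _ inferInstance
  -- the dimension of `A/p`
  obtain ⟨e, he⟩ := exists_nat_eq_of_nonneg_of_lt_top (ringKrullDim (A ⧸ p.asIdeal))
    ringKrullDim_nonneg_of_nontrivial
    (lt_of_le_of_lt (ringKrullDim_quotient_le p.asIdeal) ringKrullDim_lt_top)
  have hdim : Module.supportDim A (A ⧸ p.asIdeal) = (e : WithBot ℕ∞) := by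
    rw [Module.supportDim_quotient_eq_ringKrullDim]; exact he
  obtain ⟨c, hc, hpc⟩ := exists_chain_of_supportDim_quot_eq p.asIdeal e hdim
  have hω' := isDualizing_locD_shift ω p.asIdeal hω (-(e : ℤ))
  have hn' := isNormalized_locD_shift ω p.asIdeal hω hn e c hc hpc hdim.le
  -- translation of membership in the support
  have key : ∀ j : ℕ, p ∈ Module.support A (Dual.inD A M ⟶ ω⟦(-(j : ℤ))⟧) ↔
      Nontrivial (Dual.inD (Localization.AtPrime p.asIdeal)
        ((Localization.AtPrime p.asIdeal) ⊗[A] M) ⟶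
          ((locD ω p.asIdeal)⟦(-(e : ℤ))⟧)⟦(-(j : ℤ)) + e⟧) := by
    intro j
    have e' : ((locD ω p.asIdeal)⟦(-(e : ℤ))⟧)⟦(-(j : ℤ)) + e⟧ ≅ (locD ω p.asIdeal)⟦(-(j : ℤ))⟧ :=
      ((shiftFunctorAdd' (Dual.D (Localization.AtPrime p.asIdeal)) (-(e : ℤ)) (-(j : ℤ) + e)
        (-(j : ℤ)) (by omega)).app (locD ω p.asIdeal)).symm
    rw [nontrivial_hom_iso_right e']
    exact mem_support_ext_iff ω p.asIdeal hω M (-(j : ℤ))
  rw [he]
  let eN : ((Localization.AtPrime p.asIdeal) ⊗[A] M) ≃ₗ[Localization.AtPrime p.asIdeal]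
      LocalizedModule p.asIdeal.primeCompl M :=
    (IsLocalizedModule.isBaseChange p.asIdeal.primeCompl (Localization.AtPrime p.asIdeal)
      (LocalizedModule.mkLinearMap p.asIdeal.primeCompl M)).equiv
  by_cases hN : Nontrivial ((Localization.AtPrime p.asIdeal) ⊗[A] M)
  · haveI := hN
    obtain ⟨n, hD⟩ := exists_extDepth _ hω' hn' ((Localization.AtPrime p.asIdeal) ⊗[A] M)
    haveI : Module.Finite (Localization.AtPrime p.asIdeal)
        (LocalizedModule p.asIdeal.primeCompl M) := Module.Finite.equiv eN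
    have hD' : ExtDepth ((locD ω p.asIdeal)⟦(-(e : ℤ))⟧)
        (LocalizedModule p.asIdeal.primeCompl M) n :=
      ⟨fun k hk => subsingleton_hom_of_linearEquiv eN _ (hD.1 k hk),
        nontrivial_hom_of_linearEquiv eN _ hD.2⟩
    rw [depth_eq_of_extDepth _ hω' hn' _ n hD']
    have hcast : (((n : ℕ∞) : WithBot ℕ∞) + (e : WithBot ℕ∞) ≤ (i : WithBot ℕ∞)) ↔ n + e ≤ i := by
      norm_cast
    rw [hcast]
    constructor
    · rintro ⟨j, hji, hj⟩
      rw [key j] at hj
      have h1 : ¬ (-(n : ℤ) < -(j : ℤ) + e) := fun hlt =>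
        not_subsingleton _ (hD.1 _ hlt)
      omega
    · intro hle
      refine ⟨n + e, hle, ?_⟩
      rw [key (n + e)]
      have h2 : -(((n + e : ℕ)) : ℤ) + e = -(n : ℤ) := by push_cast; omega
      rw [h2]
      exact hD.2
  · rw [not_nontrivial_iff_subsingleton] at hN
    haveI : Subsingleton (LocalizedModule p.asIdeal.primeCompl M) := eN.symm.toEquiv.subsingleton
    rw [depth_eq_top_of_subsingleton]
    constructor
    · rintro ⟨j, -, hj⟩
      rw [key j] at hj
      exact absurd (nontrivial_of_nontrivial_hom _ _ hj) (not_nontrivial_iff_subsingleton.2 hN)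
    · intro hle
      exfalso
      have h1 : (((⊤ + (e : ℕ∞) : ℕ∞)) : WithBot ℕ∞) ≤ (((i : ℕ∞)) : WithBot ℕ∞) := by
        exact_mod_cast hle
      rw [WithBot.coe_le_coe, top_add] at h1
      exact absurd h1 (by simp)

end Groth.Agent.Lib.DMod_helper6
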