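import Mathlib
import Groth.Prelude.Def_DRing2
import Groth.Prelude.Def_DDual2
import Groth.Prelude.Def_Wider
import Groth.Prelude.Def_CAlg
import Groth.Agent.Lib.DMod92_helper6

/-!
# Derived category toolkit (helper6), part 93: the dual complex `Hom(M, I)` of a module with
respect to a bounded complex of injectives, vanishing of `Hom(RHom(M, ω), ω[i])` for `i ≥ 1`
(a piece of biduality), and: `Ext^•(A/m, ω)` is concentrated in a single degree, where it is
cyclic.
-/

set_option autoImplicit false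
universe u
open CategoryTheory CategoryTheory.Limits DerivedCategory Pretriangulated ZeroObject
attribute [local instance] HasDerivedCategory.standard

namespace Groth.Agent.Lib.DMod_helper6

open DRing

section HomCx

variable {A : Type u} [CommRing A]

/-- `Hom_A(M, -)` as a functor on modules -/
noncomputable abbrev homFun (M : ModuleCat.{u} A) : ModuleCat.{u} A ⥤ ModuleCat.{u} A :=
  (linearCoyoneda A (ModuleCat.{u} A)).obj (Opposite.op M)

/-- the complex `Hom_A(M, I)` -/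
noncomputable abbrev homCx (M : ModuleCat.{u} A) (I : Cx A) : Cx A :=
  ((homFun M).mapHomologicalComplex (ComplexShape.up ℤ)).obj I

/-- contravariant functoriality of `Hom_A(M, I)` in `M` -/
noncomputable abbrev homCxMap {M N : ModuleCat.{u} A} (f : M ⟶ N) (I : Cx A) :
    homCx N I ⟶ homCx M I :=
  (NatTrans.mapHomologicalComplex ((linearCoyoneda A (ModuleCat.{u} A)).map f.op)
    (ComplexShape.up ℤ)).app I

lemma homCxMap_comp_eq_id {M N : ModuleCat.{u} A} (s : N ⟶ M) (r : M ⟶ N) (h : s ≫ r = 𝟙 N)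
    (I : Cx A) : homCxMap r I ≫ homCxMap s I = 𝟙 (homCx N I) := by
  refine HomologicalComplex.hom_ext _ _ (fun k => ?_)
  refine ModuleCat.hom_ext (LinearMap.ext fun (ψ : N ⟶ I.X k) => ?_)
  show s ≫ r ≫ ψ = ψ
  rw [← Category.assoc, h, Category.id_comp]

/-- the short complex of complexes `Hom(X₃, I) → Hom(X₂, I) → Hom(X₁, I)` -/
noncomputable def homSC (S : ShortComplex (ModuleCat.{u} A)) (I : Cx A) : ShortComplex (Cx A) :=
  ShortComplex.mk (homCxMap S.g I) (homCxMap S.f I) (by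
    refine HomologicalComplex.hom_ext _ _ (fun k => ?_)
    refine ModuleCat.hom_ext (LinearMap.ext fun (ψ : S.X₃ ⟶ I.X k) => ?_)
    show S.f ≫ S.g ≫ ψ = 0
    rw [← Category.assoc, S.zero, zero_comp])

lemma homSC_shortExact (S : ShortComplex (ModuleCat.{u} A)) (hS : S.ShortExact) (I : Cx A)
    (hI : TermwiseInjective I) : (homSC S I).ShortExact := by
  refine HomologicalComplex.shortExact_of_degreewise_shortExact _ (fun k => ?_)
  haveI : Injective (I.X k) := by
    haveI := hI k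
    exact Module.injective_object_of_injective_module A (I.X k)
  haveI := hS.mono_f
  haveI := hS.epi_g
  refine ModuleCat.shortComplex_shortExact _ ?_ ?_ ?_
  · intro (ψ : S.X₂ ⟶ I.X k)
    constructor
    · intro (h : S.f ≫ ψ = 0)
      exact ⟨hS.exact.desc ψ h, hS.exact.g_desc ψ h⟩
    · rintro ⟨(φ : S.X₃ ⟶ I.X k), rfl⟩
      show S.f ≫ S.g ≫ φ = 0
      rw [← Category.assoc, S.zero, zero_comp]
  · intro (φ : S.X₃ ⟶ I.X k) (φ' : S.X₃ ⟶ I.X k) (h : S.g ≫ φ = S.g ≫ φ')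
    exact (cancel_epi S.g).1 h
  · intro (χ : S.X₁ ⟶ I.X k)
    exact ⟨Injective.factorThru χ S.f, Injective.comp_factorThru χ S.f⟩

/-- evaluation at `1`: `Hom_A(A, X) ≃ X` -/
noncomputable def evalOne (X : ModuleCat.{u} A) : (ModuleCat.of A A ⟶ X) ≃ₗ[A] X where
  toFun φ := φ.hom (1 : A)
  invFun x := ModuleCat.ofHom (LinearMap.toSpanSingleton A X x)
  map_add' _ _ := rfl
  map_smul' _ _ := rfl
  left_inv φ := by
    refine ModuleCat.hom_ext (LinearMap.ext_ring ?_)
    simp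
  right_inv x := by simp

/-- `Hom_A(A, I) ≅ I` -/
noncomputable def homCxSelfIso (I : Cx A) : homCx (ModuleCat.of A A) I ≅ I :=
  HomologicalComplex.Hom.isoOfComponents (fun k => (evalOne (I.X k)).toModuleIso) (by
    intro k l _
    refine ModuleCat.hom_ext (LinearMap.ext fun (φ : ModuleCat.of A A ⟶ I.X k) => ?_)
    rfl)

end HomCx

section Tri

variable {A : Type u} [CommRing A]

lemma hom_eq_zero_of_distTriang_mid (T : Triangle (Dual.D A)) (hT : T ∈ distTriang (Dual.D A))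
    (W : Dual.D A) (h1 : ∀ α : T.obj₁ ⟶ W, α = 0) (h3 : ∀ α : T.obj₃ ⟶ W, α = 0)
    (φ : T.obj₂ ⟶ W) : φ = 0 := by
  obtain ⟨ψ, hψ⟩ := Pretriangulated.Triangle.yoneda_exact₂ T hT φ (h1 _)
  rw [hψ, h3 ψ, comp_zero]

lemma exists_factor_of_distTriang (T : Triangle (Dual.D A)) (hT : T ∈ distTriang (Dual.D A))
    (W : Dual.D A) (h : ∀ α : T.obj₃ ⟶ W⟦(1 : ℤ)⟧, α = 0) (φ : T.obj₁ ⟶ W) :
    ∃ ψ : T.obj₂ ⟶ W, φ = T.mor₁ ≫ ψ := by
  have h0 : T.mor₃ ≫ φ⟦(1 : ℤ)⟧' = 0 := h _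
  obtain ⟨γ, hγ⟩ : ∃ γ : T.obj₂⟦(1 : ℤ)⟧ ⟶ W⟦(1 : ℤ)⟧,
      φ⟦(1 : ℤ)⟧' = (-(T.mor₁⟦(1 : ℤ)⟧')) ≫ γ :=
    Pretriangulated.Triangle.yoneda_exact₃ _ (rot_of_distTriang _ hT) (φ⟦(1 : ℤ)⟧') h0
  obtain ⟨γ', rfl⟩ := (shiftFunctor (Dual.D A) (1 : ℤ)).map_surjective γ
  refine ⟨-γ', ?_⟩
  apply (shiftFunctor (Dual.D A) (1 : ℤ)).map_injective
  rw [hγ]
  simp only [Functor.map_comp, Functor.map_neg, Preadditive.neg_comp, Preadditive.comp_neg]

end Tri

section DualVanish

variable {A : Type u} [CommRing A] (I : Cx A) (ω : Dual.D A)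

/-- every morphism `RHom(M, ω) → ω[i]` vanishes (where `RHom(M, ω)` is modelled by `Hom(M, I)`) -/
def DualVanish (i : ℤ) (M : Type u) [AddCommGroup M] [Module A M] : Prop :=
  ∀ φ : toD (homCx (ModuleCat.of A M) I) ⟶ ω⟦i⟧, φ = 0

lemma dualVanish_of_subsingleton (i : ℤ) (M : Type u) [AddCommGroup M] [Module A M]
    [Subsingleton M] : DualVanish I ω i M := by
  intro φ
  have hz : IsZero (homCx (ModuleCat.of A M) I) := by
    rw [IsZero.iff_id_eq_zero]
    refine HomologicalComplex.hom_ext _ _ (fun k => ?_)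
    refine ModuleCat.hom_ext (LinearMap.ext fun (ψ : ModuleCat.of A M ⟶ I.X k) => ?_)
    show ψ = 0
    exact (ModuleCat.isZero_of_subsingleton (ModuleCat.of A M)).eq_of_src _ _
  exact (Q.map_isZero hz).eq_of_src _ _

lemma dualVanish_of_retract (i : ℤ) {M N : Type u} [AddCommGroup M] [Module A M]
    [AddCommGroup N] [Module A N] (s : N →ₗ[A] M) (r : M →ₗ[A] N) (h : r ∘ₗ s = LinearMap.id)
    (hM : DualVanish I ω i M) : DualVanish I ω i N := by
  intro φ
  have h1 := homCxMap_comp_eq_id (ModuleCat.ofHom s) (ModuleCat.ofHom r)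
    (by rw [← ModuleCat.ofHom_comp, h, ModuleCat.ofHom_id]) I
  have h2 : φ = Q.map (homCxMap (ModuleCat.ofHom r) I) ≫
      Q.map (homCxMap (ModuleCat.ofHom s) I) ≫ φ := by
    rw [← Category.assoc, ← Functor.map_comp, h1, CategoryTheory.Functor.map_id,
      Category.id_comp]
  rw [h2, hM (Q.map (homCxMap (ModuleCat.ofHom s) I) ≫ φ), comp_zero]

lemma dualVanish_of_linearEquiv (i : ℤ) {M N : Type u} [AddCommGroup M] [Module A M]
    [AddCommGroup N] [Module A N] (e : M ≃ₗ[A] N) (hM : DualVanish I ω i M) :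
    DualVanish I ω i N :=
  dualVanish_of_retract I ω i e.symm.toLinearMap e.toLinearMap
    (LinearMap.ext fun x => e.apply_symm_apply x) hM

lemma dualVanish_of_exact (hinj : TermwiseInjective I) (i : ℤ) {N₁ N₂ N₃ : Type u}
    [AddCommGroup N₁] [Module A N₁] [AddCommGroup N₂] [Module A N₂] [AddCommGroup N₃]
    [Module A N₃] (f : N₁ →ₗ[A] N₂) (g : N₂ →ₗ[A] N₃) (hf : Function.Injective f)
    (hg : Function.Surjective g) (hfg : Function.Exact f g) (h1 : DualVanish I ω i N₁)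
    (h3 : DualVanish I ω i N₃) : DualVanish I ω i N₂ := by
  have hS := linSC_shortExact f g hfg hf hg
  have hT := DerivedCategory.triangleOfSES_distinguished (homSC_shortExact _ hS I hinj)
  intro φ
  exact hom_eq_zero_of_distTriang_mid _ hT _ h3 h1 φ

lemma dualVanish_quot (hinj : TermwiseInjective I) (i : ℤ) (J : Ideal A)
    (hA : DualVanish I ω i A) (hJ : DualVanish I ω (i + 1) J) : DualVanish I ω i (A ⧸ J) := by
  have hS := linSC_shortExact (Submodule.subtype J) (Submodule.mkQ J)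
    (LinearMap.exact_subtype_mkQ J) (Submodule.injective_subtype J) (Submodule.mkQ_surjective J)
  have hT := DerivedCategory.triangleOfSES_distinguished (homSC_shortExact _ hS I hinj)
  intro φ
  let e : ω⟦i + 1⟧ ≅ (ω⟦i⟧)⟦(1 : ℤ)⟧ := (shiftFunctorAdd' (Dual.D A) i 1 (i + 1) rfl).app ω
  obtain ⟨ψ, hψ⟩ := exists_factor_of_distTriang _ hT (ω⟦i⟧) (fun α => by
    rw [← cancel_mono e.inv, zero_comp]
    exact hJ _) φ
  have hψ0 : ψ = 0 := hA ψ
  rw [hψ, hψ0]
  exact comp_zero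

lemma dualVanish_self (e : toD I ≅ ω) (i : ℤ) (h : Subsingleton (ω ⟶ ω⟦i⟧)) :
    DualVanish I ω i A := by
  intro φ
  have h0 : e.inv ≫ Q.map (homCxSelfIso I).inv ≫ φ = 0 := Subsingleton.elim _ _
  rw [← cancel_epi (Q.map (homCxSelfIso I).inv), ← cancel_epi e.inv, h0, comp_zero, comp_zero]

lemma dualVanish_of_gt (a b : ℤ) (hI : VanishesOutside I a b) (hinj : TermwiseInjective I)
    (e : toD I ≅ ω) (i : ℤ) (hi : b - a < i) (M : Type u) [AddCommGroup M] [Module A M] :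
    DualVanish I ω i M := by
  intro φ
  haveI : (homCx (ModuleCat.of A M) I).IsStrictlyGE a := by
    rw [CochainComplex.isStrictlyGE_iff]
    intro k hk
    exact (homFun (ModuleCat.of A M)).map_isZero (hI k (Or.inl hk))
  exact hom_eq_zero_of_isGE_of_hasInjAmplitudeIn ω a b ⟨I, hI, hinj, ⟨e⟩⟩ _ a i (by omega) φ

theorem dualVanish_of_finite [IsNoetherianRing A] (hinj : TermwiseInjective I) (i : ℤ)
    (hA : DualVanish I ω i A)
    (hnext : ∀ (N : Type u) [AddCommGroup N] [Module A N] [Module.Finite A N],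
      DualVanish I ω (i + 1) N)
    (M : Type u) [AddCommGroup M] [Module A M] [hM : Module.Finite A M] :
    DualVanish I ω i M := by
  induction hM using IsNoetherianRing.induction_on_isQuotientEquivQuotientPrime A with
  | subsingleton N => exact dualVanish_of_subsingleton I ω i N
  | quotient N p e =>
    exact dualVanish_of_linearEquiv I ω i e.symm
      (dualVanish_quot I ω hinj i p.asIdeal hA (hnext p.asIdeal))
  | exact N₁ N₂ N₃ f g hf hg hfg h₁ h₃ => exact dualVanish_of_exact I ω hinj i f g hf hg hfg h₁ h₃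

/-- `Hom(RHom(M, ω), ω[i]) = 0` for `i ≥ 1` and `M` finite. -/
theorem dualVanish_pos [IsNoetherianRing A] (a b : ℤ) (hI : VanishesOutside I a b)
    (hinj : TermwiseInjective I) (e : toD I ≅ ω)
    (hself : ∀ i : ℤ, i ≠ 0 → Subsingleton (ω ⟶ ω⟦i⟧)) (i : ℤ) (hi : 1 ≤ i)
    (M : Type u) [AddCommGroup M] [Module A M] [Module.Finite A M] : DualVanish I ω i M := by
  have key : ∀ n : ℕ, ∀ i : ℤ, 1 ≤ i → b - a < i + n →
      ∀ (M : Type u) [AddCommGroup M] [Module A M] [Module.Finite A M], DualVanish I ω i M := by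
    intro n
    induction n with
    | zero =>
      intro i _ hi M _ _ _
      exact dualVanish_of_gt I ω a b hI hinj e i (by simpa using hi) M
    | succ n ih =>
      intro i hi1 hi M _ _ _
      exact dualVanish_of_finite I ω hinj i (dualVanish_self I ω e i (hself i (by omega)))
        (fun N _ _ _ => ih (i + 1) (by omega) (by push_cast at hi; omega) N) M
  exact key (b - a - i + 1).toNat i hi (by omega) M

end DualVanish


section Cycles

variable {A : Type u} [CommRing A]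

/-- a chain map from a module placed in degree `c` given by a boundary vanishes in `D(A)` -/
lemma Q_map_mkHomFromSingle_eq_zero (P : Cx A) (c : ℤ) (M : ModuleCat.{u} A)
    (w : M ⟶ P.X (c - 1))
    (hg : ∀ i, (ComplexShape.up ℤ).Rel c i → (w ≫ P.d (c - 1) c) ≫ P.d c i = 0) :
    Q.map (HomologicalComplex.mkHomFromSingle (w ≫ P.d (c - 1) c) hg) = 0 := by
  let S := (HomologicalComplex.single (ModuleCat.{u} A) (ComplexShape.up ℤ) c).obj M
  let H : Homotopy (HomologicalComplex.mkHomFromSingle (w ≫ P.d (c - 1) c) hg) (0 : S ⟶ P) :=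
    { hom := fun i j => if h : i = c ∧ j = c - 1 then
        eqToHom (by rw [h.1]) ≫
          (HomologicalComplex.singleObjXSelf (ComplexShape.up ℤ) c M).hom ≫ w ≫
            eqToHom (by rw [h.2]) else 0
      zero := fun i j hij => by
        rw [dif_neg]
        rintro ⟨rfl, rfl⟩
        exact hij (by simp)
      comm := fun i => by
        by_cases hi : i = c
        · subst hi
          rw [dNext_eq _ (show (ComplexShape.up ℤ).Rel i (i + 1) from rfl),
            prevD_eq _ (show (ComplexShape.up ℤ).Rel (i - 1) i from by simp),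
            dif_pos (⟨rfl, rfl⟩ : i = i ∧ i - 1 = i - 1)]
          simp [HomologicalComplex.mkHomFromSingle_f]
        · exact (HomologicalComplex.isZero_single_obj_X _ c M i hi).eq_of_src _ _ }
  rw [DerivedCategory.Q_map_eq_of_homotopy _ H, Functor.map_zero]

/-- if every `j`-cocycle of `Hom(M, I)` is a coboundary then `Ext^j(M, ω) = 0`. -/
lemma subsingleton_hom_of_cycles_boundaries (I : Cx A) [I.IsKInjective] (ω : Dual.D A)
    (e : toD I ≅ ω) (M : ModuleCat.{u} A) (j : ℤ)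
    (h : ∀ z : M ⟶ I.X j, z ≫ I.d j (j + 1) = 0 →
      ∃ w : M ⟶ I.X (j - 1), z = w ≫ I.d (j - 1) j) :
    Subsingleton (Dual.inD A M ⟶ ω⟦j⟧) := by
  have key : ∀ u : (HomologicalComplex.single (ModuleCat.{u} A) (ComplexShape.up ℤ) j).obj M ⟶ I,
      Q.map u = 0 := by
    intro u
    have hz : ((HomologicalComplex.singleObjXSelf (ComplexShape.up ℤ) j M).inv ≫ u.f j) ≫
        I.d j (j + 1) = 0 := by
      rw [Category.assoc, u.comm j (j + 1), HomologicalComplex.single_obj_d, zero_comp,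
        comp_zero]
    obtain ⟨w, hw⟩ := h _ hz
    have hu : u = HomologicalComplex.mkHomFromSingle (w ≫ I.d (j - 1) j) (fun k _ => by
        rw [Category.assoc, HomologicalComplex.d_comp_d, comp_zero]) := by
      apply HomologicalComplex.from_single_hom_ext
      rw [HomologicalComplex.mkHomFromSingle_f, ← hw, Iso.hom_inv_id_assoc]
    rw [hu]
    exact Q_map_mkHomFromSingle_eq_zero I j M w _
  refine subsingleton_of_forall_eq 0 (fun ψ => ?_)
  let t := toDSingleIso M j (-j) (by omega)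
  have s : (ω⟦j⟧)⟦-j⟧ ≅ ω := (shiftFunctorCompIsoId (Dual.D A) j (-j) (by omega)).app ω
  obtain ⟨u, hu⟩ := exists_Q_map_eq_of_isKInjective (t.hom ≫ ψ⟦-j⟧' ≫ s.hom ≫ e.inv)
  have h0 : t.hom ≫ ψ⟦-j⟧' ≫ s.hom ≫ e.inv = 0 := by rw [← hu, key u]
  have h1 : ψ⟦-j⟧' = t.inv ≫ (t.hom ≫ ψ⟦-j⟧' ≫ s.hom ≫ e.inv) ≫ e.hom ≫ s.inv := by simp
  rw [h0, zero_comp, comp_zero] at h1
  exact (shiftFunctor (Dual.D A) (-j)).map_injective (by rw [h1, Functor.map_zero])

/-- functionals on a module killed by a maximal ideal -/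
lemma exists_functional (m : Ideal A) [m.IsMaximal] (W : Type u) [AddCommGroup W] [Module A W]
    (hW : ∀ a ∈ m, ∀ w : W, a • w = 0) (B : Submodule A W) (z : W) (hz : z ∉ B) :
    ∃ l : W →ₗ[A] A ⧸ m, l z = 1 ∧ ∀ b ∈ B, l b = 0 := by
  have hQ : Module.IsTorsionBySet A (W ⧸ B) (m : Set A) := by
    intro q a
    obtain ⟨w, rfl⟩ := Submodule.Quotient.mk_surjective B q
    rw [← Submodule.Quotient.mk_smul, hW a a.2, Submodule.Quotient.mk_zero]
  letI : Field (A ⧸ m) := Ideal.Quotient.field m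
  letI : Module (A ⧸ m) (W ⧸ B) := hQ.module
  have hzbar : (Submodule.Quotient.mk z : W ⧸ B) ≠ 0 := by
    rwa [Ne, Submodule.Quotient.mk_eq_zero]
  obtain ⟨g, hg⟩ := (LinearMap.toSpanSingleton (A ⧸ m) (W ⧸ B)
    (Submodule.Quotient.mk z)).exists_leftInverse_of_injective
    (LinearMap.ker_toSpanSingleton _ hzbar)
  refine ⟨(g.restrictScalars A).comp B.mkQ, ?_, ?_⟩
  · have h1 := LinearMap.congr_fun hg 1
    simpa using h1
  · intro b hb
    simp [(Submodule.Quotient.mk_eq_zero B).2 hb]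

/-- the residue field `A ⧸ m` as an object of `ModuleCat A` -/
noncomputable abbrev kk (m : Ideal A) : ModuleCat.{u} A := ModuleCat.of A (A ⧸ m)

lemma smul_hom_kk_eq_zero (m : Ideal A) (X : ModuleCat.{u} A) (a : A) (ha : a ∈ m)
    (w : kk m ⟶ X) : a • w = 0 := by
  refine ModuleCat.hom_ext (LinearMap.ext fun x => ?_)
  obtain ⟨b, rfl⟩ := Ideal.Quotient.mk_surjective x
  have h0 : a • (Ideal.Quotient.mk m b : A ⧸ m) = 0 := by
    show Ideal.Quotient.mk m (a * b) = 0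
    exact Ideal.Quotient.eq_zero_iff_mem.2 (Ideal.mul_mem_right b _ ha)
  have h1 : w.hom (a • (Ideal.Quotient.mk m b : A ⧸ m)) = 0 := by rw [h0, map_zero]
  exact (map_smul w.hom a _).symm.trans h1

/-- a non-bounding cocycle of `Hom(A/m, I)` in degree `j` splits off a copy of `(A/m)[-j]`. -/
lemma exists_retract_single (m : Ideal A) [m.IsMaximal] (I : Cx A) (j : ℤ)
    (z : kk m ⟶ I.X j) (hz : z ≫ I.d j (j + 1) = 0)
    (hnb : ∀ w : kk m ⟶ I.X (j - 1), w ≫ I.d (j - 1) j ≠ z) :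
    ∃ (ι : (HomologicalComplex.single (ModuleCat.{u} A) (ComplexShape.up ℤ) j).obj (kk m) ⟶
        homCx (kk m) I)
      (ρ : homCx (kk m) I ⟶
        (HomologicalComplex.single (ModuleCat.{u} A) (ComplexShape.up ℤ) j).obj (kk m)),
      ι ≫ ρ = 𝟙 _ := by
  have hW : ∀ a ∈ m, ∀ w : kk m ⟶ I.X j, a • w = 0 :=
    fun a ha w => smul_hom_kk_eq_zero m _ a ha w
  let B : Submodule A (kk m ⟶ I.X j) := LinearMap.range ((homCx (kk m) I).d (j - 1) j).hom
  have hzB : z ∉ B := by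
    rintro ⟨w, hw⟩
    exact hnb w hw
  obtain ⟨l, hl1, hl0⟩ := exists_functional m (kk m ⟶ I.X j) hW B z hzB
  let gl : (A ⧸ m) →ₗ[A] (kk m ⟶ I.X j) :=
    Submodule.liftQ m (LinearMap.toSpanSingleton A (kk m ⟶ I.X j) z) (fun a ha => by
      rw [LinearMap.mem_ker, LinearMap.toSpanSingleton_apply]
      exact hW a ha z)
  let g : kk m ⟶ (homCx (kk m) I).X j := ModuleCat.ofHom gl
  let r : (homCx (kk m) I).X j ⟶ kk m := ModuleCat.ofHom l
  have hg : ∀ k, (ComplexShape.up ℤ).Rel j k → g ≫ (homCx (kk m) I).d j k = 0 := by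
    intro k hk
    obtain rfl : j + 1 = k := hk
    refine ModuleCat.hom_ext (LinearMap.ext fun x => ?_)
    obtain ⟨b, rfl⟩ := Ideal.Quotient.mk_surjective x
    show (b • z) ≫ I.d j (j + 1) = 0
    rw [Linear.smul_comp, hz, smul_zero]
  have hr : ∀ k, (ComplexShape.up ℤ).Rel k j → (homCx (kk m) I).d k j ≫ r = 0 := by
    intro k hk
    obtain rfl : k = j - 1 := by
      have : k + 1 = j := hk
      omega
    refine ModuleCat.hom_ext (LinearMap.ext fun w => ?_)
    exact hl0 _ ⟨w, rfl⟩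
  have hgr : g ≫ r = 𝟙 (kk m) := by
    refine ModuleCat.hom_ext (LinearMap.ext fun x => ?_)
    obtain ⟨b, rfl⟩ := Ideal.Quotient.mk_surjective x
    show l (b • z) = Ideal.Quotient.mk m b
    rw [map_smul, hl1]
    show Ideal.Quotient.mk m (b * 1) = Ideal.Quotient.mk m b
    rw [mul_one]
  refine ⟨HomologicalComplex.mkHomFromSingle g hg, HomologicalComplex.mkHomToSingle r hr, ?_⟩
  apply HomologicalComplex.from_single_hom_ext
  rw [HomologicalComplex.comp_f, HomologicalComplex.mkHomFromSingle_f,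
    HomologicalComplex.mkHomToSingle_f, HomologicalComplex.id_f]
  simp only [Category.assoc]
  rw [← Category.assoc g r, hgr, Category.id_comp, Iso.hom_inv_id]

end Cycles


section Main

universe v

variable {A : Type u} [CommRing A] [IsNoetherianRing A] (ω : Dual.D A)

lemma exists_retract_of_nontrivial (I : Cx A) (a b : ℤ) (hI : VanishesOutside I a b)
    (hinj : TermwiseInjective I) (e : toD I ≅ ω) (m : Ideal A) [m.IsMaximal] (j : ℤ)
    (hnt : Nontrivial (Dual.inD A (A ⧸ m) ⟶ ω⟦j⟧)) :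
    ∃ (ι : (HomologicalComplex.single (ModuleCat.{u} A) (ComplexShape.up ℤ) j).obj (kk m) ⟶
        homCx (kk m) I)
      (ρ : homCx (kk m) I ⟶
        (HomologicalComplex.single (ModuleCat.{u} A) (ComplexShape.up ℤ) j).obj (kk m)),
      ι ≫ ρ = 𝟙 _ := by
  haveI : I.IsKInjective := isKInjective_of_injCls ⟨a, b, hI, hinj⟩
  obtain ⟨z, hz, hnb⟩ : ∃ z : kk m ⟶ I.X j, z ≫ I.d j (j + 1) = 0 ∧
      ∀ w : kk m ⟶ I.X (j - 1), w ≫ I.d (j - 1) j ≠ z := by
    by_contra hcon
    push_neg at hcon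
    have hs := subsingleton_hom_of_cycles_boundaries I ω e (kk m) j (fun z hz => by
      obtain ⟨w, hw⟩ := hcon z hz
      exact ⟨w, hw.symm⟩)
    exact (not_subsingleton_iff_nontrivial.2 hnt) hs
  exact exists_retract_single m I j z hz hnb

/-- `Ext^j(A/m, ω) ≠ 0` implies `Ext^{j+i}(A/m, ω) = 0` for all `i ≥ 1`. -/
theorem subsingleton_hom_add_of_nontrivial (hω : Dual.IsDualizing A ω) (m : Ideal A)
    [m.IsMaximal] (j i : ℤ) (hi : 1 ≤ i)
    (hnt : Nontrivial (Dual.inD A (A ⧸ m) ⟶ ω⟦j⟧)) :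
    Subsingleton (Dual.inD A (A ⧸ m) ⟶ ω⟦j + i⟧) := by
  obtain ⟨a, b, I, hI, hinj, ⟨e⟩⟩ := hasFiniteInjDim_of_isDualizing ω hω
  have hpos := dualVanish_pos I ω a b hI hinj e hω.ext_self_subsingleton i hi (A ⧸ m)
  obtain ⟨ι, ρ, hιρ⟩ := exists_retract_of_nontrivial ω I a b hI hinj e m j hnt
  refine subsingleton_of_forall_eq 0 (fun θ => ?_)
  let t := toDSingleIso (kk m) j (-j) (by omega)
  have s : (ω⟦j + i⟧)⟦-j⟧ ≅ ω⟦i⟧ :=
    ((shiftFunctorAdd' (Dual.D A) (j + i) (-j) i (by omega)).app ω).symm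
  have h1 : t.hom ≫ θ⟦-j⟧' ≫ s.hom = 0 := by
    have h2 : t.hom ≫ θ⟦-j⟧' ≫ s.hom = Q.map ι ≫ Q.map ρ ≫ t.hom ≫ θ⟦-j⟧' ≫ s.hom := by
      rw [← Category.assoc (Q.map ι), ← Functor.map_comp, hιρ, CategoryTheory.Functor.map_id,
        Category.id_comp]
    have h4 : Q.map ρ ≫ t.hom ≫ θ⟦-j⟧' ≫ s.hom = 0 := hpos _
    rw [h2, h4, comp_zero]
  have h3 : θ⟦-j⟧' = t.inv ≫ (t.hom ≫ θ⟦-j⟧' ≫ s.hom) ≫ s.inv := by simp
  rw [h1, zero_comp, comp_zero] at h3
  exact (shiftFunctor (Dual.D A) (-j)).map_injective (by rw [h3, Functor.map_zero])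

/-- some `Ext^i(κ, ω)` is nonzero. -/
theorem exists_nontrivial_hom_residueField [IsLocalRing A] (hω : Dual.IsDualizing A ω) :
    ∃ i : ℤ, Nontrivial (Dual.inD A (IsLocalRing.ResidueField A) ⟶ ω⟦i⟧) := by
  by_contra hcon
  have hk : ExtVanishOn Set.univ ω (IsLocalRing.ResidueField A) := fun i _ =>
    not_nontrivial_iff_subsingleton.1 (not_exists.1 hcon i)
  have hall := extVanishOn_of_finite Set.univ ω (fun i _ => Set.mem_univ _) hω hk
    (A ⧸ (⊥ : Ideal A))
  have hH : ∀ i : ℤ, Subsingleton (Dual.HD A ω i) := fun i =>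
    subsingleton_HD_of_hom_quot_bot ω i (hall i (Set.mem_univ i))
  haveI : DerivedCategory.IsGE ω 1 := by
    rw [DerivedCategory.isGE_iff]
    intro j _
    haveI := hH j
    exact ModuleCat.isZero_of_subsingleton _
  haveI : DerivedCategory.IsLE ω 0 := by
    rw [DerivedCategory.isLE_iff]
    intro j _
    haveI := hH j
    exact ModuleCat.isZero_of_subsingleton _
  have hz : IsZero ω := DerivedCategory.TStructure.t.isZero ω 0 1 (by omega)
  have h1 : (fun a : A => a • 𝟙 ω) 1 = (fun a : A => a • 𝟙 ω) 0 := hz.eq_of_src _ _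
  exact one_ne_zero (hω.toEnd_bijective.1 h1)

/-- **Every dualizing complex over a noetherian local ring is normalized up to a shift.** -/
theorem exists_isNormalized_shift [IsLocalRing A] (hω : Dual.IsDualizing A ω) :
    ∃ n : ℤ, Dual.IsNormalized A (ω⟦n⟧) := by
  obtain ⟨n, hn⟩ := exists_nontrivial_hom_residueField ω hω
  refine ⟨n, fun i hi => ?_⟩
  have e' : (ω⟦n⟧)⟦i⟧ ≅ ω⟦n + i⟧ :=
    ((shiftFunctorAdd' (Dual.D A) n i (n + i) rfl).app ω).symm
  refine (subsingleton_hom_iso_right e').2 ?_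
  refine subsingleton_hom_of_linearEquiv resEquiv _ ?_
  have hn' : Nontrivial (Dual.inD A (A ⧸ IsLocalRing.maximalIdeal A) ⟶ ω⟦n⟧) :=
    nontrivial_hom_of_linearEquiv resEquiv.symm _ hn
  rcases lt_or_gt_of_ne hi with hlt | hgt
  · by_contra hcon
    rw [not_subsingleton_iff_nontrivial] at hcon
    have h2 := subsingleton_hom_add_of_nontrivial ω hω (IsLocalRing.maximalIdeal A) (n + i) (-i)
      (by omega) hcon
    rw [show n + i + -i = n by ring] at h2
    exact (not_subsingleton_iff_nontrivial.2 hn') h2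
  · exact subsingleton_hom_add_of_nontrivial ω hω _ n i (by omega) hn'

/-- in the degree where it is nonzero, `Ext^n(A/m, ω)` is generated by one element. -/
theorem exists_generator_hom (hω : Dual.IsDualizing A ω) (m : Ideal A) [m.IsMaximal] (n : ℤ)
    (hnt : Nontrivial (Dual.inD A (A ⧸ m) ⟶ ω⟦n⟧)) :
    ∃ θ₀ : Dual.inD A (A ⧸ m) ⟶ ω⟦n⟧, ∀ θ : Dual.inD A (A ⧸ m) ⟶ ω⟦n⟧,
      ∃ r : A, θ = r • θ₀ := by
  obtain ⟨a, b, I, hI, hinj, ⟨e⟩⟩ := hasFiniteInjDim_of_isDualizing ω hω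
  have hpos := dualVanish_pos I ω a b hI hinj e hω.ext_self_subsingleton 1 le_rfl m
  obtain ⟨ι, ρ, hιρ⟩ := exists_retract_of_nontrivial ω I a b hI hinj e m n hnt
  have hS := linSC_shortExact (Submodule.subtype m) (Submodule.mkQ m)
    (LinearMap.exact_subtype_mkQ m) (Submodule.injective_subtype m) (Submodule.mkQ_surjective m)
  have hT := DerivedCategory.triangleOfSES_distinguished (homSC_shortExact _ hS I hinj)
  let c : toD (homCx (ModuleCat.of A A) I) ≅ ω := Q.mapIso (homCxSelfIso I) ≪≫ e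
  let can : toD (homCx (kk m) I) ⟶ ω :=
    Q.map (homCxMap (ModuleCat.ofHom (Submodule.mkQ m)) I) ≫ c.hom
  have hcan : ∀ φ : toD (homCx (kk m) I) ⟶ ω, ∃ r : A, φ = r • can := by
    intro φ
    obtain ⟨ψ, hψ⟩ := exists_factor_of_distTriang _ hT ω hpos φ
    obtain ⟨r, hr⟩ := hω.toEnd_bijective.2 (c.inv ≫ ψ)
    have hr' : r • 𝟙 ω = c.inv ≫ ψ := hr
    refine ⟨r, ?_⟩
    have h5 : ψ = c.hom ≫ (r • 𝟙 ω) := by rw [hr', Iso.hom_inv_id_assoc]
    have hψ' : φ = Q.map (homCxMap (ModuleCat.ofHom (Submodule.mkQ m)) I) ≫ ψ := hψ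
    rw [hψ', h5]
    simp only [can, Linear.comp_smul, Category.comp_id, Category.assoc]
  let t := toDSingleIso (kk m) n (-n) (by omega)
  have s : (ω⟦n⟧)⟦-n⟧ ≅ ω := (shiftFunctorCompIsoId (Dual.D A) n (-n) (by omega)).app ω
  obtain ⟨θ₀, hθ₀⟩ := (shiftFunctor (Dual.D A) (-n)).map_surjective
    (t.inv ≫ (Q.map ι ≫ can) ≫ s.inv)
  refine ⟨θ₀, fun θ => ?_⟩
  obtain ⟨r, hr⟩ := hcan (Q.map ρ ≫ t.hom ≫ θ⟦-n⟧' ≫ s.hom)
  refine ⟨r, ?_⟩
  apply (shiftFunctor (Dual.D A) (-n)).map_injective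
  rw [Functor.map_smul, hθ₀]
  have h2 : t.hom ≫ θ⟦-n⟧' ≫ s.hom = Q.map ι ≫ Q.map ρ ≫ t.hom ≫ θ⟦-n⟧' ≫ s.hom := by
    rw [← Category.assoc (Q.map ι), ← Functor.map_comp, hιρ, CategoryTheory.Functor.map_id,
      Category.id_comp]
  rw [hr] at h2
  have h3 : θ⟦-n⟧' = t.inv ≫ (t.hom ≫ θ⟦-n⟧' ≫ s.hom) ≫ s.inv := by simp
  rw [h3, h2]
  simp only [Linear.comp_smul, Linear.smul_comp, Category.assoc]

omit [IsNoetherianRing A] in
/-- a nonzero cyclic module killed by a maximal ideal `m` is `A ⧸ m`. -/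
lemma nonempty_linearEquiv_quot_of_generator (m : Ideal A) [m.IsMaximal] (E : Type v)
    [AddCommGroup E] [Module A E] [Nontrivial E] (hE : ∀ a ∈ m, ∀ x : E, a • x = 0) (x₀ : E)
    (hgen : ∀ x : E, ∃ a : A, x = a • x₀) : Nonempty (E ≃ₗ[A] (A ⧸ m)) := by
  let f : A →ₗ[A] E := LinearMap.toSpanSingleton A E x₀
  have hsurj : Function.Surjective f := fun x => by
    obtain ⟨a, rfl⟩ := hgen x
    exact ⟨a, LinearMap.toSpanSingleton_apply _ _ _ _⟩
  have hker : m = LinearMap.ker f := by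
    refine Ideal.IsMaximal.eq_of_le inferInstance ?_ ?_
    · intro htop
      have h1 : (1 : A) ∈ LinearMap.ker f := by rw [htop]; trivial
      rw [LinearMap.mem_ker, LinearMap.toSpanSingleton_apply, one_smul] at h1
      obtain ⟨x, hx⟩ := exists_ne (0 : E)
      obtain ⟨a, rfl⟩ := hgen x
      exact hx (by rw [h1, smul_zero])
    · intro a ha
      rw [LinearMap.mem_ker, LinearMap.toSpanSingleton_apply]
      exact hE a ha x₀
  exact ⟨((Submodule.quotEquivOfEq _ _ hker).trans (f.quotKerEquivOfSurjective hsurj)).symm⟩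

/-- elements of `m` kill `Ext^i(A/m, K)`. -/
lemma smul_hom_inD_quot_eq_zero {A : Type u} [CommRing A] (m : Ideal A) (K : Dual.D A) (a : A)
    (ha : a ∈ m) (θ : Dual.inD A (A ⧸ m) ⟶ K) : a • θ = 0 := by
  have h0 : a • 𝟙 (ModuleCat.of A (A ⧸ m)) = 0 := smul_hom_kk_eq_zero m _ a ha _
  have h1 : a • 𝟙 (Dual.inD A (A ⧸ m)) = 0 := by
    rw [← CategoryTheory.Functor.map_id, ← Functor.map_smul, h0, Functor.map_zero]
  rw [← Category.id_comp θ, ← Linear.smul_comp, h1, zero_comp]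

/-- **`Ext^n(A/m, ω) ≅ A/m`** in the degree where it is nonzero. -/
theorem nonempty_hom_linearEquiv_quot (hω : Dual.IsDualizing A ω) (m : Ideal A) [m.IsMaximal]
    (n : ℤ) (hnt : Nontrivial (Dual.inD A (A ⧸ m) ⟶ ω⟦n⟧)) :
    Nonempty ((Dual.inD A (A ⧸ m) ⟶ ω⟦n⟧) ≃ₗ[A] (A ⧸ m)) := by
  obtain ⟨θ₀, hθ₀⟩ := exists_generator_hom ω hω m n hnt
  exact nonempty_linearEquiv_quot_of_generator m _
    (fun a ha θ => smul_hom_inD_quot_eq_zero m _ a ha θ) θ₀ hθ₀

end Main

end Groth.Agent.Lib.DMod_helper6
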