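import Mathlib
import Groth.Prelude.Def_DRing2
import Groth.Prelude.Def_DDual2
import Groth.Prelude.Def_Wider
import Groth.Prelude.Def_CAlg
import Groth.Agent.Lib.DMod93_helper6

/-!
# Derived category toolkit (helper6), part 94: consequences of "every dualizing complex over a
local ring is normalized up to shift": finite Krull dimension (S0371), the cohomology at a minimal
prime (S1762), Cohen–Macaulayness when the dualizing complex is a module (S0370), the dimension
function (S1722), `Ext^•(A/m, ω)` (S0364).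
-/

set_option autoImplicit false
universe u
open CategoryTheory CategoryTheory.Limits DerivedCategory Pretriangulated ZeroObject
open scoped Pointwise TensorProduct
attribute [local instance] HasDerivedCategory.standard

namespace Groth.Agent.Lib.DMod_helper6

open DRing Groth.Agent.ExtendScalarsLib

section ShiftIso

variable {A : Type u} [CommRing A]

/-- `K[n][i] ≅ K[n+i]` -/
noncomputable def shiftShiftIso (K : Dual.D A) (n i j : ℤ) (h : n + i = j) :
    (K⟦n⟧)⟦i⟧ ≅ K⟦j⟧ :=
  ((shiftFunctorAdd' (Dual.D A) n i j h).app K).symm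

lemma nontrivial_of_mem_support {M : Type*} [AddCommGroup M] [Module A M] {x : PrimeSpectrum A}
    (h : x ∈ Module.support A M) : Nontrivial M := by
  by_contra hcon
  rw [not_nontrivial_iff_subsingleton] at hcon
  rw [Module.support_eq_empty] at h
  exact h

lemma subsingleton_HD_iso {K K' : Dual.D A} (e : K ≅ K') (i : ℤ) :
    Subsingleton (Dual.HD A K i) ↔ Subsingleton (Dual.HD A K' i) := by
  have e' := (DerivedCategory.homologyFunctor (ModuleCat.{u} A) i).mapIso e
  constructor
  · intro h
    exact ModuleCat.subsingleton_of_isZero (IsZero.of_iso (ModuleCat.isZero_of_subsingleton _) e'.symm)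
  · intro h
    exact ModuleCat.subsingleton_of_isZero (IsZero.of_iso (ModuleCat.isZero_of_subsingleton _) e')

end ShiftIso

section Local

variable {B : Type u} [CommRing B] [IsLocalRing B] [IsNoetherianRing B] (K : Dual.D B)

/-- if `K[n]` is normalized then `Ext^i(κ, K) ≠ 0` exactly for `i = n`. -/
theorem nontrivial_hom_residueField_iff (hK : Dual.IsDualizing B K) (n : ℤ)
    (hn : Dual.IsNormalized B (K⟦n⟧)) (i : ℤ) :
    Nontrivial (Dual.inD B (IsLocalRing.ResidueField B) ⟶ K⟦i⟧) ↔ i = n := by
  constructor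
  · intro h
    by_contra hne
    have hs := hn (i - n) (by omega)
    have hs' := (subsingleton_hom_iso_right (shiftShiftIso K n (i - n) i (by omega))).1 hs
    exact (not_subsingleton_iff_nontrivial.2 h) hs'
  · rintro rfl
    have h0 := nontrivial_hom_residueField (K⟦i⟧) (isDualizing_shift K hK i) hn
    exact (nontrivial_hom_iso_right (shiftShiftIso K i 0 i (by omega))).1 h0

/-- for a prime `P` such that `B/P` has dimension one, `Ext^j(B/P, K) ≠ 0` only for `j = -1`. -/
theorem eq_neg_one_of_nontrivial_hom_quot (hK : Dual.IsDualizing B K)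
    (hn : Dual.IsNormalized B K) (P : Ideal B) [P.IsPrime]
    (hP : P ≠ IsLocalRing.maximalIdeal B)
    (hcov : ∀ P' : Ideal B, P'.IsPrime → P ≤ P' → P' = P ∨ P' = IsLocalRing.maximalIdeal B)
    (j : ℤ) (h : Nontrivial (Dual.inD B (B ⧸ P) ⟶ K⟦j⟧)) : j = -1 := by
  have hdim : Module.supportDim B (B ⧸ P) ≤ ((1 : ℕ) : WithBot ℕ∞) := by
    unfold Module.supportDim
    rw [Nat.cast_one, Order.krullDim_le_one_iff]
    rintro ⟨P', hP'⟩
    rw [Module.mem_support_iff_of_finite, Ideal.annihilator_quotient] at hP'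
    rcases hcov P'.asIdeal P'.isPrime hP' with h1 | h1
    · left
      rintro ⟨Q, hQ⟩ _
      rw [Module.mem_support_iff_of_finite, Ideal.annihilator_quotient] at hQ
      show P'.asIdeal ≤ Q.asIdeal
      rw [h1]
      exact hQ
    · right
      rintro ⟨Q, hQ⟩ _
      show Q.asIdeal ≤ P'.asIdeal
      rw [h1]
      exact IsLocalRing.le_maximalIdeal Q.isPrime.ne_top
  rcases lt_trichotomy j (-1) with hlt | heq | hgt
  · exfalso
    have hs := subsingleton_ext_of_lt_neg_supportDim K hK hn 1 (B ⧸ P) hdim j (by omega)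
    exact (not_subsingleton_iff_nontrivial.2 h) hs
  · exact heq
  · exfalso
    by_cases hj0 : j = 0
    · subst hj0
      have hlt' : P < IsLocalRing.maximalIdeal B :=
        lt_of_le_of_ne (IsLocalRing.le_maximalIdeal (Ideal.IsPrime.ne_top inferInstance)) hP
      obtain ⟨x, hxm, hxP⟩ := SetLike.exists_of_lt hlt'
      refine not_extDepth_zero_of_regular K hK hn x hxm
        (isSMulRegular_quot_prime P inferInstance x hxP) ⟨?_, ?_⟩
      · intro i hi
        exact extVanish_of_finite K hK hn (B ⧸ P) i (by omega)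
      · rw [show (-((0 : ℕ) : ℤ)) = 0 by simp]
        exact h
    · have hs := extVanish_of_finite K hK hn (B ⧸ P) j (by omega)
      exact (not_subsingleton_iff_nontrivial.2 h) hs

end Local

section Global

variable {A : Type u} [CommRing A] [IsNoetherianRing A] (ω : Dual.D A)

lemma isNoetherianRing_atPrime (p : Ideal A) [p.IsPrime] :
    IsNoetherianRing (Localization.AtPrime p) :=
  IsLocalization.isNoetherianRing p.primeCompl _ inferInstance

/-- `A_q ⊗ A/J ≅ A_q / J'` in `D(A_q)` when `J` is the contraction of `J'`. -/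
lemma nonempty_tensorQuot_iso (q : Ideal A) [q.IsPrime] (J' : Ideal (Localization.AtPrime q))
    (J : Ideal A) (hJ : J'.comap (algebraMap A (Localization.AtPrime q)) = J) :
    Nonempty (Dual.inD (Localization.AtPrime q) ((Localization.AtPrime q) ⊗[A] (A ⧸ J)) ≅
      Dual.inD (Localization.AtPrime q) ((Localization.AtPrime q) ⧸ J')) := by
  obtain ⟨e1⟩ := nonempty_bcD_quot_iso (A := A) (B := Localization.AtPrime q) q.primeCompl J'
  let e2 : Dual.inD A (A ⧸ J) ≅
      Dual.inD A (A ⧸ J'.comap (algebraMap A (Localization.AtPrime q))) :=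
    inDIsoOfLinearEquiv (Submodule.quotEquivOfEq _ _ hJ.symm)
  exact ⟨(bcSingleIso (B := Localization.AtPrime q) (A ⧸ J)).symm ≪≫
    (bcD A (Localization.AtPrime q)).mapIso e2 ≪≫ e1⟩

lemma nonempty_tensorQuot_iso_residueField (p : Ideal A) [p.IsPrime] :
    Nonempty (Dual.inD (Localization.AtPrime p) ((Localization.AtPrime p) ⊗[A] (A ⧸ p)) ≅
      Dual.inD (Localization.AtPrime p) (IsLocalRing.ResidueField (Localization.AtPrime p))) := by
  obtain ⟨e⟩ := nonempty_tensorQuot_iso p (IsLocalRing.maximalIdeal (Localization.AtPrime p)) p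
    (IsLocalization.AtPrime.under_maximalIdeal (Localization.AtPrime p) p)
  exact ⟨e ≪≫ inDIsoOfLinearEquiv resEquiv⟩

/-- `p ∈ Supp Ext^i(A/p, ω)` iff `Ext^i(κ(p), ω_p) ≠ 0`. -/
theorem mem_support_hom_quot_iff (p : Ideal A) [p.IsPrime] (hω : Dual.IsDualizing A ω) (i : ℤ) :
    (⟨p, inferInstance⟩ : PrimeSpectrum A) ∈ Module.support A (Dual.inD A (A ⧸ p) ⟶ ω⟦i⟧) ↔
      Nontrivial (Dual.inD (Localization.AtPrime p)
        (IsLocalRing.ResidueField (Localization.AtPrime p)) ⟶ (locD ω p)⟦i⟧) := by
  rw [mem_support_ext_iff ω p hω (A ⧸ p) i]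
  obtain ⟨iso⟩ := nonempty_tensorQuot_iso_residueField p
  exact nontrivial_hom_iso_left iso

theorem isDualizing_locD (p : Ideal A) [p.IsPrime] (hω : Dual.IsDualizing A ω) :
    Dual.IsDualizing (Localization.AtPrime p) (locD ω p) :=
  isDualizing_bcD p.primeCompl ω hω

theorem exists_isNormalized_locD_shift (p : Ideal A) [p.IsPrime] (hω : Dual.IsDualizing A ω) :
    ∃ n : ℤ, Dual.IsNormalized (Localization.AtPrime p) ((locD ω p)⟦n⟧) := by
  haveI := isNoetherianRing_atPrime p
  exact exists_isNormalized_shift _ (isDualizing_locD ω p hω)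

/-- the height of any prime is bounded by the injective amplitude of a dualizing complex -/
theorem height_le_of_isDualizing (hω : Dual.IsDualizing A ω) (a b : ℤ)
    (hab : ∀ (M : Type u) [AddCommGroup M] [Module A M] (i : ℤ),
      (i < a ∨ b < i) → Subsingleton (Dual.inD A M ⟶ ω⟦i⟧))
    (p : Ideal A) [p.IsPrime] :
    ((p.height : ℕ∞) : WithBot ℕ∞) ≤ (((b - a).toNat : ℕ) : WithBot ℕ∞) := by
  haveI := isNoetherianRing_atPrime p
  have hωp := isDualizing_locD ω p hω
  obtain ⟨n, hn⟩ := exists_isNormalized_locD_shift ω p hω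
  have hω' := isDualizing_shift _ hωp n
  have hdimB : ringKrullDim (Localization.AtPrime p) = p.height :=
    IsLocalization.AtPrime.ringKrullDim_eq_height p (Localization.AtPrime p)
  obtain ⟨d, hd⟩ := exists_nat_eq_of_nonneg_of_lt_top (ringKrullDim (Localization.AtPrime p))
    ringKrullDim_nonneg_of_nontrivial ringKrullDim_lt_top
  have hsd : Module.supportDim (Localization.AtPrime p) (Localization.AtPrime p) =
      (d : WithBot ℕ∞) := by
    rw [Module.supportDim_self_eq_ringKrullDim, hd]
  have h1 := nontrivial_ext_neg_supportDim ((locD ω p)⟦n⟧) hω' hn (Localization.AtPrime p) d hsd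
  have h2 : Nontrivial (Dual.inD (Localization.AtPrime p) (Localization.AtPrime p) ⟶
      (locD ω p)⟦n - d⟧) :=
    (nontrivial_hom_iso_right (shiftShiftIso (locD ω p) n (-(d : ℤ)) (n - d) (by ring))).1 h1
  rw [nontrivial_hom_inD_self_iff, nontrivial_HD_locD_iff] at h2
  have h3 : Nontrivial (Dual.HD A ω (n - d)) := by
    by_contra hcon
    rw [not_nontrivial_iff_subsingleton] at hcon
    exact not_subsingleton _
      (inferInstance : Subsingleton (LocalizedModule p.primeCompl (Dual.HD A ω (n - d))))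
  have h4 : Nontrivial (Dual.inD A A ⟶ ω⟦n - d⟧) := (nontrivial_hom_inD_self_iff ω _).2 h3
  have h5 : a ≤ n - d := by
    by_contra hcon
    exact (not_subsingleton_iff_nontrivial.2 h4) (hab A (n - d) (Or.inl (by omega)))
  have h6 : Nontrivial (Dual.inD (Localization.AtPrime p)
      (IsLocalRing.ResidueField (Localization.AtPrime p)) ⟶ (locD ω p)⟦n⟧) :=
    (nontrivial_hom_residueField_iff (locD ω p) hωp n hn n).2 rfl
  have h7 := (mem_support_hom_quot_iff ω p hω n).2 h6
  have h8 : Nontrivial (Dual.inD A (A ⧸ p) ⟶ ω⟦n⟧) := nontrivial_of_mem_support h7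
  have h9 : n ≤ b := by
    by_contra hcon
    exact (not_subsingleton_iff_nontrivial.2 h8) (hab (A ⧸ p) n (Or.inr (by omega)))
  have hdk : d ≤ (b - a).toNat := by omega
  have h10 : ((p.height : ℕ∞) : WithBot ℕ∞) = ((d : ℕ) : WithBot ℕ∞) := by
    rw [← hdimB, hd]
  rw [h10]
  exact_mod_cast hdk

/-- S0371. -/
theorem ringKrullDim_lt_top_of_isDualizing (hω : Dual.IsDualizing A ω) : ringKrullDim A < ⊤ := by
  obtain ⟨a, b, hab⟩ := hω.finite_injective_dimension
  refine lt_of_le_of_lt ((ringKrullDim_le_iff_height_le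
    (((b - a).toNat : ℕ) : WithBot ℕ∞)).2 (fun p hp => ?_))
    (WithBot.coe_lt_coe.2 (ENat.natCast_lt_top _))
  haveI := hp
  exact height_le_of_isDualizing ω hω a b hab p

/-- S1762. -/
theorem existsUnique_nontrivial_localized_HD (hω : Dual.IsDualizing A ω) (p : Ideal A)
    [p.IsPrime] (hp : p ∈ minimalPrimes A) :
    ∃! i : ℤ, Nontrivial (LocalizedModule p.primeCompl (Dual.HD A ω i)) := by
  haveI := isNoetherianRing_atPrime p
  have hωp := isDualizing_locD ω p hω
  obtain ⟨n, hn⟩ := exists_isNormalized_locD_shift ω p hω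
  have hω' := isDualizing_shift _ hωp n
  have h0 : Module.supportDim (Localization.AtPrime p) (Localization.AtPrime p) ≤
      ((0 : ℕ) : WithBot ℕ∞) := by
    rw [Module.supportDim_self_eq_ringKrullDim,
      IsLocalization.AtPrime.ringKrullDim_eq_height p (Localization.AtPrime p),
      Ideal.height_eq_zero_iff.2 hp]
    rfl
  have key : ∀ i : ℤ, Nontrivial (LocalizedModule p.primeCompl (Dual.HD A ω i)) ↔ i = n := by
    intro i
    rw [← nontrivial_HD_locD_iff p ω i, ← nontrivial_hom_inD_self_iff,
      ← nontrivial_hom_iso_right (shiftShiftIso (locD ω p) n (i - n) i (by ring)),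
      nontrivial_ext_iff_of_supportDim_le_zero _ hω' hn (Localization.AtPrime p) h0 (i - n)]
    omega
  exact ⟨n, (key n).2 rfl, fun i hi => (key i).1 hi⟩

/-- S0370 (local part). -/
theorem isCohenMacaulayLocalRing_atPrime_of_dualizing_module (W : Type u) [AddCommGroup W]
    [Module A W] [Module.Finite A W] (h : Dual.IsDualizing A (Dual.inD A W)) (p : Ideal A)
    [p.IsPrime] : LocCoh.IsCohenMacaulayLocalRing (Localization.AtPrime p) := by
  haveI := isNoetherianRing_atPrime p
  have hωp := isDualizing_locD (Dual.inD A W) p h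
  have eK : locD (Dual.inD A W) p ≅
      Dual.inD (Localization.AtPrime p) ((Localization.AtPrime p) ⊗[A] W) :=
    bcSingleIso (B := Localization.AtPrime p) W
  have hHK : ∀ j : ℤ, j ≠ 0 →
      Subsingleton (Dual.HD (Localization.AtPrime p) (locD (Dual.inD A W) p) j) := fun j hj =>
    (subsingleton_HD_iso eK j).2 (ModuleCat.subsingleton_of_isZero (isZero_HD_inD _ j hj))
  obtain ⟨n, hn⟩ := exists_isNormalized_locD_shift (Dual.inD A W) p h
  have hω' := isDualizing_shift _ hωp n
  obtain ⟨d, hd⟩ := exists_nat_eq_of_nonneg_of_lt_top (ringKrullDim (Localization.AtPrime p))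
    ringKrullDim_nonneg_of_nontrivial ringKrullDim_lt_top
  have hsd : Module.supportDim (Localization.AtPrime p) (Localization.AtPrime p) =
      (d : WithBot ℕ∞) := by
    rw [Module.supportDim_self_eq_ringKrullDim, hd]
  have h1 := nontrivial_ext_neg_supportDim ((locD (Dual.inD A W) p)⟦n⟧) hω' hn
    (Localization.AtPrime p) d hsd
  have h2 : Nontrivial (Dual.HD (Localization.AtPrime p) (locD (Dual.inD A W) p) (n - d)) := by
    rw [← nontrivial_hom_inD_self_iff]
    exact (nontrivial_hom_iso_right
      (shiftShiftIso (locD (Dual.inD A W) p) n (-(d : ℤ)) (n - d) (by ring))).1 h1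
  have hnd : n - d = 0 := by
    by_contra hne
    exact (not_subsingleton_iff_nontrivial.2 h2) (hHK _ hne)
  have hdepth : LocCoh.depth (Localization.AtPrime p) (Localization.AtPrime p) = d := by
    rw [depth_self_eq_iff ((locD (Dual.inD A W) p)⟦n⟧) hω' hn d]
    refine ⟨fun δ hδ => ?_, ?_⟩
    · rw [← subsingleton_hom_inD_self_iff,
        subsingleton_hom_iso_right
          (shiftShiftIso (locD (Dual.inD A W) p) n (-(δ : ℤ)) (n - δ) (by ring)),
        subsingleton_hom_inD_self_iff]
      exact hHK _ (by omega)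
    · rw [← nontrivial_hom_inD_self_iff]
      exact h1
  exact { (inferInstance : IsNoetherianRing (Localization.AtPrime p)),
          (inferInstance : IsLocalRing (Localization.AtPrime p)) with
          supportDim_eq_depth := by rw [hsd, hdepth]; norm_cast }

/-- `Ext^i(A/m, ω)` vanishes for `i ≠ n` once `Ext^n(A/m, ω) ≠ 0`. -/
theorem subsingleton_hom_quot_of_ne (hω : Dual.IsDualizing A ω) (m : Ideal A) [m.IsMaximal]
    (n i : ℤ) (hnt : Nontrivial (Dual.inD A (A ⧸ m) ⟶ ω⟦n⟧)) (hi : i ≠ n) :
    Subsingleton (Dual.inD A (A ⧸ m) ⟶ ω⟦i⟧) := by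
  rcases lt_or_gt_of_ne hi with hlt | hgt
  · by_contra hcon
    rw [not_subsingleton_iff_nontrivial] at hcon
    have h2 := subsingleton_hom_add_of_nontrivial ω hω m i (n - i) (by omega) hcon
    rw [show i + (n - i) = n by ring] at h2
    exact (not_subsingleton_iff_nontrivial.2 hnt) h2
  · have h2 := subsingleton_hom_add_of_nontrivial ω hω m n (i - n) (by omega) hnt
    rwa [show n + (i - n) = i by ring] at h2

/-- S0364. -/
theorem exists_single_degree_quot_maximal (hω : Dual.IsDualizing A ω) (m : Ideal A)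
    [m.IsMaximal] :
    ∃ n : ℤ, (∀ i : ℤ, i ≠ n → Subsingleton (Dual.inD A (A ⧸ m) ⟶ ω⟦i⟧)) ∧
      Nonempty ((Dual.inD A (A ⧸ m) ⟶ ω⟦n⟧) ≃ₗ[A] (A ⧸ m)) := by
  haveI := isNoetherianRing_atPrime m
  obtain ⟨n, hn⟩ := exists_nontrivial_hom_residueField (locD ω m) (isDualizing_locD ω m hω)
  have h1 := (mem_support_hom_quot_iff ω m hω n).2 hn
  have hnt : Nontrivial (Dual.inD A (A ⧸ m) ⟶ ω⟦n⟧) := nontrivial_of_mem_support h1
  exact ⟨n, fun i hi => subsingleton_hom_quot_of_ne ω hω m n i hnt hi,
    nonempty_hom_linearEquiv_quot ω hω m n hnt⟩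

end Global

end Groth.Agent.Lib.DMod_helper6
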