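import Mathlib
import Groth.Prelude.Def_DRing2
import Groth.Prelude.Def_DDual2
import Groth.Prelude.Def_Wider
import Groth.Prelude.Def_CAlg
import Groth.Agent.Lib.DMod94_helper6

/-!
# Derived category toolkit (helper6), part 95: the dimension function of a dualizing complex
(S1722).
-/

set_option autoImplicit false
universe u
open CategoryTheory CategoryTheory.Limits DerivedCategory Pretriangulated ZeroObject
open scoped Pointwise TensorProduct
attribute [local instance] HasDerivedCategory.standard

namespace Groth.Agent.Lib.DMod_helper6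

open DRing Groth.Agent.ExtendScalarsLib

section DimFun

variable {A : Type u} [CommRing A] [IsNoetherianRing A] (ω : Dual.D A)

/-- if `p ⋖ q` and `ω_p[np]`, `ω_q[nq]` are normalized then `np = nq - 1`. -/
theorem normalizing_shift_covBy (hω : Dual.IsDualizing A ω) (p q : PrimeSpectrum A)
    (hpq : p ⋖ q) (np nq : ℤ)
    (hp : p ∈ Module.support A (Dual.inD A (A ⧸ p.asIdeal) ⟶ ω⟦np⟧))
    (hnq : Dual.IsNormalized (Localization.AtPrime q.asIdeal) ((locD ω q.asIdeal)⟦nq⟧)) :
    np = nq - 1 := by
  haveI := isNoetherianRing_atPrime q.asIdeal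
  have hq_mem : q ∈ Module.support A (Dual.inD A (A ⧸ p.asIdeal) ⟶ ω⟦np⟧) :=
    Module.mem_support_mono hpq.le hp
  have h1 : Nontrivial (Dual.inD (Localization.AtPrime q.asIdeal)
      ((Localization.AtPrime q.asIdeal) ⊗[A] (A ⧸ p.asIdeal)) ⟶ (locD ω q.asIdeal)⟦np⟧) :=
    (mem_support_ext_iff ω q.asIdeal hω (A ⧸ p.asIdeal) np).1 hq_mem
  have hple : p.asIdeal ≤ q.asIdeal := hpq.le
  have hdisj : Disjoint (q.asIdeal.primeCompl : Set A) (p.asIdeal : Set A) :=
    Set.disjoint_left.2 (fun x hx hxp => hx (hple hxp))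
  haveI hPprime : (Ideal.map (algebraMap A (Localization.AtPrime q.asIdeal)) p.asIdeal).IsPrime :=
    IsLocalization.isPrime_of_isPrime_disjoint q.asIdeal.primeCompl _ p.asIdeal p.isPrime hdisj
  have hcomap : (Ideal.map (algebraMap A (Localization.AtPrime q.asIdeal)) p.asIdeal).comap
      (algebraMap A (Localization.AtPrime q.asIdeal)) = p.asIdeal :=
    IsLocalization.under_map_of_isPrime_disjoint q.asIdeal.primeCompl _ p.isPrime hdisj
  have hqm : (IsLocalRing.maximalIdeal (Localization.AtPrime q.asIdeal)).comap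
      (algebraMap A (Localization.AtPrime q.asIdeal)) = q.asIdeal :=
    IsLocalization.AtPrime.under_maximalIdeal (Localization.AtPrime q.asIdeal) q.asIdeal
  obtain ⟨iso⟩ := nonempty_tensorQuot_iso q.asIdeal
    (Ideal.map (algebraMap A (Localization.AtPrime q.asIdeal)) p.asIdeal) p.asIdeal hcomap
  have h2 := (nontrivial_hom_iso_left iso).1 h1
  have h3 := (nontrivial_hom_iso_right
    (shiftShiftIso (locD ω q.asIdeal) nq (np - nq) np (by ring))).2 h2
  have hPne : Ideal.map (algebraMap A (Localization.AtPrime q.asIdeal)) p.asIdeal ≠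
      IsLocalRing.maximalIdeal (Localization.AtPrime q.asIdeal) := by
    intro heq
    rw [heq, hqm] at hcomap
    exact hpq.lt.ne (PrimeSpectrum.ext hcomap.symm)
  have hcov : ∀ P' : Ideal (Localization.AtPrime q.asIdeal), P'.IsPrime →
      Ideal.map (algebraMap A (Localization.AtPrime q.asIdeal)) p.asIdeal ≤ P' →
      P' = Ideal.map (algebraMap A (Localization.AtPrime q.asIdeal)) p.asIdeal ∨
        P' = IsLocalRing.maximalIdeal (Localization.AtPrime q.asIdeal) := by
    intro P' hP' hle
    have hmc : Ideal.map (algebraMap A (Localization.AtPrime q.asIdeal))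
        (P'.comap (algebraMap A (Localization.AtPrime q.asIdeal))) = P' :=
      IsLocalization.map_under q.asIdeal.primeCompl _ P'
    let Q' : PrimeSpectrum A :=
      ⟨P'.comap (algebraMap A (Localization.AtPrime q.asIdeal)), Ideal.comap_isPrime _ _⟩
    have h4 : p ≤ Q' := by
      show p.asIdeal ≤ P'.comap (algebraMap A (Localization.AtPrime q.asIdeal))
      rw [← hcomap]
      exact Ideal.comap_mono hle
    have h5 : Q' ≤ q := by
      show P'.comap (algebraMap A (Localization.AtPrime q.asIdeal)) ≤ q.asIdeal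
      exact (Ideal.comap_mono (IsLocalRing.le_maximalIdeal hP'.ne_top)).trans hqm.le
    rcases eq_or_lt_of_le h4 with h6 | h6
    · left
      have h7 : P'.comap (algebraMap A (Localization.AtPrime q.asIdeal)) = p.asIdeal :=
        (congrArg PrimeSpectrum.asIdeal h6).symm
      rw [← hmc, h7]
    · right
      have h8 : Q' = q := by
        rcases eq_or_lt_of_le h5 with h9 | h9
        · exact h9
        · exact absurd h9 (hpq.2 h6)
      have h7 : P'.comap (algebraMap A (Localization.AtPrime q.asIdeal)) = q.asIdeal :=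
        congrArg PrimeSpectrum.asIdeal h8
      rw [← hmc, h7]
      exact IsLocalization.AtPrime.map_eq_maximalIdeal q.asIdeal _
  have h10 := eq_neg_one_of_nontrivial_hom_quot ((locD ω q.asIdeal)⟦nq⟧)
    (isDualizing_shift _ (isDualizing_locD ω q.asIdeal hω) nq) hnq _ hPne hcov (np - nq) h3
  omega

/-- S1722. -/
theorem exists_dimension_function (hω : Dual.IsDualizing A ω) :
    ∃ δ : PrimeSpectrum A → ℤ,
      (∀ (p : PrimeSpectrum A) (i : ℤ),
        Nontrivial (LocalizedModule p.asIdeal.primeCompl
          (Dual.inD A (A ⧸ p.asIdeal) ⟶ ω⟦i⟧)) ↔ i = -δ p) ∧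
      ∀ p q : PrimeSpectrum A, p ⋖ q → δ p = δ q + 1 := by
  have hex : ∀ p : PrimeSpectrum A, ∃ n : ℤ,
      Dual.IsNormalized (Localization.AtPrime p.asIdeal) ((locD ω p.asIdeal)⟦n⟧) :=
    fun p => exists_isNormalized_locD_shift ω p.asIdeal hω
  choose ν hν using hex
  have key : ∀ (p : PrimeSpectrum A) (i : ℤ),
      p ∈ Module.support A (Dual.inD A (A ⧸ p.asIdeal) ⟶ ω⟦i⟧) ↔ i = ν p := by
    intro p i
    haveI := isNoetherianRing_atPrime p.asIdeal
    exact (mem_support_hom_quot_iff ω p.asIdeal hω i).trans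
      (nontrivial_hom_residueField_iff _ (isDualizing_locD ω p.asIdeal hω) (ν p) (hν p) i)
  refine ⟨fun p => -ν p, fun p i => ?_, fun p q hpq => ?_⟩
  · rw [← Module.mem_support_iff, key, neg_neg]
  · have h := normalizing_shift_covBy ω hω p q hpq (ν p) (ν q) ((key p (ν p)).2 rfl) (hν q)
    show -ν p = -ν q + 1
    omega

end DimFun

end Groth.Agent.Lib.DMod_helper6
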