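import Mathlib
import Groth.Prelude.Def_DRing2
import Groth.Prelude.Def_DDual2
import Groth.Prelude.Def_Wider
import Groth.Prelude.Def_CAlg
import Groth.Agent.Lib.DMod95_helper6

/-!
# Derived category toolkit (helper6), part 97: Cohen–Macaulayness in terms of any dualizing
complex (`Ext^•(M, ω)` concentrated in one degree); openness and density of the Cohen–Macaulay
locus (S0372, S1716).
-/

set_option autoImplicit false
universe u
open CategoryTheory CategoryTheory.Limits DerivedCategory Pretriangulated ZeroObject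
open scoped Pointwise TensorProduct
attribute [local instance] HasDerivedCategory.standard

namespace Groth.Agent.Lib.DMod_helper6

open DRing Groth.Agent.ExtendScalarsLib

section Local

variable {B : Type u} [CommRing B] [IsLocalRing B] [IsNoetherianRing B] (K : Dual.D B)

lemma exists_nat_supportDim_eq (N : Type u) [AddCommGroup N] [Module B N] [Module.Finite B N]
    [Nontrivial N] : ∃ d : ℕ, Module.supportDim B N = (d : WithBot ℕ∞) := by
  refine exists_nat_eq_of_nonneg_of_lt_top _ ?_
    (lt_of_le_of_lt (Module.supportDim_le_ringKrullDim B N) ringKrullDim_lt_top)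
  haveI : Nonempty (Module.support B N) := Module.nonempty_support_of_nontrivial.to_subtype
  exact Order.krullDim_nonneg

/-- a finite module over a local ring with a dualizing complex `K` is zero or Cohen–Macaulay iff
`Ext^i(N, K)` is nonzero for at most one `i`. -/
theorem subsingleton_or_cm_iff_ext_single (hK : Dual.IsDualizing B K) (N : Type u)
    [AddCommGroup N] [Module B N] [Module.Finite B N] :
    (Subsingleton N ∨ LocCoh.IsCohenMacaulayModule B N) ↔
      ∃ n : ℤ, ∀ i : ℤ, i ≠ n → Subsingleton (Dual.inD B N ⟶ K⟦i⟧) := by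
  obtain ⟨n₀, hn₀⟩ := exists_isNormalized_shift K hK
  have hK' := isDualizing_shift K hK n₀
  rcases subsingleton_or_nontrivial N with hs | hnt
  · refine ⟨fun _ => ⟨0, fun i _ => ?_⟩, fun _ => Or.inl hs⟩
    exact extVanishOn_of_subsingleton Set.univ K N i (Set.mem_univ i)
  · obtain ⟨d, hd⟩ := exists_nat_supportDim_eq (B := B) N
    have key := isCohenMacaulayModule_iff_ext (K⟦n₀⟧) hK' hn₀ N d hd
    constructor
    · rintro (hs | hcm)
      · exact absurd hs (not_subsingleton N)
      · refine ⟨n₀ - d, fun i hi => ?_⟩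
        have h1 := key.1 hcm (n₀ - i) (by omega)
        exact (subsingleton_hom_iso_right (shiftShiftIso K n₀ (-(n₀ - i)) i (by ring))).1 h1
    · rintro ⟨n, hn⟩
      right
      have h2 := nontrivial_ext_neg_supportDim (K⟦n₀⟧) hK' hn₀ N d hd
      have h3 : Nontrivial (Dual.inD B N ⟶ K⟦n₀ - d⟧) :=
        (nontrivial_hom_iso_right (shiftShiftIso K n₀ (-(d : ℤ)) (n₀ - d) (by ring))).1 h2
      have hnd : n₀ - d = n := by
        by_contra hne
        exact (not_subsingleton_iff_nontrivial.2 h3) (hn _ hne)
      refine key.2 (fun i hi => ?_)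
      have h4 := hn (n₀ - i) (by omega)
      exact (subsingleton_hom_iso_right (shiftShiftIso K n₀ (-i) (n₀ - i) (by ring))).2 h4

/-- a local ring with a dualizing complex `K` is Cohen–Macaulay iff `K` has cohomology in at most
one degree. -/
theorem isCohenMacaulayLocalRing_iff_HD_single (hK : Dual.IsDualizing B K) :
    LocCoh.IsCohenMacaulayLocalRing B ↔
      ∃ n : ℤ, ∀ i : ℤ, i ≠ n → Subsingleton (Dual.HD B K i) := by
  have h := subsingleton_or_cm_iff_ext_single K hK B
  constructor
  · intro hcm
    obtain ⟨n, hn⟩ := h.1 (Or.inr hcm.supportDim_eq_depth)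
    exact ⟨n, fun i hi => (subsingleton_hom_inD_self_iff K i).1 (hn i hi)⟩
  · rintro ⟨n, hn⟩
    rcases h.2 ⟨n, fun i hi => (subsingleton_hom_inD_self_iff K i).2 (hn i hi)⟩ with hs | hcm
    · exact absurd hs (not_subsingleton B)
    · exact { (inferInstance : IsNoetherianRing B), (inferInstance : IsLocalRing B) with
        supportDim_eq_depth := hcm }

end Local

section Top

lemma isOpen_setOf_exists_forall_ne_notMem {X : Type*} [TopologicalSpace X] (S : ℤ → Set X)
    (hS : ∀ i, IsClosed (S i)) (a b : ℤ) (hab : ∀ i, (i < a ∨ b < i) → S i = ∅) :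
    IsOpen {x | ∃ n : ℤ, ∀ i : ℤ, i ≠ n → x ∉ S i} := by
  have h : {x | ∃ n : ℤ, ∀ i : ℤ, i ≠ n → x ∉ S i} =
      ⋃ n : ℤ, ⋂ i ∈ (Finset.Icc a b).filter (fun i => i ≠ n), (S i)ᶜ := by
    ext x
    simp only [Set.mem_setOf_eq, Set.mem_iUnion, Set.mem_iInter, Set.mem_compl_iff,
      Finset.mem_filter, Finset.mem_Icc]
    refine exists_congr (fun n => ⟨fun h i hi => h i hi.2, fun h i hi => ?_⟩)
    by_cases hr : a ≤ i ∧ i ≤ b
    · exact h i ⟨hr, hi⟩
    · rw [hab i (by omega)]
      exact Set.notMem_empty x
  rw [h]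
  exact isOpen_iUnion (fun n => isOpen_biInter_finset (fun i _ => (hS i).isOpen_compl))

end Top

section Global

variable {A : Type u} [CommRing A] [IsNoetherianRing A] (ω : Dual.D A)

theorem isCohenMacaulayLocalRing_atPrime_iff (hω : Dual.IsDualizing A ω) (p : PrimeSpectrum A) :
    LocCoh.IsCohenMacaulayLocalRing (Localization.AtPrime p.asIdeal) ↔
      ∃ n : ℤ, ∀ i : ℤ, i ≠ n → p ∉ Module.support A (Dual.HD A ω i) := by
  haveI := isNoetherianRing_atPrime p.asIdeal
  rw [isCohenMacaulayLocalRing_iff_HD_single (locD ω p.asIdeal) (isDualizing_locD ω p.asIdeal hω)]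
  refine exists_congr (fun n => forall_congr' (fun i => forall_congr' (fun hi => ?_)))
  rw [Module.mem_support_iff, ← nontrivial_HD_locD_iff p.asIdeal ω i,
    not_nontrivial_iff_subsingleton]

/-- S0372. -/
theorem isOpen_and_dense_cohenMacaulay_locus (hω : Dual.IsDualizing A ω) :
    IsOpen {p : PrimeSpectrum A |
        LocCoh.IsCohenMacaulayLocalRing (Localization.AtPrime p.asIdeal)} ∧
      Dense {p : PrimeSpectrum A |
        LocCoh.IsCohenMacaulayLocalRing (Localization.AtPrime p.asIdeal)} := by
  obtain ⟨a, b, hab⟩ := hω.finite_injective_dimension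
  have hset : {p : PrimeSpectrum A |
      LocCoh.IsCohenMacaulayLocalRing (Localization.AtPrime p.asIdeal)} =
      {p | ∃ n : ℤ, ∀ i : ℤ, i ≠ n → p ∉ Module.support A (Dual.HD A ω i)} := by
    ext p
    exact isCohenMacaulayLocalRing_atPrime_iff ω hω p
  constructor
  · rw [hset]
    refine isOpen_setOf_exists_forall_ne_notMem (fun i => Module.support A (Dual.HD A ω i))
      (fun i => ?_) a b (fun i hi => ?_)
    · haveI := hω.finite_cohomology i
      exact Module.isClosed_support
    · haveI : Subsingleton (Dual.HD A ω i) := (subsingleton_hom_inD_self_iff ω i).1 (hab A i hi)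
      exact Module.support_eq_empty
  · intro p
    obtain ⟨q, hq, hqp⟩ := Ideal.exists_minimalPrimes_le (bot_le : (⊥ : Ideal A) ≤ p.asIdeal)
    haveI hqprime : q.IsPrime := hq.1.1
    have hq' : q ∈ minimalPrimes A := hq
    have hqmem : (⟨q, hqprime⟩ : PrimeSpectrum A) ∈ {p : PrimeSpectrum A |
        LocCoh.IsCohenMacaulayLocalRing (Localization.AtPrime p.asIdeal)} := by
      rw [hset]
      obtain ⟨n, hn1, hn2⟩ := existsUnique_nontrivial_localized_HD ω hω q hq'
      refine ⟨n, fun i hi hmem => hi (hn2 i ?_)⟩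
      exact Module.mem_support_iff.1 hmem
    have hcl : p ∈ closure {(⟨q, hqprime⟩ : PrimeSpectrum A)} := by
      rw [PrimeSpectrum.closure_singleton, PrimeSpectrum.mem_zeroLocus]
      exact hqp
    exact closure_mono (Set.singleton_subset_iff.2 hqmem) hcl

end Global

end Groth.Agent.Lib.DMod_helper6
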