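import Mathlib
import Groth.Prelude.Def_DRing2
import Groth.Prelude.Def_DDual2
import Groth.Prelude.Def_Wider
import Groth.Prelude.Def_CAlg
import Groth.Agent.Lib.DMod97_helper6

/-!
# Derived category toolkit (helper6), part 98: the Cohen–Macaulay locus of a finite module over a
ring with a dualizing complex is open, and dense in the support (S1716).
-/

set_option autoImplicit false
universe u
open CategoryTheory CategoryTheory.Limits DerivedCategory Pretriangulated ZeroObject
open scoped Pointwise TensorProduct
attribute [local instance] HasDerivedCategory.standard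

namespace Groth.Agent.Lib.DMod_helper6

open DRing Groth.Agent.ExtendScalarsLib

section Global

variable {A : Type u} [CommRing A] [IsNoetherianRing A] (ω : Dual.D A)
  (M : Type u) [AddCommGroup M] [Module A M] [Module.Finite A M]

/-- `Ext^i(M_p, ω_p) = 0` iff `p ∉ Supp Ext^i(M, ω)` -/
theorem subsingleton_hom_localizedModule_iff (hω : Dual.IsDualizing A ω) (p : PrimeSpectrum A)
    (i : ℤ) :
    Subsingleton (Dual.inD (Localization.AtPrime p.asIdeal)
        (LocalizedModule p.asIdeal.primeCompl M) ⟶ (locD ω p.asIdeal)⟦i⟧) ↔
      p ∉ Module.support A (Dual.inD A M ⟶ ω⟦i⟧) := by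
  have h1 : p ∈ Module.support A (Dual.inD A M ⟶ ω⟦i⟧) ↔
      Nontrivial (Dual.inD (Localization.AtPrime p.asIdeal)
        ((Localization.AtPrime p.asIdeal) ⊗[A] M) ⟶ (locD ω p.asIdeal)⟦i⟧) :=
    mem_support_ext_iff ω p.asIdeal hω M i
  have eqv : ((Localization.AtPrime p.asIdeal) ⊗[A] M) ≃ₗ[Localization.AtPrime p.asIdeal]
      LocalizedModule p.asIdeal.primeCompl M :=
    (IsLocalizedModule.isBaseChange p.asIdeal.primeCompl (Localization.AtPrime p.asIdeal)
      (LocalizedModule.mkLinearMap p.asIdeal.primeCompl M)).equiv
  rw [h1, ← not_nontrivial_iff_subsingleton]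
  exact not_congr (nontrivial_hom_iso_left (inDIsoOfLinearEquiv eqv)).symm

theorem subsingleton_or_cm_localizedModule_iff (hω : Dual.IsDualizing A ω)
    (p : PrimeSpectrum A) :
    (Subsingleton (LocalizedModule p.asIdeal.primeCompl M) ∨
      LocCoh.IsCohenMacaulayModule (Localization.AtPrime p.asIdeal)
        (LocalizedModule p.asIdeal.primeCompl M)) ↔
      ∃ n : ℤ, ∀ i : ℤ, i ≠ n → p ∉ Module.support A (Dual.inD A M ⟶ ω⟦i⟧) := by
  haveI := isNoetherianRing_atPrime p.asIdeal
  rw [subsingleton_or_cm_iff_ext_single (locD ω p.asIdeal) (isDualizing_locD ω p.asIdeal hω)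
    (LocalizedModule p.asIdeal.primeCompl M)]
  exact exists_congr (fun n => forall_congr' (fun i => forall_congr' (fun _ =>
    subsingleton_hom_localizedModule_iff ω M hω p i)))

/-- at a minimal prime of the support, the localized module has dimension zero -/
lemma supportDim_localizedModule_le_zero_of_minimal (q : Ideal A)
    (hq : q ∈ (Module.annihilator A M).minimalPrimes) :
    haveI : q.IsPrime := hq.1.1
    Module.supportDim (Localization.AtPrime q) (LocalizedModule q.primeCompl M) ≤
      ((0 : ℕ) : WithBot ℕ∞) := by
  haveI : q.IsPrime := hq.1.1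
  have hann : ∀ a ∈ Module.annihilator A M, algebraMap A (Localization.AtPrime q) a ∈
      Module.annihilator (Localization.AtPrime q) (LocalizedModule q.primeCompl M) := by
    intro a ha
    rw [Module.mem_annihilator]
    intro x
    rw [algebraMap_smul]
    induction x using LocalizedModule.induction_on with
    | h m s =>
      rw [LocalizedModule.smul'_mk, Module.mem_annihilator.1 ha m, LocalizedModule.zero_mk]
  have hqm : (IsLocalRing.maximalIdeal (Localization.AtPrime q)).comap
      (algebraMap A (Localization.AtPrime q)) = q :=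
    IsLocalization.AtPrime.under_maximalIdeal (Localization.AtPrime q) q
  have hmax : ∀ P : PrimeSpectrum (Localization.AtPrime q),
      P ∈ Module.support (Localization.AtPrime q) (LocalizedModule q.primeCompl M) →
      P.asIdeal = IsLocalRing.maximalIdeal (Localization.AtPrime q) := by
    intro P hP
    have h1 : Module.annihilator (Localization.AtPrime q) (LocalizedModule q.primeCompl M) ≤
        P.asIdeal := Module.mem_support_iff_of_finite.1 hP
    have h2 : Module.annihilator A M ≤ P.asIdeal.comap (algebraMap A (Localization.AtPrime q)) :=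
      fun a ha => h1 (hann a ha)
    have h3 : P.asIdeal.comap (algebraMap A (Localization.AtPrime q)) ≤ q :=
      (Ideal.comap_mono (IsLocalRing.le_maximalIdeal P.isPrime.ne_top)).trans hqm.le
    have h4 : q ≤ P.asIdeal.comap (algebraMap A (Localization.AtPrime q)) :=
      hq.2 ⟨Ideal.comap_isPrime _ _, h2⟩ h3
    have h5 : P.asIdeal.comap (algebraMap A (Localization.AtPrime q)) = q := le_antisymm h3 h4
    rw [← IsLocalization.map_under q.primeCompl (Localization.AtPrime q) P.asIdeal]
    show Ideal.map (algebraMap A (Localization.AtPrime q))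
      (P.asIdeal.comap (algebraMap A (Localization.AtPrime q))) = _
    rw [h5]
    exact IsLocalization.AtPrime.map_eq_maximalIdeal q _
  unfold Module.supportDim
  rw [Nat.cast_zero, Order.krullDim_nonpos_iff_forall_isMax]
  rintro ⟨P, hP⟩ ⟨P', hP'⟩ _
  show P'.asIdeal ≤ P.asIdeal
  rw [hmax P hP]
  exact IsLocalRing.le_maximalIdeal P'.isPrime.ne_top

/-- S1716. -/
theorem isOpen_cm_locus_module_and_dense (hω : Dual.IsDualizing A ω) :
    IsOpen {p : PrimeSpectrum A | Subsingleton (LocalizedModule p.asIdeal.primeCompl M) ∨
        LocCoh.IsCohenMacaulayModule (Localization.AtPrime p.asIdeal)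
          (LocalizedModule p.asIdeal.primeCompl M)} ∧
      Module.support A M ⊆ closure ({p : PrimeSpectrum A |
        LocCoh.IsCohenMacaulayModule (Localization.AtPrime p.asIdeal)
          (LocalizedModule p.asIdeal.primeCompl M)} ∩ Module.support A M) := by
  obtain ⟨a, b, hab⟩ := hω.finite_injective_dimension
  constructor
  · have hset : {p : PrimeSpectrum A | Subsingleton (LocalizedModule p.asIdeal.primeCompl M) ∨
        LocCoh.IsCohenMacaulayModule (Localization.AtPrime p.asIdeal)
          (LocalizedModule p.asIdeal.primeCompl M)} =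
        {p | ∃ n : ℤ, ∀ i : ℤ, i ≠ n → p ∉ Module.support A (Dual.inD A M ⟶ ω⟦i⟧)} := by
      ext p
      exact subsingleton_or_cm_localizedModule_iff ω M hω p
    rw [hset]
    refine isOpen_setOf_exists_forall_ne_notMem
      (fun i => Module.support A (Dual.inD A M ⟶ ω⟦i⟧)) (fun i => ?_) a b (fun i hi => ?_)
    · haveI : Module.Finite A (Dual.inD A M ⟶ ω⟦i⟧) :=
        hom_finite_of_finiteInjDim (Dual.inD A M) ω (finite_HD_inD M) hω.finite_cohomology
          (hasFiniteInjDim_of_isDualizing ω hω) i
      exact Module.isClosed_support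
    · haveI := hab M i hi
      exact Module.support_eq_empty
  · intro p hp
    obtain ⟨q, hq, hqp⟩ := Ideal.exists_minimalPrimes_le
      (Module.mem_support_iff_of_finite.1 hp)
    haveI hqprime : q.IsPrime := hq.1.1
    haveI := isNoetherianRing_atPrime q
    have hQsupp : (⟨q, hqprime⟩ : PrimeSpectrum A) ∈ Module.support A M :=
      Module.mem_support_iff_of_finite.2 hq.1.2
    haveI hnt : Nontrivial (LocalizedModule q.primeCompl M) := Module.mem_support_iff.1 hQsupp
    have h0 := supportDim_localizedModule_le_zero_of_minimal M q hq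
    have hK := isDualizing_locD ω q hω
    obtain ⟨n₀, hn₀⟩ := exists_isNormalized_locD_shift ω q hω
    have hK' := isDualizing_shift _ hK n₀
    have hsingle : ∀ i : ℤ, i ≠ n₀ → Subsingleton (Dual.inD (Localization.AtPrime q)
        (LocalizedModule q.primeCompl M) ⟶ (locD ω q)⟦i⟧) := by
      intro i hi
      rw [← subsingleton_hom_iso_right (shiftShiftIso (locD ω q) n₀ (i - n₀) i (by ring)),
        ← not_nontrivial_iff_subsingleton,
        nontrivial_ext_iff_of_supportDim_le_zero _ hK' hn₀ (LocalizedModule q.primeCompl M) h0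
          (i - n₀)]
      omega
    have hcm : LocCoh.IsCohenMacaulayModule (Localization.AtPrime q)
        (LocalizedModule q.primeCompl M) := by
      rcases (subsingleton_or_cm_iff_ext_single (locD ω q) hK
        (LocalizedModule q.primeCompl M)).2 ⟨n₀, hsingle⟩ with hs | hcm
      · exact absurd hs (not_subsingleton _)
      · exact hcm
    have hQ : (⟨q, hqprime⟩ : PrimeSpectrum A) ∈ ({p : PrimeSpectrum A |
        LocCoh.IsCohenMacaulayModule (Localization.AtPrime p.asIdeal)
          (LocalizedModule p.asIdeal.primeCompl M)} ∩ Module.support A M) := ⟨hcm, hQsupp⟩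
    have hcl : p ∈ closure {(⟨q, hqprime⟩ : PrimeSpectrum A)} := by
      rw [PrimeSpectrum.closure_singleton, PrimeSpectrum.mem_zeroLocus]
      exact hqp
    exact closure_mono (Set.singleton_subset_iff.2 hQ) hcl

end Global

end Groth.Agent.Lib.DMod_helper6
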