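import Mathlib
import Groth.Prelude.Def_DRing2
import Groth.Prelude.Def_DDual2
import Groth.Prelude.Def_Wider
import Groth.Prelude.Def_CAlg
import Groth.Agent.Lib.DMod98_helper6

/-!
# Derived category toolkit (helper6), part 99: depth and dimension of localizations through the
supports of `Ext^i(M, ω)`; finiteness of the set of primes where `(S_k)` is sharp (S1715).
-/

set_option autoImplicit false
universe u
open CategoryTheory CategoryTheory.Limits DerivedCategory Pretriangulated ZeroObject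
open scoped Pointwise TensorProduct
attribute [local instance] HasDerivedCategory.standard

namespace Groth.Agent.Lib.DMod_helper6

open DRing Groth.Agent.ExtendScalarsLib

section Local

variable {B : Type u} [CommRing B] [IsLocalRing B] [IsNoetherianRing B] (K : Dual.D B)

/-- the depth of `N` is `n₀ -` the top nonvanishing degree of `Ext^*(N, K)`. -/
theorem exists_depth_eq_and_top_degree (hK : Dual.IsDualizing B K) (n₀ : ℤ)
    (hn₀ : Dual.IsNormalized B (K⟦n₀⟧)) (N : Type u) [AddCommGroup N] [Module B N]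
    [Module.Finite B N] [Nontrivial N] :
    ∃ δ : ℕ, LocCoh.depth B N = δ ∧ Nontrivial (Dual.inD B N ⟶ K⟦n₀ - (δ : ℤ)⟧) ∧
      ∀ i : ℤ, Nontrivial (Dual.inD B N ⟶ K⟦i⟧) → i ≤ n₀ - δ := by
  have hK' := isDualizing_shift K hK n₀
  obtain ⟨n', hD⟩ := exists_extDepth (K⟦n₀⟧) hK' hn₀ N
  refine ⟨n', depth_eq_of_extDepth _ hK' hn₀ N n' hD, ?_, ?_⟩
  · exact (nontrivial_hom_iso_right (shiftShiftIso K n₀ (-(n' : ℤ)) (n₀ - n') (by ring))).1 hD.2
  · intro i hi
    by_contra hlt
    push_neg at hlt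
    have hs := hD.1 (i - n₀) (by omega)
    have hs' := (subsingleton_hom_iso_right (shiftShiftIso K n₀ (i - n₀) i (by omega))).1 hs
    exact (not_subsingleton_iff_nontrivial.2 hi) hs'

/-- the dimension of the support of `N` is `n₀ -` the bottom nonvanishing degree of
`Ext^*(N, K)`. -/
theorem bottom_degree_of_supportDim_eq (hK : Dual.IsDualizing B K) (n₀ : ℤ)
    (hn₀ : Dual.IsNormalized B (K⟦n₀⟧)) (N : Type u) [AddCommGroup N] [Module B N]
    [Module.Finite B N] [Nontrivial N] (d : ℕ)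
    (hd : Module.supportDim B N = (d : WithBot ℕ∞)) :
    Nontrivial (Dual.inD B N ⟶ K⟦n₀ - (d : ℤ)⟧) ∧
      ∀ i : ℤ, Nontrivial (Dual.inD B N ⟶ K⟦i⟧) → n₀ - d ≤ i := by
  have hK' := isDualizing_shift K hK n₀
  refine ⟨?_, ?_⟩
  · exact (nontrivial_hom_iso_right (shiftShiftIso K n₀ (-(d : ℤ)) (n₀ - d) (by ring))).1
      (nontrivial_ext_neg_supportDim (K⟦n₀⟧) hK' hn₀ N d hd)
  · intro i hi
    by_contra hlt
    push_neg at hlt
    have hs := subsingleton_ext_of_lt_neg_supportDim (K⟦n₀⟧) hK' hn₀ d N hd.le (i - n₀)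
      (by omega)
    have hs' := (subsingleton_hom_iso_right (shiftShiftIso K n₀ (i - n₀) i (by omega))).1 hs
    exact (not_subsingleton_iff_nontrivial.2 hi) hs'

end Local

section Global

variable {A : Type u} [CommRing A] [IsNoetherianRing A] (ω : Dual.D A)

/-- the normalizing shifts of the localizations of a dualizing complex are strictly monotone. -/
theorem normalizing_shift_strictMono (hω : Dual.IsDualizing A ω) (ν : PrimeSpectrum A → ℤ)
    (hν : ∀ p : PrimeSpectrum A, Dual.IsNormalized (Localization.AtPrime p.asIdeal)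
      ((locD ω p.asIdeal)⟦ν p⟧)) (q p : PrimeSpectrum A) (hqp : q < p) : ν q < ν p := by
  have key : ∀ p q : PrimeSpectrum A, p ⋖ q → ν p = ν q - 1 := by
    intro p q hpq
    haveI := isNoetherianRing_atPrime p.asIdeal
    refine normalizing_shift_covBy ω hω p q hpq (ν p) (ν q) ?_ (hν q)
    exact (mem_support_hom_quot_iff ω p.asIdeal hω (ν p)).2
      ((nontrivial_hom_residueField_iff _ (isDualizing_locD ω p.asIdeal hω) (ν p) (hν p)
        (ν p)).2 rfl)
  have wf : WellFounded (fun x y : PrimeSpectrum A => y < x) :=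
    InvImage.wf PrimeSpectrum.asIdeal (wellFounded_gt (α := Ideal A))
  have main : ∀ n : ℕ, ∀ p : PrimeSpectrum A, p.asIdeal.height = (n : ℕ∞) →
      ∀ q : PrimeSpectrum A, q < p → ν q < ν p := by
    intro n
    induction n using Nat.strong_induction_on with
    | _ n ih =>
      intro p hp q hqp
      obtain ⟨r, ⟨hqr, hrp⟩, hmax⟩ :=
        wf.has_min {r : PrimeSpectrum A | q ≤ r ∧ r < p} ⟨q, le_rfl, hqp⟩
      have hcov : r ⋖ p := ⟨hrp, fun c hrc hcp => hmax c ⟨hqr.trans hrc.le, hcp⟩ hrc⟩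
      have h1 := key r p hcov
      rcases eq_or_lt_of_le hqr with h | h
      · subst h; omega
      · have hlt : r.asIdeal.height < p.asIdeal.height :=
          Ideal.height_strict_mono_of_isPrime_of_isPrime
            ((PrimeSpectrum.asIdeal_lt_asIdeal r p).2 hrp)
        obtain ⟨m, hm⟩ := ENat.ne_top_iff_exists.1 (Ideal.height_ne_top r.isPrime.ne_top)
        have hmn : m < n := by
          rw [← hm, hp] at hlt
          exact_mod_cast hlt
        have := ih m hmn r hm.symm q h
        omega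
  obtain ⟨n, hn⟩ := ENat.ne_top_iff_exists.1 (Ideal.height_ne_top p.isPrime.ne_top)
  exact main n p hn.symm q hqp

variable (M : Type u) [AddCommGroup M] [Module A M] [Module.Finite A M]

lemma mem_support_iff_nontrivial_localized (hω : Dual.IsDualizing A ω) (p : PrimeSpectrum A)
    (i : ℤ) :
    p ∈ Module.support A (Dual.inD A M ⟶ ω⟦i⟧) ↔
      Nontrivial (Dual.inD (Localization.AtPrime p.asIdeal)
        (LocalizedModule p.asIdeal.primeCompl M) ⟶ (locD ω p.asIdeal)⟦i⟧) := by
  rw [← not_subsingleton_iff_nontrivial, subsingleton_hom_localizedModule_iff ω M hω p i,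
    not_not]

/-- S1715. -/
theorem finite_setOf_depth_eq_of_hasSk (hω : Dual.IsDualizing A ω) (k : ℕ)
    (hM : LocCoh.HasSk k A M) :
    Set.Finite {p : PrimeSpectrum A |
      LocCoh.depth (Localization.AtPrime p.asIdeal)
        (LocalizedModule p.asIdeal.primeCompl M) = k ∧
      (k : WithBot ℕ∞) < Module.supportDim (Localization.AtPrime p.asIdeal)
        (LocalizedModule p.asIdeal.primeCompl M)} := by
  classical
  obtain ⟨a, b, hab⟩ := hω.finite_injective_dimension
  have hex : ∀ p : PrimeSpectrum A, ∃ n : ℤ,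
      Dual.IsNormalized (Localization.AtPrime p.asIdeal) ((locD ω p.asIdeal)⟦n⟧) :=
    fun p => exists_isNormalized_locD_shift ω p.asIdeal hω
  choose ν hν using hex
  haveI hfin : ∀ i : ℤ, Module.Finite A (Dual.inD A M ⟶ ω⟦i⟧) := fun i =>
    hom_finite_of_finiteInjDim (Dual.inD A M) ω (finite_HD_inD M) hω.finite_cohomology
      (hasFiniteInjDim_of_isDualizing ω hω) i
  let I : ℤ → Ideal A := fun i => Module.annihilator A (Dual.inD A M ⟶ ω⟦i⟧)
  let C : Set (PrimeSpectrum A) :=
    ⋃ ij ∈ (Finset.Icc a b ×ˢ Finset.Icc a b : Finset (ℤ × ℤ)),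
      {p | p.asIdeal ∈ (I ij.1 ⊔ I ij.2).minimalPrimes}
  have hC : C.Finite := by
    refine Set.Finite.biUnion (Finset.finite_toSet _) (fun ij _ => ?_)
    exact Set.Finite.preimage (fun x _ y _ h => PrimeSpectrum.ext h)
      (Ideal.finite_minimalPrimes_of_isNoetherianRing A _)
  refine hC.subset ?_
  rintro p ⟨hdep, hdim⟩
  haveI := isNoetherianRing_atPrime p.asIdeal
  haveI hnt : Nontrivial (LocalizedModule p.asIdeal.primeCompl M) := by
    by_contra hcon
    rw [not_nontrivial_iff_subsingleton] at hcon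
    rw [depth_eq_top_of_subsingleton] at hdep
    exact ENat.top_ne_coe k hdep
  have hKp := isDualizing_locD ω p.asIdeal hω
  obtain ⟨δ, hδ, hδnt, -⟩ := exists_depth_eq_and_top_degree (locD ω p.asIdeal) hKp (ν p) (hν p)
    (LocalizedModule p.asIdeal.primeCompl M)
  have hδk : δ = k := by
    rw [hδ] at hdep
    exact_mod_cast hdep
  rw [hδk] at hδnt
  obtain ⟨d, hd⟩ := exists_nat_supportDim_eq (B := Localization.AtPrime p.asIdeal)
    (LocalizedModule p.asIdeal.primeCompl M)
  obtain ⟨hdnt, -⟩ := bottom_degree_of_supportDim_eq (locD ω p.asIdeal) hKp (ν p) (hν p)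
    (LocalizedModule p.asIdeal.primeCompl M) d hd
  have hkd : (k : ℤ) < d := by
    rw [hd] at hdim
    exact_mod_cast hdim
  have hpa : p ∈ Module.support A (Dual.inD A M ⟶ ω⟦ν p - (k : ℤ)⟧) :=
    (mem_support_iff_nontrivial_localized ω M hω p _).2 hδnt
  have hpb : p ∈ Module.support A (Dual.inD A M ⟶ ω⟦ν p - (d : ℤ)⟧) :=
    (mem_support_iff_nontrivial_localized ω M hω p _).2 hdnt
  have hrange : ∀ i : ℤ, ∀ x : PrimeSpectrum A,
      x ∈ Module.support A (Dual.inD A M ⟶ ω⟦i⟧) → i ∈ Finset.Icc a b := by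
    intro i x hx
    have hnt' := nontrivial_of_mem_support hx
    rw [Finset.mem_Icc]
    by_contra hcon
    have hcase : i < a ∨ b < i := by omega
    exact (not_subsingleton_iff_nontrivial.2 hnt') (hab M i hcase)
  refine Set.mem_biUnion (x := (ν p - (k : ℤ), ν p - (d : ℤ)))
    (Finset.mem_coe.2 (Finset.mem_product.2 ⟨hrange _ p hpa, hrange _ p hpb⟩)) ?_
  show p.asIdeal ∈ (I (ν p - (k : ℤ)) ⊔ I (ν p - (d : ℤ))).minimalPrimes
  have hle : I (ν p - (k : ℤ)) ⊔ I (ν p - (d : ℤ)) ≤ p.asIdeal :=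
    sup_le (Module.mem_support_iff_of_finite.1 hpa) (Module.mem_support_iff_of_finite.1 hpb)
  refine ⟨⟨p.isPrime, hle⟩, ?_⟩
  rintro Q ⟨hQ, hIQ⟩ hQp
  by_contra hnle
  obtain ⟨q, rfl⟩ : ∃ q : PrimeSpectrum A, q.asIdeal = Q := ⟨⟨Q, hQ⟩, rfl⟩
  have hqp : q < p := (PrimeSpectrum.asIdeal_lt_asIdeal q p).1 (lt_of_le_not_ge hQp hnle)
  have hqa : q ∈ Module.support A (Dual.inD A M ⟶ ω⟦ν p - (k : ℤ)⟧) :=
    Module.mem_support_iff_of_finite.2 (le_sup_left.trans hIQ)
  have hqb : q ∈ Module.support A (Dual.inD A M ⟶ ω⟦ν p - (d : ℤ)⟧) :=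
    Module.mem_support_iff_of_finite.2 (le_sup_right.trans hIQ)
  haveI := isNoetherianRing_atPrime q.asIdeal
  have hqa' := (mem_support_iff_nontrivial_localized ω M hω q _).1 hqa
  have hqb' := (mem_support_iff_nontrivial_localized ω M hω q _).1 hqb
  haveI : Nontrivial (LocalizedModule q.asIdeal.primeCompl M) :=
    nontrivial_of_nontrivial_hom _ _ hqa'
  have hKq := isDualizing_locD ω q.asIdeal hω
  obtain ⟨δq, hδq, -, hδq_le⟩ := exists_depth_eq_and_top_degree (locD ω q.asIdeal) hKq (ν q)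
    (hν q) (LocalizedModule q.asIdeal.primeCompl M)
  obtain ⟨dq, hdq⟩ := exists_nat_supportDim_eq (B := Localization.AtPrime q.asIdeal)
    (LocalizedModule q.asIdeal.primeCompl M)
  obtain ⟨-, hdq_ge⟩ := bottom_degree_of_supportDim_eq (locD ω q.asIdeal) hKq (ν q) (hν q)
    (LocalizedModule q.asIdeal.primeCompl M) dq hdq
  have h1 : ν p - (k : ℤ) ≤ ν q - δq := hδq_le _ hqa'
  have h2 : ν q - dq ≤ ν p - (d : ℤ) := hdq_ge _ hqb'
  have h3 : ν q < ν p := normalizing_shift_strictMono ω hω ν hν q p hqp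
  have hS := hM q.asIdeal
  rw [hdq, hδq] at hS
  rcases min_le_iff.1 hS with h | h
  · have h' : k ≤ δq := by exact_mod_cast h
    omega
  · have h' : dq ≤ δq := by exact_mod_cast h
    omega

end Global

end Groth.Agent.Lib.DMod_helper6
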