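import Mathlib
import Groth.Prelude.Def_DRing2
import Groth.Prelude.Def_DDual2
import Groth.Prelude.Def_Wider
import Groth.Prelude.Def_CAlg
import Groth.Prelude.Def_EGA4b
import Groth.Agent.Lib.DMod99_helper6

/-!
# Derived category toolkit (helper6), part 100: Serre's condition `(S_k)` through the dimensions
of the supports of `Ext^j(M, ω)` (S18717).
-/

set_option autoImplicit false
universe u
open CategoryTheory CategoryTheory.Limits DerivedCategory Pretriangulated ZeroObject
open scoped Pointwise TensorProduct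
attribute [local instance] HasDerivedCategory.standard

namespace Groth.Agent.Lib.DMod_helper6

open DRing Groth.Agent.ExtendScalarsLib

section Dim

variable {R : Type*} [CommRing R] (N : Type*) [AddCommGroup N] [Module R N]

lemma ringKrullDim_quot_le_supportDim (p : PrimeSpectrum R) (hp : p ∈ Module.support R N) :
    ringKrullDim (R ⧸ p.asIdeal) ≤ Module.supportDim R N := by
  rw [ringKrullDim_quotient]
  unfold Module.supportDim
  exact Order.krullDim_le_of_strictMono
    (fun x : PrimeSpectrum.zeroLocus (p.asIdeal : Set R) =>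
      (⟨x.1, Module.mem_support_mono ((PrimeSpectrum.asIdeal_le_asIdeal _ _).1
        (SetLike.coe_subset_coe.1 ((PrimeSpectrum.mem_zeroLocus _ _).1 x.2))) hp⟩ :
        Module.support R N)) (fun x y h => h)

lemma supportDim_le_of_forall_quot (n : WithBot ℕ∞)
    (h : ∀ p ∈ Module.support R N, ringKrullDim (R ⧸ p.asIdeal) ≤ n) :
    Module.supportDim R N ≤ n := by
  unfold Module.supportDim
  rw [Order.krullDim_eq_iSup_coheight]
  refine iSup_le (fun a => ?_)
  rw [Order.coheight_eq_krullDim_Ici]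
  refine le_trans ?_ (h a.1 a.2)
  rw [ringKrullDim_quotient]
  exact Order.krullDim_le_of_strictMono
    (fun x : Set.Ici a =>
      (⟨x.1.1, (PrimeSpectrum.mem_zeroLocus _ _).2 (SetLike.coe_subset_coe.2
        ((PrimeSpectrum.asIdeal_le_asIdeal _ _).2 x.2))⟩ :
        PrimeSpectrum.zeroLocus (a.1.asIdeal : Set R))) (fun x y h => h)

end Dim

section Local2

variable {A : Type u} [CommRing A] [IsLocalRing A] [IsNoetherianRing A] (ω : Dual.D A)

/-- `ω_p[-dim A/p]` is normalized. -/
theorem exists_dim_quot_isNormalized (hω : Dual.IsDualizing A ω) (hn : Dual.IsNormalized A ω)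
    (p : PrimeSpectrum A) :
    ∃ e : ℕ, ringKrullDim (A ⧸ p.asIdeal) = (e : WithBot ℕ∞) ∧
      Dual.IsNormalized (Localization.AtPrime p.asIdeal)
        ((locD ω p.asIdeal)⟦(-(e : ℤ))⟧) := by
  obtain ⟨e, he⟩ := exists_nat_eq_of_nonneg_of_lt_top (ringKrullDim (A ⧸ p.asIdeal))
    ringKrullDim_nonneg_of_nontrivial
    (lt_of_le_of_lt (ringKrullDim_quotient_le p.asIdeal) ringKrullDim_lt_top)
  have hdim : Module.supportDim A (A ⧸ p.asIdeal) = (e : WithBot ℕ∞) := by
    rw [Module.supportDim_quotient_eq_ringKrullDim]; exact he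
  obtain ⟨c, hc, hpc⟩ := exists_chain_of_supportDim_quot_eq p.asIdeal e hdim
  exact ⟨e, he, isNormalized_locD_shift ω p.asIdeal hω hn e c hc hpc hdim.le⟩

variable (M : Type u) [AddCommGroup M] [Module A M] [Module.Finite A M]

/-- depth and dimension of `M_p` through the top and bottom degrees `i` with
`p ∈ Supp Ext^i(M, ω)`. -/
theorem local_depth_dim_degrees (hω : Dual.IsDualizing A ω) (hn : Dual.IsNormalized A ω)
    (p : PrimeSpectrum A) [Nontrivial (LocalizedModule p.asIdeal.primeCompl M)] :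
    ∃ e δp dp : ℕ, ringKrullDim (A ⧸ p.asIdeal) = (e : WithBot ℕ∞) ∧
      LocCoh.depth (Localization.AtPrime p.asIdeal)
        (LocalizedModule p.asIdeal.primeCompl M) = δp ∧
      Module.supportDim (Localization.AtPrime p.asIdeal)
        (LocalizedModule p.asIdeal.primeCompl M) = (dp : WithBot ℕ∞) ∧
      p ∈ Module.support A (Dual.inD A M ⟶ ω⟦-(e : ℤ) - (δp : ℤ)⟧) ∧
      p ∈ Module.support A (Dual.inD A M ⟶ ω⟦-(e : ℤ) - (dp : ℤ)⟧) ∧
      ∀ i : ℤ, p ∈ Module.support A (Dual.inD A M ⟶ ω⟦i⟧) →
        -(e : ℤ) - dp ≤ i ∧ i ≤ -(e : ℤ) - δp := by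
  haveI := isNoetherianRing_atPrime p.asIdeal
  obtain ⟨e, he, hne⟩ := exists_dim_quot_isNormalized ω hω hn p
  have hKp := isDualizing_locD ω p.asIdeal hω
  obtain ⟨δp, hδ, hδnt, hδle⟩ := exists_depth_eq_and_top_degree (locD ω p.asIdeal) hKp
    (-(e : ℤ)) hne (LocalizedModule p.asIdeal.primeCompl M)
  obtain ⟨dp, hd⟩ := exists_nat_supportDim_eq (B := Localization.AtPrime p.asIdeal)
    (LocalizedModule p.asIdeal.primeCompl M)
  obtain ⟨hdnt, hdge⟩ := bottom_degree_of_supportDim_eq (locD ω p.asIdeal) hKp (-(e : ℤ)) hne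
    (LocalizedModule p.asIdeal.primeCompl M) dp hd
  refine ⟨e, δp, dp, he, hδ, hd, (mem_support_iff_nontrivial_localized ω M hω p _).2 hδnt,
    (mem_support_iff_nontrivial_localized ω M hω p _).2 hdnt, fun i hi => ?_⟩
  have hi' := (mem_support_iff_nontrivial_localized ω M hω p i).1 hi
  exact ⟨hdge i hi', hδle i hi'⟩

/-- for an equidimensional module of dimension `δ`, `Ext^{-δ}(M, ω)` is supported on all of
`Supp M`. -/
theorem mem_support_ext_neg_dim_of_equidim (hω : Dual.IsDualizing A ω)
    (hn : Dual.IsNormalized A ω) (hM : EGA4.IsEquidimModule A M) (δ : ℕ)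
    (hδ : Module.supportDim A M = δ) (p : PrimeSpectrum A) (hp : p ∈ Module.support A M) :
    p ∈ Module.support A (Dual.inD A M ⟶ ω⟦-(δ : ℤ)⟧) := by
  have hle : Module.annihilator A M ≤ p.asIdeal := Module.mem_support_iff_of_finite.1 hp
  obtain ⟨Q, hQ, hQp⟩ := Ideal.exists_minimalPrimes_le hle
  haveI hQprime : Q.IsPrime := hQ.1.1
  have hdimQ := hM Q hQ
  have h0 := supportDim_localizedModule_le_zero_of_minimal M Q hQ
  obtain ⟨q, rfl⟩ : ∃ q : PrimeSpectrum A, q.asIdeal = Q := ⟨⟨Q, hQprime⟩, rfl⟩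
  have hqM : q ∈ Module.support A M := Module.mem_support_iff_of_finite.2 hQ.1.2
  haveI : Nontrivial (LocalizedModule q.asIdeal.primeCompl M) := Module.mem_support_iff.1 hqM
  obtain ⟨e, δq, dq, he, -, hdq, -, hbot, -⟩ := local_depth_dim_degrees ω M hω hn q
  have hdq0 : dq = 0 := by
    rw [hdq] at h0
    have : dq ≤ 0 := by exact_mod_cast h0
    omega
  have heδ : e = δ := by
    rw [he, hδ] at hdimQ
    exact_mod_cast hdimQ
  have hidx : -(e : ℤ) - (dq : ℤ) = -(δ : ℤ) := by
    rw [hdq0, heδ]; simp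
  rw [hidx] at hbot
  exact Module.mem_support_mono ((PrimeSpectrum.asIdeal_le_asIdeal q p).1 hQp) hbot

/-- S18717. -/
theorem hasSk_iff_supportDim_ext (hω : Dual.IsDualizing A ω) (hn : Dual.IsNormalized A ω)
    [Nontrivial M] (hM : EGA4.IsEquidimModule A M) (δ : ℕ)
    (hδ : Module.supportDim A M = δ) (k : ℕ) (hk : 1 ≤ k) :
    LocCoh.HasSk k A M ↔
      ∀ j : ℤ, j ≠ -(δ : ℤ) →
        (-j - (k : ℤ) < 0 → Subsingleton (Dual.inD A M ⟶ ω⟦j⟧)) ∧
        (0 ≤ -j - (k : ℤ) → Module.supportDim A (Dual.inD A M ⟶ ω⟦j⟧) ≤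
          ((-j - (k : ℤ)).toNat : WithBot ℕ∞)) := by
  have hlow : ∀ j : ℤ, j < -(δ : ℤ) → Subsingleton (Dual.inD A M ⟶ ω⟦j⟧) := fun j hj =>
    subsingleton_ext_of_lt_neg_supportDim ω hω hn δ M hδ.le j hj
  constructor
  · intro hS j hj
    rcases lt_or_gt_of_ne hj with hlt | hgt
    · haveI := hlow j hlt
      refine ⟨fun _ => inferInstance, fun _ => ?_⟩
      rw [Module.supportDim_eq_bot_of_subsingleton]
      exact bot_le
    · -- every prime in the support of `E^j` has small dimension
      have K1 : ∀ p ∈ Module.support A (Dual.inD A M ⟶ ω⟦j⟧),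
          ∃ e : ℕ, ringKrullDim (A ⧸ p.asIdeal) = (e : WithBot ℕ∞) ∧ (e : ℤ) ≤ -j - k := by
        intro p hp
        haveI := isNoetherianRing_atPrime p.asIdeal
        haveI hntp : Nontrivial (LocalizedModule p.asIdeal.primeCompl M) :=
          nontrivial_of_nontrivial_hom _ _
            ((mem_support_iff_nontrivial_localized ω M hω p j).1 hp)
        have hpM : p ∈ Module.support A M := Module.mem_support_iff.2 hntp
        obtain ⟨e, δp, dp, he, hδp, hdp, -, -, hrange⟩ := local_depth_dim_degrees ω M hω hn p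
        have h1 := hrange j hp
        have h2 := hrange _ (mem_support_ext_neg_dim_of_equidim ω M hω hn hM δ hδ p hpM)
        have hS' := hS p.asIdeal
        rw [hdp, hδp] at hS'
        refine ⟨e, he, ?_⟩
        rcases min_le_iff.1 hS' with h | h
        · have h' : k ≤ δp := by exact_mod_cast h
          omega
        · have h' : dp ≤ δp := by exact_mod_cast h
          omega
      refine ⟨fun hneg => ?_, fun hpos => ?_⟩
      · by_contra hns
        rw [not_subsingleton_iff_nontrivial] at hns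
        obtain ⟨p, hp⟩ := Module.nonempty_support_of_nontrivial (R := A)
          (M := (Dual.inD A M ⟶ ω⟦j⟧))
        obtain ⟨e, -, he⟩ := K1 p hp
        omega
      · refine supportDim_le_of_forall_quot _ _ (fun p hp => ?_)
        obtain ⟨e, he, hej⟩ := K1 p hp
        rw [he]
        have : e ≤ (-j - (k : ℤ)).toNat := by omega
        exact_mod_cast this
  · intro hE P hP
    obtain ⟨p, rfl⟩ : ∃ p : PrimeSpectrum A, p.asIdeal = P := ⟨⟨P, hP⟩, rfl⟩
    rcases subsingleton_or_nontrivial (LocalizedModule p.asIdeal.primeCompl M) with hs | hnt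
    · rw [Module.supportDim_eq_bot_of_subsingleton, min_eq_right bot_le]
      exact bot_le
    · obtain ⟨e, δp, dp, he, hδp, hdp, htop, hbot, hrange⟩ :=
        local_depth_dim_degrees ω M hω hn p
      rw [hδp, hdp]
      by_cases hcmp : dp ≤ δp
      · exact min_le_of_right_le (by exact_mod_cast hcmp)
      · push_neg at hcmp
        refine min_le_of_left_le ?_
        have hbot_ge : -(δ : ℤ) ≤ -(e : ℤ) - dp := by
          by_contra hlt
          push_neg at hlt
          haveI := hlow _ hlt
          exact (not_subsingleton_iff_nontrivial.2 (nontrivial_of_mem_support hbot)) inferInstance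
        obtain ⟨hE1, hE2⟩ := hE (-(e : ℤ) - δp) (by omega)
        have hnt' := nontrivial_of_mem_support htop
        have hpos : 0 ≤ -(-(e : ℤ) - δp) - (k : ℤ) := by
          by_contra hneg
          push_neg at hneg
          exact (not_subsingleton_iff_nontrivial.2 hnt') (hE1 hneg)
        have h3 := (ringKrullDim_quot_le_supportDim _ p htop).trans (hE2 hpos)
        rw [he] at h3
        have h4 : e ≤ (-(-(e : ℤ) - δp) - (k : ℤ)).toNat := by exact_mod_cast h3
        have h5 : k ≤ δp := by omega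
        exact_mod_cast h5

end Local2

end Groth.Agent.Lib.DMod_helper6
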