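import Mathlib
import Groth.Prelude.Def_DRing2
import Groth.Prelude.Def_DDual2
import Groth.Prelude.Def_Wider
import Groth.Prelude.Def_CAlg
import Groth.Agent.Lib.DerivedTrunc_helper2
import Groth.Agent.Lib.DMod100_helper6

/-!
# Derived category toolkit (helper6), part 101: the dualizing module `H^{-d}(ω)` of a local ring:
its support and Serre's condition `(S_2)` (S0369).
-/

set_option autoImplicit false
universe u
open CategoryTheory CategoryTheory.Limits DerivedCategory Pretriangulated ZeroObject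
open scoped Pointwise TensorProduct
attribute [local instance] HasDerivedCategory.standard

namespace Groth.Agent.Lib.DMod_helper6

open DRing Groth.Agent.ExtendScalarsLib Groth.Agent.Lib.DerivedTrunc_helper2

section LocEquiv

variable {A : Type u} [CommRing A] [IsNoetherianRing A] (p : Ideal A) [p.IsPrime]

/-- `H^i(K_p) ≃ H^i(K)_p`. -/
lemma nonempty_HD_locD_linearEquiv (K : Dual.D A) (i : ℤ) :
    Nonempty (Dual.HD (Localization.AtPrime p) (locD K p) i ≃ₗ[Localization.AtPrime p]
      LocalizedModule p.primeCompl (Dual.HD A K i)) := by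
  let C : Cx A := Q.objPreimage K
  let eC : toD C ≅ K := Q.objObjPreimageIso K
  let C' : Cx (Localization.AtPrime p) :=
    ((ES A (Localization.AtPrime p)).mapHomologicalComplex (ComplexShape.up ℤ)).obj C
  let e1 : (homologyFunctor (ModuleCat.{u} (Localization.AtPrime p)) i).obj
      ((bcD A (Localization.AtPrime p)).obj K) ≅ C'.homology i :=
    (homologyFunctor (ModuleCat.{u} (Localization.AtPrime p)) i).mapIso
      ((bcD A (Localization.AtPrime p)).mapIso eC.symm ≪≫ bcDIso C) ≪≫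
      (homologyFunctorFactors (ModuleCat.{u} (Localization.AtPrime p)) i).app C'
  let e2 : C'.homology i ≅ (ES A (Localization.AtPrime p)).obj (C.homology i) :=
    (C.sc i).mapHomologyIso (ES A (Localization.AtPrime p))
  let e3 : C.homology i ≅ (homologyFunctor (ModuleCat.{u} A) i).obj K :=
    ((homologyFunctorFactors (ModuleCat.{u} A) i).app C).symm ≪≫
      (homologyFunctor (ModuleCat.{u} A) i).mapIso eC
  let e4 := (e1 ≪≫ e2 ≪≫ (ES A (Localization.AtPrime p)).mapIso e3).toLinearEquiv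
  let e5 := extendScalarsEquivTensor (S := Localization.AtPrime p)
    ((homologyFunctor (ModuleCat.{u} A) i).obj K)
  let e6 := (IsLocalizedModule.isBaseChange p.primeCompl (Localization.AtPrime p)
    (LocalizedModule.mkLinearMap p.primeCompl (Dual.HD A K i))).equiv
  exact ⟨(e4.trans e5).trans e6⟩

/-- the support of the cohomology of `ω` through maps from the local ring. -/
lemma mem_support_HD_iff (ω : Dual.D A) (q : PrimeSpectrum A) (i : ℤ) :
    q ∈ Module.support A (Dual.HD A ω i) ↔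
      Nontrivial (Dual.inD (Localization.AtPrime q.asIdeal) (Localization.AtPrime q.asIdeal) ⟶
        (locD ω q.asIdeal)⟦i⟧) := by
  rw [Module.mem_support_iff, ← nontrivial_HD_locD_iff q.asIdeal ω i, nontrivial_hom_inD_self_iff]

end LocEquiv

section LocalB

variable {B : Type u} [CommRing B] [IsLocalRing B] [IsNoetherianRing B] (K : Dual.D B)

lemma exists_hasInjAmplitudeIn_of_isNormalized (hK : Dual.IsDualizing B K)
    (hn : Dual.IsNormalized B K) : ∃ a : ℤ, HasInjAmplitudeIn B a 0 K := by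
  obtain ⟨a, b, hab⟩ := hK.finite_injective_dimension
  refine ⟨a, hasInjAmplitudeIn_of_hom_quot_vanishing K a 0 (fun I j hj => ?_)⟩
  rcases hj with hj | hj
  · exact hab (B ⧸ I) j (Or.inl hj)
  · exact extVanish_of_finite K hK hn (B ⧸ I) j hj

omit [IsLocalRing B] [IsNoetherianRing B] in
lemma subsingleton_hom_of_shift {X Y : Dual.D B} (n m k : ℤ) (h : k + n = m)
    (hs : Subsingleton (X⟦n⟧ ⟶ Y⟦m⟧)) : Subsingleton (X ⟶ Y⟦k⟧) := by
  refine ⟨fun φ ψ => ?_⟩
  apply (shiftFunctor (Dual.D B) n).map_injective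
  rw [← cancel_mono (shiftShiftIso Y k n m h).hom]
  exact Subsingleton.elim _ _

/-- For a local ring of dimension `d'` with normalized dualizing complex `K` and dualizing module
`N = H^{-d'}(K)`: `Ext^{j - d'}(N, K) = 0` for `j ≥ d' - 1`, `j ≠ 0`. -/
theorem subsingleton_ext_dualizing_module (hK : Dual.IsDualizing B K)
    (hn : Dual.IsNormalized B K) (d' : ℕ) (hd : ringKrullDim B = (d' : WithBot ℕ∞)) (j : ℤ)
    (hj : (d' : ℤ) - 1 ≤ j) (hj0 : j ≠ 0) :
    Subsingleton (Dual.inD B (Dual.HD B K (-(d' : ℤ))) ⟶ K⟦j - (d' : ℤ)⟧) := by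
  obtain ⟨a, hamp⟩ := exists_hasInjAmplitudeIn_of_isNormalized K hK hn
  haveI hKge : DerivedCategory.IsGE K (-(d' : ℤ)) := by
    rw [DerivedCategory.isGE_iff]
    intro i hi
    have h1 : Subsingleton (Dual.inD B B ⟶ K⟦i⟧) :=
      subsingleton_ext_of_lt_neg_supportDim K hK hn d' B
        (by rw [Module.supportDim_self_eq_ringKrullDim, hd]) i hi
    haveI := (subsingleton_hom_inD_self_iff K i).1 h1
    exact ModuleCat.isZero_of_subsingleton _
  have hT := (tt (ModuleCat.{u} B)).triangleLEGT_distinguished (-(d' : ℤ)) K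
  have hX₁ : ∀ φ : ((tt (ModuleCat.{u} B)).truncLE (-(d' : ℤ))).obj K ⟶ K⟦j⟧, φ = 0 := by
    intro φ
    have hα : ∀ α : ((tt (ModuleCat.{u} B)).truncGT (-(d' : ℤ))).obj K ⟶ (K⟦j⟧)⟦(1 : ℤ)⟧,
        α = 0 := by
      intro α
      have h0 := hom_eq_zero_of_isGE_of_hasInjAmplitudeIn K a 0 hamp
        (((tt (ModuleCat.{u} B)).truncGT (-(d' : ℤ))).obj K) (-(d' : ℤ) + 1) (j + 1) (by omega)
        (α ≫ (shiftShiftIso K j 1 (j + 1) rfl).hom)
      rw [← cancel_mono (shiftShiftIso K j 1 (j + 1) rfl).hom, h0, zero_comp]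
    obtain ⟨ψ, hψ⟩ := exists_factor_of_distTriang _ hT (K⟦j⟧) hα φ
    have hψ0 : ψ = 0 := (hK.ext_self_subsingleton j hj0).elim ψ 0
    rw [hψ, hψ0]
    exact comp_zero
  haveI : DerivedCategory.IsGE (((tt (ModuleCat.{u} B)).truncLE (-(d' : ℤ))).obj K)
      (-(d' : ℤ)) := by
    rw [DerivedCategory.isGE_iff]
    intro i hi
    haveI := isIso_homology_map_truncLEι K (-(d' : ℤ)) i hi.le
    exact IsZero.of_iso (DerivedCategory.isZero_of_isGE K (-(d' : ℤ)) i hi)
      (asIso ((homologyFunctor (ModuleCat.{u} B) i).map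
        (((tt (ModuleCat.{u} B)).truncLEι (-(d' : ℤ))).app K)))
  haveI : DerivedCategory.IsLE (((tt (ModuleCat.{u} B)).truncLE (-(d' : ℤ))).obj K)
      (-(d' : ℤ)) := inferInstance
  obtain ⟨Y, ⟨e⟩⟩ := DerivedCategory.exists_iso_singleFunctor_obj_of_isGE_of_isLE
    (((tt (ModuleCat.{u} B)).truncLE (-(d' : ℤ))).obj K) (-(d' : ℤ))
  haveI := isIso_homology_map_truncLEι K (-(d' : ℤ)) (-(d' : ℤ)) le_rfl
  let eY : Y ≅ (homologyFunctor (ModuleCat.{u} B) (-(d' : ℤ))).obj K :=
    ((singleFunctorCompHomologyFunctorIso (ModuleCat.{u} B) (-(d' : ℤ))).app Y).symm ≪≫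
      (homologyFunctor (ModuleCat.{u} B) (-(d' : ℤ))).mapIso e.symm ≪≫
      asIso ((homologyFunctor (ModuleCat.{u} B) (-(d' : ℤ))).map
        (((tt (ModuleCat.{u} B)).truncLEι (-(d' : ℤ))).app K))
  let eN : Dual.inD B (Dual.HD B K (-(d' : ℤ))) ≅
      (DerivedCategory.singleFunctor (ModuleCat.{u} B) 0).obj Y :=
    (DerivedCategory.singleFunctor (ModuleCat.{u} B) 0).mapIso
      eY.symm
  let eS : ((DerivedCategory.singleFunctor (ModuleCat.{u} B) 0).obj Y)⟦(d' : ℤ)⟧ ≅
      ((tt (ModuleCat.{u} B)).truncLE (-(d' : ℤ))).obj K :=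
    ((DerivedCategory.singleFunctors (ModuleCat.{u} B)).shiftIso (d' : ℤ) (-(d' : ℤ)) 0
      (by omega)).app Y ≪≫ e.symm
  have h1 : Subsingleton
      (((DerivedCategory.singleFunctor (ModuleCat.{u} B) 0).obj Y)⟦(d' : ℤ)⟧ ⟶ K⟦j⟧) :=
    (subsingleton_hom_iso_left eS).2 (subsingleton_of_forall_eq 0 hX₁)
  have h2 : Subsingleton
      ((DerivedCategory.singleFunctor (ModuleCat.{u} B) 0).obj Y ⟶ K⟦j - (d' : ℤ)⟧) :=
    subsingleton_hom_of_shift (d' : ℤ) j (j - d') (by omega) h1
  exact (subsingleton_hom_iso_left eN).2 h2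

end LocalB

section LocalA

variable {A : Type u} [CommRing A] [IsLocalRing A] [IsNoetherianRing A] (ω : Dual.D A)

/-- bottom degree of the cohomology of `ω` at a prime. -/
theorem local_HD_degrees (hω : Dual.IsDualizing A ω) (hn : Dual.IsNormalized A ω)
    (p : PrimeSpectrum A) :
    ∃ e h : ℕ, ringKrullDim (A ⧸ p.asIdeal) = (e : WithBot ℕ∞) ∧
      Order.height p = (h : ℕ∞) ∧
      ringKrullDim (Localization.AtPrime p.asIdeal) = (h : WithBot ℕ∞) ∧
      p ∈ Module.support A (Dual.HD A ω (-(e : ℤ) - h)) ∧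
      ∀ i : ℤ, p ∈ Module.support A (Dual.HD A ω i) → -(e : ℤ) - h ≤ i := by
  haveI := isNoetherianRing_atPrime p.asIdeal
  obtain ⟨e, he, hne⟩ := exists_dim_quot_isNormalized ω hω hn p
  obtain ⟨h, hh⟩ := ENat.ne_top_iff_exists.1 (Ideal.height_ne_top p.isPrime.ne_top)
  have hdimB : ringKrullDim (Localization.AtPrime p.asIdeal) = (h : WithBot ℕ∞) := by
    rw [IsLocalization.AtPrime.ringKrullDim_eq_height p.asIdeal
      (Localization.AtPrime p.asIdeal), ← hh]
    rfl
  have hKp := isDualizing_locD ω p.asIdeal hω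
  obtain ⟨hnt, hge⟩ := bottom_degree_of_supportDim_eq (locD ω p.asIdeal) hKp (-(e : ℤ)) hne
    (Localization.AtPrime p.asIdeal) h
    (by rw [Module.supportDim_self_eq_ringKrullDim, hdimB])
  refine ⟨e, h, he, by rw [← PrimeSpectrum.height_eq_orderHeight, ← hh], hdimB,
    (mem_support_HD_iff ω p _).2 hnt, fun i hi => hge i ((mem_support_HD_iff ω p i).1 hi)⟩

/-- S0369. -/
theorem dualizing_module_support_and_S2 (hω : Dual.IsDualizing A ω) (hn : Dual.IsNormalized A ω)
    (d : ℕ) (hd : ringKrullDim A = d) :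
    Module.support A (Dual.HD A ω (-(d : ℤ))) =
      {p : PrimeSpectrum A | ∃ q ∈ minimalPrimes A, q ≤ p.asIdeal ∧
        ringKrullDim (A ⧸ q) = d} ∧
    LocCoh.HasSk 2 A (Dual.HD A ω (-(d : ℤ))) := by
  have hlow : ∀ i : ℤ, i < -(d : ℤ) → Subsingleton (Dual.HD A ω i) := by
    intro i hi
    exact (subsingleton_hom_inD_self_iff ω i).1
      (subsingleton_ext_of_lt_neg_supportDim ω hω hn d A
        (by rw [Module.supportDim_self_eq_ringKrullDim, hd]) i hi)
  choose e he hne using exists_dim_quot_isNormalized ω hω hn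
  have F1 : ∀ p q : PrimeSpectrum A, p ⋖ q → e p = e q + 1 := by
    intro p q hpq
    haveI := isNoetherianRing_atPrime p.asIdeal
    have key := normalizing_shift_covBy ω hω p q hpq (-(e p : ℤ)) (-(e q : ℤ))
      ((mem_support_hom_quot_iff ω p.asIdeal hω _).2
        ((nontrivial_hom_residueField_iff _ (isDualizing_locD ω p.asIdeal hω) _ (hne p) _).2
          rfl)) (hne q)
    omega
  have F2 : ∀ n : ℕ, ∀ p : PrimeSpectrum A, Order.height p = (n : ℕ∞) →
      ∃ q : PrimeSpectrum A, q ≤ p ∧ IsMin q ∧ e q = e p + n := by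
    intro n
    induction n with
    | zero =>
      intro p hp
      exact ⟨p, le_rfl, Order.height_eq_zero.1 (by simpa using hp), by simp⟩
    | succ n ih =>
      intro p hp
      have hp' : Order.height p = (n : ℕ∞) + 1 := by rw [hp, Nat.cast_add, Nat.cast_one]
      obtain ⟨-, ⟨y, hyp, hy⟩, hall⟩ := Order.height_eq_coe_add_one_iff.1 hp'
      have hcov : y ⋖ p := by
        refine ⟨hyp, fun c hyc hcp => ?_⟩
        have h1 := Order.height_add_one_le hyc
        have h2 := hall c hcp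
        rw [hy] at h1
        exact lt_irrefl _ ((ENat.add_one_le_iff (ENat.coe_ne_top n)).1 (h1.trans h2))
      obtain ⟨q, hqy, hqmin, hq⟩ := ih y hy
      exact ⟨q, hqy.trans hyp.le, hqmin, by rw [hq, F1 y p hcov]; omega⟩
  have hsupp : ∀ p : PrimeSpectrum A, p ∈ Module.support A (Dual.HD A ω (-(d : ℤ))) →
      ∃ h : ℕ, Order.height p = (h : ℕ∞) ∧
        ringKrullDim (Localization.AtPrime p.asIdeal) = (h : WithBot ℕ∞) ∧
        (e p : ℤ) + h = d := by
    intro p hp
    obtain ⟨e', h, he', hh, hdimB, hmem, hge⟩ := local_HD_degrees ω hω hn p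
    have hee : e' = e p := by
      have := he p
      rw [he'] at this
      exact_mod_cast this
    subst hee
    have h1 := hge _ hp
    have h2 : -(d : ℤ) ≤ -(e p : ℤ) - h := by
      by_contra hlt
      push_neg at hlt
      haveI := hlow _ hlt
      exact (not_subsingleton_iff_nontrivial.2 (nontrivial_of_mem_support hmem)) inferInstance
    exact ⟨h, hh, hdimB, by omega⟩
  refine ⟨?_, ?_⟩
  · ext p
    simp only [Set.mem_setOf_eq]
    constructor
    · intro hp
      obtain ⟨h, hh, -, hsum⟩ := hsupp p hp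
      obtain ⟨q, hqp, hqmin, hq⟩ := F2 h p hh
      refine ⟨q.asIdeal, PrimeSpectrum.isMin_iff.1 hqmin,
        (PrimeSpectrum.asIdeal_le_asIdeal q p).2 hqp, ?_⟩
      rw [he q]
      have : e q = d := by omega
      rw [this]
    · rintro ⟨Q, hQmin, hQp, hQd⟩
      haveI : Q.IsPrime := hQmin.1.1
      obtain ⟨q, rfl⟩ : ∃ q : PrimeSpectrum A, q.asIdeal = Q := ⟨⟨Q, inferInstance⟩, rfl⟩
      obtain ⟨e', h, he', hh, -, hmem, -⟩ := local_HD_degrees ω hω hn q
      have h0 : h = 0 := by
        have hz : Order.height q = 0 := Order.height_eq_zero.2 (PrimeSpectrum.isMin_iff.2 hQmin)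
        rw [hz] at hh
        exact_mod_cast hh.symm
      have hed : e' = d := by
        rw [he'] at hQd
        exact_mod_cast hQd
      have hidx : -(e' : ℤ) - (h : ℤ) = -(d : ℤ) := by rw [h0, hed]; simp
      rw [hidx] at hmem
      exact Module.mem_support_mono ((PrimeSpectrum.asIdeal_le_asIdeal q p).1 hQp) hmem
  · intro P hP
    obtain ⟨p, rfl⟩ : ∃ p : PrimeSpectrum A, p.asIdeal = P := ⟨⟨P, hP⟩, rfl⟩
    haveI := isNoetherianRing_atPrime p.asIdeal
    haveI := hω.finite_cohomology (-(d : ℤ))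
    rcases subsingleton_or_nontrivial
      (LocalizedModule p.asIdeal.primeCompl (Dual.HD A ω (-(d : ℤ)))) with hs | hnt
    · rw [Module.supportDim_eq_bot_of_subsingleton, min_eq_right bot_le]
      exact bot_le
    · have hp : p ∈ Module.support A (Dual.HD A ω (-(d : ℤ))) := Module.mem_support_iff.2 hnt
      obtain ⟨h, hh, hdimB, hsum⟩ := hsupp p hp
      have hKp := isDualizing_locD ω p.asIdeal hω
      have hK' := isDualizing_shift _ hKp (-(e p : ℤ))
      obtain ⟨eq1⟩ := nonempty_HD_locD_linearEquiv p.asIdeal ω (-(d : ℤ))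
      let eq2 : Dual.HD (Localization.AtPrime p.asIdeal)
          ((locD ω p.asIdeal)⟦-(e p : ℤ)⟧) (-(h : ℤ)) ≃ₗ[Localization.AtPrime p.asIdeal]
          Dual.HD (Localization.AtPrime p.asIdeal) (locD ω p.asIdeal) (-(d : ℤ)) :=
        (((homologyFunctor (ModuleCat.{u} (Localization.AtPrime p.asIdeal)) 0).shiftIso
          (-(e p : ℤ)) (-(h : ℤ)) (-(d : ℤ)) (by omega)).app (locD ω p.asIdeal)).toLinearEquiv
      have eqN := eq2.trans eq1
      obtain ⟨δ, hδ, hδnt, -⟩ := exists_depth_eq_and_top_degree (locD ω p.asIdeal) hKp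
        (-(e p : ℤ)) (hne p)
        (LocalizedModule p.asIdeal.primeCompl (Dual.HD A ω (-(d : ℤ))))
      have hvan : ∀ j : ℤ, (h : ℤ) - 1 ≤ j → j ≠ 0 →
          Subsingleton (Dual.inD (Localization.AtPrime p.asIdeal)
            (LocalizedModule p.asIdeal.primeCompl (Dual.HD A ω (-(d : ℤ)))) ⟶
              (locD ω p.asIdeal)⟦-(e p : ℤ) + (j - h)⟧) := by
        intro j hj hj0
        have h1 := subsingleton_ext_dualizing_module ((locD ω p.asIdeal)⟦-(e p : ℤ)⟧) hK'
          (hne p) h hdimB j hj hj0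
        have h2 := subsingleton_hom_of_linearEquiv eqN _ h1
        exact (subsingleton_hom_iso_right
          (shiftShiftIso (locD ω p.asIdeal) (-(e p : ℤ)) (j - h) _ rfl)).1 h2
      have hdimN : Module.supportDim (Localization.AtPrime p.asIdeal)
          (LocalizedModule p.asIdeal.primeCompl (Dual.HD A ω (-(d : ℤ)))) ≤
            (h : WithBot ℕ∞) := by
        rw [← hdimB]
        exact Module.supportDim_le_ringKrullDim _ _
      rw [hδ]
      by_cases h2 : 2 ≤ δ
      · have h3 : ((2 : ℕ) : ℕ∞) ≤ (δ : ℕ∞) := by exact_mod_cast h2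
        exact min_le_of_left_le (WithBot.coe_le_coe.2 h3)
      · push_neg at h2
        have hδh : δ = h := by
          by_contra hne'
          have hv := hvan ((h : ℤ) - δ) (by omega) (by omega)
          have hidx : -(e p : ℤ) + ((h : ℤ) - δ - h) = -(e p : ℤ) - δ := by ring
          rw [hidx] at hv
          exact (not_subsingleton_iff_nontrivial.2 hδnt) hv
        refine min_le_of_right_le ?_
        rw [hδh]
        exact_mod_cast hdimN

end LocalA

end Groth.Agent.Lib.DMod_helper6
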