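import Mathlib
import Groth.Prelude.Def_DRing2
import Groth.Prelude.Def_DDual2
import Groth.Agent.Lib.DMod79_helper6

/-!
# Derived category toolkit (helper6), part 80: a complex which is dualizing at all maximal ideals and
has finite injective dimension is dualizing (S7867, S11360).
-/

set_option autoImplicit false
universe u
open CategoryTheory CategoryTheory.Limits DerivedCategory
open scoped TensorProduct
attribute [local instance] HasDerivedCategory.standard

namespace Groth.Agent.Lib.DMod_helper6

open DRing Groth.Agent.ExtendScalarsLib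

variable {A : Type u} [CommRing A]

/-- local-to-global vanishing of morphisms from a pseudo-coherent object to a bounded below one -/
lemma hom_eq_zero_of_forall_maximal (K L : Dual.D A) (hK : IsPseudoCoherent' A K) (a : ℤ)
    [DerivedCategory.IsGE L a] (f : K ⟶ L)
    (h : ∀ (m : Ideal A) [m.IsMaximal], (bcD A (Localization.AtPrime m)).map f = 0) : f = 0 := by
  let I : Ideal A := LinearMap.ker (LinearMap.toSpanSingleton A (K ⟶ L) f)
  have hI : I = ⊤ := by
    by_contra hne
    obtain ⟨m, hm, hIm⟩ := Ideal.exists_le_maximal I hne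
    haveI := hm
    obtain ⟨s, hs⟩ := (locHom (B := Localization.AtPrime m) m.primeCompl K L hK a).2 f (h m)
    have hsI : (s : A) ∈ I := by
      rw [LinearMap.mem_ker, LinearMap.toSpanSingleton_apply]
      exact hs
    exact s.2 (hIm hsI)
  have h1 : (1 : A) ∈ I := by
    rw [hI]
    trivial
  rw [LinearMap.mem_ker, LinearMap.toSpanSingleton_apply, one_smul] at h1
  exact h1

/-- local-to-global criterion for dualizing complexes, for the functors induced by `- ⊗ A_m` -/
theorem isDualizing_of_forall_maximal_bcD [IsNoetherianRing A] (K : Dual.D A)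
    (hfin : ∀ i : ℤ, Module.Finite A (Dual.HD A K i))
    (hinj : ∃ a b : ℤ, ∀ (M : Type u) [AddCommGroup M] [Module A M] (i : ℤ),
      (i < a ∨ b < i) → Subsingleton (Dual.inD A M ⟶ K⟦i⟧))
    (hloc : ∀ (m : Ideal A) [m.IsMaximal], Dual.IsDualizing (Localization.AtPrime m)
      ((bcD A (Localization.AtPrime m)).obj K)) :
    Dual.IsDualizing A K := by
  obtain ⟨a, b, hab⟩ := hinj
  have hH : ∀ i : ℤ, (i < a ∨ b < i) → Subsingleton (Dual.HD A K i) := fun i hi =>
    subsingleton_HD_of_hom_quot_bot K i (hab (A ⧸ (⊥ : Ideal A)) i hi)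
  haveI hge : DerivedCategory.IsGE K a := by
    rw [DerivedCategory.isGE_iff]
    intro i hi
    haveI := hH i (Or.inl hi)
    exact ModuleCat.isZero_of_subsingleton _
  have hpc : IsPseudoCoherent' A K := by
    refine isPseudoCoherent'_of_homology K ⟨b, fun j hj => hH j (Or.inr hj)⟩ (fun j => ?_)
    haveI := hfin j
    exact isPseudoCoherentModule'_of_finite _
  have hgeShift : ∀ i : ℤ, DerivedCategory.IsGE (K⟦i⟧) (a - i) := fun i =>
    TStructure.t.isGE_shift K a i (a - i) (by omega)
  refine ⟨inferInstance, ⟨a, b, hab⟩, hfin, ⟨?_, ?_⟩, ?_⟩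
  · -- injectivity of `A → End K`
    intro a₁ a₂ h12
    have h0 : (a₁ - a₂) • 𝟙 K = 0 := by
      rw [sub_smul, sub_eq_zero]
      exact h12
    apply sub_eq_zero.1
    apply eq_zero_of_localization
    intro m hm
    haveI := hm
    apply (hloc m).toEnd_bijective.1
    show algebraMap A (Localization.AtPrime m) (a₁ - a₂) •
        𝟙 ((bcD A (Localization.AtPrime m)).obj K) =
      (0 : Localization.AtPrime m) • 𝟙 ((bcD A (Localization.AtPrime m)).obj K)
    rw [zero_smul, ← CategoryTheory.Functor.map_id, ← bcD_map_smul, h0, Functor.map_zero]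
  · -- surjectivity of `A → End K`
    intro f
    let I : Ideal A := Submodule.comap (LinearMap.toSpanSingleton A (K ⟶ K) f)
      (LinearMap.range (LinearMap.toSpanSingleton A (K ⟶ K) (𝟙 K)))
    have hI : I = ⊤ := by
      by_contra hne
      obtain ⟨m, hm, hIm⟩ := Ideal.exists_le_maximal I hne
      haveI := hm
      obtain ⟨bm, hbm⟩ := (hloc m).toEnd_bijective.2 ((bcD A (Localization.AtPrime m)).map f)
      obtain ⟨x, s, hxs⟩ := IsLocalization.exists_mk'_eq m.primeCompl bm
      have h1 : (bcD A (Localization.AtPrime m)).map ((s : A) • f - x • 𝟙 K) = 0 := by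
        rw [Functor.map_sub, bcD_map_smul, bcD_map_smul, CategoryTheory.Functor.map_id]
        have h2 : bm • 𝟙 ((bcD A (Localization.AtPrime m)).obj K) =
            (bcD A (Localization.AtPrime m)).map f := hbm
        rw [← h2, smul_smul, ← hxs, mul_comm, IsLocalization.mk'_spec, sub_self]
      obtain ⟨t, ht⟩ := (locHom (B := Localization.AtPrime m) m.primeCompl K K hpc a).2 _ h1
      rw [smul_sub, sub_eq_zero, smul_smul, smul_smul] at ht
      have htI : ((t * s : m.primeCompl) : A) ∈ I := by
        rw [Submodule.mem_comap, LinearMap.toSpanSingleton_apply, Submonoid.coe_mul, ht]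
        exact ⟨(t : A) * x, by rw [LinearMap.toSpanSingleton_apply]⟩
      exact (t * s).2 (hIm htI)
    have h1 : (1 : A) ∈ I := by
      rw [hI]
      trivial
    rw [Submodule.mem_comap, LinearMap.toSpanSingleton_apply, one_smul] at h1
    obtain ⟨x, hx⟩ := h1
    exact ⟨x, by rw [← hx, LinearMap.toSpanSingleton_apply]⟩
  · -- no self-extensions
    intro i hi
    refine subsingleton_of_forall_eq 0 (fun f => ?_)
    haveI := hgeShift i
    refine hom_eq_zero_of_forall_maximal K (K⟦i⟧) hpc (a - i) f (fun m hm => ?_)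
    have hsub := (hloc m).ext_self_subsingleton i hi
    rw [← cancel_mono (((bcD A (Localization.AtPrime m)).commShiftIso i).hom.app K), zero_comp]
    exact hsub.elim _ _

/-- S7867. -/
theorem isDualizing_of_forall_maximal [IsNoetherianRing A] (K : Dual.D A)
    (hfin : ∀ i : ℤ, Module.Finite A (Dual.HD A K i))
    (hinj : ∃ a b : ℤ, ∀ (M : Type u) [AddCommGroup M] [Module A M] (i : ℤ),
      (i < a ∨ b < i) → Subsingleton (Dual.inD A M ⟶ K⟦i⟧))
    [∀ m : Ideal A, [m.IsMaximal] → DRing.HasLBaseChange (algebraMap A (Localization.AtPrime m))]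
    (hloc : ∀ (m : Ideal A) [m.IsMaximal],
      Dual.IsDualizing (Localization.AtPrime m)
        ((DRing.LBaseChange (algebraMap A (Localization.AtPrime m))).obj K)) :
    Dual.IsDualizing A K := by
  refine isDualizing_of_forall_maximal_bcD K hfin hinj (fun m hm => ?_)
  obtain ⟨e⟩ := nonempty_lBaseChange_iso_bcD (A := A) (B := Localization.AtPrime m)
  exact isDualizing_of_iso (e.app K) (hloc m)

/-- S11360. -/
theorem isDualizing_of_forall_prime [IsNoetherianRing A] (R : Dual.D A)
    (hfin : ∀ i : ℤ, Module.Finite A (Dual.HD A R i)) (hfid : DRing.HasFiniteInjDim A R)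
    [∀ p : PrimeSpectrum A, DRing.HasLBaseChange (algebraMap A (Localization.AtPrime p.asIdeal))]
    (h : ∀ p : PrimeSpectrum A, Dual.IsDualizing (Localization.AtPrime p.asIdeal)
      ((DRing.LBaseChange (algebraMap A (Localization.AtPrime p.asIdeal))).obj R)) :
    Dual.IsDualizing A R := by
  obtain ⟨a, b, hab⟩ := hfid
  refine isDualizing_of_forall_maximal_bcD R hfin ⟨a, b, fun M _ _ i hi =>
    hom_subsingleton_of_hasInjAmplitudeIn R a b hab (ModuleCat.of A M) i hi⟩ (fun m hm => ?_)
  let p : PrimeSpectrum A := ⟨m, hm.isPrime⟩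
  obtain ⟨e⟩ := nonempty_lBaseChange_iso_bcD (A := A) (B := Localization.AtPrime p.asIdeal)
  exact isDualizing_of_iso (e.app R) (h p)

end Groth.Agent.Lib.DMod_helper6
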