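import Mathlib
import Groth.Prelude.Def_DRing2
import Groth.Prelude.Def_DDual2
import Groth.Prelude.Def_Wider
import Groth.Prelude.Def_CAlg
import Groth.Agent.Lib.DMod80_helper6
import Groth.Agent.Lib.DMod101_helper6

/-!
# Derived category toolkit (helper6), part 102: a complex with finite cohomology, bounded below,
over a Noetherian ring of finite Krull dimension, all of whose localizations are dualizing, is
dualizing (S11173).
-/

set_option autoImplicit false
universe u
open CategoryTheory CategoryTheory.Limits DerivedCategory Pretriangulated ZeroObject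
open scoped Pointwise TensorProduct
attribute [local instance] HasDerivedCategory.standard

namespace Groth.Agent.Lib.DMod_helper6

open DRing Groth.Agent.ExtendScalarsLib

section Gen

variable {A : Type u} [CommRing A] [IsNoetherianRing A] (ω : Dual.D A) (p : Ideal A) [p.IsPrime]

/-- `p ∈ Supp Ext^i(M, ω)` iff `Ext^i(M_p, ω_p) ≠ 0`, for `ω` bounded below. -/
theorem mem_support_ext_iff' (a : ℤ) [DerivedCategory.IsGE ω a] (M : Type u) [AddCommGroup M]
    [Module A M] [Module.Finite A M] (i : ℤ) :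
    (⟨p, inferInstance⟩ : PrimeSpectrum A) ∈ Module.support A (Dual.inD A M ⟶ ω⟦i⟧) ↔
      Nontrivial (Dual.inD (Localization.AtPrime p) ((Localization.AtPrime p) ⊗[A] M) ⟶
        (locD ω p)⟦i⟧) := by
  haveI : DerivedCategory.IsGE (ω⟦i⟧) (a - i) :=
    TStructure.t.isGE_shift ω a i (a - i) (by omega)
  have hK : IsPseudoCoherent' A (Dual.inD A M) := isPseudoCoherentModule'_of_finite M
  obtain ⟨hsurj, hinj⟩ := locHom (B := Localization.AtPrime p) p.primeCompl (Dual.inD A M)
    (ω⟦i⟧) hK (a - i)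
  constructor
  · intro h
    obtain ⟨f, hf⟩ := Module.mem_support_iff'.1 h
    have hb : (bcD A (Localization.AtPrime p)).map f ≠ 0 := by
      intro h0
      obtain ⟨s, hs⟩ := hinj f h0
      exact hf (s : A) s.2 hs
    refine ⟨(bcSingleIso (B := Localization.AtPrime p) M).inv ≫
      (bcD A (Localization.AtPrime p)).map f ≫
        ((bcD A (Localization.AtPrime p)).commShiftIso i).hom.app ω, 0, fun h0 => hb ?_⟩
    rw [← cancel_epi (bcSingleIso (B := Localization.AtPrime p) M).inv,
      ← cancel_mono (((bcD A (Localization.AtPrime p)).commShiftIso i).hom.app ω),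
      Category.assoc, h0, comp_zero, zero_comp]
  · rintro ⟨g, g₀, hne⟩
    have hg1 : g - g₀ ≠ 0 := sub_ne_zero.2 hne
    obtain ⟨s, f, hf⟩ := hsurj ((bcSingleIso (B := Localization.AtPrime p) M).hom ≫ (g - g₀) ≫
      ((bcD A (Localization.AtPrime p)).commShiftIso i).inv.app ω)
    refine Module.mem_support_iff'.2 ⟨f, fun r hr h0 => hg1 ?_⟩
    have h1 : algebraMap A (Localization.AtPrime p) r •
        (bcD A (Localization.AtPrime p)).map f = 0 := by
      rw [← bcD_map_smul, h0, Functor.map_zero]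
    rw [← hf] at h1
    have h2 := smul_eq_zero_of_algebraMap_smul p.primeCompl (⟨r, hr⟩ : p.primeCompl) _ h1
    have h3 := smul_eq_zero_of_algebraMap_smul p.primeCompl s _ h2
    rw [← cancel_epi (bcSingleIso (B := Localization.AtPrime p) M).hom,
      ← cancel_mono (((bcD A (Localization.AtPrime p)).commShiftIso i).inv.app ω),
      Category.assoc, h3, comp_zero, zero_comp]

theorem mem_support_hom_quot_iff' (a : ℤ) [DerivedCategory.IsGE ω a] (i : ℤ) :
    (⟨p, inferInstance⟩ : PrimeSpectrum A) ∈ Module.support A (Dual.inD A (A ⧸ p) ⟶ ω⟦i⟧) ↔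
      Nontrivial (Dual.inD (Localization.AtPrime p)
        (IsLocalRing.ResidueField (Localization.AtPrime p)) ⟶ (locD ω p)⟦i⟧) := by
  rw [mem_support_ext_iff' ω p a (A ⧸ p) i]
  obtain ⟨iso⟩ := nonempty_tensorQuot_iso_residueField p
  exact nontrivial_hom_iso_left iso

end Gen

section Main

variable {A : Type u} [CommRing A] [IsNoetherianRing A] (ω : Dual.D A)

/-- if `p ⋖ q` and `ω_p[np]`, `ω_q[nq]` are normalized then `np = nq - 1` (local hypotheses). -/
theorem normalizing_shift_covBy' (a : ℤ) [DerivedCategory.IsGE ω a] (p q : PrimeSpectrum A)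
    (hpq : p ⋖ q) (np nq : ℤ)
    (hp : p ∈ Module.support A (Dual.inD A (A ⧸ p.asIdeal) ⟶ ω⟦np⟧))
    (hq : Dual.IsDualizing (Localization.AtPrime q.asIdeal) (locD ω q.asIdeal))
    (hnq : Dual.IsNormalized (Localization.AtPrime q.asIdeal) ((locD ω q.asIdeal)⟦nq⟧)) :
    np = nq - 1 := by
  haveI := isNoetherianRing_atPrime q.asIdeal
  have hq_mem : q ∈ Module.support A (Dual.inD A (A ⧸ p.asIdeal) ⟶ ω⟦np⟧) :=
    Module.mem_support_mono hpq.le hp
  have h1 : Nontrivial (Dual.inD (Localization.AtPrime q.asIdeal)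
      ((Localization.AtPrime q.asIdeal) ⊗[A] (A ⧸ p.asIdeal)) ⟶ (locD ω q.asIdeal)⟦np⟧) :=
    (mem_support_ext_iff' ω q.asIdeal a (A ⧸ p.asIdeal) np).1 hq_mem
  have hple : p.asIdeal ≤ q.asIdeal := hpq.le
  have hdisj : Disjoint (q.asIdeal.primeCompl : Set A) (p.asIdeal : Set A) :=
    Set.disjoint_left.2 (fun x hx hxp => hx (hple hxp))
  haveI hPprime : (Ideal.map (algebraMap A (Localization.AtPrime q.asIdeal)) p.asIdeal).IsPrime :=
    IsLocalization.isPrime_of_isPrime_disjoint q.asIdeal.primeCompl _ p.asIdeal p.isPrime hdisj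
  have hcomap : (Ideal.map (algebraMap A (Localization.AtPrime q.asIdeal)) p.asIdeal).comap
      (algebraMap A (Localization.AtPrime q.asIdeal)) = p.asIdeal :=
    IsLocalization.under_map_of_isPrime_disjoint q.asIdeal.primeCompl _ p.isPrime hdisj
  have hqm : (IsLocalRing.maximalIdeal (Localization.AtPrime q.asIdeal)).comap
      (algebraMap A (Localization.AtPrime q.asIdeal)) = q.asIdeal :=
    IsLocalization.AtPrime.under_maximalIdeal (Localization.AtPrime q.asIdeal) q.asIdeal
  obtain ⟨iso⟩ := nonempty_tensorQuot_iso q.asIdeal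
    (Ideal.map (algebraMap A (Localization.AtPrime q.asIdeal)) p.asIdeal) p.asIdeal hcomap
  have h2 := (nontrivial_hom_iso_left iso).1 h1
  have h3 := (nontrivial_hom_iso_right
    (shiftShiftIso (locD ω q.asIdeal) nq (np - nq) np (by ring))).2 h2
  have hPne : Ideal.map (algebraMap A (Localization.AtPrime q.asIdeal)) p.asIdeal ≠
      IsLocalRing.maximalIdeal (Localization.AtPrime q.asIdeal) := by
    intro heq
    rw [heq, hqm] at hcomap
    exact hpq.lt.ne (PrimeSpectrum.ext hcomap.symm)
  have hcov : ∀ P' : Ideal (Localization.AtPrime q.asIdeal), P'.IsPrime →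
      Ideal.map (algebraMap A (Localization.AtPrime q.asIdeal)) p.asIdeal ≤ P' →
      P' = Ideal.map (algebraMap A (Localization.AtPrime q.asIdeal)) p.asIdeal ∨
        P' = IsLocalRing.maximalIdeal (Localization.AtPrime q.asIdeal) := by
    intro P' hP' hle
    have hmc : Ideal.map (algebraMap A (Localization.AtPrime q.asIdeal))
        (P'.comap (algebraMap A (Localization.AtPrime q.asIdeal))) = P' :=
      IsLocalization.map_under q.asIdeal.primeCompl _ P'
    let Q' : PrimeSpectrum A :=
      ⟨P'.comap (algebraMap A (Localization.AtPrime q.asIdeal)), Ideal.comap_isPrime _ _⟩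
    have h4 : p ≤ Q' := by
      show p.asIdeal ≤ P'.comap (algebraMap A (Localization.AtPrime q.asIdeal))
      rw [← hcomap]
      exact Ideal.comap_mono hle
    have h5 : Q' ≤ q := by
      show P'.comap (algebraMap A (Localization.AtPrime q.asIdeal)) ≤ q.asIdeal
      exact (Ideal.comap_mono (IsLocalRing.le_maximalIdeal hP'.ne_top)).trans hqm.le
    rcases eq_or_lt_of_le h4 with h6 | h6
    · left
      have h7 : P'.comap (algebraMap A (Localization.AtPrime q.asIdeal)) = p.asIdeal :=
        (congrArg PrimeSpectrum.asIdeal h6).symm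
      rw [← hmc, h7]
    · right
      have h8 : Q' = q := by
        rcases eq_or_lt_of_le h5 with h9 | h9
        · exact h9
        · exact absurd h9 (hpq.2 h6)
      have h7 : P'.comap (algebraMap A (Localization.AtPrime q.asIdeal)) = q.asIdeal :=
        congrArg PrimeSpectrum.asIdeal h8
      rw [← hmc, h7]
      exact IsLocalization.AtPrime.map_eq_maximalIdeal q.asIdeal _
  have h10 := eq_neg_one_of_nontrivial_hom_quot ((locD ω q.asIdeal)⟦nq⟧)
    (isDualizing_shift _ hq nq) hnq _ hPne hcov (np - nq) h3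
  omega

/-- S11173 (for the functors `- ⊗ A_p`). -/
theorem isDualizing_of_locally_dualizing (hdim : ringKrullDim A < ⊤) (R : Dual.D A)
    (hfin : ∀ i : ℤ, Module.Finite A (Dual.HD A R i))
    (hbdd : ∃ a : ℤ, ∀ i : ℤ, i < a → Subsingleton (Dual.HD A R i))
    (hloc : ∀ p : PrimeSpectrum A, Dual.IsDualizing (Localization.AtPrime p.asIdeal)
      (locD R p.asIdeal)) : Dual.IsDualizing A R := by
  obtain ⟨a, ha⟩ := hbdd
  haveI hge : DerivedCategory.IsGE R a := by
    rw [DerivedCategory.isGE_iff]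
    intro i hi
    haveI := ha i hi
    exact ModuleCat.isZero_of_subsingleton _
  have hex : ∀ p : PrimeSpectrum A, ∃ n : ℤ,
      Dual.IsNormalized (Localization.AtPrime p.asIdeal) ((locD R p.asIdeal)⟦n⟧) := fun p => by
    haveI := isNoetherianRing_atPrime p.asIdeal
    exact exists_isNormalized_shift _ (hloc p)
  choose ν hν using hex
  have F1 : ∀ p q : PrimeSpectrum A, p ⋖ q → ν p = ν q - 1 := by
    intro p q hpq
    haveI := isNoetherianRing_atPrime p.asIdeal
    refine normalizing_shift_covBy' R a p q hpq (ν p) (ν q) ?_ (hloc q) (hν q)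
    exact (mem_support_hom_quot_iff' R p.asIdeal a (ν p)).2
      ((nontrivial_hom_residueField_iff _ (hloc p) (ν p) (hν p) (ν p)).2 rfl)
  have F2 : ∀ n : ℕ, ∀ p : PrimeSpectrum A, Order.height p = (n : ℕ∞) →
      ∃ q : PrimeSpectrum A, q ≤ p ∧ IsMin q ∧ ν p = ν q + n := by
    intro n
    induction n with
    | zero =>
      intro p hp
      exact ⟨p, le_rfl, Order.height_eq_zero.1 (by simpa using hp), by simp⟩
    | succ n ih =>
      intro p hp
      have hp' : Order.height p = (n : ℕ∞) + 1 := by rw [hp, Nat.cast_add, Nat.cast_one]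
      obtain ⟨-, ⟨y, hyp, hy⟩, hall⟩ := Order.height_eq_coe_add_one_iff.1 hp'
      have hcov : y ⋖ p := by
        refine ⟨hyp, fun c hyc hcp => ?_⟩
        have h1 := Order.height_add_one_le hyc
        have h2 := hall c hcp
        rw [hy] at h1
        exact lt_irrefl _ ((ENat.add_one_le_iff (ENat.coe_ne_top n)).1 (h1.trans h2))
      obtain ⟨q, hqy, hqmin, hq⟩ := ih y hy
      have h3 := F1 y p hcov
      exact ⟨q, hqy.trans hyp.le, hqmin, by push_cast; omega⟩
  have hminfin : {q : PrimeSpectrum A | IsMin q}.Finite := by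
    have h1 : ((⊥ : Ideal A).minimalPrimes).Finite :=
      Ideal.finite_minimalPrimes_of_isNoetherianRing A ⊥
    refine (h1.preimage (f := PrimeSpectrum.asIdeal)
      (fun x _ y _ h => PrimeSpectrum.ext h)).subset ?_
    intro q hq
    exact PrimeSpectrum.isMin_iff.1 hq
  obtain ⟨b₀, hb₀⟩ := (hminfin.image ν).bddAbove
  obtain ⟨d, hd⟩ : ∃ d : ℕ, ringKrullDim A ≤ (d : WithBot ℕ∞) := by
    rcases eq_or_ne (ringKrullDim A) ⊥ with h | h
    · exact ⟨0, h ▸ bot_le⟩
    · obtain ⟨d, hd⟩ := exists_nat_eq_of_nonneg_of_lt_top _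
        (Order.krullDim_nonneg_iff.2 (Order.krullDim_ne_bot_iff.1 h)) hdim
      exact ⟨d, hd.le⟩
  have hνle : ∀ p : PrimeSpectrum A, ν p ≤ b₀ + d := by
    intro p
    obtain ⟨n, hn⟩ := ENat.ne_top_iff_exists.1 (Ideal.height_ne_top p.isPrime.ne_top)
    have hn' : Order.height p = (n : ℕ∞) := by
      rw [← PrimeSpectrum.height_eq_orderHeight, ← hn]
    obtain ⟨q, -, hqmin, hq⟩ := F2 n p hn'
    have h1 : ν q ≤ b₀ := hb₀ ⟨q, hqmin, rfl⟩
    have h2 : n ≤ d := by
      have h3 : ((Order.height p : ℕ∞) : WithBot ℕ∞) ≤ (d : WithBot ℕ∞) :=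
        (Order.height_le_krullDim p).trans hd
      rw [hn'] at h3
      exact_mod_cast h3
    omega
  have hup : ∀ (I : Ideal A) (i : ℤ), b₀ + d < i →
      Subsingleton (Dual.inD A (A ⧸ I) ⟶ R⟦i⟧) := by
    intro I i hi
    rw [← Module.support_eq_empty_iff (R := A), Set.eq_empty_iff_forall_notMem]
    intro p hp
    haveI := isNoetherianRing_atPrime p.asIdeal
    have h1 := (mem_support_ext_iff' R p.asIdeal a (A ⧸ I) i).1 hp
    haveI : Nontrivial ((Localization.AtPrime p.asIdeal) ⊗[A] (A ⧸ I)) :=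
      nontrivial_of_nontrivial_hom _ _ h1
    obtain ⟨δ, -, -, hle⟩ := exists_depth_eq_and_top_degree (locD R p.asIdeal) (hloc p) (ν p)
      (hν p) ((Localization.AtPrime p.asIdeal) ⊗[A] (A ⧸ I))
    have h2 := hle i h1
    have h3 := hνle p
    omega
  have hlow : ∀ (M : Type u) [AddCommGroup M] [Module A M] (i : ℤ), i < a →
      Subsingleton (Dual.inD A M ⟶ R⟦i⟧) := by
    intro M _ _ i hi
    haveI : DerivedCategory.IsGE (R⟦i⟧) (a - i) :=
      TStructure.t.isGE_shift R a i (a - i) (by omega)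
    exact subsingleton_of_forall_eq 0 (fun φ =>
      TStructure.t.zero_of_isLE_of_isGE φ 0 (a - i) (by omega) inferInstance inferInstance)
  have hamp : HasInjAmplitudeIn A a (b₀ + d) R :=
    hasInjAmplitudeIn_of_hom_quot_vanishing R a (b₀ + d) (fun I i hi => by
      rcases hi with hi | hi
      · exact hlow (A ⧸ I) i hi
      · exact hup I i hi)
  refine isDualizing_of_forall_maximal_bcD R hfin ⟨a, b₀ + d, fun M _ _ i hi =>
    hom_subsingleton_of_hasInjAmplitudeIn R a (b₀ + d) hamp (ModuleCat.of A M) i hi⟩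
    (fun m hm => ?_)
  exact hloc ⟨m, hm.isPrime⟩

end Main

end Groth.Agent.Lib.DMod_helper6
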