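import Mathlib
import Groth.Prelude.Def_DRing2
import Groth.Prelude.Def_DDual2
import Groth.Agent.Lib.DMod28_helper6
import Groth.Agent.Lib.DMod59_helper6
import Groth.Agent.Lib.DMod66_helper6
import Groth.Agent.Lib.DMod74_helper6
import Groth.Agent.Lib.DMod12_helper6
import Groth.Agent.Lib.DMod5_helper6

/-!
# Derived category toolkit (helper6), part 82: the right adjoint of restriction of scalars along a
finite map preserves `D^+_coh` (S1774).
-/

set_option autoImplicit false
universe u
open CategoryTheory CategoryTheory.Limits DerivedCategory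
attribute [local instance] HasDerivedCategory.standard

namespace Groth.Agent.Lib.DMod_helper6

open DRing Groth.Agent.Lib.DerivedTrunc_helper2

section FiniteHD

variable {B : Type u} [CommRing B]

instance isKProjective_single_self (i : ℤ) :
    CochainComplex.IsKProjective
      ((HomologicalComplex.single (ModuleCat.{u} B) (ComplexShape.up ℤ) i).obj
        (ModuleCat.of B B)) :=
  isKProjective_of_projective_bounded _ i
    (fun j hj => HomologicalComplex.isZero_single_obj_X _ i _ j (by omega)) (fun j => by
      by_cases hj : j = i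
      · subst hj
        exact projective_of_iso
          (HomologicalComplex.singleObjXSelf (ComplexShape.up ℤ) j (ModuleCat.of B B)).symm
          (show Module.Projective B (ModuleCat.of B B) from
            (inferInstance : Module.Projective B B))
      · obtain ⟨_, hf⟩ := finite_free_of_isZero
          (HomologicalComplex.isZero_single_obj_X (ComplexShape.up ℤ) i (ModuleCat.of B B) j hj)
        infer_instance)

/-- the chain map `B[-i] → C` attached to a morphism `B → Z^i(C)` -/
noncomputable def cycHom (C : Cx B) (i : ℤ) (u : ModuleCat.of B B ⟶ C.cycles i) :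
    (HomologicalComplex.single (ModuleCat.{u} B) (ComplexShape.up ℤ) i).obj (ModuleCat.of B B) ⟶
      C :=
  HomologicalComplex.mkHomFromSingle (u ≫ C.iCycles i)
    (fun k _ => by rw [Category.assoc, HomologicalComplex.iCycles_d, comp_zero])

lemma cycHom_f (C : Cx B) (i : ℤ) (u : ModuleCat.of B B ⟶ C.cycles i) :
    (cycHom C i u).f i =
      (HomologicalComplex.singleObjXSelf (ComplexShape.up ℤ) i (ModuleCat.of B B)).hom ≫
        u ≫ C.iCycles i :=
  HomologicalComplex.mkHomFromSingle_f _ _

/-- the linear map `Hom(B, Z^i(C)) → Hom_{D(B)}(B[-i], X)` for `X ≅ C` -/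
noncomputable def cycLin {C : Cx B} {X : Dual.D B} (e : toD C ≅ X) (i : ℤ) :
    (ModuleCat.of B B ⟶ C.cycles i) →ₗ[B]
      (toD ((HomologicalComplex.single (ModuleCat.{u} B) (ComplexShape.up ℤ) i).obj
        (ModuleCat.of B B)) ⟶ X) where
  toFun u := Q.map (cycHom C i u) ≫ e.hom
  map_add' u u' := by
    have h : cycHom C i (u + u') = cycHom C i u + cycHom C i u' := by
      apply HomologicalComplex.from_single_hom_ext
      rw [HomologicalComplex.add_f_apply, cycHom_f, cycHom_f, cycHom_f, Preadditive.add_comp,
        Preadditive.comp_add]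
    rw [h, Functor.map_add, Preadditive.add_comp]
  map_smul' b u := by
    have h : cycHom C i (b • u) = b • cycHom C i u := by
      apply HomologicalComplex.from_single_hom_ext
      rw [HomologicalComplex.smul_f_apply, cycHom_f, cycHom_f, Linear.smul_comp,
        Linear.comp_smul]
    rw [h, Functor.map_smul, Linear.smul_comp, RingHom.id_apply]

lemma cycLin_surjective {C : Cx B} {X : Dual.D B} (e : toD C ≅ X) (i : ℤ) :
    Function.Surjective (cycLin e i) := by
  intro f
  let M : ModuleCat.{u} B := ModuleCat.of B B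
  let P : Cx B := (HomologicalComplex.single (ModuleCat.{u} B) (ComplexShape.up ℤ) i).obj M
  obtain ⟨g, hg⟩ := exists_Q_map_eq_of_isKProjective (E := P) (F := C) (f ≫ e.inv)
  have hd : P.d i (i + 1) = 0 := HomologicalComplex.single_obj_d _ _ _ _ _
  have hk : ((HomologicalComplex.singleObjXSelf (ComplexShape.up ℤ) i M).inv ≫ g.f i) ≫
      C.d i (i + 1) = 0 := by
    rw [Category.assoc, g.comm, hd, zero_comp, comp_zero]
  let u : M ⟶ C.cycles i := C.liftCycles _ (i + 1) (by simp) hk
  refine ⟨u, ?_⟩
  have hu : cycHom C i u = g := by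
    apply HomologicalComplex.from_single_hom_ext
    rw [cycHom_f, HomologicalComplex.liftCycles_i, Iso.hom_inv_id_assoc]
  show Q.map (cycHom C i u) ≫ e.hom = f
  rw [hu, hg, Category.assoc, Iso.inv_hom_id, Category.comp_id]

lemma cycLin_ker_le {C : Cx B} {X : Dual.D B} (e : toD C ≅ X) (i : ℤ)
    (u : ModuleCat.of B B ⟶ C.cycles i) (h : cycLin e i u = 0) : u ≫ C.homologyπ i = 0 := by
  have hQ : Q.map (cycHom C i u) = 0 := by
    have h' : Q.map (cycHom C i u) ≫ e.hom = 0 := h
    rw [← cancel_mono e.hom, h', zero_comp]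
  obtain ⟨H⟩ := homotopy_zero_of_Q_map_eq_zero _ hQ
  obtain ⟨s, hs⟩ := exists_lift_of_homotopy C (i - 1) i (by omega) (ModuleCat.of B B)
    (u ≫ C.iCycles i)
    (fun k _ => by rw [Category.assoc, HomologicalComplex.iCycles_d, comp_zero]) H
  have hu : u = s ≫ C.toCycles (i - 1) i := by
    rw [← cancel_mono (C.iCycles i), Category.assoc, HomologicalComplex.toCycles_i, hs]
  rw [hu, Category.assoc, HomologicalComplex.toCycles_comp_homologyπ, comp_zero]

/-- `H^i(X)` is a finite module as soon as `Hom(B[-i], X)` is. -/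
theorem finite_HD_of_finite_hom (X : Dual.D B) (i : ℤ)
    (h : Module.Finite B
      (toD ((HomologicalComplex.single (ModuleCat.{u} B) (ComplexShape.up ℤ) i).obj
        (ModuleCat.of B B)) ⟶ X)) :
    Module.Finite B (Dual.HD B X i) := by
  let C : Cx B := Q.objPreimage X
  let e : toD C ≅ X := Q.objObjPreimageIso X
  let M : ModuleCat.{u} B := ModuleCat.of B B
  haveI : Projective M := (IsProjective.iff_projective (R := B) B).1 (inferInstance : Module.Projective B B)
  let πL : (M ⟶ C.cycles i) →ₗ[B] (M ⟶ C.homology i) := Linear.rightComp B M (C.homologyπ i)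
  have hπL : Function.Surjective πL := fun v =>
    ⟨Projective.factorThru v (C.homologyπ i), by
      show Projective.factorThru v (C.homologyπ i) ≫ C.homologyπ i = v
      exact Projective.factorThru_comp _ _⟩
  have hker : LinearMap.ker (cycLin e i) ≤ LinearMap.ker πL := fun u hu => by
    rw [LinearMap.mem_ker] at hu ⊢
    exact cycLin_ker_le e i u hu
  haveI := h
  haveI h1 : Module.Finite B ((M ⟶ C.cycles i) ⧸ LinearMap.ker (cycLin e i)) :=
    Module.Finite.equiv ((cycLin e i).quotKerEquivOfSurjective (cycLin_surjective e i)).symm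
  have h2 : Module.Finite B (M ⟶ C.homology i) := by
    refine Module.Finite.of_surjective ((LinearMap.ker (cycLin e i)).liftQ πL hker) ?_
    intro v
    obtain ⟨u, rfl⟩ := hπL v
    exact ⟨Submodule.Quotient.mk u, rfl⟩
  let ev : (M ⟶ C.homology i) →ₗ[B] C.homology i :=
    { toFun := fun v => v.hom (1 : B)
      map_add' := fun v v' => by simp
      map_smul' := fun b v => by simp }
  have hev : Function.Surjective ev := fun x =>
    ⟨ModuleCat.ofHom (LinearMap.toSpanSingleton B _ x), by
      show (LinearMap.toSpanSingleton B _ x) 1 = x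
      rw [LinearMap.toSpanSingleton_apply, one_smul]⟩
  haveI := h2
  have h3 : Module.Finite B (C.homology i) := Module.Finite.of_surjective ev hev
  exact finite_of_iso (((homologyFunctorFactors (ModuleCat.{u} B) i).app C).symm ≪≫
      (DerivedCategory.homologyFunctor _ i).mapIso e) h3

end FiniteHD

section FiniteHom

variable {A : Type u} [CommRing A] [IsNoetherianRing A]

/-- `Hom(Y, K)` is finite for `Y` pseudo-coherent and `K` bounded below with finite cohomology. -/
theorem hom_finite_of_pc_of_boundedBelow (Y : Dual.D A) (hY : IsPseudoCoherent' A Y) (c : ℤ)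
    [DerivedCategory.IsLE Y c] (K : Dual.D A) (a : ℤ)
    (hKa : ∀ i : ℤ, i < a → Subsingleton (Dual.HD A K i))
    (hK : ∀ i : ℤ, Module.Finite A (Dual.HD A K i)) : Module.Finite A (Y ⟶ K) := by
  obtain ⟨n, hcn, han⟩ : ∃ n : ℤ, c ≤ n ∧ a ≤ n := ⟨max c a, le_max_left _ _, le_max_right _ _⟩
  let T := ((tt (ModuleCat.{u} A)).truncLE n).obj K
  have hT := (tt (ModuleCat.{u} A)).triangleLEGT_distinguished n K
  have hiso : ∀ j : ℤ, j ≤ n → IsIso ((DerivedCategory.homologyFunctor _ j).map
      (((tt (ModuleCat.{u} A)).truncLEι n).app K)) :=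
    fun j hj => isIso_homology_map_truncLEι K n j hj
  have htn : (((n - a).toNat : ℕ) : ℤ) = n - a := Int.toNat_of_nonneg (by omega)
  have hb : ∀ j : ℤ, j < a ∨ a + (((n - a).toNat : ℕ) : ℤ) < j →
      IsZero ((DerivedCategory.homologyFunctor (ModuleCat.{u} A) j).obj T) := by
    intro j hj
    rcases hj with hj | hj
    · haveI := hiso j (by omega)
      haveI := hKa j hj
      exact IsZero.of_iso (show IsZero ((DerivedCategory.homologyFunctor (ModuleCat.{u} A) j).obj K)
          from ModuleCat.isZero_of_subsingleton _)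
        (asIso ((DerivedCategory.homologyFunctor _ j).map
          (((tt (ModuleCat.{u} A)).truncLEι n).app K)))
    · exact isZero_homology_truncLE K n j (by omega)
  have hL : ∀ j : ℤ, Module.Finite A (Dual.HD A T j) := by
    intro j
    by_cases hj : j ≤ n
    · haveI := hiso j hj
      exact finite_of_iso (asIso ((DerivedCategory.homologyFunctor _ j).map
          (((tt _).truncLEι n).app K))).symm (hK j)
    · haveI : Subsingleton ((DerivedCategory.homologyFunctor (ModuleCat.{u} A) j).obj T) :=
          ModuleCat.subsingleton_of_isZero (isZero_homology_truncLE K n j (by omega))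
      exact Module.Finite.of_finite
  haveI : IsNoetherian A (Y ⟶ T⟦(0 : ℤ)⟧) :=
    noethHom_of_pseudoCoherent Y hY T a (n - a).toNat hb hL 0
  haveI : Module.Finite A (Y ⟶ T⟦(0 : ℤ)⟧) := Module.IsNoetherian.finite A _
  let m : T⟦(0 : ℤ)⟧ ⟶ K :=
    (shiftFunctorZero (Dual.D A) ℤ).hom.app T ≫ ((tt (ModuleCat.{u} A)).truncLEι n).app K
  refine Module.Finite.of_surjective (Linear.rightComp A Y m) ?_
  intro f
  have hz : f ≫ ((tt (ModuleCat.{u} A)).truncGTπ n).app K = 0 := by
    haveI : (tt (ModuleCat.{u} A)).IsGE (((tt (ModuleCat.{u} A)).truncGT n).obj K) (n + 1) :=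
      inferInstance
    exact (tt (ModuleCat.{u} A)).zero _ c (n + 1) (by omega)
  obtain ⟨g, hg⟩ := Pretriangulated.Triangle.coyoneda_exact₂ _ hT f hz
  let g' : Y ⟶ T := g
  have hg' : f = g' ≫ ((tt (ModuleCat.{u} A)).truncLEι n).app K := hg
  refine ⟨g' ≫ (shiftFunctorZero (Dual.D A) ℤ).inv.app T, ?_⟩
  show (g' ≫ (shiftFunctorZero (Dual.D A) ℤ).inv.app T) ≫ m = f
  have hm : (shiftFunctorZero (Dual.D A) ℤ).inv.app T ≫ m =
      ((tt (ModuleCat.{u} A)).truncLEι n).app K := by
    show (shiftFunctorZero (Dual.D A) ℤ).inv.app T ≫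
      (shiftFunctorZero (Dual.D A) ℤ).hom.app T ≫ ((tt (ModuleCat.{u} A)).truncLEι n).app K = _
    rw [← Category.assoc, Iso.inv_hom_id_app]
    exact Category.id_comp _
  rw [Category.assoc, hm, hg']

end FiniteHom

section Restrict

variable {A B : Type u} [CommRing A] [CommRing B] (φ : A →+* B)

lemma restrictScalars_map_smul_id (a : A) (N : ModuleCat.{u} B) :
    (ModuleCat.restrictScalars φ).map (φ a • 𝟙 N) =
      a • 𝟙 ((ModuleCat.restrictScalars φ).obj N) := by
  apply ModuleCat.hom_ext
  apply LinearMap.ext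
  intro x
  rfl

/-- semilinearity of restriction of scalars on derived categories -/
lemma restrictD_map_smul {K L : Dual.D B} (a : A) (f : K ⟶ L) :
    (restrictD φ).map (φ a • f) = a • (restrictD φ).map f := by
  have key : ∀ X : Cx B, (restrictD φ).map (φ a • 𝟙 (toD X)) =
      a • 𝟙 ((restrictD φ).obj (toD X)) := by
    intro X
    have h1 : φ a • 𝟙 (toD X) = Q.map (φ a • 𝟙 X) := by
      rw [Functor.map_smul, CategoryTheory.Functor.map_id]
    have h2 : ((ModuleCat.restrictScalars φ).mapHomologicalComplex (ComplexShape.up ℤ)).map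
        (φ a • 𝟙 X) =
        a • 𝟙 (((ModuleCat.restrictScalars φ).mapHomologicalComplex (ComplexShape.up ℤ)).obj X) := by
      apply HomologicalComplex.hom_ext
      intro i
      show (ModuleCat.restrictScalars φ).map ((φ a • 𝟙 X : X ⟶ X).f i) = _
      rw [HomologicalComplex.smul_f_apply, HomologicalComplex.id_f, restrictScalars_map_smul_id]
      rfl
    have h3 := (ModuleCat.restrictScalars φ).mapDerivedCategoryFactors_hom_naturality (φ a • 𝟙 X)
    rw [h1, ← cancel_mono ((ModuleCat.restrictScalars φ).mapDerivedCategoryFactors.hom.app X), h3]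
    show _ ≫ Q.map (((ModuleCat.restrictScalars φ).mapHomologicalComplex
      (ComplexShape.up ℤ)).map (φ a • 𝟙 X)) = _
    rw [h2, Functor.map_smul, CategoryTheory.Functor.map_id, Linear.comp_smul, Linear.smul_comp,
      Category.comp_id, Category.id_comp]
  have hK : (restrictD φ).map (φ a • 𝟙 K) = a • 𝟙 ((restrictD φ).obj K) := by
    let e : Q.obj (Q.objPreimage K) ≅ K := Q.objObjPreimageIso K
    have h1 : φ a • 𝟙 K = e.inv ≫ (φ a • 𝟙 (Q.obj (Q.objPreimage K))) ≫ e.hom := by
      rw [Linear.smul_comp, Linear.comp_smul, Category.id_comp, Iso.inv_hom_id]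
    rw [h1, Functor.map_comp, Functor.map_comp, key, Linear.smul_comp, Linear.comp_smul,
      Category.id_comp, ← Functor.map_comp, Iso.inv_hom_id, CategoryTheory.Functor.map_id]
  have h0 : φ a • f = (φ a • 𝟙 K) ≫ f := by rw [Linear.smul_comp, Category.id_comp]
  rw [h0, Functor.map_comp, hK, Linear.smul_comp, Category.id_comp]

variable {φ}

/-- semilinearity of the adjunction bijection -/
lemma homEquiv_smul (R : Dual.D A ⥤ Dual.D B) (adj : restrictD φ ⊣ R) (Y : Dual.D B)
    (K : Dual.D A) (a : A) (g : (restrictD φ).obj Y ⟶ K) :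
    adj.homEquiv Y K (a • g) = φ a • adj.homEquiv Y K g := by
  have h : a • g = (restrictD φ).map (φ a • 𝟙 Y) ≫ g := by
    rw [restrictD_map_smul, CategoryTheory.Functor.map_id, Linear.smul_comp, Category.id_comp]
  rw [h, Adjunction.homEquiv_naturality_left, Linear.smul_comp, Category.id_comp]

lemma homEquiv_add (R : Dual.D A ⥤ Dual.D B) (adj : restrictD φ ⊣ R) (Y : Dual.D B)
    (K : Dual.D A) (g g' : (restrictD φ).obj Y ⟶ K) :
    adj.homEquiv Y K (g + g') = adj.homEquiv Y K g + adj.homEquiv Y K g' := by
  haveI : R.Additive := adj.right_adjoint_additive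
  rw [Adjunction.homEquiv_unit, Adjunction.homEquiv_unit, Adjunction.homEquiv_unit,
    Functor.map_add, Preadditive.comp_add]

lemma homEquiv_zero (R : Dual.D A ⥤ Dual.D B) (adj : restrictD φ ⊣ R) (Y : Dual.D B)
    (K : Dual.D A) : adj.homEquiv Y K 0 = 0 := by
  haveI : R.Additive := adj.right_adjoint_additive
  rw [Adjunction.homEquiv_unit, Functor.map_zero, comp_zero]

/-- finiteness transfers across the adjunction -/
theorem finite_hom_of_adj (R : Dual.D A ⥤ Dual.D B) (adj : restrictD φ ⊣ R) (Y : Dual.D B)
    (K : Dual.D A) (h : Module.Finite A ((restrictD φ).obj Y ⟶ K)) :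
    Module.Finite B (Y ⟶ R.obj K) := by
  classical
  obtain ⟨S, hS⟩ := h.fg_top
  refine ⟨⟨S.image (adj.homEquiv Y K), ?_⟩⟩
  rw [eq_top_iff]
  intro f _
  have key : ∀ g : (restrictD φ).obj Y ⟶ K, g ∈ Submodule.span A (S : Set _) →
      adj.homEquiv Y K g ∈ Submodule.span B
        ((S.image (adj.homEquiv Y K) : Finset _) : Set (Y ⟶ R.obj K)) := by
    intro g hg
    induction hg using Submodule.span_induction with
    | mem g hg =>
      exact Submodule.subset_span (Finset.mem_coe.2 (Finset.mem_image_of_mem _ hg))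
    | zero => rw [homEquiv_zero]; exact Submodule.zero_mem _
    | add g g' _ _ hg hg' => rw [homEquiv_add]; exact Submodule.add_mem _ hg hg'
    | smul a g _ hg => rw [homEquiv_smul]; exact Submodule.smul_mem _ (φ a) hg
  have := key ((adj.homEquiv Y K).symm f) (by rw [hS]; trivial)
  rwa [Equiv.apply_symm_apply] at this

end Restrict

section Main

variable {A B : Type u} [CommRing A] [CommRing B] [Algebra A B]

lemma resPC_self [IsNoetherianRing A] [Module.Finite A B] :
    resPC (algebraMap A B) (Dual.inD B B) := by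
  have h : ∀ (N : ModuleCat.{u} A) (_ : B ≃ₗ[A] N),
      IsPseudoCoherent' A ((DerivedCategory.singleFunctor (ModuleCat.{u} A) 0).obj N) := by
    intro N e
    haveI : Module.Finite A N := Module.Finite.equiv e
    exact isPseudoCoherentModule'_of_finite N
  let e : B ≃ₗ[A] ((ModuleCat.restrictScalars (algebraMap A B)).obj (ModuleCat.of B B)) :=
    AddEquiv.toLinearEquiv
      (show B ≃+ ((ModuleCat.restrictScalars (algebraMap A B)).obj (ModuleCat.of B B)) from
        AddEquiv.refl B) (fun a x => by
      change a • x = algebraMap A B a • x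
      rw [Algebra.smul_def, smul_eq_mul])
  exact isPseudoCoherent'_of_iso (restrictDInDIso (algebraMap A B) (ModuleCat.of B B)).symm
    (h _ e)

/-- S1774. -/
theorem finite_HD_rightAdjoint_restrictD [IsNoetherianRing A] [Module.Finite A B]
    (R : Dual.D A ⥤ Dual.D B) (adj : restrictD (algebraMap A B) ⊣ R) (K : Dual.D A) (a : ℤ)
    (hKa : ∀ i : ℤ, i < a → Subsingleton (Dual.HD A K i))
    (hK : ∀ i : ℤ, Module.Finite A (Dual.HD A K i)) (i : ℤ) :
    Module.Finite B (Dual.HD B (R.obj K) i) := by
  let M : ModuleCat.{u} B := ModuleCat.of B B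
  let P : Cx B := (HomologicalComplex.single (ModuleCat.{u} B) (ComplexShape.up ℤ) i).obj M
  apply finite_HD_of_finite_hom (R.obj K) i
  apply finite_hom_of_adj R adj
  have hPpc : IsPseudoCoherent' B (toD P) := by
    refine ⟨P, i, fun j hj => HomologicalComplex.isZero_single_obj_X _ i _ j (by omega),
      fun j => ?_, ⟨Iso.refl _⟩⟩
    by_cases hj : j = i
    · subst hj
      exact ⟨finite_of_iso (HomologicalComplex.singleObjXSelf (ComplexShape.up ℤ) j M).symm
          (show Module.Finite B M from (inferInstance : Module.Finite B B)),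
        free_of_iso (HomologicalComplex.singleObjXSelf (ComplexShape.up ℤ) j M).symm
          (show Module.Free B M from (inferInstance : Module.Free B B))⟩
    · exact finite_free_of_isZero
        (HomologicalComplex.isZero_single_obj_X (ComplexShape.up ℤ) i M j hj)
  have hB : resPC (algebraMap A B) (Dual.inD B B) := resPC_self
  have hY : IsPseudoCoherent' A ((restrictD (algebraMap A B)).obj (toD P)) :=
    (isPseudoCoherent'_restrictD_iff (algebraMap A B) hB _).1 hPpc
  haveI : P.IsStrictlyLE i := (CochainComplex.isStrictlyLE_iff _ i).2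
    (fun j hj => HomologicalComplex.isZero_single_obj_X _ i _ j (by omega))
  haveI : DerivedCategory.IsLE (toD P) i := inferInstance
  haveI := isLE_restrictD (algebraMap A B) (toD P) i
  exact hom_finite_of_pc_of_boundedBelow _ hY i K a hKa hK

end Main

end Groth.Agent.Lib.DMod_helper6
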