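import Mathlib
import Groth.Prelude.Def_DRing2
import Groth.Prelude.Def_DDual2
import Groth.Prelude.Def_Wider
import Groth.Prelude.Def_DualSh
import Groth.Agent.Lib.DMod82_helper6
import Groth.Agent.Lib.DMod102_helper6

/-!
# Derived category toolkit (helper6), part 103: cohomology of flat base change; the algebraic
upper shriek `φ^!(K)` is bounded below with finite cohomology (S1783).
-/

set_option autoImplicit false
universe u
open CategoryTheory CategoryTheory.Limits DerivedCategory Pretriangulated ZeroObject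
open scoped Pointwise TensorProduct
attribute [local instance] HasDerivedCategory.standard

namespace Groth.Agent.Lib.DMod_helper6

open DRing Groth.Agent.ExtendScalarsLib Groth.Agent.Lib.DerivedTrunc_helper2

section FlatBC

variable {A B : Type u} [CommRing A] [CommRing B] [Algebra A B] [Module.Flat A B]

/-- `H^i(K ⊗ B) ≃ B ⊗ H^i(K)` for a flat algebra `B`. -/
lemma nonempty_HD_bcD_linearEquiv (K : Dual.D A) (i : ℤ) :
    Nonempty (Dual.HD B ((bcD A B).obj K) i ≃ₗ[B] B ⊗[A] Dual.HD A K i) := by
  let C : Cx A := Q.objPreimage K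
  let eC : toD C ≅ K := Q.objObjPreimageIso K
  let C' : Cx B := ((ES A B).mapHomologicalComplex (ComplexShape.up ℤ)).obj C
  let e1 : (homologyFunctor (ModuleCat.{u} B) i).obj ((bcD A B).obj K) ≅ C'.homology i :=
    (homologyFunctor (ModuleCat.{u} B) i).mapIso ((bcD A B).mapIso eC.symm ≪≫ bcDIso C) ≪≫
      (homologyFunctorFactors (ModuleCat.{u} B) i).app C'
  let e2 : C'.homology i ≅ (ES A B).obj (C.homology i) :=
    (C.sc i).mapHomologyIso (ES A B)
  let e3 : C.homology i ≅ (homologyFunctor (ModuleCat.{u} A) i).obj K :=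
    ((homologyFunctorFactors (ModuleCat.{u} A) i).app C).symm ≪≫
      (homologyFunctor (ModuleCat.{u} A) i).mapIso eC
  let e4 := (e1 ≪≫ e2 ≪≫ (ES A B).mapIso e3).toLinearEquiv
  let e5 := extendScalarsEquivTensor (S := B) ((homologyFunctor (ModuleCat.{u} A) i).obj K)
  exact ⟨e4.trans e5⟩

end FlatBC

section Vanish

variable {B : Type u} [CommRing B]

/-- `H^i(X) = 0` as soon as `Hom(B[-i], X) = 0`. -/
theorem subsingleton_HD_of_subsingleton_hom (X : Dual.D B) (i : ℤ)
    (h : Subsingleton
      (toD ((HomologicalComplex.single (ModuleCat.{u} B) (ComplexShape.up ℤ) i).obj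
        (ModuleCat.of B B)) ⟶ X)) :
    Subsingleton (Dual.HD B X i) := by
  let C : Cx B := Q.objPreimage X
  let e : toD C ≅ X := Q.objObjPreimageIso X
  let M : ModuleCat.{u} B := ModuleCat.of B B
  haveI : Projective M :=
    (IsProjective.iff_projective (R := B) B).1 (inferInstance : Module.Projective B B)
  have h3 : Subsingleton (C.homology i) := by
    refine subsingleton_of_forall_eq 0 (fun x => ?_)
    let v : M ⟶ C.homology i := ModuleCat.ofHom (LinearMap.toSpanSingleton B _ x)
    let u : M ⟶ C.cycles i := Projective.factorThru v (C.homologyπ i)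
    have hu : u ≫ C.homologyπ i = v := Projective.factorThru_comp _ _
    have h0 : cycLin e i u = 0 := Subsingleton.elim _ _
    have h1 := cycLin_ker_le e i u h0
    rw [hu] at h1
    have h2 : v.hom (1 : B) = x := by
      show (LinearMap.toSpanSingleton B _ x) 1 = x
      rw [LinearMap.toSpanSingleton_apply, one_smul]
    rw [← h2, h1]
    rfl
  have hz : IsZero (C.homology i) := @ModuleCat.isZero_of_subsingleton _ _ _ h3
  exact ModuleCat.subsingleton_of_isZero (IsZero.of_iso hz
    (((homologyFunctorFactors (ModuleCat.{u} B) i).app C).symm ≪≫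
      (DerivedCategory.homologyFunctor _ i).mapIso e).symm)

variable {A : Type u} [CommRing A] {φ : A →+* B}

/-- a right adjoint of restriction of scalars preserves lower bounds on cohomology. -/
theorem subsingleton_HD_rightAdjoint_restrictD (R : Dual.D A ⥤ Dual.D B)
    (adj : restrictD φ ⊣ R) (K : Dual.D A) (a : ℤ)
    (hKa : ∀ i : ℤ, i < a → Subsingleton (Dual.HD A K i)) (i : ℤ) (hi : i < a) :
    Subsingleton (Dual.HD B (R.obj K) i) := by
  let M : ModuleCat.{u} B := ModuleCat.of B B
  let P : Cx B := (HomologicalComplex.single (ModuleCat.{u} B) (ComplexShape.up ℤ) i).obj M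
  apply subsingleton_HD_of_subsingleton_hom (R.obj K) i
  haveI : P.IsStrictlyLE i := (CochainComplex.isStrictlyLE_iff _ i).2
    (fun j hj => HomologicalComplex.isZero_single_obj_X _ i _ j (by omega))
  haveI : DerivedCategory.IsLE (toD P) i := inferInstance
  haveI := isLE_restrictD φ (toD P) i
  haveI : DerivedCategory.IsGE K a := by
    rw [DerivedCategory.isGE_iff]
    intro j hj
    haveI := hKa j hj
    exact ModuleCat.isZero_of_subsingleton _
  haveI : Subsingleton ((restrictD φ).obj (toD P) ⟶ K) :=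
    subsingleton_of_forall_eq 0 (fun f =>
      TStructure.t.zero_of_isLE_of_isGE f i a hi inferInstance inferInstance)
  exact (adj.homEquiv (toD P) K).symm.subsingleton

end Vanish

section Shriek

/-- S1783. -/
theorem shriekVia_bounded_below_and_coherent (R A : Type u) [CommRing R] [CommRing A]
    [IsNoetherianRing R] [IsNoetherianRing A] [Algebra R A] (n : ℕ)
    (ψ : MvPolynomial (Fin n) R →ₐ[R] A) (hψ : Function.Surjective ψ)
    [DRing.HasLBaseChange (algebraMap R (MvPolynomial (Fin n) R))]
    (Rψ : Dual.D (MvPolynomial (Fin n) R) ⥤ Dual.D A)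
    (adj : DRing.restrictD ψ.toRingHom ⊣ Rψ) (K : Dual.D R) (a : ℤ)
    (hKa : ∀ i : ℤ, i < a → Subsingleton (Dual.HD R K i)) :
    (∃ b : ℤ, ∀ i : ℤ, i < b → Subsingleton (Dual.HD A (Dual2.shriekVia n Rψ K) i)) ∧
      ((∀ i : ℤ, Module.Finite R (Dual.HD R K i)) →
        ∀ i : ℤ, Module.Finite A (Dual.HD A (Dual2.shriekVia n Rψ K) i)) := by
  letI : Algebra (MvPolynomial (Fin n) R) A := ψ.toRingHom.toAlgebra
  haveI : Module.Finite (MvPolynomial (Fin n) R) A :=
    Module.Finite.of_surjective (Algebra.linearMap (MvPolynomial (Fin n) R) A) hψ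
  obtain ⟨e⟩ := nonempty_lBaseChange_iso_bcD (A := R) (B := MvPolynomial (Fin n) R)
  have hL : ∀ i : ℤ, Nonempty (Dual.HD (MvPolynomial (Fin n) R)
      ((DRing.LBaseChange (algebraMap R (MvPolynomial (Fin n) R))).obj K) i
        ≃ₗ[MvPolynomial (Fin n) R] (MvPolynomial (Fin n) R) ⊗[R] Dual.HD R K i) := fun i => by
    obtain ⟨e1⟩ := nonempty_HD_bcD_linearEquiv (B := MvPolynomial (Fin n) R) K i
    exact ⟨((homologyFunctor (ModuleCat.{u} (MvPolynomial (Fin n) R)) i).mapIso
      (e.app K)).toLinearEquiv.trans e1⟩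
  have hLa : ∀ i : ℤ, i < a → Subsingleton (Dual.HD (MvPolynomial (Fin n) R)
      ((DRing.LBaseChange (algebraMap R (MvPolynomial (Fin n) R))).obj K) i) := fun i hi => by
    obtain ⟨e1⟩ := hL i
    haveI := hKa i hi
    exact e1.toEquiv.subsingleton
  have hshift : ∀ i : ℤ, Dual.HD A (Dual2.shriekVia n Rψ K) i ≃ₗ[A]
      Dual.HD A (Rψ.obj ((DRing.LBaseChange (algebraMap R (MvPolynomial (Fin n) R))).obj K))
        ((n : ℤ) + i) := fun i =>
    (((homologyFunctor (ModuleCat.{u} A) 0).shiftIso (n : ℤ) i ((n : ℤ) + i) rfl).app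
      (Rψ.obj ((DRing.LBaseChange (algebraMap R (MvPolynomial (Fin n) R))).obj K))).toLinearEquiv
  refine ⟨⟨a - n, fun i hi => ?_⟩, fun hfin i => ?_⟩
  · haveI := subsingleton_HD_rightAdjoint_restrictD Rψ adj _ a hLa ((n : ℤ) + i) (by omega)
    exact (hshift i).toEquiv.subsingleton
  · have hLfin : ∀ j : ℤ, Module.Finite (MvPolynomial (Fin n) R)
        (Dual.HD (MvPolynomial (Fin n) R)
          ((DRing.LBaseChange (algebraMap R (MvPolynomial (Fin n) R))).obj K) j) := fun j => by
      obtain ⟨e1⟩ := hL j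
      haveI := hfin j
      exact Module.Finite.equiv e1.symm
    haveI := finite_HD_rightAdjoint_restrictD (A := MvPolynomial (Fin n) R) (B := A) Rψ adj _ a
      hLa hLfin ((n : ℤ) + i)
    exact Module.Finite.equiv (hshift i).symm

end Shriek

end Groth.Agent.Lib.DMod_helper6
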