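import Mathlib
import Groth.Prelude.Def_DRing2
import Groth.Prelude.Def_DDual2
import Groth.Prelude.Def_Wider
import Groth.Prelude.Def_CAlg
import Groth.Agent.Lib.DMod103_helper6

/-!
# Derived category toolkit (helper6), part 104: Serre's condition `(S_k)` through the
codimensions of `Supp Ext^i(M, ω) ∩ Supp Ext^j(M, ω)` (S18716).
-/

set_option autoImplicit false
universe u
open CategoryTheory CategoryTheory.Limits DerivedCategory Pretriangulated ZeroObject
open scoped Pointwise TensorProduct
attribute [local instance] HasDerivedCategory.standard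

namespace Groth.Agent.Lib.DMod_helper6

open DRing Groth.Agent.ExtendScalarsLib

section Global

variable {A : Type u} [CommRing A] [IsNoetherianRing A] (ω : Dual.D A)
  (M : Type u) [AddCommGroup M] [Module A M] [Module.Finite A M]

/-- depth and dimension of `M_p` through the top and bottom degrees `i` with
`p ∈ Supp Ext^i(M, ω)`, over a ring with a dualizing complex. -/
theorem global_depth_dim_degrees (hω : Dual.IsDualizing A ω) (p : PrimeSpectrum A)
    [Nontrivial (LocalizedModule p.asIdeal.primeCompl M)] :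
    ∃ (ν : ℤ) (δp dp : ℕ),
      LocCoh.depth (Localization.AtPrime p.asIdeal)
        (LocalizedModule p.asIdeal.primeCompl M) = δp ∧
      Module.supportDim (Localization.AtPrime p.asIdeal)
        (LocalizedModule p.asIdeal.primeCompl M) = (dp : WithBot ℕ∞) ∧
      p ∈ Module.support A (Dual.inD A M ⟶ ω⟦ν - (δp : ℤ)⟧) ∧
      p ∈ Module.support A (Dual.inD A M ⟶ ω⟦ν - (dp : ℤ)⟧) ∧
      ∀ i : ℤ, p ∈ Module.support A (Dual.inD A M ⟶ ω⟦i⟧) → ν - dp ≤ i ∧ i ≤ ν - δp := by
  haveI := isNoetherianRing_atPrime p.asIdeal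
  obtain ⟨ν, hν⟩ := exists_isNormalized_locD_shift ω p.asIdeal hω
  have hKp := isDualizing_locD ω p.asIdeal hω
  obtain ⟨δp, hδ, hδnt, hδle⟩ := exists_depth_eq_and_top_degree (locD ω p.asIdeal) hKp ν hν
    (LocalizedModule p.asIdeal.primeCompl M)
  obtain ⟨dp, hd⟩ := exists_nat_supportDim_eq (B := Localization.AtPrime p.asIdeal)
    (LocalizedModule p.asIdeal.primeCompl M)
  obtain ⟨hdnt, hdge⟩ := bottom_degree_of_supportDim_eq (locD ω p.asIdeal) hKp ν hν
    (LocalizedModule p.asIdeal.primeCompl M) dp hd
  refine ⟨ν, δp, dp, hδ, hd, (mem_support_iff_nontrivial_localized ω M hω p _).2 hδnt,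
    (mem_support_iff_nontrivial_localized ω M hω p _).2 hdnt, fun i hi => ?_⟩
  have hi' := (mem_support_iff_nontrivial_localized ω M hω p i).1 hi
  exact ⟨hdge i hi', hδle i hi'⟩

/-- S18716. -/
theorem hasSk_iff_codim_support_ext (hω : Dual.IsDualizing A ω) (k : ℕ) :
    LocCoh.HasSk k A M ↔
      ∀ (i j : ℤ), j < i → ∀ p : PrimeSpectrum A,
        p ∈ Module.support A (Dual.inD A M ⟶ ω⟦i⟧) →
        p ∈ Module.support A (Dual.inD A M ⟶ ω⟦j⟧) →
          (((k : ℤ) + i - j).toNat : WithBot ℕ∞) ≤
            Module.supportDim (Localization.AtPrime p.asIdeal)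
              (LocalizedModule p.asIdeal.primeCompl M) := by
  constructor
  · intro hS i j hji p hpi hpj
    haveI := isNoetherianRing_atPrime p.asIdeal
    haveI hntp : Nontrivial (LocalizedModule p.asIdeal.primeCompl M) :=
      nontrivial_of_nontrivial_hom _ _
        ((mem_support_iff_nontrivial_localized ω M hω p i).1 hpi)
    obtain ⟨ν, δp, dp, hδ, hd, -, -, hrange⟩ := global_depth_dim_degrees ω M hω p
    have h1 := hrange i hpi
    have h2 := hrange j hpj
    have hS' := hS p.asIdeal
    rw [hd, hδ] at hS'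
    rw [hd]
    have hgoal : ((k : ℤ) + i - j).toNat ≤ dp := by
      rcases min_le_iff.1 hS' with h | h
      · have h' : k ≤ δp := by exact_mod_cast h
        omega
      · have h' : dp ≤ δp := by exact_mod_cast h
        omega
    exact_mod_cast hgoal
  · intro h P hP
    obtain ⟨p, rfl⟩ : ∃ p : PrimeSpectrum A, p.asIdeal = P := ⟨⟨P, hP⟩, rfl⟩
    rcases subsingleton_or_nontrivial (LocalizedModule p.asIdeal.primeCompl M) with hs | hnt
    · rw [Module.supportDim_eq_bot_of_subsingleton, min_eq_right bot_le]
      exact bot_le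
    · obtain ⟨ν, δp, dp, hδ, hd, htop, hbot, hrange⟩ := global_depth_dim_degrees ω M hω p
      have hle := (hrange _ htop).1
      rw [hδ, hd]
      by_cases hcmp : dp ≤ δp
      · exact min_le_of_right_le (by exact_mod_cast hcmp)
      · push_neg at hcmp
        have h1 := h (ν - δp) (ν - dp) (by omega) p htop hbot
        rw [hd] at h1
        have h2 : ((k : ℤ) + (ν - δp) - (ν - dp)).toNat ≤ dp := by exact_mod_cast h1
        have h3 : k ≤ δp := by omega
        exact min_le_of_left_le (by exact_mod_cast h3)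

end Global

end Groth.Agent.Lib.DMod_helper6
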