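import Mathlib
import Groth.Agent.Lib.DoubleLoc_helper6
import Groth.Agent.Lib.DMod104_helper6
import Groth.Agent.Lib.DepthSk_helper5
import Groth.Agent.Lib.SupportLoc_helper5

/-!
# Openness of the `(S_k)` locus (helper6)

* `isOpen_hasSkAt_one`: the `(S_1)` locus of a finite module over a Noetherian ring is open.
* `isOpen_hasSkAt_of_dualizing`: the `(S_k)` locus is open over a ring with a dualizing complex.
-/

set_option autoImplicit false
universe u
open CategoryTheory CategoryTheory.Limits DerivedCategory Pretriangulated ZeroObject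
open scoped Pointwise TensorProduct
attribute [local instance] HasDerivedCategory.standard

namespace Groth.Agent.Lib.DMod_helper6

open DRing Groth.Agent.ExtendScalarsLib Groth.Agent.Lib.DoubleLoc_helper6

section

variable {A : Type u} [CommRing A] [IsNoetherianRing A] (M : Type u) [AddCommGroup M]
  [Module A M] [Module.Finite A M]

omit [IsNoetherianRing A] [Module.Finite A M] in
/-- the complement of the `(S_k)` locus is the specialization closure of the set of points where
the pointwise inequality fails. -/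
lemma compl_hasSkAt_eq (k : ℕ) :
    {p : PrimeSpectrum A | EGA4.HasSkAt k A M p.asIdeal}ᶜ =
      ⋃ q ∈ {q : PrimeSpectrum A | ¬ SkPt M k q.asIdeal},
        PrimeSpectrum.zeroLocus (q.asIdeal : Set A) := by
  ext P
  simp only [Set.mem_compl_iff, Set.mem_setOf_eq, Set.mem_iUnion, PrimeSpectrum.mem_zeroLocus,
    SetLike.coe_subset_coe, exists_prop]
  rw [hasSkAt_iff]
  constructor
  · intro h
    by_contra hcon
    apply h
    intro q hq hqP
    by_contra hbad
    exact hcon ⟨⟨q, hq⟩, hbad, hqP⟩
  · rintro ⟨q, hbad, hqP⟩ h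
    exact hbad (h q.asIdeal hqP)

/-- S2711. -/
theorem isOpen_hasSkAt_one :
    IsOpen {p : PrimeSpectrum A | EGA4.HasSkAt 1 A M p.asIdeal} := by
  rw [← isClosed_compl_iff, compl_hasSkAt_eq]
  have hBadfin : {q : PrimeSpectrum A | ¬ SkPt M 1 q.asIdeal}.Finite := by
    have hsub : PrimeSpectrum.asIdeal '' {q : PrimeSpectrum A | ¬ SkPt M 1 q.asIdeal} ⊆
        associatedPrimes A M := by
      rintro _ ⟨q, hq, rfl⟩
      by_contra hass
      apply hq
      have h1 : 1 ≤ LocCoh.depth (Localization.AtPrime q.asIdeal)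
          (LocalizedModule q.asIdeal.primeCompl M) := by
        by_contra h
        exact hass ((Groth.Agent.DepthLib.not_one_le_depth_localization_iff M q.asIdeal).1 h)
      unfold SkPt
      refine le_trans (min_le_left _ _) ?_
      have h2 : (((1 : ℕ) : ℕ∞) : WithBot ℕ∞) ≤
          ((LocCoh.depth (Localization.AtPrime q.asIdeal)
            (LocalizedModule q.asIdeal.primeCompl M) : ℕ∞) : WithBot ℕ∞) :=
        WithBot.coe_le_coe.2 (by simpa using h1)
      exact h2
    exact Set.Finite.of_finite_image ((associatedPrimes.finite A M).subset hsub)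
      (fun a _ b _ hab => PrimeSpectrum.ext hab)
  exact hBadfin.isClosed_biUnion (fun q _ => PrimeSpectrum.isClosed_zeroLocus _)

omit [IsNoetherianRing A] in
lemma supportDim_localized_mono {q₀ q : PrimeSpectrum A} (h : q₀ ≤ q)
    (h0 : q₀ ∈ Module.support A M) :
    Module.supportDim (Localization.AtPrime q₀.asIdeal)
        (LocalizedModule q₀.asIdeal.primeCompl M) ≤
      Module.supportDim (Localization.AtPrime q.asIdeal)
        (LocalizedModule q.asIdeal.primeCompl M) := by
  have hq : q ∈ Module.support A M := Module.mem_support_mono h h0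
  rw [Groth.Agent.DepthLib.supportDim_localizedModule M q₀.asIdeal h0,
    Groth.Agent.DepthLib.supportDim_localizedModule M q.asIdeal hq]
  exact WithBot.coe_le_coe.2 (Order.height_mono h)

/-- S18715. -/
theorem isOpen_hasSkAt_of_dualizing (ω : Dual.D A) (hω : Dual.IsDualizing A ω) (k : ℕ) :
    IsOpen {p : PrimeSpectrum A | EGA4.HasSkAt k A M p.asIdeal} := by
  classical
  rw [← isClosed_compl_iff, compl_hasSkAt_eq]
  obtain ⟨a, b, hab⟩ := hω.finite_injective_dimension
  haveI hfin : ∀ i : ℤ, Module.Finite A (Dual.inD A M ⟶ ω⟦i⟧) := fun i =>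
    hom_finite_of_finiteInjDim (Dual.inD A M) ω (finite_HD_inD M) hω.finite_cohomology
      (hasFiniteInjDim_of_isDualizing ω hω) i
  let I : ℤ → Ideal A := fun i => Module.annihilator A (Dual.inD A M ⟶ ω⟦i⟧)
  let C : Set (PrimeSpectrum A) :=
    ⋃ ij ∈ (Finset.Icc a b ×ˢ Finset.Icc a b : Finset (ℤ × ℤ)),
      {p | p.asIdeal ∈ (I ij.1 ⊔ I ij.2).minimalPrimes}
  have hC : C.Finite := by
    refine Set.Finite.biUnion (Finset.finite_toSet _) (fun ij _ => ?_)
    exact Set.Finite.preimage (fun x _ y _ h => PrimeSpectrum.ext h)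
      (Ideal.finite_minimalPrimes_of_isNoetherianRing A _)
  have hrange : ∀ i : ℤ, ∀ x : PrimeSpectrum A,
      x ∈ Module.support A (Dual.inD A M ⟶ ω⟦i⟧) → i ∈ Finset.Icc a b := by
    intro i x hx
    have hnt' := nontrivial_of_mem_support hx
    rw [Finset.mem_Icc]
    by_contra hcon
    have hcase : i < a ∨ b < i := by omega
    exact (not_subsingleton_iff_nontrivial.2 hnt') (hab M i hcase)
  have keyA : ∀ q : PrimeSpectrum A, ¬ SkPt M k q.asIdeal → ∃ i j : ℤ, j < i ∧
      q ∈ Module.support A (Dual.inD A M ⟶ ω⟦i⟧) ∧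
      q ∈ Module.support A (Dual.inD A M ⟶ ω⟦j⟧) ∧
      Module.supportDim (Localization.AtPrime q.asIdeal)
        (LocalizedModule q.asIdeal.primeCompl M) <
          ((((k : ℤ) + i - j).toNat : ℕ) : WithBot ℕ∞) := by
    intro q hq
    haveI hnt : Nontrivial (LocalizedModule q.asIdeal.primeCompl M) := by
      by_contra hcon
      rw [not_nontrivial_iff_subsingleton] at hcon
      apply hq
      unfold SkPt
      rw [Module.supportDim_eq_bot_of_subsingleton, min_eq_right bot_le]
      exact bot_le
    obtain ⟨ν, δq, dq, hδ, hd, htop, hbot, hrg⟩ := global_depth_dim_degrees ω M hω q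
    have hbad : ¬ (min (k : WithBot ℕ∞) (dq : WithBot ℕ∞) ≤ ((δq : ℕ∞) : WithBot ℕ∞)) := by
      intro h
      apply hq
      unfold SkPt
      rw [hd, hδ]
      exact h
    have h1 : δq < k := by
      by_contra hc
      push_neg at hc
      exact hbad (min_le_of_left_le (by exact_mod_cast hc))
    have h2 : δq < dq := by
      by_contra hc
      push_neg at hc
      exact hbad (min_le_of_right_le (by exact_mod_cast hc))
    refine ⟨ν - δq, ν - dq, by omega, htop, hbot, ?_⟩
    rw [hd]
    have h3 : dq < ((k : ℤ) + (ν - δq) - (ν - dq)).toNat := by omega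
    exact_mod_cast h3
  have keyB : ∀ (q : PrimeSpectrum A) (i j : ℤ), j < i →
      q ∈ Module.support A (Dual.inD A M ⟶ ω⟦i⟧) →
      q ∈ Module.support A (Dual.inD A M ⟶ ω⟦j⟧) →
      Module.supportDim (Localization.AtPrime q.asIdeal)
        (LocalizedModule q.asIdeal.primeCompl M) <
          ((((k : ℤ) + i - j).toNat : ℕ) : WithBot ℕ∞) → ¬ SkPt M k q.asIdeal := by
    intro q i j hji hi hj hlt hS
    haveI := isNoetherianRing_atPrime q.asIdeal
    haveI hnt : Nontrivial (LocalizedModule q.asIdeal.primeCompl M) :=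
      nontrivial_of_nontrivial_hom _ _
        ((mem_support_iff_nontrivial_localized ω M hω q i).1 hi)
    obtain ⟨ν, δq, dq, hδ, hd, -, -, hrg⟩ := global_depth_dim_degrees ω M hω q
    have h1 := hrg i hi
    have h2 := hrg j hj
    unfold SkPt at hS
    rw [hd, hδ] at hS
    rw [hd] at hlt
    have hlt' : dq < ((k : ℤ) + i - j).toNat := by exact_mod_cast hlt
    rcases min_le_iff.1 hS with h | h
    · have h' : k ≤ δq := by exact_mod_cast h
      omega
    · have h' : dq ≤ δq := by exact_mod_cast h
      omega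
  have hZ : (⋃ q ∈ {q : PrimeSpectrum A | ¬ SkPt M k q.asIdeal},
        PrimeSpectrum.zeroLocus (q.asIdeal : Set A)) =
      ⋃ q ∈ (C ∩ {q : PrimeSpectrum A | ¬ SkPt M k q.asIdeal}),
        PrimeSpectrum.zeroLocus (q.asIdeal : Set A) := by
    apply Set.Subset.antisymm
    · intro P hP
      simp only [Set.mem_iUnion, exists_prop] at hP ⊢
      obtain ⟨q, hq, hqP⟩ := hP
      obtain ⟨i, j, hji, hi, hj, hlt⟩ := keyA q hq
      have hle : I i ⊔ I j ≤ q.asIdeal :=
        sup_le (Module.mem_support_iff_of_finite.1 hi) (Module.mem_support_iff_of_finite.1 hj)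
      obtain ⟨Q, hQmin, hQq⟩ := Ideal.exists_minimalPrimes_le hle
      haveI hQprime : Q.IsPrime := hQmin.1.1
      let q₀ : PrimeSpectrum A := ⟨Q, hQprime⟩
      have hq₀i : q₀ ∈ Module.support A (Dual.inD A M ⟶ ω⟦i⟧) :=
        Module.mem_support_iff_of_finite.2 (le_sup_left.trans hQmin.1.2)
      have hq₀j : q₀ ∈ Module.support A (Dual.inD A M ⟶ ω⟦j⟧) :=
        Module.mem_support_iff_of_finite.2 (le_sup_right.trans hQmin.1.2)
      have hq₀M : q₀ ∈ Module.support A M := by
        rw [Module.mem_support_iff]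
        exact nontrivial_of_nontrivial_hom _ _
          ((mem_support_iff_nontrivial_localized ω M hω q₀ i).1 hq₀i)
      have hle' : q₀ ≤ q := (PrimeSpectrum.asIdeal_le_asIdeal q₀ q).1 hQq
      have hmono := supportDim_localized_mono M hle' hq₀M
      refine ⟨q₀, ⟨?_, keyB q₀ i j hji hq₀i hq₀j (lt_of_le_of_lt hmono hlt)⟩, ?_⟩
      · refine Set.mem_biUnion (x := (i, j))
          (Finset.mem_coe.2 (Finset.mem_product.2 ⟨hrange _ q hi, hrange _ q hj⟩)) ?_
        exact hQmin
      · exact (PrimeSpectrum.mem_zeroLocus _ _).2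
          (fun x hx => (PrimeSpectrum.mem_zeroLocus _ _).1 hqP (hQq hx))
    · intro P hP
      simp only [Set.mem_iUnion, exists_prop] at hP ⊢
      obtain ⟨q, ⟨-, hq⟩, hqP⟩ := hP
      exact ⟨q, hq, hqP⟩
  rw [hZ]
  exact (hC.subset Set.inter_subset_left).isClosed_biUnion
    (fun q _ => PrimeSpectrum.isClosed_zeroLocus _)

end

end Groth.Agent.Lib.DMod_helper6
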