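import Mathlib
import Groth.Agent.Lib.SkOpen_helper6
import Groth.Agent.Lib.DMod102_helper6

/-!
# Loci defined by depth and dimension over rings with a pointwise dualizing complex (helper6)

Generalizations of `global_depth_dim_degrees` and `isOpen_hasSkAt_of_dualizing` to a bounded below
complex `ω` all of whose localizations are dualizing, for a finite module `M` with finite and
bounded `Ext^i(M, ω)`.  Also the openness of the codepth loci.
-/

set_option autoImplicit false
universe u
open CategoryTheory CategoryTheory.Limits DerivedCategory Pretriangulated ZeroObject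
open scoped Pointwise TensorProduct
attribute [local instance] HasDerivedCategory.standard

namespace Groth.Agent.Lib.DMod_helper6

open DRing Groth.Agent.ExtendScalarsLib Groth.Agent.Lib.DoubleLoc_helper6

section

variable {A : Type u} [CommRing A] [IsNoetherianRing A] (ω : Dual.D A)
  (M : Type u) [AddCommGroup M] [Module A M] [Module.Finite A M]

lemma mem_support_iff_nontrivial_localized' (a : ℤ) [DerivedCategory.IsGE ω a]
    (p : PrimeSpectrum A) (i : ℤ) :
    p ∈ Module.support A (Dual.inD A M ⟶ ω⟦i⟧) ↔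
      Nontrivial (Dual.inD (Localization.AtPrime p.asIdeal)
        (LocalizedModule p.asIdeal.primeCompl M) ⟶ (locD ω p.asIdeal)⟦i⟧) := by
  have h1 : p ∈ Module.support A (Dual.inD A M ⟶ ω⟦i⟧) ↔
      Nontrivial (Dual.inD (Localization.AtPrime p.asIdeal)
        ((Localization.AtPrime p.asIdeal) ⊗[A] M) ⟶ (locD ω p.asIdeal)⟦i⟧) :=
    mem_support_ext_iff' ω p.asIdeal a M i
  have eqv : ((Localization.AtPrime p.asIdeal) ⊗[A] M) ≃ₗ[Localization.AtPrime p.asIdeal]
      LocalizedModule p.asIdeal.primeCompl M :=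
    (IsLocalizedModule.isBaseChange p.asIdeal.primeCompl (Localization.AtPrime p.asIdeal)
      (LocalizedModule.mkLinearMap p.asIdeal.primeCompl M)).equiv
  rw [h1]
  exact nontrivial_hom_iso_left (inDIsoOfLinearEquiv eqv)

theorem global_depth_dim_degrees' (a : ℤ) [DerivedCategory.IsGE ω a] (p : PrimeSpectrum A)
    (hKp : Dual.IsDualizing (Localization.AtPrime p.asIdeal) (locD ω p.asIdeal))
    [Nontrivial (LocalizedModule p.asIdeal.primeCompl M)] :
    ∃ (ν : ℤ) (δp dp : ℕ),
      LocCoh.depth (Localization.AtPrime p.asIdeal)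
        (LocalizedModule p.asIdeal.primeCompl M) = δp ∧
      Module.supportDim (Localization.AtPrime p.asIdeal)
        (LocalizedModule p.asIdeal.primeCompl M) = (dp : WithBot ℕ∞) ∧
      p ∈ Module.support A (Dual.inD A M ⟶ ω⟦ν - (δp : ℤ)⟧) ∧
      p ∈ Module.support A (Dual.inD A M ⟶ ω⟦ν - (dp : ℤ)⟧) ∧
      ∀ i : ℤ, p ∈ Module.support A (Dual.inD A M ⟶ ω⟦i⟧) → ν - dp ≤ i ∧ i ≤ ν - δp := by
  haveI := isNoetherianRing_atPrime p.asIdeal
  obtain ⟨ν, hν⟩ := exists_isNormalized_shift (locD ω p.asIdeal) hKp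
  obtain ⟨δp, hδ, hδnt, hδle⟩ := exists_depth_eq_and_top_degree (locD ω p.asIdeal) hKp ν hν
    (LocalizedModule p.asIdeal.primeCompl M)
  obtain ⟨dp, hd⟩ := exists_nat_supportDim_eq (B := Localization.AtPrime p.asIdeal)
    (LocalizedModule p.asIdeal.primeCompl M)
  obtain ⟨hdnt, hdge⟩ := bottom_degree_of_supportDim_eq (locD ω p.asIdeal) hKp ν hν
    (LocalizedModule p.asIdeal.primeCompl M) dp hd
  refine ⟨ν, δp, dp, hδ, hd, (mem_support_iff_nontrivial_localized' ω M a p _).2 hδnt,
    (mem_support_iff_nontrivial_localized' ω M a p _).2 hdnt, fun i hi => ?_⟩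
  have hi' := (mem_support_iff_nontrivial_localized' ω M a p i).1 hi
  exact ⟨hdge i hi', hδle i hi'⟩

variable (hloc : ∀ p : PrimeSpectrum A,
    Dual.IsDualizing (Localization.AtPrime p.asIdeal) (locD ω p.asIdeal))
  (hfin : ∀ i : ℤ, Module.Finite A (Dual.inD A M ⟶ ω⟦i⟧))
  (lo hi : ℤ)
  (hab : ∀ i : ℤ, (i < lo ∨ hi < i) → Subsingleton (Dual.inD A M ⟶ ω⟦i⟧))

include hloc hfin hab

theorem isOpen_hasSkAt_of_ptDualizing (a : ℤ) [DerivedCategory.IsGE ω a] (k : ℕ) :
    IsOpen {p : PrimeSpectrum A | EGA4.HasSkAt k A M p.asIdeal} := by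
  classical
  rw [← isClosed_compl_iff, compl_hasSkAt_eq]
  haveI := hfin
  let I : ℤ → Ideal A := fun i => Module.annihilator A (Dual.inD A M ⟶ ω⟦i⟧)
  let C : Set (PrimeSpectrum A) :=
    ⋃ ij ∈ (Finset.Icc lo hi ×ˢ Finset.Icc lo hi : Finset (ℤ × ℤ)),
      {p | p.asIdeal ∈ (I ij.1 ⊔ I ij.2).minimalPrimes}
  have hC : C.Finite := by
    refine Set.Finite.biUnion (Finset.finite_toSet _) (fun ij _ => ?_)
    exact Set.Finite.preimage (fun x _ y _ h => PrimeSpectrum.ext h)
      (Ideal.finite_minimalPrimes_of_isNoetherianRing A _)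
  have hrange : ∀ i : ℤ, ∀ x : PrimeSpectrum A,
      x ∈ Module.support A (Dual.inD A M ⟶ ω⟦i⟧) → i ∈ Finset.Icc lo hi := by
    intro i x hx
    have hnt' := nontrivial_of_mem_support hx
    rw [Finset.mem_Icc]
    by_contra hcon
    have hcase : i < lo ∨ hi < i := by omega
    exact (not_subsingleton_iff_nontrivial.2 hnt') (hab i hcase)
  have keyA : ∀ q : PrimeSpectrum A, ¬ SkPt M k q.asIdeal → ∃ i j : ℤ, j < i ∧
      q ∈ Module.support A (Dual.inD A M ⟶ ω⟦i⟧) ∧
      q ∈ Module.support A (Dual.inD A M ⟶ ω⟦j⟧) ∧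
      Module.supportDim (Localization.AtPrime q.asIdeal)
        (LocalizedModule q.asIdeal.primeCompl M) <
          ((((k : ℤ) + i - j).toNat : ℕ) : WithBot ℕ∞) := by
    intro q hq
    haveI hnt : Nontrivial (LocalizedModule q.asIdeal.primeCompl M) := by
      by_contra hcon
      rw [not_nontrivial_iff_subsingleton] at hcon
      apply hq
      unfold SkPt
      rw [Module.supportDim_eq_bot_of_subsingleton, min_eq_right bot_le]
      exact bot_le
    obtain ⟨ν, δq, dq, hδ, hd, htop, hbot, hrg⟩ := global_depth_dim_degrees' ω M a q (hloc q)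
    have hbad : ¬ (min (k : WithBot ℕ∞) (dq : WithBot ℕ∞) ≤ ((δq : ℕ∞) : WithBot ℕ∞)) := by
      intro h
      apply hq
      unfold SkPt
      rw [hd, hδ]
      exact h
    have h1 : δq < k := by
      by_contra hc
      push_neg at hc
      exact hbad (min_le_of_left_le (by exact_mod_cast hc))
    have h2 : δq < dq := by
      by_contra hc
      push_neg at hc
      exact hbad (min_le_of_right_le (by exact_mod_cast hc))
    refine ⟨ν - δq, ν - dq, by omega, htop, hbot, ?_⟩
    rw [hd]
    have h3 : dq < ((k : ℤ) + (ν - δq) - (ν - dq)).toNat := by omega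
    exact_mod_cast h3
  have keyB : ∀ (q : PrimeSpectrum A) (i j : ℤ), j < i →
      q ∈ Module.support A (Dual.inD A M ⟶ ω⟦i⟧) →
      q ∈ Module.support A (Dual.inD A M ⟶ ω⟦j⟧) →
      Module.supportDim (Localization.AtPrime q.asIdeal)
        (LocalizedModule q.asIdeal.primeCompl M) <
          ((((k : ℤ) + i - j).toNat : ℕ) : WithBot ℕ∞) → ¬ SkPt M k q.asIdeal := by
    intro q i j hji hi' hj hlt hS
    haveI := isNoetherianRing_atPrime q.asIdeal
    haveI hnt : Nontrivial (LocalizedModule q.asIdeal.primeCompl M) :=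
      nontrivial_of_nontrivial_hom _ _
        ((mem_support_iff_nontrivial_localized' ω M a q i).1 hi')
    obtain ⟨ν, δq, dq, hδ, hd, -, -, hrg⟩ := global_depth_dim_degrees' ω M a q (hloc q)
    have h1 := hrg i hi'
    have h2 := hrg j hj
    unfold SkPt at hS
    rw [hd, hδ] at hS
    rw [hd] at hlt
    have hlt' : dq < ((k : ℤ) + i - j).toNat := by exact_mod_cast hlt
    rcases min_le_iff.1 hS with h | h
    · have h' : k ≤ δq := by exact_mod_cast h
      omega
    · have h' : dq ≤ δq := by exact_mod_cast h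
      omega
  have hZ : (⋃ q ∈ {q : PrimeSpectrum A | ¬ SkPt M k q.asIdeal},
        PrimeSpectrum.zeroLocus (q.asIdeal : Set A)) =
      ⋃ q ∈ (C ∩ {q : PrimeSpectrum A | ¬ SkPt M k q.asIdeal}),
        PrimeSpectrum.zeroLocus (q.asIdeal : Set A) := by
    apply Set.Subset.antisymm
    · intro P hP
      simp only [Set.mem_iUnion, exists_prop] at hP ⊢
      obtain ⟨q, hq, hqP⟩ := hP
      obtain ⟨i, j, hji, hi', hj, hlt⟩ := keyA q hq
      have hle : I i ⊔ I j ≤ q.asIdeal :=
        sup_le (Module.mem_support_iff_of_finite.1 hi') (Module.mem_support_iff_of_finite.1 hj)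
      obtain ⟨Q, hQmin, hQq⟩ := Ideal.exists_minimalPrimes_le hle
      haveI hQprime : Q.IsPrime := hQmin.1.1
      let q₀ : PrimeSpectrum A := ⟨Q, hQprime⟩
      have hq₀i : q₀ ∈ Module.support A (Dual.inD A M ⟶ ω⟦i⟧) :=
        Module.mem_support_iff_of_finite.2 (le_sup_left.trans hQmin.1.2)
      have hq₀j : q₀ ∈ Module.support A (Dual.inD A M ⟶ ω⟦j⟧) :=
        Module.mem_support_iff_of_finite.2 (le_sup_right.trans hQmin.1.2)
      have hq₀M : q₀ ∈ Module.support A M := by
        rw [Module.mem_support_iff]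
        exact nontrivial_of_nontrivial_hom _ _
          ((mem_support_iff_nontrivial_localized' ω M a q₀ i).1 hq₀i)
      have hle' : q₀ ≤ q := (PrimeSpectrum.asIdeal_le_asIdeal q₀ q).1 hQq
      have hmono := supportDim_localized_mono M hle' hq₀M
      refine ⟨q₀, ⟨?_, keyB q₀ i j hji hq₀i hq₀j (lt_of_le_of_lt hmono hlt)⟩, ?_⟩
      · refine Set.mem_biUnion (x := (i, j))
          (Finset.mem_coe.2 (Finset.mem_product.2 ⟨hrange _ q hi', hrange _ q hj⟩)) ?_
        exact hQmin
      · exact (PrimeSpectrum.mem_zeroLocus _ _).2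
          (fun x hx => (PrimeSpectrum.mem_zeroLocus _ _).1 hqP (hQq hx))
    · intro P hP
      simp only [Set.mem_iUnion, exists_prop] at hP ⊢
      obtain ⟨q, ⟨-, hq⟩, hqP⟩ := hP
      exact ⟨q, hq, hqP⟩
  rw [hZ]
  exact (hC.subset Set.inter_subset_left).isClosed_biUnion
    (fun q _ => PrimeSpectrum.isClosed_zeroLocus _)

theorem isOpen_codepth_le_of_ptDualizing (a : ℤ) [DerivedCategory.IsGE ω a] (n : ℕ) :
    IsOpen {p : PrimeSpectrum A |
      Module.supportDim (Localization.AtPrime p.asIdeal)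
          (LocalizedModule p.asIdeal.primeCompl M) ≤
        ((LocCoh.depth (Localization.AtPrime p.asIdeal)
          (LocalizedModule p.asIdeal.primeCompl M) : ℕ∞) : WithBot ℕ∞) + n} := by
  classical
  rw [← isClosed_compl_iff]
  haveI := hfin
  have hrange : ∀ i : ℤ, ∀ x : PrimeSpectrum A,
      x ∈ Module.support A (Dual.inD A M ⟶ ω⟦i⟧) → i ∈ Finset.Icc lo hi := by
    intro i x hx
    have hnt' := nontrivial_of_mem_support hx
    rw [Finset.mem_Icc]
    by_contra hcon
    have hcase : i < lo ∨ hi < i := by omega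
    exact (not_subsingleton_iff_nontrivial.2 hnt') (hab i hcase)
  have hset : {p : PrimeSpectrum A |
      Module.supportDim (Localization.AtPrime p.asIdeal)
          (LocalizedModule p.asIdeal.primeCompl M) ≤
        ((LocCoh.depth (Localization.AtPrime p.asIdeal)
          (LocalizedModule p.asIdeal.primeCompl M) : ℕ∞) : WithBot ℕ∞) + n}ᶜ =
      ⋃ ij ∈ ((Finset.Icc lo hi ×ˢ Finset.Icc lo hi).filter
          (fun ij : ℤ × ℤ => (n : ℤ) < ij.1 - ij.2) : Finset (ℤ × ℤ)),
        (Module.support A (Dual.inD A M ⟶ ω⟦ij.1⟧) ∩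
          Module.support A (Dual.inD A M ⟶ ω⟦ij.2⟧)) := by
    ext p
    simp only [Set.mem_compl_iff, Set.mem_setOf_eq, Set.mem_iUnion, Set.mem_inter_iff,
      exists_prop]
    constructor
    · intro hp
      haveI hnt : Nontrivial (LocalizedModule p.asIdeal.primeCompl M) := by
        by_contra hcon
        rw [not_nontrivial_iff_subsingleton] at hcon
        apply hp
        rw [Module.supportDim_eq_bot_of_subsingleton]
        exact bot_le
      obtain ⟨ν, δp, dp, hδ, hd, htop, hbot, hrg⟩ := global_depth_dim_degrees' ω M a p (hloc p)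
      rw [hd, hδ] at hp
      have h1 : δp + n < dp := by
        by_contra hc
        push_neg at hc
        apply hp
        exact_mod_cast hc
      refine ⟨(ν - δp, ν - dp), ?_, htop, hbot⟩
      rw [Finset.mem_filter, Finset.mem_product]
      exact ⟨⟨hrange _ p htop, hrange _ p hbot⟩, by dsimp only; omega⟩
    · rintro ⟨⟨i, j⟩, hij, hpi, hpj⟩ hle
      rw [Finset.mem_filter] at hij
      have hlt : (n : ℤ) < i - j := hij.2
      haveI := isNoetherianRing_atPrime p.asIdeal
      haveI hnt : Nontrivial (LocalizedModule p.asIdeal.primeCompl M) :=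
        nontrivial_of_nontrivial_hom _ _
          ((mem_support_iff_nontrivial_localized' ω M a p i).1 hpi)
      obtain ⟨ν, δp, dp, hδ, hd, -, -, hrg⟩ := global_depth_dim_degrees' ω M a p (hloc p)
      have h1 := hrg i hpi
      have h2 := hrg j hpj
      rw [hd, hδ] at hle
      have h3 : dp ≤ δp + n := by exact_mod_cast hle
      omega
  rw [hset]
  refine Set.Finite.isClosed_biUnion (Finset.finite_toSet _) (fun ij _ => ?_)
  exact IsClosed.inter Module.isClosed_support Module.isClosed_support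

end

end Groth.Agent.Lib.DMod_helper6
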