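import Mathlib
import Groth.Prelude.Def_DRing2
import Groth.Prelude.Def_DDual2
import Groth.Agent.Lib.DMod66_helper6

/-!
# Derived category toolkit (helper6), part 67: global dimension of regular noetherian rings of finite
Krull dimension, and vanishing of morphisms across a cohomological gap (S6994).
-/

set_option autoImplicit false
universe u
open CategoryTheory CategoryTheory.Limits Pretriangulated DerivedCategory ZeroObject
open scoped TensorProduct
attribute [local instance] HasDerivedCategory.standard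

namespace Groth.Agent.Lib.DMod_helper6

open DRing CochainComplex Groth.Agent.ExtendScalarsLib

section Spread2

variable {R : Type u} [CommRing R]

/-- tor amplitude is local on the prime spectrum -/
theorem hasTorAmplitudeIn_of_forall_prime (E : Cx R) (a b : ℤ)
    (h : ∀ 𝔭 : PrimeSpectrum R, ∃ g : R, g ∉ 𝔭.asIdeal ∧
      HasTorAmplitudeIn (Localization.Away g) a b
        (toD (((ES R (Localization.Away g)).mapHomologicalComplex
          (ComplexShape.up ℤ)).obj E))) :
    HasTorAmplitudeIn R a b (toD E) := by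
  let G : Set R := {g | HasTorAmplitudeIn (Localization.Away g) a b
    (toD (((ES R (Localization.Away g)).mapHomologicalComplex (ComplexShape.up ℤ)).obj E))}
  have hG : Ideal.span G = ⊤ := by
    by_contra hne
    obtain ⟨m, hm, hle⟩ := Ideal.exists_le_maximal _ hne
    obtain ⟨g, hg, hgG⟩ := h ⟨m, hm.isPrime⟩
    exact hg (hle (Ideal.subset_span hgG))
  obtain ⟨s, hsG, hs⟩ := (Ideal.span_eq_top_iff_finite G).1 hG
  let f : Fin s.card → R := fun i => ((s.equivFin.symm i : s) : R)
  have hrange : Set.range f = (s : Set R) := by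
    ext x
    constructor
    · rintro ⟨i, rfl⟩
      exact (s.equivFin.symm i).2
    · intro hx
      exact ⟨s.equivFin ⟨x, hx⟩, by simp [f]⟩
  have hf : Ideal.span (Set.range f) = ⊤ := by rw [hrange]; exact hs
  exact hasTorAmplitudeIn_of_localization_away hf E a b (fun j => hsG (s.equivFin.symm j).2)

end Spread2

section GlobalDim

variable {R : Type u} [CommRing R] [IsNoetherianRing R]

/-- `Ext^i(M, N) = 0` for `i > d` and `M` finite over a regular ring of Krull dimension `d`. -/
theorem hom_inD_subsingleton_of_regular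
    (hreg : ∀ p : PrimeSpectrum R, IsRegularLocalRing (Localization.AtPrime p.asIdeal)) (d : ℕ)
    (hd : ringKrullDim R = d) (M : Type u) [AddCommGroup M] [Module R M] [Module.Finite R M]
    (N : ModuleCat.{u} R) (i : ℤ) (hi : (d : ℤ) < i) :
    Subsingleton (Dual.inD R M ⟶ (Dual.inD R N)⟦i⟧) := by
  have hpc : IsPseudoCoherent' R (Dual.inD R M) :=
    (isPseudoCoherentModule'_iff_noeth M).2 inferInstance
  obtain ⟨E, b₁, hEb, hEff, ⟨e⟩⟩ := hpc
  have hex : ∀ j : ℤ, j ≠ 0 → E.ExactAt j := fun j hj =>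
    (exactAt_iff_subsingleton_HD e j).2
      (ModuleCat.subsingleton_of_isZero (isZero_HD_inD (ModuleCat.of R M) j hj))
  have hamp : HasTorAmplitudeIn R (0 - (d : ℤ) - 1 + 1) b₁ (toD E) := by
    refine hasTorAmplitudeIn_of_forall_prime E _ _ (fun 𝔭 => ?_)
    haveI := hreg 𝔭
    obtain ⟨dp, hdp⟩ := Groth.Agent.GlDim.exists_dim (Localization.AtPrime 𝔭.asIdeal)
    have hle : dp ≤ d := by
      have h1 : ringKrullDim (Localization.AtPrime 𝔭.asIdeal) ≤ ringKrullDim R := by
        rw [IsLocalization.AtPrime.ringKrullDim_eq_height 𝔭.asIdeal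
          (Localization.AtPrime 𝔭.asIdeal)]
        exact Ideal.height_le_ringKrullDim_of_isPrime
      rw [hdp, hd] at h1
      exact_mod_cast h1
    haveI : Module.Flat R (Localization.AtPrime 𝔭.asIdeal) :=
      IsLocalization.flat _ 𝔭.asIdeal.primeCompl
    have hKp : ∀ j : ℤ, (j < 0 ∨ 0 < j) →
        Subsingleton (Dual.HD (Localization.AtPrime 𝔭.asIdeal)
          (toD (((ES R (Localization.AtPrime 𝔭.asIdeal)).mapHomologicalComplex
            (ComplexShape.up ℤ)).obj E)) j) := fun j hj =>
      (exactAt_iff_subsingleton_HD (Iso.refl _) j).1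
        (exactAt_ESc_of_exactAt E j (hex j (by omega)))
    have hampp := hasTorAmplitudeIn_of_globalDim d
      (fun M => by
        haveI := Groth.Agent.GlDim.hasProjectiveDimensionLT_of_regular
          (Localization.AtPrime 𝔭.asIdeal) dp hdp M
        exact hasProjectiveDimensionLT_of_ge M (dp + 1) (d + 1) (by omega)) _ 0 0 hKp
    obtain ⟨g, hg, hgamp⟩ := exists_away_hasTorAmplitudeIn E b₁ hEb hEff (0 - (d : ℤ) - 1)
      (fun j hj => hex j (by omega)) 𝔭.asIdeal 0 (by rwa [sub_add_cancel])
    exact ⟨g, hg, hgamp⟩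
  obtain ⟨T, b₂, hT, hTfp, ⟨eT⟩⟩ := exists_finite_projective_of_pc_of_torAmp (toD E)
    ⟨E, b₁, hEb, hEff, ⟨Iso.refl _⟩⟩ _ _ hamp
  exact hom_subsingleton_of_projAmp T _ b₂ hT (fun j => (hTfp j).2) (Dual.inD R M) (eT ≪≫ e) N i
    (Or.inr (by omega))

/-- A regular noetherian ring of Krull dimension `d` has global dimension `≤ d`. -/
theorem hasProjectiveDimensionLT_of_regular_of_krullDim
    (hreg : ∀ p : PrimeSpectrum R, IsRegularLocalRing (Localization.AtPrime p.asIdeal)) (d : ℕ)
    (hd : ringKrullDim R = d) (M : ModuleCat.{u} R) :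
    HasProjectiveDimensionLT M (d + 1) := by
  have hinj : ∀ N : ModuleCat.{u} R, HasInjectiveDimensionLT N (d + 1) := fun N =>
    Groth.Agent.GlDim.hasInjectiveDimensionLT_of_ext_quot d N (fun I e => by
      have hs := hom_inD_subsingleton_of_regular hreg d hd (R ⧸ I) N ((d + 1 : ℕ) : ℤ)
        (by push_cast; omega)
      exact Abelian.Ext.homEquiv.injective (@Subsingleton.elim _ hs _ _))
  rw [hasProjectiveDimensionLT_iff]
  intro i hi Y e
  haveI := hinj Y
  exact e.eq_zero_of_hasInjectiveDimensionLT (d + 1) hi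

end GlobalDim

section HomFam

variable {A : Type u} [CommRing A]

/-- The family `m ↦ (Hom(K, L[j]) = 0 for all j with t < j + m)`. -/
def homFam (L : Dual.D A) (t : ℤ) : AmpFamily A where
  P m K := ∀ j : ℤ, t < j + m → Subsingleton (K ⟶ L⟦j⟧)
  of_iso m _ _ e h j hj := by
    haveI := h j hj
    exact ⟨fun f g => by
      rw [← cancel_epi e.hom]
      exact Subsingleton.elim _ _⟩
  of_isZero m K hK j _ := ⟨fun f g => hK.eq_of_src f g⟩
  shift m m' n hmn K h j hj := by
    haveI := h (j - n) (by omega)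
    refine ⟨fun f g => ?_⟩
    let α : L⟦j⟧ ≅ (L⟦j - n⟧)⟦n⟧ :=
      (CategoryTheory.shiftFunctorAdd' (Dual.D A) (j - n) n j (by omega)).app L
    have key : ∀ f : K⟦n⟧ ⟶ L⟦j⟧, f = 0 := fun f => by
      obtain ⟨ψ, hψ⟩ := (CategoryTheory.shiftFunctor (Dual.D A) n).map_surjective (f ≫ α.hom)
      have h0 : ψ = 0 := Subsingleton.elim _ _
      rw [h0, Functor.map_zero] at hψ
      rw [← cancel_mono α.hom, ← hψ, zero_comp]
    rw [key f, key g]
  ext m T hT h1 h3 j hj := by
    haveI := h1 j hj
    haveI := h3 j hj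
    refine ⟨fun f g => ?_⟩
    have key : ∀ f : T.obj₂ ⟶ L⟦j⟧, f = 0 := fun f => by
      obtain ⟨g', hg'⟩ := Triangle.yoneda_exact₂ T hT f (Subsingleton.elim _ _)
      rw [hg', Subsingleton.elim g' 0, comp_zero]
    rw [key f, key g]

/-- Over a ring of global dimension `≤ d` there are no morphisms from `D^{[k+1, b]}` to
`D^{≤ k - d}`. -/
theorem hom_eq_zero_of_globalDim (d : ℕ)
    (hgl : ∀ M : ModuleCat.{u} A, HasProjectiveDimensionLT M (d + 1)) (K L : Dual.D A) (k b : ℤ)
    (hKge : DerivedCategory.IsGE K (k + 1)) (hKle : DerivedCategory.IsLE K b)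
    (hLle : DerivedCategory.IsLE L (k - d)) (f : K ⟶ L) : f = 0 := by
  letI := HasExt.standard (ModuleCat.{u} A)
  haveI := hKge
  haveI := hKle
  haveI := hLle
  have h2 : ∀ M : ModuleCat.{u} A,
      Subsingleton (K ⟶ (Dual.inD A M)⟦-(k + 1 - (d : ℤ)) + 1⟧) := by
    intro M
    have hle' : DerivedCategory.IsLE K (k + 1 + ((b - k).toNat : ℤ) - 1) :=
      TStructure.t.isLE_of_le K b _ (by omega)
    have hP := (homFam (Dual.inD A M) (d : ℤ)).devissage_homology (k + 1) (b - k).toNat K
      (k + 1) hKge hle' (fun i => ?_)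
    · exact hP _ (by omega)
    · intro j hj
      by_cases hi : k + 1 ≤ i
      · obtain ⟨n, hn⟩ : ∃ n : ℕ, j = (n : ℤ) := ⟨j.toNat, by omega⟩
        subst hn
        haveI := hgl ((DerivedCategory.homologyFunctor (ModuleCat.{u} A) i).obj K)
        haveI : Subsingleton (Abelian.Ext
            ((DerivedCategory.homologyFunctor (ModuleCat.{u} A) i).obj K) M n) :=
          HasProjectiveDimensionLT.subsingleton _ (d + 1) n (by omega) M
        exact Abelian.Ext.homEquiv.symm.subsingleton
      · have hz : IsZero ((DerivedCategory.homologyFunctor (ModuleCat.{u} A) i).obj K) :=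
          DerivedCategory.isZero_of_isGE K (k + 1) i (by omega)
        exact ⟨fun f g => ((DerivedCategory.singleFunctor _ 0).map_isZero hz).eq_of_src f g⟩
  have h1 : ∀ n, (n < k + 1 - d - 1 ∨ b < n) → Subsingleton (Dual.HD A K n) := by
    rintro n (hn | hn)
    · exact ModuleCat.subsingleton_of_isZero
        (DerivedCategory.isZero_of_isGE K (k + 1) n (by omega))
    · exact ModuleCat.subsingleton_of_isZero (DerivedCategory.isZero_of_isLE K b n hn)
  obtain ⟨P, hP, hproj, ⟨e⟩⟩ := projAmp_of_hom_vanishing K (k + 1 - d) b h1 h2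
  haveI := isKProjective_of_projective_bounded P b (fun j hj => hP j (Or.inr hj)) hproj
  have h0 := hom_eq_zero_of_isKProjective_of_isLE P (k - d)
    (fun j hj => hP j (Or.inl (by omega))) L (e.hom ≫ f)
  rw [← cancel_epi e.hom, h0, comp_zero]

end HomFam

section Gap

variable {R : Type u} [CommRing R] [IsNoetherianRing R]

/-- S6994 -/
theorem hom_subsingleton_of_regular_gap
    (hreg : ∀ p : PrimeSpectrum R, IsRegularLocalRing (Localization.AtPrime p.asIdeal)) (d : ℕ)
    (hd : ringKrullDim R = d) (K L : Dual.D R)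
    (hKb : ∃ b : ℤ, ∀ i : ℤ, b < i → Subsingleton (Dual.HD R K i)) (k : ℤ)
    (hK : ∀ i : ℤ, i ≤ k → Subsingleton (Dual.HD R K i))
    (hL : ∀ i : ℤ, k - d + 1 ≤ i → Subsingleton (Dual.HD R L i)) :
    Subsingleton (K ⟶ L) := by
  obtain ⟨b, hb⟩ := hKb
  have hKge : DerivedCategory.IsGE K (k + 1) := by
    rw [DerivedCategory.isGE_iff]
    intro i hi
    haveI := hK i (by omega)
    exact ModuleCat.isZero_of_subsingleton _
  have hKle : DerivedCategory.IsLE K b := by
    rw [DerivedCategory.isLE_iff]
    intro i hi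
    haveI := hb i hi
    exact ModuleCat.isZero_of_subsingleton _
  have hLle : DerivedCategory.IsLE L (k - d) := by
    rw [DerivedCategory.isLE_iff]
    intro i hi
    haveI := hL i (by omega)
    exact ModuleCat.isZero_of_subsingleton _
  have key := hom_eq_zero_of_globalDim d
    (fun M => hasProjectiveDimensionLT_of_regular_of_krullDim hreg d hd M) K L k b hKge hKle hLle
  exact ⟨fun f g => by rw [key f, key g]⟩

end Gap

end Groth.Agent.Lib.DMod_helper6
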