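import Mathlib
import Groth.Prelude.Def_DRing2
import Groth.Prelude.Def_DDual2
import Groth.Agent.Lib.DMod67_helper6
import Groth.Agent.Lib.DMod14_helper6
import Groth.Agent.Lib.DMod9_helper6

/-!
# Derived category toolkit (helper6), part 75: `A[0]` is a dualizing complex over a regular ring of
finite Krull dimension (S11185).
-/

set_option autoImplicit false
universe u
open CategoryTheory CategoryTheory.Limits DerivedCategory Pretriangulated ZeroObject
attribute [local instance] HasDerivedCategory.standard

namespace Groth.Agent.Lib.DMod_helper6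

open DRing

variable {A : Type u} [CommRing A]

/-- `A → End(A[0])` is bijective. -/
lemma toEnd_inD_self_bijective :
    Function.Bijective (fun a : A => a • (𝟙 (Dual.inD A A))) := by
  constructor
  · intro a b h
    have h1 : (DerivedCategory.singleFunctor (ModuleCat.{u} A) 0).map
        (a • 𝟙 (ModuleCat.of A A)) =
        (DerivedCategory.singleFunctor (ModuleCat.{u} A) 0).map (b • 𝟙 (ModuleCat.of A A)) := by
      rw [Functor.map_smul, Functor.map_smul, CategoryTheory.Functor.map_id]
      exact h
    have h2 := (DerivedCategory.singleFunctor (ModuleCat.{u} A) 0).map_injective h1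
    have h3 := congrArg (fun φ : ModuleCat.of A A ⟶ ModuleCat.of A A => φ.hom (1 : A)) h2
    simpa using h3
  · intro φ
    obtain ⟨ψ, hψ⟩ := (DerivedCategory.singleFunctor (ModuleCat.{u} A) 0).map_surjective φ
    refine ⟨ψ.hom (1 : A), ?_⟩
    have h1 : ψ = ψ.hom (1 : A) • 𝟙 (ModuleCat.of A A) := by
      ext
      simp
    show ψ.hom (1 : A) • 𝟙 (Dual.inD A A) = φ
    rw [← hψ]
    conv_rhs => rw [h1]
    rw [Functor.map_smul, CategoryTheory.Functor.map_id]

/-- `Hom(A[0], A[i]) = 0` for `i ≠ 0`. -/
lemma hom_inD_self_shift_subsingleton (i : ℤ) (hi : i ≠ 0) :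
    Subsingleton (Dual.inD A A ⟶ (Dual.inD A A)⟦i⟧) := by
  refine subsingleton_of_forall_eq 0 (fun f => ?_)
  rcases lt_or_gt_of_ne hi with h | h
  · haveI : DerivedCategory.IsGE ((Dual.inD A A)⟦i⟧) (-i) :=
      TStructure.t.isGE_shift (Dual.inD A A) 0 i (-i) (by omega)
    exact TStructure.t.zero f 0 (-i) (by omega)
  · haveI : Projective (ModuleCat.of A A) := (IsProjective.iff_projective A).1 inferInstance
    haveI : DerivedCategory.IsLE ((Dual.inD A A)⟦i⟧) (-i) :=
      TStructure.t.isLE_shift (Dual.inD A A) 0 i (-i) (by omega)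
    haveI : DerivedCategory.IsLE ((Dual.inD A A)⟦i⟧) (-1) :=
      TStructure.t.isLE_of_le _ (-i) (-1) (by omega)
    exact hom_single_eq_zero (ModuleCat.of A A) _ f

lemma finite_HD_inD_self (i : ℤ) : Module.Finite A (Dual.HD A (Dual.inD A A) i) := by
  by_cases hi : i = 0
  · subst hi
    have e : (DerivedCategory.homologyFunctor (ModuleCat.{u} A) 0).obj (Dual.inD A A) ≅
        ModuleCat.of A A :=
      (singleFunctorCompHomologyFunctorIso (ModuleCat.{u} A) 0).app (ModuleCat.of A A)
    exact Module.Finite.equiv e.symm.toLinearEquiv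
  · haveI := ModuleCat.subsingleton_of_isZero (isZero_HD_inD (ModuleCat.of A A) i hi)
    infer_instance

/-- S11185. -/
theorem isDualizing_self_of_regular [IsNoetherianRing A]
    (hreg : ∀ p : PrimeSpectrum A, IsRegularLocalRing (Localization.AtPrime p.asIdeal))
    (hdim : ringKrullDim A < ⊤) : Dual.IsDualizing A (Dual.inD A A) where
  isNoetherianRing := inferInstance
  finite_injective_dimension := by
    rcases subsingleton_or_nontrivial A with hA | hA
    · refine ⟨0, 0, fun M _ _ i _ => ?_⟩
      haveI : Subsingleton M := Module.subsingleton A M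
      have hz : IsZero (Dual.inD A M) :=
        (DerivedCategory.singleFunctor (ModuleCat.{u} A) 0).map_isZero
          (ModuleCat.isZero_of_subsingleton _)
      exact ⟨fun f g => hz.eq_of_src f g⟩
    · obtain ⟨d, hd⟩ : ∃ d : ℕ, ringKrullDim A = d := by
        have h1 : ringKrullDim A ≠ ⊥ :=
          bot_lt_iff_ne_bot.1 (lt_of_lt_of_le (WithBot.bot_lt_coe 0) ringKrullDim_nonneg_of_nontrivial)
        obtain ⟨x, hx⟩ := WithBot.ne_bot_iff_exists.1 h1
        have h2 : x ≠ ⊤ := by
          rintro rfl
          rw [← hx] at hdim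
          exact lt_irrefl _ hdim
        obtain ⟨n, hn⟩ := WithTop.ne_top_iff_exists.1 h2
        exact ⟨n, by rw [← hx, ← hn]; rfl⟩
      refine ⟨0, d, fun M _ _ i hi => ?_⟩
      refine subsingleton_of_forall_eq 0 (fun f => ?_)
      rcases hi with hi | hi
      · haveI : DerivedCategory.IsGE ((Dual.inD A A)⟦i⟧) (-i) :=
          TStructure.t.isGE_shift (Dual.inD A A) 0 i (-i) (by omega)
        exact TStructure.t.zero f 0 (-i) (by omega)
      · have hLle : DerivedCategory.IsLE ((Dual.inD A A)⟦i⟧) (-1 - d) := by
          haveI : DerivedCategory.IsLE ((Dual.inD A A)⟦i⟧) (-i) :=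
            TStructure.t.isLE_shift (Dual.inD A A) 0 i (-i) (by omega)
          exact TStructure.t.isLE_of_le _ (-i) (-1 - d) (by omega)
        exact hom_eq_zero_of_globalDim d
          (fun N => hasProjectiveDimensionLT_of_regular_of_krullDim hreg d hd N)
          (Dual.inD A M) ((Dual.inD A A)⟦i⟧) (-1) 0
          (by rw [show (-1 : ℤ) + 1 = 0 by norm_num]; infer_instance) inferInstance hLle f
  finite_cohomology := finite_HD_inD_self
  toEnd_bijective := toEnd_inD_self_bijective
  ext_self_subsingleton := hom_inD_self_shift_subsingleton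

end Groth.Agent.Lib.DMod_helper6
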