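import Mathlib
import Groth.Prelude.Def_DRing2
import Groth.Prelude.Def_DDual2
import Groth.Prelude.Def_Wider
import Groth.Prelude.Def_CAlg
import Groth.Agent.Lib.DMod75_helper6
import Groth.Agent.Lib.DMod104_helper6

/-!
# Regular noetherian rings of arbitrary dimension (helper6)

* `exists_bound_hom_inD_of_regular`: a finite module over a regular noetherian ring has finite
  projective dimension (`Ext^i(M, N) = 0` for `i > d`, uniformly in `N`), without any assumption
  on the Krull dimension of the ring.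
* `isDualizing_locD_inD_self_of_regular`: `R_P[0]` is a dualizing complex of `R_P`.
-/

set_option autoImplicit false
universe u
open CategoryTheory CategoryTheory.Limits Pretriangulated DerivedCategory ZeroObject
open scoped TensorProduct
attribute [local instance] HasDerivedCategory.standard

namespace Groth.Agent.Lib.DMod_helper6

open DRing CochainComplex Groth.Agent.ExtendScalarsLib

section RegBound

variable {R : Type u} [CommRing R] [IsNoetherianRing R]

theorem exists_bound_hom_inD_of_regular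
    (hreg : ∀ p : PrimeSpectrum R, IsRegularLocalRing (Localization.AtPrime p.asIdeal))
    (M : Type u) [AddCommGroup M] [Module R M] [Module.Finite R M] :
    ∃ d : ℕ, ∀ (N : ModuleCat.{u} R) (i : ℤ), (d : ℤ) < i →
      Subsingleton (Dual.inD R M ⟶ (Dual.inD R N)⟦i⟧) := by
  classical
  have hpc : IsPseudoCoherent' R (Dual.inD R M) :=
    (isPseudoCoherentModule'_iff_noeth M).2 inferInstance
  obtain ⟨E, b₁, hEb, hEff, ⟨e⟩⟩ := hpc
  have hex : ∀ j : ℤ, j ≠ 0 → E.ExactAt j := fun j hj =>
    (exactAt_iff_subsingleton_HD e j).2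
      (ModuleCat.subsingleton_of_isZero (isZero_HD_inD (ModuleCat.of R M) j hj))
  let G : ℕ → Set R := fun d => {g | HasTorAmplitudeIn (Localization.Away g)
    (0 - (d : ℤ) - 1 + 1) b₁
    (toD (((ES R (Localization.Away g)).mapHomologicalComplex (ComplexShape.up ℤ)).obj E))}
  have hmono : ∀ d d' : ℕ, d ≤ d' → G d ⊆ G d' := fun d d' hdd g hg =>
    hasTorAmplitudeIn_mono _ _ _ _ _ (by push_cast; omega) le_rfl hg
  have hloc : ∀ 𝔭 : PrimeSpectrum R, ∃ (d : ℕ) (g : R), g ∉ 𝔭.asIdeal ∧ g ∈ G d := by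
    intro 𝔭
    haveI := hreg 𝔭
    obtain ⟨dp, hdp⟩ := Groth.Agent.GlDim.exists_dim (Localization.AtPrime 𝔭.asIdeal)
    haveI : Module.Flat R (Localization.AtPrime 𝔭.asIdeal) :=
      IsLocalization.flat _ 𝔭.asIdeal.primeCompl
    have hKp : ∀ j : ℤ, (j < 0 ∨ 0 < j) →
        Subsingleton (Dual.HD (Localization.AtPrime 𝔭.asIdeal)
          (toD (((ES R (Localization.AtPrime 𝔭.asIdeal)).mapHomologicalComplex
            (ComplexShape.up ℤ)).obj E)) j) := fun j hj =>
      (exactAt_iff_subsingleton_HD (Iso.refl _) j).1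
        (exactAt_ESc_of_exactAt E j (hex j (by omega)))
    have hampp := hasTorAmplitudeIn_of_globalDim dp
      (fun M => Groth.Agent.GlDim.hasProjectiveDimensionLT_of_regular
          (Localization.AtPrime 𝔭.asIdeal) dp hdp M) _ 0 0 hKp
    obtain ⟨g, hg, hgamp⟩ := exists_away_hasTorAmplitudeIn E b₁ hEb hEff (0 - (dp : ℤ) - 1)
      (fun j hj => hex j (by omega)) 𝔭.asIdeal 0 (by rwa [sub_add_cancel])
    exact ⟨dp, g, hg, hgamp⟩
  have hG : Ideal.span (⋃ d, G d) = ⊤ := by
    by_contra hne
    obtain ⟨m, hm, hle⟩ := Ideal.exists_le_maximal _ hne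
    obtain ⟨d, g, hg, hgG⟩ := hloc ⟨m, hm.isPrime⟩
    exact hg (hle (Ideal.subset_span (Set.mem_iUnion.2 ⟨d, hgG⟩)))
  obtain ⟨s, hsG, hs⟩ := (Ideal.span_eq_top_iff_finite _).1 hG
  have hdeg : ∀ x : R, x ∈ (s : Set R) → ∃ d, x ∈ G d := fun x hx => Set.mem_iUnion.1 (hsG hx)
  let dx : R → ℕ := fun x => if hx : x ∈ (s : Set R) then (hdeg x hx).choose else 0
  let D : ℕ := s.sup dx
  have hsD : (s : Set R) ⊆ G D := by
    intro x hx
    have h1 : x ∈ G (dx x) := by
      simp only [dx, dif_pos hx]
      exact (hdeg x hx).choose_spec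
    exact hmono _ _ (Finset.le_sup (f := dx) (Finset.mem_coe.1 hx)) h1
  let f : Fin s.card → R := fun i => ((s.equivFin.symm i : s) : R)
  have hrange : Set.range f = (s : Set R) := by
    ext x
    constructor
    · rintro ⟨i, rfl⟩
      exact (s.equivFin.symm i).2
    · intro hx
      exact ⟨s.equivFin ⟨x, hx⟩, by simp [f]⟩
  have hf : Ideal.span (Set.range f) = ⊤ := by rw [hrange]; exact hs
  have hamp : HasTorAmplitudeIn R (0 - (D : ℤ) - 1 + 1) b₁ (toD E) :=
    hasTorAmplitudeIn_of_localization_away hf E _ _ (fun j => hsD (s.equivFin.symm j).2)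
  obtain ⟨T, b₂, hT, hTfp, ⟨eT⟩⟩ := exists_finite_projective_of_pc_of_torAmp (toD E)
    ⟨E, b₁, hEb, hEff, ⟨Iso.refl _⟩⟩ _ _ hamp
  refine ⟨D, fun N i hi => ?_⟩
  exact hom_subsingleton_of_projAmp T _ b₂ hT (fun j => (hTfp j).2) (Dual.inD R M) (eT ≪≫ e) N i
    (Or.inr (by omega))

/-- no negative Ext between modules -/
theorem subsingleton_hom_inD_of_neg (M N : Type u) [AddCommGroup M] [Module R M]
    [AddCommGroup N] [Module R N] (i : ℤ) (hi : i < 0) :
    Subsingleton (Dual.inD R M ⟶ (Dual.inD R N)⟦i⟧) := by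
  refine subsingleton_of_forall_eq 0 (fun f => ?_)
  haveI : DerivedCategory.IsGE ((Dual.inD R N)⟦i⟧) (-i) :=
    TStructure.t.isGE_shift (Dual.inD R N) 0 i (-i) (by omega)
  exact TStructure.t.zero f 0 (-i) (by omega)

theorem isDualizing_locD_inD_self_of_regular
    (hreg : ∀ p : PrimeSpectrum R, IsRegularLocalRing (Localization.AtPrime p.asIdeal))
    (P : Ideal R) [P.IsPrime] :
    Dual.IsDualizing (Localization.AtPrime P) (locD (Dual.inD R R) P) := by
  haveI := isNoetherianRing_atPrime P
  have hreg' : ∀ p : PrimeSpectrum (Localization.AtPrime P),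
      IsRegularLocalRing (Localization.AtPrime p.asIdeal) := by
    intro p
    haveI := hreg ⟨p.asIdeal.comap (algebraMap R (Localization.AtPrime P)), inferInstance⟩
    exact IsRegularLocalRing.of_ringEquiv
      (IsLocalization.localizationLocalizationAtPrimeIsoLocalization P.primeCompl
        p.asIdeal).toRingEquiv
  have h0 := isDualizing_self_of_regular hreg' ringKrullDim_lt_top
  have e : Dual.inD (Localization.AtPrime P) (Localization.AtPrime P) ≅
      locD (Dual.inD R R) P :=
    (inDIsoOfLinearEquiv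
      (TensorProduct.AlgebraTensorModule.rid R (Localization.AtPrime P)
        (Localization.AtPrime P)).symm) ≪≫
      (bcSingleIso (B := Localization.AtPrime P) R).symm
  exact isDualizing_of_iso e h0

end RegBound

end Groth.Agent.Lib.DMod_helper6
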