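import Mathlib
import Groth.Agent.Lib.PtDual_helper6
import Groth.Agent.Lib.RegPtDual_helper6
import Groth.Agent.Lib.DepthRingChange_helper5

/-!
# Codepth and `(S_k)` loci over quotients of regular rings are open (helper6)
-/

set_option autoImplicit false
universe u
open CategoryTheory CategoryTheory.Limits DerivedCategory Pretriangulated ZeroObject
open scoped Pointwise TensorProduct
attribute [local instance] HasDerivedCategory.standard

namespace Groth.Agent.Lib.DMod_helper6

open DRing Groth.Agent.ExtendScalarsLib Groth.Agent.Lib.DoubleLoc_helper6

section Transfer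

variable {R A : Type u} [CommRing R] [CommRing A] [IsNoetherianRing R] [IsNoetherianRing A]
  [Algebra R A] (hs : Function.Surjective (algebraMap R A))
  (M : Type u) [AddCommGroup M] [Module A M] [Module R M] [IsScalarTower R A M]
  [Module.Finite A M]

include hs in
theorem depth_dim_transfer (p : Ideal A) [p.IsPrime] :
    LocCoh.depth (Localization.AtPrime (p.comap (algebraMap R A)))
        (LocalizedModule (p.comap (algebraMap R A)).primeCompl M) =
      LocCoh.depth (Localization.AtPrime p) (LocalizedModule p.primeCompl M) ∧
    Module.supportDim (Localization.AtPrime (p.comap (algebraMap R A)))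
        (LocalizedModule (p.comap (algebraMap R A)).primeCompl M) =
      Module.supportDim (Localization.AtPrime p) (LocalizedModule p.primeCompl M) := by
  set P : Ideal R := p.comap (algebraMap R A) with hP
  haveI : IsNoetherianRing (Localization.AtPrime P) :=
    IsLocalization.isNoetherianRing P.primeCompl _ inferInstance
  haveI : IsNoetherianRing (Localization.AtPrime p) :=
    IsLocalization.isNoetherianRing p.primeCompl _ inferInstance
  letI algAB : Algebra (Localization.AtPrime P) (Localization.AtPrime p) :=
    (Localization.localRingHom P p (algebraMap R A) rfl).toAlgebra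
  haveI : IsLocalHom (algebraMap (Localization.AtPrime P) (Localization.AtPrime p)) :=
    (Localization.isLocalHom_localRingHom P p (algebraMap R A) rfl :
      IsLocalHom (Localization.localRingHom P p (algebraMap R A) rfl))
  have hsurj : Function.Surjective
      (algebraMap (Localization.AtPrime P) (Localization.AtPrime p)) :=
    RingHom.surjective_localRingHom_of_surjective (algebraMap R A) hs p
  haveI : Module.Finite (Localization.AtPrime P) (Localization.AtPrime p) :=
    Module.Finite.of_surjective (Algebra.linearMap _ _) hsurj
  letI modPN : Module (Localization.AtPrime P) (LocalizedModule p.primeCompl M) :=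
    Module.compHom _ (algebraMap (Localization.AtPrime P) (Localization.AtPrime p))
  haveI towPN : IsScalarTower (Localization.AtPrime P) (Localization.AtPrime p)
      (LocalizedModule p.primeCompl M) :=
    ⟨fun x y z => by
      rw [Algebra.smul_def, mul_smul]
      rfl⟩
  haveI : Module.Finite (Localization.AtPrime p) (LocalizedModule p.primeCompl M) :=
    Module.Finite.of_isLocalizedModule p.primeCompl (LocalizedModule.mkLinearMap p.primeCompl M)
  haveI : Module.Finite (Localization.AtPrime P) (LocalizedModule p.primeCompl M) :=
    Module.Finite.trans (Localization.AtPrime p) (LocalizedModule p.primeCompl M)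
  have hdepth : LocCoh.depth (Localization.AtPrime P) (LocalizedModule p.primeCompl M) =
      LocCoh.depth (Localization.AtPrime p) (LocalizedModule p.primeCompl M) :=
    Groth.Agent.DepthLib.depth_eq_of_isLocalHom _ _ _
  have hdim : Module.supportDim (Localization.AtPrime P) (LocalizedModule p.primeCompl M) =
      Module.supportDim (Localization.AtPrime p) (LocalizedModule p.primeCompl M) := by
    rw [Module.supportDim_eq_ringKrullDim_quotient_annihilator,
      Module.supportDim_eq_ringKrullDim_quotient_annihilator]
    let ψ : Localization.AtPrime P →+* (Localization.AtPrime p ⧸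
        Module.annihilator (Localization.AtPrime p) (LocalizedModule p.primeCompl M)) :=
      (Ideal.Quotient.mk _).comp (algebraMap _ _)
    have hψ : Function.Surjective ψ := Ideal.Quotient.mk_surjective.comp hsurj
    have hker : RingHom.ker ψ =
        Module.annihilator (Localization.AtPrime P) (LocalizedModule p.primeCompl M) := by
      ext x
      rw [RingHom.mem_ker, Module.mem_annihilator]
      show Ideal.Quotient.mk _ (algebraMap _ _ x) = 0 ↔ _
      rw [Ideal.Quotient.eq_zero_iff_mem, Module.mem_annihilator]
      exact Iff.rfl
    rw [← hker]
    exact ringKrullDim_eq_of_ringEquiv (RingHom.quotientKerEquivOfSurjective hψ)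
  -- comparison of the two localizations
  have hmon : Algebra.algebraMapSubmonoid A P.primeCompl = p.primeCompl :=
    Submonoid.map_comap_eq_of_surjective hs p.primeCompl
  haveI : IsLocalizedModule (Algebra.algebraMapSubmonoid A P.primeCompl)
      (LocalizedModule.mkLinearMap p.primeCompl M) := by
    rw [hmon]
    infer_instance
  haveI : IsLocalizedModule P.primeCompl
      ((LocalizedModule.mkLinearMap p.primeCompl M).restrictScalars R) :=
    IsLocalizedModule.restrictScalars P.primeCompl _
  let e0 : LocalizedModule P.primeCompl M ≃ₗ[R] LocalizedModule p.primeCompl M :=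
    IsLocalizedModule.iso P.primeCompl
      ((LocalizedModule.mkLinearMap p.primeCompl M).restrictScalars R)
  haveI : IsScalarTower R (Localization.AtPrime P) (LocalizedModule p.primeCompl M) :=
    IsScalarTower.of_algebraMap_smul (fun r x => by
      show (Localization.localRingHom P p (algebraMap R A) rfl (algebraMap R _ r)) • x = r • x
      rw [Localization.localRingHom_to_map, algebraMap_smul, algebraMap_smul])
  let e1 : LocalizedModule P.primeCompl M ≃ₗ[Localization.AtPrime P]
      LocalizedModule p.primeCompl M :=
    e0.extendScalarsOfIsLocalization P.primeCompl (Localization.AtPrime P)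
  have hdimQ : Module.supportDim (Localization.AtPrime P) (LocalizedModule P.primeCompl M) =
      Module.supportDim (Localization.AtPrime P) (LocalizedModule p.primeCompl M) :=
    Module.supportDim_eq_of_equiv e1
  have hdepthQ : LocCoh.depth (Localization.AtPrime P) (LocalizedModule P.primeCompl M) =
      LocCoh.depth (Localization.AtPrime P) (LocalizedModule p.primeCompl M) := by
    apply le_antisymm
    · exact Groth.Agent.Lib.SemiSk_helper6.depth_le (RingEquiv.refl _) e1.toAddEquiv
        (fun r m => e1.map_smul r m)
    · exact Groth.Agent.Lib.SemiSk_helper6.depth_le (RingEquiv.refl _) e1.symm.toAddEquiv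
        (fun r m => e1.symm.map_smul r m)
  exact ⟨hdepthQ.trans hdepth, hdimQ.trans hdim⟩

include hs in
theorem hasSkAt_transfer (k : ℕ) (p : Ideal A) [p.IsPrime] :
    EGA4.HasSkAt k A M p ↔ EGA4.HasSkAt k R M (p.comap (algebraMap R A)) := by
  rw [hasSkAt_iff, hasSkAt_iff]
  constructor
  · intro h Q hQ hQP
    haveI := hQ
    by_cases hker : RingHom.ker (algebraMap R A) ≤ Q
    · haveI hq : (Q.map (algebraMap R A)).IsPrime := Ideal.map_isPrime_of_surjective hs hker
      have hcm : (Q.map (algebraMap R A)).comap (algebraMap R A) = Q := by
        rw [Ideal.comap_map_of_surjective _ hs, ← RingHom.ker_eq_comap_bot, sup_eq_left.2 hker]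
      have hqp : Q.map (algebraMap R A) ≤ p := by
        have := Ideal.map_mono (f := algebraMap R A) hQP
        rwa [Ideal.map_comap_of_surjective _ hs] at this
      have h1 := h (Q.map (algebraMap R A)) hqp
      obtain ⟨hd, hdim⟩ := depth_dim_transfer hs M (Q.map (algebraMap R A))
      have h2 : SkPt M k ((Q.map (algebraMap R A)).comap (algebraMap R A)) := by
        unfold SkPt at h1 ⊢
        rw [hd, hdim]
        exact h1
      exact (skPt_congr M k hcm).1 h2
    · obtain ⟨a, ha, haQ⟩ := SetLike.not_le_iff_exists.1 hker
      haveI : Subsingleton (LocalizedModule Q.primeCompl M) :=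
        LocalizedModule.subsingleton_iff.2 (fun m => ⟨a, haQ, by
          rw [← algebraMap_smul A a m, (RingHom.mem_ker).1 ha, zero_smul]⟩)
      unfold SkPt
      rw [Module.supportDim_eq_bot_of_subsingleton, min_eq_right bot_le]
      exact bot_le
  · intro h q hq hqp
    haveI := hq
    have h1 := h (q.comap (algebraMap R A)) (Ideal.comap_mono hqp)
    obtain ⟨hd, hdim⟩ := depth_dim_transfer hs M q
    unfold SkPt at h1 ⊢
    rw [← hd, ← hdim]
    exact h1

end Transfer

section Final

variable (R A : Type u) [CommRing R] [CommRing A] [IsRegularRing R] [Algebra R A]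
  (hs : Function.Surjective (algebraMap R A))
  (M : Type u) [AddCommGroup M] [Module A M] [Module.Finite A M]

include hs

theorem isOpen_codepth_le_of_quotient_regular (n : ℕ) :
    IsOpen {p : PrimeSpectrum A |
      Module.supportDim (Localization.AtPrime p.asIdeal)
          (LocalizedModule p.asIdeal.primeCompl M) ≤
        ((LocCoh.depth (Localization.AtPrime p.asIdeal)
          (LocalizedModule p.asIdeal.primeCompl M) : ℕ∞) : WithBot ℕ∞) + n} := by
  haveI : IsNoetherianRing A := isNoetherianRing_of_surjective R A (algebraMap R A) hs
  letI : Module R M := Module.compHom M (algebraMap R A)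
  haveI : IsScalarTower R A M := ⟨fun x y z => by
    rw [Algebra.smul_def, mul_smul]
    rfl⟩
  haveI : Module.Finite R A := Module.Finite.of_surjective (Algebra.linearMap R A) hs
  haveI : Module.Finite R M := Module.Finite.trans A M
  have hreg : ∀ p : PrimeSpectrum R, IsRegularLocalRing (Localization.AtPrime p.asIdeal) :=
    fun p => inferInstance
  obtain ⟨d, hd⟩ := exists_bound_hom_inD_of_regular hreg M
  have hopen := isOpen_codepth_le_of_ptDualizing (Dual.inD R R) M
    (fun P => isDualizing_locD_inD_self_of_regular hreg P.asIdeal)
    (fun i => hom_finite_of_pseudoCoherent (Dual.inD R M) (isPseudoCoherentModule'_of_finite M) R i)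
    0 d (fun i hi => by
      rcases hi with hi | hi
      · exact subsingleton_hom_inD_of_neg M R i hi
      · exact hd (ModuleCat.of R R) i hi) 0 n
  have hcont := PrimeSpectrum.continuous_comap (algebraMap R A)
  convert hopen.preimage hcont using 1
  ext p
  obtain ⟨h1, h2⟩ := depth_dim_transfer hs M p.asIdeal
  have key : (Module.supportDim (Localization.AtPrime (p.asIdeal.comap (algebraMap R A)))
        (LocalizedModule (p.asIdeal.comap (algebraMap R A)).primeCompl M) ≤
      ((LocCoh.depth (Localization.AtPrime (p.asIdeal.comap (algebraMap R A)))
        (LocalizedModule (p.asIdeal.comap (algebraMap R A)).primeCompl M) : ℕ∞) :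
          WithBot ℕ∞) + n) ↔
      (Module.supportDim (Localization.AtPrime p.asIdeal)
          (LocalizedModule p.asIdeal.primeCompl M) ≤
        ((LocCoh.depth (Localization.AtPrime p.asIdeal)
          (LocalizedModule p.asIdeal.primeCompl M) : ℕ∞) : WithBot ℕ∞) + n) := by
    rw [h1, h2]
  exact key.symm

theorem isOpen_hasSkAt_of_quotient_regular (n : ℕ) :
    IsOpen {p : PrimeSpectrum A | EGA4.HasSkAt n A M p.asIdeal} := by
  haveI : IsNoetherianRing A := isNoetherianRing_of_surjective R A (algebraMap R A) hs
  letI : Module R M := Module.compHom M (algebraMap R A)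
  haveI : IsScalarTower R A M := ⟨fun x y z => by
    rw [Algebra.smul_def, mul_smul]
    rfl⟩
  haveI : Module.Finite R A := Module.Finite.of_surjective (Algebra.linearMap R A) hs
  haveI : Module.Finite R M := Module.Finite.trans A M
  have hreg : ∀ p : PrimeSpectrum R, IsRegularLocalRing (Localization.AtPrime p.asIdeal) :=
    fun p => inferInstance
  obtain ⟨d, hd⟩ := exists_bound_hom_inD_of_regular hreg M
  have hopen := isOpen_hasSkAt_of_ptDualizing (Dual.inD R R) M
    (fun P => isDualizing_locD_inD_self_of_regular hreg P.asIdeal)
    (fun i => hom_finite_of_pseudoCoherent (Dual.inD R M) (isPseudoCoherentModule'_of_finite M) R i)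
    0 d (fun i hi => by
      rcases hi with hi | hi
      · exact subsingleton_hom_inD_of_neg M R i hi
      · exact hd (ModuleCat.of R R) i hi) 0 n
  have hcont := PrimeSpectrum.continuous_comap (algebraMap R A)
  convert hopen.preimage hcont using 1
  ext p
  exact hasSkAt_transfer hs M n p.asIdeal

end Final

end Groth.Agent.Lib.DMod_helper6
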