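import Mathlib
import Groth.Prelude.Def_W4bk5brsh7111920
import Groth.Agent.Lib.RegQuotOpen_helper6
import Groth.Agent.Lib.DoubleLoc_helper6

/-!
# Adjusted depths under quotient rings and localization (helper6)
-/

set_option autoImplicit false
universe u

namespace Groth.Agent.Lib.AdjDepth_helper6

open Groth.Agent.Lib.DMod_helper6 Groth.Agent.Lib.DoubleLoc_helper6

theorem height_quot_eq {R S : Type*} [CommRing R] [CommRing S] (f : R →+* S)
    (hf : Function.Surjective f) (I p : Ideal R) (hp : RingHom.ker f = p) :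
    ((I ⊔ p).map (Ideal.Quotient.mk p)).height = (I.map f).height := by
  subst hp
  have hcomp : ((RingHom.quotientKerEquivOfSurjective hf : R ⧸ RingHom.ker f ≃+* S) :
      R ⧸ RingHom.ker f →+* S).comp (Ideal.Quotient.mk (RingHom.ker f)) = f := by
    ext x
    exact RingHom.quotientKerEquivOfSurjective_apply_mk hf x
  have h1 := (RingHom.quotientKerEquivOfSurjective hf).height_map
    ((I ⊔ RingHom.ker f).map (Ideal.Quotient.mk (RingHom.ker f)))
  rw [← h1]
  have h2 : ((I ⊔ RingHom.ker f).map (Ideal.Quotient.mk (RingHom.ker f))).map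
      (RingHom.quotientKerEquivOfSurjective hf) = I.map f := by
    change ((I ⊔ RingHom.ker f).map (Ideal.Quotient.mk (RingHom.ker f))).map
      ((RingHom.quotientKerEquivOfSurjective hf : R ⧸ RingHom.ker f ≃+* S) :
        R ⧸ RingHom.ker f →+* S) = _
    rw [Ideal.map_map, hcomp, Ideal.map_sup, (Ideal.map_eq_bot_iff_le_ker f).mpr le_rfl,
      sup_bot_eq]
  rw [h2]

theorem height_le_loc {R : Type u} [CommRing R] (S : Submonoid R) (a q : Ideal R)
    (Q : Ideal (Localization S)) (hQ : q.map (algebraMap R (Localization S)) = Q) :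
    ((a ⊔ q).map (Ideal.Quotient.mk q)).height ≤
      ((a.map (algebraMap R (Localization S)) ⊔ Q).map (Ideal.Quotient.mk Q)).height := by
  subst hQ
  rw [height_quot_eq (Ideal.Quotient.mk q) Ideal.Quotient.mk_surjective a q Ideal.mk_ker,
    height_quot_eq (Ideal.Quotient.mk (q.map (algebraMap R (Localization S))))
      Ideal.Quotient.mk_surjective (a.map (algebraMap R (Localization S))) _ Ideal.mk_ker]
  have h1 : (a.map (algebraMap R (Localization S))).map
      (Ideal.Quotient.mk (q.map (algebraMap R (Localization S)))) =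
      (a.map (Ideal.Quotient.mk q)).map
        (algebraMap (R ⧸ q) (Localization S ⧸ q.map (algebraMap R (Localization S)))) := by
    rw [Ideal.map_map, Ideal.map_map]
    congr 1
  rw [h1, ← IsLocalization.height_under (Algebra.algebraMapSubmonoid (R ⧸ q) S)
    ((a.map (Ideal.Quotient.mk q)).map
        (algebraMap (R ⧸ q) (Localization S ⧸ q.map (algebraMap R (Localization S)))))]
  exact Ideal.height_mono Ideal.le_comap_map

theorem adjDepth_eq_top_of_not_le {R : Type u} [CommRing R] (a c : Ideal R) (M : Type u)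
    [AddCommGroup M] [Module R M] [Module (R ⧸ c) M] [IsScalarTower R (R ⧸ c) M]
    (p : PrimeSpectrum R) (hc : ¬ c ≤ p.asIdeal) : LocCoh.adjDepth a M p = ⊤ := by
  obtain ⟨x, hxc, hxp⟩ := SetLike.not_le_iff_exists.1 hc
  haveI : Subsingleton (LocalizedModule p.asIdeal.primeCompl M) := by
    rw [LocalizedModule.subsingleton_iff]
    intro m
    refine ⟨x, hxp, ?_⟩
    have h0 : x • m = (0 : R ⧸ c) • m := by
      rw [← Ideal.Quotient.eq_zero_iff_mem.2 hxc, ← Ideal.Quotient.algebraMap_eq, algebraMap_smul]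
    rw [h0, zero_smul]
  unfold LocCoh.adjDepth LocCoh.depth LocCoh.idealDepth
  rw [if_pos (Subsingleton.elim _ _), top_add]

theorem adjDepth_quot {R : Type u} [CommRing R] [IsNoetherianRing R] (a c : Ideal R) (M : Type u)
    [AddCommGroup M] [Module R M] [Module (R ⧸ c) M] [IsScalarTower R (R ⧸ c) M]
    [Module.Finite R M] (P : PrimeSpectrum (R ⧸ c)) :
    LocCoh.adjDepth (a.map (Ideal.Quotient.mk c)) M P =
      LocCoh.adjDepth a M
        (⟨P.asIdeal.comap (Ideal.Quotient.mk c), inferInstance⟩ : PrimeSpectrum R) := by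
  haveI : Module.Finite (R ⧸ c) M := Module.Finite.of_restrictScalars_finite R (R ⧸ c) M
  have hs : Function.Surjective (algebraMap R (R ⧸ c)) := Ideal.Quotient.mk_surjective
  have h1 := (depth_dim_transfer hs M P.asIdeal).1
  have h2 : ((a.map (Ideal.Quotient.mk c) ⊔ P.asIdeal).map (Ideal.Quotient.mk P.asIdeal)).height =
      ((a ⊔ P.asIdeal.comap (Ideal.Quotient.mk c)).map
        (Ideal.Quotient.mk (P.asIdeal.comap (Ideal.Quotient.mk c)))).height := by
    rw [height_quot_eq (Ideal.Quotient.mk P.asIdeal) Ideal.Quotient.mk_surjective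
        (a.map (Ideal.Quotient.mk c)) P.asIdeal Ideal.mk_ker,
      height_quot_eq ((Ideal.Quotient.mk P.asIdeal).comp (Ideal.Quotient.mk c))
        (Ideal.Quotient.mk_surjective.comp Ideal.Quotient.mk_surjective) a
        (P.asIdeal.comap (Ideal.Quotient.mk c)) (by rw [← RingHom.comap_ker, Ideal.mk_ker]),
      Ideal.map_map]
  unfold LocCoh.adjDepth
  rw [h2]
  congr 1
  exact h1.symm

end Groth.Agent.Lib.AdjDepth_helper6
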