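import Mathlib
import Groth.Prelude.Def_W4bk5brsh7111920
import Groth.Agent.S11650

/-!
# Adjusted depths along chains of primes (helper7, S11651)
-/

namespace Groth.Agent.Lib.AdjDepthH7

universe u

lemma order_height_add_le {α β : Type*} [Preorder α] [Preorder β] (f : α → β) (hf : StrictMono f)
    (b : β) (hb : ∀ a, b ≤ f a) (y : α) :
    Order.height b + Order.height y ≤ Order.height (f y) := by
  have key : ∀ n : ℕ, ∀ y : α, (n : ℕ∞) ≤ Order.height y →
      Order.height b + n ≤ Order.height (f y) := by
    intro n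
    induction n with
    | zero =>
      intro y _
      simpa using Order.height_mono (hb y)
    | succ n ih =>
      intro y hy
      obtain ⟨l, hlast, hlen⟩ := Order.exists_series_of_le_height y hy
      have hi : n < l.length + 1 := by omega
      have hlt : l ⟨n, hi⟩ < y := by
        rw [← hlast]
        apply l.strictMono
        rw [Fin.lt_def]
        simp only [Fin.val_last]
        omega
      have h1 : (n : ℕ∞) ≤ Order.height (l ⟨n, hi⟩) := Order.index_le_height l ⟨n, hi⟩
      have h2 := ih _ h1
      have h3 := Order.height_add_one_le (hf hlt)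
      calc Order.height b + ((n + 1 : ℕ) : ℕ∞) = (Order.height b + n) + 1 := by
            push_cast; rw [add_assoc]
        _ ≤ Order.height (f (l ⟨n, hi⟩)) + 1 := add_le_add h2 le_rfl
        _ ≤ Order.height (f y) := h3
  rcases eq_or_ne (Order.height y) ⊤ with htop | hne
  · have : Order.height (f y) = ⊤ := by
      rw [ENat.eq_top_iff_forall_ge]
      intro n
      have := key n y (by rw [htop]; exact le_top)
      exact le_trans le_add_self this
    rw [this]
    exact le_top
  · obtain ⟨n, hn⟩ := ENat.ne_top_iff_exists.mp hne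
    rw [← hn]
    exact key n y (by rw [← hn])

variable {R : Type u} [CommRing R]

lemma height_add_height_le (p s q : Ideal R) [p.IsPrime] [s.IsPrime] [q.IsPrime] (hps : p ≤ s)
    (hsq : s ≤ q) :
    (s.map (Ideal.Quotient.mk p)).height + (q.map (Ideal.Quotient.mk s)).height ≤
      (q.map (Ideal.Quotient.mk p)).height := by
  haveI hsp : (s.map (Ideal.Quotient.mk p)).IsPrime :=
    Ideal.map_isPrime_of_surjective Ideal.Quotient.mk_surjective (by rw [Ideal.mk_ker]; exact hps)
  haveI hqs : (q.map (Ideal.Quotient.mk s)).IsPrime :=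
    Ideal.map_isPrime_of_surjective Ideal.Quotient.mk_surjective (by rw [Ideal.mk_ker]; exact hsq)
  haveI hqp : (q.map (Ideal.Quotient.mk p)).IsPrime :=
    Ideal.map_isPrime_of_surjective Ideal.Quotient.mk_surjective
      (by rw [Ideal.mk_ker]; exact hps.trans hsq)
  have hφ : Function.Surjective (Ideal.Quotient.factor hps) := Ideal.Quotient.factor_surjective hps
  have hf : StrictMono (PrimeSpectrum.comap (Ideal.Quotient.factor hps)) := by
    intro a b hab
    refine lt_of_le_of_ne ?_ ?_
    · show Ideal.comap (Ideal.Quotient.factor hps) a.asIdeal ≤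
        Ideal.comap (Ideal.Quotient.factor hps) b.asIdeal
      exact Ideal.comap_mono hab.le
    · intro h
      exact hab.ne (PrimeSpectrum.comap_injective_of_surjective _ hφ h)
  have h := order_height_add_le (PrimeSpectrum.comap (Ideal.Quotient.factor hps)) hf
    ⟨s.map (Ideal.Quotient.mk p), hsp⟩ (fun a => by
      show s.map (Ideal.Quotient.mk p) ≤ Ideal.comap (Ideal.Quotient.factor hps) a.asIdeal
      rw [Ideal.map_le_iff_le_comap]
      intro x hx
      show Ideal.Quotient.factor hps (Ideal.Quotient.mk p x) ∈ a.asIdeal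
      rw [Ideal.Quotient.factor_mk, Ideal.Quotient.eq_zero_iff_mem.mpr hx]
      exact zero_mem _) ⟨q.map (Ideal.Quotient.mk s), hqs⟩
  rw [← PrimeSpectrum.height_eq_orderHeight, ← PrimeSpectrum.height_eq_orderHeight,
    ← PrimeSpectrum.height_eq_orderHeight] at h
  refine h.trans (Ideal.height_mono ?_)
  show Ideal.comap (Ideal.Quotient.factor hps) (q.map (Ideal.Quotient.mk s)) ≤
    q.map (Ideal.Quotient.mk p)
  intro z hz
  obtain ⟨x, rfl⟩ := Ideal.Quotient.mk_surjective z
  rw [Ideal.mem_comap, Ideal.Quotient.factor_mk, Ideal.mem_quotient_iff_mem hsq] at hz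
  exact Ideal.mem_map_of_mem _ hz

theorem main [IsNoetherianRing R] (a : Ideal R) (M : Type u) [AddCommGroup M] [Module R M]
    [Module.Finite R M] (p q : PrimeSpectrum R)
    (hq : q.asIdeal ∈ (a ⊔ p.asIdeal).minimalPrimes)
    (hht : (q.asIdeal.map (Ideal.Quotient.mk p.asIdeal)).height =
      ((a ⊔ p.asIdeal).map (Ideal.Quotient.mk p.asIdeal)).height)
    (s : PrimeSpectrum R) (hps : p ≤ s) (hsq : s ≤ q) :
    LocCoh.adjDepth a M s ≤ LocCoh.adjDepth a M p := by
  unfold LocCoh.adjDepth
  have h1 := Groth.Agent.S11650.result R M p.asIdeal s.asIdeal hps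
  have haq : a ⊔ s.asIdeal ≤ q.asIdeal := sup_le (le_sup_left.trans hq.1.2) hsq
  have h2 : ((a ⊔ s.asIdeal).map (Ideal.Quotient.mk s.asIdeal)).height ≤
      (q.asIdeal.map (Ideal.Quotient.mk s.asIdeal)).height :=
    Ideal.height_mono (Ideal.map_mono haq)
  have h3 := height_add_height_le p.asIdeal s.asIdeal q.asIdeal hps hsq
  rw [← hht]
  refine (add_le_add h1 h2).trans ?_
  rw [add_assoc]
  exact add_le_add le_rfl h3

end Groth.Agent.Lib.AdjDepthH7
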