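import Mathlib

/-!
# The edge map `Ext^n(K, Φ a) → Ext^n(L K, a)` of an adjunction with exact left adjoint (helper8)
APPEND-ONLY once landed.
-/

set_option autoImplicit false
universe w w' v v' u u'
open CategoryTheory CategoryTheory.Limits Abelian

namespace Groth.Agent.Lib.AdjExtH8

variable {A : Type u} [Category.{v} A] [Abelian A] {B : Type u'} [Category.{v'} B] [Abelian B]
  [HasExt.{w} A] [HasExt.{w'} B]
  {L : B ⥤ A} {Φ : A ⥤ B} (adj : L ⊣ Φ) [L.Additive] [PreservesFiniteLimits L]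
  [PreservesFiniteColimits L] [Φ.Additive]

/-- the edge map -/
noncomputable def θ {K : B} {a : A} {n : ℕ} (x : Ext.{w'} K (Φ.obj a) n) : Ext.{w} (L.obj K) a n :=
  (x.mapExactFunctor L).comp (Ext.mk₀ (adj.counit.app a)) (add_zero n)

lemma θ_zero {K : B} {a : A} {n : ℕ} : θ adj (0 : Ext.{w'} K (Φ.obj a) n) = 0 := by
  unfold θ
  rw [Ext.mapExactFunctor_zero, Ext.zero_comp]

lemma θ_mk₀ {K : B} {a : A} (χ : K ⟶ Φ.obj a) :
    θ adj (Ext.mk₀ χ) = Ext.mk₀ ((adj.homEquiv K a).symm χ) := by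
  unfold θ
  rw [Ext.mapExactFunctor_mk₀, Ext.mk₀_comp_mk₀, Adjunction.homEquiv_counit]

lemma θ_mk₀_comp {K K' : B} {a : A} {n : ℕ} (χ : K' ⟶ K) (x : Ext.{w'} K (Φ.obj a) n) :
    θ adj ((Ext.mk₀ χ).comp x (zero_add n)) = (Ext.mk₀ (L.map χ)).comp (θ adj x) (zero_add n) := by
  unfold θ
  rw [Ext.mapExactFunctor_comp, Ext.mapExactFunctor_mk₀, Ext.comp_assoc_of_third_deg_zero]

/-- compatibility of `mapExactFunctor` with connecting homomorphisms along a morphism of short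
exact sequences -/
lemma map_comp_extClass {K : B} (T : ShortComplex B) (hT : T.ShortExact) (S : ShortComplex A)
    (hS : S.ShortExact) (φ : T.map L ⟶ S) {n n' : ℕ} (x₃ : Ext.{w'} K T.X₃ n) (h : n + 1 = n') :
    ((x₃.comp hT.extClass h).mapExactFunctor L).comp (Ext.mk₀ φ.τ₁) (add_zero n') =
      ((x₃.mapExactFunctor L).comp (Ext.mk₀ φ.τ₃) (add_zero n)).comp hS.extClass h := by
  have h1 : (x₃.comp hT.extClass h).mapExactFunctor L =
      (Ext.mapExactFunctor L x₃).comp (hT.map_of_exact L).extClass h :=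
    (Ext.mapExactFunctor_comp L x₃ hT.extClass h).trans
      (congrArg (fun e => (Ext.mapExactFunctor L x₃).comp e h)
        (Ext.mapExactFunctor_extClass L hT))
  have hnat := ShortComplex.ShortExact.extClass_naturality (hT.map_of_exact L) hS φ
  have h2 : ((Ext.mapExactFunctor L x₃).comp (hT.map_of_exact L).extClass h).comp
      (Ext.mk₀ φ.τ₁) (add_zero n') =
      (Ext.mapExactFunctor L x₃).comp ((hT.map_of_exact L).extClass.comp
        (Ext.mk₀ φ.τ₁) (add_zero 1)) h :=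
    Ext.comp_assoc_of_third_deg_zero _ _ _ h
  have h3 : (Ext.mapExactFunctor L x₃).comp ((Ext.mk₀ φ.τ₃).comp hS.extClass
      (zero_add 1)) h =
      ((Ext.mapExactFunctor L x₃).comp (Ext.mk₀ φ.τ₃) (add_zero n)).comp
        hS.extClass h :=
    (Ext.comp_assoc_of_second_deg_zero _ _ _ h).symm
  refine (congrArg (fun e => Ext.comp e (Ext.mk₀ φ.τ₁) (add_zero n')) h1).trans ?_
  refine h2.trans ?_
  refine (congrArg (fun e => (Ext.mapExactFunctor L x₃).comp e h) hnat).trans ?_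
  exact h3

/-- the counit as a morphism of short complexes -/
noncomputable def counitSC (S : ShortComplex A) : (S.map Φ).map L ⟶ S where
  τ₁ := adj.counit.app S.X₁
  τ₂ := adj.counit.app S.X₂
  τ₃ := adj.counit.app S.X₃
  comm₁₂ := (adj.counit.naturality S.f).symm
  comm₂₃ := (adj.counit.naturality S.g).symm

/-- compatibility of the edge map with connecting homomorphisms -/
lemma θ_comp_extClass {K : B} (S : ShortComplex A) (hS : S.ShortExact)
    (hΦS : (S.map Φ).ShortExact) {n n' : ℕ} (x₃ : Ext.{w'} K (Φ.obj S.X₃) n) (h : n + 1 = n') :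
    θ adj (a := S.X₁) (x₃.comp hΦS.extClass h) = (θ adj x₃).comp hS.extClass h :=
  map_comp_extClass (S.map Φ) hΦS S hS (counitSC adj S) x₃ h

section Inj

variable [PreservesFiniteLimits Φ] [Φ.PreservesInjectiveObjects]

/-- the edge map is injective in degree one -/
theorem θ_one_injective {K : B} (S : ShortComplex A) (hS : S.ShortExact) [Injective S.X₂]
    (y : Ext.{w'} K (Φ.obj S.X₁) 1) (hy : θ adj y = 0) : y = 0 := by
  obtain ⟨hT, hmono⟩ :=
    (Functor.preservesFiniteLimits_iff_forall_exact_map_and_mono Φ).1 inferInstance S hS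
  haveI : Mono (Φ.map S.f) := hmono
  haveI hm : Mono (cokernel.desc (S.map Φ).f (S.map Φ).g (S.map Φ).zero) :=
    hT.mono_cokernelDesc
  let S2 : ShortComplex B := ShortComplex.mk (Φ.map S.f) (cokernel.π (Φ.map S.f))
    (cokernel.condition (Φ.map S.f))
  have hS2 : S2.ShortExact := { exact := ShortComplex.exact_cokernel (Φ.map S.f) }
  haveI : Injective S2.X₂ := Φ.injective_obj S.X₂
  obtain ⟨x₃, hx₃⟩ : ∃ x₃ : Ext.{w'} K S2.X₃ 0, x₃.comp hS2.extClass (zero_add 1) = y :=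
    Ext.covariant_sequence_exact₁ _ hS2 y (Ext.eq_zero_of_injective _) (zero_add 1)
  obtain ⟨χ, rfl⟩ := (Ext.mk₀_bijective _ _).2 x₃
  obtain ⟨m, hmdef⟩ : ∃ m : cokernel (Φ.map S.f) ⟶ Φ.obj S.X₃,
      m = cokernel.desc (S.map Φ).f (S.map Φ).g (S.map Φ).zero := ⟨_, rfl⟩
  haveI : Mono m := by rw [hmdef]; exact hm
  have hπm : cokernel.π (Φ.map S.f) ≫ m = Φ.map S.g := by
    rw [hmdef]
    exact cokernel.π_desc _ _ _
  -- the comparison of short exact sequences
  let φ : S2.map L ⟶ S :=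
    { τ₁ := adj.counit.app S.X₁
      τ₂ := adj.counit.app S.X₂
      τ₃ := L.map m ≫ adj.counit.app S.X₃
      comm₁₂ := (adj.counit.naturality S.f).symm
      comm₂₃ := by
        show adj.counit.app S.X₂ ≫ S.g = L.map (cokernel.π (Φ.map S.f)) ≫ L.map m ≫
          adj.counit.app S.X₃
        rw [← Category.assoc, ← L.map_comp, hπm]
        exact (adj.counit.naturality S.g).symm }
  have hθ : θ adj ((Ext.mk₀ χ).comp hS2.extClass (zero_add 1)) =
      (Ext.mk₀ ((adj.homEquiv K S.X₃).symm (χ ≫ m))).comp hS.extClass (zero_add 1) := by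
    have h1 := map_comp_extClass (L := L) S2 hS2 S hS φ (Ext.mk₀ χ) (zero_add 1)
    rw [Ext.mapExactFunctor_mk₀, Ext.mk₀_comp_mk₀] at h1
    have h2 : L.map χ ≫ φ.τ₃ = (adj.homEquiv K S.X₃).symm (χ ≫ m) := by
      show L.map χ ≫ L.map m ≫ adj.counit.app S.X₃ = _
      rw [Adjunction.homEquiv_counit, L.map_comp, Category.assoc]
    rw [h2] at h1
    exact h1
  rw [hx₃, hy] at hθ
  obtain ⟨x₂, hx₂⟩ := Ext.covariant_sequence_exact₃ _ hS
    (Ext.mk₀ ((adj.homEquiv K S.X₃).symm (χ ≫ m))) (zero_add 1) hθ.symm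
  obtain ⟨ψ₂, rfl⟩ := (Ext.mk₀_bijective _ _).2 x₂
  rw [Ext.mk₀_comp_mk₀] at hx₂
  have hψ : ψ₂ ≫ S.g = (adj.homEquiv K S.X₃).symm (χ ≫ m) := (Ext.mk₀_bijective _ _).1 hx₂
  have h1 : adj.homEquiv K S.X₂ ψ₂ ≫ Φ.map S.g = χ ≫ m := by
    rw [← Adjunction.homEquiv_naturality_right, hψ]
    exact Equiv.apply_symm_apply _ _
  have h3 : adj.homEquiv K S.X₂ ψ₂ ≫ cokernel.π (Φ.map S.f) = χ := by
    apply (cancel_mono m).1
    rw [Category.assoc, hπm, h1]
  have h4 : (Ext.mk₀ (cokernel.π (Φ.map S.f))).comp hS2.extClass (zero_add 1) = 0 :=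
    hS2.comp_extClass
  rw [← hx₃, ← h3, ← Ext.mk₀_comp_mk₀_assoc, h4, Ext.comp_zero]

/-- the edge map is injective in degree two when `Φ` keeps the injective hull sequence exact
(i.e. `R¹Φ` vanishes on `S.X₁`) -/
theorem θ_two_injective [EnoughInjectives A] {K : B} (S : ShortComplex A) (hS : S.ShortExact)
    [Injective S.X₂] (hΦS : (S.map Φ).ShortExact)
    (y : Ext.{w'} K (Φ.obj S.X₁) 2) (hy : θ adj y = 0) : y = 0 := by
  haveI : Injective (S.map Φ).X₂ := Φ.injective_obj S.X₂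
  obtain ⟨x₃, hx₃⟩ : ∃ x₃ : Ext.{w'} K (Φ.obj S.X₃) 1, x₃.comp hΦS.extClass rfl = y :=
    Ext.covariant_sequence_exact₁ _ hΦS y (Ext.eq_zero_of_injective _) rfl
  have h1 : (θ adj x₃).comp hS.extClass rfl = 0 := by
    rw [← θ_comp_extClass adj S hS hΦS x₃ rfl, hx₃, hy]
  obtain ⟨x₂, hx₂⟩ := Ext.covariant_sequence_exact₃ _ hS (θ adj x₃) rfl h1
  have h2 : θ adj x₃ = 0 := by
    rw [← hx₂, Ext.eq_zero_of_injective x₂, Ext.zero_comp]
  obtain ⟨I'⟩ : Nonempty (InjectivePresentation S.X₃) := EnoughInjectives.presentation S.X₃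
  haveI : Injective I'.J := I'.injective
  haveI : Mono I'.f := I'.mono
  let S' : ShortComplex A := ShortComplex.mk I'.f (cokernel.π I'.f) (cokernel.condition I'.f)
  have hS' : S'.ShortExact := { exact := ShortComplex.exact_cokernel I'.f }
  haveI : Injective S'.X₂ := I'.injective
  have h3 : x₃ = 0 := θ_one_injective adj S' hS' x₃ h2
  rw [h3, Ext.zero_comp] at hx₃
  exact hx₃.symm

end Inj

end Groth.Agent.Lib.AdjExtH8
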