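import Mathlib
import Groth.Prelude.Def_DerCA

set_option autoImplicit false
set_option linter.style.haveILetI false
set_option linter.unusedSectionVars false

universe v u

open CategoryTheory Limits Pretriangulated Opposite

namespace Groth.Agent.Lib.EssConstH4

section Basic

variable {D : Type u} [Category.{v} D]

@[reassoc]
lemma tr_comp (X : ARSys.PS D) {a b c : ℕ} (hab : a ≤ b) (hbc : b ≤ c) :
    ARSys.tr X hbc ≫ ARSys.tr X hab = ARSys.tr X (hab.trans hbc) := by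
  dsimp only [ARSys.tr]
  rw [← X.map_comp]
  exact congrArg X.map (Subsingleton.elim _ _)

@[reassoc]
lemma tr_nat {X Y : ARSys.PS D} (f : X ⟶ Y) {a b : ℕ} (h : a ≤ b) :
    f.app (op b) ≫ ARSys.tr Y h = ARSys.tr X h ≫ f.app (op a) :=
  (f.naturality _).symm

@[reassoc]
lemma tr_nat' {X Y : ARSys.PS D} (f : X ⟶ Y) {a b : ℕ} (h : a ≤ b) :
    ARSys.tr X h ≫ f.app (op a) = f.app (op b) ≫ ARSys.tr Y h :=
  f.naturality _

@[reassoc]
lemma cone_tr {X : ARSys.PS D} {A : D} (c : (Functor.const ℕᵒᵖ).obj A ⟶ X) {a b : ℕ}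
    (h : a ≤ b) : c.app (op b) ≫ ARSys.tr X h = c.app (op a) := by
  have := c.naturality (homOfLE h).op
  simpa using this.symm

end Basic

section Tri

variable {D : Type u} [Category.{v} D] [Preadditive D] [HasZeroObject D] [HasShift D ℤ]
  [∀ n : ℤ, (shiftFunctor D n).Additive] [Pretriangulated D] [IsTriangulated D]

theorem main (X Y Z : ARSys.PS D) (f : X ⟶ Y) (g : Y ⟶ Z) (h : Z ⟶ X ⋙ shiftFunctor D (1 : ℤ))
    (hT : ∀ n : ℕ, Triangle.mk (f.app (op n)) (g.app (op n)) (h.app (op n)) ∈ distTriang D)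
    (hX : ∃ (A : D) (cA : (Functor.const ℕᵒᵖ).obj A ⟶ X), DerCA.IsEssConstant X A cA)
    (hZ : ∃ (C : D) (cC : (Functor.const ℕᵒᵖ).obj C ⟶ Z), DerCA.IsEssConstant Z C cC) :
    ∃ (B : D) (cB : (Functor.const ℕᵒᵖ).obj B ⟶ Y), DerCA.IsEssConstant Y B cB := by
  obtain ⟨A, cA, iA, sA, hsA, PX⟩ := hX
  obtain ⟨C, cC, iC, sC, hsC, PZ⟩ := hZ
  have hnat : ∀ {a b : ℕ} (hab : a ≤ b), ARSys.tr Z hab ≫ h.app (op a) =
      h.app (op b) ≫ (ARSys.tr X hab)⟦(1 : ℤ)⟧' := fun hab => h.naturality (homOfLE hab).op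
  obtain ⟨δ, hδdef⟩ : ∃ δ : C ⟶ A⟦(1 : ℤ)⟧, δ = cC.app (op iA) ≫ h.app (op iA) ≫ sA⟦(1 : ℤ)⟧' :=
    ⟨_, rfl⟩
  obtain ⟨B, α, β, hB⟩ := distinguished_cocone_triangle₂ δ
  -- compatibility of δ with the cones
  have E1 : ∀ n : ℕ, δ ≫ (cA.app (op n))⟦(1 : ℤ)⟧' = cC.app (op n) ≫ h.app (op n) := by
    intro n
    obtain ⟨m, hm1, hm2, hm⟩ := PX n
    have e1 : cC.app (op n) ≫ h.app (op n) =
        cC.app (op m) ≫ h.app (op m) ≫ (ARSys.tr X hm2)⟦(1 : ℤ)⟧' := by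
      rw [← cone_tr cC hm2, Category.assoc, hnat hm2]
    have e2 : cC.app (op iA) ≫ h.app (op iA) =
        cC.app (op m) ≫ h.app (op m) ≫ (ARSys.tr X hm1)⟦(1 : ℤ)⟧' := by
      rw [← cone_tr cC hm1, Category.assoc, hnat hm1]
    rw [e1, hm, hδdef, CategoryTheory.Functor.map_comp, CategoryTheory.Functor.map_comp, reassoc_of% e2]
    simp only [Category.assoc]
  -- the level i
  obtain ⟨i, hiC, hiA, hi⟩ := PZ iA
  obtain ⟨σ, hσdef⟩ : ∃ σ : X.obj (op i) ⟶ A, σ = ARSys.tr X hiA ≫ sA := ⟨_, rfl⟩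
  obtain ⟨τ, hτdef⟩ : ∃ τ : Z.obj (op i) ⟶ C, τ = ARSys.tr Z hiC ≫ sC := ⟨_, rfl⟩
  have E2 : h.app (op i) ≫ σ⟦(1 : ℤ)⟧' = τ ≫ δ := by
    rw [hσdef, hτdef, hδdef, CategoryTheory.Functor.map_comp, ← Category.assoc (h.app (op i)), ← hnat hiA, hi]
    simp only [Category.assoc]
  obtain ⟨ρ, hρ1, hρ2⟩ : ∃ ρ : Y.obj (op i) ⟶ B, f.app (op i) ≫ ρ = σ ≫ α ∧
      g.app (op i) ≫ τ = ρ ≫ β :=
    complete_distinguished_triangle_morphism₂ _ _ (hT i) hB σ τ E2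
  have hβ : ∀ n : ℕ, ∃ b : B ⟶ Y.obj (op n), α ≫ b = cA.app (op n) ≫ f.app (op n) ∧
      β ≫ cC.app (op n) = b ≫ g.app (op n) := fun n =>
    complete_distinguished_triangle_morphism₂ _ _ hB (hT n) (cA.app (op n)) (cC.app (op n)) (E1 n)
  choose bb hbb1 hbb2 using hβ
  have hbb2' : ∀ n, bb n ≫ g.app (op n) = β ≫ cC.app (op n) := fun n => (hbb2 n).symm
  have hσ : cA.app (op i) ≫ σ = 𝟙 A := by
    rw [hσdef, cone_tr_assoc cA hiA, hsA]
  have hτ : cC.app (op i) ≫ τ = 𝟙 C := by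
    rw [hτdef, cone_tr_assoc cC hiC, hsC]
  have hθ : ∀ (k : ℕ) (hk : i ≤ k), IsIso (bb k ≫ ARSys.tr Y hk ≫ ρ) := by
    intro k hk
    have c1 : α ≫ (bb k ≫ ARSys.tr Y hk ≫ ρ) = α := by
      rw [reassoc_of% (hbb1 k), tr_nat_assoc f hk, hρ1, cone_tr_assoc cA hk, reassoc_of% hσ]
      exact Category.id_comp _
    have c2 : (bb k ≫ ARSys.tr Y hk ≫ ρ) ≫ β = β := by
      rw [Category.assoc, Category.assoc, ← hρ2, tr_nat'_assoc g hk, reassoc_of% (hbb2' k),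
        cone_tr_assoc cC hk, hτ, Category.comp_id]
    let φ : Triangle.mk α β δ ⟶ Triangle.mk α β δ :=
      { hom₁ := 𝟙 _
        hom₂ := bb k ≫ ARSys.tr Y hk ≫ ρ
        hom₃ := 𝟙 _
        comm₁ := c1.trans (Category.id_comp α).symm
        comm₂ := (Category.comp_id β).trans c2.symm
        comm₃ := by
          show δ ≫ (𝟙 A)⟦(1 : ℤ)⟧' = 𝟙 C ≫ δ
          rw [CategoryTheory.Functor.map_id, Category.comp_id, Category.id_comp] }
    exact isIso₂_of_isIso₁₃ φ hB hB (by dsimp [φ]; infer_instance) (by dsimp [φ]; infer_instance)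
  -- the key claim
  have claim : ∀ n : ℕ, ∃ (k : ℕ) (hik : i ≤ k) (hnk : n ≤ k) (t : B ⟶ Y.obj (op n)),
      ARSys.tr Y hnk = ARSys.tr Y hik ≫ ρ ≫ t := by
    intro n
    obtain ⟨k₁, h1A, h1n, hk₁⟩ := PX n
    have hk1k : k₁ ≤ max k₁ i := le_max_left _ _
    have hik : i ≤ max k₁ i := le_max_right _ _
    obtain ⟨k, hkdef⟩ : ∃ k, k = max k₁ i := ⟨_, rfl⟩
    rw [← hkdef] at hk1k hik
    have hnk : n ≤ k := h1n.trans hk1k
    have hkX : ARSys.tr X hnk = ARSys.tr X hik ≫ σ ≫ cA.app (op n) := by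
      have e1 : ARSys.tr X hnk = ARSys.tr X hk1k ≫ ARSys.tr X h1n := (tr_comp X h1n hk1k).symm
      have e2 : ARSys.tr X hik ≫ σ = ARSys.tr X hk1k ≫ ARSys.tr X h1A ≫ sA := by
        rw [hσdef, tr_comp_assoc X hiA hik, tr_comp_assoc X h1A hk1k]
      rw [e1, hk₁, ← Category.assoc (ARSys.tr X hik), e2]
      simp only [Category.assoc]
    have hd : f.app (op k) ≫ (ARSys.tr Y hnk - ARSys.tr Y hik ≫ ρ ≫ bb n) = 0 := by
      rw [Preadditive.comp_sub, sub_eq_zero, tr_nat f hnk, tr_nat_assoc f hik, reassoc_of% hρ1,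
        hbb1 n, hkX]
      simp only [Category.assoc]
    obtain ⟨u, hu⟩ : ∃ u : Z.obj (op k) ⟶ Y.obj (op n),
        ARSys.tr Y hnk - ARSys.tr Y hik ≫ ρ ≫ bb n = g.app (op k) ≫ u :=
      Triangle.yoneda_exact₂ _ (hT k) _ hd
    obtain ⟨k', h2C, h2k, hk'⟩ := PZ k
    have hik' : i ≤ k' := hik.trans h2k
    have hnk' : n ≤ k' := hnk.trans h2k
    refine ⟨k', hik', hnk', bb n + β ≫ cC.app (op k) ≫ u, ?_⟩
    have e3 : ARSys.tr Y hnk = ARSys.tr Y hik ≫ ρ ≫ bb n + g.app (op k) ≫ u :=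
      sub_eq_iff_eq_add'.1 hu
    have e4 : g.app (op k') ≫ ARSys.tr Z h2k = ARSys.tr Y hik' ≫ ρ ≫ β ≫ cC.app (op k) := by
      rw [hk', ← tr_comp_assoc Z hiC hik', tr_nat_assoc g hik', ← Category.assoc (ARSys.tr Z hiC),
        ← hτdef, reassoc_of% hρ2]
    rw [← tr_comp Y hnk h2k, e3]
    simp only [Preadditive.comp_add]
    rw [tr_comp_assoc Y hik h2k, tr_nat'_assoc g h2k, reassoc_of% e4]
  have uniq : ∀ (n k : ℕ) (hik : i ≤ k) (t t' : B ⟶ Y.obj (op n)),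
      ARSys.tr Y hik ≫ ρ ≫ t = ARSys.tr Y hik ≫ ρ ≫ t' → t = t' := by
    intro n k hik t t' ht
    haveI := hθ k hik
    rw [← cancel_epi (bb k ≫ ARSys.tr Y hik ≫ ρ)]
    simp only [Category.assoc]
    rw [ht]
  choose kk hik hnk tt htt using claim
  have nat : ∀ (n m : ℕ) (hnm : n ≤ m), tt m ≫ ARSys.tr Y hnm = tt n := by
    intro n m hnm
    have hmK : kk m ≤ max (kk m) (kk n) := le_max_left _ _
    have hnK : kk n ≤ max (kk m) (kk n) := le_max_right _ _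
    refine uniq n _ ((hik n).trans hnK) _ _ ?_
    have e1 : ARSys.tr Y ((hnk n).trans hnK) = ARSys.tr Y ((hik n).trans hnK) ≫ ρ ≫ tt n := by
      rw [← tr_comp Y (hnk n) hnK, htt n, tr_comp_assoc Y (hik n) hnK]
    have a : ARSys.tr Y ((hnk m).trans hmK) = ARSys.tr Y ((hik m).trans hmK) ≫ ρ ≫ tt m := by
      rw [← tr_comp Y (hnk m) hmK, htt m, tr_comp_assoc Y (hik m) hmK]
    have e2 : ARSys.tr Y (hnm.trans ((hnk m).trans hmK)) =
        ARSys.tr Y ((hik m).trans hmK) ≫ ρ ≫ tt m ≫ ARSys.tr Y hnm := by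
      rw [← tr_comp Y hnm ((hnk m).trans hmK), a]
      simp only [Category.assoc]
    exact e2.symm.trans e1
  let cB : (Functor.const ℕᵒᵖ).obj B ⟶ Y :=
    { app := fun n => tt n.unop
      naturality := by
        intro a b φ
        have hle : b.unop ≤ a.unop := leOfHom φ.unop
        have e : Y.map φ = ARSys.tr Y hle := congrArg Y.map (Subsingleton.elim _ _)
        rw [e, nat _ _ hle]
        simp }
  refine ⟨B, cB, i, ρ, ?_, ?_⟩
  · show tt i ≫ ρ = 𝟙 B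
    haveI := hθ (kk i) (hik i)
    rw [← cancel_epi (bb (kk i) ≫ ARSys.tr Y (hik i) ≫ ρ), Category.comp_id]
    simp only [Category.assoc]
    have e : ARSys.tr Y (hik i) ≫ ρ ≫ tt i = ARSys.tr Y (hik i) := (htt i).symm
    rw [reassoc_of% e]
  · intro j
    exact ⟨kk j, hik j, hnk j, htt j⟩

end Tri

end Groth.Agent.Lib.EssConstH4
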