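import Mathlib

set_option autoImplicit false
set_option linter.style.haveILetI false

universe w v u

open CategoryTheory Limits Pretriangulated DerivedCategory

namespace Groth.Agent.Lib.TruncChainH4

variable {A : Type u} [Category.{v} A] [Abelian A] [HasDerivedCategory.{w} A]

section Trunc

lemma trunc_isGE {X K Y : DerivedCategory A} {f : X ⟶ K} {g : K ⟶ Y} {h : Y ⟶ X⟦(1 : ℤ)⟧}
    (hT : Triangle.mk f g h ∈ distTriang (DerivedCategory A)) (n : ℤ)
    [X.IsLE (n - 1)] [Y.IsGE n] (a : ℤ) [K.IsGE a] : X.IsGE a := by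
  rw [isGE_iff]
  intro k hk
  by_cases hkn : k ≤ n
  · refine (HomologySequence.exact₁ _ hT (k - 1) k (by omega)).isZero_of_both_zeros ?_ ?_
    · exact (isZero_of_isGE Y n (k - 1) (by omega)).eq_of_src _ _
    · exact (isZero_of_isGE K a k hk).eq_of_tgt _ _
  · exact isZero_of_isLE X (n - 1) k (by omega)

lemma trunc_isLE {X K Y : DerivedCategory A} {f : X ⟶ K} {g : K ⟶ Y} {h : Y ⟶ X⟦(1 : ℤ)⟧}
    (hT : Triangle.mk f g h ∈ distTriang (DerivedCategory A)) (n : ℤ)
    [X.IsLE (n - 1)] [K.IsLE n] : Y.IsLE n := by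
  rw [isLE_iff]
  intro k hk
  refine (HomologySequence.exact₃ _ hT k (k + 1) rfl).isZero_of_both_zeros ?_ ?_
  · exact (isZero_of_isLE K n k hk).eq_of_src _ _
  · exact (isZero_of_isLE X (n - 1) (k + 1) (by omega)).eq_of_tgt _ _

lemma trunc_mono {X K Y : DerivedCategory A} {f : X ⟶ K} {g : K ⟶ Y} {h : Y ⟶ X⟦(1 : ℤ)⟧}
    (hT : Triangle.mk f g h ∈ distTriang (DerivedCategory A)) (n : ℤ)
    [Y.IsGE n] (p : ℤ) (hp : p ≤ n) : Mono ((homologyFunctor A p).map f) :=
  (HomologySequence.mono_homologyMap_mor₁_iff _ hT (p - 1) p (by omega)).2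
    ((isZero_of_isGE Y n (p - 1) (by omega)).eq_of_src _ _)

lemma trunc_isIso_g {X K Y : DerivedCategory A} {f : X ⟶ K} {g : K ⟶ Y} {h : Y ⟶ X⟦(1 : ℤ)⟧}
    (hT : Triangle.mk f g h ∈ distTriang (DerivedCategory A)) (n : ℤ)
    [X.IsLE (n - 1)] : IsIso ((homologyFunctor A n).map g) := by
  haveI : Mono ((homologyFunctor A n).map g) :=
    (HomologySequence.mono_homologyMap_mor₂_iff _ hT n).2
      ((isZero_of_isLE X (n - 1) n (by omega)).eq_of_src _ _)
  haveI : Epi ((homologyFunctor A n).map g) :=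
    (HomologySequence.epi_homologyMap_mor₂_iff _ hT n (n + 1) rfl).2
      ((isZero_of_isLE X (n - 1) (n + 1) (by omega)).eq_of_tgt _ _)
  exact isIso_of_mono_of_epi _

end Trunc

lemma isIso_of_isGE_isLE {X Y : DerivedCategory A} (n : ℤ) [X.IsGE n] [X.IsLE n]
    [Y.IsGE n] [Y.IsLE n] (u : X ⟶ Y) [hu : IsIso ((homologyFunctor A n).map u)] : IsIso u := by
  rw [isIso_iff]
  intro p
  by_cases hp : p = n
  · rw [hp]
    exact hu
  · have hX : IsZero ((homologyFunctor A p).obj X) := by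
      rcases lt_or_gt_of_ne hp with h | h
      · exact isZero_of_isGE X n p h
      · exact isZero_of_isLE X n p h
    have hY : IsZero ((homologyFunctor A p).obj Y) := by
      rcases lt_or_gt_of_ne hp with h | h
      · exact isZero_of_isGE Y n p h
      · exact isZero_of_isLE Y n p h
    exact ⟨⟨0, hX.eq_of_src _ _, hY.eq_of_src _ _⟩⟩

/-- A map from an object `≤ n` to an object concentrated in degree `n` vanishes as soon as it
vanishes on `Hⁿ`. -/
lemma eq_zero_of_homology {X Y : DerivedCategory A} (n : ℤ) [X.IsLE n] [Y.IsGE n] [Y.IsLE n]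
    (u : X ⟶ Y) (hu : (homologyFunctor A n).map u = 0) : u = 0 := by
  obtain ⟨X', X'', hX', hX'', ι, q, δ, hT⟩ := TStructure.t.exists_triangle X (n - 1) n (by omega)
  haveI : X'.IsLE (n - 1) := ⟨hX'⟩
  haveI : X''.IsGE n := ⟨hX''⟩
  haveI : X''.IsLE n := trunc_isLE hT n
  have h1 : ι ≫ u = 0 := TStructure.t.zero _ (n - 1) n (by omega)
  obtain ⟨u'', hu''⟩ : ∃ u'' : X'' ⟶ Y, u = q ≫ u'' := Triangle.yoneda_exact₂ _ hT u h1
  obtain ⟨M1, ⟨e1⟩⟩ := exists_iso_singleFunctor_obj_of_isGE_of_isLE X'' n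
  obtain ⟨M2, ⟨e2⟩⟩ := exists_iso_singleFunctor_obj_of_isGE_of_isLE Y n
  haveI := trunc_isIso_g hT n
  have h2 : (homologyFunctor A n).map u'' = 0 := by
    have h2' : (homologyFunctor A n).map q ≫ (homologyFunctor A n).map u'' = 0 := by
      rw [← CategoryTheory.Functor.map_comp, ← hu'']
      exact hu
    exact (cancel_epi ((homologyFunctor A n).map q)).1 (by rw [h2', comp_zero])
  obtain ⟨φ, hφ⟩ := (singleFunctor A n).map_surjective (e1.inv ≫ u'' ≫ e2.hom)
  have h3 : φ = 0 := by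
    have nat := (singleFunctorCompHomologyFunctorIso A n).hom.naturality φ
    have h4 : (homologyFunctor A n).map ((singleFunctor A n).map φ) = 0 := by
      rw [hφ, CategoryTheory.Functor.map_comp, CategoryTheory.Functor.map_comp, h2, zero_comp,
        comp_zero]
    have h5 : (singleFunctorCompHomologyFunctorIso A n).hom.app M1 ≫ φ = 0 := by
      have h5' : (singleFunctorCompHomologyFunctorIso A n).hom.app M1 ≫ φ =
          (homologyFunctor A n).map ((singleFunctor A n).map φ) ≫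
            (singleFunctorCompHomologyFunctorIso A n).hom.app M2 := nat.symm
      rw [h5', h4, zero_comp]
    exact (cancel_epi ((singleFunctorCompHomologyFunctorIso A n).hom.app M1)).1
      (by rw [h5, comp_zero])
  have h6 : u'' = 0 := by
    have h6' : u'' = e1.hom ≫ (e1.inv ≫ u'' ≫ e2.hom) ≫ e2.inv := by
      simp only [Category.assoc, Iso.hom_inv_id, Category.comp_id, Iso.hom_inv_id_assoc]
    rw [h6', ← hφ, h3, CategoryTheory.Functor.map_zero, zero_comp, comp_zero]
  rw [hu'', h6, comp_zero]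

/-- `Chain a n c u m`: the morphism `u` is a composite of `m` morphisms, each inducing zero on `Hᵖ`
for `p < c`, between objects with cohomology in `[a, n]` (no condition on the last object). -/
inductive Chain (a n c : ℤ) : ∀ {X Y : DerivedCategory A}, (X ⟶ Y) → ℕ → Prop
  | id (X : DerivedCategory A) (hge : X.IsGE a) (hle : X.IsLE n) : Chain a n c (𝟙 X) 0
  | cons {X Y Z : DerivedCategory A} (f : X ⟶ Y) (u : Y ⟶ Z) (m : ℕ)
      (hge : X.IsGE a) (hle : X.IsLE n)
      (hf : ∀ p : ℤ, p < c → (homologyFunctor A p).map f = 0) (hu : Chain a n c u m) :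
      Chain a n c (f ≫ u) (m + 1)

lemma Chain.src {a n c : ℤ} {X Y : DerivedCategory A} {u : X ⟶ Y} {m : ℕ}
    (hu : Chain a n c u m) : X.IsGE a ∧ X.IsLE n := by
  cases hu with
  | id X hge hle => exact ⟨hge, hle⟩
  | cons f u m hge hle hf hu => exact ⟨hge, hle⟩

lemma Chain.trunc {a n c : ℤ} (hc : n ≤ c) {X Y : DerivedCategory A} {u : X ⟶ Y} {m : ℕ}
    (hu : Chain a n c u m) :
    ∀ {X' : DerivedCategory A} (ι : X' ⟶ X), X'.IsGE a → X'.IsLE (n - 1) →
      ∃ (Y' : DerivedCategory A) (ιY : Y' ⟶ Y) (u' : X' ⟶ Y'),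
        Chain a (n - 1) (n - 1 + 1) u' m ∧ ι ≫ u = u' ≫ ιY := by
  induction hu with
  | id X hge hle =>
    intro X' ι h1 h2
    exact ⟨X', ι, 𝟙 X', Chain.id X' h1 h2, by rw [Category.comp_id, Category.id_comp]⟩
  | @cons X Y Z f u m hge hle hf hu ih =>
    intro X' ι h1 h2
    obtain ⟨hYge, hYle⟩ := hu.src
    haveI := hYge
    haveI := hYle
    haveI := h1
    haveI := h2
    obtain ⟨Y', Y'', hY', hY'', ιY, qY, δ, hT⟩ :=
      TStructure.t.exists_triangle Y (n - 1) n (by omega)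
    haveI hY'le : Y'.IsLE (n - 1) := ⟨hY'⟩
    haveI hY''ge : Y''.IsGE n := ⟨hY''⟩
    haveI hY'ge : Y'.IsGE a := trunc_isGE hT n a
    have h3 : (ι ≫ f) ≫ qY = 0 := TStructure.t.zero _ (n - 1) n (by omega)
    obtain ⟨g, hg⟩ : ∃ g : X' ⟶ Y', ι ≫ f = g ≫ ιY :=
      Triangle.coyoneda_exact₂ _ hT (ι ≫ f) h3
    have hg0 : ∀ p : ℤ, p < n - 1 + 1 → (homologyFunctor A p).map g = 0 := by
      intro p hp
      haveI := trunc_mono hT n p (by omega)
      have h4 : (homologyFunctor A p).map g ≫ (homologyFunctor A p).map ιY = 0 := by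
        rw [← CategoryTheory.Functor.map_comp, ← hg, CategoryTheory.Functor.map_comp,
          hf p (by omega), comp_zero]
      exact (cancel_mono ((homologyFunctor A p).map ιY)).1 (by rw [h4, zero_comp])
    obtain ⟨Z', ιZ, u', hu', e⟩ := ih ιY hY'ge hY'le
    refine ⟨Z', ιZ, g ≫ u', Chain.cons g u' m h1 h2 hg0 hu', ?_⟩
    rw [← Category.assoc, hg, Category.assoc, e, Category.assoc]

/-- A composite of `m` maps, all zero on cohomology, between objects of amplitude `≤ m`
vanishes. -/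
lemma Chain.eq_zero : ∀ (m : ℕ) (a n : ℤ), n < a + m →
    ∀ {X Y : DerivedCategory A} (u : X ⟶ Y), Chain a n (n + 1) u m → u = 0 := by
  intro m
  induction m with
  | zero =>
    intro a n hlt X Y u hu
    have hlt' : n < a := by simpa using hlt
    cases hu with
    | id X hge hle =>
      haveI := hge
      haveI := hle
      have hz : IsZero X := TStructure.t.isZero X n a hlt'
      exact (IsZero.iff_id_eq_zero X).1 hz
  | succ m ih =>
    intro a n hlt X Y w hw
    cases hw with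
    | @cons X Y Z f u _ hge hle hf hu =>
      obtain ⟨hYge, hYle⟩ := hu.src
      haveI := hYge
      haveI := hYle
      haveI := hge
      haveI := hle
      obtain ⟨Y', Y'', hY', hY'', ιY, qY, δ, hT⟩ :=
        TStructure.t.exists_triangle Y (n - 1) n (by omega)
      haveI hY'le : Y'.IsLE (n - 1) := ⟨hY'⟩
      haveI hY''ge : Y''.IsGE n := ⟨hY''⟩
      haveI hY'ge : Y'.IsGE a := trunc_isGE hT n a
      haveI hY''le : Y''.IsLE n := trunc_isLE hT n
      have h1 : f ≫ qY = 0 := by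
        apply eq_zero_of_homology n
        rw [CategoryTheory.Functor.map_comp, hf n (by omega), zero_comp]
      obtain ⟨f', hf'⟩ : ∃ f' : X ⟶ Y', f = f' ≫ ιY := Triangle.coyoneda_exact₂ _ hT f h1
      obtain ⟨Z', ιZ, u', hu', e⟩ := hu.trunc (by omega) ιY hY'ge hY'le
      have h2 : u' = 0 := ih a (n - 1) (by push_cast at hlt; omega) u' hu'
      rw [hf', Category.assoc, e, h2, zero_comp, comp_zero]

theorem main (k : ℕ) (K : ComposableArrows (DerivedCategory A) (2 * k))
    (hK : ∀ (i : ℕ) (hi : i ≤ 2 * k) (p : ℤ), p < 0 ∨ (k : ℤ) < p →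
      IsZero ((homologyFunctor A p).obj (K.obj' i)))
    (hf : ∀ (i : ℕ) (hi : i < 2 * k) (p : ℤ), p < (k : ℤ) →
      (homologyFunctor A p).map (K.map' i (i + 1)) = 0)
    (π : K.obj' 0 ⟶ (singleFunctor A (k : ℤ)).obj
      ((homologyFunctor A (k : ℤ)).obj (K.obj' 0)))
    (hπ : (homologyFunctor A (k : ℤ)).map π ≫
      (singleFunctorCompHomologyFunctorIso A (k : ℤ)).hom.app
        ((homologyFunctor A (k : ℤ)).obj (K.obj' 0)) = 𝟙 _) :
    ∃ φ : (singleFunctor A (k : ℤ)).obj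
        ((homologyFunctor A (k : ℤ)).obj (K.obj' 0)) ⟶ K.obj' (2 * k),
      K.map' 0 (2 * k) = π ≫ φ := by
  have hge : ∀ (i : ℕ) (hi : i ≤ 2 * k), (K.obj' i).IsGE 0 := fun i hi => by
    rw [isGE_iff]
    intro p hp
    exact hK i hi p (Or.inl hp)
  have hle : ∀ (i : ℕ) (hi : i ≤ 2 * k), (K.obj' i).IsLE (k : ℤ) := fun i hi => by
    rw [isLE_iff]
    intro p hp
    exact hK i hi p (Or.inr hp)
  have hchain : ∀ (j i l : ℕ) (hil : l = i + j) (hl : l ≤ 2 * k),
      Chain (0 : ℤ) (k : ℤ) (k : ℤ) (K.map' i l (by omega) hl) j := by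
    intro j
    induction j with
    | zero =>
      intro i l hil hl
      obtain rfl : l = i := by omega
      have h0 : K.map' l l (le_refl l) hl = 𝟙 _ := K.map'_self l hl
      rw [h0]
      exact Chain.id _ (hge l hl) (hle l hl)
    | succ j ih =>
      intro i l hil hl
      have h1 : K.map' i l (by omega) hl =
          K.map' i (i + 1) (by omega) (by omega) ≫ K.map' (i + 1) l (by omega) hl :=
        K.map'_comp i (i + 1) l (by omega) (by omega) hl
      rw [h1]
      exact Chain.cons _ _ j (hge i (by omega)) (hle i (by omega))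
        (fun p hp => hf i (by omega) p hp) (ih (i + 1) l (by omega) hl)
  obtain ⟨X', Y'', hX', hY'', ι, q, δ, hT⟩ :=
    TStructure.t.exists_triangle (K.obj' 0) ((k : ℤ) - 1) (k : ℤ) (by omega)
  haveI := hge 0 (by omega)
  haveI := hle 0 (by omega)
  haveI : X'.IsLE ((k : ℤ) - 1) := ⟨hX'⟩
  haveI : Y''.IsGE (k : ℤ) := ⟨hY''⟩
  haveI hX'ge : X'.IsGE 0 := trunc_isGE hT (k : ℤ) 0
  haveI : Y''.IsLE (k : ℤ) := trunc_isLE hT (k : ℤ)
  obtain ⟨Z', ιZ, u', hu', e⟩ :=
    (hchain k 0 k (by omega) (by omega)).trunc (le_refl _) ι hX'ge inferInstance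
  have hu0 : u' = 0 := Chain.eq_zero k 0 ((k : ℤ) - 1) (by omega) u' hu'
  have h1 : ι ≫ K.map' 0 k (by omega) (by omega) = 0 := by rw [e, hu0, zero_comp]
  obtain ⟨w, hw⟩ : ∃ w : Y'' ⟶ K.obj' k (by omega),
      K.map' 0 k (by omega) (by omega) = q ≫ w := Triangle.yoneda_exact₂ _ hT _ h1
  have h2 : ι ≫ π = 0 := TStructure.t.zero _ ((k : ℤ) - 1) (k : ℤ) (by omega)
  obtain ⟨π'', hπ''⟩ : ∃ π'' : Y'' ⟶ _, π = q ≫ π'' := Triangle.yoneda_exact₂ _ hT π h2
  haveI hq : IsIso ((homologyFunctor A (k : ℤ)).map q) := trunc_isIso_g hT (k : ℤ)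
  haveI hπiso : IsIso ((homologyFunctor A (k : ℤ)).map π) := IsIso.of_isIso_fac_right hπ
  haveI : IsIso ((homologyFunctor A (k : ℤ)).map π'') := by
    have h3 : (homologyFunctor A (k : ℤ)).map q ≫ (homologyFunctor A (k : ℤ)).map π'' =
        (homologyFunctor A (k : ℤ)).map π := by
      rw [← CategoryTheory.Functor.map_comp, ← hπ'']
    exact IsIso.of_isIso_fac_left h3
  haveI : IsIso π'' := isIso_of_isGE_isLE (k : ℤ) π''
  refine ⟨inv π'' ≫ w ≫ K.map' k (2 * k) (by omega) (by omega), ?_⟩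
  rw [K.map'_comp 0 k (2 * k) (by omega) (by omega) (by omega), hw, hπ'']
  simp

end Groth.Agent.Lib.TruncChainH4
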