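import Mathlib
import Groth.Prelude.Def_DerCA
import Groth.Agent.Lib.EssConst_helper4
import Groth.Agent.Lib.TruncChain_helper4

set_option autoImplicit false
set_option linter.style.haveILetI false
set_option linter.unusedSectionVars false

universe w v u

open CategoryTheory Limits Pretriangulated DerivedCategory Opposite ZeroObject

namespace Groth.Agent.Lib.EssConstDH4

open Groth.Agent.Lib.EssConstH4 Groth.Agent.Lib.TruncChainH4

section General

variable {C : Type u} [Category.{v} C]

/-- transfer along an isomorphism of systems -/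
lemma essConstant_of_iso {W W' : ARSys.PS C} (e : W ≅ W')
    (h : ∃ (B : C) (c : (Functor.const ℕᵒᵖ).obj B ⟶ W), DerCA.IsEssConstant W B c) :
    ∃ (B : C) (c : (Functor.const ℕᵒᵖ).obj B ⟶ W'), DerCA.IsEssConstant W' B c := by
  obtain ⟨B, c, i, s, hs, P⟩ := h
  refine ⟨B, c ≫ e.hom, i, e.inv.app (op i) ≫ s, ?_, ?_⟩
  · rw [NatTrans.comp_app, Category.assoc, Iso.hom_inv_id_app_assoc, hs]
  · intro j
    obtain ⟨k, hi, hj, hk⟩ := P j
    refine ⟨k, hi, hj, ?_⟩
    have n1 : ARSys.tr W' hj = e.inv.app (op k) ≫ ARSys.tr W hj ≫ e.hom.app (op j) := by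
      rw [tr_nat' e.hom hj, Iso.inv_hom_id_app_assoc]
    have n2 : ARSys.tr W' hi ≫ e.inv.app (op i) = e.inv.app (op k) ≫ ARSys.tr W hi :=
      tr_nat' e.inv hi
    rw [n1, hk, NatTrans.comp_app]
    simp only [Category.assoc]
    rw [reassoc_of% n2]

lemma essConstant_of_isZero [HasZeroMorphisms C] [HasZeroObject C] (W : ARSys.PS C)
    (hW : ∀ n : ℕ, IsZero (W.obj (op n))) :
    ∃ (B : C) (c : (Functor.const ℕᵒᵖ).obj B ⟶ W), DerCA.IsEssConstant W B c :=
  ⟨0, 0, 0, 0, (isZero_zero C).eq_of_src _ _,
    fun j => ⟨j, Nat.zero_le j, le_rfl, (hW j).eq_of_src _ _⟩⟩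

/-- a cone from a compatible family -/
def mkCone (W : ARSys.PS C) (B : C) (t : ∀ n : ℕ, B ⟶ W.obj (op n))
    (nat : ∀ (n m : ℕ) (hnm : n ≤ m), t m ≫ ARSys.tr W hnm = t n) :
    (Functor.const ℕᵒᵖ).obj B ⟶ W where
  app := fun n => t n.unop
  naturality := by
    intro a b φ
    have hle : b.unop ≤ a.unop := leOfHom φ.unop
    have e : W.map φ = ARSys.tr W hle := congrArg W.map (Subsingleton.elim _ _)
    rw [e, nat _ _ hle]
    simp

end General

section Derived

variable {A : Type u} [Category.{v} A] [Abelian A] [HasDerivedCategory.{w} A]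

lemma homology_map_injective (a : ℤ) {P Q : DerivedCategory A} [P.IsLE a] [Q.IsGE a] [Q.IsLE a]
    {u v : P ⟶ Q} (h : (homologyFunctor A a).map u = (homologyFunctor A a).map v) : u = v := by
  rw [← sub_eq_zero]
  apply eq_zero_of_homology a
  rw [CategoryTheory.Functor.map_sub, h, sub_self]

lemma homology_map_surjective (a : ℤ) {P Q : DerivedCategory A} [P.IsGE a] [P.IsLE a]
    [Q.IsGE a] [Q.IsLE a]
    (φ : (homologyFunctor A a).obj P ⟶ (homologyFunctor A a).obj Q) :
    ∃ u : P ⟶ Q, (homologyFunctor A a).map u = φ := by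
  obtain ⟨M1, ⟨e1⟩⟩ := exists_iso_singleFunctor_obj_of_isGE_of_isLE P a
  obtain ⟨M2, ⟨e2⟩⟩ := exists_iso_singleFunctor_obj_of_isGE_of_isLE Q a
  obtain ⟨ψ, hψ⟩ : ∃ ψ : M1 ⟶ M2, ψ = (singleFunctorCompHomologyFunctorIso A a).inv.app M1 ≫
      (homologyFunctor A a).map e1.inv ≫ φ ≫ (homologyFunctor A a).map e2.hom ≫
        (singleFunctorCompHomologyFunctorIso A a).hom.app M2 := ⟨_, rfl⟩
  refine ⟨e1.hom ≫ (singleFunctor A a).map ψ ≫ e2.inv, ?_⟩
  have nat : (homologyFunctor A a).map ((singleFunctor A a).map ψ) =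
      (singleFunctorCompHomologyFunctorIso A a).hom.app M1 ≫ ψ ≫
        (singleFunctorCompHomologyFunctorIso A a).inv.app M2 := by
    have h := (singleFunctorCompHomologyFunctorIso A a).hom.naturality ψ
    have h' : (homologyFunctor A a).map ((singleFunctor A a).map ψ) ≫
        (singleFunctorCompHomologyFunctorIso A a).hom.app M2 =
        (singleFunctorCompHomologyFunctorIso A a).hom.app M1 ≫ ψ := h
    calc (homologyFunctor A a).map ((singleFunctor A a).map ψ)
        = ((homologyFunctor A a).map ((singleFunctor A a).map ψ) ≫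
          (singleFunctorCompHomologyFunctorIso A a).hom.app M2) ≫
            (singleFunctorCompHomologyFunctorIso A a).inv.app M2 := by simp
      _ = _ := by rw [h', Category.assoc]
  rw [CategoryTheory.Functor.map_comp, CategoryTheory.Functor.map_comp, nat, hψ]
  simp

lemma essConstant_single (a : ℤ) (X : ARSys.PS (DerivedCategory A))
    (hge : ∀ n : ℕ, (X.obj (op n)).IsGE a) (hle : ∀ n : ℕ, (X.obj (op n)).IsLE a)
    (hH : ∃ (B : A) (c : (Functor.const ℕᵒᵖ).obj B ⟶ X ⋙ homologyFunctor A a),
      DerCA.IsEssConstant (X ⋙ homologyFunctor A a) B c) :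
    ∃ (L : DerivedCategory A) (c : (Functor.const ℕᵒᵖ).obj L ⟶ X), DerCA.IsEssConstant X L c := by
  obtain ⟨B, c, i, s, hs, P⟩ := hH
  obtain ⟨ι, -⟩ : ∃ ι : (homologyFunctor A a).obj ((singleFunctor A a).obj B) ≅ B, True :=
    ⟨(singleFunctorCompHomologyFunctorIso A a).app B, trivial⟩
  have hc : ∀ n : ℕ, ∃ u : (singleFunctor A a).obj B ⟶ X.obj (op n),
      (homologyFunctor A a).map u = ι.hom ≫ c.app (op n) := fun n => by
    haveI := hge n
    haveI := hle n
    exact homology_map_surjective a _
  choose cL hcL using hc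
  obtain ⟨sL, hsL⟩ : ∃ u : X.obj (op i) ⟶ (singleFunctor A a).obj B,
      (homologyFunctor A a).map u = s ≫ ι.inv := by
    haveI := hge i
    haveI := hle i
    exact homology_map_surjective a _
  have natL : ∀ (n m : ℕ) (hnm : n ≤ m), cL m ≫ ARSys.tr X hnm = cL n := by
    intro n m hnm
    haveI := hge n
    haveI := hle n
    apply homology_map_injective a
    rw [CategoryTheory.Functor.map_comp, hcL, hcL, Category.assoc]
    congr 1
    exact cone_tr c hnm
  refine ⟨(singleFunctor A a).obj B, mkCone X _ cL natL, i, sL, ?_, ?_⟩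
  · show cL i ≫ sL = 𝟙 _
    apply homology_map_injective a
    rw [CategoryTheory.Functor.map_comp, hcL, hsL, CategoryTheory.Functor.map_id, Category.assoc,
      reassoc_of% hs]
    simp
  · intro j
    obtain ⟨k, hi, hj, hk⟩ := P j
    refine ⟨k, hi, hj, ?_⟩
    show ARSys.tr X hj = ARSys.tr X hi ≫ sL ≫ cL j
    haveI := hge j
    haveI := hle j
    haveI := hle k
    apply homology_map_injective a
    rw [CategoryTheory.Functor.map_comp, CategoryTheory.Functor.map_comp, hsL, hcL]
    simp only [Category.assoc, Iso.inv_hom_id_assoc]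
    exact hk

lemma isIso_homology_truncLEι (K : DerivedCategory A) (n p : ℤ) (hp : p ≤ n) :
    IsIso ((homologyFunctor A p).map ((TStructure.t.truncLEι n).app K)) := by
  have hT := TStructure.t.triangleLEGE_distinguished n (n + 1) rfl K
  haveI : Mono ((homologyFunctor A p).map ((TStructure.t.truncLEι n).app K)) :=
    (HomologySequence.mono_homologyMap_mor₁_iff _ hT (p - 1) p (by omega)).2
      ((isZero_of_isGE ((TStructure.t.truncGE (n + 1)).obj K) (n + 1) (p - 1)
        (by omega)).eq_of_src _ _)
  haveI : Epi ((homologyFunctor A p).map ((TStructure.t.truncLEι n).app K)) :=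
    (HomologySequence.epi_homologyMap_mor₁_iff _ hT p).2
      ((isZero_of_isGE ((TStructure.t.truncGE (n + 1)).obj K) (n + 1) p
        (by omega)).eq_of_tgt _ _)
  exact isIso_of_mono_of_epi _

lemma isIso_homology_truncGEπ (K : DerivedCategory A) (n p : ℤ) (hp : n ≤ p) :
    IsIso ((homologyFunctor A p).map ((TStructure.t.truncGEπ n).app K)) := by
  have hT := TStructure.t.triangleLEGE_distinguished (n - 1) n (by omega) K
  haveI : Mono ((homologyFunctor A p).map ((TStructure.t.truncGEπ n).app K)) :=
    (HomologySequence.mono_homologyMap_mor₂_iff _ hT p).2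
      ((isZero_of_isLE ((TStructure.t.truncLE (n - 1)).obj K) (n - 1) p
        (by omega)).eq_of_src _ _)
  haveI : Epi ((homologyFunctor A p).map ((TStructure.t.truncGEπ n).app K)) :=
    (HomologySequence.epi_homologyMap_mor₂_iff _ hT p (p + 1) rfl).2
      ((isZero_of_isLE ((TStructure.t.truncLE (n - 1)).obj K) (n - 1) (p + 1)
        (by omega)).eq_of_tgt _ _)
  exact isIso_of_mono_of_epi _

theorem step (d : ℕ) : ∀ (a b : ℤ), b ≤ a + d → ∀ (X : ARSys.PS (DerivedCategory A)),
    (∀ n : ℕ, (X.obj (op n)).IsGE a) → (∀ n : ℕ, (X.obj (op n)).IsLE b) →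
    (∀ i : ℤ, ∃ (B : A) (c : (Functor.const ℕᵒᵖ).obj B ⟶ X ⋙ homologyFunctor A i),
      DerCA.IsEssConstant (X ⋙ homologyFunctor A i) B c) →
    ∃ (L : DerivedCategory A) (c : (Functor.const ℕᵒᵖ).obj L ⟶ X),
      DerCA.IsEssConstant X L c := by
  induction d with
  | zero =>
    intro a b hab X hge hle hH
    have hle' : ∀ n : ℕ, (X.obj (op n)).IsLE a := fun n => by
      haveI := hle n
      exact TStructure.t.isLE_of_le _ b a (by simpa using hab)
    exact essConstant_single a X hge hle' (hH a)
  | succ d ih =>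
    intro a b hab X hge hle hH
    have hb : b - 1 + 1 = b := by omega
    let X' : ARSys.PS (DerivedCategory A) := X ⋙ TStructure.t.truncLE (b - 1)
    let X'' : ARSys.PS (DerivedCategory A) := X ⋙ TStructure.t.truncGE b
    let f' : X' ⟶ X :=
      { app := fun n => (TStructure.t.truncLEι (b - 1)).app (X.obj n)
        naturality := fun _ _ φ => (TStructure.t.truncLEι (b - 1)).naturality (X.map φ) }
    let g' : X ⟶ X'' :=
      { app := fun n => (TStructure.t.truncGEπ b).app (X.obj n)
        naturality := fun _ _ φ => (TStructure.t.truncGEπ b).naturality (X.map φ) }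
    let h' : X'' ⟶ X' ⋙ shiftFunctor (DerivedCategory A) (1 : ℤ) :=
      { app := fun n => (TStructure.t.truncGEδLE (b - 1) b hb).app (X.obj n)
        naturality := fun _ _ φ => (TStructure.t.truncGEδLE (b - 1) b hb).naturality (X.map φ) }
    have hT : ∀ n : ℕ, Triangle.mk (f'.app (op n)) (g'.app (op n)) (h'.app (op n)) ∈
        distTriang (DerivedCategory A) := fun n =>
      TStructure.t.triangleLEGE_distinguished (b - 1) b hb (X.obj (op n))
    have hX' : ∃ (L : DerivedCategory A) (c : (Functor.const ℕᵒᵖ).obj L ⟶ X'),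
        DerCA.IsEssConstant X' L c := by
      apply ih a (b - 1) (by push_cast at hab; omega) X'
      · intro n
        haveI := hge n
        exact inferInstanceAs (TStructure.t.IsGE ((TStructure.t.truncLE (b - 1)).obj (X.obj (op n))) a)
      · intro n
        exact inferInstanceAs (TStructure.t.IsLE ((TStructure.t.truncLE (b - 1)).obj (X.obj (op n)))
          (b - 1))
      · intro i
        by_cases hi : i ≤ b - 1
        · haveI : ∀ n : ℕᵒᵖ, IsIso ((Functor.whiskerRight f' (homologyFunctor A i)).app n) :=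
            fun n => isIso_homology_truncLEι _ _ _ hi
          haveI : IsIso (Functor.whiskerRight f' (homologyFunctor A i)) :=
            NatIso.isIso_of_isIso_app _
          exact essConstant_of_iso (asIso (Functor.whiskerRight f' (homologyFunctor A i))).symm
            (hH i)
        · apply essConstant_of_isZero
          intro n
          exact isZero_of_isLE ((TStructure.t.truncLE (b - 1)).obj (X.obj (op n))) (b - 1) i
            (by omega)
    have hX'' : ∃ (L : DerivedCategory A) (c : (Functor.const ℕᵒᵖ).obj L ⟶ X''),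
        DerCA.IsEssConstant X'' L c := by
      apply essConstant_single b X''
      · intro n
        exact inferInstanceAs (TStructure.t.IsGE ((TStructure.t.truncGE b).obj (X.obj (op n))) b)
      · intro n
        haveI := hle n
        exact inferInstanceAs (TStructure.t.IsLE ((TStructure.t.truncGE b).obj (X.obj (op n))) b)
      · haveI : ∀ n : ℕᵒᵖ, IsIso ((Functor.whiskerRight g' (homologyFunctor A b)).app n) :=
          fun n => isIso_homology_truncGEπ _ _ _ le_rfl
        haveI : IsIso (Functor.whiskerRight g' (homologyFunctor A b)) :=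
          NatIso.isIso_of_isIso_app _
        exact essConstant_of_iso (asIso (Functor.whiskerRight g' (homologyFunctor A b))) (hH b)
    exact EssConstH4.main X' X X'' f' g' h' hT hX' hX''

theorem main6589 (X : ARSys.PS (DerivedCategory A)) (a b : ℤ) (hab : a ≤ b)
    (hX : ∀ (n : ℕ) (i : ℤ), i < a ∨ b < i →
      IsZero ((DerivedCategory.homologyFunctor A i).obj (X.obj (op n))))
    (hH : ∀ i : ℤ, ∃ (B : A) (c : (Functor.const ℕᵒᵖ).obj B ⟶
        X ⋙ DerivedCategory.homologyFunctor A i),
      DerCA.IsEssConstant (X ⋙ DerivedCategory.homologyFunctor A i) B c) :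
    ∃ (L : DerivedCategory A) (c : (Functor.const ℕᵒᵖ).obj L ⟶ X),
      DerCA.IsEssConstant X L c := by
  have h1 : b ≤ a + ((b - a).toNat : ℤ) := by
    have := Int.toNat_of_nonneg (sub_nonneg.2 hab)
    omega
  exact step (b - a).toNat a b h1 X
    (fun n => (isGE_iff _ a).2 (fun i hi => hX n i (Or.inl hi)))
    (fun n => (isLE_iff _ b).2 (fun i hi => hX n i (Or.inr hi))) hH

end Derived

end Groth.Agent.Lib.EssConstDH4
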