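import Mathlib
import Groth.Prelude.Def_WeakSerre
import Groth.Agent.Lib.EssConstD_helper4

set_option autoImplicit false
set_option linter.style.haveILetI false
set_option linter.unusedSectionVars false

universe w₁ w₂ v₁ v₂ u₁ u₂

open CategoryTheory Limits Pretriangulated DerivedCategory ZeroObject

namespace Groth.Agent.Lib.WayOutH4

open Groth.Agent.Lib.EssConstDH4

/-! ### The class of objects where a natural transformation is an isomorphism -/

section IsoProp

variable {C D : Type*} [Category C] [Category D] [HasZeroObject C] [HasZeroObject D]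
  [Preadditive C] [Preadditive D] [HasShift C ℤ] [HasShift D ℤ]
  [∀ n : ℤ, (shiftFunctor C n).Additive] [∀ n : ℤ, (shiftFunctor D n).Additive]
  [Pretriangulated C] [Pretriangulated D]
  {G₁ G₂ : C ⥤ D}

/-- objects where `φ` is an isomorphism -/
def isoProp (φ : G₁ ⟶ G₂) : ObjectProperty C := fun X => IsIso (φ.app X)

instance isoProp_closedUnderIso (φ : G₁ ⟶ G₂) : (isoProp φ).IsClosedUnderIsomorphisms where
  of_iso e hX := (NatTrans.isIso_app_iff_of_iso φ e).1 hX

variable [G₁.CommShift ℤ] [G₂.CommShift ℤ] [G₁.IsTriangulated] [G₂.IsTriangulated]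
  (φ : G₁ ⟶ G₂) [NatTrans.CommShift φ ℤ]

instance isoProp_isTriangulated : (isoProp φ).IsTriangulated where
  exists_zero := ⟨0, isZero_zero C, by
    have h1 : IsZero (G₁.obj 0) := G₁.map_isZero (isZero_zero C)
    have h2 : IsZero (G₂.obj 0) := G₂.map_isZero (isZero_zero C)
    exact ⟨⟨0, h1.eq_of_src _ _, h2.eq_of_src _ _⟩⟩⟩
  isStableUnderShiftBy a := ⟨by
    intro X hX
    haveI : IsIso (φ.app X) := hX
    show IsIso (φ.app (X⟦a⟧))
    rw [NatTrans.app_shift φ a X]
    infer_instance⟩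
  toIsTriangulatedClosed₂ := .mk' (fun T hT h₁ h₃ => by
    have comm₃ : (G₁.map T.mor₃ ≫ (G₁.commShiftIso (1 : ℤ)).hom.app T.obj₁) ≫
        (φ.app T.obj₁)⟦(1 : ℤ)⟧' =
        φ.app T.obj₃ ≫ G₂.map T.mor₃ ≫ (G₂.commShiftIso (1 : ℤ)).hom.app T.obj₁ := by
      rw [Category.assoc, NatTrans.shift_app_comm φ (1 : ℤ) T.obj₁, φ.naturality_assoc]
    exact isIso₂_of_isIso₁₃ (Triangle.homMk (G₁.mapTriangle.obj T) (G₂.mapTriangle.obj T)
      (φ.app T.obj₁) (φ.app T.obj₂) (φ.app T.obj₃) (φ.naturality T.mor₁) (φ.naturality T.mor₂)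
      comm₃) (G₁.map_distinguished T hT) (G₂.map_distinguished T hT) h₁ h₃)

end IsoProp

/-! ### Weak Serre five-term closure -/

section Five

lemma prop_of_five {C : Type*} [Category C] [Abelian C] (P : ObjectProperty C)
    [WSerre.IsWeakSerre P]
    {X₁ X₂ X₃ X₄ X₅ : C} (a : X₁ ⟶ X₂) (b : X₂ ⟶ X₃) (c : X₃ ⟶ X₄) (d : X₄ ⟶ X₅)
    (wab : a ≫ b = 0) (wbc : b ≫ c = 0) (wcd : c ≫ d = 0)
    (hab : (ShortComplex.mk a b wab).Exact) (hbc : (ShortComplex.mk b c wbc).Exact)
    (hcd : (ShortComplex.mk c d wcd).Exact)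
    (h₁ : P X₁) (h₂ : P X₂) (h₄ : P X₄) (h₅ : P X₅) : P X₃ := by
  have hcok : P (cokernel a) := P.prop_cokernel a h₁ h₂
  have hker : P (kernel d) := P.prop_kernel d h₄ h₅
  haveI m1 : Mono (cokernel.desc a b wab) := (ShortComplex.exact_iff_mono_cokernel_desc _).1 hab
  haveI m2 : Epi (kernel.lift d c wcd) := (ShortComplex.exact_iff_epi_kernel_lift _).1 hcd
  have w1 : cokernel.desc a b wab ≫ c = 0 := by
    rw [← cancel_epi (cokernel.π a)]; simp [wbc]
  have w' : cokernel.desc a b wab ≫ kernel.lift d c wcd = 0 := by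
    rw [← cancel_mono (kernel.ι d)]; simp [w1]
  have e1 : (ShortComplex.mk (cokernel.desc a b wab) c w1).Exact := by
    let φ : ShortComplex.mk b c wbc ⟶ ShortComplex.mk (cokernel.desc a b wab) c w1 :=
      { τ₁ := cokernel.π a, τ₂ := 𝟙 _, τ₃ := 𝟙 _
        comm₁₂ := by simp
        comm₂₃ := by simp }
    haveI : Epi φ.τ₁ := inferInstanceAs (Epi (cokernel.π a))
    haveI : IsIso φ.τ₂ := inferInstanceAs (IsIso (𝟙 X₃))
    haveI : Mono φ.τ₃ := inferInstanceAs (Mono (𝟙 X₄))
    exact (ShortComplex.exact_iff_of_epi_of_isIso_of_mono φ).1 hbc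
  have e2 : (ShortComplex.mk (cokernel.desc a b wab) (kernel.lift d c wcd) w').Exact := by
    let φ : ShortComplex.mk (cokernel.desc a b wab) (kernel.lift d c wcd) w' ⟶
        ShortComplex.mk (cokernel.desc a b wab) c w1 :=
      { τ₁ := 𝟙 _, τ₂ := 𝟙 _, τ₃ := kernel.ι d
        comm₁₂ := by simp
        comm₂₃ := by simp }
    haveI : Epi φ.τ₁ := inferInstanceAs (Epi (𝟙 (cokernel a)))
    haveI : IsIso φ.τ₂ := inferInstanceAs (IsIso (𝟙 X₃))
    haveI : Mono φ.τ₃ := inferInstanceAs (Mono (kernel.ι d))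
    exact (ShortComplex.exact_iff_of_epi_of_isIso_of_mono φ).2 e1
  exact P.prop_X₂_of_shortExact (ShortComplex.ShortExact.mk' e2 m1 m2) hcok hker

end Five

/-! ### Dévissage in the derived category -/

section Devissage

variable {A : Type u₁} [Category.{v₁} A] [Abelian A] [HasDerivedCategory.{w₁} A]

lemma single_case (𝒮 : ObjectProperty (DerivedCategory A)) [𝒮.IsTriangulated]
    [𝒮.IsClosedUnderIsomorphisms] (a : ℤ) (X : DerivedCategory A)
    [TStructure.t.IsGE X a] [TStructure.t.IsLE X a]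
    (h : 𝒮 ((singleFunctor A 0).obj ((homologyFunctor A a).obj X))) : 𝒮 X := by
  obtain ⟨M, ⟨e⟩⟩ := exists_iso_singleFunctor_obj_of_isGE_of_isLE X a
  have eM : (homologyFunctor A a).obj X ≅ M :=
    (homologyFunctor A a).mapIso e ≪≫ (singleFunctorCompHomologyFunctorIso A a).app M
  have h0 : 𝒮 ((singleFunctor A 0).obj M) := 𝒮.prop_of_iso ((singleFunctor A 0).mapIso eM) h
  have h1 : 𝒮 (((singleFunctor A 0).obj M)⟦-a⟧) := 𝒮.le_shift (-a) _ h0
  have e2 : ((singleFunctor A 0).obj M)⟦-a⟧ ≅ (singleFunctor A a).obj M :=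
    ((singleFunctors A).shiftIso (-a) a 0 (by omega)).app M
  exact 𝒮.prop_of_iso (e2 ≪≫ e.symm) h1

theorem bounded_devissage (𝒮 : ObjectProperty (DerivedCategory A)) [𝒮.IsTriangulated]
    [𝒮.IsClosedUnderIsomorphisms] (d : ℕ) :
    ∀ (a b : ℤ), b ≤ a + d → ∀ (X : DerivedCategory A), TStructure.t.IsGE X a →
      TStructure.t.IsLE X b →
      (∀ q : ℤ, 𝒮 ((singleFunctor A 0).obj ((homologyFunctor A q).obj X))) → 𝒮 X := by
  induction d with
  | zero =>
    intro a b hab X hge hle hH
    haveI := hge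
    haveI := hle
    haveI : TStructure.t.IsLE X a := TStructure.t.isLE_of_le X b a (by simpa using hab)
    exact single_case 𝒮 a X (hH a)
  | succ d ih =>
    intro a b hab X hge hle hH
    haveI := hge
    haveI := hle
    have hb : b - 1 + 1 = b := by omega
    have hT := TStructure.t.triangleLEGE_distinguished (b - 1) b hb X
    have h1 : 𝒮 ((TStructure.t.truncLE (b - 1)).obj X) := by
      refine ih a (b - 1) (by push_cast at hab; omega) _ ?_ ?_ ?_
      · exact inferInstanceAs (TStructure.t.IsGE ((TStructure.t.truncLE (b - 1)).obj X) a)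
      · exact inferInstanceAs (TStructure.t.IsLE ((TStructure.t.truncLE (b - 1)).obj X) (b - 1))
      · intro q
        by_cases hq : q ≤ b - 1
        · haveI := isIso_homology_truncLEι X (b - 1) q hq
          exact 𝒮.prop_of_iso ((singleFunctor A 0).mapIso
            (asIso ((homologyFunctor A q).map ((TStructure.t.truncLEι (b - 1)).app X)))).symm (hH q)
        · exact 𝒮.prop_of_isZero (Functor.map_isZero _
            (isZero_of_isLE ((TStructure.t.truncLE (b - 1)).obj X) (b - 1) q (by omega)))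
    have h3 : 𝒮 ((TStructure.t.truncGE b).obj X) := by
      haveI : TStructure.t.IsGE ((TStructure.t.truncGE b).obj X) b := inferInstance
      haveI : TStructure.t.IsLE ((TStructure.t.truncGE b).obj X) b := inferInstance
      apply single_case 𝒮 b
      haveI := isIso_homology_truncGEπ X b b le_rfl
      exact 𝒮.prop_of_iso ((singleFunctor A 0).mapIso
        (asIso ((homologyFunctor A b).map ((TStructure.t.truncGEπ b).app X)))) (hH b)
    exact 𝒮.ext_of_isTriangulatedClosed₂ _ hT h1 h3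

lemma isIso_homology_mor₁ (T : Triangle (DerivedCategory A)) (hT : T ∈ distTriang _) (m q : ℤ)
    (hq : q ≤ m) (h3 : TStructure.t.IsGE T.obj₃ (m + 1)) :
    IsIso ((homologyFunctor A q).map T.mor₁) := by
  haveI := h3
  haveI : Mono ((homologyFunctor A q).map T.mor₁) :=
    (HomologySequence.mono_homologyMap_mor₁_iff _ hT (q - 1) q (by omega)).2
      ((isZero_of_isGE T.obj₃ (m + 1) (q - 1) (by omega)).eq_of_src _ _)
  haveI : Epi ((homologyFunctor A q).map T.mor₁) :=
    (HomologySequence.epi_homologyMap_mor₁_iff _ hT q).2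
      ((isZero_of_isGE T.obj₃ (m + 1) q (by omega)).eq_of_tgt _ _)
  exact isIso_of_mono_of_epi _

/-! cohomology in a weak Serre class is a triangulated subcategory -/

instance cohIn_closedUnderIso (P : ObjectProperty A) [P.IsClosedUnderIsomorphisms] :
    (WSerre.cohIn P).IsClosedUnderIsomorphisms where
  of_iso e hX := fun i => P.prop_of_iso ((homologyFunctor A i).mapIso e) (hX i)

instance cohIn_isTriangulated (P : ObjectProperty A) [WSerre.IsWeakSerre P] :
    (WSerre.cohIn P).IsTriangulated where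
  exists_zero := ⟨0, isZero_zero _, fun i =>
    P.prop_of_isZero ((homologyFunctor A i).map_isZero (isZero_zero _))⟩
  isStableUnderShiftBy a := ⟨by
    intro X hX i
    exact P.prop_of_iso (((homologyFunctor A 0).shiftIso a i (a + i) rfl).app X).symm
      (hX (a + i))⟩
  toIsTriangulatedClosed₂ := .mk' (fun T hT h₁ h₃ q =>
    prop_of_five P (HomologySequence.δ T (q - 1) q (by omega))
      ((homologyFunctor A q).map T.mor₁) ((homologyFunctor A q).map T.mor₂)
      (HomologySequence.δ T q (q + 1) rfl) _ _ _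
      (HomologySequence.exact₁ T hT (q - 1) q (by omega)) (HomologySequence.exact₂ T hT q)
      (HomologySequence.exact₃ T hT q (q + 1) rfl) (h₃ (q - 1)) (h₁ q) (h₃ q) (h₁ (q + 1)))

end Devissage

/-! ### Way-out lemma and exact functors -/

section WayOut

variable {A₁ : Type u₁} [Category.{v₁} A₁] [Abelian A₁] [HasDerivedCategory.{w₁} A₁]
  {A₂ : Type u₂} [Category.{v₂} A₂] [Abelian A₂] [HasDerivedCategory.{w₂} A₂]

theorem isIso_of_boundedBelow {G₁ G₂ : DerivedCategory A₁ ⥤ DerivedCategory A₂}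
    [G₁.CommShift ℤ] [G₂.CommShift ℤ] [G₁.IsTriangulated] [G₂.IsTriangulated]
    (φ : G₁ ⟶ G₂) [NatTrans.CommShift φ ℤ]
    (hG₁ : ∀ (X : DerivedCategory A₁) (n : ℤ), TStructure.t.IsGE X n →
      TStructure.t.IsGE (G₁.obj X) n)
    (hG₂ : ∀ (X : DerivedCategory A₁) (n : ℤ), TStructure.t.IsGE X n →
      TStructure.t.IsGE (G₂.obj X) n)
    (X : DerivedCategory A₁) (n₀ : ℤ) (hX : TStructure.t.IsGE X n₀)
    (h : ∀ q : ℤ, IsIso (φ.app ((singleFunctor A₁ 0).obj ((homologyFunctor A₁ q).obj X)))) :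
    IsIso (φ.app X) := by
  haveI := hX
  rw [DerivedCategory.isIso_iff]
  intro q
  have hT := TStructure.t.triangleLEGE_distinguished q (q + 1) rfl X
  have hX' : isoProp φ ((TStructure.t.truncLE q).obj X) := by
    refine bounded_devissage (isoProp φ) (q - n₀).toNat n₀ q (by omega) _ ?_ ?_ ?_
    · exact inferInstanceAs (TStructure.t.IsGE ((TStructure.t.truncLE q).obj X) n₀)
    · exact inferInstanceAs (TStructure.t.IsLE ((TStructure.t.truncLE q).obj X) q)
    · intro p
      by_cases hp : p ≤ q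
      · haveI := isIso_homology_truncLEι X q p hp
        exact (isoProp φ).prop_of_iso ((singleFunctor A₁ 0).mapIso
          (asIso ((homologyFunctor A₁ p).map ((TStructure.t.truncLEι q).app X)))).symm (h p)
      · exact (isoProp φ).prop_of_isZero (Functor.map_isZero _
          (isZero_of_isLE ((TStructure.t.truncLE q).obj X) q p (by omega)))
  haveI hX'' : IsIso (φ.app ((TStructure.t.truncLE q).obj X)) := hX'
  haveI i1 : IsIso ((homologyFunctor A₂ q).map (G₁.map ((TStructure.t.truncLEι q).app X))) :=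
    isIso_homology_mor₁ (G₁.mapTriangle.obj _) (G₁.map_distinguished _ hT) q q le_rfl
      (hG₁ _ _ (inferInstanceAs
        (TStructure.t.IsGE ((TStructure.t.truncGE (q + 1)).obj X) (q + 1))))
  haveI i2 : IsIso ((homologyFunctor A₂ q).map (G₂.map ((TStructure.t.truncLEι q).app X))) :=
    isIso_homology_mor₁ (G₂.mapTriangle.obj _) (G₂.map_distinguished _ hT) q q le_rfl
      (hG₂ _ _ (inferInstanceAs
        (TStructure.t.IsGE ((TStructure.t.truncGE (q + 1)).obj X) (q + 1))))
  have e : (homologyFunctor A₂ q).map (G₁.map ((TStructure.t.truncLEι q).app X)) ≫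
      (homologyFunctor A₂ q).map (φ.app X) =
      (homologyFunctor A₂ q).map (φ.app ((TStructure.t.truncLE q).obj X)) ≫
        (homologyFunctor A₂ q).map (G₂.map ((TStructure.t.truncLEι q).app X)) := by
    rw [← CategoryTheory.Functor.map_comp, ← CategoryTheory.Functor.map_comp]
    exact congrArg (fun f => (homologyFunctor A₂ q).map f)
      (φ.naturality ((TStructure.t.truncLEι q).app X))
  haveI : IsIso ((homologyFunctor A₂ q).map (G₁.map ((TStructure.t.truncLEι q).app X)) ≫
      (homologyFunctor A₂ q).map (φ.app X)) := by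
    rw [e]; infer_instance
  exact IsIso.of_isIso_comp_left
    ((homologyFunctor A₂ q).map (G₁.map ((TStructure.t.truncLEι q).app X))) _

lemma isGE_rightAdjoint {L : DerivedCategory A₁ ⥤ DerivedCategory A₂}
    {R : DerivedCategory A₂ ⥤ DerivedCategory A₁} (adj : L ⊣ R)
    (hL : ∀ (Y : DerivedCategory A₁) (n : ℤ), TStructure.t.IsLE Y n →
      TStructure.t.IsLE (L.obj Y) n)
    (Z : DerivedCategory A₂) (n : ℤ) (hZ : TStructure.t.IsGE Z n) :
    TStructure.t.IsGE (R.obj Z) n := by
  haveI := hZ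
  rw [TStructure.t.isGE_iff_isZero_truncLE_obj (n - 1) n (by omega), IsZero.iff_id_eq_zero]
  haveI : TStructure.t.IsLE (L.obj ((TStructure.t.truncLE (n - 1)).obj (R.obj Z))) (n - 1) :=
    hL _ _ inferInstance
  have hz : ∀ g : L.obj ((TStructure.t.truncLE (n - 1)).obj (R.obj Z)) ⟶ Z, g = 0 :=
    fun g => TStructure.t.zero g (n - 1) n (by omega)
  have sub : ∀ f₁ f₂ : (TStructure.t.truncLE (n - 1)).obj (R.obj Z) ⟶ R.obj Z, f₁ = f₂ := by
    intro f₁ f₂
    apply (adj.homEquiv _ _).symm.injective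
    exact (hz _).trans (hz _).symm
  exact TStructure.t.to_truncLE_obj_ext (sub _ _)

/-- right adjoints: cohomology of `R X` in a weak Serre class, from the case of single objects -/
lemma cohIn_R_of_plus {R : DerivedCategory A₂ ⥤ DerivedCategory A₁} [R.CommShift ℤ]
    [R.IsTriangulated]
    (hR : ∀ (X : DerivedCategory A₂) (n : ℤ), TStructure.t.IsGE X n →
      TStructure.t.IsGE (R.obj X) n)
    (P_A : ObjectProperty A₂) [P_A.IsClosedUnderIsomorphisms] [P_A.ContainsZero]
    (P_B : ObjectProperty A₁) [WSerre.IsWeakSerre P_B]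
    (hs : ∀ M : A₂, P_A M → WSerre.cohIn P_B (R.obj ((singleFunctor A₂ 0).obj M)))
    (X : DerivedCategory A₂) (n₀ : ℤ) (hX : TStructure.t.IsGE X n₀)
    (hc : WSerre.cohIn P_A X) : WSerre.cohIn P_B (R.obj X) := by
  intro q
  haveI := hX
  have hT := TStructure.t.triangleLEGE_distinguished q (q + 1) rfl X
  have hX' : ((WSerre.cohIn P_B).inverseImage R) ((TStructure.t.truncLE q).obj X) := by
    refine bounded_devissage ((WSerre.cohIn P_B).inverseImage R) (q - n₀).toNat n₀ q
      (by omega) _ ?_ ?_ ?_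
    · exact inferInstanceAs (TStructure.t.IsGE ((TStructure.t.truncLE q).obj X) n₀)
    · exact inferInstanceAs (TStructure.t.IsLE ((TStructure.t.truncLE q).obj X) q)
    · intro p
      by_cases hp : p ≤ q
      · haveI := isIso_homology_truncLEι X q p hp
        exact hs _ (P_A.prop_of_iso
          (asIso ((homologyFunctor A₂ p).map ((TStructure.t.truncLEι q).app X))).symm (hc p))
      · exact hs _ (P_A.prop_of_isZero
          (isZero_of_isLE ((TStructure.t.truncLE q).obj X) q p (by omega)))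
  haveI i1 : IsIso ((homologyFunctor A₁ q).map (R.map ((TStructure.t.truncLEι q).app X))) :=
    isIso_homology_mor₁ (R.mapTriangle.obj _) (R.map_distinguished _ hT) q q le_rfl
      (hR _ _ (inferInstanceAs
        (TStructure.t.IsGE ((TStructure.t.truncGE (q + 1)).obj X) (q + 1))))
  exact P_B.prop_of_iso
    (asIso ((homologyFunctor A₁ q).map (R.map ((TStructure.t.truncLEι q).app X)))) (hX' q)

variable (F : A₁ ⥤ A₂) [F.Additive] [PreservesFiniteLimits F] [PreservesFiniteColimits F]

lemma nonempty_homologyIso (Y : DerivedCategory A₁) (q : ℤ) :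
    Nonempty ((homologyFunctor A₂ q).obj (F.mapDerivedCategory.obj Y) ≅
      F.obj ((homologyFunctor A₁ q).obj Y)) := by
  let K : CochainComplex A₁ ℤ := (Q (C := A₁)).objPreimage Y
  let e : Q.obj K ≅ Y := (Q (C := A₁)).objObjPreimageIso Y
  let e1 : (homologyFunctor A₂ q).obj (F.mapDerivedCategory.obj Y) ≅
      (homologyFunctor A₂ q).obj (F.mapDerivedCategory.obj (Q.obj K)) :=
    (homologyFunctor A₂ q).mapIso (F.mapDerivedCategory.mapIso e.symm)
  let e2 : (homologyFunctor A₂ q).obj (F.mapDerivedCategory.obj (Q.obj K)) ≅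
      (homologyFunctor A₂ q).obj
        (Q.obj ((F.mapHomologicalComplex (ComplexShape.up ℤ)).obj K)) :=
    (homologyFunctor A₂ q).mapIso (F.mapDerivedCategoryFactors.app K)
  let e3 : (homologyFunctor A₂ q).obj
      (Q.obj ((F.mapHomologicalComplex (ComplexShape.up ℤ)).obj K)) ≅
      ((F.mapHomologicalComplex (ComplexShape.up ℤ)).obj K).homology q :=
    (homologyFunctorFactors A₂ q).app _
  let e4 : ((F.mapHomologicalComplex (ComplexShape.up ℤ)).obj K).homology q ≅
      F.obj (K.homology q) := (K.sc q).mapHomologyIso F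
  let e5 : K.homology q ≅ (homologyFunctor A₁ q).obj (Q.obj K) :=
    ((homologyFunctorFactors A₁ q).app K).symm
  let e6 : (homologyFunctor A₁ q).obj (Q.obj K) ≅ (homologyFunctor A₁ q).obj Y :=
    (homologyFunctor A₁ q).mapIso e
  exact ⟨e1 ≪≫ e2 ≪≫ e3 ≪≫ e4 ≪≫ F.mapIso (e5 ≪≫ e6)⟩

lemma isGE_mapDerivedCategory (Y : DerivedCategory A₁) (n : ℤ) (h : TStructure.t.IsGE Y n) :
    TStructure.t.IsGE (F.mapDerivedCategory.obj Y) n := by
  haveI := h
  refine (isGE_iff _ n).2 (fun i hi => ?_)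
  obtain ⟨e⟩ := nonempty_homologyIso F Y i
  exact (F.map_isZero (isZero_of_isGE Y n i hi)).of_iso e

lemma isLE_mapDerivedCategory (Y : DerivedCategory A₁) (n : ℤ) (h : TStructure.t.IsLE Y n) :
    TStructure.t.IsLE (F.mapDerivedCategory.obj Y) n := by
  haveI := h
  refine (isLE_iff _ n).2 (fun i hi => ?_)
  obtain ⟨e⟩ := nonempty_homologyIso F Y i
  exact (F.map_isZero (isZero_of_isLE Y n i hi)).of_iso e

variable {R : DerivedCategory A₂ ⥤ DerivedCategory A₁} (adj : F.mapDerivedCategory ⊣ R)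

include adj in
theorem counit_isIso (X : DerivedCategory A₂) (n₀ : ℤ) (hX : TStructure.t.IsGE X n₀)
    (h3 : ∀ q : ℤ, IsIso (adj.counit.app
      ((singleFunctor A₂ 0).obj ((homologyFunctor A₂ q).obj X)))) :
    IsIso (adj.counit.app X) := by
  letI := adj.rightAdjointCommShift ℤ
  haveI := adj.commShift_of_leftAdjoint ℤ
  haveI : R.IsTriangulated := adj.isTriangulated_rightAdjoint
  exact isIso_of_boundedBelow adj.counit
    (fun X n h => isGE_mapDerivedCategory F (R.obj X) n
      (isGE_rightAdjoint adj (isLE_mapDerivedCategory F) X n h))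
    (fun X n h => h) X n₀ hX h3

include adj in
theorem unit_isIso (Y : DerivedCategory A₁) (n₀ : ℤ) (hY : TStructure.t.IsGE Y n₀)
    (h3 : ∀ q : ℤ, IsIso (adj.unit.app
      ((singleFunctor A₁ 0).obj ((homologyFunctor A₁ q).obj Y)))) :
    IsIso (adj.unit.app Y) := by
  letI := adj.rightAdjointCommShift ℤ
  haveI := adj.commShift_of_leftAdjoint ℤ
  haveI : R.IsTriangulated := adj.isTriangulated_rightAdjoint
  exact isIso_of_boundedBelow adj.unit (fun X n h => h)
    (fun X n h => isGE_rightAdjoint adj (isLE_mapDerivedCategory F) _ n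
      (isGE_mapDerivedCategory F X n h)) Y n₀ hY h3

lemma counit_app_L_isIso (Z : DerivedCategory A₁) [IsIso (adj.unit.app Z)] :
    IsIso (adj.counit.app (F.mapDerivedCategory.obj Z)) := by
  have h := adj.left_triangle_components Z
  haveI : IsIso (F.mapDerivedCategory.map (adj.unit.app Z) ≫
      adj.counit.app (F.mapDerivedCategory.obj Z)) := by
    rw [h]; exact IsIso.id _
  exact IsIso.of_isIso_comp_left (F.mapDerivedCategory.map (adj.unit.app Z)) _

lemma key_single (P_A : ObjectProperty A₂) (P_B : ObjectProperty A₁) [WSerre.IsWeakSerre P_B]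
    (h2c : ∀ M : A₂, P_A M → ∃ M' : A₁, P_B M' ∧ Nonempty (F.obj M' ≅ M))
    (h3 : ∀ M' : A₁, P_B M' → IsIso (adj.unit.app ((singleFunctor A₁ 0).obj M')))
    (M : A₂) (hM : P_A M) :
    IsIso (adj.counit.app ((singleFunctor A₂ 0).obj M)) ∧
      WSerre.cohIn P_B (R.obj ((singleFunctor A₂ 0).obj M)) := by
  obtain ⟨M', hM', ⟨e⟩⟩ := h2c M hM
  haveI : IsIso (adj.unit.app ((singleFunctor A₁ 0).obj M')) := h3 M' hM'
  have iso : F.mapDerivedCategory.obj ((singleFunctor A₁ 0).obj M') ≅
      (singleFunctor A₂ 0).obj M :=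
    (F.mapDerivedCategorySingleFunctor 0).app M' ≪≫ (singleFunctor A₂ 0).mapIso e
  constructor
  · exact (NatTrans.isIso_app_iff_of_iso adj.counit iso).1
      (counit_app_L_isIso F adj ((singleFunctor A₁ 0).obj M'))
  · have eZ : R.obj ((singleFunctor A₂ 0).obj M) ≅ (singleFunctor A₁ 0).obj M' :=
      R.mapIso iso.symm ≪≫ (asIso (adj.unit.app ((singleFunctor A₁ 0).obj M'))).symm
    intro q
    refine P_B.prop_of_iso ((homologyFunctor A₁ q).mapIso eZ.symm) ?_
    by_cases hq : q = 0
    · subst hq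
      exact P_B.prop_of_iso ((singleFunctorCompHomologyFunctorIso A₁ 0).app M').symm hM'
    · rcases lt_or_gt_of_ne hq with h | h
      · exact P_B.prop_of_isZero (isZero_of_isGE ((singleFunctor A₁ 0).obj M') 0 q h)
      · exact P_B.prop_of_isZero (isZero_of_isLE ((singleFunctor A₁ 0).obj M') 0 q h)

include adj in
theorem main9069 (P_A : ObjectProperty A₂) [WSerre.IsWeakSerre P_A]
    (P_B : ObjectProperty A₁) [WSerre.IsWeakSerre P_B]
    (h2a : ∀ M' : A₁, P_B M' → P_A (F.obj M'))
    (h2c : ∀ M : A₂, P_A M → ∃ M' : A₁, P_B M' ∧ Nonempty (F.obj M' ≅ M))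
    (h3 : ∀ M' : A₁, P_B M' → IsIso (adj.unit.app ((singleFunctor A₁ 0).obj M'))) :
    (∀ Y : DerivedCategory A₁, WSerre.cohInPlus P_B Y →
      WSerre.cohInPlus P_A (F.mapDerivedCategory.obj Y) ∧ IsIso (adj.unit.app Y)) ∧
    (∀ X : DerivedCategory A₂, WSerre.cohInPlus P_A X →
      WSerre.cohInPlus P_B (R.obj X) ∧ IsIso (adj.counit.app X)) := by
  letI := adj.rightAdjointCommShift ℤ
  haveI := adj.commShift_of_leftAdjoint ℤ
  haveI : R.IsTriangulated := adj.isTriangulated_rightAdjoint
  have hR : ∀ (X : DerivedCategory A₂) (n : ℤ), TStructure.t.IsGE X n →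
      TStructure.t.IsGE (R.obj X) n :=
    fun X n h => isGE_rightAdjoint adj (isLE_mapDerivedCategory F) X n h
  constructor
  · rintro Y ⟨hc, n, hn⟩
    refine ⟨⟨fun q => ?_, n, isGE_mapDerivedCategory F Y n hn⟩,
      unit_isIso F adj Y n hn (fun q => h3 _ (hc q))⟩
    obtain ⟨e⟩ := nonempty_homologyIso F Y q
    exact P_A.prop_of_iso e.symm (h2a _ (hc q))
  · rintro X ⟨hc, n, hn⟩
    exact ⟨⟨cohIn_R_of_plus hR P_A P_B (fun M hM => (key_single F adj P_A P_B h2c h3 M hM).2)
      X n hn hc, n, hR X n hn⟩,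
      counit_isIso F adj X n hn (fun q => (key_single F adj P_A P_B h2c h3 _ (hc q)).1)⟩

end WayOut

end Groth.Agent.Lib.WayOutH4
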