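import Mathlib
import Groth.Agent.Lib.WayOut_helper4

/-!
# Units of derived adjunctions on objects of the heart (helper7)

* `bijective_map_of_isIso_counit`: for `F ⊣ G` with invertible counit at `N`, `F` is bijective on
  `Hom(L, G N)`.
* `isIso_unit_single`: for an exact functor `F` between abelian categories and an adjunction
  `F.mapDerivedCategory ⊣ R`, the unit at a module `M'` placed in degree `0` is invertible as soon as
  `R F M'[0]` has no cohomology in positive degrees and `F` is bijective on `Hom(L, M')` for all `L`.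
-/

set_option backward.isDefEq.respectTransparency false
set_option backward.isDefEq.respectTransparency.types false
set_option linter.style.haveILetI false
set_option linter.unusedSectionVars false
set_option linter.unusedVariables false
set_option autoImplicit false
set_option maxHeartbeats 1600000
universe w₁ w₂
open CategoryTheory CategoryTheory.Limits DerivedCategory

namespace Groth.Agent.Lib.AdjHeartH7

open Groth.Agent.Lib.WayOutH4

section Cat

variable {𝒞 𝒟 : Type*} [Category 𝒞] [Category 𝒟] {F : 𝒞 ⥤ 𝒟} {G : 𝒟 ⥤ 𝒞} (adj : F ⊣ G)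

include adj in
lemma bijective_map_of_isIso_counit (N : 𝒟) (hN : IsIso (adj.counit.app N)) (L : 𝒞) :
    Function.Bijective (fun φ : L ⟶ G.obj N => F.map φ) := by
  haveI := hN
  have key : ∀ φ : L ⟶ G.obj N,
      (adj.homEquiv L N).symm φ = F.map φ ≫ adj.counit.app N := fun φ =>
    adj.homEquiv_counit L N φ
  constructor
  · intro φ φ' hφ
    have hφ' : F.map φ = F.map φ' := hφ
    apply (adj.homEquiv L N).symm.injective
    rw [key, key, hφ']
  · intro ψ
    refine ⟨adj.homEquiv L N (ψ ≫ adj.counit.app N), ?_⟩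
    have h1 := key (adj.homEquiv L N (ψ ≫ adj.counit.app N))
    rw [Equiv.symm_apply_apply] at h1
    exact ((cancel_mono (adj.counit.app N)).1 h1).symm

include adj in
lemma comp_unit_eq {Z Y : 𝒞} (a : Z ⟶ Y) :
    a ≫ adj.unit.app Y = adj.homEquiv Z (F.obj Y) (F.map a) := by
  have h1 : adj.homEquiv Z (F.obj Y) (F.map a) = adj.unit.app Z ≫ G.map (F.map a) :=
    adj.homEquiv_unit Z (F.obj Y) (F.map a)
  rw [h1]
  exact adj.unit.naturality a

include adj in
lemma bijective_comp_unit (Z Y : 𝒞) (h : Function.Bijective (fun a : Z ⟶ Y => F.map a)) :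
    Function.Bijective (fun a : Z ⟶ Y => a ≫ adj.unit.app Y) := by
  have e : (fun a : Z ⟶ Y => a ≫ adj.unit.app Y) =
      (adj.homEquiv Z (F.obj Y)) ∘ (fun a : Z ⟶ Y => F.map a) := by
    funext a
    exact comp_unit_eq adj a
  rw [e]
  exact (adj.homEquiv Z (F.obj Y)).bijective.comp h

/-- the unit at an object of the form `G N` is invertible when the counit at `N` is -/
lemma isIso_unit_of_isIso_counit (N : 𝒟) (hN : IsIso (adj.counit.app N)) :
    IsIso (adj.unit.app (G.obj N)) := by
  haveI := hN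
  have h1 : adj.unit.app (G.obj N) ≫ G.map (adj.counit.app N) = 𝟙 _ :=
    adj.right_triangle_components N
  have h2 : adj.unit.app (G.obj N) = inv (G.map (adj.counit.app N)) :=
    IsIso.eq_inv_of_inv_hom_id h1
  rw [h2]
  infer_instance

end Cat

section Der

variable {A₁ : Type*} [Category A₁] [Abelian A₁] [HasDerivedCategory.{w₁} A₁]
  {A₂ : Type*} [Category A₂] [Abelian A₂] [HasDerivedCategory.{w₂} A₂]
  (F : A₁ ⥤ A₂) [F.Additive] [PreservesFiniteLimits F] [PreservesFiniteColimits F]

lemma bijective_mapDerivedCategory_single (L M' : A₁)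
    (h : Function.Bijective (fun a : L ⟶ M' => F.map a)) :
    Function.Bijective (fun a : (singleFunctor A₁ 0).obj L ⟶ (singleFunctor A₁ 0).obj M' =>
      F.mapDerivedCategory.map a) := by
  let e := F.mapDerivedCategorySingleFunctor 0
  have hnat : ∀ a₀ : L ⟶ M', F.mapDerivedCategory.map ((singleFunctor A₁ 0).map a₀) ≫
      e.hom.app M' = e.hom.app L ≫ (singleFunctor A₂ 0).map (F.map a₀) := fun a₀ =>
    e.hom.naturality a₀
  constructor
  · intro a b hab
    have hab' : F.mapDerivedCategory.map a = F.mapDerivedCategory.map b := hab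
    obtain ⟨a₀, rfl⟩ := (singleFunctor A₁ 0).map_surjective a
    obtain ⟨b₀, rfl⟩ := (singleFunctor A₁ 0).map_surjective b
    have h1 : e.hom.app L ≫ (singleFunctor A₂ 0).map (F.map a₀) =
        e.hom.app L ≫ (singleFunctor A₂ 0).map (F.map b₀) := by
      rw [← hnat a₀, ← hnat b₀, hab']
    have h2 := (cancel_epi (e.hom.app L)).1 h1
    have h3 : F.map a₀ = F.map b₀ := (singleFunctor A₂ 0).map_injective h2
    have h4 : a₀ = b₀ := h.1 h3
    rw [h4]
  · intro c
    obtain ⟨c₀, hc₀⟩ := (singleFunctor A₂ 0).map_surjective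
      (e.inv.app L ≫ c ≫ e.hom.app M')
    obtain ⟨a₀, ha₀⟩ := h.2 c₀
    have ha₀' : F.map a₀ = c₀ := ha₀
    refine ⟨(singleFunctor A₁ 0).map a₀, ?_⟩
    show F.mapDerivedCategory.map ((singleFunctor A₁ 0).map a₀) = c
    rw [← cancel_mono (e.hom.app M'), hnat a₀, ha₀', hc₀]
    rw [← Category.assoc, Iso.hom_inv_id_app, Category.id_comp]

lemma isIso_of_bijective_comp {M₁ : A₁} {Y₂ : DerivedCategory A₁}
    (hGE : Y₂.IsGE 0) (hLE : Y₂.IsLE 0)
    (φ : (singleFunctor A₁ 0).obj M₁ ⟶ Y₂)
    (h : ∀ L : A₁, Function.Bijective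
      (fun a : (singleFunctor A₁ 0).obj L ⟶ (singleFunctor A₁ 0).obj M₁ => a ≫ φ)) :
    IsIso φ := by
  haveI := hGE
  haveI := hLE
  obtain ⟨M₂, ⟨θ⟩⟩ := exists_iso_singleFunctor_obj_of_isGE_of_isLE Y₂ 0
  obtain ⟨b, hb⟩ := (h M₂).2 θ.inv
  have hb' : b ≫ φ = θ.inv := hb
  have h1 : (φ ≫ θ.hom ≫ b) ≫ φ = 𝟙 _ ≫ φ := by
    rw [Category.assoc, Category.assoc, hb', Iso.hom_inv_id, Category.comp_id, Category.id_comp]
  have h2 : φ ≫ θ.hom ≫ b = 𝟙 _ := (h M₁).1 h1
  refine ⟨θ.hom ≫ b, h2, ?_⟩
  rw [Category.assoc, hb', Iso.hom_inv_id]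

variable {R : DerivedCategory A₂ ⥤ DerivedCategory A₁} (adj : F.mapDerivedCategory ⊣ R)

include adj in
theorem isIso_unit_single (M' : A₁)
    (hLE : (R.obj (F.mapDerivedCategory.obj ((singleFunctor A₁ 0).obj M'))).IsLE 0)
    (hb : ∀ L : A₁, Function.Bijective (fun a : L ⟶ M' => F.map a)) :
    IsIso (adj.unit.app ((singleFunctor A₁ 0).obj M')) := by
  have hGE : (R.obj (F.mapDerivedCategory.obj ((singleFunctor A₁ 0).obj M'))).IsGE 0 :=
    isGE_rightAdjoint adj (isLE_mapDerivedCategory F) _ 0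
      (isGE_mapDerivedCategory F _ 0 inferInstance)
  refine isIso_of_bijective_comp hGE hLE (adj.unit.app ((singleFunctor A₁ 0).obj M')) ?_
  intro L
  exact bijective_comp_unit adj _ _ (bijective_mapDerivedCategory_single F L M' (hb L))

end Der

end Groth.Agent.Lib.AdjHeartH7
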