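import Mathlib

namespace Groth.Agent.Lib.AdjInv
open Polynomial

universe u

section abstract
variable {R : Type*} [CommRing R] {L : Type*} [CommRing L] [Algebra R L]

lemma pow_mul_pow_of_le {u v : L} (huv : u * v = 1) {i j : ℕ} (h : j ≤ i) :
    v ^ j * u ^ i = u ^ (i - j) := by
  obtain ⟨d, rfl⟩ := Nat.exists_eq_add_of_le h
  rw [Nat.add_sub_cancel_left, pow_add, ← mul_assoc, ← mul_pow, mul_comm v u, huv, one_pow,
    one_mul]

lemma isIntegral_of_aeval_eq {u v z : L} (huv : u * v = 1) (P Q : R[X])
    (hP : z = aeval u P) (hQ : z = aeval v Q) : IsIntegral R z := by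
  classical
  let W : Submodule R L :=
    Submodule.span R (Set.range fun i : Fin (P.natDegree + Q.natDegree + 1) => u ^ (i : ℕ))
  have hmemW : ∀ i, i < P.natDegree + Q.natDegree + 1 → u ^ i ∈ W :=
    fun i hi => Submodule.subset_span ⟨⟨i, hi⟩, rfl⟩
  have hzW : ∀ w ∈ W, z * w ∈ W := by
    intro w hw
    induction hw using Submodule.span_induction with
    | mem x hx =>
      obtain ⟨i, rfl⟩ := hx
      have hi := i.2
      by_cases him : Q.natDegree ≤ (i : ℕ)
      · rw [hQ, aeval_eq_sum_range, Finset.sum_mul]
        refine Submodule.sum_mem _ (fun j hj => ?_)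
        rw [Finset.mem_range] at hj
        rw [smul_mul_assoc, pow_mul_pow_of_le huv (by omega : j ≤ (i : ℕ))]
        exact W.smul_mem _ (hmemW _ (by omega))
      · rw [hP, aeval_eq_sum_range, Finset.sum_mul]
        refine Submodule.sum_mem _ (fun l hl => ?_)
        rw [Finset.mem_range] at hl
        rw [smul_mul_assoc, ← pow_add]
        exact W.smul_mem _ (hmemW _ (by omega))
    | zero => rw [mul_zero]; exact W.zero_mem
    | add x y _ _ hx hy => rw [mul_add]; exact W.add_mem hx hy
    | smul a x _ hx => rw [mul_smul_comm]; exact W.smul_mem a hx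
  have h1W : (1 : L) ∈ W := by simpa using hmemW 0 (Nat.succ_pos _)
  haveI : Module.Finite R W := Module.Finite.span_of_finite R (Set.finite_range _)
  let φ : W →ₗ[R] W := (LinearMap.mulLeft R z).restrict hzW
  have hφ : ∀ w : W, ((φ w : W) : L) = z * w := fun w => rfl
  have hφpow : ∀ (i : ℕ) (w : W), (((φ ^ i) w : W) : L) = z ^ i * w := by
    intro i
    induction i with
    | zero => intro w; simp
    | succ i ih =>
      intro w
      rw [pow_succ']
      rw [show (φ * φ ^ i) w = φ ((φ ^ i) w) from rfl, hφ, ih, pow_succ', mul_assoc]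
  obtain ⟨p, hpm, hp⟩ := LinearMap.exists_monic_and_aeval_eq_zero R φ
  have h2 : ∀ w : W, (((aeval φ p) w : W) : L) = aeval z p * w := by
    intro w
    rw [aeval_eq_sum_range, aeval_eq_sum_range, LinearMap.sum_apply, Finset.sum_mul,
      AddSubmonoidClass.coe_finsetSum]
    refine Finset.sum_congr rfl (fun i _ => ?_)
    rw [LinearMap.smul_apply, Submodule.coe_smul, hφpow, smul_mul_assoc]
  have h3 := h2 ⟨1, h1W⟩
  rw [hp] at h3
  simp only [LinearMap.zero_apply, ZeroMemClass.coe_zero, mul_one] at h3
  exact ⟨p, hpm, by rw [← aeval_def]; exact h3.symm⟩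

lemma mem_bot_of_mem_inf {S : Type*} [CommRing S] [Algebra R S] (ι : S →ₐ[R] L)
    (hι : Function.Injective ι) [IsIntegrallyClosedIn R S] {u v : L} (huv : u * v = 1)
    (hv : v ∈ ι.range) {z : L} (hzu : z ∈ Algebra.adjoin R {u})
    (hzv : z ∈ Algebra.adjoin R {v}) : z ∈ (⊥ : Subalgebra R L) := by
  have hzv' := hzv
  rw [Algebra.adjoin_singleton_eq_range_aeval] at hzu hzv
  obtain ⟨P, hP⟩ := (AlgHom.mem_range _).mp hzu
  obtain ⟨Q, hQ⟩ := (AlgHom.mem_range _).mp hzv
  have hint : IsIntegral R z := isIntegral_of_aeval_eq huv P Q hP.symm hQ.symm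
  have hzr : z ∈ ι.range := by
    have : Algebra.adjoin R {v} ≤ ι.range :=
      Algebra.adjoin_le (Set.singleton_subset_iff.mpr hv)
    exact this hzv'
  obtain ⟨z', rfl⟩ := (AlgHom.mem_range _).mp hzr
  have hint' : IsIntegral R z' := (isIntegral_algHom_iff ι hι).mp hint
  obtain ⟨r, rfl⟩ := IsIntegrallyClosedIn.isIntegral_iff.mp hint'
  rw [Algebra.mem_bot]
  exact ⟨r, (ι.commutes r).symm⟩

lemma main_abstract (u v : L) (huv : u * v = 1)
    (hmem : ∀ z, z ∈ Algebra.adjoin R {u} → z ∈ Algebra.adjoin R {v} →
      z ∈ (⊥ : Subalgebra R L)) :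
    (Algebra.adjoin R {u}).toSubmodule ⊓ (Algebra.adjoin R {v}).toSubmodule =
        (⊥ : Subalgebra R L).toSubmodule ∧
      (Algebra.adjoin R {u}).toSubmodule ⊔ (Algebra.adjoin R {v}).toSubmodule =
        (Algebra.adjoin R {u, v}).toSubmodule := by
  have hvu : v * u = 1 := by rw [mul_comm]; exact huv
  constructor
  · apply le_antisymm
    · rintro z ⟨hz1, hz2⟩
      exact hmem z hz1 hz2
    · intro z hz
      exact ⟨(bot_le : (⊥ : Subalgebra R L) ≤ Algebra.adjoin R {u}) hz,
        (bot_le : (⊥ : Subalgebra R L) ≤ Algebra.adjoin R {v}) hz⟩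
  · apply le_antisymm
    · refine sup_le ?_ ?_
      · intro z hz
        exact Algebra.adjoin_mono (by simp) hz
      · intro z hz
        exact Algebra.adjoin_mono (by simp) hz
    · rw [Algebra.adjoin_eq_span, Submodule.span_le]
      intro m hm
      have key : (∃ i : ℕ, m = u ^ i) ∨ (∃ j : ℕ, m = v ^ j) := by
        induction hm using Submonoid.closure_induction with
        | mem x hx =>
          rcases hx with rfl | rfl
          · exact Or.inl ⟨1, (pow_one _).symm⟩
          · exact Or.inr ⟨1, (pow_one _).symm⟩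
        | one => exact Or.inl ⟨0, (pow_zero _).symm⟩
        | mul a b _ _ ha hb =>
          rcases ha with ⟨i, rfl⟩ | ⟨j, rfl⟩ <;> rcases hb with ⟨i', rfl⟩ | ⟨j', rfl⟩
          · exact Or.inl ⟨i + i', (pow_add _ _ _).symm⟩
          · by_cases h : j' ≤ i
            · exact Or.inl ⟨i - j', by rw [mul_comm, pow_mul_pow_of_le huv h]⟩
            · exact Or.inr ⟨j' - i, by rw [pow_mul_pow_of_le hvu (by omega : i ≤ j')]⟩
          · by_cases h : j ≤ i'
            · exact Or.inl ⟨i' - j, by rw [pow_mul_pow_of_le huv h]⟩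
            · exact Or.inr ⟨j - i', by rw [mul_comm, pow_mul_pow_of_le hvu (by omega : i' ≤ j)]⟩
          · exact Or.inr ⟨j + j', (pow_add _ _ _).symm⟩
      rcases key with ⟨i, rfl⟩ | ⟨j, rfl⟩
      · exact Submodule.mem_sup_left
          ((Algebra.adjoin R {u}).pow_mem (Algebra.subset_adjoin rfl) i)
      · exact Submodule.mem_sup_right
          ((Algebra.adjoin R {v}).pow_mem (Algebra.subset_adjoin rfl) j)

lemma range_helper {S : Type*} [CommRing S] [Algebra R S] (ι : S →ₐ[R] L) (a b : R) (sinv : S)
    (hs : algebraMap R S a * sinv = 1) (linv : L) (hl : algebraMap R L (a * b) * linv = 1) :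
    algebraMap R L (b * b) * linv ∈ ι.range := by
  refine (AlgHom.mem_range _).mpr ⟨algebraMap R S b * sinv, ?_⟩
  have h1 : ι sinv * algebraMap R L a = 1 := by
    rw [← ι.commutes a, ← map_mul, mul_comm, hs, map_one]
  have h2 : algebraMap R L a * (algebraMap R L b * linv) = 1 := by
    rw [← mul_assoc, ← map_mul, hl]
  have h3 : ι sinv = algebraMap R L b * linv := left_inv_eq_right_inv h1 h2
  rw [map_mul, ι.commutes, h3, map_mul]; ring

lemma algHom_injective (a b : R) (hb : b ∈ nonZeroDivisors R) {S : Type*} [CommRing S]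
    [Algebra R S] [IsLocalization.Away a S] [IsLocalization.Away (a * b) L] (ι : S →ₐ[R] L) :
    Function.Injective ι := by
  rw [injective_iff_map_eq_zero]
  intro s hs
  obtain ⟨⟨r, m⟩, hrm⟩ := IsLocalization.surj (Submonoid.powers a) s
  have h1 : algebraMap R L r = 0 := by
    rw [← ι.commutes, ← hrm, map_mul, hs, zero_mul]
  obtain ⟨⟨c, hc⟩, hcr⟩ := (IsLocalization.map_eq_zero_iff (Submonoid.powers (a * b)) L r).mp h1
  obtain ⟨k, rfl⟩ := hc
  have hcr' : (a * b) ^ k * r = 0 := hcr
  have h2 : a ^ k * r = 0 := by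
    have : (a ^ k * r) * b ^ k = 0 := by rw [← hcr', mul_pow]; ring
    exact (mul_right_mem_nonZeroDivisors_eq_zero_iff (pow_mem hb k)).mp this
  have h3 : algebraMap R S r = 0 :=
    (IsLocalization.map_eq_zero_iff (Submonoid.powers a) S r).mpr ⟨⟨a ^ k, k, rfl⟩, h2⟩
  rw [h3] at hrm
  exact (IsLocalization.map_units S m).mul_left_eq_zero.mp hrm

end abstract

theorem main {R : Type u} [CommRing R] (x y : R) (hx : x ∈ nonZeroDivisors R)
    (hy : y ∈ nonZeroDivisors R)
    (hint : IsIntegrallyClosedIn R (Localization.Away x) ∨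
      IsIntegrallyClosedIn R (Localization.Away y)) :
    (Algebra.adjoin R {algebraMap R (Localization.Away (x * y)) (x * x) *
        IsLocalization.Away.invSelf (x * y)}).toSubmodule ⊓
        (Algebra.adjoin R {algebraMap R (Localization.Away (x * y)) (y * y) *
          IsLocalization.Away.invSelf (x * y)}).toSubmodule =
        (⊥ : Subalgebra R (Localization.Away (x * y))).toSubmodule ∧
      (Algebra.adjoin R {algebraMap R (Localization.Away (x * y)) (x * x) *
        IsLocalization.Away.invSelf (x * y)}).toSubmodule ⊔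
        (Algebra.adjoin R {algebraMap R (Localization.Away (x * y)) (y * y) *
          IsLocalization.Away.invSelf (x * y)}).toSubmodule =
        (Algebra.adjoin R {algebraMap R (Localization.Away (x * y)) (x * x) *
          IsLocalization.Away.invSelf (x * y),
          algebraMap R (Localization.Away (x * y)) (y * y) *
          IsLocalization.Away.invSelf (x * y)}).toSubmodule := by
  have hinv : algebraMap R (Localization.Away (x * y)) (x * y) *
      (IsLocalization.Away.invSelf (x * y) : Localization.Away (x * y)) = 1 :=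
    IsLocalization.Away.mul_invSelf (x * y)
  have huv : (algebraMap R (Localization.Away (x * y)) (x * x) *
      IsLocalization.Away.invSelf (x * y)) *
      (algebraMap R (Localization.Away (x * y)) (y * y) *
      IsLocalization.Away.invSelf (x * y)) = 1 := by
    calc _ = (algebraMap R (Localization.Away (x * y)) (x * y) *
          (IsLocalization.Away.invSelf (x * y) : Localization.Away (x * y))) ^ 2 := by
          simp only [map_mul]; ring
      _ = 1 := by rw [hinv, one_pow]
  have hvu := (mul_comm _ _).trans huv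
  refine main_abstract _ _ huv ?_
  intro z hzu hzv
  rcases hint with h | h
  · haveI := h
    let ι : Localization.Away x →ₐ[R] Localization.Away (x * y) :=
      IsLocalization.Away.liftAlgHom x (f := Algebra.ofId R (Localization.Away (x * y)))
        (IsLocalization.Away.isUnit_of_dvd (x * y) (dvd_mul_right x y))
    have hι : Function.Injective ι := algHom_injective x y hy ι
    have hv := range_helper ι x y (IsLocalization.Away.invSelf x)
      (IsLocalization.Away.mul_invSelf x) _ hinv
    exact mem_bot_of_mem_inf ι hι huv hv hzu hzv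
  · haveI := h
    haveI : IsLocalization.Away (y * x) (Localization.Away (x * y)) := by
      rw [mul_comm]; infer_instance
    let ι : Localization.Away y →ₐ[R] Localization.Away (x * y) :=
      IsLocalization.Away.liftAlgHom y (f := Algebra.ofId R (Localization.Away (x * y)))
        (IsLocalization.Away.isUnit_of_dvd (x * y) (dvd_mul_left y x))
    have hι : Function.Injective ι := algHom_injective y x hx ι
    have hinv' : algebraMap R (Localization.Away (x * y)) (y * x) *
        (IsLocalization.Away.invSelf (x * y) : Localization.Away (x * y)) = 1 := by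
      rw [mul_comm y x]; exact hinv
    have hu := range_helper ι y x (IsLocalization.Away.invSelf y)
      (IsLocalization.Away.mul_invSelf y) _ hinv'
    exact mem_bot_of_mem_inf ι hι hvu hu hzv hzu

end Groth.Agent.Lib.AdjInv
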