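import Mathlib

/-!
# Unit of the pullback adjunction is iso for a fully faithful continuous & cocontinuous functor
(helper7)
-/

set_option autoImplicit false
universe v₁ v₂ v₃ u₁ u₂ u₃
open CategoryTheory CategoryTheory.Limits Opposite

namespace Groth.Agent.Lib.AdjTripleUnit_helper7

variable {C : Type u₁} [Category.{v₁} C] {D : Type u₂} [Category.{v₂} D] (G : C ⥤ D)
  (A : Type u₃) [Category.{v₃} A]
  (J : GrothendieckTopology C) (K : GrothendieckTopology D)
  [G.IsContinuous J K] [G.IsCocontinuous J K] [G.Full] [G.Faithful]
  [∀ (F : Cᵒᵖ ⥤ A), G.op.HasPointwiseRightKanExtension F]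

theorem isIso_counit_cocont :
    IsIso (G.sheafAdjunctionCocontinuous A J K).counit := by
  haveI : ∀ F : Sheaf J A, IsIso ((G.sheafAdjunctionCocontinuous A J K).counit.app F) := by
    intro F
    haveI : IsIso ((sheafToPresheaf J A).map
        ((G.sheafAdjunctionCocontinuous A J K).counit.app F)) := by
      have h : (sheafToPresheaf J A).map ((G.sheafAdjunctionCocontinuous A J K).counit.app F) =
          (G.op.ranAdjunction A).counit.app F.obj :=
        Functor.sheafAdjunctionCocontinuous_counit_app_hom G A J K F
      rw [h]
      haveI : IsIso (G.op.ranAdjunction A).counit := Functor.reflective' (L := G.op) (H := A)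
      exact NatIso.isIso_app_of_isIso (G.op.ranAdjunction A).counit F.obj
    exact isIso_of_reflects_iso _ (sheafToPresheaf J A)
  exact NatIso.isIso_of_isIso_app _

theorem isIso_unit_cont [(G.sheafPushforwardContinuous A J K).IsRightAdjoint] :
    IsIso (G.sheafAdjunctionContinuous A J K).unit := by
  let t : Adjunction.Triple (G.sheafPullback A J K) (G.sheafPushforwardContinuous A J K)
      (G.sheafPushforwardCocontinuous A J K) :=
    ⟨G.sheafAdjunctionContinuous A J K, G.sheafAdjunctionCocontinuous A J K⟩
  exact t.isIso_unit_iff_isIso_counit.2 (isIso_counit_cocont G A J K)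

end Groth.Agent.Lib.AdjTripleUnit_helper7
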