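import Groth.Prelude.Def_W4bk4boschfrg79
import Mathlib

/-!
# Extension of a homomorphism to `A[f_1,…,f_n] ⊂ A ⊗ K` (helper2)
-/

namespace Groth.Agent.Lib.AdjoinExt

open scoped TensorProduct
open AdicRing

universe u

section
variable {R : Type u} [CommRing R] [IsDomain R] [ValuationRing R] (t : R)

lemma exists_dvd_pow [IsHausdorff (Ideal.span {t}) R] (c : R) (hc : c ≠ 0) :
    ∃ m : ℕ, c ∣ t ^ m := by
  by_contra hcon
  push_neg at hcon
  apply hc
  apply IsHausdorff.haus' (I := Ideal.span {t}) c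
  intro n
  rw [SModEq.zero]
  have h2 : c ∈ (Ideal.span {t}) ^ n := by
    rw [Ideal.span_singleton_pow, Ideal.mem_span_singleton]
    rcases ValuationRing.dvd_total c (t ^ n) with h | h
    · exact absurd h (hcon n)
    · exact h
  simpa using h2

lemma smul_eq_zero_imp [IsHausdorff (Ideal.span {t}) R] {M : Type*} [AddCommGroup M] [Module R M]
    (hM : AdicRing.NoPowTorsion (Ideal.span {t}) M) (c : R) (hc : c ≠ 0) (x : M)
    (hx : c • x = 0) : x = 0 := by
  obtain ⟨m, d, hd⟩ := exists_dvd_pow t c hc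
  apply hM x m
  intro a ha
  rw [Ideal.span_singleton_pow, Ideal.mem_span_singleton] at ha
  obtain ⟨e, rfl⟩ := ha
  have h1 : t ^ m * e = (d * e) * c := by rw [hd]; ring
  rw [h1, mul_smul, hx, smul_zero]

lemma flat_of_noPowTorsion [IsHausdorff (Ideal.span {t}) R] {M : Type*} [AddCommGroup M]
    [Module R M] (hM : AdicRing.NoPowTorsion (Ideal.span {t}) M) : Module.Flat R M := by
  rw [Module.Flat.flat_iff_torsion_eq_bot_of_isBezout, eq_bot_iff]
  intro x hx
  obtain ⟨a, ha⟩ := (Submodule.mem_torsion_iff x).1 hx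
  rw [Submodule.mem_bot]
  exact smul_eq_zero_imp t hM a.1 (nonZeroDivisors.ne_zero a.2) x ha

end

lemma mem_range_of_monic_of_inv {D E : Type*} [CommRing D] [CommRing E] (ι : D →+* E) (F : E)
    (d : D) (hdF : ι d * F = 1) (q : Polynomial D) (hq : q.Monic)
    (hqF : Polynomial.eval₂ ι F q = 0) : F ∈ Set.range ι := by
  set N := q.natDegree with hN
  have key : F ^ N + ∑ j ∈ Finset.range N, ι (q.coeff j) * F ^ j = 0 := by
    have h1 := hq.as_sum
    have h2 := congrArg (Polynomial.eval₂ ι F) h1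
    rw [hqF] at h2
    rw [Polynomial.eval₂_add, Polynomial.eval₂_pow, Polynomial.eval₂_X,
      Polynomial.eval₂_finset_sum] at h2
    simp only [Polynomial.eval₂_mul, Polynomial.eval₂_C, Polynomial.eval₂_pow,
      Polynomial.eval₂_X] at h2
    exact h2.symm
  rcases Nat.eq_zero_or_pos N with h0 | hpos
  · rw [h0] at key
    simp at key
    refine ⟨0, ?_⟩
    rw [map_zero]
    calc (0 : E) = F * 0 := by ring
      _ = F * 1 := by rw [key]
      _ = F := by ring
  · refine ⟨-∑ j ∈ Finset.range N, q.coeff j * d ^ (N - 1 - j), ?_⟩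
    rw [map_neg, map_sum]
    have h3 : (ι d) ^ (N - 1) * (F ^ N + ∑ j ∈ Finset.range N, ι (q.coeff j) * F ^ j) = 0 := by
      rw [key, mul_zero]
    rw [mul_add, Finset.mul_sum] at h3
    have h4 : (ι d) ^ (N - 1) * F ^ N = F := by
      obtain ⟨M, hM⟩ : ∃ M, N = M + 1 := ⟨N - 1, by omega⟩
      rw [hM, Nat.add_sub_cancel, pow_succ, ← mul_assoc, ← mul_pow, hdF, one_pow, one_mul]
    have h5 : ∀ j ∈ Finset.range N, (ι d) ^ (N - 1) * (ι (q.coeff j) * F ^ j) =
        ι (q.coeff j * d ^ (N - 1 - j)) := by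
      intro j hj
      have hj' : j ≤ N - 1 := by have := Finset.mem_range.1 hj; omega
      have h6 : (ι d) ^ (N - 1) = (ι d) ^ (N - 1 - j) * (ι d) ^ j := by
        rw [← pow_add, Nat.sub_add_cancel hj']
      rw [h6, map_mul, map_pow]
      calc ι d ^ (N - 1 - j) * ι d ^ j * (ι (q.coeff j) * F ^ j)
          = ι (q.coeff j) * ι d ^ (N - 1 - j) * (ι d * F) ^ j := by rw [mul_pow]; ring
        _ = _ := by rw [hdF, one_pow, mul_one]
    rw [h4, Finset.sum_congr rfl h5] at h3
    exact (eq_neg_of_add_eq_zero_left h3).symm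

theorem main13353
    (R : Type u) [CommRing R] [IsDomain R] [ValuationRing R]
    (t : R) [IsAdicComplete (Ideal.span {t}) R]
    (A : Type u) [CommRing A] [Algebra R A]
    (n : ℕ) (f : Fin n → A ⊗[R] FractionRing R) (hf : ∀ i, IsIntegral A (f i))
    (c : R) (hc : c ≠ 0) (g : Fin n → A)
    (hg : ∀ i, algebraMap A (A ⊗[R] FractionRing R) (g i) = c • f i)
    (D : Type u) [CommRing D] [Algebra R D] (hD : AdicRing.NoPowTorsion (Ideal.span {t}) D)
    (φ : A →ₐ[R] D)
    (hgen : (Ideal.span (insert (algebraMap R A c) (Set.range g))).map φ =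
          Ideal.span {algebraMap R D c} ∨
      ∃ i, (Ideal.span (insert (algebraMap R A c) (Set.range g))).map φ = Ideal.span {φ (g i)}) :
    (Ideal.span (insert (algebraMap R A c) (Set.range g))).map φ = Ideal.span {algebraMap R D c} ∧
      ∃! ψ : ↥(Algebra.adjoin A (Set.range f)) →ₐ[R] D,
        ψ.comp (IsScalarTower.toAlgHom R A ↥(Algebra.adjoin A (Set.range f))) = φ := by
  classical
  have hflatD : Module.Flat R D := flat_of_noPowTorsion t hD
  haveI : Module.Flat R (FractionRing R) := IsLocalization.flat (FractionRing R) (nonZeroDivisors R)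
  let ιD : D →ₐ[R] D ⊗[R] FractionRing R := Algebra.TensorProduct.includeLeft
  have hι : Function.Injective ιD :=
    Algebra.TensorProduct.includeLeft_injective (IsFractionRing.injective R (FractionRing R))
  let ψK : A ⊗[R] FractionRing R →ₐ[R] D ⊗[R] FractionRing R :=
    Algebra.TensorProduct.map φ (AlgHom.id R (FractionRing R))
  have hψA : ∀ a : A, ψK (algebraMap A (A ⊗[R] FractionRing R) a) = ιD (φ a) := by
    intro a
    rw [Algebra.TensorProduct.algebraMap_apply]
    simp [ψK, ιD]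
  have hflatDK : Module.Flat R (D ⊗[R] FractionRing R) := inferInstance
  have hcK : ∀ z w : D ⊗[R] FractionRing R, c • z = c • w → z = w := by
    intro z w h
    exact Module.Flat.isSMulRegular_of_nonZeroDivisors (mem_nonZeroDivisors_of_ne_zero hc) h
  have hcD : ∀ z w : D, algebraMap R D c * z = algebraMap R D c * w → z = w := by
    intro z w h
    have h1 : c • (z - w) = 0 := by rw [Algebra.smul_def, mul_sub, h, sub_self]
    exact sub_eq_zero.1 (smul_eq_zero_imp t hD c hc _ h1)
  have hcf : ∀ k, c • ψK (f k) = ιD (φ (g k)) := by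
    intro k
    rw [← map_smul, ← hg k, hψA]
  have hc'φ : φ (algebraMap R A c) = algebraMap R D c := φ.commutes c
  have hc'mem : algebraMap R D c ∈
      (Ideal.span (insert (algebraMap R A c) (Set.range g))).map φ := by
    rw [← hc'φ]
    exact Ideal.mem_map_of_mem _ (Ideal.subset_span (Set.mem_insert _ _))
  have hgmem : ∀ k, φ (g k) ∈ (Ideal.span (insert (algebraMap R A c) (Set.range g))).map φ :=
    fun k => Ideal.mem_map_of_mem _ (Ideal.subset_span (Set.mem_insert_of_mem _ ⟨k, rfl⟩))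
  have hιc : ∀ z : D ⊗[R] FractionRing R, ιD (algebraMap R D c) * z = c • z := by
    intro z
    rw [AlgHom.commutes, ← Algebra.smul_def]
  have hfirst : (Ideal.span (insert (algebraMap R A c) (Set.range g))).map φ =
      Ideal.span {algebraMap R D c} := by
    rcases hgen with h | ⟨i, hi⟩
    · exact h
    · have h1 := hc'mem
      rw [hi, Ideal.mem_span_singleton'] at h1
      obtain ⟨d, hd⟩ := h1
      have h2 : ιD d * ψK (f i) = 1 := by
        apply hcK
        rw [← mul_smul_comm, hcf, ← map_mul, hd, ← hιc, mul_one]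
      obtain ⟨p, hp, hp0⟩ := hf i
      have h3 : Polynomial.eval₂ (ιD : D →+* D ⊗[R] FractionRing R) (ψK (f i))
          (p.map (φ : A →+* D)) = 0 := by
        rw [Polynomial.eval₂_map]
        have hcomp : (ιD : D →+* D ⊗[R] FractionRing R).comp (φ : A →+* D) =
            (ψK : A ⊗[R] FractionRing R →+* D ⊗[R] FractionRing R).comp
              (algebraMap A (A ⊗[R] FractionRing R)) := RingHom.ext fun a => (hψA a).symm
        rw [hcomp]
        have h5 := Polynomial.hom_eval₂ p (algebraMap A (A ⊗[R] FractionRing R))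
          (ψK : A ⊗[R] FractionRing R →+* D ⊗[R] FractionRing R) (f i)
        rw [hp0, map_zero] at h5
        exact h5.symm
      obtain ⟨e, he⟩ := mem_range_of_monic_of_inv (ιD : D →+* D ⊗[R] FractionRing R)
        (ψK (f i)) d h2 _ (hp.map _) h3
      simp only [RingHom.coe_coe] at he
      have h4 : φ (g i) = algebraMap R D c * e := by
        apply hι
        rw [map_mul, he, ← hcf i, hιc]
      rw [hi]
      apply le_antisymm
      · rw [Ideal.span_singleton_le_iff_mem, Ideal.mem_span_singleton']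
        exact ⟨e, by rw [h4, mul_comm]⟩
      · rw [Ideal.span_singleton_le_iff_mem, ← hi]
        exact hc'mem
  have hd : ∀ k, ∃ d : D, algebraMap R D c * d = φ (g k) := by
    intro k
    have h1 := hgmem k
    rw [hfirst, Ideal.mem_span_singleton'] at h1
    obtain ⟨d, hd⟩ := h1
    exact ⟨d, by rw [mul_comm]; exact hd⟩
  choose dk hdk using hd
  have hψf : ∀ k, ψK (f k) = ιD (dk k) := by
    intro k
    apply hcK
    rw [hcf, ← hdk, map_mul, hιc]
  refine ⟨hfirst, ?_⟩
  let S : Subalgebra A (A ⊗[R] FractionRing R) :=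
    { carrier := {y | ψK y ∈ Set.range ιD}
      mul_mem' := by
        rintro x y ⟨a, ha⟩ ⟨b, hb⟩
        exact ⟨a * b, by rw [map_mul, map_mul, ha, hb]⟩
      add_mem' := by
        rintro x y ⟨a, ha⟩ ⟨b, hb⟩
        exact ⟨a + b, by rw [map_add, map_add, ha, hb]⟩
      algebraMap_mem' := fun a => ⟨φ a, (hψA a).symm⟩ }
  have hle : Algebra.adjoin A (Set.range f) ≤ S :=
    Algebra.adjoin_le (by rintro _ ⟨k, rfl⟩; exact ⟨dk k, (hψf k).symm⟩)
  have hmem : ∀ y : ↥(Algebra.adjoin A (Set.range f)),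
      ψK (y : A ⊗[R] FractionRing R) ∈ (ιD.range : Subalgebra R (D ⊗[R] FractionRing R)) :=
    fun y => hle y.2
  let val' : ↥(Algebra.adjoin A (Set.range f)) →ₐ[R] A ⊗[R] FractionRing R :=
    ((Algebra.adjoin A (Set.range f)).val).restrictScalars R
  let ψ1 : ↥(Algebra.adjoin A (Set.range f)) →ₐ[R] ιD.range :=
    (ψK.comp val').codRestrict ιD.range (fun y => hmem y)
  let e : D ≃ₐ[R] ιD.range := AlgEquiv.ofInjective ιD hι
  let ψ : ↥(Algebra.adjoin A (Set.range f)) →ₐ[R] D := (e.symm : ιD.range →ₐ[R] D).comp ψ1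
  have hψ : ∀ y : ↥(Algebra.adjoin A (Set.range f)),
      ιD (ψ y) = ψK (y : A ⊗[R] FractionRing R) := by
    intro y
    have h1 : e (ψ y) = ψ1 y := e.apply_symm_apply _
    exact congrArg Subtype.val h1
  have hψA' : ∀ a : A, ψ (algebraMap A ↥(Algebra.adjoin A (Set.range f)) a) = φ a := by
    intro a
    apply hι
    rw [hψ]
    exact hψA a
  have huniq : ∀ (ψ₁ ψ₂ : ↥(Algebra.adjoin A (Set.range f)) →ₐ[R] D),
      (∀ a, ψ₁ (algebraMap A ↥(Algebra.adjoin A (Set.range f)) a) = φ a) →
      (∀ a, ψ₂ (algebraMap A ↥(Algebra.adjoin A (Set.range f)) a) = φ a) → ψ₁ = ψ₂ := by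
    intro ψ₁ ψ₂ h₁ h₂
    apply AlgHom.ext
    rintro ⟨y, hy⟩
    induction hy using Algebra.adjoin_induction with
    | mem x hx =>
      obtain ⟨k, rfl⟩ := hx
      apply hcD
      have hsm : c • (⟨f k, Algebra.subset_adjoin ⟨k, rfl⟩⟩ : ↥(Algebra.adjoin A (Set.range f))) =
          algebraMap A ↥(Algebra.adjoin A (Set.range f)) (g k) := Subtype.ext (hg k).symm
      rw [← Algebra.smul_def, ← Algebra.smul_def, ← map_smul, ← map_smul, hsm, h₁, h₂]
    | algebraMap a => exact (h₁ a).trans (h₂ a).symm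
    | add x y hx hy h1 h2 =>
      have h7 : (⟨x + y, add_mem hx hy⟩ : ↥(Algebra.adjoin A (Set.range f))) =
          ⟨x, hx⟩ + ⟨y, hy⟩ := rfl
      rw [h7, map_add, map_add, h1, h2]
    | mul x y hx hy h1 h2 =>
      have h7 : (⟨x * y, mul_mem hx hy⟩ : ↥(Algebra.adjoin A (Set.range f))) =
          ⟨x, hx⟩ * ⟨y, hy⟩ := rfl
      rw [h7, map_mul, map_mul, h1, h2]
  refine ⟨ψ, AlgHom.ext hψA', ?_⟩
  intro ψ' hψ'
  have hψ'A : ∀ a, ψ' (algebraMap A ↥(Algebra.adjoin A (Set.range f)) a) = φ a :=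
    fun a => congrArg (fun F : A →ₐ[R] D => F a) hψ'
  exact huniq ψ' ψ hψ'A hψA'

end Groth.Agent.Lib.AdjoinExt
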