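import Mathlib

/-!
# `A[u]_n → C_r` is bijective  (helper3)
-/

universe u

open IsLocalRing

namespace Groth.Agent.Lib.AdjoinLocH3

variable (A C : Type u) [CommRing A] [IsLocalRing A] [CommRing C] [Algebra A C] [Module.Finite A C]
  (r : Ideal C) [r.IsMaximal] (u : C)

set_option maxHeartbeats 800000 in
theorem main
    (hu₁ : ∀ r' : Ideal C, r'.IsMaximal → r' ≠ r → u ∈ r') (hu₂ : u ∉ r)
    (hu₃ : Subalgebra.toSubmodule (Algebra.adjoin A {algebraMap C (Localization.AtPrime r) u}) ⊔
        Submodule.restrictScalars A (Ideal.map (algebraMap A (Localization.AtPrime r))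
          (IsLocalRing.maximalIdeal A)) = ⊤) :
    Function.Bijective (Localization.localRingHom
      (Ideal.comap (Algebra.adjoin A ({u} : Set C)).val.toRingHom r) r
      (Algebra.adjoin A ({u} : Set C)).val.toRingHom rfl) := by
  classical
  set B : Subalgebra A C := Algebra.adjoin A ({u} : Set C) with hB
  set ι : B →+* C := B.val.toRingHom with hι
  set n : Ideal B := Ideal.comap ι r with hn
  have hιalg : algebraMap B C = ι := rfl
  have hιinj : Function.Injective ι := Subtype.val_injective
  haveI : Algebra.IsIntegral A C := Algebra.IsIntegral.of_finite A C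
  haveI : Algebra.IsIntegral B C := Algebra.IsIntegral.tower_top (R := A)
  let u' : B := ⟨u, Algebra.subset_adjoin rfl⟩
  have hu'n : u' ∉ n := fun h => hu₂ h
  -- `r` is the only prime of `C` over `n`
  have hnmax : n.IsMaximal := Ideal.isMaximal_comap_of_isIntegral_of_isMaximal (R := B) r
  have huniq : ∀ r' : Ideal C, r'.IsPrime → r'.comap ι = n → r' = r := by
    intro r' hr' hcomap
    haveI := hr'
    have hmax : r'.IsMaximal :=
      Ideal.isMaximal_of_isIntegral_of_isMaximal_comap (R := B) r' (by rw [hιalg, hcomap]; exact hnmax)
    by_contra hne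
    have h1 : u ∈ r' := hu₁ r' hmax hne
    have h2 : u' ∈ r'.comap ι := h1
    rw [hcomap] at h2
    exact hu'n h2
  -- key
  have key : ∀ s : C, s ∉ r → ∃ (c : C) (b : B), b ∉ n ∧ s * c = ι b := by
    intro s hs
    by_contra H
    push Not at H
    have hle : (Ideal.span {s}).comap (algebraMap B C) ≤ n := by
      intro b hb
      rw [Ideal.mem_comap, Ideal.mem_span_singleton] at hb
      obtain ⟨c, hc⟩ := hb
      by_contra hbn
      exact H c b hbn hc.symm
    haveI : n.IsPrime := hnmax.isPrime
    obtain ⟨Q, hQ, hQprime, hQcomap⟩ := Ideal.exists_ideal_over_prime_of_isIntegral n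
      (Ideal.span {s}) hle
    have := huniq Q hQprime hQcomap
    rw [this] at hQ
    exact hs (hQ (Ideal.mem_span_singleton_self s))
  set ψ := Localization.localRingHom n r ι rfl with hψ
  have hψmk : ∀ (b : B) (t : n.primeCompl), ψ (IsLocalization.mk' (Localization.AtPrime n) b t) =
      IsLocalization.mk' (Localization.AtPrime r) (ι b)
        (⟨ι t, (show ι (t : B) ∈ r.primeCompl from t.2)⟩ : r.primeCompl) := by
    intro b t
    exact Localization.localRingHom_mk' (I := n) r ι rfl b t
  have hψalg : ∀ b : B, ψ (algebraMap B (Localization.AtPrime n) b) =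
      algebraMap C (Localization.AtPrime r) (ι b) :=
    fun b => Localization.localRingHom_to_map n r ι rfl b
  constructor
  · -- injective
    rw [injective_iff_map_eq_zero]
    intro x hx
    obtain ⟨b, t, rfl⟩ := IsLocalization.exists_mk'_eq n.primeCompl x
    rw [hψmk, IsLocalization.mk'_eq_zero_iff] at hx
    obtain ⟨⟨s, hs⟩, hsb⟩ := hx
    obtain ⟨c, b', hb'n, hsc⟩ := key s hs
    rw [IsLocalization.mk'_eq_zero_iff]
    refine ⟨(⟨b', hb'n⟩ : n.primeCompl), ?_⟩
    apply hιinj
    rw [map_mul, map_zero, ← hsc]
    calc s * c * ι b = c * (s * ι b) := by ring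
      _ = 0 := by rw [hsb, mul_zero]
  · -- surjective
    letI : Algebra (Localization.AtPrime n) (Localization.AtPrime r) := ψ.toAlgebra
    have halg : ∀ x, algebraMap (Localization.AtPrime n) (Localization.AtPrime r) x = ψ x :=
      fun _ => rfl
    haveI : IsScalarTower A (Localization.AtPrime n) (Localization.AtPrime r) :=
      IsScalarTower.of_algebraMap_eq fun a => by
        rw [halg, IsScalarTower.algebraMap_apply A B (Localization.AtPrime n), hψalg,
          IsScalarTower.algebraMap_apply A C (Localization.AtPrime r)]
        rfl
    -- `C_r` is a finite `B_n`-module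
    haveI hfin : Module.Finite (Localization.AtPrime n) (Localization.AtPrime r) := by
      obtain ⟨S, hS⟩ := (Module.Finite.fg_top (R := A) (M := C))
      refine ⟨⟨S.image (algebraMap C (Localization.AtPrime r)), ?_⟩⟩
      rw [eq_top_iff]
      intro x _
      obtain ⟨c, ⟨s, hs⟩, rfl⟩ := IsLocalization.exists_mk'_eq r.primeCompl x
      obtain ⟨c', b', hb'n, hsc⟩ := key s hs
      obtain ⟨m, hm⟩ : ∃ m, m = IsLocalization.mk' (Localization.AtPrime r) (ι 1)
          (⟨ι b', (show ι b' ∈ r.primeCompl from hb'n)⟩ : r.primeCompl) := ⟨_, rfl⟩
      have h2 : m * algebraMap C (Localization.AtPrime r) (ι b') = 1 := by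
        rw [hm, IsLocalization.mk'_spec, map_one, map_one]
      have hψm : ψ (IsLocalization.mk' (Localization.AtPrime n) 1 (⟨b', hb'n⟩ : n.primeCompl)) = m := by
        rw [hψmk, hm]
      have h1 : IsLocalization.mk' (Localization.AtPrime r) c ⟨s, hs⟩ =
          ψ (IsLocalization.mk' (Localization.AtPrime n) 1 (⟨b', hb'n⟩ : n.primeCompl)) *
            algebraMap C (Localization.AtPrime r) (c * c') := by
        rw [hψm, IsLocalization.mk'_eq_iff_eq_mul]
        have h5 : algebraMap C (Localization.AtPrime r) (ι b') =
            algebraMap C (Localization.AtPrime r) s * algebraMap C (Localization.AtPrime r) c' := by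
          rw [← hsc, map_mul]
        rw [h5] at h2
        show _ = m * algebraMap C (Localization.AtPrime r) (c * c') *
          algebraMap C (Localization.AtPrime r) s
        calc algebraMap C (Localization.AtPrime r) c
            = algebraMap C (Localization.AtPrime r) c * (m * (algebraMap C (Localization.AtPrime r) s *
                algebraMap C (Localization.AtPrime r) c')) := by rw [h2, mul_one]
          _ = _ := by rw [map_mul]; ring
      rw [h1]
      have h3 : algebraMap C (Localization.AtPrime r) (c * c') ∈
          Submodule.span (Localization.AtPrime n)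
            ((S.image (algebraMap C (Localization.AtPrime r)) : Finset _) : Set _) := by
        have hcc : c * c' ∈ Submodule.span A (S : Set C) := by rw [hS]; trivial
        have hle : Submodule.span A (S : Set C) ≤
            ((Submodule.span (Localization.AtPrime n)
              ((S.image (algebraMap C (Localization.AtPrime r)) : Finset _) : Set _)).restrictScalars
                A).comap (IsScalarTower.toAlgHom A C (Localization.AtPrime r)).toLinearMap := by
          rw [Submodule.span_le]
          intro y hy
          apply Submodule.subset_span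
          rw [Finset.coe_image]
          exact ⟨y, hy, rfl⟩
        exact hle hcc
      have h4 := Submodule.smul_mem _
        (IsLocalization.mk' (Localization.AtPrime n) (1 : B) (⟨b', hb'n⟩ : n.primeCompl)) h3
      rw [Algebra.smul_def, halg] at h4
      exact h4
    -- Nakayama
    have hrA : r.comap (algebraMap A C) = maximalIdeal A :=
      IsLocalRing.eq_maximalIdeal (Ideal.isMaximal_comap_of_isIntegral_of_isMaximal (R := A) r)
    have hmle : Ideal.map (algebraMap A (Localization.AtPrime r)) (maximalIdeal A) ≤
        (maximalIdeal (Localization.AtPrime n)).map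
          (algebraMap (Localization.AtPrime n) (Localization.AtPrime r)) := by
      rw [Ideal.map_le_iff_le_comap]
      intro a ha
      rw [Ideal.mem_comap, IsScalarTower.algebraMap_apply A (Localization.AtPrime n)
        (Localization.AtPrime r)]
      apply Ideal.mem_map_of_mem
      rw [IsScalarTower.algebraMap_apply A B (Localization.AtPrime n),
        IsLocalization.AtPrime.to_map_mem_maximal_iff (Localization.AtPrime n) n]
      show ι (algebraMap A B a) ∈ r
      have : algebraMap A C a ∈ r := by
        rw [← hrA] at ha
        exact ha
      exact this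
    let N : Submodule (Localization.AtPrime n) (Localization.AtPrime r) :=
      LinearMap.range (Algebra.linearMap (Localization.AtPrime n) (Localization.AtPrime r))
    have hNN : (⊤ : Submodule (Localization.AtPrime n) (Localization.AtPrime r)) ≤
        N ⊔ maximalIdeal (Localization.AtPrime n) • ⊤ := by
      intro x _
      have hx : x ∈ Subalgebra.toSubmodule
          (Algebra.adjoin A {algebraMap C (Localization.AtPrime r) u}) ⊔
          Submodule.restrictScalars A (Ideal.map (algebraMap A (Localization.AtPrime r))
            (IsLocalRing.maximalIdeal A)) := by rw [hu₃]; trivial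
      obtain ⟨y, hy, z, hz, rfl⟩ := Submodule.mem_sup.1 hx
      refine Submodule.add_mem _ (Submodule.mem_sup_left ?_) (Submodule.mem_sup_right ?_)
      · have hle : Algebra.adjoin A {algebraMap C (Localization.AtPrime r) u} ≤
            (IsScalarTower.toAlgHom A (Localization.AtPrime n) (Localization.AtPrime r)).range := by
          apply Algebra.adjoin_le
          rintro _ rfl
          exact ⟨algebraMap B (Localization.AtPrime n) u', hψalg u'⟩
        obtain ⟨w, hw⟩ := hle hy
        exact ⟨w, hw⟩
      · rw [Ideal.smul_top_eq_map]
        exact hmle hz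
    have hle := Submodule.le_of_le_smul_of_le_jacobson_bot (N := N)
      (Module.Finite.fg_top (R := Localization.AtPrime n) (M := Localization.AtPrime r))
      (IsLocalRing.maximalIdeal_le_jacobson ⊥) hNN
    intro x
    obtain ⟨y, hy⟩ := hle (Submodule.mem_top (x := x))
    exact ⟨y, hy⟩

end Groth.Agent.Lib.AdjoinLocH3
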