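import Mathlib
import Groth.Prelude.Def_EtRam

/-!
# `A[x]/(x^n - π)` over a discrete valuation ring (helper9)
-/

set_option autoImplicit false

universe u

namespace Groth.Agent.AdjRootDVR

open Polynomial

section Poly

variable {A : Type u} [CommRing A] [IsDomain A] [IsDiscreteValuationRing A] {π : A}
  (hπ : Irreducible π) {n : ℕ} (hn : 1 ≤ n)

include hn in
omit [IsDomain A] [IsDiscreteValuationRing A] in
lemma fmonic : (X ^ n - C π : A[X]).Monic := monic_X_pow_sub_C π (by omega)

include hπ hn in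
lemma firreducible : Irreducible (X ^ n - C π : A[X]) := by
  have hP : (Ideal.span {π}).IsPrime :=
    (Ideal.span_singleton_prime hπ.ne_zero).mpr hπ.prime
  have hdeg : (X ^ n - C π : A[X]).natDegree = n := natDegree_X_pow_sub_C
  refine (Monic.isEisensteinAt_of_mem_of_notMem (fmonic hn) hP.ne_top ?_ ?_).irreducible hP
    (fmonic hn).isPrimitive (by rw [hdeg]; omega)
  · intro k hk
    rw [hdeg] at hk
    rw [coeff_sub, coeff_X_pow, if_neg (by omega), coeff_C, zero_sub]
    split_ifs
    · exact Ideal.neg_mem_iff _ |>.mpr (Ideal.mem_span_singleton_self π)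
    · rw [neg_zero]; exact Ideal.zero_mem _
  · rw [coeff_sub, coeff_X_pow, if_neg (by omega), coeff_C, if_pos rfl, zero_sub,
      Ideal.span_singleton_pow, Ideal.neg_mem_iff, Ideal.mem_span_singleton]
    intro h
    obtain ⟨c, hc⟩ := h
    have h1 : π * (1 - π * c) = 0 := by
      rw [mul_sub, mul_one, ← mul_assoc, ← sq, ← hc, sub_self]
    rcases mul_eq_zero.mp h1 with h2 | h2
    · exact hπ.ne_zero h2
    · have : IsUnit π := IsUnit.of_mul_eq_one c (by rw [sub_eq_zero] at h2; exact h2.symm)
      exact hπ.not_isUnit this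

end Poly


section Ring

variable {A : Type u} [CommRing A] [IsDomain A] [IsDiscreteValuationRing A] {π : A}
  (hπ : Irreducible π) {n : ℕ} (hn : 1 ≤ n)

omit [IsDomain A] [IsDiscreteValuationRing A] in
lemma root_pow : (AdjoinRoot.root (X ^ n - C π : A[X])) ^ n =
    AdjoinRoot.of (X ^ n - C π : A[X]) π := by
  have h := AdjoinRoot.eval₂_root (X ^ n - C π : A[X])
  rw [eval₂_sub, eval₂_X_pow, eval₂_C, sub_eq_zero] at h
  exact h

omit [IsDomain A] [IsDiscreteValuationRing A] in
lemma exists_decomp (x : AdjoinRoot (X ^ n - C π : A[X])) :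
    ∃ (c : A) (y : AdjoinRoot (X ^ n - C π : A[X])),
      x = AdjoinRoot.of _ c + AdjoinRoot.root _ * y := by
  obtain ⟨g, rfl⟩ := AdjoinRoot.mk_surjective x
  refine ⟨g.coeff 0, AdjoinRoot.mk _ g.divX, ?_⟩
  conv_lhs => rw [← divX_mul_X_add g]
  rw [map_add, map_mul, AdjoinRoot.mk_X, AdjoinRoot.mk_C]
  ring

include hπ hn

/-- The residue map `A' → k` killing the root. -/
noncomputable def toRes : AdjoinRoot (X ^ n - C π : A[X]) →+* IsLocalRing.ResidueField A :=
  AdjoinRoot.lift (IsLocalRing.residue A) 0 (by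
    have h0 : IsLocalRing.residue A π = 0 := by
      rw [IsLocalRing.residue_eq_zero_iff, hπ.maximalIdeal_eq]
      exact Ideal.mem_span_singleton_self π
    rw [eval₂_sub, eval₂_X_pow, eval₂_C, h0, zero_pow (by omega), sub_zero])

lemma toRes_of (a : A) : toRes hπ hn (AdjoinRoot.of _ a) = IsLocalRing.residue A a :=
  AdjoinRoot.lift_of _

lemma toRes_root : toRes hπ hn (AdjoinRoot.root _) = 0 := AdjoinRoot.lift_root _

lemma toRes_surjective : Function.Surjective (toRes hπ hn) := by
  intro y
  obtain ⟨a, rfl⟩ := IsLocalRing.residue_surjective y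
  exact ⟨AdjoinRoot.of _ a, toRes_of hπ hn a⟩

lemma ker_toRes : RingHom.ker (toRes hπ hn) =
    Ideal.span {AdjoinRoot.root (X ^ n - C π : A[X])} := by
  apply le_antisymm
  · intro x hx
    rw [RingHom.mem_ker] at hx
    obtain ⟨c, y, rfl⟩ := exists_decomp x
    rw [map_add, map_mul, toRes_root, zero_mul, add_zero, toRes_of,
      IsLocalRing.residue_eq_zero_iff, hπ.maximalIdeal_eq, Ideal.mem_span_singleton'] at hx
    obtain ⟨c', rfl⟩ := hx
    refine Ideal.add_mem _ ?_ (Ideal.mul_mem_right _ _ (Ideal.mem_span_singleton_self _))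
    rw [map_mul, ← root_pow]
    exact Ideal.mul_mem_left _ _
      (Ideal.pow_mem_of_mem _ (Ideal.mem_span_singleton_self _) n (by omega))
  · rw [Ideal.span_le, Set.singleton_subset_iff]
    exact toRes_root hπ hn

lemma span_root_isMaximal :
    (Ideal.span {AdjoinRoot.root (X ^ n - C π : A[X])}).IsMaximal := by
  rw [← ker_toRes hπ hn]
  exact RingHom.ker_isMaximal_of_surjective _ (toRes_surjective hπ hn)

lemma root_mem_of_isMaximal (M : Ideal (AdjoinRoot (X ^ n - C π : A[X]))) [hM : M.IsMaximal] :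
    AdjoinRoot.root (X ^ n - C π : A[X]) ∈ M := by
  haveI : Module.Finite A (AdjoinRoot (X ^ n - C π : A[X])) := (fmonic hn).finite_adjoinRoot
  haveI : Algebra.IsIntegral A (AdjoinRoot (X ^ n - C π : A[X])) := Algebra.IsIntegral.of_finite _ _
  have h1 : (M.comap (algebraMap A (AdjoinRoot (X ^ n - C π : A[X])))).IsMaximal :=
    Ideal.isMaximal_comap_of_isIntegral_of_isMaximal M
  have h2 := IsLocalRing.eq_maximalIdeal h1
  have h3 : π ∈ M.comap (algebraMap A (AdjoinRoot (X ^ n - C π : A[X]))) := by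
    rw [h2, hπ.maximalIdeal_eq]
    exact Ideal.mem_span_singleton_self π
  have h4 : AdjoinRoot.root (X ^ n - C π : A[X]) ^ n ∈ M := by
    rw [root_pow]
    exact h3
  exact hM.isPrime.mem_of_pow_mem n h4

lemma isLocalRing : IsLocalRing (AdjoinRoot (X ^ n - C π : A[X])) := by
  have hmax := span_root_isMaximal hπ hn
  refine IsLocalRing.of_unique_max_ideal ⟨_, hmax, ?_⟩
  intro M hM
  haveI := hM
  have hle : Ideal.span {AdjoinRoot.root (X ^ n - C π : A[X])} ≤ M := by
    rw [Ideal.span_le, Set.singleton_subset_iff]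
    exact root_mem_of_isMaximal hπ hn M
  exact (hmax.eq_of_le hM.ne_top hle).symm

lemma isDomain : IsDomain (AdjoinRoot (X ^ n - C π : A[X])) :=
  AdjoinRoot.isDomain_of_prime (firreducible hπ hn).prime

lemma maximalIdeal_eq [IsLocalRing (AdjoinRoot (X ^ n - C π : A[X]))] :
    IsLocalRing.maximalIdeal (AdjoinRoot (X ^ n - C π : A[X])) =
      Ideal.span {AdjoinRoot.root (X ^ n - C π : A[X])} :=
  (IsLocalRing.eq_maximalIdeal (span_root_isMaximal hπ hn)).symm

lemma root_ne_zero : AdjoinRoot.root (X ^ n - C π : A[X]) ≠ 0 := by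
  intro h
  have h1 : AdjoinRoot.of (X ^ n - C π : A[X]) π = 0 := by
    rw [← root_pow, h, zero_pow (by omega)]
  have hdeg : (X ^ n - C π : A[X]).degree ≠ 0 := by
    rw [degree_X_pow_sub_C (by omega) π]
    exact_mod_cast (by omega : n ≠ 0)
  have := AdjoinRoot.of.injective_of_degree_ne_zero hdeg (h1.trans (map_zero _).symm)
  exact hπ.ne_zero this

lemma isDVR [IsDomain (AdjoinRoot (X ^ n - C π : A[X]))] :
    IsDiscreteValuationRing (AdjoinRoot (X ^ n - C π : A[X])) := by
  haveI := isLocalRing hπ hn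
  haveI : IsNoetherianRing (AdjoinRoot (X ^ n - C π : A[X])) :=
    isNoetherianRing_of_surjective _ _ (AdjoinRoot.mk (X ^ n - C π : A[X]))
      AdjoinRoot.mk_surjective
  have hnf : ¬ IsField (AdjoinRoot (X ^ n - C π : A[X])) := by
    rw [IsLocalRing.isField_iff_maximalIdeal_eq, maximalIdeal_eq hπ hn,
      Ideal.span_singleton_eq_bot]
    exact root_ne_zero hπ hn
  have hpr : (IsLocalRing.maximalIdeal (AdjoinRoot (X ^ n - C π : A[X]))).IsPrincipal :=
    ⟨⟨AdjoinRoot.root _, maximalIdeal_eq hπ hn⟩⟩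
  exact ((IsDiscreteValuationRing.TFAE _ hnf).out 0 4).mpr hpr

end Ring


section General

variable {B : Type u} [CommRing B] [IsDomain B] [ValuationRing B] {K : Type u} [Field K]
  [Algebra B K] [IsFractionRing B K]

/-- A valuation subring of the fraction field of a valuation ring `B` that dominates `B`
is (the image of) `B`. -/
lemma mem_iff_of_dominates (V : ValuationSubring K) (h1 : ∀ b : B, algebraMap B K b ∈ V)
    (h2 : ∀ b : B, b ∈ IsLocalRing.maximalIdeal B → V.valuation (algebraMap B K b) < 1)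
    (x : K) : x ∈ V ↔ ∃ b : B, algebraMap B K b = x := by
  constructor
  · intro hx
    by_cases hx0 : x = 0
    · exact ⟨0, by rw [hx0, map_zero]⟩
    rcases ValuationRing.isInteger_or_isInteger B x with ⟨b, hb⟩ | ⟨b, hb⟩
    · exact ⟨b, hb⟩
    · by_cases hu : IsUnit b
      · obtain ⟨u, rfl⟩ := hu
        refine ⟨↑u⁻¹, ?_⟩
        have h3 : algebraMap B K (↑u⁻¹ : B) * x⁻¹ = 1 := by
          rw [← hb, ← map_mul, Units.inv_mul, map_one]
        field_simp at h3
        exact h3
      · exfalso
        have h3 := h2 b (by rwa [IsLocalRing.mem_maximalIdeal, mem_nonunits_iff])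
        rw [hb, map_inv₀] at h3
        have h4 : V.valuation x ≤ 1 := (V.valuation_le_one_iff x).mpr hx
        have h5 : 0 < V.valuation x := by
          rw [Valuation.pos_iff]
          exact hx0
        have h6 : 1 ≤ V.valuation x := (inv_le_one₀ h5).mp h3.le
        have h7 : V.valuation x = 1 := le_antisymm h4 h6
        rw [h7, inv_one] at h3
        exact lt_irrefl _ h3
  · rintro ⟨b, rfl⟩
    exact h1 b

/-- `v(x) < 1` from `v(x)^n < 1`. -/
lemma val_lt_one_of_pow (V : ValuationSubring K) (x : K) (n : ℕ)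
    (h : V.valuation x ^ n < 1) : V.valuation x < 1 := by
  by_contra hc
  rw [not_lt] at hc
  exact absurd h (not_lt.mpr (one_le_pow₀ hc))

lemma val_mul_lt_one (V : ValuationSubring K) (x y : K) (hx : V.valuation x < 1)
    (hy : V.valuation y ≤ 1) : V.valuation (x * y) < 1 := by
  rw [map_mul]
  calc V.valuation x * V.valuation y ≤ V.valuation x * 1 := mul_le_mul_right hy _
    _ = V.valuation x := mul_one _
    _ < 1 := hx

end General


section Ram

variable {A : Type u} [CommRing A] [IsDomain A] [IsDiscreteValuationRing A] {π : A}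
  (hπ : Irreducible π) {n : ℕ} (hn : 1 ≤ n)

include hπ hn

lemma map_maximalIdeal [IsLocalRing (AdjoinRoot (X ^ n - C π : A[X]))] :
    (IsLocalRing.maximalIdeal A).map (algebraMap A (AdjoinRoot (X ^ n - C π : A[X]))) =
      IsLocalRing.maximalIdeal (AdjoinRoot (X ^ n - C π : A[X])) ^ n := by
  rw [maximalIdeal_eq hπ hn, hπ.maximalIdeal_eq, Ideal.map_span, Set.image_singleton,
    Ideal.span_singleton_pow, root_pow]
  rfl

lemma of_mem_maximalIdeal [IsLocalRing (AdjoinRoot (X ^ n - C π : A[X]))] (a : A)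
    (ha : a ∈ IsLocalRing.maximalIdeal A) :
    AdjoinRoot.of (X ^ n - C π : A[X]) a ∈
      IsLocalRing.maximalIdeal (AdjoinRoot (X ^ n - C π : A[X])) := by
  have h1 : AdjoinRoot.of (X ^ n - C π : A[X]) a ∈
      (IsLocalRing.maximalIdeal A).map (algebraMap A (AdjoinRoot (X ^ n - C π : A[X]))) :=
    Ideal.mem_map_of_mem _ ha
  rw [map_maximalIdeal hπ hn] at h1
  exact Ideal.pow_le_self (by omega) h1

variable {K₁ : Type u} [Field K₁] [Algebra (AdjoinRoot (X ^ n - C π : A[X])) K₁]

/-- Any valuation subring dominating `A` dominates `A'`. -/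
lemma dominates_adjoinRoot [IsLocalRing (AdjoinRoot (X ^ n - C π : A[X]))]
    (V : ValuationSubring K₁)
    (h : EtRam.Dominates A ((algebraMap (AdjoinRoot (X ^ n - C π : A[X])) K₁).comp
      (algebraMap A (AdjoinRoot (X ^ n - C π : A[X])))) V) :
    V.valuation (algebraMap _ K₁ (AdjoinRoot.root (X ^ n - C π : A[X]))) < 1 ∧
    (∀ b : AdjoinRoot (X ^ n - C π : A[X]), algebraMap _ K₁ b ∈ V) ∧
    ∀ b : AdjoinRoot (X ^ n - C π : A[X]), b ∈ IsLocalRing.maximalIdeal _ →
      V.valuation (algebraMap _ K₁ b) < 1 := by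
  have hroot : V.valuation (algebraMap _ K₁ (AdjoinRoot.root (X ^ n - C π : A[X]))) < 1 := by
    apply val_lt_one_of_pow V _ n
    rw [← map_pow, ← map_pow, root_pow]
    exact h.2 π (by rw [hπ.maximalIdeal_eq]; exact Ideal.mem_span_singleton_self π)
  have hmem : ∀ b : AdjoinRoot (X ^ n - C π : A[X]), algebraMap _ K₁ b ∈ V := by
    intro b
    induction b using AdjoinRoot.induction_on with
    | ih p =>
      induction p using Polynomial.induction_on' with
      | add p q hp hq =>
        rw [map_add, map_add]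
        exact V.add_mem _ _ hp hq
      | monomial m a =>
        rw [← C_mul_X_pow_eq_monomial, map_mul, map_pow, AdjoinRoot.mk_C, AdjoinRoot.mk_X,
          map_mul, map_pow]
        refine V.mul_mem _ _ (h.1 a) (V.pow_mem ?_ m)
        exact (V.valuation_le_one_iff _).mp hroot.le
  refine ⟨hroot, hmem, ?_⟩
  intro b hb
  rw [maximalIdeal_eq hπ hn, Ideal.mem_span_singleton'] at hb
  obtain ⟨c, rfl⟩ := hb
  rw [mul_comm, map_mul]
  exact val_mul_lt_one V _ _ hroot ((V.valuation_le_one_iff _).mpr (hmem c))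

end Ram


section TotRam

variable {A : Type u} [CommRing A] [IsDomain A] [IsDiscreteValuationRing A] {π : A}
  (hπ : Irreducible π) {n : ℕ} (hn : 1 ≤ n)

include hπ hn

theorem totallyRamified [IsDomain (AdjoinRoot (X ^ n - C π : A[X]))]
    [IsDiscreteValuationRing (AdjoinRoot (X ^ n - C π : A[X]))]
    (K₁ : Type u) [Field K₁] [Algebra (AdjoinRoot (X ^ n - C π : A[X])) K₁]
    [IsFractionRing (AdjoinRoot (X ^ n - C π : A[X])) K₁] :
    EtRam.IsTotallyRamified A ((algebraMap (AdjoinRoot (X ^ n - C π : A[X])) K₁).comp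
      (algebraMap A (AdjoinRoot (X ^ n - C π : A[X])))) := by
  have key : ∀ V : ValuationSubring K₁,
      EtRam.Dominates A ((algebraMap (AdjoinRoot (X ^ n - C π : A[X])) K₁).comp
        (algebraMap A (AdjoinRoot (X ^ n - C π : A[X])))) V →
      ∀ x : K₁, x ∈ V ↔ ∃ b : AdjoinRoot (X ^ n - C π : A[X]), algebraMap _ K₁ b = x := by
    intro V h x
    obtain ⟨-, h1, h2⟩ := dominates_adjoinRoot hπ hn V h
    exact mem_iff_of_dominates V h1 h2 x
  refine ⟨?_, ?_, ?_⟩
  · -- existence
    refine ⟨(ValuationRing.valuation (AdjoinRoot (X ^ n - C π : A[X])) K₁).valuationSubring,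
      ?_, ?_⟩
    · intro a
      rw [Valuation.mem_valuationSubring_iff]
      exact (ValuationRing.mem_integer_iff _ K₁ _).mpr ⟨_, rfl⟩
    · intro a ha
      have hmem := of_mem_maximalIdeal hπ hn a ha
      set b : AdjoinRoot (X ^ n - C π : A[X]) := AdjoinRoot.of _ a with hb
      have hgb : ((algebraMap (AdjoinRoot (X ^ n - C π : A[X])) K₁).comp
          (algebraMap A (AdjoinRoot (X ^ n - C π : A[X])))) a = algebraMap _ K₁ b := rfl
      rw [hgb]
      by_cases hb0 : b = 0
      · rw [hb0, map_zero, map_zero]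
        exact zero_lt_one
      have hx0 : algebraMap (AdjoinRoot (X ^ n - C π : A[X])) K₁ b ≠ 0 := by
        intro h0
        exact hb0 ((IsFractionRing.injective _ K₁) (h0.trans (map_zero _).symm))
      by_contra hc
      rw [not_lt] at hc
      have h5 : 0 < (ValuationRing.valuation (AdjoinRoot (X ^ n - C π : A[X]))
          K₁).valuationSubring.valuation (algebraMap _ K₁ b) := by
        rw [Valuation.pos_iff]
        exact hx0
      have h6 : (ValuationRing.valuation (AdjoinRoot (X ^ n - C π : A[X]))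
          K₁).valuationSubring.valuation (algebraMap _ K₁ b)⁻¹ ≤ 1 := by
        rw [map_inv₀]
        exact (inv_le_one₀ h5).mpr hc
      rw [ValuationSubring.valuation_le_one_iff, Valuation.mem_valuationSubring_iff] at h6
      obtain ⟨c, hc'⟩ := (ValuationRing.mem_integer_iff _ K₁ _).mp h6
      have h7 : algebraMap (AdjoinRoot (X ^ n - C π : A[X])) K₁ (b * c) = 1 := by
        rw [map_mul, hc', mul_inv_cancel₀ hx0]
      have h8 : b * c = 1 :=
        (IsFractionRing.injective _ K₁) (h7.trans (map_one _).symm)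
      have h9 : IsUnit b := IsUnit.of_mul_eq_one c h8
      exact (IsLocalRing.mem_maximalIdeal _).mp hmem h9
  · -- uniqueness
    intro V V' h h'
    ext x
    rw [key V h x, key V' h' x]
  · -- residue surjectivity
    intro V h y
    obtain ⟨v, rfl⟩ := IsLocalRing.residue_surjective y
    obtain ⟨hroot, h1, h2⟩ := dominates_adjoinRoot hπ hn V h
    obtain ⟨b, hb⟩ := (key V h v.1).mp v.2
    obtain ⟨c, z, rfl⟩ := exists_decomp b
    refine ⟨c, ?_⟩
    show IsLocalRing.residue V _ = IsLocalRing.residue V v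
    rw [← sub_eq_zero, ← map_sub, IsLocalRing.residue_eq_zero_iff,
      ValuationSubring.valuation_lt_one_iff]
    have h3 : ((RingHom.codRestrict ((algebraMap (AdjoinRoot (X ^ n - C π : A[X])) K₁).comp
        (algebraMap A (AdjoinRoot (X ^ n - C π : A[X])))) V h.1 c - v : V) : K₁) =
        - (algebraMap _ K₁ (AdjoinRoot.root (X ^ n - C π : A[X])) * algebraMap _ K₁ z) := by
      rw [AddSubgroupClass.coe_sub, ← hb, map_add, map_mul]
      show algebraMap _ K₁ (AdjoinRoot.of _ c) - _ = _
      ring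
    rw [h3, Valuation.map_neg]
    exact val_mul_lt_one V _ _ hroot ((V.valuation_le_one_iff _).mpr (h1 z))

end TotRam

end Groth.Agent.AdjRootDVR
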