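import Mathlib

/-!
# Integrality of localizations of `P[z]/(h)` over a factorial domain `P` (helper3)
-/

set_option autoImplicit false
universe u
open Polynomial

namespace Groth.Agent.Lib.AdjoinRootLocH3

variable {P : Type u} [CommRing P] [IsDomain P] [UniqueFactorizationMonoid P]

section Finrank

open TensorProduct

theorem finrank_tensor (h : P[X]) (hh : h ≠ 0) :
    Module.finrank (FractionRing P) (TensorProduct P (FractionRing P) (AdjoinRoot h)) =
      h.natDegree := by
  set F := FractionRing P
  set q : (F ⊗[P] P)[X] := h.map (Algebra.TensorProduct.includeRight : P →ₐ[P] F ⊗[P] P).toRingHom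
    with hq
  set g : F[X] := h.map (algebraMap P F) with hg
  have hg0 : g ≠ 0 := by
    rw [hg, Ne, Polynomial.map_eq_zero_iff (IsFractionRing.injective P F)]
    exact hh
  let e1 : F ⊗[P] AdjoinRoot h ≃ₐ[F] AdjoinRoot q := AdjoinRoot.tensorAlgEquiv h q rfl
  have hqg : q.map ((Algebra.TensorProduct.rid P F F : F ⊗[P] P ≃ₐ[F] F) : F ⊗[P] P →+* F) =
      g := by
    rw [hq, hg, Polynomial.map_map]
    congr 1
    ext p
    simp [Algebra.smul_def]
  let e2 : AdjoinRoot q ≃ₐ[F] AdjoinRoot g :=
    AdjoinRoot.mapAlgEquiv (Algebra.TensorProduct.rid P F F) q g (by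
      show Associated (q.map _) g
      rw [show q.map ((Algebra.TensorProduct.rid P F F : F ⊗[P] P ≃ₐ[F] F) : F ⊗[P] P →+* F) =
        g from hqg])
  rw [LinearEquiv.finrank_eq (e1.trans e2).toLinearEquiv,
    (AdjoinRoot.powerBasis hg0).finrank, AdjoinRoot.powerBasis_dim, hg,
    Polynomial.natDegree_map_eq_of_injective (IsFractionRing.injective P F)]

end Finrank

section Integral

variable (h : P[X]) (S : Submonoid P)

local notation "PS" => Localization S
local notation "AS" => Localization (Algebra.algebraMapSubmonoid (AdjoinRoot h) S)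

theorem isIntegral_of_isUnit
    (hu : IsUnit (algebraMap P (Localization S) h.leadingCoeff)) :
    Algebra.IsIntegral (Localization S)
      (Localization (Algebra.algebraMapSubmonoid (AdjoinRoot h) S)) := by
  classical
  set θ : AS := algebraMap (AdjoinRoot h) AS (AdjoinRoot.root h) with hθ
  obtain ⟨v, hv⟩ := hu.exists_left_inv
  -- θ is integral
  have hθint : IsIntegral PS θ := by
    refine ⟨C v * h.map (algebraMap P PS), ?_, ?_⟩
    · apply Polynomial.monic_C_mul_of_mul_leadingCoeff_eq_one
      by_cases hlc : algebraMap P PS h.leadingCoeff = 0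
      · rw [hlc, mul_zero] at hv
        have : Subsingleton PS := subsingleton_of_zero_eq_one hv
        exact Subsingleton.elim _ _
      · rw [Polynomial.leadingCoeff_map_of_leadingCoeff_ne_zero _ hlc]
        exact hv
    · rw [eval₂_mul, eval₂_C, eval₂_map, ← IsScalarTower.algebraMap_eq,
        IsScalarTower.algebraMap_eq P (AdjoinRoot h) AS, ← Polynomial.hom_eval₂]
      have : eval₂ (algebraMap P (AdjoinRoot h)) (AdjoinRoot.root h) h = 0 := by
        rw [← aeval_def, AdjoinRoot.aeval_eq, AdjoinRoot.mk_self]
      rw [this, map_zero, mul_zero]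
  -- images of `A` are integral
  have hAint : ∀ a : AdjoinRoot h, IsIntegral PS (algebraMap (AdjoinRoot h) AS a) := by
    intro a
    obtain ⟨q, rfl⟩ := AdjoinRoot.mk_surjective a
    have h1 : algebraMap (AdjoinRoot h) AS (AdjoinRoot.mk h q) =
        aeval θ (q.map (algebraMap P PS)) := by
      rw [aeval_def, eval₂_map, ← IsScalarTower.algebraMap_eq,
        IsScalarTower.algebraMap_eq P (AdjoinRoot h) AS, ← Polynomial.hom_eval₂]
      congr 1
      rw [← aeval_def, AdjoinRoot.aeval_eq]
    rw [h1]
    exact IsIntegral.of_mem_of_fg _ (hθint.fg_adjoin_singleton) _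
      (by
        rw [Algebra.adjoin_singleton_eq_range_aeval]
        exact ⟨_, rfl⟩)
  refine ⟨fun x => ?_⟩
  obtain ⟨a, s, rfl⟩ := IsLocalization.exists_mk'_eq
    (Algebra.algebraMapSubmonoid (AdjoinRoot h) S) x
  obtain ⟨s₀, hs₀, hs₀'⟩ := s.2
  rw [IsLocalization.mk'_eq_mul_mk'_one]
  refine IsIntegral.mul (hAint a) ?_
  have h2 : IsLocalization.mk' AS (1 : AdjoinRoot h) s =
      algebraMap PS AS (IsLocalization.mk' PS (1 : P) (⟨s₀, hs₀⟩ : S)) := by
    rw [IsLocalization.mk'_eq_iff_eq_mul, ← hs₀', ← IsScalarTower.algebraMap_apply,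
      IsScalarTower.algebraMap_apply P PS AS, ← map_mul, map_one]
    have : IsLocalization.mk' PS (1 : P) (⟨s₀, hs₀⟩ : S) * algebraMap P PS s₀ = 1 := by
      have := IsLocalization.mk'_spec PS (1 : P) (⟨s₀, hs₀⟩ : S)
      rw [map_one] at this
      exact this
    rw [this, map_one]
  rw [h2]
  exact isIntegral_algebraMap

end Integral

section Converse

variable (h : P[X]) (S : Submonoid P)

theorem isUnit_of_isIntegral (hirr : Irreducible h) (hdeg : h.natDegree ≠ 0)
    (hint : Algebra.IsIntegral (Localization S)
      (Localization (Algebra.algebraMapSubmonoid (AdjoinRoot h) S))) :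
    IsUnit (algebraMap P (Localization S) h.leadingCoeff) := by
  classical
  by_cases h0 : (0 : P) ∈ S
  · haveI : Subsingleton (Localization S) := IsLocalization.subsingleton h0
    exact isUnit_of_subsingleton _
  have hS : S ≤ nonZeroDivisors P := le_nonZeroDivisors_of_noZeroDivisors h0
  have hprim : h.IsPrimitive := hirr.isPrimitive hdeg
  have hgirr : Irreducible (h.map (algebraMap P (FractionRing P))) :=
    (hprim.irreducible_iff_irreducible_map_fraction_map).mp hirr
  haveI : Fact (Irreducible (h.map (algebraMap P (FractionRing P)))) := ⟨hgirr⟩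
  have hg0 : h.map (algebraMap P (FractionRing P)) ≠ 0 := hgirr.ne_zero
  have hinjPF : Function.Injective (algebraMap P (FractionRing P)) :=
    IsFractionRing.injective P (FractionRing P)
  -- algebra structures
  have hSunit : ∀ y : S, IsUnit (algebraMap P (FractionRing P) y) := fun y => IsUnit.mk0 _ (by
    rw [Ne, map_eq_zero_iff _ hinjPF]
    exact fun hy => h0 (hy ▸ y.2))
  letI algPSF : Algebra (Localization S) (FractionRing P) := (IsLocalization.lift hSunit).toAlgebra
  haveI : IsScalarTower P (Localization S) (FractionRing P) :=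
    IsScalarTower.of_algebraMap_eq fun p => (IsLocalization.lift_eq hSunit p).symm
  haveI : IsDomain (Localization S) := IsLocalization.isDomain_localization hS
  haveI : IsFractionRing (Localization S) (FractionRing P) :=
    IsFractionRing.isFractionRing_of_isDomain_of_isLocalization S (Localization S) (FractionRing P)
  haveI : IsIntegrallyClosed (Localization S) :=
    isIntegrallyClosed_of_isLocalization (Localization S) S hS
  -- the map `A → L`
  have hroot : h.eval₂ (Algebra.ofId P (AdjoinRoot (h.map (algebraMap P (FractionRing P)))))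
      (AdjoinRoot.root (h.map (algebraMap P (FractionRing P)))) = 0 := by
    have h1 : ((Algebra.ofId P (AdjoinRoot (h.map (algebraMap P (FractionRing P))))) :
        P →+* AdjoinRoot (h.map (algebraMap P (FractionRing P)))) =
        (algebraMap (FractionRing P) (AdjoinRoot (h.map (algebraMap P (FractionRing P))))).comp
          (algebraMap P (FractionRing P)) := by
      ext p
      simp only [RingHom.coe_coe, Algebra.ofId_apply, RingHom.comp_apply]
      exact IsScalarTower.algebraMap_apply P (FractionRing P)
        (AdjoinRoot (h.map (algebraMap P (FractionRing P)))) p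
    show h.eval₂ ((Algebra.ofId P (AdjoinRoot (h.map (algebraMap P (FractionRing P))))) :
      P →+* AdjoinRoot (h.map (algebraMap P (FractionRing P)))) _ = 0
    rw [h1, ← eval₂_map, ← aeval_def, AdjoinRoot.aeval_eq, AdjoinRoot.mk_self]
  let φ : AdjoinRoot h →ₐ[P] AdjoinRoot (h.map (algebraMap P (FractionRing P))) :=
    AdjoinRoot.liftAlgHom h (Algebra.ofId P _) (AdjoinRoot.root _) hroot
  have hφunit : ∀ y : Algebra.algebraMapSubmonoid (AdjoinRoot h) S, IsUnit (φ.toRingHom y) := by
    rintro ⟨y, s, hs, rfl⟩
    show IsUnit (φ (algebraMap P (AdjoinRoot h) s))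
    rw [AlgHom.commutes]
    apply IsUnit.mk0
    rw [IsScalarTower.algebraMap_apply P (FractionRing P)
      (AdjoinRoot (h.map (algebraMap P (FractionRing P)))), Ne, map_eq_zero,
      map_eq_zero_iff _ hinjPF]
    exact fun hy => h0 (hy ▸ hs)
  let ψ : Localization (Algebra.algebraMapSubmonoid (AdjoinRoot h) S) →+*
      AdjoinRoot (h.map (algebraMap P (FractionRing P))) := IsLocalization.lift hφunit
  have hcomp : (algebraMap (Localization S)
      (AdjoinRoot (h.map (algebraMap P (FractionRing P))))).comp (RingHom.id _) =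
      ψ.comp (algebraMap (Localization S)
        (Localization (Algebra.algebraMapSubmonoid (AdjoinRoot h) S))) := by
    apply IsLocalization.ringHom_ext S
    ext p
    simp only [RingHom.comp_apply, RingHom.id_apply]
    rw [← IsScalarTower.algebraMap_apply P (Localization S)
      (Localization (Algebra.algebraMapSubmonoid (AdjoinRoot h) S)),
      IsScalarTower.algebraMap_apply P (AdjoinRoot h)
      (Localization (Algebra.algebraMapSubmonoid (AdjoinRoot h) S)), IsLocalization.lift_eq]
    show algebraMap (Localization S) _ (algebraMap P (Localization S) p) =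
      φ (algebraMap P (AdjoinRoot h) p)
    rw [AlgHom.commutes, IsScalarTower.algebraMap_apply (Localization S) (FractionRing P)
      (AdjoinRoot (h.map (algebraMap P (FractionRing P)))),
      ← IsScalarTower.algebraMap_apply P (Localization S) (FractionRing P),
      ← IsScalarTower.algebraMap_apply P (FractionRing P)]
  have hθ : IsIntegral (Localization S)
      (algebraMap (AdjoinRoot h) (Localization (Algebra.algebraMapSubmonoid (AdjoinRoot h) S))
        (AdjoinRoot.root h)) := hint.isIntegral _
  have hrootint : IsIntegral (Localization S)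
      (AdjoinRoot.root (h.map (algebraMap P (FractionRing P)))) := by
    have h1 := IsIntegral.map_of_comp_eq (RingHom.id (Localization S)) ψ hcomp hθ
    have h2 : ψ (algebraMap (AdjoinRoot h)
        (Localization (Algebra.algebraMapSubmonoid (AdjoinRoot h) S)) (AdjoinRoot.root h)) =
        AdjoinRoot.root (h.map (algebraMap P (FractionRing P))) := by
      rw [IsLocalization.lift_eq]
      exact AdjoinRoot.liftAlgHom_root _ _ _ _
    rwa [h2] at h1
  have hmin := minpoly.isIntegrallyClosed_eq_field_fractions' (FractionRing P) hrootint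
  rw [AdjoinRoot.minpoly_root hg0] at hmin
  have hlc : (h.map (algebraMap P (FractionRing P))).leadingCoeff =
      algebraMap P (FractionRing P) h.leadingCoeff :=
    Polynomial.leadingCoeff_map_of_injective hinjPF h
  have ha0 : h.leadingCoeff ≠ 0 := leadingCoeff_ne_zero.mpr hirr.ne_zero
  have haF : algebraMap P (FractionRing P) h.leadingCoeff ≠ 0 := by
    rw [Ne, map_eq_zero_iff _ hinjPF]; exact ha0
  have hstar : ∀ i, ∃ u : Localization S,
      u * algebraMap P (Localization S) h.leadingCoeff = algebraMap P (Localization S) (h.coeff i) := by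
    intro i
    refine ⟨(minpoly (Localization S)
      (AdjoinRoot.root (h.map (algebraMap P (FractionRing P))))).coeff i, ?_⟩
    apply IsFractionRing.injective (Localization S) (FractionRing P)
    rw [map_mul, ← IsScalarTower.algebraMap_apply, ← IsScalarTower.algebraMap_apply,
      ← Polynomial.coeff_map, ← hmin, Polynomial.coeff_mul_C, Polynomial.coeff_map, hlc,
      mul_assoc, inv_mul_cancel₀ haF, mul_one]
  -- the prime argument
  by_contra hnu
  obtain ⟨𝔪, hmax, hmem⟩ := exists_max_ideal_of_mem_nonunits
    (show algebraMap P (Localization S) h.leadingCoeff ∈ nonunits (Localization S) from hnu)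
  have h𝔭 : (𝔪.comap (algebraMap P (Localization S))).IsPrime := Ideal.comap_isPrime _ _
  have hdisj : ∀ s ∈ S, s ∉ 𝔪.comap (algebraMap P (Localization S)) := fun s hs hsp =>
    hmax.ne_top (Ideal.eq_top_of_isUnit_mem _ hsp
      (IsLocalization.map_units (Localization S) ⟨s, hs⟩))
  have ha𝔭 : h.leadingCoeff ∈ 𝔪.comap (algebraMap P (Localization S)) := hmem
  obtain ⟨π, hπf, hπ𝔭⟩ : ∃ π ∈ UniqueFactorizationMonoid.factors h.leadingCoeff,
      π ∈ 𝔪.comap (algebraMap P (Localization S)) := by
    have hassoc := UniqueFactorizationMonoid.factors_prod ha0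
    have h1 : (UniqueFactorizationMonoid.factors h.leadingCoeff).prod ∈
        𝔪.comap (algebraMap P (Localization S)) := by
      obtain ⟨u, hu⟩ := hassoc.symm
      rw [← hu]
      exact Ideal.mul_mem_right _ _ ha𝔭
    exact (h𝔭.multiset_prod_mem_iff_exists_mem _).mp h1
  have hπprime : Prime π := UniqueFactorizationMonoid.prime_of_factor π hπf
  have hπa : π ∣ h.leadingCoeff := UniqueFactorizationMonoid.dvd_of_mem_factors hπf
  have hall : ∀ i, π ∣ h.coeff i := by
    intro i
    obtain ⟨u, hu⟩ := hstar i
    obtain ⟨b₁, s₁, rfl⟩ := IsLocalization.exists_mk'_eq S u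
    have h1 : algebraMap P (Localization S) (b₁ * h.leadingCoeff) =
        algebraMap P (Localization S) ((s₁ : P) * h.coeff i) := by
      rw [map_mul, map_mul, ← hu, ← mul_assoc, IsLocalization.mk'_spec']
    obtain ⟨t, ht⟩ := (IsLocalization.eq_iff_exists S (Localization S)).mp h1
    have hdvd : π ∣ (t : P) * ((s₁ : P) * h.coeff i) := by
      rw [← ht]
      exact Dvd.dvd.mul_left (Dvd.dvd.mul_left hπa _) _
    have hnot : ∀ s : S, ¬ π ∣ (s : P) := by
      rintro s ⟨w, hw⟩
      apply hdisj s s.2
      rw [hw]
      exact Ideal.mul_mem_right _ _ hπ𝔭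
    rcases hπprime.dvd_or_dvd hdvd with h2 | h2
    · exact absurd h2 (hnot t)
    · rcases hπprime.dvd_or_dvd h2 with h3 | h3
      · exact absurd h3 (hnot s₁)
      · exact h3
  have hC : C π ∣ h := (Polynomial.C_dvd_iff_dvd_coeff π h).mpr hall
  exact hπprime.not_unit (hprim π hC)

end Converse

end Groth.Agent.Lib.AdjoinRootLocH3
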