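import Mathlib
import Groth.Prelude.Def_BlowUp2
set_option autoImplicit false
open AlgebraicGeometry CategoryTheory
universe u
namespace AffBlH8

variable {A : Type u} [CommRing A] (I : Ideal A) (a : A)

/-- the generator `x / a` of the affine blow-up algebra -/
noncomputable def gen (x : A) (hx : x ∈ I) : ↥(BlowUp.affineAlgebra A I a) :=
  ⟨IsLocalization.mk' (Localization.Away a) x ⟨a, Submonoid.mem_powers a⟩,
    Algebra.subset_adjoin ⟨x, hx, rfl⟩⟩

theorem a_mul_gen (x : A) (hx : x ∈ I) :
    algebraMap A ↥(BlowUp.affineAlgebra A I a) a * gen I a x hx =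
      algebraMap A ↥(BlowUp.affineAlgebra A I a) x := by
  apply Subtype.ext
  change algebraMap A (Localization.Away a) a *
    IsLocalization.mk' (Localization.Away a) x ⟨a, Submonoid.mem_powers a⟩ =
      algebraMap A (Localization.Away a) x
  rw [mul_comm]
  exact IsLocalization.mk'_spec (Localization.Away a) x ⟨a, Submonoid.mem_powers a⟩

theorem a_nzd : algebraMap A ↥(BlowUp.affineAlgebra A I a) a ∈
    nonZeroDivisors ↥(BlowUp.affineAlgebra A I a) := by
  have hu : IsUnit (algebraMap A (Localization.Away a) a) :=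
    IsLocalization.Away.algebraMap_isUnit a
  rw [mem_nonZeroDivisors_iff]
  have key : ∀ s : ↥(BlowUp.affineAlgebra A I a),
      algebraMap A ↥(BlowUp.affineAlgebra A I a) a * s = 0 → s = 0 := by
    intro s hs
    apply Subtype.ext
    have h1 : algebraMap A (Localization.Away a) a * s.1 = 0 := congrArg Subtype.val hs
    exact (hu.mul_right_eq_zero).mp h1
  constructor
  · intro s hs
    exact key s hs
  · intro s hs
    rw [mul_comm] at hs
    exact key s hs

theorem map_eq_span (ha : a ∈ I) :
    I.map (algebraMap A ↥(BlowUp.affineAlgebra A I a)) =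
      Ideal.span {algebraMap A ↥(BlowUp.affineAlgebra A I a) a} := by
  apply le_antisymm
  · rw [Ideal.map_le_iff_le_comap]
    intro x hx
    rw [Ideal.mem_comap, Ideal.mem_span_singleton']
    exact ⟨gen I a x hx, by rw [mul_comm]; exact a_mul_gen I a x hx⟩
  · rw [Ideal.span_le, Set.singleton_subset_iff]
    exact Ideal.mem_map_of_mem _ ha

/-- Two ring maps out of the affine blow-up algebra agreeing on `A` and sending `a` to a
nonzerodivisor are equal. -/
theorem ringHom_ext {C : Type*} [CommRing C] (ψ₁ ψ₂ : ↥(BlowUp.affineAlgebra A I a) →+* C)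
    (h : ψ₁.comp (algebraMap A ↥(BlowUp.affineAlgebra A I a)) =
      ψ₂.comp (algebraMap A ↥(BlowUp.affineAlgebra A I a)))
    (hnzd : ψ₂ (algebraMap A ↥(BlowUp.affineAlgebra A I a) a) ∈ nonZeroDivisors C) :
    ψ₁ = ψ₂ := by
  have hA : ∀ r : A, ψ₁ (algebraMap A ↥(BlowUp.affineAlgebra A I a) r) =
      ψ₂ (algebraMap A ↥(BlowUp.affineAlgebra A I a) r) := fun r => RingHom.congr_fun h r
  ext ⟨q, hq⟩
  induction hq using Algebra.adjoin_induction with
  | mem q hq =>
    obtain ⟨x, hx, rfl⟩ := hq
    have e1 := congrArg ψ₁ (a_mul_gen I a x hx)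
    have e2 := congrArg ψ₂ (a_mul_gen I a x hx)
    rw [map_mul] at e1 e2
    rw [hA, hA, ← e2] at e1
    have h3 : ψ₂ (algebraMap A ↥(BlowUp.affineAlgebra A I a) a) *
        (ψ₁ (gen I a x hx) - ψ₂ (gen I a x hx)) = 0 := by
      rw [mul_sub, e1, sub_self]
    exact sub_eq_zero.mp ((mem_nonZeroDivisors_iff.mp hnzd).1 _ h3)
  | algebraMap r => exact hA r
  | add x y hx hy ihx ihy =>
    have : (⟨x + y, add_mem hx hy⟩ : ↥(BlowUp.affineAlgebra A I a)) = ⟨x, hx⟩ + ⟨y, hy⟩ := rfl
    rw [this, map_add, map_add, ihx, ihy]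
  | mul x y hx hy ihx ihy =>
    have : (⟨x * y, mul_mem hx hy⟩ : ↥(BlowUp.affineAlgebra A I a)) = ⟨x, hx⟩ * ⟨y, hy⟩ := rfl
    rw [this, map_mul, map_mul, ihx, ihy]

/-- Existence of a ring map out of the affine blow-up algebra. -/
theorem exists_ringHom {C : Type u} [CommRing C] (φ : A →+* C)
    (hnzd : φ a ∈ nonZeroDivisors C) (hI : ∀ x ∈ I, ∃ y, φ x = y * φ a) :
    ∃ ψ : ↥(BlowUp.affineAlgebra A I a) →+* C,
      ψ.comp (algebraMap A ↥(BlowUp.affineAlgebra A I a)) = φ := by
  let C' := Localization.Away (φ a)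
  let θ : Localization.Away a →+* C' := IsLocalization.Away.map (Localization.Away a) C' φ a
  have hinj : Function.Injective (algebraMap C C') :=
    IsLocalization.injective C' (Submonoid.powers_le.mpr hnzd)
  have hθA : ∀ r : A, θ (algebraMap A (Localization.Away a) r) = algebraMap C C' (φ r) :=
    fun r => IsLocalization.map_eq _ r
  have hmem : ∀ q ∈ BlowUp.affineAlgebra A I a, θ q ∈ (algebraMap C C').range := by
    intro q hq
    induction hq using Algebra.adjoin_induction with
    | mem q hq =>
      obtain ⟨x, hx, rfl⟩ := hq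
      obtain ⟨y, hy⟩ := hI x hx
      refine ⟨y, ?_⟩
      have h1 : θ (IsLocalization.mk' (Localization.Away a) x ⟨a, Submonoid.mem_powers a⟩) *
          algebraMap C C' (φ a) = algebraMap C C' (φ x) := by
        rw [← hθA, ← hθA, ← map_mul]
        congr 1
        exact IsLocalization.mk'_spec (Localization.Away a) x ⟨a, Submonoid.mem_powers a⟩
      have hu : IsUnit (algebraMap C C' (φ a)) := IsLocalization.Away.algebraMap_isUnit (φ a)
      apply hu.mul_left_injective
      change algebraMap C C' y * algebraMap C C' (φ a) =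
        θ (IsLocalization.mk' (Localization.Away a) x ⟨a, Submonoid.mem_powers a⟩) *
          algebraMap C C' (φ a)
      rw [h1, ← map_mul, hy]
    | algebraMap r => exact ⟨φ r, (hθA r).symm⟩
    | add x y hx hy ihx ihy =>
      rw [map_add]
      exact add_mem ihx ihy
    | mul x y hx hy ihx ihy =>
      rw [map_mul]
      exact mul_mem ihx ihy
  let θ' : ↥(BlowUp.affineAlgebra A I a) →+* (algebraMap C C').range :=
    (θ.comp (BlowUp.affineAlgebra A I a).val.toRingHom).codRestrict (algebraMap C C').range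
      (fun b => hmem b.1 b.2)
  let e : C ≃+* (algebraMap C C').range :=
    RingEquiv.ofBijective (algebraMap C C').rangeRestrict
      ⟨fun x y hxy => hinj (congrArg Subtype.val hxy), (algebraMap C C').rangeRestrict_surjective⟩
  refine ⟨e.symm.toRingHom.comp θ', ?_⟩
  ext r
  apply e.injective
  change e (e.symm (θ' (algebraMap A ↥(BlowUp.affineAlgebra A I a) r))) = e (φ r)
  rw [RingEquiv.apply_symm_apply]
  apply Subtype.ext
  exact hθA r

end AffBlH8
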