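import Mathlib
import Groth.Agent.Lib.SchFT_helper8
import Groth.Agent.Lib.EtDim2_helper8

universe u
open AlgebraicGeometry CategoryTheory IsLocalRing

namespace CartDimH8

theorem mem_primeIdealOf_iff {X : Scheme.{u}} {U : X.Opens} (hU : IsAffineOpen U) (x : X)
    (hx : x ∈ U) (f : Γ(X, U)) :
    f ∈ (hU.primeIdealOf ⟨x, hx⟩).asIdeal ↔ x ∉ X.basicOpen f := by
  rw [hU.primeIdealOf_eq_map_closedPoint, Scheme.mem_basicOpen X f x hx]
  change (X.presheaf.germ U x hx).hom f ∈ maximalIdeal (X.presheaf.stalk x) ↔ _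
  rw [IsLocalRing.mem_maximalIdeal, mem_nonunits_iff]

theorem ideal_le_primeIdealOf_of_mem_support {X : Scheme.{u}} (I : X.IdealSheafData)
    (U : X.affineOpens) (x : X) (hx : x ∈ U.1) (hxs : x ∈ I.support) :
    I.ideal U ≤ (U.2.primeIdealOf ⟨x, hx⟩).asIdeal := by
  rw [Scheme.IdealSheafData.mem_support_iff_of_mem hx, Scheme.mem_zeroLocus_iff] at hxs
  intro f hf
  rw [mem_primeIdealOf_iff U.2 x hx f]
  exact hxs f hf

/-- A point of an effective Cartier divisor has a proper generization in the ambient scheme. -/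
theorem exists_generization {S : Scheme.{u}} (I : S.IdealSheafData) (s : S)
    (hs : s ∈ I.support)
    (h : ∃ U : S.affineOpens, s ∈ U.1 ∧
      ∃ f : Γ(S, U.1), f ∈ nonZeroDivisors Γ(S, U.1) ∧ I.ideal U = Ideal.span {f}) :
    ∃ ξ : S, ξ ⤳ s ∧ ξ ≠ s := by
  obtain ⟨U, hsU, f, hf, hI⟩ := h
  have hU : IsAffineOpen U.1 := U.2
  set P := hU.primeIdealOf ⟨s, hsU⟩ with hP
  have hfP : f ∈ P.asIdeal := by
    apply ideal_le_primeIdealOf_of_mem_support I U s hsU hs
    rw [hI]
    exact Ideal.subset_span rfl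
  obtain ⟨P', hP'min, hP'le⟩ := Ideal.exists_minimalPrimes_le (J := P.asIdeal) bot_le
  have hfP' : f ∉ P' := fun hc =>
    Set.disjoint_left.mp (Ideal.disjoint_nonZeroDivisors_of_mem_minimalPrimes hP'min) hc hf
  set Q : PrimeSpectrum Γ(S, U.1) := ⟨P', hP'min.1.1⟩ with hQ
  have hz := Groth.Agent.SchFTH8.fromSpec_mem hU Q
  refine ⟨hU.fromSpec Q, ?_, ?_⟩
  · rw [Groth.Agent.SchFTH8.specializes_iff_primeIdealOf_le hU _ s hz hsU,
      Groth.Agent.SchFTH8.primeIdealOf_fromSpec hU Q hz]
    exact hP'le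
  · intro heq
    have h3 : hU.primeIdealOf ⟨hU.fromSpec Q, hz⟩ = P := by
      rw [hP]; congr 1; exact Subtype.ext heq
    rw [Groth.Agent.SchFTH8.primeIdealOf_fromSpec hU Q hz] at h3
    rw [← h3] at hfP
    exact hfP' hfP

/-- If every point of `D` has a proper generization in `S` (along the embedding `ι`), then
`dim 𝒪_{D,w} + 1 ≤ dim 𝒪_{S,ι w}`. -/
theorem coheight_add_one_le {D S : Scheme.{u}} (ι : D ⟶ S) [IsPreimmersion ι]
    (hgen : ∀ t : D, ∃ ξ : S, ξ ⤳ ι t ∧ ξ ≠ ι t) (w : D) :
    Order.coheight w + 1 ≤ Order.coheight (ι w) := by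
  have hmono : StrictMono (fun t : D => ι t) := by
    intro a b hab
    have h1 : b ⤳ a := hab.le
    have h2 : ¬ a ⤳ b := fun h => (not_le_of_gt hab) h
    rw [← ι.isEmbedding.isInducing.specializes_iff] at h1 h2
    exact lt_of_le_not_ge h1 h2
  have key : ∀ n : ℕ, (n : ℕ∞) ≤ Order.coheight w → ((n + 1 : ℕ) : ℕ∞) ≤ Order.coheight (ι w) := by
    intro n hn
    obtain ⟨p, hphead, hplen⟩ := Order.exists_series_of_le_coheight w hn
    let q : LTSeries S := p.map (fun t : D => ι t) hmono
    obtain ⟨ξ, hξ, hne⟩ := hgen p.last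
    have hlt : q.last < ξ := by
      have hle : ι p.last ≤ ξ := hξ
      refine lt_of_le_not_ge hle ?_
      intro hge
      have h' : ι p.last ⤳ ξ := hge
      exact hne (hξ.antisymm h').eq
    let q' : LTSeries S := q.snoc ξ hlt
    have hq'head : q'.head = ι w := by
      simp only [q', RelSeries.head_snoc, q, LTSeries.head_map, hphead]
    have hq'len : q'.length = n + 1 := by
      simp only [q', RelSeries.snoc_length, q, LTSeries.map_length, hplen]
    have := Order.length_le_coheight_head (p := q')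
    rw [hq'head, hq'len] at this
    exact this
  by_cases htop : Order.coheight w = ⊤
  · have : Order.coheight (ι w) = ⊤ := by
      rw [ENat.eq_top_iff_forall_ge]
      intro n
      have h1 := key n (by rw [htop]; exact le_top)
      exact le_trans (by exact_mod_cast Nat.le_succ n) h1
    rw [this]; exact le_top
  · obtain ⟨n, hn⟩ := ENat.ne_top_iff_exists.mp htop
    have h1 := key n (le_of_eq hn)
    rw [← hn]
    exact_mod_cast h1

end CartDimH8
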