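import Mathlib
import Groth.Prelude.Def_BlowUp2
set_option autoImplicit false
open AlgebraicGeometry CategoryTheory CategoryTheory.Limits TopologicalSpace Opposite
universe u
namespace BlowIsoH8

theorem isEffCartier_top {Y : Scheme.{u}} : BlowUp.IsEffCartierIdeal (⊤ : Y.IdealSheafData) := by
  intro x
  obtain ⟨_, ⟨V, hV : IsAffineOpen V, rfl⟩, hxV, -⟩ :=
    (Y.isBasis_affineOpens).exists_subset_of_mem_open (Set.mem_univ x) isOpen_univ
  refine ⟨⟨V, hV⟩, hxV, 1, one_mem _, ?_⟩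
  rw [Scheme.IdealSheafData.ideal_top, Ideal.span_singleton_one]
  rfl

/-- If `g` misses the support of `I`, the inverse image of `I` is the unit ideal. -/
theorem comap_eq_top {X Y : Scheme.{u}} (I : X.IdealSheafData) (g : Y ⟶ X)
    (hg : ∀ y : Y, g y ∉ I.support) : I.comap g = ⊤ := by
  rw [← Scheme.IdealSheafData.support_eq_bot_iff, Scheme.IdealSheafData.support_comap]
  ext y
  simp only [Closeds.coe_preimage, Set.mem_preimage, SetLike.mem_coe, Closeds.coe_bot,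
    Set.mem_empty_iff_false, iff_false]
  exact hg y

theorem isIso_restrict_of_disjoint {X X' : Scheme.{u}} (𝓘 : X.IdealSheafData) (b : X' ⟶ X)
    (hb : BlowUp.IsBlowUp b 𝓘) (U : X.Opens) (hU : ∀ x ∈ U, x ∉ 𝓘.support) : IsIso (b ∣_ U) := by
  have h1 : BlowUp.IsEffCartierIdeal (𝓘.comap U.ι) := by
    rw [comap_eq_top 𝓘 U.ι (fun y => hU _ y.2)]
    exact isEffCartier_top
  obtain ⟨s, hs, -⟩ := hb.2 _ _ h1
  have hrange : Set.range s ⊆ Set.range (b ⁻¹ᵁ U).ι := by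
    rintro _ ⟨y, rfl⟩
    rw [Scheme.Opens.range_ι]
    show b (s y) ∈ U
    have : b (s y) = U.ι y := by
      rw [← hs]; rfl
    rw [this]
    exact y.2
  let s' : (U : Scheme.{u}) ⟶ (b ⁻¹ᵁ U : Scheme.{u}) :=
    IsOpenImmersion.lift (b ⁻¹ᵁ U).ι s hrange
  have hs' : s' ≫ (b ⁻¹ᵁ U).ι = s := IsOpenImmersion.lift_fac _ _ _
  have h2 : BlowUp.IsEffCartierIdeal (𝓘.comap ((b ⁻¹ᵁ U).ι ≫ b)) := by
    rw [comap_eq_top 𝓘 ((b ⁻¹ᵁ U).ι ≫ b) (fun y => hU _ y.2)]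
    exact isEffCartier_top
  obtain ⟨t, -, ht⟩ := hb.2 _ _ h2
  refine ⟨s', ?_, ?_⟩
  · rw [← cancel_mono (b ⁻¹ᵁ U).ι, Category.assoc, hs', Category.id_comp]
    have e1 := ht (b ⁻¹ᵁ U).ι rfl
    have e2 := ht ((b ∣_ U) ≫ s) (by
      show ((b ∣_ U) ≫ s) ≫ b = (b ⁻¹ᵁ U).ι ≫ b
      rw [Category.assoc, hs, morphismRestrict_ι])
    rw [e1, e2]
  · rw [← cancel_mono U.ι, Category.assoc, Category.id_comp, morphismRestrict_ι,
      ← Category.assoc, hs', hs]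

theorem isIso_restrict {X X' : Scheme.{u}} (𝓘 : X.IdealSheafData) (b : X' ⟶ X)
    (hb : BlowUp.IsBlowUp b 𝓘) : IsIso (b ∣_ 𝓘.support.compl) :=
  isIso_restrict_of_disjoint 𝓘 b hb _ (fun _ hx => hx)

end BlowIsoH8
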