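import Mathlib
import Groth.Agent.Lib.FlatBC3_helper8
set_option autoImplicit false
open CategoryTheory CategoryTheory.Limits AlgebraicGeometry Opposite TopologicalSpace
universe u
namespace ComapIdH8

/-- In a pushout square of commutative rings with `π` surjective, the kernel of the map opposite
to `π` is the extension of the kernel of `π`. -/
theorem ker_of_isPushout {A B A' B' : CommRingCat.{u}} {φ : A ⟶ B} {π : A ⟶ A'} {β : B ⟶ B'}
    {α : A' ⟶ B'} (hpo : IsPushout φ π β α) (hsurj : Function.Surjective π.hom) :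
    RingHom.ker β.hom = Ideal.map φ.hom (RingHom.ker π.hom) := by
  apply le_antisymm
  · set J : Ideal B := Ideal.map φ.hom (RingHom.ker π.hom) with hJ
    let q : B ⟶ CommRingCat.of (B ⧸ J) := CommRingCat.ofHom (Ideal.Quotient.mk J)
    have hK : ∀ a : A, a ∈ RingHom.ker π.hom → (q.hom.comp φ.hom) a = 0 := by
      intro a ha
      show Ideal.Quotient.mk J (φ.hom a) = 0
      rw [Ideal.Quotient.eq_zero_iff_mem]
      exact Ideal.mem_map_of_mem _ ha
    let e := RingHom.quotientKerEquivOfSurjective hsurj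
    let r₀ : A' →+* (B ⧸ J) :=
      (Ideal.Quotient.lift (RingHom.ker π.hom) (q.hom.comp φ.hom) hK).comp e.symm.toRingHom
    let r : A' ⟶ CommRingCat.of (B ⧸ J) := CommRingCat.ofHom r₀
    have hcomm : φ ≫ q = π ≫ r := by
      ext a
      show Ideal.Quotient.mk J (φ.hom a) = r₀ (π.hom a)
      have h1 : e.symm (π.hom a) = Ideal.Quotient.mk (RingHom.ker π.hom) a := by
        rw [RingEquiv.symm_apply_eq]
        rfl
      show _ = (Ideal.Quotient.lift (RingHom.ker π.hom) (q.hom.comp φ.hom) hK) (e.symm (π.hom a))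
      rw [h1, Ideal.Quotient.lift_mk]
      rfl
    intro b hb
    have h2 : β ≫ hpo.desc q r hcomm = q := hpo.inl_desc q r hcomm
    have h3 : q.hom b = 0 := by
      have := congrArg (fun ψ => ψ.hom b) h2
      rw [← this]
      show (hpo.desc q r hcomm).hom (β.hom b) = 0
      rw [(RingHom.mem_ker).mp hb, map_zero]
    exact Ideal.Quotient.eq_zero_iff_mem.mp h3
  · rw [Ideal.map_le_iff_le_comap]
    intro a ha
    rw [Ideal.mem_comap, RingHom.mem_ker]
    have h1 := congrArg (fun ψ => ψ.hom a) hpo.w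
    have h2 : β.hom (φ.hom a) = α.hom (π.hom a) := h1
    rw [h2, (RingHom.mem_ker).mp ha, map_zero]


section
variable {T S : Scheme.{u}} (f : T ⟶ S) (I : S.IdealSheafData)

/-- The inverse image ideal sheaf on affine opens: `(f⁻¹ I)(U) = I(V) · Γ(T, U)`. -/
theorem comap_ideal (U : T.affineOpens) (V : S.affineOpens) (hUV : (U : T.Opens) ≤ f ⁻¹ᵁ (V : S.Opens)) :
    (I.comap f).ideal U = Ideal.map (f.appLE V U hUV).hom (I.ideal V) := by
  have hc : IsPullback (pullback.fst f I.subschemeι) (pullback.snd f I.subschemeι) f I.subschemeι :=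
    IsPullback.of_hasPullback f I.subschemeι
  set g' := pullback.fst f I.subschemeι with hg'
  set f' := pullback.snd f I.subschemeι with hf'
  have hW' : IsAffineOpen (I.subschemeι ⁻¹ᵁ (V : S.Opens)) := V.2.preimage I.subschemeι
  obtain ⟨hU', hpo⟩ := FlatBC2H8.affine_pushout hc V.2 U.2 hW' hUV (le_refl _)
  have hle : g' ⁻¹ᵁ (U : T.Opens) ≤ f' ⁻¹ᵁ (I.subschemeι ⁻¹ᵁ (V : S.Opens)) := by
    intro x hx
    show I.subschemeι (f' x) ∈ (V : S.Opens)
    have : I.subschemeι (f' x) = f (g' x) := by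
      rw [← Scheme.Hom.comp_apply, ← Scheme.Hom.comp_apply, hc.w]
    rw [this]
    exact hUV hx
  have hUeq : g' ⁻¹ᵁ (U : T.Opens) ⊓ f' ⁻¹ᵁ (I.subschemeι ⁻¹ᵁ (V : S.Opens)) = g' ⁻¹ᵁ (U : T.Opens) :=
    inf_eq_left.mpr hle
  have hker := ker_of_isPushout hpo (by
    rw [Scheme.Hom.appLE_eq_app]
    exact I.subschemeι_app_surjective V)
  have h1 : RingHom.ker (I.subschemeι.appLE V (I.subschemeι ⁻¹ᵁ (V : S.Opens)) (le_refl _)).hom =
      I.ideal V := by
    rw [Scheme.Hom.appLE_eq_app]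
    exact I.ker_subschemeι_app V
  rw [h1] at hker
  rw [← hker]
  have h2 : ∀ (U'' : (pullback f I.subschemeι).Opens) (e : U'' = g' ⁻¹ᵁ (U : T.Opens)),
      RingHom.ker (g'.appLE U U'' e.le).hom = RingHom.ker (g'.app U).hom := by
    rintro U'' rfl
    rw [Scheme.Hom.appLE_eq_app]
  rw [h2 _ hUeq]
  exact Scheme.Hom.ker_apply g' U

end
end ComapIdH8
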