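import Mathlib
import Groth.Agent.Lib.ComapId1_helper8
import Groth.Agent.Lib.SDivFitt_helper8
import Groth.Agent.Lib.Fitt4_helper8
import Groth.Agent.Lib.Fpqc1_helper8
set_option autoImplicit false
open CategoryTheory CategoryTheory.Limits AlgebraicGeometry Opposite TopologicalSpace TensorProduct
universe u
namespace ComapIdH8

theorem fitt_comap {T S : Scheme.{u}} (f : T ⟶ S) (F : S.Modules) [F.IsQuasicoherent]
    [SheafOfModules.IsFiniteType (R := S.ringCatSheaf) F] (i : ℕ) :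
    (Fitt.sheafIdeal F i).comap f = Fitt.sheafIdeal ((Scheme.Modules.pullback f).obj F) i := by
  haveI := PBH8.isQuasicoherent_pullback f F
  haveI := FpqcH8.isFiniteType_pullback f F
  let ι := {p : T.affineOpens × S.affineOpens // (p.1 : T.Opens) ≤ f ⁻¹ᵁ (p.2 : S.Opens)}
  have hcov : ⨆ j : ι, ((j.1.1 : T.affineOpens) : T.Opens) = ⊤ := by
    rw [eq_top_iff]
    intro x _
    obtain ⟨V, U, hV, hU, hxU, hUV⟩ := PBH8.exists_affine_pair' f x
    exact Opens.mem_iSup.mpr ⟨⟨⟨⟨U, hU⟩, ⟨V, hV⟩⟩, hUV⟩, hxU⟩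
  refine Scheme.IdealSheafData.ext_of_iSup_eq_top (fun j : ι => j.1.1) hcov ?_
  rintro ⟨⟨U, V⟩, hUV⟩
  show ((Fitt.sheafIdeal F i).comap f).ideal U =
    (Fitt.sheafIdeal ((Scheme.Modules.pullback f).obj F) i).ideal U
  rw [comap_ideal f _ U V hUV, SDivFittH8.sheafIdeal_ideal, SDivFittH8.sheafIdeal_ideal]
  letI := (f.appLE V U hUV).hom.toAlgebra
  letI : Module Γ(S, (V : S.Opens)) Γ((Scheme.Modules.pullback f).obj F, (U : T.Opens)) :=
    Module.compHom _ (f.appLE V U hUV).hom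
  haveI : IsScalarTower Γ(S, (V : S.Opens)) Γ(T, (U : T.Opens))
      Γ((Scheme.Modules.pullback f).obj F, (U : T.Opens)) :=
    IsScalarTower.of_algebraMap_smul fun _ _ => rfl
  have bc := PBH8.isBaseChange_cUV f F hUV U.2 V.2
  haveI : Module.Finite Γ(S, (V : S.Opens)) Γ(F, (V : S.Opens)) :=
    QCohFT.finite_of_isFiniteType F V.2
  have h1 := FittH8.fitt_baseChange (R := Γ(S, (V : S.Opens))) (M := Γ(F, (V : S.Opens)))
    Γ(T, (U : T.Opens)) i
  have h2 := FittH8.fitt_eq_of_linearEquiv bc.equiv i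
  rw [← h2, h1]
  rfl

end ComapIdH8
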