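import Mathlib
import Groth.Prelude.Def_BlowUp2
import Groth.Agent.Lib.QCohCrit2_helper9
import Groth.Agent.Lib.QCohExact_helper9
import Groth.Agent.Lib.QCohExtn_helper9
import Groth.Agent.Lib.FCompl1_helper8
import Groth.Agent.Lib.CohOpen1_helper8
import Groth.Agent.Lib.QCohFT_helper9
set_option autoImplicit false
open AlgebraicGeometry CategoryTheory CategoryTheory.Limits TopologicalSpace Opposite
open QcqsLoc QCohExtn
universe u
namespace StrictTrH8

section
variable {X : Scheme.{u}} (E : X.IdealSheafData) (P : X.Modules)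

/-- On an affine open where `E` is principal, being killed by a power of `E` means being killed
by a power of the generator. -/
theorem killedByPowerNear_iff (V : X.affineOpens) (f : Γ(X, V.1)) (hf : E.ideal V = Ideal.span {f})
    (m : P.presheaf.obj (op V.1)) :
    BlowUp.KilledByPowerNear E P V m ↔ ∃ n : ℕ, f ^ n • m = 0 := by
  have hpow : ∀ n : ℕ, (E ^ n).ideal V = Ideal.span {f ^ n} := by
    intro n
    rw [Scheme.IdealSheafData.ideal_pow, Pi.pow_apply, hf, Ideal.span_singleton_pow]
  constructor
  · rintro ⟨n, hn⟩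
    refine ⟨n, hn _ ?_⟩
    rw [hpow]
    exact Ideal.mem_span_singleton_self _
  · rintro ⟨n, hn⟩
    refine ⟨n, fun a ha => ?_⟩
    rw [hpow] at ha
    obtain ⟨c, rfl⟩ := Ideal.mem_span_singleton'.mp ha
    rw [mul_smul, hn, smul_zero]

/-- Principal ideals stay principal on basic opens. -/
theorem ideal_basicOpen (V : X.affineOpens) (f : Γ(X, V.1)) (hf : E.ideal V = Ideal.span {f})
    (a : Γ(X, V.1)) :
    E.ideal (X.affineBasicOpen a) = Ideal.span {rX (X.basicOpen_le a) f} := by
  rw [← E.map_ideal_basicOpen V a, hf, Ideal.map_span, Set.image_singleton]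


variable {E P} {G : X.Modules} [P.IsQuasicoherent] (π : P ⟶ G)
  (hker : ∀ (V : X.affineOpens) (m : P.presheaf.obj (op V.1)),
    π.app V.1 m = 0 ↔ BlowUp.KilledByPowerNear E P V m)

theorem kernel_ι_injective (O : X.Opens) : Function.Injective (ap (kernel.ι π) O) :=
  QCohExact.app_injective_of_mono (kernel.ι π) O

theorem exists_kernel_of_app_eq_zero (O : X.Opens) (p : Γ(P, O)) (hp : ap π O p = 0) :
    ∃ k : Γ(kernel π, O), ap (kernel.ι π) O k = p := by
  have hex : (ShortComplex.mk (kernel.ι π) π (kernel.condition π)).Exact :=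
    ShortComplex.exact_of_f_is_kernel _ (kernelIsKernel π)
  exact QCohExact.app_exact (ShortComplex.mk (kernel.ι π) π (kernel.condition π)) hex O p hp

theorem app_kernel_ι (O : X.Opens) (k : Γ(kernel π, O)) : ap π O (ap (kernel.ι π) O k) = 0 := by
  have := congrArg (fun α => ap α O k) (kernel.condition π)
  exact this

include hker in
/-- The kernel of the strict transform map satisfies the localization criterion on affine opens
where the centre is principal. -/
theorem locOnU_kernel (V : X.affineOpens) (f : Γ(X, V.1)) (hf : E.ideal V = Ideal.span {f}) :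
    QCohCrit.LocOnU (kernel π) V.1 := by
  intro a
  have hV : IsAffineOpen V.1 := V.2
  have hle : X.basicOpen a ≤ V.1 := X.basicOpen_le a
  have hP := QCohCrit.locOnU_of_isQuasicoherent P hV a
  refine ⟨hV.isLocalization_basicOpen a, fun x m => Scheme.Modules.map_smul _ _ x m, ?_, ?_⟩
  · -- surjectivity up to powers
    intro m'
    set p' := ap (kernel.ι π) (X.basicOpen a) m' with hp'
    have h0 : ap π (X.basicOpen a) p' = 0 := app_kernel_ι π _ m'
    have h1 := (hker (X.affineBasicOpen a) p').mp h0
    rw [killedByPowerNear_iff E P (X.affineBasicOpen a) _ (ideal_basicOpen E V f hf a)] at h1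
    obtain ⟨n, hn⟩ := h1
    obtain ⟨N, p, hp⟩ := hP.surj p'
    have hp2 : rX hle a ^ N • p' = rF P hle p := hp
    -- `f^n p` restricts to zero
    have hn' : rX hle f ^ n • p' = 0 := hn
    have h2 : rF P hle (f ^ n • p) = 0 := by
      calc rF P hle (f ^ n • p) = rX hle f ^ n • rF P hle p := rF_pow_smul P hle f n p
        _ = rX hle f ^ n • (rX hle a ^ N • p') := by rw [hp2]
        _ = rX hle a ^ N • (rX hle f ^ n • p') := smul_comm _ _ _
        _ = 0 := by rw [hn', smul_zero]
    obtain ⟨l, hl⟩ := hP.ker (f ^ n • p) h2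
    have h3 : f ^ n • (a ^ l • p) = 0 := by
      rw [smul_comm]; exact hl
    have h4 : ap π V.1 (a ^ l • p) = 0 :=
      (hker V (a ^ l • p)).mpr ((killedByPowerNear_iff E P V f hf _).mpr ⟨n, h3⟩)
    obtain ⟨m, hm⟩ := exists_kernel_of_app_eq_zero π V.1 (a ^ l • p) h4
    refine ⟨l + N, m, ?_⟩
    apply kernel_ι_injective π (X.basicOpen a)
    have e1 : ap (kernel.ι π) (X.basicOpen a) (rF (kernel π) hle m) =
        rF P hle (ap (kernel.ι π) V.1 m) := ap_rF (kernel.ι π) hle m
    have e2 : ap (kernel.ι π) (X.basicOpen a) (rX hle a ^ (l + N) • m') =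
        rX hle a ^ (l + N) • p' := ap_smul (kernel.ι π) _ m'
    refine e2.trans (Eq.trans ?_ e1.symm)
    rw [hm, rF_pow_smul, ← hp2, pow_add, mul_smul]
  · -- kernel
    intro m hm
    have e1 : rF P hle (ap (kernel.ι π) V.1 m) = 0 := by
      refine (ap_rF (kernel.ι π) hle m).symm.trans ?_
      have hm' : rF (kernel π) hle m = 0 := hm
      rw [hm', map_zero]
    obtain ⟨n, hn⟩ := hP.ker _ e1
    refine ⟨n, ?_⟩
    apply kernel_ι_injective π V.1
    rw [ap_smul, hn, map_zero]


variable (hE : BlowUp.IsEffCartierIdeal E)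

include hker hE in
/-- The kernel of a strict transform map is quasi-coherent. -/
theorem isQuasicoherent_kernel : (kernel π).IsQuasicoherent := by
  let ι := {V : X.affineOpens // ∃ f : Γ(X, V.1), E.ideal V = Ideal.span {f}}
  have hcov : ⨆ i : ι, ((i.1 : X.affineOpens) : X.Opens) = ⊤ := by
    rw [eq_top_iff]
    intro x _
    obtain ⟨U, hxU, f, -, hf⟩ := hE x
    exact Opens.mem_iSup.mpr ⟨⟨U, f, hf⟩, hxU⟩
  refine QCohCrit.isQuasicoherent_of_locOnU_cover (kernel π) (fun i : ι => ((i.1 : X.affineOpens) : X.Opens))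
    (fun i => i.1.2) hcov ?_
  rintro ⟨V, f, hf⟩
  exact locOnU_kernel π hker V f hf

include hker hE in
/-- The strict transform is quasi-coherent. -/
theorem isQuasicoherent_target [Epi π] : G.IsQuasicoherent := by
  haveI := isQuasicoherent_kernel π hker hE
  haveI : (cokernel (kernel.ι π)).IsQuasicoherent := FComplH8.isQuasicoherent_cokernel (kernel.ι π)
  have hcok := Abelian.epiIsCokernelOfKernel _ (kernelIsKernel π)
  let e : cokernel (kernel.ι π) ≅ G :=
    (colimit.isColimit (parallelPair (kernel.ι π) 0)).coconePointUniqueUpToIso hcok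
  exact CohOpenH8.isQuasicoherent_of_iso e.symm

include hker hE in
theorem app_surjective [Epi π] {V : X.Opens} (hV : IsAffineOpen V) :
    Function.Surjective (π.app V) := by
  haveI := isQuasicoherent_target π hker hE
  exact QCohExact.app_surjective_of_epi π hV

include hker hE in
theorem isFiniteType_target [Epi π] [SheafOfModules.IsFiniteType (R := X.ringCatSheaf) P] :
    SheafOfModules.IsFiniteType (R := X.ringCatSheaf) G := by
  haveI := isQuasicoherent_target π hker hE
  refine QCohCrit.isFiniteType_of_sections_cover G (fun V : X.affineOpens => (V : X.Opens))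
    (fun V => V.2) ?_ ?_
  · rw [eq_top_iff]
    intro x _
    obtain ⟨_, ⟨V, hV : IsAffineOpen V, rfl⟩, hxV, -⟩ :=
      (X.isBasis_affineOpens).exists_subset_of_mem_open (Set.mem_univ x) isOpen_univ
    exact Opens.mem_iSup.mpr ⟨⟨V, hV⟩, hxV⟩
  · intro V
    haveI : Module.Finite Γ(X, (V : X.Opens)) Γ(P, (V : X.Opens)) :=
      QCohFT.finite_of_isFiniteType P V.2
    let φ : Γ(P, (V : X.Opens)) →ₗ[Γ(X, (V : X.Opens))] Γ(G, (V : X.Opens)) :=
      { toFun := ap π V
        map_add' := map_add _
        map_smul' := fun r m => ap_smul π r m }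
    exact Module.Finite.of_surjective φ (app_surjective π hker hE V.2)

end
end StrictTrH8
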