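import Mathlib
import Groth.Agent.Lib.StrictTr1_helper8
import Groth.Agent.Lib.ComapId2_helper8
import Groth.Agent.Lib.Fitt8_helper8
import Groth.Agent.Lib.SDivGen_helper8
set_option autoImplicit false
open AlgebraicGeometry CategoryTheory CategoryTheory.Limits TopologicalSpace Opposite
open QcqsLoc QCohExtn FittH8
universe u
namespace StrictTrH8

section
variable {S S' : Scheme.{u}} (F : S.Modules) [F.IsQuasicoherent]
  [SheafOfModules.IsFiniteType (R := S.ringCatSheaf) F] (k : ℕ) (b : S' ⟶ S)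
  (hb : BlowUp.IsBlowUp b (Fitt.sheafIdeal F k)) (G : S'.Modules)
  (π : (Scheme.Modules.pullback b).obj F ⟶ G)
  (hG : BlowUp.IsStrictTransform b (Fitt.sheafIdeal F k) F G π)

include hb hG in
theorem strict_isQuasicoherent : G.IsQuasicoherent := by
  haveI := PBH8.isQuasicoherent_pullback b F
  haveI : Epi π := hG.1
  exact isQuasicoherent_target π hG.2 hb.1

include hb hG in
theorem strict_isFiniteType : SheafOfModules.IsFiniteType (R := S'.ringCatSheaf) G := by
  haveI := PBH8.isQuasicoherent_pullback b F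
  haveI := FpqcH8.isFiniteType_pullback b F
  haveI : Epi π := hG.1
  exact isFiniteType_target π hG.2 hb.1

include hb hG in
/-- The `k`-th Fitting ideal of the strict transform along the blow-up of `Fit_k` is the unit
ideal. -/
theorem strict_fitt_eq_top : Fitt.sheafIdeal G k = ⊤ := by
  haveI := PBH8.isQuasicoherent_pullback b F
  haveI := FpqcH8.isFiniteType_pullback b F
  haveI : Epi π := hG.1
  haveI := strict_isQuasicoherent F k b hb G π hG
  haveI := strict_isFiniteType F k b hb G π hG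
  let ι := {V : S'.affineOpens // ∃ f : Γ(S', V.1), f ∈ nonZeroDivisors Γ(S', V.1) ∧
    ((Fitt.sheafIdeal F k).comap b).ideal V = Ideal.span {f}}
  have hcov : ⨆ i : ι, ((i.1 : S'.affineOpens) : S'.Opens) = ⊤ := by
    rw [eq_top_iff]
    intro x _
    obtain ⟨U, hxU, f, hf0, hf⟩ := hb.1 x
    exact Opens.mem_iSup.mpr ⟨⟨U, f, hf0, hf⟩, hxU⟩
  refine Scheme.IdealSheafData.ext_of_iSup_eq_top (fun i : ι => i.1) hcov ?_
  rintro ⟨V, f, hf0, hf⟩
  show (Fitt.sheafIdeal G k).ideal V = (⊤ : S'.IdealSheafData).ideal V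
  rw [SDivFittH8.sheafIdeal_ideal, Scheme.IdealSheafData.ideal_top]
  show _ = ⊤
  haveI : Module.Finite Γ(S', (V : S'.Opens)) Γ((Scheme.Modules.pullback b).obj F, (V : S'.Opens)) :=
    QCohFT.finite_of_isFiniteType ((Scheme.Modules.pullback b).obj F) V.2
  let φ : Γ((Scheme.Modules.pullback b).obj F, (V : S'.Opens)) →ₗ[Γ(S', (V : S'.Opens))] Γ(G, (V : S'.Opens)) :=
    { toFun := ap π V
      map_add' := map_add _
      map_smul' := fun r m => ap_smul π r m }
  have hφ : Function.Surjective φ := app_surjective π hG.2 hb.1 V.2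
  have hfit : Fitt.ideal Γ(S', (V : S'.Opens)) Γ((Scheme.Modules.pullback b).obj F, (V : S'.Opens)) k = Ideal.span {f} := by
    rw [← SDivFittH8.sheafIdeal_ideal, ← ComapIdH8.fitt_comap b F k]
    exact hf
  have hT : ∀ x : Γ((Scheme.Modules.pullback b).obj F, (V : S'.Opens)), f • x = 0 → x ∈ LinearMap.ker φ := by
    intro x hx
    rw [LinearMap.mem_ker]
    show ap π V x = 0
    refine (hG.2 V x).mpr ((killedByPowerNear_iff _ ((Scheme.Modules.pullback b).obj F) V f hf x).mpr ⟨1, ?_⟩)
    rw [pow_one]; exact hx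
  have h1 := fitt_quotient_torsion_eq_top k f hf0 hfit (LinearMap.ker φ) hT
  have h2 := fitt_eq_of_linearEquiv (φ.quotKerEquivOfSurjective hφ) k
  rw [← h2]
  exact h1

end
end StrictTrH8
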