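import Mathlib
import Groth.Agent.Lib.StrictTr2_helper8
import Groth.Agent.Lib.SDivFree_helper8
import Groth.Agent.Lib.FLF5_helper8
import Groth.Agent.Lib.Fitt10_helper8
import Groth.Agent.Lib.Fitt12_helper8
set_option autoImplicit false
open AlgebraicGeometry CategoryTheory CategoryTheory.Limits TopologicalSpace Opposite
open QcqsLoc QCohExtn FittH8
universe u
namespace StrictTrH8

/-- If `F|_{U₀}` is finite locally free of rank `k`, then every point of `U₀` has an affine open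
neighbourhood `W ⊆ U₀` in `S` over which `F` has a basis of `k` sections. -/
theorem exists_affine_basis {S : Scheme.{u}} (F : S.Modules) (U₀ : S.Opens) (k : ℕ)
    (hfree : FlatMod.IsFinLocFreeOfRank k (F.restrict U₀.ι)) (x : S) (hx : x ∈ U₀) :
    ∃ W : S.affineOpens, x ∈ W.1 ∧ W.1 ≤ U₀ ∧ ∃ g : Fin k → Γ(F, W.1),
      Submodule.span Γ(S, W.1) (Set.range g) = ⊤ ∧ LinearIndependent Γ(S, W.1) g := by
  obtain ⟨U', hxU', ⟨α⟩⟩ := hfree ⟨x, hx⟩
  obtain ⟨_, ⟨V', hV' : IsAffineOpen V', rfl⟩, hxV', -⟩ :=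
    ((U' : Scheme.{u}).isBasis_affineOpens).exists_subset_of_mem_open
      (Set.mem_univ (⟨⟨x, hx⟩, hxU'⟩ : (U' : Scheme.{u}))) isOpen_univ
  obtain ⟨g, hspan, hli⟩ := SDivFreeH8.exists_basis_of_iso (F.restrict U₀.ι) α (V' := V')
  have hW1 : IsAffineOpen (U'.ι ''ᵁ V') := hV'.image_of_isOpenImmersion U'.ι
  have hW : IsAffineOpen (U₀.ι ''ᵁ (U'.ι ''ᵁ V')) := hW1.image_of_isOpenImmersion U₀.ι
  refine ⟨⟨U₀.ι ''ᵁ (U'.ι ''ᵁ V'), hW⟩, ?_, ?_, g, ?_, ?_⟩
  · exact ⟨⟨x, hx⟩, ⟨⟨⟨x, hx⟩, hxU'⟩, hxV', rfl⟩, rfl⟩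
  · rintro _ ⟨y, -, rfl⟩
    exact y.2
  · exact @SDivGenH8.span_top_of_smul_eq' Γ(S, U₀.ι ''ᵁ (U'.ι ''ᵁ V')) Γ((U₀ : Scheme.{u}), U'.ι ''ᵁ V')
      Γ(F.restrict U₀.ι, U'.ι ''ᵁ V') _ _ _
      (inferInstance : Module Γ(S, U₀.ι ''ᵁ (U'.ι ''ᵁ V')) Γ(F, U₀.ι ''ᵁ (U'.ι ''ᵁ V'))) inferInstance
      (U₀.ι.appIso (U'.ι ''ᵁ V')).inv.hom (fun _ _ => rfl) _ hspan
  · exact @SDivFreeH8.li_of_smul_eq' Γ(S, U₀.ι ''ᵁ (U'.ι ''ᵁ V')) Γ((U₀ : Scheme.{u}), U'.ι ''ᵁ V')
      Γ(F.restrict U₀.ι, U'.ι ''ᵁ V') _ _ _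
      (inferInstance : Module Γ(S, U₀.ι ''ᵁ (U'.ι ''ᵁ V')) Γ(F, U₀.ι ''ᵁ (U'.ι ''ᵁ V'))) inferInstance
      (U₀.ι.appIso (U'.ι ''ᵁ V')).inv.hom (FLFH8.appIso_inv_surjective U₀ _) (fun _ _ => rfl) _ _ hli

theorem ring_eq_zero_of_cover {X : Scheme.{u}} {U : X.Opens} (s : Γ(X, U))
    (h : ∀ x ∈ U, ∃ (W : X.Opens) (hW : W ≤ U), x ∈ W ∧ rX hW s = 0) : s = 0 := by
  refine TopCat.Presheaf.section_ext X.sheaf U s 0 (fun x hx => ?_)
  obtain ⟨W, hW, hxW, h0⟩ := h x hx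
  rw [map_zero]
  have h1 := X.presheaf.germ_res_apply (homOfLE hW) x hxW s
  refine h1.symm.trans ?_
  have h2 : (X.presheaf.map (homOfLE hW).op).hom s = 0 := h0
  rw [h2, map_zero]
  rfl

/-- Points of `D(f)` map to the complement of the support, when the pulled back ideal is generated
by `f` on `V`. -/
theorem map_mem_compl_support {S S' : Scheme.{u}} (I : S.IdealSheafData) (b : S' ⟶ S)
    (V : S'.affineOpens) (f : Γ(S', V.1)) (hf : (I.comap b).ideal V = Ideal.span {f})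
    (y : S') (hy : y ∈ S'.basicOpen f) : b y ∈ I.support.compl := by
  have hyV : y ∈ V.1 := S'.basicOpen_le f hy
  have h1 : y ∉ (I.comap b).support := by
    rw [Scheme.IdealSheafData.mem_support_iff_of_mem (U := V) hyV, Scheme.mem_zeroLocus_iff]
    intro h
    exact h f (by rw [hf]; exact Ideal.subset_span rfl) hy
  rw [Scheme.IdealSheafData.support_comap] at h1
  exact h1

theorem fitt_pullback_eq_bot {S S' : Scheme.{u}} (F : S.Modules) [F.IsQuasicoherent]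
    [SheafOfModules.IsFiniteType (R := S.ringCatSheaf) F] (k : ℕ) (b : S' ⟶ S)
    (hfree : FlatMod.IsFinLocFreeOfRank k
      (F.restrict (Scheme.Opens.ι (Fitt.sheafIdeal F k).support.compl)))
    (V : S'.affineOpens) (f : Γ(S', V.1)) (hf0 : f ∈ nonZeroDivisors Γ(S', V.1))
    (hf : ((Fitt.sheafIdeal F k).comap b).ideal V = Ideal.span {f}) (j : ℕ) (hj : j < k) :
    ((Fitt.sheafIdeal F j).comap b).ideal V = ⊥ := by
  rw [eq_bot_iff]
  intro x hx
  rw [Ideal.mem_bot]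
  have hres : rX (S'.basicOpen_le f) x = 0 := by
    apply ring_eq_zero_of_cover
    intro y hy
    have hby := map_mem_compl_support (Fitt.sheafIdeal F k) b V f hf y hy
    obtain ⟨W, hbyW, hWU, g, hspan, hli⟩ := exists_affine_basis F _ k hfree (b y) hby
    obtain ⟨_, ⟨U, hU : IsAffineOpen U, rfl⟩, hyU, hUsub⟩ :=
      (S'.isBasis_affineOpens).exists_subset_of_mem_open
        (show y ∈ ((S'.basicOpen f ⊓ b ⁻¹ᵁ W.1 : S'.Opens) : Set S') from ⟨hy, hbyW⟩)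
        (S'.basicOpen f ⊓ b ⁻¹ᵁ W.1).2
    have hU1 : U ≤ S'.basicOpen f := fun z hz => (hUsub hz).1
    have hU2 : U ≤ b ⁻¹ᵁ W.1 := fun z hz => (hUsub hz).2
    refine ⟨U, hU1, hyU, ?_⟩
    rw [rX_rX]
    have h1 : rX (hU1.trans (S'.basicOpen_le f)) x ∈
        ((Fitt.sheafIdeal F j).comap b).ideal ⟨U, hU⟩ :=
      ((Fitt.sheafIdeal F j).comap b).ideal_le_comap_ideal (U := ⟨U, hU⟩) (V := V)
        (hU1.trans (S'.basicOpen_le f)) hx
    rw [ComapIdH8.comap_ideal b (Fitt.sheafIdeal F j) ⟨U, hU⟩ W hU2, SDivFittH8.sheafIdeal_ideal,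
      fitt_of_basis_of_lt (Module.Basis.mk hli hspan.ge) j hj, Ideal.map_bot] at h1
    exact h1
  haveI := V.2.isLocalization_basicOpen f
  have h2 : algebraMap Γ(S', V.1) Γ(S', S'.basicOpen f) x = 0 := hres
  obtain ⟨⟨_, n, rfl⟩, hn⟩ := (IsLocalization.map_eq_zero_iff (Submonoid.powers f) _ x).mp h2
  exact (mem_nonZeroDivisors_iff.mp (pow_mem hf0 n)).1 x hn

section
variable {S S' : Scheme.{u}} (F : S.Modules) [F.IsQuasicoherent]
  [SheafOfModules.IsFiniteType (R := S.ringCatSheaf) F] (k : ℕ) (b : S' ⟶ S)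
  (hb : BlowUp.IsBlowUp b (Fitt.sheafIdeal F k)) (G : S'.Modules)
  (π : (Scheme.Modules.pullback b).obj F ⟶ G)
  (hG : BlowUp.IsStrictTransform b (Fitt.sheafIdeal F k) F G π)
  (hfree : FlatMod.IsFinLocFreeOfRank k
      (F.restrict (Scheme.Opens.ι (Fitt.sheafIdeal F k).support.compl)))

include hb hG hfree in
theorem strict_fitt_eq_bot (j : ℕ) (hj : j < k) : Fitt.sheafIdeal G j = ⊥ := by
  haveI := PBH8.isQuasicoherent_pullback b F
  haveI := FpqcH8.isFiniteType_pullback b F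
  haveI : Epi π := hG.1
  haveI := strict_isQuasicoherent F k b hb G π hG
  haveI := strict_isFiniteType F k b hb G π hG
  let ι := {V : S'.affineOpens // ∃ f : Γ(S', V.1), f ∈ nonZeroDivisors Γ(S', V.1) ∧
    ((Fitt.sheafIdeal F k).comap b).ideal V = Ideal.span {f}}
  have hcov : ⨆ i : ι, ((i.1 : S'.affineOpens) : S'.Opens) = ⊤ := by
    rw [eq_top_iff]
    intro x _
    obtain ⟨U, hxU, f, hf0, hf⟩ := hb.1 x
    exact Opens.mem_iSup.mpr ⟨⟨U, f, hf0, hf⟩, hxU⟩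
  refine Scheme.IdealSheafData.ext_of_iSup_eq_top (fun i : ι => i.1) hcov ?_
  rintro ⟨V, f, hf0, hf⟩
  show (Fitt.sheafIdeal G j).ideal V = (⊥ : S'.IdealSheafData).ideal V
  rw [SDivFittH8.sheafIdeal_ideal, Scheme.IdealSheafData.ideal_bot]
  show _ = ⊥
  haveI : Module.Finite Γ(S', (V : S'.Opens)) Γ((Scheme.Modules.pullback b).obj F, (V : S'.Opens)) :=
    QCohFT.finite_of_isFiniteType ((Scheme.Modules.pullback b).obj F) V.2
  let φ : Γ((Scheme.Modules.pullback b).obj F, (V : S'.Opens)) →ₗ[Γ(S', (V : S'.Opens))] Γ(G, (V : S'.Opens)) :=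
    { toFun := ap π V
      map_add' := map_add _
      map_smul' := fun r m => ap_smul π r m }
  have hφ : Function.Surjective φ := app_surjective π hG.2 hb.1 V.2
  have hfit : Fitt.ideal Γ(S', (V : S'.Opens)) Γ((Scheme.Modules.pullback b).obj F, (V : S'.Opens)) j = ⊥ := by
    rw [← SDivFittH8.sheafIdeal_ideal, ← ComapIdH8.fitt_comap b F j]
    exact fitt_pullback_eq_bot F k b hfree V f hf0 hf j hj
  have hker : LinearMap.ker φ = FlatCA.powTorsion Γ(S', (V : S'.Opens)) f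
      Γ((Scheme.Modules.pullback b).obj F, (V : S'.Opens)) := by
    ext x
    rw [LinearMap.mem_ker, mem_powTorsion_iff]
    show ap π V x = 0 ↔ _
    exact (hG.2 V x).trans (killedByPowerNear_iff _ ((Scheme.Modules.pullback b).obj F) V f hf x)
  have h1 := fitt_quotient_powTorsion_eq_bot (N := Γ((Scheme.Modules.pullback b).obj F, (V : S'.Opens))) j f hf0 hfit
  have h2 := fitt_eq_of_linearEquiv
    ((Submodule.quotEquivOfEq _ _ hker).symm ≪≫ₗ φ.quotKerEquivOfSurjective hφ) j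
  rw [← h2]
  exact h1

include hb hG hfree in
/-- The strict transform of `F` along the blow-up of `Fit_k(F)` is finite locally free of rank `k`
when `F` is so away from `V(Fit_k F)`. -/
theorem strict_finLocFree : FlatMod.IsFinLocFreeOfRank k G := by
  haveI := strict_isQuasicoherent F k b hb G π hG
  haveI := strict_isFiniteType F k b hb G π hG
  rw [SDivFreeH8.finLocFree_iff G k]
  refine ⟨fun j hj => strict_fitt_eq_bot F k b hb G π hG hfree j hj, fun j hj => ?_⟩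
  have htop := strict_fitt_eq_top F k b hb G π hG
  rw [eq_top_iff]
  intro V
  rw [SDivFittH8.sheafIdeal_ideal]
  have h3 : (Fitt.sheafIdeal G k).ideal V = ⊤ := by rw [htop]; rfl
  rw [SDivFittH8.sheafIdeal_ideal] at h3
  show (⊤ : Ideal _) ≤ _
  rw [← h3]
  exact fitt_mono hj

end

end StrictTrH8
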