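import Mathlib
import Groth.Agent.Lib.BlowIso1_helper8
import Groth.Agent.Lib.StrictTr3_helper8
set_option autoImplicit false
open AlgebraicGeometry CategoryTheory CategoryTheory.Limits TopologicalSpace Opposite
open QcqsLoc
universe u
namespace BlowIsoH8

/-- An open containing the complement of an effective Cartier divisor is schematically dense. -/
theorem dominant_of_effCartier {Y : Scheme.{u}} (E : Y.IdealSheafData)
    (hE : BlowUp.IsEffCartierIdeal E) (O : Y.Opens) (hO : ∀ y : Y, y ∉ E.support → y ∈ O) :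
    IsSchemeTheoreticallyDominant O.ι := by
  rw [isSchemeTheoreticallyDominant_iff]
  let ι := {V : Y.affineOpens // ∃ f : Γ(Y, V.1), f ∈ nonZeroDivisors Γ(Y, V.1) ∧
    E.ideal V = Ideal.span {f}}
  have hcov : ⨆ i : ι, ((i.1 : Y.affineOpens) : Y.Opens) = ⊤ := by
    rw [eq_top_iff]
    intro x _
    obtain ⟨U, hxU, f, hf0, hf⟩ := hE x
    exact Opens.mem_iSup.mpr ⟨⟨U, f, hf0, hf⟩, hxU⟩
  refine Scheme.IdealSheafData.ext_of_iSup_eq_top (fun i : ι => i.1) hcov ?_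
  rintro ⟨V, f, hf0, hf⟩
  show O.ι.ker.ideal V = (⊥ : Y.IdealSheafData).ideal V
  rw [Scheme.IdealSheafData.ideal_bot]
  show _ = (⊥ : Ideal _)
  rw [eq_bot_iff]
  intro x hx
  have h1 : x ∈ RingHom.ker (O.ι.app V.1).hom := Scheme.Hom.ideal_ker_le O.ι V hx
  rw [RingHom.mem_ker, Scheme.Opens.ι_app] at h1
  show x ∈ (⊥ : Ideal _)
  rw [Ideal.mem_bot]
  have hle : Y.basicOpen f ≤ O.ι ''ᵁ O.ι ⁻¹ᵁ V.1 := by
    intro y hy
    have hyV : y ∈ V.1 := Y.basicOpen_le f hy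
    have hyO : y ∈ O := by
      apply hO
      rw [Scheme.IdealSheafData.mem_support_iff_of_mem (U := V) hyV, Scheme.mem_zeroLocus_iff]
      intro h
      exact h f (by rw [hf]; exact Ideal.subset_span rfl) hy
    exact ⟨⟨y, hyO⟩, hyV, rfl⟩
  have hres : rX (Y.basicOpen_le f) x = 0 := by
    have h2 : rX (Set.image_preimage_subset _ _ : O.ι ''ᵁ O.ι ⁻¹ᵁ V.1 ≤ V.1) x = 0 := h1
    rw [← rX_rX hle (Set.image_preimage_subset _ _ : O.ι ''ᵁ O.ι ⁻¹ᵁ V.1 ≤ V.1), h2, map_zero]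
  haveI := V.2.isLocalization_basicOpen f
  have h2 : algebraMap Γ(Y, V.1) Γ(Y, Y.basicOpen f) x = 0 := hres
  obtain ⟨⟨_, n, rfl⟩, hn⟩ := (IsLocalization.map_eq_zero_iff (Submonoid.powers f) _ x).mp h2
  exact (mem_nonZeroDivisors_iff.mp (pow_mem hf0 n)).1 x hn

end BlowIsoH8

namespace BlowIsoH8

theorem dominant_preimage {X X' : Scheme.{u}} [IsNoetherian X]
    (U : X.Opens) [IsSchemeTheoreticallyDominant U.ι] (𝓘 : X.IdealSheafData)
    (hU : Disjoint (𝓘.support : Set X) (U : Set X)) (π : X' ⟶ X) (hπ : BlowUp.IsBlowUp π 𝓘) :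
    IsSchemeTheoreticallyDominant (π ⁻¹ᵁ U).ι := by
  let W : X.Opens := 𝓘.support.compl
  have hUW : U ≤ W := fun x hx hxs => (Set.disjoint_left.mp hU) hxs hx
  have hUd : ∀ x ∈ U, x ∉ 𝓘.support := fun x hx hxs => (Set.disjoint_left.mp hU) hxs hx
  -- the inclusion `U ⟶ W` is schematically dominant
  have hk : IsSchemeTheoreticallyDominant (X.homOfLE hUW) := by
    have H : IsPullback (𝟙 (U : Scheme.{u})) (X.homOfLE hUW) U.ι W.ι :=
      IsPullback.of_horiz_isIso_mono ⟨by simp⟩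
    exact IsSchemeTheoreticallyDominant.of_isPullback H
  haveI hφ : IsIso (π ∣_ W) := isIso_restrict 𝓘 π hπ
  haveI hψ : IsIso (π ∣_ U) := isIso_restrict_of_disjoint 𝓘 π hπ U hUd
  have hpre : π ⁻¹ᵁ U ≤ π ⁻¹ᵁ W := fun x hx => hUW hx
  have hj : X'.homOfLE hpre = (π ∣_ U) ≫ X.homOfLE hUW ≫ inv (π ∣_ W) := by
    rw [← Category.assoc, IsIso.eq_comp_inv, ← cancel_mono W.ι]
    simp only [Category.assoc, morphismRestrict_ι, Scheme.homOfLE_ι, Scheme.homOfLE_ι_assoc]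
  have hjd : IsSchemeTheoreticallyDominant (X'.homOfLE hpre) := by
    rw [hj]
    infer_instance
  have hWd : IsSchemeTheoreticallyDominant (π ⁻¹ᵁ W).ι := by
    refine dominant_of_effCartier (𝓘.comap π) hπ.1 _ ?_
    intro y hy
    rw [Scheme.IdealSheafData.support_comap] at hy
    exact hy
  have : (π ⁻¹ᵁ U).ι = X'.homOfLE hpre ≫ (π ⁻¹ᵁ W).ι := (Scheme.homOfLE_ι _ _).symm
  rw [this]
  infer_instance

end BlowIsoH8
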