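import Mathlib
import Groth.Agent.Lib.BlowIso2_helper8
import Groth.Agent.Lib.FLF1_helper8
set_option autoImplicit false
open AlgebraicGeometry CategoryTheory CategoryTheory.Limits TopologicalSpace Opposite
universe u
namespace BlowIsoH8

/-- A maximal point of a scheme does not lie on an effective Cartier divisor. -/
theorem notMem_support_of_maximal {Y : Scheme.{u}} (E : Y.IdealSheafData)
    (hE : BlowUp.IsEffCartierIdeal E) (x : Y) (hx : ∀ y : Y, y ⤳ x → y = x) :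
    x ∉ E.support := by
  obtain ⟨V, hxV, f, hf0, hf⟩ := hE x
  have hmin : (V.2.primeIdealOf ⟨x, hxV⟩).asIdeal ∈ minimalPrimes Γ(Y, V.1) := by
    rw [minimalPrimes_eq_minimals]
    refine ⟨(V.2.primeIdealOf ⟨x, hxV⟩).isPrime, ?_⟩
    intro q hq hle
    let 𝔮 : PrimeSpectrum Γ(Y, V.1) := ⟨q, hq⟩
    have hsp : 𝔮 ⤳ V.2.primeIdealOf ⟨x, hxV⟩ := (PrimeSpectrum.le_iff_specializes _ _).mp hle
    have h2 : V.2.fromSpec 𝔮 ⤳ V.2.fromSpec (V.2.primeIdealOf ⟨x, hxV⟩) :=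
      hsp.map V.2.fromSpec.continuous
    rw [V.2.fromSpec_primeIdealOf] at h2
    have h3 := hx _ h2
    have h4 : V.2.fromSpec 𝔮 = V.2.fromSpec (V.2.primeIdealOf ⟨x, hxV⟩) := by
      rw [V.2.fromSpec_primeIdealOf]; exact h3
    have h5 : 𝔮 = V.2.primeIdealOf ⟨x, hxV⟩ :=
      V.2.fromSpec.isOpenEmbedding.injective h4
    rw [← h5]
  have hfp : f ∈ (V.2.primeIdealOf ⟨x, hxV⟩).asIdeal.primeCompl := fun hfp =>
    Set.disjoint_left.mp (Ideal.disjoint_nonZeroDivisors_of_mem_minimalPrimes hmin) hfp hf0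
  have hxf : x ∈ Y.basicOpen f := FLFH8.mem_basicOpen_of_notMem_prime V.2 hxV hfp
  rw [Scheme.IdealSheafData.mem_support_iff_of_mem (U := V) hxV, Scheme.mem_zeroLocus_iff]
  intro h
  exact h f (by rw [hf]; exact Ideal.subset_span rfl) hxf

end BlowIsoH8

namespace BlowIsoH8

theorem bijOn_maximal {X X' : Scheme.{u}} (𝓘 : X.IdealSheafData) (b : X' ⟶ X)
    (hb : BlowUp.IsBlowUp b 𝓘) :
    Set.BijOn (fun x' => b x') {x' : X' | ∀ y : X', y ⤳ x' → y = x'}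
      {x : X | (∀ y : X, y ⤳ x → y = x) ∧ x ∉ 𝓘.support} := by
  let W : X.Opens := 𝓘.support.compl
  haveI hφ : IsIso (b ∣_ W) := isIso_restrict 𝓘 b hb
  have hF1 : ∀ z : (b ⁻¹ᵁ W : Scheme.{u}), ((b ∣_ W) z).1 = b z.1 := by
    intro z
    have := congrArg (fun g : (b ⁻¹ᵁ W : Scheme.{u}) ⟶ X => g z) (morphismRestrict_ι b W)
    exact this
  have hψφ : ∀ z : (b ⁻¹ᵁ W : Scheme.{u}), (inv (b ∣_ W)) ((b ∣_ W) z) = z := by
    intro z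
    have := congrArg (fun g : (b ⁻¹ᵁ W : Scheme.{u}) ⟶ (b ⁻¹ᵁ W : Scheme.{u}) => g z)
      (IsIso.hom_inv_id (b ∣_ W))
    exact this
  have hφψ : ∀ w : (W : Scheme.{u}), (b ∣_ W) ((inv (b ∣_ W)) w) = w := by
    intro w
    have := congrArg (fun g : (W : Scheme.{u}) ⟶ (W : Scheme.{u}) => g w)
      (IsIso.inv_hom_id (b ∣_ W))
    exact this
  have hmemW : ∀ x' : X', (∀ y : X', y ⤳ x' → y = x') → x' ∈ b ⁻¹ᵁ W := by
    intro x' hx'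
    have h1 := notMem_support_of_maximal (𝓘.comap b) hb.1 x' hx'
    rw [Scheme.IdealSheafData.support_comap] at h1
    exact h1
  refine ⟨?_, ?_, ?_⟩
  · intro x' hx'
    have hx'W := hmemW x' hx'
    refine ⟨?_, hx'W⟩
    intro y hy
    have hyW : y ∈ W := hy.mem_open W.2 hx'W
    obtain ⟨z, hz⟩ : ∃ z : (b ⁻¹ᵁ W : Scheme.{u}), z.1 = x' := ⟨⟨x', hx'W⟩, rfl⟩
    obtain ⟨w, hw⟩ : ∃ w : (W : Scheme.{u}), w.1 = y := ⟨⟨y, hyW⟩, rfl⟩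
    have h1 : w ⤳ (b ∣_ W) z := by
      rw [← W.ι.isOpenEmbedding.isInducing.specializes_iff]
      show w.1 ⤳ ((b ∣_ W) z).1
      rw [hF1, hw, hz]
      exact hy
    have h2 := h1.map (inv (b ∣_ W)).continuous
    rw [hψφ] at h2
    have h3 : ((inv (b ∣_ W)) w).1 ⤳ z.1 := h2.map (b ⁻¹ᵁ W).ι.continuous
    rw [hz] at h3
    have h4 := hx' _ h3
    have h5 : (inv (b ∣_ W)) w = z := Subtype.ext (h4.trans hz.symm)
    have h6 := congrArg (fun z => ((b ∣_ W) z).1) h5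
    simp only [hφψ, hF1] at h6
    rw [hw, hz] at h6
    exact h6
  · intro x₁ hx₁ x₂ hx₂ h12
    obtain ⟨z₁, hz₁⟩ : ∃ z : (b ⁻¹ᵁ W : Scheme.{u}), z.1 = x₁ := ⟨⟨x₁, hmemW x₁ hx₁⟩, rfl⟩
    obtain ⟨z₂, hz₂⟩ : ∃ z : (b ⁻¹ᵁ W : Scheme.{u}), z.1 = x₂ := ⟨⟨x₂, hmemW x₂ hx₂⟩, rfl⟩
    have h1 : (b ∣_ W) z₁ = (b ∣_ W) z₂ := by
      apply Subtype.ext
      rw [hF1, hF1, hz₁, hz₂]
      exact h12
    have h2 := congrArg (inv (b ∣_ W)) h1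
    rw [hψφ, hψφ] at h2
    rw [← hz₁, ← hz₂, h2]
  · rintro x ⟨hx, hxW⟩
    obtain ⟨w, hw⟩ : ∃ w : (W : Scheme.{u}), w.1 = x := ⟨⟨x, hxW⟩, rfl⟩
    have hbz : b ((inv (b ∣_ W)) w).1 = x := by
      rw [← hF1, hφψ, hw]
    refine ⟨((inv (b ∣_ W)) w).1, ?_, hbz⟩
    intro y hy
    have hyW : y ∈ b ⁻¹ᵁ W := hy.mem_open (b ⁻¹ᵁ W).2 ((inv (b ∣_ W)) w).2
    obtain ⟨z, hz⟩ : ∃ z : (b ⁻¹ᵁ W : Scheme.{u}), z.1 = y := ⟨⟨y, hyW⟩, rfl⟩
    have h1 : b y ⤳ b ((inv (b ∣_ W)) w).1 := hy.map b.continuous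
    rw [hbz] at h1
    have h2 := hx _ h1
    have h3 : (b ∣_ W) z = w := by
      apply Subtype.ext
      rw [hF1, hz, hw]
      exact h2
    have h4 := congrArg (inv (b ∣_ W)) h3
    rw [hψφ] at h4
    rw [← hz, h4]

end BlowIsoH8
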