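import Groth.Agent.Lib.PB5_helper8
set_option autoImplicit false
open CategoryTheory AlgebraicGeometry Opposite TopologicalSpace
open AlgebraicGeometry.Scheme.Modules
universe u
namespace PBH8

section
variable {X Y : Scheme.{u}} (f : X ⟶ Y)

/-- The canonical map `Γ(F, V) → Γ(f^* F, U)` for `U ≤ f⁻¹ V`. -/
noncomputable def cUV (F : Y.Modules) {U : X.Opens} {V : Y.Opens} (h : U ≤ f ⁻¹ᵁ V)
    (x : Γ(F, V)) : Γ((Scheme.Modules.pullback f).obj F, U) :=
  ((Scheme.Modules.pullback f).obj F).presheaf.map (homOfLE h).op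
    (((pullbackPushforwardAdjunction f).unit.app F).app V x)

lemma cUV_add (F : Y.Modules) {U : X.Opens} {V : Y.Opens} (h : U ≤ f ⁻¹ᵁ V) (x y : Γ(F, V)) :
    cUV f F h (x + y) = cUV f F h x + cUV f F h y := by
  unfold cUV
  rw [map_add]
  exact map_add (((Scheme.Modules.pullback f).obj F).presheaf.map (homOfLE h).op).hom
    ((((pullbackPushforwardAdjunction f).unit.app F).app V) x)
    ((((pullbackPushforwardAdjunction f).unit.app F).app V) y)

lemma cUV_smul (F : Y.Modules) {U : X.Opens} {V : Y.Opens} (h : U ≤ f ⁻¹ᵁ V)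
    (a : Γ(Y, V)) (x : Γ(F, V)) :
    cUV f F h (a • x) = (f.appLE V U h a) • cUV f F h x := by
  unfold cUV
  rw [Scheme.Modules.Hom.app_smul]
  exact Scheme.Modules.map_smul ((Scheme.Modules.pullback f).obj F) (homOfLE h) (f.app V a)
    (((pullbackPushforwardAdjunction f).unit.app F).app V x)

end
end PBH8

namespace PBH8
section
variable {Y : Scheme.{u}} {V : Y.Opens} (hV : IsAffineOpen V)

lemma fromSpec_image_top' : hV.fromSpec ''ᵁ ⊤ = V := by
  rw [Scheme.Hom.image_top_eq_opensRange, hV.opensRange_fromSpec]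

lemma rho_eq (a : Γ(Y, V)) :
    (hV.fromSpec.appIso ⊤).inv ((Scheme.ΓSpecIso Γ(Y, V)).inv a) =
      Y.presheaf.map (eqToHom (fromSpec_image_top' hV)).op a := by
  have e : (⊤ : (Spec Γ(Y, V)).Opens) ≤ hV.fromSpec ⁻¹ᵁ V := by
    rw [hV.fromSpec_preimage_self]
  have h1 := Scheme.Hom.appLE_appIso_inv hV.fromSpec e
  have h2 : hV.fromSpec.appLE V ⊤ e = (Scheme.ΓSpecIso Γ(Y, V)).inv := by
    rw [Scheme.Hom.appLE, hV.fromSpec_app_self, Category.assoc, ← Functor.map_comp]
    have : (eqToHom hV.fromSpec_preimage_self).op ≫ (homOfLE e).op = 𝟙 _ := rfl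
    rw [this, CategoryTheory.Functor.map_id, Category.comp_id]
  rw [h2] at h1
  have h3 := congrArg (fun ψ => ψ a) h1
  exact h3

end
end PBH8

namespace PBH8
section
variable {Z : Scheme.{u}} (M : Z.Modules)

/-- transport of sections along an equality of opens. -/
noncomputable def trEq {W W' : Z.Opens} (e : W = W') : Γ(M, W) ≃+ Γ(M, W') where
  toFun := M.presheaf.map (eqToHom e.symm).op
  invFun := M.presheaf.map (eqToHom e).op
  left_inv x := by
    subst e
    simp
  right_inv x := by
    subst e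
    simp
  map_add' x y := map_add _ x y

lemma trEq_apply {W W' : Z.Opens} (e : W = W') (x : Γ(M, W)) :
    trEq M e x = M.presheaf.map (eqToHom e.symm).op x := rfl

lemma trEq_smul {W W' : Z.Opens} (e : W = W') (r : Γ(Z, W)) (x : Γ(M, W)) :
    trEq M e (r • x) = (Z.presheaf.map (eqToHom e.symm).op r) • trEq M e x :=
  Scheme.Modules.map_smul M (eqToHom e.symm) r x

end
end PBH8

namespace PBH8
section
open TensorProduct
variable {X Y : Scheme.{u}} (f : X ⟶ Y) (F : Y.Modules)
  {U : X.Opens} {V : Y.Opens} (h : U ≤ f ⁻¹ᵁ V)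

/-- `cUV` as a linear map. -/
noncomputable def cUVLin :
    letI := (f.appLE V U h).hom.toAlgebra
    letI : Module Γ(Y, V) Γ((Scheme.Modules.pullback f).obj F, U) :=
      Module.compHom _ (f.appLE V U h).hom
    Γ(F, V) →ₗ[Γ(Y, V)] Γ((Scheme.Modules.pullback f).obj F, U) :=
  letI := (f.appLE V U h).hom.toAlgebra
  letI : Module Γ(Y, V) Γ((Scheme.Modules.pullback f).obj F, U) :=
    Module.compHom _ (f.appLE V U h).hom
  { toFun := cUV f F h
    map_add' := cUV_add f F h
    map_smul' := cUV_smul f F h }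

lemma cUVLin_apply (x : Γ(F, V)) : cUVLin f F h x = cUV f F h x := rfl

variable [F.IsQuasicoherent] (hU : IsAffineOpen U) (hV : IsAffineOpen V)

include hU hV in
/-- **Sections of the pullback of a quasi-coherent module**: for affine opens `U ⊆ X`, `V ⊆ Y`
with `f(U) ⊆ V`, the canonical map `Γ(F, V) → Γ(f^* F, U)` is a base change along
`Γ(Y, V) → Γ(X, U)`. -/
theorem isBaseChange_cUV :
    letI := (f.appLE V U h).hom.toAlgebra
    letI : Module Γ(Y, V) Γ((Scheme.Modules.pullback f).obj F, U) :=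
      Module.compHom _ (f.appLE V U h).hom
    haveI : IsScalarTower Γ(Y, V) Γ(X, U) Γ((Scheme.Modules.pullback f).obj F, U) :=
      IsScalarTower.of_algebraMap_smul fun _ _ => rfl
    IsBaseChange Γ(X, U) (cUVLin f F h) := by
  letI := (f.appLE V U h).hom.toAlgebra
  letI mA : Module Γ(Y, V) Γ((Scheme.Modules.pullback f).obj F, U) :=
    Module.compHom _ (f.appLE V U h).hom
  haveI : IsScalarTower Γ(Y, V) Γ(X, U) Γ((Scheme.Modules.pullback f).obj F, U) :=
    IsScalarTower.of_algebraMap_smul fun _ _ => rfl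
  have comm : hU.fromSpec ≫ f = Spec.map (f.appLE V U h) ≫ hV.fromSpec :=
    (IsAffineOpen.SpecMap_appLE_fromSpec f hV hU h).symm
  have hbc := isBaseChange_cFLin f hU.fromSpec hV.fromSpec (f.appLE V U h) comm F
  letI m1 := modI hV.fromSpec F
  letI m2 := modI hU.fromSpec ((Scheme.Modules.pullback f).obj F)
  letI m3 : Module Γ(Y, V) Γ((Scheme.Modules.pullback f).obj F, hU.fromSpec ''ᵁ ⊤) := Module.compHom _ (f.appLE V U h).hom
  haveI : IsScalarTower Γ(Y, V) Γ(X, U) Γ((Scheme.Modules.pullback f).obj F, hU.fromSpec ''ᵁ ⊤) :=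
    IsScalarTower.of_algebraMap_smul fun _ _ => rfl
  have eV := fromSpec_image_top' hV
  have eU := fromSpec_image_top' hU
  let eM : Γ(F, hV.fromSpec ''ᵁ ⊤) ≃ₗ[Γ(Y, V)] Γ(F, V) :=
    { trEq F eV with
      map_smul' := fun a x => by
        change trEq F eV (a • x) = a • trEq F eV x
        rw [modI_smul, trEq_smul, rho_eq hV]
        congr 1
        have := congrArg (fun ψ => ψ a) (Y.presheaf.map_comp (eqToHom eV).op (eqToHom eV.symm).op)
        refine this.symm.trans ?_
        rw [← op_comp, eqToHom_trans, eqToHom_refl, op_id, Y.presheaf.map_id]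
        rfl }
  let eN : Γ((Scheme.Modules.pullback f).obj F, hU.fromSpec ''ᵁ ⊤) ≃ₗ[Γ(X, U)] Γ((Scheme.Modules.pullback f).obj F, U) :=
    { trEq ((Scheme.Modules.pullback f).obj F) eU with
      map_smul' := fun a x => by
        change trEq ((Scheme.Modules.pullback f).obj F) eU (a • x) = a • trEq ((Scheme.Modules.pullback f).obj F) eU x
        rw [modI_smul, trEq_smul, rho_eq hU]
        congr 1
        have := congrArg (fun ψ => ψ a) (X.presheaf.map_comp (eqToHom eU).op (eqToHom eU.symm).op)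
        refine this.symm.trans ?_
        rw [← op_comp, eqToHom_trans, eqToHom_refl, op_id, X.presheaf.map_id]
        rfl }
  refine (IsBaseChange.iff_of_equiv_comm (f' := cUVLin f F h) eM eN ?_).mp hbc
  ext x
  change cUV f F h (trEq F eV x) = trEq ((Scheme.Modules.pullback f).obj F) eU
    (cFLin f hU.fromSpec hV.fromSpec (f.appLE V U h) comm F x)
  rw [cFLin_apply]
  unfold cUV cF
  rw [trEq_apply, trEq_apply]
  set η := (pullbackPushforwardAdjunction f).unit.app F with hη
  have hnat := congrArg (fun ψ => ψ x) (η.mapPresheaf.naturality (eqToHom eV.symm).op)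
  simp only [Scheme.Modules.mapPresheaf_app] at hnat
  have hnat' : η.app V (F.presheaf.map (eqToHom eV.symm).op x) =
      ((Scheme.Modules.pullback f).obj F).presheaf.map
        ((Opens.map f.base).map (eqToHom eV.symm)).op (η.app (hV.fromSpec ''ᵁ ⊤) x) := hnat
  rw [hnat']
  have h1 := congrArg (fun ψ => ψ (η.app (hV.fromSpec ''ᵁ ⊤) x))
    (((Scheme.Modules.pullback f).obj F).presheaf.map_comp
      ((Opens.map f.base).map (eqToHom eV.symm)).op (homOfLE h).op)
  have h2 := congrArg (fun ψ => ψ (η.app (hV.fromSpec ''ᵁ ⊤) x))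
    (((Scheme.Modules.pullback f).obj F).presheaf.map_comp
      (homOfLE (image_top_le f hU.fromSpec hV.fromSpec (f.appLE V U h) comm)).op
      (eqToHom eU.symm).op)
  exact h1.symm.trans h2

end
end PBH8
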