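import Mathlib
import Groth.Agent.Lib.BlowIso3_helper8
import Groth.Agent.Lib.ComapId1_helper8
import Groth.Agent.Lib.PB6_helper8
set_option autoImplicit false
open AlgebraicGeometry CategoryTheory CategoryTheory.Limits TopologicalSpace Opposite
open QcqsLoc
universe u
namespace CartH8

/-- The inverse image of an effective Cartier divisor under a flat morphism is an effective
Cartier divisor. -/
theorem isEffCartier_comap_of_flat {Y X : Scheme.{u}} (p : Y ⟶ X) [Flat p] (D : X.IdealSheafData)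
    (hD : BlowUp.IsEffCartierIdeal D) : BlowUp.IsEffCartierIdeal (D.comap p) := by
  intro y
  obtain ⟨U, hxU, d, hd0, hd⟩ := hD (p y)
  obtain ⟨_, ⟨V, hV : IsAffineOpen V, rfl⟩, hyV, hVU⟩ :=
    (Y.isBasis_affineOpens).exists_subset_of_mem_open
      (show y ∈ ((p ⁻¹ᵁ U.1 : Y.Opens) : Set Y) from hxU) (p ⁻¹ᵁ U.1).2
  have hVU' : V ≤ p ⁻¹ᵁ U.1 := hVU
  refine ⟨⟨V, hV⟩, hyV, (p.appLE U.1 V hVU').hom d, ?_, ?_⟩
  · letI := (p.appLE U.1 V hVU').hom.toAlgebra
    haveI : Module.Flat Γ(X, U.1) Γ(Y, V) := p.flat_appLE U.2 hV hVU'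
    have hreg : IsSMulRegular Γ(X, U.1) d := by
      intro a a' h
      have h1 : d * (a - a') = 0 := by
        have : d * a = d * a' := h
        rw [mul_sub, this, sub_self]
      have := (mem_nonZeroDivisors_iff.mp hd0).1 _ h1
      exact sub_eq_zero.mp this
    have h2 : IsSMulRegular Γ(Y, V) (algebraMap Γ(X, U.1) Γ(Y, V) d) := IsSMulRegular.of_flat hreg
    rw [mem_nonZeroDivisors_iff]
    constructor
    · intro s hs
      refine h2 (?_ : algebraMap Γ(X, U.1) Γ(Y, V) d • s = algebraMap Γ(X, U.1) Γ(Y, V) d • 0)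
      rw [smul_zero]
      exact hs
    · intro s hs
      rw [mul_comm] at hs
      refine h2 (?_ : algebraMap Γ(X, U.1) Γ(Y, V) d • s = algebraMap Γ(X, U.1) Γ(Y, V) d • 0)
      rw [smul_zero]
      exact hs
  · rw [ComapIdH8.comap_ideal p D ⟨V, hV⟩ U hVU', hd, Ideal.map_span, Set.image_singleton]

/-- Inverse image of ideal sheaves commutes with products. -/
theorem comap_mul {Y X : Scheme.{u}} (p : Y ⟶ X) (I J : X.IdealSheafData) :
    (I * J).comap p = I.comap p * J.comap p := by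
  let ι := {U : Y.affineOpens // ∃ V : X.affineOpens, (U : Y.Opens) ≤ p ⁻¹ᵁ (V : X.Opens)}
  refine Scheme.IdealSheafData.ext_of_iSup_eq_top (ι := ι) (fun i => i.1) ?_ ?_
  · rw [eq_top_iff]
    intro y _
    obtain ⟨V, U, hV, hU, hyU, hUV⟩ := PBH8.exists_affine_pair' p y
    exact TopologicalSpace.Opens.mem_iSup.mpr ⟨⟨⟨U, hU⟩, ⟨⟨V, hV⟩, hUV⟩⟩, hyU⟩
  · rintro ⟨U, V, hUV⟩
    show ((I * J).comap p).ideal U = (I.comap p).ideal U * (J.comap p).ideal U
    rw [ComapIdH8.comap_ideal p _ U V hUV, ComapIdH8.comap_ideal p _ U V hUV,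
      ComapIdH8.comap_ideal p _ U V hUV]
    show Ideal.map _ (I.ideal V * J.ideal V) = _
    rw [Ideal.map_mul]

/-- A non-zero-divisor on an affine open stays a non-zero-divisor on any smaller open. -/
theorem eq_zero_of_res_mul_eq_zero {X : Scheme.{u}} {U : X.Opens} (hU : IsAffineOpen U)
    (f : Γ(X, U)) (hf : f ∈ nonZeroDivisors Γ(X, U)) {N : X.Opens} (hN : N ≤ U) (s : Γ(X, N))
    (hs : rX hN f * s = 0) : s = 0 := by
  refine StrictTrH8.ring_eq_zero_of_cover s (fun x hx => ?_)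
  obtain ⟨r, hrN, hxr⟩ := hU.exists_basicOpen_le (V := N) ⟨x, hx⟩ (hN hx)
  refine ⟨X.basicOpen r, hrN, hxr, ?_⟩
  haveI := hU.isLocalization_basicOpen r
  have h1 : algebraMap Γ(X, U) Γ(X, X.basicOpen r) f ∈ nonZeroDivisors Γ(X, X.basicOpen r) :=
    IsLocalization.map_nonZeroDivisors_le (Submonoid.powers r) Γ(X, X.basicOpen r)
      (Submonoid.mem_map_of_mem _ hf)
  have h2 : algebraMap Γ(X, U) Γ(X, X.basicOpen r) f = rX hrN (rX hN f) := by
    rw [rX_rX]
    rfl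
  refine (mem_nonZeroDivisors_iff.mp h1).1 _ ?_
  rw [h2, ← map_mul, hs, map_zero]

/-- Local principal generators restrict to smaller affine opens. -/
theorem cartier_restrict {X : Scheme.{u}} (I : X.IdealSheafData) (U W : X.affineOpens)
    (hWU : W.1 ≤ U.1) (f : Γ(X, U.1)) (hf : f ∈ nonZeroDivisors Γ(X, U.1))
    (hI : I.ideal U = Ideal.span {f}) :
    rX hWU f ∈ nonZeroDivisors Γ(X, W.1) ∧ I.ideal W = Ideal.span {rX hWU f} := by
  constructor
  · rw [mem_nonZeroDivisors_iff]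
    constructor
    · intro s hs
      exact eq_zero_of_res_mul_eq_zero U.2 f hf hWU s hs
    · intro s hs
      rw [mul_comm] at hs
      exact eq_zero_of_res_mul_eq_zero U.2 f hf hWU s hs
  · rw [← I.map_ideal hWU, hI, Ideal.map_span, Set.image_singleton]
    rfl

/-- The product of two effective Cartier ideals is effective Cartier. -/
theorem isEffCartier_mul {X : Scheme.{u}} (I J : X.IdealSheafData)
    (hI : BlowUp.IsEffCartierIdeal I) (hJ : BlowUp.IsEffCartierIdeal J) :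
    BlowUp.IsEffCartierIdeal (I * J) := by
  intro x
  obtain ⟨U₁, hx₁, f, hf, hIf⟩ := hI x
  obtain ⟨U₂, hx₂, g, hg, hJg⟩ := hJ x
  obtain ⟨_, ⟨W, hW : IsAffineOpen W, rfl⟩, hxW, hWU⟩ :=
    (X.isBasis_affineOpens).exists_subset_of_mem_open
      (show x ∈ ((U₁.1 ⊓ U₂.1 : X.Opens) : Set X) from ⟨hx₁, hx₂⟩) (U₁.1 ⊓ U₂.1).2
  have h1 : W ≤ U₁.1 := fun y hy => (hWU hy).1
  have h2 : W ≤ U₂.1 := fun y hy => (hWU hy).2
  obtain ⟨hf', hIf'⟩ := cartier_restrict I U₁ ⟨W, hW⟩ h1 f hf hIf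
  obtain ⟨hg', hJg'⟩ := cartier_restrict J U₂ ⟨W, hW⟩ h2 g hg hJg
  refine ⟨⟨W, hW⟩, hxW, rX h1 f * rX h2 g, mul_mem hf' hg', ?_⟩
  show I.ideal _ * J.ideal _ = _
  rw [hIf', hJg', Ideal.span_singleton_mul_span_singleton]

/-- Algebraic core: if `I * J = (t)` with `t` regular, then near any prime some product `i * j`
generates `(t)`. -/
theorem exists_of_mul_eq_span {R : Type*} [CommRing R] (I J : Ideal R) (t : R)
    (ht : t ∈ nonZeroDivisors R) (hIJ : I * J = Ideal.span {t}) (𝔭 : Ideal R) [𝔭.IsPrime] :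
    ∃ c, c ∉ 𝔭 ∧ ∃ i ∈ I, ∃ j ∈ J, i * j = c * t := by
  have key : ∀ z ∈ I * J, ∀ e, z = e * t → e ∉ 𝔭 →
      ∃ c, c ∉ 𝔭 ∧ ∃ i ∈ I, ∃ j ∈ J, i * j = c * t := by
    intro z hz
    induction hz using Submodule.mul_induction_on' with
    | mem_mul_mem i hi j hj =>
      intro e he hep
      exact ⟨e, hep, i, hi, j, hj, he⟩
    | add z₁ hz₁ z₂ hz₂ ih₁ ih₂ =>
      intro e he hep
      have hz₁' : z₁ ∈ Ideal.span {t} := hIJ ▸ hz₁
      have hz₂' : z₂ ∈ Ideal.span {t} := hIJ ▸ hz₂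
      rw [Ideal.mem_span_singleton'] at hz₁' hz₂'
      obtain ⟨e₁, he₁⟩ := hz₁'
      obtain ⟨e₂, he₂⟩ := hz₂'
      have h3 : e = e₁ + e₂ := by
        have h4 : t * (e - (e₁ + e₂)) = 0 := by
          have : e * t = e₁ * t + e₂ * t := by rw [← he, he₁, he₂]
          linear_combination this
        exact sub_eq_zero.mp ((mem_nonZeroDivisors_iff.mp ht).1 _ h4)
      by_cases h1 : e₁ ∈ 𝔭
      · have h2 : e₂ ∉ 𝔭 := fun h2 => hep (h3 ▸ add_mem h1 h2)
        exact ih₂ e₂ he₂.symm h2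
      · exact ih₁ e₁ he₁.symm h1
  exact key t (hIJ ▸ Ideal.mem_span_singleton_self t) 1 (one_mul t).symm
    ((Ideal.ne_top_iff_one 𝔭).mp Ideal.IsPrime.ne_top')

/-- A factor of an effective Cartier ideal is effective Cartier. -/
theorem isEffCartier_of_mul {X : Scheme.{u}} (I J : X.IdealSheafData)
    (hIJ : BlowUp.IsEffCartierIdeal (I * J)) : BlowUp.IsEffCartierIdeal I := by
  intro x
  obtain ⟨U, hxU, t, ht, hIJt⟩ := hIJ x
  have hIJt' : I.ideal U * J.ideal U = Ideal.span {t} := hIJt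
  obtain ⟨c, hc, i, hi, j, hj, hij⟩ :=
    exists_of_mul_eq_span _ _ t ht hIJt' (U.2.primeIdealOf ⟨x, hxU⟩).asIdeal
  have hxW : x ∈ X.basicOpen c := by
    rw [Scheme.mem_basicOpen _ _ _ hxU]
    by_contra hnu
    apply hc
    rw [U.2.primeIdealOf_eq_map_closedPoint]
    exact (IsLocalRing.mem_maximalIdeal _).mpr hnu
  have hWU : X.basicOpen c ≤ U.1 := X.basicOpen_le c
  have hW : IsAffineOpen (X.basicOpen c) := U.2.basicOpen c
  have hcu : IsUnit (rX hWU c) := by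
    have := X.toRingedSpace.isUnit_res_basicOpen c
    exact this
  have htW : ∀ s : Γ(X, X.basicOpen c), rX hWU t * s = 0 → s = 0 :=
    fun s hs => eq_zero_of_res_mul_eq_zero U.2 t ht hWU s hs
  refine ⟨⟨X.basicOpen c, hW⟩, hxW, rX hWU i, ?_, ?_⟩
  · have h1 : ∀ s : Γ(X, X.basicOpen c), rX hWU i * s = 0 → s = 0 := by
      intro s hs
      apply htW
      have h2 : rX hWU c * (rX hWU t * s) = 0 := by
        rw [← mul_assoc, ← map_mul, ← hij, map_mul, mul_comm (rX hWU i), mul_assoc, hs, mul_zero]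
      exact hcu.mul_right_eq_zero.mp h2
    rw [mem_nonZeroDivisors_iff]
    refine ⟨h1, fun s hs => h1 s ?_⟩
    rw [mul_comm]
    exact hs
  · apply le_antisymm
    · rw [← I.map_ideal (U := ⟨X.basicOpen c, hW⟩) (V := U) hWU, Ideal.map_le_iff_le_comap]
      intro a ha
      have h1 : a * j ∈ Ideal.span {t} := hIJt' ▸ Ideal.mul_mem_mul ha hj
      rw [Ideal.mem_span_singleton'] at h1
      obtain ⟨e, he⟩ := h1
      have h2 : c * a = i * e := by
        have h4 : t * (c * a - i * e) = 0 := by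
          linear_combination (-a) * hij - i * he
        exact sub_eq_zero.mp ((mem_nonZeroDivisors_iff.mp ht).1 _ h4)
      show rX hWU a ∈ Ideal.span {rX hWU i}
      rw [Ideal.mem_span_singleton']
      obtain ⟨cinv, hcinv⟩ := hcu.exists_left_inv
      refine ⟨cinv * rX hWU e, ?_⟩
      have h5 : rX hWU c * rX hWU a = rX hWU i * rX hWU e := by
        rw [← map_mul, ← map_mul, h2]
      calc cinv * rX hWU e * rX hWU i = cinv * (rX hWU i * rX hWU e) := by ring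
        _ = cinv * (rX hWU c * rX hWU a) := by rw [h5]
        _ = (cinv * rX hWU c) * rX hWU a := by ring
        _ = rX hWU a := by rw [hcinv, one_mul]
    · rw [Ideal.span_singleton_le_iff_mem]
      rw [← I.map_ideal (U := ⟨X.basicOpen c, hW⟩) (V := U) hWU]
      exact Ideal.mem_map_of_mem _ hi

/-- For an open immersion, `appLE` onto the image is bijective. -/
theorem bijective_appLE_of_image_eq {Y X : Scheme.{u}} (f : Y ⟶ X) [IsOpenImmersion f]
    (V : Y.Opens) (U : X.Opens) (hUV : f ''ᵁ V = U) (e : V ≤ f ⁻¹ᵁ U) :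
    Function.Bijective (f.appLE U V e).hom := by
  subst hUV
  have : f.appLE (f ''ᵁ V) V e = (f.appIso V).hom := (f.appIso_hom' V).symm
  rw [this]
  exact ConcreteCategory.bijective_of_isIso (f.appIso V).hom

theorem isOpenImmersion_ι_comp {X' X : Scheme.{u}} (b : X' ⟶ X) (O : X.Opens) [IsIso (b ∣_ O)]
    (N' : X'.Opens) (hle : N' ≤ b ⁻¹ᵁ O) : IsOpenImmersion (N'.ι ≫ b) := by
  have : N'.ι ≫ b = X'.homOfLE hle ≫ (b ∣_ O) ≫ O.ι := by
    rw [morphismRestrict_ι, Scheme.homOfLE_ι_assoc]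
  rw [this]
  infer_instance

/-- If `b` is an isomorphism over the open `O`, every open `N'` of `b⁻¹ O` is the preimage of an
open `N` of `O` with `Γ(X, N) ≅ Γ(X', N')`. -/
theorem exists_bijective_appLE {X' X : Scheme.{u}} (b : X' ⟶ X) (O : X.Opens) [IsIso (b ∣_ O)]
    (N' : X'.Opens) (hle : N' ≤ b ⁻¹ᵁ O) :
    ∃ (N : X.Opens) (hN : N' ≤ b ⁻¹ᵁ N), (∀ z ∈ N, ∃ y ∈ N', b y = z) ∧
      Function.Bijective (b.appLE N N' hN).hom := by
  haveI := isOpenImmersion_ι_comp b O N' hle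
  have hN : N' ≤ b ⁻¹ᵁ ((N'.ι ≫ b) ''ᵁ ⊤) := by
    intro y hy
    exact ⟨(⟨y, hy⟩ : (N' : Scheme.{u})), trivial, rfl⟩
  refine ⟨(N'.ι ≫ b) ''ᵁ ⊤, hN, ?_, ?_⟩
  · rintro z ⟨y, -, rfl⟩
    exact ⟨y.1, y.2, rfl⟩
  · have e₂ : (⊤ : N'.toScheme.Opens) ≤ N'.ι ⁻¹ᵁ N' := fun y _ => y.2
    have h1 := Scheme.Hom.appLE_comp_appLE N'.ι b ((N'.ι ≫ b) ''ᵁ ⊤) N' ⊤ hN e₂
    have h2 := bijective_appLE_of_image_eq (N'.ι ≫ b) ⊤ ((N'.ι ≫ b) ''ᵁ ⊤) rfl
      (e₂.trans ((Opens.map N'.ι.base).map (homOfLE hN)).le)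
    have h3 := bijective_appLE_of_image_eq N'.ι ⊤ N' (Scheme.Opens.ι_image_top N') e₂
    rw [← h1] at h2
    have h4 : Function.Bijective ((N'.ι.appLE N' ⊤ e₂).hom ∘ (b.appLE _ N' hN).hom) := h2
    exact (Function.Bijective.of_comp_iff' h3 _).mp h4

/-- **Key lemma**: the inverse image of an effective Cartier divisor along a blowing up is an
effective Cartier divisor. -/
theorem isEffCartier_comap_of_isBlowUp {X' X : Scheme.{u}} (b : X' ⟶ X) (𝓘 : X.IdealSheafData)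
    (hb : BlowUp.IsBlowUp b 𝓘) (D : X.IdealSheafData) (hD : BlowUp.IsEffCartierIdeal D) :
    BlowUp.IsEffCartierIdeal (D.comap b) := by
  haveI : IsIso (b ∣_ 𝓘.support.compl) := BlowIsoH8.isIso_restrict 𝓘 b hb
  intro x'
  obtain ⟨U, hxU, d, hd0, hd⟩ := hD (b x')
  obtain ⟨V₀, hxV₀, f₀, hf₀, hEf₀⟩ := hb.1 x'
  obtain ⟨_, ⟨V', hV' : IsAffineOpen V', rfl⟩, hxV', hV'le⟩ :=
    (X'.isBasis_affineOpens).exists_subset_of_mem_open
      (show x' ∈ ((V₀.1 ⊓ b ⁻¹ᵁ U.1 : X'.Opens) : Set X') from ⟨hxV₀, hxU⟩) (V₀.1 ⊓ b ⁻¹ᵁ U.1).2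
  have h1 : V' ≤ V₀.1 := fun y hy => (hV'le hy).1
  have h2 : V' ≤ b ⁻¹ᵁ U.1 := fun y hy => (hV'le hy).2
  obtain ⟨hf, hEf⟩ := cartier_restrict (𝓘.comap b) V₀ ⟨V', hV'⟩ h1 f₀ hf₀ hEf₀
  obtain ⟨f, hfdef⟩ : ∃ f : Γ(X', V'), f = rX h1 f₀ := ⟨_, rfl⟩
  rw [← hfdef] at hf hEf
  refine ⟨⟨V', hV'⟩, hxV', (b.appLE U.1 V' h2).hom d, ?_, ?_⟩
  · have key : ∀ s : Γ(X', V'), (b.appLE U.1 V' h2).hom d * s = 0 → s = 0 := by
      intro s hs
      have hN'V : X'.basicOpen f ≤ V' := X'.basicOpen_le f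
      have hN'O : X'.basicOpen f ≤ b ⁻¹ᵁ 𝓘.support.compl := fun y hy =>
        StrictTrH8.map_mem_compl_support 𝓘 b ⟨V', hV'⟩ f hEf y hy
      obtain ⟨N, hN, hNsurj, hbij⟩ :=
        exists_bijective_appLE b 𝓘.support.compl (X'.basicOpen f) hN'O
      have hNU : N ≤ U.1 := by
        intro z hz
        obtain ⟨y, hy, rfl⟩ := hNsurj z hz
        exact h2 (hN'V hy)
      obtain ⟨t, ht⟩ := hbij.2 (rX hN'V s)
      have h3 : (b.appLE N (X'.basicOpen f) hN).hom (rX hNU d * t) = 0 := by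
        rw [map_mul, ht]
        have h4 : (b.appLE N (X'.basicOpen f) hN).hom (rX hNU d) =
            rX hN'V ((b.appLE U.1 V' h2).hom d) := by
          have e1 := Scheme.Hom.map_appLE b (U := N) (V := X'.basicOpen f) hN (homOfLE hNU).op
          have e2 := Scheme.Hom.appLE_map b (U := U.1) (V := V') h2 (homOfLE hN'V).op
          have e1' := congrArg (fun φ => φ.hom d) e1
          have e2' := congrArg (fun φ => φ.hom d) e2
          exact e1'.trans e2'.symm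
        rw [h4, ← map_mul, hs, map_zero]
      have h5 : rX hNU d * t = 0 := hbij.1 (h3.trans (map_zero _).symm)
      have h6 : t = 0 := eq_zero_of_res_mul_eq_zero U.2 d hd0 hNU t h5
      have h7 : rX hN'V s = 0 := by rw [← ht, h6, map_zero]
      haveI := hV'.isLocalization_basicOpen f
      have h8 : algebraMap Γ(X', V') Γ(X', X'.basicOpen f) s = 0 := h7
      rw [IsLocalization.map_eq_zero_iff (Submonoid.powers f)] at h8
      obtain ⟨⟨_, n, rfl⟩, hn⟩ := h8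
      exact (mem_nonZeroDivisors_iff.mp (pow_mem hf n)).1 _ hn
    rw [mem_nonZeroDivisors_iff]
    refine ⟨key, fun s hs => key s ?_⟩
    rw [mul_comm]
    exact hs
  · rw [ComapIdH8.comap_ideal b D ⟨V', hV'⟩ U h2, hd, Ideal.map_span, Set.image_singleton]

end CartH8
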