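import Mathlib
import Groth.Agent.Lib.Cart1_helper8
import Groth.Agent.Lib.BlowIso2_helper8
set_option autoImplicit false
open AlgebraicGeometry CategoryTheory CategoryTheory.Limits TopologicalSpace Opposite
open QcqsLoc
universe u
namespace CartH8

theorem isIso_imageι_of_dominant {X Y : Scheme.{u}} (f : X ⟶ Y)
    [IsSchemeTheoreticallyDominant f] : IsIso f.imageι :=
  (Scheme.isIso_subschemeι_iff_eq_bot _).mpr f.ker_eq_bot

theorem mem_support_comap_iff {Y X : Scheme.{u}} (g : Y ⟶ X) (K : X.IdealSheafData) (y : Y) :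
    y ∈ (K.comap g).support ↔ g y ∈ K.support := by
  rw [Scheme.IdealSheafData.support_comap]
  rfl

/-- If an effective Cartier ideal `D` is contained in the inverse image of a locally principal
ideal, the inverse image is effective Cartier. -/
theorem isEffCartier_comap_of_le {Y X : Scheme.{u}} (g : Y ⟶ X) (K : X.IdealSheafData)
    (hK : BlowUp.IsEffCartierIdeal K) (D : Y.IdealSheafData) (hD : BlowUp.IsEffCartierIdeal D)
    (hle : D ≤ K.comap g) : BlowUp.IsEffCartierIdeal (K.comap g) := by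
  intro y
  obtain ⟨U, hyU, k, -, hk⟩ := hK (g y)
  obtain ⟨V, hyV, d, hd0, hd⟩ := hD y
  obtain ⟨_, ⟨W, hW : IsAffineOpen W, rfl⟩, hyW, hWle⟩ :=
    (Y.isBasis_affineOpens).exists_subset_of_mem_open
      (show y ∈ ((V.1 ⊓ g ⁻¹ᵁ U.1 : Y.Opens) : Set Y) from ⟨hyV, hyU⟩) (V.1 ⊓ g ⁻¹ᵁ U.1).2
  have h1 : W ≤ V.1 := fun z hz => (hWle hz).1
  have h2 : W ≤ g ⁻¹ᵁ U.1 := fun z hz => (hWle hz).2
  obtain ⟨hd0', hd'⟩ := cartier_restrict D V ⟨W, hW⟩ h1 d hd0 hd
  have hKW : (K.comap g).ideal ⟨W, hW⟩ = Ideal.span {(g.appLE U.1 W h2).hom k} := by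
    rw [ComapIdH8.comap_ideal g K ⟨W, hW⟩ U h2, hk, Ideal.map_span, Set.image_singleton]
  refine ⟨⟨W, hW⟩, hyW, _, ?_, hKW⟩
  have h3 : rX h1 d ∈ (K.comap g).ideal ⟨W, hW⟩ :=
    hle ⟨W, hW⟩ (hd' ▸ Ideal.mem_span_singleton_self _)
  rw [hKW, Ideal.mem_span_singleton'] at h3
  obtain ⟨c, hc⟩ := h3
  rw [← hc] at hd0'
  exact (mul_mem_nonZeroDivisors.mp hd0').2

end CartH8
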