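import Mathlib
import Groth.Agent.Lib.Cart2_helper8
set_option autoImplicit false
open AlgebraicGeometry CategoryTheory CategoryTheory.Limits TopologicalSpace Opposite
open QcqsLoc
universe u
namespace CartH8

/-- The open locus where two ideal sheaves agree. -/
def agreeLocus {Y : Scheme.{u}} (J L : Y.IdealSheafData) : Y.Opens :=
  ⨆ W : {W : Y.affineOpens // J.ideal W = L.ideal W}, (W.1 : Y.Opens)

theorem mem_agreeLocus_iff {Y : Scheme.{u}} (J L : Y.IdealSheafData) (y : Y) :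
    y ∈ agreeLocus J L ↔ ∃ W : Y.affineOpens, y ∈ W.1 ∧ J.ideal W = L.ideal W := by
  unfold agreeLocus
  rw [TopologicalSpace.Opens.mem_iSup]
  constructor
  · rintro ⟨⟨W, hW⟩, hy⟩
    exact ⟨W, hy, hW⟩
  · rintro ⟨W, hy, hW⟩
    exact ⟨⟨W, hW⟩, hy⟩

theorem ideal_eq_of_le {Y : Scheme.{u}} (J L : Y.IdealSheafData) {W W' : Y.affineOpens}
    (h : W' ≤ W) (heq : J.ideal W = L.ideal W) : J.ideal W' = L.ideal W' := by
  rw [← J.map_ideal h, ← L.map_ideal h, heq]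

theorem ideal_restrict_span {Y : Scheme.{u}} (K : Y.IdealSheafData) (W W' : Y.affineOpens)
    (h : W'.1 ≤ W.1) (k : Γ(Y, W.1)) (hK : K.ideal W = Ideal.span {k}) :
    K.ideal W' = Ideal.span {rX h k} := by
  rw [← K.map_ideal h, hK, Ideal.map_span, Set.image_singleton]
  rfl

section good
variable {Y : Scheme.{u}} (J L : Y.IdealSheafData) (W : Y.affineOpens) (j l a : Γ(Y, W.1))
  (hj : j ∈ nonZeroDivisors Γ(Y, W.1)) (hJ : J.ideal W = Ideal.span {j})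
  (hL : L.ideal W = Ideal.span {l}) (hjl : a * l = j)

include hJ hL hjl in
theorem basicOpen_le_agreeLocus : Y.basicOpen a ≤ agreeLocus J L := by
  intro y hy
  rw [mem_agreeLocus_iff]
  have hWV : Y.basicOpen a ≤ W.1 := Y.basicOpen_le a
  have hW : IsAffineOpen (Y.basicOpen a) := W.2.basicOpen a
  refine ⟨⟨Y.basicOpen a, hW⟩, hy, ?_⟩
  rw [ideal_restrict_span J W ⟨Y.basicOpen a, hW⟩ hWV j hJ,
    ideal_restrict_span L W ⟨Y.basicOpen a, hW⟩ hWV l hL, ← hjl, map_mul]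
  have hcu : IsUnit (rX hWV a) := Y.toRingedSpace.isUnit_res_basicOpen a
  exact Ideal.span_singleton_mul_left_unit hcu _

include hj hJ hL hjl in
theorem agreeLocus_inf_le_basicOpen : agreeLocus J L ⊓ W.1 ≤ Y.basicOpen a := by
  rintro y ⟨hy, hyW⟩
  rw [SetLike.mem_coe, mem_agreeLocus_iff] at hy
  obtain ⟨W', hyW', hW'⟩ := hy
  obtain ⟨_, ⟨W'', hW'' : IsAffineOpen W'', rfl⟩, hyW'', hle⟩ :=
    (Y.isBasis_affineOpens).exists_subset_of_mem_open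
      (show y ∈ ((W.1 ⊓ W'.1 : Y.Opens) : Set Y) from ⟨hyW, hyW'⟩) (W.1 ⊓ W'.1).2
  have h1 : W'' ≤ W.1 := fun z hz => (hle hz).1
  have h2 : W'' ≤ W'.1 := fun z hz => (hle hz).2
  have heq : J.ideal ⟨W'', hW''⟩ = L.ideal ⟨W'', hW''⟩ :=
    ideal_eq_of_le J L (W := W') (W' := ⟨W'', hW''⟩) h2 hW'
  obtain ⟨hj', hJ'⟩ := cartier_restrict J W ⟨W'', hW''⟩ h1 j hj hJ
  have hL' := ideal_restrict_span L W ⟨W'', hW''⟩ h1 l hL
  have h3 : rX h1 l ∈ Ideal.span {rX h1 j} := by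
    rw [← hJ', heq, hL']
    exact Ideal.mem_span_singleton_self _
  rw [Ideal.mem_span_singleton'] at h3
  obtain ⟨c, hc⟩ := h3
  rw [← hjl, map_mul] at hc hj'
  have hl' : rX h1 l ∈ nonZeroDivisors Γ(Y, W'') := (mul_mem_nonZeroDivisors.mp hj').2
  have h4 : c * rX h1 a = 1 := by
    have h5 : rX h1 l * (c * rX h1 a - 1) = 0 := by
      linear_combination hc
    exact sub_eq_zero.mp ((mem_nonZeroDivisors_iff.mp hl').1 _ h5)
  have hu : IsUnit (rX h1 a) := IsUnit.of_mul_eq_one_right _ h4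
  have h6 : Y.basicOpen (rX h1 a) = W'' := Y.basicOpen_of_isUnit hu
  have h7 : Y.basicOpen (rX h1 a) = W'' ⊓ Y.basicOpen a := Y.basicOpen_res a (homOfLE h1).op
  have h8 : y ∈ W'' ⊓ Y.basicOpen a := by
    rw [← h7, h6]
    exact hyW''
  exact h8.2

end good

theorem exists_good_affine {Y : Scheme.{u}} (J L : Y.IdealSheafData)
    (hJc : BlowUp.IsEffCartierIdeal J) (hLc : BlowUp.IsEffCartierIdeal L) (hJL : J ≤ L) (y : Y) :
    ∃ (W : Y.affineOpens) (j l a : Γ(Y, W.1)), y ∈ W.1 ∧ j ∈ nonZeroDivisors Γ(Y, W.1) ∧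
      J.ideal W = Ideal.span {j} ∧ L.ideal W = Ideal.span {l} ∧ a * l = j := by
  obtain ⟨V₁, hy₁, j₀, hj₀, hJj₀⟩ := hJc y
  obtain ⟨V₂, hy₂, l₀, hl₀, hLl₀⟩ := hLc y
  obtain ⟨_, ⟨V, hV : IsAffineOpen V, rfl⟩, hyV, hVle⟩ :=
    (Y.isBasis_affineOpens).exists_subset_of_mem_open
      (show y ∈ ((V₁.1 ⊓ V₂.1 : Y.Opens) : Set Y) from ⟨hy₁, hy₂⟩) (V₁.1 ⊓ V₂.1).2
  have hle1 : V ≤ V₁.1 := fun z hz => (hVle hz).1
  have hle2 : V ≤ V₂.1 := fun z hz => (hVle hz).2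
  obtain ⟨hj, hJj⟩ := cartier_restrict J V₁ ⟨V, hV⟩ hle1 j₀ hj₀ hJj₀
  have hLl := ideal_restrict_span L V₂ ⟨V, hV⟩ hle2 l₀ hLl₀
  have hja : rX hle1 j₀ ∈ L.ideal ⟨V, hV⟩ :=
    hJL ⟨V, hV⟩ (hJj ▸ Ideal.mem_span_singleton_self _)
  rw [hLl, Ideal.mem_span_singleton'] at hja
  obtain ⟨a, ha⟩ := hja
  exact ⟨⟨V, hV⟩, rX hle1 j₀, rX hle2 l₀, a, hyV, hj, hJj, hLl, ha⟩

theorem isAffineHom_agreeLocus_ι {Y : Scheme.{u}} (J L : Y.IdealSheafData)
    (hJc : BlowUp.IsEffCartierIdeal J) (hLc : BlowUp.IsEffCartierIdeal L) (hJL : J ≤ L) :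
    IsAffineHom (agreeLocus J L).ι := by
  apply isAffineHom_of_forall_exists_isAffineOpen
  intro y
  obtain ⟨W, j, l, a, hyW, hj, hJ, hL, hjl⟩ := exists_good_affine J L hJc hLc hJL y
  refine ⟨W.1, hyW, W.2, ?_⟩
  have h1 : (agreeLocus J L).ι ⁻¹ᵁ W.1 = (agreeLocus J L).ι ⁻¹ᵁ (Y.basicOpen a) := by
    ext z
    constructor
    · intro hz
      exact agreeLocus_inf_le_basicOpen J L W j l a hj hJ hL hjl ⟨z.2, hz⟩
    · intro hz
      exact Y.basicOpen_le a hz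
  rw [h1]
  refine (W.2.basicOpen a).preimage_of_isOpenImmersion _ ?_
  rw [Scheme.Opens.opensRange_ι]
  exact basicOpen_le_agreeLocus J L W j l a hJ hL hjl

theorem comap_agreeLocus_ι {Y : Scheme.{u}} (J L : Y.IdealSheafData) :
    J.comap (agreeLocus J L).ι = L.comap (agreeLocus J L).ι := by
  let ι := {W' : (agreeLocus J L).toScheme.affineOpens //
    J.ideal ⟨(agreeLocus J L).ι ''ᵁ W'.1, W'.2.image_of_isOpenImmersion _⟩ =
      L.ideal ⟨(agreeLocus J L).ι ''ᵁ W'.1, W'.2.image_of_isOpenImmersion _⟩}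
  refine Scheme.IdealSheafData.ext_of_iSup_eq_top (ι := ι) (fun w => w.1) ?_ ?_
  · rw [eq_top_iff]
    intro z _
    have hz : z.1 ∈ agreeLocus J L := z.2
    rw [mem_agreeLocus_iff] at hz
    obtain ⟨W, hzW, hW⟩ := hz
    -- an affine open of the open subscheme around z mapping into W
    obtain ⟨_, ⟨W', hW' : IsAffineOpen W', rfl⟩, hzW', hle⟩ :=
      ((agreeLocus J L).toScheme.isBasis_affineOpens).exists_subset_of_mem_open
        (show z ∈ (((agreeLocus J L).ι ⁻¹ᵁ W.1 : (agreeLocus J L).toScheme.Opens) : Set _) from hzW)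
        ((agreeLocus J L).ι ⁻¹ᵁ W.1).2
    have hle' : (agreeLocus J L).ι ''ᵁ W' ≤ W.1 := by
      rintro _ ⟨w, hw, rfl⟩
      exact hle hw
    refine TopologicalSpace.Opens.mem_iSup.mpr ⟨⟨⟨W', hW'⟩, ?_⟩, hzW'⟩
    exact ideal_eq_of_le J L (W := W)
      (W' := ⟨(agreeLocus J L).ι ''ᵁ W', hW'.image_of_isOpenImmersion _⟩) hle' hW
  · rintro ⟨W', hW'⟩
    show (J.comap (agreeLocus J L).ι).ideal W' = (L.comap (agreeLocus J L).ι).ideal W'
    rw [Scheme.IdealSheafData.ideal_comap_of_isOpenImmersion,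
      Scheme.IdealSheafData.ideal_comap_of_isOpenImmersion, hW']

theorem map_mem_agreeLocus {X Y : Scheme.{u}} (J L : Y.IdealSheafData)
    (hJc : BlowUp.IsEffCartierIdeal J) (hLc : BlowUp.IsEffCartierIdeal L) (hJL : J ≤ L)
    (f : X ⟶ Y) (hf : J.comap f = L.comap f) (hfc : BlowUp.IsEffCartierIdeal (J.comap f))
    (x : X) : f x ∈ agreeLocus J L := by
  obtain ⟨W, j, l, a, hyW, hj, hJ, hL, hjl⟩ := exists_good_affine J L hJc hLc hJL (f x)
  apply basicOpen_le_agreeLocus J L W j l a hJ hL hjl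
  obtain ⟨T₀, hxT₀, t, ht, hIt⟩ := hfc x
  obtain ⟨_, ⟨T, hT : IsAffineOpen T, rfl⟩, hxT, hTle⟩ :=
    (X.isBasis_affineOpens).exists_subset_of_mem_open
      (show x ∈ ((T₀.1 ⊓ f ⁻¹ᵁ W.1 : X.Opens) : Set X) from ⟨hxT₀, hyW⟩) (T₀.1 ⊓ f ⁻¹ᵁ W.1).2
  have h1 : T ≤ T₀.1 := fun z hz => (hTle hz).1
  have h2 : T ≤ f ⁻¹ᵁ W.1 := fun z hz => (hTle hz).2
  obtain ⟨ht', hIt'⟩ := cartier_restrict (J.comap f) T₀ ⟨T, hT⟩ h1 t ht hIt
  have hJf : (J.comap f).ideal ⟨T, hT⟩ = Ideal.span {(f.appLE W.1 T h2).hom j} := by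
    rw [ComapIdH8.comap_ideal f J ⟨T, hT⟩ W h2, hJ, Ideal.map_span, Set.image_singleton]
  have hLf : (L.comap f).ideal ⟨T, hT⟩ = Ideal.span {(f.appLE W.1 T h2).hom l} := by
    rw [ComapIdH8.comap_ideal f L ⟨T, hT⟩ W h2, hL, Ideal.map_span, Set.image_singleton]
  have h3 : rX h1 t ∈ Ideal.span {(f.appLE W.1 T h2).hom j} := by
    rw [← hJf, hIt']
    exact Ideal.mem_span_singleton_self _
  rw [Ideal.mem_span_singleton'] at h3
  obtain ⟨c, hc⟩ := h3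
  rw [← hc] at ht'
  have hjn : (f.appLE W.1 T h2).hom j ∈ nonZeroDivisors Γ(X, T) :=
    (mul_mem_nonZeroDivisors.mp ht').2
  have h4 : (f.appLE W.1 T h2).hom l ∈ Ideal.span {(f.appLE W.1 T h2).hom j} := by
    rw [← hJf, hf, hLf]
    exact Ideal.mem_span_singleton_self _
  rw [Ideal.mem_span_singleton'] at h4
  obtain ⟨e, he⟩ := h4
  rw [← hjl, map_mul] at hjn he
  have hln : (f.appLE W.1 T h2).hom l ∈ nonZeroDivisors Γ(X, T) :=
    (mul_mem_nonZeroDivisors.mp hjn).2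
  have h5 : e * (f.appLE W.1 T h2).hom a = 1 := by
    have h6 : (f.appLE W.1 T h2).hom l * (e * (f.appLE W.1 T h2).hom a - 1) = 0 := by
      linear_combination he
    exact sub_eq_zero.mp ((mem_nonZeroDivisors_iff.mp hln).1 _ h6)
  have hu : IsUnit ((f.appLE W.1 T h2).hom a) := IsUnit.of_mul_eq_one_right _ h5
  have h6 : X.basicOpen ((f.appLE W.1 T h2).hom a) = T := X.basicOpen_of_isUnit hu
  have h7 : X.basicOpen ((f.appLE W.1 T h2).hom a) = T ⊓ f ⁻¹ᵁ (Y.basicOpen a) :=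
    Scheme.basicOpen_appLE f T W.1 h2 a
  have h8 : x ∈ T ⊓ f ⁻¹ᵁ (Y.basicOpen a) := by
    rw [← h7, h6]
    exact hxT
  exact h8.2

end CartH8
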