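import Mathlib
import Groth.Agent.Lib.Cart3_helper8
set_option autoImplicit false
open AlgebraicGeometry CategoryTheory CategoryTheory.Limits TopologicalSpace Opposite
open QcqsLoc
universe u
namespace CartH8

theorem isUnit_of_le_basicOpen {Z : Scheme.{u}} {N : Z.Opens} (t : Γ(Z, N))
    (h : N ≤ Z.basicOpen t) : IsUnit t := by
  apply Z.toRingedSpace.isUnit_of_isUnit_germ
  intro x hx
  exact (Scheme.mem_basicOpen _ _ _ hx).mp (h hx)

theorem mem_basicOpen_of_notMem_support {P : Scheme.{u}} (D : P.IdealSheafData) (U : P.affineOpens)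
    (d : Γ(P, U.1)) (hd : D.ideal U = Ideal.span {d}) (z : P) (hzU : z ∈ U.1)
    (hz : z ∉ D.support) : z ∈ P.basicOpen d := by
  rw [Scheme.IdealSheafData.mem_support_iff_of_mem (U := U) hzU, hd, Scheme.zeroLocus_span,
    Scheme.mem_zeroLocus_iff] at hz
  by_contra hcon
  apply hz
  intro f hf
  rw [Set.mem_singleton_iff.mp hf]
  exact hcon

/-- The inverse image of a locally principal ideal on the scheme-theoretic closure of an open
subscheme disjoint from its support is an effective Cartier divisor. -/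
theorem isEffCartier_comap_imageι {P : Scheme.{u}} (O : P.Opens) [QuasiCompact O.ι]
    (D : P.IdealSheafData)
    (hprinc : ∀ z : P, ∃ U : P.affineOpens, z ∈ U.1 ∧ ∃ d : Γ(P, U.1), D.ideal U = Ideal.span {d})
    (hO : ∀ z ∈ O, z ∉ D.support) :
    BlowUp.IsEffCartierIdeal (D.comap O.ι.imageι) := by
  intro y
  obtain ⟨U, hzU, d, hd⟩ := hprinc (O.ι.imageι y)
  have hV : IsAffineOpen (O.ι.imageι ⁻¹ᵁ U.1) := U.2.preimage O.ι.imageι
  refine ⟨⟨O.ι.imageι ⁻¹ᵁ U.1, hV⟩, hzU, (O.ι.imageι.appLE U.1 (O.ι.imageι ⁻¹ᵁ U.1) le_rfl).hom d,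
    ?_, ?_⟩
  · rw [← Scheme.Hom.app_eq_appLE]
    have hinj := Scheme.Hom.toImage_app_injective O.ι U
    have h3 : IsUnit ((O.ι.app U.1).hom d) := by
      apply isUnit_of_le_basicOpen
      rw [← Scheme.preimage_basicOpen]
      intro w hw
      exact mem_basicOpen_of_notMem_support D U d hd _ hw (hO _ w.2)
    have hunit : IsUnit ((O.ι.toImage.app (O.ι.imageι ⁻¹ᵁ U.1)).hom
        ((O.ι.imageι.app U.1).hom d)) := by
      have h2 := Scheme.Hom.congr_app O.ι.toImage_imageι U.1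
      have h4 : (O.ι.toImage.app (O.ι.imageι ⁻¹ᵁ U.1)).hom ((O.ι.imageι.app U.1).hom d) =
          ((O.ι.toImage ≫ O.ι.imageι).app U.1).hom d := rfl
      rw [h4, h2, CommRingCat.hom_comp, RingHom.comp_apply]
      exact h3.map _
    have key : ∀ s : Γ(O.ι.image, O.ι.imageι ⁻¹ᵁ U.1),
        (O.ι.imageι.app U.1).hom d * s = 0 → s = 0 := by
      intro s hs
      apply hinj
      have h5 := congrArg (O.ι.toImage.app (O.ι.imageι ⁻¹ᵁ U.1)).hom hs
      rw [map_mul, map_zero] at h5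
      rw [map_zero]
      exact hunit.mul_right_eq_zero.mp h5
    rw [mem_nonZeroDivisors_iff]
    refine ⟨key, fun s hs => key s ?_⟩
    rw [mul_comm]
    exact hs
  · rw [ComapIdH8.comap_ideal O.ι.imageι D ⟨_, hV⟩ U le_rfl, hd, Ideal.map_span,
      Set.image_singleton]

theorem isAffineHom_ι_of_locally_basicOpen {P : Scheme.{u}} (O : P.Opens)
    (h : ∀ z : P, ∃ U : P.affineOpens, z ∈ U.1 ∧ ∃ d : Γ(P, U.1), O ⊓ U.1 = P.basicOpen d) :
    IsAffineHom O.ι := by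
  apply isAffineHom_of_forall_exists_isAffineOpen
  intro z
  obtain ⟨U, hzU, d, hd⟩ := h z
  refine ⟨U.1, hzU, U.2, ?_⟩
  have h1 : O.ι ⁻¹ᵁ U.1 = O.ι ⁻¹ᵁ (P.basicOpen d) := by
    ext w
    constructor
    · intro hw
      have h2 : w.1 ∈ O ⊓ U.1 := ⟨w.2, hw⟩
      rw [hd] at h2
      exact h2
    · intro hw
      exact P.basicOpen_le d hw
  rw [h1]
  refine (U.2.basicOpen d).preimage_of_isOpenImmersion _ ?_
  rw [Scheme.Opens.opensRange_ι, ← hd]
  exact inf_le_left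

theorem mem_basicOpen_iff_notMem_support {P : Scheme.{u}} (D : P.IdealSheafData)
    (U : P.affineOpens) (d : Γ(P, U.1)) (hd : D.ideal U = Ideal.span {d}) (z : P) (hzU : z ∈ U.1) :
    z ∈ P.basicOpen d ↔ z ∉ D.support := by
  refine ⟨fun hz => ?_, mem_basicOpen_of_notMem_support D U d hd z hzU⟩
  rw [Scheme.IdealSheafData.mem_support_iff_of_mem (U := U) hzU, hd, Scheme.zeroLocus_span,
    Scheme.mem_zeroLocus_iff]
  intro hcon
  exact hcon d (Set.mem_singleton d) hz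

theorem isAffineHom_prodInterior_ι {S T X : Scheme.{u}} (p : X ⟶ S) (f : T ⟶ S)
    (IX : X.IdealSheafData) (IT : T.IdealSheafData) (hX : BlowUp.IsEffCartierIdeal IX)
    (hT : BlowUp.IsEffCartierIdeal IT) : IsAffineHom (ModPair.prodInterior p f IX IT).ι := by
  apply isAffineHom_ι_of_locally_basicOpen
  intro z
  obtain ⟨UX, hxU, i, -, hi⟩ := hX (pullback.fst p f z)
  obtain ⟨UT, htU, τ, -, hτ⟩ := hT (pullback.snd p f z)
  obtain ⟨_, ⟨U, hU : IsAffineOpen U, rfl⟩, hzU, hUle⟩ :=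
    ((pullback p f).isBasis_affineOpens).exists_subset_of_mem_open
      (show z ∈ (((pullback.fst p f) ⁻¹ᵁ UX.1 ⊓ (pullback.snd p f) ⁻¹ᵁ UT.1 :
        (pullback p f).Opens) : Set _) from ⟨hxU, htU⟩)
      ((pullback.fst p f) ⁻¹ᵁ UX.1 ⊓ (pullback.snd p f) ⁻¹ᵁ UT.1).2
  have h1 : U ≤ (pullback.fst p f) ⁻¹ᵁ UX.1 := fun w hw => (hUle hw).1
  have h2 : U ≤ (pullback.snd p f) ⁻¹ᵁ UT.1 := fun w hw => (hUle hw).2
  refine ⟨⟨U, hU⟩, hzU, ((pullback.fst p f).appLE UX.1 U h1).hom i *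
    ((pullback.snd p f).appLE UT.1 U h2).hom τ, ?_⟩
  rw [Scheme.basicOpen_mul, Scheme.basicOpen_appLE, Scheme.basicOpen_appLE]
  ext w
  constructor
  · rintro ⟨⟨hw1, hw2⟩, hwU⟩
    refine ⟨⟨hwU, ?_⟩, ⟨hwU, ?_⟩⟩
    · exact (mem_basicOpen_iff_notMem_support IX UX i hi _ (h1 hwU)).mpr hw1
    · exact (mem_basicOpen_iff_notMem_support IT UT τ hτ _ (h2 hwU)).mpr hw2
  · rintro ⟨⟨hwU, hw1⟩, ⟨-, hw2⟩⟩
    refine ⟨⟨?_, ?_⟩, hwU⟩
    · exact (mem_basicOpen_iff_notMem_support IX UX i hi _ (h1 hwU)).mp hw1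
    · exact (mem_basicOpen_iff_notMem_support IT UT τ hτ _ (h2 hwU)).mp hw2

theorem ker_le_ker_of_dominant_preimage {W P : Scheme.{u}} (g : W ⟶ P) (O : P.Opens)
    [IsSchemeTheoreticallyDominant (g ⁻¹ᵁ O).ι] : O.ι.ker ≤ g.ker := by
  have h1 : O.ι.ker ≤ ((g ∣_ O) ≫ O.ι).ker := Scheme.Hom.le_ker_comp _ _
  rw [morphismRestrict_ι, Scheme.Hom.ker_comp, (g ⁻¹ᵁ O).ι.ker_eq_bot,
    Scheme.IdealSheafData.map_bot] at h1
  exact h1

/-- A morphism under which the open `O` pulls back to a schematically dense open factors through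
the scheme-theoretic closure of `O`. -/
theorem exists_lift_imageι {W P : Scheme.{u}} (g : W ⟶ P) (O : P.Opens)
    [IsSchemeTheoreticallyDominant (g ⁻¹ᵁ O).ι] : ∃ c : W ⟶ O.ι.image, c ≫ O.ι.imageι = g := by
  have h1 : O.ι.imageι.ker ≤ g.ker := by
    rw [Scheme.IdealSheafData.ker_subschemeι]
    exact ker_le_ker_of_dominant_preimage g O
  exact ⟨IsClosedImmersion.lift O.ι.imageι g h1, IsClosedImmersion.lift_fac _ _ _⟩

end CartH8
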