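import Mathlib
import Groth.Agent.Lib.Cart4_helper8
import Groth.Agent.Lib.BlowIso2_helper8
set_option autoImplicit false
open AlgebraicGeometry CategoryTheory CategoryTheory.Limits TopologicalSpace Opposite
open QcqsLoc
universe u
namespace StrictClH8

/-- Blow-ups are unique up to isomorphism over the base. -/
theorem blowUp_unique {X X₁ X₂ : Scheme.{u}} (𝓘 : X.IdealSheafData) (b₁ : X₁ ⟶ X)
    (hb₁ : BlowUp.IsBlowUp b₁ 𝓘) (b₂ : X₂ ⟶ X) (hb₂ : BlowUp.IsBlowUp b₂ 𝓘) :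
    ∃ e : X₁ ≅ X₂, e.hom ≫ b₂ = b₁ := by
  obtain ⟨φ, hφ, -⟩ := hb₂.2 X₁ b₁ hb₁.1
  obtain ⟨ψ, hψ, -⟩ := hb₁.2 X₂ b₂ hb₂.1
  have h1 : φ ≫ ψ = 𝟙 _ := by
    obtain ⟨w, -, hw⟩ := hb₁.2 X₁ b₁ hb₁.1
    rw [hw (φ ≫ ψ) (by show (φ ≫ ψ) ≫ b₁ = b₁; rw [Category.assoc, hψ, hφ]),
      hw (𝟙 _) (Category.id_comp _)]
  have h2 : ψ ≫ φ = 𝟙 _ := by
    obtain ⟨w, -, hw⟩ := hb₂.2 X₂ b₂ hb₂.1
    rw [hw (ψ ≫ φ) (by show (ψ ≫ φ) ≫ b₂ = b₂; rw [Category.assoc, hφ, hψ]),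
      hw (𝟙 _) (Category.id_comp _)]
  exact ⟨⟨φ, ψ, h1, h2⟩, hφ⟩

/-- The complement of the support of a locally principal ideal is an affine open immersion. -/
theorem isAffineHom_ι_of_princ {P : Scheme.{u}} (D : P.IdealSheafData) (O : P.Opens)
    (hprinc : ∀ z : P, ∃ U : P.affineOpens, z ∈ U.1 ∧ ∃ d : Γ(P, U.1), D.ideal U = Ideal.span {d})
    (hO : ∀ z : P, z ∈ O ↔ z ∉ D.support) : IsAffineHom O.ι := by
  apply CartH8.isAffineHom_ι_of_locally_basicOpen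
  intro z
  obtain ⟨U, hzU, d, hd⟩ := hprinc z
  refine ⟨U, hzU, d, ?_⟩
  ext w
  constructor
  · rintro ⟨hwO, hwU⟩
    exact (CartH8.mem_basicOpen_iff_notMem_support D U d hd w hwU).mpr ((hO w).mp hwO)
  · intro hw
    have hwU : w ∈ U.1 := P.basicOpen_le d hw
    exact ⟨(hO w).mpr ((CartH8.mem_basicOpen_iff_notMem_support D U d hd w hwU).mp hw), hwU⟩

/-- The strict transform of a closed subscheme under a blow-up: it is a closed subscheme of the
blow-up, and a blow-up of the closed subscheme in the inverse image ideal. -/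
theorem exists_strict {X Y X' : Scheme.{u}} (𝓘 : X.IdealSheafData) (f : Y ⟶ X)
    [IsClosedImmersion f] (b : X' ⟶ X) (hb : BlowUp.IsBlowUp b 𝓘) :
    ∃ (Y'' : Scheme.{u}) (c : Y'' ⟶ Y) (j : Y'' ⟶ X'), IsClosedImmersion j ∧ j ≫ b = c ≫ f ∧
      BlowUp.IsBlowUp c (𝓘.comap f) := by
  obtain ⟨q, hq⟩ : ∃ q : pullback f b ⟶ X, q = pullback.snd f b ≫ b := ⟨_, rfl⟩
  have hq' : q = pullback.fst f b ≫ f := by rw [hq, pullback.condition]
  obtain ⟨D, hD⟩ : ∃ D : (pullback f b).IdealSheafData, D = 𝓘.comap q := ⟨_, rfl⟩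
  obtain ⟨O, hOdef⟩ : ∃ O : (pullback f b).Opens, O = q ⁻¹ᵁ 𝓘.support.compl := ⟨_, rfl⟩
  have hsupp : ∀ z : ↑(pullback f b), z ∈ D.support ↔ q z ∈ 𝓘.support := by
    intro z
    rw [hD, CartH8.mem_support_comap_iff]
  have hOmem : ∀ z : ↑(pullback f b), z ∈ O ↔ z ∉ D.support := by
    intro z
    rw [hsupp, hOdef]
    rfl
  have hprinc : ∀ z : ↑(pullback f b), ∃ U : (pullback f b).affineOpens, z ∈ U.1 ∧
      ∃ d : Γ(pullback f b, U.1), D.ideal U = Ideal.span {d} := by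
    intro z
    obtain ⟨V, hzV, i, -, hi⟩ := hb.1 (pullback.snd f b z)
    obtain ⟨_, ⟨U, hU : IsAffineOpen U, rfl⟩, hzU, hUle⟩ :=
      ((pullback f b).isBasis_affineOpens).exists_subset_of_mem_open
        (show z ∈ (((pullback.snd f b) ⁻¹ᵁ V.1 : (pullback f b).Opens) : Set _) from hzV)
        ((pullback.snd f b) ⁻¹ᵁ V.1).2
    refine ⟨⟨U, hU⟩, hzU, ((pullback.snd f b).appLE V.1 U hUle).hom i, ?_⟩
    rw [hD, hq, Scheme.IdealSheafData.comap_comp,
      ComapIdH8.comap_ideal _ (𝓘.comap b) ⟨U, hU⟩ V hUle, hi, Ideal.map_span, Set.image_singleton]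
  have : IsAffineHom O.ι := isAffineHom_ι_of_princ D O hprinc hOmem
  have hcart : BlowUp.IsEffCartierIdeal (D.comap O.ι.imageι) :=
    CartH8.isEffCartier_comap_imageι O D hprinc (fun z hz => (hOmem z).mp hz)
  refine ⟨O.ι.image, O.ι.imageι ≫ pullback.fst f b, O.ι.imageι ≫ pullback.snd f b,
    inferInstance, ?_, ?_, ?_⟩
  · rw [Category.assoc, Category.assoc, pullback.condition]
  · rw [← Scheme.IdealSheafData.comap_comp, Category.assoc, ← hq',
      Scheme.IdealSheafData.comap_comp, ← hD]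
    exact hcart
  · intro T g hg
    have hg' : BlowUp.IsEffCartierIdeal (𝓘.comap (g ≫ f)) := by
      rw [Scheme.IdealSheafData.comap_comp]
      exact hg
    obtain ⟨h, hh, hhuniq⟩ := hb.2 T (g ≫ f) hg'
    obtain ⟨ℓ, hℓ⟩ : ∃ ℓ : T ⟶ pullback f b, ℓ = pullback.lift g h hh.symm := ⟨_, rfl⟩
    have hℓ1 : ℓ ≫ pullback.fst f b = g := by rw [hℓ]; exact pullback.lift_fst _ _ _
    have hℓ2 : ℓ ≫ pullback.snd f b = h := by rw [hℓ]; exact pullback.lift_snd _ _ _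
    have hℓq : ℓ ≫ q = g ≫ f := by rw [hq', ← Category.assoc, hℓ1]
    have : IsSchemeTheoreticallyDominant (ℓ ⁻¹ᵁ O).ι := by
      refine BlowIsoH8.dominant_of_effCartier _ hg' _ ?_
      intro w hw
      rw [CartH8.mem_support_comap_iff] at hw
      show ℓ w ∈ O
      rw [hOmem, hsupp, ← Scheme.Hom.comp_apply, hℓq]
      exact hw
    obtain ⟨c, hc⟩ := CartH8.exists_lift_imageι ℓ O
    refine ⟨c, ?_, ?_⟩
    · show c ≫ O.ι.imageι ≫ pullback.fst f b = g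
      rw [← Category.assoc, hc, hℓ1]
    · intro c' hc'
      have hc'1 : (c' ≫ O.ι.imageι) ≫ pullback.fst f b = g := by
        rw [Category.assoc]; exact hc'
      have hc'2 : (c' ≫ O.ι.imageι) ≫ pullback.snd f b = h := by
        apply hhuniq
        rw [Category.assoc, ← pullback.condition, ← Category.assoc, hc'1]
      have h3 : c' ≫ O.ι.imageι = ℓ := by
        apply pullback.hom_ext
        · rw [hc'1, hℓ1]
        · rw [hc'2, hℓ2]
      rw [← cancel_mono O.ι.imageι, h3, hc]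

/-- The map between blow-ups induced by a closed immersion is a closed immersion. -/
theorem isClosedImmersion_of_blowUp {X Y X' Y' : Scheme.{u}}
    (𝓘 : X.IdealSheafData) (f : Y ⟶ X) [IsClosedImmersion f]
    (b : X' ⟶ X) (hb : BlowUp.IsBlowUp b 𝓘) (b' : Y' ⟶ Y) (hb' : BlowUp.IsBlowUp b' (𝓘.comap f))
    (f' : Y' ⟶ X') (hf' : f' ≫ b = b' ≫ f) : IsClosedImmersion f' := by
  obtain ⟨Y'', c, j, hj, hjc, hc⟩ := exists_strict 𝓘 f b hb
  obtain ⟨e, he⟩ := blowUp_unique (𝓘.comap f) b' hb' c hc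
  have hcart : BlowUp.IsEffCartierIdeal (𝓘.comap (b' ≫ f)) := by
    rw [Scheme.IdealSheafData.comap_comp]
    exact hb'.1
  obtain ⟨w, -, hw⟩ := hb.2 Y' (b' ≫ f) hcart
  have h1 : f' = e.hom ≫ j := by
    rw [hw f' hf', hw (e.hom ≫ j) (by
      show (e.hom ≫ j) ≫ b = b' ≫ f
      rw [Category.assoc, hjc, ← Category.assoc, he])]
  rw [h1]
  infer_instance

/-- The complement of an effective Cartier divisor: affine and schematically dense. -/
theorem cartier_compl {Z : Scheme.{u}} (E : Z.IdealSheafData) (hE : BlowUp.IsEffCartierIdeal E)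
    (W : Z.Opens) (hW : ∀ z : Z, z ∈ W ↔ z ∉ E.support) :
    IsAffineHom W.ι ∧ IsSchemeTheoreticallyDominant W.ι := by
  refine ⟨isAffineHom_ι_of_princ E W ?_ hW, ?_⟩
  · intro z
    obtain ⟨U, hzU, d, -, hd⟩ := hE z
    exact ⟨U, hzU, d, hd⟩
  · exact BlowIsoH8.dominant_of_effCartier E hE W (fun y hy => (hW y).mpr hy)

end StrictClH8
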