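import Mathlib
import Groth.Agent.Lib.StrictCl1_helper8
import Groth.Agent.Lib.CartDim_helper8
set_option autoImplicit false
open AlgebraicGeometry CategoryTheory CategoryTheory.Limits TopologicalSpace Opposite
open QcqsLoc
universe u
namespace CartH8

/-- Every point of a scheme has a generization outside a given effective Cartier divisor. -/
theorem exists_generization_notMem_support {S : Scheme.{u}} (I : S.IdealSheafData)
    (hI : BlowUp.IsEffCartierIdeal I) (s : S) : ∃ ξ : S, ξ ⤳ s ∧ ξ ∉ I.support := by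
  obtain ⟨U, hsU, f, hf, hIf⟩ := hI s
  have hU : IsAffineOpen U.1 := U.2
  obtain ⟨P', hP'min, hP'le⟩ := Ideal.exists_minimalPrimes_le
    (J := (hU.primeIdealOf ⟨s, hsU⟩).asIdeal) bot_le
  have hfP' : f ∉ P' := fun hc =>
    Set.disjoint_left.mp (Ideal.disjoint_nonZeroDivisors_of_mem_minimalPrimes hP'min) hc hf
  obtain ⟨Q, hQ⟩ : ∃ Q : PrimeSpectrum Γ(S, U.1), Q = ⟨P', hP'min.1.1⟩ := ⟨_, rfl⟩
  have hz := Groth.Agent.SchFTH8.fromSpec_mem hU Q
  have hprime : hU.primeIdealOf ⟨hU.fromSpec Q, hz⟩ = Q :=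
    Groth.Agent.SchFTH8.primeIdealOf_fromSpec hU Q hz
  refine ⟨hU.fromSpec Q, ?_, ?_⟩
  · rw [Groth.Agent.SchFTH8.specializes_iff_primeIdealOf_le hU _ s hz hsU, hprime, hQ]
    exact hP'le
  · have hmem : hU.fromSpec Q ∈ S.basicOpen f := by
      apply FLFH8.mem_basicOpen_of_notMem_prime hU hz
      rw [hprime, hQ]
      exact hfP'
    exact (mem_basicOpen_iff_notMem_support I U f hIf _ hz).mp hmem

/-- The inverse image of a locally principal ideal on the scheme-theoretic image of a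
quasi-compact morphism missing its support is effective Cartier. -/
theorem isEffCartier_comap_imageι' {W P : Scheme.{u}} (f : W ⟶ P) [QuasiCompact f]
    (D : P.IdealSheafData)
    (hprinc : ∀ z : P, ∃ U : P.affineOpens, z ∈ U.1 ∧ ∃ d : Γ(P, U.1), D.ideal U = Ideal.span {d})
    (hO : ∀ w : W, f w ∉ D.support) :
    BlowUp.IsEffCartierIdeal (D.comap f.imageι) := by
  intro y
  obtain ⟨U, hzU, d, hd⟩ := hprinc (f.imageι y)
  have hV : IsAffineOpen (f.imageι ⁻¹ᵁ U.1) := U.2.preimage f.imageι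
  refine ⟨⟨f.imageι ⁻¹ᵁ U.1, hV⟩, hzU, (f.imageι.appLE U.1 (f.imageι ⁻¹ᵁ U.1) le_rfl).hom d,
    ?_, ?_⟩
  · rw [← Scheme.Hom.app_eq_appLE]
    have hinj := Scheme.Hom.toImage_app_injective f U
    have h3 : IsUnit ((f.app U.1).hom d) := by
      apply isUnit_of_le_basicOpen
      rw [← Scheme.preimage_basicOpen]
      intro w hw
      exact mem_basicOpen_of_notMem_support D U d hd _ hw (hO w)
    have hunit : IsUnit ((f.toImage.app (f.imageι ⁻¹ᵁ U.1)).hom
        ((f.imageι.app U.1).hom d)) := by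
      have h2 := Scheme.Hom.congr_app f.toImage_imageι U.1
      have h4 : (f.toImage.app (f.imageι ⁻¹ᵁ U.1)).hom ((f.imageι.app U.1).hom d) =
          ((f.toImage ≫ f.imageι).app U.1).hom d := rfl
      rw [h4, h2, CommRingCat.hom_comp, RingHom.comp_apply]
      exact h3.map _
    have key : ∀ s : Γ(f.image, f.imageι ⁻¹ᵁ U.1),
        (f.imageι.app U.1).hom d * s = 0 → s = 0 := by
      intro s hs
      apply hinj
      have h5 := congrArg (f.toImage.app (f.imageι ⁻¹ᵁ U.1)).hom hs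
      rw [map_mul, map_zero] at h5
      rw [map_zero]
      exact hunit.mul_right_eq_zero.mp h5
    rw [mem_nonZeroDivisors_iff]
    refine ⟨key, fun s hs => key s ?_⟩
    rw [mul_comm]
    exact hs
  · rw [ComapIdH8.comap_ideal f.imageι D ⟨_, hV⟩ U le_rfl, hd, Ideal.map_span,
      Set.image_singleton]

/-- For a closed immersion `g` into an open `O` with quasi-compact inclusion, the canonical map to
the scheme-theoretic image of `g ≫ O.ι` has range the preimage of `O`. -/
theorem range_toImage_eq {V P : Scheme.{u}} (O : P.Opens) [QuasiCompact O.ι]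
    (g : V ⟶ (O : Scheme.{u})) [IsClosedImmersion g] :
    Set.range (g ≫ O.ι).toImage = (g ≫ O.ι).imageι ⁻¹' (O : Set P) := by
  apply Set.Subset.antisymm
  · rintro _ ⟨v, rfl⟩
    show (g ≫ O.ι).imageι ((g ≫ O.ι).toImage v) ∈ O
    rw [← Scheme.Hom.comp_apply, Scheme.Hom.toImage_imageι, Scheme.Hom.comp_apply]
    exact (g v).2
  · intro z hz
    have hz' : (g ≫ O.ι).imageι z ∈ O := hz
    have h1 : (g ≫ O.ι).imageι z ∈ closure (Set.range (g ≫ O.ι)) := by
      have h2 : (g ≫ O.ι).imageι z ∈ Set.range (g ≫ O.ι).imageι := ⟨z, rfl⟩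
      rw [Scheme.Hom.imageι, Scheme.IdealSheafData.range_subschemeι,
        Scheme.Hom.support_ker] at h2
      exact h2
    have h3 : IsClosed (Set.range g) := g.isClosedEmbedding.isClosed_range
    obtain ⟨C, hC, hCeq⟩ := isClosed_induced_iff.mp h3
    have h4 : Set.range (g ≫ O.ι) ⊆ C := by
      rintro _ ⟨v, rfl⟩
      have h5 : g v ∈ Set.range g := ⟨v, rfl⟩
      rw [← hCeq] at h5
      exact h5
    have h5 : (g ≫ O.ι).imageι z ∈ C := (closure_minimal h4 hC) h1
    have h6 : (⟨(g ≫ O.ι).imageι z, hz'⟩ : (O : Scheme.{u})) ∈ Set.range g := by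
      rw [← hCeq]
      exact h5
    obtain ⟨v, hv⟩ := h6
    refine ⟨v, ?_⟩
    apply (g ≫ O.ι).imageι.isClosedEmbedding.injective
    have h8 : (g ≫ O.ι).imageι ((g ≫ O.ι).toImage v) = (g ≫ O.ι) v := by
      rw [← Scheme.Hom.comp_apply, Scheme.Hom.toImage_imageι]
    rw [h8, Scheme.Hom.comp_apply, hv]
    rfl

end CartH8
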