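import Mathlib
import Groth.Prelude.Def_BlowUp2
import Groth.Agent.Lib.AffBl1_helper8
import Groth.Agent.Lib.Cart8_helper8
set_option autoImplicit false
open AlgebraicGeometry CategoryTheory CategoryTheory.Limits TopologicalSpace Opposite
open QcqsLoc
universe u
namespace AffBlH8

variable {A : Type u} [CommRing A]

/-- The ring map `A → Γ(T, V)` induced by `g : T ⟶ Spec A`. -/
noncomputable def phi {T : Scheme.{u}} (g : T ⟶ Spec (CommRingCat.of A)) (V : T.Opens) :
    A →+* Γ(T, V) :=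
  (g.appLE ⊤ V le_top).hom.comp (Scheme.ΓSpecIso (CommRingCat.of A)).inv.hom

theorem phi_res {T : Scheme.{u}} (g : T ⟶ Spec (CommRingCat.of A)) {V V' : T.Opens} (h : V' ≤ V) :
    phi g V' = (rX h).comp (phi g V) := by
  unfold phi
  rw [← RingHom.comp_assoc]
  congr 1
  have := Scheme.Hom.appLE_map g (U := ⊤) (V := V) (V' := V') le_top (homOfLE h).op
  rw [← this]
  rfl

theorem phi_comp {T T' : Scheme.{u}} (h : T' ⟶ T) (g : T ⟶ Spec (CommRingCat.of A))
    (V : T.Opens) (V' : T'.Opens) (e : V' ≤ h ⁻¹ᵁ V) :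
    phi (h ≫ g) V' = (h.appLE V V' e).hom.comp (phi g V) := by
  unfold phi
  rw [← RingHom.comp_assoc]
  congr 1
  have := Scheme.Hom.appLE_comp_appLE h g ⊤ V V' le_top e
  rw [← this]
  rfl

/-- The ideal sheaf of `I` on `Spec A`. -/
noncomputable abbrev idl (I : Ideal A) : (Spec (CommRingCat.of A)).IdealSheafData :=
  Scheme.IdealSheafData.ofIdealTop (I.map (Scheme.ΓSpecIso (CommRingCat.of A)).inv.hom)

theorem comap_idl_ideal (I : Ideal A) {T : Scheme.{u}} (g : T ⟶ Spec (CommRingCat.of A))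
    (V : T.affineOpens) : ((idl I).comap g).ideal V = I.map (phi g V.1) := by
  rw [ComapIdH8.comap_ideal g (idl I) V ⟨⊤, isAffineOpen_top _⟩ le_top,
    Scheme.IdealSheafData.ofIdealTop_ideal, Ideal.map_map, Ideal.map_map]
  congr 1

variable (I : Ideal A) (a : A)

/-- The structure morphism `Spec A[I/a] ⟶ Spec A`. -/
noncomputable abbrev cmap :
    Spec (CommRingCat.of ↥(BlowUp.affineAlgebra A I a)) ⟶ Spec (CommRingCat.of A) :=
  Spec.map (CommRingCat.ofHom (algebraMap A ↥(BlowUp.affineAlgebra A I a)))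

/-- The ring map `A[I/a] → Γ(T, V)` induced by `h : T ⟶ Spec A[I/a]`. -/
noncomputable def rho {T : Scheme.{u}}
    (h : T ⟶ Spec (CommRingCat.of ↥(BlowUp.affineAlgebra A I a))) (V : T.Opens) :
    ↥(BlowUp.affineAlgebra A I a) →+* Γ(T, V) :=
  (h.appLE ⊤ V le_top).hom.comp
    (Scheme.ΓSpecIso (CommRingCat.of ↥(BlowUp.affineAlgebra A I a))).inv.hom

theorem rho_comp_algebraMap {T : Scheme.{u}}
    (h : T ⟶ Spec (CommRingCat.of ↥(BlowUp.affineAlgebra A I a))) (V : T.Opens) :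
    (rho I a h V).comp (algebraMap A ↥(BlowUp.affineAlgebra A I a)) = phi (h ≫ cmap I a) V := by
  unfold rho phi
  have h1 := Scheme.Hom.comp_appLE h (cmap I a) ⊤ V le_top
  have h2 := Scheme.ΓSpecIso_inv_naturality
    (CommRingCat.ofHom (algebraMap A ↥(BlowUp.affineAlgebra A I a)))
  have h3 : (CommRingCat.ofHom (algebraMap A ↥(BlowUp.affineAlgebra A I a))) ≫
      (Scheme.ΓSpecIso (CommRingCat.of ↥(BlowUp.affineAlgebra A I a))).inv ≫
        h.appLE ⊤ V le_top =
      (Scheme.ΓSpecIso (CommRingCat.of A)).inv ≫ (h ≫ cmap I a).appLE ⊤ V le_top := by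
    rw [h1, ← Category.assoc, h2, Category.assoc]
    rfl
  exact congrArg CommRingCat.Hom.hom h3

theorem appLE_top_top {T S : Scheme.{u}} (h : T ⟶ S) : h.appLE ⊤ ⊤ le_top = h.appTop :=
  Scheme.Hom.appLE_eq_app h

/-- Uniqueness of morphisms into `Spec A[I/a]`. -/
theorem hom_ext {T : Scheme.{u}}
    (h₁ h₂ : T ⟶ Spec (CommRingCat.of ↥(BlowUp.affineAlgebra A I a)))
    (hc : h₁ ≫ cmap I a = h₂ ≫ cmap I a)
    (hnzd : phi (h₂ ≫ cmap I a) ⊤ a ∈ nonZeroDivisors Γ(T, ⊤)) : h₁ = h₂ := by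
  have e : rho I a h₁ ⊤ = rho I a h₂ ⊤ := by
    apply ringHom_ext I a
    · rw [rho_comp_algebraMap, rho_comp_algebraMap, hc]
    · have := RingHom.congr_fun (rho_comp_algebraMap I a h₂ ⊤) a
      rw [RingHom.comp_apply] at this
      rw [this]
      exact hnzd
  apply ext_to_Spec
  ext x
  have := RingHom.congr_fun e x
  unfold rho at this
  rw [appLE_top_top, appLE_top_top] at this
  exact this

/-- Existence of morphisms into `Spec A[I/a]`. -/
theorem exists_lift {X : Scheme.{u}} (g : X ⟶ Spec (CommRingCat.of A)) (V : X.Opens)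
    (hnzd : phi g V a ∈ nonZeroDivisors Γ(X, V))
    (hI : ∀ x ∈ I, ∃ y, phi g V x = y * phi g V a) :
    ∃ l : (V : Scheme.{u}) ⟶ Spec (CommRingCat.of ↥(BlowUp.affineAlgebra A I a)),
      l ≫ cmap I a = V.ι ≫ g := by
  obtain ⟨ψ, hψ⟩ := exists_ringHom I a (phi g V) hnzd hI
  refine ⟨V.toSpecΓ ≫ Spec.map (CommRingCat.ofHom ψ), ?_⟩
  have h1 : CommRingCat.ofHom (algebraMap A ↥(BlowUp.affineAlgebra A I a)) ≫ CommRingCat.ofHom ψ =
      (Scheme.ΓSpecIso (CommRingCat.of A)).inv ≫ g.appLE ⊤ V le_top := by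
    ext x
    exact RingHom.congr_fun hψ x
  rw [Category.assoc, ← Spec.map_comp, h1, Spec.map_comp,
    Scheme.Opens.toSpecΓ_SpecMap_appLE_assoc, Scheme.Opens.toSpecΓ_top, Category.assoc,
    toSpecΓ_SpecMap_ΓSpecIso_inv, Category.comp_id, Scheme.Hom.resLE_comp_ι]

theorem nzd_of_bijective {R S : Type*} [CommRing R] [CommRing S] (f : R →+* S)
    (hf : Function.Bijective f) (x : R) (hx : x ∈ nonZeroDivisors R) :
    f x ∈ nonZeroDivisors S := by
  have key : ∀ s : S, f x * s = 0 → s = 0 := by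
    intro s hs
    obtain ⟨s', rfl⟩ := hf.2 s
    rw [← map_mul] at hs
    have h1 : x * s' = 0 := hf.1 (by rw [hs, map_zero])
    rw [(mem_nonZeroDivisors_iff.mp hx).1 _ h1, map_zero]
  rw [mem_nonZeroDivisors_iff]
  exact ⟨key, fun s hs => key s (by rwa [mul_comm])⟩

theorem phi_cmap_top_nzd :
    phi (cmap I a) ⊤ a ∈
      nonZeroDivisors Γ(Spec (CommRingCat.of ↥(BlowUp.affineAlgebra A I a)), ⊤) := by
  have h1 := RingHom.congr_fun (rho_comp_algebraMap I a (𝟙 _) ⊤) a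
  rw [Category.id_comp, RingHom.comp_apply] at h1
  rw [← h1]
  refine nzd_of_bijective _ ?_ _ (a_nzd I a)
  unfold rho
  rw [appLE_top_top]
  have : Scheme.Hom.appTop (𝟙 (Spec (CommRingCat.of ↥(BlowUp.affineAlgebra A I a)))) = 𝟙 _ := rfl
  rw [this]
  exact (ConcreteCategory.isIso_iff_bijective
    (Scheme.ΓSpecIso (CommRingCat.of ↥(BlowUp.affineAlgebra A I a))).inv).mp inferInstance

theorem phi_cmap_top_mem (x : A) (hx : x ∈ I) :
    ∃ y, phi (cmap I a) ⊤ x = y * phi (cmap I a) ⊤ a := by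
  have h1 := rho_comp_algebraMap I a (𝟙 _) ⊤
  rw [Category.id_comp] at h1
  rw [← h1]
  refine ⟨rho I a (𝟙 _) ⊤ (gen I a x hx), ?_⟩
  rw [RingHom.comp_apply, RingHom.comp_apply, ← map_mul, mul_comm, a_mul_gen]

/-- `a` stays a nonzerodivisor on every open of `Spec A[I/a]`. -/
theorem phi_cmap_nzd (N : (Spec (CommRingCat.of ↥(BlowUp.affineAlgebra A I a))).Opens) :
    phi (cmap I a) N a ∈
      nonZeroDivisors Γ(Spec (CommRingCat.of ↥(BlowUp.affineAlgebra A I a)), N) := by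
  have key : ∀ s : Γ(Spec (CommRingCat.of ↥(BlowUp.affineAlgebra A I a)), N),
      phi (cmap I a) N a * s = 0 → s = 0 := by
    intro s hs
    rw [phi_res (cmap I a) (le_top : N ≤ ⊤), RingHom.comp_apply] at hs
    exact CartH8.eq_zero_of_res_mul_eq_zero (isAffineOpen_top _) _ (phi_cmap_top_nzd I a)
      le_top s hs
  rw [mem_nonZeroDivisors_iff]
  exact ⟨key, fun s hs => key s (by rwa [mul_comm])⟩

theorem phi_cmap_mem (N : (Spec (CommRingCat.of ↥(BlowUp.affineAlgebra A I a))).Opens)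
    (x : A) (hx : x ∈ I) : ∃ y, phi (cmap I a) N x = y * phi (cmap I a) N a := by
  obtain ⟨y, hy⟩ := phi_cmap_top_mem I a x hx
  refine ⟨rX (le_top : N ≤ ⊤) y, ?_⟩
  rw [phi_res (cmap I a) (le_top : N ≤ ⊤), RingHom.comp_apply, RingHom.comp_apply, hy, map_mul]

/-- The inverse image of `I` on `Spec A[I/a]` is effective Cartier. -/
theorem isEffCartier_comap_cmap (ha : a ∈ I) :
    BlowUp.IsEffCartierIdeal ((idl I).comap (cmap I a)) := by
  intro q
  refine ⟨⟨⊤, isAffineOpen_top _⟩, trivial, phi (cmap I a) ⊤ a, phi_cmap_top_nzd I a, ?_⟩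
  rw [comap_idl_ideal]
  apply le_antisymm
  · rw [Ideal.map_le_iff_le_comap]
    intro x hx
    rw [Ideal.mem_comap, Ideal.mem_span_singleton']
    obtain ⟨y, hy⟩ := phi_cmap_top_mem I a x hx
    exact ⟨y, hy.symm⟩
  · rw [Ideal.span_le, Set.singleton_subset_iff]
    exact Ideal.mem_map_of_mem _ ha

end AffBlH8
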