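import Mathlib
import Groth.Prelude.Def_BlowUp2
import Groth.Agent.Lib.AffBl2_helper8
import Groth.Agent.Lib.CartDim_helper8
set_option autoImplicit false
open AlgebraicGeometry CategoryTheory CategoryTheory.Limits TopologicalSpace Opposite
open QcqsLoc
universe u
namespace AffBlH8

variable {A : Type u} [CommRing A] (I : Ideal A) (a : A)

/-- `a` stays a nonzerodivisor on every open subscheme of `Spec A[I/a]`. -/
theorem phi_ι_cmap_nzd (U : (Spec (CommRingCat.of ↥(BlowUp.affineAlgebra A I a))).Opens) :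
    phi (U.ι ≫ cmap I a) ⊤ a ∈ nonZeroDivisors Γ(U.toScheme, ⊤) := by
  have h1 : phi (U.ι ≫ cmap I a) ⊤ = (U.ι.appLE ⊤ ⊤ le_top).hom.comp (phi (cmap I a) ⊤) :=
    phi_comp U.ι (cmap I a) ⊤ ⊤ le_top
  have key : ∀ s : Γ(U.toScheme, ⊤), phi (U.ι ≫ cmap I a) ⊤ a * s = 0 → s = 0 := by
    intro s hs
    rw [h1, RingHom.comp_apply, Scheme.Opens.ι_appLE] at hs
    exact CartH8.eq_zero_of_res_mul_eq_zero (isAffineOpen_top _) _ (phi_cmap_top_nzd I a)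
      (N := U.ι ''ᵁ ⊤) le_top s hs
  rw [mem_nonZeroDivisors_iff]
  exact ⟨key, fun s hs => key s (by rwa [mul_comm])⟩

variable {X' : Scheme.{u}} (b : X' ⟶ Spec (CommRingCat.of A))

/-- `a` generates the inverse image of `I` on the open `V`, as a nonzerodivisor. -/
def Good (V : X'.Opens) : Prop :=
  phi b V a ∈ nonZeroDivisors Γ(X', V) ∧ ∀ x ∈ I, ∃ y, phi b V x = y * phi b V a

theorem good_basicOpen (V₁ : X'.affineOpens) (t d : Γ(X', V₁.1))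
    (ht : t ∈ nonZeroDivisors Γ(X', V₁.1)) (hIt : I.map (phi b V₁.1) = Ideal.span {t})
    (hd : phi b V₁.1 a = d * t) : Good I a b (X'.basicOpen d) := by
  have hle : X'.basicOpen d ≤ V₁.1 := X'.basicOpen_le d
  have hu : IsUnit (rX hle d) := X'.toRingedSpace.isUnit_res_basicOpen d
  have htn : rX hle t ∈ nonZeroDivisors Γ(X', X'.basicOpen d) := by
    have key : ∀ s, rX hle t * s = 0 → s = 0 :=
      fun s hs => CartH8.eq_zero_of_res_mul_eq_zero V₁.2 t ht hle s hs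
    rw [mem_nonZeroDivisors_iff]
    exact ⟨key, fun s hs => key s (by rwa [mul_comm])⟩
  have ha' : phi b (X'.basicOpen d) a = rX hle d * rX hle t := by
    rw [phi_res b hle, RingHom.comp_apply, hd, map_mul]
  constructor
  · rw [ha']
    exact mul_mem hu.mem_nonZeroDivisors htn
  · intro x hx
    have h1 : phi b V₁.1 x ∈ Ideal.span {t} := hIt ▸ Ideal.mem_map_of_mem _ hx
    rw [Ideal.mem_span_singleton'] at h1
    obtain ⟨e, he⟩ := h1
    obtain ⟨u, hu'⟩ := hu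
    refine ⟨rX hle e * ↑u⁻¹, ?_⟩
    rw [ha', phi_res b hle, RingHom.comp_apply, ← he, map_mul, ← hu']
    rw [mul_assoc, ← mul_assoc (↑u⁻¹ : Γ(X', X'.basicOpen d)), Units.inv_mul, one_mul]

theorem exists_good (hb1 : BlowUp.IsEffCartierIdeal ((idl I).comap b)) (x' : X') :
    ∃ a ∈ I, ∃ V : X'.Opens, Good I a b V ∧ x' ∈ V := by
  obtain ⟨V₁, hx₁, t, ht, hIt⟩ := hb1 x'
  rw [comap_idl_ideal] at hIt
  by_contra hcon
  push Not at hcon
  have h1 : I.map (phi b V₁.1) ≤ (V₁.2.primeIdealOf ⟨x', hx₁⟩).asIdeal * Ideal.span {t} := by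
    rw [Ideal.map_le_iff_le_comap]
    intro a ha
    rw [Ideal.mem_comap]
    have h2 : phi b V₁.1 a ∈ Ideal.span {t} := hIt ▸ Ideal.mem_map_of_mem _ ha
    rw [Ideal.mem_span_singleton'] at h2
    obtain ⟨d, hd⟩ := h2
    have hg := good_basicOpen I a b V₁ t d ht hIt hd.symm
    have hnot := hcon a ha _ hg
    have hdp : d ∈ (V₁.2.primeIdealOf ⟨x', hx₁⟩).asIdeal := by
      rw [CartDimH8.mem_primeIdealOf_iff]
      exact hnot
    rw [Ideal.mem_mul_span_singleton]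
    exact ⟨d, hdp, hd⟩
  have h3 : t ∈ (V₁.2.primeIdealOf ⟨x', hx₁⟩).asIdeal * Ideal.span {t} :=
    h1 (hIt ▸ Ideal.mem_span_singleton_self t)
  rw [Ideal.mem_mul_span_singleton] at h3
  obtain ⟨c, hc, hct⟩ := h3
  have h4 : t * (c - 1) = 0 := by
    rw [mul_sub, mul_one, mul_comm, hct, sub_self]
  have h5 : c = 1 := sub_eq_zero.mp ((mem_nonZeroDivisors_iff.mp ht).1 _ h4)
  exact (V₁.2.primeIdealOf ⟨x', hx₁⟩).isPrime.ne_top
    (Ideal.eq_top_of_isUnit_mem _ hc (h5 ▸ isUnit_one))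

theorem good_of_map (ha : a ∈ I) (hb1 : BlowUp.IsEffCartierIdeal ((idl I).comap b))
    (κ : Spec (CommRingCat.of ↥(BlowUp.affineAlgebra A I a)) ⟶ X') (hκ : κ ≫ b = cmap I a)
    (q : Spec (CommRingCat.of ↥(BlowUp.affineAlgebra A I a))) :
    ∃ V : X'.Opens, Good I a b V ∧ κ q ∈ V := by
  obtain ⟨V₁, hx₁, t, ht, hIt⟩ := hb1 (κ q)
  rw [comap_idl_ideal] at hIt
  have h2 : phi b V₁.1 a ∈ Ideal.span {t} := hIt ▸ Ideal.mem_map_of_mem _ ha
  rw [Ideal.mem_span_singleton'] at h2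
  obtain ⟨d, hd⟩ := h2
  refine ⟨X'.basicOpen d, good_basicOpen I a b V₁ t d ht hIt hd.symm, ?_⟩
  obtain ⟨_, ⟨T, hT : IsAffineOpen T, rfl⟩, hqT, hTle⟩ :=
    ((Spec (CommRingCat.of ↥(BlowUp.affineAlgebra A I a))).isBasis_affineOpens).exists_subset_of_mem_open
      (show q ∈ ((κ ⁻¹ᵁ V₁.1 : (Spec (CommRingCat.of ↥(BlowUp.affineAlgebra A I a))).Opens) :
        Set _) from hx₁) (κ ⁻¹ᵁ V₁.1).2
  have hTle' : T ≤ κ ⁻¹ᵁ V₁.1 := hTle
  obtain ⟨θ, hθ⟩ : ∃ θ, θ = (κ.appLE V₁.1 T hTle').hom := ⟨_, rfl⟩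
  have hφ : phi (cmap I a) T = θ.comp (phi b V₁.1) := by
    rw [hθ, ← hκ]
    exact phi_comp κ b V₁.1 T hTle'
  have hnz : phi (cmap I a) T a ∈ nonZeroDivisors _ := phi_cmap_nzd I a T
  have h3 : θ t ∈ Ideal.span {phi (cmap I a) T a} := by
    have h4 : θ t ∈ (I.map (phi b V₁.1)).map θ :=
      Ideal.mem_map_of_mem _ (hIt ▸ Ideal.mem_span_singleton_self t)
    rw [Ideal.map_map, ← hφ] at h4
    refine (?_ : I.map (phi (cmap I a) T) ≤ _) h4
    rw [Ideal.map_le_iff_le_comap]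
    intro x hx
    obtain ⟨y, hy⟩ := phi_cmap_mem I a T x hx
    rw [Ideal.mem_comap, Ideal.mem_span_singleton']
    exact ⟨y, hy.symm⟩
  rw [Ideal.mem_span_singleton'] at h3
  obtain ⟨e, he⟩ := h3
  have haT : phi (cmap I a) T a = θ d * θ t := by
    rw [hφ, RingHom.comp_apply, ← hd, map_mul]
  rw [haT] at he hnz
  have htn : θ t ∈ nonZeroDivisors _ := (mul_mem_nonZeroDivisors.mp hnz).2
  have h5 : e * θ d = 1 := by
    have h6 : θ t * (e * θ d - 1) = 0 := by linear_combination he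
    exact sub_eq_zero.mp ((mem_nonZeroDivisors_iff.mp htn).1 _ h6)
  have hu : IsUnit (θ d) := IsUnit.of_mul_eq_one_right _ h5
  have h6 : (Spec (CommRingCat.of ↥(BlowUp.affineAlgebra A I a))).basicOpen (θ d) = T :=
    Scheme.basicOpen_of_isUnit _ hu
  have h7 : (Spec (CommRingCat.of ↥(BlowUp.affineAlgebra A I a))).basicOpen (θ d) =
      T ⊓ κ ⁻¹ᵁ (X'.basicOpen d) := by
    rw [hθ]
    exact Scheme.basicOpen_appLE κ T V₁.1 hTle' d
  have h8 : q ∈ T ⊓ κ ⁻¹ᵁ (X'.basicOpen d) := by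
    rw [← h7, h6]
    exact hqT
  exact h8.2

theorem isIso_restrict_of_good (hb : BlowUp.IsBlowUp b (idl I))
    (κ : Spec (CommRingCat.of ↥(BlowUp.affineAlgebra A I a)) ⟶ X') (hκ : κ ≫ b = cmap I a)
    (V : X'.Opens) (hV : Good I a b V) : IsIso (κ ∣_ V) := by
  obtain ⟨l, hl⟩ := exists_lift I a b V hV.1 hV.2
  have hcart : BlowUp.IsEffCartierIdeal ((idl I).comap (V.ι ≫ b)) := by
    rw [Scheme.IdealSheafData.comap_comp]
    exact CartH8.isEffCartier_comap_of_flat V.ι _ hb.1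
  have hlκ : l ≫ κ = V.ι := by
    obtain ⟨h₀, -, huniq⟩ := hb.2 V (V.ι ≫ b) hcart
    have e1 : (l ≫ κ) ≫ b = V.ι ≫ b := by rw [Category.assoc, hκ, hl]
    rw [huniq (l ≫ κ) e1, huniq V.ι rfl]
  have hrange : Set.range l ⊆ (κ ⁻¹ᵁ V).ι.opensRange := by
    rintro _ ⟨v, rfl⟩
    rw [Scheme.Opens.opensRange_ι]
    change κ (l v) ∈ V
    rw [← Scheme.Hom.comp_apply, hlκ]
    exact v.2
  obtain ⟨l', hl'⟩ : ∃ l' : (V : Scheme.{u}) ⟶ (κ ⁻¹ᵁ V : Scheme.{u}), l' ≫ (κ ⁻¹ᵁ V).ι = l :=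
    ⟨IsOpenImmersion.lift (κ ⁻¹ᵁ V).ι l hrange, IsOpenImmersion.lift_fac _ _ _⟩
  have hκl : (κ ∣_ V) ≫ l = (κ ⁻¹ᵁ V).ι := by
    apply hom_ext I a
    · rw [Category.assoc, hl, morphismRestrict_ι_assoc, hκ]
    · exact phi_ι_cmap_nzd I a (κ ⁻¹ᵁ V)
  refine ⟨l', ?_, ?_⟩
  · rw [← cancel_mono (κ ⁻¹ᵁ V).ι, Category.assoc, hl', hκl, Category.id_comp]
  · rw [← cancel_mono V.ι, Category.assoc, morphismRestrict_ι, ← Category.assoc, hl', hlκ,
      Category.id_comp]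

end AffBlH8
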