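import Mathlib
import Groth.Prelude.Def_BlowUp2
import Groth.Agent.Lib.AffBl3_helper8

/-!
# The standard affine charts of a blow-up of `Spec A` (helper9)

For a blow-up `b : X' ⟶ Spec A` in `I` (universal property) and `a ∈ I`, the open `W a` (union of all
opens on which `a` generates `I · O` as a nonzerodivisor) is affine, isomorphic to `Spec A[I/a]`;
the `W a` for `a` in a generating set cover `X'`, and `W a ⊓ W c` is affine.
APPEND-ONLY once landed.
-/

set_option autoImplicit false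
universe u
open AlgebraicGeometry CategoryTheory CategoryTheory.Limits TopologicalSpace Opposite
open QcqsLoc

namespace BlowCov

open AffBlH8

variable {A : Type u} [CommRing A] (I : Ideal A) (a : A)
variable {X' : Scheme.{u}} (b : X' ⟶ Spec (CommRingCat.of A))

/-- The chart of the blow-up on which `a` generates the inverse image ideal. -/
noncomputable def W : X'.Opens := ⨆ V : {V : X'.Opens // Good I a b V}, V.1

theorem le_W {V : X'.Opens} (hV : Good I a b V) : V ≤ W I a b :=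
  le_iSup (fun V : {V : X'.Opens // Good I a b V} => V.1) ⟨V, hV⟩

theorem mem_W_iff (x : X') : x ∈ W I a b ↔ ∃ V : X'.Opens, Good I a b V ∧ x ∈ V := by
  unfold W
  rw [TopologicalSpace.Opens.mem_iSup]
  constructor
  · rintro ⟨⟨V, hV⟩, hx⟩
    exact ⟨V, hV, hx⟩
  · rintro ⟨V, hV, hx⟩
    exact ⟨⟨V, hV⟩, hx⟩

/-- The chart `W a` is the image of an open immersion from `Spec A[I/a]`, over `Spec A`. -/
theorem exists_chart (ha : a ∈ I) (hb : BlowUp.IsBlowUp b (idl I)) :
    ∃ κ : Spec (CommRingCat.of ↥(BlowUp.affineAlgebra A I a)) ⟶ X',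
      κ ≫ b = cmap I a ∧ IsOpenImmersion κ ∧ Set.range κ = (W I a b : Set X') := by
  have hcart := isEffCartier_comap_cmap I a ha
  obtain ⟨κ, hκ, -⟩ := hb.2 _ (cmap I a) hcart
  have hκ : κ ≫ b = cmap I a := hκ
  have hκW : Set.range κ ⊆ (W I a b).ι.opensRange := by
    rintro _ ⟨q, rfl⟩
    rw [Scheme.Opens.opensRange_ι]
    obtain ⟨V, hV, hq⟩ := good_of_map I a b ha hb.1 κ hκ q
    exact (mem_W_iff I a b _).mpr ⟨V, hV, hq⟩
  obtain ⟨κ', hκ'⟩ : ∃ κ' : Spec (CommRingCat.of ↥(BlowUp.affineAlgebra A I a)) ⟶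
      ((W I a b : X'.Opens) : Scheme.{u}), κ' ≫ (W I a b).ι = κ :=
    ⟨IsOpenImmersion.lift (W I a b).ι κ hκW, IsOpenImmersion.lift_fac _ _ _⟩
  have hiso : IsIso κ' := by
    have hU : ⨆ V : {V : X'.Opens // Good I a b V}, (W I a b).ι ⁻¹ᵁ V.1 = ⊤ := by
      rw [← Scheme.Hom.preimage_iSup]
      exact (W I a b).ι_preimage_self
    refine (IsZariskiLocalAtTarget.iff_of_iSup_eq_top
      (P := MorphismProperty.isomorphisms Scheme) _ hU).mpr ?_
    rintro ⟨V, hV⟩
    have h1 : IsIso (κ ∣_ V) := isIso_restrict_of_good I a b hb κ hκ V hV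
    have hVW : V ≤ W I a b := le_W I a b hV
    subst hκ'
    rw [morphismRestrict_comp] at h1
    have h2 : IsIso ((W I a b).ι ∣_ V) := by
      apply isIso_of_isOpenImmersion_of_opensRange_eq_top
      rw [eq_top_iff]
      rintro ⟨v, hv⟩ -
      refine ⟨⟨⟨v, hVW hv⟩, hv⟩, ?_⟩
      apply Subtype.ext
      rw [morphismRestrict_base_coe]
      rfl
    exact @IsIso.of_isIso_comp_right _ _ _ _ _ (κ' ∣_ ((W I a b).ι ⁻¹ᵁ V)) ((W I a b).ι ∣_ V) h2 h1
  refine ⟨κ, hκ, ?_, ?_⟩
  · rw [← hκ']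
    infer_instance
  · rw [← hκ']
    apply le_antisymm
    · rintro _ ⟨q, rfl⟩
      rw [Scheme.Hom.comp_apply]
      exact (κ' q).2
    · intro z hz
      obtain ⟨q, hq⟩ := (ConcreteCategory.bijective_of_isIso κ'.base).2 ⟨z, hz⟩
      refine ⟨q, ?_⟩
      rw [Scheme.Hom.comp_apply]
      have : κ' q = ⟨z, hz⟩ := hq
      rw [this]
      rfl

theorem isAffineOpen_W (ha : a ∈ I) (hb : BlowUp.IsBlowUp b (idl I)) :
    IsAffineOpen (W I a b) := by
  obtain ⟨κ, -, hoi, hr⟩ := exists_chart I a b ha hb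
  have h1 : κ.opensRange = W I a b := by
    apply TopologicalSpace.Opens.ext
    exact hr
  rw [← h1]
  exact isAffineOpen_opensRange κ

/-- The charts attached to a generating set cover the blow-up. -/
theorem exists_mem_W (S : Set A) (hS : Ideal.span S = I)
    (hb1 : BlowUp.IsEffCartierIdeal ((idl I).comap b)) (x' : X') :
    ∃ a ∈ S, x' ∈ W I a b := by
  obtain ⟨V₁, hx₁, t, ht, hIt⟩ := hb1 x'
  rw [comap_idl_ideal] at hIt
  by_contra hcon
  push Not at hcon
  have h1 : I.map (phi b V₁.1) ≤ (V₁.2.primeIdealOf ⟨x', hx₁⟩).asIdeal * Ideal.span {t} := by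
    rw [← hS, Ideal.map_span, Ideal.span_le]
    rintro _ ⟨a, ha, rfl⟩
    have haI : a ∈ I := hS ▸ Ideal.subset_span ha
    have h2 : phi b V₁.1 a ∈ Ideal.span {t} := hIt ▸ Ideal.mem_map_of_mem _ haI
    rw [Ideal.mem_span_singleton'] at h2
    obtain ⟨d, hd⟩ := h2
    have hg := good_basicOpen I a b V₁ t d ht hIt hd.symm
    have hnot : x' ∉ X'.basicOpen d := fun hx => hcon a ha ((mem_W_iff I a b x').mpr ⟨_, hg, hx⟩)
    have hdp : d ∈ (V₁.2.primeIdealOf ⟨x', hx₁⟩).asIdeal := by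
      rw [CartDimH8.mem_primeIdealOf_iff]
      exact hnot
    rw [SetLike.mem_coe, Ideal.mem_mul_span_singleton]
    exact ⟨d, hdp, hd⟩
  have h3 : t ∈ (V₁.2.primeIdealOf ⟨x', hx₁⟩).asIdeal * Ideal.span {t} :=
    h1 (hIt ▸ Ideal.mem_span_singleton_self t)
  rw [Ideal.mem_mul_span_singleton] at h3
  obtain ⟨c, hc, hct⟩ := h3
  have h4 : t * (c - 1) = 0 := by
    rw [mul_sub, mul_one, mul_comm, hct, sub_self]
  have h5 : c = 1 := sub_eq_zero.mp ((mem_nonZeroDivisors_iff.mp ht).1 _ h4)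
  exact (V₁.2.primeIdealOf ⟨x', hx₁⟩).isPrime.ne_top
    (Ideal.eq_top_of_isUnit_mem _ hc (h5 ▸ isUnit_one))

end BlowCov

namespace BlowCov

open AffBlH8

variable {A : Type u} [CommRing A] (I : Ideal A) (a : A)
variable {X' : Scheme.{u}} (b : X' ⟶ Spec (CommRingCat.of A))

theorem rho_res {T : Scheme.{u}}
    (h : T ⟶ Spec (CommRingCat.of ↥(BlowUp.affineAlgebra A I a))) {V V' : T.Opens} (e : V' ≤ V) :
    rho I a h V' = (rX e).comp (rho I a h V) := by
  unfold rho
  rw [← RingHom.comp_assoc]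
  congr 1
  have := Scheme.Hom.appLE_map h (U := ⊤) (V := V) (V' := V') le_top (homOfLE e).op
  rw [← this]
  rfl

/-- On every open of `Spec A[I/a]`, `c = (c/a) · a`. -/
theorem phi_cmap_eq (c : A) (hc : c ∈ I)
    (N : (Spec (CommRingCat.of ↥(BlowUp.affineAlgebra A I a))).Opens) :
    phi (cmap I a) N c = rho I a (𝟙 _) N (gen I a c hc) * phi (cmap I a) N a := by
  have h1 := rho_comp_algebraMap I a (𝟙 _) N
  rw [Category.id_comp] at h1
  rw [← h1, RingHom.comp_apply, RingHom.comp_apply, ← map_mul, mul_comm, a_mul_gen]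

theorem nzd_of_map_nzd {R S : Type*} [CommRing R] [CommRing S] (f : R →+* S)
    (hf : Function.Injective f) (x : R) (hx : f x ∈ nonZeroDivisors S) :
    x ∈ nonZeroDivisors R := by
  have key : ∀ s : R, x * s = 0 → s = 0 := by
    intro s hs
    have h1 : f x * f s = 0 := by rw [← map_mul, hs, map_zero]
    have h2 := (mem_nonZeroDivisors_iff.mp hx).1 _ h1
    exact hf (by rw [h2, map_zero])
  rw [mem_nonZeroDivisors_iff]
  exact ⟨key, fun s hs => key s (by rwa [mul_comm])⟩

/-- The intersection of two standard charts is affine. -/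
theorem isAffineOpen_W_inf (ha : a ∈ I) (c : A) (hc : c ∈ I) (hb : BlowUp.IsBlowUp b (idl I)) :
    IsAffineOpen (W I a b ⊓ W I c b) := by
  obtain ⟨κ, hκ, hoi, hr⟩ := exists_chart I a b ha hb
  haveI := hoi
  obtain ⟨g', hg'⟩ : ∃ g' : Γ(Spec (CommRingCat.of ↥(BlowUp.affineAlgebra A I a)), ⊤),
    g' = rho I a (𝟙 _) ⊤ (gen I a c hc) := ⟨_, rfl⟩
  obtain ⟨N, hNdef⟩ : ∃ N : (Spec (CommRingCat.of ↥(BlowUp.affineAlgebra A I a))).Opens,
    N = (Spec (CommRingCat.of ↥(BlowUp.affineAlgebra A I a))).basicOpen g' := ⟨_, rfl⟩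
  have hN : IsAffineOpen N := by
    rw [hNdef]
    exact (isAffineOpen_top _).basicOpen g'
  have hrho : ∀ N' : (Spec (CommRingCat.of ↥(BlowUp.affineAlgebra A I a))).Opens,
      rho I a (𝟙 _) N' (gen I a c hc) = rX (le_top : N' ≤ ⊤) g' := by
    intro N'
    rw [rho_res I a (𝟙 _) (le_top : N' ≤ ⊤), RingHom.comp_apply, hg']
  have key : κ ''ᵁ N = W I a b ⊓ W I c b := by
    apply le_antisymm
    · apply le_inf
      · rintro _ ⟨q, -, rfl⟩
        have : κ q ∈ Set.range κ := ⟨q, rfl⟩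
        rw [hr] at this
        exact this
      · apply le_W
        have hle : N ≤ κ ⁻¹ᵁ (κ ''ᵁ N) := (Scheme.Hom.preimage_image_eq κ N).ge
        obtain ⟨θ, hθ⟩ : ∃ θ, θ = (κ.appLE (κ ''ᵁ N) N hle).hom := ⟨_, rfl⟩
        have hθbij : Function.Bijective θ := by
          rw [hθ, ← Scheme.Hom.appIso_hom' κ N]
          exact ConcreteCategory.bijective_of_isIso (κ.appIso N).hom
        have hφ : phi (cmap I a) N = θ.comp (phi b (κ ''ᵁ N)) := by
          rw [hθ, ← hκ]
          exact phi_comp κ b (κ ''ᵁ N) N hle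
        have hu : IsUnit (rho I a (𝟙 _) N (gen I a c hc)) := by
          rw [hrho N]
          subst hNdef
          exact (Spec (CommRingCat.of ↥(BlowUp.affineAlgebra A I a))).toRingedSpace.isUnit_res_basicOpen g'
        have hc' := phi_cmap_eq I a c hc N
        have hnzN : phi (cmap I a) N c ∈ nonZeroDivisors _ := by
          rw [hc']
          exact mul_mem hu.mem_nonZeroDivisors (phi_cmap_nzd I a N)
        constructor
        · apply nzd_of_map_nzd θ hθbij.1
          have : θ (phi b (κ ''ᵁ N) c) = phi (cmap I a) N c := by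
            rw [hφ, RingHom.comp_apply]
          rw [this]
          exact hnzN
        · intro x hx
          obtain ⟨y, hy⟩ := phi_cmap_mem I a N x hx
          obtain ⟨u, hu'⟩ := hu
          obtain ⟨y', hy'⟩ := hθbij.2 (y * ↑u⁻¹)
          refine ⟨y', hθbij.1 ?_⟩
          rw [map_mul, hy']
          have e1 : θ (phi b (κ ''ᵁ N) x) = phi (cmap I a) N x := by
            rw [hφ, RingHom.comp_apply]
          have e2 : θ (phi b (κ ''ᵁ N) c) = phi (cmap I a) N c := by
            rw [hφ, RingHom.comp_apply]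
          rw [e1, e2, hy, hc', ← hu']
          rw [mul_assoc, ← mul_assoc (↑u⁻¹ : Γ(Spec (CommRingCat.of ↥(BlowUp.affineAlgebra A I a)), N)),
            Units.inv_mul, one_mul]
    · rintro z ⟨hza, hzc⟩
      have hz' : z ∈ Set.range κ := by
        rw [hr]
        exact hza
      obtain ⟨q, rfl⟩ := hz'
      obtain ⟨V, hV, hzV⟩ := (mem_W_iff I c b _).mp hzc
      refine ⟨q, ?_, rfl⟩
      obtain ⟨N', hN'⟩ : ∃ N' : (Spec (CommRingCat.of ↥(BlowUp.affineAlgebra A I a))).Opens,
        N' = κ ⁻¹ᵁ V := ⟨_, rfl⟩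
      have hle : N' ≤ κ ⁻¹ᵁ V := hN'.le
      obtain ⟨θ, hθ⟩ : ∃ θ, θ = (κ.appLE V N' hle).hom := ⟨_, rfl⟩
      have hφ : phi (cmap I a) N' = θ.comp (phi b V) := by
        rw [hθ, ← hκ]
        exact phi_comp κ b V N' hle
      obtain ⟨y, hy⟩ := hV.2 a ha
      have h1 : phi (cmap I a) N' a = θ y * phi (cmap I a) N' c := by
        rw [hφ, RingHom.comp_apply, RingHom.comp_apply, hy, map_mul]
      rw [phi_cmap_eq I a c hc N'] at h1
      have hnz := phi_cmap_nzd I a N'
      have h2 : phi (cmap I a) N' a * (θ y * rho I a (𝟙 _) N' (gen I a c hc) - 1) = 0 := by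
        linear_combination -h1
      have h3 : θ y * rho I a (𝟙 _) N' (gen I a c hc) = 1 :=
        sub_eq_zero.mp ((mem_nonZeroDivisors_iff.mp hnz).1 _ h2)
      have hu : IsUnit (rX (le_top : N' ≤ ⊤) g') := by
        rw [← hrho N']
        exact IsUnit.of_mul_eq_one_right _ h3
      have h4 : (Spec (CommRingCat.of ↥(BlowUp.affineAlgebra A I a))).basicOpen
          (rX (le_top : N' ≤ ⊤) g') = N' := Scheme.basicOpen_of_isUnit _ hu
      have h5 : (Spec (CommRingCat.of ↥(BlowUp.affineAlgebra A I a))).basicOpen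
          (rX (le_top : N' ≤ ⊤) g') = N' ⊓ (Spec (CommRingCat.of ↥(BlowUp.affineAlgebra A I a))).basicOpen g' :=
        Scheme.basicOpen_res _ g' (homOfLE (le_top : N' ≤ ⊤)).op
      have hqN' : q ∈ N' := by
        rw [hN']
        exact hzV
      have h6 : q ∈ N' ⊓ (Spec (CommRingCat.of ↥(BlowUp.affineAlgebra A I a))).basicOpen g' := by
        rw [← h5, h4]
        exact hqN'
      rw [SetLike.mem_coe, hNdef]
      exact h6.2
  rw [← key]
  exact hN.image_of_isOpenImmersion κ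

end BlowCov
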