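import Mathlib
import Groth.Prelude.Def_LCI2
import Groth.Prelude.Def_RegImm
import Groth.Prelude.Def_PP16

/-!
# fpqc descent of ideals locally generated by sequences of a given kind: generic skeleton (helper2)

`NGen`, descent of the number of generators along flat local homomorphisms, spreading out.
APPEND-ONLY once landed.
-/

set_option autoImplicit false
universe u

namespace Groth.Agent.Lib.FpqcReg

section ngen

variable {R : Type u} [CommRing R]

/-- generated by at most `n` elements -/
def NGen (I : Ideal R) (n : ℕ) : Prop :=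
  ∃ m : ℕ, m ≤ n ∧ ∃ x : Fin m → R, I = Ideal.span (Set.range x)

lemma NGen.mono {I : Ideal R} {n n' : ℕ} (h : NGen I n) (hn : n ≤ n') : NGen I n' := by
  obtain ⟨m, hm, x, hx⟩ := h
  exact ⟨m, hm.trans hn, x, hx⟩

lemma NGen.map {C : Type u} [CommRing C] (f : R →+* C) {I : Ideal R} {n : ℕ} (h : NGen I n) :
    NGen (I.map f) n := by
  obtain ⟨m, hm, x, hx⟩ := h
  refine ⟨m, hm, f ∘ x, ?_⟩
  rw [hx, Ideal.map_span, Set.range_comp]

lemma ofList_eq_span_range_get (l : List R) : Ideal.ofList l = Ideal.span (Set.range l.get) := by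
  rw [Set.range_list_get]

lemma ngen_ofList (l : List R) : NGen (Ideal.ofList l) l.length :=
  ⟨l.length, le_rfl, l.get, ofList_eq_span_range_get l⟩

lemma ofList_ofFn {m : ℕ} (x : Fin m → R) :
    Ideal.ofList (List.ofFn x) = Ideal.span (Set.range x) := by
  show Ideal.span {a | a ∈ List.ofFn x} = _
  congr 1
  ext a
  simp [List.mem_ofFn]

lemma ngen_of_fg {I : Ideal R} (hI : I.FG) : ∃ n, NGen I n := by
  classical
  obtain ⟨s, hs⟩ := hI
  refine ⟨s.card, s.card, le_rfl, fun i => (s.equivFin.symm i : R), ?_⟩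
  rw [← hs]
  congr 1
  ext a
  constructor
  · intro ha
    exact ⟨s.equivFin ⟨a, ha⟩, by simp⟩
  · rintro ⟨i, rfl⟩
    exact (s.equivFin.symm i).2

lemma NGen.fg {I : Ideal R} {n : ℕ} (h : NGen I n) : I.FG := by
  obtain ⟨m, -, x, hx⟩ := h
  rw [hx]
  exact Submodule.fg_span (Set.finite_range x)

end ngen

section unitrel

/-- in a local ring, if `r` elements and `n < r` elements generate the same ideal, there is a
relation among the `r` elements with a unit coefficient. -/
theorem exists_unit_relation {R' : Type u} [CommRing R'] [IsLocalRing R'] {r n : ℕ} (hnr : n < r)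
    (x : Fin r → R') (y : Fin n → R')
    (hxy : ∀ i, x i ∈ Ideal.span (Set.range y)) (hyx : ∀ j, y j ∈ Ideal.span (Set.range x)) :
    ∃ w : Fin r → R', ∑ i, w i * x i = 0 ∧ ∃ i, IsUnit (w i) := by
  classical
  choose c hc using fun i => Ideal.mem_span_range_iff_exists_fun.mp (hxy i)
  choose d hd using fun j => Ideal.mem_span_range_iff_exists_fun.mp (hyx j)
  let κ := IsLocalRing.ResidueField R'
  let res : R' →+* κ := IsLocalRing.residue R'
  let f : (Fin r → κ) →ₗ[κ] (Fin n → κ) :=
    { toFun := fun v j => ∑ i, v i * res (c i j)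
      map_add' := by
        intro v v'
        funext j
        simp only [Pi.add_apply, add_mul, Finset.sum_add_distrib]
      map_smul' := by
        intro a v
        funext j
        simp only [Pi.smul_apply, smul_eq_mul, RingHom.id_apply, mul_assoc]
        rw [Finset.mul_sum] }
  have hninj : ¬ Function.Injective f := by
    intro hinj
    have := LinearMap.finrank_le_finrank_of_injective hinj
    rw [Module.finrank_fin_fun, Module.finrank_fin_fun] at this
    omega
  obtain ⟨v, hv0, hvne⟩ : ∃ v, f v = 0 ∧ v ≠ 0 := by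
    by_contra hcon
    push Not at hcon
    apply hninj
    rw [injective_iff_map_eq_zero]
    intro v hv
    exact hcon v hv
  obtain ⟨i0, hi0⟩ : ∃ i, v i ≠ 0 := by
    by_contra hcon
    push Not at hcon
    exact hvne (funext hcon)
  choose vt hvt using fun i => IsLocalRing.residue_surjective (v i)
  let e : Fin n → R' := fun j => ∑ i, vt i * c i j
  have he : ∀ j, res (e j) = 0 := by
    intro j
    have h1 := congrFun hv0 j
    show res (∑ i, vt i * c i j) = 0
    rw [map_sum]
    rw [← show (∑ i, v i * res (c i j)) = 0 from h1]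
    refine Finset.sum_congr rfl fun i _ => ?_
    rw [map_mul]
    congr 1
    exact hvt i
  refine ⟨fun k => vt k - ∑ j, e j * d j k, ?_, i0, ?_⟩
  · have h1 : ∑ k, vt k * x k = ∑ j, e j * y j := by
      calc ∑ k, vt k * x k = ∑ k, ∑ j, vt k * c k j * y j := by
            refine Finset.sum_congr rfl fun k _ => ?_
            rw [← hc k, Finset.mul_sum]
            refine Finset.sum_congr rfl fun j _ => ?_
            rw [mul_assoc]
        _ = ∑ j, ∑ k, vt k * c k j * y j := Finset.sum_comm
        _ = ∑ j, e j * y j := by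
            refine Finset.sum_congr rfl fun j _ => ?_
            rw [Finset.sum_mul]
    have h2 : ∑ k, (∑ j, e j * d j k) * x k = ∑ j, e j * y j := by
      calc ∑ k, (∑ j, e j * d j k) * x k = ∑ k, ∑ j, e j * (d j k * x k) := by
            refine Finset.sum_congr rfl fun k _ => ?_
            rw [Finset.sum_mul]
            refine Finset.sum_congr rfl fun j _ => ?_
            rw [mul_assoc]
        _ = ∑ j, ∑ k, e j * (d j k * x k) := Finset.sum_comm
        _ = ∑ j, e j * y j := by
            refine Finset.sum_congr rfl fun j _ => ?_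
            rw [← Finset.mul_sum, hd j]
    calc ∑ k, (vt k - ∑ j, e j * d j k) * x k
        = ∑ k, vt k * x k - ∑ k, (∑ j, e j * d j k) * x k := by
          rw [← Finset.sum_sub_distrib]
          refine Finset.sum_congr rfl fun k _ => ?_
          rw [sub_mul]
      _ = 0 := by rw [h1, h2, sub_self]
  · rw [← IsLocalRing.residue_ne_zero_iff_isUnit]
    show res (vt i0 - ∑ j, e j * d j i0) ≠ 0
    rw [map_sub, map_sum]
    have : ∑ j, res (e j * d j i0) = 0 := by
      refine Finset.sum_eq_zero fun j _ => ?_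
      rw [map_mul, he j, zero_mul]
    rw [this, sub_zero]
    rw [show res (vt i0) = v i0 from hvt i0]
    exact hi0

/-- flat descent of a relation with a unit coefficient -/
theorem mem_span_of_unit_relation {R R' : Type u} [CommRing R] [CommRing R'] [IsLocalRing R']
    (φ : R →+* R') (hφ : φ.Flat) [IsLocalHom φ] {r : ℕ} (x : Fin r → R) (w : Fin r → R')
    (hrel : ∑ i, w i * φ (x i) = 0) (i0 : Fin r) (hu : IsUnit (w i0)) :
    x i0 ∈ Ideal.span (x '' {i | i ≠ i0}) := by
  classical
  letI : Algebra R R' := φ.toAlgebra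
  haveI : Module.Flat R R' := hφ
  have hrel' : ∑ i, x i • w i = 0 := by
    rw [← hrel]
    refine Finset.sum_congr rfl fun i _ => ?_
    rw [Algebra.smul_def, mul_comm]
    rfl
  obtain ⟨k, a, z, hwz, haz⟩ := Module.Flat.isTrivialRelation_of_sum_smul_eq_zero (R := R)
    (M := R') (f := x) (x := w) hrel'
  have hex : ∃ j, IsUnit (a i0 j) := by
    by_contra hcon
    push Not at hcon
    have hmem : w i0 ∈ IsLocalRing.maximalIdeal R' := by
      rw [hwz i0]
      refine Ideal.sum_mem _ fun j _ => ?_
      rw [Algebra.smul_def]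
      apply Ideal.mul_mem_right
      rw [IsLocalRing.mem_maximalIdeal, mem_nonunits_iff]
      intro hunit
      exact hcon j (isUnit_of_map_unit φ _ hunit)
    exact (IsLocalRing.mem_maximalIdeal _).mp hmem hu
  obtain ⟨j, hj⟩ := hex
  have hsum := haz j
  have hmem : x i0 * a i0 j ∈ Ideal.span (x '' {i | i ≠ i0}) := by
    have h1 : x i0 * a i0 j = - ∑ i ∈ Finset.univ.erase i0, x i * a i j := by
      rw [eq_neg_iff_add_eq_zero,
        Finset.add_sum_erase Finset.univ (fun i => x i * a i j) (Finset.mem_univ i0)]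
      exact hsum
    rw [h1]
    apply neg_mem
    refine Ideal.sum_mem _ fun i hi => ?_
    apply Ideal.mul_mem_right
    exact Ideal.subset_span ⟨i, Finset.ne_of_mem_erase hi, rfl⟩
  exact (Ideal.mul_unit_mem_iff_mem _ hj).mp hmem

/-- descent of the number of generators along a flat local homomorphism to a local ring -/
theorem ngen_of_flat_local {R R' : Type u} [CommRing R] [CommRing R'] [IsLocalRing R']
    (φ : R →+* R') (hφ : φ.Flat) [IsLocalHom φ] (I : Ideal R) (hI : I.FG) (n : ℕ)
    (h : NGen (I.map φ) n) : NGen I n := by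
  classical
  have hex : ∃ r, ∃ x : Fin r → R, I = Ideal.span (Set.range x) := by
    obtain ⟨n0, m, -, x, hx⟩ := ngen_of_fg hI
    exact ⟨m, x, hx⟩
  obtain ⟨r, ⟨x, hx⟩, hmin⟩ : ∃ r, (∃ x : Fin r → R, I = Ideal.span (Set.range x)) ∧
      ∀ k < r, ¬ ∃ x : Fin k → R, I = Ideal.span (Set.range x) :=
    ⟨Nat.find hex, Nat.find_spec hex, fun k hk => Nat.find_min hex hk⟩
  obtain ⟨m, hm, y, hy⟩ := h
  by_cases hrm : r ≤ m
  · exact ⟨r, hrm.trans hm, x, hx⟩
  · exfalso
    push Not at hrm
    have hxy : ∀ i, φ (x i) ∈ Ideal.span (Set.range y) := by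
      intro i
      rw [← hy]
      apply Ideal.mem_map_of_mem
      rw [hx]
      exact Ideal.subset_span ⟨i, rfl⟩
    have hyx : ∀ j, y j ∈ Ideal.span (Set.range (fun i => φ (x i))) := by
      intro j
      have h1 : y j ∈ I.map φ := by
        rw [hy]
        exact Ideal.subset_span ⟨j, rfl⟩
      rw [hx, Ideal.map_span, ← Set.range_comp] at h1
      exact h1
    obtain ⟨w, hw, i0, hu⟩ := exists_unit_relation hrm (fun i => φ (x i)) y hxy hyx
    have hmem := mem_span_of_unit_relation φ hφ x w hw i0 hu
    obtain ⟨r', rfl⟩ : ∃ r', r = r' + 1 := Nat.exists_eq_succ_of_ne_zero (by omega)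
    refine hmin r' (Nat.lt_succ_self r') ⟨x ∘ i0.succAbove, ?_⟩
    rw [hx, Set.range_comp, Fin.range_succAbove,
      show ({i0}ᶜ : Set (Fin (r' + 1))) = {i | i ≠ i0} from by ext i; simp]
    apply le_antisymm
    · rw [Ideal.span_le]
      rintro _ ⟨i, rfl⟩
      by_cases hi : i = i0
      · rw [hi]
        exact hmem
      · exact Ideal.subset_span ⟨i, hi, rfl⟩
    · exact Ideal.span_mono (Set.image_subset_range _ _)

end unitrel

section spread

/-- spreading out generators of a finitely generated ideal from the local ring at `p` -/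
theorem spread {A : Type u} [CommRing A] (I : Ideal A) (hI : I.FG) (p : Ideal A) [p.IsPrime]
    (n : ℕ) (h : NGen (I.map (algebraMap A (Localization.AtPrime p))) n) :
    ∃ g : A, g ∉ p ∧ ∃ m : ℕ, m ≤ n ∧ ∃ b : Fin m → A, (∀ k, b k ∈ I) ∧
      ∀ a ∈ I, g * a ∈ Ideal.span (Set.range b) := by
  classical
  obtain ⟨m, hm, ξ, hξ⟩ := h
  have hξmem : ∀ k, ξ k ∈ I.map (algebraMap A (Localization.AtPrime p)) := fun k => by
    rw [hξ]
    exact Ideal.subset_span ⟨k, rfl⟩
  have hex : ∀ k, ∃ bs : I × p.primeCompl,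
      ξ k * algebraMap A (Localization.AtPrime p) bs.2 =
        algebraMap A (Localization.AtPrime p) bs.1 := fun k =>
    (IsLocalization.mem_map_algebraMap_iff p.primeCompl _).mp (hξmem k)
  choose bs hbs using hex
  let b : Fin m → A := fun k => ((bs k).1 : A)
  have hJ₀ : I.map (algebraMap A (Localization.AtPrime p)) ≤
      (Ideal.span (Set.range b)).map (algebraMap A (Localization.AtPrime p)) := by
    rw [hξ, Ideal.span_le]
    rintro _ ⟨k, rfl⟩
    have hu : IsUnit (algebraMap A (Localization.AtPrime p) (bs k).2) :=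
      IsLocalization.map_units _ (bs k).2
    rw [SetLike.mem_coe, ← Ideal.mul_unit_mem_iff_mem _ hu, hbs k]
    exact Ideal.mem_map_of_mem _ (Ideal.subset_span ⟨k, rfl⟩)
  have hloc : ∀ a ∈ I, ∃ t : A, t ∉ p ∧ t * a ∈ Ideal.span (Set.range b) := by
    intro a ha
    have h1 : algebraMap A (Localization.AtPrime p) a ∈
        (Ideal.span (Set.range b)).map (algebraMap A (Localization.AtPrime p)) :=
      hJ₀ (Ideal.mem_map_of_mem _ ha)
    obtain ⟨⟨c, t⟩, hct⟩ := (IsLocalization.mem_map_algebraMap_iff p.primeCompl _).mp h1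
    rw [← map_mul] at hct
    obtain ⟨t', ht'⟩ := (IsLocalization.eq_iff_exists p.primeCompl _).mp hct
    refine ⟨t' * t, (t' * t).2, ?_⟩
    have h2 : (t' : A) * (t : A) * a = t' * c := by
      rw [← ht']
      ring
    show (t' : A) * (t : A) * a ∈ _
    rw [h2]
    exact Ideal.mul_mem_left _ _ c.2
  obtain ⟨s, hs⟩ := hI
  choose! t ht using hloc
  refine ⟨∏ a ∈ s, t a, ?_, m, hm, b, fun k => (bs k).1.2, ?_⟩
  · intro hmem
    obtain ⟨a, has, ha⟩ := Ideal.IsPrime.prod_mem_iff.mp hmem
    exact (ht a (by rw [← hs]; exact Ideal.subset_span has)).1 ha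
  · intro a ha
    rw [← hs] at ha
    refine Submodule.span_induction ?_ ?_ ?_ ?_ ha
    · intro a' ha'
      rw [← Finset.mul_prod_erase s t ha', mul_comm (t a'), mul_assoc]
      exact Ideal.mul_mem_left _ _ (ht a' (by rw [← hs]; exact Ideal.subset_span ha')).2
    · rw [mul_zero]
      exact zero_mem _
    · intro u v _ _ hu hv
      rw [mul_add]
      exact add_mem hu hv
    · intro c u _ hu
      rw [smul_eq_mul, mul_left_comm]
      exact Ideal.mul_mem_left _ _ hu

theorem map_eq_of_spread {A T : Type u} [CommRing A] [CommRing T] [Algebra A T] (I : Ideal A)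
    (g : A) (hg : IsUnit (algebraMap A T g)) {m : ℕ} (b : Fin m → A) (hb : ∀ k, b k ∈ I)
    (h : ∀ a ∈ I, g * a ∈ Ideal.span (Set.range b)) :
    I.map (algebraMap A T) = Ideal.span (Set.range (fun k => algebraMap A T (b k))) := by
  apply le_antisymm
  · rw [Ideal.map_le_iff_le_comap]
    intro a ha
    have h1 := Ideal.mem_map_of_mem (algebraMap A T) (h a ha)
    rw [Ideal.map_span, ← Set.range_comp, map_mul] at h1
    exact (Ideal.unit_mul_mem_iff_mem _ hg).mp h1
  · rw [Ideal.span_le]
    rintro _ ⟨k, rfl⟩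
    exact Ideal.mem_map_of_mem _ (hb k)

end spread

end Groth.Agent.Lib.FpqcReg
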