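import Mathlib
import Groth.Agent.Lib.FpqcReg_helper2

/-!
# fpqc descent of ideals locally generated by sequences of a given kind: the main argument (helper2)
APPEND-ONLY once landed.
-/

set_option autoImplicit false
universe u

namespace Groth.Agent.Lib.FpqcReg

/-- abstract properties of a kind of sequences needed for the descent argument -/
structure Desc (P : ∀ (R : Type u) [CommRing R], List R → Prop) : Prop where
  map_flat : ∀ {R C : Type u} [CommRing R] [CommRing C] (f : R →+* C), f.Flat →
    ∀ l : List R, P R l → P C (l.map f)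
  of_top : ∀ {R : Type u} [CommRing R] (l : List R), Ideal.ofList l = ⊤ → P R l
  length_le : ∀ {R : Type u} [CommRing R] (g h : List R), P R g → Ideal.ofList g ≠ ⊤ →
    Ideal.ofList h = Ideal.ofList g → g.length ≤ h.length
  of_length_le : ∀ {R : Type u} [CommRing R] [IsLocalRing R] (g x : List R), P R g →
    Ideal.ofList g ≠ ⊤ → Ideal.ofList x = Ideal.ofList g → x.length ≤ g.length → P R x
  descent : ∀ {T : Type u} [CommRing T] (x : List T),
    (∀ m : Ideal T, m.IsMaximal → ∃ (L : Type u) (_ : CommRing L) (_ : IsLocalRing L)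
      (χ : T →+* L), χ.Flat ∧ m ≤ (IsLocalRing.maximalIdeal L).comap χ ∧ P L (x.map χ)) → P T x

/-- locally (on basic opens around the primes containing `J`) generated by a `P`-sequence -/
def LocP (P : ∀ (R : Type u) [CommRing R], List R → Prop) {R : Type u} [CommRing R]
    (J : Ideal R) : Prop :=
  ∀ q : Ideal R, q.IsPrime → J ≤ q → ∃ g : R, g ∉ q ∧ ∃ (T : Type u) (_ : CommRing T)
    (_ : Algebra R T) (_ : IsLocalization.Away g T) (l : List T),
      P T l ∧ J.map (algebraMap R T) = Ideal.ofList l

variable {P : ∀ (R : Type u) [CommRing R], List R → Prop}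

theorem locData_atPrime (hP : Desc P) {B : Type u} [CommRing B] (J : Ideal B) (q : Ideal B)
    [q.IsPrime] (g : B) (hg : g ∉ q) (T : Type u) [CommRing T] [Algebra B T]
    [IsLocalization.Away g T] (l : List T) (hl : P T l)
    (hJ : J.map (algebraMap B T) = Ideal.ofList l) :
    ∃ l' : List (Localization.AtPrime q), l'.length = l.length ∧
      P (Localization.AtPrime q) l' ∧
      J.map (algebraMap B (Localization.AtPrime q)) = Ideal.ofList l' := by
  have hu : IsUnit (algebraMap B (Localization.AtPrime q) g) :=
    IsLocalization.map_units (M := q.primeCompl) _ ⟨g, hg⟩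
  let ψ : T →+* Localization.AtPrime q := IsLocalization.Away.lift g hu
  have hψ : ψ.comp (algebraMap B T) = algebraMap B (Localization.AtPrime q) :=
    IsLocalization.Away.lift_comp g hu
  have hflat : ψ.Flat := by
    letI : Algebra T (Localization.AtPrime q) := ψ.toAlgebra
    haveI : IsScalarTower B T (Localization.AtPrime q) :=
      IsScalarTower.of_algebraMap_eq fun x => (RingHom.congr_fun hψ x).symm
    show Module.Flat T (Localization.AtPrime q)
    exact (Module.flat_iff_of_isLocalization T (Submonoid.powers g)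
      (Localization.AtPrime q)).mpr inferInstance
  refine ⟨l.map ψ, List.length_map _, hP.map_flat ψ hflat l hl, ?_⟩
  rw [← hψ, ← Ideal.map_map, hJ, Ideal.map_ofList]

theorem fg_of_locP {B : Type u} [CommRing B] (J : Ideal B) (h : LocP P J) : J.FG := by
  let S : Set B := {g | (J.map (algebraMap B (Localization.Away g))).FG}
  have hS : Ideal.span S = ⊤ := by
    by_contra hne
    obtain ⟨q, hq, hle⟩ := Ideal.exists_le_maximal _ hne
    haveI := hq.isPrime
    by_cases hJq : J ≤ q
    · obtain ⟨g, hg, T, _, _, _, l, -, hl⟩ := h q hq.isPrime hJq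
      apply hg
      apply hle
      apply Ideal.subset_span
      show (J.map (algebraMap B (Localization.Away g))).FG
      let e : T ≃ₐ[B] Localization.Away g :=
        IsLocalization.algEquiv (Submonoid.powers g) T (Localization.Away g)
      have hcomp : algebraMap B (Localization.Away g) =
          (e : T →+* Localization.Away g).comp (algebraMap B T) := by
        ext x
        exact (e.commutes x).symm
      rw [hcomp, ← Ideal.map_map, hl, Ideal.map_ofList]
      exact (ngen_ofList _).fg
    · obtain ⟨h0, hh0J, hh0q⟩ := SetLike.not_le_iff_exists.mp hJq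
      apply hh0q
      apply hle
      apply Ideal.subset_span
      show (J.map (algebraMap B (Localization.Away h0))).FG
      have htop : J.map (algebraMap B (Localization.Away h0)) = ⊤ :=
        Ideal.eq_top_of_isUnit_mem _ (Ideal.mem_map_of_mem _ hh0J)
          (IsLocalization.Away.algebraMap_isUnit h0)
      rw [htop]
      exact ⟨{1}, by simp⟩
  exact Ideal.fg_of_localizationSpan S hS (fun g => g.2)

section main

variable (A B : Type u) [CommRing A] [CommRing B] [Algebra A B]

/-- compatibility of the two ways of extending `I` to `B_q` -/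
lemma map_localRingHom (I : Ideal A) (q : Ideal B) [q.IsPrime] (p : Ideal A) [p.IsPrime]
    (hpq : p = q.comap (algebraMap A B)) :
    (I.map (algebraMap A (Localization.AtPrime p))).map
        (Localization.localRingHom p q (algebraMap A B) hpq) =
      (I.map (algebraMap A B)).map (algebraMap B (Localization.AtPrime q)) := by
  rw [Ideal.map_map, Ideal.map_map]
  congr 1
  ext a
  exact Localization.localRingHom_to_map p q (algebraMap A B) hpq a

/-- the locus where `I` is contained in the prime and is locally generated by `≤ n` elements -/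
def Wset (I : Ideal A) (n : ℕ) : Set (PrimeSpectrum A) :=
  {p | I ≤ p.asIdeal ∧ NGen (I.map (algebraMap A (Localization.AtPrime p.asIdeal))) n}

lemma ofList_ne_top_of_le {B : Type u} [CommRing B] (J : Ideal B) (q : Ideal B) [q.IsPrime]
    (hJq : J ≤ q) (l : List (Localization.AtPrime q))
    (hJl : J.map (algebraMap B (Localization.AtPrime q)) = Ideal.ofList l) :
    Ideal.ofList l ≠ ⊤ := by
  rw [← hJl]
  intro htop
  have h1 : J.map (algebraMap B (Localization.AtPrime q)) ≤
      IsLocalRing.maximalIdeal (Localization.AtPrime q) := by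
    rw [← Localization.AtPrime.map_eq_maximalIdeal]
    exact Ideal.map_mono hJq
  exact (IsLocalRing.maximalIdeal.isMaximal _).ne_top (top_le_iff.mp (htop ▸ h1))

theorem isClosed_Wset (hP : Desc P) [Module.FaithfullyFlat A B] (I : Ideal A) (hI : I.FG)
    (h : LocP P (I.map (algebraMap A B))) (n : ℕ) : IsClosed (Wset A I n) := by
  have hflat : (algebraMap A B).Flat := by
    rw [RingHom.flat_algebraMap_iff]
    infer_instance
  have hq : Topology.IsQuotientMap (PrimeSpectrum.comap (algebraMap A B)) :=
    PrimeSpectrum.isQuotientMap_of_generalizingMap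
      PrimeSpectrum.comap_surjective_of_faithfullyFlat
      (RingHom.Flat.generalizingMap_comap hflat)
  rw [(Topology.isQuotientMap_iff_isClosed.mp hq).2]
  rw [← isOpen_compl_iff, isOpen_iff_forall_mem_open]
  intro q' hq'
  by_cases hJq : I.map (algebraMap A B) ≤ q'.asIdeal
  · obtain ⟨g, hg, T, _, _, _, l, hl, hJl⟩ := h q'.asIdeal q'.isPrime hJq
    refine ⟨(PrimeSpectrum.basicOpen g : Set _), ?_, (PrimeSpectrum.basicOpen g).isOpen, hg⟩
    intro q'' hq''g hq''W
    have hq''g' : g ∉ q''.asIdeal := hq''g
    obtain ⟨hIq'', hn''⟩ := hq''W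
    apply hq'
    obtain ⟨l'', hlen'', hPl'', hJl''⟩ :=
      locData_atPrime hP (I.map (algebraMap A B)) q''.asIdeal g hq''g' T l hl hJl
    have hJq'' : I.map (algebraMap A B) ≤ q''.asIdeal := by
      rw [Ideal.map_le_iff_le_comap]
      exact hIq''
    have hne'' : Ideal.ofList l'' ≠ ⊤ := ofList_ne_top_of_le _ _ hJq'' l'' hJl''
    have hn2 : NGen ((I.map (algebraMap A B)).map
        (algebraMap B (Localization.AtPrime q''.asIdeal))) n := by
      rw [← map_localRingHom A B I q''.asIdeal (q''.asIdeal.comap (algebraMap A B)) rfl]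
      exact hn''.map _
    obtain ⟨m, hm, y, hy⟩ := hn2
    have hlen : l''.length ≤ m := by
      have h1 := hP.length_le l'' (List.ofFn y) hPl'' hne'' (by rw [ofList_ofFn, ← hy, hJl''])
      simpa using h1
    obtain ⟨l', hlen', hPl', hJl'⟩ :=
      locData_atPrime hP (I.map (algebraMap A B)) q'.asIdeal g hg T l hl hJl
    have hn1 : NGen ((I.map (algebraMap A B)).map
        (algebraMap B (Localization.AtPrime q'.asIdeal))) n := by
      rw [hJl']
      exact (ngen_ofList l').mono (by omega)
    rw [← map_localRingHom A B I q'.asIdeal (q'.asIdeal.comap (algebraMap A B)) rfl] at hn1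
    have hn3 := ngen_of_flat_local
      (Localization.localRingHom (q'.asIdeal.comap (algebraMap A B)) q'.asIdeal
        (algebraMap A B) rfl)
      (RingHom.Flat.localRingHom hflat q'.asIdeal _ rfl) _ (hI.map _) n hn1
    exact ⟨Ideal.map_le_iff_le_comap.mp hJq, hn3⟩
  · obtain ⟨h0, hh0J, hh0q⟩ := SetLike.not_le_iff_exists.mp hJq
    refine ⟨(PrimeSpectrum.basicOpen h0 : Set _), ?_, (PrimeSpectrum.basicOpen h0).isOpen, hh0q⟩
    intro q'' hq''h hq''W
    apply hq''h
    have hle : I.map (algebraMap A B) ≤ q''.asIdeal := by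
      rw [Ideal.map_le_iff_le_comap]
      exact hq''W.1
    exact hle hh0J

/-- **fpqc descent** of ideals locally generated by `P`-sequences. -/
theorem locP_descent (hP : Desc P) [Module.FaithfullyFlat A B] (I : Ideal A)
    (h : LocP P (I.map (algebraMap A B))) : LocP P I := by
  classical
  have hflat : (algebraMap A B).Flat := by
    rw [RingHom.flat_algebraMap_iff]
    infer_instance
  have hJfg : (I.map (algebraMap A B)).FG := fg_of_locP _ h
  have hI : I.FG := Ideal.FG.of_FG_map_of_faithfullyFlat hJfg
  intro p hp hIp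
  haveI := hp
  have hex : ∃ n, NGen (I.map (algebraMap A (Localization.AtPrime p))) n := ngen_of_fg (hI.map _)
  obtain ⟨r, hr, hmin⟩ : ∃ r, NGen (I.map (algebraMap A (Localization.AtPrime p))) r ∧
      ∀ k < r, ¬ NGen (I.map (algebraMap A (Localization.AtPrime p))) k :=
    ⟨Nat.find hex, Nat.find_spec hex, fun k hk => Nat.find_min hex hk⟩
  obtain ⟨g₁, hg₁, m, hm, b, hbI, hb⟩ := spread I hI p r hr
  obtain ⟨g₂, hg₂, hstar⟩ : ∃ g₂ : A, g₂ ∉ p ∧ ∀ p' : Ideal A, ∀ _ : p'.IsPrime, g₂ ∉ p' →
      I ≤ p' → ∀ k < r, ¬ NGen (I.map (algebraMap A (Localization.AtPrime p'))) k := by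
    rcases Nat.eq_zero_or_pos r with h0 | hpos
    · exact ⟨1, fun h1 => hp.ne_top ((Ideal.eq_top_iff_one _).mpr h1),
        fun p' _ _ _ k hk => by omega⟩
    · obtain ⟨n, rfl⟩ : ∃ n, r = n + 1 := Nat.exists_eq_succ_of_ne_zero (by omega)
      have hcl := isClosed_Wset A B hP I hI h n
      have hpW : (⟨p, hp⟩ : PrimeSpectrum A) ∈ (Wset A I n)ᶜ :=
        fun hW => hmin n (Nat.lt_succ_self n) hW.2
      obtain ⟨U, ⟨g₂, rfl⟩, hpU, hUW⟩ :=
        PrimeSpectrum.isTopologicalBasis_basic_opens.exists_subset_of_mem_open hpW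
          hcl.isOpen_compl
      refine ⟨g₂, hpU, fun p' hp' hg' hIp' k hk hN => ?_⟩
      exact hUW (show (⟨p', hp'⟩ : PrimeSpectrum A) ∈ _ from hg') ⟨hIp', hN.mono (by omega)⟩
  have hgp : g₁ * g₂ ∉ p := fun hmem => (hp.mem_or_mem hmem).elim hg₁ hg₂
  have hu₁ : IsUnit (algebraMap A (Localization.Away (g₁ * g₂)) g₁) := by
    have hu : IsUnit (algebraMap A (Localization.Away (g₁ * g₂)) (g₁ * g₂)) :=
      IsLocalization.Away.algebraMap_isUnit _
    rw [map_mul] at hu
    exact isUnit_of_mul_isUnit_left hu
  have hIT : I.map (algebraMap A (Localization.Away (g₁ * g₂))) =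
      Ideal.ofList (List.ofFn (fun k => algebraMap A (Localization.Away (g₁ * g₂)) (b k))) := by
    rw [ofList_ofFn]
    exact map_eq_of_spread I g₁ hu₁ b hbI hb
  refine ⟨g₁ * g₂, hgp, Localization.Away (g₁ * g₂), inferInstance, inferInstance, inferInstance,
    List.ofFn (fun k => algebraMap A (Localization.Away (g₁ * g₂)) (b k)), ?_, hIT⟩
  apply hP.descent
  intro M hM
  haveI := hM.isPrime
  have hgM : g₁ * g₂ ∉ M.comap (algebraMap A (Localization.Away (g₁ * g₂))) := fun hmem =>
    hM.ne_top (Ideal.eq_top_of_isUnit_mem _ hmem (IsLocalization.Away.algebraMap_isUnit _))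
  have hg₂M : g₂ ∉ M.comap (algebraMap A (Localization.Away (g₁ * g₂))) := fun hmem =>
    hgM (Ideal.mul_mem_left _ _ hmem)
  obtain ⟨q', hq'prime, hq'over⟩ : ∃ q' : Ideal B, q'.IsPrime ∧
      q'.comap (algebraMap A B) = M.comap (algebraMap A (Localization.Away (g₁ * g₂))) := by
    obtain ⟨q, hq⟩ := PrimeSpectrum.comap_surjective_of_faithfullyFlat (A := A) (B := B)
      ⟨M.comap (algebraMap A (Localization.Away (g₁ * g₂))), inferInstance⟩
    exact ⟨q.asIdeal, q.isPrime, congrArg PrimeSpectrum.asIdeal hq⟩
  haveI := hq'prime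
  have hu : IsUnit (algebraMap A (Localization.AtPrime q') (g₁ * g₂)) := by
    rw [IsScalarTower.algebraMap_apply A B (Localization.AtPrime q')]
    apply IsLocalization.map_units (M := q'.primeCompl) (Localization.AtPrime q')
      ⟨algebraMap A B (g₁ * g₂), ?_⟩
    show algebraMap A B (g₁ * g₂) ∉ q'
    intro hmem
    apply hgM
    rw [← hq'over]
    exact hmem
  let χ : Localization.Away (g₁ * g₂) →+* Localization.AtPrime q' :=
    IsLocalization.Away.lift (g₁ * g₂) hu
  have hχ : χ.comp (algebraMap A (Localization.Away (g₁ * g₂))) =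
      algebraMap A (Localization.AtPrime q') := IsLocalization.Away.lift_comp (g₁ * g₂) hu
  have hχflat : χ.Flat := by
    letI : Algebra (Localization.Away (g₁ * g₂)) (Localization.AtPrime q') := χ.toAlgebra
    haveI : IsScalarTower A (Localization.Away (g₁ * g₂)) (Localization.AtPrime q') :=
      IsScalarTower.of_algebraMap_eq fun x => (RingHom.congr_fun hχ x).symm
    haveI : Module.Flat A (Localization.AtPrime q') := Module.Flat.trans A B _
    show Module.Flat (Localization.Away (g₁ * g₂)) (Localization.AtPrime q')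
    exact (Module.flat_iff_of_isLocalization (Localization.Away (g₁ * g₂))
      (Submonoid.powers (g₁ * g₂)) (Localization.AtPrime q')).mpr inferInstance
  have hMle : M ≤ (IsLocalRing.maximalIdeal (Localization.AtPrime q')).comap χ := by
    intro t ht
    rw [Ideal.mem_comap, IsLocalRing.mem_maximalIdeal, mem_nonunits_iff]
    intro hunit
    obtain ⟨⟨a, s⟩, has⟩ := IsLocalization.surj (Submonoid.powers (g₁ * g₂)) t
    have ha : a ∈ M.comap (algebraMap A (Localization.Away (g₁ * g₂))) := by
      show algebraMap A (Localization.Away (g₁ * g₂)) a ∈ M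
      rw [← has]
      exact Ideal.mul_mem_right _ _ ht
    have h1 : χ (algebraMap A (Localization.Away (g₁ * g₂)) a) ∈
        IsLocalRing.maximalIdeal (Localization.AtPrime q') := by
      rw [show χ (algebraMap A (Localization.Away (g₁ * g₂)) a) =
        algebraMap A (Localization.AtPrime q') a from RingHom.congr_fun hχ a,
        IsScalarTower.algebraMap_apply A B (Localization.AtPrime q'),
        IsLocalization.AtPrime.to_map_mem_maximal_iff (Localization.AtPrime q') q']
      rw [← hq'over] at ha
      exact ha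
    apply (IsLocalRing.mem_maximalIdeal _).mp h1
    rw [← has, map_mul]
    apply hunit.mul
    rw [show χ (algebraMap A (Localization.Away (g₁ * g₂)) (s : A)) =
      algebraMap A (Localization.AtPrime q') (s : A) from RingHom.congr_fun hχ s]
    obtain ⟨k, hk⟩ := s.2
    rw [← hk, map_pow]
    exact hu.pow k
  refine ⟨Localization.AtPrime q', inferInstance, inferInstance, χ, hχflat, hMle, ?_⟩
  have hJL : (I.map (algebraMap A B)).map (algebraMap B (Localization.AtPrime q')) =
      Ideal.ofList ((List.ofFn (fun k => algebraMap A (Localization.Away (g₁ * g₂)) (b k))).map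
        χ) := by
    rw [← Ideal.map_ofList, ← hIT, Ideal.map_map, Ideal.map_map, hχ,
      IsScalarTower.algebraMap_eq A B (Localization.AtPrime q')]
  by_cases hIp' : I ≤ M.comap (algebraMap A (Localization.Away (g₁ * g₂)))
  · have hJq' : I.map (algebraMap A B) ≤ q' := by
      rw [Ideal.map_le_iff_le_comap, hq'over]
      exact hIp'
    obtain ⟨g', hg', T', _, _, _, l, hl, hJl⟩ := h q' hq'prime hJq'
    obtain ⟨l', hlen', hPl', hJl'⟩ := locData_atPrime hP _ q' g' hg' T' l hl hJl
    have hne : Ideal.ofList l' ≠ ⊤ := ofList_ne_top_of_le _ _ hJq' l' hJl'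
    have hn1 : NGen ((I.map (algebraMap A B)).map (algebraMap B (Localization.AtPrime q')))
        l'.length := by
      rw [hJl']
      exact ngen_ofList l'
    rw [← map_localRingHom A B I q' (M.comap (algebraMap A (Localization.Away (g₁ * g₂))))
      hq'over.symm] at hn1
    have hn2 := ngen_of_flat_local
      (Localization.localRingHom (M.comap (algebraMap A (Localization.Away (g₁ * g₂)))) q'
        (algebraMap A B) hq'over.symm)
      (RingHom.Flat.localRingHom hflat q' _ hq'over.symm) _ (hI.map _) _ hn1
    have hrl : r ≤ l'.length := by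
      by_contra hlt
      push Not at hlt
      exact hstar _ inferInstance hg₂M hIp' _ hlt hn2
    apply hP.of_length_le l' _ hPl' hne (by rw [← hJL, hJl'])
    rw [List.length_map, List.length_ofFn]
    omega
  · apply hP.of_top
    rw [← hJL]
    obtain ⟨a, haI, hap'⟩ := SetLike.not_le_iff_exists.mp hIp'
    apply Ideal.eq_top_of_isUnit_mem _
      (Ideal.mem_map_of_mem _ (Ideal.mem_map_of_mem _ haI))
    apply IsLocalization.map_units (M := q'.primeCompl) (Localization.AtPrime q')
      ⟨algebraMap A B a, ?_⟩
    show algebraMap A B a ∉ q'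
    intro hmem
    apply hap'
    rw [← hq'over]
    exact hmem

end main

end Groth.Agent.Lib.FpqcReg
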