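import Mathlib
import Groth.Agent.Lib.FpqcReg2_helper2
import Groth.Agent.Lib.KoszulSplit_helper2
import Groth.Agent.Lib.KRegIdeal_helper2
import Groth.Agent.Lib.KoszulFlat_helper9
import Groth.Agent.Lib.KoszulBC_helper2

/-!
# fpqc descent of Koszul-regular ideals (helper2)
APPEND-ONLY once landed.
-/

set_option autoImplicit false
universe u
open CategoryTheory CategoryTheory.Limits TensorProduct

namespace Groth.Agent.Lib.FpqcReg

/-- joint faithful flatness of a family of flat local algebras hitting all maximal ideals -/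
theorem eq_zero_of_joint_flat {T : Type u} [CommRing T] {M : Type u} [AddCommGroup M]
    [Module T M] (z : M)
    (h : ∀ m : Ideal T, m.IsMaximal → ∃ (L : Type u) (_ : CommRing L) (_ : IsLocalRing L)
      (_ : Algebra T L), Module.Flat T L ∧
        m ≤ (IsLocalRing.maximalIdeal L).comap (algebraMap T L) ∧
        (1 : L) ⊗ₜ[T] z = 0) : z = 0 := by
  by_contra hz
  let ann : Ideal T := LinearMap.ker (LinearMap.toSpanSingleton T M z)
  have hann : ann ≠ ⊤ := by
    intro htop
    apply hz
    have h1 : (1 : T) ∈ ann := by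
      rw [htop]
      trivial
    have h2 : LinearMap.toSpanSingleton T M z 1 = 0 := h1
    rw [LinearMap.toSpanSingleton_apply, one_smul] at h2
    exact h2
  obtain ⟨m, hm, hle⟩ := Ideal.exists_le_maximal ann hann
  obtain ⟨L, _, _, _, hflat, hmle, h1⟩ := h m hm
  have h2 : z ⊗ₜ[T] (1 : L) = (0 : M ⊗[T] L) := by
    have h3 := congrArg (TensorProduct.comm T L M) h1
    rw [TensorProduct.comm_tmul, map_zero] at h3
    exact h3
  have hinj : Function.Injective (LinearMap.rTensor L
      (Submodule.span T (Set.range (fun _ : Fin 1 => z))).subtype) :=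
    Module.Flat.rTensor_preserves_injective_linearMap _ (Submodule.injective_subtype _)
  have hsum : ∑ i : Fin 1, (fun _ : Fin 1 => z) i ⊗ₜ[T] (fun _ : Fin 1 => (1 : L)) i =
      (0 : M ⊗[T] L) := by
    rw [Fin.sum_univ_one]
    exact h2
  obtain ⟨k, a, y, hy, ha⟩ :=
    TensorProduct.vanishesTrivially_of_sum_tmul_eq_zero_of_rTensor_injective T hinj hsum
  have hmem : (1 : L) ∈ IsLocalRing.maximalIdeal L := by
    have h5 : (1 : L) = ∑ j, a 0 j • y j := hy 0
    rw [h5]
    refine Ideal.sum_mem _ fun j _ => ?_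
    rw [Algebra.smul_def]
    apply Ideal.mul_mem_right
    apply hmle
    apply hle
    show LinearMap.toSpanSingleton T M z (a 0 j) = 0
    have h4 := ha j
    rw [Fin.sum_univ_one] at h4
    rw [LinearMap.toSpanSingleton_apply]
    exact h4
  exact (IsLocalRing.maximalIdeal.isMaximal L).ne_top ((Ideal.eq_top_iff_one _).mpr hmem)

section koszul

open Groth.Agent.Lib.KoszulSplit Groth.Agent.Lib.KRegIdeal

/-- descent of the vanishing of Koszul cohomology along a jointly faithfully flat family -/
theorem koszul_descent {T : Type u} [CommRing T] (x : List T) (i : ℤ)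
    (h : ∀ m : Ideal T, m.IsMaximal → ∃ (L : Type u) (_ : CommRing L) (_ : IsLocalRing L)
      (χ : T →+* L), χ.Flat ∧ m ≤ (IsLocalRing.maximalIdeal L).comap χ ∧
        IsZero ((Koszul.koszul L (x.map χ)).homology i)) :
    IsZero ((Koszul.koszul T x).homology i) := by
  refine Groth.Agent.Lib.KoszulTopH7.isZero_homology_of_eq
    (Groth.Agent.Lib.KoszulTopH7.koszul_eq x) i ?_
  rw [isZero_iff_subsingleton]
  refine ⟨fun a b => ?_⟩
  suffices hz : ∀ z : ((CohIII.koszulCx (ModuleCat.of T T) x).homology i), z = 0 by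
    rw [hz a, hz b]
  intro z
  apply eq_zero_of_joint_flat (T := T) z
  intro m hm
  obtain ⟨L, _, _, χ, hχ, hmle, hzero⟩ := h m hm
  letI : Algebra T L := χ.toAlgebra
  refine ⟨L, inferInstance, inferInstance, χ.toAlgebra, hχ, hmle, ?_⟩
  haveI := ModuleCat.preservesFiniteLimits_extendScalars_of_flat hχ
  have hz1 : IsZero ((CohIII.koszulCx (ModuleCat.of L L) (x.map χ)).homology i) :=
    Groth.Agent.Lib.KoszulTopH7.isZero_homology_of_eq
      (Groth.Agent.Lib.KoszulTopH7.koszul_eq (x.map χ)).symm i hzero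
  let e : ((ModuleCat.extendScalars.{u, u, u} χ).obj (ModuleCat.of T T)) ≅ ModuleCat.of L L :=
    (Groth.Agent.KoszulFlat9.extendScalarsSelfEquiv χ).toModuleIso
  have hz2 : IsZero ((CohIII.koszulCx ((ModuleCat.extendScalars.{u, u, u} χ).obj
      (ModuleCat.of T T)) (x.map χ)).homology i) :=
    IsZero.of_iso hz1 ((HomologicalComplex.homologyFunctor _ _ i).mapIso
      (Groth.Agent.Lib.KoszulBC.koszulCxIso e (x.map χ)))
  have hz3 : IsZero ((((ModuleCat.extendScalars.{u, u, u} χ).mapHomologicalComplex
      (ComplexShape.up ℤ)).obj (CohIII.koszulCx (ModuleCat.of T T) x)).homology i) :=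
    IsZero.of_iso hz2 ((HomologicalComplex.homologyFunctor _ _ i).mapIso
      (Groth.Agent.KoszulFlat9.koszulMapIso (ModuleCat.extendScalars.{u, u, u} χ) χ
        (Groth.Agent.KoszulFlat9.extendScalars_map_smul_id χ) (ModuleCat.of T T) x))
  have hz4 : IsZero ((ModuleCat.extendScalars.{u, u, u} χ).obj
      ((CohIII.koszulCx (ModuleCat.of T T) x).homology i)) :=
    IsZero.of_iso hz3
      (((CohIII.koszulCx (ModuleCat.of T T) x).sc i).mapHomologyIso
        (ModuleCat.extendScalars.{u, u, u} χ)).symm
  haveI hss : Subsingleton ((ModuleCat.extendScalars.{u, u, u} χ).obj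
      ((CohIII.koszulCx (ModuleCat.of T T) x).homology i)) :=
    ModuleCat.subsingleton_of_isZero hz4
  exact hss.elim _ _

lemma koszul_of_top {R : Type u} [CommRing R] (l : List R) (h : Ideal.ofList l = ⊤) (i : ℤ) :
    IsZero ((Koszul.koszul R l).homology i) := by
  obtain ⟨hh⟩ := nullHomotopic_koszul R l 1 (by rw [h]; trivial)
  have h1 := homologyMap_eq_zero_of_homotopy _ hh i
  rw [one_smul, HomologicalComplex.homologyMap_id] at h1
  exact (IsZero.iff_id_eq_zero _).mpr h1

/-- the Koszul-regular kind -/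
def PK : ∀ (R : Type u) [CommRing R], List R → Prop := fun R _ l => LCI.IsKoszulRegularSeq R l

theorem desc_koszul : Desc PK.{u} where
  map_flat := fun f hf l hl => kreg_map_of_flat f hf l hl
  of_top := fun l h i _ => koszul_of_top l h i
  length_le := fun g h hg hne hh => ((main18935 _ hne g hg rfl g rfl).mp hg) h hh
  of_length_le := fun g x hg hne hx hlen => (main18935 _ hne g hg rfl x hx).mpr
    (fun h hh => hlen.trans (((main18935 _ hne g hg rfl g rfl).mp hg) h hh))
  descent := fun x h i hi => koszul_descent x i (fun m hm => by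
    obtain ⟨L, _, _, χ, hχ, hmle, hP⟩ := h m hm
    exact ⟨L, inferInstance, inferInstance, χ, hχ, hmle, hP i hi⟩)

/-- **S9251** -/
theorem main9251 (A B : Type u) [CommRing A] [CommRing B] [Algebra A B]
    [Module.FaithfullyFlat A B] (I : Ideal A)
    (h : LCI.IsKoszulRegularIdeal (Ideal.map (algebraMap A B) I)) :
    LCI.IsKoszulRegularIdeal I := by
  have h1 : LocP PK (I.map (algebraMap A B)) := by
    intro q hq hle
    obtain ⟨g, hg, l, hl, hI⟩ := h ⟨q, hq⟩ hle
    exact ⟨g, hg, Localization.Away g, inferInstance, inferInstance, inferInstance, l, hl, hI⟩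
  have h2 : LocP PK I := locP_descent A B desc_koszul I h1
  exact (kr_iff I).mpr h2

end koszul

end Groth.Agent.Lib.FpqcReg
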