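import Mathlib
import Groth.Agent.Lib.FpqcReg2_helper2

/-!
# fpqc descent of ideals locally generated by sequences of a given kind: finite families (helper2)
APPEND-ONLY once landed.
-/

set_option autoImplicit false
universe u

namespace Groth.Agent.Lib.FpqcReg

variable {P : ∀ (R : Type u) [CommRing R], List R → Prop}

/-- `(B_j)_a` is the localisation of `Π B_j` at `Pi.single j a`. -/
lemma isLocalization_away_single {ι : Type u} [DecidableEq ι] (B : ι → Type u)
    [∀ j, CommRing (B j)] (j : ι) (a : B j) (T : Type u) [CommRing T] [Algebra (B j) T]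
    [IsLocalization.Away a T] :
    @IsLocalization.Away (Π j, B j) _ (Pi.single j a) T _
      ((algebraMap (B j) T).comp (Pi.evalRingHom B j)).toAlgebra := by
  letI : Algebra (Π j, B j) T := ((algebraMap (B j) T).comp (Pi.evalRingHom B j)).toAlgebra
  have halg : ∀ x : Π j, B j, algebraMap (Π j, B j) T x = algebraMap (B j) T (x j) := fun x => rfl
  refine IsLocalization.Away.mk _ ?_ ?_ ?_
  · rw [halg, Pi.single_eq_same]
    exact IsLocalization.Away.algebraMap_isUnit a
  · intro t
    obtain ⟨n, b, hb⟩ := IsLocalization.Away.surj a t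
    refine ⟨n, Pi.single j b, ?_⟩
    rw [halg, halg, Pi.single_eq_same, Pi.single_eq_same]
    exact hb
  · intro x y hxy
    rw [halg, halg] at hxy
    obtain ⟨n, hn⟩ := IsLocalization.Away.exists_of_eq (x := a) hxy
    refine ⟨n + 1, ?_⟩
    funext k
    by_cases hk : k = j
    · subst hk
      simp only [Pi.mul_apply, Pi.pow_apply, Pi.single_eq_same]
      rw [pow_succ', mul_assoc, mul_assoc, hn]
    · simp only [Pi.mul_apply, Pi.pow_apply, Pi.single_eq_of_ne hk]
      rw [zero_pow (Nat.succ_ne_zero n), zero_mul, zero_mul]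

theorem locP_pi {A : Type u} [CommRing A] {ι : Type u} [Finite ι] [DecidableEq ι]
    (B : ι → Type u) [∀ j, CommRing (B j)] (φ : ∀ j, A →+* B j) (I : Ideal A)
    (h : ∀ j, LocP P (I.map (φ j))) : LocP P (I.map (Pi.ringHom φ)) := by
  intro q hq hle
  obtain ⟨⟨j, qj⟩, hqj⟩ := (PrimeSpectrum.sigmaToPi_bijective B).2 ⟨q, hq⟩
  have hq' : q = qj.asIdeal.comap (Pi.evalRingHom B j) := by
    have h1 := congrArg PrimeSpectrum.asIdeal hqj
    rw [PrimeSpectrum.sigmaToPi_apply] at h1
    exact h1.symm
  have hle' : I.map (φ j) ≤ qj.asIdeal := by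
    rw [Ideal.map_le_iff_le_comap]
    intro a ha
    have h1 := hle (Ideal.mem_map_of_mem _ ha)
    rw [hq'] at h1
    exact h1
  obtain ⟨a, ha, T, _, _, _, l, hl, hJ⟩ := h j qj.asIdeal qj.isPrime hle'
  letI : Algebra (Π j, B j) T := ((algebraMap (B j) T).comp (Pi.evalRingHom B j)).toAlgebra
  refine ⟨Pi.single j a, ?_, T, inferInstance, inferInstance,
    isLocalization_away_single B j a T, l, hl, ?_⟩
  · rw [hq']
    show (Pi.single j a : Π j, B j) j ∉ qj.asIdeal
    rw [Pi.single_eq_same]
    exact ha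
  · rw [Ideal.map_map]
    have h1 : (algebraMap (Π j, B j) T).comp (Pi.ringHom φ) =
        (algebraMap (B j) T).comp (φ j) := by
      ext x
      rfl
    rw [h1, ← Ideal.map_map]
    exact hJ

/-- fpqc descent along a finite jointly surjective family of flat ring maps -/
theorem locP_descent_family (hP : Desc P) {A : Type u} [CommRing A] {ι : Type u} [Finite ι]
    (B : ι → Type u) [∀ j, CommRing (B j)] (φ : ∀ j, A →+* B j) (hφ : ∀ j, (φ j).Flat)
    (hsurj : ∀ p : PrimeSpectrum A, ∃ j, ∃ q : PrimeSpectrum (B j),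
      PrimeSpectrum.comap (φ j) q = p)
    (I : Ideal A) (h : ∀ j, LocP P (I.map (φ j))) : LocP P I := by
  classical
  haveI := Fintype.ofFinite ι
  letI : ∀ j, Algebra A (B j) := fun j => (φ j).toAlgebra
  haveI : ∀ j, Module.Flat A (B j) := fun j => hφ j
  have halg : algebraMap A (Π j, B j) = Pi.ringHom φ := rfl
  haveI : Module.Flat A (Π j, B j) :=
    Module.Flat.of_linearEquiv (DFinsupp.linearEquivFunOnFintype (R := A) (M := B)).symm
  haveI : Module.FaithfullyFlat A (Π j, B j) := by
    apply Module.FaithfullyFlat.of_comap_surjective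
    intro p
    obtain ⟨j, q, hq⟩ := hsurj p
    refine ⟨PrimeSpectrum.comap (Pi.evalRingHom B j) q, ?_⟩
    rw [← hq]
    rfl
  apply locP_descent A (Π j, B j) hP I
  rw [halg]
  exact locP_pi B φ I h

end Groth.Agent.Lib.FpqcReg
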