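import Mathlib
import Groth.Prelude.Def_Koszul
import Groth.Prelude.Def_LCI2
import Groth.Agent.Lib.KoszulSwap_helper2
import Groth.Agent.Lib.KoszulBC_helper2
import Groth.Agent.Lib.KoszulTop_helper7
import Groth.Agent.Lib.KRegIdeal_helper2

/-!
# Composition of Koszul-regular sequences (helper2)

If `f` is Koszul-regular in `A` and the image of `g` is Koszul-regular in `A / (f)`, then `g ++ f`
(and `f ++ g`) is Koszul-regular in `A`.
-/

set_option autoImplicit false
universe u
open CategoryTheory CategoryTheory.Limits CochainComplex HomComplex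

namespace Groth.Agent.Lib.KoszulComp

open Groth.Agent.Lib.KoszulSwap

variable {A : Type u} [CommRing A]

/-- cones of multiplication by a scalar preserve quasi-isomorphisms -/
lemma quasiIso_cone_map {K L : CochainComplex (ModuleCat.{u} A) ℤ} (φ : K ⟶ L) [QuasiIso φ]
    (y : A) (comm : (y • 𝟙 K) ≫ φ = φ ≫ (y • 𝟙 L)) :
    QuasiIso (mappingCone.map (y • 𝟙 K) (y • 𝟙 L) φ φ comm) := by
  letI : HasDerivedCategory (ModuleCat.{u} A) := HasDerivedCategory.standard _
  rw [← DerivedCategory.isIso_Q_map_iff_quasiIso]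
  have hφ : IsIso (DerivedCategory.Q.map φ) := by
    rw [DerivedCategory.isIso_Q_map_iff_quasiIso]; infer_instance
  exact Pretriangulated.isIso₃_of_isIso₁₂
    (DerivedCategory.Q.mapTriangle.map (mappingCone.triangleMap (y • 𝟙 K) (y • 𝟙 L) φ φ comm))
    (DerivedCategory.mappingCone_triangle_distinguished _)
    (DerivedCategory.mappingCone_triangle_distinguished _) hφ hφ

lemma smul_comm_hom {K L : CochainComplex (ModuleCat.{u} A) ℤ} (φ : K ⟶ L) (y : A) :
    (y • 𝟙 K) ≫ φ = φ ≫ (y • 𝟙 L) := by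
  rw [Linear.smul_comp, Linear.comp_smul, Category.id_comp, Category.comp_id]

/-- the induced map on iterated cones -/
noncomputable def iterMap : ∀ (ys : List A) {K L : CochainComplex (ModuleCat.{u} A) ℤ}
    (_ : K ⟶ L), iterCone ys K ⟶ iterCone ys L
  | [], _, _, φ => φ
  | y :: ys, _, _, φ =>
    mappingCone.map (y • 𝟙 _) (y • 𝟙 _) (iterMap ys φ) (iterMap ys φ) (smul_comm_hom _ y)

lemma quasiIso_iterMap : ∀ (ys : List A) {K L : CochainComplex (ModuleCat.{u} A) ℤ}
    (φ : K ⟶ L) [QuasiIso φ], QuasiIso (iterMap ys φ)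
  | [], _, _, _, h => h
  | y :: ys, _, _, φ, _ => by
    haveI := quasiIso_iterMap ys φ
    exact quasiIso_cone_map (iterMap ys φ) y _

lemma isZero_homology_iterCone_of_quasiIso (ys : List A)
    {K L : CochainComplex (ModuleCat.{u} A) ℤ} (φ : K ⟶ L) [QuasiIso φ] (i : ℤ)
    (h : IsZero ((iterCone ys L).homology i)) : IsZero ((iterCone ys K).homology i) := by
  haveI := quasiIso_iterMap ys φ
  exact IsZero.of_iso h (asIso (HomologicalComplex.homologyMap (iterMap ys φ) i))

lemma iterCone_single (M : ModuleCat.{u} A) : ∀ ys : List A,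
    iterCone ys ((HomologicalComplex.single (ModuleCat.{u} A) (ComplexShape.up ℤ) 0).obj M) =
      CohIII.koszulCx M ys
  | [] => rfl
  | y :: ys => by
    show mappingCone (y • 𝟙 (iterCone ys _)) = mappingCone (y • 𝟙 (CohIII.koszulCx M ys))
    rw [iterCone_single M ys]

/-- restriction of scalars preserves vanishing of cohomology -/
lemma isZero_homology_restrict {R T : Type u} [CommRing R] [CommRing T] (ψ : R →+* T)
    (C : CochainComplex (ModuleCat.{u} T) ℤ) (i : ℤ) (h : IsZero (C.homology i)) :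
    IsZero ((((ModuleCat.restrictScalars.{u} ψ).mapHomologicalComplex
      (ComplexShape.up ℤ)).obj C).homology i) := by
  rw [Groth.Agent.Lib.KoszulBC.exact_iff_isZero_homology _ (i - 1) i (i + 1) (by omega) rfl] at h ⊢
  exact h

/-- the `A`-module `A / I` as the restriction of scalars of the `A/I`-module `A/I` -/
noncomputable def restrictQuotIso (I : Ideal A) :
    (ModuleCat.restrictScalars.{u} (Ideal.Quotient.mk I)).obj (ModuleCat.of (A ⧸ I) (A ⧸ I)) ≅
      ModuleCat.of A (A ⧸ I) :=
  LinearEquiv.toModuleIso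
    { toFun := fun x => x
      map_add' := fun _ _ => rfl
      map_smul' := fun _ _ => rfl
      invFun := fun x => x
      left_inv := fun _ => rfl
      right_inv := fun _ => rfl }

/-- Koszul cohomology of `A/(f)` over `A` with respect to `g` -/
lemma isZero_homology_koszulCx_quot (f g : List A)
    (hg : LCI.IsKoszulRegularSeq (A ⧸ Ideal.ofList f)
      (g.map (Ideal.Quotient.mk (Ideal.ofList f)))) (i : ℤ) (hi : i ≠ 0) :
    IsZero ((CohIII.koszulCx (ModuleCat.of A (A ⧸ Ideal.ofList f)) g).homology i) := by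
  have h1 := Groth.Agent.Lib.KoszulTopH7.isZero_homology_of_eq
    (Groth.Agent.Lib.KoszulTopH7.koszul_eq
      (g.map (Ideal.Quotient.mk (Ideal.ofList f)))).symm i (hg i hi)
  have h2 := isZero_homology_restrict (Ideal.Quotient.mk (Ideal.ofList f)) _ i h1
  have h3 : IsZero ((CohIII.koszulCx ((ModuleCat.restrictScalars.{u}
      (Ideal.Quotient.mk (Ideal.ofList f))).obj
        (ModuleCat.of (A ⧸ Ideal.ofList f) (A ⧸ Ideal.ofList f))) g).homology i) :=
    IsZero.of_iso h2 ((HomologicalComplex.homologyFunctor _ _ i).mapIso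
      (Groth.Agent.Lib.KoszulBC.restrictKoszulIso (Ideal.Quotient.mk (Ideal.ofList f))
        (ModuleCat.of (A ⧸ Ideal.ofList f) (A ⧸ Ideal.ofList f)) g)).symm
  exact IsZero.of_iso h3 ((HomologicalComplex.homologyFunctor _ _ i).mapIso
    (Groth.Agent.Lib.KoszulBC.koszulCxIso (restrictQuotIso (Ideal.ofList f)) g)).symm

/-- **Composition of Koszul-regular sequences.** -/
theorem kreg_append (f g : List A) (hf : LCI.IsKoszulRegularSeq A f)
    (hg : LCI.IsKoszulRegularSeq (A ⧸ Ideal.ofList f)
      (g.map (Ideal.Quotient.mk (Ideal.ofList f)))) :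
    LCI.IsKoszulRegularSeq A (g ++ f) := by
  intro i hi
  refine Groth.Agent.Lib.KoszulTopH7.isZero_homology_of_eq (koszul_append A g f) i ?_
  set K := Koszul.koszul A f with hK
  have hKeq : K = CohIII.koszulCx (ModuleCat.of A A) f := Groth.Agent.Lib.KoszulTopH7.koszul_eq f
  haveI : K.IsStrictlyLE 0 := by
    rw [CochainComplex.isStrictlyLE_iff]
    intro n hn
    rw [hKeq]
    exact (Groth.Agent.Lib.KoszulTopH7.topData (ModuleCat.of A A) f).isZero_pos n hn
  haveI : K.IsGE 0 := by
    rw [CochainComplex.isGE_iff]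
    intro n hn
    rw [HomologicalComplex.exactAt_iff_isZero_homology]
    exact hf n (ne_of_lt hn)
  obtain ⟨M, ⟨e⟩⟩ := (K.truncGE 0).exists_iso_single 0
  let φ : K ⟶ (HomologicalComplex.single (ModuleCat.{u} A) (ComplexShape.up ℤ) 0).obj M :=
    K.πTruncGE 0 ≫ e.hom
  haveI : QuasiIso φ := by
    show QuasiIso (K.πTruncGE 0 ≫ e.hom)
    infer_instance
  apply isZero_homology_iterCone_of_quasiIso g φ i
  rw [iterCone_single]
  -- identify `M`
  have eM : Nonempty (M ≅ ModuleCat.of A (A ⧸ Ideal.ofList f)) := by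
    have e1 : M ≅ ((HomologicalComplex.single (ModuleCat.{u} A) (ComplexShape.up ℤ) 0).obj M).homology 0 :=
      (HomologicalComplex.singleObjHomologySelfIso (ComplexShape.up ℤ) 0 M).symm
    have e2 : K.homology 0 ≅
        ((HomologicalComplex.single (ModuleCat.{u} A) (ComplexShape.up ℤ) 0).obj M).homology 0 :=
      asIso (HomologicalComplex.homologyMap φ 0)
    obtain ⟨e3⟩ := Groth.Agent.Lib.KoszulTopH7.top_equiv' A f 0 rfl
    have e3' : K.homology 0 ≅ (CohIII.koszulCx (ModuleCat.of A A) f).homology 0 :=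
      (HomologicalComplex.homologyFunctor _ _ 0).mapIso (eqToIso hKeq)
    have h : (Ideal.ofList f • (⊤ : Submodule A A)) = Ideal.ofList f := by
      rw [smul_eq_mul, Ideal.mul_top]
    exact ⟨e1 ≪≫ e2.symm ≪≫ e3' ≪≫ (e3.trans (Submodule.quotEquivOfEq _ _ h)).toModuleIso⟩
  obtain ⟨eM⟩ := eM
  exact IsZero.of_iso (isZero_homology_koszulCx_quot f g hg i hi)
    ((HomologicalComplex.homologyFunctor _ _ i).mapIso
      (Groth.Agent.Lib.KoszulBC.koszulCxIso eM g))

theorem kreg_append' (f g : List A) (hf : LCI.IsKoszulRegularSeq A f)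
    (hg : LCI.IsKoszulRegularSeq (A ⧸ Ideal.ofList f)
      (g.map (Ideal.Quotient.mk (Ideal.ofList f)))) :
    LCI.IsKoszulRegularSeq A (f ++ g) := by
  intro i hi
  obtain ⟨e⟩ := koszul_perm A (List.perm_append_comm (l₁ := f) (l₂ := g))
  exact IsZero.of_iso (kreg_append f g hf hg i hi)
    ((HomologicalComplex.homologyFunctor _ _ i).mapIso e)

end Groth.Agent.Lib.KoszulComp
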