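import Mathlib
import Groth.Prelude.Def_RegImm
import Groth.Agent.Lib.KoszulComp_helper2
import Groth.Agent.Lib.KRegIdeal_helper2

/-!
# Composition of Koszul-regular immersions (helper2)
-/

set_option autoImplicit false
universe u
open CategoryTheory CategoryTheory.Limits AlgebraicGeometry TopologicalSpace

namespace Groth.Agent.Lib.RegImmComp

section algebra

/-- kernel of a localised ring map -/
lemma ker_localization {R S R' S' : Type*} [CommRing R] [CommRing S] [CommRing R'] [CommRing S']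
    (φ : R →+* S) (φ' : R' →+* S') (ρ : R →+* R') (σ : S →+* S')
    (hcomm : φ'.comp ρ = σ.comp φ) (a : R)
    (hρ : @IsLocalization.Away _ _ a R' _ ρ.toAlgebra)
    (hσ : @IsLocalization.Away _ _ (φ a) S' _ σ.toAlgebra) :
    RingHom.ker φ' = (RingHom.ker φ).map ρ := by
  have hc : ∀ x, φ' (ρ x) = σ (φ x) := fun x => RingHom.congr_fun hcomm x
  apply le_antisymm
  · intro x' hx'
    rw [RingHom.mem_ker] at hx'
    letI := ρ.toAlgebra
    haveI := hρ
    obtain ⟨n, r, hr⟩ := IsLocalization.Away.surj a x'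
    have hr' : x' * ρ a ^ n = ρ r := hr
    have h0 : σ (φ r) = σ 0 := by
      rw [← hc, ← hr', map_mul, hx', zero_mul, map_zero]
    obtain ⟨⟨_, m, rfl⟩, hm⟩ :=
      (@IsLocalization.exists_of_eq _ _ (Submonoid.powers (φ a)) S' _ σ.toAlgebra hσ _ _ h0)
    have hmem : a ^ m * r ∈ RingHom.ker φ := by
      rw [RingHom.mem_ker, map_mul, map_pow]
      simpa using hm
    have h1 : ρ (a ^ m * r) ∈ (RingHom.ker φ).map ρ := Ideal.mem_map_of_mem ρ hmem
    have hu : IsUnit (ρ a) := IsLocalization.Away.algebraMap_isUnit a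
    have h2 : ρ (a ^ m * r) = ρ a ^ (m + n) * x' := by
      rw [map_mul, map_pow, ← hr', pow_add]; ring
    rw [h2] at h1
    have hu' : IsUnit (ρ a ^ (m + n)) := hu.pow _
    obtain ⟨v, hv⟩ := hu'
    have : x' = (↑v⁻¹ : R') * (ρ a ^ (m + n) * x') := by
      rw [← hv, ← mul_assoc, Units.inv_mul, one_mul]
    rw [this]
    exact Ideal.mul_mem_left _ _ h1
  · rw [Ideal.map_le_iff_le_comap]
    intro x hx
    rw [RingHom.mem_ker] at hx
    rw [Ideal.mem_comap, RingHom.mem_ker, hc, hx, map_zero]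

end algebra

section scheme

variable {X Y Z : Scheme.{u}}

lemma isClosedImmersion_restrict_of_le (i : Z ⟶ X) {U W : X.Opens} (hWU : W ≤ U)
    (h : IsClosedImmersion (i ∣_ U)) : IsClosedImmersion (i ∣_ W) := by
  have h1 : IsClosedImmersion (i ∣_ U ∣_ (U.ι ⁻¹ᵁ W)) := inferInstance
  have h2 := (MorphismProperty.arrow_mk_iso_iff @IsClosedImmersion
    (morphismRestrictRestrict i U (U.ι ⁻¹ᵁ W))).mp h1
  have e : U.ι ''ᵁ (U.ι ⁻¹ᵁ W) = W := by
    rw [Scheme.Hom.image_preimage_eq_opensRange_inf, Scheme.Opens.opensRange_ι]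
    exact inf_eq_right.mpr hWU
  exact (MorphismProperty.arrow_mk_iso_iff @IsClosedImmersion (morphismRestrictEq i e)).mp h2

lemma app_surjective_of_eq (i : Z ⟶ X) {W W' : X.Opens} (e : W' = W)
    (h : Function.Surjective (i.app W').hom) : Function.Surjective (i.app W).hom := by
  subst e; exact h

lemma affine_and_surjective (i : Z ⟶ X) {W : X.Opens} (hW : IsAffineOpen W)
    (h : IsClosedImmersion (i ∣_ W)) :
    IsAffineOpen (i ⁻¹ᵁ W) ∧ Function.Surjective (i.app W).hom := by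
  haveI : IsAffine (W : Scheme) := hW
  obtain ⟨h1, h2⟩ := IsClosedImmersion.isAffine_surjective_of_isAffine (i ∣_ W)
  refine ⟨h1, ?_⟩
  rw [morphismRestrict_appTop] at h2
  apply app_surjective_of_eq i W.ι_image_top
  have h3 : Function.Surjective
      ((Z.presheaf.map (eqToHom (image_morphismRestrict_preimage i W ⊤)).op).hom ∘
        (i.app (W.ι ''ᵁ ⊤)).hom) := h2
  exact Function.Surjective.of_comp_left h3
    ((ConcreteCategory.bijective_of_isIso
      (Z.presheaf.map (eqToHom (image_morphismRestrict_preimage i W ⊤)).op)).1)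

lemma ker_app_basicOpen (i : Z ⟶ X) {U : X.Opens} (hU : IsAffineOpen U)
    (hZU : IsAffineOpen (i ⁻¹ᵁ U)) (a : Γ(X, U)) (W : X.Opens) (hW : W = X.basicOpen a)
    (hWU : W ≤ U) :
    RingHom.ker (i.app W).hom =
      (RingHom.ker (i.app U).hom).map (X.presheaf.map (homOfLE hWU).op).hom := by
  have hle : i ⁻¹ᵁ W ≤ i ⁻¹ᵁ U := fun _ hx => hWU hx
  refine ker_localization (i.app U).hom (i.app W).hom (X.presheaf.map (homOfLE hWU).op).hom
    (Z.presheaf.map (homOfLE hle).op).hom ?_ a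
    (hU.isLocalization_of_eq_basicOpen a (homOfLE hWU) hW)
    (hZU.isLocalization_of_eq_basicOpen ((i.app U).hom a) (homOfLE hle)
      (by rw [hW, Scheme.preimage_basicOpen]))
  have := i.naturality (homOfLE hWU).op
  rw [← CommRingCat.hom_comp, ← CommRingCat.hom_comp]
  exact congrArg CommRingCat.Hom.hom this

/-- shrinking a Koszul-regular presentation of an immersion to a basic open -/
theorem shrink (i : Z ⟶ X) {U : X.Opens} (hU : IsAffineOpen U)
    (hcU : IsClosedImmersion (i ∣_ U)) (rs : List Γ(X, U))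
    (hrs : LCI.IsKoszulRegularSeq Γ(X, U) rs)
    (hkU : RingHom.ker (i.app U).hom = Ideal.ofList rs)
    (a : Γ(X, U)) (W : X.Opens) (hW : W = X.basicOpen a) :
    IsAffineOpen W ∧ IsClosedImmersion (i ∣_ W) ∧
      ∃ rs' : List Γ(X, W), rs'.length = rs.length ∧ LCI.IsKoszulRegularSeq Γ(X, W) rs' ∧
        RingHom.ker (i.app W).hom = Ideal.ofList rs' := by
  have hWU : W ≤ U := hW ▸ X.basicOpen_le a
  have hWaff : IsAffineOpen W := hW ▸ hU.basicOpen a
  obtain ⟨hZU, -⟩ := affine_and_surjective i hU hcU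
  refine ⟨hWaff, isClosedImmersion_restrict_of_le i hWU hcU,
    rs.map (X.presheaf.map (homOfLE hWU).op).hom, List.length_map _, ?_, ?_⟩
  · letI := (X.presheaf.map (homOfLE hWU).op).hom.toAlgebra
    haveI : IsLocalization (Submonoid.powers a) Γ(X, W) :=
      hU.isLocalization_of_eq_basicOpen a (homOfLE hWU) hW
    exact Groth.Agent.Lib.KRegIdeal.kreg_map_of_isLocalization (Submonoid.powers a) rs hrs
  · rw [ker_app_basicOpen i hU hZU a W hW hWU, hkU, Ideal.map_ofList]

/-- **Composition at a point.** -/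
theorem comp_at (i : Y ⟶ X) (j : Z ⟶ Y) (z : Z)
    (U : X.affineOpens) (hxU : i (j z) ∈ U.1) (hcU : IsClosedImmersion (i ∣_ U.1))
    (rs : List Γ(X, U.1)) (hrs : LCI.IsKoszulRegularSeq Γ(X, U.1) rs)
    (hkU : RingHom.ker (i.app U.1).hom = Ideal.ofList rs)
    (V : Y.affineOpens) (hyV : j z ∈ V.1) (hcV : IsClosedImmersion (j ∣_ V.1))
    (ss : List Γ(Y, V.1)) (hss : LCI.IsKoszulRegularSeq Γ(Y, V.1) ss)
    (hkV : RingHom.ker (j.app V.1).hom = Ideal.ofList ss) :
    ∃ W : X.affineOpens, (j ≫ i) z ∈ W.1 ∧ IsClosedImmersion ((j ≫ i) ∣_ W.1) ∧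
      ∃ ts : List Γ(X, W.1), ts.length = ss.length + rs.length ∧
        LCI.IsKoszulRegularSeq Γ(X, W.1) ts ∧
        RingHom.ker ((j ≫ i).app W.1).hom = Ideal.ofList ts := by
  obtain ⟨hYU, hsurjU⟩ := affine_and_surjective i U.2 hcU
  have hyU : j z ∈ i ⁻¹ᵁ U.1 := hxU
  obtain ⟨b, b', hbb', hyb⟩ := exists_basicOpen_le_affine_inter hYU V.2 (j z) ⟨hyU, hyV⟩
  obtain ⟨a, ha⟩ := hsurjU b
  have hW' : i ⁻¹ᵁ X.basicOpen a = Y.basicOpen b := by
    rw [Scheme.preimage_basicOpen]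
    exact congrArg Y.basicOpen ha
  obtain ⟨hWaff, hcW, rs', hlen, hrs', hkW⟩ :=
    shrink i U.2 hcU rs hrs hkU a (X.basicOpen a) rfl
  obtain ⟨hV'aff, hcV', ss', hlen', hss', hkV'⟩ :=
    shrink j V.2 hcV ss hss hkV b' (i ⁻¹ᵁ X.basicOpen a) (hW'.trans hbb')
  obtain ⟨-, hsurjW⟩ := affine_and_surjective i hWaff hcW
  obtain ⟨ts0, hts0⟩ := (List.map_surjective_iff.mpr hsurjW) ss'
  refine ⟨⟨X.basicOpen a, hWaff⟩, ?_, ?_, ts0 ++ rs', ?_, ?_, ?_⟩
  · show j z ∈ i ⁻¹ᵁ X.basicOpen a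
    rw [hW']; exact hyb
  · show IsClosedImmersion ((j ≫ i) ∣_ X.basicOpen a)
    haveI := hcW
    haveI := hcV'
    have h : IsClosedImmersion (j ∣_ (i ⁻¹ᵁ X.basicOpen a) ≫ i ∣_ X.basicOpen a) := inferInstance
    rw [morphismRestrict_comp]
    exact h
  · rw [List.length_append, hlen, ← hlen', ← hts0, List.length_map]
  · apply Groth.Agent.Lib.KoszulComp.kreg_append rs' ts0 hrs'
    let e0 : (Γ(X, X.basicOpen a) ⧸ RingHom.ker (i.app (X.basicOpen a)).hom) ≃+*
        Γ(Y, i ⁻¹ᵁ X.basicOpen a) :=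
      RingHom.quotientKerEquivOfSurjective hsurjW
    let e : Γ(Y, i ⁻¹ᵁ X.basicOpen a) ≃+* (Γ(X, X.basicOpen a) ⧸ Ideal.ofList rs') :=
      e0.symm.trans (Ideal.quotEquivOfEq hkW)
    have h1 := Groth.Agent.Lib.KRegIdeal.kreg_map_equiv e ss' hss'
    have h2 : ss'.map e = ts0.map (Ideal.Quotient.mk (Ideal.ofList rs')) := by
      rw [← hts0, List.map_map]
      apply List.map_congr_left
      intro x _
      show e ((i.app (X.basicOpen a)).hom x) = _
      have : e0.symm ((i.app (X.basicOpen a)).hom x) = Ideal.Quotient.mk _ x := by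
        rw [RingEquiv.symm_apply_eq]
        rfl
      show (Ideal.quotEquivOfEq hkW) (e0.symm ((i.app (X.basicOpen a)).hom x)) = _
      rw [this]
      rfl
    rw [h2] at h1
    exact h1
  · show RingHom.ker ((j ≫ i).app (X.basicOpen a)).hom = _
    have hcomp : ∀ x, ((j ≫ i).app (X.basicOpen a)).hom x =
        (j.app (i ⁻¹ᵁ X.basicOpen a)).hom ((i.app (X.basicOpen a)).hom x) := by
      intro x; rw [Scheme.Hom.comp_app]; rfl
    have hk : RingHom.ker ((j ≫ i).app (X.basicOpen a)).hom =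
        Ideal.comap (i.app (X.basicOpen a)).hom
          (RingHom.ker (j.app (i ⁻¹ᵁ X.basicOpen a)).hom) := by
      ext x
      rw [RingHom.mem_ker, Ideal.mem_comap, RingHom.mem_ker, hcomp]
      exact Iff.rfl
    rw [hk, hkV', ← hts0, ← Ideal.map_ofList, Ideal.comap_map_of_surjective _ hsurjW,
      ← RingHom.ker_eq_comap_bot, hkW, Ideal.ofList_append]

end scheme

end Groth.Agent.Lib.RegImmComp
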