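import Mathlib
import Groth.Prelude.Def_RegImm
import Groth.Agent.Lib.RegImmComp_helper2
import Groth.Agent.Lib.RegKindFlat_helper2

/-!
# Flat base change of regular immersions of the four kinds (helper2)
-/

set_option autoImplicit false
universe u
open CategoryTheory CategoryTheory.Limits AlgebraicGeometry TopologicalSpace

namespace Groth.Agent.Lib.RegImmBC

section algebra

/-- in a pushout square of commutative rings along a surjection `φ`, the kernel of the opposite map is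
the extension of the kernel of `φ`. -/
lemma ker_of_isPushout {A B A' P : CommRingCat.{u}} (φ : A ⟶ B) (γ : A ⟶ A') (ψ : B ⟶ P)
    (ι' : A' ⟶ P) (h : IsPushout φ γ ψ ι') (hφ : Function.Surjective φ.hom) :
    RingHom.ker ι'.hom = (RingHom.ker φ.hom).map γ.hom := by
  apply le_antisymm
  · intro x hx
    rw [RingHom.mem_ker] at hx
    set J' := (RingHom.ker φ.hom).map γ.hom with hJ'
    have hker : RingHom.ker φ.hom ≤ RingHom.ker ((Ideal.Quotient.mk J').comp γ.hom) := by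
      intro y hy
      rw [RingHom.mem_ker, RingHom.comp_apply, Ideal.Quotient.eq_zero_iff_mem]
      exact Ideal.mem_map_of_mem _ hy
    let β0 : B →+* (A' ⧸ J') :=
      RingHom.liftOfSurjective φ.hom hφ ⟨(Ideal.Quotient.mk J').comp γ.hom, hker⟩
    have hβ0 : ∀ y, β0 (φ.hom y) = Ideal.Quotient.mk J' (γ.hom y) := fun y =>
      RingHom.liftOfSurjective_comp_apply φ.hom hφ ⟨(Ideal.Quotient.mk J').comp γ.hom, hker⟩ y
    let α' : A' ⟶ CommRingCat.of (A' ⧸ J') := CommRingCat.ofHom (Ideal.Quotient.mk J')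
    let β : B ⟶ CommRingCat.of (A' ⧸ J') := CommRingCat.ofHom β0
    have comm : φ ≫ β = γ ≫ α' := by
      ext y
      exact hβ0 y
    have hd := h.inr_desc β α' comm
    have h0 : α'.hom x = 0 := by
      rw [← hd]
      show (h.desc β α' comm).hom (ι'.hom x) = 0
      rw [hx, map_zero]
    exact Ideal.Quotient.eq_zero_iff_mem.mp h0
  · rw [Ideal.map_le_iff_le_comap]
    intro y hy
    rw [RingHom.mem_ker] at hy
    rw [Ideal.mem_comap, RingHom.mem_ker]
    have hw : ψ.hom (φ.hom y) = ι'.hom (γ.hom y) := by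
      have := congrArg (fun t => t.hom y) h.w
      exact this
    rw [← hw, hy, map_zero]

end algebra

section scheme

open Groth.Agent.Lib.RegImmComp

variable {X Y X' Y' : Scheme.{u}}

/-- **Flat base change at a point.** -/
theorem bc_at (k : RegImm.Kind) (i : Y ⟶ X) (g : X' ⟶ X) [Flat g]
    (i' : Y' ⟶ X') (g' : Y' ⟶ Y) (hsq : IsPullback g' i' i g) (y' : Y')
    (U : X.affineOpens) (hxU : i (g' y') ∈ U.1) (hcU : IsClosedImmersion (i ∣_ U.1))
    (rs : List Γ(X, U.1)) (hrs : k.Seq Γ(X, U.1) rs)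
    (hkU : RingHom.ker (i.app U.1).hom = Ideal.ofList rs) :
    ∃ U' : X'.affineOpens, i' y' ∈ U'.1 ∧ IsClosedImmersion (i' ∣_ U'.1) ∧
      ∃ rs' : List Γ(X', U'.1), rs'.length = rs.length ∧ k.Seq Γ(X', U'.1) rs' ∧
        RingHom.ker (i'.app U'.1).hom = Ideal.ofList rs' := by
  have hcomm : ∀ p : Y', g (i' p) = i (g' p) := by
    intro p
    have := congrArg (fun t => t.base p) hsq.w
    exact this.symm
  have hx' : i' y' ∈ g ⁻¹ᵁ U.1 := by
    show g (i' y') ∈ U.1
    rw [hcomm]; exact hxU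
  obtain ⟨U', hU', hx'U', hU'le⟩ := (Opens.isBasis_iff_nbhd.mp X'.isBasis_affineOpens) hx'
  have hUY : i' ⁻¹ᵁ U' = g' ⁻¹ᵁ (i ⁻¹ᵁ U.1) ⊓ i' ⁻¹ᵁ U' := by
    refine (inf_eq_right.mpr ?_).symm
    intro p hp
    show i (g' p) ∈ U.1
    rw [← hcomm]
    exact hU'le hp
  obtain ⟨hYU, hsurjU⟩ := affine_and_surjective i U.2 hcU
  have hiso := isIso_pushoutSection_of_isAffineOpen hsq hU'le (le_refl (i ⁻¹ᵁ U.1)) hUY U.2 hU' hYU
  have hpo := (isIso_pushoutSection_iff hsq hU'le (le_refl (i ⁻¹ᵁ U.1)) hUY).mp hiso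
  have hk' : RingHom.ker (i'.app U').hom =
      (RingHom.ker (i.app U.1).hom).map (g.appLE U.1 U' hU'le).hom := by
    have h1 := ker_of_isPushout _ _ _ _ hpo (by rw [Scheme.Hom.appLE_eq_app]; exact hsurjU)
    simpa only [Scheme.Hom.appLE_eq_app] using h1
  have hpb := Scheme.Hom.isPullback_resLE hsq hU'le (le_refl (i ⁻¹ᵁ U.1)) hUY
  have hc1 : IsClosedImmersion (i.resLE U.1 (i ⁻¹ᵁ U.1) le_rfl) := by
    rw [Scheme.Hom.resLE_eq_morphismRestrict]; exact hcU
  have hc2 := MorphismProperty.of_isPullback (P := @IsClosedImmersion) hpb hc1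
  rw [Scheme.Hom.resLE_eq_morphismRestrict] at hc2
  have hflat : (g.appLE U.1 U' hU'le).hom.Flat :=
    HasRingHomProperty.appLE @Flat g inferInstance U ⟨U', hU'⟩ hU'le
  haveI : Nonempty ↥(i' ⁻¹ᵁ U') := ⟨⟨y', hx'U'⟩⟩
  have hne : Ideal.ofList (rs.map (g.appLE U.1 U' hU'le).hom) ≠ ⊤ := by
    rw [← Ideal.map_ofList, ← hkU, ← hk']
    exact RingHom.ker_ne_top _
  refine ⟨⟨U', hU'⟩, hx'U', hc2, rs.map (g.appLE U.1 U' hU'le).hom, List.length_map _,
    Groth.Agent.Lib.RegKindFlat.seq_map_of_flat k _ hflat rs hrs hne, ?_⟩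
  rw [hk', hkU, Ideal.map_ofList]

/-- flat base change of regular immersions of any kind, for an arbitrary cartesian square. -/
theorem isRegularImmersion_baseChange (k : RegImm.Kind) (i : Y ⟶ X) (g : X' ⟶ X) [Flat g]
    (i' : Y' ⟶ X') (g' : Y' ⟶ Y) (hsq : IsPullback g' i' i g)
    (hi : RegImm.IsRegularImmersion k i) : RegImm.IsRegularImmersion k i' := by
  obtain ⟨hi1, hi2⟩ := hi
  refine ⟨MorphismProperty.of_isPullback (P := @IsImmersion) hsq hi1, fun y' => ?_⟩
  obtain ⟨U, hxU, hcU, rs, hrs, hkU⟩ := hi2 (g' y')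
  obtain ⟨U', h1, h2, rs', -, h4, h5⟩ := bc_at k i g i' g' hsq y' U hxU hcU rs hrs hkU
  exact ⟨U', h1, h2, rs', h4, h5⟩

end scheme

end Groth.Agent.Lib.RegImmBC
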