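import Mathlib
import Groth.Prelude.Def_CAlgX

/-!
# H1-regular sequences under base change with flat quotient (helper1)
-/

set_option autoImplicit false
set_option maxHeartbeats 1000000

universe u

namespace Groth.Agent.Lib.H1RegBCH1

open TensorProduct

theorem main9273 (A B A' : Type u) [CommRing A] [CommRing B]
    [CommRing A'] [Algebra A B] [Algebra A A'] (r : ℕ) (f : Fin r → B)
    (hflat : Module.Flat A (B ⧸ Ideal.span (Set.range f))) (hq : CAlgX.IsH1Regular f) :
    CAlgX.IsH1Regular (fun i => ((1 : A') ⊗ₜ[A] f i : TensorProduct A A' B)) := by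
  classical
  intro a' ha'
  let J : Ideal B := Ideal.span (Set.range f)
  let JA : Submodule A B := J.restrictScalars A
  let φ : (Fin r → B) →ₗ[A] B := ∑ i, (LinearMap.mulRight A (f i)).comp (LinearMap.proj i)
  have hφ : ∀ b, φ b = ∑ i, b i * f i := by
    intro b
    simp [φ]
  have hφmem : ∀ b, φ b ∈ JA := by
    intro b
    rw [hφ]
    exact Ideal.sum_mem _ fun i _ => Ideal.mul_mem_left _ _ (Ideal.subset_span ⟨i, rfl⟩)
  let φJ : (Fin r → B) →ₗ[A] JA := φ.codRestrict JA hφmem
  let ι : JA →ₗ[A] B := JA.subtype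
  have hιφ : ι.comp φJ = φ := LinearMap.ext fun b => rfl
  let q : B →ₗ[A] (B ⧸ J) := (Ideal.Quotient.mkₐ A J).toLinearMap
  have hqs : Function.Surjective q := Ideal.Quotient.mkₐ_surjective A J
  have hex : Function.Exact ι q := by
    intro y
    constructor
    · intro hy
      have hy' : Ideal.Quotient.mk J y = 0 := hy
      have : y ∈ J := Ideal.Quotient.eq_zero_iff_mem.1 hy'
      exact ⟨⟨y, this⟩, rfl⟩
    · rintro ⟨z, rfl⟩
      show Ideal.Quotient.mk J (z : B) = 0
      exact Ideal.Quotient.eq_zero_iff_mem.2 z.2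
  haveI : Module.Flat A (B ⧸ J) := hflat
  have hinj : Function.Injective (ι.lTensor A') :=
    LinearMap.lTensor_injective_of_exact_of_flat q hqs ι (Submodule.subtype_injective _) hex A'
  let K : Submodule A (Fin r → B) := LinearMap.ker φJ
  have hexK : Function.Exact K.subtype φJ := LinearMap.exact_subtype_ker_map φJ
  have hsurj : Function.Surjective φJ := by
    rintro ⟨y, hy⟩
    obtain ⟨c, hc⟩ := Ideal.mem_span_range_iff_exists_fun.1
      (show y ∈ Ideal.span (Set.range f) from hy)
    refine ⟨c, Subtype.ext ?_⟩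
    show φ c = y
    rw [hφ, hc]
  have hexT : Function.Exact (K.subtype.lTensor A') (φJ.lTensor A') :=
    lTensor_exact A' hexK hsurj
  let P := TensorProduct.piRight A A A' (fun _ : Fin r => B)
  have hcomp : ∀ x : A' ⊗[A] (Fin r → B),
      (φ.lTensor A') x = ∑ i, P x i * ((1 : A') ⊗ₜ[A] f i) := by
    intro x
    induction x using TensorProduct.induction_on with
    | zero => simp
    | tmul a b =>
      rw [LinearMap.lTensor_tmul, hφ, TensorProduct.tmul_sum]
      refine Finset.sum_congr rfl fun i _ => ?_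
      show _ = (TensorProduct.piRight A A A' (fun _ : Fin r => B)) (a ⊗ₜ[A] b) i * _
      rw [TensorProduct.piRight_apply, TensorProduct.piRightHom_tmul,
        Algebra.TensorProduct.tmul_mul_tmul, mul_one]
    | add x y hx hy =>
      rw [map_add, hx, hy, ← Finset.sum_add_distrib]
      refine Finset.sum_congr rfl fun i _ => ?_
      rw [map_add, Pi.add_apply, add_mul]
  obtain ⟨x, hPx⟩ : ∃ x, P x = a' := ⟨P.symm a', P.apply_symm_apply a'⟩
  have h0 : (φ.lTensor A') x = 0 := by
    rw [hcomp, hPx]; exact ha'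
  have h1 : (φJ.lTensor A') x = 0 := by
    apply hinj
    rw [map_zero, ← LinearMap.comp_apply, ← LinearMap.lTensor_comp, hιφ]
    exact h0
  obtain ⟨y, hy⟩ := (hexT x).1 h1
  have hΘ : ∀ κ : Fin r → B, κ ∈ Submodule.span B
      {v : Fin r → B | ∃ i j : Fin r, v = Pi.single i (f j) - Pi.single j (f i)} →
      (fun i => (1 : A') ⊗ₜ[A] κ i) ∈ Submodule.span (A' ⊗[A] B)
        {v : Fin r → A' ⊗[A] B | ∃ i j : Fin r,
          v = Pi.single i ((1 : A') ⊗ₜ[A] f j) - Pi.single j ((1 : A') ⊗ₜ[A] f i)} := by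
    intro κ hκ
    induction hκ using Submodule.span_induction with
    | mem v hv =>
      obtain ⟨i, j, rfl⟩ := hv
      refine Submodule.subset_span ⟨i, j, ?_⟩
      funext k
      simp only [Pi.sub_apply, Pi.single_apply]
      split_ifs <;> simp [TensorProduct.tmul_sub, TensorProduct.tmul_neg]
    | zero =>
      have : (fun i => (1 : A') ⊗ₜ[A] (0 : Fin r → B) i) = 0 := by funext i; simp
      rw [this]; exact Submodule.zero_mem _
    | add u v _ _ hu hv =>
      have : (fun i => (1 : A') ⊗ₜ[A] (u + v) i) =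
          (fun i => (1 : A') ⊗ₜ[A] u i) + (fun i => (1 : A') ⊗ₜ[A] v i) := by
        funext i; simp [TensorProduct.tmul_add]
      rw [this]; exact Submodule.add_mem _ hu hv
    | smul b u _ hu =>
      have : (fun i => (1 : A') ⊗ₜ[A] (b • u) i) =
          ((1 : A') ⊗ₜ[A] b : A' ⊗[A] B) • (fun i => (1 : A') ⊗ₜ[A] u i) := by
        funext i
        simp [Algebra.TensorProduct.tmul_mul_tmul]
      rw [this]; exact Submodule.smul_mem _ _ hu
  have hfin : ∀ y : A' ⊗[A] K, P ((K.subtype.lTensor A') y) ∈ Submodule.span (A' ⊗[A] B)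
        {v : Fin r → A' ⊗[A] B | ∃ i j : Fin r,
          v = Pi.single i ((1 : A') ⊗ₜ[A] f j) - Pi.single j ((1 : A') ⊗ₜ[A] f i)} := by
    intro y
    induction y using TensorProduct.induction_on with
    | zero => rw [map_zero, map_zero]; exact Submodule.zero_mem _
    | tmul a κ =>
      rw [LinearMap.lTensor_tmul]
      have hκ : (κ : Fin r → B) ∈ Submodule.span B
          {v : Fin r → B | ∃ i j : Fin r, v = Pi.single i (f j) - Pi.single j (f i)} := by
        apply hq
        have h2 : φJ κ = 0 := LinearMap.mem_ker.1 κ.2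
        have h3 : φ (κ : Fin r → B) = 0 := congrArg Subtype.val h2
        rw [hφ] at h3
        exact h3
      have : P (a ⊗ₜ[A] (K.subtype κ)) = ((a ⊗ₜ[A] (1 : B) : A' ⊗[A] B)) •
          (fun i => (1 : A') ⊗ₜ[A] (κ : Fin r → B) i) := by
        funext i
        show (TensorProduct.piRight A A A' (fun _ : Fin r => B)) (a ⊗ₜ[A] (κ : Fin r → B)) i = _
        rw [TensorProduct.piRight_apply, TensorProduct.piRightHom_tmul]
        simp [Algebra.TensorProduct.tmul_mul_tmul]
      rw [this]
      exact Submodule.smul_mem _ _ (hΘ _ hκ)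
    | add y z hy hz => rw [map_add, map_add]; exact Submodule.add_mem _ hy hz
  have hres := hfin y
  rw [hy, hPx] at hres
  exact hres

end Groth.Agent.Lib.H1RegBCH1
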