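import Mathlib

/-! Flatness: extensions and directed unions. -/

open TensorProduct LinearMap

namespace FlatExtH8

variable {R : Type*} [CommRing R]

/-- An extension of flat modules is flat. -/
theorem flat_of_exact {M₁ M₂ M₃ : Type*} [AddCommGroup M₁] [Module R M₁] [AddCommGroup M₂]
    [Module R M₂] [AddCommGroup M₃] [Module R M₃] (f : M₁ →ₗ[R] M₂) (g : M₂ →ₗ[R] M₃)
    (hf : Function.Injective f) (hg : Function.Surjective g) (hfg : Function.Exact f g)
    [Module.Flat R M₁] [Module.Flat R M₃] : Module.Flat R M₂ := by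
  rw [Module.Flat.iff_rTensor_injective']
  intro I
  rw [injective_iff_map_eq_zero]
  intro x hx
  have h3 : lTensor I g x = 0 := by
    apply (Module.Flat.iff_rTensor_injective'.mp (inferInstance : Module.Flat R M₃) I)
    rw [map_zero, ← LinearMap.comp_apply, LinearMap.rTensor_comp_lTensor,
      ← LinearMap.lTensor_comp_rTensor, LinearMap.comp_apply, hx, map_zero]
  obtain ⟨w, rfl⟩ := (lTensor_exact I hfg hg x).mp h3
  have h1 : rTensor M₁ I.subtype w = 0 := by
    apply Module.Flat.lTensor_preserves_injective_linearMap (M := R) f hf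
    rw [map_zero, ← LinearMap.comp_apply, LinearMap.lTensor_comp_rTensor,
      ← LinearMap.rTensor_comp_lTensor, LinearMap.comp_apply, hx]
  have : w = 0 := by
    apply (Module.Flat.iff_rTensor_injective'.mp (inferInstance : Module.Flat R M₁) I)
    rw [h1, map_zero]
  rw [this, map_zero]

/-- A module covered by an increasing sequence of (images of) flat modules is flat. -/
theorem flat_of_cover {C : Type*} [AddCommGroup C] [Module R C] (X : ℕ → Type*)
    [∀ i, AddCommGroup (X i)] [∀ i, Module R (X i)] (j : ∀ i, X i →ₗ[R] C)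
    (hj : ∀ i, Function.Injective (j i))
    (hmono : ∀ i, LinearMap.range (j i) ≤ LinearMap.range (j (i + 1)))
    (hcov : ∀ c : C, ∃ i, c ∈ LinearMap.range (j i)) (hflat : ∀ i, Module.Flat R (X i)) :
    Module.Flat R C := by
  have hmono' : ∀ i k, i ≤ k → LinearMap.range (j i) ≤ LinearMap.range (j k) := by
    intro i k hik
    induction k, hik using Nat.le_induction with
    | base => exact le_rfl
    | succ k _ ih => exact ih.trans (hmono k)
  rw [Module.Flat.iff_rTensor_injective']
  intro I
  rw [injective_iff_map_eq_zero]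
  have key : ∀ x : I ⊗[R] C, ∃ i, x ∈ LinearMap.range (lTensor I (j i)) := by
    intro x
    induction x using TensorProduct.induction_on with
    | zero => exact ⟨0, Submodule.zero_mem _⟩
    | tmul a c =>
      obtain ⟨i, y, rfl⟩ := hcov c
      exact ⟨i, a ⊗ₜ y, by simp⟩
    | add x y hx hy =>
      obtain ⟨i, x', rfl⟩ := hx
      obtain ⟨k, y', rfl⟩ := hy
      have h1 : ∀ (i k : ℕ), i ≤ k → LinearMap.range (lTensor I (j i))
          ≤ LinearMap.range (lTensor I (j k)) := by
        intro i k hik
        rintro _ ⟨z, rfl⟩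
        induction z using TensorProduct.induction_on with
        | zero => simp
        | tmul a c =>
          obtain ⟨c', hc'⟩ := hmono' i k hik ⟨c, rfl⟩
          exact ⟨a ⊗ₜ c', by simp [hc']⟩
        | add z₁ z₂ h₁ h₂ =>
          rw [map_add]
          exact Submodule.add_mem _ h₁ h₂
      exact ⟨max i k, Submodule.add_mem _ (h1 i _ (le_max_left i k) ⟨x', rfl⟩)
        (h1 k _ (le_max_right i k) ⟨y', rfl⟩)⟩
  intro x hx
  obtain ⟨i, x', rfl⟩ := key x
  have h1 : rTensor (X i) I.subtype x' = 0 := by
    apply Module.Flat.lTensor_preserves_injective_linearMap (M := R) (j i) (hj i)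
    rw [map_zero, ← LinearMap.comp_apply, LinearMap.lTensor_comp_rTensor,
      ← LinearMap.rTensor_comp_lTensor, LinearMap.comp_apply, hx]
  have : x' = 0 := by
    apply (Module.Flat.iff_rTensor_injective'.mp (hflat i) I)
    rw [h1, map_zero]
  rw [this, map_zero]

end FlatExtH8
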