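import Mathlib
import Groth.Prelude.Def_CAlgX
import Groth.Agent.Lib.QuasiReg_helper5
import Groth.Agent.Lib.FlatExt_helper8

/-!
# Quasi-regular sequences under base change with flat quotient (helper2)

`A → B`, `f` quasi-regular in `B` with `B/(f)` flat over `A`: then `B/(f)^n` is flat over `A` for all `n`
and the image of `f` in `A' ⊗_A B` is quasi-regular for every `A`-algebra `A'`.
-/

set_option autoImplicit false
set_option maxHeartbeats 1000000
universe u

namespace Groth.Agent.Lib.QRegBC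

open TensorProduct MvPolynomial Groth.Agent.QuasiReg

section basic

variable {B : Type u} [CommRing B] {r : ℕ} (f : Fin r → B)

/-- monomials of degree `n` in `r` variables -/
noncomputable def Mon (r n : ℕ) : Finset (Fin r →₀ ℕ) :=
  (Finset.univ : Finset (Fin r)).finsuppAntidiag n

lemma mem_Mon {n : ℕ} {m : Fin r →₀ ℕ} : m ∈ Mon r n ↔ m.degree = n := by
  unfold Mon
  rw [Finset.mem_finsuppAntidiag, Finsupp.degree_eq_sum]
  constructor
  · exact fun h => h.1
  · exact fun h => ⟨h, Finset.subset_univ _⟩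

/-- the index type of monomials of degree `n` -/
abbrev MonT (r n : ℕ) : Type := {m : Fin r →₀ ℕ // m ∈ Mon r n}

/-- value of a monomial -/
noncomputable def mv (m : Fin r →₀ ℕ) : B := m.prod fun i e => f i ^ e

lemma mv_mem (m : Fin r →₀ ℕ) : mv f m ∈ Ideal.span (Set.range f) ^ m.degree :=
  prod_pow_mem f m

lemma support_subset_Mon {n : ℕ} (Q : MvPolynomial (Fin r) B) (hQ : Q.IsHomogeneous n) :
    Q.support ⊆ Mon r n := by
  intro m hm
  rw [mem_Mon, Finsupp.degree_apply]
  exact (hQ.degree_eq_sum_deg_support hm).symm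

/-- evaluation of a homogeneous polynomial as a sum over all monomials of that degree -/
lemma eval_eq_sum_Mon {n : ℕ} (Q : MvPolynomial (Fin r) B) (hQ : Q.IsHomogeneous n) :
    eval f Q = ∑ m : MonT r n, Q.coeff m.1 * mv f m.1 := by
  rw [Finset.sum_coe_sort (Mon r n) (fun m => Q.coeff m * mv f m), eval_eq]
  apply Finset.sum_subset (support_subset_Mon Q hQ)
  intro m _ hm
  rw [notMem_support_iff.mp hm, zero_mul]

/-- the polynomial with prescribed coefficients on the monomials of degree `n` -/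
noncomputable def poly {n : ℕ} (b : MonT r n → B) : MvPolynomial (Fin r) B :=
  ∑ m : MonT r n, monomial m.1 (b m)

lemma poly_isHomogeneous {n : ℕ} (b : MonT r n → B) : (poly b).IsHomogeneous n := by
  apply IsHomogeneous.sum
  intro m _
  apply isHomogeneous_monomial
  exact (mem_Mon (r := r)).mp m.2

lemma coeff_poly {n : ℕ} (b : MonT r n → B) (m : MonT r n) : (poly b).coeff m.1 = b m := by
  classical
  unfold poly
  rw [coeff_sum, Finset.sum_eq_single m]
  · rw [coeff_monomial, if_pos rfl]
  · intro m' _ hm'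
    rw [coeff_monomial, if_neg]
    intro h
    exact hm' (Subtype.ext h)
  · intro h; exact absurd (Finset.mem_univ _) h

lemma eval_poly {n : ℕ} (b : MonT r n → B) : eval f (poly b) = ∑ m : MonT r n, b m * mv f m := by
  unfold poly
  rw [map_sum]
  refine Finset.sum_congr rfl fun m _ => ?_
  rw [eval_monomial]
  rfl

/-- quasi-regularity in terms of families of coefficients -/
lemma coeff_mem_of_qr (hq : QR f) {n : ℕ} (b : MonT r n → B)
    (h : ∑ m : MonT r n, b m * mv f m ∈ Ideal.span (Set.range f) ^ (n + 1)) (m : MonT r n) :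
    b m ∈ Ideal.span (Set.range f) := by
  have := hq n (poly b) (poly_isHomogeneous b) (by rw [eval_poly]; exact h) m.1
  rwa [coeff_poly] at this

lemma sum_mem_pow {n : ℕ} (b : MonT r n → B) :
    ∑ m : MonT r n, b m * mv f m ∈ Ideal.span (Set.range f) ^ n := by
  refine Ideal.sum_mem _ fun m _ => Ideal.mul_mem_left _ _ ?_
  have h := mv_mem f m.1
  rwa [(mem_Mon (r := r)).mp m.2] at h

lemma exists_of_mem_pow {n : ℕ} (y : B) (hy : y ∈ Ideal.span (Set.range f) ^ n) :
    ∃ b : MonT r n → B, ∑ m : MonT r n, b m * mv f m = y := by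
  obtain ⟨Q, hQ, rfl⟩ := (Ideal.mem_span_pow_iff_exists_isHomogeneous f y).1 hy
  exact ⟨fun m => Q.coeff m.1, (eval_eq_sum_Mon f Q hQ).symm⟩

end basic

section flat

variable {A B : Type u} [CommRing A] [CommRing B] [Algebra A B] {r : ℕ} (f : Fin r → B)

/-- the map `b ↦ ∑ b_m f^m` -/
noncomputable def psi (n : ℕ) : (MonT r n → B) →ₗ[A] B :=
  ∑ m : MonT r n, (LinearMap.mulRight A (mv f m.1)).comp (LinearMap.proj m)

lemma psi_apply (n : ℕ) (b : MonT r n → B) : psi (A := A) f n b = ∑ m : MonT r n, b m * mv f m.1 := by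
  simp [psi]

/-- `B/J → B/J^(n+1)`, multiplication by a monomial of degree `n` -/
noncomputable def lm (n : ℕ) (m : MonT r n) :
    (B ⧸ Ideal.span (Set.range f)) →ₗ[A] (B ⧸ Ideal.span (Set.range f) ^ (n + 1)) :=
  (Submodule.liftQ (Ideal.span (Set.range f))
    ((Submodule.mkQ (Ideal.span (Set.range f) ^ (n + 1))).comp (LinearMap.mulRight B (mv f m.1)))
    (by
      intro x hx
      rw [LinearMap.mem_ker, LinearMap.comp_apply, LinearMap.mulRight_apply, Submodule.mkQ_apply]
      rw [Submodule.Quotient.mk_eq_zero, pow_succ']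
      apply Ideal.mul_mem_mul hx
      have h := mv_mem f m.1
      rwa [(mem_Mon (r := r)).mp m.2] at h)).restrictScalars A

lemma lm_mk (n : ℕ) (m : MonT r n) (x : B) :
    lm (A := A) f n m (Ideal.Quotient.mk _ x) = Ideal.Quotient.mk _ (x * mv f m.1) := rfl

/-- `(B/J)^{Mon_n} → B/J^(n+1)` -/
noncomputable def theta (n : ℕ) :
    (MonT r n → (B ⧸ Ideal.span (Set.range f))) →ₗ[A] (B ⧸ Ideal.span (Set.range f) ^ (n + 1)) :=
  ∑ m : MonT r n, (lm (A := A) f n m).comp (LinearMap.proj m)

lemma theta_mk (n : ℕ) (b : MonT r n → B) :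
    theta (A := A) f n (fun m => Ideal.Quotient.mk _ (b m)) =
      Ideal.Quotient.mk _ (∑ m : MonT r n, b m * mv f m.1) := by
  unfold theta
  rw [LinearMap.sum_apply, map_sum]
  refine Finset.sum_congr rfl fun m _ => ?_
  rw [LinearMap.comp_apply, LinearMap.proj_apply, lm_mk]

/-- `B / J^n` is flat over `A` for every `n`. -/
theorem flat_quot_pow (hq : QR f) (hflat : Module.Flat A (B ⧸ Ideal.span (Set.range f))) :
    ∀ n : ℕ, Module.Flat A (B ⧸ Ideal.span (Set.range f) ^ n) := by
  intro n
  induction n with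
  | zero =>
    haveI : Subsingleton (B ⧸ Ideal.span (Set.range f) ^ 0) := by
      rw [pow_zero, Ideal.one_eq_top]
      exact Ideal.Quotient.subsingleton_iff.mpr rfl
    infer_instance
  | succ n ih =>
    set J := Ideal.span (Set.range f) with hJ
    let π : (B ⧸ J ^ (n + 1)) →ₗ[A] (B ⧸ J ^ n) :=
      (Ideal.Quotient.factorₐ A (Ideal.pow_le_pow_right (Nat.le_succ n))).toLinearMap
    have hπ : ∀ x : B, π (Ideal.Quotient.mk _ x) = Ideal.Quotient.mk _ x := fun x => rfl
    haveI : Module.Flat A (B ⧸ J) := hflat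
    haveI : Module.Flat A (MonT r n → (B ⧸ J)) :=
      Module.Flat.of_linearEquiv
        (DFinsupp.linearEquivFunOnFintype (R := A) (M := fun _ : MonT r n => B ⧸ J)).symm
    haveI := ih
    refine FlatExtH8.flat_of_exact (theta (A := A) f n) π ?_ ?_ ?_
    · -- injective
      rw [injective_iff_map_eq_zero]
      intro c hc
      obtain ⟨b, rfl⟩ : ∃ b : MonT r n → B, (fun m => Ideal.Quotient.mk J (b m)) = c :=
        ⟨fun m => (c m).out, funext fun m => Quotient.out_eq _⟩
      rw [theta_mk, Ideal.Quotient.eq_zero_iff_mem] at hc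
      funext m
      show Ideal.Quotient.mk J (b m) = 0
      rw [Ideal.Quotient.eq_zero_iff_mem]
      exact coeff_mem_of_qr f hq b hc m
    · -- surjective
      intro z
      obtain ⟨x, rfl⟩ := Ideal.Quotient.mk_surjective z
      exact ⟨Ideal.Quotient.mk _ x, hπ x⟩
    · -- exact
      intro z
      constructor
      · intro hz
        obtain ⟨x, rfl⟩ := Ideal.Quotient.mk_surjective z
        rw [hπ, Ideal.Quotient.eq_zero_iff_mem] at hz
        obtain ⟨b, hb⟩ := exists_of_mem_pow f x hz
        exact ⟨fun m => Ideal.Quotient.mk J (b m), by rw [theta_mk, hb]⟩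
      · rintro ⟨c, rfl⟩
        obtain ⟨b, rfl⟩ : ∃ b : MonT r n → B, (fun m => Ideal.Quotient.mk J (b m)) = c :=
          ⟨fun m => (c m).out, funext fun m => Quotient.out_eq _⟩
        rw [theta_mk, hπ, Ideal.Quotient.eq_zero_iff_mem]
        exact sum_mem_pow f b

end flat

section main

variable (A B A' : Type u) [CommRing A] [CommRing B] [CommRing A'] [Algebra A B] [Algebra A A']

lemma tmul_mem_span {r : ℕ} (f : Fin r → B) (a : A') (x : B) (hx : x ∈ Ideal.span (Set.range f)) :
    (a ⊗ₜ[A] x : A' ⊗[A] B) ∈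
      Ideal.span (Set.range fun i => ((1 : A') ⊗ₜ[A] f i : A' ⊗[A] B)) := by
  obtain ⟨c, rfl⟩ := Ideal.mem_span_range_iff_exists_fun.1 hx
  rw [TensorProduct.tmul_sum]
  refine Ideal.sum_mem _ fun i _ => ?_
  have : (a ⊗ₜ[A] (c i * f i) : A' ⊗[A] B) = (a ⊗ₜ[A] c i) * ((1 : A') ⊗ₜ[A] f i) := by
    rw [Algebra.TensorProduct.tmul_mul_tmul, mul_one]
  rw [this]
  exact Ideal.mul_mem_left _ _ (Ideal.subset_span ⟨i, rfl⟩)

lemma mv_tmul {r : ℕ} (f : Fin r → B) (m : Fin r →₀ ℕ) :
    mv (fun i => ((1 : A') ⊗ₜ[A] f i : A' ⊗[A] B)) m = (1 : A') ⊗ₜ[A] mv f m := by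
  unfold mv
  have h := map_finsuppProd (Algebra.TensorProduct.includeRight (R := A) (A := A') (B := B)) m
    (fun i e => f i ^ e)
  rw [Algebra.TensorProduct.includeRight_apply] at h
  rw [h]
  refine Finsupp.prod_congr fun i _ => ?_
  rw [map_pow, Algebra.TensorProduct.includeRight_apply]

theorem main9272 (r : ℕ) (f : Fin r → B)
    (hflat : Module.Flat A (B ⧸ Ideal.span (Set.range f))) (hq : CAlgX.IsQuasiRegular f) :
    CAlgX.IsQuasiRegular (fun i => ((1 : A') ⊗ₜ[A] f i : TensorProduct A A' B)) := by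
  classical
  have hq' : QR f := hq
  show QR _
  apply ZForm.qr
  intro n P' hP' hev d
  set f' : Fin r → A' ⊗[A] B := fun i => (1 : A') ⊗ₜ[A] f i with hf'
  set J : Ideal B := Ideal.span (Set.range f) with hJ
  by_cases hd : d ∈ Mon r n
  swap
  · have : P'.coeff d = 0 := by
      by_contra hne
      exact hd (support_subset_Mon P' hP' (mem_support_iff.mpr hne))
    rw [this]; exact Submodule.zero_mem _
  let ι := MonT r n
  let JA : Submodule A B := (J ^ n).restrictScalars A
  let φ : (ι → B) →ₗ[A] B := psi (A := A) f n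
  have hφ : ∀ b, φ b = ∑ m : ι, b m * mv f m.1 := psi_apply f n
  have hφmem : ∀ b, φ b ∈ JA := by
    intro b
    rw [hφ]
    exact sum_mem_pow f b
  let φJ : (ι → B) →ₗ[A] JA := φ.codRestrict JA hφmem
  let i0 : JA →ₗ[A] B := JA.subtype
  have hιφ : i0.comp φJ = φ := LinearMap.ext fun b => rfl
  let q : B →ₗ[A] (B ⧸ J ^ n) := (Ideal.Quotient.mkₐ A (J ^ n)).toLinearMap
  have hqs : Function.Surjective q := Ideal.Quotient.mkₐ_surjective A (J ^ n)
  have hex : Function.Exact i0 q := by
    intro y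
    constructor
    · intro hy
      have hy' : Ideal.Quotient.mk (J ^ n) y = 0 := hy
      have : y ∈ J ^ n := Ideal.Quotient.eq_zero_iff_mem.1 hy'
      exact ⟨⟨y, this⟩, rfl⟩
    · rintro ⟨z, rfl⟩
      show Ideal.Quotient.mk (J ^ n) (z : B) = 0
      exact Ideal.Quotient.eq_zero_iff_mem.2 z.2
  haveI : Module.Flat A (B ⧸ J ^ n) := flat_quot_pow f hq' hflat n
  have hinj : Function.Injective (i0.lTensor A') :=
    LinearMap.lTensor_injective_of_exact_of_flat q hqs i0 (Submodule.subtype_injective _) hex A'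
  let K : Submodule A (ι → B) := LinearMap.ker φJ
  have hexK : Function.Exact K.subtype φJ := LinearMap.exact_subtype_ker_map φJ
  have hsurj : Function.Surjective φJ := by
    rintro ⟨y, hy⟩
    obtain ⟨b, hb⟩ := exists_of_mem_pow f y hy
    refine ⟨b, Subtype.ext ?_⟩
    show φ b = y
    rw [hφ, hb]
  have hexT : Function.Exact (K.subtype.lTensor A') (φJ.lTensor A') :=
    lTensor_exact A' hexK hsurj
  let PiR := TensorProduct.piRight A A A' (fun _ : ι => B)
  have hcomp : ∀ x : A' ⊗[A] (ι → B),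
      (φ.lTensor A') x = ∑ m : ι, PiR x m * ((1 : A') ⊗ₜ[A] mv f m.1) := by
    intro x
    induction x using TensorProduct.induction_on with
    | zero => simp
    | tmul a b =>
      rw [LinearMap.lTensor_tmul, hφ, TensorProduct.tmul_sum]
      refine Finset.sum_congr rfl fun m _ => ?_
      show _ = (TensorProduct.piRight A A A' (fun _ : ι => B)) (a ⊗ₜ[A] b) m * _
      rw [TensorProduct.piRight_apply, TensorProduct.piRightHom_tmul,
        Algebra.TensorProduct.tmul_mul_tmul, mul_one]
    | add x y hx hy =>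
      rw [map_add, hx, hy, ← Finset.sum_add_distrib]
      refine Finset.sum_congr rfl fun m _ => ?_
      rw [map_add, Pi.add_apply, add_mul]
  let a' : ι → A' ⊗[A] B := fun m => P'.coeff m.1
  obtain ⟨x, hPx⟩ : ∃ x, PiR x = a' := ⟨PiR.symm a', PiR.apply_symm_apply a'⟩
  have h0 : (φ.lTensor A') x = 0 := by
    rw [hcomp, hPx, ← hev, eval_eq_sum_Mon f' P' hP']
    refine Finset.sum_congr rfl fun m _ => ?_
    rw [mv_tmul]
  have h1 : (φJ.lTensor A') x = 0 := by
    apply hinj
    rw [map_zero, ← LinearMap.comp_apply, ← LinearMap.lTensor_comp, hιφ]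
    exact h0
  obtain ⟨y, hy⟩ := (hexT x).1 h1
  have hfin : ∀ y : A' ⊗[A] K, ∀ m : ι, PiR ((K.subtype.lTensor A') y) m ∈
      Ideal.span (Set.range f') := by
    intro y m
    induction y using TensorProduct.induction_on with
    | zero => rw [map_zero, map_zero]; exact Submodule.zero_mem _
    | tmul a κ =>
      rw [LinearMap.lTensor_tmul]
      have hκ : (κ : ι → B) m ∈ J := by
        apply coeff_mem_of_qr f hq' (κ : ι → B) _ m
        have h2 : φJ κ = 0 := LinearMap.mem_ker.1 κ.2
        have h3 : φ (κ : ι → B) = 0 := congrArg Subtype.val h2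
        rw [hφ] at h3
        rw [h3]
        exact Submodule.zero_mem _
      have : PiR (a ⊗ₜ[A] (K.subtype κ)) m = a ⊗ₜ[A] ((κ : ι → B) m) := by
        show (TensorProduct.piRight A A A' (fun _ : ι => B)) (a ⊗ₜ[A] (κ : ι → B)) m = _
        rw [TensorProduct.piRight_apply, TensorProduct.piRightHom_tmul]
      rw [this]
      exact tmul_mem_span A B A' f a _ hκ
    | add y z hy hz => rw [map_add, map_add]; exact Submodule.add_mem _ hy hz
  have hres := hfin y ⟨d, hd⟩
  rw [hy, hPx] at hres
  exact hres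

end main

end Groth.Agent.Lib.QRegBC
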