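import Mathlib
import Groth.Prelude.Def_RegImm
import Groth.Agent.Lib.QRegBC_helper2
import Groth.Agent.Lib.H1RegBC_helper1
import Groth.Agent.Lib.RegKindFlat_helper2

/-!
# Base change of `H_1`-regular / quasi-regular sequences with flat quotient along a pushout square
of commutative rings (helper2)
-/

set_option autoImplicit false
universe u
open CategoryTheory CategoryTheory.Limits TensorProduct

namespace Groth.Agent.Lib.RelRegBC

variable {A B A' B' : Type u} [CommRing A] [CommRing B] [CommRing A'] [CommRing B']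

/-- flatness of `A → B → B/I` as flatness of the quotient module -/
lemma flat_quot_of_ringHom [Algebra A B] (I : Ideal B)
    (h : ((Ideal.Quotient.mk I).comp (algebraMap A B)).Flat) : Module.Flat A (B ⧸ I) := by
  have : algebraMap A (B ⧸ I) = (Ideal.Quotient.mk I).comp (algebraMap A B) := rfl
  rw [← this, RingHom.flat_algebraMap_iff] at h
  exact h

lemma ofList_eq_span_range_get (rs : List B) :
    Ideal.ofList rs = Ideal.span (Set.range rs.get) := by
  rw [Set.range_list_get]

open Groth.Agent.QuasiReg in
lemma quasi_of_fun {T : Type u} [CommRing T] (φ : B → T) (rs : List B)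
    (h : CAlgX.IsQuasiRegular (fun i : Fin rs.length => φ (rs.get i))) :
    CAlgX.IsQuasiRegular (rs.map φ).get := by
  have h2 := qr_comp_equiv (finCongr (List.length_map (as := rs) φ)) _ h
  have h3 : ((fun i : Fin rs.length => φ (rs.get i)) ∘ (finCongr (List.length_map (as := rs) φ))) =
      (rs.map φ).get := by
    funext i
    simp
  rw [h3] at h2
  exact h2

lemma h1_of_fun {T : Type u} [CommRing T] (φ : B → T) (rs : List B)
    (h : CAlgX.IsH1Regular (fun i : Fin rs.length => φ (rs.get i))) :
    CAlgX.IsH1Regular (rs.map φ).get := by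
  refine Groth.Agent.Lib.KoszulLow.h1_congr (List.length_map (as := rs) φ).symm _ _ ?_ h
  intro i
  simp

/-- **Base change along a pushout square.** -/
theorem kind_map_of_isPushout (α : A →+* B) (γ : A →+* A') (β : B →+* B') (δ : A' →+* B')
    (hpo : IsPushout (CommRingCat.ofHom α) (CommRingCat.ofHom γ) (CommRingCat.ofHom β)
      (CommRingCat.ofHom δ))
    (k : RegImm.Kind) (hk : k = RegImm.Kind.h1 ∨ k = RegImm.Kind.quasi) (rs : List B)
    (hrs : k.Seq B rs)
    (hflat : ((Ideal.Quotient.mk (Ideal.ofList rs)).comp α).Flat) :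
    k.Seq B' (rs.map β) := by
  letI := α.toAlgebra
  letI := γ.toAlgebra
  have hT := CommRingCat.isPushout_tensorProduct A A' B
  have hpo' : IsPushout (CommRingCat.ofHom (algebraMap A A')) (CommRingCat.ofHom (algebraMap A B))
      (CommRingCat.ofHom δ) (CommRingCat.ofHom β) := hpo.flip
  let e := hT.isoIsPushout _ _ hpo'
  have he : ∀ b : B, e.hom.hom ((1 : A') ⊗ₜ[A] b) = β b := by
    intro b
    have := congrArg (fun t => t.hom b) (hT.inr_isoIsPushout_hom _ _ hpo')
    exact this
  have hbij : Function.Bijective e.hom.hom := ConcreteCategory.bijective_of_isIso e.hom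
  have heflat : (e.hom.hom).Flat := RingHom.Flat.of_bijective hbij
  have hflat' : Module.Flat A (B ⧸ Ideal.span (Set.range rs.get)) := by
    rw [← ofList_eq_span_range_get]
    exact flat_quot_of_ringHom (Ideal.ofList rs) hflat
  have hmap : (rs.map fun b => ((1 : A') ⊗ₜ[A] b : A' ⊗[A] B)).map e.hom.hom = rs.map β := by
    rw [List.map_map]
    apply List.map_congr_left
    intro b _
    exact he b
  rcases hk with rfl | rfl
  · have h0 : CAlgX.IsH1Regular rs.get := hrs
    have h1 := Groth.Agent.Lib.H1RegBCH1.main9273 A B A' rs.length rs.get hflat' h0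
    have h2 := h1_of_fun (fun b => ((1 : A') ⊗ₜ[A] b : A' ⊗[A] B)) rs h1
    have h3 := Groth.Agent.Lib.RegKindFlat.h1_map_of_flat e.hom.hom heflat _ h2
    rw [hmap] at h3
    exact h3
  · have h0 : CAlgX.IsQuasiRegular rs.get := hrs
    have h1 := Groth.Agent.Lib.QRegBC.main9272 A B A' rs.length rs.get hflat' h0
    have h2 := quasi_of_fun (fun b => ((1 : A') ⊗ₜ[A] b : A' ⊗[A] B)) rs h1
    have h3 := Groth.Agent.Lib.RegKindFlat.quasi_map_of_flat e.hom.hom heflat _ h2
    rw [hmap] at h3
    exact h3

end Groth.Agent.Lib.RelRegBC
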