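import Mathlib
import Groth.Prelude.Def_RegImm
import Groth.Agent.Lib.RegImmBC_helper2
import Groth.Agent.Lib.RelRegBC_helper2

/-!
# Arbitrary base change of relative `H_1`-regular / quasi-regular immersions (helper2)
-/

set_option autoImplicit false
universe u
open CategoryTheory CategoryTheory.Limits AlgebraicGeometry TopologicalSpace

namespace Groth.Agent.Lib.RegImmRelBC

open Groth.Agent.Lib.RegImmComp Groth.Agent.Lib.RegImmBC

section shrink

variable {X Z : Scheme.{u}}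

/-- shrinking a presentation of any kind to a basic open containing the image of a point -/
theorem shrink_kind (k : RegImm.Kind) (i : Z ⟶ X) {U : X.Opens} (hU : IsAffineOpen U)
    (hcU : IsClosedImmersion (i ∣_ U)) (rs : List Γ(X, U))
    (hrs : k.Seq Γ(X, U) rs)
    (hkU : RingHom.ker (i.app U).hom = Ideal.ofList rs)
    (a : Γ(X, U)) (W : X.Opens) (hW : W = X.basicOpen a) (z : Z) (hz : i z ∈ W) :
    IsAffineOpen W ∧ IsClosedImmersion (i ∣_ W) ∧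
      ∃ rs' : List Γ(X, W), rs'.length = rs.length ∧ k.Seq Γ(X, W) rs' ∧
        RingHom.ker (i.app W).hom = Ideal.ofList rs' := by
  have hWU : W ≤ U := hW ▸ X.basicOpen_le a
  have hWaff : IsAffineOpen W := hW ▸ hU.basicOpen a
  obtain ⟨hZU, -⟩ := affine_and_surjective i hU hcU
  have hker : RingHom.ker (i.app W).hom =
      Ideal.ofList (rs.map (X.presheaf.map (homOfLE hWU).op).hom) := by
    rw [ker_app_basicOpen i hU hZU a W hW hWU, hkU, Ideal.map_ofList]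
  refine ⟨hWaff, isClosedImmersion_restrict_of_le i hWU hcU,
    rs.map (X.presheaf.map (homOfLE hWU).op).hom, List.length_map _, ?_, hker⟩
  have hflat : (X.presheaf.map (homOfLE hWU).op).hom.Flat := by
    letI := (X.presheaf.map (homOfLE hWU).op).hom.toAlgebra
    haveI : IsLocalization (Submonoid.powers a) Γ(X, W) :=
      hU.isLocalization_of_eq_basicOpen a (homOfLE hWU) hW
    have h := IsLocalization.flat Γ(X, W) (Submonoid.powers a)
    exact (RingHom.flat_algebraMap_iff).mpr h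
  haveI : Nonempty ↥(i ⁻¹ᵁ W) := ⟨⟨z, hz⟩⟩
  have hne : Ideal.ofList (rs.map (X.presheaf.map (homOfLE hWU).op).hom) ≠ ⊤ := by
    rw [← hker]
    exact RingHom.ker_ne_top _
  exact Groth.Agent.Lib.RegKindFlat.seq_map_of_flat k _ hflat rs hrs hne

end shrink

section core

variable {X Y X' Y' : Scheme.{u}}

/-- base change of a closed immersion presentation along an arbitrary cartesian square: closed
immersion and kernel (no flatness needed). -/
theorem bc_core (i : Y ⟶ X) (g : X' ⟶ X) (i' : Y' ⟶ X') (g' : Y' ⟶ Y)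
    (hsq : IsPullback g' i' i g) {U : X.Opens} (hU : IsAffineOpen U)
    (hcU : IsClosedImmersion (i ∣_ U)) {U' : X'.Opens} (hU' : IsAffineOpen U')
    (hU'le : U' ≤ g ⁻¹ᵁ U) :
    IsClosedImmersion (i' ∣_ U') ∧
      RingHom.ker (i'.app U').hom = (RingHom.ker (i.app U).hom).map (g.appLE U U' hU'le).hom := by
  have hcomm : ∀ p : Y', g (i' p) = i (g' p) := by
    intro p
    have := congrArg (fun t => t.base p) hsq.w
    exact this.symm
  have hUY : i' ⁻¹ᵁ U' = g' ⁻¹ᵁ (i ⁻¹ᵁ U) ⊓ i' ⁻¹ᵁ U' := by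
    refine (inf_eq_right.mpr ?_).symm
    intro p hp
    show i (g' p) ∈ U
    rw [← hcomm]
    exact hU'le hp
  obtain ⟨hYU, hsurjU⟩ := affine_and_surjective i hU hcU
  have hiso := isIso_pushoutSection_of_isAffineOpen hsq hU'le (le_refl (i ⁻¹ᵁ U)) hUY hU hU' hYU
  have hpo := (isIso_pushoutSection_iff hsq hU'le (le_refl (i ⁻¹ᵁ U)) hUY).mp hiso
  have hk' : RingHom.ker (i'.app U').hom =
      (RingHom.ker (i.app U).hom).map (g.appLE U U' hU'le).hom := by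
    have h1 := ker_of_isPushout _ _ _ _ hpo (by rw [Scheme.Hom.appLE_eq_app]; exact hsurjU)
    simpa only [Scheme.Hom.appLE_eq_app] using h1
  have hpb := Scheme.Hom.isPullback_resLE hsq hU'le (le_refl (i ⁻¹ᵁ U)) hUY
  have hc1 : IsClosedImmersion (i.resLE U (i ⁻¹ᵁ U) le_rfl) := by
    rw [Scheme.Hom.resLE_eq_morphismRestrict]; exact hcU
  have hc2 := MorphismProperty.of_isPullback (P := @IsClosedImmersion) hpb hc1
  rw [Scheme.Hom.resLE_eq_morphismRestrict] at hc2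
  exact ⟨hc2, hk'⟩

end core

section rel

variable {Z X S S' X' Z' : Scheme.{u}}

/-- **Base change of a relative regular immersion at a point.** -/
theorem rel_bc_at (f : X ⟶ S) (i : Z ⟶ X) (k : RegImm.Kind)
    (hk : k = RegImm.Kind.h1 ∨ k = RegImm.Kind.quasi) (hflat : Flat (i ≫ f)) (g : S' ⟶ S)
    (p : X' ⟶ X) (f' : X' ⟶ S') (hsq2 : IsPullback p f' f g)
    (q : Z' ⟶ Z) (i' : Z' ⟶ X') (hsq1 : IsPullback q i' i p) (z' : Z')
    (U : X.affineOpens) (hxU : i (q z') ∈ U.1) (hcU : IsClosedImmersion (i ∣_ U.1))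
    (rs : List Γ(X, U.1)) (hrs : k.Seq Γ(X, U.1) rs)
    (hkU : RingHom.ker (i.app U.1).hom = Ideal.ofList rs) :
    ∃ U' : X'.affineOpens, i' z' ∈ U'.1 ∧ IsClosedImmersion (i' ∣_ U'.1) ∧
      ∃ rs' : List Γ(X', U'.1), k.Seq Γ(X', U'.1) rs' ∧
        RingHom.ker (i'.app U'.1).hom = Ideal.ofList rs' := by
  have hc1 : p (i' z') = i (q z') := by
    have := congrArg (fun t => t.base z') hsq1.w
    exact this.symm
  have hc2 : ∀ y : X', g (f' y) = f (p y) := by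
    intro y
    have := congrArg (fun t => t.base y) hsq2.w
    exact this.symm
  -- affine opens of the bases
  obtain ⟨V, hV, hxV, -⟩ := (Opens.isBasis_iff_nbhd.mp S.isBasis_affineOpens)
    (Opens.mem_top (f (i (q z'))))
  have hs' : f' (i' z') ∈ g ⁻¹ᵁ V := by
    show g (f' (i' z')) ∈ V
    rw [hc2, hc1]; exact hxV
  obtain ⟨V', hV', hs'V', hV'le⟩ := (Opens.isBasis_iff_nbhd.mp S'.isBasis_affineOpens) hs'
  -- shrink `U` into `f⁻¹ V`
  have hxUV : i (q z') ∈ U.1 ⊓ f ⁻¹ᵁ V := ⟨hxU, hxV⟩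
  obtain ⟨a, haV, hxa⟩ := U.2.exists_basicOpen_le (V := U.1 ⊓ f ⁻¹ᵁ V) ⟨i (q z'), hxUV⟩ hxU
  obtain ⟨hU₁, hcU₁, rs₁, -, hrs₁, hkU₁⟩ :=
    shrink_kind k i U.2 hcU rs hrs hkU a (X.basicOpen a) rfl (q z') hxa
  have hU₁V : X.basicOpen a ≤ f ⁻¹ᵁ V := haV.trans inf_le_right
  -- the affine open of `X'`
  have hpb2 := Scheme.Hom.isPullback_resLE hsq2 hV'le hU₁V
    (UY := p ⁻¹ᵁ X.basicOpen a ⊓ f' ⁻¹ᵁ V') rfl
  have hU'aff : IsAffineOpen (p ⁻¹ᵁ X.basicOpen a ⊓ f' ⁻¹ᵁ V') := by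
    haveI : IsAffine (X.basicOpen a : Scheme) := hU₁
    haveI : IsAffine (V : Scheme) := hV
    haveI : IsAffine (V' : Scheme) := hV'
    exact IsAffine.of_isPullback hpb2
  have hx'U' : i' z' ∈ p ⁻¹ᵁ X.basicOpen a ⊓ f' ⁻¹ᵁ V' := by
    refine ⟨?_, hs'V'⟩
    show p (i' z') ∈ X.basicOpen a
    rw [hc1]; exact hxa
  have hiso := isIso_pushoutSection_of_isAffineOpen hsq2 hV'le hU₁V
    (UY := p ⁻¹ᵁ X.basicOpen a ⊓ f' ⁻¹ᵁ V') rfl hV hV' hU₁
  have hpo := (isIso_pushoutSection_iff hsq2 hV'le hU₁V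
    (UY := p ⁻¹ᵁ X.basicOpen a ⊓ f' ⁻¹ᵁ V') rfl).mp hiso
  obtain ⟨hcU', hk'⟩ := bc_core i p i' q hsq1 hU₁ hcU₁ hU'aff
    (inf_le_left : p ⁻¹ᵁ X.basicOpen a ⊓ f' ⁻¹ᵁ V' ≤ p ⁻¹ᵁ X.basicOpen a)
  obtain ⟨hZU₁, hsurj⟩ := affine_and_surjective i hU₁ hcU₁
  -- flatness of the quotient
  have hfl : ((Ideal.Quotient.mk (Ideal.ofList rs₁)).comp (f.appLE V (X.basicOpen a) hU₁V).hom).Flat := by
    rw [← hkU₁]
    let e0 : (Γ(X, X.basicOpen a) ⧸ RingHom.ker (i.app (X.basicOpen a)).hom) ≃+*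
        Γ(Z, i ⁻¹ᵁ X.basicOpen a) := RingHom.quotientKerEquivOfSurjective hsurj
    have hle : i ⁻¹ᵁ X.basicOpen a ≤ (i ≫ f) ⁻¹ᵁ V := fun y hy => hU₁V hy
    have h1 : ((i ≫ f).appLE V (i ⁻¹ᵁ X.basicOpen a) hle).hom.Flat :=
      HasRingHomProperty.appLE @Flat (i ≫ f) hflat ⟨V, hV⟩ ⟨i ⁻¹ᵁ X.basicOpen a, hZU₁⟩ hle
    have h2 : (i ≫ f).appLE V (i ⁻¹ᵁ X.basicOpen a) hle =
        f.appLE V (X.basicOpen a) hU₁V ≫ i.app (X.basicOpen a) := by
      rw [← Scheme.Hom.appLE_eq_app, Scheme.Hom.appLE_comp_appLE]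
    have h3 : (Ideal.Quotient.mk (RingHom.ker (i.app (X.basicOpen a)).hom)).comp
        (f.appLE V (X.basicOpen a) hU₁V).hom =
        (e0.symm : Γ(Z, i ⁻¹ᵁ X.basicOpen a) →+* _).comp
          ((i ≫ f).appLE V (i ⁻¹ᵁ X.basicOpen a) hle).hom := by
      rw [h2]
      ext x
      show _ = e0.symm ((i.app (X.basicOpen a)).hom ((f.appLE V (X.basicOpen a) hU₁V).hom x))
      symm
      rw [RingEquiv.symm_apply_eq]
      rfl
    rw [h3]
    exact RingHom.Flat.comp h1 (RingHom.Flat.of_bijective e0.symm.bijective)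
  have hkind := Groth.Agent.Lib.RelRegBC.kind_map_of_isPushout
    (f.appLE V (X.basicOpen a) hU₁V).hom (g.appLE V V' hV'le).hom
    (p.appLE (X.basicOpen a) (p ⁻¹ᵁ X.basicOpen a ⊓ f' ⁻¹ᵁ V') inf_le_left).hom
    (f'.appLE V' (p ⁻¹ᵁ X.basicOpen a ⊓ f' ⁻¹ᵁ V') inf_le_right).hom hpo k hk rs₁ hrs₁ hfl
  refine ⟨⟨_, hU'aff⟩, hx'U', hcU', _, hkind, ?_⟩
  rw [hk', hkU₁, Ideal.map_ofList]

end rel

end Groth.Agent.Lib.RegImmRelBC
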