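import Mathlib
import Groth.Prelude.Def_RegImm
import Groth.Agent.Lib.FpqcFamily_helper2
import Groth.Agent.Lib.RegImmRelBC_helper2

/-!
# fpqc descent of regular immersions: scheme-level bookkeeping (helper2)
APPEND-ONLY once landed.
-/

set_option autoImplicit false
universe u
open CategoryTheory CategoryTheory.Limits AlgebraicGeometry TopologicalSpace

namespace Groth.Agent.Lib.FpqcReg

open Groth.Agent.Lib.RegImmComp Groth.Agent.Lib.RegImmBC Groth.Agent.Lib.RegImmRelBC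

section pts

variable {X Y : Scheme.{u}}

lemma isClosedImmersion_restrict_coborder (i : Y ⟶ X) [IsImmersion i] :
    IsClosedImmersion (i ∣_ i.coborderRange) := by
  apply IsClosedImmersion.of_isPreimmersion
  have hrange : Set.range (i ∣_ i.coborderRange) =
      (Subtype.val ⁻¹' (Set.range i) : Set ↥(coborder (Set.range i))) := by
    ext x
    constructor
    · rintro ⟨z, rfl⟩
      exact ⟨z.1, (morphismRestrict_base_coe i _ z).symm⟩
    · rintro ⟨z, hz⟩
      have hzU : z ∈ i ⁻¹ᵁ i.coborderRange := by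
        show i z ∈ i.coborderRange
        rw [hz]
        exact x.2
      exact ⟨⟨z, hzU⟩, Subtype.ext ((morphismRestrict_base_coe i _ _).trans hz)⟩
  rw [hrange]
  exact isClosed_preimage_val_coborder

lemma exists_affine_closedImmersion (i : Y ⟶ X) [IsImmersion i] (y : Y) :
    ∃ U : X.affineOpens, i y ∈ U.1 ∧ IsClosedImmersion (i ∣_ U.1) := by
  have hy : i y ∈ i.coborderRange := subset_coborder ⟨y, rfl⟩
  obtain ⟨U, hU, hyU, hle⟩ := (Opens.isBasis_iff_nbhd.mp X.isBasis_affineOpens) hy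
  exact ⟨⟨U, hU⟩, hyU,
    isClosedImmersion_restrict_of_le i hle (isClosedImmersion_restrict_coborder i)⟩

lemma mem_basicOpen_iff_notMem_primeIdealOf {U : X.Opens} (hU : IsAffineOpen U) (x : U)
    (a : Γ(X, U)) : x.1 ∈ X.basicOpen a ↔ a ∉ (hU.primeIdealOf x).asIdeal := by
  rw [← hU.fromSpec_primeIdealOf x]
  show hU.primeIdealOf x ∈ hU.fromSpec ⁻¹ᵁ X.basicOpen a ↔ _
  rw [hU.fromSpec_preimage_basicOpen]
  rfl

lemma ker_le_primeIdealOf (i : Y ⟶ X) {U : X.Opens} (hU : IsAffineOpen U) (y : Y)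
    (hyU : i y ∈ U) :
    RingHom.ker (i.app U).hom ≤ (hU.primeIdealOf ⟨i y, hyU⟩).asIdeal := by
  intro a ha
  by_contra hnot
  have h1 : y ∈ i ⁻¹ᵁ X.basicOpen a :=
    (mem_basicOpen_iff_notMem_primeIdealOf hU ⟨i y, hyU⟩ a).mpr hnot
  have h0 : (i.app U) a = 0 := ha
  rw [Scheme.preimage_basicOpen, h0, Scheme.basicOpen_zero] at h1
  exact h1.elim

lemma exists_point_of_ker_le (i : Y ⟶ X) {U : X.Opens} (hU : IsAffineOpen U)
    (hcU : IsClosedImmersion (i ∣_ U)) (p : PrimeSpectrum Γ(X, U))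
    (hle : RingHom.ker (i.app U).hom ≤ p.asIdeal) :
    ∃ (y : Y) (h : i y ∈ U), hU.primeIdealOf ⟨i y, h⟩ = p := by
  obtain ⟨hYU, hsurj⟩ := affine_and_surjective i hU hcU
  haveI : (p.asIdeal.map (i.app U).hom).IsPrime :=
    Ideal.map_isPrime_of_surjective hsurj hle
  let pbar : PrimeSpectrum Γ(Y, i ⁻¹ᵁ U) := ⟨p.asIdeal.map (i.app U).hom, inferInstance⟩
  let y₀ : ↥(i ⁻¹ᵁ U) := hYU.isoSpec.inv pbar
  have hy₀ : hYU.primeIdealOf y₀ = pbar := by
    simp [IsAffineOpen.primeIdealOf, y₀]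
  refine ⟨y₀.1, y₀.2, ?_⟩
  have h1 := IsAffineOpen.comap_primeIdealOf_appLE (f := i) U hU (i ⁻¹ᵁ U) hYU le_rfl y₀.2
  rw [← h1]
  have h2 : hYU.primeIdealOf ⟨y₀.1, y₀.2⟩ = pbar := hy₀
  rw [h2]
  apply PrimeSpectrum.ext
  show Ideal.comap (i.appLE U (i ⁻¹ᵁ U) le_rfl).hom (p.asIdeal.map (i.app U).hom) = p.asIdeal
  rw [Scheme.Hom.appLE_eq_app, Ideal.comap_map_of_surjective' _ hsurj]
  exact sup_eq_left.mpr hle

end pts

section main

variable {X Y X' Y' : Scheme.{u}}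

/-- the kind as a property of lists -/
def PKind (k : RegImm.Kind) : ∀ (R : Type u) [CommRing R], List R → Prop :=
  fun R _ l => k.Seq R l

theorem locP_of_regImm (k : RegImm.Kind) (i : Y ⟶ X)
    (hat : ∀ y, RegImm.IsRegularImmersionAt k i y)
    {V : X.Opens} (hV : IsAffineOpen V) (hcV : IsClosedImmersion (i ∣_ V)) :
    LocP (PKind k) (RingHom.ker (i.app V).hom) := by
  intro q hq hle
  obtain ⟨y, hyV, hyq⟩ := exists_point_of_ker_le i hV hcV ⟨q, hq⟩ hle
  obtain ⟨U, hyU, hcU, rs, hrs, hkU⟩ := hat y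
  obtain ⟨a, b, hab, hya⟩ := exists_basicOpen_le_affine_inter hV U.2 (i y) ⟨hyV, hyU⟩
  obtain ⟨hWaff, hcW, rs', -, hrs', hkW⟩ :=
    shrink_kind k i U.2 hcU rs hrs hkU b (X.basicOpen a) hab y hya
  have hWV : X.basicOpen a ≤ V := X.basicOpen_le a
  obtain ⟨hYV, -⟩ := affine_and_surjective i hV hcV
  have hker := ker_app_basicOpen i hV hYV a (X.basicOpen a) rfl hWV
  letI : Algebra Γ(X, V) Γ(X, X.basicOpen a) := (X.presheaf.map (homOfLE hWV).op).hom.toAlgebra
  haveI : IsLocalization.Away a Γ(X, X.basicOpen a) :=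
    hV.isLocalization_of_eq_basicOpen a (homOfLE hWV) rfl
  refine ⟨a, ?_, Γ(X, X.basicOpen a), inferInstance, inferInstance, inferInstance, rs', hrs', ?_⟩
  · rw [← show (hV.primeIdealOf ⟨i y, hyV⟩).asIdeal = q from
      congrArg PrimeSpectrum.asIdeal hyq]
    exact (mem_basicOpen_iff_notMem_primeIdealOf hV ⟨i y, hyV⟩ a).mp hya
  · rw [← hkW, hker]
    rfl

theorem regImmAt_of_locP (k : RegImm.Kind) (hD : Desc (PKind.{u} k)) (i : Y ⟶ X)
    {U : X.Opens} (hU : IsAffineOpen U) (hcU : IsClosedImmersion (i ∣_ U)) (y : Y)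
    (hyU : i y ∈ U) (h : LocP (PKind k) (RingHom.ker (i.app U).hom)) :
    RegImm.IsRegularImmersionAt k i y := by
  have hle := ker_le_primeIdealOf i hU y hyU
  obtain ⟨g, hg, T, _, _, _, l, hl, hI⟩ := h _ (hU.primeIdealOf ⟨i y, hyU⟩).isPrime hle
  have hyW : i y ∈ X.basicOpen g :=
    (mem_basicOpen_iff_notMem_primeIdealOf hU ⟨i y, hyU⟩ g).mpr hg
  have hWU : X.basicOpen g ≤ U := X.basicOpen_le g
  obtain ⟨hYU, -⟩ := affine_and_surjective i hU hcU
  have hker := ker_app_basicOpen i hU hYU g (X.basicOpen g) rfl hWU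
  letI : Algebra Γ(X, U) Γ(X, X.basicOpen g) := (X.presheaf.map (homOfLE hWU).op).hom.toAlgebra
  haveI : IsLocalization.Away g Γ(X, X.basicOpen g) :=
    hU.isLocalization_of_eq_basicOpen g (homOfLE hWU) rfl
  let e : T ≃ₐ[Γ(X, U)] Γ(X, X.basicOpen g) :=
    IsLocalization.algEquiv (Submonoid.powers g) T Γ(X, X.basicOpen g)
  refine ⟨⟨X.basicOpen g, hU.basicOpen g⟩, hyW, isClosedImmersion_restrict_of_le i hWU hcU,
    l.map e, ?_, ?_⟩
  · exact hD.map_flat (e : T →+* Γ(X, X.basicOpen g)) (RingHom.Flat.of_bijective e.bijective) l hl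
  · rw [hker]
    have hcomp : (X.presheaf.map (homOfLE hWU).op).hom =
        (e : T →+* Γ(X, X.basicOpen g)).comp (algebraMap Γ(X, U) T) := by
      ext x
      exact (e.commutes x).symm
    rw [hcomp, ← Ideal.map_map, hI, Ideal.map_ofList]
    rfl

/-- **fpqc descent of regular immersions of a kind satisfying `Desc`.** -/
theorem regImm_descent (k : RegImm.Kind) (hD : Desc (PKind.{u} k)) (i : Y ⟶ X) [IsImmersion i]
    (g : X' ⟶ X) [Flat g] [Surjective g] [QuasiCompact g]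
    (i' : Y' ⟶ X') (g' : Y' ⟶ Y) (hsq : IsPullback g' i' i g)
    (hi' : RegImm.IsRegularImmersion k i') : RegImm.IsRegularImmersion k i := by
  refine ⟨inferInstance, fun y => ?_⟩
  obtain ⟨U, hyU, hcU⟩ := exists_affine_closedImmersion i y
  apply regImmAt_of_locP k hD i U.2 hcU y hyU
  have hcpt : IsCompact (X := X') (g ⁻¹ᵁ U.1) := g.isCompact_preimage U.2.isCompact
  obtain ⟨s, hs, hsU⟩ := isCompact_iff_finite_and_eq_biUnion_affineOpens.mp hcpt
  haveI : Finite s := hs.to_subtype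
  have hle : ∀ j : s, j.1.1 ≤ g ⁻¹ᵁ U.1 := fun j => by
    rw [hsU]
    exact le_iSup₂_of_le j.1 j.2 le_rfl
  apply locP_descent_family hD (fun j : s => Γ(X', j.1.1))
    (fun j => (g.appLE U.1 j.1.1 (hle j)).hom) (fun j => g.flat_appLE U.2 j.1.2 (hle j))
  · intro p
    obtain ⟨x, rfl⟩ : ∃ x : U.1, U.2.primeIdealOf x = p :=
      ⟨U.2.isoSpec.inv p, by simp [IsAffineOpen.primeIdealOf]⟩
    obtain ⟨x', hx'⟩ := g.surjective x.1
    have hx'U : x' ∈ g ⁻¹ᵁ U.1 := by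
      show g x' ∈ U.1
      rw [hx']
      exact x.2
    rw [hsU] at hx'U
    obtain ⟨j, hj, hx'j⟩ : ∃ j ∈ s, x' ∈ (j : X'.Opens) := by
      simpa [Opens.mem_iSup] using hx'U
    refine ⟨⟨j, hj⟩, j.2.primeIdealOf ⟨x', hx'j⟩, ?_⟩
    rw [IsAffineOpen.comap_primeIdealOf_appLE U.1 U.2 j.1 j.2 (hle ⟨j, hj⟩) hx'j]
    congr 1
    exact Subtype.ext hx'
  · intro j
    obtain ⟨hc', hk'⟩ := bc_core i g i' g' hsq U.2 hcU j.1.2 (hle j)
    rw [← hk']
    exact locP_of_regImm k i' hi'.2 j.1.2 hc'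

end main

end Groth.Agent.Lib.FpqcReg
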