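import Mathlib
import Groth.Prelude.Def_RegImm
import Groth.Agent.Lib.FpqcRegImm_helper2
import Groth.Agent.Lib.FpqcKoszul_helper2

/-!
# S8653: fpqc descent of Koszul-regular immersions (helper2)
-/

set_option autoImplicit false
universe u
open CategoryTheory CategoryTheory.Limits AlgebraicGeometry TopologicalSpace

namespace Groth.Agent.Lib.FpqcReg

theorem desc_kind_koszul : Desc (PKind.{u} RegImm.Kind.koszul) := desc_koszul

theorem main8653 {X Y X' Y' : Scheme.{u}} (i : Y ⟶ X) [IsImmersion i]
    (g : X' ⟶ X) [Flat g] [Surjective g] [QuasiCompact g]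
    (i' : Y' ⟶ X') (g' : Y' ⟶ Y) (hsq : IsPullback g' i' i g)
    (hi' : RegImm.IsRegularImmersion .koszul i') : RegImm.IsRegularImmersion .koszul i :=
  regImm_descent .koszul desc_kind_koszul i g i' g' hsq hi'

end Groth.Agent.Lib.FpqcReg
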