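import Mathlib
import Groth.Prelude.Def_Koszul
import Groth.Prelude.Def_LCI2
import Groth.Agent.Lib.KRegIdeal_helper2
import Groth.Agent.Lib.KoszulSplit_helper2

/-!
# Koszul-regular ideals and one polynomial variable: for `ev : P[X] → P`, `X ↦ F`, an ideal `I` of
`P` is Koszul-regular iff its preimage in `P[X]` is.
-/

set_option autoImplicit false
universe u
open Polynomial

namespace Groth.Agent.Lib.KRegPoly

open Groth.Agent.Lib.KRegIdeal

variable {P : Type u} [CommRing P] (F : P)

lemma sub_C_eval_mem (p : P[X]) : p - C (p.eval F) ∈ Ideal.span {X - C F} := by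
  rw [Ideal.mem_span_singleton, dvd_iff_isRoot]
  simp [IsRoot]

lemma X_sub_C_mem_comap (I : Ideal P) : X - C F ∈ I.comap (evalRingHom F) := by
  rw [Ideal.mem_comap]
  simp

lemma C_mem_comap (I : Ideal P) (x : P) (hx : x ∈ I) : C x ∈ I.comap (evalRingHom F) := by
  rw [Ideal.mem_comap]
  simpa using hx

lemma comap_eval_eq (I : Ideal P) :
    I.comap (evalRingHom F) = I.map C ⊔ Ideal.span {X - C F} := by
  apply le_antisymm
  · intro k hk
    rw [Ideal.mem_comap] at hk
    have h1 : k = C (k.eval F) + (k - C (k.eval F)) := by ring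
    rw [h1]
    exact Ideal.add_mem _ (Ideal.mem_sup_left (Ideal.mem_map_of_mem _ hk))
      (Ideal.mem_sup_right (sub_C_eval_mem F k))
  · apply sup_le
    · rw [Ideal.map_le_iff_le_comap]
      intro x hx
      exact C_mem_comap F I x hx
    · rw [Ideal.span_le, Set.singleton_subset_iff]
      exact X_sub_C_mem_comap F I

/-- the derivative argument: `X - F` is part of a minimal system of generators. -/
lemma mem_of_mul_mem (I : Ideal P) (𝔔 : Ideal P[X]) [𝔔.IsPrime]
    (hK : I.comap (evalRingHom F) ≤ 𝔔) (s : P[X])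
    (hs : s * (X - C F) ∈ 𝔔 * I.comap (evalRingHom F)) : s ∈ 𝔔 := by
  have hD : ∀ z ∈ 𝔔 * I.comap (evalRingHom F), derivative z ∈ 𝔔 := by
    intro z hz
    refine Submodule.mul_induction_on hz ?_ ?_
    · intro q hq k hk
      rw [derivative_mul]
      exact Ideal.add_mem _ (Ideal.mul_mem_left _ _ (hK hk)) (Ideal.mul_mem_right _ _ hq)
    · intro x y hx hy
      rw [map_add]
      exact Ideal.add_mem _ hx hy
  have h1 := hD _ hs
  rw [derivative_mul, derivative_sub, derivative_X, derivative_C, sub_zero, mul_one] at h1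
  have h2 : derivative s * (X - C F) ∈ 𝔔 :=
    Ideal.mul_mem_left _ _ (hK (X_sub_C_mem_comap F I))
  have h3 : s = (derivative s * (X - C F) + s) - derivative s * (X - C F) := by ring
  rw [h3]
  exact Ideal.sub_mem _ h1 h2

/-- `X - f` is a nonzerodivisor modulo `J[X]`. -/
lemma mem_map_C_of_mul_mem {S : Type u} [CommRing S] (J : Ideal S) (f : S) (x : S[X])
    (h : (X - C f) * x ∈ J.map C) : x ∈ J.map C := by
  rw [Ideal.mem_map_C_iff] at h ⊢
  have hstep : ∀ n, x.coeff (n + 1) ∈ J → x.coeff n ∈ J := by
    intro n hn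
    have h1 := h (n + 1)
    rw [sub_mul, coeff_sub, coeff_X_mul, coeff_C_mul] at h1
    have h2 : x.coeff n = (x.coeff n - f * x.coeff (n + 1)) + f * x.coeff (n + 1) := by ring
    rw [h2]
    exact Ideal.add_mem _ h1 (Ideal.mul_mem_left _ _ hn)
  have hbig : ∀ k n, n + k = x.natDegree + 1 → x.coeff n ∈ J := by
    intro k
    induction k with
    | zero =>
      intro n hn
      rw [coeff_eq_zero_of_natDegree_lt (by lia)]
      exact J.zero_mem
    | succ k ih =>
      intro n hn
      exact hstep n (ih (n + 1) (by lia))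
  intro n
  by_cases hn : n ≤ x.natDegree + 1
  · exact hbig (x.natDegree + 1 - n) n (by lia)
  · rw [coeff_eq_zero_of_natDegree_lt (by lia)]
    exact J.zero_mem

attribute [local instance] Polynomial.algebra

/-- from `P` to `P[X]`. -/
theorem kr_comap_eval (I : Ideal P) (h : KR I) : KR (I.comap (evalRingHom F)) := by
  intro 𝔔 h𝔔 hle
  have h𝔭 : (𝔔.comap (C : P →+* P[X])).IsPrime := Ideal.comap_isPrime _ _
  have hle' : I ≤ 𝔔.comap (C : P →+* P[X]) := by
    intro x hx
    rw [Ideal.mem_comap]
    exact hle (C_mem_comap F I x hx)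
  obtain ⟨g, hg, T₀, _, _, hloc, l₀, hl₀, hI⟩ := h _ h𝔭 hle'
  have hlocT : IsLocalization.Away (C g) T₀[X] := by
    have := Polynomial.isLocalization (Submonoid.powers g) T₀
    rw [Submonoid.map_powers] at this
    exact this
  refine ⟨C g, hg, T₀[X], inferInstance, inferInstance, hlocT,
    (X - C (algebraMap P T₀ F)) :: l₀.map (C : T₀ →+* T₀[X]), ?_, ?_⟩
  · have hflat : (C : T₀ →+* T₀[X]).Flat := by
      have : (algebraMap T₀ T₀[X]).Flat := RingHom.flat_algebraMap_iff.mpr inferInstance
      exact this
    apply kreg_cons _ _ (kreg_map_of_flat (C : T₀ →+* T₀[X]) hflat l₀ hl₀)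
    intro x hx
    rw [← Ideal.map_ofList] at hx ⊢
    exact mem_map_C_of_mul_mem _ _ x hx
  · rw [comap_eval_eq, Ideal.map_sup, Ideal.map_span, Set.image_singleton, Ideal.ofList_cons,
      Ideal.map_map, Polynomial.algebraMap_def]
    have h1 : (mapRingHom (algebraMap P T₀)).comp (C : P →+* P[X]) =
        (C : T₀ →+* T₀[X]).comp (algebraMap P T₀) := by
      ext x
      simp
    have h2 : (mapRingHom (algebraMap P T₀)) (X - C F) = X - C (algebraMap P T₀ F) := by
      simp
    rw [h1, ← Ideal.map_map, hI, Ideal.map_ofList, h2, sup_comm]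

/-- from `P[X]` to `P`. -/
theorem kr_of_comap_eval (I : Ideal P) (h : KR (I.comap (evalRingHom F))) : KR I := by
  intro 𝔭 h𝔭 hle
  have h𝔔 : (𝔭.comap (evalRingHom F)).IsPrime := Ideal.comap_isPrime _ _
  have hle' : I.comap (evalRingHom F) ≤ 𝔭.comap (evalRingHom F) := Ideal.comap_mono hle
  obtain ⟨G, hG, T₁, _, _, hloc₁, L, hL, hK⟩ := h _ h𝔔 hle'
  -- Step 1: write `X - F` in terms of `L`
  have ha₁ : algebraMap P[X] T₁ (X - C F) ∈ Ideal.span (Set.range L.get) := by
    rw [Set.range_list_get]
    show _ ∈ Ideal.ofList L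
    rw [← hK]
    exact Ideal.mem_map_of_mem _ (X_sub_C_mem_comap F I)
  obtain ⟨c, hc⟩ := Ideal.mem_span_range_iff_exists_fun.mp ha₁
  -- Step 2: some coefficient is a unit near the prime
  have hex : ∃ i₀, c i₀ ∉ (𝔭.comap (evalRingHom F)).map (algebraMap P[X] T₁) := by
    by_contra hcon
    push Not at hcon
    have hmem : algebraMap P[X] T₁ (X - C F) ∈
        ((𝔭.comap (evalRingHom F)) * (I.comap (evalRingHom F))).map (algebraMap P[X] T₁) := by
      rw [Ideal.map_mul, ← hc]
      refine Ideal.sum_mem _ (fun i _ => Ideal.mul_mem_mul (hcon i) ?_)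
      rw [hK]
      exact Ideal.subset_span (List.get_mem L i)
    obtain ⟨m, hm, hmz⟩ := (IsLocalization.algebraMap_mem_map_algebraMap_iff
      (Submonoid.powers G) T₁ _ (X - C F)).mp hmem
    have hm𝔔 : m ∈ 𝔭.comap (evalRingHom F) := mem_of_mul_mem F I _ hle' m hmz
    obtain ⟨n, rfl⟩ := hm
    exact hG (h𝔔.mem_of_pow_mem n hm𝔔)
  obtain ⟨i₀, hi₀⟩ := hex
  -- Step 3: invert that coefficient
  obtain ⟨N, c', hc'⟩ := IsLocalization.Away.surj G (c i₀)
  have hGunit : IsUnit (algebraMap P[X] T₁ G) := IsLocalization.Away.algebraMap_isUnit G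
  have hc'𝔔 : c' ∉ 𝔭.comap (evalRingHom F) := by
    intro hmem
    apply hi₀
    have h1 : algebraMap P[X] T₁ c' ∈ (𝔭.comap (evalRingHom F)).map (algebraMap P[X] T₁) :=
      Ideal.mem_map_of_mem _ hmem
    rw [← hc'] at h1
    exact (Ideal.mul_unit_mem_iff_mem _ (hGunit.pow N)).mp h1
  have hGc' : G * c' ∉ 𝔭.comap (evalRingHom F) := by
    intro hmem
    rcases h𝔔.mem_or_mem hmem with h | h
    · exact hG h
    · exact hc'𝔔 h
  have hassoc : Associated (algebraMap P[X] T₁ c') (c i₀) := by
    refine ⟨((hGunit.pow N).unit)⁻¹, ?_⟩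
    rw [← hc', mul_assoc]
    have : (algebraMap P[X] T₁ G) ^ N * (((hGunit.pow N).unit)⁻¹ : (T₁)ˣ) = 1 :=
      IsUnit.mul_val_inv (hGunit.pow N)
    rw [this, mul_one]
  haveI hlocT : IsLocalization.Away (G * c') (Localization.Away (c i₀)) :=
    IsLocalization.Away.mul_of_associated G c' (c i₀) hassoc
  -- Step 4: the new generating sequence
  have hLT : LCI.IsKoszulRegularSeq (Localization.Away (c i₀))
      (L.map (algebraMap T₁ (Localization.Away (c i₀)))) :=
    kreg_map_of_isLocalization (Submonoid.powers (c i₀)) L hL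
  have hu : IsUnit (algebraMap T₁ (Localization.Away (c i₀)) (c i₀)) :=
    IsLocalization.Away.algebraMap_isUnit (c i₀)
  have haT' : algebraMap P[X] (Localization.Away (c i₀)) (X - C F) =
      algebraMap T₁ (Localization.Away (c i₀)) (algebraMap P[X] T₁ (X - C F)) :=
    IsScalarTower.algebraMap_apply P[X] T₁ (Localization.Away (c i₀)) _
  have hsum : ∑ i, algebraMap T₁ (Localization.Away (c i₀)) (c i) *
      algebraMap T₁ (Localization.Away (c i₀)) (L.get i) =
      algebraMap P[X] (Localization.Away (c i₀)) (X - C F) := by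
    rw [haT', ← hc, map_sum]
    exact Finset.sum_congr rfl (fun i _ => (map_mul _ _ _).symm)
  have hmemL' : ∀ j : Fin L.length, j ≠ i₀ →
      algebraMap T₁ (Localization.Away (c i₀)) (L.get j) ∈
        (L.map (algebraMap T₁ (Localization.Away (c i₀)))).eraseIdx i₀ := by
    intro j hj
    rw [List.mem_eraseIdx_iff_getElem]
    refine ⟨j, by simp, fun h => hj (Fin.ext h), by simp⟩
  have hgen : Ideal.ofList (algebraMap P[X] (Localization.Away (c i₀)) (X - C F) ::
      (L.map (algebraMap T₁ (Localization.Away (c i₀)))).eraseIdx i₀) =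
      Ideal.ofList (L.map (algebraMap T₁ (Localization.Away (c i₀)))) := by
    apply le_antisymm
    · rw [Ideal.ofList_cons]
      apply sup_le
      · rw [Ideal.span_le, Set.singleton_subset_iff, ← hsum]
        refine Ideal.sum_mem _ (fun i _ => Ideal.mul_mem_left _ _ (Ideal.subset_span ?_))
        exact List.mem_map_of_mem (List.get_mem L i)
      · apply Ideal.span_mono
        intro x hx
        exact List.mem_of_mem_eraseIdx hx
    · apply Ideal.span_le.mpr
      intro x hx
      obtain ⟨y, hy, rfl⟩ := List.mem_map.mp hx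
      obtain ⟨j, rfl⟩ := List.get_of_mem hy
      by_cases hj : j = i₀
      · subst hj
        have h1 : algebraMap T₁ (Localization.Away (c j)) (c j) *
            algebraMap T₁ (Localization.Away (c j)) (L.get j) =
            algebraMap P[X] (Localization.Away (c j)) (X - C F) -
              ∑ i ∈ Finset.univ.erase j, algebraMap T₁ (Localization.Away (c j)) (c i) *
                algebraMap T₁ (Localization.Away (c j)) (L.get i) := by
          rw [← hsum, ← Finset.add_sum_erase _ _ (Finset.mem_univ j)]
          ring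
        have h2 : algebraMap T₁ (Localization.Away (c j)) (c j) *
            algebraMap T₁ (Localization.Away (c j)) (L.get j) ∈
            Ideal.ofList (algebraMap P[X] (Localization.Away (c j)) (X - C F) ::
              (L.map (algebraMap T₁ (Localization.Away (c j)))).eraseIdx j) := by
          rw [h1]
          refine Ideal.sub_mem _ (Ideal.subset_span List.mem_cons_self)
            (Ideal.sum_mem _ (fun i hi => Ideal.mul_mem_left _ _ (Ideal.subset_span ?_)))
          exact List.mem_cons_of_mem _ (hmemL' i (Finset.ne_of_mem_erase hi))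
        exact (Ideal.unit_mul_mem_iff_mem _ hu).mp h2
      · exact Ideal.subset_span (List.mem_cons_of_mem _ (hmemL' j hj))
  -- Step 5: the new sequence is Koszul-regular
  have hofL : Ideal.ofList (L.map (algebraMap T₁ (Localization.Away (c i₀)))) =
      (I.comap (evalRingHom F)).map (algebraMap P[X] (Localization.Away (c i₀))) := by
    rw [← Ideal.map_ofList, ← hK, Ideal.map_map, ← IsScalarTower.algebraMap_eq]
  have hIne : Ideal.ofList (L.map (algebraMap T₁ (Localization.Away (c i₀)))) ≠ ⊤ := by
    rw [hofL]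
    have h3 : (𝔭.comap (evalRingHom F)).map (algebraMap P[X] (Localization.Away (c i₀))) ≠ ⊤ := by
      rw [IsLocalization.map_algebraMap_ne_top_iff_disjoint (Submonoid.powers (G * c'))
        (Localization.Away (c i₀)), Set.disjoint_left]
      rintro x ⟨n, rfl⟩ hx
      exact hGc' (h𝔔.mem_of_pow_mem n hx)
    intro htop
    apply h3
    rw [eq_top_iff, ← htop]
    exact Ideal.map_mono hle'
  have hlen : (algebraMap P[X] (Localization.Away (c i₀)) (X - C F) ::
      (L.map (algebraMap T₁ (Localization.Away (c i₀)))).eraseIdx i₀).length =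
      (L.map (algebraMap T₁ (Localization.Away (c i₀)))).length := by
    simp only [List.length_cons, List.length_eraseIdx, List.length_map]
    rw [if_pos i₀.2]
    have := i₀.pos
    lia
  have hf : LCI.IsKoszulRegularSeq (Localization.Away (c i₀))
      (algebraMap P[X] (Localization.Away (c i₀)) (X - C F) ::
        (L.map (algebraMap T₁ (Localization.Away (c i₀)))).eraseIdx i₀) := by
    refine (Groth.Agent.Lib.KoszulSplit.main18935 _ hIne _ hLT rfl _ hgen).mpr ?_
    intro l' hl'
    rw [hlen]
    exact (Groth.Agent.Lib.KoszulSplit.main18935 _ hIne _ hLT rfl _ rfl).mp hLT l' hl'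
  -- Step 6: `X - F` stays a nonzerodivisor
  have haTreg : IsSMulRegular (Localization.Away (c i₀))
      (algebraMap P[X] (Localization.Away (c i₀)) (X - C F)) := by
    have h1 : IsSMulRegular P[X] (X - C F) := (monic_X_sub_C F).isRegular.left.isSMulRegular
    haveI : Module.Flat P[X] (Localization.Away (c i₀)) :=
      IsLocalization.flat (Localization.Away (c i₀)) (Submonoid.powers (G * c'))
    exact h1.of_flat
  -- Step 7
  have hq := kreg_quot _ haTreg _ hf
  -- Step 8: the quotient is a localisation of `P`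
  letI algT' : Algebra P (Localization.Away (c i₀) ⧸
      Ideal.span {algebraMap P[X] (Localization.Away (c i₀)) (X - C F)}) :=
    ((Ideal.Quotient.mk _).comp ((algebraMap P[X] (Localization.Away (c i₀))).comp C)).toAlgebra
  have halg : ∀ x : P, algebraMap P (Localization.Away (c i₀) ⧸
      Ideal.span {algebraMap P[X] (Localization.Away (c i₀)) (X - C F)}) x =
      Ideal.Quotient.mk _ (algebraMap P[X] (Localization.Away (c i₀)) (C x)) := fun x => rfl
  have hmkC : ∀ p : P[X], Ideal.Quotient.mk
      (Ideal.span {algebraMap P[X] (Localization.Away (c i₀)) (X - C F)})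
      (algebraMap P[X] (Localization.Away (c i₀)) p) =
      algebraMap P (Localization.Away (c i₀) ⧸
        Ideal.span {algebraMap P[X] (Localization.Away (c i₀)) (X - C F)}) (p.eval F) := by
    intro p
    rw [halg, ← sub_eq_zero, ← map_sub, ← map_sub, Ideal.Quotient.eq_zero_iff_mem]
    have h2 : algebraMap P[X] (Localization.Away (c i₀)) (p - C (p.eval F)) ∈
        (Ideal.span {X - C F}).map (algebraMap P[X] (Localization.Away (c i₀))) :=
      Ideal.mem_map_of_mem _ (sub_C_eval_mem F p)
    rw [Ideal.map_span, Set.image_singleton] at h2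
    exact h2
  have hlocT' : IsLocalization.Away ((G * c').eval F) (Localization.Away (c i₀) ⧸
      Ideal.span {algebraMap P[X] (Localization.Away (c i₀)) (X - C F)}) := by
    have := IsLocalization.of_surjective (Submonoid.powers (G * c')) (Localization.Away (c i₀))
      (evalRingHom F) (fun x => ⟨C x, by simp⟩)
      (Ideal.Quotient.mk (Ideal.span {algebraMap P[X] (Localization.Away (c i₀)) (X - C F)}))
      Ideal.Quotient.mk_surjective (RingHom.ext (fun p => hmkC p))
      (by
        rw [Ideal.mk_ker, Ideal.span_le, Set.singleton_subset_iff]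
        refine Ideal.mem_map_of_mem _ ?_
        rw [RingHom.mem_ker]
        simp)
    rw [Submonoid.map_powers] at this
    exact this
  -- Step 9
  refine ⟨(G * c').eval F, hGc', _, inferInstance, algT', hlocT', _, hq, ?_⟩
  have h1 : Ideal.ofList (((L.map (algebraMap T₁ (Localization.Away (c i₀)))).eraseIdx i₀).map
      (Ideal.Quotient.mk (Ideal.span {algebraMap P[X] (Localization.Away (c i₀)) (X - C F)}))) =
      (Ideal.ofList (algebraMap P[X] (Localization.Away (c i₀)) (X - C F) ::
        (L.map (algebraMap T₁ (Localization.Away (c i₀)))).eraseIdx i₀)).map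
        (Ideal.Quotient.mk (Ideal.span {algebraMap P[X] (Localization.Away (c i₀)) (X - C F)})) := by
    rw [Ideal.map_ofList, List.map_cons, Ideal.ofList_cons]
    have h0 : Ideal.Quotient.mk (Ideal.span {algebraMap P[X] (Localization.Away (c i₀)) (X - C F)})
        (algebraMap P[X] (Localization.Away (c i₀)) (X - C F)) = 0 :=
      Ideal.Quotient.eq_zero_iff_mem.mpr (Ideal.subset_span rfl)
    rw [h0, Ideal.span_singleton_zero, bot_sup_eq]
  rw [h1, hgen, hofL, Ideal.map_map]
  apply le_antisymm
  · rw [Ideal.map_le_iff_le_comap]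
    intro x hx
    rw [Ideal.mem_comap, halg]
    exact Ideal.mem_map_of_mem
      ((Ideal.Quotient.mk _).comp (algebraMap P[X] (Localization.Away (c i₀))))
      (C_mem_comap F I x hx)
  · rw [Ideal.map_le_iff_le_comap]
    intro k hk
    rw [Ideal.mem_comap, RingHom.comp_apply, hmkC]
    exact Ideal.mem_map_of_mem _ hk

theorem kr_comap_eval_iff (I : Ideal P) : KR (I.comap (evalRingHom F)) ↔ KR I :=
  ⟨kr_of_comap_eval F I, kr_comap_eval F I⟩

end Groth.Agent.Lib.KRegPoly
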