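import Mathlib
import Groth.Prelude.Def_Koszul
import Groth.Prelude.Def_LCI2
import Groth.Agent.Lib.KRegIdeal_helper2
import Groth.Agent.Lib.KoszulSplit_helper2

/-!
# Descent of Koszul-regular ideals along a surjection with principal regular kernel
(abstract form of `KRegPoly.kr_of_comap_eval`).

`ε : R₀ → R₁` surjective with kernel `(a)`, `a` a nonzerodivisor, `D` a derivation-like map of `R₀`
with `ε (D a)` a unit.  Then `KR (ε⁻¹ I) → KR I`.
-/

set_option autoImplicit false
universe u

namespace Groth.Agent.Lib.KRegSurj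

open Groth.Agent.Lib.KRegIdeal

variable {R₀ R₁ : Type u} [CommRing R₀] [CommRing R₁] (ε : R₀ →+* R₁)
  (hε : Function.Surjective ε) (a : R₀) (hker : RingHom.ker ε = Ideal.span {a})
  (D : R₀ → R₀) (hDadd : ∀ x y, D (x + y) = D x + D y)
  (hDmul : ∀ x y, D (x * y) = D x * y + x * D y) (hDa : IsUnit (ε (D a)))

include hker in
lemma a_mem_comap (I : Ideal R₁) : a ∈ I.comap ε := by
  rw [Ideal.mem_comap]
  have : a ∈ RingHom.ker ε := by rw [hker]; exact Ideal.subset_span rfl
  rw [RingHom.mem_ker] at this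
  rw [this]
  exact I.zero_mem

include hker hDadd hDmul hDa in
lemma mem_of_mul_mem (I : Ideal R₁) (𝔭 : Ideal R₁) [𝔭.IsPrime] (hle : I ≤ 𝔭) (s : R₀)
    (hs : s * a ∈ (𝔭.comap ε) * (I.comap ε)) : s ∈ 𝔭.comap ε := by
  have hK : I.comap ε ≤ 𝔭.comap ε := Ideal.comap_mono hle
  have hD : ∀ z ∈ (𝔭.comap ε) * (I.comap ε), D z ∈ 𝔭.comap ε := by
    intro z hz
    refine Submodule.mul_induction_on hz ?_ ?_
    · intro q hq k hk
      rw [hDmul]
      exact Ideal.add_mem _ (Ideal.mul_mem_left _ _ (hK hk)) (Ideal.mul_mem_right _ _ hq)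
    · intro x y hx hy
      rw [hDadd]
      exact Ideal.add_mem _ hx hy
  have h1 := hD _ hs
  rw [hDmul] at h1
  have h2 : D s * a ∈ 𝔭.comap ε := Ideal.mul_mem_left _ _ (hK (a_mem_comap ε a hker I))
  have h3 : s * D a ∈ 𝔭.comap ε := by
    have : s * D a = (D s * a + s * D a) - D s * a := by ring
    rw [this]
    exact Ideal.sub_mem _ h1 h2
  rw [Ideal.mem_comap, map_mul] at h3
  rw [Ideal.mem_comap]
  exact (Ideal.mul_unit_mem_iff_mem _ hDa).mp h3

include hε hker hDadd hDmul hDa in
theorem kr_of_comap_surj (hreg : IsSMulRegular R₀ a) (I : Ideal R₁) (h : KR (I.comap ε)) :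
    KR I := by
  intro 𝔭 h𝔭 hle
  have h𝔔 : (𝔭.comap ε).IsPrime := Ideal.comap_isPrime _ _
  have hle' : I.comap ε ≤ 𝔭.comap ε := Ideal.comap_mono hle
  obtain ⟨G, hG, T₁, _, _, hloc₁, L, hL, hK⟩ := h _ h𝔔 hle'
  -- Step 1
  have ha₁ : algebraMap R₀ T₁ a ∈ Ideal.span (Set.range L.get) := by
    rw [Set.range_list_get]
    show _ ∈ Ideal.ofList L
    rw [← hK]
    exact Ideal.mem_map_of_mem _ (a_mem_comap ε a hker I)
  obtain ⟨c, hc⟩ := Ideal.mem_span_range_iff_exists_fun.mp ha₁
  -- Step 2
  have hex : ∃ i₀, c i₀ ∉ (𝔭.comap ε).map (algebraMap R₀ T₁) := by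
    by_contra hcon
    push Not at hcon
    have hmem : algebraMap R₀ T₁ a ∈
        ((𝔭.comap ε) * (I.comap ε)).map (algebraMap R₀ T₁) := by
      rw [Ideal.map_mul, ← hc]
      refine Ideal.sum_mem _ (fun i _ => Ideal.mul_mem_mul (hcon i) ?_)
      rw [hK]
      exact Ideal.subset_span (List.get_mem L i)
    obtain ⟨m, hm, hmz⟩ := (IsLocalization.algebraMap_mem_map_algebraMap_iff
      (Submonoid.powers G) T₁ _ a).mp hmem
    have hm𝔔 : m ∈ 𝔭.comap ε := mem_of_mul_mem ε a hker D hDadd hDmul hDa I 𝔭 hle m hmz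
    obtain ⟨n, rfl⟩ := hm
    exact hG (h𝔔.mem_of_pow_mem n hm𝔔)
  obtain ⟨i₀, hi₀⟩ := hex
  -- Step 3
  obtain ⟨N, c', hc'⟩ := IsLocalization.Away.surj G (c i₀)
  have hGunit : IsUnit (algebraMap R₀ T₁ G) := IsLocalization.Away.algebraMap_isUnit G
  have hc'𝔔 : c' ∉ 𝔭.comap ε := by
    intro hmem
    apply hi₀
    have h1 : algebraMap R₀ T₁ c' ∈ (𝔭.comap ε).map (algebraMap R₀ T₁) :=
      Ideal.mem_map_of_mem _ hmem
    rw [← hc'] at h1
    exact (Ideal.mul_unit_mem_iff_mem _ (hGunit.pow N)).mp h1
  have hGc' : G * c' ∉ 𝔭.comap ε := by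
    intro hmem
    rcases h𝔔.mem_or_mem hmem with h | h
    · exact hG h
    · exact hc'𝔔 h
  have hassoc : Associated (algebraMap R₀ T₁ c') (c i₀) := by
    refine ⟨((hGunit.pow N).unit)⁻¹, ?_⟩
    rw [← hc', mul_assoc]
    have : (algebraMap R₀ T₁ G) ^ N * (((hGunit.pow N).unit)⁻¹ : (T₁)ˣ) = 1 :=
      IsUnit.mul_val_inv (hGunit.pow N)
    rw [this, mul_one]
  haveI hlocT : IsLocalization.Away (G * c') (Localization.Away (c i₀)) :=
    IsLocalization.Away.mul_of_associated G c' (c i₀) hassoc
  -- Step 4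
  have hLT : LCI.IsKoszulRegularSeq (Localization.Away (c i₀))
      (L.map (algebraMap T₁ (Localization.Away (c i₀)))) :=
    kreg_map_of_isLocalization (Submonoid.powers (c i₀)) L hL
  have hu : IsUnit (algebraMap T₁ (Localization.Away (c i₀)) (c i₀)) :=
    IsLocalization.Away.algebraMap_isUnit (c i₀)
  have haT' : algebraMap R₀ (Localization.Away (c i₀)) a =
      algebraMap T₁ (Localization.Away (c i₀)) (algebraMap R₀ T₁ a) :=
    IsScalarTower.algebraMap_apply R₀ T₁ (Localization.Away (c i₀)) _
  have hsum : ∑ i, algebraMap T₁ (Localization.Away (c i₀)) (c i) *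
      algebraMap T₁ (Localization.Away (c i₀)) (L.get i) =
      algebraMap R₀ (Localization.Away (c i₀)) a := by
    rw [haT', ← hc, map_sum]
    exact Finset.sum_congr rfl (fun i _ => (map_mul _ _ _).symm)
  have hmemL' : ∀ j : Fin L.length, j ≠ i₀ →
      algebraMap T₁ (Localization.Away (c i₀)) (L.get j) ∈
        (L.map (algebraMap T₁ (Localization.Away (c i₀)))).eraseIdx i₀ := by
    intro j hj
    rw [List.mem_eraseIdx_iff_getElem]
    refine ⟨j, by simp, fun h => hj (Fin.ext h), by simp⟩
  have hgen : Ideal.ofList (algebraMap R₀ (Localization.Away (c i₀)) a ::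
      (L.map (algebraMap T₁ (Localization.Away (c i₀)))).eraseIdx i₀) =
      Ideal.ofList (L.map (algebraMap T₁ (Localization.Away (c i₀)))) := by
    apply le_antisymm
    · rw [Ideal.ofList_cons]
      apply sup_le
      · rw [Ideal.span_le, Set.singleton_subset_iff, ← hsum]
        refine Ideal.sum_mem _ (fun i _ => Ideal.mul_mem_left _ _ (Ideal.subset_span ?_))
        exact List.mem_map_of_mem (List.get_mem L i)
      · apply Ideal.span_mono
        intro x hx
        exact List.mem_of_mem_eraseIdx hx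
    · apply Ideal.span_le.mpr
      intro x hx
      obtain ⟨y, hy, rfl⟩ := List.mem_map.mp hx
      obtain ⟨j, rfl⟩ := List.get_of_mem hy
      by_cases hj : j = i₀
      · subst hj
        have h1 : algebraMap T₁ (Localization.Away (c j)) (c j) *
            algebraMap T₁ (Localization.Away (c j)) (L.get j) =
            algebraMap R₀ (Localization.Away (c j)) a -
              ∑ i ∈ Finset.univ.erase j, algebraMap T₁ (Localization.Away (c j)) (c i) *
                algebraMap T₁ (Localization.Away (c j)) (L.get i) := by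
          rw [← hsum, ← Finset.add_sum_erase _ _ (Finset.mem_univ j)]
          ring
        have h2 : algebraMap T₁ (Localization.Away (c j)) (c j) *
            algebraMap T₁ (Localization.Away (c j)) (L.get j) ∈
            Ideal.ofList (algebraMap R₀ (Localization.Away (c j)) a ::
              (L.map (algebraMap T₁ (Localization.Away (c j)))).eraseIdx j) := by
          rw [h1]
          refine Ideal.sub_mem _ (Ideal.subset_span List.mem_cons_self)
            (Ideal.sum_mem _ (fun i hi => Ideal.mul_mem_left _ _ (Ideal.subset_span ?_)))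
          exact List.mem_cons_of_mem _ (hmemL' i (Finset.ne_of_mem_erase hi))
        exact (Ideal.unit_mul_mem_iff_mem _ hu).mp h2
      · exact Ideal.subset_span (List.mem_cons_of_mem _ (hmemL' j hj))
  -- Step 5
  have hofL : Ideal.ofList (L.map (algebraMap T₁ (Localization.Away (c i₀)))) =
      (I.comap ε).map (algebraMap R₀ (Localization.Away (c i₀))) := by
    rw [← Ideal.map_ofList, ← hK, Ideal.map_map, ← IsScalarTower.algebraMap_eq]
  have hIne : Ideal.ofList (L.map (algebraMap T₁ (Localization.Away (c i₀)))) ≠ ⊤ := by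
    rw [hofL]
    have h3 : (𝔭.comap ε).map (algebraMap R₀ (Localization.Away (c i₀))) ≠ ⊤ := by
      rw [IsLocalization.map_algebraMap_ne_top_iff_disjoint (Submonoid.powers (G * c'))
        (Localization.Away (c i₀)), Set.disjoint_left]
      rintro x ⟨n, rfl⟩ hx
      exact hGc' (h𝔔.mem_of_pow_mem n hx)
    intro htop
    apply h3
    rw [eq_top_iff, ← htop]
    exact Ideal.map_mono hle'
  have hlen : (algebraMap R₀ (Localization.Away (c i₀)) a ::
      (L.map (algebraMap T₁ (Localization.Away (c i₀)))).eraseIdx i₀).length =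
      (L.map (algebraMap T₁ (Localization.Away (c i₀)))).length := by
    simp only [List.length_cons, List.length_eraseIdx, List.length_map]
    rw [if_pos i₀.2]
    have := i₀.pos
    lia
  have hf : LCI.IsKoszulRegularSeq (Localization.Away (c i₀))
      (algebraMap R₀ (Localization.Away (c i₀)) a ::
        (L.map (algebraMap T₁ (Localization.Away (c i₀)))).eraseIdx i₀) := by
    refine (Groth.Agent.Lib.KoszulSplit.main18935 _ hIne _ hLT rfl _ hgen).mpr ?_
    intro l' hl'
    rw [hlen]
    exact (Groth.Agent.Lib.KoszulSplit.main18935 _ hIne _ hLT rfl _ rfl).mp hLT l' hl'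
  -- Step 6
  have haTreg : IsSMulRegular (Localization.Away (c i₀))
      (algebraMap R₀ (Localization.Away (c i₀)) a) := by
    haveI : Module.Flat R₀ (Localization.Away (c i₀)) :=
      IsLocalization.flat (Localization.Away (c i₀)) (Submonoid.powers (G * c'))
    exact hreg.of_flat
  -- Step 7
  have hq := kreg_quot _ haTreg _ hf
  -- Step 8
  have hkerle : RingHom.ker ε ≤ RingHom.ker
      ((Ideal.Quotient.mk (Ideal.span {algebraMap R₀ (Localization.Away (c i₀)) a})).comp
        (algebraMap R₀ (Localization.Away (c i₀)))) := by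
    rw [hker, Ideal.span_le, Set.singleton_subset_iff]
    show a ∈ RingHom.ker _
    rw [RingHom.mem_ker, RingHom.comp_apply, Ideal.Quotient.eq_zero_iff_mem]
    exact Ideal.subset_span rfl
  let θ : R₁ →+* (Localization.Away (c i₀) ⧸
      Ideal.span {algebraMap R₀ (Localization.Away (c i₀)) a}) :=
    ε.liftOfSurjective hε ⟨_, hkerle⟩
  have hθ : ∀ r : R₀, θ (ε r) = Ideal.Quotient.mk _ (algebraMap R₀ (Localization.Away (c i₀)) r) :=
    fun r => ε.liftOfSurjective_comp_apply hε ⟨_, hkerle⟩ r
  letI algT' : Algebra R₁ (Localization.Away (c i₀) ⧸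
      Ideal.span {algebraMap R₀ (Localization.Away (c i₀)) a}) := θ.toAlgebra
  have hlocT' : IsLocalization.Away (ε (G * c')) (Localization.Away (c i₀) ⧸
      Ideal.span {algebraMap R₀ (Localization.Away (c i₀)) a}) := by
    have := IsLocalization.of_surjective (Submonoid.powers (G * c')) (Localization.Away (c i₀))
      ε hε
      (Ideal.Quotient.mk (Ideal.span {algebraMap R₀ (Localization.Away (c i₀)) a}))
      Ideal.Quotient.mk_surjective (RingHom.ext (fun r => (hθ r).symm))
      (by
        rw [Ideal.mk_ker, Ideal.span_le, Set.singleton_subset_iff]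
        refine Ideal.mem_map_of_mem _ ?_
        rw [hker]
        exact Ideal.subset_span rfl)
    rw [Submonoid.map_powers] at this
    exact this
  -- Step 9
  refine ⟨ε (G * c'), hGc', _, inferInstance, algT', hlocT', _, hq, ?_⟩
  have h1 : Ideal.ofList (((L.map (algebraMap T₁ (Localization.Away (c i₀)))).eraseIdx i₀).map
      (Ideal.Quotient.mk (Ideal.span {algebraMap R₀ (Localization.Away (c i₀)) a}))) =
      (Ideal.ofList (algebraMap R₀ (Localization.Away (c i₀)) a ::
        (L.map (algebraMap T₁ (Localization.Away (c i₀)))).eraseIdx i₀)).map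
        (Ideal.Quotient.mk (Ideal.span {algebraMap R₀ (Localization.Away (c i₀)) a})) := by
    rw [Ideal.map_ofList, List.map_cons, Ideal.ofList_cons]
    have h0 : Ideal.Quotient.mk (Ideal.span {algebraMap R₀ (Localization.Away (c i₀)) a})
        (algebraMap R₀ (Localization.Away (c i₀)) a) = 0 :=
      Ideal.Quotient.eq_zero_iff_mem.mpr (Ideal.subset_span rfl)
    rw [h0, Ideal.span_singleton_zero, bot_sup_eq]
  rw [h1, hgen, hofL, Ideal.map_map]
  show Ideal.map θ I = _
  apply le_antisymm
  · rw [Ideal.map_le_iff_le_comap]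
    intro x hx
    obtain ⟨r, rfl⟩ := hε x
    rw [Ideal.mem_comap, hθ]
    exact Ideal.mem_map_of_mem
      ((Ideal.Quotient.mk _).comp (algebraMap R₀ (Localization.Away (c i₀)))) hx
  · rw [Ideal.map_le_iff_le_comap]
    intro k hk
    rw [Ideal.mem_comap, RingHom.comp_apply, ← hθ]
    exact Ideal.mem_map_of_mem _ hk

end Groth.Agent.Lib.KRegSurj
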