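import Mathlib
import Groth.Prelude.Def_Koszul
import Groth.Prelude.Def_LCI2
import Groth.Agent.Lib.KRegIdeal_helper2
import Groth.Agent.Lib.KRegPoly_helper2

/-!
# Independence of the presentation for Koszul-regular kernels.
-/

set_option autoImplicit false
universe u

namespace Groth.Agent.Lib.LCIPres

open Groth.Agent.Lib.KRegIdeal Groth.Agent.Lib.KRegPoly

section equiv

variable {R R' : Type u} [CommRing R] [CommRing R']

theorem kr_comap_equiv_iff (e : R ≃+* R') (I : Ideal R') :
    KR (I.comap (e : R →+* R')) ↔ KR I := by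
  constructor
  · intro h
    have h2 := kr_comap_equiv e.symm _ h
    have h3 : (I.comap (e : R →+* R')).comap (e.symm : R' →+* R) = I := by
      ext x
      simp only [Ideal.mem_comap]
      show e (e.symm x) ∈ I ↔ x ∈ I
      rw [e.apply_symm_apply]
    rw [h3] at h2
    exact h2
  · exact kr_comap_equiv e I

end equiv

variable {A B : Type u} [CommRing A] [CommRing B] [Algebra A B]

/-- the kernel of the evaluation at a family of elements. -/
noncomputable def kerOf {ι : Type} (c : ι → B) : Ideal (MvPolynomial ι A) :=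
  RingHom.ker (MvPolynomial.aeval c : MvPolynomial ι A →ₐ[A] B).toRingHom

lemma mem_kerOf {ι : Type} (c : ι → B) (p : MvPolynomial ι A) :
    p ∈ kerOf (A := A) c ↔ MvPolynomial.aeval c p = 0 := Iff.rfl

/-- renaming the variables along an equivalence. -/
theorem kr_rename {ι ι' : Type} (ρ : ι ≃ ι') (c : ι' → B) :
    KR (kerOf (A := A) (c ∘ ρ)) ↔ KR (kerOf (A := A) c) := by
  have h : kerOf (A := A) (c ∘ ρ) =
      (kerOf (A := A) c).comap ((MvPolynomial.renameEquiv A ρ).toRingEquiv : _ →+* _) := by
    ext p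
    rw [Ideal.mem_comap, mem_kerOf, mem_kerOf]
    show _ ↔ MvPolynomial.aeval c (MvPolynomial.rename ρ p) = 0
    rw [MvPolynomial.aeval_rename]
  rw [h]
  exact kr_comap_equiv_iff _ _

/-- adding one variable. -/
theorem kr_option {σ : Type} (c : Option σ → B)
    (hsurj : Function.Surjective
      (MvPolynomial.aeval (fun i => c (some i)) : MvPolynomial σ A →ₐ[A] B)) :
    KR (kerOf (A := A) c) ↔ KR (kerOf (A := A) (fun i => c (some i))) := by
  obtain ⟨F, hF⟩ := hsurj (c none)
  let e := MvPolynomial.optionEquivLeft A σ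
  have hcomp : (MvPolynomial.aeval c : MvPolynomial (Option σ) A →ₐ[A] B).toRingHom =
      (((MvPolynomial.aeval (fun i => c (some i)) : MvPolynomial σ A →ₐ[A] B).toRingHom).comp
        (Polynomial.evalRingHom F)).comp (e.toRingEquiv : _ →+* _) := by
    apply MvPolynomial.ringHom_ext
    · intro r
      show MvPolynomial.aeval c (MvPolynomial.C r) =
        MvPolynomial.aeval (fun i => c (some i))
          (Polynomial.eval F (e (MvPolynomial.C r)))
      rw [MvPolynomial.optionEquivLeft_C, Polynomial.eval_C]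
      simp
    · intro i
      show MvPolynomial.aeval c (MvPolynomial.X i) =
        MvPolynomial.aeval (fun i => c (some i))
          (Polynomial.eval F (e (MvPolynomial.X i)))
      cases i with
      | none =>
        rw [MvPolynomial.optionEquivLeft_X_none, Polynomial.eval_X, hF, MvPolynomial.aeval_X]
      | some j =>
        rw [MvPolynomial.optionEquivLeft_X_some, Polynomial.eval_C, MvPolynomial.aeval_X,
          MvPolynomial.aeval_X]
  have h : kerOf (A := A) c =
      ((kerOf (A := A) (fun i => c (some i))).comap (Polynomial.evalRingHom F)).comap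
        (e.toRingEquiv : _ →+* _) := by
    unfold kerOf
    rw [hcomp, RingHom.comap_ker, RingHom.comap_ker]
  rw [h, kr_comap_equiv_iff, kr_comap_eval_iff]

lemma surjective_of_comp {ι ι' : Type} (k : ι → ι') (c : ι' → B)
    (h : Function.Surjective (MvPolynomial.aeval (c ∘ k) : MvPolynomial ι A →ₐ[A] B)) :
    Function.Surjective (MvPolynomial.aeval c : MvPolynomial ι' A →ₐ[A] B) := by
  intro b
  obtain ⟨p, hp⟩ := h b
  exact ⟨MvPolynomial.rename k p, by rw [MvPolynomial.aeval_rename, hp]⟩

/-- the auxiliary equivalence `Option (σ ⊕ τ) ≃ σ ⊕ Option τ`. -/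
def optSum (σ τ : Type) : Option (σ ⊕ τ) ≃ σ ⊕ Option τ where
  toFun x := match x with
    | none => Sum.inr none
    | some (Sum.inl s) => Sum.inl s
    | some (Sum.inr t) => Sum.inr (some t)
  invFun x := match x with
    | Sum.inl s => some (Sum.inl s)
    | Sum.inr none => none
    | Sum.inr (some t) => some (Sum.inr t)
  left_inv x := by
    rcases x with _ | (s | t) <;> rfl
  right_inv x := by
    rcases x with s | (_ | t) <;> rfl

/-- adding finitely many variables. -/
theorem kr_sum (σ : Type) (τ : Type) [Finite τ] :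
    ∀ (c : σ ⊕ τ → B),
      Function.Surjective (MvPolynomial.aeval (c ∘ Sum.inl) : MvPolynomial σ A →ₐ[A] B) →
      (KR (kerOf (A := A) c) ↔ KR (kerOf (A := A) (c ∘ Sum.inl))) := by
  refine Finite.induction_empty_option (P := fun τ => ∀ (c : σ ⊕ τ → B),
      Function.Surjective (MvPolynomial.aeval (c ∘ Sum.inl) : MvPolynomial σ A →ₐ[A] B) →
      (KR (kerOf (A := A) c) ↔ KR (kerOf (A := A) (c ∘ Sum.inl)))) ?_ ?_ ?_ τ
  · intro τ₁ τ₂ ρ ih c hc
    have h1 := kr_rename (A := A) (Equiv.sumCongr (Equiv.refl σ) ρ) c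
    have h2 := ih (c ∘ (Equiv.sumCongr (Equiv.refl σ) ρ)) (by
      have : (c ∘ (Equiv.sumCongr (Equiv.refl σ) ρ)) ∘ Sum.inl = c ∘ Sum.inl := by
        funext s; rfl
      rw [this]; exact hc)
    have h3 : (c ∘ (Equiv.sumCongr (Equiv.refl σ) ρ)) ∘ Sum.inl = c ∘ Sum.inl := by
      funext s; rfl
    rw [h3] at h2
    rw [← h1]
    exact h2
  · intro c hc
    have h1 := kr_rename (A := A) (Equiv.sumEmpty σ PEmpty) (c ∘ Sum.inl)
    have h2 : (c ∘ Sum.inl) ∘ (Equiv.sumEmpty σ PEmpty) = c := by
      funext x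
      rcases x with s | t
      · rfl
      · exact t.elim
    rw [h2] at h1
    exact h1
  · intro τ₁ _ ih c hc
    have h1 := kr_rename (A := A) (optSum σ τ₁) c
    have hsome : (fun i => (c ∘ (optSum σ τ₁)) (some i)) ∘ Sum.inl = c ∘ Sum.inl := by
      funext s; rfl
    have hs2 : Function.Surjective (MvPolynomial.aeval (fun i => (c ∘ (optSum σ τ₁)) (some i)) :
        MvPolynomial (σ ⊕ τ₁) A →ₐ[A] B) := by
      apply surjective_of_comp Sum.inl
      rw [hsome]
      exact hc
    have h2 := kr_option (A := A) (c ∘ (optSum σ τ₁)) hs2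
    have h3 := ih (fun i => (c ∘ (optSum σ τ₁)) (some i)) (by rw [hsome]; exact hc)
    rw [hsome] at h3
    rw [← h1, h2]
    exact h3

/-- independence of the presentation. -/
theorem main9269 (n m : ℕ) (α : MvPolynomial (Fin n) A →ₐ[A] B) (hα : Function.Surjective α)
    (β : MvPolynomial (Fin m) A →ₐ[A] B) (hβ : Function.Surjective β)
    (h : LCI.IsKoszulRegularIdeal (RingHom.ker α.toRingHom)) :
    LCI.IsKoszulRegularIdeal (RingHom.ker β.toRingHom) := by
  rw [kr_iff] at h ⊢
  have hα' : α = MvPolynomial.aeval (α ∘ MvPolynomial.X) := MvPolynomial.aeval_unique α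
  have hβ' : β = MvPolynomial.aeval (β ∘ MvPolynomial.X) := MvPolynomial.aeval_unique β
  let a : Fin n → B := α ∘ MvPolynomial.X
  let b : Fin m → B := β ∘ MvPolynomial.X
  have hkα : RingHom.ker α.toRingHom = kerOf (A := A) a := by
    unfold kerOf; rw [← hα']
  have hkβ : RingHom.ker β.toRingHom = kerOf (A := A) b := by
    unfold kerOf; rw [← hβ']
  rw [hkα] at h
  rw [hkβ]
  have hsa : Function.Surjective (MvPolynomial.aeval a : MvPolynomial (Fin n) A →ₐ[A] B) := by
    rw [← hα']; exact hα
  have hsb : Function.Surjective (MvPolynomial.aeval b : MvPolynomial (Fin m) A →ₐ[A] B) := by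
    rw [← hβ']; exact hβ
  have h1 := kr_sum (A := A) (Fin n) (Fin m) (Sum.elim a b) hsa
  have h2 := kr_sum (A := A) (Fin m) (Fin n) (Sum.elim b a) hsb
  have h3 := kr_rename (A := A) (Equiv.sumComm (Fin m) (Fin n)) (Sum.elim a b)
  have h4 : (Sum.elim a b) ∘ (Equiv.sumComm (Fin m) (Fin n)) = Sum.elim b a := by
    funext x
    rcases x with s | t <;> rfl
  rw [h4] at h3
  have e1 : (Sum.elim a b) ∘ Sum.inl = a := rfl
  have e2 : (Sum.elim b a) ∘ Sum.inl = b := rfl
  rw [e1] at h1
  rw [e2] at h2
  exact h2.mp (h3.mpr (h1.mpr h))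

end Groth.Agent.Lib.LCIPres
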