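import Mathlib
import Groth.Prelude.Def_Koszul
import Groth.Prelude.Def_LCI2
import Groth.Agent.Lib.KRegIdeal_helper2
import Groth.Agent.Lib.KRegPoly_helper2
import Groth.Agent.Lib.KRegSurj_helper2
import Groth.Agent.Lib.LCIPres_helper2

/-!
# Local complete intersection algebras are local on the source (S9253).
-/

set_option autoImplicit false
universe u

namespace Groth.Agent.Lib.LCILocal

open Groth.Agent.Lib.KRegIdeal Groth.Agent.Lib.KRegPoly Groth.Agent.Lib.LCIPres

section indep

variable {A B : Type u} [CommRing A] [CommRing B] [Algebra A B]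

/-- independence of the presentation, for arbitrary finite index types. -/
theorem kr_kerOf_indep {ι ι' : Type} [Finite ι] [Finite ι'] (a : ι → B) (b : ι' → B)
    (ha : Function.Surjective (MvPolynomial.aeval a : MvPolynomial ι A →ₐ[A] B))
    (hb : Function.Surjective (MvPolynomial.aeval b : MvPolynomial ι' A →ₐ[A] B))
    (h : KR (kerOf (A := A) a)) : KR (kerOf (A := A) b) := by
  have h1 := kr_sum (A := A) ι ι' (Sum.elim a b) ha
  have h2 := kr_sum (A := A) ι' ι (Sum.elim b a) hb
  have h3 := kr_rename (A := A) (Equiv.sumComm ι' ι) (Sum.elim a b)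
  have h4 : (Sum.elim a b) ∘ (Equiv.sumComm ι' ι) = Sum.elim b a := by
    funext x
    rcases x with s | t <;> rfl
  rw [h4] at h3
  have e1 : (Sum.elim a b) ∘ Sum.inl = a := rfl
  have e2 : (Sum.elim b a) ∘ Sum.inl = b := rfl
  rw [e1] at h1
  rw [e2] at h2
  exact h2.mp (h3.mpr (h1.mpr h))

/-- an lci algebra has Koszul-regular kernel for every finite presentation. -/
theorem kr_kerOf_of_isLCI (hl : LCI.IsLCI A B) {ι : Type} [Finite ι] (b : ι → B)
    (hb : Function.Surjective (MvPolynomial.aeval b : MvPolynomial ι A →ₐ[A] B)) :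
    KR (kerOf (A := A) b) := by
  obtain ⟨-, n, f, hf, hI⟩ := hl
  have hf' : f = MvPolynomial.aeval (f ∘ MvPolynomial.X) := MvPolynomial.aeval_unique f
  have hk : RingHom.ker f.toRingHom = kerOf (A := A) (f ∘ MvPolynomial.X) := by
    unfold kerOf; rw [← hf']
  rw [kr_iff, hk] at hI
  refine kr_kerOf_indep (f ∘ MvPolynomial.X) b ?_ hb hI
  rw [← hf']; exact hf

end indep

section awayLift

variable {P S : Type u} [CommRing P] [CommRing S] (π : P →+* S) (hπ : Function.Surjective π)
  (G : P)

/-- the map `P_G → S_{π G}` induced by `π`. -/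
noncomputable def awayLift : Localization.Away G →+* Localization.Away (π G) :=
  IsLocalization.Away.lift G (g := (algebraMap S (Localization.Away (π G))).comp π)
    (IsLocalization.Away.algebraMap_isUnit (π G))

lemma awayLift_algebraMap (x : P) :
    awayLift π G (algebraMap P (Localization.Away G) x) =
      algebraMap S (Localization.Away (π G)) (π x) :=
  IsLocalization.Away.lift_eq G _ x

include hπ in
lemma awayLift_surjective : Function.Surjective (awayLift π G) := by
  intro z
  obtain ⟨n, s, hs⟩ := IsLocalization.Away.surj (π G) z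
  obtain ⟨p, rfl⟩ := hπ s
  have hu : IsUnit (algebraMap S (Localization.Away (π G)) (π G)) :=
    IsLocalization.Away.algebraMap_isUnit (π G)
  have hv : algebraMap S (Localization.Away (π G)) (π G) *
      awayLift π G (IsLocalization.Away.invSelf G) = 1 := by
    rw [← awayLift_algebraMap, ← map_mul, IsLocalization.Away.mul_invSelf, map_one]
  refine ⟨algebraMap P (Localization.Away G) p * (IsLocalization.Away.invSelf G) ^ n, ?_⟩
  apply (hu.pow n).mul_left_injective
  show _ * _ = z * _
  rw [hs, map_mul, map_pow, awayLift_algebraMap, mul_assoc, ← mul_pow, mul_comm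
    (awayLift π G (IsLocalization.Away.invSelf G)), hv, one_pow, mul_one]

lemma ker_awayLift :
    RingHom.ker (awayLift π G) = (RingHom.ker π).map (algebraMap P (Localization.Away G)) := by
  apply le_antisymm
  · intro y hy
    rw [RingHom.mem_ker] at hy
    obtain ⟨n, p, hp⟩ := IsLocalization.Away.surj G y
    have h1 : awayLift π G (algebraMap P (Localization.Away G) p) = 0 := by
      rw [← hp, map_mul, hy, zero_mul]
    rw [awayLift_algebraMap] at h1
    have h2 : algebraMap S (Localization.Away (π G)) (π p) =
        algebraMap S (Localization.Away (π G)) 0 := by rw [h1, map_zero]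
    obtain ⟨m, hm⟩ := IsLocalization.Away.exists_of_eq (π G) h2
    rw [mul_zero] at hm
    have h3 : G ^ m * p ∈ RingHom.ker π := by
      rw [RingHom.mem_ker, map_mul, map_pow, hm]
    have h4 : algebraMap P (Localization.Away G) (G ^ m * p) ∈
        (RingHom.ker π).map (algebraMap P (Localization.Away G)) := Ideal.mem_map_of_mem _ h3
    rw [map_mul, ← hp, map_pow] at h4
    have hu : IsUnit (algebraMap P (Localization.Away G) G) :=
      IsLocalization.Away.algebraMap_isUnit G
    have h5 : y * ((algebraMap P (Localization.Away G) G) ^ m *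
        (algebraMap P (Localization.Away G) G) ^ n) ∈
        (RingHom.ker π).map (algebraMap P (Localization.Away G)) := by
      have : y * ((algebraMap P (Localization.Away G) G) ^ m *
          (algebraMap P (Localization.Away G) G) ^ n) =
          (algebraMap P (Localization.Away G) G) ^ m *
            (y * (algebraMap P (Localization.Away G) G) ^ n) := by ring
      rw [this]
      exact h4
    exact (Ideal.mul_unit_mem_iff_mem _ ((hu.pow m).mul (hu.pow n))).mp h5
  · rw [Ideal.map_le_iff_le_comap]
    intro x hx
    rw [RingHom.mem_ker] at hx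
    rw [Ideal.mem_comap, RingHom.mem_ker, awayLift_algebraMap, hx, map_zero]

end awayLift

section adjoin

open Polynomial

variable {P : Type u} [CommRing P] (G : P)

attribute [local instance] IsLocalization.adjoin_inv

/-- `P[X] → P_G`, `X ↦ 1/G`. -/
noncomputable def evInv : P[X] →+* Localization.Away G :=
  Polynomial.eval₂RingHom (algebraMap P (Localization.Away G)) (IsLocalization.Away.invSelf G)

lemma evInv_C (p : P) : evInv G (C p) = algebraMap P (Localization.Away G) p := by
  simp [evInv]

lemma evInv_X : evInv G X = IsLocalization.Away.invSelf G := by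
  simp [evInv]

lemma evInv_eq :
    evInv G = ((IsLocalization.algEquiv (Submonoid.powers G)
      (AdjoinRoot (C G * X - 1 : P[X])) (Localization.Away G) :
        AdjoinRoot (C G * X - 1 : P[X]) →+* Localization.Away G)).comp
      (AdjoinRoot.mk (C G * X - 1 : P[X])) := by
  apply Polynomial.ringHom_ext
  · intro p
    rw [evInv_C, RingHom.comp_apply, AdjoinRoot.mk_C, ← AdjoinRoot.algebraMap_eq]
    exact ((IsLocalization.algEquiv (Submonoid.powers G)
      (AdjoinRoot (C G * X - 1 : P[X])) (Localization.Away G)).commutes p).symm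
  · rw [evInv_X, RingHom.comp_apply, AdjoinRoot.mk_X]
    set e := IsLocalization.algEquiv (Submonoid.powers G)
      (AdjoinRoot (C G * X - 1 : P[X])) (Localization.Away G) with he
    have h1 : algebraMap P (AdjoinRoot (C G * X - 1 : P[X])) G *
        AdjoinRoot.root (C G * X - 1 : P[X]) = 1 := by
      have h0 : AdjoinRoot.mk (C G * X - 1 : P[X]) (C G * X - 1) = 0 := AdjoinRoot.mk_self
      rw [map_sub, map_mul, AdjoinRoot.mk_C, AdjoinRoot.mk_X, map_one, sub_eq_zero] at h0
      rw [AdjoinRoot.algebraMap_eq]
      exact h0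
    have h2 : algebraMap P (Localization.Away G) G * e (AdjoinRoot.root (C G * X - 1 : P[X])) =
        1 := by
      rw [← e.commutes G, ← map_mul, h1, map_one]
    have h3 := IsLocalization.Away.mul_invSelf (S := Localization.Away G) G
    calc IsLocalization.Away.invSelf G
        = IsLocalization.Away.invSelf G * (algebraMap P (Localization.Away G) G *
            e (AdjoinRoot.root (C G * X - 1 : P[X]))) := by rw [h2, mul_one]
      _ = (algebraMap P (Localization.Away G) G * IsLocalization.Away.invSelf G) *
            e (AdjoinRoot.root (C G * X - 1 : P[X])) := by ring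
      _ = e (AdjoinRoot.root (C G * X - 1 : P[X])) := by rw [h3, one_mul]

lemma evInv_surjective : Function.Surjective (evInv G) := by
  rw [evInv_eq]
  exact (IsLocalization.algEquiv (Submonoid.powers G)
      (AdjoinRoot (C G * X - 1 : P[X])) (Localization.Away G)).surjective.comp
    AdjoinRoot.mk_surjective

lemma ker_evInv : RingHom.ker (evInv G) = Ideal.span {(C G * X - 1 : P[X])} := by
  ext x
  rw [RingHom.mem_ker, evInv_eq, RingHom.comp_apply, Ideal.mem_span_singleton]
  constructor
  · intro h
    have : AdjoinRoot.mk (C G * X - 1 : P[X]) x = 0 := by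
      apply (IsLocalization.algEquiv (Submonoid.powers G)
        (AdjoinRoot (C G * X - 1 : P[X])) (Localization.Away G)).injective
      rw [map_zero]
      exact h
    exact AdjoinRoot.mk_eq_zero.mp this
  · intro h
    rw [AdjoinRoot.mk_eq_zero.mpr h]
    exact map_zero _

lemma isSMulRegular_CX_sub_one : IsSMulRegular P[X] (C G * X - 1 : P[X]) := by
  rw [isSMulRegular_iff_right_eq_zero_of_smul]
  intro p hp
  rw [smul_eq_mul] at hp
  have h0 : p.coeff 0 = 0 := by
    have := congrArg (fun q => Polynomial.coeff q 0) hp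
    simp only [sub_mul, one_mul, coeff_sub, mul_assoc, coeff_C_mul, coeff_X_mul_zero, mul_zero,
      zero_sub, coeff_zero, neg_eq_zero] at this
    exact this
  have hstep : ∀ n, p.coeff n = 0 → p.coeff (n + 1) = 0 := by
    intro n hn
    have := congrArg (fun q => Polynomial.coeff q (n + 1)) hp
    simp only [sub_mul, one_mul, coeff_sub, mul_assoc, coeff_C_mul, coeff_X_mul, hn, mul_zero,
      zero_sub, coeff_zero, neg_eq_zero] at this
    exact this
  ext n
  rw [coeff_zero]
  induction n with
  | zero => exact h0
  | succ n ih => exact hstep n ih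

lemma derivative_CX_sub_one : derivative (C G * X - 1 : P[X]) = C G := by
  rw [derivative_sub, derivative_mul, derivative_C, derivative_X, derivative_one]
  ring

/-- descent from `P[X]` to `P_G`. -/
theorem kr_of_comap_evInv (I : Ideal (Localization.Away G)) (h : KR (I.comap (evInv G))) :
    KR I := by
  refine Groth.Agent.Lib.KRegSurj.kr_of_comap_surj (evInv G) (evInv_surjective G)
    (C G * X - 1) (ker_evInv G) (fun p => derivative p) (fun x y => map_add _ x y)
    (fun x y => by rw [derivative_mul]) ?_ (isSMulRegular_CX_sub_one G) I h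
  show IsUnit (evInv G (derivative (C G * X - 1 : P[X])))
  rw [derivative_CX_sub_one, evInv_C]
  exact IsLocalization.Away.algebraMap_isUnit G

end adjoin

section descend

variable {P : Type u} [CommRing P] (G : P)

/-- from `P_G` back to `P`, near a prime not containing `G`. -/
theorem kr_at_of_away (J : Ideal P) (h : KR (J.map (algebraMap P (Localization.Away G))))
    (𝔮 : Ideal P) [𝔮.IsPrime] (hG : G ∉ 𝔮) (hle : J ≤ 𝔮) :
    ∃ g : P, g ∉ 𝔮 ∧
      ∃ (T : Type u) (_ : CommRing T) (_ : Algebra P T) (_ : IsLocalization.Away g T)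
        (l : List T), LCI.IsKoszulRegularSeq T l ∧ J.map (algebraMap P T) = Ideal.ofList l := by
  have hdisj : Disjoint (Submonoid.powers G : Set P) (𝔮 : Set P) := by
    rw [Set.disjoint_left]
    rintro x ⟨n, rfl⟩ hx
    exact hG (Ideal.IsPrime.mem_of_pow_mem inferInstance n hx)
  have h𝔮' : (𝔮.map (algebraMap P (Localization.Away G))).IsPrime :=
    IsLocalization.isPrime_of_isPrime_disjoint (Submonoid.powers G) _ 𝔮 inferInstance hdisj
  obtain ⟨h', hh', T, _, _, hloc, l, hl, hI⟩ := h _ h𝔮' (Ideal.map_mono hle)
  obtain ⟨k, g₀, hg₀⟩ := IsLocalization.Away.surj G h'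
  have hu : IsUnit (algebraMap P (Localization.Away G) G) :=
    IsLocalization.Away.algebraMap_isUnit G
  have hg₀𝔮 : g₀ ∉ 𝔮 := by
    intro hmem
    apply hh'
    have h1 : algebraMap P (Localization.Away G) g₀ ∈
        𝔮.map (algebraMap P (Localization.Away G)) := Ideal.mem_map_of_mem _ hmem
    rw [← hg₀] at h1
    exact (Ideal.mul_unit_mem_iff_mem _ (hu.pow k)).mp h1
  have hassoc : Associated (algebraMap P (Localization.Away G) g₀) h' := by
    refine ⟨((hu.pow k).unit)⁻¹, ?_⟩
    rw [← hg₀, mul_assoc]
    have : (algebraMap P (Localization.Away G) G) ^ k *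
        (((hu.pow k).unit)⁻¹ : (Localization.Away G)ˣ) = 1 := IsUnit.mul_val_inv (hu.pow k)
    rw [this, mul_one]
  letI algT : Algebra P T :=
    ((algebraMap (Localization.Away G) T).comp (algebraMap P (Localization.Away G))).toAlgebra
  haveI : IsScalarTower P (Localization.Away G) T := IsScalarTower.of_algebraMap_eq (fun _ => rfl)
  haveI hlocT : IsLocalization.Away (G * g₀) T :=
    IsLocalization.Away.mul_of_associated G g₀ h' hassoc
  refine ⟨G * g₀, ?_, T, inferInstance, algT, hlocT, l, hl, ?_⟩
  · intro hmem
    rcases Ideal.IsPrime.mem_or_mem inferInstance hmem with h | h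
    · exact hG h
    · exact hg₀𝔮 h
  · rw [← hI, Ideal.map_map]
    rfl

end descend

section main

open Polynomial

variable (R S : Type u) [CommRing R] [CommRing S] [Algebra R S]

/-- the key step: a presentation of `S` has Koszul-regular kernel near a prime where some
localisation `S_g` is lci. -/
theorem kr_at_of_isLCI_away (n : ℕ) (π : MvPolynomial (Fin n) R →ₐ[R] S)
    (hπ : Function.Surjective π) (G : MvPolynomial (Fin n) R)
    (hl : LCI.IsLCI R (Localization.Away (π G)))
    (𝔮 : Ideal (MvPolynomial (Fin n) R)) [𝔮.IsPrime] (hG : G ∉ 𝔮)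
    (hle : RingHom.ker π.toRingHom ≤ 𝔮) :
    ∃ g : MvPolynomial (Fin n) R, g ∉ 𝔮 ∧
      ∃ (T : Type u) (_ : CommRing T) (_ : Algebra (MvPolynomial (Fin n) R) T)
        (_ : IsLocalization.Away g T) (l : List T), LCI.IsKoszulRegularSeq T l ∧
          (RingHom.ker π.toRingHom).map (algebraMap (MvPolynomial (Fin n) R) T) =
            Ideal.ofList l := by
  -- the presentation `P[X] → S_g`
  let γ : (MvPolynomial (Fin n) R)[X] →+* Localization.Away (π G) :=
    (awayLift π.toRingHom G).comp (evInv G)
  have hγsurj : Function.Surjective γ :=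
    (awayLift_surjective π.toRingHom hπ G).comp (evInv_surjective G)
  let c : Option (Fin n) → Localization.Away (π G) := fun o =>
    match o with
    | none => γ X
    | some i => γ (C (MvPolynomial.X i))
  let e := MvPolynomial.optionEquivLeft R (Fin n)
  have hcomp : (MvPolynomial.aeval c :
      MvPolynomial (Option (Fin n)) R →ₐ[R] Localization.Away (π G)).toRingHom =
      γ.comp (e.toRingEquiv : _ →+* _) := by
    apply MvPolynomial.ringHom_ext
    · intro r
      show MvPolynomial.aeval c (MvPolynomial.C r) = γ (e (MvPolynomial.C r))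
      rw [MvPolynomial.optionEquivLeft_C]
      show _ = awayLift π.toRingHom G (evInv G (C (MvPolynomial.C r)))
      rw [evInv_C, awayLift_algebraMap]
      rw [MvPolynomial.aeval_C]
      show _ = algebraMap S (Localization.Away (π G)) (π (MvPolynomial.C r))
      rw [← MvPolynomial.algebraMap_eq, π.commutes, ← IsScalarTower.algebraMap_apply]
    · intro i
      show MvPolynomial.aeval c (MvPolynomial.X i) = γ (e (MvPolynomial.X i))
      cases i with
      | none => rw [MvPolynomial.optionEquivLeft_X_none, MvPolynomial.aeval_X]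
      | some j => rw [MvPolynomial.optionEquivLeft_X_some, MvPolynomial.aeval_X]
  have hcsurj : Function.Surjective (MvPolynomial.aeval c :
      MvPolynomial (Option (Fin n)) R →ₐ[R] Localization.Away (π G)) := by
    intro z
    obtain ⟨w, hw⟩ := hγsurj z
    refine ⟨e.symm w, ?_⟩
    have := RingHom.congr_fun hcomp (e.symm w)
    refine this.trans ?_
    show γ (e (e.symm w)) = z
    rw [e.apply_symm_apply, hw]
  have h1 : KR (kerOf (A := R) c) := kr_kerOf_of_isLCI hl c hcsurj
  have h2 : kerOf (A := R) c = (RingHom.ker γ).comap (e.toRingEquiv : _ →+* _) := by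
    unfold kerOf
    rw [hcomp, RingHom.comap_ker]
  rw [h2, kr_comap_equiv_iff] at h1
  have h3 : RingHom.ker γ = (RingHom.ker (awayLift π.toRingHom G)).comap (evInv G) := by
    rw [RingHom.comap_ker]
  rw [h3] at h1
  have h4 := kr_of_comap_evInv G _ h1
  rw [ker_awayLift] at h4
  exact kr_at_of_away G _ h4 𝔮 hG hle

theorem main9253 (m : ℕ) (g : Fin m → S) (hg : Ideal.span (Set.range g) = ⊤)
    (h : ∀ j, LCI.IsLCI R (Localization.Away (g j))) : LCI.IsLCI R S := by
  have hft : Algebra.FiniteType R S := by
    apply Algebra.FiniteType.of_span_eq_top_target (Set.range g) hg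
    rintro _ ⟨j, rfl⟩
    exact (h j).1
  obtain ⟨n, π, hπ⟩ := Algebra.FiniteType.iff_quotient_mvPolynomial''.mp hft
  refine ⟨hft, n, π, hπ, ?_⟩
  rw [kr_iff]
  intro 𝔮 h𝔮 hle
  have hprime : (𝔮.map π.toRingHom).IsPrime :=
    Ideal.map_isPrime_of_surjective hπ hle
  have hcomap : (𝔮.map π.toRingHom).comap π.toRingHom = 𝔮 :=
    Ideal.comap_map_of_surjective' π.toRingHom hπ 𝔮 |>.trans (by
      rw [sup_eq_left]
      exact hle)
  have hex : ∃ j, g j ∉ 𝔮.map π.toRingHom := by
    by_contra hcon
    push Not at hcon
    have : Ideal.span (Set.range g) ≤ 𝔮.map π.toRingHom := by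
      rw [Ideal.span_le]
      rintro _ ⟨j, rfl⟩
      exact hcon j
    rw [hg] at this
    exact hprime.ne_top (top_le_iff.mp this)
  obtain ⟨j, hj⟩ := hex
  obtain ⟨G, hGj⟩ := hπ (g j)
  have hG : G ∉ 𝔮 := by
    intro hmem
    apply hj
    rw [← hGj]
    exact Ideal.mem_map_of_mem π.toRingHom hmem
  have hl : LCI.IsLCI R (Localization.Away (π G)) := by
    rw [hGj]; exact h j
  exact kr_at_of_isLCI_away R S n π hπ G hl 𝔮 hG hle

end main

end Groth.Agent.Lib.LCILocal
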