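import Mathlib
import Groth.Prelude.Def_Koszul
import Groth.Prelude.Def_LCI2
import Groth.Agent.Lib.KRegIdeal_helper2
import Groth.Agent.Lib.LCIPres_helper2
import Groth.Agent.Lib.LCILocal_helper2
import Groth.Agent.Lib.KoszulComp_helper2

/-!
# Composition of local complete intersection ring maps and morphisms (S1491).
-/

set_option autoImplicit false
universe u

namespace Groth.Agent.Lib.LCIComp

open Groth.Agent.Lib.KRegIdeal Groth.Agent.Lib.LCIPres Groth.Agent.Lib.LCILocal
open Groth.Agent.Lib.KoszulComp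

section flat

/-- a map out of a localisation `R_g` into a flat `R`-algebra is flat -/
lemma flat_of_away {R : Type u} [CommRing R] (g : R) (T : Type u) [CommRing T] [Algebra R T]
    [IsLocalization.Away g T] (T' : Type u) [CommRing T'] [Algebra R T'] [Module.Flat R T']
    (ψ : T →+* T') (hψ : ψ.comp (algebraMap R T) = algebraMap R T') : ψ.Flat := by
  letI : Algebra T T' := ψ.toAlgebra
  haveI : IsScalarTower R T T' :=
    IsScalarTower.of_algebraMap_eq fun x => (RingHom.congr_fun hψ x).symm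
  show Module.Flat T T'
  exact (Module.flat_iff_of_isLocalization T (Submonoid.powers g) T').mpr inferInstance

variable {R C : Type u} [CommRing R] [CommRing C]

/-- flat base change of Koszul-regular ideals -/
theorem kr_map_of_flat (f : R →+* C) (hf : f.Flat) (I : Ideal R) (h : KR I) : KR (I.map f) := by
  intro 𝔮 h𝔮 hle
  haveI := h𝔮
  have h𝔭 : (𝔮.comap f).IsPrime := Ideal.comap_isPrime _ _
  have hle' : I ≤ 𝔮.comap f := Ideal.map_le_iff_le_comap.mp hle
  obtain ⟨g, hg, T, _, _, _, l, hl, hI⟩ := h _ h𝔭 hle'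
  refine ⟨f g, fun hmem => hg hmem, Localization.Away (f g), inferInstance, inferInstance,
    inferInstance, ?_⟩
  have hu : IsUnit (((algebraMap C (Localization.Away (f g))).comp f) g) :=
    IsLocalization.Away.algebraMap_isUnit (f g)
  let ψ : T →+* Localization.Away (f g) := IsLocalization.Away.lift g hu
  have hψ : ψ.comp (algebraMap R T) = (algebraMap C (Localization.Away (f g))).comp f :=
    IsLocalization.Away.lift_comp g hu
  have hflat : ψ.Flat := by
    letI : Algebra R C := f.toAlgebra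
    haveI : Module.Flat R C := hf
    haveI : Module.Flat R (Localization.Away (f g)) := inferInstance
    refine flat_of_away g T (Localization.Away (f g)) ψ ?_
    rw [hψ, IsScalarTower.algebraMap_eq R C (Localization.Away (f g))]
    rfl
  refine ⟨l.map ψ, kreg_map_of_flat ψ hflat l hl, ?_⟩
  rw [Ideal.map_map, ← hψ, ← Ideal.map_map, hI, Ideal.map_ofList]

end flat

section ext

variable {R R' : Type u} [CommRing R] [CommRing R'] (π : R →+* R')
  (hπ : Function.Surjective π)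

include hπ in
/-- **Extensions of Koszul-regular ideals**: if `ker π` and `J` are Koszul-regular, so is
`π⁻¹ J`. -/
theorem kr_comap_of_surj (J : Ideal R') (hI : KR (RingHom.ker π)) (hJ : KR J) :
    KR (J.comap π) := by
  intro 𝔭 h𝔭 hle
  haveI := h𝔭
  have hkerJ : RingHom.ker π ≤ J.comap π := by
    intro x hx
    rw [Ideal.mem_comap, (RingHom.mem_ker).mp hx]
    exact J.zero_mem
  have hker : RingHom.ker π ≤ 𝔭 := le_trans hkerJ hle
  have h𝔭' : (𝔭.map π).IsPrime := Ideal.map_isPrime_of_surjective hπ hker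
  have hJle : J ≤ 𝔭.map π := by
    rw [← Ideal.map_comap_of_surjective π hπ J]
    exact Ideal.map_mono hle
  obtain ⟨g₁, hg₁, T₁, _, _, _, l₁, hl₁, hI₁⟩ := hI 𝔭 h𝔭 hker
  obtain ⟨g₂', hg₂', T₂, _, _, _, l₂, hl₂, hJ₂⟩ := hJ _ h𝔭' hJle
  obtain ⟨g₂, rfl⟩ := hπ g₂'
  have hg₂ : g₂ ∉ 𝔭 := fun hmem => hg₂' (Ideal.mem_map_of_mem π hmem)
  have hgp : g₁ * g₂ ∉ 𝔭 := fun hmem => (h𝔭.mem_or_mem hmem).elim hg₁ hg₂
  refine ⟨g₁ * g₂, hgp, Localization.Away (g₁ * g₂), inferInstance, inferInstance,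
    inferInstance, ?_⟩
  let πg : Localization.Away (g₁ * g₂) →+* Localization.Away (π (g₁ * g₂)) :=
    awayLift π (g₁ * g₂)
  have hπg : Function.Surjective πg := awayLift_surjective π hπ (g₁ * g₂)
  have hkerπg : RingHom.ker πg =
      (RingHom.ker π).map (algebraMap R (Localization.Away (g₁ * g₂))) :=
    ker_awayLift π (g₁ * g₂)
  -- the map `T₁ → T`
  have hu₁ : IsUnit (algebraMap R (Localization.Away (g₁ * g₂)) g₁) := by
    have h0 := IsLocalization.Away.algebraMap_isUnit (S := Localization.Away (g₁ * g₂)) (g₁ * g₂)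
    rw [map_mul] at h0
    exact isUnit_of_mul_isUnit_left h0
  let ψ₁ : T₁ →+* Localization.Away (g₁ * g₂) := IsLocalization.Away.lift g₁ hu₁
  have hψ₁ : ψ₁.comp (algebraMap R T₁) = algebraMap R (Localization.Away (g₁ * g₂)) :=
    IsLocalization.Away.lift_comp g₁ hu₁
  have hflat₁ : ψ₁.Flat := flat_of_away g₁ T₁ _ ψ₁ hψ₁
  -- the map `T₂ → T'`
  have hu₂ : IsUnit (algebraMap R' (Localization.Away (π (g₁ * g₂))) (π g₂)) := by
    have h0 : IsUnit (algebraMap R' (Localization.Away (π (g₁ * g₂))) (π g₁) *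
        algebraMap R' (Localization.Away (π (g₁ * g₂))) (π g₂)) := by
      rw [← map_mul, ← map_mul]
      exact IsLocalization.Away.algebraMap_isUnit (π (g₁ * g₂))
    exact isUnit_of_mul_isUnit_right h0
  let ψ₂ : T₂ →+* Localization.Away (π (g₁ * g₂)) := IsLocalization.Away.lift (π g₂) hu₂
  have hψ₂ : ψ₂.comp (algebraMap R' T₂) = algebraMap R' (Localization.Away (π (g₁ * g₂))) :=
    IsLocalization.Away.lift_comp (π g₂) hu₂
  have hflat₂ : ψ₂.Flat := flat_of_away (π g₂) T₂ _ ψ₂ hψ₂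
  -- sequences
  have hk₁ : LCI.IsKoszulRegularSeq (Localization.Away (g₁ * g₂)) (l₁.map ψ₁) :=
    kreg_map_of_flat ψ₁ hflat₁ l₁ hl₁
  have hI₁' : (RingHom.ker π).map (algebraMap R (Localization.Away (g₁ * g₂))) =
      Ideal.ofList (l₁.map ψ₁) := by
    rw [← hψ₁, ← Ideal.map_map, hI₁, Ideal.map_ofList]
  have hk₂ : LCI.IsKoszulRegularSeq (Localization.Away (π (g₁ * g₂))) (l₂.map ψ₂) :=
    kreg_map_of_flat ψ₂ hflat₂ l₂ hl₂
  have hJ₂' : J.map (algebraMap R' (Localization.Away (π (g₁ * g₂)))) =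
      Ideal.ofList (l₂.map ψ₂) := by
    rw [← hψ₂, ← Ideal.map_map, hJ₂, Ideal.map_ofList]
  obtain ⟨l₂'', hl₂''⟩ := (List.map_surjective_iff.mpr hπg) (l₂.map ψ₂)
  have hkerπg' : RingHom.ker πg = Ideal.ofList (l₁.map ψ₁) := hkerπg.trans hI₁'
  let e : (Localization.Away (g₁ * g₂) ⧸ Ideal.ofList (l₁.map ψ₁)) ≃+*
      Localization.Away (π (g₁ * g₂)) :=
    (Ideal.quotEquivOfEq hkerπg'.symm).trans (RingHom.quotientKerEquivOfSurjective hπg)
  have he : ∀ t : Localization.Away (g₁ * g₂),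
      e (Ideal.Quotient.mk (Ideal.ofList (l₁.map ψ₁)) t) = πg t := fun t => rfl
  have hk₂'' : LCI.IsKoszulRegularSeq
      (Localization.Away (g₁ * g₂) ⧸ Ideal.ofList (l₁.map ψ₁))
      (l₂''.map (Ideal.Quotient.mk (Ideal.ofList (l₁.map ψ₁)))) := by
    have h1 := kreg_map_equiv e.symm (l₂.map ψ₂) hk₂
    have h2 : (l₂.map ψ₂).map e.symm =
        l₂''.map (Ideal.Quotient.mk (Ideal.ofList (l₁.map ψ₁))) := by
      rw [← hl₂'', List.map_map]
      apply List.map_congr_left
      intro t _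
      show e.symm (πg t) = _
      rw [← he t, e.symm_apply_apply]
    rw [← h2]
    exact h1
  refine ⟨l₁.map ψ₁ ++ l₂'', kreg_append' (l₁.map ψ₁) l₂'' hk₁ hk₂'', ?_⟩
  have hsurjeq : ∀ (A B : Ideal (Localization.Away (g₁ * g₂))), RingHom.ker πg ≤ A →
      RingHom.ker πg ≤ B → A.map πg = B.map πg → A = B := by
    intro A B hA hB hAB
    have h1 := Ideal.comap_map_of_surjective' πg hπg A
    have h2 := Ideal.comap_map_of_surjective' πg hπg B
    rw [sup_eq_left.mpr hA] at h1
    rw [sup_eq_left.mpr hB] at h2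
    rw [← h1, ← h2, hAB]
  apply hsurjeq
  · rw [hkerπg]
    exact Ideal.map_mono hkerJ
  · rw [hkerπg', Ideal.ofList_append]
    exact le_sup_left
  · rw [Ideal.map_map]
    have hcomm : πg.comp (algebraMap R (Localization.Away (g₁ * g₂))) =
        (algebraMap R' (Localization.Away (π (g₁ * g₂)))).comp π := by
      ext x
      exact awayLift_algebraMap π (g₁ * g₂) x
    rw [hcomm, ← Ideal.map_map, Ideal.map_comap_of_surjective π hπ J, hJ₂', Ideal.ofList_append,
      Ideal.map_sup, Ideal.map_ofList πg l₂'', hl₂'', ← hkerπg']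
    have hbot : (RingHom.ker πg).map πg = ⊥ := (Ideal.map_eq_bot_iff_le_ker πg).mpr le_rfl
    rw [hbot, bot_sup_eq]

end ext

section comp

variable {A B C : Type u} [CommRing A] [CommRing B] [CommRing C] [Algebra A B] [Algebra B C]
  [Algebra A C] [IsScalarTower A B C]

/-- **Composition of lci ring maps.** -/
theorem isLCI_trans (h1 : LCI.IsLCI A B) (h2 : LCI.IsLCI B C) : LCI.IsLCI A C := by
  obtain ⟨hft1, n, α, hα, hI⟩ := h1
  obtain ⟨hft2, m, β, hβ, hJ⟩ := h2
  have hft : Algebra.FiniteType A C := Algebra.FiniteType.trans hft1 hft2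
  rw [kr_iff] at hI hJ
  let π : MvPolynomial (Fin m) (MvPolynomial (Fin n) A) →+* MvPolynomial (Fin m) B :=
    MvPolynomial.map α.toRingHom
  have hπ : Function.Surjective π := MvPolynomial.map_surjective α.toRingHom hα
  have hkerπ : RingHom.ker π = (RingHom.ker α.toRingHom).map
      (MvPolynomial.C : MvPolynomial (Fin n) A →+* MvPolynomial (Fin m) (MvPolynomial (Fin n) A)) :=
    MvPolynomial.ker_map α.toRingHom
  have hCflat : (MvPolynomial.C :
      MvPolynomial (Fin n) A →+* MvPolynomial (Fin m) (MvPolynomial (Fin n) A)).Flat := by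
    have : (algebraMap (MvPolynomial (Fin n) A)
        (MvPolynomial (Fin m) (MvPolynomial (Fin n) A))).Flat :=
      RingHom.flat_algebraMap_iff.mpr inferInstance
    rwa [MvPolynomial.algebraMap_eq] at this
  have hKπ : KR (RingHom.ker π) := by
    rw [hkerπ]
    exact kr_map_of_flat _ hCflat _ hI
  have hKγ : KR ((RingHom.ker β.toRingHom).comap π) := kr_comap_of_surj π hπ _ hKπ hJ
  -- the presentation in `m + n` variables
  let EA : MvPolynomial (Fin (m + n)) A ≃ₐ[A] MvPolynomial (Fin m) (MvPolynomial (Fin n) A) :=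
    (MvPolynomial.renameEquiv A finSumFinEquiv.symm).trans
      (MvPolynomial.sumAlgEquiv A (Fin m) (Fin n))
  let Φ : MvPolynomial (Fin (m + n)) A →ₐ[A] C :=
    (β.restrictScalars A).comp ((MvPolynomial.mapAlgHom α).comp (EA : _ →ₐ[A] _))
  have hΦ : ∀ x, Φ x = β (π (EA x)) := fun x => rfl
  have hΦsurj : Function.Surjective Φ := by
    intro c
    obtain ⟨y, hy⟩ := hβ c
    obtain ⟨z, hz⟩ := hπ y
    exact ⟨EA.symm z, by rw [hΦ, EA.apply_symm_apply, hz, hy]⟩
  refine ⟨hft, m + n, Φ, hΦsurj, ?_⟩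
  rw [kr_iff]
  have hker : RingHom.ker Φ.toRingHom =
      ((RingHom.ker β.toRingHom).comap π).comap (EA.toRingEquiv : _ →+* _) := by
    ext x
    rw [Ideal.mem_comap, Ideal.mem_comap, RingHom.mem_ker, RingHom.mem_ker]
    exact Iff.rfl
  rw [hker]
  exact kr_comap_equiv EA.toRingEquiv _ hKγ

end comp

section hom

/-- lci ring homomorphisms, unbundled from the algebra instance -/
def IsLCIHom {A B : Type u} [CommRing A] [CommRing B] (φ : A →+* B) : Prop :=
  @LCI.IsLCI A _ B _ φ.toAlgebra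

lemma isLCIHom_comp {A B C : Type u} [CommRing A] [CommRing B] [CommRing C] (φ : A →+* B)
    (ψ : B →+* C) (h1 : IsLCIHom φ) (h2 : IsLCIHom ψ) : IsLCIHom (ψ.comp φ) := by
  letI := φ.toAlgebra
  letI := ψ.toAlgebra
  letI := (ψ.comp φ).toAlgebra
  haveI : IsScalarTower A B C := IsScalarTower.of_algebraMap_eq fun x => rfl
  exact isLCI_trans h1 h2

lemma isLCI_of_ringEquiv {A B B' : Type u} [CommRing A] [CommRing B] [CommRing B'] [Algebra A B]
    [Algebra A B'] (e : B ≃+* B') (he : ∀ a, e (algebraMap A B a) = algebraMap A B' a)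
    (h : LCI.IsLCI A B) : LCI.IsLCI A B' := by
  let eA : B ≃ₐ[A] B' := AlgEquiv.ofRingEquiv (f := e) he
  obtain ⟨hft, n, f, hf, hI⟩ := h
  refine ⟨hft.equiv eA, n, eA.toAlgHom.comp f, eA.surjective.comp hf, ?_⟩
  have : RingHom.ker (eA.toAlgHom.comp f).toRingHom = RingHom.ker f.toRingHom := by
    ext x
    rw [RingHom.mem_ker, RingHom.mem_ker]
    show eA (f x) = 0 ↔ f x = 0
    exact map_eq_zero_iff eA eA.injective
  rw [this]
  exact hI

/-- lci ring maps are local on the source: version for an arbitrary generating set -/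
theorem isLCIHom_of_cover {R S : Type u} [CommRing R] [CommRing S] (φ : R →+* S) (s : Set S)
    (hs : Ideal.span s = ⊤)
    (h : ∀ a ∈ s, ∃ (T : Type u) (_ : CommRing T) (ρ : S →+* T),
      @IsLocalization.Away S _ a T _ ρ.toAlgebra ∧ IsLCIHom (ρ.comp φ)) : IsLCIHom φ := by
  classical
  obtain ⟨s', hs's, hs'⟩ := (Ideal.span_eq_top_iff_finite s).mp hs
  letI := φ.toAlgebra
  show LCI.IsLCI R S
  refine main9253 R S s'.card (fun j => ((s'.equivFin.symm j : s') : S)) ?_ ?_
  · have hr : Set.range (fun j => ((s'.equivFin.symm j : s') : S)) = (s' : Set S) := by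
      ext x
      constructor
      · rintro ⟨j, rfl⟩
        exact (s'.equivFin.symm j).2
      · intro hx
        exact ⟨s'.equivFin ⟨x, hx⟩, by simp⟩
    rw [hr]
    exact hs'
  · intro j
    obtain ⟨T, _, ρ, hloc, hl⟩ := h _ (hs's (s'.equivFin.symm j).2)
    letI := ρ.toAlgebra
    let e : T ≃ₐ[S] Localization.Away (((s'.equivFin.symm j : s') : S)) :=
      IsLocalization.algEquiv (Submonoid.powers (((s'.equivFin.symm j : s') : S))) T _
    refine @isLCI_of_ringEquiv R T (Localization.Away (((s'.equivFin.symm j : s') : S))) _ _ _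
      (ρ.comp φ).toAlgebra _ e.toRingEquiv ?_ hl
    intro a
    show e (ρ (φ a)) = algebraMap R (Localization.Away (((s'.equivFin.symm j : s') : S))) a
    rw [IsScalarTower.algebraMap_apply R S (Localization.Away (((s'.equivFin.symm j : s') : S)))]
    exact e.commutes (φ a)

end hom

section scheme

open AlgebraicGeometry CategoryTheory TopologicalSpace

theorem main1491 {X Y Z : Scheme.{u}} (f : X ⟶ Y) (g : Y ⟶ Z)
    (hf : ∀ (U : X.Opens) (V : Y.Opens) (_ : IsAffineOpen U) (_ : IsAffineOpen V)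
      (hUV : U ≤ f ⁻¹ᵁ V), IsLCIHom (f.appLE V U hUV).hom)
    (hg : ∀ (U : Y.Opens) (V : Z.Opens) (_ : IsAffineOpen U) (_ : IsAffineOpen V)
      (hUV : U ≤ g ⁻¹ᵁ V), IsLCIHom (g.appLE V U hUV).hom) :
    ∀ (U : X.Opens) (V : Z.Opens) (_ : IsAffineOpen U) (_ : IsAffineOpen V)
      (hUV : U ≤ (f ≫ g) ⁻¹ᵁ V), IsLCIHom ((f ≫ g).appLE V U hUV).hom := by
  intro U V hU hV hUV
  let s : Set Γ(X, U) := {a | ∃ (W : Y.Opens), IsAffineOpen W ∧ W ≤ g ⁻¹ᵁ V ∧
    X.basicOpen a ≤ f ⁻¹ᵁ W}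
  have hs : Ideal.span s = ⊤ := by
    rw [← hU.self_le_iSup_basicOpen_iff]
    intro x hx
    have hx' : f x ∈ g ⁻¹ᵁ V := hUV hx
    obtain ⟨_, ⟨W, hW, rfl⟩, hxW, hWV⟩ :=
      Y.isBasis_affineOpens.exists_subset_of_mem_open hx' (g ⁻¹ᵁ V).isOpen
    obtain ⟨a, ha, hxa⟩ := hU.exists_basicOpen_le (V := f ⁻¹ᵁ W) ⟨x, hxW⟩ hx
    rw [Opens.mem_iSup]
    exact ⟨⟨a, W, hW, hWV, ha⟩, hxa⟩
  apply isLCIHom_of_cover _ s hs
  rintro a ⟨W, hW, hWV, haW⟩
  have hDU : X.basicOpen a ≤ U := X.basicOpen_le a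
  refine ⟨Γ(X, X.basicOpen a), inferInstance, (X.presheaf.map (homOfLE hDU).op).hom,
    hU.isLocalization_of_eq_basicOpen a (homOfLE hDU) rfl, ?_⟩
  have h1 := hf (X.basicOpen a) W (hU.basicOpen a) hW haW
  have h2 := hg W V hW hV hWV
  have h3 := isLCIHom_comp _ _ h2 h1
  have heq : (f.appLE W (X.basicOpen a) haW).hom.comp (g.appLE V W hWV).hom =
      (X.presheaf.map (homOfLE hDU).op).hom.comp ((f ≫ g).appLE V U hUV).hom := by
    rw [← CommRingCat.hom_comp, ← CommRingCat.hom_comp, Scheme.Hom.appLE_comp_appLE,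
      Scheme.Hom.appLE_map]
  rw [← heq]
  exact h3

end scheme

end Groth.Agent.Lib.LCIComp
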