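import Mathlib
import Groth.Prelude.Def_Koszul
import Groth.Prelude.Def_LCI2
import Groth.Agent.Lib.KRegIdeal_helper2
import Groth.Agent.Lib.LCIPres_helper2
import Groth.Agent.Lib.LCILocal_helper2
import Groth.Agent.Lib.LCIComp_helper2
import Groth.Agent.Lib.FpqcKoszul_helper2
import Groth.Agent.Lib.FpqcFamily_helper2

/-!
# fpqc descent of local complete intersection ring maps and morphisms (S1492).
-/

set_option autoImplicit false
universe u

namespace Groth.Agent.Lib.LCIDesc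

open Groth.Agent.Lib.KRegIdeal Groth.Agent.Lib.LCIPres Groth.Agent.Lib.LCILocal
open Groth.Agent.Lib.LCIComp Groth.Agent.Lib.FpqcReg
open scoped TensorProduct

attribute [local instance] MvPolynomial.algebraMvPolynomial

section pres

variable (A B C : Type u) [CommRing A] [CommRing B] [CommRing C] [Algebra A B] [Algebra A C]

/-- base change of a presentation -/
noncomputable def bcPres (n : ℕ) (f : MvPolynomial (Fin n) A →ₐ[A] B) :
    MvPolynomial (Fin n) C →ₐ[C] C ⊗[A] B :=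
  (Algebra.TensorProduct.map (AlgHom.id C C) f).comp
    (MvPolynomial.algebraTensorAlgEquiv A C).symm.toAlgHom

lemma bcPres_surjective (n : ℕ) (f : MvPolynomial (Fin n) A →ₐ[A] B)
    (hf : Function.Surjective f) : Function.Surjective (bcPres A B C n f) := by
  have h1 : Function.Surjective (Algebra.TensorProduct.map (AlgHom.id C C) f) :=
    Algebra.TensorProduct.map_surjective (AlgHom.id C C) f Function.surjective_id hf
  exact h1.comp (MvPolynomial.algebraTensorAlgEquiv A C).symm.surjective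

lemma ker_bcPres (n : ℕ) (f : MvPolynomial (Fin n) A →ₐ[A] B) (hf : Function.Surjective f) :
    RingHom.ker (bcPres A B C n f).toRingHom =
      (RingHom.ker f.toRingHom).map
        (algebraMap (MvPolynomial (Fin n) A) (MvPolynomial (Fin n) C)) := by
  set P := MvPolynomial (Fin n) A with hP
  set P' := MvPolynomial (Fin n) C with hP'
  let φ : P →+* P' := algebraMap P P'
  let E : C ⊗[A] P ≃ₐ[C] P' := MvPolynomial.algebraTensorAlgEquiv A C
  let g₀ : C ⊗[A] P →ₐ[C] C ⊗[A] B := Algebra.TensorProduct.map (AlgHom.id C C) f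
  set I := RingHom.ker f.toRingHom with hIdef
  have hEφ : ∀ p : P, E ((1 : C) ⊗ₜ[A] p) = φ p := by
    intro p
    rw [MvPolynomial.algebraTensorAlgEquiv_tmul, one_smul]
    rfl
  have h1 : RingHom.ker (Algebra.TensorProduct.map (AlgHom.id A C) f) =
      I.map (Algebra.TensorProduct.includeRight : P →ₐ[A] C ⊗[A] P) :=
    Algebra.TensorProduct.lTensor_ker f hf
  apply le_antisymm
  · intro x hx
    have hx' : g₀ (E.symm x) = 0 := hx
    have h2 : E.symm x ∈ RingHom.ker (Algebra.TensorProduct.map (AlgHom.id A C) f) := hx'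
    rw [h1] at h2
    have h6 : Ideal.map (Algebra.TensorProduct.includeRight : P →ₐ[A] C ⊗[A] P) I ≤
        (I.map φ).comap (E : C ⊗[A] P →+* P') := by
      rw [Ideal.map_le_iff_le_comap]
      intro p hp
      show E ((1 : C) ⊗ₜ[A] p) ∈ I.map φ
      rw [hEφ]
      exact Ideal.mem_map_of_mem φ hp
    have h7 : E (E.symm x) ∈ I.map φ := h6 h2
    rwa [AlgEquiv.apply_symm_apply] at h7
  · rw [Ideal.map_le_iff_le_comap]
    intro p hp
    show g₀ (E.symm (φ p)) = 0
    rw [← hEφ p, AlgEquiv.symm_apply_apply]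
    show (1 : C) ⊗ₜ[A] f p = 0
    have : f p = 0 := hp
    rw [this, TensorProduct.tmul_zero]

end pres

section family

variable {A : Type u} [CommRing A] {ι : Type u} [Finite ι] (A' : ι → Type u)
  [∀ j, CommRing (A' j)] [∀ j, Algebra A (A' j)] [∀ j, Module.Flat A (A' j)]

/-- the base change of a jointly surjective flat family is jointly surjective -/
lemma exists_prime_tensor_family
    (hsurj : ∀ p : PrimeSpectrum A, ∃ j, ∃ q : PrimeSpectrum (A' j),
      PrimeSpectrum.comap (algebraMap A (A' j)) q = p)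
    (P : Type u) [CommRing P] [Algebra A P] (p : PrimeSpectrum P) :
    ∃ j, ∃ q : PrimeSpectrum (P ⊗[A] A' j),
      PrimeSpectrum.comap (algebraMap P (P ⊗[A] A' j)) q = p := by
  classical
  haveI := Fintype.ofFinite ι
  haveI : Module.Flat A (Π j, A' j) :=
    Module.Flat.of_linearEquiv (DFinsupp.linearEquivFunOnFintype (R := A) (M := A')).symm
  haveI : Module.FaithfullyFlat A (Π j, A' j) := by
    apply Module.FaithfullyFlat.of_comap_surjective
    intro p
    obtain ⟨j, q, hq⟩ := hsurj p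
    refine ⟨PrimeSpectrum.comap (Pi.evalRingHom A' j) q, ?_⟩
    rw [← hq]
    rfl
  haveI : Module.FaithfullyFlat P (P ⊗[A] (Π j, A' j)) := inferInstance
  obtain ⟨Q, hQ⟩ := PrimeSpectrum.comap_surjective_of_faithfullyFlat (A := P)
    (B := P ⊗[A] (Π j, A' j)) p
  let E : P ⊗[A] (Π j, A' j) ≃ₐ[P] Π j, P ⊗[A] A' j := Algebra.TensorProduct.piRight A P P A'
  let Q' : PrimeSpectrum (Π j, P ⊗[A] A' j) :=
    PrimeSpectrum.comap ((E.symm : (Π j, P ⊗[A] A' j) ≃ₐ[P] _) : _ →+* _) Q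
  obtain ⟨⟨j, q⟩, hq⟩ := (PrimeSpectrum.sigmaToPi_bijective (fun j => P ⊗[A] A' j)).2 Q'
  refine ⟨j, q, ?_⟩
  have h1 := congrArg PrimeSpectrum.asIdeal hq
  rw [PrimeSpectrum.sigmaToPi_apply] at h1
  rw [← hQ]
  apply PrimeSpectrum.ext
  ext x
  show algebraMap P (P ⊗[A] A' j) x ∈ q.asIdeal ↔
    algebraMap P (P ⊗[A] (Π j, A' j)) x ∈ Q.asIdeal
  have h2 : algebraMap P (Π j, P ⊗[A] A' j) x ∈ Q'.asIdeal ↔
      algebraMap P (P ⊗[A] A' j) x ∈ q.asIdeal := by
    rw [← h1]
    exact Iff.rfl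
  rw [← h2]
  show E.symm (algebraMap P (Π j, P ⊗[A] A' j) x) ∈ Q.asIdeal ↔ _
  rw [E.symm.commutes]

/-- **fpqc descent of lci ring maps**, for a finite jointly surjective flat family. -/
theorem isLCI_descent_family {B : Type u} [CommRing B] [Algebra A B]
    (hft : Algebra.FiniteType A B)
    (hsurj : ∀ p : PrimeSpectrum A, ∃ j, ∃ q : PrimeSpectrum (A' j),
      PrimeSpectrum.comap (algebraMap A (A' j)) q = p)
    (h : ∀ j, LCI.IsLCI (A' j) (A' j ⊗[A] B)) : LCI.IsLCI A B := by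
  classical
  obtain ⟨n, π, hπ⟩ := Algebra.FiniteType.iff_quotient_mvPolynomial''.mp hft
  refine ⟨hft, n, π, hπ, ?_⟩
  rw [kr_iff]
  have hφ : ∀ j, (algebraMap (MvPolynomial (Fin n) A) (MvPolynomial (Fin n) (A' j))).Flat := by
    intro j
    rw [RingHom.flat_algebraMap_iff]
    exact Module.Flat.of_linearEquiv (Algebra.IsPushout.equiv A (MvPolynomial (Fin n) A) (A' j)
      (MvPolynomial (Fin n) (A' j))).symm.toLinearEquiv
  have hsurjP : ∀ p : PrimeSpectrum (MvPolynomial (Fin n) A), ∃ j,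
      ∃ q : PrimeSpectrum (MvPolynomial (Fin n) (A' j)),
        PrimeSpectrum.comap (algebraMap (MvPolynomial (Fin n) A)
          (MvPolynomial (Fin n) (A' j))) q = p := by
    intro p
    obtain ⟨j, q, hq⟩ := exists_prime_tensor_family A' hsurj (MvPolynomial (Fin n) A) p
    let θ := Algebra.IsPushout.equiv A (MvPolynomial (Fin n) A) (A' j)
      (MvPolynomial (Fin n) (A' j))
    refine ⟨j, PrimeSpectrum.comap ((θ.symm : _ ≃ₐ[MvPolynomial (Fin n) A] _) : _ →+* _) q, ?_⟩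
    rw [← hq]
    apply PrimeSpectrum.ext
    ext x
    show θ.symm (algebraMap (MvPolynomial (Fin n) A) (MvPolynomial (Fin n) (A' j)) x) ∈
        q.asIdeal ↔
      algebraMap (MvPolynomial (Fin n) A) (MvPolynomial (Fin n) A ⊗[A] A' j) x ∈ q.asIdeal
    rw [θ.symm.commutes]
  have hj : ∀ j, LocP PK ((RingHom.ker π.toRingHom).map
      (algebraMap (MvPolynomial (Fin n) A) (MvPolynomial (Fin n) (A' j)))) := by
    intro j
    obtain ⟨-, m, α, hα, hK⟩ := h j
    have h1 := main9269 m n α hα (bcPres A B (A' j) n π) (bcPres_surjective A B (A' j) n π hπ) hK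
    rw [ker_bcPres A B (A' j) n π hπ, kr_iff] at h1
    exact h1
  exact locP_descent_family desc_koszul (fun j => MvPolynomial (Fin n) (A' j))
    (fun j => algebraMap (MvPolynomial (Fin n) A) (MvPolynomial (Fin n) (A' j))) hφ hsurjP _ hj

end family

section hom

open CategoryTheory CategoryTheory.Limits

/-- hom-and-pushout form of the descent theorem -/
theorem isLCIHom_descent {A B : Type u} [CommRing A] [CommRing B] (α : A →+* B)
    (hft : α.FiniteType) {ι : Type u} [Finite ι] (A' B' : ι → Type u)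
    [∀ j, CommRing (A' j)] [∀ j, CommRing (B' j)]
    (γ : ∀ j, A →+* A' j) (β : ∀ j, B →+* B' j) (δ : ∀ j, A' j →+* B' j)
    (hpo : ∀ j, IsPushout (CommRingCat.ofHom α) (CommRingCat.ofHom (γ j))
      (CommRingCat.ofHom (β j)) (CommRingCat.ofHom (δ j)))
    (hflat : ∀ j, (γ j).Flat)
    (hsurj : ∀ p : PrimeSpectrum A, ∃ j, ∃ q : PrimeSpectrum (A' j),
      PrimeSpectrum.comap (γ j) q = p)
    (h : ∀ j, IsLCIHom (δ j)) : IsLCIHom α := by
  letI := α.toAlgebra
  letI : ∀ j, Algebra A (A' j) := fun j => (γ j).toAlgebra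
  haveI : ∀ j, Module.Flat A (A' j) := fun j => hflat j
  show LCI.IsLCI A B
  refine isLCI_descent_family A' hft hsurj (fun j => ?_)
  have hT := CommRingCat.isPushout_tensorProduct A (A' j) B
  have hpo' : IsPushout (CommRingCat.ofHom (algebraMap A (A' j)))
      (CommRingCat.ofHom (algebraMap A B)) (CommRingCat.ofHom (δ j)) (CommRingCat.ofHom (β j)) :=
    (hpo j).flip
  let e := hT.isoIsPushout _ _ hpo'
  have he : ∀ a : A' j, e.hom.hom (a ⊗ₜ[A] (1 : B)) = δ j a := by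
    intro a
    have := congrArg (fun t => t.hom a) (hT.inl_isoIsPushout_hom _ _ hpo')
    exact this
  let E : B' j ≃+* (A' j ⊗[A] B) := (e.commRingCatIsoToRingEquiv).symm
  refine @isLCI_of_ringEquiv (A' j) (B' j) (A' j ⊗[A] B) _ _ _ (δ j).toAlgebra _ E ?_ (h j)
  intro a
  show E (δ j a) = algebraMap (A' j) (A' j ⊗[A] B) a
  rw [← he a, Algebra.TensorProduct.algebraMap_apply]
  exact e.commRingCatIsoToRingEquiv.symm_apply_apply _

end hom

section scheme

open AlgebraicGeometry CategoryTheory CategoryTheory.Limits TopologicalSpace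

theorem main1492 {X S X' S' : Scheme.{u}} (f : X ⟶ S) (f' : X' ⟶ S') (g' : X' ⟶ X) (g : S' ⟶ S)
    [Flat g] [Surjective g] [QuasiCompact g] (hc : IsPullback g' f' f g)
    (hf' : ∀ (U : X'.Opens) (V : S'.Opens) (_ : IsAffineOpen U) (_ : IsAffineOpen V)
      (hUV : U ≤ f' ⁻¹ᵁ V), IsLCIHom (f'.appLE V U hUV).hom) :
    ∀ (U : X.Opens) (V : S.Opens) (_ : IsAffineOpen U) (_ : IsAffineOpen V)
      (hUV : U ≤ f ⁻¹ᵁ V), IsLCIHom (f.appLE V U hUV).hom := by
  intro U V hU hV hUV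
  have hlft' : LocallyOfFiniteType f' := by
    rw [HasRingHomProperty.iff_appLE (P := @LocallyOfFiniteType)]
    intro V' U' e
    exact (hf' U'.1 V'.1 U'.2 V'.2 e).1
  have hlft : LocallyOfFiniteType f :=
    MorphismProperty.DescendsAlong.of_isPullback (P := @LocallyOfFiniteType)
      (Q := @Surjective ⊓ @Flat ⊓ @QuasiCompact) hc.flip
      ⟨⟨inferInstance, inferInstance⟩, inferInstance⟩ hlft'
  have hft : (f.appLE V U hUV).hom.FiniteType :=
    HasRingHomProperty.appLE (P := @LocallyOfFiniteType) f hlft ⟨V, hV⟩ ⟨U, hU⟩ hUV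
  have hcpt : IsCompact (X := S') (g ⁻¹ᵁ V) := g.isCompact_preimage hV.isCompact
  obtain ⟨s, hs, hsV⟩ := isCompact_iff_finite_and_eq_biUnion_affineOpens.mp hcpt
  haveI : Finite s := hs.to_subtype
  have hle : ∀ j : s, j.1.1 ≤ g ⁻¹ᵁ V := fun j => by
    rw [hsV]
    exact le_iSup₂_of_le j.1 j.2 le_rfl
  have hU'aff : ∀ j : s, IsAffineOpen (g' ⁻¹ᵁ U ⊓ f' ⁻¹ᵁ j.1.1) := by
    intro j
    haveI : IsAffine (V : Scheme) := hV
    haveI : IsAffine (j.1.1 : Scheme) := j.1.2
    haveI : IsAffine (U : Scheme) := hU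
    exact IsAffine.of_isIso (Scheme.Hom.isPullback_resLE hc (hle j) hUV rfl).isoPullback.hom
  have hpo : ∀ j : s, IsPushout (f.appLE V U hUV) (g.appLE V j.1.1 (hle j))
      (g'.appLE U (g' ⁻¹ᵁ U ⊓ f' ⁻¹ᵁ j.1.1) inf_le_left)
      (f'.appLE j.1.1 (g' ⁻¹ᵁ U ⊓ f' ⁻¹ᵁ j.1.1) inf_le_right) :=
    fun j => (isIso_pushoutSection_iff hc (hle j) hUV rfl).mp
      (isIso_pushoutSection_of_isAffineOpen hc (hle j) hUV rfl hV j.1.2 hU)
  apply isLCIHom_descent (f.appLE V U hUV).hom hft (fun j : s => Γ(S', j.1.1))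
    (fun j : s => Γ(X', g' ⁻¹ᵁ U ⊓ f' ⁻¹ᵁ j.1.1))
    (fun j => (g.appLE V j.1.1 (hle j)).hom)
    (fun j => (g'.appLE U (g' ⁻¹ᵁ U ⊓ f' ⁻¹ᵁ j.1.1) inf_le_left).hom)
    (fun j => (f'.appLE j.1.1 (g' ⁻¹ᵁ U ⊓ f' ⁻¹ᵁ j.1.1) inf_le_right).hom)
  · intro j
    exact hpo j
  · intro j
    exact g.flat_appLE hV j.1.2 (hle j)
  · intro p
    obtain ⟨x, rfl⟩ : ∃ x : V, hV.primeIdealOf x = p :=
      ⟨hV.isoSpec.inv p, by simp [IsAffineOpen.primeIdealOf]⟩
    obtain ⟨x', hx'⟩ := g.surjective x.1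
    have hx'V : x' ∈ g ⁻¹ᵁ V := by
      show g x' ∈ V
      rw [hx']
      exact x.2
    rw [hsV] at hx'V
    obtain ⟨j, hj, hx'j⟩ : ∃ j ∈ s, x' ∈ (j : S'.Opens) := by
      simpa [Opens.mem_iSup] using hx'V
    refine ⟨⟨j, hj⟩, j.2.primeIdealOf ⟨x', hx'j⟩, ?_⟩
    rw [IsAffineOpen.comap_primeIdealOf_appLE V hV j.1 j.2 (hle ⟨j, hj⟩) hx'j]
    congr 1
    exact Subtype.ext hx'
  · intro j
    exact hf' _ j.1.1 (hU'aff j) j.1.2 inf_le_right

end scheme

end Groth.Agent.Lib.LCIDesc
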