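import Mathlib
import Groth.Prelude.Def_LCI2
import Groth.Prelude.Def_MoreMor
import Groth.Agent.Lib.KRegIdeal_helper2
import Groth.Agent.Lib.LCIComp_helper2
import Groth.Agent.Lib.FpqcReg2_helper2
import Groth.Agent.Lib.FpqcKoszul_helper2
import Groth.Agent.Lib.DMod62_helper6

/-!
# lci morphisms are locally of finite presentation, pseudo-coherent and perfect (S1514).
-/

set_option autoImplicit false
universe u
attribute [local instance] HasDerivedCategory.standard

namespace Groth.Agent.Lib.LCIPerf

open Groth.Agent.Lib.KRegIdeal Groth.Agent.Lib.LCIComp Groth.Agent.Lib.FpqcReg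

/-- an lci algebra is of finite presentation -/
theorem finitePresentation_of_isLCI (A B : Type u) [CommRing A] [CommRing B] [Algebra A B]
    (h : LCI.IsLCI A B) : Algebra.FinitePresentation A B := by
  obtain ⟨-, n, f, hf, hI⟩ := h
  rw [kr_iff] at hI
  have hfg : (RingHom.ker f.toRingHom).FG := fg_of_locP (P := PK) _ hI
  exact Algebra.FinitePresentation.of_surjective hf hfg

section scheme

open AlgebraicGeometry CategoryTheory

theorem main1514 {X S : Scheme.{u}} (f : X ⟶ S)
    (hf : ∀ (U : X.Opens) (V : S.Opens) (_ : IsAffineOpen U) (_ : IsAffineOpen V)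
      (hUV : U ≤ f ⁻¹ᵁ V), IsLCIHom (f.appLE V U hUV).hom) :
    LocallyOfFinitePresentation f ∧ MoreMor.IsPseudoCoherentMor f ∧ MoreMor.IsPerfectMor f := by
  refine ⟨?_, ?_, ?_⟩
  · rw [HasRingHomProperty.iff_appLE (P := @LocallyOfFinitePresentation)]
    intro V U e
    letI := (f.appLE V.1 U.1 e).hom.toAlgebra
    exact finitePresentation_of_isLCI _ _ (hf U.1 V.1 U.2 V.2 e)
  · intro U V hU hV hUV
    letI := (f.appLE V U hUV).hom.toAlgebra
    exact (Groth.Agent.Lib.DMod_helper6.isPerfectHom_of_isLCI _ _ (hf U V hU hV hUV)).1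
  · intro U V hU hV hUV
    letI := (f.appLE V U hUV).hom.toAlgebra
    exact Groth.Agent.Lib.DMod_helper6.isPerfectHom_of_isLCI _ _ (hf U V hU hV hUV)

end scheme

end Groth.Agent.Lib.LCIPerf
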