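import Mathlib
import Groth.Prelude.Def_Koszul
import Groth.Prelude.Def_LCI2
import Groth.Agent.Lib.KRegIdeal_helper2
import Groth.Agent.Lib.LCIPres_helper2
import Groth.Agent.Lib.LCILocal_helper2
import Groth.Agent.Lib.LCIComp_helper2
import Groth.Agent.Lib.KoszulTop_helper7

/-!
# Smooth ring maps are local complete intersections (helper2)

The proof goes through "étale coordinates": for a submersive presentation `A[X_ι]/(r_σ)` the map
`A[Y_σ] → A[X_ι]`, `Y_s ↦ r_s`, is standard smooth (hence flat) after inverting the Jacobian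
determinant, and the ideal `(Y_s)` of `A[Y_σ]` is Koszul-regular.
-/

set_option autoImplicit false
universe u

namespace Groth.Agent.Lib.SmoothLCI

open Groth.Agent.Lib.KRegIdeal Groth.Agent.Lib.LCIPres Groth.Agent.Lib.LCILocal
open Groth.Agent.Lib.LCIComp
open MvPolynomial

section basics

variable {A : Type u} [CommRing A]

lemma kr_bot : KR (⊥ : Ideal A) := by
  intro 𝔭 h𝔭 _
  refine ⟨1, fun h => h𝔭.ne_top ((Ideal.eq_top_iff_one _).mpr h), Localization.Away (1 : A),
    inferInstance, inferInstance, inferInstance, [], ?_, ?_⟩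
  · exact (Groth.Agent.Lib.KoszulTopH7.koszulRegular ([] : List (Localization.Away (1 : A)))
      (RingTheory.Sequence.IsWeaklyRegular.nil _ _)).1
  · rw [Ideal.map_bot, Ideal.ofList_nil]

lemma isLCI_self : LCI.IsLCI A A := by
  refine ⟨inferInstance, 0, (MvPolynomial.isEmptyAlgEquiv A (Fin 0)).toAlgHom,
    (MvPolynomial.isEmptyAlgEquiv A (Fin 0)).surjective, ?_⟩
  rw [kr_iff]
  have : RingHom.ker ((MvPolynomial.isEmptyAlgEquiv A (Fin 0)).toAlgHom).toRingHom = ⊥ := by
    rw [← RingHom.injective_iff_ker_eq_bot]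
    exact (MvPolynomial.isEmptyAlgEquiv A (Fin 0)).injective
  rw [this]
  exact kr_bot

variable {B : Type u} [CommRing B] [Algebra A B]

theorem isLCI_of_kr_kerOf {ι : Type} [Finite ι] (c : ι → B)
    (hc : Function.Surjective (aeval c : MvPolynomial ι A →ₐ[A] B))
    (h : KR (kerOf (A := A) c)) : LCI.IsLCI A B := by
  obtain ⟨n, ⟨e⟩⟩ := Finite.exists_equiv_fin ι
  have hft : Algebra.FiniteType A B := Algebra.FiniteType.of_surjective (aeval c) hc
  have hsurj : Function.Surjective (aeval (c ∘ e.symm) : MvPolynomial (Fin n) A →ₐ[A] B) := by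
    intro b
    obtain ⟨p, hp⟩ := hc b
    refine ⟨rename e p, ?_⟩
    rw [aeval_rename]
    have : (c ∘ e.symm) ∘ e = c := by
      funext i
      simp
    rw [this, hp]
  refine ⟨hft, n, aeval (c ∘ e.symm), hsurj, ?_⟩
  rw [kr_iff]
  show KR (kerOf (A := A) (c ∘ e.symm))
  exact (kr_rename e.symm c).mpr h

end basics

section coord

variable {A B : Type u} [CommRing A] [CommRing B] [Algebra A B] {ι σ : Type} [Finite σ]
  [Finite ι] (Pr : Algebra.SubmersivePresentation A B ι σ)

/-- `v_s = r_s - Y_s` in `A[Y_σ][X_ι]` -/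
noncomputable def vrel (s : σ) : MvPolynomial ι (MvPolynomial σ A) :=
  MvPolynomial.map (algebraMap A (MvPolynomial σ A)) (Pr.relation s) - C (X s)

/-- `A[Y_σ][X_ι]/(r_s - Y_s)` -/
def Qt : Type u :=
  MvPolynomial ι (MvPolynomial σ A) ⧸ Ideal.span (Set.range (vrel Pr))

noncomputable instance instCommRingQt : CommRing (Qt Pr) :=
  inferInstanceAs (CommRing
    (MvPolynomial ι (MvPolynomial σ A) ⧸ Ideal.span (Set.range (vrel Pr))))

noncomputable instance instAlgebraQt : Algebra (MvPolynomial σ A) (Qt Pr) :=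
  inferInstanceAs (Algebra (MvPolynomial σ A)
    (MvPolynomial ι (MvPolynomial σ A) ⧸ Ideal.span (Set.range (vrel Pr))))

/-- the quotient map -/
noncomputable def mkQ : MvPolynomial ι (MvPolynomial σ A) →+* Qt Pr :=
  Ideal.Quotient.mk (Ideal.span (Set.range (vrel Pr)))

lemma mkQ_surjective : Function.Surjective (mkQ Pr) := Ideal.Quotient.mk_surjective

lemma mkQ_eq (x y : MvPolynomial ι (MvPolynomial σ A)) :
    mkQ Pr x = mkQ Pr y ↔ x - y ∈ Ideal.span (Set.range (vrel Pr)) := Ideal.Quotient.eq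

lemma algebraMap_Qt (c : MvPolynomial σ A) :
    algebraMap (MvPolynomial σ A) (Qt Pr) c = mkQ Pr (C c) := rfl

/-- `Y_s ↦ r_s` -/
noncomputable def Φ : MvPolynomial σ A →+* MvPolynomial ι A :=
  (aeval Pr.relation : MvPolynomial σ A →ₐ[A] MvPolynomial ι A).toRingHom

lemma Φ_C (a : A) : Φ Pr (C a) = C a := by
  show aeval Pr.relation (C a) = C a
  rw [aeval_C]
  rfl

lemma Φ_X (s : σ) : Φ Pr (X s) = Pr.relation s := by
  show aeval Pr.relation (X s) = _
  rw [aeval_X]

noncomputable def θ₀ : MvPolynomial ι (MvPolynomial σ A) →+* MvPolynomial ι A :=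
  eval₂Hom (Φ Pr) X

lemma θ₀_C (c : MvPolynomial σ A) : θ₀ Pr (C c) = Φ Pr c := by
  show eval₂ (Φ Pr) X (C c) = _
  rw [eval₂_C]

lemma θ₀_X (i : ι) : θ₀ Pr (X i) = X i := by
  show eval₂ (Φ Pr) X (X i) = _
  rw [eval₂_X]

lemma θ₀_map (p : MvPolynomial ι A) :
    θ₀ Pr (MvPolynomial.map (algebraMap A (MvPolynomial σ A)) p) = p := by
  show eval₂ (Φ Pr) X (MvPolynomial.map _ p) = p
  rw [eval₂_map]
  have : (Φ Pr).comp (algebraMap A (MvPolynomial σ A)) = C := by
    refine RingHom.ext fun a => ?_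
    show Φ Pr (algebraMap A (MvPolynomial σ A) a) = C a
    rw [MvPolynomial.algebraMap_eq, Φ_C]
  rw [this, eval₂_eta]

lemma θ₀_vrel (s : σ) : θ₀ Pr (vrel Pr s) = 0 := by
  rw [vrel, map_sub, θ₀_map, θ₀_C, Φ_X, sub_self]

lemma span_le_ker : Ideal.span (Set.range (vrel Pr)) ≤ RingHom.ker (θ₀ Pr) := by
  rw [Ideal.span_le]
  rintro _ ⟨s, rfl⟩
  exact θ₀_vrel Pr s

noncomputable def θ : Qt Pr →+* MvPolynomial ι A :=
  Ideal.Quotient.lift (Ideal.span (Set.range (vrel Pr))) (θ₀ Pr)
    (fun x hx => span_le_ker Pr hx)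

lemma θ_mk (x : MvPolynomial ι (MvPolynomial σ A)) :
    θ Pr (mkQ Pr x) = θ₀ Pr x :=
  Ideal.Quotient.lift_mk (Ideal.span (Set.range (vrel Pr))) (θ₀ Pr) _

noncomputable def θsymm : MvPolynomial ι A →+* Qt Pr :=
  (mkQ Pr).comp (MvPolynomial.map (algebraMap A (MvPolynomial σ A)))

lemma θsymm_apply (p : MvPolynomial ι A) :
    θsymm Pr p = mkQ Pr (MvPolynomial.map (algebraMap A (MvPolynomial σ A)) p) := rfl

lemma θ_θsymm (p : MvPolynomial ι A) : θ Pr (θsymm Pr p) = p := by
  rw [θsymm_apply, θ_mk, θ₀_map]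

lemma θsymm_Φ (c : MvPolynomial σ A) :
    θsymm Pr (Φ Pr c) = mkQ Pr (C c) := by
  have h : (θsymm Pr).comp (Φ Pr) =
      (mkQ Pr).comp (C : MvPolynomial σ A →+* MvPolynomial ι (MvPolynomial σ A)) := by
    apply MvPolynomial.ringHom_ext
    · intro a
      show θsymm Pr (Φ Pr (C a)) = mkQ Pr (C (C a))
      rw [Φ_C, θsymm_apply, MvPolynomial.map_C, MvPolynomial.algebraMap_eq]
    · intro s
      show θsymm Pr (Φ Pr (X s)) = mkQ Pr (C (X s))
      rw [Φ_X, θsymm_apply, mkQ_eq]
      exact Ideal.subset_span ⟨s, rfl⟩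
  exact RingHom.congr_fun h c

lemma θsymm_θ₀ (x : MvPolynomial ι (MvPolynomial σ A)) :
    θsymm Pr (θ₀ Pr x) = mkQ Pr x := by
  have h : (θsymm Pr).comp (θ₀ Pr) = mkQ Pr := by
    apply MvPolynomial.ringHom_ext
    · intro c
      show θsymm Pr (θ₀ Pr (C c)) = mkQ Pr (C c)
      rw [θ₀_C, θsymm_Φ]
    · intro i
      show θsymm Pr (θ₀ Pr (X i)) = mkQ Pr (X i)
      rw [θ₀_X, θsymm_apply, MvPolynomial.map_X]
  exact RingHom.congr_fun h x

lemma θsymm_θ (q : Qt Pr) : θsymm Pr (θ Pr q) = q := by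
  obtain ⟨x, rfl⟩ := mkQ_surjective Pr q
  rw [θ_mk, θsymm_θ₀]

noncomputable def θe : Qt Pr ≃+* MvPolynomial ι A :=
  RingEquiv.ofRingHom (θ Pr) (θsymm Pr) (RingHom.ext fun p => θ_θsymm Pr p)
    (RingHom.ext fun q => θsymm_θ Pr q)

/-- the naive pre-submersive presentation of `Qt` over `A[Y_σ]` -/
noncomputable def Q₀ : Algebra.PreSubmersivePresentation (MvPolynomial σ A) (Qt Pr) ι σ :=
  Algebra.PreSubmersivePresentation.naive (v := vrel Pr) Pr.map Pr.map_inj

lemma θ₀_pderiv (i : ι) (s : σ) :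
    θ₀ Pr (pderiv i (vrel Pr s)) = pderiv i (Pr.relation s) := by
  rw [vrel, map_sub, pderiv_C, sub_zero, pderiv_map, θ₀_map]

lemma aeval_θ_jacobian :
    algebraMap Pr.Ring B (θ Pr (Q₀ Pr).jacobian) = Pr.jacobian := by
  classical
  cases nonempty_fintype σ
  rw [Algebra.PreSubmersivePresentation.jacobian_eq_jacobiMatrix_det,
    Algebra.PreSubmersivePresentation.jacobian_eq_jacobiMatrix_det]
  have h1 : algebraMap (Q₀ Pr).Ring (Qt Pr) (Q₀ Pr).jacobiMatrix.det =
      mkQ Pr (Q₀ Pr).jacobiMatrix.det := rfl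
  rw [h1, θ_mk]
  congr 1
  rw [RingHom.map_det]
  congr 1
  apply Matrix.ext
  intro i j
  rw [RingHom.mapMatrix_apply, Matrix.map_apply,
    Algebra.PreSubmersivePresentation.jacobiMatrix_apply,
    Algebra.PreSubmersivePresentation.jacobiMatrix_apply]
  exact θ₀_pderiv Pr _ _

/-- `Qt[1/jacobian]` -/
abbrev TT : Type u := Localization.Away (Q₀ Pr).jacobian

/-- the submersive presentation of `Qt[1/jacobian]` over `A[Y_σ]` -/
noncomputable def SP : Algebra.SubmersivePresentation (MvPolynomial σ A)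
    (Localization.Away (Q₀ Pr).jacobian) (Unit ⊕ ι) (Unit ⊕ σ) where
  toPreSubmersivePresentation :=
    (Algebra.PreSubmersivePresentation.localizationAway
      (Localization.Away (Q₀ Pr).jacobian) (Q₀ Pr).jacobian).comp (Q₀ Pr)
  jacobian_isUnit := by
    rw [Algebra.PreSubmersivePresentation.comp_jacobian_eq_jacobian_smul_jacobian,
      Algebra.PreSubmersivePresentation.localizationAway_jacobian, Algebra.smul_def]
    exact (IsLocalization.Away.algebraMap_isUnit _).mul (IsLocalization.Away.algebraMap_isUnit _)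

instance flat_loc : Module.Flat (MvPolynomial σ A) (Localization.Away (Q₀ Pr).jacobian) := by
  haveI : Algebra.IsStandardSmooth (MvPolynomial σ A) (Localization.Away (Q₀ Pr).jacobian) :=
    (SP Pr).isStandardSmooth
  infer_instance

/-- the ideal `(Y_s)` of `A[Y_σ]` -/
noncomputable def JR : Ideal (MvPolynomial σ A) := kerOf (A := A) (fun _ : σ => (0 : A))

lemma kr_JR : KR (JR (A := A) (σ := σ)) := by
  apply kr_kerOf_of_isLCI isLCI_self
  intro a
  exact ⟨C a, by rw [aeval_C]; rfl⟩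

lemma X_mem_JR (s : σ) : (X s : MvPolynomial σ A) ∈ JR (A := A) (σ := σ) := by
  show aeval (fun _ : σ => (0 : A)) (X s) = 0
  rw [aeval_X]

lemma Φ_mem_ker (c : MvPolynomial σ A) (hc : c ∈ JR (A := A) (σ := σ)) : Φ Pr c ∈ Pr.ker := by
  rw [Algebra.Generators.ker_eq_ker_aeval_val, RingHom.mem_ker]
  show aeval Pr.val (aeval Pr.relation c) = 0
  have h1 : (aeval Pr.val : MvPolynomial ι A →ₐ[A] B).comp
      (aeval Pr.relation : MvPolynomial σ A →ₐ[A] MvPolynomial ι A) =
      (Algebra.ofId A B).comp (aeval (fun _ : σ => (0 : A))) := by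
    apply MvPolynomial.algHom_ext
    intro s
    show aeval Pr.val (aeval Pr.relation (X s)) = algebraMap A B (aeval (fun _ : σ => (0 : A)) (X s))
    rw [aeval_X, aeval_X, Pr.aeval_val_relation, map_zero]
  have h2 := AlgHom.congr_fun h1 c
  have h3 : aeval (fun _ : σ => (0 : A)) c = 0 := hc
  show (aeval Pr.val : MvPolynomial ι A →ₐ[A] B) (aeval Pr.relation c) = 0
  refine h2.trans ?_
  show algebraMap A B (aeval (fun _ : σ => (0 : A)) c) = 0
  rw [h3, map_zero]

/-- `(Y_s) Qt` corresponds to `ker Pr` under `θ` -/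
lemma map_JR_eq : (JR (A := A) (σ := σ)).map (algebraMap (MvPolynomial σ A) (Qt Pr)) =
    Pr.ker.comap (θ Pr) := by
  apply le_antisymm
  · rw [Ideal.map_le_iff_le_comap]
    intro c hc
    rw [Ideal.mem_comap, Ideal.mem_comap]
    rw [algebraMap_Qt, θ_mk, θ₀_C]
    exact Φ_mem_ker Pr c hc
  · intro q hq
    rw [Ideal.mem_comap] at hq
    rw [← θsymm_θ Pr q]
    have h2 : Pr.ker ≤ ((JR (A := A) (σ := σ)).map
        (algebraMap (MvPolynomial σ A) (Qt Pr))).comap (θsymm Pr) := by
      rw [← Pr.span_range_relation_eq_ker, Ideal.span_le]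
      rintro _ ⟨s, rfl⟩
      rw [SetLike.mem_coe, Ideal.mem_comap, ← Φ_X, θsymm_Φ, ← algebraMap_Qt]
      exact Ideal.mem_map_of_mem _ (X_mem_JR s)
    exact h2 hq

theorem kr_ker : KR Pr.ker := by
  -- Koszul-regularity over the localisation
  have hflat : (algebraMap (MvPolynomial σ A) (Localization.Away (Q₀ Pr).jacobian)).Flat :=
    RingHom.flat_algebraMap_iff.mpr inferInstance
  have h1 : KR ((JR (A := A) (σ := σ)).map
      (algebraMap (MvPolynomial σ A) (Localization.Away (Q₀ Pr).jacobian))) :=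
    kr_map_of_flat _ hflat _ kr_JR
  set J' := (JR (A := A) (σ := σ)).map (algebraMap (MvPolynomial σ A) (Qt Pr)) with hJ'
  have h2 : KR (Ideal.map (algebraMap (Qt Pr) (TT Pr)) J') := by
    rw [hJ', Ideal.map_map, ← IsScalarTower.algebraMap_eq (MvPolynomial σ A) (Qt Pr) (TT Pr)]
    exact h1
  -- descend to `Qt`
  have hβsurj : Function.Surjective ((algebraMap Pr.Ring B).comp (θ Pr)) :=
    Pr.algebraMap_surjective.comp (θe Pr).surjective
  have h3 : KR J' := by
    intro 𝔮 h𝔮 hle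
    haveI := h𝔮
    have hjac : (Q₀ Pr).jacobian ∉ 𝔮 := by
      intro hmem
      have hker : RingHom.ker ((algebraMap Pr.Ring B).comp (θ Pr)) ≤ 𝔮 := by
        intro q hq
        apply hle
        rw [hJ', map_JR_eq, Ideal.mem_comap]
        exact hq
      have hprime : (𝔮.map ((algebraMap Pr.Ring B).comp (θ Pr))).IsPrime :=
        Ideal.map_isPrime_of_surjective hβsurj hker
      have hmem' : ((algebraMap Pr.Ring B).comp (θ Pr)) (Q₀ Pr).jacobian ∈
          𝔮.map ((algebraMap Pr.Ring B).comp (θ Pr)) := Ideal.mem_map_of_mem _ hmem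
      have hunit : IsUnit (((algebraMap Pr.Ring B).comp (θ Pr)) (Q₀ Pr).jacobian) := by
        show IsUnit (algebraMap Pr.Ring B (θ Pr (Q₀ Pr).jacobian))
        rw [aeval_θ_jacobian]
        exact Pr.jacobian_isUnit
      exact hprime.ne_top (Ideal.eq_top_of_isUnit_mem _ hmem' hunit)
    exact kr_at_of_away (Q₀ Pr).jacobian J' h2 𝔮 hjac hle
  -- transport to `A[X_ι]`
  have h4 := kr_comap_equiv (θe Pr).symm J' h3
  have h5 : J'.comap ((θe Pr).symm : MvPolynomial ι A →+* Qt Pr) = Pr.ker := by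
    ext p
    rw [Ideal.mem_comap, hJ', map_JR_eq, Ideal.mem_comap]
    show θ Pr (θsymm Pr p) ∈ Pr.ker ↔ _
    rw [θ_θsymm]
  rw [h5] at h4
  exact h4

end coord

section main

variable (A B : Type u) [CommRing A] [CommRing B] [Algebra A B]

theorem isLCI_of_isStandardSmooth [Algebra.IsStandardSmooth A B] : LCI.IsLCI A B := by
  obtain ⟨ι, σ, _, _, ⟨Pr⟩⟩ := (inferInstance : Algebra.IsStandardSmooth A B).out
  have h := kr_ker Pr
  rw [Algebra.Generators.ker_eq_ker_aeval_val] at h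
  apply isLCI_of_kr_kerOf Pr.val ?_ h
  intro b
  obtain ⟨p, hp⟩ := Pr.algebraMap_surjective b
  exact ⟨p, by rw [← hp, Algebra.Generators.algebraMap_apply]⟩

end main

section homs

variable {A B : Type u} [CommRing A] [CommRing B]

theorem isLCIHom_of_isStandardSmooth (φ : A →+* B) (h : φ.IsStandardSmooth) : IsLCIHom φ := by
  letI := φ.toAlgebra
  haveI : Algebra.IsStandardSmooth A B := h
  exact isLCI_of_isStandardSmooth A B

theorem isLCIHom_of_smooth (φ : A →+* B) (h : φ.Smooth) : IsLCIHom φ := by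
  obtain ⟨s, hs, hloc⟩ := RingHom.smooth_iff_locally_isStandardSmooth.mp h
  apply isLCIHom_of_cover φ s hs
  intro t ht
  refine ⟨Localization.Away t, inferInstance, algebraMap B (Localization.Away t), ?_,
    isLCIHom_of_isStandardSmooth _ (hloc t ht)⟩
  have : (algebraMap B (Localization.Away t)).toAlgebra =
      (inferInstance : Algebra B (Localization.Away t)) := Algebra.algebra_ext _ _ (fun r => rfl)
  rw [this]
  infer_instance

/-- a localisation away from an element is lci -/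
theorem isLCIHom_of_away (ρ : A →+* B) (g : A)
    (h : @IsLocalization.Away A _ g B _ ρ.toAlgebra) : IsLCIHom ρ := by
  apply isLCIHom_of_smooth
  letI := ρ.toAlgebra
  show Algebra.Smooth A B
  exact Algebra.Smooth.of_isLocalization_Away g

/-- a surjection with Koszul-regular kernel is lci -/
theorem isLCIHom_of_surjective (ρ : A →+* B) (hρ : Function.Surjective ρ)
    (h : KR (RingHom.ker ρ)) : IsLCIHom ρ := by
  letI := ρ.toAlgebra
  show LCI.IsLCI A B
  let f : MvPolynomial (Fin 0) A →ₐ[A] B :=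
    (Algebra.ofId A B).comp (MvPolynomial.isEmptyAlgEquiv A (Fin 0)).toAlgHom
  have hf : Function.Surjective f :=
    hρ.comp (MvPolynomial.isEmptyAlgEquiv A (Fin 0)).surjective
  refine ⟨Algebra.FiniteType.of_surjective f hf, 0, f, hf, ?_⟩
  rw [kr_iff]
  have hk : RingHom.ker f.toRingHom = (RingHom.ker ρ).comap
      ((MvPolynomial.isEmptyAlgEquiv A (Fin 0)).toRingEquiv : _ →+* _) := by
    ext x
    rw [Ideal.mem_comap, RingHom.mem_ker, RingHom.mem_ker]
    exact Iff.rfl
  rw [hk]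
  exact kr_comap_equiv _ _ h

end homs

end Groth.Agent.Lib.SmoothLCI
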