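import Mathlib
import Groth.Prelude.Def_RegImm
import Groth.Prelude.Def_MoreMor
import Groth.Agent.Lib.SmoothLCI_helper2
import Groth.Agent.Lib.LCIComp_helper2
import Groth.Agent.Lib.LCIDesc_helper2
import Groth.Agent.Lib.LCIPerf_helper2
import Groth.Agent.Lib.FpqcRegImm_helper2
import Groth.Agent.Lib.FpqcRegImmK_helper2

/-!
# `Synt.IsKoszulAt` at every point ⟺ lci ring maps on all affine pairs (helper2)

and consequences: S8661 (composition), S8662 (fpqc descent), S8663 (perfect), S8658 (flat base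
change).
-/

set_option autoImplicit false
universe u

namespace Groth.Agent.Lib.KoszulAtLCI

open Groth.Agent.Lib.KRegIdeal Groth.Agent.Lib.LCIPres Groth.Agent.Lib.LCILocal
open Groth.Agent.Lib.LCIComp Groth.Agent.Lib.LCIDesc Groth.Agent.Lib.SmoothLCI
open Groth.Agent.Lib.FpqcReg Groth.Agent.Lib.RegImmComp
open AlgebraicGeometry CategoryTheory CategoryTheory.Limits TopologicalSpace
open scoped TensorProduct

attribute [local instance] MvPolynomial.algebraMvPolynomial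

section ring

variable {A B : Type u} [CommRing A] [CommRing B]

/-- if `e ∘ φ` is lci for a ring isomorphism `e`, so is `φ` -/
lemma isLCIHom_of_comp_equiv {B' : Type u} [CommRing B'] (φ : A →+* B) (e : B ≃+* B')
    (h : IsLCIHom ((e : B →+* B').comp φ)) : IsLCIHom φ := by
  refine @isLCI_of_ringEquiv A B' B _ _ _ ((e : B →+* B').comp φ).toAlgebra φ.toAlgebra e.symm ?_ h
  intro a
  show e.symm (e (φ a)) = φ a
  rw [e.symm_apply_apply]

/-- if `φ` is lci and `e` is a ring isomorphism, `e ∘ φ` is lci -/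
lemma isLCIHom_comp_equiv {B' : Type u} [CommRing B'] (φ : A →+* B) (e : B ≃+* B')
    (h : IsLCIHom φ) : IsLCIHom ((e : B →+* B').comp φ) := by
  refine @isLCI_of_ringEquiv A B B' _ _ _ φ.toAlgebra ((e : B →+* B').comp φ).toAlgebra e ?_ h
  intro a
  rfl

/-- **flat base change of lci ring maps**, algebra form -/
theorem isLCI_baseChange_of_flat (A' : Type u) [CommRing A'] [Algebra A B] [Algebra A A']
    [Module.Flat A A'] (h : LCI.IsLCI A B) : LCI.IsLCI A' (A' ⊗[A] B) := by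
  obtain ⟨hft, n, π, hπ, hK⟩ := h
  haveI := hft
  refine ⟨inferInstance, n, bcPres A B A' n π, bcPres_surjective A B A' n π hπ, ?_⟩
  rw [kr_iff] at hK ⊢
  rw [ker_bcPres A B A' n π hπ]
  apply kr_map_of_flat _ ?_ _ hK
  rw [RingHom.flat_algebraMap_iff]
  exact Module.Flat.of_linearEquiv (Algebra.IsPushout.equiv A (MvPolynomial (Fin n) A) A'
    (MvPolynomial (Fin n) A')).symm.toLinearEquiv

/-- **flat base change of lci ring maps**, pushout form -/
theorem isLCIHom_baseChange_of_flat {A' B' : Type u} [CommRing A'] [CommRing B'] (α : A →+* B)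
    (γ : A →+* A') (β : B →+* B') (δ : A' →+* B')
    (hpo : IsPushout (CommRingCat.ofHom α) (CommRingCat.ofHom γ) (CommRingCat.ofHom β)
      (CommRingCat.ofHom δ)) (hγ : γ.Flat) (h : IsLCIHom α) : IsLCIHom δ := by
  letI := α.toAlgebra
  letI := γ.toAlgebra
  haveI : Module.Flat A A' := hγ
  have h1 : LCI.IsLCI A' (A' ⊗[A] B) := isLCI_baseChange_of_flat A' h
  have hT := CommRingCat.isPushout_tensorProduct A A' B
  have hpo' : IsPushout (CommRingCat.ofHom (algebraMap A A'))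
      (CommRingCat.ofHom (algebraMap A B)) (CommRingCat.ofHom δ) (CommRingCat.ofHom β) := hpo.flip
  let e := hT.isoIsPushout _ _ hpo'
  have he : ∀ a : A', e.hom.hom (a ⊗ₜ[A] (1 : B)) = δ a := by
    intro a
    have := congrArg (fun t => t.hom a) (hT.inl_isoIsPushout_hom _ _ hpo')
    exact this
  refine @isLCI_of_ringEquiv A' (A' ⊗[A] B) B' _ _ _ _ δ.toAlgebra e.commRingCatIsoToRingEquiv ?_ h1
  intro a
  show e.hom.hom (algebraMap A' (A' ⊗[A] B) a) = δ a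
  rw [Algebra.TensorProduct.algebraMap_apply]
  exact he a

end ring

section toLCI

variable {X Y : Scheme.{u}}

lemma isLCIHom_appLE_congr (f : X ⟶ Y) {V : Y.Opens} {D D' : X.Opens} (h : D = D')
    (e : D ≤ f ⁻¹ᵁ V) (e' : D' ≤ f ⁻¹ᵁ V) (hl : IsLCIHom (f.appLE V D e).hom) :
    IsLCIHom (f.appLE V D' e').hom := by
  subst h
  exact hl

lemma isLCIHom_appLE_congr_hom {f f' : X ⟶ Y} (h : f = f') {V : Y.Opens} {D : X.Opens}
    (e : D ≤ f ⁻¹ᵁ V) (e' : D ≤ f' ⁻¹ᵁ V) (hl : IsLCIHom (f.appLE V D e).hom) :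
    IsLCIHom (f'.appLE V D e').hom := by
  subst h
  exact hl

/-- the key local step: around a point where `f` is Koszul, small affine opens give lci ring
maps. -/
theorem exists_affine_isLCIHom (f : X ⟶ Y) (x : X) (hf : Synt.IsKoszulAt f x) {V : Y.Opens}
    (hV : IsAffineOpen V) (hxV : f x ∈ V) :
    ∃ (U₁ : X.Opens) (_ : IsAffineOpen U₁) (hU₁V : U₁ ≤ f ⁻¹ᵁ V), x ∈ U₁ ∧
      IsLCIHom (f.appLE V U₁ hU₁V).hom := by
  obtain ⟨U₀, P, i, π, hxU₀, -, hi, hπ, hcomm⟩ := hf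
  haveI := hi.1
  haveI := hπ
  let x₀ : (U₀ : Scheme.{u}) := ⟨x, hxU₀⟩
  have hcommpt : ∀ z : (U₀ : Scheme.{u}), π (i z) = f (U₀.ι z) := by
    intro z
    have := congrArg (fun t => t.base z) hcomm
    exact this
  obtain ⟨W₀, hxW₀, hcW₀⟩ := exists_affine_closedImmersion i x₀
  have hπx : π (i x₀) ∈ V := by
    rw [hcommpt]
    exact hxV
  obtain ⟨b, hbV, hxb⟩ := W₀.2.exists_basicOpen_le (V := π ⁻¹ᵁ V) ⟨i x₀, hπx⟩ hxW₀
  have hW : IsAffineOpen (P.basicOpen b) := W₀.2.basicOpen b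
  have hcW : IsClosedImmersion (i ∣_ P.basicOpen b) :=
    isClosedImmersion_restrict_of_le i (P.basicOpen_le b) hcW₀
  have hLoc := locP_of_regImm .koszul i hi.2 hW hcW
  obtain ⟨hZW, hsurj⟩ := affine_and_surjective i hW hcW
  have hKR : KR (RingHom.ker (i.app (P.basicOpen b)).hom) := fun q hq hle => hLoc q hq hle
  -- the ring maps
  have h1 : IsLCIHom (π.appLE V (P.basicOpen b) hbV).hom :=
    isLCIHom_of_smooth _ (π.smooth_appLE hV hW hbV)
  have h2 : IsLCIHom (i.app (P.basicOpen b)).hom := isLCIHom_of_surjective _ hsurj hKR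
  have h3 := isLCIHom_comp _ _ h1 h2
  have hZV : i ⁻¹ᵁ P.basicOpen b ≤ (i ≫ π) ⁻¹ᵁ V := fun z hz => hbV hz
  have h4 : IsLCIHom ((i ≫ π).appLE V (i ⁻¹ᵁ P.basicOpen b) hZV).hom := by
    have heq : (i.app (P.basicOpen b)).hom.comp (π.appLE V (P.basicOpen b) hbV).hom =
        ((i ≫ π).appLE V (i ⁻¹ᵁ P.basicOpen b) hZV).hom := by
      rw [← CommRingCat.hom_comp, ← Scheme.Hom.appLE_eq_app, Scheme.Hom.appLE_comp_appLE]
    rw [← heq]
    exact h3
  have hZV' : i ⁻¹ᵁ P.basicOpen b ≤ (U₀.ι ≫ f) ⁻¹ᵁ V := by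
    rw [← hcomm]
    exact hZV
  have h5 : IsLCIHom ((U₀.ι ≫ f).appLE V (i ⁻¹ᵁ P.basicOpen b) hZV').hom :=
    isLCIHom_appLE_congr_hom hcomm hZV hZV' h4
  -- pass to the image in `X`
  have hU₁ : IsAffineOpen (U₀.ι ''ᵁ (i ⁻¹ᵁ P.basicOpen b)) := hZW.image_of_isOpenImmersion U₀.ι
  have hU₁V : U₀.ι ''ᵁ (i ⁻¹ᵁ P.basicOpen b) ≤ f ⁻¹ᵁ V := by
    rintro _ ⟨z, hz, rfl⟩
    show f (U₀.ι z) ∈ V
    rw [← hcommpt]
    exact hbV hz
  have hxU₁ : x ∈ U₀.ι ''ᵁ (i ⁻¹ᵁ P.basicOpen b) := ⟨x₀, hxb, rfl⟩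
  refine ⟨_, hU₁, hU₁V, hxU₁, ?_⟩
  have hle : i ⁻¹ᵁ P.basicOpen b ≤ U₀.ι ⁻¹ᵁ (U₀.ι ''ᵁ (i ⁻¹ᵁ P.basicOpen b)) :=
    (Scheme.Hom.preimage_image_eq U₀.ι _).ge
  have heq2 : (U₀.ι.appLE (U₀.ι ''ᵁ (i ⁻¹ᵁ P.basicOpen b)) (i ⁻¹ᵁ P.basicOpen b) hle).hom.comp
      (f.appLE V (U₀.ι ''ᵁ (i ⁻¹ᵁ P.basicOpen b)) hU₁V).hom =
      ((U₀.ι ≫ f).appLE V (i ⁻¹ᵁ P.basicOpen b) hZV').hom := by
    rw [← CommRingCat.hom_comp, Scheme.Hom.appLE_comp_appLE]
  let E : Γ(X, U₀.ι ''ᵁ (i ⁻¹ᵁ P.basicOpen b)) ≃+* Γ(U₀, i ⁻¹ᵁ P.basicOpen b) :=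
    (U₀.ι.appIso (i ⁻¹ᵁ P.basicOpen b)).commRingCatIsoToRingEquiv
  have hE : (E : _ →+* _) =
      (U₀.ι.appLE (U₀.ι ''ᵁ (i ⁻¹ᵁ P.basicOpen b)) (i ⁻¹ᵁ P.basicOpen b) hle).hom := by
    show (U₀.ι.appIso (i ⁻¹ᵁ P.basicOpen b)).hom.hom = _
    rw [Scheme.Hom.appIso_hom']
  apply isLCIHom_of_comp_equiv _ E
  rw [hE, heq2]
  exact h5

/-- **Koszul at every point ⟹ lci ring maps on all affine pairs.** -/
theorem lci_of_koszulAt (f : X ⟶ Y) (hf : ∀ x : X, Synt.IsKoszulAt f x) :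
    ∀ (U : X.Opens) (V : Y.Opens) (_ : IsAffineOpen U) (_ : IsAffineOpen V)
      (hUV : U ≤ f ⁻¹ᵁ V), IsLCIHom (f.appLE V U hUV).hom := by
  intro U V hU hV hUV
  let s : Set Γ(X, U) :=
    {a | IsLCIHom (f.appLE V (X.basicOpen a) ((X.basicOpen_le a).trans hUV)).hom}
  have hs : Ideal.span s = ⊤ := by
    rw [← hU.self_le_iSup_basicOpen_iff]
    intro x hx
    obtain ⟨U₁, hU₁, hU₁V, hxU₁, hl⟩ := exists_affine_isLCIHom f x (hf x) hV (hUV hx)
    obtain ⟨a, a', haa', hxa⟩ := exists_basicOpen_le_affine_inter hU hU₁ x ⟨hx, hxU₁⟩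
    rw [Opens.mem_iSup]
    refine ⟨⟨a, ?_⟩, hxa⟩
    show IsLCIHom (f.appLE V (X.basicOpen a) ((X.basicOpen_le a).trans hUV)).hom
    have hle' : X.basicOpen a' ≤ U₁ := X.basicOpen_le a'
    have h1 : IsLCIHom (X.presheaf.map (homOfLE hle').op).hom :=
      isLCIHom_of_away _ a' (hU₁.isLocalization_of_eq_basicOpen a' (homOfLE hle') rfl)
    have h2 := isLCIHom_comp _ _ hl h1
    have heq : (X.presheaf.map (homOfLE hle').op).hom.comp (f.appLE V U₁ hU₁V).hom =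
        (f.appLE V (X.basicOpen a') (hle'.trans hU₁V)).hom := by
      rw [← CommRingCat.hom_comp, Scheme.Hom.appLE_map]
    rw [heq] at h2
    exact isLCIHom_appLE_congr f haa'.symm _ _ h2
  apply isLCIHom_of_cover _ s hs
  intro a ha
  have hDU : X.basicOpen a ≤ U := X.basicOpen_le a
  refine ⟨Γ(X, X.basicOpen a), inferInstance, (X.presheaf.map (homOfLE hDU).op).hom,
    hU.isLocalization_of_eq_basicOpen a (homOfLE hDU) rfl, ?_⟩
  have heq : (X.presheaf.map (homOfLE hDU).op).hom.comp (f.appLE V U hUV).hom =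
      (f.appLE V (X.basicOpen a) (hDU.trans hUV)).hom := by
    rw [← CommRingCat.hom_comp, Scheme.Hom.appLE_map]
  rw [heq]
  exact ha

end toLCI

section fromLCI

variable {X Y : Scheme.{u}}

/-- **an lci ring map on one affine pair gives a Koszul factorisation.** -/
theorem koszulAt_of_isLCIHom (f : X ⟶ Y) (x : X) (U : X.Opens) (V : Y.Opens)
    (hU : IsAffineOpen U) (hV : IsAffineOpen V) (hUV : U ≤ f ⁻¹ᵁ V) (hx : x ∈ U)
    (h : IsLCIHom (f.appLE V U hUV).hom) : Synt.IsKoszulAt f x := by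
  letI := (f.appLE V U hUV).hom.toAlgebra
  obtain ⟨-, n, α, hα, hKR⟩ := h
  rw [kr_iff] at hKR
  let Cmap : Γ(Y, V) ⟶ CommRingCat.of (MvPolynomial (Fin n) Γ(Y, V)) :=
    CommRingCat.ofHom (MvPolynomial.C : Γ(Y, V) →+* MvPolynomial (Fin n) Γ(Y, V))
  let αmap : CommRingCat.of (MvPolynomial (Fin n) Γ(Y, V)) ⟶ Γ(X, U) :=
    CommRingCat.ofHom α.toRingHom
  have hCα : Cmap ≫ αmap = f.appLE V U hUV := by
    ext a
    show α (MvPolynomial.C a) = (f.appLE V U hUV).hom a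
    rw [← MvPolynomial.algebraMap_eq, α.commutes]
    rfl
  haveI hjc : IsClosedImmersion (Spec.map αmap) := IsClosedImmersion.spec_of_surjective _ hα
  haveI hsm : Smooth (Spec.map Cmap) := by
    rw [HasRingHomProperty.Spec_iff (P := @Smooth)]
    show (MvPolynomial.C : Γ(Y, V) →+* MvPolynomial (Fin n) Γ(Y, V)).Smooth
    rw [← MvPolynomial.algebraMap_eq, RingHom.smooth_algebraMap]
    exact ⟨inferInstance, inferInstance⟩
  have hcomm : (hU.isoSpec.hom ≫ Spec.map αmap) ≫ (Spec.map Cmap ≫ hV.fromSpec) = U.ι ≫ f := by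
    rw [Category.assoc, ← Category.assoc (Spec.map αmap), ← Spec.map_comp, hCα,
      IsAffineOpen.SpecMap_appLE_fromSpec f hV hU hUV, ← Category.assoc,
      IsAffineOpen.isoSpec_hom_fromSpec]
  refine ⟨U, Spec (CommRingCat.of (MvPolynomial (Fin n) Γ(Y, V))),
    hU.isoSpec.hom ≫ Spec.map αmap, Spec.map Cmap ≫ hV.fromSpec, hx, ?_, ⟨inferInstance, ?_⟩,
    inferInstance, hcomm⟩
  · rw [← hcomm]
    infer_instance
  · intro z
    refine regImmAt_of_locP .koszul desc_kind_koszul _ (isAffineOpen_top _) inferInstance z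
      trivial ?_
    -- the kernel on global sections
    let E : Γ(Spec (CommRingCat.of (MvPolynomial (Fin n) Γ(Y, V))), ⊤) ≃+*
        MvPolynomial (Fin n) Γ(Y, V) :=
      (Scheme.ΓSpecIso (CommRingCat.of (MvPolynomial (Fin n) Γ(Y, V)))).commRingCatIsoToRingEquiv
    have hker : RingHom.ker ((hU.isoSpec.hom ≫ Spec.map αmap).appTop).hom =
        (RingHom.ker α.toRingHom).comap (E : _ →+* _) := by
      ext t
      rw [RingHom.mem_ker, Ideal.mem_comap, RingHom.mem_ker, Scheme.Hom.comp_appTop,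
        CommRingCat.hom_comp, RingHom.comp_apply]
      haveI : IsIso (hU.isoSpec.hom.appTop) :=
        inferInstanceAs (IsIso (hU.isoSpec.hom.app ⊤))
      have hiso : Function.Injective (hU.isoSpec.hom.appTop).hom :=
        (ConcreteCategory.bijective_of_isIso (hU.isoSpec.hom.appTop)).1
      rw [map_eq_zero_iff _ hiso]
      have hnat := Scheme.ΓSpecIso_naturality αmap
      have h1 : α.toRingHom ((E : _ →+* _) t) =
          (Scheme.ΓSpecIso Γ(X, U)).hom.hom ((Spec.map αmap).appTop.hom t) := by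
        have := congrArg (fun m => m.hom t) hnat
        exact this.symm
      have hinj : Function.Injective (Scheme.ΓSpecIso Γ(X, U)).hom.hom :=
        (ConcreteCategory.bijective_of_isIso (Scheme.ΓSpecIso Γ(X, U)).hom).1
      rw [h1, map_eq_zero_iff _ hinj]
    show LocP (PKind .koszul) (RingHom.ker ((hU.isoSpec.hom ≫ Spec.map αmap).appTop).hom)
    rw [hker]
    have := kr_comap_equiv E _ hKR
    exact fun q hq hle => this q hq hle

/-- **lci ring maps on all affine pairs ⟹ Koszul at every point.** -/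
theorem koszulAt_of_lci (f : X ⟶ Y)
    (h : ∀ (U : X.Opens) (V : Y.Opens) (_ : IsAffineOpen U) (_ : IsAffineOpen V)
      (hUV : U ≤ f ⁻¹ᵁ V), IsLCIHom (f.appLE V U hUV).hom) (x : X) : Synt.IsKoszulAt f x := by
  obtain ⟨V, hV, hxV, -⟩ := (Opens.isBasis_iff_nbhd.mp Y.isBasis_affineOpens)
    (show f x ∈ (⊤ : Y.Opens) from trivial)
  obtain ⟨U, hU, hxU, hUV⟩ := (Opens.isBasis_iff_nbhd.mp X.isBasis_affineOpens)
    (show x ∈ f ⁻¹ᵁ V from hxV)
  exact koszulAt_of_isLCIHom f x U V hU hV hUV hxU (h U V hU hV hUV)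

end fromLCI

section mains

variable {X Y Z : Scheme.{u}}

theorem main8661 (f : X ⟶ Y) (g : Y ⟶ Z)
    (hf : ∀ x : X, Synt.IsKoszulAt f x) (hg : ∀ y : Y, Synt.IsKoszulAt g y) :
    ∀ x : X, Synt.IsKoszulAt (f ≫ g) x :=
  koszulAt_of_lci (f ≫ g) (main1491 f g (lci_of_koszulAt f hf) (lci_of_koszulAt g hg))

theorem main8662 {X' Y' : Scheme.{u}} (f : X ⟶ Y) (g : Y' ⟶ Y) [Flat g] [Surjective g]
    [QuasiCompact g] (f' : X' ⟶ Y') (g' : X' ⟶ X) (hsq : IsPullback g' f' f g)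
    (hf' : ∀ x' : X', Synt.IsKoszulAt f' x') : ∀ x : X, Synt.IsKoszulAt f x :=
  koszulAt_of_lci f (main1492 f f' g' g hsq (lci_of_koszulAt f' hf'))

theorem main8663 (f : X ⟶ Y) (hf : ∀ x : X, Synt.IsKoszulAt f x) : MoreMor.IsPerfectMor f :=
  (Groth.Agent.Lib.LCIPerf.main1514 f (lci_of_koszulAt f hf)).2.2

theorem main8658 {X' Y' : Scheme.{u}} (f : X ⟶ Y) (g : Y' ⟶ Y) [Flat g]
    (f' : X' ⟶ Y') (g' : X' ⟶ X) (hsq : IsPullback g' f' f g)
    (hf : ∀ x : X, Synt.IsKoszulAt f x) : ∀ x' : X', Synt.IsKoszulAt f' x' := by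
  intro x'
  have hl := lci_of_koszulAt f hf
  have hcommpt : f (g' x') = g (f' x') := by
    have := congrArg (fun t => t.base x') hsq.w
    exact this
  obtain ⟨V, hV, hxV, -⟩ := (Opens.isBasis_iff_nbhd.mp Y.isBasis_affineOpens)
    (show f (g' x') ∈ (⊤ : Y.Opens) from trivial)
  obtain ⟨U, hU, hxU, hUV⟩ := (Opens.isBasis_iff_nbhd.mp X.isBasis_affineOpens)
    (show g' x' ∈ f ⁻¹ᵁ V from hxV)
  obtain ⟨V', hV', hxV', hV'V⟩ := (Opens.isBasis_iff_nbhd.mp Y'.isBasis_affineOpens)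
    (show f' x' ∈ g ⁻¹ᵁ V from by
      show g (f' x') ∈ V
      rw [← hcommpt]
      exact hxV)
  have hU'aff : IsAffineOpen (g' ⁻¹ᵁ U ⊓ f' ⁻¹ᵁ V') := by
    haveI : IsAffine (V : Scheme) := hV
    haveI : IsAffine (V' : Scheme) := hV'
    haveI : IsAffine (U : Scheme) := hU
    exact IsAffine.of_isIso (Scheme.Hom.isPullback_resLE hsq hV'V hUV rfl).isoPullback.hom
  have hpo : IsPushout (f.appLE V U hUV) (g.appLE V V' hV'V)
      (g'.appLE U (g' ⁻¹ᵁ U ⊓ f' ⁻¹ᵁ V') inf_le_left)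
      (f'.appLE V' (g' ⁻¹ᵁ U ⊓ f' ⁻¹ᵁ V') inf_le_right) :=
    (isIso_pushoutSection_iff hsq hV'V hUV rfl).mp
      (isIso_pushoutSection_of_isAffineOpen hsq hV'V hUV rfl hV hV' hU)
  have h1 : IsLCIHom (f'.appLE V' (g' ⁻¹ᵁ U ⊓ f' ⁻¹ᵁ V') inf_le_right).hom :=
    isLCIHom_baseChange_of_flat (f.appLE V U hUV).hom (g.appLE V V' hV'V).hom
      (g'.appLE U (g' ⁻¹ᵁ U ⊓ f' ⁻¹ᵁ V') inf_le_left).hom _ hpo
      (g.flat_appLE hV hV' hV'V) (hl U V hU hV hUV)
  exact koszulAt_of_isLCIHom f' x' _ V' hU'aff hV' inf_le_right ⟨hxU, hxV'⟩ h1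

end mains

end Groth.Agent.Lib.KoszulAtLCI
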