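import Mathlib
import Groth.Prelude.Def_MoreMor
import Groth.Prelude.Def_DerCA
import Groth.Agent.Lib.DMod38_helper6
import Groth.Agent.Lib.DMod39_helper6
import Groth.Agent.Lib.DMod57_helper6
import Groth.Agent.Lib.DMod62_helper6
import Groth.Agent.Lib.SmoothLCI_helper2

/-!
# Pseudo-coherent ring maps (helper2), part 1

Ring-level calculus for `MoreMor.IsPseudoCoherentHom`, on top of helper6's `DMod` toolkit:
* `pch_iff_via`: the definition can be tested on any presentation;
* `pch_iff_rel`: equivalence with `DerCA.IsRelPseudoCoherentModuleAll`;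
* `pch_iff_of_tower`: composition and cancellation;
* the unbundled `PCR f` for ring homs, with `PCR.comp`, `PCR.of_comp`, `PCR.of_bijective`,
  `pcr_iff_resPC_of_surjective`, `PCR.of_smooth`, `PCR.away`, `PCR.finitePresentation`,
  `PCR.of_finiteType_of_noetherian`.
-/

set_option autoImplicit false
universe u
open CategoryTheory CategoryTheory.Limits
open scoped TensorProduct
attribute [local instance] HasDerivedCategory.standard

namespace Groth.Agent.Lib.PCHom

open DRing Groth.Agent.Lib.DMod_helper6

section Via

/-- module form of pseudo-coherence along a ring map versus `resPC` -/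
lemma pcModule_iff_resPC {P B : Type u} [CommRing P] [CommRing B] (ψ : P →+* B) :
    (letI := ψ.toAlgebra; IsPseudoCoherentModule' P B) ↔ resPC ψ (Dual.inD B B) := by
  letI := ψ.toAlgebra
  constructor
  · intro hB
    exact (pcProp _).prop_of_iso (restrictDInDSelfIso (A := P) (B := B)).symm hB
  · intro h
    exact (pcProp _).prop_of_iso (restrictDInDSelfIso (A := P) (B := B)) h

variable {R A : Type u} [CommRing R] [CommRing A] [Algebra R A]

/-- pseudo-coherence of a ring map can be tested on any presentation -/
theorem pch_iff_via {n : ℕ} (φ : MvPolynomial (Fin n) R →ₐ[R] A) (hφ : Function.Surjective φ) :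
    MoreMor.IsPseudoCoherentHom R A ↔
      resPC (φ : MvPolynomial (Fin n) R →+* A) (Dual.inD A A) := by
  constructor
  · rintro ⟨n', φ', hφ', hB'⟩
    have h1 : resPC (φ' : MvPolynomial (Fin n') R →+* A) (Dual.inD A A) :=
      (pcModule_iff_resPC φ'.toRingHom).1 hB'
    have h2 : IsPseudoCoherent' (MvPolynomial (Fin n') R)
        ((restrictD (φ' : MvPolynomial (Fin n') R →+* A)).obj (Dual.inD A A)) := h1
    show IsPseudoCoherent' (MvPolynomial (Fin n) R)
        ((restrictD (φ : MvPolynomial (Fin n) R →+* A)).obj (Dual.inD A A))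
    rw [isPseudoCoherent'_iff_forall] at h2 ⊢
    intro m
    exact (isPseudoCoherent_restrictD_presentation_iff φ' hφ' φ hφ (Dual.inD A A) m).1 (h2 m)
  · intro h
    exact ⟨n, φ, hφ, (pcModule_iff_resPC φ.toRingHom).2 h⟩

theorem pch_iff_rel :
    MoreMor.IsPseudoCoherentHom R A ↔ DerCA.IsRelPseudoCoherentModuleAll R A A := by
  constructor
  · rintro ⟨n, φ, hφ, hB⟩ m
    have h1 : IsPseudoCoherent' (MvPolynomial (Fin n) R)
        ((restrictD (φ : MvPolynomial (Fin n) R →+* A)).obj (Dual.inD A A)) :=
      (pcModule_iff_resPC φ.toRingHom).1 hB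
    exact ⟨n, φ, hφ, (isPseudoCoherent'_iff_forall _).1 h1 m⟩
  · intro h
    obtain ⟨n, φ, hφ, _⟩ := h 0
    refine (pch_iff_via φ hφ).2 ?_
    show IsPseudoCoherent' (MvPolynomial (Fin n) R)
        ((restrictD (φ : MvPolynomial (Fin n) R →+* A)).obj (Dual.inD A A))
    rw [isPseudoCoherent'_iff_forall]
    intro m
    exact (isRelPseudoCoherent_iff_via φ hφ m _).1 (h m)

theorem finiteType_of_pch (h : MoreMor.IsPseudoCoherentHom R A) : Algebra.FiniteType R A := by
  obtain ⟨n, φ, hφ, _⟩ := h
  exact Algebra.FiniteType.of_surjective φ hφ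

end Via

section Tower

variable {R A B : Type u} [CommRing R] [CommRing A] [CommRing B] [Algebra R A] [Algebra A B]
  [Algebra R B] [IsScalarTower R A B]

/-- composition and cancellation for pseudo-coherent ring maps -/
theorem pch_iff_of_tower (hA : MoreMor.IsPseudoCoherentHom R A) :
    MoreMor.IsPseudoCoherentHom A B ↔ MoreMor.IsPseudoCoherentHom R B := by
  haveI := finiteType_of_pch hA
  have hA' := pch_iff_rel.1 hA
  constructor
  · intro hB
    haveI : Algebra.FiniteType A B := finiteType_of_pch hB
    rw [pch_iff_rel] at hB ⊢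
    intro m
    exact (isRelPseudoCoherent_iff_of_intermediate hA' _ m).1 (hB m)
  · intro hB
    haveI : Algebra.FiniteType R B := finiteType_of_pch hB
    haveI : Algebra.FiniteType A B := Algebra.FiniteType.of_restrictScalars_finiteType R A B
    rw [pch_iff_rel] at hB ⊢
    intro m
    exact (isRelPseudoCoherent_iff_of_intermediate hA' _ m).2 (hB m)

end Tower

section PCR

/-- pseudo-coherent ring homomorphisms, unbundled from the algebra instance -/
def PCR {A B : Type u} [CommRing A] [CommRing B] (f : A →+* B) : Prop :=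
  @MoreMor.IsPseudoCoherentHom A B _ _ f.toAlgebra

variable {A B C : Type u} [CommRing A] [CommRing B] [CommRing C]

lemma pcr_algebraMap [Algebra A B] :
    PCR (algebraMap A B) ↔ MoreMor.IsPseudoCoherentHom A B := by
  have h : (algebraMap A B).toAlgebra = (inferInstance : Algebra A B) :=
    Algebra.algebra_ext _ _ (fun r => rfl)
  unfold PCR
  rw [h]

theorem PCR.comp {f : A →+* B} {g : B →+* C} (hf : PCR f) (hg : PCR g) : PCR (g.comp f) := by
  letI := f.toAlgebra
  letI := g.toAlgebra
  letI := (g.comp f).toAlgebra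
  haveI : IsScalarTower A B C := IsScalarTower.of_algebraMap_eq (fun x => rfl)
  exact (pch_iff_of_tower (R := A) (A := B) (B := C) hf).1 hg

theorem PCR.of_comp {f : A →+* B} {g : B →+* C} (hf : PCR f) (hgf : PCR (g.comp f)) : PCR g := by
  letI := f.toAlgebra
  letI := g.toAlgebra
  letI := (g.comp f).toAlgebra
  haveI : IsScalarTower A B C := IsScalarTower.of_algebraMap_eq (fun x => rfl)
  exact (pch_iff_of_tower (R := A) (A := B) (B := C) hf).2 hgf

theorem PCR.finiteType {f : A →+* B} (hf : PCR f) : f.FiniteType :=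
  @finiteType_of_pch A B _ _ f.toAlgebra hf

/-- for a surjective ring map, pseudo-coherence means that the target is a pseudo-coherent
module over the source -/
theorem pcr_iff_resPC_of_surjective (f : A →+* B) (hf : Function.Surjective f) :
    PCR f ↔ resPC f (Dual.inD B B) := by
  letI := f.toAlgebra
  let φ₀ : MvPolynomial (Fin 0) A →ₐ[A] B :=
    (Algebra.ofId A B).comp (MvPolynomial.isEmptyAlgEquiv A (Fin 0)).toAlgHom
  have hφ₀ : Function.Surjective φ₀ :=
    hf.comp (MvPolynomial.isEmptyAlgEquiv A (Fin 0)).surjective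
  let ε : MvPolynomial (Fin 0) A →+* A :=
    ((MvPolynomial.isEmptyAlgEquiv A (Fin 0)).toRingEquiv : _ →+* _)
  have hε : Function.Bijective ε := (MvPolynomial.isEmptyAlgEquiv A (Fin 0)).bijective
  let c : A →+* MvPolynomial (Fin 0) A := MvPolynomial.C
  have hc : Function.Bijective c := by
    refine ⟨MvPolynomial.C_injective _ _, MvPolynomial.C_surjective _⟩
  have h1 : (φ₀ : MvPolynomial (Fin 0) A →+* B) = f.comp ε := RingHom.ext fun x => rfl
  have h2 : f = (φ₀ : MvPolynomial (Fin 0) A →+* B).comp c := by
    refine RingHom.ext fun x => ?_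
    show f x = algebraMap A B ((MvPolynomial.isEmptyAlgEquiv A (Fin 0)) (MvPolynomial.C x))
    rw [← MvPolynomial.algebraMap_eq, AlgEquiv.commutes]
    rfl
  show MoreMor.IsPseudoCoherentHom A B ↔ _
  rw [pch_iff_via φ₀ hφ₀]
  constructor
  · intro h
    exact resPC_comp c _ f h2 (resPC_of_bijective c hc) h
  · intro h
    exact resPC_comp ε f _ h1 (resPC_of_bijective ε hε) h

theorem PCR.of_bijective (f : A →+* B) (hf : Function.Bijective f) : PCR f :=
  (pcr_iff_resPC_of_surjective f hf.2).2 (resPC_of_bijective f hf)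

theorem PCR.id : PCR (RingHom.id A) := PCR.of_bijective _ Function.bijective_id

theorem PCR.of_smooth (f : A →+* B) (hf : f.Smooth) : PCR f :=
  (@isPerfectHom_of_isLCI A B _ _ f.toAlgebra
    (Groth.Agent.Lib.SmoothLCI.isLCIHom_of_smooth f hf)).1

theorem PCR.away [Algebra A B] (g : A) [IsLocalization.Away g B] : PCR (algebraMap A B) :=
  PCR.of_smooth _ (RingHom.smooth_algebraMap.2 (Algebra.Smooth.of_isLocalization_Away g))

/-- the structure map of a polynomial ring is pseudo-coherent -/
theorem PCR.mvPolynomial_C (n : ℕ) : PCR (MvPolynomial.C : A →+* MvPolynomial (Fin n) A) := by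
  have h : MoreMor.IsPseudoCoherentHom A (MvPolynomial (Fin n) A) :=
    (pch_iff_via (AlgHom.id A (MvPolynomial (Fin n) A)) Function.surjective_id).2
      (resPC_of_bijective _ Function.bijective_id)
  have := (pcr_algebraMap (A := A) (B := MvPolynomial (Fin n) A)).2 h
  rwa [MvPolynomial.algebraMap_eq] at this

/-- a pseudo-coherent ring map is of finite presentation -/
theorem PCR.finitePresentation {f : A →+* B} (hf : PCR f) : f.FinitePresentation := by
  letI := f.toAlgebra
  obtain ⟨n, φ, hφ, hB⟩ := hf
  show Algebra.FinitePresentation A B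
  letI algPB : Algebra (MvPolynomial (Fin n) A) B := φ.toRingHom.toAlgebra
  have hpc : IsPseudoCoherent' (MvPolynomial (Fin n) A) (Dual.inD (MvPolynomial (Fin n) A) B) := hB
  have hm : IsPseudoCoherent (MvPolynomial (Fin n) A) (-1) (Dual.inD (MvPolynomial (Fin n) A) B) :=
    (isPseudoCoherent'_iff_forall _).1 hpc (-1)
  have hfp0 := finitePresentation_HD_of_isPseudoCoherent _ (-1) 0 (by norm_num) hm
    (fun i hi => isZero_HD_inD (ModuleCat.of (MvPolynomial (Fin n) A) B) i (by omega))
  have hfp : Module.FinitePresentation (MvPolynomial (Fin n) A) B :=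
    finitePresentation_of_iso (HDinDIso (ModuleCat.of (MvPolynomial (Fin n) A) B)) hfp0
  have hker : (LinearMap.ker (Algebra.linearMap (MvPolynomial (Fin n) A) B)).FG :=
    Module.FinitePresentation.fg_ker (Algebra.linearMap (MvPolynomial (Fin n) A) B) hφ
  have hker' : (RingHom.ker φ.toRingHom).FG := by
    have : (RingHom.ker φ.toRingHom : Submodule (MvPolynomial (Fin n) A) (MvPolynomial (Fin n) A)) =
        LinearMap.ker (Algebra.linearMap (MvPolynomial (Fin n) A) B) := by
      ext x
      rfl
    rw [Ideal.FG, this] at *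
    exact hker
  exact Algebra.FinitePresentation.of_surjective hφ hker'

/-- over a Noetherian ring every finite type ring map is pseudo-coherent -/
theorem PCR.of_finiteType_of_noetherian [IsNoetherianRing A] {f : A →+* B} (hf : f.FiniteType) :
    PCR f := by
  letI := f.toAlgebra
  haveI : Algebra.FiniteType A B := hf
  obtain ⟨n, φ, hφ⟩ := Algebra.FiniteType.iff_quotient_mvPolynomial''.1
    (inferInstance : Algebra.FiniteType A B)
  refine ⟨n, φ, hφ, ?_⟩
  letI algPB : Algebra (MvPolynomial (Fin n) A) B := φ.toRingHom.toAlgebra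
  haveI : Module.Finite (MvPolynomial (Fin n) A) B :=
    Module.Finite.of_surjective (Algebra.linearMap (MvPolynomial (Fin n) A) B) hφ
  exact isPseudoCoherentModule'_of_finite B

end PCR

end Groth.Agent.Lib.PCHom
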