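import Mathlib
import Groth.Agent.Lib.PCHom1_helper2

/-!
# Pseudo-coherent ring maps (helper2), part 2: Zariski gluing on the target and locality

* `pcModule_of_away_cover`: a module is pseudo-coherent if it is so after localising at elements
  generating the unit ideal;
* `pcModule_of_span_target`: the same along a surjection `P → B`, for elements generating the unit
  ideal of `B` only;
* `pcr_isLocal : RingHom.PropertyIsLocal PCR`.
-/

set_option autoImplicit false
universe u
open CategoryTheory CategoryTheory.Limits
open scoped TensorProduct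
attribute [local instance] HasDerivedCategory.standard

namespace Groth.Agent.Lib.PCHom

open DRing Groth.Agent.Lib.DMod_helper6

section ModuleGlue

variable {P : Type u} [CommRing P]

lemma isPseudoCoherentModule'_of_linearEquiv {M N : Type u} [AddCommGroup M] [Module P M]
    [AddCommGroup N] [Module P N] (e : M ≃ₗ[P] N) (h : IsPseudoCoherentModule' P M) :
    IsPseudoCoherentModule' P N :=
  (pcProp P).prop_of_iso
    ((DerivedCategory.singleFunctor (ModuleCat.{u} P) 0).mapIso e.toModuleIso) h

lemma isPseudoCoherentModule'_of_subsingleton (M : Type u) [AddCommGroup M] [Module P M]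
    [Subsingleton M] : IsPseudoCoherentModule' P M :=
  isPseudoCoherent'_of_isZero _
    ((DerivedCategory.singleFunctor (ModuleCat.{u} P) 0).map_isZero
      (ModuleCat.isZero_of_subsingleton _))

theorem pcModule_of_away_cover {r : ℕ} (G : Fin r → P) (hG : Ideal.span (Set.range G) = ⊤)
    (M : Type u) [AddCommGroup M] [Module P M]
    (h : ∀ j, IsPseudoCoherentModule' (Localization.Away (G j))
      (Localization.Away (G j) ⊗[P] M)) :
    IsPseudoCoherentModule' P M := by
  show IsPseudoCoherent' P (Dual.inD P M)
  rw [isPseudoCoherent'_iff_forall]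
  intro m
  let K : Cx P := (HomologicalComplex.single (ModuleCat.{u} P) (ComplexShape.up ℤ) 0).obj
    (ModuleCat.of P M)
  let e : toD K ≅ Dual.inD P M :=
    ((DerivedCategory.singleFunctorIsoCompQ (ModuleCat.{u} P) 0).app (ModuleCat.of P M)).symm
  refine (isPseudoCoherent_iff_of_iso e m).1
    (isPseudoCoherent_of_localization_away hG K m (fun j => ?_))
  have hj : IsPseudoCoherent (Localization.Away (G j)) m
      (Dual.inD (Localization.Away (G j)) (Localization.Away (G j) ⊗[P] M)) :=
    (isPseudoCoherent'_iff_forall _).1 (h j) m
  exact (isPseudoCoherent_iff_of_iso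
    ((bcDIso K).symm ≪≫ (bcD P (Localization.Away (G j))).mapIso e ≪≫ bcSingleIso M) m).2 hj

theorem pcModule_of_away_cover' {ι : Type*} [Finite ι] (G : ι → P)
    (hG : Ideal.span (Set.range G) = ⊤)
    (M : Type u) [AddCommGroup M] [Module P M]
    (h : ∀ j, IsPseudoCoherentModule' (Localization.Away (G j))
      (Localization.Away (G j) ⊗[P] M)) :
    IsPseudoCoherentModule' P M := by
  obtain ⟨r, ⟨e⟩⟩ := Finite.exists_equiv_fin ι
  refine pcModule_of_away_cover (G ∘ e.symm) ?_ M (fun j => h (e.symm j))
  rw [← hG]
  congr 1
  exact e.symm.surjective.range_comp G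

end ModuleGlue

section RingGlue

variable {P B : Type u} [CommRing P] [CommRing B]

/-- `B_{φ G}`, as a module over `P_G`, is the base change of the `P`-module `B` -/
lemma pcModule_away_tensor (φ : P →+* B) (G : P)
    (h : letI := (Localization.awayMap φ G).toAlgebra
      IsPseudoCoherentModule' (Localization.Away G) (Localization.Away (φ G))) :
    letI := φ.toAlgebra
    IsPseudoCoherentModule' (Localization.Away G) (Localization.Away G ⊗[P] B) := by
  letI algPB := φ.toAlgebra
  letI algPGBg := (Localization.awayMap φ G).toAlgebra
  haveI t1 : IsScalarTower P B (Localization.Away (φ G)) := inferInstance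
  haveI t2 : IsScalarTower P (Localization.Away G) (Localization.Away (φ G)) :=
    IsScalarTower.of_algebraMap_eq (fun x => by
      rw [IsScalarTower.algebraMap_apply P B (Localization.Away (φ G)) x]
      show algebraMap B _ (φ x) = Localization.awayMap φ G (algebraMap P _ x)
      exact (IsLocalization.map_eq _ x).symm)
  haveI hloc : IsLocalizedModule (Submonoid.powers G)
      (IsScalarTower.toAlgHom P B (Localization.Away (φ G))).toLinearMap := by
    rw [isLocalizedModule_iff_isLocalization]
    have : Algebra.algebraMapSubmonoid B (Submonoid.powers G) = Submonoid.powers (φ G) := by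
      show Submonoid.map (algebraMap P B) (Submonoid.powers G) = _
      rw [Submonoid.map_powers]
      rfl
    rw [this]
    infer_instance
  have hbc : IsBaseChange (Localization.Away G)
      (IsScalarTower.toAlgHom P B (Localization.Away (φ G))).toLinearMap :=
    IsLocalizedModule.isBaseChange (Submonoid.powers G) (Localization.Away G) _
  exact isPseudoCoherentModule'_of_linearEquiv hbc.equiv.symm h

theorem pcModule_of_span_target (φ : P →+* B) (hφ : Function.Surjective φ) {ι : Type*} [Finite ι]
    (G : ι → P) (hspan : Ideal.span (Set.range (fun i => φ (G i))) = ⊤)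
    (H : ∀ i, letI := (Localization.awayMap φ (G i)).toAlgebra
      IsPseudoCoherentModule' (Localization.Away (G i)) (Localization.Away (φ (G i)))) :
    letI := φ.toAlgebra
    IsPseudoCoherentModule' P B := by
  letI := φ.toAlgebra
  cases nonempty_fintype ι
  have h1 : (1 : B) ∈ Ideal.span (Set.range (fun i => φ (G i))) := by rw [hspan]; trivial
  obtain ⟨c, hc⟩ := (Ideal.mem_span_range_iff_exists_fun).1 h1
  choose a ha using fun i => hφ (c i)
  let k : P := 1 - ∑ i, a i * G i
  have hk : φ k = 0 := by
    show φ (1 - ∑ i, a i * G i) = 0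
    rw [map_sub, map_one, map_sum]
    simp only [map_mul, ha]
    rw [hc, sub_self]
  let G' : Option ι → P := fun o => o.elim k G
  have hspan' : Ideal.span (Set.range G') = ⊤ := by
    rw [Ideal.eq_top_iff_one]
    have h2 : (1 : P) = k + ∑ i, a i * G i := by
      show (1 : P) = (1 - ∑ i, a i * G i) + ∑ i, a i * G i
      ring
    rw [h2]
    refine Ideal.add_mem _ (Ideal.subset_span ⟨none, rfl⟩) (Ideal.sum_mem _ (fun i _ => ?_))
    exact Ideal.mul_mem_left _ _ (Ideal.subset_span ⟨some i, rfl⟩)
  refine pcModule_of_away_cover' G' hspan' B (fun o => ?_)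
  cases o with
  | none =>
    show IsPseudoCoherentModule' (Localization.Away k) (Localization.Away k ⊗[P] B)
    have hz : ∀ t : Localization.Away k ⊗[P] B, t = 0 := by
      intro t
      induction t using TensorProduct.induction_on with
      | zero => rfl
      | tmul y b =>
        have hy : y = k • (IsLocalization.Away.invSelf k * y) := by
          rw [Algebra.smul_def, ← mul_assoc, IsLocalization.Away.mul_invSelf, one_mul]
        rw [hy, TensorProduct.smul_tmul]
        have : k • b = 0 := by
          show φ k * b = 0
          rw [hk, zero_mul]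
        rw [this, TensorProduct.tmul_zero]
      | add x y hx hy => rw [hx, hy, add_zero]
    haveI : Subsingleton (Localization.Away k ⊗[P] B) := ⟨fun x y => by rw [hz x, hz y]⟩
    exact isPseudoCoherentModule'_of_subsingleton _
  | some i => exact pcModule_away_tensor φ (G i) (H i)

end RingGlue

section Local

theorem pcr_ofLocalizationFiniteSpanTarget : RingHom.OfLocalizationFiniteSpanTarget @PCR.{u} := by
  intro A B _ _ f s hs H
  have hft : f.FiniteType :=
    RingHom.finiteType_ofLocalizationSpanTarget f (s : Set B) hs
      (fun r => (H ⟨r.1, r.2⟩).finiteType)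
  letI := f.toAlgebra
  haveI : Algebra.FiniteType A B := hft
  obtain ⟨n, φ, hφ⟩ := Algebra.FiniteType.iff_quotient_mvPolynomial''.1
    (inferInstance : Algebra.FiniteType A B)
  choose G hG using fun g : s => hφ g.1
  refine ⟨n, φ, hφ, ?_⟩
  refine pcModule_of_span_target φ.toRingHom hφ G ?_ ?_
  · have : Set.range (fun g : s => φ.toRingHom (G g)) = (s : Set B) := by
      ext x
      constructor
      · rintro ⟨g, rfl⟩
        show φ.toRingHom (G g) ∈ (s : Set B)
        rw [show φ.toRingHom (G g) = g.1 from hG g]
        exact g.2
      · intro hx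
        exact ⟨⟨x, hx⟩, hG ⟨x, hx⟩⟩
    rw [this]
    exact hs
  · intro g
    have hg' : ∀ (b : B), b = g.1 → PCR ((algebraMap B (Localization.Away b)).comp f) := by
      rintro b rfl
      exact H g
    have hg := hg' (φ.toRingHom (G g)) (hG g)
    let ιG : A →+* Localization.Away (G g) :=
      (algebraMap (MvPolynomial (Fin n) A) (Localization.Away (G g))).comp MvPolynomial.C
    have hι : PCR ιG := PCR.comp (PCR.mvPolynomial_C n) (PCR.away (G g))
    have hcomp : (Localization.awayMap φ.toRingHom (G g)).comp ιG =
        (algebraMap B (Localization.Away (φ.toRingHom (G g)))).comp f := by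
      refine RingHom.ext fun a => ?_
      show Localization.awayMap φ.toRingHom (G g)
          (algebraMap (MvPolynomial (Fin n) A) _ (MvPolynomial.C a)) = algebraMap B _ (f a)
      rw [Localization.awayMap, IsLocalization.Away.map, IsLocalization.map_eq]
      congr 1
      exact φ.commutes a
    have hψ : PCR (Localization.awayMap φ.toRingHom (G g)) :=
      PCR.of_comp hι (hcomp ▸ hg)
    have hsurj : Function.Surjective (Localization.awayMap φ.toRingHom (G g)) :=
      Localization.awayMap_surjective_iff.2 (fun a => ⟨(hφ a).choose, 0, by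
        rw [pow_zero, one_mul]; exact (hφ a).choose_spec⟩)
    exact (pcModule_iff_resPC _).2 ((pcr_iff_resPC_of_surjective _ hsurj).1 hψ)

theorem pcr_ofLocalizationSpanTarget : RingHom.OfLocalizationSpanTarget @PCR.{u} :=
  (RingHom.ofLocalizationSpanTarget_iff_finite _).2 pcr_ofLocalizationFiniteSpanTarget

theorem pcr_respectsIso : RingHom.RespectsIso @PCR.{u} := by
  constructor
  · intro R S T _ _ _ f e hf
    exact PCR.comp hf (PCR.of_bijective _ e.bijective)
  · intro R S T _ _ _ f e hf
    exact PCR.comp (PCR.of_bijective _ e.bijective) hf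

theorem pcr_stableUnderComposition : RingHom.StableUnderComposition @PCR.{u} :=
  fun _ _ _ _ _ _ _ _ hf hg => PCR.comp hf hg

theorem pcr_localizationAwayPreserves : RingHom.LocalizationAwayPreserves @PCR.{u} := by
  intro R S _ _ f r R' S' _ _ _ _ _ _ hf
  have h1 : PCR (algebraMap R R') := PCR.away r
  have h2 : PCR ((algebraMap S S').comp f) := PCR.comp hf (PCR.away (f r))
  have hcomp : (IsLocalization.Away.map R' S' f r).comp (algebraMap R R') =
      (algebraMap S S').comp f := IsLocalization.map_comp _
  exact PCR.of_comp h1 (hcomp ▸ h2)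

theorem pcr_stableAwayTarget :
    RingHom.StableUnderCompositionWithLocalizationAwayTarget @PCR.{u} := by
  intro R S T _ _ _ _ s _ f hf
  exact PCR.comp hf (PCR.away s)

theorem pcr_stableAwaySource :
    RingHom.StableUnderCompositionWithLocalizationAwaySource @PCR.{u} := by
  intro R S T _ _ _ _ r _ f hf
  exact PCR.comp (PCR.away r) hf

theorem pcr_ofLocalizationSpan : RingHom.OfLocalizationSpan @PCR.{u} :=
  pcr_ofLocalizationSpanTarget.ofLocalizationSpan pcr_stableAwaySource

theorem pcr_isLocal : RingHom.PropertyIsLocal @PCR.{u} :=
  ⟨pcr_localizationAwayPreserves, pcr_ofLocalizationSpanTarget, pcr_ofLocalizationSpan,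
    pcr_stableAwayTarget⟩

end Local

end Groth.Agent.Lib.PCHom
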