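import Mathlib
import Groth.Agent.Lib.PCHom2_helper2

/-!
# Pseudo-coherent morphisms of schemes (helper2), part 3

`MoreMor.IsPseudoCoherentMor` is the morphism property `affineLocally PCR` attached to the local
ring-hom property `PCR`; local characterisation (S7166), finite presentation (S7168), composition
(S1504), cancellation (S7169), locally Noetherian base (S1503).
-/

set_option autoImplicit false
universe u
open CategoryTheory CategoryTheory.Limits AlgebraicGeometry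
attribute [local instance] HasDerivedCategory.standard

namespace Groth.Agent.Lib.PCHom

/-- pseudo-coherent morphisms of schemes, as `affineLocally` of the ring-hom property -/
def pcMor : MorphismProperty Scheme.{u} := affineLocally @PCR.{u}

instance : HasRingHomProperty pcMor.{u} @PCR.{u} := ⟨pcr_isLocal, rfl⟩

theorem isPseudoCoherentMor_iff {X Y : Scheme.{u}} (f : X ⟶ Y) :
    MoreMor.IsPseudoCoherentMor f ↔ pcMor f := by
  rw [HasRingHomProperty.iff_appLE (P := pcMor)]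
  exact ⟨fun h U V e => h V.1 U.1 V.2 U.2 e, fun h U V hU hV e => h ⟨V, hV⟩ ⟨U, hU⟩ e⟩

theorem pcMor_iff_exists {X S : Scheme.{u}} (f : X ⟶ S) :
    pcMor f ↔ ∀ x : X, ∃ (U : S.affineOpens) (V : X.affineOpens) (_ : x ∈ V.1)
      (e : V.1 ≤ f ⁻¹ᵁ U.1), PCR (f.appLE U V e).hom :=
  HasRingHomProperty.iff_exists_appLE (P := pcMor) pcr_stableAwaySource

theorem main7166 {X S : Scheme.{u}} (f : X ⟶ S) :
    MoreMor.IsPseudoCoherentMor f ↔ ∀ x : X, ∃ (U : X.Opens) (V : S.Opens) (hUV : U ≤ f ⁻¹ᵁ V),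
      IsAffineOpen U ∧ IsAffineOpen V ∧ x ∈ U ∧
      (letI := (f.appLE V U hUV).hom.toAlgebra
       MoreMor.IsPseudoCoherentHom Γ(S, V) Γ(X, U)) := by
  rw [isPseudoCoherentMor_iff, pcMor_iff_exists]
  constructor
  · intro h x
    obtain ⟨U, V, hx, e, hQ⟩ := h x
    exact ⟨V.1, U.1, e, V.2, U.2, hx, hQ⟩
  · intro h x
    obtain ⟨U, V, e, hU, hV, hx, hQ⟩ := h x
    exact ⟨⟨V, hV⟩, ⟨U, hU⟩, hx, e, hQ⟩

theorem main7168 {X S : Scheme.{u}} (f : X ⟶ S) (hf : MoreMor.IsPseudoCoherentMor f) :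
    LocallyOfFinitePresentation f := by
  rw [HasRingHomProperty.iff_appLE (P := @LocallyOfFinitePresentation)]
  intro U V e
  exact (show PCR (f.appLE U.1 V.1 e).hom from hf V.1 U.1 V.2 U.2 e).finitePresentation

theorem main1504 {X Y Z : Scheme.{u}} (f : X ⟶ Y) (g : Y ⟶ Z)
    (hf : MoreMor.IsPseudoCoherentMor f) (hg : MoreMor.IsPseudoCoherentMor g) :
    MoreMor.IsPseudoCoherentMor (f ≫ g) := by
  rw [isPseudoCoherentMor_iff] at *
  haveI := HasRingHomProperty.stableUnderComposition (P := pcMor.{u}) pcr_stableUnderComposition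
  exact pcMor.comp_mem f g hf hg

theorem main7169 {X Y S : Scheme.{u}} (f : X ⟶ Y) (g : Y ⟶ S)
    (hX : MoreMor.IsPseudoCoherentMor (f ≫ g)) (hY : MoreMor.IsPseudoCoherentMor g) :
    MoreMor.IsPseudoCoherentMor f := by
  rw [isPseudoCoherentMor_iff, pcMor_iff_exists]
  intro x
  obtain ⟨W, hW, hxW, -⟩ := TopologicalSpace.Opens.isBasis_iff_nbhd.mp S.isBasis_affineOpens
    (TopologicalSpace.Opens.mem_top (g (f x)))
  obtain ⟨V, hV, hxV, hVW⟩ := TopologicalSpace.Opens.isBasis_iff_nbhd.mp Y.isBasis_affineOpens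
    (show f x ∈ g ⁻¹ᵁ W from hxW)
  obtain ⟨U, hU, hxU, hUV⟩ := TopologicalSpace.Opens.isBasis_iff_nbhd.mp X.isBasis_affineOpens
    (show x ∈ f ⁻¹ᵁ V from hxV)
  refine ⟨⟨V, hV⟩, ⟨U, hU⟩, hxU, hUV, ?_⟩
  have hUW : U ≤ (f ≫ g) ⁻¹ᵁ W := fun y hy => hVW (hUV hy)
  have h1 : PCR (g.appLE W V hVW).hom := hY V W hV hW hVW
  have h2 : PCR ((f ≫ g).appLE W U hUW).hom := hX U W hU hW hUW
  have hcomp : ((f ≫ g).appLE W U hUW).hom =
      (f.appLE V U hUV).hom.comp (g.appLE W V hVW).hom := by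
    rw [← CommRingCat.hom_comp, Scheme.Hom.appLE_comp_appLE]
  exact PCR.of_comp h1 (hcomp ▸ h2)

theorem main1503 {X S : Scheme.{u}} (f : X ⟶ S) [IsLocallyNoetherian S] :
    MoreMor.IsPseudoCoherentMor f ↔ LocallyOfFiniteType f := by
  rw [HasRingHomProperty.iff_appLE (P := @LocallyOfFiniteType)]
  constructor
  · intro hf U V e
    exact (show PCR (f.appLE U.1 V.1 e).hom from hf V.1 U.1 V.2 U.2 e).finiteType
  · intro h U V hU hV e
    haveI : IsNoetherianRing Γ(S, V) := IsLocallyNoetherian.component_noetherian ⟨V, hV⟩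
    exact PCR.of_finiteType_of_noetherian (h ⟨V, hV⟩ ⟨U, hU⟩ e)

end Groth.Agent.Lib.PCHom
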