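import Mathlib
import Groth.Agent.Lib.PCHom3_helper2
import Groth.Agent.Lib.KoszulAtLCI_helper2

/-!
# Pseudo-coherent morphisms of schemes (helper2), part 4: flat base change and finite morphisms
-/

set_option autoImplicit false
universe u
open CategoryTheory CategoryTheory.Limits AlgebraicGeometry
open scoped TensorProduct
attribute [local instance] HasDerivedCategory.standard

namespace Groth.Agent.Lib.PCHom

open DRing Groth.Agent.Lib.DMod_helper6

section BaseChange

attribute [local instance] MvPolynomial.algebraMvPolynomial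

variable {A A' B B' : Type u} [CommRing A] [CommRing A'] [CommRing B] [CommRing B']
  [Algebra A A'] [Algebra A B] [Algebra A' B'] [Algebra B B'] [Algebra A B']
  [IsScalarTower A A' B'] [IsScalarTower A B B']

/-- flat base change of pseudo-coherent ring maps, algebra form -/
theorem pch_baseChange [Module.Flat A A'] [hpo : Algebra.IsPushout A B A' B']
    (h : MoreMor.IsPseudoCoherentHom A B) : MoreMor.IsPseudoCoherentHom A' B' := by
  obtain ⟨n, φ, hφ, hB⟩ := h
  let φ' : MvPolynomial (Fin n) A' →ₐ[A'] B' :=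
    MvPolynomial.aeval (fun i => algebraMap B B' (φ (MvPolynomial.X i)))
  have hkey : ∀ p : MvPolynomial (Fin n) A,
      φ' (MvPolynomial.map (algebraMap A A') p) = algebraMap B B' (φ p) := by
    have : (φ'.toRingHom).comp (MvPolynomial.map (algebraMap A A')) =
        (algebraMap B B').comp φ.toRingHom := by
      apply MvPolynomial.ringHom_ext
      · intro a
        show φ' (MvPolynomial.map (algebraMap A A') (MvPolynomial.C a)) =
          algebraMap B B' (φ (MvPolynomial.C a))
        rw [MvPolynomial.map_C, MvPolynomial.aeval_C, ← MvPolynomial.algebraMap_eq, φ.commutes,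
          ← IsScalarTower.algebraMap_apply, ← IsScalarTower.algebraMap_apply]
      · intro i
        show φ' (MvPolynomial.map (algebraMap A A') (MvPolynomial.X i)) =
          algebraMap B B' (φ (MvPolynomial.X i))
        rw [MvPolynomial.map_X, MvPolynomial.aeval_X]
    exact fun p => DFunLike.congr_fun this p
  have hφ' : Function.Surjective φ' := by
    intro y
    refine hpo.out.inductionOn y (fun y => ∃ q, φ' q = y) ⟨0, map_zero _⟩ ?_ ?_ ?_
    · intro a'
      exact ⟨MvPolynomial.C a', by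
        rw [MvPolynomial.aeval_C]
        rfl⟩
    · rintro b y ⟨q, rfl⟩
      obtain ⟨p, rfl⟩ := hφ b
      refine ⟨MvPolynomial.map (algebraMap A A') p * q, ?_⟩
      rw [map_mul, Algebra.smul_def, hkey]
    · rintro y z ⟨p, rfl⟩ ⟨q, rfl⟩
      exact ⟨p + q, map_add _ _ _⟩
  letI algPB : Algebra (MvPolynomial (Fin n) A) B := φ.toRingHom.toAlgebra
  letI algP'B' : Algebra (MvPolynomial (Fin n) A') B' := φ'.toRingHom.toAlgebra
  letI algPB' : Algebra (MvPolynomial (Fin n) A) B' :=
    ((algebraMap B B').comp φ.toRingHom).toAlgebra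
  haveI t1 : IsScalarTower A (MvPolynomial (Fin n) A) B :=
    IsScalarTower.of_algebraMap_eq (fun a => (φ.commutes a).symm)
  haveI t2 : IsScalarTower (MvPolynomial (Fin n) A) B B' :=
    IsScalarTower.of_algebraMap_eq (fun _ => rfl)
  haveI t3 : IsScalarTower (MvPolynomial (Fin n) A) (MvPolynomial (Fin n) A') B' :=
    IsScalarTower.of_algebraMap_eq (fun p => (hkey p).symm)
  haveI t4 : IsScalarTower A' (MvPolynomial (Fin n) A') B' :=
    IsScalarTower.of_algebraMap_eq (fun a => (φ'.commutes a).symm)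
  haveI t5 : IsScalarTower A (MvPolynomial (Fin n) A') B' :=
    IsScalarTower.of_algebraMap_eq (fun a => by
      show algebraMap A B' a = φ' (algebraMap A (MvPolynomial (Fin n) A') a)
      rw [MvPolynomial.algebraMap_apply, MvPolynomial.aeval_C,
        ← IsScalarTower.algebraMap_apply])
  have hpo1 : Algebra.IsPushout (MvPolynomial (Fin n) A) B (MvPolynomial (Fin n) A') B' :=
    (Algebra.IsPushout.comp_iff A (MvPolynomial (Fin n) A) A' (S' := MvPolynomial (Fin n) A')
      (T := B) (T' := B')).1 hpo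
  have hbc := hpo1.symm.out
  haveI : Module.Flat (MvPolynomial (Fin n) A) (MvPolynomial (Fin n) A') :=
    Module.Flat.isBaseChange (R := A) (S := MvPolynomial (Fin n) A) (M := A')
      (N := MvPolynomial (Fin n) A')
      (inferInstance : Algebra.IsPushout A (MvPolynomial (Fin n) A) A'
        (MvPolynomial (Fin n) A')).out
  have hpc : IsPseudoCoherentModule' (MvPolynomial (Fin n) A')
      ((MvPolynomial (Fin n) A') ⊗[MvPolynomial (Fin n) A] B) :=
    isPseudoCoherentModule'_baseChange B hB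
  exact ⟨n, φ', hφ', isPseudoCoherentModule'_of_linearEquiv hbc.equiv hpc⟩

end BaseChange

section BaseChangeHom

variable {A B A' B' : Type u} [CommRing A] [CommRing B] [CommRing A'] [CommRing B']

/-- flat base change of pseudo-coherent ring maps, pushout form -/
theorem PCR.baseChange_of_flat (α : A →+* B) (γ : A →+* A') (β : B →+* B') (δ : A' →+* B')
    (hpo : IsPushout (CommRingCat.ofHom α) (CommRingCat.ofHom γ) (CommRingCat.ofHom β)
      (CommRingCat.ofHom δ)) (hγ : γ.Flat) (h : PCR α) : PCR δ := by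
  letI := α.toAlgebra
  letI := γ.toAlgebra
  letI := β.toAlgebra
  letI := δ.toAlgebra
  letI : Algebra A B' := (β.comp α).toAlgebra
  haveI : IsScalarTower A B B' := IsScalarTower.of_algebraMap_eq (fun _ => rfl)
  have hw : δ.comp γ = β.comp α := by
    have := hpo.w
    rw [← CommRingCat.ofHom_comp, ← CommRingCat.ofHom_comp] at this
    exact (congrArg CommRingCat.Hom.hom this).symm
  haveI : IsScalarTower A A' B' :=
    IsScalarTower.of_algebraMap_eq (fun a => (DFunLike.congr_fun hw a).symm)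
  haveI : Module.Flat A A' := hγ
  haveI : Algebra.IsPushout A B A' B' := CommRingCat.isPushout_iff_isPushout.1 hpo
  exact pch_baseChange (A := A) (A' := A') (B := B) (B' := B') h

end BaseChangeHom

section FiniteHom

variable {A B : Type u} [CommRing A] [CommRing B]

/-- relative pseudo-coherence over the base itself is absolute pseudo-coherence -/
lemma isRelPseudoCoherent_self_iff (m : ℤ) (K : Dual.D A) :
    DerCA.IsRelPseudoCoherent A A m K ↔ IsPseudoCoherent A m K := by
  let α : MvPolynomial (Fin 0) A →ₐ[A] A := (MvPolynomial.isEmptyAlgEquiv A (Fin 0)).toAlgHom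
  have hα : Function.Bijective α := (MvPolynomial.isEmptyAlgEquiv A (Fin 0)).bijective
  rw [isRelPseudoCoherent_iff_via α hα.2]
  exact (isPseudoCoherent_restrictD_iff _ (resPC_of_bijective _ hα) m K).symm

/-- for a finite ring map, pseudo-coherence means that the target is a pseudo-coherent module -/
theorem pcr_iff_resPC_of_finite (f : A →+* B) (hf : f.Finite) :
    PCR f ↔ resPC f (Dual.inD B B) := by
  letI := f.toAlgebra
  haveI : Module.Finite A B := hf
  show MoreMor.IsPseudoCoherentHom A B ↔ IsPseudoCoherent' A ((restrictD f).obj (Dual.inD B B))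
  rw [pch_iff_rel, isPseudoCoherent'_iff_forall]
  refine forall_congr' (fun m => ?_)
  show DerCA.IsRelPseudoCoherent A B m (Dual.inD B B) ↔ _
  rw [isRelPseudoCoherent_iff_restrict_of_finite (R := A) (A := A) (B := B),
    isRelPseudoCoherent_self_iff]
  rfl

end FiniteHom

section mains

variable {X S : Scheme.{u}}

theorem main7167 {X' S' : Scheme.{u}} (f : X ⟶ S) (f' : X' ⟶ S') (g' : X' ⟶ X) (g : S' ⟶ S)
    [Flat g] (hc : IsPullback g' f' f g) (hf : MoreMor.IsPseudoCoherentMor f) :
    MoreMor.IsPseudoCoherentMor f' := by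
  rw [isPseudoCoherentMor_iff, pcMor_iff_exists]
  intro x'
  have hcommpt : f (g' x') = g (f' x') := by
    have := congrArg (fun t => t.base x') hc.w
    exact this
  obtain ⟨V, hV, hxV, -⟩ := (TopologicalSpace.Opens.isBasis_iff_nbhd.mp S.isBasis_affineOpens)
    (show f (g' x') ∈ (⊤ : S.Opens) from trivial)
  obtain ⟨U, hU, hxU, hUV⟩ := (TopologicalSpace.Opens.isBasis_iff_nbhd.mp X.isBasis_affineOpens)
    (show g' x' ∈ f ⁻¹ᵁ V from hxV)
  obtain ⟨V', hV', hxV', hV'V⟩ :=
    (TopologicalSpace.Opens.isBasis_iff_nbhd.mp S'.isBasis_affineOpens)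
    (show f' x' ∈ g ⁻¹ᵁ V from by
      show g (f' x') ∈ V
      rw [← hcommpt]
      exact hxV)
  have hU'aff : IsAffineOpen (g' ⁻¹ᵁ U ⊓ f' ⁻¹ᵁ V') := by
    haveI : IsAffine (V : Scheme) := hV
    haveI : IsAffine (V' : Scheme) := hV'
    haveI : IsAffine (U : Scheme) := hU
    exact IsAffine.of_isIso (Scheme.Hom.isPullback_resLE hc hV'V hUV rfl).isoPullback.hom
  have hpo : IsPushout (f.appLE V U hUV) (g.appLE V V' hV'V)
      (g'.appLE U (g' ⁻¹ᵁ U ⊓ f' ⁻¹ᵁ V') inf_le_left)
      (f'.appLE V' (g' ⁻¹ᵁ U ⊓ f' ⁻¹ᵁ V') inf_le_right) :=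
    (isIso_pushoutSection_iff hc hV'V hUV rfl).mp
      (isIso_pushoutSection_of_isAffineOpen hc hV'V hUV rfl hV hV' hU)
  have h1 : PCR (f'.appLE V' (g' ⁻¹ᵁ U ⊓ f' ⁻¹ᵁ V') inf_le_right).hom :=
    PCR.baseChange_of_flat (f.appLE V U hUV).hom (g.appLE V V' hV'V).hom
      (g'.appLE U (g' ⁻¹ᵁ U ⊓ f' ⁻¹ᵁ V') inf_le_left).hom _ hpo
      (g.flat_appLE hV hV' hV'V) (hf U V hU hV hUV)
  exact ⟨⟨V', hV'⟩, ⟨_, hU'aff⟩, ⟨hxU, hxV'⟩, inf_le_right, h1⟩

theorem main7170 (f : X ⟶ S) [IsFinite f] :
    MoreMor.IsPseudoCoherentMor f ↔ ∀ (V : S.Opens), IsAffineOpen V →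
      (letI := (f.app V).hom.toAlgebra
       DRing.IsPseudoCoherentModule' Γ(S, V) Γ(X, f ⁻¹ᵁ V)) := by
  have hfin : ∀ (V : S.Opens), IsAffineOpen V → (f.app V).hom.Finite := fun V hV =>
    IsFinite.finite_app f V hV
  constructor
  · intro hf V hV
    have h1 : PCR (f.appLE V (f ⁻¹ᵁ V) le_rfl).hom := hf (f ⁻¹ᵁ V) V (hV.preimage f) hV le_rfl
    have h2 : PCR (f.app V).hom := by
      rwa [← Scheme.Hom.app_eq_appLE] at h1
    exact (pcModule_iff_resPC _).2 ((pcr_iff_resPC_of_finite _ (hfin V hV)).1 h2)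
  · intro h
    rw [isPseudoCoherentMor_iff, pcMor_iff_exists]
    intro x
    obtain ⟨V, hV, hxV, -⟩ := (TopologicalSpace.Opens.isBasis_iff_nbhd.mp S.isBasis_affineOpens)
      (show f x ∈ (⊤ : S.Opens) from trivial)
    refine ⟨⟨V, hV⟩, ⟨f ⁻¹ᵁ V, hV.preimage f⟩, hxV, le_rfl, ?_⟩
    have h2 : PCR (f.app V).hom :=
      (pcr_iff_resPC_of_finite _ (hfin V hV)).2 ((pcModule_iff_resPC _).1 (h V hV))
    rwa [Scheme.Hom.app_eq_appLE] at h2

end mains

end Groth.Agent.Lib.PCHom
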