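import Mathlib
import Groth.Agent.Lib.PCHom4_helper2
import Groth.Agent.Lib.DMod61_helper6
import Groth.Agent.Lib.DMod64_helper6

/-!
# Perfect ring maps (helper2), part 1

* `ZarLocalModuleProp`: module properties with Zariski descent, and the gluing lemma
  `ZarLocalModuleProp.of_span_target` along a surjection `P → B`;
* `FTD f`: finite tor dimension of a ring map; `FTD.comp`, `FTD.of_flat`,
  `FTD.of_comp_isLocalization`, `FTD.mvPolynomial`;
* `PerfR f`: perfect ring maps, unbundled; `perfR_isLocal : RingHom.PropertyIsLocal PerfR`.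
-/

set_option autoImplicit false
universe u
open CategoryTheory CategoryTheory.Limits
open scoped TensorProduct
attribute [local instance] HasDerivedCategory.standard

namespace Groth.Agent.Lib.PCHom

open DRing Groth.Agent.Lib.DMod_helper6

section GenericGlue

/-- module properties that satisfy Zariski descent -/
structure ZarLocalModuleProp
    (𝒬 : ∀ (R : Type u) [CommRing R] (M : Type u) [AddCommGroup M] [Module R M], Prop) : Prop where
  of_equiv : ∀ {R : Type u} [CommRing R] {M N : Type u} [AddCommGroup M] [Module R M]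
    [AddCommGroup N] [Module R N], (M ≃ₗ[R] N) → 𝒬 R M → 𝒬 R N
  of_subsingleton : ∀ {R : Type u} [CommRing R] (M : Type u) [AddCommGroup M] [Module R M]
    [Subsingleton M], 𝒬 R M
  glue : ∀ {P : Type u} [CommRing P] {r : ℕ} (G : Fin r → P), Ideal.span (Set.range G) = ⊤ →
    ∀ (M : Type u) [AddCommGroup M] [Module P M],
      (∀ j, 𝒬 (Localization.Away (G j)) (Localization.Away (G j) ⊗[P] M)) → 𝒬 P M

variable {𝒬 : ∀ (R : Type u) [CommRing R] (M : Type u) [AddCommGroup M] [Module R M], Prop}
  (h𝒬 : ZarLocalModuleProp 𝒬)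
include h𝒬

theorem ZarLocalModuleProp.glue' {P : Type u} [CommRing P] {ι : Type*} [Finite ι] (G : ι → P)
    (hG : Ideal.span (Set.range G) = ⊤) (M : Type u) [AddCommGroup M] [Module P M]
    (h : ∀ j, 𝒬 (Localization.Away (G j)) (Localization.Away (G j) ⊗[P] M)) : 𝒬 P M := by
  obtain ⟨r, ⟨e⟩⟩ := Finite.exists_equiv_fin ι
  refine h𝒬.glue (G ∘ e.symm) ?_ M (fun j => h (e.symm j))
  rw [← hG]
  congr 1
  exact e.symm.surjective.range_comp G

variable {P B : Type u} [CommRing P] [CommRing B]

theorem ZarLocalModuleProp.away_tensor (φ : P →+* B) (G : P)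
    (h : letI := (Localization.awayMap φ G).toAlgebra
      𝒬 (Localization.Away G) (Localization.Away (φ G))) :
    letI := φ.toAlgebra
    𝒬 (Localization.Away G) (Localization.Away G ⊗[P] B) := by
  letI algPB := φ.toAlgebra
  letI algPGBg := (Localization.awayMap φ G).toAlgebra
  haveI t1 : IsScalarTower P B (Localization.Away (φ G)) := inferInstance
  haveI t2 : IsScalarTower P (Localization.Away G) (Localization.Away (φ G)) :=
    IsScalarTower.of_algebraMap_eq (fun x => by
      rw [IsScalarTower.algebraMap_apply P B (Localization.Away (φ G)) x]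
      show algebraMap B _ (φ x) = Localization.awayMap φ G (algebraMap P _ x)
      exact (IsLocalization.map_eq _ x).symm)
  haveI hloc : IsLocalizedModule (Submonoid.powers G)
      (IsScalarTower.toAlgHom P B (Localization.Away (φ G))).toLinearMap := by
    rw [isLocalizedModule_iff_isLocalization]
    have : Algebra.algebraMapSubmonoid B (Submonoid.powers G) = Submonoid.powers (φ G) := by
      show Submonoid.map (algebraMap P B) (Submonoid.powers G) = _
      rw [Submonoid.map_powers]
      rfl
    rw [this]
    infer_instance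
  have hbc : IsBaseChange (Localization.Away G)
      (IsScalarTower.toAlgHom P B (Localization.Away (φ G))).toLinearMap :=
    IsLocalizedModule.isBaseChange (Submonoid.powers G) (Localization.Away G) _
  exact h𝒬.of_equiv hbc.equiv.symm h

theorem ZarLocalModuleProp.of_span_target (φ : P →+* B) (hφ : Function.Surjective φ)
    {ι : Type*} [Finite ι]
    (G : ι → P) (hspan : Ideal.span (Set.range (fun i => φ (G i))) = ⊤)
    (H : ∀ i, letI := (Localization.awayMap φ (G i)).toAlgebra
      𝒬 (Localization.Away (G i)) (Localization.Away (φ (G i)))) :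
    letI := φ.toAlgebra
    𝒬 P B := by
  letI := φ.toAlgebra
  cases nonempty_fintype ι
  have h1 : (1 : B) ∈ Ideal.span (Set.range (fun i => φ (G i))) := by rw [hspan]; trivial
  obtain ⟨c, hc⟩ := (Ideal.mem_span_range_iff_exists_fun).1 h1
  choose a ha using fun i => hφ (c i)
  let k : P := 1 - ∑ i, a i * G i
  have hk : φ k = 0 := by
    show φ (1 - ∑ i, a i * G i) = 0
    rw [map_sub, map_one, map_sum]
    simp only [map_mul, ha]
    rw [hc, sub_self]
  let G' : Option ι → P := fun o => o.elim k G
  have hspan' : Ideal.span (Set.range G') = ⊤ := by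
    rw [Ideal.eq_top_iff_one]
    have h2 : (1 : P) = k + ∑ i, a i * G i := by
      show (1 : P) = (1 - ∑ i, a i * G i) + ∑ i, a i * G i
      ring
    rw [h2]
    refine Ideal.add_mem _ (Ideal.subset_span ⟨none, rfl⟩) (Ideal.sum_mem _ (fun i _ => ?_))
    exact Ideal.mul_mem_left _ _ (Ideal.subset_span ⟨some i, rfl⟩)
  refine h𝒬.glue' G' hspan' B (fun o => ?_)
  cases o with
  | none =>
    show 𝒬 (Localization.Away k) (Localization.Away k ⊗[P] B)
    have hz : ∀ t : Localization.Away k ⊗[P] B, t = 0 := by
      intro t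
      induction t using TensorProduct.induction_on with
      | zero => rfl
      | tmul y b =>
        have hy : y = k • (IsLocalization.Away.invSelf k * y) := by
          rw [Algebra.smul_def, ← mul_assoc, IsLocalization.Away.mul_invSelf, one_mul]
        rw [hy, TensorProduct.smul_tmul]
        have : k • b = 0 := by
          show φ k * b = 0
          rw [hk, zero_mul]
        rw [this, TensorProduct.tmul_zero]
      | add x y hx hy => rw [hx, hy, add_zero]
    haveI : Subsingleton (Localization.Away k ⊗[P] B) := ⟨fun x y => by rw [hz x, hz y]⟩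
    exact h𝒬.of_subsingleton _
  | some i => exact h𝒬.away_tensor φ (G i) (H i)

end GenericGlue

section Instances

theorem zarLocal_pc : ZarLocalModuleProp.{u} (fun R _ M _ _ => IsPseudoCoherentModule' R M) where
  of_equiv e h := isPseudoCoherentModule'_of_linearEquiv e h
  of_subsingleton M := isPseudoCoherentModule'_of_subsingleton M
  glue G hG M _ _ h := pcModule_of_away_cover G hG M h

theorem zarLocal_perf : ZarLocalModuleProp.{u} (fun R _ M _ _ => IsPerfectModule R M) where
  of_equiv {R _ M N _ _ _ _} e h :=
    isPerfect_of_iso ((DerivedCategory.singleFunctor (ModuleCat.{u} R) 0).mapIso e.toModuleIso) h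
  of_subsingleton {R _} M _ _ _ :=
    isPerfect_of_isZero _ ((DerivedCategory.singleFunctor (ModuleCat.{u} R) 0).map_isZero
      (ModuleCat.isZero_of_subsingleton _))
  glue {P _ r} G hG M _ _ h := by
    show IsPerfect P (Dual.inD P M)
    let K : Cx P := (HomologicalComplex.single (ModuleCat.{u} P) (ComplexShape.up ℤ) 0).obj
      (ModuleCat.of P M)
    let e : toD K ≅ Dual.inD P M :=
      ((DerivedCategory.singleFunctorIsoCompQ (ModuleCat.{u} P) 0).app (ModuleCat.of P M)).symm
    refine isPerfect_of_iso e (isPerfect_of_localization_away hG K (fun j => ?_))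
    exact isPerfect_of_iso
      ((bcDIso K).symm ≪≫ (bcD P (Localization.Away (G j))).mapIso e ≪≫ bcSingleIso M).symm (h j)

end Instances

section FTDsec

variable {A B C : Type u} [CommRing A] [CommRing B] [CommRing C]

/-- finite tor dimension of a ring map -/
def FTD (f : A →+* B) : Prop := ∃ d : ℕ, resTA f d

lemma ftd_iff (f : A →+* B) :
    FTD f ↔ (letI := f.toAlgebra; DRing.HasFiniteTorDim A B) := by
  letI := f.toAlgebra
  constructor
  · rintro ⟨d, hd⟩
    exact ⟨d, (hasTorDimLE_iff B d).2
      (hasTorAmplitudeIn_of_iso (restrictDInDSelfIso (A := A) (B := B)) _ _ hd)⟩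
  · rintro ⟨d, hd⟩
    exact ⟨d, hasTorAmplitudeIn_of_iso (restrictDInDSelfIso (A := A) (B := B)).symm _ _
      ((hasTorDimLE_iff B d).1 hd)⟩

lemma ftd_algebraMap [Algebra A B] : FTD (algebraMap A B) ↔ DRing.HasFiniteTorDim A B := by
  have h : (algebraMap A B).toAlgebra = (inferInstance : Algebra A B) :=
    Algebra.algebra_ext _ _ (fun r => rfl)
  rw [ftd_iff]
  show @DRing.HasFiniteTorDim A _ B _ (algebraMap A B).toAlgebra.toModule ↔ _
  rw [h]

theorem FTD.comp {f : A →+* B} {g : B →+* C} (hf : FTD f) (hg : FTD g) : FTD (g.comp f) := by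
  obtain ⟨d₁, h1⟩ := hf
  obtain ⟨d₂, h2⟩ := hg
  exact ⟨d₁ + d₂, resTA_comp f g _ rfl d₁ d₂ _ rfl h1 h2⟩

theorem FTD.of_flat (f : A →+* B) (hf : f.Flat) : FTD f := by
  letI := f.toAlgebra
  haveI : Module.Flat A B := hf
  refine ⟨0, ?_⟩
  have h1 : HasTorAmplitudeIn A 0 0 (Dual.inD A B) :=
    (hasTorAmplitudeIn_zero_zero_iff_flat B).2 inferInstance
  unfold resTA
  rw [Nat.cast_zero, neg_zero]
  exact hasTorAmplitudeIn_of_iso (restrictDInDSelfIso (A := A) (B := B)).symm _ _ h1

theorem FTD.of_bijective (f : A →+* B) (hf : Function.Bijective f) : FTD f :=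
  ⟨0, resTA_of_bijective f hf⟩

/-- finite tor dimension descends along a localisation of the base through which the map
factors -/
theorem FTD.of_comp_isLocalization {A' : Type u} [CommRing A'] (f : A →+* A') (g : A' →+* B)
    (M : Submonoid A) (hM : @IsLocalization A _ M A' _ f.toAlgebra) (h : FTD (g.comp f)) :
    FTD g := by
  letI := f.toAlgebra
  letI := g.toAlgebra
  letI : Algebra A B := (g.comp f).toAlgebra
  haveI : IsScalarTower A A' B := IsScalarTower.of_algebraMap_eq (fun _ => rfl)
  haveI : IsLocalization M A' := hM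
  haveI : Module.Flat A A' := IsLocalization.flat A' M
  obtain ⟨d, hd⟩ := h
  have h1 : HasTorAmplitudeIn A (-(d : ℤ)) 0 (Dual.inD A B) :=
    hasTorAmplitudeIn_of_iso (restrictDInDSelfIso (A := A) (B := B)) _ _ hd
  have h2 := hasTorAmplitudeIn_baseChange (A := A) (B := A') (-(d : ℤ)) 0 B h1
  haveI : IsLocalizedModule M (LinearMap.id : B →ₗ[A] B) := isLocalizedModule_id M B A'
  have hbc : IsBaseChange A' (LinearMap.id : B →ₗ[A] B) :=
    IsLocalizedModule.isBaseChange M A' _
  have h3 : HasTorAmplitudeIn A' (-(d : ℤ)) 0 (Dual.inD A' B) :=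
    hasTorAmplitudeIn_of_iso
      ((DerivedCategory.singleFunctor (ModuleCat.{u} A') 0).mapIso hbc.equiv.toModuleIso) _ _ h2
  exact ⟨d, hasTorAmplitudeIn_of_iso (restrictDInDSelfIso (A := A') (B := B)).symm _ _ h3⟩

attribute [local instance] MvPolynomial.algebraMvPolynomial in
/-- an algebra of finite tor dimension has finite tor dimension over any polynomial ring mapping
to it -/
theorem FTD.mvPolynomial [Algebra A C] {k : ℕ} (ψ : MvPolynomial (Fin k) A →ₐ[A] C)
    (h : DRing.HasFiniteTorDim A C) : FTD (ψ : MvPolynomial (Fin k) A →+* C) := by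
  obtain ⟨e, he⟩ := h
  let b : Fin k → C := fun i => ψ (MvPolynomial.X i)
  have hB := resTA_map A C k e he
  have hK : HasTorAmplitudeIn (MvPolynomial (Fin k) C) (-(k : ℤ)) 0
      ((restrictD (MvPolynomial.eval b)).obj (Dual.inD C C)) := resTA_eval k C b
  have h3 := hasTorAmplitudeIn_restrictD_of_torDim e hB _ (-(k : ℤ)) 0 hK
  have hgf : ψ.toRingHom = (MvPolynomial.eval b).comp
      (algebraMap (MvPolynomial (Fin k) A) (MvPolynomial (Fin k) C)) := by
    apply MvPolynomial.ringHom_ext
    · intro a
      show ψ (MvPolynomial.C a) = MvPolynomial.eval b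
        (MvPolynomial.map (algebraMap A C) (MvPolynomial.C a))
      rw [MvPolynomial.map_C, MvPolynomial.eval_C]
      exact ψ.commutes a
    · intro i
      show ψ (MvPolynomial.X i) = MvPolynomial.eval b
        (MvPolynomial.map (algebraMap A C) (MvPolynomial.X i))
      rw [MvPolynomial.map_X, MvPolynomial.eval_X]
  have h4 := hasTorAmplitudeIn_of_iso
    (restrictDCompIso _ _ ψ.toRingHom hgf (Dual.inD C C)).symm _ _ h3
  refine ⟨k + e, ?_⟩
  unfold resTA
  have hc : -((k + e : ℕ) : ℤ) = -(k : ℤ) - (e : ℤ) := by push_cast; ring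
  rw [hc]
  exact h4

end FTDsec

section PerfRsec

variable {A B C : Type u} [CommRing A] [CommRing B] [CommRing C]

/-- perfect ring homomorphisms, unbundled from the algebra instance -/
def PerfR (f : A →+* B) : Prop :=
  @MoreMor.IsPerfectHom A B _ _ f.toAlgebra

lemma perfR_iff (f : A →+* B) : PerfR f ↔ PCR f ∧ FTD f := by
  rw [ftd_iff]
  rfl

lemma perfR_algebraMap [Algebra A B] :
    PerfR (algebraMap A B) ↔ MoreMor.IsPerfectHom A B := by
  have h : (algebraMap A B).toAlgebra = (inferInstance : Algebra A B) :=
    Algebra.algebra_ext _ _ (fun r => rfl)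
  unfold PerfR
  rw [h]

theorem PerfR.comp {f : A →+* B} {g : B →+* C} (hf : PerfR f) (hg : PerfR g) :
    PerfR (g.comp f) := by
  rw [perfR_iff] at *
  exact ⟨PCR.comp hf.1 hg.1, FTD.comp hf.2 hg.2⟩

theorem PerfR.of_bijective (f : A →+* B) (hf : Function.Bijective f) : PerfR f :=
  (perfR_iff f).2 ⟨PCR.of_bijective f hf, FTD.of_bijective f hf⟩

theorem PerfR.of_smooth (f : A →+* B) (hf : f.Smooth) : PerfR f :=
  @isPerfectHom_of_isLCI A B _ _ f.toAlgebra
    (Groth.Agent.Lib.SmoothLCI.isLCIHom_of_smooth f hf)

theorem PerfR.away [Algebra A B] (g : A) [IsLocalization.Away g B] : PerfR (algebraMap A B) :=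
  PerfR.of_smooth _ (RingHom.smooth_algebraMap.2 (Algebra.Smooth.of_isLocalization_Away g))

theorem perfR_respectsIso : RingHom.RespectsIso @PerfR.{u} := by
  constructor
  · intro R S T _ _ _ f e hf
    exact PerfR.comp hf (PerfR.of_bijective _ e.bijective)
  · intro R S T _ _ _ f e hf
    exact PerfR.comp (PerfR.of_bijective _ e.bijective) hf

theorem perfR_stableUnderComposition : RingHom.StableUnderComposition @PerfR.{u} :=
  fun _ _ _ _ _ _ _ _ hf hg => PerfR.comp hf hg

theorem perfR_localizationAwayPreserves : RingHom.LocalizationAwayPreserves @PerfR.{u} := by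
  intro R S _ _ f r R' S' _ _ _ _ _ _ hf
  rw [perfR_iff] at hf ⊢
  refine ⟨pcr_localizationAwayPreserves f r R' S' hf.1, ?_⟩
  have h2 : FTD ((algebraMap S S').comp f) :=
    FTD.comp hf.2 (FTD.of_flat _ (RingHom.flat_algebraMap_iff.2
      (IsLocalization.flat S' (Submonoid.powers (f r)))))
  have hcomp : (IsLocalization.Away.map R' S' f r).comp (algebraMap R R') =
      (algebraMap S S').comp f := IsLocalization.map_comp _
  have hM : @IsLocalization R _ (Submonoid.powers r) R' _ (algebraMap R R').toAlgebra := by
    have h : (algebraMap R R').toAlgebra = (inferInstance : Algebra R R') :=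
      Algebra.algebra_ext _ _ (fun r => rfl)
    rw [h]
    infer_instance
  exact FTD.of_comp_isLocalization (algebraMap R R') _ (Submonoid.powers r) hM (hcomp ▸ h2)

theorem perfR_stableAwayTarget :
    RingHom.StableUnderCompositionWithLocalizationAwayTarget @PerfR.{u} := by
  intro R S T _ _ _ _ s _ f hf
  exact PerfR.comp hf (PerfR.away s)

theorem perfR_stableAwaySource :
    RingHom.StableUnderCompositionWithLocalizationAwaySource @PerfR.{u} := by
  intro R S T _ _ _ _ r _ f hf
  exact PerfR.comp (PerfR.away r) hf

theorem perfR_ofLocalizationFiniteSpanTarget :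
    RingHom.OfLocalizationFiniteSpanTarget @PerfR.{u} := by
  intro A B _ _ f s hs H
  have hpc : PCR f :=
    pcr_ofLocalizationFiniteSpanTarget f s hs (fun r => ((perfR_iff _).1 (H r)).1)
  letI := f.toAlgebra
  obtain ⟨n, φ, hφ, -⟩ := hpc
  choose G hG using fun g : s => hφ g.1
  show MoreMor.IsPerfectHom A B
  refine (isPerfectHom_iff A B).2 ⟨n, φ, hφ, ?_⟩
  refine zarLocal_perf.of_span_target φ.toRingHom hφ G ?_ ?_
  · have : Set.range (fun g : s => φ.toRingHom (G g)) = (s : Set B) := by
      ext x
      constructor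
      · rintro ⟨g, rfl⟩
        show φ.toRingHom (G g) ∈ (s : Set B)
        rw [show φ.toRingHom (G g) = g.1 from hG g]
        exact g.2
      · intro hx
        exact ⟨⟨x, hx⟩, hG ⟨x, hx⟩⟩
    rw [this]
    exact hs
  · intro g
    have hg' : ∀ (b : B), b = g.1 → PerfR ((algebraMap B (Localization.Away b)).comp f) := by
      rintro b rfl
      exact H g
    have hg := (perfR_iff _).1 (hg' (φ.toRingHom (G g)) (hG g))
    let ιG : A →+* Localization.Away (G g) :=
      (algebraMap (MvPolynomial (Fin n) A) (Localization.Away (G g))).comp MvPolynomial.C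
    have hι : PCR ιG := PCR.comp (PCR.mvPolynomial_C n) (PCR.away (G g))
    have hcomp : (Localization.awayMap φ.toRingHom (G g)).comp ιG =
        (algebraMap B (Localization.Away (φ.toRingHom (G g)))).comp f := by
      refine RingHom.ext fun a => ?_
      show Localization.awayMap φ.toRingHom (G g)
          (algebraMap (MvPolynomial (Fin n) A) _ (MvPolynomial.C a)) = algebraMap B _ (f a)
      rw [Localization.awayMap, IsLocalization.Away.map, IsLocalization.map_eq]
      congr 1
      exact φ.commutes a
    have hψ : PCR (Localization.awayMap φ.toRingHom (G g)) :=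
      PCR.of_comp hι (hcomp ▸ hg.1)
    have hsurj : Function.Surjective (Localization.awayMap φ.toRingHom (G g)) :=
      Localization.awayMap_surjective_iff.2 (fun a => ⟨(hφ a).choose, 0, by
        rw [pow_zero, one_mul]; exact (hφ a).choose_spec⟩)
    have hpc' : IsPseudoCoherent' (Localization.Away (G g))
        ((restrictD (Localization.awayMap φ.toRingHom (G g))).obj
          (Dual.inD (Localization.Away (φ.toRingHom (G g)))
            (Localization.Away (φ.toRingHom (G g))))) :=
      (pcr_iff_resPC_of_surjective _ hsurj).1 hψ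
    -- finite tor dimension over `P_G`
    have hftdA : DRing.HasFiniteTorDim A (Localization.Away (φ.toRingHom (G g))) := by
      rw [← ftd_algebraMap, IsScalarTower.algebraMap_eq A B (Localization.Away (φ.toRingHom (G g)))]
      exact hg.2
    let ψ : MvPolynomial (Fin n) A →ₐ[A] Localization.Away (φ.toRingHom (G g)) :=
      (IsScalarTower.toAlgHom A B (Localization.Away (φ.toRingHom (G g)))).comp φ
    have hψP : FTD (ψ : MvPolynomial (Fin n) A →+* Localization.Away (φ.toRingHom (G g))) :=
      FTD.mvPolynomial ψ hftdA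
    have hcomp2 : (ψ : MvPolynomial (Fin n) A →+* Localization.Away (φ.toRingHom (G g))) =
        (Localization.awayMap φ.toRingHom (G g)).comp
          (algebraMap (MvPolynomial (Fin n) A) (Localization.Away (G g))) := by
      refine RingHom.ext fun p => ?_
      show algebraMap B _ (φ p) = Localization.awayMap φ.toRingHom (G g)
          (algebraMap (MvPolynomial (Fin n) A) _ p)
      rw [Localization.awayMap, IsLocalization.Away.map, IsLocalization.map_eq]
      rfl
    have hM : @IsLocalization (MvPolynomial (Fin n) A) _ (Submonoid.powers (G g))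
        (Localization.Away (G g)) _
        (algebraMap (MvPolynomial (Fin n) A) (Localization.Away (G g))).toAlgebra := by
      have h : (algebraMap (MvPolynomial (Fin n) A) (Localization.Away (G g))).toAlgebra =
          (inferInstance : Algebra (MvPolynomial (Fin n) A) (Localization.Away (G g))) :=
        Algebra.algebra_ext _ _ (fun r => rfl)
      rw [h]
      infer_instance
    obtain ⟨d, hd⟩ := FTD.of_comp_isLocalization
      (algebraMap (MvPolynomial (Fin n) A) (Localization.Away (G g))) _
      (Submonoid.powers (G g)) hM (hcomp2 ▸ hψP)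
    letI := (Localization.awayMap φ.toRingHom (G g)).toAlgebra
    show IsPerfect (Localization.Away (G g))
      (Dual.inD (Localization.Away (G g)) (Localization.Away (φ.toRingHom (G g))))
    rw [isPerfect_iff_pc_and_finiteTorDim]
    exact ⟨(pcProp _).prop_of_iso (restrictDInDSelfIso (A := Localization.Away (G g))
        (B := Localization.Away (φ.toRingHom (G g)))) hpc',
      ⟨_, _, hasTorAmplitudeIn_of_iso (restrictDInDSelfIso (A := Localization.Away (G g))
        (B := Localization.Away (φ.toRingHom (G g)))) _ _ hd⟩⟩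

theorem perfR_ofLocalizationSpanTarget : RingHom.OfLocalizationSpanTarget @PerfR.{u} :=
  (RingHom.ofLocalizationSpanTarget_iff_finite _).2 perfR_ofLocalizationFiniteSpanTarget

theorem perfR_ofLocalizationSpan : RingHom.OfLocalizationSpan @PerfR.{u} :=
  perfR_ofLocalizationSpanTarget.ofLocalizationSpan perfR_stableAwaySource

theorem perfR_isLocal : RingHom.PropertyIsLocal @PerfR.{u} :=
  ⟨perfR_localizationAwayPreserves, perfR_ofLocalizationSpanTarget, perfR_ofLocalizationSpan,
    perfR_stableAwayTarget⟩

end PerfRsec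

end Groth.Agent.Lib.PCHom
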