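import Mathlib

open CategoryTheory AlgebraicGeometry IsLocalRing

namespace Groth.Agent.EtStalk

universe u

/-- Flat local hom with `m_A B = m_B`, `A`, `B` noetherian: `dim B = dim A`. -/
theorem ringKrullDim_eq_of_flat_of_map_maximalIdeal {A B : Type*} [CommRing A] [CommRing B]
    [IsLocalRing A] [IsLocalRing B] [Algebra A B] [Module.Flat A B] [IsNoetherianRing A]
    [IsNoetherianRing B] [IsLocalHom (algebraMap A B)]
    (h : (maximalIdeal A).map (algebraMap A B) = maximalIdeal B) :
    ringKrullDim B = ringKrullDim A := by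
  have hlo : (maximalIdeal B).LiesOver (maximalIdeal A) := by
    constructor
    exact (((local_hom_TFAE (algebraMap A B)).out 0 4 rfl rfl).mp ‹_›).symm
  have key := Ideal.height_eq_height_add_of_liesOver_of_hasGoingDown (maximalIdeal A)
    (maximalIdeal B)
  have hz : ((maximalIdeal B).map (Ideal.Quotient.mk <|
      (maximalIdeal A).map (algebraMap A B))).height = 0 := by
    rw [h, Ideal.map_quotient_self]
    exact Ideal.height_bot
  rw [hz, add_zero] at key
  rw [← IsLocalRing.maximalIdeal_height_eq_ringKrullDim,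
    ← IsLocalRing.maximalIdeal_height_eq_ringKrullDim, key]

/-- Descent of generators of the maximal ideal along a flat local hom with `m_A B = m_B`. -/
theorem spanFinrank_maximalIdeal_le_of_flat {A B : Type*} [CommRing A] [CommRing B]
    [IsLocalRing A] [IsLocalRing B] [Algebra A B] [Module.Flat A B]
    [IsNoetherianRing B] [IsLocalHom (algebraMap A B)]
    (h : (maximalIdeal A).map (algebraMap A B) = maximalIdeal B) :
    (maximalIdeal A).spanFinrank ≤ (maximalIdeal B).spanFinrank := by
  classical
  have hff : Module.FaithfullyFlat A B := Module.FaithfullyFlat.of_flat_of_isLocalHom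
  have hmem : ∀ a ∈ maximalIdeal A, algebraMap A B a ∈ maximalIdeal B := by
    intro a ha
    rw [← h]
    exact Ideal.mem_map_of_mem _ ha
  -- general fact: if `T ⊆ m_A` has images spanning the cotangent space, then `span T = m_A`.
  have key : ∀ T : Set A, T ⊆ maximalIdeal A →
      Submodule.span (ResidueField B) ((maximalIdeal B).toCotangent ''
        {y : maximalIdeal B | ∃ a ∈ T, algebraMap A B a = y.1}) = ⊤ →
      Ideal.span T = maximalIdeal A := by
    intro T hT hspan
    rw [CotangentSpace.span_image_eq_top_iff] at hspan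
    have h1 : (Ideal.span T).map (algebraMap A B) = maximalIdeal B := by
      apply le_antisymm
      · rw [← h]
        exact Ideal.map_mono (Ideal.span_le.mpr hT)
      · intro y hy
        have : (⟨y, hy⟩ : maximalIdeal B) ∈ Submodule.span B
            {y : maximalIdeal B | ∃ a ∈ T, algebraMap A B a = y.1} := by
          rw [hspan]; trivial
        have h2 := Submodule.mem_map_of_mem (f := (maximalIdeal B).subtype) this
        rw [Submodule.map_span] at h2
        simp only [Submodule.subtype_apply] at h2
        refine (Ideal.span_le (I := (Ideal.span T).map (algebraMap A B))).mpr ?_ h2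
        rintro _ ⟨z, ⟨a, haT, haz⟩, rfl⟩
        simp only [← haz]
        exact Ideal.mem_map_of_mem _ (Ideal.subset_span haT)
    rw [← Ideal.comap_map_eq_self_of_faithfullyFlat (B := B) (Ideal.span T), h1, ← h,
      Ideal.comap_map_eq_self_of_faithfullyFlat]
  -- spanning set
  let s : Set (maximalIdeal B) := {y | ∃ a ∈ (maximalIdeal A : Set A), algebraMap A B a = y.1}
  have hs' : Submodule.span (ResidueField B) ((maximalIdeal B).toCotangent '' s) = ⊤ := by
    rw [CotangentSpace.span_image_eq_top_iff]
    apply Submodule.map_injective_of_injective (f := (maximalIdeal B).subtype)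
      (Submodule.injective_subtype _)
    rw [Submodule.map_span, Submodule.map_top, Submodule.range_subtype]
    have : (maximalIdeal B).subtype '' s = algebraMap A B '' (maximalIdeal A : Set A) := by
      ext y
      constructor
      · rintro ⟨z, ⟨a, ha, haz⟩, rfl⟩
        exact ⟨a, ha, haz⟩
      · rintro ⟨a, ha, rfl⟩
        exact ⟨⟨algebraMap A B a, hmem a ha⟩, ⟨a, ha, rfl⟩, rfl⟩
    rw [this, ← h]
    rfl
  obtain ⟨b, hbs, hbspan, hbli⟩ := exists_linearIndependent (ResidueField B)
    ((maximalIdeal B).toCotangent '' s)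
  rw [hs'] at hbspan
  have hbfin : b.Finite := hbli.setFinite
  have hcard : b.ncard = Module.finrank (ResidueField B) (CotangentSpace B) := by
    have bas : Module.Basis b (ResidueField B) (CotangentSpace B) :=
      Module.Basis.mk hbli (by rw [Subtype.range_coe]; exact hbspan.ge)
    rw [Module.finrank_eq_nat_card_basis bas, _root_.Nat.card_coe_set_eq]
  have hch : ∀ v ∈ b, ∃ a ∈ maximalIdeal A, ∃ (hy : algebraMap A B a ∈ maximalIdeal B),
      (maximalIdeal B).toCotangent ⟨algebraMap A B a, hy⟩ = v := by
    intro v hv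
    obtain ⟨y, ⟨a, ha, hay⟩, rfl⟩ := hbs hv
    exact ⟨a, ha, hmem a ha, by congr 1; exact Subtype.ext hay⟩
  choose! g hg1 hg2 hg3 using hch
  have hT : g '' b ⊆ maximalIdeal A := by
    rintro _ ⟨v, hv, rfl⟩
    exact hg1 v hv
  have hspanT := key (g '' b) hT (by
    rw [eq_top_iff, ← hbspan]
    apply Submodule.span_mono
    intro v hv
    exact ⟨⟨algebraMap A B (g v), hg2 v hv⟩, ⟨g v, ⟨v, hv, rfl⟩, rfl⟩, hg3 v hv⟩)
  calc (maximalIdeal A).spanFinrank = (Ideal.span (g '' b)).spanFinrank := by rw [hspanT]
    _ ≤ (g '' b).ncard := Submodule.spanFinrank_span_le_ncard_of_finite (hbfin.image _)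
    _ ≤ b.ncard := Set.ncard_image_le hbfin
    _ = (maximalIdeal B).spanFinrank := by
      rw [hcard, spanFinrank_maximalIdeal_eq_finrank_cotangentSpace]


theorem isRegularLocalRing_iff_of_flat {A B : Type*} [CommRing A] [CommRing B]
    [IsLocalRing A] [IsLocalRing B] [Algebra A B] [Module.Flat A B] [IsNoetherianRing A]
    [IsNoetherianRing B] [IsLocalHom (algebraMap A B)]
    (h : (maximalIdeal A).map (algebraMap A B) = maximalIdeal B) :
    IsRegularLocalRing B ↔ IsRegularLocalRing A := by
  have hdim := ringKrullDim_eq_of_flat_of_map_maximalIdeal h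
  have hle := spanFinrank_maximalIdeal_le_of_flat h
  have hge : (maximalIdeal B).spanFinrank ≤ (maximalIdeal A).spanFinrank := by
    rw [← h]
    exact Ideal.spanFinrank_map_le_of_fg _ (maximalIdeal A).fg_of_isNoetherianRing
  rw [isRegularLocalRing_iff, isRegularLocalRing_iff, hdim, le_antisymm hge hle]

end Groth.Agent.EtStalk

namespace Groth.Agent.EtStalk

universe u

theorem isLocallyNoetherian_of_etale {X Y : Scheme.{u}} (f : X ⟶ Y) [Etale f]
    [IsLocallyNoetherian Y] : IsLocallyNoetherian X :=
  LocallyOfFiniteType.isLocallyNoetherian f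

/-- The stalk map of an étale morphism is flat and `m_A B = m_B`. -/
theorem stalkMap_props {X Y : Scheme.{u}} (f : X ⟶ Y) [Etale f] (x : X) :
    letI := (f.stalkMap x).hom.toAlgebra
    Module.Flat (Y.presheaf.stalk (f x)) (X.presheaf.stalk x) ∧
    IsLocalHom (algebraMap (Y.presheaf.stalk (f x)) (X.presheaf.stalk x)) ∧
    (maximalIdeal (Y.presheaf.stalk (f x))).map
      (algebraMap (Y.presheaf.stalk (f x)) (X.presheaf.stalk x)) =
      maximalIdeal (X.presheaf.stalk x) := by
  algebraize [(f.stalkMap x).hom]
  have h1 : IsLocalHom (algebraMap (Y.presheaf.stalk (f x)) (X.presheaf.stalk x)) :=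
    inferInstanceAs <| IsLocalHom (f.stalkMap x).hom
  have h2 : Algebra.EssFiniteType (Y.presheaf.stalk (f x)) (X.presheaf.stalk x) := by
    rw [← RingHom.essFiniteType_algebraMap, RingHom.algebraMap_toAlgebra]
    exact LocallyOfFiniteType.stalkMap f x
  have h3 : Algebra.FormallyUnramified (Y.presheaf.stalk (f x)) (X.presheaf.stalk x) := by
    rw [← RingHom.formallyUnramified_algebraMap, RingHom.algebraMap_toAlgebra]
    exact FormallyUnramified.stalkMap f x
  have h4 : Module.Flat (Y.presheaf.stalk (f x)) (X.presheaf.stalk x) := by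
    rw [← RingHom.flat_algebraMap_iff, RingHom.algebraMap_toAlgebra]
    exact Flat.stalkMap f x
  exact ⟨h4, h1, Algebra.FormallyUnramified.map_maximalIdeal⟩

theorem ringKrullDim_stalk_eq {X Y : Scheme.{u}} (f : X ⟶ Y) [Etale f]
    [IsLocallyNoetherian Y] (x : X) :
    ringKrullDim (X.presheaf.stalk x) = ringKrullDim (Y.presheaf.stalk (f x)) := by
  have := isLocallyNoetherian_of_etale f
  obtain ⟨h1, h2, h3⟩ := stalkMap_props f x
  letI := (f.stalkMap x).hom.toAlgebra
  exact ringKrullDim_eq_of_flat_of_map_maximalIdeal h3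

end Groth.Agent.EtStalk

namespace Groth.Agent.EtStalk

universe u

theorem isRegularLocalRing_stalk_iff {X Y : Scheme.{u}} (f : X ⟶ Y) [Etale f]
    [IsLocallyNoetherian Y] (x : X) :
    IsRegularLocalRing (X.presheaf.stalk x) ↔ IsRegularLocalRing (Y.presheaf.stalk (f x)) := by
  have := isLocallyNoetherian_of_etale f
  obtain ⟨h1, h2, h3⟩ := stalkMap_props f x
  letI := (f.stalkMap x).hom.toAlgebra
  exact isRegularLocalRing_iff_of_flat h3

end Groth.Agent.EtStalk
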