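import Mathlib
import Groth.Agent.Lib.UnramLoc_helper4

/-!
# Pointwise descent of unramified / étale along flat maps: statement-level results (helper4)
-/

open AlgebraicGeometry CategoryTheory CategoryTheory.Limits TensorProduct

universe u

namespace Groth.Agent.Lib.UnramLocH4

theorem main2807 {X Y S : Scheme.{u}} (f : Y ⟶ S) (h : X ⟶ S)
    [LocallyOfFinitePresentation f] [LocallyOfFinitePresentation h]
    (g : X ⟶ Y) (w : g ≫ f = h) (x : X) (hg : (g.stalkMap x).hom.Flat)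
    (hh : ∃ U : X.Opens, x ∈ U ∧ FormallyUnramified (U.ι ≫ h)) :
    ∃ V : Y.Opens, g.base x ∈ V ∧ FormallyUnramified (V.ι ≫ f) := by
  subst w
  rw [exists_nhd_iff_stalk] at hh ⊢
  exact stalk_unramified_of_flat_comp f g x hg hh

lemma flat_stalk_of_nhd {X Y : Scheme.{u}} (f : X ⟶ Y) (x : X) (U : X.Opens) (hx : x ∈ U)
    [Flat (U.ι ≫ f)] : (f.stalkMap x).hom.Flat := by
  have h1 : ((U.ι ≫ f).stalkMap ⟨x, hx⟩).hom.Flat := Flat.stalkMap (U.ι ≫ f) ⟨x, hx⟩
  exact (stalk_transfer RingHom.Flat.respectsIso U.ι f (U.ι ≫ f) (𝟙 _)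
    (Category.comp_id _).symm ⟨x, hx⟩).mp h1

theorem main2806 {X Y S : Scheme.{u}} (f : Y ⟶ S) (h : X ⟶ S)
    [LocallyOfFinitePresentation f] [LocallyOfFinitePresentation h]
    (g : X ⟶ Y) (w : g ≫ f = h) (x : X) (hg : (g.stalkMap x).hom.Flat)
    (hh : ∃ U : X.Opens, x ∈ U ∧ Etale (U.ι ≫ h)) :
    ∃ V : Y.Opens, g.base x ∈ V ∧ Etale (V.ι ≫ f) := by
  subst w
  obtain ⟨U, hxU, hU⟩ := hh
  have hu : ∃ V : Y.Opens, g.base x ∈ V ∧ FormallyUnramified (V.ι ≫ f) :=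
    main2807 f (g ≫ f) g rfl x hg ⟨U, hxU, inferInstance⟩
  have hflat : ((g ≫ f).stalkMap x).hom.Flat := flat_stalk_of_nhd (g ≫ f) x U hxU
  exact (FlatUnramPtH4.main2738 f g x hu hflat).1

theorem main2758 {X Y Y' : Scheme.{u}} (f : X ⟶ Y) [LocallyOfFinitePresentation f]
    (g : Y' ⟶ Y) (x' : ↑(pullback f g))
    (hg : (g.stalkMap ((pullback.snd f g).base x')).hom.Flat)
    (h : ∃ U' : (pullback f g).Opens, x' ∈ U' ∧ Etale (U'.ι ≫ pullback.snd f g)) :
    ∃ U : X.Opens, (pullback.fst f g).base x' ∈ U ∧ Etale (U.ι ≫ f) := by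
  obtain ⟨U', hx', hU'⟩ := h
  have hunr : ((pullback.snd f g).stalkMap x').hom.FormallyUnramified :=
    stalk_of_nhd _ x' U' hx' inferInstance
  have hu : ∃ V : X.Opens, (pullback.fst f g).base x' ∈ V ∧ FormallyUnramified (V.ι ≫ f) :=
    (exists_nhd_iff_stalk f _).mpr (stalk_unramified_descent f g x' hunr)
  have hflat1 : ((pullback.snd f g).stalkMap x').hom.Flat :=
    flat_stalk_of_nhd (pullback.snd f g) x' U' hx'
  have hflat : ((pullback.fst f g ≫ f).stalkMap x').hom.Flat := by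
    have h3 : ∀ (φ ψ : pullback f g ⟶ Y), φ = ψ →
        ((φ.stalkMap x').hom.Flat ↔ (ψ.stalkMap x').hom.Flat) := by
      rintro φ _ rfl; rfl
    rw [h3 _ _ pullback.condition]
    have := RingHom.Flat.comp hg hflat1
    rwa [← CommRingCat.hom_comp, ← Scheme.Hom.stalkMap_comp] at this
  exact (FlatUnramPtH4.main2738 f (pullback.fst f g) x' hu hflat).1

end Groth.Agent.Lib.UnramLocH4
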