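import Mathlib
import Groth.Agent.Lib.UnramDesc_helper4

/-!
# Étale at a prime ⟺ flat + unramified local homomorphism (helper4)
-/

open AlgebraicGeometry CategoryTheory CategoryTheory.Limits TensorProduct

universe u

namespace Groth.Agent.Lib.UnramLocH4

theorem main9560 (A B : Type u) [CommRing A] [CommRing B]
    [Algebra A B] [Algebra.FinitePresentation A B]
    (p : Ideal A) [p.IsPrime] (q : Ideal B) [q.IsPrime] [q.LiesOver p]
    [Algebra (Localization.AtPrime p) (Localization.AtPrime q)]
    [Localization.AtPrime.IsLiesOverAlgebra p q] :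
    Algebra.IsEtaleAt A q ↔
      Module.Flat (Localization.AtPrime p) (Localization.AtPrime q) ∧
        p.map (algebraMap A (Localization.AtPrime q)) =
          IsLocalRing.maximalIdeal (Localization.AtPrime q) ∧
        Module.Finite p.ResidueField q.ResidueField ∧
        Algebra.IsSeparable p.ResidueField q.ResidueField := by
  constructor
  · intro h
    have hu : Algebra.IsUnramifiedAt A q := inferInstance
    obtain ⟨hsep, hmap⟩ := (Algebra.isUnramifiedAt_iff_map_eq A p q).mp hu
    refine ⟨?_, hmap, inferInstance, hsep⟩
    obtain ⟨f, hfq, hf⟩ := Algebra.exists_etale_of_isEtaleAt (R := A) q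
    have hflat : Module.Flat A (Localization.Away f) := inferInstance
    have hunit : IsUnit (algebraMap B (Localization.AtPrime q) f) :=
      IsLocalization.map_units (M := q.primeCompl) _ ⟨f, hfq⟩
    let ψ : Localization.Away f →+* Localization.AtPrime q := IsLocalization.Away.lift f hunit
    letI : Algebra (Localization.Away f) (Localization.AtPrime q) := ψ.toAlgebra
    haveI : IsScalarTower B (Localization.Away f) (Localization.AtPrime q) :=
      .of_algebraMap_eq' (IsLocalization.Away.lift_comp f hunit).symm
    haveI : IsScalarTower A (Localization.Away f) (Localization.AtPrime q) := .to₁₃₄ A B _ _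
    haveI : IsLocalization (Algebra.algebraMapSubmonoid (Localization.Away f) q.primeCompl)
        (Localization.AtPrime q) :=
      IsLocalization.isLocalization_of_submonoid_le _ _ (Submonoid.powers f) q.primeCompl (by
        rintro _ ⟨n, rfl⟩
        exact q.primeCompl.pow_mem hfq n)
    haveI : Module.Flat (Localization.Away f) (Localization.AtPrime q) :=
      IsLocalization.flat _ (Algebra.algebraMapSubmonoid (Localization.Away f) q.primeCompl)
    have : Module.Flat A (Localization.AtPrime q) :=
      Module.Flat.trans A (Localization.Away f) _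
    exact (Module.flat_iff_of_isLocalization (Localization.AtPrime p) p.primeCompl _).mpr this
  · rintro ⟨hflat, hmap, hfin, hsep⟩
    have hu : Algebra.IsUnramifiedAt A q :=
      (Algebra.isUnramifiedAt_iff_map_eq A p q).mpr ⟨hsep, hmap⟩
    have hpq : p = q.comap (algebraMap A B) := Ideal.LiesOver.over
    have hmapeq : algebraMap (Localization.AtPrime p) (Localization.AtPrime q) =
        Localization.localRingHom p q (algebraMap A B) hpq :=
      Localization.AtPrime.IsLiesOverAlgebra.algebraMap_eq
    have h1 : (Localization.localRingHom p q (algebraMap A B) hpq).Flat := by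
      rw [← hmapeq]; exact RingHom.flat_algebraMap_iff.mpr hflat
    have h2 : (Localization.localRingHom p q (algebraMap A B) hpq).FormallyUnramified := by
      rw [← hmapeq, RingHom.formallyUnramified_algebraMap]
      exact .of_restrictScalars A _ _
    have h3 := FlatUnramPtH4.formallySmooth_localRingHom (algebraMap A B)
      (RingHom.finitePresentation_algebraMap.mpr inferInstance) p q hpq h1 h2
    rw [← hmapeq, RingHom.formallySmooth_algebraMap] at h3
    have : Algebra.FormallySmooth A (Localization.AtPrime q) :=
      Algebra.FormallySmooth.comp A (Localization.AtPrime p) _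
    exact Algebra.FormallyEtale.iff_formallyUnramified_and_formallySmooth.mpr ⟨hu, this⟩

theorem main5138 {X X' Y : Scheme.{u}} (f : X ⟶ X') (g : X' ⟶ Y)
    [IsLocallyNoetherian Y] [LocallyOfFiniteType f] [LocallyOfFiniteType g] (x : X)
    (hf : x ∈ sSup {U : X.Opens | Etale (U.ι ≫ f)})
    (hfg : x ∈ sSup {U : X.Opens | Etale (U.ι ≫ f ≫ g)}) :
    f.base x ∈ sSup {U : X'.Opens | Etale (U.ι ≫ g)} := by
  rw [TopologicalSpace.Opens.mem_sSup] at hf hfg ⊢
  obtain ⟨U, hU, hxU⟩ := hf
  obtain ⟨V, hV, hxV⟩ := hfg
  have hU' : Etale (Scheme.Opens.ι (X := X) U ≫ f) := hU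
  have hV' : Etale (Scheme.Opens.ι (X := X) V ≫ f ≫ g) := hV
  have hflat : (f.stalkMap x).hom.Flat := flat_stalk_of_nhd f x U hxU
  obtain ⟨W, hxW, hW⟩ := main2806 g (f ≫ g) f rfl x hflat ⟨V, hxV, hV'⟩
  exact ⟨W, hW, hxW⟩

end Groth.Agent.Lib.UnramLocH4
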