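import Mathlib
import Groth.Prelude.Def_CAlg
import Groth.Agent.Lib.MCMFree_helper5
import Groth.Agent.Lib.IntegralHeight_helper5
import Groth.Agent.Lib.DepthLoc_helper5
import Groth.Agent.Lib.Regular2_helper5
import Groth.Agent.Lib.Regular3_helper5

/-!
# Finite algebras over regular local rings: free iff Cohen–Macaulay and injective (helper5)
-/

set_option autoImplicit false
universe u

namespace Groth.Agent.FiniteFree

open IsLocalRing

/-- A regular local ring has a regular sequence of length `dim` generating the maximal ideal. -/
theorem exists_regular_sop (A : Type u) [CommRing A] [IsRegularLocalRing A] :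
    ∃ l : List A, RingTheory.Sequence.IsRegular A l ∧ Ideal.ofList l = maximalIdeal A ∧
      l.length = (maximalIdeal A).spanFinrank := by
  classical
  obtain ⟨s, hscard, hsspan⟩ := Submodule.FG.exists_span_finset_card_eq_spanFinrank
    (IsNoetherian.noetherian (maximalIdeal A))
  have h1 : Ideal.ofList s.toList = maximalIdeal A := by
    rw [Groth.Agent.RegularLib.ofList_toList]
    exact hsspan
  have h2 : s.toList.length = (maximalIdeal A).spanFinrank := by
    rw [Finset.length_toList, hscard]
  exact ⟨s.toList, Groth.Agent.RegularLib.isRegular_of_ofList_eq A _ h1 h2, h1, h2⟩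

theorem free_iff (A B : Type u) [CommRing A] [CommRing B]
    [IsRegularLocalRing A] [IsLocalRing B] [Algebra A B] [IsLocalHom (algebraMap A B)]
    [Module.Finite A B] :
    Module.Free A B ↔
      LocCoh.IsCohenMacaulayLocalRing B ∧ Function.Injective (algebraMap A B) := by
  haveI : Algebra.IsIntegral A B := Algebra.IsIntegral.of_finite A B
  have hA : ((maximalIdeal A).spanFinrank : WithBot ℕ∞) = ringKrullDim A :=
    IsRegularLocalRing.spanFinrank_maximalIdeal
  constructor
  · intro hfree
    have hinj : Function.Injective (algebraMap A B) := FaithfulSMul.algebraMap_injective A B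
    haveI hBN : IsNoetherianRing B := by
      have : IsNoetherian A B := isNoetherian_of_isNoetherianRing_of_finite A B
      exact isNoetherian_of_tower A this
    refine ⟨⟨?_⟩, hinj⟩
    have hdim := Groth.Agent.IntegralHeight.ringKrullDim_eq_of_isIntegral_of_injective A B hinj
    obtain ⟨l, hreg, hspan, hlen⟩ := exists_regular_sop A
    have hw : RingTheory.Sequence.IsWeaklyRegular B (l.map (algebraMap A B)) :=
      hreg.toIsWeaklyRegular.of_flat
    have hmem : ∀ r ∈ l.map (algebraMap A B), r ∈ maximalIdeal B := by
      intro r hr
      obtain ⟨a, ha, rfl⟩ := List.mem_map.mp hr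
      apply Groth.Agent.DepthLib.algebraMap_mem_maximalIdeal A B
      rw [← hspan]
      exact Ideal.subset_span ha
    have hge : ((maximalIdeal A).spanFinrank : ℕ∞) ≤ LocCoh.depth B B := by
      unfold LocCoh.depth
      rw [Groth.Agent.DepthLib.le_idealDepth_iff]
      exact Or.inr ⟨_, hw, hmem, by rw [List.length_map, hlen]⟩
    have hle := Groth.Agent.DepthLib.depth_le_supportDim B B
    rw [Module.supportDim_self_eq_ringKrullDim] at hle ⊢
    apply le_antisymm _ hle
    rw [hdim, ← hA]
    exact_mod_cast hge
  · rintro ⟨hCM, hinj⟩
    have hdim := Groth.Agent.IntegralHeight.ringKrullDim_eq_of_isIntegral_of_injective A B hinj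
    have hd := Groth.Agent.DepthLib.depth_eq_of_isLocalHom A B B
    have hcm := hCM.supportDim_eq_depth
    rw [Module.supportDim_self_eq_ringKrullDim] at hcm
    apply Groth.Agent.MCMFree.free_of_depth_eq_dim A B
    rw [hd, ← hcm, hdim]

end Groth.Agent.FiniteFree
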