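import Mathlib
import Groth.Agent.Lib.FlatFibre_helper9
import Groth.Agent.Lib.LocalCrit3_helper9

/-!
# Flatness from a regular sequence generating the maximal ideal (helper5)

* `mu_injective_of_isWeaklyRegular`: if `l` is a weakly `M`-regular sequence then
  `(l) ⊗ M → M` is injective (i.e. `Tor₁(A/(l), M) = 0`).
* `flat_of_isWeaklyRegular`: local homomorphism `A → B` of Noetherian local rings, `M` a finite
  `B`-module, `l` generating `m_A` and weakly `M`-regular: then `M` is flat over `A`.
-/

set_option autoImplicit false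
universe u

namespace Groth.Agent.FlatRegSeq

open TensorProduct Groth.Agent.Lib.FlatFibre

section general

variable {R : Type*} [CommRing R] {M : Type*} [AddCommGroup M] [Module R M]

theorem mu_injective_congr {I I' : Ideal R} (h : I = I')
    (hI : Function.Injective (mu I M)) : Function.Injective (mu I' M) := by
  subst h
  exact hI

/-- `a ⊗ μ(η) = ι(a • η)` -/
theorem tmul_mu (J' J : Ideal R) (hJ : J' ≤ J) (a : R) (ha : a ∈ J) (η : J' ⊗[R] M) :
    (⟨a, ha⟩ : J) ⊗ₜ[R] (mu J' M η) = (Submodule.inclusion hJ).rTensor M (a • η) := by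
  induction η using TensorProduct.induction_on with
  | zero => simp
  | tmul j n =>
    rw [mu_tmul, ← TensorProduct.smul_tmul, TensorProduct.smul_tmul', LinearMap.rTensor_tmul]
    congr 1
    apply Subtype.ext
    simp [mul_comm]
  | add x y hx hy =>
    rw [map_add, TensorProduct.tmul_add, hx, hy, smul_add, map_add]

theorem exists_decomp (J' : Ideal R) (a : R) (ξ : (J' ⊔ Ideal.span {a} : Ideal R) ⊗[R] M) :
    ∃ (ξ' : J' ⊗[R] M) (m : M),
      ξ = (Submodule.inclusion (le_sup_left : J' ≤ J' ⊔ Ideal.span {a})).rTensor M ξ' +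
        (⟨a, Ideal.mem_sup_right (Ideal.mem_span_singleton_self a)⟩ :
          (J' ⊔ Ideal.span {a} : Ideal R)) ⊗ₜ[R] m := by
  induction ξ using TensorProduct.induction_on with
  | zero => exact ⟨0, 0, by simp⟩
  | tmul j n =>
    obtain ⟨j, hj⟩ := j
    obtain ⟨j', hj', z, hz, rfl⟩ := Submodule.mem_sup.mp hj
    obtain ⟨r, rfl⟩ := Ideal.mem_span_singleton'.mp hz
    refine ⟨(⟨j', hj'⟩ : J') ⊗ₜ[R] n, r • n, ?_⟩
    rw [LinearMap.rTensor_tmul, TensorProduct.tmul_smul, TensorProduct.smul_tmul',
      ← TensorProduct.add_tmul]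
    congr 1
  | add x y hx hy =>
    obtain ⟨x', m, hx⟩ := hx
    obtain ⟨y', n, hy⟩ := hy
    refine ⟨x' + y', m + n, ?_⟩
    rw [hx, hy, map_add, TensorProduct.tmul_add]
    abel

theorem mu_injective_step (J' : Ideal R) (a : R) (hJ' : Function.Injective (mu J' M))
    (hreg : ∀ m : M, a • m ∈ J' • (⊤ : Submodule R M) → m ∈ J' • (⊤ : Submodule R M)) :
    Function.Injective (mu (J' ⊔ Ideal.span {a}) M) := by
  rw [injective_iff_map_eq_zero]
  intro ξ hξ
  obtain ⟨ξ', m, rfl⟩ := exists_decomp J' a ξ
  rw [map_add, mu_inclusion, mu_tmul] at hξ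
  have ham : a • m ∈ J' • (⊤ : Submodule R M) := by
    have : a • m = - mu J' M ξ' := eq_neg_of_add_eq_zero_right hξ
    rw [this, ← range_mu]
    exact neg_mem (LinearMap.mem_range_self _ _)
  have hm := hreg m ham
  rw [← range_mu] at hm
  obtain ⟨η, rfl⟩ := hm
  rw [tmul_mu J' _ le_sup_left a _ η, ← map_add]
  have hzero : mu J' M (ξ' + a • η) = 0 := by
    rw [map_add, map_smul]
    exact hξ
  rw [hJ' (hzero.trans (map_zero _).symm), map_zero]

theorem mu_injective_of_isWeaklyRegular (l : List R) :
    RingTheory.Sequence.IsWeaklyRegular M l → Function.Injective (mu (Ideal.ofList l) M) := by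
  induction l using List.reverseRecOn with
  | nil =>
    intro _
    have hbot : Ideal.ofList ([] : List R) = ⊥ := Ideal.ofList_nil
    haveI : Subsingleton (Ideal.ofList ([] : List R)) := by
      rw [hbot]
      infer_instance
    exact Function.injective_of_subsingleton _
  | append_singleton l a ih =>
    intro h
    rw [RingTheory.Sequence.isWeaklyRegular_append_iff] at h
    obtain ⟨h1, h2⟩ := h
    have h3 : IsSMulRegular (M ⧸ (Ideal.ofList l • (⊤ : Submodule R M))) a := by
      rw [RingTheory.Sequence.isWeaklyRegular_cons_iff] at h2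
      exact h2.1
    have hreg : ∀ m : M, a • m ∈ Ideal.ofList l • (⊤ : Submodule R M) →
        m ∈ Ideal.ofList l • (⊤ : Submodule R M) := by
      intro m hm
      rw [← Submodule.Quotient.mk_eq_zero] at hm ⊢
      rw [Submodule.Quotient.mk_smul] at hm
      exact h3 (show a • Submodule.Quotient.mk m = a • 0 by rw [hm, smul_zero])
    have key := mu_injective_step (Ideal.ofList l) a (ih h1) hreg
    refine mu_injective_congr ?_ key
    rw [Ideal.ofList_append, Ideal.ofList_singleton]

end general

section local_

open IsLocalRing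

/-- Flatness over `A` of a finite module over a local Noetherian `A`-algebra, from a regular
sequence generating `m_A`. -/
theorem flat_of_isWeaklyRegular {A B : Type u} [CommRing A] [CommRing B] [IsLocalRing A]
    [IsNoetherianRing A] [IsLocalRing B] [IsNoetherianRing B] [Algebra A B]
    [IsLocalHom (algebraMap A B)]
    (M : Type u) [AddCommGroup M] [Module B M] [Module A M] [IsScalarTower A B M]
    [Module.Finite B M] (l : List A) (hl : Ideal.ofList l = maximalIdeal A)
    (hreg : RingTheory.Sequence.IsWeaklyRegular M l) : Module.Flat A M := by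
  have hI : (maximalIdeal A).map (algebraMap A B) ≤ Ideal.jacobson ⊥ := by
    rw [IsLocalRing.jacobson_eq_maximalIdeal ⊥ bot_ne_top]
    exact ((IsLocalRing.local_hom_TFAE (algebraMap A B)).out 0 2 rfl rfl).mp ‹_›
  haveI : Module.Flat (A ⧸ maximalIdeal A) ((A ⧸ maximalIdeal A) ⊗[A] M) := by
    letI : Field (A ⧸ maximalIdeal A) := Ideal.Quotient.field _
    infer_instance
  apply Groth.Agent.Lib.LocalCrit3.flat_of_tor_of_flat_quot (S := B) (maximalIdeal A) hI M
  have h1 := mu_injective_congr hl (mu_injective_of_isWeaklyRegular l hreg)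
  unfold mu at h1
  rw [LinearMap.coe_comp] at h1
  exact Function.Injective.of_comp h1

end local_

end Groth.Agent.FlatRegSeq
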