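import Mathlib
import Groth.Prelude.Def_CAlg
import Groth.Prelude.Def_EGA4b
import Groth.Agent.Lib.FlatRegSeq_helper5
import Groth.Agent.Lib.CM_helper5
import Groth.Agent.Lib.FiniteFree_helper5

/-!
# Miracle flatness (helper5)

A Cohen–Macaulay module over a local algebra over a regular local ring, of the expected dimension,
is flat.
-/

set_option autoImplicit false
universe u

namespace Groth.Agent.MiracleFlat

open IsLocalRing

theorem flat_of_isCM (A B : Type u) [CommRing A] [CommRing B] [IsRegularLocalRing A]
    [IsNoetherianRing B] [IsLocalRing B] [Algebra A B] [IsLocalHom (algebraMap A B)]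
    (M : Type u) [AddCommGroup M] [Module B M] [Module A M] [IsScalarTower A B M]
    [Module.Finite B M]
    (hCM : LocCoh.IsCohenMacaulayModule B M)
    (hdim : Module.supportDim B M = ringKrullDim A + Module.supportDim B (EGA4.FibMod A B M)) :
    Module.Flat A M := by
  obtain ⟨l, hreg, hspan, hlen⟩ := Groth.Agent.FiniteFree.exists_regular_sop A
  have hmem : ∀ x ∈ l.map (algebraMap A B), x ∈ maximalIdeal B := by
    intro r hr
    obtain ⟨a, ha, rfl⟩ := List.mem_map.mp hr
    apply Groth.Agent.DepthLib.algebraMap_mem_maximalIdeal A B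
    rw [← hspan]
    exact Ideal.subset_span ha
  have hxs : Ideal.ofList (l.map (algebraMap A B)) = EGA4.mB A B := by
    rw [← Ideal.map_ofList, hspan]
  have hA : ((maximalIdeal A).spanFinrank : WithBot ℕ∞) = ringKrullDim A :=
    IsRegularLocalRing.spanFinrank_maximalIdeal
  have key := (Groth.Agent.DepthLib.isCM_list (l.map (algebraMap A B)) M hCM hmem).1
  have hw : RingTheory.Sequence.IsWeaklyRegular M (l.map (algebraMap A B)) := by
    rw [key, hxs, List.length_map, hlen, hdim, hA, add_comm]
  have hw' : RingTheory.Sequence.IsWeaklyRegular M l :=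
    (RingTheory.Sequence.isWeaklyRegular_map_algebraMap_iff B M l).mp hw
  exact Groth.Agent.FlatRegSeq.flat_of_isWeaklyRegular (B := B) M l hspan hw'

theorem flat_of_isCMRing {R S : Type u} [CommRing R] [CommRing S] [IsRegularLocalRing R]
    [LocCoh.IsCohenMacaulayLocalRing S] [Algebra R S] [IsLocalHom (algebraMap R S)]
    (hdim : ringKrullDim S = ringKrullDim R +
      ringKrullDim (S ⧸ (IsLocalRing.maximalIdeal R).map (algebraMap R S))) :
    Module.Flat R S := by
  apply flat_of_isCM R S S LocCoh.IsCohenMacaulayLocalRing.supportDim_eq_depth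
  rw [Module.supportDim_self_eq_ringKrullDim, hdim]
  congr 1
  have h1 : (EGA4.mB R S • (⊤ : Submodule S S)) = EGA4.mB R S := by
    rw [smul_eq_mul, Ideal.mul_top]
  change _ = Module.supportDim S (S ⧸ (EGA4.mB R S • (⊤ : Submodule S S)))
  rw [h1, Module.supportDim_quotient_eq_ringKrullDim]

end Groth.Agent.MiracleFlat
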