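import Mathlib
import Groth.Agent.Lib.MiracleFlat_helper5

/-!
# Unramified + regular base + Cohen–Macaulay of the same dimension ⇒ étale (helper9)
-/

set_option autoImplicit false
universe u

namespace Groth.Agent.UnramCMEtale

open IsLocalRing TensorProduct Algebra

attribute [local instance] Algebra.FormallyEtale.of_formallyUnramified_of_field in
theorem isEtaleAt (A B : Type u) [CommRing A] [CommRing B]
    [Algebra A B] [IsNoetherianRing A] [IsNoetherianRing B] [Algebra.FiniteType A B]
    (q : Ideal B) [q.IsPrime]
    (hdim : ringKrullDim (Localization.AtPrime (q.under A)) = ringKrullDim (Localization.AtPrime q))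
    [IsRegularLocalRing (Localization.AtPrime (q.under A))]
    [LocCoh.IsCohenMacaulayLocalRing (Localization.AtPrime q)]
    [Algebra.IsUnramifiedAt A q] : Algebra.IsEtaleAt A q := by
  set p := q.under A with hp
  let Rp := Localization.AtPrime p
  let Sp := Localization (algebraMapSubmonoid B p.primeCompl)
  let Sq := Localization.AtPrime q
  letI := Localization.AtPrime.algebraOfLiesOver p q
  haveI : IsLocalHom (algebraMap Rp Sq) := Localization.isLocalHom_localRingHom _ _ _ _
  haveI : Algebra.FinitePresentation A B := Algebra.FinitePresentation.of_finiteType.mp inferInstance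
  haveI : Algebra.EssFiniteType A Sq := Algebra.EssFiniteType.comp A B Sq
  haveI : Algebra.EssFiniteType Rp Sq := Algebra.EssFiniteType.of_comp A Rp Sq
  haveI : Algebra.FormallyUnramified Rp Sq := inferInstance
  -- flatness by miracle flatness
  haveI : Module.Flat Rp Sq := by
    apply Groth.Agent.MiracleFlat.flat_of_isCMRing
    have hmax : (maximalIdeal Rp).map (algebraMap Rp Sq) = maximalIdeal Sq :=
      Algebra.FormallyUnramified.map_maximalIdeal
    have hfield : IsField (Sq ⧸ (maximalIdeal Rp).map (algebraMap Rp Sq)) :=
      Algebra.FormallyUnramified.isField_quotient_map_maximalIdeal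
    rw [ringKrullDim_eq_zero_of_isField hfield, add_zero]
    exact hdim.symm
  -- formal smoothness, following Mathlib's `IsSmoothAt.of_formallySmooth_fiber`
  let f : Sp →ₐ[B] Sq := IsLocalization.liftAlgHom (M := algebraMapSubmonoid B p.primeCompl)
        (f := Algebra.ofId _ _) (by
      rintro ⟨_, x, hx, rfl⟩
      simpa using! IsLocalization.map_units (M := q.primeCompl) Sq ⟨algebraMap _ _ x,
        by simp_all [q.over_def p]⟩)
  algebraize [f.toRingHom]
  have : IsScalarTower A Sp Sq := .to₁₃₄ _ B _ _
  have : IsScalarTower Rp Sp Sq := .of_algebraMap_eq' <| by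
    apply IsLocalization.ringHom_ext p.primeCompl
    simp only [RingHom.comp_assoc, ← IsScalarTower.algebraMap_eq]
  have : IsLocalization (algebraMapSubmonoid Sp q.primeCompl) Sq :=
    .isLocalization_of_submonoid_le _ _ (algebraMapSubmonoid B p.primeCompl) _
    (by rintro _ ⟨x, hx, rfl⟩; simp_all [q.over_def p])
  have : Algebra.FinitePresentation Rp Sp := by
    have : Algebra.IsPushout A Rp B Sp :=
      .symm <| Algebra.isPushout_of_isLocalization p.primeCompl _ _ _
    exact .equiv (Algebra.IsPushout.equiv A Rp B Sp)
  have : Algebra.FormallySmooth (ResidueField Rp) (ResidueField Rp ⊗[Rp] Sq) := inferInstance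
  have hsm : Algebra.FormallySmooth Rp Sq :=
    Algebra.FormallySmooth.of_formallySmooth_residueField_tensor
      (R := Rp) (S := Sq) (P := Sp) (algebraMapSubmonoid _ q.primeCompl)
  have hsm' : Algebra.FormallySmooth A Sq := .comp A Rp Sq
  exact Algebra.FormallyEtale.iff_formallyUnramified_and_formallySmooth.2 ⟨inferInstance, hsm'⟩

end Groth.Agent.UnramCMEtale
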