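import Mathlib
import Groth.Agent.Lib.UnramCMEtale_helper9
import Groth.Agent.Lib.RegQuot_helper5
import Groth.Agent.Lib.EtStalk_helper8
import Groth.Agent.Lib.DimFT_helper8
import Groth.Agent.Lib.EtaleAt_helper4

/-!
# Étale over a polynomial ring ⟺ dimension `n` and the differentials of the coordinates span
(helper3)
-/

set_option autoImplicit false
universe u

namespace Groth.Agent.Lib.EtaleDiffCritH3

open KaehlerDifferential IsLocalRing

section Diff

variable (k : Type u) [Field k] (n : ℕ) (A : Type u) [CommRing A] [Algebra k A]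
  [Algebra (MvPolynomial (Fin n) k) A] [IsScalarTower k (MvPolynomial (Fin n) k) A]

theorem span_eq_top_of_subsingleton [Subsingleton Ω[A⁄MvPolynomial (Fin n) k]] :
    Submodule.span A (Set.range fun i : Fin n =>
      KaehlerDifferential.D k A (algebraMap (MvPolynomial (Fin n) k) A (MvPolynomial.X i))) = ⊤ := by
  set N := Submodule.span A (Set.range fun i : Fin n =>
      KaehlerDifferential.D k A (algebraMap (MvPolynomial (Fin n) k) A (MvPolynomial.X i))) with hN
  rw [eq_top_iff]
  have h1 : LinearMap.range (mapBaseChange k (MvPolynomial (Fin n) k) A) = ⊤ := by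
    rw [range_mapBaseChange]
    exact LinearMap.ker_eq_top.2 (LinearMap.ext fun x => Subsingleton.elim _ _)
  rw [← h1]
  rintro _ ⟨z, rfl⟩
  induction z using TensorProduct.induction_on with
  | zero => rw [map_zero]; exact N.zero_mem
  | add x y hx hy => rw [map_add]; exact N.add_mem hx hy
  | tmul x y =>
    rw [mapBaseChange_tmul]
    refine N.smul_mem x ?_
    have hy : y ∈ Submodule.span (MvPolynomial (Fin n) k)
        (Set.range fun i : Fin n => KaehlerDifferential.D k (MvPolynomial (Fin n) k)
          (MvPolynomial.X i)) := by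
      have h2 := (mvPolynomialBasis k (Fin n)).span_eq
      have h3 : Set.range (mvPolynomialBasis k (Fin n)) = Set.range fun i : Fin n =>
          KaehlerDifferential.D k (MvPolynomial (Fin n) k) (MvPolynomial.X i) := by
        congr 1
        funext i
        exact mvPolynomialBasis_apply k (Fin n) i
      rw [← h3, h2]
      trivial
    induction hy using Submodule.span_induction with
    | mem y hy =>
      obtain ⟨i, rfl⟩ := hy
      rw [map_D]
      exact Submodule.subset_span ⟨i, rfl⟩
    | zero => rw [map_zero]; exact N.zero_mem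
    | add x y _ _ hx hy => rw [map_add]; exact N.add_mem hx hy
    | smul p y _ hy =>
      rw [map_smul, ← algebraMap_smul A p]
      exact N.smul_mem _ hy

theorem subsingleton_of_span_eq_top
    (h : Submodule.span A (Set.range fun i : Fin n =>
      KaehlerDifferential.D k A (algebraMap (MvPolynomial (Fin n) k) A (MvPolynomial.X i))) = ⊤) :
    Subsingleton Ω[A⁄MvPolynomial (Fin n) k] := by
  have hsurj := KaehlerDifferential.map_surjective k (MvPolynomial (Fin n) k) A
  refine subsingleton_of_forall_eq 0 fun x => ?_
  obtain ⟨w, rfl⟩ := hsurj x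
  have hw : w ∈ Submodule.span A (Set.range fun i : Fin n =>
      KaehlerDifferential.D k A (algebraMap (MvPolynomial (Fin n) k) A (MvPolynomial.X i))) := by
    rw [h]; trivial
  induction hw using Submodule.span_induction with
  | mem y hy =>
    obtain ⟨i, rfl⟩ := hy
    rw [map_D, Algebra.algebraMap_self_apply]
    exact Derivation.map_algebraMap _ _
  | zero => exact map_zero _
  | add x y _ _ hx hy => rw [map_add, hx, hy, add_zero]
  | smul a y _ hy => rw [map_smul, hy, smul_zero]

end Diff

section Max

theorem isMaximal_under (k P A : Type*) [Field k] [CommRing P] [CommRing A] [Algebra k P]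
    [Algebra k A] [Algebra P A] [IsScalarTower k P A] [Algebra.FiniteType k A] (m : Ideal A)
    [hm : m.IsMaximal] : (m.under P).IsMaximal := by
  letI := Ideal.Quotient.field m
  haveI : Module.Finite k (A ⧸ m) := finite_of_finite_type_of_isJacobsonRing k (A ⧸ m)
  let f : P →ₐ[k] A ⧸ m := (Ideal.Quotient.mkₐ k m).comp (IsScalarTower.toAlgHom k P A)
  have hker : m.under P = RingHom.ker f.toRingHom := by
    ext x
    rw [RingHom.mem_ker, Ideal.under, Ideal.mem_comap]
    change _ ↔ Ideal.Quotient.mk m (algebraMap P A x) = 0
    rw [Ideal.Quotient.eq_zero_iff_mem]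
  rw [hker]
  haveI : (RingHom.ker f.toRingHom).IsPrime := RingHom.ker_isPrime f.toRingHom
  haveI : Module.Finite k (P ⧸ RingHom.ker f.toRingHom) :=
    Module.Finite.of_injective (Ideal.kerLiftAlg f).toLinearMap (Ideal.kerLiftAlg_injective f)
  haveI : Algebra.IsIntegral k (P ⧸ RingHom.ker f.toRingHom) := Algebra.IsIntegral.of_finite k _
  exact Ideal.Quotient.maximal_of_isField _
    (isField_of_isIntegral_of_isField' (Field.toIsField k))

end Max

section Crit

variable (k : Type u) [Field k] (n : ℕ) (A : Type u) [CommRing A] [Algebra k A]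
  [Algebra (MvPolynomial (Fin n) k) A] [IsScalarTower k (MvPolynomial (Fin n) k) A]
  [Algebra.FiniteType (MvPolynomial (Fin n) k) A]

theorem ringKrullDim_localization_under (m : Ideal A) [m.IsMaximal]
    [(m.under (MvPolynomial (Fin n) k)).IsMaximal] :
    ringKrullDim (Localization.AtPrime (m.under (MvPolynomial (Fin n) k))) = (n : WithBot ℕ∞) := by
  rw [IsLocalization.AtPrime.ringKrullDim_eq_height (m.under (MvPolynomial (Fin n) k))
    (Localization.AtPrime (m.under (MvPolynomial (Fin n) k))),
    Groth.Agent.DimFTH8.height_of_isMaximal_mvPolynomial k n]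
  rfl

theorem isEtaleAt_of_unramified [Algebra.FormallyUnramified (MvPolynomial (Fin n) k) A]
    (m : Ideal A) [m.IsMaximal] (hdim : ringKrullDim (Localization.AtPrime m) = (n : WithBot ℕ∞)) :
    Algebra.IsEtaleAt (MvPolynomial (Fin n) k) m := by
  haveI : Algebra.FiniteType k A :=
    Algebra.FiniteType.trans (inferInstance : Algebra.FiniteType k (MvPolynomial (Fin n) k))
      inferInstance
  haveI hp : (m.under (MvPolynomial (Fin n) k)).IsMaximal :=
    isMaximal_under k (MvPolynomial (Fin n) k) A m
  haveI : IsNoetherianRing A := Algebra.FiniteType.isNoetherianRing (MvPolynomial (Fin n) k) A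
  haveI : IsRegularRing (MvPolynomial (Fin n) k) := inferInstance
  have hdimP := ringKrullDim_localization_under k n A m
  haveI : Algebra.IsUnramifiedAt (MvPolynomial (Fin n) k) m := inferInstance
  letI := Localization.AtPrime.algebraOfLiesOver (m.under (MvPolynomial (Fin n) k)) m
  have hmax := ((Algebra.isUnramifiedAt_iff_map_eq (MvPolynomial (Fin n) k)
    (m.under (MvPolynomial (Fin n) k)) m).mp inferInstance).2
  have hmax' : (maximalIdeal (Localization.AtPrime (m.under (MvPolynomial (Fin n) k)))).map
      (algebraMap (Localization.AtPrime (m.under (MvPolynomial (Fin n) k)))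
        (Localization.AtPrime m)) = maximalIdeal (Localization.AtPrime m) := by
    rw [← hmax, ← Localization.AtPrime.map_eq_maximalIdeal, Ideal.map_map,
      ← IsScalarTower.algebraMap_eq]
  haveI : IsRegularLocalRing (Localization.AtPrime m) := by
    apply IsRegularLocalRing.of_spanFinrank_maximalIdeal_le
    rw [hdim, ← hmax']
    have h1 := Ideal.spanFinrank_map_le_of_fg
      (algebraMap (Localization.AtPrime (m.under (MvPolynomial (Fin n) k)))
        (Localization.AtPrime m))
      (IsNoetherian.noetherian
        (maximalIdeal (Localization.AtPrime (m.under (MvPolynomial (Fin n) k)))))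
    have h2 : ((maximalIdeal (Localization.AtPrime
        (m.under (MvPolynomial (Fin n) k)))).spanFinrank : WithBot ℕ∞) = (n : WithBot ℕ∞) := by
      rw [IsRegularLocalRing.spanFinrank_maximalIdeal, hdimP]
    have h3 : (maximalIdeal (Localization.AtPrime
        (m.under (MvPolynomial (Fin n) k)))).spanFinrank = n := by
      exact_mod_cast h2
    rw [h3] at h1
    exact_mod_cast h1
  haveI : LocCoh.IsCohenMacaulayLocalRing (Localization.AtPrime m) :=
    ⟨Groth.Agent.RegQuot.isCM_of_regular _⟩
  exact Groth.Agent.UnramCMEtale.isEtaleAt (MvPolynomial (Fin n) k) A m (hdimP.trans hdim.symm)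

theorem ringKrullDim_of_etale [Algebra.Etale (MvPolynomial (Fin n) k) A]
    (m : Ideal A) [m.IsMaximal] : ringKrullDim (Localization.AtPrime m) = (n : WithBot ℕ∞) := by
  haveI : Algebra.FiniteType k A :=
    Algebra.FiniteType.trans (inferInstance : Algebra.FiniteType k (MvPolynomial (Fin n) k))
      inferInstance
  haveI hp : (m.under (MvPolynomial (Fin n) k)).IsMaximal :=
    isMaximal_under k (MvPolynomial (Fin n) k) A m
  haveI : IsNoetherianRing A := Algebra.FiniteType.isNoetherianRing (MvPolynomial (Fin n) k) A
  have hdimP := ringKrullDim_localization_under k n A m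
  letI := Localization.AtPrime.algebraOfLiesOver (m.under (MvPolynomial (Fin n) k)) m
  haveI : Algebra.IsEtaleAt (MvPolynomial (Fin n) k) m := inferInstance
  obtain ⟨hflat, hmax, -, -⟩ := (Groth.Agent.Lib.UnramLocH4.main9560 (MvPolynomial (Fin n) k) A
    (m.under (MvPolynomial (Fin n) k)) m).mp inferInstance
  have hmax' : (maximalIdeal (Localization.AtPrime (m.under (MvPolynomial (Fin n) k)))).map
      (algebraMap (Localization.AtPrime (m.under (MvPolynomial (Fin n) k)))
        (Localization.AtPrime m)) = maximalIdeal (Localization.AtPrime m) := by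
    rw [← hmax, ← Localization.AtPrime.map_eq_maximalIdeal, Ideal.map_map,
      ← IsScalarTower.algebraMap_eq]
  haveI : IsLocalHom (algebraMap (Localization.AtPrime (m.under (MvPolynomial (Fin n) k)))
      (Localization.AtPrime m)) := Localization.isLocalHom_localRingHom _ _ _ _
  rw [Groth.Agent.EtStalk.ringKrullDim_eq_of_flat_of_map_maximalIdeal hmax', hdimP]

theorem etale_of_forall_isMaximal [Algebra.FinitePresentation (MvPolynomial (Fin n) k) A]
    (h : ∀ (m : Ideal A) [m.IsMaximal], Algebra.IsEtaleAt (MvPolynomial (Fin n) k) m) :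
    Algebra.Etale (MvPolynomial (Fin n) k) A := by
  rw [← Algebra.etaleLocus_eq_univ_iff_etale]
  by_contra hne
  have hcl : IsClosed (Algebra.etaleLocus (MvPolynomial (Fin n) k) A)ᶜ :=
    Algebra.isOpen_etaleLocus.isClosed_compl
  obtain ⟨I, hI⟩ := (PrimeSpectrum.isClosed_iff_zeroLocus_ideal _).1 hcl
  have hI' : I ≠ ⊤ := by
    rintro rfl
    rw [PrimeSpectrum.zeroLocus_empty_iff_eq_top.2 rfl] at hI
    exact hne (Set.compl_empty_iff.1 hI)
  obtain ⟨m, hm, hIm⟩ := Ideal.exists_le_maximal I hI'
  have hmem : (⟨m, hm.isPrime⟩ : PrimeSpectrum A) ∈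
      (Algebra.etaleLocus (MvPolynomial (Fin n) k) A)ᶜ := by
    rw [hI]
    exact hIm
  exact hmem (h m)

end Crit

end Groth.Agent.Lib.EtaleDiffCritH3
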