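import Mathlib
import Groth.Agent.Lib.FlatFibre_helper9

/-!
# Fibrewise criterion for regular sequences (Noetherian local case, module version) (helper2)

`R → S` a local homomorphism of local rings with `S` Noetherian, `M` a finite `S`-module flat over
`R`, `l` a list in `S` which is weakly regular on the closed fibre `M / 𝔪_R M`.  Then `l` is weakly
regular on `M` and `M / (l) M` is flat over `R` (`main`).  Iterates helper9's one element criterion.
APPEND-ONLY once landed.
-/

set_option autoImplicit false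
universe u

namespace Groth.Agent.Lib.FibKoszul

open RingTheory.Sequence Pointwise Groth.Agent.Lib.FlatFibre

section swap

variable {S : Type*} [CommRing S] (𝔪 : Ideal S) (f : S) (M : Type*) [AddCommGroup M] [Module S M]

/-- `(M/𝔪M)/f ≃ (M/fM)/𝔪`. -/
noncomputable def quotSwap :
    QuotSMulTop f (M ⧸ (𝔪 • ⊤ : Submodule S M)) ≃ₗ[S]
      (QuotSMulTop f M) ⧸ (𝔪 • ⊤ : Submodule S (QuotSMulTop f M)) :=
  Submodule.quotEquivOfEq _ _ (show (f • ⊤ : Submodule S (M ⧸ (𝔪 • ⊤ : Submodule S M))) =
      (f • ⊤ : Submodule S M).map (𝔪 • ⊤ : Submodule S M).mkQ by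
    rw [Submodule.map_pointwise_smul, Submodule.map_top, Submodule.range_mkQ]) ≪≫ₗ
  Submodule.quotientQuotientEquivQuotientSup (𝔪 • ⊤ : Submodule S M) (f • ⊤ : Submodule S M) ≪≫ₗ
  Submodule.quotEquivOfEq _ _ (sup_comm _ _) ≪≫ₗ
  (Submodule.quotientQuotientEquivQuotientSup (f • ⊤ : Submodule S M)
    (𝔪 • ⊤ : Submodule S M)).symm ≪≫ₗ
  Submodule.quotEquivOfEq _ _ (by
    rw [Submodule.map_smul'', Submodule.map_top, Submodule.range_mkQ])

end swap

section main

variable {R : Type u} [CommRing R] [IsLocalRing R] (S : Type u) [CommRing S] [IsLocalRing S]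
  [IsNoetherianRing S] [Algebra R S] [IsLocalHom (algebraMap R S)]

/-- one element -/
theorem step (M : Type u) [AddCommGroup M] [Module R M] [Module S M] [IsScalarTower R S M]
    [Module.Finite S M] [Module.Flat R M] (f : S)
    (hf : IsSMulRegular (M ⧸ (((IsLocalRing.maximalIdeal R).map (algebraMap R S)) • ⊤ :
      Submodule S M)) f) :
    IsSMulRegular M f ∧ Module.Flat R (QuotSMulTop f M) := by
  let v : M →ₗ[R] M := (LinearMap.lsmul S M f).restrictScalars R
  have hv : ∀ x, v x = f • x := fun x => rfl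
  have h : Function.Injective (v.lTensor (R ⧸ IsLocalRing.maximalIdeal R)) := by
    rw [lTensor_quot_injective_iff]
    intro x hx
    have hx' : f • x ∈ (((IsLocalRing.maximalIdeal R).map (algebraMap R S)) • ⊤ :
        Submodule S M) := smul_top_le_map_smul_top _ _ hx
    have h1 : f • (Submodule.Quotient.mk x : M ⧸ (((IsLocalRing.maximalIdeal R).map
        (algebraMap R S)) • ⊤ : Submodule S M)) = 0 := by
      rw [← Submodule.Quotient.mk_smul, Submodule.Quotient.mk_eq_zero]
      exact hx'
    have h2 : (Submodule.Quotient.mk x : M ⧸ (((IsLocalRing.maximalIdeal R).map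
        (algebraMap R S)) • ⊤ : Submodule S M)) = 0 := hf (by
      show f • _ = f • 0
      rw [h1, smul_zero])
    exact map_smul_top_le_smul_top _ x ((Submodule.Quotient.mk_eq_zero _).mp h2)
  have hinj := injective_of_injective_mod S v h
  have hflat := flat_coker_of_injective_mod S v h
  refine ⟨fun x y hxy => hinj (by rw [hv, hv]; exact hxy), ?_⟩
  have hrange : LinearMap.range v = (f • ⊤ : Submodule S M).restrictScalars R := by
    ext y
    constructor
    · rintro ⟨x, rfl⟩
      show f • x ∈ (f • ⊤ : Submodule S M)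
      exact Submodule.smul_mem_pointwise_smul x f ⊤ trivial
    · intro hy
      obtain ⟨x, -, rfl⟩ := (Submodule.mem_smul_pointwise_iff_exists _ _ _).mp
        (show y ∈ (f • ⊤ : Submodule S M) from hy)
      exact ⟨x, rfl⟩
  let e : (M ⧸ LinearMap.range v) ≃ₗ[R] QuotSMulTop f M :=
    Submodule.quotEquivOfEq _ _ hrange ≪≫ₗ
      Submodule.Quotient.restrictScalarsEquiv R (f • ⊤ : Submodule S M)
  exact Module.Flat.of_linearEquiv e.symm

/-- **Fibrewise criterion for regular sequences**, Noetherian local case, module version. -/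
theorem main (l : List S) : ∀ (M : Type u) [AddCommGroup M] [Module R M] [Module S M]
    [IsScalarTower R S M] [Module.Finite S M] [Module.Flat R M],
    IsWeaklyRegular (M ⧸ (((IsLocalRing.maximalIdeal R).map (algebraMap R S)) • ⊤ :
      Submodule S M)) l →
    IsWeaklyRegular M l ∧ Module.Flat R (M ⧸ (Ideal.ofList l • ⊤ : Submodule S M)) := by
  induction l with
  | nil =>
    intro M _ _ _ _ _ _ _
    refine ⟨IsWeaklyRegular.nil S M, ?_⟩
    have h0 : (Ideal.ofList ([] : List S) • ⊤ : Submodule S M) = ⊥ := by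
      rw [Ideal.ofList_nil, Submodule.bot_smul]
    let e : (M ⧸ (Ideal.ofList ([] : List S) • ⊤ : Submodule S M)) ≃ₗ[R] M :=
      (Submodule.quotEquivOfEqBot _ h0).restrictScalars R
    exact Module.Flat.of_linearEquiv e
  | cons f l ih =>
    intro M _ _ _ _ _ _ hfib
    rw [isWeaklyRegular_cons_iff] at hfib
    obtain ⟨hf, hl⟩ := hfib
    obtain ⟨hreg, hflat⟩ := step S M f hf
    haveI := hflat
    have hl' : IsWeaklyRegular ((QuotSMulTop f M) ⧸
        (((IsLocalRing.maximalIdeal R).map (algebraMap R S)) • ⊤ :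
          Submodule S (QuotSMulTop f M))) l :=
      ((quotSwap ((IsLocalRing.maximalIdeal R).map (algebraMap R S)) f M).isWeaklyRegular_congr
        l).mp hl
    obtain ⟨h1, h2⟩ := ih (QuotSMulTop f M) hl'
    refine ⟨(isWeaklyRegular_cons_iff M f l).mpr ⟨hreg, h1⟩, ?_⟩
    let e : (M ⧸ (Ideal.ofList (f :: l) • ⊤ : Submodule S M)) ≃ₗ[R]
        (QuotSMulTop f M ⧸ (Ideal.ofList l • ⊤ : Submodule S (QuotSMulTop f M))) :=
      (Submodule.quotOfListConsSMulTopEquivQuotSMulTopInner M f l).restrictScalars R
    exact Module.Flat.of_linearEquiv e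

end main

end Groth.Agent.Lib.FibKoszul
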