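import Mathlib
import Groth.Agent.Lib.FibKoszul1_helper2
import Groth.Agent.Lib.FpqcKoszul_helper2
import Groth.Agent.Lib.KoszulDepth2_helper7

/-!
# Local rings of fibres (helper2)

`R → P`, `p` a prime of `R`, `κ = κ(p)`, `Φ = P ⊗_R κ`, `𝔮̄` a prime of `Φ`, `𝔮` its contraction to
`P`.  The canonical map `P_𝔮 → Φ_𝔮̄` is surjective with kernel `p P_𝔮` (`gmap_surjective`,
`ker_gmap`).  For a field extension `κ → K` the map `Φ_𝔮̄ → (P ⊗_R K)_𝔮_K` is flat and local.
Consequence (`weaklyRegular_fibre`): a list in `P` whose image in `(P ⊗_R K)_𝔮_K` is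
Koszul-regular is weakly regular on `P_𝔮 / p P_𝔮`.
APPEND-ONLY once landed.
-/

set_option autoImplicit false
universe u

namespace Groth.Agent.Lib.FibKoszul

open TensorProduct RingTheory.Sequence

section PhiQ

variable {R P : Type u} [CommRing R] [CommRing P] [Algebra R P] (p : Ideal R) [p.IsPrime]
  (𝔮' : Ideal (P ⊗[R] p.ResidueField)) [𝔮'.IsPrime]

/-- contraction to `P` -/
noncomputable abbrev ctr : Ideal P :=
  𝔮'.comap (Algebra.TensorProduct.includeLeftRingHom : P →+* P ⊗[R] p.ResidueField)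

lemma isUnit_algebraMap_of_notMem {r : R} (hr : r ∉ p) :
    IsUnit (algebraMap R (P ⊗[R] p.ResidueField) r) := by
  have h1 : algebraMap R (P ⊗[R] p.ResidueField) r =
      (Algebra.TensorProduct.includeRight : p.ResidueField →ₐ[R] P ⊗[R] p.ResidueField)
        (algebraMap R p.ResidueField r) := by
    rw [AlgHom.commutes]
  rw [h1]
  apply IsUnit.map
  rw [isUnit_iff_ne_zero, ne_eq, Ideal.algebraMap_residueField_eq_zero]
  exact hr

lemma algebraMap_notMem_ctr {r : R} (hr : r ∉ p) : algebraMap R P r ∉ ctr p 𝔮' := by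
  intro h
  have h1 : algebraMap R (P ⊗[R] p.ResidueField) r ∈ 𝔮' := by
    have h2 : (Algebra.TensorProduct.includeLeftRingHom (algebraMap R P r) :
        P ⊗[R] p.ResidueField) ∈ 𝔮' := h
    rwa [Algebra.TensorProduct.includeLeftRingHom_apply,
      ← Algebra.TensorProduct.algebraMap_apply] at h2
  exact (Ideal.IsPrime.ne_top inferInstance)
    (Ideal.eq_top_of_isUnit_mem _ h1 (isUnit_algebraMap_of_notMem p hr))

/-- the canonical map `P_𝔮 → Φ_𝔮̄` -/
noncomputable def gmap : Localization.AtPrime (ctr p 𝔮') →+* Localization.AtPrime 𝔮' :=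
  Localization.localRingHom (ctr p 𝔮') 𝔮' Algebra.TensorProduct.includeLeftRingHom rfl

lemma gmap_algebraMap (x : P) :
    gmap p 𝔮' (algebraMap P _ x) =
      algebraMap _ (Localization.AtPrime 𝔮') (x ⊗ₜ[R] (1 : p.ResidueField)) :=
  Localization.localRingHom_to_map (ctr p 𝔮') 𝔮' Algebra.TensorProduct.includeLeftRingHom rfl x

theorem gmap_surjective : Function.Surjective (gmap p 𝔮') := by
  intro y
  obtain ⟨a, t, rfl⟩ := IsLocalization.exists_mk'_eq 𝔮'.primeCompl y
  obtain ⟨r, hr, s, hs⟩ := Ideal.ResidueField.exists_smul_eq_tmul_one p a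
  obtain ⟨r', hr', s', hs'⟩ := Ideal.ResidueField.exists_smul_eq_tmul_one p
    (t : P ⊗[R] p.ResidueField)
  have hs'q : s' ∉ ctr p 𝔮' := by
    intro h
    have h1 : (s' ⊗ₜ[R] (1 : p.ResidueField)) ∈ 𝔮' := h
    rw [← hs', Algebra.smul_def] at h1
    rcases Ideal.IsPrime.mem_or_mem inferInstance h1 with h2 | h2
    · exact (Ideal.IsPrime.ne_top inferInstance)
        (Ideal.eq_top_of_isUnit_mem _ h2 (isUnit_algebraMap_of_notMem p hr'))
    · exact t.2 h2
  have hden : algebraMap R P r * s' ∉ ctr p 𝔮' := fun h => by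
    rcases Ideal.IsPrime.mem_or_mem inferInstance h with h2 | h2
    · exact algebraMap_notMem_ctr p 𝔮' hr h2
    · exact hs'q h2
  refine ⟨IsLocalization.mk' _ (algebraMap R P r' * s)
    (⟨algebraMap R P r * s', hden⟩ : (ctr p 𝔮').primeCompl), ?_⟩
  unfold gmap
  rw [Localization.localRingHom_mk', IsLocalization.mk'_eq_iff_eq]
  congr 1
  simp only [Algebra.TensorProduct.includeLeftRingHom_apply]
  have e1 : (algebraMap R P r' * s) ⊗ₜ[R] (1 : p.ResidueField) = r' • (r • a) := by
    rw [hs, TensorProduct.smul_tmul', Algebra.smul_def]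
  have e2 : (algebraMap R P r * s') ⊗ₜ[R] (1 : p.ResidueField) =
      r • (r' • (t : P ⊗[R] p.ResidueField)) := by
    rw [hs', TensorProduct.smul_tmul', Algebra.smul_def]
  rw [e1, e2]
  simp only [Algebra.smul_def]
  ring

/-- the retraction `Φ → P_𝔮 / p P_𝔮` -/
noncomputable def rho : P ⊗[R] p.ResidueField →ₐ[R]
    (Localization.AtPrime (ctr p 𝔮') ⧸
      p.map (algebraMap R (Localization.AtPrime (ctr p 𝔮')))) :=
  Algebra.TensorProduct.lift
    ((Ideal.Quotient.mkₐ R _).comp
      (IsScalarTower.toAlgHom R P (Localization.AtPrime (ctr p 𝔮'))))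
    (Ideal.ResidueField.liftₐ p (Algebra.ofId R _)
      (by
        intro a ha
        rw [RingHom.mem_ker]
        show algebraMap R (Localization.AtPrime (ctr p 𝔮') ⧸
          p.map (algebraMap R (Localization.AtPrime (ctr p 𝔮')))) a = 0
        rw [IsScalarTower.algebraMap_apply R (Localization.AtPrime (ctr p 𝔮')),
          Ideal.Quotient.algebraMap_eq, Ideal.Quotient.eq_zero_iff_mem]
        exact Ideal.mem_map_of_mem _ ha)
      (by
        intro r hr
        show IsUnit (algebraMap R (Localization.AtPrime (ctr p 𝔮') ⧸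
          p.map (algebraMap R (Localization.AtPrime (ctr p 𝔮')))) r)
        rw [IsScalarTower.algebraMap_apply R (Localization.AtPrime (ctr p 𝔮')),
          IsScalarTower.algebraMap_apply R P (Localization.AtPrime (ctr p 𝔮'))]
        apply IsUnit.map
        exact IsLocalization.map_units (M := (ctr p 𝔮').primeCompl) _
          ⟨algebraMap R P r, algebraMap_notMem_ctr p 𝔮' hr⟩))
    (fun _ _ => Commute.all _ _)

lemma rho_tmul_one (x : P) :
    rho p 𝔮' (x ⊗ₜ[R] 1) = Ideal.Quotient.mk _ (algebraMap P (Localization.AtPrime (ctr p 𝔮')) x) := by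
  unfold rho
  rw [Algebra.TensorProduct.lift_tmul, map_one, mul_one]
  rfl

lemma isUnit_rho_of_notMem {t : P ⊗[R] p.ResidueField} (ht : t ∉ 𝔮') : IsUnit (rho p 𝔮' t) := by
  obtain ⟨r, hr, s, hs⟩ := Ideal.ResidueField.exists_smul_eq_tmul_one p t
  have hsq : s ∉ ctr p 𝔮' := by
    intro h
    have h1 : (s ⊗ₜ[R] (1 : p.ResidueField)) ∈ 𝔮' := h
    rw [← hs, Algebra.smul_def] at h1
    rcases Ideal.IsPrime.mem_or_mem inferInstance h1 with h2 | h2
    · exact (Ideal.IsPrime.ne_top inferInstance)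
        (Ideal.eq_top_of_isUnit_mem _ h2 (isUnit_algebraMap_of_notMem p hr))
    · exact ht h2
  have h1 : IsUnit (rho p 𝔮' (r • t)) := by
    rw [hs, rho_tmul_one]
    apply IsUnit.map
    exact IsLocalization.map_units (M := (ctr p 𝔮').primeCompl) _ ⟨s, hsq⟩
  rw [Algebra.smul_def, map_mul] at h1
  exact isUnit_of_mul_isUnit_right h1

theorem ker_gmap :
    RingHom.ker (gmap p 𝔮') = p.map (algebraMap R (Localization.AtPrime (ctr p 𝔮'))) := by
  apply le_antisymm
  · intro x hx
    obtain ⟨z, u, rfl⟩ := IsLocalization.exists_mk'_eq (ctr p 𝔮').primeCompl x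
    rw [RingHom.mem_ker] at hx
    unfold gmap at hx
    rw [Localization.localRingHom_mk', IsLocalization.mk'_eq_zero_iff] at hx
    obtain ⟨⟨t, ht⟩, htz⟩ := hx
    have h1 : rho p 𝔮' t * rho p 𝔮' (z ⊗ₜ[R] 1) = 0 := by
      rw [← map_mul]
      have : t * (z ⊗ₜ[R] (1 : p.ResidueField)) = 0 := htz
      rw [this, map_zero]
    have h2 : rho p 𝔮' (z ⊗ₜ[R] 1) = 0 :=
      (isUnit_rho_of_notMem p 𝔮' ht).mul_right_eq_zero.mp h1
    rw [rho_tmul_one, Ideal.Quotient.eq_zero_iff_mem] at h2
    have h3 : IsLocalization.mk' (Localization.AtPrime (ctr p 𝔮')) z u =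
        IsLocalization.mk' (Localization.AtPrime (ctr p 𝔮')) 1 u *
          algebraMap P (Localization.AtPrime (ctr p 𝔮')) z := by
      rw [mul_comm, IsLocalization.mul_mk'_eq_mk'_of_mul, mul_one]
    rw [h3]
    exact Ideal.mul_mem_left _ _ h2
  · rw [Ideal.map_le_iff_le_comap]
    intro a ha
    rw [Ideal.mem_comap, RingHom.mem_ker,
      IsScalarTower.algebraMap_apply R P (Localization.AtPrime (ctr p 𝔮')), gmap_algebraMap]
    have h1 : (algebraMap R P a) ⊗ₜ[R] (1 : p.ResidueField) = 0 := by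
      rw [Algebra.algebraMap_eq_smul_one, TensorProduct.smul_tmul,
        ← Algebra.algebraMap_eq_smul_one,
        (Ideal.algebraMap_residueField_eq_zero).mpr ha, TensorProduct.tmul_zero]
    rw [h1, map_zero]

end PhiQ

section FibreDescent

variable {R P K : Type u} [CommRing R] [CommRing P] [Algebra R P] (p : Ideal R) [p.IsPrime]
  [Field K] [Algebra R K] (j : p.ResidueField →ₐ[R] K)
  (𝔮K : Ideal (P ⊗[R] K)) [𝔮K.IsPrime]

variable (P) in
/-- the map between the fibres over `κ(p)` and over `K` -/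
noncomputable abbrev lam : P ⊗[R] p.ResidueField →ₐ[P] P ⊗[R] K :=
  Algebra.TensorProduct.lTensor (S := P) P j

lemma lam_flat : (lam P p j).toRingHom.Flat := by
  apply RingHom.Flat.lTensor (R := R) (S := P) P (f := j)
  exact RingHom.Flat.of_isField (Field.toIsField _) _

lemma lam_tmul_one (y : P) : lam P p j (y ⊗ₜ[R] 1) = y ⊗ₜ[R] 1 := by
  simp

/-- the prime of the fibre over `κ(p)` under `𝔮K` -/
noncomputable abbrev primeKappa : Ideal (P ⊗[R] p.ResidueField) :=
  𝔮K.comap (lam P p j).toRingHom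

lemma isNoetherianRing_fibre [Algebra.FiniteType R P] :
    IsNoetherianRing (P ⊗[R] p.ResidueField) := by
  haveI : Algebra.FiniteType p.ResidueField (p.ResidueField ⊗[R] P) := inferInstance
  haveI : IsNoetherianRing (p.ResidueField ⊗[R] P) :=
    Algebra.FiniteType.isNoetherianRing p.ResidueField _
  exact isNoetherianRing_of_ringEquiv _
    (Algebra.TensorProduct.comm R p.ResidueField P).toRingEquiv

open Groth.Agent.Lib.KoszulSplit in
/-- **Descent to the fibre over `κ(p)`**: a list in `P` (inside `𝔮`) whose image in the local ring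
of the fibre over `K` at `𝔮K` is Koszul-regular is weakly regular on `P_𝔮 / p P_𝔮`. -/
theorem weaklyRegular_fibre [Algebra.FiniteType R P] (l : List P)
    (hl : ∀ x ∈ l, x ∈ ctr p (primeKappa p j 𝔮K))
    (hreg : LCI.IsKoszulRegularSeq (Localization.AtPrime 𝔮K)
      (l.map (fun y => algebraMap (P ⊗[R] K) (Localization.AtPrime 𝔮K) (y ⊗ₜ[R] 1)))) :
    IsWeaklyRegular
      (Localization.AtPrime (ctr p (primeKappa p j 𝔮K)) ⧸
        ((p.map (algebraMap R (Localization.AtPrime (ctr p (primeKappa p j 𝔮K))))) • ⊤ :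
          Submodule (Localization.AtPrime (ctr p (primeKappa p j 𝔮K)))
            (Localization.AtPrime (ctr p (primeKappa p j 𝔮K)))))
      (l.map (algebraMap P (Localization.AtPrime (ctr p (primeKappa p j 𝔮K))))) := by
  set 𝔮' := primeKappa p j 𝔮K with h𝔮'
  haveI : IsNoetherianRing (P ⊗[R] p.ResidueField) := isNoetherianRing_fibre p
  let χ : Localization.AtPrime 𝔮' →+* Localization.AtPrime 𝔮K :=
    Localization.localRingHom 𝔮' 𝔮K (lam P p j).toRingHom rfl
  have hχflat : χ.Flat := RingHom.Flat.localRingHom (lam_flat (P := P) p j) 𝔮K 𝔮' rfl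
  haveI hχloc : IsLocalHom χ := Localization.isLocalHom_localRingHom 𝔮' 𝔮K _ rfl
  set x : List (Localization.AtPrime 𝔮') :=
    l.map (fun y => algebraMap (P ⊗[R] p.ResidueField) (Localization.AtPrime 𝔮')
      (y ⊗ₜ[R] 1)) with hx
  have hxχ : x.map χ = l.map (fun y => algebraMap (P ⊗[R] K) (Localization.AtPrime 𝔮K)
      (y ⊗ₜ[R] 1)) := by
    rw [hx, List.map_map]
    apply List.map_congr_left
    intro y _
    show χ (algebraMap _ _ (y ⊗ₜ[R] 1)) = _
    rw [Localization.localRingHom_to_map]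
    congr 1
    exact lam_tmul_one p j y
  -- Koszul-regularity descends
  have hK : LCI.IsKoszulRegularSeq (Localization.AtPrime 𝔮') x := by
    intro i hi
    apply Groth.Agent.Lib.FpqcReg.koszul_descent x i
    intro m hm
    refine ⟨Localization.AtPrime 𝔮K, inferInstance, inferInstance, χ, hχflat, ?_, ?_⟩
    · rw [IsLocalRing.eq_maximalIdeal hm]
      intro z hz
      rw [Ideal.mem_comap]
      exact (IsLocalRing.mem_maximalIdeal _).mpr (fun hu =>
        (IsLocalRing.mem_maximalIdeal _).mp hz (hχloc.map_nonunit z hu))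
    · rw [hxχ]
      exact hreg i hi
  -- hence weak regularity
  have hxmem : ∀ z ∈ x, z ∈ IsLocalRing.maximalIdeal (Localization.AtPrime 𝔮') := by
    intro z hz
    rw [hx, List.mem_map] at hz
    obtain ⟨y, hy, rfl⟩ := hz
    rw [IsLocalization.AtPrime.to_map_mem_maximal_iff (Localization.AtPrime 𝔮') 𝔮']
    exact hl y hy
  have hW : IsWeaklyRegular (Localization.AtPrime 𝔮') x := by
    apply Groth.Agent.Lib.KoszulDepth2H7.regular_of_vanishing (Localization.AtPrime 𝔮') x hxmem
    intro i hi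
    exact Groth.Agent.Lib.KoszulTopH7.isZero_homology_of_eq
      (Groth.Agent.Lib.KoszulTopH7.koszul_eq x).symm i (hK i (by omega))
  -- transfer along `gmap`
  letI algST : Algebra (Localization.AtPrime (ctr p 𝔮')) (Localization.AtPrime 𝔮') :=
    (gmap p 𝔮').toAlgebra
  have hxg : x = (l.map (algebraMap P (Localization.AtPrime (ctr p 𝔮')))).map
      (algebraMap (Localization.AtPrime (ctr p 𝔮')) (Localization.AtPrime 𝔮')) := by
    rw [hx, List.map_map]
    apply List.map_congr_left
    intro y _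
    exact (gmap_algebraMap p 𝔮' y).symm
  rw [hxg, isWeaklyRegular_map_algebraMap_iff] at hW
  let glin : Localization.AtPrime (ctr p 𝔮') →ₗ[Localization.AtPrime (ctr p 𝔮')]
      Localization.AtPrime 𝔮' := Algebra.linearMap _ _
  have hsurj : Function.Surjective glin := gmap_surjective p 𝔮'
  have hker : ((p.map (algebraMap R (Localization.AtPrime (ctr p 𝔮')))) • ⊤ :
      Submodule (Localization.AtPrime (ctr p 𝔮')) (Localization.AtPrime (ctr p 𝔮'))) =
      LinearMap.ker glin := by
    rw [smul_eq_mul, Ideal.mul_top, ← ker_gmap p 𝔮']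
    ext z
    rfl
  let e := (Submodule.quotEquivOfEq _ _ hker).trans (glin.quotKerEquivOfSurjective hsurj)
  exact (e.isWeaklyRegular_congr _).mpr hW

end FibreDescent

end Groth.Agent.Lib.FibKoszul
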