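import Mathlib
import Groth.Agent.Lib.KoszulBC_helper2
import Groth.Agent.Lib.KoszulLim2_helper6
import Groth.Agent.Lib.FSNilp_helper3
import Groth.Agent.Lib.LocalCrit9_helper9
import Groth.Agent.Lib.FlatFibre_helper9
import Groth.Agent.Lib.McCoy_helper8

/-!
# Lifting Koszul-regular sequences with flat quotient along nilpotent thickenings (helper2)

`A → B` flat, `J ⊆ A` nilpotent, `rs` a list in `B` whose image in `B/JB` is Koszul-regular with
quotient flat over `A/J`.  Then `rs` is Koszul-regular in `B` and `B/(rs)` is flat over `A`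
(`main_nil`).  Consequences: `S8368_main` (square zero case), `S13972_main` (Artinian local base,
including the uniqueness statement for flat lifts of the ideal).

* `exact_iff_of_ladder_fun`: transport of exactness along bijections, iff form;
* `isZero_homology_iff_exact_rTensor`: cohomology of the Koszul complex on `R ⊗_A N` in terms of
  the Koszul complex of `R` tensored with `N` over `A`;
* `alphaEquiv`: `B ⊗_A M ≃ (B/JB) ⊗_{A/J} M` for `A/J`-modules `M`;
* `isZero_homology_of_torsion`, `isZero_homology_of_pow_torsion`: dévissage;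
* `flat_coker_of_exact`: flatness of a cokernel from universal exactness one step to the left.
-/

set_option autoImplicit false
universe u
open CategoryTheory CategoryTheory.Limits CochainComplex HomComplex
open scoped TensorProduct

namespace Groth.Agent.Lib.KoszulNil

open Groth.Agent.Lib.FlatRes Groth.Agent.Lib.KoszulBC

section Ladder

/-- transport of exactness along bijections, iff form -/
lemma exact_iff_of_ladder_fun {X₁ X₂ X₃ Y₁ Y₂ Y₃ : Type*} [Zero X₃] [Zero Y₃]
    (f : X₁ → X₂) (g : X₂ → X₃) (f' : Y₁ → Y₂) (g' : Y₂ → Y₃)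
    (θ₁ : X₁ ≃ Y₁) (θ₂ : X₂ ≃ Y₂) (θ₃ : X₃ ≃ Y₃) (h0 : θ₃ 0 = 0)
    (c₁ : ∀ x, θ₂ (f x) = f' (θ₁ x)) (c₂ : ∀ x, θ₃ (g x) = g' (θ₂ x)) :
    Function.Exact f g ↔ Function.Exact f' g' := by
  constructor
  · intro H
    refine exact_of_ladder_fun f' g' f g θ₁.symm θ₂.symm θ₃.symm ?_ ?_ ?_ H
    · rw [Equiv.symm_apply_eq, h0]
    · intro y
      rw [Equiv.symm_apply_eq, c₁, Equiv.apply_symm_apply]
    · intro y
      rw [Equiv.symm_apply_eq, c₂, Equiv.apply_symm_apply]
  · exact exact_of_ladder_fun f g f' g' θ₁ θ₂ θ₃ h0 c₁ c₂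

end Ladder

section FlatCoker

/-- If `X₀` is flat, `X₂ → X₁ → X₀` is a complex which is exact in the middle after tensoring with
`A/𝔞` for every ideal `𝔞`, then the cokernel of `X₁ → X₀` is flat. -/
theorem flat_coker_of_exact {A : Type u} [CommRing A] {X2 X1 X0 : Type u}
    [AddCommGroup X2] [Module A X2] [AddCommGroup X1] [Module A X1] [AddCommGroup X0]
    [Module A X0] [Module.Flat A X0]
    (d2 : X2 →ₗ[A] X1) (d1 : X1 →ₗ[A] X0) (hz : d1 ∘ₗ d2 = 0)
    (h : ∀ 𝔞 : Ideal A, Function.Exact (d2.rTensor (A ⧸ 𝔞)) (d1.rTensor (A ⧸ 𝔞))) :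
    Module.Flat A (X0 ⧸ LinearMap.range d1) := by
  have hle : LinearMap.range d2 ≤ LinearMap.ker d1 := by
    rintro _ ⟨x, rfl⟩
    exact LinearMap.congr_fun hz x
  have hfq : ((LinearMap.range d2).liftQ d1 hle) ∘ₗ (LinearMap.range d2).mkQ = d1 :=
    Submodule.liftQ_mkQ _ _ _
  have hqd : (LinearMap.range d2).mkQ ∘ₗ d2 = 0 := by
    apply LinearMap.ext
    intro x
    exact (Submodule.Quotient.mk_eq_zero _).2 ⟨x, rfl⟩
  have hinj : ∀ 𝔞 : Ideal A,
      Function.Injective (((LinearMap.range d2).liftQ d1 hle).lTensor (A ⧸ 𝔞)) := by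
    intro 𝔞
    rw [LinearMap.lTensor_inj_iff_rTensor_inj, injective_iff_map_eq_zero]
    intro z hz0
    obtain ⟨x, rfl⟩ := LinearMap.rTensor_surjective (A ⧸ 𝔞)
      (Submodule.mkQ_surjective (LinearMap.range d2)) z
    have h1 : (d1.rTensor (A ⧸ 𝔞)) x = 0 := by
      rw [← hfq, LinearMap.rTensor_comp, LinearMap.comp_apply]
      exact hz0
    obtain ⟨y, rfl⟩ := (h 𝔞 x).1 h1
    rw [← LinearMap.comp_apply, ← LinearMap.rTensor_comp, hqd, LinearMap.rTensor_zero,
      LinearMap.zero_apply]
  have hfl := Groth.Agent.Lib.McCoyH8.flat_coker ((LinearMap.range d2).liftQ d1 hle) hinj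
  have hr : LinearMap.range ((LinearMap.range d2).liftQ d1 hle) = LinearMap.range d1 :=
    Submodule.range_liftQ _ _ _
  rw [hr] at hfl
  exact hfl

end FlatCoker

section Beta

variable {A R : Type u} [CommRing A] [CommRing R] [Algebra A R]

/-- the Koszul complex of a ring on a list -/
noncomputable abbrev KC (R : Type u) [CommRing R] (l : List R) :
    CochainComplex (ModuleCat.{u} R) ℤ :=
  CohIII.koszulCx (ModuleCat.of R R) l

/-- The cohomology of the Koszul complex of `l` on `M ≃ R ⊗_A N` vanishes in degree `j` iff the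
Koszul complex of `R`, tensored over `A` with `N`, is exact in degree `j`. -/
theorem isZero_homology_iff_exact_rTensor (l : List R)
    [∀ j, Module A ((KC R l).X j)] [∀ j, IsScalarTower A R ((KC R l).X j)]
    (N : Type u) [AddCommGroup N] [Module A N] (M : Type u) [AddCommGroup M] [Module R M]
    (e : M ≃ₗ[R] R ⊗[A] N) (i j k : ℤ) (hij : i + 1 = j) (hjk : j + 1 = k) :
    IsZero ((CohIII.koszulCx (ModuleCat.of R M) l).homology j) ↔
      Function.Exact ((((KC R l).d i j).hom.restrictScalars A).rTensor N)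
        ((((KC R l).d j k).hom.restrictScalars A).rTensor N) := by
  let F := tensR (R := R) M
  let e1 : (F.mapHomologicalComplex (ComplexShape.up ℤ)).obj (KC R l) ≅
      CohIII.koszulCx (F.obj (ModuleCat.of R R)) (l.map id) :=
    Groth.Agent.KoszulFlat9.koszulMapIso F id (fun r X => tensR_map_smul_id M r X)
      (ModuleCat.of R R) l
  let e2 : CohIII.koszulCx (F.obj (ModuleCat.of R R)) (l.map id) ≅
      CohIII.koszulCx (F.obj (ModuleCat.of R R)) l := eqToIso (by rw [List.map_id])
  let e3 : F.obj (ModuleCat.of R R) ≅ ModuleCat.of R M := (TensorProduct.lid R M).toModuleIso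
  let e4 := koszulCxIso e3 l
  have hiso : IsZero ((CohIII.koszulCx (ModuleCat.of R M) l).homology j) ↔
      IsZero (((F.mapHomologicalComplex (ComplexShape.up ℤ)).obj (KC R l)).homology j) :=
    ⟨fun h => IsZero.of_iso h ((HomologicalComplex.homologyFunctor _ _ j).mapIso
        (e1 ≪≫ e2 ≪≫ e4)),
      fun h => IsZero.of_iso h ((HomologicalComplex.homologyFunctor _ _ j).mapIso
        (e1 ≪≫ e2 ≪≫ e4).symm)⟩
  rw [hiso, exact_iff_isZero_homology _ i j k hij hjk]
  show Function.Exact (((KC R l).d i j).hom.rTensor M) (((KC R l).d j k).hom.rTensor M) ↔ _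
  let θ : ∀ a, ((KC R l).X a ⊗[R] M) ≃ₗ[R] ((KC R l).X a ⊗[A] N) := fun a =>
    (LinearEquiv.lTensor ((KC R l).X a) e).trans
      (TensorProduct.AlgebraTensorModule.cancelBaseChange A R R ((KC R l).X a) N)
  have hθ : ∀ (a b : ℤ) (z : (KC R l).X a ⊗[R] M),
      θ b (((KC R l).d a b).hom.rTensor M z) =
        (((KC R l).d a b).hom.restrictScalars A).rTensor N (θ a z) := by
    intro a b z
    induction z using TensorProduct.induction_on with
    | zero => simp
    | add x y hx hy => simp only [map_add, hx, hy]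
    | tmul x m =>
      show TensorProduct.AlgebraTensorModule.cancelBaseChange A R R ((KC R l).X b) N
          ((((KC R l).d a b).hom x) ⊗ₜ[R] e m) =
        (((KC R l).d a b).hom.restrictScalars A).rTensor N
          (TensorProduct.AlgebraTensorModule.cancelBaseChange A R R ((KC R l).X a) N
            (x ⊗ₜ[R] e m))
      generalize e m = w
      induction w using TensorProduct.induction_on with
      | zero => simp
      | add w1 w2 h1 h2 => simp only [TensorProduct.tmul_add, map_add, h1, h2]
      | tmul r c =>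
        rw [TensorProduct.AlgebraTensorModule.cancelBaseChange_tmul,
          TensorProduct.AlgebraTensorModule.cancelBaseChange_tmul, LinearMap.rTensor_tmul]
        show (r • ((KC R l).d a b).hom x) ⊗ₜ[A] c = (((KC R l).d a b).hom (r • x)) ⊗ₜ[A] c
        rw [map_smul]
  exact exact_iff_of_ladder_fun _ _ _ _ (θ i).toEquiv (θ j).toEquiv (θ k).toEquiv
    (show (θ k).toEquiv 0 = 0 from map_zero (θ k)) (hθ _ _) (hθ _ _)

end Beta

section Alpha

variable {A B : Type u} [CommRing A] [CommRing B] [Algebra A B] (J : Ideal A)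
  (M : Type u) [AddCommGroup M] [Module A M] [Module (A ⧸ J) M] [IsScalarTower A (A ⧸ J) M]

/-- `B ⊗_A M ≃ (B/JB) ⊗_{A/J} M`, additively -/
noncomputable def alphaAdd :
    (B ⊗[A] M) ≃+ ((B ⧸ J.map (algebraMap A B)) ⊗[A ⧸ J] M) :=
  (TensorProduct.comm A B M).toAddEquiv.trans
    ((TensorProduct.AlgebraTensorModule.cancelBaseChange A (A ⧸ J) (A ⧸ J) M B).symm.toAddEquiv.trans
      ((TensorProduct.comm (A ⧸ J) M ((A ⧸ J) ⊗[A] B)).toAddEquiv.trans
        (TensorProduct.congr
          (Algebra.TensorProduct.quotIdealMapEquivQuotTensor B J).symm.toLinearEquiv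
          (LinearEquiv.refl (A ⧸ J) M)).toAddEquiv))

lemma alphaAdd_tmul (b : B) (m : M) :
    alphaAdd J M (b ⊗ₜ[A] m) =
      (Ideal.Quotient.mk (J.map (algebraMap A B)) b) ⊗ₜ[A ⧸ J] m := by
  have h : (Algebra.TensorProduct.quotIdealMapEquivQuotTensor B J).symm
      ((1 : A ⧸ J) ⊗ₜ[A] b) = Ideal.Quotient.mk (J.map (algebraMap A B)) b := by
    rw [AlgEquiv.symm_apply_eq]
    rfl
  show ((Algebra.TensorProduct.quotIdealMapEquivQuotTensor B J).symm
      ((1 : A ⧸ J) ⊗ₜ[A] b)) ⊗ₜ[A ⧸ J] m = _
  rw [h]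

/-- `B ⊗_A M ≃ (B/JB) ⊗_{A/J} M`, `B`-linearly -/
noncomputable def alphaEquiv : (B ⊗[A] M) ≃ₗ[B]
    ((ModuleCat.restrictScalars.{u} (Ideal.Quotient.mk (J.map (algebraMap A B)))).obj
      (ModuleCat.of (B ⧸ J.map (algebraMap A B))
        ((B ⧸ J.map (algebraMap A B)) ⊗[A ⧸ J] M))) :=
  { toFun := fun z => alphaAdd J M z
    map_add' := fun x y => map_add (alphaAdd J M) x y
    map_smul' := fun c z => by
      show alphaAdd J M (c • z) =
        (Ideal.Quotient.mk (J.map (algebraMap A B)) c) • (alphaAdd J M z)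
      induction z using TensorProduct.induction_on with
      | zero => rw [smul_zero, map_zero, smul_zero]
      | add x y hx hy => rw [smul_add, map_add, hx, hy, map_add, smul_add]
      | tmul b m =>
        rw [TensorProduct.smul_tmul', alphaAdd_tmul, alphaAdd_tmul, TensorProduct.smul_tmul']
        simp only [smul_eq_mul, map_mul]
    invFun := fun z => (alphaAdd J M).symm z
    left_inv := fun x => (alphaAdd J M).symm_apply_apply x
    right_inv := fun z => (alphaAdd J M).apply_symm_apply z }

end Alpha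

section Main

variable {A B : Type u} [CommRing A] [CommRing B] [Algebra A B] (J : Ideal A)

/-- base case of the dévissage: modules killed by `J` -/
theorem isZero_homology_of_torsion [Module.Flat A B] (rs : List B)
    (hreg : LCI.IsKoszulRegularSeq (B ⧸ J.map (algebraMap A B))
      (rs.map (Ideal.Quotient.mk (J.map (algebraMap A B)))))
    (hflat : Module.Flat (A ⧸ J) ((B ⧸ J.map (algebraMap A B)) ⧸
      Ideal.ofList (rs.map (Ideal.Quotient.mk (J.map (algebraMap A B))))))
    (M : Type u) [AddCommGroup M] [Module A M] [Module (A ⧸ J) M] [IsScalarTower A (A ⧸ J) M]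
    (j : ℤ) (hj : j ≠ 0) :
    IsZero ((CohIII.koszulCx (ModuleCat.of B (B ⊗[A] M)) rs).homology j) := by
  haveI : Module.Flat (A ⧸ J) (B ⧸ J.map (algebraMap A B)) :=
    Groth.Agent.Lib.FSNilpH3.flat_quot J
  have h1 := isZero_homology_koszul_of_tensor (A := A ⧸ J) (R := B ⧸ J.map (algebraMap A B))
    (rs.map (Ideal.Quotient.mk (J.map (algebraMap A B)))) hreg hflat M
    ((B ⧸ J.map (algebraMap A B)) ⊗[A ⧸ J] M) (LinearEquiv.refl _ _) j hj
  have h2 : IsZero ((((ModuleCat.restrictScalars.{u}
      (Ideal.Quotient.mk (J.map (algebraMap A B)))).mapHomologicalComplex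
        (ComplexShape.up ℤ)).obj
      (CohIII.koszulCx (ModuleCat.of (B ⧸ J.map (algebraMap A B))
        ((B ⧸ J.map (algebraMap A B)) ⊗[A ⧸ J] M))
        (rs.map (Ideal.Quotient.mk (J.map (algebraMap A B)))))).homology j) := by
    rw [exact_iff_isZero_homology _ (j - 1) j (j + 1) (by omega) rfl] at h1 ⊢
    exact h1
  exact IsZero.of_iso h2 ((HomologicalComplex.homologyFunctor _ _ j).mapIso
    (koszulCxIso (alphaEquiv J M).toModuleIso rs ≪≫
      (restrictKoszulIso (Ideal.Quotient.mk (J.map (algebraMap A B))) _ rs).symm))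

/-- dévissage: modules killed by a power of `J` -/
theorem isZero_homology_of_pow_torsion [Module.Flat A B] (rs : List B)
    (hreg : LCI.IsKoszulRegularSeq (B ⧸ J.map (algebraMap A B))
      (rs.map (Ideal.Quotient.mk (J.map (algebraMap A B)))))
    (hflat : Module.Flat (A ⧸ J) ((B ⧸ J.map (algebraMap A B)) ⧸
      Ideal.ofList (rs.map (Ideal.Quotient.mk (J.map (algebraMap A B))))))
    (j : ℤ) (hj : j ≠ 0) :
    ∀ (k : ℕ) (M : Type u) [AddCommGroup M] [Module A M],
      (∀ a ∈ J ^ k, ∀ m : M, a • m = 0) →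
      IsZero ((CohIII.koszulCx (ModuleCat.of B (B ⊗[A] M)) rs).homology j) := by
  have base : ∀ (M : Type u) [AddCommGroup M] [Module A M], (∀ a ∈ J, ∀ m : M, a • m = 0) →
      IsZero ((CohIII.koszulCx (ModuleCat.of B (B ⊗[A] M)) rs).homology j) := by
    intro M _ _ hM
    have hM' : Module.IsTorsionBySet A M (J : Set A) := by
      intro m a
      exact hM a.1 a.2 m
    letI : Module (A ⧸ J) M := hM'.module
    haveI : IsScalarTower A (A ⧸ J) M := ⟨fun a b m => by
      obtain ⟨c, rfl⟩ := Ideal.Quotient.mk_surjective b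
      have h1 : a • (Ideal.Quotient.mk J c) = Ideal.Quotient.mk J (a * c) := by
        rw [Algebra.smul_def]
        rfl
      rw [h1]
      show Ideal.Quotient.mk J (a * c) • m = a • (Ideal.Quotient.mk J c • m)
      rw [Module.IsTorsionBySet.mk_smul hM', Module.IsTorsionBySet.mk_smul hM', mul_smul]⟩
    exact isZero_homology_of_torsion J rs hreg hflat M j hj
  intro k
  induction k with
  | zero =>
    intro M _ _ hM
    apply base
    intro a _ m
    have h0 : m = 0 := by
      have := hM 1 (by rw [pow_zero, Ideal.one_eq_top]; exact Submodule.mem_top) m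
      rwa [one_smul] at this
    rw [h0, smul_zero]
  | succ k ih =>
    intro M _ _ hM
    have h' : ∀ a ∈ J ^ k, ∀ m : (J • (⊤ : Submodule A M) : Submodule A M), a • m = 0 := by
      intro a ha m
      apply Subtype.ext
      show a • (m : M) = 0
      have hall : ∀ x ∈ J • (⊤ : Submodule A M), a • x = 0 := by
        intro x hx
        refine Submodule.smul_induction_on hx ?_ ?_
        · intro b hb y _
          rw [← mul_smul]
          exact hM (a * b) (by rw [pow_succ]; exact Ideal.mul_mem_mul ha hb) y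
        · intro x y hx hy
          rw [smul_add, hx, hy, add_zero]
      exact hall m.1 m.2
    have h'' : ∀ a ∈ J, ∀ m : M ⧸ (J • (⊤ : Submodule A M) : Submodule A M), a • m = 0 := by
      intro a ha m
      obtain ⟨m, rfl⟩ := Submodule.Quotient.mk_surjective _ m
      rw [← Submodule.Quotient.mk_smul, Submodule.Quotient.mk_eq_zero]
      exact Submodule.smul_mem_smul ha Submodule.mem_top
    have z' := ih (J • (⊤ : Submodule A M) : Submodule A M) h'
    have z'' := base (M ⧸ (J • (⊤ : Submodule A M) : Submodule A M)) h''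
    let S : ShortComplex (ModuleCat.{u} B) := ShortComplex.mk
      (ModuleCat.ofHom (LinearMap.baseChange B (J • (⊤ : Submodule A M)).subtype))
      (ModuleCat.ofHom (LinearMap.baseChange B (J • (⊤ : Submodule A M)).mkQ)) (by
        apply ModuleCat.hom_ext
        rw [ModuleCat.hom_comp, ModuleCat.hom_ofHom, ModuleCat.hom_ofHom,
          ← LinearMap.baseChange_comp]
        have h0 : (J • (⊤ : Submodule A M)).mkQ ∘ₗ (J • (⊤ : Submodule A M)).subtype = 0 := by
          apply LinearMap.ext
          intro x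
          exact (Submodule.Quotient.mk_eq_zero _).2 x.2
        rw [h0, LinearMap.baseChange_zero]
        rfl)
    have hS : S.ShortExact := by
      have hex : S.Exact := by
        rw [ShortComplex.ShortExact.moduleCat_exact_iff_function_exact]
        exact lTensor_exact B (LinearMap.exact_subtype_mkQ (J • (⊤ : Submodule A M)))
          (Submodule.mkQ_surjective _)
      have hmono : Mono S.f := by
        rw [ModuleCat.mono_iff_injective]
        exact Module.Flat.lTensor_preserves_injective_linearMap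
          (J • (⊤ : Submodule A M)).subtype (Submodule.injective_subtype _)
      have hepi : Epi S.g := by
        rw [ModuleCat.epi_iff_surjective]
        exact LinearMap.lTensor_surjective B (Submodule.mkQ_surjective _)
      exact ShortComplex.ShortExact.mk' hex hmono hepi
    have hSE := Groth.Agent.Lib.KoszulLim2_helper6.kSC_shortExact S hS rs
    exact (hSE.homology_exact₂ j).isZero_of_both_isZero z' z''

/-- **Nilpotent lifting of Koszul-regular sequences with flat quotient.** -/
theorem main_nil [Module.Flat A B] (N : ℕ) (hJ : J ^ N = ⊥) (rs : List B)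
    (hreg : LCI.IsKoszulRegularSeq (B ⧸ J.map (algebraMap A B))
      (rs.map (Ideal.Quotient.mk (J.map (algebraMap A B)))))
    (hflat : Module.Flat (A ⧸ J) ((B ⧸ J.map (algebraMap A B)) ⧸
      Ideal.ofList (rs.map (Ideal.Quotient.mk (J.map (algebraMap A B)))))) :
    LCI.IsKoszulRegularSeq B rs ∧ Module.Flat A (B ⧸ Ideal.ofList rs) := by
  have P : ∀ (M : Type u) [AddCommGroup M] [Module A M] (j : ℤ), j ≠ 0 →
      IsZero ((CohIII.koszulCx (ModuleCat.of B (B ⊗[A] M)) rs).homology j) := by
    intro M _ _ j hj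
    refine isZero_homology_of_pow_torsion J rs hreg hflat j hj N M ?_
    intro a ha m
    rw [hJ] at ha
    rw [(Submodule.mem_bot A).1 ha, zero_smul]
  have hK : ∀ j : ℤ, j ≠ 0 → IsZero ((KC B rs).homology j) := by
    intro j hj
    exact IsZero.of_iso (P A j hj) ((HomologicalComplex.homologyFunctor _ _ j).mapIso
      (koszulCxIso (TensorProduct.AlgebraTensorModule.rid A B B).toModuleIso rs).symm)
  refine ⟨fun i hi => Groth.Agent.Lib.KoszulTopH7.isZero_homology_of_eq
    (Groth.Agent.Lib.KoszulTopH7.koszul_eq rs) i (hK i hi), ?_⟩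
  letI modA : ∀ j, Module A ((KC B rs).X j) := fun j =>
    Module.compHom ((KC B rs).X j) (algebraMap A B)
  haveI tow : ∀ j, IsScalarTower A B ((KC B rs).X j) := fun j => ⟨fun a r x => by
    show (a • r) • x = algebraMap A B a • (r • x)
    rw [Algebra.smul_def, mul_smul]⟩
  haveI proj : ∀ j, Module.Projective B ((KC B rs).X j) := fun j =>
    projective_X (ModuleCat.of B B) rs j
  haveI flatA : ∀ j, Module.Flat A ((KC B rs).X j) := fun j =>
    Module.Flat.trans A B ((KC B rs).X j)
  have hex : ∀ 𝔞 : Ideal A, Function.Exact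
      ((((KC B rs).d (-2) (-1)).hom.restrictScalars A).rTensor (A ⧸ 𝔞))
      ((((KC B rs).d (-1) 0).hom.restrictScalars A).rTensor (A ⧸ 𝔞)) := by
    intro 𝔞
    exact (isZero_homology_iff_exact_rTensor (A := A) rs (A ⧸ 𝔞) (B ⊗[A] (A ⧸ 𝔞))
      (LinearEquiv.refl _ _) (-2) (-1) 0 (by norm_num) (by norm_num)).1
        (P (A ⧸ 𝔞) (-1) (by norm_num))
  have hcomp : (((KC B rs).d (-1) 0).hom.restrictScalars A) ∘ₗ
      (((KC B rs).d (-2) (-1)).hom.restrictScalars A) = 0 := by
    apply LinearMap.ext
    intro x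
    show ((KC B rs).d (-1) 0).hom (((KC B rs).d (-2) (-1)).hom x) = 0
    rw [← LinearMap.comp_apply, ← ModuleCat.hom_comp, HomologicalComplex.d_comp_d,
      ModuleCat.hom_zero, LinearMap.zero_apply]
  haveI hfl : Module.Flat A ((KC B rs).X 0 ⧸
      LinearMap.range (((KC B rs).d (-1) 0).hom.restrictScalars A)) :=
    flat_coker_of_exact _ _ hcomp hex
  obtain ⟨ε, hε⟩ := (Groth.Agent.Lib.KoszulTopH7.topData (ModuleCat.of B B) rs).exists_equiv
  let ε' : (KC B rs).X 0 ≃ₗ[B] B := ε
  have hε' : Submodule.map ε'.toLinearMap (LinearMap.range ((KC B rs).d (-1) 0).hom) =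
      Ideal.ofList rs := by
    have h1 : (Ideal.ofList rs • (⊤ : Submodule B B)) = Ideal.ofList rs := by
      rw [smul_eq_mul, Ideal.mul_top]
    rw [← h1]
    exact hε
  let εA : (KC B rs).X 0 ≃ₗ[A] B := ε'.restrictScalars A
  have hmap : Submodule.map εA.toLinearMap
      (LinearMap.range (((KC B rs).d (-1) 0).hom.restrictScalars A)) =
      (Ideal.ofList rs).restrictScalars A := by
    ext x
    rw [Submodule.restrictScalars_mem, ← hε']
    rfl
  have e5 : ((KC B rs).X 0 ⧸ LinearMap.range (((KC B rs).d (-1) 0).hom.restrictScalars A))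
      ≃ₗ[A] (B ⧸ Ideal.ofList rs) :=
    (Submodule.Quotient.equiv _ _ εA hmap).trans
      (Submodule.Quotient.restrictScalarsEquiv A (Ideal.ofList rs))
  exact Module.Flat.of_linearEquiv e5.symm

end Main

end Groth.Agent.Lib.KoszulNil
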