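import Mathlib
import Groth.Agent.Lib.KoszulNil_helper2

/-!
# Nilpotent lifting of Koszul-regular sequences: the statements S8368 and S13972 (helper2)
-/

set_option autoImplicit false
universe u
open scoped TensorProduct

namespace Groth.Agent.Lib.KoszulNil

theorem S8368_main (A B : Type u) [CommRing A] [CommRing B] [Algebra A B]
    [Module.Flat A B] (J : Ideal A) (hJ : J * J = ⊥) (rs : List B)
    (hreg : LCI.IsKoszulRegularSeq (B ⧸ Ideal.map (algebraMap A B) J)
      (rs.map (Ideal.Quotient.mk (Ideal.map (algebraMap A B) J))))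
    (hflat : Module.Flat (A ⧸ J) ((B ⧸ Ideal.map (algebraMap A B) J) ⧸
      Ideal.ofList (rs.map (Ideal.Quotient.mk (Ideal.map (algebraMap A B) J))))) :
    LCI.IsKoszulRegularSeq B rs ∧ Module.Flat A (B ⧸ Ideal.ofList rs) :=
  main_nil J 2 (by rw [pow_two]; exact hJ) rs hreg hflat

lemma ofList_ofFn {S : Type u} [CommRing S] {r : ℕ} (g : Fin r → S) :
    Ideal.ofList (List.ofFn g) = Ideal.span (Set.range g) := by
  show Ideal.span {x | x ∈ List.ofFn g} = _
  congr 1
  ext x
  simp [List.mem_ofFn]

/-- a flat quotient `R'/J'` of a flat algebra: `J' ∩ I R' = I J'` -/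
lemma mem_mul_of_flat_quot {A' R' : Type u} [CommRing A'] [CommRing R'] [Algebra A' R']
    (I : Ideal A') (J' : Ideal R') [Module.Flat A' (R' ⧸ J')] (z : R') (hzJ : z ∈ J')
    (hzi : z ∈ I.map (algebraMap A' R')) : z ∈ I.map (algebraMap A' R') * J' := by
  have hv : Function.Injective (J'.restrictScalars A').subtype := Submodule.injective_subtype _
  haveI : Module.Flat A' (R' ⧸ LinearMap.range (J'.restrictScalars A').subtype) := by
    have hr : LinearMap.range (J'.restrictScalars A').subtype = J'.restrictScalars A' :=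
      Submodule.range_subtype _
    rw [hr]
    exact Module.Flat.of_linearEquiv (Submodule.Quotient.restrictScalarsEquiv A' J')
  have hinj := Groth.Agent.Lib.LocalCrit9.lTensor_injective_of_flat_coker
    (J'.restrictScalars A').subtype hv (A' ⧸ I)
  rw [Groth.Agent.Lib.FlatFibre.lTensor_quot_injective_iff] at hinj
  have h1 : (J'.restrictScalars A').subtype ⟨z, hzJ⟩ ∈ I • (⊤ : Submodule A' R') := by
    show z ∈ I • (⊤ : Submodule A' R')
    rw [Ideal.smul_top_eq_map, Submodule.restrictScalars_mem]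
    exact hzi
  have h2 := hinj ⟨z, hzJ⟩ h1
  have h3 : ∀ w ∈ I • (⊤ : Submodule A' (J'.restrictScalars A')),
      (w : R') ∈ I.map (algebraMap A' R') * J' := by
    intro w hw
    refine Submodule.smul_induction_on hw ?_ ?_
    · intro a ha y _
      show ((a • y : J'.restrictScalars A') : R') ∈ I.map (algebraMap A' R') * J'
      rw [Submodule.coe_smul, Algebra.smul_def]
      exact Ideal.mul_mem_mul (Ideal.mem_map_of_mem _ ha)
        ((Submodule.restrictScalars_mem A' J' _).1 y.2)
    · intro x y hx hy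
      rw [Submodule.coe_add]
      exact Ideal.add_mem _ hx hy
  exact h3 _ h2

theorem S13972_main
    {A' : Type u} [CommRing A'] [IsLocalRing A'] [IsArtinianRing A'] (I : Ideal A') (hI : I ≠ ⊤)
    {R' : Type u} [CommRing R'] [Algebra A' R'] [IsNoetherianRing R'] [Module.Flat A' R']
    (r : ℕ) (f : Fin r → R' ⧸ I.map (algebraMap A' R'))
    (hf : LCI.IsKoszulRegularSeq (R' ⧸ I.map (algebraMap A' R')) (List.ofFn f))
    [hfl : Module.Flat (A' ⧸ I)
      ((R' ⧸ I.map (algebraMap A' R')) ⧸ Ideal.span (Set.range f))] :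
    (∀ f' : Fin r → R', (∀ i, Ideal.Quotient.mk (I.map (algebraMap A' R')) (f' i) = f i) →
        Module.Flat A' (R' ⧸ Ideal.span (Set.range f')) ∧
          LCI.IsKoszulRegularSeq R' (List.ofFn f')) ∧
    (∀ (J' : Ideal R'), Module.Flat A' (R' ⧸ J') →
        J'.map (Ideal.Quotient.mk (I.map (algebraMap A' R'))) = Ideal.span (Set.range f) →
        ∀ f' : Fin r → R', (∀ i, f' i ∈ J') →
          (∀ i, Ideal.Quotient.mk (I.map (algebraMap A' R')) (f' i) = f i) →
          J' = Ideal.span (Set.range f')) := by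
  obtain ⟨N, hN⟩ : ∃ N : ℕ, I ^ N = ⊥ := by
    have hle : I ≤ IsLocalRing.maximalIdeal A' := IsLocalRing.le_maximalIdeal hI
    obtain ⟨n, hn⟩ := IsArtinianRing.isNilpotent_jacobson_bot (R := A')
    rw [IsLocalRing.jacobson_eq_maximalIdeal ⊥ bot_ne_top, Ideal.zero_eq_bot] at hn
    exact ⟨n, le_bot_iff.1 (hn ▸ Ideal.pow_right_mono hle n)⟩
  have part1 : ∀ f' : Fin r → R',
      (∀ i, Ideal.Quotient.mk (I.map (algebraMap A' R')) (f' i) = f i) →
        Module.Flat A' (R' ⧸ Ideal.span (Set.range f')) ∧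
          LCI.IsKoszulRegularSeq R' (List.ofFn f') := by
    intro f' hf'
    have hmap : (List.ofFn f').map (Ideal.Quotient.mk (I.map (algebraMap A' R'))) =
        List.ofFn f := by
      rw [List.map_ofFn]
      congr 1
      funext i
      exact hf' i
    have hreg' : LCI.IsKoszulRegularSeq (R' ⧸ I.map (algebraMap A' R'))
        ((List.ofFn f').map (Ideal.Quotient.mk (I.map (algebraMap A' R')))) := by
      rw [hmap]
      exact hf
    have hflat' : Module.Flat (A' ⧸ I) ((R' ⧸ I.map (algebraMap A' R')) ⧸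
        Ideal.ofList ((List.ofFn f').map (Ideal.Quotient.mk (I.map (algebraMap A' R'))))) := by
      rw [hmap, ofList_ofFn]
      exact hfl
    obtain ⟨h1, h2⟩ := main_nil I N hN (List.ofFn f') hreg' hflat'
    refine ⟨?_, h1⟩
    rw [← ofList_ofFn]
    exact h2
  refine ⟨part1, ?_⟩
  intro J' hJ'flat hJ'map f' hmem hf'
  haveI := hJ'flat
  haveI : Module.Flat A' (R' ⧸ Ideal.span (Set.range f')) := (part1 f' hf').1
  have hle : Ideal.span (Set.range f') ≤ J' := by
    rw [Ideal.span_le]
    rintro _ ⟨i, rfl⟩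
    exact hmem i
  have hJ0map : (Ideal.span (Set.range f')).map
      (Ideal.Quotient.mk (I.map (algebraMap A' R'))) = Ideal.span (Set.range f) := by
    rw [Ideal.map_span]
    congr 1
    ext y
    constructor
    · rintro ⟨_, ⟨i, rfl⟩, rfl⟩
      exact ⟨i, (hf' i).symm⟩
    · rintro ⟨i, rfl⟩
      exact ⟨f' i, ⟨i, rfl⟩, hf' i⟩
  have hstar : J' ≤ Ideal.span (Set.range f') ⊔ I.map (algebraMap A' R') * J' := by
    intro x hx
    have hx1 : Ideal.Quotient.mk (I.map (algebraMap A' R')) x ∈
        J'.map (Ideal.Quotient.mk (I.map (algebraMap A' R'))) := Ideal.mem_map_of_mem _ hx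
    rw [hJ'map, ← hJ0map] at hx1
    obtain ⟨y, hy, hxy⟩ := (Ideal.mem_map_iff_of_surjective
      (Ideal.Quotient.mk (I.map (algebraMap A' R'))) Ideal.Quotient.mk_surjective).1 hx1
    have hz : x - y ∈ I.map (algebraMap A' R') := Ideal.Quotient.eq.1 hxy.symm
    have hzJ : x - y ∈ J' := J'.sub_mem hx (hle hy)
    have hzz : x - y ∈ I.map (algebraMap A' R') * J' :=
      mem_mul_of_flat_quot I J' (x - y) hzJ hz
    have hxe : x = y + (x - y) := by ring
    rw [hxe]
    exact Submodule.add_mem_sup hy hzz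
  have hpow : ∀ n : ℕ,
      J' ≤ Ideal.span (Set.range f') ⊔ (I.map (algebraMap A' R')) ^ n * J' := by
    intro n
    induction n with
    | zero =>
      rw [pow_zero, one_mul]
      exact le_sup_right
    | succ n ih =>
      refine ih.trans (sup_le le_sup_left ?_)
      calc (I.map (algebraMap A' R')) ^ n * J'
          ≤ (I.map (algebraMap A' R')) ^ n *
              (Ideal.span (Set.range f') ⊔ I.map (algebraMap A' R') * J') :=
            Ideal.mul_mono_right hstar
        _ = (I.map (algebraMap A' R')) ^ n * Ideal.span (Set.range f') ⊔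
              (I.map (algebraMap A' R')) ^ n * (I.map (algebraMap A' R') * J') :=
            Ideal.mul_sup _ _ _
        _ ≤ Ideal.span (Set.range f') ⊔ (I.map (algebraMap A' R')) ^ (n + 1) * J' :=
            sup_le_sup Ideal.mul_le_right (le_of_eq (by rw [← mul_assoc, ← pow_succ]))
  have hiN : (I.map (algebraMap A' R')) ^ N = ⊥ := by
    rw [← Ideal.map_pow, hN, Ideal.map_bot]
  refine le_antisymm ?_ hle
  have hfin := hpow N
  rw [hiN, Ideal.bot_mul, sup_bot_eq] at hfin
  exact hfin

end Groth.Agent.Lib.KoszulNil
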