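import Mathlib
import Groth.Prelude.Def_EGA4b

/-!
# Projective dimension and reduction to the closed fibre (helper7)

For a flat local homomorphism `A → B` of noetherian local rings and a finite `B`-module `N`
flat over `A`: `pd_B N = pd_{B/m_A B} (N / m_A N)`.
-/

set_option autoImplicit false
set_option backward.isDefEq.respectTransparency false
universe u
open CategoryTheory Limits TensorProduct

namespace Groth.Agent.Lib.FibPDH7

section General

variable {B : Type u} [CommRing B] (I : Ideal B)

theorem smul_top_le_comap {M M' : Type u} [AddCommGroup M] [Module B M] [AddCommGroup M']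
    [Module B M'] (g : M →ₗ[B] M') :
    I • (⊤ : Submodule B M) ≤ (I • (⊤ : Submodule B M')).comap g := by
  rw [← Submodule.map_le_iff_le_comap, Submodule.map_smul'']
  exact smul_mono_right _ le_top

theorem mk_smul {M : Type u} [AddCommGroup M] [Module B M] (c : B)
    (y : M ⧸ (I • (⊤ : Submodule B M))) : (Ideal.Quotient.mk I c) • y = c • y := by
  obtain ⟨y, rfl⟩ := Submodule.Quotient.mk_surjective _ y
  rfl

/-- `B ⧸ I`-linear reduction of a `B`-linear map -/
noncomputable def red {M M' : Type u} [AddCommGroup M] [Module B M] [AddCommGroup M'] [Module B M']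
    (g : M →ₗ[B] M') :
    (M ⧸ (I • (⊤ : Submodule B M))) →ₗ[B ⧸ I] (M' ⧸ (I • (⊤ : Submodule B M'))) where
  toFun := Submodule.mapQ _ _ g (smul_top_le_comap I g)
  map_add' := map_add _
  map_smul' := by
    intro c x
    obtain ⟨c, rfl⟩ := Ideal.Quotient.mk_surjective c
    simp only [RingHom.id_apply]
    rw [mk_smul, mk_smul, map_smul]

theorem red_mk {M M' : Type u} [AddCommGroup M] [Module B M] [AddCommGroup M'] [Module B M']
    (g : M →ₗ[B] M') (x : M) :
    red I g (Submodule.Quotient.mk x) = Submodule.Quotient.mk (g x) := rfl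

theorem projective_red (F : Type u) [AddCommGroup F] [Module B F] [Module.Projective B F] :
    Module.Projective (B ⧸ I) (F ⧸ (I • (⊤ : Submodule B F))) := by
  let e := TensorProduct.quotTensorEquivQuotSMul F I
  have h1 : ∀ (c : B) (x : (B ⧸ I) ⊗[B] F), (Ideal.Quotient.mk I c) • x = c • x := by
    intro c x
    rw [← Ideal.Quotient.algebraMap_eq, algebraMap_smul]
  let e' : ((B ⧸ I) ⊗[B] F) ≃ₗ[B ⧸ I] (F ⧸ (I • (⊤ : Submodule B F))) :=
    { toFun := e
      invFun := e.symm
      left_inv := e.left_inv
      right_inv := e.right_inv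
      map_add' := e.map_add
      map_smul' := by
        intro c x
        obtain ⟨c, rfl⟩ := Ideal.Quotient.mk_surjective c
        simp only [RingHom.id_apply]
        rw [h1, mk_smul, e.map_smul] }
  exact Module.Projective.of_equiv e'

theorem subsingleton_of_red [IsLocalRing B] (hI : I ≤ IsLocalRing.maximalIdeal B) (N : Type u)
    [AddCommGroup N] [Module B N] [Module.Finite B N]
    (h : Subsingleton (N ⧸ (I • (⊤ : Submodule B N)))) : Subsingleton N := by
  have h1 : (I • (⊤ : Submodule B N)) = ⊤ := Submodule.Quotient.subsingleton_iff.mp h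
  have h2 : (⊤ : Submodule B N) = ⊥ :=
    Submodule.eq_bot_of_le_smul_of_le_jacobson_bot I ⊤ Module.Finite.fg_top h1.ge
      (by rw [IsLocalRing.jacobson_eq_maximalIdeal ⊥ bot_ne_top]; exact hI)
  refine ⟨fun x y => ?_⟩
  have hx : x ∈ (⊤ : Submodule B N) := trivial
  have hy : y ∈ (⊤ : Submodule B N) := trivial
  rw [h2, Submodule.mem_bot] at hx hy
  rw [hx, hy]

end General

section Flat

theorem flat_of_exact {A : Type u} [CommRing A] {K F N : Type u} [AddCommGroup K] [Module A K]
    [AddCommGroup F] [Module A F] [AddCommGroup N] [Module A N] [Module.Flat A F]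
    [Module.Flat A N] (i : K →ₗ[A] F) (f : F →ₗ[A] N) (hi : Function.Injective i)
    (hf : Function.Surjective f) (hex : Function.Exact i f) : Module.Flat A K := by
  rw [Module.Flat.iff_rTensor_preserves_injective_linearMap]
  intro P Q _ _ _ _ j hj
  have h1 : Function.Injective (i.lTensor P) :=
    LinearMap.lTensor_injective_of_exact_of_flat f hf i hi hex P
  have h2 : Function.Injective (j.rTensor F) :=
    Module.Flat.rTensor_preserves_injective_linearMap j hj
  have h3 : (i.lTensor Q) ∘ₗ (j.rTensor K) = (j.rTensor F) ∘ₗ (i.lTensor P) := by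
    apply TensorProduct.ext'
    intro p k
    simp
  have h4 : Function.Injective ((i.lTensor Q) ∘ₗ (j.rTensor K)) := by
    rw [h3]
    exact h2.comp h1
  exact Function.Injective.of_comp h4

theorem one_tmul_eq_zero_iff {A : Type u} [CommRing A] (m : Ideal A) {M : Type u} [AddCommGroup M]
    [Module A M] (x : M) :
    ((1 : A ⧸ m) ⊗ₜ[A] x = 0) ↔ x ∈ m • (⊤ : Submodule A M) := by
  rw [← (TensorProduct.quotTensorEquivQuotSMul M m).map_eq_zero_iff,
    TensorProduct.quotTensorEquivQuotSMul_mk_one_tmul, Submodule.Quotient.mk_eq_zero]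

variable {A B : Type u} [CommRing A] [CommRing B] [Algebra A B] (m : Ideal A)

theorem mem_smul_top_iff {M : Type u} [AddCommGroup M] [Module B M] [Module A M]
    [IsScalarTower A B M] (x : M) :
    x ∈ (m.map (algebraMap A B) • (⊤ : Submodule B M)) ↔ x ∈ (m • (⊤ : Submodule A M)) := by
  have h := Ideal.smul_restrictScalars m (⊤ : Submodule B M)
  rw [Submodule.restrictScalars_top] at h
  rw [← h, Submodule.restrictScalars_mem]

theorem mem_smul_top_ker {F N : Type u} [AddCommGroup F] [Module B F] [Module A F]
    [IsScalarTower A B F] [AddCommGroup N] [Module B N] [Module A N] [IsScalarTower A B N]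
    [Module.Flat A N] (f : F →ₗ[B] N) (hf : Function.Surjective f) (x : LinearMap.ker f)
    (hx : (x : F) ∈ (m.map (algebraMap A B) • (⊤ : Submodule B F))) :
    x ∈ (m.map (algebraMap A B) • (⊤ : Submodule B (LinearMap.ker f))) := by
  rw [mem_smul_top_iff] at hx ⊢
  let i : (LinearMap.ker f) →ₗ[A] F := (LinearMap.ker f).subtype.restrictScalars A
  let fA : F →ₗ[A] N := f.restrictScalars A
  have hex : Function.Exact i fA := by
    intro y
    constructor
    · intro hy
      exact ⟨⟨y, hy⟩, rfl⟩
    · rintro ⟨z, rfl⟩
      exact z.2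
  have hinj : Function.Injective (i.lTensor (A ⧸ m)) :=
    LinearMap.lTensor_injective_of_exact_of_flat fA hf i (LinearMap.ker f).injective_subtype hex
      (A ⧸ m)
  have h1 : ((1 : A ⧸ m) ⊗ₜ[A] (x : F)) = 0 := (one_tmul_eq_zero_iff m _).mpr hx
  have h2 : (i.lTensor (A ⧸ m)) ((1 : A ⧸ m) ⊗ₜ[A] x) = 0 := by
    rw [LinearMap.lTensor_tmul]
    exact h1
  have h3 : ((1 : A ⧸ m) ⊗ₜ[A] x) = 0 := hinj (by rw [h2, map_zero])
  exact (one_tmul_eq_zero_iff m _).mp h3

theorem red_shortExact {F N : Type u} [AddCommGroup F] [Module B F] [Module A F]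
    [IsScalarTower A B F] [AddCommGroup N] [Module B N] [Module A N] [IsScalarTower A B N]
    [Module.Flat A N] (f : F →ₗ[B] N) (hf : Function.Surjective f) :
    Function.Injective (red (m.map (algebraMap A B)) (LinearMap.ker f).subtype) ∧
    Function.Exact (red (m.map (algebraMap A B)) (LinearMap.ker f).subtype)
      (red (m.map (algebraMap A B)) f) ∧
    Function.Surjective (red (m.map (algebraMap A B)) f) := by
  refine ⟨?_, ?_, ?_⟩
  · rw [injective_iff_map_eq_zero]
    intro x hx
    obtain ⟨x, rfl⟩ := Submodule.Quotient.mk_surjective _ x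
    rw [red_mk, Submodule.Quotient.mk_eq_zero] at hx
    rw [Submodule.Quotient.mk_eq_zero]
    exact mem_smul_top_ker m f hf x hx
  · intro y
    obtain ⟨y, rfl⟩ := Submodule.Quotient.mk_surjective _ y
    constructor
    · intro hy
      rw [red_mk, Submodule.Quotient.mk_eq_zero] at hy
      have hmap : (m.map (algebraMap A B) • (⊤ : Submodule B F)).map f =
          m.map (algebraMap A B) • (⊤ : Submodule B N) := by
        rw [Submodule.map_smul'', Submodule.map_top, LinearMap.range_eq_top.mpr hf]
      rw [← hmap] at hy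
      obtain ⟨z, hz, hzy⟩ := hy
      have hk : y - z ∈ LinearMap.ker f := by
        rw [LinearMap.mem_ker, map_sub, hzy, sub_self]
      refine ⟨Submodule.Quotient.mk ⟨y - z, hk⟩, ?_⟩
      rw [red_mk]
      show Submodule.Quotient.mk (y - z) = Submodule.Quotient.mk y
      rw [Submodule.Quotient.mk_sub, sub_eq_self, Submodule.Quotient.mk_eq_zero]
      exact hz
    · rintro ⟨k, hk⟩
      obtain ⟨k, rfl⟩ := Submodule.Quotient.mk_surjective _ k
      rw [red_mk] at hk
      rw [← hk, red_mk]
      show Submodule.Quotient.mk (f (k : F)) = 0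
      rw [LinearMap.mem_ker.mp k.2, Submodule.Quotient.mk_zero]
  · intro y
    obtain ⟨y, rfl⟩ := Submodule.Quotient.mk_surjective _ y
    obtain ⟨z, rfl⟩ := hf y
    exact ⟨Submodule.Quotient.mk z, rfl⟩

end Flat

section Local

variable (A B : Type u) [CommRing A] [CommRing B] [IsNoetherianRing B] [IsLocalRing A]
  [IsLocalRing B] [Algebra A B] [IsLocalHom (algebraMap A B)] [Module.Flat A B]

theorem mB_le : EGA4.mB A B ≤ IsLocalRing.maximalIdeal B :=
  IsLocalRing.map_maximalIdeal_le (algebraMap A B)

theorem mB_le_jac : EGA4.mB A B ≤ Ideal.jacobson (⊥ : Ideal B) := by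
  rw [IsLocalRing.jacobson_eq_maximalIdeal ⊥ bot_ne_top]
  exact mB_le A B

theorem projective_of_red (N : Type u) [AddCommGroup N] [Module B N] [Module A N]
    [IsScalarTower A B N] [Module.Finite B N] [Module.Flat A N]
    (h : Module.Projective (EGA4.FibRing A B) (EGA4.FibMod A B N)) : Module.Projective B N := by
  haveI : Module.Flat (EGA4.FibRing A B) (EGA4.FibMod A B N) := inferInstance
  haveI : Module.Free (EGA4.FibRing A B) (EGA4.FibMod A B N) :=
    Module.free_of_flat_of_isLocalRing
  let ι := Module.Free.ChooseBasisIndex (EGA4.FibRing A B) (EGA4.FibMod A B N)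
  let b : Module.Basis ι (EGA4.FibRing A B) (EGA4.FibMod A B N) :=
    Module.Free.chooseBasis (EGA4.FibRing A B) (EGA4.FibMod A B N)
  haveI : Fintype ι := inferInstance
  choose n hn using fun i => Submodule.Quotient.mk_surjective
    (EGA4.mB A B • (⊤ : Submodule B N)) (b i)
  let φ : (ι → B) →ₗ[B] N := Fintype.linearCombination B n
  have hφmk : ∀ c : ι → B, (Submodule.Quotient.mk (φ c) : EGA4.FibMod A B N) =
      ∑ i, (Ideal.Quotient.mk (EGA4.mB A B) (c i)) • b i := by
    intro c
    show Submodule.Quotient.mk (Fintype.linearCombination B n c) = _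
    rw [Fintype.linearCombination_apply]
    have : (Submodule.Quotient.mk (∑ i, c i • n i) : EGA4.FibMod A B N) =
        ∑ i, Submodule.Quotient.mk (c i • n i) :=
      map_sum (Submodule.mkQ (EGA4.mB A B • (⊤ : Submodule B N))) _ _
    rw [this]
    refine Finset.sum_congr rfl fun i _ => ?_
    rw [← hn i]
    rfl
  -- surjectivity
  have hφ : Function.Surjective φ := by
    rw [← LinearMap.range_eq_top, eq_top_iff]
    refine Submodule.le_of_le_smul_of_le_jacobson_bot (I := EGA4.mB A B) Module.Finite.fg_top
      (mB_le_jac A B) ?_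
    intro y _
    obtain ⟨c, hc⟩ : ∃ c : ι → B, ∀ i, Ideal.Quotient.mk (EGA4.mB A B) (c i) =
        b.repr (Submodule.Quotient.mk y) i :=
      ⟨fun i => (Ideal.Quotient.mk_surjective (b.repr (Submodule.Quotient.mk y) i)).choose,
        fun i => (Ideal.Quotient.mk_surjective (b.repr (Submodule.Quotient.mk y) i)).choose_spec⟩
    have h1 : (Submodule.Quotient.mk (φ c) : EGA4.FibMod A B N) = Submodule.Quotient.mk y := by
      rw [hφmk]
      conv_rhs => rw [← b.sum_repr (Submodule.Quotient.mk y)]
      exact Finset.sum_congr rfl fun i _ => by rw [hc i]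
    have h2 : y - φ c ∈ EGA4.mB A B • (⊤ : Submodule B N) := by
      rw [← Submodule.Quotient.mk_eq_zero, Submodule.Quotient.mk_sub, h1, sub_self]
    have h3 : y = φ c + (y - φ c) := by abel
    rw [h3]
    exact Submodule.add_mem_sup (LinearMap.mem_range_self φ c) h2
  -- injectivity
  have hcoord : ∀ x ∈ LinearMap.ker φ, ∀ i, x i ∈ EGA4.mB A B := by
    intro x hx i
    have h1 : (∑ i, (Ideal.Quotient.mk (EGA4.mB A B) (x i)) • b i) = 0 := by
      rw [← hφmk, LinearMap.mem_ker.mp hx, Submodule.Quotient.mk_zero]
    have h2 := Fintype.linearIndependent_iff.mp b.linearIndependent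
      (fun i => Ideal.Quotient.mk (EGA4.mB A B) (x i)) h1 i
    exact Ideal.Quotient.eq_zero_iff_mem.mp h2
  have hmem : ∀ x ∈ LinearMap.ker φ, x ∈ EGA4.mB A B • (⊤ : Submodule B (ι → B)) := by
    intro x hx
    rw [pi_eq_sum_univ x]
    refine Submodule.sum_mem _ fun i _ => ?_
    exact Submodule.smul_mem_smul (hcoord x hx i) trivial
  haveI : Module.Flat A (ι → B) := Module.Flat.trans A B (ι → B)
  have htop : (⊤ : Submodule B (LinearMap.ker φ)) ≤
      EGA4.mB A B • (⊤ : Submodule B (LinearMap.ker φ)) := by
    intro x _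
    exact mem_smul_top_ker (IsLocalRing.maximalIdeal A) φ hφ x (hmem x x.2)
  have hbot : (⊤ : Submodule B (LinearMap.ker φ)) = ⊥ :=
    Submodule.eq_bot_of_le_smul_of_le_jacobson_bot (EGA4.mB A B) ⊤ Module.Finite.fg_top htop
      (mB_le_jac A B)
  have hinj : Function.Injective φ := by
    rw [← LinearMap.ker_eq_bot, eq_bot_iff]
    intro x hx
    have h1 : (⟨x, hx⟩ : LinearMap.ker φ) ∈ (⊤ : Submodule B (LinearMap.ker φ)) := trivial
    rw [hbot, Submodule.mem_bot] at h1
    rw [Submodule.mem_bot]
    exact congrArg Subtype.val h1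
  exact Module.Projective.of_equiv (LinearEquiv.ofBijective φ ⟨hinj, hφ⟩)

theorem pd_iff : ∀ (d : ℕ) (N : Type u) [AddCommGroup N] [Module B N] [Module A N]
    [IsScalarTower A B N] [Module.Finite B N] [Module.Flat A N],
    HasProjectiveDimensionLE (ModuleCat.of B N) d ↔
      HasProjectiveDimensionLE (ModuleCat.of (EGA4.FibRing A B) (EGA4.FibMod A B N)) d := by
  intro d
  induction d with
  | zero =>
    intro N _ _ _ _ _ _
    rw [← projective_iff_hasProjectiveDimensionLE_zero,
      ← projective_iff_hasProjectiveDimensionLE_zero, ← IsProjective.iff_projective,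
      ← IsProjective.iff_projective]
    exact ⟨fun h => projective_red (EGA4.mB A B) N, fun h => projective_of_red A B N h⟩
  | succ d ih =>
    intro N _ _ _ _ _ _
    obtain ⟨n, f, hf⟩ := Module.Finite.exists_fin' B N
    haveI : Module.Flat A (Fin n → B) := Module.Flat.trans A B (Fin n → B)
    haveI : Module.Flat A (LinearMap.ker f) :=
      flat_of_exact ((LinearMap.ker f).subtype.restrictScalars A) (f.restrictScalars A)
        (LinearMap.ker f).injective_subtype hf (by
          intro y
          constructor
          · intro hy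
            exact ⟨⟨y, hy⟩, rfl⟩
          · rintro ⟨z, rfl⟩
            exact z.2)
    have hS := LinearMap.shortExact_shortComplexKer hf
    have projA : Projective (f.shortComplexKer).X₂ :=
      ModuleCat.projective_of_categoryTheory_projective _
    obtain ⟨hinj, hex, hsurj⟩ := red_shortExact (IsLocalRing.maximalIdeal A) f hf
    let T : ShortComplex (ModuleCat.{u} (EGA4.FibRing A B)) :=
      ShortComplex.mk (ModuleCat.ofHom (red (EGA4.mB A B) (LinearMap.ker f).subtype))
        (ModuleCat.ofHom (red (EGA4.mB A B) f)) (by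
          apply ModuleCat.hom_ext
          apply LinearMap.ext
          intro x
          exact hex.apply_apply_eq_zero x)
    have hT : T.ShortExact := ModuleCat.shortComplex_shortExact T hex hinj hsurj
    have projB : Projective T.X₂ := by
      haveI := projective_red (EGA4.mB A B) (Fin n → B)
      show Projective (ModuleCat.of (EGA4.FibRing A B) (EGA4.FibMod A B (Fin n → B)))
      exact ModuleCat.projective_of_categoryTheory_projective _
    simp only [HasProjectiveDimensionLE] at ih ⊢
    constructor
    · intro h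
      have h1 := (hS.hasProjectiveDimensionLT_X₃_iff d projA).mp h
      have h2 := (ih (LinearMap.ker f)).mp h1
      exact (hT.hasProjectiveDimensionLT_X₃_iff d projB).mpr h2
    · intro h
      have h2 := (hT.hasProjectiveDimensionLT_X₃_iff d projB).mp h
      have h1 := (ih (LinearMap.ker f)).mpr h2
      exact (hS.hasProjectiveDimensionLT_X₃_iff d projA).mpr h1

theorem pd_eq (N : Type u) [AddCommGroup N] [Module B N] [Module A N]
    [IsScalarTower A B N] [Module.Finite B N] [Module.Flat A N] :
    projectiveDimension (ModuleCat.of B N) =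
      projectiveDimension (ModuleCat.of (EGA4.FibRing A B) (EGA4.FibMod A B N)) := by
  have hzero1 : IsZero (ModuleCat.of B N) →
      IsZero (ModuleCat.of (EGA4.FibRing A B) (EGA4.FibMod A B N)) := by
    intro h
    haveI : Subsingleton N := ModuleCat.subsingleton_of_isZero h
    haveI : Subsingleton (EGA4.FibMod A B N) := inferInstance
    exact ModuleCat.isZero_of_subsingleton _
  have hzero2 : IsZero (ModuleCat.of (EGA4.FibRing A B) (EGA4.FibMod A B N)) →
      IsZero (ModuleCat.of B N) := by
    intro h
    have h1 : Subsingleton (EGA4.FibMod A B N) := ModuleCat.subsingleton_of_isZero h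
    haveI : Subsingleton N := subsingleton_of_red (EGA4.mB A B) (mB_le A B) N h1
    exact ModuleCat.isZero_of_subsingleton _
  apply le_antisymm
  · generalize hd : projectiveDimension
      (ModuleCat.of (EGA4.FibRing A B) (EGA4.FibMod A B N)) = e
    induction e with
    | bot =>
      rw [projectiveDimension_eq_bot_iff] at hd
      rw [(projectiveDimension_eq_bot_iff _).mpr (hzero2 hd)]
    | coe e =>
      induction e with
      | top => exact le_top
      | coe d =>
        exact (projectiveDimension_le_iff _ d).mpr
          ((pd_iff A B d N).mpr ((projectiveDimension_le_iff _ d).mp hd.le))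
  · generalize hd : projectiveDimension (ModuleCat.of B N) = e
    induction e with
    | bot =>
      rw [projectiveDimension_eq_bot_iff] at hd
      rw [(projectiveDimension_eq_bot_iff _).mpr (hzero1 hd)]
    | coe e =>
      induction e with
      | top => exact le_top
      | coe d =>
        exact (projectiveDimension_le_iff _ d).mpr
          ((pd_iff A B d N).mp ((projectiveDimension_le_iff _ d).mp hd.le))

end Local

end Groth.Agent.Lib.FibPDH7
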