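import Mathlib
import Groth.Agent.Lib.ProjRes_helper7

/-!
# Flat base change of projective resolutions (helper7)
-/

set_option autoImplicit false
set_option backward.isDefEq.respectTransparency false
universe u
open CategoryTheory Limits TensorProduct

namespace Groth.Agent.Lib.ProjResBCH7

open Groth.Agent.Lib.ProjResH7

variable {A : Type u} (B : Type u) [CommRing A] [CommRing B] [Algebra A B]
variable (M : ModuleCat.{u} A) (P : ProjectiveResolution M)

/-- terms of the base-changed resolution -/
noncomputable def bX (n : ℕ) : ModuleCat.{u} B := ModuleCat.of B (B ⊗[A] P.complex.X n)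

/-- differentials of the base-changed resolution -/
noncomputable def bd (n : ℕ) : bX B M P (n + 1) ⟶ bX B M P n :=
  ModuleCat.ofHom ((P.complex.d (n + 1) n).hom.baseChange B)

/-- augmentation of the base-changed resolution -/
noncomputable def bπ : bX B M P 0 ⟶ ModuleCat.of B (B ⊗[A] M) :=
  ModuleCat.ofHom ((qπ P).hom.baseChange B)

theorem bd_sq (n : ℕ) : bd B M P (n + 1) ≫ bd B M P n = 0 := by
  have h : (P.complex.d (n + 1) n).hom ∘ₗ (P.complex.d (n + 2) (n + 1)).hom = 0 := by
    rw [← ModuleCat.hom_comp, P.complex.d_comp_d]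
    rfl
  apply ModuleCat.hom_ext
  show ((P.complex.d (n + 1) n).hom.baseChange B) ∘ₗ
    ((P.complex.d (n + 2) (n + 1)).hom.baseChange B) = 0
  rw [← LinearMap.baseChange_comp, h, LinearMap.baseChange_zero]

theorem bd_bπ : bd B M P 0 ≫ bπ B M P = 0 := by
  have h : (qπ P).hom ∘ₗ (P.complex.d 1 0).hom = 0 := by
    rw [← ModuleCat.hom_comp, d_qπ]
    rfl
  apply ModuleCat.hom_ext
  show ((qπ P).hom.baseChange B) ∘ₗ ((P.complex.d 1 0).hom.baseChange B) = 0
  rw [← LinearMap.baseChange_comp, h, LinearMap.baseChange_zero]

theorem exact_succ_fun (n : ℕ) :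
    Function.Exact (P.complex.d (n + 2) (n + 1)).hom (P.complex.d (n + 1) n).hom := by
  intro x
  constructor
  · intro hx
    exact exact_q_succ P n x hx
  · rintro ⟨y, rfl⟩
    have h : (P.complex.d (n + 1) n).hom ∘ₗ (P.complex.d (n + 2) (n + 1)).hom = 0 := by
      rw [← ModuleCat.hom_comp, P.complex.d_comp_d]
      rfl
    exact LinearMap.congr_fun h y

theorem exact_zero_fun : Function.Exact (P.complex.d 1 0).hom (qπ P).hom := by
  intro x
  constructor
  · intro hx
    exact exact_qπ P x hx
  · rintro ⟨y, rfl⟩
    have h : (qπ P).hom ∘ₗ (P.complex.d 1 0).hom = 0 := by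
      rw [← ModuleCat.hom_comp, d_qπ]
      rfl
    exact LinearMap.congr_fun h y

variable [Module.Flat A B]

/-- the base change of a projective resolution along a flat ring map -/
noncomputable def bcRes : ProjectiveResolution (ModuleCat.of B (B ⊗[A] M)) :=
  mkRes (ModuleCat.of B (B ⊗[A] M)) (bX B M P) (bd B M P) (bd_sq B M P) (bπ B M P) (bd_bπ B M P)
    (fun n => by
      unfold bX
      infer_instance)
    (by
      intro x
      obtain ⟨y, hy⟩ := LinearMap.lTensor_surjective B (qπ_surjective P) x
      refine ⟨y, ?_⟩
      show ((qπ P).hom.baseChange B) y = x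
      rw [LinearMap.baseChange_eq_ltensor]
      exact hy)
    (by
      rw [ShortComplex.moduleCat_exact_iff]
      intro x hx
      have hx' : ((qπ P).hom.lTensor B) x = 0 := by
        rw [← LinearMap.baseChange_eq_ltensor]
        exact hx
      obtain ⟨y, hy⟩ := (Module.Flat.lTensor_exact B (exact_zero_fun M P) x).mp hx'
      refine ⟨y, ?_⟩
      show ((P.complex.d 1 0).hom.baseChange B) y = x
      rw [LinearMap.baseChange_eq_ltensor]
      exact hy)
    (fun n => by
      rw [ShortComplex.moduleCat_exact_iff]
      intro x hx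
      have hx' : ((P.complex.d (n + 1) n).hom.lTensor B) x = 0 := by
        rw [← LinearMap.baseChange_eq_ltensor]
        exact hx
      obtain ⟨y, hy⟩ := (Module.Flat.lTensor_exact B (exact_succ_fun M P n) x).mp hx'
      refine ⟨y, ?_⟩
      show ((P.complex.d (n + 2) (n + 1)).hom.baseChange B) y = x
      rw [LinearMap.baseChange_eq_ltensor]
      exact hy)

theorem bcRes_X (n : ℕ) :
    (bcRes B M P).complex.X n = ModuleCat.of B (B ⊗[A] P.complex.X n) := rfl

theorem hasProjectiveDimensionLE_baseChange (d : ℕ) (h : HasProjectiveDimensionLE M d) :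
    HasProjectiveDimensionLE (ModuleCat.of B (B ⊗[A] M)) d := by
  obtain ⟨P, hP⟩ := exists_res d M h
  refine pd_of_res _ d (bcRes B M P) fun i hi => ?_
  rw [bcRes_X]
  haveI : Subsingleton (P.complex.X i) := ModuleCat.subsingleton_of_isZero (hP i hi)
  haveI : Subsingleton (B ⊗[A] P.complex.X i) := inferInstance
  exact ModuleCat.isZero_of_subsingleton _

theorem projectiveDimension_baseChange_le :
    projectiveDimension (ModuleCat.of B (B ⊗[A] M)) ≤ projectiveDimension M := by
  generalize hd : projectiveDimension M = d
  induction d with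
  | bot =>
    rw [projectiveDimension_eq_bot_iff] at hd
    haveI : Subsingleton M := ModuleCat.subsingleton_of_isZero hd
    haveI : Subsingleton (B ⊗[A] M) := inferInstance
    have : IsZero (ModuleCat.of B (B ⊗[A] M)) := ModuleCat.isZero_of_subsingleton _
    rw [(projectiveDimension_eq_bot_iff _).mpr this]
  | coe d =>
    induction d with
    | top => exact le_top
    | coe d =>
      have h1 : HasProjectiveDimensionLE M d := (projectiveDimension_le_iff M d).mp hd.le
      exact (projectiveDimension_le_iff _ d).mpr (hasProjectiveDimensionLE_baseChange B M d h1)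

end Groth.Agent.Lib.ProjResBCH7
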