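import Mathlib
import Groth.Agent.Lib.ProjResBC_helper7
import Groth.Agent.Lib.FibPD_helper7

/-!
# Projective dimension and quotient by a regular element (helper7)

If `a` is regular on `A` and on `E`, then `pd_{A/a}(E/aE) ≤ pd_A(E)`.
-/

set_option autoImplicit false
set_option backward.isDefEq.respectTransparency false
universe u
open CategoryTheory Limits

namespace Groth.Agent.Lib.RegQuotPDH7

open Groth.Agent.Lib.ProjResH7 Groth.Agent.Lib.ProjResBCH7 Groth.Agent.Lib.FibPDH7

variable {A : Type u} [CommRing A] (a : A)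

theorem mem_span_smul_top_iff {M : Type u} [AddCommGroup M] [Module A M] (x : M) :
    x ∈ (Ideal.span {a} • (⊤ : Submodule A M)) ↔ ∃ y : M, x = a • y := by
  rw [Submodule.ideal_span_singleton_smul, Submodule.mem_smul_pointwise_iff_exists]
  constructor
  · rintro ⟨y, _, rfl⟩
    exact ⟨y, rfl⟩
  · rintro ⟨y, rfl⟩
    exact ⟨y, trivial, rfl⟩

theorem red_exact {X₂ X₁ X₀ W : Type u} [AddCommGroup X₂] [Module A X₂] [AddCommGroup X₁]
    [Module A X₁] [AddCommGroup X₀] [Module A X₀] [AddCommGroup W] [Module A W]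
    (f : X₂ →ₗ[A] X₁) (g : X₁ →ₗ[A] X₀) (h : X₀ →ₗ[A] W)
    (hfg : Function.Exact f g) (hgh : Function.Exact g h) (hW : IsSMulRegular W a) :
    Function.Exact (red (Ideal.span {a}) f) (red (Ideal.span {a}) g) := by
  intro x
  obtain ⟨x, rfl⟩ := Submodule.Quotient.mk_surjective _ x
  constructor
  · intro hx
    rw [red_mk, Submodule.Quotient.mk_eq_zero, mem_span_smul_top_iff] at hx
    obtain ⟨y, hy⟩ := hx
    have h1 : a • h y = 0 := by
      rw [← map_smul, ← hy]
      exact hgh.apply_apply_eq_zero x
    have h2 : h y = 0 := hW (by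
      show a • h y = a • 0
      rw [h1, smul_zero])
    obtain ⟨z, hz⟩ := (hgh y).mp h2
    have h3 : g (x - a • z) = 0 := by
      rw [map_sub, map_smul, hz, hy, sub_self]
    obtain ⟨w, hw⟩ := (hfg _).mp h3
    refine ⟨Submodule.Quotient.mk w, ?_⟩
    rw [red_mk, hw, Submodule.Quotient.mk_sub, sub_eq_self, Submodule.Quotient.mk_eq_zero,
      mem_span_smul_top_iff]
    exact ⟨z, rfl⟩
  · rintro ⟨w, hw⟩
    obtain ⟨w, rfl⟩ := Submodule.Quotient.mk_surjective _ w
    rw [← hw, red_mk, red_mk, hfg.apply_apply_eq_zero, Submodule.Quotient.mk_zero]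

theorem red_exact_right {X₁ X₀ W : Type u} [AddCommGroup X₁]
    [Module A X₁] [AddCommGroup X₀] [Module A X₀] [AddCommGroup W] [Module A W]
    (g : X₁ →ₗ[A] X₀) (h : X₀ →ₗ[A] W)
    (hgh : Function.Exact g h) (hsurj : Function.Surjective h) :
    Function.Exact (red (Ideal.span {a}) g) (red (Ideal.span {a}) h) := by
  intro x
  obtain ⟨x, rfl⟩ := Submodule.Quotient.mk_surjective _ x
  constructor
  · intro hx
    rw [red_mk, Submodule.Quotient.mk_eq_zero, mem_span_smul_top_iff] at hx
    obtain ⟨e, he⟩ := hx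
    obtain ⟨y, rfl⟩ := hsurj e
    have h3 : h (x - a • y) = 0 := by
      rw [map_sub, map_smul, he, sub_self]
    obtain ⟨w, hw⟩ := (hgh _).mp h3
    refine ⟨Submodule.Quotient.mk w, ?_⟩
    rw [red_mk, hw, Submodule.Quotient.mk_sub, sub_eq_self, Submodule.Quotient.mk_eq_zero,
      mem_span_smul_top_iff]
    exact ⟨y, rfl⟩
  · rintro ⟨w, hw⟩
    obtain ⟨w, rfl⟩ := Submodule.Quotient.mk_surjective _ w
    rw [← hw, red_mk, red_mk, hgh.apply_apply_eq_zero, Submodule.Quotient.mk_zero]

theorem red_surjective {X₀ W : Type u} [AddCommGroup X₀] [Module A X₀] [AddCommGroup W]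
    [Module A W] (h : X₀ →ₗ[A] W) (hsurj : Function.Surjective h) :
    Function.Surjective (red (Ideal.span {a}) h) := by
  intro y
  obtain ⟨y, rfl⟩ := Submodule.Quotient.mk_surjective _ y
  obtain ⟨z, rfl⟩ := hsurj y
  exact ⟨Submodule.Quotient.mk z, rfl⟩

section Res

variable (E : ModuleCat.{u} A) (P : ProjectiveResolution E)

/-- terms -/
noncomputable def rX (n : ℕ) : ModuleCat.{u} (A ⧸ Ideal.span {a}) :=
  ModuleCat.of (A ⧸ Ideal.span {a})
    (P.complex.X n ⧸ (Ideal.span {a} • (⊤ : Submodule A (P.complex.X n))))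

/-- differentials -/
noncomputable def rd (n : ℕ) : rX a E P (n + 1) ⟶ rX a E P n :=
  ModuleCat.ofHom (red (Ideal.span {a}) (P.complex.d (n + 1) n).hom)

/-- augmentation -/
noncomputable def rπ : rX a E P 0 ⟶
    ModuleCat.of (A ⧸ Ideal.span {a}) (E ⧸ (Ideal.span {a} • (⊤ : Submodule A E))) :=
  ModuleCat.ofHom (red (Ideal.span {a}) (qπ P).hom)

theorem rd_sq (n : ℕ) : rd a E P (n + 1) ≫ rd a E P n = 0 := by
  apply ModuleCat.hom_ext
  apply LinearMap.ext
  intro x
  obtain ⟨x, rfl⟩ := Submodule.Quotient.mk_surjective _ x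
  show red (Ideal.span {a}) (P.complex.d (n + 1) n).hom
    (red (Ideal.span {a}) (P.complex.d (n + 2) (n + 1)).hom (Submodule.Quotient.mk x)) = 0
  rw [red_mk, red_mk, (exact_succ_fun E P n).apply_apply_eq_zero, Submodule.Quotient.mk_zero]

theorem rd_rπ : rd a E P 0 ≫ rπ a E P = 0 := by
  apply ModuleCat.hom_ext
  apply LinearMap.ext
  intro x
  obtain ⟨x, rfl⟩ := Submodule.Quotient.mk_surjective _ x
  show red (Ideal.span {a}) (qπ P).hom
    (red (Ideal.span {a}) (P.complex.d 1 0).hom (Submodule.Quotient.mk x)) = 0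
  rw [red_mk, red_mk, (exact_zero_fun E P).apply_apply_eq_zero, Submodule.Quotient.mk_zero]

variable (hA : IsRegular a) (hE : IsSMulRegular E a)

include hA in
theorem regular_X (n : ℕ) : IsSMulRegular (P.complex.X n) a := by
  haveI : Module.Projective A (P.complex.X n) :=
    (P.complex.X n).projective_of_module_projective
  exact Module.Flat.isSMulRegular_of_isRegular hA

/-- the reduced resolution -/
noncomputable def redRes : ProjectiveResolution
    (ModuleCat.of (A ⧸ Ideal.span {a}) (E ⧸ (Ideal.span {a} • (⊤ : Submodule A E)))) :=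
  mkRes _ (rX a E P) (rd a E P) (rd_sq a E P) (rπ a E P) (rd_rπ a E P)
    (fun n => by
      haveI : Module.Projective A (P.complex.X n) :=
        (P.complex.X n).projective_of_module_projective
      haveI := projective_red (Ideal.span {a}) (P.complex.X n)
      unfold rX
      exact ModuleCat.projective_of_categoryTheory_projective _)
    (red_surjective a (qπ P).hom (qπ_surjective P))
    (by
      rw [ShortComplex.moduleCat_exact_iff]
      intro x hx
      exact (red_exact_right a (P.complex.d 1 0).hom (qπ P).hom (exact_zero_fun E P)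
        (qπ_surjective P) x).mp hx)
    (fun n => by
      rw [ShortComplex.moduleCat_exact_iff]
      intro x hx
      cases n with
      | zero =>
        exact (red_exact a (P.complex.d 2 1).hom (P.complex.d 1 0).hom (qπ P).hom
          (exact_succ_fun E P 0) (exact_zero_fun E P) hE x).mp hx
      | succ n =>
        exact (red_exact a (P.complex.d (n + 3) (n + 2)).hom (P.complex.d (n + 2) (n + 1)).hom
          (P.complex.d (n + 1) n).hom
          (exact_succ_fun E P (n + 1)) (exact_succ_fun E P n) (regular_X a E P hA n) x).mp hx)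

theorem redRes_X (n : ℕ) : (redRes a E P hA hE).complex.X n = rX a E P n := rfl

end Res

theorem pd_quot_le (E : Type u) [AddCommGroup E] [Module A E] (hA : IsSMulRegular A a)
    (hE : IsSMulRegular E a) :
    projectiveDimension (ModuleCat.of (A ⧸ Ideal.span {a})
      (E ⧸ (Ideal.span {a} • (⊤ : Submodule A E)))) ≤ projectiveDimension (ModuleCat.of A E) := by
  have hA' : IsRegular a := isLeftRegular_iff_isRegular.mp (isLeftRegular_iff.mpr hA)
  generalize hd : projectiveDimension (ModuleCat.of A E) = d
  induction d with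
  | bot =>
    rw [projectiveDimension_eq_bot_iff] at hd
    haveI : Subsingleton E := ModuleCat.subsingleton_of_isZero hd
    have : IsZero (ModuleCat.of (A ⧸ Ideal.span {a})
        (E ⧸ (Ideal.span {a} • (⊤ : Submodule A E)))) := ModuleCat.isZero_of_subsingleton _
    rw [(projectiveDimension_eq_bot_iff _).mpr this]
  | coe d =>
    induction d with
    | top => exact le_top
    | coe d =>
      have h1 : HasProjectiveDimensionLE (ModuleCat.of A E) d :=
        (projectiveDimension_le_iff _ d).mp hd.le
      obtain ⟨P, hP⟩ := exists_res d (ModuleCat.of A E) h1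
      refine (projectiveDimension_le_iff _ d).mpr ?_
      refine pd_of_res _ d (redRes a (ModuleCat.of A E) P hA' hE) fun i hi => ?_
      rw [redRes_X]
      haveI : Subsingleton (P.complex.X i) := ModuleCat.subsingleton_of_isZero (hP i hi)
      unfold rX
      exact ModuleCat.isZero_of_subsingleton _

end Groth.Agent.Lib.RegQuotPDH7
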