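import Groth.Agent.Lib.AusBuch_helper5
import Groth.Agent.Lib.DepthRingChange_helper5

/-!
# Projective dimension along a quotient `R → R/I` of finite projective dimension (helper5)

If `pd_R(R/I) ≤ a` and `pd_{R/I} E ≤ b` (`E` a finite `R/I`-module) then `pd_R E ≤ a + b`.
Over a Noetherian local ring, Auslander–Buchsbaum then gives equality.
-/

set_option autoImplicit false
set_option maxHeartbeats 400000
universe u
open CategoryTheory CategoryTheory.Limits Abelian IsLocalRing

namespace Groth.Agent.PdTrans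

open Groth.Agent.TorLES Groth.Agent.DepthLib

/-- finite powers. -/
theorem hasPD_pi {R : Type u} [CommRing R] (N : Type u) [AddCommGroup N] [Module R N] (n : ℕ)
    (hN : HasProjectiveDimensionLT (ModuleCat.of R N) n) :
    ∀ m : ℕ, HasProjectiveDimensionLT (ModuleCat.of R (Fin m → N)) n := by
  intro m
  induction m with
  | zero =>
    haveI : HasProjectiveDimensionLT (ModuleCat.of R (Fin 0 → N)) 0 :=
      (ModuleCat.isZero_of_subsingleton (ModuleCat.of R (Fin 0 → N))).hasProjectiveDimensionLT_zero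
    exact hasProjectiveDimensionLT_of_ge _ 0 n (Nat.zero_le n)
  | succ m ih =>
    haveI := hN
    haveI := ih
    haveI : HasProjectiveDimensionLT (ModuleCat.of R (N × (Fin m → N))) n :=
      hasProjectiveDimensionLT_of_iso
        (ModuleCat.biprodIsoProd (ModuleCat.of R N) (ModuleCat.of R (Fin m → N))) n
    exact hasProjectiveDimensionLT_of_iso
      (Fin.consLinearEquiv R (fun _ : Fin (m + 1) => N)).toModuleIso n

variable (R : Type u) [CommRing R] [IsNoetherianRing R] (I : Ideal R)

/-- transitivity of finite projective dimension. -/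
theorem hasPD_restrict (a : ℕ)
    (ha : HasProjectiveDimensionLT (ModuleCat.of R (R ⧸ I)) (a + 1)) :
    ∀ (b : ℕ) (E : Type u) [AddCommGroup E] [Module (R ⧸ I) E] [Module R E]
      [IsScalarTower R (R ⧸ I) E] [Module.Finite (R ⧸ I) E],
      HasProjectiveDimensionLT (ModuleCat.of (R ⧸ I) E) (b + 1) →
        HasProjectiveDimensionLT (ModuleCat.of R E) (a + b + 1) := by
  intro b
  induction b with
  | zero =>
    intro E _ _ _ _ _ hE
    haveI : Projective (ModuleCat.of (R ⧸ I) E) :=
      projective_iff_hasProjectiveDimensionLT_one.mpr hE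
    haveI : Module.Projective (R ⧸ I) E :=
      (IsProjective.iff_projective (R := R ⧸ I) (P := E)).mpr inferInstance
    obtain ⟨m, p, hp⟩ := Module.Finite.exists_fin' (R ⧸ I) E
    obtain ⟨s, hs⟩ := Module.projective_lifting_property p LinearMap.id hp
    haveI := hasPD_pi (R := R) (R ⧸ I) (a + 1) ha m
    have hret : Retract (ModuleCat.of R E) (ModuleCat.of R (Fin m → R ⧸ I)) :=
      { i := ModuleCat.ofHom (s.restrictScalars R)
        r := ModuleCat.ofHom (p.restrictScalars R)
        retract := by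
          ext x
          exact LinearMap.congr_fun hs x }
    exact hret.hasProjectiveDimensionLT (a + 0 + 1)
  | succ b ih =>
    intro E _ _ _ _ _ hE
    obtain ⟨m, p, hp⟩ := Module.Finite.exists_fin' (R ⧸ I) E
    have hSB := mk_shortExact (R := R ⧸ I) (LinearMap.ker p).subtype p Subtype.val_injective
      (LinearMap.exact_subtype_ker_map p) hp
    haveI : Projective (ModuleCat.of (R ⧸ I) (Fin m → R ⧸ I)) :=
      (IsProjective.iff_projective (R := R ⧸ I) (P := (Fin m → R ⧸ I))).mp inferInstance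
    have hF : HasProjectiveDimensionLT (ModuleCat.of (R ⧸ I) (Fin m → R ⧸ I)) (b + 1) :=
      hasProjectiveDimensionLT_of_ge _ 1 (b + 1) (by omega)
    have hK : HasProjectiveDimensionLT (ModuleCat.of (R ⧸ I) (LinearMap.ker p)) (b + 1) :=
      hSB.hasProjectiveDimensionLT_X₁ (b + 1) hF hE
    haveI : IsNoetherian (R ⧸ I) (Fin m → R ⧸ I) :=
      isNoetherian_of_isNoetherianRing_of_finite (R ⧸ I) _
    have hKR := ih (LinearMap.ker p) hK
    have hSR := mk_shortExact (R := R) ((LinearMap.ker p).subtype.restrictScalars R)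
      (p.restrictScalars R) Subtype.val_injective
      (LinearMap.exact_subtype_ker_map p) hp
    have hFR : HasProjectiveDimensionLT (ModuleCat.of R (Fin m → R ⧸ I)) (a + b + 1 + 1) := by
      haveI := hasPD_pi (R := R) (R ⧸ I) (a + 1) ha m
      exact hasProjectiveDimensionLT_of_ge _ (a + 1) (a + b + 1 + 1) (by omega)
    exact hSR.hasProjectiveDimensionLT_X₃ (a + b + 1) hKR hFR

lemma exists_nat_of_ne (x : WithBot ℕ∞) (h1 : x ≠ ⊤) (h2 : x ≠ ⊥) : ∃ a : ℕ, x = (a : WithBot ℕ∞) := by
  induction x with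
  | bot => exact absurd rfl h2
  | coe y =>
    induction y using ENat.recTopCoe with
    | top => exact absurd rfl h1
    | coe a => exact ⟨a, rfl⟩

/-- S7137. -/
theorem pd_trans [IsLocalRing R] (E : Type u) [AddCommGroup E] [Module (R ⧸ I) E] [Module R E]
    [IsScalarTower R (R ⧸ I) E] [Module.Finite (R ⧸ I) E] [Nontrivial E]
    (h1 : projectiveDimension (ModuleCat.of R (R ⧸ I)) ≠ ⊤)
    (h2 : projectiveDimension (ModuleCat.of (R ⧸ I) E) ≠ ⊤) :
    projectiveDimension (ModuleCat.of R E) ≠ ⊤ ∧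
      projectiveDimension (ModuleCat.of R E) =
        projectiveDimension (ModuleCat.of R (R ⧸ I)) +
          projectiveDimension (ModuleCat.of (R ⧸ I) E) := by
  haveI : Nontrivial (R ⧸ I) := Module.nontrivial (R ⧸ I) E
  haveI : IsLocalRing (R ⧸ I) :=
    IsLocalRing.of_surjective' (Ideal.Quotient.mk I) Ideal.Quotient.mk_surjective
  haveI : IsLocalHom (algebraMap R (R ⧸ I)) :=
    IsLocalHom.of_surjective _
      (Ideal.Quotient.mk_surjective : Function.Surjective (algebraMap R (R ⧸ I)))
  haveI : Module.Finite R E := Module.Finite.trans (R ⧸ I) E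
  have hB0 : projectiveDimension (ModuleCat.of R (R ⧸ I)) ≠ ⊥ := by
    rw [Ne, projectiveDimension_eq_bot_iff, ModuleCat.isZero_iff_subsingleton]
    exact not_subsingleton (R ⧸ I)
  have hE0 : projectiveDimension (ModuleCat.of (R ⧸ I) E) ≠ ⊥ := by
    rw [Ne, projectiveDimension_eq_bot_iff, ModuleCat.isZero_iff_subsingleton]
    exact not_subsingleton E
  have hER0 : projectiveDimension (ModuleCat.of R E) ≠ ⊥ := by
    rw [Ne, projectiveDimension_eq_bot_iff, ModuleCat.isZero_iff_subsingleton]
    exact not_subsingleton E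
  obtain ⟨a, ha⟩ := exists_nat_of_ne _ h1 hB0
  obtain ⟨b, hb⟩ := exists_nat_of_ne _ h2 hE0
  have haLT : HasProjectiveDimensionLT (ModuleCat.of R (R ⧸ I)) (a + 1) :=
    (projectiveDimension_le_iff _ a).mp ha.le
  have hbLT : HasProjectiveDimensionLT (ModuleCat.of (R ⧸ I) E) (b + 1) :=
    (projectiveDimension_le_iff _ b).mp hb.le
  have hLT := hasPD_restrict R I a haLT b E hbLT
  have hle : projectiveDimension (ModuleCat.of R E) ≤ ((a + b : ℕ) : WithBot ℕ∞) :=
    (projectiveDimension_le_iff _ (a + b)).mpr hLT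
  have hne : projectiveDimension (ModuleCat.of R E) ≠ ⊤ := by
    intro h
    rw [h] at hle
    have h3 := top_le_iff.mp hle
    exact ENat.natCast_ne_top (a + b) (WithBot.coe_eq_coe.1 h3)
  obtain ⟨c, hc⟩ := exists_nat_of_ne _ hne hER0
  refine ⟨hne, ?_⟩
  -- Auslander–Buchsbaum three times
  have ab1 := Groth.Agent.AB.auslander_buchsbaum R (R ⧸ I) a ha
  have ab2 := Groth.Agent.AB.auslander_buchsbaum (R ⧸ I) E b hb
  have ab3 := Groth.Agent.AB.auslander_buchsbaum R E c hc
  have d1 : LocCoh.depth R (R ⧸ I) = LocCoh.depth (R ⧸ I) (R ⧸ I) :=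
    depth_eq_of_isLocalHom R (R ⧸ I) (R ⧸ I)
  have d2 : LocCoh.depth R E = LocCoh.depth (R ⧸ I) E := depth_eq_of_isLocalHom R (R ⧸ I) E
  have hneE : maximalIdeal (R ⧸ I) • (⊤ : Submodule (R ⧸ I) E) ≠ ⊤ :=
    fun h => not_subsingleton E (Groth.Agent.AB.subsingleton_of_smul_top (R ⧸ I) E h)
  obtain ⟨k, hk⟩ := ENat.ne_top_iff_exists.1 (idealDepth_ne_top (maximalIdeal (R ⧸ I)) E hneE)
  have hk' : LocCoh.depth (R ⧸ I) E = k := hk.symm
  rw [d1, ab2, hk'] at ab1
  rw [d2, hk'] at ab3
  rw [ab1] at ab3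
  have hsum : a + (b + k) = c + k := by exact_mod_cast ab3
  have hc' : c = a + b := by omega
  rw [hc, ha, hb, hc']
  push_cast
  rfl

end Groth.Agent.PdTrans
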