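import Mathlib
import Groth.Agent.Lib.AusBuch_helper5
import Groth.Agent.Lib.DepthSk_helper5
import Groth.Agent.Lib.ProjResBC_helper7
import Groth.Agent.Lib.PdTrans_helper5

/-!
# Vasconcelos' theorem, part 1 (helper9)

* coset prime avoidance `exists_add_not_mem`
* modules of finite projective dimension over a depth-zero local ring are free
* constancy of the rank at associated primes, and: a nonzero ideal of finite projective dimension
  of a Noetherian local ring contains a nonzerodivisor.
APPEND-ONLY once landed.
-/

set_option autoImplicit false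
universe u

namespace Groth.Agent.Vasc9

open IsLocalRing CategoryTheory

section Avoid

/-- **coset prime avoidance** -/
theorem exists_add_not_mem {R : Type*} [CommRing R] (x : R) (J : Ideal R) :
    ∀ (s : Finset (Ideal R)), (∀ p ∈ s, p.IsPrime) → (∀ p ∈ s, ¬ (x ∈ p ∧ J ≤ p)) →
      ∃ j ∈ J, ∀ p ∈ s, x + j ∉ p := by
  classical
  intro s
  induction s using Finset.strongInduction with
  | H s ih =>
  intro hprime hne
  by_cases hs : s.Nonempty
  swap
  · rw [Finset.not_nonempty_iff_eq_empty] at hs
    subst hs
    exact ⟨0, J.zero_mem, fun p hp => absurd hp (Finset.notMem_empty p)⟩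
  obtain ⟨m, hms, hmin⟩ := s.exists_minimal hs
  haveI : m.IsPrime := hprime m hms
  obtain ⟨j0, hj0, hj0p⟩ := ih (s.erase m) (Finset.erase_ssubset hms)
    (fun p hp => hprime p (Finset.mem_of_mem_erase hp))
    (fun p hp => hne p (Finset.mem_of_mem_erase hp))
  by_cases hxm : x + j0 ∈ m
  swap
  · refine ⟨j0, hj0, fun p hp => ?_⟩
    by_cases hpm : p = m
    · rw [hpm]; exact hxm
    · exact hj0p p (Finset.mem_erase.2 ⟨hpm, hp⟩)
  have hJm : ¬ J ≤ m := by
    intro h
    apply hne m hms
    refine ⟨?_, h⟩
    have := m.sub_mem hxm (h hj0)
    simpa using this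
  obtain ⟨j', hj'J, hj'm⟩ := SetLike.not_le_iff_exists.1 hJm
  have hex : ∀ p ∈ s.erase m, ∃ t ∈ p, t ∉ m := by
    intro p hp
    have hpm : ¬ p ≤ m := by
      intro h
      have h2 := hmin (Finset.mem_of_mem_erase hp) h
      exact (Finset.mem_erase.1 hp).1 (le_antisymm h h2)
    exact SetLike.not_le_iff_exists.1 hpm
  choose! t ht using hex
  set j1 := j' * ∏ p ∈ s.erase m, t p with hj1
  have hj1J : j1 ∈ J := J.mul_mem_right _ hj'J
  have hj1m : j1 ∉ m := by
    intro h
    rcases (Ideal.IsPrime.mem_or_mem inferInstance h) with h | h
    · exact hj'm h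
    · rw [Ideal.IsPrime.prod_mem_iff] at h
      obtain ⟨p, hp, hpt⟩ := h
      exact (ht p hp).2 hpt
  have hj1p : ∀ p ∈ s.erase m, j1 ∈ p := by
    intro p hp
    apply Ideal.mul_mem_left
    exact Ideal.mem_of_dvd _ (Finset.dvd_prod_of_mem t hp) (ht p hp).1
  refine ⟨j0 + j1, J.add_mem hj0 hj1J, fun p hp => ?_⟩
  by_cases hpm : p = m
  · rw [hpm]
    intro h
    apply hj1m
    have := m.sub_mem h hxm
    have h3 : x + (j0 + j1) - (x + j0) = j1 := by ring
    rwa [h3] at this
  · have hpe : p ∈ s.erase m := Finset.mem_erase.2 ⟨hpm, hp⟩
    intro h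
    apply hj0p p hpe
    have := p.sub_mem h (hj1p p hpe)
    have h3 : x + (j0 + j1) - j1 = x + j0 := by ring
    rwa [h3] at this

end Avoid

section DepthZero

variable (S : Type u) [CommRing S] [IsLocalRing S] [IsNoetherianRing S]

/-- over a Noetherian local ring of depth zero, finite modules of finite projective dimension
are free -/
theorem free_of_depth_zero (h0 : ¬ 1 ≤ LocCoh.depth S S) (N : Type u) [AddCommGroup N]
    [Module S N] [Module.Finite S N] (n : ℕ)
    (hpd : HasProjectiveDimensionLT (ModuleCat.of S N) n) : Module.Free S N := by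
  by_cases hN : Subsingleton N
  · exact Module.Free.of_subsingleton S N
  rw [not_subsingleton_iff_nontrivial] at hN
  have h1 : projectiveDimension (ModuleCat.of S N) ≠ ⊤ := by
    intro h
    have := (projectiveDimension_lt_iff (X := ModuleCat.of S N) (n := n)).2 hpd
    rw [h] at this
    exact absurd this (by simp)
  have h2 : projectiveDimension (ModuleCat.of S N) ≠ ⊥ := by
    intro h
    rw [projectiveDimension_eq_bot_iff] at h
    exact not_subsingleton N (ModuleCat.subsingleton_of_isZero h)
  obtain ⟨e, he⟩ := Groth.Agent.PdTrans.exists_nat_of_ne _ h1 h2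
  have hAB := Groth.Agent.AB.auslander_buchsbaum S N e he
  have hd0 : LocCoh.depth S S = 0 := by
    by_contra h
    exact h0 (ENat.one_le_iff_ne_zero.2 h)
  rw [hd0] at hAB
  have he0 : e = 0 := by
    have h3 : (e : ℕ∞) = 0 := by
      have := hAB.symm
      exact (add_eq_zero.1 this).1
    exact_mod_cast h3
  subst he0
  have h4 : HasProjectiveDimensionLE (ModuleCat.of S N) 0 :=
    (projectiveDimension_le_iff _ 0).1 he.le
  rw [← projective_iff_hasProjectiveDimensionLE_zero, ← IsProjective.iff_projective] at h4
  haveI : Module.Projective S N := h4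
  exact Module.free_of_flat_of_isLocalRing

end DepthZero

section Loc

variable (R : Type u) [CommRing R]

/-- localization does not increase the projective dimension -/
theorem hasPDLT_localization (M : Type u) [AddCommGroup M] [Module R M] (p : Ideal R) [p.IsPrime]
    (n : ℕ) (h : HasProjectiveDimensionLT (ModuleCat.of R M) n) :
    HasProjectiveDimensionLT
      (ModuleCat.of (Localization.AtPrime p) (LocalizedModule p.primeCompl M)) n := by
  rcases n with _ | k
  · rw [hasProjectiveDimensionLT_zero_iff_isZero] at h ⊢
    haveI : Subsingleton M := ModuleCat.subsingleton_of_isZero h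
    haveI : Subsingleton (LocalizedModule p.primeCompl M) := inferInstance
    exact ModuleCat.isZero_of_subsingleton _
  · have h1 : HasProjectiveDimensionLE (ModuleCat.of R M) k := h
    have h2 := Groth.Agent.Lib.ProjResBCH7.hasProjectiveDimensionLE_baseChange
      (Localization.AtPrime p) (ModuleCat.of R M) k h1
    let e := (IsLocalizedModule.isBaseChange p.primeCompl (Localization.AtPrime p)
      (LocalizedModule.mkLinearMap p.primeCompl M)).equiv
    exact hasProjectiveDimensionLT_of_iso e.toModuleIso (k + 1)

variable [IsNoetherianRing R]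

/-- finite modules of finite projective dimension are free at the associated primes of the ring -/
theorem free_localization (M : Type u) [AddCommGroup M] [Module R M] [Module.Finite R M]
    (n : ℕ) (hpd : HasProjectiveDimensionLT (ModuleCat.of R M) n)
    (p : Ideal R) [p.IsPrime] (hp : p ∈ associatedPrimes R R) :
    Module.Free (Localization.AtPrime p) (LocalizedModule p.primeCompl M) := by
  haveI : IsNoetherianRing (Localization.AtPrime p) :=
    IsLocalization.isNoetherianRing p.primeCompl _ inferInstance
  have h0 : ¬ 1 ≤ LocCoh.depth (Localization.AtPrime p) (Localization.AtPrime p) := by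
    rw [← Groth.Agent.DepthLib.depth_locSelf]
    exact (Groth.Agent.DepthLib.not_one_le_depth_localization_iff R p).2 hp
  exact free_of_depth_zero _ h0 _ n (hasPDLT_localization R M p n hpd)

end Loc

section Rank

variable (R : Type u) [CommRing R] [IsNoetherianRing R]

omit [IsNoetherianRing R] in
theorem localizedModule_map_exact {M N P : Type u} [AddCommGroup M] [Module R M] [AddCommGroup N]
    [Module R N] [AddCommGroup P] [Module R P] (S : Submonoid R) (g : M →ₗ[R] N) (h : N →ₗ[R] P)
    (ex : Function.Exact g h) :
    Function.Exact (LocalizedModule.map S g) (LocalizedModule.map S h) :=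
  _root_.LocalizedModule.map_exact S g h ex

omit [IsNoetherianRing R] in
theorem finrank_add_of_exact {K N M : Type u} [AddCommGroup K] [Module R K] [AddCommGroup N]
    [Module R N] [AddCommGroup M] [Module R M] (S : Submonoid R) (ι : K →ₗ[R] N) (f : N →ₗ[R] M)
    (hι : Function.Injective ι) (hf : Function.Surjective f) (hex : Function.Exact ι f)
    [Module.Free (Localization S) (LocalizedModule S K)]
    [Module.Free (Localization S) (LocalizedModule S M)]
    [Module.Finite (Localization S) (LocalizedModule S K)]
    [Module.Finite (Localization S) (LocalizedModule S M)] [Nontrivial (Localization S)] :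
    Module.finrank (Localization S) (LocalizedModule S N) =
      Module.finrank (Localization S) (LocalizedModule S K) +
        Module.finrank (Localization S) (LocalizedModule S M) := by
  have hinj : Function.Injective (LocalizedModule.map S ι) :=
    LocalizedModule.map_injective S _ hι
  have hsurj : Function.Surjective (LocalizedModule.map S f) :=
    LocalizedModule.map_surjective S _ hf
  have hex' : Function.Exact (LocalizedModule.map S ι) (LocalizedModule.map S f) :=
    localizedModule_map_exact R S _ _ hex
  obtain ⟨σ, hσ⟩ := Module.projective_lifting_property (LocalizedModule.map S f) LinearMap.id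
    hsurj
  let e := (Function.Exact.splitSurjectiveEquiv (R := Localization S)
    (f := LocalizedModule.map S ι) (g := LocalizedModule.map S f) hex' hinj ⟨σ, hσ⟩).1
  rw [LinearEquiv.finrank_eq e, Module.finrank_prod]

variable [IsLocalRing R]

/-- the rank of a module of finite projective dimension over a Noetherian local ring is the same
at all associated primes of the ring -/
theorem exists_rank : ∀ (n : ℕ) (M : Type u) [AddCommGroup M] [Module R M] [Module.Finite R M],
    HasProjectiveDimensionLT (ModuleCat.of R M) (n + 1) →
    ∃ r : ℕ, ∀ (p : Ideal R) [p.IsPrime], p ∈ associatedPrimes R R →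
      Module.finrank (Localization.AtPrime p) (LocalizedModule p.primeCompl M) = r := by
  intro n
  induction n with
  | zero =>
    intro M _ _ _ h
    rw [← projective_iff_hasProjectiveDimensionLT_one, ← IsProjective.iff_projective] at h
    haveI : Module.Projective R M := h
    haveI : Module.Free R M := Module.free_of_flat_of_isLocalRing
    refine ⟨Module.finrank R M, fun p _ _ => ?_⟩
    exact Module.finrank_of_isLocalizedModule_of_free (Localization.AtPrime p) p.primeCompl
      (LocalizedModule.mkLinearMap p.primeCompl M)
  | succ n ih =>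
    intro M _ _ _ h
    obtain ⟨m, f, hf⟩ := Module.Finite.exists_fin' R M
    have hS := LinearMap.shortExact_shortComplexKer hf
    have projA : Projective (f.shortComplexKer).X₂ :=
      ModuleCat.projective_of_categoryTheory_projective _
    have hK : HasProjectiveDimensionLT (ModuleCat.of R (LinearMap.ker f)) (n + 1) :=
      (hS.hasProjectiveDimensionLT_X₃_iff n projA).mp h
    obtain ⟨c, hc⟩ := ih (LinearMap.ker f) hK
    refine ⟨m - c, fun p _ hp => ?_⟩
    haveI : Module.Free (Localization.AtPrime p) (LocalizedModule p.primeCompl M) :=
      free_localization R M (n + 2) h p hp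
    haveI : Module.Free (Localization.AtPrime p) (LocalizedModule p.primeCompl (LinearMap.ker f)) :=
      free_localization R (LinearMap.ker f) (n + 1) hK p hp
    have h1 : Module.finrank (Localization.AtPrime p) (LocalizedModule p.primeCompl (Fin m → R)) =
        Module.finrank (Localization.AtPrime p) (LocalizedModule p.primeCompl (LinearMap.ker f)) +
        Module.finrank (Localization.AtPrime p) (LocalizedModule p.primeCompl M) :=
      finrank_add_of_exact R p.primeCompl (LinearMap.ker f).subtype f
        (LinearMap.ker f).injective_subtype hf (LinearMap.exact_subtype_ker_map f)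
    rw [hc p hp] at h1
    have h2 : Module.finrank (Localization.AtPrime p)
        (LocalizedModule p.primeCompl (Fin m → R)) = m := by
      rw [Module.finrank_of_isLocalizedModule_of_free (Localization.AtPrime p) p.primeCompl
        (LocalizedModule.mkLinearMap p.primeCompl (Fin m → R)), Module.finrank_fin_fun]
    omega

/-- at an associated prime containing `I`, the localisation of `I` (free) has rank zero -/
theorem finrank_eq_zero_of_le (I : Ideal R) (n : ℕ)
    (hpd : HasProjectiveDimensionLT (ModuleCat.of R I) n) (p : Ideal R) [p.IsPrime]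
    (hp : p ∈ associatedPrimes R R) (hIp : I ≤ p) :
    Module.finrank (Localization.AtPrime p) (LocalizedModule p.primeCompl I) = 0 := by
  classical
  haveI : Module.Free (Localization.AtPrime p) (LocalizedModule p.primeCompl I) :=
    free_localization R I n hpd p hp
  by_contra hne
  rw [Module.finrank_eq_card_chooseBasisIndex] at hne
  have hpos : 0 < Fintype.card (Module.Free.ChooseBasisIndex (Localization.AtPrime p)
      (LocalizedModule p.primeCompl I)) := Nat.pos_of_ne_zero hne
  obtain ⟨i⟩ := Fintype.card_pos_iff.1 hpos
  set b := Module.Free.chooseBasis (Localization.AtPrime p) (LocalizedModule p.primeCompl I)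
    with hb
  obtain ⟨hpprime, a, ha⟩ := (isAssociatedPrime_iff (M := R)).1 hp
  have hkey : algebraMap R (Localization.AtPrime p) a • b i = 0 := by
    induction hbi : b i using LocalizedModule.induction_on with
    | h m s =>
      rw [algebraMap_smul, LocalizedModule.smul'_mk]
      have hm0 : a • m = 0 := by
        apply Subtype.ext
        rw [Submodule.coe_smul, smul_eq_mul, Submodule.coe_zero]
        have h1 : (m : R) ∈ p := hIp m.2
        rw [ha, Submodule.mem_colon_singleton, Submodule.mem_bot, smul_eq_mul] at h1
        rw [mul_comm]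
        exact h1
      rw [hm0, LocalizedModule.zero_mk]
  have h0 : algebraMap R (Localization.AtPrime p) a = 0 := by
    have h1 := congrArg b.repr hkey
    rw [map_smul, b.repr_self, map_zero, Finsupp.smul_single, smul_eq_mul, mul_one] at h1
    have h2 := DFunLike.congr_fun h1 i
    simpa using h2
  rw [IsLocalization.map_eq_zero_iff p.primeCompl] at h0
  obtain ⟨t, ht⟩ := h0
  have h3 : (t : R) ∈ (⊥ : Submodule R R).colon {a} := by
    rw [Submodule.mem_colon_singleton, Submodule.mem_bot, smul_eq_mul]
    exact ht
  rw [← ha] at h3
  exact t.2 h3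

/-- **a nonzero ideal of finite projective dimension contains a nonzerodivisor** -/
theorem exists_nonZeroDivisor_mem (I : Ideal R) (hI : I ≠ ⊥) (n : ℕ)
    (hpd : HasProjectiveDimensionLT (ModuleCat.of R I) n) :
    ∃ x ∈ I, x ∈ nonZeroDivisors R := by
  by_contra hcon
  push Not at hcon
  have hsub : (I : Set R) ⊆ ⋃ p ∈ associatedPrimes R R, (p : Set R) := by
    rw [biUnion_associatedPrimes_eq_compl_nonZeroDivisors]
    intro x hx
    exact hcon x hx
  have hfin : (associatedPrimes R R).Finite := associatedPrimes.finite R R
  obtain ⟨p₀, hp₀, hIp₀⟩ := (Ideal.subset_union_prime_finite hfin 0 0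
    (fun p hp _ _ => (show IsAssociatedPrime p R from hp).isPrime)).1 hsub
  haveI : p₀.IsPrime := (show IsAssociatedPrime p₀ R from hp₀).isPrime
  have hpd' : HasProjectiveDimensionLT (ModuleCat.of R I) (n + 1) :=
    hasProjectiveDimensionLT_of_ge _ n (n + 1) (by omega)
  obtain ⟨r, hr⟩ := exists_rank R n I hpd'
  have hr0 : r = 0 := by
    rw [← hr p₀ hp₀]
    exact finrank_eq_zero_of_le R I n hpd p₀ hp₀ hIp₀
  subst hr0
  apply hI
  rw [eq_bot_iff]
  intro i hi
  rw [Submodule.mem_bot]
  by_contra hi0
  obtain ⟨P, hP, hle⟩ := exists_le_isAssociatedPrime_of_isNoetherianRing R (i : R) hi0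
  haveI : P.IsPrime := hP.isPrime
  haveI : Module.Free (Localization.AtPrime P) (LocalizedModule P.primeCompl I) :=
    free_localization R I n hpd P hP
  have hsubs : Subsingleton (LocalizedModule P.primeCompl I) :=
    (Module.finrank_eq_zero_iff_of_free (Localization.AtPrime P) _).1 (hr P hP)
  have h1 : LocalizedModule.mk (⟨i, hi⟩ : I) (1 : P.primeCompl) =
      LocalizedModule.mk (0 : I) (1 : P.primeCompl) := Subsingleton.elim _ _
  rw [LocalizedModule.mk_eq] at h1
  obtain ⟨u, hu⟩ := h1
  rw [one_smul, one_smul, smul_zero] at hu
  have hu' : (u : R) * i = 0 := by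
    have := congrArg Subtype.val hu
    simpa [Submonoid.smul_def] using this
  have h2 : (u : R) ∈ P := by
    apply hle
    rw [Submodule.mem_colon_singleton, Submodule.mem_bot, smul_eq_mul]
    exact hu'
  exact u.2 h2

end Rank

end Groth.Agent.Vasc9
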