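import Mathlib
import Groth.Agent.Lib.Vasc1_helper9
import Groth.Agent.Lib.RegQuotPD_helper7

/-!
# Vasconcelos' theorem, part 2 (helper9)

* `hasPDLT_map_quot`: if `x ∈ I` is a nonzerodivisor and there is a linear functional
  `c : I → R/I` with `c x = 1`, then `I/(x)` has finite projective dimension over `R/(x)`.
* `exists_regular_seq`: the inductive construction of a regular sequence.
APPEND-ONLY once landed.
-/

set_option autoImplicit false
universe u

namespace Groth.Agent.Vasc9

open IsLocalRing CategoryTheory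

section Step

variable {R : Type u} [CommRing R] (I : Ideal R) (x : R) (hx : x ∈ I)
  (c : I →ₗ[R] R ⧸ I)

/-- the `R`-module `I/xI` -/
abbrev QI : Type u := ↥I ⧸ (Ideal.span {x} • (⊤ : Submodule R ↥I))

/-- `I → I(R/x)` -/
noncomputable abbrev rho : ↥I →ₗ[R] ↥(I.map (algebraMap R (R ⧸ Ideal.span {x}))) :=
  Algebra.idealMap (R ⧸ Ideal.span {x}) I

theorem rho_surjective : Function.Surjective (rho I x) := by
  rintro ⟨y, hy⟩
  rw [Ideal.Quotient.algebraMap_eq,
    Ideal.mem_map_iff_of_surjective _ Ideal.Quotient.mk_surjective] at hy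
  obtain ⟨i, hi, rfl⟩ := hy
  exact ⟨⟨i, hi⟩, rfl⟩

theorem rho_smul_x (i : I) : rho I x (x • i) = 0 := by
  apply Subtype.ext
  show Ideal.Quotient.mk (Ideal.span {x}) ((x • i : I) : R) = 0
  rw [Ideal.Quotient.eq_zero_iff_mem, Submodule.coe_smul, smul_eq_mul]
  exact Ideal.mul_mem_right _ _ (Ideal.subset_span rfl)

/-- `I/xI → I(R/x)` -/
noncomputable def piMap : QI I x →ₗ[R] ↥(I.map (algebraMap R (R ⧸ Ideal.span {x}))) :=
  Submodule.liftQ _ (rho I x) (by
    rw [Submodule.ideal_span_singleton_smul]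
    rintro _ ⟨i, -, rfl⟩
    rw [LinearMap.mem_ker]
    exact rho_smul_x I x i)

theorem piMap_mk (i : I) : piMap I x (Submodule.Quotient.mk i) = rho I x i := rfl

/-- `R/I → I/xI`, `a ↦ a x` -/
noncomputable def tauMap : (R ⧸ I) →ₗ[R] QI I x :=
  Submodule.liftQ I (LinearMap.toSpanSingleton R (QI I x) (Submodule.Quotient.mk ⟨x, hx⟩)) (by
    intro a ha
    rw [LinearMap.mem_ker, LinearMap.toSpanSingleton_apply, ← Submodule.Quotient.mk_smul,
      Submodule.Quotient.mk_eq_zero, Submodule.ideal_span_singleton_smul]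
    refine ⟨⟨a, ha⟩, trivial, ?_⟩
    apply Subtype.ext
    simp [mul_comm])

theorem tauMap_mk (a : R) :
    tauMap I x hx (Ideal.Quotient.mk I a) = a • Submodule.Quotient.mk ⟨x, hx⟩ := rfl

theorem piMap_tauMap (z : R ⧸ I) : piMap I x (tauMap I x hx z) = 0 := by
  obtain ⟨a, rfl⟩ := Ideal.Quotient.mk_surjective z
  rw [tauMap_mk, map_smul, piMap_mk]
  have h0 : rho I x ⟨x, hx⟩ = 0 := by
    apply Subtype.ext
    show Ideal.Quotient.mk (Ideal.span {x}) x = 0
    rw [Ideal.Quotient.eq_zero_iff_mem]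
    exact Ideal.subset_span rfl
  rw [h0, smul_zero]

/-- `I → I/xI`, `z ↦ z - c(z) x` -/
noncomputable def eMap : ↥I →ₗ[R] QI I x :=
  Submodule.mkQ _ - (tauMap I x hx).comp c

theorem ker_rho_le (hc : c ⟨x, hx⟩ = 1) : LinearMap.ker (rho I x) ≤ LinearMap.ker (eMap I x hx c) := by
  intro i hi
  rw [LinearMap.mem_ker] at hi ⊢
  have h1 : ((rho I x i : ↥(I.map (algebraMap R (R ⧸ Ideal.span {x}))) ) : R ⧸ Ideal.span {x}) = 0 := by
    rw [hi]; rfl
  have h2 : Ideal.Quotient.mk (Ideal.span {x}) (i : R) = 0 := h1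
  rw [Ideal.Quotient.eq_zero_iff_mem, Ideal.mem_span_singleton'] at h2
  obtain ⟨a, ha⟩ := h2
  have hi' : i = a • (⟨x, hx⟩ : I) := by
    apply Subtype.ext
    rw [Submodule.coe_smul, smul_eq_mul]
    exact ha.symm
  unfold eMap
  rw [LinearMap.sub_apply, LinearMap.comp_apply, hi', map_smul, map_smul, hc]
  have h3 : a • (1 : R ⧸ I) = Ideal.Quotient.mk I a := by
    rw [Algebra.smul_def, mul_one]; rfl
  rw [h3, tauMap_mk, Submodule.mkQ_apply, sub_self]

/-- the section `I(R/x) → I/xI` -/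
noncomputable def sMap (hc : c ⟨x, hx⟩ = 1) :
    ↥(I.map (algebraMap R (R ⧸ Ideal.span {x}))) →ₗ[R] QI I x :=
  ((LinearMap.ker (rho I x)).liftQ (eMap I x hx c) (ker_rho_le I x hx c hc)).comp
    ((rho I x).quotKerEquivOfSurjective (rho_surjective I x)).symm.toLinearMap

theorem sMap_rho (hc : c ⟨x, hx⟩ = 1) (i : I) :
    sMap I x hx c hc (rho I x i) = eMap I x hx c i := by
  unfold sMap
  rw [LinearMap.comp_apply]
  have h1 : ((rho I x).quotKerEquivOfSurjective (rho_surjective I x)).symm.toLinearMap (rho I x i) =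
      Submodule.Quotient.mk i := by
    rw [LinearEquiv.coe_coe, LinearEquiv.symm_apply_eq]
    rfl
  rw [h1]
  rfl

theorem piMap_sMap (hc : c ⟨x, hx⟩ = 1) (y : ↥(I.map (algebraMap R (R ⧸ Ideal.span {x})))) :
    piMap I x (sMap I x hx c hc y) = y := by
  obtain ⟨i, rfl⟩ := rho_surjective I x y
  rw [sMap_rho]
  unfold eMap
  rw [LinearMap.sub_apply, map_sub, LinearMap.comp_apply, piMap_tauMap, sub_zero,
    Submodule.mkQ_apply, piMap_mk]

/-- **key step**: `I/(x)` has finite projective dimension over `R/(x)` -/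
theorem hasPDLT_map_quot (hc : c ⟨x, hx⟩ = 1) (hreg : IsSMulRegular R x) (n : ℕ)
    (hpd : HasProjectiveDimensionLT (ModuleCat.of R I) n) :
    HasProjectiveDimensionLT (ModuleCat.of (R ⧸ Ideal.span {x})
      ↥(I.map (algebraMap R (R ⧸ Ideal.span {x})))) n := by
  have hsurj : Function.Surjective (algebraMap R (R ⧸ Ideal.span {x})) :=
    Ideal.Quotient.mk_surjective
  have hE : IsSMulRegular ↥I x := by
    intro a b hab
    apply Subtype.ext
    apply hreg
    have := congrArg Subtype.val hab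
    simpa using this
  have h1 := Groth.Agent.Lib.RegQuotPDH7.pd_quot_le x ↥I hreg hE
  have h2 : HasProjectiveDimensionLT (ModuleCat.of (R ⧸ Ideal.span {x}) (QI I x)) n := by
    rw [← projectiveDimension_lt_iff] at hpd ⊢
    exact lt_of_le_of_lt h1 hpd
  let s' : ↥(I.map (algebraMap R (R ⧸ Ideal.span {x}))) →ₗ[R ⧸ Ideal.span {x}] QI I x :=
    (sMap I x hx c hc).extendScalarsOfSurjective hsurj
  let π' : QI I x →ₗ[R ⧸ Ideal.span {x}] ↥(I.map (algebraMap R (R ⧸ Ideal.span {x}))) :=
    (piMap I x).extendScalarsOfSurjective hsurj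
  let r : Retract (ModuleCat.of (R ⧸ Ideal.span {x}) ↥(I.map (algebraMap R (R ⧸ Ideal.span {x}))))
      (ModuleCat.of (R ⧸ Ideal.span {x}) (QI I x)) :=
    { i := ModuleCat.ofHom s'
      r := ModuleCat.ofHom π'
      retract := by
        apply ModuleCat.hom_ext
        apply LinearMap.ext
        intro y
        exact piMap_sMap I x hx c hc y }
  exact r.hasProjectiveDimensionLT n

theorem exists_smul_of_rho_eq_zero (i : I) (hi : rho I x i = 0) :
    ∃ a : R, i = a • (⟨x, hx⟩ : I) := by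
  have h1 : ((rho I x i : ↥(I.map (algebraMap R (R ⧸ Ideal.span {x}))) ) : R ⧸ Ideal.span {x}) = 0 := by
    rw [hi]; rfl
  have h2 : Ideal.Quotient.mk (Ideal.span {x}) (i : R) = 0 := h1
  rw [Ideal.Quotient.eq_zero_iff_mem, Ideal.mem_span_singleton'] at h2
  obtain ⟨a, ha⟩ := h2
  refine ⟨a, ?_⟩
  apply Subtype.ext
  rw [Submodule.coe_smul, smul_eq_mul]
  exact ha.symm

/-- `R/I → (R/x)/(I(R/x))` -/
noncomputable def psi : (R ⧸ I) →ₗ[R]
    ((R ⧸ Ideal.span {x}) ⧸ I.map (algebraMap R (R ⧸ Ideal.span {x}))) :=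
  Submodule.liftQ I
    (((Submodule.mkQ (I.map (algebraMap R (R ⧸ Ideal.span {x})))).restrictScalars R).comp
      (Algebra.linearMap R (R ⧸ Ideal.span {x}))) (by
    intro a ha
    rw [LinearMap.mem_ker, LinearMap.comp_apply, LinearMap.restrictScalars_apply,
      Submodule.mkQ_apply, Submodule.Quotient.mk_eq_zero]
    exact Ideal.mem_map_of_mem _ ha)

theorem psi_mk (a : R) : psi I x (Ideal.Quotient.mk I a) =
    Ideal.Quotient.mk _ (Ideal.Quotient.mk (Ideal.span {x}) a) := rfl

theorem psi_one : psi I x 1 = 1 := psi_mk I x 1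

/-- descent of a functional vanishing at `x` to `I(R/x)` -/
noncomputable def cDesc (d : I →ₗ[R] R ⧸ I) (hd : d ⟨x, hx⟩ = 0) :
    ↥(I.map (algebraMap R (R ⧸ Ideal.span {x}))) →ₗ[R ⧸ Ideal.span {x}]
      ((R ⧸ Ideal.span {x}) ⧸ I.map (algebraMap R (R ⧸ Ideal.span {x}))) :=
  (((LinearMap.ker (rho I x)).liftQ ((psi I x).comp d) (by
      intro i hi
      rw [LinearMap.mem_ker] at hi ⊢
      obtain ⟨a, rfl⟩ := exists_smul_of_rho_eq_zero I x hx i hi
      rw [LinearMap.comp_apply, map_smul, hd, smul_zero, map_zero])).comp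
    ((rho I x).quotKerEquivOfSurjective (rho_surjective I x)).symm.toLinearMap).extendScalarsOfSurjective
      (Ideal.Quotient.mk_surjective : Function.Surjective (algebraMap R (R ⧸ Ideal.span {x})))

theorem cDesc_rho (d : I →ₗ[R] R ⧸ I) (hd : d ⟨x, hx⟩ = 0) (i : I) :
    cDesc I x hx d hd (rho I x i) = psi I x (d i) := by
  unfold cDesc
  rw [LinearMap.extendScalarsOfSurjective_apply, LinearMap.comp_apply]
  have h1 : ((rho I x).quotKerEquivOfSurjective (rho_surjective I x)).symm.toLinearMap (rho I x i) =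
      Submodule.Quotient.mk i := by
    rw [LinearEquiv.coe_coe, LinearEquiv.symm_apply_eq]
    rfl
  rw [h1]
  rfl

/-- functionals `I → R/I` kill `I²` -/
theorem functional_sq_zero (d : I →ₗ[R] R ⧸ I) (j : I) (hj : (j : R) ∈ I ^ 2) : d j = 0 := by
  have hle : I ^ 2 ≤ (LinearMap.ker d).map I.subtype := by
    rw [pow_two, Ideal.mul_le]
    intro a ha b hb
    refine ⟨a • (⟨b, hb⟩ : I), ?_, by simp⟩
    rw [SetLike.mem_coe, LinearMap.mem_ker, map_smul]
    have h0 : a • d ⟨b, hb⟩ = Ideal.Quotient.mk I a * d ⟨b, hb⟩ := by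
      rw [Algebra.smul_def]; rfl
    rw [h0, Ideal.Quotient.eq_zero_iff_mem.2 ha, zero_mul]
  obtain ⟨k, hk, hkj⟩ := hle hj
  have : k = j := Subtype.ext hkj
  rw [← this]
  exact hk

end Step

section Induction

/-- **Vasconcelos, inductive form**: elements `y i ∈ I` with dual functionals `c i : I → R/I`
can be corrected modulo `I²` to a (weakly) regular sequence. -/
theorem exists_weaklyRegular : ∀ (r : ℕ) (R : Type u) [CommRing R] [IsNoetherianRing R]
    [IsLocalRing R] (I : Ideal R) (_ : I ≠ ⊤) (n : ℕ)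
    (_ : HasProjectiveDimensionLT (ModuleCat.of R I) n)
    (y : Fin r → I) (c : Fin r → (I →ₗ[R] R ⧸ I))
    (_ : ∀ i j, c i (y j) = if i = j then 1 else 0),
    ∃ x : Fin r → R, (∀ i, x i - (y i : R) ∈ I ^ 2) ∧
      RingTheory.Sequence.IsWeaklyRegular R (List.ofFn x) := by
  intro r
  induction r with
  | zero =>
    intro R _ _ _ I hI n hpd y c hcy
    refine ⟨Fin.elim0, fun i => i.elim0, ?_⟩
    rw [List.ofFn_zero]
    exact RingTheory.Sequence.IsWeaklyRegular.nil R R
  | succ r ih =>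
    intro R _ _ _ I hI n hpd y c hcy
    haveI : Nontrivial (R ⧸ I) := Ideal.Quotient.nontrivial_iff.2 hI
    have hI0 : I ≠ ⊥ := by
      intro h
      have h1 := hcy 0 0
      rw [if_pos rfl] at h1
      have h2 : y 0 = 0 := by
        apply Subtype.ext
        have h3 : ((y 0 : I) : R) ∈ (⊥ : Ideal R) := h ▸ (y 0).2
        simpa using h3
      rw [h2, map_zero] at h1
      exact zero_ne_one h1
    obtain ⟨z, hzI, hz⟩ := exists_nonZeroDivisor_mem R I hI0 n hpd
    have hfin : (associatedPrimes R R).Finite := associatedPrimes.finite R R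
    obtain ⟨j, hj, hjp⟩ := exists_add_not_mem ((y 0 : I) : R) (I ^ 2) hfin.toFinset
      (fun p hp => (show IsAssociatedPrime p R from hfin.mem_toFinset.1 hp).isPrime)
      (fun p hp h12 => by
        have hp' : p ∈ associatedPrimes R R := hfin.mem_toFinset.1 hp
        haveI : p.IsPrime := (show IsAssociatedPrime p R from hp').isPrime
        have hIp : I ≤ p := Ideal.IsPrime.le_of_pow_le h12.2
        have hzp : z ∈ p := hIp hzI
        have : z ∈ (nonZeroDivisors R : Set R)ᶜ := by
          rw [← biUnion_associatedPrimes_eq_compl_nonZeroDivisors]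
          exact Set.mem_biUnion hp' hzp
        exact this hz)
    set x0 : R := ((y 0 : I) : R) + j with hx0
    have hjI : j ∈ I := Ideal.pow_le_self two_ne_zero hj
    have hx0I : x0 ∈ I := I.add_mem (y 0).2 hjI
    have hx0nzd : x0 ∈ nonZeroDivisors R := by
      by_contra h
      have h' : x0 ∈ (nonZeroDivisors R : Set R)ᶜ := h
      rw [← biUnion_associatedPrimes_eq_compl_nonZeroDivisors] at h'
      obtain ⟨p, hp, hxp⟩ := Set.mem_iUnion₂.1 h'
      exact hjp p (hfin.mem_toFinset.2 hp) hxp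
    have hreg : IsSMulRegular R x0 := by
      rw [← isLeftRegular_iff]
      exact (isRegular_iff_mem_nonZeroDivisors.2 hx0nzd).left
    have hcx0 : ∀ i, c i ⟨x0, hx0I⟩ = if i = 0 then 1 else 0 := by
      intro i
      have h1 : (⟨x0, hx0I⟩ : I) = y 0 + ⟨j, hjI⟩ := Subtype.ext rfl
      rw [h1, map_add, functional_sq_zero I (c i) ⟨j, hjI⟩ hj, add_zero, hcy i 0]
    have hspan : Ideal.span {x0} ≠ ⊤ := by
      intro h
      apply hI
      rw [eq_top_iff, ← h, Ideal.span_singleton_le_iff_mem]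
      exact hx0I
    haveI : Nontrivial (R ⧸ Ideal.span {x0}) := Ideal.Quotient.nontrivial_iff.2 hspan
    haveI : IsLocalRing (R ⧸ Ideal.span {x0}) :=
      IsLocalRing.of_surjective' (Ideal.Quotient.mk _) Ideal.Quotient.mk_surjective
    have hI' : I.map (algebraMap R (R ⧸ Ideal.span {x0})) ≠ ⊤ := by
      intro h
      apply hI
      have h1 : (1 : R ⧸ Ideal.span {x0}) ∈ I.map (algebraMap R (R ⧸ Ideal.span {x0})) := by
        rw [h]; trivial
      rw [Ideal.Quotient.algebraMap_eq,
        Ideal.mem_map_iff_of_surjective _ Ideal.Quotient.mk_surjective] at h1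
      obtain ⟨i, hi, hi1⟩ := h1
      rw [← map_one (Ideal.Quotient.mk (Ideal.span {x0})), Ideal.Quotient.eq,
        Ideal.mem_span_singleton'] at hi1
      obtain ⟨a, ha⟩ := hi1
      rw [Ideal.eq_top_iff_one]
      have h2 : (1 : R) = i - a * x0 := by rw [ha]; ring
      rw [h2]
      exact I.sub_mem hi (I.mul_mem_left _ hx0I)
    have hpd' := hasPDLT_map_quot I x0 hx0I (c 0) (by rw [hcx0 0, if_pos rfl]) hreg n hpd
    obtain ⟨x', hx'y, hx'reg⟩ := ih (R ⧸ Ideal.span {x0})
      (I.map (algebraMap R (R ⧸ Ideal.span {x0}))) hI' n hpd'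
      (fun k => rho I x0 (y k.succ))
      (fun k => cDesc I x0 hx0I (c k.succ) (by rw [hcx0, if_neg (Fin.succ_ne_zero k)]))
      (by
        intro i k
        rw [cDesc_rho, hcy]
        by_cases hik : i = k
        · rw [if_pos hik, if_pos (by rw [hik]), psi_one]
        · rw [if_neg hik, if_neg (fun h => hik (Fin.succ_injective _ h)), map_zero])
    have hlift : ∀ k : Fin r, ∃ jk ∈ I ^ 2,
        Ideal.Quotient.mk (Ideal.span {x0}) (((y k.succ : I) : R) + jk) = x' k := by
      intro k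
      have h1 := hx'y k
      rw [← Ideal.map_pow] at h1
      have hs : Function.Surjective (algebraMap R (R ⧸ Ideal.span {x0})) :=
        Ideal.Quotient.mk_surjective
      obtain ⟨jk, hjk, hjk'⟩ :=
        (Ideal.mem_map_iff_of_surjective (algebraMap R (R ⧸ Ideal.span {x0})) hs).1 h1
      have hjk'' : Ideal.Quotient.mk (Ideal.span {x0}) jk =
        x' k - ((rho I x0 (y k.succ) : ↥(I.map (algebraMap R (R ⧸ Ideal.span {x0})))) :
          R ⧸ Ideal.span {x0}) := hjk'
      refine ⟨jk, hjk, ?_⟩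
      rw [map_add, hjk'']
      have h3 : ((rho I x0 (y k.succ) : ↥(I.map (algebraMap R (R ⧸ Ideal.span {x0})))) :
          R ⧸ Ideal.span {x0}) = Ideal.Quotient.mk (Ideal.span {x0}) ((y k.succ : I) : R) := rfl
      rw [h3]
      ring
    choose jj hjj hjj' using hlift
    refine ⟨Fin.cons x0 (fun k => ((y k.succ : I) : R) + jj k), ?_, ?_⟩
    · intro i
      refine Fin.cases ?_ (fun k => ?_) i
      · rw [Fin.cons_zero, hx0, add_sub_cancel_left]
        exact hj
      · rw [Fin.cons_succ, add_sub_cancel_left]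
        exact hjj k
    · rw [List.ofFn_succ]
      simp only [Fin.cons_zero, Fin.cons_succ]
      rw [RingTheory.Sequence.isWeaklyRegular_cons_iff']
      refine ⟨hreg, ?_⟩
      have hmap : (List.ofFn fun k => ((y k.succ : I) : R) + jj k).map
          (Ideal.Quotient.mk (Ideal.span {x0})) = List.ofFn x' := by
        rw [List.map_ofFn]
        congr 1
        funext k
        exact hjj' k
      rw [hmap]
      let e₀ : (QuotSMulTop x0 R) ≃ₗ[R] (R ⧸ Ideal.span {x0}) :=
        Submodule.quotEquivOfEq _ _ (by simp [← Submodule.ideal_span_singleton_smul])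
      let e₁ : (QuotSMulTop x0 R) ≃ₗ[R ⧸ Ideal.span {x0}] (R ⧸ Ideal.span {x0}) :=
        e₀.extendScalarsOfSurjective Ideal.Quotient.mk_surjective
      exact (e₁.isWeaklyRegular_congr _).2 hx'reg

end Induction

end Groth.Agent.Vasc9
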