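import Mathlib
import Groth.Agent.Lib.Vasc2_helper9

/-!
# Vasconcelos' theorem, part 3 (helper9): free summands of the conormal module
APPEND-ONLY once landed.
-/

set_option autoImplicit false
universe u

namespace Groth.Agent.Vasc9

open IsLocalRing CategoryTheory

section Summand

variable {R : Type u} [CommRing R] [IsNoetherianRing R] [IsLocalRing R] (I : Ideal R)

/-- **Vasconcelos**: a free direct summand of rank `r` of `I/I²` is generated by the classes of a
regular sequence in `I` (for `I` of finite projective dimension). -/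
theorem exists_regular_of_summand (hI : I ≠ ⊤) (n : ℕ)
    (hpd : HasProjectiveDimensionLT (ModuleCat.of R I) n)
    (F G : Submodule (R ⧸ I) I.Cotangent) (hFG : IsCompl F G) (r : ℕ)
    (e : F ≃ₗ[R ⧸ I] (Fin r → R ⧸ I)) :
    ∃ (x : Fin r → R) (hx : ∀ i, x i ∈ I), RingTheory.Sequence.IsRegular R (List.ofFn x) ∧
      Submodule.span (R ⧸ I) (Set.range fun i => I.toCotangent ⟨x i, hx i⟩) = F := by
  classical
  set b : Module.Basis (Fin r) (R ⧸ I) F := (Pi.basisFun (R ⧸ I) (Fin r)).map e.symm with hb
  have hbe : ∀ i j, e (b j) i = if i = j then 1 else 0 := by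
    intro i j
    rw [hb, Module.Basis.map_apply, LinearEquiv.apply_symm_apply, Pi.basisFun_apply,
      Pi.single_apply]
  have hlift : ∀ i, ∃ y : I, I.toCotangent y = (b i : I.Cotangent) :=
    fun i => I.toCotangent_surjective _
  choose y hy using hlift
  let proj : I.Cotangent →ₗ[R ⧸ I] F := Submodule.projectionOnto F G hFG
  let c : Fin r → (I →ₗ[R] R ⧸ I) := fun i =>
    (((LinearMap.proj i).comp (e.toLinearMap.comp proj)).restrictScalars R).comp I.toCotangent
  have hcy : ∀ i j, c i (y j) = if i = j then 1 else 0 := by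
    intro i j
    show e (proj (I.toCotangent (y j))) i = _
    rw [hy j, Submodule.projectionOnto_apply_left hFG (b j), hbe]
  obtain ⟨x, hxy, hxreg⟩ := exists_weaklyRegular r R I hI n hpd y c hcy
  have hxI : ∀ i, x i ∈ I := by
    intro i
    have h1 : x i = (x i - (y i : R)) + (y i : R) := by ring
    rw [h1]
    exact I.add_mem (Ideal.pow_le_self two_ne_zero (hxy i)) (y i).2
  have hcot : ∀ i, I.toCotangent ⟨x i, hxI i⟩ = (b i : I.Cotangent) := by
    intro i
    rw [← hy i, Ideal.toCotangent_eq]
    exact hxy i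
  refine ⟨x, hxI, ⟨hxreg, ?_⟩, ?_⟩
  · intro htop
    apply hI
    rw [eq_top_iff]
    have h1 : (Ideal.ofList (List.ofFn x) • (⊤ : Submodule R R)) ≤ I := by
      rw [smul_eq_mul, Ideal.mul_top]
      unfold Ideal.ofList
      rw [Ideal.span_le]
      intro a ha
      obtain ⟨i, rfl⟩ := (List.mem_ofFn' x a).1 ha
      exact hxI i
    rw [← htop] at h1
    exact h1
  · have h1 : (fun i => I.toCotangent ⟨x i, hxI i⟩) = F.subtype ∘ b := by
      funext i
      exact hcot i
    rw [h1, Set.range_comp, ← Submodule.map_span, b.span_eq, Submodule.map_subtype_top]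

end Summand

end Groth.Agent.Vasc9
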