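import Mathlib
import Groth.Agent.Lib.Vasc3_helper9

/-!
# Vasconcelos' theorem, part 4 (helper9): ideals with free conormal module over a local ring
APPEND-ONLY once landed.
-/

set_option autoImplicit false
universe u

namespace Groth.Agent.Vasc9

open IsLocalRing CategoryTheory

section Local

variable {S : Type u} [CommRing S] [IsNoetherianRing S] [IsLocalRing S] (J : Ideal S)

/-- **Vasconcelos, local form**: an ideal of finite projective dimension with free conormal module
is generated by a regular sequence. -/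
theorem exists_regular_generators_local (hJ : J ≠ ⊤) (n : ℕ)
    (hpd : HasProjectiveDimensionLT (ModuleCat.of S J) n) [Module.Free (S ⧸ J) J.Cotangent] :
    ∃ (r : ℕ) (x : Fin r → S), RingTheory.Sequence.IsRegular S (List.ofFn x) ∧
      Ideal.span (Set.range x) = J := by
  haveI : Nontrivial (S ⧸ J) := Ideal.Quotient.nontrivial_iff.2 hJ
  haveI : Module.Finite S J.Cotangent :=
    Module.Finite.of_surjective J.toCotangent J.toCotangent_surjective
  haveI : Module.Finite (S ⧸ J) J.Cotangent := Module.Finite.of_restrictScalars_finite S _ _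
  set r := Module.finrank (S ⧸ J) J.Cotangent with hr
  let b : Module.Basis (Fin r) (S ⧸ J) J.Cotangent := Module.finBasis (S ⧸ J) J.Cotangent
  let e : (⊤ : Submodule (S ⧸ J) J.Cotangent) ≃ₗ[S ⧸ J] (Fin r → S ⧸ J) :=
    (Submodule.topEquiv).trans b.equivFun
  obtain ⟨x, hx, hreg, hspan⟩ :=
    exists_regular_of_summand J hJ n hpd ⊤ ⊥ isCompl_top_bot r e
  refine ⟨r, x, hreg, ?_⟩
  apply le_antisymm
  · rw [Ideal.span_le]
    rintro _ ⟨i, rfl⟩
    exact hx i
  · apply Submodule.le_of_le_smul_of_le_jacobson_bot (IsNoetherian.noetherian J)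
      (le_trans (IsLocalRing.le_maximalIdeal hJ) (IsLocalRing.maximalIdeal_le_jacobson ⊥))
    intro j hj
    have h1 : J.toCotangent ⟨j, hj⟩ ∈
        Submodule.span (S ⧸ J) (Set.range fun i => J.toCotangent ⟨x i, hx i⟩) := by
      rw [hspan]; trivial
    have key : ∀ m ∈ Submodule.span (S ⧸ J) (Set.range fun i => J.toCotangent ⟨x i, hx i⟩),
        ∃ (w : S) (_ : w ∈ Ideal.span (Set.range x)) (hw : w ∈ J), J.toCotangent ⟨w, hw⟩ = m := by
      intro m hm
      induction hm using Submodule.span_induction with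
      | mem m hm =>
        obtain ⟨i, rfl⟩ := hm
        exact ⟨x i, Ideal.subset_span ⟨i, rfl⟩, hx i, rfl⟩
      | zero => exact ⟨0, Submodule.zero_mem _, J.zero_mem, map_zero _⟩
      | add m₁ m₂ _ _ ih₁ ih₂ =>
        obtain ⟨w₁, hw₁, hw₁J, rfl⟩ := ih₁
        obtain ⟨w₂, hw₂, hw₂J, rfl⟩ := ih₂
        refine ⟨w₁ + w₂, Submodule.add_mem _ hw₁ hw₂, J.add_mem hw₁J hw₂J, ?_⟩
        rw [← map_add]
        rfl
      | smul a m _ ih =>
        obtain ⟨w, hw, hwJ, rfl⟩ := ih
        obtain ⟨a, rfl⟩ := Ideal.Quotient.mk_surjective a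
        refine ⟨a * w, Ideal.mul_mem_left _ _ hw, J.mul_mem_left _ hwJ, ?_⟩
        have h3 : (Ideal.Quotient.mk J a) • J.toCotangent ⟨w, hwJ⟩ = a • J.toCotangent ⟨w, hwJ⟩ := by
          rw [← Ideal.Quotient.algebraMap_eq, algebraMap_smul]
        rw [h3, ← map_smul]
        rfl
    obtain ⟨w, hw, hwJ, hwj⟩ := key _ h1
    rw [Ideal.toCotangent_eq] at hwj
    have h4 : j = w + (j - w) := by ring
    rw [h4]
    apply Submodule.add_mem_sup hw
    have h5 : j - w ∈ J ^ 2 := by
      have := (J ^ 2).neg_mem hwj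
      simpa using this
    rw [pow_two] at h5
    exact h5

end Local

section CotLoc

variable {R : Type u} [CommRing R] (I : Ideal R) (M : Submonoid R) (Rp : Type u) [CommRing Rp]
  [Algebra R Rp] [IsLocalization M Rp]

/-- the `R/I`-module structure on the conormal module of `I Rp` -/
@[reducible] noncomputable def cotModule :
    Module (R ⧸ I) (I.map (algebraMap R Rp)).Cotangent :=
  Module.compHom _ (algebraMap (R ⧸ I) (Rp ⧸ I.map (algebraMap R Rp)))

attribute [local instance] cotModule

instance cotTower : IsScalarTower (R ⧸ I) (Rp ⧸ I.map (algebraMap R Rp))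
    (I.map (algebraMap R Rp)).Cotangent :=
  IsScalarTower.of_algebraMap_smul fun _ _ => rfl

theorem mk_smul_cot (a : R) (m : (I.map (algebraMap R Rp)).Cotangent) :
    (Ideal.Quotient.mk I a) • m = a • m := by
  obtain ⟨w, rfl⟩ := Ideal.toCotangent_surjective _ m
  show (algebraMap (R ⧸ I) (Rp ⧸ I.map (algebraMap R Rp)) (Ideal.Quotient.mk I a)) •
    (I.map (algebraMap R Rp)).toCotangent w = _
  have h1 : algebraMap (R ⧸ I) (Rp ⧸ I.map (algebraMap R Rp)) (Ideal.Quotient.mk I a) =
      Ideal.Quotient.mk _ (algebraMap R Rp a) := rfl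
  rw [h1, ← Ideal.Quotient.algebraMap_eq, algebraMap_smul, algebraMap_smul]

/-- the canonical map `I/I² → (I Rp)/(I Rp)²`, linear over `R/I` -/
noncomputable def cotMap : I.Cotangent →ₗ[R ⧸ I] (I.map (algebraMap R Rp)).Cotangent :=
  { toFun := Ideal.mapCotangent I (I.map (algebraMap R Rp)) (Algebra.ofId R Rp) Ideal.le_comap_map
    map_add' := map_add _
    map_smul' := by
      intro a m
      obtain ⟨a, rfl⟩ := Ideal.Quotient.mk_surjective a
      rw [RingHom.id_apply, mk_smul_cot, ← Ideal.Quotient.algebraMap_eq, algebraMap_smul,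
        map_smul] }

theorem cotMap_toCotangent (i : I) :
    cotMap I Rp (I.toCotangent i) = (I.map (algebraMap R Rp)).toCotangent
      ⟨algebraMap R Rp i, Ideal.mem_map_of_mem _ i.2⟩ := rfl

include M in
theorem cotMap_isLocalizedModule :
    IsLocalizedModule (Algebra.algebraMapSubmonoid (R ⧸ I) M) (cotMap I Rp) where
  map_units := by
    rintro ⟨t, s, hs, rfl⟩
    have hu : IsUnit (algebraMap R Rp s) := IsLocalization.map_units Rp ⟨s, hs⟩
    rw [Module.End.isUnit_iff]
    have hact : ∀ m : (I.map (algebraMap R Rp)).Cotangent,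
        (algebraMap (R ⧸ I) (Module.End (R ⧸ I) (I.map (algebraMap R Rp)).Cotangent)
          (algebraMap R (R ⧸ I) s)) m = (algebraMap R Rp s) • m := by
      intro m
      rw [Module.algebraMap_end_apply, Ideal.Quotient.algebraMap_eq, mk_smul_cot, algebraMap_smul]
    have h3 : ∀ m : (I.map (algebraMap R Rp)).Cotangent,
        ((hu.unit⁻¹ : Rpˣ) : Rp) • (algebraMap R Rp s • m) = m := by
      intro m
      rw [smul_smul, IsUnit.val_inv_mul, one_smul]
    constructor
    · intro m₁ m₂ h
      rw [hact, hact] at h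
      rw [← h3 m₁, h, h3]
    · intro m
      refine ⟨((hu.unit⁻¹ : Rpˣ) : Rp) • m, ?_⟩
      rw [hact, smul_smul, IsUnit.mul_val_inv, one_smul]
  surj := by
    intro n
    obtain ⟨⟨w, hw⟩, rfl⟩ := Ideal.toCotangent_surjective _ n
    obtain ⟨⟨i, s⟩, his⟩ := (IsLocalization.mem_map_algebraMap_iff M Rp).1 hw
    refine ⟨⟨I.toCotangent i,
      ⟨algebraMap R (R ⧸ I) s, Algebra.mem_algebraMapSubmonoid_of_mem s⟩⟩, ?_⟩
    rw [cotMap_toCotangent]
    dsimp only
    rw [Submonoid.smul_def]
    show (Ideal.Quotient.mk I (s : R)) • _ = _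
    rw [mk_smul_cot, ← LinearMap.map_smul_of_tower]
    congr 1
    apply Subtype.ext
    show (s : R) • w = algebraMap R Rp i
    rw [Algebra.smul_def, mul_comm]
    exact his
  exists_of_eq := by
    intro m₁ m₂ h
    obtain ⟨i₁, rfl⟩ := I.toCotangent_surjective m₁
    obtain ⟨i₂, rfl⟩ := I.toCotangent_surjective m₂
    rw [cotMap_toCotangent, cotMap_toCotangent, Ideal.toCotangent_eq] at h
    have h1 : algebraMap R Rp ((i₁ : R) - i₂) ∈ (I ^ 2).map (algebraMap R Rp) := by
      rw [Ideal.map_pow, map_sub]
      exact h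
    obtain ⟨⟨b, s⟩, hbs⟩ := (IsLocalization.mem_map_algebraMap_iff M Rp).1 h1
    rw [← map_mul, IsLocalization.eq_iff_exists M] at hbs
    obtain ⟨s', hs'⟩ := hbs
    refine ⟨⟨algebraMap R (R ⧸ I) ((s' * s : M) : R),
      Algebra.mem_algebraMapSubmonoid_of_mem (s' * s)⟩, ?_⟩
    rw [Submonoid.smul_def, Submonoid.smul_def, algebraMap_smul, algebraMap_smul, ← map_smul,
      ← map_smul, Ideal.toCotangent_eq]
    have h2 : ((((((s' * s : M) : R)) • i₁ : I) : R) - (((((s' * s : M) : R)) • i₂ : I) : R)) =
        s' * (((i₁ : R) - i₂) * s) := by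
      simp only [Submodule.coe_smul, smul_eq_mul, Submonoid.coe_mul]
      ring
    rw [h2, hs']
    exact Ideal.mul_mem_left _ _ b.2

/-- the conormal module of `I R_p` is free when `I/I²` is projective -/
theorem free_cotangent_atPrime [IsNoetherianRing R] [Module.Projective (R ⧸ I) I.Cotangent]
    (p : Ideal R) [p.IsPrime] (hIp : I ≤ p) :
    Module.Free (Localization.AtPrime p ⧸ I.map (algebraMap R (Localization.AtPrime p)))
      (I.map (algebraMap R (Localization.AtPrime p))).Cotangent := by
  set J := I.map (algebraMap R (Localization.AtPrime p)) with hJ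
  haveI : IsNoetherianRing (Localization.AtPrime p) :=
    IsLocalization.isNoetherianRing p.primeCompl _ inferInstance
  have hJtop : J ≠ ⊤ := by
    rw [hJ, IsLocalization.map_algebraMap_ne_top_iff_disjoint p.primeCompl]
    rw [Set.disjoint_left]
    intro a ha haI
    exact ha (hIp haI)
  haveI : Nontrivial (Localization.AtPrime p ⧸ J) := Ideal.Quotient.nontrivial_iff.2 hJtop
  haveI : IsLocalRing (Localization.AtPrime p ⧸ J) :=
    IsLocalRing.of_surjective' (Ideal.Quotient.mk _) Ideal.Quotient.mk_surjective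
  haveI : Module.Finite (Localization.AtPrime p) J.Cotangent :=
    Module.Finite.of_surjective J.toCotangent J.toCotangent_surjective
  haveI : Module.Finite (Localization.AtPrime p ⧸ J) J.Cotangent :=
    Module.Finite.of_restrictScalars_finite (Localization.AtPrime p) _ _
  haveI := cotMap_isLocalizedModule I p.primeCompl (Localization.AtPrime p)
  haveI : Module.Flat (Localization.AtPrime p ⧸ J) J.Cotangent :=
    Module.Flat.of_isLocalizedModule (Localization.AtPrime p ⧸ J)
      (Algebra.algebraMapSubmonoid (R ⧸ I) p.primeCompl) (cotMap I (Localization.AtPrime p))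
  exact Module.free_of_flat_of_isLocalRing

/-- generators of `I R_p` by a regular sequence -/
theorem exists_regular_generators_atPrime [IsNoetherianRing R] (n : ℕ)
    (hpd : HasProjectiveDimensionLT (ModuleCat.of R I) n)
    [Module.Projective (R ⧸ I) I.Cotangent] (p : Ideal R) [p.IsPrime] (hIp : I ≤ p) :
    ∃ (r : ℕ) (x : Fin r → Localization.AtPrime p),
      RingTheory.Sequence.IsRegular (Localization.AtPrime p) (List.ofFn x) ∧
        Ideal.span (Set.range x) = I.map (algebraMap R (Localization.AtPrime p)) := by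
  haveI : IsNoetherianRing (Localization.AtPrime p) :=
    IsLocalization.isNoetherianRing p.primeCompl _ inferInstance
  have hJtop : I.map (algebraMap R (Localization.AtPrime p)) ≠ ⊤ := by
    rw [IsLocalization.map_algebraMap_ne_top_iff_disjoint p.primeCompl, Set.disjoint_left]
    intro a ha haI
    exact ha (hIp haI)
  haveI := free_cotangent_atPrime I p hIp
  have h1 := hasPDLT_localization R I p n hpd
  let e : LocalizedModule p.primeCompl I ≃ₗ[Localization.AtPrime p]
      ↥(I.map (algebraMap R (Localization.AtPrime p))) :=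
    IsLocalizedModule.mapEquiv p.primeCompl (LocalizedModule.mkLinearMap p.primeCompl I)
      (Algebra.idealMap (Localization.AtPrime p) I) (Localization.AtPrime p) (LinearEquiv.refl R I)
  have h2 : HasProjectiveDimensionLT (ModuleCat.of (Localization.AtPrime p)
      ↥(I.map (algebraMap R (Localization.AtPrime p)))) n :=
    hasProjectiveDimensionLT_of_iso e.toModuleIso n
  exact exists_regular_generators_local _ hJtop n h2

end CotLoc

end Groth.Agent.Vasc9
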