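import Mathlib
import Groth.Agent.Lib.Vasc4_helper9

/-!
# Vasconcelos' theorem, part 5 (helper9): spreading out a regular sequence from `R_p` to `R_g`
APPEND-ONLY once landed.
-/

set_option autoImplicit false
universe u

namespace Groth.Agent.Vasc9

open RingTheory.Sequence Pointwise

section UnitMul

variable {R : Type*} [CommRing R]

/-- weak regularity is insensitive to multiplying the members of the sequence by units -/
theorem isWeaklyRegular_of_forall₂_unit {rs rs' : List R}
    (h : List.Forall₂ (fun (r r' : R) => ∃ u : Rˣ, r' = (u : R) * r) rs rs') :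
    ∀ (M : Type*) [AddCommGroup M] [Module R M], IsWeaklyRegular M rs → IsWeaklyRegular M rs' := by
  induction h with
  | nil => intro M _ _ h; exact h
  | @cons r r' rs rs' hr _ ih =>
    intro M _ _ hreg
    obtain ⟨u, rfl⟩ := hr
    rw [isWeaklyRegular_cons_iff] at hreg ⊢
    refine ⟨?_, ?_⟩
    · rw [IsSMulRegular.mul_iff]
      exact ⟨(u.isUnit).isSMulRegular M, hreg.1⟩
    · have heq : ((u : R) * r) • (⊤ : Submodule R M) = r • (⊤ : Submodule R M) := by
        ext m
        rw [Submodule.mem_smul_pointwise_iff_exists, Submodule.mem_smul_pointwise_iff_exists]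
        constructor
        · rintro ⟨n, -, rfl⟩
          exact ⟨(u : R) • n, trivial, by rw [smul_smul, mul_comm]⟩
        · rintro ⟨n, -, rfl⟩
          refine ⟨((u⁻¹ : Rˣ) : R) • n, trivial, ?_⟩
          rw [smul_smul, mul_comm (u : R) r, mul_assoc, Units.mul_inv, mul_one]
      let e : QuotSMulTop r M ≃ₗ[R] QuotSMulTop ((u : R) * r) M :=
        Submodule.quotEquivOfEq _ _ heq.symm
      exact (e.isWeaklyRegular_congr rs').1 (ih _ hreg.2)

end UnitMul

section Elementwise

variable {R : Type u} [CommRing R] (T : Submonoid R) (S' : Type u) [CommRing S'] [Algebra R S']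
  [IsLocalization T S']

/-- elementwise description of weak regularity on a localisation -/
theorem isWeaklyRegular_localization_iff (as : List R) :
    IsWeaklyRegular S' as ↔ ∀ (i : ℕ) (hi : i < as.length) (m : R),
      (∃ t ∈ T, t * (as[i] * m) ∈ Ideal.ofList (as.take i)) →
        (∃ t ∈ T, t * m ∈ Ideal.ofList (as.take i)) := by
  rw [isWeaklyRegular_iff]
  refine forall_congr' fun i => forall_congr' fun hi => ?_
  rw [isSMulRegular_quotient_iff_mem_of_smul_mem, Ideal.smul_top_eq_map]
  constructor
  · intro h m hm
    have h1 := h (algebraMap R S' m) (by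
      rw [Submodule.restrictScalars_mem, Algebra.smul_def, ← map_mul,
        IsLocalization.algebraMap_mem_map_algebraMap_iff T]
      exact hm)
    rwa [Submodule.restrictScalars_mem, IsLocalization.algebraMap_mem_map_algebraMap_iff T] at h1
  · intro h z hz
    obtain ⟨m, t₀, rfl⟩ := IsLocalization.exists_mk'_eq T z
    rw [Submodule.restrictScalars_mem] at hz ⊢
    rw [IsLocalization.mk'_mem_map_algebraMap_iff T]
    apply h m
    have h2 : as[i] • IsLocalization.mk' S' m t₀ = IsLocalization.mk' S' (as[i] * m) t₀ := by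
      rw [Algebra.smul_def, IsLocalization.mul_mk'_eq_mk'_of_mul]
    rw [h2, IsLocalization.mk'_mem_map_algebraMap_iff T] at hz
    exact hz

end Elementwise

section Spread

variable {R : Type u} [CommRing R] [IsNoetherianRing R] (p : Ideal R) [p.IsPrime]

/-- the `p`-saturation of an ideal is multiplied into the ideal by one element outside `p` -/
theorem exists_mul_mem_of_sat (𝔞 : Ideal R) :
    ∃ g ∉ p, ∀ m : R, (∃ t ∈ p.primeCompl, t * m ∈ 𝔞) → g * m ∈ 𝔞 := by
  classical
  set Sat : Ideal R := (𝔞.map (algebraMap R (Localization.AtPrime p))).comap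
    (algebraMap R (Localization.AtPrime p)) with hSat
  have hmem : ∀ m, m ∈ Sat ↔ ∃ t ∈ p.primeCompl, t * m ∈ 𝔞 := fun m => by
    rw [hSat, Ideal.mem_comap, IsLocalization.algebraMap_mem_map_algebraMap_iff p.primeCompl]
  obtain ⟨s, hs⟩ := (isNoetherianRing_iff_ideal_fg R).1 inferInstance Sat
  have hex : ∀ m ∈ s, ∃ t ∈ p.primeCompl, t * m ∈ 𝔞 := fun m hm =>
    (hmem m).1 (hs ▸ Ideal.subset_span hm)
  choose! t ht using hex
  refine ⟨∏ m ∈ s, t m, ?_, ?_⟩
  · intro h
    rw [Ideal.IsPrime.prod_mem_iff] at h
    obtain ⟨m, hm, hmp⟩ := h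
    exact (ht m hm).1 hmp
  · intro m hm
    have hmS : m ∈ Sat := (hmem m).2 hm
    rw [← hs] at hmS
    refine Submodule.span_induction (p := fun m _ => (∏ m ∈ s, t m) * m ∈ 𝔞) ?_ ?_ ?_ ?_ hmS
    · intro m hm
      have hm' : m ∈ s := hm
      rw [← Finset.mul_prod_erase s t hm', mul_comm (t m), mul_assoc]
      exact 𝔞.mul_mem_left _ (ht m hm').2
    · rw [mul_zero]
      exact 𝔞.zero_mem
    · intro x y _ _ hx hy
      rw [mul_add]
      exact 𝔞.add_mem hx hy
    · intro a x _ hx
      rw [smul_eq_mul, mul_left_comm]
      exact 𝔞.mul_mem_left _ hx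

/-- **spreading out** a regular sequence generating `I R_p` to a principal open neighbourhood -/
theorem exists_away_regular (I : Ideal R) (hIp : I ≤ p) (as : List R) (haI : ∀ a ∈ as, a ∈ I)
    (hreg : IsWeaklyRegular (Localization.AtPrime p)
      (as.map (algebraMap R (Localization.AtPrime p))))
    (hspan : I.map (algebraMap R (Localization.AtPrime p)) ≤
      (Ideal.ofList as).map (algebraMap R (Localization.AtPrime p))) :
    ∃ g ∉ p, IsRegular (Localization.Away g) (as.map (algebraMap R (Localization.Away g))) ∧
      Ideal.ofList (as.map (algebraMap R (Localization.Away g))) =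
        I.map (algebraMap R (Localization.Away g)) := by
  classical
  have hreg' : IsWeaklyRegular (Localization.AtPrime p) as :=
    (isWeaklyRegular_map_algebraMap_iff (Localization.AtPrime p) (Localization.AtPrime p) as).1 hreg
  have hC := (isWeaklyRegular_localization_iff p.primeCompl (Localization.AtPrime p) as).1 hreg'
  choose gg hggp hgg using fun i : ℕ => exists_mul_mem_of_sat p (Ideal.ofList (as.take i))
  set g := ∏ i ∈ Finset.range (as.length + 1), gg i with hg
  have hgp : g ∉ p := by
    intro h
    rw [hg, Ideal.IsPrime.prod_mem_iff] at h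
    obtain ⟨i, -, hi⟩ := h
    exact hggp i hi
  have hpow : ∀ t ∈ Submonoid.powers g, t ∈ p.primeCompl := by
    rintro _ ⟨k, rfl⟩
    exact fun h => hgp (Ideal.IsPrime.mem_of_pow_mem inferInstance k h)
  have key : ∀ i ≤ as.length, ∀ m : R, (∃ t ∈ p.primeCompl, t * m ∈ Ideal.ofList (as.take i)) →
      g * m ∈ Ideal.ofList (as.take i) := by
    intro i hi m hm
    have hi' : i ∈ Finset.range (as.length + 1) := Finset.mem_range.2 (by omega)
    rw [hg, ← Finset.mul_prod_erase _ gg hi', mul_comm (gg i), mul_assoc]
    exact Ideal.mul_mem_left _ _ (hgg i m hm)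
  have hofList : Ideal.ofList as ≤ I := by
    unfold Ideal.ofList
    rw [Ideal.span_le]
    exact fun a ha => haI a ha
  have heq : Ideal.ofList (as.map (algebraMap R (Localization.Away g))) =
      I.map (algebraMap R (Localization.Away g)) := by
    rw [← Ideal.map_ofList]
    apply le_antisymm (Ideal.map_mono hofList)
    rw [Ideal.map_le_iff_le_comap]
    intro b hb
    rw [Ideal.mem_comap, IsLocalization.algebraMap_mem_map_algebraMap_iff (Submonoid.powers g)]
    have h1 : algebraMap R (Localization.AtPrime p) b ∈
        (Ideal.ofList as).map (algebraMap R (Localization.AtPrime p)) :=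
      hspan (Ideal.mem_map_of_mem _ hb)
    rw [IsLocalization.algebraMap_mem_map_algebraMap_iff p.primeCompl] at h1
    have h2 := key as.length le_rfl b (by rwa [List.take_length])
    rw [List.take_length] at h2
    exact ⟨g, Submonoid.mem_powers g, h2⟩
  refine ⟨g, hgp, ⟨?_, ?_⟩, heq⟩
  · rw [isWeaklyRegular_map_algebraMap_iff (Localization.Away g) (Localization.Away g) as,
      isWeaklyRegular_localization_iff (Submonoid.powers g) (Localization.Away g) as]
    intro i hi m hm
    obtain ⟨t, ht, htm⟩ := hm
    have h1 := hC i hi m ⟨t, hpow t ht, htm⟩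
    exact ⟨g, Submonoid.mem_powers g, key i (le_of_lt hi) m h1⟩
  · rw [smul_eq_mul, Ideal.mul_top, heq]
    intro htop
    have h3 := (IsLocalization.map_algebraMap_ne_top_iff_disjoint (Submonoid.powers g)
      (S := Localization.Away g) I).2 (by
        rw [Set.disjoint_left]
        intro t ht htI
        exact hpow t ht (hIp htI))
    exact h3 htop.symm

theorem forall₂_ofFn {α β : Type*} (P : α → β → Prop) : ∀ {r : ℕ} (f : Fin r → α) (g : Fin r → β),
    (∀ i, P (f i) (g i)) → List.Forall₂ P (List.ofFn f) (List.ofFn g) := by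
  intro r
  induction r with
  | zero =>
    intro f g _
    rw [List.ofFn_zero, List.ofFn_zero]
    exact List.Forall₂.nil
  | succ r ih =>
    intro f g h
    rw [List.ofFn_succ, List.ofFn_succ]
    exact List.Forall₂.cons (h 0) (ih _ _ fun i => h i.succ)

open CategoryTheory in
/-- **Vasconcelos**: an ideal of finite projective dimension with projective conormal module is
locally generated by a regular sequence. -/
theorem isRegularIdeal_of_projective_cotangent (I : Ideal R) (n : ℕ)
    (hpd : HasProjectiveDimensionLT (ModuleCat.of R I) n)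
    [Module.Projective (R ⧸ I) I.Cotangent] (hIp : I ≤ p) :
    ∃ g : R, g ∉ p ∧ ∃ rs : List (Localization.Away g),
      IsRegular (Localization.Away g) rs ∧
        Ideal.ofList rs = I.map (algebraMap R (Localization.Away g)) := by
  obtain ⟨r, x, hxreg, hxspan⟩ := exists_regular_generators_atPrime I n hpd p hIp
  have hxI : ∀ i, x i ∈ I.map (algebraMap R (Localization.AtPrime p)) := fun i => by
    rw [← hxspan]
    exact Ideal.subset_span ⟨i, rfl⟩
  have hex : ∀ i, ∃ y : I × p.primeCompl,
      x i * algebraMap R (Localization.AtPrime p) y.2 = algebraMap R (Localization.AtPrime p) y.1 :=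
    fun i => (IsLocalization.mem_map_algebraMap_iff p.primeCompl (Localization.AtPrime p)).1 (hxI i)
  choose y hy using hex
  set as : List R := List.ofFn (fun i => ((y i).1 : R)) with has
  have hmap : as.map (algebraMap R (Localization.AtPrime p)) =
      List.ofFn (fun i => algebraMap R (Localization.AtPrime p) ((y i).1 : R)) := by
    rw [has, List.map_ofFn]
    rfl
  have hunit : ∀ i, ∃ u : (Localization.AtPrime p)ˣ,
      algebraMap R (Localization.AtPrime p) ((y i).1 : R) = (u : Localization.AtPrime p) * x i := by
    intro i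
    refine ⟨(IsLocalization.map_units (Localization.AtPrime p) (y i).2).unit, ?_⟩
    rw [← hy i, IsUnit.unit_spec, mul_comm]
  have hreg : IsWeaklyRegular (Localization.AtPrime p)
      (as.map (algebraMap R (Localization.AtPrime p))) := by
    rw [hmap]
    exact isWeaklyRegular_of_forall₂_unit (forall₂_ofFn _ x _ hunit) _ hxreg.toIsWeaklyRegular
  have hspan : I.map (algebraMap R (Localization.AtPrime p)) ≤
      (Ideal.ofList as).map (algebraMap R (Localization.AtPrime p)) := by
    rw [← hxspan, Ideal.span_le]
    rintro _ ⟨i, rfl⟩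
    obtain ⟨u, hu⟩ := hunit i
    have h1 : x i = ((u⁻¹ : (Localization.AtPrime p)ˣ) : Localization.AtPrime p) *
        algebraMap R (Localization.AtPrime p) ((y i).1 : R) := by
      rw [hu, ← mul_assoc, Units.inv_mul, one_mul]
    rw [SetLike.mem_coe, h1]
    apply Ideal.mul_mem_left
    apply Ideal.mem_map_of_mem
    exact Ideal.subset_span ((List.mem_ofFn' _ _).2 ⟨i, rfl⟩)
  obtain ⟨g, hgp, hgreg, hgeq⟩ := exists_away_regular p I hIp as (by
    intro a ha
    obtain ⟨i, rfl⟩ := (List.mem_ofFn' _ _).1 ha
    exact (y i).1.2) hreg hspan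
  exact ⟨g, hgp, _, hgreg, hgeq⟩

end Spread

end Groth.Agent.Vasc9
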