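import Mathlib
import Groth.Agent.Lib.FibKoszul2_helper2
import Groth.Agent.Lib.KoszulSplit_helper2
import Groth.Agent.Lib.KoszulNil2_helper2
import Groth.Agent.Lib.Vasc5_helper9
import Groth.Agent.Lib.KRegIdeal_helper2

/-!
# Fibrewise Koszul criterion: Noetherian core (helper2)

`R → P` flat of finite type with `P` Noetherian, `I` an ideal of `P` with `P/I` flat over `R`,
`K` a field over `R`, `𝔮K` a prime of `P ⊗_R K` over the prime `𝔔` of `P`.  If `I (P ⊗ K)_𝔮K` is
generated by a Koszul-regular sequence, then near `𝔔` the ideal `I` is generated by a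
Koszul-regular sequence of elements of `I` (`key_away`).
APPEND-ONLY once landed.
-/

set_option autoImplicit false
universe u

namespace Groth.Agent.Lib.FibKoszul

open TensorProduct RingTheory.Sequence

section MinGen

variable {O : Type u} [CommRing O] [IsLocalRing O]

lemma mem_ofList_iff_exists_fun {O : Type u} [CommRing O] (h : List O) (x : O) :
    x ∈ Ideal.ofList h ↔ ∃ cf : Fin h.length → O, ∑ j, cf j * h.get j = x := by
  rw [← Ideal.mem_span_range_iff_exists_fun, Set.range_list_get]

/-- in a local ring, any generating list of an ideal contains a generating sublist of minimal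
length among ALL generating lists. -/
theorem exists_sublist_minimal (a : List O) :
    ∃ l : List O, l.Sublist a ∧ Ideal.ofList l = Ideal.ofList a ∧
      ∀ h : List O, Ideal.ofList h = Ideal.ofList a → l.length ≤ h.length := by
  classical
  have hex : ∃ n, ∃ l : List O, l.Sublist a ∧ Ideal.ofList l = Ideal.ofList a ∧ l.length = n :=
    ⟨a.length, a, List.Sublist.refl a, rfl, rfl⟩
  obtain ⟨l, hla, hlJ, hlen⟩ := Nat.find_spec hex
  refine ⟨l, hla, hlJ, ?_⟩
  intro h hh
  by_contra hlt
  push Not at hlt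
  have h1 : ∀ i : Fin l.length, ∃ cf : Fin h.length → O, ∑ j, cf j * h.get j = l.get i := by
    intro i
    rw [← mem_ofList_iff_exists_fun, hh, ← hlJ]
    exact Ideal.subset_span (List.get_mem l i)
  have h2 : ∀ j : Fin h.length, ∃ cf : Fin l.length → O, ∑ k, cf k * l.get k = h.get j := by
    intro j
    rw [← mem_ofList_iff_exists_fun, hlJ, ← hh]
    exact Ideal.subset_span (List.get_mem h j)
  choose A hA using h1
  choose B hB using h2
  let MA : Matrix (Fin l.length) (Fin h.length) O := Matrix.of A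
  let MB : Matrix (Fin h.length) (Fin l.length) O := Matrix.of B
  let M : Matrix (Fin l.length) (Fin l.length) O := 1 - MA * MB
  have hM : ∀ i, ∑ k, M i k * l.get k = 0 := by
    intro i
    have e1 : ∑ k, (MA * MB) i k * l.get k = l.get i := by
      simp only [Matrix.mul_apply, Finset.sum_mul]
      rw [Finset.sum_comm, ← hA i]
      apply Finset.sum_congr rfl
      intro j _
      rw [← hB j, Finset.mul_sum]
      apply Finset.sum_congr rfl
      intro k _
      show A i j * B j k * l.get k = A i j * (B j k * l.get k)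
      ring
    have e2 : ∑ k, (1 : Matrix (Fin l.length) (Fin l.length) O) i k * l.get k = l.get i := by
      simp [Matrix.one_apply]
    have e3 : ∀ k, M i k * l.get k =
        (1 : Matrix (Fin l.length) (Fin l.length) O) i k * l.get k - (MA * MB) i k * l.get k := by
      intro k
      show ((1 : Matrix (Fin l.length) (Fin l.length) O) i k - (MA * MB) i k) * l.get k = _
      ring
    rw [Finset.sum_congr rfl (fun k _ => e3 k), Finset.sum_sub_distrib, e1, e2, sub_self]
  have hunit : ∃ i k, IsUnit (M i k) := by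
    by_contra hcon
    push Not at hcon
    have hres : ∀ i k, IsLocalRing.residue O (M i k) = 0 := fun i k => by
      rw [IsLocalRing.residue_eq_zero_iff]
      exact (IsLocalRing.mem_maximalIdeal _).mpr (hcon i k)
    have hprod : (MA.map (IsLocalRing.residue O)) * (MB.map (IsLocalRing.residue O)) = 1 := by
      rw [← Matrix.map_mul]
      ext i k
      have h3 : (MA * MB) i k = (1 : Matrix (Fin l.length) (Fin l.length) O) i k - M i k := by
        show (MA * MB) i k = (1 : Matrix (Fin l.length) (Fin l.length) O) i k -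
          ((1 : Matrix (Fin l.length) (Fin l.length) O) i k - (MA * MB) i k)
        ring
      rw [Matrix.map_apply, h3, map_sub, hres, sub_zero, Matrix.one_apply, Matrix.one_apply]
      split_ifs <;> simp
    have hr1 : ((MA.map (IsLocalRing.residue O)) * (MB.map (IsLocalRing.residue O))).rank ≤
        (MA.map (IsLocalRing.residue O)).rank := Matrix.rank_mul_le_left _ _
    have hr2 : (MA.map (IsLocalRing.residue O)).rank ≤ h.length := Matrix.rank_le_width _
    rw [hprod, Matrix.rank_one, Fintype.card_fin] at hr1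
    omega
  obtain ⟨i₀, k₀, hu⟩ := hunit
  have hk₀ : (k₀ : ℕ) < l.length := k₀.2
  have hsub : (l.eraseIdx k₀).Sublist l := List.eraseIdx_sublist l k₀
  have hle : Ideal.ofList (l.eraseIdx k₀) ≤ Ideal.ofList l :=
    Ideal.span_mono (fun x hx => hsub.subset hx)
  have hmem : ∀ k : Fin l.length, k ≠ k₀ → l.get k ∈ Ideal.ofList (l.eraseIdx k₀) := by
    intro k hk
    apply Ideal.subset_span
    show l.get k ∈ l.eraseIdx k₀
    rw [List.mem_eraseIdx_iff_getElem]
    exact ⟨k, k.2, fun h => hk (Fin.ext h), rfl⟩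
  have hk₀mem : l.get k₀ ∈ Ideal.ofList (l.eraseIdx k₀) := by
    have h3 := hM i₀
    rw [← Finset.add_sum_erase Finset.univ _ (Finset.mem_univ k₀)] at h3
    have h4 : M i₀ k₀ * l.get k₀ = - ∑ k ∈ Finset.univ.erase k₀, M i₀ k * l.get k :=
      eq_neg_of_add_eq_zero_left h3
    have h5 : M i₀ k₀ * l.get k₀ ∈ Ideal.ofList (l.eraseIdx k₀) := by
      rw [h4]
      refine neg_mem (Ideal.sum_mem _ ?_)
      intro k hk
      exact Ideal.mul_mem_left _ _ (hmem k (Finset.ne_of_mem_erase hk))
    exact (Ideal.unit_mul_mem_iff_mem _ hu).mp h5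
  have hge : Ideal.ofList l ≤ Ideal.ofList (l.eraseIdx k₀) := by
    unfold Ideal.ofList
    rw [Ideal.span_le]
    intro x hx
    obtain ⟨k, rfl⟩ := List.get_of_mem hx
    by_cases hk : k = k₀
    · rw [hk]
      exact hk₀mem
    · exact hmem k hk
  have hlen' : (l.eraseIdx k₀).length < l.length := by
    rw [List.length_eraseIdx_of_lt hk₀]
    omega
  exact Nat.find_min hex (hlen ▸ hlen')
    ⟨l.eraseIdx k₀, hsub.trans hla, (le_antisymm hle hge).trans hlJ, rfl⟩

end MinGen

section Chi

variable {R P K : Type u} [CommRing R] [CommRing P] [Algebra R P] (p : Ideal R) [p.IsPrime]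
  [Field K] [Algebra R K] (j : p.ResidueField →ₐ[R] K)
  (𝔮K : Ideal (P ⊗[R] K)) [𝔮K.IsPrime]

/-- `Φ_𝔮' → (P ⊗ K)_𝔮K` -/
noncomputable def chi : Localization.AtPrime (primeKappa p j 𝔮K) →+* Localization.AtPrime 𝔮K :=
  Localization.localRingHom (primeKappa p j 𝔮K) 𝔮K (lam P p j).toRingHom rfl

lemma chi_flat : (chi p j 𝔮K).Flat :=
  RingHom.Flat.localRingHom (lam_flat (P := P) p j) 𝔮K _ rfl

instance chi_isLocalHom : IsLocalHom (chi p j 𝔮K) :=
  Localization.isLocalHom_localRingHom _ 𝔮K _ rfl

lemma chi_algebraMap_tmul (y : P) :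
    chi p j 𝔮K (algebraMap (P ⊗[R] p.ResidueField) _ (y ⊗ₜ[R] (1 : p.ResidueField))) =
      algebraMap (P ⊗[R] K) (Localization.AtPrime 𝔮K) (y ⊗ₜ[R] (1 : K)) := by
  unfold chi
  rw [Localization.localRingHom_to_map]
  congr 1
  exact lam_tmul_one p j y

/-- `P → (P ⊗ K)_𝔮K` -/
noncomputable def iotaK : P →+* Localization.AtPrime 𝔮K :=
  (algebraMap (P ⊗[R] K) (Localization.AtPrime 𝔮K)).comp
    Algebra.TensorProduct.includeLeftRingHom

lemma iotaK_apply (y : P) :
    iotaK 𝔮K y = algebraMap (P ⊗[R] K) (Localization.AtPrime 𝔮K) (y ⊗ₜ[R] (1 : K)) := rfl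

lemma iotaK_eq : iotaK 𝔮K = (chi p j 𝔮K).comp ((gmap p (primeKappa p j 𝔮K)).comp
    (algebraMap P (Localization.AtPrime (ctr p (primeKappa p j 𝔮K))))) := by
  ext y
  simp only [RingHom.comp_apply]
  rw [gmap_algebraMap, chi_algebraMap_tmul]
  rfl

lemma comap_ctr : (ctr p (primeKappa p j 𝔮K)).comap (algebraMap R P) = p := by
  ext r
  constructor
  · intro h
    by_contra hr
    exact algebraMap_notMem_ctr p (primeKappa p j 𝔮K) hr (Ideal.mem_comap.mp h)
  · intro hr
    show (Algebra.TensorProduct.includeLeftRingHom (algebraMap R P r) :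
      P ⊗[R] p.ResidueField) ∈ primeKappa p j 𝔮K
    have h0 : (Algebra.TensorProduct.includeLeftRingHom (algebraMap R P r) :
        P ⊗[R] p.ResidueField) = 0 := by
      rw [Algebra.TensorProduct.includeLeftRingHom_apply, Algebra.algebraMap_eq_smul_one,
        TensorProduct.smul_tmul, ← Algebra.algebraMap_eq_smul_one,
        (Ideal.algebraMap_residueField_eq_zero).mpr hr, TensorProduct.tmul_zero]
    rw [h0]
    exact Ideal.zero_mem _

lemma mem_ctr_iff (x : P) :
    x ∈ ctr p (primeKappa p j 𝔮K) ↔ (x ⊗ₜ[R] (1 : K) : P ⊗[R] K) ∈ 𝔮K := by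
  have h2 : x ∈ ctr p (primeKappa p j 𝔮K) ↔ (lam P p j) (x ⊗ₜ[R] 1) ∈ 𝔮K := Iff.rfl
  rw [h2, lam_tmul_one]

lemma ctr_eq : ctr p (primeKappa p j 𝔮K) =
    𝔮K.comap (Algebra.TensorProduct.includeLeftRingHom : P →+* P ⊗[R] K) := by
  ext x
  rw [mem_ctr_iff]
  rfl

/-- comparing ideals of `P` in the local ring of the fibre and in `P_𝔔` modulo `p`. -/
theorem map_le_sup_of_fibre (I L : Ideal P) (h : I.map (iotaK 𝔮K) ≤ L.map (iotaK 𝔮K)) :
    I.map (algebraMap P (Localization.AtPrime (ctr p (primeKappa p j 𝔮K)))) ≤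
      L.map (algebraMap P (Localization.AtPrime (ctr p (primeKappa p j 𝔮K)))) ⊔
        p.map (algebraMap R (Localization.AtPrime (ctr p (primeKappa p j 𝔮K)))) := by
  have hχ : (chi p j 𝔮K).Flat := chi_flat p j 𝔮K
  have hff : ∀ J : Ideal (Localization.AtPrime (primeKappa p j 𝔮K)),
      (J.map (chi p j 𝔮K)).comap (chi p j 𝔮K) = J := by
    intro J
    letI : Algebra (Localization.AtPrime (primeKappa p j 𝔮K)) (Localization.AtPrime 𝔮K) :=
      (chi p j 𝔮K).toAlgebra
    haveI : Module.Flat (Localization.AtPrime (primeKappa p j 𝔮K)) (Localization.AtPrime 𝔮K) := hχ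
    haveI : IsLocalHom (algebraMap (Localization.AtPrime (primeKappa p j 𝔮K))
      (Localization.AtPrime 𝔮K)) := chi_isLocalHom p j 𝔮K
    haveI : Module.FaithfullyFlat (Localization.AtPrime (primeKappa p j 𝔮K))
      (Localization.AtPrime 𝔮K) := Module.FaithfullyFlat.of_flat_of_isLocalHom
    exact Ideal.comap_map_eq_self_of_faithfullyFlat J
  have h1 : (I.map (algebraMap P (Localization.AtPrime (ctr p (primeKappa p j 𝔮K))))).map
      (gmap p (primeKappa p j 𝔮K)) ≤
      (L.map (algebraMap P (Localization.AtPrime (ctr p (primeKappa p j 𝔮K))))).map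
        (gmap p (primeKappa p j 𝔮K)) := by
    rw [← hff ((I.map (algebraMap P (Localization.AtPrime (ctr p (primeKappa p j 𝔮K))))).map
      (gmap p (primeKappa p j 𝔮K))),
      ← hff ((L.map (algebraMap P (Localization.AtPrime (ctr p (primeKappa p j 𝔮K))))).map
      (gmap p (primeKappa p j 𝔮K)))]
    apply Ideal.comap_mono
    rw [Ideal.map_map, Ideal.map_map, Ideal.map_map, Ideal.map_map, RingHom.comp_assoc,
      ← iotaK_eq]
    exact h
  intro x hx
  have h2 : gmap p (primeKappa p j 𝔮K) x ∈
      (L.map (algebraMap P (Localization.AtPrime (ctr p (primeKappa p j 𝔮K))))).map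
        (gmap p (primeKappa p j 𝔮K)) := h1 (Ideal.mem_map_of_mem _ hx)
  obtain ⟨y, hy, hyx⟩ := (Ideal.mem_map_iff_of_surjective _
    (gmap_surjective p (primeKappa p j 𝔮K))).mp h2
  have h3 : x - y ∈ RingHom.ker (gmap p (primeKappa p j 𝔮K)) := by
    rw [RingHom.mem_ker, map_sub, hyx, sub_self]
  rw [ker_gmap] at h3
  have h4 : x = y + (x - y) := by ring
  rw [h4]
  exact Ideal.add_mem _ (Ideal.mem_sup_left hy) (Ideal.mem_sup_right h3)

end Chi

section Key

variable {R P K : Type u} [CommRing R] [CommRing P] [Algebra R P] (p : Ideal R) [p.IsPrime]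
  [Field K] [Algebra R K] (j : p.ResidueField →ₐ[R] K)
  (𝔮K : Ideal (P ⊗[R] K)) [𝔮K.IsPrime]

/-- **Noetherian core, local form.** -/
theorem key_local [IsNoetherianRing P] [Algebra.FiniteType R P] [Module.Flat R P]
    (I : Ideal P) (hI : I ≤ ctr p (primeKappa p j 𝔮K)) [Module.Flat R (P ⧸ I)]
    (g : List (Localization.AtPrime 𝔮K)) (hg : LCI.IsKoszulRegularSeq (Localization.AtPrime 𝔮K) g)
    (hgI : I.map (iotaK 𝔮K) = Ideal.ofList g) :
    ∃ l : List P, (∀ x ∈ l, x ∈ I) ∧
      IsWeaklyRegular (Localization.AtPrime (ctr p (primeKappa p j 𝔮K)))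
        (l.map (algebraMap P (Localization.AtPrime (ctr p (primeKappa p j 𝔮K))))) ∧
      I.map (algebraMap P (Localization.AtPrime (ctr p (primeKappa p j 𝔮K)))) ≤
        (Ideal.ofList l).map (algebraMap P (Localization.AtPrime (ctr p (primeKappa p j 𝔮K)))) := by
  classical
  obtain ⟨s, hs⟩ := (isNoetherianRing_iff_ideal_fg P).mp inferInstance I
  have ha : Ideal.ofList s.toList = I := by
    rw [← hs]
    unfold Ideal.ofList
    congr 1
    ext x
    simp
  have hJle : I.map (iotaK 𝔮K) ≤ IsLocalRing.maximalIdeal (Localization.AtPrime 𝔮K) := by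
    rw [Ideal.map_le_iff_le_comap]
    intro x hx
    rw [Ideal.mem_comap, iotaK_apply,
      IsLocalization.AtPrime.to_map_mem_maximal_iff (Localization.AtPrime 𝔮K) 𝔮K]
    exact (mem_ctr_iff p j 𝔮K x).mp (hI hx)
  have hJtop : I.map (iotaK 𝔮K) ≠ ⊤ := fun h =>
    (IsLocalRing.maximalIdeal.isMaximal (Localization.AtPrime 𝔮K)).ne_top
      (top_le_iff.mp (h ▸ hJle))
  have haJ : Ideal.ofList (s.toList.map (iotaK 𝔮K)) = I.map (iotaK 𝔮K) := by
    rw [← Ideal.map_ofList, ha]
  obtain ⟨l', hl'sub, hl'J, hl'min⟩ := exists_sublist_minimal (s.toList.map (iotaK 𝔮K))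
  obtain ⟨l, hla, rfl⟩ := List.sublist_map_iff.mp hl'sub
  have hlI : ∀ x ∈ l, x ∈ I := fun x hx => by
    rw [← ha]
    exact Ideal.subset_span (hla.subset hx)
  have hKl : LCI.IsKoszulRegularSeq (Localization.AtPrime 𝔮K) (l.map (iotaK 𝔮K)) :=
    (Groth.Agent.Lib.KoszulSplit.main18935 _ hJtop g hg hgI.symm (l.map (iotaK 𝔮K))
      (hl'J.trans haJ)).mpr (fun h hh => hl'min h (hh.trans haJ.symm))
  have hWfib := weaklyRegular_fibre p j 𝔮K l (fun x hx => hI (hlI x hx)) hKl
  -- the local rings
  have hcomap : p = (ctr p (primeKappa p j 𝔮K)).comap (algebraMap R P) :=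
    (comap_ctr p j 𝔮K).symm
  letI algRpO : Algebra (Localization.AtPrime p)
      (Localization.AtPrime (ctr p (primeKappa p j 𝔮K))) :=
    (Localization.localRingHom p (ctr p (primeKappa p j 𝔮K)) (algebraMap R P) hcomap).toAlgebra
  haveI tower : IsScalarTower R (Localization.AtPrime p)
      (Localization.AtPrime (ctr p (primeKappa p j 𝔮K))) :=
    IsScalarTower.of_algebraMap_eq (fun x => by
      show algebraMap R (Localization.AtPrime (ctr p (primeKappa p j 𝔮K))) x =
        Localization.localRingHom p (ctr p (primeKappa p j 𝔮K)) (algebraMap R P) hcomap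
          (algebraMap R (Localization.AtPrime p) x)
      rw [Localization.localRingHom_to_map, ← IsScalarTower.algebraMap_apply])
  haveI : IsLocalHom (algebraMap (Localization.AtPrime p)
      (Localization.AtPrime (ctr p (primeKappa p j 𝔮K)))) :=
    Localization.isLocalHom_localRingHom p (ctr p (primeKappa p j 𝔮K)) _ hcomap
  haveI : Module.Flat R (Localization.AtPrime (ctr p (primeKappa p j 𝔮K))) :=
    Module.Flat.trans R P (Localization.AtPrime (ctr p (primeKappa p j 𝔮K)))
  haveI : Module.Flat (Localization.AtPrime p)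
      (Localization.AtPrime (ctr p (primeKappa p j 𝔮K))) :=
    (Module.flat_iff_of_isLocalization (Localization.AtPrime p) p.primeCompl
      (Localization.AtPrime (ctr p (primeKappa p j 𝔮K)))).mpr inferInstance
  haveI : IsNoetherianRing (Localization.AtPrime (ctr p (primeKappa p j 𝔮K))) :=
    IsLocalization.isNoetherianRing (ctr p (primeKappa p j 𝔮K)).primeCompl _ inferInstance
  have hmax : (IsLocalRing.maximalIdeal (Localization.AtPrime p)).map
      (algebraMap (Localization.AtPrime p) (Localization.AtPrime (ctr p (primeKappa p j 𝔮K)))) =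
      p.map (algebraMap R (Localization.AtPrime (ctr p (primeKappa p j 𝔮K)))) := by
    rw [← Localization.AtPrime.map_eq_maximalIdeal, Ideal.map_map,
      ← IsScalarTower.algebraMap_eq]
  have hW' : IsWeaklyRegular
      (Localization.AtPrime (ctr p (primeKappa p j 𝔮K)) ⧸
        (((IsLocalRing.maximalIdeal (Localization.AtPrime p)).map
          (algebraMap (Localization.AtPrime p)
            (Localization.AtPrime (ctr p (primeKappa p j 𝔮K))))) • ⊤ :
          Submodule (Localization.AtPrime (ctr p (primeKappa p j 𝔮K)))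
            (Localization.AtPrime (ctr p (primeKappa p j 𝔮K)))))
      (l.map (algebraMap P (Localization.AtPrime (ctr p (primeKappa p j 𝔮K))))) := by
    rw [hmax]
    exact hWfib
  obtain ⟨hWreg, -⟩ := main (R := Localization.AtPrime p)
    (Localization.AtPrime (ctr p (primeKappa p j 𝔮K)))
    (l.map (algebraMap P (Localization.AtPrime (ctr p (primeKappa p j 𝔮K)))))
    (Localization.AtPrime (ctr p (primeKappa p j 𝔮K))) hW'
  refine ⟨l, hlI, hWreg, ?_⟩
  -- Nakayama
  have hLI : (Ideal.ofList l).map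
      (algebraMap P (Localization.AtPrime (ctr p (primeKappa p j 𝔮K)))) ≤
      I.map (algebraMap P (Localization.AtPrime (ctr p (primeKappa p j 𝔮K)))) := by
    apply Ideal.map_mono
    unfold Ideal.ofList
    rw [Ideal.span_le]
    exact fun x hx => hlI x hx
  have h1 := map_le_sup_of_fibre p j 𝔮K I (Ideal.ofList l) (by
    rw [Ideal.map_ofList, hl'J, haJ])
  haveI hfl1 : Module.Flat (P ⧸ I) (Localization.AtPrime (ctr p (primeKappa p j 𝔮K)) ⧸
      I.map (algebraMap P (Localization.AtPrime (ctr p (primeKappa p j 𝔮K))))) :=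
    IsLocalization.flat _ (Algebra.algebraMapSubmonoid (P ⧸ I)
      (ctr p (primeKappa p j 𝔮K)).primeCompl)
  haveI htw2 : IsScalarTower R (P ⧸ I) (Localization.AtPrime (ctr p (primeKappa p j 𝔮K)) ⧸
      I.map (algebraMap P (Localization.AtPrime (ctr p (primeKappa p j 𝔮K))))) :=
    IsScalarTower.of_algebraMap_eq (fun r => by
      rw [IsScalarTower.algebraMap_apply R P (P ⧸ I),
        IsScalarTower.algebraMap_apply R (Localization.AtPrime (ctr p (primeKappa p j 𝔮K)))
          (Localization.AtPrime (ctr p (primeKappa p j 𝔮K)) ⧸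
            I.map (algebraMap P (Localization.AtPrime (ctr p (primeKappa p j 𝔮K))))),
        IsScalarTower.algebraMap_apply R P (Localization.AtPrime (ctr p (primeKappa p j 𝔮K)))]
      rfl)
  haveI hfl2 : Module.Flat R (Localization.AtPrime (ctr p (primeKappa p j 𝔮K)) ⧸
      I.map (algebraMap P (Localization.AtPrime (ctr p (primeKappa p j 𝔮K))))) :=
    Module.Flat.trans R (P ⧸ I) _
  have hpm : p.map (algebraMap R (Localization.AtPrime (ctr p (primeKappa p j 𝔮K)))) ≤
      IsLocalRing.maximalIdeal (Localization.AtPrime (ctr p (primeKappa p j 𝔮K))) := by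
    rw [Ideal.map_le_iff_le_comap]
    intro r hr
    rw [Ideal.mem_comap, IsScalarTower.algebraMap_apply R P,
      IsLocalization.AtPrime.to_map_mem_maximal_iff _ (ctr p (primeKappa p j 𝔮K))]
    have : r ∈ (ctr p (primeKappa p j 𝔮K)).comap (algebraMap R P) := by
      rw [comap_ctr]
      exact hr
    exact this
  have h2 : I.map (algebraMap P (Localization.AtPrime (ctr p (primeKappa p j 𝔮K)))) ≤
      (Ideal.ofList l).map (algebraMap P (Localization.AtPrime (ctr p (primeKappa p j 𝔮K)))) ⊔
      (IsLocalRing.maximalIdeal (Localization.AtPrime (ctr p (primeKappa p j 𝔮K)))) •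
        I.map (algebraMap P (Localization.AtPrime (ctr p (primeKappa p j 𝔮K)))) := by
    intro x hx
    obtain ⟨y, hy, z, hz, rfl⟩ := Submodule.mem_sup.mp (h1 hx)
    have hzI : z ∈ I.map (algebraMap P (Localization.AtPrime (ctr p (primeKappa p j 𝔮K)))) := by
      have h5 : z = (y + z) - y := by ring
      rw [h5]
      exact Ideal.sub_mem _ hx (hLI hy)
    have hz2 := Groth.Agent.Lib.KoszulNil.mem_mul_of_flat_quot p
      (I.map (algebraMap P (Localization.AtPrime (ctr p (primeKappa p j 𝔮K))))) z hzI hz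
    refine Ideal.add_mem _ (Ideal.mem_sup_left hy) (Ideal.mem_sup_right ?_)
    rw [smul_eq_mul]
    exact Ideal.mul_mono_left hpm hz2
  refine Submodule.le_of_le_smul_of_le_jacobson_bot ?_ ?_ h2
  · exact (isNoetherianRing_iff_ideal_fg _).mp inferInstance _
  · rw [IsLocalRing.jacobson_eq_maximalIdeal ⊥ bot_ne_top]

/-- **Noetherian core, spread out to a principal open.** -/
theorem key_away [IsNoetherianRing P] [Algebra.FiniteType R P] [Module.Flat R P]
    (I : Ideal P) (hI : I ≤ ctr p (primeKappa p j 𝔮K)) [Module.Flat R (P ⧸ I)]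
    (g : List (Localization.AtPrime 𝔮K)) (hg : LCI.IsKoszulRegularSeq (Localization.AtPrime 𝔮K) g)
    (hgI : I.map (iotaK 𝔮K) = Ideal.ofList g) :
    ∃ G : P, G ∉ ctr p (primeKappa p j 𝔮K) ∧ ∃ l : List P, (∀ x ∈ l, x ∈ I) ∧
      LCI.IsKoszulRegularSeq (Localization.Away G) (l.map (algebraMap P (Localization.Away G))) ∧
      I.map (algebraMap P (Localization.Away G)) =
        Ideal.ofList (l.map (algebraMap P (Localization.Away G))) := by
  obtain ⟨l, hlI, hW, hle⟩ := key_local p j 𝔮K I hI g hg hgI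
  obtain ⟨G, hG, hreg, heq⟩ := Groth.Agent.Vasc9.exists_away_regular
    (ctr p (primeKappa p j 𝔮K)) I hI l hlI hW hle
  exact ⟨G, hG, l, hlI,
    (Groth.Agent.Lib.KoszulTopH7.koszulRegular _ hreg.toIsWeaklyRegular).1, heq.symm⟩

end Key

end Groth.Agent.Lib.FibKoszul
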