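import Mathlib
import Groth.Agent.Lib.FibKoszul3_helper2
import Groth.Agent.Lib.LCILocal_helper2
import Groth.Agent.Lib.LCIComp_helper2
import Groth.Agent.Lib.LCIDesc_helper2
import Groth.Agent.Lib.SmoothLCI_helper2

/-!
# Fibrewise Koszul criterion over a field: Noetherian ring level (helper2)

* `KRAt J 𝔔`: the ideal `J` is generated near the prime `𝔔` by a Koszul-regular sequence;
* `krAt_of_fibre`: the Noetherian core in this language;
* `LciAt φ q`: the ring map `φ` is lci near the prime `q` of its target;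
* `tb_field_noeth`: `R → B → C`, `B`, `C` flat over `R`, `B` Noetherian: if the fibre
  `K ⊗ B → (K ⊗ B) ⊗_B C` over a field `K` is lci near a prime, then `B → C` is lci near its
  contraction.
APPEND-ONLY once landed.
-/

set_option autoImplicit false
universe u

namespace Groth.Agent.Lib.FibKoszul

open TensorProduct RingTheory.Sequence
open Groth.Agent.Lib.KRegIdeal Groth.Agent.Lib.LCIComp Groth.Agent.Lib.SmoothLCI
  Groth.Agent.Lib.LCILocal Groth.Agent.Lib.LCIDesc

section KRAt

variable {P : Type u} [CommRing P]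

/-- the ideal `J` is generated near the prime `𝔔` by a Koszul-regular sequence -/
def KRAt (J 𝔔 : Ideal P) : Prop :=
  ∃ g : P, g ∉ 𝔔 ∧ ∃ (T : Type u) (_ : CommRing T) (_ : Algebra P T) (_ : IsLocalization.Away g T)
    (l : List T), LCI.IsKoszulRegularSeq T l ∧ J.map (algebraMap P T) = Ideal.ofList l

lemma kr_iff_forall_krAt (J : Ideal P) :
    KR J ↔ ∀ 𝔔 : Ideal P, 𝔔.IsPrime → J ≤ 𝔔 → KRAt J 𝔔 := Iff.rfl

lemma kr_of_ofList (l : List P) (hl : LCI.IsKoszulRegularSeq P l) : KR (Ideal.ofList l) := by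
  intro 𝔭 h𝔭 _
  refine ⟨1, fun h => h𝔭.ne_top ((Ideal.eq_top_iff_one _).mpr h), P, inferInstance, inferInstance,
    IsLocalization.away_of_isUnit_of_bijective P isUnit_one Function.bijective_id, l, hl, ?_⟩
  exact Ideal.map_id _

theorem krAt_comap_equiv {R R' : Type u} [CommRing R] [CommRing R'] (e : R ≃+* R')
    (J 𝔔 : Ideal R') (h : KRAt J 𝔔) :
    KRAt (J.comap (e : R →+* R')) (𝔔.comap (e : R →+* R')) := by
  obtain ⟨g', hg', T, _, _, hloc, l, hl, hI⟩ := h
  refine ⟨e.symm g', ?_, T, inferInstance, ((algebraMap R' T).comp (e : R →+* R')).toAlgebra, ?_,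
    l, hl, ?_⟩
  · intro hmem
    apply hg'
    have h1 : e (e.symm g') ∈ 𝔔 := hmem
    rwa [e.apply_symm_apply] at h1
  · letI : Algebra R T := ((algebraMap R' T).comp (e : R →+* R')).toAlgebra
    have hmap : ∀ x : R, algebraMap R T x = algebraMap R' T (e x) := fun x => rfl
    refine IsLocalization.Away.mk _ ?_ ?_ ?_
    · rw [hmap, e.apply_symm_apply]
      exact IsLocalization.Away.algebraMap_isUnit g'
    · intro z
      obtain ⟨n, a, ha⟩ := IsLocalization.Away.surj g' z
      refine ⟨n, e.symm a, ?_⟩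
      rw [hmap, hmap, e.apply_symm_apply, e.apply_symm_apply]
      exact ha
    · intro a b hab
      rw [hmap, hmap] at hab
      obtain ⟨n, hn⟩ := IsLocalization.Away.exists_of_eq g' hab
      refine ⟨n, ?_⟩
      apply e.injective
      rw [map_mul, map_mul, map_pow, e.apply_symm_apply]
      exact hn
  · letI : Algebra R T := ((algebraMap R' T).comp (e : R →+* R')).toAlgebra
    show Ideal.map ((algebraMap R' T).comp (e : R →+* R')) (J.comap (e : R →+* R')) = _
    rw [← Ideal.map_map, Ideal.map_comap_of_surjective (e : R →+* R') e.surjective J, hI]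

end KRAt

section Fibre

variable {R P K : Type u} [CommRing R] [CommRing P] [Algebra R P] [Field K] [Algebra R K]

/-- **Noetherian core** in the language of `KRAt`. -/
theorem krAt_of_fibre [IsNoetherianRing P] [Algebra.FiniteType R P] [Module.Flat R P]
    (I : Ideal P) [Module.Flat R (P ⧸ I)] (𝔮K : Ideal (P ⊗[R] K)) [𝔮K.IsPrime]
    (hI : I.map (Algebra.TensorProduct.includeLeftRingHom : P →+* P ⊗[R] K) ≤ 𝔮K)
    (h : KRAt (I.map (Algebra.TensorProduct.includeLeftRingHom : P →+* P ⊗[R] K)) 𝔮K) :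
    KRAt I (𝔮K.comap (Algebra.TensorProduct.includeLeftRingHom : P →+* P ⊗[R] K)) := by
  haveI hp : (RingHom.ker (algebraMap R K)).IsPrime := RingHom.ker_isPrime _
  let j : (RingHom.ker (algebraMap R K)).ResidueField →ₐ[R] K :=
    Ideal.ResidueField.liftₐ (RingHom.ker (algebraMap R K)) (Algebra.ofId R K)
      (fun x hx => hx)
      (fun r hr => by
        show IsUnit (algebraMap R K r)
        rw [isUnit_iff_ne_zero]
        exact hr)
  obtain ⟨G, hG, T, _, _, hlocT, lT, hlT, hIT⟩ := h
  have hGu : IsUnit (algebraMap (P ⊗[R] K) (Localization.AtPrime 𝔮K) G) :=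
    IsLocalization.map_units (Localization.AtPrime 𝔮K) (⟨G, hG⟩ : 𝔮K.primeCompl)
  letI algTO : Algebra T (Localization.AtPrime 𝔮K) := (IsLocalization.Away.lift G hGu).toAlgebra
  haveI : IsScalarTower (P ⊗[R] K) T (Localization.AtPrime 𝔮K) :=
    IsScalarTower.of_algebraMap_eq (fun x => (IsLocalization.Away.lift_eq G hGu x).symm)
  have hle : Submonoid.powers G ≤ 𝔮K.primeCompl := by
    rintro _ ⟨k, rfl⟩
    exact fun h => hG (Ideal.IsPrime.mem_of_pow_mem inferInstance k h)
  haveI : IsLocalization ((𝔮K.primeCompl).map (algebraMap (P ⊗[R] K) T))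
      (Localization.AtPrime 𝔮K) :=
    IsLocalization.isLocalization_of_submonoid_le T (Localization.AtPrime 𝔮K)
      (Submonoid.powers G) 𝔮K.primeCompl hle
  have hg : LCI.IsKoszulRegularSeq (Localization.AtPrime 𝔮K)
      (lT.map (algebraMap T (Localization.AtPrime 𝔮K))) :=
    kreg_map_of_isLocalization ((𝔮K.primeCompl).map (algebraMap (P ⊗[R] K) T)) lT hlT
  have hgI : I.map (iotaK 𝔮K) =
      Ideal.ofList (lT.map (algebraMap T (Localization.AtPrime 𝔮K))) := by
    rw [← Ideal.map_ofList, ← hIT, Ideal.map_map, Ideal.map_map]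
    congr 1
    ext x
    simp only [RingHom.comp_apply]
    rw [← IsScalarTower.algebraMap_apply (P ⊗[R] K) T (Localization.AtPrime 𝔮K)]
    rfl
  have hI' : I ≤ ctr (RingHom.ker (algebraMap R K))
      (primeKappa (RingHom.ker (algebraMap R K)) j 𝔮K) := by
    rw [ctr_eq]
    exact Ideal.map_le_iff_le_comap.mp hI
  obtain ⟨G', hG', l, hlI, hKR, heq⟩ := key_away (RingHom.ker (algebraMap R K)) j 𝔮K I hI' _ hg hgI
  rw [ctr_eq] at hG'
  exact ⟨G', hG', Localization.Away G', inferInstance, inferInstance, inferInstance, _, hKR, heq⟩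

end Fibre

section Lci

variable {B C : Type u} [CommRing B] [CommRing C]

/-- `φ` is a local complete intersection map near the prime `q` of its target -/
def LciAt (φ : B →+* C) (q : Ideal C) : Prop :=
  ∃ c : C, c ∉ q ∧ ∃ (T : Type u) (_ : CommRing T) (ρ : C →+* T),
    @IsLocalization.Away C _ c T _ ρ.toAlgebra ∧ IsLCIHom (ρ.comp φ)

lemma away_toAlgebra {C T : Type u} [CommRing C] [CommRing T] [Algebra C T] (c : C)
    [h : IsLocalization.Away c T] :
    @IsLocalization.Away C _ c T _ (algebraMap C T).toAlgebra :=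
  @IsLocalization'.mk C _ (Submonoid.powers c) T _ (algebraMap C T).toAlgebra h.1

attribute [local instance] MvPolynomial.algebraMvPolynomial

variable [Algebra B C]

/-- a presentation whose kernel is Koszul-regular near a prime gives an lci map near it -/
theorem lciAt_of_krAt (n : ℕ) (π : MvPolynomial (Fin n) B →ₐ[B] C) (hπ : Function.Surjective π)
    (q : Ideal C) (h : KRAt (RingHom.ker π.toRingHom) (q.comap π.toRingHom)) :
    LciAt (algebraMap B C) q := by
  obtain ⟨G, hG, T, _, _, hloc, l, hl, hI⟩ := h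
  refine ⟨π G, hG, Localization.Away (π G), inferInstance, algebraMap C _,
    away_toAlgebra (π G), ?_⟩
  haveI : IsLocalization.Away (π.toRingHom G) (Localization.Away (π G)) :=
    (inferInstance : IsLocalization.Away (π G) (Localization.Away (π G)))
  let τ : T →+* Localization.Away (π G) :=
    IsLocalization.Away.map T (Localization.Away (π G)) π.toRingHom G
  have hτs : Function.Surjective τ :=
    IsLocalization.map_surjective_of_surjective (Submonoid.powers G) T
      (Localization.Away (π G)) (g := π.toRingHom) hπ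
  have hτk : RingHom.ker τ = (RingHom.ker π.toRingHom).map (algebraMap _ T) :=
    IsLocalization.ker_map (S := T) (M := Submonoid.powers G)
      (Localization.Away (π G)) π.toRingHom (Submonoid.map_powers π.toRingHom G)
  have h1 : IsLCIHom (algebraMap B (MvPolynomial (Fin n) B)) :=
    isLCIHom_of_smooth _ (RingHom.smooth_algebraMap.mpr ⟨inferInstance, inferInstance⟩)
  have h2 : IsLCIHom (algebraMap (MvPolynomial (Fin n) B) T) :=
    isLCIHom_of_away _ G (away_toAlgebra G)
  have h3 : IsLCIHom τ := isLCIHom_of_surjective τ hτs (by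
    rw [hτk, hI]
    exact kr_of_ofList l hl)
  have h4 := isLCIHom_comp _ _ (isLCIHom_comp _ _ h1 h2) h3
  have hcomp : (algebraMap C (Localization.Away (π G))).comp (algebraMap B C) =
      τ.comp ((algebraMap (MvPolynomial (Fin n) B) T).comp
        (algebraMap B (MvPolynomial (Fin n) B))) := by
    ext b
    simp only [RingHom.comp_apply]
    have h5 : τ (algebraMap (MvPolynomial (Fin n) B) T (algebraMap B _ b)) =
        algebraMap C (Localization.Away (π G)) (π.toRingHom (algebraMap B _ b)) :=
      IsLocalization.map_eq _ _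
    rw [h5]
    congr 1
    exact (π.commutes b).symm
  rw [hcomp]
  exact h4

/-- an lci map near a prime has every presentation Koszul-regular near that prime -/
theorem krAt_of_lciAt (n : ℕ) (π : MvPolynomial (Fin n) B →ₐ[B] C) (hπ : Function.Surjective π)
    (q : Ideal C) [q.IsPrime] (h : LciAt (algebraMap B C) q) :
    KRAt (RingHom.ker π.toRingHom) (q.comap π.toRingHom) := by
  obtain ⟨c, hc, T, _, ρ, hloc, hl⟩ := h
  obtain ⟨G, rfl⟩ := hπ c
  letI algCT : Algebra C T := ρ.toAlgebra
  haveI := hloc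
  let e : T ≃ₐ[C] Localization.Away (π G) :=
    IsLocalization.algEquiv (Submonoid.powers (π G)) T _
  have hl' : LCI.IsLCI B (Localization.Away (π G)) := by
    refine @isLCI_of_ringEquiv B T (Localization.Away (π G)) _ _ _
      (ρ.comp (algebraMap B C)).toAlgebra _ e.toRingEquiv ?_ hl
    intro a
    show e (ρ (algebraMap B C a)) = algebraMap B (Localization.Away (π G)) a
    rw [IsScalarTower.algebraMap_apply B C (Localization.Away (π G))]
    exact e.commutes (algebraMap B C a)
  haveI : (q.comap π.toRingHom).IsPrime := Ideal.comap_isPrime _ _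
  exact kr_at_of_isLCI_away B C n π hπ G hl' (q.comap π.toRingHom) hc (by
    intro x hx
    rw [Ideal.mem_comap]
    have h1 : π.toRingHom x = 0 := hx
    rw [h1]
    exact Ideal.zero_mem _)

end Lci

section TB

attribute [local instance] Algebra.TensorProduct.rightAlgebra
attribute [local instance] MvPolynomial.algebraMvPolynomial

lemma bcPres_algebraMap (A B C : Type u) [CommRing A] [CommRing B] [CommRing C] [Algebra A B]
    [Algebra A C] (n : ℕ) (f : MvPolynomial (Fin n) A →ₐ[A] B) (p : MvPolynomial (Fin n) A) :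
    bcPres A B C n f (algebraMap (MvPolynomial (Fin n) A) (MvPolynomial (Fin n) C) p) =
      (1 : C) ⊗ₜ[A] f p := by
  have hE : (MvPolynomial.algebraTensorAlgEquiv A C) ((1 : C) ⊗ₜ[A] p) =
      algebraMap (MvPolynomial (Fin n) A) (MvPolynomial (Fin n) C) p := by
    rw [MvPolynomial.algebraTensorAlgEquiv_tmul, one_smul]
    rfl
  show (Algebra.TensorProduct.map (AlgHom.id C C) f)
    ((MvPolynomial.algebraTensorAlgEquiv A C).symm (algebraMap _ _ p)) = _
  rw [← hE, AlgEquiv.symm_apply_apply]
  rfl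

variable {R B C K : Type u} [CommRing R] [CommRing B] [CommRing C] [Field K]
  [Algebra R B] [Algebra R C] [Algebra B C] [IsScalarTower R B C] [Algebra R K]

/-- the comparison `B[x] ⊗ K ≃ (K ⊗ B)[x]` -/
noncomputable def epsK (n : ℕ) :
    (MvPolynomial (Fin n) B) ⊗[R] K ≃+* MvPolynomial (Fin n) (K ⊗[R] B) :=
  (Algebra.TensorProduct.comm R (MvPolynomial (Fin n) B) K).toRingEquiv.trans
    (MvPolynomial.rTensorAlgEquiv (R := R) (S := K) (N := B) (σ := Fin n)).toRingEquiv

lemma epsK_tmul_one (n : ℕ) (p : MvPolynomial (Fin n) B) :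
    epsK (R := R) (K := K) n (p ⊗ₜ[R] 1) = MvPolynomial.map (algebraMap B (K ⊗[R] B)) p := by
  show MvPolynomial.rTensorAlgEquiv ((1 : K) ⊗ₜ[R] p) = _
  ext d
  rw [MvPolynomial.coeff_rTensorAlgEquiv_tmul, MvPolynomial.coeff_map]
  rfl

/-- **Fibrewise criterion over a field, Noetherian case.** -/
theorem tb_field_noeth [IsNoetherianRing B] [Algebra.FiniteType R B] [Algebra.FiniteType B C]
    [Module.Flat R B] [Module.Flat R C]
    (qK : Ideal ((K ⊗[R] B) ⊗[B] C)) [qK.IsPrime]
    (h : LciAt (algebraMap (K ⊗[R] B) ((K ⊗[R] B) ⊗[B] C)) qK) :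
    LciAt (algebraMap B C)
      (qK.comap (Algebra.TensorProduct.includeRight : C →ₐ[B] (K ⊗[R] B) ⊗[B] C).toRingHom) := by
  obtain ⟨n, π, hπ⟩ := Algebra.FiniteType.iff_quotient_mvPolynomial''.mp
    (inferInstance : Algebra.FiniteType B C)
  have hπ' := bcPres_surjective B C (K ⊗[R] B) n π hπ
  have hker' := ker_bcPres B C (K ⊗[R] B) n π hπ
  have hK1 : KRAt (RingHom.ker (bcPres B C (K ⊗[R] B) n π).toRingHom)
      (qK.comap (bcPres B C (K ⊗[R] B) n π).toRingHom) :=
    krAt_of_lciAt n (bcPres B C (K ⊗[R] B) n π) hπ' qK h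
  have hεmap : ((epsK (R := R) (B := B) (K := K) n : (MvPolynomial (Fin n) B) ⊗[R] K →+* MvPolynomial (Fin n) (K ⊗[R] B))).comp
      (Algebra.TensorProduct.includeLeftRingHom :
        MvPolynomial (Fin n) B →+* (MvPolynomial (Fin n) B) ⊗[R] K) =
      algebraMap (MvPolynomial (Fin n) B) (MvPolynomial (Fin n) (K ⊗[R] B)) := by
    apply RingHom.ext
    intro p
    exact epsK_tmul_one n p
  have hK2 := krAt_comap_equiv (epsK (R := R) (B := B) (K := K) n) _ _ hK1
  have hI2 : (RingHom.ker (bcPres B C (K ⊗[R] B) n π).toRingHom).comap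
      ((epsK (R := R) (B := B) (K := K) n : (MvPolynomial (Fin n) B) ⊗[R] K →+* MvPolynomial (Fin n) (K ⊗[R] B))) =
      (RingHom.ker π.toRingHom).map (Algebra.TensorProduct.includeLeftRingHom :
        MvPolynomial (Fin n) B →+* (MvPolynomial (Fin n) B) ⊗[R] K) := by
    rw [hker', ← hεmap, ← Ideal.map_map]
    exact Ideal.comap_map_of_bijective _ (epsK (R := R) (B := B) (K := K) n).bijective
  rw [hI2] at hK2
  haveI : Module.Flat R (MvPolynomial (Fin n) B) := Module.Flat.trans R B _
  haveI : Algebra.FiniteType R (MvPolynomial (Fin n) B) :=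
    Algebra.FiniteType.trans (inferInstance : Algebra.FiniteType R B) inferInstance
  haveI : Module.Flat R (MvPolynomial (Fin n) B ⧸ RingHom.ker π.toRingHom) := by
    let e : (MvPolynomial (Fin n) B ⧸ RingHom.ker (π.restrictScalars R)) ≃ₐ[R] C :=
      Ideal.quotientKerAlgEquivOfSurjective (f := π.restrictScalars R) hπ
    exact Module.Flat.of_linearEquiv e.toLinearEquiv
  haveI : (qK.comap (bcPres B C (K ⊗[R] B) n π).toRingHom).IsPrime := Ideal.comap_isPrime _ _
  haveI : ((qK.comap (bcPres B C (K ⊗[R] B) n π).toRingHom).comap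
      ((epsK (R := R) (B := B) (K := K) n : (MvPolynomial (Fin n) B) ⊗[R] K →+* MvPolynomial (Fin n) (K ⊗[R] B)))).IsPrime := Ideal.comap_isPrime _ _
  have hle : (RingHom.ker π.toRingHom).map (Algebra.TensorProduct.includeLeftRingHom :
        MvPolynomial (Fin n) B →+* (MvPolynomial (Fin n) B) ⊗[R] K) ≤
      (qK.comap (bcPres B C (K ⊗[R] B) n π).toRingHom).comap
        ((epsK (R := R) (B := B) (K := K) n : (MvPolynomial (Fin n) B) ⊗[R] K →+* MvPolynomial (Fin n) (K ⊗[R] B))) := by
    rw [← hI2]
    apply Ideal.comap_mono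
    intro x hx
    rw [Ideal.mem_comap]
    have h1 : (bcPres B C (K ⊗[R] B) n π).toRingHom x = 0 := hx
    rw [h1]
    exact Ideal.zero_mem _
  have hK3 := krAt_of_fibre (RingHom.ker π.toRingHom) _ hle hK2
  have hprime : ((qK.comap (bcPres B C (K ⊗[R] B) n π).toRingHom).comap
      ((epsK (R := R) (B := B) (K := K) n : (MvPolynomial (Fin n) B) ⊗[R] K →+* MvPolynomial (Fin n) (K ⊗[R] B)))).comap
        (Algebra.TensorProduct.includeLeftRingHom :
          MvPolynomial (Fin n) B →+* (MvPolynomial (Fin n) B) ⊗[R] K) =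
      (qK.comap (Algebra.TensorProduct.includeRight :
        C →ₐ[B] (K ⊗[R] B) ⊗[B] C).toRingHom).comap π.toRingHom := by
    rw [Ideal.comap_comap, Ideal.comap_comap, Ideal.comap_comap, hεmap]
    congr 1
    apply RingHom.ext
    intro p
    exact bcPres_algebraMap B C (K ⊗[R] B) n π p
  rw [hprime] at hK3
  exact lciAt_of_krAt n π hπ _ hK3

end TB

end Groth.Agent.Lib.FibKoszul
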