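import Mathlib
import Groth.Prelude.Def_CAlg
import Groth.Agent.Lib.CM_helper5
import Groth.Agent.Lib.CMSeq_helper5
import Groth.Agent.Lib.RegUC_helper8
import Groth.Agent.Lib.DimFT3_helper8
import Groth.Agent.Lib.DimFT_helper8

/-!
# Complete intersections over a field: dimension ⟷ regular sequences (helper2)

* `ringKrullDim_quot_atPrime`: `dim (D_𝔮 / J D_𝔮) = ht (𝔮 / J)`.
* `weaklyRegular_of_dim_le` (K1): in `k[x_1..x_n]`, if `dim k[x]/(r_1..r_c) + c ≤ n` then
  `r` is a regular sequence in every local ring `k[x]_𝔮`, `𝔮 ⊇ (r)`.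
* `ringKrullDim_quot_regular` (K2): if all maximal ideals of a Noetherian ring `D` have height `n`
  and `as` is a weakly regular sequence with `D/(as) ≠ 0`, then `dim D/(as) + |as| = n`.
APPEND-ONLY once landed.
-/

set_option autoImplicit false
universe u

namespace Groth.Agent.Lib.SyntTA

open RingTheory.Sequence IsLocalRing

theorem ringKrullDim_quot_atPrime {D : Type*} [CommRing D] (J 𝔮 : Ideal D) [𝔮.IsPrime]
    (Q : Ideal (D ⧸ J)) [Q.IsPrime] (h : Q.comap (Ideal.Quotient.mk J) = 𝔮) :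
    ringKrullDim (Localization.AtPrime 𝔮 ⧸ J.map (algebraMap D (Localization.AtPrime 𝔮))) =
      ((Q.height : ℕ∞) : WithBot ℕ∞) := by
  haveI : Q.LiesOver 𝔮 := ⟨h.symm⟩
  have h1 : Algebra.algebraMapSubmonoid (D ⧸ J) 𝔮.primeCompl = Q.primeCompl :=
    Ideal.algebraMapSubmonoid_primeCompl_of_liesOver_surjective Q 𝔮 Ideal.Quotient.mk_surjective
  haveI : IsLocalization.AtPrime
      (Localization.AtPrime 𝔮 ⧸ J.map (algebraMap D (Localization.AtPrime 𝔮))) Q := by
    show IsLocalization Q.primeCompl _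
    rw [← h1]
    infer_instance
  exact IsLocalization.AtPrime.ringKrullDim_eq_height Q _

/-- dimension of `k[x]/𝔮` for a prime of a polynomial ring over a field -/
theorem dim_quot_prime_mvPolynomial (k : Type u) [Field k] (n : ℕ)
    (𝔮 : Ideal (MvPolynomial (Fin n) k)) [𝔮.IsPrime] :
    ∃ r : ℕ, ringKrullDim (MvPolynomial (Fin n) k ⧸ 𝔮) = (r : WithBot ℕ∞) ∧
      𝔮.height + (r : ℕ∞) = (n : ℕ∞) := by
  have hP : Algebra.trdeg k (MvPolynomial (Fin n) k) = n := by
    rw [MvPolynomial.trdeg_of_isDomain]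
    simp
  obtain ⟨r, hr, hh⟩ := Groth.Agent.DimFT3H8.height_add_trdeg_quotient n k
    (MvPolynomial (Fin n) k) hP 𝔮
  haveI : Algebra.FiniteType k (MvPolynomial (Fin n) k ⧸ 𝔮) :=
    Algebra.FiniteType.of_surjective (Ideal.Quotient.mkₐ k 𝔮) (Ideal.Quotient.mkₐ_surjective k 𝔮)
  obtain ⟨r', -, hr', hdim, -⟩ := Groth.Agent.DimFTH8.exists_dim_eq k (MvPolynomial (Fin n) k ⧸ 𝔮)
  have hrr : r' = r := by
    have : ((r' : ℕ) : Cardinal) = ((r : ℕ) : Cardinal) := by rw [← hr', hr]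
    exact_mod_cast this
  subst hrr
  exact ⟨r', hdim, hh⟩

/-- **K1**: the dimension inequality forces regularity in all local rings. -/
theorem weaklyRegular_of_dim_le (k : Type u) [Field k] (n : ℕ)
    (rs : List (MvPolynomial (Fin n) k))
    (hdim : ringKrullDim (MvPolynomial (Fin n) k ⧸ Ideal.ofList rs) + (rs.length : WithBot ℕ∞) ≤
      (n : WithBot ℕ∞))
    (𝔮 : Ideal (MvPolynomial (Fin n) k)) [𝔮.IsPrime] (h𝔮 : Ideal.ofList rs ≤ 𝔮) :
    IsWeaklyRegular (Localization.AtPrime 𝔮)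
      (rs.map (algebraMap (MvPolynomial (Fin n) k) (Localization.AtPrime 𝔮))) := by
  set Q : Ideal (MvPolynomial (Fin n) k ⧸ Ideal.ofList rs) :=
    𝔮.map (Ideal.Quotient.mk (Ideal.ofList rs)) with hQdef
  haveI hQ : Q.IsPrime := Ideal.map_isPrime_of_surjective Ideal.Quotient.mk_surjective
    (by rw [Ideal.mk_ker]; exact h𝔮)
  have hQc : Q.comap (Ideal.Quotient.mk (Ideal.ofList rs)) = 𝔮 := by
    rw [hQdef, Ideal.comap_map_of_surjective _ Ideal.Quotient.mk_surjective,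
      ← RingHom.ker_eq_comap_bot, Ideal.mk_ker, sup_eq_left.mpr h𝔮]
  have h1 := Groth.Agent.DimFT3H8.height_add_ringKrullDim_quotient_le Q
  have e : ((MvPolynomial (Fin n) k ⧸ Ideal.ofList rs) ⧸ Q) ≃+* MvPolynomial (Fin n) k ⧸ 𝔮 :=
    DoubleQuot.quotQuotEquivQuotOfLE h𝔮
  obtain ⟨r, hr, hh⟩ := dim_quot_prime_mvPolynomial k n 𝔮
  rw [ringKrullDim_eq_of_ringEquiv e, hr] at h1
  -- numerics
  have h𝔮fin : 𝔮.height ≠ ⊤ := by
    intro htop
    rw [htop, top_add] at hh
    exact ENat.top_ne_coe n hh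
  obtain ⟨a, ha⟩ := ENat.ne_top_iff_exists.mp h𝔮fin
  have h2 : ((Q.height : ℕ∞) : WithBot ℕ∞) + (r : WithBot ℕ∞) + (rs.length : WithBot ℕ∞) ≤
      (n : WithBot ℕ∞) := le_trans (add_le_add_left h1 _) hdim
  have hQfin : Q.height ≠ ⊤ := by
    intro htop
    rw [htop] at h2
    have : ((⊤ : ℕ∞) : WithBot ℕ∞) + ((r : ℕ∞) : WithBot ℕ∞) + ((rs.length : ℕ∞) : WithBot ℕ∞) ≤
        ((n : ℕ∞) : WithBot ℕ∞) := h2
    rw [← WithBot.coe_add, ← WithBot.coe_add, WithBot.coe_le_coe, top_add, top_add] at this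
    exact absurd this (by simp)
  obtain ⟨b, hb⟩ := ENat.ne_top_iff_exists.mp hQfin
  have harn : a + r = n := by
    rw [← ha] at hh
    exact_mod_cast hh
  have hbrc : b + r + rs.length ≤ n := by
    rw [← hb] at h2
    exact_mod_cast h2
  have hbc : b + rs.length ≤ a := by omega
  -- the local ring
  have hdO : ringKrullDim (Localization.AtPrime 𝔮) = (a : WithBot ℕ∞) := by
    rw [IsLocalization.AtPrime.ringKrullDim_eq_height 𝔮 (Localization.AtPrime 𝔮), ← ha]
    rfl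
  have hdOJ : ringKrullDim (Localization.AtPrime 𝔮 ⧸
      (Ideal.ofList rs).map (algebraMap (MvPolynomial (Fin n) k) (Localization.AtPrime 𝔮))) =
      (b : WithBot ℕ∞) := by
    rw [ringKrullDim_quot_atPrime (Ideal.ofList rs) 𝔮 Q hQc, ← hb]
    rfl
  haveI : IsRegularLocalRing (Localization.AtPrime 𝔮) := inferInstance
  have hCM : LocCoh.IsCohenMacaulayModule (Localization.AtPrime 𝔮) (Localization.AtPrime 𝔮) :=
    RegUCH8.isCM_of_regular (Localization.AtPrime 𝔮)
  have hmem : ∀ x ∈ rs.map (algebraMap (MvPolynomial (Fin n) k) (Localization.AtPrime 𝔮)),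
      x ∈ maximalIdeal (Localization.AtPrime 𝔮) := by
    intro x hx
    rw [List.mem_map] at hx
    obtain ⟨y, hy, rfl⟩ := hx
    rw [IsLocalization.AtPrime.to_map_mem_maximal_iff (Localization.AtPrime 𝔮) 𝔮]
    exact h𝔮 (Ideal.subset_span hy)
  have hof : Ideal.ofList (rs.map (algebraMap (MvPolynomial (Fin n) k) (Localization.AtPrime 𝔮))) =
      (Ideal.ofList rs).map (algebraMap (MvPolynomial (Fin n) k) (Localization.AtPrime 𝔮)) :=
    (Ideal.map_ofList _ _).symm
  apply (Groth.Agent.DepthLib.isCM_list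
    (rs.map (algebraMap (MvPolynomial (Fin n) k) (Localization.AtPrime 𝔮)))
    (Localization.AtPrime 𝔮) hCM hmem).1.2
  apply le_antisymm
  · rw [Groth.Agent.DepthLib.supportDim_quot_smul_top_self, Module.supportDim_self_eq_ringKrullDim,
      hof, hdOJ, hdO, List.length_map]
    exact_mod_cast hbc
  · exact Groth.Agent.DepthLib.supportDim_le_supportDim_quot_ofList_add_length _
      (Localization.AtPrime 𝔮) hmem

/-- **K2**: dimension of the quotient by a regular sequence when all maximal ideals have the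
same height. -/
theorem ringKrullDim_quot_regular {D : Type u} [CommRing D] [IsNoetherianRing D] (n : ℕ)
    (hD : ∀ (𝔐 : Ideal D) [𝔐.IsMaximal], ringKrullDim (Localization.AtPrime 𝔐) = (n : WithBot ℕ∞))
    (as : List D) (hreg : IsWeaklyRegular D as) [Nontrivial (D ⧸ Ideal.ofList as)] :
    ringKrullDim (D ⧸ Ideal.ofList as) + (as.length : WithBot ℕ∞) = (n : WithBot ℕ∞) := by
  set J := Ideal.ofList as with hJdef
  have key : ∀ (𝔪 : Ideal (D ⧸ J)) [𝔪.IsMaximal],
      ((𝔪.height : ℕ∞) : WithBot ℕ∞) + (as.length : WithBot ℕ∞) = (n : WithBot ℕ∞) := by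
    intro 𝔪 h𝔪
    set 𝔐 := 𝔪.comap (Ideal.Quotient.mk J) with h𝔐def
    haveI h𝔐 : 𝔐.IsMaximal := Ideal.comap_isMaximal_of_surjective _ Ideal.Quotient.mk_surjective
    have hJ𝔐 : J ≤ 𝔐 := by
      intro x hx
      show Ideal.Quotient.mk J x ∈ 𝔪
      rw [Ideal.Quotient.eq_zero_iff_mem.mpr hx]
      exact 𝔪.zero_mem
    have hreg' : IsRegular (Localization.AtPrime 𝔐)
        (as.map (algebraMap D (Localization.AtPrime 𝔐))) :=
      hreg.isRegular_of_isLocalization_of_mem (Localization.AtPrime 𝔐) 𝔐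
        (fun r hr => hJ𝔐 (Ideal.subset_span hr))
    have h1 := ringKrullDim_add_length_eq_ringKrullDim_of_isRegular _ hreg'
    rw [hD 𝔐, List.length_map] at h1
    have hof : Ideal.ofList (as.map (algebraMap D (Localization.AtPrime 𝔐))) =
        J.map (algebraMap D (Localization.AtPrime 𝔐)) := (Ideal.map_ofList _ _).symm
    rw [ringKrullDim_eq_of_ringEquiv (Ideal.quotEquivOfEq hof),
      ringKrullDim_quot_atPrime J 𝔐 𝔪 rfl] at h1
    exact h1
  obtain ⟨𝔪₀, h𝔪₀⟩ := Ideal.exists_maximal (D ⧸ J)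
  have h0 := key 𝔪₀
  have hfin : 𝔪₀.height ≠ ⊤ := by
    intro htop
    rw [htop] at h0
    have : ((⊤ : ℕ∞) : WithBot ℕ∞) + ((as.length : ℕ∞) : WithBot ℕ∞) =
        ((n : ℕ∞) : WithBot ℕ∞) := h0
    rw [← WithBot.coe_add, WithBot.coe_inj, top_add] at this
    exact ENat.top_ne_coe n this
  obtain ⟨d, hd⟩ := ENat.ne_top_iff_exists.mp hfin
  have hdn : d + as.length = n := by
    rw [← hd] at h0
    exact_mod_cast h0
  have hall : ∀ (𝔪 : Ideal (D ⧸ J)) [𝔪.IsMaximal], 𝔪.height = (d : ℕ∞) := by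
    intro 𝔪 h𝔪
    have h1 := key 𝔪
    have hfin' : 𝔪.height ≠ ⊤ := by
      intro htop
      rw [htop] at h1
      have : ((⊤ : ℕ∞) : WithBot ℕ∞) + ((as.length : ℕ∞) : WithBot ℕ∞) =
          ((n : ℕ∞) : WithBot ℕ∞) := h1
      rw [← WithBot.coe_add, WithBot.coe_inj, top_add] at this
      exact ENat.top_ne_coe n this
    obtain ⟨d', hd'⟩ := ENat.ne_top_iff_exists.mp hfin'
    have : d' + as.length = n := by
      rw [← hd'] at h1
      exact_mod_cast h1
    have : d' = d := by omega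
    rw [← hd', this]
  have hdim : ringKrullDim (D ⧸ J) = (d : WithBot ℕ∞) := by
    apply le_antisymm
    · rw [ringKrullDim_le_iff_isMaximal_height_le]
      intro 𝔪 h𝔪
      haveI := h𝔪
      rw [hall 𝔪]
      exact_mod_cast le_rfl
    · have h2 := Ideal.height_le_ringKrullDim_of_ne_top h𝔪₀.ne_top
      rw [hall 𝔪₀] at h2
      exact_mod_cast h2
  rw [hdim]
  exact_mod_cast hdn

end Groth.Agent.Lib.SyntTA
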