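import Mathlib
import Groth.Prelude.Def_RegImm
import Groth.Prelude.Def_LCI2
import Groth.Agent.Lib.SyntTA1_helper2
import Groth.Agent.Lib.FibKoszul4_helper2
import Groth.Agent.Lib.LCILocal_helper2
import Groth.Agent.Lib.LCIComp_helper2
import Groth.Agent.Lib.EtaleDiffCrit_helper3

/-!
# Local complete intersections over a field: `Synt.IsLCIOver k S ↔ LCI.IsLCI k S` (helper2)
APPEND-ONLY once landed.
-/

set_option autoImplicit false
universe u

namespace Groth.Agent.Lib.SyntTA

open RingTheory.Sequence IsLocalRing Polynomial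
open Groth.Agent.Lib.KRegIdeal Groth.Agent.Lib.LCILocal Groth.Agent.Lib.LCIComp
open Groth.Agent.Lib.FibKoszul

section gci_to_lci

variable (k : Type u) [Field k]

/-- (a) the dimension inequality makes `(rs)` a Koszul-regular ideal. -/
theorem kr_of_dim_le (n : ℕ) (rs : List (MvPolynomial (Fin n) k))
    (hdim : ringKrullDim (MvPolynomial (Fin n) k ⧸ Ideal.ofList rs) + (rs.length : WithBot ℕ∞) ≤
      (n : WithBot ℕ∞)) : KR (Ideal.ofList rs) := by
  intro 𝔮 h𝔮 hle
  haveI := h𝔮
  have hW := weaklyRegular_of_dim_le k n rs hdim 𝔮 hle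
  obtain ⟨g, hg, hreg, heq⟩ := Groth.Agent.Vasc9.exists_away_regular 𝔮 (Ideal.ofList rs) hle rs
    (fun a ha => Ideal.subset_span ha) hW le_rfl
  exact ⟨g, hg, Localization.Away g, inferInstance, inferInstance, inferInstance,
    rs.map (algebraMap _ _),
    (Groth.Agent.Lib.KoszulTopH7.koszulRegular _ hreg.toIsWeaklyRegular).1, heq.symm⟩

lemma span_range_eq_ofList {R : Type*} [CommRing R] {c : ℕ} (r : Fin c → R) :
    Ideal.span (Set.range r) = Ideal.ofList (List.ofFn r) := by
  unfold Ideal.ofList
  congr 1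
  ext x
  simp [List.mem_ofFn]

/-- (b) a global complete intersection over a field is an lci algebra. -/
theorem isLCI_of_isGlobalCI (S : Type u) [CommRing S] [Algebra k S] (h : Synt.IsGlobalCI k S) :
    LCI.IsLCI k S := by
  rcases h with hsub | ⟨n, c, hcn, φ, r, hφ, hker, hdim⟩
  · haveI := hsub
    have hsurj : Function.Surjective (Algebra.ofId k S) := fun s => ⟨0, Subsingleton.elim _ _⟩
    let f : MvPolynomial (Fin 0) k →ₐ[k] S :=
      (Algebra.ofId k S).comp (MvPolynomial.isEmptyAlgEquiv k (Fin 0)).toAlgHom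
    refine ⟨Algebra.FiniteType.of_surjective (Algebra.ofId k S) hsurj, 0, f,
      fun s => ⟨0, Subsingleton.elim _ _⟩, ?_⟩
    intro 𝔭 hle
    exfalso
    have htop : RingHom.ker f.toRingHom = ⊤ := by
      rw [eq_top_iff]
      intro x _
      rw [RingHom.mem_ker]
      exact Subsingleton.elim _ _
    exact 𝔭.isPrime.ne_top (top_le_iff.mp (htop ▸ hle))
  · have hft : Algebra.FiniteType k S := Algebra.FiniteType.of_surjective φ hφ
    refine ⟨hft, n, φ, hφ, ?_⟩
    rw [kr_iff, hker, span_range_eq_ofList]
    apply kr_of_dim_le k n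
    have hI : Ideal.ofList (List.ofFn r) = RingHom.ker φ.toRingHom := by
      rw [hker, span_range_eq_ofList]
    have e : (MvPolynomial (Fin n) k ⧸ Ideal.ofList (List.ofFn r)) ≃+* S :=
      (Ideal.quotEquivOfEq hI).trans (RingHom.quotientKerEquivOfSurjective hφ)
    rw [ringKrullDim_eq_of_ringEquiv e, hdim, List.length_ofFn]
    have : n - c + c ≤ n := by omega
    exact_mod_cast this

/-- (c) `Synt.IsLCIOver ⟹ LCI.IsLCI` over a field. -/
theorem isLCI_of_isLCIOver (S : Type u) [CommRing S] [Algebra k S] (h : Synt.IsLCIOver k S) :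
    LCI.IsLCI k S := by
  obtain ⟨hft, hloc⟩ := h
  have key : IsLCIHom (algebraMap k S) := by
    refine isLCIHom_of_cover (algebraMap k S)
      {g : S | Synt.IsGlobalCI k (Localization.Away g)} ?_ ?_
    · by_contra hne
      obtain ⟨m, hm, hle⟩ := Ideal.exists_le_maximal _ hne
      obtain ⟨g, hg, hgci⟩ := hloc ⟨m, hm.isPrime⟩
      exact hg (hle (Ideal.subset_span hgci))
    · intro a ha
      refine ⟨Localization.Away a, inferInstance, algebraMap S _, away_toAlgebra a, ?_⟩
      have h1 := isLCI_of_isGlobalCI k _ ha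
      have halg : ((algebraMap S (Localization.Away a)).comp (algebraMap k S)).toAlgebra =
          (inferInstance : Algebra k (Localization.Away a)) :=
        Algebra.algebra_ext _ _ (fun r => (IsScalarTower.algebraMap_apply k S _ r).symm)
      unfold IsLCIHom
      rw [halg]
      exact h1
  have halg : (algebraMap k S).toAlgebra = (inferInstance : Algebra k S) :=
    Algebra.algebra_ext _ _ (fun _ => rfl)
  unfold IsLCIHom at key
  rw [halg] at key
  exact key

end gci_to_lci

section lci_to_gci

/-- Step 1: a Koszul-regular model near `𝔮` gives Koszul-regular generators in the local ring. -/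
theorem koszul_local_of_krAt {P : Type u} [CommRing P] (I 𝔮 : Ideal P) [𝔮.IsPrime]
    (h : KRAt I 𝔮) :
    ∃ g' : List (Localization.AtPrime 𝔮), LCI.IsKoszulRegularSeq (Localization.AtPrime 𝔮) g' ∧
      Ideal.ofList g' = I.map (algebraMap P (Localization.AtPrime 𝔮)) := by
  obtain ⟨G₀, hG₀, T, _, _, hloc, l, hl, hIT⟩ := h
  haveI := hloc
  have hle : Submonoid.powers G₀ ≤ 𝔮.primeCompl := by
    rintro x ⟨m, rfl⟩ hx
    exact hG₀ (Ideal.IsPrime.mem_of_pow_mem inferInstance m hx)
  let τ : T →+* Localization.AtPrime 𝔮 :=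
    IsLocalization.lift (M := Submonoid.powers G₀) (g := algebraMap P (Localization.AtPrime 𝔮))
      (fun y => IsLocalization.map_units (Localization.AtPrime 𝔮) ⟨y.1, hle y.2⟩)
  letI : Algebra T (Localization.AtPrime 𝔮) := τ.toAlgebra
  haveI : IsScalarTower P T (Localization.AtPrime 𝔮) :=
    IsScalarTower.of_algebraMap_eq (fun x => (IsLocalization.lift_eq _ x).symm)
  haveI : IsLocalization (𝔮.primeCompl.map (algebraMap P T)) (Localization.AtPrime 𝔮) :=
    IsLocalization.isLocalization_of_submonoid_le T (Localization.AtPrime 𝔮)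
      (Submonoid.powers G₀) 𝔮.primeCompl hle
  refine ⟨l.map (algebraMap T _),
    kreg_map_of_isLocalization (𝔮.primeCompl.map (algebraMap P T)) l hl, ?_⟩
  rw [IsScalarTower.algebraMap_eq P T (Localization.AtPrime 𝔮), ← Ideal.map_map, hIT,
    Ideal.map_ofList]

/-- Steps 2–3: Koszul-regular generators in the local ring spread out to a regular sequence of
elements of `I` on a principal open. -/
theorem exists_away_regular_of_koszul_local {P : Type u} [CommRing P] [IsNoetherianRing P]
    (I 𝔮 : Ideal P) [𝔮.IsPrime] (hI𝔮 : I ≤ 𝔮)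
    (g' : List (Localization.AtPrime 𝔮)) (hg' : LCI.IsKoszulRegularSeq (Localization.AtPrime 𝔮) g')
    (hg'I : Ideal.ofList g' = I.map (algebraMap P (Localization.AtPrime 𝔮))) :
    ∃ G : P, G ∉ 𝔮 ∧ ∃ as : List P, (∀ x ∈ as, x ∈ I) ∧
      IsRegular (Localization.Away G) (as.map (algebraMap P (Localization.Away G))) ∧
      Ideal.ofList (as.map (algebraMap P (Localization.Away G))) =
        I.map (algebraMap P (Localization.Away G)) := by
  classical
  obtain ⟨s, hs⟩ := (isNoetherianRing_iff_ideal_fg P).mp inferInstance I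
  have ha : Ideal.ofList s.toList = I := by
    rw [← hs]
    unfold Ideal.ofList
    congr 1
    ext x
    simp
  have hJle : I.map (algebraMap P (Localization.AtPrime 𝔮)) ≤
      maximalIdeal (Localization.AtPrime 𝔮) := by
    rw [Ideal.map_le_iff_le_comap]
    intro x hx
    rw [Ideal.mem_comap, IsLocalization.AtPrime.to_map_mem_maximal_iff (Localization.AtPrime 𝔮) 𝔮]
    exact hI𝔮 hx
  have hJtop : I.map (algebraMap P (Localization.AtPrime 𝔮)) ≠ ⊤ := fun h =>
    (maximalIdeal.isMaximal (Localization.AtPrime 𝔮)).ne_top (top_le_iff.mp (h ▸ hJle))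
  have haJ : Ideal.ofList (s.toList.map (algebraMap P (Localization.AtPrime 𝔮))) =
      I.map (algebraMap P (Localization.AtPrime 𝔮)) := by
    rw [← Ideal.map_ofList, ha]
  obtain ⟨l', hl'sub, hl'J, hl'min⟩ :=
    exists_sublist_minimal (s.toList.map (algebraMap P (Localization.AtPrime 𝔮)))
  obtain ⟨as, hla, rfl⟩ := List.sublist_map_iff.mp hl'sub
  have hasI : ∀ x ∈ as, x ∈ I := fun x hx => by
    rw [← ha]
    exact Ideal.subset_span (hla.subset hx)
  have hKas : LCI.IsKoszulRegularSeq (Localization.AtPrime 𝔮)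
      (as.map (algebraMap P (Localization.AtPrime 𝔮))) :=
    (Groth.Agent.Lib.KoszulSplit.main18935 _ hJtop g' hg' hg'I
      (as.map (algebraMap P (Localization.AtPrime 𝔮))) (hl'J.trans haJ)).mpr
      (fun h hh => hl'min h (hh.trans haJ.symm))
  haveI : IsNoetherianRing (Localization.AtPrime 𝔮) :=
    IsLocalization.isNoetherianRing 𝔮.primeCompl _ inferInstance
  have hmem : ∀ z ∈ as.map (algebraMap P (Localization.AtPrime 𝔮)),
      z ∈ maximalIdeal (Localization.AtPrime 𝔮) := by
    intro z hz
    rw [List.mem_map] at hz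
    obtain ⟨y, hy, rfl⟩ := hz
    rw [IsLocalization.AtPrime.to_map_mem_maximal_iff (Localization.AtPrime 𝔮) 𝔮]
    exact hI𝔮 (hasI y hy)
  have hW : IsWeaklyRegular (Localization.AtPrime 𝔮)
      (as.map (algebraMap P (Localization.AtPrime 𝔮))) := by
    apply Groth.Agent.Lib.KoszulDepth2H7.regular_of_vanishing (Localization.AtPrime 𝔮) _ hmem
    intro i hi
    exact Groth.Agent.Lib.KoszulTopH7.isZero_homology_of_eq
      (Groth.Agent.Lib.KoszulTopH7.koszul_eq _).symm i (hKas i (by omega))
  have hspan : I.map (algebraMap P (Localization.AtPrime 𝔮)) ≤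
      (Ideal.ofList as).map (algebraMap P (Localization.AtPrime 𝔮)) := by
    rw [Ideal.map_ofList, hl'J, haJ]
  obtain ⟨G, hG, hreg, heq⟩ := Groth.Agent.Vasc9.exists_away_regular 𝔮 I hI𝔮 as hasI hW hspan
  exact ⟨G, hG, as, hasI, hreg, heq⟩

lemma exists_nat_of_add_eq {x : WithBot ℕ∞} {l n : ℕ} (h0 : 0 ≤ x)
    (h : x + (l : WithBot ℕ∞) = (n : WithBot ℕ∞)) :
    ∃ d : ℕ, x = (d : WithBot ℕ∞) ∧ d + l = n := by
  cases x with
  | bot => exact absurd h0 (by simp)
  | coe y =>
    cases y with
    | top =>
      exfalso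
      have : ((⊤ : ℕ∞) : WithBot ℕ∞) + ((l : ℕ∞) : WithBot ℕ∞) = ((n : ℕ∞) : WithBot ℕ∞) := h
      rw [← WithBot.coe_add, WithBot.coe_inj, top_add] at this
      exact ENat.top_ne_coe n this
    | coe d => exact ⟨d, rfl, by exact_mod_cast h⟩

variable (k : Type u) [Field k] {S : Type u} [CommRing S] [Algebra k S]

/-- Step 4: the localisation is a global complete intersection. -/
theorem isGlobalCI_away (n : ℕ) (π : MvPolynomial (Fin n) k →ₐ[k] S)
    (hπ : Function.Surjective π) (G : MvPolynomial (Fin n) k)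
    (as : List (MvPolynomial (Fin n) k))
    (hreg : IsRegular (Localization.Away G)
      (as.map (algebraMap (MvPolynomial (Fin n) k) (Localization.Away G))))
    (heq : Ideal.ofList (as.map (algebraMap (MvPolynomial (Fin n) k) (Localization.Away G))) =
      (RingHom.ker π.toRingHom).map (algebraMap (MvPolynomial (Fin n) k) (Localization.Away G))) :
    Synt.IsGlobalCI k (Localization.Away (π G)) := by
  classical
  haveI : Algebra.Etale (MvPolynomial (Fin n) k) (Localization.Away G) :=
    Algebra.Etale.of_isLocalizationAway G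
  haveI : IsNoetherianRing (Localization.Away G) :=
    IsLocalization.isNoetherianRing (Submonoid.powers G) _ inferInstance
  have hDmax : ∀ (𝔐 : Ideal (Localization.Away G)) [𝔐.IsMaximal],
      ringKrullDim (Localization.AtPrime 𝔐) = (n : WithBot ℕ∞) :=
    fun 𝔐 _ => Groth.Agent.Lib.EtaleDiffCritH3.ringKrullDim_of_etale k n (Localization.Away G) 𝔐
  haveI hnt : Nontrivial (Localization.Away G ⧸
      Ideal.ofList (as.map (algebraMap (MvPolynomial (Fin n) k) (Localization.Away G)))) := by
    rw [Ideal.Quotient.nontrivial_iff]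
    intro htop
    apply hreg.top_ne_smul
    rw [htop, smul_eq_mul, Ideal.top_mul]
  have hdim := ringKrullDim_quot_regular n hDmax _ hreg.toIsWeaklyRegular
  rw [List.length_map] at hdim
  have hker : RingHom.ker (awayLift π.toRingHom G) =
      Ideal.ofList (as.map (algebraMap (MvPolynomial (Fin n) k) (Localization.Away G))) := by
    rw [ker_awayLift, heq]
  let e : (Localization.Away G ⧸
      Ideal.ofList (as.map (algebraMap (MvPolynomial (Fin n) k) (Localization.Away G)))) ≃+*
      Localization.Away (π G) :=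
    (Ideal.quotEquivOfEq hker.symm).trans
      (RingHom.quotientKerEquivOfSurjective (awayLift_surjective π.toRingHom hπ G))
  haveI : Nontrivial (Localization.Away (π G)) := e.injective.nontrivial
  rw [ringKrullDim_eq_of_ringEquiv e] at hdim
  obtain ⟨d, hd, hdn⟩ := exists_nat_of_add_eq ringKrullDim_nonneg_of_nontrivial hdim
  -- the presentation
  let E := MvPolynomial.finSuccEquiv k n
  let γ : (MvPolynomial (Fin n) k)[X] →+* Localization.Away (π G) :=
    (awayLift π.toRingHom G).comp (evInv G)
  have hγsurj : Function.Surjective γ :=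
    (awayLift_surjective π.toRingHom hπ G).comp (evInv_surjective G)
  let φ : MvPolynomial (Fin (n + 1)) k →ₐ[k] Localization.Away (π G) :=
    { γ.comp (E : MvPolynomial (Fin (n + 1)) k →+* (MvPolynomial (Fin n) k)[X]) with
      commutes' := fun a => by
        show γ (E (algebraMap k _ a)) = algebraMap k _ a
        rw [E.commutes]
        show awayLift π.toRingHom G (evInv G (algebraMap k (MvPolynomial (Fin n) k)[X] a)) = _
        rw [Polynomial.algebraMap_apply, evInv_C, awayLift_algebraMap]
        show algebraMap S _ (π (algebraMap k _ a)) = _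
        rw [π.commutes, ← IsScalarTower.algebraMap_apply]
        rfl }
  have hφ : ∀ x, φ x = γ (E x) := fun _ => rfl
  have hφsurj : Function.Surjective φ := by
    intro z
    obtain ⟨w, hw⟩ := hγsurj z
    exact ⟨E.symm w, by rw [hφ, E.apply_symm_apply, hw]⟩
  let L : List (MvPolynomial (Fin n) k)[X] := (C G * X - 1) :: as.map C
  let r : Fin L.length → MvPolynomial (Fin (n + 1)) k := fun j => E.symm (L.get j)
  have hLlen : L.length = as.length + 1 := by simp [L]
  have h1 : RingHom.ker γ = Ideal.ofList L := by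
    have hmap : as.map (algebraMap (MvPolynomial (Fin n) k) (Localization.Away G)) =
        (as.map C).map (evInv G) := by
      rw [List.map_map]
      apply List.map_congr_left
      intro a _
      exact (evInv_C G a).symm
    rw [show RingHom.ker γ = (RingHom.ker (awayLift π.toRingHom G)).comap (evInv G) from
      (RingHom.comap_ker _ _).symm, hker, hmap, ← Ideal.map_ofList,
      Ideal.comap_map_of_surjective _ (evInv_surjective G), ← RingHom.ker_eq_comap_bot,
      ker_evInv, Ideal.ofList_cons, sup_comm]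
  have hkerφ : RingHom.ker φ.toRingHom = Ideal.span (Set.range r) := by
    ext x
    rw [RingHom.mem_ker]
    show φ x = 0 ↔ _
    rw [hφ, ← RingHom.mem_ker, h1]
    constructor
    · intro hx
      have h4 : E.symm (E x) ∈ Ideal.map
          ((E.symm : (MvPolynomial (Fin n) k)[X] ≃ₐ[k] MvPolynomial (Fin (n + 1)) k) :
            (MvPolynomial (Fin n) k)[X] →+* MvPolynomial (Fin (n + 1)) k) (Ideal.ofList L) :=
        Ideal.mem_map_of_mem _ hx
      rw [E.symm_apply_apply, Ideal.ofList, Ideal.map_span] at h4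
      refine Ideal.span_mono ?_ h4
      rintro _ ⟨z, hz, rfl⟩
      obtain ⟨j, rfl⟩ := List.mem_iff_get.mp hz
      exact ⟨j, rfl⟩
    · intro hx
      have hle : Ideal.span (Set.range r) ≤
          (Ideal.ofList L).comap (E : MvPolynomial (Fin (n + 1)) k →+* (MvPolynomial (Fin n) k)[X]) := by
        rw [Ideal.span_le]
        rintro _ ⟨j, rfl⟩
        show E (E.symm (L.get j)) ∈ Ideal.ofList L
        rw [E.apply_symm_apply]
        exact Ideal.subset_span (List.get_mem L j)
      exact hle hx
  refine Or.inr ⟨n + 1, L.length, by omega, φ, r, hφsurj, hkerφ, ?_⟩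
  rw [hd]
  have : n + 1 - L.length = d := by omega
  rw [this]

/-- (d) near a prime where the kernel of a presentation is Koszul-regular, `S` is a global
complete intersection. -/
theorem isGlobalCI_away_of_krAt (n : ℕ) (π : MvPolynomial (Fin n) k →ₐ[k] S)
    (hπ : Function.Surjective π) (p : Ideal S) [p.IsPrime]
    (h : KRAt (RingHom.ker π.toRingHom) (p.comap π.toRingHom)) :
    ∃ g : S, g ∉ p ∧ Synt.IsGlobalCI k (Localization.Away g) := by
  haveI : (p.comap π.toRingHom).IsPrime := Ideal.comap_isPrime _ _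
  have hI𝔮 : RingHom.ker π.toRingHom ≤ p.comap π.toRingHom := by
    intro x hx
    rw [Ideal.mem_comap, RingHom.mem_ker.mp hx]
    exact p.zero_mem
  obtain ⟨g', hg', hg'I⟩ := koszul_local_of_krAt _ _ h
  obtain ⟨G, hG, as, -, hreg, heq⟩ :=
    exists_away_regular_of_koszul_local _ _ hI𝔮 g' hg' hg'I
  exact ⟨π G, hG, isGlobalCI_away k n π hπ G as hreg heq⟩

/-- (e) `LCI.IsLCI ⟹ Synt.IsLCIOver` over a field. -/
theorem isLCIOver_of_isLCI (S : Type u) [CommRing S] [Algebra k S] (h : LCI.IsLCI k S) :
    Synt.IsLCIOver k S := by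
  obtain ⟨hft, n, π, hπ, hKR⟩ := h
  rw [kr_iff] at hKR
  refine ⟨hft, fun p => ?_⟩
  haveI : (p.asIdeal.comap π.toRingHom).IsPrime := Ideal.comap_isPrime _ _
  have hle : RingHom.ker π.toRingHom ≤ p.asIdeal.comap π.toRingHom := by
    intro x hx
    rw [Ideal.mem_comap, RingHom.mem_ker.mp hx]
    exact p.asIdeal.zero_mem
  exact isGlobalCI_away_of_krAt k n π hπ p.asIdeal (hKR _ inferInstance hle)

/-- **T-A**: over a field the two notions of local complete intersection algebra agree. -/
theorem isLCIOver_iff_isLCI (S : Type u) [CommRing S] [Algebra k S] :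
    Synt.IsLCIOver k S ↔ LCI.IsLCI k S :=
  ⟨isLCI_of_isLCIOver k S, isLCIOver_of_isLCI k S⟩

end lci_to_gci

end Groth.Agent.Lib.SyntTA
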