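import Mathlib
import Groth.Prelude.Def_LCI2
import Groth.Agent.Lib.SyntTA2_helper2
import Groth.Agent.Lib.Regular3_helper5
import Groth.Agent.Lib.KoszulTop_helper7

/-!
# A finite type morphism between regular rings/schemes is a local complete intersection (S1493)
(helper2)
-/

set_option autoImplicit false
universe u

namespace Groth.Agent.Lib.RegLCI

open RingTheory.Sequence IsLocalRing
open Groth.Agent.Lib.KRegIdeal Groth.Agent.Lib.SyntTA

section ring

/-- the quotient of the localisation at `𝔮 ⊇ ker π` by the extended kernel is the localisation of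
the target at the image prime; in particular it is regular if all local rings of `B` are. -/
theorem regular_quot_of_regular_loc {P B : Type u} [CommRing P] [CommRing B] (π : P →+* B)
    (hπ : Function.Surjective π) (𝔮 : Ideal P) [𝔮.IsPrime] (hle : RingHom.ker π ≤ 𝔮)
    (hB : ∀ (𝔮' : Ideal B) [𝔮'.IsPrime], IsRegularLocalRing (Localization.AtPrime 𝔮')) :
    IsRegularLocalRing (Localization.AtPrime 𝔮 ⧸
      (RingHom.ker π).map (algebraMap P (Localization.AtPrime 𝔮))) := by
  set R := Localization.AtPrime 𝔮 with hR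
  set J := (RingHom.ker π).map (algebraMap P R) with hJ
  haveI h𝔮' : (𝔮.map π).IsPrime := Ideal.map_isPrime_of_surjective hπ hle
  have hcomap : (𝔮.map π).comap π = 𝔮 := by
    rw [Ideal.comap_map_of_surjective π hπ]
    have : Ideal.comap π ⊥ = RingHom.ker π := rfl
    rw [this]
    exact sup_eq_left.mpr hle
  have hker : ∀ a ∈ RingHom.ker π, ((Ideal.Quotient.mk J).comp (algebraMap P R)) a = 0 := by
    intro a ha
    rw [RingHom.comp_apply, Ideal.Quotient.eq_zero_iff_mem]
    exact Ideal.mem_map_of_mem _ ha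
  let ψ : B →+* R ⧸ J :=
    (Ideal.Quotient.lift (RingHom.ker π) ((Ideal.Quotient.mk J).comp (algebraMap P R)) hker).comp
      ((RingHom.quotientKerEquivOfSurjective hπ).symm : B →+* P ⧸ RingHom.ker π)
  have hψ : ∀ p : P, ψ (π p) = Ideal.Quotient.mk J (algebraMap P R p) := by
    intro p
    show (Ideal.Quotient.lift (RingHom.ker π) ((Ideal.Quotient.mk J).comp (algebraMap P R)) hker)
      ((RingHom.quotientKerEquivOfSurjective hπ).symm (π p)) = _
    rw [RingHom.quotientKerEquivOfSurjective_symm_apply, Ideal.Quotient.lift_mk]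
    rfl
  letI : Algebra B (R ⧸ J) := ψ.toAlgebra
  have hloc : IsLocalization (𝔮.primeCompl.map π) (R ⧸ J) := by
    refine IsLocalization.of_surjective 𝔮.primeCompl R π hπ (Ideal.Quotient.mk J)
      Ideal.Quotient.mk_surjective ?_ ?_
    · ext p
      exact (hψ p).symm
    · rw [Ideal.mk_ker]
  have hmon : 𝔮.primeCompl.map π = (𝔮.map π).primeCompl := by
    ext b
    constructor
    · rintro ⟨p, hp, rfl⟩
      show π p ∉ 𝔮.map π
      intro h
      apply hp
      have : p ∈ (𝔮.map π).comap π := h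
      rwa [hcomap] at this
    · intro hb
      obtain ⟨p, rfl⟩ := hπ b
      refine ⟨p, ?_, rfl⟩
      intro hp
      exact hb (Ideal.mem_map_of_mem π hp)
  rw [hmon] at hloc
  haveI : IsLocalization.AtPrime (R ⧸ J) (𝔮.map π) := hloc
  have := hB (𝔮.map π)
  exact IsRegularLocalRing.of_ringEquiv
    (IsLocalization.algEquiv (𝔮.map π).primeCompl (Localization.AtPrime (𝔮.map π))
      (R ⧸ J)).toRingEquiv

/-- **finite type algebra between regular rings is lci.** -/
theorem isLCI_of_regular {A B : Type u} [CommRing A] [CommRing B] [Algebra A B]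
    (hft : Algebra.FiniteType A B) [IsRegularRing A]
    (hB : ∀ (𝔮' : Ideal B) [𝔮'.IsPrime], IsRegularLocalRing (Localization.AtPrime 𝔮')) :
    LCI.IsLCI A B := by
  classical
  obtain ⟨n, π, hπ⟩ := Algebra.FiniteType.iff_quotient_mvPolynomial''.mp hft
  refine ⟨hft, n, π, hπ, ?_⟩
  rw [kr_iff]
  intro 𝔮 h𝔮 hle
  haveI := h𝔮
  haveI : IsRegularRing (MvPolynomial (Fin n) A) := inferInstance
  haveI : IsNoetherianRing (MvPolynomial (Fin n) A) := inferInstance
  haveI hRreg : IsRegularLocalRing (Localization.AtPrime 𝔮) :=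
    IsRegularRing.isRegularLocalRing_localization 𝔮
  haveI hQreg := regular_quot_of_regular_loc π.toRingHom hπ 𝔮 hle hB
  obtain ⟨rs, hreg, hrs⟩ := Groth.Agent.RegularLib.exists_isRegular (Localization.AtPrime 𝔮)
    ((RingHom.ker π.toRingHom).map (algebraMap _ (Localization.AtPrime 𝔮)))
  have hK : LCI.IsKoszulRegularSeq (Localization.AtPrime 𝔮) rs :=
    (Groth.Agent.Lib.KoszulTopH7.koszulRegular rs hreg.toIsWeaklyRegular).1
  obtain ⟨G, hG, as, -, hregG, heq⟩ :=
    exists_away_regular_of_koszul_local (RingHom.ker π.toRingHom) 𝔮 hle rs hK hrs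
  exact ⟨G, hG, Localization.Away G, inferInstance, inferInstance, inferInstance,
    as.map (algebraMap _ (Localization.Away G)),
    (Groth.Agent.Lib.KoszulTopH7.koszulRegular _ hregG.toIsWeaklyRegular).1, heq.symm⟩

end ring

section scheme

open AlgebraicGeometry CategoryTheory TopologicalSpace

/-- the ring of sections over an affine open of a regular (locally Noetherian, regular stalks)
scheme has regular localisations. -/
theorem regular_loc_of_stalks {X : Scheme.{u}} (hX : ∀ x : X, IsRegularLocalRing ↑(X.presheaf.stalk x))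
    {U : X.Opens} (hU : IsAffineOpen U) (𝔮 : Ideal Γ(X, U)) [𝔮.IsPrime] :
    IsRegularLocalRing (Localization.AtPrime 𝔮) := by
  let y : PrimeSpectrum Γ(X, U) := ⟨𝔮, inferInstance⟩
  have hy : hU.fromSpec y ∈ U := by
    have h1 : hU.fromSpec y ∈ hU.fromSpec.opensRange := ⟨y, rfl⟩
    rwa [hU.opensRange_fromSpec] at h1
  letI := TopCat.Presheaf.algebra_section_stalk X.presheaf ⟨hU.fromSpec y, hy⟩
  haveI : IsLocalization.AtPrime (X.presheaf.stalk (hU.fromSpec y)) 𝔮 :=
    hU.isLocalization_stalk' y hy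
  have := hX (hU.fromSpec y)
  exact IsRegularLocalRing.of_ringEquiv
    (IsLocalization.algEquiv 𝔮.primeCompl (X.presheaf.stalk (hU.fromSpec y))
      (Localization.AtPrime 𝔮)).toRingEquiv

theorem main1493 {X Y : Scheme.{u}} (f : X ⟶ Y) [LocallyOfFiniteType f] [IsLocallyNoetherian X]
    [IsLocallyNoetherian Y]
    (hX : ∀ x : X, IsRegularLocalRing ↑(X.presheaf.stalk x))
    (hY : ∀ y : Y, IsRegularLocalRing ↑(Y.presheaf.stalk y)) :
    (∀ (U : X.Opens) (V : Y.Opens) (hU : IsAffineOpen U) (hV : IsAffineOpen V)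
      (hUV : U ≤ f ⁻¹ᵁ V),
        letI := (f.appLE V U hUV).hom.toAlgebra
        LCI.IsLCI Γ(Y, V) Γ(X, U)) := by
  intro U V hU hV hUV
  letI := (f.appLE V U hUV).hom.toAlgebra
  have hft : Algebra.FiniteType Γ(Y, V) Γ(X, U) :=
    HasRingHomProperty.appLE (P := @LocallyOfFiniteType) f inferInstance ⟨V, hV⟩ ⟨U, hU⟩ hUV
  haveI : IsNoetherianRing Γ(Y, V) := IsLocallyNoetherian.component_noetherian ⟨V, hV⟩
  haveI : IsRegularRing Γ(Y, V) :=
    isRegularRing_iff.mpr (fun p hp => regular_loc_of_stalks hY hV p)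
  exact isLCI_of_regular hft (fun 𝔮' _ => regular_loc_of_stalks hX hU 𝔮')

end scheme

end Groth.Agent.Lib.RegLCI
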