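import Mathlib
import Groth.Agent.Lib.PerfHom1_helper2
import Groth.Agent.Lib.RegLCI1_helper2

/-!
# Perfect morphisms of schemes (helper2), part 2

`MoreMor.IsPerfectMor` is `affineLocally PerfR`; local characterisation (S7171), composition (S1508),
flat base change (S1513), regular closed immersions (S1509), regular base (S7173).
-/

set_option autoImplicit false
universe u
open CategoryTheory CategoryTheory.Limits AlgebraicGeometry
open scoped TensorProduct
attribute [local instance] HasDerivedCategory.standard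

namespace Groth.Agent.Lib.PCHom

open DRing Groth.Agent.Lib.DMod_helper6

/-- perfect morphisms of schemes, as `affineLocally` of the ring-hom property -/
def perfMor : MorphismProperty Scheme.{u} := affineLocally @PerfR.{u}

instance : HasRingHomProperty perfMor.{u} @PerfR.{u} := ⟨perfR_isLocal, rfl⟩

theorem isPerfectMor_iff {X Y : Scheme.{u}} (f : X ⟶ Y) :
    MoreMor.IsPerfectMor f ↔ perfMor f := by
  rw [HasRingHomProperty.iff_appLE (P := perfMor)]
  exact ⟨fun h U V e => h V.1 U.1 V.2 U.2 e, fun h U V hU hV e => h ⟨V, hV⟩ ⟨U, hU⟩ e⟩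

theorem perfMor_iff_exists {X S : Scheme.{u}} (f : X ⟶ S) :
    perfMor f ↔ ∀ x : X, ∃ (U : S.affineOpens) (V : X.affineOpens) (_ : x ∈ V.1)
      (e : V.1 ≤ f ⁻¹ᵁ U.1), PerfR (f.appLE U V e).hom :=
  HasRingHomProperty.iff_exists_appLE (P := perfMor) perfR_stableAwaySource

theorem main7171 {X S : Scheme.{u}} (f : X ⟶ S) :
    MoreMor.IsPerfectMor f ↔ ∀ x : X, ∃ (U : X.Opens) (V : S.Opens) (hUV : U ≤ f ⁻¹ᵁ V),
      IsAffineOpen U ∧ IsAffineOpen V ∧ x ∈ U ∧
      (letI := (f.appLE V U hUV).hom.toAlgebra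
       MoreMor.IsPerfectHom Γ(S, V) Γ(X, U)) := by
  rw [isPerfectMor_iff, perfMor_iff_exists]
  constructor
  · intro h x
    obtain ⟨U, V, hx, e, hQ⟩ := h x
    exact ⟨V.1, U.1, e, V.2, U.2, hx, hQ⟩
  · intro h x
    obtain ⟨U, V, e, hU, hV, hx, hQ⟩ := h x
    exact ⟨⟨V, hV⟩, ⟨U, hU⟩, hx, e, hQ⟩

theorem main1508 {X Y Z : Scheme.{u}} (f : X ⟶ Y) (g : Y ⟶ Z)
    (hf : MoreMor.IsPerfectMor f) (hg : MoreMor.IsPerfectMor g) :
    MoreMor.IsPerfectMor (f ≫ g) := by
  rw [isPerfectMor_iff] at *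
  haveI := HasRingHomProperty.stableUnderComposition (P := perfMor.{u})
    perfR_stableUnderComposition
  exact perfMor.comp_mem f g hf hg

section BaseChange

variable {A A' B B' : Type u} [CommRing A] [CommRing A'] [CommRing B] [CommRing B']
  [Algebra A A'] [Algebra A B] [Algebra A' B'] [Algebra B B'] [Algebra A B']
  [IsScalarTower A A' B'] [IsScalarTower A B B']

theorem ftd_baseChange [Module.Flat A A'] [hpo : Algebra.IsPushout A B A' B']
    (h : DRing.HasFiniteTorDim A B) : DRing.HasFiniteTorDim A' B' := by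
  obtain ⟨d, hd⟩ := h
  have h1 := (hasTorDimLE_iff B d).1 hd
  have h2 := hasTorAmplitudeIn_baseChange (A := A) (B := A') (-(d : ℤ)) 0 B h1
  have hbc : IsBaseChange A' (IsScalarTower.toAlgHom A B B').toLinearMap := hpo.symm.out
  exact ⟨d, (hasTorDimLE_iff B' d).2 (hasTorAmplitudeIn_of_iso
    ((DerivedCategory.singleFunctor (ModuleCat.{u} A') 0).mapIso hbc.equiv.toModuleIso) _ _ h2)⟩

end BaseChange

section BaseChangeHom

variable {A B A' B' : Type u} [CommRing A] [CommRing B] [CommRing A'] [CommRing B']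

/-- flat base change of perfect ring maps, pushout form -/
theorem PerfR.baseChange_of_flat (α : A →+* B) (γ : A →+* A') (β : B →+* B') (δ : A' →+* B')
    (hpo : IsPushout (CommRingCat.ofHom α) (CommRingCat.ofHom γ) (CommRingCat.ofHom β)
      (CommRingCat.ofHom δ)) (hγ : γ.Flat) (h : PerfR α) : PerfR δ := by
  letI := α.toAlgebra
  letI := γ.toAlgebra
  letI := β.toAlgebra
  letI := δ.toAlgebra
  letI : Algebra A B' := (β.comp α).toAlgebra
  haveI : IsScalarTower A B B' := IsScalarTower.of_algebraMap_eq (fun _ => rfl)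
  have hw : δ.comp γ = β.comp α := by
    have := hpo.w
    rw [← CommRingCat.ofHom_comp, ← CommRingCat.ofHom_comp] at this
    exact (congrArg CommRingCat.Hom.hom this).symm
  haveI : IsScalarTower A A' B' :=
    IsScalarTower.of_algebraMap_eq (fun a => (DFunLike.congr_fun hw a).symm)
  haveI : Module.Flat A A' := hγ
  haveI : Algebra.IsPushout A B A' B' := CommRingCat.isPushout_iff_isPushout.1 hpo
  exact ⟨pch_baseChange (A := A) (A' := A') (B := B) (B' := B') h.1,
    ftd_baseChange (A := A) (A' := A') (B := B) (B' := B') h.2⟩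

end BaseChangeHom

section mains

variable {X S : Scheme.{u}}

theorem main1513 {X' S' : Scheme.{u}} (f : X ⟶ S) (f' : X' ⟶ S') (g' : X' ⟶ X) (g : S' ⟶ S)
    [Flat g] (hc : IsPullback g' f' f g) (hf : MoreMor.IsPerfectMor f) :
    MoreMor.IsPerfectMor f' := by
  rw [isPerfectMor_iff, perfMor_iff_exists]
  intro x'
  have hcommpt : f (g' x') = g (f' x') := by
    have := congrArg (fun t => t.base x') hc.w
    exact this
  obtain ⟨V, hV, hxV, -⟩ := (TopologicalSpace.Opens.isBasis_iff_nbhd.mp S.isBasis_affineOpens)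
    (show f (g' x') ∈ (⊤ : S.Opens) from trivial)
  obtain ⟨U, hU, hxU, hUV⟩ := (TopologicalSpace.Opens.isBasis_iff_nbhd.mp X.isBasis_affineOpens)
    (show g' x' ∈ f ⁻¹ᵁ V from hxV)
  obtain ⟨V', hV', hxV', hV'V⟩ :=
    (TopologicalSpace.Opens.isBasis_iff_nbhd.mp S'.isBasis_affineOpens)
    (show f' x' ∈ g ⁻¹ᵁ V from by
      show g (f' x') ∈ V
      rw [← hcommpt]
      exact hxV)
  have hU'aff : IsAffineOpen (g' ⁻¹ᵁ U ⊓ f' ⁻¹ᵁ V') := by
    haveI : IsAffine (V : Scheme) := hV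
    haveI : IsAffine (V' : Scheme) := hV'
    haveI : IsAffine (U : Scheme) := hU
    exact IsAffine.of_isIso (Scheme.Hom.isPullback_resLE hc hV'V hUV rfl).isoPullback.hom
  have hpo : IsPushout (f.appLE V U hUV) (g.appLE V V' hV'V)
      (g'.appLE U (g' ⁻¹ᵁ U ⊓ f' ⁻¹ᵁ V') inf_le_left)
      (f'.appLE V' (g' ⁻¹ᵁ U ⊓ f' ⁻¹ᵁ V') inf_le_right) :=
    (isIso_pushoutSection_iff hc hV'V hUV rfl).mp
      (isIso_pushoutSection_of_isAffineOpen hc hV'V hUV rfl hV hV' hU)
  have h1 : PerfR (f'.appLE V' (g' ⁻¹ᵁ U ⊓ f' ⁻¹ᵁ V') inf_le_right).hom :=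
    PerfR.baseChange_of_flat (f.appLE V U hUV).hom (g.appLE V V' hV'V).hom
      (g'.appLE U (g' ⁻¹ᵁ U ⊓ f' ⁻¹ᵁ V') inf_le_left).hom _ hpo
      (g.flat_appLE hV hV' hV'V) (hf U V hU hV hUV)
  exact ⟨⟨V', hV'⟩, ⟨_, hU'aff⟩, ⟨hxU, hxV'⟩, inf_le_right, h1⟩

/-- the ideal generated by a Koszul-regular sequence is a Koszul-regular ideal -/
lemma kr_ofList_of_kreg {R : Type u} [CommRing R] (rs : List R)
    (h : LCI.IsKoszulRegularSeq R rs) : Groth.Agent.Lib.KRegIdeal.KR (Ideal.ofList rs) := by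
  intro 𝔭 h𝔭 _
  refine ⟨1, fun h1 => h𝔭.ne_top ((Ideal.eq_top_iff_one _).2 h1), Localization.Away (1 : R),
    inferInstance, inferInstance, inferInstance, rs.map (algebraMap R _),
    Groth.Agent.Lib.KRegIdeal.kreg_map_of_isLocalization (Submonoid.powers (1 : R)) rs h,
    Ideal.map_ofList _ _⟩

theorem main1509 {Z X : Scheme.{u}} (i : Z ⟶ X) (hi : Mor2.IsRegularClosedImmersion i) :
    MoreMor.IsPerfectMor i := by
  obtain ⟨hci, hreg⟩ := hi
  haveI := hci
  rw [isPerfectMor_iff, perfMor_iff_exists]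
  intro z
  obtain ⟨U, hU, hzU, rs, hrs, hker⟩ := hreg z
  refine ⟨⟨U, hU⟩, ⟨i ⁻¹ᵁ U, hU.preimage i⟩, hzU, le_rfl, ?_⟩
  have hsurj : Function.Surjective (i.app U).hom := i.app_surjective U hU
  have hk : RingHom.ker (i.app U).hom = Ideal.ofList rs := by
    rw [← hker]
    exact (Scheme.Hom.ker_apply i ⟨U, hU⟩).symm
  have hKR : Groth.Agent.Lib.KRegIdeal.KR (RingHom.ker (i.app U).hom) := by
    rw [hk]
    exact kr_ofList_of_kreg rs
      (Groth.Agent.Lib.KoszulTopH7.koszulRegular rs hrs.toIsWeaklyRegular).1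
  have h2 : PerfR (i.app U).hom :=
    @isPerfectHom_of_isLCI _ _ _ _ (i.app U).hom.toAlgebra
      (Groth.Agent.Lib.SmoothLCI.isLCIHom_of_surjective _ hsurj hKR)
  rwa [Scheme.Hom.app_eq_appLE] at h2

theorem main7173 (f : X ⟶ S) [LocallyOfFiniteType f] [IsLocallyNoetherian S]
    (hreg : ∀ s : S, IsRegularLocalRing (S.presheaf.stalk s))
    (hdim : ∀ V : S.Opens, IsAffineOpen V → ringKrullDim Γ(S, V) < ⊤) :
    MoreMor.IsPerfectMor f := by
  intro U V hU hV hUV
  letI := (f.appLE V U hUV).hom.toAlgebra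
  haveI : IsNoetherianRing Γ(S, V) := IsLocallyNoetherian.component_noetherian ⟨V, hV⟩
  haveI : IsRegularRing Γ(S, V) :=
    { isRegularLocalRing_localization := fun p _ =>
        Groth.Agent.Lib.RegLCI.regular_loc_of_stalks hreg hV p }
  haveI : Algebra.FiniteType Γ(S, V) Γ(X, U) :=
    HasRingHomProperty.appLE (P := @LocallyOfFiniteType) f inferInstance ⟨V, hV⟩ ⟨U, hU⟩ hUV
  exact isPerfectHom_of_finiteType_of_isRegularRing _ _

end mains

end Groth.Agent.Lib.PCHom
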