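import Mathlib

/-!
# `f_1, …, f_r` is regular in every order iff `f_1 x_1, …, f_r x_r` is regular in `R[x_1..x_r]`
(helper3)
-/

set_option autoImplicit false

namespace Groth.Agent.Lib.RegSeqPoly

open RingTheory.Sequence MvPolynomial

section lists

variable {R : Type*} [CommRing R]

lemma ofList_ofFn {n : ℕ} (g : Fin n → R) :
    Ideal.ofList (List.ofFn g) = Ideal.span (Set.range g) := by
  show Ideal.span {r | r ∈ List.ofFn g} = Ideal.span (Set.range g)
  congr 1
  ext x
  simp [List.mem_ofFn]

lemma ofList_take_ofFn {n : ℕ} (g : Fin n → R) (i : ℕ) :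
    Ideal.ofList ((List.ofFn g).take i) = Ideal.span (g '' {j : Fin n | (j : ℕ) < i}) := by
  show Ideal.span {r | r ∈ (List.ofFn g).take i} = _
  congr 1
  ext x
  simp only [Set.mem_setOf_eq, Set.mem_image]
  rw [List.mem_take_iff_getElem]
  constructor
  · rintro ⟨j, hj, rfl⟩
    simp only [List.length_ofFn, lt_min_iff] at hj
    exact ⟨⟨j, hj.2⟩, hj.1, by simp⟩
  · rintro ⟨j, hj, rfl⟩
    exact ⟨j, by simp [hj, j.2], by simp⟩

lemma mem_smul_top_iff (I : Ideal R) (x : R) : x ∈ (I • ⊤ : Submodule R R) ↔ x ∈ I := by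
  rw [Ideal.smul_eq_mul, Ideal.mul_top]

lemma isWeaklyRegular_ofFn_iff {n : ℕ} (g : Fin n → R) :
    IsWeaklyRegular R (List.ofFn g) ↔ ∀ i : Fin n, ∀ x : R,
      g i * x ∈ Ideal.span (g '' {j : Fin n | (j : ℕ) < (i : ℕ)}) →
        x ∈ Ideal.span (g '' {j : Fin n | (j : ℕ) < (i : ℕ)}) := by
  rw [isWeaklyRegular_iff]
  constructor
  · intro h i x hx
    have hi : (i : ℕ) < (List.ofFn g).length := by simp
    have h1 := (isSMulRegular_quotient_iff_mem_of_smul_mem _ _).mp (h i hi) x
    rw [mem_smul_top_iff, mem_smul_top_iff, ofList_take_ofFn] at h1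
    simp only [smul_eq_mul, List.getElem_ofFn] at h1
    exact h1 hx
  · intro h i hi
    rw [isSMulRegular_quotient_iff_mem_of_smul_mem]
    intro x hx
    have hi' : i < n := by simpa using hi
    rw [mem_smul_top_iff, ofList_take_ofFn] at hx ⊢
    simp only [smul_eq_mul, List.getElem_ofFn] at hx
    exact h ⟨i, hi'⟩ x hx

lemma isRegular_ofFn_iff {n : ℕ} (g : Fin n → R) :
    IsRegular R (List.ofFn g) ↔ (∀ i : Fin n, ∀ x : R,
      g i * x ∈ Ideal.span (g '' {j : Fin n | (j : ℕ) < (i : ℕ)}) →
        x ∈ Ideal.span (g '' {j : Fin n | (j : ℕ) < (i : ℕ)})) ∧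
      Ideal.span (Set.range g) ≠ ⊤ := by
  rw [isRegular_iff, isWeaklyRegular_ofFn_iff, ofList_ofFn]
  refine and_congr Iff.rfl ?_
  rw [Ideal.smul_eq_mul, Ideal.mul_top]
  exact ⟨fun h h' => h h'.symm, fun h h' => h h'.symm⟩

lemma exists_perm_of_nodup {n : ℕ} (L : List (Fin n)) (hL : L.Nodup) :
    ∃ σ : Equiv.Perm (Fin n), ∀ (l : Fin n) (hl : (l : ℕ) < L.length), σ l = L[(l : ℕ)] := by
  classical
  let f : Fin n → Fin n := fun l => if hl : (l : ℕ) < L.length then L[(l : ℕ)] else l
  let s : Finset (Fin n) := Finset.univ.filter (fun l => (l : ℕ) < L.length)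
  have hinj : Set.InjOn f s := by
    intro a ha b hb hab
    simp only [s, Finset.coe_filter, Finset.mem_univ, true_and, Set.mem_setOf_eq] at ha hb
    simp only [f, dif_pos ha, dif_pos hb] at hab
    have := (List.nodup_iff_injective_getElem.mp hL) (a₁ := ⟨a, ha⟩) (a₂ := ⟨b, hb⟩) hab
    exact Fin.ext (by simpa using this)
  obtain ⟨g, hg⟩ := Finset.exists_equiv_extend_of_card_eq (α := Fin n)
    (t := (Finset.univ : Finset (Fin n))) (by simp) (s := s) (f := f)
    (Finset.subset_univ _) hinj
  refine ⟨g.trans (Equiv.subtypeUnivEquiv (fun x => Finset.mem_univ x)), fun l hl => ?_⟩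
  have := hg l (by simp [s, hl])
  simp only [Equiv.trans_apply, Equiv.subtypeUnivEquiv_apply]
  rw [this]
  simp [f, hl]

end lists

section main

variable {R : Type*} [CommRing R] {r : ℕ} (f : Fin r → R)

/-- `f i` is a nonzerodivisor modulo `(f j : j ∈ J)` for all `J ∌ i`. -/
def AllReg : Prop :=
  ∀ i, ∀ J : Finset (Fin r), i ∉ J → ∀ c, f i * c ∈ Ideal.span (f '' (J : Set (Fin r))) →
    c ∈ Ideal.span (f '' (J : Set (Fin r)))

/-- `f i` is a nonzerodivisor modulo `(f j : j ∈ J)` for all `J ⊆ {j < i}`. -/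
def InitReg : Prop :=
  ∀ i, ∀ J : Finset (Fin r), (∀ j ∈ J, j < i) → ∀ c,
    f i * c ∈ Ideal.span (f '' (J : Set (Fin r))) → c ∈ Ideal.span (f '' (J : Set (Fin r)))

lemma AllReg.initReg (h : AllReg f) : InitReg f := fun i J hJ c hc =>
  h i J (fun hi => lt_irrefl i (hJ i hi)) c hc

lemma span_image_insert (i : Fin r) (J : Finset (Fin r)) :
    Ideal.span (f '' ((insert i J : Finset (Fin r)) : Set (Fin r))) =
      Ideal.span (f '' (J : Set (Fin r))) ⊔ Ideal.span {f i} := by
  rw [Finset.coe_insert, Set.image_insert_eq, Set.insert_eq, Ideal.span_union, sup_comm]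

lemma InitReg.allReg (H : InitReg f) : AllReg f := by
  classical
  suffices h : ∀ (N : ℕ) (J : Finset (Fin r)), J.card = N → ∀ i, i ∉ J → ∀ c,
      f i * c ∈ Ideal.span (f '' (J : Set (Fin r))) → c ∈ Ideal.span (f '' (J : Set (Fin r))) from
    fun i J hi c hc => h J.card J rfl i hi c hc
  intro N
  induction N using Nat.strong_induction_on with
  | _ N ih =>
    intro J hJ i hi c hc
    by_cases hall : ∀ j ∈ J, j < i
    · exact H i J hall c hc
    · push_neg at hall
      obtain ⟨j₁, hj₁, hij₁⟩ := hall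
      have hne : J.Nonempty := ⟨j₁, hj₁⟩
      obtain ⟨jm, hjmdef⟩ : ∃ jm, jm = J.max' hne := ⟨_, rfl⟩
      have hjm : jm ∈ J := hjmdef ▸ J.max'_mem hne
      have hmax : ∀ j ∈ J, j ≤ jm := fun j hj => hjmdef ▸ J.le_max' j hj
      have hijm : i < jm := lt_of_le_of_ne (hij₁.trans (hmax _ hj₁))
        (by rintro rfl; exact hi hjm)
      obtain ⟨J', hJ'def⟩ : ∃ J', J' = J.erase jm := ⟨_, rfl⟩
      have hJeq : J = insert jm J' := by rw [hJ'def, Finset.insert_erase hjm]
      have hJ'card : J'.card < N := by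
        rw [hJ'def, Finset.card_erase_of_mem hjm, hJ]
        have : 0 < J.card := Finset.card_pos.mpr hne
        omega
      have hiJ' : i ∉ J' := fun h => hi (by rw [hJeq]; exact Finset.mem_insert_of_mem h)
      have H1 := ih J'.card hJ'card J' rfl i hiJ'
      have H2 := H jm (insert i J') (by
        intro j hj
        rw [Finset.mem_insert] at hj
        rcases hj with rfl | hj
        · exact hijm
        · rw [hJ'def] at hj
          exact lt_of_le_of_ne (hmax _ (Finset.mem_of_mem_erase hj)) (Finset.ne_of_mem_erase hj))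
      rw [hJeq, span_image_insert] at hc ⊢
      obtain ⟨u, hu, v, hv, huv⟩ := Submodule.mem_sup.mp hc
      obtain ⟨e, rfl⟩ := Ideal.mem_span_singleton'.mp hv
      have h3 : f jm * e ∈ Ideal.span (f '' ((insert i J' : Finset (Fin r)) : Set (Fin r))) := by
        rw [span_image_insert]
        have : f jm * e = -u + c * f i := by linear_combination huv
        rw [this]
        exact Submodule.mem_sup.mpr ⟨-u, Ideal.neg_mem_iff _ |>.mpr hu, c * f i,
          Ideal.mem_span_singleton'.mpr ⟨c, rfl⟩, rfl⟩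
      have h4 := H2 e h3
      rw [span_image_insert] at h4
      obtain ⟨v', hv', w, hw, hvw⟩ := Submodule.mem_sup.mp h4
      obtain ⟨e', rfl⟩ := Ideal.mem_span_singleton'.mp hw
      have h5 : f i * (c - e' * f jm) ∈ Ideal.span (f '' (J' : Set (Fin r))) := by
        have : f i * (c - e' * f jm) = u + f jm * v' := by
          rw [← hvw] at huv
          linear_combination -huv
        rw [this]
        exact Ideal.add_mem _ hu (Ideal.mul_mem_left _ _ hv')
      have h6 := H1 _ h5
      exact Submodule.mem_sup.mpr ⟨c - e' * f jm, h6, e' * f jm,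
        Ideal.mem_span_singleton'.mpr ⟨e', rfl⟩, by ring⟩

/-- regularity in every order, elementwise. -/
lemma forall_perm_isRegular_iff (hf : Ideal.span (Set.range f) ≠ ⊤) :
    (∀ σ : Equiv.Perm (Fin r), IsRegular R (List.ofFn (f ∘ σ))) ↔ AllReg f := by
  classical
  constructor
  · intro h i J hi c hc
    let L : List (Fin r) := J.toList ++ [i]
    have hL : L.Nodup := by
      rw [List.nodup_append]
      refine ⟨J.nodup_toList, List.nodup_singleton _, ?_⟩
      intro a ha b hb
      rw [List.mem_singleton] at hb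
      rintro rfl
      exact hi (hb ▸ Finset.mem_toList.mp ha)
    have hLlen : L.length = J.card + 1 := by simp [L]
    obtain ⟨σ, hσ⟩ := exists_perm_of_nodup L hL
    have hN : J.card < r := by
      have := hL.length_le_card
      rw [Fintype.card_fin, hLlen] at this
      omega
    have hσt : σ ⟨J.card, hN⟩ = i := by
      rw [hσ ⟨J.card, hN⟩ (by rw [hLlen]; exact Nat.lt_succ_self _)]
      simp [L]
    have hσJ : σ '' {j : Fin r | (j : ℕ) < J.card} = (J : Set (Fin r)) := by
      ext x
      simp only [Set.mem_image, Set.mem_setOf_eq, Finset.mem_coe]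
      constructor
      · rintro ⟨j, hj, rfl⟩
        rw [hσ j (by rw [hLlen]; omega)]
        have : L[(j : ℕ)]'(by rw [hLlen]; omega) = J.toList[(j : ℕ)]'(by simpa using hj) := by
          simp only [L]
          rw [List.getElem_append_left]
        rw [this]
        exact Finset.mem_toList.mp (List.getElem_mem _)
      · intro hx
        obtain ⟨idx, hidx, rfl⟩ := List.mem_iff_getElem.mp (Finset.mem_toList.mpr hx)
        have hidx' : idx < J.card := by simpa using hidx
        refine ⟨⟨idx, by omega⟩, hidx', ?_⟩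
        rw [hσ ⟨idx, by omega⟩ (by rw [hLlen]; simp only []; omega)]
        simp only [L]
        rw [List.getElem_append_left]
    have h1 := ((isRegular_ofFn_iff (f ∘ σ)).mp (h σ)).1 ⟨J.card, hN⟩ c
    rw [Set.image_comp, hσJ] at h1
    simp only [Function.comp_apply, hσt] at h1
    exact h1 hc
  · intro h σ
    rw [isRegular_ofFn_iff]
    refine ⟨?_, ?_⟩
    · intro t x hx
      let J : Finset (Fin r) := (Finset.univ.filter (fun j : Fin r => (j : ℕ) < (t : ℕ))).image σ
      have hJ : (J : Set (Fin r)) = σ '' {j : Fin r | (j : ℕ) < (t : ℕ)} := by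
        simp [J]
      have hσt : σ t ∉ J := by
        intro hmem
        rw [← Finset.mem_coe, hJ] at hmem
        obtain ⟨j, hj, hjt⟩ := hmem
        have := σ.injective hjt
        rw [this] at hj
        exact lt_irrefl (t : ℕ) hj
      rw [Set.image_comp, ← hJ] at hx ⊢
      exact h (σ t) J hσt x hx
    · rw [Set.range_comp, σ.range_eq_univ, Set.image_univ]
      exact hf

end main

section poly

variable {R : Type*} [CommRing R] {r : ℕ} (f : Fin r → R)

/-- the coefficient ideal `(f j : j ∈ T, m j ≠ 0)`. -/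
def coeffIdeal (T : Set (Fin r)) (m : Fin r →₀ ℕ) : Ideal R :=
  Ideal.span (f '' {j | j ∈ T ∧ m j ≠ 0})

/-- the polynomials `f j * x j`. -/
noncomputable def gpoly (j : Fin r) : MvPolynomial (Fin r) R := C (f j) * X j

lemma coeffIdeal_mono (T : Set (Fin r)) {m m' : Fin r →₀ ℕ} (h : ∀ j, m j ≠ 0 → m' j ≠ 0) :
    coeffIdeal f T m ≤ coeffIdeal f T m' := by
  apply Ideal.span_mono
  apply Set.image_mono
  rintro j ⟨hjT, hj⟩
  exact ⟨hjT, h j hj⟩

/-- the monomial ideal with coefficient ideals `coeffIdeal f T m`. -/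
def monIdeal (T : Set (Fin r)) : Ideal (MvPolynomial (Fin r) R) where
  carrier := {p | ∀ m, coeff m p ∈ coeffIdeal f T m}
  add_mem' := by
    intro p q hp hq m
    rw [coeff_add]
    exact Ideal.add_mem _ (hp m) (hq m)
  zero_mem' := by
    intro m
    simp
  smul_mem' := by
    classical
    intro q p hp m
    rw [smul_eq_mul, coeff_mul]
    apply Ideal.sum_mem
    rintro ⟨m1, m2⟩ hm
    rw [Finset.HasAntidiagonal.mem_antidiagonal] at hm
    simp only at hm
    apply Ideal.mul_mem_left
    refine coeffIdeal_mono f T ?_ (hp m2)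
    intro j hj
    rw [← hm]
    simp only [Finsupp.coe_add, Pi.add_apply]
    omega

lemma span_gpoly_le_monIdeal (T : Set (Fin r)) :
    Ideal.span (gpoly f '' T) ≤ monIdeal f T := by
  classical
  rw [Ideal.span_le]
  rintro _ ⟨j, hj, rfl⟩ m
  show coeff m (C (f j) * X j) ∈ coeffIdeal f T m
  rw [coeff_C_mul, coeff_X']
  split_ifs with h
  · rw [mul_one]
    refine Ideal.subset_span ⟨j, ⟨hj, ?_⟩, rfl⟩
    rw [← h]
    simp
  · rw [mul_zero]
    exact Ideal.zero_mem _

lemma monomial_mem_span_gpoly (T : Set (Fin r)) (m : Fin r →₀ ℕ) (c : R)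
    (hc : c ∈ coeffIdeal f T m) : monomial m c ∈ Ideal.span (gpoly f '' T) := by
  classical
  unfold coeffIdeal at hc
  induction hc using Submodule.span_induction with
  | mem x hx =>
    obtain ⟨j, ⟨hjT, hj⟩, rfl⟩ := hx
    have hm : Finsupp.single j 1 + (m - Finsupp.single j 1) = m := by
      ext j'
      simp only [Finsupp.add_apply, Finsupp.tsub_apply, Finsupp.single_apply]
      split_ifs with h
      · subst h
        omega
      · omega
    have h1 : monomial m (f j) = gpoly f j * monomial (m - Finsupp.single j 1) 1 := by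
      unfold gpoly
      rw [C_mul_X_eq_monomial, monomial_mul, mul_one, hm]
    rw [h1]
    exact Ideal.mul_mem_right _ _ (Ideal.subset_span ⟨j, hjT, rfl⟩)
  | zero => simp
  | add x y _ _ hx hy =>
    rw [map_add]
    exact Ideal.add_mem _ hx hy
  | smul a x _ hx =>
    rw [smul_eq_mul, ← C_mul_monomial]
    exact Ideal.mul_mem_left _ _ hx

lemma mem_span_gpoly_iff (T : Set (Fin r)) (p : MvPolynomial (Fin r) R) :
    p ∈ Ideal.span (gpoly f '' T) ↔ ∀ m, coeff m p ∈ coeffIdeal f T m := by
  constructor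
  · intro hp
    exact span_gpoly_le_monIdeal f T hp
  · intro hp
    rw [p.as_sum]
    apply Ideal.sum_mem
    intro m _
    exact monomial_mem_span_gpoly f T m _ (hp m)

/-- the weak regularity of `f_1 x_1, …, f_r x_r` is equivalent to `InitReg f`. -/
lemma isWeaklyRegular_gpoly_iff :
    (∀ i : Fin r, ∀ p : MvPolynomial (Fin r) R,
      gpoly f i * p ∈ Ideal.span (gpoly f '' {j : Fin r | (j : ℕ) < (i : ℕ)}) →
        p ∈ Ideal.span (gpoly f '' {j : Fin r | (j : ℕ) < (i : ℕ)})) ↔ InitReg f := by
  classical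
  constructor
  · intro h i J hJ c hc
    let m : Fin r →₀ ℕ := Finsupp.equivFunOnFinite.symm (fun j => if j ∈ J then 1 else 0)
    have hm : ∀ j, m j = if j ∈ J then 1 else 0 := fun j => rfl
    have hset : ∀ m' : Fin r →₀ ℕ, (∀ j, j < i → m' j = m j) →
        coeffIdeal f {j : Fin r | (j : ℕ) < (i : ℕ)} m' = Ideal.span (f '' (J : Set (Fin r))) := by
      intro m' hm'
      unfold coeffIdeal
      congr 2
      ext j
      simp only [Set.mem_setOf_eq, Finset.mem_coe]
      constructor
      · rintro ⟨hji, hj⟩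
        rw [hm' j (Fin.lt_def.mpr hji), hm] at hj
        by_contra hjJ
        rw [if_neg hjJ] at hj
        exact hj rfl
      · intro hjJ
        have hji := hJ j hjJ
        refine ⟨Fin.lt_def.mp hji, ?_⟩
        rw [hm' j hji, hm, if_pos hjJ]
        exact one_ne_zero
    have h1 : gpoly f i * monomial m c = monomial (Finsupp.single i 1 + m) (f i * c) := by
      unfold gpoly
      rw [C_mul_X_eq_monomial, monomial_mul]
    have h2 : gpoly f i * monomial m c ∈
        Ideal.span (gpoly f '' {j : Fin r | (j : ℕ) < (i : ℕ)}) := by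
      rw [h1]
      apply monomial_mem_span_gpoly
      rw [hset]
      · exact hc
      · intro j hji
        simp only [Finsupp.coe_add, Pi.add_apply, Finsupp.single_apply]
        rw [if_neg (ne_of_gt hji), zero_add]
    have h3 := (mem_span_gpoly_iff f _ _).mp (h i _ h2) m
    rw [coeff_monomial, if_pos rfl, hset m (fun _ _ => rfl)] at h3
    exact h3
  · intro H i p hp
    rw [mem_span_gpoly_iff] at hp ⊢
    intro m'
    have h1 := hp (Finsupp.single i 1 + m')
    have h2 : coeff (Finsupp.single i 1 + m') (gpoly f i * p) = f i * coeff m' p := by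
      unfold gpoly
      rw [mul_assoc, coeff_C_mul, coeff_X_mul]
    rw [h2] at h1
    let J : Finset (Fin r) := Finset.univ.filter (fun j : Fin r => (j : ℕ) < (i : ℕ) ∧ m' j ≠ 0)
    have hJ : ∀ j ∈ J, j < i := by
      intro j hj
      simp only [J, Finset.mem_filter, Finset.mem_univ, true_and] at hj
      exact Fin.lt_def.mpr hj.1
    have hset1 : coeffIdeal f {j : Fin r | (j : ℕ) < (i : ℕ)} m' =
        Ideal.span (f '' (J : Set (Fin r))) := by
      unfold coeffIdeal
      congr 2
      ext j
      simp [J]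
    have hset2 : coeffIdeal f {j : Fin r | (j : ℕ) < (i : ℕ)} (Finsupp.single i 1 + m') =
        Ideal.span (f '' (J : Set (Fin r))) := by
      unfold coeffIdeal
      congr 2
      ext j
      simp only [Set.mem_setOf_eq, Finsupp.coe_add, Pi.add_apply, Finsupp.single_apply, J,
        Finset.coe_filter, Finset.mem_univ, true_and]
      constructor
      · rintro ⟨hji, hj⟩
        refine ⟨hji, ?_⟩
        rw [if_neg (by intro h; rw [h] at hji; exact lt_irrefl _ hji), zero_add] at hj
        exact hj
      · rintro ⟨hji, hj⟩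
        refine ⟨hji, ?_⟩
        rw [if_neg (by intro h; rw [h] at hji; exact lt_irrefl _ hji), zero_add]
        exact hj
    rw [hset2] at h1
    rw [hset1]
    exact H i J hJ _ h1

lemma span_range_gpoly_ne_top (hf : Ideal.span (Set.range f) ≠ ⊤) :
    Ideal.span (Set.range (gpoly f)) ≠ ⊤ := by
  intro htop
  have hle : Ideal.span (Set.range (gpoly f)) ≤
      RingHom.ker (constantCoeff : MvPolynomial (Fin r) R →+* R) := by
    rw [Ideal.span_le]
    rintro _ ⟨j, rfl⟩
    show constantCoeff (C (f j) * X j) = 0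
    simp
  rw [htop] at hle
  have h1 : (1 : MvPolynomial (Fin r) R) ∈
      RingHom.ker (constantCoeff : MvPolynomial (Fin r) R →+* R) := hle trivial
  rw [RingHom.mem_ker, map_one] at h1
  apply hf
  rw [Ideal.eq_top_iff_one]
  have : Subsingleton R := subsingleton_of_zero_eq_one h1.symm
  rw [Subsingleton.elim (1 : R) 0]
  exact Ideal.zero_mem _

theorem main (hf : Ideal.span (Set.range f) ≠ ⊤) :
    (∀ σ : Equiv.Perm (Fin r), IsRegular R (List.ofFn (f ∘ σ))) ↔
      IsRegular (MvPolynomial (Fin r) R) (List.ofFn fun i => C (f i) * X i) := by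
  rw [forall_perm_isRegular_iff f hf]
  have h1 : (fun i => C (f i) * X i : Fin r → MvPolynomial (Fin r) R) = gpoly f := rfl
  rw [h1, isRegular_ofFn_iff, isWeaklyRegular_gpoly_iff]
  constructor
  · intro h
    exact ⟨h.initReg, span_range_gpoly_ne_top f hf⟩
  · intro h
    exact h.1.allReg

end poly

end Groth.Agent.Lib.RegSeqPoly
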