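import Mathlib
import Groth.Prelude.Def_BlowUp2
import Groth.Agent.Lib.KRegIdeal_helper2
import Groth.Agent.Lib.KoszulSplit_helper2
import Groth.Agent.Lib.KoszulSwap_helper2
import Groth.Agent.Lib.PerfHom2_helper2
import Groth.Agent.Lib.AffBl1_helper8
import Groth.Agent.Lib.RegSeqPoly_helper3
import Groth.Agent.Lib.ExtendScalars_helper2
import Groth.Agent.Lib.KoszulFlat_helper9
import Groth.Agent.Lib.KoszulBC_helper2

/-!
# The affine blow-up algebra of a Koszul-regular sequence is perfect over the base (helper2)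

For a Koszul-regular sequence `a :: l` of a ring `A` generating a proper ideal `I`, the affine blow-up
algebra `A[I/a]` is isomorphic to `A[X_1..X_n]/(a X_j - l_j)`, the relations form a Koszul-regular
sequence, and hence `A → A[I/a]` is a perfect ring map.
APPEND-ONLY once landed.
-/

set_option autoImplicit false
universe u

namespace Groth.Agent.Lib.BlowPerf

open CategoryTheory CategoryTheory.Limits CochainComplex HomComplex
open Groth.Agent.Lib.PCHom Groth.Agent.Lib.KRegIdeal

section les

variable {T : Type u} [CommRing T]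

/-- if `c :: G` is Koszul-regular then `c` is injective on the Koszul homology of `G` in
degrees `≤ 0`. -/
theorem smul_inj_of_kreg_cons (c : T) (G : List T) (h : LCI.IsKoszulRegularSeq T (c :: G))
    (j : ℤ) (hj : j ≤ 0) (y : ((Koszul.koszul T G).homology j : ModuleCat.{u} T))
    (hy : c • y = 0) : y = 0 := by
  let C := Koszul.koszul T G
  letI : HasDerivedCategory (ModuleCat.{u} T) := HasDerivedCategory.standard _
  have hT := DerivedCategory.mappingCone_triangle_distinguished (c • 𝟙 C)
  have e1 := CochainComplex.homologyMap_exact₁_of_distTriang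
    (mappingCone.triangle (c • 𝟙 C)) hT (j - 1) j (by omega)
  have hrk1 : LinearMap.range (homologyδOfTriangle (mappingCone.triangle (c • 𝟙 C)) (j - 1) j
      (by omega)).hom = LinearMap.ker (HomologicalComplex.homologyMap (c • 𝟙 C) j).hom :=
    (ShortComplex.moduleCat_exact_iff_range_eq_ker _).mp e1
  have hz : IsZero ((mappingCone (c • 𝟙 C)).homology (j - 1)) := h (j - 1) (by omega)
  haveI : Subsingleton ↑(HomologicalComplex.homology (mappingCone.triangle (c • 𝟙 C)).obj₃
      (j - 1)) := ModuleCat.subsingleton_of_isZero hz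
  have hmem : y ∈ LinearMap.ker (HomologicalComplex.homologyMap (c • 𝟙 C) j).hom := by
    rw [LinearMap.mem_ker, Groth.Agent.Lib.KoszulDepthH7.homologyMap_smul,
      HomologicalComplex.homologyMap_id, ModuleCat.hom_smul, ModuleCat.hom_id]
    exact hy
  rw [← hrk1] at hmem
  obtain ⟨z, rfl⟩ := hmem
  rw [Subsingleton.elim z 0, map_zero]
  rfl

/-- if `c :: G` is Koszul-regular then `c` is a nonzerodivisor modulo `G`. -/
theorem mem_of_mul_mem_of_kreg_cons (c : T) (G : List T)
    (h : LCI.IsKoszulRegularSeq T (c :: G)) (x : T) (hx : c * x ∈ Ideal.ofList G) :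
    x ∈ Ideal.ofList G := by
  obtain ⟨e⟩ : Nonempty (↑((Koszul.koszul T G).homology 0) ≃ₗ[T]
      (T ⧸ (Ideal.ofList G • (⊤ : Submodule T T)))) := by
    have := Groth.Agent.Lib.KoszulTopH7.top_equiv' T G 0 rfl
    rw [← Groth.Agent.Lib.KoszulTopH7.koszul_eq] at this
    exact this
  have hq : (Submodule.Quotient.mk (c * x) : T ⧸ (Ideal.ofList G • (⊤ : Submodule T T))) = 0 := by
    rw [Submodule.Quotient.mk_eq_zero, smul_eq_mul, Ideal.mul_top]
    exact hx
  have h0 := smul_inj_of_kreg_cons c G h 0 le_rfl (e.symm (Submodule.Quotient.mk x)) (by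
    rw [← map_smul, ← Submodule.Quotient.mk_smul]
    show e.symm (Submodule.Quotient.mk (c * x)) = 0
    rw [hq, map_zero])
  have h1 : (Submodule.Quotient.mk x : T ⧸ (Ideal.ofList G • (⊤ : Submodule T T))) = 0 := by
    have := congrArg e h0
    rwa [e.apply_symm_apply, map_zero] at this
  rw [Submodule.Quotient.mk_eq_zero, smul_eq_mul, Ideal.mul_top] at h1
  exact h1

end les

section loc

variable {T T' : Type u} [CommRing T] [CommRing T'] [Algebra T T']

/-- if the image of `G` in a localisation `S⁻¹T` is Koszul-regular, every class of the Koszul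
homology of `G` in nonzero degree is killed by an element of `S`. -/
theorem exists_smul_eq_zero_of_kreg_loc (S : Submonoid T) [IsLocalization S T'] (G : List T)
    (hG' : LCI.IsKoszulRegularSeq T' (G.map (algebraMap T T'))) (j : ℤ) (hj : j ≠ 0)
    (z : ((Koszul.koszul T G).homology j : ModuleCat.{u} T)) : ∃ s ∈ S, s • z = 0 := by
  have hf : (algebraMap T T').Flat := by
    rw [RingHom.flat_algebraMap_iff]
    exact IsLocalization.flat T' S
  haveI := ModuleCat.preservesFiniteLimits_extendScalars_of_flat hf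
  revert z
  rw [Groth.Agent.Lib.KoszulTopH7.koszul_eq G]
  intro z
  have h1 : IsZero ((CohIII.koszulCx (ModuleCat.of T' T') (G.map (algebraMap T T'))).homology j) :=
    Groth.Agent.Lib.KoszulTopH7.isZero_homology_of_eq
      (Groth.Agent.Lib.KoszulTopH7.koszul_eq (G.map (algebraMap T T'))).symm j (hG' j hj)
  let e : ((ModuleCat.extendScalars.{u, u, u} (algebraMap T T')).obj (ModuleCat.of T T)) ≅
      ModuleCat.of T' T' :=
    (Groth.Agent.KoszulFlat9.extendScalarsSelfEquiv (algebraMap T T')).toModuleIso
  have h2 : IsZero ((CohIII.koszulCx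
      ((ModuleCat.extendScalars.{u, u, u} (algebraMap T T')).obj (ModuleCat.of T T))
      (G.map (algebraMap T T'))).homology j) :=
    IsZero.of_iso h1 ((HomologicalComplex.homologyFunctor _ _ j).mapIso
      (Groth.Agent.Lib.KoszulBC.koszulCxIso e (G.map (algebraMap T T'))))
  have h3 : IsZero ((((ModuleCat.extendScalars.{u, u, u} (algebraMap T T')).mapHomologicalComplex
      (ComplexShape.up ℤ)).obj (CohIII.koszulCx (ModuleCat.of T T) G)).homology j) :=
    IsZero.of_iso h2 ((HomologicalComplex.homologyFunctor _ _ j).mapIso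
      (Groth.Agent.KoszulFlat9.koszulMapIso (ModuleCat.extendScalars.{u, u, u} (algebraMap T T'))
        (algebraMap T T') (Groth.Agent.KoszulFlat9.extendScalars_map_smul_id (algebraMap T T'))
        (ModuleCat.of T T) G))
  have e4 := ((CohIII.koszulCx (ModuleCat.of T T) G).sc j).mapHomologyIso
    (ModuleCat.extendScalars.{u, u, u} (algebraMap T T'))
  have h4 : IsZero ((ModuleCat.extendScalars.{u, u, u} (algebraMap T T')).obj
      ((CohIII.koszulCx (ModuleCat.of T T) G).homology j)) := IsZero.of_iso h3 e4.symm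
  haveI : Subsingleton ↑((ModuleCat.extendScalars.{u, u, u} (algebraMap T T')).obj
      ((CohIII.koszulCx (ModuleCat.of T T) G).homology j)) := ModuleCat.subsingleton_of_isZero h4
  haveI : Subsingleton (TensorProduct T T' ↑((CohIII.koszulCx (ModuleCat.of T T) G).homology j)) :=
    (Groth.Agent.ExtendScalarsLib.extendScalarsEquivTensor
      ((CohIII.koszulCx (ModuleCat.of T T) G).homology j)).symm.toEquiv.subsingleton
  haveI hloc : IsLocalizedModule S (TensorProduct.mk T T'
      ↑((CohIII.koszulCx (ModuleCat.of T T) G).homology j) 1) :=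
    (isLocalizedModule_iff_isBaseChange S T' _).mpr (TensorProduct.isBaseChange T _ T')
  have h6 : TensorProduct.mk T T' ↑((CohIII.koszulCx (ModuleCat.of T T) G).homology j) 1 z = 0 :=
    Subsingleton.elim _ _
  obtain ⟨s, hs⟩ := (IsLocalizedModule.eq_zero_iff S (TensorProduct.mk T T'
      ↑((CohIII.koszulCx (ModuleCat.of T T) G).homology j) 1)).mp h6
  exact ⟨s.1, s.2, hs⟩

end loc

section poly

open MvPolynomial

variable (R : Type u) [CommRing R] (n : ℕ)

/-- the variables of a polynomial ring form a Koszul-regular sequence. -/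
theorem kreg_vars : LCI.IsKoszulRegularSeq (MvPolynomial (Fin n) R)
    (List.ofFn (fun j : Fin n => (X j : MvPolynomial (Fin n) R))) := by
  refine (Groth.Agent.Lib.KoszulTopH7.koszulRegular _ ?_).1
  rw [Groth.Agent.Lib.RegSeqPoly.isWeaklyRegular_ofFn_iff]
  intro i x hx
  rw [MvPolynomial.mem_ideal_span_X_image] at hx ⊢
  intro m hm
  have h1 : Finsupp.single i 1 + m ∈ (X i * x).support := by
    rw [MvPolynomial.support_X_mul]
    exact Finset.mem_map_of_mem _ hm
  obtain ⟨j, hj, hne⟩ := hx _ h1
  refine ⟨j, hj, ?_⟩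
  have hji : (j : ℕ) < (i : ℕ) := hj
  have hne' : i ≠ j := fun h => by rw [h] at hji; exact lt_irrefl _ hji
  rwa [Finsupp.add_apply, Finsupp.single_eq_of_ne' hne', zero_add] at hne

/-- an affine change of coordinates with unit leading coefficient gives a Koszul-regular
sequence. -/
theorem kreg_affine_change (u : R) (hu : IsUnit u) (v : Fin n → R) :
    LCI.IsKoszulRegularSeq (MvPolynomial (Fin n) R)
      (List.ofFn (fun j : Fin n => C u * X j - C (v j))) := by
  obtain ⟨w, hw⟩ := hu.exists_left_inv
  have hw' : u * w = 1 := by rw [mul_comm]; exact hw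
  let σ : MvPolynomial (Fin n) R →ₐ[R] MvPolynomial (Fin n) R :=
    aeval (fun j => C u * X j - C (v j))
  let τ : MvPolynomial (Fin n) R →ₐ[R] MvPolynomial (Fin n) R :=
    aeval (fun j => C w * (X j + C (v j)))
  have h1 : σ.comp τ = AlgHom.id R _ := by
    apply MvPolynomial.algHom_ext
    intro j
    show σ (τ (X j)) = X j
    have e1 : τ (X j) = C w * (X j + C (v j)) := aeval_X _ _
    rw [e1, map_mul, map_add]
    have e2 : σ (X j) = C u * X j - C (v j) := aeval_X _ _
    have e3 : ∀ r : R, σ (C r) = C r := fun r => by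
      show aeval _ (C r) = C r
      rw [aeval_C, MvPolynomial.algebraMap_eq]
    rw [e2, e3, e3, sub_add_cancel, ← mul_assoc, ← C_mul, hw, C_1, one_mul]
  have h2 : τ.comp σ = AlgHom.id R _ := by
    apply MvPolynomial.algHom_ext
    intro j
    show τ (σ (X j)) = X j
    have e1 : σ (X j) = C u * X j - C (v j) := aeval_X _ _
    rw [e1, map_sub, map_mul]
    have e2 : τ (X j) = C w * (X j + C (v j)) := aeval_X _ _
    have e3 : ∀ r : R, τ (C r) = C r := fun r => by
      show aeval _ (C r) = C r
      rw [aeval_C, MvPolynomial.algebraMap_eq]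
    rw [e2, e3, e3, ← mul_assoc, ← C_mul, hw', C_1, one_mul, add_sub_cancel_right]
  let e : MvPolynomial (Fin n) R ≃ₐ[R] MvPolynomial (Fin n) R := AlgEquiv.ofAlgHom σ τ h1 h2
  have key := kreg_map_equiv e.toRingEquiv _ (kreg_vars R n)
  rw [List.map_ofFn] at key
  have hfun : ((e.toRingEquiv : MvPolynomial (Fin n) R → MvPolynomial (Fin n) R) ∘
      fun j : Fin n => (X j : MvPolynomial (Fin n) R)) =
      fun j : Fin n => C u * X j - C (v j) := by
    funext j
    show σ (X j) = _
    exact aeval_X _ _
  rw [hfun] at key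
  exact key

end poly

section pres

open MvPolynomial

variable (A : Type u) [CommRing A] (a : A) (l : List A)

/-- the relations `a X_j - l_j` -/
noncomputable def rel (j : Fin l.length) : MvPolynomial (Fin l.length) A :=
  C a * X j - C (l.get j)

/-- the ideal of relations -/
noncomputable def relIdeal : Ideal (MvPolynomial (Fin l.length) A) :=
  Ideal.span (Set.range (rel A a l))

lemma rel_mem (j : Fin l.length) : rel A a l j ∈ relIdeal A a l :=
  Ideal.subset_span ⟨j, rfl⟩

lemma ofList_rel : Ideal.ofList (List.ofFn (rel A a l)) = relIdeal A a l :=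
  Groth.Agent.Lib.RegSeqPoly.ofList_ofFn _

lemma a_mem : a ∈ Ideal.ofList (a :: l) := Ideal.subset_span List.mem_cons_self

lemma get_mem (j : Fin l.length) : l.get j ∈ Ideal.ofList (a :: l) :=
  Ideal.subset_span (List.mem_cons_of_mem _ (List.get_mem l j))

/-- `X_j ↦ l_j / a` -/
noncomputable def theta0 : MvPolynomial (Fin l.length) A →ₐ[A]
    ↥(BlowUp.affineAlgebra A (Ideal.ofList (a :: l)) a) :=
  MvPolynomial.aeval (fun j => AffBlH8.gen (Ideal.ofList (a :: l)) a (l.get j) (get_mem A a l j))

lemma theta0_X (j : Fin l.length) : theta0 A a l (X j) =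
    AffBlH8.gen (Ideal.ofList (a :: l)) a (l.get j) (get_mem A a l j) := aeval_X _ _

lemma theta0_C (r : A) : theta0 A a l (C r) =
    algebraMap A ↥(BlowUp.affineAlgebra A (Ideal.ofList (a :: l)) a) r := aeval_C _ _

lemma theta0_rel (j : Fin l.length) : theta0 A a l (rel A a l j) = 0 := by
  unfold rel
  rw [map_sub, map_mul, theta0_C, theta0_C, theta0_X, AffBlH8.a_mul_gen, sub_self]

lemma relIdeal_le_ker : relIdeal A a l ≤ RingHom.ker (theta0 A a l).toRingHom := by
  unfold relIdeal
  rw [Ideal.span_le]
  rintro _ ⟨j, rfl⟩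
  exact theta0_rel A a l j

/-- the comparison map `A[X]/(a X_j - l_j) → A[I/a]` -/
noncomputable def theta : (MvPolynomial (Fin l.length) A ⧸ relIdeal A a l) →+*
    ↥(BlowUp.affineAlgebra A (Ideal.ofList (a :: l)) a) :=
  Ideal.Quotient.lift (relIdeal A a l) (theta0 A a l).toRingHom
    (fun x hx => relIdeal_le_ker A a l hx)

lemma theta_mk (x : MvPolynomial (Fin l.length) A) :
    theta A a l (Ideal.Quotient.mk (relIdeal A a l) x) = theta0 A a l x :=
  Ideal.Quotient.lift_mk _ _ _

lemma algebraMap_quot (r : A) :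
    algebraMap A (MvPolynomial (Fin l.length) A ⧸ relIdeal A a l) r =
      Ideal.Quotient.mk (relIdeal A a l) (C r) := rfl

lemma theta_algebraMap (r : A) :
    theta A a l (algebraMap A (MvPolynomial (Fin l.length) A ⧸ relIdeal A a l) r) =
      algebraMap A ↥(BlowUp.affineAlgebra A (Ideal.ofList (a :: l)) a) r := by
  rw [algebraMap_quot, theta_mk, theta0_C]

lemma mk_C_get (j : Fin l.length) :
    Ideal.Quotient.mk (relIdeal A a l) (C (l.get j)) =
      Ideal.Quotient.mk (relIdeal A a l) (C a * X j) := by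
  rw [Ideal.Quotient.eq]
  have : C (l.get j) - C a * X j = -(rel A a l j) := by unfold rel; ring
  rw [this]
  exact (relIdeal A a l).neg_mem (rel_mem A a l j)

/-- the generator `x / a` lies in the image of `theta`. -/
lemma gen_mem_range (x : A) (hx : x ∈ Ideal.ofList (a :: l)) :
    ∃ p, theta A a l p = AffBlH8.gen (Ideal.ofList (a :: l)) a x hx := by
  refine Submodule.span_induction
    (p := fun x hx => ∃ p, theta A a l p = AffBlH8.gen (Ideal.ofList (a :: l)) a x hx)
    ?_ ?_ ?_ ?_ hx
  · intro y hy
    rcases List.mem_cons.mp (show y ∈ a :: l from hy) with rfl | hy'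
    · refine ⟨1, ?_⟩
      rw [map_one]
      apply Subtype.ext
      exact (IsLocalization.mk'_self (Localization.Away y) (Submonoid.mem_powers y)).symm
    · obtain ⟨j, rfl⟩ := List.mem_iff_get.mp hy'
      exact ⟨Ideal.Quotient.mk _ (X j), by rw [theta_mk, theta0_X]⟩
  · refine ⟨0, ?_⟩
    rw [map_zero]
    apply Subtype.ext
    exact (IsLocalization.mk'_zero _).symm
  · rintro x y hx hy ⟨p, hp⟩ ⟨q, hq⟩
    refine ⟨p + q, ?_⟩
    rw [map_add, hp, hq]
    apply Subtype.ext
    show IsLocalization.mk' (Localization.Away a) x ⟨a, Submonoid.mem_powers a⟩ +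
      IsLocalization.mk' (Localization.Away a) y ⟨a, Submonoid.mem_powers a⟩ =
      IsLocalization.mk' (Localization.Away a) (x + y) ⟨a, Submonoid.mem_powers a⟩
    rw [IsLocalization.mk'_eq_mul_mk'_one x, IsLocalization.mk'_eq_mul_mk'_one y,
      IsLocalization.mk'_eq_mul_mk'_one (x + y), map_add, add_mul]
  · rintro r x hx ⟨p, hp⟩
    refine ⟨algebraMap A _ r * p, ?_⟩
    rw [map_mul, theta_algebraMap, hp]
    apply Subtype.ext
    show algebraMap A (Localization.Away a) r *
      IsLocalization.mk' (Localization.Away a) x ⟨a, Submonoid.mem_powers a⟩ =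
      IsLocalization.mk' (Localization.Away a) (r • x) ⟨a, Submonoid.mem_powers a⟩
    rw [IsLocalization.mul_mk'_eq_mk'_of_mul, smul_eq_mul]

lemma theta_surjective : Function.Surjective (theta A a l) := by
  rintro ⟨q, hq⟩
  induction hq using Algebra.adjoin_induction with
  | mem q hq =>
    obtain ⟨x, hx, rfl⟩ := hq
    exact gen_mem_range A a l x hx
  | algebraMap r => exact ⟨algebraMap A _ r, theta_algebraMap A a l r⟩
  | add x y hx hy ihx ihy =>
    obtain ⟨p, hp⟩ := ihx
    obtain ⟨q, hq⟩ := ihy
    exact ⟨p + q, by rw [map_add, hp, hq]; rfl⟩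
  | mul x y hx hy ihx ihy =>
    obtain ⟨p, hp⟩ := ihx
    obtain ⟨q, hq⟩ := ihy
    exact ⟨p * q, by rw [map_mul, hp, hq]; rfl⟩

/-- if `a` is a nonzerodivisor modulo the relations, `theta` is bijective. -/
theorem theta_bijective (hc : ∀ x, C a * x ∈ relIdeal A a l → x ∈ relIdeal A a l) :
    Function.Bijective (theta A a l) := by
  refine ⟨?_, theta_surjective A a l⟩
  let φ : A →+* (MvPolynomial (Fin l.length) A ⧸ relIdeal A a l) := algebraMap A _
  have hφ : ∀ r, φ r = Ideal.Quotient.mk (relIdeal A a l) (C r) := fun r => rfl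
  have key : ∀ s : (MvPolynomial (Fin l.length) A ⧸ relIdeal A a l), φ a * s = 0 → s = 0 := by
    intro s hs
    obtain ⟨x, rfl⟩ := Ideal.Quotient.mk_surjective s
    rw [hφ, ← map_mul, Ideal.Quotient.eq_zero_iff_mem] at hs
    rw [Ideal.Quotient.eq_zero_iff_mem]
    exact hc x hs
  have hnzd : φ a ∈ nonZeroDivisors (MvPolynomial (Fin l.length) A ⧸ relIdeal A a l) := by
    rw [mem_nonZeroDivisors_iff]
    exact ⟨key, fun s hs => key s (by rwa [mul_comm])⟩
  have hI : ∀ x ∈ Ideal.ofList (a :: l), ∃ y, φ x = y * φ a := by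
    intro x hx
    refine Submodule.span_induction (p := fun x _ => ∃ y, φ x = y * φ a) ?_ ?_ ?_ ?_ hx
    · intro y hy
      rcases List.mem_cons.mp (show y ∈ a :: l from hy) with rfl | hy'
      · exact ⟨1, (one_mul _).symm⟩
      · obtain ⟨j, rfl⟩ := List.mem_iff_get.mp hy'
        refine ⟨Ideal.Quotient.mk _ (X j), ?_⟩
        rw [hφ, hφ, mk_C_get, ← map_mul, mul_comm]
    · exact ⟨0, by rw [map_zero, zero_mul]⟩
    · rintro x y _ _ ⟨p, hp⟩ ⟨q, hq⟩
      exact ⟨p + q, by rw [map_add, hp, hq, add_mul]⟩
    · rintro r x _ ⟨p, hp⟩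
      exact ⟨φ r * p, by rw [smul_eq_mul, map_mul, hp, mul_assoc]⟩
  obtain ⟨ψ, hψ⟩ := AffBlH8.exists_ringHom (Ideal.ofList (a :: l)) a φ hnzd hI
  have hψ' : ∀ r, ψ (algebraMap A _ r) = φ r := fun r => RingHom.congr_fun hψ r
  have hcomp : (ψ.comp (theta A a l)).comp (Ideal.Quotient.mk (relIdeal A a l)) =
      Ideal.Quotient.mk (relIdeal A a l) := by
    apply MvPolynomial.ringHom_ext
    · intro r
      show ψ (theta A a l (Ideal.Quotient.mk _ (C r))) = _
      rw [theta_mk, theta0_C, hψ', hφ]
    · intro j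
      show ψ (theta A a l (Ideal.Quotient.mk _ (X j))) = _
      rw [theta_mk, theta0_X]
      have h1 : φ a * ψ (AffBlH8.gen (Ideal.ofList (a :: l)) a (l.get j) (get_mem A a l j)) =
          φ a * Ideal.Quotient.mk (relIdeal A a l) (X j) := by
        rw [← hψ', ← map_mul, AffBlH8.a_mul_gen, hψ', hψ', hφ, hφ, mk_C_get, map_mul]
      have h2 : φ a * (ψ (AffBlH8.gen (Ideal.ofList (a :: l)) a (l.get j) (get_mem A a l j)) -
          Ideal.Quotient.mk (relIdeal A a l) (X j)) = 0 := by
        rw [mul_sub, h1, sub_self]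
      exact sub_eq_zero.mp (key _ h2)
  intro s t hst
  obtain ⟨x, rfl⟩ := Ideal.Quotient.mk_surjective s
  obtain ⟨y, rfl⟩ := Ideal.Quotient.mk_surjective t
  have h1 := congrArg ψ hst
  have h2 := RingHom.congr_fun hcomp x
  have h3 := RingHom.congr_fun hcomp y
  simp only [RingHom.comp_apply] at h2 h3
  rw [← h2, ← h3, h1]

end pres

section main

open MvPolynomial

variable (A : Type u) [CommRing A] (a : A) (l : List A)

theorem kreg_cons_rel (h : LCI.IsKoszulRegularSeq A (a :: l)) (hI : Ideal.ofList (a :: l) ≠ ⊤) :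
    LCI.IsKoszulRegularSeq (MvPolynomial (Fin l.length) A) (C a :: List.ofFn (rel A a l)) := by
  have hflat : (C : A →+* MvPolynomial (Fin l.length) A).Flat := by
    have h0 : (algebraMap A (MvPolynomial (Fin l.length) A)).Flat :=
      RingHom.flat_algebraMap_iff.mpr inferInstance
    rwa [MvPolynomial.algebraMap_eq] at h0
  have h1 : LCI.IsKoszulRegularSeq (MvPolynomial (Fin l.length) A) ((a :: l).map C) :=
    kreg_map_of_flat C hflat (a :: l) h
  have hne : Ideal.ofList ((a :: l).map (C : A →+* MvPolynomial (Fin l.length) A)) ≠ ⊤ := by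
    rw [← Ideal.map_ofList]
    intro htop
    apply hI
    rw [Ideal.eq_top_iff_one]
    have h2 : (1 : MvPolynomial (Fin l.length) A) ∈
        Ideal.map (C : A →+* MvPolynomial (Fin l.length) A) (Ideal.ofList (a :: l)) := by
      rw [htop]; trivial
    have h3 := MvPolynomial.mem_map_C_iff.mp h2 0
    simpa using h3
  have hideal : Ideal.ofList (C a :: List.ofFn (rel A a l)) =
      Ideal.ofList ((a :: l).map (C : A →+* MvPolynomial (Fin l.length) A)) := by
    apply le_antisymm
    · refine Ideal.span_le.2 ?_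
      intro y hy
      rcases List.mem_cons.mp (show y ∈ C a :: List.ofFn (rel A a l) from hy) with rfl | hy'
      · exact Ideal.subset_span (List.mem_map_of_mem List.mem_cons_self)
      · obtain ⟨j, rfl⟩ := List.mem_ofFn.mp hy'
        unfold rel
        refine Ideal.sub_mem _ (Ideal.mul_mem_right _ _
          (Ideal.subset_span (List.mem_map_of_mem List.mem_cons_self)))
          (Ideal.subset_span (List.mem_map_of_mem (List.mem_cons_of_mem _ (List.get_mem l j))))
    · refine Ideal.span_le.2 ?_
      intro y hy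
      obtain ⟨x, hx, rfl⟩ := List.mem_map.mp
        (show y ∈ (a :: l).map (C : A →+* MvPolynomial (Fin l.length) A) from hy)
      rcases List.mem_cons.mp hx with rfl | hx'
      · exact Ideal.subset_span List.mem_cons_self
      · obtain ⟨j, rfl⟩ := List.mem_iff_get.mp hx'
        have e : (C (l.get j) : MvPolynomial (Fin l.length) A) = C a * X j - rel A a l j := by
          unfold rel; ring
        show (C (l.get j) : MvPolynomial (Fin l.length) A) ∈ _
        rw [e]
        refine Ideal.sub_mem _ (Ideal.mul_mem_right _ _ (Ideal.subset_span List.mem_cons_self))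
          (Ideal.subset_span (List.mem_cons_of_mem _ (List.mem_ofFn.mpr ⟨j, rfl⟩)))
  have hlen : (C a :: List.ofFn (rel A a l)).length =
      ((a :: l).map (C : A →+* MvPolynomial (Fin l.length) A)).length := by
    simp
  refine (Groth.Agent.Lib.KoszulSplit.main18935 _ hne _ h1 rfl _ hideal).mpr ?_
  intro h' hh'
  rw [hlen]
  exact (Groth.Agent.Lib.KoszulSplit.main18935 _ hne _ h1 rfl _ rfl).mp h1 h' hh'

section withAlg

attribute [local instance] MvPolynomial.algebraMvPolynomial

theorem kreg_rel (h : LCI.IsKoszulRegularSeq A (a :: l)) (hI : Ideal.ofList (a :: l) ≠ ⊤) :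
    LCI.IsKoszulRegularSeq (MvPolynomial (Fin l.length) A) (List.ofFn (rel A a l)) := by
  have h2 := kreg_cons_rel A a l h hI
  intro i hi
  rcases lt_or_gt_of_ne hi with hneg | hpos
  swap
  · exact Groth.Agent.Lib.KoszulSplit.isZero_homology_pos _ _ i hpos
  have hG' : LCI.IsKoszulRegularSeq (MvPolynomial (Fin l.length) (Localization.Away a))
      ((List.ofFn (rel A a l)).map (algebraMap (MvPolynomial (Fin l.length) A)
        (MvPolynomial (Fin l.length) (Localization.Away a)))) := by
    have e : (List.ofFn (rel A a l)).map (algebraMap (MvPolynomial (Fin l.length) A)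
        (MvPolynomial (Fin l.length) (Localization.Away a))) =
        List.ofFn (fun j : Fin l.length =>
          (C (algebraMap A (Localization.Away a) a) * X j -
            C (algebraMap A (Localization.Away a) (l.get j)) :
            MvPolynomial (Fin l.length) (Localization.Away a))) := by
      rw [List.map_ofFn]
      congr 1
      funext j
      show MvPolynomial.map (algebraMap A (Localization.Away a)) (rel A a l j) = _
      unfold rel
      rw [map_sub, map_mul, MvPolynomial.map_C, MvPolynomial.map_C, MvPolynomial.map_X]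
    rw [e]
    exact kreg_affine_change _ _ _ (IsLocalization.Away.algebraMap_isUnit a) _
  have hpow : ∀ N : ℕ, ∀ z : ((Koszul.koszul (MvPolynomial (Fin l.length) A)
      (List.ofFn (rel A a l))).homology i : ModuleCat.{u} (MvPolynomial (Fin l.length) A)),
      (C a : MvPolynomial (Fin l.length) A) ^ N • z = 0 → z = 0 := by
    intro N
    induction N with
    | zero =>
      intro z hz
      rwa [pow_zero, one_smul] at hz
    | succ N ih =>
      intro z hz
      apply ih
      apply smul_inj_of_kreg_cons (C a) _ h2 i hneg.le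
      rw [← mul_smul, ← pow_succ']
      exact hz
  have hz : ∀ z : ((Koszul.koszul (MvPolynomial (Fin l.length) A)
      (List.ofFn (rel A a l))).homology i : ModuleCat.{u} (MvPolynomial (Fin l.length) A)),
      z = 0 := by
    intro z
    obtain ⟨s, hs, hsz⟩ := exists_smul_eq_zero_of_kreg_loc
      ((Submonoid.powers a).map (C : A →+* MvPolynomial (Fin l.length) A)) _ hG' i hi z
    obtain ⟨x, ⟨N, rfl⟩, rfl⟩ := hs
    apply hpow N
    rw [← map_pow]
    exact hsz
  rw [Groth.Agent.Lib.KoszulSplit.isZero_iff_subsingleton]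
  exact ⟨fun z z' => by rw [hz z, hz z']⟩

end withAlg

/-- **Main ring-level result**: for a Koszul-regular sequence `a :: l` generating a proper ideal
`I`, the ring map `A → A[I/a]` is perfect. -/
theorem perfR_affineAlgebra (h : LCI.IsKoszulRegularSeq A (a :: l))
    (hI : Ideal.ofList (a :: l) ≠ ⊤) :
    PerfR (algebraMap A ↥(BlowUp.affineAlgebra A (Ideal.ofList (a :: l)) a)) := by
  have hG := kreg_rel A a l h hI
  have h2 := kreg_cons_rel A a l h hI
  have hc : ∀ x, C a * x ∈ relIdeal A a l → x ∈ relIdeal A a l := by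
    intro x hx
    rw [← ofList_rel] at hx ⊢
    exact mem_of_mul_mem_of_kreg_cons (C a) _ h2 x hx
  have hbij := theta_bijective A a l hc
  have hlci : LCI.IsLCI A (MvPolynomial (Fin l.length) A ⧸ relIdeal A a l) := by
    refine ⟨?_, l.length, Ideal.Quotient.mkₐ A (relIdeal A a l),
      Ideal.Quotient.mkₐ_surjective A _, ?_⟩
    · exact Algebra.FiniteType.of_surjective (Ideal.Quotient.mkₐ A (relIdeal A a l))
        (Ideal.Quotient.mkₐ_surjective A _)
    · have hk : RingHom.ker (Ideal.Quotient.mkₐ A (relIdeal A a l)).toRingHom =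
          relIdeal A a l := by
        ext x
        rw [RingHom.mem_ker]
        exact Ideal.Quotient.eq_zero_iff_mem
      rw [hk, ← ofList_rel]
      exact isKoszulRegularIdeal_of_kr _ (kr_ofList_of_kreg _ hG)
  have hP : PerfR (algebraMap A (MvPolynomial (Fin l.length) A ⧸ relIdeal A a l)) :=
    perfR_algebraMap.2 (Groth.Agent.Lib.DMod_helper6.isPerfectHom_of_isLCI _ _ hlci)
  have hcomp : algebraMap A ↥(BlowUp.affineAlgebra A (Ideal.ofList (a :: l)) a) =
      (theta A a l).comp (algebraMap A (MvPolynomial (Fin l.length) A ⧸ relIdeal A a l)) :=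
    RingHom.ext fun r => (theta_algebraMap A a l r).symm
  rw [hcomp]
  exact PerfR.comp hP (PerfR.of_bijective _ hbij)

/-- the same for an arbitrary member of a (weakly) regular sequence generating a proper ideal. -/
theorem perfR_affineAlgebra_of_mem (rs : List A) (hrs : RingTheory.Sequence.IsRegular A rs)
    (a : A) (ha : a ∈ rs) :
    PerfR (algebraMap A ↥(BlowUp.affineAlgebra A (Ideal.ofList rs) a)) := by
  obtain ⟨s, t, rfl⟩ := List.append_of_mem ha
  have hperm : (s ++ a :: t).Perm (a :: (s ++ t)) := List.perm_middle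
  have hK : LCI.IsKoszulRegularSeq A (s ++ a :: t) :=
    (Groth.Agent.Lib.KoszulTopH7.koszulRegular _ hrs.toIsWeaklyRegular).1
  obtain ⟨e⟩ := Groth.Agent.Lib.KoszulSwap.koszul_perm A hperm
  have hK' : LCI.IsKoszulRegularSeq A (a :: (s ++ t)) := fun i hi =>
    IsZero.of_iso (hK i hi) ((HomologicalComplex.homologyFunctor _ _ i).mapIso e.symm)
  have hid : Ideal.ofList (a :: (s ++ t)) = Ideal.ofList (s ++ a :: t) := by
    show Ideal.span {r | r ∈ a :: (s ++ t)} = Ideal.span {r | r ∈ s ++ a :: t}
    congr 1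
    ext r
    exact (hperm.mem_iff).symm
  have hne : Ideal.ofList (a :: (s ++ t)) ≠ ⊤ := by
    rw [hid]
    intro htop
    apply hrs.top_ne_smul
    rw [htop, smul_eq_mul, Ideal.top_mul]
  have key := perfR_affineAlgebra A a (s ++ t) hK' hne
  rw [hid] at key
  exact key

end main

end Groth.Agent.Lib.BlowPerf
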