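import Mathlib
import Groth.Prelude.Def_BlowUp2
import Groth.Prelude.Def_Mor2
import Groth.Prelude.Def_MoreMor
import Groth.Agent.Lib.BlowPerf1_helper2
import Groth.Agent.Lib.BlowCov1_helper9
import Groth.Agent.Lib.Cart1_helper8
import Groth.Agent.Lib.BlowIso1_helper8

/-!
# The blow-up of a regular closed immersion is a perfect morphism (helper2)
APPEND-ONLY once landed.
-/

set_option autoImplicit false
universe u
open AlgebraicGeometry CategoryTheory CategoryTheory.Limits TopologicalSpace Opposite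

namespace Groth.Agent.Lib.BlowPerf

open Groth.Agent.Lib.PCHom

/-- flat base change of a blow-up along an arbitrary pullback square. -/
theorem isBlowUp_of_isPullback {X X' S T : Scheme.{u}} (f : X' ⟶ X) (𝓘 : X.IdealSheafData)
    (hf : BlowUp.IsBlowUp f 𝓘) (g : S ⟶ X) [Flat g] (b : T ⟶ S) (g' : T ⟶ X')
    (sq : IsPullback b g' g f) : BlowUp.IsBlowUp b (𝓘.comap g) := by
  have : Flat g' := MorphismProperty.of_isPullback (P := @Flat) sq inferInstance
  refine ⟨?_, ?_⟩
  · rw [← Scheme.IdealSheafData.comap_comp, sq.w, Scheme.IdealSheafData.comap_comp]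
    exact CartH8.isEffCartier_comap_of_flat g' (𝓘.comap f) hf.1
  · intro Y h hh
    rw [← Scheme.IdealSheafData.comap_comp] at hh
    obtain ⟨k, hk, hu⟩ := hf.2 Y (h ≫ g) hh
    refine ⟨sq.lift h k hk.symm, sq.lift_fst _ _ _, ?_⟩
    intro m hm
    have h1 : (m ≫ g') ≫ f = h ≫ g := by
      rw [Category.assoc, ← sq.w, ← Category.assoc, hm]
    have h2 : m ≫ g' = k := hu _ h1
    apply sq.hom_ext
    · rw [hm, sq.lift_fst]
    · rw [h2, sq.lift_snd]

theorem fromSpec_appLE_top {X : Scheme.{u}} {U : X.Opens} (hU : IsAffineOpen U)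
    (e : (⊤ : (Spec Γ(X, U)).Opens) ≤ hU.fromSpec ⁻¹ᵁ U) :
    hU.fromSpec.appLE U ⊤ e = (Scheme.ΓSpecIso Γ(X, U)).inv := by
  rw [Scheme.Hom.appLE, hU.fromSpec_app_self, Category.assoc, ← Functor.map_comp]
  have : (eqToHom hU.fromSpec_preimage_self).op ≫ (homOfLE e).op = 𝟙 _ := Subsingleton.elim _ _
  rw [this, CategoryTheory.Functor.map_id, Category.comp_id]

theorem comap_fromSpec_eq_idl {X : Scheme.{u}} (𝓘 : X.IdealSheafData) {U : X.Opens}
    (hU : IsAffineOpen U) :
    𝓘.comap hU.fromSpec = AffBlH8.idl (A := Γ(X, U)) (𝓘.ideal ⟨U, hU⟩) := by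
  apply Scheme.IdealSheafData.ext_of_isAffine
  have e : (⊤ : (Spec Γ(X, U)).Opens) ≤ hU.fromSpec ⁻¹ᵁ U := by
    rw [hU.fromSpec_preimage_self]
  rw [ComapIdH8.comap_ideal hU.fromSpec 𝓘 ⟨⊤, isAffineOpen_top _⟩ ⟨U, hU⟩ e,
    fromSpec_appLE_top hU e]
  rw [Scheme.IdealSheafData.ofIdealTop_ideal]
  have hone : (Spec Γ(X, U)).presheaf.map
      (homOfLE (le_top : (⊤ : (Spec Γ(X, U)).Opens) ≤ ⊤)).op = 𝟙 _ := by
    have : homOfLE (le_top : (⊤ : (Spec Γ(X, U)).Opens) ≤ ⊤) = 𝟙 _ := Subsingleton.elim _ _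
    rw [this, op_id, CategoryTheory.Functor.map_id]
  rw [hone, CommRingCat.hom_id, Ideal.map_id]
  rfl

/-- the affine case. -/
theorem perfMor_of_isBlowUp_affine {A : Type u} [CommRing A] (rs : List A)
    (hrs : RingTheory.Sequence.IsRegular A rs) {T : Scheme.{u}}
    (b : T ⟶ Spec (CommRingCat.of A))
    (hb : BlowUp.IsBlowUp b (AffBlH8.idl (Ideal.ofList rs))) : perfMor b := by
  have H : ∀ t : T, ∃ a ∈ rs, ∃ κ : Spec (CommRingCat.of
      ↥(BlowUp.affineAlgebra A (Ideal.ofList rs) a)) ⟶ T,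
      κ ≫ b = AffBlH8.cmap (Ideal.ofList rs) a ∧ IsOpenImmersion κ ∧ t ∈ Set.range κ := by
    intro t
    obtain ⟨a, ha, hta⟩ := BlowCov.exists_mem_W (Ideal.ofList rs) b {x | x ∈ rs} rfl hb.1 t
    obtain ⟨κ, hκ, hoi, hr⟩ :=
      BlowCov.exists_chart (Ideal.ofList rs) a b (Ideal.subset_span ha) hb
    exact ⟨a, ha, κ, hκ, hoi, by rw [hr]; exact hta⟩
  choose a ha κ hκ hoi hrange using H
  let 𝒰 : T.OpenCover := Scheme.Cover.mkOfCovers T
    (fun t => Spec (CommRingCat.of ↥(BlowUp.affineAlgebra A (Ideal.ofList rs) (a t)))) κ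
    (fun t => ⟨t, hrange t⟩) hoi
  apply IsZariskiLocalAtSource.of_openCover (P := perfMor) 𝒰
  intro t
  show perfMor (κ t ≫ b)
  rw [hκ t]
  show perfMor (Spec.map (CommRingCat.ofHom (algebraMap A _)))
  rw [HasRingHomProperty.Spec_iff (P := perfMor)]
  exact perfR_affineAlgebra_of_mem A rs hrs (a t) (ha t)

theorem main3202 {Y X X' : Scheme.{u}} (i : Y ⟶ X) (hi : Mor2.IsRegularClosedImmersion i)
    (f : X' ⟶ X) (hf : BlowUp.IsBlowUp f i.ker) : MoreMor.IsPerfectMor f := by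
  rw [isPerfectMor_iff]
  obtain ⟨hci, hreg⟩ := hi
  have := hci
  apply IsZariskiLocalAtTarget.of_forall_exists_morphismRestrict
  intro x
  by_cases hx : x ∈ Set.range i
  · obtain ⟨z, rfl⟩ := hx
    obtain ⟨U, hU, hzU, rs, hrs, hker⟩ := hreg z
    refine ⟨U, hzU, ?_⟩
    have sq0 := isPullback_morphismRestrict f U
    have sq1 : IsPullback hU.isoSpec.hom U.ι hU.fromSpec (𝟙 X) :=
      IsPullback.of_horiz_isIso ⟨by rw [hU.isoSpec_hom_fromSpec, Category.comp_id]⟩
    have sq : IsPullback ((f ∣_ U) ≫ hU.isoSpec.hom) (f ⁻¹ᵁ U).ι hU.fromSpec f := by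
      have := sq0.paste_horiz sq1
      rwa [Category.comp_id] at this
    have hb := isBlowUp_of_isPullback f i.ker hf hU.fromSpec _ _ sq
    rw [comap_fromSpec_eq_idl, hker] at hb
    have hP := perfMor_of_isBlowUp_affine rs hrs _ hb
    exact (MorphismProperty.cancel_right_of_respectsIso perfMor (f ∣_ U) hU.isoSpec.hom).mp hP
  · have hx' : x ∉ i.ker.support := by
      intro h
      apply hx
      have h1 : (i.ker.support : Set X) = closure (Set.range i) := Scheme.Hom.support_ker i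
      rw [i.isClosedEmbedding.isClosed_range.closure_eq] at h1
      rw [← h1]
      exact h
    refine ⟨i.ker.support.compl, hx', ?_⟩
    have : IsIso (f ∣_ i.ker.support.compl) := BlowIsoH8.isIso_restrict i.ker f hf
    exact HasRingHomProperty.of_isOpenImmersion (P := perfMor)
      (fun R _ => PerfR.of_bijective (RingHom.id R) Function.bijective_id)

end Groth.Agent.Lib.BlowPerf
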