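import Mathlib
import Groth.Agent.Lib.Cart4_helper8
set_option autoImplicit false
open AlgebraicGeometry CategoryTheory CategoryTheory.Limits TopologicalSpace Opposite
open QcqsLoc
universe u
namespace CartH8

/-- A closed immersion which is injective on sections over the affine opens of `O'` is an
isomorphism over `O'`. -/
theorem isIso_restrict_of_app_injective {Y P : Scheme.{u}} (f : Y ⟶ P) [IsClosedImmersion f]
    (O' : P.Opens)
    (h : ∀ U : P.affineOpens, U.1 ≤ O' → Function.Injective (f.app U.1).hom) :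
    IsIso (f ∣_ O') := by
  haveI : IsClosedImmersion (f ∣_ O') := MorphismProperty.of_isPullback
    (isPullback_morphismRestrict f O').flip inferInstance
  rw [IsClosedImmersion.isIso_iff_ker_eq_bot]
  ext U' : 2
  rw [Scheme.Hom.ker_apply, Scheme.IdealSheafData.ideal_bot, Pi.bot_apply,
    ← RingHom.injective_iff_ker_eq_bot]
  have hU : IsAffineOpen (O'.ι ''ᵁ U'.1) := U'.2.image_of_isOpenImmersion O'.ι
  have hle : O'.ι ''ᵁ U'.1 ≤ O' := by
    rintro _ ⟨w, -, rfl⟩
    exact w.2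
  have h1 := h ⟨_, hU⟩ hle
  have e := morphismRestrict_app f O' U'.1
  have h2 : Function.Injective (Y.presheaf.map (eqToHom
      (image_morphismRestrict_preimage f O' U'.1)).op).hom :=
    (ConcreteCategory.bijective_of_isIso (Y.presheaf.map (eqToHom _).op)).1
  intro a b hab
  have e1 := congrArg (fun φ => φ.hom a) e
  have e2 := congrArg (fun φ => φ.hom b) e
  have h3 : (Y.presheaf.map (eqToHom (image_morphismRestrict_preimage f O' U'.1)).op).hom
      ((f.app (O'.ι ''ᵁ U'.1)).hom a) =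
      (Y.presheaf.map (eqToHom (image_morphismRestrict_preimage f O' U'.1)).op).hom
      ((f.app (O'.ι ''ᵁ U'.1)).hom b) := e1.symm.trans (hab.trans e2)
  exact h1 (h2 h3)

/-- The scheme-theoretic closure of a (quasi-compact) open subscheme `O` is isomorphic to the
ambient scheme over any open contained in `O`. -/
theorem isIso_imageι_restrict {P : Scheme.{u}} (O : P.Opens) [QuasiCompact O.ι] (O' : P.Opens)
    (hO' : O' ≤ O) : IsIso (O.ι.imageι ∣_ O') := by
  apply isIso_restrict_of_app_injective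
  intro U hU
  rw [RingHom.injective_iff_ker_eq_bot, ← Scheme.Hom.ker_apply,
    Scheme.IdealSheafData.ker_subschemeι, Scheme.Hom.ker_apply,
    ← RingHom.injective_iff_ker_eq_bot, Scheme.Opens.ι_app]
  have heq : O.ι ''ᵁ O.ι ⁻¹ᵁ U.1 = U.1 := by
    rw [Scheme.Hom.image_preimage_eq_opensRange_inf, Scheme.Opens.opensRange_ι]
    exact inf_eq_right.mpr (hU.trans hO')
  have h1 : (homOfLE (x := O.ι ''ᵁ O.ι ⁻¹ᵁ U.1) (Set.image_preimage_subset _ _)) = eqToHom heq :=
    Subsingleton.elim _ _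
  rw [h1]
  exact (ConcreteCategory.bijective_of_isIso (P.presheaf.map (eqToHom heq).op)).1

/-- If `s` is an isomorphism over the open `S₀`, its base change along `g` is an isomorphism over
any open `T₀ ≤ g⁻¹ S₀`. -/
theorem isIso_snd_restrict {X S T : Scheme.{u}} (s : X ⟶ S) (g : T ⟶ S) (S₀ : S.Opens)
    (T₀ : T.Opens) (hle : T₀ ≤ g ⁻¹ᵁ S₀) [IsIso (s ∣_ S₀)] :
    IsIso (pullback.snd s g ∣_ T₀) := by
  have hrange : Set.range (T₀.ι ≫ g) ⊆ Set.range S₀.ι := by
    rintro _ ⟨t, rfl⟩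
    rw [Scheme.Opens.range_ι]
    exact hle t.2
  obtain ⟨h, hh⟩ : ∃ h : T₀.toScheme ⟶ S₀.toScheme, h ≫ S₀.ι = T₀.ι ≫ g :=
    ⟨IsOpenImmersion.lift S₀.ι (T₀.ι ≫ g) hrange, IsOpenImmersion.lift_fac _ _ _⟩
  have sqA := isPullback_morphismRestrict (pullback.snd s g) T₀
  have sqB := (IsPullback.of_hasPullback s g).flip
  have sqAB := sqA.paste_vert sqB
  have sqC := isPullback_morphismRestrict s S₀
  have w : ((pullback.snd s g ∣_ T₀) ≫ h) ≫ S₀.ι =
      ((pullback.snd s g ⁻¹ᵁ T₀).ι ≫ pullback.fst s g) ≫ s := by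
    rw [Category.assoc, hh, ← Category.assoc, morphismRestrict_ι, Category.assoc, Category.assoc,
      pullback.condition]
  obtain ⟨k, hk1, hk2⟩ : ∃ k : (pullback.snd s g ⁻¹ᵁ T₀).toScheme ⟶ (s ⁻¹ᵁ S₀).toScheme,
      k ≫ (s ∣_ S₀) = (pullback.snd s g ∣_ T₀) ≫ h ∧
      k ≫ (s ⁻¹ᵁ S₀).ι = (pullback.snd s g ⁻¹ᵁ T₀).ι ≫ pullback.fst s g :=
    ⟨sqC.lift _ _ w, sqC.lift_fst _ _ w, sqC.lift_snd _ _ w⟩
  rw [← hk2, ← hh] at sqAB
  have sqD := IsPullback.of_bot sqAB hk1.symm sqC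
  exact sqD.isIso_fst_of_isIso

end CartH8
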