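import Mathlib
import Groth.Agent.Lib.Cart5_helper8
set_option autoImplicit false
open AlgebraicGeometry CategoryTheory CategoryTheory.Limits TopologicalSpace Opposite
open QcqsLoc
universe u
namespace CartH8

set_option backward.isDefEq.respectTransparency false in
/-- Two morphisms into a separated `Z`-scheme which agree on a schematically dense subscheme are
equal. -/
theorem ext_of_schemeTheoreticallyDominant {W X Y Z : Scheme.{u}} {f g : X ⟶ Y} (s : Y ⟶ Z)
    [IsSeparated s] (h : f ≫ s = g ≫ s) (ι : W ⟶ X) [IsSchemeTheoreticallyDominant ι]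
    (hU : ι ≫ f = ι ≫ g) : f = g := by
  let X' : Over Z := Over.mk (f ≫ s)
  let Y' : Over Z := Over.mk s
  let U' : Over Z := Over.mk (ι ≫ f ≫ s)
  let f' : X' ⟶ Y' := Over.homMk f
  let g' : X' ⟶ Y' := Over.homMk g
  let ι' : U' ⟶ X' := Over.homMk ι
  have : IsSeparated Y'.hom := ‹_›
  have hcond : ι' ≫ f' = ι' ≫ g' := by ext1; exact hU
  have hι : (equalizer.lift ι' hcond).left ≫ (equalizer.ι f' g').left = ι := by
    rw [← Over.comp_left, equalizer.lift_ι]
    rfl
  have hker : (equalizer.ι f' g').left.ker = ⊥ := by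
    have h1 := Scheme.Hom.le_ker_comp (equalizer.lift ι' hcond).left (equalizer.ι f' g').left
    rw [hι, ι.ker_eq_bot] at h1
    exact le_bot_iff.mp h1
  have := IsClosedImmersion.isIso_iff_ker_eq_bot.mpr hker
  rw [← cancel_epi (equalizer.ι f' g').left]
  exact congr($(equalizer.condition f' g').left)

theorem preimage_interior_of_isMinimal {X Y : Scheme.{u}} (I : X.IdealSheafData)
    (J : Y.IdealSheafData) (f : X ⟶ Y) (h : ModPair.IsMinimal I J f) :
    f ⁻¹ᵁ ModPair.interior J = ModPair.interior I := by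
  have h' : I = J.comap f := h
  ext x
  show f x ∉ J.support ↔ x ∉ I.support
  rw [h', mem_support_comap_iff]

theorem isAdmBlowup_id {X : Scheme.{u}} (I : X.IdealSheafData) : ModPair.IsAdmBlowup I I (𝟙 X) :=
  ⟨(Scheme.IdealSheafData.comap_id I).symm, inferInstance, inferInstance⟩

theorem isAdmBlowup_comp {X Y Z : Scheme.{u}} (I : X.IdealSheafData) (J : Y.IdealSheafData)
    (K : Z.IdealSheafData) (f : X ⟶ Y) (g : Y ⟶ Z) (hf : ModPair.IsAdmBlowup I J f)
    (hg : ModPair.IsAdmBlowup J K g) : ModPair.IsAdmBlowup I K (f ≫ g) := by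
  obtain ⟨hf1, hf2, hf3⟩ := hf
  obtain ⟨hg1, hg2, hg3⟩ := hg
  have hf1' : I = J.comap f := hf1
  have hg1' : J = K.comap g := hg1
  refine ⟨?_, inferInstance, ?_⟩
  · show I = K.comap (f ≫ g)
    rw [Scheme.IdealSheafData.comap_comp, ← hg1']
    exact hf1'
  · rw [morphismRestrict_comp]
    have hO := preimage_interior_of_isMinimal J K g hg1
    have hA : IsIso (f ∣_ g ⁻¹ᵁ ModPair.interior K) := by
      rw [hO]
      exact hf3
    exact IsIso.comp_isIso' hA hg3

/-- Ambient morphisms are determined by their composite with an admissible blow-up. -/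
theorem eq_of_comp_admBlowup {X Y Y' : Scheme.{u}} (I : X.IdealSheafData)
    (hI : BlowUp.IsEffCartierIdeal I) (J : Y.IdealSheafData) (J' : Y'.IdealSheafData)
    (f₁ f₂ : X ⟶ Y) (h₁ : ModPair.IsAmbient I J f₁) (h₂ : ModPair.IsAmbient I J f₂)
    (s : Y ⟶ Y') (hs : ModPair.IsAdmBlowup J J' s) (h : f₁ ≫ s = f₂ ≫ s) : f₁ = f₂ := by
  obtain ⟨hs1, hs2, hs3⟩ := hs
  haveI : IsSchemeTheoreticallyDominant (ModPair.interior I).ι :=
    BlowIsoH8.dominant_of_effCartier I hI _ (fun y hy => hy)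
  refine ext_of_schemeTheoreticallyDominant s h (ModPair.interior I).ι ?_
  have hO := preimage_interior_of_isMinimal J J' s hs1
  have hmaps : ∀ (f : X ⟶ Y), ModPair.IsAmbient I J f →
      Set.range ((ModPair.interior I).ι ≫ f) ⊆ Set.range (s ⁻¹ᵁ ModPair.interior J').ι := by
    intro f hf
    have hf' : I ≤ J.comap f := hf
    rintro _ ⟨x, rfl⟩
    rw [Scheme.Opens.range_ι, hO]
    show f x.1 ∉ J.support
    intro hJ
    exact x.2 (Scheme.IdealSheafData.support_antitone hf' ((mem_support_comap_iff f J _).mpr hJ))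
  obtain ⟨k₁, hk₁⟩ : ∃ k : (ModPair.interior I).toScheme ⟶ (s ⁻¹ᵁ ModPair.interior J').toScheme,
      k ≫ (s ⁻¹ᵁ ModPair.interior J').ι = (ModPair.interior I).ι ≫ f₁ :=
    ⟨IsOpenImmersion.lift _ _ (hmaps f₁ h₁), IsOpenImmersion.lift_fac _ _ _⟩
  obtain ⟨k₂, hk₂⟩ : ∃ k : (ModPair.interior I).toScheme ⟶ (s ⁻¹ᵁ ModPair.interior J').toScheme,
      k ≫ (s ⁻¹ᵁ ModPair.interior J').ι = (ModPair.interior I).ι ≫ f₂ :=
    ⟨IsOpenImmersion.lift _ _ (hmaps f₂ h₂), IsOpenImmersion.lift_fac _ _ _⟩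
  have hk : k₁ = k₂ := by
    haveI := hs3
    rw [← cancel_mono (s ∣_ ModPair.interior J'), ← cancel_mono (ModPair.interior J').ι,
      Category.assoc, Category.assoc, morphismRestrict_ι, ← Category.assoc, ← Category.assoc,
      hk₁, hk₂, Category.assoc, Category.assoc, h]
  rw [← hk₁, ← hk₂, hk]

end CartH8
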