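import Mathlib
import Groth.Agent.Lib.Cart6_helper8
set_option autoImplicit false
open AlgebraicGeometry CategoryTheory CategoryTheory.Limits TopologicalSpace Opposite
open QcqsLoc
universe u
namespace CartH8

theorem iSup_principal_affine_eq_top {X : Scheme.{u}} (I : X.IdealSheafData)
    (hI : BlowUp.IsEffCartierIdeal I) :
    ⨆ v : {V : X.affineOpens // ∃ i : Γ(X, V.1), I.ideal V = Ideal.span {i}},
      ((v.1 : X.affineOpens) : X.Opens) = ⊤ := by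
  rw [eq_top_iff]
  intro x _
  obtain ⟨V, hxV, i, -, hi⟩ := hI x
  exact TopologicalSpace.Opens.mem_iSup.mpr ⟨⟨V, i, hi⟩, hxV⟩

/-- If the interior of a modulus pair is the disjoint union of two opens, their inclusions are
quasi-compact. -/
theorem quasiCompact_ι_of_disjoint_sup {X : Scheme.{u}} (I : X.IdealSheafData)
    (hI : BlowUp.IsEffCartierIdeal I) (U₀ U₁ : X.Opens) (hU : U₀ ⊔ U₁ = ModPair.interior I)
    (hd : Disjoint U₀ U₁) : QuasiCompact U₀.ι := by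
  refine HasAffineProperty.of_iSup_eq_top (P := @QuasiCompact)
    (fun v : {V : X.affineOpens // ∃ i : Γ(X, V.1), I.ideal V = Ideal.span {i}} => v.1)
    (iSup_principal_affine_eq_top I hI) ?_
  rintro ⟨V, i, hi⟩
  show CompactSpace ↥(U₀.ι ⁻¹ᵁ V.1)
  refine isCompact_iff_compactSpace.mp ?_
  show IsCompact ((U₀.ι ⁻¹ᵁ V.1 : U₀.toScheme.Opens) : Set U₀.toScheme)
  have hK : IsCompact ((U₀ : Set X) ∩ V.1) := by
    have hD : IsCompact (X.basicOpen i : Set X) := (V.2.basicOpen i).isCompact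
    have heq : (U₀ : Set X) ∩ V.1 = (X.basicOpen i : Set X) ∩ (U₁ : Set X)ᶜ := by
      ext x
      constructor
      · rintro ⟨hx0, hxV⟩
        refine ⟨(mem_basicOpen_iff_notMem_support I V i hi x hxV).mpr ?_, ?_⟩
        · have h1 : x ∈ U₀ ⊔ U₁ := Or.inl hx0
          rw [hU] at h1
          exact h1
        · intro hx1
          have h2 : x ∈ U₀ ⊓ U₁ := ⟨hx0, hx1⟩
          rw [hd.eq_bot] at h2
          exact h2
      · rintro ⟨hxi, hx1⟩
        have hxV : x ∈ V.1 := X.basicOpen_le i hxi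
        have h1 : x ∈ ModPair.interior I :=
          (mem_basicOpen_iff_notMem_support I V i hi x hxV).mp hxi
        rw [← hU] at h1
        rcases h1 with h | h
        · exact ⟨h, hxV⟩
        · exact absurd h hx1
    rw [heq]
    exact hD.inter_right U₁.isOpen.isClosed_compl
  have h3 : ((U₀.ι ⁻¹ᵁ V.1 : U₀.toScheme.Opens) : Set U₀.toScheme) =
      U₀.ι ⁻¹' ((U₀ : Set X) ∩ V.1) := by
    ext x
    constructor
    · intro hx
      exact ⟨x.2, hx⟩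
    · intro hx
      exact hx.2
  rw [h3]
  exact (U₀.ι.isEmbedding.isInducing.isCompact_preimage_iff
    (by rw [Scheme.Opens.range_ι]; exact Set.inter_subset_left)).mpr hK

/-- Being an effective Cartier ideal can be checked on an open cover. -/
theorem isEffCartier_of_comap_openCover {Y : Scheme.{u}} (D : Y.IdealSheafData)
    (h : ∀ y : Y, ∃ (Y' : Scheme.{u}) (j : Y' ⟶ Y) (_ : IsOpenImmersion j),
      y ∈ Set.range j ∧ BlowUp.IsEffCartierIdeal (D.comap j)) :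
    BlowUp.IsEffCartierIdeal D := by
  intro y
  obtain ⟨Y', j, hj, ⟨y', rfl⟩, hc⟩ := h y
  obtain ⟨V', hyV', d', hd', hD'⟩ := hc y'
  have hV : IsAffineOpen (j ''ᵁ V'.1) := V'.2.image_of_isOpenImmersion j
  rw [Scheme.IdealSheafData.ideal_comap_of_isOpenImmersion] at hD'
  obtain ⟨e, he⟩ : ∃ e : Γ(Y, j ''ᵁ V'.1) ≃+* Γ(Y', V'.1),
      e = (j.appIso V'.1).commRingCatIsoToRingEquiv := ⟨_, rfl⟩
  have hD'' : (D.ideal ⟨j ''ᵁ V'.1, hV⟩).comap (e.symm : Γ(Y', V'.1) →+* Γ(Y, j ''ᵁ V'.1)) =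
      Ideal.span {d'} := by
    rw [he]
    exact hD'
  refine ⟨⟨j ''ᵁ V'.1, hV⟩, ⟨y', hyV', rfl⟩, e.symm d', ?_, ?_⟩
  · rw [mem_nonZeroDivisors_iff]
    have key : ∀ s : Γ(Y, j ''ᵁ V'.1), e.symm d' * s = 0 → s = 0 := by
      intro s hs
      have h1 : d' * e s = 0 := by
        have h2 := congrArg e hs
        rwa [map_mul, e.apply_symm_apply, map_zero] at h2
      have h3 := (mem_nonZeroDivisors_iff.mp hd').1 _ h1
      exact (map_eq_zero_iff e e.injective).mp h3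
    refine ⟨key, fun s hs => key s ?_⟩
    rw [mul_comm]
    exact hs
  · have h1 : D.ideal ⟨j ''ᵁ V'.1, hV⟩ =
        ((D.ideal ⟨j ''ᵁ V'.1, hV⟩).comap (e.symm : Γ(Y', V'.1) →+* Γ(Y, j ''ᵁ V'.1))).comap
          (e : Γ(Y, j ''ᵁ V'.1) →+* Γ(Y', V'.1)) := by
      rw [Ideal.comap_comap]
      ext s
      simp
    rw [h1, hD'']
    ext s
    rw [Ideal.mem_comap, Ideal.mem_span_singleton', Ideal.mem_span_singleton']
    constructor
    · rintro ⟨c, hc⟩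
      refine ⟨e.symm c, ?_⟩
      rw [← map_mul, hc]
      exact e.symm_apply_apply s
    · rintro ⟨c, hc⟩
      refine ⟨e c, ?_⟩
      have h5 : e s = e c * d' := by rw [← hc, map_mul, e.apply_symm_apply]
      exact h5.symm

/-- An affine morphism inducing isomorphisms on sections over a basis of affine opens of `O` is an
isomorphism over `O`. -/
theorem isIso_restrict_of_isIso_app {Y P : Scheme.{u}} (f : Y ⟶ P) [IsAffineHom f] (O : P.Opens)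
    (B : Set P.Opens) (hB : ∀ x ∈ O, ∃ W ∈ B, x ∈ W ∧ W ≤ O ∧ IsAffineOpen W)
    (h : ∀ W ∈ B, IsIso (f.app W)) : IsIso (f ∣_ O) := by
  have h1 : MorphismProperty.isomorphisms Scheme (f ∣_ O) := by
    refine IsZariskiLocalAtTarget.of_iSup_eq_top (P := MorphismProperty.isomorphisms Scheme)
      (fun W' : {W' : O.toScheme.affineOpens // O.ι ''ᵁ W'.1 ∈ B} => W'.1.1) ?_ ?_
    · rw [eq_top_iff]
      intro z _
      obtain ⟨W, hWB, hzW, hWO, hWa⟩ := hB z.1 z.2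
      have hW' : IsAffineOpen (O.ι ⁻¹ᵁ W) :=
        hWa.preimage_of_isOpenImmersion O.ι (by rw [Scheme.Opens.opensRange_ι]; exact hWO)
      have himg : O.ι ''ᵁ O.ι ⁻¹ᵁ W = W := by
        rw [Scheme.Hom.image_preimage_eq_opensRange_inf, Scheme.Opens.opensRange_ι]
        exact inf_eq_right.mpr hWO
      exact TopologicalSpace.Opens.mem_iSup.mpr ⟨⟨⟨O.ι ⁻¹ᵁ W, hW'⟩, himg.symm ▸ hWB⟩, hzW⟩
    · rintro ⟨W', hW'B⟩
      refine ((MorphismProperty.isomorphisms Scheme).arrow_mk_iso_iff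
        (morphismRestrictRestrict f O W'.1)).mpr ?_
      have hW : IsAffineOpen (O.ι ''ᵁ W'.1) := W'.2.image_of_isOpenImmersion O.ι
      have h2 : IsIso (f ∣_ O.ι ''ᵁ W'.1) :=
        (isIso_morphismRestrict_iff_isIso_app f hW).mpr (h _ hW'B)
      exact h2
  exact h1

theorem bijective_coprod_desc_app {X₀ X₁ X : Scheme.{u}} (ι₀ : X₀ ⟶ X) (ι₁ : X₁ ⟶ X) (W : X.Opens)
    (h1 : ∀ x₁ : X₁, ι₁ x₁ ∉ W) (h0 : Function.Bijective (ι₀.app W).hom) :
    Function.Bijective ((coprod.desc ι₀ ι₁).app W).hom := by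
  have hle : (coprod.desc ι₀ ι₁) ⁻¹ᵁ W ≤ (coprod.inl : X₀ ⟶ X₀ ⨿ X₁).opensRange := by
    intro z hz
    have hc := (isCompl_range_inl_inr X₀ X₁).codisjoint
    have hz' : z ∈ Set.range (coprod.inl : X₀ ⟶ X₀ ⨿ X₁) ∪ Set.range (coprod.inr : X₁ ⟶ X₀ ⨿ X₁) := by
      have h3 : Set.range (coprod.inl : X₀ ⟶ X₀ ⨿ X₁) ∪ Set.range (coprod.inr : X₁ ⟶ X₀ ⨿ X₁) =
          Set.univ := codisjoint_iff.mp hc
      rw [h3]
      trivial
    rcases hz' with hz' | ⟨x₁, rfl⟩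
    · exact hz'
    · exfalso
      apply h1 x₁
      have h2 : (coprod.desc ι₀ ι₁) ((coprod.inr : X₁ ⟶ X₀ ⨿ X₁) x₁) = ι₁ x₁ := by
        rw [← Scheme.Hom.comp_apply, coprod.inr_desc]
      rw [← h2]
      exact hz
  have himg : (coprod.inl : X₀ ⟶ X₀ ⨿ X₁) ''ᵁ (coprod.inl : X₀ ⟶ X₀ ⨿ X₁) ⁻¹ᵁ
      ((coprod.desc ι₀ ι₁) ⁻¹ᵁ W) = (coprod.desc ι₀ ι₁) ⁻¹ᵁ W := by
    rw [Scheme.Hom.image_preimage_eq_opensRange_inf]
    exact inf_eq_right.mpr hle
  have hb := bijective_appLE_of_image_eq (coprod.inl : X₀ ⟶ X₀ ⨿ X₁)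
    ((coprod.inl : X₀ ⟶ X₀ ⨿ X₁) ⁻¹ᵁ ((coprod.desc ι₀ ι₁) ⁻¹ᵁ W)) ((coprod.desc ι₀ ι₁) ⁻¹ᵁ W)
    himg le_rfl
  rw [← Scheme.Hom.app_eq_appLE] at hb
  have hcomp : ((coprod.inl : X₀ ⟶ X₀ ⨿ X₁) ≫ coprod.desc ι₀ ι₁).app W =
      (coprod.desc ι₀ ι₁).app W ≫
        (coprod.inl : X₀ ⟶ X₀ ⨿ X₁).app ((coprod.desc ι₀ ι₁) ⁻¹ᵁ W) := rfl
  have hcongr := Scheme.Hom.congr_app (coprod.inl_desc ι₀ ι₁) W
  have hb2 : Function.Bijective (((coprod.inl : X₀ ⟶ X₀ ⨿ X₁) ≫ coprod.desc ι₀ ι₁).app W).hom := by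
    rw [hcongr, CommRingCat.hom_comp, RingHom.coe_comp]
    exact (ConcreteCategory.bijective_of_isIso (X₀.presheaf.map (eqToHom _).op)).comp h0
  rw [hcomp] at hb2
  have hb3 : Function.Bijective
      (((coprod.inl : X₀ ⟶ X₀ ⨿ X₁).app ((coprod.desc ι₀ ι₁) ⁻¹ᵁ W)).hom ∘
        ((coprod.desc ι₀ ι₁).app W).hom) := hb2
  exact (Function.Bijective.of_comp_iff' hb _).mp hb3

theorem bijective_coprod_desc_app' {X₀ X₁ X : Scheme.{u}} (ι₀ : X₀ ⟶ X) (ι₁ : X₁ ⟶ X) (W : X.Opens)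
    (h1 : ∀ x₀ : X₀, ι₀ x₀ ∉ W) (h0 : Function.Bijective (ι₁.app W).hom) :
    Function.Bijective ((coprod.desc ι₀ ι₁).app W).hom := by
  have hle : (coprod.desc ι₀ ι₁) ⁻¹ᵁ W ≤ (coprod.inr : X₁ ⟶ X₀ ⨿ X₁).opensRange := by
    intro z hz
    have hc := (isCompl_range_inl_inr X₀ X₁).codisjoint
    have hz' : z ∈ Set.range (coprod.inr : X₁ ⟶ X₀ ⨿ X₁) ∪ Set.range (coprod.inl : X₀ ⟶ X₀ ⨿ X₁) := by
      have h3 : Set.range (coprod.inr : X₁ ⟶ X₀ ⨿ X₁) ∪ Set.range (coprod.inl : X₀ ⟶ X₀ ⨿ X₁) =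
          Set.univ := codisjoint_iff.mp hc.symm
      rw [h3]
      trivial
    rcases hz' with hz' | ⟨x₁, rfl⟩
    · exact hz'
    · exfalso
      apply h1 x₁
      have h2 : (coprod.desc ι₀ ι₁) ((coprod.inl : X₀ ⟶ X₀ ⨿ X₁) x₁) = ι₀ x₁ := by
        rw [← Scheme.Hom.comp_apply, coprod.inl_desc]
      rw [← h2]
      exact hz
  have himg : (coprod.inr : X₁ ⟶ X₀ ⨿ X₁) ''ᵁ (coprod.inr : X₁ ⟶ X₀ ⨿ X₁) ⁻¹ᵁ
      ((coprod.desc ι₀ ι₁) ⁻¹ᵁ W) = (coprod.desc ι₀ ι₁) ⁻¹ᵁ W := by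
    rw [Scheme.Hom.image_preimage_eq_opensRange_inf]
    exact inf_eq_right.mpr hle
  have hb := bijective_appLE_of_image_eq (coprod.inr : X₁ ⟶ X₀ ⨿ X₁)
    ((coprod.inr : X₁ ⟶ X₀ ⨿ X₁) ⁻¹ᵁ ((coprod.desc ι₀ ι₁) ⁻¹ᵁ W)) ((coprod.desc ι₀ ι₁) ⁻¹ᵁ W)
    himg le_rfl
  rw [← Scheme.Hom.app_eq_appLE] at hb
  have hcomp : ((coprod.inr : X₁ ⟶ X₀ ⨿ X₁) ≫ coprod.desc ι₀ ι₁).app W =
      (coprod.desc ι₀ ι₁).app W ≫
        (coprod.inr : X₁ ⟶ X₀ ⨿ X₁).app ((coprod.desc ι₀ ι₁) ⁻¹ᵁ W) := rfl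
  have hcongr := Scheme.Hom.congr_app (coprod.inr_desc ι₀ ι₁) W
  have hb2 : Function.Bijective (((coprod.inr : X₁ ⟶ X₀ ⨿ X₁) ≫ coprod.desc ι₀ ι₁).app W).hom := by
    rw [hcongr, CommRingCat.hom_comp, RingHom.coe_comp]
    exact (ConcreteCategory.bijective_of_isIso (X₁.presheaf.map (eqToHom _).op)).comp h0
  rw [hcomp] at hb2
  have hb3 : Function.Bijective
      (((coprod.inr : X₁ ⟶ X₀ ⨿ X₁).app ((coprod.desc ι₀ ι₁) ⁻¹ᵁ W)).hom ∘
        ((coprod.desc ι₀ ι₁).app W).hom) := hb2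
  exact (Function.Bijective.of_comp_iff' hb _).mp hb3


theorem imageι_notMem_of_disjoint {X : Scheme.{u}} (U₀ U₁ : X.Opens) (hd : Disjoint U₀ U₁)
    [QuasiCompact U₁.ι] (W : X.Opens) (hW : W ≤ U₀) (x₁ : U₁.ι.image) : U₁.ι.imageι x₁ ∉ W := by
  intro hx
  have h1 : U₁.ι.imageι x₁ ∈ Set.range U₁.ι.imageι := ⟨x₁, rfl⟩
  rw [Scheme.IdealSheafData.range_subschemeι, Scheme.Hom.support_ker, Scheme.Opens.range_ι] at h1
  obtain ⟨z, hz0, hz1⟩ := mem_closure_iff.mp h1 U₀ U₀.isOpen (hW hx)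
  have h2 : z ∈ U₀ ⊓ U₁ := ⟨hz0, hz1⟩
  rw [hd.eq_bot] at h2
  exact h2

theorem admBlowup_coprod {X : Scheme.{u}} (I : X.IdealSheafData) (hI : BlowUp.IsEffCartierIdeal I)
    (U₀ U₁ : X.Opens) (hU : U₀ ⊔ U₁ = ModPair.interior I) (hd : Disjoint U₀ U₁) :
    BlowUp.IsEffCartierIdeal (I.comap (coprod.desc U₀.ι.imageι U₁.ι.imageι)) ∧
      ModPair.IsAdmBlowup (I.comap (coprod.desc U₀.ι.imageι U₁.ι.imageι)) I
        (coprod.desc U₀.ι.imageι U₁.ι.imageι) := by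
  haveI q0 : QuasiCompact U₀.ι := quasiCompact_ι_of_disjoint_sup I hI U₀ U₁ hU hd
  haveI q1 : QuasiCompact U₁.ι :=
    quasiCompact_ι_of_disjoint_sup I hI U₁ U₀ (by rw [sup_comm]; exact hU) hd.symm
  have hprinc : ∀ z : X, ∃ U : X.affineOpens, z ∈ U.1 ∧ ∃ d : Γ(X, U.1),
      I.ideal U = Ideal.span {d} := by
    intro z
    obtain ⟨V, hz, i, -, hi⟩ := hI z
    exact ⟨V, hz, i, hi⟩
  have hU0 : U₀ ≤ ModPair.interior I := hU ▸ le_sup_left
  have hU1 : U₁ ≤ ModPair.interior I := hU ▸ le_sup_right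
  have c0 : BlowUp.IsEffCartierIdeal (I.comap U₀.ι.imageι) :=
    isEffCartier_comap_imageι U₀ I hprinc (fun z hz => hU0 hz)
  have c1 : BlowUp.IsEffCartierIdeal (I.comap U₁.ι.imageι) :=
    isEffCartier_comap_imageι U₁ I hprinc (fun z hz => hU1 hz)
  refine ⟨?_, rfl, inferInstance, ?_⟩
  · apply isEffCartier_of_comap_openCover
    intro y
    have hc := (isCompl_range_inl_inr U₀.ι.image U₁.ι.image).codisjoint
    have h3 : Set.range (coprod.inl : U₀.ι.image ⟶ U₀.ι.image ⨿ U₁.ι.image) ∪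
        Set.range (coprod.inr : U₁.ι.image ⟶ U₀.ι.image ⨿ U₁.ι.image) = Set.univ :=
      codisjoint_iff.mp hc
    have hy : y ∈ Set.range (coprod.inl : U₀.ι.image ⟶ U₀.ι.image ⨿ U₁.ι.image) ∪
        Set.range (coprod.inr : U₁.ι.image ⟶ U₀.ι.image ⨿ U₁.ι.image) := by
      rw [h3]
      trivial
    rcases hy with hy | hy
    · refine ⟨_, coprod.inl, inferInstance, hy, ?_⟩
      rw [← Scheme.IdealSheafData.comap_comp, coprod.inl_desc]
      exact c0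
    · refine ⟨_, coprod.inr, inferInstance, hy, ?_⟩
      rw [← Scheme.IdealSheafData.comap_comp, coprod.inr_desc]
      exact c1
  · apply isIso_restrict_of_isIso_app (coprod.desc U₀.ι.imageι U₁.ι.imageι) (ModPair.interior I)
      {W | IsAffineOpen W ∧ (W ≤ U₀ ∨ W ≤ U₁)}
    · intro x hx
      rw [← hU] at hx
      rcases hx with hx | hx
      · obtain ⟨_, ⟨W, hW : IsAffineOpen W, rfl⟩, hxW, hWle⟩ :=
          (X.isBasis_affineOpens).exists_subset_of_mem_open hx U₀.2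
        exact ⟨W, ⟨hW, Or.inl hWle⟩, hxW, le_trans hWle hU0, hW⟩
      · obtain ⟨_, ⟨W, hW : IsAffineOpen W, rfl⟩, hxW, hWle⟩ :=
          (X.isBasis_affineOpens).exists_subset_of_mem_open hx U₁.2
        exact ⟨W, ⟨hW, Or.inr hWle⟩, hxW, le_trans hWle hU1, hW⟩
    · rintro W ⟨hW, hW0 | hW1⟩
      · rw [ConcreteCategory.isIso_iff_bijective]
        apply bijective_coprod_desc_app
        · exact imageι_notMem_of_disjoint U₀ U₁ hd W hW0
        · have h2 : IsIso (U₀.ι.imageι ∣_ W) := isIso_imageι_restrict U₀ W hW0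
          have h4 : IsIso (U₀.ι.imageι.app W) :=
            (isIso_morphismRestrict_iff_isIso_app U₀.ι.imageι hW).mp h2
          exact ConcreteCategory.bijective_of_isIso _
      · rw [ConcreteCategory.isIso_iff_bijective]
        apply bijective_coprod_desc_app'
        · exact imageι_notMem_of_disjoint U₁ U₀ hd.symm W hW1
        · have h2 : IsIso (U₁.ι.imageι ∣_ W) := isIso_imageι_restrict U₁ W hW1
          have h4 : IsIso (U₁.ι.imageι.app W) :=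
            (isIso_morphismRestrict_iff_isIso_app U₁.ι.imageι hW).mp h2
          exact ConcreteCategory.bijective_of_isIso _

end CartH8
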