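import Mathlib
import Groth.Prelude.Def_BlowUp2
import Groth.Agent.Lib.Cart7_helper8
import Groth.Agent.Lib.BlowPerf2_helper2

/-!
# Blow-ups are local on the base (helper2)
-/

set_option autoImplicit false
open AlgebraicGeometry CategoryTheory CategoryTheory.Limits TopologicalSpace Opposite
universe u

namespace Groth.Agent.Lib.BlowLocal

/-- Uniqueness of lifts plus local existence of lifts gives the universal property. -/
theorem isBlowUp_of_local {X B : Scheme.{u}} (b : B ⟶ X) (𝓘 : X.IdealSheafData)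
    (hcart : BlowUp.IsEffCartierIdeal (𝓘.comap b))
    (huniq : ∀ (T : Scheme.{u}) (m₁ m₂ : T ⟶ B), m₁ ≫ b = m₂ ≫ b →
      BlowUp.IsEffCartierIdeal (𝓘.comap (m₁ ≫ b)) → m₁ = m₂)
    (hex : ∀ (Y : Scheme.{u}) (g : Y ⟶ X), BlowUp.IsEffCartierIdeal (𝓘.comap g) → ∀ y : Y,
      ∃ (V : Y.Opens) (_ : y ∈ V) (k : V.toScheme ⟶ B), k ≫ b = V.ι ≫ g) :
    BlowUp.IsBlowUp b 𝓘 := by
  refine ⟨hcart, ?_⟩
  intro Y g hg
  choose V hyV k hk using hex Y g hg
  have hcover : IsOpenCover V := by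
    apply eq_top_iff.mpr
    intro y _
    exact Opens.mem_iSup.mpr ⟨y, hyV y⟩
  have key : ∃ 𝒰 : Y.OpenCover, ∀ x : 𝒰.I₀, ∃ k : 𝒰.X x ⟶ B, k ≫ b = 𝒰.f x ≫ g :=
    ⟨Y.openCoverOfIsOpenCover V hcover, fun x => ⟨k x, hk x⟩⟩
  obtain ⟨𝒰, h𝒰⟩ := key
  choose k' hk' using h𝒰
  have hcompat : ∀ x y : 𝒰.I₀,
      pullback.fst (𝒰.f x) (𝒰.f y) ≫ k' x = pullback.snd (𝒰.f x) (𝒰.f y) ≫ k' y := by
    intro x y
    apply huniq
    · rw [Category.assoc, Category.assoc, hk' x, hk' y, ← Category.assoc, ← Category.assoc]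
      congr 1
      exact pullback.condition
    · rw [Category.assoc, hk' x, ← Category.assoc, Scheme.IdealSheafData.comap_comp]
      exact CartH8.isEffCartier_comap_of_flat _ _ hg
  have hglue : 𝒰.glueMorphisms k' hcompat ≫ b = g := by
    apply 𝒰.hom_ext
    intro x
    rw [← Category.assoc, Scheme.Cover.ι_glueMorphisms]
    exact hk' x
  refine ⟨𝒰.glueMorphisms k' hcompat, hglue, ?_⟩
  intro h' hh'
  apply huniq
  · rw [hh', hglue]
  · rw [hh']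
    exact hg

/-- Transport of a blow-up along an isomorphism of the base. -/
theorem isBlowUp_comp_iso {S S' B : Scheme.{u}} (e : S' ⟶ S) [IsIso e] (𝓙 : S.IdealSheafData)
    (b : B ⟶ S') (hb : BlowUp.IsBlowUp b (𝓙.comap e)) : BlowUp.IsBlowUp (b ≫ e) 𝓙 := by
  refine ⟨?_, ?_⟩
  · rw [Scheme.IdealSheafData.comap_comp]
    exact hb.1
  · intro Y g hg
    have hg' : BlowUp.IsEffCartierIdeal ((𝓙.comap e).comap (g ≫ inv e)) := by
      rw [← Scheme.IdealSheafData.comap_comp, Category.assoc, IsIso.inv_hom_id, Category.comp_id]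
      exact hg
    obtain ⟨h, hh, hu⟩ := hb.2 Y (g ≫ inv e) hg'
    refine ⟨h, ?_, ?_⟩
    · show h ≫ b ≫ e = g
      rw [← Category.assoc, hh, Category.assoc, IsIso.inv_hom_id, Category.comp_id]
    · intro h' hh'
      apply hu
      show h' ≫ b = g ≫ inv e
      rw [← hh', Category.assoc, Category.assoc, IsIso.hom_inv_id, Category.comp_id]

/-- Being a blow-up is local on the base. -/
theorem isBlowUp_of_openCover {X B : Scheme.{u}} (b : B ⟶ X) (𝓘 : X.IdealSheafData) {ι : Type*}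
    (U : ι → X.Opens) (hU : ∀ x : X, ∃ i, x ∈ U i)
    (Bi : ι → Scheme.{u}) (β : ∀ i, Bi i ⟶ (U i).toScheme) (κ : ∀ i, Bi i ⟶ B)
    (sq : ∀ i, IsPullback (β i) (κ i) (U i).ι b)
    (hβ : ∀ i, BlowUp.IsBlowUp (β i) (𝓘.comap (U i).ι)) : BlowUp.IsBlowUp b 𝓘 := by
  have hκ : ∀ i, IsOpenImmersion (κ i) := fun i =>
    MorphismProperty.of_isPullback (P := @IsOpenImmersion) (sq i) inferInstance
  have hlift : ∀ (T : Scheme.{u}) (g : T ⟶ X) (i : ι), (∀ t : T, g t ∈ U i) →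
      BlowUp.IsEffCartierIdeal (𝓘.comap g) →
      ∃ n : T ⟶ (U i).toScheme, n ≫ (U i).ι = g ∧
        BlowUp.IsEffCartierIdeal ((𝓘.comap (U i).ι).comap n) := by
    intro T g i hT hg
    have hr : Set.range g ⊆ Set.range (U i).ι := by
      rintro _ ⟨t, rfl⟩
      rw [Scheme.Opens.range_ι]
      exact hT t
    refine ⟨IsOpenImmersion.lift (U i).ι g hr, IsOpenImmersion.lift_fac _ _ _, ?_⟩
    rw [← Scheme.IdealSheafData.comap_comp, IsOpenImmersion.lift_fac]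
    exact hg
  refine isBlowUp_of_local b 𝓘 ?_ ?_ ?_
  · apply CartH8.isEffCartier_of_comap_openCover
    intro z
    obtain ⟨i, hi⟩ := hU (b z)
    obtain ⟨w, -, hw⟩ := Scheme.exists_preimage_of_isPullback (sq i) (⟨b z, hi⟩ : (U i).toScheme) z rfl
    refine ⟨Bi i, κ i, hκ i, ⟨w, hw⟩, ?_⟩
    rw [← Scheme.IdealSheafData.comap_comp, ← (sq i).w, Scheme.IdealSheafData.comap_comp]
    exact (hβ i).1
  · intro T m₁ m₂ e hc
    apply Scheme.hom_ext_of_forall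
    intro t
    obtain ⟨i, hi⟩ := hU ((m₁ ≫ b) t)
    obtain ⟨N, hN⟩ : ∃ N : T.Opens, N = (m₁ ≫ b) ⁻¹ᵁ (U i) := ⟨_, rfl⟩
    have htN : t ∈ N := by rw [hN]; exact hi
    refine ⟨N, htN, ?_⟩
    have hc' : BlowUp.IsEffCartierIdeal (𝓘.comap (N.ι ≫ m₁ ≫ b)) := by
      rw [Scheme.IdealSheafData.comap_comp]
      exact CartH8.isEffCartier_comap_of_flat _ _ hc
    have hle : N ≤ (m₁ ≫ b) ⁻¹ᵁ (U i) := hN.le
    obtain ⟨n, hn, hnc⟩ := hlift N.toScheme (N.ι ≫ m₁ ≫ b) i (fun x => hle x.2) hc'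
    have w1 : n ≫ (U i).ι = (N.ι ≫ m₁) ≫ b := by rw [hn, Category.assoc]
    have w2 : n ≫ (U i).ι = (N.ι ≫ m₂) ≫ b := by rw [hn, Category.assoc, e]
    obtain ⟨h0, -, hu⟩ := (hβ i).2 N.toScheme n hnc
    have e1 : (sq i).lift n (N.ι ≫ m₁) w1 = h0 := hu _ ((sq i).lift_fst _ _ _)
    have e2 : (sq i).lift n (N.ι ≫ m₂) w2 = h0 := hu _ ((sq i).lift_fst _ _ _)
    rw [← (sq i).lift_snd n (N.ι ≫ m₁) w1, ← (sq i).lift_snd n (N.ι ≫ m₂) w2, e1, e2]
  · intro Y g hg y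
    obtain ⟨i, hi⟩ := hU (g y)
    obtain ⟨N, hN⟩ : ∃ N : Y.Opens, N = g ⁻¹ᵁ (U i) := ⟨_, rfl⟩
    have hyN : y ∈ N := by rw [hN]; exact hi
    have hc' : BlowUp.IsEffCartierIdeal (𝓘.comap (N.ι ≫ g)) := by
      rw [Scheme.IdealSheafData.comap_comp]
      exact CartH8.isEffCartier_comap_of_flat _ _ hg
    have hle : N ≤ g ⁻¹ᵁ (U i) := hN.le
    obtain ⟨n, hn, hnc⟩ := hlift N.toScheme (N.ι ≫ g) i (fun x => hle x.2) hc'
    obtain ⟨h0, hh0, -⟩ := (hβ i).2 N.toScheme n hnc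
    refine ⟨N, hyN, h0 ≫ κ i, ?_⟩
    rw [Category.assoc, ← (sq i).w, ← Category.assoc, hh0, hn]

end Groth.Agent.Lib.BlowLocal
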