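import Mathlib

/-!
# Spreading out regular sequences from a localization at a prime (helper5)
-/

open RingTheory.Sequence Pointwise

universe u

namespace Groth.Agent.RegSpread

variable {A : Type u} [CommRing A]

/-- uniform multiplier for a finitely generated ideal -/
theorem exists_uniform_mul (p : Ideal A) [p.IsPrime] (I J : Ideal A) (hI : I.FG)
    (h : ∀ c ∈ I, ∃ t, t ∉ p ∧ t * c ∈ J) : ∃ f, f ∉ p ∧ ∀ c ∈ I, f * c ∈ J := by
  classical
  obtain ⟨G, rfl⟩ := hI
  have h' : ∀ c : A, ∃ t : A, c ∈ G → (t ∉ p ∧ t * c ∈ J) := by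
    intro c
    by_cases hc : c ∈ G
    · obtain ⟨t, ht⟩ := h c (Ideal.subset_span hc)
      exact ⟨t, fun _ => ht⟩
    · exact ⟨1, fun h => absurd h hc⟩
  choose t ht using h'
  refine ⟨∏ c ∈ G, t c, ?_, ?_⟩
  · intro hmem
    obtain ⟨c, hc, hct⟩ := (Ideal.IsPrime.prod_mem_iff).mp hmem
    exact (ht c hc).1 hct
  · intro c hc
    refine Submodule.span_induction ?_ ?_ ?_ ?_ hc
    · intro x hx
      obtain ⟨d, hd⟩ := Finset.dvd_prod_of_mem t hx
      rw [hd, mul_comm (t x) d, mul_assoc]
      exact J.mul_mem_left _ (ht x hx).2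
    · simp
    · intro x y _ _ hx hy
      rw [mul_add]; exact J.add_mem hx hy
    · intro a x _ hx
      rw [smul_eq_mul, mul_left_comm]; exact J.mul_mem_left _ hx

/-- one step of spreading out -/
theorem spread_step [IsNoetherianRing A] (p : Ideal A) [hp : p.IsPrime] (J : Ideal A) (a : A)
    (h : ∀ b, (∃ t ∈ p.primeCompl, t * (a * b) ∈ J) → ∃ t ∈ p.primeCompl, t * b ∈ J) :
    ∃ f, f ∉ p ∧ ∀ g, f ∣ g → ∀ b, (∃ t ∈ Submonoid.powers g, t * (a * b) ∈ J) →
      ∃ t ∈ Submonoid.powers g, t * b ∈ J := by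
  let K : Ideal A := Submodule.comap (LinearMap.lsmul A A a) J
  have hKmem : ∀ c, c ∈ K ↔ a * c ∈ J := fun c => Iff.rfl
  have hK : ∀ c ∈ K, ∃ t, t ∉ p ∧ t * c ∈ J := by
    intro c hc
    obtain ⟨t, ht, htc⟩ := h c ⟨1, Submonoid.one_mem _, by rw [one_mul]; exact (hKmem c).mp hc⟩
    exact ⟨t, ht, htc⟩
  obtain ⟨f, hf, hfK⟩ := exists_uniform_mul p K J (IsNoetherian.noetherian K) hK
  refine ⟨f, hf, ?_⟩
  rintro g ⟨e, rfl⟩ b ⟨t, ⟨n, rfl⟩, hn⟩
  refine ⟨(f * e) ^ (n + 1), ⟨n + 1, rfl⟩, ?_⟩
  have h1 : (f * e) ^ n * b ∈ K := by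
    rw [hKmem, mul_left_comm]; exact hn
  have h2 := hfK _ h1
  have h3 : (f * e) ^ (n + 1) * b = e * (f * ((f * e) ^ n * b)) := by ring
  rw [h3]; exact J.mul_mem_left _ h2

/-- elementwise criterion in a localization -/
theorem forall_mem_iff {B : Type*} [CommRing B] [Algebra A B] (T : Submonoid A)
    [IsLocalization T B] (J : Ideal A) (a : A) :
    (∀ x : B, algebraMap A B a * x ∈ J.map (algebraMap A B) → x ∈ J.map (algebraMap A B)) ↔
      ∀ b, (∃ t ∈ T, t * (a * b) ∈ J) → ∃ t ∈ T, t * b ∈ J := by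
  constructor
  · intro h b hb
    rw [← IsLocalization.algebraMap_mem_map_algebraMap_iff T B] at hb ⊢
    apply h
    rw [← map_mul]; exact hb
  · intro h x hx
    obtain ⟨b, s, rfl⟩ := IsLocalization.exists_mk'_eq T x
    rw [IsLocalization.mk'_mem_map_algebraMap_iff T]
    apply h
    rw [← IsLocalization.mk'_one (M := T) B a, ← IsLocalization.mk'_mul, one_mul,
      IsLocalization.mk'_mem_map_algebraMap_iff T] at hx
    exact hx

/-- weak regularity of the image of a list in a localization, elementwise -/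
theorem isWeaklyRegular_map_iff {B : Type*} [CommRing B] [Algebra A B] (T : Submonoid A)
    [IsLocalization T B] (as : List A) :
    IsWeaklyRegular B (as.map (algebraMap A B)) ↔
      ∀ i (h : i < as.length), ∀ b, (∃ t ∈ T, t * (as[i] * b) ∈ Ideal.ofList (as.take i)) →
        ∃ t ∈ T, t * b ∈ Ideal.ofList (as.take i) := by
  have hJ : ∀ i, (Ideal.ofList ((as.map (algebraMap A B)).take i) • ⊤ : Submodule B B) =
      (Ideal.ofList (as.take i)).map (algebraMap A B) := by
    intro i
    rw [smul_eq_mul, Ideal.mul_top, ← List.map_take, Ideal.map_ofList]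
  rw [isWeaklyRegular_iff]
  constructor
  · intro H i h
    have h' : i < (as.map (algebraMap A B)).length := by rw [List.length_map]; exact h
    have H1 := (isSMulRegular_quotient_iff_mem_of_smul_mem _ _).mp (H i h')
    rw [hJ i, List.getElem_map] at H1
    exact (forall_mem_iff T _ _).mp H1
  · intro H i h'
    have h : i < as.length := by rw [List.length_map] at h'; exact h'
    rw [isSMulRegular_quotient_iff_mem_of_smul_mem, hJ i, List.getElem_map]
    exact (forall_mem_iff T _ _).mpr (H i h)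

/-- spreading out weak regularity -/
theorem spread [IsNoetherianRing A] (p : Ideal A) [p.IsPrime] (S : Type*) [CommRing S]
    [Algebra A S] [IsLocalization.AtPrime S p] (as : List A)
    (h : IsWeaklyRegular S (as.map (algebraMap A S))) :
    ∃ f, f ∉ p ∧ ∀ g, f ∣ g → ∀ (B : Type u) [CommRing B] [Algebra A B]
      [IsLocalization.Away g B], IsWeaklyRegular B (as.map (algebraMap A B)) := by
  have hS := (isWeaklyRegular_map_iff p.primeCompl as).mp h
  have key : ∀ n : ℕ, ∃ f, f ∉ p ∧ ∀ i (h : i < as.length), i < n → ∀ g, f ∣ g → ∀ b,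
      (∃ t ∈ Submonoid.powers g, t * (as[i] * b) ∈ Ideal.ofList (as.take i)) →
        ∃ t ∈ Submonoid.powers g, t * b ∈ Ideal.ofList (as.take i) := by
    intro n
    induction n with
    | zero =>
      exact ⟨1, fun h1 => (Ideal.IsPrime.ne_top ‹_›) ((Ideal.eq_top_iff_one _).mpr h1),
        fun i _ hi => absurd hi (Nat.not_lt_zero i)⟩
    | succ n ih =>
      obtain ⟨f, hf, hfn⟩ := ih
      by_cases hn : n < as.length
      · obtain ⟨f', hf', hfn'⟩ := spread_step p (Ideal.ofList (as.take n)) as[n] (hS n hn)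
        refine ⟨f * f', fun hmem => ?_, ?_⟩
        · rcases (Ideal.IsPrime.mem_or_mem ‹_› hmem) with h1 | h1
          · exact hf h1
          · exact hf' h1
        · intro i hi hin g hg b hb
          rcases Nat.lt_succ_iff_lt_or_eq.mp hin with h1 | h1
          · exact hfn i hi h1 g (dvd_trans (dvd_mul_right f f') hg) b hb
          · subst h1
            exact hfn' g (dvd_trans (dvd_mul_left f' f) hg) b hb
      · refine ⟨f, hf, ?_⟩
        intro i hi hin g hg b hb
        rcases Nat.lt_succ_iff_lt_or_eq.mp hin with h1 | h1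
        · exact hfn i hi h1 g hg b hb
        · subst h1; exact absurd hi hn
  obtain ⟨f, hf, hfn⟩ := key as.length
  refine ⟨f, hf, ?_⟩
  intro g hg B _ _ _
  rw [isWeaklyRegular_map_iff (Submonoid.powers g) as]
  intro i hi b hb
  exact hfn i hi hi g hg b hb

/-- spreading out an inclusion of extended ideals -/
theorem spread_ideal_le (p : Ideal A) [p.IsPrime] (S : Type*) [CommRing S] [Algebra A S]
    [IsLocalization.AtPrime S p] (I J : Ideal A) (hI : I.FG)
    (h : I.map (algebraMap A S) ≤ J.map (algebraMap A S)) :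
    ∃ f, f ∉ p ∧ ∀ g, f ∣ g → ∀ (B : Type u) [CommRing B] [Algebra A B]
      [IsLocalization.Away g B], I.map (algebraMap A B) ≤ J.map (algebraMap A B) := by
  have h1 : ∀ c ∈ I, ∃ t, t ∉ p ∧ t * c ∈ J := by
    intro c hc
    have h2 : algebraMap A S c ∈ J.map (algebraMap A S) := h (Ideal.mem_map_of_mem _ hc)
    rw [IsLocalization.algebraMap_mem_map_algebraMap_iff p.primeCompl] at h2
    obtain ⟨t, ht, htc⟩ := h2
    exact ⟨t, ht, htc⟩
  obtain ⟨f, hf, hfI⟩ := exists_uniform_mul p I J hI h1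
  refine ⟨f, hf, ?_⟩
  rintro g ⟨e, rfl⟩ B _ _ _
  rw [Ideal.map_le_iff_le_comap]
  intro c hc
  rw [Ideal.mem_comap, IsLocalization.algebraMap_mem_map_algebraMap_iff (Submonoid.powers (f * e))]
  refine ⟨f * e, Submonoid.mem_powers _, ?_⟩
  have h3 : f * e * c = e * (f * c) := by ring
  rw [h3]; exact J.mul_mem_left _ (hfI c hc)

/-- multiplying the members of a weakly regular sequence by units -/
theorem unit_scale {S : Type u} [CommRing S] {rs rs' : List S}
    (h : List.Forall₂ (fun (r r' : S) => ∃ u : Sˣ, r' = (u : S) * r) rs rs') :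
    Ideal.ofList rs' = Ideal.ofList rs ∧
      ∀ (M : Type u) [AddCommGroup M] [Module S M], IsWeaklyRegular M rs →
        IsWeaklyRegular M rs' := by
  induction h with
  | nil => exact ⟨rfl, fun M _ _ h => h⟩
  | @cons r r' l l' hab _ ih =>
    obtain ⟨u, rfl⟩ := hab
    refine ⟨?_, ?_⟩
    · rw [Ideal.ofList_cons, Ideal.ofList_cons, ih.1]
      congr 1
      exact Ideal.span_singleton_mul_left_unit u.isUnit r
    · intro M _ _ hM
      rw [isWeaklyRegular_cons_iff] at hM ⊢
      refine ⟨(u.isUnit.isSMulRegular M).mul hM.1, ?_⟩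
      have hsub : (r • ⊤ : Submodule S M) = ((u : S) * r) • (⊤ : Submodule S M) := by
        ext x
        rw [Submodule.mem_smul_pointwise_iff_exists, Submodule.mem_smul_pointwise_iff_exists]
        constructor
        · rintro ⟨m, -, rfl⟩
          refine ⟨(↑u⁻¹ : S) • m, trivial, ?_⟩
          rw [smul_smul, mul_right_comm, Units.mul_inv, one_mul]
        · rintro ⟨m, -, rfl⟩
          refine ⟨(u : S) • m, trivial, ?_⟩
          rw [smul_smul, mul_comm]
      let e : QuotSMulTop r M ≃ₗ[S] QuotSMulTop ((u : S) * r) M :=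
        Submodule.quotEquivOfEq _ _ hsub
      exact (e.isWeaklyRegular_congr _).mp (ih.2 _ hM.2)

/-- the main algebraic statement -/
theorem main_alg [IsNoetherianRing A] (p : Ideal A) [p.IsPrime] (S : Type u) [CommRing S]
    [Algebra A S] [IsLocalization.AtPrime S p] (I : Ideal A) (rs : List S)
    (hrs : IsWeaklyRegular S rs) (hI : I.map (algebraMap A S) = Ideal.ofList rs) :
    ∃ (f : A) (as : List A), f ∉ p ∧ ∀ (B : Type u) [CommRing B] [Algebra A B]
      [IsLocalization.Away f B], IsWeaklyRegular B (as.map (algebraMap A B)) ∧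
        I.map (algebraMap A B) = Ideal.ofList (as.map (algebraMap A B)) := by
  have hch : ∀ r : S, ∃ a : A, ∃ u : Sˣ, algebraMap A S a = u * r := by
    intro r
    obtain ⟨⟨a, s⟩, hs⟩ := IsLocalization.surj p.primeCompl r
    refine ⟨a, (IsLocalization.map_units S s).unit, ?_⟩
    rw [IsUnit.unit_spec, mul_comm]; exact hs.symm
  choose α hα using hch
  obtain ⟨as, has⟩ : ∃ as : List A, as = rs.map α := ⟨_, rfl⟩
  have hF : List.Forall₂ (fun (r r' : S) => ∃ u : Sˣ, r' = (u : S) * r) rs (as.map (algebraMap A S)) := by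
    rw [has, List.map_map, List.forall₂_map_right_iff, List.forall₂_same]
    intro r _
    exact hα r
  obtain ⟨hid, hreg⟩ := unit_scale hF
  have hreg' := hreg S hrs
  have hI' : I.map (algebraMap A S) = (Ideal.ofList as).map (algebraMap A S) := by
    rw [hI, Ideal.map_ofList, hid]
  obtain ⟨f1, hf1, H1⟩ := spread p S as hreg'
  obtain ⟨f2, hf2, H2⟩ := spread_ideal_le p S I (Ideal.ofList as)
    (IsNoetherian.noetherian I) hI'.le
  obtain ⟨f3, hf3, H3⟩ := spread_ideal_le p S (Ideal.ofList as) I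
    (IsNoetherian.noetherian _) hI'.ge
  refine ⟨f1 * f2 * f3, as, fun hmem => ?_, ?_⟩
  · rcases (Ideal.IsPrime.mem_or_mem ‹_› hmem) with h1 | h1
    · rcases (Ideal.IsPrime.mem_or_mem ‹_› h1) with h2 | h2
      · exact hf1 h2
      · exact hf2 h2
    · exact hf3 h1
  · intro B _ _ _
    refine ⟨H1 _ (dvd_mul_of_dvd_left (dvd_mul_right f1 f2) f3) B, ?_⟩
    rw [← Ideal.map_ofList]
    exact le_antisymm (H2 _ (dvd_mul_of_dvd_left (dvd_mul_left f2 f1) f3) B)
      (H3 _ (dvd_mul_left f3 (f1 * f2)) B)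

end Groth.Agent.RegSpread
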