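import Mathlib
import Groth.Prelude.Def_DRing2
import Groth.Agent.Lib.ExtendScalars_helper2

/-!
# Flat base change for `Tor` of modules (helper9)
-/

set_option autoImplicit false
universe u
open CategoryTheory CategoryTheory.Limits MonoidalCategory TensorProduct
open Groth.Agent.ExtendScalarsLib

namespace TorBC9

variable (A A' : Type u) [CommRing A] [CommRing A'] [Algebra A A']

/-- extension of scalars along `A → A'` -/
noncomputable abbrev E : ModuleCat.{u} A ⥤ ModuleCat.{u} A' :=
  ModuleCat.extendScalars.{u, u, u} (algebraMap A A')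

instance : (E A A').Additive :=
  (ModuleCat.extendRestrictScalarsAdj (algebraMap A A')).left_adjoint_additive

/-- the monoidal comparison on complexes -/
noncomputable def cxIso (P : ModuleCat.{u} A) (C : ChainComplex (ModuleCat.{u} A) ℕ) :
    (((tensoringLeft (ModuleCat.{u} A')).obj ((E A A').obj P)).mapHomologicalComplex _).obj
        (((E A A').mapHomologicalComplex _).obj C) ≅
      ((E A A').mapHomologicalComplex _).obj
        ((((tensoringLeft (ModuleCat.{u} A)).obj P).mapHomologicalComplex _).obj C) :=
  HomologicalComplex.Hom.isoOfComponents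
    (fun i => Functor.Monoidal.μIso (E A A') P (C.X i))
    (fun i j _ => (Functor.LaxMonoidal.μ_natural_right (E A A') P (C.d i j)).symm)

noncomputable instance : (E A A').PreservesProjectiveObjects :=
  Functor.preservesProjectiveObjects_of_adjunction_of_preservesEpimorphisms
    (ModuleCat.extendRestrictScalarsAdj (algebraMap A A'))

variable [Module.Flat A A']

noncomputable instance : PreservesFiniteLimits (E A A') :=
  ModuleCat.preservesFiniteLimits_extendScalars_of_flat
    (RingHom.flat_algebraMap_iff.mpr inferInstance)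

noncomputable instance : (E A A').PreservesHomology := Functor.preservesHomologyOfExact _

/-- the key iso in `ModuleCat A'` -/
noncomputable def torIso (P Q : ModuleCat.{u} A) (n : ℕ) :
    ((Tor (ModuleCat.{u} A') n).obj ((E A A').obj P)).obj ((E A A').obj Q) ≅
      (E A A').obj (((Tor (ModuleCat.{u} A) n).obj P).obj Q) := by
  let R := ProjectiveResolution.of Q
  let R' := (E A A').mapProjectiveResolution R
  let i1 := R'.isoLeftDerivedObj ((tensoringLeft (ModuleCat.{u} A')).obj ((E A A').obj P)) n
  let i2 := R.isoLeftDerivedObj ((tensoringLeft (ModuleCat.{u} A)).obj P) n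
  let K := (((tensoringLeft (ModuleCat.{u} A)).obj P).mapHomologicalComplex _).obj R.complex
  let isoCx : (((tensoringLeft (ModuleCat.{u} A')).obj ((E A A').obj P)).mapHomologicalComplex _).obj
      R'.complex ≅ ((E A A').mapHomologicalComplex _).obj K := cxIso A A' P R.complex
  let i3 := (HomologicalComplex.homologyFunctor (ModuleCat.{u} A') _ n).mapIso isoCx
  let i4 : (((E A A').mapHomologicalComplex _).obj K).homology n ≅ (E A A').obj (K.homology n) :=
    (K.sc n).mapHomologyIso (E A A')
  exact i1 ≪≫ i3 ≪≫ i4 ≪≫ (E A A').mapIso i2.symm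

theorem main (P Q : Type u) [AddCommGroup P] [Module A P] [AddCommGroup Q] [Module A Q] (n : ℕ) :
    Nonempty (TensorProduct A A' (DRing.Tor A n P Q) ≃ₗ[A']
      DRing.Tor A' n (TensorProduct A A' P) (TensorProduct A A' Q)) := by
  let iP : (E A A').obj (ModuleCat.of A P) ≅ ModuleCat.of A' (A' ⊗[A] P) :=
    (extendScalarsEquivTensor (S := A') (ModuleCat.of A P)).toModuleIso
  let iQ : (E A A').obj (ModuleCat.of A Q) ≅ ModuleCat.of A' (A' ⊗[A] Q) :=
    (extendScalarsEquivTensor (S := A') (ModuleCat.of A Q)).toModuleIso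
  let j : ((Tor (ModuleCat.{u} A') n).obj ((E A A').obj (ModuleCat.of A P))).obj
        ((E A A').obj (ModuleCat.of A Q)) ≅
      ((Tor (ModuleCat.{u} A') n).obj (ModuleCat.of A' (A' ⊗[A] P))).obj
        (ModuleCat.of A' (A' ⊗[A] Q)) :=
    ((Tor (ModuleCat.{u} A') n).mapIso iP).app _ ≪≫
      ((Tor (ModuleCat.{u} A') n).obj _).mapIso iQ
  let t := torIso A A' (ModuleCat.of A P) (ModuleCat.of A Q) n
  exact ⟨(extendScalarsEquivTensor (S := A')
    (((Tor (ModuleCat.{u} A) n).obj (ModuleCat.of A P)).obj (ModuleCat.of A Q))).symm ≪≫ₗ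
      t.symm.toLinearEquiv ≪≫ₗ j.toLinearEquiv⟩

end TorBC9
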