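import Groth.Agent.Lib.TorBal_helper5

/-!
# Balancing of `Tor` as a bifunctor (helper5)

Naturality of the balancing isomorphism of `TorBal_helper5` in the first variable, giving an
isomorphism of bifunctors `Tor_n ≅ (Tor_n).flip`  (S6316).
-/

set_option autoImplicit false
set_option maxHeartbeats 400000
universe u
open CategoryTheory CategoryTheory.Limits MonoidalCategory TensorProduct

namespace Groth.Agent.TorBal

open Groth.Agent.TorLES Groth.Agent.TorNat Groth.Agent.TorAR Groth.Agent.TorColim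
  Groth.Agent.HomologyColim

variable {R : Type u} [CommRing R]

section deltaNat

/-- the morphism of short complexes of complexes induced by `σ : S ⟶ S'`. -/
noncomputable def scCXMapL {S S' : ShortComplex (ModuleCat.{u} R)} (σ : S ⟶ S')
    (C : ChainComplex (ModuleCat.{u} R) ℕ) : scCX S C ⟶ scCX S' C where
  τ₁ := cxMap σ.τ₁ C
  τ₂ := cxMap σ.τ₂ C
  τ₃ := cxMap σ.τ₃ C
  comm₁₂ := by
    apply HomologicalComplex.hom_ext
    intro i
    change σ.τ₁ ▷ C.X i ≫ S'.f ▷ C.X i = S.f ▷ C.X i ≫ σ.τ₂ ▷ C.X i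
    rw [← comp_whiskerRight, ← comp_whiskerRight, σ.comm₁₂]
  comm₂₃ := by
    apply HomologicalComplex.hom_ext
    intro i
    change σ.τ₂ ▷ C.X i ≫ S'.g ▷ C.X i = S.g ▷ C.X i ≫ σ.τ₃ ▷ C.X i
    rw [← comp_whiskerRight, ← comp_whiskerRight, σ.comm₂₃]

variable {S S' : ShortComplex (ModuleCat.{u} R)} (σ : S ⟶ S') (hS : S.ShortExact)
  (hS' : S'.ShortExact)

lemma δH_naturality_left (n : ℕ) (Y : ModuleCat.{u} R) :
    δH S hS n Y ≫ HomologicalComplex.homologyMap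
        (cxMap σ.τ₁ (ProjectiveResolution.of Y).complex) n =
      HomologicalComplex.homologyMap (cxMap σ.τ₃ (ProjectiveResolution.of Y).complex) (n + 1) ≫
        δH S' hS' n Y :=
  HomologicalComplex.HomologySequence.δ_naturality
    (scCXMapL σ (ProjectiveResolution.of Y).complex) (sE S hS Y) (sE S' hS' Y) (n + 1) n (by simp)

lemma torδ_naturality_left (n : ℕ) (Y : ModuleCat.{u} R) :
    ((Tor (ModuleCat.{u} R) (n + 1)).map σ.τ₃).app Y ≫ torδ S' hS' n Y =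
      torδ S hS n Y ≫ ((Tor (ModuleCat.{u} R) n).map σ.τ₁).app Y := by
  rw [tor_map_app_eq, tor_map_app_eq]
  unfold torδ
  simp only [Category.assoc, Iso.inv_hom_id_assoc]
  rw [reassoc_of% (δH_naturality_left σ hS hS' n Y)]

lemma torδNat_naturality_left (n : ℕ) :
    (Tor (ModuleCat.{u} R) (n + 1)).map σ.τ₃ ≫ torδNat S' hS' n =
      torδNat S hS n ≫ (Tor (ModuleCat.{u} R) n).map σ.τ₁ := by
  ext Y : 2
  exact torδ_naturality_left σ hS hS' n Y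

end deltaNat


lemma comp_sq {C : Type*} [Category C] {A₁ A₂ A₃ B₁ B₂ B₃ : C} (a₁ : A₁ ⟶ B₁) (a₂ : A₂ ⟶ B₂)
    (a₃ : A₃ ⟶ B₃) (f : A₁ ⟶ A₂) (f' : A₂ ⟶ A₃) (g : B₁ ⟶ B₂) (g' : B₂ ⟶ B₃)
    (h1 : a₁ ≫ g = f ≫ a₂) (h2 : a₂ ≫ g' = f' ≫ a₃) : a₁ ≫ g ≫ g' = (f ≫ f') ≫ a₃ := by
  rw [reassoc_of% h1, h2, Category.assoc]

section kernelsNat

variable {Cc : Type*} [Category Cc]
variable {T₁ U₁ V₁ T₁' U₁' V₁' T₂ U₂ V₂ T₂' U₂' V₂' : Cc ⥤ ModuleCat.{u} R}

/-- naturality of `LeftEx.iso`. -/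
lemma LeftEx.iso_naturality (E₁ : LeftEx T₁ U₁ V₁) (E₁' : LeftEx T₁' U₁' V₁')
    (θU₁ : U₁ ≅ U₁') (θV₁ : V₁ ≅ V₁') (hc₁ : E₁.a ≫ θV₁.hom = θU₁.hom ≫ E₁'.a)
    (E₂ : LeftEx T₂ U₂ V₂) (E₂' : LeftEx T₂' U₂' V₂')
    (θU₂ : U₂ ≅ U₂') (θV₂ : V₂ ≅ V₂') (hc₂ : E₂.a ≫ θV₂.hom = θU₂.hom ≫ E₂'.a)
    (t : T₁ ⟶ T₂) (t' : T₁' ⟶ T₂') (uU : U₁ ⟶ U₂) (uU' : U₁' ⟶ U₂')
    (h1 : t ≫ E₂.δ = E₁.δ ≫ uU) (h2 : t' ≫ E₂'.δ = E₁'.δ ≫ uU')
    (h3 : uU ≫ θU₂.hom = θU₁.hom ≫ uU') :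
    t ≫ (LeftEx.iso E₂ E₂' θU₂ θV₂ hc₂).hom = (LeftEx.iso E₁ E₁' θU₁ θV₁ hc₁).hom ≫ t' := by
  apply LeftEx.hom_ext E₂'
  rw [Category.assoc, Category.assoc, LeftEx.iso_hom_δ, reassoc_of% h1, h3, h2,
    reassoc_of% (LeftEx.iso_hom_δ E₁ E₁' θU₁ θV₁ hc₁)]

end kernelsNat

/-- a morphism of flat resolutions over `f : M ⟶ M'`. -/
structure FlatRes.Hom {M M' : ModuleCat.{u} R} (D : FlatRes M) (D' : FlatRes M')
    (f : M ⟶ M') where
  /-- the chain map -/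
  φ : D.C ⟶ D'.C
  comm : φ.f 0 ≫ D'.ε = D.ε ≫ f

namespace FlatRes.Hom

variable {M M' : ModuleCat.{u} R} {D : FlatRes M} {D' : FlatRes M'} {f : M ⟶ M'}
  (g : FlatRes.Hom D D' f)

lemma φ_d_apply (i j : ℕ) (x : D.C.X i) : g.φ.f j (D.C.d i j x) = D'.C.d i j (g.φ.f i x) :=
  (congrArg (fun h => h.hom x) (g.φ.comm i j)).symm

/-- the induced map on syzygies. -/
noncomputable def Zmap (k : ℕ) : D.Z k ⟶ D'.Z k :=
  ModuleCat.ofHom ((g.φ.f k).hom.restrict (p := LinearMap.range (D.C.d (k + 1) k).hom)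
    (q := LinearMap.range (D'.C.d (k + 1) k).hom) (by
      rintro x ⟨y, rfl⟩
      exact ⟨g.φ.f (k + 1) y, (g.φ_d_apply (k + 1) k y).symm⟩))

lemma Zmap_ι (k : ℕ) : g.Zmap k ≫ D'.ι k = D.ι k ≫ g.φ.f k := by
  ext x
  rfl

lemma π_Zmap (k : ℕ) : D.π k ≫ g.Zmap k = g.φ.f (k + 1) ≫ D'.π k := by
  ext x
  apply D'.ι_injective k
  change g.φ.f k (D.C.d (k + 1) k x) = D'.C.d (k + 1) k (g.φ.f (k + 1) x)
  exact g.φ_d_apply (k + 1) k x

/-- the morphism of short exact sequences `S₀`. -/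
noncomputable def S₀map : D.S₀ ⟶ D'.S₀ where
  τ₁ := g.Zmap 0
  τ₂ := g.φ.f 0
  τ₃ := f
  comm₁₂ := g.Zmap_ι 0
  comm₂₃ := g.comm

/-- the morphism of short exact sequences `Ssucc k`. -/
noncomputable def Ssuccmap (k : ℕ) : D.Ssucc k ⟶ D'.Ssucc k where
  τ₁ := g.Zmap (k + 1)
  τ₂ := g.φ.f (k + 1)
  τ₃ := g.Zmap k
  comm₁₂ := g.Zmap_ι (k + 1)
  comm₂₃ := (g.π_Zmap k).symm

/-- the natural transformation `- ⊗ C ⟶ - ⊗ C'`. -/
noncomputable def tensCxMap : tensCx D.C ⟶ tensCx D'.C where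
  app N := cxMapR N g.φ
  naturality N N' h := by
    apply HomologicalComplex.hom_ext
    intro i
    change h ▷ D.C.X i ≫ N' ◁ g.φ.f i = N ◁ g.φ.f i ≫ h ▷ D'.C.X i
    exact (whisker_exchange h (g.φ.f i)).symm

/-- the induced map on homology functors. -/
noncomputable def Hmap (n : ℕ) :
    tensCx D.C ⋙ HomologicalComplex.homologyFunctor (ModuleCat.{u} R) _ n ⟶
      tensCx D'.C ⋙ HomologicalComplex.homologyFunctor (ModuleCat.{u} R) _ n :=
  Functor.whiskerRight g.tensCxMap _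

lemma Hmap_app (n : ℕ) (N : ModuleCat.{u} R) :
    (g.Hmap n).app N = HomologicalComplex.homologyMap (cxMapR N g.φ) n := rfl

lemma Hmap_κNat (k : ℕ) :
    g.Hmap (k + 1) ≫ D'.κNat k = D.κNat k ≫ (tensoringRight (ModuleCat.{u} R)).map (g.Zmap k) := by
  ext N : 2
  change HomologicalComplex.homologyMap (cxMapR N g.φ) (k + 1) ≫
      κ (CX N D'.C) (k + 1) (N ◁ D'.π k) (D'.cx_d_π N k) =
    κ (CX N D.C) (k + 1) (N ◁ D.π k) (D.cx_d_π N k) ≫ N ◁ g.Zmap k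
  apply κ_naturality
  change N ◁ g.φ.f (k + 1) ≫ N ◁ D'.π k = N ◁ D.π k ≫ N ◁ g.Zmap k
  rw [← MonoidalCategory.whiskerLeft_comp, ← MonoidalCategory.whiskerLeft_comp, g.π_Zmap]

lemma Hmap_κ₀Nat :
    g.Hmap 0 ≫ D'.κ₀Nat = D.κ₀Nat ≫ (tensoringRight (ModuleCat.{u} R)).map f := by
  ext N : 2
  change HomologicalComplex.homologyMap (cxMapR N g.φ) 0 ≫
      κ (CX N D'.C) 0 (N ◁ D'.ε) (D'.cx_d_ε N) =
    κ (CX N D.C) 0 (N ◁ D.ε) (D.cx_d_ε N) ≫ N ◁ f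
  apply κ_naturality
  change N ◁ g.φ.f 0 ≫ N ◁ D'.ε = N ◁ D.ε ≫ N ◁ f
  rw [← MonoidalCategory.whiskerLeft_comp, ← MonoidalCategory.whiskerLeft_comp, g.comm]

lemma base₀_naturality :
    (Tor (ModuleCat.{u} R) 1).map f ≫ D'.base₀.hom = D.base₀.hom ≫ g.Hmap 1 :=
  LeftEx.iso_naturality _ _ _ _ _ _ _ _ _ _ _ _
    ((Tor (ModuleCat.{u} R) 0).map (g.Zmap 0))
    ((tensoringRight (ModuleCat.{u} R)).map (g.Zmap 0))
    (torδNat_naturality_left g.S₀map D.S₀_shortExact D'.S₀_shortExact 0)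
    (g.Hmap_κNat 0) (tor0Iso_naturality (g.Zmap 0))

lemma baseSucc_naturality (k : ℕ) :
    (Tor (ModuleCat.{u} R) 1).map (g.Zmap k) ≫ (D'.baseSucc k).hom =
      (D.baseSucc k).hom ≫ g.Hmap (k + 2) :=
  LeftEx.iso_naturality _ _ _ _ _ _ _ _ _ _ _ _
    ((Tor (ModuleCat.{u} R) 0).map (g.Zmap (k + 1)))
    ((tensoringRight (ModuleCat.{u} R)).map (g.Zmap (k + 1)))
    (torδNat_naturality_left (g.Ssuccmap k) (D.Ssucc_shortExact k) (D'.Ssucc_shortExact k) 0)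
    (g.Hmap_κNat (k + 1)) (tor0Iso_naturality (g.Zmap (k + 1)))

lemma sh_naturality (k n : ℕ) :
    (Tor (ModuleCat.{u} R) (n + 2)).map (g.Zmap k) ≫
        (shift (D'.Ssucc k) (D'.Ssucc_shortExact k) (D'.flat (k + 1)) n).hom =
      (shift (D.Ssucc k) (D.Ssucc_shortExact k) (D.flat (k + 1)) n).hom ≫
        (Tor (ModuleCat.{u} R) (n + 1)).map (g.Zmap (k + 1)) :=
  torδNat_naturality_left (g.Ssuccmap k) (D.Ssucc_shortExact k) (D'.Ssucc_shortExact k) (n + 1)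

lemma sh₀_naturality (n : ℕ) :
    (Tor (ModuleCat.{u} R) (n + 2)).map f ≫
        (shift D'.S₀ D'.S₀_shortExact (D'.flat 0) n).hom =
      (shift D.S₀ D.S₀_shortExact (D.flat 0) n).hom ≫
        (Tor (ModuleCat.{u} R) (n + 1)).map (g.Zmap 0) :=
  torδNat_naturality_left g.S₀map D.S₀_shortExact D'.S₀_shortExact (n + 1)

lemma chain_naturality : ∀ (n k j : ℕ) (h : j = k + n),
    (Tor (ModuleCat.{u} R) (n + 1)).map (g.Zmap k) ≫ (D'.chain n k j h).hom =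
      (D.chain n k j h).hom ≫ (Tor (ModuleCat.{u} R) 1).map (g.Zmap j)
  | 0, k, j, h => by
    obtain rfl : j = k := h
    change (Tor (ModuleCat.{u} R) 1).map (g.Zmap j) ≫ 𝟙 _ =
      𝟙 _ ≫ (Tor (ModuleCat.{u} R) 1).map (g.Zmap j)
    rw [Category.comp_id, Category.id_comp]
  | n + 1, k, j, h =>
    comp_sq _ _ _ _ _ _ _ (g.sh_naturality k n) (chain_naturality n (k + 1) j (by omega))

lemma balIso_naturality : ∀ n : ℕ,
    (Tor (ModuleCat.{u} R) n).map f ≫ (D'.balIso n).hom = (D.balIso n).hom ≫ g.Hmap n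
  | 0 => by
    have h : (tensoringRight (ModuleCat.{u} R)).map f ≫ inv D'.κ₀Nat =
        inv D.κ₀Nat ≫ g.Hmap 0 := by
      rw [IsIso.eq_inv_comp, ← Category.assoc, IsIso.comp_inv_eq]
      exact g.Hmap_κ₀Nat.symm
    exact comp_sq _ _ _ _ _ _ _ (tor0Iso_naturality f) h
  | 1 => g.base₀_naturality
  | n + 2 =>
    comp_sq _ _ _ _ _ _ _ (g.sh₀_naturality n)
      (comp_sq _ _ _ _ _ _ _ (g.chain_naturality n 0 n (by omega)) (g.baseSucc_naturality n))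

end FlatRes.Hom


section bifunctor

/-- the morphism of flat resolutions induced by `f` on the chosen projective resolutions. -/
noncomputable def projHom {M M' : ModuleCat.{u} R} (f : M ⟶ M') :
    FlatRes.Hom (FlatRes.ofProjectiveResolution (ProjectiveResolution.of M))
      (FlatRes.ofProjectiveResolution (ProjectiveResolution.of M')) f where
  φ := ProjectiveResolution.lift f _ _
  comm := ProjectiveResolution.lift_commutes_zero f _ _

/-- `Tor_n(M, -) ≅ Tor_n(-, M)`. -/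
noncomputable def torSymm (M : ModuleCat.{u} R) (n : ℕ) :
    (Tor (ModuleCat.{u} R) n).obj M ≅ (Tor (ModuleCat.{u} R) n).flip.obj M :=
  (FlatRes.ofProjectiveResolution (ProjectiveResolution.of M)).balIso n ≪≫
    (torFlipIso M (ProjectiveResolution.of M) n).symm

lemma torSymm_naturality {M M' : ModuleCat.{u} R} (f : M ⟶ M') (n : ℕ) :
    (Tor (ModuleCat.{u} R) n).map f ≫ (torSymm M' n).hom =
      (torSymm M n).hom ≫ (Tor (ModuleCat.{u} R) n).flip.map f := by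
  have h1 := (projHom f).balIso_naturality n
  have h2 : (projHom f).Hmap n ≫ (torFlipIso M' (ProjectiveResolution.of M') n).inv =
      (torFlipIso M (ProjectiveResolution.of M) n).inv ≫
        (Tor (ModuleCat.{u} R) n).flip.map f := by
    ext N : 2
    exact (ProjectiveResolution.isoLeftDerivedObj_inv_naturality f _ _ _
      (ProjectiveResolution.lift_commutes_zero f _ _)
      ((tensoringLeft (ModuleCat.{u} R)).obj N) n).symm
  exact comp_sq _ _ _ _ _ _ _ h1 h2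

/-- S6316: `Tor_n` is symmetric as a bifunctor. -/
theorem tor_iso_flip (n : ℕ) :
    Nonempty (Tor (ModuleCat.{u} R) n ≅ (Tor (ModuleCat.{u} R) n).flip) :=
  ⟨NatIso.ofComponents (fun M => torSymm M n) (fun f => torSymm_naturality f n)⟩

/-- vanishing of `Tor` is symmetric. -/
theorem torZero_symm (n : ℕ) (X Y : Type u) [AddCommGroup X] [Module R X] [AddCommGroup Y]
    [Module R Y] : TorZero R n X Y ↔ TorZero R n Y X :=
  ⟨fun h => h.of_iso ((torSymm (ModuleCat.of R Y) n).app (ModuleCat.of R X)),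
    fun h => h.of_iso ((torSymm (ModuleCat.of R X) n).app (ModuleCat.of R Y))⟩

end bifunctor

end Groth.Agent.TorBal
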