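import Mathlib
import Groth.Prelude.Def_CAlg
import Groth.Prelude.Def_DRing2
import Groth.Agent.Lib.CM_helper5
import Groth.Agent.Lib.TorBC_helper9
import Groth.Agent.Lib.TorBal2_helper5
import Groth.Agent.Lib.TorPrimes_helper5
import Groth.Agent.Lib.TorKoszul_helper5
import Groth.Agent.Lib.RegSpread_helper5

/-!
# Proper intersections in Cohen–Macaulay local rings: regularity and Tor-independence (helper2)

Ring-level input for S15825.
* `isWeaklyRegular_of_height`: in a CM local ring a sequence in the maximal ideal all of whose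
  containing primes have height at least its length is (weakly) regular.
* `torZero_quot_quot`: `Tor_{n+1}(A/(fs), A/(gs)) = 0` if `gs` is regular on `A` and on `A/(fs)`.
* `tor_subsingleton_of_local`: vanishing of `Tor` can be checked after localising at primes.
* `tor_quot_subsingleton`: the resulting local-to-global Tor-independence statement.
* `main_alg_len`: helper5's spreading-out lemma, remembering the length.
-/

set_option autoImplicit false
set_option maxHeartbeats 400000
universe u

open CategoryTheory CategoryTheory.Limits MonoidalCategory TensorProduct RingTheory.Sequence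
open scoped Pointwise

namespace Groth.Agent.Lib.CMInter

open Groth.Agent.TorLES Groth.Agent.TorBal Groth.Agent.TorPrimes

section Dim

theorem krullDim_zeroLocus_add_le {A : Type*} [CommRing A] (K : Ideal A) (n : ℕ)
    (h : ∀ q : PrimeSpectrum A, K ≤ q.asIdeal → (n : ℕ∞) ≤ q.asIdeal.height) :
    Order.krullDim (PrimeSpectrum.zeroLocus (K : Set A)) + (n : WithBot ℕ∞) ≤ ringKrullDim A := by
  rcases isEmpty_or_nonempty (PrimeSpectrum.zeroLocus (K : Set A)) with he | hne
  · rw [Order.krullDim_eq_bot, WithBot.bot_add]; exact bot_le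
  · haveI : Nonempty (PrimeSpectrum A) :=
      ⟨(Classical.arbitrary (PrimeSpectrum.zeroLocus (K : Set A))).1⟩
    rw [Order.krullDim_eq_iSup_coheight_of_nonempty, ringKrullDim,
      Order.krullDim_eq_iSup_height_add_coheight_of_nonempty]
    have hn : ((n : ℕ) : WithBot ℕ∞) = (((n : ℕ) : ℕ∞) : WithBot ℕ∞) := rfl
    rw [hn, ← WithBot.coe_add, WithBot.coe_le_coe, ENat.iSup_add]
    refine iSup_le fun q => ?_
    refine le_trans ?_
      (le_iSup (fun a : PrimeSpectrum A => Order.height a + Order.coheight a) q.1)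
    rw [add_comm]
    refine add_le_add ?_ ?_
    · rw [← PrimeSpectrum.height_eq_orderHeight]
      exact h q.1 (fun x hx => q.2 hx)
    · exact Order.coheight_le_coheight_apply_of_strictMono Subtype.val
        (Subtype.strictMono_coe _) q

theorem isWeaklyRegular_of_height (A : Type u) [CommRing A] [IsLocalRing A] [IsNoetherianRing A]
    (hCM : LocCoh.IsCohenMacaulayModule A A) (xs : List A)
    (hmem : ∀ x ∈ xs, x ∈ IsLocalRing.maximalIdeal A)
    (h : ∀ q : PrimeSpectrum A, Ideal.ofList xs ≤ q.asIdeal →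
      (xs.length : ℕ∞) ≤ q.asIdeal.height) :
    IsWeaklyRegular A xs := by
  apply (Groth.Agent.DepthLib.isCM_list xs A hCM hmem).1.2
  apply le_antisymm
  · have e : (A ⧸ (Ideal.ofList xs • (⊤ : Submodule A A))) ≃ₗ[A] (A ⧸ Ideal.ofList xs) :=
      Submodule.quotEquivOfEq _ _ (by rw [smul_eq_mul, Ideal.mul_top])
    rw [Module.supportDim_self_eq_ringKrullDim, Module.supportDim_eq_of_equiv e,
      Module.supportDim_quotient_eq_ringKrullDim, ringKrullDim_quotient]
    exact krullDim_zeroLocus_add_le _ _ h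
  · exact Groth.Agent.DepthLib.supportDim_le_supportDim_quot_ofList_add_length xs A hmem

theorem isWeaklyRegular_of_height_loc {R : Type u} [CommRing R] (p : Ideal R) [p.IsPrime]
    (S : Type u) [CommRing S] [Algebra R S] [IsLocalization.AtPrime S p]
    [hCM : LocCoh.IsCohenMacaulayLocalRing S] (K : Ideal R) (hKp : K ≤ p)
    (xs : List S) (hK : K.map (algebraMap R S) = Ideal.ofList xs)
    (hht : ∀ q : Ideal R, q.IsPrime → K ≤ q → (xs.length : ℕ∞) ≤ q.height) :
    IsWeaklyRegular S xs := by
  apply isWeaklyRegular_of_height S hCM.supportDim_eq_depth xs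
  · intro x hx
    have h1 : x ∈ Ideal.ofList xs := Ideal.subset_span hx
    rw [← hK] at h1
    rw [← IsLocalization.AtPrime.map_eq_maximalIdeal p S]
    exact Ideal.map_mono hKp h1
  · intro Q hQ
    rw [← IsLocalization.height_under p.primeCompl Q.asIdeal]
    refine hht _ inferInstance ?_
    rw [← hK, Ideal.map_le_iff_le_comap] at hQ
    exact hQ

end Dim

section TorReg

variable {A : Type u} [CommRing A]

lemma rTensor_lsmul (Q Y : Type u) [AddCommGroup Q] [Module A Q] [AddCommGroup Y] [Module A Y]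
    (r : A) : (LinearMap.lsmul A Q r).rTensor Y = LinearMap.lsmul A (Q ⊗[A] Y) r := by
  apply TensorProduct.ext'
  intro q y
  simp [TensorProduct.smul_tmul']

lemma torStep (Q Y : Type u) [AddCommGroup Q] [Module A Q] [AddCommGroup Y] [Module A Y] (r : A)
    (hr : IsSMulRegular Q r) (hrY : IsSMulRegular (Q ⊗[A] Y) r)
    (h : ∀ n, TorZero A (n + 1) Q Y) : ∀ n, TorZero A (n + 1) (QuotSMulTop r Q) Y := by
  have hinj : Function.Injective (LinearMap.lsmul A Q r) := hr
  have hex := Groth.Agent.TorKoszul.exact_lsmul_mkQ Q r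
  have hsurj : Function.Surjective (Submodule.mkQ (r • ⊤ : Submodule A Q)) :=
    Submodule.mkQ_surjective _
  intro n
  cases n with
  | zero =>
    refine torZero_one_right (LinearMap.lsmul A Q r) (Submodule.mkQ _) Y hex hsurj (h 0) ?_
    rw [rTensor_lsmul]
    exact hrY
  | succ m =>
    exact torZero_succ_right (LinearMap.lsmul A Q r) (Submodule.mkQ _) Y hinj hex hsurj (m + 1)
      (h (m + 1)) (h m)

theorem torZero_quot_of_regular (Y : Type u) [AddCommGroup Y] [Module A Y] (fs : List A) :
    ∀ (Q : Type u) [AddCommGroup Q] [Module A Q], (∀ n, TorZero A (n + 1) Q Y) →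
      IsWeaklyRegular Q fs → IsWeaklyRegular (Q ⊗[A] Y) fs →
      ∀ n, TorZero A (n + 1) (Q ⧸ (Ideal.ofList fs • ⊤ : Submodule A Q)) Y := by
  induction fs with
  | nil =>
    intro Q _ _ h _ _ n
    exact torZero_of_linearEquiv (Submodule.quotEquivOfEqBot _ (by
      rw [Ideal.ofList_nil, Submodule.bot_smul])).symm Y (n + 1) (h n)
  | cons r rs ih =>
    intro Q _ _ h hreg hregY n
    rw [isWeaklyRegular_cons_iff] at hreg hregY
    have h1 := torStep Q Y r hreg.1 hregY.1 h
    have e := QuotSMulTop.quotSMulTopTensorEquivQuotSMulTop r Y Q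
    have hregY' : IsWeaklyRegular (QuotSMulTop r Q ⊗[A] Y) rs :=
      (e.isWeaklyRegular_congr rs).mpr hregY.2
    have h2 := ih (QuotSMulTop r Q) h1 hreg.2 hregY' n
    exact torZero_of_linearEquiv
      (Submodule.quotOfListConsSMulTopEquivQuotSMulTopInner Q r rs).symm Y (n + 1) h2

theorem torZero_quot_quot (fs gs : List A) (hg : IsWeaklyRegular A gs)
    (hfg : IsWeaklyRegular (A ⧸ Ideal.ofList fs) gs) (n : ℕ) :
    TorZero A (n + 1) (A ⧸ Ideal.ofList fs) (A ⧸ Ideal.ofList gs) := by
  have hY : IsWeaklyRegular (A ⊗[A] (A ⧸ Ideal.ofList fs)) gs :=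
    ((TensorProduct.lid A (A ⧸ Ideal.ofList fs)).isWeaklyRegular_congr gs).mpr hfg
  have h := torZero_quot_of_regular (A ⧸ Ideal.ofList fs) gs A
    (fun m => torZero_succ_of_flat_left (A ⧸ Ideal.ofList fs) A m) hg hY n
  have e : (A ⧸ (Ideal.ofList gs • ⊤ : Submodule A A)) ≃ₗ[A] (A ⧸ Ideal.ofList gs) :=
    Submodule.quotEquivOfEq _ _ (by rw [smul_eq_mul, Ideal.mul_top])
  have h2 := torZero_of_linearEquiv e (A ⧸ Ideal.ofList fs) (n + 1) h
  exact (torZero_symm (n + 1) _ _).mp h2

end TorReg

section TorLoc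

theorem tor_subsingleton_of_local (R : Type u) [CommRing R] (M N : Type u) [AddCommGroup M]
    [Module R M] [AddCommGroup N] [Module R N] (n : ℕ)
    (h : ∀ (p : Ideal R) [p.IsPrime], ∃ (S : Type u) (_ : CommRing S) (_ : Algebra R S),
      IsLocalization.AtPrime S p ∧ Subsingleton (DRing.Tor S n (S ⊗[R] M) (S ⊗[R] N))) :
    Subsingleton (DRing.Tor R n M N) := by
  rw [← Module.support_eq_empty_iff (R := R), Set.eq_empty_iff_forall_notMem]
  intro p
  rw [Module.notMem_support_iff]
  obtain ⟨S, _, _, hS, hsub⟩ := h p.asIdeal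
  haveI := hS
  haveI := hsub
  haveI : Module.Flat R S := IsLocalization.flat S p.asIdeal.primeCompl
  obtain ⟨E⟩ := TorBC9.main R S M N n
  haveI : Subsingleton (S ⊗[R] (DRing.Tor R n M N)) := E.toEquiv.subsingleton
  haveI : IsLocalizedModule p.asIdeal.primeCompl (TensorProduct.mk R S (DRing.Tor R n M N) 1) :=
    (isLocalizedModule_iff_isBaseChange p.asIdeal.primeCompl S _).mpr
      (TensorProduct.isBaseChange R (DRing.Tor R n M N) S)
  exact (IsLocalizedModule.iso p.asIdeal.primeCompl
    (TensorProduct.mk R S (DRing.Tor R n M N) 1)).toEquiv.subsingleton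

/-- `S/K ≃ S ⊗ R/I` when `K = I S`. -/
noncomputable def quotEquivTensor {R : Type u} [CommRing R] (S : Type u) [CommRing S] [Algebra R S]
    (I : Ideal R) (K : Ideal S) (hK : I.map (algebraMap R S) = K) :
    (S ⧸ K) ≃ₗ[S] S ⊗[R] (R ⧸ I) :=
  (Submodule.quotEquivOfEq K (I.map (algebraMap R S)) hK.symm) ≪≫ₗ
    (Algebra.TensorProduct.quotIdealMapEquivTensorQuot S I).toLinearEquiv

theorem subsingleton_tensor_quot {R : Type u} [CommRing R] (p : Ideal R) [p.IsPrime]
    (S : Type u) [CommRing S] [Algebra R S] [IsLocalization.AtPrime S p] (I : Ideal R)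
    (hI : ¬ I ≤ p) : Subsingleton (S ⊗[R] (R ⧸ I)) := by
  obtain ⟨a, haI, hap⟩ := SetLike.not_le_iff_exists.mp hI
  have hmap : I.map (algebraMap R S) = ⊤ :=
    Ideal.eq_top_of_isUnit_mem _ (Ideal.mem_map_of_mem _ haI)
      (IsLocalization.map_units S (⟨a, hap⟩ : p.primeCompl))
  haveI : Subsingleton (S ⧸ (⊤ : Ideal S)) := Ideal.Quotient.subsingleton_iff.mpr rfl
  exact (quotEquivTensor S I ⊤ hmap).symm.toEquiv.subsingleton

theorem tor_quot_subsingleton (R : Type u) [CommRing R] (I J : Ideal R)
    (h : ∀ (p : Ideal R) [p.IsPrime], I ≤ p → J ≤ p →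
      ∃ (S : Type u) (_ : CommRing S) (_ : Algebra R S),
        IsLocalization.AtPrime S p ∧ ∃ fs gs : List S,
          I.map (algebraMap R S) = Ideal.ofList fs ∧ J.map (algebraMap R S) = Ideal.ofList gs ∧
          IsWeaklyRegular S gs ∧ IsWeaklyRegular S (fs ++ gs))
    (n : ℕ) : Subsingleton (DRing.Tor R (n + 1) (R ⧸ I) (R ⧸ J)) := by
  apply tor_subsingleton_of_local
  intro p _
  by_cases hI : I ≤ p
  · by_cases hJ : J ≤ p
    · obtain ⟨S, _, _, hS, fs, gs, hfs, hgs, hreg, hregfg⟩ := h p hI hJ
      refine ⟨S, inferInstance, inferInstance, hS, ?_⟩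
      have hfg : IsWeaklyRegular (S ⧸ Ideal.ofList fs) gs := by
        have h1 := ((isWeaklyRegular_append_iff S fs gs).mp hregfg).2
        have e : (S ⧸ (Ideal.ofList fs • (⊤ : Submodule S S))) ≃ₗ[S] (S ⧸ Ideal.ofList fs) :=
          Submodule.quotEquivOfEq _ _ (by rw [smul_eq_mul, Ideal.mul_top])
        exact (e.isWeaklyRegular_congr gs).mp h1
      have h0 := torZero_quot_quot fs gs hreg hfg n
      have h1 := torZero_of_linearEquiv (quotEquivTensor S I _ hfs) (S ⧸ Ideal.ofList gs) (n + 1) h0
      have h2 := (torZero_symm (n + 1) _ _).mp h1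
      have h3 := torZero_of_linearEquiv (quotEquivTensor S J _ hgs) (S ⊗[R] (R ⧸ I)) (n + 1) h2
      have h4 := (torZero_symm (n + 1) _ _).mp h3
      exact (torZero_iff_subsingleton _ _ _).mp h4
    · refine ⟨Localization.AtPrime p, inferInstance, inferInstance, inferInstance, ?_⟩
      haveI := subsingleton_tensor_quot p (Localization.AtPrime p) J hJ
      have h1 := torZero_succ_of_subsingleton (R := Localization.AtPrime p)
        (Localization.AtPrime p ⊗[R] (R ⧸ J)) (Localization.AtPrime p ⊗[R] (R ⧸ I)) n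
      exact (torZero_iff_subsingleton _ _ _).mp ((torZero_symm (n + 1) _ _).mp h1)
  · refine ⟨Localization.AtPrime p, inferInstance, inferInstance, inferInstance, ?_⟩
    haveI := subsingleton_tensor_quot p (Localization.AtPrime p) I hI
    have h1 := torZero_succ_of_subsingleton (R := Localization.AtPrime p)
      (Localization.AtPrime p ⊗[R] (R ⧸ I)) (Localization.AtPrime p ⊗[R] (R ⧸ J)) n
    exact (torZero_iff_subsingleton _ _ _).mp h1

end TorLoc

section Spread

open Groth.Agent.RegSpread

/-- helper5's `RegSpread.main_alg`, remembering the length of the spread-out sequence. -/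
theorem main_alg_len {A : Type u} [CommRing A] [IsNoetherianRing A] (p : Ideal A) [p.IsPrime]
    (S : Type u) [CommRing S] [Algebra A S] [IsLocalization.AtPrime S p] (I : Ideal A)
    (rs : List S) (hrs : IsWeaklyRegular S rs) (hI : I.map (algebraMap A S) = Ideal.ofList rs) :
    ∃ (f : A) (as : List A), f ∉ p ∧ as.length = rs.length ∧
      ∀ (B : Type u) [CommRing B] [Algebra A B] [IsLocalization.Away f B],
        IsWeaklyRegular B (as.map (algebraMap A B)) ∧
        I.map (algebraMap A B) = Ideal.ofList (as.map (algebraMap A B)) := by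
  have hch : ∀ r : S, ∃ a : A, ∃ u : Sˣ, algebraMap A S a = u * r := by
    intro r
    obtain ⟨⟨a, s⟩, hs⟩ := IsLocalization.surj p.primeCompl r
    refine ⟨a, (IsLocalization.map_units S s).unit, ?_⟩
    rw [IsUnit.unit_spec, mul_comm]; exact hs.symm
  choose α hα using hch
  obtain ⟨as, has⟩ : ∃ as : List A, as = rs.map α := ⟨_, rfl⟩
  have hF : List.Forall₂ (fun (r r' : S) => ∃ u : Sˣ, r' = (u : S) * r) rs
      (as.map (algebraMap A S)) := by
    rw [has, List.map_map, List.forall₂_map_right_iff, List.forall₂_same]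
    intro r _
    exact hα r
  obtain ⟨hid, hreg⟩ := unit_scale hF
  have hreg' := hreg S hrs
  have hI' : I.map (algebraMap A S) = (Ideal.ofList as).map (algebraMap A S) := by
    rw [hI, Ideal.map_ofList, hid]
  obtain ⟨f1, hf1, H1⟩ := spread p S as hreg'
  obtain ⟨f2, hf2, H2⟩ := spread_ideal_le p S I (Ideal.ofList as)
    (IsNoetherian.noetherian I) hI'.le
  obtain ⟨f3, hf3, H3⟩ := spread_ideal_le p S (Ideal.ofList as) I
    (IsNoetherian.noetherian _) hI'.ge
  refine ⟨f1 * f2 * f3, as, fun hmem => ?_, by rw [has, List.length_map], ?_⟩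
  · rcases (Ideal.IsPrime.mem_or_mem ‹_› hmem) with h1 | h1
    · rcases (Ideal.IsPrime.mem_or_mem ‹_› h1) with h2 | h2
      · exact hf1 h2
      · exact hf2 h2
    · exact hf3 h1
  · intro B _ _ _
    refine ⟨H1 _ (dvd_mul_of_dvd_left (dvd_mul_right f1 f2) f3) B, ?_⟩
    rw [← Ideal.map_ofList]
    exact le_antisymm (H2 _ (dvd_mul_of_dvd_left (dvd_mul_left f2 f1) f3) B)
      (H3 _ (dvd_mul_left f3 (f1 * f2)) B)

end Spread

/-- A surjective ring map `φ : R → B` identifies `R/ker φ` with `B` as `R`-modules. -/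
noncomputable def quotKerEquivToModule {R B : Type u} [CommRing R] [CommRing B] (φ : R →+* B)
    (hφ : Function.Surjective φ) :
    letI := φ.toModule
    (R ⧸ RingHom.ker φ) ≃ₗ[R] B :=
  letI := φ.toModule
  { (RingHom.quotientKerEquivOfSurjective hφ).toAddEquiv with
    map_smul' := fun r x => by
      obtain ⟨a, rfl⟩ := Ideal.Quotient.mk_surjective x
      change (RingHom.quotientKerEquivOfSurjective hφ) (r • Ideal.Quotient.mk _ a) =
        φ r * (RingHom.quotientKerEquivOfSurjective hφ) (Ideal.Quotient.mk _ a)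
      have h1 : r • Ideal.Quotient.mk (RingHom.ker φ) a = Ideal.Quotient.mk _ (r * a) := rfl
      rw [h1, RingHom.quotientKerEquivOfSurjective_apply_mk,
        RingHom.quotientKerEquivOfSurjective_apply_mk, map_mul] }

end Groth.Agent.Lib.CMInter
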