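import Mathlib
import Groth.Prelude
import Groth.Agent.Lib.Hartogs_helper5

/-!
# Generizations and primes of the local rings of a scheme; locally factorial schemes (helper5)

General (non-integral) versions of the `genPrime` lemmas of `CDivUFD_helper5`, and the equivalence
"every codimension one integral closed subscheme is regularly immersed ↔ locally factorial".
-/

universe u

open CategoryTheory IsLocalRing AlgebraicGeometry TopologicalSpace Opposite

namespace Groth.Agent.StalkGen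

section Algebra

variable {A : Type*} [CommRing A]

/-- a Noetherian local ring whose maximal ideal is not a minimal prime has a prime of height one -/
theorem exists_height_one_prime [IsNoetherianRing A] [IsLocalRing A]
    (h : maximalIdeal A ∉ minimalPrimes A) : ∃ P : Ideal A, P.IsPrime ∧ P.height = 1 := by
  have hfin : (minimalPrimes A).Finite := minimalPrimes.finite_of_isNoetherianRing A
  have hnot : ¬ ((maximalIdeal A : Ideal A) : Set A) ⊆
      ⋃ p ∈ minimalPrimes A, (id p : Ideal A) := by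
    intro hsub
    obtain ⟨p, hp, hle⟩ := (Ideal.subset_union_prime_finite hfin (f := id) 0 0
      (fun _ h _ _ => h.1.1)).1 hsub
    have hpp : p.IsPrime := hp.1.1
    have hpe : p = maximalIdeal A := le_antisymm (IsLocalRing.le_maximalIdeal hpp.ne_top) hle
    exact h (hpe ▸ hp)
  rw [Set.not_subset] at hnot
  obtain ⟨a, haM, hanot⟩ := hnot
  have hle : Ideal.span {a} ≤ maximalIdeal A :=
    Ideal.span_le.mpr (Set.singleton_subset_iff.mpr haM)
  obtain ⟨P, hPmin, hPle⟩ := Ideal.exists_minimalPrimes_le hle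
  haveI hPp : P.IsPrime := hPmin.1.1
  refine ⟨P, hPp,
    le_antisymm (Ideal.height_le_one_of_isPrincipal_of_mem_minimalPrimes _ P hPmin) ?_⟩
  rw [Order.one_le_iff_ne_zero, Ne, Ideal.height_eq_zero_iff]
  intro hmin
  apply hanot
  simp only [Set.mem_iUnion]
  exact ⟨P, hmin, hPmin.1.2 (Ideal.subset_span rfl)⟩

/-- a Noetherian local ring with a prime ideal generated by a non-zero-divisor is a domain -/
theorem isDomain_of_prime_span [IsNoetherianRing A] [IsLocalRing A] (P : Ideal A)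
    [hP : P.IsPrime] (t : A) (ht : t ∈ nonZeroDivisors A) (hPt : P = Ideal.span {t}) :
    IsDomain A := by
  obtain ⟨Q, hQmin, hQP⟩ := Ideal.exists_minimalPrimes_le (bot_le : (⊥ : Ideal A) ≤ P)
  haveI hQp : Q.IsPrime := hQmin.1.1
  have htQ : t ∉ Q := fun htQ => notMem_nonZeroDivisors_of_mem_mem_minimalPrimes htQ hQmin ht
  have htP : t ∈ P := by
    rw [hPt]
    exact Ideal.subset_span rfl
  have hle : Q ≤ P • Q := by
    intro q hq
    have hqP : q ∈ Ideal.span {t} := by
      rw [← hPt]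
      exact hQP hq
    obtain ⟨b, rfl⟩ := Ideal.mem_span_singleton'.mp hqP
    have hb : b ∈ Q := (hQp.mem_or_mem hq).resolve_right htQ
    rw [mul_comm]
    show t • b ∈ P • Q
    exact Submodule.smul_mem_smul htP hb
  have hjac : P ≤ (⊥ : Ideal A).jacobson := by
    rw [IsLocalRing.jacobson_eq_maximalIdeal ⊥ bot_ne_top]
    exact IsLocalRing.le_maximalIdeal hP.ne_top
  have hQbot : Q = ⊥ :=
    Submodule.eq_bot_of_le_smul_of_le_jacobson_bot P Q (IsNoetherian.noetherian Q) hle hjac
  haveI : (⊥ : Ideal A).IsPrime := hQbot ▸ hQp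
  exact IsDomain.of_bot_isPrime A

/-- in a Noetherian ring, a prime which is both maximal and minimal is an isolated point of the
spectrum -/
theorem isOpen_singleton_of_isMax_of_isMin {R : Type*} [CommRing R] [IsNoetherianRing R]
    (x : PrimeSpectrum R) (h₁ : IsMax x) (h₂ : IsMin x) :
    IsOpen ({x} : Set (PrimeSpectrum R)) := by
  suffices {x} = (⋃ p ∈ { p : PrimeSpectrum R | IsMin p ∧ p ≠ x }, closure {p})ᶜ by
    rw [this, isOpen_compl_iff]
    refine Set.Finite.isClosed_biUnion ?_ (fun _ _ ↦ isClosed_closure)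
    exact (PrimeSpectrum.finite_setOfPred_isMin R).subset fun x h ↦ h.1
  ext p
  simp only [Set.mem_singleton_iff, ne_eq, Set.mem_ofPred_eq, Set.compl_iUnion, Set.mem_iInter,
    Set.mem_compl_iff, and_imp, ← specializes_iff_mem_closure,
    ← PrimeSpectrum.le_iff_specializes, not_imp_not]
  constructor
  · rintro rfl _ _
    exact h₂.eq_of_le
  · intro hp
    apply h₁.eq_of_ge
    obtain ⟨q, hq, hq'⟩ := Ideal.exists_minimalPrimes_le (J := p.asIdeal) bot_le
    exact (hp ⟨q, hq.1.1⟩ (PrimeSpectrum.isMin_iff.mpr hq) hq').ge.trans hq'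

end Algebra

variable {X : Scheme.{u}}

/-- the prime ideal of `O_x` of functions vanishing at the generization `x₀` -/
noncomputable def genPrime {x₀ x : X} (h : x₀ ⤳ x) : Ideal (X.presheaf.stalk x) :=
  (maximalIdeal (X.presheaf.stalk x₀)).comap (X.presheaf.stalkSpecializes h).hom

instance genPrime_isPrime {x₀ x : X} (h : x₀ ⤳ x) : (genPrime h).IsPrime :=
  Ideal.IsPrime.comap _

theorem spec_comp_germ {W : X.Opens} {x₀ x : X} (hx : x ∈ W) (h : x₀ ⤳ x) :
    (X.presheaf.stalkSpecializes h).hom.comp (X.presheaf.germ W x hx).hom =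
      (X.presheaf.germ W x₀ (h.mem_open W.isOpen hx)).hom := by
  rw [← CommRingCat.hom_comp, X.presheaf.germ_stalkSpecializes]

theorem comap_maximalIdeal {W : X.Opens} (hW : IsAffineOpen W) {x : X} (hx : x ∈ W) :
    (maximalIdeal (X.presheaf.stalk x)).comap (X.presheaf.germ W x hx).hom =
      (hW.primeIdealOf ⟨x, hx⟩).asIdeal := by
  rw [hW.primeIdealOf_eq_map_closedPoint]
  rfl

theorem comap_genPrime {W : X.Opens} (hW : IsAffineOpen W) {x₀ x : X} (hx : x ∈ W) (h : x₀ ⤳ x) :
    (genPrime h).comap (X.presheaf.germ W x hx).hom =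
      (hW.primeIdealOf ⟨x₀, h.mem_open W.isOpen hx⟩).asIdeal := by
  unfold genPrime
  rw [Ideal.comap_comap, spec_comp_germ hx h, hW.primeIdealOf_eq_map_closedPoint]
  rfl

theorem map_primeIdealOf {W : X.Opens} (hW : IsAffineOpen W) {x₀ x : X} (hx : x ∈ W)
    (h : x₀ ⤳ x) :
    (hW.primeIdealOf ⟨x₀, h.mem_open W.isOpen hx⟩).asIdeal.map (X.presheaf.germ W x hx).hom =
      genPrime h := by
  letI := TopCat.Presheaf.algebra_section_stalk X.presheaf (⟨x, hx⟩ : W)
  haveI : IsLocalization.AtPrime (X.presheaf.stalk x) (hW.primeIdealOf ⟨x, hx⟩).asIdeal :=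
    hW.isLocalization_stalk ⟨x, hx⟩
  have h2 := IsLocalization.map_under (hW.primeIdealOf ⟨x, hx⟩).asIdeal.primeCompl
    (X.presheaf.stalk x) (genPrime h)
  rw [Ideal.under] at h2
  have h3 : (genPrime h).comap (algebraMap Γ(X, W) (X.presheaf.stalk x)) =
      (hW.primeIdealOf ⟨x₀, h.mem_open W.isOpen hx⟩).asIdeal := comap_genPrime hW hx h
  rw [h3] at h2
  exact h2

/-- the dimension of the local ring at a generization `x₀` of `x` is the height of its prime in
`O_x` -/
theorem ringKrullDim_stalk_eq_height {x₀ x : X} (h : x₀ ⤳ x) :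
    ringKrullDim (X.presheaf.stalk x₀) = ((genPrime h).height : WithBot ℕ∞) := by
  obtain ⟨_, ⟨W, hW : IsAffineOpen W, rfl⟩, hxW, -⟩ :=
    (X.isBasis_affineOpens).exists_subset_of_mem_open (Set.mem_univ x) isOpen_univ
  have hx : x ∈ W := hxW
  have hx₀ : x₀ ∈ W := h.mem_open W.isOpen hx
  letI a1 := TopCat.Presheaf.algebra_section_stalk X.presheaf (⟨x, hx⟩ : W)
  haveI : IsLocalization.AtPrime (X.presheaf.stalk x) (hW.primeIdealOf ⟨x, hx⟩).asIdeal :=
    hW.isLocalization_stalk ⟨x, hx⟩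
  letI a2 := TopCat.Presheaf.algebra_section_stalk X.presheaf (⟨x₀, hx₀⟩ : W)
  haveI : IsLocalization.AtPrime (X.presheaf.stalk x₀) (hW.primeIdealOf ⟨x₀, hx₀⟩).asIdeal :=
    hW.isLocalization_stalk ⟨x₀, hx₀⟩
  have h1 := IsLocalization.height_under (hW.primeIdealOf ⟨x, hx⟩).asIdeal.primeCompl (genPrime h)
  rw [Ideal.under] at h1
  have h2 : (genPrime h).comap (algebraMap Γ(X, W) (X.presheaf.stalk x)) =
      (hW.primeIdealOf ⟨x₀, hx₀⟩).asIdeal := comap_genPrime hW hx h
  rw [h2] at h1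
  have h3 := IsLocalization.AtPrime.ringKrullDim_eq_height (hW.primeIdealOf ⟨x₀, hx₀⟩).asIdeal
    (X.presheaf.stalk x₀)
  rw [h3, h1]

/-- every prime of a local ring `O_x` is the prime of a generization of `x` -/
theorem exists_genPrime_eq (x : X) (𝔭 : Ideal (X.presheaf.stalk x)) [h𝔭 : 𝔭.IsPrime] :
    ∃ (x₀ : X) (h : x₀ ⤳ x), 𝔭 = genPrime h := by
  obtain ⟨_, ⟨W, hW : IsAffineOpen W, rfl⟩, hxW, -⟩ :=
    (X.isBasis_affineOpens).exists_subset_of_mem_open (Set.mem_univ x) isOpen_univ
  have hx : x ∈ W := hxW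
  letI a1 := TopCat.Presheaf.algebra_section_stalk X.presheaf (⟨x, hx⟩ : W)
  haveI : IsLocalization.AtPrime (X.presheaf.stalk x) (hW.primeIdealOf ⟨x, hx⟩).asIdeal :=
    hW.isLocalization_stalk ⟨x, hx⟩
  have hcomap : (maximalIdeal (X.presheaf.stalk x)).comap
      (algebraMap Γ(X, W) (X.presheaf.stalk x)) = (hW.primeIdealOf ⟨x, hx⟩).asIdeal :=
    comap_maximalIdeal hW hx
  haveI hPp : (𝔭.comap (algebraMap Γ(X, W) (X.presheaf.stalk x))).IsPrime := Ideal.IsPrime.comap _
  obtain ⟨x₀, hx₀, hP₀⟩ := Groth.Agent.Hartogs.exists_point hW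
    (𝔭.comap (algebraMap Γ(X, W) (X.presheaf.stalk x)))
  have hle : hW.primeIdealOf ⟨x₀, hx₀⟩ ≤ hW.primeIdealOf ⟨x, hx⟩ := by
    show (hW.primeIdealOf ⟨x₀, hx₀⟩).asIdeal ≤ (hW.primeIdealOf ⟨x, hx⟩).asIdeal
    rw [hP₀, ← hcomap]
    exact Ideal.comap_mono (IsLocalRing.le_maximalIdeal h𝔭.ne_top)
  have hspec : x₀ ⤳ x := by
    have h1 : hW.primeIdealOf ⟨x₀, hx₀⟩ ⤳ hW.primeIdealOf ⟨x, hx⟩ :=
      (PrimeSpectrum.le_iff_specializes _ _).mp hle
    have h2 := h1.map hW.fromSpec.continuous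
    rwa [hW.fromSpec_primeIdealOf, hW.fromSpec_primeIdealOf] at h2
  refine ⟨x₀, hspec, ?_⟩
  have h1 := IsLocalization.map_under (hW.primeIdealOf ⟨x, hx⟩).asIdeal.primeCompl
    (X.presheaf.stalk x) 𝔭
  rw [Ideal.under, ← hP₀] at h1
  rw [← h1]
  exact map_primeIdealOf hW hx hspec

/-- the prime of the generization `x₀` in `O_x` generates the maximal ideal of `O_{x₀}` -/
theorem map_genPrime {x₀ x : X} (h₀ : x₀ ⤳ x) :
    (genPrime h₀).map (X.presheaf.stalkSpecializes h₀).hom =
      maximalIdeal (X.presheaf.stalk x₀) := by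
  obtain ⟨_, ⟨W, hW : IsAffineOpen W, rfl⟩, hxW, -⟩ :=
    (X.isBasis_affineOpens).exists_subset_of_mem_open (Set.mem_univ x) isOpen_univ
  have hx : x ∈ W := hxW
  have hx₀ : x₀ ∈ W := h₀.mem_open W.isOpen hx
  letI a2 := TopCat.Presheaf.algebra_section_stalk X.presheaf (⟨x₀, hx₀⟩ : W)
  haveI : IsLocalization.AtPrime (X.presheaf.stalk x₀) (hW.primeIdealOf ⟨x₀, hx₀⟩).asIdeal :=
    hW.isLocalization_stalk ⟨x₀, hx₀⟩
  have h1 : (hW.primeIdealOf ⟨x₀, hx₀⟩).asIdeal.map (X.presheaf.germ W x₀ hx₀).hom =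
      maximalIdeal (X.presheaf.stalk x₀) :=
    IsLocalization.AtPrime.map_eq_maximalIdeal (hW.primeIdealOf ⟨x₀, hx₀⟩).asIdeal
      (X.presheaf.stalk x₀)
  have h2 := map_primeIdealOf hW hx h₀
  calc (genPrime h₀).map (X.presheaf.stalkSpecializes h₀).hom
      = ((hW.primeIdealOf ⟨x₀, hx₀⟩).asIdeal.map (X.presheaf.germ W x hx).hom).map
          (X.presheaf.stalkSpecializes h₀).hom := by rw [h2]
    _ = (hW.primeIdealOf ⟨x₀, hx₀⟩).asIdeal.map
          ((X.presheaf.stalkSpecializes h₀).hom.comp (X.presheaf.germ W x hx).hom) :=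
        Ideal.map_map _ _
    _ = (hW.primeIdealOf ⟨x₀, hx₀⟩).asIdeal.map (X.presheaf.germ W x₀ hx₀).hom := by
        rw [spec_comp_germ hx h₀]
    _ = maximalIdeal (X.presheaf.stalk x₀) := h1

/-- the prime of a proper generization is not the maximal ideal -/
theorem eq_of_genPrime_eq_maximalIdeal {x y : X} (h : x ⤳ y)
    (heq : genPrime h = maximalIdeal (X.presheaf.stalk y)) : x = y := by
  obtain ⟨_, ⟨W, hW : IsAffineOpen W, rfl⟩, hyW, -⟩ :=
    (X.isBasis_affineOpens).exists_subset_of_mem_open (Set.mem_univ y) isOpen_univ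
  have hy : y ∈ W := hyW
  have hx : x ∈ W := h.mem_open W.isOpen hy
  have h1 := comap_genPrime hW hy h
  have h2 := comap_maximalIdeal hW hy
  rw [heq, h2] at h1
  have h3 : hW.primeIdealOf ⟨y, hy⟩ = hW.primeIdealOf ⟨x, hx⟩ := PrimeSpectrum.ext h1
  have h4 := congrArg (fun P => hW.fromSpec P) h3
  simp only [hW.fromSpec_primeIdealOf] at h4
  exact h4.symm

section Main

variable [IsLocallyNoetherian X]

/-- a closed point whose local ring has dimension zero is isolated -/
theorem isOpen_singleton_of_closed_of_minimal (x : X)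
    (hmin : maximalIdeal (X.presheaf.stalk x) ∈ minimalPrimes (X.presheaf.stalk x))
    (hcl : ∀ y : X, x ⤳ y → y = x) : IsOpen ({x} : Set X) := by
  obtain ⟨_, ⟨W, hW : IsAffineOpen W, rfl⟩, hxW, -⟩ :=
    (X.isBasis_affineOpens).exists_subset_of_mem_open (Set.mem_univ x) isOpen_univ
  have hx : x ∈ W := hxW
  haveI : IsNoetherianRing Γ(X, W) := IsLocallyNoetherian.component_noetherian ⟨W, hW⟩
  have hmax : IsMax (hW.primeIdealOf ⟨x, hx⟩) := by
    intro q hpq
    obtain ⟨y, hyW, hy⟩ := Groth.Agent.Hartogs.exists_point hW q.asIdeal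
    have hq : q = hW.primeIdealOf ⟨y, hyW⟩ := PrimeSpectrum.ext hy.symm
    have hle : hW.primeIdealOf ⟨x, hx⟩ ≤ hW.primeIdealOf ⟨y, hyW⟩ := by
      rw [← hq]
      exact hpq
    have hspec : x ⤳ y := by
      have h1 : hW.primeIdealOf ⟨x, hx⟩ ⤳ hW.primeIdealOf ⟨y, hyW⟩ :=
        (PrimeSpectrum.le_iff_specializes _ _).mp hle
      have h2 := h1.map hW.fromSpec.continuous
      rwa [hW.fromSpec_primeIdealOf, hW.fromSpec_primeIdealOf] at h2
    have hyx := hcl y hspec
    exact le_of_eq (hq.trans (congrArg hW.primeIdealOf (Subtype.ext hyx)))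
  have hminp : IsMin (hW.primeIdealOf ⟨x, hx⟩) := by
    rw [PrimeSpectrum.isMin_iff]
    letI a1 := TopCat.Presheaf.algebra_section_stalk X.presheaf (⟨x, hx⟩ : W)
    haveI : IsLocalization.AtPrime (X.presheaf.stalk x) (hW.primeIdealOf ⟨x, hx⟩).asIdeal :=
      hW.isLocalization_stalk ⟨x, hx⟩
    rw [← Ideal.height_eq_zero_iff]
    have h3 := IsLocalization.AtPrime.ringKrullDim_eq_height (hW.primeIdealOf ⟨x, hx⟩).asIdeal
      (X.presheaf.stalk x)
    have h4 : (maximalIdeal (X.presheaf.stalk x)).height = 0 := Ideal.height_eq_zero_iff.mpr hmin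
    rw [← IsLocalRing.maximalIdeal_height_eq_ringKrullDim, h4] at h3
    exact (WithBot.coe_injective h3).symm
  have hopen := isOpen_singleton_of_isMax_of_isMin (hW.primeIdealOf ⟨x, hx⟩) hmax hminp
  have h5 := hW.fromSpec.isOpenEmbedding.isOpenMap _ hopen
  have h6 : ({x} : Set X) = hW.fromSpec '' {hW.primeIdealOf ⟨x, hx⟩} := by
    ext z
    constructor
    · intro hz
      have hz' : z = x := hz
      rw [hz']
      exact ⟨hW.primeIdealOf ⟨x, hx⟩, rfl, hW.fromSpec_primeIdealOf ⟨x, hx⟩⟩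
    · rintro ⟨p, hp, rfl⟩
      have hp' : p = hW.primeIdealOf ⟨x, hx⟩ := hp
      rw [hp']
      exact hW.fromSpec_primeIdealOf ⟨x, hx⟩
  rw [h6]
  exact h5

/-- under (a''), a local ring of positive dimension is a domain -/
theorem isDomain_of_not_minimal
    (ha : ∀ ζ : X, ringKrullDim (X.presheaf.stalk ζ) = 1 → ∀ (x : X) (h : ζ ⤳ x),
      ∃ t : X.presheaf.stalk x, t ∈ nonZeroDivisors (X.presheaf.stalk x) ∧
        (maximalIdeal (X.presheaf.stalk ζ)).comap (X.presheaf.stalkSpecializes h).hom =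
          Ideal.span {t})
    (x : X) (hx : maximalIdeal (X.presheaf.stalk x) ∉ minimalPrimes (X.presheaf.stalk x)) :
    IsDomain (X.presheaf.stalk x) := by
  obtain ⟨P, hP, hht⟩ := exists_height_one_prime hx
  haveI := hP
  obtain ⟨ζ, h, rfl⟩ := exists_genPrime_eq x P
  have hdim : ringKrullDim (X.presheaf.stalk ζ) = 1 := by
    rw [ringKrullDim_stalk_eq_height h, hht]
    rfl
  obtain ⟨t, ht, hspan⟩ := ha ζ hdim x h
  exact isDomain_of_prime_span (genPrime h) t ht hspan

/-- under (a'') and reducedness at the isolated points, all local rings are domains -/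
theorem isDomain_stalk
    (hred : ∀ x : X, IsOpen ({x} : Set X) → IsReduced (X.presheaf.stalk x))
    (ha : ∀ ζ : X, ringKrullDim (X.presheaf.stalk ζ) = 1 → ∀ (x : X) (h : ζ ⤳ x),
      ∃ t : X.presheaf.stalk x, t ∈ nonZeroDivisors (X.presheaf.stalk x) ∧
        (maximalIdeal (X.presheaf.stalk ζ)).comap (X.presheaf.stalkSpecializes h).hom =
          Ideal.span {t})
    (x : X) : IsDomain (X.presheaf.stalk x) := by
  by_cases hx : maximalIdeal (X.presheaf.stalk x) ∈ minimalPrimes (X.presheaf.stalk x)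
  swap
  · exact isDomain_of_not_minimal ha x hx
  suffices hbot : maximalIdeal (X.presheaf.stalk x) = ⊥ by
    haveI : (⊥ : Ideal (X.presheaf.stalk x)).IsPrime :=
      hbot ▸ (inferInstance : (maximalIdeal (X.presheaf.stalk x)).IsPrime)
    exact IsDomain.of_bot_isPrime _
  by_cases hopen : IsOpen ({x} : Set X)
  · haveI := hred x hopen
    rw [eq_bot_iff]
    intro a ha'
    have hnil : a ∈ nilradical (X.presheaf.stalk x) := by
      rw [nilradical_eq_sInf, Ideal.mem_sInf]
      intro P hP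
      have hPp : P.IsPrime := hP
      have hle : P ≤ maximalIdeal (X.presheaf.stalk x) := IsLocalRing.le_maximalIdeal hPp.ne_top
      exact hx.2 ⟨hPp, bot_le⟩ hle ha'
    rw [Ideal.mem_bot]
    exact IsReduced.eq_zero a (mem_nilradical.mp hnil)
  · obtain ⟨y, hyx, hxy⟩ : ∃ y : X, y ≠ x ∧ x ⤳ y := by
      by_contra hcon
      push Not at hcon
      exact hopen (isOpen_singleton_of_closed_of_minimal x hx (fun y hy => by
        by_contra hne
        exact hcon y hne hy))
    have hne : genPrime hxy ≠ maximalIdeal (X.presheaf.stalk y) := fun heq =>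
      hyx (eq_of_genPrime_eq_maximalIdeal hxy heq).symm
    have hy : maximalIdeal (X.presheaf.stalk y) ∉ minimalPrimes (X.presheaf.stalk y) := by
      intro hmin
      apply hne
      have hle : genPrime hxy ≤ maximalIdeal (X.presheaf.stalk y) :=
        IsLocalRing.le_maximalIdeal (genPrime_isPrime hxy).ne_top
      exact le_antisymm hle (hmin.2 ⟨genPrime_isPrime hxy, bot_le⟩ hle)
    haveI := isDomain_of_not_minimal ha y hy
    have hht : (genPrime hxy).height = 0 := by
      have h1 := ringKrullDim_stalk_eq_height hxy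
      have h4 : (maximalIdeal (X.presheaf.stalk x)).height = 0 := Ideal.height_eq_zero_iff.mpr hx
      rw [← IsLocalRing.maximalIdeal_height_eq_ringKrullDim, h4] at h1
      exact (WithBot.coe_injective h1).symm
    have hbot : genPrime hxy = ⊥ := Ideal.height_eq_zero_iff_eq_bot.mp hht
    rw [← map_genPrime hxy, hbot, Ideal.map_bot]

/-- under (a''), a local ring which is a domain is factorial -/
theorem ufd_stalk
    (ha : ∀ ζ : X, ringKrullDim (X.presheaf.stalk ζ) = 1 → ∀ (x : X) (h : ζ ⤳ x),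
      ∃ t : X.presheaf.stalk x, t ∈ nonZeroDivisors (X.presheaf.stalk x) ∧
        (maximalIdeal (X.presheaf.stalk ζ)).comap (X.presheaf.stalkSpecializes h).hom =
          Ideal.span {t})
    (x : X) [IsDomain (X.presheaf.stalk x)] :
    UniqueFactorizationMonoid (X.presheaf.stalk x) := by
  apply UniqueFactorizationMonoid.of_forall_isPrincipal_of_height_eq_one
  intro P hP hht
  obtain ⟨ζ, h, rfl⟩ := exists_genPrime_eq x P
  have hdim : ringKrullDim (X.presheaf.stalk ζ) = 1 := by
    rw [ringKrullDim_stalk_eq_height h, hht]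
    rfl
  obtain ⟨t, ht, hspan⟩ := ha ζ hdim x h
  exact ⟨⟨t, hspan⟩⟩

/-- in a factorial local ring the prime of a codimension one generization is generated by a
non-zero-divisor -/
theorem principal_of_ufd (ζ x : X) (h : ζ ⤳ x) (hdim : ringKrullDim (X.presheaf.stalk ζ) = 1)
    [IsDomain (X.presheaf.stalk x)] [UniqueFactorizationMonoid (X.presheaf.stalk x)] :
    ∃ t : X.presheaf.stalk x, t ∈ nonZeroDivisors (X.presheaf.stalk x) ∧
      (maximalIdeal (X.presheaf.stalk ζ)).comap (X.presheaf.stalkSpecializes h).hom =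
        Ideal.span {t} := by
  have hht : (genPrime h).height = 1 := by
    have h1 := ringKrullDim_stalk_eq_height h
    rw [hdim] at h1
    have h4 : (((genPrime h).height : ℕ∞) : WithBot ℕ∞) = ((1 : ℕ∞) : WithBot ℕ∞) := h1.symm
    exact WithBot.coe_injective h4
  obtain ⟨⟨ϖ, hϖ⟩⟩ := UniqueFactorizationMonoid.isPrincipal_of_height_eq_one hht
  have hϖ0 : ϖ ≠ 0 := by
    rintro rfl
    have hbot : genPrime h = ⊥ := by
      rw [hϖ]
      exact Ideal.span_singleton_eq_bot.mpr rfl
    exact (genPrime h).ne_bot_of_height_eq_one hht hbot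
  exact ⟨ϖ, mem_nonZeroDivisors_of_ne_zero hϖ0, hϖ⟩

/-- (a'') ⟺ (c): regular immersion of the codimension one integral closed subschemes is
equivalent to local factoriality -/
theorem main (X : Scheme.{u}) [IsLocallyNoetherian X]
    (hred : ∀ x : X, IsOpen ({x} : Set X) → IsReduced (X.presheaf.stalk x)) :
    (∀ ζ : X, ringKrullDim (X.presheaf.stalk ζ) = 1 → ∀ (x : X) (h : ζ ⤳ x),
        ∃ t : X.presheaf.stalk x, t ∈ nonZeroDivisors (X.presheaf.stalk x) ∧
          (maximalIdeal (X.presheaf.stalk ζ)).comap (X.presheaf.stalkSpecializes h).hom =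
            Ideal.span {t}) ↔
      ∀ x : X, ∃ _ : IsDomain (X.presheaf.stalk x),
        UniqueFactorizationMonoid (X.presheaf.stalk x) := by
  constructor
  · intro ha x
    haveI := isDomain_stalk hred ha x
    exact ⟨inferInstance, ufd_stalk ha x⟩
  · intro hc ζ hdim x h
    obtain ⟨hdom, hufd⟩ := hc x
    exact principal_of_ufd ζ x h hdim

end Main

end Groth.Agent.StalkGen
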