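import Mathlib
import Groth.Prelude
import Groth.Agent.Lib.StalkGen_helper5

/-!
# The kernel of the stalk map of a (locally closed) immersion (helper5)

For `i : Z ⟶ X` and an affine open `U` of `X` over which `i` is a closed immersion, the kernel of
`O_{X, i z} → O_{Z, z}` is generated by the germs of the kernel of `Γ(X, U) → Γ(Z, i⁻¹U)`.
-/

set_option linter.style.haveILetI false

universe u

open CategoryTheory IsLocalRing AlgebraicGeometry TopologicalSpace Opposite

namespace Groth.Agent.KerStalk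

variable {X Z : Scheme.{u}}

/-- membership of a section in the prime of a point of an affine open -/
theorem mem_primeIdealOf_iff {W : X.Opens} (hW : IsAffineOpen W) (t : Γ(X, W)) (z : X)
    (hz : z ∈ W) :
    t ∈ (hW.primeIdealOf ⟨z, hz⟩).asIdeal ↔ ¬ IsUnit (X.presheaf.germ W z hz t) := by
  rw [← Groth.Agent.StalkGen.comap_maximalIdeal hW hz, Ideal.mem_comap,
    IsLocalRing.mem_maximalIdeal]
  rfl

theorem app_surjective_of_restrict (i : Z ⟶ X) (U : X.Opens) (hU : IsAffineOpen U)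
    [IsClosedImmersion (i ∣_ U)] : Function.Surjective (i.app U) := by
  haveI : IsAffine U := hU
  have h1 : Function.Surjective ((i ∣_ U).app ⊤) :=
    (i ∣_ U).app_surjective ⊤ (isAffineOpen_top _)
  rw [morphismRestrict_app'] at h1
  rw [Scheme.Hom.app_eq_appLE]
  refine (Scheme.Hom.appLE_congr i _ ?_ ?_ (fun f => Function.Surjective f)).mp h1
  · simp
  · simp

theorem ker_stalkMap (i : Z ⟶ X) (U : X.Opens) (hU : IsAffineOpen U)
    [IsClosedImmersion (i ∣_ U)] (z : Z) (hx : i z ∈ U) :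
    RingHom.ker (i.stalkMap z).hom =
      (RingHom.ker (i.app U).hom).map (X.presheaf.germ U (i z) hx).hom := by
  haveI : IsAffine U := hU
  have hV : IsAffineOpen (i ⁻¹ᵁ U) := isAffine_of_isAffineHom (i ∣_ U)
  have hz : z ∈ i ⁻¹ᵁ U := hx
  letI := TopCat.Presheaf.algebra_section_stalk X.presheaf (⟨i z, hx⟩ : U)
  haveI : IsLocalization.AtPrime (X.presheaf.stalk (i z))
      (hU.primeIdealOf ⟨i z, hx⟩).asIdeal := hU.isLocalization_stalk ⟨_, hx⟩
  letI := TopCat.Presheaf.algebra_section_stalk Z.presheaf (⟨z, hz⟩ : (i ⁻¹ᵁ U))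
  haveI : IsLocalization.AtPrime (Z.presheaf.stalk z)
      (hV.primeIdealOf ⟨z, hz⟩).asIdeal := hV.isLocalization_stalk ⟨z, hz⟩
  have hgerm : ∀ a : Γ(X, U),
      (i.stalkMap z).hom ((X.presheaf.germ U (i z) hx).hom a) =
        (Z.presheaf.germ (i ⁻¹ᵁ U) z hz).hom ((i.app U).hom a) :=
    fun a => i.germ_stalkMap_apply U z hx a
  apply le_antisymm
  · intro r hr
    rw [RingHom.mem_ker] at hr
    obtain ⟨⟨a, s⟩, hrs⟩ := IsLocalization.surj
      (hU.primeIdealOf ⟨i z, hx⟩).asIdeal.primeCompl r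
    have hrs' : r * (X.presheaf.germ U (i z) hx).hom (s : Γ(X, U)) =
        (X.presheaf.germ U (i z) hx).hom a := hrs
    have h0 : (Z.presheaf.germ (i ⁻¹ᵁ U) z hz).hom ((i.app U).hom a) = 0 := by
      rw [← hgerm a, ← hrs', map_mul, hr, zero_mul]
    have h1 : algebraMap Γ(Z, i ⁻¹ᵁ U) (Z.presheaf.stalk z) ((i.app U).hom a) = 0 := h0
    rw [IsLocalization.map_eq_zero_iff (hV.primeIdealOf ⟨z, hz⟩).asIdeal.primeCompl] at h1
    obtain ⟨t, ht⟩ := h1
    obtain ⟨s', hs'⟩ := app_surjective_of_restrict i U hU (t : Γ(Z, i ⁻¹ᵁ U))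
    have hs'' : (i.app U).hom s' = (t : Γ(Z, i ⁻¹ᵁ U)) := hs'
    have h2 : s' * a ∈ RingHom.ker (i.app U).hom := by
      rw [RingHom.mem_ker, map_mul, hs'']
      exact ht
    have hunit_t : IsUnit (algebraMap Γ(Z, i ⁻¹ᵁ U) (Z.presheaf.stalk z)
        (t : Γ(Z, i ⁻¹ᵁ U))) := IsLocalization.map_units _ t
    have hunit_s' : IsUnit ((X.presheaf.germ U (i z) hx).hom s') := by
      have hu : IsUnit ((i.stalkMap z).hom ((X.presheaf.germ U (i z) hx).hom s')) := by
        rw [hgerm s', hs'']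
        exact hunit_t
      exact (isUnit_map_iff (i.stalkMap z).hom _).mp hu
    have hunit_s : IsUnit ((X.presheaf.germ U (i z) hx).hom (s : Γ(X, U))) :=
      IsLocalization.map_units (X.presheaf.stalk (i z)) s
    obtain ⟨u1, hu1⟩ := hunit_s
    obtain ⟨u2, hu2⟩ := hunit_s'
    have hmem : (X.presheaf.germ U (i z) hx).hom (s' * a) ∈
        (RingHom.ker (i.app U).hom).map (X.presheaf.germ U (i z) hx).hom :=
      Ideal.mem_map_of_mem _ h2
    have e : r = (X.presheaf.germ U (i z) hx).hom (s' * a) * (↑u1⁻¹ * ↑u2⁻¹) := by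
      rw [map_mul, ← hrs', ← hu1, ← hu2]
      have h3 : (u2 : X.presheaf.stalk (i z)) * (r * u1) * (↑u1⁻¹ * ↑u2⁻¹) =
          r * ((u1 : X.presheaf.stalk (i z)) * ↑u1⁻¹) * (u2 * ↑u2⁻¹) := by ring
      rw [h3, Units.mul_inv, Units.mul_inv, mul_one, mul_one]
    rw [e]
    exact Ideal.mul_mem_right _ _ hmem
  · rw [Ideal.map_le_iff_le_comap]
    intro a ha
    rw [RingHom.mem_ker] at ha
    rw [Ideal.mem_comap, RingHom.mem_ker, hgerm a, ha, map_zero]

/-- S18944 -/
theorem main (i : Z ⟶ X) (h : RegImm.IsRegularImmersion RegImm.Kind.regular i) (z : Z) :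
    ∃ rs : List (X.presheaf.stalk (i z)),
      RingTheory.Sequence.IsRegular (X.presheaf.stalk (i z)) rs ∧
        RingHom.ker (i.stalkMap z).hom = Ideal.ofList rs := by
  obtain ⟨U, hx, hcl, rs, hreg, hker⟩ := h.2 z
  haveI := hcl
  have hreg' : RingTheory.Sequence.IsRegular Γ(X, U.1) rs := hreg
  have hU : IsAffineOpen U.1 := U.2
  letI := TopCat.Presheaf.algebra_section_stalk X.presheaf (⟨i z, hx⟩ : U.1)
  haveI : IsLocalization.AtPrime (X.presheaf.stalk (i z))
      (hU.primeIdealOf ⟨i z, hx⟩).asIdeal := hU.isLocalization_stalk ⟨_, hx⟩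
  refine ⟨rs.map (X.presheaf.germ U.1 (i z) hx).hom, ?_, ?_⟩
  · have mem : ∀ r ∈ rs, r ∈ (hU.primeIdealOf ⟨i z, hx⟩).asIdeal := by
      intro r hr
      have hrk : r ∈ RingHom.ker (i.app U.1).hom := by
        rw [hker]
        exact Ideal.subset_span hr
      rw [RingHom.mem_ker] at hrk
      rw [mem_primeIdealOf_iff hU r (i z) hx]
      intro hunit
      have h1 : (i.stalkMap z).hom ((X.presheaf.germ U.1 (i z) hx).hom r) = 0 := by
        have h2 : (i.stalkMap z).hom ((X.presheaf.germ U.1 (i z) hx).hom r) =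
            (Z.presheaf.germ (i ⁻¹ᵁ U.1) z hx).hom ((i.app U.1).hom r) :=
          i.germ_stalkMap_apply U.1 z hx r
        rw [h2, hrk, map_zero]
      exact (hunit.map (i.stalkMap z).hom).ne_zero h1
    exact hreg'.1.isRegular_of_isLocalization_of_mem (X.presheaf.stalk (i z))
      (hU.primeIdealOf ⟨i z, hx⟩).asIdeal mem
  · rw [ker_stalkMap i U.1 hU z hx, hker, Ideal.map_ofList]

end Groth.Agent.KerStalk
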