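import Mathlib
import Groth.Prelude.Def_RegImm
import Groth.Prelude.Def_CAlg
import Groth.Prelude.Def_DRing2
import Groth.Agent.Lib.CMInter_helper2
import Groth.Agent.Lib.KerStalk_helper5

/-!
# Proper intersection of regular immersions in a Cohen–Macaulay scheme (helper2, S15825)
-/

set_option autoImplicit false
set_option maxHeartbeats 400000
universe u

open CategoryTheory CategoryTheory.Limits AlgebraicGeometry TopologicalSpace
  RingTheory.Sequence TensorProduct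

namespace Groth.Agent.Lib.CMInterSch

variable {X Y Z : Scheme.{u}}

theorem ker_pullback (iY : Y ⟶ X) (iZ : Z ⟶ X) [IsClosedImmersion iY] [IsClosedImmersion iZ] :
    (pullback.fst iY iZ ≫ iY).ker = iY.ker ⊔ iZ.ker := by
  apply le_antisymm
  · have hA : iY.ker ≤ (iY.ker ⊔ iZ.ker).subschemeι.ker := by
      rw [Scheme.IdealSheafData.ker_subschemeι]; exact le_sup_left
    have hB : iZ.ker ≤ (iY.ker ⊔ iZ.ker).subschemeι.ker := by
      rw [Scheme.IdealSheafData.ker_subschemeι]; exact le_sup_right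
    have ha : IsClosedImmersion.lift iY (iY.ker ⊔ iZ.ker).subschemeι hA ≫ iY =
        (iY.ker ⊔ iZ.ker).subschemeι := IsClosedImmersion.lift_fac _ _ _
    have hb : IsClosedImmersion.lift iZ (iY.ker ⊔ iZ.ker).subschemeι hB ≫ iZ =
        (iY.ker ⊔ iZ.ker).subschemeι := IsClosedImmersion.lift_fac _ _ _
    have hc : pullback.lift _ _ (ha.trans hb.symm) ≫ (pullback.fst iY iZ ≫ iY) =
        (iY.ker ⊔ iZ.ker).subschemeι := by
      rw [← Category.assoc, pullback.lift_fst, ha]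
    calc (pullback.fst iY iZ ≫ iY).ker
        ≤ (pullback.lift _ _ (ha.trans hb.symm) ≫ (pullback.fst iY iZ ≫ iY)).ker :=
          Scheme.Hom.le_ker_comp _ _
      _ = iY.ker ⊔ iZ.ker := by rw [hc, Scheme.IdealSheafData.ker_subschemeι]
  · apply sup_le
    · exact Scheme.Hom.le_ker_comp _ _
    · rw [pullback.condition]; exact Scheme.Hom.le_ker_comp _ _

theorem fromSpec_mem {U : X.Opens} (hU : IsAffineOpen U) (q : PrimeSpectrum Γ(X, U)) :
    hU.fromSpec q ∈ U := by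
  rw [← SetLike.mem_coe, ← hU.range_fromSpec]; exact Set.mem_range_self q

theorem primeIdealOf_fromSpec {U : X.Opens} (hU : IsAffineOpen U) (q : PrimeSpectrum Γ(X, U)) :
    hU.primeIdealOf ⟨hU.fromSpec q, fromSpec_mem hU q⟩ = q := by
  apply hU.fromSpec.isOpenEmbedding.injective
  exact hU.fromSpec_primeIdealOf ⟨_, fromSpec_mem hU q⟩

theorem ker_le_primeIdealOf (i : Z ⟶ X) {U : X.Opens} (hU : IsAffineOpen U) (x : X) (hxU : x ∈ U)
    (hx : x ∈ Set.range i) :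
    RingHom.ker (i.app U).hom ≤ (hU.primeIdealOf ⟨x, hxU⟩).asIdeal := by
  obtain ⟨z, rfl⟩ := hx
  intro r hrk
  rw [RingHom.mem_ker] at hrk
  rw [Groth.Agent.KerStalk.mem_primeIdealOf_iff hU r (i z) hxU]
  intro hunit
  have h1 : (i.stalkMap z).hom ((X.presheaf.germ U (i z) hxU).hom r) = 0 := by
    have h2 : (i.stalkMap z).hom ((X.presheaf.germ U (i z) hxU).hom r) =
        (Z.presheaf.germ (i ⁻¹ᵁ U) z hxU).hom ((i.app U).hom r) :=
      i.germ_stalkMap_apply U z hxU r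
    rw [h2, hrk, map_zero]
  exact (hunit.map (i.stalkMap z).hom).ne_zero h1

theorem mem_range_of_ker_le (i : Z ⟶ X) [IsClosedImmersion i] {U : X.Opens} (hU : IsAffineOpen U)
    (x : X) (hxU : x ∈ U)
    (hle : RingHom.ker (i.app U).hom ≤ (hU.primeIdealOf ⟨x, hxU⟩).asIdeal) :
    x ∈ Set.range i := by
  have h1 : x ∈ i.ker.support := by
    rw [Scheme.IdealSheafData.mem_support_iff_of_mem (U := ⟨U, hU⟩) hxU,
      Scheme.mem_zeroLocus_iff]
    intro s hs hxs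
    have hs' : s ∈ RingHom.ker (i.app U).hom := by
      rw [← Scheme.Hom.ker_apply i ⟨U, hU⟩]; exact hs
    have h2 := hle hs'
    rw [Groth.Agent.KerStalk.mem_primeIdealOf_iff hU s x hxU] at h2
    exact h2 ((X.mem_basicOpen s x hxU).mp hxs)
  have h2 : x ∈ (i.ker.support : Set X) := h1
  rw [Scheme.Hom.support_ker, i.isClosedEmbedding.isClosed_range.closure_eq] at h2
  exact h2

theorem local_gens (i : Z ⟶ X) [IsClosedImmersion i] (b : ℕ)
    (h : RegImm.IsRegularImmersionOfCodim RegImm.Kind.regular b i)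
    (U : X.Opens) (hU : IsAffineOpen U) (x : X) (hxU : x ∈ U) (hx : x ∈ Set.range i) :
    ∃ gs : List (X.presheaf.stalk x), gs.length = b ∧ IsWeaklyRegular (X.presheaf.stalk x) gs ∧
      (RingHom.ker (i.app U).hom).map (X.presheaf.germ U x hxU).hom = Ideal.ofList gs := by
  obtain ⟨z, rfl⟩ := hx
  obtain ⟨U', hzU', hcl, rs, hlen, hreg, hker⟩ := h.2 z
  haveI := hcl
  refine ⟨rs.map (X.presheaf.germ U'.1 (i z) hzU').hom, by rw [List.length_map, hlen], ?_, ?_⟩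
  · letI := TopCat.Presheaf.algebra_section_stalk X.presheaf (⟨i z, hzU'⟩ : U'.1)
    haveI : IsLocalization.AtPrime (X.presheaf.stalk (i z))
        (U'.2.primeIdealOf ⟨i z, hzU'⟩).asIdeal := U'.2.isLocalization_stalk ⟨_, hzU'⟩
    have hreg' : IsRegular Γ(X, U'.1) rs := hreg
    exact hreg'.toIsWeaklyRegular.of_isLocalization (X.presheaf.stalk (i z))
      (U'.2.primeIdealOf ⟨i z, hzU'⟩).asIdeal.primeCompl
  · rw [← Groth.Agent.KerStalk.ker_stalkMap i U hU z hxU,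
      Groth.Agent.KerStalk.ker_stalkMap i U'.1 U'.2 z hzU', hker, Ideal.map_ofList]

theorem height_ge (iY : Y ⟶ X) (iZ : Z ⟶ X) [IsClosedImmersion iY] [IsClosedImmersion iZ] (n : ℕ)
    (hcodim : ∀ w : ↥(pullback iY iZ), ((n : ℕ) : WithBot ℕ∞) ≤
      ringKrullDim (X.presheaf.stalk ((pullback.fst iY iZ ≫ iY).base w)))
    {U : X.Opens} (hU : IsAffineOpen U) (q : Ideal Γ(X, U)) [hq : q.IsPrime]
    (hI : RingHom.ker (iY.app U).hom ≤ q) (hJ : RingHom.ker (iZ.app U).hom ≤ q) :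
    (n : ℕ∞) ≤ q.height := by
  have hxU := fromSpec_mem hU ⟨q, hq⟩
  have hQ := primeIdealOf_fromSpec hU ⟨q, hq⟩
  have hxY : hU.fromSpec ⟨q, hq⟩ ∈ Set.range iY :=
    mem_range_of_ker_le iY hU _ hxU (by rw [hQ]; exact hI)
  have hxZ : hU.fromSpec ⟨q, hq⟩ ∈ Set.range iZ :=
    mem_range_of_ker_le iZ hU _ hxU (by rw [hQ]; exact hJ)
  obtain ⟨y, hy⟩ := hxY
  obtain ⟨z, hz⟩ := hxZ
  obtain ⟨w, hw1, hw2⟩ := Scheme.Pullback.exists_preimage_pullback y z (hy.trans hz.symm)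
  have hw : (pullback.fst iY iZ ≫ iY).base w = hU.fromSpec ⟨q, hq⟩ := by
    have h1 : (pullback.fst iY iZ ≫ iY).base w = iY.base ((pullback.fst iY iZ).base w) := rfl
    rw [h1]
    exact (congrArg (fun t => iY.base t) hw1).trans hy
  have hc := hcodim w
  rw [hw] at hc
  letI := TopCat.Presheaf.algebra_section_stalk X.presheaf
    (⟨hU.fromSpec ⟨q, hq⟩, hxU⟩ : U)
  haveI : IsLocalization.AtPrime (X.presheaf.stalk (hU.fromSpec ⟨q, hq⟩))
      (hU.primeIdealOf ⟨hU.fromSpec ⟨q, hq⟩, hxU⟩).asIdeal :=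
    hU.isLocalization_stalk ⟨_, hxU⟩
  have hd := IsLocalization.AtPrime.ringKrullDim_eq_height
    (hU.primeIdealOf ⟨hU.fromSpec ⟨q, hq⟩, hxU⟩).asIdeal
    (X.presheaf.stalk (hU.fromSpec ⟨q, hq⟩))
  rw [hd, hQ] at hc
  exact_mod_cast hc

theorem local_data (hCM : ∀ x : X, LocCoh.IsCohenMacaulayLocalRing (X.presheaf.stalk x))
    (iY : Y ⟶ X) (iZ : Z ⟶ X) [IsClosedImmersion iY] [IsClosedImmersion iZ] (a b : ℕ)
    (hY : RegImm.IsRegularImmersionOfCodim RegImm.Kind.regular a iY)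
    (hZ : RegImm.IsRegularImmersionOfCodim RegImm.Kind.regular b iZ)
    (hcodim : ∀ w : ↥(pullback iY iZ), ((a + b : ℕ) : WithBot ℕ∞) ≤
      ringKrullDim (X.presheaf.stalk ((pullback.fst iY iZ ≫ iY).base w)))
    {U : X.Opens} (hU : IsAffineOpen U) (x : X) (hxU : x ∈ U) (hxY : x ∈ Set.range iY)
    (hxZ : x ∈ Set.range iZ) :
    ∃ fs gs : List (X.presheaf.stalk x), fs.length = a ∧ gs.length = b ∧
      (RingHom.ker (iY.app U).hom).map (X.presheaf.germ U x hxU).hom = Ideal.ofList fs ∧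
      (RingHom.ker (iZ.app U).hom).map (X.presheaf.germ U x hxU).hom = Ideal.ofList gs ∧
      IsWeaklyRegular (X.presheaf.stalk x) gs ∧
      IsWeaklyRegular (X.presheaf.stalk x) (fs ++ gs) := by
  obtain ⟨fs, hfl, hfreg, hfI⟩ := local_gens iY a hY U hU x hxU hxY
  obtain ⟨gs, hgl, hgreg, hgJ⟩ := local_gens iZ b hZ U hU x hxU hxZ
  refine ⟨fs, gs, hfl, hgl, hfI, hgJ, hgreg, ?_⟩
  letI := TopCat.Presheaf.algebra_section_stalk X.presheaf (⟨x, hxU⟩ : U)
  haveI : IsLocalization.AtPrime (X.presheaf.stalk x) (hU.primeIdealOf ⟨x, hxU⟩).asIdeal :=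
    hU.isLocalization_stalk ⟨x, hxU⟩
  haveI := hCM x
  refine Groth.Agent.Lib.CMInter.isWeaklyRegular_of_height_loc
    (hU.primeIdealOf ⟨x, hxU⟩).asIdeal (X.presheaf.stalk x)
    (RingHom.ker (iY.app U).hom ⊔ RingHom.ker (iZ.app U).hom)
    (sup_le (ker_le_primeIdealOf iY hU x hxU hxY) (ker_le_primeIdealOf iZ hU x hxU hxZ))
    (fs ++ gs) ?_ ?_
  · rw [Ideal.map_sup, Ideal.ofList_append]
    exact congrArg₂ (· ⊔ ·) hfI hgJ
  · intro q hq hKq
    haveI := hq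
    rw [List.length_append, hfl, hgl]
    have := height_ge iY iZ (a + b) hcodim hU q (le_sup_left.trans hKq) (le_sup_right.trans hKq)
    exact_mod_cast this

/-- Part 1, for a general closed immersion `ι` with kernel `iY.ker ⊔ iZ.ker`. -/
theorem part1 [IsLocallyNoetherian X]
    (hCM : ∀ x : X, LocCoh.IsCohenMacaulayLocalRing (X.presheaf.stalk x))
    (iY : Y ⟶ X) (iZ : Z ⟶ X) [IsClosedImmersion iY] [IsClosedImmersion iZ] (a b : ℕ)
    (hY : RegImm.IsRegularImmersionOfCodim RegImm.Kind.regular a iY)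
    (hZ : RegImm.IsRegularImmersionOfCodim RegImm.Kind.regular b iZ)
    (hcodim : ∀ w : ↥(pullback iY iZ), ((a + b : ℕ) : WithBot ℕ∞) ≤
      ringKrullDim (X.presheaf.stalk ((pullback.fst iY iZ ≫ iY).base w)))
    {W : Scheme.{u}} (ι : W ⟶ X) [IsClosedImmersion ι] (hι : ι.ker = iY.ker ⊔ iZ.ker) (w : W)
    (hxY : ι w ∈ Set.range iY) (hxZ : ι w ∈ Set.range iZ) :
    ∃ U : X.affineOpens, ι w ∈ U.1 ∧ IsClosedImmersion (ι ∣_ U.1) ∧
      ∃ rs : List Γ(X, U.1), rs.length = a + b ∧ IsRegular Γ(X, U.1) rs ∧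
        RingHom.ker (ι.app U.1).hom = Ideal.ofList rs := by
  obtain ⟨U, hUa, hxU, -⟩ := Opens.isBasis_iff_nbhd.mp X.isBasis_affineOpens
    (show ι w ∈ (⊤ : X.Opens) from trivial)
  have hU : IsAffineOpen U := hUa
  haveI : IsNoetherianRing Γ(X, U) := IsLocallyNoetherian.component_noetherian ⟨U, hU⟩
  obtain ⟨fs, gs, hfl, hgl, hfI, hgJ, hgreg, hreg⟩ :=
    local_data hCM iY iZ a b hY hZ hcodim hU (ι w) hxU hxY hxZ
  letI := TopCat.Presheaf.algebra_section_stalk X.presheaf (⟨ι w, hxU⟩ : U)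
  haveI : IsLocalization.AtPrime (X.presheaf.stalk (ι w))
      (hU.primeIdealOf ⟨ι w, hxU⟩).asIdeal := hU.isLocalization_stalk ⟨_, hxU⟩
  have hK : (RingHom.ker (iY.app U).hom ⊔ RingHom.ker (iZ.app U).hom).map
      (algebraMap Γ(X, U) (X.presheaf.stalk (ι w))) = Ideal.ofList (fs ++ gs) := by
    rw [Ideal.map_sup, Ideal.ofList_append]
    exact congrArg₂ (· ⊔ ·) hfI hgJ
  obtain ⟨f, as, hf, hlen, H⟩ := Groth.Agent.Lib.CMInter.main_alg_len
    (hU.primeIdealOf ⟨ι w, hxU⟩).asIdeal (X.presheaf.stalk (ι w)) _ (fs ++ gs) hreg hK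
  have hxV : ι w ∈ X.basicOpen f := by
    rw [Groth.Agent.KerStalk.mem_primeIdealOf_iff hU f (ι w) hxU, not_not] at hf
    exact (X.mem_basicOpen f (ι w) hxU).mpr hf
  have hV : IsAffineOpen (X.basicOpen f) := hU.basicOpen f
  haveI : IsLocalization.Away f Γ(X, X.basicOpen f) := hU.isLocalization_basicOpen f
  obtain ⟨hwr, hIV⟩ := H Γ(X, X.basicOpen f)
  have hkU : ι.ker.ideal ⟨U, hU⟩ =
      RingHom.ker (iY.app U).hom ⊔ RingHom.ker (iZ.app U).hom := by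
    rw [hι, Scheme.IdealSheafData.ideal_sup, Pi.sup_apply, Scheme.Hom.ker_apply,
      Scheme.Hom.ker_apply]
  have hmap : (ι.ker.ideal ⟨U, hU⟩).map (X.presheaf.map (homOfLE (X.basicOpen_le f)).op).hom =
      ι.ker.ideal ⟨X.basicOpen f, hV⟩ :=
    ι.ker.map_ideal (U := ⟨X.basicOpen f, hV⟩) (V := ⟨U, hU⟩) (X.basicOpen_le f)
  rw [hkU, Scheme.Hom.ker_apply] at hmap
  have hkV : RingHom.ker (ι.app (X.basicOpen f)).hom =
      Ideal.ofList (as.map (algebraMap Γ(X, U) Γ(X, X.basicOpen f))) := by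
    rw [← hIV]; exact hmap.symm
  haveI : Nonempty (ι ⁻¹ᵁ X.basicOpen f) := ⟨⟨w, hxV⟩⟩
  haveI : Nontrivial Γ(W, ι ⁻¹ᵁ X.basicOpen f) := Scheme.component_nontrivial W _
  refine ⟨⟨X.basicOpen f, hV⟩, hxV, inferInstance,
    as.map (algebraMap Γ(X, U) Γ(X, X.basicOpen f)), ?_, ⟨hwr, ?_⟩, hkV⟩
  · rw [List.length_map, hlen, List.length_append, hfl, hgl]
  · rw [smul_eq_mul, Ideal.mul_top, ← hkV]
    intro h
    have h2 : (1 : Γ(X, X.basicOpen f)) ∈ RingHom.ker (ι.app (X.basicOpen f)).hom := by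
      rw [← h]; trivial
    rw [RingHom.mem_ker, map_one] at h2
    exact one_ne_zero h2

theorem part2 (hCM : ∀ x : X, LocCoh.IsCohenMacaulayLocalRing (X.presheaf.stalk x))
    (iY : Y ⟶ X) (iZ : Z ⟶ X) [IsClosedImmersion iY] [IsClosedImmersion iZ] (a b : ℕ)
    (hY : RegImm.IsRegularImmersionOfCodim RegImm.Kind.regular a iY)
    (hZ : RegImm.IsRegularImmersionOfCodim RegImm.Kind.regular b iZ)
    (hcodim : ∀ w : ↥(pullback iY iZ), ((a + b : ℕ) : WithBot ℕ∞) ≤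
      ringKrullDim (X.presheaf.stalk ((pullback.fst iY iZ ≫ iY).base w)))
    (U : X.Opens) (hU : IsAffineOpen U) (n : ℕ) :
    Subsingleton (DRing.Tor Γ(X, U) (n + 1) (Γ(X, U) ⧸ RingHom.ker (iY.app U).hom)
      (Γ(X, U) ⧸ RingHom.ker (iZ.app U).hom)) := by
  apply Groth.Agent.Lib.CMInter.tor_quot_subsingleton
  intro p hp hIp hJp
  have hxU := fromSpec_mem hU ⟨p, hp⟩
  have hQ := primeIdealOf_fromSpec hU ⟨p, hp⟩
  have hxY : hU.fromSpec ⟨p, hp⟩ ∈ Set.range iY :=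
    mem_range_of_ker_le iY hU _ hxU (by rw [hQ]; exact hIp)
  have hxZ : hU.fromSpec ⟨p, hp⟩ ∈ Set.range iZ :=
    mem_range_of_ker_le iZ hU _ hxU (by rw [hQ]; exact hJp)
  obtain ⟨fs, gs, hfl, hgl, hfI, hgJ, hgreg, hreg⟩ :=
    local_data hCM iY iZ a b hY hZ hcodim hU _ hxU hxY hxZ
  letI := TopCat.Presheaf.algebra_section_stalk X.presheaf (⟨hU.fromSpec ⟨p, hp⟩, hxU⟩ : U)
  have hloc : IsLocalization.AtPrime (X.presheaf.stalk (hU.fromSpec ⟨p, hp⟩)) p := by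
    have h1 := hU.isLocalization_stalk ⟨hU.fromSpec ⟨p, hp⟩, hxU⟩
    rw [hQ] at h1
    exact h1
  exact ⟨X.presheaf.stalk (hU.fromSpec ⟨p, hp⟩), inferInstance, inferInstance, hloc, fs, gs,
    hfI, hgJ, hgreg, hreg⟩

theorem main15825 {X Y Z : Scheme.{u}}
    [IsLocallyNoetherian X] (hCM : ∀ x : X, LocCoh.IsCohenMacaulayLocalRing (X.presheaf.stalk x))
    (iY : Y ⟶ X) (iZ : Z ⟶ X) [IsClosedImmersion iY] [IsClosedImmersion iZ] (a b : ℕ)
    (hY : RegImm.IsRegularImmersionOfCodim RegImm.Kind.regular a iY)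
    (hZ : RegImm.IsRegularImmersionOfCodim RegImm.Kind.regular b iZ)
    (hcodim : ∀ w : ↥(pullback iY iZ), ((a + b : ℕ) : WithBot ℕ∞) ≤
      ringKrullDim (X.presheaf.stalk ((pullback.fst iY iZ ≫ iY).base w))) :
    RegImm.IsRegularImmersionOfCodim RegImm.Kind.regular (a + b) (pullback.fst iY iZ ≫ iY) ∧
      ∀ (U : X.Opens), IsAffineOpen U → ∀ (i : ℕ), 0 < i →
        Subsingleton (@DRing.Tor Γ(X, U) _ i Γ(Y, iY ⁻¹ᵁ U) Γ(Z, iZ ⁻¹ᵁ U) _
          (iY.app U).hom.toModule _ (iZ.app U).hom.toModule) := by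
  refine ⟨⟨inferInstance, fun w => ?_⟩, fun U hU i hi => ?_⟩
  · have hxY : (pullback.fst iY iZ ≫ iY) w ∈ Set.range iY := ⟨pullback.fst iY iZ w, rfl⟩
    have hxZ : (pullback.fst iY iZ ≫ iY) w ∈ Set.range iZ := by
      refine ⟨pullback.snd iY iZ w, ?_⟩
      have h1 : (pullback.snd iY iZ ≫ iZ) w = (pullback.fst iY iZ ≫ iY) w := by
        rw [pullback.condition]
      exact h1
    exact part1 hCM iY iZ a b hY hZ hcodim (pullback.fst iY iZ ≫ iY) (ker_pullback iY iZ) w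
      hxY hxZ
  · obtain ⟨n, rfl⟩ : ∃ n, i = n + 1 := ⟨i - 1, by omega⟩
    letI mY : Module Γ(X, U) Γ(Y, iY ⁻¹ᵁ U) := (iY.app U).hom.toModule
    letI mZ : Module Γ(X, U) Γ(Z, iZ ⁻¹ᵁ U) := (iZ.app U).hom.toModule
    have hsY : Function.Surjective (iY.app U).hom :=
      fun t => Groth.Agent.KerStalk.app_surjective_of_restrict iY U hU t
    have hsZ : Function.Surjective (iZ.app U).hom :=
      fun t => Groth.Agent.KerStalk.app_surjective_of_restrict iZ U hU t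
    haveI := part2 hCM iY iZ a b hY hZ hcodim U hU n
    let eY := Groth.Agent.Lib.CMInter.quotKerEquivToModule (iY.app U).hom hsY
    let eZ := Groth.Agent.Lib.CMInter.quotKerEquivToModule (iZ.app U).hom hsZ
    let j : ((Tor (ModuleCat.{u} Γ(X, U)) (n + 1)).obj
          (ModuleCat.of Γ(X, U) (Γ(X, U) ⧸ RingHom.ker (iY.app U).hom))).obj
          (ModuleCat.of Γ(X, U) (Γ(X, U) ⧸ RingHom.ker (iZ.app U).hom)) ≅
        ((Tor (ModuleCat.{u} Γ(X, U)) (n + 1)).obj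
          (ModuleCat.of Γ(X, U) Γ(Y, iY ⁻¹ᵁ U))).obj (ModuleCat.of Γ(X, U) Γ(Z, iZ ⁻¹ᵁ U)) :=
      ((Tor (ModuleCat.{u} Γ(X, U)) (n + 1)).mapIso eY.toModuleIso).app _ ≪≫
        ((Tor (ModuleCat.{u} Γ(X, U)) (n + 1)).obj _).mapIso eZ.toModuleIso
    exact j.symm.toLinearEquiv.toEquiv.subsingleton

end Groth.Agent.Lib.CMInterSch
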