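import Mathlib
import Groth.Agent.Lib.LocalCrit3_helper9

/-!
# Bookkeeping around quotients for the local criterion
-/

namespace Groth.Agent.Lib.LocalCrit5

open TensorProduct

universe u

/-- `(R/I) ⊗_R S ≃ S/IS` as `R/I`-modules. -/
noncomputable def quotTensorEquiv {R S : Type*} [CommRing R] [CommRing S] [Algebra R S]
    (I : Ideal R) : ((R ⧸ I) ⊗[R] S) ≃ₗ[R ⧸ I] (S ⧸ I.map (algebraMap R S)) :=
  LinearEquiv.extendScalarsOfSurjective (Ideal.Quotient.mk_surjective (I := I))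
    ((TensorProduct.comm R (R ⧸ I) S) ≪≫ₗ
      ((Ideal.qoutMapEquivTensorQout (R := R) S (I := I)).symm.restrictScalars R))

lemma flat_tensor_iff_flat_quot {R S : Type*} [CommRing R] [CommRing S] [Algebra R S]
    (I : Ideal R) :
    Module.Flat (R ⧸ I) ((R ⧸ I) ⊗[R] S) ↔ Module.Flat (R ⧸ I) (S ⧸ I.map (algebraMap R S)) :=
  ⟨fun _ => Module.Flat.of_linearEquiv (quotTensorEquiv I).symm,
   fun _ => Module.Flat.of_linearEquiv (quotTensorEquiv I)⟩

end Groth.Agent.Lib.LocalCrit5
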