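import Mathlib
import Groth.Agent.Lib.LocalCrit5_helper9
import Groth.Agent.Lib.ComplReg_helper3
import Groth.Prelude.Def_FSch3

/-!
# Flatness of maps between completed rings of fractions (helper3)
-/

set_option autoImplicit false

namespace Groth.Agent.Lib.ComplFlatH3

universe u

open TensorProduct

/-- Base change along a surjection, recognised on a quotient-like presentation. -/
theorem flat_of_quotient_like {P C T N : Type u} [CommRing P] [CommRing C] [Algebra P C]
    [AddCommGroup T] [Module P T] [Module.Flat P T]
    [AddCommGroup N] [Module P N] [Module C N] [IsScalarTower P C N]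
    (hC : Function.Surjective (algebraMap P C)) (π : T →ₗ[P] N) (hπ : Function.Surjective π)
    (hker : ∀ t, π t = 0 → t ∈ (RingHom.ker (algebraMap P C)) • (⊤ : Submodule P T)) :
    Module.Flat C N := by
  refine Module.Flat.isBaseChange P C T N (f := π) ?_
  refine IsBaseChange.of_lift_unique π fun Q _ _ _ _ g => ?_
  have hle : LinearMap.ker π ≤ LinearMap.ker g := by
    intro t ht
    have := hker t ht
    refine Submodule.smul_induction_on this ?_ ?_
    · intro κ hκ t _
      rw [LinearMap.mem_ker, map_smul, ← algebraMap_smul C κ (g t), (RingHom.mem_ker).1 hκ,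
        zero_smul]
    · intro x y hx hy; exact Submodule.add_mem _ hx hy
  have hwd : ∀ t₁ t₂, π t₁ = π t₂ → g t₁ = g t₂ := by
    intro t₁ t₂ h
    have h0 : t₁ - t₂ ∈ LinearMap.ker g := hle (by rw [LinearMap.mem_ker, map_sub, h, sub_self])
    have : t₁ = t₂ + (t₁ - t₂) := by abel
    rw [this, map_add, (LinearMap.mem_ker).1 h0, add_zero]
  let g₀ : N →ₗ[P] Q :=
    { toFun := fun n => g (Function.surjInv hπ n)
      map_add' := fun a b => by
        rw [← map_add]
        exact hwd _ _ (by rw [map_add, Function.surjInv_eq hπ, Function.surjInv_eq hπ,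
          Function.surjInv_eq hπ])
      map_smul' := fun c a => by
        rw [RingHom.id_apply, ← map_smul]
        exact hwd _ _ (by rw [map_smul, Function.surjInv_eq hπ, Function.surjInv_eq hπ]) }
  have hg₀ : ∀ t, g₀ (π t) = g t := by
    intro t
    exact hwd _ _ (Function.surjInv_eq hπ _)
  refine ⟨LinearMap.extendScalarsOfSurjective hC g₀, ?_, ?_⟩
  · ext t
    simp [hg₀]
  · intro g' hg'
    ext n
    obtain ⟨t, rfl⟩ := hπ n
    have := LinearMap.congr_fun hg' t
    simp only [LinearMap.comp_apply, LinearMap.restrictScalars_apply] at this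
    simp [this, hg₀]

/-- Local criterion, packaged for maps of "completions". -/
theorem flat_of_complete_like {P R T : Type u} [CommRing P] [CommRing R] [CommRing T]
    [IsNoetherianRing R] [IsNoetherianRing T]
    [Algebra P R] [Algebra R T] [Algebra P T] [IsScalarTower P R T] [Module.Flat P T]
    (𝔧 : Ideal P) (hjac : 𝔧.map (algebraMap P T) ≤ Ideal.jacobson ⊥)
    (hsurj : ∀ n : ℕ, ∀ x : R, ∃ p : P, x - algebraMap P R p ∈ (𝔧.map (algebraMap P R)) ^ n) :
    Module.Flat R T := by
  refine Groth.Agent.Lib.LocalCrit3.flat_of_forall_flat_quot_pow (S := T)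
    (𝔧.map (algebraMap P R)) ?_ T fun n => ?_
  · rw [Ideal.map_map, ← IsScalarTower.algebraMap_eq]; exact hjac
  rw [Groth.Agent.Lib.LocalCrit5.flat_tensor_iff_flat_quot]
  obtain ⟨K, hK⟩ : ∃ K : Ideal R, K = (𝔧.map (algebraMap P R)) ^ (n + 1) := ⟨_, rfl⟩
  rw [← hK]
  haveI : IsScalarTower P (R ⧸ K) (T ⧸ K.map (algebraMap R T)) := by
    refine IsScalarTower.of_algebraMap_eq fun p => ?_
    rw [IsScalarTower.algebraMap_apply P R (R ⧸ K),
      IsScalarTower.algebraMap_apply P T (T ⧸ K.map (algebraMap R T)),
      IsScalarTower.algebraMap_apply P R T,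
      ← IsScalarTower.algebraMap_apply R (R ⧸ K) (T ⧸ K.map (algebraMap R T)),
      IsScalarTower.algebraMap_apply R T (T ⧸ K.map (algebraMap R T))]
  have h2 : K.map (algebraMap R T) = (𝔧 ^ (n + 1)).map (algebraMap P T) := by
    rw [hK, ← Ideal.map_pow, Ideal.map_map, ← IsScalarTower.algebraMap_eq]
  have h3 : 𝔧 ^ (n + 1) ≤ RingHom.ker (algebraMap P (R ⧸ K)) := by
    intro κ hκ
    rw [RingHom.mem_ker, IsScalarTower.algebraMap_apply P R (R ⧸ K), Ideal.Quotient.algebraMap_eq,
      Ideal.Quotient.eq_zero_iff_mem, hK, ← Ideal.map_pow]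
    exact Ideal.mem_map_of_mem _ hκ
  refine flat_of_quotient_like (P := P) (C := R ⧸ K) (T := T) (N := T ⧸ K.map (algebraMap R T))
    ?_ ((Ideal.Quotient.mkₐ P (K.map (algebraMap R T))).toLinearMap) ?_ ?_
  · intro y
    obtain ⟨x, rfl⟩ := Ideal.Quotient.mk_surjective y
    obtain ⟨p, hp⟩ := hsurj (n + 1) x
    refine ⟨p, ?_⟩
    rw [IsScalarTower.algebraMap_apply P R (R ⧸ K), Ideal.Quotient.algebraMap_eq,
      Ideal.Quotient.eq, hK, ← neg_sub]
    exact neg_mem hp
  · exact Ideal.Quotient.mk_surjective
  · intro t ht
    have h1 : t ∈ K.map (algebraMap R T) := Ideal.Quotient.eq_zero_iff_mem.1 ht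
    rw [h2] at h1
    have h4 : t ∈ (𝔧 ^ (n + 1)) • (⊤ : Submodule P T) := by
      rw [Ideal.smul_top_eq_map]; exact h1
    exact Submodule.smul_mono_left h3 h4

set_option backward.isDefEq.respectTransparency false in
theorem complMap_of {S T : Type u} [CommRing S] [CommRing T] (I : Ideal S) (K : Ideal T)
    (g : S →+* T) (h : I.map g ≤ K) (x : S) :
    FSch.complMap I K g h (AdicCompletion.of I S x) = AdicCompletion.of K T (g x) := by
  apply AdicCompletion.ext_evalₐ
  intro m
  rw [FSch.complMap, AdicCompletion.evalₐ_liftRingHom]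
  · simp
  · intro m n hle
    apply RingHom.ext
    intro x
    obtain ⟨y, rfl⟩ := AdicCompletion.mk_surjective I S x
    simp only [RingHom.coe_comp, Function.comp_apply, AlgHom.toRingHom_eq_coe,
      AlgHom.coe_toRingHom, AdicCompletion.evalₐ_mk, Ideal.quotientMap_mk,
      Ideal.Quotient.factorPow, Ideal.Quotient.factor_mk]
    rw [Ideal.Quotient.eq]
    have hy := y.2 hle
    rw [SModEq.sub_mem] at hy
    simp only [smul_eq_mul, Ideal.mul_top] at hy
    rw [← map_sub]
    have hy' : (y : ℕ → S) n - (y : ℕ → S) m ∈ I ^ m := by
      rw [← neg_sub]; exact (I ^ m).neg_mem hy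
    exact FSch.pow_le_comap_pow_of_map_le I K g h m hy'

/-- Approximation of elements of the completion modulo powers of the extended ideal. -/
theorem exists_sub_mem_pow {P : Type u} [CommRing P] (𝔧 : Ideal P) (fg : 𝔧.FG) (n : ℕ)
    (x : AdicCompletion 𝔧 P) :
    ∃ p : P, x - algebraMap P (AdicCompletion 𝔧 P) p ∈
      (𝔧.map (algebraMap P (AdicCompletion 𝔧 P))) ^ n := by
  obtain ⟨p, hp⟩ := Submodule.Quotient.mk_surjective _ (AdicCompletion.eval 𝔧 P n x)
  refine ⟨p, ?_⟩
  have h1 : x - AdicCompletion.of 𝔧 P p ∈ LinearMap.ker (AdicCompletion.eval 𝔧 P n) := by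
    rw [LinearMap.mem_ker, map_sub, AdicCompletion.eval_of, Submodule.mkQ_apply, hp, sub_self]
  rw [← AdicCompletion.pow_smul_top_eq_ker_eval fg, Ideal.smul_top_eq_map] at h1
  rw [← Ideal.map_pow, AdicCompletion.algebraMap_apply]
  exact h1

theorem main (A : Type u) [CommRing A] [IsNoetherianRing A] (J : Ideal A) (S' S : Submonoid A)
    (hS : S' ≤ S) (g : Localization S' →+* Localization S)
    (hg : g.comp (algebraMap A (Localization S')) = algebraMap A (Localization S))
    (hJ : (J.map (algebraMap A (Localization S'))).map g ≤ J.map (algebraMap A (Localization S))) :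
    (FSch.complMap (J.map (algebraMap A (Localization S'))) (J.map (algebraMap A (Localization S)))
      g hJ).Flat := by
  obtain ⟨J', hJ'⟩ : ∃ J' : Ideal (Localization S'), J' = J.map (algebraMap A (Localization S')) :=
    ⟨_, rfl⟩
  obtain ⟨JB, hJB⟩ : ∃ JB : Ideal (Localization S), JB = J.map (algebraMap A (Localization S)) :=
    ⟨_, rfl⟩
  have hJ2 : J'.map g ≤ JB := by rw [hJ', hJB]; exact hJ
  have hgoal : (FSch.complMap J' JB g hJ2).Flat := by
    letI algRT : Algebra (AdicCompletion J' (Localization S')) (AdicCompletion JB (Localization S)) :=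
      (FSch.complMap J' JB g hJ2).toAlgebra
    show Module.Flat (AdicCompletion J' (Localization S')) (AdicCompletion JB (Localization S))
    letI algPB : Algebra (Localization S') (Localization S) := g.toAlgebra
    haveI : IsScalarTower (Localization S') (AdicCompletion J' (Localization S'))
        (AdicCompletion JB (Localization S)) := IsScalarTower.of_algebraMap_eq fun p => by
      show AdicCompletion.of JB (Localization S) (g p) =
        FSch.complMap J' JB g hJ2 (AdicCompletion.of J' (Localization S') p)
      exact (complMap_of J' JB g hJ2 p).symm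
    haveI : IsScalarTower A (Localization S') (Localization S) :=
      IsScalarTower.of_algebraMap_eq fun a => (RingHom.congr_fun hg a).symm
    haveI : IsLocalization (S.map (algebraMap A (Localization S'))) (Localization S) :=
      IsLocalization.isLocalization_of_submonoid_le (Localization S') (Localization S) S' S hS
    haveI : Module.Flat (Localization S') (Localization S) :=
      IsLocalization.flat (Localization S) (S.map (algebraMap A (Localization S')))
    haveI : IsNoetherianRing (Localization S') :=
      IsLocalization.isNoetherianRing S' (Localization S') inferInstance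
    haveI : IsNoetherianRing (Localization S) :=
      IsLocalization.isNoetherianRing S (Localization S) inferInstance
    haveI : Module.Flat (Localization S) (AdicCompletion JB (Localization S)) :=
      AdicCompletion.flat_of_isNoetherian JB
    haveI : IsScalarTower (Localization S') (Localization S)
        (AdicCompletion JB (Localization S)) := IsScalarTower.of_algebraMap_eq fun p => rfl
    haveI : Module.Flat (Localization S') (AdicCompletion JB (Localization S)) :=
      Module.Flat.trans (Localization S') (Localization S) (AdicCompletion JB (Localization S))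
    haveI := Groth.Agent.Lib.ComplRegH3.isNoetherianRing_adicCompletion (Localization S') J'
    haveI := Groth.Agent.Lib.ComplRegH3.isNoetherianRing_adicCompletion (Localization S) JB
    refine flat_of_complete_like (P := Localization S') J' ?_ ?_
    · have fg : JB.FG := IsNoetherian.noetherian JB
      haveI := AdicCompletion.isAdicComplete_self JB fg
      have h1 : J'.map (algebraMap (Localization S') (AdicCompletion JB (Localization S))) ≤
          JB.map (algebraMap (Localization S) (AdicCompletion JB (Localization S))) := by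
        rw [IsScalarTower.algebraMap_eq (Localization S') (Localization S)
          (AdicCompletion JB (Localization S)), ← Ideal.map_map]
        exact Ideal.map_mono hJ2
      exact h1.trans (IsAdicComplete.le_jacobson_bot _)
    · intro n x
      exact exists_sub_mem_pow J' (IsNoetherian.noetherian J') n x
  subst hJ' hJB
  exact hgoal

end Groth.Agent.Lib.ComplFlatH3
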