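import Mathlib
import Groth.Prelude.Def_Found

/-!
# Faithfully flat descent of N-1 (helper3)
APPEND-ONLY once landed.

If `R` is a domain and `S` is a faithfully flat, Noetherian, reduced `R`-algebra all of whose
prime quotients are N-1, then `R` is N-1.
-/

set_option autoImplicit false
universe u

namespace Groth.Agent.Lib.N1DescentH3

open Pointwise

section General

variable (R S : Type u) [CommRing R] [IsDomain R] [CommRing S] [Algebra R S]

instance primeOfMin (q : minimalPrimes S) : q.1.IsPrime := q.2.1.1

section Flat

variable [Module.Flat R S]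

theorem algebraMap_mem_nonZeroDivisors {r : R} (hr : r ≠ 0) :
    algebraMap R S r ∈ nonZeroDivisors S := by
  have h1 : IsSMulRegular S r :=
    Module.Flat.isSMulRegular_of_nonZeroDivisors (mem_nonZeroDivisors_of_ne_zero hr)
  rw [mem_nonZeroDivisors_iff_right]
  intro s hs
  apply h1
  show r • s = r • (0 : S)
  rw [smul_zero, Algebra.smul_def, mul_comm]
  exact hs

theorem injective_toFrac (q : minimalPrimes S) :
    Function.Injective ((algebraMap S (FractionRing (S ⧸ q.1))).comp (algebraMap R S)) := by
  rw [injective_iff_map_eq_zero]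
  intro r hr
  by_contra hne
  have h1 := algebraMap_mem_nonZeroDivisors R S hne
  have h2 : algebraMap R S r ∈ q.1 := by
    rw [RingHom.comp_apply,
      IsScalarTower.algebraMap_apply S (S ⧸ q.1) (FractionRing (S ⧸ q.1))] at hr
    have := (IsFractionRing.injective (S ⧸ q.1) (FractionRing (S ⧸ q.1)))
      (hr.trans (map_zero _).symm)
    exact Ideal.Quotient.eq_zero_iff_mem.1 this
  exact Set.disjoint_left.1 (Ideal.disjoint_nonZeroDivisors_of_mem_minimalPrimes q.2) h2 h1

noncomputable def psi (q : minimalPrimes S) : FractionRing R →+* FractionRing (S ⧸ q.1) :=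
  IsFractionRing.lift (injective_toFrac R S q)

theorem psi_algebraMap (q : minimalPrimes S) (r : R) :
    psi R S q (algebraMap R (FractionRing R) r) =
      algebraMap S (FractionRing (S ⧸ q.1)) (algebraMap R S r) :=
  IsFractionRing.lift_algebraMap _ r

end Flat

noncomputable def N : Submodule S (∀ q : minimalPrimes S, FractionRing (S ⧸ q.1)) :=
  Submodule.pi Set.univ fun q =>
    (integralClosure (S ⧸ q.1) (FractionRing (S ⧸ q.1))).toSubmodule.restrictScalars S

theorem N_fg [IsNoetherianRing S] (h : ∀ (q : Ideal S) [q.IsPrime], CAlg.IsN1 (S ⧸ q)) :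
    (N S).FG := by
  haveI : Finite (minimalPrimes S) := (minimalPrimes.finite_of_isNoetherianRing S).to_subtype
  apply Submodule.fg_pi
  intro q
  apply Submodule.FG.restrictScalars
  exact (Module.Finite.iff_fg).1 (h q.1)

theorem injective_algebraMap_pi [IsReduced S] :
    Function.Injective (algebraMap S (∀ q : minimalPrimes S, FractionRing (S ⧸ q.1))) := by
  rw [injective_iff_map_eq_zero]
  intro s hs
  have h1 : s ∈ sInf (minimalPrimes S) := by
    rw [Submodule.mem_sInf]
    intro (q : Ideal S) hq
    have h2 := congrFun hs ⟨q, hq⟩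
    rw [Pi.algebraMap_apply, Pi.zero_apply,
      IsScalarTower.algebraMap_apply S (S ⧸ q) (FractionRing (S ⧸ q))] at h2
    haveI : Ideal.IsPrime q := hq.1.1
    have := (IsFractionRing.injective (S ⧸ q) (FractionRing (S ⧸ q)))
      (h2.trans (map_zero _).symm)
    exact Ideal.Quotient.eq_zero_iff_mem.1 this
  rw [minimalPrimes, Ideal.sInf_minimalPrimes] at h1
  have h3 : (⊥ : Ideal S).radical = ⊥ := by
    have := nilradical_eq_zero S
    rw [nilradical] at this
    exact this
  rw [h3] at h1
  exact h1

theorem isN1_of_faithfullyFlat [Module.FaithfullyFlat R S] [IsNoetherianRing S] [IsReduced S]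
    (h : ∀ (q : Ideal S) [q.IsPrime], CAlg.IsN1 (S ⧸ q)) : CAlg.IsN1 R := by
  classical
  obtain ⟨Ψ, hΨ⟩ : ∃ Ψ : FractionRing R →+* (∀ q : minimalPrimes S, FractionRing (S ⧸ q.1)),
      Ψ = Pi.ringHom (psi R S) := ⟨_, rfl⟩
  have hΨalg : ∀ r : R, Ψ (algebraMap R (FractionRing R) r) =
      algebraMap S (∀ q : minimalPrimes S, FractionRing (S ⧸ q.1)) (algebraMap R S r) := by
    intro r
    funext q
    rw [hΨ]
    exact psi_algebraMap R S q r
  have hΔ := injective_algebraMap_pi S
  have hsmul : ∀ (d : R) (x : FractionRing R), algebraMap R S d • Ψ x = Ψ (d • x) := by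
    intro d x
    rw [Algebra.smul_def, Algebra.smul_def, map_mul, hΨalg]
  have hTN : Submodule.span S
      (Ψ '' (integralClosure R (FractionRing R) : Set (FractionRing R))) ≤ N S := by
    rw [Submodule.span_le]
    rintro _ ⟨x, hx, rfl⟩
    rw [SetLike.mem_coe, N, Submodule.mem_pi]
    intro q _
    show Ψ x q ∈ integralClosure (S ⧸ q.1) (FractionRing (S ⧸ q.1))
    rw [hΨ]
    show psi R S q x ∈ integralClosure (S ⧸ q.1) (FractionRing (S ⧸ q.1))
    refine IsIntegral.map_of_comp_eq ((Ideal.Quotient.mk q.1).comp (algebraMap R S))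
      (psi R S q) ?_ hx
    ext r
    rw [RingHom.comp_apply, RingHom.comp_apply, RingHom.comp_apply, psi_algebraMap,
      IsScalarTower.algebraMap_apply S (S ⧸ q.1) (FractionRing (S ⧸ q.1))]
    rfl
  have hT := Submodule.FG.of_le (N_fg S h) hTN
  obtain ⟨s', hs'sub, hs'span⟩ := (Submodule.fg_span_iff_fg_span_finset_subset _).1 hT
  obtain ⟨t, htsub, hts'⟩ := Finset.subset_set_image_iff.1 hs'sub
  have hmain : ∀ x ∈ integralClosure R (FractionRing R),
      x ∈ Submodule.span R (t : Set (FractionRing R)) := by
    intro x hx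
    obtain ⟨d, hd⟩ := IsLocalization.exist_integer_multiples_of_finset (nonZeroDivisors R)
      (insert x t)
    have hd0 : (d : R) ≠ 0 := nonZeroDivisors.ne_zero d.2
    obtain ⟨I₀, hI₀⟩ : ∃ I₀ : Ideal R, I₀ = Submodule.comap (Algebra.linearMap R (FractionRing R))
        ((d : R) • Submodule.span R (t : Set (FractionRing R))) := ⟨_, rfl⟩
    have hclaim : ∀ y ∈ Submodule.span S (Ψ '' (t : Set (FractionRing R))),
        algebraMap R S (d : R) • y ∈ Submodule.map
          (Algebra.linearMap S (∀ q : minimalPrimes S, FractionRing (S ⧸ q.1)))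
          (I₀.map (algebraMap R S)) := by
      intro y hy
      induction hy using Submodule.span_induction with
      | mem y hy =>
        obtain ⟨m, hm, rfl⟩ := hy
        obtain ⟨r, hr⟩ := hd m (Finset.mem_insert_of_mem hm)
        have hrI : r ∈ I₀ := by
          rw [hI₀, Submodule.mem_comap, Algebra.linearMap_apply, hr]
          exact Submodule.smul_mem_pointwise_smul _ _ _ (Submodule.subset_span hm)
        rw [hsmul]
        have : ((d : R) • m : FractionRing R) = algebraMap R (FractionRing R) r := hr.symm
        rw [this, hΨalg]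
        exact Submodule.mem_map_of_mem (Ideal.mem_map_of_mem _ hrI)
      | zero => rw [smul_zero]; exact zero_mem _
      | add y z _ _ hy hz => rw [smul_add]; exact add_mem hy hz
      | smul c y _ hy => rw [smul_comm]; exact Submodule.smul_mem _ _ hy
    have hΨx : Ψ x ∈ Submodule.span S (Ψ '' (t : Set (FractionRing R))) := by
      have h1 : Ψ x ∈ Submodule.span S
          (Ψ '' (integralClosure R (FractionRing R) : Set (FractionRing R))) :=
        Submodule.subset_span ⟨x, hx, rfl⟩
      rw [hs'span, ← hts', Finset.coe_image] at h1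
      exact h1
    obtain ⟨a, ha⟩ := hd x (Finset.mem_insert_self x t)
    have h2 := hclaim _ hΨx
    rw [hsmul] at h2
    have ha' : ((d : R) • x : FractionRing R) = algebraMap R (FractionRing R) a := ha.symm
    rw [ha', hΨalg] at h2
    obtain ⟨s, hs, hse⟩ := h2
    have hs' : s = algebraMap R S a := hΔ hse
    rw [hs'] at hs
    have ha2 : a ∈ (I₀.map (algebraMap R S)).comap (algebraMap R S) := hs
    rw [Ideal.comap_map_eq_self_of_faithfullyFlat, hI₀, Submodule.mem_comap,
      Algebra.linearMap_apply, Submodule.mem_smul_pointwise_iff_exists] at ha2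
    obtain ⟨m, hm, hme⟩ := ha2
    have : m = x := by
      have h3 : ((d : R) • m : FractionRing R) = (d : R) • x := hme.trans ha
      rw [Algebra.smul_def, Algebra.smul_def] at h3
      have h4 : algebraMap R (FractionRing R) (d : R) ≠ 0 := by
        rw [Ne, map_eq_zero_iff _ (IsFractionRing.injective R (FractionRing R))]
        exact hd0
      exact mul_left_cancel₀ h4 h3
    rw [← this]
    exact hm
  have heq : (integralClosure R (FractionRing R)).toSubmodule =
      Submodule.span R (t : Set (FractionRing R)) := by
    apply le_antisymm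
    · intro x hx
      exact hmain x hx
    · rw [Submodule.span_le]
      exact htsub
  show Module.Finite R (integralClosure R (FractionRing R))
  have hfg : ((integralClosure R (FractionRing R)).toSubmodule).FG := by
    rw [heq]
    exact ⟨t, rfl⟩
  exact (Module.Finite.iff_fg (N := (integralClosure R (FractionRing R)).toSubmodule)).2 hfg

end General

end Groth.Agent.Lib.N1DescentH3
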