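import Mathlib
import Groth.Agent.Lib.PerfectGR_helper3

/-!
# Making a finitely generated field extension separable by a finite purely inseparable base change
(helper3)

For a finitely generated field extension `L/K` there is a finite purely inseparable extension
`F/K` such that `(F ⊗[K] L)_red` is a field which is geometrically reduced over `F`.
APPEND-ONLY once landed.
-/

set_option autoImplicit false
set_option maxSynthPendingDepth 3
universe u

open TensorProduct

namespace Groth.Agent.Lib.PInsepDescentH3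

section Pow

variable (K L C : Type*) [Field K] [Field L] [Field C] [Algebra K L] [Algebra K C]

theorem includeRight_injective :
    Function.Injective (Algebra.TensorProduct.includeRight : L →ₐ[K] C ⊗[K] L) :=
  Algebra.TensorProduct.includeRight_injective (algebraMap K C).injective

theorem expChar_tensor (q : ℕ) [ExpChar K q] : ExpChar (C ⊗[K] L) q := by
  haveI : ExpChar L q := expChar_of_injective_algebraMap (algebraMap K L).injective q
  exact expChar_of_injective_ringHom
    (f := (Algebra.TensorProduct.includeRight : L →ₐ[K] C ⊗[K] L).toRingHom)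
    (includeRight_injective K L C) q

variable [IsPurelyInseparable K C]

theorem exists_pow_eq (q : ℕ) [ExpChar K q] (x : C ⊗[K] L) :
    ∃ n : ℕ, ∃ l : L, x ^ (q ^ n) = (1 : C) ⊗ₜ[K] l := by
  haveI := expChar_tensor K L C q
  induction x using TensorProduct.induction_on with
  | zero =>
    refine ⟨0, 0, ?_⟩
    simp
  | tmul c l =>
    obtain ⟨n, a, ha⟩ := IsPurelyInseparable.pow_mem K q c
    refine ⟨n, a • l ^ (q ^ n), ?_⟩
    rw [Algebra.TensorProduct.tmul_pow, ← ha, Algebra.algebraMap_eq_smul_one,
      TensorProduct.smul_tmul]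
  | add x y hx hy =>
    obtain ⟨n, l₁, h₁⟩ := hx
    obtain ⟨m, l₂, h₂⟩ := hy
    refine ⟨n + m, l₁ ^ (q ^ m) + l₂ ^ (q ^ n), ?_⟩
    have e1 : x ^ q ^ (n + m) = (1 : C) ⊗ₜ[K] (l₁ ^ q ^ m) := by
      rw [pow_add, pow_mul, h₁, Algebra.TensorProduct.tmul_pow, one_pow]
    have e2 : y ^ q ^ (n + m) = (1 : C) ⊗ₜ[K] (l₂ ^ q ^ n) := by
      rw [add_comm n m, pow_add, pow_mul, h₂, Algebra.TensorProduct.tmul_pow, one_pow]
    rw [add_pow_expChar_pow, e1, e2, TensorProduct.tmul_add]

theorem nilradical_isMaximal : (nilradical (C ⊗[K] L)).IsMaximal := by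
  obtain ⟨q, hq⟩ := ExpChar.exists K
  haveI : Nontrivial (C ⊗[K] L) := (includeRight_injective K L C).nontrivial
  rw [Ideal.isMaximal_iff]
  constructor
  · intro h
    rw [mem_nilradical] at h
    exact not_isNilpotent_one h
  · intro J x hNJ hxN hxJ
    obtain ⟨n, l, hl⟩ := exists_pow_eq K L C q x
    have hl0 : l ≠ 0 := by
      rintro rfl
      rw [TensorProduct.tmul_zero] at hl
      exact hxN (mem_nilradical.mpr ⟨q ^ n, hl⟩)
    have hunit : IsUnit ((1 : C) ⊗ₜ[K] l) :=
      (isUnit_iff_ne_zero.mpr hl0).map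
        (Algebra.TensorProduct.includeRight : L →ₐ[K] C ⊗[K] L)
    have hmem : (1 : C) ⊗ₜ[K] l ∈ J := by
      rw [← hl]
      exact Ideal.pow_mem_of_mem J hxJ _ (pow_pos (expChar_pos K q) n)
    exact Ideal.eq_top_of_isUnit_mem J hmem hunit ▸ Submodule.mem_top

end Pow

section Finite

variable (K L C : Type*) [Field K] [Field L] [Field C] [Algebra K L] [Algebra K C]

/-- the canonical map `F ⊗ L → C ⊗ L` -/
noncomputable abbrev ι (F : IntermediateField K C) : F ⊗[K] L →ₐ[K] C ⊗[K] L :=
  Algebra.TensorProduct.map F.val (AlgHom.id K L)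

theorem ι_injective (F : IntermediateField K C) : Function.Injective (ι K L C F) :=
  Module.Flat.rTensor_preserves_injective_linearMap (M := L) F.val.toLinearMap F.val.injective

theorem range_ι_mono {F F' : IntermediateField K C} (h : F ≤ F') :
    (ι K L C F).range ≤ (ι K L C F').range := by
  rintro _ ⟨w, rfl⟩
  refine ⟨Algebra.TensorProduct.map (IntermediateField.inclusion h) (AlgHom.id K L) w, ?_⟩
  have hcomp : (ι K L C F').comp
      (Algebra.TensorProduct.map (IntermediateField.inclusion h) (AlgHom.id K L)) = ι K L C F := by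
    apply Algebra.TensorProduct.ext
    · ext a
      simp
    · ext b
      simp
  exact AlgHom.congr_fun hcomp w

variable [Algebra.IsAlgebraic K C]

theorem exists_finite_mem_range (x : C ⊗[K] L) :
    ∃ F : IntermediateField K C, FiniteDimensional K F ∧ x ∈ (ι K L C F).range := by
  induction x using TensorProduct.induction_on with
  | zero => exact ⟨⊥, inferInstance, 0, map_zero _⟩
  | tmul c l =>
    refine ⟨IntermediateField.adjoin K {c}, IntermediateField.adjoin.finiteDimensional
      (Algebra.IsIntegral.isIntegral c), ?_⟩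
    refine ⟨(⟨c, IntermediateField.mem_adjoin_simple_self K c⟩ :
      IntermediateField.adjoin K {c}) ⊗ₜ[K] l, ?_⟩
    change ι K L C (IntermediateField.adjoin K {c}) _ = _
    rw [Algebra.TensorProduct.map_tmul]
    rfl
  | add x y hx hy =>
    obtain ⟨F₁, hF₁, h₁⟩ := hx
    obtain ⟨F₂, hF₂, h₂⟩ := hy
    refine ⟨F₁ ⊔ F₂, IntermediateField.finiteDimensional_sup F₁ F₂, ?_⟩
    exact add_mem (range_ι_mono K L C le_sup_left h₁) (range_ι_mono K L C le_sup_right h₂)

theorem exists_finite_forall_mem_range (G : Finset (C ⊗[K] L)) :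
    ∃ F : IntermediateField K C, FiniteDimensional K F ∧ ∀ g ∈ G, g ∈ (ι K L C F).range := by
  classical
  induction G using Finset.induction_on with
  | empty => exact ⟨⊥, inferInstance, fun g hg => absurd hg (Finset.notMem_empty g)⟩
  | insert a G _ ih =>
    obtain ⟨F₁, hF₁, h₁⟩ := ih
    obtain ⟨F₂, hF₂, h₂⟩ := exists_finite_mem_range K L C a
    refine ⟨F₁ ⊔ F₂, IntermediateField.finiteDimensional_sup F₁ F₂, fun g hg => ?_⟩
    rw [Finset.mem_insert] at hg
    rcases hg with rfl | hg
    · exact range_ι_mono K L C le_sup_right h₂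
    · exact range_ι_mono K L C le_sup_left (h₁ g hg)

end Finite

section Main

variable (K L : Type u) [Field K] [Field L] [Algebra K L]

theorem cancel_includeRight (C : Type u) [Field C] [Algebra K C] (F : IntermediateField K C)
    (w : F ⊗[K] L) :
    Algebra.TensorProduct.cancelBaseChange K F C C L ((1 : C) ⊗ₜ[F] w) = ι K L C F w := by
  induction w using TensorProduct.induction_on with
  | zero => simp
  | tmul f l =>
    rw [Algebra.TensorProduct.cancelBaseChange_tmul, Algebra.TensorProduct.map_tmul,
      Algebra.smul_def, mul_one]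
    rfl
  | add x y hx hy => rw [TensorProduct.tmul_add, map_add, map_add, hx, hy]

/-- key: reducedness of `C ⊗[F] E` -/
theorem isReduced_tensor_quotient (C : Type u) [Field C] [Algebra K C] (F : IntermediateField K C)
    (G : Finset (C ⊗[K] L)) (hG : Ideal.span (G : Set (C ⊗[K] L)) = nilradical (C ⊗[K] L))
    (hF : ∀ g ∈ G, g ∈ (ι K L C F).range) :
    IsReduced (C ⊗[F] ((F ⊗[K] L) ⧸ nilradical (F ⊗[K] L))) := by
  set N_F := nilradical (F ⊗[K] L) with hNF
  let θ := Algebra.TensorProduct.cancelBaseChange K F C C L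
  let π' : C ⊗[F] (F ⊗[K] L) →ₐ[F] C ⊗[F] ((F ⊗[K] L) ⧸ N_F) :=
    Algebra.TensorProduct.map (AlgHom.id F C) (Ideal.Quotient.mkₐ F N_F)
  have hπsurj : Function.Surjective π' :=
    Algebra.TensorProduct.map_surjective _ _ Function.surjective_id
      (Ideal.Quotient.mkₐ_surjective F N_F)
  have hker : RingHom.ker π' = N_F.map
      (Algebra.TensorProduct.includeRight : F ⊗[K] L →ₐ[F] C ⊗[F] (F ⊗[K] L)) := by
    have := Algebra.TensorProduct.lTensor_ker (A := C) (Ideal.Quotient.mkₐ F N_F)
      (Ideal.Quotient.mkₐ_surjective F N_F)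
    have hk : RingHom.ker (Ideal.Quotient.mkₐ F N_F) = N_F := by
      ext x
      rw [RingHom.mem_ker, Ideal.Quotient.mkₐ_eq_mk, Ideal.Quotient.eq_zero_iff_mem]
    rw [hk] at this
    exact this
  -- Claim A
  have hA : N_F.map (Algebra.TensorProduct.includeRight :
      F ⊗[K] L →ₐ[F] C ⊗[F] (F ⊗[K] L)) ≤ nilradical (C ⊗[F] (F ⊗[K] L)) := by
    rw [Ideal.map_le_iff_le_comap]
    intro n hn
    rw [Ideal.mem_comap, mem_nilradical]
    exact (mem_nilradical.mp hn).map _
  -- Claim B
  have hB : nilradical (C ⊗[F] (F ⊗[K] L)) ≤ N_F.map (Algebra.TensorProduct.includeRight :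
      F ⊗[K] L →ₐ[F] C ⊗[F] (F ⊗[K] L)) := by
    intro t ht
    have hθt : θ t ∈ Ideal.span (G : Set (C ⊗[K] L)) := by
      rw [hG, mem_nilradical]
      exact (mem_nilradical.mp ht).map θ
    have key : ∀ z ∈ Ideal.span (G : Set (C ⊗[K] L)), θ.symm z ∈ N_F.map
        (Algebra.TensorProduct.includeRight : F ⊗[K] L →ₐ[F] C ⊗[F] (F ⊗[K] L)) := by
      intro z hz
      induction hz using Submodule.span_induction with
      | mem g hg =>
        obtain ⟨w, hw⟩ := hF g hg
        have hw' : ι K L C F w = g := hw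
        rw [← hw']
        have hgnil : IsNilpotent (ι K L C F w) := by
          rw [← mem_nilradical, ← hG, hw']
          exact Ideal.subset_span hg
        have hwnil : IsNilpotent w := by
          obtain ⟨m, hm⟩ := hgnil
          refine ⟨m, ι_injective K L C F ?_⟩
          rw [map_pow, hm, map_zero]
        rw [← cancel_includeRight K L C F w]
        change θ.symm (θ _) ∈ _
        rw [AlgEquiv.symm_apply_apply]
        exact Ideal.mem_map_of_mem _ (mem_nilradical.mpr hwnil)
      | zero => rw [map_zero]; exact zero_mem _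
      | add a b _ _ ha hb => rw [map_add]; exact add_mem ha hb
      | smul a z _ hz =>
        rw [smul_eq_mul, map_mul]
        exact Ideal.mul_mem_left _ _ hz
    have := key _ hθt
    rwa [AlgEquiv.symm_apply_apply] at this
  constructor
  intro y hy
  obtain ⟨t, rfl⟩ := hπsurj y
  obtain ⟨m, hm⟩ := hy
  have h1 : t ^ m ∈ RingHom.ker π' := by
    rw [RingHom.mem_ker, map_pow]
    exact hm
  rw [hker] at h1
  have h2 : IsNilpotent (t ^ m) := mem_nilradical.mp (hA h1)
  have h3 : IsNilpotent t := by
    obtain ⟨r, hr⟩ := h2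
    exact ⟨m * r, by rw [pow_mul, hr]⟩
  have h4 := hB (mem_nilradical.mpr h3)
  rw [← hker, RingHom.mem_ker] at h4
  exact h4

/-- if `C/F` is purely inseparable with `C` perfect and `C ⊗[F] E` is reduced (`E` a field),
then `E` is geometrically reduced over `F`. -/
theorem isReduced_algebraicClosure_tensor_of_perfect (F C E : Type u) [Field F] [Field C]
    [Field E] [Algebra F C] [Algebra F E] [IsPurelyInseparable F C] [PerfectField C]
    [IsReduced (C ⊗[F] E)] : IsReduced (AlgebraicClosure F ⊗[F] E) := by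
  have hmax2 : (nilradical (C ⊗[F] E)).IsMaximal := nilradical_isMaximal F E C
  rw [nilradical_eq_zero (C ⊗[F] E), Ideal.zero_eq_bot] at hmax2
  haveI : Nontrivial (C ⊗[F] E) := (includeRight_injective F E C).nontrivial
  have hfield : IsField (C ⊗[F] E) := Ring.isField_iff_maximal_bot.mpr hmax2
  letI : Field (C ⊗[F] E) := hfield.toField
  haveI hgr : Algebra.IsGeometricallyReduced C (C ⊗[F] E) :=
    Groth.Agent.Lib.PerfectGRH3.isGeometricallyReduced_of_perfectField _ _
  haveI h2 : IsReduced (AlgebraicClosure C ⊗[C] (C ⊗[F] E)) :=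
    (Algebra.isGeometricallyReduced_field_iff _ _).mp hgr
  haveI : IsScalarTower F C (AlgebraicClosure C) := inferInstance
  haveI h3 : IsReduced (AlgebraicClosure C ⊗[F] E) :=
    isReduced_of_injective
      (Algebra.TensorProduct.cancelBaseChange F C (AlgebraicClosure C)
        (AlgebraicClosure C) E).symm
      (AlgEquiv.injective _)
  haveI : Module.Free F E := Module.Free.of_divisionRing F E
  haveI : Module.Flat F E := Module.Flat.of_free
  exact isReduced_of_injective
    (Algebra.TensorProduct.map
      (IsAlgClosed.lift : AlgebraicClosure F →ₐ[F] AlgebraicClosure C)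
      (AlgHom.id F E))
    (Module.Flat.rTensor_preserves_injective_linearMap _ (RingHom.injective _))

/-- The perfect closure of `K` (inside an algebraic closure), as a type. -/
abbrev Cp : Type u := ↥(perfectClosure K (AlgebraicClosure K))

theorem exists_finite_purelyInseparable [Algebra.EssFiniteType K L] :
    ∃ F : IntermediateField K (Cp K), FiniteDimensional K F ∧
      (nilradical (F ⊗[K] L)).IsMaximal ∧
      IsReduced (AlgebraicClosure F ⊗[F] ((F ⊗[K] L) ⧸ nilradical (F ⊗[K] L))) := by
  haveI : IsNoetherianRing (Cp K ⊗[K] L) := Algebra.EssFiniteType.isNoetherianRing (Cp K) _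
  obtain ⟨G, hG⟩ : (nilradical (Cp K ⊗[K] L)).FG := IsNoetherian.noetherian _
  obtain ⟨F, hFfin, hFG⟩ := exists_finite_forall_mem_range K L (Cp K) G
  haveI : IsPurelyInseparable K F := IsPurelyInseparable.tower_bot K F (Cp K)
  haveI : IsPurelyInseparable F (Cp K) := IsPurelyInseparable.tower_top K F (Cp K)
  have hmax : (nilradical (F ⊗[K] L)).IsMaximal := nilradical_isMaximal K L F
  refine ⟨F, hFfin, hmax, ?_⟩
  haveI := hmax
  letI : Field ((F ⊗[K] L) ⧸ nilradical (F ⊗[K] L)) := Ideal.Quotient.field _
  haveI h1 : IsReduced (Cp K ⊗[F] ((F ⊗[K] L) ⧸ nilradical (F ⊗[K] L))) :=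
    isReduced_tensor_quotient K L (Cp K) F G hG hFG
  exact isReduced_algebraicClosure_tensor_of_perfect F (Cp K)
    ((F ⊗[K] L) ⧸ nilradical (F ⊗[K] L))

end Main

end Groth.Agent.Lib.PInsepDescentH3
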