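import Mathlib
import Groth.Prelude.Def_Found
import Groth.Agent.Lib.RegFlat_helper3
import Groth.Agent.Lib.SmoothReg_helper3
import Groth.Agent.Lib.SmoothRegHom_helper3

/-!
# Pointwise regularity along flat maps; geometrically regular finite type ⇒ smooth (helper3)

* `isRegularLocalRing_of_flat_of_fiber_at`
* `formallySmooth_of_isGeometricallyRegular_finiteType`
APPEND-ONLY once landed.
-/

set_option autoImplicit false
set_option maxSynthPendingDepth 3

namespace Groth.Agent.Lib.RegFlat2H3

open TensorProduct IsLocalRing Groth.Agent.Lib.RegFlatH3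

universe u

theorem isRegularLocalRing_of_flat_of_fiber_at (R S : Type u) [CommRing R] [CommRing S]
    [Algebra R S] [IsNoetherianRing S] [Module.Flat R S] (Q : Ideal S) [Q.IsPrime]
    [IsRegularLocalRing (Localization.AtPrime (Q.under R))]
    [IsRegularRing ((Q.under R).Fiber S)] : IsRegularLocalRing (Localization.AtPrime Q) := by
  let p := Q.under R
  haveI : p.IsPrime := inferInstance
  let Q' : p.primesOver S := ⟨Q, inferInstance, ⟨rfl⟩⟩
  let q := PrimeSpectrum.primesOverOrderIsoFiber R S p Q'
  have hq : q.asIdeal.comap (Algebra.TensorProduct.includeRight : S →ₐ[R] p.Fiber S) = Q := by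
    have := (PrimeSpectrum.primesOverOrderIsoFiber R S p).symm_apply_apply Q'
    rw [← PrimeSpectrum.coe_primesOverOrderIsoFiber_symm_apply]
    exact congrArg Subtype.val this
  have key := isRegularLocalRing_localization_comap R S p q.asIdeal
  have tr : ∀ (r : Ideal S) [r.IsPrime], r = Q →
      IsRegularLocalRing (Localization.AtPrime r) → IsRegularLocalRing (Localization.AtPrime Q) := by
    intro r _ e hreg
    subst e
    exact hreg
  exact tr _ hq key

theorem formallySmooth_of_isGeometricallyRegular_finiteType (k F : Type u) [Field k] [CommRing F]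
    [Algebra k F] [Algebra.FiniteType k F] (h : CAlg.IsGeometricallyRegular k F) :
    Algebra.FormallySmooth k F := by
  haveI : IsNoetherianRing F := Algebra.FiniteType.isNoetherianRing k F
  haveI : Algebra.FinitePresentation k F := Algebra.FinitePresentation.of_finiteType.mp inferInstance
  rw [← Algebra.smoothLocus_eq_univ_iff, Set.eq_univ_iff_forall]
  intro 𝔮
  show Algebra.FormallySmooth k (Localization.AtPrime 𝔮.asIdeal)
  obtain ⟨n, g₀, hg₀⟩ := Algebra.FiniteType.iff_quotient_mvPolynomial''.mp
    (inferInstance : Algebra.FiniteType k F)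
  have hadic := (Groth.Agent.Lib.GeomRegFSH3.isGeometricallyRegular_iff_forall_adic
    (k := k) (S := F)).mp h 𝔮.asIdeal
  haveI : IsNoetherianRing (Localization.AtPrime 𝔮.asIdeal) :=
    IsLocalization.isNoetherianRing 𝔮.asIdeal.primeCompl _ inferInstance
  apply Groth.Agent.Lib.SmoothRegH3.formallySmooth_of_adic_of_poly n
    ((IsScalarTower.toAlgHom k F (Localization.AtPrime 𝔮.asIdeal)).comp g₀) ?_ hadic
  intro s
  obtain ⟨a, b, rfl⟩ := IsLocalization.exists_mk'_eq 𝔮.asIdeal.primeCompl s
  obtain ⟨Fa, rfl⟩ := hg₀ a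
  obtain ⟨G, hG⟩ := hg₀ b.1
  refine ⟨Fa, G, ?_, ?_⟩
  · show IsUnit (algebraMap F (Localization.AtPrime 𝔮.asIdeal) (g₀ G))
    rw [hG]
    exact IsLocalization.map_units _ b
  · show IsLocalization.mk' (Localization.AtPrime 𝔮.asIdeal) (g₀ Fa) b *
      algebraMap F (Localization.AtPrime 𝔮.asIdeal) (g₀ G) =
      algebraMap F (Localization.AtPrime 𝔮.asIdeal) (g₀ Fa)
    rw [hG]
    exact IsLocalization.mk'_spec _ _ _

end Groth.Agent.Lib.RegFlat2H3
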