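import Mathlib
import Groth.Prelude.Def_CAlg
import Groth.Agent.Lib.Depth_helper5

/-!
# Depth and flat base change (helper5)
-/

set_option autoImplicit false
universe u
open scoped TensorProduct

namespace Groth.Agent.DepthLib

open RingTheory.Sequence

variable (A B : Type u) [CommRing A] [CommRing B] [Algebra A B] (I : Ideal A)

/-- flat base change does not decrease depth (no finiteness needed) -/
theorem idealDepth_le_baseChange [Module.Flat A B] (M : Type u) [AddCommGroup M] [Module A M] :
    LocCoh.idealDepth I M ≤ LocCoh.idealDepth (I.map (algebraMap A B)) (B ⊗[A] M) := by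
  rw [← ENat.forall_natCast_le_iff_le]
  intro n hn
  rw [le_idealDepth_iff] at hn ⊢
  rcases hn with h | ⟨rs, h1, h2, h3⟩
  · left
    rw [eq_top_iff]
    rintro y -
    induction y using TensorProduct.induction_on with
    | zero => exact Submodule.zero_mem _
    | add x y hx hy => exact Submodule.add_mem _ hx hy
    | tmul b m =>
      have hm : m ∈ I • (⊤ : Submodule A M) := by rw [h]; trivial
      refine Submodule.smul_induction_on hm ?_ ?_
      · intro a ha m' _
        have : b ⊗ₜ[A] (a • m') = (algebraMap A B a) • (b ⊗ₜ[A] m') := by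
          rw [TensorProduct.tmul_smul, algebraMap_smul]
        rw [this]
        exact Submodule.smul_mem_smul (Ideal.mem_map_of_mem _ ha) Submodule.mem_top
      · intro x y hx hy
        rw [TensorProduct.tmul_add]
        exact Submodule.add_mem _ hx hy
  · right
    refine ⟨rs.map (algebraMap A B), ?_, ?_, ?_⟩
    · exact IsWeaklyRegular.of_flat_of_isBaseChange (TensorProduct.isBaseChange A M B) h1
    · intro r hr
      obtain ⟨a, ha, rfl⟩ := List.mem_map.1 hr
      exact Ideal.mem_map_of_mem _ (h2 a ha)
    · rw [List.length_map, h3]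

variable [IsNoetherianRing A] [IsNoetherianRing B]

/-- faithfully flat base change does not increase depth -/
theorem le_idealDepth_of_baseChange [Module.FaithfullyFlat A B] (n : ℕ) :
    ∀ (M : Type u) [AddCommGroup M] [Module A M] [Module.Finite A M],
      (n : ℕ∞) ≤ LocCoh.idealDepth (I.map (algebraMap A B)) (B ⊗[A] M) →
      (n : ℕ∞) ≤ LocCoh.idealDepth I M := by
  induction n with
  | zero => intro M _ _ _ _; simp
  | succ n ih =>
    intro M _ _ _ hn
    by_cases h1 : 1 ≤ LocCoh.idealDepth I M
    · rw [one_le_idealDepth_iff] at h1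
      rcases h1 with htop | ⟨x, hx, hreg⟩
      · rw [le_idealDepth_iff]
        exact Or.inl htop
      · rw [← le_idealDepth_quotSMulTop_iff I M hx hreg]
        apply ih (QuotSMulTop x M)
        have hregB : IsSMulRegular (B ⊗[A] M) (algebraMap A B x) := by
          have h0 : IsWeaklyRegular M [x] := by
            rw [isWeaklyRegular_cons_iff]
            exact ⟨hreg, IsWeaklyRegular.nil A _⟩
          have := IsWeaklyRegular.of_flat_of_isBaseChange (TensorProduct.isBaseChange A M B) h0
          rw [List.map_cons, isWeaklyRegular_cons_iff] at this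
          exact this.1
        have hxB : algebraMap A B x ∈ I.map (algebraMap A B) := Ideal.mem_map_of_mem _ hx
        rw [← idealDepth_congr _ _ (QuotSMulTop.algebraMapTensorEquivTensorQuotSMulTop x M B),
          le_idealDepth_quotSMulTop_iff _ _ hxB hregB]
        exact hn
    · exfalso
      obtain ⟨q, hq, hIq⟩ := exists_associatedPrime_of_not_one_le I M h1
      obtain ⟨hqprime, m₀, hm₀⟩ := isAssociatedPrime_iff.1 hq
      have hm₀ne : m₀ ≠ 0 := by
        rintro rfl
        apply hqprime.ne_top
        rw [hm₀, Ideal.eq_top_iff_one, Submodule.mem_colon_singleton]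
        simp
      set y : B ⊗[A] M := (1 : B) ⊗ₜ[A] m₀ with hy
      have hyne : y ≠ 0 := by
        intro h0
        apply hm₀ne
        apply Module.FaithfullyFlat.tensorProduct_mk_injective (A := A) (B := B) M
        rw [map_zero]
        exact h0
      obtain ⟨P, hP, hle⟩ := exists_le_isAssociatedPrime_of_isNoetherianRing B y hyne
      have hIP : I.map (algebraMap A B) ≤ P := by
        rw [Ideal.map_le_iff_le_comap]
        intro a ha
        rw [Ideal.mem_comap]
        apply hle
        rw [Submodule.mem_colon_singleton, Submodule.mem_bot, hy, algebraMap_smul,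
          ← TensorProduct.tmul_smul]
        have : a • m₀ = 0 := by
          have := hIq ha
          rw [hm₀, Submodule.mem_colon_singleton, Submodule.mem_bot] at this
          exact this
        rw [this, TensorProduct.tmul_zero]
      have hnot := not_one_le_idealDepth_of_le_associatedPrime (I.map (algebraMap A B))
        (B ⊗[A] M) P hP hIP
      apply hnot
      refine le_trans ?_ hn
      exact_mod_cast Nat.succ_le_succ (Nat.zero_le n)

/-- nonvanishing of `1 ⊗ m₀` when the annihilator prime of `m₀` is a contraction -/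
theorem one_tmul_ne_zero_of_comap [Module.Flat A B] (M : Type u) [AddCommGroup M] [Module A M]
    (q : Ideal A) (m₀ : M) (hq : q = (⊥ : Submodule A M).colon {m₀}) (Q : Ideal B) [Q.IsPrime]
    (hQ : Q.comap (algebraMap A B) = q) : (1 : B) ⊗ₜ[A] m₀ ≠ 0 := by
  have hker : q ≤ LinearMap.ker (LinearMap.toSpanSingleton A M m₀) := by
    intro a ha
    rw [hq, Submodule.mem_colon_singleton, Submodule.mem_bot] at ha
    rw [LinearMap.mem_ker, LinearMap.toSpanSingleton_apply]
    exact ha
  set φ : (A ⧸ q) →ₗ[A] M := Submodule.liftQ q (LinearMap.toSpanSingleton A M m₀) hker with hφ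
  have hφinj : Function.Injective φ := by
    rw [← LinearMap.ker_eq_bot, hφ, Submodule.ker_liftQ_eq_bot']
    apply le_antisymm hker
    intro a ha
    rw [LinearMap.mem_ker, LinearMap.toSpanSingleton_apply] at ha
    rw [hq, Submodule.mem_colon_singleton, Submodule.mem_bot]
    exact ha
  have hinj := Module.Flat.lTensor_preserves_injective_linearMap (M := B) φ hφinj
  have himg : (φ.lTensor B) ((1 : B) ⊗ₜ[A] (1 : A ⧸ q)) = (1 : B) ⊗ₜ[A] m₀ := by
    rw [LinearMap.lTensor_tmul]
    congr 1
    change φ (Submodule.Quotient.mk 1) = m₀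
    rw [hφ, Submodule.liftQ_apply, LinearMap.toSpanSingleton_apply, one_smul]
  intro h0
  rw [← himg] at h0
  have h1 : (1 : B) ⊗ₜ[A] (1 : A ⧸ q) = 0 := hinj (by rw [h0, map_zero])
  -- map to B ⧸ Q
  have hle : q ≤ RingHom.ker (algebraMap A (B ⧸ Q)) := by
    intro a ha
    rw [RingHom.mem_ker, IsScalarTower.algebraMap_apply A B (B ⧸ Q), Ideal.Quotient.algebraMap_eq,
      Ideal.Quotient.eq_zero_iff_mem]
    rw [← hQ] at ha
    exact ha
  let g : (A ⧸ q) →ₐ[A] (B ⧸ Q) := Ideal.Quotient.liftₐ q (Algebra.ofId A (B ⧸ Q)) (by
    intro a ha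
    exact hle ha)
  let ψ : B ⊗[A] (A ⧸ q) →ₐ[A] (B ⧸ Q) :=
    Algebra.TensorProduct.productMap (IsScalarTower.toAlgHom A B (B ⧸ Q)) g
  have hψ : ψ ((1 : B) ⊗ₜ[A] (1 : A ⧸ q)) = 1 := by
    simp [ψ]
  rw [h1, map_zero] at hψ
  exact zero_ne_one hψ

/-- flat base change with `V(I)` in the image of `Spec B` does not increase depth -/
theorem le_idealDepth_of_baseChange' [Module.Flat A B]
    (hI : ∀ p : PrimeSpectrum A, I ≤ p.asIdeal →
      ∃ q : PrimeSpectrum B, q.asIdeal.comap (algebraMap A B) = p.asIdeal) (n : ℕ) :
    ∀ (M : Type u) [AddCommGroup M] [Module A M] [Module.Finite A M],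
      (n : ℕ∞) ≤ LocCoh.idealDepth (I.map (algebraMap A B)) (B ⊗[A] M) →
      (n : ℕ∞) ≤ LocCoh.idealDepth I M := by
  induction n with
  | zero => intro M _ _ _ _; simp
  | succ n ih =>
    intro M _ _ _ hn
    by_cases h1 : 1 ≤ LocCoh.idealDepth I M
    · rw [one_le_idealDepth_iff] at h1
      rcases h1 with htop | ⟨x, hx, hreg⟩
      · rw [le_idealDepth_iff]
        exact Or.inl htop
      · rw [← le_idealDepth_quotSMulTop_iff I M hx hreg]
        apply ih (QuotSMulTop x M)
        have hregB : IsSMulRegular (B ⊗[A] M) (algebraMap A B x) := by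
          have h0 : IsWeaklyRegular M [x] := by
            rw [isWeaklyRegular_cons_iff]
            exact ⟨hreg, IsWeaklyRegular.nil A _⟩
          have := IsWeaklyRegular.of_flat_of_isBaseChange (TensorProduct.isBaseChange A M B) h0
          rw [List.map_cons, isWeaklyRegular_cons_iff] at this
          exact this.1
        have hxB : algebraMap A B x ∈ I.map (algebraMap A B) := Ideal.mem_map_of_mem _ hx
        rw [← idealDepth_congr _ _ (QuotSMulTop.algebraMapTensorEquivTensorQuotSMulTop x M B),
          le_idealDepth_quotSMulTop_iff _ _ hxB hregB]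
        exact hn
    · exfalso
      obtain ⟨q, hq, hIq⟩ := exists_associatedPrime_of_not_one_le I M h1
      obtain ⟨hqprime, m₀, hm₀⟩ := isAssociatedPrime_iff.1 hq
      obtain ⟨Q, hQ⟩ := hI ⟨q, hqprime⟩ hIq
      set y : B ⊗[A] M := (1 : B) ⊗ₜ[A] m₀ with hy
      have hyne : y ≠ 0 := one_tmul_ne_zero_of_comap A B M q m₀ hm₀ Q.asIdeal hQ
      obtain ⟨P, hP, hle⟩ := exists_le_isAssociatedPrime_of_isNoetherianRing B y hyne
      have hIP : I.map (algebraMap A B) ≤ P := by
        rw [Ideal.map_le_iff_le_comap]
        intro a ha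
        rw [Ideal.mem_comap]
        apply hle
        rw [Submodule.mem_colon_singleton, Submodule.mem_bot, hy, algebraMap_smul,
          ← TensorProduct.tmul_smul]
        have : a • m₀ = 0 := by
          have := hIq ha
          rw [hm₀, Submodule.mem_colon_singleton, Submodule.mem_bot] at this
          exact this
        rw [this, TensorProduct.tmul_zero]
      have hnot := not_one_le_idealDepth_of_le_associatedPrime (I.map (algebraMap A B))
        (B ⊗[A] M) P hP hIP
      apply hnot
      refine le_trans ?_ hn
      exact_mod_cast Nat.succ_le_succ (Nat.zero_le n)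

/-- depth is invariant under faithfully flat base change -/
theorem idealDepth_baseChange_eq [Module.FaithfullyFlat A B] (M : Type u) [AddCommGroup M]
    [Module A M] [Module.Finite A M] :
    LocCoh.idealDepth (I.map (algebraMap A B)) (B ⊗[A] M) = LocCoh.idealDepth I M := by
  apply le_antisymm
  · rw [← ENat.forall_natCast_le_iff_le]
    intro n hn
    exact le_idealDepth_of_baseChange A B I n M hn
  · exact idealDepth_le_baseChange A B I M

end Groth.Agent.DepthLib
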