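import Mathlib
import Groth.Prelude.Def_CAlg
import Groth.Agent.Lib.Depth_helper5
import Groth.Agent.Lib.DepthLoc_helper5
import Groth.Agent.Lib.DepthFlat_helper5
import Groth.Agent.Lib.DepthRefl_helper5
import Groth.Agent.Lib.DepthRingChange_helper5

/-!
# Faithfully flat descent of Noetherianity and `(S_k)` (helper5)
-/

set_option autoImplicit false
universe u
open scoped TensorProduct

namespace Groth.Agent.DepthLib

theorem isNoetherianRing_of_faithfullyFlat (R S : Type u) [CommRing R] [CommRing S] [Algebra R S]
    [Module.FaithfullyFlat R S] [IsNoetherianRing S] : IsNoetherianRing R := by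
  have h : IsNoetherian S (S ⊗[R] R) :=
    isNoetherian_of_linearEquiv (TensorProduct.AlgebraTensorModule.rid R S S).symm
  exact Submodule.IsNoetherian.of_isNoetherian_tensorProduct_of_faithfullyFlat h

/-- depth only depends on `V(I)` -/
theorem idealDepth_eq_of_prime_iff {A : Type u} [CommRing A] [IsNoetherianRing A] (M : Type u)
    [AddCommGroup M] [Module A M] [Module.Finite A M] (I J : Ideal A)
    (h : ∀ P : PrimeSpectrum A, I ≤ P.asIdeal ↔ J ≤ P.asIdeal) :
    LocCoh.idealDepth I M = LocCoh.idealDepth J M := by
  rw [idealDepth_eq_iInf I M, idealDepth_eq_iInf J M]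
  apply le_antisymm
  · exact le_iInf₂ fun P hP => iInf₂_le_of_le P ((h P).2 hP) le_rfl
  · exact le_iInf₂ fun P hP => iInf₂_le_of_le P ((h P).1 hP) le_rfl

section
variable (R S : Type u) [CommRing R] [CommRing S] [Algebra R S] [Module.Flat R S]

/-- a minimal prime over `pS` lies over `p` (going down) -/
theorem liesOver_of_mem_minimalPrimes_map (p : Ideal R) [p.IsPrime] (q : Ideal S)
    (hq : q ∈ (p.map (algebraMap R S)).minimalPrimes) : q.LiesOver p := by
  haveI : q.IsPrime := hq.1.1
  have hle : p ≤ q.under R := by
    rw [Ideal.under_def, ← Ideal.map_le_iff_le_comap]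
    exact hq.1.2
  constructor
  by_contra hne
  have hlt : p < q.under R := lt_of_le_of_ne hle hne
  obtain ⟨Q, hQq, hQprime, hQover⟩ := Algebra.HasGoingDown.exists_ideal_le_liesOver_of_lt q hlt
  have hpQ : p.map (algebraMap R S) ≤ Q := by
    rw [Ideal.map_le_iff_le_comap, ← Ideal.under_def, ← hQover.over]
  have hqQ : q ≤ Q := hq.2 ⟨hQprime, hpQ⟩ hQq
  have hQeq : Q = q := le_antisymm hQq hqQ
  subst hQeq
  exact hne hQover.over

variable [IsNoetherianRing R] [IsNoetherianRing S]

theorem depth_localization_eq_of_minimalPrimes (p : Ideal R) [p.IsPrime] (q : Ideal S) [q.IsPrime]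
    [q.LiesOver p] (hq : q ∈ (p.map (algebraMap R S)).minimalPrimes) :
    LocCoh.depth (Localization.AtPrime p) (Localization.AtPrime p) =
      LocCoh.depth (Localization.AtPrime q) (Localization.AtPrime q) := by
  letI := Localization.AtPrime.algebraOfLiesOver p q
  haveI : IsLocalHom (algebraMap (Localization.AtPrime p) (Localization.AtPrime q)) :=
    Localization.isLocalHom_localRingHom p q (algebraMap R S) Ideal.LiesOver.over
  haveI : Module.FaithfullyFlat (Localization.AtPrime p) (Localization.AtPrime q) :=
    Module.FaithfullyFlat.of_flat_of_isLocalHom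
  have hcomp : (algebraMap (Localization.AtPrime p) (Localization.AtPrime q)).comp
      (algebraMap R (Localization.AtPrime p)) =
      (algebraMap S (Localization.AtPrime q)).comp (algebraMap R S) := by
    ext x
    exact Localization.localRingHom_to_map p q (algebraMap R S) Ideal.LiesOver.over x
  have hmap : (IsLocalRing.maximalIdeal (Localization.AtPrime p)).map
      (algebraMap (Localization.AtPrime p) (Localization.AtPrime q)) =
      (p.map (algebraMap R S)).map (algebraMap S (Localization.AtPrime q)) := by
    rw [← Localization.AtPrime.map_eq_maximalIdeal, Ideal.map_map, Ideal.map_map, hcomp]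
  have h1 := idealDepth_baseChange_eq (Localization.AtPrime p) (Localization.AtPrime q)
    (IsLocalRing.maximalIdeal (Localization.AtPrime p)) (Localization.AtPrime p)
  have h2 := idealDepth_congr ((IsLocalRing.maximalIdeal (Localization.AtPrime p)).map
    (algebraMap (Localization.AtPrime p) (Localization.AtPrime q))) _
    (TensorProduct.AlgebraTensorModule.rid (Localization.AtPrime p) (Localization.AtPrime q)
      (Localization.AtPrime q))
  have h3 : LocCoh.idealDepth ((IsLocalRing.maximalIdeal (Localization.AtPrime p)).map
      (algebraMap (Localization.AtPrime p) (Localization.AtPrime q))) (Localization.AtPrime q) =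
      LocCoh.idealDepth (IsLocalRing.maximalIdeal (Localization.AtPrime q))
        (Localization.AtPrime q) := by
    apply idealDepth_eq_of_prime_iff
    intro P'
    constructor
    · intro hP'
      rw [hmap, Ideal.map_le_iff_le_comap] at hP'
      haveI : (P'.asIdeal.comap (algebraMap S (Localization.AtPrime q))).IsPrime :=
        Ideal.comap_isPrime _ _
      have hQq : P'.asIdeal.comap (algebraMap S (Localization.AtPrime q)) ≤ q := by
        have h5 := Ideal.comap_mono (f := algebraMap S (Localization.AtPrime q))
          (IsLocalRing.le_maximalIdeal P'.2.ne_top)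
        have h6 : Ideal.comap (algebraMap S (Localization.AtPrime q))
            (IsLocalRing.maximalIdeal (Localization.AtPrime q)) = q :=
          Localization.AtPrime.comap_maximalIdeal (I := q)
        rwa [h6] at h5
      have hqQ := hq.2 ⟨inferInstance, hP'⟩ hQq
      rw [← Localization.AtPrime.map_eq_maximalIdeal]
      exact le_trans (Ideal.map_mono hqQ) Ideal.map_comap_le
    · intro hP'
      refine le_trans ?_ hP'
      rw [Ideal.map_le_iff_le_comap]
      intro x hx
      exact algebraMap_mem_maximalIdeal _ _ hx
  unfold LocCoh.depth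
  rw [← h1, h2, h3]

theorem hasSk_of_faithfullyFlat (k : ℕ) [Module.FaithfullyFlat R S] (hS : LocCoh.HasSk k S S) :
    LocCoh.HasSk k R R := by
  intro p _
  have hne : p.map (algebraMap R S) ≠ ⊤ := by
    intro htop
    have h1 := Ideal.comap_map_eq_self_of_faithfullyFlat (B := S) p
    rw [htop, Ideal.comap_top] at h1
    exact Ideal.IsPrime.ne_top' h1.symm
  obtain ⟨⟨q, hq⟩⟩ := Ideal.nonempty_minimalPrimes hne
  haveI : q.IsPrime := hq.1.1
  haveI := liesOver_of_mem_minimalPrimes_map R S p q hq
  have h1 := hS q
  rw [supportDim_locSelf, depth_locSelf] at h1 ⊢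
  rw [depth_localization_eq_of_minimalPrimes R S p q hq]
  refine le_trans (min_le_min le_rfl ?_) h1
  rw [Ideal.height_eq_height_add_of_liesOver_of_hasGoingDown p q]
  exact_mod_cast le_self_add

end

end Groth.Agent.DepthLib
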