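import Mathlib

/-!
# Upper semicontinuity of projective dimension (helper7)
-/

set_option autoImplicit false
set_option backward.isDefEq.respectTransparency false
universe u
open CategoryTheory Limits

namespace Groth.Agent.Lib.PDOpenH7

variable (A : Type u) [CommRing A]

/-- the concrete localized module, as an object of `ModuleCat` -/
noncomputable abbrev locObj (S : Submonoid A) (M : Type u) [AddCommGroup M] [Module A M] :
    ModuleCat.{u} (Localization S) :=
  ModuleCat.of (Localization S) (LocalizedModule S M)

theorem hasPDLE_shrink_iff (S : Submonoid A) (M : Type u) [AddCommGroup M] [Module A M] (n : ℕ) :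
    HasProjectiveDimensionLE ((ModuleCat.of A M).localizedModule S) n ↔
      HasProjectiveDimensionLE (locObj A S M) n := by
  let e : (ModuleCat.of A M).localizedModule S ≅ locObj A S M :=
    (Shrink.linearEquiv (Localization S) (LocalizedModule S M)).toModuleIso
  constructor
  · intro h
    exact hasProjectiveDimensionLT_of_iso e _
  · intro h
    exact hasProjectiveDimensionLT_of_iso e.symm _

theorem step (S : Submonoid A) {M : Type u} [AddCommGroup M] [Module A M] {k : ℕ}
    (f : (Fin k → A) →ₗ[A] M) (hf : Function.Surjective f) (n : ℕ) :
    HasProjectiveDimensionLE (locObj A S M) (n + 1) ↔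
      HasProjectiveDimensionLE (locObj A S (LinearMap.ker f)) n := by
  rw [← hasPDLE_shrink_iff, ← hasPDLE_shrink_iff]
  have hT := LinearMap.shortExact_shortComplexKer hf
  have hTS : (f.shortComplexKer.map (ModuleCat.localizedModuleFunctor S)).ShortExact :=
    hT.map_of_exact (ModuleCat.localizedModuleFunctor S)
  have projA : Projective (f.shortComplexKer).X₂ :=
    ModuleCat.projective_of_categoryTheory_projective _
  have proj : Projective (f.shortComplexKer.map (ModuleCat.localizedModuleFunctor S)).X₂ :=
    (ModuleCat.localizedModuleFunctor.{u} S).projective_obj _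
  exact hTS.hasProjectiveDimensionLT_X₃_iff n proj

theorem zero_iff (p : PrimeSpectrum A) (M : Type u) [AddCommGroup M] [Module A M]
    [Module.Finite A M] :
    HasProjectiveDimensionLE (locObj A p.asIdeal.primeCompl M) 0 ↔ p ∈ Module.freeLocus A M := by
  rw [← projective_iff_hasProjectiveDimensionLE_zero, ← IsProjective.iff_projective,
    Module.mem_freeLocus]
  constructor
  · intro h
    haveI : Module.Flat (Localization.AtPrime p.asIdeal)
      (LocalizedModule p.asIdeal.primeCompl M) := inferInstance
    exact Module.free_of_flat_of_isLocalRing
  · intro h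
    infer_instance

variable [IsNoetherianRing A]

theorem isOpen_hasPDLE : ∀ (n : ℕ) (M : Type u) [AddCommGroup M] [Module A M] [Module.Finite A M],
    IsOpen {p : PrimeSpectrum A | HasProjectiveDimensionLE (locObj A p.asIdeal.primeCompl M) n} := by
  intro n
  induction n with
  | zero =>
    intro M _ _ _
    haveI : Module.FinitePresentation A M := Module.finitePresentation_of_finite A M
    have h : {p : PrimeSpectrum A | HasProjectiveDimensionLE (locObj A p.asIdeal.primeCompl M) 0} =
        Module.freeLocus A M := by
      ext p
      exact zero_iff A p M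
    rw [h]
    exact Module.isOpen_freeLocus
  | succ n ih =>
    intro M _ _ _
    obtain ⟨k, f, hf⟩ := Module.Finite.exists_fin' A M
    have h : {p : PrimeSpectrum A |
        HasProjectiveDimensionLE (locObj A p.asIdeal.primeCompl M) (n + 1)} =
        {p : PrimeSpectrum A |
          HasProjectiveDimensionLE (locObj A p.asIdeal.primeCompl (LinearMap.ker f)) n} := by
      ext p
      exact step A p.asIdeal.primeCompl f hf n
    rw [h]
    exact ih (LinearMap.ker f)

theorem main (M : Type u) [AddCommGroup M] [Module A M] [Module.Finite A M] (n : ℕ) :
    IsOpen {p : PrimeSpectrum A |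
      projectiveDimension (ModuleCat.of (Localization.AtPrime p.asIdeal)
        (LocalizedModule p.asIdeal.primeCompl M)) ≤ n} := by
  have h : {p : PrimeSpectrum A |
      projectiveDimension (ModuleCat.of (Localization.AtPrime p.asIdeal)
        (LocalizedModule p.asIdeal.primeCompl M)) ≤ n} =
      {p : PrimeSpectrum A | HasProjectiveDimensionLE (locObj A p.asIdeal.primeCompl M) n} := by
    ext p
    exact projectiveDimension_le_iff _ n
  rw [h]
  exact isOpen_hasPDLE A n M

end Groth.Agent.Lib.PDOpenH7
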