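import Groth.Agent.Lib.Serre_helper5
import Groth.Agent.Lib.ExtDev_helper5
import Groth.Agent.Lib.DepthDescent_helper5
import Groth.Agent.Lib.PDOpen_helper7

/-!
# Consequences of Serre's theorem (helper5)

* `regularRing_of_faithfullyFlat`: regularity of rings descends along faithfully flat maps;
* `exists_pd_bound`: over a regular ring finite modules have (uniformly) finite projective
  dimension;
* `pd_iff_ext_self`: over a regular local ring `pd M ≤ q ↔ Ext^i(M, A) = 0` for `i > q`;
* `height_le_pd`: associated primes of `M` have height `≤ pd M`.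
-/

set_option autoImplicit false
set_option maxHeartbeats 400000
universe u
open CategoryTheory CategoryTheory.Limits Abelian IsLocalRing TensorProduct RingTheory.Sequence

namespace Groth.Agent.Serre

open Groth.Agent.TorLES Groth.Agent.TorBal

/-- regularity descends along faithfully flat ring maps. -/
theorem regularRing_of_faithfullyFlat (R : Type u) [CommRing R] (S : Type u) [CommRing S]
    [Algebra R S] [Module.FaithfullyFlat R S] [IsRegularRing S] : IsRegularRing R := by
  haveI : IsNoetherianRing R := Groth.Agent.DepthLib.isNoetherianRing_of_faithfullyFlat R S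
  rw [isRegularRing_iff]
  intro p hp
  obtain ⟨P, hP, hPp⟩ := Ideal.exists_isPrime_liesOver_of_faithfullyFlat (B := S) p
  letI := Localization.AtPrime.algebraOfLiesOver p P
  haveI : IsLocalHom (algebraMap (Localization.AtPrime p) (Localization.AtPrime P)) := by
    rw [RingHom.algebraMap_toAlgebra]
    exact Localization.isLocalHom_localRingHom p P (algebraMap R S) Ideal.LiesOver.over
  exact regular_of_flat_local (Localization.AtPrime p) (Localization.AtPrime P)

/-- finite modules over a regular ring have finite projective dimension. -/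
theorem exists_pd_bound (A : Type u) [CommRing A] [IsRegularRing A] (M : Type u) [AddCommGroup M]
    [Module A M] [Module.Finite A M] :
    ∃ d : ℕ, HasProjectiveDimensionLE (ModuleCat.of A M) d := by
  let U : ℕ → Set (PrimeSpectrum A) := fun n =>
    {p | HasProjectiveDimensionLE
      (Groth.Agent.Lib.PDOpenH7.locObj A p.asIdeal.primeCompl M) n}
  have hopen : ∀ n, IsOpen (U n) := fun n => Groth.Agent.Lib.PDOpenH7.isOpen_hasPDLE A n M
  have hcover : (Set.univ : Set (PrimeSpectrum A)) ⊆ ⋃ n, U n := by
    intro p _
    obtain ⟨d, hd⟩ := Groth.Agent.GlDim.exists_dim (Localization.AtPrime p.asIdeal)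
    exact Set.mem_iUnion.mpr ⟨d, Groth.Agent.GlDim.hasProjectiveDimensionLT_of_regular
      (Localization.AtPrime p.asIdeal) d hd (LocalizedModule p.asIdeal.primeCompl M)⟩
  obtain ⟨t, ht⟩ := isCompact_univ.elim_finite_subcover U hopen hcover
  refine ⟨t.sup id, ?_⟩
  haveI : Module.Finite A (ModuleCat.of A M) := inferInstanceAs (Module.Finite A M)
  rw [ModuleCat.hasProjectiveDimensionLE_iff_forall_primeSpectrum]
  intro p
  rw [Groth.Agent.Lib.PDOpenH7.hasPDLE_shrink_iff]
  obtain ⟨n, hn, hpn⟩ := Set.mem_iUnion₂.mp (ht (Set.mem_univ p))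
  have hle : n ≤ t.sup id := Finset.le_sup (f := id) hn
  haveI : HasProjectiveDimensionLT
      (Groth.Agent.Lib.PDOpenH7.locObj A p.asIdeal.primeCompl M) (n + 1) := hpn
  exact hasProjectiveDimensionLT_of_ge _ (n + 1) (t.sup id + 1) (by omega)

section ext_self

variable {A : Type u} [CommRing A] [IsNoetherianRing A]

/-- if `pd M ≤ j + 1` and `Ext^{j+1}(M, A) = 0` then `pd M ≤ j`. -/
theorem pd_drop (M : Type u) [AddCommGroup M] [Module A M] [Module.Finite A M] (j : ℕ)
    (hpd : HasProjectiveDimensionLT (ModuleCat.of A M) (j + 1 + 1))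
    (hext : Subsingleton (Ext (ModuleCat.of A M) (ModuleCat.of A A) (j + 1))) :
    HasProjectiveDimensionLT (ModuleCat.of A M) (j + 1) := by
  apply Groth.Agent.ExtDev.hasProjectiveDimensionLT_of_forall_prime M (j + 1)
  intro p
  have hS := mk_shortExact p.asIdeal.subtype (Submodule.mkQ p.asIdeal)
    (Submodule.injective_subtype _) (LinearMap.exact_subtype_mkQ p.asIdeal)
    (Submodule.mkQ_surjective _)
  refine ⟨fun a b => ?_⟩
  have key : ∀ e : Ext (ModuleCat.of A M) (ModuleCat.of A (A ⧸ p.asIdeal)) (j + 1), e = 0 := by
    intro e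
    haveI := hpd
    obtain ⟨e₂, he₂⟩ := Ext.covariant_sequence_exact₃ (ModuleCat.of A M) hS e rfl
      ((e.comp hS.extClass rfl).eq_zero_of_hasProjectiveDimensionLT (j + 1 + 1) le_rfl)
    have h0 : e₂ = 0 := @Subsingleton.elim _ hext _ _
    rw [← he₂, h0, Ext.zero_comp]
    rfl
  rw [key a, key b]

/-- for a finite module of finite projective dimension, `pd M ≤ q` iff `Ext^i(M, A) = 0` for
`i > q`. -/
theorem pd_le_of_ext_self (M : Type u) [AddCommGroup M] [Module A M] [Module.Finite A M] (q : ℕ)
    (h : ∀ i : ℕ, q < i → Subsingleton (Ext (ModuleCat.of A M) (ModuleCat.of A A) i)) :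
    ∀ k : ℕ, HasProjectiveDimensionLT (ModuleCat.of A M) (q + k + 1) →
      HasProjectiveDimensionLT (ModuleCat.of A M) (q + 1) := by
  intro k
  induction k with
  | zero => intro hk; exact hk
  | succ k ih =>
    intro hk
    exact ih (pd_drop M (q + k) hk (h (q + k + 1) (by omega)))

end ext_self

/-- S11495. -/
theorem pd_iff_ext_self (A : Type u) [CommRing A] [IsRegularLocalRing A]
    (M : Type u) [AddCommGroup M] [Module A M] [Module.Finite A M] (q : ℕ) :
    HasProjectiveDimensionLT (ModuleCat.of A M) (q + 1) ↔
      ∀ i : ℕ, q < i → Subsingleton (Ext (ModuleCat.of A M) (ModuleCat.of A A) i) := by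
  constructor
  · intro h i hi
    exact HasProjectiveDimensionLT.subsingleton _ (q + 1) i (by omega) _
  · intro h
    obtain ⟨d, hd⟩ := Groth.Agent.GlDim.exists_dim A
    haveI := Groth.Agent.GlDim.hasProjectiveDimensionLT_of_regular A d hd M
    exact pd_le_of_ext_self M q h d
      (hasProjectiveDimensionLT_of_ge _ (d + 1) (q + d + 1) (by omega))

section socle

/-- an element killed by the maximal ideal gives an embedding of the residue field. -/
theorem exists_injective_residue {R : Type u} [CommRing R] [IsLocalRing R] {N : Type u}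
    [AddCommGroup N] [Module R N] (z : N) (hz : z ≠ 0)
    (hm : ∀ y ∈ maximalIdeal R, y • z = 0) :
    ∃ ι : (R ⧸ maximalIdeal R) →ₗ[R] N, Function.Injective ι := by
  let f : R →ₗ[R] N := LinearMap.toSpanSingleton R N z
  have hle : maximalIdeal R ≤ LinearMap.ker f := fun y hy => by
    rw [LinearMap.mem_ker, LinearMap.toSpanSingleton_apply]; exact hm y hy
  have hne : LinearMap.ker f ≠ ⊤ := by
    intro h
    have h1 : (1 : R) ∈ LinearMap.ker f := h ▸ Submodule.mem_top
    rw [LinearMap.mem_ker, LinearMap.toSpanSingleton_apply, one_smul] at h1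
    exact hz h1
  have heq : maximalIdeal R = LinearMap.ker f := (maximalIdeal.isMaximal R).eq_of_le hne hle
  exact ⟨Submodule.liftQ (maximalIdeal R) f hle,
    LinearMap.ker_eq_bot.mp (Submodule.ker_liftQ_eq_bot' _ f heq)⟩

/-- `Tor_e(k, k) ≠ 0` for a regular local ring of dimension `e`. -/
theorem not_torZero_top (R : Type u) [CommRing R] [IsRegularLocalRing R] :
    ¬ TorZero R (maximalIdeal R).spanFinrank (ResidueField R) (ResidueField R) := by
  classical
  intro hz
  obtain ⟨s, hcard, hspan⟩ := Submodule.FG.exists_span_finset_card_eq_spanFinrank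
    (IsNoetherian.noetherian (maximalIdeal R))
  have hl_span : Ideal.ofList s.toList = maximalIdeal R := by
    rw [Groth.Agent.RegularLib.ofList_toList]; exact hspan
  have hl_len : s.toList.length = (maximalIdeal R).spanFinrank := by
    rw [Finset.length_toList]; exact hcard
  have hreg := Groth.Agent.RegularLib.isRegular_of_ofList_eq R s.toList hl_span hl_len
  obtain ⟨E⟩ := Groth.Agent.TorKoszul.tor_quot_equiv_hom (ResidueField R) s.toList
    hreg.toIsWeaklyRegular
  have hzero : TorZero R s.toList.length (R ⧸ Ideal.ofList s.toList) (ResidueField R) := by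
    rw [hl_len, hl_span]
    exact hz
  haveI : Subsingleton (((Tor (ModuleCat.{u} R) s.toList.length).obj
      (ModuleCat.of R (R ⧸ Ideal.ofList s.toList))).obj (ModuleCat.of R (ResidueField R))) :=
    (torZero_iff_subsingleton _ _ _).mp hzero
  haveI : Subsingleton ((R ⧸ Ideal.ofList s.toList) →ₗ[R] ResidueField R) :=
    E.symm.injective.subsingleton
  let f : (R ⧸ Ideal.ofList s.toList) →ₗ[R] ResidueField R :=
    Submodule.liftQ _ (Algebra.linearMap R (ResidueField R)) (by
      rw [hl_span]
      intro y hy
      rw [LinearMap.mem_ker, Algebra.linearMap_apply]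
      exact (residue_eq_zero_iff y).mpr hy)
  have hf : f (Submodule.Quotient.mk 1) = 1 := by
    change algebraMap R (ResidueField R) 1 = 1
    exact map_one _
  have hf0 : f = 0 := Subsingleton.elim _ _
  rw [hf0, LinearMap.zero_apply] at hf
  exact zero_ne_one hf

/-- a module with a nonzero socle element over a regular local ring of dimension `e` has
projective dimension `≥ e`. -/
theorem not_pd_lt_of_socle (R : Type u) [CommRing R] [IsRegularLocalRing R] (e : ℕ)
    (he : (maximalIdeal R).spanFinrank = e) (N : Type u) [AddCommGroup N] [Module R N] (z : N)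
    (hz : z ≠ 0) (hm : ∀ y ∈ maximalIdeal R, y • z = 0) :
    ¬ HasProjectiveDimensionLT (ModuleCat.of R N) e := by
  intro hpd
  obtain ⟨ι, hι⟩ := exists_injective_residue z hz hm
  have hex := LinearMap.exact_map_mkQ_range ι
  have hp := Submodule.mkQ_surjective (LinearMap.range ι)
  have hd : ringKrullDim R = e := by
    rw [← he]; exact (Groth.Agent.RegularLib.spanFinrank_eq_dim R).symm
  have h3 : TorZero R (e + 1) (N ⧸ LinearMap.range ι) (ResidueField R) :=
    (torZero_symm (e + 1) (ResidueField R) (N ⧸ LinearMap.range ι)).mp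
      (Groth.Agent.GlDim.torZero_residueField_gt R e hd _ (e + 1) (Nat.lt_succ_self e))
  have h2 : TorZero R e N (ResidueField R) := by
    refine (torZero_symm e (ResidueField R) N).mp ?_
    rcases Nat.eq_zero_or_pos e with h0 | hpos
    · exfalso
      subst h0
      haveI := hpd
      have hzero := isZero_of_hasProjectiveDimensionLT_zero (ModuleCat.of R N)
      haveI : Subsingleton N := ModuleCat.subsingleton_of_isZero hzero
      exact hz (Subsingleton.elim z 0)
    · obtain ⟨e', rfl⟩ : ∃ e', e = e' + 1 := ⟨e - 1, by omega⟩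
      haveI := hpd
      exact Groth.Agent.TorShift2.isZero_tor_of_projDim (ModuleCat.of R (ResidueField R)) e'
        (ModuleCat.of R N) (e' + 1) (Nat.lt_succ_self e')
  have concl : TorZero R e (R ⧸ maximalIdeal R) (ResidueField R) :=
    torZero_left ι (LinearMap.range ι).mkQ (ResidueField R) hι hex hp e h3 h2
  apply not_torZero_top R
  rw [he]
  exact concl

end socle

/-- S17765: associated primes of `M` have height at most `pd M`. -/
theorem height_le_pd (B : Type u) [CommRing B] [IsRegularLocalRing B] (M : Type u)
    [AddCommGroup M] [Module B M] [Module.Finite B M] (p : Ideal B)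
    (hp : p ∈ associatedPrimes B M) (n : ℕ)
    (hn : HasProjectiveDimensionLE (ModuleCat.of B M) n) : p.height ≤ n := by
  haveI : p.IsPrime := IsAssociatedPrime.isPrime hp
  haveI : IsRegularLocalRing (Localization.AtPrime p) := localization_regular B p
  obtain ⟨-, m₀, hm₀⟩ := isAssociatedPrime_iff.mp hp
  haveI := hn
  have h1 : HasProjectiveDimensionLE ((ModuleCat.of B M).localizedModule p.primeCompl) n :=
    ModuleCat.localizedModule_hasProjectiveDimensionLE n p.primeCompl (ModuleCat.of B M)
  have h2 : HasProjectiveDimensionLT (ModuleCat.of (Localization.AtPrime p)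
      (LocalizedModule p.primeCompl M)) (n + 1) :=
    (Groth.Agent.Lib.PDOpenH7.hasPDLE_shrink_iff B p.primeCompl M n).mp h1
  let z : LocalizedModule p.primeCompl M := LocalizedModule.mk m₀ 1
  have hz : z ≠ 0 := by
    intro h0
    have h0' : LocalizedModule.mkLinearMap p.primeCompl M m₀ = 0 := h0
    obtain ⟨c, hc⟩ := (IsLocalizedModule.eq_zero_iff p.primeCompl
      (LocalizedModule.mkLinearMap p.primeCompl M)).mp h0'
    have hcp' : (c : B) ∈ Submodule.colon (⊥ : Submodule B M) {m₀} := by
      rw [Submodule.mem_colon_singleton, Submodule.mem_bot]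
      exact hc
    exact c.2 (hm₀.ge hcp')
  have hmz : ∀ y ∈ maximalIdeal (Localization.AtPrime p), y • z = 0 := by
    have hle : Ideal.map (algebraMap B (Localization.AtPrime p)) p ≤
        LinearMap.ker (LinearMap.toSpanSingleton (Localization.AtPrime p)
          (LocalizedModule p.primeCompl M) z) := by
      rw [Ideal.map_le_iff_le_comap]
      intro a ha
      rw [Ideal.mem_comap, LinearMap.mem_ker, LinearMap.toSpanSingleton_apply, algebraMap_smul]
      have ha0 : a • m₀ = 0 := by
        have ha' := hm₀.le ha
        rw [Submodule.mem_colon_singleton, Submodule.mem_bot] at ha'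
        exact ha'
      change a • LocalizedModule.mk m₀ 1 = 0
      rw [LocalizedModule.smul'_mk, ha0, LocalizedModule.zero_mk]
    intro y hy
    rw [← IsLocalization.AtPrime.map_eq_maximalIdeal p (Localization.AtPrime p)] at hy
    have := hle hy
    rwa [LinearMap.mem_ker, LinearMap.toSpanSingleton_apply] at this
  by_contra hlt
  push Not at hlt
  have hdim := Groth.Agent.RegularLib.spanFinrank_eq_dim (Localization.AtPrime p)
  have hht : ringKrullDim (Localization.AtPrime p) = p.height :=
    IsLocalization.AtPrime.ringKrullDim_eq_height p (Localization.AtPrime p)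
  have he : p.height = ((maximalIdeal (Localization.AtPrime p)).spanFinrank : ℕ∞) := by
    have h3 : ((p.height : ℕ∞) : WithBot ℕ∞) =
        (((maximalIdeal (Localization.AtPrime p)).spanFinrank : ℕ∞) : WithBot ℕ∞) := by
      rw [← hht, ← hdim]; rfl
    exact_mod_cast h3
  have hne : n + 1 ≤ (maximalIdeal (Localization.AtPrime p)).spanFinrank := by
    rw [he] at hlt
    exact_mod_cast hlt
  haveI := h2
  exact not_pd_lt_of_socle (Localization.AtPrime p) _ rfl _ z hz hmz
    (hasProjectiveDimensionLT_of_ge _ (n + 1) _ hne)

end Groth.Agent.Serre
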