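import Mathlib
import Groth.Prelude.Def_EGA4b
import Groth.Agent.Lib.NagataCrit_helper3
import Groth.Agent.Lib.RegLoc_helper3
import Groth.Agent.Lib.RegFlat_helper3
import Groth.Agent.Lib.RegFlat2_helper3
import Groth.Agent.Lib.SmoothRegHom_helper3
import Groth.Agent.Lib.SepSmooth_helper3
import Groth.Agent.Lib.Serre2_helper5
import Groth.Agent.Lib.GenFreeF_helper8

/-!
# Transfer of "the regular locus contains a nonempty open" (helper3)

* `exists_open_of_formallySmooth`, `exists_open_of_geomReduced` : generically smooth / separable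
  finite type extensions of Noetherian domains (EGA IV 6.12.4-ish, Matsumura 32.B Lemma 4).
* `exists_open_of_injective_finiteType` : descent along injective finite type maps of domains.
APPEND-ONLY once landed.
-/

set_option autoImplicit false
set_option maxSynthPendingDepth 3
universe u

open IsLocalRing PrimeSpectrum TensorProduct

namespace Groth.Agent.Lib.RegOpenSepH3

open Groth.Agent.Lib.NagataCritH3

theorem exists_basicOpen_subset {A : Type*} [CommRing A] [IsDomain A]
    (U : Set (PrimeSpectrum A)) (hU : IsOpen U) (hne : U.Nonempty) :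
    ∃ f : A, f ≠ 0 ∧ (basicOpen f : Set (PrimeSpectrum A)) ⊆ U := by
  obtain ⟨x, hx⟩ := hne
  have hbot : (⟨⊥, Ideal.isPrime_bot⟩ : PrimeSpectrum A) ∈ U := by
    have hsp : (⟨⊥, Ideal.isPrime_bot⟩ : PrimeSpectrum A) ⤳ x := by
      rw [← le_iff_specializes]
      exact bot_le (a := x.asIdeal)
    exact hsp.mem_open hU hx
  obtain ⟨_, ⟨_, ⟨f, rfl⟩, rfl⟩, hxf, hf⟩ :=
    isBasis_basic_opens.exists_subset_of_mem_open hbot hU
  refine ⟨f, ?_, hf⟩
  rintro rfl
  exact hxf (Ideal.zero_mem _)

theorem basicOpen_nonempty_of_ne_zero {A : Type*} [CommRing A] [IsDomain A] (f : A) (hf : f ≠ 0) :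
    (basicOpen f : Set (PrimeSpectrum A)).Nonempty :=
  ⟨⟨⊥, Ideal.isPrime_bot⟩, fun h => hf ((Ideal.mem_bot).mp h)⟩

/-- generically smooth finite type extension of Noetherian domains -/
theorem exists_open_of_formallySmooth (A B : Type u) [CommRing A] [CommRing B] [IsDomain A]
    [IsDomain B] [IsNoetherianRing A] [Algebra A B] [Algebra.FiniteType A B]
    (hinj : Function.Injective (algebraMap A B))
    (hsm : Algebra.FormallySmooth A (FractionRing B))
    (h : ∃ U : Set (PrimeSpectrum A), IsOpen U ∧ U.Nonempty ∧ U ⊆ EGA4.regLocus A) :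
    ∃ U' : Set (PrimeSpectrum B), IsOpen U' ∧ U'.Nonempty ∧ U' ⊆ EGA4.regLocus B := by
  obtain ⟨U, hUo, hUne, hUreg⟩ := h
  obtain ⟨f, hf0, hfU⟩ := exists_basicOpen_subset U hUo hUne
  haveI : Algebra.FinitePresentation A B :=
    Algebra.FinitePresentation.of_finiteType.mp inferInstance
  haveI : IsFractionRing B (Localization.AtPrime (⊥ : Ideal B)) := by
    simpa [Ideal.primeCompl_bot] using
      Localization.isLocalization (M := (⊥ : Ideal B).primeCompl)
  haveI : Algebra.IsSmoothAt A (⊥ : Ideal B) := by
    let e : FractionRing B ≃ₐ[B] Localization.AtPrime (⊥ : Ideal B) :=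
      IsLocalization.algEquiv (nonZeroDivisors B) _ _
    exact Algebra.FormallySmooth.of_equiv (e.restrictScalars A)
  obtain ⟨g, hg, hsmooth⟩ := Algebra.IsSmoothAt.exists_notMem_smooth A (⊥ : Ideal B)
  have hg0 : g ≠ 0 := fun h => hg (h ▸ Ideal.zero_mem _)
  refine ⟨(basicOpen (g * algebraMap A B f) : Set (PrimeSpectrum B)), (basicOpen _).isOpen,
    basicOpen_nonempty_of_ne_zero _
      (mul_ne_zero hg0 ((map_ne_zero_iff _ hinj).mpr hf0)), ?_⟩
  intro q hq
  have hq' : g * algebraMap A B f ∉ q.asIdeal := hq
  have hgq : g ∉ q.asIdeal := fun h => hq' (Ideal.mul_mem_right _ _ h)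
  have hfq : algebraMap A B f ∉ q.asIdeal := fun h => hq' (Ideal.mul_mem_left _ _ h)
  change IsRegularLocalRing (Localization.AtPrime q.asIdeal)
  haveI : Algebra.Smooth A (Localization.Away g) := hsmooth
  haveI : IsNoetherianRing (Localization.Away g) :=
    Algebra.FiniteType.isNoetherianRing A (Localization.Away g)
  have hd : Disjoint ((Submonoid.powers g : Submonoid B) : Set B) q.asIdeal := by
    rw [Set.disjoint_left]
    rintro _ ⟨n, rfl⟩ hn
    exact hgq (q.2.mem_of_pow_mem n hn)
  haveI hQ : (q.asIdeal.map (algebraMap B (Localization.Away g))).IsPrime :=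
    IsLocalization.isPrime_of_isPrime_disjoint (Submonoid.powers g) _ _ q.2 hd
  rw [isRegularLocalRing_iff_map_of_disjoint B (Submonoid.powers g) (Localization.Away g)
    q.asIdeal hd]
  set Q := q.asIdeal.map (algebraMap B (Localization.Away g)) with hQdef
  have hQu : Q.under B = q.asIdeal :=
    IsLocalization.under_map_of_isPrime_disjoint (Submonoid.powers g) _ q.2 hd
  have hQA : Q.under A = q.asIdeal.under A := by
    rw [← hQu, Ideal.under_under]
  have hfQ : f ∉ Q.under A := by
    rw [hQA]
    exact hfq
  have hp : (⟨Q.under A, inferInstance⟩ : PrimeSpectrum A) ∈ EGA4.regLocus A :=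
    hUreg (hfU hfQ)
  haveI : IsRegularLocalRing (Localization.AtPrime (Q.under A)) := hp
  have hreg := Groth.Agent.Lib.SmoothRegHomH3.isRegularHom_of_smooth A (Localization.Away g)
  haveI : Module.Flat A (Localization.Away g) := hreg.1
  haveI : IsRegularRing ((Q.under A).Fiber (Localization.Away g)) :=
    Groth.Agent.Lib.RegFlatH3.isRegularRing_of_isGeometricallyRegular _ _ (hreg.2 (Q.under A)).2
  exact Groth.Agent.Lib.RegFlat2H3.isRegularLocalRing_of_flat_of_fiber_at A
    (Localization.Away g) Q

/-- separable (geometrically reduced) generic fibre, flexible form. -/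
theorem exists_open_of_geomReduced (A B : Type u) [CommRing A] [CommRing B] [IsDomain A]
    [IsDomain B] [IsNoetherianRing A] [Algebra A B] [Algebra.FiniteType A B]
    (F E : Type u) [Field F] [Field E] [Algebra A F] (M : Submonoid A) [IsLocalization M F]
    [Algebra F E] [Algebra A E] [IsScalarTower A F E] [Algebra B E] [IsScalarTower A B E]
    (hBE : Function.Injective (algebraMap B E)) [Algebra.IsGeometricallyReduced F E]
    (h : ∃ U : Set (PrimeSpectrum A), IsOpen U ∧ U.Nonempty ∧ U ⊆ EGA4.regLocus A) :
    ∃ U' : Set (PrimeSpectrum B), IsOpen U' ∧ U'.Nonempty ∧ U' ⊆ EGA4.regLocus B := by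
  -- `A → F` injective
  have hM : M ≤ nonZeroDivisors A := by
    intro m hm
    rw [mem_nonZeroDivisors_iff_ne_zero]
    rintro rfl
    have h1 : IsUnit (algebraMap A F 0) := IsLocalization.map_units F ⟨0, hm⟩
    rw [map_zero] at h1
    exact not_isUnit_zero h1
  have hAF : Function.Injective (algebraMap A F) := IsLocalization.injective F hM
  have hAE : Function.Injective (algebraMap A E) := by
    rw [IsScalarTower.algebraMap_eq A F E]
    exact (algebraMap F E).injective.comp hAF
  have hinj : Function.Injective (algebraMap A B) := by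
    rw [IsScalarTower.algebraMap_eq A B E] at hAE
    exact Function.Injective.of_comp hAE
  -- `F → L`
  have hAL : Function.Injective (algebraMap A (FractionRing B)) := by
    rw [IsScalarTower.algebraMap_eq A B (FractionRing B)]
    exact (IsFractionRing.injective B (FractionRing B)).comp hinj
  have hunit : ∀ m : M, IsUnit (algebraMap A (FractionRing B) m) := by
    intro m
    rw [isUnit_iff_ne_zero]
    intro h0
    have hm0 : (m : A) = 0 := hAL (by rw [h0, map_zero])
    have := hM m.2
    rw [mem_nonZeroDivisors_iff_ne_zero] at this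
    exact this hm0
  let ψ : F →+* FractionRing B := IsLocalization.lift (M := M) hunit
  letI : Algebra F (FractionRing B) := ψ.toAlgebra
  haveI : IsScalarTower A F (FractionRing B) := IsScalarTower.of_algebraMap_eq fun a => by
    change algebraMap A (FractionRing B) a = ψ (algebraMap A F a)
    rw [IsLocalization.lift_eq]
  -- `L → E`
  let φ : FractionRing B →ₐ[B] E := IsFractionRing.liftAlgHom (g := Algebra.ofId B E) hBE
  have hφψ : (φ : FractionRing B →+* E).comp ψ = algebraMap F E := by
    apply IsLocalization.ringHom_ext M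
    ext a
    change φ (ψ (algebraMap A F a)) = algebraMap F E (algebraMap A F a)
    rw [IsLocalization.lift_eq, ← IsScalarTower.algebraMap_apply A F E,
      IsScalarTower.algebraMap_apply A B (FractionRing B), φ.commutes,
      ← IsScalarTower.algebraMap_apply A B E]
  let φ' : FractionRing B →ₐ[F] E :=
    { (φ : FractionRing B →+* E) with
      commutes' := fun x => by
        change φ (ψ x) = algebraMap F E x
        exact congrArg (fun f : F →+* E => f x) hφψ }
  haveI : Algebra.IsGeometricallyReduced F (FractionRing B) :=
    Algebra.IsGeometricallyReduced.of_injective φ' (φ : FractionRing B →+* E).injective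
  haveI : Algebra.FormallySmooth F (FractionRing B) :=
    Groth.Agent.Lib.SepSmoothH3.formallySmooth_of_isGeometricallyReduced F (FractionRing B)
  haveI : Algebra.FormallyEtale A F := Algebra.FormallyEtale.of_isLocalization M
  haveI : Algebra.FormallySmooth A F := inferInstance
  have hsm : Algebra.FormallySmooth A (FractionRing B) :=
    Algebra.FormallySmooth.comp A F (FractionRing B)
  exact exists_open_of_formallySmooth A B hinj hsm h

/-- descent along an injective finite type map of domains -/
theorem exists_open_of_injective_finiteType (R S : Type u) [CommRing R] [IsDomain R]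
    [IsNoetherianRing R] [CommRing S] [IsDomain S] [Algebra R S] [Algebra.FiniteType R S]
    (hinj : Function.Injective (algebraMap R S))
    (hS : ∃ U : Set (PrimeSpectrum S), IsOpen U ∧ U.Nonempty ∧ U ⊆ EGA4.regLocus S) :
    ∃ U : Set (PrimeSpectrum R), IsOpen U ∧ U.Nonempty ∧ U ⊆ EGA4.regLocus R := by
  obtain ⟨U, hUo, hUne, hUreg⟩ := hS
  obtain ⟨g, hg0, hgU⟩ := exists_basicOpen_subset U hUo hUne
  haveI : IsNoetherianRing S := Algebra.FiniteType.isNoetherianRing R S
  have hgM : Submonoid.powers g ≤ nonZeroDivisors S :=
    powers_le_nonZeroDivisors_of_noZeroDivisors hg0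
  haveI : IsDomain (Localization.Away g) :=
    IsLocalization.isDomain_localization hgM
  haveI : Algebra.FiniteType S (Localization.Away g) := IsLocalization.finiteType_of_monoid_fg
    (Submonoid.powers g) _
  haveI : Algebra.FiniteType R (Localization.Away g) :=
    Algebra.FiniteType.trans (inferInstance : Algebra.FiniteType R S) inferInstance
  haveI : IsNoetherianRing (Localization.Away g) :=
    IsLocalization.isNoetherianRing (Submonoid.powers g) _ inferInstance
  haveI hSgreg : IsRegularRing (Localization.Away g) := by
    rw [isRegularRing_iff]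
    intro Q hQ
    rw [← isRegularLocalRing_under_iff S (Submonoid.powers g) (Localization.Away g) Q]
    have hgQ : g ∉ Q.under S := by
      intro hmem
      have h1 : IsUnit (algebraMap S (Localization.Away g) g) :=
        IsLocalization.map_units _ (⟨g, Submonoid.mem_powers g⟩ : Submonoid.powers g)
      exact hQ.ne_top (Ideal.eq_top_of_isUnit_mem _ hmem h1)
    exact hUreg (hgU (show (⟨Q.under S, inferInstance⟩ : PrimeSpectrum S) ∈
      (basicOpen g : Set (PrimeSpectrum S)) from hgQ))
  have hRSg : Function.Injective (algebraMap R (Localization.Away g)) := by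
    rw [IsScalarTower.algebraMap_eq R S (Localization.Away g)]
    exact (IsLocalization.injective _ hgM).comp hinj
  obtain ⟨f, hf0, -, hfree, -, -⟩ :=
    GenFreeH8.generic_freeness (R := R) (S := Localization.Away g) (Localization.Away g)
  letI : Algebra (Localization.Away g) (Localization.Away f ⊗[R] Localization.Away g) :=
    Algebra.TensorProduct.rightAlgebra
  haveI hloc : IsLocalization (Algebra.algebraMapSubmonoid (Localization.Away g)
      (Submonoid.powers f)) (Localization.Away f ⊗[R] Localization.Away g) :=
    IsLocalization.tensorRight (Localization.Away f) (Submonoid.powers f)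
  have hM' : Algebra.algebraMapSubmonoid (Localization.Away g) (Submonoid.powers f) ≤
      nonZeroDivisors (Localization.Away g) := by
    rintro _ ⟨_, ⟨n, rfl⟩, rfl⟩
    rw [mem_nonZeroDivisors_iff_ne_zero, map_pow]
    exact pow_ne_zero _ ((map_ne_zero_iff _ hRSg).mpr hf0)
  haveI : Nontrivial (Localization.Away f ⊗[R] Localization.Away g) :=
    (IsLocalization.injective (Localization.Away f ⊗[R] Localization.Away g) hM').nontrivial
  haveI : Module.Free (Localization.Away f) (Localization.Away f ⊗[R] Localization.Away g) :=
    hfree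
  haveI : Module.FaithfullyFlat (Localization.Away f)
      (Localization.Away f ⊗[R] Localization.Away g) := inferInstance
  haveI : IsRegularRing (Localization.Away f ⊗[R] Localization.Away g) :=
    Groth.Agent.Lib.RegLocH3.isRegularRing_of_isLocalization
      (Algebra.algebraMapSubmonoid (Localization.Away g) (Submonoid.powers f)) _
  haveI : IsRegularRing (Localization.Away f) :=
    Groth.Agent.Serre.regularRing_of_faithfullyFlat (Localization.Away f)
      (Localization.Away f ⊗[R] Localization.Away g)
  refine ⟨(basicOpen f : Set (PrimeSpectrum R)), (basicOpen f).isOpen,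
    basicOpen_nonempty_of_ne_zero f hf0, ?_⟩
  intro p hp
  have hfp : f ∉ p.asIdeal := hp
  change IsRegularLocalRing (Localization.AtPrime p.asIdeal)
  have hd : Disjoint ((Submonoid.powers f : Submonoid R) : Set R) p.asIdeal := by
    rw [Set.disjoint_left]
    rintro _ ⟨n, rfl⟩ hn
    exact hfp (p.2.mem_of_pow_mem n hn)
  haveI : (p.asIdeal.map (algebraMap R (Localization.Away f))).IsPrime :=
    IsLocalization.isPrime_of_isPrime_disjoint (Submonoid.powers f) _ _ p.2 hd
  rw [isRegularLocalRing_iff_map_of_disjoint R (Submonoid.powers f) (Localization.Away f)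
    p.asIdeal hd]
  infer_instance

end Groth.Agent.Lib.RegOpenSepH3
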