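import Mathlib
import Groth.Prelude.Def_EGA4b
import Groth.Agent.Lib.NagataCrit_helper3
import Groth.Agent.Lib.RegOpenSep_helper3
import Groth.Agent.Lib.PInsepDescent_helper3

/-!
# The J-2 criterion (EGA IV 6.12.4, Matsumura 32.B Thm 73) (helper3)

A Noetherian ring `A` is J-2 as soon as every finite `A`-algebra which is a domain has a
regular locus containing a nonempty open subset.
APPEND-ONLY once landed.
-/

set_option autoImplicit false
set_option maxSynthPendingDepth 3
universe u

open IsLocalRing PrimeSpectrum TensorProduct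

namespace Groth.Agent.Lib.J2CritH3

open Groth.Agent.Lib.NagataCritH3 Groth.Agent.Lib.RegOpenSepH3

section Abstract

/-- Abstract form of the key step. -/
theorem exists_open_of_data (A₀ B₀ A' F E : Type u) [CommRing A₀] [IsDomain A₀]
    [IsNoetherianRing A₀] [CommRing B₀] [IsDomain B₀] [Algebra A₀ B₀] [Algebra.FiniteType A₀ B₀]
    [CommRing A'] [IsDomain A'] [Algebra A₀ A'] [Module.Finite A₀ A']
    [Field F] [Field E] [Algebra A' F] [IsFractionRing A' F] [Algebra F E] [Algebra A' E]
    [IsScalarTower A' F E] [Algebra A₀ E] [IsScalarTower A₀ A' E] [Algebra B₀ E]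
    [IsScalarTower A₀ B₀ E] (hB₀E : Function.Injective (algebraMap B₀ E))
    [Algebra.IsGeometricallyReduced F E]
    (hA' : ∃ U : Set (PrimeSpectrum A'), IsOpen U ∧ U.Nonempty ∧ U ⊆ EGA4.regLocus A') :
    ∃ U : Set (PrimeSpectrum B₀), IsOpen U ∧ U.Nonempty ∧ U ⊆ EGA4.regLocus B₀ := by
  classical
  obtain ⟨t, ht⟩ := (Algebra.FiniteType.out : (⊤ : Subalgebra A₀ B₀).FG)
  let B' : Subalgebra A' E := Algebra.adjoin A' ((algebraMap B₀ E) '' (t : Set B₀))
  haveI : IsNoetherianRing A' := IsNoetherianRing.of_finite A₀ A'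
  haveI : Algebra.FiniteType A' B' := by
    rw [← Subalgebra.fg_iff_finiteType]
    exact ⟨t.image (algebraMap B₀ E), by rw [Finset.coe_image]⟩
  have hB'reg : ∃ U : Set (PrimeSpectrum B'), IsOpen U ∧ U.Nonempty ∧ U ⊆ EGA4.regLocus B' :=
    exists_open_of_geomReduced A' B' F E (nonZeroDivisors A') Subtype.val_injective hA'
  -- the map `B₀ → B'`
  have hrange : ∀ b : B₀, algebraMap B₀ E b ∈ B' := by
    intro b
    have hb : b ∈ Algebra.adjoin A₀ (t : Set B₀) := by
      rw [ht]
      exact Algebra.mem_top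
    induction hb using Algebra.adjoin_induction with
    | mem x hx => exact Algebra.subset_adjoin ⟨x, hx, rfl⟩
    | algebraMap a =>
      rw [← IsScalarTower.algebraMap_apply A₀ B₀ E, IsScalarTower.algebraMap_apply A₀ A' E]
      exact Subalgebra.algebraMap_mem B' _
    | add x y _ _ hx hy =>
      rw [map_add]
      exact add_mem hx hy
    | mul x y _ _ hx hy =>
      rw [map_mul]
      exact mul_mem hx hy
  let ψ : B₀ →+* B' := (algebraMap B₀ E).codRestrict B'.toSubring hrange
  letI : Algebra B₀ B' := ψ.toAlgebra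
  haveI : IsScalarTower A₀ B₀ B' := IsScalarTower.of_algebraMap_eq fun a => by
    apply Subtype.ext
    change algebraMap A₀ E a = algebraMap B₀ E (algebraMap A₀ B₀ a)
    rw [← IsScalarTower.algebraMap_apply A₀ B₀ E]
  haveI : Algebra.FiniteType A₀ A' := inferInstance
  haveI : Algebra.FiniteType A₀ B' :=
    Algebra.FiniteType.trans (inferInstance : Algebra.FiniteType A₀ A') inferInstance
  haveI : Algebra.FiniteType B₀ B' := Algebra.FiniteType.of_restrictScalars_finiteType A₀ B₀ B'
  haveI : IsNoetherianRing B₀ := Algebra.FiniteType.isNoetherianRing A₀ B₀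
  have hinj : Function.Injective (algebraMap B₀ B') := by
    intro x y hxy
    apply hB₀E
    exact congrArg Subtype.val hxy
  exact exists_open_of_injective_finiteType B₀ B' hinj hB'reg

end Abstract

section Domain

open Groth.Agent.Lib.PInsepDescentH3

/-- a finite extension of the fraction field is the fraction field of a finite algebra -/
theorem exists_adjoin_isFractionRing (A₀ K F : Type u) [CommRing A₀] [IsDomain A₀] [Field K]
    [Algebra A₀ K] [IsFractionRing A₀ K] [Field F] [Algebra K F] [Algebra A₀ F]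
    [IsScalarTower A₀ K F] [FiniteDimensional K F] :
    ∃ A' : Subalgebra A₀ F, Module.Finite A₀ A' ∧ IsFractionRing A' F := by
  classical
  obtain ⟨s, b, hb⟩ := FiniteDimensional.exists_is_basis_integral A₀ K F
  refine ⟨Algebra.adjoin A₀ (Set.range b), ?_, ?_⟩
  · refine (Module.Finite.iff_fg (N := (Algebra.adjoin A₀ (Set.range b)).toSubmodule)).mpr ?_
    apply fg_adjoin_of_finite (Set.finite_range b)
    rintro _ ⟨i, rfl⟩
    exact hb i
  · haveI : FaithfulSMul (Algebra.adjoin A₀ (Set.range b)) F :=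
      (faithfulSMul_iff_algebraMap_injective _ _).mpr Subtype.val_injective
    apply IsFractionRing.of_field
    intro z
    obtain ⟨d, hd⟩ := IsLocalization.exist_integer_multiples (nonZeroDivisors A₀) Finset.univ
      (fun i => b.repr z i)
    choose a ha using fun i => hd i (Finset.mem_univ i)
    have hd0 : algebraMap A₀ F (d : A₀) ≠ 0 := by
      rw [IsScalarTower.algebraMap_apply A₀ K F]
      exact (map_ne_zero_iff _ (algebraMap K F).injective).mpr
        ((map_ne_zero_iff _ (IsFractionRing.injective A₀ K)).mpr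
          (nonZeroDivisors.ne_zero d.2))
    have hx : ∑ i, a i • b i ∈ Algebra.adjoin A₀ (Set.range b) :=
      sum_mem fun i _ => Subalgebra.smul_mem _ (Algebra.subset_adjoin (Set.mem_range_self i)) _
    refine ⟨(⟨∑ i, a i • b i, hx⟩ : Algebra.adjoin A₀ (Set.range b)),
      algebraMap A₀ (Algebra.adjoin A₀ (Set.range b)) (d : A₀), ?_⟩
    rw [eq_div_iff]
    · change z * algebraMap A₀ F (d : A₀) = ∑ i, a i • b i
      conv_lhs => rw [← b.sum_repr z]
      rw [Finset.sum_mul]
      refine Finset.sum_congr rfl fun i _ => ?_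
      rw [mul_comm, ← Algebra.smul_def, ← smul_assoc, ← ha i, algebraMap_smul]
    · exact hd0

/-- the field `(F ⊗ L)_red` -/
abbrev EE (K L : Type u) [Field K] [Field L] [Algebra K L] (F : IntermediateField K (Cp K)) :
    Type u := (F ⊗[K] L) ⧸ nilradical (F ⊗[K] L)

theorem exists_open_of_domain (A₀ B₀ : Type u) [CommRing A₀] [IsDomain A₀] [IsNoetherianRing A₀]
    [CommRing B₀] [IsDomain B₀] [Algebra A₀ B₀] [Algebra.FiniteType A₀ B₀]
    (hinj : Function.Injective (algebraMap A₀ B₀))
    (H : ∀ (A' : Type u) [CommRing A'] [IsDomain A'] [Algebra A₀ A'], Module.Finite A₀ A' →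
      ∃ U : Set (PrimeSpectrum A'), IsOpen U ∧ U.Nonempty ∧ U ⊆ EGA4.regLocus A') :
    ∃ U : Set (PrimeSpectrum B₀), IsOpen U ∧ U.Nonempty ∧ U ⊆ EGA4.regLocus B₀ := by
  classical
  -- the fraction fields
  haveI : FaithfulSMul A₀ (FractionRing B₀) := by
    rw [faithfulSMul_iff_algebraMap_injective, IsScalarTower.algebraMap_eq A₀ B₀ (FractionRing B₀)]
    exact (IsFractionRing.injective B₀ (FractionRing B₀)).comp hinj
  letI : Algebra (FractionRing A₀) (FractionRing B₀) :=
    FractionRing.liftAlgebra A₀ (FractionRing B₀)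
  haveI : IsScalarTower A₀ (FractionRing A₀) (FractionRing B₀) :=
    FractionRing.isScalarTower_liftAlgebra A₀ (FractionRing B₀)
  haveI : Algebra.EssFiniteType B₀ (FractionRing B₀) :=
    Algebra.EssFiniteType.of_isLocalization (FractionRing B₀) (nonZeroDivisors B₀)
  haveI : Algebra.EssFiniteType A₀ (FractionRing B₀) :=
    Algebra.EssFiniteType.comp A₀ B₀ (FractionRing B₀)
  haveI : Algebra.EssFiniteType (FractionRing A₀) (FractionRing B₀) :=
    Algebra.EssFiniteType.of_comp A₀ (FractionRing A₀) (FractionRing B₀)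
  obtain ⟨F, hFfin, hmax, hred⟩ :=
    exists_finite_purelyInseparable (FractionRing A₀) (FractionRing B₀)
  haveI := hFfin
  haveI := hmax
  letI : Field (EE (FractionRing A₀) (FractionRing B₀) F) := Ideal.Quotient.field _
  letI iFE : Algebra F (EE (FractionRing A₀) (FractionRing B₀) F) := Ideal.Quotient.algebra F
  letI iSMulFE : SMul F (EE (FractionRing A₀) (FractionRing B₀) F) := iFE.toSMul
  haveI : Algebra.IsGeometricallyReduced F (EE (FractionRing A₀) (FractionRing B₀) F) :=
    (Algebra.isGeometricallyReduced_field_iff _ _).mpr hred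
  -- `A₀`-structure on `F`
  letI : Algebra A₀ F :=
    ((algebraMap (FractionRing A₀) F).comp (algebraMap A₀ (FractionRing A₀))).toAlgebra
  haveI : IsScalarTower A₀ (FractionRing A₀) F := IsScalarTower.of_algebraMap_eq fun _ => rfl
  obtain ⟨A', hA'fin, hA'frac⟩ := exists_adjoin_isFractionRing A₀ (FractionRing A₀) F
  haveI := hA'fin
  haveI := hA'frac
  -- structures on `E`
  haveI : IsScalarTower A' F (EE (FractionRing A₀) (FractionRing B₀) F) := inferInstance
  letI : Algebra A₀ (EE (FractionRing A₀) (FractionRing B₀) F) :=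
    ((algebraMap F (EE (FractionRing A₀) (FractionRing B₀) F)).comp (algebraMap A₀ F)).toAlgebra
  haveI : IsScalarTower A₀ A' (EE (FractionRing A₀) (FractionRing B₀) F) :=
    IsScalarTower.of_algebraMap_eq fun _ => rfl
  let ρ : FractionRing B₀ →+* EE (FractionRing A₀) (FractionRing B₀) F :=
    (Ideal.Quotient.mk _).comp
      (Algebra.TensorProduct.includeRight :
        FractionRing B₀ →ₐ[FractionRing A₀] F ⊗[FractionRing A₀] FractionRing B₀).toRingHom
  letI : Algebra B₀ (EE (FractionRing A₀) (FractionRing B₀) F) :=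
    (ρ.comp (algebraMap B₀ (FractionRing B₀))).toAlgebra
  haveI : IsScalarTower A₀ B₀ (EE (FractionRing A₀) (FractionRing B₀) F) :=
      IsScalarTower.of_algebraMap_eq fun a => by
    have h1 : algebraMap B₀ (FractionRing B₀) (algebraMap A₀ B₀ a) =
        algebraMap (FractionRing A₀) (FractionRing B₀) (algebraMap A₀ (FractionRing A₀) a) := by
      rw [← IsScalarTower.algebraMap_apply A₀ B₀ (FractionRing B₀),
        IsScalarTower.algebraMap_apply A₀ (FractionRing A₀) (FractionRing B₀)]
    have h2 : ∀ k : FractionRing A₀,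
        algebraMap F (F ⊗[FractionRing A₀] FractionRing B₀) (algebraMap (FractionRing A₀) F k) =
          (1 : F) ⊗ₜ[FractionRing A₀] (algebraMap (FractionRing A₀) (FractionRing B₀) k) := by
      intro k
      rw [Algebra.TensorProduct.algebraMap_apply, Algebra.algebraMap_self, RingHom.id_apply,
        Algebra.algebraMap_eq_smul_one, Algebra.algebraMap_eq_smul_one (A := FractionRing B₀),
        TensorProduct.smul_tmul]
    change Ideal.Quotient.mk _ (algebraMap F (F ⊗[FractionRing A₀] FractionRing B₀)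
        (algebraMap (FractionRing A₀) F (algebraMap A₀ (FractionRing A₀) a))) =
      Ideal.Quotient.mk _ ((1 : F) ⊗ₜ[FractionRing A₀]
        (algebraMap B₀ (FractionRing B₀) (algebraMap A₀ B₀ a)))
    rw [h1, h2]
  have hB₀E : Function.Injective (algebraMap B₀ (EE (FractionRing A₀) (FractionRing B₀) F)) :=
    ρ.injective.comp (IsFractionRing.injective B₀ (FractionRing B₀))
  have hA'reg := H A' hA'fin
  exact exists_open_of_data A₀ B₀ A' F (EE (FractionRing A₀) (FractionRing B₀) F) hB₀E hA'reg

end Domain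

section Main

theorem isJ2_of_forall_finite (A : Type u) [CommRing A] [IsNoetherianRing A]
    (H : ∀ (A' : Type u) [CommRing A'] [IsDomain A'] [Algebra A A'], Module.Finite A A' →
      ∃ U : Set (PrimeSpectrum A'), IsOpen U ∧ U.Nonempty ∧ U ⊆ EGA4.regLocus A') :
    EGA4.IsJ2 A := by
  intro S _ _ hSft
  haveI := hSft
  haveI : IsNoetherianRing S := Algebra.FiniteType.isNoetherianRing A S
  apply isOpen_regLocus_of_nagata S
  intro P _
  haveI : IsDomain (S ⧸ P.asIdeal) := Ideal.Quotient.isDomain _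
  haveI : Algebra.FiniteType A (S ⧸ P.asIdeal) :=
    Algebra.FiniteType.of_surjective (Ideal.Quotient.mkₐ A P.asIdeal)
      (Ideal.Quotient.mkₐ_surjective A P.asIdeal)
  let φ : A →+* S ⧸ P.asIdeal := algebraMap A (S ⧸ P.asIdeal)
  haveI : (RingHom.ker φ).IsPrime := RingHom.ker_isPrime φ
  haveI : IsDomain (A ⧸ RingHom.ker φ) := Ideal.Quotient.isDomain _
  letI : Algebra (A ⧸ RingHom.ker φ) (S ⧸ P.asIdeal) := (RingHom.kerLift φ).toAlgebra
  haveI : IsScalarTower A (A ⧸ RingHom.ker φ) (S ⧸ P.asIdeal) :=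
    IsScalarTower.of_algebraMap_eq fun a => rfl
  haveI : Algebra.FiniteType (A ⧸ RingHom.ker φ) (S ⧸ P.asIdeal) :=
    Algebra.FiniteType.of_restrictScalars_finiteType A (A ⧸ RingHom.ker φ) (S ⧸ P.asIdeal)
  refine exists_open_of_domain (A ⧸ RingHom.ker φ) (S ⧸ P.asIdeal)
    (RingHom.kerLift_injective φ) ?_
  intro A' _ _ _ hfin
  haveI := hfin
  letI : Algebra A A' :=
    ((algebraMap (A ⧸ RingHom.ker φ) A').comp (algebraMap A (A ⧸ RingHom.ker φ))).toAlgebra
  haveI : IsScalarTower A (A ⧸ RingHom.ker φ) A' := IsScalarTower.of_algebraMap_eq fun _ => rfl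
  haveI : Module.Finite A (A ⧸ RingHom.ker φ) :=
    Module.Finite.of_surjective (Algebra.linearMap A (A ⧸ RingHom.ker φ))
      Ideal.Quotient.mk_surjective
  exact H A' (Module.Finite.trans (A ⧸ RingHom.ker φ) A')

theorem isJ2_iff (A : Type u) [CommRing A] [IsNoetherianRing A] :
    EGA4.IsJ2 A ↔
      ∀ (A' : Type u) [CommRing A'] [IsDomain A'] [Algebra A A'], Module.Finite A A' →
        ∃ U : Set (PrimeSpectrum A'), IsOpen U ∧ U.Nonempty ∧ U ⊆ EGA4.regLocus A' := by
  constructor
  · intro h A' _ _ _ hfin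
    haveI := hfin
    exact ⟨EGA4.regLocus A', h A' inferInstance, ⟨_, bot_mem_regLocus A'⟩, le_rfl⟩
  · exact isJ2_of_forall_finite A

end Main

end Groth.Agent.Lib.J2CritH3
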