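import Mathlib
import Groth.Prelude.Def_EGA4b
import Groth.Agent.Lib.NagataCrit_helper3
import Groth.Agent.Lib.NormalLift_helper4
import Groth.Agent.Lib.RegOpenSep_helper3

/-!
# The normal locus of a Noetherian ring (helper3)

* `exists_isDomain_away` : `A` Noetherian, `A_p` a domain ⇒ `A_f` a domain for some `f ∉ p`.
* `NormalAt K q` : "`R_q` is integrally closed", phrased inside the fraction field `K` of the
  domain `R`; `normalAt_iff`.
* `normalAt_of_forall_le` : to check normality at `Q` it suffices to check it at the primes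
  `q ≤ Q` which either do not contain `x` or are associated to `R/x`.
* `exists_notMem_forall_normalAt` : spreading out normality.
* `exists_open_nbhd_of_generic` : the core lemma for the normal locus.
APPEND-ONLY once landed.
-/

set_option autoImplicit false
universe u

open PrimeSpectrum

namespace Groth.Agent.Lib.NorLocusH3

section Dom

variable {A : Type*} [CommRing A]

theorem exists_mul_eq_zero_of_fg (M : Submonoid A) (S : Type*) [CommRing S] [Algebra A S]
    [IsLocalization M S] (I : Ideal A) (hI : I.FG) (hk : I ≤ RingHom.ker (algebraMap A S)) :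
    ∃ s ∈ M, ∀ a ∈ I, s * a = 0 := by
  classical
  obtain ⟨T, rfl⟩ := hI
  have h1 : ∀ t ∈ T, ∃ m : M, (m : A) * t = 0 := by
    intro t ht
    have : algebraMap A S t = 0 := hk (Ideal.subset_span ht)
    exact (IsLocalization.map_eq_zero_iff M S t).mp this
  choose! m hm using h1
  refine ⟨∏ t ∈ T, (m t : A), ?_, ?_⟩
  · exact Submonoid.prod_mem _ (fun t _ => (m t).2)
  · intro a ha
    induction ha using Submodule.span_induction with
    | mem x hx =>
      rw [← Finset.mul_prod_erase T _ hx, mul_right_comm, hm x hx, zero_mul]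
    | zero => simp
    | add x y _ _ hx hy => rw [mul_add, hx, hy, add_zero]
    | smul r x _ hx => rw [smul_eq_mul, mul_left_comm, hx, mul_zero]

theorem exists_isDomain_away [IsNoetherianRing A] (p : Ideal A) [p.IsPrime]
    [IsDomain (Localization.AtPrime p)] : ∃ f ∉ p, IsDomain (Localization.Away f) := by
  obtain ⟨s, hs, hsI⟩ := exists_mul_eq_zero_of_fg p.primeCompl (Localization.AtPrime p)
    (RingHom.ker (algebraMap A (Localization.AtPrime p))) (IsNoetherian.noetherian _) le_rfl
  refine ⟨s, hs, ?_⟩
  have hu : IsUnit (algebraMap A (Localization.AtPrime p) s) :=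
    IsLocalization.map_units _ (⟨s, hs⟩ : p.primeCompl)
  let φ : Localization.Away s →+* Localization.AtPrime p := IsLocalization.Away.lift s hu
  have hφ : ∀ a, φ (algebraMap A _ a) = algebraMap A _ a :=
    fun a => IsLocalization.Away.lift_eq s hu a
  have hus : IsUnit (algebraMap A (Localization.Away s) s) :=
    IsLocalization.Away.algebraMap_isUnit s
  have hinj : Function.Injective φ := by
    rw [injective_iff_map_eq_zero]
    intro z hz
    obtain ⟨a, ⟨_, n, rfl⟩, rfl⟩ := IsLocalization.exists_mk'_eq (Submonoid.powers s) z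
    have h1 : IsLocalization.mk' (Localization.Away s) a
        (⟨s ^ n, n, rfl⟩ : Submonoid.powers s) * algebraMap A _ (s ^ n) = algebraMap A _ a :=
      IsLocalization.mk'_spec _ _ _
    have h2 := congrArg φ h1
    rw [map_mul, hz, zero_mul, hφ] at h2
    have h3 : s * a = 0 := hsI a (by rw [RingHom.mem_ker]; exact h2.symm)
    have h4 : algebraMap A (Localization.Away s) a = 0 := by
      have : algebraMap A (Localization.Away s) s * algebraMap A (Localization.Away s) a = 0 := by
        rw [← map_mul, h3, map_zero]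
      exact (hus.mul_right_eq_zero).mp this
    rw [h4] at h1
    have hun : IsUnit (algebraMap A (Localization.Away s) (s ^ n)) := by
      rw [map_pow]; exact hus.pow n
    exact (hun.mul_left_eq_zero).mp h1
  exact hinj.isDomain φ

end Dom

section NormalAt

variable {R : Type*} [CommRing R] [IsDomain R] (K : Type*) [Field K] [Algebra R K]
  [IsFractionRing R K]

/-- "`R_q` is integrally closed", phrased inside the fraction field. -/
def NormalAt (q : Ideal R) : Prop :=
  ∀ t : K, IsIntegral R t → ∃ u ∉ q, ∃ r : R, algebraMap R K r = u • t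

variable {K}

theorem NormalAt.mono {q q' : Ideal R} (h : NormalAt K q') (hle : q ≤ q') : NormalAt K q := by
  intro t ht
  obtain ⟨u, hu, r, hr⟩ := h t ht
  exact ⟨u, fun hq => hu (hle hq), r, hr⟩

variable (K)

theorem normalAt_iff (q : Ideal R) [q.IsPrime] :
    NormalAt K q ↔ IsIntegrallyClosed (Localization.AtPrime q) := by
  let S := Localization.AtPrime q
  have hunit : ∀ y : q.primeCompl, IsUnit (algebraMap R K (y : R)) := by
    intro y
    apply IsUnit.mk0
    rw [map_ne_zero_iff _ (IsFractionRing.injective R K)]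
    rintro h0
    exact y.2 (h0 ▸ q.zero_mem)
  letI : Algebra S K := (IsLocalization.lift (M := q.primeCompl) (S := S) hunit).toAlgebra
  haveI : IsScalarTower R S K := IsScalarTower.of_algebraMap_eq (fun r => by
    change algebraMap R K r = (IsLocalization.lift (M := q.primeCompl) (S := S) hunit)
      (algebraMap R S r)
    rw [IsLocalization.lift_eq])
  haveI : IsFractionRing S K :=
    IsFractionRing.isFractionRing_of_isDomain_of_isLocalization q.primeCompl S K
  rw [isIntegrallyClosed_iff K]
  constructor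
  · intro h t ht
    obtain ⟨m, hm⟩ := IsIntegral.exists_multiple_integral_of_isLocalization q.primeCompl t ht
    obtain ⟨u, hu, r, hr⟩ := h _ hm
    have hd : u * (m : R) ∈ q.primeCompl := mul_mem (s := q.primeCompl) hu m.2
    refine ⟨IsLocalization.mk' S r (⟨u * m, hd⟩ : q.primeCompl), ?_⟩
    have h1 : IsLocalization.mk' S r (⟨u * m, hd⟩ : q.primeCompl) * algebraMap R S (u * m) =
        algebraMap R S r := IsLocalization.mk'_spec _ _ _
    have h2 := congrArg (algebraMap S K) h1
    rw [map_mul, ← IsScalarTower.algebraMap_apply, ← IsScalarTower.algebraMap_apply, hr] at h2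
    have hne : algebraMap R K (u * m) ≠ 0 := (hunit ⟨u * m, hd⟩).ne_zero
    apply mul_right_cancel₀ hne
    rw [h2, Submonoid.smul_def, Algebra.smul_def, Algebra.smul_def, map_mul]
    ring
  · intro h t ht
    obtain ⟨y, hy⟩ := h (ht.tower_top (A := S))
    obtain ⟨r, d, rfl⟩ := IsLocalization.exists_mk'_eq q.primeCompl y
    refine ⟨d, d.2, r, ?_⟩
    have h1 : IsLocalization.mk' S r d * algebraMap R S d = algebraMap R S r :=
      IsLocalization.mk'_spec _ _ _
    have h2 := congrArg (algebraMap S K) h1
    rw [map_mul, ← IsScalarTower.algebraMap_apply, ← IsScalarTower.algebraMap_apply, hy] at h2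
    rw [← h2, Algebra.smul_def, mul_comm]

end NormalAt

section LemmaC

variable {R : Type*} [CommRing R] [IsDomain R] [IsNoetherianRing R] (K : Type*) [Field K]
  [Algebra R K] [IsFractionRing R K]

/-- To check normality at `Q` it suffices to check it at the primes `q ≤ Q` which either do not
contain `x` or are associated to `R/x`. -/
theorem normalAt_of_forall_le (x : R) (hx : x ≠ 0) (Q : Ideal R) [Q.IsPrime]
    (h : ∀ q : Ideal R, q.IsPrime → q ≤ Q →
      (x ∉ q ∨ q ∈ associatedPrimes R (R ⧸ Ideal.span {x})) → NormalAt K q) :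
    NormalAt K Q := by
  intro t ht
  by_contra hcon
  push Not at hcon
  let N : Submodule R K := LinearMap.range (Algebra.linearMap R K)
  let D : Ideal R := N.colon {t}
  have hD : ∀ u, u ∈ D ↔ ∃ r : R, algebraMap R K r = u • t := by
    intro u
    rw [Submodule.mem_colon_singleton]
    simp [N]
  have hDQ : D ≤ Q := by
    intro u hu
    by_contra huQ
    obtain ⟨r, hr⟩ := (hD u).mp hu
    exact hcon u huQ r hr
  obtain ⟨q, hqmin, hqQ⟩ := Ideal.exists_minimalPrimes_le hDQ
  have hass : q ∈ associatedPrimes R (R ⧸ D) := by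
    apply Module.associatedPrimes.minimalPrimes_annihilator_subset_associatedPrimes
    rwa [Ideal.annihilator_quotient]
  rw [AssociatedPrimes.mem_iff, isAssociatedPrime_iff] at hass
  obtain ⟨hqp, sbar, hs⟩ := hass
  obtain ⟨s, rfl⟩ := Ideal.Quotient.mk_surjective sbar
  have hq : ∀ u, u ∈ q ↔ ∃ r : R, algebraMap R K r = (u * s) • t := by
    intro u
    rw [hs, Submodule.mem_colon_singleton, Submodule.mem_bot, ← hD]
    rw [show u • (Ideal.Quotient.mk D s) = Ideal.Quotient.mk D (u * s) from rfl,
      Ideal.Quotient.eq_zero_iff_mem]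
  have hX : algebraMap R K x ≠ 0 := (map_ne_zero_iff _ (IsFractionRing.injective R K)).mpr hx
  have hnq : NormalAt K q := by
    apply h q hqp hqQ
    by_cases hxq : x ∈ q
    · right
      obtain ⟨r', hr'⟩ := (hq x).mp hxq
      rw [AssociatedPrimes.mem_iff, isAssociatedPrime_iff]
      refine ⟨hqp, Ideal.Quotient.mk _ r', ?_⟩
      ext u
      rw [Submodule.mem_colon_singleton, Submodule.mem_bot, hq,
        show u • (Ideal.Quotient.mk (Ideal.span {x}) r') =
          Ideal.Quotient.mk (Ideal.span {x}) (u * r') from rfl,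
        Ideal.Quotient.eq_zero_iff_mem, Ideal.mem_span_singleton']
      rw [Algebra.smul_def, map_mul] at hr'
      constructor
      · rintro ⟨r, hr⟩
        refine ⟨r, ?_⟩
        apply IsFractionRing.injective R K
        rw [map_mul, map_mul, hr, hr', Algebra.smul_def, map_mul]
        ring
      · rintro ⟨c, hc⟩
        refine ⟨c, ?_⟩
        have h1 := congrArg (algebraMap R K) hc
        rw [map_mul, map_mul, hr'] at h1
        apply mul_left_cancel₀ hX
        rw [Algebra.smul_def, map_mul]
        linear_combination h1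
    · left; exact hxq
  have hst : IsIntegral R (s • t) := ht.smul s
  obtain ⟨u, hu, r, hr⟩ := hnq _ hst
  apply hu
  rw [hq]
  exact ⟨r, by rw [hr, mul_smul]⟩

/-- Spreading out normality: if `R` is normal at `P` and on `D(x)` then it is normal on a
neighbourhood `D(g)` of `P`. -/
theorem exists_notMem_forall_normalAt (P : Ideal R) [P.IsPrime] (hP : NormalAt K P) (x : R)
    (hx : x ≠ 0) (hxq : ∀ q : Ideal R, q.IsPrime → x ∉ q → NormalAt K q) :
    ∃ g ∉ P, ∀ Q : Ideal R, Q.IsPrime → g ∉ Q → NormalAt K Q := by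
  classical
  have hfin : (associatedPrimes R (R ⧸ Ideal.span {x})).Finite := associatedPrimes.finite R _
  let T : Finset (Ideal R) := hfin.toFinset.filter (fun q => ¬ q ≤ P)
  have hex : ∀ q : Ideal R, ¬ q ≤ P → ∃ a ∈ q, a ∉ P := fun q hq =>
    SetLike.not_le_iff_exists.mp hq
  let gq : Ideal R → R := fun q => if hq : ¬ q ≤ P then (hex q hq).choose else 1
  have hgq1 : ∀ q, ¬ q ≤ P → gq q ∈ q := by
    intro q hq
    simp only [gq, dif_pos hq]
    exact (hex q hq).choose_spec.1
  have hgq2 : ∀ q, gq q ∉ P := by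
    intro q
    by_cases hq : ¬ q ≤ P
    · simp only [gq, dif_pos hq]
      exact (hex q hq).choose_spec.2
    · simp only [gq, dif_neg hq]
      exact fun h1 => (Ideal.ne_top_iff_one P).mp (Ideal.IsPrime.ne_top') h1
  refine ⟨∏ q ∈ T, gq q, ?_, ?_⟩
  · rw [Ideal.IsPrime.prod_mem_iff]
    rintro ⟨q, -, hq⟩
    exact hgq2 q hq
  · intro Q hQ hgQ
    haveI := hQ
    apply normalAt_of_forall_le K x hx Q
    intro q hqp hqQ hq
    rcases hq with hq | hq
    · exact hxq q hqp hq
    · by_cases hle : q ≤ P
      · exact hP.mono hle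
      · exfalso
        apply hgQ
        apply hqQ
        have hqT : q ∈ T := by
          simp only [T, Finset.mem_filter, Set.Finite.mem_toFinset]
          exact ⟨hq, hle⟩
        rw [← Finset.mul_prod_erase T _ hqT]
        exact Ideal.mul_mem_right _ _ (hgq1 q hle)

end LemmaC

section Core

theorem normal_of_ringEquiv {R S : Type*} [CommRing R] [CommRing S] (e : R ≃+* S)
    (h : IsDomain R ∧ IsIntegrallyClosed R) : IsDomain S ∧ IsIntegrallyClosed S := by
  obtain ⟨h1, h2⟩ := h
  exact ⟨MulEquiv.isDomain R e.symm.toMulEquiv, IsIntegrallyClosed.of_equiv e⟩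

variable (A : Type u) [CommRing A]

theorem mem_norLocus_under_iff (T : Submonoid A) (S : Type u) [CommRing S] [Algebra A S]
    [IsLocalization T S] (Q : PrimeSpectrum S) :
    PrimeSpectrum.comap (algebraMap A S) Q ∈ EGA4.norLocus A ↔ Q ∈ EGA4.norLocus S := by
  have e := NagataCritH3.atPrimeUnderEquiv A T S Q.asIdeal
  exact ⟨fun h => normal_of_ringEquiv e h, fun h => normal_of_ringEquiv e.symm h⟩

/-- The core lemma: if `p` is in the normal locus and some generization of `p` has an open
neighbourhood contained in the normal locus, then so does `p`. -/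
theorem exists_open_nbhd_of_generic [IsNoetherianRing A] (p : PrimeSpectrum A)
    (hp : p ∈ EGA4.norLocus A) (U : Set (PrimeSpectrum A)) (hU : IsOpen U)
    (hUN : U ⊆ EGA4.norLocus A) (p₀ : PrimeSpectrum A) (h0 : p₀ ∈ U)
    (hle : p₀.asIdeal ≤ p.asIdeal) :
    ∃ V : Set (PrimeSpectrum A), IsOpen V ∧ p ∈ V ∧ V ⊆ EGA4.norLocus A := by
  haveI : IsDomain (Localization.AtPrime p.asIdeal) := hp.1
  obtain ⟨f, hf, hdom⟩ := exists_isDomain_away p.asIdeal
  let R := Localization.Away f
  haveI : IsDomain R := hdom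
  haveI : IsNoetherianRing R :=
    IsLocalization.isNoetherianRing (Submonoid.powers f) R inferInstance
  let φ : PrimeSpectrum R → PrimeSpectrum A := PrimeSpectrum.comap (algebraMap A R)
  have hφ : Topology.IsOpenEmbedding φ := PrimeSpectrum.localization_away_isOpenEmbedding R f
  have hrange : Set.range φ = basicOpen f := PrimeSpectrum.localization_away_comap_range R f
  have hpr : p ∈ Set.range φ := by rw [hrange]; exact hf
  obtain ⟨P, hP⟩ := hpr
  have hp0r : p₀ ∈ Set.range φ := by rw [hrange]; exact fun h => hf (hle h)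
  obtain ⟨P₀, hP₀⟩ := hp0r
  have hnor : ∀ q : PrimeSpectrum R, φ q ∈ EGA4.norLocus A ↔ q ∈ EGA4.norLocus R :=
    mem_norLocus_under_iff A (Submonoid.powers f) R
  have hU' : IsOpen (φ ⁻¹' U) := hU.preimage hφ.continuous
  have hne : (φ ⁻¹' U).Nonempty := ⟨P₀, by rw [Set.mem_preimage, hP₀]; exact h0⟩
  obtain ⟨x, hx0, hxU⟩ := RegOpenSepH3.exists_basicOpen_subset _ hU' hne
  let K := FractionRing R
  have hxq : ∀ q : Ideal R, q.IsPrime → x ∉ q → NormalAt K q := by
    intro q hq hxq
    haveI := hq
    rw [normalAt_iff]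
    have : (⟨q, hq⟩ : PrimeSpectrum R) ∈ EGA4.norLocus R :=
      (hnor _).mp (hUN (hxU (a := ⟨q, hq⟩) hxq))
    exact this.2
  have hPn : NormalAt K P.asIdeal := by
    rw [normalAt_iff]
    exact ((hnor P).mp (hP ▸ hp)).2
  obtain ⟨g, hgP, hg⟩ := exists_notMem_forall_normalAt K P.asIdeal hPn x hx0 hxq
  refine ⟨φ '' (basicOpen g), hφ.isOpenMap _ (basicOpen g).2, ⟨P, hgP, hP⟩, ?_⟩
  rintro _ ⟨q, hq, rfl⟩
  rw [hnor]
  exact ⟨inferInstance, (normalAt_iff K q.asIdeal).mp (hg q.asIdeal q.2 hq)⟩

/-- The normal locus is stable under generization. -/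
theorem stableUnderGeneralization_norLocus : StableUnderGeneralization (EGA4.norLocus A) := by
  intro x y hyx hx
  have hle : y.asIdeal ≤ x.asIdeal := (le_iff_specializes y x).mpr hyx
  obtain ⟨hd, hic⟩ := hx
  haveI := hd
  haveI := hic
  have hd' : Disjoint (x.asIdeal.primeCompl : Set A) y.asIdeal := by
    rw [Set.disjoint_left]
    intro a ha hay
    exact ha (hle hay)
  let S := Localization.AtPrime x.asIdeal
  haveI : (y.asIdeal.map (algebraMap A S)).IsPrime :=
    IsLocalization.isPrime_of_isPrime_disjoint x.asIdeal.primeCompl _ _ y.2 hd'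
  have hcomap : (y.asIdeal.map (algebraMap A S)).under A = y.asIdeal :=
    IsLocalization.under_map_of_isPrime_disjoint x.asIdeal.primeCompl _ y.2 hd'
  have key : (⟨y.asIdeal.map (algebraMap A S), inferInstance⟩ : PrimeSpectrum S) ∈
      EGA4.norLocus S := by
    refine ⟨inferInstance, ?_⟩
    exact isIntegrallyClosed_of_isLocalization _ _
      (Ideal.primeCompl_le_nonZeroDivisors (y.asIdeal.map (algebraMap A S)))
  have := (mem_norLocus_under_iff A x.asIdeal.primeCompl S _).mpr key
  have heq : PrimeSpectrum.comap (algebraMap A S)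
      ⟨y.asIdeal.map (algebraMap A S), inferInstance⟩ = y := PrimeSpectrum.ext hcomap
  rwa [heq] at this

/-- The regular locus is contained in the normal locus. -/
theorem regLocus_subset_norLocus : EGA4.regLocus A ⊆ EGA4.norLocus A := by
  intro p hp
  change IsRegularLocalRing (Localization.AtPrime p.asIdeal) at hp
  haveI := hp
  exact ⟨Groth.Agent.RegularLib.isDomain _,
    Groth.Agent.Lib.NormalLiftH4.isIntegrallyClosed_of_isRegularLocalRing _⟩

end Core

end Groth.Agent.Lib.NorLocusH3

namespace Groth.Agent.Lib.NorLocusH3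

section Gen

variable (A : Type u) [CommRing A]

/-- A point of the normal locus has a generization in the regular locus. -/
theorem exists_generization_mem_regLocus [IsNoetherianRing A] (p : PrimeSpectrum A)
    (hp : p ∈ EGA4.norLocus A) :
    ∃ p₀ : PrimeSpectrum A, p₀ ∈ EGA4.regLocus A ∧ p₀.asIdeal ≤ p.asIdeal := by
  haveI : IsDomain (Localization.AtPrime p.asIdeal) := hp.1
  obtain ⟨f, hf, hdom⟩ := exists_isDomain_away p.asIdeal
  let R := Localization.Away f
  haveI : IsDomain R := hdom
  let φ : PrimeSpectrum R → PrimeSpectrum A := PrimeSpectrum.comap (algebraMap A R)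
  have hrange : Set.range φ = basicOpen f := PrimeSpectrum.localization_away_comap_range R f
  have hpr : p ∈ Set.range φ := by rw [hrange]; exact hf
  obtain ⟨P, hP⟩ := hpr
  refine ⟨φ ⟨⊥, Ideal.isPrime_bot⟩, ?_, ?_⟩
  · have h1 := NagataCritH3.bot_mem_regLocus R
    change IsRegularLocalRing (Localization.AtPrime (⊥ : Ideal R)) at h1
    exact (NagataCritH3.isRegularLocalRing_under_iff A (Submonoid.powers f) R ⊥).mpr h1
  · rw [← hP]
    exact Ideal.comap_mono bot_le

end Gen

end Groth.Agent.Lib.NorLocusH3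

namespace Groth.Agent.Lib.NorLocusH3

section Reduced

variable {A : Type*} [CommRing A] [IsReduced A] [IsNoetherianRing A]

/-- In a reduced Noetherian ring every element can be completed to a non-zero-divisor by an
element of its annihilator. -/
theorem exists_add_mem_nonZeroDivisors (b : A) :
    ∃ c y : A, y * b = 0 ∧ b * c + y ∈ nonZeroDivisors A := by
  let J : Ideal A := (⊥ : Ideal A).colon {b}
  have hJ : ∀ y, y ∈ J ↔ y * b = 0 := by
    intro y
    rw [Submodule.mem_colon_singleton, Submodule.mem_bot, smul_eq_mul]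
  let I : Ideal A := Ideal.span {b} ⊔ J
  by_contra hcon
  push Not at hcon
  have hdisj : Disjoint (I : Set A) (nonZeroDivisors A) := by
    rw [Set.disjoint_left]
    intro x hx
    obtain ⟨z, hz, y, hy, rfl⟩ := Submodule.mem_sup.mp hx
    obtain ⟨c, rfl⟩ := Ideal.mem_span_singleton'.mp hz
    rw [mul_comm c b]
    exact hcon c y ((hJ y).mp hy)
  have hlt := Ideal.bot_lt_annihilator_of_disjoint_nonZeroDivisors hdisj
  obtain ⟨x, hx, hx0⟩ := SetLike.exists_of_lt hlt
  rw [Module.mem_annihilator] at hx
  have hbI : b ∈ I := Ideal.mem_sup_left (Ideal.mem_span_singleton_self b)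
  have hxb : x * b = 0 := by
    have := hx ⟨b, hbI⟩
    simpa using congrArg Subtype.val this
  have hxI : x ∈ I := Ideal.mem_sup_right ((hJ x).mpr hxb)
  have hxx : x * x = 0 := by
    have := hx ⟨x, hxI⟩
    simpa using congrArg Subtype.val this
  apply hx0
  rw [Ideal.mem_bot]
  exact IsReduced.eq_zero x ⟨2, by rw [pow_two]; exact hxx⟩

variable (A)

/-- Finiteness of the normalization gives a uniform denominator on a principal open on which
the ring is a domain. -/
theorem exists_uniform_denominator
    (h : Module.Finite A (integralClosure A (FractionRing A))) (f : A)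
    (R : Type*) [CommRing R] [IsDomain R] [Algebra A R] [IsLocalization.Away f R]
    (K : Type*) [Field K] [Algebra R K] [IsFractionRing R K] [Algebra A K] [IsScalarTower A R K] :
    ∃ s : A, algebraMap A R s ≠ 0 ∧ ∀ t : K, IsIntegral R t →
      ∃ r : R, algebraMap R K r = (algebraMap A R s) • t := by
  let Q := FractionRing A
  have hRK : Function.Injective (algebraMap R K) := IsFractionRing.injective R K
  have hαeq : ∀ a, algebraMap A K a = algebraMap R K (algebraMap A R a) := fun a =>
    IsScalarTower.algebraMap_apply A R K a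
  have hfu : IsUnit (algebraMap A R f) := IsLocalization.Away.algebraMap_isUnit f
  -- (a) non-zero-divisors stay non-zero
  have hα : ∀ d ∈ nonZeroDivisors A, algebraMap A K d ≠ 0 := by
    intro d hd h0
    rw [hαeq, map_eq_zero_iff _ hRK] at h0
    obtain ⟨⟨_, n, rfl⟩, hm⟩ := (IsLocalization.map_eq_zero_iff (Submonoid.powers f) R d).mp h0
    have hfn : f ^ n = 0 := (mem_nonZeroDivisors_iff_right.mp hd) _ hm
    have : IsUnit (algebraMap A R (f ^ n)) := by rw [map_pow]; exact hfu.pow n
    rw [hfn, map_zero] at this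
    exact not_isUnit_zero this
  let ψ : Q →+* K := IsLocalization.lift (M := nonZeroDivisors A) (g := algebraMap A K)
    (fun d => IsUnit.mk0 _ (hα d d.2))
  have hψ : ∀ a, ψ (algebraMap A Q a) = algebraMap A K a := fun a => IsLocalization.lift_eq _ a
  have hψc : ψ.comp (algebraMap A Q) = algebraMap A K := RingHom.ext hψ
  -- (e) a power of `f` kills the kernel
  obtain ⟨e, ⟨N, rfl⟩, heI⟩ := exists_mul_eq_zero_of_fg (Submonoid.powers f) R
    (RingHom.ker (algebraMap A R)) (IsNoetherian.noetherian _) le_rfl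
  have hker : ∀ a, algebraMap A K a = 0 → f ^ N * a = 0 := by
    intro a ha
    rw [hαeq, map_eq_zero_iff _ hRK] at ha
    exact heI a ha
  have hfK : algebraMap A K (f ^ N) ≠ 0 := by
    rw [hαeq, map_ne_zero_iff _ hRK, map_pow]
    exact (hfu.pow N).ne_zero
  -- (b) `ψ` is surjective
  have hfrac : ∀ a b, algebraMap A K b ≠ 0 → ∃ w : Q, ψ w * algebraMap A K b = algebraMap A K a := by
    intro a b hb
    obtain ⟨c, y, hyb, hd⟩ := exists_add_mem_nonZeroDivisors b
    have hy0 : algebraMap A K y = 0 := by
      have := congrArg (algebraMap A K) hyb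
      rw [map_mul, map_zero] at this
      exact (mul_eq_zero.mp this).resolve_right hb
    have hdK : algebraMap A K (b * c + y) ≠ 0 := hα _ hd
    refine ⟨IsLocalization.mk' Q (a * c) (⟨b * c + y, hd⟩ : nonZeroDivisors A), ?_⟩
    have h1 : IsLocalization.mk' Q (a * c) (⟨b * c + y, hd⟩ : nonZeroDivisors A) *
        algebraMap A Q (b * c + y) = algebraMap A Q (a * c) := IsLocalization.mk'_spec _ _ _
    have h2 := congrArg ψ h1
    rw [map_mul, hψ, hψ] at h2
    have hcK : algebraMap A K c ≠ 0 := by
      intro hc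
      apply hdK
      rw [map_add, map_mul, hc, hy0]
      ring
    rw [map_add, map_mul, hy0, add_zero, map_mul] at h2
    apply mul_right_cancel₀ hcK
    linear_combination h2
  have hsurj : Function.Surjective ψ := by
    intro k
    obtain ⟨r₁, r₂, hr₂, rfl⟩ := IsFractionRing.div_surjective (A := R) k
    obtain ⟨a₁, ⟨_, n₁, rfl⟩, rfl⟩ := IsLocalization.exists_mk'_eq (Submonoid.powers f) r₁
    obtain ⟨a₂, ⟨_, n₂, rfl⟩, rfl⟩ := IsLocalization.exists_mk'_eq (Submonoid.powers f) r₂
    have e1 : IsLocalization.mk' R a₁ (⟨f ^ n₁, n₁, rfl⟩ : Submonoid.powers f) *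
        algebraMap A R (f ^ n₁) = algebraMap A R a₁ := IsLocalization.mk'_spec _ _ _
    have e2 : IsLocalization.mk' R a₂ (⟨f ^ n₂, n₂, rfl⟩ : Submonoid.powers f) *
        algebraMap A R (f ^ n₂) = algebraMap A R a₂ := IsLocalization.mk'_spec _ _ _
    have e1' := congrArg (algebraMap R K) e1
    have e2' := congrArg (algebraMap R K) e2
    rw [map_mul, ← hαeq, ← hαeq] at e1' e2'
    have hr₂0 : algebraMap R K (IsLocalization.mk' R a₂
        (⟨f ^ n₂, n₂, rfl⟩ : Submonoid.powers f)) ≠ 0 :=
      (map_ne_zero_iff _ hRK).mpr (nonZeroDivisors.ne_zero hr₂)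
    have hf1 : algebraMap A K (f ^ n₁) ≠ 0 := by
      rw [hαeq, map_ne_zero_iff _ hRK, map_pow]
      exact (hfu.pow n₁).ne_zero
    have hf2 : algebraMap A K (f ^ n₂) ≠ 0 := by
      rw [hαeq, map_ne_zero_iff _ hRK, map_pow]
      exact (hfu.pow n₂).ne_zero
    have hb : algebraMap A K (a₂ * f ^ n₁) ≠ 0 := by
      rw [map_mul, ← e2']
      exact mul_ne_zero (mul_ne_zero hr₂0 hf2) hf1
    obtain ⟨w, hw⟩ := hfrac (a₁ * f ^ n₂) (a₂ * f ^ n₁) hb
    refine ⟨w, ?_⟩
    rw [eq_div_iff hr₂0]
    apply mul_right_cancel₀ (mul_ne_zero hf2 hf1)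
    rw [map_mul, map_mul, ← e1', ← e2'] at hw
    linear_combination hw
  -- (c) `ε`
  obtain ⟨we, hwe⟩ := hfrac 1 (f ^ N) hfK
  rw [map_one] at hwe
  let ε : Q := algebraMap A Q (f ^ N) * we
  have hε1 : ψ ε = 1 := by
    simp only [ε, map_mul, hψ]
    rw [mul_comm]; exact hwe
  have hε0 : ∀ z : Q, ψ z = 0 → ε * z = 0 := by
    intro z hz
    obtain ⟨a, d, rfl⟩ := IsLocalization.exists_mk'_eq (nonZeroDivisors A) z
    have h1 : IsLocalization.mk' Q a d * algebraMap A Q d = algebraMap A Q a :=
      IsLocalization.mk'_spec _ _ _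
    have h2 := congrArg ψ h1
    rw [map_mul, hz, zero_mul, hψ] at h2
    have h3 : f ^ N * a = 0 := hker a h2.symm
    have hdu : IsUnit (algebraMap A Q d) := IsLocalization.map_units Q d
    have h4 : algebraMap A Q (f ^ N) * IsLocalization.mk' Q a d * algebraMap A Q d = 0 := by
      rw [mul_assoc, h1, ← map_mul, h3, map_zero]
    have h5 : algebraMap A Q (f ^ N) * IsLocalization.mk' Q a d = 0 :=
      (hdu.mul_left_eq_zero).mp h4
    simp only [ε]
    rw [mul_right_comm, h5, zero_mul]
  have hlift : ∀ t : K, IsIntegral A t → ∃ t'' : Q, IsIntegral A t'' ∧ ψ t'' = t := by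
    intro t ht
    obtain ⟨t', rfl⟩ := hsurj t
    obtain ⟨P, hP, hPt⟩ := ht
    refine ⟨ε * t', ⟨Polynomial.X * P, Polynomial.monic_X.mul hP, ?_⟩, ?_⟩
    · have hψe : ψ (ε * t') = ψ t' := by rw [map_mul, hε1, one_mul]
      have h0 : ψ (Polynomial.eval₂ (algebraMap A Q) (ε * t') P) = 0 := by
        rw [Polynomial.hom_eval₂, hψc, hψe]
        exact hPt
      rw [Polynomial.eval₂_mul, Polynomial.eval₂_X, mul_assoc, mul_comm t', ← mul_assoc,
        hε0 _ h0, zero_mul]
    · rw [map_mul, hε1, one_mul]
  -- (d) common denominator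
  obtain ⟨T, hT⟩ := (Module.Finite.iff_fg
    (N := Subalgebra.toSubmodule (integralClosure A Q))).mp h
  obtain ⟨s, hs⟩ := IsLocalization.exist_integer_multiples_of_finset (nonZeroDivisors A) T
  have hden : ∀ t' : Q, IsIntegral A t' → ∃ a : A, algebraMap A Q a = (s : A) • t' := by
    intro t' ht'
    have hmem : t' ∈ Submodule.span A (T : Set Q) := by
      rw [hT]; exact ht'
    clear ht'
    induction hmem using Submodule.span_induction with
    | mem x hx => exact hs x hx
    | zero => exact ⟨0, by simp⟩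
    | add x y _ _ hx hy =>
      obtain ⟨a, ha⟩ := hx
      obtain ⟨b, hb⟩ := hy
      exact ⟨a + b, by rw [map_add, ha, hb, smul_add]⟩
    | smul c x _ hx =>
      obtain ⟨a, ha⟩ := hx
      exact ⟨c * a, by rw [map_mul, ha, Algebra.smul_def, Algebra.smul_def, Algebra.smul_def]; ring⟩
  -- (f) assembly
  refine ⟨s, ?_, ?_⟩
  · have := hα s s.2
    rw [hαeq] at this
    exact fun h0 => this (by rw [h0, map_zero])
  · intro t ht
    obtain ⟨m, hm⟩ := IsIntegral.exists_multiple_integral_of_isLocalization
      (Submonoid.powers f) t ht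
    obtain ⟨t'', ht'', hψt⟩ := hlift _ hm
    obtain ⟨a, ha⟩ := hden t'' ht''
    refine ⟨IsLocalization.mk' R a m, ?_⟩
    have h1 : IsLocalization.mk' R a m * algebraMap A R m = algebraMap A R a :=
      IsLocalization.mk'_spec _ _ _
    have h2 := congrArg (algebraMap R K) h1
    rw [map_mul, ← hαeq, ← hαeq] at h2
    have h3 := congrArg ψ ha
    rw [hψ, Algebra.smul_def, map_mul, hψ, hψt, Submonoid.smul_def, Algebra.smul_def] at h3
    have hmK : algebraMap A K (m : A) ≠ 0 := by
      obtain ⟨_, n, rfl⟩ := m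
      rw [hαeq, map_ne_zero_iff _ hRK, map_pow]
      exact (hfu.pow n).ne_zero
    apply mul_right_cancel₀ hmK
    rw [h2, h3, Algebra.smul_def, ← hαeq]
    ring

end Reduced

end Groth.Agent.Lib.NorLocusH3
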