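import Mathlib
import Groth.Prelude.Def_EGA4b
import Groth.Agent.Lib.NorLocus_helper3
import Groth.Agent.Lib.SerreNormal_helper5
import Groth.Agent.Lib.SmoothRegHom_helper3
import Groth.Agent.Lib.RegFlat2_helper3
import Groth.Agent.Lib.J2Crit_helper3

/-!
# Ascent of normality along flat maps with regular fibres (helper3)

* `IsColon q a` : the ideal `q` is of the form `((a) : z)`.
* `normalAt_of_forall_colon` : Krull-type criterion: a Noetherian domain is normal at `Q` as soon
  as it is normal at the primes `q ≤ Q` of the form `((x) : z)`.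
* `isColon_under_of_flat` : for `B` flat over `A`, the contraction of an associated prime of `B/aB`
  is an associated prime of `A/aA`.
* `regular_of_isColon` : a normal Noetherian local domain whose maximal ideal is `((a) : z)` is
  regular of dimension `≤ 1`.
* `normalAt_of_flat` : ascent.
APPEND-ONLY once landed.
-/

set_option autoImplicit false
universe u

open PrimeSpectrum

namespace Groth.Agent.Lib.NorLocus2H3

open Groth.Agent.Lib.NorLocusH3

section Colon

variable {R : Type*} [CommRing R]

/-- `q = ((a) : z)` for some `z`. -/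
def IsColon (q : Ideal R) (a : R) : Prop :=
  ∃ z : R, ∀ u, u ∈ q ↔ u * z ∈ Ideal.span {a}

/-- swapping the non-zero-divisor -/
theorem IsColon.swap [IsDomain R] {q : Ideal R} {x a : R} (h : IsColon q x) (hx : x ≠ 0)
    (ha : a ≠ 0) (haq : a ∈ q) : IsColon q a := by
  obtain ⟨y, hy⟩ := h
  obtain ⟨z, hz⟩ := Ideal.mem_span_singleton'.mp ((hy a).mp haq)
  -- `z * x = a * y`
  refine ⟨z, fun u => ?_⟩
  rw [hy, Ideal.mem_span_singleton', Ideal.mem_span_singleton']
  constructor
  · rintro ⟨w, hw⟩
    refine ⟨w, ?_⟩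
    apply mul_left_cancel₀ hx
    linear_combination a * hw - u * hz
  · rintro ⟨w, hw⟩
    refine ⟨w, ?_⟩
    apply mul_left_cancel₀ ha
    linear_combination x * hw + u * hz

theorem isColon_of_mem_associatedPrimes [IsNoetherianRing R] {q : Ideal R} {a : R}
    (h : q ∈ associatedPrimes R (R ⧸ Ideal.span {a})) : IsColon q a := by
  rw [AssociatedPrimes.mem_iff, isAssociatedPrime_iff] at h
  obtain ⟨-, zbar, hz⟩ := h
  obtain ⟨z, rfl⟩ := Ideal.Quotient.mk_surjective zbar
  refine ⟨z, fun u => ?_⟩
  rw [hz, Submodule.mem_colon_singleton, Submodule.mem_bot,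
    show u • (Ideal.Quotient.mk (Ideal.span {a}) z) =
      Ideal.Quotient.mk (Ideal.span {a}) (u * z) from rfl, Ideal.Quotient.eq_zero_iff_mem]

theorem mem_associatedPrimes_of_isColon [IsNoetherianRing R] {q : Ideal R} [hq : q.IsPrime]
    {a : R} (h : IsColon q a) : q ∈ associatedPrimes R (R ⧸ Ideal.span {a}) := by
  obtain ⟨z, hz⟩ := h
  rw [AssociatedPrimes.mem_iff, isAssociatedPrime_iff]
  refine ⟨hq, Ideal.Quotient.mk _ z, ?_⟩
  ext u
  rw [hz, Submodule.mem_colon_singleton, Submodule.mem_bot,
    show u • (Ideal.Quotient.mk (Ideal.span {a}) z) =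
      Ideal.Quotient.mk (Ideal.span {a}) (u * z) from rfl, Ideal.Quotient.eq_zero_iff_mem]

end Colon

section Krull

variable {R : Type*} [CommRing R] [IsDomain R] [IsNoetherianRing R] (K : Type*) [Field K]
  [Algebra R K] [IsFractionRing R K]

/-- Krull-type criterion. -/
theorem normalAt_of_forall_colon (Q : Ideal R) [Q.IsPrime]
    (h : ∀ x : R, x ≠ 0 → ∀ q : Ideal R, q.IsPrime → q ≤ Q → IsColon q x → NormalAt K q) :
    NormalAt K Q := by
  intro t ht
  by_contra hcon
  push Not at hcon
  let N : Submodule R K := LinearMap.range (Algebra.linearMap R K)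
  let D : Ideal R := N.colon {t}
  have hD : ∀ u, u ∈ D ↔ ∃ r : R, algebraMap R K r = u • t := by
    intro u
    rw [Submodule.mem_colon_singleton]
    simp [N]
  have hDQ : D ≤ Q := by
    intro u hu
    by_contra huQ
    obtain ⟨r, hr⟩ := (hD u).mp hu
    exact hcon u huQ r hr
  obtain ⟨q, hqmin, hqQ⟩ := Ideal.exists_minimalPrimes_le hDQ
  have hass : q ∈ associatedPrimes R (R ⧸ D) := by
    apply Module.associatedPrimes.minimalPrimes_annihilator_subset_associatedPrimes
    rwa [Ideal.annihilator_quotient]
  rw [AssociatedPrimes.mem_iff, isAssociatedPrime_iff] at hass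
  obtain ⟨hqp, sbar, hs⟩ := hass
  obtain ⟨s, rfl⟩ := Ideal.Quotient.mk_surjective sbar
  have hq : ∀ u, u ∈ q ↔ ∃ r : R, algebraMap R K r = (u * s) • t := by
    intro u
    rw [hs, Submodule.mem_colon_singleton, Submodule.mem_bot, ← hD]
    rw [show u • (Ideal.Quotient.mk D s) = Ideal.Quotient.mk D (u * s) from rfl,
      Ideal.Quotient.eq_zero_iff_mem]
  -- a nonzero element of `D`
  obtain ⟨n, d, hd, rfl⟩ := IsFractionRing.div_surjective (A := R) t
  have hd0 : d ≠ 0 := nonZeroDivisors.ne_zero hd
  have hdK : algebraMap R K d ≠ 0 := (map_ne_zero_iff _ (IsFractionRing.injective R K)).mpr hd0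
  have hdD : d ∈ D := by
    rw [hD]
    exact ⟨n, by rw [Algebra.smul_def, mul_div_cancel₀ _ hdK]⟩
  have hdq : d ∈ q := hqmin.1.2 hdD
  have hnq : NormalAt K q := by
    apply h d hd0 q hqp hqQ
    obtain ⟨r', hr'⟩ := (hq d).mp hdq
    refine ⟨r', fun u => ?_⟩
    rw [hq, Ideal.mem_span_singleton']
    rw [Algebra.smul_def, map_mul] at hr'
    constructor
    · rintro ⟨r, hr⟩
      refine ⟨r, ?_⟩
      apply IsFractionRing.injective R K
      rw [map_mul, map_mul, hr, hr', Algebra.smul_def, map_mul]
      ring
    · rintro ⟨c, hc⟩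
      refine ⟨c, ?_⟩
      have h1 := congrArg (algebraMap R K) hc
      rw [map_mul, map_mul, hr'] at h1
      apply mul_left_cancel₀ hdK
      rw [Algebra.smul_def, map_mul]
      linear_combination h1
  have hst : IsIntegral R (s • (algebraMap R K n / algebraMap R K d)) := ht.smul s
  obtain ⟨u, hu, r, hr⟩ := hnq _ hst
  apply hu
  rw [hq]
  exact ⟨r, by rw [hr, mul_smul]⟩

end Krull

section Flat

variable (A : Type*) [CommRing A] [IsNoetherianRing A] (B : Type*) [CommRing B] [Algebra A B]
  [Module.Flat A B]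

/-- For `B` flat over `A`, the contraction of an associated prime of `B/aB` is an associated
prime of `A/aA`. -/
theorem isColon_under_of_flat (a : A) (q : Ideal B) [hq : q.IsPrime]
    (h : IsColon q (algebraMap A B a)) : IsColon (q.under A) a := by
  classical
  set p := q.under A with hp
  haveI : p.IsPrime := inferInstance
  by_contra hcon
  have hpass : p ∉ associatedPrimes A (A ⧸ Ideal.span {a}) := fun h1 =>
    hcon (isColon_of_mem_associatedPrimes h1)
  have hfin : (associatedPrimes A (A ⧸ Ideal.span {a})).Finite := associatedPrimes.finite A _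
  let T : Finset (Ideal A) := hfin.toFinset.filter (fun p' => p' ≤ p)
  -- prime avoidance
  have hnot : ¬ ((p : Set A) ⊆ ⋃ i ∈ (T : Set (Ideal A)), (i : Set A)) := by
    intro hsub
    obtain ⟨i, hiT, hi⟩ := (Ideal.subset_union_prime (f := fun i : Ideal A => i) ⊥ ⊥
      (fun i hi _ _ => by
        simp only [T, Finset.mem_filter, Set.Finite.mem_toFinset] at hi
        exact hi.1.isPrime)).mp hsub
    simp only [T, Finset.mem_filter, Set.Finite.mem_toFinset] at hiT
    exact hpass ((le_antisymm hi hiT.2) ▸ hiT.1)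
  obtain ⟨c, hcp, hcT⟩ := Set.not_subset.mp hnot
  have hcT' : ∀ p' ∈ associatedPrimes A (A ⧸ Ideal.span {a}), p' ≤ p → c ∉ p' := by
    intro p' hp' hle hc
    apply hcT
    simp only [Set.mem_iUnion]
    refine ⟨p', ?_, hc⟩
    simp only [T, Finset.coe_filter, Set.Finite.mem_toFinset, Set.mem_setOf_eq]
    exact ⟨hp', hle⟩
  -- Claim 1
  have claim1 : ∀ x : A, c * x ∈ Ideal.span {a} → ∃ s ∉ p, s * x ∈ Ideal.span {a} := by
    intro x hx
    let J : Ideal A := (Ideal.span {a}).colon {x}
    have hJ : ∀ u, u ∈ J ↔ u * x ∈ Ideal.span {a} := fun u => by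
      rw [Submodule.mem_colon_singleton, smul_eq_mul]
    by_contra hno
    push Not at hno
    have hJp : J ≤ p := by
      intro u hu
      by_contra hup
      exact hno u hup ((hJ u).mp hu)
    obtain ⟨p', hp'min, hp'p⟩ := Ideal.exists_minimalPrimes_le hJp
    have hass : p' ∈ associatedPrimes A (A ⧸ J) := by
      apply Module.associatedPrimes.minimalPrimes_annihilator_subset_associatedPrimes
      rwa [Ideal.annihilator_quotient]
    rw [AssociatedPrimes.mem_iff, isAssociatedPrime_iff] at hass
    obtain ⟨hp'prime, sbar, hs⟩ := hass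
    obtain ⟨s, rfl⟩ := Ideal.Quotient.mk_surjective sbar
    have hp'ass : p' ∈ associatedPrimes A (A ⧸ Ideal.span {a}) := by
      haveI := hp'prime
      apply mem_associatedPrimes_of_isColon
      refine ⟨s * x, fun u => ?_⟩
      rw [hs, Submodule.mem_colon_singleton, Submodule.mem_bot,
        show u • (Ideal.Quotient.mk J s) = Ideal.Quotient.mk J (u * s) from rfl,
        Ideal.Quotient.eq_zero_iff_mem, hJ, mul_assoc]
    exact hcT' p' hp'ass hp'p (hp'min.1.2 ((hJ c).mpr hx))
  -- Claim 2
  have claim2 : ∀ y : B, algebraMap A B c * y ∈ Ideal.span {algebraMap A B a} →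
      ∃ s ∉ p, algebraMap A B s * y ∈ Ideal.span {algebraMap A B a} := by
    intro y hy
    obtain ⟨y', hy'⟩ := Ideal.mem_span_singleton'.mp hy
    obtain ⟨k, α, w, hw1, hw2⟩ := Module.Flat.isTrivialRelation_of_sum_smul_eq_zero
      (R := A) (M := B) (f := ![c, -a]) (x := ![y, y']) (by
        simp [Fin.sum_univ_two, Algebra.smul_def, ← hy']
        ring)
    have hα : ∀ j, c * α 0 j ∈ Ideal.span {a} := by
      intro j
      have := hw2 j
      simp only [Fin.sum_univ_two, Matrix.cons_val_zero, Matrix.cons_val_one] at this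
      rw [Ideal.mem_span_singleton']
      exact ⟨α 1 j, by linear_combination -this⟩
    choose s hs1 hs2 using fun j => claim1 (α 0 j) (hα j)
    refine ⟨∏ j, s j, ?_, ?_⟩
    · rw [Ideal.IsPrime.prod_mem_iff]
      rintro ⟨j, -, hj⟩
      exact hs1 j hj
    · have hy0 : y = ∑ j, α 0 j • w j := by simpa using hw1 0
      rw [hy0, Finset.mul_sum]
      apply Ideal.sum_mem
      intro j _
      rw [Algebra.smul_def, ← mul_assoc, ← map_mul]
      apply Ideal.mul_mem_right
      have h1 : (∏ j, s j) * α 0 j ∈ Ideal.span {a} := by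
        rw [← Finset.mul_prod_erase Finset.univ s (Finset.mem_univ j), mul_right_comm]
        exact Ideal.mul_mem_right _ _ (hs2 j)
      obtain ⟨e, he⟩ := Ideal.mem_span_singleton'.mp h1
      rw [← he, map_mul]
      exact Ideal.mul_mem_left _ _ (Ideal.mem_span_singleton_self _)
  obtain ⟨z, hz⟩ := h
  have hcq : algebraMap A B c ∈ q := hcp
  obtain ⟨s, hsp, hs⟩ := claim2 z ((hz _).mp hcq)
  exact hsp ((hz _).mpr hs)

end Flat

end Groth.Agent.Lib.NorLocus2H3

namespace Groth.Agent.Lib.NorLocus2H3

open Groth.Agent.Lib.NorLocusH3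

section Regular

variable (A : Type u) [CommRing A] [IsDomain A] [IsNoetherianRing A]

/-- A Noetherian domain, normal at the prime `p = ((a) : z)`, `a ≠ 0`: then `A_p` is regular of
dimension `≤ 1`. -/
theorem regular_of_isColon (p : Ideal A) [hp : p.IsPrime]
    [hn : IsIntegrallyClosed (Localization.AtPrime p)] (a : A) (ha : a ≠ 0) (h : IsColon p a) :
    IsRegularLocalRing (Localization.AtPrime p) ∧ ringKrullDim (Localization.AtPrime p) ≤ 1 := by
  let S := Localization.AtPrime p
  obtain ⟨z, hz⟩ := h
  have hinj : Function.Injective (algebraMap A S) :=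
    IsLocalization.injective S (Ideal.primeCompl_le_nonZeroDivisors p)
  have haS : algebraMap A S a ≠ 0 := (map_ne_zero_iff _ hinj).mpr ha
  have key : ∀ r : S, r ∈ IsLocalRing.maximalIdeal S ↔
      r * algebraMap A S z ∈ Ideal.span {algebraMap A S a} := by
    intro r
    obtain ⟨r', s, rfl⟩ := IsLocalization.exists_mk'_eq p.primeCompl r
    rw [IsLocalization.AtPrime.mk'_mem_maximal_iff S p r' s, hz, Ideal.mem_span_singleton',
      Ideal.mem_span_singleton']
    constructor
    · rintro ⟨w, hw⟩
      refine ⟨IsLocalization.mk' S w s, ?_⟩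
      rw [mul_comm, IsLocalization.mul_mk'_eq_mk'_of_mul, mul_comm (IsLocalization.mk' S r' s),
        IsLocalization.mul_mk'_eq_mk'_of_mul, mul_comm a w, hw, mul_comm]
    · rintro ⟨c, hc⟩
      obtain ⟨w, s', rfl⟩ := IsLocalization.exists_mk'_eq p.primeCompl c
      rw [mul_comm, IsLocalization.mul_mk'_eq_mk'_of_mul, mul_comm (IsLocalization.mk' S r' s),
        IsLocalization.mul_mk'_eq_mk'_of_mul, IsLocalization.mk'_eq_iff_eq] at hc
      have hc' := hinj hc
      -- `s * (a * w) = s' * (z * r')`
      have h1 : ((s' : A) * r') * z ∈ Ideal.span {a} := by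
        rw [Ideal.mem_span_singleton']
        exact ⟨(s : A) * w, by linear_combination hc'⟩
      have h2 : (s' : A) * r' ∈ p := (hz _).mpr h1
      rcases hp.mem_or_mem h2 with h3 | h3
      · exact absurd h3 s'.2
      · obtain ⟨w', hw'⟩ := Ideal.mem_span_singleton'.mp ((hz r').mp h3)
        exact ⟨w', hw'⟩
  have hht : (IsLocalRing.maximalIdeal S).height = 1 :=
    Groth.Agent.SerreLib.height_eq_one_of_colon S (algebraMap A S a) haS (algebraMap A S z)
      (IsLocalRing.maximalIdeal S) key
  have hdim : ringKrullDim S ≤ 1 := by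
    rw [← IsLocalRing.maximalIdeal_height_eq_ringKrullDim, hht]
    rfl
  exact ⟨Groth.Agent.SerreLib.regular_of_normal_of_dim_le_one S hdim, hdim⟩

theorem regular_of_eq_bot (p : Ideal A) [hp : p.IsPrime] (h : p = ⊥) :
    IsRegularLocalRing (Localization.AtPrime p) ∧ ringKrullDim (Localization.AtPrime p) ≤ 1 := by
  subst h
  have h1 := NagataCritH3.bot_mem_regLocus A
  change IsRegularLocalRing (Localization.AtPrime (⊥ : Ideal A)) at h1
  refine ⟨h1, ?_⟩
  rw [IsLocalization.AtPrime.ringKrullDim_eq_height (⊥ : Ideal A)]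
  have : (⊥ : Ideal A).height = 0 := by
    rw [Ideal.height_eq_zero_iff_eq_bot]
  rw [this]
  exact zero_le_one

end Regular

section Ascent

variable (A : Type u) [CommRing A] [IsDomain A] [IsNoetherianRing A] (B : Type u) [CommRing B]
  [IsDomain B] [IsNoetherianRing B] [Algebra A B] [Module.Flat A B]
  (L : Type*) [Field L] [Algebra B L] [IsFractionRing B L]

/-- Ascent of normality along a flat injective map of Noetherian domains: it suffices to know
normality of `B_q` over the primes where `A` is regular of dimension `≤ 1`. -/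
theorem normalAt_of_flat (hinj : Function.Injective (algebraMap A B))
    (Q₀ : Ideal B) [Q₀.IsPrime]
    (hA : IsIntegrallyClosed (Localization.AtPrime (Q₀.under A)))
    (h : ∀ q : Ideal B, ∀ _ : q.IsPrime, q ≤ Q₀ →
      IsRegularLocalRing (Localization.AtPrime (q.under A)) →
      ringKrullDim (Localization.AtPrime (q.under A)) ≤ 1 → NormalAt L q) :
    NormalAt L Q₀ := by
  apply normalAt_of_forall_colon L Q₀
  intro x hx q hq hqQ hcol
  haveI := hq
  have hle : q.under A ≤ Q₀.under A := Ideal.comap_mono hqQ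
  have hnA : NormalAt (FractionRing A) (q.under A) :=
    ((normalAt_iff (FractionRing A) (Q₀.under A)).mpr hA).mono hle
  haveI : IsIntegrallyClosed (Localization.AtPrime (q.under A)) :=
    (normalAt_iff (FractionRing A) (q.under A)).mp hnA
  by_cases hbot : q.under A = ⊥
  · obtain ⟨h1, h2⟩ := regular_of_eq_bot A (q.under A) hbot
    exact h q hq hqQ h1 h2
  · obtain ⟨a, haq, ha0⟩ : ∃ a ∈ q.under A, a ≠ 0 := by
      by_contra hcon
      push Not at hcon
      exact hbot (eq_bot_iff.mpr fun y hy => hcon y hy)
    have hα0 : algebraMap A B a ≠ 0 := (map_ne_zero_iff _ hinj).mpr ha0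
    have hcol' : IsColon q (algebraMap A B a) := hcol.swap hx hα0 haq
    have hcolA : IsColon (q.under A) a := isColon_under_of_flat A B a q hcol'
    obtain ⟨h1, h2⟩ := regular_of_isColon A (q.under A) a ha0 hcolA
    exact h q hq hqQ h1 h2

end Ascent

end Groth.Agent.Lib.NorLocus2H3

namespace Groth.Agent.Lib.NorLocus2H3

open Groth.Agent.Lib.NorLocusH3 Groth.Agent.Lib.RegOpenSepH3 Groth.Agent.Lib.NagataCritH3

section Spread

/-- generically smooth finite type extension of Noetherian domains, normal locus version -/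
theorem exists_open_of_formallySmooth (A B : Type u) [CommRing A] [CommRing B] [IsDomain A]
    [IsDomain B] [IsNoetherianRing A] [Algebra A B] [Algebra.FiniteType A B]
    (hinj : Function.Injective (algebraMap A B))
    (hsm : Algebra.FormallySmooth A (FractionRing B))
    (h : ∃ U : Set (PrimeSpectrum A), IsOpen U ∧ U.Nonempty ∧ U ⊆ EGA4.norLocus A) :
    ∃ U' : Set (PrimeSpectrum B), IsOpen U' ∧ U'.Nonempty ∧ U' ⊆ EGA4.norLocus B := by
  obtain ⟨U, hUo, hUne, hUnor⟩ := h
  obtain ⟨f, hf0, hfU⟩ := exists_basicOpen_subset U hUo hUne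
  haveI : Algebra.FinitePresentation A B :=
    Algebra.FinitePresentation.of_finiteType.mp inferInstance
  haveI : IsFractionRing B (Localization.AtPrime (⊥ : Ideal B)) := by
    simpa [Ideal.primeCompl_bot] using
      Localization.isLocalization (M := (⊥ : Ideal B).primeCompl)
  haveI : Algebra.IsSmoothAt A (⊥ : Ideal B) := by
    let e : FractionRing B ≃ₐ[B] Localization.AtPrime (⊥ : Ideal B) :=
      IsLocalization.algEquiv (nonZeroDivisors B) _ _
    exact Algebra.FormallySmooth.of_equiv (e.restrictScalars A)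
  obtain ⟨g, hg, hsmooth⟩ := Algebra.IsSmoothAt.exists_notMem_smooth A (⊥ : Ideal B)
  have hg0 : g ≠ 0 := fun h => hg (h ▸ Ideal.zero_mem _)
  refine ⟨(basicOpen (g * algebraMap A B f) : Set (PrimeSpectrum B)), (basicOpen _).isOpen,
    basicOpen_nonempty_of_ne_zero _
      (mul_ne_zero hg0 ((map_ne_zero_iff _ hinj).mpr hf0)), ?_⟩
  intro q hq
  have hq' : g * algebraMap A B f ∉ q.asIdeal := hq
  have hgq : g ∉ q.asIdeal := fun h => hq' (Ideal.mul_mem_right _ _ h)
  have hfq : algebraMap A B f ∉ q.asIdeal := fun h => hq' (Ideal.mul_mem_left _ _ h)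
  let C := Localization.Away g
  haveI : Algebra.Smooth A C := hsmooth
  haveI : IsNoetherianRing C := Algebra.FiniteType.isNoetherianRing A C
  have hgM : Submonoid.powers g ≤ nonZeroDivisors B :=
    powers_le_nonZeroDivisors_of_noZeroDivisors hg0
  haveI : IsDomain C := IsLocalization.isDomain_localization hgM
  have hd : Disjoint ((Submonoid.powers g : Submonoid B) : Set B) q.asIdeal := by
    rw [Set.disjoint_left]
    rintro _ ⟨n, rfl⟩ hn
    exact hgq (q.2.mem_of_pow_mem n hn)
  haveI hQ : (q.asIdeal.map (algebraMap B C)).IsPrime :=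
    IsLocalization.isPrime_of_isPrime_disjoint (Submonoid.powers g) _ _ q.2 hd
  set Q := q.asIdeal.map (algebraMap B C) with hQdef
  have hQu : Q.under B = q.asIdeal :=
    IsLocalization.under_map_of_isPrime_disjoint (Submonoid.powers g) _ q.2 hd
  have hQA : Q.under A = q.asIdeal.under A := by
    rw [← hQu, Ideal.under_under]
  have hfQ : f ∉ Q.under A := by
    rw [hQA]
    exact hfq
  have hp : (⟨Q.under A, inferInstance⟩ : PrimeSpectrum A) ∈ EGA4.norLocus A :=
    hUnor (hfU hfQ)
  have hreg := Groth.Agent.Lib.SmoothRegHomH3.isRegularHom_of_smooth A C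
  haveI : Module.Flat A C := hreg.1
  have hAC : Function.Injective (algebraMap A C) := by
    rw [IsScalarTower.algebraMap_eq A B C]
    exact (IsLocalization.injective _ hgM).comp hinj
  have hnQ : NormalAt (FractionRing C) Q := by
    apply normalAt_of_flat A C (FractionRing C) hAC Q hp.2
    intro q' hq'p _ hregA _
    haveI := hq'p
    haveI := hregA
    haveI : IsRegularRing ((q'.under A).Fiber C) :=
      Groth.Agent.Lib.RegFlatH3.isRegularRing_of_isGeometricallyRegular _ _
        (hreg.2 (q'.under A)).2
    haveI : IsRegularLocalRing (Localization.AtPrime q') :=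
      Groth.Agent.Lib.RegFlat2H3.isRegularLocalRing_of_flat_of_fiber_at A C q'
    rw [normalAt_iff]
    exact Groth.Agent.Lib.NormalLiftH4.isIntegrallyClosed_of_isRegularLocalRing _
  have hQnor : (⟨Q, hQ⟩ : PrimeSpectrum C) ∈ EGA4.norLocus C :=
    ⟨inferInstance, (normalAt_iff (FractionRing C) Q).mp hnQ⟩
  have := (mem_norLocus_under_iff B (Submonoid.powers g) C ⟨Q, hQ⟩).mpr hQnor
  have heq : PrimeSpectrum.comap (algebraMap B C) ⟨Q, hQ⟩ = q := PrimeSpectrum.ext hQu
  rwa [heq] at this

end Spread

end Groth.Agent.Lib.NorLocus2H3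

namespace Groth.Agent.Lib.NorLocus2H3

open Groth.Agent.Lib.NorLocusH3 Groth.Agent.Lib.RegOpenSepH3 Groth.Agent.Lib.NagataCritH3
open TensorProduct

section Descent

/-- Faithfully flat descent of integral closedness for domains. -/
theorem isIntegrallyClosed_of_faithfullyFlat (A B : Type*) [CommRing A] [IsDomain A] [CommRing B]
    [IsDomain B] [Algebra A B] [Module.FaithfullyFlat A B] [IsIntegrallyClosed B] :
    IsIntegrallyClosed A := by
  let K := FractionRing A
  let L := FractionRing B
  have hAB : Function.Injective (algebraMap A B) :=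
    FaithfulSMul.algebraMap_injective A B
  have hBL : Function.Injective (algebraMap B L) := IsFractionRing.injective B L
  have hg : Function.Injective ((algebraMap B L).comp (algebraMap A B)) := hBL.comp hAB
  let ψ : K →+* L := IsFractionRing.lift hg
  rw [isIntegrallyClosed_iff K]
  intro t ht
  have hψt : IsIntegral B (ψ t) := by
    refine ht.map_of_comp_eq (algebraMap A B) ψ ?_
    ext a
    simp [ψ]
  obtain ⟨b, hb⟩ := (isIntegrallyClosed_iff L).mp inferInstance hψt
  obtain ⟨x, y, hy, rfl⟩ := IsFractionRing.div_surjective (A := A) t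
  have hy0 : y ≠ 0 := nonZeroDivisors.ne_zero hy
  have hyL : algebraMap B L (algebraMap A B y) ≠ 0 :=
    (map_ne_zero_iff _ hg).mpr hy0
  have h1 : algebraMap A B x = algebraMap A B y * b := by
    apply hBL
    rw [map_mul, hb]
    simp only [ψ, map_div₀, IsFractionRing.lift_algebraMap, RingHom.comp_apply]
    rw [mul_div_cancel₀ _ hyL]
  have h2 : x ∈ ((Ideal.span {y}).map (algebraMap A B)).comap (algebraMap A B) := by
    rw [Ideal.mem_comap, Ideal.map_span, Set.image_singleton, h1]
    exact Ideal.mul_mem_right _ _ (Ideal.mem_span_singleton_self _)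
  rw [Ideal.comap_map_eq_self_of_faithfullyFlat] at h2
  obtain ⟨c, hc⟩ := Ideal.mem_span_singleton'.mp h2
  refine ⟨c, ?_⟩
  have hyK : algebraMap A K y ≠ 0 :=
    (map_ne_zero_iff _ (IsFractionRing.injective A K)).mpr hy0
  rw [eq_div_iff hyK, ← map_mul, hc]

/-- If `D(g)` is contained in the normal locus of the domain `S`, then `S_g` is integrally
closed. -/
theorem isIntegrallyClosed_away (S : Type u) [CommRing S] [IsDomain S] (g : S) (hg0 : g ≠ 0)
    (h : (basicOpen g : Set (PrimeSpectrum S)) ⊆ EGA4.norLocus S) :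
    haveI : IsDomain (Localization.Away g) :=
      IsLocalization.isDomain_localization (powers_le_nonZeroDivisors_of_noZeroDivisors hg0)
    IsIntegrallyClosed (Localization.Away g) := by
  haveI : IsDomain (Localization.Away g) :=
    IsLocalization.isDomain_localization (powers_le_nonZeroDivisors_of_noZeroDivisors hg0)
  apply IsIntegrallyClosed.of_localization_maximal
  intro Q _ hQ
  haveI : Q.IsPrime := hQ.isPrime
  have hgQ : g ∉ Q.under S := by
    intro hmem
    have h1 : IsUnit (algebraMap S (Localization.Away g) g) :=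
      IsLocalization.map_units _ (⟨g, Submonoid.mem_powers g⟩ : Submonoid.powers g)
    exact hQ.ne_top (Ideal.eq_top_of_isUnit_mem _ hmem h1)
  have h2 : (⟨Q.under S, inferInstance⟩ : PrimeSpectrum S) ∈ EGA4.norLocus S := h hgQ
  have h3 := (mem_norLocus_under_iff S (Submonoid.powers g) (Localization.Away g) ⟨Q, inferInstance⟩).mp h2
  exact h3.2

/-- If `R_f` is integrally closed then `D(f)` is contained in the normal locus. -/
theorem basicOpen_subset_norLocus (R : Type u) [CommRing R] [IsDomain R] (f : R)
    [IsDomain (Localization.Away f)] [IsIntegrallyClosed (Localization.Away f)] :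
    (basicOpen f : Set (PrimeSpectrum R)) ⊆ EGA4.norLocus R := by
  intro p hp
  have hfp : f ∉ p.asIdeal := hp
  have hd : Disjoint ((Submonoid.powers f : Submonoid R) : Set R) p.asIdeal := by
    rw [Set.disjoint_left]
    rintro _ ⟨n, rfl⟩ hn
    exact hfp (p.2.mem_of_pow_mem n hn)
  haveI hP : (p.asIdeal.map (algebraMap R (Localization.Away f))).IsPrime :=
    IsLocalization.isPrime_of_isPrime_disjoint (Submonoid.powers f) _ _ p.2 hd
  have hu : (p.asIdeal.map (algebraMap R (Localization.Away f))).under R = p.asIdeal :=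
    IsLocalization.under_map_of_isPrime_disjoint (Submonoid.powers f) _ p.2 hd
  have key : (⟨p.asIdeal.map (algebraMap R (Localization.Away f)), hP⟩ :
      PrimeSpectrum (Localization.Away f)) ∈ EGA4.norLocus (Localization.Away f) := by
    refine ⟨inferInstance, ?_⟩
    exact isIntegrallyClosed_of_isLocalization _ _
      (Ideal.primeCompl_le_nonZeroDivisors (p.asIdeal.map (algebraMap R (Localization.Away f))))
  have := (mem_norLocus_under_iff R (Submonoid.powers f) (Localization.Away f) _).mpr key
  have heq : PrimeSpectrum.comap (algebraMap R (Localization.Away f))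
      ⟨p.asIdeal.map (algebraMap R (Localization.Away f)), hP⟩ = p := PrimeSpectrum.ext hu
  rwa [heq] at this

/-- descent along an injective finite type map of domains, normal locus version -/
theorem exists_open_of_injective_finiteType (R S : Type u) [CommRing R] [IsDomain R]
    [IsNoetherianRing R] [CommRing S] [IsDomain S] [Algebra R S] [Algebra.FiniteType R S]
    (hinj : Function.Injective (algebraMap R S))
    (hS : ∃ U : Set (PrimeSpectrum S), IsOpen U ∧ U.Nonempty ∧ U ⊆ EGA4.norLocus S) :
    ∃ U : Set (PrimeSpectrum R), IsOpen U ∧ U.Nonempty ∧ U ⊆ EGA4.norLocus R := by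
  obtain ⟨U, hUo, hUne, hUnor⟩ := hS
  obtain ⟨g, hg0, hgU⟩ := exists_basicOpen_subset U hUo hUne
  haveI : IsNoetherianRing S := Algebra.FiniteType.isNoetherianRing R S
  have hgM : Submonoid.powers g ≤ nonZeroDivisors S :=
    powers_le_nonZeroDivisors_of_noZeroDivisors hg0
  haveI : IsDomain (Localization.Away g) :=
    IsLocalization.isDomain_localization hgM
  haveI : Algebra.FiniteType S (Localization.Away g) := IsLocalization.finiteType_of_monoid_fg
    (Submonoid.powers g) _
  haveI : Algebra.FiniteType R (Localization.Away g) :=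
    Algebra.FiniteType.trans (inferInstance : Algebra.FiniteType R S) inferInstance
  haveI : IsNoetherianRing (Localization.Away g) :=
    IsLocalization.isNoetherianRing (Submonoid.powers g) _ inferInstance
  haveI hSgnor : IsIntegrallyClosed (Localization.Away g) :=
    isIntegrallyClosed_away S g hg0 (hgU.trans hUnor)
  have hRSg : Function.Injective (algebraMap R (Localization.Away g)) := by
    rw [IsScalarTower.algebraMap_eq R S (Localization.Away g)]
    exact (IsLocalization.injective _ hgM).comp hinj
  obtain ⟨f, hf0, -, hfree, -, -⟩ :=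
    GenFreeH8.generic_freeness (R := R) (S := Localization.Away g) (Localization.Away g)
  letI : Algebra (Localization.Away g) (Localization.Away f ⊗[R] Localization.Away g) :=
    Algebra.TensorProduct.rightAlgebra
  haveI hloc : IsLocalization (Algebra.algebraMapSubmonoid (Localization.Away g)
      (Submonoid.powers f)) (Localization.Away f ⊗[R] Localization.Away g) :=
    IsLocalization.tensorRight (Localization.Away f) (Submonoid.powers f)
  have hM' : Algebra.algebraMapSubmonoid (Localization.Away g) (Submonoid.powers f) ≤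
      nonZeroDivisors (Localization.Away g) := by
    rintro _ ⟨_, ⟨n, rfl⟩, rfl⟩
    rw [mem_nonZeroDivisors_iff_ne_zero, map_pow]
    exact pow_ne_zero _ ((map_ne_zero_iff _ hRSg).mpr hf0)
  haveI : IsDomain (Localization.Away f ⊗[R] Localization.Away g) :=
    IsLocalization.isDomain_of_le_nonZeroDivisors
      (Localization.Away f ⊗[R] Localization.Away g) hM'
  haveI : Module.Free (Localization.Away f) (Localization.Away f ⊗[R] Localization.Away g) :=
    hfree
  haveI : Module.FaithfullyFlat (Localization.Away f)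
      (Localization.Away f ⊗[R] Localization.Away g) := inferInstance
  haveI : IsIntegrallyClosed (Localization.Away f ⊗[R] Localization.Away g) :=
    isIntegrallyClosed_of_isLocalization _
      (Algebra.algebraMapSubmonoid (Localization.Away g) (Submonoid.powers f)) hM'
  haveI : IsDomain (Localization.Away f) :=
    IsLocalization.isDomain_localization (powers_le_nonZeroDivisors_of_noZeroDivisors hf0)
  haveI : IsIntegrallyClosed (Localization.Away f) :=
    isIntegrallyClosed_of_faithfullyFlat (Localization.Away f)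
      (Localization.Away f ⊗[R] Localization.Away g)
  exact ⟨(basicOpen f : Set (PrimeSpectrum R)), (basicOpen f).isOpen,
    basicOpen_nonempty_of_ne_zero f hf0, basicOpen_subset_norLocus R f⟩

end Descent

end Groth.Agent.Lib.NorLocus2H3

namespace Groth.Agent.Lib.NorLocus2H3

open Groth.Agent.Lib.NorLocusH3 Groth.Agent.Lib.NagataCritH3
open TensorProduct IsLocalRing

section Copies

/-- separable (geometrically reduced) generic fibre, flexible form. -/
theorem exists_open_of_geomReduced (A B : Type u) [CommRing A] [CommRing B] [IsDomain A]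
    [IsDomain B] [IsNoetherianRing A] [Algebra A B] [Algebra.FiniteType A B]
    (F E : Type u) [Field F] [Field E] [Algebra A F] (M : Submonoid A) [IsLocalization M F]
    [Algebra F E] [Algebra A E] [IsScalarTower A F E] [Algebra B E] [IsScalarTower A B E]
    (hBE : Function.Injective (algebraMap B E)) [Algebra.IsGeometricallyReduced F E]
    (h : ∃ U : Set (PrimeSpectrum A), IsOpen U ∧ U.Nonempty ∧ U ⊆ EGA4.norLocus A) :
    ∃ U' : Set (PrimeSpectrum B), IsOpen U' ∧ U'.Nonempty ∧ U' ⊆ EGA4.norLocus B := by
  -- `A → F` injective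
  have hM : M ≤ nonZeroDivisors A := by
    intro m hm
    rw [mem_nonZeroDivisors_iff_ne_zero]
    rintro rfl
    have h1 : IsUnit (algebraMap A F 0) := IsLocalization.map_units F ⟨0, hm⟩
    rw [map_zero] at h1
    exact not_isUnit_zero h1
  have hAF : Function.Injective (algebraMap A F) := IsLocalization.injective F hM
  have hAE : Function.Injective (algebraMap A E) := by
    rw [IsScalarTower.algebraMap_eq A F E]
    exact (algebraMap F E).injective.comp hAF
  have hinj : Function.Injective (algebraMap A B) := by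
    rw [IsScalarTower.algebraMap_eq A B E] at hAE
    exact Function.Injective.of_comp hAE
  -- `F → L`
  have hAL : Function.Injective (algebraMap A (FractionRing B)) := by
    rw [IsScalarTower.algebraMap_eq A B (FractionRing B)]
    exact (IsFractionRing.injective B (FractionRing B)).comp hinj
  have hunit : ∀ m : M, IsUnit (algebraMap A (FractionRing B) m) := by
    intro m
    rw [isUnit_iff_ne_zero]
    intro h0
    have hm0 : (m : A) = 0 := hAL (by rw [h0, map_zero])
    have := hM m.2
    rw [mem_nonZeroDivisors_iff_ne_zero] at this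
    exact this hm0
  let ψ : F →+* FractionRing B := IsLocalization.lift (M := M) hunit
  letI : Algebra F (FractionRing B) := ψ.toAlgebra
  haveI : IsScalarTower A F (FractionRing B) := IsScalarTower.of_algebraMap_eq fun a => by
    change algebraMap A (FractionRing B) a = ψ (algebraMap A F a)
    rw [IsLocalization.lift_eq]
  -- `L → E`
  let φ : FractionRing B →ₐ[B] E := IsFractionRing.liftAlgHom (g := Algebra.ofId B E) hBE
  have hφψ : (φ : FractionRing B →+* E).comp ψ = algebraMap F E := by
    apply IsLocalization.ringHom_ext M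
    ext a
    change φ (ψ (algebraMap A F a)) = algebraMap F E (algebraMap A F a)
    rw [IsLocalization.lift_eq, ← IsScalarTower.algebraMap_apply A F E,
      IsScalarTower.algebraMap_apply A B (FractionRing B), φ.commutes,
      ← IsScalarTower.algebraMap_apply A B E]
  let φ' : FractionRing B →ₐ[F] E :=
    { (φ : FractionRing B →+* E) with
      commutes' := fun x => by
        change φ (ψ x) = algebraMap F E x
        exact congrArg (fun f : F →+* E => f x) hφψ }
  haveI : Algebra.IsGeometricallyReduced F (FractionRing B) :=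
    Algebra.IsGeometricallyReduced.of_injective φ' (φ : FractionRing B →+* E).injective
  haveI : Algebra.FormallySmooth F (FractionRing B) :=
    Groth.Agent.Lib.SepSmoothH3.formallySmooth_of_isGeometricallyReduced F (FractionRing B)
  haveI : Algebra.FormallyEtale A F := Algebra.FormallyEtale.of_isLocalization M
  haveI : Algebra.FormallySmooth A F := inferInstance
  have hsm : Algebra.FormallySmooth A (FractionRing B) :=
    Algebra.FormallySmooth.comp A F (FractionRing B)
  exact NorLocus2H3.exists_open_of_formallySmooth A B hinj hsm h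


set_option maxSynthPendingDepth 3 in
/-- Abstract form of the key step. -/
theorem exists_open_of_data (A₀ B₀ A' F E : Type u) [CommRing A₀] [IsDomain A₀]
    [IsNoetherianRing A₀] [CommRing B₀] [IsDomain B₀] [Algebra A₀ B₀] [Algebra.FiniteType A₀ B₀]
    [CommRing A'] [IsDomain A'] [Algebra A₀ A'] [Module.Finite A₀ A']
    [Field F] [Field E] [Algebra A' F] [IsFractionRing A' F] [Algebra F E] [Algebra A' E]
    [IsScalarTower A' F E] [Algebra A₀ E] [IsScalarTower A₀ A' E] [Algebra B₀ E]
    [IsScalarTower A₀ B₀ E] (hB₀E : Function.Injective (algebraMap B₀ E))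
    [Algebra.IsGeometricallyReduced F E]
    (hA' : ∃ U : Set (PrimeSpectrum A'), IsOpen U ∧ U.Nonempty ∧ U ⊆ EGA4.norLocus A') :
    ∃ U : Set (PrimeSpectrum B₀), IsOpen U ∧ U.Nonempty ∧ U ⊆ EGA4.norLocus B₀ := by
  classical
  obtain ⟨t, ht⟩ := (Algebra.FiniteType.out : (⊤ : Subalgebra A₀ B₀).FG)
  let B' : Subalgebra A' E := Algebra.adjoin A' ((algebraMap B₀ E) '' (t : Set B₀))
  haveI : IsNoetherianRing A' := IsNoetherianRing.of_finite A₀ A'
  haveI : Algebra.FiniteType A' B' := by
    rw [← Subalgebra.fg_iff_finiteType]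
    exact ⟨t.image (algebraMap B₀ E), by rw [Finset.coe_image]⟩
  have hB'reg : ∃ U : Set (PrimeSpectrum B'), IsOpen U ∧ U.Nonempty ∧ U ⊆ EGA4.norLocus B' :=
    NorLocus2H3.exists_open_of_geomReduced A' B' F E (nonZeroDivisors A') Subtype.val_injective hA'
  -- the map `B₀ → B'`
  have hrange : ∀ b : B₀, algebraMap B₀ E b ∈ B' := by
    intro b
    have hb : b ∈ Algebra.adjoin A₀ (t : Set B₀) := by
      rw [ht]
      exact Algebra.mem_top
    induction hb using Algebra.adjoin_induction with
    | mem x hx => exact Algebra.subset_adjoin ⟨x, hx, rfl⟩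
    | algebraMap a =>
      rw [← IsScalarTower.algebraMap_apply A₀ B₀ E, IsScalarTower.algebraMap_apply A₀ A' E]
      exact Subalgebra.algebraMap_mem B' _
    | add x y _ _ hx hy =>
      rw [map_add]
      exact add_mem hx hy
    | mul x y _ _ hx hy =>
      rw [map_mul]
      exact mul_mem hx hy
  let ψ : B₀ →+* B' := (algebraMap B₀ E).codRestrict B'.toSubring hrange
  letI : Algebra B₀ B' := ψ.toAlgebra
  haveI : IsScalarTower A₀ B₀ B' := IsScalarTower.of_algebraMap_eq fun a => by
    apply Subtype.ext
    change algebraMap A₀ E a = algebraMap B₀ E (algebraMap A₀ B₀ a)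
    rw [← IsScalarTower.algebraMap_apply A₀ B₀ E]
  haveI : Algebra.FiniteType A₀ A' := inferInstance
  haveI : Algebra.FiniteType A₀ B' :=
    Algebra.FiniteType.trans (inferInstance : Algebra.FiniteType A₀ A') inferInstance
  haveI : Algebra.FiniteType B₀ B' := Algebra.FiniteType.of_restrictScalars_finiteType A₀ B₀ B'
  haveI : IsNoetherianRing B₀ := Algebra.FiniteType.isNoetherianRing A₀ B₀
  have hinj : Function.Injective (algebraMap B₀ B') := by
    intro x y hxy
    apply hB₀E
    exact congrArg Subtype.val hxy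
  exact NorLocus2H3.exists_open_of_injective_finiteType B₀ B' hinj hB'reg


open Groth.Agent.Lib.PInsepDescentH3

set_option maxSynthPendingDepth 3 in
theorem exists_open_of_domain (A₀ B₀ : Type u) [CommRing A₀] [IsDomain A₀] [IsNoetherianRing A₀]
    [CommRing B₀] [IsDomain B₀] [Algebra A₀ B₀] [Algebra.FiniteType A₀ B₀]
    (hinj : Function.Injective (algebraMap A₀ B₀))
    (H : ∀ (A' : Type u) [CommRing A'] [IsDomain A'] [Algebra A₀ A'], Module.Finite A₀ A' →
      ∃ U : Set (PrimeSpectrum A'), IsOpen U ∧ U.Nonempty ∧ U ⊆ EGA4.norLocus A') :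
    ∃ U : Set (PrimeSpectrum B₀), IsOpen U ∧ U.Nonempty ∧ U ⊆ EGA4.norLocus B₀ := by
  classical
  -- the fraction fields
  haveI : FaithfulSMul A₀ (FractionRing B₀) := by
    rw [faithfulSMul_iff_algebraMap_injective, IsScalarTower.algebraMap_eq A₀ B₀ (FractionRing B₀)]
    exact (IsFractionRing.injective B₀ (FractionRing B₀)).comp hinj
  letI : Algebra (FractionRing A₀) (FractionRing B₀) :=
    FractionRing.liftAlgebra A₀ (FractionRing B₀)
  haveI : IsScalarTower A₀ (FractionRing A₀) (FractionRing B₀) :=
    FractionRing.isScalarTower_liftAlgebra A₀ (FractionRing B₀)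
  haveI : Algebra.EssFiniteType B₀ (FractionRing B₀) :=
    Algebra.EssFiniteType.of_isLocalization (FractionRing B₀) (nonZeroDivisors B₀)
  haveI : Algebra.EssFiniteType A₀ (FractionRing B₀) :=
    Algebra.EssFiniteType.comp A₀ B₀ (FractionRing B₀)
  haveI : Algebra.EssFiniteType (FractionRing A₀) (FractionRing B₀) :=
    Algebra.EssFiniteType.of_comp A₀ (FractionRing A₀) (FractionRing B₀)
  obtain ⟨F, hFfin, hmax, hred⟩ :=
    exists_finite_purelyInseparable (FractionRing A₀) (FractionRing B₀)
  haveI := hFfin
  haveI := hmax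
  letI : Field (Groth.Agent.Lib.J2CritH3.EE (FractionRing A₀) (FractionRing B₀) F) := Ideal.Quotient.field _
  letI iFE : Algebra F (Groth.Agent.Lib.J2CritH3.EE (FractionRing A₀) (FractionRing B₀) F) := Ideal.Quotient.algebra F
  letI iSMulFE : SMul F (Groth.Agent.Lib.J2CritH3.EE (FractionRing A₀) (FractionRing B₀) F) := iFE.toSMul
  haveI : Algebra.IsGeometricallyReduced F (Groth.Agent.Lib.J2CritH3.EE (FractionRing A₀) (FractionRing B₀) F) :=
    (Algebra.isGeometricallyReduced_field_iff _ _).mpr hred
  -- `A₀`-structure on `F`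
  letI : Algebra A₀ F :=
    ((algebraMap (FractionRing A₀) F).comp (algebraMap A₀ (FractionRing A₀))).toAlgebra
  haveI : IsScalarTower A₀ (FractionRing A₀) F := IsScalarTower.of_algebraMap_eq fun _ => rfl
  obtain ⟨A', hA'fin, hA'frac⟩ := Groth.Agent.Lib.J2CritH3.exists_adjoin_isFractionRing A₀ (FractionRing A₀) F
  haveI := hA'fin
  haveI := hA'frac
  -- structures on `E`
  haveI : IsScalarTower A' F (Groth.Agent.Lib.J2CritH3.EE (FractionRing A₀) (FractionRing B₀) F) := inferInstance
  letI : Algebra A₀ (Groth.Agent.Lib.J2CritH3.EE (FractionRing A₀) (FractionRing B₀) F) :=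
    ((algebraMap F (Groth.Agent.Lib.J2CritH3.EE (FractionRing A₀) (FractionRing B₀) F)).comp (algebraMap A₀ F)).toAlgebra
  haveI : IsScalarTower A₀ A' (Groth.Agent.Lib.J2CritH3.EE (FractionRing A₀) (FractionRing B₀) F) :=
    IsScalarTower.of_algebraMap_eq fun _ => rfl
  let ρ : FractionRing B₀ →+* Groth.Agent.Lib.J2CritH3.EE (FractionRing A₀) (FractionRing B₀) F :=
    (Ideal.Quotient.mk _).comp
      (Algebra.TensorProduct.includeRight :
        FractionRing B₀ →ₐ[FractionRing A₀] F ⊗[FractionRing A₀] FractionRing B₀).toRingHom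
  letI : Algebra B₀ (Groth.Agent.Lib.J2CritH3.EE (FractionRing A₀) (FractionRing B₀) F) :=
    (ρ.comp (algebraMap B₀ (FractionRing B₀))).toAlgebra
  haveI : IsScalarTower A₀ B₀ (Groth.Agent.Lib.J2CritH3.EE (FractionRing A₀) (FractionRing B₀) F) :=
      IsScalarTower.of_algebraMap_eq fun a => by
    have h1 : algebraMap B₀ (FractionRing B₀) (algebraMap A₀ B₀ a) =
        algebraMap (FractionRing A₀) (FractionRing B₀) (algebraMap A₀ (FractionRing A₀) a) := by
      rw [← IsScalarTower.algebraMap_apply A₀ B₀ (FractionRing B₀),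
        IsScalarTower.algebraMap_apply A₀ (FractionRing A₀) (FractionRing B₀)]
    have h2 : ∀ k : FractionRing A₀,
        algebraMap F (F ⊗[FractionRing A₀] FractionRing B₀) (algebraMap (FractionRing A₀) F k) =
          (1 : F) ⊗ₜ[FractionRing A₀] (algebraMap (FractionRing A₀) (FractionRing B₀) k) := by
      intro k
      rw [Algebra.TensorProduct.algebraMap_apply, Algebra.algebraMap_self, RingHom.id_apply,
        Algebra.algebraMap_eq_smul_one, Algebra.algebraMap_eq_smul_one (A := FractionRing B₀),
        TensorProduct.smul_tmul]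
    change Ideal.Quotient.mk _ (algebraMap F (F ⊗[FractionRing A₀] FractionRing B₀)
        (algebraMap (FractionRing A₀) F (algebraMap A₀ (FractionRing A₀) a))) =
      Ideal.Quotient.mk _ ((1 : F) ⊗ₜ[FractionRing A₀]
        (algebraMap B₀ (FractionRing B₀) (algebraMap A₀ B₀ a)))
    rw [h1, h2]
  have hB₀E : Function.Injective (algebraMap B₀ (Groth.Agent.Lib.J2CritH3.EE (FractionRing A₀) (FractionRing B₀) F)) :=
    ρ.injective.comp (IsFractionRing.injective B₀ (FractionRing B₀))
  have hA'reg := H A' hA'fin
  exact NorLocus2H3.exists_open_of_data A₀ B₀ A' F (Groth.Agent.Lib.J2CritH3.EE (FractionRing A₀) (FractionRing B₀) F) hB₀E hA'reg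


end Copies

end Groth.Agent.Lib.NorLocus2H3

namespace Groth.Agent.Lib.NorLocus2H3

open Groth.Agent.Lib.NorLocusH3 Groth.Agent.Lib.NagataCritH3

section Final

theorem bot_mem_norLocus (D : Type u) [CommRing D] [IsDomain D] :
    (⟨⊥, Ideal.isPrime_bot⟩ : PrimeSpectrum D) ∈ EGA4.norLocus D :=
  regLocus_subset_norLocus D (bot_mem_regLocus D)

theorem bot_mem_of_isOpen_nonempty (D : Type u) [CommRing D] [IsDomain D]
    (U : Set (PrimeSpectrum D)) (hU : IsOpen U) (hne : U.Nonempty) :
    (⟨⊥, Ideal.isPrime_bot⟩ : PrimeSpectrum D) ∈ U := by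
  obtain ⟨x, hx⟩ := hne
  have hsp : (⟨⊥, Ideal.isPrime_bot⟩ : PrimeSpectrum D) ⤳ x := by
    rw [← le_iff_specializes]
    exact bot_le (a := x.asIdeal)
  exact hsp.mem_open hU hx

/-- For a Noetherian domain, the normal locus is open as soon as it contains a nonempty open. -/
theorem isOpen_norLocus_of_domain (B : Type u) [CommRing B] [IsDomain B] [IsNoetherianRing B]
    (h : ∃ U : Set (PrimeSpectrum B), IsOpen U ∧ U.Nonempty ∧ U ⊆ EGA4.norLocus B) :
    IsOpen (EGA4.norLocus B) := by
  obtain ⟨U, hUo, hUne, hUN⟩ := h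
  rw [isOpen_iff_forall_mem_open]
  intro p hp
  obtain ⟨V, hVo, hpV, hVN⟩ := exists_open_nbhd_of_generic B p hp U hUo hUN
    ⟨⊥, Ideal.isPrime_bot⟩ (bot_mem_of_isOpen_nonempty B U hUo hUne) bot_le
  exact ⟨V, hVN, hVo, hpV⟩

/-- The normal locus of a Noetherian ring is open as soon as every principal localization which
is a domain has a nonempty open subset of normal points. -/
theorem isOpen_norLocus_of_forall_away (S : Type u) [CommRing S] [IsNoetherianRing S]
    (H : ∀ f : S, IsDomain (Localization.Away f) →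
      ∃ U : Set (PrimeSpectrum (Localization.Away f)), IsOpen U ∧ U.Nonempty ∧
        U ⊆ EGA4.norLocus (Localization.Away f)) :
    IsOpen (EGA4.norLocus S) := by
  rw [isOpen_iff_forall_mem_open]
  intro p hp
  haveI : IsDomain (Localization.AtPrime p.asIdeal) := hp.1
  obtain ⟨f, hf, hdom⟩ := exists_isDomain_away p.asIdeal
  let R := Localization.Away f
  haveI : IsDomain R := hdom
  obtain ⟨U, hUo, hUne, hUN⟩ := H f hdom
  let φ : PrimeSpectrum R → PrimeSpectrum S := PrimeSpectrum.comap (algebraMap S R)
  have hφ : Topology.IsOpenEmbedding φ := PrimeSpectrum.localization_away_isOpenEmbedding R f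
  have hrange : Set.range φ = basicOpen f := PrimeSpectrum.localization_away_comap_range R f
  have hpr : p ∈ Set.range φ := by rw [hrange]; exact hf
  obtain ⟨P, hP⟩ := hpr
  have hnor : ∀ q : PrimeSpectrum R, φ q ∈ EGA4.norLocus S ↔ q ∈ EGA4.norLocus R :=
    mem_norLocus_under_iff S (Submonoid.powers f) R
  obtain ⟨V, hVo, hpV, hVN⟩ := exists_open_nbhd_of_generic S p hp (φ '' U)
    (hφ.isOpenMap _ hUo)
    (by rintro _ ⟨q, hq, rfl⟩; exact (hnor q).mpr (hUN hq))
    (φ ⟨⊥, Ideal.isPrime_bot⟩)
    ⟨⟨⊥, Ideal.isPrime_bot⟩, bot_mem_of_isOpen_nonempty R U hUo hUne, rfl⟩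
    (by rw [← hP]; exact Ideal.comap_mono bot_le)
  exact ⟨V, hVN, hVo, hpV⟩

/-- EGA IV 6.13.7-type criterion. -/
theorem isOpen_norLocus_of_forall_finite (A : Type u) [CommRing A] [IsNoetherianRing A]
    (H : ∀ (A' : Type u) [CommRing A'] [IsDomain A'] [Algebra A A'], Module.Finite A A' →
      IsOpen (EGA4.norLocus A'))
    (S : Type u) [CommRing S] [Algebra A S] [Algebra.FiniteType A S] :
    IsOpen (EGA4.norLocus S) := by
  haveI : IsNoetherianRing S := Algebra.FiniteType.isNoetherianRing A S
  apply isOpen_norLocus_of_forall_away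
  intro f hdom
  let S₁ := Localization.Away f
  haveI : IsDomain S₁ := hdom
  haveI : Algebra.FiniteType S S₁ := IsLocalization.finiteType_of_monoid_fg
    (Submonoid.powers f) _
  haveI : Algebra.FiniteType A S₁ :=
    Algebra.FiniteType.trans (inferInstance : Algebra.FiniteType A S) inferInstance
  let φ : A →+* S₁ := algebraMap A S₁
  haveI : (RingHom.ker φ).IsPrime := RingHom.ker_isPrime φ
  haveI : IsDomain (A ⧸ RingHom.ker φ) := Ideal.Quotient.isDomain _
  letI : Algebra (A ⧸ RingHom.ker φ) S₁ := (RingHom.kerLift φ).toAlgebra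
  haveI : IsScalarTower A (A ⧸ RingHom.ker φ) S₁ :=
    IsScalarTower.of_algebraMap_eq fun a => rfl
  haveI : Algebra.FiniteType (A ⧸ RingHom.ker φ) S₁ :=
    Algebra.FiniteType.of_restrictScalars_finiteType A (A ⧸ RingHom.ker φ) S₁
  refine exists_open_of_domain (A ⧸ RingHom.ker φ) S₁ (RingHom.kerLift_injective φ) ?_
  intro A' _ _ _ hfin
  haveI := hfin
  letI : Algebra A A' :=
    ((algebraMap (A ⧸ RingHom.ker φ) A').comp (algebraMap A (A ⧸ RingHom.ker φ))).toAlgebra
  haveI : IsScalarTower A (A ⧸ RingHom.ker φ) A' := IsScalarTower.of_algebraMap_eq fun _ => rfl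
  haveI : Module.Finite A (A ⧸ RingHom.ker φ) :=
    Module.Finite.of_surjective (Algebra.linearMap A (A ⧸ RingHom.ker φ))
      Ideal.Quotient.mk_surjective
  exact ⟨EGA4.norLocus A', H A' (Module.Finite.trans (A ⧸ RingHom.ker φ) A'),
    ⟨_, bot_mem_norLocus A'⟩, le_rfl⟩

end Final

end Groth.Agent.Lib.NorLocus2H3
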