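import Mathlib
import Groth.Prelude.Def_Found
import Groth.Agent.Lib.NorLocus2_helper3
import Groth.Agent.Lib.N1Descent_helper3

/-!
# Core lemma for "Nagata local domains are analytically unramified" (helper3)
APPEND-ONLY once landed.

`R` a Noetherian normal local domain, `R → R'` a flat local homomorphism of Noetherian local
rings such that `R'/pR'` is reduced for all nonzero primes `p` of `R` (and `R' = R + mR'` when
`m = 0`).  Then `R'` is reduced.
-/

set_option autoImplicit false
universe u

namespace Groth.Agent.Lib.AnUnramCoreH3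

open IsLocalRing Groth.Agent.Lib.NorLocus2H3

section Ass

variable {R : Type*} [CommRing R]

/-- membership in an ideal can be tested at the associated primes of the quotient -/
theorem mem_of_forall_associatedPrimes [IsNoetherianRing R] (I : Ideal R) (r : R)
    (h : ∀ q ∈ associatedPrimes R (R ⧸ I), ∃ u ∉ q, u * r ∈ I) : r ∈ I := by
  by_contra hr
  have hne : (Ideal.Quotient.mk I r) ≠ 0 := by rwa [Ne, Ideal.Quotient.eq_zero_iff_mem]
  obtain ⟨P, hP, hle⟩ :=
    exists_le_isAssociatedPrime_of_isNoetherianRing R (Ideal.Quotient.mk I r) hne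
  obtain ⟨u, hu, hur⟩ := h P ((AssociatedPrimes.mem_iff).2 hP)
  apply hu
  apply hle
  rw [Submodule.mem_colon_singleton, Submodule.mem_bot,
    show u • (Ideal.Quotient.mk I r) = Ideal.Quotient.mk I (u * r) from rfl,
    Ideal.Quotient.eq_zero_iff_mem]
  exact hur

end Ass

section Uniformizer

variable {R : Type u} [CommRing R] [IsDomain R] [IsNoetherianRing R] [IsIntegrallyClosed R]

/-- In a normal Noetherian domain, a prime `p = ((x) : z)` is "locally principal". -/
theorem exists_uniformizer_of_isColon (p : Ideal R) [hp : p.IsPrime] (x : R) (hx : x ≠ 0)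
    (hxp : x ∈ p) (h : IsColon p x) :
    ∃ π ∈ p, ∃ w ∉ p, ∀ a ∈ p, w * a ∈ Ideal.span {π} := by
  obtain ⟨z, hz⟩ := h
  have hX : algebraMap R (FractionRing R) x ≠ 0 :=
    (map_ne_zero_iff _ (IsFractionRing.injective R (FractionRing R))).mpr hx
  have hex : ∃ π ∈ p, ∃ w ∉ p, π * z = w * x := by
    by_contra hcon
    push Not at hcon
    -- then `θ = z/x` stabilizes `p`
    have hstab : ∀ n ∈ Submodule.map (Algebra.linearMap R (FractionRing R)) p,
        (algebraMap R (FractionRing R) z / algebraMap R (FractionRing R) x) • n ∈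
          Submodule.map (Algebra.linearMap R (FractionRing R)) p := by
      rintro _ ⟨a, ha, rfl⟩
      obtain ⟨w, hw⟩ := Ideal.mem_span_singleton'.1 ((hz a).1 ha)
      have hwp : w ∈ p := by
        by_contra hwp
        exact hcon a ha w hwp hw.symm
      refine ⟨w, hwp, ?_⟩
      rw [Algebra.linearMap_apply, Algebra.linearMap_apply, smul_eq_mul]
      have h1 := congrArg (algebraMap R (FractionRing R)) hw
      rw [map_mul, map_mul] at h1
      field_simp
      linear_combination h1
    have hN : Submodule.map (Algebra.linearMap R (FractionRing R)) p ≠ ⊥ := by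
      intro hbot
      have h1 : algebraMap R (FractionRing R) x ∈
          Submodule.map (Algebra.linearMap R (FractionRing R)) p := ⟨x, hxp, rfl⟩
      rw [hbot, Submodule.mem_bot] at h1
      exact hX h1
    have hfg : (Submodule.map (Algebra.linearMap R (FractionRing R)) p).FG :=
      Submodule.FG.map _ (IsNoetherian.noetherian p)
    have hint : IsIntegral R
        (algebraMap R (FractionRing R) z / algebraMap R (FractionRing R) x) :=
      isIntegral_of_smul_mem_submodule _ hN hfg _ hstab
    obtain ⟨r, hr⟩ := IsIntegrallyClosed.isIntegral_iff.1 hint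
    have hzr : z = r * x := by
      apply IsFractionRing.injective R (FractionRing R)
      rw [map_mul, hr]
      field_simp
    have h1 : (1 : R) ∈ p := by
      rw [hz, one_mul, hzr]
      exact Ideal.mul_mem_left _ _ (Ideal.mem_span_singleton_self x)
    exact hp.ne_top ((Ideal.eq_top_iff_one p).2 h1)
  obtain ⟨π, hπ, w, hw, hπw⟩ := hex
  refine ⟨π, hπ, w, hw, fun a ha => ?_⟩
  obtain ⟨a', ha'⟩ := Ideal.mem_span_singleton'.1 ((hz a).1 ha)
  rw [Ideal.mem_span_singleton']
  refine ⟨a', ?_⟩
  -- `a' * x = a * z`, `π * z = w * x`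
  have hz0 : z ≠ 0 := by
    rintro rfl
    have h1 : (1 : R) ∈ p := by rw [hz]; simp
    exact hp.ne_top ((Ideal.eq_top_iff_one p).2 h1)
  apply mul_right_cancel₀ hx
  apply mul_right_cancel₀ hz0
  linear_combination (π * z) * ha' + (a * z) * hπw

theorem exists_pow_mul_mem (p : Ideal R) [hp : p.IsPrime] (x : R) (hx : x ≠ 0) (hxp : x ∈ p)
    (π : R) (hπ : π ∈ p) (w : R) (hw : w ∉ p) (hwp : ∀ a ∈ p, w * a ∈ Ideal.span {π}) :
    ∃ e : ℕ, ∃ t ∉ p, t * π ^ e ∈ Ideal.span {x} := by
  have hinj : Function.Injective (algebraMap R (Localization.AtPrime p)) :=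
    IsLocalization.injective _ (Ideal.primeCompl_le_nonZeroDivisors p)
  have hmax : maximalIdeal (Localization.AtPrime p) =
      Ideal.span {algebraMap R (Localization.AtPrime p) π} := by
    apply le_antisymm
    · intro y hy
      obtain ⟨r, s, rfl⟩ := IsLocalization.exists_mk'_eq p.primeCompl y
      rw [IsLocalization.AtPrime.mk'_mem_maximal_iff (Localization.AtPrime p) p r s] at hy
      obtain ⟨a, ha⟩ := Ideal.mem_span_singleton'.1 (hwp r hy)
      rw [Ideal.mem_span_singleton']
      have hws : w * (s : R) ∈ p.primeCompl := p.primeCompl.mul_mem hw s.2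
      refine ⟨IsLocalization.mk' (Localization.AtPrime p) a ⟨w * s, hws⟩, ?_⟩
      rw [mul_comm, IsLocalization.mul_mk'_eq_mk'_of_mul, IsLocalization.mk'_eq_iff_eq]
      congr 1
      show (s : R) * (π * a) = (w * s) * r
      linear_combination (s : R) * ha
    · rw [Ideal.span_le, Set.singleton_subset_iff, SetLike.mem_coe,
        IsLocalization.AtPrime.to_map_mem_maximal_iff (Localization.AtPrime p) p]
      exact hπ
  have hx' : algebraMap R (Localization.AtPrime p) x ≠ 0 := (map_ne_zero_iff _ hinj).mpr hx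
  have hnf : ¬ IsField (Localization.AtPrime p) := by
    rw [IsLocalRing.isField_iff_maximalIdeal_eq]
    intro hbot
    have h1 : algebraMap R (Localization.AtPrime p) x ∈ maximalIdeal (Localization.AtPrime p) :=
      (IsLocalization.AtPrime.to_map_mem_maximal_iff (Localization.AtPrime p) p x).2 hxp
    rw [hbot, Ideal.mem_bot] at h1
    exact hx' h1
  have hprinc : (maximalIdeal (Localization.AtPrime p)).IsPrincipal := ⟨⟨_, hmax⟩⟩
  haveI : IsDiscreteValuationRing (Localization.AtPrime p) :=
    ((IsDiscreteValuationRing.TFAE (Localization.AtPrime p) hnf).out 0 4).2 hprinc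
  have hirr : Irreducible (algebraMap R (Localization.AtPrime p) π) :=
    (IsDiscreteValuationRing.irreducible_iff_uniformizer _).2 hmax
  obtain ⟨e, u, hu⟩ := IsDiscreteValuationRing.associated_pow_irreducible hx' hirr
  obtain ⟨r, s, hrs⟩ := IsLocalization.exists_mk'_eq p.primeCompl (u : Localization.AtPrime p)
  refine ⟨e, s, s.2, ?_⟩
  rw [Ideal.mem_span_singleton']
  refine ⟨r, ?_⟩
  apply hinj
  rw [← hrs] at hu
  have h1 := IsLocalization.mk'_spec (Localization.AtPrime p) r s
  rw [map_mul, map_mul, map_pow, ← hu, ← h1]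
  ring

end Uniformizer

section Core

theorem pow_eq_zero_iff_of_pos_aux {D : Type*} [CommRing D] [IsDomain D] {r : D} {n : ℕ}
    (h : r ^ n = 0) : r = 0 := by
  exact eq_zero_of_pow_eq_zero h

variable (R : Type u) [CommRing R] [IsDomain R] [IsLocalRing R] [IsNoetherianRing R]
  [IsIntegrallyClosed R]
  (R' : Type u) [CommRing R'] [IsLocalRing R'] [IsNoetherianRing R'] [Algebra R R']
  [Module.Flat R R'] [IsLocalHom (algebraMap R R')]

omit [IsLocalRing R] [IsNoetherianRing R] [IsIntegrallyClosed R] [IsLocalRing R']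
  [IsNoetherianRing R'] [IsLocalHom (algebraMap R R')] in
theorem isNilpotent_of_mul (a : R) (ha : a ≠ 0) (g : R')
    (h : IsNilpotent (algebraMap R R' a * g)) : IsNilpotent g := by
  obtain ⟨n, hn⟩ := h
  refine ⟨n, ?_⟩
  rw [mul_pow, ← map_pow] at hn
  have h1 := Groth.Agent.Lib.N1DescentH3.algebraMap_mem_nonZeroDivisors R R' (pow_ne_zero n ha)
  rw [mul_comm] at hn
  exact (mem_nonZeroDivisors_iff_right.1 h1) _ hn

omit [IsLocalRing R] [IsLocalRing R'] [IsLocalHom (algebraMap R R')] in
theorem mem_span_of_isNilpotent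
    (hq : ∀ (p : Ideal R) [p.IsPrime], p ≠ ⊥ → IsReduced (R' ⧸ p.map (algebraMap R R')))
    (x : R) (hx : x ≠ 0) (f : R') (hf : IsNilpotent f) :
    f ∈ Ideal.span {algebraMap R R' x} := by
  apply mem_of_forall_associatedPrimes
  intro q hq'
  haveI hqp : q.IsPrime := ((AssociatedPrimes.mem_iff).1 hq').isPrime
  have hcol : IsColon q (algebraMap R R' x) := isColon_of_mem_associatedPrimes hq'
  have hcolp : IsColon (q.under R) x := isColon_under_of_flat R R' x q hcol
  have hxq : algebraMap R R' x ∈ q := by
    obtain ⟨z, hz⟩ := hcol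
    rw [hz]
    exact Ideal.mul_mem_right _ _ (Ideal.mem_span_singleton_self _)
  have hxp : x ∈ q.under R := hxq
  have hp0 : q.under R ≠ ⊥ := by
    intro h
    rw [h, Ideal.mem_bot] at hxp
    exact hx hxp
  obtain ⟨π, hπ, w, hw, hwp⟩ := exists_uniformizer_of_isColon (q.under R) x hx hxp hcolp
  obtain ⟨e, t, ht, hte⟩ := exists_pow_mul_mem (q.under R) x hx hxp π hπ w hw hwp
  haveI := hq (q.under R) hp0
  have hmem : ∀ g : R', IsNilpotent g → g ∈ (q.under R).map (algebraMap R R') := by
    intro g hg
    have := (hg.map (Ideal.Quotient.mk ((q.under R).map (algebraMap R R')))).eq_zero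
    exact Ideal.Quotient.eq_zero_iff_mem.1 this
  have hw0 : w ≠ 0 := by
    rintro rfl
    exact hw (zero_mem _)
  have hπ0 : π ≠ 0 := by
    rintro rfl
    have h1 := hwp x hxp
    rw [Ideal.mem_span_singleton'] at h1
    obtain ⟨c, hc⟩ := h1
    rw [mul_zero] at hc
    exact (mul_ne_zero hw0 hx) hc.symm
  have hwmap : ∀ g ∈ (q.under R).map (algebraMap R R'),
      ∃ g', algebraMap R R' w * g = algebraMap R R' π * g' := by
    intro g hg
    rw [Ideal.map] at hg
    induction hg using Submodule.span_induction with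
    | mem g hg =>
      obtain ⟨a, ha, rfl⟩ := hg
      obtain ⟨c, hc⟩ := Ideal.mem_span_singleton'.1 (hwp a ha)
      refine ⟨algebraMap R R' c, ?_⟩
      rw [← map_mul, ← map_mul, ← hc, mul_comm]
    | zero => exact ⟨0, by simp⟩
    | add g h _ _ hg hh =>
      obtain ⟨g', hg'⟩ := hg
      obtain ⟨h', hh'⟩ := hh
      exact ⟨g' + h', by rw [mul_add, mul_add, hg', hh']⟩
    | smul r g _ hg =>
      obtain ⟨g', hg'⟩ := hg
      refine ⟨r * g', ?_⟩
      rw [smul_eq_mul, mul_left_comm, hg', mul_left_comm]
  have hiter : ∀ j : ℕ, ∃ g : R', IsNilpotent g ∧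
      algebraMap R R' w ^ j * f = algebraMap R R' π ^ j * g := by
    intro j
    induction j with
    | zero => exact ⟨f, hf, by simp⟩
    | succ j ih =>
      obtain ⟨g, hg, hgj⟩ := ih
      obtain ⟨g', hg'⟩ := hwmap g (hmem g hg)
      refine ⟨g', isNilpotent_of_mul R R' π hπ0 g' ?_, ?_⟩
      · rw [← hg']
        exact (Commute.all _ _).isNilpotent_mul_left hg
      · rw [pow_succ, pow_succ, mul_assoc, mul_comm (algebraMap R R' w) f, ← mul_assoc, hgj,
          mul_assoc, mul_comm g, hg']
        ring
  obtain ⟨g, hg, hge⟩ := hiter e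
  refine ⟨algebraMap R R' (t * w ^ e), ?_, ?_⟩
  · intro hmem'
    have h1 : t * w ^ e ∈ q.under R := hmem'
    haveI : (q.under R).IsPrime := inferInstance
    rcases (Ideal.IsPrime.mem_or_mem inferInstance h1) with h2 | h2
    · exact ht h2
    · exact hw (Ideal.IsPrime.mem_of_pow_mem inferInstance e h2)
  · obtain ⟨c, hc⟩ := Ideal.mem_span_singleton'.1 hte
    rw [Ideal.mem_span_singleton']
    refine ⟨algebraMap R R' c * g, ?_⟩
    have h1 := congrArg (algebraMap R R') hc
    rw [map_mul, map_mul, map_pow] at h1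
    have h2 : algebraMap R R' t * algebraMap R R' w ^ e * f =
        algebraMap R R' t * (algebraMap R R' w ^ e * f) := by ring
    rw [map_mul, map_pow, h2, hge, ← mul_assoc, ← h1]
    ring

/-- The core lemma. -/
theorem isReduced_of_normal
    (hsurj : ∀ y : R', ∃ r : R,
      y - algebraMap R R' r ∈ (maximalIdeal R).map (algebraMap R R'))
    (hq : ∀ (p : Ideal R) [p.IsPrime], p ≠ ⊥ → IsReduced (R' ⧸ p.map (algebraMap R R'))) :
    IsReduced R' := by
  by_cases hm : maximalIdeal R = ⊥
  · haveI : Module.FaithfullyFlat R R' := Module.FaithfullyFlat.of_flat_of_isLocalHom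
    have hinj : Function.Injective (algebraMap R R') := FaithfulSMul.algebraMap_injective R R'
    constructor
    intro f hf
    obtain ⟨r, hr⟩ := hsurj f
    rw [hm, Ideal.map_bot, Ideal.mem_bot, sub_eq_zero] at hr
    rw [hr] at hf ⊢
    obtain ⟨n, hn⟩ := hf
    rw [← map_pow] at hn
    have h1 : r ^ n = 0 := hinj (hn.trans (map_zero _).symm)
    have h2 : r = 0 := pow_eq_zero_iff_of_pos_aux h1
    rw [h2, map_zero]
  · obtain ⟨x, hxm, hx0⟩ := Submodule.exists_mem_ne_zero_of_ne_bot hm
    constructor
    intro f hf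
    have hx' : algebraMap R R' x ∈ maximalIdeal R' := by
      rw [mem_maximalIdeal, mem_nonunits_iff]
      intro hu
      exact (mem_maximalIdeal _).1 hxm (isUnit_of_map_unit (algebraMap R R') x hu)
    have key : ∀ n : ℕ, ∀ f : R', IsNilpotent f → f ∈ Ideal.span {algebraMap R R' x ^ n} := by
      intro n
      induction n with
      | zero =>
        intro f _
        rw [pow_zero, Ideal.span_singleton_one]
        exact Submodule.mem_top
      | succ n ih =>
        intro f hf
        obtain ⟨g, hg⟩ := Ideal.mem_span_singleton'.1 (mem_span_of_isNilpotent R R' hq x hx0 f hf)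
        have hgn : IsNilpotent g := isNilpotent_of_mul R R' x hx0 g (by rw [mul_comm, hg]; exact hf)
        obtain ⟨h, hh⟩ := Ideal.mem_span_singleton'.1 (ih g hgn)
        rw [Ideal.mem_span_singleton']
        exact ⟨h, by rw [pow_succ, ← mul_assoc, hh, hg]⟩
    have hmem : f ∈ ⨅ n, maximalIdeal R' ^ n := by
      rw [Ideal.mem_iInf]
      intro n
      have h1 := key n f hf
      have h2 : Ideal.span {algebraMap R R' x ^ n} ≤ maximalIdeal R' ^ n := by
        rw [Ideal.span_le, Set.singleton_subset_iff]
        exact Ideal.pow_mem_pow hx' n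
      exact h2 h1
    rw [Ideal.iInf_pow_eq_bot_of_isLocalRing _ (maximalIdeal.isMaximal R').ne_top] at hmem
    exact hmem

end Core

end Groth.Agent.Lib.AnUnramCoreH3
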