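import Mathlib
import Groth.Prelude.Def_Found
import Groth.Agent.Lib.N1Descent_helper3
import Groth.Agent.Lib.CompleteNagata_helper3
import Groth.Agent.Lib.CompletionRegular_helper5

/-!
# Analytically unramified local domains are N-1 (helper3)
APPEND-ONLY once landed.
-/

set_option autoImplicit false
universe u

namespace Groth.Agent.Lib.AnUnramH3

open IsLocalRing Groth.Agent.RegularLib

theorem isN1_of_isN2 (A : Type u) [CommRing A] [IsDomain A] (h : CAlg.IsN2 A) : CAlg.IsN1 A :=
  h (FractionRing A) inferInstance

section Completion

variable (R : Type u) [CommRing R] [IsLocalRing R] [IsNoetherianRing R]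

theorem maximalIdeal_ne_top : maximalIdeal R ≠ ⊤ := Ideal.IsPrime.ne_top'

/-- The completion of a Noetherian local ring is a complete Noetherian local ring, faithfully
flat over the original ring. -/
theorem completion_facts :
    ∃ (_ : IsLocalRing (AdicCompletion (maximalIdeal R) R))
      (_ : IsNoetherianRing (AdicCompletion (maximalIdeal R) R)),
      IsAdicComplete (maximalIdeal (AdicCompletion (maximalIdeal R) R))
        (AdicCompletion (maximalIdeal R) R) ∧
      Module.FaithfullyFlat R (AdicCompletion (maximalIdeal R) R) ∧
      IsLocalHom (algebraMap R (AdicCompletion (maximalIdeal R) R)) ∧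
      (maximalIdeal R).map (algebraMap R (AdicCompletion (maximalIdeal R) R)) =
        maximalIdeal (AdicCompletion (maximalIdeal R) R) := by
  have hI : maximalIdeal R ≠ ⊤ := maximalIdeal_ne_top R
  haveI := isLocalRing_adicCompletion R (maximalIdeal R) hI
  haveI := isNoetherianRing_adicCompletion R (maximalIdeal R)
  haveI := isLocalHom_adicCompletion R (maximalIdeal R) hI
  have hff : Module.FaithfullyFlat R (AdicCompletion (maximalIdeal R) R) :=
    Module.FaithfullyFlat.of_flat_of_isLocalHom
  have hc := AdicCompletion.isAdicComplete_self (maximalIdeal R) (IsNoetherian.noetherian _)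
  rw [map_maximalIdeal_adicCompletion R (maximalIdeal R) hI] at hc
  exact ⟨inferInstance, inferInstance, hc, hff, inferInstance,
    map_maximalIdeal_adicCompletion R (maximalIdeal R) hI⟩

/-- The completion of a Noetherian local ring is Nagata. -/
theorem isNagata_completion : CAlg.IsNagata (AdicCompletion (maximalIdeal R) R) := by
  obtain ⟨h1, h2, h3, -⟩ := completion_facts R
  exact Groth.Agent.Lib.CompleteNagataH3.isNagata_of_complete_local
    (AdicCompletion (maximalIdeal R) R)

/-- An analytically unramified Noetherian local domain is N-1. -/
theorem isN1_of_isReduced_completion [IsDomain R]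
    [IsReduced (AdicCompletion (maximalIdeal R) R)] : CAlg.IsN1 R := by
  obtain ⟨h1, h2, h3, h4, -⟩ := completion_facts R
  have hNag := isNagata_completion R
  exact Groth.Agent.Lib.N1DescentH3.isN1_of_faithfullyFlat R (AdicCompletion (maximalIdeal R) R)
    (fun q _ => isN1_of_isN2 _ (hNag.2 q))

end Completion

end Groth.Agent.Lib.AnUnramH3
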