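import Mathlib
import Groth.Prelude.Def_Found
import Groth.Agent.Lib.Japanese_helper9

/-!
# N-1 / N-2 (Japanese) rings II: universally Japanese rings (helper9)
-/

set_option autoImplicit false
universe u v w

namespace Groth.Agent.Lib.Japanese

open CAlg

section fraction

/-- A subalgebra `S'` of `L` containing a `K`-basis of `L` (with `K = Frac S`) has fraction
field `L`. -/
theorem isFractionRing_of_basis_mem (S : Type*) [CommRing S] [IsDomain S] (K L : Type*) [Field K]
    [Field L] [Algebra S K] [IsFractionRing S K] [Algebra S L] [Algebra K L] [IsScalarTower S K L]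
    {ι : Type*} (b : Module.Basis ι K L) (S' : Subalgebra S L) (hb : ∀ i, b i ∈ S') :
    IsFractionRing S' L := by
  have hinjSL : Function.Injective (algebraMap S L) := by
    rw [IsScalarTower.algebraMap_eq S K L]
    exact (algebraMap K L).injective.comp (IsFractionRing.injective S K)
  have key : ∀ z : L, ∃ x ∈ S', ∃ s : S, s ≠ 0 ∧ s • z = x := by
    intro z
    have hz : z ∈ Submodule.span K (Set.range b) := b.mem_span z
    induction hz using Submodule.span_induction with
    | mem z hz =>
      obtain ⟨i, rfl⟩ := hz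
      exact ⟨b i, hb i, 1, one_ne_zero, one_smul _ _⟩
    | zero => exact ⟨0, zero_mem _, 1, one_ne_zero, smul_zero _⟩
    | add z1 z2 _ _ h1 h2 =>
      obtain ⟨x1, hx1, s1, hs1, e1⟩ := h1
      obtain ⟨x2, hx2, s2, hs2, e2⟩ := h2
      refine ⟨s2 • x1 + s1 • x2, add_mem (S'.smul_mem hx1 _) (S'.smul_mem hx2 _), s1 * s2,
        mul_ne_zero hs1 hs2, ?_⟩
      rw [smul_add, ← e1, ← e2, mul_smul s1 s2 z2, mul_comm, mul_smul]
    | smul c z _ h =>
      obtain ⟨x, hx, s, hs, e⟩ := h
      obtain ⟨a, d, hd, rfl⟩ := IsFractionRing.div_surjective (A := S) c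
      have hd0 : algebraMap K L (algebraMap S K d) ≠ 0 := by
        rw [← IsScalarTower.algebraMap_apply S K L, Ne, map_eq_zero_iff _ hinjSL]
        exact nonZeroDivisors.ne_zero hd
      refine ⟨a • x, S'.smul_mem hx a, d * s, mul_ne_zero (nonZeroDivisors.ne_zero hd) hs, ?_⟩
      rw [← e]
      simp only [Algebra.smul_def, IsScalarTower.algebraMap_apply S K L, map_mul, map_div₀]
      field_simp
  haveI : FaithfulSMul S' L :=
    (faithfulSMul_iff_algebraMap_injective S' L).mpr Subtype.val_injective
  apply IsFractionRing.of_field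
  intro z
  obtain ⟨x, hx, s, hs, e⟩ := key z
  refine ⟨⟨x, hx⟩, algebraMap S S' s, ?_⟩
  have hs0 : algebraMap S L s ≠ 0 := by
    rw [Ne, map_eq_zero_iff _ hinjSL]; exact hs
  have h1 : algebraMap S' L ⟨x, hx⟩ = x := rfl
  have h2 : algebraMap S' L (algebraMap S S' s) = algebraMap S L s := rfl
  rw [h1, h2, ← e, Algebra.smul_def]
  field_simp

end fraction

section univ

/-- If every finite extension domain of `S` is N-1, then `S` is N-2. -/
theorem isN2_of_forall_finite_isN1 (S : Type u) [CommRing S] [IsDomain S]
    (h : ∀ (S' : Type u) [CommRing S'] [IsDomain S'] [Algebra S S'], Module.Finite S S' →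
      IsN1 S') : IsN2 S := by
  intro L _ _ _ _ hfin
  obtain ⟨s, b, hb⟩ := FiniteDimensional.exists_is_basis_integral S (FractionRing S) L
  let S' : Subalgebra S L := Algebra.adjoin S (Set.range b)
  have hfg : Module.Finite S S' := (Module.Finite.iff_fg (N := S'.toSubmodule)).mpr
    (fg_adjoin_of_finite (Set.finite_range b) (by rintro _ ⟨i, rfl⟩; exact hb i))
  haveI : IsFractionRing S' L := isFractionRing_of_basis_mem S (FractionRing S) L b S'
    (fun i => Algebra.subset_adjoin ⟨i, rfl⟩)
  have hN1 : IsN1 S' := h S' hfg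
  haveI hfin' : Module.Finite S' (integralClosure S' L) := (isN1_iff S' L).mp hN1
  haveI : Module.Finite S (integralClosure S' L) := Module.Finite.trans S' _
  haveI : Algebra.IsIntegral S S' := Algebra.IsIntegral.of_finite S S'
  let g : integralClosure S' L →ₗ[S] integralClosure S L :=
    { toFun := fun x => ⟨x.1, isIntegral_trans (A := S') x.1 x.2⟩
      map_add' := fun x y => rfl
      map_smul' := fun c x => rfl }
  have hg : Function.Surjective g := by
    rintro ⟨y, hy⟩
    have hy' : IsIntegral S y := hy
    exact ⟨⟨y, hy'.tower_top⟩, rfl⟩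
  exact Module.Finite.of_surjective g hg

/-- A ring all of whose finite type domains are N-1 is universally Japanese. -/
theorem isUniversallyJapanese_of_forall_isN1 (R : Type u) [CommRing R]
    (h : ∀ (S : Type u) [CommRing S] [IsDomain S] [Algebra R S], Algebra.FiniteType R S →
      IsN1 S) : IsUniversallyJapanese R := by
  intro S _ _ _ hft
  apply isN2_of_forall_finite_isN1
  intro S' _ _ _ hfin
  letI : Algebra R S' := ((algebraMap S S').comp (algebraMap R S)).toAlgebra
  haveI : IsScalarTower R S S' := IsScalarTower.of_algebraMap_eq (fun _ => rfl)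
  exact h S' (Algebra.FiniteType.trans hft inferInstance)

end univ

end Groth.Agent.Lib.Japanese
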