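import Mathlib
import Groth.Prelude.Def_Found
import Groth.Prelude.Def_EGA4b
import Groth.Agent.Lib.AnUnram_helper3
import Groth.Agent.Lib.N2QuasiFinite_helper3
import Groth.Agent.Lib.Japanese2_helper9

/-!
# Geometrically reduced formal fibres ⇒ Nagata (helper3)
APPEND-ONLY once landed.
-/

set_option autoImplicit false
universe u

namespace Groth.Agent.Lib.FFNagataH3

open TensorProduct IsLocalRing

/-- A domain finite over a Nagata ring is N-2. -/
theorem isN2_of_finite_ringHom_of_isNagata (C D : Type u) [CommRing C] [CommRing D] [IsDomain D]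
    (φ : C →+* D) (hφ : φ.Finite) (hC : CAlg.IsNagata C) : CAlg.IsN2 D := by
  let p : Ideal C := RingHom.ker φ
  haveI : p.IsPrime := RingHom.ker_isPrime φ
  letI : Algebra C D := φ.toAlgebra
  letI : Algebra (C ⧸ p) D := (RingHom.kerLift φ).toAlgebra
  haveI : IsScalarTower C (C ⧸ p) D := IsScalarTower.of_algebraMap_eq (fun r => rfl)
  haveI : Module.Finite C D := hφ
  haveI : Module.Finite (C ⧸ p) D := Module.Finite.of_restrictScalars_finite C (C ⧸ p) D
  exact N2QuasiFiniteH3.isN2_of_finite_injective (C ⧸ p) D (RingHom.kerLift_injective φ) (hC.2 p)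

section

variable (A : Type u) [CommRing A] [IsNoetherianRing A] [IsLocalRing A]
  (B : Type u) [CommRing B] [IsDomain B] [Algebra A B] [Module.Finite A B]

theorem isReduced_tensor_completion (hA : EGA4.HasGeomReducedFormalFibres A) :
    IsReduced (B ⊗[A] AdicCompletion (maximalIdeal A) A) := by
  let p : Ideal A := RingHom.ker (algebraMap A B)
  haveI : p.IsPrime := RingHom.ker_isPrime _
  have hinjBL : Function.Injective (algebraMap B (FractionRing B)) :=
    IsFractionRing.injective B _
  have hf₁ : p ≤ RingHom.ker (algebraMap A (FractionRing B)) := by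
    intro r hr
    have hr' : algebraMap A B r = 0 := hr
    rw [RingHom.mem_ker, IsScalarTower.algebraMap_apply A B (FractionRing B), hr', map_zero]
  have hf₂ : p.primeCompl ≤
      (IsUnit.submonoid (FractionRing B)).comap (algebraMap A (FractionRing B)) := by
    intro r hr
    rw [Submonoid.mem_comap, IsUnit.mem_submonoid_iff]
    apply IsUnit.mk0
    rw [IsScalarTower.algebraMap_apply A B (FractionRing B)]
    intro h0
    apply hr
    show r ∈ RingHom.ker (algebraMap A B)
    rw [RingHom.mem_ker]
    exact hinjBL (h0.trans (map_zero _).symm)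
  letI : Algebra p.ResidueField (FractionRing B) :=
    (Ideal.ResidueField.lift p (algebraMap A (FractionRing B)) hf₁ hf₂).toAlgebra
  haveI : IsScalarTower A p.ResidueField (FractionRing B) :=
    IsScalarTower.of_algebraMap_eq
      (fun r => (Ideal.ResidueField.lift_algebraMap p _ hf₁ hf₂ r).symm)
  haveI : Algebra.IsIntegral A B := Algebra.IsIntegral.of_finite A B
  haveI : Algebra.IsAlgebraic p.ResidueField (FractionRing B) :=
    isAlgebraic_of_isFractionRing A B p.ResidueField (FractionRing B)
  haveI : Algebra.IsGeometricallyReduced p.ResidueField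
      (p.ResidueField ⊗[A] AdicCompletion (maximalIdeal A) A) := hA p
  haveI h1 : IsReduced (FractionRing B ⊗[p.ResidueField]
      (p.ResidueField ⊗[A] AdicCompletion (maximalIdeal A) A)) := inferInstance
  haveI h2 : IsReduced (FractionRing B ⊗[A] AdicCompletion (maximalIdeal A) A) :=
    isReduced_of_injective (Algebra.TensorProduct.cancelBaseChange A p.ResidueField
      p.ResidueField (FractionRing B) (AdicCompletion (maximalIdeal A) A)).symm
      (AlgEquiv.injective _)
  exact isReduced_of_injective
    (Algebra.TensorProduct.map (IsScalarTower.toAlgHom A B (FractionRing B))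
      (AlgHom.id A (AdicCompletion (maximalIdeal A) A)))
    (Module.Flat.rTensor_preserves_injective_linearMap _ hinjBL)

/-- A domain finite over a Noetherian local ring with geometrically reduced formal fibres
is N-1. -/
theorem isN1_of_finite (hA : EGA4.HasGeomReducedFormalFibres A) : CAlg.IsN1 B := by
  obtain ⟨hloc, hnoeth, hcompl, hff, -, -⟩ := AnUnramH3.completion_facts A
  haveI := hloc
  haveI := hnoeth
  haveI := hcompl
  haveI := hff
  have hNag : CAlg.IsNagata (AdicCompletion (maximalIdeal A) A) :=
    AnUnramH3.isNagata_completion A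
  haveI : IsReduced (B ⊗[A] AdicCompletion (maximalIdeal A) A) :=
    isReduced_tensor_completion A B hA
  haveI : IsNoetherianRing (AdicCompletion (maximalIdeal A) A ⊗[A] B) :=
    IsNoetherianRing.of_finite (AdicCompletion (maximalIdeal A) A) _
  haveI : IsNoetherianRing (B ⊗[A] AdicCompletion (maximalIdeal A) A) :=
    isNoetherianRing_of_ringEquiv _
      (Algebra.TensorProduct.comm A (AdicCompletion (maximalIdeal A) A) B).toRingEquiv
  refine N1DescentH3.isN1_of_faithfullyFlat B (B ⊗[A] AdicCompletion (maximalIdeal A) A)
    (fun q _ => ?_)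
  apply AnUnramH3.isN1_of_isN2
  let φ : AdicCompletion (maximalIdeal A) A →+*
      (B ⊗[A] AdicCompletion (maximalIdeal A) A) ⧸ q :=
    ((Ideal.Quotient.mk q).comp
      (Algebra.TensorProduct.comm A (AdicCompletion (maximalIdeal A) A) B).toRingEquiv.toRingHom).comp
      (algebraMap (AdicCompletion (maximalIdeal A) A) (AdicCompletion (maximalIdeal A) A ⊗[A] B))
  have hφ : φ.Finite := by
    refine RingHom.Finite.comp ?_ (RingHom.finite_algebraMap.2 inferInstance)
    apply RingHom.Finite.of_surjective
    exact Ideal.Quotient.mk_surjective.comp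
      (Algebra.TensorProduct.comm A (AdicCompletion (maximalIdeal A) A) B).toRingEquiv.surjective
  exact isN2_of_finite_ringHom_of_isNagata (AdicCompletion (maximalIdeal A) A) _ φ hφ hNag

/-- A Noetherian local ring with geometrically reduced formal fibres is Nagata. -/
theorem isNagata_of_geomReducedFormalFibres (hA : EGA4.HasGeomReducedFormalFibres A) :
    CAlg.IsNagata A := by
  refine ⟨inferInstance, fun p hp => ?_⟩
  apply Groth.Agent.Lib.Japanese.isN2_of_forall_finite_isN1
  intro B _ _ _ hfin
  letI : Algebra A B := ((algebraMap (A ⧸ p) B).comp (algebraMap A (A ⧸ p))).toAlgebra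
  haveI : IsScalarTower A (A ⧸ p) B := IsScalarTower.of_algebraMap_eq (fun _ => rfl)
  haveI : Module.Finite A B := Module.Finite.trans (A ⧸ p) B
  exact isN1_of_finite A B hA

end

end Groth.Agent.Lib.FFNagataH3
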