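import Mathlib
import Groth.Prelude.Def_Found
import Groth.Agent.Lib.Japanese_helper9

/-!
# Nagata rings: localization and covers (helper9)
-/

set_option autoImplicit false
universe u v w

namespace Groth.Agent.Lib.Japanese

open CAlg

section nagata

/-- A localization of a Nagata ring is Nagata. -/
theorem isNagata_of_isLocalization (A : Type u) [CommRing A] (hA : IsNagata A) (M : Submonoid A)
    (S : Type u) [CommRing S] [Algebra A S] [IsLocalization M S] : IsNagata S := by
  refine ⟨IsLocalization.isNoetherianRing M S hA.1, ?_⟩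
  intro q hq
  have hqp : (q.comap (algebraMap A S)).map (algebraMap A S) = q := IsLocalization.map_under M S q
  have key : ∀ (p : Ideal A) [p.IsPrime] (q' : Ideal S) [q'.IsPrime],
      p.map (algebraMap A S) = q' → IsN2 (S ⧸ q') := by
    intro p _ q' _ hpq
    subst hpq
    exact isN2_of_isLocalization (A ⧸ p) (Algebra.algebraMapSubmonoid (A ⧸ p) M)
      (S ⧸ p.map (algebraMap A S)) (hA.2 p)
  exact key (q.comap (algebraMap A S)) q hqp

/-- Being Nagata can be checked on a finite principal cover. -/
theorem isNagata_of_span_eq_top (R : Type u) [CommRing R] {ι : Type u} [Finite ι]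
    (f : ι → R) (hf : Ideal.span (Set.range f) = ⊤)
    (Rf : ι → Type u) [∀ i, CommRing (Rf i)] [∀ i, Algebra R (Rf i)]
    [∀ i, IsLocalization.Away (f i) (Rf i)]
    (h : ∀ i, IsNagata (Rf i)) : IsNagata R := by
  classical
  cases nonempty_fintype ι
  constructor
  · apply AlgebraicGeometry.isNoetherianRing_of_away (Finset.univ.image f)
    · rw [Finset.coe_image, Finset.coe_univ, Set.image_univ]; exact hf
    · rintro ⟨s, hs⟩
      obtain ⟨i, -, rfl⟩ := Finset.mem_image.mp hs
      haveI := (h i).1
      exact isNoetherianRing_of_ringEquiv (Rf i)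
        (IsLocalization.algEquiv (Submonoid.powers (f i)) (Rf i)
          (Localization.Away (f i))).toRingEquiv
  · intro p hp
    let g : ι → R ⧸ p := fun i => Ideal.Quotient.mk p (f i)
    let ι' : Type u := {i : ι // g i ≠ 0}
    have hspan : Ideal.span (Set.range (fun i : ι' => g i.1)) = ⊤ := by
      have h1 : Ideal.span (Set.range g) = ⊤ := by
        have := congrArg (Ideal.map (Ideal.Quotient.mk p)) hf
        rw [Ideal.map_span, Ideal.map_top, ← Set.range_comp] at this
        exact this
      rw [eq_top_iff, ← h1, Ideal.span_le]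
      rintro _ ⟨i, rfl⟩
      by_cases hi : g i = 0
      · rw [hi]; exact zero_mem _
      · exact Ideal.subset_span ⟨⟨i, hi⟩, rfl⟩
    have hloc : ∀ i : ι', IsLocalization.Away (g i.1)
        (Rf i.1 ⧸ p.map (algebraMap R (Rf i.1))) := by
      intro i
      have h2 : Algebra.algebraMapSubmonoid (R ⧸ p) (Submonoid.powers (f i.1)) =
          Submonoid.powers (g i.1) := by
        simp [Algebra.algebraMapSubmonoid, Submonoid.map_powers, g]
      have h3 : IsLocalization (Algebra.algebraMapSubmonoid (R ⧸ p) (Submonoid.powers (f i.1)))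
        (Rf i.1 ⧸ p.map (algebraMap R (Rf i.1))) := inferInstance
      rw [h2] at h3
      exact h3
    haveI := hloc
    have hdom : ∀ i : ι', IsDomain (Rf i.1 ⧸ p.map (algebraMap R (Rf i.1))) := fun i =>
      IsLocalization.isDomain_of_le_nonZeroDivisors (M := Submonoid.powers (g i.1)) _
        (powers_le_nonZeroDivisors_of_noZeroDivisors i.2)
    haveI := hdom
    refine isN2_of_span_eq_top (R ⧸ p) (fun i : ι' => g i.1) hspan
      (fun i => Rf i.1 ⧸ p.map (algebraMap R (Rf i.1))) (fun i => ?_)
    haveI : (p.map (algebraMap R (Rf i.1))).IsPrime :=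
      (Ideal.Quotient.isDomain_iff_prime (I := p.map (algebraMap R (Rf i.1)))).mp (hdom i)
    exact (h i.1).2 (p.map (algebraMap R (Rf i.1)))

end nagata

end Groth.Agent.Lib.Japanese
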