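import Mathlib
import Groth.Prelude.Def_Found
import Groth.Agent.Lib.AnUnramCore_helper3
import Groth.Agent.Lib.AnUnram_helper3
import Groth.Agent.Lib.FFNagata_helper3
import Groth.Agent.Lib.FinitePS_helper3
import Groth.Agent.Lib.Japanese4_helper9
import Groth.Agent.Lib.MonomialCharP_helper3

/-!
# Nagata local domains are analytically unramified (helper3)
APPEND-ONLY once landed.

We prove the more general statement: if `R` is a Nagata local domain and `R → R'` is a flat
local homomorphism of Noetherian local rings with `R' = R + m_R R'`, then `R'` is reduced.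
-/

set_option autoImplicit false
universe u

namespace Groth.Agent.Lib.AnUnramNagataH3

open IsLocalRing TensorProduct

/-- The class of flat local maps to Noetherian local rings with trivial closed fibre. -/
structure InC (R R' : Type u) [CommRing R] [IsLocalRing R] [CommRing R'] [IsLocalRing R']
    [Algebra R R'] : Prop where
  noeth : IsNoetherianRing R'
  flat : Module.Flat R R'
  loc : IsLocalHom (algebraMap R R')
  surj : ∀ y : R', ∃ r : R, y - algebraMap R R' r ∈ (maximalIdeal R).map (algebraMap R R')

section Completion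

variable (R : Type u) [CommRing R] [IsLocalRing R] [IsNoetherianRing R]

theorem inC_completion :
    ∃ (_ : IsLocalRing (AdicCompletion (maximalIdeal R) R)),
      InC R (AdicCompletion (maximalIdeal R) R) := by
  obtain ⟨hloc, hnoeth, -, hff, hlh, -⟩ := AnUnramH3.completion_facts R
  refine ⟨hloc, ⟨hnoeth, inferInstance, hlh, fun y => ?_⟩⟩
  obtain ⟨r, hr⟩ := Ideal.Quotient.mk_surjective (AdicCompletion.evalOneₐ (maximalIdeal R) y)
  refine ⟨r, ?_⟩
  rw [← AdicCompletion.ker_evalOneₐ_eq_map (maximalIdeal R) (IsNoetherian.noetherian _)]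
  show (AdicCompletion.evalOneₐ (maximalIdeal R)) (y - algebraMap R _ r) = 0
  rw [map_sub, AlgHom.commutes, ← hr, sub_eq_zero]
  rfl

end Completion

section Quotient

variable (R : Type u) [CommRing R] [IsLocalRing R]
  (R' : Type u) [CommRing R'] [IsLocalRing R'] [Algebra R R']

theorem map_le_maximalIdeal (h : InC R R') :
    (maximalIdeal R).map (algebraMap R R') ≤ maximalIdeal R' := by
  have h0 : IsLocalHom (algebraMap R R') := h.loc
  exact ((IsLocalRing.local_hom_TFAE (algebraMap R R')).out 0 2).mp h0

theorem inC_quotient (h : InC R R') (p : Ideal R) (hp : p ≠ ⊤) :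
    ∃ (_ : IsLocalRing (R ⧸ p)) (_ : IsLocalRing (R' ⧸ p.map (algebraMap R R'))),
      InC (R ⧸ p) (R' ⧸ p.map (algebraMap R R')) := by
  haveI := h.noeth
  haveI := h.flat
  haveI : Nontrivial (R ⧸ p) := Ideal.Quotient.nontrivial_iff.2 hp
  haveI hl1 : IsLocalRing (R ⧸ p) :=
    IsLocalRing.of_surjective' (Ideal.Quotient.mk p) Ideal.Quotient.mk_surjective
  have hpm : p.map (algebraMap R R') ≤ maximalIdeal R' :=
    (Ideal.map_mono (IsLocalRing.le_maximalIdeal hp)).trans (map_le_maximalIdeal R R' h)
  have hp' : p.map (algebraMap R R') ≠ ⊤ := by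
    intro htop
    rw [htop] at hpm
    exact (maximalIdeal.isMaximal R').ne_top (top_le_iff.1 hpm)
  haveI : Nontrivial (R' ⧸ p.map (algebraMap R R')) := Ideal.Quotient.nontrivial_iff.2 hp'
  haveI hl2 : IsLocalRing (R' ⧸ p.map (algebraMap R R')) :=
    IsLocalRing.of_surjective' (Ideal.Quotient.mk _) Ideal.Quotient.mk_surjective
  have hmax1 : (maximalIdeal R).map (Ideal.Quotient.mk p) = maximalIdeal (R ⧸ p) :=
    MonomialCharPH3.map_mk_maximalIdeal R p
  have hmax2 : (maximalIdeal R').map (Ideal.Quotient.mk (p.map (algebraMap R R'))) =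
      maximalIdeal (R' ⧸ p.map (algebraMap R R')) :=
    MonomialCharPH3.map_mk_maximalIdeal R' (p.map (algebraMap R R'))
  have hcomm : (algebraMap (R ⧸ p) (R' ⧸ p.map (algebraMap R R'))).comp (Ideal.Quotient.mk p) =
      (Ideal.Quotient.mk (p.map (algebraMap R R'))).comp (algebraMap R R') := by
    ext r
    rfl
  have hmapeq : (maximalIdeal (R ⧸ p)).map (algebraMap (R ⧸ p) (R' ⧸ p.map (algebraMap R R'))) =
      ((maximalIdeal R).map (algebraMap R R')).map
        (Ideal.Quotient.mk (p.map (algebraMap R R'))) := by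
    rw [← hmax1, Ideal.map_map, Ideal.map_map, hcomm]
  refine ⟨hl1, hl2, ⟨inferInstance, ?_, ?_, ?_⟩⟩
  · exact Module.Flat.of_linearEquiv
      (Algebra.TensorProduct.quotIdealMapEquivQuotTensor R' p).toLinearEquiv
  · refine ((IsLocalRing.local_hom_TFAE _).out 0 2).mpr ?_
    rw [hmapeq, ← hmax2]
    exact Ideal.map_mono (map_le_maximalIdeal R R' h)
  · intro y
    obtain ⟨y0, rfl⟩ := Ideal.Quotient.mk_surjective y
    obtain ⟨r, hr⟩ := h.surj y0
    refine ⟨Ideal.Quotient.mk p r, ?_⟩
    rw [hmapeq]
    have : Ideal.Quotient.mk (p.map (algebraMap R R')) y0 -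
        algebraMap (R ⧸ p) (R' ⧸ p.map (algebraMap R R')) (Ideal.Quotient.mk p r) =
        Ideal.Quotient.mk (p.map (algebraMap R R')) (y0 - algebraMap R R' r) := by
      rw [map_sub]
      rfl
    rw [this]
    exact Ideal.mem_map_of_mem _ hr

end Quotient

section Aux

theorem isNagata_quotient (S : Type u) [CommRing S] (hS : CAlg.IsNagata S) (p : Ideal S) :
    CAlg.IsNagata (S ⧸ p) := by
  haveI := hS.1
  refine ⟨inferInstance, fun Q hQ => ?_⟩
  exact FFNagataH3.isN2_of_finite_ringHom_of_isNagata S ((S ⧸ p) ⧸ Q)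
    ((Ideal.Quotient.mk Q).comp (Ideal.Quotient.mk p))
    (RingHom.Finite.of_surjective _
      (Ideal.Quotient.mk_surjective.comp Ideal.Quotient.mk_surjective)) hS

theorem dim_quotient_succ_le (S : Type u) [CommRing S] [IsDomain S] (p : Ideal S) (hp0 : p ≠ ⊥) :
    ringKrullDim (S ⧸ p) + 1 ≤ ringKrullDim S := by
  obtain ⟨x, hxp, hx0⟩ := Submodule.exists_mem_ne_zero_of_ne_bot hp0
  have h1 := ringKrullDim_quotient_succ_le_of_nonZeroDivisor (mem_nonZeroDivisors_of_ne_zero hx0)
  have hle : Ideal.span {x} ≤ p := by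
    rw [Ideal.span_le, Set.singleton_subset_iff]
    exact hxp
  have h2 : ringKrullDim (S ⧸ p) ≤ ringKrullDim (S ⧸ Ideal.span {x}) :=
    ringKrullDim_le_of_surjective (Ideal.Quotient.factor hle) (Ideal.Quotient.factor_surjective hle)
  exact (add_le_add_left h2 1).trans h1

theorem dim_le_pred {d : WithBot ℕ∞} {k : ℕ} (h : d + 1 ≤ ((k + 1 : ℕ) : WithBot ℕ∞)) :
    d ≤ (k : WithBot ℕ∞) := by
  induction d using WithBot.recBotCoe with
  | bot => exact bot_le
  | coe e =>
    induction e using ENat.recTopCoe with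
    | top =>
      exfalso
      have : ((⊤ : ℕ∞) : WithBot ℕ∞) + 1 = ((⊤ : ℕ∞) : WithBot ℕ∞) := by
        rw [← WithBot.coe_one, ← WithBot.coe_add, top_add]
      rw [this] at h
      have h2 : ((k + 1 : ℕ) : WithBot ℕ∞) = (((k + 1 : ℕ) : ℕ∞) : WithBot ℕ∞) := rfl
      rw [h2, WithBot.coe_le_coe] at h
      exact absurd h (by simp)
    | coe m =>
      have h1 : ((m : ℕ∞) : WithBot ℕ∞) + 1 = (((m + 1 : ℕ) : ℕ∞) : WithBot ℕ∞) := by
        push_cast
        rfl
      have h2 : ((k + 1 : ℕ) : WithBot ℕ∞) = (((k + 1 : ℕ) : ℕ∞) : WithBot ℕ∞) := rfl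
      rw [h1, h2, WithBot.coe_le_coe, Nat.cast_le] at h
      have h3 : ((k : ℕ) : WithBot ℕ∞) = (((k : ℕ) : ℕ∞) : WithBot ℕ∞) := rfl
      rw [h3, WithBot.coe_le_coe, Nat.cast_le]
      omega

end Aux

section General

theorem isReduced_of_forall_localization_maximal (W : Type*) [CommRing W]
    (h : ∀ (Q : Ideal W) [Q.IsMaximal], IsReduced (Localization.AtPrime Q)) : IsReduced W := by
  constructor
  intro x hx
  apply eq_zero_of_localization
  intro J hJ
  haveI := h J
  exact (hx.map (algebraMap W (Localization.AtPrime J))).eq_zero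

theorem isN2_of_isNagata_domain (R : Type u) [CommRing R] [IsDomain R] (hR : CAlg.IsNagata R) :
    CAlg.IsN2 R := by
  haveI : (⊥ : Ideal R).IsPrime := Ideal.isPrime_bot
  exact N2QuasiFiniteH3.isN2_of_ringEquiv (RingEquiv.quotientBot R) (hR.2 ⊥)

variable (R : Type u) [CommRing R] [IsLocalRing R]
  (R' : Type u) [CommRing R'] [IsLocalRing R'] [Algebra R R']

theorem exists_sub_mem_map (h : InC R R') (S : Type u) [CommRing S] [Algebra R S]
    (t : S ⊗[R] R') :
    ∃ a : S, t - algebraMap S (S ⊗[R] R') a ∈
      (maximalIdeal R).map (algebraMap R (S ⊗[R] R')) := by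
  have hμ : ∀ (a : S) (μ : R'), μ ∈ (maximalIdeal R).map (algebraMap R R') →
      a ⊗ₜ[R] μ ∈ (maximalIdeal R).map (algebraMap R (S ⊗[R] R')) := by
    intro a μ hμ
    rw [Ideal.map] at hμ
    induction hμ using Submodule.span_induction with
    | mem μ hμ =>
      obtain ⟨r0, hr0, rfl⟩ := hμ
      have h1 : a ⊗ₜ[R] (algebraMap R R' r0) =
          algebraMap R (S ⊗[R] R') r0 * (a ⊗ₜ[R] (1 : R')) := by
        rw [Algebra.TensorProduct.algebraMap_apply, Algebra.TensorProduct.tmul_mul_tmul,
          Algebra.algebraMap_eq_smul_one, Algebra.algebraMap_eq_smul_one, smul_mul_assoc, one_mul,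
          one_mul, TensorProduct.smul_tmul]
      rw [h1]
      exact Ideal.mul_mem_right _ _ (Ideal.mem_map_of_mem _ hr0)
    | zero => rw [TensorProduct.tmul_zero]; exact zero_mem _
    | add μ ν _ _ hμ hν => rw [TensorProduct.tmul_add]; exact add_mem hμ hν
    | smul c μ _ hμ =>
      have h1 : a ⊗ₜ[R] (c • μ) = ((1 : S) ⊗ₜ[R] c) * (a ⊗ₜ[R] μ) := by
        rw [Algebra.TensorProduct.tmul_mul_tmul, one_mul, smul_eq_mul]
      rw [h1]
      exact Ideal.mul_mem_left _ _ hμ
  induction t using TensorProduct.induction_on with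
  | zero => exact ⟨0, by simp⟩
  | tmul a r' =>
    obtain ⟨r, hr⟩ := h.surj r'
    refine ⟨r • a, ?_⟩
    have h1 : a ⊗ₜ[R] r' - algebraMap S (S ⊗[R] R') (r • a) =
        a ⊗ₜ[R] (r' - algebraMap R R' r) := by
      rw [Algebra.TensorProduct.algebraMap_apply, TensorProduct.tmul_sub,
        Algebra.algebraMap_eq_smul_one (A := R'), ← TensorProduct.smul_tmul]
      rfl
    rw [h1]
    exact hμ a _ hr
  | add t1 t2 h1 h2 =>
    obtain ⟨a1, ha1⟩ := h1
    obtain ⟨a2, ha2⟩ := h2
    refine ⟨a1 + a2, ?_⟩
    have : t1 + t2 - algebraMap S (S ⊗[R] R') (a1 + a2) =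
        (t1 - algebraMap S (S ⊗[R] R') a1) + (t2 - algebraMap S (S ⊗[R] R') a2) := by
      rw [map_add]; ring
    rw [this]
    exact add_mem ha1 ha2

theorem map_le_of_isMaximal (h : InC R R') (S : Type u) [CommRing S] [Algebra R S]
    [Module.Finite R S] (N : Ideal (S ⊗[R] R')) [N.IsMaximal] :
    (maximalIdeal R).map (algebraMap R (S ⊗[R] R')) ≤ N := by
  let ι : R' →+* S ⊗[R] R' := (Algebra.TensorProduct.includeRight : R' →ₐ[R] S ⊗[R] R').toRingHom
  have hι : ι = (Algebra.TensorProduct.comm R R' S).toRingEquiv.toRingHom.comp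
      (algebraMap R' (R' ⊗[R] S)) := by
    ext x
    simp [ι]
  have hfin : ι.Finite := by
    rw [hι]
    exact RingHom.Finite.comp (RingHom.Finite.of_surjective _
      (Algebra.TensorProduct.comm R R' S).toRingEquiv.surjective)
      (RingHom.finite_algebraMap.2 inferInstance)
  haveI hmax : (N.comap ι).IsMaximal :=
    Ideal.isMaximal_comap_of_isIntegral_of_isMaximal' ι hfin.to_isIntegral N
  have heq : N.comap ι = maximalIdeal R' := IsLocalRing.eq_maximalIdeal hmax
  rw [Ideal.map_le_iff_le_comap]
  intro r hr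
  rw [Ideal.mem_comap]
  have h1 : algebraMap R R' r ∈ N.comap ι := by
    rw [heq]
    exact map_le_maximalIdeal R R' h (Ideal.mem_map_of_mem _ hr)
  have h2 : algebraMap R (S ⊗[R] R') r = ι (algebraMap R R' r) := by
    show _ = (Algebra.TensorProduct.includeRight : R' →ₐ[R] S ⊗[R] R') (algebraMap R R' r)
    rw [AlgHom.commutes]
  rw [h2]
  exact h1

variable [IsDomain R]

theorem general_step_aux (hR : CAlg.IsNagata R) (n : ℕ) (hdim : ringKrullDim R ≤ n)
    (hnormal : ∀ (S : Type u) [CommRing S] [IsDomain S] [IsLocalRing S] [IsIntegrallyClosed S],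
      CAlg.IsNagata S → ringKrullDim S ≤ n → ∀ (S' : Type u) [CommRing S'] [IsLocalRing S']
      [Algebra S S'], InC S S' → IsReduced S')
    (h : InC R R')
    (S : Type u) [CommRing S] [IsDomain S] [IsIntegrallyClosed S] [Algebra R S]
    [Module.Finite R S] (hinj : Function.Injective (algebraMap R S)) : IsReduced R' := by
  haveI := hR.1
  haveI := h.noeth
  haveI := h.flat
  haveI : IsNoetherianRing S := IsNoetherianRing.of_finite R S
  have hSNag : CAlg.IsNagata S := ⟨inferInstance, fun Q _ =>
    FFNagataH3.isN2_of_finite_ringHom_of_isNagata R (S ⧸ Q)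
      ((Ideal.Quotient.mk Q).comp (algebraMap R S))
      (RingHom.Finite.comp (RingHom.Finite.of_surjective _ Ideal.Quotient.mk_surjective)
        (RingHom.finite_algebraMap.2 inferInstance)) hR⟩
  haveI : Algebra.IsIntegral R S := Algebra.IsIntegral.of_finite R S
  have hdimS : ringKrullDim S ≤ n :=
    (Groth.Agent.Lib.FinitePSH3.ringKrullDim_le_of_isIntegral R S).trans hdim
  have hinjT : Function.Injective
      (Algebra.TensorProduct.includeRight : R' →ₐ[R] S ⊗[R] R') :=
    Algebra.TensorProduct.includeRight_injective hinj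
  haveI : IsNoetherianRing (R' ⊗[R] S) := IsNoetherianRing.of_finite R' _
  haveI : IsNoetherianRing (S ⊗[R] R') :=
    isNoetherianRing_of_ringEquiv _ (Algebra.TensorProduct.comm R R' S).toRingEquiv
  suffices hT : IsReduced (S ⊗[R] R') from
    isReduced_of_injective (Algebra.TensorProduct.includeRight : R' →ₐ[R] S ⊗[R] R') hinjT
  apply isReduced_of_forall_localization_maximal
  intro N hN
  haveI : N.IsPrime := hN.isPrime
  letI := Localization.AtPrime.algebraOfLiesOver (N.under S) N
  haveI : IsIntegrallyClosed (Localization.AtPrime (N.under S)) :=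
    isIntegrallyClosed_of_isLocalization _ (N.under S).primeCompl
      (Ideal.primeCompl_le_nonZeroDivisors _)
  have hNagM : CAlg.IsNagata (Localization.AtPrime (N.under S)) :=
    Groth.Agent.Lib.Japanese.isNagata_of_isLocalization S hSNag (N.under S).primeCompl _
  have hdimM : ringKrullDim (Localization.AtPrime (N.under S)) ≤ n := by
    rw [IsLocalization.AtPrime.ringKrullDim_eq_height (N.under S)]
    exact (Ideal.height_le_ringKrullDim_of_ne_top Ideal.IsPrime.ne_top').trans hdimS
  apply hnormal (Localization.AtPrime (N.under S)) hNagM hdimM (Localization.AtPrime N)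
  refine ⟨inferInstance, inferInstance, inferInstance, ?_⟩
  intro y
  obtain ⟨⟨t, u⟩, hyu⟩ := IsLocalization.surj N.primeCompl y
  obtain ⟨a_t, hat⟩ := exists_sub_mem_map R R' h S t
  obtain ⟨a_u, hau⟩ := exists_sub_mem_map R R' h S (u : S ⊗[R] R')
  have hmN := map_le_of_isMaximal R R' h S N
  have hauM : a_u ∉ N.under S := by
    intro hmem
    have hmem' : algebraMap S (S ⊗[R] R') a_u ∈ N := hmem
    have h1 := N.add_mem (hmN hau) hmem'
    rw [sub_add_cancel] at h1
    exact u.2 h1
  have hJ : ∀ μ ∈ (maximalIdeal R).map (algebraMap R (S ⊗[R] R')),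
      algebraMap (S ⊗[R] R') (Localization.AtPrime N) μ ∈
        (maximalIdeal (Localization.AtPrime (N.under S))).map
          (algebraMap (Localization.AtPrime (N.under S)) (Localization.AtPrime N)) := by
    intro μ hμ
    have hle : (maximalIdeal R).map (algebraMap R (S ⊗[R] R')) ≤
        Ideal.comap (algebraMap (S ⊗[R] R') (Localization.AtPrime N))
          ((maximalIdeal (Localization.AtPrime (N.under S))).map
            (algebraMap (Localization.AtPrime (N.under S)) (Localization.AtPrime N))) := by
      rw [Ideal.map_le_iff_le_comap]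
      intro r hr
      rw [Ideal.mem_comap, Ideal.mem_comap,
        ← IsScalarTower.algebraMap_apply R (S ⊗[R] R') (Localization.AtPrime N),
        IsScalarTower.algebraMap_apply R (Localization.AtPrime (N.under S))
          (Localization.AtPrime N)]
      apply Ideal.mem_map_of_mem
      rw [IsScalarTower.algebraMap_apply R S (Localization.AtPrime (N.under S)),
        IsLocalization.AtPrime.to_map_mem_maximal_iff (Localization.AtPrime (N.under S))
          (N.under S)]
      show algebraMap S (S ⊗[R] R') (algebraMap R S r) ∈ N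
      rw [← IsScalarTower.algebraMap_apply R S (S ⊗[R] R')]
      exact hmN (Ideal.mem_map_of_mem _ hr)
    exact hle hμ
  have hunit : IsUnit (algebraMap (S ⊗[R] R') (Localization.AtPrime N) (u : S ⊗[R] R')) :=
    IsLocalization.map_units _ u
  refine ⟨algebraMap S (Localization.AtPrime (N.under S)) a_t *
    IsLocalization.mk' (Localization.AtPrime (N.under S)) (1 : S) (⟨a_u, hauM⟩ : (N.under S).primeCompl), ?_⟩
  have e3 : algebraMap (Localization.AtPrime (N.under S)) (Localization.AtPrime N)
      (algebraMap S (Localization.AtPrime (N.under S)) a_t *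
        IsLocalization.mk' (Localization.AtPrime (N.under S)) (1 : S) (⟨a_u, hauM⟩ : (N.under S).primeCompl)) *
      algebraMap (S ⊗[R] R') (Localization.AtPrime N) (algebraMap S (S ⊗[R] R') a_u) =
      algebraMap (S ⊗[R] R') (Localization.AtPrime N) (algebraMap S (S ⊗[R] R') a_t) := by
    rw [← IsScalarTower.algebraMap_apply S (S ⊗[R] R') (Localization.AtPrime N),
      ← IsScalarTower.algebraMap_apply S (S ⊗[R] R') (Localization.AtPrime N),
      IsScalarTower.algebraMap_apply S (Localization.AtPrime (N.under S))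
        (Localization.AtPrime N) a_u,
      IsScalarTower.algebraMap_apply S (Localization.AtPrime (N.under S))
        (Localization.AtPrime N) a_t, ← map_mul, mul_assoc]
    congr 1
    have h1 := IsLocalization.mk'_spec (Localization.AtPrime (N.under S)) (1 : S)
      (⟨a_u, hauM⟩ : (N.under S).primeCompl)
    rw [h1, map_one, mul_one]
  have key : (y - algebraMap (Localization.AtPrime (N.under S)) (Localization.AtPrime N)
      (algebraMap S (Localization.AtPrime (N.under S)) a_t *
        IsLocalization.mk' (Localization.AtPrime (N.under S)) (1 : S) (⟨a_u, hauM⟩ : (N.under S).primeCompl))) *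
      algebraMap (S ⊗[R] R') (Localization.AtPrime N) (u : S ⊗[R] R') ∈
      (maximalIdeal (Localization.AtPrime (N.under S))).map
        (algebraMap (Localization.AtPrime (N.under S)) (Localization.AtPrime N)) := by
    have e1 : algebraMap (S ⊗[R] R') (Localization.AtPrime N) t =
        algebraMap (S ⊗[R] R') (Localization.AtPrime N) (algebraMap S (S ⊗[R] R') a_t) +
        algebraMap (S ⊗[R] R') (Localization.AtPrime N) (t - algebraMap S (S ⊗[R] R') a_t) := by
      rw [← map_add]; congr 1; ring
    have e2 : algebraMap (S ⊗[R] R') (Localization.AtPrime N) (u : S ⊗[R] R') =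
        algebraMap (S ⊗[R] R') (Localization.AtPrime N) (algebraMap S (S ⊗[R] R') a_u) +
        algebraMap (S ⊗[R] R') (Localization.AtPrime N)
          ((u : S ⊗[R] R') - algebraMap S (S ⊗[R] R') a_u) := by
      rw [← map_add]; congr 1; ring
    have hyu' : y * algebraMap (S ⊗[R] R') (Localization.AtPrime N) (u : S ⊗[R] R') =
        algebraMap (S ⊗[R] R') (Localization.AtPrime N) t := hyu
    have e5 : algebraMap (Localization.AtPrime (N.under S)) (Localization.AtPrime N)
        (algebraMap S (Localization.AtPrime (N.under S)) a_t *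
          IsLocalization.mk' (Localization.AtPrime (N.under S)) (1 : S)
            (⟨a_u, hauM⟩ : (N.under S).primeCompl)) *
        algebraMap (S ⊗[R] R') (Localization.AtPrime N) (u : S ⊗[R] R') =
        algebraMap (S ⊗[R] R') (Localization.AtPrime N) (algebraMap S (S ⊗[R] R') a_t) +
        algebraMap (Localization.AtPrime (N.under S)) (Localization.AtPrime N)
          (algebraMap S (Localization.AtPrime (N.under S)) a_t *
            IsLocalization.mk' (Localization.AtPrime (N.under S)) (1 : S)
              (⟨a_u, hauM⟩ : (N.under S).primeCompl)) *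
          algebraMap (S ⊗[R] R') (Localization.AtPrime N)
            ((u : S ⊗[R] R') - algebraMap S (S ⊗[R] R') a_u) := by
      rw [e2, mul_add, e3]
    rw [sub_mul, hyu', e5, e1]
    have e4 : ∀ (A B C D : Localization.AtPrime N), A + B - (A + C * D) = B - C * D := by
      intro A B C D; ring
    rw [e4]
    exact Ideal.sub_mem _ (hJ _ hat) (Ideal.mul_mem_left _ _ (hJ _ hau))
  have h5 := Ideal.mul_mem_right (↑hunit.unit⁻¹ : Localization.AtPrime N) _ key
  rw [mul_assoc] at h5
  have h6 : algebraMap (S ⊗[R] R') (Localization.AtPrime N) (u : S ⊗[R] R') *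
      (↑hunit.unit⁻¹ : Localization.AtPrime N) = 1 := IsUnit.mul_val_inv hunit
  rw [h6, mul_one] at h5
  exact h5

theorem general_step (hR : CAlg.IsNagata R) (n : ℕ) (hdim : ringKrullDim R ≤ n)
    (hnormal : ∀ (S : Type u) [CommRing S] [IsDomain S] [IsLocalRing S] [IsIntegrallyClosed S],
      CAlg.IsNagata S → ringKrullDim S ≤ n → ∀ (S' : Type u) [CommRing S'] [IsLocalRing S']
      [Algebra S S'], InC S S' → IsReduced S')
    (h : InC R R') : IsReduced R' := by
  have hN1 : Module.Finite R (integralClosure R (FractionRing R)) :=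
    AnUnramH3.isN1_of_isN2 R (isN2_of_isNagata_domain R hR)
  haveI := hN1
  have hinj : Function.Injective (algebraMap R (integralClosure R (FractionRing R))) := by
    have h1 : Function.Injective (algebraMap R (FractionRing R)) :=
      IsFractionRing.injective R (FractionRing R)
    intro a b hab
    apply h1
    exact congrArg Subtype.val hab
  haveI : IsIntegrallyClosed (integralClosure R (FractionRing R)) :=
    integralClosure.isIntegrallyClosedOfFiniteExtension (FractionRing R)
  exact general_step_aux R R' hR n hdim hnormal h (integralClosure R (FractionRing R)) hinj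

end General

section Main

/-- Main theorem: for a Nagata local domain `R`, every `R' ∈ 𝒞(R)` is reduced. -/
theorem isReduced_of_inC : ∀ (n : ℕ) (R : Type u) [CommRing R] [IsDomain R] [IsLocalRing R],
    CAlg.IsNagata R → ringKrullDim R ≤ n → ∀ (R' : Type u) [CommRing R'] [IsLocalRing R']
    [Algebra R R'], InC R R' → IsReduced R' := by
  intro n
  induction n using Nat.strong_induction_on with
  | _ n ih =>
    intro R _ _ _ hR hdim R' _ _ _ h
    have hnormal : ∀ (S : Type u) [CommRing S] [IsDomain S] [IsLocalRing S]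
        [IsIntegrallyClosed S], CAlg.IsNagata S → ringKrullDim S ≤ n → ∀ (S' : Type u)
        [CommRing S'] [IsLocalRing S'] [Algebra S S'], InC S S' → IsReduced S' := by
      intro S _ _ _ _ hS hdimS S' _ _ _ hS'
      haveI := hS.1
      haveI := hS'.noeth
      haveI := hS'.flat
      haveI := hS'.loc
      apply AnUnramCoreH3.isReduced_of_normal S S' hS'.surj
      intro p hp hp0
      obtain ⟨hl1, hl2, hC⟩ := inC_quotient S S' hS' p hp.ne_top
      haveI := hl1
      haveI := hl2
      have hNag : CAlg.IsNagata (S ⧸ p) := isNagata_quotient S hS p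
      have hdim' : ringKrullDim (S ⧸ p) + 1 ≤ ringKrullDim S := dim_quotient_succ_le S p hp0
      have hdim'' : ringKrullDim (S ⧸ p) + 1 ≤ (n : WithBot ℕ∞) := hdim'.trans hdimS
      cases n with
      | zero =>
        exfalso
        have h0 : (0 : WithBot ℕ∞) ≤ ringKrullDim (S ⧸ p) := ringKrullDim_nonneg_of_nontrivial
        have h1 : (0 : WithBot ℕ∞) + 1 ≤ ((0 : ℕ) : WithBot ℕ∞) :=
          (add_le_add_left h0 1).trans hdim''
        rw [zero_add] at h1
        exact absurd h1 (by simp)
      | succ k =>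
        exact ih k (Nat.lt_succ_self k) (S ⧸ p) hNag (dim_le_pred hdim'') _ hC
    exact general_step R R' hR n hdim hnormal h

/-- A Nagata local domain is analytically unramified. -/
theorem isReduced_adicCompletion (R : Type u) [CommRing R] [IsDomain R] [IsLocalRing R]
    (hR : CAlg.IsNagata R) : IsReduced (AdicCompletion (maximalIdeal R) R) := by
  haveI := hR.1
  obtain ⟨hloc, hC⟩ := inC_completion R
  haveI := hloc
  have hfin : ringKrullDim R < ⊤ := ringKrullDim_lt_top
  obtain ⟨n, hn⟩ : ∃ n : ℕ, ringKrullDim R ≤ n := by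
    have h1 : ringKrullDim R ≠ ⊤ := hfin.ne
    have h2 : ringKrullDim R ≠ ⊥ := ringKrullDim_ne_bot
    obtain ⟨d, hd⟩ := WithBot.ne_bot_iff_exists.1 h2
    rw [← hd] at h1 ⊢
    have h3 : d ≠ ⊤ := fun h => h1 (by rw [h]; rfl)
    obtain ⟨m, hm⟩ := ENat.ne_top_iff_exists.1 h3
    exact ⟨m, by rw [← hm]; rfl⟩
  exact isReduced_of_inC n R hR hn _ hC

end Main

end Groth.Agent.Lib.AnUnramNagataH3
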