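import Mathlib
import Groth.Prelude.Def_Found
import Groth.Agent.Lib.AnUnramNagata_helper3

/-!
# Consequences of "Nagata local domains are analytically unramified" (helper3)
APPEND-ONLY once landed.
-/

set_option autoImplicit false
universe u

namespace Groth.Agent.Lib.AnUnramNagata2H3

open IsLocalRing TensorProduct Groth.Agent.Lib.AnUnramNagataH3

theorem exists_nat_dim_le (R : Type u) [CommRing R] [IsLocalRing R] [IsNoetherianRing R] :
    ∃ n : ℕ, ringKrullDim R ≤ n := by
  have hfin : ringKrullDim R < ⊤ := ringKrullDim_lt_top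
  have h1 : ringKrullDim R ≠ ⊤ := hfin.ne
  have h2 : ringKrullDim R ≠ ⊥ := ringKrullDim_ne_bot
  obtain ⟨d, hd⟩ := WithBot.ne_bot_iff_exists.1 h2
  rw [← hd] at h1 ⊢
  have h3 : d ≠ ⊤ := fun h => h1 (by rw [h]; rfl)
  obtain ⟨m, hm⟩ := ENat.ne_top_iff_exists.1 h3
  exact ⟨m, by rw [← hm]; rfl⟩

section Tensor

variable (R : Type u) [CommRing R] [IsLocalRing R]
  (R' : Type u) [CommRing R'] [IsLocalRing R'] [Algebra R R']

/-- `R` Nagata local, `R' ∈ 𝒞(R)`, `S` a domain finite over `R`: then `S ⊗_R R'` is reduced. -/
theorem isReduced_tensor_of_finite_domain (hR : CAlg.IsNagata R) (h : InC R R')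
    (S : Type u) [CommRing S] [IsDomain S] [Algebra R S] [Module.Finite R S] :
    IsReduced (S ⊗[R] R') := by
  haveI := hR.1
  haveI := h.noeth
  haveI := h.flat
  haveI : IsNoetherianRing S := IsNoetherianRing.of_finite R S
  have hSNag : CAlg.IsNagata S := ⟨inferInstance, fun Q _ =>
    FFNagataH3.isN2_of_finite_ringHom_of_isNagata R (S ⧸ Q)
      ((Ideal.Quotient.mk Q).comp (algebraMap R S))
      (RingHom.Finite.comp (RingHom.Finite.of_surjective _ Ideal.Quotient.mk_surjective)
        (RingHom.finite_algebraMap.2 inferInstance)) hR⟩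
  haveI : IsNoetherianRing (R' ⊗[R] S) := IsNoetherianRing.of_finite R' _
  haveI : IsNoetherianRing (S ⊗[R] R') :=
    isNoetherianRing_of_ringEquiv _ (Algebra.TensorProduct.comm R R' S).toRingEquiv
  apply isReduced_of_forall_localization_maximal
  intro N hN
  haveI : N.IsPrime := hN.isPrime
  letI := Localization.AtPrime.algebraOfLiesOver (N.under S) N
  have hNagM : CAlg.IsNagata (Localization.AtPrime (N.under S)) :=
    Groth.Agent.Lib.Japanese.isNagata_of_isLocalization S hSNag (N.under S).primeCompl _
  haveI : IsNoetherianRing (Localization.AtPrime (N.under S)) := hNagM.1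
  obtain ⟨n, hn⟩ := exists_nat_dim_le (Localization.AtPrime (N.under S))
  apply isReduced_of_inC n (Localization.AtPrime (N.under S)) hNagM hn (Localization.AtPrime N)
  refine ⟨inferInstance, inferInstance, inferInstance, ?_⟩
  intro y
  obtain ⟨⟨t, u⟩, hyu⟩ := IsLocalization.surj N.primeCompl y
  obtain ⟨a_t, hat⟩ := exists_sub_mem_map R R' h S t
  obtain ⟨a_u, hau⟩ := exists_sub_mem_map R R' h S (u : S ⊗[R] R')
  have hmN := map_le_of_isMaximal R R' h S N
  have hauM : a_u ∉ N.under S := by
    intro hmem
    have hmem' : algebraMap S (S ⊗[R] R') a_u ∈ N := hmem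
    have h1 := N.add_mem (hmN hau) hmem'
    rw [sub_add_cancel] at h1
    exact u.2 h1
  have hJ : ∀ μ ∈ (maximalIdeal R).map (algebraMap R (S ⊗[R] R')),
      algebraMap (S ⊗[R] R') (Localization.AtPrime N) μ ∈
        (maximalIdeal (Localization.AtPrime (N.under S))).map
          (algebraMap (Localization.AtPrime (N.under S)) (Localization.AtPrime N)) := by
    intro μ hμ
    have hle : (maximalIdeal R).map (algebraMap R (S ⊗[R] R')) ≤
        Ideal.comap (algebraMap (S ⊗[R] R') (Localization.AtPrime N))
          ((maximalIdeal (Localization.AtPrime (N.under S))).map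
            (algebraMap (Localization.AtPrime (N.under S)) (Localization.AtPrime N))) := by
      rw [Ideal.map_le_iff_le_comap]
      intro r hr
      rw [Ideal.mem_comap, Ideal.mem_comap,
        ← IsScalarTower.algebraMap_apply R (S ⊗[R] R') (Localization.AtPrime N),
        IsScalarTower.algebraMap_apply R (Localization.AtPrime (N.under S))
          (Localization.AtPrime N)]
      apply Ideal.mem_map_of_mem
      rw [IsScalarTower.algebraMap_apply R S (Localization.AtPrime (N.under S)),
        IsLocalization.AtPrime.to_map_mem_maximal_iff (Localization.AtPrime (N.under S))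
          (N.under S)]
      show algebraMap S (S ⊗[R] R') (algebraMap R S r) ∈ N
      rw [← IsScalarTower.algebraMap_apply R S (S ⊗[R] R')]
      exact hmN (Ideal.mem_map_of_mem _ hr)
    exact hle hμ
  have hunit : IsUnit (algebraMap (S ⊗[R] R') (Localization.AtPrime N) (u : S ⊗[R] R')) :=
    IsLocalization.map_units _ u
  refine ⟨algebraMap S (Localization.AtPrime (N.under S)) a_t *
    IsLocalization.mk' (Localization.AtPrime (N.under S)) (1 : S) (⟨a_u, hauM⟩ : (N.under S).primeCompl), ?_⟩
  have e3 : algebraMap (Localization.AtPrime (N.under S)) (Localization.AtPrime N)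
      (algebraMap S (Localization.AtPrime (N.under S)) a_t *
        IsLocalization.mk' (Localization.AtPrime (N.under S)) (1 : S) (⟨a_u, hauM⟩ : (N.under S).primeCompl)) *
      algebraMap (S ⊗[R] R') (Localization.AtPrime N) (algebraMap S (S ⊗[R] R') a_u) =
      algebraMap (S ⊗[R] R') (Localization.AtPrime N) (algebraMap S (S ⊗[R] R') a_t) := by
    rw [← IsScalarTower.algebraMap_apply S (S ⊗[R] R') (Localization.AtPrime N),
      ← IsScalarTower.algebraMap_apply S (S ⊗[R] R') (Localization.AtPrime N),
      IsScalarTower.algebraMap_apply S (Localization.AtPrime (N.under S))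
        (Localization.AtPrime N) a_u,
      IsScalarTower.algebraMap_apply S (Localization.AtPrime (N.under S))
        (Localization.AtPrime N) a_t, ← map_mul, mul_assoc]
    congr 1
    have h1 := IsLocalization.mk'_spec (Localization.AtPrime (N.under S)) (1 : S)
      (⟨a_u, hauM⟩ : (N.under S).primeCompl)
    rw [h1, map_one, mul_one]
  have key : (y - algebraMap (Localization.AtPrime (N.under S)) (Localization.AtPrime N)
      (algebraMap S (Localization.AtPrime (N.under S)) a_t *
        IsLocalization.mk' (Localization.AtPrime (N.under S)) (1 : S) (⟨a_u, hauM⟩ : (N.under S).primeCompl))) *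
      algebraMap (S ⊗[R] R') (Localization.AtPrime N) (u : S ⊗[R] R') ∈
      (maximalIdeal (Localization.AtPrime (N.under S))).map
        (algebraMap (Localization.AtPrime (N.under S)) (Localization.AtPrime N)) := by
    have e1 : algebraMap (S ⊗[R] R') (Localization.AtPrime N) t =
        algebraMap (S ⊗[R] R') (Localization.AtPrime N) (algebraMap S (S ⊗[R] R') a_t) +
        algebraMap (S ⊗[R] R') (Localization.AtPrime N) (t - algebraMap S (S ⊗[R] R') a_t) := by
      rw [← map_add]; congr 1; ring
    have e2 : algebraMap (S ⊗[R] R') (Localization.AtPrime N) (u : S ⊗[R] R') =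
        algebraMap (S ⊗[R] R') (Localization.AtPrime N) (algebraMap S (S ⊗[R] R') a_u) +
        algebraMap (S ⊗[R] R') (Localization.AtPrime N)
          ((u : S ⊗[R] R') - algebraMap S (S ⊗[R] R') a_u) := by
      rw [← map_add]; congr 1; ring
    have hyu' : y * algebraMap (S ⊗[R] R') (Localization.AtPrime N) (u : S ⊗[R] R') =
        algebraMap (S ⊗[R] R') (Localization.AtPrime N) t := hyu
    have e5 : algebraMap (Localization.AtPrime (N.under S)) (Localization.AtPrime N)
        (algebraMap S (Localization.AtPrime (N.under S)) a_t *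
          IsLocalization.mk' (Localization.AtPrime (N.under S)) (1 : S)
            (⟨a_u, hauM⟩ : (N.under S).primeCompl)) *
        algebraMap (S ⊗[R] R') (Localization.AtPrime N) (u : S ⊗[R] R') =
        algebraMap (S ⊗[R] R') (Localization.AtPrime N) (algebraMap S (S ⊗[R] R') a_t) +
        algebraMap (Localization.AtPrime (N.under S)) (Localization.AtPrime N)
          (algebraMap S (Localization.AtPrime (N.under S)) a_t *
            IsLocalization.mk' (Localization.AtPrime (N.under S)) (1 : S)
              (⟨a_u, hauM⟩ : (N.under S).primeCompl)) *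
          algebraMap (S ⊗[R] R') (Localization.AtPrime N)
            ((u : S ⊗[R] R') - algebraMap S (S ⊗[R] R') a_u) := by
      rw [e2, mul_add, e3]
    rw [sub_mul, hyu', e5, e1]
    have e4 : ∀ (A B C D : Localization.AtPrime N), A + B - (A + C * D) = B - C * D := by
      intro A B C D; ring
    rw [e4]
    exact Ideal.sub_mem _ (hJ _ hat) (Ideal.mul_mem_left _ _ (hJ _ hau))
  have h5 := Ideal.mul_mem_right (↑hunit.unit⁻¹ : Localization.AtPrime N) _ key
  rw [mul_assoc] at h5
  have h6 : algebraMap (S ⊗[R] R') (Localization.AtPrime N) (u : S ⊗[R] R') *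
      (↑hunit.unit⁻¹ : Localization.AtPrime N) = 1 := IsUnit.mul_val_inv hunit
  rw [h6, mul_one] at h5
  exact h5


end Tensor

end Groth.Agent.Lib.AnUnramNagata2H3
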