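import Mathlib
import Groth.Prelude.Def_CAlgX
import Groth.Agent.Lib.FSAdicCompl_helper3

/-!
# Adic formal smoothness over `R` versus over the completion of `R`
APPEND-ONLY once landed.
-/

set_option autoImplicit false
set_option maxSynthPendingDepth 3

namespace Groth.Agent.Lib.FSAdicComplH3

universe u

section

variable {R : Type u} [CommRing R] (𝔪 : Ideal R)

theorem exists_sub_mem_map_pow (h𝔪 : 𝔪.FG) (N : ℕ) (x : AdicCompletion 𝔪 R) :
    ∃ r : R, x - algebraMap R (AdicCompletion 𝔪 R) r ∈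
      (𝔪 ^ N).map (algebraMap R (AdicCompletion 𝔪 R)) := by
  obtain ⟨r, hr⟩ := Ideal.Quotient.mk_surjective (AdicCompletion.evalₐ 𝔪 N x)
  refine ⟨r, ker_evalₐ_le_map_pow 𝔪 h𝔪 N ?_⟩
  rw [RingHom.mem_ker]
  show AdicCompletion.evalₐ 𝔪 N (x - algebraMap R (AdicCompletion 𝔪 R) r) = 0
  rw [map_sub, sub_eq_zero]
  show _ = AdicCompletion.evalₐ 𝔪 N (AdicCompletion.of 𝔪 R r)
  rw [AdicCompletion.evalₐ_of, hr]

theorem ringHom_eq_of_kill (h𝔪 : 𝔪.FG) {X : Type*} [CommRing X]
    (f g : AdicCompletion 𝔪 R →+* X) (N : ℕ)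
    (hfg : ∀ r : R, f (algebraMap R (AdicCompletion 𝔪 R) r) =
      g (algebraMap R (AdicCompletion 𝔪 R) r))
    (hf : ∀ x ∈ (𝔪 ^ N).map (algebraMap R (AdicCompletion 𝔪 R)), f x = 0)
    (hg : ∀ x ∈ (𝔪 ^ N).map (algebraMap R (AdicCompletion 𝔪 R)), g x = 0) : f = g := by
  ext x
  obtain ⟨r, hr⟩ := exists_sub_mem_map_pow 𝔪 h𝔪 N x
  have h1 := hf _ hr
  have h2 := hg _ hr
  rw [map_sub, sub_eq_zero] at h1 h2
  rw [h1, h2, hfg]

variable {T : Type u} [CommRing T] [Algebra R T] [Algebra (AdicCompletion 𝔪 R) T]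
  [IsScalarTower R (AdicCompletion 𝔪 R) T]

theorem map_map_pow_le (𝔫' : Ideal T) (c : ℕ) (hc : (𝔪 ^ c).map (algebraMap R T) ≤ 𝔫') (k : ℕ) :
    ((𝔪 ^ (c * k)).map (algebraMap R (AdicCompletion 𝔪 R))).map
      (algebraMap (AdicCompletion 𝔪 R) T) ≤ 𝔫' ^ k := by
  rw [Ideal.map_map, ← IsScalarTower.algebraMap_eq, pow_mul, Ideal.map_pow]
  exact Ideal.pow_right_mono hc k

theorem adic_base_completion_iff (h𝔪 : 𝔪.FG) (𝔫' : Ideal T) (c : ℕ)
    (hc : (𝔪 ^ c).map (algebraMap R T) ≤ 𝔫') :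
    CAlgX.IsAdicFormallySmooth R T 𝔫' ↔
      CAlgX.IsAdicFormallySmooth (AdicCompletion 𝔪 R) T 𝔫' := by
  constructor
  · intro h C _ _ J hJ φ ⟨k, hk⟩
    letI : Algebra R C := Algebra.compHom C (algebraMap R (AdicCompletion 𝔪 R))
    haveI : IsScalarTower R (AdicCompletion 𝔪 R) C :=
      IsScalarTower.of_algebraMap_eq (fun _ => rfl)
    obtain ⟨χ, hχ⟩ := h C J hJ (φ.restrictScalars R) ⟨k, hk⟩
    have hχφ : ∀ t, Ideal.Quotient.mk J (χ t) = φ t := fun t => AlgHom.congr_fun hχ t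
    -- `χ` kills `𝔫' ^ (2k)`
    have hχk : ∀ t ∈ 𝔫' ^ (k + k), χ t = 0 := by
      intro t ht
      rw [pow_add] at ht
      refine Submodule.mul_induction_on ht ?_ ?_
      · intro y hy z hz
        have hy' : χ y ∈ J := by
          rw [← Ideal.Quotient.eq_zero_iff_mem, hχφ, hk y hy]
        have hz' : χ z ∈ J := by
          rw [← Ideal.Quotient.eq_zero_iff_mem, hχφ, hk z hz]
        have h1 : χ y * χ z ∈ J ^ 2 := by
          rw [sq]
          exact Ideal.mul_mem_mul hy' hz'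
        rw [hJ, Ideal.mem_bot] at h1
        rw [map_mul, h1]
      · intro y z hy hz
        rw [map_add, hy, hz, add_zero]
    -- the structure map kills `𝔪 ^ (c (k + k)) R̂`
    have hJmem : ∀ x ∈ (𝔪 ^ (c * k)).map (algebraMap R (AdicCompletion 𝔪 R)),
        algebraMap (AdicCompletion 𝔪 R) C x ∈ J := by
      intro x hx
      rw [← Ideal.Quotient.eq_zero_iff_mem]
      have h1 : Ideal.Quotient.mk J (algebraMap (AdicCompletion 𝔪 R) C x) =
          φ (algebraMap (AdicCompletion 𝔪 R) T x) := (φ.commutes x).symm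
      rw [h1]
      exact hk _ (map_map_pow_le 𝔪 𝔫' c hc k (Ideal.mem_map_of_mem _ hx))
    have hstr : ∀ x ∈ (𝔪 ^ (c * (k + k))).map (algebraMap R (AdicCompletion 𝔪 R)),
        algebraMap (AdicCompletion 𝔪 R) C x = 0 := by
      intro x hx
      rw [mul_add, pow_add, Ideal.map_mul] at hx
      refine Submodule.mul_induction_on hx ?_ ?_
      · intro y hy z hz
        have h1 : algebraMap (AdicCompletion 𝔪 R) C y * algebraMap (AdicCompletion 𝔪 R) C z ∈
            J ^ 2 := by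
          rw [sq]
          exact Ideal.mul_mem_mul (hJmem y hy) (hJmem z hz)
        rw [hJ, Ideal.mem_bot] at h1
        rw [map_mul, h1]
      · intro y z hy hz
        rw [map_add, hy, hz, add_zero]
    have hcomm : (χ : T →+* C).comp (algebraMap (AdicCompletion 𝔪 R) T) =
        algebraMap (AdicCompletion 𝔪 R) C := by
      refine ringHom_eq_of_kill 𝔪 h𝔪 _ _ (c * (k + k)) ?_ ?_ hstr
      · intro r
        show χ (algebraMap (AdicCompletion 𝔪 R) T (algebraMap R (AdicCompletion 𝔪 R) r)) = _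
        rw [← IsScalarTower.algebraMap_apply, χ.commutes]
        rfl
      · intro x hx
        show χ (algebraMap (AdicCompletion 𝔪 R) T x) = 0
        exact hχk _ (map_map_pow_le 𝔪 𝔫' c hc (k + k) (Ideal.mem_map_of_mem _ hx))
    refine ⟨{ (χ : T →+* C) with commutes' := fun x => RingHom.congr_fun hcomm x }, ?_⟩
    ext t
    exact hχφ t
  · intro h C _ _ J hJ φ ⟨k, hk⟩
    -- `C` is killed by `𝔪 ^ (c (k + k))`
    have hJmem : ∀ a ∈ 𝔪 ^ (c * k), algebraMap R C a ∈ J := by
      intro a ha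
      rw [← Ideal.Quotient.eq_zero_iff_mem]
      have h1 : Ideal.Quotient.mk J (algebraMap R C a) = φ (algebraMap R T a) :=
        (φ.commutes a).symm
      rw [h1]
      apply hk
      have h2 := map_map_pow_le 𝔪 𝔫' c hc k
        (Ideal.mem_map_of_mem _ (Ideal.mem_map_of_mem _ ha))
      rwa [← IsScalarTower.algebraMap_apply] at h2
    have hkill : ∀ a ∈ 𝔪 ^ (c * (k + k)), algebraMap R C a = 0 := by
      intro a ha
      rw [mul_add, pow_add] at ha
      refine Submodule.mul_induction_on ha ?_ ?_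
      · intro y hy z hz
        have h1 : algebraMap R C y * algebraMap R C z ∈ J ^ 2 := by
          rw [sq]
          exact Ideal.mul_mem_mul (hJmem y hy) (hJmem z hz)
        rw [hJ, Ideal.mem_bot] at h1
        rw [map_mul, h1]
      · intro y z hy hz
        rw [map_add, hy, hz, add_zero]
    let ev : AdicCompletion 𝔪 R →+* R ⧸ 𝔪 ^ (c * (k + k)) :=
      (AdicCompletion.evalₐ 𝔪 (c * (k + k))).toRingHom
    let str : AdicCompletion 𝔪 R →+* C :=
      (Ideal.Quotient.lift (𝔪 ^ (c * (k + k))) (algebraMap R C) hkill).comp ev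
    have hstr_of : ∀ r : R, str (algebraMap R (AdicCompletion 𝔪 R) r) = algebraMap R C r := by
      intro r
      show Ideal.Quotient.lift _ (algebraMap R C) hkill
        (AdicCompletion.evalₐ 𝔪 (c * (k + k)) (AdicCompletion.of 𝔪 R r)) = _
      rw [AdicCompletion.evalₐ_of]
      rfl
    letI : Algebra (AdicCompletion 𝔪 R) C := str.toAlgebra
    haveI : IsScalarTower R (AdicCompletion 𝔪 R) C :=
      IsScalarTower.of_algebraMap_eq (fun r => (hstr_of r).symm)
    have hstr0 : ∀ x ∈ (𝔪 ^ (c * (k + k))).map (algebraMap R (AdicCompletion 𝔪 R)),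
        str x = 0 := by
      intro x hx
      have h1 := map_pow_le_ker_evalₐ 𝔪 (c * (k + k)) hx
      rw [RingHom.mem_ker] at h1
      show Ideal.Quotient.lift _ (algebraMap R C) hkill (ev x) = 0
      have h2 : ev x = 0 := h1
      rw [h2, map_zero]
    have hcomm : (φ : T →+* C ⧸ J).comp (algebraMap (AdicCompletion 𝔪 R) T) =
        algebraMap (AdicCompletion 𝔪 R) (C ⧸ J) := by
      refine ringHom_eq_of_kill 𝔪 h𝔪 _ _ (c * (k + k)) ?_ ?_ ?_
      · intro r
        show φ (algebraMap (AdicCompletion 𝔪 R) T (algebraMap R (AdicCompletion 𝔪 R) r)) =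
          Ideal.Quotient.mk J (str (algebraMap R (AdicCompletion 𝔪 R) r))
        rw [← IsScalarTower.algebraMap_apply, φ.commutes, hstr_of]
        rfl
      · intro x hx
        show φ (algebraMap (AdicCompletion 𝔪 R) T x) = 0
        apply hk
        exact Ideal.pow_le_pow_right (Nat.le_add_right k k)
          (map_map_pow_le 𝔪 𝔫' c hc (k + k) (Ideal.mem_map_of_mem _ hx))
      · intro x hx
        show Ideal.Quotient.mk J (str x) = 0
        rw [hstr0 x hx, map_zero]
    let φ' : T →ₐ[AdicCompletion 𝔪 R] C ⧸ J :=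
      { (φ : T →+* C ⧸ J) with commutes' := fun x => RingHom.congr_fun hcomm x }
    obtain ⟨χ, hχ⟩ := h C J hJ φ' ⟨k, hk⟩
    refine ⟨χ.restrictScalars R, ?_⟩
    ext t
    exact AlgHom.congr_fun hχ t

end

end Groth.Agent.Lib.FSAdicComplH3
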