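import Mathlib
import Groth.Prelude.Def_Found
import Groth.Agent.Lib.AnUnramNagata2_helper3
import Groth.Agent.Lib.Japanese5_helper9

/-!
# The local subring `D + 𝔪_D B` of an integral extension of a local ring, and Nagata local
rings via analytically unramified finite local domains (helper3)
APPEND-ONLY once landed.
-/

set_option autoImplicit false
universe u

namespace Groth.Agent.Lib.LocalSubH3

open IsLocalRing Groth.Agent.Lib.AnUnramNagataH3 Groth.Agent.Lib.AnUnramNagata2H3

section Def

variable (D : Type u) [CommRing D] [IsLocalRing D] (B : Type u) [CommRing B] [Algebra D B]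

/-- The subring `D + 𝔪_D B` of `B`. -/
def localSub : Subalgebra D B where
  carrier := {x | ∃ d : D, x - algebraMap D B d ∈ (maximalIdeal D).map (algebraMap D B)}
  mul_mem' := by
    rintro x y ⟨d, hd⟩ ⟨e, he⟩
    refine ⟨d * e, ?_⟩
    have : x * y - algebraMap D B (d * e) =
        (x - algebraMap D B d) * y + algebraMap D B d * (y - algebraMap D B e) := by
      rw [map_mul]; ring
    rw [this]
    exact Ideal.add_mem _ (Ideal.mul_mem_right _ _ hd) (Ideal.mul_mem_left _ _ he)
  add_mem' := by
    rintro x y ⟨d, hd⟩ ⟨e, he⟩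
    refine ⟨d + e, ?_⟩
    have : x + y - algebraMap D B (d + e) =
        (x - algebraMap D B d) + (y - algebraMap D B e) := by
      rw [map_add]; ring
    rw [this]
    exact Ideal.add_mem _ hd he
  algebraMap_mem' := fun d => ⟨d, by rw [sub_self]; exact Ideal.zero_mem _⟩

theorem mem_localSub_iff (x : B) :
    x ∈ localSub D B ↔ ∃ d : D, x - algebraMap D B d ∈ (maximalIdeal D).map (algebraMap D B) :=
  Iff.rfl

theorem mem_localSub_of_mem_map {x : B} (hx : x ∈ (maximalIdeal D).map (algebraMap D B)) :
    x ∈ localSub D B := ⟨0, by rwa [map_zero, sub_zero]⟩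

theorem map_le_jacobson [Algebra.IsIntegral D B] :
    (maximalIdeal D).map (algebraMap D B) ≤ Ideal.jacobson ⊥ := by
  unfold Ideal.jacobson
  refine le_sInf ?_
  rintro M ⟨-, hM⟩
  haveI := hM
  rw [Ideal.map_le_iff_le_comap]
  have h1 : (M.comap (algebraMap D B)).IsMaximal :=
    Ideal.isMaximal_comap_of_isIntegral_of_isMaximal M
  rw [IsLocalRing.eq_maximalIdeal h1]

theorem exists_inv_one_add [Algebra.IsIntegral D B] {i : B}
    (hi : i ∈ (maximalIdeal D).map (algebraMap D B)) :
    ∃ u ∈ localSub D B, u * (1 + i) = 1 := by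
  have h1 := (Ideal.mem_jacobson_bot.1 (map_le_jacobson D B hi)) 1
  rw [mul_one] at h1
  obtain ⟨u, hu⟩ := h1.exists_left_inv
  refine ⟨u, ⟨1, ?_⟩, by rw [add_comm]; exact hu⟩
  have h2 : u - algebraMap D B 1 = -(u * i) := by
    rw [map_one]
    have : u * i + u = 1 := by rw [← hu]; ring
    rw [← this]; ring
  rw [h2]
  exact Ideal.neg_mem_iff _ |>.2 (Ideal.mul_mem_left _ _ hi)

theorem isLocalRing_localSub [Nontrivial B] [Algebra.IsIntegral D B] :
    IsLocalRing (localSub D B) := by
  apply IsLocalRing.of_isUnit_or_isUnit_one_sub_self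
  rintro ⟨x, d, hd⟩
  by_cases hdm : d ∈ maximalIdeal D
  · right
    have hx : x ∈ (maximalIdeal D).map (algebraMap D B) := by
      have := Ideal.add_mem _ hd (Ideal.mem_map_of_mem (algebraMap D B) hdm)
      rwa [sub_add_cancel] at this
    obtain ⟨u, hu, hu1⟩ := exists_inv_one_add D B (Ideal.neg_mem_iff _ |>.2 hx)
    rw [isUnit_iff_exists_inv']
    refine ⟨⟨u, hu⟩, Subtype.ext ?_⟩
    show u * (1 - x) = 1
    rw [sub_eq_add_neg]; exact hu1
  · left
    have hdu : IsUnit d := by
      by_contra hnu
      exact hdm ((IsLocalRing.mem_maximalIdeal d).2 hnu)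
    obtain ⟨e, he⟩ := hdu.exists_left_inv
    have hi : algebraMap D B e * (x - algebraMap D B d) ∈ (maximalIdeal D).map (algebraMap D B) :=
      Ideal.mul_mem_left _ _ hd
    obtain ⟨u, hu, hu1⟩ := exists_inv_one_add D B hi
    rw [isUnit_iff_exists_inv']
    refine ⟨⟨u * algebraMap D B e, (localSub D B).mul_mem hu ((localSub D B).algebraMap_mem e)⟩,
      Subtype.ext ?_⟩
    show u * algebraMap D B e * x = 1
    have h3 : algebraMap D B e * algebraMap D B d = 1 := by rw [← map_mul, he, map_one]
    have h4 : u * algebraMap D B e * x =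
        u * (algebraMap D B e * algebraMap D B d + algebraMap D B e * (x - algebraMap D B d)) := by
      ring
    rw [h4, h3]; exact hu1

theorem isLocalHom_localSub [Nontrivial B] [Algebra.IsIntegral D B] :
    IsLocalHom (algebraMap D (localSub D B)) := by
  refine ⟨fun d hd => ?_⟩
  by_contra hnu
  have hdm : d ∈ maximalIdeal D := (IsLocalRing.mem_maximalIdeal d).2 hnu
  have h1 : algebraMap D B d ∈ Ideal.jacobson (⊥ : Ideal B) :=
    map_le_jacobson D B (Ideal.mem_map_of_mem _ hdm)
  have h2 : IsUnit (algebraMap D B d) := hd.map (localSub D B).val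
  have h3 : Ideal.jacobson (⊥ : Ideal B) = ⊤ := Ideal.eq_top_of_isUnit_mem _ h1 h2
  rw [Ideal.jacobson_eq_top_iff] at h3
  exact bot_ne_top h3

end Def

section N2

variable (D : Type u) [CommRing D] [IsDomain D] [IsLocalRing D] [IsNoetherianRing D]

/-- A Noetherian local domain all of whose finite local domain extensions are analytically
unramified is N-2. -/
theorem isN2_of_forall_local
    (h : ∀ (S : Type u) [CommRing S] [IsDomain S] [IsLocalRing S] [Algebra D S]
      [IsLocalHom (algebraMap D S)] [Module.Finite D S],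
      IsReduced (AdicCompletion (maximalIdeal S) S)) : CAlg.IsN2 D := by
  by_cases hfield : IsField D
  · exact Groth.Agent.Lib.Japanese.isN2_of_isField D hfield
  intro L _ _ _ _ hfin
  obtain ⟨s, b, hb⟩ := FiniteDimensional.exists_is_basis_integral D (FractionRing D) L
  let B : Subalgebra D L := Algebra.adjoin D (Set.range b)
  haveI hfg : Module.Finite D B := (Module.Finite.iff_fg (N := B.toSubmodule)).mpr
    (fg_adjoin_of_finite (Set.finite_range b) (by rintro _ ⟨i, rfl⟩; exact hb i))
  haveI : IsFractionRing B L :=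
    Groth.Agent.Lib.Japanese.isFractionRing_of_basis_mem D (FractionRing D) L b B
      (fun i => Algebra.subset_adjoin ⟨i, rfl⟩)
  have hinjDL : Function.Injective (algebraMap D L) := by
    rw [IsScalarTower.algebraMap_eq D (FractionRing D) L]
    exact (algebraMap (FractionRing D) L).injective.comp (IsFractionRing.injective D _)
  have hinjDB : Function.Injective (algebraMap D B) := fun x y hxy =>
    hinjDL (congrArg Subtype.val hxy)
  haveI : Algebra.IsIntegral D B := Algebra.IsIntegral.of_finite D B
  obtain ⟨S', hS'⟩ : ∃ S' : Subalgebra D B, S' = localSub D B := ⟨_, rfl⟩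
  haveI : IsLocalRing S' := hS' ▸ isLocalRing_localSub D B
  haveI : IsLocalHom (algebraMap D S') := hS' ▸ isLocalHom_localSub D B
  haveI : Module.Finite D S' :=
    Module.Finite.of_injective S'.val.toLinearMap Subtype.val_injective
  haveI : IsNoetherianRing S' := IsNoetherianRing.of_finite D S'
  haveI hred := h S'
  have hN1 : CAlg.IsN1 S' := AnUnramH3.isN1_of_isReduced_completion S'
  -- fraction field of `S'`
  have hinjBL : Function.Injective (algebraMap B L) := IsFractionRing.injective B L
  haveI : FaithfulSMul S' L := (faithfulSMul_iff_algebraMap_injective S' L).2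
    (hinjBL.comp Subtype.val_injective)
  have hm : maximalIdeal D ≠ ⊥ := fun h0 => hfield (IsLocalRing.isField_iff_maximalIdeal_eq.2 h0)
  obtain ⟨t, htm, ht0⟩ := Submodule.exists_mem_ne_zero_of_ne_bot hm
  have htB : algebraMap D B t ≠ 0 := by
    rw [Ne, map_eq_zero_iff _ hinjDB]; exact ht0
  have htL : algebraMap B L (algebraMap D B t) ≠ 0 := by
    rw [Ne, map_eq_zero_iff _ hinjBL]; exact htB
  haveI : IsFractionRing S' L := by
    apply IsFractionRing.of_field
    intro z
    obtain ⟨b', c', hc', rfl⟩ := IsFractionRing.div_surjective (A := B) z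
    have hmem : ∀ y : B, algebraMap D B t * y ∈ S' := fun y => by
      rw [hS']
      exact mem_localSub_of_mem_map D B (Ideal.mul_mem_right _ _ (Ideal.mem_map_of_mem _ htm))
    refine ⟨⟨_, hmem b'⟩, ⟨_, hmem c'⟩, ?_⟩
    show _ = algebraMap B L (algebraMap D B t * b') / algebraMap B L (algebraMap D B t * c')
    rw [map_mul, map_mul, mul_div_mul_left _ _ htL]
  haveI : IsScalarTower D S' L := IsScalarTower.of_algebraMap_eq (fun _ => rfl)
  haveI hfin' : Module.Finite S' (integralClosure S' L) :=
    (Groth.Agent.Lib.Japanese.isN1_iff S' L).mp hN1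
  haveI : Module.Finite D (integralClosure S' L) := Module.Finite.trans S' _
  haveI : Algebra.IsIntegral D S' := Algebra.IsIntegral.of_finite D S'
  let g : integralClosure S' L →ₗ[D] integralClosure D L :=
    { toFun := fun x => ⟨x.1, isIntegral_trans (A := S') x.1 x.2⟩
      map_add' := fun x y => rfl
      map_smul' := fun c x => rfl }
  have hg : Function.Surjective g := by
    rintro ⟨y, hy⟩
    have hy' : IsIntegral D y := hy
    exact ⟨⟨y, hy'.tower_top⟩, rfl⟩
  exact Module.Finite.of_surjective g hg

end N2

section Nagata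

variable (R : Type u) [CommRing R] [IsLocalRing R] [IsNoetherianRing R]

theorem isNagata_of_finite (hR : CAlg.IsNagata R) (S : Type u) [CommRing S] [Algebra R S]
    [Module.Finite R S] : CAlg.IsNagata S := by
  haveI : IsNoetherianRing S := IsNoetherianRing.of_finite R S
  exact ⟨inferInstance, fun Q _ =>
    FFNagataH3.isN2_of_finite_ringHom_of_isNagata R (S ⧸ Q)
      ((Ideal.Quotient.mk Q).comp (algebraMap R S))
      (RingHom.Finite.comp (RingHom.Finite.of_surjective _ Ideal.Quotient.mk_surjective)
        (RingHom.finite_algebraMap.2 inferInstance)) hR⟩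

/-- A Noetherian local ring is Nagata iff all its finite local domain extensions are analytically
unramified. -/
theorem isNagata_iff_forall_local :
    CAlg.IsNagata R ↔ ∀ (S : Type u) [CommRing S] [IsDomain S] [IsLocalRing S] [Algebra R S]
      [IsLocalHom (algebraMap R S)] [Module.Finite R S],
      IsReduced (AdicCompletion (maximalIdeal S) S) := by
  constructor
  · intro hR S _ _ _ _ _ _
    exact isReduced_adicCompletion S (isNagata_of_finite R hR S)
  · intro h
    refine ⟨inferInstance, fun p _ => ?_⟩
    apply isN2_of_forall_local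
    intro S _ _ _ _ _ _
    letI : Algebra R S := ((algebraMap (R ⧸ p) S).comp (Ideal.Quotient.mk p)).toAlgebra
    haveI : IsScalarTower R (R ⧸ p) S := IsScalarTower.of_algebraMap_eq (fun _ => rfl)
    haveI : Module.Finite R S := Module.Finite.trans (R ⧸ p) S
    haveI : IsLocalHom (Ideal.Quotient.mk p) :=
      IsLocalHom.of_surjective _ Ideal.Quotient.mk_surjective
    haveI : IsLocalHom (algebraMap R S) :=
      RingHom.isLocalHom_comp (algebraMap (R ⧸ p) S) (Ideal.Quotient.mk p)
    exact h S

end Nagata

end Groth.Agent.Lib.LocalSubH3
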