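import Mathlib
import Groth.Prelude.Def_Found
import Groth.Agent.S3866
import Groth.Agent.Lib.FSAdicCompl2_helper3
import Groth.Agent.Lib.CompleteFinite_helper3
import Groth.Agent.Lib.AnUnram_helper3
import Groth.Agent.Lib.LocalSub_helper3

/-!
# The completion of a finite algebra over a Noetherian local ring is the base change of the
completion (helper3)

For a Noetherian local ring `A`, a finite `A`-algebra `C` and an ideal `K` of `C` defining the
`𝔪_A C`-adic topology, `AdicCompletion K C ≃+* C ⊗[A] Â`.
APPEND-ONLY once landed.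
-/

set_option autoImplicit false
universe u

namespace Groth.Agent.Lib.ComplTensorH3

open IsLocalRing TensorProduct

section Abstract

variable {C : Type u} [CommRing C] (K : Ideal C)

theorem factorPow_evalₐ {m n : ℕ} (hle : m ≤ n) (x : AdicCompletion K C) :
    Ideal.Quotient.factorPow K hle (AdicCompletion.evalₐ K n x) = AdicCompletion.evalₐ K m x := by
  obtain ⟨s, rfl⟩ := AdicCompletion.mk_surjective K C x
  rw [AdicCompletion.evalₐ_mk, AdicCompletion.evalₐ_mk]
  show Ideal.Quotient.mk (K ^ m) (s.val n) = Ideal.Quotient.mk (K ^ m) (s.val m)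
  rw [Ideal.Quotient.eq]
  have h := (s.property hle)
  rw [SModEq.sub_mem] at h
  have h2 : (K ^ m • ⊤ : Ideal C) = K ^ m := by simp
  rw [h2] at h
  rw [← Ideal.neg_mem_iff, neg_sub]; exact h

variable (W : Type u) [CommRing W] [Algebra C W]

theorem pow_le_comap (n : ℕ) :
    K ^ n ≤ ((K.map (algebraMap C W)) ^ n).comap (algebraMap C W) := by
  rw [← Ideal.map_pow]; exact Ideal.le_comap_map

/-- the family of maps `Ĉ → C/K^n → W/(KW)^n` -/
noncomputable def fam (n : ℕ) : AdicCompletion K C →+* W ⧸ (K.map (algebraMap C W)) ^ n :=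
  (Ideal.quotientMap _ (algebraMap C W) (pow_le_comap K W n)).comp
    (AdicCompletion.evalₐ K n).toRingHom

theorem fam_compat {m n : ℕ} (hle : m ≤ n) :
    (Ideal.Quotient.factorPow (K.map (algebraMap C W)) hle).comp (fam K W n) = fam K W m := by
  ext x
  obtain ⟨c, hc⟩ := Ideal.Quotient.mk_surjective (AdicCompletion.evalₐ K n x)
  have hm : AdicCompletion.evalₐ K m x = Ideal.Quotient.mk _ c := by
    rw [← factorPow_evalₐ K hle x, ← hc]; rfl
  show Ideal.Quotient.factorPow _ hle (Ideal.quotientMap _ (algebraMap C W) (pow_le_comap K W n)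
    (AdicCompletion.evalₐ K n x)) = Ideal.quotientMap _ (algebraMap C W) (pow_le_comap K W m)
    (AdicCompletion.evalₐ K m x)
  rw [hm, ← hc]; rfl

variable [IsAdicComplete (K.map (algebraMap C W)) W]

noncomputable def psi : AdicCompletion K C →+* W :=
  IsAdicComplete.liftRingHom (K.map (algebraMap C W)) (fam K W) (fam_compat K W)

theorem mk_psi (n : ℕ) (x : AdicCompletion K C) :
    Ideal.Quotient.mk ((K.map (algebraMap C W)) ^ n) (psi K W x) = fam K W n x :=
  IsAdicComplete.mk_liftRingHom _ _ _ n x

theorem psi_of (c : C) : psi K W (AdicCompletion.of K C c) = algebraMap C W c := by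
  have hH : IsHausdorff (K.map (algebraMap C W)) W := inferInstance
  rw [← sub_eq_zero]
  apply hH.haus'
  intro n
  rw [SModEq.zero, smul_eq_mul, Ideal.mul_top, ← Ideal.Quotient.eq_zero_iff_mem, map_sub, mk_psi,
    sub_eq_zero]
  simp only [fam, RingHom.coe_comp, Function.comp_apply]
  have : (AdicCompletion.evalₐ K n).toRingHom (AdicCompletion.of K C c) =
      AdicCompletion.evalₐ K n (AdicCompletion.of K C c) := rfl
  rw [this, AdicCompletion.evalₐ_of]
  rfl

theorem psi_injective
    (hcomap : ∀ n : ℕ, ((K ^ n).map (algebraMap C W)).comap (algebraMap C W) ≤ K ^ n) :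
    Function.Injective (psi K W) := by
  rw [injective_iff_map_eq_zero]
  intro x hx
  apply AdicCompletion.ext_evalₐ
  intro n
  rw [map_zero]
  have h1 : fam K W n x = 0 := by rw [← mk_psi, hx, map_zero]
  simp only [fam, RingHom.coe_comp, Function.comp_apply] at h1
  have : (AdicCompletion.evalₐ K n).toRingHom x = AdicCompletion.evalₐ K n x := rfl
  rw [this] at h1
  obtain ⟨c, hc⟩ := Ideal.Quotient.mk_surjective (AdicCompletion.evalₐ K n x)
  rw [← hc] at h1 ⊢
  rw [Ideal.quotientMap_mk, Ideal.Quotient.eq_zero_iff_mem, ← Ideal.map_pow] at h1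
  rw [Ideal.Quotient.eq_zero_iff_mem]
  exact hcomap n h1

theorem psi_surjective
    (hcomap : ∀ n : ℕ, ((K ^ n).map (algebraMap C W)).comap (algebraMap C W) ≤ K ^ n)
    (hsurj : ∀ (n : ℕ) (w : W), ∃ c : C, w - algebraMap C W c ∈ (K ^ n).map (algebraMap C W)) :
    Function.Surjective (psi K W) := by
  intro w
  choose c hc using fun n => hsurj n w
  have hcauchy : ∀ n, c n ≡ c (n + 1) [SMOD (K ^ n • ⊤ : Submodule C C)] := by
    intro n
    rw [SModEq.sub_mem]
    have h2 : (K ^ n • ⊤ : Ideal C) = K ^ n := by simp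
    rw [h2]
    apply hcomap n
    show algebraMap C W (c n - c (n + 1)) ∈ (K ^ n).map (algebraMap C W)
    have h3 : algebraMap C W (c n - c (n + 1)) =
        (w - algebraMap C W (c (n + 1))) - (w - algebraMap C W (c n)) := by
      rw [map_sub]; ring
    rw [h3]
    refine Ideal.sub_mem _ ?_ (hc n)
    exact Ideal.map_mono (Ideal.pow_le_pow_right (Nat.le_succ n)) (hc (n + 1))
  refine ⟨AdicCompletion.mk K C (AdicCompletion.AdicCauchySequence.mk K C c hcauchy), ?_⟩
  have hH : IsHausdorff (K.map (algebraMap C W)) W := inferInstance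
  rw [← sub_eq_zero]
  apply hH.haus'
  intro n
  rw [SModEq.zero, smul_eq_mul, Ideal.mul_top, ← Ideal.Quotient.eq_zero_iff_mem, map_sub, mk_psi,
    sub_eq_zero]
  simp only [fam, RingHom.coe_comp, Function.comp_apply]
  have : ∀ y, (AdicCompletion.evalₐ K n).toRingHom y = AdicCompletion.evalₐ K n y := fun _ => rfl
  rw [this, AdicCompletion.evalₐ_mk, Ideal.quotientMap_mk, Ideal.Quotient.eq, ← Ideal.neg_mem_iff,
    neg_sub, ← Ideal.map_pow]
  exact hc n

theorem psi_bijective
    (hcomap : ∀ n : ℕ, ((K ^ n).map (algebraMap C W)).comap (algebraMap C W) ≤ K ^ n)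
    (hsurj : ∀ (n : ℕ) (w : W), ∃ c : C, w - algebraMap C W c ∈ (K ^ n).map (algebraMap C W)) :
    Function.Bijective (psi K W) :=
  ⟨psi_injective K W hcomap, psi_surjective K W hcomap hsurj⟩

end Abstract

section Concrete

variable (A : Type u) [CommRing A] [IsLocalRing A] [IsNoetherianRing A]
  (C : Type u) [CommRing C] [Algebra A C] [Module.Finite A C]

/-- `C ⊗ Â` is `𝔪_A`-adically complete. -/
theorem isAdicComplete_tensor :
    IsAdicComplete ((maximalIdeal A).map
      (algebraMap A (C ⊗[A] AdicCompletion (maximalIdeal A) A)))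
      (C ⊗[A] AdicCompletion (maximalIdeal A) A) := by
  obtain ⟨hloc, hnoeth, hcompl, hff, hlh, hmax⟩ := AnUnramH3.completion_facts A
  haveI := hnoeth
  haveI := hcompl
  have h1 : IsAdicComplete (maximalIdeal (AdicCompletion (maximalIdeal A) A))
      (AdicCompletion (maximalIdeal A) A ⊗[A] C) :=
    Groth.Agent.S3866.result (AdicCompletion (maximalIdeal A) A)
      (maximalIdeal (AdicCompletion (maximalIdeal A) A)) (AdicCompletion (maximalIdeal A) A ⊗[A] C)
  have h2 : IsAdicComplete ((maximalIdeal (AdicCompletion (maximalIdeal A) A)).map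
      (algebraMap (AdicCompletion (maximalIdeal A) A) (AdicCompletion (maximalIdeal A) A ⊗[A] C)))
      (AdicCompletion (maximalIdeal A) A ⊗[A] C) :=
    (IsAdicComplete.map_algebraMap_iff
      (I := maximalIdeal (AdicCompletion (maximalIdeal A) A))
      (S := AdicCompletion (maximalIdeal A) A ⊗[A] C)
      (M := AdicCompletion (maximalIdeal A) A ⊗[A] C)).mpr h1
  have h3 : (maximalIdeal (AdicCompletion (maximalIdeal A) A)).map
      (algebraMap (AdicCompletion (maximalIdeal A) A) (AdicCompletion (maximalIdeal A) A ⊗[A] C)) =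
      (maximalIdeal A).map (algebraMap A (AdicCompletion (maximalIdeal A) A ⊗[A] C)) := by
    rw [← hmax, Ideal.map_map, ← IsScalarTower.algebraMap_eq]
  rw [h3] at h2
  have h4 := (IsAdicComplete.congr_ringEquiv
    ((maximalIdeal A).map (algebraMap A (AdicCompletion (maximalIdeal A) A ⊗[A] C)))
    (Algebra.TensorProduct.comm A (AdicCompletion (maximalIdeal A) A) C).toRingEquiv).mpr h2
  have h5 : ((maximalIdeal A).map
      (algebraMap A (AdicCompletion (maximalIdeal A) A ⊗[A] C))).map
      (Algebra.TensorProduct.comm A (AdicCompletion (maximalIdeal A) A) C).toRingEquiv =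
      (maximalIdeal A).map (algebraMap A (C ⊗[A] AdicCompletion (maximalIdeal A) A)) := by
    have : ((Algebra.TensorProduct.comm A (AdicCompletion (maximalIdeal A) A) C).toRingEquiv :
        AdicCompletion (maximalIdeal A) A ⊗[A] C →+* C ⊗[A] AdicCompletion (maximalIdeal A) A).comp
        (algebraMap A (AdicCompletion (maximalIdeal A) A ⊗[A] C)) =
        algebraMap A (C ⊗[A] AdicCompletion (maximalIdeal A) A) := by
      ext a
      exact (Algebra.TensorProduct.comm A (AdicCompletion (maximalIdeal A) A) C).commutes a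
    rw [← this, ← Ideal.map_map]
    rfl
  rw [h5] at h4
  exact h4

theorem exists_sub_mem (n : ℕ) (w : C ⊗[A] AdicCompletion (maximalIdeal A) A) :
    ∃ c : C, w - algebraMap C (C ⊗[A] AdicCompletion (maximalIdeal A) A) c ∈
      ((maximalIdeal A) ^ n).map (algebraMap A (C ⊗[A] AdicCompletion (maximalIdeal A) A)) := by
  induction w using TensorProduct.induction_on with
  | zero => exact ⟨0, by rw [map_zero, sub_zero]; exact Ideal.zero_mem _⟩
  | add x y hx hy =>
    obtain ⟨c, hc⟩ := hx
    obtain ⟨d, hd⟩ := hy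
    refine ⟨c + d, ?_⟩
    have : x + y - algebraMap C (C ⊗[A] AdicCompletion (maximalIdeal A) A) (c + d) =
        (x - algebraMap C _ c) + (y - algebraMap C _ d) := by rw [map_add]; ring
    rw [this]
    exact Ideal.add_mem _ hc hd
  | tmul c z =>
    obtain ⟨a, ha⟩ := FSAdicComplH3.exists_sub_mem_map_pow (maximalIdeal A)
      (IsNoetherian.noetherian _) n z
    refine ⟨a • c, ?_⟩
    have h1 : c ⊗ₜ[A] z - algebraMap C (C ⊗[A] AdicCompletion (maximalIdeal A) A) (a • c) =
        (c ⊗ₜ[A] (1 : AdicCompletion (maximalIdeal A) A)) *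
          (Algebra.TensorProduct.includeRight (R := A) (A := C)
            (z - algebraMap A (AdicCompletion (maximalIdeal A) A) a)) := by
      rw [Algebra.TensorProduct.includeRight_apply, Algebra.TensorProduct.tmul_mul_tmul,
        mul_one, one_mul, TensorProduct.tmul_sub, Algebra.TensorProduct.algebraMap_apply,
        Algebra.algebraMap_eq_smul_one a, TensorProduct.tmul_smul, TensorProduct.smul_tmul']
      rfl
    rw [h1]
    apply Ideal.mul_mem_left
    have h2 : ((maximalIdeal A) ^ n).map (algebraMap A (AdicCompletion (maximalIdeal A) A)) ≤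
        (((maximalIdeal A) ^ n).map
          (algebraMap A (C ⊗[A] AdicCompletion (maximalIdeal A) A))).comap
          (Algebra.TensorProduct.includeRight (R := A) (A := C)
            (B := AdicCompletion (maximalIdeal A) A)).toRingHom := by
      rw [Ideal.map_le_iff_le_comap]
      intro r hr
      rw [Ideal.mem_comap, Ideal.mem_comap]
      have : (Algebra.TensorProduct.includeRight (R := A) (A := C)
            (B := AdicCompletion (maximalIdeal A) A)).toRingHom
            (algebraMap A (AdicCompletion (maximalIdeal A) A) r) =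
          algebraMap A (C ⊗[A] AdicCompletion (maximalIdeal A) A) r :=
        (Algebra.TensorProduct.includeRight (R := A) (A := C)
            (B := AdicCompletion (maximalIdeal A) A)).commutes r
      rw [this]
      exact Ideal.mem_map_of_mem _ hr
    exact h2 ha

/-- The main comparison: for an ideal `K` of `C` defining the `𝔪_A C`-adic topology, the
`K`-adic completion of `C` is `C ⊗[A] Â`. -/
theorem exists_ringEquiv (K : Ideal C) (k : ℕ)
    (h1 : (maximalIdeal A).map (algebraMap A C) ≤ K)
    (h2 : K ^ k ≤ (maximalIdeal A).map (algebraMap A C)) :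
    ∃ e : AdicCompletion K C ≃+* C ⊗[A] AdicCompletion (maximalIdeal A) A,
      ∀ c : C, e (AdicCompletion.of K C c) = algebraMap C _ c := by
  obtain ⟨hloc, hnoeth, hcompl, hff, hlh, hmax⟩ := AnUnramH3.completion_facts A
  haveI := hff
  obtain ⟨W, hW⟩ : ∃ W : Type u, W = (C ⊗[A] AdicCompletion (maximalIdeal A) A) := ⟨_, rfl⟩
  have hm : (maximalIdeal A).map (algebraMap A (C ⊗[A] AdicCompletion (maximalIdeal A) A)) =
      ((maximalIdeal A).map (algebraMap A C)).map
        (algebraMap C (C ⊗[A] AdicCompletion (maximalIdeal A) A)) := by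
    rw [Ideal.map_map, ← IsScalarTower.algebraMap_eq]
  haveI hc0 := isAdicComplete_tensor A C
  haveI hc1 : IsAdicComplete (K.map (algebraMap C (C ⊗[A] AdicCompletion (maximalIdeal A) A)))
      (C ⊗[A] AdicCompletion (maximalIdeal A) A) := by
    refine CompleteFiniteH3.isAdicComplete_of_pow_le
      ((maximalIdeal A).map (algebraMap A (C ⊗[A] AdicCompletion (maximalIdeal A) A))) _ k ?_ ?_
    · rw [hm]; exact Ideal.map_mono h1
    · rw [hm, ← Ideal.map_pow]; exact Ideal.map_mono h2
  have hcomap : ∀ n : ℕ, ((K ^ n).map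
      (algebraMap C (C ⊗[A] AdicCompletion (maximalIdeal A) A))).comap
      (algebraMap C (C ⊗[A] AdicCompletion (maximalIdeal A) A)) ≤ K ^ n := fun n =>
    (Ideal.comap_map_eq_self_of_faithfullyFlat (K ^ n)).le
  have hsurj : ∀ (n : ℕ) (w : C ⊗[A] AdicCompletion (maximalIdeal A) A), ∃ c : C,
      w - algebraMap C _ c ∈ (K ^ n).map
        (algebraMap C (C ⊗[A] AdicCompletion (maximalIdeal A) A)) := by
    intro n w
    obtain ⟨c, hc⟩ := exists_sub_mem A C n w
    refine ⟨c, ?_⟩
    have : ((maximalIdeal A) ^ n).map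
        (algebraMap A (C ⊗[A] AdicCompletion (maximalIdeal A) A)) ≤
        (K ^ n).map (algebraMap C (C ⊗[A] AdicCompletion (maximalIdeal A) A)) := by
      rw [Ideal.map_pow, hm, ← Ideal.map_pow]
      exact Ideal.map_mono (Ideal.pow_right_mono h1 n)
    exact this hc
  exact ⟨RingEquiv.ofBijective (psi K (C ⊗[A] AdicCompletion (maximalIdeal A) A))
    (psi_bijective K _ hcomap hsurj), fun c => psi_of K _ c⟩

/-- The Jacobson radical of a finite algebra over a local ring defines the `𝔪_A`-adic topology. -/
theorem exists_jacobson_pow_le :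
    ∃ k : ℕ, (Ideal.jacobson (⊥ : Ideal C)) ^ k ≤ (maximalIdeal A).map (algebraMap A C) := by
  haveI : IsNoetherianRing C := IsNoetherianRing.of_finite A C
  haveI : Algebra.IsIntegral A C := Algebra.IsIntegral.of_finite A C
  have hrad : Ideal.jacobson (⊥ : Ideal C) ≤ ((maximalIdeal A).map (algebraMap A C)).radical := by
    rw [Ideal.radical_eq_sInf]
    refine le_sInf ?_
    rintro P ⟨hIP, hP⟩
    haveI := hP
    have h1 : maximalIdeal A ≤ P.comap (algebraMap A C) := Ideal.map_le_iff_le_comap.mp hIP
    have h2 : P.comap (algebraMap A C) = maximalIdeal A :=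
      ((maximalIdeal.isMaximal A).eq_of_le (Ideal.comap_ne_top _ hP.ne_top) h1).symm
    have h3 : P.IsMaximal := Ideal.isMaximal_of_isIntegral_of_isMaximal_comap (R := A) P (by
      rw [h2]; exact maximalIdeal.isMaximal A)
    exact sInf_le ⟨bot_le, h3⟩
  obtain ⟨n, hn⟩ := Ideal.exists_radical_pow_le_of_fg
    ((maximalIdeal A).map (algebraMap A C)) (IsNoetherian.noetherian _)
  exact ⟨n, (Ideal.pow_right_mono hrad n).trans hn⟩

/-- The Jacobson-adic completion of a finite algebra `C` over a Noetherian local ring `A` is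
`C ⊗[A] Â`. -/
theorem exists_ringEquiv_jacobson :
    ∃ e : AdicCompletion (Ideal.jacobson (⊥ : Ideal C)) C ≃+*
        C ⊗[A] AdicCompletion (maximalIdeal A) A,
      ∀ c : C, e (AdicCompletion.of _ C c) = algebraMap C _ c := by
  haveI : Algebra.IsIntegral A C := Algebra.IsIntegral.of_finite A C
  obtain ⟨k, hk⟩ := exists_jacobson_pow_le A C
  exact exists_ringEquiv A C _ k (LocalSubH3.map_le_jacobson A C) hk

end Concrete

end Groth.Agent.Lib.ComplTensorH3
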