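import Mathlib
import Groth.Prelude.Def_Found
import Groth.Agent.Lib.ComplTensor_helper3
import Groth.Agent.Lib.AnUnramNagata2_helper3

/-!
# Reducedness of completions of finite algebras over Nagata local rings (helper3)
APPEND-ONLY once landed.
-/

set_option autoImplicit false
universe u

namespace Groth.Agent.Lib.ComplReducedH3

open IsLocalRing TensorProduct

/-- A base change `C ⊗[A] R'` of a reduced Noetherian ring along a flat `A`-algebra is reduced as
soon as `(C ⧸ q) ⊗[A] R'` is reduced for every minimal prime `q` of `C`. -/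
theorem isReduced_tensor_of_minimalPrimes (A : Type u) [CommRing A] (C : Type u) [CommRing C]
    [Algebra A C] [IsNoetherianRing C] [IsReduced C]
    (R' : Type u) [CommRing R'] [Algebra A R'] [Module.Flat A R']
    (h : ∀ q ∈ minimalPrimes C, IsReduced ((C ⧸ q) ⊗[A] R')) : IsReduced (C ⊗[A] R') := by
  classical
  haveI : Finite (minimalPrimes C) := (minimalPrimes.finite_of_isNoetherianRing C).to_subtype
  haveI : Fintype (minimalPrimes C) := Fintype.ofFinite _
  let g : C →ₗ[A] ∀ q : minimalPrimes C, C ⧸ q.1 :=
    LinearMap.pi (fun q => (Ideal.Quotient.mkₐ A q.1).toLinearMap)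
  have hg : Function.Injective g := by
    rw [injective_iff_map_eq_zero]
    intro c hc
    have h1 : c ∈ sInf (minimalPrimes C) := by
      rw [Submodule.mem_sInf]
      intro q hq
      have := congrFun hc ⟨q, hq⟩
      exact Ideal.Quotient.eq_zero_iff_mem.1 this
    rw [minimalPrimes, Ideal.sInf_minimalPrimes] at h1
    have h2 : (⊥ : Ideal C).radical = ⊥ := nilradical_eq_zero C
    rw [h2] at h1
    exact h1
  let L : C ⊗[A] R' →ₗ[A] ∀ q : minimalPrimes C, (C ⧸ q.1) ⊗[A] R' :=
    (TensorProduct.piLeft A R' (fun q : minimalPrimes C => C ⧸ q.1)).toLinearMap ∘ₗ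
      (LinearMap.rTensor R' g)
  have hL : Function.Injective L := by
    show Function.Injective
      ((TensorProduct.piLeft A R' (fun q : minimalPrimes C => C ⧸ q.1)) ∘ (LinearMap.rTensor R' g))
    exact (LinearEquiv.injective _).comp (Module.Flat.rTensor_preserves_injective_linearMap g hg)
  have hLq : ∀ (x : C ⊗[A] R') (q : minimalPrimes C),
      L x q = Algebra.TensorProduct.map (Ideal.Quotient.mkₐ A q.1) (AlgHom.id A R') x := by
    intro x q
    induction x using TensorProduct.induction_on with
    | zero => simp
    | tmul c r => simp [L, g]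
    | add x y hx hy => rw [map_add, Pi.add_apply, hx, hy, map_add]
  constructor
  intro x hx
  apply hL
  rw [map_zero]
  funext q
  rw [hLq]
  haveI := h q.1 q.2
  exact (hx.map _).eq_zero

section Main

variable (A : Type u) [CommRing A] [IsNoetherianRing A] [IsLocalRing A]
  (C : Type u) [CommRing C] [Algebra A C] [Module.Finite A C] [IsReduced C]

/-- `A` Nagata local, `C` a reduced finite `A`-algebra: `C ⊗[A] Â` is reduced. -/
theorem isReduced_tensor_of_isNagata (hA : CAlg.IsNagata A) :
    IsReduced (C ⊗[A] AdicCompletion (maximalIdeal A) A) := by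
  obtain ⟨hloc, hC⟩ := AnUnramNagataH3.inC_completion A
  haveI : IsNoetherianRing C := IsNoetherianRing.of_finite A C
  haveI := hC.flat
  apply isReduced_tensor_of_minimalPrimes
  intro q hq
  haveI : q.IsPrime := hq.1.1
  exact AnUnramNagata2H3.isReduced_tensor_of_finite_domain A _ hA hC (C ⧸ q)

/-- `A` Nagata local, `C` a reduced finite `A`-algebra: the completion of `C` along its Jacobson
radical is reduced. -/
theorem isReduced_adicCompletion_jacobson (hA : CAlg.IsNagata A) :
    IsReduced (AdicCompletion (Ideal.jacobson (⊥ : Ideal C)) C) := by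
  obtain ⟨e, -⟩ := ComplTensorH3.exists_ringEquiv_jacobson A C
  haveI := isReduced_tensor_of_isNagata A C hA
  exact isReduced_of_injective e.toRingHom e.injective

end Main

end Groth.Agent.Lib.ComplReducedH3
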