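import Mathlib
import Groth.Prelude.Def_EGA4b
import Groth.Agent.Lib.NorLocus2_helper3
import Groth.Agent.Lib.NormalLift_helper4
import Groth.Agent.Lib.DimOne3_helper3

/-!
# Ascent of normality along flat maps with normal fibres (EGA IV 6.5.4) (helper3)

* `nzd_of_flat`
* `mem_range_of_isIntegral_away` : `T` Noetherian, `a` a non-zero-divisor, `T_Q` normal for all
  `Q ∈ Ass(T/aT)` ⇒ `T` is integrally closed in `T[1/a]`.
* `isDomain_of_local` : a Noetherian local ring which is a domain on `D(a)` and which contains the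
  idempotents of `T[1/a]` is a domain.
* `normal_of_local`
APPEND-ONLY once landed.
-/

set_option autoImplicit false
universe u

open PrimeSpectrum

namespace Groth.Agent.Lib.NormalFlatH3

open Groth.Agent.Lib.NorLocusH3 Groth.Agent.Lib.NorLocus2H3 Groth.Agent.Lib.NagataCritH3

section Nzd

/-- flatness: a non-zero element of the domain `A_p` is a non-zero-divisor on a flat `A`-algebra
on which the elements outside `p` act invertibly. -/
theorem nzd_of_flat (A : Type*) [CommRing A] (p : Ideal A) [p.IsPrime]
    [IsDomain (Localization.AtPrime p)] (T : Type*) [CommRing T] [Algebra A T] [Module.Flat A T]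
    (hunit : ∀ s : A, s ∉ p → IsUnit (algebraMap A T s)) (a : A)
    (ha : algebraMap A (Localization.AtPrime p) a ≠ 0) :
    algebraMap A T a ∈ nonZeroDivisors T := by
  classical
  rw [mem_nonZeroDivisors_iff_right]
  intro x hx
  obtain ⟨k, α, w, hw1, hw2⟩ := Module.Flat.isTrivialRelation_of_sum_smul_eq_zero
    (R := A) (M := T) (f := ![a]) (x := ![x]) (by
      simp [Algebra.smul_def]
      rw [mul_comm]; exact hx)
  have hα : ∀ j, ∃ s : A, s ∉ p ∧ s * α 0 j = 0 := by
    intro j
    have h1 : a * α 0 j = 0 := by simpa using hw2 j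
    have h2 : algebraMap A (Localization.AtPrime p) (α 0 j) = 0 := by
      have := congrArg (algebraMap A (Localization.AtPrime p)) h1
      rw [map_mul, map_zero] at this
      exact (mul_eq_zero.mp this).resolve_left ha
    obtain ⟨s, hs⟩ := (IsLocalization.map_eq_zero_iff p.primeCompl _ _).mp h2
    exact ⟨s, s.2, hs⟩
  choose s hs1 hs2 using hα
  have hx0 : x = ∑ j, α 0 j • w j := by simpa using hw1 0
  have hsp : (∏ j, s j) ∉ p := by
    rw [Ideal.IsPrime.prod_mem_iff]
    rintro ⟨j, -, hj⟩
    exact hs1 j hj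
  have h3 : algebraMap A T (∏ j, s j) * x = 0 := by
    rw [hx0, Finset.mul_sum]
    apply Finset.sum_eq_zero
    intro j _
    rw [Algebra.smul_def, ← mul_assoc, ← map_mul]
    have : (∏ j, s j) * α 0 j = 0 := by
      rw [← Finset.mul_prod_erase Finset.univ s (Finset.mem_univ j), mul_right_comm, hs2 j,
        zero_mul]
    rw [this, map_zero, zero_mul]
  exact ((hunit _ hsp).mul_right_eq_zero).mp h3

end Nzd

section IC

variable (T : Type u) [CommRing T] [IsNoetherianRing T]

/-- `T` is integrally closed in `T[1/a]` as soon as `T_Q` is normal for `Q ∈ Ass(T/aT)`. -/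
theorem mem_range_of_isIntegral_away (a : T) (ha : a ∈ nonZeroDivisors T)
    (h2 : ∀ Q : Ideal T, ∀ _ : Q.IsPrime, IsColon Q a →
      IsDomain (Localization.AtPrime Q) ∧ IsIntegrallyClosed (Localization.AtPrime Q))
    (t : Localization.Away a) (ht : IsIntegral T t) :
    ∃ c : T, algebraMap T (Localization.Away a) c = t := by
  let S := Localization.Away a
  have hι : Function.Injective (algebraMap T S) :=
    IsLocalization.injective S ((Submonoid.powers_le).mpr ha)
  have hau : IsUnit (algebraMap T S a) := IsLocalization.Away.algebraMap_isUnit a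
  by_contra hcon
  push Not at hcon
  let N : Submodule T S := LinearMap.range (Algebra.linearMap T S)
  let D : Ideal T := N.colon {t}
  have hD : ∀ u, u ∈ D ↔ ∃ r : T, algebraMap T S r = u • t := by
    intro u
    rw [Submodule.mem_colon_singleton]
    simp [N]
  have hDtop : D ≠ ⊤ := by
    intro htop
    have : (1 : T) ∈ D := htop ▸ Submodule.mem_top
    obtain ⟨r, hr⟩ := (hD 1).mp this
    exact hcon r (by rw [hr, one_smul])
  haveI : Nontrivial (T ⧸ D) := Ideal.Quotient.nontrivial_iff.mpr hDtop
  obtain ⟨Q, hQ⟩ := associatedPrimes.nonempty T (T ⧸ D)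
  rw [AssociatedPrimes.mem_iff, isAssociatedPrime_iff] at hQ
  obtain ⟨hQp, sbar, hs⟩ := hQ
  obtain ⟨s, rfl⟩ := Ideal.Quotient.mk_surjective sbar
  have hq : ∀ u, u ∈ Q ↔ ∃ r : T, algebraMap T S r = (u * s) • t := by
    intro u
    rw [hs, Submodule.mem_colon_singleton, Submodule.mem_bot, ← hD]
    rw [show u • (Ideal.Quotient.mk D s) = Ideal.Quotient.mk D (u * s) from rfl,
      Ideal.Quotient.eq_zero_iff_mem]
  -- a power of `a` lies in `D`
  obtain ⟨b, ⟨_, n, rfl⟩, rfl⟩ := IsLocalization.exists_mk'_eq (Submonoid.powers a) t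
  have hspec : IsLocalization.mk' S b (⟨a ^ n, n, rfl⟩ : Submonoid.powers a) *
      algebraMap T S (a ^ n) = algebraMap T S b := IsLocalization.mk'_spec _ _ _
  set t := IsLocalization.mk' S b (⟨a ^ n, n, rfl⟩ : Submonoid.powers a) with htdef
  have hanQ : a ^ n ∈ Q := by
    rw [hq]
    exact ⟨s * b, by rw [Algebra.smul_def, map_mul, map_mul, ← hspec]; ring⟩
  have haQ : a ∈ Q := hQp.mem_of_pow_mem n hanQ
  obtain ⟨r', hr'⟩ := (hq a).mp haQ
  rw [Algebra.smul_def, map_mul] at hr'
  have hcol : IsColon Q a := by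
    refine ⟨r', fun u => ?_⟩
    rw [hq, Ideal.mem_span_singleton']
    constructor
    · rintro ⟨r, hr⟩
      refine ⟨r, ?_⟩
      apply hι
      rw [map_mul, map_mul, hr, hr', Algebra.smul_def, map_mul]
      ring
    · rintro ⟨c, hc⟩
      refine ⟨c, ?_⟩
      have h1 := congrArg (algebraMap T S) hc
      rw [map_mul, map_mul, hr'] at h1
      rw [Algebra.smul_def, map_mul]
      have h2 : algebraMap T S a * algebraMap T S c =
          algebraMap T S a * (algebraMap T S u * algebraMap T S s * t) := by
        linear_combination h1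
      exact hau.mul_left_cancel h2
  obtain ⟨hdom, hic⟩ := h2 Q hQp hcol
  haveI := hQp
  haveI := hdom
  haveI := hic
  let T' := Localization.AtPrime Q
  let L := FractionRing T'
  have hT'L : Function.Injective (algebraMap T' L) := IsFractionRing.injective T' L
  have haT' : algebraMap T T' a ≠ 0 := by
    intro h0
    obtain ⟨u, hu⟩ := (IsLocalization.map_eq_zero_iff Q.primeCompl T' a).mp h0
    have : (u : T) = 0 := mem_nonZeroDivisors_iff_right.mp ha _ hu
    exact u.2 (this ▸ Q.zero_mem)
  have huL : IsUnit ((algebraMap T' L).comp (algebraMap T T') a) := by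
    apply IsUnit.mk0
    exact (map_ne_zero_iff _ hT'L).mpr haT'
  let φ : S →+* L := IsLocalization.Away.lift a huL
  have hφ : ∀ x, φ (algebraMap T S x) = algebraMap T' L (algebraMap T T' x) :=
    fun x => IsLocalization.Away.lift_eq a huL x
  have hst : IsIntegral T (s • t) := ht.smul s
  have hφst : IsIntegral T' (φ (s • t)) := by
    refine hst.map_of_comp_eq (algebraMap T T') φ ?_
    ext x
    exact (hφ x).symm
  obtain ⟨c, hc⟩ := (isIntegrallyClosed_iff L).mp hic hφst
  obtain ⟨c', u, rfl⟩ := IsLocalization.exists_mk'_eq Q.primeCompl c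
  have h3 : algebraMap T T' r' = algebraMap T T' a * IsLocalization.mk' T' c' u := by
    apply hT'L
    rw [← hφ, hr', map_mul (algebraMap T' L), hc, Algebra.smul_def, mul_assoc, map_mul φ, hφ]
  have h4 : algebraMap T T' ((u : T) * r') = algebraMap T T' (a * c') := by
    rw [map_mul, h3, map_mul]
    have := IsLocalization.mk'_spec T' c' u
    linear_combination (algebraMap T T' a) * this
  obtain ⟨v, hv⟩ := (IsLocalization.eq_iff_exists Q.primeCompl T').mp h4
  have h5 : ((v : T) * u) * r' ∈ Ideal.span {a} := by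
    rw [Ideal.mem_span_singleton']
    exact ⟨v * c', by linear_combination -hv⟩
  have h6 : (v : T) * u ∈ Q := by
    obtain ⟨z, hz⟩ := hcol
    -- use the colon description directly
    rw [hq]
    obtain ⟨e, he⟩ := Ideal.mem_span_singleton'.mp h5
    refine ⟨e, ?_⟩
    have h1 := congrArg (algebraMap T S) he
    rw [map_mul, map_mul, hr'] at h1
    rw [Algebra.smul_def, map_mul]
    have h2 : algebraMap T S a * algebraMap T S e =
        algebraMap T S a * (algebraMap T S ((v : T) * u) * algebraMap T S s * t) := by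
      linear_combination h1
    exact hau.mul_left_cancel h2
  rcases hQp.mem_or_mem h6 with h7 | h7
  · exact v.2 h7
  · exact u.2 h7

end IC

section Local

variable (T : Type u) [CommRing T] [IsNoetherianRing T] [IsLocalRing T]

theorem isDomain_of_local (a : T) (ha : a ∈ nonZeroDivisors T)
    (h1 : ∀ Q : Ideal T, ∀ _ : Q.IsPrime, a ∉ Q → IsDomain (Localization.AtPrime Q))
    (h2 : ∀ b : T, ∀ n : ℕ, b * b = a ^ n * b → ∃ c, b = a ^ n * c) : IsDomain T := by
  classical
  have hker : ∀ Q : Ideal T, ∀ hQ : Q.IsPrime, a ∉ Q → ∀ P₁ P₂ : Ideal T,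
      P₁ ∈ minimalPrimes T → P₂ ∈ minimalPrimes T → P₁ ≤ Q → P₂ ≤ Q → P₁ = P₂ := by
    intro Q hQ haQ P₁ P₂ hP₁ hP₂ hle₁ hle₂
    haveI := hQ
    haveI := h1 Q hQ haQ
    let N := RingHom.ker (algebraMap T (Localization.AtPrime Q))
    have hNp : N.IsPrime := RingHom.ker_isPrime _
    have hN : ∀ P : Ideal T, P.IsPrime → P ≤ Q → N ≤ P := by
      intro P hP hle x hx
      rw [RingHom.mem_ker, IsLocalization.map_eq_zero_iff Q.primeCompl] at hx
      obtain ⟨u, hu⟩ := hx
      have : (u : T) * x ∈ P := hu ▸ P.zero_mem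
      exact (hP.mem_or_mem this).resolve_left (fun h => u.2 (hle h))
    have e1 : P₁ = N :=
      le_antisymm (hP₁.2 ⟨hNp, bot_le⟩ (hN P₁ hP₁.1.1 hle₁)) (hN P₁ hP₁.1.1 hle₁)
    have e2 : P₂ = N :=
      le_antisymm (hP₂.2 ⟨hNp, bot_le⟩ (hN P₂ hP₂.1.1 hle₂)) (hN P₂ hP₂.1.1 hle₂)
    exact e1.trans e2.symm
  have hred : ∀ x : T, IsNilpotent x → x = 0 := by
    intro x hx
    let J : Ideal T := (⊥ : Ideal T).colon {x}
    have hJ : ∀ u, u ∈ J ↔ u * x = 0 := fun u => by
      rw [Submodule.mem_colon_singleton, Submodule.mem_bot, smul_eq_mul]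
    have haJ : a ∈ J.radical := by
      rw [Ideal.radical_eq_sInf, Ideal.mem_sInf]
      rintro Q ⟨hJQ, hQ⟩
      by_contra haQ
      haveI := hQ
      haveI := h1 Q hQ haQ
      have h0 : algebraMap T (Localization.AtPrime Q) x = 0 := (hx.map _).eq_zero
      obtain ⟨u, hu⟩ := (IsLocalization.map_eq_zero_iff Q.primeCompl _ x).mp h0
      exact u.2 (hJQ ((hJ u).mpr hu))
    obtain ⟨k, hk⟩ := haJ
    have h3 : x * a ^ k = 0 := by rw [mul_comm]; exact (hJ _).mp hk
    exact mem_nonZeroDivisors_iff_right.mp (pow_mem ha k) x h3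
  have hfin := minimalPrimes.finite_of_isNoetherianRing T
  obtain ⟨P₁, hP₁⟩ : (minimalPrimes T).Nonempty := by
    obtain ⟨p, hp, -⟩ := Ideal.exists_minimalPrimes_le
      (bot_le : (⊥ : Ideal T) ≤ IsLocalRing.maximalIdeal T)
    exact ⟨p, hp⟩
  let S := hfin.toFinset.erase P₁
  let I₂ : Ideal T := S.inf id
  have hinter : P₁ ⊓ I₂ = ⊥ := by
    rw [eq_bot_iff]
    rintro x ⟨hx1, hx2⟩
    rw [Ideal.mem_bot]
    apply hred
    rw [← mem_nilradical, nilradical_eq_sInf, Ideal.mem_sInf]
    intro P hP
    haveI : P.IsPrime := hP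
    obtain ⟨P₀, hP₀, hle⟩ := Ideal.exists_minimalPrimes_le (bot_le : (⊥ : Ideal T) ≤ P)
    apply hle
    by_cases h : P₀ = P₁
    · rw [h]; exact hx1
    · have hP₀S : P₀ ∈ S := by
        simp only [S, Finset.mem_erase, Set.Finite.mem_toFinset]
        exact ⟨h, hP₀⟩
      exact (Finset.inf_le hP₀S : I₂ ≤ id P₀) hx2
  by_cases hS : S = ∅
  · have hbot : P₁ = ⊥ := by
      have : I₂ = ⊤ := by simp [I₂, hS]
      rw [this, inf_top_eq] at hinter
      exact hinter
    haveI : (⊥ : Ideal T).IsPrime := hbot ▸ hP₁.1.1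
    exact IsDomain.of_bot_isPrime T
  · exfalso
    have harad : a ∈ (P₁ ⊔ I₂).radical := by
      rw [Ideal.radical_eq_sInf, Ideal.mem_sInf]
      rintro Q ⟨hle, hQ⟩
      by_contra haQ
      have h1le : P₁ ≤ Q := le_sup_left.trans hle
      have h2le : I₂ ≤ Q := le_sup_right.trans hle
      obtain ⟨P₂, hP₂S, hP₂le⟩ := (Ideal.IsPrime.inf_le' hQ).mp h2le
      have hP₂ : P₂ ≠ P₁ ∧ P₂ ∈ minimalPrimes T := by
        simpa [S] using hP₂S
      exact hP₂.1 (hker Q hQ haQ P₂ P₁ hP₂.2 hP₁ hP₂le h1le)
    obtain ⟨k, hk⟩ := harad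
    obtain ⟨x, hx, y, hy, hxy⟩ := Submodule.mem_sup.mp hk
    have hxy0 : x * y = 0 := by
      have : x * y ∈ P₁ ⊓ I₂ := ⟨Ideal.mul_mem_right _ _ hx, Ideal.mul_mem_left _ _ hy⟩
      rw [hinter] at this
      exact this
    obtain ⟨x', hx'⟩ := h2 x k (by rw [← hxy, add_mul, mul_comm y x, hxy0, add_zero])
    obtain ⟨y', hy'⟩ := h2 y k (by rw [← hxy, add_mul, hxy0, zero_add])
    have hone : x' + y' = 1 := by
      have : a ^ k * (x' + y') = a ^ k * 1 := by rw [mul_add, ← hx', ← hy', hxy, mul_one]
      exact (mul_cancel_left_mem_nonZeroDivisors (pow_mem ha k)).mp this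
    have haP : ∀ P ∈ minimalPrimes T, a ^ k ∉ P := fun P hP hmem =>
      Set.disjoint_left.mp (Ideal.disjoint_nonZeroDivisors_of_mem_minimalPrimes hP) hmem
        (pow_mem ha k)
    have hx'm : x' ∈ IsLocalRing.maximalIdeal T := by
      have h3 : a ^ k * x' ∈ P₁ := hx' ▸ hx
      have h4 := (hP₁.1.1.mem_or_mem h3).resolve_left (haP P₁ hP₁)
      exact IsLocalRing.le_maximalIdeal hP₁.1.1.ne_top h4
    have hy'm : y' ∈ IsLocalRing.maximalIdeal T := by
      obtain ⟨P₂, hP₂S⟩ := Finset.nonempty_iff_ne_empty.mpr hS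
      have hP₂ : P₂ ≠ P₁ ∧ P₂ ∈ minimalPrimes T := by
        simpa [S] using hP₂S
      have hy2 : y ∈ P₂ := (Finset.inf_le hP₂S : I₂ ≤ id P₂) hy
      have h3 : a ^ k * y' ∈ P₂ := hy' ▸ hy2
      have h4 := (hP₂.2.1.1.mem_or_mem h3).resolve_left (haP P₂ hP₂.2)
      exact IsLocalRing.le_maximalIdeal hP₂.2.1.1.ne_top h4
    have h1m : (1 : T) ∈ IsLocalRing.maximalIdeal T := hone ▸ Ideal.add_mem _ hx'm hy'm
    exact (Ideal.ne_top_iff_one _).mp (IsLocalRing.maximalIdeal.isMaximal T).ne_top h1m

/-- Main local lemma. -/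
theorem normal_of_local (a : T) (ha : a ∈ nonZeroDivisors T)
    (H1 : ∀ Q : PrimeSpectrum T, a ∉ Q.asIdeal → Q ∈ EGA4.norLocus T)
    (H2 : ∀ Q : PrimeSpectrum T, IsColon Q.asIdeal a → Q ∈ EGA4.norLocus T) :
    IsDomain T ∧ IsIntegrallyClosed T := by
  let S := Localization.Away a
  have hι : Function.Injective (algebraMap T S) :=
    IsLocalization.injective S ((Submonoid.powers_le).mpr ha)
  have hIC := mem_range_of_isIntegral_away T a ha (fun Q hQ hcol => H2 ⟨Q, hQ⟩ hcol)
  have hdom : IsDomain T := by
    refine isDomain_of_local T a ha (fun Q hQ haQ => (H1 ⟨Q, hQ⟩ haQ).1) ?_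
    intro b n hb
    let t : S := IsLocalization.mk' S b (⟨a ^ n, n, rfl⟩ : Submonoid.powers a)
    have hspec : t * algebraMap T S (a ^ n) = algebraMap T S b := IsLocalization.mk'_spec _ _ _
    have hun : IsUnit (algebraMap T S (a ^ n)) := by
      rw [map_pow]; exact (IsLocalization.Away.algebraMap_isUnit a).pow n
    have htt : t * t = t := by
      apply hun.mul_right_cancel
      apply hun.mul_right_cancel
      have h1 := congrArg (algebraMap T S) hb
      rw [map_mul, map_mul, ← hspec] at h1
      linear_combination h1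
    have hint : IsIntegral T t := by
      refine ⟨Polynomial.X ^ 2 - Polynomial.X, Polynomial.monic_X_pow_sub (by
        rw [Polynomial.degree_X]; norm_num), ?_⟩
      rw [Polynomial.eval₂_sub, Polynomial.eval₂_pow, Polynomial.eval₂_X, pow_two, htt, sub_self]
    obtain ⟨c, hc⟩ := hIC t hint
    refine ⟨c, ?_⟩
    apply hι
    rw [← hspec, ← hc, map_mul]
    ring
  haveI := hdom
  refine ⟨hdom, ?_⟩
  have ha0 : a ≠ 0 := nonZeroDivisors.ne_zero ha
  haveI : IsDomain S :=
    IsLocalization.isDomain_localization (powers_le_nonZeroDivisors_of_noZeroDivisors ha0)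
  haveI hSic : IsIntegrallyClosed S := isIntegrallyClosed_away T a ha0 (fun Q hQ => H1 Q hQ)
  let K := FractionRing T
  have hau : IsUnit (algebraMap T K a) := by
    apply IsUnit.mk0
    exact (map_ne_zero_iff _ (IsFractionRing.injective T K)).mpr ha0
  letI : Algebra S K := (IsLocalization.Away.lift a hau).toAlgebra
  haveI : IsScalarTower T S K := IsScalarTower.of_algebraMap_eq (fun r => by
    change algebraMap T K r = (IsLocalization.Away.lift a hau) (algebraMap T S r)
    rw [IsLocalization.Away.lift_eq])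
  haveI : IsFractionRing S K :=
    IsFractionRing.isFractionRing_of_isDomain_of_isLocalization (Submonoid.powers a) S K
  rw [isIntegrallyClosed_iff K]
  intro t ht
  obtain ⟨s, hs⟩ := (isIntegrallyClosed_iff K).mp hSic (ht.tower_top (A := S))
  have hsint : IsIntegral T s := by
    rw [← isIntegral_algebraMap_iff (IsFractionRing.injective S K), hs]
    exact ht
  obtain ⟨c, hc⟩ := hIC s hsint
  exact ⟨c, by rw [IsScalarTower.algebraMap_apply T S K, hc, hs]⟩

end Local

end Groth.Agent.Lib.NormalFlatH3

namespace Groth.Agent.Lib.NormalFlatH3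

open Groth.Agent.Lib.NorLocusH3 Groth.Agent.Lib.NorLocus2H3 Groth.Agent.Lib.NagataCritH3

section DVR

/-- A Noetherian ring `A`, a prime `p = ((a) : z)` at which `A` is a normal domain and `a ≠ 0`:
the maximal ideal of `A_p` is generated by one element of `p`. -/
theorem exists_generator_of_isColon (A : Type u) [CommRing A] [IsNoetherianRing A]
    (p : Ideal A) [hp : p.IsPrime] [IsDomain (Localization.AtPrime p)]
    [IsIntegrallyClosed (Localization.AtPrime p)] (a : A)
    (ha : algebraMap A (Localization.AtPrime p) a ≠ 0) (h : IsColon p a) :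
    ∃ π ∈ p, IsLocalRing.maximalIdeal (Localization.AtPrime p) =
      Ideal.span {algebraMap A (Localization.AtPrime p) π} := by
  let S := Localization.AtPrime p
  obtain ⟨z, hz⟩ := h
  have key : ∀ r : S, r ∈ IsLocalRing.maximalIdeal S ↔
      r * algebraMap A S z ∈ Ideal.span {algebraMap A S a} := by
    intro r
    obtain ⟨r', s, rfl⟩ := IsLocalization.exists_mk'_eq p.primeCompl r
    rw [IsLocalization.AtPrime.mk'_mem_maximal_iff S p r' s, hz, Ideal.mem_span_singleton',
      Ideal.mem_span_singleton']
    constructor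
    · rintro ⟨w, hw⟩
      refine ⟨IsLocalization.mk' S w s, ?_⟩
      rw [mul_comm, IsLocalization.mul_mk'_eq_mk'_of_mul, mul_comm (IsLocalization.mk' S r' s),
        IsLocalization.mul_mk'_eq_mk'_of_mul, mul_comm a w, hw, mul_comm]
    · rintro ⟨c, hc⟩
      obtain ⟨w, s', rfl⟩ := IsLocalization.exists_mk'_eq p.primeCompl c
      rw [mul_comm, IsLocalization.mul_mk'_eq_mk'_of_mul, mul_comm (IsLocalization.mk' S r' s),
        IsLocalization.mul_mk'_eq_mk'_of_mul, IsLocalization.mk'_eq_iff_eq] at hc
      obtain ⟨v, hv⟩ := (IsLocalization.eq_iff_exists p.primeCompl S).mp hc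
      -- `v * (s * (a * w)) = v * (s' * (z * r'))`
      have h1 : (((v : A) * s') * r') * z ∈ Ideal.span {a} := by
        rw [Ideal.mem_span_singleton']
        exact ⟨(v : A) * s * w, by linear_combination hv⟩
      have h2 : ((v : A) * s') * r' ∈ p := (hz _).mpr h1
      rcases hp.mem_or_mem h2 with h3 | h3
      · rcases hp.mem_or_mem h3 with h4 | h4
        · exact absurd h4 v.2
        · exact absurd h4 s'.2
      · obtain ⟨w', hw'⟩ := Ideal.mem_span_singleton'.mp ((hz r').mp h3)
        exact ⟨w', hw'⟩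
  have hht : (IsLocalRing.maximalIdeal S).height = 1 :=
    Groth.Agent.SerreLib.height_eq_one_of_colon S (algebraMap A S a) ha (algebraMap A S z)
      (IsLocalRing.maximalIdeal S) key
  have hdim : ringKrullDim S = 1 := by
    rw [← IsLocalRing.maximalIdeal_height_eq_ringKrullDim, hht]
    rfl
  have hsurj : ∀ x : FractionRing S, IsIntegral S x →
      ∃ a, algebraMap S (FractionRing S) a = x :=
    fun x hx => IsIntegrallyClosed.isIntegral_iff.1 hx
  haveI : IsDiscreteValuationRing S :=
    Groth.Agent.Lib.DimOne3_helper3.isDVR_of_integral_surj hdim hsurj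
  obtain ⟨ϖ, hϖ⟩ := IsDiscreteValuationRing.exists_irreducible S
  obtain ⟨π, s, rfl⟩ := IsLocalization.exists_mk'_eq p.primeCompl ϖ
  have hspec : IsLocalization.mk' S π s * algebraMap A S s = algebraMap A S π :=
    IsLocalization.mk'_spec _ _ _
  have hsu : IsUnit (algebraMap A S (s : A)) := IsLocalization.map_units S s
  have hspan : Ideal.span {IsLocalization.mk' S π s} = Ideal.span {algebraMap A S π} := by
    rw [Ideal.span_singleton_eq_span_singleton]
    exact ⟨hsu.unit, hspec⟩
  refine ⟨π, ?_, ?_⟩
  · have : algebraMap A S π ∈ IsLocalRing.maximalIdeal S := by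
      rw [hϖ.maximalIdeal_eq, hspan]
      exact Ideal.mem_span_singleton_self _
    exact (IsLocalization.AtPrime.to_map_mem_maximal_iff S p π).mp this
  · rw [hϖ.maximalIdeal_eq, hspan]

/-- the "DVR or field" case -/
theorem mem_norLocus_of_principal (A B : Type u) [CommRing A] [CommRing B] [IsNoetherianRing A]
    [IsNoetherianRing B] [Algebra A B] [Module.Flat A B] (q : Ideal B) [hq : q.IsPrime]
    (p : Ideal A) [hp : p.IsPrime] (hpq : p = q.under A)
    [IsDomain (Localization.AtPrime p)] (π : A) (hπp : π ∈ p)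
    (hπ : IsLocalRing.maximalIdeal (Localization.AtPrime p) =
      Ideal.span {algebraMap A (Localization.AtPrime p) π})
    (hfib : IsDomain (EGA4.FibLocRing A B q) ∧ IsIntegrallyClosed (EGA4.FibLocRing A B q)) :
    IsDomain (Localization.AtPrime q) ∧ IsIntegrallyClosed (Localization.AtPrime q) := by
  subst hpq
  let T := Localization.AtPrime q
  let S := Localization.AtPrime (q.under A)
  haveI : IsNoetherianRing T := IsLocalization.isNoetherianRing q.primeCompl T inferInstance
  haveI : Module.Flat B T := IsLocalization.flat T q.primeCompl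
  haveI : Module.Flat A T := Module.Flat.trans A B T
  have hunit : ∀ s : A, s ∉ q.under A → IsUnit (algebraMap A T s) := by
    intro s hs
    rw [IsScalarTower.algebraMap_apply A B T]
    exact IsLocalization.map_units T (⟨algebraMap A B s, hs⟩ : q.primeCompl)
  let πT : T := algebraMap A T π
  have hI : (q.comap (algebraMap A B)).map (algebraMap A T) = Ideal.span {πT} := by
    apply le_antisymm
    · rw [Ideal.map_le_iff_le_comap]
      intro x hx
      rw [Ideal.mem_comap]
      have hxm : algebraMap A S x ∈ IsLocalRing.maximalIdeal S :=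
        (IsLocalization.AtPrime.to_map_mem_maximal_iff S (q.under A) x).mpr hx
      rw [hπ, Ideal.mem_span_singleton'] at hxm
      obtain ⟨y, hy⟩ := hxm
      obtain ⟨y', s, rfl⟩ := IsLocalization.exists_mk'_eq (q.under A).primeCompl y
      have h1 : algebraMap A S ((s : A) * x) = algebraMap A S (y' * π) := by
        rw [map_mul, ← hy, map_mul]
        have := IsLocalization.mk'_spec S y' s
        linear_combination (algebraMap A S π) * this
      obtain ⟨c, hc⟩ := (IsLocalization.eq_iff_exists (q.under A).primeCompl S).mp h1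
      have hcs : ((c : A) * s) ∉ q.under A := fun h =>
        ((inferInstance : (q.under A).IsPrime).mem_or_mem h).elim c.2 s.2
      have hu := hunit _ hcs
      have h2 : algebraMap A T ((c : A) * s) * algebraMap A T x =
          algebraMap A T ((c : A) * y') * πT := by
        rw [← map_mul, ← map_mul]
        congr 1
        linear_combination hc
      rw [Ideal.mem_span_singleton']
      refine ⟨(hu.unit⁻¹ : Tˣ) * algebraMap A T ((c : A) * y'), ?_⟩
      rw [mul_assoc, ← h2, ← mul_assoc, IsUnit.val_inv_mul, one_mul]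
    · rw [Ideal.span_le, Set.singleton_subset_iff]
      exact Ideal.mem_map_of_mem _ hπp
  by_cases h0 : πT = 0
  · have hbot : (q.comap (algebraMap A B)).map (algebraMap A T) = ⊥ := by
      rw [hI, h0, Ideal.span_singleton_eq_bot]
    let e : EGA4.FibLocRing A B q ≃+* T :=
      (Ideal.quotEquivOfEq hbot).trans (RingEquiv.quotientBot T)
    exact normal_of_ringEquiv e hfib
  · have hπS : algebraMap A S π ≠ 0 := by
      intro h1
      obtain ⟨s, hs⟩ := (IsLocalization.map_eq_zero_iff (q.under A).primeCompl S π).mp h1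
      apply h0
      have h2 : algebraMap A T (s : A) * πT = 0 := by
        rw [← map_mul, hs, map_zero]
      exact ((hunit _ s.2).mul_right_eq_zero).mp h2
    have hnzd : πT ∈ nonZeroDivisors T := nzd_of_flat A (q.under A) T hunit π hπS
    have hπm : πT ∈ IsLocalRing.maximalIdeal T := by
      change algebraMap A T π ∈ _
      rw [IsScalarTower.algebraMap_apply A B T,
        IsLocalization.AtPrime.to_map_mem_maximal_iff T q]
      exact hπp
    let e : EGA4.FibLocRing A B q ≃+* T ⧸ Ideal.span {πT} := Ideal.quotEquivOfEq hI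
    obtain ⟨hd, hic⟩ := normal_of_ringEquiv e hfib
    haveI := hd
    haveI := hic
    exact Groth.Agent.Lib.NormalLiftH4.isDomain_and_isIntegrallyClosed_of_quotient T πT hπm hnzd

end DVR

end Groth.Agent.Lib.NormalFlatH3

namespace Groth.Agent.Lib.NormalFlatH3

open Groth.Agent.Lib.NorLocusH3 Groth.Agent.Lib.NorLocus2H3 Groth.Agent.Lib.NagataCritH3

section Main

variable (A B : Type u) [CommRing A] [CommRing B] [IsNoetherianRing A] [IsNoetherianRing B]
  [Algebra A B] [Module.Flat A B]

theorem mem_norLocus_of_flat_aux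
    (hfib : ∀ (q : Ideal B) [q.IsPrime], IsDomain (EGA4.FibLocRing A B q) ∧
      IsIntegrallyClosed (EGA4.FibLocRing A B q)) :
    ∀ n : ℕ, ∀ q : PrimeSpectrum B, q.asIdeal.height ≤ n →
      PrimeSpectrum.comap (algebraMap A B) q ∈ EGA4.norLocus A → q ∈ EGA4.norLocus B := by
  intro n
  induction n using Nat.strong_induction_on with
  | _ n ih =>
  intro q hqn hpN
  let T := Localization.AtPrime q.asIdeal
  let p : Ideal A := q.asIdeal.under A
  haveI hpprime : p.IsPrime := inferInstance
  haveI hdomA : IsDomain (Localization.AtPrime p) := hpN.1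
  haveI hicA : IsIntegrallyClosed (Localization.AtPrime p) := hpN.2
  haveI : IsNoetherianRing T := IsLocalization.isNoetherianRing q.asIdeal.primeCompl T inferInstance
  haveI : Module.Flat B T := IsLocalization.flat T q.asIdeal.primeCompl
  haveI : Module.Flat A T := Module.Flat.trans A B T
  have hunit : ∀ s : A, s ∉ p → IsUnit (algebraMap A T s) := by
    intro s hs
    rw [IsScalarTower.algebraMap_apply A B T]
    exact IsLocalization.map_units T (⟨algebraMap A B s, hs⟩ : q.asIdeal.primeCompl)
  by_cases hcase : ∀ x ∈ p, algebraMap A (Localization.AtPrime p) x = 0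
  · -- the base is a field
    have hm : IsLocalRing.maximalIdeal (Localization.AtPrime p) =
        Ideal.span {algebraMap A (Localization.AtPrime p) 0} := by
      rw [map_zero, Ideal.span_singleton_eq_bot.mpr rfl, eq_bot_iff,
        ← Localization.AtPrime.map_eq_maximalIdeal, Ideal.map_le_iff_le_comap]
      intro x hx
      rw [Ideal.mem_comap, Ideal.mem_bot]
      exact hcase x hx
    exact mem_norLocus_of_principal A B q.asIdeal p rfl 0 p.zero_mem hm (hfib q.asIdeal)
  · push Not at hcase
    obtain ⟨a, hap, ha⟩ := hcase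
    let α : T := algebraMap A T a
    have hα : α ∈ nonZeroDivisors T := nzd_of_flat A p T hunit a ha
    -- generizations of `p` are normal points of `A`
    have hgen : ∀ p' : PrimeSpectrum A, p'.asIdeal ≤ p → p' ∈ EGA4.norLocus A := by
      intro p' hle
      exact stableUnderGeneralization_norLocus A
        ((PrimeSpectrum.le_iff_specializes p' (PrimeSpectrum.comap (algebraMap A B) q)).mp hle) hpN
    have hQle : ∀ Q : PrimeSpectrum T, Q.asIdeal.under B ≤ q.asIdeal := by
      intro Q
      have h1 : Q.asIdeal ≤ IsLocalRing.maximalIdeal T := IsLocalRing.le_maximalIdeal Q.2.ne_top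
      have h2 : (IsLocalRing.maximalIdeal T).under B = q.asIdeal :=
        IsLocalization.AtPrime.under_maximalIdeal T q.asIdeal
      exact (Ideal.comap_mono h1 : Q.asIdeal.under B ≤ (IsLocalRing.maximalIdeal T).under B).trans
        (le_of_eq h2)
    have hQleA : ∀ Q : PrimeSpectrum T, Q.asIdeal.under A ≤ p := by
      intro Q x hx
      by_contra hxp
      exact Q.2.ne_top (Ideal.eq_top_of_isUnit_mem _ hx (hunit x hxp))
    have hnor : ∀ Q : PrimeSpectrum T,
        PrimeSpectrum.comap (algebraMap B T) Q ∈ EGA4.norLocus B ↔ Q ∈ EGA4.norLocus T :=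
      mem_norLocus_under_iff B q.asIdeal.primeCompl T
    have key : IsDomain T ∧ IsIntegrallyClosed T := by
      apply normal_of_local T α hα
      · -- H1
        intro Q hαQ
        rw [← hnor]
        let q' : PrimeSpectrum B := PrimeSpectrum.comap (algebraMap B T) Q
        have hle : q'.asIdeal ≤ q.asIdeal := hQle Q
        have hne : q'.asIdeal ≠ q.asIdeal := by
          intro heq
          apply hαQ
          have : algebraMap A B a ∈ q'.asIdeal := heq ▸ hap
          change algebraMap A T a ∈ Q.asIdeal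
          rw [IsScalarTower.algebraMap_apply A B T]
          exact this
        have hlt : q'.asIdeal < q.asIdeal := lt_of_le_of_ne hle hne
        have hht : q'.asIdeal.height < q.asIdeal.height :=
          Ideal.height_strict_mono_of_isPrime hlt
        have hfinite : q'.asIdeal.height ≠ ⊤ := (lt_of_lt_of_le hht le_top).ne
        obtain ⟨m, hm⟩ := ENat.ne_top_iff_exists.mp hfinite
        have hmn : m < n := by
          have : (m : ℕ∞) < (n : ℕ∞) := hm ▸ lt_of_lt_of_le hht hqn
          exact_mod_cast this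
        apply ih m hmn q' (le_of_eq hm.symm)
        apply hgen
        exact Ideal.comap_mono hle
      · -- H2
        intro Q hcol
        rw [← hnor]
        let q' : PrimeSpectrum B := PrimeSpectrum.comap (algebraMap B T) Q
        let p' : Ideal A := Q.asIdeal.under A
        haveI hp'prime : p'.IsPrime := inferInstance
        have hp'eq : p' = q'.asIdeal.under A := (Ideal.under_under (A := A) (B := B) Q.asIdeal).symm
        have hp'N : (⟨p', hp'prime⟩ : PrimeSpectrum A) ∈ EGA4.norLocus A :=
          hgen ⟨p', hp'prime⟩ (hQleA Q)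
        haveI : IsDomain (Localization.AtPrime p') := hp'N.1
        haveI : IsIntegrallyClosed (Localization.AtPrime p') := hp'N.2
        have hcolA : IsColon p' a := isColon_under_of_flat A T a Q.asIdeal hcol
        have ha' : algebraMap A (Localization.AtPrime p') a ≠ 0 := by
          intro h0
          obtain ⟨s, hs⟩ := (IsLocalization.map_eq_zero_iff p'.primeCompl _ a).mp h0
          have h1 : algebraMap A T (s : A) * α = 0 := by
            change algebraMap A T (s : A) * algebraMap A T a = 0
            rw [← map_mul, hs, map_zero]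
          have h2 : algebraMap A T (s : A) = 0 := mem_nonZeroDivisors_iff_right.mp hα _ h1
          apply s.2
          change algebraMap A T (s : A) ∈ Q.asIdeal
          rw [h2]
          exact Q.asIdeal.zero_mem
        obtain ⟨π, hπp, hπ⟩ := exists_generator_of_isColon A p' a ha' hcolA
        exact mem_norLocus_of_principal A B q'.asIdeal p' hp'eq π hπp hπ (hfib q'.asIdeal)
    exact key

theorem mem_norLocus_of_flat
    (hfib : ∀ (q : Ideal B) [q.IsPrime], IsDomain (EGA4.FibLocRing A B q) ∧
      IsIntegrallyClosed (EGA4.FibLocRing A B q))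
    (q : PrimeSpectrum B) (h : PrimeSpectrum.comap (algebraMap A B) q ∈ EGA4.norLocus A) :
    q ∈ EGA4.norLocus B := by
  have hfinite : q.asIdeal.height ≠ ⊤ := Ideal.height_ne_top q.2.ne_top
  obtain ⟨m, hm⟩ := ENat.ne_top_iff_exists.mp hfinite
  exact mem_norLocus_of_flat_aux A B hfib m q (le_of_eq hm.symm) h

end Main

end Groth.Agent.Lib.NormalFlatH3
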