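import Mathlib
import Groth.Prelude.Def_Found
import Groth.Agent.Lib.RegFlat_helper3
import Groth.Agent.Lib.RegLoc_helper3

/-!
# Base change, localization of regular homomorphisms (helper3)

* `exists_algebra_residueField`
* `isNoetherianRing_tensor_of_essFiniteType_field`
* `isRegularRing_baseChange` : regular hom `B → C`, `B'` regular, `B' ⊗[B] C` Noetherian ⇒ regular
* `isRegularHom_of_isPushout` : base change of a regular hom with Noetherian fibres is regular
* `flat_of_faithfullyFlat_comp`
* `isRegularHom_localization_target`
* `isRegularRing_of_forall_maximal_localization`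
APPEND-ONLY once landed.
-/

set_option autoImplicit false
set_option maxSynthPendingDepth 3

namespace Groth.Agent.Lib.RegHomBCH3

open TensorProduct IsLocalRing Groth.Agent.Lib.RegFlatH3

universe u

theorem exists_algebra_residueField (A K : Type u) [CommRing A] [Field K] [Algebra A K] :
    ∃ (p : Ideal A) (_ : p.IsPrime) (_ : Algebra p.ResidueField K),
      IsScalarTower A p.ResidueField K := by
  let p : Ideal A := RingHom.ker (algebraMap A K)
  haveI : p.IsPrime := RingHom.ker_isPrime _
  let φ : p.ResidueField →+* K := Ideal.ResidueField.lift p (algebraMap A K) le_rfl (by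
    intro x hx
    simp only [Submonoid.mem_comap, IsUnit.mem_submonoid_iff]
    exact isUnit_iff_ne_zero.mpr (fun h0 => hx (by simpa [p, RingHom.mem_ker] using h0)))
  refine ⟨p, inferInstance, φ.toAlgebra, ?_⟩
  letI : Algebra p.ResidueField K := φ.toAlgebra
  exact IsScalarTower.of_algebraMap_eq
    (fun x => (Ideal.ResidueField.lift_algebraMap p _ _ _ x).symm)

section

variable (A B : Type u) [CommRing A] [CommRing B] [Algebra A B]

theorem isNoetherianRing_tensor_of_essFiniteType_field
    (hN : ∀ (p : Ideal A) [p.IsPrime], IsNoetherianRing (p.Fiber B))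
    (K : Type u) [Field K] [Algebra A K] [Algebra.EssFiniteType A K] :
    IsNoetherianRing (K ⊗[A] B) := by
  obtain ⟨p, hp, alg, tower⟩ := exists_algebra_residueField A K
  letI := alg
  haveI := hN p
  haveI : Algebra.EssFiniteType p.ResidueField K :=
    Algebra.EssFiniteType.of_comp A p.ResidueField K
  haveI := isNoetherianRing_tensor_of_essFiniteType' p.ResidueField (p.Fiber B) K
  exact isNoetherianRing_of_ringEquiv _
    (Algebra.TensorProduct.cancelBaseChange A p.ResidueField K K B).toRingEquiv

/-- Regular hom `A → B`, `A'` a regular `A`-algebra with `A' ⊗[A] B` Noetherian ⇒ regular. -/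
theorem isRegularRing_baseChange (h : CAlg.IsRegularHom A B) (A' : Type u) [CommRing A']
    [Algebra A A'] [IsRegularRing A'] [IsNoetherianRing (A' ⊗[A] B)] :
    IsRegularRing (A' ⊗[A] B) := by
  haveI : Module.Flat A B := h.1
  apply isRegularRing_of_flat_of_fiber A' (A' ⊗[A] B)
  intro q hq
  let e : q.ResidueField ⊗[A'] (A' ⊗[A] B) ≃ₐ[q.ResidueField] q.ResidueField ⊗[A] B :=
    Algebra.TensorProduct.cancelBaseChange A A' q.ResidueField q.ResidueField B
  haveI : IsNoetherianRing (q.ResidueField ⊗[A'] (A' ⊗[A] B)) :=
    isNoetherianRing_fiber A' (A' ⊗[A] B) q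
  haveI : IsNoetherianRing (q.ResidueField ⊗[A] B) :=
    isNoetherianRing_of_ringEquiv _ e.toRingEquiv
  haveI := isRegularRing_tensor_of_isRegularHom A B h q.ResidueField
  exact IsRegularRing.of_ringEquiv e.symm.toRingEquiv

/-- Base change of a regular homomorphism is regular as soon as the new fibres are Noetherian. -/
theorem isRegularHom_of_isPushout (A' B' : Type u) [CommRing A'] [CommRing B']
    [Algebra A A'] [Algebra A' B'] [Algebra B B'] [Algebra A B'] [IsScalarTower A A' B']
    [IsScalarTower A B B'] [Algebra.IsPushout A B A' B'] (h : CAlg.IsRegularHom A B)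
    (hN : ∀ (p' : Ideal A') [p'.IsPrime], IsNoetherianRing (p'.Fiber B')) :
    CAlg.IsRegularHom A' B' := by
  haveI : Module.Flat A B := h.1
  haveI hpo' : Algebra.IsPushout A A' B B' := Algebra.IsPushout.symm inferInstance
  haveI : Module.Flat A' B' :=
    Module.Flat.of_linearEquiv (Algebra.IsPushout.equiv A A' B B').symm.toLinearEquiv
  apply isRegularHom_of_forall_finite A' B' inferInstance hN
  intro p' hp' K _ _ _ _ hfin
  haveI := hfin
  haveI := hN p'
  haveI : IsNoetherianRing (K ⊗[A'] B') :=
    isNoetherianRing_tensor_of_finite_residueField A' B' p' K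
  letI : Algebra A K := Algebra.compHom K (algebraMap A A')
  haveI : IsScalarTower A A' K := IsScalarTower.of_algebraMap_eq (fun _ => rfl)
  let e1 : B' ⊗[A'] K ≃ₐ[B] B ⊗[A] K := Algebra.IsPushout.cancelBaseChangeAlg A B A' B' K
  let e : K ⊗[A'] B' ≃+* K ⊗[A] B :=
    (Algebra.TensorProduct.comm A' K B').toRingEquiv.trans
      (e1.toRingEquiv.trans (Algebra.TensorProduct.comm A B K).toRingEquiv)
  haveI : IsNoetherianRing (K ⊗[A] B) := isNoetherianRing_of_ringEquiv _ e
  haveI := isRegularRing_tensor_of_isRegularHom A B h K
  exact IsRegularRing.of_ringEquiv e.symm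

end

theorem flat_of_faithfullyFlat_comp (A B C : Type u) [CommRing A] [CommRing B] [CommRing C]
    [Algebra A B] [Algebra B C] [Algebra A C] [IsScalarTower A B C] [Module.Flat A C]
    [Module.FaithfullyFlat B C] : Module.Flat A B := by
  rw [Module.Flat.iff_lTensor_preserves_injective_linearMap]
  intro N N' _ _ _ _ f hf
  have h1 : Function.Injective (f.lTensor C) :=
    Module.Flat.lTensor_preserves_injective_linearMap f hf
  show Function.Injective (f.baseChange B)
  rw [← Module.FaithfullyFlat.lTensor_injective_iff_injective B C (f.baseChange B)]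
  let eN := TensorProduct.AlgebraTensorModule.cancelBaseChange A B C C N
  let eN' := TensorProduct.AlgebraTensorModule.cancelBaseChange A B C C N'
  have hcomm : ∀ z, eN' ((f.baseChange B).lTensor C z) = (f.lTensor C) (eN z) := by
    intro z
    induction z using TensorProduct.induction_on with
    | zero => simp
    | add x y hx hy => simp only [map_add, hx, hy]
    | tmul c w =>
      induction w using TensorProduct.induction_on with
      | zero => simp
      | add x y hx hy => simp only [TensorProduct.tmul_add, map_add, hx, hy]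
      | tmul b n => simp [eN, eN']
  intro z1 z2 hz
  apply eN.injective
  apply h1
  rw [← hcomm, ← hcomm, hz]

section LocTarget

variable (A K B : Type u) [CommRing A] [CommRing K] [CommRing B] [Algebra A K] [Algebra A B]

/-- `K ⊗[A] M⁻¹B` is a localization of `K ⊗[A] B`. -/
theorem exists_isLocalization_tensor (M : Submonoid B) (B' : Type u) [CommRing B'] [Algebra A B']
    [Algebra B B'] [IsScalarTower A B B'] [IsLocalization M B'] :
    ∃ (_ : Algebra (K ⊗[A] B) (K ⊗[A] B')),
      IsLocalization (M.map (Algebra.TensorProduct.includeRight (R := A) (A := K))) (K ⊗[A] B') ∧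
      ∀ z, algebraMap (K ⊗[A] B) (K ⊗[A] B') z =
        Algebra.TensorProduct.map (AlgHom.id A K) (IsScalarTower.toAlgHom A B B') z := by
  letI alg : Algebra (K ⊗[A] B) (K ⊗[A] B') :=
    (Algebra.TensorProduct.map (AlgHom.id A K) (IsScalarTower.toAlgHom A B B')).toRingHom.toAlgebra
  have halg : ∀ z, algebraMap (K ⊗[A] B) (K ⊗[A] B') z =
      Algebra.TensorProduct.map (AlgHom.id A K) (IsScalarTower.toAlgHom A B B') z := fun z => rfl
  haveI : IsScalarTower K (K ⊗[A] B) (K ⊗[A] B') :=
    IsScalarTower.of_algebraMap_eq (fun x => by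
      rw [halg, Algebra.TensorProduct.algebraMap_apply, Algebra.TensorProduct.algebraMap_apply,
        Algebra.TensorProduct.map_tmul, map_one]
      rfl)
  have hloc := IsLocalization.tensorProduct_tensorProduct_right A K M B' (by
      ext a
      show algebraMap (K ⊗[A] B) (K ⊗[A] B') ((1 : K) ⊗ₜ[A] a) =
        (1 : K) ⊗ₜ[A] algebraMap B B' a
      rw [halg, Algebra.TensorProduct.map_tmul, map_one]
      rfl)
  exact ⟨alg, hloc, halg⟩

theorem isNoetherianRing_tensor_localization (M : Submonoid B) (B' : Type u) [CommRing B']
    [Algebra A B'] [Algebra B B'] [IsScalarTower A B B'] [IsLocalization M B']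
    [IsNoetherianRing (K ⊗[A] B)] : IsNoetherianRing (K ⊗[A] B') := by
  obtain ⟨alg, hloc, -⟩ := exists_isLocalization_tensor A K B M B'
  letI := alg
  exact IsLocalization.isNoetherianRing
    (M.map (Algebra.TensorProduct.includeRight (R := A) (A := K))) _ inferInstance

theorem isRegularRing_tensor_localization (M : Submonoid B) (B' : Type u) [CommRing B']
    [Algebra A B'] [Algebra B B'] [IsScalarTower A B B'] [IsLocalization M B']
    [IsRegularRing (K ⊗[A] B)] : IsRegularRing (K ⊗[A] B') := by
  obtain ⟨alg, hloc, -⟩ := exists_isLocalization_tensor A K B M B'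
  letI := alg
  exact Groth.Agent.Lib.RegLocH3.isRegularRing_of_isLocalization
    (M.map (Algebra.TensorProduct.includeRight (R := A) (A := K))) (K ⊗[A] B')

end LocTarget

/-- A regular homomorphism followed by a localization of the target is regular. -/
theorem isRegularHom_localization_target (A B : Type u) [CommRing A] [CommRing B] [Algebra A B]
    (h : CAlg.IsRegularHom A B) (M : Submonoid B) (B' : Type u) [CommRing B'] [Algebra A B']
    [Algebra B B'] [IsScalarTower A B B'] [IsLocalization M B'] : CAlg.IsRegularHom A B' := by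
  haveI : Module.Flat A B := h.1
  haveI : Module.Flat B B' := IsLocalization.flat B' M
  have hflat : Module.Flat A B' := Module.Flat.trans A B B'
  apply isRegularHom_of_forall_finite A B' hflat
  · intro p hp
    haveI := (h.2 p).1
    exact isNoetherianRing_tensor_localization A p.ResidueField B M B'
  · intro p hp K _ _ _ _ hfin
    haveI := hfin
    haveI := (h.2 p).1
    haveI : IsNoetherianRing (K ⊗[A] B) := isNoetherianRing_tensor_of_finite_residueField A B p K
    haveI := isRegularRing_tensor_of_isRegularHom A B h K
    exact isRegularRing_tensor_localization A K B M B'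

/-- Regularity of a Noetherian `Λ`-algebra can be checked after localizing at the maximal ideals
of `Λ`. -/
theorem isRegularRing_of_forall_maximal_localization (Λ T : Type u) [CommRing Λ] [CommRing T]
    [Algebra Λ T] [IsNoetherianRing T]
    (h : ∀ (n : Ideal Λ) [n.IsMaximal],
      IsRegularRing (Localization (Algebra.algebraMapSubmonoid T n.primeCompl))) :
    IsRegularRing T := by
  apply Groth.Agent.Lib.GeomRegAdicH3.isRegularRing_of_forall_maximal
  intro 𝔐 h𝔐
  haveI : 𝔐.IsPrime := h𝔐.isPrime
  let q : Ideal Λ := 𝔐.comap (algebraMap Λ T)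
  have hq : q ≠ ⊤ := (Ideal.comap_ne_top _ h𝔐.ne_top)
  obtain ⟨n, hn, hqn⟩ := Ideal.exists_le_maximal q hq
  haveI := hn
  haveI := h n
  let M : Submonoid T := Algebra.algebraMapSubmonoid T n.primeCompl
  have hle : M ≤ 𝔐.primeCompl := by
    rintro _ ⟨s, hs, rfl⟩
    intro hmem
    exact hs (hqn hmem)
  letI : Algebra (Localization M) (Localization.AtPrime 𝔐) :=
    IsLocalization.localizationAlgebraOfSubmonoidLe (Localization M) (Localization.AtPrime 𝔐)
      M 𝔐.primeCompl hle
  haveI : IsScalarTower T (Localization M) (Localization.AtPrime 𝔐) :=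
    IsLocalization.localization_isScalarTower_of_submonoid_le (Localization M)
      (Localization.AtPrime 𝔐) M 𝔐.primeCompl hle
  haveI : IsLocalization (𝔐.primeCompl.map (algebraMap T (Localization M)))
      (Localization.AtPrime 𝔐) :=
    IsLocalization.isLocalization_of_submonoid_le (Localization M) (Localization.AtPrime 𝔐)
      M 𝔐.primeCompl hle
  haveI : IsRegularRing (Localization.AtPrime 𝔐) :=
    Groth.Agent.Lib.RegLocH3.isRegularRing_of_isLocalization
      (𝔐.primeCompl.map (algebraMap T (Localization M))) (Localization.AtPrime 𝔐)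
  exact IsRegularLocalRing.of_isRegularRing_of_isLocalRing _

end Groth.Agent.Lib.RegHomBCH3
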