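import Mathlib

/-!
# Descent of "integrally closed domain" along faithfully flat maps (helper9)
-/

set_option autoImplicit false
universe u v

namespace Groth.Agent.Lib.NormalDescent

/-- If `A → B` is faithfully flat and `B` is a domain then `A` is a domain. -/
theorem isDomain_of_faithfullyFlat (A : Type u) (B : Type v) [CommRing A] [CommRing B]
    [Algebra A B] [Module.FaithfullyFlat A B] [IsDomain B] : IsDomain A :=
  (FaithfulSMul.algebraMap_injective A B).isDomain (algebraMap A B)

/-- If `A → B` is faithfully flat and `B` is an integrally closed domain then `A` is integrally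
closed. -/
theorem isIntegrallyClosed_of_faithfullyFlat (A : Type u) (B : Type v) [CommRing A] [CommRing B]
    [Algebra A B] [Module.FaithfullyFlat A B] [IsDomain B] [IsIntegrallyClosed B] :
    IsIntegrallyClosed A := by
  classical
  have hinj : Function.Injective (algebraMap A B) := FaithfulSMul.algebraMap_injective A B
  haveI : IsDomain A := isDomain_of_faithfullyFlat A B
  have hcm : ∀ I : Ideal A, (I.map (algebraMap A B)).comap (algebraMap A B) = I :=
    fun I => Ideal.comap_map_eq_self_of_faithfullyFlat I
  rw [isIntegrallyClosed_iff (FractionRing A)]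
  intro x hx
  let g : A →+* FractionRing B := (algebraMap B (FractionRing B)).comp (algebraMap A B)
  have hg : Function.Injective g := (IsFractionRing.injective B (FractionRing B)).comp hinj
  let ψ : FractionRing A →+* FractionRing B := IsFractionRing.lift hg
  have hψ : ∀ a, ψ (algebraMap A (FractionRing A) a) = g a :=
    fun a => IsFractionRing.lift_algebraMap hg a
  have hint : IsIntegral B (ψ x) :=
    IsIntegral.map_of_comp_eq (algebraMap A B) ψ (RingHom.ext fun a => (hψ a).symm) hx
  obtain ⟨y, hy⟩ := IsIntegrallyClosed.algebraMap_eq_of_integral hint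
  obtain ⟨a, b, hb, rfl⟩ := IsFractionRing.div_surjective (A := A) x
  have hb0 : algebraMap A (FractionRing A) b ≠ 0 :=
    IsFractionRing.to_map_ne_zero_of_mem_nonZeroDivisors hb
  rw [map_div₀, hψ, hψ] at hy
  have hgb : g b ≠ 0 := by
    intro h0
    have := hg (h0.trans (map_zero g).symm)
    rw [this, map_zero] at hb0
    exact hb0 rfl
  rw [eq_div_iff hgb] at hy
  have hy' : y * algebraMap A B b = algebraMap A B a := by
    apply IsFractionRing.injective B (FractionRing B)
    rw [map_mul]
    exact hy
  have hmem : a ∈ (Ideal.span {b} : Ideal A) := by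
    rw [← hcm (Ideal.span {b}), Ideal.mem_comap, Ideal.map_span, Set.image_singleton,
      Ideal.mem_span_singleton']
    exact ⟨y, hy'⟩
  obtain ⟨c, hc⟩ := Ideal.mem_span_singleton'.mp hmem
  refine ⟨c, ?_⟩
  rw [eq_div_iff hb0, ← map_mul, hc]

end Groth.Agent.Lib.NormalDescent
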