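import Mathlib
import Groth.Prelude.Def_EGA4b
import Groth.Agent.Lib.NormalFlat_helper3
import Groth.Agent.Lib.SepSmooth_helper3
import Groth.Agent.S2610
import Groth.Agent.Lib.RegHomBC_helper3

/-!
# Geometric normality (EGA IV 6.7.7) (helper3)

* `isNormalRing_of_flat_of_regular_fibers` : flat with regular fibres over a normal base.
* `isNormalRing_tensor_of_formallySmooth` : separable finitely generated field extensions
  preserve normality.
* `isNormalRing_of_faithfullyFlat`, `isNormalRing_of_fieldExt` : descent.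
* `isNormalRing_tensor_of_forall_pi` : normality after all finite purely inseparable extensions
  implies normality after all finitely generated field extensions.
APPEND-ONLY once landed.
-/

set_option autoImplicit false
set_option maxSynthPendingDepth 3
universe u

open PrimeSpectrum TensorProduct

namespace Groth.Agent.Lib.GeomNormalH3

open Groth.Agent.Lib.NorLocusH3 Groth.Agent.Lib.NorLocus2H3 Groth.Agent.Lib.NagataCritH3
  Groth.Agent.Lib.NormalFlatH3

section Basic

theorem isNormalRing_of_ringEquiv {R R' : Type u} [CommRing R] [CommRing R'] (e : R ≃+* R')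
    (h : EGA4.IsNormalRing R) : EGA4.IsNormalRing R' := by
  intro p' hp'
  have e' : Localization.AtPrime (p'.comap e) ≃+* Localization.AtPrime p' :=
    IsLocalization.ringEquivOfRingEquiv
      (Localization.AtPrime (p'.comap e)) (Localization.AtPrime p') e
      (e.map_primeCompl_comap_eq p')
  exact normal_of_ringEquiv e' (h (p'.comap e))

/-- The local ring of a regular fibre is a regular local ring. -/
theorem isRegularLocalRing_fibLocRing (R S : Type u) [CommRing R] [CommRing S] [Algebra R S]
    (Q : Ideal S) [Q.IsPrime] [IsRegularRing ((Q.under R).Fiber S)] :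
    IsRegularLocalRing (EGA4.FibLocRing R S Q) := by
  let p := Q.under R
  haveI : p.IsPrime := inferInstance
  let Q' : p.primesOver S := ⟨Q, inferInstance, ⟨rfl⟩⟩
  let q := PrimeSpectrum.primesOverOrderIsoFiber R S p Q'
  have hq : q.asIdeal.comap (Algebra.TensorProduct.includeRight : S →ₐ[R] p.Fiber S) = Q := by
    have := (PrimeSpectrum.primesOverOrderIsoFiber R S p).symm_apply_apply Q'
    rw [← PrimeSpectrum.coe_primesOverOrderIsoFiber_symm_apply]
    exact congrArg Subtype.val this
  haveI : IsRegularLocalRing (Localization.AtPrime q.asIdeal) := inferInstance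
  letI := Localization.AtPrime.algebraOfLiesOver p (q.asIdeal.comap
    (Algebra.TensorProduct.includeRight : S →ₐ[R] p.Fiber S))
  have key : IsRegularLocalRing
      (Localization.AtPrime (q.asIdeal.comap
        (Algebra.TensorProduct.includeRight : S →ₐ[R] p.Fiber S)) ⧸
        p.map (algebraMap R (Localization.AtPrime (q.asIdeal.comap
          (Algebra.TensorProduct.includeRight : S →ₐ[R] p.Fiber S))))) :=
    IsRegularLocalRing.of_ringEquiv
      (Ideal.Fiber.localizationAlgEquivQuotient p q.asIdeal).toRingEquiv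
  have tr : ∀ (r : Ideal S) [r.IsPrime], r = Q →
      IsRegularLocalRing (Localization.AtPrime r ⧸ p.map (algebraMap R (Localization.AtPrime r))) →
      IsRegularLocalRing (EGA4.FibLocRing R S Q) := by
    intro r _ e hreg
    subst e
    exact hreg
  exact tr _ hq key

/-- flat with regular fibres over a normal Noetherian base -/
theorem isNormalRing_of_flat_of_regular_fibers (A B : Type u) [CommRing A] [CommRing B]
    [IsNoetherianRing A] [IsNoetherianRing B] [Algebra A B] [Module.Flat A B]
    (hfib : ∀ (p : Ideal A) [p.IsPrime], IsRegularRing (p.Fiber B))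
    (hA : EGA4.IsNormalRing A) : EGA4.IsNormalRing B := by
  intro q hq
  have h1 : ∀ (q : Ideal B) [q.IsPrime], IsDomain (EGA4.FibLocRing A B q) ∧
      IsIntegrallyClosed (EGA4.FibLocRing A B q) := by
    intro q hq
    haveI := hfib (q.under A)
    haveI := isRegularLocalRing_fibLocRing A B q
    exact ⟨Groth.Agent.RegularLib.isDomain _,
      Groth.Agent.Lib.NormalLiftH4.isIntegrallyClosed_of_isRegularLocalRing _⟩
  exact mem_norLocus_of_flat A B h1 ⟨q, hq⟩ (hA (q.comap (algebraMap A B)))

/-- descent of normality along faithfully flat maps of Noetherian rings -/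
theorem isNormalRing_of_faithfullyFlat (A B : Type u) [CommRing A] [CommRing B]
    [IsNoetherianRing A] [IsNoetherianRing B] [Algebra A B] [Module.FaithfullyFlat A B]
    (hB : EGA4.IsNormalRing B) : EGA4.IsNormalRing A := by
  intro p hp
  obtain ⟨q, hq⟩ := PrimeSpectrum.comap_surjective_of_faithfullyFlat (A := A) (B := B) ⟨p, hp⟩
  obtain ⟨hd, hic⟩ := hB q.asIdeal
  haveI := hd
  haveI := hic
  have h1 := Groth.Agent.S2610.result A B q.asIdeal
  have heq : q.asIdeal.comap (algebraMap A B) = p := congrArg PrimeSpectrum.asIdeal hq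
  have tr : ∀ (r : Ideal A) [r.IsPrime], r = p →
      (IsDomain (Localization.AtPrime r) ∧ IsIntegrallyClosed (Localization.AtPrime r)) →
      (IsDomain (Localization.AtPrime p) ∧ IsIntegrallyClosed (Localization.AtPrime p)) := by
    intro r _ e h
    subst e
    exact h
  exact tr _ heq h1

end Basic

section Field

/-- descent of normality along a field extension of the base -/
theorem isNormalRing_of_fieldExt (k K K' S : Type u) [Field k] [Field K] [Field K']
    [Algebra k K] [Algebra k K'] [Algebra K K'] [IsScalarTower k K K'] [CommRing S] [Algebra k S]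
    [IsNoetherianRing (K ⊗[k] S)] [IsNoetherianRing (K' ⊗[k] S)]
    (h : EGA4.IsNormalRing (K' ⊗[k] S)) : EGA4.IsNormalRing (K ⊗[k] S) := by
  let e : (K ⊗[k] S) ⊗[K] K' ≃+* K' ⊗[k] S :=
    (Algebra.TensorProduct.comm K (K ⊗[k] S) K').toRingEquiv.trans
      (Algebra.TensorProduct.cancelBaseChange k K K' K' S).toRingEquiv
  haveI : IsNoetherianRing ((K ⊗[k] S) ⊗[K] K') := isNoetherianRing_of_ringEquiv _ e.symm
  have hB : EGA4.IsNormalRing ((K ⊗[k] S) ⊗[K] K') := isNormalRing_of_ringEquiv e.symm h
  exact isNormalRing_of_faithfullyFlat (K ⊗[k] S) ((K ⊗[k] S) ⊗[K] K') hB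

/-- separable finitely generated field extensions preserve normality -/
theorem isNormalRing_tensor_of_formallySmooth (k S K : Type u) [Field k] [Field K] [Algebra k K]
    [Algebra.FormallySmooth k K] [Algebra.EssFiniteType k K] [CommRing S] [Algebra k S]
    [IsNoetherianRing S] (hS : EGA4.IsNormalRing S) : EGA4.IsNormalRing (K ⊗[k] S) := by
  haveI : IsNoetherianRing (S ⊗[k] K) := Algebra.EssFiniteType.isNoetherianRing S (S ⊗[k] K)
  have h1 : EGA4.IsNormalRing (S ⊗[k] K) := by
    apply isNormalRing_of_flat_of_regular_fibers S (S ⊗[k] K) ?_ hS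
    intro p hp
    haveI : IsNoetherianRing (p.Fiber (S ⊗[k] K)) :=
      Groth.Agent.Lib.RegFlatH3.isNoetherianRing_fiber S (S ⊗[k] K) p
    exact Groth.Agent.Lib.SmoothRegHomH3.isRegularRing_of_formallySmooth_field p.ResidueField _
  exact isNormalRing_of_ringEquiv (Algebra.TensorProduct.comm k S K).toRingEquiv h1

open Groth.Agent.Lib.PInsepDescentH3 in
/-- EGA IV 6.7.7, b) ⇒ c). -/
theorem isNormalRing_tensor_of_forall_pi (k S : Type u) [Field k] [CommRing S] [Algebra k S]
    [IsNoetherianRing S]
    (hb : ∀ (k' : Type u) [Field k'] [Algebra k k'], Module.Finite k k' →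
      IsPurelyInseparable k k' → EGA4.IsNormalRing (k' ⊗[k] S))
    (K : Type u) [Field K] [Algebra k K] [Algebra.EssFiniteType k K] :
    EGA4.IsNormalRing (K ⊗[k] S) := by
  obtain ⟨F, hFfin, hmax, hred⟩ := exists_finite_purelyInseparable k K
  haveI := hFfin
  haveI := hmax
  haveI : IsPurelyInseparable k F := IsPurelyInseparable.tower_bot k F (Cp k)
  letI : Field (Groth.Agent.Lib.J2CritH3.EE k K F) := Ideal.Quotient.field _
  letI iFE : Algebra F (Groth.Agent.Lib.J2CritH3.EE k K F) := Ideal.Quotient.algebra F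
  letI iSMulFE : SMul F (Groth.Agent.Lib.J2CritH3.EE k K F) := iFE.toSMul
  haveI : Algebra.IsGeometricallyReduced F (Groth.Agent.Lib.J2CritH3.EE k K F) :=
    (Algebra.isGeometricallyReduced_field_iff _ _).mpr hred
  haveI : Algebra.FormallySmooth F (Groth.Agent.Lib.J2CritH3.EE k K F) :=
    Groth.Agent.Lib.SepSmoothH3.formallySmooth_of_isGeometricallyReduced F _
  haveI : Algebra.EssFiniteType F (F ⊗[k] K) := inferInstance
  haveI : Algebra.FiniteType (F ⊗[k] K) (Groth.Agent.Lib.J2CritH3.EE k K F) :=
    Algebra.FiniteType.of_surjective (Ideal.Quotient.mkₐ (F ⊗[k] K) _)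
      (Ideal.Quotient.mkₐ_surjective _ _)
  haveI : Algebra.EssFiniteType F (Groth.Agent.Lib.J2CritH3.EE k K F) :=
    Algebra.EssFiniteType.comp F (F ⊗[k] K) _
  have hS' : EGA4.IsNormalRing (F ⊗[k] S) := hb F inferInstance inferInstance
  haveI : IsNoetherianRing (F ⊗[k] S) :=
    Groth.Agent.Lib.GeomRegFSH3.isNoetherianRing_tensor_of_finite (k := k) (S := S) F
  have h1 : EGA4.IsNormalRing ((Groth.Agent.Lib.J2CritH3.EE k K F) ⊗[F] (F ⊗[k] S)) :=
    isNormalRing_tensor_of_formallySmooth F (F ⊗[k] S) _ hS'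
  have h2 : EGA4.IsNormalRing ((Groth.Agent.Lib.J2CritH3.EE k K F) ⊗[k] S) :=
    isNormalRing_of_ringEquiv (Algebra.TensorProduct.cancelBaseChange k F
      (Groth.Agent.Lib.J2CritH3.EE k K F) (Groth.Agent.Lib.J2CritH3.EE k K F) S).toRingEquiv h1
  letI : Algebra K (Groth.Agent.Lib.J2CritH3.EE k K F) :=
    ((Ideal.Quotient.mk _).comp
      (Algebra.TensorProduct.includeRight : K →ₐ[k] F ⊗[k] K).toRingHom).toAlgebra
  haveI : IsScalarTower k K (Groth.Agent.Lib.J2CritH3.EE k K F) :=
    IsScalarTower.of_algebraMap_eq fun a => by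
      change Ideal.Quotient.mk _ (algebraMap k (F ⊗[k] K) a) =
        Ideal.Quotient.mk _ ((1 : F) ⊗ₜ[k] (algebraMap k K a))
      congr 1
      rw [Algebra.TensorProduct.algebraMap_apply, Algebra.algebraMap_eq_smul_one,
        Algebra.algebraMap_eq_smul_one (A := K), TensorProduct.smul_tmul]
  haveI : IsNoetherianRing (K ⊗[k] S) :=
    Groth.Agent.Lib.GeomRegFSH3.isNoetherianRing_tensor_of_essFiniteType (k := k) (S := S) K
  haveI : Algebra.EssFiniteType k (Groth.Agent.Lib.J2CritH3.EE k K F) :=
    Algebra.EssFiniteType.comp k F _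
  haveI : IsNoetherianRing ((Groth.Agent.Lib.J2CritH3.EE k K F) ⊗[k] S) :=
    Groth.Agent.Lib.GeomRegFSH3.isNoetherianRing_tensor_of_essFiniteType (k := k) (S := S) _
  exact isNormalRing_of_fieldExt k K (Groth.Agent.Lib.J2CritH3.EE k K F) S h2

end Field

end Groth.Agent.Lib.GeomNormalH3

namespace Groth.Agent.Lib.GeomNormalH3

open Groth.Agent.Lib.NorLocusH3 Groth.Agent.Lib.NorLocus2H3 Groth.Agent.Lib.NagataCritH3
  Groth.Agent.Lib.NormalFlatH3

section NormalHom

/-- The fibre local ring is a localization of the fibre ring. -/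
theorem exists_fiber_prime_equiv (R S : Type u) [CommRing R] [CommRing S] [Algebra R S]
    (Q : Ideal S) [Q.IsPrime] :
    ∃ (q : Ideal ((Q.under R).Fiber S)) (_ : q.IsPrime),
      Nonempty (Localization.AtPrime q ≃+* EGA4.FibLocRing R S Q) := by
  let p := Q.under R
  haveI : p.IsPrime := inferInstance
  let Q' : p.primesOver S := ⟨Q, inferInstance, ⟨rfl⟩⟩
  let q := PrimeSpectrum.primesOverOrderIsoFiber R S p Q'
  have hq : q.asIdeal.comap (Algebra.TensorProduct.includeRight : S →ₐ[R] p.Fiber S) = Q := by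
    have := (PrimeSpectrum.primesOverOrderIsoFiber R S p).symm_apply_apply Q'
    rw [← PrimeSpectrum.coe_primesOverOrderIsoFiber_symm_apply]
    exact congrArg Subtype.val this
  letI := Localization.AtPrime.algebraOfLiesOver p (q.asIdeal.comap
    (Algebra.TensorProduct.includeRight : S →ₐ[R] p.Fiber S))
  have key : Nonempty (Localization.AtPrime q.asIdeal ≃+*
      (Localization.AtPrime (q.asIdeal.comap
        (Algebra.TensorProduct.includeRight : S →ₐ[R] p.Fiber S)) ⧸
        p.map (algebraMap R (Localization.AtPrime (q.asIdeal.comap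
          (Algebra.TensorProduct.includeRight : S →ₐ[R] p.Fiber S)))))) :=
    ⟨(Ideal.Fiber.localizationAlgEquivQuotient p q.asIdeal).toRingEquiv⟩
  have tr : ∀ (r : Ideal S) [r.IsPrime], r = Q →
      Nonempty (Localization.AtPrime q.asIdeal ≃+*
        (Localization.AtPrime r ⧸ p.map (algebraMap R (Localization.AtPrime r)))) →
      Nonempty (Localization.AtPrime q.asIdeal ≃+* EGA4.FibLocRing R S Q) := by
    intro r _ e hreg
    subst e
    exact hreg
  exact ⟨q.asIdeal, q.2, tr _ hq key⟩

/-- flat with normal fibres over a normal Noetherian base -/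
theorem isNormalRing_of_flat_of_normal_fibers (A B : Type u) [CommRing A] [CommRing B]
    [IsNoetherianRing A] [IsNoetherianRing B] [Algebra A B] [Module.Flat A B]
    (hfib : ∀ (p : Ideal A) [p.IsPrime], EGA4.IsNormalRing (p.Fiber B))
    (hA : EGA4.IsNormalRing A) : EGA4.IsNormalRing B := by
  intro q hq
  have h1 : ∀ (q : Ideal B) [q.IsPrime], IsDomain (EGA4.FibLocRing A B q) ∧
      IsIntegrallyClosed (EGA4.FibLocRing A B q) := by
    intro q hq
    obtain ⟨q', hq', ⟨e⟩⟩ := exists_fiber_prime_equiv A B q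
    exact normal_of_ringEquiv e (hfib (q.under A) q')
  exact mem_norLocus_of_flat A B h1 ⟨q, hq⟩ (hA (q.comap (algebraMap A B)))

variable (A B : Type u) [CommRing A] [CommRing B] [Algebra A B]

/-- For a normal homomorphism `A → B` and a field `K` essentially of finite type over `A`,
`K ⊗[A] B` is a normal ring. -/
theorem isNormalRing_tensor_of_isNormalHom [IsNoetherianRing B] (h : EGA4.IsNormalHom A B)
    (K : Type u) [Field K] [Algebra A K] [Algebra.EssFiniteType A K] :
    EGA4.IsNormalRing (K ⊗[A] B) := by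
  obtain ⟨p, hp, alg, tower⟩ := Groth.Agent.Lib.RegHomBCH3.exists_algebra_residueField A K
  letI := alg
  haveI := tower
  haveI := hp
  haveI : Algebra.EssFiniteType p.ResidueField K :=
    Algebra.EssFiniteType.of_comp A p.ResidueField K
  haveI : IsNoetherianRing (p.Fiber B) := Groth.Agent.Lib.RegFlatH3.isNoetherianRing_fiber A B p
  let e : K ⊗[p.ResidueField] (p.Fiber B) ≃ₐ[K] K ⊗[A] B :=
    Algebra.TensorProduct.cancelBaseChange A p.ResidueField K K B
  have h1 := isNormalRing_tensor_of_forall_pi p.ResidueField (p.Fiber B)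
    (fun k' _ _ hfin _ => h.2 p k' hfin) K
  exact isNormalRing_of_ringEquiv e.toRingEquiv h1

/-- Normal hom `A → B`, `A'` a normal Noetherian `A`-algebra essentially of finite type ⇒
`A' ⊗[A] B` normal. -/
theorem isNormalRing_baseChange [IsNoetherianRing B] (h : EGA4.IsNormalHom A B) (A' : Type u)
    [CommRing A'] [Algebra A A'] [Algebra.EssFiniteType A A'] [IsNoetherianRing A']
    (hA' : EGA4.IsNormalRing A') [IsNoetherianRing (A' ⊗[A] B)] :
    EGA4.IsNormalRing (A' ⊗[A] B) := by
  haveI : Module.Flat A B := h.1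
  apply isNormalRing_of_flat_of_normal_fibers A' (A' ⊗[A] B) ?_ hA'
  intro q hq
  let e : q.ResidueField ⊗[A'] (A' ⊗[A] B) ≃ₐ[q.ResidueField] q.ResidueField ⊗[A] B :=
    Algebra.TensorProduct.cancelBaseChange A A' q.ResidueField q.ResidueField B
  haveI : Algebra.EssFiniteType A q.ResidueField :=
    Algebra.EssFiniteType.comp A A' q.ResidueField
  have h1 := isNormalRing_tensor_of_isNormalHom A B h q.ResidueField
  exact isNormalRing_of_ringEquiv e.symm.toRingEquiv h1

/-- composition of normal homomorphisms -/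
theorem isNormalHom_comp (C : Type u) [CommRing C] [IsNoetherianRing B] [IsNoetherianRing C]
    [Algebra B C] [Algebra A C] [IsScalarTower A B C]
    (hAB : EGA4.IsNormalHom A B) (hBC : EGA4.IsNormalHom B C) : EGA4.IsNormalHom A C := by
  haveI : Module.Flat A B := hAB.1
  haveI : Module.Flat B C := hBC.1
  refine ⟨Module.Flat.trans A B C, ?_⟩
  intro p hp k' _ _ hfin
  haveI := hfin
  letI : Algebra A k' := ((algebraMap p.ResidueField k').comp (algebraMap A p.ResidueField)).toAlgebra
  haveI : IsScalarTower A p.ResidueField k' := IsScalarTower.of_algebraMap_eq fun _ => rfl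
  haveI : Algebra.EssFiniteType A k' := Algebra.EssFiniteType.comp A p.ResidueField k'
  have h1 : EGA4.IsNormalRing (k' ⊗[A] B) := isNormalRing_tensor_of_isNormalHom A B hAB k'
  have h1' : EGA4.IsNormalRing (B ⊗[A] k') :=
    isNormalRing_of_ringEquiv (Algebra.TensorProduct.comm A k' B).toRingEquiv h1
  haveI : Algebra.EssFiniteType B (B ⊗[A] k') := inferInstance
  haveI : IsNoetherianRing (B ⊗[A] k') := Algebra.EssFiniteType.isNoetherianRing B _
  haveI : IsNoetherianRing ((B ⊗[A] k') ⊗[B] C) :=
    Groth.Agent.Lib.RegFlatH3.isNoetherianRing_tensor_of_essFiniteType' B C (B ⊗[A] k')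
  have h2 : EGA4.IsNormalRing ((B ⊗[A] k') ⊗[B] C) :=
    isNormalRing_baseChange B C hBC (B ⊗[A] k') h1'
  let e1 : (B ⊗[A] k') ⊗[B] C ≃+* C ⊗[B] (B ⊗[A] k') :=
    (Algebra.TensorProduct.comm B (B ⊗[A] k') C).toRingEquiv
  let e2 : C ⊗[B] (B ⊗[A] k') ≃+* C ⊗[A] k' :=
    (Algebra.TensorProduct.cancelBaseChange A B C C k').toRingEquiv
  let e3 : C ⊗[A] k' ≃+* k' ⊗[A] C := (Algebra.TensorProduct.comm A C k').toRingEquiv
  let e4 : k' ⊗[A] C ≃+* k' ⊗[p.ResidueField] (p.Fiber C) :=
    (Algebra.TensorProduct.cancelBaseChange A p.ResidueField k' k' C).symm.toRingEquiv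
  exact isNormalRing_of_ringEquiv (e1.trans (e2.trans (e3.trans e4))) h2

end NormalHom

end Groth.Agent.Lib.GeomNormalH3
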