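import Mathlib
import Groth.Prelude.Def_Found
import Groth.Agent.Lib.RegFlat_helper3
import Groth.Agent.Lib.RegFlat2_helper3
import Groth.Agent.Lib.ComplReg_helper3
import Groth.Agent.Lib.GeomRegAdic_helper3
import Groth.Agent.Lib.Serre_helper5

/-!
# Regularity of `(1+J)⁻¹A` versus the `J`-adic completion (helper3)

If `A → Â` is a regular homomorphism, then `(1+J)⁻¹A` is regular iff `Â` is.
APPEND-ONLY once landed.
-/

set_option autoImplicit false
set_option maxSynthPendingDepth 3
universe u

open IsLocalRing

namespace Groth.Agent.Lib.RegComplTH3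

variable (A : Type u) [CommRing A] [IsNoetherianRing A] (J : Ideal A)

/-- Elements of `1 + J` become units in the completion. -/
theorem isUnit_algebraMap_of_mem_mker (t : A) (ht : t ∈ MonoidHom.mker (Ideal.Quotient.mk J)) :
    IsUnit (algebraMap A (AdicCompletion J A) t) := by
  have fg : J.FG := IsNoetherian.noetherian J
  haveI := AdicCompletion.isAdicComplete_self J fg
  have h1 : algebraMap A (AdicCompletion J A) t - 1 ∈
      J.map (algebraMap A (AdicCompletion J A)) := by
    rw [← map_one (algebraMap A (AdicCompletion J A)), ← map_sub]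
    apply Ideal.mem_map_of_mem
    rw [← Ideal.Quotient.eq_zero_iff_mem, map_sub, map_one, sub_eq_zero]
    exact ht
  have h2 := (IsAdicComplete.le_jacobson_bot (J.map (algebraMap A (AdicCompletion J A)))) h1
  rw [Ideal.mem_jacobson_bot] at h2
  have h3 := h2 1
  rw [mul_one, sub_add_cancel] at h3
  exact h3

/-- Primes of the completion contract to primes disjoint from `1 + J`. -/
theorem disjoint_under (Q : Ideal (AdicCompletion J A)) [Q.IsPrime] :
    Disjoint ((MonoidHom.mker (Ideal.Quotient.mk J) : Submonoid A) : Set A) (Q.under A) := by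
  rw [Set.disjoint_left]
  intro t ht htQ
  exact ‹Q.IsPrime›.ne_top (Ideal.eq_top_of_isUnit_mem _ htQ (isUnit_algebraMap_of_mem_mker A J t ht))

theorem regular_localization_of_disjoint (T : Submonoid A) [IsRegularRing (Localization T)]
    (p : Ideal A) [hp : p.IsPrime] (hd : Disjoint (T : Set A) p) :
    IsRegularLocalRing (Localization.AtPrime p) := by
  haveI hp' : (p.map (algebraMap A (Localization T))).IsPrime :=
    IsLocalization.isPrime_of_isPrime_disjoint T _ p hp hd
  have hcomap : (p.map (algebraMap A (Localization T))).comap (algebraMap A (Localization T)) = p :=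
    IsLocalization.under_map_of_isPrime_disjoint T _ hp hd
  have e := IsLocalization.localizationLocalizationAtPrimeIsoLocalization T
    (p.map (algebraMap A (Localization T)))
  have tr : ∀ (r : Ideal A) [r.IsPrime], r = p →
      IsRegularLocalRing (Localization.AtPrime r) → IsRegularLocalRing (Localization.AtPrime p) := by
    intro r _ h hreg
    subst h
    exact hreg
  exact tr _ hcomap (IsRegularLocalRing.of_ringEquiv e.symm.toRingEquiv)

theorem forward (hf : CAlg.IsRegularHom A (AdicCompletion J A))
    (T : Submonoid A) (hT : T = MonoidHom.mker (Ideal.Quotient.mk J))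
    (h : IsRegularRing (Localization T)) : IsRegularRing (AdicCompletion J A) := by
  haveI := ComplRegH3.isNoetherianRing_adicCompletion A J
  haveI : Module.Flat A (AdicCompletion J A) := hf.1
  rw [isRegularRing_iff]
  intro Q hQ
  haveI : (Q.under A).IsPrime := inferInstance
  haveI : IsRegularLocalRing (Localization.AtPrime (Q.under A)) :=
    regular_localization_of_disjoint A T (Q.under A) (hT ▸ disjoint_under A J Q)
  haveI : IsRegularRing ((Q.under A).Fiber (AdicCompletion J A)) :=
    RegFlatH3.isRegularRing_of_isGeometricallyRegular _ _ (hf.2 (Q.under A)).2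
  exact RegFlat2H3.isRegularLocalRing_of_flat_of_fiber_at A (AdicCompletion J A) Q

/-- The ideal `J` lies in every maximal ideal of `(1+J)⁻¹A`. -/
theorem le_comap_of_isMaximal (T : Submonoid A) (hT : T = MonoidHom.mker (Ideal.Quotient.mk J))
    (𝔐 : Ideal (Localization T)) [h𝔐 : 𝔐.IsMaximal] :
    J ≤ 𝔐.comap (algebraMap A (Localization T)) := by
  have key : ∀ x : A, x ∈ T ↔ Ideal.Quotient.mk J x = 1 := by
    intro x
    rw [hT]
    exact MonoidHom.mem_mker
  intro j hj
  rw [Ideal.mem_comap]
  by_contra hjm
  obtain ⟨y, i, hi, hyi⟩ := h𝔐.exists_inv hjm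
  obtain ⟨⟨a, t⟩, hat⟩ := IsLocalization.surj T y
  -- `i * t = t - a * j` is a unit
  have h1 : i * algebraMap A (Localization T) t =
      algebraMap A (Localization T) (t - a * j) := by
    have : i = 1 - y * algebraMap A (Localization T) j := by rw [← hyi]; ring
    rw [this, sub_mul, one_mul, mul_right_comm, hat, map_sub, map_mul]
  have h2 : (t : A) - a * j ∈ T := by
    rw [key, map_sub, map_mul, Ideal.Quotient.eq_zero_iff_mem.2 hj, mul_zero, sub_zero]
    exact (key _).1 t.2
  have h3 : IsUnit (algebraMap A (Localization T) (t - a * j)) :=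
    IsLocalization.map_units _ (⟨_, h2⟩ : T)
  have h4 : i * algebraMap A (Localization T) t ∈ 𝔐 := Ideal.mul_mem_right _ _ hi
  rw [h1] at h4
  exact h𝔐.ne_top (Ideal.eq_top_of_isUnit_mem _ h4 h3)

theorem backward (T : Submonoid A) (hT : T = MonoidHom.mker (Ideal.Quotient.mk J))
    (h : IsRegularRing (AdicCompletion J A)) : IsRegularRing (Localization T) := by
  have fg : J.FG := IsNoetherian.noetherian J
  haveI : IsNoetherianRing (Localization T) := IsLocalization.isNoetherianRing T _ inferInstance
  haveI : IsNoetherianRing (AdicCompletion J A) := ComplRegH3.isNoetherianRing_adicCompletion A J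
  apply GeomRegAdicH3.isRegularRing_of_forall_maximal
  intro 𝔐 h𝔐
  haveI := h𝔐
  set m : Ideal A := 𝔐.comap (algebraMap A (Localization T)) with hm
  haveI : m.IsPrime := Ideal.comap_isPrime _ _
  have hJm : J ≤ m := le_comap_of_isMaximal A J T hT 𝔐
  -- `m` is maximal
  haveI hmmax : m.IsMaximal := by
    obtain ⟨m', hm'max, hmm'⟩ := Ideal.exists_le_maximal m (Ideal.IsPrime.ne_top inferInstance)
    have hd : Disjoint (T : Set A) m' := by
      rw [Set.disjoint_left]
      intro t ht htm
      have hJm' : J ≤ m' := hJm.trans hmm'
      have h1 : t - 1 ∈ J := by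
        rw [← Ideal.Quotient.eq_zero_iff_mem, map_sub, map_one, sub_eq_zero]
        rw [hT] at ht
        exact ht
      have h2 : (1 : A) ∈ m' := by
        have := m'.sub_mem htm (hJm' h1)
        rwa [sub_sub_cancel] at this
      exact hm'max.ne_top ((Ideal.eq_top_iff_one _).2 h2)
    haveI := hm'max.isPrime
    have hp' : (m'.map (algebraMap A (Localization T))).IsPrime :=
      IsLocalization.isPrime_of_isPrime_disjoint T _ m' inferInstance hd
    have hle : 𝔐 ≤ m'.map (algebraMap A (Localization T)) := by
      rw [← IsLocalization.map_comap T (Localization T) 𝔐]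
      exact Ideal.map_mono hmm'
    have heq : 𝔐 = m'.map (algebraMap A (Localization T)) := h𝔐.eq_of_le hp'.ne_top hle
    have : m = m' := by
      rw [hm, heq]
      exact IsLocalization.under_map_of_isPrime_disjoint T _ inferInstance hd
    rw [this]
    exact hm'max
  -- the maximal ideal of the completion over `m`
  let φ : AdicCompletion J A →+* A ⧸ m :=
    (Ideal.Quotient.factor hJm).comp (AdicCompletion.evalOneₐ J).toRingHom
  have hφsurj : Function.Surjective φ :=
    (Ideal.Quotient.factor_surjective hJm).comp (AdicCompletion.evalOneₐ_surjective J)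
  letI := Ideal.Quotient.field m
  haveI : (RingHom.ker φ).IsMaximal := RingHom.ker_isMaximal_of_surjective φ hφsurj
  have hφalg : ∀ a : A, φ (algebraMap A (AdicCompletion J A) a) = Ideal.Quotient.mk m a := by
    intro a
    show Ideal.Quotient.factor hJm ((AdicCompletion.evalOneₐ J) (algebraMap A _ a)) = _
    rw [AlgHom.commutes]
    rfl
  have hunder : (RingHom.ker φ).under A = m := by
    ext a
    rw [Ideal.under_def, Ideal.mem_comap, RingHom.mem_ker, hφalg, Ideal.Quotient.eq_zero_iff_mem]
  haveI : (RingHom.ker φ).LiesOver m := ⟨hunder.symm⟩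
  letI := Localization.AtPrime.algebraOfLiesOver m (RingHom.ker φ)
  haveI : Module.Flat A (AdicCompletion J A) := AdicCompletion.flat_of_isNoetherian J
  haveI : Module.Flat A (Localization.AtPrime (RingHom.ker φ)) := inferInstance
  haveI : Module.Flat (Localization.AtPrime m) (Localization.AtPrime (RingHom.ker φ)) := by
    rw [Module.flat_iff_of_isLocalization (Localization.AtPrime m) m.primeCompl]
    infer_instance
  haveI : IsNoetherianRing (Localization.AtPrime m) :=
    IsLocalization.isNoetherianRing m.primeCompl _ inferInstance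
  haveI : IsRegularLocalRing (Localization.AtPrime (RingHom.ker φ)) :=
    h.isRegularLocalRing_localization _
  haveI : IsRegularLocalRing (Localization.AtPrime m) :=
    Groth.Agent.Serre.regular_of_flat_local (Localization.AtPrime m)
      (Localization.AtPrime (RingHom.ker φ))
  exact IsRegularLocalRing.of_ringEquiv
    (IsLocalization.localizationLocalizationAtPrimeIsoLocalization T 𝔐).toRingEquiv

theorem main (hf : CAlg.IsRegularHom A (AdicCompletion J A))
    (T : Submonoid A) (hT : T = MonoidHom.mker (Ideal.Quotient.mk J)) :
    IsRegularRing (Localization T) ↔ IsRegularRing (AdicCompletion J A) :=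
  ⟨forward A J hf T hT, backward A J T hT⟩

end Groth.Agent.Lib.RegComplTH3
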