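import Mathlib
import Groth.Prelude.Def_EGA4b
import Groth.Agent.Lib.RegComplT_helper3
import Groth.Agent.Lib.GeomNormal_helper3
import Groth.Agent.S2610

/-!
# Normality of `(1+J)⁻¹A` versus the `J`-adic completion (helper3)

If `A → Â` is a normal homomorphism, then `(1+J)⁻¹A` is normal iff `Â` is.
APPEND-ONLY once landed.
-/

set_option autoImplicit false
set_option maxSynthPendingDepth 3
universe u

open IsLocalRing TensorProduct

namespace Groth.Agent.Lib.NorComplTH3

open Groth.Agent.Lib.NorLocusH3 Groth.Agent.Lib.NormalFlatH3 Groth.Agent.Lib.GeomNormalH3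
  Groth.Agent.Lib.RegComplTH3

variable (A : Type u) [CommRing A] [IsNoetherianRing A] (J : Ideal A)

/-- geometrically normal ⇒ normal -/
theorem isNormalRing_of_isGeomNormal (k S : Type u) [Field k] [CommRing S] [Algebra k S]
    (h : EGA4.IsGeomNormal k S) : EGA4.IsNormalRing S :=
  isNormalRing_of_ringEquiv (Algebra.TensorProduct.lid k S).toRingEquiv
    (h k (Module.Finite.self k))

/-- Every maximal ideal of `(1+J)⁻¹A` contracts to a maximal ideal `m ⊇ J` of `A`, over which
lies a prime of the completion. -/
theorem exists_prime_over (T : Submonoid A) (hT : T = MonoidHom.mker (Ideal.Quotient.mk J))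
    (𝔐 : Ideal (Localization T)) [h𝔐 : 𝔐.IsMaximal] :
    ∃ Q : Ideal (AdicCompletion J A), Q.IsMaximal ∧
      Q.comap (algebraMap A (AdicCompletion J A)) = 𝔐.comap (algebraMap A (Localization T)) := by
  set m : Ideal A := 𝔐.comap (algebraMap A (Localization T)) with hm
  haveI : m.IsPrime := Ideal.comap_isPrime _ _
  have hJm : J ≤ m := le_comap_of_isMaximal A J T hT 𝔐
  let φ : AdicCompletion J A →+* A ⧸ m :=
    (Ideal.Quotient.factor hJm).comp (AdicCompletion.evalOneₐ J).toRingHom
  have hφalg : ∀ a : A, φ (algebraMap A (AdicCompletion J A) a) = Ideal.Quotient.mk m a := by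
    intro a
    show Ideal.Quotient.factor hJm ((AdicCompletion.evalOneₐ J) (algebraMap A _ a)) = _
    rw [AlgHom.commutes]
    rfl
  have hunder : (RingHom.ker φ).comap (algebraMap A (AdicCompletion J A)) = m := by
    ext a
    rw [Ideal.mem_comap, RingHom.mem_ker, hφalg, Ideal.Quotient.eq_zero_iff_mem]
  haveI : (RingHom.ker φ).IsPrime := RingHom.ker_isPrime φ
  -- maximality of `ker φ`
  have hφsurj : Function.Surjective φ :=
    (Ideal.Quotient.factor_surjective hJm).comp (AdicCompletion.evalOneₐ_surjective J)
  -- `m` is maximal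
  haveI hmmax : m.IsMaximal := by
    obtain ⟨m', hm'max, hmm'⟩ := Ideal.exists_le_maximal m (Ideal.IsPrime.ne_top inferInstance)
    have hd : Disjoint (T : Set A) m' := by
      rw [Set.disjoint_left]
      intro t ht htm
      have hJm' : J ≤ m' := hJm.trans hmm'
      have h1 : t - 1 ∈ J := by
        rw [← Ideal.Quotient.eq_zero_iff_mem, map_sub, map_one, sub_eq_zero]
        rw [hT] at ht
        exact ht
      have h2 : (1 : A) ∈ m' := by
        have := m'.sub_mem htm (hJm' h1)
        rwa [sub_sub_cancel] at this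
      exact hm'max.ne_top ((Ideal.eq_top_iff_one _).2 h2)
    haveI := hm'max.isPrime
    have hp' : (m'.map (algebraMap A (Localization T))).IsPrime :=
      IsLocalization.isPrime_of_isPrime_disjoint T _ m' inferInstance hd
    have hle : 𝔐 ≤ m'.map (algebraMap A (Localization T)) := by
      rw [← IsLocalization.map_comap T (Localization T) 𝔐]
      exact Ideal.map_mono hmm'
    have heq : 𝔐 = m'.map (algebraMap A (Localization T)) := h𝔐.eq_of_le hp'.ne_top hle
    have : m = m' := by
      rw [hm, heq]
      exact IsLocalization.under_map_of_isPrime_disjoint T _ inferInstance hd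
    rw [this]
    exact hm'max
  letI := Ideal.Quotient.field m
  exact ⟨RingHom.ker φ, RingHom.ker_isMaximal_of_surjective φ hφsurj, hunder⟩

theorem forward (hf : EGA4.IsNormalHom A (AdicCompletion J A))
    (T : Submonoid A) (hT : T = MonoidHom.mker (Ideal.Quotient.mk J))
    (h : EGA4.IsNormalRing (Localization T)) : EGA4.IsNormalRing (AdicCompletion J A) := by
  haveI := ComplRegH3.isNoetherianRing_adicCompletion A J
  haveI : Module.Flat A (AdicCompletion J A) := hf.1
  have hfib : ∀ (q : Ideal (AdicCompletion J A)) [q.IsPrime],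
      IsDomain (EGA4.FibLocRing A (AdicCompletion J A) q) ∧
      IsIntegrallyClosed (EGA4.FibLocRing A (AdicCompletion J A) q) := by
    intro q hq
    obtain ⟨q', hq', ⟨e⟩⟩ := exists_fiber_prime_equiv A (AdicCompletion J A) q
    exact normal_of_ringEquiv e
      (isNormalRing_of_isGeomNormal _ _ (hf.2 (q.under A)) q')
  intro Q hQ
  refine mem_norLocus_of_flat A (AdicCompletion J A) hfib ⟨Q, hQ⟩ ?_
  have hd : Disjoint (T : Set A) (Q.under A) := hT ▸ disjoint_under A J Q
  haveI hp : (Q.under A).IsPrime := inferInstance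
  haveI hp' : ((Q.under A).map (algebraMap A (Localization T))).IsPrime :=
    IsLocalization.isPrime_of_isPrime_disjoint T _ (Q.under A) hp hd
  have hcomap : ((Q.under A).map (algebraMap A (Localization T))).comap
      (algebraMap A (Localization T)) = Q.under A :=
    IsLocalization.under_map_of_isPrime_disjoint T _ hp hd
  have h1 := (mem_norLocus_under_iff A T (Localization T)
    ⟨(Q.under A).map (algebraMap A (Localization T)), hp'⟩).mpr (h _)
  have heq : PrimeSpectrum.comap (algebraMap A (Localization T))
      ⟨(Q.under A).map (algebraMap A (Localization T)), hp'⟩ =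
      PrimeSpectrum.comap (algebraMap A (AdicCompletion J A)) ⟨Q, hQ⟩ := by
    ext1
    exact hcomap
  rw [heq] at h1
  exact h1

theorem backward (T : Submonoid A) (hT : T = MonoidHom.mker (Ideal.Quotient.mk J))
    (h : EGA4.IsNormalRing (AdicCompletion J A)) : EGA4.IsNormalRing (Localization T) := by
  haveI : IsNoetherianRing (AdicCompletion J A) := ComplRegH3.isNoetherianRing_adicCompletion A J
  haveI : Module.Flat A (AdicCompletion J A) := AdicCompletion.flat_of_isNoetherian J
  intro P hP
  obtain ⟨𝔐, h𝔐, hP𝔐⟩ := Ideal.exists_le_maximal P hP.ne_top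
  haveI := h𝔐
  obtain ⟨Q, hQmax, hQ⟩ := exists_prime_over A J T hT 𝔐
  haveI := hQmax.isPrime
  obtain ⟨hd, hic⟩ := h Q
  haveI := hd
  haveI := hic
  have h1 := Groth.Agent.S2610.result A (AdicCompletion J A) Q
  have h2 : (⟨Q.comap (algebraMap A (AdicCompletion J A)), inferInstance⟩ : PrimeSpectrum A) ∈
      EGA4.norLocus A := h1
  have h3 : PrimeSpectrum.comap (algebraMap A (Localization T)) ⟨P, hP⟩ ∈ EGA4.norLocus A := by
    refine stableUnderGeneralization_norLocus A ?_ h2
    rw [← PrimeSpectrum.le_iff_specializes]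
    show P.comap _ ≤ Q.comap _
    rw [hQ]
    exact Ideal.comap_mono hP𝔐
  exact (mem_norLocus_under_iff A T (Localization T) ⟨P, hP⟩).mp h3

theorem main (hf : EGA4.IsNormalHom A (AdicCompletion J A))
    (T : Submonoid A) (hT : T = MonoidHom.mker (Ideal.Quotient.mk J)) :
    EGA4.IsNormalRing (Localization T) ↔ EGA4.IsNormalRing (AdicCompletion J A) :=
  ⟨forward A J hf T hT, backward A J T hT⟩

end Groth.Agent.Lib.NorComplTH3
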