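import Mathlib
import Groth.Prelude.Def_EGA4b

/-!
# Directed colimits of normal rings are normal (helper3)

* `isIntegrallyClosed_iff_scaleRoots` : a domain `D` is integrally closed iff `b ∣ a` whenever
  `a / b` satisfies a monic equation (expressed with `Polynomial.scaleRoots`).
* `normal_of_directed` : a non-trivial ring which is a directed "colimit" (jointly surjective maps,
  kernels die eventually) of integrally closed domains is an integrally closed domain.
* `isNormalRing_of_directed` : the same for normal rings.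
APPEND-ONLY once landed.
-/

set_option autoImplicit false
universe u v w

open Polynomial

namespace Groth.Agent.Lib.NormalLimitH3

section Crit

theorem dvd_of_scaleRoots (D : Type*) [CommRing D] [IsDomain D] [IsIntegrallyClosed D]
    (p : D[X]) (a b : D) (hp : p.Monic) (hb : b ≠ 0) (h : (p.scaleRoots b).eval a = 0) :
    b ∣ a := by
  let K := FractionRing D
  have hinj : Function.Injective (algebraMap D K) := IsFractionRing.injective D K
  have hb' : algebraMap D K b ≠ 0 := fun h0 => hb (hinj (by rw [h0, map_zero]))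
  set x : K := algebraMap D K a / algebraMap D K b with hx
  have h1 : algebraMap D K b * x = algebraMap D K a := by
    rw [hx, mul_div_cancel₀ _ hb']
  have h2 := scaleRoots_eval₂_mul (p := p) (algebraMap D K) x b
  rw [h1, eval₂_at_apply, h, map_zero] at h2
  have h3 : eval₂ (algebraMap D K) x p = 0 := by
    rcases mul_eq_zero.mp h2.symm with h4 | h4
    · exact absurd (eq_zero_of_pow_eq_zero h4) hb'
    · exact h4
  have hint : IsIntegral D x := ⟨p, hp, h3⟩
  obtain ⟨y, hy⟩ := IsIntegrallyClosed.isIntegral_iff.mp hint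
  refine ⟨y, hinj ?_⟩
  rw [map_mul, hy, h1]

theorem isIntegrallyClosed_of_scaleRoots (D : Type*) [CommRing D] [IsDomain D]
    (h : ∀ (p : D[X]) (a b : D), p.Monic → b ≠ 0 → (p.scaleRoots b).eval a = 0 → b ∣ a) :
    IsIntegrallyClosed D := by
  let K := FractionRing D
  have hinj : Function.Injective (algebraMap D K) := IsFractionRing.injective D K
  rw [isIntegrallyClosed_iff K]
  intro x hx
  obtain ⟨a, b, hb, rfl⟩ := IsFractionRing.div_surjective (A := D) x
  obtain ⟨p, hp, hpx⟩ := hx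
  have h1 := scaleRoots_eval₂_eq_zero_of_eval₂_div_eq_zero hinj hpx hb
  rw [eval₂_at_apply] at h1
  have h2 : (p.scaleRoots b).eval a = 0 := hinj (by rw [h1, map_zero])
  obtain ⟨c, hc⟩ := h p a b hp (nonZeroDivisors.ne_zero hb) h2
  refine ⟨c, ?_⟩
  have hb' : algebraMap D K b ≠ 0 := fun h0 =>
    nonZeroDivisors.ne_zero hb (hinj (by rw [h0, map_zero]))
  rw [hc, map_mul, mul_div_cancel_left₀ _ hb']

end Crit

section Directed

variable {ι : Type*} [Preorder ι] [IsDirected ι (· ≤ ·)] [Nonempty ι]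

/-- A non-trivial ring which is a directed colimit of integrally closed domains is an integrally
closed domain. -/
theorem normal_of_directed (D : Type*) [CommRing D] [Nontrivial D]
    (G : ι → Type*) [∀ i, CommRing (G i)] (φ : ∀ i, G i →+* D)
    (ψ : ∀ i j, i ≤ j → G i →+* G j)
    (hφψ : ∀ i j (h : i ≤ j) x, φ j (ψ i j h x) = φ i x)
    (hsurj : ∀ r : D, ∃ i x, φ i x = r)
    (hker : ∀ i x, φ i x = 0 → ∃ j, ∃ h : i ≤ j, ψ i j h x = 0)
    (hG : ∀ i, IsDomain (G i) ∧ IsIntegrallyClosed (G i)) :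
    IsDomain D ∧ IsIntegrallyClosed D := by
  classical
  have hmono : ∀ i j (_ : i ≤ j) (x : D), x ∈ Set.range (φ i) → x ∈ Set.range (φ j) := by
    rintro i j h x ⟨y, rfl⟩
    exact ⟨ψ i j h y, hφψ i j h y⟩
  haveI : NoZeroDivisors D := by
    refine ⟨fun {a b} hab => ?_⟩
    obtain ⟨i, a', rfl⟩ := hsurj a
    obtain ⟨j, b', rfl⟩ := hsurj b
    obtain ⟨k, hik, hjk⟩ := exists_ge_ge i j
    rw [← hφψ i k hik, ← hφψ j k hjk, ← map_mul] at hab
    obtain ⟨l, hkl, hl⟩ := hker k _ hab
    haveI := (hG l).1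
    rw [map_mul] at hl
    rcases mul_eq_zero.mp hl with h0 | h0
    · left
      rw [← hφψ i k hik, ← hφψ k l hkl, h0, map_zero]
    · right
      rw [← hφψ j k hjk, ← hφψ k l hkl, h0, map_zero]
  haveI hdom : IsDomain D := NoZeroDivisors.to_isDomain D
  refine ⟨hdom, isIntegrallyClosed_of_scaleRoots D ?_⟩
  intro p a b hp hb hpab
  -- a common index
  choose jc c hc using hsurj
  obtain ⟨k, hk⟩ := Finset.exists_le (insert (jc a) (insert (jc b) (p.support.image
    (fun n => jc (p.coeff n)))))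
  have hlift : p ∈ Polynomial.lifts (φ k) := by
    rw [lifts_iff_coeff_lifts]
    intro n
    by_cases hn : n ∈ p.support
    · apply hmono (jc (p.coeff n)) k (hk _ ?_) _ ⟨c _, hc _⟩
      apply Finset.mem_insert_of_mem
      apply Finset.mem_insert_of_mem
      exact Finset.mem_image_of_mem _ hn
    · rw [notMem_support_iff.mp hn]
      exact ⟨0, map_zero _⟩
  obtain ⟨q, hq, -, hqm⟩ := lifts_and_degree_eq_and_monic hlift hp
  obtain ⟨a', ha'⟩ := hmono (jc a) k (hk _ (Finset.mem_insert_self _ _)) a ⟨c _, hc _⟩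
  obtain ⟨b', hb'⟩ := hmono (jc b) k (hk _ (Finset.mem_insert_of_mem (Finset.mem_insert_self _ _)))
    b ⟨c _, hc _⟩
  have hy : φ k ((q.scaleRoots b').eval a') = 0 := by
    rw [← eval₂_at_apply, ← eval_map, map_scaleRoots, hq, ha', hb', hpab]
    rw [hqm.leadingCoeff, map_one]
    exact one_ne_zero
  obtain ⟨l, hkl, hl⟩ := hker k _ hy
  haveI := (hG l).1
  haveI := (hG l).2
  have hl' : ((q.map (ψ k l hkl)).scaleRoots (ψ k l hkl b')).eval (ψ k l hkl a') = 0 := by
    rw [← map_scaleRoots, eval_map, eval₂_at_apply, hl]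
    rw [hqm.leadingCoeff, map_one]
    exact one_ne_zero
  have hbl : ψ k l hkl b' ≠ 0 := by
    intro h0
    apply hb
    rw [← hb', ← hφψ k l hkl, h0, map_zero]
  obtain ⟨d, hd⟩ := dvd_of_scaleRoots (G l) _ _ _ (hqm.map _) hbl hl'
  refine ⟨φ l d, ?_⟩
  rw [← ha', ← hb', ← hφψ k l hkl a', ← hφψ k l hkl b', hd, map_mul]

/-- A directed colimit of normal rings is a normal ring. -/
theorem isNormalRing_of_directed (R : Type u) [CommRing R]
    (G : ι → Type u) [∀ i, CommRing (G i)] (φ : ∀ i, G i →+* R)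
    (ψ : ∀ i j, i ≤ j → G i →+* G j)
    (hφψ : ∀ i j (h : i ≤ j) x, φ j (ψ i j h x) = φ i x)
    (hψψ : ∀ i j k (hij : i ≤ j) (hjk : j ≤ k) x, ψ j k hjk (ψ i j hij x) = ψ i k (hij.trans hjk) x)
    (hsurj : ∀ r : R, ∃ i x, φ i x = r)
    (hker : ∀ i x, φ i x = 0 → ∃ j, ∃ h : i ≤ j, ψ i j h x = 0)
    (hG : ∀ i, EGA4.IsNormalRing (G i)) : EGA4.IsNormalRing R := by
  intro P hP
  let Pi : ∀ i, Ideal (G i) := fun i => P.comap (φ i)
  haveI hPi : ∀ i, (Pi i).IsPrime := fun i => Ideal.comap_isPrime _ _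
  have hPij : ∀ i j (h : i ≤ j), Pi i = (Pi j).comap (ψ i j h) := by
    intro i j h
    ext x
    simp only [Pi, Ideal.mem_comap, hφψ]
  let Φ : ∀ i, Localization.AtPrime (Pi i) →+* Localization.AtPrime P :=
    fun i => Localization.localRingHom (Pi i) P (φ i) rfl
  let Ψ : ∀ i j, i ≤ j → Localization.AtPrime (Pi i) →+* Localization.AtPrime (Pi j) :=
    fun i j h => Localization.localRingHom (Pi i) (Pi j) (ψ i j h) (hPij i j h)
  have hmem : ∀ i (x : G i), x ∈ (Pi i).primeCompl ↔ φ i x ∈ P.primeCompl := fun i x => Iff.rfl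
  refine normal_of_directed (ι := ι) (Localization.AtPrime P)
    (fun i => Localization.AtPrime (Pi i)) Φ Ψ ?_ ?_ ?_ (fun i => hG i (Pi i))
  · intro i j h x
    obtain ⟨r, s, rfl⟩ := IsLocalization.exists_mk'_eq (Pi i).primeCompl x
    simp only [Φ, Ψ, Localization.localRingHom_mk', hφψ]
  · intro x
    obtain ⟨r, s, rfl⟩ := IsLocalization.exists_mk'_eq P.primeCompl x
    obtain ⟨i, r', rfl⟩ := hsurj r
    obtain ⟨j, s', hs'⟩ := hsurj s.1
    obtain ⟨k, hik, hjk⟩ := exists_ge_ge i j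
    have hsk : ψ j k hjk s' ∈ (Pi k).primeCompl := by
      rw [hmem, hφψ, hs']
      exact s.2
    refine ⟨k, IsLocalization.mk' _ (ψ i k hik r') ⟨ψ j k hjk s', hsk⟩, ?_⟩
    simp only [Φ, Localization.localRingHom_mk', hφψ]
    congr 1
    exact Subtype.ext hs'
  · intro i x hx
    obtain ⟨r, s, rfl⟩ := IsLocalization.exists_mk'_eq (Pi i).primeCompl x
    simp only [Φ, Localization.localRingHom_mk'] at hx
    rw [IsLocalization.mk'_eq_zero_iff] at hx
    obtain ⟨u, hu⟩ := hx
    obtain ⟨j, u', hu'⟩ := hsurj u.1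
    obtain ⟨k, hik, hjk⟩ := exists_ge_ge i j
    have h1 : φ k (ψ j k hjk u' * ψ i k hik r) = 0 := by
      rw [map_mul, hφψ, hφψ, hu', hu]
    obtain ⟨l, hkl, hl⟩ := hker k _ h1
    refine ⟨l, hik.trans hkl, ?_⟩
    simp only [Ψ, Localization.localRingHom_mk']
    rw [IsLocalization.mk'_eq_zero_iff]
    have hul : ψ k l hkl (ψ j k hjk u') ∈ (Pi l).primeCompl := by
      rw [hmem, hφψ, hφψ, hu']
      exact u.2
    refine ⟨⟨_, hul⟩, ?_⟩
    rw [map_mul, hψψ i k l hik hkl] at hl
    exact hl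

end Directed

end Groth.Agent.Lib.NormalLimitH3
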