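import Mathlib
import Groth.Prelude.Def_EGA4b
import Groth.Agent.Lib.GeomNormal_helper3
import Groth.Agent.Lib.NormalLimit_helper3
import Groth.Agent.Lib.NorComplT_helper3

/-!
# Geometric normality and arbitrary field extensions (helper3)

* `isNormalRing_tensor_of_forall_fg` : `K ⊗[k] T` is normal as soon as `L ⊗[k] T` is normal for all
  finitely generated subextensions `L` of `K`.
* `isNormalRing_tensor_of_isGeomNormal` : `T` Noetherian geometrically normal over `k` ⇒
  `K ⊗[k] T` normal for every field extension `K`.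
* `isNormalRing_tensor_of_isNormalHom'` : `A → B` normal, `B` Noetherian, `K` any field over `A` ⇒
  `K ⊗[A] B` normal.
APPEND-ONLY once landed.
-/

set_option autoImplicit false
set_option maxSynthPendingDepth 3
universe u

open TensorProduct

namespace Groth.Agent.Lib.GeomNormal2H3

open Groth.Agent.Lib.NormalLimitH3 Groth.Agent.Lib.GeomNormalH3

section FieldLimit

variable (k : Type u) [Field k] (K : Type u) [Field K] [Algebra k K] (T : Type u) [CommRing T]
  [Algebra k T]

/-- finitely generated subextensions -/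
abbrev FGSub := {L : IntermediateField k K // L.FG}

instance : Nonempty (FGSub k K) := ⟨⟨⊥, IntermediateField.fg_bot⟩⟩

instance : IsDirected (FGSub k K) (· ≤ ·) :=
  ⟨fun a b => ⟨⟨a.1 ⊔ b.1, IntermediateField.fg_sup a.2 b.2⟩,
    Subtype.coe_le_coe.mp le_sup_left, Subtype.coe_le_coe.mp le_sup_right⟩⟩

theorem isNormalRing_tensor_of_forall_fg
    (h : ∀ L : IntermediateField k K, L.FG → EGA4.IsNormalRing (L ⊗[k] T)) :
    EGA4.IsNormalRing (K ⊗[k] T) := by
  let φ : ∀ L : FGSub k K, (L.1 ⊗[k] T) →+* (K ⊗[k] T) :=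
    fun L => (Algebra.TensorProduct.map L.1.val (AlgHom.id k T)).toRingHom
  let ψ : ∀ L L' : FGSub k K, L ≤ L' → (L.1 ⊗[k] T) →+* (L'.1 ⊗[k] T) :=
    fun L L' h => (Algebra.TensorProduct.map (IntermediateField.inclusion h)
      (AlgHom.id k T)).toRingHom
  have hφψ : ∀ (L L' : FGSub k K) (h : L ≤ L') (x : L.1 ⊗[k] T), φ L' (ψ L L' h x) = φ L x := by
    intro L L' h x
    induction x using TensorProduct.induction_on with
    | zero => simp
    | tmul a t => rfl
    | add x y hx hy => rw [map_add, map_add, hx, hy, map_add]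
  have hinj : ∀ L, Function.Injective (φ L) := by
    intro L
    have h1 : Function.Injective (LinearMap.rTensor T (L.1.val.toLinearMap)) :=
      Module.Flat.rTensor_preserves_injective_linearMap _ Subtype.val_injective
    intro x y hxy
    exact h1 hxy
  refine isNormalRing_of_directed (ι := FGSub k K) (K ⊗[k] T) (fun L => L.1 ⊗[k] T) φ ψ hφψ
    ?_ ?_ ?_ (fun L => h L.1 L.2)
  · intro L L' L'' h h' x
    induction x using TensorProduct.induction_on with
    | zero => simp
    | tmul a t => rfl
    | add x y hx hy => rw [map_add, map_add, hx, hy, map_add]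
  · intro r
    induction r using TensorProduct.induction_on with
    | zero => exact ⟨⟨⊥, IntermediateField.fg_bot⟩, 0, map_zero _⟩
    | tmul a t =>
      exact ⟨⟨IntermediateField.adjoin k {a},
        IntermediateField.fg_adjoin_of_finite (Set.finite_singleton a)⟩,
        (⟨a, IntermediateField.mem_adjoin_simple_self k a⟩ : IntermediateField.adjoin k {a}) ⊗ₜ t,
        rfl⟩
    | add x y hx hy =>
      obtain ⟨L1, x1, rfl⟩ := hx
      obtain ⟨L2, x2, rfl⟩ := hy
      obtain ⟨L, h1, h2⟩ := exists_ge_ge L1 L2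
      exact ⟨L, ψ L1 L h1 x1 + ψ L2 L h2 x2, by rw [map_add, hφψ, hφψ]⟩
  · intro L x hx
    have : x = 0 := hinj L (by rw [hx, map_zero])
    exact ⟨L, le_rfl, by rw [this, map_zero]⟩

/-- A Noetherian geometrically normal algebra stays normal after any field extension. -/
theorem isNormalRing_tensor_of_isGeomNormal [IsNoetherianRing T] (hT : EGA4.IsGeomNormal k T) :
    EGA4.IsNormalRing (K ⊗[k] T) := by
  apply isNormalRing_tensor_of_forall_fg
  intro L hL
  haveI : Algebra.EssFiniteType k L := IntermediateField.essFiniteType_iff.mpr hL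
  exact isNormalRing_tensor_of_forall_pi k T (fun k' _ _ hfin _ => hT k' hfin) L

end FieldLimit

section NormalHom

variable (A B : Type u) [CommRing A] [CommRing B] [Algebra A B]

/-- For a normal homomorphism `A → B` with `B` Noetherian and any field `K` over `A`,
`K ⊗[A] B` is a normal ring. -/
theorem isNormalRing_tensor_of_isNormalHom' [IsNoetherianRing B] (h : EGA4.IsNormalHom A B)
    (K : Type u) [Field K] [Algebra A K] : EGA4.IsNormalRing (K ⊗[A] B) := by
  obtain ⟨p, hp, alg, tower⟩ := Groth.Agent.Lib.RegHomBCH3.exists_algebra_residueField A K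
  letI := alg
  haveI := tower
  haveI := hp
  haveI : IsNoetherianRing (p.Fiber B) := Groth.Agent.Lib.RegFlatH3.isNoetherianRing_fiber A B p
  let e : K ⊗[p.ResidueField] (p.Fiber B) ≃ₐ[K] K ⊗[A] B :=
    Algebra.TensorProduct.cancelBaseChange A p.ResidueField K K B
  have h1 := isNormalRing_tensor_of_isGeomNormal p.ResidueField K (p.Fiber B) (h.2 p)
  exact isNormalRing_of_ringEquiv e.toRingEquiv h1

/-- Normal hom `A → B`, `A'` a normal Noetherian `A`-algebra ⇒ `A' ⊗[A] B` normal, provided
it is Noetherian. -/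
theorem isNormalRing_baseChange' [IsNoetherianRing B] (h : EGA4.IsNormalHom A B) (A' : Type u)
    [CommRing A'] [Algebra A A'] [IsNoetherianRing A']
    (hA' : EGA4.IsNormalRing A') [IsNoetherianRing (A' ⊗[A] B)] :
    EGA4.IsNormalRing (A' ⊗[A] B) := by
  haveI : Module.Flat A B := h.1
  apply isNormalRing_of_flat_of_normal_fibers A' (A' ⊗[A] B) ?_ hA'
  intro q hq
  let e : q.ResidueField ⊗[A'] (A' ⊗[A] B) ≃ₐ[q.ResidueField] q.ResidueField ⊗[A] B :=
    Algebra.TensorProduct.cancelBaseChange A A' q.ResidueField q.ResidueField B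
  have h1 := isNormalRing_tensor_of_isNormalHom' A B h q.ResidueField
  exact isNormalRing_of_ringEquiv e.symm.toRingEquiv h1

end NormalHom

end Groth.Agent.Lib.GeomNormal2H3

namespace Groth.Agent.Lib.GeomNormal2H3

open Groth.Agent.Lib.NormalLimitH3 Groth.Agent.Lib.GeomNormalH3

section TensorField

variable (k S T : Type u) [Field k] [CommRing S] [CommRing T] [Algebra k S] [Algebra k T]

/-- `S` normal, `T` geometrically normal (all three rings Noetherian) ⇒ `S ⊗[k] T` normal. -/
theorem isNormalRing_tensor [IsNoetherianRing S] [IsNoetherianRing T]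
    [IsNoetherianRing (S ⊗[k] T)] (hS : EGA4.IsNormalRing S) (hT : EGA4.IsGeomNormal k T) :
    EGA4.IsNormalRing (S ⊗[k] T) := by
  apply isNormalRing_of_flat_of_normal_fibers S (S ⊗[k] T) ?_ hS
  intro p hp
  let e : p.ResidueField ⊗[S] (S ⊗[k] T) ≃ₐ[p.ResidueField] p.ResidueField ⊗[k] T :=
    Algebra.TensorProduct.cancelBaseChange k S p.ResidueField p.ResidueField T
  exact isNormalRing_of_ringEquiv e.symm.toRingEquiv
    (isNormalRing_tensor_of_isGeomNormal k p.ResidueField T hT)

/-- both geometrically normal ⇒ the tensor product is geometrically normal -/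
theorem isGeomNormal_tensor [IsNoetherianRing S] [IsNoetherianRing T]
    [IsNoetherianRing (S ⊗[k] T)] (hS : EGA4.IsGeomNormal k S) (hT : EGA4.IsGeomNormal k T) :
    EGA4.IsGeomNormal k (S ⊗[k] T) := by
  intro k' _ _ hfin
  haveI := hfin
  haveI : IsNoetherianRing (k' ⊗[k] S) :=
    Groth.Agent.Lib.GeomRegFSH3.isNoetherianRing_tensor_of_finite (k := k) (S := S) k'
  haveI : IsNoetherianRing (k' ⊗[k] (S ⊗[k] T)) :=
    Groth.Agent.Lib.GeomRegFSH3.isNoetherianRing_tensor_of_finite (k := k) (S := S ⊗[k] T) k'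
  let e : (k' ⊗[k] S) ⊗[k] T ≃ₐ[k] k' ⊗[k] (S ⊗[k] T) :=
    Algebra.TensorProduct.assoc k k k k' S T
  haveI : IsNoetherianRing ((k' ⊗[k] S) ⊗[k] T) := isNoetherianRing_of_ringEquiv _ e.symm.toRingEquiv
  exact isNormalRing_of_ringEquiv e.toRingEquiv
    (isNormalRing_tensor k (k' ⊗[k] S) T (hS k' hfin) hT)

end TensorField

end Groth.Agent.Lib.GeomNormal2H3

namespace Groth.Agent.Lib.GeomNormal2H3

open Groth.Agent.Lib.NormalLimitH3 Groth.Agent.Lib.GeomNormalH3

section Descent

/-- flat descent of normality at a prime, without Noetherian hypotheses -/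
theorem normal_under_of_flat (A B : Type u) [CommRing A] [CommRing B] [Algebra A B]
    [Module.Flat A B] (q : Ideal B) [q.IsPrime]
    [IsDomain (Localization.AtPrime q)] [IsIntegrallyClosed (Localization.AtPrime q)] :
    IsDomain (Localization.AtPrime (q.comap (algebraMap A B))) ∧
      IsIntegrallyClosed (Localization.AtPrime (q.comap (algebraMap A B))) := by
  classical
  set p := q.comap (algebraMap A B) with hp
  let φ : Localization.AtPrime p →+* Localization.AtPrime q :=
    Localization.localRingHom p q (algebraMap A B) rfl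
  letI : Algebra (Localization.AtPrime p) (Localization.AtPrime q) := φ.toAlgebra
  have hflat : φ.Flat :=
    RingHom.Flat.localRingHom (RingHom.flat_algebraMap_iff.mpr inferInstance) q p rfl
  haveI : Module.Flat (Localization.AtPrime p) (Localization.AtPrime q) := hflat
  haveI : IsLocalHom (algebraMap (Localization.AtPrime p) (Localization.AtPrime q)) :=
    Localization.isLocalHom_localRingHom p q (algebraMap A B) rfl
  haveI : Module.FaithfullyFlat (Localization.AtPrime p) (Localization.AtPrime q) :=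
    Module.FaithfullyFlat.of_flat_of_isLocalHom
  exact ⟨Groth.Agent.Lib.NormalDescent.isDomain_of_faithfullyFlat _ (Localization.AtPrime q),
    Groth.Agent.Lib.NormalDescent.isIntegrallyClosed_of_faithfullyFlat _ (Localization.AtPrime q)⟩

/-- descent of normality along faithfully flat maps, without Noetherian hypotheses -/
theorem isNormalRing_of_faithfullyFlat' (A B : Type u) [CommRing A] [CommRing B]
    [Algebra A B] [Module.FaithfullyFlat A B]
    (hB : EGA4.IsNormalRing B) : EGA4.IsNormalRing A := by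
  intro p hp
  obtain ⟨q, hq⟩ := PrimeSpectrum.comap_surjective_of_faithfullyFlat (A := A) (B := B) ⟨p, hp⟩
  obtain ⟨hd, hic⟩ := hB q.asIdeal
  haveI := hd
  haveI := hic
  have h1 := normal_under_of_flat A B q.asIdeal
  have heq : q.asIdeal.comap (algebraMap A B) = p := congrArg PrimeSpectrum.asIdeal hq
  have tr : ∀ (r : Ideal A) [r.IsPrime], r = p →
      (IsDomain (Localization.AtPrime r) ∧ IsIntegrallyClosed (Localization.AtPrime r)) →
      (IsDomain (Localization.AtPrime p) ∧ IsIntegrallyClosed (Localization.AtPrime p)) := by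
    intro r _ e h
    subst e
    exact h
  exact tr _ heq h1

/-- descent of normality along a field extension of the base, without Noetherian hypotheses -/
theorem isNormalRing_of_fieldExt' (k K K' S : Type u) [Field k] [Field K] [Field K']
    [Algebra k K] [Algebra k K'] [Algebra K K'] [IsScalarTower k K K'] [CommRing S] [Algebra k S]
    (h : EGA4.IsNormalRing (K' ⊗[k] S)) : EGA4.IsNormalRing (K ⊗[k] S) := by
  let e : (K ⊗[k] S) ⊗[K] K' ≃+* K' ⊗[k] S :=
    (Algebra.TensorProduct.comm K (K ⊗[k] S) K').toRingEquiv.trans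
      (Algebra.TensorProduct.cancelBaseChange k K K' K' S).toRingEquiv
  have hB : EGA4.IsNormalRing ((K ⊗[k] S) ⊗[K] K') := isNormalRing_of_ringEquiv e.symm h
  exact isNormalRing_of_faithfullyFlat' (K ⊗[k] S) ((K ⊗[k] S) ⊗[K] K') hB

end Descent

section BaseChange

variable (A B A' : Type u) [CommRing A] [CommRing B] [CommRing A'] [Algebra A B] [Algebra A A']

/-- base change of a normal homomorphism (Noetherian target) -/
theorem isNormalHom_baseChange [IsNoetherianRing B] (h : EGA4.IsNormalHom A B) :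
    EGA4.IsNormalHom A' (A' ⊗[A] B) := by
  haveI : Module.Flat A B := h.1
  refine ⟨inferInstance, ?_⟩
  intro q hq k' _ _ hfin
  letI : Algebra A' k' :=
    ((algebraMap q.ResidueField k').comp (algebraMap A' q.ResidueField)).toAlgebra
  haveI : IsScalarTower A' q.ResidueField k' := IsScalarTower.of_algebraMap_eq fun _ => rfl
  letI : Algebra A k' := ((algebraMap A' k').comp (algebraMap A A')).toAlgebra
  haveI : IsScalarTower A A' k' := IsScalarTower.of_algebraMap_eq fun _ => rfl
  let e1 : k' ⊗[q.ResidueField] (q.Fiber (A' ⊗[A] B)) ≃ₐ[k'] k' ⊗[A'] (A' ⊗[A] B) :=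
    Algebra.TensorProduct.cancelBaseChange A' q.ResidueField k' k' (A' ⊗[A] B)
  let e2 : k' ⊗[A'] (A' ⊗[A] B) ≃ₐ[k'] k' ⊗[A] B :=
    Algebra.TensorProduct.cancelBaseChange A A' k' k' B
  have h1 := isNormalRing_tensor_of_isNormalHom' A B h k'
  exact isNormalRing_of_ringEquiv (e1.trans e2).symm.toRingEquiv h1

/-- faithfully flat descent of normal homomorphisms -/
theorem isNormalHom_of_baseChange [IsNoetherianRing (A' ⊗[A] B)] [Module.FaithfullyFlat A A']
    (h : EGA4.IsNormalHom A' (A' ⊗[A] B)) : EGA4.IsNormalHom A B := by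
  haveI : Module.Flat A' (A' ⊗[A] B) := h.1
  refine ⟨Module.Flat.of_flat_tensorProduct A B A', ?_⟩
  intro p hp k' _ _ hfin
  letI : Algebra A k' :=
    ((algebraMap p.ResidueField k').comp (algebraMap A p.ResidueField)).toAlgebra
  haveI : IsScalarTower A p.ResidueField k' := IsScalarTower.of_algebraMap_eq fun _ => rfl
  -- a field containing `k'` and a residue field of `A'`
  haveI : Nontrivial (k' ⊗[A] A') :=
    (Module.FaithfullyFlat.nontrivial_tensorProduct_iff_left A k' (N := A')).mpr inferInstance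
  obtain ⟨M, hM⟩ := Ideal.exists_maximal (k' ⊗[A] A')
  haveI := hM
  let Ω := (k' ⊗[A] A') ⧸ M
  letI : Field Ω := Ideal.Quotient.field M
  letI : Algebra A' Ω := ((Ideal.Quotient.mk M).comp
    (Algebra.TensorProduct.includeRight : A' →ₐ[A] k' ⊗[A] A').toRingHom).toAlgebra
  haveI : IsScalarTower A A' Ω := IsScalarTower.of_algebraMap_eq fun a => by
    show Ideal.Quotient.mk M (algebraMap A (k' ⊗[A] A') a) =
      Ideal.Quotient.mk M ((Algebra.TensorProduct.includeRight : A' →ₐ[A] k' ⊗[A] A')
        (algebraMap A A' a))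
    rw [AlgHom.commutes]
  have h1 : EGA4.IsNormalRing (Ω ⊗[A'] (A' ⊗[A] B)) :=
    isNormalRing_tensor_of_isNormalHom' A' (A' ⊗[A] B) h Ω
  let e1 : Ω ⊗[A'] (A' ⊗[A] B) ≃ₐ[Ω] Ω ⊗[A] B :=
    Algebra.TensorProduct.cancelBaseChange A A' Ω Ω B
  have h2 : EGA4.IsNormalRing (Ω ⊗[A] B) := isNormalRing_of_ringEquiv e1.toRingEquiv h1
  haveI : IsScalarTower p.ResidueField k' Ω := inferInstance
  haveI : IsScalarTower A p.ResidueField Ω := inferInstance
  let e2 : Ω ⊗[p.ResidueField] (p.Fiber B) ≃ₐ[Ω] Ω ⊗[A] B :=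
    Algebra.TensorProduct.cancelBaseChange A p.ResidueField Ω Ω B
  have h3 : EGA4.IsNormalRing (Ω ⊗[p.ResidueField] (p.Fiber B)) :=
    isNormalRing_of_ringEquiv e2.symm.toRingEquiv h2
  exact isNormalRing_of_fieldExt' p.ResidueField k' Ω (p.Fiber B) h3

end BaseChange

end Groth.Agent.Lib.GeomNormal2H3

namespace Groth.Agent.Lib.GeomNormal2H3

open Groth.Agent.Lib.NormalLimitH3 Groth.Agent.Lib.GeomNormalH3

section Pushout

variable (A B : Type u) [CommRing A] [CommRing B] [Algebra A B]

/-- Base change of a normal homomorphism, pushout form. -/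
theorem isNormalHom_of_isPushout [IsNoetherianRing B] (A' B' : Type u) [CommRing A'] [CommRing B']
    [Algebra A A'] [Algebra A' B'] [Algebra B B'] [Algebra A B'] [IsScalarTower A A' B']
    [IsScalarTower A B B'] [Algebra.IsPushout A B A' B'] (h : EGA4.IsNormalHom A B) :
    EGA4.IsNormalHom A' B' := by
  haveI : Module.Flat A B := h.1
  haveI hpo' : Algebra.IsPushout A A' B B' := Algebra.IsPushout.symm inferInstance
  haveI : Module.Flat A' B' :=
    Module.Flat.of_linearEquiv (Algebra.IsPushout.equiv A A' B B').symm.toLinearEquiv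
  refine ⟨inferInstance, ?_⟩
  intro q hq k' _ _ hfin
  letI : Algebra A' k' :=
    ((algebraMap q.ResidueField k').comp (algebraMap A' q.ResidueField)).toAlgebra
  haveI : IsScalarTower A' q.ResidueField k' := IsScalarTower.of_algebraMap_eq fun _ => rfl
  letI : Algebra A k' := Algebra.compHom k' (algebraMap A A')
  haveI : IsScalarTower A A' k' := IsScalarTower.of_algebraMap_eq (fun _ => rfl)
  let e0 : k' ⊗[q.ResidueField] (q.Fiber B') ≃ₐ[k'] k' ⊗[A'] B' :=
    Algebra.TensorProduct.cancelBaseChange A' q.ResidueField k' k' B'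
  let e1 : B' ⊗[A'] k' ≃ₐ[B] B ⊗[A] k' := Algebra.IsPushout.cancelBaseChangeAlg A B A' B' k'
  let e : k' ⊗[A'] B' ≃+* k' ⊗[A] B :=
    (Algebra.TensorProduct.comm A' k' B').toRingEquiv.trans
      (e1.toRingEquiv.trans (Algebra.TensorProduct.comm A B k').toRingEquiv)
  have h1 := isNormalRing_tensor_of_isNormalHom' A B h k'
  exact isNormalRing_of_ringEquiv (e0.toRingEquiv.trans e).symm h1

end Pushout

end Groth.Agent.Lib.GeomNormal2H3
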