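import Mathlib
import Groth.Prelude.Def_Found
import Groth.Agent.Lib.Regular_helper5

/-!
# Regular rings: reducedness; finite reduced algebras over a field are regular (helper3)
APPEND-ONLY once landed.
-/

set_option autoImplicit false

namespace Groth.Agent.Lib.RegHomFieldH3

open TensorProduct IsLocalRing

universe u

/-- a regular ring is reduced -/
theorem isReduced_of_isRegularRing (R : Type u) [CommRing R] [IsRegularRing R] : IsReduced R := by
  constructor
  intro x hx
  apply eq_zero_of_localization
  intro J hJ
  haveI : IsDomain (Localization.AtPrime J) :=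
    Groth.Agent.RegularLib.isDomain (Localization.AtPrime J)
  exact (hx.map (algebraMap R (Localization.AtPrime J))).eq_zero

/-- an Artinian reduced ring is regular -/
theorem isRegularRing_of_isArtinian_of_isReduced (T : Type u) [CommRing T] [IsArtinianRing T]
    [IsReduced T] : IsRegularRing T := by
  rw [isRegularRing_iff]
  intro p hp
  have hnil : IsNilpotent (maximalIdeal (Localization.AtPrime p)) := by
    have h1 : IsNilpotent (⊥ : Ideal (Localization.AtPrime p)).jacobson :=
      IsArtinianRing.isNilpotent_jacobson_bot
    rwa [IsLocalRing.jacobson_eq_maximalIdeal ⊥ bot_ne_top] at h1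
  have hbot : maximalIdeal (Localization.AtPrime p) = ⊥ := by
    obtain ⟨n, hn⟩ := hnil
    rw [eq_bot_iff]
    intro x hx
    have h2 : x ^ n ∈ maximalIdeal (Localization.AtPrime p) ^ n := Ideal.pow_mem_pow hx n
    rw [hn] at h2
    have h3 : x ^ n = 0 := h2
    exact (Ideal.mem_bot).2 (IsReduced.eq_zero x ⟨n, h3⟩)
  letI : Field (Localization.AtPrime p) :=
    (IsLocalRing.isField_iff_maximalIdeal_eq.2 hbot).toField
  infer_instance

end Groth.Agent.Lib.RegHomFieldH3
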