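import Mathlib
import Groth.Prelude.Def_Found
import Groth.Prelude.Def_EGA4b
import Groth.Agent.Lib.FFNagata_helper3
import Groth.Agent.Lib.NorLocus_helper3
import Groth.Agent.Lib.RegHomField_helper3
import Groth.Agent.Lib.Japanese_helper9

/-!
# Quasi-excellent rings are Nagata (helper3)
APPEND-ONLY once landed.
-/

set_option autoImplicit false
universe u

namespace Groth.Agent.Lib.QENagataH3

open TensorProduct IsLocalRing Groth.Agent.Lib.NorLocusH3

section W

/-- reduced after every finite field extension ⇒ geometrically reduced -/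
theorem isGeometricallyReduced_of_forall_finite (k S : Type u) [Field k] [CommRing S] [Algebra k S]
    (h : ∀ (k' : Type u) [Field k'] [Algebra k k'], Module.Finite k k' → IsReduced (k' ⊗[k] S)) :
    Algebra.IsGeometricallyReduced k S := by
  rw [Algebra.isGeometricallyReduced_field_iff]
  have h1 : IsReduced (S ⊗[k] AlgebraicClosure k) := by
    apply IsReduced.tensorProduct_of_flat_of_forall_fg
    intro F hF
    letI : Field F := (Subalgebra.isField_of_algebraic F).toField
    haveI : Algebra.FiniteType k F := (Subalgebra.fg_iff_finiteType F).1 hF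
    haveI : Algebra.IsAlgebraic k F :=
      Algebra.IsAlgebraic.of_injective F.val Subtype.val_injective
    haveI : Algebra.IsIntegral k F := Algebra.IsAlgebraic.isIntegral
    haveI : Module.Finite k F := Algebra.IsIntegral.finite
    haveI := h F inferInstance
    exact isReduced_of_injective (Algebra.TensorProduct.comm k S F) (AlgEquiv.injective _)
  exact isReduced_of_injective (Algebra.TensorProduct.comm k (AlgebraicClosure k) S)
    (AlgEquiv.injective _)

end W

section Z

variable {R : Type*} [CommRing R] [IsDomain R] (K : Type*) [Field K] [Algebra R K]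
  [IsFractionRing R K]

/-- `(R_q)'` is contained in `(1/c) R_q` for some nonzero `c`. -/
def N1At (q : Ideal R) : Prop :=
  ∃ c : R, c ≠ 0 ∧ ∀ t : K, IsIntegral R t → ∃ u ∉ q, ∃ r : R, algebraMap R K r = (u * c) • t

variable {K}

/-- membership in an ideal can be tested at the associated primes of the quotient -/
theorem mem_of_forall_associatedPrimes [IsNoetherianRing R] (I : Ideal R) (r : R)
    (h : ∀ q ∈ associatedPrimes R (R ⧸ I), ∃ u ∉ q, u * r ∈ I) : r ∈ I := by
  by_contra hr
  have hne : (Ideal.Quotient.mk I r) ≠ 0 := by rwa [Ne, Ideal.Quotient.eq_zero_iff_mem]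
  obtain ⟨P, hP, hle⟩ :=
    exists_le_isAssociatedPrime_of_isNoetherianRing R (Ideal.Quotient.mk I r) hne
  obtain ⟨u, hu, hur⟩ := h P ((AssociatedPrimes.mem_iff).2 hP)
  apply hu
  apply hle
  rw [Submodule.mem_colon_singleton, Submodule.mem_bot,
    show u • (Ideal.Quotient.mk I r) = Ideal.Quotient.mk I (u * r) from rfl,
    Ideal.Quotient.eq_zero_iff_mem]
  exact hur

theorem exists_pow_smul_mem_of_normalAt_away (x : R)
    (hxq : ∀ q : Ideal R, q.IsPrime → x ∉ q → NormalAt K q) (t : K) (ht : IsIntegral R t) :
    ∃ k : ℕ, ∃ r : R, algebraMap R K r = (x ^ k) • t := by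
  let N : Submodule R K := LinearMap.range (Algebra.linearMap R K)
  let D : Ideal R := N.colon {t}
  have hD : ∀ u, u ∈ D ↔ ∃ r : R, algebraMap R K r = u • t := by
    intro u
    rw [Submodule.mem_colon_singleton]
    simp [N]
  have hx : x ∈ D.radical := by
    rw [Ideal.radical_eq_sInf, Submodule.mem_sInf]
    rintro q ⟨hDq, hq⟩
    by_contra hxq'
    obtain ⟨u, hu, r, hr⟩ := hxq q hq hxq' t ht
    exact hu (hDq ((hD u).2 ⟨r, hr⟩))
  obtain ⟨k, hk⟩ := hx
  exact ⟨k, (hD _).1 hk⟩

theorem exists_uniform_denominator_of_N1At [IsNoetherianRing R] (x : R) (hx : x ≠ 0)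
    (hxq : ∀ q : Ideal R, q.IsPrime → x ∉ q → NormalAt K q)
    (hass : ∀ q ∈ associatedPrimes R (R ⧸ Ideal.span {x}), N1At K q) :
    ∃ c : R, c ≠ 0 ∧ ∀ t : K, IsIntegral R t → ∃ r : R, algebraMap R K r = c • t := by
  classical
  have hfin : (associatedPrimes R (R ⧸ Ideal.span {x})).Finite := associatedPrimes.finite R _
  choose! cq hcq0 hcq using hass
  let c : R := ∏ q ∈ hfin.toFinset, cq q
  have hc0 : c ≠ 0 := Finset.prod_ne_zero_iff.2 (fun q hq => hcq0 q (hfin.mem_toFinset.1 hq))
  have hX : algebraMap R K x ≠ 0 := (map_ne_zero_iff _ (IsFractionRing.injective R K)).mpr hx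
  refine ⟨c, hc0, fun t ht => ?_⟩
  have ht' : IsIntegral R (c • t) := ht.smul c
  obtain ⟨k, r, hr⟩ := exists_pow_smul_mem_of_normalAt_away x hxq (c • t) ht'
  induction k generalizing r with
  | zero => exact ⟨r, by simpa using hr⟩
  | succ k ih =>
    have hmem : r ∈ Ideal.span {x} := by
      apply mem_of_forall_associatedPrimes
      intro q hq
      obtain ⟨u, hu, r', hr'⟩ := hcq q hq t ht
      refine ⟨u, hu, ?_⟩
      rw [Ideal.mem_span_singleton']
      refine ⟨x ^ k * (∏ q' ∈ hfin.toFinset.erase q, cq q') * r', ?_⟩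
      apply IsFractionRing.injective R K
      have hcq' : c = cq q * ∏ q' ∈ hfin.toFinset.erase q, cq q' :=
        (Finset.mul_prod_erase _ _ (hfin.mem_toFinset.2 hq)).symm
      rw [map_mul, map_mul, map_mul, map_mul, hr, hr', hcq']
      simp only [Algebra.smul_def, map_mul, map_pow]
      ring
    obtain ⟨r1, hr1⟩ := Ideal.mem_span_singleton'.1 hmem
    apply ih r1
    apply mul_left_cancel₀ hX
    rw [← map_mul, mul_comm, hr1, hr]
    simp only [Algebra.smul_def, map_mul, map_pow]
    ring

theorem finite_integralClosure_of_uniform_denominator [IsNoetherianRing R] (c : R) (hc : c ≠ 0)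
    (h : ∀ t : K, IsIntegral R t → ∃ r : R, algebraMap R K r = c • t) :
    Module.Finite R (integralClosure R K) := by
  have hinj : Function.Injective (LinearMap.lsmul R K c) := by
    intro a b hab
    simp only [LinearMap.lsmul_apply, Algebra.smul_def] at hab
    exact mul_left_cancel₀ ((map_ne_zero_iff _ (IsFractionRing.injective R K)).2 hc) hab
  have hle : (integralClosure R K).toSubmodule.map (LinearMap.lsmul R K c) ≤
      LinearMap.range (Algebra.linearMap R K) := by
    rintro _ ⟨t, ht, rfl⟩
    obtain ⟨r, hr⟩ := h t ht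
    exact ⟨r, hr⟩
  have hfg : (LinearMap.range (Algebra.linearMap R K)).FG := by
    rw [LinearMap.range_eq_map]
    exact Submodule.FG.map _ Module.Finite.fg_top
  have h2 := Submodule.FG.of_le hfg hle
  have h3 := Submodule.fg_of_fg_map_injective _ hinj h2
  exact (Module.Finite.iff_fg (N := (integralClosure R K).toSubmodule)).2 h3

end Z

section Loc

theorem n1At_of_isN1_localization {B : Type u} [CommRing B] [IsDomain B] (q : Ideal B)
    [q.IsPrime] (T : Submonoid B) (hT : T ≤ q.primeCompl) [IsDomain (Localization T)]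
    (h : CAlg.IsN1 (Localization T)) : N1At (FractionRing B) q := by
  classical
  have hT0 : T ≤ nonZeroDivisors B := by
    intro s hs
    apply mem_nonZeroDivisors_of_ne_zero
    rintro rfl
    exact hT hs (zero_mem q)
  letI : Algebra (Localization T) (FractionRing B) :=
    (IsLocalization.lift (M := T) (g := algebraMap B (FractionRing B))
      (fun s => IsLocalization.map_units (M := nonZeroDivisors B) _ ⟨s.1, hT0 s.2⟩)).toAlgebra
  haveI : IsScalarTower B (Localization T) (FractionRing B) :=
    IsScalarTower.of_algebraMap_eq (fun b => (IsLocalization.lift_eq _ b).symm)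
  haveI : IsFractionRing (Localization T) (FractionRing B) :=
    IsFractionRing.isFractionRing_of_isDomain_of_isLocalization T (Localization T)
      (FractionRing B)
  have hfin : Module.Finite (Localization T)
      (integralClosure (Localization T) (FractionRing B)) :=
    (Groth.Agent.Lib.Japanese.isN1_iff (Localization T) (FractionRing B)).1 h
  obtain ⟨G, hG⟩ := (Module.Finite.iff_fg
    (N := (integralClosure (Localization T) (FractionRing B)).toSubmodule)).1 hfin
  obtain ⟨c, hc⟩ := IsLocalization.exist_integer_multiples_of_finset (nonZeroDivisors B) G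
  refine ⟨c, nonZeroDivisors.ne_zero c.2, fun t ht => ?_⟩
  have ht' : IsIntegral (Localization T) t := ht.tower_top
  have htG : t ∈ Submodule.span (Localization T) (G : Set (FractionRing B)) := by
    rw [hG]; exact ht'
  have hclaim : ∀ y ∈ Submodule.span (Localization T) (G : Set (FractionRing B)),
      ∃ z : Localization T, algebraMap (Localization T) (FractionRing B) z = (c : B) • y := by
    intro y hy
    induction hy using Submodule.span_induction with
    | mem y hy =>
      obtain ⟨b, hb⟩ := hc y hy
      refine ⟨algebraMap B _ b, ?_⟩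
      rw [← IsScalarTower.algebraMap_apply]
      exact hb
    | zero => exact ⟨0, by simp⟩
    | add y z _ _ hy hz =>
      obtain ⟨a, ha⟩ := hy
      obtain ⟨b, hb⟩ := hz
      exact ⟨a + b, by rw [map_add, ha, hb, smul_add]⟩
    | smul a y _ hy =>
      obtain ⟨b, hb⟩ := hy
      exact ⟨a * b, by rw [map_mul, hb, smul_comm, Algebra.smul_def a]⟩
  obtain ⟨z, hz⟩ := hclaim t htG
  obtain ⟨⟨b, s⟩, hbs⟩ := IsLocalization.surj T z
  refine ⟨s, hT s.2, b, ?_⟩
  have h1 := congrArg (algebraMap (Localization T) (FractionRing B)) hbs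
  rw [map_mul, hz, ← IsScalarTower.algebraMap_apply, ← IsScalarTower.algebraMap_apply] at h1
  rw [← h1, Algebra.smul_def, Algebra.smul_def, map_mul]
  ring

end Loc

section Main

open PrimeSpectrum

/-- a local ring whose completion map is regular has geometrically reduced formal fibres -/
theorem hasGeomReducedFormalFibres_of_isRegularHom (A : Type u) [CommRing A] [IsLocalRing A]
    (h : CAlg.IsRegularHom A (AdicCompletion (maximalIdeal A) A)) :
    EGA4.HasGeomReducedFormalFibres A := by
  intro p hp
  obtain ⟨-, hgeom⟩ := h.2 p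
  apply isGeometricallyReduced_of_forall_finite
  intro k' _ _ hfin
  haveI : IsRegularRing (k' ⊗[p.ResidueField] p.Fiber (AdicCompletion (maximalIdeal A) A)) :=
    hgeom k' hfin
  exact Groth.Agent.Lib.RegHomFieldH3.isReduced_of_isRegularRing _

/-- A domain finite over a quasi-excellent ring is N-1. -/
theorem isN1_of_finite_of_isQuasiExcellent (A : Type u) [CommRing A]
    (hA : EGA4.IsQuasiExcellent A)
    (B : Type u) [CommRing B] [IsDomain B] [Algebra A B] [Module.Finite A B] : CAlg.IsN1 B := by
  obtain ⟨hnoeth, ⟨-, hG⟩, hJ2⟩ := hA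
  haveI := hnoeth
  haveI : IsNoetherianRing B := IsNoetherianRing.of_finite A B
  have hopen : IsOpen (EGA4.regLocus B) := hJ2 B inferInstance
  have hbot := Groth.Agent.Lib.NagataCritH3.bot_mem_regLocus B
  obtain ⟨_, ⟨f, rfl⟩, hf1, hf2⟩ :=
    PrimeSpectrum.isTopologicalBasis_basic_opens.exists_subset_of_mem_open hbot hopen
  have hf0 : f ≠ 0 := by
    rintro rfl
    exact hf1 (zero_mem _)
  have hnormal : ∀ q : Ideal B, q.IsPrime → f ∉ q → NormalAt (FractionRing B) q := by
    intro q hq hfq
    haveI := hq
    have h1 : (⟨q, hq⟩ : PrimeSpectrum B) ∈ EGA4.norLocus B :=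
      regLocus_subset_norLocus B (hf2 hfq)
    exact (normalAt_iff (FractionRing B) q).2 h1.2
  have hass : ∀ q ∈ associatedPrimes B (B ⧸ Ideal.span {f}), N1At (FractionRing B) q := by
    intro q hq
    haveI hqp : q.IsPrime := ((AssociatedPrimes.mem_iff).1 hq).isPrime
    let p' : Ideal A := q.comap (algebraMap A B)
    haveI : p'.IsPrime := Ideal.comap_isPrime _ _
    have hT : Algebra.algebraMapSubmonoid B p'.primeCompl ≤ q.primeCompl := by
      rintro _ ⟨a, ha, rfl⟩
      exact ha
    have hT0 : Algebra.algebraMapSubmonoid B p'.primeCompl ≤ nonZeroDivisors B := by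
      intro s hs
      apply mem_nonZeroDivisors_of_ne_zero
      rintro rfl
      exact hT hs (zero_mem q)
    haveI : IsDomain (Localization (Algebra.algebraMapSubmonoid B p'.primeCompl)) :=
      IsLocalization.isDomain_localization hT0
    haveI : IsNoetherianRing (Localization.AtPrime p') :=
      IsLocalization.isNoetherianRing p'.primeCompl _ hnoeth
    have hff := hasGeomReducedFormalFibres_of_isRegularHom (Localization.AtPrime p') (hG p')
    have hN1 := FFNagataH3.isN1_of_finite (Localization.AtPrime p')
      (Localization (Algebra.algebraMapSubmonoid B p'.primeCompl)) hff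
    exact n1At_of_isN1_localization q _ hT hN1
  obtain ⟨c, hc0, hc⟩ := exists_uniform_denominator_of_N1At f hf0 hnormal hass
  exact finite_integralClosure_of_uniform_denominator c hc0 hc

/-- A quasi-excellent ring is Nagata. -/
theorem isNagata_of_isQuasiExcellent (A : Type u) [CommRing A] (hA : EGA4.IsQuasiExcellent A) :
    CAlg.IsNagata A := by
  refine ⟨hA.1, fun p hp => ?_⟩
  apply Groth.Agent.Lib.Japanese.isN2_of_forall_finite_isN1
  intro B _ _ _ hfin
  letI : Algebra A B := ((algebraMap (A ⧸ p) B).comp (algebraMap A (A ⧸ p))).toAlgebra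
  haveI : IsScalarTower A (A ⧸ p) B := IsScalarTower.of_algebraMap_eq (fun _ => rfl)
  haveI : Module.Finite A B := Module.Finite.trans (A ⧸ p) B
  exact isN1_of_finite_of_isQuasiExcellent A hA B

end Main

end Groth.Agent.Lib.QENagataH3
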