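import Mathlib
import Groth.Prelude.Def_Found
import Groth.Prelude.Def_EGA4b
import Groth.Prelude.Def_FSch3
import Groth.Agent.Lib.ComplFlat_helper3
import Groth.Agent.Lib.RegFlat_helper3
import Groth.Agent.Lib.RegHomBC_helper3
import Groth.Agent.Lib.RegHomField_helper3
import Groth.Agent.Lib.GeomNormal_helper3
import Groth.Agent.Lib.GeomNormal2_helper3
import Groth.Agent.Lib.ComplReduced_helper3
import Groth.Agent.Lib.QENagata_helper3
import Groth.Agent.S9294
import Groth.Agent.S9295

/-!
# Transfer of properties of formal fibres along flat local homomorphisms (helper3)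

`A → A'` a flat local homomorphism of Noetherian local rings, `A' → Â'` regular.  Then the
properties of the fibres of `A → A'` pass to the formal fibres of `A`, via `A → Â → Â'` with
`Â → Â'` faithfully flat.
APPEND-ONLY once landed.
-/

set_option autoImplicit false
universe u

namespace Groth.Agent.Lib.FFTransferH3

open IsLocalRing TensorProduct

theorem isReduced_of_ringEquiv {R R' : Type u} [CommRing R] [CommRing R'] (e : R ≃+* R')
    (h : IsReduced R) : IsReduced R' :=
  isReduced_of_injective e.symm e.symm.injective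

theorem isNormalRing_of_isRegularRing (R : Type u) [CommRing R] [IsRegularRing R] :
    EGA4.IsNormalRing R := by
  intro p hp
  haveI : IsRegularLocalRing (Localization.AtPrime p) := inferInstance
  exact ⟨Groth.Agent.RegularLib.isDomain _,
    Groth.Agent.Lib.NormalLiftH4.isIntegrallyClosed_of_isRegularLocalRing _⟩

theorem isNormalHom_of_isRegularHom (R B : Type u) [CommRing R] [CommRing B] [Algebra R B]
    (h : CAlg.IsRegularHom R B) : EGA4.IsNormalHom R B := by
  refine ⟨h.1, fun p hp k' _ _ hfin => ?_⟩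
  haveI : IsRegularRing (k' ⊗[p.ResidueField] p.Fiber B) := (h.2 p).2 k' hfin
  exact isNormalRing_of_isRegularRing _

section Descent

variable (A B C : Type u) [CommRing A] [CommRing B] [CommRing C]
  [Algebra A B] [Algebra B C] [Algebra A C] [IsScalarTower A B C] [Module.FaithfullyFlat B C]

/-- generic descent of a ring property of `K ⊗[A] C` to `K ⊗[A] B` along a faithfully flat
`B → C` -/
theorem descent_tensor (P : ∀ (R : Type u) [CommRing R], Prop)
    (hequiv : ∀ (R R' : Type u) [CommRing R] [CommRing R'], (R ≃+* R') → P R → P R')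
    (hdesc : ∀ (R R' : Type u) [CommRing R] [CommRing R'] [Algebra R R']
      [Module.FaithfullyFlat R R'], P R' → P R)
    (K : Type u) [CommRing K] [Algebra A K] (h : P (K ⊗[A] C)) : P (K ⊗[A] B) := by
  have h1 : P (C ⊗[A] K) := hequiv _ _ (Algebra.TensorProduct.comm A K C).toRingEquiv h
  have h2 : P (C ⊗[B] (B ⊗[A] K)) :=
    hequiv _ _ (Algebra.TensorProduct.cancelBaseChange A B C C K).symm.toRingEquiv h1
  have h3 : P ((B ⊗[A] K) ⊗[B] C) :=
    hequiv _ _ (Algebra.TensorProduct.comm B C (B ⊗[A] K)).toRingEquiv h2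
  have h4 : P (B ⊗[A] K) := hdesc (B ⊗[A] K) ((B ⊗[A] K) ⊗[B] C) h3
  exact hequiv _ _ (Algebra.TensorProduct.comm A B K).toRingEquiv h4

theorem descent_isReduced (K : Type u) [CommRing K] [Algebra A K] (h : IsReduced (K ⊗[A] C)) :
    IsReduced (K ⊗[A] B) :=
  descent_tensor A B C (fun (R : Type u) [CommRing R] => IsReduced R)
    (fun _ _ _ _ e h => isReduced_of_ringEquiv e h)
    (fun R R' _ _ _ _ h => by
      haveI := h
      exact isReduced_of_injective (algebraMap R R') (FaithfulSMul.algebraMap_injective R R'))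
    K h

theorem descent_isNormalRing (K : Type u) [CommRing K] [Algebra A K]
    (h : EGA4.IsNormalRing (K ⊗[A] C)) : EGA4.IsNormalRing (K ⊗[A] B) :=
  descent_tensor A B C (fun (R : Type u) [CommRing R] => EGA4.IsNormalRing R)
    (fun _ _ _ _ e h => Groth.Agent.Lib.GeomNormalH3.isNormalRing_of_ringEquiv e h)
    (fun R R' _ _ _ _ h => Groth.Agent.Lib.GeomNormal2H3.isNormalRing_of_faithfullyFlat' R R' h)
    K h

end Descent

section RedBC

/-- Base change of a reduced essentially-finite-type algebra along a regular homomorphism is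
reduced. -/
theorem isReduced_tensor_of_isRegularHom (R B : Type u) [CommRing R] [CommRing B] [Algebra R B]
    [IsNoetherianRing R] (h : CAlg.IsRegularHom R B) (C : Type u) [CommRing C] [Algebra R C]
    [Algebra.EssFiniteType R C] [IsReduced C] : IsReduced (C ⊗[R] B) := by
  haveI : IsNoetherianRing C := Algebra.EssFiniteType.isNoetherianRing R C
  haveI : Module.Flat R B := h.1
  apply Groth.Agent.Lib.ComplReducedH3.isReduced_tensor_of_minimalPrimes
  intro q hq
  haveI : q.IsPrime := hq.1.1
  haveI : Algebra.EssFiniteType R (C ⧸ q) := Algebra.EssFiniteType.comp R C (C ⧸ q)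
  haveI : Algebra.EssFiniteType (C ⧸ q) (FractionRing (C ⧸ q)) :=
    Algebra.EssFiniteType.of_isLocalization _ (nonZeroDivisors (C ⧸ q))
  haveI : Algebra.EssFiniteType R (FractionRing (C ⧸ q)) :=
    Algebra.EssFiniteType.comp R (C ⧸ q) (FractionRing (C ⧸ q))
  haveI : IsNoetherianRing (FractionRing (C ⧸ q) ⊗[R] B) :=
    Groth.Agent.Lib.RegHomBCH3.isNoetherianRing_tensor_of_essFiniteType_field R B
      (fun p _ => (h.2 p).1) (FractionRing (C ⧸ q))
  haveI : IsRegularRing (FractionRing (C ⧸ q) ⊗[R] B) :=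
    Groth.Agent.Lib.RegFlatH3.isRegularRing_tensor_of_isRegularHom R B h (FractionRing (C ⧸ q))
  haveI : IsReduced (FractionRing (C ⧸ q) ⊗[R] B) :=
    Groth.Agent.Lib.RegHomFieldH3.isReduced_of_isRegularRing _
  let f : (C ⧸ q) ⊗[R] B →ₐ[R] FractionRing (C ⧸ q) ⊗[R] B :=
    Algebra.TensorProduct.map (IsScalarTower.toAlgHom R (C ⧸ q) (FractionRing (C ⧸ q)))
      (AlgHom.id R B)
  have hf : Function.Injective f :=
    Module.Flat.rTensor_preserves_injective_linearMap (M := B)
      (IsScalarTower.toAlgHom R (C ⧸ q) (FractionRing (C ⧸ q))).toLinearMap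
      (IsFractionRing.injective (C ⧸ q) (FractionRing (C ⧸ q)))
  exact isReduced_of_injective f hf

end RedBC

section Compl

variable (A A' : Type u) [CommRing A] [CommRing A'] [IsNoetherianRing A] [IsNoetherianRing A']
  [IsLocalRing A] [IsLocalRing A'] [Algebra A A'] [IsLocalHom (algebraMap A A')]

theorem map_le : (maximalIdeal A).map (algebraMap A A') ≤ maximalIdeal A' :=
  ((IsLocalRing.local_hom_TFAE (algebraMap A A')).out 0 2).mp ‹IsLocalHom (algebraMap A A')›

/-- The induced map of completions `Â → Â'`. -/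
noncomputable def psi : EGA4.Cpl A →+* EGA4.Cpl A' :=
  FSch.complMap (maximalIdeal A) (maximalIdeal A') (algebraMap A A') (map_le A A')

theorem psi_of (a : A) : psi A A' (AdicCompletion.of (maximalIdeal A) A a) =
    AdicCompletion.of (maximalIdeal A') A' (algebraMap A A' a) :=
  Groth.Agent.Lib.ComplFlatH3.complMap_of _ _ _ _ a

/-- The algebra structure `Â → Â'` (not an instance). -/
noncomputable def algCpl : Algebra (EGA4.Cpl A) (EGA4.Cpl A') := (psi A A').toAlgebra

theorem tower : letI := algCpl A A'; IsScalarTower A (EGA4.Cpl A) (EGA4.Cpl A') := by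
  letI := algCpl A A'
  refine IsScalarTower.of_algebraMap_eq fun a => ?_
  exact (psi_of A A' a).symm

theorem tower' : IsScalarTower A A' (EGA4.Cpl A') :=
  IsScalarTower.of_algebraMap_eq fun _ => rfl

theorem flat_base [Module.Flat A A'] : Module.Flat A (EGA4.Cpl A') :=
  haveI := tower' A A'
  Module.Flat.trans A A' (EGA4.Cpl A')

theorem map_le_cpl : (maximalIdeal A).map (algebraMap A (EGA4.Cpl A')) ≤
    maximalIdeal (EGA4.Cpl A') := by
  haveI := tower' A A'
  rw [IsScalarTower.algebraMap_eq A A' (EGA4.Cpl A'), ← Ideal.map_map,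
    AdicCompletion.maximalIdeal_eq_map]
  exact Ideal.map_mono (map_le A A')

theorem noeth_cpl : IsNoetherianRing (EGA4.Cpl A) :=
  Groth.Agent.RegularLib.isNoetherianRing_adicCompletion A (maximalIdeal A)

theorem flat_cpl [Module.Flat A A'] :
    letI := algCpl A A'; Module.Flat (EGA4.Cpl A) (EGA4.Cpl A') := by
  letI := algCpl A A'
  haveI := noeth_cpl A
  haveI := noeth_cpl A'
  haveI := tower A A'
  haveI := flat_base A A'
  refine Groth.Agent.Lib.ComplFlatH3.flat_of_complete_like (P := A) (R := EGA4.Cpl A)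
    (T := EGA4.Cpl A') (maximalIdeal A) ?_ ?_
  · rw [IsLocalRing.jacobson_eq_maximalIdeal ⊥ bot_ne_top]
    exact map_le_cpl A A'
  · intro n x
    exact Groth.Agent.Lib.ComplFlatH3.exists_sub_mem_pow (maximalIdeal A)
      (maximalIdeal A).fg_of_isNoetherianRing n x

theorem isLocalHom_cpl :
    letI := algCpl A A'; IsLocalHom (algebraMap (EGA4.Cpl A) (EGA4.Cpl A')) := by
  letI := algCpl A A'
  haveI := tower A A'
  apply ((IsLocalRing.local_hom_TFAE (algebraMap (EGA4.Cpl A) (EGA4.Cpl A'))).out 0 2).mpr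
  rw [AdicCompletion.maximalIdeal_eq_map (R := A), Ideal.map_map,
    ← IsScalarTower.algebraMap_eq A (EGA4.Cpl A) (EGA4.Cpl A')]
  exact map_le_cpl A A'

theorem faithfullyFlat_cpl [Module.Flat A A'] :
    letI := algCpl A A'; Module.FaithfullyFlat (EGA4.Cpl A) (EGA4.Cpl A') := by
  letI := algCpl A A'
  haveI := flat_cpl A A'
  haveI := isLocalHom_cpl A A'
  exact Module.FaithfullyFlat.of_flat_of_isLocalHom

/-- S4704 -/
theorem isRegularHom_cpl (hf : CAlg.IsRegularHom A A')
    (hA' : CAlg.IsRegularHom A' (EGA4.Cpl A')) : CAlg.IsRegularHom A (EGA4.Cpl A) := by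
  haveI : Module.Flat A A' := hf.1
  letI := algCpl A A'
  haveI := tower A A'
  haveI := tower' A A'
  haveI := noeth_cpl A'
  have h1 : CAlg.IsRegularHom A (EGA4.Cpl A') :=
    Groth.Agent.S9294.result A A' (EGA4.Cpl A') hf hA'
      (fun p _ => Groth.Agent.Lib.RegFlatH3.isNoetherianRing_fiber A (EGA4.Cpl A') p)
  haveI := faithfullyFlat_cpl A A'
  exact Groth.Agent.S9295.result A (EGA4.Cpl A) (EGA4.Cpl A') h1
    PrimeSpectrum.comap_surjective_of_faithfullyFlat

/-- S4706 -/
theorem hasGeomNormalFormalFibres_of_isNormalHom (hf : EGA4.IsNormalHom A A')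
    (hA' : CAlg.IsRegularHom A' (EGA4.Cpl A')) : EGA4.HasGeomNormalFormalFibres A := by
  haveI : Module.Flat A A' := hf.1
  haveI := tower' A A'
  haveI := noeth_cpl A'
  have h1 : EGA4.IsNormalHom A (EGA4.Cpl A') :=
    Groth.Agent.Lib.GeomNormalH3.isNormalHom_comp A A' (EGA4.Cpl A') hf
      (isNormalHom_of_isRegularHom _ _ hA')
  letI := algCpl A A'
  haveI := tower A A'
  haveI := faithfullyFlat_cpl A A'
  intro p hp k' _ _ hfin
  letI : Algebra A k' :=
    ((algebraMap p.ResidueField k').comp (algebraMap A p.ResidueField)).toAlgebra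
  haveI : IsScalarTower A p.ResidueField k' := IsScalarTower.of_algebraMap_eq fun _ => rfl
  have h2 : EGA4.IsNormalRing (k' ⊗[p.ResidueField] p.Fiber (EGA4.Cpl A')) := h1.2 p k' hfin
  have h3 : EGA4.IsNormalRing (k' ⊗[A] EGA4.Cpl A') :=
    Groth.Agent.Lib.GeomNormalH3.isNormalRing_of_ringEquiv
      (Algebra.TensorProduct.cancelBaseChange A p.ResidueField k' k' (EGA4.Cpl A')).toRingEquiv h2
  have h4 : EGA4.IsNormalRing (k' ⊗[A] EGA4.Cpl A) :=
    descent_isNormalRing A (EGA4.Cpl A) (EGA4.Cpl A') k' h3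
  exact Groth.Agent.Lib.GeomNormalH3.isNormalRing_of_ringEquiv
    (Algebra.TensorProduct.cancelBaseChange A p.ResidueField k' k' (EGA4.Cpl A)).symm.toRingEquiv h4

/-- S4705 -/
theorem hasGeomReducedFormalFibres_of_flat [Module.Flat A A']
    (hf : ∀ (p : Ideal A) [p.IsPrime], Algebra.IsGeometricallyReduced p.ResidueField (p.Fiber A'))
    (hA' : CAlg.IsRegularHom A' (EGA4.Cpl A')) : EGA4.HasGeomReducedFormalFibres A := by
  intro p hp
  apply Groth.Agent.Lib.QENagataH3.isGeometricallyReduced_of_forall_finite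
  intro k' _ _ hfin
  haveI := hfin
  letI : Algebra A k' :=
    ((algebraMap p.ResidueField k').comp (algebraMap A p.ResidueField)).toAlgebra
  haveI : IsScalarTower A p.ResidueField k' := IsScalarTower.of_algebraMap_eq fun _ => rfl
  haveI : Algebra.IsAlgebraic p.ResidueField k' := Algebra.IsAlgebraic.of_finite _ _
  haveI := hf p
  have h1 : IsReduced (k' ⊗[p.ResidueField] p.Fiber A') := inferInstance
  have h2 : IsReduced (k' ⊗[A] A') :=
    isReduced_of_ringEquiv
      (Algebra.TensorProduct.cancelBaseChange A p.ResidueField k' k' A').toRingEquiv h1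
  haveI h3 : IsReduced (A' ⊗[A] k') :=
    isReduced_of_ringEquiv (Algebra.TensorProduct.comm A k' A').toRingEquiv h2
  haveI : Algebra.EssFiniteType A k' := Algebra.EssFiniteType.comp A p.ResidueField k'
  haveI : Algebra.EssFiniteType A' (A' ⊗[A] k') := inferInstance
  have h4 : IsReduced ((A' ⊗[A] k') ⊗[A'] EGA4.Cpl A') :=
    isReduced_tensor_of_isRegularHom A' (EGA4.Cpl A') hA' (A' ⊗[A] k')
  haveI := tower' A A'
  have h5 : IsReduced (EGA4.Cpl A' ⊗[A'] (A' ⊗[A] k')) :=
    isReduced_of_ringEquiv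
      (Algebra.TensorProduct.comm A' (A' ⊗[A] k') (EGA4.Cpl A')).toRingEquiv h4
  have h6 : IsReduced (EGA4.Cpl A' ⊗[A] k') :=
    isReduced_of_ringEquiv
      (Algebra.TensorProduct.cancelBaseChange A A' (EGA4.Cpl A') (EGA4.Cpl A') k').toRingEquiv h5
  have h7 : IsReduced (k' ⊗[A] EGA4.Cpl A') :=
    isReduced_of_ringEquiv (Algebra.TensorProduct.comm A (EGA4.Cpl A') k').toRingEquiv h6
  letI := algCpl A A'
  haveI := tower A A'
  haveI := faithfullyFlat_cpl A A'
  have h8 : IsReduced (k' ⊗[A] EGA4.Cpl A) :=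
    descent_isReduced A (EGA4.Cpl A) (EGA4.Cpl A') k' h7
  exact isReduced_of_ringEquiv
    (Algebra.TensorProduct.cancelBaseChange A p.ResidueField k' k' (EGA4.Cpl A)).symm.toRingEquiv h8

end Compl

end Groth.Agent.Lib.FFTransferH3
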