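import Mathlib
import Groth.Agent.Lib.FlatCM3_helper9
import Groth.Agent.Lib.FibLoc_helper8
import Groth.Agent.Lib.DepthDescent_helper5

/-!
# `(S_n)` homomorphisms: composition and descent (helper9)

* `SkLoc k T`: the inequality `min(k, dim T) ≤ depth T` for a local ring.
* `depth_dim_fibLocRing_comp`: additivity of depth and dimension of fibre local rings along
  `A → B → C` with `C` flat over `B`.
* `hasSk_fiber_iff`, `hasSk_fiber_comp`, `hasSk_fiber_descent`.
APPEND-ONLY once landed.
-/

set_option autoImplicit false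
universe u

namespace Groth.Agent.FlatCM

open IsLocalRing TensorProduct Groth.Agent.DepthLib

/-- Serre's inequality for a local ring. -/
def SkLoc (k : ℕ) (T : Type u) [CommRing T] [IsLocalRing T] : Prop :=
  min (k : WithBot ℕ∞) (ringKrullDim T) ≤ ((LocCoh.depth T T : ℕ∞) : WithBot ℕ∞)

theorem skLoc_of_ringEquiv {k : ℕ} {T T' : Type u} [CommRing T] [CommRing T'] [IsLocalRing T]
    [IsLocalRing T'] [IsNoetherianRing T] [IsNoetherianRing T'] (e : T ≃+* T') (h : SkLoc k T) :
    SkLoc k T' := by
  unfold SkLoc at h ⊢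
  rw [← depth_ringEquiv e, ← ringKrullDim_eq_of_ringEquiv e]
  exact h

theorem hasSk_self_iff_skLoc (k : ℕ) (R : Type u) [CommRing R] :
    LocCoh.HasSk k R R ↔ ∀ (p : Ideal R) [p.IsPrime], SkLoc k (Localization.AtPrime p) :=
  hasSk_self_iff k R

section Arith

theorem sk_add {k : ℕ} {x y : WithBot ℕ∞} {dx dy : ℕ∞} (hx : ∃ a : ℕ, x = (a : WithBot ℕ∞))
    (hy : ∃ f : ℕ, y = (f : WithBot ℕ∞))
    (h1 : min (k : WithBot ℕ∞) x ≤ ((dx : ℕ∞) : WithBot ℕ∞))
    (h2 : min (k : WithBot ℕ∞) y ≤ ((dy : ℕ∞) : WithBot ℕ∞)) :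
    min (k : WithBot ℕ∞) (x + y) ≤ ((dx + dy : ℕ∞) : WithBot ℕ∞) := by
  obtain ⟨a, rfl⟩ := hx
  obtain ⟨f, rfl⟩ := hy
  have h1' : min (k : ℕ∞) (a : ℕ∞) ≤ dx := by
    have : ((min (k : ℕ∞) (a : ℕ∞) : ℕ∞) : WithBot ℕ∞) =
        min (k : WithBot ℕ∞) ((a : ℕ) : WithBot ℕ∞) := by
      rw [WithBot.coe_min]; rfl
    exact WithBot.coe_le_coe.1 (this ▸ h1)
  have h2' : min (k : ℕ∞) (f : ℕ∞) ≤ dy := by
    have : ((min (k : ℕ∞) (f : ℕ∞) : ℕ∞) : WithBot ℕ∞) =
        min (k : WithBot ℕ∞) ((f : ℕ) : WithBot ℕ∞) := by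
      rw [WithBot.coe_min]; rfl
    exact WithBot.coe_le_coe.1 (this ▸ h2)
  have key : min (k : ℕ∞) ((a : ℕ∞) + (f : ℕ∞)) ≤ dx + dy :=
    (min_add_le _ _ _).trans (add_le_add h1' h2')
  have h3 : min (k : WithBot ℕ∞) (((a : ℕ) : WithBot ℕ∞) + ((f : ℕ) : WithBot ℕ∞)) =
      ((min (k : ℕ∞) ((a : ℕ∞) + (f : ℕ∞)) : ℕ∞) : WithBot ℕ∞) := by
    rw [WithBot.coe_min]; rfl
  rw [h3]
  exact WithBot.coe_le_coe.2 key

end Arith

section Comp

variable (A B C : Type u) [CommRing A] [CommRing B] [CommRing C] [Algebra A B] [Algebra B C]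
  [Algebra A C] [IsScalarTower A B C] [IsNoetherianRing B] [IsNoetherianRing C] [Module.Flat B C]

/-- Additivity of depth and dimension of the fibre local rings along `A → B → C`. -/
theorem depth_dim_fibLocRing_comp (P : Ideal C) [P.IsPrime] :
    LocCoh.depth (EGA4.FibLocRing A C P) (EGA4.FibLocRing A C P) =
      LocCoh.depth (EGA4.FibLocRing A B (P.comap (algebraMap B C)))
        (EGA4.FibLocRing A B (P.comap (algebraMap B C))) +
      LocCoh.depth (EGA4.FibLocRing B C P) (EGA4.FibLocRing B C P) ∧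
    ringKrullDim (EGA4.FibLocRing A C P) =
      ringKrullDim (EGA4.FibLocRing A B (P.comap (algebraMap B C))) +
      ringKrullDim (EGA4.FibLocRing B C P) := by
  set q := P.comap (algebraMap B C) with hq
  haveI : P.LiesOver q := ⟨rfl⟩
  letI := Localization.AtPrime.algebraOfLiesOver q P
  haveI : IsLocalHom (algebraMap (Localization.AtPrime q) (Localization.AtPrime P)) :=
    Localization.isLocalHom_localRingHom _ _ _ _
  haveI : Module.Flat B (Localization.AtPrime P) := Module.Flat.trans B C (Localization.AtPrime P)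
  haveI : Module.Flat (Localization.AtPrime q) (Localization.AtPrime P) := by
    rw [Module.flat_iff_of_isLocalization (Localization.AtPrime q) q.primeCompl]
    infer_instance
  haveI : IsNoetherianRing (Localization.AtPrime q) :=
    IsLocalization.isNoetherianRing q.primeCompl _ inferInstance
  haveI : IsNoetherianRing (Localization.AtPrime P) :=
    IsLocalization.isNoetherianRing P.primeCompl _ inferInstance
  set I : Ideal (Localization.AtPrime q) :=
    (q.comap (algebraMap A B)).map (algebraMap A (Localization.AtPrime q)) with hIdef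
  have hI : I ≤ maximalIdeal (Localization.AtPrime q) := fibLocRing_ideal_le A B q
  have hpq : q.comap (algebraMap A B) = P.comap (algebraMap A C) := by
    rw [hq, Ideal.comap_comap, ← IsScalarTower.algebraMap_eq]
  have hImap : I.map (algebraMap (Localization.AtPrime q) (Localization.AtPrime P)) =
      (P.comap (algebraMap A C)).map (algebraMap A (Localization.AtPrime P)) := by
    rw [hIdef, Ideal.map_map, ← IsScalarTower.algebraMap_eq, hpq]
  have hm : (maximalIdeal (Localization.AtPrime q)).map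
      (algebraMap (Localization.AtPrime q) (Localization.AtPrime P)) =
      q.map (algebraMap B (Localization.AtPrime P)) := by
    rw [← Localization.AtPrime.map_eq_maximalIdeal, Ideal.map_map,
      ← IsScalarTower.algebraMap_eq]
  let e1 : (Localization.AtPrime P ⧸
      I.map (algebraMap (Localization.AtPrime q) (Localization.AtPrime P))) ≃+*
      EGA4.FibLocRing A C P := Ideal.quotEquivOfEq hImap
  let e2 : EGA4.FibRing (Localization.AtPrime q) (Localization.AtPrime P) ≃+*
      EGA4.FibLocRing B C P := Ideal.quotEquivOfEq hm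
  haveI := Groth.Agent.FibDim.isLocalRing_quot hI
  haveI : IsLocalRing (Localization.AtPrime P ⧸
      I.map (algebraMap (Localization.AtPrime q) (Localization.AtPrime P))) :=
    Groth.Agent.FibDim.isLocalRing_quot (Groth.Agent.FibDim.map_le_maximalIdeal hI)
  haveI := Groth.Agent.FibDim.isLocalHom_quot (B := Localization.AtPrime P) hI
  haveI : Module.Flat (Localization.AtPrime q ⧸ I) (Localization.AtPrime P ⧸
      I.map (algebraMap (Localization.AtPrime q) (Localization.AtPrime P))) :=
    Groth.Agent.Lib.FSNilpH3.flat_quot I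
  obtain ⟨e3⟩ := fibRing_quot_equiv (Localization.AtPrime q) (Localization.AtPrime P) I
  have hd := depth_eq_add (Localization.AtPrime q ⧸ I) (Localization.AtPrime P ⧸
      I.map (algebraMap (Localization.AtPrime q) (Localization.AtPrime P)))
  have hdim := dim_eq_add (Localization.AtPrime q ⧸ I) (Localization.AtPrime P ⧸
      I.map (algebraMap (Localization.AtPrime q) (Localization.AtPrime P)))
  refine ⟨?_, ?_⟩
  · rw [← depth_ringEquiv e1, hd, depth_ringEquiv (e3.trans e2)]
  · rw [← ringKrullDim_eq_of_ringEquiv e1, hdim, ringKrullDim_eq_of_ringEquiv (e3.trans e2)]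

end Comp

section Fiber

variable (R S : Type u) [CommRing R] [CommRing S] [Algebra R S] [IsNoetherianRing S]

theorem isNoetherianRing_fibLocRing (Q : Ideal S) [Q.IsPrime] :
    IsNoetherianRing (EGA4.FibLocRing R S Q) := by
  haveI : IsNoetherianRing (Localization.AtPrime Q) :=
    IsLocalization.isNoetherianRing Q.primeCompl _ inferInstance
  infer_instance

/-- `(S_k)` for a fibre ring in terms of the fibre local rings. -/
theorem hasSk_fiber_iff (k : ℕ) (p : Ideal R) [p.IsPrime] :
    LocCoh.HasSk k (p.Fiber S) (p.Fiber S) ↔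
      ∀ (Q : Ideal S) [Q.IsPrime], Q.comap (algebraMap R S) = p →
        SkLoc k (EGA4.FibLocRing R S Q) := by
  haveI : IsNoetherianRing (p.Fiber S) := Groth.Agent.Lib.RegFlatH3.isNoetherianRing_fiber R S p
  rw [hasSk_self_iff_skLoc]
  constructor
  · intro h Q hQ hQp
    subst hQp
    obtain ⟨q, hq, ⟨e⟩⟩ := exists_fibre_equiv R S Q
    haveI := isNoetherianRing_fibLocRing R S Q
    haveI : IsNoetherianRing (Localization.AtPrime q) :=
      IsLocalization.isNoetherianRing q.primeCompl _ inferInstance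
    exact skLoc_of_ringEquiv (T := Localization.AtPrime q) e (h q)
  · intro h q hq
    obtain ⟨e⟩ := fibre_equiv_of_prime R S p q
    set r := q.comap (Algebra.TensorProduct.includeRight : S →ₐ[R] p.Fiber S) with hr
    have hrp : r.comap (algebraMap R S) = p := (Ideal.LiesOver.over (p := p) (P := r)).symm
    haveI := isNoetherianRing_fibLocRing R S r
    haveI : IsNoetherianRing (Localization.AtPrime q) :=
      IsLocalization.isNoetherianRing q.primeCompl _ inferInstance
    exact skLoc_of_ringEquiv (T' := Localization.AtPrime q) e.symm (h r hrp)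

end Fiber

section SkComp

variable (A B C : Type u) [CommRing A] [CommRing B] [CommRing C] [Algebra A B] [Algebra B C]
  [Algebra A C] [IsScalarTower A B C] [IsNoetherianRing B] [IsNoetherianRing C] [Module.Flat B C]

theorem skLoc_fibLocRing_comp (n : ℕ) (P : Ideal C) [P.IsPrime]
    (h1 : SkLoc n (EGA4.FibLocRing A B (P.comap (algebraMap B C))))
    (h2 : SkLoc n (EGA4.FibLocRing B C P)) : SkLoc n (EGA4.FibLocRing A C P) := by
  obtain ⟨hd, hdim⟩ := depth_dim_fibLocRing_comp A B C P
  haveI := isNoetherianRing_fibLocRing A B (P.comap (algebraMap B C))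
  haveI := isNoetherianRing_fibLocRing B C P
  unfold SkLoc at h1 h2 ⊢
  rw [hd, hdim]
  exact sk_add (exists_nat_ringKrullDim _) (exists_nat_ringKrullDim _) h1 h2

/-- **Composition of flat maps with `(S_n)` fibres.** -/
theorem hasSk_fiber_comp (n : ℕ)
    (hAB : ∀ (p : Ideal A) [p.IsPrime], LocCoh.HasSk n (p.Fiber B) (p.Fiber B))
    (hBC : ∀ (q : Ideal B) [q.IsPrime], LocCoh.HasSk n (q.Fiber C) (q.Fiber C))
    (p : Ideal A) [p.IsPrime] : LocCoh.HasSk n (p.Fiber C) (p.Fiber C) := by
  rw [hasSk_fiber_iff]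
  intro P hP hPp
  apply skLoc_fibLocRing_comp A B C n P
  · exact (hasSk_fiber_iff A B n _).1 (hAB ((P.comap (algebraMap B C)).comap (algebraMap A B)))
      (P.comap (algebraMap B C)) rfl
  · exact (hasSk_fiber_iff B C n _).1 (hBC (P.comap (algebraMap B C))) P rfl

/-- **Descent of `(S_n)` fibres along a faithfully flat map.** -/
theorem hasSk_fiber_descent [Module.FaithfullyFlat B C] (n : ℕ)
    (hAC : ∀ (p : Ideal A) [p.IsPrime], LocCoh.HasSk n (p.Fiber C) (p.Fiber C))
    (p : Ideal A) [p.IsPrime] : LocCoh.HasSk n (p.Fiber B) (p.Fiber B) := by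
  rw [hasSk_fiber_iff]
  intro q hq hqp
  have hne : q.map (algebraMap B C) ≠ ⊤ := by
    intro htop
    have h1 := Ideal.comap_map_eq_self_of_faithfullyFlat (B := C) q
    rw [htop, Ideal.comap_top] at h1
    exact Ideal.IsPrime.ne_top' h1.symm
  obtain ⟨⟨P, hP⟩⟩ := Ideal.nonempty_minimalPrimes hne
  haveI : P.IsPrime := hP.1.1
  have hlo := liesOver_of_mem_minimalPrimes_map B C q P hP
  have hPq : P.comap (algebraMap B C) = q := hlo.over.symm
  have hP' : P ∈ ((P.comap (algebraMap B C)).map (algebraMap B C)).minimalPrimes := by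
    rw [hPq]; exact hP
  have hdim0 := Groth.Agent.FibLocH8.dim_fibLocRing_eq_zero (A := B) P hP'
  haveI := isNoetherianRing_fibLocRing B C P
  have hdep0 : LocCoh.depth (EGA4.FibLocRing B C P) (EGA4.FibLocRing B C P) = 0 := by
    have h1 := depth_le_dim (EGA4.FibLocRing B C P)
    rw [hdim0] at h1
    have h2 : LocCoh.depth (EGA4.FibLocRing B C P) (EGA4.FibLocRing B C P) ≤ 0 := by
      have : ((LocCoh.depth (EGA4.FibLocRing B C P) (EGA4.FibLocRing B C P) : ℕ∞) : WithBot ℕ∞) ≤
          ((0 : ℕ∞) : WithBot ℕ∞) := h1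
      exact WithBot.coe_le_coe.1 this
    exact le_antisymm h2 zero_le
  obtain ⟨hd, hdim⟩ := depth_dim_fibLocRing_comp A B C P
  rw [hdep0, add_zero] at hd
  rw [hdim0, add_zero] at hdim
  have hPA : P.comap (algebraMap A C) = p := by
    rw [IsScalarTower.algebraMap_eq A B C, ← Ideal.comap_comap, hPq, hqp]
  have h3 : SkLoc n (EGA4.FibLocRing A C P) := (hasSk_fiber_iff A C n p).1 (hAC p) P hPA
  have h4 : SkLoc n (EGA4.FibLocRing A B (P.comap (algebraMap B C))) := by
    unfold SkLoc at h3 ⊢
    rw [← hd, ← hdim]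
    exact h3
  have tr : ∀ (r : Ideal B) [r.IsPrime], r = q →
      SkLoc n (EGA4.FibLocRing A B r) → SkLoc n (EGA4.FibLocRing A B q) := by
    intro r _ e h
    subst e
    exact h
  exact tr _ hPq h4

end SkComp

end Groth.Agent.FlatCM
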