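import Mathlib
import Groth.Agent.Lib.FlatCM4_helper9
import Groth.Agent.Lib.FFTransfer_helper3

/-!
# Cohen–Macaulay formal fibres (helper9)

* `isCMRing_fiber_of_isRegularHom`
* `hasCMFormalFibres_of_flat`: `A → A'` flat local with CM fibres and `A' → Â'` regular ⇒ the formal
  fibres of `A` are CM.
APPEND-ONLY once landed.
-/

set_option autoImplicit false
universe u

namespace Groth.Agent.FlatCM

open IsLocalRing TensorProduct Groth.Agent.DepthLib

theorem isCMRing_fiber_of_isRegularHom (R S : Type u) [CommRing R] [CommRing S] [Algebra R S]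
    (h : CAlg.IsRegularHom R S) (p : Ideal R) [p.IsPrime] :
    LocCoh.IsCohenMacaulayRing (p.Fiber S) := by
  obtain ⟨hN, hG⟩ := h.2 p
  haveI := hN
  haveI := Groth.Agent.Lib.RegFlatH3.isRegularRing_of_isGeometricallyRegular _ _ hG
  exact isCMRing_of_isRegularRing _

section Formal

variable (A A' : Type u) [CommRing A] [CommRing A'] [IsNoetherianRing A] [IsNoetherianRing A']
  [IsLocalRing A] [IsLocalRing A'] [Algebra A A'] [IsLocalHom (algebraMap A A')]

open Groth.Agent.Lib.FFTransferH3 in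
theorem hasCMFormalFibres_of_flat [Module.Flat A A']
    (hf : ∀ (p : Ideal A) [p.IsPrime], LocCoh.IsCohenMacaulayRing (p.Fiber A'))
    (hA' : CAlg.IsRegularHom A' (EGA4.Cpl A')) : EGA4.HasCMFormalFibres A := by
  haveI := tower' A A'
  haveI := noeth_cpl A'
  haveI := noeth_cpl A
  haveI : Module.Flat A' (EGA4.Cpl A') := hA'.1
  haveI : Module.Flat A (EGA4.Cpl A') := flat_base A A'
  have h1 : ∀ (P : Ideal (EGA4.Cpl A')) [P.IsPrime],
      LocCoh.IsCohenMacaulayLocalRing (EGA4.FibLocRing A (EGA4.Cpl A') P) := by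
    intro P hP
    rw [isCM_fibLocRing_comp_iff A A' (EGA4.Cpl A') P]
    constructor
    · haveI := hf ((P.comap (algebraMap A' (EGA4.Cpl A'))).comap (algebraMap A A'))
      exact isCM_fibLocRing_of_fiber A A' (P.comap (algebraMap A' (EGA4.Cpl A')))
    · haveI := isCMRing_fiber_of_isRegularHom A' (EGA4.Cpl A') hA'
        (P.comap (algebraMap A' (EGA4.Cpl A')))
      exact isCM_fibLocRing_of_fiber A' (EGA4.Cpl A') P
  letI := algCpl A A'
  haveI := tower A A'
  haveI := flat_cpl A A'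
  haveI := faithfullyFlat_cpl A A'
  intro p hp
  change LocCoh.IsCohenMacaulayRing (p.Fiber (EGA4.Cpl A))
  apply isCMRing_fiber_of_fibLocRing A (EGA4.Cpl A) p
  intro q hq hqp
  obtain ⟨P, hP⟩ := PrimeSpectrum.comap_surjective_of_faithfullyFlat
    (A := EGA4.Cpl A) (B := EGA4.Cpl A') ⟨q, hq⟩
  have heq : P.asIdeal.comap (algebraMap (EGA4.Cpl A) (EGA4.Cpl A')) = q :=
    congrArg PrimeSpectrum.asIdeal hP
  have h2 := ((isCM_fibLocRing_comp_iff A (EGA4.Cpl A) (EGA4.Cpl A') P.asIdeal).1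
    (h1 P.asIdeal)).1
  have tr : ∀ (r : Ideal (EGA4.Cpl A)) [r.IsPrime], r = q →
      LocCoh.IsCohenMacaulayLocalRing (EGA4.FibLocRing A (EGA4.Cpl A) r) →
      LocCoh.IsCohenMacaulayLocalRing (EGA4.FibLocRing A (EGA4.Cpl A) q) := by
    intro r _ e h
    subst e
    exact h
  exact tr _ heq h2

end Formal

end Groth.Agent.FlatCM
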