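import Mathlib

/-! Annihilators under flat base change. -/

namespace Groth.Agent.Lib.AnnFlat

open TensorProduct

variable {R S : Type*} [CommRing R] [CommRing S] [Algebra R S]

/-- the multiplication map `S ⊗ J → S` has image in `J S`. -/
lemma mulMap_mem (J : Ideal R) (z : S ⊗[R] J) :
    (TensorProduct.rid R S) ((J.subtype.restrictScalars R).lTensor S z) ∈ J.map (algebraMap R S) := by
  induction z using TensorProduct.induction_on with
  | zero => simp
  | tmul s j =>
    simp only [LinearMap.lTensor_tmul, LinearMap.coe_restrictScalars, Submodule.coe_subtype,
      TensorProduct.rid_tmul]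
    rw [Algebra.smul_def]
    exact Ideal.mul_mem_right _ _ (Ideal.mem_map_of_mem _ j.2)
  | add x y hx hy =>
    simp only [map_add]
    exact add_mem hx hy

theorem map_annihilator_span_singleton [Module.Flat R S] {M : Type*} [AddCommGroup M] [Module R M]
    (m : M) :
    ((Submodule.span R {m}).annihilator).map (algebraMap R S) =
      (Submodule.span S {(1 : S) ⊗ₜ[R] m}).annihilator := by
  apply le_antisymm
  · rw [Ideal.map_le_iff_le_comap]
    intro r hr
    rw [Submodule.mem_annihilator_span_singleton] at hr
    rw [Ideal.mem_comap, Submodule.mem_annihilator_span_singleton, TensorProduct.smul_tmul',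
      smul_eq_mul, ← Algebra.smul_def, TensorProduct.smul_tmul, hr, tmul_zero]
  · intro s hs
    rw [Submodule.mem_annihilator_span_singleton, TensorProduct.smul_tmul', smul_eq_mul,
      mul_one] at hs
    set J : Ideal R := (Submodule.span R {m}).annihilator with hJ
    have hex : Function.Exact (J.subtype.restrictScalars R) (LinearMap.toSpanSingleton R M m) := by
      intro r
      simp only [LinearMap.toSpanSingleton_apply, LinearMap.coe_restrictScalars,
        Submodule.coe_subtype, Set.mem_range, Subtype.exists, exists_prop, exists_eq_right]
      rw [hJ, Submodule.mem_annihilator_span_singleton]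
    have hex2 := Module.Flat.lTensor_exact S hex
    have h1 : (LinearMap.toSpanSingleton R M m).lTensor S (s ⊗ₜ[R] (1 : R)) = 0 := by
      simp [hs]
    obtain ⟨z, hz⟩ := (hex2 _).mp h1
    have := mulMap_mem (S := S) J z
    rw [hz] at this
    simpa using this

theorem map_annihilator [Module.Flat R S] (M : Type*) [AddCommGroup M] [Module R M]
    [Module.Finite R M] :
    (Module.annihilator R M).map (algebraMap R S) = Module.annihilator S (S ⊗[R] M) := by
  classical
  obtain ⟨n, g, hg⟩ := Module.Finite.exists_fin (R := R) (M := M)
  have h1 := map_annihilator_span_singleton (R := R) (S := S) (M := Fin n → M) g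
  have h2 : (Submodule.span R {g}).annihilator = Module.annihilator R M := by
    ext r
    rw [Submodule.mem_annihilator_span_singleton, Module.mem_annihilator]
    constructor
    · intro h x
      have hx : x ∈ Submodule.span R (Set.range g) := by rw [hg]; trivial
      induction hx using Submodule.span_induction with
      | mem x hx =>
        obtain ⟨i, rfl⟩ := hx
        exact congrFun h i
      | zero => simp
      | add x y _ _ hx hy => rw [smul_add, hx, hy, add_zero]
      | smul a x _ hx => rw [smul_comm, hx, smul_zero]
    · intro h
      ext i
      exact h (g i)
  have h3 : (Submodule.span S {(1 : S) ⊗ₜ[R] g}).annihilator = Module.annihilator S (S ⊗[R] M) := by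
    ext s
    rw [Submodule.mem_annihilator_span_singleton, Module.mem_annihilator, TensorProduct.smul_tmul',
      smul_eq_mul, mul_one]
    constructor
    · intro h
      have h4 : ∀ i, s ⊗ₜ[R] g i = 0 := by
        intro i
        have := congrArg (TensorProduct.piRight R S S (fun _ : Fin n => M)) h
        simp only [piRight_apply, piRightHom_tmul, map_zero] at this
        exact congrFun this i
      have h5 : ∀ x : M, s ⊗ₜ[R] x = 0 := by
        intro x
        have hx : x ∈ Submodule.span R (Set.range g) := by rw [hg]; trivial
        induction hx using Submodule.span_induction with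
        | mem x hx =>
          obtain ⟨i, rfl⟩ := hx
          exact h4 i
        | zero => simp
        | add x y _ _ hx hy => rw [tmul_add, hx, hy, add_zero]
        | smul a x _ hx => rw [tmul_smul, hx, smul_zero]
      intro x
      induction x using TensorProduct.induction_on with
      | zero => simp
      | tmul s' x =>
        rw [TensorProduct.smul_tmul', smul_eq_mul, mul_comm, ← smul_eq_mul,
          ← TensorProduct.smul_tmul', h5, smul_zero]
      | add x y hx hy => rw [smul_add, hx, hy, add_zero]
    · intro h
      have h6 : ∀ i, s ⊗ₜ[R] g i = 0 := by
        intro i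
        have := h ((1 : S) ⊗ₜ[R] g i)
        rwa [TensorProduct.smul_tmul', smul_eq_mul, mul_one] at this
      apply (TensorProduct.piRight R S S (fun _ : Fin n => M)).injective
      simp only [piRight_apply, piRightHom_tmul, map_zero]
      funext i
      exact h6 i
  rw [← h2, h1, h3]

end Groth.Agent.Lib.AnnFlat
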