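import Mathlib
import Groth.Agent.Lib.LocalCrit2_helper9

/-!
# Universe-polymorphic versions of the nilpotent local criterion
(`R : Type u`, the module `M` in an arbitrary universe).
-/

namespace Groth.Agent.Lib.LocalCrit4

open TensorProduct Groth.Agent.Lib.LocalCrit2

universe u

section main

variable {R : Type u} [CommRing R] {K F M : Type*} [AddCommGroup K] [Module R K]
  [AddCommGroup F] [Module R F] [AddCommGroup M] [Module R M]
  (f : K →ₗ[R] F) (g : F →ₗ[R] M)

/-- If `Tor₁^R(A, M) = 0` and `A ⊗ M` is `A`-flat then `Tor₁^R(N₀, M) = 0` for all `A`-modules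
`N₀`. -/
lemma T1_of_module (hfg : Function.Exact f g) (hg : Function.Surjective g)
    (A : Type u) [CommRing A] [Algebra R A] [Module.Flat A (A ⊗[R] M)]
    (hA : Function.Injective (f.lTensor A))
    (N₀ : Type u) [AddCommGroup N₀] [Module A N₀] [Module R N₀] [IsScalarTower R A N₀] :
    Function.Injective (f.lTensor N₀) := by
  obtain ⟨p, hp⟩ : ∃ p : (N₀ →₀ A) →ₗ[A] N₀, Function.Surjective p :=
    ⟨Finsupp.linearCombination A id, Finsupp.linearCombination_id_surjective A N₀⟩
  have h3 : Function.Injective (((LinearMap.ker p).subtype.restrictScalars R).rTensor M) :=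
    rTensor_subtype_injective A (LinearMap.ker p) M
  have h2 : Function.Injective (f.lTensor (N₀ →₀ A)) :=
    lTensor_injective_of_flat A f (N₀ →₀ A) hA
  have h1 : Function.Exact ((LinearMap.ker p).subtype.restrictScalars R) (p.restrictScalars R) :=
    LinearMap.exact_subtype_ker_map p
  exact T1_quot (N' := LinearMap.ker p) (N := N₀ →₀ A) (N'' := N₀) f g
    ((LinearMap.ker p).subtype.restrictScalars R) (p.restrictScalars R) hfg hg h1 hp h2 h3

lemma T1_of_pow_torsion [Module.Flat R F] (hfg : Function.Exact f g) (hg : Function.Surjective g)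
    (I : Ideal R) [Module.Flat (R ⧸ I) ((R ⧸ I) ⊗[R] M)]
    (hI : Function.Injective (f.lTensor (R ⧸ I))) :
    ∀ (n : ℕ) (N : Type u) [AddCommGroup N] [Module R N],
      (∀ x ∈ I ^ n, ∀ y : N, x • y = 0) → Function.Injective (f.lTensor N) := by
  intro n
  induction n with
  | zero =>
    intro N _ _ h
    have hs : Subsingleton N := ⟨fun a b => by
      have ha := h 1 (by simp) a
      have hb := h 1 (by simp) b
      rw [one_smul] at ha hb
      rw [ha, hb]⟩
    have : Subsingleton (N ⊗[R] K) := inferInstance
    exact Function.injective_of_subsingleton _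
  | succ n ih =>
    intro N _ _ h
    refine T1_ext f (I • (⊤ : Submodule R N)).subtype (I • (⊤ : Submodule R N)).mkQ
      (Submodule.injective_subtype _) (LinearMap.exact_subtype_mkQ _)
      (Submodule.mkQ_surjective _) (ih _ ?_) ?_
    · rintro x hx ⟨y, hy⟩
      apply Subtype.ext
      show x • y = 0
      refine Submodule.smul_induction_on (p := fun y => x • y = 0) hy ?_ ?_
      · intro a ha z _
        rw [smul_smul]
        exact h _ (by rw [pow_succ]; exact Ideal.mul_mem_mul hx ha) z
      · intro y z hy hz
        rw [smul_add, hy, hz, add_zero]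
    · have ht : Module.IsTorsionBySet R (N ⧸ (I • (⊤ : Submodule R N))) I :=
        Module.isTorsionBySet_quotient_ideal_smul N I
      letI := ht.module
      haveI : IsScalarTower R (R ⧸ I) (N ⧸ (I • (⊤ : Submodule R N))) := ht.isScalarTower
      exact T1_of_module f g hfg hg (R ⧸ I) hI (N ⧸ (I • (⊤ : Submodule R N)))

/-- Base change `A ⊗ M` is `A`-flat as soon as `Tor₁^R(N, M) = 0` for all `A`-modules `N`. -/
lemma flat_baseChange_of_T1 [Module.Flat R F] (hfg : Function.Exact f g)
    (hg : Function.Surjective g) (A : Type u) [CommRing A] [Algebra R A]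
    (h : ∀ (N : Type u) [AddCommGroup N] [Module A N] [Module R N] [IsScalarTower R A N],
      Function.Injective (f.lTensor N)) :
    Module.Flat A (A ⊗[R] M) := by
  have h1 : ∀ J : Ideal A, Function.Injective ((f.baseChange A).lTensor (A ⧸ J)) := by
    intro J
    rw [lTensor_baseChange_injective_iff A]
    exact h (A ⧸ J)
  have := Groth.Agent.Lib.McCoyH8.flat_coker (f.baseChange A) h1
  have hex : Function.Exact (f.baseChange A) (g.baseChange A) := by
    have := lTensor_exact A hfg hg
    intro y
    rw [LinearMap.baseChange_eq_ltensor, LinearMap.baseChange_eq_ltensor]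
    exact this y
  have hsurj : Function.Surjective (g.baseChange A) := by
    rw [LinearMap.baseChange_eq_ltensor]
    exact LinearMap.lTensor_surjective A hg
  exact Module.Flat.of_linearEquiv (hex.linearEquivOfSurjective hsurj).symm

end main

section thms

variable {R : Type u} [CommRing R]

/-- **Local criterion, general torsion form**: if `M/IM` is flat over `R/I` and `I ⊗ M → M` is
injective, then `Tor₁(N, M) = 0` for all `N` killed by a power of `I` (for the canonical free
presentation of `M`). -/
lemma T1_canonical (I : Ideal R) (M : Type*) [AddCommGroup M] [Module R M]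
    [Module.Flat (R ⧸ I) ((R ⧸ I) ⊗[R] M)]
    (htor : Function.Injective (I.subtype.rTensor M)) (n : ℕ) (N : Type u) [AddCommGroup N]
    [Module R N] (hN : ∀ x ∈ I ^ n, ∀ y : N, x • y = 0) :
    Function.Injective
      ((LinearMap.ker (Finsupp.linearCombination R (id : M → M))).subtype.lTensor N) :=
  T1_of_pow_torsion _ (Finsupp.linearCombination R (id : M → M))
    (LinearMap.exact_subtype_ker_map _) (Finsupp.linearCombination_id_surjective R M) I
    (T1_quot_ideal _ _ (Submodule.injective_subtype _) (LinearMap.exact_subtype_ker_map _)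
      (Finsupp.linearCombination_id_surjective R M) I htor) n N hN

/-- **Local criterion of flatness for a nilpotent ideal.** -/
theorem flat_of_nilpotent (I : Ideal R) (hI : IsNilpotent I) (M : Type*) [AddCommGroup M]
    [Module R M] [Module.Flat (R ⧸ I) ((R ⧸ I) ⊗[R] M)]
    (htor : Function.Injective (I.subtype.rTensor M)) : Module.Flat R M := by
  obtain ⟨n, hn⟩ := hI
  refine flat_of_T1 _ (Finsupp.linearCombination R (id : M → M))
    (LinearMap.exact_subtype_ker_map _) (Finsupp.linearCombination_id_surjective R M) ?_
  intro J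
  refine T1_canonical I M htor n (R ⧸ J) ?_
  intro x hx y
  rw [hn] at hx
  have : x = 0 := hx
  rw [this, zero_smul]

/-- If `M/IM` is flat over `R/I` and `I ⊗ M → M` is injective, then `M/IⁿM` is flat over `R/Iⁿ`. -/
theorem flat_quot_pow (I : Ideal R) (M : Type*) [AddCommGroup M]
    [Module R M] [Module.Flat (R ⧸ I) ((R ⧸ I) ⊗[R] M)]
    (htor : Function.Injective (I.subtype.rTensor M)) (n : ℕ) :
    Module.Flat (R ⧸ I ^ n) ((R ⧸ I ^ n) ⊗[R] M) := by
  refine flat_baseChange_of_T1 _ (Finsupp.linearCombination R (id : M → M))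
    (LinearMap.exact_subtype_ker_map _) (Finsupp.linearCombination_id_surjective R M)
    (R ⧸ I ^ n) ?_
  intro N _ _ _ _
  refine T1_canonical I M htor n N ?_
  intro x hx y
  rw [← algebraMap_smul (R ⧸ I ^ n) x y]
  have : algebraMap R (R ⧸ I ^ n) x = 0 := Ideal.Quotient.eq_zero_iff_mem.mpr hx
  rw [this, zero_smul]

end thms

end Groth.Agent.Lib.LocalCrit4
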