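import Mathlib.RingTheory.Nakayama
import Mathlib.LinearAlgebra.TensorProduct.Quotient
import Mathlib.LinearAlgebra.TensorProduct.Tower
import Mathlib.Algebra.Module.Projective
import Mathlib.RingTheory.Finiteness.Basic

/-!
# Nakayama's lemma for base change to `R ⧸ I`, `I` in the Jacobson radical
-/

set_option autoImplicit false
universe u v w

open TensorProduct

namespace Groth.Agent.Lib.NakayamaBC_helper9

variable {R : Type u} [CommRing R] (I : Ideal R)

/-- `m ↦ 1 ⊗ m : M → (R ⧸ I) ⊗ M` is surjective. -/
theorem mk_one_surjective (M : Type v) [AddCommGroup M] [Module R M] :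
    Function.Surjective (TensorProduct.mk R (R ⧸ I) M 1) := by
  rw [← quotTensorEquivQuotSMul_symm_comp_mkQ I, LinearMap.coe_comp]
  exact (quotTensorEquivQuotSMul M I).symm.surjective.comp (Submodule.mkQ_surjective _)

theorem one_tmul_eq_zero_iff (M : Type v) [AddCommGroup M] [Module R M] (x : M) :
    (1 : R ⧸ I) ⊗ₜ[R] x = 0 ↔ x ∈ I • (⊤ : Submodule R M) := by
  rw [← (quotTensorEquivQuotSMul M I).map_eq_zero_iff, quotTensorEquivQuotSMul_mk_one_tmul,
    Submodule.Quotient.mk_eq_zero]

variable {I}

/-- Nakayama: a linear map into a finite module which is surjective modulo `I ≤ Jac(R)` is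
surjective. -/
theorem surjective_of_baseChange_surjective (hI : I ≤ Ideal.jacobson (⊥ : Ideal R))
    {M : Type v} {N : Type w} [AddCommGroup M] [Module R M] [AddCommGroup N] [Module R N]
    [Module.Finite R N] (φ : M →ₗ[R] N)
    (h : Function.Surjective (φ.baseChange (R ⧸ I))) : Function.Surjective φ := by
  rw [← LinearMap.range_eq_top, eq_top_iff]
  refine Submodule.le_of_le_smul_of_le_jacobson_bot (Module.Finite.fg_top) hI ?_
  intro y _
  obtain ⟨z, hz⟩ := h ((1 : R ⧸ I) ⊗ₜ[R] y)
  obtain ⟨x, rfl⟩ := mk_one_surjective I M z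
  have h1 : (1 : R ⧸ I) ⊗ₜ[R] (y - φ x) = 0 := by
    rw [TensorProduct.tmul_sub, ← hz]
    simp
  rw [one_tmul_eq_zero_iff] at h1
  have : y = φ x + (y - φ x) := by abel
  rw [this]
  exact Submodule.add_mem_sup (LinearMap.mem_range_self φ x) h1

/-- Nakayama: a linear map from a finite module to a finite projective module which is bijective
modulo `I ≤ Jac(R)` is bijective. -/
theorem bijective_of_baseChange_bijective (hI : I ≤ Ideal.jacobson (⊥ : Ideal R))
    {M : Type v} {N : Type w} [AddCommGroup M] [Module R M] [AddCommGroup N] [Module R N]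
    [Module.Finite R M] [Module.Finite R N] [Module.Projective R N] (φ : M →ₗ[R] N)
    (h : Function.Bijective (φ.baseChange (R ⧸ I))) : Function.Bijective φ := by
  have hsurj : Function.Surjective φ := surjective_of_baseChange_surjective hI φ h.2
  refine ⟨?_, hsurj⟩
  obtain ⟨s, hs⟩ := Module.projective_lifting_property φ LinearMap.id hsurj
  -- projection onto the kernel
  let π : M →ₗ[R] M := LinearMap.id - s ∘ₗ φ
  have hπker : ∀ x, π x ∈ LinearMap.ker φ := by
    intro x
    rw [LinearMap.mem_ker]
    have : φ (s (φ x)) = φ x := LinearMap.congr_fun hs (φ x)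
    simp [π, this]
  have hπid : ∀ k ∈ LinearMap.ker φ, π k = k := by
    intro k hk
    rw [LinearMap.mem_ker] at hk
    simp [π, hk]
  have hrange : LinearMap.range π = LinearMap.ker φ := by
    apply le_antisymm
    · rintro _ ⟨x, rfl⟩; exact hπker x
    · intro k hk; exact ⟨k, hπid k hk⟩
  have hfg : (LinearMap.ker φ).FG := by
    rw [← hrange, LinearMap.range_eq_map]
    exact Module.Finite.fg_top.map π
  have hle : LinearMap.ker φ ≤ I • LinearMap.ker φ := by
    intro k hk
    have h1 : (1 : R ⧸ I) ⊗ₜ[R] k = 0 := by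
      apply h.1
      rw [map_zero, LinearMap.baseChange_tmul]
      rw [LinearMap.mem_ker] at hk
      rw [hk, TensorProduct.tmul_zero]
    rw [one_tmul_eq_zero_iff] at h1
    have h2 : π k ∈ Submodule.map π (I • (⊤ : Submodule R M)) := Submodule.mem_map_of_mem h1
    rw [Submodule.map_smul'', Submodule.map_top, hrange, hπid k hk] at h2
    exact h2
  have hbot := Submodule.eq_bot_of_le_smul_of_le_jacobson_bot I _ hfg hle hI
  exact LinearMap.ker_eq_bot.mp hbot

end Groth.Agent.Lib.NakayamaBC_helper9
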