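import Mathlib
import Groth.Agent.Lib.LocalCrit4_helper9
import Groth.Agent.Lib.NakayamaBC_helper9

/-! Flat modules over a local ring with nilpotent maximal ideal: lifting injectivity of
endomorphisms from the closed fibre. -/

namespace Groth.Agent.Lib.ArtinLocalFlat

open TensorProduct IsLocalRing Groth.Agent.Lib.NakayamaBC_helper9

universe u

section colon

variable {A : Type*} [CommRing A] {M : Type*} [AddCommGroup M] [Module A M]

lemma lid_rTensor_mem (J : Ideal A) (z : J ⊗[A] M) :
    (TensorProduct.lid A M) (J.subtype.rTensor M z) ∈ J • (⊤ : Submodule A M) := by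
  induction z using TensorProduct.induction_on with
  | zero => simp
  | tmul j x =>
    simp only [LinearMap.rTensor_tmul, Submodule.coe_subtype, TensorProduct.lid_tmul]
    exact Submodule.smul_mem_smul j.2 trivial
  | add x y hx hy =>
    simp only [map_add]
    exact add_mem hx hy

/-- `(I M : t) = (I : t) M` for flat `M`. -/
lemma mem_colon_smul_top [Module.Flat A M] (I : Ideal A) (t : A) (x : M)
    (h : t • x ∈ I • (⊤ : Submodule A M)) :
    x ∈ (LinearMap.ker (I.mkQ ∘ₗ LinearMap.toSpanSingleton A A t)) • (⊤ : Submodule A M) := by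
  set ψ : A →ₗ[A] A ⧸ I := I.mkQ ∘ₗ LinearMap.toSpanSingleton A A t with hψ
  have hex : Function.Exact (LinearMap.ker ψ).subtype ψ := LinearMap.exact_subtype_ker_map ψ
  have hex2 := Module.Flat.rTensor_exact M hex
  have h1 : ψ.rTensor M ((1 : A) ⊗ₜ[A] x) = 0 := by
    rw [LinearMap.rTensor_tmul, hψ, LinearMap.comp_apply, LinearMap.toSpanSingleton_apply,
      Submodule.mkQ_apply, one_smul]
    have : (Submodule.Quotient.mk t : A ⧸ I) = t • (1 : A ⧸ I) := by
      change Ideal.Quotient.mk I t = t • (1 : A ⧸ I)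
      rw [Algebra.smul_def, mul_one]; rfl
    rw [this, TensorProduct.smul_tmul, one_tmul_eq_zero_iff]
    exact h
  obtain ⟨z, hz⟩ := (hex2 _).mp h1
  have := lid_rTensor_mem (LinearMap.ker ψ) z
  rw [hz, TensorProduct.lid_tmul, one_smul] at this
  exact this

end colon

variable {A : Type u} [CommRing A] [IsLocalRing A]

/-- existence of a "socle element" modulo a proper ideal. -/
lemma exists_socle (hnil : IsNilpotent (maximalIdeal A)) (I : Ideal A) (hI : I ≠ ⊤) :
    ∃ t : A, t ∉ I ∧ ∀ a ∈ maximalIdeal A, a * t ∈ I := by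
  classical
  obtain ⟨n, hn⟩ := hnil
  have hex : ∃ j, maximalIdeal A ^ j ≤ I := ⟨n, by rw [hn]; exact bot_le⟩
  have hj0 : Nat.find hex ≠ 0 := by
    intro h0
    have := Nat.find_spec hex
    rw [h0, pow_zero, Ideal.one_eq_top, top_le_iff] at this
    exact hI this
  obtain ⟨k, hk⟩ := Nat.exists_eq_succ_of_ne_zero hj0
  have hk' : ¬ maximalIdeal A ^ k ≤ I := Nat.find_min hex (by omega)
  obtain ⟨t, ht, htI⟩ := SetLike.not_le_iff_exists.mp hk'
  refine ⟨t, htI, fun a ha => ?_⟩
  apply Nat.find_spec hex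
  rw [hk, pow_succ']
  exact Ideal.mul_mem_mul ha ht

variable {M : Type*} [AddCommGroup M] [Module A M] (φ : M →ₗ[A] M)

/-- `φ` is injective modulo `J`. -/
def InjMod (J : Ideal A) : Prop :=
  ∀ x : M, φ x ∈ J • (⊤ : Submodule A M) → x ∈ J • (⊤ : Submodule A M)

omit [IsLocalRing A] in
lemma injMod_bot_iff : InjMod φ ⊥ ↔ Function.Injective φ := by
  unfold InjMod
  rw [injective_iff_map_eq_zero]
  simp only [Submodule.bot_smul, Submodule.mem_bot]

omit [IsLocalRing A] in
lemma injMod_iff_lTensor (J : Ideal A) :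
    InjMod φ J ↔ Function.Injective (φ.lTensor (A ⧸ J)) := by
  rw [injective_iff_map_eq_zero]
  constructor
  · intro h z hz
    obtain ⟨x, rfl⟩ := mk_one_surjective J M z
    rw [TensorProduct.mk_apply, LinearMap.lTensor_tmul, one_tmul_eq_zero_iff] at hz
    rw [TensorProduct.mk_apply, one_tmul_eq_zero_iff]
    exact h x hz
  · intro h x hx
    rw [← one_tmul_eq_zero_iff] at hx ⊢
    apply h
    rw [LinearMap.lTensor_tmul]
    exact hx

theorem injMod_maximal_of_injMod [Module.Flat A M] (hnil : IsNilpotent (maximalIdeal A))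
    (I : Ideal A) (hI : I ≠ ⊤) (h : InjMod φ I) : InjMod φ (maximalIdeal A) := by
  obtain ⟨t, htI, ht⟩ := exists_socle hnil I hI
  intro x hx
  have h1 : t • φ x ∈ I • (⊤ : Submodule A M) := by
    refine Submodule.smul_induction_on hx ?_ ?_
    · intro a ha y _
      rw [smul_smul, mul_comm]
      exact Submodule.smul_mem_smul (ht a ha) trivial
    · intro y z hy hz
      rw [smul_add]
      exact add_mem hy hz
  rw [← map_smul] at h1
  have h2 := mem_colon_smul_top I t x (h _ h1)
  refine Submodule.smul_mono_left ?_ h2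
  apply IsLocalRing.le_maximalIdeal
  intro htop
  have : (1 : A) ∈ LinearMap.ker (I.mkQ ∘ₗ LinearMap.toSpanSingleton A A t) := by
    rw [htop]; trivial
  rw [LinearMap.mem_ker, LinearMap.comp_apply, LinearMap.toSpanSingleton_apply, one_smul,
    Submodule.mkQ_apply, Submodule.Quotient.mk_eq_zero] at this
  exact htI this

section K2

variable [Module.Flat A M] (hnil : IsNilpotent (maximalIdeal A))
  (h : InjMod φ (maximalIdeal A))

include hnil h

theorem lTensor_injective_of_injMod_maximal (N : Type u) [AddCommGroup N] [Module A N] :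
    Function.Injective (φ.lTensor N) := by
  obtain ⟨n, hn⟩ := hnil
  letI := Ideal.Quotient.field (maximalIdeal A)
  haveI : Module.Flat (A ⧸ maximalIdeal A)
      ((A ⧸ maximalIdeal A) ⊗[A] (M ⧸ LinearMap.range φ)) := inferInstance
  refine Groth.Agent.Lib.LocalCrit4.T1_of_pow_torsion φ (LinearMap.range φ).mkQ
    (LinearMap.exact_map_mkQ_range φ) (Submodule.mkQ_surjective _) (maximalIdeal A)
    ((injMod_iff_lTensor φ _).mp h) n N ?_
  intro x hx y
  rw [hn, Ideal.zero_eq_bot, Ideal.mem_bot] at hx
  rw [hx, zero_smul]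

theorem injMod_of_injMod_maximal (J : Ideal A) : InjMod φ J :=
  (injMod_iff_lTensor φ J).mpr (lTensor_injective_of_injMod_maximal φ hnil h (A ⧸ J))

theorem flat_quotient_range : Module.Flat A (M ⧸ LinearMap.range φ) :=
  Groth.Agent.Lib.LocalCrit2.flat_of_T1 φ (LinearMap.range φ).mkQ
    (LinearMap.exact_map_mkQ_range φ) (Submodule.mkQ_surjective _)
    (fun J => lTensor_injective_of_injMod_maximal φ hnil h (A ⧸ J))

end K2

end Groth.Agent.Lib.ArtinLocalFlat

namespace Groth.Agent.Lib.ArtinLocalFlat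

open IsLocalRing

section ring

variable {A : Type*} [CommRing A] {S : Type*} [CommRing S] [Algebra A S] (f : S)

lemma mem_nzd_quot_iff (J : Ideal A) :
    Ideal.Quotient.mk (J.map (algebraMap A S)) f ∈ nonZeroDivisors (S ⧸ J.map (algebraMap A S)) ↔
      InjMod (LinearMap.mulLeft A f) J := by
  rw [mem_nonZeroDivisors_iff_left]
  unfold InjMod
  simp only [Ideal.smul_top_eq_map, Submodule.restrictScalars_mem, LinearMap.mulLeft_apply]
  constructor
  · intro h x hx
    rw [← Ideal.Quotient.eq_zero_iff_mem] at hx ⊢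
    rw [map_mul] at hx
    exact h _ hx
  · intro h x hx
    obtain ⟨x, rfl⟩ := Ideal.Quotient.mk_surjective x
    rw [← map_mul, Ideal.Quotient.eq_zero_iff_mem] at hx
    rw [Ideal.Quotient.eq_zero_iff_mem]
    exact h x hx

lemma mem_nzd_iff : f ∈ nonZeroDivisors S ↔ InjMod (LinearMap.mulLeft A f) ⊥ := by
  rw [mem_nonZeroDivisors_iff_left, injMod_bot_iff, injective_iff_map_eq_zero]
  simp only [LinearMap.mulLeft_apply]

lemma range_mulLeft :
    LinearMap.range (LinearMap.mulLeft A f) = (Ideal.span {f}).restrictScalars A := by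
  ext x
  simp only [LinearMap.mem_range, LinearMap.mulLeft_apply, Submodule.restrictScalars_mem,
    Ideal.mem_span_singleton']
  constructor
  · rintro ⟨y, rfl⟩; exact ⟨y, mul_comm _ _⟩
  · rintro ⟨y, rfl⟩; exact ⟨y, mul_comm _ _⟩

lemma flat_quot_span_of_flat_quot_range
    (h : Module.Flat A (S ⧸ LinearMap.range (LinearMap.mulLeft A f))) :
    Module.Flat A (S ⧸ Ideal.span {f}) :=
  Module.Flat.of_linearEquiv
    ((Submodule.Quotient.restrictScalarsEquiv A (Ideal.span {f})).symm.trans
      (Submodule.quotEquivOfEq _ _ (range_mulLeft (A := A) f).symm))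

end ring

/-- Non-zero-divisors in a flat algebra over an Artinian local ring can be tested modulo any
proper ideal, and the quotient stays flat. -/
theorem nzd_iff_and_flat {A : Type*} [CommRing A] [IsArtinianRing A] [IsLocalRing A] (I : Ideal A)
    (hI : I ≠ ⊤) {S : Type*} [CommRing S] [Algebra A S] [Module.Flat A S] (f : S) :
    (f ∈ nonZeroDivisors S ↔
      Ideal.Quotient.mk (I.map (algebraMap A S)) f ∈ nonZeroDivisors (S ⧸ I.map (algebraMap A S))) ∧
    (f ∈ nonZeroDivisors S → Module.Flat A (S ⧸ Ideal.span {f})) := by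
  have hnil : IsNilpotent (maximalIdeal A) := by
    have := IsArtinianRing.isNilpotent_jacobson_bot (R := A)
    rwa [IsLocalRing.jacobson_eq_maximalIdeal ⊥ bot_ne_top] at this
  rw [mem_nzd_iff (A := A), mem_nzd_quot_iff]
  refine ⟨⟨fun h => ?_, fun h => ?_⟩, fun h => ?_⟩
  · exact injMod_of_injMod_maximal _ hnil
      (injMod_maximal_of_injMod _ hnil ⊥ bot_ne_top h) I
  · exact injMod_of_injMod_maximal _ hnil
      (injMod_maximal_of_injMod _ hnil I hI h) ⊥
  · exact flat_quot_span_of_flat_quot_range f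
      (flat_quotient_range _ hnil (injMod_maximal_of_injMod _ hnil ⊥ bot_ne_top h))

end Groth.Agent.Lib.ArtinLocalFlat
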