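import Mathlib
import Groth.Prelude.Def_CAlg
import Groth.Prelude.Def_Wider
import Groth.Agent.Lib.Gorenstein_helper5
import Groth.Agent.Lib.InjHull3_helper3
import Groth.Agent.Lib.Matlis3_helper5
import Groth.Agent.S0299

/-!
# Gorenstein Artinian local rings and the socle (helper9)

An Artinian local ring is Gorenstein iff its socle is generated by one nonzero element.
-/

set_option autoImplicit false
universe u

namespace Groth.Agent.GorFlat9

open IsLocalRing CategoryTheory

/-- type one: the socle is generated by one nonzero element -/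
def TypeOne (R : Type*) [CommRing R] [IsLocalRing R] : Prop :=
  ∃ s : R, s ≠ 0 ∧ (∀ a ∈ maximalIdeal R, a * s = 0) ∧
    ∀ x : R, (∀ a ∈ maximalIdeal R, a * x = 0) → ∃ c, x = c * s

section Artin

variable (R : Type u) [CommRing R] [IsLocalRing R] [IsNoetherianRing R]

theorem isArtinianRing_of_dim_zero (h0 : ringKrullDim R = 0) : IsArtinianRing R := by
  rw [isArtinianRing_iff_krullDimLE_zero, Ring.krullDimLE_iff, h0]
  rfl

theorem isNilpotent_maximalIdeal (h0 : ringKrullDim R = 0) : IsNilpotent (maximalIdeal R) := by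
  haveI := isArtinianRing_of_dim_zero R h0
  have h := IsArtinianRing.isNilpotent_jacobson_bot (R := R)
  rwa [IsLocalRing.jacobson_eq_maximalIdeal ⊥ bot_ne_top] at h

/-- a nonzero socle element -/
theorem exists_socle (h0 : ringKrullDim R = 0) (I : Ideal R) (hI : I ≠ ⊤) :
    ∃ t : R, t ∉ I ∧ ∀ a ∈ maximalIdeal R, a * t ∈ I := by
  classical
  obtain ⟨n, hn⟩ := isNilpotent_maximalIdeal R h0
  have hex : ∃ j, maximalIdeal R ^ j ≤ I := ⟨n, by rw [hn]; exact bot_le⟩
  have hj0 : Nat.find hex ≠ 0 := by
    intro h0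
    have := Nat.find_spec hex
    rw [h0, pow_zero, Ideal.one_eq_top, top_le_iff] at this
    exact hI this
  obtain ⟨j, hj⟩ := Nat.exists_eq_succ_of_ne_zero hj0
  have hmin : ¬ maximalIdeal R ^ j ≤ I := Nat.find_min hex (by rw [hj]; exact Nat.lt_succ_self j)
  obtain ⟨t, ht, htI⟩ := SetLike.not_le_iff_exists.1 hmin
  refine ⟨t, htI, fun a ha => ?_⟩
  have h1 := Nat.find_spec hex
  rw [hj, pow_succ'] at h1
  exact h1 (Ideal.mul_mem_mul ha ht)

theorem injective_of_gorenstein (h0 : ringKrullDim R = 0) (h : LocCoh.IsGorensteinLocalRing R) :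
    Module.Injective R R := by
  have hdim : ringKrullDim R ≤ (((0 : ℕ) : ℕ∞) : WithBot ℕ∞) := by
    rw [h0]; rfl
  have h1 := Groth.Agent.Gor.injDim_le_dim_local R h.exists_hasInjectiveDimensionLT 0 hdim
  rw [zero_add] at h1
  haveI : Injective (ModuleCat.of R R) := injective_iff_hasInjectiveDimensionLT_one.2 h1
  exact Module.injective_module_of_injective_object R R

theorem gorenstein_of_injective (h : Module.Injective R R) : LocCoh.IsGorensteinLocalRing R := by
  haveI : Injective (ModuleCat.of R R) := Module.injective_object_of_injective_module R R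
  exact { exists_hasInjectiveDimensionLT := ⟨1, injective_iff_hasInjectiveDimensionLT_one.1 inferInstance⟩ }

/-- the `R`-linear map `R/m → R`, `c ↦ c s`, for a socle element `s` -/
noncomputable def socleMap (s : R) (hs : ∀ a ∈ maximalIdeal R, a * s = 0) :
    (R ⧸ maximalIdeal R) →ₗ[R] R :=
  (maximalIdeal R).liftQ (LinearMap.toSpanSingleton R R s) (by
    intro a ha
    rw [LinearMap.mem_ker, LinearMap.toSpanSingleton_apply, smul_eq_mul]
    exact hs a ha)

omit [IsNoetherianRing R] in
theorem socleMap_mk (s : R) (hs : ∀ a ∈ maximalIdeal R, a * s = 0) (c : R) :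
    socleMap R s hs (Ideal.Quotient.mk _ c) = c * s := by
  unfold socleMap
  erw [Submodule.liftQ_apply]
  rw [LinearMap.toSpanSingleton_apply, smul_eq_mul]

omit [IsNoetherianRing R] in
theorem socleMap_injective (s : R) (hs : ∀ a ∈ maximalIdeal R, a * s = 0) (hs0 : s ≠ 0) :
    Function.Injective (socleMap R s hs) := by
  rw [injective_iff_map_eq_zero]
  intro z hz
  obtain ⟨c, rfl⟩ := Ideal.Quotient.mk_surjective z
  rw [socleMap_mk] at hz
  rw [Ideal.Quotient.eq_zero_iff_mem]
  by_contra hc
  have hu : IsUnit c := by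
    by_contra hnu
    exact hc ((IsLocalRing.mem_maximalIdeal c).2 hnu)
  exact hs0 (hu.mul_right_eq_zero.1 hz)

/-- self-injective Artinian local rings have type one -/
theorem typeOne_of_injective (h0 : ringKrullDim R = 0) (h : Module.Injective R R) : TypeOne R := by
  obtain ⟨s, hs0, hs⟩ := exists_socle R h0 ⊥ bot_ne_top
  have hs0' : s ≠ 0 := fun h => hs0 (by rw [h]; exact Submodule.zero_mem _)
  have hs' : ∀ a ∈ maximalIdeal R, a * s = 0 := fun a ha => by
    simpa using hs a ha
  refine ⟨s, hs0', hs', fun x hx => ?_⟩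
  obtain ⟨g, hg⟩ := Module.Injective.extension_property R R _ _ (socleMap R s hs')
    (socleMap_injective R s hs' hs0') (socleMap R x hx)
  refine ⟨g 1, ?_⟩
  have h1 := LinearMap.congr_fun hg (Ideal.Quotient.mk _ 1)
  rw [LinearMap.comp_apply, socleMap_mk, socleMap_mk, one_mul, one_mul] at h1
  rw [← h1]
  have h2 : g s = g (s • (1 : R)) := by rw [smul_eq_mul, mul_one]
  rw [h2, map_smul, smul_eq_mul, mul_comm]

/-- the socle map as a map from the residue field -/
noncomputable def socleMap' (s : R) (hs : ∀ a ∈ maximalIdeal R, a * s = 0) :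
    ResidueField R →ₗ[R] R :=
  { toFun := fun z => socleMap R s hs z
    map_add' := fun a b => map_add (socleMap R s hs) a b
    map_smul' := fun a z => by
      obtain ⟨c, rfl⟩ := Ideal.Quotient.mk_surjective z
      change socleMap R s hs (Ideal.Quotient.mk _ (a * c)) = a • socleMap R s hs (Ideal.Quotient.mk _ c)
      rw [socleMap_mk, socleMap_mk, smul_eq_mul, mul_assoc] }

omit [IsNoetherianRing R] in
theorem socleMap'_residue (s : R) (hs : ∀ a ∈ maximalIdeal R, a * s = 0) (c : R) :
    socleMap' R s hs (IsLocalRing.residue R c) = c * s :=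
  socleMap_mk R s hs c

omit [IsNoetherianRing R] in
theorem socleMap'_injective (s : R) (hs : ∀ a ∈ maximalIdeal R, a * s = 0) (hs0 : s ≠ 0) :
    Function.Injective (socleMap' R s hs) :=
  socleMap_injective R s hs hs0

theorem socleMap'_essential (h0 : ringKrullDim R = 0) (s : R)
    (hs : ∀ a ∈ maximalIdeal R, a * s = 0) (hs0 : s ≠ 0)
    (hgen : ∀ x : R, (∀ a ∈ maximalIdeal R, a * x = 0) → ∃ c, x = c * s) :
    InjHull.IsEssentialInj (socleMap' R s hs) := by
  refine ⟨socleMap'_injective R s hs hs0, fun N hN => ?_⟩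
  have hpt : LocCoh.IsPowerTorsion (maximalIdeal R) R := by
    obtain ⟨n, hn⟩ := isNilpotent_maximalIdeal R h0
    intro x
    refine ⟨n, fun a ha => ?_⟩
    rw [hn] at ha
    have : a = 0 := by simpa using ha
    rw [this, zero_smul]
  have h1 := (Groth.Agent.Lib.InjHull2_helper3.socle_essential (R := R) (M := R) hpt).essential N hN
  intro hbot
  apply h1
  rw [eq_bot_iff] at hbot ⊢
  rintro x ⟨hxN, hx⟩
  apply hbot
  refine ⟨hxN, ?_⟩
  rw [Submodule.range_subtype] at hx
  have hx' : ∀ a ∈ maximalIdeal R, a * x = 0 := by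
    intro a ha
    have := (Submodule.mem_torsionBySet_iff _ _).1 hx ⟨a, ha⟩
    simpa using this
  obtain ⟨c, rfl⟩ := hgen x hx'
  exact ⟨IsLocalRing.residue R c, socleMap'_residue R s hs c⟩

omit [IsLocalRing R] [IsNoetherianRing R] in
/-- composition of essential injections -/
theorem essential_comp {M N E : Type u} [AddCommGroup M] [Module R M] [AddCommGroup N] [Module R N]
    [AddCommGroup E] [Module R E] (f : M →ₗ[R] N) (g : N →ₗ[R] E)
    (hf : InjHull.IsEssentialInj f) (hg : InjHull.IsEssentialInj g) :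
    InjHull.IsEssentialInj (g ∘ₗ f) := by
  refine ⟨hg.injective.comp hf.injective, fun K hK => ?_⟩
  have h1 := hg.essential K hK
  obtain ⟨y, hy, hy0⟩ := (Submodule.ne_bot_iff _).1 h1
  obtain ⟨hyK, ⟨n, rfl⟩⟩ := hy
  have hn0 : n ≠ 0 := fun h => hy0 (by rw [h, map_zero])
  have hK' : K.comap g ≠ ⊥ := by
    rw [Submodule.ne_bot_iff]
    exact ⟨n, hyK, hn0⟩
  have h2 := hf.essential (K.comap g) hK'
  obtain ⟨z, hz, hz0⟩ := (Submodule.ne_bot_iff _).1 h2
  obtain ⟨hzK, ⟨m, rfl⟩⟩ := hz
  rw [Submodule.ne_bot_iff]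
  refine ⟨g (f m), ⟨hzK, ⟨m, rfl⟩⟩, ?_⟩
  intro h
  exact hz0 (hg.injective (h.trans (map_zero g).symm))

/-- Artinian local rings of type one are self-injective -/
theorem injective_of_typeOne (h0 : ringKrullDim R = 0) (h : TypeOne R) : Module.Injective R R := by
  haveI := isArtinianRing_of_dim_zero R h0
  obtain ⟨s, hs0, hs, hgen⟩ := h
  obtain ⟨E, _, _, g, hg⟩ := Groth.Agent.S0299.result R R
  have hhull : InjHull.IsInjectiveHull (g ∘ₗ socleMap' R s hs) :=
    { toIsEssentialInj := essential_comp R _ g (socleMap'_essential R h0 s hs hs0 hgen)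
        hg.toIsEssentialInj
      isInjective := hg.isInjective }
  have hlen := Groth.Agent.Lib.InjHull3_helper3.length_hom_hull' _ hhull R
  have hlen' : Module.length R E = Module.length R R := by
    rw [← hlen]
    exact (LinearMap.ringLmapEquivSelf R R E).length_eq.symm
  have hsurj := Groth.Agent.Matlis.surjective_of_injective_of_length_eq g hg.injective hlen'
    Module.length_ne_top
  haveI := hg.isInjective
  exact Groth.Agent.Matlis.injective_of_linearEquiv (LinearEquiv.ofBijective g ⟨hg.injective, hsurj⟩)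

/-- **Artinian local: Gorenstein iff type one.** -/
theorem gorenstein_iff_typeOne (h0 : ringKrullDim R = 0) :
    LocCoh.IsGorensteinLocalRing R ↔ TypeOne R :=
  ⟨fun h => typeOne_of_injective R h0 (injective_of_gorenstein R h0 h),
    fun h => gorenstein_of_injective R (injective_of_typeOne R h0 h)⟩

end Artin

end Groth.Agent.GorFlat9
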