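import Mathlib
import Groth.Prelude.Def_EGA4b
import Groth.Agent.Lib.GorFlat_helper9
import Groth.Agent.Lib.ArtinLocalFlat_helper9
import Groth.Agent.Lib.AnnFlat_helper9

/-!
# Type one along flat local homomorphisms (helper9)

For a flat local homomorphism `A → B` of Noetherian local rings with closed fibre `F = B / m_A B`:
`B` has type one iff `A` and `F` have type one (Artinian case for `⇒`).
-/

set_option autoImplicit false
universe u

namespace Groth.Agent.GorFlat9

open IsLocalRing TensorProduct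

section Flat

variable (A B : Type u) [CommRing A] [CommRing B] [IsLocalRing A] [IsLocalRing B]
  [IsNoetherianRing A] [IsNoetherianRing B] [Algebra A B] [IsLocalHom (algebraMap A B)]
  [Module.Flat A B]

omit [IsNoetherianRing A] [IsNoetherianRing B] [IsLocalRing B] [IsLocalHom (algebraMap A B)] in
/-- `s ∉ I`, `s b ∈ I B` ⇒ `b ∈ m_A B`. -/
theorem mem_mB_of_mul_mem (I : Ideal A) (s : A) (hs : s ∉ I) (b : B)
    (h : algebraMap A B s * b ∈ I.map (algebraMap A B)) : b ∈ EGA4.mB A B := by
  have h1 : s • b ∈ I • (⊤ : Submodule A B) := by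
    rw [Ideal.smul_top_eq_map, Submodule.restrictScalars_mem, Algebra.smul_def]
    exact h
  have h2 := Groth.Agent.Lib.ArtinLocalFlat.mem_colon_smul_top I s b h1
  have hK : LinearMap.ker (I.mkQ ∘ₗ LinearMap.toSpanSingleton A A s) ≤ maximalIdeal A := by
    apply IsLocalRing.le_maximalIdeal
    intro htop
    have h1 : (1 : A) ∈ LinearMap.ker (I.mkQ ∘ₗ LinearMap.toSpanSingleton A A s) := by
      rw [htop]; trivial
    rw [LinearMap.mem_ker, LinearMap.comp_apply, LinearMap.toSpanSingleton_apply, one_smul,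
      Submodule.mkQ_apply, Submodule.Quotient.mk_eq_zero] at h1
    exact hs h1
  have h3 := Submodule.smul_mono_left (N := (⊤ : Submodule A B)) hK h2
  rw [Ideal.smul_top_eq_map, Submodule.restrictScalars_mem] at h3
  exact h3

omit [IsNoetherianRing A] [IsNoetherianRing B] [IsLocalRing B] [IsLocalHom (algebraMap A B)] in
theorem mem_mB_of_mul_eq_zero (s : A) (hs : s ≠ 0) (b : B)
    (h : algebraMap A B s * b = 0) : b ∈ EGA4.mB A B := by
  apply mem_mB_of_mul_mem A B ⊥ s (by simpa using hs) b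
  rw [h]
  exact Submodule.zero_mem _

omit [IsNoetherianRing A] [IsNoetherianRing B] [IsLocalRing B] [IsLocalHom (algebraMap A B)]
  [Module.Flat A B] in
/-- socle elements of `A` kill `m_A B`. -/
theorem socle_mul_mB (s : A) (hs : ∀ a ∈ maximalIdeal A, a * s = 0) (z : B)
    (hz : z ∈ EGA4.mB A B) : algebraMap A B s * z = 0 := by
  refine Submodule.span_induction (p := fun z _ => algebraMap A B s * z = 0) ?_ ?_ ?_ ?_ hz
  · rintro _ ⟨a, ha, rfl⟩
    rw [← map_mul, mul_comm, hs a ha, map_zero]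
  · simp
  · intro x y _ _ hx hy
    rw [mul_add, hx, hy, add_zero]
  · intro r x _ hx
    rw [smul_eq_mul, mul_left_comm, hx, mul_zero]

omit [IsNoetherianRing A] [IsNoetherianRing B] [Module.Flat A B] in
theorem mk_mem_maximalIdeal (c : B) (hc : c ∈ maximalIdeal B) :
    Ideal.Quotient.mk (EGA4.mB A B) c ∈ maximalIdeal (EGA4.FibRing A B) := by
  haveI : IsLocalHom (Ideal.Quotient.mk (EGA4.mB A B)) :=
    IsLocalHom.of_surjective _ Ideal.Quotient.mk_surjective
  rw [IsLocalRing.mem_maximalIdeal, mem_nonunits_iff] at hc ⊢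
  exact fun h => hc (isUnit_of_map_unit (Ideal.Quotient.mk (EGA4.mB A B)) c h)

omit [IsNoetherianRing A] [IsNoetherianRing B] [Module.Flat A B] in
theorem mem_maximalIdeal_of_mk (c : B)
    (hc : Ideal.Quotient.mk (EGA4.mB A B) c ∈ maximalIdeal (EGA4.FibRing A B)) :
    c ∈ maximalIdeal B := by
  rw [IsLocalRing.mem_maximalIdeal, mem_nonunits_iff] at hc ⊢
  exact fun h => hc (h.map _)

omit [IsNoetherianRing A] [IsNoetherianRing B] [Module.Flat A B] in
theorem algebraMap_mem (a : A) (ha : a ∈ maximalIdeal A) : algebraMap A B a ∈ maximalIdeal B := by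
  rw [IsLocalRing.mem_maximalIdeal, mem_nonunits_iff] at ha ⊢
  exact fun h => ha (isUnit_of_map_unit (algebraMap A B) a h)

omit [IsNoetherianRing A] [IsNoetherianRing B] [Module.Flat A B] in
/-- W2: product of socle elements is a socle element -/
theorem socle_mul (s : A) (hs : ∀ a ∈ maximalIdeal A, a * s = 0) (t : B)
    (ht : ∀ c ∈ maximalIdeal (EGA4.FibRing A B), c * Ideal.Quotient.mk (EGA4.mB A B) t = 0) :
    ∀ c ∈ maximalIdeal B, c * (algebraMap A B s * t) = 0 := by
  intro c hc
  have h1 := ht _ (mk_mem_maximalIdeal A B c hc)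
  rw [← map_mul, Ideal.Quotient.eq_zero_iff_mem] at h1
  rw [mul_left_comm]
  exact socle_mul_mB A B s hs _ h1

omit [IsNoetherianRing B] [IsLocalRing B] [IsLocalHom (algebraMap A B)] in
/-- flat base change of the socle -/
theorem mem_map_socle (x : B) (hx : ∀ a ∈ maximalIdeal A, algebraMap A B a * x = 0) :
    x ∈ (Submodule.annihilator (maximalIdeal A)).map (algebraMap A B) := by
  classical
  obtain ⟨k, g, hg⟩ := Submodule.fg_iff_exists_fin_generating_family.1
    (IsNoetherian.noetherian (maximalIdeal A))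
  have h1 := Groth.Agent.Lib.AnnFlat.map_annihilator_span_singleton (R := A) (S := B)
    (M := Fin k → A) g
  have hgm : ∀ i, g i ∈ maximalIdeal A := fun i => by
    rw [← hg]; exact Submodule.subset_span ⟨i, rfl⟩
  have h2 : (Submodule.span A {g}).annihilator ≤ Submodule.annihilator (maximalIdeal A) := by
    intro a ha
    rw [Submodule.mem_annihilator_span_singleton] at ha
    rw [Submodule.mem_annihilator]
    intro n hn
    rw [← hg] at hn
    refine Submodule.span_induction (p := fun n _ => a • n = 0) ?_ ?_ ?_ ?_ hn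
    · rintro _ ⟨i, rfl⟩
      have := congrFun ha i
      simpa using this
    · simp
    · intro x y _ _ hx hy; rw [smul_add, hx, hy, add_zero]
    · intro r x _ hx; rw [smul_comm, hx, smul_zero]
  apply Ideal.map_mono h2
  rw [h1, Submodule.mem_annihilator_span_singleton, TensorProduct.smul_tmul', smul_eq_mul, mul_one]
  have hsum : g = ∑ i, g i • (Pi.single i (1 : A) : Fin k → A) := by
    funext j
    simp [Finset.sum_apply, Pi.single_apply]
  rw [hsum, TensorProduct.tmul_sum]
  apply Finset.sum_eq_zero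
  intro i _
  rw [TensorProduct.tmul_smul, TensorProduct.smul_tmul', Algebra.smul_def, hx _ (hgm i),
    TensorProduct.zero_tmul]

/-- (ii): type one ascends -/
theorem typeOne_of_typeOne_fib (hA : TypeOne A) (hF : TypeOne (EGA4.FibRing A B)) : TypeOne B := by
  obtain ⟨s, hs0, hs, hsgen⟩ := hA
  obtain ⟨tbar, ht0, ht, htgen⟩ := hF
  obtain ⟨t, rfl⟩ := Ideal.Quotient.mk_surjective tbar
  have htm : t ∉ EGA4.mB A B := fun h => ht0 (Ideal.Quotient.eq_zero_iff_mem.2 h)
  refine ⟨algebraMap A B s * t, ?_, socle_mul A B s hs t ht, ?_⟩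
  · intro h
    exact htm (mem_mB_of_mul_eq_zero A B s hs0 t h)
  · intro x hx
    have h1 := mem_map_socle A B x (fun a ha => hx _ (algebraMap_mem A B a ha))
    have hle : Submodule.annihilator (maximalIdeal A) ≤ Ideal.span {s} := by
      intro a ha
      rw [Submodule.mem_annihilator] at ha
      obtain ⟨c, rfl⟩ := hsgen a (fun b hb => by rw [mul_comm]; exact ha b hb)
      exact Ideal.mem_span_singleton'.2 ⟨c, rfl⟩
    have h2 := Ideal.map_mono (f := algebraMap A B) hle h1
    rw [Ideal.map_span, Set.image_singleton, Ideal.mem_span_singleton'] at h2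
    obtain ⟨b, rfl⟩ := h2
    -- `π b` is a socle element of `F`
    have hb : ∀ c ∈ maximalIdeal (EGA4.FibRing A B),
        c * Ideal.Quotient.mk (EGA4.mB A B) b = 0 := by
      intro c hc
      obtain ⟨c, rfl⟩ := Ideal.Quotient.mk_surjective c
      have hcm := mem_maximalIdeal_of_mk A B c hc
      have h3 := hx c hcm
      rw [← map_mul, Ideal.Quotient.eq_zero_iff_mem]
      apply mem_mB_of_mul_eq_zero A B s hs0
      rw [← h3]; ring
    obtain ⟨u, hu⟩ := htgen _ hb
    obtain ⟨u, rfl⟩ := Ideal.Quotient.mk_surjective u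
    rw [← map_mul, ← sub_eq_zero, ← map_sub, Ideal.Quotient.eq_zero_iff_mem] at hu
    have h4 := socle_mul_mB A B s hs _ hu
    refine ⟨u, ?_⟩
    rw [mul_sub, sub_eq_zero] at h4
    rw [mul_comm b, h4]; ring

/-- (i): type one descends (Artinian case) -/
theorem typeOne_of_typeOne_top (hA0 : ringKrullDim A = 0)
    (hF0 : ringKrullDim (EGA4.FibRing A B) = 0) [IsNoetherianRing (EGA4.FibRing A B)]
    (hB : TypeOne B) : TypeOne A ∧ TypeOne (EGA4.FibRing A B) := by
  obtain ⟨s, hs0, hs⟩ := exists_socle A hA0 ⊥ bot_ne_top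
  have hs0' : s ≠ 0 := fun h => hs0 (by rw [h]; exact Submodule.zero_mem _)
  have hs' : ∀ a ∈ maximalIdeal A, a * s = 0 := fun a ha => by simpa using hs a ha
  obtain ⟨tbar, ht0, ht⟩ := exists_socle (EGA4.FibRing A B) hF0 ⊥ bot_ne_top
  have ht0' : tbar ≠ 0 := fun h => ht0 (by rw [h]; exact Submodule.zero_mem _)
  have ht' : ∀ a ∈ maximalIdeal (EGA4.FibRing A B), a * tbar = 0 := fun a ha => by
    simpa using ht a ha
  obtain ⟨t, rfl⟩ := Ideal.Quotient.mk_surjective tbar
  have htm : t ∉ EGA4.mB A B := fun h => ht0' (Ideal.Quotient.eq_zero_iff_mem.2 h)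
  obtain ⟨w, hw0, hw, hwgen⟩ := hB
  have hw₀ : algebraMap A B s * t ≠ 0 := fun h => htm (mem_mB_of_mul_eq_zero A B s hs0' t h)
  obtain ⟨c₀, hc₀⟩ := hwgen _ (socle_mul A B s hs' t ht')
  have hc₀u : IsUnit c₀ := by
    by_contra hnu
    apply hw₀
    rw [hc₀]
    exact hw c₀ ((IsLocalRing.mem_maximalIdeal c₀).2 hnu)
  obtain ⟨u, rfl⟩ := hc₀u
  have hgen' : ∀ x : B, (∀ a ∈ maximalIdeal B, a * x = 0) →
      ∃ c, x = c * (algebraMap A B s * t) := by
    intro x hx
    obtain ⟨c, rfl⟩ := hwgen x hx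
    refine ⟨c * ↑u⁻¹, ?_⟩
    rw [hc₀, mul_assoc, ← mul_assoc (↑u⁻¹ : B), Units.inv_mul, one_mul]
  constructor
  · refine ⟨s, hs0', hs', fun s' hs'' => ?_⟩
    by_contra hne
    have hnot : s' ∉ Ideal.span {s} := by
      intro hmem
      obtain ⟨c, hc⟩ := Ideal.mem_span_singleton'.1 hmem
      exact hne ⟨c, hc.symm⟩
    obtain ⟨b, hb⟩ := hgen' _ (socle_mul A B s' hs'' t ht')
    apply htm
    apply mem_mB_of_mul_mem A B (Ideal.span {s}) s' hnot t
    rw [hb, Ideal.map_span, Set.image_singleton, Ideal.mem_span_singleton']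
    exact ⟨b * t, by ring⟩
  · refine ⟨Ideal.Quotient.mk _ t, ht0', ht', fun y hy => ?_⟩
    obtain ⟨y, rfl⟩ := Ideal.Quotient.mk_surjective y
    obtain ⟨b, hb⟩ := hgen' _ (socle_mul A B s hs' y hy)
    refine ⟨Ideal.Quotient.mk _ b, ?_⟩
    rw [← map_mul, ← sub_eq_zero, ← map_sub, Ideal.Quotient.eq_zero_iff_mem]
    apply mem_mB_of_mul_eq_zero A B s hs0'
    rw [mul_sub, hb]; ring

end Flat

end Groth.Agent.GorFlat9
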