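import Mathlib
import Groth.Prelude.Def_DRing2
import Groth.Prelude.Def_DDual2
import Groth.Prelude.Def_Wider
import Groth.Prelude.Def_CAlg
import Groth.Prelude.Def_EGA4b
import Groth.Agent.Lib.DMod104_helper6
import Groth.Agent.Lib.DepthRefl_helper5

/-!
# Derived category toolkit (helper6), part 105: Serre's condition `(S_k)` of an equidimensional ring
through the dimensions of the supports of the cohomology modules of a dualizing complex
normalized at every maximal ideal (S18721).
-/

set_option autoImplicit false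
universe u
open CategoryTheory CategoryTheory.Limits DerivedCategory Pretriangulated ZeroObject
open scoped Pointwise TensorProduct
attribute [local instance] HasDerivedCategory.standard

namespace Groth.Agent.Lib.DMod_helper6

open DRing Groth.Agent.ExtendScalarsLib

section GlobalNorm

variable {A : Type u} [CommRing A] [IsNoetherianRing A] (ω : Dual.D A)

lemma ringKrullDim_quot_eq_coheight (p : PrimeSpectrum A) :
    ringKrullDim (A ⧸ p.asIdeal) = (Order.coheight p : WithBot ℕ∞) := by
  rw [ringKrullDim_quotient, Order.coheight_eq_krullDim_Ici]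
  apply le_antisymm
  · exact Order.krullDim_le_of_strictMono
      (fun x : PrimeSpectrum.zeroLocus (p.asIdeal : Set A) =>
        (⟨x.1, (PrimeSpectrum.asIdeal_le_asIdeal _ _).1
          (SetLike.coe_subset_coe.1 ((PrimeSpectrum.mem_zeroLocus _ _).1 x.2))⟩ : Set.Ici p))
      (fun x y h => h)
  · exact Order.krullDim_le_of_strictMono
      (fun x : Set.Ici p =>
        (⟨x.1, (PrimeSpectrum.mem_zeroLocus _ _).2 (SetLike.coe_subset_coe.2
          ((PrimeSpectrum.asIdeal_le_asIdeal _ _).2 x.2))⟩ :
          PrimeSpectrum.zeroLocus (p.asIdeal : Set A)))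
      (fun x y h => h)

/-- per-prime degrees of the cohomology of a dualizing complex, for the ring itself. -/
theorem self_depth_degrees (hω : Dual.IsDualizing A ω) (p : PrimeSpectrum A) (ν₀ : ℤ)
    (hν₀ : Dual.IsNormalized (Localization.AtPrime p.asIdeal) ((locD ω p.asIdeal)⟦ν₀⟧)) (h : ℕ)
    (hh : Order.height p = (h : ℕ∞)) :
    ∃ δp : ℕ,
      LocCoh.depth (Localization.AtPrime p.asIdeal) (Localization.AtPrime p.asIdeal) = δp ∧
      p ∈ Module.support A (Dual.HD A ω (ν₀ - δp)) ∧
      p ∈ Module.support A (Dual.HD A ω (ν₀ - h)) ∧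
      ∀ i : ℤ, p ∈ Module.support A (Dual.HD A ω i) → ν₀ - h ≤ i ∧ i ≤ ν₀ - δp := by
  haveI := isNoetherianRing_atPrime p.asIdeal
  have hKp := isDualizing_locD ω p.asIdeal hω
  obtain ⟨δp, hδ, hδnt, hδle⟩ := exists_depth_eq_and_top_degree (locD ω p.asIdeal) hKp ν₀ hν₀
    (Localization.AtPrime p.asIdeal)
  have hdim : Module.supportDim (Localization.AtPrime p.asIdeal)
      (Localization.AtPrime p.asIdeal) = (h : WithBot ℕ∞) := by
    rw [Module.supportDim_self_eq_ringKrullDim,
      IsLocalization.AtPrime.ringKrullDim_eq_height p.asIdeal,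
      PrimeSpectrum.height_eq_orderHeight, hh]
    first | rfl | norm_cast
  obtain ⟨hdnt, hdge⟩ := bottom_degree_of_supportDim_eq (locD ω p.asIdeal) hKp ν₀ hν₀
    (Localization.AtPrime p.asIdeal) h hdim
  refine ⟨δp, hδ, (mem_support_HD_iff ω p _).2 hδnt, (mem_support_HD_iff ω p _).2 hdnt,
    fun i hi => ?_⟩
  have hi' := (mem_support_HD_iff ω p i).1 hi
  exact ⟨hdge i hi', hδle i hi'⟩

/-- S18721. -/
theorem hasSk_iff_supportDim_HD_of_equidim (hω : Dual.IsDualizing A ω)
    (hEq : EGA4.IsEquidim A) (n : ℕ) (hd : ringKrullDim A = n)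
    (hnorm : ∀ (m : Ideal A) (_ : m.IsMaximal) (i : ℤ), i ≠ 0 →
      Subsingleton (Dual.inD A (A ⧸ m) ⟶ ω⟦i⟧)) :
    (∀ i : ℕ, n < i → Subsingleton (Dual.HD A ω (-(i : ℤ)))) ∧
    ∀ k' : ℕ,
      (LocCoh.HasSk k' A A ↔
        ∀ i : ℕ, i ≠ n →
          (i < k' → Subsingleton (Dual.HD A ω (-(i : ℤ)))) ∧
          (k' ≤ i → Module.supportDim A (Dual.HD A ω (-(i : ℤ))) ≤
            ((i - k' : ℕ) : WithBot ℕ∞))) := by
  have hex : ∀ p : PrimeSpectrum A, ∃ n : ℤ,
      Dual.IsNormalized (Localization.AtPrime p.asIdeal) ((locD ω p.asIdeal)⟦n⟧) :=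
    fun p => exists_isNormalized_locD_shift ω p.asIdeal hω
  choose ν hν using hex
  have key : ∀ (p : PrimeSpectrum A) (i : ℤ),
      p ∈ Module.support A (Dual.inD A (A ⧸ p.asIdeal) ⟶ ω⟦i⟧) ↔ i = ν p := by
    intro p i
    haveI := isNoetherianRing_atPrime p.asIdeal
    exact (mem_support_hom_quot_iff ω p.asIdeal hω i).trans
      (nontrivial_hom_residueField_iff _ (isDualizing_locD ω p.asIdeal hω) (ν p) (hν p) i)
  have F1 : ∀ p q : PrimeSpectrum A, p ⋖ q → ν p = ν q - 1 := fun p q hpq =>
    normalizing_shift_covBy ω hω p q hpq (ν p) (ν q) ((key p (ν p)).2 rfl) (hν q)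
  have hmax : ∀ p : PrimeSpectrum A, IsMax p → ν p = 0 := by
    intro p hp
    by_contra hne
    have hs := hnorm p.asIdeal (PrimeSpectrum.isMax_iff.1 hp) (ν p) hne
    have hnt := nontrivial_of_mem_support ((key p (ν p)).2 rfl)
    exact (not_subsingleton_iff_nontrivial.2 hnt) hs
  have G2 : ∀ m : ℕ, ∀ p : PrimeSpectrum A, Order.coheight p = (m : ℕ∞) → ν p = -(m : ℤ) := by
    intro m
    induction m with
    | zero =>
      intro p hp
      have hmx : IsMax p := by simpa using hp
      rw [hmax p hmx]; simp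
    | succ m ih =>
      intro p hp
      have hp' : Order.coheight p = (m : ℕ∞) + 1 := by simpa using hp
      obtain ⟨-, ⟨q, hpq, hq⟩, hall⟩ := Order.coheight_eq_coe_add_one_iff.1 hp'
      have hcov : p ⋖ q := by
        refine ⟨hpq, fun c hpc hcq => ?_⟩
        have h1 := Order.coheight_add_one_le hcq
        have h2 := hall c hpc
        rw [hq] at h1
        have h3 : ((m + 1 : ℕ) : ℕ∞) ≤ (m : ℕ∞) := by
          push_cast
          exact le_trans h1 h2
        have h4 : m + 1 ≤ m := by exact_mod_cast h3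
        omega
      have h5 := F1 p q hcov
      have h6 := ih q hq
      push_cast
      omega
  have hcoh : ∀ p : PrimeSpectrum A,
      ringKrullDim (A ⧸ p.asIdeal) = (Order.coheight p : WithBot ℕ∞) :=
    ringKrullDim_quot_eq_coheight
  have hfinco : ∀ p : PrimeSpectrum A, ∃ e : ℕ, Order.coheight p = (e : ℕ∞) := by
    intro p
    have h1 : (Order.coheight p : WithBot ℕ∞) ≤ (n : WithBot ℕ∞) :=
      (Order.coheight_le_krullDim p).trans_eq hd
    have h2 : Order.coheight p ≤ (n : ℕ∞) := by exact_mod_cast h1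
    have h3 : Order.coheight p ≠ ⊤ := ne_top_of_le_ne_top (ENat.coe_ne_top n) h2
    obtain ⟨e, he⟩ := ENat.ne_top_iff_exists.1 h3
    exact ⟨e, he.symm⟩
  have hfinh : ∀ p : PrimeSpectrum A, ∃ h : ℕ, Order.height p = (h : ℕ∞) := by
    intro p
    have h1 : (Order.height p : WithBot ℕ∞) ≤ (n : WithBot ℕ∞) :=
      (Order.height_le_krullDim p).trans_eq hd
    have h2 : Order.height p ≤ (n : ℕ∞) := by exact_mod_cast h1
    have h3 : Order.height p ≠ ⊤ := ne_top_of_le_ne_top (ENat.coe_ne_top n) h2
    obtain ⟨e, he⟩ := ENat.ne_top_iff_exists.1 h3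
    exact ⟨e, he.symm⟩
  have H2 : ∀ m : ℕ, ∀ p : PrimeSpectrum A, Order.height p = (m : ℕ∞) →
      ν p = -(n : ℤ) + m := by
    intro m
    induction m with
    | zero =>
      intro p hp
      have hmin : IsMin p := by simpa using hp
      have hmem : p.asIdeal ∈ minimalPrimes A := PrimeSpectrum.isMin_iff.1 hmin
      have h1 := hEq p.asIdeal hmem
      rw [hcoh p, hd] at h1
      have h2 : Order.coheight p = (n : ℕ∞) := by exact_mod_cast h1
      have h3 := G2 n p h2
      rw [h3]; simp
    | succ m ih =>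
      intro p hp
      have hp' : Order.height p = (m : ℕ∞) + 1 := by simpa using hp
      obtain ⟨-, ⟨q, hqp, hq⟩, hall⟩ := Order.height_eq_coe_add_one_iff.1 hp'
      have hcov : q ⋖ p := by
        refine ⟨hqp, fun c hqc hcp => ?_⟩
        have h1 := Order.height_add_one_le hqc
        have h2 := hall c hcp
        rw [hq] at h1
        have h3 : ((m + 1 : ℕ) : ℕ∞) ≤ (m : ℕ∞) := by
          push_cast
          exact le_trans h1 h2
        have h4 : m + 1 ≤ m := by exact_mod_cast h3
        omega
      have h5 := F1 q p hcov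
      have h6 := ih q hq
      push_cast
      omega
  have data : ∀ p : PrimeSpectrum A, ∃ e h δp : ℕ, (e : ℤ) + h = n ∧
      ringKrullDim (A ⧸ p.asIdeal) = (e : WithBot ℕ∞) ∧
      p.asIdeal.height = (h : ℕ∞) ∧
      LocCoh.depth (Localization.AtPrime p.asIdeal) (Localization.AtPrime p.asIdeal) = δp ∧
      p ∈ Module.support A (Dual.HD A ω (-(e : ℤ) - δp)) ∧
      ∀ i : ℤ, p ∈ Module.support A (Dual.HD A ω i) → -(n : ℤ) ≤ i ∧ i ≤ -(e : ℤ) - δp := by
    intro p
    obtain ⟨e, he⟩ := hfinco p
    obtain ⟨h, hh⟩ := hfinh p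
    have h1 := G2 e p he
    have h2 := H2 h p hh
    obtain ⟨δp, hδ, htop, -, hrange⟩ := self_depth_degrees ω hω p (ν p) (hν p) h hh
    rw [h1] at htop
    refine ⟨e, h, δp, by omega, ?_, ?_, hδ, htop, ?_⟩
    · rw [hcoh p, he]
      first | rfl | norm_cast
    · rw [PrimeSpectrum.height_eq_orderHeight, hh]
    · intro i hi
      have := hrange i hi
      omega
  refine ⟨?_, ?_⟩
  · intro i hi
    rw [← Module.support_eq_empty_iff (R := A), Set.eq_empty_iff_forall_notMem]
    intro p hp
    obtain ⟨e, h, δp, hsum, -, -, -, -, hrange⟩ := data p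
    have := (hrange _ hp).1
    omega
  · intro k'
    constructor
    · intro hS i hin
      have hmain : ∀ p : PrimeSpectrum A, p ∈ Module.support A (Dual.HD A ω (-(i : ℤ))) →
          ∃ e : ℕ, ringKrullDim (A ⧸ p.asIdeal) = (e : WithBot ℕ∞) ∧ e + k' ≤ i := by
        intro p hp
        obtain ⟨e, h, δp, hsum, he, hh, hδ, -, hrange⟩ := data p
        have hr := hrange _ hp
        have hS' := hS p.asIdeal
        rw [Groth.Agent.DepthLib.supportDim_locSelf, Groth.Agent.DepthLib.depth_locSelf,
          hδ, hh] at hS'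
        refine ⟨e, he, ?_⟩
        rcases min_le_iff.1 hS' with h' | h'
        · have : k' ≤ δp := by exact_mod_cast h'
          omega
        · have : h ≤ δp := by exact_mod_cast h'
          omega
      constructor
      · intro hik
        rw [← Module.support_eq_empty_iff (R := A), Set.eq_empty_iff_forall_notMem]
        intro p hp
        obtain ⟨e, -, hle⟩ := hmain p hp
        omega
      · intro hki
        refine supportDim_le_of_forall_quot _ _ (fun p hp => ?_)
        obtain ⟨e, he, hle⟩ := hmain p hp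
        rw [he]
        have : e ≤ i - k' := by omega
        exact_mod_cast this
    · intro hcond P hP
      obtain ⟨p, rfl⟩ : ∃ p : PrimeSpectrum A, p.asIdeal = P := ⟨⟨P, hP⟩, rfl⟩
      obtain ⟨e, h, δp, hsum, he, hh, hδ, htop, hrange⟩ := data p
      rw [Groth.Agent.DepthLib.supportDim_locSelf, Groth.Agent.DepthLib.depth_locSelf, hδ, hh]
      by_cases hcmp : h ≤ δp
      · exact min_le_of_right_le (by exact_mod_cast hcmp)
      · push_neg at hcmp
        have hidx : -(e : ℤ) - δp = -(((e + δp : ℕ)) : ℤ) := by push_cast; ring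
        rw [hidx] at htop
        have hne : e + δp ≠ n := by omega
        obtain ⟨hc1, hc2⟩ := hcond (e + δp) hne
        by_cases hik : e + δp < k'
        · have hs := hc1 hik
          exact absurd (nontrivial_of_mem_support htop) (not_nontrivial_iff_subsingleton.2 hs)
        · push_neg at hik
          have h1 := hc2 hik
          have h2 := ringKrullDim_quot_le_supportDim _ p htop
          rw [he] at h2
          have h3 : (e : WithBot ℕ∞) ≤ ((e + δp - k' : ℕ) : WithBot ℕ∞) := le_trans h2 h1
          have h4 : e ≤ e + δp - k' := by exact_mod_cast h3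
          have h5 : k' ≤ δp := by omega
          exact min_le_of_left_le (by exact_mod_cast h5)

end GlobalNorm

end Groth.Agent.Lib.DMod_helper6
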