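import Mathlib
import Groth.Prelude.Def_DRing2
import Groth.Prelude.Def_DDual2
import Groth.Agent.Lib.DMod82_helper6

/-!
# Derived category toolkit (helper6), part 83: the dimension function of `RHom_A(B, ω)` for a
surjection `A → B` is the restriction of that of `ω` (S8970).
-/

set_option autoImplicit false
universe u
open CategoryTheory CategoryTheory.Limits DerivedCategory
attribute [local instance] HasDerivedCategory.standard

namespace Groth.Agent.Lib.DMod_helper6

open DRing

section Abstract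

lemma subsingleton_localizedModule_iff_of_semilinear {A B : Type u} [CommRing A] [CommRing B]
    (φ : A →+* B) (hφ : Function.Surjective φ) (q : Ideal B) [q.IsPrime]
    {MB MA : Type*} [AddCommGroup MB] [Module B MB] [AddCommGroup MA] [Module A MA]
    (Θ : MB ≃ MA) (h0 : Θ 0 = 0) (hs : ∀ (a : A) (m : MB), Θ (φ a • m) = a • Θ m) :
    Subsingleton (LocalizedModule q.primeCompl MB) ↔
      Subsingleton (LocalizedModule (q.comap φ).primeCompl MA) := by
  rw [LocalizedModule.subsingleton_iff, LocalizedModule.subsingleton_iff]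
  constructor
  · intro h m'
    obtain ⟨t, ht, htm⟩ := h (Θ.symm m')
    obtain ⟨s, rfl⟩ := hφ t
    refine ⟨s, fun hs' => ht (Ideal.mem_comap.1 hs'), ?_⟩
    have := hs s (Θ.symm m')
    rw [htm, h0, Equiv.apply_symm_apply] at this
    exact this.symm
  · intro h m
    obtain ⟨s, hs', hsm⟩ := h (Θ m)
    refine ⟨φ s, fun hmem => hs' (Ideal.mem_comap.2 hmem), ?_⟩
    apply Θ.injective
    rw [hs, hsm, h0]

end Abstract

section Adj

variable {A B : Type u} [CommRing A] [CommRing B] {φ : A →+* B}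

lemma homEquiv_symm_zero (R : Dual.D A ⥤ Dual.D B) (adj : restrictD φ ⊣ R) (Y : Dual.D B)
    (K : Dual.D A) : (adj.homEquiv Y K).symm 0 = 0 := by
  rw [Equiv.symm_apply_eq, homEquiv_zero]

lemma homEquiv_symm_smul (R : Dual.D A ⥤ Dual.D B) (adj : restrictD φ ⊣ R) (Y : Dual.D B)
    (K : Dual.D A) (a : A) (h : Y ⟶ R.obj K) :
    (adj.homEquiv Y K).symm (φ a • h) = a • (adj.homEquiv Y K).symm h := by
  rw [Equiv.symm_apply_eq, homEquiv_smul, Equiv.apply_symm_apply]

end Adj

section Main

variable {A B : Type u} [CommRing A] [CommRing B] [Algebra A B]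

/-- `A/p ≃ B/q` as `A`-modules, for `A → B` surjective and `p` the contraction of `q` -/
noncomputable def quotComapEquiv (hs : Function.Surjective (algebraMap A B)) (q : Ideal B) :
    (A ⧸ q.comap (algebraMap A B)) ≃ₗ[A]
      ((ModuleCat.restrictScalars (algebraMap A B)).obj (ModuleCat.of B (B ⧸ q))) := by
  let lin : A →ₗ[A]
      ((ModuleCat.restrictScalars (algebraMap A B)).obj (ModuleCat.of B (B ⧸ q))) :=
    { toFun := fun a => (Ideal.Quotient.mk q (algebraMap A B a) : B ⧸ q)
      map_add' := fun a a' => by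
        show Ideal.Quotient.mk q (algebraMap A B (a + a')) =
          Ideal.Quotient.mk q (algebraMap A B a) + Ideal.Quotient.mk q (algebraMap A B a')
        rw [map_add, map_add]
      map_smul' := fun a a' => by
        show Ideal.Quotient.mk q (algebraMap A B (a • a')) =
          algebraMap A B a • (Ideal.Quotient.mk q (algebraMap A B a') : B ⧸ q)
        rw [smul_eq_mul, map_mul, map_mul]
        rfl }
  have hle : q.comap (algebraMap A B) ≤ LinearMap.ker lin := fun a ha => by
    rw [LinearMap.mem_ker]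
    exact Ideal.Quotient.eq_zero_iff_mem.2 (Ideal.mem_comap.1 ha)
  refine LinearEquiv.ofBijective (Submodule.liftQ _ lin hle) ⟨?_, ?_⟩
  · rw [← LinearMap.ker_eq_bot]
    apply Submodule.ker_liftQ_eq_bot
    intro a ha
    rw [LinearMap.mem_ker] at ha
    exact Ideal.mem_comap.2 (Ideal.Quotient.eq_zero_iff_mem.1 ha)
  · intro x
    obtain ⟨b, rfl⟩ := Ideal.Quotient.mk_surjective (I := q) (x : B ⧸ q)
    obtain ⟨a, rfl⟩ := hs b
    exact ⟨Submodule.Quotient.mk a, rfl⟩

/-- S8970. -/
theorem nontrivial_localized_hom_rightAdjoint_iff (hs : Function.Surjective (algebraMap A B))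
    (R : Dual.D A ⥤ Dual.D B) (adj : restrictD (algebraMap A B) ⊣ R) (ω : Dual.D A)
    (q : Ideal B) [q.IsPrime] (i : ℤ) :
    Nontrivial (LocalizedModule q.primeCompl (Dual.inD B (B ⧸ q) ⟶ (R.obj ω)⟦i⟧)) ↔
      Nontrivial (LocalizedModule (q.comap (algebraMap A B)).primeCompl
        (Dual.inD A (A ⧸ q.comap (algebraMap A B)) ⟶ ω⟦i⟧)) := by
  rw [← not_subsingleton_iff_nontrivial, ← not_subsingleton_iff_nontrivial, not_iff_not]
  letI := adj.rightAdjointCommShift ℤ
  let c : R.obj (ω⟦i⟧) ≅ (R.obj ω)⟦i⟧ := (R.commShiftIso i).app ω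
  let X : Dual.D B := Dual.inD B (B ⧸ q)
  let ε : Dual.inD A (A ⧸ q.comap (algebraMap A B)) ≅ (restrictD (algebraMap A B)).obj X :=
    (DerivedCategory.singleFunctor (ModuleCat.{u} A) 0).mapIso (quotComapEquiv hs q).toModuleIso ≪≫
      (restrictDInDIso (algebraMap A B) (ModuleCat.of B (B ⧸ q))).symm
  let Θ : (X ⟶ (R.obj ω)⟦i⟧) ≃ (Dual.inD A (A ⧸ q.comap (algebraMap A B)) ⟶ ω⟦i⟧) :=
    (Iso.homCongr (Iso.refl X) c.symm).trans
      ((adj.homEquiv X (ω⟦i⟧)).symm.trans (Iso.homCongr ε.symm (Iso.refl (ω⟦i⟧))))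
  have hΘ : ∀ f : X ⟶ (R.obj ω)⟦i⟧,
      Θ f = ε.hom ≫ (adj.homEquiv X (ω⟦i⟧)).symm (f ≫ c.inv) := by
    intro f
    simp only [Θ, Equiv.trans_apply, Iso.homCongr_apply, Iso.refl_inv, Iso.refl_hom,
      Category.id_comp, Category.comp_id, Iso.symm_hom, Iso.symm_inv]
  refine subsingleton_localizedModule_iff_of_semilinear (algebraMap A B) hs q Θ ?_ ?_
  · rw [hΘ, zero_comp, homEquiv_symm_zero, comp_zero]
  · intro a f
    rw [hΘ, hΘ, Linear.smul_comp, homEquiv_symm_smul, Linear.comp_smul]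

end Main

end Groth.Agent.Lib.DMod_helper6
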