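import Mathlib
import Groth.Prelude.Def_DRing2
import Groth.Prelude.Def_DDual2
import Groth.Prelude.Def_Wider
import Groth.Agent.Lib.DMod105_helper6
import Groth.Agent.Lib.DMod83_helper6

/-!
# Derived category toolkit (helper6), part 106: the right adjoint of restriction of scalars on a
`K`-injective complex is computed by termwise coextension of scalars.
-/

set_option autoImplicit false
universe u
open CategoryTheory CategoryTheory.Limits DerivedCategory Pretriangulated ZeroObject
attribute [local instance] HasDerivedCategory.standard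

namespace Groth.Agent.Lib.DMod_helper6

open DRing



section Test

variable {B : Type u} [CommRing B]

/-- the test complex `B[-k]` -/
noncomputable abbrev testCx (B : Type u) [CommRing B] (k : ℤ) : Cx B :=
  (HomologicalComplex.single (ModuleCat.{u} B) (ComplexShape.up ℤ) k).obj (ModuleCat.of B B)

/-- `B[-(k+1)] ≅ B[-k][-1]` in `D(B)` -/
noncomputable def testShiftIso (k : ℤ) :
    toD (testCx B (k + 1)) ≅ (toD (testCx B k))⟦(-1 : ℤ)⟧ :=
  toDSingleIso (ModuleCat.of B B) (k + 1) (-(k + 1)) (by omega) ≪≫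
    (shiftFunctorAdd' (Dual.D B) (-k) (-1) (-(k + 1)) (by omega)).app _ ≪≫
    (shiftFunctor (Dual.D B) (-1 : ℤ)).mapIso
      (toDSingleIso (ModuleCat.of B B) k (-k) (by omega)).symm

/-- a morphism in `D(B)` inducing bijections on maps from all `B[-k]` is an isomorphism. -/
theorem isIso_of_test {Y Y' : Dual.D B} (ψ : Y ⟶ Y')
    (hs : ∀ (k : ℤ) (g : toD (testCx B k) ⟶ Y'), ∃ h : toD (testCx B k) ⟶ Y, h ≫ ψ = g)
    (hi : ∀ (k : ℤ) (h : toD (testCx B k) ⟶ Y), h ≫ ψ = 0 → h = 0) : IsIso ψ := by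
  obtain ⟨Z, α, β, hT⟩ := distinguished_cocone_triangle ψ
  have hsub : ∀ k : ℤ, Subsingleton (toD (testCx B k) ⟶ Z) := by
    intro k
    refine subsingleton_of_forall_eq 0 (fun z => ?_)
    have h1 : z ≫ β = 0 := by
      have hβψ : β ≫ ψ⟦(1 : ℤ)⟧' = 0 := comp_distTriang_mor_zero₃₁ _ hT
      have hwψ : (z ≫ β) ≫ ψ⟦(1 : ℤ)⟧' = 0 := by
        rw [Category.assoc, hβψ, comp_zero]
      let c := shiftFunctorCompIsoId (Dual.D B) (1 : ℤ) (-1 : ℤ) (by omega)
      let h : toD (testCx B (k + 1)) ⟶ Y :=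
        (testShiftIso k).hom ≫ (z ≫ β)⟦(-1 : ℤ)⟧' ≫ c.hom.app Y
      have hh : h ≫ ψ = 0 := by
        have hnat := c.hom.naturality ψ
        simp only [Functor.comp_map, Functor.id_map] at hnat
        show ((testShiftIso k).hom ≫ (z ≫ β)⟦(-1 : ℤ)⟧' ≫ c.hom.app Y) ≫ ψ = 0
        rw [Category.assoc, Category.assoc, ← hnat, ← Category.assoc ((z ≫ β)⟦(-1 : ℤ)⟧'),
          ← Functor.map_comp, hwψ, Functor.map_zero, zero_comp, comp_zero]
      have h0 := hi (k + 1) h hh
      have h2 : (z ≫ β)⟦(-1 : ℤ)⟧' = (testShiftIso k).inv ≫ h ≫ c.inv.app Y := by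
        simp [h]
      rw [h0, zero_comp, comp_zero] at h2
      exact (shiftFunctor (Dual.D B) (-1 : ℤ)).map_injective (by rw [h2, Functor.map_zero])
    obtain ⟨z', hz'⟩ := Pretriangulated.Triangle.coyoneda_exact₃ _ hT z h1
    obtain ⟨h, hh⟩ := hs k z'
    have hψα : ψ ≫ α = 0 := comp_distTriang_mor_zero₁₂ _ hT
    rw [hz', ← hh]
    show (h ≫ ψ) ≫ α = 0
    rw [Category.assoc, hψα, comp_zero]
  have hz : ∀ n : ℤ, IsZero ((DerivedCategory.homologyFunctor (ModuleCat.{u} B) n).obj Z) := by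
    intro n
    haveI := subsingleton_HD_of_subsingleton_hom Z n (hsub n)
    exact ModuleCat.isZero_of_subsingleton _
  have hZ : IsZero Z := by
    haveI : IsIso (0 : Z ⟶ Z) := (DerivedCategory.isIso_iff _ (0 : Z ⟶ Z)).2 (fun n =>
      ⟨⟨0, (hz n).eq_of_src _ _, (hz n).eq_of_src _ _⟩⟩)
    rw [IsZero.iff_id_eq_zero, ← IsIso.hom_inv_id (0 : Z ⟶ Z), zero_comp]
  exact (Pretriangulated.Triangle.isZero₃_iff_isIso₁ _ hT).1 hZ

end Test

section Coext

variable {A B : Type u} [CommRing A] [CommRing B] (φ : A →+* B)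

/-- restriction–coextension adjunction on module categories -/
noncomputable abbrev rcAdj : ModuleCat.restrictScalars.{u} φ ⊣
    (ModuleCat.coextendScalars φ : ModuleCat.{u} A ⥤ ModuleCat.{u} B) :=
  ModuleCat.restrictCoextendScalarsAdj φ

instance coextendScalars_additive :
    (ModuleCat.coextendScalars φ : ModuleCat.{u} A ⥤ ModuleCat.{u} B).Additive :=
  (rcAdj φ).right_adjoint_additive

/-- termwise coextension of scalars -/
noncomputable abbrev coextCx (I : Cx A) : Cx B :=
  ((ModuleCat.coextendScalars φ : ModuleCat.{u} A ⥤ ModuleCat.{u} B).mapHomologicalComplex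
    (ComplexShape.up ℤ)).obj I

/-- termwise restriction of scalars -/
noncomputable abbrev resCx (X : Cx B) : Cx A :=
  ((ModuleCat.restrictScalars.{u} φ).mapHomologicalComplex (ComplexShape.up ℤ)).obj X

/-- the counit `Hom_A(B, I) → I` as a chain map -/
noncomputable def coextCounit (I : Cx A) : resCx φ (coextCx φ I) ⟶ I where
  f k := (rcAdj φ).counit.app (I.X k)
  comm' i j _ := ((rcAdj φ).counit.naturality (I.d i j)).symm

/-- the morphism `Hom_A(B, I) → ω` in `D(A)` -/
noncomputable def theta0 (I : Cx A) {ω : Dual.D A} (e : toD I ≅ ω) :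
    (restrictD φ).obj (toD (coextCx φ I)) ⟶ ω :=
  (ModuleCat.restrictScalars.{u} φ).mapDerivedCategoryFactors.hom.app (coextCx φ I) ≫
    Q.map (coextCounit φ I) ≫ e.hom

lemma restrictD_map_comp_theta0 (I : Cx A) {ω : Dual.D A} (e : toD I ≅ ω) {X : Cx B}
    (h₀ : X ⟶ coextCx φ I) :
    (restrictD φ).map (Q.map h₀) ≫ theta0 φ I e =
      (ModuleCat.restrictScalars.{u} φ).mapDerivedCategoryFactors.hom.app X ≫
        Q.map (((ModuleCat.restrictScalars.{u} φ).mapHomologicalComplex
          (ComplexShape.up ℤ)).map h₀ ≫ coextCounit φ I) ≫ e.hom := by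
  have h3 := (ModuleCat.restrictScalars.{u} φ).mapDerivedCategoryFactors_hom_naturality h₀
  unfold theta0
  rw [← Category.assoc, h3, Category.assoc, Functor.map_comp, Category.assoc]

lemma resCx_test_hom_ext (k : ℤ) {I : Cx A} (c c' : resCx φ (testCx B k) ⟶ I)
    (h : c.f k = c'.f k) : c = c' := by
  refine HomologicalComplex.hom_ext _ _ (fun j => ?_)
  by_cases hj : j = k
  · subst hj; exact h
  · exact ((ModuleCat.restrictScalars.{u} φ).map_isZero
      (HomologicalComplex.isZero_single_obj_X (ComplexShape.up ℤ) k (ModuleCat.of B B) j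
        hj)).eq_of_src _ _

lemma resCx_test_d (k : ℤ) : (resCx φ (testCx B k)).d k (k + 1) = 0 := by
  show (ModuleCat.restrictScalars.{u} φ).map ((testCx B k).d k (k + 1)) = 0
  rw [HomologicalComplex.single_obj_d, Functor.map_zero]

theorem theta0_surjective (I : Cx A) [I.IsKInjective] {ω : Dual.D A} (e : toD I ≅ ω) (k : ℤ)
    (g : (restrictD φ).obj (toD (testCx B k)) ⟶ ω) :
    ∃ h : toD (testCx B k) ⟶ toD (coextCx φ I), (restrictD φ).map h ≫ theta0 φ I e = g := by
  let M : ModuleCat.{u} B := ModuleCat.of B B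
  let P : Cx B := testCx B k
  let σ := HomologicalComplex.singleObjXSelf (ComplexShape.up ℤ) k M
  let μ := (ModuleCat.restrictScalars.{u} φ).mapDerivedCategoryFactors
  obtain ⟨g₀, hg₀⟩ := exists_Q_map_eq_of_isKInjective (E := resCx φ P) (F := I)
    (μ.inv.app P ≫ g ≫ e.inv)
  let u' : (ModuleCat.restrictScalars.{u} φ).obj M ⟶ I.X k :=
    (ModuleCat.restrictScalars.{u} φ).map σ.inv ≫ g₀.f k
  have hu' : u' ≫ I.d k (k + 1) = 0 := by
    have hcomm : g₀.f k ≫ I.d k (k + 1) = 0 := by
      rw [g₀.comm k (k + 1), resCx_test_d, zero_comp]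
    exact (Category.assoc _ _ _).trans ((congrArg
      (fun t => (ModuleCat.restrictScalars.{u} φ).map σ.inv ≫ t) hcomm).trans comp_zero)
  let u : M ⟶ (coextCx φ I).X k := (rcAdj φ).homEquiv M (I.X k) u'
  have hu : u ≫ (coextCx φ I).d k (k + 1) = 0 := by
    show (rcAdj φ).homEquiv M (I.X k) u' ≫
      (ModuleCat.coextendScalars φ).map (I.d k (k + 1)) = 0
    rw [← Adjunction.homEquiv_naturality_right, hu', Adjunction.homEquiv_unit,
      Functor.map_zero, comp_zero]
  let h₀ : P ⟶ coextCx φ I := HomologicalComplex.mkHomFromSingle u (fun j hj => by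
    obtain rfl : k + 1 = j := hj
    exact hu)
  refine ⟨Q.map h₀, ?_⟩
  rw [restrictD_map_comp_theta0]
  have hc : ((ModuleCat.restrictScalars.{u} φ).mapHomologicalComplex (ComplexShape.up ℤ)).map h₀ ≫
      coextCounit φ I = g₀ := by
    apply resCx_test_hom_ext φ k
    show (ModuleCat.restrictScalars.{u} φ).map (h₀.f k) ≫ (rcAdj φ).counit.app (I.X k) = g₀.f k
    rw [HomologicalComplex.mkHomFromSingle_f, Functor.map_comp, Category.assoc]
    have h1 : (ModuleCat.restrictScalars.{u} φ).map u ≫ (rcAdj φ).counit.app (I.X k) = u' :=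
      Equiv.symm_apply_apply ((rcAdj φ).homEquiv M (I.X k)) u'
    rw [h1]
    show (ModuleCat.restrictScalars.{u} φ).map σ.hom ≫
      (ModuleCat.restrictScalars.{u} φ).map σ.inv ≫ g₀.f k = g₀.f k
    rw [← Category.assoc, ← Functor.map_comp, Iso.hom_inv_id, CategoryTheory.Functor.map_id,
      Category.id_comp]
  rw [hc, hg₀]
  simp only [Category.assoc, Iso.inv_hom_id, Category.comp_id]
  exact Iso.hom_inv_id_app_assoc μ P g

theorem theta0_injective (I : Cx A) [I.IsKInjective] {ω : Dual.D A} (e : toD I ≅ ω) (k : ℤ)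
    (h : toD (testCx B k) ⟶ toD (coextCx φ I))
    (hh : (restrictD φ).map h ≫ theta0 φ I e = 0) : h = 0 := by
  let M : ModuleCat.{u} B := ModuleCat.of B B
  let P : Cx B := testCx B k
  let σ := HomologicalComplex.singleObjXSelf (ComplexShape.up ℤ) k M
  let μ := (ModuleCat.restrictScalars.{u} φ).mapDerivedCategoryFactors
  obtain ⟨h₀, rfl⟩ := exists_Q_map_eq_of_isKProjective (E := P) (F := coextCx φ I) h
  rw [restrictD_map_comp_theta0] at hh
  have hQ : Q.map (((ModuleCat.restrictScalars.{u} φ).mapHomologicalComplex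
      (ComplexShape.up ℤ)).map h₀ ≫ coextCounit φ I) = 0 := by
    rw [← cancel_epi (μ.hom.app P), ← cancel_mono e.hom, Category.assoc, hh, comp_zero,
      zero_comp]
  obtain ⟨Hc⟩ := homotopy_zero_of_Q_map_eq_zero_of_isKInjective _ hQ
  have hc := Hc.comm k
  rw [dNext_eq Hc.hom (show (ComplexShape.up ℤ).Rel k (k + 1) from rfl),
    prevD_eq Hc.hom (show (ComplexShape.up ℤ).Rel (k - 1) k from by simp),
    HomologicalComplex.zero_f, add_zero, resCx_test_d, zero_comp, zero_add] at hc
  let u : M ⟶ (coextCx φ I).X k := σ.inv ≫ h₀.f k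
  let v' : (ModuleCat.restrictScalars.{u} φ).obj M ⟶ I.X (k - 1) :=
    (ModuleCat.restrictScalars.{u} φ).map σ.inv ≫ Hc.hom k (k - 1)
  let v : M ⟶ (coextCx φ I).X (k - 1) := (rcAdj φ).homEquiv M (I.X (k - 1)) v'
  have huv : u = v ≫ (coextCx φ I).d (k - 1) k := by
    show u = (rcAdj φ).homEquiv M (I.X (k - 1)) v' ≫
      (ModuleCat.coextendScalars φ).map (I.d (k - 1) k)
    rw [← Adjunction.homEquiv_naturality_right]
    apply ((rcAdj φ).homEquiv M (I.X k)).symm.injective
    rw [Equiv.symm_apply_apply]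
    show (ModuleCat.restrictScalars.{u} φ).map (σ.inv ≫ h₀.f k) ≫
      (rcAdj φ).counit.app (I.X k) =
      ((ModuleCat.restrictScalars.{u} φ).map σ.inv ≫ Hc.hom k (k - 1)) ≫ I.d (k - 1) k
    rw [Functor.map_comp, Category.assoc, Category.assoc]
    exact congrArg (fun t => (ModuleCat.restrictScalars.{u} φ).map σ.inv ≫ t) hc
  have hh₀ : h₀ = HomologicalComplex.mkHomFromSingle (v ≫ (coextCx φ I).d (k - 1) k)
      (fun j _ => by rw [Category.assoc, HomologicalComplex.d_comp_d, comp_zero]) := by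
    apply HomologicalComplex.from_single_hom_ext
    rw [HomologicalComplex.mkHomFromSingle_f, ← huv]
    show h₀.f k = σ.hom ≫ σ.inv ≫ h₀.f k
    rw [Iso.hom_inv_id_assoc]
  rw [hh₀]
  exact Q_map_mkHomFromSingle_eq_zero (coextCx φ I) k M v _

variable {φ}

/-- the comparison morphism `Hom_A(B, I) → R(ω)` in `D(B)` -/
noncomputable def coextToRight (R : Dual.D A ⥤ Dual.D B) (adj : restrictD φ ⊣ R) (I : Cx A)
    {ω : Dual.D A} (e : toD I ≅ ω) : toD (coextCx φ I) ⟶ R.obj ω :=
  adj.homEquiv _ _ (theta0 φ I e)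

lemma homEquiv_symm_comp_coextToRight (R : Dual.D A ⥤ Dual.D B) (adj : restrictD φ ⊣ R)
    (I : Cx A) {ω : Dual.D A} (e : toD I ≅ ω) {X : Dual.D B} (h : X ⟶ toD (coextCx φ I)) :
    (adj.homEquiv X ω).symm (h ≫ coextToRight R adj I e) =
      (restrictD φ).map h ≫ theta0 φ I e := by
  rw [Adjunction.homEquiv_naturality_left_symm]
  unfold coextToRight
  rw [Equiv.symm_apply_apply]

theorem isIso_coextToRight (R : Dual.D A ⥤ Dual.D B) (adj : restrictD φ ⊣ R) (I : Cx A)
    [I.IsKInjective] {ω : Dual.D A} (e : toD I ≅ ω) : IsIso (coextToRight R adj I e) := by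
  apply isIso_of_test
  · intro k g
    obtain ⟨h, hh⟩ := theta0_surjective φ I e k ((adj.homEquiv _ _).symm g)
    refine ⟨h, ?_⟩
    apply (adj.homEquiv _ _).symm.injective
    rw [homEquiv_symm_comp_coextToRight, hh]
  · intro k h hh
    apply theta0_injective φ I e k h
    rw [← homEquiv_symm_comp_coextToRight R adj I e, hh]
    exact homEquiv_symm_zero R adj _ _

end Coext

end Groth.Agent.Lib.DMod_helper6
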