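import Mathlib
import Groth.Prelude.Def_DRing2
import Groth.Prelude.Def_DDual2
import Groth.Prelude.Def_Wider
import Groth.Agent.Lib.DMod106_helper6

/-!
# Derived category toolkit (helper6), part 107: `R(ω)` restricted to `A` is `RHom_A(B, ω)`
(modelled by `Hom_A(B, I)`); the triangle `R(ω) → ω → ω` for `B = A/(f)` (S8941).
-/

set_option autoImplicit false
universe u
open CategoryTheory CategoryTheory.Limits DerivedCategory Pretriangulated ZeroObject
attribute [local instance] HasDerivedCategory.standard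

namespace Groth.Agent.Lib.DMod_helper6

open DRing

section Kappa

variable {A B : Type u} [CommRing A] [CommRing B] (φ : A →+* B)

/-- `B` as an `A`-module -/
noncomputable abbrev resSelf : ModuleCat.{u} A :=
  (ModuleCat.restrictScalars.{u} φ).obj (ModuleCat.of B B)

/-- `Hom_A(B, X)` with its two descriptions -/
noncomputable def kappaLin (X : ModuleCat.{u} A) :
    ((ModuleCat.restrictScalars.{u} φ).obj
      ((ModuleCat.coextendScalars φ : ModuleCat.{u} A ⥤ ModuleCat.{u} B).obj X)) ≃ₗ[A]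
      (resSelf φ ⟶ X) where
  toFun g := ModuleCat.ofHom (X := resSelf φ) (Y := X) (ModuleCat.CoextendScalars.equiv φ X g)
  invFun ψ := (ModuleCat.CoextendScalars.equiv φ X).symm ψ.hom
  map_add' g g' := rfl
  map_smul' a g := by
    refine ModuleCat.hom_ext (LinearMap.ext fun s => ?_)
    have h1 : (a • s : resSelf φ) = ((show B from s) * φ a : B) := by
      show φ a * (show B from s) = (show B from s) * φ a
      exact mul_comm _ _
    have h2 := (ModuleCat.CoextendScalars.equiv φ X g).map_smul a s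
    show (ModuleCat.CoextendScalars.equiv φ X g) ((show B from s) * φ a : B) =
      a • (ModuleCat.CoextendScalars.equiv φ X g) s
    exact (congrArg (ModuleCat.CoextendScalars.equiv φ X g) h1.symm).trans h2
  left_inv g := rfl
  right_inv ψ := rfl

/-- `Hom_A(B, I)` as the restriction of the coextension -/
noncomputable def kappa (I : Cx A) : resCx φ (coextCx φ I) ≅ homCx (resSelf φ) I :=
  HomologicalComplex.Hom.isoOfComponents (fun k => (kappaLin φ (I.X k)).toModuleIso) (by
    intro i j _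
    refine ModuleCat.hom_ext (LinearMap.ext fun g => ?_)
    apply ModuleCat.hom_ext
    apply LinearMap.ext
    intro s
    rfl)

variable {φ}

/-- `R(ω)` restricted to `A` is `RHom_A(B, ω)` -/
noncomputable def restrictRightAdjIso (R : Dual.D A ⥤ Dual.D B) (adj : restrictD φ ⊣ R)
    (I : Cx A) [I.IsKInjective] {ω : Dual.D A} (e : toD I ≅ ω) :
    (restrictD φ).obj (R.obj ω) ≅ toD (homCx (resSelf φ) I) :=
  haveI := isIso_coextToRight R adj I e
  (restrictD φ).mapIso (asIso (coextToRight R adj I e)).symm ≪≫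
    (ModuleCat.restrictScalars.{u} φ).mapDerivedCategoryFactors.app (coextCx φ I) ≪≫
    Q.mapIso (kappa φ I)

end Kappa

section Quot

variable {A : Type u} [CommRing A] [IsNoetherianRing A]

lemma homCxMap_smul_id (f : A) (I : Cx A) :
    homCxMap (ModuleCat.ofHom (f • (LinearMap.id : A →ₗ[A] A))) I =
      f • 𝟙 (homCx (ModuleCat.of A A) I) := by
  refine HomologicalComplex.hom_ext _ _ (fun k => ?_)
  rw [HomologicalComplex.smul_f_apply, HomologicalComplex.id_f]
  refine ModuleCat.hom_ext (LinearMap.ext fun (ψ : ModuleCat.of A A ⟶ I.X k) => ?_)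
  show ModuleCat.ofHom (f • (LinearMap.id : A →ₗ[A] A)) ≫ ψ = f • ψ
  apply ModuleCat.hom_ext
  apply LinearMap.ext
  intro x
  show ψ.hom (f • x) = f • ψ.hom x
  exact ψ.hom.map_smul f x

/-- S8941 (in general form). -/
theorem exists_triangle_rightAdjoint_quotient (ω : Dual.D A) (hω : Dual.IsDualizing A ω) (f : A)
    (hf' : f ∈ nonZeroDivisors A)
    (R : Dual.D A ⥤ Dual.D (A ⧸ Ideal.span {f}))
    (adj : DRing.restrictD (Ideal.Quotient.mk (Ideal.span {f})) ⊣ R) :
    ∃ (u : (DRing.restrictD (Ideal.Quotient.mk (Ideal.span {f}))).obj (R.obj ω) ⟶ ω)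
      (w : ω ⟶ ((DRing.restrictD (Ideal.Quotient.mk (Ideal.span {f}))).obj (R.obj ω))⟦(1 : ℤ)⟧),
      Triangle.mk u (f • 𝟙 ω) w ∈ distTriang (Dual.D A) := by
  obtain ⟨a, b, I, hI, hinj, ⟨e⟩⟩ := hasFiniteInjDim_of_isDualizing ω hω
  haveI : I.IsKInjective := isKInjective_of_injCls ⟨a, b, hI, hinj⟩
  let φ : A →+* (A ⧸ Ideal.span {f}) := Ideal.Quotient.mk (Ideal.span {f})
  let N : ModuleCat.{u} A := resSelf φ
  let π : A →ₗ[A] N :=
    { toFun := fun x => φ x
      map_add' := map_add φ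
      map_smul' := fun x y => by
        show φ (x * y) = φ x * φ y
        exact map_mul φ x y }
  have hfg : Function.Exact (f • (LinearMap.id : A →ₗ[A] A)) π := by
    intro y
    show φ y = 0 ↔ y ∈ Set.range (f • (LinearMap.id : A →ₗ[A] A))
    rw [Ideal.Quotient.eq_zero_iff_mem, Ideal.mem_span_singleton']
    constructor
    · rintro ⟨x, hx⟩
      exact ⟨x, by rw [← hx]; show f * x = x * f; exact mul_comm f x⟩
    · rintro ⟨x, hx⟩
      exact ⟨x, by rw [← hx]; show x * f = f * x; exact mul_comm x f⟩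
  have hinjf : Function.Injective (f • (LinearMap.id : A →ₗ[A] A)) := by
    intro x y hxy
    exact (mul_cancel_left_mem_nonZeroDivisors hf').1 hxy
  have hsurj : Function.Surjective π := Ideal.Quotient.mk_surjective
  have hS := linSC_shortExact (f • (LinearMap.id : A →ₗ[A] A)) π hfg hinjf hsurj
  have hT := DerivedCategory.triangleOfSES_distinguished (homSC_shortExact _ hS I hinj)
  let T := DerivedCategory.triangleOfSES (homSC_shortExact _ hS I hinj)
  let i₁ : (restrictD φ).obj (R.obj ω) ≅ T.obj₁ := restrictRightAdjIso R adj I e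
  let DA : Dual.D A := toD (homCx (ModuleCat.of A A) I)
  let i₂ : T.obj₂ ≅ ω := Q.mapIso (homCxSelfIso I) ≪≫ e
  let i₃ : T.obj₃ ≅ ω := Q.mapIso (homCxSelfIso I) ≪≫ e
  let i₀ : DA ≅ ω := Q.mapIso (homCxSelfIso I) ≪≫ e
  have hm : (Q.map (homCxMap (ModuleCat.ofHom (f • (LinearMap.id : A →ₗ[A] A))) I) : DA ⟶ DA) =
      f • 𝟙 DA := by
    rw [homCxMap_smul_id, Functor.map_smul, CategoryTheory.Functor.map_id]
  have gen : ∀ (X : Dual.D A) (j : X ≅ ω), (f • 𝟙 ω) ≫ j.inv = j.inv ≫ (f • 𝟙 X) := fun X j => by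
    rw [Linear.smul_comp, Linear.comp_smul, Category.id_comp, Category.comp_id]
  refine ⟨i₁.hom ≫ T.mor₁ ≫ i₂.hom, i₃.inv ≫ T.mor₃ ≫ i₁.inv⟦(1 : ℤ)⟧', ?_⟩
  refine isomorphic_distinguished _ hT _ (Triangle.isoMk _ _ i₁ i₂.symm i₃.symm ?_ ?_ ?_)
  · show (i₁.hom ≫ T.mor₁ ≫ i₂.hom) ≫ i₂.inv = i₁.hom ≫ T.mor₁
    simp only [Category.assoc, Iso.hom_inv_id, Category.comp_id]
  · show (f • 𝟙 ω) ≫ i₃.inv = i₂.inv ≫ T.mor₂
    exact (gen DA i₀).trans (congrArg (fun t => i₀.inv ≫ t) hm.symm)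
  · show (i₃.inv ≫ T.mor₃ ≫ i₁.inv⟦(1 : ℤ)⟧') ≫ i₁.hom⟦(1 : ℤ)⟧' = i₃.inv ≫ T.mor₃
    simp only [Category.assoc, ← Functor.map_comp, Iso.inv_hom_id, CategoryTheory.Functor.map_id,
      Category.comp_id]

end Quot

end Groth.Agent.Lib.DMod_helper6
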