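import Mathlib
import Groth.Prelude.Def_DRing2
import Groth.Prelude.Def_DDual2
import Groth.Prelude.Def_Wider
import Groth.Agent.Lib.DMod107_helper6

/-!
# Derived category toolkit (helper6), part 108: biduality for finite modules with respect to a
dualizing complex: `M ≃ Hom(RHom(M, ω), ω)` and `Hom(RHom(M, ω), ω[i]) = 0` for `i ≠ 0`.
-/

set_option autoImplicit false
universe u
open CategoryTheory CategoryTheory.Limits DerivedCategory Pretriangulated ZeroObject
attribute [local instance] HasDerivedCategory.standard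

namespace Groth.Agent.Lib.DMod_helper6

open DRing

section TriGen

variable {A : Type u} [CommRing A]

lemma exists_factor_of_distTriang' (T : Triangle (Dual.D A)) (hT : T ∈ distTriang (Dual.D A))
    (W : Dual.D A) (φ : T.obj₁ ⟶ W) (h0 : T.mor₃ ≫ φ⟦(1 : ℤ)⟧' = 0) :
    ∃ ψ : T.obj₂ ⟶ W, φ = T.mor₁ ≫ ψ := by
  obtain ⟨γ, hγ⟩ : ∃ γ : T.obj₂⟦(1 : ℤ)⟧ ⟶ W⟦(1 : ℤ)⟧,
      φ⟦(1 : ℤ)⟧' = (-(T.mor₁⟦(1 : ℤ)⟧')) ≫ γ :=
    Pretriangulated.Triangle.yoneda_exact₃ _ (rot_of_distTriang _ hT) (φ⟦(1 : ℤ)⟧') h0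
  obtain ⟨γ', rfl⟩ := (shiftFunctor (Dual.D A) (1 : ℤ)).map_surjective γ
  refine ⟨-γ', ?_⟩
  apply (shiftFunctor (Dual.D A) (1 : ℤ)).map_injective
  rw [hγ]
  simp only [Functor.map_comp, Functor.map_neg, Preadditive.neg_comp, Preadditive.comp_neg]

/-- if `Hom(X, W[-1]) = 0` then `Hom(X[1], W) = 0` -/
lemma hom_shift_one_eq_zero {X W : Dual.D A} (h : ∀ α : X ⟶ W⟦(-1 : ℤ)⟧, α = 0)
    (γ : X⟦(1 : ℤ)⟧ ⟶ W) : γ = 0 := by
  let c := (shiftFunctorCompIsoId (Dual.D A) (1 : ℤ) (-1 : ℤ) (by omega)).app X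
  have h1 : c.inv ≫ γ⟦(-1 : ℤ)⟧' = 0 := h _
  have h2 : γ⟦(-1 : ℤ)⟧' = 0 := by
    rw [← cancel_epi c.inv, h1, comp_zero]
  exact (shiftFunctor (Dual.D A) (-1 : ℤ)).map_injective (by rw [h2, Functor.map_zero])

lemma comp_eq_zero_imp_of_vanish (T : Triangle (Dual.D A)) (hT : T ∈ distTriang (Dual.D A))
    (W : Dual.D A) (h : ∀ α : T.obj₁ ⟶ W⟦(-1 : ℤ)⟧, α = 0) (χ : T.obj₃ ⟶ W)
    (hχ : T.mor₂ ≫ χ = 0) : χ = 0 := by
  obtain ⟨γ, hγ⟩ := Pretriangulated.Triangle.yoneda_exact₃ T hT χ hχ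
  rw [hγ, hom_shift_one_eq_zero h γ, comp_zero]

lemma hom_eq_zero_of_inj (T : Triangle (Dual.D A)) (hT : T ∈ distTriang (Dual.D A))
    (W : Dual.D A) (h2 : ∀ ψ : T.obj₂ ⟶ W⟦(-1 : ℤ)⟧, ψ = 0)
    (hinj3 : ∀ χ : T.obj₃ ⟶ W, T.mor₂ ≫ χ = 0 → χ = 0) (φ : T.obj₁ ⟶ W⟦(-1 : ℤ)⟧) : φ = 0 := by
  let s := (shiftFunctorCompIsoId (Dual.D A) (-1 : ℤ) (1 : ℤ) (by omega)).app W
  have h0 : T.mor₃ ≫ φ⟦(1 : ℤ)⟧' = 0 := by
    have h1 : T.mor₂ ≫ (T.mor₃ ≫ φ⟦(1 : ℤ)⟧' ≫ s.hom) = 0 := by
      rw [← Category.assoc, comp_distTriang_mor_zero₂₃ _ hT, zero_comp]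
    have h3 := hinj3 _ h1
    rw [← cancel_mono s.hom, Category.assoc, h3, zero_comp]
  obtain ⟨ψ, hψ⟩ := exists_factor_of_distTriang' T hT _ φ h0
  rw [hψ, h2 ψ, comp_zero]

end TriGen

section Bidual

variable {A : Type u} [CommRing A] [IsNoetherianRing A] (I : Cx A) (ω : Dual.D A)
  (e : toD I ≅ ω)

/-- `RHom(A, ω) → ω` -/
noncomputable def evA : toD (homCx (ModuleCat.of A A) I) ⟶ ω :=
  Q.map (homCxSelfIso I).hom ≫ e.hom

instance isIso_evA : IsIso (evA I ω e) := by
  unfold evA; infer_instance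

/-- evaluation at `m`, as a morphism `RHom(M, ω) → ω` -/
noncomputable def eta (M : Type u) [AddCommGroup M] [Module A M] (m : M) :
    toD (homCx (ModuleCat.of A M) I) ⟶ ω :=
  Q.map (homCxMap (ModuleCat.ofHom (LinearMap.toSpanSingleton A M m)) I) ≫ evA I ω e

lemma homCxMap_comp' {M N P : ModuleCat.{u} A} (f : M ⟶ N) (g : N ⟶ P) :
    homCxMap (f ≫ g) I = homCxMap g I ≫ homCxMap f I := by
  refine HomologicalComplex.hom_ext _ _ (fun k => ?_)
  refine ModuleCat.hom_ext (LinearMap.ext fun (ψ : P ⟶ I.X k) => ?_)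
  show (f ≫ g) ≫ ψ = f ≫ g ≫ ψ
  rw [Category.assoc]

lemma homCxMap_add' {M N : ModuleCat.{u} A} (f g : M ⟶ N) :
    homCxMap (f + g) I = homCxMap f I + homCxMap g I := by
  refine HomologicalComplex.hom_ext _ _ (fun k => ?_)
  rw [HomologicalComplex.add_f_apply]
  refine ModuleCat.hom_ext (LinearMap.ext fun (ψ : N ⟶ I.X k) => ?_)
  show (f + g) ≫ ψ = f ≫ ψ + g ≫ ψ
  rw [Preadditive.add_comp]

lemma eta_naturality {M N : Type u} [AddCommGroup M] [Module A M] [AddCommGroup N] [Module A N]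
    (f : M →ₗ[A] N) (m : M) :
    eta I ω e N (f m) = Q.map (homCxMap (ModuleCat.ofHom f) I) ≫ eta I ω e M m := by
  have h : ModuleCat.ofHom (LinearMap.toSpanSingleton A N (f m)) =
      ModuleCat.ofHom (LinearMap.toSpanSingleton A M m) ≫ ModuleCat.ofHom f := by
    apply ModuleCat.hom_ext
    apply LinearMap.ext_ring
    show (1 : A) • f m = f ((1 : A) • m)
    rw [one_smul, one_smul]
  unfold eta
  rw [h, homCxMap_comp', Functor.map_comp, Category.assoc]

lemma eta_add (M : Type u) [AddCommGroup M] [Module A M] (m m' : M) :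
    eta I ω e M (m + m') = eta I ω e M m + eta I ω e M m' := by
  have h : ModuleCat.ofHom (LinearMap.toSpanSingleton A M (m + m')) =
      ModuleCat.ofHom (LinearMap.toSpanSingleton A M m) +
        ModuleCat.ofHom (LinearMap.toSpanSingleton A M m') := by
    apply ModuleCat.hom_ext
    apply LinearMap.ext_ring
    show (1 : A) • (m + m') = (1 : A) • m + (1 : A) • m'
    rw [smul_add]
  unfold eta
  rw [h, homCxMap_add', Functor.map_add, Preadditive.add_comp]

lemma eta_zero (M : Type u) [AddCommGroup M] [Module A M] : eta I ω e M 0 = 0 := by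
  have h := eta_add I ω e M 0 0
  rw [add_zero] at h
  exact left_eq_add.1 h

lemma eta_self (a : A) : eta I ω e A a = a • evA I ω e := by
  have h : homCxMap (ModuleCat.ofHom (LinearMap.toSpanSingleton A A a)) I = a • 𝟙 _ := by
    have h1 : LinearMap.toSpanSingleton A A a = a • (LinearMap.id : A →ₗ[A] A) := by
      apply LinearMap.ext_ring
      show (1 : A) • a = a • (1 : A)
      simp
    rw [h1, homCxMap_smul_id]
  unfold eta
  rw [h, Functor.map_smul, CategoryTheory.Functor.map_id, Linear.smul_comp, Category.id_comp]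

lemma eta_self_bijective (hω : Dual.IsDualizing A ω) : Function.Bijective (eta I ω e A) := by
  constructor
  · intro a a' h
    rw [eta_self, eta_self] at h
    apply hω.toEnd_bijective.1
    show a • 𝟙 ω = a' • 𝟙 ω
    have h2 := congrArg (fun t => inv (evA I ω e) ≫ t) h
    simp only [Linear.comp_smul, IsIso.inv_hom_id] at h2
    exact h2
  · intro t
    obtain ⟨a, ha⟩ := hω.toEnd_bijective.2 (inv (evA I ω e) ≫ t)
    refine ⟨a, ?_⟩
    rw [eta_self]
    have h1 : a • 𝟙 ω = inv (evA I ω e) ≫ t := ha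
    rw [← cancel_epi (inv (evA I ω e)), Linear.comp_smul, IsIso.inv_hom_id, h1]

lemma isZero_toD_homCx_of_subsingleton (M : Type u) [AddCommGroup M] [Module A M]
    [Subsingleton M] : IsZero (toD (homCx (ModuleCat.of A M) I)) := by
  have hz : IsZero (homCx (ModuleCat.of A M) I) := by
    rw [IsZero.iff_id_eq_zero]
    refine HomologicalComplex.hom_ext _ _ (fun k => ?_)
    refine ModuleCat.hom_ext (LinearMap.ext fun (ψ : ModuleCat.of A M ⟶ I.X k) => ?_)
    show ψ = 0
    exact (ModuleCat.isZero_of_subsingleton (ModuleCat.of A M)).eq_of_src _ _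
  exact Q.map_isZero hz

lemma ses_triangle (hinj : TermwiseInjective I) {N₁ N₂ N₃ : Type u}
    [AddCommGroup N₁] [Module A N₁] [AddCommGroup N₂] [Module A N₂] [AddCommGroup N₃]
    [Module A N₃] (f : N₁ →ₗ[A] N₂) (g : N₂ →ₗ[A] N₃) (hf : Function.Injective f)
    (hg : Function.Surjective g) (hfg : Function.Exact f g) :
    ∃ δ : toD (homCx (ModuleCat.of A N₁) I) ⟶ (toD (homCx (ModuleCat.of A N₃) I))⟦(1 : ℤ)⟧,
      Triangle.mk (Q.map (homCxMap (ModuleCat.ofHom g) I))
        (Q.map (homCxMap (ModuleCat.ofHom f) I)) δ ∈ distTriang (Dual.D A) := by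
  have hS := linSC_shortExact f g hfg hf hg
  exact ⟨_, DerivedCategory.triangleOfSES_distinguished (homSC_shortExact _ hS I hinj)⟩

lemma eta_injective_of_linearEquiv {M N : Type u} [AddCommGroup M] [Module A M]
    [AddCommGroup N] [Module A N] (eq : M ≃ₗ[A] N) (h : Function.Injective (eta I ω e M)) :
    Function.Injective (eta I ω e N) := by
  intro n n' hn
  have h1 : eta I ω e M (eq.symm.toLinearMap n) = eta I ω e M (eq.symm.toLinearMap n') := by
    rw [eta_naturality, eta_naturality, hn]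
  exact eq.symm.injective (h h1)

lemma eta_surjective_of_linearEquiv {M N : Type u} [AddCommGroup M] [Module A M]
    [AddCommGroup N] [Module A N] (eq : M ≃ₗ[A] N) (h : Function.Surjective (eta I ω e M)) :
    Function.Surjective (eta I ω e N) := by
  intro t
  obtain ⟨x, hx⟩ := h (Q.map (homCxMap (ModuleCat.ofHom eq.symm.toLinearMap) I) ≫ t)
  refine ⟨eq.toLinearMap x, ?_⟩
  have hid : ModuleCat.ofHom eq.symm.toLinearMap ≫ ModuleCat.ofHom eq.toLinearMap =
      𝟙 (ModuleCat.of A N) := by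
    rw [← ModuleCat.ofHom_comp]
    have : eq.toLinearMap ∘ₗ eq.symm.toLinearMap = LinearMap.id :=
      LinearMap.ext fun x => eq.apply_symm_apply x
    rw [this, ModuleCat.ofHom_id]
  rw [eta_naturality I ω e eq.toLinearMap x, hx, ← Category.assoc, ← Functor.map_comp,
    homCxMap_comp_eq_id _ _ hid I, CategoryTheory.Functor.map_id, Category.id_comp]

variable (hω : Dual.IsDualizing A ω) (a b : ℤ) (hI : VanishesOutside I a b)
  (hinj : TermwiseInjective I)

include hω hI hinj in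
theorem eta_surjective (M : Type u) [AddCommGroup M] [Module A M] [hM : Module.Finite A M] :
    Function.Surjective (eta I ω e M) := by
  induction hM using IsNoetherianRing.induction_on_isQuotientEquivQuotientPrime A with
  | subsingleton N =>
    intro t
    exact ⟨0, (isZero_toD_homCx_of_subsingleton I N).eq_of_src _ _⟩
  | quotient N p eq =>
    apply eta_surjective_of_linearEquiv I ω e eq.symm
    intro t
    obtain ⟨δ, hT⟩ := ses_triangle I hinj (Submodule.subtype p.asIdeal)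
      (Submodule.mkQ p.asIdeal) (Submodule.injective_subtype _) (Submodule.mkQ_surjective _)
      (LinearMap.exact_subtype_mkQ _)
    have hpos : DualVanish I ω 1 p.asIdeal :=
      dualVanish_pos I ω a b hI hinj e hω.ext_self_subsingleton 1 le_rfl p.asIdeal
    obtain ⟨ψ, hψ⟩ := exists_factor_of_distTriang _ hT ω (fun α => hpos α) t
    obtain ⟨x, rfl⟩ := (eta_self_bijective I ω e hω).2 ψ
    exact ⟨Submodule.mkQ p.asIdeal x, by rw [eta_naturality, hψ]; rfl⟩
  | exact N₁ N₂ N₃ f g hf hg hfg h₁ h₃ =>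
    intro t
    obtain ⟨δ, hT⟩ := ses_triangle I hinj f g hf hg hfg
    obtain ⟨n₃, hn₃⟩ := h₃ (Q.map (homCxMap (ModuleCat.ofHom g) I) ≫ t)
    obtain ⟨n₂, rfl⟩ := hg n₃
    have h1 : Q.map (homCxMap (ModuleCat.ofHom g) I) ≫ (t - eta I ω e N₂ n₂) = 0 := by
      rw [Preadditive.comp_sub, ← eta_naturality, hn₃, sub_self]
    obtain ⟨χ, hχ⟩ := Pretriangulated.Triangle.yoneda_exact₂ _ hT _ h1
    obtain ⟨n₁, rfl⟩ := h₁ χ
    refine ⟨n₂ + f n₁, ?_⟩
    have hχ' : t - eta I ω e N₂ n₂ =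
        Q.map (homCxMap (ModuleCat.ofHom f) I) ≫ eta I ω e N₁ n₁ := hχ
    rw [eta_add, eta_naturality I ω e f n₁, ← hχ']
    abel

include hω in
lemma eta_ideal_injective (J : Ideal A) : Function.Injective (eta I ω e J) := by
  intro x x' h
  have h1 : eta I ω e A (Submodule.subtype J x) = eta I ω e A (Submodule.subtype J x') := by
    rw [eta_naturality, eta_naturality, h]
  exact Subtype.ext ((eta_self_bijective I ω e hω).1 h1)

include e hω hI hinj in
lemma comp_eta_ideal_eq_zero (J : Ideal A) (χ : toD (homCx (ModuleCat.of A J) I) ⟶ ω)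
    (h : Q.map (homCxMap (ModuleCat.ofHom (Submodule.subtype J)) I) ≫ χ = 0) : χ = 0 := by
  obtain ⟨x, rfl⟩ := eta_surjective I ω e hω a b hI hinj J χ
  rw [← eta_naturality] at h
  have h0 : Submodule.subtype J x = 0 :=
    (eta_self_bijective I ω e hω).1 (h.trans (eta_zero I ω e A).symm)
  have hx : x = 0 := Subtype.ext h0
  rw [hx, eta_zero]

include hω hI hinj in
lemma eta_quot (J : Ideal A) :
    Function.Injective (eta I ω e (A ⧸ J)) ∧ DualVanish I ω (-1) (A ⧸ J) := by
  obtain ⟨δ, hT⟩ := ses_triangle I hinj (Submodule.subtype J) (Submodule.mkQ J)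
    (Submodule.injective_subtype _) (Submodule.mkQ_surjective _) (LinearMap.exact_subtype_mkQ _)
  have hvan : DualVanish I ω (-1) (A ⧸ J) := by
    intro φ
    exact hom_eq_zero_of_inj _ hT ω
      (fun ψ => dualVanish_self I ω e (-1) (hω.ext_self_subsingleton (-1) (by omega)) ψ)
      (fun χ hχ => comp_eta_ideal_eq_zero I ω e hω a b hI hinj J χ hχ) φ
  refine ⟨?_, hvan⟩
  intro y y' h
  obtain ⟨a₁, rfl⟩ := Submodule.mkQ_surjective J y
  obtain ⟨a₂, rfl⟩ := Submodule.mkQ_surjective J y'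
  rw [eta_naturality, eta_naturality] at h
  have h1 : Q.map (homCxMap (ModuleCat.ofHom (Submodule.mkQ J)) I) ≫
      (eta I ω e A a₁ - eta I ω e A a₂) = 0 := by
    rw [Preadditive.comp_sub, h, sub_self]
  obtain ⟨χ, hχ⟩ := Pretriangulated.Triangle.yoneda_exact₂ _ hT _ h1
  obtain ⟨x, rfl⟩ := eta_surjective I ω e hω a b hI hinj J χ
  have hχ' : eta I ω e A a₁ - eta I ω e A a₂ =
      Q.map (homCxMap (ModuleCat.ofHom (Submodule.subtype J)) I) ≫ eta I ω e J x := hχ
  have h2 : eta I ω e A a₁ = eta I ω e A (a₂ + Submodule.subtype J x) := by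
    rw [eta_add, eta_naturality I ω e (Submodule.subtype J) x, ← hχ']
    abel
  have h3 := (eta_self_bijective I ω e hω).1 h2
  rw [h3, map_add]
  have h4 : Submodule.mkQ J (Submodule.subtype J x) = 0 :=
    (Submodule.Quotient.mk_eq_zero J).2 x.2
  rw [h4, add_zero]

include hω hI hinj in
theorem eta_injective_and_vanish (M : Type u) [AddCommGroup M] [Module A M]
    [hM : Module.Finite A M] :
    Function.Injective (eta I ω e M) ∧ DualVanish I ω (-1) M := by
  induction hM using IsNoetherianRing.induction_on_isQuotientEquivQuotientPrime A with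
  | subsingleton N =>
    exact ⟨fun x y _ => Subsingleton.elim x y, dualVanish_of_subsingleton I ω (-1) N⟩
  | quotient N p eq =>
    obtain ⟨h1, h2⟩ := eta_quot I ω e hω a b hI hinj p.asIdeal
    exact ⟨eta_injective_of_linearEquiv I ω e eq.symm h1,
      dualVanish_of_linearEquiv I ω (-1) eq.symm h2⟩
  | exact N₁ N₂ N₃ f g hf hg hfg h₁ h₃ =>
    obtain ⟨δ, hT⟩ := ses_triangle I hinj f g hf hg hfg
    refine ⟨?_, dualVanish_of_exact I ω hinj (-1) f g hf hg hfg h₁.2 h₃.2⟩
    intro n n' hn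
    have hg' : g n = g n' :=
      h₃.1 (by rw [eta_naturality I ω e g n, eta_naturality I ω e g n', hn])
    obtain ⟨n₁, hn₁⟩ : ∃ n₁, f n₁ = n - n' :=
      (hfg (n - n')).1 (by rw [map_sub, hg', sub_self])
    have h2 : eta I ω e N₂ n = eta I ω e N₂ n' + eta I ω e N₂ (f n₁) := by
      rw [← eta_add, hn₁]
      congr 1
      abel
    have h3 : Q.map (homCxMap (ModuleCat.ofHom f) I) ≫ eta I ω e N₁ n₁ = 0 := by
      rw [← eta_naturality]
      rw [hn] at h2
      exact left_eq_add.1 h2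
    have h4 := comp_eq_zero_imp_of_vanish _ hT ω (fun α => h₃.2 α) _ h3
    have h5 : n₁ = 0 := h₁.1 (h4.trans (eta_zero I ω e N₁).symm)
    rw [h5, map_zero] at hn₁
    exact sub_eq_zero.1 hn₁.symm

include e hω hI hinj in
theorem dualVanish_neg (i : ℤ) (hi : i ≤ -1) (M : Type u) [AddCommGroup M] [Module A M]
    [Module.Finite A M] : DualVanish I ω i M := by
  have key : ∀ n : ℕ, ∀ (M : Type u) [AddCommGroup M] [Module A M] [Module.Finite A M],
      DualVanish I ω (-(n : ℤ) - 1) M := by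
    intro n
    induction n with
    | zero =>
      intro M _ _ _
      have h := (eta_injective_and_vanish I ω e hω a b hI hinj M).2
      rwa [show (-((0 : ℕ) : ℤ) - 1) = -1 by norm_num]
    | succ n ih =>
      intro M _ _ _
      refine dualVanish_of_finite I ω hinj _
        (dualVanish_self I ω e _ (hω.ext_self_subsingleton _ (by push_cast; omega)))
        (fun N _ _ _ => ?_) M
      have h := ih N
      rwa [show -((n + 1 : ℕ) : ℤ) - 1 + 1 = -(n : ℤ) - 1 by push_cast; ring]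
  obtain ⟨n, hn⟩ : ∃ n : ℕ, i = -(n : ℤ) - 1 := ⟨(-1 - i).toNat, by omega⟩
  rw [hn]
  exact key n M

include hω hI hinj in
/-- biduality for finite modules. -/
theorem module_biduality (M : Type u) [AddCommGroup M] [Module A M] [Module.Finite A M] :
    Function.Bijective (eta I ω e M) ∧ ∀ i : ℤ, i ≠ 0 → DualVanish I ω i M :=
  ⟨⟨(eta_injective_and_vanish I ω e hω a b hI hinj M).1, eta_surjective I ω e hω a b hI hinj M⟩,
    fun i hi => by
      rcases lt_or_gt_of_ne hi with h | h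
      · exact dualVanish_neg I ω e hω a b hI hinj i (by omega) M
      · exact dualVanish_pos I ω a b hI hinj e hω.ext_self_subsingleton i (by omega) M⟩

end Bidual

end Groth.Agent.Lib.DMod_helper6
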