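import Mathlib
import Groth.Prelude.Def_DRing2
import Groth.Prelude.Def_DDual2
import Groth.Prelude.Def_Wider
import Groth.Agent.Lib.DMod108_helper6

/-!
# Derived category toolkit (helper6), part 109: the right adjoint of restriction of scalars along a
finite ring map sends dualizing complexes to dualizing complexes (S1772).
-/

set_option autoImplicit false
universe u
open CategoryTheory CategoryTheory.Limits DerivedCategory Pretriangulated ZeroObject
attribute [local instance] HasDerivedCategory.standard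

namespace Groth.Agent.Lib.DMod_helper6

open DRing

section ShiftAdj

variable {A B : Type u} [CommRing A] [CommRing B] {φ : A →+* B}

lemma subsingleton_hom_shift_of_adj (R : Dual.D A ⥤ Dual.D B) (adj : restrictD φ ⊣ R)
    (X : Dual.D B) (K : Dual.D A) (i : ℤ)
    (h : Subsingleton ((restrictD φ).obj X ⟶ K⟦i⟧)) : Subsingleton (X ⟶ (R.obj K)⟦i⟧) := by
  refine subsingleton_of_forall_eq 0 (fun g => ?_)
  let c := (shiftFunctorCompIsoId (Dual.D B) i (-i) (by omega)).app (R.obj K)
  let g₁ : X⟦-i⟧ ⟶ R.obj K := g⟦-i⟧' ≫ c.hom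
  let g₂ : (restrictD φ).obj (X⟦-i⟧) ⟶ K := (adj.homEquiv _ _).symm g₁
  let t := ((restrictD φ).commShiftIso (-i)).app X
  let g₃ : ((restrictD φ).obj X)⟦-i⟧ ⟶ K := t.inv ≫ g₂
  let c' := (shiftFunctorCompIsoId (Dual.D A) (-i) i (by omega)).app ((restrictD φ).obj X)
  have h5 : c'.inv ≫ g₃⟦i⟧' = 0 := @Subsingleton.elim _ h _ _
  have h4 : g₃⟦i⟧' = 0 := by rw [← cancel_epi c'.inv, h5, comp_zero]
  have h3 : g₃ = 0 := (shiftFunctor (Dual.D A) i).map_injective (by rw [h4, Functor.map_zero])
  have h2 : g₂ = 0 := by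
    rw [← cancel_epi t.inv]
    exact h3.trans comp_zero.symm
  have h1 : g₁ = 0 := by
    apply (adj.homEquiv _ _).symm.injective
    exact h2.trans (homEquiv_symm_zero R adj _ _).symm
  have h0 : g⟦-i⟧' = 0 := by
    rw [← cancel_mono c.hom]
    exact h1.trans zero_comp.symm
  exact (shiftFunctor (Dual.D B) (-i)).map_injective (by rw [h0, Functor.map_zero])

variable (φ)

lemma coextCounit_smul (I : Cx A) (β : B) :
    ((ModuleCat.restrictScalars.{u} φ).mapHomologicalComplex (ComplexShape.up ℤ)).map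
      (β • 𝟙 (coextCx φ I)) ≫ coextCounit φ I =
      (kappa φ I).hom ≫
        homCxMap (ModuleCat.ofHom (LinearMap.toSpanSingleton A (resSelf φ) β)) I ≫
          (homCxSelfIso I).hom := by
  refine HomologicalComplex.hom_ext _ _ (fun k => ?_)
  refine ModuleCat.hom_ext (LinearMap.ext fun g => ?_)
  have h : (((1 : B) * β : B)) = ((1 : A) • (show ↑(resSelf φ) from β)) := by
    rw [one_mul, one_smul]
  exact congrArg (ModuleCat.CoextendScalars.equiv φ (I.X k) g) h

end ShiftAdj

section Main

variable {A B : Type u} [CommRing A] [CommRing B] [Algebra A B] [IsNoetherianRing A]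
  [IsNoetherianRing B] [Module.Finite A B]

/-- S1772. -/
theorem isDualizing_rightAdjoint_restrictD (R : Dual.D A ⥤ Dual.D B)
    (adj : restrictD (algebraMap A B) ⊣ R) (ω : Dual.D A) (hω : Dual.IsDualizing A ω) :
    Dual.IsDualizing B (R.obj ω) := by
  obtain ⟨a, b, I, hI, hinj, ⟨e⟩⟩ := hasFiniteInjDim_of_isDualizing ω hω
  haveI : I.IsKInjective := isKInjective_of_injCls ⟨a, b, hI, hinj⟩
  let φ : A →+* B := algebraMap A B
  let N : ModuleCat.{u} A := resSelf φ
  let eN : B ≃ₗ[A] N :=
    AddEquiv.toLinearEquiv (show B ≃+ N from AddEquiv.refl B) (fun a x => by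
      change a • x = algebraMap A B a • x
      rw [Algebra.smul_def, smul_eq_mul])
  haveI : Module.Finite A N := Module.Finite.equiv eN
  obtain ⟨hbij, hvan⟩ := module_biduality I ω e hω a b hI hinj N
  haveI hψ : IsIso (coextToRight R adj I e) := isIso_coextToRight R adj I e
  let ψ := coextToRight R adj I e
  let Y : Dual.D B := toD (coextCx φ I)
  let μ := (ModuleCat.restrictScalars.{u} φ).mapDerivedCategoryFactors
  have key : ∀ β : B, (adj.homEquiv Y ω).symm (ψ ≫ (β • 𝟙 (R.obj ω))) =
      μ.hom.app (coextCx φ I) ≫ Q.map (kappa φ I).hom ≫ eta I ω e N β := by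
    intro β
    have h1 : ψ ≫ (β • 𝟙 (R.obj ω)) = Q.map (β • 𝟙 (coextCx φ I)) ≫ ψ := by
      rw [Functor.map_smul, CategoryTheory.Functor.map_id, Linear.comp_smul, Linear.smul_comp,
        Category.comp_id, Category.id_comp]
    rw [h1, homEquiv_symm_comp_coextToRight, restrictD_map_comp_theta0, coextCounit_smul]
    unfold eta evA
    simp only [Functor.map_comp, Category.assoc]
    rfl
  refine ⟨inferInstance, ?_, ?_, ?_, ?_⟩
  · obtain ⟨a', b', hab⟩ := hω.finite_injective_dimension
    refine ⟨a', b', fun M _ _ i hi => ?_⟩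
    apply subsingleton_hom_shift_of_adj R adj
    refine (subsingleton_hom_iso_left (restrictDInDIso φ (ModuleCat.of B M)).symm).1 ?_
    exact hab ((ModuleCat.restrictScalars.{u} φ).obj (ModuleCat.of B M)) i hi
  · intro i
    obtain ⟨a', b', hab⟩ := hω.finite_injective_dimension
    exact finite_HD_rightAdjoint_restrictD R adj ω a'
      (fun j hj => (subsingleton_hom_inD_self_iff ω j).1 (hab A j (Or.inl hj)))
      hω.finite_cohomology i
  · constructor
    · intro β β' hβ
      have hβ' : β • 𝟙 (R.obj ω) = β' • 𝟙 (R.obj ω) := hβ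
      have h1 := key β
      rw [hβ', key β'] at h1
      have h2 : eta I ω e N β' = eta I ω e N β := by
        have h3 := (cancel_epi (μ.hom.app (coextCx φ I))).1 h1
        exact (cancel_epi (Q.map (kappa φ I).hom)).1 h3
      exact (hbij.1 h2).symm
    · intro g
      obtain ⟨β', hβ'⟩ := hbij.2 (Q.map (kappa φ I).inv ≫ μ.inv.app (coextCx φ I) ≫
        (adj.homEquiv Y ω).symm (ψ ≫ g))
      let β : B := β'
      have hβ : eta I ω e N β = Q.map (kappa φ I).inv ≫ μ.inv.app (coextCx φ I) ≫
        (adj.homEquiv Y ω).symm (ψ ≫ g) := hβ'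
      refine ⟨β, ?_⟩
      show β • 𝟙 (R.obj ω) = g
      have h1 : (adj.homEquiv Y ω).symm (ψ ≫ (β • 𝟙 (R.obj ω))) =
          (adj.homEquiv Y ω).symm (ψ ≫ g) := by
        rw [key β, hβ, ← Category.assoc (Q.map (kappa φ I).hom), ← Functor.map_comp,
          Iso.hom_inv_id, CategoryTheory.Functor.map_id, Category.id_comp,
          Iso.hom_inv_id_app_assoc]
      have h2 := (adj.homEquiv Y ω).symm.injective h1
      exact (cancel_epi ψ).1 h2
  · intro i hi
    refine (subsingleton_hom_iso_left (asIso ψ)).1 ?_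
    apply subsingleton_hom_shift_of_adj R adj
    refine (subsingleton_hom_iso_left
      (μ.app (coextCx φ I) ≪≫ Q.mapIso (kappa φ I)).symm).1 ?_
    exact subsingleton_of_forall_eq 0 (fun t => hvan i hi t)

end Main

end Groth.Agent.Lib.DMod_helper6
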