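import Mathlib
import Groth.Prelude.Def_DRing2
import Groth.Prelude.Def_DDual2
import Groth.Prelude.Def_Wider
import Groth.Agent.Lib.DMod109_helper6

/-!
# Derived category toolkit (helper6), part 110: the right adjoint of restriction of scalars along a
finite local homomorphism preserves normalized dualizing complexes (S1773).
-/

set_option autoImplicit false
universe u
open CategoryTheory CategoryTheory.Limits DerivedCategory Pretriangulated ZeroObject
attribute [local instance] HasDerivedCategory.standard

namespace Groth.Agent.Lib.DMod_helper6

open DRing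

section Main

variable {A B : Type u} [CommRing A] [CommRing B] [Algebra A B]

lemma finite_restrictScalars [Module.Finite A B] (M : ModuleCat.{u} B) [Module.Finite B M] :
    Module.Finite A ((ModuleCat.restrictScalars (algebraMap A B)).obj M) := by
  letI : Module A M := Module.compHom M (algebraMap A B)
  haveI : IsScalarTower A B M := ⟨fun a b x => by
    show (a • b) • x = algebraMap A B a • (b • x)
    rw [Algebra.smul_def, mul_smul]⟩
  exact (Module.Finite.trans B M : Module.Finite A M)

variable [IsNoetherianRing A] [IsNoetherianRing B] [Module.Finite A B]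
  [IsLocalRing A] [IsLocalRing B] [IsLocalHom (algebraMap A B)]

theorem isNormalized_rightAdjoint_restrictD (R : Dual.D A ⥤ Dual.D B)
    (adj : restrictD (algebraMap A B) ⊣ R) (ω : Dual.D A) (hω : Dual.IsDualizing A ω)
    (hn : Dual.IsNormalized A ω) : Dual.IsNormalized B (R.obj ω) := by
  intro i hi
  apply subsingleton_hom_shift_of_adj R adj
  let φ : A →+* B := algebraMap A B
  let V : ModuleCat.{u} A :=
    (ModuleCat.restrictScalars.{u} φ).obj (ModuleCat.of B (IsLocalRing.ResidueField B))
  refine (subsingleton_hom_iso_left
    (restrictDInDIso φ (ModuleCat.of B (IsLocalRing.ResidueField B))).symm).1 ?_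
  haveI : Module.Finite A V :=
    finite_restrictScalars (ModuleCat.of B (IsLocalRing.ResidueField B))
  haveI : Nontrivial V := (inferInstance : Nontrivial (IsLocalRing.ResidueField B))
  have hann : ∀ (x : A), x ∈ IsLocalRing.maximalIdeal A → ∀ v : V, x • v = 0 := by
    intro x hx v
    have h1 : φ x ∈ IsLocalRing.maximalIdeal B := by
      rw [IsLocalRing.mem_maximalIdeal, mem_nonunits_iff] at hx ⊢
      exact fun hu => hx (isUnit_of_map_unit φ x hu)
    show φ x • (show IsLocalRing.ResidueField B from v) = 0
    rw [Algebra.smul_def]
    have h2 : algebraMap B (IsLocalRing.ResidueField B) (φ x) = 0 :=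
      (IsLocalRing.residue_eq_zero_iff _).2 h1
    rw [h2, zero_mul]
  have h0 : Module.supportDim A V ≤ ((0 : ℕ) : WithBot ℕ∞) := by
    have key : ∀ p : PrimeSpectrum A, p ∈ Module.support A V →
        p.asIdeal = IsLocalRing.maximalIdeal A := by
      intro p hp
      rw [Module.mem_support_iff_of_finite] at hp
      have hle : IsLocalRing.maximalIdeal A ≤ p.asIdeal := fun x hx =>
        hp ((Module.mem_annihilator).2 (hann x hx))
      exact ((IsLocalRing.maximalIdeal.isMaximal A).eq_of_le p.isPrime.ne_top hle).symm
    haveI : Subsingleton (Module.support A V) :=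
      ⟨fun p q => Subtype.ext (PrimeSpectrum.ext ((key p.1 p.2).trans (key q.1 q.2).symm))⟩
    unfold Module.supportDim
    simpa using Order.krullDim_nonpos_of_subsingleton (α := Module.support A V)
  by_contra hcon
  rw [not_subsingleton_iff_nontrivial] at hcon
  exact hi ((nontrivial_ext_iff_of_supportDim_le_zero ω hω hn V h0 i).1 hcon)

end Main

end Groth.Agent.Lib.DMod_helper6
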