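import Mathlib
import Groth.Prelude.Def_DRing2
import Groth.Prelude.Def_DDual2
import Groth.Prelude.Def_Wider
import Groth.Prelude.Def_CAlg
import Groth.Agent.Lib.DMod95_helper6
import Groth.Agent.S5155
import Groth.Agent.S0302

/-!
# Derived category toolkit (helper6), part 96: over an artinian local ring a normalized dualizing
complex is an injective hull of the residue field placed in degree `0` (S0375).
-/

set_option autoImplicit false
universe u
open CategoryTheory CategoryTheory.Limits DerivedCategory Pretriangulated ZeroObject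
open scoped Pointwise TensorProduct
attribute [local instance] HasDerivedCategory.standard

namespace Groth.Agent.Lib.DMod_helper6

open DRing

section Single

variable {A : Type u} [CommRing A]

/-- `Hom_A(M, N) ≃ Hom_{D(A)}(M[0], N[0])`, linearly -/
noncomputable def homSingleEquiv (M N : ModuleCat.{u} A) :
    (M ⟶ N) ≃ₗ[A] ((DerivedCategory.singleFunctor (ModuleCat.{u} A) 0).obj M ⟶
      (DerivedCategory.singleFunctor (ModuleCat.{u} A) 0).obj N) :=
  LinearEquiv.ofBijective ((DerivedCategory.singleFunctor (ModuleCat.{u} A) 0).mapLinearMap A)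
    ⟨(DerivedCategory.singleFunctor (ModuleCat.{u} A) 0).map_injective,
      (DerivedCategory.singleFunctor (ModuleCat.{u} A) 0).map_surjective⟩

/-- a module `W` with `Ext^1(A/I, W[0]) = 0` for all ideals `I` is injective (Baer) -/
theorem injective_of_ext_one_vanishing (W : ModuleCat.{u} A)
    (h : ∀ I : Ideal A, Subsingleton (Dual.inD A (A ⧸ I) ⟶
      ((DerivedCategory.singleFunctor (ModuleCat.{u} A) 0).obj W)⟦(1 : ℤ)⟧)) :
    Module.Injective A W := by
  refine Module.Baer.injective (fun I g => ?_)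
  let K : Dual.D A := (DerivedCategory.singleFunctor (ModuleCat.{u} A) 0).obj W
  let z0 : K⟦(0 : ℤ)⟧ ≅ K := (shiftFunctorZero (Dual.D A) ℤ).app K
  let φ : Dual.inD A I ⟶ K⟦(0 : ℤ)⟧ :=
    (DerivedCategory.singleFunctor (ModuleCat.{u} A) 0).map (ModuleCat.ofHom g) ≫ z0.inv
  obtain ⟨ψ, hψ⟩ := les_left_surj K (Submodule.subtype I) (Submodule.mkQ I)
    (Submodule.injective_subtype I) (Submodule.mkQ_surjective I) (LinearMap.exact_subtype_mkQ I)
    0 1 rfl (h I) φ
  obtain ⟨g', hg'⟩ := (DerivedCategory.singleFunctor (ModuleCat.{u} A) 0).map_surjective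
    (ψ ≫ z0.hom)
  have heq : ModuleCat.ofHom (Submodule.subtype I) ≫ g' = ModuleCat.ofHom g := by
    apply (DerivedCategory.singleFunctor (ModuleCat.{u} A) 0).map_injective
    rw [Functor.map_comp, hg', ← Category.assoc, ← hψ]
    simp only [φ, Category.assoc, Iso.inv_hom_id, Category.comp_id]
  refine ⟨g'.hom, fun x mem => ?_⟩
  exact LinearMap.congr_fun (congrArg ModuleCat.Hom.hom heq) ⟨x, mem⟩

end Single

section DimZero

variable {A : Type u} [CommRing A] [IsLocalRing A] [IsNoetherianRing A] (ω : Dual.D A)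

/-- S0375. -/
theorem nonempty_iso_inD_injectiveHull_of_dim_zero (h0 : ringKrullDim A = 0)
    (hω : Dual.IsDualizing A ω) (hn : Dual.IsNormalized A ω) (E : Type u) [AddCommGroup E]
    [Module A E] (f : IsLocalRing.ResidueField A →ₗ[A] E) (hf : InjHull.IsInjectiveHull f) :
    Nonempty (ω ≅ Dual.inD A E) := by
  have h0' : Module.supportDim A A ≤ ((0 : ℕ) : WithBot ℕ∞) := by
    rw [Module.supportDim_self_eq_ringKrullDim, h0]
    rfl
  have hv : ∀ j : ℤ, j ≠ 0 → Subsingleton (Dual.HD A ω j) := by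
    intro j hj
    rw [← subsingleton_hom_inD_self_iff, ← not_nontrivial_iff_subsingleton,
      nontrivial_ext_iff_of_supportDim_le_zero ω hω hn A h0' j]
    exact hj
  haveI : DerivedCategory.IsGE ω 0 := by
    rw [DerivedCategory.isGE_iff]
    intro j hj
    haveI := hv j (by omega)
    exact ModuleCat.isZero_of_subsingleton _
  haveI : DerivedCategory.IsLE ω 0 := by
    rw [DerivedCategory.isLE_iff]
    intro j hj
    haveI := hv j (by omega)
    exact ModuleCat.isZero_of_subsingleton _
  obtain ⟨W, ⟨eW⟩⟩ := DerivedCategory.exists_iso_singleFunctor_obj_of_isGE_of_isLE ω 0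
  -- injectivity
  have hinj : Module.Injective A W := by
    refine injective_of_ext_one_vanishing W (fun I => ?_)
    have h1 := extVanish_of_finite ω hω hn (A ⧸ I) 1 one_pos
    exact (subsingleton_hom_iso_right ((shiftFunctor (Dual.D A) (1 : ℤ)).mapIso eW)).1 h1
  -- power torsion
  have hart : IsArtinianRing A :=
    isArtinianRing_iff_krullDimLE_zero.2 (Ring.krullDimLE_iff.2 (by rw [h0]; rfl))
  obtain ⟨n, hn0⟩ := (isArtinianRing_iff_isNilpotent_maximalIdeal A).1 hart
  have htors : LocCoh.IsPowerTorsion (IsLocalRing.maximalIdeal A) W := by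
    intro w
    refine ⟨n, fun a ha => ?_⟩
    rw [hn0, Ideal.zero_eq_bot, Submodule.mem_bot] at ha
    rw [ha, zero_smul]
  -- socle
  have hnt : Nontrivial (Dual.inD A (A ⧸ IsLocalRing.maximalIdeal A) ⟶ ω⟦(0 : ℤ)⟧) :=
    nontrivial_hom_of_linearEquiv resEquiv.symm _ (nontrivial_hom_residueField ω hω hn)
  obtain ⟨eq1⟩ := nonempty_hom_linearEquiv_quot ω hω (IsLocalRing.maximalIdeal A) 0 hnt
  let z0 : ω⟦(0 : ℤ)⟧ ≅ ω := (shiftFunctorZero (Dual.D A) ℤ).app ω
  let c1 : (IsLocalRing.ResidueField A →ₗ[A] W) ≃ₗ[A]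
      (ModuleCat.of A (IsLocalRing.ResidueField A) ⟶ W) :=
    (ModuleCat.homLinearEquiv (M := ModuleCat.of A (IsLocalRing.ResidueField A)) (N := W)
      (S := A)).symm
  let c2 := homSingleEquiv (ModuleCat.of A (IsLocalRing.ResidueField A)) W
  let c3 : (Dual.inD A (IsLocalRing.ResidueField A) ⟶
      (DerivedCategory.singleFunctor (ModuleCat.{u} A) 0).obj W) ≃ₗ[A]
      (Dual.inD A (A ⧸ IsLocalRing.maximalIdeal A) ⟶ ω⟦(0 : ℤ)⟧) :=
    Linear.homCongr A (inDIsoOfLinearEquiv resEquiv.symm) (eW.symm ≪≫ z0.symm)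
  haveI : IsSimpleModule A (A ⧸ IsLocalRing.maximalIdeal A) :=
    isSimpleModule_iff_quot_maximal.2 ⟨IsLocalRing.maximalIdeal A, inferInstance,
      ⟨LinearEquiv.refl A _⟩⟩
  have hsimple : IsSimpleModule A (IsLocalRing.ResidueField A →ₗ[A] W) :=
    IsSimpleModule.congr (c1.trans (c2.trans (c3.trans eq1)))
  obtain ⟨f', hf'⟩ := (Groth.Agent.S5155.result A W).2 ⟨hinj, htors, hsimple⟩
  obtain ⟨e, -⟩ := Groth.Agent.S0302.result A (IsLocalRing.ResidueField A) W E f' hf' f hf
  exact ⟨eW ≪≫ inDIsoOfLinearEquiv e⟩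

end DimZero

end Groth.Agent.Lib.DMod_helper6
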