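import Mathlib
import Groth.Prelude.Def_DRing2
import Groth.Prelude.Def_DDual2
import Groth.Prelude.Def_Wider
import Groth.Prelude.Def_CAlg
import Groth.Agent.Lib.DMod110_helper6
import Groth.Agent.Lib.DMod96_helper6
import Groth.Agent.S5170

/-!
# Derived category toolkit (helper6), part 111: `Ext^i(N, ω)` for `N` of finite length and a
normalized dualizing complex `ω` over a Noetherian local ring: vanishing for `i ≠ 0` and
`Hom(N, ω) ≃ Hom_A(N, E)` for an injective hull `E` of the residue field (S1749).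
-/

set_option autoImplicit false
universe u
open CategoryTheory CategoryTheory.Limits DerivedCategory Pretriangulated ZeroObject
attribute [local instance] HasDerivedCategory.standard

namespace Groth.Agent.Lib.DMod_helper6

open DRing

section LES2

variable {A : Type u} [CommRing A]
variable (ω : Dual.D A) {N₁ N₂ N₃ : Type u} [AddCommGroup N₁] [Module A N₁] [AddCommGroup N₂]
  [Module A N₂] [AddCommGroup N₃] [Module A N₃] (f : N₁ →ₗ[A] N₂) (g : N₂ →ₗ[A] N₃)
  (hf : Function.Injective f) (hg : Function.Surjective g) (hfg : Function.Exact f g)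

include hf hg hfg

/-- `Ext^j(N₃, ω) → Ext^j(N₂, ω)` is injective when `Ext^{j-1}(N₁, ω) = 0` -/
lemma les_right_inj (i j : ℤ) (hij : i + 1 = j) (h1 : Subsingleton (Dual.inD A N₁ ⟶ ω⟦i⟧))
    (ψ : Dual.inD A N₃ ⟶ ω⟦j⟧)
    (h : (DerivedCategory.singleFunctor (ModuleCat.{u} A) 0).map (ModuleCat.ofHom g) ≫ ψ = 0) :
    ψ = 0 := by
  have hS := linSC_shortExact f g hfg hf hg
  obtain ⟨χ, hχ⟩ := Pretriangulated.Triangle.yoneda_exact₃ _ hS.singleTriangle_distinguished ψ h
  obtain ⟨ξ, hξ⟩ : ∃ ξ : Dual.inD A N₁ ⟶ ω⟦i⟧,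
      ξ⟦(1 : ℤ)⟧' = χ ≫ (shiftFunctorAdd' (Dual.D A) i 1 j hij).hom.app ω :=
    (shiftFunctor (Dual.D A) (1 : ℤ)).map_surjective _
  have hξ0 : ξ = 0 := @Subsingleton.elim _ h1 _ _
  have hχ0 : χ = 0 := by
    refine (cancel_mono ((shiftFunctorAdd' (Dual.D A) i 1 j hij).hom.app ω)).1 ?_
    rw [zero_comp, ← hξ, hξ0]
    exact Functor.map_zero _ _ _
  rw [hχ, hχ0]
  exact comp_zero

end LES2

section Psi

variable {A : Type u} [CommRing A]

/-- `φ ↦ φ[0] ≫ ε` -/
noncomputable def psiLin {X : Type u} [AddCommGroup X] [Module A X] {K : Dual.D A}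
    (ε : Dual.inD A X ⟶ K) (N : Type u) [AddCommGroup N] [Module A N] :
    (N →ₗ[A] X) →ₗ[A] (Dual.inD A N ⟶ K) :=
  (Linear.rightComp A (Dual.inD A N) ε) ∘ₗ
    ((DerivedCategory.singleFunctor (ModuleCat.{u} A) 0).mapLinearMap A
      (X := ModuleCat.of A N) (Y := ModuleCat.of A X)) ∘ₗ
    (ModuleCat.homLinearEquiv (M := ModuleCat.of A N) (N := ModuleCat.of A X)
      (S := A)).symm.toLinearMap

lemma psiLin_apply {X : Type u} [AddCommGroup X] [Module A X] {K : Dual.D A}
    (ε : Dual.inD A X ⟶ K) (N : Type u) [AddCommGroup N] [Module A N] (φ : N →ₗ[A] X) :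
    psiLin ε N φ =
      (DerivedCategory.singleFunctor (ModuleCat.{u} A) 0).map (ModuleCat.ofHom φ) ≫ ε := rfl

lemma psiLin_comp {X : Type u} [AddCommGroup X] [Module A X] {K : Dual.D A}
    (ε : Dual.inD A X ⟶ K) {N N' : Type u} [AddCommGroup N] [Module A N] [AddCommGroup N']
    [Module A N'] (h : N →ₗ[A] N') (φ : N' →ₗ[A] X) :
    psiLin ε N (φ ∘ₗ h) =
      (DerivedCategory.singleFunctor (ModuleCat.{u} A) 0).map (ModuleCat.ofHom h) ≫
        psiLin ε N' φ := by
  rw [psiLin_apply, psiLin_apply, ModuleCat.ofHom_comp, Functor.map_comp, Category.assoc]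

lemma psiLin_bijective_of_linearEquiv {X : Type u} [AddCommGroup X] [Module A X] {K : Dual.D A}
    (ε : Dual.inD A X ⟶ K) {N N' : Type u} [AddCommGroup N] [Module A N] [AddCommGroup N']
    [Module A N'] (e : N ≃ₗ[A] N') (h : Function.Bijective (psiLin ε N)) :
    Function.Bijective (psiLin ε N') := by
  have hiso : (DerivedCategory.singleFunctor (ModuleCat.{u} A) 0).map
      (ModuleCat.ofHom e.symm.toLinearMap) ≫
      (DerivedCategory.singleFunctor (ModuleCat.{u} A) 0).map (ModuleCat.ofHom e.toLinearMap) =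
      𝟙 _ := by
    rw [← Functor.map_comp, ← ModuleCat.ofHom_comp]
    have : e.toLinearMap ∘ₗ e.symm.toLinearMap = LinearMap.id := by
      ext x; simp
    rw [this, ModuleCat.ofHom_id, CategoryTheory.Functor.map_id]
  constructor
  · rw [injective_iff_map_eq_zero]
    intro φ hφ
    have h1 : psiLin ε N (φ ∘ₗ e.toLinearMap) = 0 := by
      rw [psiLin_comp, hφ, comp_zero]
    have h2 := (injective_iff_map_eq_zero _).1 h.1 _ h1
    ext x
    have := LinearMap.congr_fun h2 (e.symm x)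
    simpa using this
  · intro t
    obtain ⟨φ₀, hφ₀⟩ := h.2
      ((DerivedCategory.singleFunctor (ModuleCat.{u} A) 0).map (ModuleCat.ofHom e.toLinearMap) ≫ t)
    refine ⟨φ₀ ∘ₗ e.symm.toLinearMap, ?_⟩
    rw [psiLin_comp, hφ₀, ← Category.assoc, hiso, Category.id_comp]

end Psi

section FinLen

variable {A : Type u} [CommRing A] [IsLocalRing A] [IsNoetherianRing A] (ω : Dual.D A)

lemma nonempty_residueField_linearEquiv_of_isSimpleModule (S : Type u) [AddCommGroup S]
    [Module A S] [hS : IsSimpleModule A S] :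
    Nonempty (IsLocalRing.ResidueField A ≃ₗ[A] S) := by
  obtain ⟨m, hm, ⟨e⟩⟩ := isSimpleModule_iff_quot_maximal.1 hS
  obtain rfl : m = IsLocalRing.maximalIdeal A := IsLocalRing.eq_maximalIdeal hm
  exact ⟨resEquiv.symm.trans e.symm⟩

/-- `Ext^i(N, ω) = 0` for `i ≠ 0`, `N` of finite length, `ω` normalized. -/
theorem extVanishOn_of_isFiniteLength (hn : Dual.IsNormalized A ω) (N : Type u) [AddCommGroup N]
    [Module A N] (hN : IsFiniteLength A N) : ExtVanishOn {i : ℤ | i ≠ 0} ω N := by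
  induction hN with
  | of_subsingleton => exact extVanishOn_of_subsingleton _ ω _
  | @of_simple_quotient M _ _ N' _ hN' ih =>
    obtain ⟨e⟩ := nonempty_residueField_linearEquiv_of_isSimpleModule (A := A) (M ⧸ N')
    refine extVanishOn_of_exact _ ω N'.subtype N'.mkQ N'.injective_subtype N'.mkQ_surjective
      (LinearMap.exact_subtype_mkQ N') ih ?_
    exact extVanishOn_of_linearEquiv _ ω e (fun i hi => hn i hi)

/-- dévissage: if `Ψ_κ` is bijective then so is `Ψ_N` for every `N` of finite length killed by `J`. -/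
theorem psiLin_bijective_of_isFiniteLength (hn : Dual.IsNormalized A ω)
    {X : Type u} [AddCommGroup X] [Module A X] (ε : Dual.inD A X ⟶ ω⟦(0 : ℤ)⟧) (J : Ideal A)
    (hext : ∀ (N : Type u) [AddCommGroup N] [Module A N], (∀ a ∈ J, ∀ x : N, a • x = 0) →
      ∀ (N' : Submodule A N) (φ' : N' →ₗ[A] X), ∃ φ : N →ₗ[A] X, φ ∘ₗ N'.subtype = φ')
    (hκ : Function.Bijective (psiLin ε (IsLocalRing.ResidueField A)))
    (N : Type u) [AddCommGroup N] [Module A N] (hN : IsFiniteLength A N)
    (hJ : ∀ a ∈ J, ∀ x : N, a • x = 0) : Function.Bijective (psiLin ε N) := by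
  induction hN with
  | @of_subsingleton M _ _ _ =>
    have h1 : Subsingleton (Dual.inD A M ⟶ ω⟦(0 : ℤ)⟧) :=
      extVanishOn_of_subsingleton Set.univ ω M 0 (Set.mem_univ _)
    have h2 : Subsingleton (M →ₗ[A] X) :=
      ⟨fun a b => LinearMap.ext fun x => by rw [Subsingleton.elim x 0, map_zero, map_zero]⟩
    exact ⟨fun a b _ => Subsingleton.elim a b, fun t => ⟨0, Subsingleton.elim _ _⟩⟩
  | @of_simple_quotient M _ _ N' _ hN' ih =>
    have hJN' : ∀ a ∈ J, ∀ x : N', a • x = 0 := by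
      intro a ha x
      apply Subtype.ext
      rw [Submodule.coe_smul, hJ a ha x.1, Submodule.coe_zero]
    have hJQ : ∀ a ∈ J, ∀ x : M ⧸ N', a • x = 0 := by
      intro a ha x
      obtain ⟨y, rfl⟩ := N'.mkQ_surjective x
      rw [← map_smul, hJ a ha y, map_zero]
    have ihb := ih hJN'
    obtain ⟨e⟩ := nonempty_residueField_linearEquiv_of_isSimpleModule (A := A) (M ⧸ N')
    have hQ : Function.Bijective (psiLin ε (M ⧸ N')) :=
      psiLin_bijective_of_linearEquiv ε e hκ
    have hv : Subsingleton (Dual.inD A N' ⟶ ω⟦(-1 : ℤ)⟧) :=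
      extVanishOn_of_isFiniteLength ω hn N' hN' (-1) (by decide)
    constructor
    · rw [injective_iff_map_eq_zero]
      intro φ hφ
      have h1 : psiLin ε N' (φ ∘ₗ N'.subtype) = 0 := by
        rw [psiLin_comp, hφ, comp_zero]
      have h2 : φ ∘ₗ N'.subtype = 0 := (injective_iff_map_eq_zero _).1 ihb.1 _ h1
      have hle : N' ≤ LinearMap.ker φ := by
        intro x hx
        exact LinearMap.congr_fun h2 ⟨x, hx⟩
      have h3 : φ = (N'.liftQ φ hle) ∘ₗ N'.mkQ := (Submodule.liftQ_mkQ N' φ hle).symm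
      have h4 : (DerivedCategory.singleFunctor (ModuleCat.{u} A) 0).map (ModuleCat.ofHom N'.mkQ) ≫
          psiLin ε (M ⧸ N') (N'.liftQ φ hle) = 0 := by
        rw [← psiLin_comp, ← h3, hφ]
      have h5 := les_right_inj ω N'.subtype N'.mkQ N'.injective_subtype N'.mkQ_surjective
        (LinearMap.exact_subtype_mkQ N') (-1) 0 (by norm_num) hv _ h4
      have h6 : N'.liftQ φ hle = 0 := (injective_iff_map_eq_zero _).1 hQ.1 _ h5
      rw [h3, h6, LinearMap.zero_comp]
    · intro t
      obtain ⟨φ', hφ'⟩ := ihb.2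
        ((DerivedCategory.singleFunctor (ModuleCat.{u} A) 0).map (ModuleCat.ofHom N'.subtype) ≫ t)
      obtain ⟨φ, hφ⟩ := hext M hJ N' φ'
      have h1 : (DerivedCategory.singleFunctor (ModuleCat.{u} A) 0).map
          (ModuleCat.ofHom N'.subtype) ≫ (t - psiLin ε M φ) = 0 := by
        rw [Preadditive.comp_sub, ← psiLin_comp, hφ, hφ', sub_self]
      obtain ⟨s, hs⟩ := les_mid ω N'.subtype N'.mkQ N'.injective_subtype N'.mkQ_surjective
        (LinearMap.exact_subtype_mkQ N') 0 _ h1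
      obtain ⟨φ₁, hφ₁⟩ := hQ.2 s
      refine ⟨φ + φ₁ ∘ₗ N'.mkQ, ?_⟩
      rw [map_add, psiLin_comp, hφ₁, ← hs]
      abel

end FinLen

end Groth.Agent.Lib.DMod_helper6
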