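import Mathlib
import Groth.Prelude.Def_DRing2
import Groth.Prelude.Def_DDual2
import Groth.Prelude.Def_Wider
import Groth.Prelude.Def_CAlg
import Groth.Agent.Lib.DMod111_helper6

/-!
# Derived category toolkit (helper6), part 112: `Hom_{D(A)}(N, ω) ≃ Hom_A(N, E)` for `N` of finite
length (S1749).
-/

set_option autoImplicit false
universe u
open CategoryTheory CategoryTheory.Limits DerivedCategory Pretriangulated ZeroObject
attribute [local instance] HasDerivedCategory.standard

namespace Groth.Agent.Lib.DMod_helper6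

open DRing

section Tors

variable {A : Type u} [CommRing A]

/-- `E[J] → Hom(A/J, E)` -/
noncomputable def torsToHom (J : Ideal A) (E : Type u) [AddCommGroup E] [Module A E] :
    Submodule.torsionBySet A E (J : Set A) →ₗ[A] ((A ⧸ J) →ₗ[A] E) where
  toFun x := Submodule.liftQ J (LinearMap.toSpanSingleton A E x.1) (by
    intro a ha
    rw [LinearMap.mem_ker, LinearMap.toSpanSingleton_apply]
    exact ((Submodule.mem_torsionBySet_iff _ _).1 x.2) ⟨a, ha⟩)
  map_add' x y := by
    apply Submodule.linearMap_qext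
    refine LinearMap.ext fun b => ?_
    simp only [LinearMap.comp_apply, Submodule.mkQ_apply, Submodule.liftQ_apply,
      LinearMap.toSpanSingleton_apply, LinearMap.add_apply, Submodule.coe_add, smul_add]
  map_smul' a x := by
    apply Submodule.linearMap_qext
    refine LinearMap.ext fun b => ?_
    simp only [LinearMap.comp_apply, Submodule.mkQ_apply, Submodule.liftQ_apply,
      LinearMap.toSpanSingleton_apply, LinearMap.smul_apply, Submodule.coe_smul, RingHom.id_apply]
    exact smul_comm b a x.1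

lemma torsToHom_injective (J : Ideal A) (E : Type u) [AddCommGroup E] [Module A E] :
    Function.Injective (torsToHom J E) := by
  rw [injective_iff_map_eq_zero]
  intro x hx
  have h1 := LinearMap.congr_fun hx (Submodule.Quotient.mk 1)
  change Submodule.liftQ J (LinearMap.toSpanSingleton A E x.1) _ (Submodule.Quotient.mk 1) = 0 at h1
  rw [Submodule.liftQ_apply, LinearMap.toSpanSingleton_apply, one_smul] at h1
  exact Subtype.ext h1

/-- `Hom(N, F) ≃ Hom(N, E)` when every map `N → E` lands in `F` -/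
noncomputable def homSubtypeEquiv {E N : Type u} [AddCommGroup E] [Module A E] [AddCommGroup N]
    [Module A N] (F : Submodule A E) (h : ∀ (φ : N →ₗ[A] E) (x : N), φ x ∈ F) :
    (N →ₗ[A] F) ≃ₗ[A] (N →ₗ[A] E) :=
  LinearEquiv.ofBijective (LinearMap.compRight A F.subtype)
    ⟨fun a b hab => LinearMap.ext fun x => Subtype.ext (LinearMap.congr_fun hab x),
      fun φ => ⟨φ.codRestrict F (h φ), LinearMap.ext fun x => rfl⟩⟩

end Tors

section Apply

variable {A : Type u} [CommRing A] [IsLocalRing A] [IsNoetherianRing A] (ω : Dual.D A)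

lemma isFiniteLength_torsionBy (E : Type u) [AddCommGroup E] [Module A E]
    (f : IsLocalRing.ResidueField A →ₗ[A] E) (hf : InjHull.IsInjectiveHull f) (J : Ideal A)
    (hJ : IsFiniteLength A (A ⧸ J)) : IsFiniteLength A (LocCoh.torsionBy J E) := by
  have h1 : Module.length A ((A ⧸ J) →ₗ[A] E) = Module.length A (A ⧸ J) :=
    Groth.Agent.S5170.result A E f hf (A ⧸ J) hJ
  have h2 : IsFiniteLength A ((A ⧸ J) →ₗ[A] E) := by
    rw [← Module.length_ne_top_iff, h1, Module.length_ne_top_iff]
    exact hJ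
  exact IsFiniteLength.of_injective h2 (torsToHom_injective J E)

lemma isSimpleModule_residueField : IsSimpleModule A (IsLocalRing.ResidueField A) := by
  haveI : IsSimpleModule A (A ⧸ IsLocalRing.maximalIdeal A) :=
    isSimpleModule_iff_quot_maximal.2 ⟨IsLocalRing.maximalIdeal A, inferInstance,
      ⟨LinearEquiv.refl A _⟩⟩
  exact IsSimpleModule.congr resEquiv.symm

/-- `Hom_{D(A)}(N, ω[0]) ≃ Hom_A(N, E)` for `N` of finite length. -/
theorem nonempty_hom_zero_linearEquiv_of_isFiniteLength (hω : Dual.IsDualizing A ω)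
    (hn : Dual.IsNormalized A ω) (E : Type u) [AddCommGroup E] [Module A E]
    (f : IsLocalRing.ResidueField A →ₗ[A] E) (hf : InjHull.IsInjectiveHull f)
    (N : Type u) [AddCommGroup N] [Module A N] (hN : IsFiniteLength A N) :
    Nonempty ((Dual.inD A N ⟶ ω⟦(0 : ℤ)⟧) ≃ₗ[A] (N →ₗ[A] E)) := by
  by_cases hsub : Subsingleton N
  · have h1 : Subsingleton (Dual.inD A N ⟶ ω⟦(0 : ℤ)⟧) :=
      extVanishOn_of_subsingleton Set.univ ω N 0 (Set.mem_univ _)
    have h2 : Subsingleton (N →ₗ[A] E) :=
      ⟨fun a b => LinearMap.ext fun x => by rw [Subsingleton.elim x 0, map_zero, map_zero]⟩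
    exact ⟨LinearEquiv.ofSubsingleton _ _⟩
  rw [not_subsingleton_iff_nontrivial] at hsub
  obtain ⟨hnoeth, hart⟩ := isFiniteLength_iff_isNoetherian_isArtinian.1 hN
  haveI : Module.Finite A N := inferInstance
  obtain ⟨r, s, hs⟩ := Module.Finite.exists_fin (R := A) (M := N)
  let ψ : A →ₗ[A] (Fin r → N) := LinearMap.pi (fun k => LinearMap.toSpanSingleton A N (s k))
  let J : Ideal A := LinearMap.ker ψ
  have hJN : ∀ a ∈ J, ∀ x : N, a • x = 0 := by
    intro a ha x
    have hk : ∀ k, a • s k = 0 := fun k => by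
      have h0 := congrFun (LinearMap.mem_ker.1 ha) k
      simpa [ψ, LinearMap.toSpanSingleton_apply] using h0
    have hle : Submodule.span A (Set.range s) ≤ LinearMap.ker (LinearMap.lsmul A N a) := by
      rw [Submodule.span_le]
      rintro _ ⟨k, rfl⟩
      exact hk k
    have hx : x ∈ Submodule.span A (Set.range s) := hs ▸ Submodule.mem_top
    exact hle hx
  have hAJ : IsFiniteLength A (A ⧸ J) := by
    have hpi : IsFiniteLength A (Fin r → N) :=
      isFiniteLength_iff_isNoetherian_isArtinian.2 ⟨inferInstance, inferInstance⟩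
    refine IsFiniteLength.of_injective hpi
      (f := (LinearMap.range ψ).subtype ∘ₗ ψ.quotKerEquivRange.toLinearMap) ?_
    exact (Submodule.injective_subtype _).comp ψ.quotKerEquivRange.injective
  have hJm : J ≤ IsLocalRing.maximalIdeal A := by
    apply IsLocalRing.le_maximalIdeal
    intro htop
    obtain ⟨x, hx⟩ := exists_ne (0 : N)
    apply hx
    have h0 := hJN 1 (htop ▸ Submodule.mem_top) x
    rwa [one_smul] at h0
  have hJκ : ∀ a ∈ J, ∀ x : IsLocalRing.ResidueField A, a • x = 0 := by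
    intro a ha x
    rw [Algebra.smul_def]
    have h0 : algebraMap A (IsLocalRing.ResidueField A) a = 0 :=
      (IsLocalRing.residue_eq_zero_iff a).2 (hJm ha)
    rw [h0, zero_mul]
  let F : Submodule A E := LocCoh.torsionBy J E
  have hF : IsFiniteLength A F := isFiniteLength_torsionBy E f hf J hAJ
  have hFmem : ∀ (N' : Type u) [AddCommGroup N'] [Module A N'],
      (∀ a ∈ J, ∀ x : N', a • x = 0) → ∀ (φ : N' →ₗ[A] E) (x : N'), φ x ∈ F := by
    intro N' _ _ hJ' φ x
    rw [Submodule.mem_torsionBySet_iff]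
    rintro ⟨a, ha⟩
    change a • φ x = 0
    rw [← map_smul, hJ' a ha, map_zero]
  let f' : IsLocalRing.ResidueField A →ₗ[A] F := f.codRestrict F (hFmem _ hJκ f)
  have hf'inj : Function.Injective f' := fun x y h => hf.injective (congrArg Subtype.val h)
  have hcok : IsFiniteLength A (F ⧸ LinearMap.range f') :=
    IsFiniteLength.of_surjective hF (Submodule.mkQ_surjective _)
  haveI := nontrivial_hom_residueField ω hω hn
  obtain ⟨g₀, hg₀⟩ := exists_ne (0 : Dual.inD A (IsLocalRing.ResidueField A) ⟶ ω⟦(0 : ℤ)⟧)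
  obtain ⟨ε, hε⟩ := les_left_surj ω f' (LinearMap.range f').mkQ hf'inj
    (Submodule.mkQ_surjective _) (LinearMap.exact_map_mkQ_range f') 0 1 rfl
    (extVanishOn_of_isFiniteLength ω hn _ hcok 1 one_ne_zero) g₀
  have hext : ∀ (N' : Type u) [AddCommGroup N'] [Module A N'],
      (∀ a ∈ J, ∀ x : N', a • x = 0) →
      ∀ (N'' : Submodule A N') (φ' : N'' →ₗ[A] F), ∃ φ : N' →ₗ[A] F, φ ∘ₗ N''.subtype = φ' := by
    intro N' _ _ hJ' N'' φ'
    obtain ⟨h, hh⟩ := hf.isInjective.out N''.subtype N''.injective_subtype (F.subtype ∘ₗ φ')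
    refine ⟨h.codRestrict F (hFmem N' hJ' h), ?_⟩
    ext x
    exact hh x
  haveI hsκ : IsSimpleModule A (IsLocalRing.ResidueField A) := isSimpleModule_residueField
  have hκfl : IsFiniteLength A (IsLocalRing.ResidueField A) :=
    Module.length_ne_top_iff.1 (by
      rw [Module.length_eq_one A (IsLocalRing.ResidueField A)]; exact ENat.one_ne_top)
  have hs1 : IsSimpleModule A (IsLocalRing.ResidueField A →ₗ[A] E) := by
    rw [← Module.length_eq_one_iff, Groth.Agent.S5170.result A E f hf _ hκfl,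
      Module.length_eq_one A (IsLocalRing.ResidueField A)]
  haveI hs2 : IsSimpleModule A (IsLocalRing.ResidueField A →ₗ[A] F) :=
    IsSimpleModule.congr (homSubtypeEquiv F (hFmem _ hJκ))
  haveI hs3 : IsSimpleModule A (Dual.inD A (IsLocalRing.ResidueField A) ⟶ ω⟦(0 : ℤ)⟧) := by
    have hnt' : Nontrivial (Dual.inD A (A ⧸ IsLocalRing.maximalIdeal A) ⟶ ω⟦(0 : ℤ)⟧) :=
      nontrivial_hom_of_linearEquiv resEquiv.symm _ (nontrivial_hom_residueField ω hω hn)
    obtain ⟨eq1⟩ := nonempty_hom_linearEquiv_quot ω hω (IsLocalRing.maximalIdeal A) 0 hnt'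
    haveI : IsSimpleModule A (A ⧸ IsLocalRing.maximalIdeal A) :=
      isSimpleModule_iff_quot_maximal.2 ⟨IsLocalRing.maximalIdeal A, inferInstance,
        ⟨LinearEquiv.refl A _⟩⟩
    exact IsSimpleModule.congr ((Linear.homCongr A (inDIsoOfLinearEquiv resEquiv.symm)
      (Iso.refl (ω⟦(0 : ℤ)⟧))).trans eq1)
  have hκ : Function.Bijective (psiLin ε (IsLocalRing.ResidueField A)) := by
    refine (LinearMap.bijective_or_eq_zero _).resolve_right ?_
    intro h0
    apply hg₀
    rw [hε, ← psiLin_apply, h0]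
    rfl
  have hbij := psiLin_bijective_of_isFiniteLength ω hn ε J hext hκ N hN hJN
  exact ⟨(LinearEquiv.ofBijective (psiLin ε N) hbij).symm.trans
    (homSubtypeEquiv F (hFmem N hJN))⟩

/-- S1749. -/
theorem ext_finiteLength_normalized_dualizing (hω : Dual.IsDualizing A ω)
    (hn : Dual.IsNormalized A ω) (E : Type u) [AddCommGroup E] [Module A E]
    (f : IsLocalRing.ResidueField A →ₗ[A] E) (hf : InjHull.IsInjectiveHull f)
    (N : Type u) [AddCommGroup N] [Module A N] (hN : IsFiniteLength A N) :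
    (∀ i : ℤ, i ≠ 0 → Subsingleton (Dual.inD A N ⟶ ω⟦i⟧)) ∧
      Nonempty ((Dual.inD A N ⟶ ω) ≃ₗ[A] (N →ₗ[A] E)) := by
  refine ⟨fun i hi => extVanishOn_of_isFiniteLength ω hn N hN i hi, ?_⟩
  obtain ⟨e0⟩ := nonempty_hom_zero_linearEquiv_of_isFiniteLength ω hω hn E f hf N hN
  exact ⟨(Linear.homCongr A (Iso.refl (Dual.inD A N))
    ((shiftFunctorZero (Dual.D A) ℤ).app ω).symm).trans e0⟩

end Apply

end Groth.Agent.Lib.DMod_helper6
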