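import Mathlib
import Groth.Prelude.Def_DRing2
import Groth.Prelude.Def_DDual2
import Groth.Prelude.Def_Wider
import Groth.Prelude.Def_CAlg
import Groth.Agent.Lib.DMod112_helper6
import Groth.Agent.Lib.DMod101_helper6
import Groth.Agent.Lib.InjHull6_helper3

/-!
# Derived category toolkit (helper6), part 115: over a noetherian local ring `B` such that `B[0]` is
dualizing, every dualizing complex is a shift of `B[0]`.
-/

set_option autoImplicit false
universe u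
open CategoryTheory CategoryTheory.Limits DerivedCategory Pretriangulated ZeroObject
open scoped Pointwise
attribute [local instance] HasDerivedCategory.standard

namespace Groth.Agent.Lib.DMod_helper6

open DRing

section Conn

variable {A : Type u} [CommRing A]

/-- the connecting map `Ext^i(X₁, X) → Ext^{i+1}(X₃, X)` of a short exact sequence, linearly -/
noncomputable def connLin {S : ShortComplex (ModuleCat.{u} A)} (hS : S.ShortExact) (X : Dual.D A)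
    (i j : ℤ) (hij : i + 1 = j) :
    ((DerivedCategory.singleFunctor (ModuleCat.{u} A) 0).obj S.X₁ ⟶ X⟦i⟧) →ₗ[A]
      ((DerivedCategory.singleFunctor (ModuleCat.{u} A) 0).obj S.X₃ ⟶ X⟦j⟧) where
  toFun ξ := hS.singleδ ≫ ξ⟦(1 : ℤ)⟧' ≫ (shiftFunctorAdd' (Dual.D A) i 1 j hij).inv.app X
  map_add' ξ ξ' := by
    rw [Functor.map_add, Preadditive.add_comp, Preadditive.comp_add]
  map_smul' a ξ := by
    rw [Functor.map_smul, Linear.smul_comp, Linear.comp_smul]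
    rfl

lemma connLin_apply {S : ShortComplex (ModuleCat.{u} A)} (hS : S.ShortExact) (X : Dual.D A)
    (i j : ℤ) (hij : i + 1 = j)
    (ξ : (DerivedCategory.singleFunctor (ModuleCat.{u} A) 0).obj S.X₁ ⟶ X⟦i⟧) :
    connLin hS X i j hij ξ =
      hS.singleδ ≫ ξ⟦(1 : ℤ)⟧' ≫ (shiftFunctorAdd' (Dual.D A) i 1 j hij).inv.app X := rfl

lemma connLin_surjective {S : ShortComplex (ModuleCat.{u} A)} (hS : S.ShortExact) (X : Dual.D A)
    (i j : ℤ) (hij : i + 1 = j)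
    (hvan : Subsingleton ((DerivedCategory.singleFunctor (ModuleCat.{u} A) 0).obj S.X₂ ⟶ X⟦j⟧)) :
    Function.Surjective (connLin hS X i j hij) := by
  intro e
  obtain ⟨ξ, hξ⟩ := exists_factor_singleδ hS X i j hij
    (fun g => @Subsingleton.elim _ hvan g 0) e
  exact ⟨ξ, hξ.symm⟩

lemma exists_of_connLin_eq_zero {S : ShortComplex (ModuleCat.{u} A)} (hS : S.ShortExact)
    (X : Dual.D A) (i j : ℤ) (hij : i + 1 = j)
    (ξ : (DerivedCategory.singleFunctor (ModuleCat.{u} A) 0).obj S.X₁ ⟶ X⟦i⟧)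
    (h : connLin hS X i j hij ξ = 0) :
    ∃ ψ : (DerivedCategory.singleFunctor (ModuleCat.{u} A) 0).obj S.X₂ ⟶ X⟦i⟧,
      ξ = (DerivedCategory.singleFunctor (ModuleCat.{u} A) 0).map S.f ≫ ψ := by
  have hT := hS.singleTriangle_distinguished
  let e : X⟦j⟧ ≅ (X⟦i⟧)⟦(1 : ℤ)⟧ := (shiftFunctorAdd' (Dual.D A) i 1 j hij).app X
  have h0 : hS.singleδ ≫ ξ⟦(1 : ℤ)⟧' = 0 := by
    rw [← cancel_mono e.inv, zero_comp, Category.assoc]
    exact h
  obtain ⟨γ, hγ⟩ : ∃ γ : ((DerivedCategory.singleFunctor (ModuleCat.{u} A) 0).obj S.X₂)⟦(1 : ℤ)⟧ ⟶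
      (X⟦i⟧)⟦(1 : ℤ)⟧,
      ξ⟦(1 : ℤ)⟧' = (-((DerivedCategory.singleFunctor (ModuleCat.{u} A) 0).map S.f)⟦(1 : ℤ)⟧') ≫ γ :=
    Pretriangulated.Triangle.yoneda_exact₃ _ (rot_of_distTriang _ hT) (ξ⟦(1 : ℤ)⟧') h0
  obtain ⟨γ', rfl⟩ := (shiftFunctor (Dual.D A) (1 : ℤ)).map_surjective γ
  refine ⟨-γ', ?_⟩
  apply (shiftFunctor (Dual.D A) (1 : ℤ)).map_injective
  rw [hγ]
  simp only [Functor.map_neg, Functor.map_comp, Preadditive.neg_comp, Preadditive.comp_neg]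

end Conn

section Koszul

lemma ker_comp_le_smul_top {R : Type*} [CommRing R] (I : Ideal R) {M₁ M₂ M₃ : Type*}
    [AddCommGroup M₁] [Module R M₁] [AddCommGroup M₂] [Module R M₂] [AddCommGroup M₃] [Module R M₃]
    (π₁ : M₁ →ₗ[R] M₂) (π₂ : M₂ →ₗ[R] M₃) (h1s : Function.Surjective π₁)
    (h1 : LinearMap.ker π₁ ≤ I • (⊤ : Submodule R M₁))
    (h2 : LinearMap.ker π₂ ≤ I • (⊤ : Submodule R M₂)) :
    LinearMap.ker (π₂.comp π₁) ≤ I • (⊤ : Submodule R M₁) := by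
  intro ξ hξ
  have h3 : π₁ ξ ∈ I • (⊤ : Submodule R M₂) := h2 (by
    rw [LinearMap.mem_ker] at hξ ⊢
    exact hξ)
  have h4 : (I • (⊤ : Submodule R M₁)).map π₁ = I • (⊤ : Submodule R M₂) := by
    rw [Submodule.map_smul'', Submodule.map_top, LinearMap.range_eq_top.2 h1s]
  rw [← h4] at h3
  obtain ⟨η, hη, hηξ⟩ := h3
  have h5 : ξ - η ∈ LinearMap.ker π₁ := by
    rw [LinearMap.mem_ker, map_sub, hηξ, sub_self]
  have h6 := Submodule.add_mem _ (h1 h5) hη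
  rwa [sub_add_cancel] at h6

variable {B : Type u} [CommRing B] [IsLocalRing B] [IsNoetherianRing B] (X : Dual.D B)

lemma koszul_step {M : Type u} [AddCommGroup M] [Module B M] (x : B)
    (hx : x ∈ IsLocalRing.maximalIdeal B) (hreg : IsSMulRegular M x) (c c' : ℤ) (hc : c + 1 = c')
    (hvan : ∀ j : ℤ, c < j → Subsingleton (Dual.inD B M ⟶ X⟦j⟧)) :
    (∀ j : ℤ, c' < j → Subsingleton (Dual.inD B (QuotSMulTop x M) ⟶ X⟦j⟧)) ∧
    ∃ π : (Dual.inD B M ⟶ X⟦c⟧) →ₗ[B] (Dual.inD B (QuotSMulTop x M) ⟶ X⟦c'⟧),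
      Function.Surjective π ∧
        LinearMap.ker π ≤
          IsLocalRing.maximalIdeal B • (⊤ : Submodule B (Dual.inD B M ⟶ X⟦c⟧)) := by
  refine ⟨fun j hj => ?_, ?_⟩
  · exact subsingleton_quotSMulTop X x hreg (j - 1) j (by omega) (hvan (j - 1) (by omega))
      (hvan j (by omega))
  · have hS := linSC_shortExact (x • (LinearMap.id : M →ₗ[B] M)) (x • (⊤ : Submodule B M)).mkQ
      (quotSMulTop_exact x M) (injective_of_isSMulRegular hreg) (Submodule.mkQ_surjective _)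
    refine ⟨connLin hS X c c' hc, connLin_surjective hS X c c' hc (hvan c' (by omega)), ?_⟩
    intro ξ hξ
    obtain ⟨ψ, hψ⟩ := exists_of_connLin_eq_zero hS X c c' hc ξ (LinearMap.mem_ker.1 hξ)
    have hmap : (DerivedCategory.singleFunctor (ModuleCat.{u} B) 0).map
        (ModuleCat.ofHom (x • (LinearMap.id : M →ₗ[B] M))) = x • 𝟙 (Dual.inD B M) := by
      have : ModuleCat.ofHom (x • (LinearMap.id : M →ₗ[B] M)) = x • 𝟙 (ModuleCat.of B M) := by
        ext m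
        rfl
      rw [this, Functor.map_smul, CategoryTheory.Functor.map_id]
    have hξ' : ξ = x • ψ := by
      rw [hψ]
      show (DerivedCategory.singleFunctor (ModuleCat.{u} B) 0).map
        (ModuleCat.ofHom (x • (LinearMap.id : M →ₗ[B] M))) ≫ ψ = x • ψ
      rw [hmap, Linear.smul_comp, Category.id_comp]
    rw [hξ']
    exact Submodule.smul_mem_smul hx Submodule.mem_top

lemma koszul_iter : ∀ (rs : List B) (M : Type u) [AddCommGroup M] [Module B M] (c n : ℤ),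
    n = c + (rs.length : ℤ) → RingTheory.Sequence.IsWeaklyRegular M rs →
    (∀ r ∈ rs, r ∈ IsLocalRing.maximalIdeal B) →
    (∀ j : ℤ, c < j → Subsingleton (Dual.inD B M ⟶ X⟦j⟧)) →
    (∀ j : ℤ, n < j →
      Subsingleton (Dual.inD B (M ⧸ Ideal.ofList rs • (⊤ : Submodule B M)) ⟶ X⟦j⟧)) ∧
    ∃ π : (Dual.inD B M ⟶ X⟦c⟧) →ₗ[B]
        (Dual.inD B (M ⧸ Ideal.ofList rs • (⊤ : Submodule B M)) ⟶ X⟦n⟧),
      Function.Surjective π ∧
        LinearMap.ker π ≤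
          IsLocalRing.maximalIdeal B • (⊤ : Submodule B (Dual.inD B M ⟶ X⟦c⟧)) := by
  intro rs
  induction rs with
  | nil =>
    intro M _ _ c n hn _ _ hvan
    have hn' : n = c := by simpa using hn
    subst hn'
    have hbot : (Ideal.ofList ([] : List B) • (⊤ : Submodule B M)) = ⊥ := by
      rw [Ideal.ofList_nil, Submodule.bot_smul]
    let e : (M ⧸ Ideal.ofList ([] : List B) • (⊤ : Submodule B M)) ≃ₗ[B] M :=
      Submodule.quotEquivOfEqBot _ hbot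
    refine ⟨fun j hj => subsingleton_hom_of_linearEquiv e.symm _ (hvan j hj), ?_⟩
    let τ : (Dual.inD B M ⟶ X⟦n⟧) ≃ₗ[B]
        (Dual.inD B (M ⧸ Ideal.ofList ([] : List B) • (⊤ : Submodule B M)) ⟶ X⟦n⟧) :=
      Linear.homCongr B (inDIsoOfLinearEquiv e.symm) (Iso.refl _)
    refine ⟨τ.toLinearMap, τ.surjective, ?_⟩
    intro ξ hξ
    have h0 : ξ = 0 := τ.map_eq_zero_iff.1 (LinearMap.mem_ker.1 hξ)
    rw [h0]
    exact Submodule.zero_mem _
  | cons x rs ih =>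
    intro M _ _ c n hn hreg hmem hvan
    rw [RingTheory.Sequence.isWeaklyRegular_cons_iff] at hreg
    have hx : x ∈ IsLocalRing.maximalIdeal B := hmem x List.mem_cons_self
    obtain ⟨hv1, π₁, hs1, hk1⟩ := koszul_step X x hx hreg.1 c (c + 1) rfl hvan
    obtain ⟨hv2, π₂, hs2, hk2⟩ := ih (QuotSMulTop x M) (c + 1) n
      (by rw [hn, List.length_cons]; push_cast; ring) hreg.2
      (fun r hr => hmem r (List.mem_cons_of_mem _ hr)) hv1
    let e := Submodule.quotOfListConsSMulTopEquivQuotSMulTopInner M x rs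
    refine ⟨fun j hj => subsingleton_hom_of_linearEquiv e.symm _ (hv2 j hj), ?_⟩
    let τ : (Dual.inD B (QuotSMulTop x M ⧸
          Ideal.ofList rs • (⊤ : Submodule B (QuotSMulTop x M))) ⟶ X⟦n⟧) ≃ₗ[B]
        (Dual.inD B (M ⧸ Ideal.ofList (x :: rs) • (⊤ : Submodule B M)) ⟶ X⟦n⟧) :=
      Linear.homCongr B (inDIsoOfLinearEquiv e.symm) (Iso.refl _)
    refine ⟨τ.toLinearMap.comp (π₂.comp π₁), ?_, ?_⟩
    · exact τ.surjective.comp (hs2.comp hs1)
    · intro ξ hξ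
      apply ker_comp_le_smul_top _ π₁ π₂ hs1 hk1 hk2
      rw [LinearMap.mem_ker] at hξ ⊢
      exact τ.map_eq_zero_iff.1 hξ

end Koszul

section SingleCoh

variable {A : Type u} [CommRing A]

/-- a complex with cohomology only in degree `n` is a shift of a module -/
lemma nonempty_iso_inD_shift_of_HD_single (K : Dual.D A) (n m : ℤ) (hnm : m + n = 0)
    (h : ∀ i : ℤ, i ≠ n → Subsingleton (Dual.HD A K i))
    (N : Type u) [AddCommGroup N] [Module A N] (e : Dual.HD A K n ≃ₗ[A] N) :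
    Nonempty (K ≅ (Dual.inD A N)⟦m⟧) := by
  haveI : K.IsGE n := by
    rw [DerivedCategory.isGE_iff]
    intro i hi
    haveI := h i (by omega)
    exact ModuleCat.isZero_of_subsingleton _
  haveI : K.IsLE n := by
    rw [DerivedCategory.isLE_iff]
    intro i hi
    haveI := h i (by omega)
    exact ModuleCat.isZero_of_subsingleton _
  obtain ⟨Y, ⟨eY⟩⟩ := DerivedCategory.exists_iso_singleFunctor_obj_of_isGE_of_isLE K n
  have e1 : (homologyFunctor (ModuleCat.{u} A) n).obj K ≅ Y :=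
    (homologyFunctor (ModuleCat.{u} A) n).mapIso eY ≪≫
      (DerivedCategory.singleFunctorCompHomologyFunctorIso (ModuleCat.{u} A) n).app Y
  have e2 : Y ≅ ModuleCat.of A N := e1.symm ≪≫ e.toModuleIso
  have e3 : (DerivedCategory.singleFunctor (ModuleCat.{u} A) n).obj Y ≅
      (DerivedCategory.singleFunctor (ModuleCat.{u} A) n).obj (ModuleCat.of A N) :=
    (DerivedCategory.singleFunctor (ModuleCat.{u} A) n).mapIso e2
  have e4 : (Dual.inD A N)⟦m⟧ ≅
      (DerivedCategory.singleFunctor (ModuleCat.{u} A) n).obj (ModuleCat.of A N) :=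
    ((DerivedCategory.singleFunctors (ModuleCat.{u} A)).shiftIso m n 0 hnm).app (ModuleCat.of A N)
  exact ⟨eY ≪≫ e3 ≪≫ e4.symm⟩

end SingleCoh

section Main

variable {B : Type u} [CommRing B] [IsLocalRing B] [IsNoetherianRing B]

omit [IsLocalRing B] [IsNoetherianRing B] in
lemma withBot_enat_le_zero_of_add_eq (x : WithBot ℕ∞) (d : ℕ)
    (h : x + (d : WithBot ℕ∞) = (d : WithBot ℕ∞)) : x ≤ 0 := by
  induction x with
  | bot => exact bot_le
  | coe y =>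
    induction y with
    | top =>
      exfalso
      have h' : ((⊤ : ℕ∞) : WithBot ℕ∞) + ((d : ℕ∞) : WithBot ℕ∞) = ((d : ℕ∞) : WithBot ℕ∞) := h
      rw [← WithBot.coe_add, top_add, WithBot.coe_inj] at h'
      exact ENat.top_ne_coe d h'
    | coe k =>
      norm_cast at h ⊢
      omega

lemma isFiniteLength_quot_ofList (rs : List B) (hreg : RingTheory.Sequence.IsWeaklyRegular B rs)
    (hmem : ∀ r ∈ rs, r ∈ IsLocalRing.maximalIdeal B)
    (hdim : ringKrullDim B = (rs.length : WithBot ℕ∞)) :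
    IsFiniteLength B (B ⧸ Ideal.ofList rs • (⊤ : Submodule B B)) := by
  have hI : Ideal.ofList rs ≤ IsLocalRing.maximalIdeal B :=
    Ideal.span_le.2 (fun r hr => hmem r hr)
  have htop : (⊤ : Submodule B B) ≠ Ideal.ofList rs • ⊤ :=
    Submodule.top_ne_ideal_smul_of_le_jacobson_annihilator
      (hI.trans (IsLocalRing.maximalIdeal_le_jacobson _))
  have hR : RingTheory.Sequence.IsRegular B rs := ⟨hreg, htop⟩
  have h1 := ringKrullDim_add_length_eq_ringKrullDim_of_isRegular rs hR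
  rw [hdim] at h1
  have h2 : ringKrullDim (B ⧸ Ideal.ofList rs) ≤ 0 := withBot_enat_le_zero_of_add_eq _ _ h1
  haveI : Ring.KrullDimLE 0 (B ⧸ Ideal.ofList rs) := Ring.krullDimLE_iff.2 (by exact_mod_cast h2)
  haveI : IsArtinianRing (B ⧸ Ideal.ofList rs) :=
    isArtinianRing_iff_krullDimLE_zero.2 inferInstance
  have h3 : IsFiniteLength B (B ⧸ Ideal.ofList rs) := by
    rw [← Module.length_ne_top_iff,
      Module.length_eq_of_surjective (S := B) (R := B ⧸ Ideal.ofList rs)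
        (M := B ⧸ Ideal.ofList rs) Ideal.Quotient.mk_surjective]
    exact Module.length_ne_top
  have heq : (Ideal.ofList rs • (⊤ : Submodule B B)) = Ideal.ofList rs := by
    simp
  exact (Submodule.quotEquivOfEq _ _ heq.symm).isFiniteLength h3

omit [IsLocalRing B] [IsNoetherianRing B] in
/-- a faithful "cyclic" module-in-a-shift is free of rank one -/
lemma nonempty_linearEquiv_of_cyclic_hom (N : Type u) [AddCommGroup N] [Module B N]
    (ω₁ : Dual.D B) (d : ℤ) (ι : ω₁ ≅ (Dual.inD B N)⟦d⟧)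
    (hfaith : Function.Injective (fun a : B => a • 𝟙 ω₁))
    (k₁ : Dual.inD B B ⟶ ω₁⟦-d⟧)
    (hcyc : (⊤ : Submodule B (Dual.inD B B ⟶ ω₁⟦-d⟧)) ≤ Submodule.span B {k₁}) :
    Nonempty (B ≃ₗ[B] N) := by
  let τ₁ : (Dual.inD B B ⟶ ω₁⟦-d⟧) ≃ₗ[B] (Dual.inD B B ⟶ Dual.inD B N) :=
    Linear.homCongr B (Iso.refl (Dual.inD B B))
      ((shiftFunctor (Dual.D B) (-d)).mapIso ι ≪≫ shiftShiftIso (Dual.inD B N) d (-d) 0 (by omega) ≪≫
        (shiftFunctorZero (Dual.D B) ℤ).app _)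
  let τ₂ : (Dual.inD B B ⟶ Dual.inD B N) ≃ₗ[B] (ModuleCat.of B B ⟶ ModuleCat.of B N) :=
    (homSingleEquiv (ModuleCat.of B B) (ModuleCat.of B N)).symm
  let τ₃ : (ModuleCat.of B B ⟶ ModuleCat.of B N) ≃ₗ[B] (B →ₗ[B] N) :=
    ModuleCat.homLinearEquiv (M := ModuleCat.of B B) (N := ModuleCat.of B N) (S := B)
  let τ₄ : (B →ₗ[B] N) ≃ₗ[B] N := LinearMap.ringLmapEquivSelf B B N
  let τ : (Dual.inD B B ⟶ ω₁⟦-d⟧) ≃ₗ[B] N := τ₁.trans (τ₂.trans (τ₃.trans τ₄))
  have hgen : ∀ y : N, ∃ a : B, y = a • τ k₁ := by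
    intro y
    have h1 : τ.symm y ∈ Submodule.span B {k₁} := hcyc Submodule.mem_top
    obtain ⟨a, ha⟩ := Submodule.mem_span_singleton.1 h1
    refine ⟨a, ?_⟩
    rw [← map_smul, ha, LinearEquiv.apply_symm_apply]
  have hfaith' : ∀ a : B, a • τ k₁ = 0 → a = 0 := by
    intro a ha
    have h1 : ∀ y : N, a • y = 0 := by
      intro y
      obtain ⟨b, rfl⟩ := hgen y
      rw [smul_comm, ha, smul_zero]
    have h2 : a • 𝟙 (ModuleCat.of B N) = 0 := by
      ext y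
      exact h1 y
    have h3 : a • 𝟙 (Dual.inD B N) = 0 := by
      have := congrArg (DerivedCategory.singleFunctor (ModuleCat.{u} B) 0).map h2
      rwa [Functor.map_smul, CategoryTheory.Functor.map_id, Functor.map_zero] at this
    have h4 : a • 𝟙 ((Dual.inD B N)⟦d⟧) = 0 := by
      have := congrArg (shiftFunctor (Dual.D B) d).map h3
      rwa [Functor.map_smul, CategoryTheory.Functor.map_id, Functor.map_zero] at this
    have h5 : a • 𝟙 ω₁ = 0 := by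
      rw [← cancel_mono ι.hom, zero_comp, Linear.smul_comp, Category.id_comp]
      have : ι.hom ≫ (a • 𝟙 ((Dual.inD B N)⟦d⟧)) = 0 := by rw [h4, comp_zero]
      rwa [Linear.comp_smul, Category.comp_id] at this
    have h6 : (fun a : B => a • 𝟙 ω₁) a = (fun a : B => a • 𝟙 ω₁) 0 := by
      show a • 𝟙 ω₁ = (0 : B) • 𝟙 ω₁
      rw [h5, zero_smul]
    exact hfaith h6
  refine ⟨LinearEquiv.ofBijective (LinearMap.toSpanSingleton B N (τ k₁)) ⟨?_, ?_⟩⟩
  · rw [injective_iff_map_eq_zero]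
    intro a ha
    exact hfaith' a (by simpa [LinearMap.toSpanSingleton_apply] using ha)
  · intro y
    obtain ⟨a, rfl⟩ := hgen y
    exact ⟨a, by simp [LinearMap.toSpanSingleton_apply]⟩

lemma nonempty_iso_of_isNormalized (hG : Dual.IsDualizing B (Dual.inD B B)) (n₂ : ℤ)
    (hn₂ : Dual.IsNormalized B ((Dual.inD B B)⟦n₂⟧)) (ω₁ : Dual.D B)
    (hω₁ : Dual.IsDualizing B ω₁) (hn₁ : Dual.IsNormalized B ω₁) :
    Nonempty (ω₁ ≅ (Dual.inD B B)⟦n₂⟧) := by
  have hω₂ : Dual.IsDualizing B ((Dual.inD B B)⟦n₂⟧) := isDualizing_shift _ hG n₂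
  obtain ⟨d₁, hD₁⟩ := exists_extDepth ω₁ hω₁ hn₁ B
  obtain ⟨d, hD₂⟩ := exists_extDepth _ hω₂ hn₂ B
  have hd : d = d₁ := by
    have h1 := depth_eq_of_extDepth ω₁ hω₁ hn₁ B d₁ hD₁
    have h2 := depth_eq_of_extDepth _ hω₂ hn₂ B d hD₂
    rw [h1] at h2
    exact_mod_cast h2.symm
  subst hd
  have hnd : n₂ = (d : ℤ) := by
    by_contra hne
    have hs : Subsingleton (Dual.inD B B ⟶ (Dual.inD B B)⟦n₂ - (d : ℤ)⟧) :=
      hG.ext_self_subsingleton _ (by omega)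
    have h2 := (subsingleton_hom_iso_right (X := Dual.inD B B)
      (shiftShiftIso (Dual.inD B B) n₂ (-(d : ℤ)) (n₂ - d) (by ring))).2 hs
    haveI := hD₂.2
    exact not_subsingleton _ h2
  subst hnd
  have hCM : LocCoh.IsCohenMacaulayLocalRing B := by
    refine (isCohenMacaulayLocalRing_iff_HD_single _ hω₂).2 ⟨-(d : ℤ), fun i hi => ?_⟩
    have e : (homologyFunctor (ModuleCat.{u} B) i).obj ((Dual.inD B B)⟦(d : ℤ)⟧) ≅
        (homologyFunctor (ModuleCat.{u} B) ((d : ℤ) + i)).obj (Dual.inD B B) :=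
      ((homologyFunctor (ModuleCat.{u} B) 0).shiftIso (d : ℤ) i ((d : ℤ) + i) rfl).app _
    exact ModuleCat.subsingleton_of_isZero
      (IsZero.of_iso (isZero_HD_inD (ModuleCat.of B B) _ (by omega)) e)
  have hdim : ringKrullDim B = (d : WithBot ℕ∞) := by
    have h1 := hCM.supportDim_eq_depth
    have h2 := depth_eq_of_extDepth _ hω₂ hn₂ B d hD₂
    rw [Module.supportDim_self_eq_ringKrullDim] at h1
    rw [h1]
    exact congrArg (fun z : ℕ∞ => (z : WithBot ℕ∞)) h2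
  obtain ⟨rs, hreg, hmem, hlen⟩ := exists_regular_of_extDepth _ hω₂ hn₂ d B hD₂
  have hfl : IsFiniteLength B (B ⧸ Ideal.ofList rs • (⊤ : Submodule B B)) :=
    isFiniteLength_quot_ofList rs hreg hmem (by rw [hdim, hlen])
  obtain ⟨E, _, _, f, hf⟩ := Groth.Agent.Lib.InjHull6_helper3.exists_injective_hull (R := B)
    (IsLocalRing.ResidueField B)
  obtain ⟨-, π₂, hs2, -⟩ := koszul_iter ((Dual.inD B B)⟦(d : ℤ)⟧) rs B (-(d : ℤ)) 0
    (by omega) hreg hmem hD₂.1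
  obtain ⟨-, π₁, hs1, hk1⟩ := koszul_iter ω₁ rs B (-(d : ℤ)) 0 (by omega) hreg hmem hD₁.1
  obtain ⟨Φ₁⟩ := nonempty_hom_zero_linearEquiv_of_isFiniteLength ω₁ hω₁ hn₁ E f hf _ hfl
  obtain ⟨Φ₂⟩ := nonempty_hom_zero_linearEquiv_of_isFiniteLength _ hω₂ hn₂ E f hf _ hfl
  let Φ := Φ₂.trans Φ₁.symm
  let e₀ : ((Dual.inD B B)⟦(d : ℤ)⟧)⟦-(d : ℤ)⟧ ≅ Dual.inD B B :=
    shiftShiftIso (Dual.inD B B) d (-(d : ℤ)) 0 (by omega) ≪≫
      (shiftFunctorZero (Dual.D B) ℤ).app _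
  have hgen₂ : ∀ ξ : Dual.inD B B ⟶ ((Dual.inD B B)⟦(d : ℤ)⟧)⟦-(d : ℤ)⟧,
      ∃ a : B, ξ = a • e₀.inv := by
    intro ξ
    obtain ⟨a, ha⟩ := hG.toEnd_bijective.2 (ξ ≫ e₀.hom)
    refine ⟨a, ?_⟩
    have ha' : a • 𝟙 (Dual.inD B B) = ξ ≫ e₀.hom := ha
    rw [← cancel_mono e₀.hom, Linear.smul_comp, e₀.inv_hom_id, ha']
  have hgenW : ∀ w : Dual.inD B (B ⧸ Ideal.ofList rs • (⊤ : Submodule B B)) ⟶ ω₁⟦(0 : ℤ)⟧,
      ∃ a : B, w = a • Φ (π₂ e₀.inv) := by
    intro w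
    obtain ⟨ξ, hξ⟩ := hs2 (Φ.symm w)
    obtain ⟨a, rfl⟩ := hgen₂ ξ
    refine ⟨a, ?_⟩
    rw [← map_smul, ← map_smul, hξ, LinearEquiv.apply_symm_apply]
  obtain ⟨k₁, hk₁⟩ := hs1 (Φ (π₂ e₀.inv))
  haveI : Module.Finite B (Dual.inD B B ⟶ ω₁⟦-(d : ℤ)⟧) :=
    hom_finite_of_finiteInjDim (Dual.inD B B) ω₁ (finite_HD_inD B) hω₁.finite_cohomology
      (hasFiniteInjDim_of_isDualizing ω₁ hω₁) _
  have hcyc : (⊤ : Submodule B (Dual.inD B B ⟶ ω₁⟦-(d : ℤ)⟧)) ≤ Submodule.span B {k₁} := by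
    refine Submodule.le_of_le_smul_of_le_jacobson_bot Module.Finite.fg_top
      (IsLocalRing.maximalIdeal_le_jacobson ⊥) ?_
    intro ξ _
    obtain ⟨a, ha⟩ := hgenW (π₁ ξ)
    have hker : ξ - a • k₁ ∈ LinearMap.ker π₁ := by
      rw [LinearMap.mem_ker, map_sub, map_smul, hk₁, ha, sub_self]
    have h1 := hk1 hker
    have h2 : a • k₁ ∈ Submodule.span B {k₁} :=
      Submodule.smul_mem _ _ (Submodule.mem_span_singleton_self k₁)
    have h3 := Submodule.add_mem_sup h2 h1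
    rwa [add_sub_cancel] at h3
  obtain ⟨n, hn⟩ := (isCohenMacaulayLocalRing_iff_HD_single ω₁ hω₁).1 hCM
  have hnd : n = -(d : ℤ) := by
    by_contra hne
    have h1 : Subsingleton (Dual.HD B ω₁ (-(d : ℤ))) := hn _ (fun h => hne h.symm)
    have h2 := (subsingleton_hom_inD_self_iff ω₁ (-(d : ℤ))).2 h1
    haveI := hD₁.2
    exact not_subsingleton _ h2
  subst hnd
  obtain ⟨ι⟩ := nonempty_iso_inD_shift_of_HD_single ω₁ (-(d : ℤ)) d (by omega) hn
    (Dual.HD B ω₁ (-(d : ℤ))) (LinearEquiv.refl _ _)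
  have hk₁' : (⊤ : Submodule B (Dual.inD B B ⟶ ω₁⟦-(d : ℤ)⟧)) ≤ Submodule.span B {k₁} := hcyc
  obtain ⟨eN⟩ := nonempty_linearEquiv_of_cyclic_hom (Dual.HD B ω₁ (-(d : ℤ))) ω₁ d ι
    hω₁.toEnd_bijective.1 k₁ hk₁'
  exact ⟨ι ≪≫ (shiftFunctor (Dual.D B) (d : ℤ)).mapIso (inDIsoOfLinearEquiv eN).symm⟩

/-- **Over a noetherian local ring `B` with `B[0]` dualizing (i.e. `B` Gorenstein), every dualizing
complex is a shift of `B[0]`.** -/
theorem exists_iso_shift_of_isDualizing_inD_self (hG : Dual.IsDualizing B (Dual.inD B B))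
    (ω : Dual.D B) (hω : Dual.IsDualizing B ω) :
    ∃ n : ℤ, Nonempty (ω ≅ (Dual.inD B B)⟦n⟧) := by
  obtain ⟨n₁, hn₁⟩ := exists_isNormalized_shift ω hω
  obtain ⟨n₂, hn₂⟩ := exists_isNormalized_shift (Dual.inD B B) hG
  obtain ⟨ι⟩ := nonempty_iso_of_isNormalized hG n₂ hn₂ (ω⟦n₁⟧) (isDualizing_shift ω hω n₁) hn₁
  refine ⟨n₂ - n₁, ⟨?_⟩⟩
  exact ((shiftFunctorZero (Dual.D B) ℤ).app ω).symm ≪≫
    (shiftShiftIso ω n₁ (-n₁) 0 (by omega)).symm ≪≫
    (shiftFunctor (Dual.D B) (-n₁)).mapIso ι ≪≫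
    shiftShiftIso (Dual.inD B B) n₂ (-n₁) (n₂ - n₁) (by ring)

end Main

end Groth.Agent.Lib.DMod_helper6
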