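import Mathlib
import Groth.Prelude.Def_DRing2
import Groth.Prelude.Def_DDual2
import Groth.Prelude.Def_Wider
import Groth.Prelude.Def_CAlg
import Groth.Agent.Lib.DMod115_helper6
import Groth.Agent.S11179

/-!
# Derived category toolkit (helper6), part 116: the Gorenstein locus of a noetherian ring with a
dualizing complex is open (S0373).
-/

set_option autoImplicit false
universe u
open CategoryTheory CategoryTheory.Limits DerivedCategory Pretriangulated ZeroObject
open scoped Pointwise
attribute [local instance] HasDerivedCategory.standard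

namespace Groth.Agent.Lib.DMod_helper6

open DRing

section RankOne

variable {A : Type u} [CommRing A] [IsNoetherianRing A]

/-- the locus where a finite module is locally free of rank one is open -/
lemma isOpen_rankOne (M : Type u) [AddCommGroup M] [Module A M] [Module.Finite A M] :
    IsOpen {q : PrimeSpectrum A | Nonempty (LocalizedModule q.asIdeal.primeCompl M
      ≃ₗ[Localization.AtPrime q.asIdeal] Localization.AtPrime q.asIdeal)} := by
  haveI : Module.FinitePresentation A M := Module.finitePresentation_of_finite A M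
  have h1 : IsOpen (Module.freeLocus A M) := Module.isOpen_freeLocus
  have h2 := Module.isLocallyConstant_rankAtStalk_freeLocus (R := A) (M := M)
  have h3 : IsOpen {x : Module.freeLocus A M | Module.rankAtStalk M x.1 = 1} := h2.isOpen_fiber 1
  have h4 := h1.isOpenMap_subtype_val _ h3
  convert h4 using 1
  ext q
  simp only [Set.mem_setOf_eq, Set.mem_image, Subtype.exists, exists_and_right, exists_eq_right]
  constructor
  · rintro ⟨e⟩
    have hfree : Module.Free (Localization.AtPrime q.asIdeal)
        (LocalizedModule q.asIdeal.primeCompl M) := Module.Free.of_equiv e.symm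
    refine ⟨hfree, ?_⟩
    show Module.finrank _ _ = 1
    rw [LinearEquiv.finrank_eq e, Module.finrank_self]
  · rintro ⟨hfree, hr⟩
    haveI : Module.Free (Localization.AtPrime q.asIdeal)
        (LocalizedModule q.asIdeal.primeCompl M) := hfree
    obtain ⟨e⟩ := Module.nonempty_linearEquiv_of_finrank_eq_one hr
    exact ⟨e.symm⟩

end RankOne

section Global

variable {A : Type u} [CommRing A] [IsNoetherianRing A] (ω : Dual.D A)

theorem isGorensteinLocalRing_of_gorCond (hω : Dual.IsDualizing A ω) (q : PrimeSpectrum A) (n : ℤ)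
    (h1 : ∀ i : ℤ, i ≠ n → q ∉ Module.support A (Dual.HD A ω i))
    (h2 : Nonempty (LocalizedModule q.asIdeal.primeCompl (Dual.HD A ω n)
      ≃ₗ[Localization.AtPrime q.asIdeal] Localization.AtPrime q.asIdeal)) :
    LocCoh.IsGorensteinLocalRing (Localization.AtPrime q.asIdeal) := by
  haveI := isNoetherianRing_atPrime q.asIdeal
  have hK := isDualizing_locD ω q.asIdeal hω
  obtain ⟨e2⟩ := h2
  obtain ⟨e1⟩ := nonempty_HD_locD_linearEquiv q.asIdeal ω n
  have hsub : ∀ i : ℤ, i ≠ n →
      Subsingleton (Dual.HD (Localization.AtPrime q.asIdeal) (locD ω q.asIdeal) i) := by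
    intro i hi
    have h := h1 i hi
    rw [Module.mem_support_iff, ← nontrivial_HD_locD_iff q.asIdeal ω i,
      not_nontrivial_iff_subsingleton] at h
    exact h
  obtain ⟨ι⟩ := nonempty_iso_inD_shift_of_HD_single (locD ω q.asIdeal) n (-n) (by omega) hsub
    (Localization.AtPrime q.asIdeal) (e1.trans e2)
  have h3 : Dual.IsDualizing (Localization.AtPrime q.asIdeal)
      ((Dual.inD (Localization.AtPrime q.asIdeal) (Localization.AtPrime q.asIdeal))⟦-n⟧) :=
    isDualizing_of_iso ι hK
  have h4 := isDualizing_shift _ h3 n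
  have e4 : (((Dual.inD (Localization.AtPrime q.asIdeal)
      (Localization.AtPrime q.asIdeal))⟦-n⟧)⟦n⟧) ≅
      Dual.inD (Localization.AtPrime q.asIdeal) (Localization.AtPrime q.asIdeal) :=
    shiftShiftIso _ (-n) n 0 (by omega) ≪≫
      (shiftFunctorZero (Dual.D (Localization.AtPrime q.asIdeal)) ℤ).app _
  exact (Groth.Agent.S11179.result _).2 (isDualizing_of_iso e4 h4)

theorem exists_gorCond_of_isGorensteinLocalRing (hω : Dual.IsDualizing A ω) (q : PrimeSpectrum A)
    (hG : LocCoh.IsGorensteinLocalRing (Localization.AtPrime q.asIdeal)) :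
    ∃ n : ℤ, (∀ i : ℤ, i ≠ n → q ∉ Module.support A (Dual.HD A ω i)) ∧
      Nonempty (LocalizedModule q.asIdeal.primeCompl (Dual.HD A ω n)
        ≃ₗ[Localization.AtPrime q.asIdeal] Localization.AtPrime q.asIdeal) := by
  haveI := isNoetherianRing_atPrime q.asIdeal
  have hK := isDualizing_locD ω q.asIdeal hω
  have hB := (Groth.Agent.S11179.result (Localization.AtPrime q.asIdeal)).1 hG
  obtain ⟨m, ⟨ι⟩⟩ := exists_iso_shift_of_isDualizing_inD_self hB (locD ω q.asIdeal) hK
  refine ⟨-m, fun i hi => ?_, ?_⟩
  · rw [Module.mem_support_iff, ← nontrivial_HD_locD_iff q.asIdeal ω i,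
      not_nontrivial_iff_subsingleton]
    have e : (homologyFunctor (ModuleCat.{u} (Localization.AtPrime q.asIdeal)) i).obj
        (locD ω q.asIdeal) ≅
        (homologyFunctor (ModuleCat.{u} (Localization.AtPrime q.asIdeal)) (m + i)).obj
          (Dual.inD (Localization.AtPrime q.asIdeal) (Localization.AtPrime q.asIdeal)) :=
      (homologyFunctor (ModuleCat.{u} (Localization.AtPrime q.asIdeal)) i).mapIso ι ≪≫
        ((homologyFunctor (ModuleCat.{u} (Localization.AtPrime q.asIdeal)) 0).shiftIso m i (m + i)
          rfl).app _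
    exact ModuleCat.subsingleton_of_isZero
      (IsZero.of_iso (isZero_HD_inD (ModuleCat.of (Localization.AtPrime q.asIdeal)
        (Localization.AtPrime q.asIdeal)) _ (by omega)) e)
  · obtain ⟨e1⟩ := nonempty_HD_locD_linearEquiv q.asIdeal ω (-m)
    have e : (homologyFunctor (ModuleCat.{u} (Localization.AtPrime q.asIdeal)) (-m)).obj
        (locD ω q.asIdeal) ≅
        ModuleCat.of (Localization.AtPrime q.asIdeal) (Localization.AtPrime q.asIdeal) :=
      (homologyFunctor (ModuleCat.{u} (Localization.AtPrime q.asIdeal)) (-m)).mapIso ι ≪≫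
        ((homologyFunctor (ModuleCat.{u} (Localization.AtPrime q.asIdeal)) 0).shiftIso m (-m) 0
          (by omega)).app _ ≪≫
        HDinDIso (ModuleCat.of (Localization.AtPrime q.asIdeal) (Localization.AtPrime q.asIdeal))
    exact ⟨e1.symm.trans e.toLinearEquiv⟩

/-- S0373. -/
theorem isOpen_gorenstein_locus (hω : Dual.IsDualizing A ω) :
    IsOpen {p : PrimeSpectrum A |
      LocCoh.IsGorensteinLocalRing (Localization.AtPrime p.asIdeal)} := by
  obtain ⟨a, b, hab⟩ := hω.finite_injective_dimension
  have hS : ∀ i, IsClosed (Module.support A (Dual.HD A ω i)) := fun i => by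
    haveI := hω.finite_cohomology i
    exact Module.isClosed_support
  have hE : ∀ i, (i < a ∨ b < i) → Module.support A (Dual.HD A ω i) = ∅ := fun i hi => by
    haveI : Subsingleton (Dual.HD A ω i) := (subsingleton_hom_inD_self_iff ω i).1 (hab A i hi)
    exact Module.support_eq_empty
  have hset : {p : PrimeSpectrum A |
      LocCoh.IsGorensteinLocalRing (Localization.AtPrime p.asIdeal)} =
      ⋃ n : ℤ, ((⋂ i ∈ (Finset.Icc a b).filter (fun i => i ≠ n),
        (Module.support A (Dual.HD A ω i))ᶜ) ∩
        {q : PrimeSpectrum A | Nonempty (LocalizedModule q.asIdeal.primeCompl (Dual.HD A ω n)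
          ≃ₗ[Localization.AtPrime q.asIdeal] Localization.AtPrime q.asIdeal)}) := by
    ext p
    simp only [Set.mem_setOf_eq, Set.mem_iUnion, Set.mem_inter_iff, Set.mem_iInter,
      Set.mem_compl_iff, Finset.mem_filter, Finset.mem_Icc]
    constructor
    · intro hG
      obtain ⟨n, h1, h2⟩ := exists_gorCond_of_isGorensteinLocalRing ω hω p hG
      exact ⟨n, fun i hi => h1 i hi.2, h2⟩
    · rintro ⟨n, h1, h2⟩
      refine isGorensteinLocalRing_of_gorCond ω hω p n (fun i hi => ?_) h2
      by_cases hr : a ≤ i ∧ i ≤ b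
      · exact h1 i ⟨hr, hi⟩
      · rw [hE i (by omega)]
        exact Set.notMem_empty p
  rw [hset]
  refine isOpen_iUnion (fun n => IsOpen.inter
    (isOpen_biInter_finset (fun i _ => (hS i).isOpen_compl)) ?_)
  haveI := hω.finite_cohomology n
  exact isOpen_rankOne (Dual.HD A ω n)

end Global

end Groth.Agent.Lib.DMod_helper6
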