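import Mathlib
import Groth.Prelude.Def_DualSch
import Groth.Agent.Lib.DMod116_helper6

/-!
# Scheme-level consequences of ring-level dualizing complex results (helper6)
-/

set_option autoImplicit false
universe u
open CategoryTheory CategoryTheory.Limits AlgebraicGeometry

namespace Groth.Agent.Lib.SchDual_helper6

open Groth.Agent.Lib.DMod_helper6

/-- the stalk of `X` at a point of an affine chart is the localization. -/
noncomputable def stalkEquiv {A : Type u} [CommRing A] {X : Scheme.{u}}
    (j : Spec (CommRingCat.of A) ⟶ X) [IsOpenImmersion j] (p : PrimeSpectrum A) :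
    X.presheaf.stalk (j.base p) ≃+* Localization.AtPrime p.asIdeal :=
  ((asIso (j.stalkMap p))).commRingCatIsoToRingEquiv.trans
    (StructureSheaf.stalkIso A p).symm.toRingEquiv

lemma isNoetherianRing_of_chart {A : Type u} [CommRing A] {X : Scheme.{u}} [IsLocallyNoetherian X]
    (j : Spec (CommRingCat.of A) ⟶ X) [IsOpenImmersion j] : IsNoetherianRing A := by
  haveI := isLocallyNoetherian_of_isOpenImmersion j
  exact (isLocallyNoetherian_Spec (R := CommRingCat.of A)).1 inferInstance

section InjDim
variable {R S : Type u} [CommRing R] [CommRing S] (e : R ≃+* S)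

lemma hasInjDimLT_restrictScalars_aux (n : ℕ) :
    (∀ (X : ModuleCat.{u} S), HasInjectiveDimensionLT X n →
      HasInjectiveDimensionLT ((ModuleCat.restrictScalars e.toRingHom).obj X) n) ∧
    (∀ (X : ModuleCat.{u} S), HasInjectiveDimensionLT X (n + 1) →
      HasInjectiveDimensionLT ((ModuleCat.restrictScalars e.toRingHom).obj X) (n + 1)) := by
  induction n with
  | zero =>
    refine ⟨fun X hX => ?_, fun X hX => ?_⟩
    · exact ((ModuleCat.restrictScalars e.toRingHom).map_isZero
        (isZero_of_hasInjectiveDimensionLT_zero X)).hasInjectiveDimensionLT_zero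
    · haveI : Injective X := injective_iff_hasInjectiveDimensionLT_one.2 hX
      haveI : Injective ((ModuleCat.restrictScalars e.toRingHom).obj X) :=
        ((ModuleCat.restrictScalarsEquivalenceOfRingEquiv e).map_injective_iff X).2 inferInstance
      exact injective_iff_hasInjectiveDimensionLT_one.1 inferInstance
  | succ n ih =>
    refine ⟨ih.2, fun X hX => ?_⟩
    let S' : ShortComplex (ModuleCat.{u} S) :=
      ShortComplex.mk (Injective.ι X) (cokernel.π (Injective.ι X)) (cokernel.condition _)
    have hS : S'.ShortExact :=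
      { exact := ShortComplex.exact_cokernel _
        mono_f := inferInstanceAs (Mono (Injective.ι X))
        epi_g := inferInstanceAs (Epi (cokernel.π (Injective.ι X))) }
    have hQ : HasInjectiveDimensionLT S'.X₃ (n + 1) :=
      (hS.hasInjectiveDimensionLT_X₃_iff n
        (inferInstanceAs (Injective (Injective.under X)))).2 hX
    have hQ' := ih.2 _ hQ
    have hS' : (S'.map (ModuleCat.restrictScalars e.toRingHom)).ShortExact :=
      hS.map_of_exact _
    have hinj : Injective ((ModuleCat.restrictScalars e.toRingHom).obj (Injective.under X)) :=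
      ((ModuleCat.restrictScalarsEquivalenceOfRingEquiv e).map_injective_iff _).2 inferInstance
    exact (hS'.hasInjectiveDimensionLT_X₃_iff n hinj).1 hQ'

include e in
lemma isGorensteinLocalRing_of_ringEquiv [h : LocCoh.IsGorensteinLocalRing S] :
    LocCoh.IsGorensteinLocalRing R := by
  haveI : IsNoetherianRing R := isNoetherianRing_of_ringEquiv S e.symm
  haveI : IsLocalRing R := e.symm.isLocalRing
  obtain ⟨n, hn⟩ := h.exists_hasInjectiveDimensionLT
  haveI := (hasInjDimLT_restrictScalars_aux e n).1 _ hn
  exact { exists_hasInjectiveDimensionLT :=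
    ⟨n, hasInjectiveDimensionLT_of_iso (ModuleCat.restrictScalarsIsoOfEquiv e) n⟩ }

end InjDim

/-- a property of local rings, invariant under ring isomorphisms, which is open on every affine
chart, is open on the scheme. -/
theorem isOpen_setOf_stalk {X : Scheme.{u}}
    (P : ∀ (R : Type u) [CommRing R], Prop)
    (hP : ∀ {R S : Type u} [CommRing R] [CommRing S], (R ≃+* S) → P S → P R)
    (hopen : ∀ (A : Type u) [CommRing A] (j : Spec (CommRingCat.of A) ⟶ X) [IsOpenImmersion j],
      IsOpen {p : PrimeSpectrum A | P (Localization.AtPrime p.asIdeal)}) :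
    IsOpen {x : X | P (X.presheaf.stalk x)} := by
  rw [isOpen_iff_forall_mem_open]
  intro x hx
  obtain ⟨U, hU, hxU, -⟩ := TopologicalSpace.Opens.isBasis_iff_nbhd.1 X.isBasis_affineOpens
    (show x ∈ (⊤ : X.Opens) from trivial)
  have hU' : IsAffineOpen U := hU
  let j : Spec (CommRingCat.of Γ(X, U)) ⟶ X := hU'.fromSpec
  haveI : IsOpenImmersion j := inferInstanceAs (IsOpenImmersion hU'.fromSpec)
  have hrange : Set.range j.base = U := hU'.range_fromSpec
  have hxr : x ∈ Set.range j.base := by rw [hrange]; exact hxU
  obtain ⟨p, rfl⟩ := hxr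
  refine ⟨j.base '' {p : PrimeSpectrum Γ(X, U) | P (Localization.AtPrime p.asIdeal)}, ?_,
    j.isOpenEmbedding.isOpenMap _ (hopen Γ(X, U) j), ⟨p, ?_, rfl⟩⟩
  · rintro _ ⟨q, hq, rfl⟩
    exact hP (stalkEquiv j q) hq
  · exact hP (stalkEquiv j p).symm hx

end Groth.Agent.Lib.SchDual_helper6
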