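import Mathlib
import Groth.Prelude.Def_EGA4b
import Groth.Agent.Lib.GorFlat2_helper9
import Groth.Agent.Lib.FlatCM3_helper9
import Groth.Agent.Lib.SchDual_helper6
import Groth.Agent.Lib.DepthTensor_helper5
import Groth.Agent.S0343

/-!
# Gorenstein along flat local homomorphisms (helper9)

`B` Gorenstein iff `A` and `B / m_A B` Gorenstein, for a flat local homomorphism `A → B` of
Noetherian local rings.  Reduction to the Artinian case by killing regular elements.
-/

set_option autoImplicit false
universe u

namespace Groth.Agent.GorFlat9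

open IsLocalRing TensorProduct Groth.Agent.DepthLib

section Equiv

theorem gorenstein_congr {R S : Type u} [CommRing R] [CommRing S] (e : R ≃+* S) :
    LocCoh.IsGorensteinLocalRing R ↔ LocCoh.IsGorensteinLocalRing S :=
  ⟨fun h => Groth.Agent.Lib.SchDual_helper6.isGorensteinLocalRing_of_ringEquiv e.symm,
    fun h => Groth.Agent.Lib.SchDual_helper6.isGorensteinLocalRing_of_ringEquiv e⟩

end Equiv

section DepthQuot

variable (A : Type u) [CommRing A] [IsLocalRing A] [IsNoetherianRing A]

/-- depth drops by one modulo a regular element -/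
theorem depth_quot_span_singleton (f : A) (hf : f ∈ maximalIdeal A) (hreg : IsSMulRegular A f)
    [IsLocalRing (A ⧸ Ideal.span {f})] :
    LocCoh.depth (A ⧸ Ideal.span {f}) (A ⧸ Ideal.span {f}) + 1 = LocCoh.depth A A := by
  have hd := idealDepth_quotSMulTop_add_one (maximalIdeal A) A hf hreg
  let e₀ : (QuotSMulTop f A) ≃ₗ[A] (A ⧸ Ideal.span {f}) :=
    Submodule.quotEquivOfEq _ _ (by simp [← Submodule.ideal_span_singleton_smul])
  haveI : IsLocalHom (algebraMap A (A ⧸ Ideal.span {f})) :=
    IsLocalHom.of_surjective _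
      (Ideal.Quotient.mk_surjective : Function.Surjective (algebraMap A (A ⧸ Ideal.span {f})))
  have h1 := Groth.Agent.DepthLib.depth_eq_of_isLocalHom A (A ⧸ Ideal.span {f}) (A ⧸ Ideal.span {f})
  rw [← h1]
  unfold LocCoh.depth
  rw [← idealDepth_congr (maximalIdeal A) _ e₀]
  exact hd

theorem exists_regular_of_depth_pos (h : 1 ≤ LocCoh.depth A A) :
    ∃ f ∈ maximalIdeal A, IsSMulRegular A f := by
  unfold LocCoh.depth at h
  rw [one_le_idealDepth_iff] at h
  rcases h with htop | h
  · exfalso
    rw [smul_eq_mul, Ideal.mul_top] at htop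
    exact (maximalIdeal.isMaximal A).ne_top htop
  · exact h

end DepthQuot

section Main

variable (A B : Type u) [CommRing A] [CommRing B] [IsLocalRing A] [IsLocalRing B]
  [IsNoetherianRing A] [IsNoetherianRing B] [Algebra A B] [IsLocalHom (algebraMap A B)]
  [Module.Flat A B]

/-- the Artinian case -/
theorem gorenstein_iff_of_dim_zero (hB0 : ringKrullDim B = 0) :
    LocCoh.IsGorensteinLocalRing B ↔
      LocCoh.IsGorensteinLocalRing A ∧ LocCoh.IsGorensteinLocalRing (EGA4.FibRing A B) := by
  have hdim := Groth.Agent.FlatCM.dim_eq_add A B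
  obtain ⟨a, ha⟩ := Groth.Agent.FlatCM.exists_nat_ringKrullDim A
  obtain ⟨f, hf⟩ := Groth.Agent.FlatCM.exists_nat_ringKrullDim (EGA4.FibRing A B)
  rw [hB0, ha, hf] at hdim
  have hsum : a + f = 0 := by
    have : ((0 : ℕ) : WithBot ℕ∞) = ((a + f : ℕ) : WithBot ℕ∞) := by
      push_cast
      exact hdim
    exact_mod_cast this.symm
  have hA0 : ringKrullDim A = 0 := by
    rw [ha]
    have : a = 0 := by omega
    rw [this]; rfl
  have hF0 : ringKrullDim (EGA4.FibRing A B) = 0 := by
    rw [hf]
    have : f = 0 := by omega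
    rw [this]; rfl
  rw [gorenstein_iff_typeOne B hB0, gorenstein_iff_typeOne A hA0, gorenstein_iff_typeOne _ hF0]
  exact ⟨typeOne_of_typeOne_top A B hA0 hF0, fun h => typeOne_of_typeOne_fib A B h.1 h.2⟩

end Main

section Steps

variable (A B : Type u) [CommRing A] [CommRing B] [IsLocalRing A] [IsLocalRing B]
  [IsNoetherianRing A] [IsNoetherianRing B] [Algebra A B] [IsLocalHom (algebraMap A B)]
  [Module.Flat A B]

omit [IsLocalRing A] [IsLocalRing B] [IsNoetherianRing A] [IsNoetherianRing B]
  [IsLocalHom (algebraMap A B)] in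
theorem isSMulRegular_algebraMap (x : A) (hreg : IsSMulRegular A x) :
    IsSMulRegular B (algebraMap A B x) := by
  have hx : x ∈ nonZeroDivisors A := by
    rw [mem_nonZeroDivisors_iff_right]
    intro z hz
    apply hreg
    simp only [smul_eq_mul, mul_zero]
    rw [mul_comm]; exact hz
  have h1 : IsSMulRegular B x := Module.Flat.isSMulRegular_of_nonZeroDivisors hx
  intro a b hab
  apply h1
  simp only [smul_eq_mul] at hab
  simp only [Algebra.smul_def]
  exact hab

/-- the fibre of `A → B/(y)` is `F/(ȳ)` -/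
noncomputable def fibQuotEquiv (y : B) :
    EGA4.FibRing A (B ⧸ Ideal.span {y}) ≃+*
      (EGA4.FibRing A B) ⧸ Ideal.span {Ideal.Quotient.mk (EGA4.mB A B) y} :=
  (Ideal.quotEquivOfEq (by
    show (maximalIdeal A).map (algebraMap A (B ⧸ Ideal.span {y})) =
      (EGA4.mB A B).map (Ideal.Quotient.mk (Ideal.span {y}))
    rw [Ideal.map_map]; rfl)).trans
  ((DoubleQuot.quotQuotEquivComm (Ideal.span {y}) (EGA4.mB A B)).trans
    (Ideal.quotEquivOfEq (by rw [Ideal.map_span, Set.image_singleton])))

end Steps

/-- **Main theorem** (by induction on `depth A + depth F`). -/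
theorem gorenstein_iff_aux : ∀ (n : ℕ) (A B : Type u) [CommRing A] [CommRing B] [IsLocalRing A]
    [IsLocalRing B] [IsNoetherianRing A] [IsNoetherianRing B] [Algebra A B]
    [IsLocalHom (algebraMap A B)] [Module.Flat A B],
    LocCoh.depth A A + LocCoh.depth (EGA4.FibRing A B) (EGA4.FibRing A B) = n →
    (LocCoh.IsGorensteinLocalRing B ↔
      LocCoh.IsGorensteinLocalRing A ∧ LocCoh.IsGorensteinLocalRing (EGA4.FibRing A B)) := by
  intro n
  induction n with
  | zero =>
    intro A B _ _ _ _ _ _ _ _ _ h
    rw [Nat.cast_zero, add_eq_zero] at h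
    obtain ⟨hA, hF⟩ := h
    have hBd : LocCoh.depth B B = 0 := by
      rw [Groth.Agent.FlatCM.depth_eq_add A B, hA, hF, add_zero]
    constructor
    · intro hG
      have hdimB : ringKrullDim B = 0 := by
        have := Groth.Agent.Gor.dim_eq_depth 0 B hG.exists_hasInjectiveDimensionLT
          (by exact_mod_cast hBd)
        rw [this]; rfl
      exact (gorenstein_iff_of_dim_zero A B hdimB).1 hG
    · rintro ⟨hGA, hGF⟩
      have hdimA : ringKrullDim A = 0 := by
        have := Groth.Agent.Gor.dim_eq_depth 0 A hGA.exists_hasInjectiveDimensionLT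
          (by exact_mod_cast hA)
        rw [this]; rfl
      have hdimF : ringKrullDim (EGA4.FibRing A B) = 0 := by
        have := Groth.Agent.Gor.dim_eq_depth 0 (EGA4.FibRing A B)
          hGF.exists_hasInjectiveDimensionLT (by exact_mod_cast hF)
        rw [this]; rfl
      have hdimB : ringKrullDim B = 0 := by
        rw [Groth.Agent.FlatCM.dim_eq_add A B, hdimA, hdimF, add_zero]
      exact (gorenstein_iff_of_dim_zero A B hdimB).2 ⟨hGA, hGF⟩
  | succ n ih =>
    intro A B _ _ _ _ _ _ _ _ _ h
    obtain ⟨dA, hdA⟩ := Groth.Agent.Gor.depth_exists A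
    obtain ⟨dF, hdF⟩ := Groth.Agent.Gor.depth_exists (EGA4.FibRing A B)
    have hdA' : LocCoh.depth A A = dA := hdA
    have hdF' : LocCoh.depth (EGA4.FibRing A B) (EGA4.FibRing A B) = dF := hdF
    rw [hdA', hdF'] at h
    have hsumN : dA + dF = n + 1 := by exact_mod_cast h
    by_cases hA1 : 1 ≤ dA
    · -- kill a regular element of `A`
      have hA1' : 1 ≤ LocCoh.depth A A := by rw [hdA']; exact_mod_cast hA1
      obtain ⟨x, hx, hreg⟩ := exists_regular_of_depth_pos A hA1'
      have hI : Ideal.span {x} ≤ maximalIdeal A := (Ideal.span_singleton_le_iff_mem _).2 hx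
      haveI := Groth.Agent.FibDim.isLocalRing_quot hI
      haveI : IsLocalRing (B ⧸ (Ideal.span {x}).map (algebraMap A B)) :=
        Groth.Agent.FibDim.isLocalRing_quot (Groth.Agent.FibDim.map_le_maximalIdeal hI)
      haveI := Groth.Agent.FibDim.isLocalHom_quot (B := B) hI
      haveI : Module.Flat (A ⧸ Ideal.span {x}) (B ⧸ (Ideal.span {x}).map (algebraMap A B)) :=
        Groth.Agent.Lib.FSNilpH3.flat_quot _
      obtain ⟨e⟩ := Groth.Agent.FlatCM.fibRing_quot_equiv A B (Ideal.span {x})
      have hd1 := depth_quot_span_singleton A x hx hreg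
      have hd2 := Groth.Agent.FlatCM.depth_ringEquiv e
      obtain ⟨dA1, hdA1⟩ := Groth.Agent.Gor.depth_exists (A ⧸ Ideal.span {x})
      have hdA1' : LocCoh.depth (A ⧸ Ideal.span {x}) (A ⧸ Ideal.span {x}) = dA1 := hdA1
      rw [hdA1', hdA'] at hd1
      have hd1N : dA1 + 1 = dA := by exact_mod_cast hd1
      have hsum : LocCoh.depth (A ⧸ Ideal.span {x}) (A ⧸ Ideal.span {x}) +
          LocCoh.depth (EGA4.FibRing (A ⧸ Ideal.span {x})
            (B ⧸ (Ideal.span {x}).map (algebraMap A B)))
            (EGA4.FibRing (A ⧸ Ideal.span {x})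
              (B ⧸ (Ideal.span {x}).map (algebraMap A B))) = n := by
        rw [hd2, hdA1', hdF']
        have : dA1 + dF = n := by omega
        exact_mod_cast this
      have key := ih (A ⧸ Ideal.span {x}) (B ⧸ (Ideal.span {x}).map (algebraMap A B)) hsum
      have h1 := Groth.Agent.S0343.result A x hx hreg
      have hxB : algebraMap A B x ∈ maximalIdeal B := algebraMap_mem A B x hx
      have hregB : IsSMulRegular B (algebraMap A B x) := isSMulRegular_algebraMap A B x hreg
      have h2 := Groth.Agent.S0343.result B (algebraMap A B x) hxB hregB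
      have hspan : (Ideal.span {x}).map (algebraMap A B) = Ideal.span {algebraMap A B x} := by
        rw [Ideal.map_span, Set.image_singleton]
      have h3 : LocCoh.IsGorensteinLocalRing (B ⧸ (Ideal.span {x}).map (algebraMap A B)) ↔
          LocCoh.IsGorensteinLocalRing (B ⧸ Ideal.span {algebraMap A B x}) :=
        gorenstein_congr (Ideal.quotEquivOfEq hspan)
      rw [h1, h2, ← h3, key, gorenstein_congr e]
    · -- `depth A = 0`, kill a regular element of the fibre
      have hdA0 : dA = 0 := by omega
      have hF1 : 1 ≤ LocCoh.depth (EGA4.FibRing A B) (EGA4.FibRing A B) := by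
        rw [hdF']
        have : 1 ≤ dF := by omega
        exact_mod_cast this
      obtain ⟨ybar, hybar, hregF⟩ := exists_regular_of_depth_pos (EGA4.FibRing A B) hF1
      obtain ⟨y, rfl⟩ := Ideal.Quotient.mk_surjective ybar
      have hy : y ∈ maximalIdeal B := mem_maximalIdeal_of_mk A B y hybar
      have hImB : (EGA4.mB A B • (⊤ : Submodule B B)) = EGA4.mB A B := by
        rw [smul_eq_mul, Ideal.mul_top]
      let e2 : Groth.Agent.DepthTensor.Fib A B B ≃ₗ[B] EGA4.FibRing A B :=
        Submodule.quotEquivOfEq _ _ hImB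
      have hregF' : IsSMulRegular (EGA4.FibRing A B) y := by
        intro a b hab
        apply hregF
        simp only [Algebra.smul_def] at hab
        exact hab
      have hregFib : IsSMulRegular (Groth.Agent.DepthTensor.Fib A B B) y :=
        (e2.isSMulRegular_congr y).2 hregF'
      have hregB : IsSMulRegular B y := Groth.Agent.DepthTensor.smulR_injective (R := A) B hregFib
      have hflat : Module.Flat A (QuotSMulTop y B) :=
        Groth.Agent.DepthTensor.flat_quotSMulTop (R := A) B hregFib
      let e₀ : (QuotSMulTop y B) ≃ₗ[B] (B ⧸ Ideal.span {y}) :=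
        Submodule.quotEquivOfEq _ _ (by simp [← Submodule.ideal_span_singleton_smul])
      haveI : Module.Flat A (B ⧸ Ideal.span {y}) :=
        Module.Flat.of_linearEquiv (e₀.restrictScalars A).symm
      have hJ : Ideal.span {y} ≤ maximalIdeal B := (Ideal.span_singleton_le_iff_mem _).2 hy
      haveI : IsLocalRing (B ⧸ Ideal.span {y}) := Groth.Agent.FibDim.isLocalRing_quot hJ
      haveI : IsLocalHom (algebraMap A (B ⧸ Ideal.span {y})) := by
        haveI : IsLocalHom (Ideal.Quotient.mk (Ideal.span {y})) :=
          IsLocalHom.of_surjective _ Ideal.Quotient.mk_surjective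
        have : algebraMap A (B ⧸ Ideal.span {y}) =
            (Ideal.Quotient.mk (Ideal.span {y})).comp (algebraMap A B) := rfl
        rw [this]
        exact RingHom.isLocalHom_comp _ _
      let e := fibQuotEquiv A B y
      have hJF : Ideal.span {Ideal.Quotient.mk (EGA4.mB A B) y} ≤
          maximalIdeal (EGA4.FibRing A B) := (Ideal.span_singleton_le_iff_mem _).2 hybar
      haveI : IsLocalRing ((EGA4.FibRing A B) ⧸ Ideal.span {Ideal.Quotient.mk (EGA4.mB A B) y}) :=
        Groth.Agent.FibDim.isLocalRing_quot hJF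
      have hd1 := depth_quot_span_singleton (EGA4.FibRing A B) _ hybar hregF
      have hd2 := Groth.Agent.FlatCM.depth_ringEquiv e
      obtain ⟨dF1, hdF1⟩ := Groth.Agent.Gor.depth_exists
        ((EGA4.FibRing A B) ⧸ Ideal.span {Ideal.Quotient.mk (EGA4.mB A B) y})
      have hdF1' : LocCoh.depth
          ((EGA4.FibRing A B) ⧸ Ideal.span {Ideal.Quotient.mk (EGA4.mB A B) y})
          ((EGA4.FibRing A B) ⧸ Ideal.span {Ideal.Quotient.mk (EGA4.mB A B) y}) = dF1 := hdF1
      rw [hdF1', hdF'] at hd1
      have hd1N : dF1 + 1 = dF := by exact_mod_cast hd1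
      have hsum : LocCoh.depth A A + LocCoh.depth (EGA4.FibRing A (B ⧸ Ideal.span {y}))
          (EGA4.FibRing A (B ⧸ Ideal.span {y})) = n := by
        rw [hd2, hdF1', hdA']
        have : dA + dF1 = n := by omega
        exact_mod_cast this
      have key := ih A (B ⧸ Ideal.span {y}) hsum
      have h1 := Groth.Agent.S0343.result B y hy hregB
      have h2 := Groth.Agent.S0343.result (EGA4.FibRing A B) _ hybar hregF
      rw [h1, h2, key, gorenstein_congr e]

/-- **S0344**: for a flat local homomorphism `A → B` of Noetherian local rings, `B` is Gorenstein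
iff `A` and `B / m_A B` are. -/
theorem gorenstein_iff (A B : Type u) [CommRing A] [CommRing B] [IsLocalRing A]
    [IsLocalRing B] [IsNoetherianRing A] [IsNoetherianRing B] [Algebra A B]
    [IsLocalHom (algebraMap A B)] [Module.Flat A B] :
    LocCoh.IsGorensteinLocalRing B ↔
      LocCoh.IsGorensteinLocalRing A ∧ LocCoh.IsGorensteinLocalRing (EGA4.FibRing A B) := by
  obtain ⟨dA, hdA⟩ := Groth.Agent.Gor.depth_exists A
  obtain ⟨dF, hdF⟩ := Groth.Agent.Gor.depth_exists (EGA4.FibRing A B)
  have hdA' : LocCoh.depth A A = dA := hdA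
  have hdF' : LocCoh.depth (EGA4.FibRing A B) (EGA4.FibRing A B) = dF := hdF
  exact gorenstein_iff_aux (dA + dF) A B (by rw [hdA', hdF']; push_cast; rfl)

end Groth.Agent.GorFlat9
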