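import Mathlib
import Groth.Agent.Lib.GorFlat3_helper9
import Groth.Agent.Lib.FlatCM5_helper9
import Groth.Agent.S0342

/-!
# Gorenstein homomorphisms (helper9)

Global versions of `gorenstein_iff`: for a flat map of Noetherian rings `R → S` and a prime `Q` of
`S`, `S_Q` is Gorenstein iff `R_{Q ∩ R}` and the fibre local ring are; composition of maps with
Gorenstein fibres.  APPEND-ONLY once landed.
-/

set_option autoImplicit false
universe u

namespace Groth.Agent.GorFlat9

open IsLocalRing TensorProduct Groth.Agent.FlatCM

section Basic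

theorem isGorRing_of_isRegularRing (T : Type u) [CommRing T] [IsNoetherianRing T] [IsRegularRing T] :
    LocCoh.IsGorensteinRing T := by
  refine ⟨fun p hp => ?_⟩
  haveI : IsRegularLocalRing (Localization.AtPrime p) :=
    IsRegularRing.isRegularLocalRing_localization p
  exact Groth.Agent.S0342.result _

end Basic

section GorFlat

variable (R S : Type u) [CommRing R] [CommRing S] [Algebra R S]
  [IsNoetherianRing R] [IsNoetherianRing S] [Module.Flat R S]

/-- For a flat map of Noetherian rings, `S_Q` is Gorenstein iff the base and the fibre local rings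
are. -/
theorem isGor_localization_iff (Q : Ideal S) [Q.IsPrime] :
    LocCoh.IsGorensteinLocalRing (Localization.AtPrime Q) ↔
      LocCoh.IsGorensteinLocalRing (Localization.AtPrime (Q.comap (algebraMap R S))) ∧
      LocCoh.IsGorensteinLocalRing (EGA4.FibLocRing R S Q) := by
  set p := Q.comap (algebraMap R S) with hp
  haveI : Q.LiesOver p := ⟨rfl⟩
  letI := Localization.AtPrime.algebraOfLiesOver p Q
  haveI : IsLocalHom (algebraMap (Localization.AtPrime p) (Localization.AtPrime Q)) :=
    Localization.isLocalHom_localRingHom _ _ _ _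
  haveI : Module.Flat R (Localization.AtPrime Q) := Module.Flat.trans R S (Localization.AtPrime Q)
  haveI : Module.Flat (Localization.AtPrime p) (Localization.AtPrime Q) := by
    rw [Module.flat_iff_of_isLocalization (Localization.AtPrime p) p.primeCompl]
    infer_instance
  haveI : IsNoetherianRing (Localization.AtPrime Q) :=
    IsLocalization.isNoetherianRing Q.primeCompl _ inferInstance
  haveI : IsNoetherianRing (Localization.AtPrime p) :=
    IsLocalization.isNoetherianRing p.primeCompl _ inferInstance
  have hI : (maximalIdeal (Localization.AtPrime p)).map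
      (algebraMap (Localization.AtPrime p) (Localization.AtPrime Q)) =
      p.map (algebraMap R (Localization.AtPrime Q)) := by
    rw [← Localization.AtPrime.map_eq_maximalIdeal, Ideal.map_map,
      ← IsScalarTower.algebraMap_eq]
  let e : EGA4.FibRing (Localization.AtPrime p) (Localization.AtPrime Q) ≃+*
      EGA4.FibLocRing R S Q := Ideal.quotEquivOfEq hI
  rw [gorenstein_iff (Localization.AtPrime p) (Localization.AtPrime Q), gorenstein_congr e]

omit [IsNoetherianRing R] [IsNoetherianRing S] [Module.Flat R S] in
/-- the fibre local rings of a map with Gorenstein fibre rings are Gorenstein -/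
theorem isGor_fibLocRing_of_fiber (Q : Ideal S) [Q.IsPrime]
    [h : LocCoh.IsGorensteinRing ((Q.comap (algebraMap R S)).Fiber S)] :
    LocCoh.IsGorensteinLocalRing (EGA4.FibLocRing R S Q) := by
  obtain ⟨q, hq, ⟨e⟩⟩ := exists_fibre_equiv R S Q
  have := h.isGorensteinLocalRing_localization q
  exact (gorenstein_congr e).1 this

omit [IsNoetherianRing R] [Module.Flat R S] in
/-- conversely -/
theorem isGorRing_fiber_of_fibLocRing (p : Ideal R) [p.IsPrime]
    (h : ∀ (Q : Ideal S) [Q.IsPrime], Q.comap (algebraMap R S) = p →
      LocCoh.IsGorensteinLocalRing (EGA4.FibLocRing R S Q)) :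
    LocCoh.IsGorensteinRing (p.Fiber S) := by
  have : IsNoetherianRing (p.Fiber S) := Groth.Agent.Lib.RegFlatH3.isNoetherianRing_fiber R S p
  refine ⟨fun q hq => ?_⟩
  obtain ⟨e⟩ := fibre_equiv_of_prime R S p q
  set r := q.comap (Algebra.TensorProduct.includeRight : S →ₐ[R] p.Fiber S) with hr
  have hrp : r.comap (algebraMap R S) = p := (Ideal.LiesOver.over (p := p) (P := r)).symm
  have := h r hrp
  exact (gorenstein_congr e).2 this

/-- **Gorenstein base and Gorenstein fibres ⇒ Gorenstein** for flat maps of Noetherian rings. -/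
theorem isGorRing_of_flat [hR : LocCoh.IsGorensteinRing R]
    (hfib : ∀ (p : Ideal R) [p.IsPrime], LocCoh.IsGorensteinRing (p.Fiber S)) :
    LocCoh.IsGorensteinRing S := by
  refine ⟨fun Q hQ => ?_⟩
  rw [isGor_localization_iff R S Q]
  have := hfib (Q.comap (algebraMap R S))
  exact ⟨hR.isGorensteinLocalRing_localization _, isGor_fibLocRing_of_fiber R S Q⟩

omit [Module.Flat R S] in
/-- descent: `S` Gorenstein and `R → S` faithfully flat ⇒ `R` Gorenstein -/
theorem isGorRing_of_faithfullyFlat [Module.FaithfullyFlat R S] [hS : LocCoh.IsGorensteinRing S] :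
    LocCoh.IsGorensteinRing R := by
  refine ⟨fun p hp => ?_⟩
  obtain ⟨Q, hQ, hQp⟩ := Ideal.exists_isPrime_liesOver_of_faithfullyFlat (B := S) p
  have h1 := (isGor_localization_iff R S Q).1 (hS.isGorensteinLocalRing_localization Q)
  have hQp' : Q.comap (algebraMap R S) = p := hQp.over.symm
  subst hQp'
  exact h1.1

end GorFlat

section LocalQuot

variable (A B : Type u) [CommRing A] [CommRing B] [IsLocalRing A] [IsLocalRing B]
  [IsNoetherianRing A] [IsNoetherianRing B] [Algebra A B] [IsLocalHom (algebraMap A B)]

variable (I : Ideal A)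

/-- `B/IB` is Gorenstein iff `A/I` and the closed fibre of `A → B` are. -/
theorem isGor_quot_iff [Module.Flat A B] (hI : I ≤ maximalIdeal A) :
    LocCoh.IsGorensteinLocalRing (B ⧸ I.map (algebraMap A B)) ↔
      LocCoh.IsGorensteinLocalRing (A ⧸ I) ∧
        LocCoh.IsGorensteinLocalRing (EGA4.FibRing A B) := by
  haveI := Groth.Agent.FibDim.isLocalRing_quot hI
  haveI : IsLocalRing (B ⧸ I.map (algebraMap A B)) :=
    Groth.Agent.FibDim.isLocalRing_quot (Groth.Agent.FibDim.map_le_maximalIdeal hI)
  haveI := Groth.Agent.FibDim.isLocalHom_quot (B := B) hI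
  haveI : Module.Flat (A ⧸ I) (B ⧸ I.map (algebraMap A B)) :=
    Groth.Agent.Lib.FSNilpH3.flat_quot I
  obtain ⟨e⟩ := fibRing_quot_equiv A B I
  rw [gorenstein_iff (A ⧸ I) (B ⧸ I.map (algebraMap A B)), gorenstein_congr e]

end LocalQuot

section Comp

variable (A B C : Type u) [CommRing A] [CommRing B] [CommRing C] [Algebra A B] [Algebra B C]
  [Algebra A C] [IsScalarTower A B C] [IsNoetherianRing B] [IsNoetherianRing C] [Module.Flat B C]

/-- For `A → B → C` with `C` flat over `B`: the fibre local ring of `A → C` at `P` is Gorenstein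
iff the fibre local ring of `A → B` at `P ∩ B` and that of `B → C` at `P` are. -/
theorem isGor_fibLocRing_comp_iff (P : Ideal C) [P.IsPrime] :
    LocCoh.IsGorensteinLocalRing (EGA4.FibLocRing A C P) ↔
      LocCoh.IsGorensteinLocalRing (EGA4.FibLocRing A B (P.comap (algebraMap B C))) ∧
        LocCoh.IsGorensteinLocalRing (EGA4.FibLocRing B C P) := by
  set q := P.comap (algebraMap B C) with hq
  haveI : P.LiesOver q := ⟨rfl⟩
  letI := Localization.AtPrime.algebraOfLiesOver q P
  haveI : IsLocalHom (algebraMap (Localization.AtPrime q) (Localization.AtPrime P)) :=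
    Localization.isLocalHom_localRingHom _ _ _ _
  haveI : Module.Flat B (Localization.AtPrime P) := Module.Flat.trans B C (Localization.AtPrime P)
  haveI : Module.Flat (Localization.AtPrime q) (Localization.AtPrime P) := by
    rw [Module.flat_iff_of_isLocalization (Localization.AtPrime q) q.primeCompl]
    infer_instance
  haveI : IsNoetherianRing (Localization.AtPrime q) :=
    IsLocalization.isNoetherianRing q.primeCompl _ inferInstance
  haveI : IsNoetherianRing (Localization.AtPrime P) :=
    IsLocalization.isNoetherianRing P.primeCompl _ inferInstance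
  set I : Ideal (Localization.AtPrime q) :=
    (q.comap (algebraMap A B)).map (algebraMap A (Localization.AtPrime q)) with hIdef
  have hI : I ≤ maximalIdeal (Localization.AtPrime q) := fibLocRing_ideal_le A B q
  have key := isGor_quot_iff (Localization.AtPrime q) (Localization.AtPrime P) I hI
  have hpq : q.comap (algebraMap A B) = P.comap (algebraMap A C) := by
    rw [hq, Ideal.comap_comap, ← IsScalarTower.algebraMap_eq]
  have hImap : I.map (algebraMap (Localization.AtPrime q) (Localization.AtPrime P)) =
      (P.comap (algebraMap A C)).map (algebraMap A (Localization.AtPrime P)) := by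
    rw [hIdef, Ideal.map_map, ← IsScalarTower.algebraMap_eq, hpq]
  have hm : (maximalIdeal (Localization.AtPrime q)).map
      (algebraMap (Localization.AtPrime q) (Localization.AtPrime P)) =
      q.map (algebraMap B (Localization.AtPrime P)) := by
    rw [← Localization.AtPrime.map_eq_maximalIdeal, Ideal.map_map,
      ← IsScalarTower.algebraMap_eq]
  let e1 : (Localization.AtPrime P ⧸
      I.map (algebraMap (Localization.AtPrime q) (Localization.AtPrime P))) ≃+*
      EGA4.FibLocRing A C P := Ideal.quotEquivOfEq hImap
  let e2 : EGA4.FibRing (Localization.AtPrime q) (Localization.AtPrime P) ≃+*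
      EGA4.FibLocRing B C P := Ideal.quotEquivOfEq hm
  rw [← gorenstein_congr e1, key, gorenstein_congr e2]

end Comp

section RegularHom

theorem isGorRing_fiber_of_isRegularHom (R S : Type u) [CommRing R] [CommRing S] [Algebra R S]
    (h : CAlg.IsRegularHom R S) (p : Ideal R) [p.IsPrime] :
    LocCoh.IsGorensteinRing (p.Fiber S) := by
  obtain ⟨hN, hG⟩ := h.2 p
  haveI := hN
  haveI := Groth.Agent.Lib.RegFlatH3.isRegularRing_of_isGeometricallyRegular _ _ hG
  exact isGorRing_of_isRegularRing _

/-- **S8949**: Gorenstein fibres are preserved by composing with a regular map. -/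
theorem isGorRing_fiber_comp (A B C : Type u) [CommRing A] [CommRing B] [CommRing C]
    [IsNoetherianRing B] [IsNoetherianRing C] [Algebra A B] [Algebra B C]
    [Algebra A C] [IsScalarTower A B C] [Module.Flat B C]
    (hAB : ∀ (q : Ideal A) [q.IsPrime], LocCoh.IsGorensteinRing (q.Fiber B))
    (hBC : ∀ (q : Ideal B) [q.IsPrime], LocCoh.IsGorensteinRing (q.Fiber C)) :
    ∀ (q : Ideal A) [q.IsPrime], LocCoh.IsGorensteinRing (q.Fiber C) := by
  intro q hq
  apply isGorRing_fiber_of_fibLocRing A C q
  intro P hP hPq
  rw [isGor_fibLocRing_comp_iff A B C P]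
  refine ⟨?_, ?_⟩
  · haveI := hAB ((P.comap (algebraMap B C)).comap (algebraMap A B))
    exact isGor_fibLocRing_of_fiber A B _
  · haveI := hBC (P.comap (algebraMap B C))
    exact isGor_fibLocRing_of_fiber B C P

end RegularHom

end Groth.Agent.GorFlat9
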