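import Mathlib
import Groth.Agent.Lib.FlatGor_helper9

/-!
# Gorenstein rings and finitely generated field extensions (helper9)

* `isGorRing_of_ringEquiv`, `isGorRing_of_isLocalization`, `isGorRing_mvPolynomial`
* `isGorRing_fiber_of_isGorRing`: fibres of a flat map with Gorenstein total space are Gorenstein
* `isGorRing_tensor_field`: `K ⊗_k R` is Gorenstein for `R` Gorenstein and `K/k` a finitely generated
  field extension (the fibre of `k[x] → R[x]` at the kernel of `k[x] → K`).
APPEND-ONLY once landed.
-/

set_option autoImplicit false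
universe u

namespace Groth.Agent.GorFlat9

open IsLocalRing TensorProduct Groth.Agent.FlatCM

section Basic

theorem isGorRing_of_ringEquiv {R R' : Type u} [CommRing R] [CommRing R']
    (e : R ≃+* R') (h : LocCoh.IsGorensteinRing R) : LocCoh.IsGorensteinRing R' := by
  haveI : IsNoetherianRing R := h.toIsNoetherian
  haveI : IsNoetherianRing R' := isNoetherianRing_of_ringEquiv R e
  refine { isGorensteinLocalRing_localization := fun p' hp' => ?_ }
  have e' : Localization.AtPrime (p'.comap e) ≃+* Localization.AtPrime p' :=
    IsLocalization.ringEquivOfRingEquiv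
      (Localization.AtPrime (p'.comap e)) (Localization.AtPrime p') e
      (e.map_primeCompl_comap_eq p')
  exact (gorenstein_congr e').1 (h.isGorensteinLocalRing_localization (p'.comap e))

/-- localizations of Gorenstein rings are Gorenstein -/
theorem isGorRing_of_isLocalization {R : Type u} [CommRing R] (M : Submonoid R) (S : Type u)
    [CommRing S] [Algebra R S] [IsLocalization M S] [h : LocCoh.IsGorensteinRing R] :
    LocCoh.IsGorensteinRing S := by
  haveI : IsNoetherianRing S := IsLocalization.isNoetherianRing M S inferInstance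
  refine ⟨fun q hq => ?_⟩
  haveI : IsLocalization.AtPrime (Localization.AtPrime q) (q.comap (algebraMap R S)) :=
    IsLocalization.isLocalization_isLocalization_atPrime_isLocalization M _ q
  have e : Localization.AtPrime (q.comap (algebraMap R S)) ≃ₐ[R] Localization.AtPrime q :=
    IsLocalization.algEquiv (q.comap (algebraMap R S)).primeCompl _ _
  exact (gorenstein_congr e.toRingEquiv).1 (h.isGorensteinLocalRing_localization _)

/-- fields are Gorenstein -/
theorem isGorRing_field (K : Type u) [Field K] : LocCoh.IsGorensteinRing K := by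
  haveI : IsRegularRing K := inferInstance
  exact isGorRing_of_isRegularRing K

/-- polynomial rings over Gorenstein rings are Gorenstein -/
theorem isGorRing_mvPolynomial (R : Type u) [CommRing R] [LocCoh.IsGorensteinRing R]
    (σ : Type u) [Finite σ] : LocCoh.IsGorensteinRing (MvPolynomial σ R) := by
  apply isGorRing_of_flat R (MvPolynomial σ R)
  intro p hp
  let e : p.Fiber (MvPolynomial σ R) ≃ₐ[p.ResidueField] MvPolynomial σ p.ResidueField :=
    MvPolynomial.scalarRTensorAlgEquiv
  have : IsNoetherianRing (p.Fiber (MvPolynomial σ R)) :=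
    isNoetherianRing_of_ringEquiv _ e.symm.toRingEquiv
  have : IsRegularRing (p.Fiber (MvPolynomial σ R)) :=
    IsRegularRing.of_ringEquiv e.symm.toRingEquiv
  exact isGorRing_of_isRegularRing _

end Basic

section Fiber

variable (R S : Type u) [CommRing R] [CommRing S] [Algebra R S]
  [IsNoetherianRing R] [IsNoetherianRing S] [Module.Flat R S]

/-- the fibres of a flat map with Gorenstein total space are Gorenstein -/
theorem isGorRing_fiber_of_isGorRing [hS : LocCoh.IsGorensteinRing S] (p : Ideal R) [p.IsPrime] :
    LocCoh.IsGorensteinRing (p.Fiber S) := by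
  apply isGorRing_fiber_of_fibLocRing R S p
  intro Q hQ _
  exact ((isGor_localization_iff R S Q).1 (hS.isGorensteinLocalRing_localization Q)).2

end Fiber

section Field

variable (k K : Type u) [Field k] [Field K] [Algebra k K]

/-- a finitely generated field extension is the residue field of a prime of a polynomial ring -/
theorem exists_residueField_equiv (s : Finset K)
    (hs : IntermediateField.adjoin k (s : Set K) = ⊤) :
    ∃ (p : Ideal (MvPolynomial s k)) (_ : p.IsPrime), Nonempty (p.ResidueField ≃ₐ[k] K) := by
  let φ : MvPolynomial s k →ₐ[k] K := MvPolynomial.aeval (fun i : s => (i : K))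
  let p : Ideal (MvPolynomial s k) := RingHom.ker φ
  haveI : p.IsPrime := RingHom.ker_isPrime φ
  have hf₂ : p.primeCompl ≤ (IsUnit.submonoid K).comap φ := by
    intro x hx
    rw [Submonoid.mem_comap, IsUnit.mem_submonoid_iff, isUnit_iff_ne_zero]
    exact fun h => hx ((RingHom.mem_ker).2 h)
  let ψ : p.ResidueField →ₐ[k] K := Ideal.ResidueField.liftₐ p φ le_rfl hf₂
  have hinj : Function.Injective ψ := ψ.toRingHom.injective
  have hsurj : Function.Surjective ψ := by
    intro x
    have hx : x ∈ IntermediateField.adjoin k (s : Set K) := by rw [hs]; trivial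
    obtain ⟨r, hr, t, ht, hxe⟩ := IntermediateField.mem_adjoin_iff_div.1 hx
    have hrange : Algebra.adjoin k (s : Set K) = φ.range := by
      have := Algebra.adjoin_range_eq_range_aeval k (fun i : s => (i : K))
      have h2 : Set.range (fun i : s => (i : K)) = (s : Set K) := Subtype.range_coe
      rw [h2] at this
      exact this
    rw [hrange] at hr ht
    obtain ⟨a, ha⟩ := hr
    obtain ⟨b, hb⟩ := ht
    refine ⟨algebraMap _ p.ResidueField a / algebraMap _ p.ResidueField b, ?_⟩
    rw [map_div₀, Ideal.ResidueField.liftₐ_algebraMap, Ideal.ResidueField.liftₐ_algebraMap, hxe,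
      ← ha, ← hb]
    rfl
  exact ⟨p, inferInstance, ⟨AlgEquiv.ofBijective ψ ⟨hinj, hsurj⟩⟩⟩

/-- **S8948**: `K ⊗_k R` is Gorenstein for `R` Gorenstein and `K/k` finitely generated. -/
theorem isGorRing_tensor_field (R : Type u) [CommRing R] [Algebra k R]
    [hR : LocCoh.IsGorensteinRing R]
    (hK : ∃ s : Finset K, IntermediateField.adjoin k (s : Set K) = ⊤) :
    LocCoh.IsGorensteinRing (K ⊗[k] R) := by
  obtain ⟨s, hs⟩ := hK
  obtain ⟨p, hp, ⟨ψ⟩⟩ := exists_residueField_equiv k K s hs
  let e : (MvPolynomial s k) ⊗[k] R ≃+* MvPolynomial s R :=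
    (Algebra.TensorProduct.comm k (MvPolynomial s k) R).toRingEquiv.trans
      (MvPolynomial.algebraTensorAlgEquiv k R).toRingEquiv
  haveI hS : LocCoh.IsGorensteinRing ((MvPolynomial s k) ⊗[k] R) :=
    isGorRing_of_ringEquiv e.symm (isGorRing_mvPolynomial R s)
  haveI : IsNoetherianRing ((MvPolynomial s k) ⊗[k] R) := hS.toIsNoetherian
  have hfib := isGorRing_fiber_of_isGorRing (MvPolynomial s k) ((MvPolynomial s k) ⊗[k] R) p
  let e1 : p.ResidueField ⊗[MvPolynomial s k] ((MvPolynomial s k) ⊗[k] R) ≃ₐ[p.ResidueField]
      p.ResidueField ⊗[k] R :=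
    Algebra.TensorProduct.cancelBaseChange k (MvPolynomial s k) p.ResidueField p.ResidueField R
  let e2 : p.ResidueField ⊗[k] R ≃ₐ[k] K ⊗[k] R :=
    Algebra.TensorProduct.congr ψ AlgEquiv.refl
  exact isGorRing_of_ringEquiv (e1.toRingEquiv.trans e2.toRingEquiv) hfib

end Field

end Groth.Agent.GorFlat9
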