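import Mathlib
import Groth.Agent.Lib.GorField_helper9

/-!
# Gorenstein local rings and field base change (helper9)
-/

set_option autoImplicit false
universe u

namespace Groth.Agent.GorFlat9

open IsLocalRing TensorProduct Groth.Agent.FlatCM

section FieldBC

variable (k k' : Type u) [Field k] [Field k'] [Algebra k k']

/-- the fibres of `B → B ⊗_k k'` are Gorenstein when `k'/k` is finitely generated -/
theorem isGorRing_fiber_tensor_right (B : Type u) [CommRing B] [Algebra k B]
    (hfg : ∃ s : Finset k', IntermediateField.adjoin k (s : Set k') = ⊤)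
    (p : Ideal B) [p.IsPrime] : LocCoh.IsGorensteinRing (p.Fiber (B ⊗[k] k')) := by
  haveI := isGorRing_field p.ResidueField
  have h1 := isGorRing_tensor_field k k' p.ResidueField hfg
  let e1 : p.ResidueField ⊗[B] (B ⊗[k] k') ≃ₐ[p.ResidueField] p.ResidueField ⊗[k] k' :=
    Algebra.TensorProduct.cancelBaseChange k B p.ResidueField p.ResidueField k'
  let e2 : p.ResidueField ⊗[k] k' ≃ₐ[k] k' ⊗[k] p.ResidueField :=
    Algebra.TensorProduct.comm k p.ResidueField k'
  exact isGorRing_of_ringEquiv (e1.toRingEquiv.trans e2.toRingEquiv).symm h1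

/-- the fibres of `C → C ⊗_k k'` are Gorenstein when `C` is essentially of finite type over `k` -/
theorem isGorRing_fiber_tensor_left (C : Type u) [CommRing C] [Algebra k C]
    [Algebra.EssFiniteType k C]
    (p : Ideal C) [p.IsPrime] : LocCoh.IsGorensteinRing (p.Fiber (C ⊗[k] k')) := by
  haveI := isGorRing_field k'
  haveI : Algebra.EssFiniteType k p.ResidueField := Algebra.EssFiniteType.comp k C p.ResidueField
  have hfg : ∃ s : Finset p.ResidueField,
      IntermediateField.adjoin k (s : Set p.ResidueField) = ⊤ :=
    IntermediateField.fg_top_iff.2 inferInstance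
  have h1 := isGorRing_tensor_field k p.ResidueField k' hfg
  let e1 : p.ResidueField ⊗[C] (C ⊗[k] k') ≃ₐ[p.ResidueField] p.ResidueField ⊗[k] k' :=
    Algebra.TensorProduct.cancelBaseChange k C p.ResidueField p.ResidueField k'
  exact isGorRing_of_ringEquiv e1.toRingEquiv.symm h1

end FieldBC

section LocalMax

/-- a local ring is its localization at a prime equal to the maximal ideal -/
theorem nonempty_ringEquiv_localization_of_eq_maximalIdeal (B : Type u) [CommRing B]
    [IsLocalRing B] (p : Ideal B) [p.IsPrime] (hp : p = maximalIdeal B) :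
    Nonempty (B ≃+* Localization.AtPrime p) := by
  have hu : ∀ x ∈ p.primeCompl, IsUnit x := by
    intro x hx
    by_contra hnu
    apply hx
    rw [hp]
    exact (IsLocalRing.mem_maximalIdeal x).2 hnu
  exact ⟨(IsLocalization.atUnits B p.primeCompl hu).toRingEquiv⟩

end LocalMax

end Groth.Agent.GorFlat9
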