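import Mathlib
import Groth.Agent.Lib.KoszulFlat_helper9
import Groth.Agent.Lib.GorField2_helper9
import Groth.Agent.S0343

/-!
# Local complete intersections over Gorenstein rings are Gorenstein (helper9)
APPEND-ONLY once landed.
-/

set_option autoImplicit false
universe u

namespace Groth.Agent.GorLCI9

open IsLocalRing RingTheory.Sequence
open Groth.Agent.GorFlat9

section RegSeq

/-- Gorenstein modulo a regular sequence is Gorenstein -/
theorem gorenstein_quot_ofList : ∀ (n : ℕ) (A : Type u) [CommRing A] [IsLocalRing A]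
    [IsNoetherianRing A] (l : List A), l.length = n → (∀ x ∈ l, x ∈ maximalIdeal A) →
    IsWeaklyRegular A l → LocCoh.IsGorensteinLocalRing A →
    LocCoh.IsGorensteinLocalRing (A ⧸ Ideal.ofList l) := by
  intro n
  induction n with
  | zero =>
    intro A _ _ _ l hl _ _ hG
    obtain rfl : l = [] := List.length_eq_zero_iff.1 hl
    rw [Ideal.ofList_nil]
    exact (gorenstein_congr (RingEquiv.quotientBot A)).2 hG
  | succ n ih =>
    intro A _ _ _ l hl hmem hreg hG
    obtain ⟨f, l', rfl⟩ : ∃ f l', l = f :: l' := by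
      cases l with
      | nil => simp at hl
      | cons f l' => exact ⟨f, l', rfl⟩
    have hf : f ∈ maximalIdeal A := hmem f (by simp)
    rw [isWeaklyRegular_cons_iff] at hreg
    obtain ⟨hreg1, hreg2⟩ := hreg
    have hI : Ideal.span {f} ≤ maximalIdeal A := (Ideal.span_singleton_le_iff_mem _).2 hf
    haveI := Groth.Agent.FibDim.isLocalRing_quot hI
    have hG' : LocCoh.IsGorensteinLocalRing (A ⧸ Ideal.span {f}) :=
      (Groth.Agent.S0343.result A f hf hreg1).1 hG
    let e₀ : (QuotSMulTop f A) ≃ₗ[A] (A ⧸ Ideal.span {f}) :=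
      Submodule.quotEquivOfEq _ _ (by simp [← Submodule.ideal_span_singleton_smul])
    have hreg3 : IsWeaklyRegular (A ⧸ Ideal.span {f}) l' :=
      (LinearEquiv.isWeaklyRegular_congr e₀ l').1 hreg2
    have hreg4 : IsWeaklyRegular (A ⧸ Ideal.span {f})
        (l'.map (algebraMap A (A ⧸ Ideal.span {f}))) :=
      (isWeaklyRegular_map_algebraMap_iff (A ⧸ Ideal.span {f}) (A ⧸ Ideal.span {f}) l').2 hreg3
    have hmem' : ∀ x ∈ l'.map (algebraMap A (A ⧸ Ideal.span {f})),
        x ∈ maximalIdeal (A ⧸ Ideal.span {f}) := by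
      intro x hx
      obtain ⟨y, hy, rfl⟩ := List.mem_map.1 hx
      have hy' : y ∈ maximalIdeal A := hmem y (by simp [hy])
      haveI : IsLocalHom (algebraMap A (A ⧸ Ideal.span {f})) :=
        IsLocalHom.of_surjective _ Ideal.Quotient.mk_surjective
      intro hu
      exact hy' (isUnit_of_map_unit (algebraMap A (A ⧸ Ideal.span {f})) y hu)
    have key := ih (A ⧸ Ideal.span {f}) (l'.map (algebraMap A (A ⧸ Ideal.span {f})))
      (by simpa using hl) hmem' hreg4 hG'
    have h1 : Ideal.ofList (l'.map (algebraMap A (A ⧸ Ideal.span {f}))) =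
        (Ideal.ofList l').map (Ideal.Quotient.mk (Ideal.span {f})) := by
      rw [Ideal.map_ofList]; rfl
    have h2 : Ideal.ofList (f :: l') = Ideal.span {f} ⊔ Ideal.ofList l' := Ideal.ofList_cons f l'
    let e : ((A ⧸ Ideal.span {f}) ⧸ Ideal.ofList (l'.map (algebraMap A (A ⧸ Ideal.span {f})))) ≃+*
        (A ⧸ Ideal.ofList (f :: l')) :=
      (Ideal.quotEquivOfEq h1).trans
        ((DoubleQuot.quotQuotEquivQuotSup (Ideal.span {f}) (Ideal.ofList l')).trans
          (Ideal.quotEquivOfEq h2.symm))
    exact (gorenstein_congr e).1 key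

end RegSeq

end Groth.Agent.GorLCI9

namespace Groth.Agent.GorLCI9

open IsLocalRing RingTheory.Sequence
open Groth.Agent.GorFlat9

section LocQuot

/-- localisation of a quotient = quotient of the localisation -/
theorem nonempty_quot_equiv {P B : Type u} [CommRing P] [CommRing B] (g : P →+* B)
    (hg : Function.Surjective g) (M : Submonoid P) (T : Submonoid B) (hT : M.map g = T)
    (S Q : Type u) [CommRing S] [CommRing Q] [Algebra P S] [Algebra B Q] [IsLocalization M S]
    [IsLocalization T Q] :
    Nonempty ((S ⧸ (RingHom.ker g).map (algebraMap P S)) ≃+* Q) := by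
  subst hT
  have h1 := IsLocalization.ker_map (S := S) (M := M) Q g rfl
  have h2 : Function.Surjective (IsLocalization.map Q g M.le_comap_map : S → Q) :=
    IsLocalization.map_surjective_of_surjective M S Q hg
  exact ⟨(Ideal.quotEquivOfEq h1.symm).trans (RingHom.quotientKerEquivOfSurjective h2)⟩

end LocQuot

section Main

variable (P : Type u) [CommRing P] [IsNoetherianRing P]

/-- a quotient of a Gorenstein ring by a Koszul-regular ideal is Gorenstein, locally -/
theorem gorenstein_localization_quot (hP : LocCoh.IsGorensteinRing P) (I : Ideal P)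
    (hI : LCI.IsKoszulRegularIdeal I) (𝔓 : Ideal P) [𝔓.IsPrime] (hle : I ≤ 𝔓) :
    LocCoh.IsGorensteinLocalRing
      (Localization.AtPrime 𝔓 ⧸ I.map (algebraMap P (Localization.AtPrime 𝔓))) := by
  obtain ⟨g, hg, l, hl, hspan⟩ := hI ⟨𝔓, inferInstance⟩ hle
  have hg' : g ∉ 𝔓 := hg
  set S := Localization.AtPrime 𝔓 with hS
  let T := Localization.Away g
  have hu : IsUnit (algebraMap P S g) :=
    IsLocalization.map_units S (⟨g, hg'⟩ : 𝔓.primeCompl)
  let φ : T →+* S := IsLocalization.Away.lift g hu
  have hφ : φ.comp (algebraMap P T) = algebraMap P S := IsLocalization.Away.lift_comp g hu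
  letI : Algebra T S := φ.toAlgebra
  haveI : IsScalarTower P T S := IsScalarTower.of_algebraMap_eq' hφ.symm
  have hpow : Submonoid.powers g ≤ 𝔓.primeCompl := by
    rintro _ ⟨k, rfl⟩
    exact fun h => hg' (Ideal.IsPrime.mem_of_pow_mem inferInstance k h)
  haveI : IsLocalization (𝔓.primeCompl.map (algebraMap P T)) S :=
    IsLocalization.isLocalization_of_submonoid_le T S (Submonoid.powers g) 𝔓.primeCompl hpow
  have hflat : φ.Flat := by
    show Module.Flat T S
    exact IsLocalization.flat S (𝔓.primeCompl.map (algebraMap P T))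
  haveI : IsNoetherianRing S := IsLocalization.isNoetherianRing 𝔓.primeCompl S inferInstance
  have hGS : LocCoh.IsGorensteinLocalRing S := hP.isGorensteinLocalRing_localization 𝔓
  have hmapI : (Ideal.ofList l).map φ = I.map (algebraMap P S) := by
    have : Ideal.ofList l = I.map (algebraMap P T) := hspan.symm
    rw [this, Ideal.map_map, hφ]
  have hImax : I.map (algebraMap P S) ≤ maximalIdeal S := by
    rw [← Localization.AtPrime.map_eq_maximalIdeal]
    exact Ideal.map_mono hle
  have hmem : ∀ x ∈ l, φ x ∈ maximalIdeal S := by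
    intro x hx
    apply hImax
    rw [← hmapI]
    exact Ideal.mem_map_of_mem φ (Ideal.subset_span hx)
  have hreg := Groth.Agent.KoszulFlat9.isWeaklyRegular_map_of_koszulRegular φ hflat l hl hmem
  have hmem' : ∀ x ∈ l.map φ, x ∈ maximalIdeal S := by
    intro x hx
    obtain ⟨y, hy, rfl⟩ := List.mem_map.1 hx
    exact hmem y hy
  have key := gorenstein_quot_ofList (l.map φ).length S (l.map φ) rfl hmem' hreg hGS
  have heq : Ideal.ofList (l.map φ) = I.map (algebraMap P S) := by
    rw [← Ideal.map_ofList, hmapI]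
  exact (gorenstein_congr (Ideal.quotEquivOfEq heq)).1 key

end Main

end Groth.Agent.GorLCI9

namespace Groth.Agent.GorLCI9

open IsLocalRing RingTheory.Sequence
open Groth.Agent.GorFlat9

section Final

theorem isGorRing_mvPolynomial_fin (A : Type u) [CommRing A] [hA : LocCoh.IsGorensteinRing A]
    (n : ℕ) : LocCoh.IsGorensteinRing (MvPolynomial (Fin n) A) := by
  have h := Groth.Agent.GorFlat9.isGorRing_mvPolynomial A (ULift.{u} (Fin n))
  exact Groth.Agent.GorFlat9.isGorRing_of_ringEquiv
    (MvPolynomial.renameEquiv A (Equiv.ulift.{u} (α := Fin n))).toRingEquiv h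

/-- **S1827**: a local complete intersection algebra over a Gorenstein ring is Gorenstein -/
theorem isGorRing_of_isLCI (A B : Type u) [CommRing A] [CommRing B] [Algebra A B]
    (hA : LocCoh.IsGorensteinRing A) (h : LCI.IsLCI A B) : LocCoh.IsGorensteinRing B := by
  obtain ⟨hft, n, π, hπ, hI⟩ := h
  haveI : IsNoetherianRing A := hA.toIsNoetherian
  haveI : IsNoetherianRing B := Algebra.FiniteType.isNoetherianRing A B
  have hP := isGorRing_mvPolynomial_fin A n
  refine { isGorensteinLocalRing_localization := fun q hq => ?_ }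
  set 𝔓 : Ideal (MvPolynomial (Fin n) A) := q.comap π.toRingHom with h𝔓
  haveI : 𝔓.IsPrime := Ideal.comap_isPrime _ _
  have hle : RingHom.ker π.toRingHom ≤ 𝔓 := by
    intro x hx
    show π.toRingHom x ∈ q
    rw [RingHom.mem_ker.1 hx]
    exact q.zero_mem
  have key := gorenstein_localization_quot (MvPolynomial (Fin n) A) hP _ hI 𝔓 hle
  have hT : 𝔓.primeCompl.map π.toRingHom = q.primeCompl := by
    ext y
    constructor
    · rintro ⟨x, hx, rfl⟩
      exact hx
    · intro hy
      obtain ⟨x, rfl⟩ := hπ y
      exact ⟨x, hy, rfl⟩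
  obtain ⟨e⟩ := nonempty_quot_equiv π.toRingHom hπ 𝔓.primeCompl q.primeCompl hT
    (Localization.AtPrime 𝔓) (Localization.AtPrime q)
  exact (gorenstein_congr e).1 key

end Final

end Groth.Agent.GorLCI9
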