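import Mathlib
import Groth.Prelude.Def_BlowUp2
import Groth.Agent.Lib.BlowPerf2_helper2
import Groth.Agent.Lib.CMInterSch_helper2
import Groth.Agent.Lib.Regular3_helper5
import Groth.Agent.Lib.NagataCrit_helper3
import Groth.Agent.Lib.GorLCI_helper9

/-!
# Local rings of a blow-up; the blow-up of a regular scheme along a regular centre is regular
(helper2, S11308)
-/

set_option autoImplicit false
set_option maxHeartbeats 400000
universe u

open AlgebraicGeometry CategoryTheory CategoryTheory.Limits TopologicalSpace Opposite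

namespace Groth.Agent.Lib.BlowReg

open Groth.Agent.Lib.BlowPerf RingTheory.Sequence

section generic

variable (P : ∀ (R : Type u) [CommRing R], Prop)
  (hPe : ∀ (R R' : Type u) [CommRing R] [CommRing R'], (R ≃+* R') → P R → P R')

include hPe

theorem stalk_of_openImmersion {X Y : Scheme.{u}} (f : X ⟶ Y) [IsOpenImmersion f] (y : Y)
    (hy : y ∈ Set.range f) (h : ∀ x : X, P (X.presheaf.stalk x)) : P (Y.presheaf.stalk y) := by
  obtain ⟨x, rfl⟩ := hy
  exact hPe _ _ (asIso (f.stalkMap x)).symm.commRingCatIsoToRingEquiv (h x)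

theorem stalk_of_openImmersion' {X Y : Scheme.{u}} (f : X ⟶ Y) [IsOpenImmersion f] (x : X)
    (h : P (Y.presheaf.stalk (f x))) : P (X.presheaf.stalk x) :=
  hPe _ _ (asIso (f.stalkMap x)).commRingCatIsoToRingEquiv h

theorem stalk_Spec (B : Type u) [CommRing B]
    (h : ∀ (q : Ideal B) [q.IsPrime], P (Localization.AtPrime q))
    (s : Spec (CommRingCat.of B)) : P ((Spec (CommRingCat.of B)).presheaf.stalk s) :=
  hPe _ _ (AlgebraicGeometry.StructureSheaf.stalkIso B s).toRingEquiv (h s.asIdeal)

theorem stalk_of_isBlowUp_affine {A : Type u} [CommRing A] (rs : List A) {T : Scheme.{u}}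
    (b : T ⟶ Spec (CommRingCat.of A))
    (hb : BlowUp.IsBlowUp b (AffBlH8.idl (Ideal.ofList rs)))
    (h : ∀ a ∈ rs, ∀ (q : Ideal ↥(BlowUp.affineAlgebra A (Ideal.ofList rs) a)) [q.IsPrime],
      P (Localization.AtPrime q)) (t : T) : P (T.presheaf.stalk t) := by
  obtain ⟨a, ha, hta⟩ := BlowCov.exists_mem_W (Ideal.ofList rs) b {x | x ∈ rs} rfl hb.1 t
  obtain ⟨κ, hκ, hoi, hr⟩ :=
    BlowCov.exists_chart (Ideal.ofList rs) a b (Ideal.subset_span ha) hb
  haveI := hoi
  apply stalk_of_openImmersion P hPe κ t (by rw [hr]; exact hta)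
  intro s
  exact stalk_Spec P hPe _ (h a ha) s

theorem stalk_of_isBlowUp {X Xt : Scheme.{u}} (π : Xt ⟶ X) (I : X.IdealSheafData)
    (hπ : BlowUp.IsBlowUp π I) (hX : ∀ x : X, P (X.presheaf.stalk x))
    (hloc : ∀ x : X, x ∈ I.support → ∃ U : X.affineOpens, x ∈ U.1 ∧
      ∃ rs : List Γ(X, U.1), I.ideal U = Ideal.ofList rs ∧
        ∀ a ∈ rs, ∀ (q : Ideal ↥(BlowUp.affineAlgebra Γ(X, U.1) (Ideal.ofList rs) a)) [q.IsPrime],
          P (Localization.AtPrime q))
    (z : Xt) : P (Xt.presheaf.stalk z) := by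
  by_cases hx : π z ∈ I.support
  · obtain ⟨U, hxU, rs, hker, hq⟩ := hloc (π z) hx
    have hU : IsAffineOpen U.1 := U.2
    have sq0 := isPullback_morphismRestrict π U.1
    have sq1 : IsPullback hU.isoSpec.hom U.1.ι hU.fromSpec (𝟙 X) :=
      IsPullback.of_horiz_isIso ⟨by rw [hU.isoSpec_hom_fromSpec, Category.comp_id]⟩
    have sq : IsPullback ((π ∣_ U.1) ≫ hU.isoSpec.hom) (π ⁻¹ᵁ U.1).ι hU.fromSpec π := by
      have := sq0.paste_horiz sq1
      rwa [Category.comp_id] at this
    have hb := isBlowUp_of_isPullback π I hπ hU.fromSpec _ _ sq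
    have hker' : I.ideal ⟨U.1, hU⟩ = Ideal.ofList rs := hker
    rw [comap_fromSpec_eq_idl, hker'] at hb
    apply stalk_of_openImmersion P hPe (π ⁻¹ᵁ U.1).ι z (by rw [Scheme.Opens.range_ι]; exact hxU)
    intro t'
    exact stalk_of_isBlowUp_affine P hPe rs _ hb hq t'
  · have : IsIso (π ∣_ I.support.compl) := BlowIsoH8.isIso_restrict I π hπ
    apply stalk_of_openImmersion P hPe (π ⁻¹ᵁ I.support.compl).ι z
      (by rw [Scheme.Opens.range_ι]; exact hx)
    intro t'
    apply stalk_of_openImmersion' P hPe (π ∣_ I.support.compl) t'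
    apply stalk_of_openImmersion' P hPe (Scheme.Opens.ι (X := X) I.support.compl)
    exact hX _

end generic

section ring

open IsLocalRing MvPolynomial

variable (A : Type u) [CommRing A] (a : A) (l : List A)

theorem isRegularLocalRing_of_isLocalization {R : Type u} [CommRing R] [IsRegularRing R]
    (T : Submonoid R) (S : Type u) [CommRing S] [Algebra R S] [IsLocalization T S]
    (Q : Ideal S) [Q.IsPrime] : IsRegularLocalRing (Localization.AtPrime Q) :=
  (Groth.Agent.Lib.NagataCritH3.isRegularLocalRing_under_iff R T S Q).mp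
    (IsRegularRing.isRegularLocalRing_localization (Q.under R))

/-- `A_a` is the localization of `A[I/a]` at (the image of) `a`. -/
theorem isLocalization_affineAlgebra (I : Ideal A) :
    IsLocalization (Submonoid.powers (algebraMap A ↥(BlowUp.affineAlgebra A I a) a))
      (Localization.Away a) := by
  have hval : ∀ b : ↥(BlowUp.affineAlgebra A I a),
      algebraMap ↥(BlowUp.affineAlgebra A I a) (Localization.Away a) b = b.1 := fun _ => rfl
  refine ⟨?_, ?_, ?_⟩
  · rintro ⟨_, n, rfl⟩
    rw [map_pow, hval]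
    exact (IsLocalization.Away.algebraMap_isUnit a).pow n
  · intro z
    obtain ⟨x, ⟨_, n, rfl⟩, rfl⟩ := IsLocalization.exists_mk'_eq (Submonoid.powers a) z
    refine ⟨⟨algebraMap A _ x, ⟨_, n, rfl⟩⟩, ?_⟩
    rw [hval, hval]
    change IsLocalization.mk' (Localization.Away a) x ⟨a ^ n, _⟩ *
      ((algebraMap A ↥(BlowUp.affineAlgebra A I a) a) ^ n).1 = algebraMap A (Localization.Away a) x
    have h1 : ((algebraMap A ↥(BlowUp.affineAlgebra A I a) a) ^ n).1 =
        algebraMap A (Localization.Away a) (a ^ n) := by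
      rw [map_pow]; rfl
    rw [h1]
    exact IsLocalization.mk'_spec (Localization.Away a) x ⟨a ^ n, _⟩
  · intro x y hxy
    rw [hval, hval] at hxy
    exact ⟨1, by rw [Subtype.ext hxy]⟩

theorem relIdeal_sup (a : A) (l : List A) :
    relIdeal A a l ⊔ Ideal.span {(C a : MvPolynomial (Fin l.length) A)} =
      (Ideal.ofList (a :: l)).map (C : A →+* MvPolynomial (Fin l.length) A) := by
  apply le_antisymm
  · apply sup_le
    · unfold relIdeal
      rw [Ideal.span_le]
      rintro _ ⟨j, rfl⟩
      unfold rel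
      exact Ideal.sub_mem _ (Ideal.mul_mem_right _ _ (Ideal.mem_map_of_mem _ (a_mem A a l)))
        (Ideal.mem_map_of_mem _ (get_mem A a l j))
    · rw [Ideal.span_le, Set.singleton_subset_iff]
      exact Ideal.mem_map_of_mem _ (a_mem A a l)
  · rw [Ideal.map_le_iff_le_comap]
    unfold Ideal.ofList
    rw [Ideal.span_le]
    intro r hr
    rw [SetLike.mem_coe, Ideal.mem_comap]
    rcases List.mem_cons.mp hr with rfl | hr'
    · exact Ideal.mem_sup_right (Ideal.subset_span rfl)
    · obtain ⟨j, rfl⟩ := List.mem_iff_get.mp hr'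
      have h1 : (C (l.get j) : MvPolynomial (Fin l.length) A) = C a * X j - rel A a l j := by
        unfold rel; ring
      rw [h1]
      exact Ideal.sub_mem _
        (Ideal.mem_sup_right (Ideal.mul_mem_right _ _ (Ideal.subset_span rfl)))
        (Ideal.mem_sup_left (rel_mem A a l j))

variable {A a l}

/-- `A[I/a]/(a) ≃ (A/I)[X]`. -/
theorem nonempty_quot_equiv (hbij : Function.Bijective (theta A a l)) :
    Nonempty ((↥(BlowUp.affineAlgebra A (Ideal.ofList (a :: l)) a) ⧸
        Ideal.span {algebraMap A ↥(BlowUp.affineAlgebra A (Ideal.ofList (a :: l)) a) a}) ≃+*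
      MvPolynomial (Fin l.length) (A ⧸ Ideal.ofList (a :: l))) := by
  let e1 : (MvPolynomial (Fin l.length) A ⧸ relIdeal A a l) ≃+*
      ↥(BlowUp.affineAlgebra A (Ideal.ofList (a :: l)) a) := RingEquiv.ofBijective (theta A a l) hbij
  have he1 : e1 (Ideal.Quotient.mk (relIdeal A a l) (C a)) =
      algebraMap A ↥(BlowUp.affineAlgebra A (Ideal.ofList (a :: l)) a) a := by
    change theta A a l (Ideal.Quotient.mk (relIdeal A a l) (C a)) = _
    rw [theta_mk, theta0_C]
  have h : Ideal.span {algebraMap A ↥(BlowUp.affineAlgebra A (Ideal.ofList (a :: l)) a) a} =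
      ((Ideal.span {(C a : MvPolynomial (Fin l.length) A)}).map
        (Ideal.Quotient.mk (relIdeal A a l))).map (e1 : _ →+* _) := by
    rw [Ideal.map_span, Ideal.map_span, Set.image_singleton, Set.image_singleton]
    congr 2
    exact he1.symm
  let e2 := Ideal.quotientEquiv _ _ e1 h
  let e3 := DoubleQuot.quotQuotEquivQuotSup (relIdeal A a l)
    (Ideal.span {(C a : MvPolynomial (Fin l.length) A)})
  let e4 := Ideal.quotEquivOfEq (relIdeal_sup A a l)
  let e5 := (MvPolynomial.quotientEquivQuotientMvPolynomial (σ := Fin l.length)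
    (Ideal.ofList (a :: l))).toRingEquiv
  exact ⟨e2.symm.trans (e3.trans (e4.trans e5.symm))⟩

variable (A a l)

/-- the core local argument: a Noetherian ring `B` with a nonzerodivisor `aB` such that `B/(aB)`
is a regular ring and all local rings of `B[1/aB]` are regular is regular at every prime. -/
theorem isRegularLocalRing_core (B : Type u) [CommRing B] [IsNoetherianRing B] (aB : B)
    (hnzd : aB ∈ nonZeroDivisors B) [IsRegularRing (B ⧸ Ideal.span {aB})]
    (S : Type u) [CommRing S] [Algebra B S] [IsLocalization (Submonoid.powers aB) S]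
    (hS : ∀ (Q : Ideal S) [Q.IsPrime], IsRegularLocalRing (Localization.AtPrime Q))
    (q : Ideal B) [q.IsPrime] : IsRegularLocalRing (Localization.AtPrime q) := by
  by_cases haq : aB ∈ q
  · have hπs : Function.Surjective (Ideal.Quotient.mk (Ideal.span {aB})) :=
      Ideal.Quotient.mk_surjective
    have hker : RingHom.ker (Ideal.Quotient.mk (Ideal.span {aB})) = Ideal.span {aB} :=
      Ideal.mk_ker
    have hJq : Ideal.span {aB} ≤ q := (Ideal.span_singleton_le_iff_mem _).mpr haq
    haveI hqb : (q.map (Ideal.Quotient.mk (Ideal.span {aB}))).IsPrime :=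
      Ideal.map_isPrime_of_surjective hπs (by rw [hker]; exact hJq)
    have hcm : (q.map (Ideal.Quotient.mk (Ideal.span {aB}))).comap
        (Ideal.Quotient.mk (Ideal.span {aB})) = q := by
      rw [Ideal.comap_map_of_surjective _ hπs, ← RingHom.ker_eq_comap_bot, hker]
      exact sup_eq_left.mpr hJq
    have hT : q.primeCompl.map (Ideal.Quotient.mk (Ideal.span {aB})) =
        (q.map (Ideal.Quotient.mk (Ideal.span {aB}))).primeCompl := by
      ext y
      constructor
      · rintro ⟨x, hx, rfl⟩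
        intro hmem
        apply hx
        have : x ∈ (q.map (Ideal.Quotient.mk (Ideal.span {aB}))).comap
            (Ideal.Quotient.mk (Ideal.span {aB})) := hmem
        rwa [hcm] at this
      · intro hy
        obtain ⟨x, rfl⟩ := hπs y
        refine ⟨x, fun hxq => hy (Ideal.mem_map_of_mem _ hxq), rfl⟩
    obtain ⟨e⟩ := Groth.Agent.GorLCI9.nonempty_quot_equiv (Ideal.Quotient.mk (Ideal.span {aB}))
      hπs q.primeCompl (q.map (Ideal.Quotient.mk (Ideal.span {aB}))).primeCompl hT
      (Localization.AtPrime q)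
      (Localization.AtPrime (q.map (Ideal.Quotient.mk (Ideal.span {aB}))))
    haveI : IsNoetherianRing (Localization.AtPrime q) :=
      IsLocalization.isNoetherianRing q.primeCompl _ inferInstance
    have hid : (RingHom.ker (Ideal.Quotient.mk (Ideal.span {aB}))).map
        (algebraMap B (Localization.AtPrime q)) =
        Ideal.span {algebraMap B (Localization.AtPrime q) aB} := by
      rw [hker, Ideal.map_span, Set.image_singleton]
    haveI : IsRegularLocalRing (Localization.AtPrime q ⧸
        Ideal.span {algebraMap B (Localization.AtPrime q) aB}) :=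
      IsRegularLocalRing.of_ringEquiv ((Ideal.quotEquivOfEq hid).symm.trans e).symm
    refine Groth.Agent.RegularLib.of_quotient_regular (Localization.AtPrime q)
      (algebraMap B (Localization.AtPrime q) aB) ?_ ?_
    · exact (IsLocalization.AtPrime.to_map_mem_maximal_iff (Localization.AtPrime q) q aB).mpr haq
    · exact IsLocalization.map_nonZeroDivisors_le q.primeCompl (Localization.AtPrime q)
        (Submonoid.mem_map_of_mem _ hnzd)
  · have hd : Disjoint (Submonoid.powers aB : Set B) (q : Set B) := by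
      rw [Set.disjoint_left]
      rintro _ ⟨n, rfl⟩ hmem
      exact haq (Ideal.IsPrime.mem_of_pow_mem ‹_› n hmem)
    haveI hQ : (q.map (algebraMap B S)).IsPrime :=
      IsLocalization.isPrime_of_isPrime_disjoint (Submonoid.powers aB) _ q ‹_› hd
    have hu : (q.map (algebraMap B S)).under B = q :=
      IsLocalization.under_map_of_isPrime_disjoint (Submonoid.powers aB) _ ‹_› hd
    have h1 : IsRegularLocalRing (Localization.AtPrime (q.map (algebraMap B S))) := hS _
    have h3 := (Groth.Agent.Lib.NagataCritH3.isRegularLocalRing_under_iff B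
      (Submonoid.powers aB) S _).mpr h1
    exact (Groth.Agent.Lib.NagataCritH3.isRegularLocalRing_congr B hu).mp h3

theorem isRegularLocalRing_affineAlgebra [IsRegularRing A]
    (h : LCI.IsKoszulRegularSeq A (a :: l)) (hI : Ideal.ofList (a :: l) ≠ ⊤)
    [IsRegularRing (A ⧸ Ideal.ofList (a :: l))]
    (q : Ideal ↥(BlowUp.affineAlgebra A (Ideal.ofList (a :: l)) a)) [q.IsPrime] :
    IsRegularLocalRing (Localization.AtPrime q) := by
  have hG := kreg_rel A a l h hI
  have h2 := kreg_cons_rel A a l h hI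
  have hc : ∀ x, C a * x ∈ relIdeal A a l → x ∈ relIdeal A a l := by
    intro x hx
    rw [← ofList_rel] at hx ⊢
    exact mem_of_mul_mem_of_kreg_cons (C a) _ h2 x hx
  have hbij := theta_bijective A a l hc
  haveI : IsNoetherianRing A := inferInstance
  haveI : IsNoetherianRing ↥(BlowUp.affineAlgebra A (Ideal.ofList (a :: l)) a) :=
    isNoetherianRing_of_ringEquiv _ (RingEquiv.ofBijective (theta A a l) hbij)
  obtain ⟨e0⟩ := nonempty_quot_equiv hbij
  haveI : IsRegularRing (↥(BlowUp.affineAlgebra A (Ideal.ofList (a :: l)) a) ⧸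
      Ideal.span {algebraMap A ↥(BlowUp.affineAlgebra A (Ideal.ofList (a :: l)) a) a}) :=
    IsRegularRing.of_ringEquiv e0.symm
  haveI := isLocalization_affineAlgebra A a (Ideal.ofList (a :: l))
  exact isRegularLocalRing_core ↥(BlowUp.affineAlgebra A (Ideal.ofList (a :: l)) a)
    (algebraMap A _ a) (AffBlH8.a_nzd (Ideal.ofList (a :: l)) a) (Localization.Away a)
    (fun Q _ => isRegularLocalRing_of_isLocalization (R := A) (Submonoid.powers a)
      (Localization.Away a) Q) q

theorem isRegularLocalRing_affineAlgebra_of_mem [IsRegularRing A] (rs : List A)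
    (hrs : RingTheory.Sequence.IsRegular A rs) [IsRegularRing (A ⧸ Ideal.ofList rs)]
    (a : A) (ha : a ∈ rs) (q : Ideal ↥(BlowUp.affineAlgebra A (Ideal.ofList rs) a)) [q.IsPrime] :
    IsRegularLocalRing (Localization.AtPrime q) := by
  obtain ⟨s, t, rfl⟩ := List.append_of_mem ha
  have hperm : (s ++ a :: t).Perm (a :: (s ++ t)) := List.perm_middle
  have hK : LCI.IsKoszulRegularSeq A (s ++ a :: t) :=
    (Groth.Agent.Lib.KoszulTopH7.koszulRegular _ hrs.toIsWeaklyRegular).1
  obtain ⟨e⟩ := Groth.Agent.Lib.KoszulSwap.koszul_perm A hperm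
  have hK' : LCI.IsKoszulRegularSeq A (a :: (s ++ t)) := fun i hi =>
    IsZero.of_iso (hK i hi) ((HomologicalComplex.homologyFunctor _ _ i).mapIso e.symm)
  have hid : Ideal.ofList (a :: (s ++ t)) = Ideal.ofList (s ++ a :: t) := by
    show Ideal.span {r | r ∈ a :: (s ++ t)} = Ideal.span {r | r ∈ s ++ a :: t}
    congr 1
    ext r
    exact (hperm.mem_iff).symm
  have hne : Ideal.ofList (a :: (s ++ t)) ≠ ⊤ := by
    rw [hid]
    intro htop
    apply hrs.top_ne_smul
    rw [htop, smul_eq_mul, Ideal.top_mul]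
  haveI : IsRegularRing (A ⧸ Ideal.ofList (a :: (s ++ t))) :=
    IsRegularRing.of_ringEquiv (Ideal.quotEquivOfEq hid.symm)
  have key : ∀ (J : Ideal A) (hJ : Ideal.ofList (a :: (s ++ t)) = J)
      (q : Ideal ↥(BlowUp.affineAlgebra A J a)) [q.IsPrime],
      IsRegularLocalRing (Localization.AtPrime q) := by
    intro J hJ
    subst hJ
    intro q _
    exact isRegularLocalRing_affineAlgebra A a (s ++ t) hK' hne q
  exact key _ hid q

end ring

section scheme

theorem isRegularRing_of_stalks {W : Scheme.{u}} [IsLocallyNoetherian W]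
    (hreg : ∀ w : W, IsRegularLocalRing (W.presheaf.stalk w)) {U : W.Opens}
    (hU : IsAffineOpen U) : IsRegularRing Γ(W, U) := by
  haveI : IsNoetherianRing Γ(W, U) := IsLocallyNoetherian.component_noetherian ⟨U, hU⟩
  rw [isRegularRing_iff]
  intro p hp
  have hxU := Groth.Agent.Lib.CMInterSch.fromSpec_mem hU ⟨p, hp⟩
  have hQ := Groth.Agent.Lib.CMInterSch.primeIdealOf_fromSpec hU ⟨p, hp⟩
  letI := TopCat.Presheaf.algebra_section_stalk W.presheaf (⟨hU.fromSpec ⟨p, hp⟩, hxU⟩ : U)
  have hloc : IsLocalization.AtPrime (W.presheaf.stalk (hU.fromSpec ⟨p, hp⟩)) p := by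
    have h1 := hU.isLocalization_stalk ⟨hU.fromSpec ⟨p, hp⟩, hxU⟩
    rw [hQ] at h1
    exact h1
  haveI := hloc
  haveI := hreg (hU.fromSpec ⟨p, hp⟩)
  exact IsRegularLocalRing.of_ringEquiv
    (IsLocalization.algEquiv p.primeCompl (W.presheaf.stalk (hU.fromSpec ⟨p, hp⟩))
      (Localization.AtPrime p)).toRingEquiv

/-- spreading out a regular sequence generating the stalk of the ideal of a closed immersion,
remembering the length. -/
theorem spread_regular {X Z : Scheme.{u}} [IsLocallyNoetherian X] (i : Z ⟶ X)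
    [IsClosedImmersion i] (z : Z) (rs : List (X.presheaf.stalk (i z)))
    (hrs : IsWeaklyRegular (X.presheaf.stalk (i z)) rs)
    (hker : RingHom.ker (i.stalkMap z).hom = Ideal.ofList rs) :
    ∃ U : X.affineOpens, i z ∈ U.1 ∧ ∃ as : List Γ(X, U.1), as.length = rs.length ∧
      IsRegular Γ(X, U.1) as ∧ RingHom.ker (i.app U.1).hom = Ideal.ofList as := by
  obtain ⟨W, hWa, hxW, -⟩ := Opens.isBasis_iff_nbhd.mp X.isBasis_affineOpens
    (show i z ∈ (⊤ : X.Opens) from trivial)
  have hW : IsAffineOpen W := hWa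
  haveI : IsNoetherianRing Γ(X, W) := IsLocallyNoetherian.component_noetherian ⟨W, hW⟩
  letI := TopCat.Presheaf.algebra_section_stalk X.presheaf (⟨i z, hxW⟩ : W)
  haveI : IsLocalization.AtPrime (X.presheaf.stalk (i z))
      (hW.primeIdealOf ⟨i z, hxW⟩).asIdeal := hW.isLocalization_stalk ⟨_, hxW⟩
  have hI : (RingHom.ker (i.app W).hom).map (algebraMap Γ(X, W) (X.presheaf.stalk (i z))) =
      Ideal.ofList rs := by
    rw [← hker, Groth.Agent.KerStalk.ker_stalkMap i W hW z hxW]; rfl
  obtain ⟨f, as, hf, hlen, H⟩ := Groth.Agent.Lib.CMInter.main_alg_len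
    (hW.primeIdealOf ⟨i z, hxW⟩).asIdeal (X.presheaf.stalk (i z))
    (RingHom.ker (i.app W).hom) rs hrs hI
  have hxV : i z ∈ X.basicOpen f := by
    rw [Groth.Agent.KerStalk.mem_primeIdealOf_iff hW f (i z) hxW, not_not] at hf
    exact (X.mem_basicOpen f (i z) hxW).mpr hf
  have hV : IsAffineOpen (X.basicOpen f) := hW.basicOpen f
  haveI : IsLocalization.Away f Γ(X, X.basicOpen f) := hW.isLocalization_basicOpen f
  obtain ⟨hwr, hIV⟩ := H Γ(X, X.basicOpen f)
  have hmap : (i.ker.ideal ⟨W, hW⟩).map (X.presheaf.map (homOfLE (X.basicOpen_le f)).op).hom =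
      i.ker.ideal ⟨X.basicOpen f, hV⟩ :=
    i.ker.map_ideal (U := ⟨X.basicOpen f, hV⟩) (V := ⟨W, hW⟩) (X.basicOpen_le f)
  rw [Scheme.Hom.ker_apply, Scheme.Hom.ker_apply] at hmap
  have hkV : RingHom.ker (i.app (X.basicOpen f)).hom =
      Ideal.ofList (as.map (algebraMap Γ(X, W) Γ(X, X.basicOpen f))) := by
    rw [← hIV]; exact hmap.symm
  haveI : Nonempty (i ⁻¹ᵁ X.basicOpen f) := ⟨⟨z, hxV⟩⟩
  haveI : Nontrivial Γ(Z, i ⁻¹ᵁ X.basicOpen f) := Scheme.component_nontrivial Z _
  refine ⟨⟨X.basicOpen f, hV⟩, hxV, as.map (algebraMap Γ(X, W) Γ(X, X.basicOpen f)), ?_,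
    ⟨hwr, ?_⟩, hkV⟩
  · rw [List.length_map, hlen]
  · rw [smul_eq_mul, Ideal.mul_top, ← hkV]
    intro h
    have h2 : (1 : Γ(X, X.basicOpen f)) ∈ RingHom.ker (i.app (X.basicOpen f)).hom := by
      rw [← h]; trivial
    rw [RingHom.mem_ker, map_one] at h2
    exact one_ne_zero h2

theorem main11308 (X : Scheme.{u}) [IsLocallyNoetherian X]
    (hreg : ∀ x : ↥X, IsRegularLocalRing ↑(X.presheaf.stalk x))
    (Y : Scheme.{u}) (i : Y ⟶ X) [IsClosedImmersion i]
    (hregY : ∀ y : ↥Y, IsRegularLocalRing ↑(Y.presheaf.stalk y))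
    (Xt : Scheme.{u}) (π : Xt ⟶ X) (hπ : BlowUp.IsBlowUp π i.ker) :
    ∀ z : ↥Xt, IsRegularLocalRing ↑(Xt.presheaf.stalk z) := by
  haveI : IsLocallyNoetherian Y := LocallyOfFiniteType.isLocallyNoetherian i
  intro z
  refine stalk_of_isBlowUp (fun (R : Type u) [CommRing R] => IsRegularLocalRing R)
    (fun R R' _ _ e h => @IsRegularLocalRing.of_ringEquiv R _ h R' _ e) π i.ker hπ hreg ?_ z
  intro x hx
  have hx' : x ∈ Set.range i := by
    have h1 : x ∈ (i.ker.support : Set X) := hx
    rw [Scheme.Hom.support_ker, i.isClosedEmbedding.isClosed_range.closure_eq] at h1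
    exact h1
  obtain ⟨y, rfl⟩ := hx'
  haveI := hreg (i y)
  haveI := hregY y
  have hs : Function.Surjective (i.stalkMap y).hom := i.stalkMap_surjective y
  haveI : IsRegularLocalRing (X.presheaf.stalk (i y) ⧸ RingHom.ker (i.stalkMap y).hom) :=
    IsRegularLocalRing.of_ringEquiv (RingHom.quotientKerEquivOfSurjective hs).symm
  obtain ⟨rs, hrs, hrsI⟩ := Groth.Agent.RegularLib.exists_isRegular (X.presheaf.stalk (i y))
    (RingHom.ker (i.stalkMap y).hom)
  obtain ⟨U, hyU, as, -, has, hkU⟩ := spread_regular i y rs hrs.toIsWeaklyRegular hrsI.symm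
  refine ⟨U, hyU, as, by rw [Scheme.Hom.ker_apply]; exact hkU, ?_⟩
  intro a ha q hq
  haveI : IsRegularRing Γ(X, U.1) := isRegularRing_of_stalks hreg U.2
  have hsU : Function.Surjective (i.app U.1).hom :=
    fun t => Groth.Agent.KerStalk.app_surjective_of_restrict i U.1 U.2 t
  haveI : IsRegularRing Γ(Y, i ⁻¹ᵁ U.1) := isRegularRing_of_stalks hregY (U.2.preimage i)
  haveI : IsRegularRing (Γ(X, U.1) ⧸ Ideal.ofList as) :=
    IsRegularRing.of_ringEquiv
      ((Ideal.quotEquivOfEq hkU).symm.trans (RingHom.quotientKerEquivOfSurjective hsU)).symm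
  exact isRegularLocalRing_affineAlgebra_of_mem Γ(X, U.1) as has a ha q

end scheme

end Groth.Agent.Lib.BlowReg
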