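import Mathlib
import Groth.Prelude.Def_BlowUp2
import Groth.Prelude.Def_RegImm
import Groth.Prelude.Def_LCI2
import Groth.Agent.Lib.BlowReg_helper2

/-!
# Base change of the blow-up of a Koszul-regular ideal along a Tor-independent morphism
(helper2, S14343)
-/

set_option autoImplicit false
set_option maxHeartbeats 400000
universe u

open AlgebraicGeometry CategoryTheory CategoryTheory.Limits TopologicalSpace Opposite

namespace Groth.Agent.Lib.BlowBC

open Groth.Agent.Lib.BlowPerf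

section ring

open MvPolynomial

variable {A A' : Type u} [CommRing A] [CommRing A'] (ψ : A →+* A') (a : A) (l : List A)
  (l' : List A') (hlen : l'.length = l.length)

/-- `A[T]/(aT_j - l_j) → A'[T]/(ψ(a)T_j - l'_j)` on polynomials. -/
noncomputable def rho0 : MvPolynomial (Fin l.length) A →+*
    (MvPolynomial (Fin l'.length) A' ⧸ relIdeal A' (ψ a) l') :=
  MvPolynomial.eval₂Hom ((Ideal.Quotient.mk (relIdeal A' (ψ a) l')).comp (C.comp ψ))
    (fun j => Ideal.Quotient.mk (relIdeal A' (ψ a) l') (X (Fin.cast hlen.symm j)))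

lemma rho0_C (r : A) : rho0 ψ a l l' hlen (C r) =
    Ideal.Quotient.mk (relIdeal A' (ψ a) l') (C (ψ r)) := by
  unfold rho0
  rw [eval₂Hom_C]
  rfl

lemma rho0_X (j : Fin l.length) : rho0 ψ a l l' hlen (X j) =
    Ideal.Quotient.mk (relIdeal A' (ψ a) l') (X (Fin.cast hlen.symm j)) := by
  unfold rho0
  rw [eval₂Hom_X']

variable (hget : ∀ j : Fin l'.length, l'.get j = ψ (l.get (Fin.cast hlen j)))

include hget in
lemma rho0_rel (j : Fin l.length) : rho0 ψ a l l' hlen (rel A a l j) = 0 := by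
  have h1 : l'.get (Fin.cast hlen.symm j) = ψ (l.get j) := by
    rw [hget]
    rfl
  unfold rel
  rw [map_sub, map_mul, rho0_C, rho0_C, rho0_X, ← h1, ← map_mul, ← map_sub]
  exact Ideal.Quotient.eq_zero_iff_mem.mpr (rel_mem A' (ψ a) l' _)

include hget in
lemma relIdeal_le_ker_rho0 : relIdeal A a l ≤ RingHom.ker (rho0 ψ a l l' hlen) := by
  unfold relIdeal
  rw [Ideal.span_le]
  rintro _ ⟨j, rfl⟩
  exact rho0_rel ψ a l l' hlen hget j

/-- `A[T]/(aT_j - l_j) → A'[T]/(ψ(a)T_j - l'_j)`. -/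
noncomputable def rho : (MvPolynomial (Fin l.length) A ⧸ relIdeal A a l) →+*
    (MvPolynomial (Fin l'.length) A' ⧸ relIdeal A' (ψ a) l') :=
  Ideal.Quotient.lift (relIdeal A a l) (rho0 ψ a l l' hlen)
    (fun x hx => relIdeal_le_ker_rho0 ψ a l l' hlen hget hx)

lemma rho_mk (x : MvPolynomial (Fin l.length) A) :
    rho ψ a l l' hlen hget (Ideal.Quotient.mk (relIdeal A a l) x) = rho0 ψ a l l' hlen x :=
  Ideal.Quotient.lift_mk _ _ _

lemma rho_algebraMap (r : A) :
    rho ψ a l l' hlen hget (algebraMap A (MvPolynomial (Fin l.length) A ⧸ relIdeal A a l) r) =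
      algebraMap A' (MvPolynomial (Fin l'.length) A' ⧸ relIdeal A' (ψ a) l') (ψ r) := by
  rw [algebraMap_quot, rho_mk, rho0_C, algebraMap_quot]

section desc

variable {D : Type u} [CommRing D]
  (u : (MvPolynomial (Fin l.length) A ⧸ relIdeal A a l) →+* D) (v : A' →+* D)

/-- the descended map on polynomials -/
noncomputable def desc0 : MvPolynomial (Fin l'.length) A' →+* D :=
  MvPolynomial.eval₂Hom v
    (fun j' => u (Ideal.Quotient.mk (relIdeal A a l) (X (Fin.cast hlen j'))))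

lemma desc0_C (r : A') : desc0 a l l' hlen u v (C r) = v r := by
  unfold desc0
  rw [eval₂Hom_C]

lemma desc0_X (j' : Fin l'.length) : desc0 a l l' hlen u v (X j') =
    u (Ideal.Quotient.mk (relIdeal A a l) (X (Fin.cast hlen j'))) := by
  unfold desc0
  rw [eval₂Hom_X']

variable (huv : ∀ r, u (algebraMap A (MvPolynomial (Fin l.length) A ⧸ relIdeal A a l) r) = v (ψ r))

include hget huv in
lemma desc0_rel (j' : Fin l'.length) : desc0 a l l' hlen u v (rel A' (ψ a) l' j') = 0 := by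
  unfold rel
  rw [map_sub, map_mul, desc0_C, desc0_C, desc0_X, hget, ← huv, ← huv, algebraMap_quot,
    algebraMap_quot, ← map_mul, ← map_mul, ← map_sub, ← map_sub]
  have : Ideal.Quotient.mk (relIdeal A a l)
      (C a * X (Fin.cast hlen j') - C (l.get (Fin.cast hlen j'))) = 0 :=
    Ideal.Quotient.eq_zero_iff_mem.mpr (rel_mem A a l _)
  rw [this, map_zero]

include hget huv in
lemma relIdeal_le_ker_desc0 :
    relIdeal A' (ψ a) l' ≤ RingHom.ker (desc0 a l l' hlen u v) := by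
  unfold relIdeal
  rw [Ideal.span_le]
  rintro _ ⟨j, rfl⟩
  exact desc0_rel ψ a l l' hlen hget u v huv j

/-- the descended map -/
noncomputable def desc : (MvPolynomial (Fin l'.length) A' ⧸ relIdeal A' (ψ a) l') →+* D :=
  Ideal.Quotient.lift (relIdeal A' (ψ a) l') (desc0 a l l' hlen u v)
    (fun x hx => relIdeal_le_ker_desc0 ψ a l l' hlen hget u v huv hx)

lemma desc_mk (x : MvPolynomial (Fin l'.length) A') :
    desc ψ a l l' hlen hget u v huv (Ideal.Quotient.mk (relIdeal A' (ψ a) l') x) =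
      desc0 a l l' hlen u v x :=
  Ideal.Quotient.lift_mk _ _ _

lemma desc_algebraMap (r : A') :
    desc ψ a l l' hlen hget u v huv
      (algebraMap A' (MvPolynomial (Fin l'.length) A' ⧸ relIdeal A' (ψ a) l') r) = v r := by
  rw [algebraMap_quot, desc_mk, desc0_C]

lemma desc_rho :
    (desc ψ a l l' hlen hget u v huv).comp (rho ψ a l l' hlen hget) = u := by
  apply Ideal.Quotient.ringHom_ext
  apply MvPolynomial.ringHom_ext
  · intro r
    simp only [RingHom.comp_apply]
    rw [rho_mk, rho0_C, desc_mk, desc0_C, ← huv, algebraMap_quot]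
  · intro j
    simp only [RingHom.comp_apply]
    rw [rho_mk, rho0_X, desc_mk, desc0_X]
    rfl

lemma desc_unique (m : (MvPolynomial (Fin l'.length) A' ⧸ relIdeal A' (ψ a) l') →+* D)
    (h1 : m.comp (rho ψ a l l' hlen hget) = u)
    (h2 : ∀ r, m (algebraMap A' (MvPolynomial (Fin l'.length) A' ⧸ relIdeal A' (ψ a) l') r) = v r) :
    m = desc ψ a l l' hlen hget u v huv := by
  apply Ideal.Quotient.ringHom_ext
  apply MvPolynomial.ringHom_ext
  · intro r
    simp only [RingHom.comp_apply]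
    rw [desc_mk, desc0_C, ← h2, algebraMap_quot]
  · intro j'
    simp only [RingHom.comp_apply]
    rw [desc_mk, desc0_X, ← h1, RingHom.comp_apply, rho_mk, rho0_X]
    rfl

end desc

/-- The presentation of the affine blow-up algebra is compatible with base change. -/
theorem isPushout_rel :
    IsPushout
      (CommRingCat.ofHom (algebraMap A (MvPolynomial (Fin l.length) A ⧸ relIdeal A a l)))
      (CommRingCat.ofHom ψ)
      (CommRingCat.ofHom (rho ψ a l l' hlen hget))
      (CommRingCat.ofHom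
        (algebraMap A' (MvPolynomial (Fin l'.length) A' ⧸ relIdeal A' (ψ a) l'))) := by
  have w : CommRingCat.ofHom (algebraMap A (MvPolynomial (Fin l.length) A ⧸ relIdeal A a l)) ≫
      CommRingCat.ofHom (rho ψ a l l' hlen hget) =
      CommRingCat.ofHom ψ ≫ CommRingCat.ofHom
        (algebraMap A' (MvPolynomial (Fin l'.length) A' ⧸ relIdeal A' (ψ a) l')) := by
    ext r
    exact rho_algebraMap ψ a l l' hlen hget r
  have huv : ∀ s : PushoutCocone
      (CommRingCat.ofHom (algebraMap A (MvPolynomial (Fin l.length) A ⧸ relIdeal A a l)))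
      (CommRingCat.ofHom ψ), ∀ r,
      s.inl.hom (algebraMap A (MvPolynomial (Fin l.length) A ⧸ relIdeal A a l) r) =
        s.inr.hom (ψ r) := by
    intro s r
    have := s.condition
    exact congrArg (fun f => f.hom r) this
  refine ⟨⟨w⟩, ⟨PushoutCocone.IsColimit.mk w
    (fun s => CommRingCat.ofHom (desc ψ a l l' hlen hget s.inl.hom s.inr.hom (huv s)))
    ?_ ?_ ?_⟩⟩
  · intro s
    apply CommRingCat.hom_ext
    apply RingHom.ext
    intro x
    exact RingHom.congr_fun (desc_rho ψ a l l' hlen hget s.inl.hom s.inr.hom (huv s)) x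
  · intro s
    apply CommRingCat.hom_ext
    apply RingHom.ext
    intro r
    exact desc_algebraMap ψ a l l' hlen hget s.inl.hom s.inr.hom (huv s) r
  · intro s m h1 h2
    apply CommRingCat.hom_ext
    have e := desc_unique ψ a l l' hlen hget s.inl.hom s.inr.hom (huv s) m.hom
      (by
        apply RingHom.ext
        intro y
        exact congrArg (fun f => f.hom y) h1)
      (by
        intro r
        exact congrArg (fun f => f.hom r) h2)
    exact e

end ring

section ring2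

open MvPolynomial

variable (A : Type u) [CommRing A] (a : A) (l : List A)

theorem hc_of_kreg (h : LCI.IsKoszulRegularSeq A (a :: l)) (hI : Ideal.ofList (a :: l) ≠ ⊤) :
    ∀ x, C a * x ∈ relIdeal A a l → x ∈ relIdeal A a l := by
  have h2 := kreg_cons_rel A a l h hI
  intro x hx
  rw [← ofList_rel] at hx ⊢
  exact mem_of_mul_mem_of_kreg_cons (C a) _ h2 x hx

theorem nzd_quot (h : LCI.IsKoszulRegularSeq A (a :: l)) (hI : Ideal.ofList (a :: l) ≠ ⊤) :
    algebraMap A (MvPolynomial (Fin l.length) A ⧸ relIdeal A a l) a ∈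
      nonZeroDivisors (MvPolynomial (Fin l.length) A ⧸ relIdeal A a l) := by
  have hc := hc_of_kreg A a l h hI
  have key : ∀ s : MvPolynomial (Fin l.length) A ⧸ relIdeal A a l,
      algebraMap A (MvPolynomial (Fin l.length) A ⧸ relIdeal A a l) a * s = 0 → s = 0 := by
    intro s hs
    obtain ⟨x, rfl⟩ := Ideal.Quotient.mk_surjective s
    rw [algebraMap_quot, ← map_mul, Ideal.Quotient.eq_zero_iff_mem] at hs
    exact Ideal.Quotient.eq_zero_iff_mem.mpr (hc x hs)
  rw [mem_nonZeroDivisors_iff]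
  exact ⟨key, fun s hs => key s (by rwa [mul_comm])⟩

theorem map_ofList_quot :
    (Ideal.ofList (a :: l)).map (algebraMap A (MvPolynomial (Fin l.length) A ⧸ relIdeal A a l)) =
      Ideal.span {algebraMap A (MvPolynomial (Fin l.length) A ⧸ relIdeal A a l) a} := by
  apply le_antisymm
  · rw [Ideal.map_le_iff_le_comap]
    show Ideal.span {r | r ∈ a :: l} ≤ _
    rw [Ideal.span_le]
    intro r hr
    rw [SetLike.mem_coe, Ideal.mem_comap]
    rcases List.mem_cons.mp hr with rfl | hr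
    · exact Ideal.subset_span rfl
    · obtain ⟨j, rfl⟩ := List.get_of_mem hr
      rw [Ideal.mem_span_singleton']
      refine ⟨Ideal.Quotient.mk _ (X j), ?_⟩
      rw [algebraMap_quot, algebraMap_quot, mk_C_get, mul_comm, map_mul]
  · rw [Ideal.span_le, Set.singleton_subset_iff]
    exact Ideal.mem_map_of_mem _ (a_mem A a l)

theorem kreg_of_perm {R : Type u} [CommRing R] {l₁ l₂ : List R} (hp : l₁.Perm l₂)
    (h : LCI.IsKoszulRegularSeq R l₁) : LCI.IsKoszulRegularSeq R l₂ := by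
  obtain ⟨e⟩ := Groth.Agent.Lib.KoszulSwap.koszul_perm R hp
  exact fun i hi =>
    IsZero.of_iso (h i hi) ((HomologicalComplex.homologyFunctor _ _ i).mapIso e.symm)

theorem ofList_perm {R : Type u} [CommRing R] {l₁ l₂ : List R} (hp : l₁.Perm l₂) :
    Ideal.ofList l₁ = Ideal.ofList l₂ := by
  show Ideal.span {r | r ∈ l₁} = Ideal.span {r | r ∈ l₂}
  congr 1
  ext r
  exact hp.mem_iff

end ring2

section scheme

theorem ideal_ne_top_of_mem_support {X : Scheme.{u}} (I : X.IdealSheafData) (U : X.affineOpens)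
    (x : X) (hxU : x ∈ U.1) (hx : x ∈ I.support) : I.ideal U ≠ ⊤ := by
  intro htop
  rw [Scheme.IdealSheafData.mem_support_iff_of_mem hxU, htop, Scheme.mem_zeroLocus_iff] at hx
  apply hx 1 (Submodule.mem_top)
  rw [Scheme.basicOpen_of_isUnit _ isUnit_one]
  exact hxU

/-- An ideal sheaf that pulls back along an open immersion from an affine scheme to a principal
ideal generated by a nonzerodivisor is effective Cartier at the points of the image. -/
theorem effCartierAt_of_openImmersion {T Y : Scheme.{u}} [IsAffine T] (j : T ⟶ Y)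
    [IsOpenImmersion j] (𝓙 : Y.IdealSheafData) (c : Γ(T, ⊤)) (hc : c ∈ nonZeroDivisors Γ(T, ⊤))
    (hJ : (𝓙.comap j).ideal ⟨⊤, isAffineOpen_top T⟩ = Ideal.span {c}) (z : Y)
    (hz : z ∈ Set.range j) :
    ∃ U : Y.affineOpens, z ∈ U.1 ∧ ∃ f : Γ(Y, U.1), f ∈ nonZeroDivisors Γ(Y, U.1) ∧
      𝓙.ideal U = Ideal.span {f} := by
  have hU : IsAffineOpen j.opensRange := isAffineOpen_opensRange j
  have e : (⊤ : T.Opens) ≤ j ⁻¹ᵁ j.opensRange := fun t _ => ⟨t, rfl⟩
  have hbij : Function.Bijective (j.appLE j.opensRange ⊤ e).hom :=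
    CartH8.bijective_appLE_of_image_eq j ⊤ j.opensRange j.image_top_eq_opensRange e
  have h1 := ComapIdH8.comap_ideal j 𝓙 ⟨⊤, isAffineOpen_top T⟩ ⟨j.opensRange, hU⟩ e
  rw [hJ] at h1
  set ε := RingEquiv.ofBijective (j.appLE j.opensRange ⊤ e).hom hbij with hε
  refine ⟨⟨j.opensRange, hU⟩, hz, ε.symm c, ?_, ?_⟩
  · exact AffBlH8.nzd_of_bijective (ε.symm : Γ(T, ⊤) →+* Γ(Y, j.opensRange))
      ε.symm.bijective c hc
  · have h2 : (𝓙.ideal ⟨j.opensRange, hU⟩).map (ε : Γ(Y, j.opensRange) →+* Γ(T, ⊤)) =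
        Ideal.span {c} := h1.symm
    have h3 : 𝓙.ideal ⟨j.opensRange, hU⟩ =
        ((𝓙.ideal ⟨j.opensRange, hU⟩).map (ε : Γ(Y, j.opensRange) →+* Γ(T, ⊤))).map
          (ε.symm : Γ(T, ⊤) →+* Γ(Y, j.opensRange)) :=
      (Ideal.map_of_equiv ε).symm
    rw [h3, h2, Ideal.map_span, Set.image_singleton]
    rfl

end scheme

section main

open MvPolynomial

/-- the presentation `A[T]/(aT_j - l_j)` of `A[I/a]` -/
abbrev Qt (A : Type u) [CommRing A] (a : A) (l : List A) : Type u :=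
  MvPolynomial (Fin l.length) A ⧸ relIdeal A a l

theorem core {A A' : Type u} [CommRing A] [CommRing A'] (ψ : A →+* A') (a : A) (l : List A)
    (hK : LCI.IsKoszulRegularSeq A (a :: l)) (hne : Ideal.ofList (a :: l) ≠ ⊤)
    (hK' : LCI.IsKoszulRegularSeq A' (ψ a :: l.map ψ))
    (hne' : Ideal.ofList (ψ a :: l.map ψ) ≠ ⊤)
    {X X' B : Scheme.{u}} (𝓘 : X.IdealSheafData) (g : X' ⟶ X) (b : B ⟶ X)
    (iU : Spec (CommRingCat.of A) ⟶ X) [IsOpenImmersion iU]
    (iV : Spec (CommRingCat.of A') ⟶ X') [IsOpenImmersion iV]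
    (hUV : Spec.map (CommRingCat.ofHom ψ) ≫ iU = iV ≫ g)
    (h𝓘 : 𝓘.comap iU = AffBlH8.idl (Ideal.ofList (a :: l)))
    (κ : Spec (CommRingCat.of ↥(BlowUp.affineAlgebra A (Ideal.ofList (a :: l)) a)) ⟶ B)
    [IsOpenImmersion κ]
    (hκ : κ ≫ b = AffBlH8.cmap (Ideal.ofList (a :: l)) a ≫ iU)
    (z : ↑(pullback b g)) (hz1 : pullback.fst b g z ∈ Set.range κ)
    (hz2 : pullback.snd b g z ∈ Set.range iV) :
    ∃ U : (pullback b g).affineOpens, z ∈ U.1 ∧ ∃ f : Γ(pullback b g, U.1),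
      f ∈ nonZeroDivisors Γ(pullback b g, U.1) ∧
      ((𝓘.comap g).comap (pullback.snd b g)).ideal U = Ideal.span {f} := by
  have hlen : (l.map ψ).length = l.length := List.length_map ψ
  have hget : ∀ j : Fin (l.map ψ).length, (l.map ψ).get j = ψ (l.get (Fin.cast hlen j)) := by
    intro j
    simp
  have hbij := theta_bijective A a l (hc_of_kreg A a l hK hne)
  set eθ := (RingEquiv.ofBijective (theta A a l) hbij).toCommRingCatIso with heθ
  have hθalg : CommRingCat.ofHom
      (algebraMap A ↥(BlowUp.affineAlgebra A (Ideal.ofList (a :: l)) a)) ≫ eθ.inv =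
      CommRingCat.ofHom (algebraMap A (Qt A a l)) := by
    rw [Iso.comp_inv_eq]
    apply CommRingCat.hom_ext
    apply RingHom.ext
    intro r
    exact (theta_algebraMap A a l r).symm
  have e₁ : Spec.map (CommRingCat.ofHom (algebraMap A (Qt A a l))) ≫ iU =
      (Spec.map eθ.inv ≫ κ) ≫ b := by
    rw [Category.assoc, hκ, ← hθalg, Spec.map_comp, Category.assoc]
  haveI : IsOpenImmersion (Spec.map eθ.inv ≫ κ) := inferInstance
  set M := pullback.map (Spec.map (CommRingCat.ofHom (algebraMap A (Qt A a l))))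
    (Spec.map (CommRingCat.ofHom ψ)) b g (Spec.map eθ.inv ≫ κ) iV iU e₁ hUV with hM
  haveI : IsOpenImmersion M := by
    rw [hM]
    infer_instance
  have hMsnd : M ≫ pullback.snd b g = pullback.snd _ _ ≫ iV := by
    rw [hM]
    exact pullback.lift_snd _ _ _
  have hPO := isPushout_rel ψ a l (l.map ψ) hlen hget
  have hPB := isPullback_SpecMap_of_isPushout _ _ _ _ hPO
  haveI : IsOpenImmersion (hPB.isoPullback.hom ≫ M) := inferInstance
  have hj2 : (hPB.isoPullback.hom ≫ M) ≫ pullback.snd b g =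
      Spec.map (CommRingCat.ofHom (algebraMap A' (Qt A' (ψ a) (l.map ψ)))) ≫ iV := by
    rw [Category.assoc, hMsnd, ← Category.assoc, hPB.isoPullback_hom_snd]
  have hzM : z ∈ Set.range M := by
    rw [hM, Scheme.Pullback.range_map]
    refine ⟨?_, hz2⟩
    obtain ⟨c, hc⟩ := hz1
    refine ⟨Spec.map eθ.hom c, ?_⟩
    rw [← Scheme.Hom.comp_apply, ← Category.assoc, ← Spec.map_comp, Iso.inv_hom_id, Spec.map_id,
      Category.id_comp]
    exact hc
  obtain ⟨w, hw⟩ := hzM
  have hzj : z ∈ Set.range (hPB.isoPullback.hom ≫ M) :=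
    ⟨hPB.isoPullback.inv w, by
      rw [← Scheme.Hom.comp_apply, Iso.inv_hom_id_assoc]
      exact hw⟩
  have hcomap : ((𝓘.comap g).comap (pullback.snd b g)).comap (hPB.isoPullback.hom ≫ M) =
      (AffBlH8.idl (Ideal.ofList (a :: l))).comap (Spec.map (CommRingCat.ofHom
        ((algebraMap A' (Qt A' (ψ a) (l.map ψ))).comp ψ))) := by
    rw [← Scheme.IdealSheafData.comap_comp (𝓘.comap g) (hPB.isoPullback.hom ≫ M)
      (pullback.snd b g), hj2, ← Scheme.IdealSheafData.comap_comp 𝓘 _ g, Category.assoc, ← hUV,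
      ← Category.assoc, Scheme.IdealSheafData.comap_comp 𝓘 _ iU, h𝓘, ← Spec.map_comp]
    rfl
  have hphi : AffBlH8.phi (Spec.map (CommRingCat.ofHom
        ((algebraMap A' (Qt A' (ψ a) (l.map ψ))).comp ψ))) ⊤ =
      ((Scheme.ΓSpecIso (CommRingCat.of (Qt A' (ψ a) (l.map ψ)))).inv.hom).comp
        ((algebraMap A' (Qt A' (ψ a) (l.map ψ))).comp ψ) := by
    unfold AffBlH8.phi
    rw [AffBlH8.appLE_top_top]
    have := Scheme.ΓSpecIso_inv_naturality (CommRingCat.ofHom
      ((algebraMap A' (Qt A' (ψ a) (l.map ψ))).comp ψ))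
    exact (congrArg CommRingCat.Hom.hom this).symm
  have hideal : (((𝓘.comap g).comap (pullback.snd b g)).comap
      (hPB.isoPullback.hom ≫ M)).ideal ⟨⊤, isAffineOpen_top _⟩ =
      Ideal.span {(Scheme.ΓSpecIso (CommRingCat.of (Qt A' (ψ a) (l.map ψ)))).inv.hom
        (algebraMap A' (Qt A' (ψ a) (l.map ψ)) (ψ a))} := by
    rw [hcomap, AffBlH8.comap_idl_ideal, hphi, ← Ideal.map_map, ← Ideal.map_map,
      Ideal.map_ofList]
    show Ideal.map _ (Ideal.map _ (Ideal.ofList (ψ a :: l.map ψ))) = _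
    rw [map_ofList_quot, Ideal.map_span, Set.image_singleton]
  have hnzd : (Scheme.ΓSpecIso (CommRingCat.of (Qt A' (ψ a) (l.map ψ)))).inv.hom
      (algebraMap A' (Qt A' (ψ a) (l.map ψ)) (ψ a)) ∈ nonZeroDivisors _ :=
    AffBlH8.nzd_of_bijective _
      (ConcreteCategory.bijective_of_isIso
        (Scheme.ΓSpecIso (CommRingCat.of (Qt A' (ψ a) (l.map ψ)))).inv) _
      (nzd_quot A' (ψ a) (l.map ψ) hK' hne')
  exact effCartierAt_of_openImmersion (hPB.isoPullback.hom ≫ M) _ _ hnzd hideal z hzj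

theorem effCartier_at {X X' B : Scheme.{u}} (𝓘 : X.IdealSheafData)
    (h𝓘 : RegImm.IsRegularIdeal .koszul 𝓘) (g : X' ⟶ X)
    (hg : ∀ (U : X.affineOpens) (rs : List Γ(X, U.1)), LCI.IsKoszulRegularSeq Γ(X, U.1) rs →
      𝓘.ideal U = Ideal.ofList rs → ∀ (V : X'.affineOpens) (e : V.1 ≤ g ⁻¹ᵁ U.1),
        LCI.IsKoszulRegularSeq Γ(X', V.1) (rs.map fun r => (g.appLE U.1 V.1 e).hom r))
    (b : B ⟶ X) (hb : BlowUp.IsBlowUp b 𝓘) (z : ↑(pullback b g)) :
    ∃ U : (pullback b g).affineOpens, z ∈ U.1 ∧ ∃ f : Γ(pullback b g, U.1),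
      f ∈ nonZeroDivisors Γ(pullback b g, U.1) ∧
      ((𝓘.comap g).comap (pullback.snd b g)).ideal U = Ideal.span {f} := by
  have hcond : b (pullback.fst b g z) = g (pullback.snd b g z) := by
    rw [← Scheme.Hom.comp_apply, ← Scheme.Hom.comp_apply, pullback.condition]
  by_cases hx : g (pullback.snd b g z) ∈ 𝓘.support
  · obtain ⟨U, hxU, rs, hK, hker⟩ := h𝓘 _ hx
    have hU : IsAffineOpen U.1 := U.2
    obtain ⟨_, ⟨V, hV : IsAffineOpen V, rfl⟩, hx'V, hVU⟩ :=
      (X'.isBasis_affineOpens).exists_subset_of_mem_open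
        (show pullback.snd b g z ∈ ((g ⁻¹ᵁ U.1 : X'.Opens) : Set X') from hxU)
        (g ⁻¹ᵁ U.1).isOpen
    have e : V ≤ g ⁻¹ᵁ U.1 := hVU
    have hK' := hg U rs hK hker ⟨V, hV⟩ e
    have hne0 : Ideal.ofList rs ≠ ⊤ := hker ▸ ideal_ne_top_of_mem_support 𝓘 U _ hxU hx
    have hne0' : Ideal.ofList (rs.map (g.appLE U.1 V e).hom) ≠ ⊤ := by
      have h1 := ideal_ne_top_of_mem_support (𝓘.comap g) ⟨V, hV⟩ (pullback.snd b g z) hx'V
        (by rw [Scheme.IdealSheafData.support_comap]; exact hx)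
      rw [ComapIdH8.comap_ideal g 𝓘 ⟨V, hV⟩ U e, hker, Ideal.map_ofList] at h1
      exact h1
    have sq0 := isPullback_morphismRestrict b U.1
    have sq1 : IsPullback hU.isoSpec.hom U.1.ι hU.fromSpec (𝟙 X) :=
      IsPullback.of_horiz_isIso ⟨by rw [hU.isoSpec_hom_fromSpec, Category.comp_id]⟩
    have sq : IsPullback ((b ∣_ U.1) ≫ hU.isoSpec.hom) (b ⁻¹ᵁ U.1).ι hU.fromSpec b := by
      have := sq0.paste_horiz sq1
      rwa [Category.comp_id] at this
    have hbU := isBlowUp_of_isPullback b 𝓘 hb hU.fromSpec _ _ sq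
    have hker' : 𝓘.ideal ⟨U.1, hU⟩ = Ideal.ofList rs := hker
    rw [comap_fromSpec_eq_idl, hker'] at hbU
    have hyU : pullback.fst b g z ∈ b ⁻¹ᵁ U.1 := by
      show b (pullback.fst b g z) ∈ U.1
      rw [hcond]
      exact hxU
    obtain ⟨a, ha, hya⟩ := BlowCov.exists_mem_W (Ideal.ofList rs) _ {x | x ∈ rs} rfl hbU.1
      (⟨pullback.fst b g z, hyU⟩ : ↥(b ⁻¹ᵁ U.1))
    obtain ⟨s, t, rfl⟩ := List.append_of_mem ha
    have hperm : (s ++ a :: t).Perm (a :: (s ++ t)) := List.perm_middle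
    have hid : Ideal.ofList (s ++ a :: t) = Ideal.ofList (a :: (s ++ t)) := ofList_perm hperm
    have hKp := kreg_of_perm hperm hK
    have hKp' : LCI.IsKoszulRegularSeq Γ(X', V)
        ((g.appLE U.1 V e).hom a :: (s ++ t).map (g.appLE U.1 V e).hom) :=
      kreg_of_perm (hperm.map _) hK'
    have hnep : Ideal.ofList (a :: (s ++ t)) ≠ ⊤ := hid ▸ hne0
    have hnep' : Ideal.ofList
        ((g.appLE U.1 V e).hom a :: (s ++ t).map (g.appLE U.1 V e).hom) ≠ ⊤ := by
      have := ofList_perm (hperm.map (g.appLE U.1 V e).hom)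
      rw [List.map_cons] at this
      rw [← this]
      exact hne0'
    rw [hid] at hbU hya
    obtain ⟨κ, hκ, hoi, hr⟩ := BlowCov.exists_chart (Ideal.ofList (a :: (s ++ t))) a _
      (Ideal.subset_span List.mem_cons_self) hbU
    haveI := hoi
    have h𝓘U : 𝓘.comap hU.fromSpec = AffBlH8.idl (Ideal.ofList (a :: (s ++ t))) := by
      rw [comap_fromSpec_eq_idl, hker', hid]
    refine core (g.appLE U.1 V e).hom a (s ++ t) hKp hnep hKp' hnep' 𝓘 g b hU.fromSpec
      hV.fromSpec ?_ h𝓘U (κ ≫ (b ⁻¹ᵁ U.1).ι) ?_ z ?_ ?_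
    · exact IsAffineOpen.SpecMap_appLE_fromSpec g hU hV e
    · rw [Category.assoc, ← morphismRestrict_ι, ← hU.isoSpec_hom_fromSpec, ← hκ]
      simp only [Category.assoc]
    · have hmem : (⟨pullback.fst b g z, hyU⟩ : ↥(b ⁻¹ᵁ U.1)) ∈ Set.range κ := by
        rw [hr]
        exact hya
      obtain ⟨c, hc⟩ := hmem
      exact ⟨c, by rw [Scheme.Hom.comp_apply, hc]; rfl⟩
    · rw [hV.range_fromSpec]
      exact hx'V
  · have hx' : z ∈ ((((pullback.snd b g ≫ g) ⁻¹ᵁ 𝓘.support.compl :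
        (pullback b g).Opens)) : Set ↑(pullback b g)) := by
      show (pullback.snd b g ≫ g) z ∈ 𝓘.support.compl
      rw [Scheme.Hom.comp_apply]
      exact hx
    obtain ⟨_, ⟨N, hN : IsAffineOpen N, rfl⟩, hzN, hNW⟩ :=
      ((pullback b g).isBasis_affineOpens).exists_subset_of_mem_open hx'
        ((pullback.snd b g ≫ g) ⁻¹ᵁ 𝓘.support.compl).isOpen
    obtain ⟨N', rfl⟩ : ∃ N' : (pullback b g).Opens, N' = N := ⟨N, rfl⟩
    haveI : IsAffine (N' : Scheme.{u}) := hN
    have htop : ((𝓘.comap g).comap (pullback.snd b g)).comap N'.ι = ⊤ := by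
      rw [← Scheme.IdealSheafData.comap_comp, ← Scheme.IdealSheafData.comap_comp]
      apply BlowIsoH8.comap_eq_top
      intro y
      exact hNW y.2
    refine effCartierAt_of_openImmersion N'.ι _ 1 (one_mem _) ?_ z
      (by rw [Scheme.Opens.range_ι]; exact hzN)
    rw [htop, Scheme.IdealSheafData.ideal_top, Ideal.span_singleton_one]
    rfl

theorem main14343 {X X' B : Scheme.{u}} (𝓘 : X.IdealSheafData)
    (h𝓘 : RegImm.IsRegularIdeal .koszul 𝓘) (g : X' ⟶ X)
    (hg : ∀ (U : X.affineOpens) (rs : List Γ(X, U.1)), LCI.IsKoszulRegularSeq Γ(X, U.1) rs →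
      𝓘.ideal U = Ideal.ofList rs → ∀ (V : X'.affineOpens) (e : V.1 ≤ g ⁻¹ᵁ U.1),
        LCI.IsKoszulRegularSeq Γ(X', V.1) (rs.map fun r => (g.appLE U.1 V.1 e).hom r))
    (b : B ⟶ X) (hb : BlowUp.IsBlowUp b 𝓘) :
    BlowUp.IsBlowUp (pullback.snd b g) (𝓘.comap g) := by
  refine ⟨fun z => effCartier_at 𝓘 h𝓘 g hg b hb z, ?_⟩
  intro Y h hY
  rw [← Scheme.IdealSheafData.comap_comp] at hY
  obtain ⟨k, hk, hku⟩ := hb.2 Y (h ≫ g) hY
  refine ⟨pullback.lift k h hk, pullback.lift_snd _ _ _, ?_⟩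
  intro t ht
  apply pullback.hom_ext
  · rw [pullback.lift_fst]
    apply hku
    show (t ≫ pullback.fst b g) ≫ b = h ≫ g
    rw [Category.assoc, pullback.condition, ← Category.assoc, ht]
  · rw [pullback.lift_snd]
    exact ht

end main

end Groth.Agent.Lib.BlowBC
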