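import Mathlib
import Groth.Prelude.Def_BlowUp2
import Groth.Agent.Lib.AffBl3_helper8
import Groth.Agent.Lib.BlowBC_helper2

/-!
# A chart criterion for blow-ups of affine schemes (helper2)

If `p : P ⟶ Spec A` is covered by open immersions `j a : Spec A[I/a] ⟶ P` (`a ∈ I`) over `Spec A`
whose overlaps are the expected ones, then `p` is a blowing-up of `Spec A` in `I`.
-/

set_option autoImplicit false
open AlgebraicGeometry CategoryTheory CategoryTheory.Limits TopologicalSpace Opposite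
open QcqsLoc AffBlH8
universe u

namespace Groth.Agent.Lib.BlowChart

variable {A : Type u} [CommRing A] (I : Ideal A)

section good

variable {Y : Scheme.{u}} (g : Y ⟶ Spec (CommRingCat.of A))

theorem exists_good_affine (hg : BlowUp.IsEffCartierIdeal ((idl I).comap g)) (y : Y) :
    ∃ a ∈ I, ∃ V : Y.affineOpens, Good I a g V.1 ∧ y ∈ V.1 := by
  obtain ⟨V₁, hx₁, t, ht, hIt⟩ := hg y
  rw [comap_idl_ideal] at hIt
  by_contra hcon
  push Not at hcon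
  have h1 : I.map (phi g V₁.1) ≤ (V₁.2.primeIdealOf ⟨y, hx₁⟩).asIdeal * Ideal.span {t} := by
    rw [Ideal.map_le_iff_le_comap]
    intro a ha
    rw [Ideal.mem_comap]
    have h2 : phi g V₁.1 a ∈ Ideal.span {t} := hIt ▸ Ideal.mem_map_of_mem _ ha
    rw [Ideal.mem_span_singleton'] at h2
    obtain ⟨d, hd⟩ := h2
    have hgd := good_basicOpen I a g V₁ t d ht hIt hd.symm
    have hnot := hcon a ha ⟨Y.basicOpen d, V₁.2.basicOpen d⟩ hgd
    have hdp : d ∈ (V₁.2.primeIdealOf ⟨y, hx₁⟩).asIdeal := by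
      rw [CartDimH8.mem_primeIdealOf_iff]
      exact hnot
    rw [Ideal.mem_mul_span_singleton]
    exact ⟨d, hdp, hd⟩
  have h3 : t ∈ (V₁.2.primeIdealOf ⟨y, hx₁⟩).asIdeal * Ideal.span {t} :=
    h1 (hIt ▸ Ideal.mem_span_singleton_self t)
  rw [Ideal.mem_mul_span_singleton] at h3
  obtain ⟨c, hc, hct⟩ := h3
  have h4 : t * (c - 1) = 0 := by
    rw [mul_sub, mul_one, mul_comm, hct, sub_self]
  have h5 : c = 1 := sub_eq_zero.mp ((mem_nonZeroDivisors_iff.mp ht).1 _ h4)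
  exact (V₁.2.primeIdealOf ⟨y, hx₁⟩).isPrime.ne_top
    (Ideal.eq_top_of_isUnit_mem _ hc (h5 ▸ isUnit_one))

theorem good_of_le (a : A) (V : Y.affineOpens) (hV : Good I a g V.1) (N : Y.Opens)
    (hN : N ≤ V.1) : Good I a g N := by
  constructor
  · have key : ∀ s, phi g N a * s = 0 → s = 0 := by
      intro s hs
      rw [phi_res g hN, RingHom.comp_apply] at hs
      exact CartH8.eq_zero_of_res_mul_eq_zero V.2 _ hV.1 hN s hs
    rw [mem_nonZeroDivisors_iff]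
    exact ⟨key, fun s hs => key s (by rwa [mul_comm])⟩
  · intro x hx
    obtain ⟨y, hy⟩ := hV.2 x hx
    refine ⟨rX hN y, ?_⟩
    rw [phi_res g hN, RingHom.comp_apply, RingHom.comp_apply, hy, map_mul]

theorem good_top_of_good (a : A) (N : Y.Opens) (hN : Good I a g N) :
    Good I a (N.ι ≫ g) (⊤ : N.toScheme.Opens) := by
  have e : (⊤ : N.toScheme.Opens) ≤ N.ι ⁻¹ᵁ N := fun x _ => x.2
  have hbij := CartH8.bijective_appLE_of_image_eq N.ι ⊤ N N.ι_image_top e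
  have hφ : phi (N.ι ≫ g) ⊤ = (N.ι.appLE N ⊤ e).hom.comp (phi g N) := phi_comp N.ι g N ⊤ e
  constructor
  · rw [hφ, RingHom.comp_apply]
    exact nzd_of_bijective _ hbij _ hN.1
  · intro x hx
    obtain ⟨y, hy⟩ := hN.2 x hx
    exact ⟨(N.ι.appLE N ⊤ e).hom y, by
      rw [hφ, RingHom.comp_apply, RingHom.comp_apply, hy, map_mul]⟩

end good

section charts

variable {P : Scheme.{u}} (p : P ⟶ Spec (CommRingCat.of A))
  (j : ∀ a : I, Spec (CommRingCat.of ↥(BlowUp.affineAlgebra A I a.1)) ⟶ P)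
  [∀ a, IsOpenImmersion (j a)]
  (hj : ∀ a, j a ≫ p = cmap I a.1)
  (hcov : ∀ x : P, ∃ a : I, x ∈ Set.range (j a))
  (hov : ∀ (a c : I) (q : Spec (CommRingCat.of ↥(BlowUp.affineAlgebra A I c.1))),
      gen I c.1 a.1 a.2 ∉ (q : PrimeSpectrum ↥(BlowUp.affineAlgebra A I c.1)).asIdeal →
        (j c) q ∈ Set.range (j a))

include hj hcov in
theorem cartier : BlowUp.IsEffCartierIdeal ((idl I).comap p) := by
  intro x
  obtain ⟨a, hx⟩ := hcov x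
  refine Groth.Agent.Lib.BlowBC.effCartierAt_of_openImmersion (j a) ((idl I).comap p)
    (phi (cmap I a.1) ⊤ a.1) (phi_cmap_top_nzd I a.1) ?_ x hx
  rw [← Scheme.IdealSheafData.comap_comp, hj a, comap_idl_ideal]
  apply le_antisymm
  · rw [Ideal.map_le_iff_le_comap]
    intro x hx
    obtain ⟨y, hy⟩ := phi_cmap_top_mem I a.1 x hx
    rw [Ideal.mem_comap, Ideal.mem_span_singleton']
    exact ⟨y, hy.symm⟩
  · rw [Ideal.span_singleton_le_iff_mem]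
    exact Ideal.mem_map_of_mem _ a.2

include hj hcov hov in
theorem image_subset {T : Scheme.{u}} (h : T ⟶ P) (a : I) (V : T.affineOpens)
    (hV : Good I a.1 (h ≫ p) V.1) (t : T) (ht : t ∈ V.1) : h t ∈ Set.range (j a) := by
  obtain ⟨c, q0, hq0⟩ := hcov (h t)
  obtain ⟨N, hNdef⟩ : ∃ N : T.Opens, N = V.1 ⊓ h ⁻¹ᵁ (j c).opensRange := ⟨_, rfl⟩
  have hNV : N ≤ V.1 := hNdef ▸ inf_le_left
  have hNr : N ≤ h ⁻¹ᵁ (j c).opensRange := hNdef ▸ inf_le_right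
  have htN : t ∈ N := by
    rw [hNdef]
    exact ⟨ht, ⟨q0, hq0⟩⟩
  have hN : Good I a.1 (h ≫ p) N := good_of_le I (h ≫ p) a.1 V hV N hNV
  have hNtop := good_top_of_good I (h ≫ p) a.1 N hN
  have hrange : Set.range (N.ι ≫ h) ⊆ Set.range (j c) := by
    rintro _ ⟨x, rfl⟩
    exact hNr x.2
  obtain ⟨l, hl⟩ : ∃ l : N.toScheme ⟶ Spec (CommRingCat.of ↥(BlowUp.affineAlgebra A I c.1)),
      l ≫ j c = N.ι ≫ h :=
    ⟨IsOpenImmersion.lift (j c) (N.ι ≫ h) hrange, IsOpenImmersion.lift_fac _ _ _⟩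
  have hlc : l ≫ cmap I c.1 = N.ι ≫ h ≫ p := by
    rw [← hj c, ← Category.assoc, hl, Category.assoc]
  have hρ := rho_comp_algebraMap I c.1 l ⊤
  rw [hlc] at hρ
  obtain ⟨u, hu⟩ := hNtop.2 c.1 c.2
  have h1 : phi (N.ι ≫ h ≫ p) ⊤ a.1 =
      phi (N.ι ≫ h ≫ p) ⊤ c.1 * rho I c.1 l ⊤ (gen I c.1 a.1 a.2) := by
    rw [← hρ, RingHom.comp_apply, RingHom.comp_apply, ← map_mul, a_mul_gen]
  have h2 : phi (N.ι ≫ h ≫ p) ⊤ a.1 * (u * rho I c.1 l ⊤ (gen I c.1 a.1 a.2) - 1) = 0 := by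
    linear_combination (-1) * h1 - rho I c.1 l ⊤ (gen I c.1 a.1 a.2) * hu
  have h3 : u * rho I c.1 l ⊤ (gen I c.1 a.1 a.2) = 1 :=
    sub_eq_zero.mp ((mem_nonZeroDivisors_iff.mp hNtop.1).1 _ h2)
  have hunit : IsUnit (rho I c.1 l ⊤ (gen I c.1 a.1 a.2)) := IsUnit.of_mul_eq_one_right u h3
  obtain ⟨s, hs⟩ : ∃ s : Γ(Spec (CommRingCat.of ↥(BlowUp.affineAlgebra A I c.1)), ⊤),
      s = (Scheme.ΓSpecIso (CommRingCat.of ↥(BlowUp.affineAlgebra A I c.1))).inv.hom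
        (gen I c.1 a.1 a.2) := ⟨_, rfl⟩
  have hunit' : IsUnit ((l.appLE ⊤ ⊤ le_top).hom s) := by
    rw [hs]
    exact hunit
  have h5 : (N.toScheme).basicOpen ((l.appLE ⊤ ⊤ le_top).hom s) =
      ⊤ ⊓ l ⁻¹ᵁ ((Spec (CommRingCat.of ↥(BlowUp.affineAlgebra A I c.1))).basicOpen s) :=
    Scheme.basicOpen_appLE l ⊤ ⊤ le_top s
  have h6 : (N.toScheme).basicOpen ((l.appLE ⊤ ⊤ le_top).hom s) = ⊤ :=
    Scheme.basicOpen_of_isUnit _ hunit'
  have h7 : (⟨t, htN⟩ : N.toScheme) ∈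
      ⊤ ⊓ l ⁻¹ᵁ ((Spec (CommRingCat.of ↥(BlowUp.affineAlgebra A I c.1))).basicOpen s) := by
    rw [← h5, h6]
    trivial
  have h8 : l ⟨t, htN⟩ ∈
      (Spec (CommRingCat.of ↥(BlowUp.affineAlgebra A I c.1))).basicOpen s := h7.2
  have h9 : (Spec (CommRingCat.of ↥(BlowUp.affineAlgebra A I c.1))).basicOpen s =
      PrimeSpectrum.basicOpen (gen I c.1 a.1 a.2) := by
    rw [hs]
    exact basicOpen_eq_of_affine _
  rw [h9] at h8
  have h10 := hov a c (l ⟨t, htN⟩) h8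
  have h11 : (j c) (l ⟨t, htN⟩) = h t := by
    rw [← Scheme.Hom.comp_apply, hl, Scheme.Hom.comp_apply]
    rfl
  rw [← h11]
  exact h10

include hj hcov hov in
theorem hom_ext_charts {T : Scheme.{u}} (h₁ h₂ : T ⟶ P) (e : h₁ ≫ p = h₂ ≫ p)
    (hc : BlowUp.IsEffCartierIdeal ((idl I).comap (h₁ ≫ p))) : h₁ = h₂ := by
  apply Scheme.hom_ext_of_forall
  intro t
  obtain ⟨a, ha, V, hV, htV⟩ := exists_good_affine I (h₁ ≫ p) hc t
  refine ⟨V.1, htV, ?_⟩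
  have hV2 : Good I a (h₂ ≫ p) V.1 := e ▸ hV
  have hr1 : Set.range (V.1.ι ≫ h₁) ⊆ Set.range (j ⟨a, ha⟩) := by
    rintro _ ⟨x, rfl⟩
    exact image_subset I p j hj hcov hov h₁ ⟨a, ha⟩ V hV x.1 x.2
  have hr2 : Set.range (V.1.ι ≫ h₂) ⊆ Set.range (j ⟨a, ha⟩) := by
    rintro _ ⟨x, rfl⟩
    exact image_subset I p j hj hcov hov h₂ ⟨a, ha⟩ V hV2 x.1 x.2
  obtain ⟨l₁, hl₁⟩ : ∃ l : V.1.toScheme ⟶ Spec (CommRingCat.of ↥(BlowUp.affineAlgebra A I a)),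
      l ≫ j ⟨a, ha⟩ = V.1.ι ≫ h₁ :=
    ⟨IsOpenImmersion.lift (j ⟨a, ha⟩) (V.1.ι ≫ h₁) hr1, IsOpenImmersion.lift_fac _ _ _⟩
  obtain ⟨l₂, hl₂⟩ : ∃ l : V.1.toScheme ⟶ Spec (CommRingCat.of ↥(BlowUp.affineAlgebra A I a)),
      l ≫ j ⟨a, ha⟩ = V.1.ι ≫ h₂ :=
    ⟨IsOpenImmersion.lift (j ⟨a, ha⟩) (V.1.ι ≫ h₂) hr2, IsOpenImmersion.lift_fac _ _ _⟩
  have hc1 : l₁ ≫ cmap I a = V.1.ι ≫ h₁ ≫ p := by
    rw [← hj ⟨a, ha⟩, ← Category.assoc, hl₁, Category.assoc]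
  have hc2 : l₂ ≫ cmap I a = V.1.ι ≫ h₂ ≫ p := by
    rw [← hj ⟨a, ha⟩, ← Category.assoc, hl₂, Category.assoc]
  have hl : l₁ = l₂ := by
    apply hom_ext I a l₁ l₂ (by rw [hc1, hc2, e])
    rw [hc2]
    exact (good_top_of_good I (h₂ ≫ p) a V.1 hV2).1
  rw [← hl₁, ← hl₂, hl]

include hj hcov hov in
/-- The chart criterion. -/
theorem isBlowUp_of_charts : BlowUp.IsBlowUp p (idl I) := by
  refine ⟨cartier I p j hj hcov, ?_⟩
  intro Y g hg
  have hloc : ∀ y : Y, ∃ (V : Y.Opens) (_ : y ∈ V) (k : V.toScheme ⟶ P), k ≫ p = V.ι ≫ g := by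
    intro y
    obtain ⟨a, ha, V, hV, hyV⟩ := exists_good_affine I g hg y
    obtain ⟨l, hl⟩ := exists_lift I a g V.1 hV.1 hV.2
    exact ⟨V.1, hyV, l ≫ j ⟨a, ha⟩, by rw [Category.assoc, hj ⟨a, ha⟩, hl]⟩
  choose V hyV k hk using hloc
  have hcover : IsOpenCover V := by
    apply eq_top_iff.mpr
    intro y _
    exact Opens.mem_iSup.mpr ⟨y, hyV y⟩
  have key : ∃ 𝒰 : Y.OpenCover, ∀ x : 𝒰.I₀, ∃ k : 𝒰.X x ⟶ P, k ≫ p = 𝒰.f x ≫ g :=
    ⟨Y.openCoverOfIsOpenCover V hcover, fun x => ⟨k x, hk x⟩⟩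
  obtain ⟨𝒰, h𝒰⟩ := key
  choose k' hk' using h𝒰
  have hcompat : ∀ x y : 𝒰.I₀,
      pullback.fst (𝒰.f x) (𝒰.f y) ≫ k' x = pullback.snd (𝒰.f x) (𝒰.f y) ≫ k' y := by
    intro x y
    apply hom_ext_charts I p j hj hcov hov
    · rw [Category.assoc, Category.assoc, hk' x, hk' y, ← Category.assoc, ← Category.assoc]
      congr 1
      exact pullback.condition
    · rw [Category.assoc, hk' x, ← Category.assoc, Scheme.IdealSheafData.comap_comp]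
      exact CartH8.isEffCartier_comap_of_flat _ _ hg
  have hglue : 𝒰.glueMorphisms k' hcompat ≫ p = g := by
    apply 𝒰.hom_ext
    intro x
    rw [← Category.assoc, Scheme.Cover.ι_glueMorphisms]
    exact hk' x
  refine ⟨𝒰.glueMorphisms k' hcompat, hglue, ?_⟩
  intro h' hh'
  apply hom_ext_charts I p j hj hcov hov
  · rw [hh', hglue]
  · rw [hh']
    exact hg

end charts

end Groth.Agent.Lib.BlowChart
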