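import Mathlib
import Groth.Agent.Lib.LocalCrit9_helper9
import Groth.Agent.Lib.LocalCrit_helper9

/-!
# Kernels of surjections between flat modules are flat
-/

namespace Groth.Agent.Lib.LocalCrit11

open TensorProduct Groth.Agent.Lib.LocalCrit9

universe u

/-- If `f : P → E` is injective, `E` is flat and `E / P` is flat, then `P` is flat. -/
theorem flat_of_injective_of_flat_coker {R : Type u} [CommRing R] {P E : Type u}
    [AddCommGroup P] [Module R P] [AddCommGroup E] [Module R E] (f : P →ₗ[R] E)
    (hf : Function.Injective f) [Module.Flat R E] [Module.Flat R (E ⧸ LinearMap.range f)] :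
    Module.Flat R P := by
  rw [Module.Flat.iff_rTensor_injective']
  intro I
  have h1 : Function.Injective (f.lTensor I) := lTensor_injective_of_flat_coker f hf I
  have h2 : Function.Injective (I.subtype.rTensor E) :=
    Module.Flat.rTensor_preserves_injective_linearMap _ (Submodule.injective_subtype I)
  have h3 : Function.Injective ((f.lTensor R) ∘ₗ (I.subtype.rTensor P)) := by
    rw [LinearMap.lTensor_comp_rTensor, ← LinearMap.rTensor_comp_lTensor, LinearMap.coe_comp]
    exact h2.comp h1
  rw [LinearMap.coe_comp] at h3
  exact Function.Injective.of_comp h3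

/-- Same with an explicit surjection `g : E → Q` whose kernel is the range of `f`. -/
theorem flat_of_exact_of_flat {R : Type u} [CommRing R] {P E Q : Type u}
    [AddCommGroup P] [Module R P] [AddCommGroup E] [Module R E] [AddCommGroup Q] [Module R Q]
    (f : P →ₗ[R] E) (g : E →ₗ[R] Q)
    (hf : Function.Injective f) (hfg : Function.Exact f g) (hg : Function.Surjective g)
    [Module.Flat R E] [Module.Flat R Q] : Module.Flat R P := by
  haveI : Module.Flat R (E ⧸ LinearMap.range f) :=
    Module.Flat.of_linearEquiv (hfg.linearEquivOfSurjective hg)
  exact flat_of_injective_of_flat_coker f hf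

/-- A product of two flat modules is flat. -/
theorem flat_prod {R : Type*} [CommRing R] (M N : Type*) [AddCommGroup M] [Module R M]
    [AddCommGroup N] [Module R N] [Module.Flat R M] [Module.Flat R N] : Module.Flat R (M × N) := by
  refine Groth.Agent.Lib.LocalCrit.flat_of_exact (LinearMap.inl R M N) (LinearMap.snd R M N)
    LinearMap.inl_injective ?_ LinearMap.snd_surjective
  intro x
  constructor
  · intro hx
    exact ⟨x.1, Prod.ext rfl (by simpa using hx.symm)⟩
  · rintro ⟨y, rfl⟩
    rfl

end Groth.Agent.Lib.LocalCrit11
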