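import Mathlib
import Groth.Prelude.Def_BlowUp2
import Groth.Agent.Lib.LocalCrit_helper9
import Groth.Agent.Lib.LocalCrit11_helper9

/-!
# Flatness of sums and differences of relative effective Cartier divisors (helper9)
-/

set_option autoImplicit false
set_option backward.isDefEq.respectTransparency false

universe u

open TensorProduct

namespace Groth.Agent.Lib.CartierFlat

section Algebra

variable {B : Type u} [CommRing B]

/-- Multiplication by `a` as a map `B ⧸ J → B ⧸ (span {a} * J)`. -/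
noncomputable def mulQ (a : B) (J : Ideal B) : (B ⧸ J) →ₗ[B] (B ⧸ (Ideal.span {a} * J)) :=
  Submodule.liftQ J ((Submodule.mkQ (Ideal.span {a} * J)) ∘ₗ (LinearMap.mulLeft B a)) (by
    intro x hx
    simp only [LinearMap.mem_ker, LinearMap.comp_apply, LinearMap.mulLeft_apply,
      Submodule.mkQ_apply]
    rw [Submodule.Quotient.mk_eq_zero]
    exact Ideal.mul_mem_mul (Ideal.mem_span_singleton_self a) hx)

theorem mulQ_mk (a : B) (J : Ideal B) (x : B) :
    mulQ a J (Submodule.Quotient.mk x) = Submodule.Quotient.mk (a * x) := rfl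

theorem mulQ_injective (a : B) (ha : a ∈ nonZeroDivisors B) (J : Ideal B) :
    Function.Injective (mulQ a J) := by
  rw [injective_iff_map_eq_zero]
  intro y hy
  obtain ⟨x, rfl⟩ := Submodule.Quotient.mk_surjective _ y
  rw [mulQ_mk, Submodule.Quotient.mk_eq_zero] at hy
  obtain ⟨z, hz, hz'⟩ := Ideal.mem_span_singleton_mul.mp hy
  have : z = x := by
    have h0 : a * (z - x) = 0 := by rw [mul_sub, hz', sub_self]
    have := (mem_nonZeroDivisors_iff.mp ha).1 _ h0
    exact sub_eq_zero.mp this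
  rw [Submodule.Quotient.mk_eq_zero]
  exact this ▸ hz

theorem mul_le_span (a : B) (J : Ideal B) : Ideal.span {a} * J ≤ Ideal.span {a} := by
  intro x hx
  obtain ⟨z, -, rfl⟩ := Ideal.mem_span_singleton_mul.mp hx
  exact Ideal.mul_mem_right _ _ (Ideal.mem_span_singleton_self a)

theorem exact_mulQ_factor (a : B) (J : Ideal B) :
    Function.Exact (mulQ a J) (Submodule.factor (mul_le_span a J)) := by
  intro y
  obtain ⟨b, rfl⟩ := Submodule.Quotient.mk_surjective _ y
  constructor
  · intro hb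
    have hb' : b ∈ Ideal.span {a} := by
      have : Submodule.factor (mul_le_span a J) (Submodule.Quotient.mk b) =
          Submodule.Quotient.mk b := rfl
      rw [this, Submodule.Quotient.mk_eq_zero] at hb
      exact hb
    obtain ⟨c, rfl⟩ := Ideal.mem_span_singleton'.mp hb'
    exact ⟨Submodule.Quotient.mk c, by rw [mulQ_mk, mul_comm a c]⟩
  · rintro ⟨z, hz⟩
    obtain ⟨c, rfl⟩ := Submodule.Quotient.mk_surjective _ z
    rw [← hz, mulQ_mk]
    have : Submodule.factor (mul_le_span a J) (Submodule.Quotient.mk (a * c)) =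
        Submodule.Quotient.mk (a * c) := rfl
    rw [this, Submodule.Quotient.mk_eq_zero]
    exact Ideal.mul_mem_right _ _ (Ideal.mem_span_singleton_self a)

variable {A : Type u} [CommRing A] [Algebra A B]

theorem flat_quot_mul_module (a : B) (ha : a ∈ nonZeroDivisors B) (J : Ideal B)
    [Module.Flat A (B ⧸ Ideal.span {a})] [Module.Flat A (B ⧸ J)] :
    Module.Flat A (B ⧸ (Ideal.span {a} * J)) :=
  Groth.Agent.Lib.LocalCrit.flat_of_exact ((mulQ a J).restrictScalars A)
    ((Submodule.factor (mul_le_span a J)).restrictScalars A)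
    (mulQ_injective a ha J) (exact_mulQ_factor a J) (Submodule.factor_surjective (mul_le_span a J))

theorem flat_quot_of_mul_module (a : B) (ha : a ∈ nonZeroDivisors B) (J : Ideal B)
    [Module.Flat A (B ⧸ Ideal.span {a})] [Module.Flat A (B ⧸ (Ideal.span {a} * J))] :
    Module.Flat A (B ⧸ J) :=
  Groth.Agent.Lib.LocalCrit11.flat_of_exact_of_flat ((mulQ a J).restrictScalars A)
    ((Submodule.factor (mul_le_span a J)).restrictScalars A)
    (mulQ_injective a ha J) (exact_mulQ_factor a J) (Submodule.factor_surjective (mul_le_span a J))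

omit [Algebra A B] in
theorem flat_comp_mk_iff (φ : A →+* B) (J : Ideal B) :
    ((Ideal.Quotient.mk J).comp φ).Flat ↔
      (letI := φ.toAlgebra; Module.Flat A (B ⧸ J)) := by
  letI := φ.toAlgebra
  have : (Ideal.Quotient.mk J).comp φ = algebraMap A (B ⧸ J) := rfl
  rw [this, RingHom.flat_algebraMap_iff]

omit [Algebra A B] in
theorem flat_quot_mul (φ : A →+* B) (a : B) (ha : a ∈ nonZeroDivisors B) (J : Ideal B)
    (h₁ : ((Ideal.Quotient.mk (Ideal.span {a})).comp φ).Flat)
    (h₂ : ((Ideal.Quotient.mk J).comp φ).Flat) :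
    ((Ideal.Quotient.mk (Ideal.span {a} * J)).comp φ).Flat := by
  rw [flat_comp_mk_iff] at h₁ h₂ ⊢
  letI := φ.toAlgebra
  exact flat_quot_mul_module a ha J

omit [Algebra A B] in
theorem flat_quot_of_mul (φ : A →+* B) (a : B) (ha : a ∈ nonZeroDivisors B) (J : Ideal B)
    (h₁ : ((Ideal.Quotient.mk (Ideal.span {a})).comp φ).Flat)
    (h₂ : ((Ideal.Quotient.mk (Ideal.span {a} * J)).comp φ).Flat) :
    ((Ideal.Quotient.mk J).comp φ).Flat := by
  rw [flat_comp_mk_iff] at h₁ h₂ ⊢
  letI := φ.toAlgebra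
  exact flat_quot_of_mul_module a ha J

theorem map_mem_nonZeroDivisors_of_flat {R S : Type*} [CommRing R] [CommRing S] (φ : R →+* S)
    (hφ : φ.Flat) {r : R} (hr : r ∈ nonZeroDivisors R) : φ r ∈ nonZeroDivisors S := by
  letI := φ.toAlgebra
  haveI : Module.Flat R S := hφ
  have h := Module.Flat.isSMulRegular_of_nonZeroDivisors (M := S) hr
  rw [mem_nonZeroDivisors_iff_right]
  intro s hs
  apply h
  simp only [smul_zero]
  rw [Algebra.smul_def, mul_comm]
  exact hs

end Algebra

section Scheme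

open AlgebraicGeometry CategoryTheory

variable {X S : Scheme.{u}}

theorem stableSource_flat :
    RingHom.StableUnderCompositionWithLocalizationAwaySource RingHom.Flat :=
  fun _ S _ _ _ _ _ r _ _ hf => RingHom.Flat.comp (RingHom.Flat.holdsForLocalizationAway S r) hf

theorem flat_appLE_iff (I : X.IdealSheafData) (f : X ⟶ S) (V : S.affineOpens)
    (W : X.affineOpens) (e : W.1 ≤ f ⁻¹ᵁ V.1)
    (e' : I.subschemeι ⁻¹ᵁ W.1 ≤ (I.subschemeι ≫ f) ⁻¹ᵁ V.1) :
    ((I.subschemeι ≫ f).appLE V.1 (I.subschemeι ⁻¹ᵁ W.1) e').hom.Flat ↔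
      ((Ideal.Quotient.mk (I.ideal W)).comp (f.appLE V.1 W.1 e).hom).Flat := by
  have h1 : (I.subschemeι ≫ f).appLE V.1 (I.subschemeι ⁻¹ᵁ W.1) e' =
      f.appLE V.1 W.1 e ≫ I.subschemeι.app W.1 := by
    rw [Scheme.Hom.app_eq_appLE, Scheme.Hom.appLE_comp_appLE]
  rw [h1, I.subschemeι_app W]
  simp only [CommRingCat.hom_comp, CommRingCat.hom_ofHom]
  rw [RingHom.comp_assoc]
  exact RingHom.Flat.comp_iff_of_bijective_left
    (ConcreteCategory.bijective_of_isIso (I.subschemeObjIso W).inv)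

theorem flat_quot_of_flat (I : X.IdealSheafData) (f : X ⟶ S) (hf : Flat (I.subschemeι ≫ f))
    (V : S.affineOpens) (W : X.affineOpens) (e : W.1 ≤ f ⁻¹ᵁ V.1) :
    ((Ideal.Quotient.mk (I.ideal W)).comp (f.appLE V.1 W.1 e).hom).Flat := by
  have e' : I.subschemeι ⁻¹ᵁ W.1 ≤ (I.subschemeι ≫ f) ⁻¹ᵁ V.1 := fun z hz => e hz
  rw [← flat_appLE_iff I f V W e e']
  exact HasRingHomProperty.appLE (P := @Flat) _ hf V ⟨_, W.2.preimage I.subschemeι⟩ e'

theorem flat_of_forall_exists (I : X.IdealSheafData) (f : X ⟶ S)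
    (H : ∀ x : X, ∃ (V : S.affineOpens) (W : X.affineOpens) (_ : x ∈ W.1)
      (e : W.1 ≤ f ⁻¹ᵁ V.1), ((Ideal.Quotient.mk (I.ideal W)).comp (f.appLE V.1 W.1 e).hom).Flat) :
    Flat (I.subschemeι ≫ f) := by
  rw [HasRingHomProperty.iff_exists_appLE (P := @Flat) stableSource_flat]
  intro z
  obtain ⟨V, W, hxW, e, hflat⟩ := H (I.subschemeι z)
  have e' : I.subschemeι ⁻¹ᵁ W.1 ≤ (I.subschemeι ≫ f) ⁻¹ᵁ V.1 := fun z hz => e hz
  refine ⟨V, ⟨_, W.2.preimage I.subschemeι⟩, hxW, e', ?_⟩
  rw [flat_appLE_iff I f V W e e']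
  exact hflat

/-- Restriction between affine opens is flat. -/
theorem flat_res (U V : X.affineOpens) (h : U ≤ V) :
    (X.presheaf.map (homOfLE (X := X.Opens) h).op).hom.Flat := by
  have h1 := HasRingHomProperty.appLE (P := @Flat) (𝟙 X) inferInstance V U h
  simpa [Scheme.Hom.appLE] using h1

/-- An effective Cartier ideal is principal, generated by a nonzerodivisor, on all small enough
affine opens around a point. -/
theorem exists_affine_principal (I : X.IdealSheafData) (hI : BlowUp.IsEffCartierIdeal I) (x : X) :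
    ∃ U₀ : X.affineOpens, x ∈ U₀.1 ∧ ∀ W : X.affineOpens, W ≤ U₀ →
      ∃ g : Γ(X, W.1), g ∈ nonZeroDivisors Γ(X, W.1) ∧ I.ideal W = Ideal.span {g} := by
  obtain ⟨U₀, hx, g, hg, hIg⟩ := hI x
  refine ⟨U₀, hx, fun W hW => ⟨(X.presheaf.map (homOfLE (X := X.Opens) hW).op).hom g, ?_, ?_⟩⟩
  · exact map_mem_nonZeroDivisors_of_flat _ (flat_res W U₀ hW) hg
  · rw [← I.map_ideal hW, hIg, Ideal.map_span, Set.image_singleton]
    rfl

/-- A common small affine neighbourhood inside a given open. -/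
theorem exists_affine_le (x : X) (U : X.Opens) (hx : x ∈ U) :
    ∃ W : X.affineOpens, x ∈ W.1 ∧ W.1 ≤ U := by
  obtain ⟨W, hW, hxW, hWU⟩ := TopologicalSpace.Opens.isBasis_iff_nbhd.mp X.isBasis_affineOpens hx
  exact ⟨⟨W, hW⟩, hxW, hWU⟩

end Scheme

end Groth.Agent.Lib.CartierFlat
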