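import Mathlib
import Groth.Prelude.Def_BlowUp2
import Groth.Agent.Lib.AffBl1_helper8
import Groth.Agent.Lib.LocalCrit11_helper9
import Groth.Agent.Lib.CartierFlat_helper9

/-!
# Flatness of the exceptional divisor of a normally flat blow-up: algebra (helper2, S2896)

If `A/I^{n+1}` is `R`-flat for all `n`, then `A[I/a]/(a)` is `R`-flat (it is the colimit of the
flat modules `I^n/I^{n+1}` along multiplication by `a`; proved through the equational criterion).
APPEND-ONLY once landed.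
-/

set_option autoImplicit false
set_option maxHeartbeats 400000
set_option backward.isDefEq.respectTransparency false
universe u

namespace Groth.Agent.Lib.BlowFlat

open AffBlH8

section alg

variable {A : Type u} [CommRing A] (I : Ideal A) (a : A)

theorem exists_of_mem_pow (N : ℕ) : ∀ w ∈ I ^ N, ∃ b : ↥(BlowUp.affineAlgebra A I a),
    algebraMap A ↥(BlowUp.affineAlgebra A I a) a ^ N * b =
      algebraMap A ↥(BlowUp.affineAlgebra A I a) w := by
  induction N with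
  | zero =>
    intro w _
    exact ⟨algebraMap A _ w, by rw [pow_zero, one_mul]⟩
  | succ N ih =>
    intro w hw
    rw [pow_succ] at hw
    refine Submodule.mul_induction_on (C := fun w => ∃ b : ↥(BlowUp.affineAlgebra A I a),
      algebraMap A ↥(BlowUp.affineAlgebra A I a) a ^ (N + 1) * b =
        algebraMap A ↥(BlowUp.affineAlgebra A I a) w) hw ?_ ?_
    · intro p hp q hq
      obtain ⟨bp, hbp⟩ := ih p hp
      refine ⟨bp * gen I a q hq, ?_⟩
      rw [map_mul, ← hbp, ← a_mul_gen I a q hq, pow_succ]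
      ring
    · rintro p q ⟨bp, hbp⟩ ⟨bq, hbq⟩
      exact ⟨bp + bq, by rw [mul_add, hbp, hbq, map_add]⟩

theorem exists_pow_mul_eq (ha : a ∈ I) (b : ↥(BlowUp.affineAlgebra A I a)) :
    ∃ N : ℕ, ∃ w ∈ I ^ N, algebraMap A ↥(BlowUp.affineAlgebra A I a) a ^ N * b =
      algebraMap A ↥(BlowUp.affineAlgebra A I a) w := by
  obtain ⟨q, hq⟩ := b
  induction hq using Algebra.adjoin_induction with
  | mem q hq =>
    obtain ⟨x, hx, rfl⟩ := hq
    refine ⟨1, x, by rw [pow_one]; exact hx, ?_⟩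
    rw [pow_one]
    exact a_mul_gen I a x hx
  | algebraMap r =>
    refine ⟨0, r, by rw [pow_zero, Ideal.one_eq_top]; exact Submodule.mem_top, ?_⟩
    rw [pow_zero, one_mul]
    rfl
  | add x y hx hy ihx ihy =>
    obtain ⟨N1, w1, hw1, h1⟩ := ihx
    obtain ⟨N2, w2, hw2, h2⟩ := ihy
    refine ⟨N1 + N2, a ^ N2 * w1 + a ^ N1 * w2, ?_, ?_⟩
    · apply Ideal.add_mem
      · rw [add_comm N1 N2, pow_add]
        exact Ideal.mul_mem_mul (Ideal.pow_mem_pow ha N2) hw1
      · rw [pow_add]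
        exact Ideal.mul_mem_mul (Ideal.pow_mem_pow ha N1) hw2
    · have : (⟨x + y, add_mem hx hy⟩ : ↥(BlowUp.affineAlgebra A I a)) = ⟨x, hx⟩ + ⟨y, hy⟩ := rfl
      rw [this, map_add, map_mul, map_mul, map_pow, map_pow, ← h1, ← h2, pow_add]
      ring
  | mul x y hx hy ihx ihy =>
    obtain ⟨N1, w1, hw1, h1⟩ := ihx
    obtain ⟨N2, w2, hw2, h2⟩ := ihy
    refine ⟨N1 + N2, w1 * w2, by rw [pow_add]; exact Ideal.mul_mem_mul hw1 hw2, ?_⟩
    have : (⟨x * y, mul_mem hx hy⟩ : ↥(BlowUp.affineAlgebra A I a)) = ⟨x, hx⟩ * ⟨y, hy⟩ := rfl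
    rw [this, map_mul, ← h1, ← h2, pow_add]
    ring

theorem exists_pow_mul_eq_zero (u : A)
    (hu : algebraMap A ↥(BlowUp.affineAlgebra A I a) u = 0) : ∃ k : ℕ, a ^ k * u = 0 := by
  have h1 : algebraMap A (Localization.Away a) u = 0 := congrArg Subtype.val hu
  obtain ⟨⟨_, k, rfl⟩, hk⟩ :=
    (IsLocalization.map_eq_zero_iff (Submonoid.powers a) (Localization.Away a) u).mp h1
  exact ⟨k, hk⟩

theorem mem_span_of_mem_pow_succ (N : ℕ) (b : ↥(BlowUp.affineAlgebra A I a)) (w : A)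
    (hw : w ∈ I ^ (N + 1))
    (h : algebraMap A ↥(BlowUp.affineAlgebra A I a) a ^ N * b =
      algebraMap A ↥(BlowUp.affineAlgebra A I a) w) :
    b ∈ Ideal.span {algebraMap A ↥(BlowUp.affineAlgebra A I a) a} := by
  obtain ⟨b', hb'⟩ := exists_of_mem_pow I a (N + 1) w hw
  have hnz : algebraMap A ↥(BlowUp.affineAlgebra A I a) a ^ N ∈
      nonZeroDivisors ↥(BlowUp.affineAlgebra A I a) := pow_mem (a_nzd I a) N
  have h0 : algebraMap A ↥(BlowUp.affineAlgebra A I a) a ^ N *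
      (b - algebraMap A ↥(BlowUp.affineAlgebra A I a) a * b') = 0 := by
    rw [mul_sub, h, ← hb', pow_succ]
    ring
  have h1 := (mem_nonZeroDivisors_iff.mp hnz).1 _ h0
  rw [Ideal.mem_span_singleton']
  exact ⟨b', by rw [mul_comm]; exact (sub_eq_zero.mp h1).symm⟩

theorem exists_common_level (ha : a ∈ I) {l : ℕ} (r : Fin l → A)
    (b : Fin l → ↥(BlowUp.affineAlgebra A I a))
    (hrel : ∑ i, algebraMap A ↥(BlowUp.affineAlgebra A I a) (r i) * b i ∈
      Ideal.span {algebraMap A ↥(BlowUp.affineAlgebra A I a) a}) :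
    ∃ (N : ℕ) (u : Fin l → A), (∀ i, u i ∈ I ^ N) ∧
      (∀ i, algebraMap A ↥(BlowUp.affineAlgebra A I a) a ^ N * b i =
        algebraMap A ↥(BlowUp.affineAlgebra A I a) (u i)) ∧
      ∑ i, r i * u i ∈ I ^ (N + 1) := by
  choose Nb wb hwb hb using fun i => exists_pow_mul_eq I a ha (b i)
  obtain ⟨c, hc⟩ := Ideal.mem_span_singleton'.mp hrel
  obtain ⟨Nc, wc, hwc, hcc⟩ := exists_pow_mul_eq I a ha c
  obtain ⟨N0, hN0⟩ : ∃ N0, N0 = ∑ i, Nb i := ⟨_, rfl⟩
  have hle : ∀ i, Nb i ≤ N0 := fun i => by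
    rw [hN0]
    exact Finset.single_le_sum (fun _ _ => Nat.zero_le _) (Finset.mem_univ i)
  have hu1 : ∀ i, a ^ (N0 + Nc - Nb i) * wb i ∈ I ^ (N0 + Nc) := by
    intro i
    have h1 : N0 + Nc = (N0 + Nc - Nb i) + Nb i := by have := hle i; omega
    rw [h1, pow_add, ← h1]
    exact Ideal.mul_mem_mul (Ideal.pow_mem_pow ha _) (hwb i)
  have hb1 : ∀ i, algebraMap A ↥(BlowUp.affineAlgebra A I a) a ^ (N0 + Nc) * b i =
      algebraMap A ↥(BlowUp.affineAlgebra A I a) (a ^ (N0 + Nc - Nb i) * wb i) := by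
    intro i
    have h1 : N0 + Nc = (N0 + Nc - Nb i) + Nb i := by have := hle i; omega
    rw [map_mul, map_pow, ← hb i]
    nth_rw 1 [h1]
    rw [pow_add]
    ring
  have hv1 : a ^ (N0 + 1) * wc ∈ I ^ (N0 + Nc + 1) := by
    have h1 : N0 + Nc + 1 = (N0 + 1) + Nc := by omega
    rw [h1, pow_add]
    exact Ideal.mul_mem_mul (Ideal.pow_mem_pow ha _) hwc
  have hz : algebraMap A ↥(BlowUp.affineAlgebra A I a)
      (∑ i, r i * (a ^ (N0 + Nc - Nb i) * wb i) - a ^ (N0 + 1) * wc) = 0 := by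
    rw [map_sub, map_sum, sub_eq_zero]
    have h1 : ∀ i ∈ Finset.univ, algebraMap A ↥(BlowUp.affineAlgebra A I a)
        (r i * (a ^ (N0 + Nc - Nb i) * wb i)) =
        algebraMap A ↥(BlowUp.affineAlgebra A I a) a ^ (N0 + Nc) *
          (algebraMap A ↥(BlowUp.affineAlgebra A I a) (r i) * b i) := by
      intro i _
      rw [map_mul, ← hb1 i]
      ring
    rw [Finset.sum_congr rfl h1, ← Finset.mul_sum, ← hc, map_mul, map_pow, ← hcc]
    ring
  obtain ⟨k, hk⟩ := exists_pow_mul_eq_zero I a _ hz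
  refine ⟨N0 + Nc + k, fun i => a ^ k * (a ^ (N0 + Nc - Nb i) * wb i), ?_, ?_, ?_⟩
  · intro i
    rw [add_comm (N0 + Nc) k, pow_add]
    exact Ideal.mul_mem_mul (Ideal.pow_mem_pow ha k) (hu1 i)
  · intro i
    rw [map_mul (algebraMap A ↥(BlowUp.affineAlgebra A I a)) (a ^ k), ← hb1 i, map_pow, pow_add]
    ring
  · have h1 : ∑ i, r i * (a ^ k * (a ^ (N0 + Nc - Nb i) * wb i)) =
        a ^ k * (a ^ (N0 + 1) * wc) := by
      have h2 : ∑ i, r i * (a ^ k * (a ^ (N0 + Nc - Nb i) * wb i)) =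
          a ^ k * ∑ i, r i * (a ^ (N0 + Nc - Nb i) * wb i) := by
        rw [Finset.mul_sum]
        apply Finset.sum_congr rfl
        intro i _
        ring
      rw [h2]
      rw [mul_sub] at hk
      exact sub_eq_zero.mp hk
    rw [h1]
    have h3 : N0 + Nc + k + 1 = k + (N0 + Nc + 1) := by omega
    rw [h3, pow_add]
    exact Ideal.mul_mem_mul (Ideal.pow_mem_pow ha k) hv1

theorem exists_trivialization {R : Type u} [CommRing R] [Algebra R A] (N : ℕ)
    [Module.Flat R (A ⧸ I ^ N)] [Module.Flat R (A ⧸ I ^ (N + 1))] {l : ℕ} (f : Fin l → R)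
    (u : Fin l → A) (hu : ∀ i, u i ∈ I ^ N)
    (hrel : ∑ i, algebraMap R A (f i) * u i ∈ I ^ (N + 1)) :
    ∃ (k : ℕ) (c : Fin l → Fin k → R) (w : Fin k → A), (∀ j, w j ∈ I ^ N) ∧
      (∀ i, u i - ∑ j, algebraMap R A (c i j) * w j ∈ I ^ (N + 1)) ∧
      ∀ j, ∑ i, f i * c i j = 0 := by
  have hle : I ^ (N + 1) ≤ I ^ N := Ideal.pow_le_pow_right (Nat.le_succ N)
  obtain ⟨g, hg⟩ : ∃ g : (A ⧸ I ^ (N + 1)) →ₗ[R] (A ⧸ I ^ N),
      ∀ z, g z = Submodule.factor hle z := ⟨(Submodule.factor hle).restrictScalars R, fun _ => rfl⟩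
  have hgsurj : Function.Surjective g := by
    intro z
    obtain ⟨z', hz'⟩ := Submodule.factor_surjective hle z
    exact ⟨z', by rw [hg, hz']⟩
  haveI : Module.Flat R (LinearMap.ker g) :=
    Groth.Agent.Lib.LocalCrit11.flat_of_exact_of_flat (LinearMap.ker g).subtype g
      (LinearMap.ker g).injective_subtype (LinearMap.exact_subtype_ker_map g) hgsurj
  have hmk : ∀ z : A, Submodule.Quotient.mk (p := I ^ (N + 1)) z ∈ LinearMap.ker g ↔ z ∈ I ^ N := by
    intro z
    rw [LinearMap.mem_ker, hg]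
    show Submodule.Quotient.mk (p := I ^ N) z = 0 ↔ _
    rw [Submodule.Quotient.mk_eq_zero]
  have hsm : ∀ (r : R) (z : A), r • Submodule.Quotient.mk (p := I ^ (N + 1)) z =
      Submodule.Quotient.mk (p := I ^ (N + 1)) (algebraMap R A r * z) := by
    intro r z
    rw [← Submodule.Quotient.mk_smul, Algebra.smul_def]
  have hsumq : ∀ {n : ℕ} (s : Fin n → A),
      ∑ i, Submodule.Quotient.mk (p := I ^ (N + 1)) (s i) =
        Submodule.Quotient.mk (p := I ^ (N + 1)) (∑ i, s i) := fun s =>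
    (map_sum (Submodule.mkQ (I ^ (N + 1))) s Finset.univ).symm
  obtain ⟨x, hx⟩ : ∃ x : Fin l → LinearMap.ker g,
      ∀ i, (x i : A ⧸ I ^ (N + 1)) = Submodule.Quotient.mk (u i) :=
    ⟨fun i => ⟨Submodule.Quotient.mk (u i), (hmk _).mpr (hu i)⟩, fun _ => rfl⟩
  have hsum : ∑ i, f i • x i = 0 := by
    apply Subtype.ext
    rw [Submodule.coe_sum, Submodule.coe_zero]
    have h1 : ∀ i ∈ Finset.univ, ((f i • x i : LinearMap.ker g) : A ⧸ I ^ (N + 1)) =
        Submodule.Quotient.mk (p := I ^ (N + 1)) (algebraMap R A (f i) * u i) := by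
      intro i _
      rw [Submodule.coe_smul, hx, hsm]
    rw [Finset.sum_congr rfl h1, hsumq, Submodule.Quotient.mk_eq_zero]
    exact hrel
  obtain ⟨k, c, y, hy1, hy2⟩ := Module.Flat.isTrivialRelation_of_sum_smul_eq_zero hsum
  choose w hw using fun j => Submodule.Quotient.mk_surjective (I ^ (N + 1)) (y j : A ⧸ I ^ (N + 1))
  refine ⟨k, c, w, ?_, ?_, hy2⟩
  · intro j
    rw [← hmk, hw j]
    exact (y j).2
  · intro i
    have h1 := congrArg Subtype.val (hy1 i)
    rw [hx, Submodule.coe_sum] at h1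
    have h2 : ∀ j ∈ Finset.univ, ((c i j • y j : LinearMap.ker g) : A ⧸ I ^ (N + 1)) =
        Submodule.Quotient.mk (p := I ^ (N + 1)) (algebraMap R A (c i j) * w j) := by
      intro j _
      rw [Submodule.coe_smul, ← hw j, hsm]
    rw [Finset.sum_congr rfl h2, hsumq] at h1
    exact (Submodule.Quotient.eq _).mp h1

theorem flat_quot {R : Type u} [CommRing R] (φ : R →+* A) (ha : a ∈ I)
    (hflat : ∀ n : ℕ, ((Ideal.Quotient.mk (I ^ (n + 1))).comp φ).Flat)
    {C : Type u} [CommRing C] (σ : ↥(BlowUp.affineAlgebra A I a) →+* C)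
    (hσ : Function.Bijective σ) :
    ((Ideal.Quotient.mk (Ideal.span {σ (algebraMap A ↥(BlowUp.affineAlgebra A I a) a)})).comp
      (σ.comp ((algebraMap A ↥(BlowUp.affineAlgebra A I a)).comp φ))).Flat := by
  rw [Groth.Agent.Lib.CartierFlat.flat_comp_mk_iff]
  letI : Algebra R A := φ.toAlgebra
  have hflat' : ∀ n, Module.Flat R (A ⧸ I ^ n) := by
    intro n
    cases n with
    | zero =>
      haveI : Subsingleton (A ⧸ I ^ 0) := by
        rw [pow_zero, Ideal.one_eq_top]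
        exact Ideal.Quotient.subsingleton_iff.mpr rfl
      infer_instance
    | succ n => exact (Groth.Agent.Lib.CartierFlat.flat_comp_mk_iff φ (I ^ (n + 1))).mp (hflat n)
  letI : Algebra R C :=
    (σ.comp ((algebraMap A ↥(BlowUp.affineAlgebra A I a)).comp φ)).toAlgebra
  refine Module.Flat.of_forall_isTrivialRelation ?_
  intro l f x hx
  choose c0 hc0 using fun i => Ideal.Quotient.mk_surjective (x i)
  choose b hb using fun i => hσ.2 (c0 i)
  have hsm : ∀ (r : R) (z : C),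
      r • Ideal.Quotient.mk (Ideal.span {σ (algebraMap A ↥(BlowUp.affineAlgebra A I a) a)}) z =
      Ideal.Quotient.mk (Ideal.span {σ (algebraMap A ↥(BlowUp.affineAlgebra A I a) a)})
        (σ (algebraMap A ↥(BlowUp.affineAlgebra A I a) (φ r)) * z) := by
    intro r z
    rfl
  have hrel : ∑ i, algebraMap A ↥(BlowUp.affineAlgebra A I a) (φ (f i)) * b i ∈
      Ideal.span {algebraMap A ↥(BlowUp.affineAlgebra A I a) a} := by
    have h1 : σ (∑ i, algebraMap A ↥(BlowUp.affineAlgebra A I a) (φ (f i)) * b i) ∈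
        Ideal.span {σ (algebraMap A ↥(BlowUp.affineAlgebra A I a) a)} := by
      rw [← Ideal.Quotient.eq_zero_iff_mem, map_sum, map_sum, ← hx]
      apply Finset.sum_congr rfl
      intro i _
      rw [← hc0 i, hsm, map_mul, hb i]
    rw [Ideal.mem_span_singleton'] at h1 ⊢
    obtain ⟨d, hd⟩ := h1
    obtain ⟨d', rfl⟩ := hσ.2 d
    exact ⟨d', hσ.1 (by rw [map_mul, hd])⟩
  obtain ⟨N, u, hu, hub, hsum⟩ := exists_common_level I a ha (fun i => φ (f i)) b hrel
  haveI := hflat' N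
  haveI := hflat' (N + 1)
  obtain ⟨k, c, w, hw, hdiff, hc⟩ := exists_trivialization I N f u hu hsum
  choose cb hcb using fun j => exists_of_mem_pow I a N (w j) (hw j)
  refine ⟨k, c, fun j => Ideal.Quotient.mk _ (σ (cb j)), ?_, hc⟩
  intro i
  rw [← hc0 i, ← hb i]
  have h1 : ∀ j ∈ Finset.univ, c i j •
      Ideal.Quotient.mk (Ideal.span {σ (algebraMap A ↥(BlowUp.affineAlgebra A I a) a)})
        (σ (cb j)) =
      Ideal.Quotient.mk (Ideal.span {σ (algebraMap A ↥(BlowUp.affineAlgebra A I a) a)})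
        (σ (algebraMap A ↥(BlowUp.affineAlgebra A I a) (φ (c i j)) * cb j)) := fun j _ => by
    rw [hsm, map_mul σ]
  rw [Finset.sum_congr rfl h1, ← map_sum, ← map_sum, ← sub_eq_zero, ← map_sub, ← map_sub,
    Ideal.Quotient.eq_zero_iff_mem]
  have h2 : b i - ∑ j, algebraMap A ↥(BlowUp.affineAlgebra A I a) (φ (c i j)) * cb j ∈
      Ideal.span {algebraMap A ↥(BlowUp.affineAlgebra A I a) a} := by
    apply mem_span_of_mem_pow_succ I a N _ (u i - ∑ j, φ (c i j) * w j) (hdiff i)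
    rw [mul_sub, hub, Finset.mul_sum, map_sub, map_sum]
    congr 1
    apply Finset.sum_congr rfl
    intro j _
    rw [map_mul, ← hcb j]
    ring
  rw [Ideal.mem_span_singleton'] at h2 ⊢
  obtain ⟨d, hd⟩ := h2
  exact ⟨σ d, by rw [← map_mul, hd]⟩

end alg

end Groth.Agent.Lib.BlowFlat
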