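import Mathlib
import Groth.Prelude.Def_Rees
import Groth.Prelude.Def_BlowUp2
import Groth.Agent.Lib.AffBl1_helper8
import Groth.Agent.Lib.BlowFlat_helper2

/-!
# Charts of `Proj` of the Rees algebra (helper2)

For an ideal `I` of `A` and `a ∈ I`, the homogeneous localization of the Rees algebra
`⊕ Iⁿ Xⁿ` away from `aX` is isomorphic, as an `A`-algebra, to the affine blow-up algebra `A[I/a]`.
-/

set_option autoImplicit false
universe u
open Polynomial HomogeneousLocalization

namespace Groth.Agent.Lib.ReesChart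

variable {A : Type u} [CommRing A] (I : Ideal A)

/-- `w Xⁿ` for `w ∈ Iⁿ`, as an element of the Rees algebra. -/
noncomputable def mX (n : ℕ) (w : A) (hw : w ∈ I ^ n) : ↥(reesAlgebra I) :=
  ⟨monomial n w, reesAlgebra.monomial_mem.mpr hw⟩

theorem mX_mem (n : ℕ) (w : A) (hw : w ∈ I ^ n) :
    mX I n w hw ∈ Rees.deg (reesAlgebra I) n := by
  intro m hm
  show (monomial n w).coeff m = 0
  rw [coeff_monomial, if_neg (fun h => hm h.symm)]

theorem eq_mX {n : ℕ} (x : ↥(reesAlgebra I)) (hx : x ∈ Rees.deg (reesAlgebra I) n) :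
    x = mX I n ((x : A[X]).coeff n) (x.2 n) := by
  apply Subtype.ext
  apply Polynomial.ext
  intro m
  show _ = (monomial n _).coeff m
  rw [coeff_monomial]
  split_ifs with h
  · rw [h]
  · exact hx m (Ne.symm h)

theorem mX_mul (n m : ℕ) (w v : A) (hw : w ∈ I ^ n) (hv : v ∈ I ^ m) :
    mX I n w hw * mX I m v hv =
      mX I (n + m) (w * v) (by rw [pow_add]; exact Ideal.mul_mem_mul hw hv) := by
  apply Subtype.ext
  show monomial n w * monomial m v = monomial (n + m) (w * v)
  rw [monomial_mul_monomial]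

/-- `cX` for `c ∈ I`. -/
noncomputable def fX (c : A) (hc : c ∈ I) : ↥(reesAlgebra I) :=
  mX I 1 c (by rwa [pow_one])

theorem fX_mem (c : A) (hc : c ∈ I) : fX I c hc ∈ Rees.deg (reesAlgebra I) 1 :=
  mX_mem I 1 c _

theorem fX_pow (c : A) (hc : c ∈ I) (n : ℕ) :
    fX I c hc ^ n = mX I n (c ^ n) (Ideal.pow_mem_pow hc n) := by
  apply Subtype.ext
  show (monomial 1 c) ^ n = monomial n (c ^ n)
  rw [monomial_pow, one_mul]

/-- evaluation at `X = 1`. -/
noncomputable def ev : ↥(reesAlgebra I) →+* A :=
  (Polynomial.evalRingHom (1 : A)).comp (reesAlgebra I).val.toRingHom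

theorem ev_mX (n : ℕ) (w : A) (hw : w ∈ I ^ n) : ev I (mX I n w hw) = w := by
  show Polynomial.eval 1 (monomial n w) = w
  rw [eval_monomial, one_pow, mul_one]

theorem ev_algebraMap (r : A) : ev I (algebraMap A ↥(reesAlgebra I) r) = r := by
  show Polynomial.eval 1 (C r) = r
  exact eval_C

/-- the chart ring: the homogeneous localization of the Rees algebra away from `aX`. -/
noncomputable abbrev Ch (a : A) (ha : a ∈ I) : Type u :=
  HomogeneousLocalization.Away (Rees.deg (reesAlgebra I)) (fX I a ha)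

variable (a : A) (ha : a ∈ I)

noncomputable def theta0 : Localization.Away (fX I a ha) →+* Localization.Away a :=
  Localization.awayLift ((algebraMap A (Localization.Away a)).comp (ev I)) (fX I a ha)
    (by
      rw [RingHom.comp_apply, fX, ev_mX]
      exact IsLocalization.Away.algebraMap_isUnit a)

theorem theta0_algebraMap (y : ↥(reesAlgebra I)) :
    theta0 I a ha (algebraMap ↥(reesAlgebra I) (Localization.Away (fX I a ha)) y) =
      algebraMap A (Localization.Away a) (ev I y) := by
  unfold theta0 Localization.awayLift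
  exact IsLocalization.Away.lift_eq _ _ _

/-- the map from the chart ring to `A_a`. -/
noncomputable def theta : Ch I a ha →+* Localization.Away a :=
  (theta0 I a ha).comp (algebraMap (Ch I a ha) (Localization.Away (fX I a ha)))

theorem theta_mk (n : ℕ) (x : ↥(reesAlgebra I)) (hx : x ∈ Rees.deg (reesAlgebra I) (n • 1)) :
    theta I a ha (Away.mk (Rees.deg (reesAlgebra I)) (fX_mem I a ha) n x hx) *
      algebraMap A (Localization.Away a) (a ^ n) =
      algebraMap A (Localization.Away a) (ev I x) := by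
  have h1 : (Away.mk (Rees.deg (reesAlgebra I)) (fX_mem I a ha) n x hx).val *
      algebraMap ↥(reesAlgebra I) (Localization.Away (fX I a ha)) (fX I a ha ^ n) =
      algebraMap ↥(reesAlgebra I) (Localization.Away (fX I a ha)) x := by
    rw [Away.val_mk, Localization.mk_eq_mk']
    exact IsLocalization.mk'_spec _ _ _
  have h2 := congrArg (theta0 I a ha) h1
  rw [map_mul, theta0_algebraMap, theta0_algebraMap, fX_pow, ev_mX] at h2
  exact h2

/-- `w Xⁿ / (aX)ⁿ`. -/
noncomputable def mkC (n : ℕ) (w : A) (hw : w ∈ I ^ n) : Ch I a ha :=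
  Away.mk (Rees.deg (reesAlgebra I)) (fX_mem I a ha) n (mX I n w hw)
    (by rw [smul_eq_mul, mul_one]; exact mX_mem I n w hw)

theorem theta_mkC (n : ℕ) (w : A) (hw : w ∈ I ^ n) :
    theta I a ha (mkC I a ha n w hw) * algebraMap A (Localization.Away a) (a ^ n) =
      algebraMap A (Localization.Away a) w := by
  unfold mkC
  rw [theta_mk, ev_mX]

theorem mkC_eq_zero (n : ℕ) (w : A) (hw : w ∈ I ^ n) (k : ℕ) (h : a ^ k * w = 0) :
    mkC I a ha n w hw = 0 := by
  apply HomogeneousLocalization.val_injective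
  rw [HomogeneousLocalization.val_zero]
  unfold mkC
  rw [Away.val_mk, Localization.mk_eq_mk', IsLocalization.mk'_eq_zero_iff]
  refine ⟨⟨fX I a ha ^ k, k, rfl⟩, ?_⟩
  show fX I a ha ^ k * mX I n w hw = 0
  rw [fX_pow, mX_mul]
  apply Subtype.ext
  show monomial (k + n) (a ^ k * w) = 0
  rw [h, monomial_zero_right]

theorem mkC_surjective (z : Ch I a ha) : ∃ (n : ℕ) (w : A) (hw : w ∈ I ^ n),
    z = mkC I a ha n w hw := by
  obtain ⟨n, x, hx, rfl⟩ := Away.mk_surjective _ (fX_mem I a ha) z
  have hx' : x ∈ Rees.deg (reesAlgebra I) n := by rwa [smul_eq_mul, mul_one] at hx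
  obtain ⟨w, hw, rfl⟩ : ∃ (w : A) (hw : w ∈ I ^ n), x = mX I n w hw :=
    ⟨_, x.2 n, eq_mX I x hx'⟩
  exact ⟨n, w, hw, rfl⟩

theorem theta_injective : Function.Injective (theta I a ha) := by
  rw [injective_iff_map_eq_zero]
  intro z hz
  obtain ⟨n, w, hw, rfl⟩ := mkC_surjective I a ha z
  have h1 := theta_mkC I a ha n w hw
  rw [hz, zero_mul] at h1
  obtain ⟨⟨_, k, rfl⟩, hk⟩ :=
    (IsLocalization.map_eq_zero_iff (Submonoid.powers a) (Localization.Away a) w).mp h1.symm
  exact mkC_eq_zero I a ha n w hw k hk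

/-- the structure map `A → (R_{aX})₀`. -/
noncomputable def phiC : A →+* Ch I a ha :=
  (algebraMap (Rees.deg (reesAlgebra I) 0) (Ch I a ha)).comp
    (algebraMap A (Rees.deg (reesAlgebra I) 0))

theorem theta_phiC (r : A) :
    theta I a ha (phiC I a ha r) = algebraMap A (Localization.Away a) r := by
  have h1 : (phiC I a ha r).val =
      algebraMap ↥(reesAlgebra I) (Localization.Away (fX I a ha))
        (algebraMap A ↥(reesAlgebra I) r) := by
    unfold phiC
    rw [RingHom.comp_apply, HomogeneousLocalization.algebraMap_eq]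
    show (HomogeneousLocalization.mk _).val = _
    rw [HomogeneousLocalization.val_mk]
    exact Localization.mk_one_eq_algebraMap _
  show theta0 I a ha (phiC I a ha r).val = _
  rw [h1, theta0_algebraMap, ev_algebraMap]

theorem isUnit_pow (n : ℕ) : IsUnit (algebraMap A (Localization.Away a) (a ^ n)) := by
  rw [map_pow]
  exact (IsLocalization.Away.algebraMap_isUnit a).pow n

theorem theta_mem (z : Ch I a ha) : theta I a ha z ∈ BlowUp.affineAlgebra A I a := by
  obtain ⟨n, w, hw, rfl⟩ := mkC_surjective I a ha z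
  obtain ⟨b, hb⟩ := Groth.Agent.Lib.BlowFlat.exists_of_mem_pow I a n w hw
  have h1 := theta_mkC I a ha n w hw
  have h2 : (b : Localization.Away a) * algebraMap A _ (a ^ n) = algebraMap A _ w := by
    have h3 := congrArg (BlowUp.affineAlgebra A I a).val hb
    rw [map_mul, map_pow, AlgHom.commutes, AlgHom.commutes] at h3
    rw [map_pow, mul_comm]
    exact h3
  have h4 : theta I a ha (mkC I a ha n w hw) = (b : Localization.Away a) :=
    (isUnit_pow a n).mul_left_injective (h1.trans h2.symm)
  rw [h4]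
  exact b.2

/-- the chart ring maps to the affine blow-up algebra. -/
noncomputable def thetaR : Ch I a ha →+* ↥(BlowUp.affineAlgebra A I a) :=
  (theta I a ha).codRestrict (BlowUp.affineAlgebra A I a) (theta_mem I a ha)

theorem thetaR_coe (z : Ch I a ha) :
    ((thetaR I a ha z : ↥(BlowUp.affineAlgebra A I a)) : Localization.Away a) = theta I a ha z :=
  rfl

theorem thetaR_phiC (r : A) :
    thetaR I a ha (phiC I a ha r) = algebraMap A ↥(BlowUp.affineAlgebra A I a) r :=
  Subtype.ext (theta_phiC I a ha r)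

theorem thetaR_bijective : Function.Bijective (thetaR I a ha) := by
  constructor
  · intro z z' h
    exact theta_injective I a ha (congrArg Subtype.val h)
  · intro b
    obtain ⟨N, w, hw, hb⟩ := Groth.Agent.Lib.BlowFlat.exists_pow_mul_eq I a ha b
    refine ⟨mkC I a ha N w hw, ?_⟩
    apply Subtype.ext
    rw [thetaR_coe]
    have h1 := theta_mkC I a ha N w hw
    have h2 : (b : Localization.Away a) * algebraMap A _ (a ^ N) = algebraMap A _ w := by
      have h3 := congrArg (BlowUp.affineAlgebra A I a).val hb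
      rw [map_mul, map_pow, AlgHom.commutes, AlgHom.commutes] at h3
      rw [map_pow, mul_comm]
      exact h3
    exact (isUnit_pow a N).mul_left_injective (h1.trans h2.symm)

/-- the overlap element `(aX)/(cX)` of the `c`-chart corresponds to `a/c`. -/
theorem thetaR_isLocalizationElem (c : A) (hc : c ∈ I) :
    thetaR I c hc (Away.isLocalizationElem (fX_mem I c hc) (fX_mem I a ha)) =
      AffBlH8.gen I c a ha := by
  apply Subtype.ext
  rw [thetaR_coe]
  have h1 := theta_mk I c hc 1 (fX I a ha ^ 1)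
    (by rw [pow_one, smul_eq_mul, mul_one]; exact fX_mem I a ha)
  have h2 : ((AffBlH8.gen I c a ha : ↥(BlowUp.affineAlgebra A I c)) : Localization.Away c) *
      algebraMap A _ (c ^ 1) = algebraMap A _ (ev I (fX I a ha ^ 1)) := by
    rw [pow_one, pow_one, fX, ev_mX]
    show IsLocalization.mk' (Localization.Away c) a ⟨c, Submonoid.mem_powers c⟩ * _ = _
    exact IsLocalization.mk'_spec _ _ _
  exact (isUnit_pow c 1).mul_left_injective (h1.trans h2.symm)

/-- the degree one elements `cX` generate the Rees algebra over its degree zero part. -/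
theorem adjoin_fX_eq_top :
    Algebra.adjoin ↥(Rees.deg (reesAlgebra I) 0) (Set.range fun c : I => fX I c.1 c.2) = ⊤ := by
  rw [eq_top_iff]
  rintro ⟨y, hy⟩ -
  have hy' := hy
  rw [← adjoin_monomial_eq_reesAlgebra] at hy'
  induction hy' using Algebra.adjoin_induction with
  | mem y h =>
    obtain ⟨c, hc, rfl⟩ := h
    exact Algebra.subset_adjoin ⟨⟨c, hc⟩, rfl⟩
  | algebraMap r =>
    have h0 : (⟨algebraMap A A[X] r, hy⟩ : ↥(reesAlgebra I)) ∈ Rees.deg (reesAlgebra I) 0 := by
      intro m hm
      show (C r).coeff m = 0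
      rw [coeff_C, if_neg (show ¬ m = 0 from hm)]
    exact Subalgebra.algebraMap_mem _ (⟨_, h0⟩ : ↥(Rees.deg (reesAlgebra I) 0))
  | add y z hy1 hz1 ihy ihz =>
    have hy2 : y ∈ reesAlgebra I := by rw [← adjoin_monomial_eq_reesAlgebra]; exact hy1
    have hz2 : z ∈ reesAlgebra I := by rw [← adjoin_monomial_eq_reesAlgebra]; exact hz1
    exact add_mem (ihy hy2) (ihz hz2)
  | mul y z hy1 hz1 ihy ihz =>
    have hy2 : y ∈ reesAlgebra I := by rw [← adjoin_monomial_eq_reesAlgebra]; exact hy1
    have hz2 : z ∈ reesAlgebra I := by rw [← adjoin_monomial_eq_reesAlgebra]; exact hz1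
    exact mul_mem (ihy hy2) (ihz hz2)

end Groth.Agent.Lib.ReesChart
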