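import Mathlib
import Groth.Prelude.Def_Rees
import Groth.Prelude.Def_BlowUp2
import Groth.Prelude.Def_ega3
import Groth.Agent.Lib.ReesChart_helper2
import Groth.Agent.Lib.BlowChart_helper2

/-!
# `Proj` of the Rees algebra is the blow-up (helper2)
-/

set_option autoImplicit false
open AlgebraicGeometry CategoryTheory CategoryTheory.Limits TopologicalSpace Opposite
open HomogeneousLocalization
open AffBlH8 Groth.Agent.Lib.ReesChart
universe u

namespace Groth.Agent.Lib.ProjRees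

variable {A : Type u} [CommRing A] (I : Ideal A)

theorem isIso_thetaR (a : I) : IsIso (CommRingCat.ofHom (thetaR I a.1 a.2)) := by
  rw [ConcreteCategory.isIso_iff_bijective]
  exact thetaR_bijective I a.1 a.2

/-- the chart `Spec A[I/a] ⟶ Proj R(I)`. -/
noncomputable def jmap (a : I) :
    Spec (CommRingCat.of ↥(BlowUp.affineAlgebra A I a.1)) ⟶ Proj (Rees.deg (reesAlgebra I)) :=
  Spec.map (CommRingCat.ofHom (thetaR I a.1 a.2)) ≫
    Proj.awayι (Rees.deg (reesAlgebra I)) (fX I a.1 a.2) (fX_mem I a.1 a.2) one_pos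

instance (a : I) : IsIso (Spec.map (CommRingCat.ofHom (thetaR I a.1 a.2))) := by
  haveI := isIso_thetaR I a
  infer_instance

instance (a : I) : IsOpenImmersion (jmap I a) := by
  unfold jmap
  infer_instance

theorem specMap_surjective (a : I) :
    Function.Surjective (Spec.map (CommRingCat.ofHom (thetaR I a.1 a.2))) :=
  (Spec.map (CommRingCat.ofHom (thetaR I a.1 a.2))).surjective

theorem jmap_comp (a : I) :
    jmap I a ≫ (Proj (Rees.deg (reesAlgebra I)) ↘ Spec (CommRingCat.of A)) = cmap I a.1 := by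
  show (Spec.map _ ≫ Proj.awayι _ _ _ _) ≫ (Proj.toSpecZero _ ≫ Spec.map _) = _
  rw [Category.assoc, Proj.awayι_toSpecZero_assoc, ← Spec.map_comp, ← Spec.map_comp]
  congr 1
  apply CommRingCat.hom_ext
  apply RingHom.ext
  intro r
  exact thetaR_phiC I a.1 a.2 r

theorem jmap_cover (x : Proj (Rees.deg (reesAlgebra I))) : ∃ a : I, x ∈ Set.range (jmap I a) := by
  have h := Proj.iSup_basicOpen_eq_top' (Rees.deg (reesAlgebra I)) (fun c : I => fX I c.1 c.2)
    (fun c => ⟨1, fX_mem I c.1 c.2⟩) (adjoin_fX_eq_top I)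
  have hx : x ∈ ⨆ c : I, Proj.basicOpen (Rees.deg (reesAlgebra I)) (fX I c.1 c.2) := by
    rw [h]
    trivial
  obtain ⟨a, ha⟩ := Opens.mem_iSup.mp hx
  refine ⟨a, ?_⟩
  rw [← Proj.opensRange_awayι _ _ (fX_mem I a.1 a.2) one_pos] at ha
  obtain ⟨y, rfl⟩ := ha
  obtain ⟨z, rfl⟩ := specMap_surjective I a y
  exact ⟨z, rfl⟩

theorem jmap_overlap (a c : I) (q : Spec (CommRingCat.of ↥(BlowUp.affineAlgebra A I c.1)))
    (hq : gen I c.1 a.1 a.2 ∉ (q : PrimeSpectrum ↥(BlowUp.affineAlgebra A I c.1)).asIdeal) :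
    (jmap I c) q ∈ Set.range (jmap I a) := by
  obtain ⟨q', hq'⟩ : ∃ q', q' = Spec.map (CommRingCat.ofHom (thetaR I c.1 c.2)) q := ⟨_, rfl⟩
  have h1 : q' ∈ PrimeSpectrum.basicOpen
      (Away.isLocalizationElem (fX_mem I c.1 c.2) (fX_mem I a.1 a.2)) := by
    show _ ∉ (q' : PrimeSpectrum _).asIdeal
    intro hmem
    apply hq
    rw [← thetaR_isLocalizationElem I a.1 a.2 c.1 c.2]
    rw [hq'] at hmem
    exact hmem
  rw [← Proj.awayι_preimage_basicOpen (Rees.deg (reesAlgebra I)) (fX_mem I c.1 c.2) one_pos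
    (fX_mem I a.1 a.2) one_pos] at h1
  have h2 : Proj.awayι (Rees.deg (reesAlgebra I)) (fX I c.1 c.2) (fX_mem I c.1 c.2) one_pos q' ∈
      Proj.basicOpen (Rees.deg (reesAlgebra I)) (fX I a.1 a.2) := h1
  rw [← Proj.opensRange_awayι _ _ (fX_mem I a.1 a.2) one_pos] at h2
  obtain ⟨y, hy⟩ := h2
  obtain ⟨z, rfl⟩ := specMap_surjective I a y
  refine ⟨z, ?_⟩
  show Proj.awayι _ _ _ _ (Spec.map _ z) = Proj.awayι _ _ _ _ (Spec.map _ q)
  rw [← hq']
  exact hy

theorem main16054 (A : Type u) [CommRing A] (I : Ideal A) :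
    BlowUp.IsBlowUp (Proj (Rees.deg (reesAlgebra I)) ↘ Spec (CommRingCat.of A))
      (Scheme.IdealSheafData.ofIdealTop (I.map (Scheme.ΓSpecIso (CommRingCat.of A)).inv.hom)) :=
  Groth.Agent.Lib.BlowChart.isBlowUp_of_charts I _ (jmap I) (jmap_comp I) (jmap_cover I)
    (jmap_overlap I)

end Groth.Agent.Lib.ProjRees
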