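import Mathlib
import Groth.Prelude.Def_BlowUp2
import Groth.Prelude.Def_Rees
import Groth.Prelude.Def_ega3
import Groth.Agent.Lib.ProjRees_helper2
import Groth.Agent.Lib.BlowLocal_helper2
import Groth.Agent.Lib.StrictCl1_helper8

/-!
# Existence of blow-ups (helper2)

The blow-ups `Proj R(𝓘(U)) ⟶ U` of the affine opens `U` of a scheme `X` glue (relative gluing over
the directed affine cover) to a blow-up of `X` in `𝓘`.
-/

set_option autoImplicit false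
open AlgebraicGeometry CategoryTheory CategoryTheory.Limits TopologicalSpace Opposite
universe u

namespace Groth.Agent.Lib.BlowExist

variable (X : Scheme.{u}) (𝓘 : X.IdealSheafData)

theorem exists_local (U : X.affineOpens) :
    ∃ (B : Scheme.{u}) (β : B ⟶ (U.1 : Scheme.{u})), BlowUp.IsBlowUp β (𝓘.comap U.1.ι) := by
  have hP := Groth.Agent.Lib.ProjRees.main16054 Γ(X, U.1) (𝓘.ideal U)
  refine ⟨_, (Proj (Rees.deg (reesAlgebra (𝓘.ideal U))) ↘ Spec (CommRingCat.of Γ(X, U.1))) ≫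
    U.2.isoSpec.inv, ?_⟩
  apply Groth.Agent.Lib.BlowLocal.isBlowUp_comp_iso
  rw [← Scheme.IdealSheafData.comap_comp, IsAffineOpen.isoSpec_inv_ι,
    Groth.Agent.Lib.BlowPerf.comap_fromSpec_eq_idl]
  exact hP

/-- a chosen blow-up of the affine open `U`. -/
noncomputable def Bl (U : X.affineOpens) : Scheme.{u} := (exists_local X 𝓘 U).choose

noncomputable def bl (U : X.affineOpens) : Bl X 𝓘 U ⟶ (U.1 : Scheme.{u}) :=
  (exists_local X 𝓘 U).choose_spec.choose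

theorem bl_isBlowUp (U : X.affineOpens) : BlowUp.IsBlowUp (bl X 𝓘 U) (𝓘.comap U.1.ι) :=
  (exists_local X 𝓘 U).choose_spec.choose_spec

theorem cartier_trans {U V : X.affineOpens} (h : U ≤ V) :
    BlowUp.IsEffCartierIdeal ((𝓘.comap V.1.ι).comap (bl X 𝓘 U ≫ X.homOfLE h)) := by
  rw [← Scheme.IdealSheafData.comap_comp, Category.assoc, Scheme.homOfLE_ι,
    Scheme.IdealSheafData.comap_comp]
  exact (bl_isBlowUp X 𝓘 U).1

/-- transition maps between the chosen blow-ups. -/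
noncomputable def tr {U V : X.affineOpens} (h : U ≤ V) : Bl X 𝓘 U ⟶ Bl X 𝓘 V :=
  ((bl_isBlowUp X 𝓘 V).2 _ _ (cartier_trans X 𝓘 h)).exists.choose

theorem tr_bl {U V : X.affineOpens} (h : U ≤ V) :
    tr X 𝓘 h ≫ bl X 𝓘 V = bl X 𝓘 U ≫ X.homOfLE h :=
  ((bl_isBlowUp X 𝓘 V).2 _ _ (cartier_trans X 𝓘 h)).exists.choose_spec

theorem tr_unique {U V : X.affineOpens} (h : U ≤ V) (t : Bl X 𝓘 U ⟶ Bl X 𝓘 V)
    (ht : t ≫ bl X 𝓘 V = bl X 𝓘 U ≫ X.homOfLE h) : t = tr X 𝓘 h :=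
  ((bl_isBlowUp X 𝓘 V).2 _ _ (cartier_trans X 𝓘 h)).unique ht (tr_bl X 𝓘 h)

/-- the functor of local blow-ups. -/
noncomputable def F : X.directedAffineCover.I₀ ⥤ Scheme.{u} where
  obj U := Bl X 𝓘 U
  map {U V} f := tr X 𝓘 (leOfHom f)
  map_id U := (tr_unique X 𝓘 _ _ (by
    rw [Category.id_comp, Scheme.homOfLE_rfl, Category.comp_id])).symm
  map_comp {U V W} f g := (tr_unique X 𝓘 _ _ (by
    rw [Category.assoc, tr_bl, ← Category.assoc, tr_bl, Category.assoc,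
      Scheme.homOfLE_homOfLE])).symm

/-- the structure maps. -/
noncomputable def α : F X 𝓘 ⟶ X.directedAffineCover.functorOfLocallyDirected where
  app U := bl X 𝓘 U
  naturality U V f := tr_bl X 𝓘 (leOfHom f)

theorem equi : (α X 𝓘).Equifibered := by
  intro U V f
  have hUV : U ≤ V := leOfHom f
  show IsPullback (tr X 𝓘 hUV) (bl X 𝓘 U) (bl X 𝓘 V) (X.homOfLE hUV)
  have hsnd : BlowUp.IsBlowUp (pullback.snd (bl X 𝓘 V) (X.homOfLE hUV))
      ((𝓘.comap V.1.ι).comap (X.homOfLE hUV)) :=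
    Groth.Agent.Lib.BlowPerf.isBlowUp_of_isPullback (bl X 𝓘 V) (𝓘.comap V.1.ι)
      (bl_isBlowUp X 𝓘 V) (X.homOfLE hUV) (pullback.snd _ _) (pullback.fst _ _)
      (IsPullback.of_hasPullback (bl X 𝓘 V) (X.homOfLE hUV)).flip
  have hid : (𝓘.comap V.1.ι).comap (X.homOfLE hUV) = 𝓘.comap U.1.ι := by
    rw [← Scheme.IdealSheafData.comap_comp, Scheme.homOfLE_ι]
  rw [hid] at hsnd
  obtain ⟨e, he⟩ := StrictClH8.blowUp_unique (𝓘.comap U.1.ι) (bl X 𝓘 U) (bl_isBlowUp X 𝓘 U)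
    (pullback.snd (bl X 𝓘 V) (X.homOfLE hUV)) hsnd
  have hφ : pullback.lift (tr X 𝓘 hUV) (bl X 𝓘 U) (tr_bl X 𝓘 hUV) = e.hom :=
    (hsnd.2 _ (bl X 𝓘 U) (bl_isBlowUp X 𝓘 U).1).unique (pullback.lift_snd _ _ _) he
  refine IsPullback.of_iso_pullback ⟨tr_bl X 𝓘 hUV⟩ e ?_ ?_
  · rw [← hφ]
    exact pullback.lift_fst _ _ _
  · rw [← hφ]
    exact pullback.lift_snd _ _ _

/-- the relative gluing datum. -/
noncomputable def datum : Scheme.Cover.RelativeGluingData X.directedAffineCover where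
  functor := F X 𝓘
  natTrans := α X 𝓘
  equifibered := equi X 𝓘

theorem main8859 (X : Scheme.{u}) (𝓘 : X.IdealSheafData) :
    ∃ (X' : Scheme.{u}) (b : X' ⟶ X), BlowUp.IsBlowUp b 𝓘 := by
  refine ⟨(datum X 𝓘).glued, (datum X 𝓘).toBase, ?_⟩
  refine Groth.Agent.Lib.BlowLocal.isBlowUp_of_openCover _ 𝓘 (ι := X.affineOpens)
    (fun U => U.1) ?_ (fun U => Bl X 𝓘 U) (fun U => bl X 𝓘 U)
    (fun U => colimit.ι (datum X 𝓘).functor U) ?_ (fun U => bl_isBlowUp X 𝓘 U)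
  · intro x
    obtain ⟨_, ⟨V, hV : IsAffineOpen V, rfl⟩, hxV, -⟩ :=
      (X.isBasis_affineOpens).exists_subset_of_mem_open (Set.mem_univ x) isOpen_univ
    exact ⟨⟨V, hV⟩, hxV⟩
  · intro U
    exact (datum X 𝓘).isPullback_natTrans_ι_toBase U

end Groth.Agent.Lib.BlowExist
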