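import Mathlib
import Groth.Prelude
import Groth.Agent.Lib.Cart1_helper8
set_option autoImplicit false
set_option linter.style.haveILetI false
set_option linter.unusedVariables false
universe u
open CategoryTheory AlgebraicGeometry TopologicalSpace

namespace Groth.Agent.Lib.CartDiffH4

section Ring

/-- Colon ideals by a finitely generated ideal commute with localization. -/
theorem colon_map {R S : Type*} [CommRing R] [CommRing S] [Algebra R S] (M : Submonoid R)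
    [IsLocalization M S] (I J : Ideal R) (hJ : J.FG) :
    (I.colon (J : Set R)).map (algebraMap R S) =
      (I.map (algebraMap R S)).colon ((J.map (algebraMap R S) : Ideal S) : Set S) := by
  apply le_antisymm
  · rw [Ideal.map_le_iff_le_comap]
    intro a ha
    show algebraMap R S a ∈
      (I.map (algebraMap R S)).colon ((Ideal.span (algebraMap R S '' (J : Set R)) : Ideal S) : Set S)
    rw [Ideal.colon_span, Submodule.mem_colon]
    rintro _ ⟨j, hj, rfl⟩
    have h1 : a • j ∈ I := Submodule.mem_colon.mp ha j hj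
    have h2 : algebraMap R S (a * j) ∈ I.map (algebraMap R S) := Ideal.mem_map_of_mem _ h1
    rw [map_mul] at h2
    exact h2
  · intro x hx
    obtain ⟨T, hT⟩ := hJ
    obtain ⟨⟨a, m⟩, rfl⟩ := IsLocalization.mk'_surjective M x
    have key : ∀ j ∈ J, ∃ n ∈ M, n * (j * a) ∈ I := by
      intro j hj
      have h1 : IsLocalization.mk' S a m • algebraMap R S j ∈ I.map (algebraMap R S) :=
        Submodule.mem_colon.mp hx _ (Ideal.mem_map_of_mem _ hj)
      rw [smul_eq_mul, mul_comm, IsLocalization.mul_mk'_eq_mk'_of_mul] at h1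
      exact (IsLocalization.mk'_mem_map_algebraMap_iff M S I (j * a) m).mp h1
    have key2 : ∀ T' : Finset R, (∀ j ∈ T', j ∈ J) → ∃ n ∈ M, ∀ j ∈ T', n * (j * a) ∈ I := by
      classical
      intro T'
      induction T' using Finset.induction_on with
      | empty => intro _; exact ⟨1, M.one_mem, fun j hj => absurd hj (Finset.notMem_empty j)⟩
      | insert b T'' hb ih =>
        intro hall
        obtain ⟨n₁, hn₁, h₁⟩ := ih (fun j hj => hall j (Finset.mem_insert_of_mem hj))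
        obtain ⟨n₂, hn₂, h₂⟩ := key b (hall b (Finset.mem_insert_self b T''))
        refine ⟨n₁ * n₂, M.mul_mem hn₁ hn₂, fun j hj => ?_⟩
        rcases Finset.mem_insert.mp hj with rfl | hj'
        · have : n₁ * n₂ * (j * a) = n₁ * (n₂ * (j * a)) := by ring
          rw [this]
          exact I.mul_mem_left n₁ h₂
        · have : n₁ * n₂ * (j * a) = n₂ * (n₁ * (j * a)) := by ring
          rw [this]
          exact I.mul_mem_left n₂ (h₁ j hj')
    obtain ⟨n, hn, hnT⟩ := key2 T (fun j hj => hT ▸ Ideal.subset_span hj)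
    have hna : n * a ∈ I.colon (J : Set R) := by
      have h3 : I.colon ((Ideal.span (T : Set R) : Ideal R) : Set R) = I.colon (J : Set R) := by
        have : (Ideal.span (T : Set R) : Ideal R) = J := hT
        rw [this]
      rw [← h3, Ideal.colon_span, Submodule.mem_colon]
      intro j hj
      have h4 := hnT j hj
      have : (n * a) • j = n * (j * a) := by rw [smul_eq_mul]; ring
      rw [this]
      exact h4
    exact (IsLocalization.mk'_mem_map_algebraMap_iff M S _ a m).mpr ⟨n, hn, hna⟩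

variable {R : Type*} [CommRing R]

theorem colon_mul_eq (I E : Ideal R) (e : R) (hEe : E = Ideal.span {e}) (hIE : I ≤ E) :
    I = I.colon (E : Set R) * E := by
  subst hEe
  apply le_antisymm
  · intro x hx
    obtain ⟨a, rfl⟩ := Ideal.mem_span_singleton'.mp (hIE hx)
    exact Ideal.mul_mem_mul (Ideal.mem_colon_span_singleton.mpr hx) (Ideal.mem_span_singleton_self e)
  · rw [Ideal.mul_le]
    intro a ha y hy
    obtain ⟨b, rfl⟩ := Ideal.mem_span_singleton'.mp hy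
    have h1 : a * e ∈ I := Ideal.mem_colon_span_singleton.mp ha
    have : a * (b * e) = b * (a * e) := by ring
    rw [this]
    exact I.mul_mem_left b h1

theorem exists_split (I₁ I₂ E : Ideal R) (e : R) (he : e ∈ nonZeroDivisors R)
    (hE12 : E = I₁ ⊔ I₂) (hEe : E = Ideal.span {e}) :
    ∃ b₁ ∈ I₁.colon (E : Set R), ∃ b₂ ∈ I₂.colon (E : Set R), b₁ + b₂ = 1 := by
  have h1 : I₁ ≤ Ideal.span {e} := hEe ▸ hE12 ▸ le_sup_left
  have h2 : I₂ ≤ Ideal.span {e} := hEe ▸ hE12 ▸ le_sup_right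
  have hmem : e ∈ I₁ ⊔ I₂ := by
    rw [← hE12, hEe]
    exact Ideal.mem_span_singleton_self e
  obtain ⟨y, hy, z, hz, hyz⟩ := Submodule.mem_sup.mp hmem
  obtain ⟨b₁, hb₁⟩ := Ideal.mem_span_singleton'.mp (h1 hy)
  obtain ⟨b₂, hb₂⟩ := Ideal.mem_span_singleton'.mp (h2 hz)
  subst hEe
  refine ⟨b₁, Ideal.mem_colon_span_singleton.mpr (hb₁ ▸ hy), b₂,
    Ideal.mem_colon_span_singleton.mpr (hb₂ ▸ hz), ?_⟩
  have h3 : e * (b₁ + b₂ - 1) = 0 := by
    have : b₁ * e + b₂ * e = e := by rw [hb₁, hb₂, hyz]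
    linear_combination this
  exact sub_eq_zero.mp ((mem_nonZeroDivisors_iff.mp he).1 _ h3)

theorem colon_sup_eq_top (I₁ I₂ E : Ideal R) (e : R) (he : e ∈ nonZeroDivisors R)
    (hE12 : E = I₁ ⊔ I₂) (hEe : E = Ideal.span {e}) :
    I₁.colon (E : Set R) ⊔ I₂.colon (E : Set R) = ⊤ := by
  obtain ⟨b₁, hb₁, b₂, hb₂, h⟩ := exists_split I₁ I₂ E e he hE12 hEe
  rw [Ideal.eq_top_iff_one, ← h]
  exact Submodule.add_mem_sup hb₁ hb₂

theorem le_colon_mul (I₁ I₂ E D : Ideal R) (e : R) (he : e ∈ nonZeroDivisors R)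
    (hE12 : E = I₁ ⊔ I₂) (hEe : E = Ideal.span {e}) (hD₁ : D ≤ I₁) (hD₂ : D ≤ I₂) :
    D ≤ I₁.colon (E : Set R) * I₂.colon (E : Set R) * E := by
  obtain ⟨b₁, hb₁, b₂, hb₂, h⟩ := exists_split I₁ I₂ E e he hE12 hEe
  have h1 : I₁ ≤ Ideal.span {e} := hEe ▸ hE12 ▸ le_sup_left
  intro x hx
  obtain ⟨c, rfl⟩ := Ideal.mem_span_singleton'.mp (h1 (hD₁ hx))
  subst hEe
  have hc₁ : c ∈ I₁.colon ((Ideal.span {e} : Ideal R) : Set R) :=
    Ideal.mem_colon_span_singleton.mpr (hD₁ hx)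
  have hc₂ : c ∈ I₂.colon ((Ideal.span {e} : Ideal R) : Set R) :=
    Ideal.mem_colon_span_singleton.mpr (hD₂ hx)
  have hc : c ∈ I₁.colon ((Ideal.span {e} : Ideal R) : Set R) *
      I₂.colon ((Ideal.span {e} : Ideal R) : Set R) := by
    have : c = b₁ * c + c * b₂ := by
      have : c = c * (b₁ + b₂) := by rw [h, mul_one]
      linear_combination this
    rw [this]
    exact add_mem (Ideal.mul_mem_mul hb₁ hc₂) (Ideal.mul_mem_mul hc₁ hb₂)
  exact Ideal.mul_mem_mul hc (Ideal.mem_span_singleton_self e)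

end Ring

variable {X : Scheme.{u}}

/-- Index type of the affine opens on which `E` is generated by a nonzerodivisor. -/
def Nice (E : X.IdealSheafData) : Type u :=
  {U : X.affineOpens // ∃ e : Γ(X, U.1), e ∈ nonZeroDivisors Γ(X, U.1) ∧ E.ideal U = Ideal.span {e}}

theorem nice_cover (E : X.IdealSheafData) (hE : BlowUp.IsEffCartierIdeal E) :
    (⨆ i : Nice E, (i.1.1 : X.Opens)) = ⊤ := by
  rw [eq_top_iff]
  intro x _
  obtain ⟨U, hxU, e, he, hEe⟩ := hE x
  exact Opens.mem_iSup.mpr ⟨⟨U, e, he, hEe⟩, hxU⟩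

theorem fg_of_cartier (E : X.IdealSheafData) (hE : BlowUp.IsEffCartierIdeal E)
    (V : X.affineOpens) : (E.ideal V).FG := by
  refine of_affine_open_cover (P := fun U => (E.ideal U).FG) (fun i : Nice E => i.1)
    (nice_cover E hE) V ?_ ?_ ?_
  · intro U f hP
    have h := E.map_ideal_basicOpen U f
    rw [← h]
    exact hP.map _
  · intro U s hs H
    haveI : ∀ g : s, IsLocalization.Away g.1 Γ(X, X.basicOpen g.1) :=
      fun g => U.2.isLocalization_basicOpen g.1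
    apply Module.Finite.iff_fg.mp
    refine Module.Finite.of_localizationSpan_finite' s hs
      (Rₚ := fun g => Γ(X, X.basicOpen g.1))
      (Mₚ := fun g => ((E.ideal U).map (algebraMap Γ(X, U.1) Γ(X, X.basicOpen g.1)) : Ideal _))
      (fun g => Algebra.idealMap (S := Γ(X, X.basicOpen g.1)) (E.ideal U)) (fun g => ?_)
    apply Module.Finite.of_fg
    have h2 := E.map_ideal_basicOpen U g.1
    have h3 : (Ideal.map (X.presheaf.map (homOfLE (X.basicOpen_le g.1)).op).hom (E.ideal U)).FG := by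
      rw [h2]
      exact H g
    exact h3
  · rintro ⟨U, e, he, hEe⟩
    show (E.ideal U).FG
    rw [hEe]
    exact Submodule.fg_span_singleton e

/-- The colon ideal sheaf `(I : E)` for `E` of finite type. -/
noncomputable def colonSheaf (I E : X.IdealSheafData)
    (hfg : ∀ U : X.affineOpens, (E.ideal U).FG) : X.IdealSheafData where
  ideal U := (I.ideal U).colon ((E.ideal U : Ideal Γ(X, U.1)) : Set Γ(X, U.1))
  map_ideal_basicOpen U f := by
    haveI := U.2.isLocalization_basicOpen f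
    have h := colon_map (S := Γ(X, X.basicOpen f)) (Submonoid.powers f) (I.ideal U) (E.ideal U)
      (hfg U)
    have hI := I.map_ideal_basicOpen U f
    have hE := E.map_ideal_basicOpen U f
    rw [← hI, ← hE]
    exact h

theorem main (I₁ I₂ : X.IdealSheafData)
    (h₁ : BlowUp.IsEffCartierIdeal I₁) (h₂ : BlowUp.IsEffCartierIdeal I₂)
    (hE : BlowUp.IsEffCartierIdeal (I₁ ⊔ I₂)) :
    ∃ I₁' I₂' : X.IdealSheafData, BlowUp.IsEffCartierIdeal I₁' ∧ BlowUp.IsEffCartierIdeal I₂' ∧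
      I₁ = I₁' * (I₁ ⊔ I₂) ∧ I₂ = I₂' * (I₁ ⊔ I₂) ∧ I₁' ⊔ I₂' = ⊤ ∧
      ∀ D : X.IdealSheafData, BlowUp.IsEffCartierIdeal D → D ≤ I₁ → D ≤ I₂ →
        D ≤ I₁' * I₂' * (I₁ ⊔ I₂) := by
  have hfg := fg_of_cartier (I₁ ⊔ I₂) hE
  have hcov := nice_cover (I₁ ⊔ I₂) hE
  have e1 : I₁ = colonSheaf I₁ (I₁ ⊔ I₂) hfg * (I₁ ⊔ I₂) := by
    refine Scheme.IdealSheafData.ext_of_iSup_eq_top (fun i : Nice (I₁ ⊔ I₂) => i.1) hcov ?_
    rintro ⟨U, e, he, hEe⟩
    show I₁.ideal U = (I₁.ideal U).colon (((I₁ ⊔ I₂).ideal U : Ideal Γ(X, U.1)) : Set Γ(X, U.1)) *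
      (I₁ ⊔ I₂).ideal U
    exact colon_mul_eq _ _ e hEe ((le_sup_left : I₁ ≤ I₁ ⊔ I₂) U)
  have e2 : I₂ = colonSheaf I₂ (I₁ ⊔ I₂) hfg * (I₁ ⊔ I₂) := by
    refine Scheme.IdealSheafData.ext_of_iSup_eq_top (fun i : Nice (I₁ ⊔ I₂) => i.1) hcov ?_
    rintro ⟨U, e, he, hEe⟩
    show I₂.ideal U = (I₂.ideal U).colon (((I₁ ⊔ I₂).ideal U : Ideal Γ(X, U.1)) : Set Γ(X, U.1)) *
      (I₁ ⊔ I₂).ideal U
    exact colon_mul_eq _ _ e hEe ((le_sup_right : I₂ ≤ I₁ ⊔ I₂) U)
  refine ⟨colonSheaf I₁ (I₁ ⊔ I₂) hfg, colonSheaf I₂ (I₁ ⊔ I₂) hfg, ?_, ?_, e1, e2, ?_, ?_⟩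
  · refine CartH8.isEffCartier_of_mul _ (I₁ ⊔ I₂) ?_
    rw [← e1]
    exact h₁
  · refine CartH8.isEffCartier_of_mul _ (I₁ ⊔ I₂) ?_
    rw [← e2]
    exact h₂
  · refine Scheme.IdealSheafData.ext_of_iSup_eq_top (fun i : Nice (I₁ ⊔ I₂) => i.1) hcov ?_
    rintro ⟨U, e, he, hEe⟩
    show (I₁.ideal U).colon (((I₁ ⊔ I₂).ideal U : Ideal Γ(X, U.1)) : Set Γ(X, U.1)) ⊔
      (I₂.ideal U).colon (((I₁ ⊔ I₂).ideal U : Ideal Γ(X, U.1)) : Set Γ(X, U.1)) = ⊤
    exact colon_sup_eq_top _ _ _ e he rfl hEe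
  · intro D _ hD₁ hD₂
    refine Scheme.IdealSheafData.le_of_iSup_eq_top (fun i : Nice (I₁ ⊔ I₂) => i.1) hcov ?_
    rintro ⟨U, e, he, hEe⟩
    show D.ideal U ≤
      (I₁.ideal U).colon (((I₁ ⊔ I₂).ideal U : Ideal Γ(X, U.1)) : Set Γ(X, U.1)) *
      (I₂.ideal U).colon (((I₁ ⊔ I₂).ideal U : Ideal Γ(X, U.1)) : Set Γ(X, U.1)) *
      (I₁ ⊔ I₂).ideal U
    exact le_colon_mul _ _ _ _ e he rfl hEe (hD₁ U) (hD₂ U)

end Groth.Agent.Lib.CartDiffH4
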