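import Mathlib
import Groth.Prelude
import Groth.Agent.Lib.IdealFT2_helper7
import Groth.Agent.Lib.CartDiff_helper4
import Groth.Agent.Lib.BlowExist_helper2
import Groth.Agent.Lib.ConstrMore_lead

/-!
# Separating disjoint closed constructible subsets by an admissible blow-up (helper7)
-/

set_option autoImplicit false
universe u
open CategoryTheory AlgebraicGeometry TopologicalSpace Topology

namespace Groth.Agent.Lib.AdmSepH7

open Groth.Agent.Lib.CartDiffH4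

/-- If `I₁ ⊔ I₂` is effective Cartier, then `I_i = J_i * (I₁ ⊔ I₂)` with `J₁ ⊔ J₂ = ⊤`. -/
theorem colon_split {X : Scheme.{u}} (I₁ I₂ : X.IdealSheafData)
    (hE : BlowUp.IsEffCartierIdeal (I₁ ⊔ I₂)) :
    ∃ J₁ J₂ : X.IdealSheafData, I₁ = J₁ * (I₁ ⊔ I₂) ∧ I₂ = J₂ * (I₁ ⊔ I₂) ∧ J₁ ⊔ J₂ = ⊤ := by
  have hfg := fg_of_cartier (I₁ ⊔ I₂) hE
  have hcov := nice_cover (I₁ ⊔ I₂) hE
  refine ⟨colonSheaf I₁ (I₁ ⊔ I₂) hfg, colonSheaf I₂ (I₁ ⊔ I₂) hfg, ?_, ?_, ?_⟩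
  · refine Scheme.IdealSheafData.ext_of_iSup_eq_top (fun i : Nice (I₁ ⊔ I₂) => i.1) hcov ?_
    rintro ⟨U, e, he, hEe⟩
    show I₁.ideal U = (I₁.ideal U).colon (((I₁ ⊔ I₂).ideal U : Ideal Γ(X, U.1)) : Set Γ(X, U.1)) *
      (I₁ ⊔ I₂).ideal U
    exact colon_mul_eq _ _ e hEe ((le_sup_left : I₁ ≤ I₁ ⊔ I₂) U)
  · refine Scheme.IdealSheafData.ext_of_iSup_eq_top (fun i : Nice (I₁ ⊔ I₂) => i.1) hcov ?_
    rintro ⟨U, e, he, hEe⟩
    show I₂.ideal U = (I₂.ideal U).colon (((I₁ ⊔ I₂).ideal U : Ideal Γ(X, U.1)) : Set Γ(X, U.1)) *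
      (I₁ ⊔ I₂).ideal U
    exact colon_mul_eq _ _ e hEe ((le_sup_right : I₂ ≤ I₁ ⊔ I₂) U)
  · refine Scheme.IdealSheafData.ext_of_iSup_eq_top (fun i : Nice (I₁ ⊔ I₂) => i.1) hcov ?_
    rintro ⟨U, e, he, hEe⟩
    show (I₁.ideal U).colon (((I₁ ⊔ I₂).ideal U : Ideal Γ(X, U.1)) : Set Γ(X, U.1)) ⊔
      (I₂.ideal U).colon (((I₁ ⊔ I₂).ideal U : Ideal Γ(X, U.1)) : Set Γ(X, U.1)) = ⊤
    exact colon_sup_eq_top _ _ _ e he rfl hEe

/-- The image in `Z` of the complement of a closed constructible subset of a quasi-compact open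
is a quasi-compact open. -/
theorem image_compl_open_compact {Z : Type*} [TopologicalSpace Z] (U : Opens Z)
    (hU : IsCompact (U : Set Z)) (T : Set U) (hT : IsClosed T) (cT : IsConstructible T) :
    IsOpen (Subtype.val '' Tᶜ : Set Z) ∧ IsCompact (Subtype.val '' Tᶜ : Set Z) := by
  haveI : CompactSpace U := isCompact_iff_compactSpace.mp hU
  refine ⟨U.isOpen.isOpenMap_subtype_val _ hT.isOpen_compl, ?_⟩
  exact ((Groth.Agent.Lib.ConstrMore_lead.isRetrocompact_of_isConstructible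
    cT.compl).isCompact).image continuous_subtype_val

theorem main1279 {X : Scheme.{u}} [CompactSpace X] [QuasiSeparatedSpace X]
    (U : X.Opens) (hU : IsCompact (U : Set X)) (T₁ T₂ : Set U)
    (h₁ : IsClosed T₁) (h₂ : IsClosed T₂) (c₁ : IsConstructible T₁) (c₂ : IsConstructible T₂)
    (hd : Disjoint T₁ T₂) :
    ∃ (𝓘 : X.IdealSheafData) (X' : Scheme.{u}) (b : X' ⟶ X), BlowUp.IsBlowUp b 𝓘 ∧
      BlowUp.IsAdmissibleFor U 𝓘 ∧
      Disjoint (closure (b.base ⁻¹' (Subtype.val '' T₁)))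
        (closure (b.base ⁻¹' (Subtype.val '' T₂))) := by
  obtain ⟨ho₁, hc₁⟩ := image_compl_open_compact U hU T₁ h₁ c₁
  obtain ⟨ho₂, hc₂⟩ := image_compl_open_compact U hU T₂ h₂ c₂
  obtain ⟨𝓘₁, hft₁, hs₁⟩ := (Groth.Agent.Lib.IdealFTH7.main9823 X ⟨_, ho₁⟩).mp hc₁
  obtain ⟨𝓘₂, hft₂, hs₂⟩ := (Groth.Agent.Lib.IdealFTH7.main9823 X ⟨_, ho₂⟩).mp hc₂
  have hs₁' : ∀ x : X, x ∈ 𝓘₁.support ↔ x ∉ (Subtype.val '' T₁ᶜ : Set X) := fun x => by
    rw [← SetLike.mem_coe, hs₁]; rfl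
  have hs₂' : ∀ x : X, x ∈ 𝓘₂.support ↔ x ∉ (Subtype.val '' T₂ᶜ : Set X) := fun x => by
    rw [← SetLike.mem_coe, hs₂]; rfl
  obtain ⟨X', b, hb⟩ := Groth.Agent.Lib.BlowExist.main8859 X (𝓘₁ ⊔ 𝓘₂)
  have hdisj : Disjoint ((𝓘₁ ⊔ 𝓘₂).support : Set X) (U : Set X) := by
    rw [Set.disjoint_left]
    intro x hx hxU
    rw [Scheme.IdealSheafData.support_sup] at hx
    obtain ⟨hx1, hx2⟩ := hx
    have m1 : (⟨x, hxU⟩ : U) ∈ T₁ := by
      by_contra hn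
      exact (hs₁' x).mp hx1 ⟨⟨x, hxU⟩, hn, rfl⟩
    have m2 : (⟨x, hxU⟩ : U) ∈ T₂ := by
      by_contra hn
      exact (hs₂' x).mp hx2 ⟨⟨x, hxU⟩, hn, rfl⟩
    exact Set.disjoint_left.mp hd m1 m2
  refine ⟨𝓘₁ ⊔ 𝓘₂, X', b, hb,
    (show BlowUp.IsAdmissibleFor U _ from
      And.intro (Groth.Agent.Lib.IdealFTH7.ft_sup hft₁ hft₂) hdisj), ?_⟩
  have hE : BlowUp.IsEffCartierIdeal (𝓘₁.comap b ⊔ 𝓘₂.comap b) := by
    rw [← Scheme.IdealSheafData.comap_sup]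
    exact hb.1
  obtain ⟨J₁, J₂, e₁, e₂, hJ⟩ := colon_split _ _ hE
  have key : ∀ (𝓘' : X.IdealSheafData) (J : X'.IdealSheafData) (T : Set U),
      (∀ x : X, x ∈ 𝓘'.support ↔ x ∉ (Subtype.val '' Tᶜ : Set X)) →
      𝓘'.comap b = J * (𝓘₁.comap b ⊔ 𝓘₂.comap b) →
      closure (b.base ⁻¹' (Subtype.val '' T)) ⊆ (J.support : Set X') := by
    intro 𝓘' J T hs e
    refine closure_minimal ?_ J.support.isClosed
    rintro x ⟨t, ht, htx⟩
    have hbx : b.base x ∈ 𝓘'.support := by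
      rw [hs]
      rintro ⟨y, hy, hyx⟩
      have : y = t := Subtype.ext (hyx.trans htx.symm)
      exact hy (this ▸ ht)
    have hx1 : x ∈ (𝓘'.comap b).support := by
      rw [Scheme.IdealSheafData.support_comap]
      exact hbx
    rw [e, Scheme.IdealSheafData.support_mul] at hx1
    have hx2 : x ∈ (J.support : Set X') ∪ ((𝓘₁.comap b ⊔ 𝓘₂.comap b).support : Set X') := hx1
    rcases hx2 with hx2 | hx2
    · exact hx2
    · exfalso
      have hx3 : x ∈ (𝓘₁.comap b ⊔ 𝓘₂.comap b).support := hx2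
      rw [← Scheme.IdealSheafData.comap_sup, Scheme.IdealSheafData.support_comap] at hx3
      have hxU : b.base x ∈ (U : Set X) := by
        rw [← htx]; exact t.2
      exact Set.disjoint_left.mp hdisj hx3 hxU
  have k1 := key 𝓘₁ J₁ T₁ hs₁' e₁
  have k2 := key 𝓘₂ J₂ T₂ hs₂' e₂
  refine Set.disjoint_of_subset k1 k2 ?_
  rw [Set.disjoint_left]
  intro x hx1 hx2
  have h3 : x ∈ (J₁ ⊔ J₂).support := by
    rw [Scheme.IdealSheafData.support_sup]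
    exact ⟨hx1, hx2⟩
  rw [hJ, Scheme.IdealSheafData.support_top] at h3
  exact (Set.notMem_empty x) h3

end Groth.Agent.Lib.AdmSepH7
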