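import Mathlib
import Groth.Prelude.Def_BlowUp2
import Groth.Agent.Lib.BlowExist_helper2
import Groth.Agent.Lib.ComapId1_helper8
import Groth.Agent.S1683

/-!
# Admissible blow-ups dominated by a common one (helper2)
-/

set_option autoImplicit false
open AlgebraicGeometry CategoryTheory CategoryTheory.Limits TopologicalSpace Opposite
universe u

namespace Groth.Agent.Lib.BlowAdm

/-- The inverse image of an ideal sheaf of finite type is of finite type. -/
theorem isFiniteType_comap {X Y : Scheme.{u}} (f : Y ⟶ X) (𝓘 : X.IdealSheafData)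
    (h : BlowUp.IsFiniteTypeIdeal 𝓘) : BlowUp.IsFiniteTypeIdeal (𝓘.comap f) := by
  intro V
  obtain ⟨t, htdef⟩ : ∃ t : Set Γ(Y, V.1),
      t = {s | ∃ U : X.affineOpens, Y.basicOpen s ≤ f ⁻¹ᵁ U.1} := ⟨_, rfl⟩
  have ht : Ideal.span t = ⊤ := by
    rw [← IsAffineOpen.iSup_basicOpen_eq_self_iff (show IsAffineOpen V.1 from V.2)]
    apply le_antisymm
    · apply iSup_le
      intro s
      exact Y.basicOpen_le _
    · intro y hy
      obtain ⟨_, ⟨U, hU : IsAffineOpen U, rfl⟩, hyU, -⟩ :=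
        (X.isBasis_affineOpens).exists_subset_of_mem_open (Set.mem_univ (f y)) isOpen_univ
      obtain ⟨s, hs, hys⟩ := IsAffineOpen.exists_basicOpen_le (show IsAffineOpen V.1 from V.2)
        (V := f ⁻¹ᵁ U) ⟨y, hyU⟩ hy
      rw [Opens.mem_iSup]
      exact ⟨⟨s, by rw [htdef]; exact ⟨⟨U, hU⟩, hs⟩⟩, hys⟩
  apply Ideal.fg_of_localizationSpan t ht
  rintro ⟨s, hst⟩
  rw [htdef] at hst
  obtain ⟨U, hsU⟩ := hst
  haveI := IsAffineOpen.isLocalization_basicOpen (show IsAffineOpen V.1 from V.2) s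
  have h1 : ((𝓘.comap f).ideal V).map (algebraMap Γ(Y, V.1) Γ(Y, Y.basicOpen s)) =
      (𝓘.comap f).ideal (Y.affineBasicOpen s) := (𝓘.comap f).map_ideal_basicOpen V s
  have h2 : ((𝓘.comap f).ideal (Y.affineBasicOpen s)).FG := by
    rw [ComapIdH8.comap_ideal f 𝓘 (Y.affineBasicOpen s) U hsU]
    exact (h U).map _
  obtain ⟨e, he⟩ : ∃ e : Γ(Y, Y.basicOpen s) ≃ₐ[Γ(Y, V.1)] Localization.Away s, e =
      IsLocalization.algEquiv (Submonoid.powers s) Γ(Y, Y.basicOpen s) (Localization.Away s) :=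
    ⟨_, rfl⟩
  have h3 : ((𝓘.comap f).ideal V).map (algebraMap Γ(Y, V.1) (Localization.Away s)) =
      (((𝓘.comap f).ideal V).map (algebraMap Γ(Y, V.1) Γ(Y, Y.basicOpen s))).map
        (e : Γ(Y, Y.basicOpen s) →+* Localization.Away s) := by
    rw [Ideal.map_map]
    congr 1
    apply RingHom.ext
    intro r
    exact (e.commutes r).symm
  show (((𝓘.comap f).ideal V).map (algebraMap Γ(Y, V.1) (Localization.Away s))).FG
  rw [h3, h1]
  exact h2.map _

theorem isFiniteType_prod {X : Scheme.{u}} {ι : Type*} (s : Finset ι) (𝓘 : ι → X.IdealSheafData)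
    (h : ∀ i ∈ s, BlowUp.IsFiniteTypeIdeal (𝓘 i)) : BlowUp.IsFiniteTypeIdeal (∏ i ∈ s, 𝓘 i) := by
  classical
  induction s using Finset.induction_on with
  | empty =>
    intro U
    rw [Finset.prod_empty, Scheme.IdealSheafData.one_eq_top, Scheme.IdealSheafData.ideal_top]
    exact ⟨{1}, by simp⟩
  | insert a s ha ih =>
    intro U
    rw [Finset.prod_insert ha, Scheme.IdealSheafData.ideal_mul]
    exact Submodule.FG.mul (h a (Finset.mem_insert_self a s) U)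
      (ih (fun i hi => h i (Finset.mem_insert_of_mem hi)) U)

theorem support_prod_disjoint {X : Scheme.{u}} {ι : Type*} (s : Finset ι)
    (𝓘 : ι → X.IdealSheafData) (W : Set X)
    (h : ∀ i ∈ s, Disjoint ((𝓘 i).support : Set X) W) :
    Disjoint ((∏ i ∈ s, 𝓘 i).support : Set X) W := by
  classical
  induction s using Finset.induction_on with
  | empty =>
    rw [Finset.prod_empty, Scheme.IdealSheafData.one_eq_top, Scheme.IdealSheafData.support_top]
    exact Set.disjoint_left.mpr (fun x hx => hx.elim)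
  | insert a s ha ih =>
    rw [Finset.prod_insert ha, Scheme.IdealSheafData.support_mul]
    show Disjoint (((𝓘 a).support : Set X) ∪ ((∏ i ∈ s, 𝓘 i).support : Set X)) W
    rw [Set.disjoint_union_left]
    exact ⟨h a (Finset.mem_insert_self a s), ih (fun i hi => h i (Finset.mem_insert_of_mem hi))⟩

theorem isBlowUp_iso_comp {X X' X'' : Scheme.{u}} (e : X' ≅ X'') (b : X'' ⟶ X)
    (𝓚 : X.IdealSheafData) (hb : BlowUp.IsBlowUp b 𝓚) : BlowUp.IsBlowUp (e.hom ≫ b) 𝓚 := by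
  refine ⟨?_, ?_⟩
  · rw [Scheme.IdealSheafData.comap_comp]
    exact CartH8.isEffCartier_comap_of_flat e.hom _ hb.1
  · intro Y g hg
    obtain ⟨h, hh, hu⟩ := hb.2 Y g hg
    refine ⟨h ≫ e.inv, ?_, ?_⟩
    · show (h ≫ e.inv) ≫ e.hom ≫ b = g
      rw [Category.assoc, Iso.inv_hom_id_assoc]
      exact hh
    · intro h' hh'
      have h1 : h' ≫ e.hom = h := hu _ (by
        show (h' ≫ e.hom) ≫ b = g
        rw [Category.assoc]
        exact hh')
      rw [← h1, Category.assoc, Iso.hom_inv_id, Category.comp_id]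

theorem main8858 (X : Scheme.{u}) (U : X.Opens) {n : ℕ} (Xi : Fin n → Scheme.{u})
    (b : ∀ i, Xi i ⟶ X) (𝓘 : Fin n → X.IdealSheafData)
    (hb : ∀ i, BlowUp.IsBlowUp (b i) (𝓘 i)) (ha : ∀ i, BlowUp.IsAdmissibleFor U (𝓘 i)) :
    ∃ (𝓙 : X.IdealSheafData) (X' : Scheme.{u}) (c : X' ⟶ X), BlowUp.IsBlowUp c 𝓙 ∧
      BlowUp.IsAdmissibleFor U 𝓙 ∧
      ∀ i, ∃ (g : X' ⟶ Xi i) (𝓚 : (Xi i).IdealSheafData), g ≫ b i = c ∧ BlowUp.IsBlowUp g 𝓚 ∧
        BlowUp.IsAdmissibleFor ((b i) ⁻¹ᵁ U) 𝓚 := by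
  classical
  obtain ⟨X', c, hc⟩ := Groth.Agent.Lib.BlowExist.main8859 X (∏ i, 𝓘 i)
  refine ⟨∏ i, 𝓘 i, X', c, hc,
    ⟨isFiniteType_prod _ _ (fun i _ => (ha i).1),
      support_prod_disjoint _ _ _ (fun i _ => (ha i).2)⟩, fun i => ?_⟩
  obtain ⟨𝓙', h𝓙'⟩ : ∃ 𝓙' : X.IdealSheafData, 𝓙' = ∏ j ∈ Finset.univ.erase i, 𝓘 j := ⟨_, rfl⟩
  have hprod : ∏ j, 𝓘 j = 𝓘 i * 𝓙' := by
    rw [h𝓙']
    exact (Finset.mul_prod_erase _ _ (Finset.mem_univ i)).symm
  obtain ⟨X'', b', hb'⟩ := Groth.Agent.Lib.BlowExist.main8859 (Xi i) (𝓙'.comap (b i))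
  have h1 : BlowUp.IsBlowUp (b' ≫ b i) (𝓘 i * 𝓙') :=
    Groth.Agent.S1683.result (𝓘 i) 𝓙' (b i) (hb i) b' hb'
  rw [← hprod] at h1
  obtain ⟨e, he⟩ := StrictClH8.blowUp_unique _ c hc (b' ≫ b i) h1
  refine ⟨e.hom ≫ b', 𝓙'.comap (b i), by rw [Category.assoc]; exact he,
    isBlowUp_iso_comp e b' _ hb', ?_, ?_⟩
  · apply isFiniteType_comap
    rw [h𝓙']
    exact isFiniteType_prod _ _ (fun j _ => (ha j).1)
  · rw [Scheme.IdealSheafData.support_comap]
    have hd : Disjoint (𝓙'.support : Set X) (U : Set X) := by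
      rw [h𝓙']
      exact support_prod_disjoint _ _ _ (fun j _ => (ha j).2)
    rw [Set.disjoint_left] at hd ⊢
    intro y hy hyU
    exact hd hy hyU

end Groth.Agent.Lib.BlowAdm
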