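import Mathlib
import Groth.Agent.Lib.WeakAssSch2_helper4

/-!
# Weakly associated points, part 3 (helper4): associated = weakly associated (Mathlib's radical
definition), the structure sheaf, Noetherian pushforward, points without generizations.
-/

set_option autoImplicit false
universe u

namespace Groth.Agent.Lib.WeakAssSch3_helper4

open AlgebraicGeometry CategoryTheory TopologicalSpace Opposite FlatCA
open Groth.Agent.Lib.WeakAss_helper4 Groth.Agent.Lib.QCohLoc_helper4
open Groth.Agent.Lib.WeakAssSch_helper4 Groth.Agent.Lib.WeakAssSch2_helper4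

section AssWeakAss

variable {X : Scheme.{u}}

/-- With Mathlib's (radical) definition of associated primes, associated points and weakly
associated points coincide. -/
theorem isAssPoint_iff_isWeakAssPoint (F : X.Modules) (x : X) :
    Curv2.IsAssPoint F x ↔ Curv2.IsWeakAssPoint F x := by
  unfold Curv2.IsAssPoint Curv2.IsWeakAssPoint IsAssociatedPrime
  rw [Submodule.isAssociatedPrime_def]
  have hcolon : ∀ z : F.presheaf.stalk x,
      Submodule.colon (⊥ : Submodule (X.presheaf.stalk x) (F.presheaf.stalk x)) {z} =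
        LinearMap.ker (LinearMap.toSpanSingleton (X.presheaf.stalk x) (F.presheaf.stalk x) z) := by
    intro z; ext r
    rw [Submodule.mem_colon_singleton, Submodule.mem_bot, LinearMap.mem_ker,
      LinearMap.toSpanSingleton_apply]
  constructor
  · rintro ⟨_, z, hz⟩
    exact ⟨z, by rw [← hcolon]; exact hz.symm⟩
  · rintro ⟨z, hz⟩
    exact ⟨(IsLocalRing.maximalIdeal.isMaximal _).isPrime, z, by rw [hcolon]; exact hz.symm⟩

end AssWeakAss

section Algebra

theorem weakAss_congr {R : Type*} [CommRing R] {M N : Type*} [AddCommGroup M] [Module R M]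
    [AddCommGroup N] [Module R N] (e : M ≃ₗ[R] N) : weakAss R M = weakAss R N :=
  Set.Subset.antisymm (weakAss_subset_of_injective e.toLinearMap e.injective)
    (weakAss_subset_of_injective e.symm.toLinearMap e.symm.injective)

theorem comap_mem_weakAss_of_noetherian {A B : Type*} [CommRing A] [CommRing B]
    [IsNoetherianRing B] (φ : A →+* B)
    {N : Type*} [AddCommGroup N] [Module A N] {N' : Type*} [AddCommGroup N'] [Module B N']
    (γ : N →+ N') (hγ : ∀ a n, γ (a • n) = φ a • γ n) (hinj : Function.Injective γ)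
    (hsurj : Function.Surjective γ) {q : Ideal B} (hq : q ∈ weakAss B N') :
    q.comap φ ∈ weakAss A N := by
  obtain ⟨n', hn'⟩ := hq
  have hqprime : q.IsPrime := hn'.1.1
  have hcolon : ∀ y : N', Submodule.colon (⊥ : Submodule B N') {y} = ann B y := by
    intro y; ext r
    rw [Submodule.mem_colon_singleton, Submodule.mem_bot, mem_ann]
  have hn'' : q ∈ (Submodule.colon (⊥ : Submodule B N') {n'}).minimalPrimes := by
    rw [hcolon]; exact hn'
  obtain ⟨y, hy⟩ := Submodule.exists_eq_colon_of_mem_minimalPrimes hn''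
  rw [hcolon] at hy
  obtain ⟨n, rfl⟩ := hsurj y
  have hcomap : (ann B (γ n)).comap φ = ann A n := by
    ext a
    rw [Ideal.mem_comap, mem_ann, mem_ann, ← hγ]
    exact ⟨fun h => hinj (h.trans (map_zero γ).symm), fun h => by rw [h, map_zero]⟩
  refine ⟨n, ?_⟩
  show q.comap φ ∈ (ann A n).minimalPrimes
  rw [← hcomap, ← hy]
  exact ⟨⟨Ideal.comap_isPrime φ q, le_refl _⟩, fun _ h _ => h.2⟩

end Algebra

section Structure

variable {X : Scheme.{u}}

/-- Sections of the structure module are sections of the structure sheaf. -/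
noncomputable def structureEquiv (U : X.Opens) :
    Γ(Coh.structureModule X, U) ≃ₗ[Γ(X, U)] Γ(X, U) where
  toFun s := s
  invFun s := s
  map_add' _ _ := rfl
  map_smul' _ _ := rfl
  left_inv _ := rfl
  right_inv _ := rfl

theorem locOn_structureModule {U : X.Opens} (hU : IsAffineOpen U) :
    LocOn (Coh.structureModule X) U := by
  constructor
  · intro f s
    have hloc := hU.isLocalization_basicOpen f
    obtain ⟨⟨a, ⟨_, n, rfl⟩⟩, ha⟩ := IsLocalization.surj (Submonoid.powers f)
      (show Γ(X, X.basicOpen f) from s)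
    refine ⟨n, (show Γ(Coh.structureModule X, U) from a), ?_⟩
    show (X.presheaf.map (homOfLE (X.basicOpen_le f)).op).hom a =
      (X.presheaf.map (homOfLE (X.basicOpen_le f)).op).hom f ^ n * (show Γ(X, X.basicOpen f) from s)
    rw [mul_comm, ← map_pow]
    exact ha.symm
  · intro f t ht
    have hloc := hU.isLocalization_basicOpen f
    have ht' : algebraMap Γ(X, U) Γ(X, X.basicOpen f) (show Γ(X, U) from t) = 0 := ht
    obtain ⟨⟨_, n, rfl⟩, hn⟩ := (IsLocalization.map_eq_zero_iff (Submonoid.powers f) _ _).mp ht'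
    exact ⟨n, hn⟩

theorem isWeakAssPoint_structureModule_iff {U : X.Opens} (hU : IsAffineOpen U) {x : X}
    (hx : x ∈ U) :
    Curv2.IsWeakAssPoint (Coh.structureModule X) x ↔
      (hU.primeIdealOf ⟨x, hx⟩).asIdeal ∈ weakAss Γ(X, U) Γ(X, U) := by
  rw [isWeakAssPoint_iff (locOn_structureModule hU) hU hx, weakAss_congr (structureEquiv U)]

end Structure

section Noeth

variable {X S : Scheme.{u}} {f : X ⟶ S} {F : X.Modules}

theorem isWeakAssPoint_pushforward_of_noetherian [IsAffineHom f] [IsLocallyNoetherian X]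
    [F.IsQuasicoherent] (x : X) (hx : Curv2.IsWeakAssPoint F x) :
    Curv2.IsWeakAssPoint ((Scheme.Modules.pushforward f).obj F) (f x) := by
  obtain ⟨V, hV, hsV, -⟩ := (Opens.isBasis_iff_nbhd.mp S.isBasis_affineOpens)
    (show f x ∈ (⊤ : S.Opens) from trivial)
  have hU : IsAffineOpen (f ⁻¹ᵁ V) := IsAffineHom.isAffine_preimage _ hV
  have hxU : x ∈ f ⁻¹ᵁ V := hsV
  haveI : IsNoetherianRing Γ(X, f ⁻¹ᵁ V) := IsLocallyNoetherian.component_noetherian ⟨_, hU⟩
  have hlocF := locOn_of_isQuasicoherent F hU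
  have hlocP : LocOn ((Scheme.Modules.pushforward f).obj F) V := locOn_pushforward hlocF
  have h1 := (isWeakAssPoint_iff hlocF hU hxU).mp hx
  have h2 := comap_mem_weakAss_of_noetherian (f.app V).hom
    (N := Γ((Scheme.Modules.pushforward f).obj F, V)) (N' := Γ(F, f ⁻¹ᵁ V))
    (AddMonoidHom.id _) (fun _ _ => rfl) (fun _ _ h => h) (fun y => ⟨y, rfl⟩) h1
  rw [isWeakAssPoint_iff hlocP hV hsV]
  have h3 := IsAffineOpen.comap_primeIdealOf_appLE (f := f) V hV (f ⁻¹ᵁ V) hU le_rfl hxU
  have h4 : f.appLE V (f ⁻¹ᵁ V) le_rfl = f.app V := by rw [Scheme.Hom.app_eq_appLE]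
  rw [h4] at h3
  rw [← h3]
  exact h2

end Noeth

section Generization

variable {Y : Scheme.{u}}

/-- At a point without proper generizations, every non-unit of the local ring is nilpotent. -/
theorem isNilpotent_of_mem_maximalIdeal (y : Y) (hy : ∀ y' : Y, y' ⤳ y → y' = y)
    (c : Y.presheaf.stalk y) (hc : c ∈ IsLocalRing.maximalIdeal (Y.presheaf.stalk y)) :
    IsNilpotent c := by
  rw [← mem_nilradical, nilradical_eq_sInf, Ideal.mem_sInf]
  intro P hP
  have hP' : P.IsPrime := hP
  have h1 : Y.fromSpecStalk y ⟨P, hP'⟩ ∈ Set.range (Y.fromSpecStalk y) := ⟨_, rfl⟩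
  rw [Scheme.range_fromSpecStalk] at h1
  have h2 := hy _ h1
  have h3 : Y.fromSpecStalk y (IsLocalRing.closedPoint _) = y := Scheme.fromSpecStalk_closedPoint
  have h4 : (⟨P, hP'⟩ : PrimeSpectrum (Y.presheaf.stalk y)) = IsLocalRing.closedPoint _ :=
    (Y.fromSpecStalk y).isEmbedding.injective (h2.trans h3.symm)
  have h5 : P = IsLocalRing.maximalIdeal _ := congrArg PrimeSpectrum.asIdeal h4
  rw [h5]; exact hc

end Generization

end Groth.Agent.Lib.WeakAssSch3_helper4
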