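import Mathlib
import Groth.Prelude.Def_BlowUp2
import Groth.Agent.Lib.WeakAssSch3_helper4

/-!
# The inverse image ideal sheaf on affine opens (helper4)

`(𝓘.comap f).ideal V = (𝓘.ideal U).map (f.appLE U V e)` for affine opens `V ≤ f⁻¹ U`, and the
pullback of effective Cartier divisors avoiding weakly associated points.
-/

set_option autoImplicit false
universe u

namespace Groth.Agent.Lib.ComapIdeal_helper4

open AlgebraicGeometry CategoryTheory CategoryTheory.Limits TopologicalSpace Opposite FlatCA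
open Groth.Agent.Lib.WeakAss_helper4 Groth.Agent.Lib.QCohLoc_helper4
open Groth.Agent.Lib.WeakAssSch_helper4 Groth.Agent.Lib.WeakAssSch2_helper4
open Groth.Agent.Lib.WeakAssSch3_helper4

section Spec

variable {X : Scheme.{u}} {V : X.Opens} (hV : IsAffineOpen V)

include hV in
theorem top_le_preimage {S : CommRingCat.{u}} (q : Γ(X, V) ⟶ S) :
    (⊤ : (Spec S).Opens) ≤ (Spec.map q ≫ hV.fromSpec) ⁻¹ᵁ V := by
  intro x _
  show (Spec.map q ≫ hV.fromSpec) x ∈ V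
  have : hV.fromSpec (Spec.map q x) ∈ Set.range hV.fromSpec := ⟨_, rfl⟩
  rw [hV.range_fromSpec] at this
  exact this

theorem appLE_specMap_fromSpec {S : CommRingCat.{u}} (q : Γ(X, V) ⟶ S)
    (e : (⊤ : (Spec S).Opens) ≤ (Spec.map q ≫ hV.fromSpec) ⁻¹ᵁ V) :
    (Spec.map q ≫ hV.fromSpec).appLE V ⊤ e = q ≫ (Scheme.ΓSpecIso S).inv := by
  apply Spec.map_injective
  rw [← cancel_mono hV.fromSpec,
    IsAffineOpen.SpecMap_appLE_fromSpec (Spec.map q ≫ hV.fromSpec) hV (isAffineOpen_top (Spec S)) e,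
    IsAffineOpen.fromSpec_top, Scheme.isoSpec_Spec_inv, Spec.map_comp, Category.assoc]

theorem eq_zero_of_app_specMap_fromSpec {S : CommRingCat.{u}} (q : Γ(X, V) ⟶ S) (a : Γ(X, V))
    (h : ((Spec.map q ≫ hV.fromSpec).app V).hom a = 0) : q.hom a = 0 := by
  have e := top_le_preimage hV q
  have h1 := appLE_specMap_fromSpec hV q e
  have h2 : ((Spec.map q ≫ hV.fromSpec).appLE V ⊤ e).hom a = 0 := by
    rw [Scheme.Hom.appLE, CommRingCat.hom_comp, RingHom.comp_apply, h, map_zero]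
  rw [h1, CommRingCat.hom_comp, RingHom.comp_apply] at h2
  have h3 := congrArg (Scheme.ΓSpecIso S).hom.hom h2
  rw [map_zero] at h3
  simpa using h3

end Spec

section Comap

variable {X Y : Scheme.{u}}

theorem map_ideal_le_comap_ideal (f : X ⟶ Y) (𝓘 : Y.IdealSheafData) (U : Y.affineOpens)
    (V : X.affineOpens) (e : V.1 ≤ f ⁻¹ᵁ U.1) :
    (𝓘.ideal U).map (f.appLE U.1 V.1 e).hom ≤ (𝓘.comap f).ideal V := by
  rw [Ideal.map_le_iff_le_comap]
  intro a ha
  rw [Ideal.mem_comap]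
  have h1 : a ∈ ((𝓘.comap f).map f).ideal U :=
    (Scheme.IdealSheafData.le_def.mp (𝓘.le_map_comap f)) U ha
  have h2 : a ∈ RingHom.ker (((𝓘.comap f).subschemeι ≫ f).app U.1).hom :=
    Scheme.Hom.ideal_ker_le ((𝓘.comap f).subschemeι ≫ f) U h1
  have h2' : ((𝓘.comap f).subschemeι.app (f ⁻¹ᵁ U.1)).hom ((f.app U.1).hom a) = 0 := by
    have hc := Scheme.Hom.comp_app (𝓘.comap f).subschemeι f U.1
    have h2a := RingHom.mem_ker.mp h2
    rw [hc] at h2a
    exact h2a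
  rw [← (𝓘.comap f).ker_subschemeι_app V, RingHom.mem_ker]
  have h3 := Scheme.Hom.naturality (𝓘.comap f).subschemeι (homOfLE e).op
  have h4 : ((𝓘.comap f).subschemeι.app V.1).hom ((f.appLE U.1 V.1 e).hom a) =
      ((X.presheaf.map (homOfLE e).op ≫ (𝓘.comap f).subschemeι.app V.1).hom)
        ((f.app U.1).hom a) := rfl
  rw [h4, h3, CommRingCat.hom_comp, RingHom.comp_apply, h2', map_zero]

theorem comap_ideal_le_map_ideal (f : X ⟶ Y) (𝓘 : Y.IdealSheafData) (U : Y.affineOpens)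
    (V : X.affineOpens) (e : V.1 ≤ f ⁻¹ᵁ U.1) :
    (𝓘.comap f).ideal V ≤ (𝓘.ideal U).map (f.appLE U.1 V.1 e).hom := by
  obtain ⟨φ, hφ⟩ : ∃ φ : Γ(Y, U.1) ⟶ Γ(X, V.1), φ = f.appLE U.1 V.1 e := ⟨_, rfl⟩
  rw [← hφ]
  obtain ⟨J', hJ'⟩ : ∃ J' : Ideal Γ(X, V.1), J' = (𝓘.ideal U).map φ.hom := ⟨_, rfl⟩
  rw [← hJ']
  have hJle : 𝓘.ideal U ≤ J'.comap φ.hom := by rw [hJ']; exact Ideal.le_comap_map
  obtain ⟨q, hq⟩ : ∃ q : Γ(X, V.1) ⟶ CommRingCat.of (Γ(X, V.1) ⧸ J'),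
    q = CommRingCat.ofHom (Ideal.Quotient.mk J') := ⟨_, rfl⟩
  obtain ⟨qbar, hqbar⟩ : ∃ qbar : CommRingCat.of (Γ(Y, U.1) ⧸ 𝓘.ideal U) ⟶
      CommRingCat.of (Γ(X, V.1) ⧸ J'),
    qbar = CommRingCat.ofHom (Ideal.quotientMap J' φ.hom hJle) := ⟨_, rfl⟩
  have h1 : CommRingCat.ofHom (Ideal.Quotient.mk (𝓘.ideal U)) ≫ qbar = φ ≫ q := by
    rw [hq, hqbar]
    ext a
    simp
  have hcomm : (Spec.map q ≫ V.2.fromSpec) ≫ f =
      (Spec.map qbar ≫ 𝓘.subschemeCover.f U) ≫ 𝓘.subschemeι := by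
    calc (Spec.map q ≫ V.2.fromSpec) ≫ f = Spec.map q ≫ (V.2.fromSpec ≫ f) :=
          Category.assoc _ _ _
      _ = Spec.map q ≫ (Spec.map φ ≫ U.2.fromSpec) := by
          rw [hφ, IsAffineOpen.SpecMap_appLE_fromSpec f U.2 V.2 e]
      _ = Spec.map (φ ≫ q) ≫ U.2.fromSpec := by rw [Spec.map_comp, Category.assoc]
      _ = Spec.map (CommRingCat.ofHom (Ideal.Quotient.mk (𝓘.ideal U)) ≫ qbar) ≫
            U.2.fromSpec := by rw [h1]
      _ = Spec.map qbar ≫ (Spec.map (CommRingCat.ofHom (Ideal.Quotient.mk (𝓘.ideal U))) ≫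
            U.2.fromSpec) := by rw [Spec.map_comp, Category.assoc]
      _ = Spec.map qbar ≫ (𝓘.glueDataObjι U ≫ U.1.ι) :=
          congrArg (fun t => Spec.map qbar ≫ t) (𝓘.glueDataObjι_ι U).symm
      _ = Spec.map qbar ≫ (𝓘.subschemeCover.f U ≫ 𝓘.subschemeι) :=
          congrArg (fun t => Spec.map qbar ≫ t) (𝓘.subschemeCover_map_subschemeι U).symm
      _ = (Spec.map qbar ≫ 𝓘.subschemeCover.f U) ≫ 𝓘.subschemeι := (Category.assoc _ _ _).symm
  have hg : pullback.lift _ _ hcomm ≫ pullback.fst f 𝓘.subschemeι = Spec.map q ≫ V.2.fromSpec :=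
    pullback.lift_fst _ _ _
  have hle : 𝓘.comap f ≤ (Spec.map q ≫ V.2.fromSpec).ker := by
    rw [← hg]
    exact Scheme.Hom.le_ker_comp _ (pullback.fst f 𝓘.subschemeι)
  intro b hb
  have hb1 : b ∈ (Spec.map q ≫ V.2.fromSpec).ker.ideal V :=
    (Scheme.IdealSheafData.le_def.mp hle) V hb
  have hb2 : b ∈ RingHom.ker ((Spec.map q ≫ V.2.fromSpec).app V.1).hom :=
    Scheme.Hom.ideal_ker_le (Spec.map q ≫ V.2.fromSpec) V hb1
  have hb3 : q.hom b = 0 := eq_zero_of_app_specMap_fromSpec V.2 q b hb2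
  rw [hq] at hb3
  exact Ideal.Quotient.eq_zero_iff_mem.mp hb3

/-- The inverse image ideal sheaf on affine opens: it is generated by the image of the ideal. -/
theorem comap_ideal_eq (f : X ⟶ Y) (𝓘 : Y.IdealSheafData) (U : Y.affineOpens)
    (V : X.affineOpens) (e : V.1 ≤ f ⁻¹ᵁ U.1) :
    (𝓘.comap f).ideal V = (𝓘.ideal U).map (f.appLE U.1 V.1 e).hom :=
  le_antisymm (comap_ideal_le_map_ideal f 𝓘 U V e) (map_ideal_le_comap_ideal f 𝓘 U V e)

end Comap

section Reduced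

theorem mem_minimalPrimes_of_mem_weakAss_of_isReduced {B : Type*} [CommRing B] [IsReduced B]
    {p : Ideal B} (hp : p ∈ weakAss B B) : p ∈ minimalPrimes B := by
  obtain ⟨b, hb⟩ := hp
  have hpp : p.IsPrime := hb.1.1
  have hb_notin : b ∉ p := by
    intro hbp
    obtain ⟨s', hs', n', hsn'⟩ := exists_mul_pow_mem hb hbp
    rw [mem_ann, smul_eq_mul] at hsn'
    have hz : s' * b = 0 := by
      apply IsNilpotent.eq_zero
      refine ⟨n' + 1, ?_⟩
      calc (s' * b) ^ (n' + 1) = s' ^ n' * (s' * b ^ n' * b) := by ring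
        _ = 0 := by rw [hsn', mul_zero]
    exact hs' (hb.1.2 (mem_ann.mpr (by rw [smul_eq_mul]; exact hz)))
  show p ∈ (⊥ : Ideal B).minimalPrimes
  refine ⟨⟨hpp, bot_le⟩, fun q hq hqp => ?_⟩
  have hqprime : q.IsPrime := hq.1
  intro t ht
  obtain ⟨s, hs, n, hsn⟩ := exists_mul_pow_mem hb ht
  rw [mem_ann, smul_eq_mul] at hsn
  have hstb : s * t * b = 0 := by
    apply IsNilpotent.eq_zero
    refine ⟨n + 1, ?_⟩
    calc (s * t * b) ^ (n + 1) = (s ^ n * t * b ^ n) * (s * t ^ n * b) := by ring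
      _ = 0 := by rw [hsn, mul_zero]
  have h0 : s * t * b ∈ q := by rw [hstb]; exact q.zero_mem
  rcases hqprime.mem_or_mem h0 with h1 | h1
  · rcases hqprime.mem_or_mem h1 with h2 | h2
    · exact absurd (hqp h2) hs
    · exact h2
  · exact absurd (hqp h1) hb_notin

theorem eq_of_specializes_of_isWeakAssPoint_of_isReduced {X : Scheme.{u}} [IsReduced X] {x : X}
    (hx : Curv2.IsWeakAssPoint (Coh.structureModule X) x) (y : X) (hyx : y ⤳ x) : y = x := by
  obtain ⟨V, hV, hxV, -⟩ := (Opens.isBasis_iff_nbhd.mp X.isBasis_affineOpens)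
    (show x ∈ (⊤ : X.Opens) from trivial)
  have hyV : y ∈ V := hyx.mem_open V.2 hxV
  have h1 := (isWeakAssPoint_structureModule_iff hV hxV).mp hx
  have h2 := mem_minimalPrimes_of_mem_weakAss_of_isReduced h1
  have h3 := (specializes_iff_primeIdealOf_le hV hxV hyV).mp hyx
  have h4 : (hV.primeIdealOf ⟨x, hxV⟩).asIdeal ≤ (hV.primeIdealOf ⟨y, hyV⟩).asIdeal :=
    h2.2 ⟨(hV.primeIdealOf ⟨y, hyV⟩).isPrime, bot_le⟩ h3
  exact (primeIdealOf_injective hV hxV hyV (PrimeSpectrum.ext (le_antisymm h4 h3))).symm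

end Reduced

section Cartier

variable {X Y : Scheme.{u}}

/-- Pullback of an effective Cartier divisor whose support avoids the images of the weakly
associated points is effective Cartier. -/
theorem isEffCartierIdeal_comap_of_weakAss_avoid (f : X ⟶ Y) (𝓘 : Y.IdealSheafData)
    (hD : BlowUp.IsEffCartierIdeal 𝓘)
    (h : ∀ x : ↥X, Curv2.IsWeakAssPoint (Coh.structureModule X) x → f x ∉ 𝓘.support) :
    BlowUp.IsEffCartierIdeal (𝓘.comap f) := by
  intro x
  obtain ⟨U, hxU, g, hg, hIU⟩ := hD (f x)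
  obtain ⟨V, hV, hxV, hVU⟩ := (Opens.isBasis_iff_nbhd.mp X.isBasis_affineOpens)
    (show x ∈ f ⁻¹ᵁ U.1 from hxU)
  refine ⟨⟨V, hV⟩, hxV, (f.appLE U.1 V hVU).hom g, ?_, ?_⟩
  · rw [mem_nonZeroDivisors_iff_right]
    intro b hb
    by_contra hb0
    obtain ⟨p, hp, hle⟩ := exists_mem_weakAss_of_ne_zero (R := Γ(X, V)) hb0
    have hpp : p.IsPrime := isPrime_of_mem_weakAss hp
    have hcp : (f.appLE U.1 V hVU).hom g ∈ p :=
      hle (mem_ann.mpr (by rw [smul_eq_mul, mul_comm]; exact hb))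
    obtain ⟨y, hy, hyp⟩ := exists_point_of_prime hV ⟨p, hpp⟩
    have hwa : Curv2.IsWeakAssPoint (Coh.structureModule X) y := by
      rw [isWeakAssPoint_structureModule_iff hV hy, hyp]; exact hp
    have hfy := h y hwa
    have hfyU : f y ∈ U.1 := hVU hy
    rw [Scheme.IdealSheafData.mem_support_iff_of_mem hfyU, hIU, Scheme.zeroLocus_span,
      Scheme.zeroLocus_singleton, Set.notMem_compl_iff] at hfy
    have hyb : y ∈ X.basicOpen ((f.appLE U.1 V hVU).hom g) := by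
      rw [Scheme.basicOpen_appLE]
      exact ⟨hy, hfy⟩
    have hnot := (notMem_primeIdealOf_iff hV hy _).mpr hyb
    rw [hyp] at hnot
    exact hnot hcp
  · rw [comap_ideal_eq f 𝓘 U ⟨V, hV⟩ hVU, hIU, Ideal.map_span, Set.image_singleton]

/-- Reduced version: it suffices to avoid the generic points of irreducible components. -/
theorem isEffCartierIdeal_comap_of_reduced_generic_avoid [IsReduced X] (f : X ⟶ Y)
    (𝓘 : Y.IdealSheafData) (hD : BlowUp.IsEffCartierIdeal 𝓘)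
    (h : ∀ ξ : ↥X, (∀ y : ↥X, y ⤳ ξ → y = ξ) → f ξ ∉ 𝓘.support) :
    BlowUp.IsEffCartierIdeal (𝓘.comap f) :=
  isEffCartierIdeal_comap_of_weakAss_avoid f 𝓘 hD fun x hx =>
    h x (eq_of_specializes_of_isWeakAssPoint_of_isReduced hx)

end Cartier

end Groth.Agent.Lib.ComapIdeal_helper4
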