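import Mathlib
import Groth.Prelude
import Groth.Agent.Lib.AdmSep_helper7
import Groth.Agent.Lib.BlowAdm_helper2
import Groth.Agent.Lib.Cart2_helper8
import Groth.Agent.Lib.ComapIdeal_helper4

/-!
# Separating closures along a quasi-compact morphism by an admissible blow-up (helper7)
-/

set_option autoImplicit false
universe u
open CategoryTheory AlgebraicGeometry TopologicalSpace Topology Limits

namespace Groth.Agent.Lib.AdmSep2H7

open Groth.Agent.Lib.AdmSepH7

/-- On a quasi-compact scheme, if `V(L) ⊆ V(K)` with `K` of finite type, a power of `K` lies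
in `L`. -/
theorem exists_pow_le_of_support_subset {X : Scheme.{u}} [CompactSpace X]
    (K L : X.IdealSheafData)
    (hK : ∀ W : X.affineOpens, (K.ideal W).FG) (h : (L.support : Set X) ⊆ K.support) :
    ∃ N : ℕ, K ^ (N + 1) ≤ L := by
  have key : ∀ W : X.affineOpens, ∃ n : ℕ, (K.ideal W) ^ n ≤ L.ideal W := by
    intro W
    refine Ideal.exists_pow_le_of_le_radical_of_fg ?_ (hK W)
    rw [← PrimeSpectrum.zeroLocus_subset_zeroLocus_iff]
    intro p hp
    have hxW : W.2.fromSpec p ∈ W.1 := by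
      have h0 : W.2.fromSpec p ∈ Set.range W.2.fromSpec := Set.mem_range_self p
      rw [W.2.range_fromSpec] at h0
      exact h0
    have h1 : W.2.fromSpec p ∈ X.zeroLocus (U := W.1) (L.ideal W) := by
      have h1' : p ∈ W.2.fromSpec ⁻¹' X.zeroLocus (U := W.1) (L.ideal W) := by
        rw [W.2.fromSpec_preimage_zeroLocus]
        exact hp
      exact h1'
    have h2 : W.2.fromSpec p ∈ K.support :=
      h ((Scheme.IdealSheafData.mem_support_iff_of_mem hxW).mpr h1)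
    have h3 := (Scheme.IdealSheafData.mem_support_iff_of_mem hxW).mp h2
    have h4 : p ∈ W.2.fromSpec ⁻¹' X.zeroLocus (U := W.1) (K.ideal W) := h3
    rw [W.2.fromSpec_preimage_zeroLocus] at h4
    exact h4
  choose n hn using key
  obtain ⟨t, ht⟩ := isCompact_univ.elim_finite_subcover
    (fun W : X.affineOpens => (W.1 : Set X)) (fun W => W.1.isOpen) (by
      intro x _
      obtain ⟨_, ⟨V, hV, rfl⟩, hxV, _⟩ :=
        (X.isBasis_affineOpens).exists_subset_of_mem_open (Set.mem_univ x) isOpen_univ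
      exact Set.mem_iUnion.mpr ⟨⟨V, hV⟩, hxV⟩)
  refine ⟨t.sup n, ?_⟩
  refine Scheme.IdealSheafData.le_of_iSup_eq_top (fun i : {W // W ∈ t} => i.1) ?_ ?_
  · rw [eq_top_iff]
    intro x _
    obtain ⟨W, hW⟩ := Set.mem_iUnion.mp (ht (Set.mem_univ x))
    obtain ⟨hWt, hxW⟩ := Set.mem_iUnion.mp hW
    exact Opens.mem_iSup.mpr ⟨⟨W, hWt⟩, hxW⟩
  · rintro ⟨W, hW⟩
    show (K.ideal W) ^ (t.sup n + 1) ≤ L.ideal W
    exact (Ideal.pow_le_pow_right ((Finset.le_sup hW).trans (Nat.le_succ _))).trans (hn W)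

theorem comap_pow {Y X : Scheme.{u}} (p : Y ⟶ X) (I : X.IdealSheafData) (n : ℕ) :
    (I ^ n).comap p = (I.comap p) ^ n := by
  induction n with
  | zero =>
    rw [pow_zero, pow_zero, Scheme.IdealSheafData.one_eq_top, Scheme.IdealSheafData.one_eq_top,
      Scheme.IdealSheafData.comap_top]
  | succ k ih => rw [pow_succ, CartH8.comap_mul, ih, pow_succ]

theorem ft_pow {X : Scheme.{u}} {I : X.IdealSheafData}
    (hI : ∀ W : X.affineOpens, (I.ideal W).FG) (n : ℕ) (W : X.affineOpens) :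
    ((I ^ n).ideal W).FG := by
  show ((I.ideal W) ^ n).FG
  exact Ideal.FG.pow (hI W)

theorem ft_mul {X : Scheme.{u}} {I J : X.IdealSheafData}
    (hI : ∀ W : X.affineOpens, (I.ideal W).FG) (hJ : ∀ W : X.affineOpens, (J.ideal W).FG)
    (W : X.affineOpens) : ((I * J).ideal W).FG := by
  show (I.ideal W * J.ideal W).FG
  exact Ideal.FG.mul (hI W) (hJ W)

/-- The closure of the preimage of `T ⊆ V(I)`, `T` disjoint from `V(E)`, lies in the support of
the "strict transform" colon ideal `J` (`I.comap c = J * E.comap c`). -/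
theorem closure_preimage_subset_support {X X' : Scheme.{u}} (c : X' ⟶ X)
    (I E : X.IdealSheafData) (J : X'.IdealSheafData) (e : I.comap c = J * E.comap c) (T : Set X)
    (hTI : T ⊆ I.support) (hTE : Disjoint (E.support : Set X) T) :
    closure ((fun x => c x) ⁻¹' T) ⊆ (J.support : Set X') := by
  refine closure_minimal ?_ J.support.isClosed
  intro y hy
  have hy' : c y ∈ T := hy
  have hy1 : y ∈ (I.comap c).support := (CartH8.mem_support_comap_iff c I y).mpr (hTI hy')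
  rw [e, Scheme.IdealSheafData.support_mul] at hy1
  have hy2 : y ∈ (J.support : Set X') ∪ ((E.comap c).support : Set X') := hy1
  rcases hy2 with hy2 | hy2
  · exact hy2
  · exact absurd hy' (fun h =>
      Set.disjoint_left.mp hTE ((CartH8.mem_support_comap_iff c E y).mp hy2) h)

/-- Local cancellation: if `A * E ≤ J * E` with `E` principal on an affine neighbourhood `W` of
`z`, and `z` is in the closure of a set `S` missing `V(E)`, then `z ∈ V(J)` implies `z ∈ V(A)`. -/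
theorem local_arg {Y : Scheme.{u}} (A J E : Y.IdealSheafData) (hrel : A * E ≤ J * E)
    (W : Y.affineOpens) (e : Γ(Y, W.1)) (hE : E.ideal W = Ideal.span {e})
    (S : Set Y) (hS : ∀ y ∈ S, y ∉ E.support)
    (z : Y) (hzW : z ∈ W.1) (hzS : z ∈ closure S) (hzJ : z ∈ J.support) : z ∈ A.support := by
  by_contra hzA
  rw [Scheme.IdealSheafData.mem_support_iff_of_mem (U := W) hzW, Scheme.mem_zeroLocus_iff] at hzA
  push Not at hzA
  obtain ⟨x, hx, hzx⟩ := hzA
  have hxe : x * e ∈ (J * E).ideal W := by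
    apply hrel W
    show x * e ∈ A.ideal W * E.ideal W
    rw [hE]
    exact Ideal.mul_mem_mul hx (Ideal.mem_span_singleton_self _)
  have hxe' : x * e ∈ J.ideal W * Ideal.span {e} := by
    rw [← hE]; exact hxe
  obtain ⟨a, ha', hae⟩ := Ideal.mem_mul_span_singleton.mp hxe'
  have hzero : (x - a) * e = 0 := by rw [sub_mul, hae, sub_self]
  have hf : z ∉ Y.basicOpen (x - a) := by
    intro hzφ
    obtain ⟨y, hy1, hy2⟩ := mem_closure_iff.mp hzS _ (Y.basicOpen (x - a)).isOpen hzφ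
    have hyW : y ∈ W.1 := Y.basicOpen_le _ hy1
    have hyE := hS y hy2
    rw [Scheme.IdealSheafData.mem_support_iff_of_mem (U := W) hyW, Scheme.mem_zeroLocus_iff]
      at hyE
    push Not at hyE
    obtain ⟨f, hf, hyf⟩ := hyE
    rw [hE] at hf
    obtain ⟨r, rfl⟩ := Ideal.mem_span_singleton'.mp hf
    rw [Scheme.basicOpen_mul] at hyf
    have hye : y ∈ Y.basicOpen e := hyf.2
    have h0 : y ∈ Y.basicOpen ((x - a) * e) := by
      rw [Scheme.basicOpen_mul]; exact ⟨hy1, hye⟩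
    rw [hzero, Scheme.basicOpen_zero] at h0
    exact (Opens.mem_bot).mp h0
  have hg : z ∉ Y.basicOpen a := by
    have hzJ' := hzJ
    rw [Scheme.IdealSheafData.mem_support_iff_of_mem (U := W) hzW, Scheme.mem_zeroLocus_iff]
      at hzJ'
    exact hzJ' a ha'
  have hzx' : z ∈ Y.basicOpen ((x - a) + a) := by rwa [sub_add_cancel]
  rcases Y.basicOpen_add_le _ _ hzx' with h | h
  · exact hf h
  · exact hg h

theorem main17392
    {X₁ X₂ : Scheme.{u}} [CompactSpace X₁] [QuasiSeparatedSpace X₁] [CompactSpace X₂]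
    [QuasiSeparatedSpace X₂]
    (q : X₂ ⟶ X₁)
    (V₁ : X₁.Opens) (hV₁ : IsCompact (V₁ : Set X₁))
    (U : X₂.Opens) (hU : U ≤ q ⁻¹ᵁ V₁)
    (Z₁ : Set X₁) (hZ₁ : IsClosed Z₁) (hZ₁c : IsCompact Z₁ᶜ)
    (Z₂ : Set X₂) (hZ₂ : IsClosed Z₂) (hZ₂c : IsCompact Z₂ᶜ)
    (hYZ : (fun x => q x) ⁻¹' (Z₁ ∩ (V₁ : Set X₁)) ⊆ Z₂) :
    ∃ 𝓔 : X₁.IdealSheafData, BlowUp.IsFiniteTypeIdeal 𝓔 ∧
      (𝓔.support : Set X₁) ⊆ Z₁ \ (V₁ : Set X₁) ∧
      ∀ (X₁' : Scheme.{u}) (c : X₁' ⟶ X₁), BlowUp.IsBlowUp c 𝓔 →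
        (fun z => (pullback.snd q c) z) ⁻¹'
            closure ((fun x => c x) ⁻¹' (Z₁ ∩ (V₁ : Set X₁))) ∩
            closure ((fun z => (pullback.fst q c) z) ⁻¹' (U : Set X₂)) ⊆
          (fun z => (pullback.fst q c) z) ⁻¹' Z₂ := by
  obtain ⟨I, hIft, hIs⟩ := (IdealFTH7.main9823 X₁ ⟨Z₁ᶜ, hZ₁.isOpen_compl⟩).mp hZ₁c
  obtain ⟨H, hHft, hHs⟩ := (IdealFTH7.main9823 X₁ V₁).mp hV₁
  obtain ⟨I₂, hI₂ft, hI₂s⟩ := (IdealFTH7.main9823 X₂ ⟨Z₂ᶜ, hZ₂.isOpen_compl⟩).mp hZ₂c
  have hIs' : (I.support : Set X₁) = Z₁ := by rw [hIs]; exact compl_compl Z₁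
  have hI₂s' : (I₂.support : Set X₂) = Z₂ := by rw [hI₂s]; exact compl_compl Z₂
  have hKft : ∀ W : X₂.affineOpens, ((I₂ * H.comap q).ideal W).FG :=
    ft_mul hI₂ft (Groth.Agent.Lib.BlowAdm.isFiniteType_comap q H hHft)
  have hsub : ((I.comap q).support : Set X₂) ⊆ (I₂ * H.comap q).support := by
    intro x hx
    have hx1 : q x ∈ I.support := (CartH8.mem_support_comap_iff q I x).mp hx
    have hx1' : q x ∈ Z₁ := by rw [← hIs']; exact hx1
    rw [Scheme.IdealSheafData.support_mul]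
    show x ∈ (I₂.support : Set X₂) ∪ ((H.comap q).support : Set X₂)
    by_cases hxV : q x ∈ (V₁ : Set X₁)
    · left
      rw [hI₂s']
      exact hYZ ⟨hx1', hxV⟩
    · right
      refine (CartH8.mem_support_comap_iff q H x).mpr ?_
      show q x ∈ (H.support : Set X₁)
      rw [hHs]
      exact hxV
  obtain ⟨N, hN⟩ := exists_pow_le_of_support_subset (I₂ * H.comap q) (I.comap q) hKft hsub
  obtain ⟨P, hP⟩ : ∃ P : X₁.IdealSheafData, P = H ^ (N + 1) := ⟨_, rfl⟩
  obtain ⟨Q, hQ⟩ : ∃ Q : X₂.IdealSheafData, Q = I₂ ^ (N + 1) := ⟨_, rfl⟩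
  have hrel : Q * P.comap q ≤ I.comap q := by
    rw [hP, hQ, comap_pow, ← mul_pow]
    exact hN
  have hPs : (P.support : Set X₁) = (V₁ : Set X₁)ᶜ := by
    rw [hP, Scheme.IdealSheafData.support_pow_succ]; exact hHs
  have hQs : (Q.support : Set X₂) = Z₂ := by
    rw [hQ, Scheme.IdealSheafData.support_pow_succ]; exact hI₂s'
  have hPft : ∀ W : X₁.affineOpens, (P.ideal W).FG := by
    rw [hP]; exact ft_pow hHft (N + 1)
  have hEdisj : Disjoint ((I ⊔ P).support : Set X₁) (V₁ : Set X₁) := by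
    rw [Set.disjoint_left]
    intro x hx hxV
    rw [Scheme.IdealSheafData.support_sup] at hx
    have hx2 : x ∈ (V₁ : Set X₁)ᶜ := by rw [← hPs]; exact hx.2
    exact hx2 hxV
  refine ⟨I ⊔ P, IdealFTH7.ft_sup hIft hPft, ?_, ?_⟩
  · intro x hx
    have hx' := hx
    rw [Scheme.IdealSheafData.support_sup] at hx'
    have hx1' : x ∈ Z₁ := by rw [← hIs']; exact hx'.1
    exact ⟨hx1', fun hxV => Set.disjoint_left.mp hEdisj hx hxV⟩
  intro X₁' c hc
  have hE' : BlowUp.IsEffCartierIdeal (I.comap c ⊔ P.comap c) := by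
    rw [← Scheme.IdealSheafData.comap_sup]; exact hc.1
  obtain ⟨J₁, J₂, e₁, e₂, hJ⟩ := colon_split _ _ hE'
  rw [← Scheme.IdealSheafData.comap_sup] at e₁ e₂
  rintro z ⟨hz1, hz2⟩
  by_contra hzZ
  obtain ⟨c₂, hc₂⟩ : ∃ c₂ : pullback q c ⟶ X₂, c₂ = pullback.fst q c := ⟨_, rfl⟩
  obtain ⟨q', hq'⟩ : ∃ q' : pullback q c ⟶ X₁', q' = pullback.snd q c := ⟨_, rfl⟩
  rw [← hc₂] at hz2 hzZ
  rw [← hq'] at hz1
  have hzZ' : c₂ z ∉ Z₂ := hzZ
  have hcond : c₂ ≫ q = q' ≫ c := by rw [hc₂, hq']; exact pullback.condition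
  have ha : q' z ∈ J₁.support :=
    closure_preimage_subset_support c I (I ⊔ P) J₁ e₁ (Z₁ ∩ (V₁ : Set X₁))
      (by rw [hIs']; exact Set.inter_subset_left) (hEdisj.mono_right Set.inter_subset_right) hz1
  have hb : q' z ∉ J₂.support := by
    intro hb
    have h3 : q' z ∈ (J₁ ⊔ J₂).support := by
      rw [Scheme.IdealSheafData.support_sup]; exact ⟨ha, hb⟩
    rw [hJ, Scheme.IdealSheafData.support_top] at h3
    exact (Set.notMem_empty _) h3
  have hrel' : Q.comap c₂ * J₂.comap q' * ((I ⊔ P).comap c).comap q' ≤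
      J₁.comap q' * ((I ⊔ P).comap c).comap q' := by
    have h1 : (Q * P.comap q).comap c₂ ≤ (I.comap q).comap c₂ :=
      (Scheme.IdealSheafData.comap_mono (f := c₂)) hrel
    rw [CartH8.comap_mul, ← Scheme.IdealSheafData.comap_comp,
      ← Scheme.IdealSheafData.comap_comp, hcond, Scheme.IdealSheafData.comap_comp,
      Scheme.IdealSheafData.comap_comp, e₁, e₂, CartH8.comap_mul, CartH8.comap_mul,
      ← mul_assoc] at h1
    exact h1
  obtain ⟨N₁, hxN₁, e, he, hEe⟩ := hc.1 (q' z)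
  obtain ⟨_, ⟨Nz, hNz, rfl⟩, hzN, hNle⟩ :=
    ((pullback q c).isBasis_affineOpens).exists_subset_of_mem_open
      (show z ∈ (q' ⁻¹ᵁ N₁.1 : (pullback q c).Opens).1 from hxN₁)
      (q' ⁻¹ᵁ N₁.1).isOpen
  have hE'' : (((I ⊔ P).comap c).comap q').ideal ⟨Nz, hNz⟩ =
      Ideal.span {(q'.appLE N₁.1 Nz hNle).hom e} := by
    rw [Groth.Agent.Lib.ComapIdeal_helper4.comap_ideal_eq q' _ N₁ ⟨Nz, hNz⟩ hNle, hEe,
      Ideal.map_span, Set.image_singleton]
  have hS : ∀ y ∈ (fun z => c₂ z) ⁻¹' (U : Set X₂),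
      y ∉ (((I ⊔ P).comap c).comap q').support := by
    intro y hy h
    have hyU : c₂ y ∈ U := hy
    have hyV : q (c₂ y) ∈ V₁ := hU hyU
    have hyV' : c (q' y) ∈ V₁ := by
      have h0 : (c₂ ≫ q) y = (q' ≫ c) y := by rw [hcond]
      rw [Scheme.Hom.comp_apply, Scheme.Hom.comp_apply] at h0
      rw [← h0]; exact hyV
    have h1 : q' y ∈ ((I ⊔ P).comap c).support := (CartH8.mem_support_comap_iff q' _ y).mp h
    have h2 : c (q' y) ∈ (I ⊔ P).support := (CartH8.mem_support_comap_iff c _ _).mp h1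
    exact Set.disjoint_left.mp hEdisj h2 hyV'
  have hfin := local_arg (Q.comap c₂ * J₂.comap q') (J₁.comap q') _ hrel' ⟨Nz, hNz⟩ _ hE''
    _ hS z hzN hz2 ((CartH8.mem_support_comap_iff q' _ z).mpr ha)
  rw [Scheme.IdealSheafData.support_mul] at hfin
  have hfin' : z ∈ ((Q.comap c₂).support : Set _) ∪ ((J₂.comap q').support : Set _) := hfin
  rcases hfin' with h | h
  · have h1 : c₂ z ∈ (Q.support : Set X₂) := (CartH8.mem_support_comap_iff c₂ _ z).mp h
    rw [hQs] at h1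
    exact hzZ' h1
  · exact hb ((CartH8.mem_support_comap_iff q' _ z).mp h)

end Groth.Agent.Lib.AdmSep2H7
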