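import Mathlib

/-!
# Pullback squares in a localization with a calculus of right fractions (helper7)

`isPullback_map`: a commutative square of `C` which is a "pullback up to `W`" becomes a pullback
square in the localization, when `W` has a calculus of right fractions.
Also `isTerminal_map`.
-/

set_option autoImplicit false
set_option linter.style.haveILetI false
universe v₁ v₂ u₁ u₂
open CategoryTheory CategoryTheory.Limits

namespace Groth.Agent.Lib.LocPullbackH7

variable {C : Type u₁} [Category.{v₁} C] {D : Type u₂} [Category.{v₂} D] (L : C ⥤ D)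
  (W : MorphismProperty C) [L.IsLocalization W] [W.HasRightCalculusOfFractions]

/-- Two morphisms out of `L.obj A` can be written with a common denominator. -/
theorem exists_common_denominator {A X T : C} (a : L.obj A ⟶ L.obj X) (b : L.obj A ⟶ L.obj T) :
    ∃ (A' : C) (t : A' ⟶ A) (_ : W t) (u : A' ⟶ X) (v : A' ⟶ T),
      L.map t ≫ a = L.map u ∧ L.map t ≫ b = L.map v := by
  obtain ⟨φ₁, h₁⟩ := Localization.exists_rightFraction L W a
  obtain ⟨φ₂, h₂⟩ := Localization.exists_rightFraction L W b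
  obtain ⟨ψ, hψ⟩ := (MorphismProperty.LeftFraction.mk φ₂.s φ₁.s φ₁.hs).exists_rightFraction
  dsimp at hψ
  refine ⟨ψ.X', ψ.s ≫ φ₂.s, W.comp_mem _ _ ψ.hs φ₂.hs, ψ.f ≫ φ₁.f, ψ.s ≫ φ₂.f, ?_, ?_⟩
  · rw [hψ, h₁, L.map_comp, Category.assoc, MorphismProperty.RightFraction.map_s_comp_map,
      ← L.map_comp]
  · rw [h₂, L.map_comp, Category.assoc, MorphismProperty.RightFraction.map_s_comp_map,
      ← L.map_comp]

section Pullback

variable {X T P Y : C} (f : X ⟶ P) (g : T ⟶ P) (pX : Y ⟶ X) (pT : Y ⟶ T)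

theorem exists_lift_obj
    (hEX : ∀ (A : C) (u : A ⟶ X) (v : A ⟶ T), u ≫ f = v ≫ g →
      ∃ (A' : C) (s : A' ⟶ A) (_ : W s) (w : A' ⟶ Y), w ≫ pX = s ≫ u ∧ w ≫ pT = s ≫ v)
    {A : C} (a : L.obj A ⟶ L.obj X) (b : L.obj A ⟶ L.obj T)
    (h : a ≫ L.map f = b ≫ L.map g) :
    ∃ c : L.obj A ⟶ L.obj Y, c ≫ L.map pX = a ∧ c ≫ L.map pT = b := by
  obtain ⟨A₃, t, ht, u, v, hu, hv⟩ := exists_common_denominator L W a b
  have h1 : L.map (u ≫ f) = L.map (v ≫ g) := by
    rw [L.map_comp, L.map_comp, ← hu, ← hv, Category.assoc, Category.assoc, h]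
  obtain ⟨A₄, r, hr, h2⟩ := (MorphismProperty.map_eq_iff_precomp L W _ _).mp h1
  obtain ⟨A₅, s, hs, w, hw1, hw2⟩ := hEX A₄ (r ≫ u) (r ≫ v)
    (by rw [Category.assoc, Category.assoc]; exact h2)
  haveI : IsIso (L.map t) := Localization.inverts L W t ht
  haveI : IsIso (L.map r) := Localization.inverts L W r hr
  haveI : IsIso (L.map s) := Localization.inverts L W s hs
  refine ⟨inv (L.map t) ≫ inv (L.map r) ≫ inv (L.map s) ≫ L.map w, ?_, ?_⟩
  · rw [Category.assoc, Category.assoc, Category.assoc, ← L.map_comp, hw1, L.map_comp,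
      L.map_comp, IsIso.inv_hom_id_assoc, IsIso.inv_hom_id_assoc, ← hu, IsIso.inv_hom_id_assoc]
  · rw [Category.assoc, Category.assoc, Category.assoc, ← L.map_comp, hw2, L.map_comp,
      L.map_comp, IsIso.inv_hom_id_assoc, IsIso.inv_hom_id_assoc, ← hv, IsIso.inv_hom_id_assoc]

theorem lift_unique_obj
    (hUN : ∀ (A : C) (w₁ w₂ : A ⟶ Y), w₁ ≫ pX = w₂ ≫ pX → w₁ ≫ pT = w₂ ≫ pT →
      ∃ (A' : C) (s : A' ⟶ A) (_ : W s), s ≫ w₁ = s ≫ w₂)
    {A : C} (c₁ c₂ : L.obj A ⟶ L.obj Y) (h1 : c₁ ≫ L.map pX = c₂ ≫ L.map pX)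
    (h2 : c₁ ≫ L.map pT = c₂ ≫ L.map pT) : c₁ = c₂ := by
  obtain ⟨A₃, t, ht, w₁, w₂, hw₁, hw₂⟩ := exists_common_denominator L W c₁ c₂
  haveI : IsIso (L.map t) := Localization.inverts L W t ht
  have e1 : L.map (w₁ ≫ pX) = L.map (w₂ ≫ pX) := by
    rw [L.map_comp, L.map_comp, ← hw₁, ← hw₂, Category.assoc, Category.assoc, h1]
  obtain ⟨A₄, r, hr, hr1⟩ := (MorphismProperty.map_eq_iff_precomp L W _ _).mp e1
  have e2 : L.map ((r ≫ w₁) ≫ pT) = L.map ((r ≫ w₂) ≫ pT) := by
    rw [L.map_comp, L.map_comp, L.map_comp, L.map_comp, ← hw₁, ← hw₂]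
    simp only [Category.assoc]
    rw [h2]
  obtain ⟨A₅, r₂, hr₂, hr21⟩ := (MorphismProperty.map_eq_iff_precomp L W _ _).mp e2
  obtain ⟨A₆, s, hs, hs1⟩ := hUN A₅ (r₂ ≫ r ≫ w₁) (r₂ ≫ r ≫ w₂)
    (by simp only [Category.assoc]; rw [hr1])
    (by simpa only [Category.assoc] using hr21)
  haveI : IsIso (L.map r) := Localization.inverts L W r hr
  haveI : IsIso (L.map r₂) := Localization.inverts L W r₂ hr₂
  haveI : IsIso (L.map s) := Localization.inverts L W s hs
  have e3 : L.map w₁ = L.map w₂ := by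
    have h3 := congrArg L.map hs1
    simp only [L.map_comp] at h3
    rwa [cancel_epi (L.map s), cancel_epi (L.map r₂), cancel_epi (L.map r)] at h3
  rw [← cancel_epi (L.map t), hw₁, hw₂, e3]

/-- A commutative square of `C` which satisfies the universal property of a pullback up to
morphisms of `W` is sent to a pullback square by the localization functor. -/
theorem isPullback_map (comm : pT ≫ g = pX ≫ f)
    (hEX : ∀ (A : C) (u : A ⟶ X) (v : A ⟶ T), u ≫ f = v ≫ g →
      ∃ (A' : C) (s : A' ⟶ A) (_ : W s) (w : A' ⟶ Y), w ≫ pX = s ≫ u ∧ w ≫ pT = s ≫ v)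
    (hUN : ∀ (A : C) (w₁ w₂ : A ⟶ Y), w₁ ≫ pX = w₂ ≫ pX → w₁ ≫ pT = w₂ ≫ pT →
      ∃ (A' : C) (s : A' ⟶ A) (_ : W s), s ≫ w₁ = s ≫ w₂) :
    IsPullback (L.map pT) (L.map pX) (L.map g) (L.map f) := by
  have hw : L.map pT ≫ L.map g = L.map pX ≫ L.map f := by
    rw [← L.map_comp, ← L.map_comp, comm]
  haveI : L.EssSurj := Localization.essSurj L W
  have key : ∀ s : PullbackCone (L.map g) (L.map f),
      ∃ c : s.pt ⟶ L.obj Y, c ≫ L.map pT = s.fst ∧ c ≫ L.map pX = s.snd := by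
    intro s
    obtain ⟨c, hc1, hc2⟩ := exists_lift_obj L W f g pX pT hEX
      ((L.objObjPreimageIso s.pt).hom ≫ s.snd) ((L.objObjPreimageIso s.pt).hom ≫ s.fst)
      (by rw [Category.assoc, Category.assoc, s.condition])
    exact ⟨(L.objObjPreimageIso s.pt).inv ≫ c,
      by rw [Category.assoc, hc2, Iso.inv_hom_id_assoc],
      by rw [Category.assoc, hc1, Iso.inv_hom_id_assoc]⟩
  refine ⟨⟨hw⟩, ⟨PullbackCone.IsLimit.mk hw (fun s => (key s).choose)
    (fun s => (key s).choose_spec.1) (fun s => (key s).choose_spec.2)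
    (fun s m hm1 hm2 => ?_)⟩⟩
  obtain ⟨h1, h2⟩ := (key s).choose_spec
  rw [← cancel_epi (L.objObjPreimageIso s.pt).hom]
  apply lift_unique_obj L W pX pT hUN
  · rw [Category.assoc, Category.assoc, hm2, h2]
  · rw [Category.assoc, Category.assoc, hm1, h1]

end Pullback

section Terminal

include W in
/-- The image of a terminal object is terminal in the localization. -/
theorem isTerminal_map {Z : C} (hZ : IsTerminal Z) : Nonempty (IsTerminal (L.obj Z)) := by
  haveI : L.EssSurj := Localization.essSurj L W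
  have huniq : ∀ (A : C) (a b : L.obj A ⟶ L.obj Z), a = b := by
    intro A a b
    obtain ⟨A', t, ht, u, v, hu, hv⟩ := exists_common_denominator L W a b
    haveI : IsIso (L.map t) := Localization.inverts L W t ht
    rw [← cancel_epi (L.map t), hu, hv, hZ.hom_ext u v]
  refine ⟨IsTerminal.ofUniqueHom
    (fun B => (L.objObjPreimageIso B).inv ≫ L.map (hZ.from (L.objPreimage B))) ?_⟩
  intro B m
  rw [← cancel_epi (L.objObjPreimageIso B).hom]
  exact huniq _ _ _

end Terminal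

end Groth.Agent.Lib.LocPullbackH7
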