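import Mathlib
import Groth.Agent.Lib.Cart8_helper8
set_option autoImplicit false
open AlgebraicGeometry CategoryTheory CategoryTheory.Limits TopologicalSpace Opposite
open QcqsLoc
universe u
namespace CartH8

/-- Cancellation of an effective Cartier ideal in an inequality of ideal sheaves. -/
theorem le_of_mul_le_mul_cartier {Y : Scheme.{u}} (A B E : Y.IdealSheafData)
    (hE : BlowUp.IsEffCartierIdeal E) (h : A * E ≤ B * E) : A ≤ B := by
  have hcov : ⨆ v : {V : Y.affineOpens // ∃ e : Γ(Y, V.1),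
      e ∈ nonZeroDivisors Γ(Y, V.1) ∧ E.ideal V = Ideal.span {e}},
      ((v.1 : Y.affineOpens) : Y.Opens) = ⊤ := by
    rw [eq_top_iff]
    intro x _
    obtain ⟨V, hxV, e, he, hEe⟩ := hE x
    exact TopologicalSpace.Opens.mem_iSup.mpr ⟨⟨V, e, he, hEe⟩, hxV⟩
  refine Scheme.IdealSheafData.le_of_iSup_eq_top (fun v : {V : Y.affineOpens // ∃ e : Γ(Y, V.1),
      e ∈ nonZeroDivisors Γ(Y, V.1) ∧ E.ideal V = Ideal.span {e}} => v.1) hcov ?_
  rintro ⟨U, e, he, hEe⟩
  change A.ideal U ≤ B.ideal U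
  intro a ha
  have h0 : (A * E).ideal U ≤ (B * E).ideal U := h U
  have hee : e ∈ E.ideal U := by
    rw [hEe]
    exact Ideal.mem_span_singleton_self e
  have h1 : a * e ∈ B.ideal U * Ideal.span {e} := by
    have h2 : a * e ∈ (A * E).ideal U := by
      change a * e ∈ A.ideal U * E.ideal U
      exact Ideal.mul_mem_mul ha hee
    have h3 := h0 h2
    change a * e ∈ B.ideal U * E.ideal U at h3
    rw [hEe] at h3
    exact h3
  rw [Ideal.mem_mul_span_singleton] at h1
  obtain ⟨b, hb, hbe⟩ := h1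
  have h4 : e * (b - a) = 0 := by
    rw [mul_sub, mul_comm e b, mul_comm e a, hbe, sub_self]
  have h5 : b = a := sub_eq_zero.mp ((mem_nonZeroDivisors_iff.mp he).1 _ h4)
  exact h5 ▸ hb

/-- Cancellation of an effective Cartier ideal in an equality of ideal sheaves. -/
theorem eq_of_mul_eq_mul_cartier {Y : Scheme.{u}} (A B E : Y.IdealSheafData)
    (hE : BlowUp.IsEffCartierIdeal E) (h : A * E = B * E) : A = B :=
  le_antisymm (le_of_mul_le_mul_cartier A B E hE h.le) (le_of_mul_le_mul_cartier B A E hE h.ge)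

end CartH8
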