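import Mathlib
import Groth.Prelude
import Groth.Agent.Lib.Cart9_helper8
import Groth.Agent.Lib.CartDiff_helper4
import Groth.Agent.Lib.BlowExist_helper2

/-!
# Existence of ambient products of modulus pairs (helper7)

`main18750`: blow up the centre (helper2's existence of blow-ups), and divide the two pulled-back
moduli by the exceptional divisor (helper4's colon ideal sheaf).  The first part of the proof
(the pulled-back moduli are effective Cartier) follows helper8's proof of S18749.
-/

set_option autoImplicit false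
set_option linter.style.haveILetI false
universe u
open CategoryTheory CategoryTheory.Limits AlgebraicGeometry TopologicalSpace Opposite

namespace Groth.Agent.Lib.ModPairAmbProdExH7

theorem main18750 {S T X : Scheme.{u}} (IS : S.IdealSheafData)
    (J : T.IdealSheafData) (I : X.IdealSheafData) (hS : BlowUp.IsEffCartierIdeal IS)
    (hT : BlowUp.IsEffCartierIdeal J) (hX : BlowUp.IsEffCartierIdeal I)
    (f : X ⟶ S) (hf : ModPair.IsAmbient I IS f) (g : T ⟶ S) (hg : ModPair.IsAmbient J IS g) :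
    ∃ (Y : Scheme.{u}) (π : Y ⟶ ModPair.mprod f g I J) (K : Y.IdealSheafData),
      ModPair.IsAmbProd f g I J π K := by
  haveI : IsAffineHom (ModPair.prodInterior f g I J).ι :=
    CartH8.isAffineHom_prodInterior_ι f g I J hX hT
  have hDX₀ : BlowUp.IsEffCartierIdeal
      (I.comap (ModPair.mprodι f g I J ≫ pullback.fst f g)) := by
    rw [Scheme.IdealSheafData.comap_comp]
    apply CartH8.isEffCartier_comap_imageι (ModPair.prodInterior f g I J)
      (I.comap (pullback.fst f g))
    · intro z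
      obtain ⟨UX, hxU, τ, -, hτ⟩ := hX (pullback.fst f g z)
      obtain ⟨_, ⟨U, hU : IsAffineOpen U, rfl⟩, hzU, hUle⟩ :=
        ((pullback f g).isBasis_affineOpens).exists_subset_of_mem_open
          (show z ∈ (((pullback.fst f g) ⁻¹ᵁ UX.1 : (pullback f g).Opens) : Set _) from hxU)
          ((pullback.fst f g) ⁻¹ᵁ UX.1).2
      refine ⟨⟨U, hU⟩, hzU, ((pullback.fst f g).appLE UX.1 U hUle).hom τ, ?_⟩
      rw [ComapIdH8.comap_ideal _ I ⟨U, hU⟩ UX hUle, hτ, Ideal.map_span, Set.image_singleton]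
    · intro z hz
      rw [CartH8.mem_support_comap_iff]
      exact hz.1
  have hDT₀ : BlowUp.IsEffCartierIdeal
      (J.comap (ModPair.mprodι f g I J ≫ pullback.snd f g)) := by
    rw [Scheme.IdealSheafData.comap_comp]
    apply CartH8.isEffCartier_comap_imageι (ModPair.prodInterior f g I J)
      (J.comap (pullback.snd f g))
    · intro z
      obtain ⟨UT, htU, τ, -, hτ⟩ := hT (pullback.snd f g z)
      obtain ⟨_, ⟨U, hU : IsAffineOpen U, rfl⟩, hzU, hUle⟩ :=
        ((pullback f g).isBasis_affineOpens).exists_subset_of_mem_open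
          (show z ∈ (((pullback.snd f g) ⁻¹ᵁ UT.1 : (pullback f g).Opens) : Set _) from htU)
          ((pullback.snd f g) ⁻¹ᵁ UT.1).2
      refine ⟨⟨U, hU⟩, hzU, ((pullback.snd f g).appLE UT.1 U hUle).hom τ, ?_⟩
      rw [ComapIdH8.comap_ideal _ J ⟨U, hU⟩ UT hUle, hτ, Ideal.map_span, Set.image_singleton]
    · intro z hz
      rw [CartH8.mem_support_comap_iff]
      exact hz.2
  obtain ⟨Y, π, hblow⟩ := Groth.Agent.Lib.BlowExist.main8859 (ModPair.mprod f g I J)
    (ModPair.prodCentre f g I J)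
  obtain ⟨DX, hDXdef⟩ : ∃ DX : Y.IdealSheafData,
      DX = (I.comap (ModPair.mprodι f g I J ≫ pullback.fst f g)).comap π := ⟨_, rfl⟩
  obtain ⟨DT, hDTdef⟩ : ∃ DT : Y.IdealSheafData,
      DT = (J.comap (ModPair.mprodι f g I J ≫ pullback.snd f g)).comap π := ⟨_, rfl⟩
  obtain ⟨E, hEdef⟩ : ∃ E : Y.IdealSheafData,
      E = (ModPair.prodCentre f g I J).comap π := ⟨_, rfl⟩
  have hDX : BlowUp.IsEffCartierIdeal DX := by
    rw [hDXdef]
    exact CartH8.isEffCartier_comap_of_isBlowUp π _ hblow _ hDX₀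
  have hDT : BlowUp.IsEffCartierIdeal DT := by
    rw [hDTdef]
    exact CartH8.isEffCartier_comap_of_isBlowUp π _ hblow _ hDT₀
  have hE : BlowUp.IsEffCartierIdeal E := by
    rw [hEdef]
    exact hblow.1
  have hEsup : E = DX ⊔ DT := by
    rw [hEdef, hDXdef, hDTdef]
    unfold ModPair.prodCentre
    exact Scheme.IdealSheafData.comap_sup _ _ _
  obtain ⟨DX', DT', -, -, e1, e2, -, -⟩ :=
    Groth.Agent.Lib.CartDiffH4.main DX DT hDX hDT (hEsup ▸ hE)
  refine ⟨Y, π, DX' * DT' * (DX ⊔ DT), hblow, ?_⟩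
  rw [← hEdef, ← hDXdef, ← hDTdef, hEsup, mul_assoc, mul_mul_mul_comm, ← e1, ← e2]

end Groth.Agent.Lib.ModPairAmbProdExH7
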