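import Mathlib
import Groth.Agent.Lib.LocalCrit7_helper9

/-!
# Local criterion of flatness for morphisms of schemes (helper9)

Extraction of ring-level flatness from flatness of a base change along a (locally) closed
immersion, and flatness of stalk maps from flatness of localizations.
-/

set_option autoImplicit false
universe u

namespace Groth.Agent.Lib.LocFlatSch

open AlgebraicGeometry CategoryTheory CategoryTheory.Limits TensorProduct

/-- From flatness of `X ×_S Z ⟶ Z`, where an open piece of `Z` is `Spec (R/J)` for an affine open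
`Spec R = U ⊆ S`, deduce flatness of `R/J ⟶ R/J ⊗_R T` for an affine open `Spec T = V ⊆ f⁻¹ U`. -/
theorem flat_quot_tensor_of_flat_pullback {X S Z : Scheme.{u}} (f : X ⟶ S) (ι : Z ⟶ S)
    {U : S.Opens} (hU : IsAffineOpen U) {V : X.Opens} (hV : IsAffineOpen V) (hVU : V ≤ f ⁻¹ᵁ U)
    (J : Ideal Γ(S, U)) (c : Spec (CommRingCat.of (Γ(S, U) ⧸ J)) ⟶ Z) [IsOpenImmersion c]
    (hc : c ≫ ι = Spec.map (CommRingCat.ofHom (Ideal.Quotient.mk J)) ≫ hU.fromSpec)
    (hflat : Flat (pullback.snd f ι)) :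
    letI := (f.appLE U V hVU).hom.toAlgebra
    Module.Flat (Γ(S, U) ⧸ J) ((Γ(S, U) ⧸ J) ⊗[Γ(S, U)] Γ(X, V)) := by
  letI := (f.appLE U V hVU).hom.toAlgebra
  haveI : Flat (pullback.fst ι f) := by
    rw [← pullbackSymmetry_hom_comp_snd]; infer_instance
  have e₁ : Spec.map (CommRingCat.ofHom (algebraMap Γ(S, U) (Γ(S, U) ⧸ J))) ≫ hU.fromSpec = c ≫ ι :=
    hc.symm
  have e₂ : Spec.map (CommRingCat.ofHom (algebraMap Γ(S, U) Γ(X, V))) ≫ hU.fromSpec =
      hV.fromSpec ≫ f :=
    IsAffineOpen.SpecMap_appLE_fromSpec f hU hV hVU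
  let θ := pullback.map (Spec.map (CommRingCat.ofHom (algebraMap Γ(S, U) (Γ(S, U) ⧸ J))))
    (Spec.map (CommRingCat.ofHom (algebraMap Γ(S, U) Γ(X, V)))) ι f c hV.fromSpec hU.fromSpec e₁ e₂
  have h1 : θ ≫ pullback.fst ι f = pullback.fst _ _ ≫ c := pullback.lift_fst _ _ _
  haveI : Flat (pullback.fst (Spec.map (CommRingCat.ofHom (algebraMap Γ(S, U) (Γ(S, U) ⧸ J))))
      (Spec.map (CommRingCat.ofHom (algebraMap Γ(S, U) Γ(X, V)))) ≫ c) := by
    rw [← h1]; infer_instance
  haveI : Flat (pullback.fst (Spec.map (CommRingCat.ofHom (algebraMap Γ(S, U) (Γ(S, U) ⧸ J))))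
      (Spec.map (CommRingCat.ofHom (algebraMap Γ(S, U) Γ(X, V))))) :=
    MorphismProperty.of_postcomp (W := @Flat) (W' := @IsOpenImmersion) _ c inferInstance
      inferInstance
  have h2 := pullbackSpecIso_inv_fst' Γ(S, U) (Γ(S, U) ⧸ J) Γ(X, V)
  have h3 : Flat (Spec.map (CommRingCat.ofHom
      (algebraMap (Γ(S, U) ⧸ J) ((Γ(S, U) ⧸ J) ⊗[Γ(S, U)] Γ(X, V))))) := by
    rw [← h2]; infer_instance
  rw [HasRingHomProperty.Spec_iff (P := @Flat)] at h3
  exact (RingHom.flat_algebraMap_iff).mp h3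

theorem notMem_primeIdealOf_iff {X : Scheme.{u}} {U : X.Opens} (hU : IsAffineOpen U) {x : X}
    (hx : x ∈ U) (a : Γ(X, U)) :
    a ∉ (hU.primeIdealOf ⟨x, hx⟩).asIdeal ↔ x ∈ X.basicOpen a := by
  have h1 : a ∈ (hU.primeIdealOf ⟨x, hx⟩).asIdeal ↔
      (X.presheaf.germ U x hx).hom a ∈ IsLocalRing.maximalIdeal (X.presheaf.stalk x) := by
    rw [hU.primeIdealOf_eq_map_closedPoint]
    rfl
  rw [h1, Scheme.mem_basicOpen _ _ _ hx, IsLocalRing.mem_maximalIdeal, mem_nonunits_iff, not_not]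

/-- The stalk map at `x` is flat as soon as the localization of `Γ(X, V)` at the prime of `x` is
flat over `Γ(S, U)`. -/
theorem flat_stalkMap_of_flat_localizedModule {X S : Scheme.{u}} (f : X ⟶ S)
    {U : S.Opens} (hU : IsAffineOpen U) {V : X.Opens} (hV : IsAffineOpen V) (hVU : V ≤ f ⁻¹ᵁ U)
    {x : X} (hx : x ∈ V)
    (h : letI := (f.appLE U V hVU).hom.toAlgebra
      Module.Flat Γ(S, U)
        (LocalizedModule (hV.primeIdealOf ⟨x, hx⟩).asIdeal.primeCompl Γ(X, V))) :
    (f.stalkMap x).hom.Flat := by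
  rw [RingHom.Flat.respectsIso.arrow_mk_iso_iff (IsAffineOpen.arrowStalkMapIso f U hU V hV hVU hx)]
  letI := (f.appLE U V hVU).hom.toAlgebra
  set q := (hV.primeIdealOf ⟨x, hx⟩).asIdeal with hq
  set p := (hU.primeIdealOf ⟨f x, hVU hx⟩).asIdeal with hp
  have hpq : p = q.comap (f.appLE U V hVU).hom :=
    congr($(IsAffineOpen.comap_primeIdealOf_appLE U hU V hV hVU hx).1).symm
  let ψ := Localization.localRingHom p q (f.appLE U V hVU).hom hpq
  show ψ.Flat
  letI := ψ.toAlgebra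
  haveI : IsScalarTower Γ(S, U) (Localization.AtPrime p) (Localization.AtPrime q) :=
    .of_algebraMap_eq (fun r => (Localization.localRingHom_to_map p q _ hpq r).symm)
  have e := IsLocalizedModule.iso q.primeCompl
    (Algebra.linearMap Γ(X, V) (Localization.AtPrime q))
  haveI : Module.Flat Γ(S, U) (Localization.AtPrime q) :=
    Module.Flat.of_linearEquiv (e.restrictScalars Γ(S, U)).symm
  exact RingHom.flat_algebraMap_iff.mpr
    ((Module.flat_iff_of_isLocalization (Localization.AtPrime p) p.primeCompl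
      (Localization.AtPrime q)).mpr inferInstance)

/-- **Local criterion of flatness at a point**: if all the base changes of `f` to the
infinitesimal neighbourhoods of the closed subscheme `V(I)` are flat, then `f` is flat at all
points over `V(I)`. -/
theorem flat_stalkMap_of_flat_infinitesimal {X S : Scheme.{u}} (f : X ⟶ S)
    [IsLocallyNoetherian X] [IsLocallyNoetherian S] (I : S.IdealSheafData)
    (h : ∀ n : ℕ, Flat (pullback.snd f (I ^ (n + 1)).subschemeι)) (x : X)
    (hx : f x ∈ I.support) : (f.stalkMap x).hom.Flat := by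
  obtain ⟨U, hU, hfxU, -⟩ := TopologicalSpace.Opens.isBasis_iff_nbhd.mp S.isBasis_affineOpens
    (TopologicalSpace.Opens.mem_top (f x))
  obtain ⟨V, hV, hxV, hVU⟩ := TopologicalSpace.Opens.isBasis_iff_nbhd.mp X.isBasis_affineOpens
    (show x ∈ f ⁻¹ᵁ U from hfxU)
  haveI : IsNoetherianRing Γ(S, U) := IsLocallyNoetherian.component_noetherian ⟨U, hU⟩
  haveI : IsNoetherianRing Γ(X, V) := IsLocallyNoetherian.component_noetherian ⟨V, hV⟩
  apply flat_stalkMap_of_flat_localizedModule f hU hV hVU hxV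
  letI := (f.appLE U V hVU).hom.toAlgebra
  refine Groth.Agent.Lib.LocalCrit7.flat_localizedModule_of_forall_flat_quot_pow
    (R := Γ(S, U)) (S := Γ(X, V)) (M := Γ(X, V)) (I.ideal ⟨U, hU⟩) ?_ _ ?_
  · intro n hn
    obtain ⟨m, rfl⟩ : ∃ m, n = m + 1 := ⟨n - 1, by omega⟩
    let U' : S.affineOpens := ⟨U, hU⟩
    let c : Spec (CommRingCat.of (Γ(S, U) ⧸ (I ^ (m + 1)).ideal U')) ⟶ (I ^ (m + 1)).subscheme :=
      (I ^ (m + 1)).subschemeCover.f U'
    haveI : IsOpenImmersion c := (I ^ (m + 1)).subschemeCover.map_prop U'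
    have hc : c ≫ (I ^ (m + 1)).subschemeι =
        Spec.map (CommRingCat.ofHom (Ideal.Quotient.mk ((I ^ (m + 1)).ideal U'))) ≫ hU.fromSpec :=
      ((I ^ (m + 1)).subschemeCover_map_subschemeι U').trans ((I ^ (m + 1)).glueDataObjι_ι U')
    exact flat_quot_tensor_of_flat_pullback f (I ^ (m + 1)).subschemeι hU hV hVU
      ((I ^ (m + 1)).ideal U') c hc (h m)
  · rw [Ideal.map_le_iff_le_comap]
    intro a ha
    rw [Ideal.mem_comap]
    by_contra hcon
    rw [notMem_primeIdealOf_iff hV hxV] at hcon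
    replace hcon : x ∈ X.basicOpen ((f.appLE U V hVU).hom a) := hcon
    rw [Scheme.basicOpen_appLE] at hcon
    have hz : f x ∈ S.zeroLocus (U := U) (I.ideal ⟨U, hU⟩) :=
      (Scheme.IdealSheafData.mem_support_iff_of_mem (I := I) (U := ⟨U, hU⟩) hfxU).mp hx
    rw [Scheme.mem_zeroLocus_iff] at hz
    exact hz a ha hcon.2

end Groth.Agent.Lib.LocFlatSch
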