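import Mathlib
import Groth.Agent.Lib.CartierFlat_helper9
import Groth.Agent.Lib.LocalCrit7_helper9
import Groth.Agent.Lib.LocFlatSch_helper9

/-!
# A relative effective Cartier divisor forces flatness at its Noetherian points (helper9)
-/

set_option autoImplicit false
set_option backward.isDefEq.respectTransparency false

universe u

open TensorProduct

namespace Groth.Agent.Lib.CartierFlat2

/-- Variant of `LocalCrit.flat_of_regular_of_flat_quot` with the quotient given by an exact
sequence. -/
theorem flat_of_regular_of_exact {A B : Type*} [CommRing A] [CommRing B] [IsNoetherianRing B]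
    [IsLocalRing B] [Algebra A B] (f : B) (hf : f ∈ IsLocalRing.maximalIdeal B)
    (M Q : Type*) [AddCommGroup M] [Module B M] [Module A M] [IsScalarTower A B M]
    [Module.Finite B M] [AddCommGroup Q] [Module A Q] [Module.Flat A Q]
    (hreg : IsSMulRegular M f) (p : M →ₗ[A] Q) (hp : Function.Surjective p)
    (hex : ∀ m, p m = 0 ↔ ∃ m', f • m' = m) : Module.Flat A M := by
  refine Groth.Agent.Lib.LocalCrit.flat_of_regular_of_flat_quot f hf M hreg ?_
  have hker : (Ideal.span {f} • (⊤ : Submodule B M)).restrictScalars A = LinearMap.ker p := by
    ext m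
    rw [Submodule.restrictScalars_mem, LinearMap.mem_ker, hex,
      Submodule.ideal_span_singleton_smul, Submodule.mem_smul_pointwise_iff_exists]
    simp
  exact Module.Flat.of_linearEquiv
    ((Submodule.Quotient.restrictScalarsEquiv A _).symm.trans
      ((Submodule.quotEquivOfEq _ _ hker).trans (p.quotKerEquivOfSurjective hp)))

/-- Localization (as a module over a bigger ring) preserves flatness over the base. -/
theorem flat_localizedModule {A B : Type*} [CommRing A] [CommRing B] [Algebra A B]
    (T : Submonoid B) (M : Type*) [AddCommGroup M] [Module B M] [Module A M] [IsScalarTower A B M]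
    [Module.Flat A M] : Module.Flat A (LocalizedModule T M) := by
  rw [Module.Flat.iff_lTensor_injective']
  intro I
  exact Groth.Agent.Lib.LocalCrit7.lTensor_localizedModule_injective T M I.subtype
    (Module.Flat.lTensor_preserves_injective_linearMap _ Subtype.val_injective)

theorem flat_localizedModule_of_regular {A B : Type u} [CommRing A] [CommRing B] [Algebra A B]
    (g : B) (hg : g ∈ nonZeroDivisors B) [Module.Flat A (B ⧸ Ideal.span {g})]
    (q : Ideal B) [q.IsPrime] (hgq : g ∈ q) [IsNoetherianRing (Localization.AtPrime q)] :
    Module.Flat A (LocalizedModule q.primeCompl B) := by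
  haveI : Module.Flat A (LocalizedModule q.primeCompl (B ⧸ Ideal.span {g})) :=
    flat_localizedModule q.primeCompl (B ⧸ Ideal.span {g})
  let p₀ : LocalizedModule q.primeCompl B →ₗ[B] LocalizedModule q.primeCompl (B ⧸ Ideal.span {g}) :=
    IsLocalizedModule.map q.primeCompl (LocalizedModule.mkLinearMap q.primeCompl B)
      (LocalizedModule.mkLinearMap q.primeCompl (B ⧸ Ideal.span {g}))
      (Submodule.mkQ (Ideal.span {g}))
  have hsm : ∀ m : LocalizedModule q.primeCompl B,
      algebraMap B (Localization.AtPrime q) g • m = g • m := fun m => algebraMap_smul _ g m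
  refine flat_of_regular_of_exact (A := A) (B := Localization.AtPrime q)
    (algebraMap B (Localization.AtPrime q) g) ?_ (LocalizedModule q.primeCompl B)
    (LocalizedModule q.primeCompl (B ⧸ Ideal.span {g})) ?_ (p₀.restrictScalars A) ?_ ?_
  · rw [IsLocalization.AtPrime.to_map_mem_maximal_iff (Localization.AtPrime q) q]
    exact hgq
  · intro m₁ m₂ h
    simp only [hsm] at h
    haveI : Module.Flat B (LocalizedModule q.primeCompl B) :=
      Module.Flat.trans B (Localization q.primeCompl) _
    exact Module.Flat.isSMulRegular_of_nonZeroDivisors hg h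
  · exact IsLocalizedModule.map_surjective _ _ _ _ (Submodule.mkQ_surjective _)
  · intro m
    have hex := IsLocalizedModule.map_exact q.primeCompl
      (LocalizedModule.mkLinearMap q.primeCompl B)
      (LocalizedModule.mkLinearMap q.primeCompl B)
      (LocalizedModule.mkLinearMap q.primeCompl (B ⧸ Ideal.span {g}))
      (LinearMap.lsmul B B g) (Submodule.mkQ (Ideal.span {g})) (by
        intro b
        rw [Submodule.mkQ_apply, Submodule.Quotient.mk_eq_zero, Ideal.mem_span_singleton']
        constructor
        · rintro ⟨c, rfl⟩; exact ⟨c, by simp [mul_comm]⟩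
        · rintro ⟨c, rfl⟩; exact ⟨c, by simp [mul_comm]⟩)
    have h1 := hex m
    show p₀ m = 0 ↔ _
    rw [h1]
    have h2 : ∀ m' : LocalizedModule q.primeCompl B,
        IsLocalizedModule.map q.primeCompl (LocalizedModule.mkLinearMap q.primeCompl B)
          (LocalizedModule.mkLinearMap q.primeCompl B) (LinearMap.lsmul B B g) m' = g • m' := by
      intro m'
      induction m' using LocalizedModule.induction_on with
      | h b s =>
        rw [IsLocalizedModule.map_LocalizedModules, LocalizedModule.smul'_mk]
        rfl
    simp only [h2, hsm, Set.mem_range]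

end Groth.Agent.Lib.CartierFlat2
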