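import Mathlib
import Groth.Agent.Lib.LocalCrit2_helper9
import Groth.Agent.Lib.LocalCrit9_helper9

/-!
# Helpers for base change of ring fibre products (helper9)
-/

set_option autoImplicit false
universe u

open TensorProduct

namespace Groth.Agent.Lib.FibreProd

/-- A flat, integral, injective ring map is faithfully flat. -/
theorem faithfullyFlat_of_integral_injective {B S : Type*} [CommRing B] [CommRing S] [Algebra B S]
    [Module.Flat B S] [Algebra.IsIntegral B S] (hinj : Function.Injective (algebraMap B S)) :
    Module.FaithfullyFlat B S := by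
  refine Module.FaithfullyFlat.of_comap_surjective fun P => ?_
  obtain ⟨Q, -, hQ₁, hQ₂⟩ := Ideal.exists_ideal_over_prime_of_isIntegral P.asIdeal (⊥ : Ideal S)
    (by rw [← RingHom.ker_eq_comap_bot, (RingHom.injective_iff_ker_eq_bot _).mp hinj]
        exact bot_le)
  exact ⟨⟨Q, hQ₁⟩, PrimeSpectrum.ext hQ₂⟩

/-- For a faithfully flat algebra `S` over `B`, the map `N ⊗ B → N ⊗ S` is injective. -/
theorem lTensor_linearMap_injective {B S : Type*} [CommRing B] [CommRing S] [Algebra B S]
    [Module.FaithfullyFlat B S] (N : Type*) [AddCommGroup N] [Module B N] :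
    Function.Injective ((Algebra.linearMap B S).lTensor N) := by
  have h := Module.FaithfullyFlat.tensorProduct_mk_injective (A := B) (B := S) N
  have : (Algebra.linearMap B S).lTensor N =
      (TensorProduct.comm B S N).toLinearMap ∘ₗ (TensorProduct.mk B S N 1) ∘ₗ
        (TensorProduct.rid B N).toLinearMap := by
    apply TensorProduct.ext'
    intro n b
    simp [Algebra.smul_def, TensorProduct.smul_tmul']
  rw [this]
  simp only [LinearMap.coe_comp, LinearEquiv.coe_coe]
  exact (LinearEquiv.injective _).comp (h.comp (LinearEquiv.injective _))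

/-- The cokernel of a faithfully flat ring map is flat. -/
theorem flat_quot_range {B S : Type*} [CommRing B] [CommRing S] [Algebra B S]
    [Module.FaithfullyFlat B S] :
    Module.Flat B (S ⧸ LinearMap.range (Algebra.linearMap B S)) :=
  Groth.Agent.Lib.LocalCrit2.flat_of_T1 (Algebra.linearMap B S)
    (LinearMap.range (Algebra.linearMap B S)).mkQ
    (LinearMap.exact_map_mkQ_range _) (Submodule.mkQ_surjective _)
    (fun J => lTensor_linearMap_injective (B ⧸ J))

/-- If `0 → M → M' → M'' → 0` is exact with `M''` flat then `N ⊗ M → N ⊗ M'` is injective. -/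
theorem lTensor_injective_of_exact_flat {R : Type u} [CommRing R] {M M' M'' : Type*}
    [AddCommGroup M] [Module R M] [AddCommGroup M'] [Module R M'] [AddCommGroup M''] [Module R M'']
    (f : M →ₗ[R] M') (g : M' →ₗ[R] M'') (hf : Function.Injective f) (hfg : Function.Exact f g)
    (hg : Function.Surjective g) [Module.Flat R M'']
    (N : Type u) [AddCommGroup N] [Module R N] : Function.Injective (f.lTensor N) := by
  haveI : Module.Flat R (M' ⧸ LinearMap.range f) :=
    Module.Flat.of_linearEquiv (hfg.linearEquivOfSurjective hg)
  exact Groth.Agent.Lib.LocalCrit9.lTensor_injective_of_flat_coker f hf N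

end Groth.Agent.Lib.FibreProd
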