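import Mathlib
import Groth.Agent.Lib.CartierFlat2_helper9
import Groth.Agent.Lib.FibreProd_helper9

/-!
# Flatness off a relative effective Cartier divisor implies flatness (helper9)
-/

set_option autoImplicit false
set_option backward.isDefEq.respectTransparency false

universe u

open TensorProduct

namespace Groth.Agent.Lib.CartierFlat3

section Algebra

variable {A B : Type u} [CommRing A] [CommRing B] [Algebra A B]

/-- multiplication by `h` on `B ⊗ I` is injective when `h` is regular with `B/h` flat. -/
theorem smul_tensor_injective (h : B) (hh : h ∈ nonZeroDivisors B)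
    [Module.Flat A (B ⧸ Ideal.span {h})] (I : Ideal A) (k : B ⊗[A] I) (hk : h • k = 0) : k = 0 := by
  have h1 := Groth.Agent.Lib.FibreProd.lTensor_injective_of_exact_flat (R := A)
    ((LinearMap.lsmul B B h).restrictScalars A)
    ((Submodule.mkQ (Ideal.span {h})).restrictScalars A)
    (by
      intro a b hab
      have h0 : h * (a - b) = 0 := by
        rw [mul_sub]; exact sub_eq_zero.mpr hab
      exact sub_eq_zero.mp ((mem_nonZeroDivisors_iff.mp hh).1 _ h0))
    (by
      intro b
      change Submodule.mkQ (Ideal.span {h}) b = 0 ↔ _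
      rw [Submodule.mkQ_apply, Submodule.Quotient.mk_eq_zero, Ideal.mem_span_singleton']
      constructor
      · rintro ⟨c, rfl⟩; exact ⟨c, by simp [mul_comm]⟩
      · rintro ⟨c, rfl⟩; exact ⟨c, by simp [mul_comm]⟩)
    (Submodule.mkQ_surjective _) I
  have h2 : Function.Injective (((LinearMap.lsmul B B h).restrictScalars A).rTensor I) :=
    (LinearMap.lTensor_inj_iff_rTensor_inj _ _).mp h1
  have h3 : ∀ k : B ⊗[A] I, ((LinearMap.lsmul B B h).restrictScalars A).rTensor I k = h • k := by
    intro k
    induction k using TensorProduct.induction_on with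
    | zero => simp
    | tmul b i => simp [TensorProduct.smul_tmul']
    | add x y hx hy => rw [map_add, hx, hy, smul_add]
  apply h2
  rw [h3, hk, map_zero]

theorem flat_of_flat_away (h : B) (hh : h ∈ nonZeroDivisors B)
    [Module.Flat A (B ⧸ Ideal.span {h})]
    (H : ∀ (P : Ideal B) [P.IsPrime], h ∉ P → Module.Flat A (LocalizedModule P.primeCompl B)) :
    Module.Flat A B := by
  rw [Module.Flat.iff_lTensor_injective']
  intro I
  rw [injective_iff_map_eq_zero]
  intro k hk
  let J : Ideal B := LinearMap.ker (LinearMap.toSpanSingleton B (B ⊗[A] I) k)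
  have hJ : ∀ s : B, s ∈ J ↔ s • k = 0 := fun s => by
    simp only [J, LinearMap.mem_ker, LinearMap.toSpanSingleton_apply]
  have hrad : h ∈ J.radical := by
    rw [Ideal.radical_eq_sInf, Ideal.mem_sInf]
    rintro P ⟨hJP, hP⟩
    by_contra hhP
    haveI := hP
    haveI := H P hhP
    let ρ := AlgebraTensorModule.rTensor A I (LocalizedModule.mkLinearMap P.primeCompl B)
    have hρ : (I.subtype.lTensor (LocalizedModule P.primeCompl B)) (ρ k) = 0 := by
      have : (I.subtype.lTensor (LocalizedModule P.primeCompl B)) (ρ k) =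
          ((LocalizedModule.mkLinearMap P.primeCompl B).restrictScalars A).rTensor A
            (I.subtype.lTensor B k) := by
        change (I.subtype.lTensor (LocalizedModule P.primeCompl B))
          (((LocalizedModule.mkLinearMap P.primeCompl B).restrictScalars A).rTensor I k) = _
        rw [← LinearMap.comp_apply, ← LinearMap.comp_apply, LinearMap.lTensor_comp_rTensor,
          LinearMap.rTensor_comp_lTensor]
      rw [this, hk, map_zero]
    have hρ0 : ρ k = 0 :=
      (Module.Flat.lTensor_preserves_injective_linearMap _ Subtype.val_injective)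
        (by rw [hρ, map_zero])
    obtain ⟨s, hs⟩ := (IsLocalizedModule.eq_zero_iff P.primeCompl ρ).mp hρ0
    exact s.2 (hJP ((hJ s.1).mpr hs))
  obtain ⟨n, hn⟩ := hrad
  rw [hJ] at hn
  clear_value J
  induction n with
  | zero => simpa using hn
  | succ n ih =>
    apply ih
    apply smul_tensor_injective h hh I
    rw [smul_smul, ← pow_succ']
    exact hn

end Algebra

section Scheme

open AlgebraicGeometry CategoryTheory

theorem flat_localizedModule_of_flat_stalkMap {X S : Scheme.{u}} (f : X ⟶ S)
    {U : S.Opens} (hU : IsAffineOpen U) {V : X.Opens} (hV : IsAffineOpen V) (hVU : V ≤ f ⁻¹ᵁ U)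
    {x : X} (hx : x ∈ V) (h : (f.stalkMap x).hom.Flat) :
    letI := (f.appLE U V hVU).hom.toAlgebra
    Module.Flat Γ(S, U)
      (LocalizedModule (hV.primeIdealOf ⟨x, hx⟩).asIdeal.primeCompl Γ(X, V)) := by
  rw [RingHom.Flat.respectsIso.arrow_mk_iso_iff
    (IsAffineOpen.arrowStalkMapIso f U hU V hV hVU hx)] at h
  letI := (f.appLE U V hVU).hom.toAlgebra
  set q := (hV.primeIdealOf ⟨x, hx⟩).asIdeal with hq
  set p := (hU.primeIdealOf ⟨f x, hVU hx⟩).asIdeal with hp
  have hpq : p = q.comap (f.appLE U V hVU).hom :=
    congr($(IsAffineOpen.comap_primeIdealOf_appLE U hU V hV hVU hx).1).symm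
  let ψ := Localization.localRingHom p q (f.appLE U V hVU).hom hpq
  have hψ : ψ.Flat := h
  letI := ψ.toAlgebra
  haveI : IsScalarTower Γ(S, U) (Localization.AtPrime p) (Localization.AtPrime q) :=
    .of_algebraMap_eq (fun r => (Localization.localRingHom_to_map p q _ hpq r).symm)
  haveI : Module.Flat (Localization.AtPrime p) (Localization.AtPrime q) :=
    RingHom.flat_algebraMap_iff.mp hψ
  haveI : Module.Flat Γ(S, U) (Localization.AtPrime q) :=
    Module.Flat.trans _ (Localization.AtPrime p) _
  have e := IsLocalizedModule.iso q.primeCompl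
    (Algebra.linearMap Γ(X, V) (Localization.AtPrime q))
  exact Module.Flat.of_linearEquiv (e.restrictScalars Γ(S, U))

theorem primeIdealOf_fromSpec {X : Scheme.{u}} {U : X.Opens} (hU : IsAffineOpen U)
    (y : Spec Γ(X, U)) (hy : hU.fromSpec y ∈ U) : hU.primeIdealOf ⟨hU.fromSpec y, hy⟩ = y :=
  hU.fromSpec.isOpenEmbedding.injective (hU.fromSpec_primeIdealOf ⟨hU.fromSpec y, hy⟩)

theorem fromSpec_mem {X : Scheme.{u}} {U : X.Opens} (hU : IsAffineOpen U)
    (y : Spec Γ(X, U)) : hU.fromSpec y ∈ U := by
  have : hU.fromSpec y ∈ Set.range hU.fromSpec := ⟨y, rfl⟩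
  rw [hU.range_fromSpec] at this
  exact this

end Scheme

end Groth.Agent.Lib.CartierFlat3
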