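import Mathlib
import Groth.Agent.Lib.CartierFlat3_helper9

/-!
# Base change of relative effective Cartier divisors (helper9)
-/

set_option autoImplicit false
set_option backward.isDefEq.respectTransparency false

universe u

open TensorProduct

namespace Groth.Agent.Lib.CartierFlat4

section Algebra

variable {A B : Type u} [CommRing A] [CommRing B] [Algebra A B]

/-- multiplication by `h` on `B ⊗ N` is injective when `h` is regular with `B/h` flat. -/
theorem smul_tensor_injective (h : B) (hh : h ∈ nonZeroDivisors B)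
    [Module.Flat A (B ⧸ Ideal.span {h})] (N : Type u) [AddCommGroup N] [Module A N]
    (k : B ⊗[A] N) (hk : h • k = 0) : k = 0 := by
  have h1 := Groth.Agent.Lib.FibreProd.lTensor_injective_of_exact_flat (R := A)
    ((LinearMap.lsmul B B h).restrictScalars A)
    ((Submodule.mkQ (Ideal.span {h})).restrictScalars A)
    (by
      intro a b hab
      have h0 : h * (a - b) = 0 := by
        rw [mul_sub]; exact sub_eq_zero.mpr hab
      exact sub_eq_zero.mp ((mem_nonZeroDivisors_iff.mp hh).1 _ h0))
    (by
      intro b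
      change Submodule.mkQ (Ideal.span {h}) b = 0 ↔ _
      rw [Submodule.mkQ_apply, Submodule.Quotient.mk_eq_zero, Ideal.mem_span_singleton']
      constructor
      · rintro ⟨c, rfl⟩; exact ⟨c, by simp [mul_comm]⟩
      · rintro ⟨c, rfl⟩; exact ⟨c, by simp [mul_comm]⟩)
    (Submodule.mkQ_surjective _) N
  have h2 : Function.Injective (((LinearMap.lsmul B B h).restrictScalars A).rTensor N) :=
    (LinearMap.lTensor_inj_iff_rTensor_inj _ _).mp h1
  have h3 : ∀ k : B ⊗[A] N, ((LinearMap.lsmul B B h).restrictScalars A).rTensor N k = h • k := by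
    intro k
    induction k using TensorProduct.induction_on with
    | zero => simp
    | tmul b i => simp [TensorProduct.smul_tmul']
    | add x y hx hy => rw [map_add, hx, hy, smul_add]
  apply h2
  rw [h3, hk, map_zero]

theorem tmul_one_mem_nonZeroDivisors (h : B) (hh : h ∈ nonZeroDivisors B)
    [Module.Flat A (B ⧸ Ideal.span {h})] (A' : Type u) [CommRing A'] [Algebra A A'] :
    (h ⊗ₜ[A] (1 : A')) ∈ nonZeroDivisors (B ⊗[A] A') := by
  rw [mem_nonZeroDivisors_iff_right]
  intro k hk
  apply smul_tensor_injective h hh A' k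
  rw [Algebra.smul_def, Algebra.TensorProduct.algebraMap_apply, mul_comm]
  exact hk

end Algebra

open CategoryTheory CategoryTheory.Limits

theorem map_mem_nonZeroDivisors_of_isPushout {A B A' C : CommRingCat.{u}} (φ : A ⟶ B)
    (ψ : A ⟶ A') (ι₁ : B ⟶ C) (ι₂ : A' ⟶ C) (H : IsPushout φ ψ ι₁ ι₂) (h : B)
    (hh : h ∈ nonZeroDivisors B)
    (hflat : ((Ideal.Quotient.mk (Ideal.span {h})).comp φ.hom).Flat) :
    ι₁.hom h ∈ nonZeroDivisors C := by
  letI := φ.hom.toAlgebra
  letI := ψ.hom.toAlgebra
  rw [Groth.Agent.Lib.CartierFlat.flat_comp_mk_iff] at hflat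
  haveI : Module.Flat A (B ⧸ Ideal.span {h}) := hflat
  have T := CommRingCat.isPushout_tensorProduct A B A'
  have hφ : CommRingCat.ofHom (algebraMap A B) = φ := rfl
  have hψ : CommRingCat.ofHom (algebraMap A A') = ψ := rfl
  rw [hφ, hψ] at T
  let e := H.isoIsPushout _ _ T
  have he : e.hom.hom (ι₁.hom h) = h ⊗ₜ[A] (1 : A') := by
    have h0 := H.inl_isoIsPushout_hom _ _ T
    have h1 : (ι₁ ≫ (H.isoIsPushout _ _ T).hom).hom h = h ⊗ₜ[A] (1 : A') := by
      rw [h0]; rfl
    exact h1
  have hnz := tmul_one_mem_nonZeroDivisors (A := A) h hh A'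
  rw [← he] at hnz
  rw [mem_nonZeroDivisors_iff_right]
  intro y hy
  have hinj : Function.Injective e.hom.hom :=
    (ConcreteCategory.bijective_of_isIso e.hom).1
  apply hinj
  rw [map_zero]
  apply (mem_nonZeroDivisors_iff_right.mp hnz)
  rw [← map_mul, hy, map_zero]

end Groth.Agent.Lib.CartierFlat4
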