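import Mathlib
import Groth.Prelude.Def_BlowUp2
import Groth.Prelude.Def_CInt
import Groth.Prelude.Def_Rees
import Groth.Prelude.Def_ega3
import Groth.Agent.Lib.ProjRees_helper2
import Groth.Agent.Lib.BlowFlatSch_helper2
import Groth.Agent.Lib.StrictCl1_helper8

/-!
# Blow-ups of finite type ideals are proper; flatness of a normally flat blow-up; base change
(helper2, S14089).  APPEND-ONLY once landed.
-/

set_option autoImplicit false
set_option maxHeartbeats 1000000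
universe u

open AlgebraicGeometry CategoryTheory CategoryTheory.Limits TopologicalSpace Opposite

namespace Groth.Agent.Lib.BlowProper

open Groth.Agent.Lib.BlowPerf Groth.Agent.Lib.BlowFlat AffBlH8

section alg

variable {A : Type u} [CommRing A] (I : Ideal A)

theorem finiteType_rees (hI : I.FG) :
    Algebra.FiniteType (Rees.deg (reesAlgebra I) 0) (reesAlgebra I) := by
  haveI : Algebra.FiniteType A (reesAlgebra I) :=
    ⟨(reesAlgebra I).fg_top.mpr (reesAlgebra.fg hI)⟩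
  haveI : IsScalarTower A (Rees.deg (reesAlgebra I) 0) (reesAlgebra I) :=
    IsScalarTower.of_algebraMap_eq (R := A) (S := ↥(Rees.deg (reesAlgebra I) 0))
      (A := ↥(reesAlgebra I)) (fun r => rfl)
  exact Algebra.FiniteType.of_restrictScalars_finiteType A _ _

theorem algebraMap_degZero_surjective :
    Function.Surjective (algebraMap A (Rees.deg (reesAlgebra I) 0)) := by
  rintro ⟨f, hf⟩
  refine ⟨(f : Polynomial A).coeff 0, ?_⟩
  apply Subtype.ext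
  apply Subtype.ext
  show Polynomial.C ((f : Polynomial A).coeff 0) = (f : Polynomial A)
  ext m
  rw [Polynomial.coeff_C]
  split_ifs with h
  · rw [h]
  · exact ((Rees.mem_degBy_iff (reesAlgebra I) (AddMonoidHom.id ℕ) 0 f).mp hf m h).symm

theorem isProper_proj (hI : I.FG) :
    IsProper (Proj (Rees.deg (reesAlgebra I)) ↘ Spec (CommRingCat.of A)) := by
  show IsProper (Proj.toSpecZero (Rees.deg (reesAlgebra I)) ≫
    Spec.map (CommRingCat.ofHom (R := A) (S := ↥(Rees.deg (reesAlgebra I) 0))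
      (algebraMap A ↥(Rees.deg (reesAlgebra I) 0))))
  haveI := finiteType_rees I hI
  haveI h2 : IsClosedImmersion
      (Spec.map (CommRingCat.ofHom (R := A) (S := ↥(Rees.deg (reesAlgebra I) 0))
        (algebraMap A ↥(Rees.deg (reesAlgebra I) 0)))) := by
    apply IsClosedImmersion.spec_of_surjective
    exact algebraMap_degZero_surjective I
  infer_instance

end alg

/-- A blow-up of a finite type ideal is proper. -/
theorem isProper_of_isBlowUp {X X' : Scheme.{u}} (𝓘 : X.IdealSheafData)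
    (hft : BlowUp.IsFiniteTypeIdeal 𝓘) (b : X' ⟶ X) (hb : BlowUp.IsBlowUp b 𝓘) : IsProper b := by
  apply IsZariskiLocalAtTarget.of_forall_exists_morphismRestrict (P := @IsProper)
  intro x
  obtain ⟨U, hxU, -⟩ := Groth.Agent.Lib.CartierFlat.exists_affine_le x ⊤ trivial
  refine ⟨U.1, hxU, ?_⟩
  have hU : IsAffineOpen U.1 := U.2
  have sq0 := isPullback_morphismRestrict b U.1
  have sq1 : IsPullback hU.isoSpec.hom U.1.ι hU.fromSpec (𝟙 X) :=
    IsPullback.of_horiz_isIso ⟨by rw [hU.isoSpec_hom_fromSpec, Category.comp_id]⟩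
  have sq : IsPullback ((b ∣_ U.1) ≫ hU.isoSpec.hom) (b ⁻¹ᵁ U.1).ι hU.fromSpec b := by
    have := sq0.paste_horiz sq1
    rwa [Category.comp_id] at this
  have hbU := isBlowUp_of_isPullback b 𝓘 hb hU.fromSpec _ _ sq
  rw [comap_fromSpec_eq_idl] at hbU
  have hfg : (𝓘.ideal ⟨U.1, hU⟩).FG := hft ⟨U.1, hU⟩
  obtain ⟨e, he⟩ := StrictClH8.blowUp_unique _ _ hbU _
    (Groth.Agent.Lib.ProjRees.main16054 Γ(X, U.1) (𝓘.ideal ⟨U.1, hU⟩))
  have h1 : b ∣_ U.1 = e.hom ≫ (Proj (Rees.deg (reesAlgebra (𝓘.ideal ⟨U.1, hU⟩))) ↘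
      Spec (CommRingCat.of Γ(X, U.1))) ≫ hU.isoSpec.inv := by
    rw [← Category.assoc, he, Category.assoc, Iso.hom_inv_id, Category.comp_id]
  rw [h1]
  haveI := isProper_proj (𝓘.ideal ⟨U.1, hU⟩) hfg
  infer_instance

section alg2

variable {A : Type u} [CommRing A] (I : Ideal A) (a : A)

theorem exists_common_level0 (ha : a ∈ I) {l : ℕ} (r : Fin l → A)
    (b : Fin l → ↥(BlowUp.affineAlgebra A I a))
    (hrel : ∑ i, algebraMap A ↥(BlowUp.affineAlgebra A I a) (r i) * b i = 0) :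
    ∃ (N : ℕ) (u : Fin l → A), (∀ i, u i ∈ I ^ N) ∧
      (∀ i, algebraMap A ↥(BlowUp.affineAlgebra A I a) a ^ N * b i =
        algebraMap A ↥(BlowUp.affineAlgebra A I a) (u i)) ∧
      ∑ i, r i * u i = 0 := by
  choose Nb wb hwb hb using fun i => exists_pow_mul_eq I a ha (b i)
  obtain ⟨N0, hN0⟩ : ∃ N0, N0 = ∑ i, Nb i := ⟨_, rfl⟩
  have hle : ∀ i, Nb i ≤ N0 := fun i => by
    rw [hN0]
    exact Finset.single_le_sum (fun _ _ => Nat.zero_le _) (Finset.mem_univ i)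
  have hu1 : ∀ i, a ^ (N0 - Nb i) * wb i ∈ I ^ N0 := by
    intro i
    have h1 : N0 = (N0 - Nb i) + Nb i := by have := hle i; omega
    rw [h1, pow_add, ← h1]
    exact Ideal.mul_mem_mul (Ideal.pow_mem_pow ha _) (hwb i)
  have hb1 : ∀ i, algebraMap A ↥(BlowUp.affineAlgebra A I a) a ^ N0 * b i =
      algebraMap A ↥(BlowUp.affineAlgebra A I a) (a ^ (N0 - Nb i) * wb i) := by
    intro i
    have h1 : N0 = (N0 - Nb i) + Nb i := by have := hle i; omega
    rw [map_mul, map_pow, ← hb i]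
    nth_rw 1 [h1]
    rw [pow_add]
    ring
  have hz : algebraMap A ↥(BlowUp.affineAlgebra A I a)
      (∑ i, r i * (a ^ (N0 - Nb i) * wb i)) = 0 := by
    rw [map_sum]
    have h1 : ∀ i ∈ Finset.univ, algebraMap A ↥(BlowUp.affineAlgebra A I a)
        (r i * (a ^ (N0 - Nb i) * wb i)) =
        algebraMap A ↥(BlowUp.affineAlgebra A I a) a ^ N0 *
          (algebraMap A ↥(BlowUp.affineAlgebra A I a) (r i) * b i) := by
      intro i _
      rw [map_mul, ← hb1 i]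
      ring
    rw [Finset.sum_congr rfl h1, ← Finset.mul_sum, hrel, mul_zero]
  obtain ⟨k, hk⟩ := exists_pow_mul_eq_zero I a _ hz
  refine ⟨N0 + k, fun i => a ^ k * (a ^ (N0 - Nb i) * wb i), ?_, ?_, ?_⟩
  · intro i
    rw [add_comm N0 k, pow_add]
    exact Ideal.mul_mem_mul (Ideal.pow_mem_pow ha k) (hu1 i)
  · intro i
    rw [map_mul (algebraMap A ↥(BlowUp.affineAlgebra A I a)) (a ^ k), ← hb1 i, map_pow, pow_add]
    ring
  · have h2 : ∑ i, r i * (a ^ k * (a ^ (N0 - Nb i) * wb i)) =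
        a ^ k * ∑ i, r i * (a ^ (N0 - Nb i) * wb i) := by
      rw [Finset.mul_sum]
      apply Finset.sum_congr rfl
      intro i _
      ring
    rw [h2]
    exact hk

/-- If `A` and all `A/I^{n+1}` are flat over `R` then so is `A[I/a]`. -/
theorem flat_total_alg {R : Type u} [CommRing R] (φ : R →+* A) (ha : a ∈ I) (hA : φ.Flat)
    (hflat : ∀ n : ℕ, ((Ideal.Quotient.mk (I ^ (n + 1))).comp φ).Flat)
    {C : Type u} [CommRing C] (σ : ↥(BlowUp.affineAlgebra A I a) →+* C)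
    (hσ : Function.Bijective σ) :
    (σ.comp ((algebraMap A ↥(BlowUp.affineAlgebra A I a)).comp φ)).Flat := by
  letI : Algebra R A := φ.toAlgebra
  haveI hAf : Module.Flat R A := hA
  have hflat' : ∀ n, Module.Flat R (A ⧸ I ^ n) := by
    intro n
    cases n with
    | zero =>
      haveI : Subsingleton (A ⧸ I ^ 0) := by
        rw [pow_zero, Ideal.one_eq_top]
        exact Ideal.Quotient.subsingleton_iff.mpr rfl
      infer_instance
    | succ n => exact (Groth.Agent.Lib.CartierFlat.flat_comp_mk_iff φ (I ^ (n + 1))).mp (hflat n)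
  have hflatI : ∀ n, Module.Flat R ((I ^ n : Ideal A).restrictScalars R) := by
    intro n
    haveI := hflat' n
    obtain ⟨g, hg⟩ : ∃ g : A →ₗ[R] (A ⧸ I ^ n), ∀ z, g z = Ideal.Quotient.mk (I ^ n) z :=
      ⟨(Submodule.mkQ (I ^ n)).restrictScalars R, fun _ => rfl⟩
    refine Groth.Agent.Lib.LocalCrit11.flat_of_exact_of_flat
      ((I ^ n : Ideal A).restrictScalars R).subtype g Subtype.val_injective ?_ ?_
    · intro z
      rw [hg, Ideal.Quotient.eq_zero_iff_mem]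
      constructor
      · intro hz
        exact ⟨⟨z, hz⟩, rfl⟩
      · rintro ⟨y, rfl⟩
        exact y.2
    · intro z
      obtain ⟨z', rfl⟩ := Ideal.Quotient.mk_surjective z
      exact ⟨z', hg z'⟩
  letI : Algebra R C :=
    (σ.comp ((algebraMap A ↥(BlowUp.affineAlgebra A I a)).comp φ)).toAlgebra
  show Module.Flat R C
  refine Module.Flat.of_forall_isTrivialRelation ?_
  intro l f x hx
  choose b hb using fun i => hσ.2 (x i)
  have hsm : ∀ (r : R) (z : C),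
      r • z = σ (algebraMap A ↥(BlowUp.affineAlgebra A I a) (φ r)) * z := by
    intro r z
    rfl
  have hrel : ∑ i, algebraMap A ↥(BlowUp.affineAlgebra A I a) (φ (f i)) * b i = 0 := by
    apply hσ.1
    rw [map_sum, map_zero, ← hx]
    apply Finset.sum_congr rfl
    intro i _
    rw [hsm, map_mul, hb i]
  obtain ⟨N, u, hu, hub, hsum⟩ := exists_common_level0 I a ha (fun i => φ (f i)) b hrel
  haveI := hflatI N
  have hsum' : ∑ i, f i • (⟨u i, hu i⟩ : (I ^ N : Ideal A).restrictScalars R) = 0 := by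
    apply Subtype.ext
    rw [Submodule.coe_sum, Submodule.coe_zero, ← hsum]
    apply Finset.sum_congr rfl
    intro i _
    rfl
  obtain ⟨k, c, y, hy1, hy2⟩ := Module.Flat.isTrivialRelation_of_sum_smul_eq_zero hsum'
  choose cb hcb using fun j => exists_of_mem_pow I a N (y j : A) (y j).2
  refine ⟨k, c, fun j => σ (cb j), ?_, hy2⟩
  intro i
  rw [← hb i]
  have h1 : ∀ j ∈ Finset.univ, c i j • σ (cb j) =
      σ (algebraMap A ↥(BlowUp.affineAlgebra A I a) (φ (c i j)) * cb j) := fun j _ => by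
    rw [hsm, map_mul σ]
  rw [Finset.sum_congr rfl h1, ← map_sum]
  congr 1
  have hnz : algebraMap A ↥(BlowUp.affineAlgebra A I a) a ^ N ∈
      nonZeroDivisors ↥(BlowUp.affineAlgebra A I a) := pow_mem (a_nzd I a) N
  have hui : u i = ∑ j, φ (c i j) * (y j : A) := by
    have h2 := congrArg Subtype.val (hy1 i)
    rw [Submodule.coe_sum] at h2
    exact h2
  have h0 : algebraMap A ↥(BlowUp.affineAlgebra A I a) a ^ N *
      (b i - ∑ j, algebraMap A ↥(BlowUp.affineAlgebra A I a) (φ (c i j)) * cb j) = 0 := by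
    rw [mul_sub, hub, hui, Finset.mul_sum, map_sum, sub_eq_zero]
    apply Finset.sum_congr rfl
    intro j _
    rw [map_mul, ← hcb j]
    ring
  exact sub_eq_zero.mp ((mem_nonZeroDivisors_iff.mp hnz).1 _ h0)

end alg2

theorem chart_flat_total {X X' S : Scheme.{u}} (g : X ⟶ S) (𝓘 : X.IdealSheafData) (b : X' ⟶ X)
    (V : S.affineOpens) (U : X.affineOpens) (hUV : U.1 ≤ g ⁻¹ᵁ V.1)
    (I : Ideal Γ(X, U.1)) (a : Γ(X, U.1)) (ha : a ∈ I)
    (hA : (g.appLE V.1 U.1 hUV).hom.Flat)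
    (hflatn : ∀ n : ℕ, ((Ideal.Quotient.mk (I ^ (n + 1))).comp (g.appLE V.1 U.1 hUV).hom).Flat)
    (j : Spec (CommRingCat.of ↥(BlowUp.affineAlgebra Γ(X, U.1) I a)) ⟶ X') [IsOpenImmersion j]
    (hj : j ≫ b = AffBlH8.cmap I a ≫ U.2.fromSpec)
    (e : j.opensRange ≤ (b ≫ g) ⁻¹ᵁ V.1) :
    ((b ≫ g).appLE V.1 j.opensRange e).hom.Flat := by
  have hU : IsAffineOpen U.1 := U.2
  have e₂ : (⊤ : (Spec (CommRingCat.of ↥(BlowUp.affineAlgebra Γ(X, U.1) I a))).Opens) ≤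
      j ⁻¹ᵁ j.opensRange := fun t _ => ⟨t, rfl⟩
  have hε : Function.Bijective (j.appLE j.opensRange ⊤ e₂).hom :=
    CartH8.bijective_appLE_of_image_eq j ⊤ j.opensRange j.image_top_eq_opensRange e₂
  have hσ0 : Function.Bijective (AffBlH8.rho I a (𝟙 _) ⊤) := by
    unfold AffBlH8.rho
    rw [AffBlH8.appLE_top_top]
    have : Scheme.Hom.appTop (𝟙 (Spec (CommRingCat.of
        ↥(BlowUp.affineAlgebra Γ(X, U.1) I a)))) = 𝟙 _ := rfl
    rw [this]
    exact (ConcreteCategory.isIso_iff_bijective (Scheme.ΓSpecIso (CommRingCat.of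
      ↥(BlowUp.affineAlgebra Γ(X, U.1) I a))).inv).mp inferInstance
  have hphi0 : AffBlH8.phi (AffBlH8.cmap I a) ⊤ = (AffBlH8.rho I a (𝟙 _) ⊤).comp
      (algebraMap Γ(X, U.1) ↥(BlowUp.affineAlgebra Γ(X, U.1) I a)) := by
    have h2 := AffBlH8.rho_comp_algebraMap I a (𝟙 _) ⊤
    rw [Category.id_comp] at h2
    exact h2.symm
  obtain ⟨σ, hσdef⟩ : ∃ σ : ↥(BlowUp.affineAlgebra Γ(X, U.1) I a) →+*
      Γ(Spec (CommRingCat.of ↥(BlowUp.affineAlgebra Γ(X, U.1) I a)), ⊤),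
      σ = AffBlH8.rho I a (𝟙 _) ⊤ := ⟨_, rfl⟩
  rw [← hσdef] at hσ0 hphi0
  have key := flat_total_alg I a (g.appLE V.1 U.1 hUV).hom ha hA hflatn σ hσ0
  have hcomp : (j.appLE j.opensRange ⊤ e₂).hom.comp ((b ≫ g).appLE V.1 j.opensRange e).hom =
      σ.comp ((algebraMap Γ(X, U.1) ↥(BlowUp.affineAlgebra Γ(X, U.1) I a)).comp
        (g.appLE V.1 U.1 hUV).hom) := by
    have e₃ : (⊤ : (Spec (CommRingCat.of ↥(BlowUp.affineAlgebra Γ(X, U.1) I a))).Opens) ≤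
        (j ≫ b ≫ g) ⁻¹ᵁ V.1 := fun t _ => e (e₂ (show t ∈ (⊤ : (Spec _).Opens) from trivial))
    have h1 : (b ≫ g).appLE V.1 j.opensRange e ≫ j.appLE j.opensRange ⊤ e₂ =
        (j ≫ b ≫ g).appLE V.1 ⊤ e₃ := Scheme.Hom.appLE_comp_appLE j (b ≫ g) V.1 j.opensRange ⊤ e e₂
    have hj' : j ≫ b ≫ g = (AffBlH8.cmap I a ≫ hU.fromSpec) ≫ g := by
      rw [← Category.assoc, hj]
    have e₄ : (⊤ : (Spec (CommRingCat.of ↥(BlowUp.affineAlgebra Γ(X, U.1) I a))).Opens) ≤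
        ((AffBlH8.cmap I a ≫ hU.fromSpec) ≫ g) ⁻¹ᵁ V.1 := by
      rw [← hj']
      exact e₃
    have h2 := appLE_congr_hom _ _ hj' V.1 ⊤ e₃ e₄
    have e₅ : (⊤ : (Spec (CommRingCat.of ↥(BlowUp.affineAlgebra Γ(X, U.1) I a))).Opens) ≤
        (AffBlH8.cmap I a ≫ hU.fromSpec) ⁻¹ᵁ U.1 := by
      intro t _
      show (AffBlH8.cmap I a ≫ hU.fromSpec) t ∈ U.1
      rw [Scheme.Hom.comp_apply]
      have : hU.fromSpec (AffBlH8.cmap I a t) ∈ Set.range hU.fromSpec := ⟨_, rfl⟩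
      rw [hU.range_fromSpec] at this
      exact this
    have h3 : g.appLE V.1 U.1 hUV ≫ (AffBlH8.cmap I a ≫ hU.fromSpec).appLE U.1 ⊤ e₅ =
        ((AffBlH8.cmap I a ≫ hU.fromSpec) ≫ g).appLE V.1 ⊤ e₄ :=
      Scheme.Hom.appLE_comp_appLE _ g V.1 U.1 ⊤ hUV e₅
    have e₆ : (⊤ : (Spec Γ(X, U.1)).Opens) ≤ hU.fromSpec ⁻¹ᵁ U.1 := by
      rw [hU.fromSpec_preimage_self]
    have h4 : hU.fromSpec.appLE U.1 ⊤ e₆ ≫ (AffBlH8.cmap I a).appLE ⊤ ⊤ le_top =
        (AffBlH8.cmap I a ≫ hU.fromSpec).appLE U.1 ⊤ e₅ :=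
      Scheme.Hom.appLE_comp_appLE _ hU.fromSpec U.1 ⊤ ⊤ e₆ le_top
    rw [fromSpec_appLE_top hU e₆] at h4
    have h5 : (b ≫ g).appLE V.1 j.opensRange e ≫ j.appLE j.opensRange ⊤ e₂ =
        g.appLE V.1 U.1 hUV ≫ ((Scheme.ΓSpecIso Γ(X, U.1)).inv ≫
          (AffBlH8.cmap I a).appLE ⊤ ⊤ le_top) := by
      rw [h1, h2, ← h3, ← h4]
    apply RingHom.ext
    intro r
    have h6 : (j.appLE j.opensRange ⊤ e₂).hom (((b ≫ g).appLE V.1 j.opensRange e).hom r) =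
        AffBlH8.phi (AffBlH8.cmap I a) ⊤ ((g.appLE V.1 U.1 hUV).hom r) :=
      congrArg (fun m => m.hom r) h5
    have h7 : AffBlH8.phi (AffBlH8.cmap I a) ⊤ ((g.appLE V.1 U.1 hUV).hom r) =
        σ (algebraMap Γ(X, U.1) ↥(BlowUp.affineAlgebra Γ(X, U.1) I a)
          ((g.appLE V.1 U.1 hUV).hom r)) := RingHom.congr_fun hphi0 _
    exact h6.trans h7
  rw [← hcomp] at key
  exact (RingHom.Flat.comp_iff_of_bijective_left hε).mp key

theorem flat_total {X X' S : Scheme.{u}} (g : X ⟶ S) [Flat g] (𝓘 : X.IdealSheafData)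
    (hflat : ∀ n : ℕ, Flat ((𝓘 ^ (n + 1)).subschemeι ≫ g)) (b : X' ⟶ X)
    (hb : BlowUp.IsBlowUp b 𝓘) : Flat (b ≫ g) := by
  rw [HasRingHomProperty.iff_exists_appLE (P := @Flat)
    Groth.Agent.Lib.CartierFlat.stableSource_flat]
  intro x'
  obtain ⟨V, hsV, -⟩ := Groth.Agent.Lib.CartierFlat.exists_affine_le (g (b x')) ⊤ trivial
  obtain ⟨U, hxU, hUV⟩ := Groth.Agent.Lib.CartierFlat.exists_affine_le (b x') (g ⁻¹ᵁ V.1) hsV
  have hU : IsAffineOpen U.1 := U.2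
  have sq0 := isPullback_morphismRestrict b U.1
  have sq1 : IsPullback hU.isoSpec.hom U.1.ι hU.fromSpec (𝟙 X) :=
    IsPullback.of_horiz_isIso ⟨by rw [hU.isoSpec_hom_fromSpec, Category.comp_id]⟩
  have sq : IsPullback ((b ∣_ U.1) ≫ hU.isoSpec.hom) (b ⁻¹ᵁ U.1).ι hU.fromSpec b := by
    have := sq0.paste_horiz sq1
    rwa [Category.comp_id] at this
  have hbU := isBlowUp_of_isPullback b 𝓘 hb hU.fromSpec _ _ sq
  rw [comap_fromSpec_eq_idl] at hbU
  have hA0 : (g.appLE V.1 U.1 hUV).hom.Flat :=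
    HasRingHomProperty.appLE (P := @Flat) g inferInstance V U hUV
  have hflatn0 : ∀ n : ℕ, ((Ideal.Quotient.mk ((𝓘.ideal U) ^ (n + 1))).comp
      (g.appLE V.1 U.1 hUV).hom).Flat := fun n =>
    Groth.Agent.Lib.CartierFlat.flat_quot_of_flat (𝓘 ^ (n + 1)) g (hflat n) V U hUV
  obtain ⟨I, hI⟩ : ∃ I : Ideal Γ(X, U.1), 𝓘.ideal U = I := ⟨_, rfl⟩
  have hI' : 𝓘.ideal ⟨U.1, hU⟩ = I := hI
  rw [hI'] at hbU
  rw [hI] at hflatn0
  have hyU : x' ∈ b ⁻¹ᵁ U.1 := hxU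
  obtain ⟨a, ha, hya⟩ := BlowCov.exists_mem_W I _ (I : Set Γ(X, U.1)) (Ideal.span_eq _) hbU.1
    (⟨x', hyU⟩ : ↥(b ⁻¹ᵁ U.1))
  have ha' : a ∈ I := ha
  obtain ⟨κ, hκ, hoi, hr⟩ := BlowCov.exists_chart I a _ ha' hbU
  haveI := hoi
  obtain ⟨j, hjdef⟩ : ∃ j : Spec (CommRingCat.of ↥(BlowUp.affineAlgebra Γ(X, U.1) I a)) ⟶ X',
      j = κ ≫ (b ⁻¹ᵁ U.1).ι := ⟨_, rfl⟩
  haveI : IsOpenImmersion j := by
    rw [hjdef]
    infer_instance
  have hj : j ≫ b = AffBlH8.cmap I a ≫ hU.fromSpec := by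
    rw [hjdef, Category.assoc, ← morphismRestrict_ι, ← hU.isoSpec_hom_fromSpec, ← hκ]
    simp only [Category.assoc]
  have hx'j : x' ∈ j.opensRange := by
    have hmem : (⟨x', hyU⟩ : ↥(b ⁻¹ᵁ U.1)) ∈ Set.range κ := by
      rw [hr]
      exact hya
    obtain ⟨c, hc⟩ := hmem
    exact ⟨c, by rw [hjdef, Scheme.Hom.comp_apply, hc]; rfl⟩
  have hjU : ∀ c, b (j c) ∈ U.1 := by
    intro c
    rw [← Scheme.Hom.comp_apply, hj, Scheme.Hom.comp_apply]
    have : hU.fromSpec (AffBlH8.cmap I a c) ∈ Set.range hU.fromSpec := ⟨_, rfl⟩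
    rw [hU.range_fromSpec] at this
    exact this
  have e : j.opensRange ≤ (b ≫ g) ⁻¹ᵁ V.1 := by
    rintro _ ⟨c, rfl⟩
    exact hUV (hjU c)
  exact ⟨V, ⟨j.opensRange, isAffineOpen_opensRange j⟩, hx'j, e,
    chart_flat_total g 𝓘 b V U hUV I a ha' hA0 hflatn0 j hj e⟩

/-- base change along arbitrary pullback squares. -/
theorem isBlowUp_baseChange {X X' S T XT XT' : Scheme.{u}} (f : X ⟶ S) (𝓘 : X.IdealSheafData)
    (hflat : ∀ n : ℕ, Flat ((𝓘 ^ (n + 1)).subschemeι ≫ f)) (b : X' ⟶ X)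
    (hb : BlowUp.IsBlowUp b 𝓘)
    (g : T ⟶ S) (pX : XT ⟶ X) (fT : XT ⟶ T) (hX : IsPullback pX fT f g)
    (pX' : XT' ⟶ X') (bT : XT' ⟶ XT) (hX' : IsPullback pX' bT b pX) :
    BlowUp.IsBlowUp bT (𝓘.comap pX) := by
  have hA := flat_exceptional f 𝓘 hflat b hb
  haveI : Flat ((𝓘.comap b).subschemeι ≫ b ≫ f) := hA
  have hC := Groth.Agent.S1662.result (b ≫ f) (𝓘.comap b) hb.1 g
  have hbig : IsPullback pX' (bT ≫ fT) (b ≫ f) g := hX'.paste_vert hX
  refine ⟨?_, ?_⟩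
  · have h1 : (𝓘.comap pX).comap bT =
        ((𝓘.comap b).comap (pullback.fst (b ≫ f) g)).comap hbig.isoPullback.hom := by
      rw [← Scheme.IdealSheafData.comap_comp, ← Scheme.IdealSheafData.comap_comp,
        hbig.isoPullback_hom_fst, ← Scheme.IdealSheafData.comap_comp, hX'.w]
    rw [h1]
    exact CartH8.isEffCartier_comap_of_flat hbig.isoPullback.hom _ hC
  · intro Y h hY
    rw [← Scheme.IdealSheafData.comap_comp] at hY
    obtain ⟨k, hk, hku⟩ := hb.2 Y (h ≫ pX) hY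
    have hk' : k ≫ b = h ≫ pX := hk
    refine ⟨hX'.lift k h hk', hX'.lift_snd _ _ _, ?_⟩
    intro t ht
    have ht' : t ≫ bT = h := ht
    apply hX'.hom_ext
    · rw [hX'.lift_fst]
      apply hku
      show (t ≫ pX') ≫ b = h ≫ pX
      rw [Category.assoc, hX'.w, ← Category.assoc, ht']
    · rw [hX'.lift_snd, ht']

theorem main14089 {X X' S T XT XT' : Scheme.{u}}
    (f : X ⟶ S) [Flat f] [IsProper f]
    (𝓘 : X.IdealSheafData) (hft : BlowUp.IsFiniteTypeIdeal 𝓘)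
    (hfl : ∀ m : ℕ, 1 ≤ m → Flat ((𝓘 ^ m).subschemeι ≫ f))
    (b : X' ⟶ X) (hb : BlowUp.IsBlowUp b 𝓘)
    (g : T ⟶ S) (pX : XT ⟶ X) (fT : XT ⟶ T) (hX : IsPullback pX fT f g)
    (pX' : XT' ⟶ X') (bT : XT' ⟶ XT) (hX' : IsPullback pX' bT b pX) :
    Flat (b ≫ f) ∧ IsProper (b ≫ f) ∧ BlowUp.IsBlowUp bT (𝓘.comap pX) := by
  have hflat : ∀ n : ℕ, Flat ((𝓘 ^ (n + 1)).subschemeι ≫ f) := fun n => hfl (n + 1) (by omega)
  refine ⟨flat_total f 𝓘 hflat b hb, ?_, isBlowUp_baseChange f 𝓘 hflat b hb g pX fT hX pX' bT hX'⟩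
  haveI := isProper_of_isBlowUp 𝓘 hft b hb
  infer_instance

end Groth.Agent.Lib.BlowProper
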