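import Mathlib
import Groth.Prelude
import Groth.Agent.Lib.IdealFT_helper7
import Groth.Agent.Lib.ComapIdeal_helper4
import Groth.Agent.Lib.BlowProper_helper2

/-!
# Properness of the projection of an ambient product (helper7)

`main18751`.
-/

set_option autoImplicit false
set_option linter.style.haveILetI false
universe u
open CategoryTheory CategoryTheory.Limits AlgebraicGeometry TopologicalSpace Opposite

namespace Groth.Agent.Lib.ModPairAmbProdH7
open Groth.Agent.Lib.IdealFTH7

/-- The pull-back of an effective Cartier ideal sheaf is of finite type. -/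
theorem ft_comap_effCartier {X Y : Scheme.{u}} (A : X.IdealSheafData)
    (hA : BlowUp.IsEffCartierIdeal A) (h : Y ⟶ X) (W : Y.affineOpens) :
    ((A.comap h).ideal W).FG := by
  refine ft_of_ftloc (A.comap h) (fun y _ => ?_) W
  obtain ⟨U, hyU, f, -, hf⟩ := hA (h y)
  obtain ⟨_, ⟨V, hV, rfl⟩, hyV, hVU⟩ := Y.isBasis_affineOpens.exists_subset_of_mem_open
    (show y ∈ h ⁻¹ᵁ U.1 from hyU) (h ⁻¹ᵁ U.1).isOpen
  refine ⟨⟨V, hV⟩, hyV, ?_⟩
  rw [Groth.Agent.Lib.ComapIdeal_helper4.comap_ideal_eq h A U ⟨V, hV⟩ hVU, hf, Ideal.map_span,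
    Set.image_singleton]
  exact Submodule.fg_span_singleton _

/-- **S18751** -/
theorem main18751 {S T X Y : Scheme.{u}}
    (J : T.IdealSheafData) (I : X.IdealSheafData)
    (hT : BlowUp.IsEffCartierIdeal J) (hX : BlowUp.IsEffCartierIdeal I)
    (f : X ⟶ S) (g : T ⟶ S)
    (π : Y ⟶ ModPair.mprod f g I J) (K : Y.IdealSheafData) (hY : ModPair.IsAmbProd f g I J π K) :
    ((LocallyOfFiniteType f ∧ QuasiCompact f) →
        LocallyOfFiniteType (π ≫ ModPair.mprodι f g I J ≫ pullback.snd f g) ∧
          QuasiCompact (π ≫ ModPair.mprodι f g I J ≫ pullback.snd f g)) ∧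
      (UniversallyClosed f → UniversallyClosed (π ≫ ModPair.mprodι f g I J ≫ pullback.snd f g)) ∧
      (IsProper f → IsProper (π ≫ ModPair.mprodι f g I J ≫ pullback.snd f g)) := by
  have hft : BlowUp.IsFiniteTypeIdeal (ModPair.prodCentre f g I J) := fun W =>
    ft_sup (ft_comap_effCartier I hX _) (ft_comap_effCartier J hT _) W
  haveI : IsProper π := Groth.Agent.Lib.BlowProper.isProper_of_isBlowUp _ hft π hY.1
  haveI : IsClosedImmersion (ModPair.mprodι f g I J) := inferInstance
  refine ⟨fun ⟨h1, h2⟩ => ?_, fun h => ?_, fun h => ?_⟩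
  · haveI := h1
    haveI := h2
    exact ⟨inferInstance, inferInstance⟩
  · haveI := h
    infer_instance
  · haveI := h
    haveI : IsProper (pullback.snd f g) := MorphismProperty.pullback_snd f g h
    infer_instance

end Groth.Agent.Lib.ModPairAmbProdH7
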