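import Mathlib
import Groth.Prelude
import Groth.Agent.Lib.IdealFT_helper7

/-!
# Coproducts of modulus pairs (helper7)

`main18747`.
-/

set_option autoImplicit false
set_option linter.style.haveILetI false
universe u
open CategoryTheory CategoryTheory.Limits AlgebraicGeometry TopologicalSpace Opposite

namespace Groth.Agent.Lib.ModPairCoprodH7
open Groth.Agent.Lib.IdealFTH7

theorem iso_hom_inv_apply {R S : CommRingCat.{u}} (e : R ≅ S) (a : R) :
    e.inv.hom (e.hom.hom a) = a := by
  show (e.hom ≫ e.inv).hom a = a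
  rw [e.hom_inv_id]; rfl

theorem iso_inv_hom_apply {R S : CommRingCat.{u}} (e : R ≅ S) (b : S) :
    e.hom.hom (e.inv.hom b) = b := by
  show (e.inv ≫ e.hom).hom b = b
  rw [e.inv_hom_id]; rfl

section Cover

variable {Z : Scheme.{u}} {σ : Type u} (X : σ → Scheme.{u}) (j : ∀ i, X i ⟶ Z)
  [∀ i, IsOpenImmersion (j i)]

/-- Inequalities of ideal sheaves can be checked on a jointly surjective family of open
immersions. -/
theorem le_of_comap_le (hcov : ∀ z : Z, ∃ i, ∃ x : X i, j i x = z) (A B : Z.IdealSheafData)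
    (h : ∀ i, A.comap (j i) ≤ B.comap (j i)) : A ≤ B := by
  refine Scheme.IdealSheafData.le_of_iSup_eq_top (ι := Σ i, (X i).affineOpens)
    (fun p => ⟨j p.1 ''ᵁ p.2.1, p.2.2.image_of_isOpenImmersion (j p.1)⟩) ?_ ?_
  · rw [eq_top_iff]
    intro z _
    obtain ⟨i, x, rfl⟩ := hcov z
    obtain ⟨_, ⟨U, hU, rfl⟩, hxU, -⟩ :=
      (X i).isBasis_affineOpens.exists_subset_of_mem_open (Set.mem_univ x) isOpen_univ
    exact Opens.mem_iSup.mpr ⟨⟨i, ⟨U, hU⟩⟩, ⟨x, hxU, rfl⟩⟩
  · rintro ⟨i, U⟩
    have h1 := (Scheme.IdealSheafData.le_def.mp (h i)) U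
    rw [Scheme.IdealSheafData.ideal_comap_of_isOpenImmersion,
      Scheme.IdealSheafData.ideal_comap_of_isOpenImmersion] at h1
    intro a ha
    have h2 : ((j i).appIso U.1).hom.hom a ∈ Ideal.comap ((j i).appIso U.1).inv.hom
        (A.ideal ⟨j i ''ᵁ U.1, U.2.image_of_isOpenImmersion (j i)⟩) := by
      rw [Ideal.mem_comap, iso_hom_inv_apply]; exact ha
    have h3 := h1 h2
    rw [Ideal.mem_comap, iso_hom_inv_apply] at h3
    exact h3

/-- Being effective Cartier can be checked on a jointly surjective family of open immersions. -/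
theorem effCartier_of_comap (hcov : ∀ z : Z, ∃ i, ∃ x : X i, j i x = z) (A : Z.IdealSheafData)
    (h : ∀ i, BlowUp.IsEffCartierIdeal (A.comap (j i))) : BlowUp.IsEffCartierIdeal A := by
  intro z
  obtain ⟨i, x, rfl⟩ := hcov z
  obtain ⟨U, hxU, f, hf, hUf⟩ := h i x
  rw [Scheme.IdealSheafData.ideal_comap_of_isOpenImmersion] at hUf
  refine ⟨⟨j i ''ᵁ U.1, U.2.image_of_isOpenImmersion (j i)⟩, ⟨x, hxU, rfl⟩,
    ((j i).appIso U.1).inv.hom f, ?_, ?_⟩
  · refine mem_nonZeroDivisors_iff_right.mpr ?_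
    intro y hy
    have hr := mem_nonZeroDivisors_iff_right.mp hf
    have h1 : ((j i).appIso U.1).hom.hom y * f = 0 := by
      have h0 := congrArg ((j i).appIso U.1).hom.hom hy
      rw [map_mul, map_zero, iso_inv_hom_apply] at h0
      exact h0
    have h2 := hr _ h1
    rw [← iso_hom_inv_apply ((j i).appIso U.1) y, h2, map_zero]
  · apply le_antisymm
    · intro a ha
      have h2 : ((j i).appIso U.1).hom.hom a ∈ Ideal.comap ((j i).appIso U.1).inv.hom
          (A.ideal ⟨j i ''ᵁ U.1, U.2.image_of_isOpenImmersion (j i)⟩) := by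
        rw [Ideal.mem_comap, iso_hom_inv_apply]; exact ha
      rw [hUf] at h2
      obtain ⟨r, hr⟩ := Ideal.mem_span_singleton'.mp h2
      rw [Ideal.mem_span_singleton']
      refine ⟨((j i).appIso U.1).inv.hom r, ?_⟩
      rw [← map_mul, hr, iso_hom_inv_apply]
    · rw [Ideal.span_singleton_le_iff_mem]
      have h2 : f ∈ Ideal.comap ((j i).appIso U.1).inv.hom
          (A.ideal ⟨j i ''ᵁ U.1, U.2.image_of_isOpenImmersion (j i)⟩) := by
        rw [hUf]; exact Ideal.mem_span_singleton_self f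
      exact h2

end Cover

section Sigma

variable {σ : Type u} (X : σ → Scheme.{u}) (I : ∀ i, (X i).IdealSheafData)

theorem sigma_cov (z : (∐ X : Scheme.{u})) : ∃ i, ∃ x : X i, Sigma.ι X i x = z := by
  obtain ⟨⟨i, x⟩, h⟩ := (sigmaMk X).surjective z
  exact ⟨i, x, by rw [← sigmaMk_mk]; exact h⟩

/-- The disjoint union of the closed subschemes. -/
noncomputable def sigmaSub : (∐ fun i => (I i).subscheme) ⟶ ∐ X :=
  Limits.Sigma.map fun i => (I i).subschemeι

theorem ι_sigmaSub (i : σ) :
    Sigma.ι (fun i => (I i).subscheme) i ≫ sigmaSub X I = (I i).subschemeι ≫ Sigma.ι X i := by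
  simp [sigmaSub]

theorem isPullback_sigmaSub (i : σ) :
    IsPullback (I i).subschemeι (Sigma.ι (fun i => (I i).subscheme) i) (Sigma.ι X i)
      (sigmaSub X I) := by
  refine IsOpenImmersion.isPullback _ _ _ _ (ι_sigmaSub X I i) ?_
  ext z
  constructor
  · intro hz
    obtain ⟨k, v, rfl⟩ := sigma_cov (fun i => (I i).subscheme) z
    by_cases hk : k = i
    · subst hk; exact ⟨v, rfl⟩
    · exfalso
      have h1 : (sigmaSub X I) (Sigma.ι (fun i => (I i).subscheme) k v) =
          Sigma.ι X k ((I k).subschemeι v) := by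
        rw [← Scheme.Hom.comp_apply, ι_sigmaSub, Scheme.Hom.comp_apply]
      have h2 : (sigmaSub X I) (Sigma.ι (fun i => (I i).subscheme) k v) ∈
          (Sigma.ι X i).opensRange := hz
      rw [h1] at h2
      obtain ⟨y, hy⟩ := h2
      have h3 := (sigmaι_eq_iff X i k y _).mp hy
      exact hk (congrArg Sigma.fst h3).symm
  · rintro ⟨v, rfl⟩
    show (sigmaSub X I) (Sigma.ι (fun i => (I i).subscheme) i v) ∈ (Sigma.ι X i).opensRange
    rw [← Scheme.Hom.comp_apply, ι_sigmaSub, Scheme.Hom.comp_apply]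
    exact ⟨_, rfl⟩

instance quasiCompact_sigmaSub : QuasiCompact (sigmaSub X I) := by
  refine IsZariskiLocalAtTarget.of_openCover (P := @QuasiCompact) (sigmaOpenCover X)
    (fun (i : σ) => ?_)
  have H := (isPullback_sigmaSub X I i).flip
  show QuasiCompact (pullback.snd (sigmaSub X I) (Sigma.ι X i))
  have e : pullback.snd (sigmaSub X I) (Sigma.ι X i) =
      H.isoPullback.inv ≫ (I i).subschemeι := by
    rw [Iso.eq_inv_comp]; exact H.isoPullback_hom_snd
  rw [e]; infer_instance

/-- The ideal sheaf on the disjoint union restricting to `I i` on each summand. -/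
noncomputable def sigmaIdeal : (∐ X : Scheme.{u}).IdealSheafData := (sigmaSub X I).ker

theorem sigmaIdeal_comap (i : σ) : (sigmaIdeal X I).comap (Sigma.ι X i) = I i := by
  have h := ker_eq_comap_of_isPullback (sigmaSub X I) (I i).subschemeι
    (Sigma.ι (fun i => (I i).subscheme) i) (Sigma.ι X i) (isPullback_sigmaSub X I i)
  rw [Scheme.IdealSheafData.ker_subschemeι] at h
  exact h.symm

theorem effCartier_sigmaIdeal (hI : ∀ i, BlowUp.IsEffCartierIdeal (I i)) :
    BlowUp.IsEffCartierIdeal (sigmaIdeal X I) :=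
  effCartier_of_comap X (Sigma.ι X) (sigma_cov X) (sigmaIdeal X I)
    (fun i => by rw [sigmaIdeal_comap]; exact hI i)

end Sigma

section Cat

variable {σ : Type u} (P : σ → ModPair.Pair.{u})

/-- The coproduct modulus pair. -/
noncomputable def cofan : Cofan P :=
  Cofan.mk ⟨∐ fun i => (P i).total, sigmaIdeal _ (fun i => (P i).mod),
      effCartier_sigmaIdeal _ _ (fun i => (P i).isEffCartier)⟩
    (fun i => ⟨Sigma.ι (fun i => (P i).total) i,
      le_of_eq (sigmaIdeal_comap _ (fun i => (P i).mod) i).symm⟩)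

theorem desc_cond (t : Cofan P) :
    ModPair.IsAmbient (sigmaIdeal _ (fun i => (P i).mod)) t.pt.mod
      (Sigma.desc (fun i => (t.inj i).hom)) := by
  refine le_of_comap_le _ (Sigma.ι (fun i => (P i).total)) (sigma_cov _) _ _ (fun i => ?_)
  rw [sigmaIdeal_comap, ← Scheme.IdealSheafData.comap_comp, Sigma.ι_desc]
  exact (t.inj i).cond

noncomputable def isColimitCofan : IsColimit (cofan P) :=
  Cofan.IsColimit.mk _ (fun t => ⟨Sigma.desc (fun i => (t.inj i).hom), desc_cond P t⟩)
    (fun t j => ModPair.Pair.Hom.ext (Sigma.ι_desc _ _))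
    (fun t m hm => ModPair.Pair.Hom.ext (Sigma.hom_ext _ _ (fun j => by
      rw [Sigma.ι_desc]
      exact congrArg ModPair.Pair.Hom.hom (hm j))))

end Cat

theorem main18747 (σ : Type u) :
    HasColimitsOfShape (Discrete σ) ModPair.Pair.{u} ∧
      PreservesColimitsOfShape (Discrete σ) ModPair.Pair.forget.{u} := by
  have hpres : ∀ P : σ → ModPair.Pair.{u},
      PreservesColimit (Discrete.functor P) ModPair.Pair.forget.{u} := by
    intro P
    refine preservesColimit_of_preserves_colimit_cocone (isColimitCofan P) ?_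
    exact (isColimitMapCoconeCofanMkEquiv ModPair.Pair.forget P _).symm
      (coproductIsCoproduct _)
  refine ⟨⟨fun F => ?_⟩, ?_⟩
  · haveI : HasColimit (Discrete.functor (F.obj ∘ Discrete.mk)) :=
      HasColimit.mk ⟨cofan _, isColimitCofan _⟩
    exact hasColimit_of_iso Discrete.natIsoFunctor
  · haveI := hpres
    exact preservesColimitsOfShape_of_discrete _

end Groth.Agent.Lib.ModPairCoprodH7
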