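import Mathlib
import Groth.Prelude
import Groth.Agent.Lib.IdealFT_helper7
import Groth.Agent.Lib.ModPairCoprod_helper7
import Groth.Agent.Lib.Cart6_helper8

/-!
# Binary coproducts in the localization of modulus pairs at admissible blow-ups (helper7)

`main18748`.  The first part generalizes `ModPairCoprod_helper7` to index types in any universe.
-/

set_option autoImplicit false
set_option linter.style.haveILetI false
universe v u
open CategoryTheory CategoryTheory.Limits AlgebraicGeometry TopologicalSpace Opposite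

namespace Groth.Agent.Lib.ModPairCoprod2H7
open Groth.Agent.Lib.IdealFTH7

section Restrict

variable {P : MorphismProperty Scheme.{u}} [IsZariskiLocalAtTarget P] {X Y : Scheme.{u}}

/-- (copied from helper4's `ClImmNhd_helper4`) -/
theorem restrict_of_le (f : X ⟶ Y) {U V : Y.Opens} (hVU : V ≤ U) (h : P (f ∣_ U)) :
    P (f ∣_ V) := by
  have h1 : P (f ∣_ U ∣_ (U.ι ⁻¹ᵁ V)) := IsZariskiLocalAtTarget.restrict h _
  rw [MorphismProperty.arrow_mk_iso_iff P (morphismRestrictRestrict f U (U.ι ⁻¹ᵁ V))] at h1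
  have e : U.ι ''ᵁ (U.ι ⁻¹ᵁ V) = V := by
    rw [Scheme.Hom.image_preimage_eq_opensRange_inf, Scheme.Opens.opensRange_ι]
    exact inf_eq_right.mpr hVU
  rwa [e] at h1

/-- (copied from helper4's `ClImmNhd_helper4`) -/
theorem restrict_of_forall_exists (f : X ⟶ Y) (A : Y.Opens)
    (H : ∀ a ∈ A, ∃ V : Y.Opens, a ∈ V ∧ P (f ∣_ V)) : P (f ∣_ A) := by
  refine IsZariskiLocalAtTarget.of_forall_exists_morphismRestrict (P := P) fun a => ?_
  obtain ⟨V, haV, hV⟩ := H a.1 a.2
  have h1 : P (f ∣_ (A ⊓ V)) := restrict_of_le f inf_le_right hV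
  refine ⟨A.ι ⁻¹ᵁ V, haV, ?_⟩
  rw [MorphismProperty.arrow_mk_iso_iff P (morphismRestrictRestrict f A (A.ι ⁻¹ᵁ V))]
  have e : A.ι ''ᵁ (A.ι ⁻¹ᵁ V) = A ⊓ V := by
    rw [Scheme.Hom.image_preimage_eq_opensRange_inf, Scheme.Opens.opensRange_ι]
  rw [e]
  exact h1

end Restrict

/-- If `g` is the base change of `f` along the open immersion `b` and `g` is an isomorphism over
`W`, then `f` is an isomorphism over the image of `W`. -/
theorem isIso_restrict_opensRange {X Y X' Y' : Scheme.{u}} (f : X ⟶ Y) (b : Y' ⟶ Y)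
    [IsOpenImmersion b] (a : X' ⟶ X) (g : X' ⟶ Y') (H : IsPullback g a b f) (W : Y'.Opens)
    [IsIso (g ∣_ W)] : IsIso (f ∣_ (W.ι ≫ b).opensRange) := by
  have A := isPullback_morphismRestrict g W
  have big : IsPullback (g ∣_ W) ((g ⁻¹ᵁ W).ι ≫ a) (W.ι ≫ b) f := A.paste_vert H
  show MorphismProperty.isomorphisms Scheme _
  rw [(MorphismProperty.isomorphisms Scheme).arrow_mk_iso_iff
    (morphismRestrictOpensRange f (W.ι ≫ b))]
  have e : pullback.snd f (W.ι ≫ b) = big.flip.isoPullback.inv ≫ g ∣_ W := by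
    rw [Iso.eq_inv_comp]; exact big.flip.isoPullback_hom_snd
  show IsIso (pullback.snd f (W.ι ≫ b))
  rw [e]; infer_instance

section Cover

variable {Z : Scheme.{u}} {σ : Type v} (X : σ → Scheme.{u}) (j : ∀ i, X i ⟶ Z)
  [∀ i, IsOpenImmersion (j i)]

theorem le_of_comap_le (hcov : ∀ z : Z, ∃ i, ∃ x : X i, j i x = z) (A B : Z.IdealSheafData)
    (h : ∀ i, A.comap (j i) ≤ B.comap (j i)) : A ≤ B := by
  refine Scheme.IdealSheafData.le_of_iSup_eq_top (ι := Σ i, (X i).affineOpens)
    (fun p => ⟨j p.1 ''ᵁ p.2.1, p.2.2.image_of_isOpenImmersion (j p.1)⟩) ?_ ?_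
  · rw [eq_top_iff]
    intro z _
    obtain ⟨i, x, rfl⟩ := hcov z
    obtain ⟨_, ⟨U, hU, rfl⟩, hxU, -⟩ :=
      (X i).isBasis_affineOpens.exists_subset_of_mem_open (Set.mem_univ x) isOpen_univ
    exact Opens.mem_iSup.mpr ⟨⟨i, ⟨U, hU⟩⟩, ⟨x, hxU, rfl⟩⟩
  · rintro ⟨i, U⟩
    have h1 := (Scheme.IdealSheafData.le_def.mp (h i)) U
    rw [Scheme.IdealSheafData.ideal_comap_of_isOpenImmersion,
      Scheme.IdealSheafData.ideal_comap_of_isOpenImmersion] at h1
    intro a ha
    have h2 : ((j i).appIso U.1).hom.hom a ∈ Ideal.comap ((j i).appIso U.1).inv.hom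
        (A.ideal ⟨j i ''ᵁ U.1, U.2.image_of_isOpenImmersion (j i)⟩) := by
      rw [Ideal.mem_comap, ModPairCoprodH7.iso_hom_inv_apply]; exact ha
    have h3 := h1 h2
    rw [Ideal.mem_comap, ModPairCoprodH7.iso_hom_inv_apply] at h3
    exact h3

theorem eq_of_comap_eq (hcov : ∀ z : Z, ∃ i, ∃ x : X i, j i x = z) (A B : Z.IdealSheafData)
    (h : ∀ i, A.comap (j i) = B.comap (j i)) : A = B :=
  le_antisymm (le_of_comap_le X j hcov A B (fun i => (h i).le))
    (le_of_comap_le X j hcov B A (fun i => (h i).ge))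

theorem effCartier_of_comap (hcov : ∀ z : Z, ∃ i, ∃ x : X i, j i x = z) (A : Z.IdealSheafData)
    (h : ∀ i, BlowUp.IsEffCartierIdeal (A.comap (j i))) : BlowUp.IsEffCartierIdeal A := by
  intro z
  obtain ⟨i, x, rfl⟩ := hcov z
  obtain ⟨U, hxU, f, hf, hUf⟩ := h i x
  rw [Scheme.IdealSheafData.ideal_comap_of_isOpenImmersion] at hUf
  refine ⟨⟨j i ''ᵁ U.1, U.2.image_of_isOpenImmersion (j i)⟩, ⟨x, hxU, rfl⟩,
    ((j i).appIso U.1).inv.hom f, ?_, ?_⟩
  · refine mem_nonZeroDivisors_iff_right.mpr ?_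
    intro y hy
    have hr := mem_nonZeroDivisors_iff_right.mp hf
    have h1 : ((j i).appIso U.1).hom.hom y * f = 0 := by
      have h0 := congrArg ((j i).appIso U.1).hom.hom hy
      rw [map_mul, map_zero, ModPairCoprodH7.iso_inv_hom_apply] at h0
      exact h0
    have h2 := hr _ h1
    rw [← ModPairCoprodH7.iso_hom_inv_apply ((j i).appIso U.1) y, h2, map_zero]
  · apply le_antisymm
    · intro a ha
      have h2 : ((j i).appIso U.1).hom.hom a ∈ Ideal.comap ((j i).appIso U.1).inv.hom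
          (A.ideal ⟨j i ''ᵁ U.1, U.2.image_of_isOpenImmersion (j i)⟩) := by
        rw [Ideal.mem_comap, ModPairCoprodH7.iso_hom_inv_apply]; exact ha
      rw [hUf] at h2
      obtain ⟨r, hr⟩ := Ideal.mem_span_singleton'.mp h2
      rw [Ideal.mem_span_singleton']
      refine ⟨((j i).appIso U.1).inv.hom r, ?_⟩
      rw [← map_mul, hr, ModPairCoprodH7.iso_hom_inv_apply]
    · rw [Ideal.span_singleton_le_iff_mem]
      have h2 : f ∈ Ideal.comap ((j i).appIso U.1).inv.hom
          (A.ideal ⟨j i ''ᵁ U.1, U.2.image_of_isOpenImmersion (j i)⟩) := by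
        rw [hUf]; exact Ideal.mem_span_singleton_self f
      exact h2

end Cover

section Sigma

variable {σ : Type v} [Small.{u} σ] (X Y : σ → Scheme.{u}) (g : ∀ i, X i ⟶ Y i)

theorem sigma_cov (z : (∐ X : Scheme.{u})) : ∃ i, ∃ x : X i, Sigma.ι X i x = z := by
  obtain ⟨i, x, h⟩ := (sigmaOpenCover X).exists_eq z
  exact ⟨i, x, h⟩

theorem isPullback_sigmaMap (i : σ) :
    IsPullback (g i) (Sigma.ι X i) (Sigma.ι Y i) (Limits.Sigma.map g) := by
  refine IsOpenImmersion.isPullback _ _ _ _ (Sigma.ι_map g i) ?_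
  ext z
  constructor
  · intro hz
    obtain ⟨k, v, rfl⟩ := sigma_cov X z
    by_cases hk : k = i
    · subst hk; exact ⟨v, rfl⟩
    · exfalso
      have h1 : (Limits.Sigma.map g) (Sigma.ι X k v) = Sigma.ι Y k (g k v) := by
        rw [← Scheme.Hom.comp_apply, Sigma.ι_map, Scheme.Hom.comp_apply]
      have h2 : (Limits.Sigma.map g) (Sigma.ι X k v) ∈ (Sigma.ι Y i).opensRange := hz
      rw [h1] at h2
      obtain ⟨y, hy⟩ := h2
      have h3 := (sigmaι_eq_iff Y i k y _).mp hy
      exact hk (congrArg Sigma.fst h3).symm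
  · rintro ⟨v, rfl⟩
    show (Limits.Sigma.map g) (Sigma.ι X i v) ∈ (Sigma.ι Y i).opensRange
    rw [← Scheme.Hom.comp_apply, Sigma.ι_map, Scheme.Hom.comp_apply]
    exact ⟨_, rfl⟩

theorem sigmaMap_of_local (P : MorphismProperty Scheme.{u}) [IsZariskiLocalAtTarget P]
    (h : ∀ i, P (g i)) : P (Limits.Sigma.map g) := by
  refine IsZariskiLocalAtTarget.of_openCover (P := P) (sigmaOpenCover Y) (fun (i : σ) => ?_)
  have H := (isPullback_sigmaMap X Y g i).flip
  show P (pullback.snd (Limits.Sigma.map g) (Sigma.ι Y i))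
  have e : pullback.snd (Limits.Sigma.map g) (Sigma.ι Y i) = H.isoPullback.inv ≫ g i := by
    rw [Iso.eq_inv_comp]; exact H.isoPullback_hom_snd
  rw [e, P.cancel_left_of_respectsIso]
  exact h i

variable (I : ∀ i, (X i).IdealSheafData)

/-- The ideal sheaf on the disjoint union restricting to `I i` on each summand. -/
noncomputable def sigmaIdeal : (∐ X : Scheme.{u}).IdealSheafData :=
  (Limits.Sigma.map fun i => (I i).subschemeι).ker

instance : QuasiCompact (Limits.Sigma.map fun i => (I i).subschemeι) :=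
  sigmaMap_of_local _ _ _ @QuasiCompact (fun _ => inferInstance)

theorem sigmaIdeal_comap (i : σ) : (sigmaIdeal X I).comap (Sigma.ι X i) = I i := by
  have h := ker_eq_comap_of_isPullback (Limits.Sigma.map fun i => (I i).subschemeι)
    (I i).subschemeι (Sigma.ι (fun i => (I i).subscheme) i) (Sigma.ι X i)
    (isPullback_sigmaMap (fun i => (I i).subscheme) X (fun i => (I i).subschemeι) i)
  rw [Scheme.IdealSheafData.ker_subschemeι] at h
  exact h.symm

theorem effCartier_sigmaIdeal (hI : ∀ i, BlowUp.IsEffCartierIdeal (I i)) :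
    BlowUp.IsEffCartierIdeal (sigmaIdeal X I) :=
  effCartier_of_comap X (Sigma.ι X) (sigma_cov X) (sigmaIdeal X I)
    (fun i => by rw [sigmaIdeal_comap]; exact hI i)

/-- A disjoint union of abstract admissible blow-ups is an abstract admissible blow-up. -/
theorem isAdmBlowup_sigmaMap (IX : ∀ i, (X i).IdealSheafData) (IY : ∀ i, (Y i).IdealSheafData)
    (hg : ∀ i, ModPair.IsAdmBlowup (IX i) (IY i) (g i)) :
    ModPair.IsAdmBlowup (sigmaIdeal X IX) (sigmaIdeal Y IY) (Limits.Sigma.map g) := by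
  have hmin : sigmaIdeal X IX = (sigmaIdeal Y IY).comap (Limits.Sigma.map g) := by
    refine eq_of_comap_eq X (Sigma.ι X) (sigma_cov X) _ _ (fun i => ?_)
    rw [sigmaIdeal_comap, ← Scheme.IdealSheafData.comap_comp, Sigma.ι_map,
      Scheme.IdealSheafData.comap_comp, sigmaIdeal_comap]
    exact (hg i).1
  refine ⟨hmin, ?_, ?_⟩
  · exact sigmaMap_of_local X Y g @IsProper (fun i => (hg i).2.1)
  · refine restrict_of_forall_exists (P := MorphismProperty.isomorphisms Scheme) _ _
      (fun y hy => ?_)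
    obtain ⟨i, y', rfl⟩ := sigma_cov Y y
    have hy' : y' ∈ ModPair.interior (IY i) := by
      have h0 : Sigma.ι Y i ⁻¹ᵁ ModPair.interior (sigmaIdeal Y IY) = ModPair.interior (IY i) :=
        CartH8.preimage_interior_of_isMinimal (IY i) (sigmaIdeal Y IY) (Sigma.ι Y i)
          (sigmaIdeal_comap Y IY i).symm
      rw [← h0]; exact hy
    refine ⟨((ModPair.interior (IY i)).ι ≫ Sigma.ι Y i).opensRange, ⟨⟨y', hy'⟩, rfl⟩, ?_⟩
    haveI : IsIso (g i ∣_ ModPair.interior (IY i)) := (hg i).2.2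
    exact isIso_restrict_opensRange (Limits.Sigma.map g) (Sigma.ι Y i) (Sigma.ι X i) (g i)
      (isPullback_sigmaMap X Y g i) (ModPair.interior (IY i))

end Sigma

section Cat

variable {σ : Type v} [Small.{u} σ] (P : σ → ModPair.Pair.{u})

/-- The coproduct modulus pair. -/
noncomputable def cofan : Cofan P :=
  Cofan.mk ⟨∐ fun i => (P i).total, sigmaIdeal _ (fun i => (P i).mod),
      effCartier_sigmaIdeal _ _ (fun i => (P i).isEffCartier)⟩
    (fun i => ⟨Sigma.ι (fun i => (P i).total) i,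
      le_of_eq (sigmaIdeal_comap _ (fun i => (P i).mod) i).symm⟩)

theorem desc_cond (t : Cofan P) :
    ModPair.IsAmbient (sigmaIdeal _ (fun i => (P i).mod)) t.pt.mod
      (Sigma.desc (fun i => (t.inj i).hom)) := by
  refine le_of_comap_le _ (Sigma.ι (fun i => (P i).total)) (sigma_cov _) _ _ (fun i => ?_)
  rw [sigmaIdeal_comap, ← Scheme.IdealSheafData.comap_comp, Sigma.ι_desc]
  exact (t.inj i).cond

noncomputable def isColimitCofan : IsColimit (cofan P) :=
  Cofan.IsColimit.mk _ (fun t => ⟨Sigma.desc (fun i => (t.inj i).hom), desc_cond P t⟩)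
    (fun t j => ModPair.Pair.Hom.ext (Sigma.ι_desc _ _))
    (fun t m hm => ModPair.Pair.Hom.ext (Sigma.hom_ext _ _ (fun j => by
      rw [Sigma.ι_desc]
      exact congrArg ModPair.Pair.Hom.hom (hm j))))

end Cat

section Adm

theorem admBlowup_of_iso {P Q : ModPair.Pair.{u}} (e : P ≅ Q) :
    ModPair.Pair.admBlowup e.hom := by
  have h1 : e.hom.hom ≫ e.inv.hom = 𝟙 _ := congrArg ModPair.Pair.Hom.hom e.hom_inv_id
  have h2 : e.inv.hom ≫ e.hom.hom = 𝟙 _ := congrArg ModPair.Pair.Hom.hom e.inv_hom_id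
  haveI : IsIso e.hom.hom := ⟨e.inv.hom, h1, h2⟩
  refine ⟨?_, inferInstance, inferInstance⟩
  apply le_antisymm e.hom.cond
  have h3 : Q.mod.comap e.hom.hom ≤ (P.mod.comap e.inv.hom).comap e.hom.hom :=
    Scheme.IdealSheafData.comap_mono e.hom.hom e.inv.cond
  rw [← Scheme.IdealSheafData.comap_comp, h1, Scheme.IdealSheafData.comap_id] at h3
  exact h3

instance : (ModPair.Pair.admBlowup.{u}).IsMultiplicative :=
  { id_mem := fun P => CartH8.isAdmBlowup_id P.mod
    comp_mem := fun f g hf hg => CartH8.isAdmBlowup_comp _ _ _ f.hom g.hom hf hg }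

instance : (ModPair.Pair.admBlowup.{u}).RespectsIso :=
  MorphismProperty.respectsIso_of_isStableUnderComposition (fun P Q f hf => by
    haveI : IsIso f := hf
    exact admBlowup_of_iso (asIso f))

theorem admBlowup_of_cofans {σ : Type v} [Small.{u} σ] (Q P : σ → ModPair.Pair.{u})
    (g : ∀ j, Q j ⟶ P j) (hg : ∀ j, ModPair.Pair.admBlowup (g j)) (c₁ : Cofan Q) (c₂ : Cofan P)
    (h₁ : IsColimit c₁) (h₂ : IsColimit c₂) (φ : c₁.pt ⟶ c₂.pt)
    (hφ : ∀ j, c₁.inj j ≫ φ = g j ≫ c₂.inj j) : ModPair.Pair.admBlowup φ := by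
  have hE := isAdmBlowup_sigmaMap (fun j => (Q j).total) (fun j => (P j).total)
    (fun j => (g j).hom) (fun j => (Q j).mod) (fun j => (P j).mod) hg
  let ψ : (cofan Q).pt ⟶ (cofan P).pt :=
    ⟨Limits.Sigma.map (fun j => (g j).hom), le_of_eq hE.1⟩
  have hψ : ModPair.Pair.admBlowup ψ := hE
  let e₁ := h₁.coconePointUniqueUpToIso (isColimitCofan Q)
  let e₂ := h₂.coconePointUniqueUpToIso (isColimitCofan P)
  have key : φ = e₁.hom ≫ ψ ≫ e₂.inv := by
    refine Cofan.IsColimit.hom_ext h₁ _ _ (fun j => ?_)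
    rw [hφ j]
    have a1 : c₁.inj j ≫ e₁.hom = (cofan Q).inj j :=
      IsColimit.comp_coconePointUniqueUpToIso_hom h₁ _ ⟨j⟩
    have a2 : (cofan P).inj j ≫ e₂.inv = c₂.inj j :=
      IsColimit.comp_coconePointUniqueUpToIso_inv h₂ _ ⟨j⟩
    have a3 : (cofan Q).inj j ≫ ψ = g j ≫ (cofan P).inj j :=
      ModPair.Pair.Hom.ext (show Sigma.ι (fun j => (Q j).total) j ≫
        Limits.Sigma.map (fun j => (g j).hom) = (g j).hom ≫ Sigma.ι (fun j => (P j).total) j
        from Sigma.ι_map _ j)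
    rw [← Category.assoc, a1, ← Category.assoc, a3, Category.assoc, a2]
  rw [key, (ModPair.Pair.admBlowup.{u}).cancel_left_of_respectsIso,
    (ModPair.Pair.admBlowup.{u}).cancel_right_of_respectsIso]
  exact hψ

end Adm

/-- Products in the opposite category give colimit cofans. -/
noncomputable def isColimitCofanUnop {C : Type*} [Category C] {J : Type*} (X : J → Cᵒᵖ)
    [HasProduct X] :
    IsColimit (Cofan.mk (unop (∏ᶜ X)) (fun j => (Pi.π X j).unop) :
      Cofan (fun j => unop (X j))) :=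
  Cofan.IsColimit.mk _ (fun t => (Pi.lift (fun j => (t.inj j).op)).unop)
    (fun t j => by
      show (Pi.π X j).unop ≫ (Pi.lift (fun j => (t.inj j).op)).unop = t.inj j
      rw [← unop_comp, Pi.lift_π]; rfl)
    (fun t m hm => by
      apply Quiver.Hom.op_inj
      apply Pi.hom_ext
      intro j
      rw [Quiver.Hom.op_unop, Pi.lift_π]
      exact congrArg Quiver.Hom.op (hm j))

theorem main18748 :
    HasBinaryCoproducts (ModPair.Pair.admBlowup.{u}).Localization ∧
      PreservesColimitsOfShape (Discrete WalkingPair) (ModPair.Pair.admBlowup.{u}).Q := by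
  haveI hcop : HasColimitsOfShape (Discrete WalkingPair) ModPair.Pair.{u} :=
    ⟨fun F => by
      haveI : HasColimit (Discrete.functor (F.obj ∘ Discrete.mk)) :=
        HasColimit.mk ⟨cofan _, isColimitCofan _⟩
      exact hasColimit_of_iso Discrete.natIsoFunctor⟩
  haveI : (ModPair.Pair.admBlowup.{u}).op.IsStableUnderProductsOfShape WalkingPair := by
    refine MorphismProperty.IsStableUnderProductsOfShape.mk _ _ ?_
    intro X₁ X₂ _ _ f hf
    exact admBlowup_of_cofans (fun j => unop (X₂ j)) (fun j => unop (X₁ j))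
      (fun j => (f j).unop) hf _ _ (isColimitCofanUnop X₂) (isColimitCofanUnop X₁)
      (Limits.Pi.map f).unop (fun j => by
        show (Pi.π X₂ j).unop ≫ (Limits.Pi.map f).unop = (f j).unop ≫ (Pi.π X₁ j).unop
        rw [← unop_comp, ← unop_comp, Pi.map_π])
  haveI : HasProductsOfShape WalkingPair (ModPair.Pair.admBlowup.{u}).Localizationᵒᵖ :=
    Localization.hasProductsOfShape (ModPair.Pair.admBlowup.{u}).Q.op
      (ModPair.Pair.admBlowup.{u}).op WalkingPair
  haveI hpres : PreservesLimitsOfShape (Discrete WalkingPair)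
      (ModPair.Pair.admBlowup.{u}).Q.op :=
    Localization.preservesProductsOfShape _ (ModPair.Pair.admBlowup.{u}).op WalkingPair
  refine ⟨hasCoproductsOfShape_of_opposite WalkingPair, ?_⟩
  haveI : PreservesLimitsOfShape (Discrete WalkingPair)ᵒᵖ (ModPair.Pair.admBlowup.{u}).Q.op :=
    preservesLimitsOfShape_of_equiv (Discrete.opposite WalkingPair).symm _
  exact preservesColimitsOfShape_of_op _ _

end Groth.Agent.Lib.ModPairCoprod2H7
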