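import Mathlib
import Groth.Prelude
import Groth.Agent.Lib.LocPullback_helper7
import Groth.Agent.Lib.ModPairCoprod2_helper7
import Groth.Agent.Lib.ModPairAmbProd_helper7
import Groth.Agent.Lib.Cart9_helper8
import Groth.Agent.Lib.BlowIso2_helper8
import Groth.Agent.Lib.CartDiff_helper4
import Groth.Agent.Lib.BlowExist_helper2
import Groth.Agent.Lib.BlowProper_helper2
import Groth.Agent.S18738

/-!
# Ambient products are pullbacks in the localized category of modulus pairs (helper7)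

`main18752`.
-/

set_option autoImplicit false
set_option linter.style.haveILetI false
universe u
open CategoryTheory CategoryTheory.Limits AlgebraicGeometry TopologicalSpace Opposite

namespace Groth.Agent.Lib.ModPairLocPbH7
open Groth.Agent.Lib.IdealFTH7 Groth.Agent.Lib.ModPairAmbProdH7

section

variable {P T X : ModPair.Pair.{u}} (f : X ⟶ P) (g : T ⟶ P) {Y : Scheme.{u}}
  (π : Y ⟶ ModPair.mprod f.hom g.hom X.mod T.mod) (K : Y.IdealSheafData)
  (hY : ModPair.IsAmbProd f.hom g.hom X.mod T.mod π K)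

include hY in
/-- The modulus of an ambient product is contained in the exceptional ideal. -/
theorem le_exceptional :
    K ≤ (ModPair.prodCentre f.hom g.hom X.mod T.mod).comap π := by
  obtain ⟨hblow, hKE⟩ := hY
  obtain ⟨DX, hDXdef⟩ : ∃ DX : Y.IdealSheafData, DX = (X.mod.comap
      (ModPair.mprodι f.hom g.hom X.mod T.mod ≫ pullback.fst f.hom g.hom)).comap π := ⟨_, rfl⟩
  obtain ⟨DT, hDTdef⟩ : ∃ DT : Y.IdealSheafData, DT = (T.mod.comap
      (ModPair.mprodι f.hom g.hom X.mod T.mod ≫ pullback.snd f.hom g.hom)).comap π := ⟨_, rfl⟩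
  obtain ⟨E, hEdef⟩ : ∃ E : Y.IdealSheafData,
      E = (ModPair.prodCentre f.hom g.hom X.mod T.mod).comap π := ⟨_, rfl⟩
  have hE : BlowUp.IsEffCartierIdeal E := by
    rw [hEdef]
    exact hblow.1
  have hKE' : K * E = DX * DT := by
    rw [hEdef, hDXdef, hDTdef]
    exact hKE
  have hEsup : E = DX ⊔ DT := by
    rw [hEdef, hDXdef, hDTdef]
    unfold ModPair.prodCentre
    exact Scheme.IdealSheafData.comap_sup _ _ _
  have hKX : K ≤ DX := by
    apply CartH8.le_of_mul_le_mul_cartier K DX E hE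
    rw [hKE']
    exact mul_le_mul_right (hEsup ▸ le_sup_right) DX
  rw [← hEdef, hEsup]
  exact le_trans hKX le_sup_left

variable (hK : BlowUp.IsEffCartierIdeal K)

include hY in
/-- Ambient morphisms into an ambient product are determined by their two projections. -/
theorem hom_unique (A : ModPair.Pair.{u}) (w₁ w₂ : A ⟶ (⟨Y, K, hK⟩ : ModPair.Pair.{u}))
    (h1 : w₁.hom ≫ π ≫ ModPair.mprodι f.hom g.hom X.mod T.mod ≫ pullback.fst f.hom g.hom =
      w₂.hom ≫ π ≫ ModPair.mprodι f.hom g.hom X.mod T.mod ≫ pullback.fst f.hom g.hom)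
    (h2 : w₁.hom ≫ π ≫ ModPair.mprodι f.hom g.hom X.mod T.mod ≫ pullback.snd f.hom g.hom =
      w₂.hom ≫ π ≫ ModPair.mprodι f.hom g.hom X.mod T.mod ≫ pullback.snd f.hom g.hom) :
    w₁ = w₂ := by
  have e1 : (w₁.hom ≫ π) ≫ ModPair.mprodι f.hom g.hom X.mod T.mod =
      (w₂.hom ≫ π) ≫ ModPair.mprodι f.hom g.hom X.mod T.mod := by
    apply pullback.hom_ext
    · simp only [Category.assoc]; exact h1
    · simp only [Category.assoc]; exact h2
  have e2 : w₁.hom ≫ π = w₂.hom ≫ π :=
    (cancel_mono (ModPair.mprodι f.hom g.hom X.mod T.mod)).mp e1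
  have hE := hY.1.1
  have hcart : BlowUp.IsEffCartierIdeal
      ((ModPair.prodCentre f.hom g.hom X.mod T.mod).comap (w₁.hom ≫ π)) := by
    rw [Scheme.IdealSheafData.comap_comp]
    refine CartH8.isEffCartier_comap_of_le w₁.hom _ hE A.mod A.isEffCartier ?_
    have h3 : K.comap w₁.hom ≤
        ((ModPair.prodCentre f.hom g.hom X.mod T.mod).comap π).comap w₁.hom :=
      Scheme.IdealSheafData.comap_mono w₁.hom (le_exceptional f g π K hY)
    exact le_trans w₁.cond h3
  obtain ⟨h, -, huniq⟩ := hY.1.2 A.total (w₁.hom ≫ π) hcart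
  exact ModPair.Pair.Hom.ext ((huniq w₁.hom rfl).trans (huniq w₂.hom e2.symm).symm)

include hY in
/-- A commutative square of ambient morphisms lifts to the ambient product after an admissible
blow-up. -/
theorem exists_lift
    (hX : ModPair.IsAmbient K X.mod
      (π ≫ ModPair.mprodι f.hom g.hom X.mod T.mod ≫ pullback.fst f.hom g.hom))
    (hT : ModPair.IsAmbient K T.mod
      (π ≫ ModPair.mprodι f.hom g.hom X.mod T.mod ≫ pullback.snd f.hom g.hom))
    (A : ModPair.Pair.{u}) (u : A ⟶ X) (v : A ⟶ T) (huv : u ≫ f = v ≫ g) :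
    ∃ (A' : ModPair.Pair.{u}) (s : A' ⟶ A) (_ : ModPair.Pair.admBlowup s)
      (w : A' ⟶ (⟨Y, K, hK⟩ : ModPair.Pair.{u})),
      w ≫ (ModPair.Pair.Hom.mk (P := ModPair.Pair.mk Y K hK) (Q := X)
          (π ≫ ModPair.mprodι f.hom g.hom X.mod T.mod ≫ pullback.fst f.hom g.hom) hX) = s ≫ u ∧
      w ≫ (ModPair.Pair.Hom.mk (P := ModPair.Pair.mk Y K hK) (Q := T)
          (π ≫ ModPair.mprodι f.hom g.hom X.mod T.mod ≫ pullback.snd f.hom g.hom) hT) = s ≫ v := by
  have huv' : u.hom ≫ f.hom = v.hom ≫ g.hom := congrArg ModPair.Pair.Hom.hom huv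
  obtain ⟨l₀, hl₀⟩ : ∃ l₀ : A.total ⟶ pullback f.hom g.hom,
      l₀ = pullback.lift u.hom v.hom huv' := ⟨_, rfl⟩
  have hl₀1 : l₀ ≫ pullback.fst f.hom g.hom = u.hom := by rw [hl₀, pullback.lift_fst]
  have hl₀2 : l₀ ≫ pullback.snd f.hom g.hom = v.hom := by rw [hl₀, pullback.lift_snd]
  haveI : IsSchemeTheoreticallyDominant
      (l₀ ⁻¹ᵁ ModPair.prodInterior f.hom g.hom X.mod T.mod).ι := by
    apply BlowIsoH8.dominant_of_effCartier A.mod A.isEffCartier
    intro y hy
    refine ⟨?_, ?_⟩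
    · show (pullback.fst f.hom g.hom) (l₀ y) ∉ X.mod.support
      rw [← Scheme.Hom.comp_apply, hl₀1]
      intro h
      exact hy (Scheme.IdealSheafData.support_antitone u.cond
        ((CartH8.mem_support_comap_iff u.hom X.mod y).mpr h))
    · show (pullback.snd f.hom g.hom) (l₀ y) ∉ T.mod.support
      rw [← Scheme.Hom.comp_apply, hl₀2]
      intro h
      exact hy (Scheme.IdealSheafData.support_antitone v.cond
        ((CartH8.mem_support_comap_iff v.hom T.mod y).mpr h))
  obtain ⟨c, hc⟩ := CartH8.exists_lift_imageι l₀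
    (ModPair.prodInterior f.hom g.hom X.mod T.mod)
  have hc' : c ≫ ModPair.mprodι f.hom g.hom X.mod T.mod = l₀ := hc
  have ec1 : c ≫ ModPair.mprodι f.hom g.hom X.mod T.mod ≫ pullback.fst f.hom g.hom = u.hom := by
    rw [← Category.assoc, hc', hl₀1]
  have ec2 : c ≫ ModPair.mprodι f.hom g.hom X.mod T.mod ≫ pullback.snd f.hom g.hom = v.hom := by
    rw [← Category.assoc, hc', hl₀2]
  -- the centre pulled back to `A`
  obtain ⟨CA, hCA⟩ : ∃ CA : A.total.IdealSheafData,
      CA = (ModPair.prodCentre f.hom g.hom X.mod T.mod).comap c := ⟨_, rfl⟩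
  have hCA' : CA = X.mod.comap u.hom ⊔ T.mod.comap v.hom := by
    rw [hCA]
    unfold ModPair.prodCentre
    rw [Scheme.IdealSheafData.comap_sup, ← Scheme.IdealSheafData.comap_comp,
      ← Scheme.IdealSheafData.comap_comp, ec1, ec2]
  have hft : BlowUp.IsFiniteTypeIdeal CA := by
    rw [hCA']
    exact fun W => ft_sup (ft_comap_effCartier X.mod X.isEffCartier _)
      (ft_comap_effCartier T.mod T.isEffCartier _) W
  obtain ⟨A', b, hb⟩ := Groth.Agent.Lib.BlowExist.main8859 A.total CA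
  haveI : IsProper b := Groth.Agent.Lib.BlowProper.isProper_of_isBlowUp CA hft b hb
  have hA'cart : BlowUp.IsEffCartierIdeal (A.mod.comap b) :=
    CartH8.isEffCartier_comap_of_isBlowUp b CA hb A.mod A.isEffCartier
  obtain ⟨A'p, hA'p⟩ : ∃ A'p : ModPair.Pair.{u}, A'p = ⟨A', A.mod.comap b, hA'cart⟩ := ⟨_, rfl⟩
  subst hA'p
  have hACA : A.mod ≤ CA := by
    rw [hCA']
    exact le_trans u.cond le_sup_left
  have hs : ModPair.IsAdmBlowup (A.mod.comap b) A.mod b := by
    refine ⟨rfl, inferInstance, ?_⟩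
    haveI : IsIso (b ∣_ CA.support.compl) := BlowIsoH8.isIso_restrict CA b hb
    have hle : ModPair.interior A.mod ≤ CA.support.compl := by
      intro y hy
      show y ∉ CA.support
      intro hy'
      exact hy (Scheme.IdealSheafData.support_antitone hACA hy')
    exact ModPairCoprod2H7.restrict_of_le (P := MorphismProperty.isomorphisms Scheme) b hle
      (inferInstance : IsIso (b ∣_ CA.support.compl))
  -- lift to the blow-up `Y`
  have hcart : BlowUp.IsEffCartierIdeal
      ((ModPair.prodCentre f.hom g.hom X.mod T.mod).comap (b ≫ c)) := by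
    rw [Scheme.IdealSheafData.comap_comp, ← hCA]
    exact hb.1
  obtain ⟨h, hh, -⟩ := hY.1.2 A' (b ≫ c) hcart
  have hh' : h ≫ π = b ≫ c := hh
  have e_fst : h ≫ π ≫ ModPair.mprodι f.hom g.hom X.mod T.mod ≫ pullback.fst f.hom g.hom =
      b ≫ u.hom := by
    rw [← Category.assoc, hh', Category.assoc, ec1]
  have e_snd : h ≫ π ≫ ModPair.mprodι f.hom g.hom X.mod T.mod ≫ pullback.snd f.hom g.hom =
      b ≫ v.hom := by
    rw [← Category.assoc, hh', Category.assoc, ec2]
  -- the modulus condition for `h`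
  obtain ⟨a, ha⟩ : ∃ a : A'.IdealSheafData, a = X.mod.comap (b ≫ u.hom) := ⟨_, rfl⟩
  obtain ⟨bb, hbb⟩ : ∃ bb : A'.IdealSheafData, bb = T.mod.comap (b ≫ v.hom) := ⟨_, rfl⟩
  have hle_a : A.mod.comap b ≤ a := by
    rw [ha, Scheme.IdealSheafData.comap_comp]
    exact Scheme.IdealSheafData.comap_mono b u.cond
  have hle_b : A.mod.comap b ≤ bb := by
    rw [hbb, Scheme.IdealSheafData.comap_comp]
    exact Scheme.IdealSheafData.comap_mono b v.cond
  have ha_cart : BlowUp.IsEffCartierIdeal a := by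
    rw [ha]
    exact CartH8.isEffCartier_comap_of_le (b ≫ u.hom) X.mod X.isEffCartier (A.mod.comap b)
      hA'cart (ha ▸ hle_a)
  have hbb_cart : BlowUp.IsEffCartierIdeal bb := by
    rw [hbb]
    exact CartH8.isEffCartier_comap_of_le (b ≫ v.hom) T.mod T.isEffCartier (A.mod.comap b)
      hA'cart (hbb ▸ hle_b)
  have he : (ModPair.prodCentre f.hom g.hom X.mod T.mod).comap (b ≫ c) = a ⊔ bb := by
    rw [Scheme.IdealSheafData.comap_comp, ← hCA, hCA', Scheme.IdealSheafData.comap_sup,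
      ← Scheme.IdealSheafData.comap_comp, ← Scheme.IdealSheafData.comap_comp, ha, hbb]
  have he_cart : BlowUp.IsEffCartierIdeal (a ⊔ bb) := he ▸ hcart
  have hE1 : ((ModPair.prodCentre f.hom g.hom X.mod T.mod).comap π).comap h = a ⊔ bb := by
    rw [← Scheme.IdealSheafData.comap_comp, hh', he]
  have hX1 : ((X.mod.comap (ModPair.mprodι f.hom g.hom X.mod T.mod ≫
      pullback.fst f.hom g.hom)).comap π).comap h = a := by
    rw [← Scheme.IdealSheafData.comap_comp, ← Scheme.IdealSheafData.comap_comp,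
      Category.assoc, e_fst, ha]
  have hT1 : ((T.mod.comap (ModPair.mprodι f.hom g.hom X.mod T.mod ≫
      pullback.snd f.hom g.hom)).comap π).comap h = bb := by
    rw [← Scheme.IdealSheafData.comap_comp, ← Scheme.IdealSheafData.comap_comp,
      Category.assoc, e_snd, hbb]
  have hKh : K.comap h * (a ⊔ bb) = a * bb := by
    have h0 := congrArg (fun Z => Z.comap h) hY.2
    rw [CartH8.comap_mul, CartH8.comap_mul, hE1, hX1, hT1] at h0
    exact h0
  obtain ⟨a', b', -, -, e1, e2, -, hD⟩ :=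
    Groth.Agent.Lib.CartDiffH4.main a bb ha_cart hbb_cart he_cart
  have hKeq : K.comap h = a' * b' * (a ⊔ bb) := by
    apply CartH8.eq_of_mul_eq_mul_cartier _ _ (a ⊔ bb) he_cart
    rw [hKh]
    symm
    rw [mul_assoc, mul_mul_mul_comm, ← e1, ← e2]
  have hamb : ModPair.IsAmbient (A.mod.comap b) K h := by
    show A.mod.comap b ≤ K.comap h
    rw [hKeq]
    exact hD (A.mod.comap b) hA'cart hle_a hle_b
  refine ⟨⟨A', A.mod.comap b, hA'cart⟩, ⟨b, le_refl _⟩, hs, ⟨h, hamb⟩,
    ModPair.Pair.Hom.ext ?_, ModPair.Pair.Hom.ext ?_⟩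
  · exact e_fst
  · exact e_snd

end

theorem main18752 (P T X : ModPair.Pair.{u}) (f : X ⟶ P) (g : T ⟶ P)
    {Y : Scheme.{u}} (π : Y ⟶ ModPair.mprod f.hom g.hom X.mod T.mod) (K : Y.IdealSheafData)
    (hY : ModPair.IsAmbProd f.hom g.hom X.mod T.mod π K) (hK : BlowUp.IsEffCartierIdeal K)
    (hX : ModPair.IsAmbient K X.mod
      (π ≫ ModPair.mprodι f.hom g.hom X.mod T.mod ≫ pullback.fst f.hom g.hom))
    (hT : ModPair.IsAmbient K T.mod
      (π ≫ ModPair.mprodι f.hom g.hom X.mod T.mod ≫ pullback.snd f.hom g.hom)) :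
    IsPullback
      ((ModPair.Pair.admBlowup.{u}).Q.map
        (ModPair.Pair.Hom.mk (P := ModPair.Pair.mk Y K hK) (Q := T)
          (π ≫ ModPair.mprodι f.hom g.hom X.mod T.mod ≫ pullback.snd f.hom g.hom) hT))
      ((ModPair.Pair.admBlowup.{u}).Q.map
        (ModPair.Pair.Hom.mk (P := ModPair.Pair.mk Y K hK) (Q := X)
          (π ≫ ModPair.mprodι f.hom g.hom X.mod T.mod ≫ pullback.fst f.hom g.hom) hX))
      ((ModPair.Pair.admBlowup.{u}).Q.map g) ((ModPair.Pair.admBlowup.{u}).Q.map f) := by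
  haveI := Groth.Agent.S18738.result.{u}
  refine LocPullbackH7.isPullback_map (ModPair.Pair.admBlowup.{u}).Q ModPair.Pair.admBlowup.{u}
    f g _ _ ?_ ?_ ?_
  · refine ModPair.Pair.Hom.ext ?_
    show (π ≫ ModPair.mprodι f.hom g.hom X.mod T.mod ≫ pullback.snd f.hom g.hom) ≫ g.hom =
      (π ≫ ModPair.mprodι f.hom g.hom X.mod T.mod ≫ pullback.fst f.hom g.hom) ≫ f.hom
    simp only [Category.assoc, pullback.condition]
  · intro A u v huv
    exact exists_lift f g π K hY hK hX hT A u v huv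
  · intro A w₁ w₂ h1 h2
    refine ⟨A, 𝟙 A, (ModPair.Pair.admBlowup.{u}).id_mem A, ?_⟩
    rw [hom_unique f g π K hY hK A w₁ w₂ (congrArg ModPair.Pair.Hom.hom h1)
      (congrArg ModPair.Pair.Hom.hom h2)]

end Groth.Agent.Lib.ModPairLocPbH7
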