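import Mathlib
import Groth.Prelude
import Groth.Agent.Lib.LocPullback_helper7
import Groth.Agent.Lib.ModPairLocPb_helper7
import Groth.Agent.Lib.ModPairAmbProdEx_helper7
import Groth.Agent.S18738
import Groth.Agent.S18749

/-!
# Finite limits in the localized category of modulus pairs (helper7)

`main18739`.
-/

set_option autoImplicit false
set_option linter.style.haveILetI false
universe v₁ v₂ u₁ u₂ u
open CategoryTheory CategoryTheory.Limits AlgebraicGeometry TopologicalSpace Opposite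

namespace Groth.Agent.Lib.ModPairFinLimH7

section Abstract

variable {C : Type u₁} [Category.{v₁} C] {D : Type u₂} [Category.{v₂} D] (L : C ⥤ D)
  (W : MorphismProperty C) [L.IsLocalization W] [W.HasRightCalculusOfFractions]

include W in
/-- If the images of all cospans of `C` have pullbacks in the localization, the localization has
pullbacks. -/
theorem hasPullbacks_of_map
    (h : ∀ {X Y Z : C} (f : X ⟶ Z) (g : Y ⟶ Z), HasPullback (L.map f) (L.map g)) :
    HasPullbacks D := by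
  haveI : L.EssSurj := Localization.essSurj L W
  refine @hasPullbacks_of_hasLimit_cospan D _ (fun {X' Y' Z'} {f} {g} => ?_)
  obtain ⟨eX⟩ : Nonempty (L.obj (L.objPreimage X') ≅ X') := ⟨L.objObjPreimageIso X'⟩
  obtain ⟨eY⟩ : Nonempty (L.obj (L.objPreimage Y') ≅ Y') := ⟨L.objObjPreimageIso Y'⟩
  obtain ⟨eZ⟩ : Nonempty (L.obj (L.objPreimage Z') ≅ Z') := ⟨L.objObjPreimageIso Z'⟩
  obtain ⟨f₀, hf₀⟩ : ∃ f₀ : L.obj (L.objPreimage X') ⟶ L.obj (L.objPreimage Z'),
      f₀ = eX.hom ≫ f ≫ eZ.inv := ⟨_, rfl⟩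
  obtain ⟨g₀, hg₀⟩ : ∃ g₀ : L.obj (L.objPreimage Y') ⟶ L.obj (L.objPreimage Z'),
      g₀ = eY.hom ≫ g ≫ eZ.inv := ⟨_, rfl⟩
  obtain ⟨φ, hφ⟩ := Localization.exists_rightFraction L W f₀
  obtain ⟨ψ, hψ⟩ := Localization.exists_rightFraction L W g₀
  haveI := h φ.f ψ.f
  haveI : IsIso (L.map φ.s) := Localization.inverts L W _ φ.hs
  haveI : IsIso (L.map ψ.s) := Localization.inverts L W _ ψ.hs
  have h1 : L.map φ.s ≫ f₀ = L.map φ.f := by
    rw [hφ]; exact MorphismProperty.RightFraction.map_s_comp_map φ L _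
  have h2 : L.map ψ.s ≫ g₀ = L.map ψ.f := by
    rw [hψ]; exact MorphismProperty.RightFraction.map_s_comp_map ψ L _
  have wf : (asIso (L.map φ.s) ≪≫ eX).hom ≫ f = L.map φ.f ≫ eZ.hom := by
    rw [← h1, hf₀]
    simp
  have wg : (asIso (L.map ψ.s) ≪≫ eY).hom ≫ g = L.map ψ.f ≫ eZ.hom := by
    rw [← h2, hg₀]
    simp
  exact hasLimit_of_iso (cospanExt (asIso (L.map φ.s) ≪≫ eX) (asIso (L.map ψ.s) ≪≫ eY) eZ wf wg)

end Abstract

theorem effCartier_top (X : Scheme.{u}) : BlowUp.IsEffCartierIdeal (⊤ : X.IdealSheafData) := by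
  intro x
  obtain ⟨_, ⟨U, hU, rfl⟩, hxU, -⟩ :=
    X.isBasis_affineOpens.exists_subset_of_mem_open (Set.mem_univ x) isOpen_univ
  refine ⟨⟨U, hU⟩, hxU, 1, one_mem _, ?_⟩
  rw [Ideal.span_singleton_one]
  rfl

/-- The terminal modulus pair. -/
noncomputable def terminalPair : ModPair.Pair.{u} :=
  ⟨⊤_ Scheme.{u}, ⊤, effCartier_top _⟩

noncomputable def isTerminalPair : IsTerminal terminalPair.{u} :=
  IsTerminal.ofUniqueHom
    (fun A => ⟨terminal.from A.total, by
      show A.mod ≤ (⊤ : (⊤_ Scheme.{u}).IdealSheafData).comap _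
      rw [Scheme.IdealSheafData.comap_top]
      exact le_top⟩)
    (fun A m => ModPair.Pair.Hom.ext (terminal.hom_ext _ _))

theorem main18739 : HasFiniteLimits (ModPair.Pair.admBlowup.{u}).Localization := by
  haveI := Groth.Agent.S18738.result.{u}
  haveI : HasTerminal (ModPair.Pair.admBlowup.{u}).Localization := by
    obtain ⟨ht⟩ := LocPullbackH7.isTerminal_map (ModPair.Pair.admBlowup.{u}).Q
      ModPair.Pair.admBlowup.{u} isTerminalPair.{u}
    exact ht.hasTerminal
  haveI : HasPullbacks (ModPair.Pair.admBlowup.{u}).Localization :=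
    hasPullbacks_of_map (ModPair.Pair.admBlowup.{u}).Q ModPair.Pair.admBlowup.{u}
      (fun {X Yp Z} f g => by
        obtain ⟨Y, π, K, hY⟩ := ModPairAmbProdExH7.main18750 Z.mod Yp.mod X.mod Z.isEffCartier
          Yp.isEffCartier X.isEffCartier f.hom f.cond g.hom g.cond
        obtain ⟨hK, hX, hT, -⟩ := Groth.Agent.S18749.result Z.mod Yp.mod X.mod Z.isEffCartier
          Yp.isEffCartier X.isEffCartier f.hom f.cond g.hom g.cond π K hY
        exact (ModPairLocPbH7.main18752 Z Yp X f g π K hY hK hX hT).flip.hasPullback)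
  exact hasFiniteLimits_of_hasTerminal_and_pullbacks

end Groth.Agent.Lib.ModPairFinLimH7
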