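import Mathlib

/-!
# Compactness of finite wide pullbacks of quasi-compact morphisms (helper7)
-/

set_option autoImplicit false
universe u
open CategoryTheory AlgebraicGeometry Limits

namespace Groth.Agent.Lib.WidePbCompactH7

variable {S : Scheme.{u}}

/-- Comparison morphism from the binary pullback to the wide pullback over `Fin (m+1)`. -/
noncomputable def cmp {m : ℕ} (X : Fin (m + 1) → Scheme.{u}) (g : ∀ i, X i ⟶ S) :
    pullback (g 0) (WidePullback.base (fun k : Fin m => g k.succ)) ⟶ widePullback S X g :=
  WidePullback.lift (pullback.fst _ _ ≫ g 0)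
    (fun i => Fin.cases
      (motive := fun i => pullback (g 0) (WidePullback.base (fun k : Fin m => g k.succ)) ⟶ X i)
      (pullback.fst _ _)
      (fun k => pullback.snd _ _ ≫ WidePullback.π (fun k : Fin m => g k.succ) k) i)
    (by
      intro i
      refine Fin.cases ?_ (fun k => ?_) i
      · rfl
      · simp only [Fin.cases_succ, Category.assoc, WidePullback.π_arrow]
        exact pullback.condition.symm)

lemma cmp_π_zero {m : ℕ} (X : Fin (m + 1) → Scheme.{u}) (g : ∀ i, X i ⟶ S) :
    cmp X g ≫ WidePullback.π g 0 = pullback.fst _ _ := by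
  unfold cmp
  rw [WidePullback.lift_π]
  rfl

lemma cmp_π_succ {m : ℕ} (X : Fin (m + 1) → Scheme.{u}) (g : ∀ i, X i ⟶ S) (k : Fin m) :
    cmp X g ≫ WidePullback.π g k.succ =
      pullback.snd _ _ ≫ WidePullback.π (fun k : Fin m => g k.succ) k := by
  unfold cmp
  rw [WidePullback.lift_π]
  rfl

lemma cmp_base {m : ℕ} (X : Fin (m + 1) → Scheme.{u}) (g : ∀ i, X i ⟶ S) :
    cmp X g ≫ WidePullback.base g = pullback.fst _ _ ≫ g 0 := by
  unfold cmp
  rw [WidePullback.lift_base]

theorem cmp_surjective {m : ℕ} (X : Fin (m + 1) → Scheme.{u}) (g : ∀ i, X i ⟶ S) :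
    Function.Surjective (cmp X g) := by
  intro z
  obtain ⟨t, ht⟩ : ∃ t : Spec ((widePullback S X g).residueField z) ⟶ widePullback S X g,
      t = (widePullback S X g).fromSpecResidueField z := ⟨_, rfl⟩
  let t' : Spec ((widePullback S X g).residueField z) ⟶
      pullback (g 0) (WidePullback.base (fun k : Fin m => g k.succ)) :=
    pullback.lift (t ≫ WidePullback.π g 0)
      (WidePullback.lift (t ≫ WidePullback.base g) (fun k => t ≫ WidePullback.π g k.succ)
        (fun k => by rw [Category.assoc, WidePullback.π_arrow]))
      (by rw [Category.assoc, WidePullback.π_arrow, WidePullback.lift_base])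
  have h : t' ≫ cmp X g = t := by
    apply WidePullback.hom_ext
    · intro i
      refine Fin.cases ?_ (fun k => ?_) i
      · rw [Category.assoc, cmp_π_zero, pullback.lift_fst]
      · rw [Category.assoc, cmp_π_succ, pullback.lift_snd_assoc, WidePullback.lift_π]
    · rw [Category.assoc, cmp_base, pullback.lift_fst_assoc, Category.assoc, WidePullback.π_arrow]
  refine ⟨t' (IsLocalRing.closedPoint _), ?_⟩
  rw [← Scheme.Hom.comp_apply, h, ht]
  exact Scheme.fromSpecResidueField_apply _ _

theorem compactSpace_widePullback [CompactSpace S] :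
    ∀ (m : ℕ) (X : Fin m → Scheme.{u}) (g : ∀ i, X i ⟶ S) [∀ i, QuasiCompact (g i)],
      CompactSpace ↥(widePullback S X g) := by
  intro m
  induction m with
  | zero =>
    intro X g _
    have hs : Function.Surjective
        (WidePullback.lift (arrows := g) (𝟙 S) (fun i => i.elim0) (fun i => i.elim0)) := by
      intro z
      obtain ⟨t, ht⟩ : ∃ t : Spec ((widePullback S X g).residueField z) ⟶ widePullback S X g,
          t = (widePullback S X g).fromSpecResidueField z := ⟨_, rfl⟩
      have h : (t ≫ WidePullback.base g) ≫
          WidePullback.lift (arrows := g) (𝟙 S) (fun i => i.elim0) (fun i => i.elim0) = t := by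
        apply WidePullback.hom_ext
        · intro i; exact i.elim0
        · rw [Category.assoc, WidePullback.lift_base, Category.comp_id]
      refine ⟨(t ≫ WidePullback.base g) (IsLocalRing.closedPoint _), ?_⟩
      rw [← Scheme.Hom.comp_apply, h, ht]
      exact Scheme.fromSpecResidueField_apply _ _
    exact ⟨by rw [← hs.range_eq]; exact isCompact_range (Scheme.Hom.continuous _)⟩
  | succ m ih =>
    intro X g _
    haveI : CompactSpace ↥(widePullback S (fun k : Fin m => X k.succ) (fun k => g k.succ)) :=
      ih _ _
    haveI : CompactSpace ↥(pullback (g 0) (WidePullback.base (fun k : Fin m => g k.succ))) :=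
      QuasiCompact.compactSpace_of_compactSpace
        (pullback.snd (g 0) (WidePullback.base (fun k : Fin m => g k.succ)))
    exact ⟨by rw [← (cmp_surjective X g).range_eq]; exact isCompact_range (Scheme.Hom.continuous _)⟩

end Groth.Agent.Lib.WidePbCompactH7
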