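import Mathlib
import Groth.Prelude
import Groth.Agent.Lib.AdmSep2_helper7
import Groth.Agent.Lib.WidePbCompact_helper7
import Groth.Agent.Lib.ModPairFinLim_helper7

/-!
# Separating closures in a product of compactifications by admissible blow-ups (helper7)
-/

set_option autoImplicit false
universe u
open CategoryTheory AlgebraicGeometry TopologicalSpace Topology Limits

namespace Groth.Agent.Lib.AdmSep3H7

open Groth.Agent.Lib.AdmSepH7 Groth.Agent.Lib.AdmSep2H7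

lemma ideal_eq_top_of_disjoint {X : Scheme.{u}} (I : X.IdealSheafData) (U : X.affineOpens)
    (h : (I.support : Set X) ∩ U.1 = ∅) : I.ideal U = ⊤ := by
  have h1 := I.coe_support_inter U
  rw [h] at h1
  have h3 := U.2.fromSpec_image_zeroLocus (I.ideal U : Set Γ(X, U.1))
  rw [← h1, Set.image_eq_empty] at h3
  exact PrimeSpectrum.zeroLocus_empty_iff_eq_top.1 h3

theorem comap_iSup {X Y : Scheme.{u}} {ι : Sort*} (f : X ⟶ Y) (I : ι → Y.IdealSheafData) :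
    (⨆ i, I i).comap f = ⨆ i, (I i).comap f :=
  (Scheme.IdealSheafData.map_gc f).l_iSup

/-- Nakayama-type local lemma. -/
theorem nak_local {Y : Scheme.{u}} {ι : Type*} [Finite ι] (E J JH : ι → Y.IdealSheafData)
    (K : Y.IdealSheafData) (hEft : ∀ i (W : Y.affineOpens), ((E i).ideal W).FG)
    (hrel : ∀ j, JH j * E j ≤ (⨆ i, J i * E i) ⊔ K)
    (S : Set Y) (hSK : S ⊆ K.support) (i₀ : ι) (hSE : ∀ y ∈ S, y ∉ (E i₀).support)
    (z : Y) (hzS : z ∈ closure S) (hzJ : ∀ i, z ∈ (J i).support)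
    (hzJH : ∀ j, z ∉ (JH j).support) : False := by
  have hO : IsOpen (⋂ j, ((JH j).support : Set Y)ᶜ) :=
    isOpen_iInter_of_finite (fun j => (JH j).support.isClosed.isOpen_compl)
  have hzO : z ∈ ⋂ j, ((JH j).support : Set Y)ᶜ := Set.mem_iInter.mpr (fun j => hzJH j)
  obtain ⟨_, ⟨W, hW, rfl⟩, hzW, hWO⟩ :=
    (Y.isBasis_affineOpens).exists_subset_of_mem_open hzO hO
  obtain ⟨Wa, hWa⟩ : ∃ Wa : Y.affineOpens, Wa = ⟨W, hW⟩ := ⟨_, rfl⟩
  have hzWa : z ∈ Wa.1 := by rw [hWa]; exact hzW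
  have hJHtop : ∀ j, (JH j).ideal Wa = ⊤ := by
    intro j
    apply ideal_eq_top_of_disjoint
    ext y
    simp only [Set.mem_inter_iff, Set.mem_empty_iff_false, iff_false, not_and]
    intro hy hyW
    rw [hWa] at hyW
    exact (Set.mem_iInter.mp (hWO hyW) j) hy
  have hrel' : ∀ j, (E j).ideal Wa ≤
      ((⨆ i, (J i).ideal Wa) * (⨆ i, (E i).ideal Wa)) ⊔ K.ideal Wa := by
    intro j
    have h1 := hrel j Wa
    have h2 : (JH j * E j).ideal Wa = (E j).ideal Wa := by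
      show (JH j).ideal Wa * (E j).ideal Wa = _
      rw [hJHtop j, Ideal.top_mul]
    have h3 : ((⨆ i, J i * E i) ⊔ K).ideal Wa =
        (⨆ i, (J i).ideal Wa * (E i).ideal Wa) ⊔ K.ideal Wa := by
      show (⨆ i, J i * E i).ideal Wa ⊔ K.ideal Wa = _
      rw [Scheme.IdealSheafData.ideal_iSup, iSup_apply]
      rfl
    rw [h2, h3] at h1
    refine h1.trans (sup_le_sup_right (iSup_le fun i => ?_) _)
    exact Ideal.mul_mono (le_iSup (fun i => (J i).ideal Wa) i)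
      (le_iSup (fun i => (E i).ideal Wa) i)
  obtain ⟨𝔢, h𝔢⟩ : ∃ 𝔢 : Ideal Γ(Y, Wa.1), 𝔢 = ⨆ i, (E i).ideal Wa := ⟨_, rfl⟩
  obtain ⟨𝔞, h𝔞⟩ : ∃ 𝔞 : Ideal Γ(Y, Wa.1), 𝔞 = ⨆ i, (J i).ideal Wa := ⟨_, rfl⟩
  rw [← h𝔢, ← h𝔞] at hrel'
  have h𝔢fg : 𝔢.FG := by rw [h𝔢]; exact Submodule.fg_iSup _ (fun i => hEft i Wa)
  have hle : 𝔢 ≤ 𝔞 * 𝔢 ⊔ K.ideal Wa := by
    have h0 := iSup_le hrel'
    rwa [← h𝔢] at h0
  obtain ⟨r, hr1, hr2⟩ : ∃ r : Γ(Y, Wa.1), r - 1 ∈ 𝔞 ∧ ∀ x ∈ 𝔢, r * x ∈ K.ideal Wa := by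
    have hN : (Submodule.map (K.ideal Wa).mkQ 𝔢) ≤ 𝔞 • (Submodule.map (K.ideal Wa).mkQ 𝔢) := by
      rw [← Submodule.map_smul'']
      rintro _ ⟨x, hx, rfl⟩
      obtain ⟨y, hy, κ, hκ, rfl⟩ := Submodule.mem_sup.mp (hle hx)
      refine ⟨y, hy, ?_⟩
      have hκ0 : (K.ideal Wa).mkQ κ = 0 := by
        rw [Submodule.mkQ_apply]
        exact (Submodule.Quotient.mk_eq_zero _).mpr hκ
      rw [map_add, hκ0, add_zero]
    obtain ⟨r, hr1, hr2⟩ := Submodule.exists_sub_one_mem_and_smul_eq_zero_of_fg_of_le_smul 𝔞 _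
      (Submodule.FG.map (K.ideal Wa).mkQ h𝔢fg) hN
    refine ⟨r, hr1, fun x hx => ?_⟩
    have h4 := hr2 _ ⟨x, hx, rfl⟩
    rw [← map_smul, Submodule.mkQ_apply, Submodule.Quotient.mk_eq_zero, smul_eq_mul] at h4
    exact h4
  have hz𝔞 : ∀ a ∈ 𝔞, z ∉ Y.basicOpen a := by
    intro a ha
    rw [h𝔞] at ha
    refine Submodule.iSup_induction (fun i => (J i).ideal Wa)
      (motive := fun a => z ∉ Y.basicOpen a) ha ?_ ?_ ?_
    · intro i x hx
      have h5 := (Scheme.IdealSheafData.mem_support_iff_of_mem (U := Wa) hzWa).mp (hzJ i)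
      rw [Scheme.mem_zeroLocus_iff] at h5
      exact h5 x hx
    · rw [Scheme.basicOpen_zero]
      exact fun h => (Opens.mem_bot).mp h
    · intro x y hx hy hxy
      rcases Y.basicOpen_add_le x y hxy with h | h
      · exact hx h
      · exact hy h
  have hzr : z ∈ Y.basicOpen r := by
    have h1 : z ∈ Y.basicOpen (1 : Γ(Y, Wa.1)) := by
      rw [Y.basicOpen_of_isUnit isUnit_one]; exact hzWa
    have h2 : (1 : Γ(Y, Wa.1)) = r + -(r - 1) := by ring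
    have h1' : z ∈ Y.basicOpen (r + -(r - 1)) := by rwa [← h2]
    rcases Y.basicOpen_add_le _ _ h1' with h | h
    · exact h
    · exact absurd h (hz𝔞 _ (𝔞.neg_mem hr1))
  obtain ⟨y, hy1, hy2⟩ := mem_closure_iff.mp hzS _ (Y.basicOpen r).isOpen hzr
  have hyW : y ∈ Wa.1 := Y.basicOpen_le _ hy1
  have hyE := hSE y hy2
  rw [Scheme.IdealSheafData.mem_support_iff_of_mem (U := Wa) hyW, Scheme.mem_zeroLocus_iff]
    at hyE
  push Not at hyE
  obtain ⟨x, hx, hyx⟩ := hyE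
  have hx𝔢 : x ∈ 𝔢 := by
    rw [h𝔢]; exact (le_iSup (fun i => (E i).ideal Wa) i₀) hx
  have hrx := hr2 x hx𝔢
  have hyK := (Scheme.IdealSheafData.mem_support_iff_of_mem (U := Wa) hyW).mp (hSK hy2)
  rw [Scheme.mem_zeroLocus_iff] at hyK
  refine hyK _ hrx ?_
  rw [Scheme.basicOpen_mul]
  exact ⟨hy1, hyx⟩

/-- In the closure of `U` inside a product, if one coordinate is interior then so is any other
(for proper `qB`). -/
theorem gf {S X U T A Ab B Bb : Scheme.{u}} (gX : X ⟶ S)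
    (oA : A ⟶ Ab) [IsOpenImmersion oA] (qA : A ⟶ X) (gA : Ab ⟶ S) (hqA : qA ≫ gX = oA ≫ gA)
    (oB : B ⟶ Bb) (qB : B ⟶ X) [IsProper qB] (gB : Bb ⟶ S) [IsSeparated gB]
    (hqB : qB ≫ gX = oB ≫ gB)
    (aA : T ⟶ Ab) (aB : T ⟶ Bb) (haS : aA ≫ gA = aB ≫ gB)
    (ℓ : U ⟶ T) (vA : U ⟶ A) (vB : U ⟶ B) (hℓA : ℓ ≫ aA = vA ≫ oA) (hℓB : ℓ ≫ aB = vB ≫ oB)
    (hv : vA ≫ qA = vB ≫ qB) (z : T) (hz : z ∈ closure (Set.range ℓ))
    (hzA : aA z ∈ Set.range oA) : aB z ∈ Set.range oB := by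
  obtain ⟨TA, hTA⟩ : ∃ TA : T.Opens, TA = aA ⁻¹ᵁ oA.opensRange := ⟨_, rfl⟩
  have hmemTA : ∀ y : T, y ∈ TA ↔ aA y ∈ Set.range oA := by
    intro y
    rw [hTA]
    show aA y ∈ oA.opensRange ↔ _
    rw [← SetLike.mem_coe, Scheme.Hom.coe_opensRange]
  have hιmem : ∀ y : (TA : Scheme), TA.ι y ∈ TA := by
    intro y
    have h0 : TA.ι y ∈ Set.range TA.ι := ⟨y, rfl⟩
    rw [Scheme.Opens.range_ι] at h0
    exact h0
  have hρr : Set.range (TA.ι ≫ aA) ⊆ Set.range oA := by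
    rintro _ ⟨y, rfl⟩
    rw [Scheme.Hom.comp_apply]
    exact (hmemTA _).mp (hιmem y)
  obtain ⟨ρ, hρ⟩ : ∃ ρ : (TA : Scheme) ⟶ A, ρ ≫ oA = TA.ι ≫ aA :=
    ⟨IsOpenImmersion.lift oA (TA.ι ≫ aA) hρr, IsOpenImmersion.lift_fac _ _ _⟩
  have hcond : pullback.fst qB (ρ ≫ qA) ≫ qB = pullback.snd qB (ρ ≫ qA) ≫ ρ ≫ qA :=
    pullback.condition
  obtain ⟨pr₁, hpr₁⟩ : ∃ p : pullback qB (ρ ≫ qA) ⟶ B, p = pullback.fst qB (ρ ≫ qA) := ⟨_, rfl⟩
  obtain ⟨pr₂, hpr₂⟩ : ∃ p : pullback qB (ρ ≫ qA) ⟶ (TA : Scheme),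
      p = pullback.snd qB (ρ ≫ qA) := ⟨_, rfl⟩
  rw [← hpr₁, ← hpr₂] at hcond
  haveI : IsProper pr₂ := by rw [hpr₂]; infer_instance
  have e1 : TA.ι ≫ aB ≫ gB = ρ ≫ qA ≫ gX := by
    calc TA.ι ≫ aB ≫ gB = TA.ι ≫ aA ≫ gA := by rw [haS]
      _ = (TA.ι ≫ aA) ≫ gA := (Category.assoc _ _ _).symm
      _ = (ρ ≫ oA) ≫ gA := by rw [hρ]
      _ = ρ ≫ oA ≫ gA := Category.assoc _ _ _
      _ = ρ ≫ qA ≫ gX := by rw [hqA]
  have hf : (pr₂ ≫ TA.ι ≫ aB) ≫ gB = (pr₁ ≫ oB) ≫ gB := by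
    simp only [Category.assoc]
    rw [e1, ← Category.assoc ρ, ← Category.assoc pr₂, ← hcond,
      Category.assoc, hqB]
  let XO : Over S := Over.mk ((pr₁ ≫ oB) ≫ gB)
  let YO : Over S := Over.mk gB
  let F₁ : XO ⟶ YO := Over.homMk (pr₁ ≫ oB) rfl
  let F₂ : XO ⟶ YO := Over.homMk (pr₂ ≫ TA.ι ≫ aB) hf
  haveI : IsSeparated YO.hom := (inferInstance : IsSeparated gB)
  have hcl : IsClosedImmersion (equalizer.ι F₁ F₂).left :=
    isClosedImmersion_equalizer_ι_left F₁ F₂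
  have hcond2 : (equalizer.ι F₁ F₂).left ≫ (pr₁ ≫ oB) =
      (equalizer.ι F₁ F₂).left ≫ (pr₂ ≫ TA.ι ≫ aB) :=
    congrArg (fun k => Over.Hom.left k) (equalizer.condition F₁ F₂)
  have hC : IsClosed (Set.range (equalizer.ι F₁ F₂).left) :=
    (equalizer.ι F₁ F₂).left.isClosedEmbedding.isClosed_range
  have hD : IsClosed (pr₂ '' Set.range (equalizer.ι F₁ F₂).left) := pr₂.isClosedMap _ hC
  have hℓr : Set.range ℓ ⊆ Set.range TA.ι := by
    rintro _ ⟨u, rfl⟩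
    rw [Scheme.Opens.range_ι]
    refine (hmemTA _).mpr ?_
    rw [← Scheme.Hom.comp_apply, hℓA, Scheme.Hom.comp_apply]
    exact ⟨_, rfl⟩
  obtain ⟨ℓA, hℓA'⟩ : ∃ ℓA : U ⟶ (TA : Scheme), ℓA ≫ TA.ι = ℓ :=
    ⟨IsOpenImmersion.lift TA.ι ℓ hℓr, IsOpenImmersion.lift_fac _ _ _⟩
  have hℓρ : ℓA ≫ ρ = vA := by
    rw [← cancel_mono oA, Category.assoc, hρ, ← Category.assoc, hℓA', hℓA]
  obtain ⟨σ, hσ1, hσ2⟩ : ∃ σ : U ⟶ pullback qB (ρ ≫ qA), σ ≫ pr₁ = vB ∧ σ ≫ pr₂ = ℓA := by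
    refine ⟨pullback.lift vB ℓA (by rw [← Category.assoc, hℓρ, hv]), ?_, ?_⟩
    · rw [hpr₁]; exact pullback.lift_fst _ _ _
    · rw [hpr₂]; exact pullback.lift_snd _ _ _
  have hσeq : σ ≫ (pr₁ ≫ oB) = σ ≫ (pr₂ ≫ TA.ι ≫ aB) := by
    rw [reassoc_of% hσ1, reassoc_of% hσ2, reassoc_of% hℓA', hℓB]
  let σO : Over.mk (σ ≫ XO.hom) ⟶ XO := Over.homMk σ rfl
  have hσO : σO ≫ F₁ = σO ≫ F₂ := by
    ext
    exact hσeq
  have hlift : (equalizer.lift σO hσO).left ≫ (equalizer.ι F₁ F₂).left = σ :=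
    congrArg (fun k => Over.Hom.left k) (equalizer.lift_ι σO hσO)
  have hℓD : Set.range ℓA ⊆ pr₂ '' Set.range (equalizer.ι F₁ F₂).left := by
    rintro _ ⟨u, rfl⟩
    refine ⟨σ u, ⟨(equalizer.lift σO hσO).left u, ?_⟩, ?_⟩
    · rw [← Scheme.Hom.comp_apply, hlift]
    · rw [← Scheme.Hom.comp_apply, hσ2]
  have hzTA : z ∈ TA := (hmemTA z).mpr hzA
  obtain ⟨zA, hzA'⟩ : ∃ zA : (TA : Scheme), TA.ι zA = z := by
    have h0 : z ∈ Set.range TA.ι := by rw [Scheme.Opens.range_ι]; exact hzTA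
    exact h0
  have hzcl : zA ∈ closure (Set.range ℓA) := by
    have h1 := TA.ι.isOpenEmbedding.isOpenMap.preimage_closure_eq_closure_preimage
      TA.ι.continuous (Set.range ℓ)
    have h2 : zA ∈ TA.ι ⁻¹' closure (Set.range ℓ) := by
      show TA.ι zA ∈ closure (Set.range ℓ)
      rw [hzA']; exact hz
    rw [h1] at h2
    refine closure_mono ?_ h2
    rintro y ⟨u, hu⟩
    refine ⟨u, TA.ι.isOpenEmbedding.injective ?_⟩
    rw [← Scheme.Hom.comp_apply, hℓA']; exact hu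
  obtain ⟨r, ⟨e, rfl⟩, hr⟩ := (hD.closure_subset_iff.mpr hℓD) hzcl
  refine ⟨pr₁ ((equalizer.ι F₁ F₂).left e), ?_⟩
  have h5 : ((equalizer.ι F₁ F₂).left ≫ (pr₁ ≫ oB)) e =
      ((equalizer.ι F₁ F₂).left ≫ (pr₂ ≫ TA.ι ≫ aB)) e := by rw [hcond2]
  simp only [Scheme.Hom.comp_apply] at h5
  rw [h5, hr, hzA']

theorem main17394
    {S X U : Scheme.{u}} [CompactSpace S] [QuasiSeparatedSpace S] {m : ℕ}
    (gX : X ⟶ S)
    (Xi Xb : Fin m → Scheme.{u}) (gb : ∀ i, Xb i ⟶ S) [∀ i, IsProper (gb i)]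
    (o : ∀ i, Xi i ⟶ Xb i) [∀ i, IsOpenImmersion (o i)] [∀ i, QuasiCompact (o i)]
    (q : ∀ i, Xi i ⟶ X) [∀ i, IsProper (q i)] (hq : ∀ i, q i ≫ gX = o i ≫ gb i)
    (jU : U ⟶ X)
    (v : ∀ i, U ⟶ Xi i)
    (hv : ∀ i, v i ≫ q i = jU) (w : ∀ i, (v i ≫ o i) ≫ gb i = jU ≫ gX)
    (Y : ∀ i, (Xi i).IdealSheafData) (hY : ∀ i, BlowUp.IsFiniteTypeIdeal (Y i))
    (hempty : ∀ z ∈ closure (Set.range
        (fun x => (WidePullback.lift (jU ≫ gX) (fun i => v i ≫ o i) w) x)),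
      ∃ i, (WidePullback.π gb i) z ∉ (fun x => o i x) '' ((Y i).support : Set (Xi i))) :
    ∃ (𝓔 : ∀ i, (Xb i).IdealSheafData) (Xb' : Fin m → Scheme.{u}) (c : ∀ i, Xb' i ⟶ Xb i)
      (v' : ∀ i, U ⟶ Xb' i) (w' : ∀ i, v' i ≫ c i ≫ gb i = jU ≫ gX),
      (∀ i, BlowUp.IsBlowUp (c i) (𝓔 i) ∧ BlowUp.IsAdmissibleFor (o i).opensRange (𝓔 i) ∧
        v' i ≫ c i = v i ≫ o i) ∧
      ∀ z ∈ closure (Set.range
          (fun x => (WidePullback.lift (jU ≫ gX) (fun i => v' i) w') x)),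
        ∃ i, (WidePullback.π (fun i => c i ≫ gb i) i) z ∉
          closure ((fun y => c i y) ⁻¹'
            ((fun x => o i x) '' ((Y i).support : Set (Xi i)))) := by
  classical
  haveI : ∀ i, CompactSpace (Xb i) := fun i => QuasiCompact.compactSpace_of_compactSpace (gb i)
  haveI : ∀ i, QuasiSeparatedSpace (Xb i) := fun i =>
    quasiSeparatedSpace_of_quasiSeparated (gb i)
  haveI : ∀ i, CompactSpace (Xi i) := fun i => QuasiCompact.compactSpace_of_compactSpace (o i)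
  haveI : CompactSpace ↥(widePullback S Xb gb) :=
    Groth.Agent.Lib.WidePbCompactH7.compactSpace_widePullback m Xb gb
  -- boundary ideals
  have hB : ∀ i, ∃ H : (Xb i).IdealSheafData, (∀ V : (Xb i).affineOpens, (H.ideal V).FG) ∧
      (H.support : Set (Xb i)) = (Set.range (o i))ᶜ := by
    intro i
    obtain ⟨H, h1, h2⟩ := (IdealFTH7.main9823 (Xb i) (o i).opensRange).mp
      (by rw [Scheme.Hom.coe_opensRange]; exact isCompact_range (o i).continuous)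
    exact ⟨H, h1, by rw [h2, Scheme.Hom.coe_opensRange]⟩
  choose H hHft hHs using hB
  have hI : ∀ i, ∃ 𝓘 : (Xb i).IdealSheafData, (∀ V : (Xb i).affineOpens, (𝓘.ideal V).FG) ∧
      (𝓘.support : Set (Xb i)) = ((o i) '' ((Y i).support : Set (Xi i))ᶜ)ᶜ := by
    intro i
    have hopen : IsOpen ((o i) '' ((Y i).support : Set (Xi i))ᶜ) :=
      (o i).isOpenEmbedding.isOpenMap _ (Y i).support.isClosed.isOpen_compl
    have hcomp : IsCompact ((o i) '' ((Y i).support : Set (Xi i))ᶜ) :=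
      (IdealFTH7.isCompact_compl_support_of_ft (Y i) (hY i)).image (o i).continuous
    exact (IdealFTH7.main9823 (Xb i) ⟨_, hopen⟩).mp hcomp
  choose 𝓘 h𝓘ft h𝓘s using hI
  have hYsub : ∀ i, (fun x => o i x) '' ((Y i).support : Set (Xi i)) ⊆
      ((𝓘 i).support : Set (Xb i)) := by
    intro i x hx
    rw [h𝓘s i]
    rintro ⟨y', hy', hyx⟩
    obtain ⟨y, hy, rfl⟩ := hx
    have h0 : y' = y := (o i).isOpenEmbedding.injective hyx
    exact hy' (h0 ▸ hy)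
  have hIsub : ∀ i x, x ∈ (𝓘 i).support → x ∈ Set.range (o i) →
      x ∈ (fun x => o i x) '' ((Y i).support : Set (Xi i)) := by
    intro i x hx hxr
    obtain ⟨y, rfl⟩ := hxr
    refine ⟨y, ?_, rfl⟩
    by_contra hy
    have hx' : (o i) y ∈ ((𝓘 i).support : Set (Xb i)) := hx
    rw [h𝓘s i] at hx'
    exact hx' ⟨y, hy, rfl⟩
  -- the product, the closure of U
  obtain ⟨ℓ, hℓ⟩ : ∃ ℓ : U ⟶ widePullback S Xb gb,
      ℓ = WidePullback.lift (jU ≫ gX) (fun i => v i ≫ o i) w := ⟨_, rfl⟩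
  rw [← hℓ] at hempty
  have hℓπ : ∀ i, ℓ ≫ WidePullback.π gb i = v i ≫ o i := fun i => by
    rw [hℓ]; exact WidePullback.lift_π _ _ _ _ i
  have hℓb : ℓ ≫ WidePullback.base gb = jU ≫ gX := by
    rw [hℓ]; exact WidePullback.lift_base _ _ _ _
  obtain ⟨𝒦, h𝒦s⟩ : ∃ 𝒦 : (widePullback S Xb gb).IdealSheafData,
      (𝒦.support : Set ↥(widePullback S Xb gb)) = closure (Set.range ℓ) :=
    ⟨Scheme.IdealSheafData.vanishingIdeal ⟨closure (Set.range ℓ), isClosed_closure⟩,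
      Scheme.IdealSheafData.coe_support_vanishingIdeal _⟩
  have hGF : ∀ (a b : Fin m) (z : ↥(widePullback S Xb gb)), z ∈ closure (Set.range ℓ) →
      (WidePullback.π gb a) z ∈ Set.range (o a) → (WidePullback.π gb b) z ∈ Set.range (o b) := by
    intro a b z hz hza
    exact gf gX (o a) (q a) (gb a) (hq a) (o b) (q b) (gb b) (hq b) (WidePullback.π gb a)
      (WidePullback.π gb b) (by rw [WidePullback.π_arrow, WidePullback.π_arrow]) ℓ (v a) (v b)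
      (hℓπ a) (hℓπ b) ((hv a).trans (hv b).symm) z hz hza
  obtain ⟨L, hL⟩ : ∃ L : (widePullback S Xb gb).IdealSheafData,
      L = (⨆ i, (𝓘 i).comap (WidePullback.π gb i)) ⊔ 𝒦 := ⟨_, rfl⟩
  have hsub : ∀ j, (L.support : Set ↥(widePullback S Xb gb)) ⊆
      ((H j).comap (WidePullback.π gb j)).support := by
    intro j z hz
    have hz' : z ∈ L.support := hz
    rw [hL, Scheme.IdealSheafData.support_sup, Scheme.IdealSheafData.support_iSup] at hz'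
    obtain ⟨hz1, hz2⟩ := hz'
    have hz1' := TopologicalSpace.Closeds.mem_iInf.mp hz1
    have hz2' : z ∈ closure (Set.range ℓ) := by rw [← h𝒦s]; exact hz2
    obtain ⟨i₀, hi₀⟩ := hempty z hz2'
    have hi₀r : (WidePullback.π gb i₀) z ∉ Set.range (o i₀) := fun hr =>
      hi₀ (hIsub i₀ _ ((CartH8.mem_support_comap_iff _ _ z).mp (hz1' i₀)) hr)
    have hjr : (WidePullback.π gb j) z ∉ Set.range (o j) := fun hr =>
      hi₀r (hGF j i₀ z hz2' hr)
    refine (CartH8.mem_support_comap_iff _ _ z).mpr ?_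
    show (WidePullback.π gb j) z ∈ ((H j).support : Set (Xb j))
    rw [hHs j]; exact hjr
  have hpow : ∀ j, ∃ N : ℕ, ((H j).comap (WidePullback.π gb j)) ^ (N + 1) ≤ L := fun j =>
    exists_pow_le_of_support_subset _ L
      (Groth.Agent.Lib.BlowAdm.isFiniteType_comap _ (H j) (hHft j)) (hsub j)
  choose Nj hNj using hpow
  obtain ⟨N, hN⟩ : ∃ N : ℕ, ∀ j, Nj j ≤ N :=
    ⟨Finset.univ.sup Nj, fun j => Finset.le_sup (Finset.mem_univ j)⟩
  obtain ⟨P, hP⟩ : ∃ P : ∀ i, (Xb i).IdealSheafData, P = fun i => (H i) ^ (N + 1) := ⟨_, rfl⟩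
  have hPi : ∀ i, P i = (H i) ^ (N + 1) := fun i => by rw [hP]
  have hrelP : ∀ j, (P j).comap (WidePullback.π gb j) ≤ L := by
    intro j
    rw [hPi, comap_pow]
    refine le_trans ?_ (hNj j)
    intro W
    show (((H j).comap (WidePullback.π gb j)).ideal W) ^ (N + 1) ≤
      (((H j).comap (WidePullback.π gb j)).ideal W) ^ (Nj j + 1)
    exact Ideal.pow_le_pow_right (Nat.succ_le_succ (hN j))
  have hPs : ∀ i, ((P i).support : Set (Xb i)) = (Set.range (o i))ᶜ := fun i => by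
    rw [hPi, Scheme.IdealSheafData.support_pow_succ]; exact hHs i
  have hPft : ∀ i (W : (Xb i).affineOpens), ((P i).ideal W).FG := fun i => by
    rw [hPi]; exact ft_pow (hHft i) (N + 1)
  have hEdisj : ∀ i, Disjoint (((𝓘 i) ⊔ (P i)).support : Set (Xb i)) (Set.range (o i)) := by
    intro i
    rw [Set.disjoint_left]
    intro x hx hxr
    rw [Scheme.IdealSheafData.support_sup] at hx
    have hx2 : x ∈ (Set.range (o i))ᶜ := by rw [← hPs i]; exact hx.2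
    exact hx2 hxr
  have hEft : ∀ i (W : (Xb i).affineOpens), (((𝓘 i) ⊔ (P i)).ideal W).FG := fun i =>
    IdealFTH7.ft_sup (h𝓘ft i) (hPft i)
  choose Xb' c hc using fun i => Groth.Agent.Lib.BlowExist.main8859 (Xb i) ((𝓘 i) ⊔ (P i))
  have hv'ex : ∀ i, ∃ v' : U ⟶ Xb' i, v' ≫ c i = v i ≫ o i := by
    intro i
    have htop : ((𝓘 i) ⊔ (P i)).comap (v i ≫ o i) = ⊤ := by
      rw [← Scheme.IdealSheafData.support_eq_bot_iff]
      apply TopologicalSpace.Closeds.ext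
      rw [TopologicalSpace.Closeds.coe_bot, Set.eq_empty_iff_forall_notMem]
      intro x hx
      have hx' : (v i ≫ o i) x ∈ ((𝓘 i) ⊔ (P i)).support :=
        (CartH8.mem_support_comap_iff _ _ x).mp hx
      rw [Scheme.Hom.comp_apply] at hx'
      exact Set.disjoint_left.mp (hEdisj i) hx' ⟨_, rfl⟩
    obtain ⟨h, hh, -⟩ := (hc i).2 U (v i ≫ o i)
      (by rw [htop]; exact Groth.Agent.Lib.ModPairFinLimH7.effCartier_top _)
    exact ⟨h, hh⟩
  choose v' hv' using hv'ex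
  have w' : ∀ i, v' i ≫ c i ≫ gb i = jU ≫ gX := fun i => by
    rw [← Category.assoc, hv' i]; exact w i
  refine ⟨fun i => (𝓘 i) ⊔ (P i), Xb', c, v', w', fun i => ⟨hc i, ?_, hv' i⟩, ?_⟩
  · have hd : Disjoint (((𝓘 i) ⊔ (P i)).support : Set (Xb i))
        ((o i).opensRange : Set (Xb i)) := by
      rw [Scheme.Hom.coe_opensRange]; exact hEdisj i
    exact (And.intro (hEft i) hd : BlowUp.IsAdmissibleFor (o i).opensRange ((𝓘 i) ⊔ (P i)))
  intro z hz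
  by_contra hcon
  push Not at hcon
  obtain ⟨ℓ', hℓ'⟩ : ∃ ℓ' : U ⟶ widePullback S Xb' (fun i => c i ≫ gb i),
      ℓ' = WidePullback.lift (jU ≫ gX) (fun i => v' i) w' := ⟨_, rfl⟩
  rw [← hℓ'] at hz
  have hℓ'π : ∀ i, ℓ' ≫ WidePullback.π (fun i => c i ≫ gb i) i = v' i := fun i => by
    rw [hℓ']; exact WidePullback.lift_π _ _ _ _ i
  obtain ⟨γ, hγπ, hγb⟩ : ∃ γ : widePullback S Xb' (fun i => c i ≫ gb i) ⟶ widePullback S Xb gb,
      (∀ i, γ ≫ WidePullback.π gb i = WidePullback.π (fun i => c i ≫ gb i) i ≫ c i) ∧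
      γ ≫ WidePullback.base gb = WidePullback.base (fun i => c i ≫ gb i) :=
    ⟨WidePullback.lift (WidePullback.base _)
      (fun i => WidePullback.π (fun i => c i ≫ gb i) i ≫ c i)
      (fun i => by rw [Category.assoc]; exact WidePullback.π_arrow _ i),
      fun i => WidePullback.lift_π _ _ _ _ i, WidePullback.lift_base _ _ _ _⟩
  have hℓγ : ℓ' ≫ γ = ℓ := by
    apply WidePullback.hom_ext
    · intro i
      rw [Category.assoc, hγπ, ← Category.assoc, hℓ'π, hv', hℓπ]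
    · rw [Category.assoc, hγb, hℓb, hℓ', WidePullback.lift_base]
  have hzbar : γ z ∈ closure (Set.range ℓ) := by
    refine map_mem_closure γ.continuous hz ?_
    rintro _ ⟨u, rfl⟩
    exact ⟨u, by rw [← hℓγ, Scheme.Hom.comp_apply]⟩
  obtain ⟨i₀, -⟩ := hempty (γ z) hzbar
  have hsplit : ∀ i, ∃ J₁ J₂ : (Xb' i).IdealSheafData,
      (𝓘 i).comap (c i) = J₁ * ((𝓘 i) ⊔ (P i)).comap (c i) ∧
      (P i).comap (c i) = J₂ * ((𝓘 i) ⊔ (P i)).comap (c i) ∧ J₁ ⊔ J₂ = ⊤ := by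
    intro i
    have hE' : BlowUp.IsEffCartierIdeal ((𝓘 i).comap (c i) ⊔ (P i).comap (c i)) := by
      rw [← Scheme.IdealSheafData.comap_sup]; exact (hc i).1
    obtain ⟨J₁, J₂, e₁, e₂, hJ⟩ := colon_split _ _ hE'
    rw [← Scheme.IdealSheafData.comap_sup] at e₁ e₂
    exact ⟨J₁, J₂, e₁, e₂, hJ⟩
  choose J JH eJ eJH hJJ using hsplit
  have ha : ∀ i, (WidePullback.π (fun i => c i ≫ gb i) i) z ∈ (J i).support := fun i =>
    closure_preimage_subset_support (c i) (𝓘 i) ((𝓘 i) ⊔ (P i)) (J i) (eJ i) _ (hYsub i)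
      ((hEdisj i).mono_right (by rintro _ ⟨y, -, rfl⟩; exact ⟨y, rfl⟩)) (hcon i)
  have hb : ∀ i, (WidePullback.π (fun i => c i ≫ gb i) i) z ∉ (JH i).support := by
    intro i hb
    have h3 : (WidePullback.π (fun i => c i ≫ gb i) i) z ∈ (J i ⊔ JH i).support := by
      rw [Scheme.IdealSheafData.support_sup]; exact ⟨ha i, hb⟩
    rw [hJJ i, Scheme.IdealSheafData.support_top] at h3
    exact (Set.notMem_empty _) h3
  have hrel' : ∀ j, (JH j).comap (WidePullback.π (fun i => c i ≫ gb i) j) *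
        (((𝓘 j) ⊔ (P j)).comap (c j)).comap (WidePullback.π (fun i => c i ≫ gb i) j) ≤
      (⨆ i, (J i).comap (WidePullback.π (fun i => c i ≫ gb i) i) *
        (((𝓘 i) ⊔ (P i)).comap (c i)).comap (WidePullback.π (fun i => c i ≫ gb i) i)) ⊔
        𝒦.comap γ := by
    intro j
    have h1 : ((P j).comap (WidePullback.π gb j)).comap γ ≤ L.comap γ :=
      (Scheme.IdealSheafData.comap_mono (f := γ)) (hrelP j)
    have hl : ((P j).comap (WidePullback.π gb j)).comap γ =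
        (JH j).comap (WidePullback.π (fun i => c i ≫ gb i) j) *
        (((𝓘 j) ⊔ (P j)).comap (c j)).comap (WidePullback.π (fun i => c i ≫ gb i) j) := by
      rw [← Scheme.IdealSheafData.comap_comp, hγπ, Scheme.IdealSheafData.comap_comp, eJH j,
        CartH8.comap_mul]
    have hr : L.comap γ = (⨆ i, (J i).comap (WidePullback.π (fun i => c i ≫ gb i) i) *
        (((𝓘 i) ⊔ (P i)).comap (c i)).comap (WidePullback.π (fun i => c i ≫ gb i) i)) ⊔
        𝒦.comap γ := by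
      rw [hL, Scheme.IdealSheafData.comap_sup, comap_iSup]
      congr 1
      refine iSup_congr fun i => ?_
      rw [← Scheme.IdealSheafData.comap_comp, hγπ, Scheme.IdealSheafData.comap_comp, eJ i,
        CartH8.comap_mul]
    rw [hl, hr] at h1
    exact h1
  have hSK : Set.range ℓ' ⊆ ((𝒦.comap γ).support : Set _) := by
    rintro _ ⟨u, rfl⟩
    refine (CartH8.mem_support_comap_iff γ 𝒦 _).mpr ?_
    show γ (ℓ' u) ∈ (𝒦.support : Set _)
    rw [h𝒦s, ← Scheme.Hom.comp_apply, hℓγ]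
    exact subset_closure ⟨u, rfl⟩
  have hSE : ∀ y ∈ Set.range ℓ', y ∉ ((((𝓘 i₀) ⊔ (P i₀)).comap (c i₀)).comap
      (WidePullback.π (fun i => c i ≫ gb i) i₀)).support := by
    rintro _ ⟨u, rfl⟩ h
    have h1 := (CartH8.mem_support_comap_iff _ _ _).mp h
    have h2 := (CartH8.mem_support_comap_iff _ _ _).mp h1
    rw [← Scheme.Hom.comp_apply, ← Scheme.Hom.comp_apply, ← Category.assoc,
      hℓ'π, hv', Scheme.Hom.comp_apply] at h2
    exact Set.disjoint_left.mp (hEdisj i₀) h2 ⟨_, rfl⟩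
  exact nak_local
    (fun i => (((𝓘 i) ⊔ (P i)).comap (c i)).comap (WidePullback.π (fun i => c i ≫ gb i) i))
    (fun i => (J i).comap (WidePullback.π (fun i => c i ≫ gb i) i))
    (fun i => (JH i).comap (WidePullback.π (fun i => c i ≫ gb i) i)) (𝒦.comap γ)
    (fun i => Groth.Agent.Lib.BlowAdm.isFiniteType_comap _ _
      (Groth.Agent.Lib.BlowAdm.isFiniteType_comap _ _ (hEft i)))
    (fun j => hrel' j) (Set.range ℓ') hSK i₀ hSE z hz
    (fun i => (CartH8.mem_support_comap_iff _ _ z).mpr (ha i))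
    (fun i h => hb i ((CartH8.mem_support_comap_iff _ _ z).mp h))

end Groth.Agent.Lib.AdmSep3H7
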