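import Mathlib
import Groth.Prelude
import Groth.Agent.Lib.AdmSep3_helper7

/-!
# Extending a Zariski cover of the interior after an admissible blow-up (helper7)
-/

set_option autoImplicit false
universe u
open CategoryTheory AlgebraicGeometry TopologicalSpace Topology Limits

namespace Groth.Agent.Lib.AdmSep4H7

open Groth.Agent.Lib.CartDiffH4 Groth.Agent.Lib.AdmSep3H7

theorem colon_iSup_eq_top {R : Type*} [CommRing R] {ι : Type*} (I : ι → Ideal R) (E : Ideal R)
    (e : R) (he : e ∈ nonZeroDivisors R) (hE : E = ⨆ i, I i) (hEe : E = Ideal.span {e}) :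
    (⨆ i, (I i).colon (E : Set R)) = ⊤ := by
  have key : ∀ x ∈ ⨆ i, I i, ∃ c ∈ ⨆ i, (I i).colon (E : Set R), x = c * e := by
    intro x hx
    refine Submodule.iSup_induction I
      (motive := fun x => ∃ c ∈ ⨆ i, (I i).colon (E : Set R), x = c * e) hx ?_ ?_ ?_
    · intro i x hx
      have hxE : x ∈ Ideal.span {e} := by rw [← hEe, hE]; exact (le_iSup I i) hx
      obtain ⟨c, rfl⟩ := Ideal.mem_span_singleton'.mp hxE
      refine ⟨c, (le_iSup (fun i => (I i).colon (E : Set R)) i) ?_, rfl⟩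
      rw [hEe]
      exact Ideal.mem_colon_span_singleton.mpr hx
    · exact ⟨0, zero_mem _, by simp⟩
    · rintro x y ⟨c, hc, rfl⟩ ⟨d, hd, rfl⟩
      exact ⟨c + d, add_mem hc hd, by ring⟩
  have hee : e ∈ ⨆ i, I i := by rw [← hE, hEe]; exact Ideal.mem_span_singleton_self e
  obtain ⟨c, hc, hce⟩ := key e hee
  have h1 : e * (c - 1) = 0 := by linear_combination -hce
  have hc1 : c = 1 := sub_eq_zero.mp ((mem_nonZeroDivisors_iff.mp he).1 _ h1)
  rw [Ideal.eq_top_iff_one, ← hc1]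
  exact hc

theorem colon_split_family {X : Scheme.{u}} {ι : Type*} (I : ι → X.IdealSheafData)
    (hE : BlowUp.IsEffCartierIdeal (⨆ i, I i)) :
    ∃ J : ι → X.IdealSheafData, (∀ i, I i = J i * (⨆ i, I i)) ∧ (⨆ i, J i) = ⊤ := by
  have hfg := fg_of_cartier (⨆ i, I i) hE
  have hcov := nice_cover (⨆ i, I i) hE
  refine ⟨fun i => colonSheaf (I i) (⨆ i, I i) hfg, fun i => ?_, ?_⟩
  · refine Scheme.IdealSheafData.ext_of_iSup_eq_top (fun k : Nice (⨆ i, I i) => k.1) hcov ?_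
    rintro ⟨U, e, he, hEe⟩
    show (I i).ideal U = ((I i).ideal U).colon (((⨆ i, I i).ideal U : Ideal Γ(X, U.1)) :
      Set Γ(X, U.1)) * (⨆ i, I i).ideal U
    exact colon_mul_eq _ _ e hEe ((le_iSup I i) U)
  · refine Scheme.IdealSheafData.ext_of_iSup_eq_top (fun k : Nice (⨆ i, I i) => k.1) hcov ?_
    rintro ⟨U, e, he, hEe⟩
    show (⨆ i, colonSheaf (I i) (⨆ i, I i) hfg).ideal U = (⊤ : X.IdealSheafData).ideal U
    rw [Scheme.IdealSheafData.ideal_iSup, iSup_apply]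
    show (⨆ i, ((I i).ideal U).colon (((⨆ i, I i).ideal U : Ideal Γ(X, U.1)) :
      Set Γ(X, U.1))) = ⊤
    refine colon_iSup_eq_top _ _ e he ?_ hEe
    rw [Scheme.IdealSheafData.ideal_iSup, iSup_apply]

theorem main19336 {S : Scheme.{u}} [CompactSpace S] [QuasiSeparatedSpace S]
    (I : S.IdealSheafData)
    (hI : BlowUp.IsEffCartierIdeal I) {ι : Type u} (V : ι → S.Opens)
    (hVU : ∀ i, V i ≤ ModPair.interior I) (hVqc : ∀ i, IsCompact (V i : Set S))
    (hcov : ModPair.interior I ≤ ⨆ i, V i) :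
    ∃ (F : S.IdealSheafData) (Y : Scheme.{u}) (b : Y ⟶ S) (κ : Type u) (W : κ → Y.Opens),
      BlowUp.IsAdmissibleFor (ModPair.interior I) F ∧ BlowUp.IsBlowUp b F ∧
        BlowUp.IsEffCartierIdeal (I.comap b) ∧ (∀ k, IsCompact (W k : Set Y)) ∧
        (⨆ k, W k) = ⊤ ∧ ∀ k, ∃ i, W k ⊓ b ⁻¹ᵁ ModPair.interior I ≤ b ⁻¹ᵁ V i := by
  classical
  have hUc : IsCompact ((I.support : Set S)ᶜ) :=
    IdealFTH7.isCompact_compl_support_of_ft I (fg_of_cartier I hI)
  have hmemU : ∀ x : S, x ∈ ModPair.interior I ↔ x ∉ I.support := fun x => Iff.rfl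
  obtain ⟨t, ht⟩ := hUc.elim_finite_subcover (fun i => (V i : Set S)) (fun i => (V i).isOpen) (by
    intro x hx
    have h0 : x ∈ ⨆ i, V i := hcov ((hmemU x).mpr hx)
    obtain ⟨i, hi⟩ := Opens.mem_iSup.mp h0
    exact Set.mem_iUnion.mpr ⟨i, hi⟩)
  choose Fi hFft hFs using fun i => (IdealFTH7.main9823 S (V i)).mp (hVqc i)
  obtain ⟨F, hF⟩ : ∃ F : S.IdealSheafData, F = ⨆ i : {i // i ∈ t}, Fi i.1 := ⟨_, rfl⟩
  have hFft' : ∀ W : S.affineOpens, (F.ideal W).FG := by
    intro W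
    rw [hF, Scheme.IdealSheafData.ideal_iSup, iSup_apply]
    exact Submodule.fg_iSup _ (fun i => hFft i.1 W)
  have hFdisj : Disjoint (F.support : Set S) ((ModPair.interior I : S.Opens) : Set S) := by
    rw [Set.disjoint_left]
    intro x hx hxU
    have hx' : x ∈ F.support := hx
    rw [hF, Scheme.IdealSheafData.support_iSup] at hx'
    have hx'' := TopologicalSpace.Closeds.mem_iInf.mp hx'
    have hxU' : x ∈ (I.support : Set S)ᶜ := hxU
    obtain ⟨i, hi⟩ := Set.mem_iUnion.mp (ht hxU')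
    obtain ⟨hit, hxV⟩ := Set.mem_iUnion.mp hi
    have h1 : x ∈ ((Fi i).support : Set S) := hx'' ⟨i, hit⟩
    rw [hFs i] at h1
    exact h1 hxV
  obtain ⟨Y, b, hb⟩ := Groth.Agent.Lib.BlowExist.main8859 S F
  have hE' : BlowUp.IsEffCartierIdeal (⨆ i : {i // i ∈ t}, (Fi i.1).comap b) := by
    rw [← comap_iSup, ← hF]; exact hb.1
  obtain ⟨J, hJ, hJtop⟩ := colon_split_family (fun i : {i // i ∈ t} => (Fi i.1).comap b) hE'
  have hEeq : (⨆ i : {i // i ∈ t}, (Fi i.1).comap b) = F.comap b := by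
    rw [← comap_iSup, ← hF]
  refine ⟨F, Y, b, {W : Y.affineOpens // ∃ i : {i // i ∈ t},
      (W.1 : Set Y) ⊆ ((J i).support : Set Y)ᶜ}, fun k => k.1.1,
    (And.intro hFft' hFdisj : BlowUp.IsAdmissibleFor (ModPair.interior I) F), hb,
    CartH8.isEffCartier_comap_of_isBlowUp b F hb I hI, fun k => k.1.2.isCompact, ?_, ?_⟩
  · rw [eq_top_iff]
    intro y _
    have hex : ∃ i : {i // i ∈ t}, y ∉ (J i).support := by
      by_contra hcon
      push Not at hcon
      have h3 : y ∈ (⨆ i, J i).support := by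
        rw [Scheme.IdealSheafData.support_iSup]
        exact TopologicalSpace.Closeds.mem_iInf.mpr hcon
      rw [hJtop, Scheme.IdealSheafData.support_top] at h3
      exact (Set.notMem_empty _) h3
    obtain ⟨i, hi⟩ := hex
    obtain ⟨_, ⟨W, hW, rfl⟩, hyW, hWle⟩ :=
      (Y.isBasis_affineOpens).exists_subset_of_mem_open
        (show y ∈ ((J i).support : Set Y)ᶜ from hi) (J i).support.isClosed.isOpen_compl
    exact Opens.mem_iSup.mpr ⟨⟨⟨W, hW⟩, i, hWle⟩, hyW⟩
  · rintro ⟨W, i, hWi⟩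
    refine ⟨i.1, ?_⟩
    rintro y ⟨hyW, hyU⟩
    show b y ∈ V i.1
    by_contra hyV
    have h1 : b y ∈ ((Fi i.1).support : Set S) := by rw [hFs i.1]; exact hyV
    have h2 : y ∈ ((Fi i.1).comap b).support := (CartH8.mem_support_comap_iff b _ y).mpr h1
    have h2' : y ∈ (J i * (⨆ i : {i // i ∈ t}, (Fi i.1).comap b)).support := by
      rw [← hJ i]; exact h2
    rw [Scheme.IdealSheafData.support_mul, hEeq] at h2'
    have h3 : y ∈ ((J i).support : Set Y) ∪ ((F.comap b).support : Set Y) := h2'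
    rcases h3 with h3 | h3
    · exact hWi hyW h3
    · have h4 : b y ∈ F.support := (CartH8.mem_support_comap_iff b _ y).mp h3
      exact Set.disjoint_left.mp hFdisj h4 hyU

end Groth.Agent.Lib.AdmSep4H7
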