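import Mathlib
import Groth.Prelude.Def_EGA41
import Groth.Agent.Lib.SepSmooth_helper3
import Groth.Agent.Lib.Cartier_helper3

/-!
# Admissible subfields (EGA 0_IV 21.8): transport of separability across universes,
tower compatibilities of `Ω`, and rank lemmas
-/

set_option autoImplicit false
set_option maxSynthPendingDepth 3

namespace Groth.Agent.Lib.AdmissibleH3

universe u u' v w

open TensorProduct KaehlerDifferential

section GR

/-- geometric reducedness is insensitive to replacing the base field by an isomorphic copy -/
theorem isGeometricallyReduced_of_surjective (k k' L : Type*) [Field k] [Field k'] [Field L]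
    [Algebra k k'] [Algebra k L] [Algebra k' L] [IsScalarTower k k' L]
    (h : Function.Surjective (algebraMap k k')) [Algebra.IsGeometricallyReduced k L] :
    Algebra.IsGeometricallyReduced k' L := by
  rw [Algebra.isGeometricallyReduced_field_iff]
  haveI : Algebra.IsAlgebraic k k' :=
    ⟨fun x => by obtain ⟨y, rfl⟩ := h x; exact isAlgebraic_algebraMap y⟩
  haveI : Algebra.IsAlgebraic k (AlgebraicClosure k') := Algebra.IsAlgebraic.trans k k' _
  haveI : TensorProduct.CompatibleSMul k k' (AlgebraicClosure k') L :=
    TensorProduct.CompatibleSMul.of_algebraMap_surjective (R := k) (A := k')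
      (M := AlgebraicClosure k') (N := L) h
  exact isReduced_of_injective
    (Algebra.TensorProduct.equivOfCompatibleSMul k k' k' (AlgebraicClosure k') L).toRingEquiv.toRingHom
    (Algebra.TensorProduct.equivOfCompatibleSMul k k' k' (AlgebraicClosure k') L).injective

/-- **EGA 0_IV 19.6.1** across universes. -/
theorem formallySmooth_of_isGeometricallyReduced' (k : Type v) (L : Type w) [Field k] [Field L]
    [Algebra k L] [Algebra.IsGeometricallyReduced k L] : Algebra.FormallySmooth k L := by
  let k' : Subfield L := (algebraMap k L).fieldRange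
  letI : Algebra k k' := ((algebraMap k L).rangeRestrictField).toAlgebra
  haveI : IsScalarTower k k' L := IsScalarTower.of_algebraMap_eq fun _ => rfl
  have hb : Function.Bijective (algebraMap k k') := (algebraMap k L).rangeRestrictField_bijective
  haveI : Algebra.IsGeometricallyReduced k' L := isGeometricallyReduced_of_surjective k k' L hb.2
  haveI : Algebra.FormallySmooth k' L :=
    Groth.Agent.Lib.SepSmoothH3.formallySmooth_of_isGeometricallyReduced k' L
  haveI : Algebra.FormallySmooth k k' :=
    Algebra.FormallySmooth.of_equiv (AlgEquiv.ofBijective (Algebra.ofId k k') hb)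
  exact Algebra.FormallySmooth.comp k k' L

theorem mapBaseChange_injective_of_formallySmooth (R S T : Type*) [CommRing R] [CommRing S]
    [CommRing T] [Algebra R S] [Algebra R T] [Algebra S T] [IsScalarTower R S T]
    [Algebra.FormallySmooth S T] : Function.Injective (mapBaseChange R S T) := by
  rw [injective_iff_map_eq_zero]
  intro x hx
  obtain ⟨y, rfl⟩ := (Algebra.H1Cotangent.exact_δ_mapBaseChange R S T x).1 hx
  rw [Subsingleton.elim y 0, map_zero]

end GR

section Tower

variable (R : Type*) (S : Type*) (S' : Type*) (A : Type*) [CommRing R] [CommRing S] [CommRing S']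
  [CommRing A] [Algebra R S] [Algebra R S'] [Algebra S S'] [IsScalarTower R S S'] [Algebra R A]
  [Algebra S A] [Algebra S' A] [IsScalarTower R S A] [IsScalarTower S S' A] [IsScalarTower R S' A]

theorem map_comp_map :
    (KaehlerDifferential.map S S' A A) ∘ₗ (KaehlerDifferential.map R S A A) =
      KaehlerDifferential.map R S' A A := by
  apply LinearMap.ext_on_range (span_range_derivation R A)
  intro a
  simp [map_D]

end Tower

section Tower2

variable (R : Type*) (S : Type*) (A : Type*) (B : Type*) [CommRing R] [CommRing S]
  [CommRing A] [CommRing B] [Algebra R S] [Algebra R A] [Algebra S A] [IsScalarTower R S A]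
  [Algebra A B] [Algebra R B] [Algebra S B] [IsScalarTower R A B] [IsScalarTower S A B]
  [IsScalarTower R S B]

theorem map_mapBaseChange (x : B ⊗[A] Ω[A⁄R]) :
    KaehlerDifferential.map R S B B (mapBaseChange R A B x) =
      mapBaseChange S A B ((KaehlerDifferential.map R S A A).baseChange B x) := by
  induction x using TensorProduct.induction_on with
  | zero => simp
  | add x y hx hy => simp only [map_add, hx, hy]
  | tmul b ω =>
    rw [mapBaseChange_tmul, LinearMap.baseChange_tmul, mapBaseChange_tmul, map_smul]
    congr 1
    have key : ((KaehlerDifferential.map R S B B).restrictScalars A) ∘ₗ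
        (KaehlerDifferential.map R R A B) =
        (KaehlerDifferential.map S S A B) ∘ₗ (KaehlerDifferential.map R S A A) := by
      apply LinearMap.ext_on_range (span_range_derivation R A)
      intro a
      simp [map_D]
    exact LinearMap.congr_fun key ω

end Tower2

section Exact

theorem exact_baseChange {R : Type*} [CommRing R] (A : Type*) [CommRing A] [Algebra R A]
    {M N P : Type*} [AddCommGroup M] [AddCommGroup N] [AddCommGroup P] [Module R M]
    [Module R N] [Module R P]
    {f : M →ₗ[R] N} {g : N →ₗ[R] P} (hfg : Function.Exact f g) (hg : Function.Surjective g) :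
    Function.Exact (f.baseChange A) (g.baseChange A) := by
  have := lTensor_exact A hfg hg
  exact this

end Exact

section T

variable (R : Type*) {A B C : Type*} [CommRing R] [CommRing A] [CommRing B] [CommRing C]
  [Algebra R A] [Algebra R B] [Algebra R C] [Algebra A B] [Algebra B C] [Algebra A C]
  [IsScalarTower R A B] [IsScalarTower R B C] [IsScalarTower R A C] [IsScalarTower A B C]

/-- `C ⊗_A Ω_{A/R} → C ⊗_B Ω_{B/R}` -/
noncomputable def tMap : C ⊗[A] Ω[A⁄R] →ₗ[C] C ⊗[B] Ω[B⁄R] :=
  (mapBaseChange R A B).baseChange C ∘ₗ
    (AlgebraTensorModule.cancelBaseChange A B C C Ω[A⁄R]).symm.toLinearMap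

theorem mapBaseChange_tMap (u : C ⊗[A] Ω[A⁄R]) :
    mapBaseChange R B C (tMap R (B := B) u) = mapBaseChange R A C u := by
  have h := LinearMap.congr_fun (Groth.Agent.Lib.CartierH3.mbc_tower R (A := A) (B := B) (C := C))
    ((AlgebraTensorModule.cancelBaseChange A B C C Ω[A⁄R]).symm u)
  simp only [LinearMap.comp_apply, LinearEquiv.coe_coe, LinearEquiv.apply_symm_apply] at h
  exact h.symm

theorem baseChange_map_tMap (u : C ⊗[A] Ω[A⁄R]) :
    (KaehlerDifferential.map R A B B).baseChange C (tMap R (B := B) u) = 0 := by
  have h0 : (KaehlerDifferential.map R A B B) ∘ₗ (mapBaseChange R A B) = 0 :=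
    LinearMap.ext fun x => (exact_mapBaseChange_map R A B).apply_apply_eq_zero x
  show ((KaehlerDifferential.map R A B B).baseChange C ∘ₗ (mapBaseChange R A B).baseChange C) _ = 0
  rw [← LinearMap.baseChange_comp, h0, LinearMap.baseChange_zero, LinearMap.zero_apply]

end T

section Rank

theorem rank_eq_rank_map_add_rank_inf {F : Type*} {V V' : Type w} [Field F] [AddCommGroup V]
    [AddCommGroup V'] [Module F V] [Module F V'] (β : V →ₗ[F] V') (A : Submodule F V) :
    Module.rank F A = Module.rank F (A.map β) + Module.rank F ↥(A ⊓ LinearMap.ker β) := by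
  have h := LinearMap.rank_range_add_rank_ker (β.domRestrict A)
  rw [LinearMap.range_domRestrict, LinearMap.ker_domRestrict] at h
  rw [← h]
  congr 1
  have e : Submodule.comap A.subtype (LinearMap.ker β) =
      Submodule.comap A.subtype (A ⊓ LinearMap.ker β) := by
    ext ⟨z, hz⟩
    simp [hz]
  rw [e]
  exact (Submodule.comapSubtypeEquivOfLe inf_le_left).rank_eq

theorem cancel_baseChange {K L M : Type*} [CommRing K] [CommRing L] [CommRing M] [Algebra K L]
    [Algebra L M] [Algebra K M] [IsScalarTower K L M] {N N' : Type*} [AddCommGroup N]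
    [AddCommGroup N'] [Module K N] [Module K N'] (g : N →ₗ[K] N') (x : M ⊗[L] (L ⊗[K] N)) :
    AlgebraTensorModule.cancelBaseChange K L M M N' ((g.baseChange L).baseChange M x) =
      g.baseChange M (AlgebraTensorModule.cancelBaseChange K L M M N x) := by
  induction x using TensorProduct.induction_on with
  | zero => simp
  | add x y hx hy => simp only [map_add, hx, hy]
  | tmul m y =>
    induction y using TensorProduct.induction_on with
    | zero => simp
    | add x y hx hy => simp only [tmul_add, map_add, hx, hy]
    | tmul l n =>
      simp only [LinearMap.baseChange_tmul, AlgebraTensorModule.cancelBaseChange_tmul]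

theorem rank_ker_baseChange {L M V : Type w} {W : Type*} [Field L] [Field M] [Algebra L M]
    [AddCommGroup V] [Module L V] [AddCommGroup W] [Module L W] (f : V →ₗ[L] W) :
    Module.rank M (LinearMap.ker (f.baseChange M)) = Module.rank L (LinearMap.ker f) := by
  have e : M ⊗[L] LinearMap.ker f ≃ₗ[M] LinearMap.ker (f.baseChange M) :=
    LinearMap.tensorKerEquiv M M f
  rw [← e.rank_eq, Module.rank_baseChange, Cardinal.lift_id]

theorem ker_prod_baseChange {L M : Type*} [CommRing L] [CommRing M] [Algebra L M]
    {V W W' : Type*} [AddCommGroup V] [AddCommGroup W] [AddCommGroup W'] [Module L V] [Module L W]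
    [Module L W'] (a : V →ₗ[L] W) (b : V →ₗ[L] W') :
    LinearMap.ker ((a.prod b).baseChange M) =
      LinearMap.ker (a.baseChange M) ⊓ LinearMap.ker (b.baseChange M) := by
  have ha : a.baseChange M = (LinearMap.fst L W W').baseChange M ∘ₗ (a.prod b).baseChange M := by
    rw [← LinearMap.baseChange_comp, LinearMap.fst_prod]
  have hb : b.baseChange M = (LinearMap.snd L W W').baseChange M ∘ₗ (a.prod b).baseChange M := by
    rw [← LinearMap.baseChange_comp, LinearMap.snd_prod]
  have key : ∀ z : M ⊗[L] (W × W'), TensorProduct.prodRight L M M W W' z =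
      ((LinearMap.fst L W W').baseChange M z, (LinearMap.snd L W W').baseChange M z) := by
    intro z
    induction z using TensorProduct.induction_on with
    | zero => rw [map_zero, map_zero, map_zero]; rfl
    | add x y hx hy => rw [map_add, hx, hy, map_add, map_add]; rfl
    | tmul m p => simp
  ext x
  simp only [LinearMap.mem_ker, Submodule.mem_inf]
  constructor
  · intro h
    rw [ha, hb, LinearMap.comp_apply, LinearMap.comp_apply, h, map_zero, map_zero]
    exact ⟨rfl, rfl⟩
  · rintro ⟨h1, h2⟩
    apply (TensorProduct.prodRight L M M W W').injective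
    rw [map_zero, key, ← LinearMap.comp_apply, ← ha, ← LinearMap.comp_apply, ← hb, h1, h2]
    rfl

end Rank

end Groth.Agent.Lib.AdmissibleH3
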