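import Mathlib
import Groth.Prelude.Def_AffAlg

/-!
# S-morphisms into an affine S-scheme are O_S-algebra homomorphisms (helper5)
-/

universe u
open CategoryTheory AlgebraicGeometry TopologicalSpace Opposite Limits

namespace Groth.Agent.AffAlgLib

/-- A morphism restricted to an open mapping into an affine open is given by its `appLE`. -/
lemma ι_comp_eq {X Y : Scheme.{u}} (h : Y ⟶ X) {V : X.Opens} (hV : IsAffineOpen V) (W : Y.Opens)
    (e : W ≤ h ⁻¹ᵁ V) :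
    W.ι ≫ h = W.toSpecΓ ≫ Spec.map (h.appLE V W e) ≫ hV.fromSpec := by
  rw [Scheme.Opens.toSpecΓ_SpecMap_appLE_assoc, hV.toSpecΓ_fromSpec, Scheme.Hom.resLE_comp_ι]

lemma toSpecΓ_SpecMap_injective {Y : Scheme.{u}} (W : Y.Opens) {A : CommRingCat.{u}}
    (a b : A ⟶ Γ(Y, W)) (h : W.toSpecΓ ≫ Spec.map a = W.toSpecΓ ≫ Spec.map b) : a = b := by
  have h2 := congrArg Scheme.Hom.appTop h
  simp only [Scheme.Hom.comp_appTop, Scheme.Opens.toSpecΓ_appTop] at h2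
  rw [← Category.assoc, ← Category.assoc, Scheme.ΓSpecIso_naturality, Scheme.ΓSpecIso_naturality,
    Category.assoc, Category.assoc, cancel_epi] at h2
  exact (cancel_mono _).mp h2

variable {X Y S : Scheme.{u}} (f : X ⟶ S) (g : Y ⟶ S)

/-- The cover of `Y` by the preimages of the affine opens of `S`. -/
noncomputable def cov : Y.OpenCover :=
  Y.openCoverOfIsOpenCover (fun U : S.affineOpens => g ⁻¹ᵁ U.1)
    (IsOpenCover.mk (by rw [← Scheme.Hom.preimage_iSup, iSup_affineOpens_eq_top]; rfl))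

noncomputable instance : Preorder (cov g).I₀ := inferInstanceAs (Preorder S.affineOpens)

noncomputable instance : Scheme.Cover.LocallyDirected (cov g) where
  trans {i j} hij := Y.homOfLE (Scheme.Hom.preimage_mono g (leOfHom hij) :
    g ⁻¹ᵁ (i : S.affineOpens).1 ≤ g ⁻¹ᵁ (j : S.affineOpens).1)
  trans_id i := Scheme.homOfLE_rfl _ _
  trans_comp hij hjk := (Scheme.homOfLE_homOfLE _ _ _).symm
  w hij := Scheme.homOfLE_ι _ _
  directed {i j} x := by
    let a : ↥(g ⁻¹ᵁ (i : S.affineOpens).1) := pullback.fst ((cov g).f i) ((cov g).f j) x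
    let b : ↥(g ⁻¹ᵁ (j : S.affineOpens).1) := pullback.snd ((cov g).f i) ((cov g).f j) x
    have hab : (a : Y) = (b : Y) := by
      have := congr($(pullback.condition (f := (cov g).f i) (g := (cov g).f j)) x)
      exact this
    have hmem : g (a : Y) ∈ (i : S.affineOpens).1 ⊓ (j : S.affineOpens).1 :=
      ⟨a.2, by rw [hab]; exact b.2⟩
    obtain ⟨_, ⟨k, rfl⟩, hk, hle⟩ := Opens.isBasis_iff_nbhd.mp
      (by simpa using S.isBasis_affineOpens :
        Opens.IsBasis (Set.range (fun U : S.affineOpens => (U : S.Opens)))) hmem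
    refine ⟨k, homOfLE (hle.trans inf_le_left), homOfLE (hle.trans inf_le_right),
      (⟨(a : Y), hk⟩ : ↥(g ⁻¹ᵁ k.1)), ?_⟩
    apply (pullback.fst ((cov g).f i) ((cov g).f j) ≫ (cov g).f i).isOpenEmbedding.injective
    rw [← Scheme.Hom.comp_apply, pullback.lift_fst_assoc]
    show ((Y.homOfLE _ ≫ (g ⁻¹ᵁ (i : S.affineOpens).1).ι) (⟨(a : Y), hk⟩ : ↥(g ⁻¹ᵁ k.1)) : Y) =
      ((g ⁻¹ᵁ (i : S.affineOpens).1).ι a : Y)
    rw [Scheme.homOfLE_ι]
    rfl
  property_trans {i j} hij := by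
    show IsOpenImmersion (Y.homOfLE _)
    infer_instance

/-- `ω` on sections over `U`. -/
noncomputable def ωU (ω : AffAlg.alg f ⟶ AffAlg.alg g) (U : S.Opens) :
    Γ(X, f ⁻¹ᵁ U) ⟶ Γ(Y, g ⁻¹ᵁ U) := ω.app (op U)

lemma ωU_naturality (ω : AffAlg.alg f ⟶ AffAlg.alg g) {U' U : S.Opens} (h : U' ≤ U) :
    X.presheaf.map (homOfLE (Scheme.Hom.preimage_mono f h)).op ≫ ωU f g ω U' =
      ωU f g ω U ≫ Y.presheaf.map (homOfLE (Scheme.Hom.preimage_mono g h)).op :=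
  ω.naturality (homOfLE h).op

lemma algHom_app (h : Y ⟶ X) (w : h ≫ f = g) (U : S.Opens) :
    (AffAlg.algHom f g h w).app (op U) =
      h.appLE (f ⁻¹ᵁ U) (g ⁻¹ᵁ U) (by subst w; exact le_rfl) := by
  subst w
  simp [AffAlg.algHom, Scheme.Hom.appLE]
  rfl

variable [IsAffineHom f]

/-- The local pieces of the morphism attached to `ω`. -/
noncomputable def piece (ω : AffAlg.alg f ⟶ AffAlg.alg g) (U : S.affineOpens) :
    ↑(g ⁻¹ᵁ U.1) ⟶ X :=
  (g ⁻¹ᵁ U.1).toSpecΓ ≫ Spec.map (ωU f g ω U.1) ≫ (U.2.preimage f).fromSpec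

lemma piece_compat (ω : AffAlg.alg f ⟶ AffAlg.alg g) {i j : S.affineOpens} (hij : i.1 ≤ j.1) :
    Y.homOfLE (Scheme.Hom.preimage_mono g hij) ≫ piece f g ω j = piece f g ω i := by
  unfold piece
  rw [← Scheme.Opens.toSpecΓ_SpecMap_presheaf_map_assoc, ← Spec.map_comp_assoc,
    ← ωU_naturality f g ω hij, Spec.map_comp_assoc, IsAffineOpen.map_fromSpec]

/-- The morphism attached to `ω`. -/
noncomputable def glued (ω : AffAlg.alg f ⟶ AffAlg.alg g) : Y ⟶ X :=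
  (cov g).glueMorphismsOfLocallyDirected (piece f g ω)
    (fun {i j} hij => piece_compat f g ω (i := i) (j := j) (leOfHom hij))

lemma ι_glued (ω : AffAlg.alg f ⟶ AffAlg.alg g) (U : S.affineOpens) :
    (g ⁻¹ᵁ U.1).ι ≫ glued f g ω = piece f g ω U :=
  (cov g).map_glueMorphismsOfLocallyDirected (piece f g ω)
    (fun {i j} hij => piece_compat f g ω (i := i) (j := j) (leOfHom hij)) U

lemma glued_comp (ω : AffAlg.alg f ⟶ AffAlg.alg g) (hω : f.c ≫ ω = g.c) :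
    glued f g ω ≫ f = g := by
  apply (cov g).hom_ext
  intro (U : S.affineOpens)
  show (g ⁻¹ᵁ U.1).ι ≫ glued f g ω ≫ f = (g ⁻¹ᵁ U.1).ι ≫ g
  rw [← Category.assoc, ι_glued, ι_comp_eq g U.2 (g ⁻¹ᵁ U.1) le_rfl]
  unfold piece
  simp only [Category.assoc]
  rw [← IsAffineOpen.SpecMap_appLE_fromSpec f U.2 (U.2.preimage f) le_rfl, ← Spec.map_comp_assoc]
  congr 3
  have := congr($(hω).app (op U.1))
  rw [← Scheme.Hom.app_eq_appLE, ← Scheme.Hom.app_eq_appLE]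
  exact this

lemma appLE_glued (ω : AffAlg.alg f ⟶ AffAlg.alg g) (U : S.affineOpens)
    (e : g ⁻¹ᵁ U.1 ≤ (glued f g ω) ⁻¹ᵁ (f ⁻¹ᵁ U.1)) :
    (glued f g ω).appLE (f ⁻¹ᵁ U.1) (g ⁻¹ᵁ U.1) e = ωU f g ω U.1 := by
  have h1 := ι_glued f g ω U
  rw [ι_comp_eq (glued f g ω) (U.2.preimage f) (g ⁻¹ᵁ U.1) e] at h1
  unfold piece at h1
  rw [← Category.assoc, ← Category.assoc, cancel_mono] at h1
  exact toSpecΓ_SpecMap_injective _ _ _ h1

theorem bijective : Function.Bijective (AffAlg.algOf f g) := by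
  have hbasis : Opens.IsBasis (Set.range (fun U : S.affineOpens => (U : S.Opens))) := by
    simpa using S.isBasis_affineOpens
  constructor
  · rintro ⟨h₁, w₁⟩ ⟨h₂, w₂⟩ he
    have he' : AffAlg.algHom f g h₁ w₁ = AffAlg.algHom f g h₂ w₂ := congrArg Subtype.val he
    apply Subtype.ext
    show h₁ = h₂
    apply (cov g).hom_ext
    intro (U : S.affineOpens)
    show (g ⁻¹ᵁ U.1).ι ≫ h₁ = (g ⁻¹ᵁ U.1).ι ≫ h₂
    have e₁ : g ⁻¹ᵁ U.1 ≤ h₁ ⁻¹ᵁ (f ⁻¹ᵁ U.1) := by subst w₁; exact le_rfl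
    have e₂ : g ⁻¹ᵁ U.1 ≤ h₂ ⁻¹ᵁ (f ⁻¹ᵁ U.1) := by subst w₂; exact le_rfl
    rw [ι_comp_eq h₁ (U.2.preimage f) _ e₁, ι_comp_eq h₂ (U.2.preimage f) _ e₂]
    have := congr($(he').app (op U.1))
    rw [algHom_app, algHom_app] at this
    rw [this]
  · rintro ⟨ω, hω⟩
    refine ⟨⟨glued f g ω, glued_comp f g ω hω⟩, ?_⟩
    apply Subtype.ext
    show AffAlg.algHom f g (glued f g ω) (glued_comp f g ω hω) = ω
    refine TopCat.Sheaf.hom_ext (AffAlg.alg f)
      ⟨AffAlg.alg g, TopCat.Sheaf.pushforward_sheaf_of_sheaf _ Y.sheaf.2⟩ hbasis ?_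
    intro U
    rw [algHom_app]
    exact appLE_glued f g ω U _

end Groth.Agent.AffAlgLib
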