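import Groth.Agent.Lib.FlatBC3_helper8
import Groth.Agent.Lib.QCohCrit2_helper9
import Mathlib
set_option autoImplicit false
open CategoryTheory AlgebraicGeometry Opposite TopologicalSpace TensorProduct
open AlgebraicGeometry.Scheme.Modules
universe u
namespace AffBCH8

section
variable {X S X' S' : Scheme.{u}} {f : X ⟶ S} {g : S' ⟶ S} {g' : X' ⟶ X} {f' : X' ⟶ S'}
  (hc : IsPullback g' f' f g) (M : X.Modules)

/-- The map `f_* M ⟶ g_* f'_* g'^* M` adjoint to the base change map. -/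
noncomputable def bcFlat : (Scheme.Modules.pushforward f).obj M ⟶
    (Scheme.Modules.pushforward g).obj ((Scheme.Modules.pushforward f').obj
      ((Scheme.Modules.pullback g').obj M)) :=
  (Scheme.Modules.pushforward f).map ((pullbackPushforwardAdjunction g').unit.app M) ≫
    (pushforwardComp g' f).hom.app _ ≫ (pushforwardCongr hc.w).hom.app _ ≫
      (pushforwardComp f' g).inv.app _

/-- The base change map `g^* f_* M ⟶ f'_* g'^* M`. -/
noncomputable def bc : (Scheme.Modules.pullback g).obj ((Scheme.Modules.pushforward f).obj M) ⟶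
    (Scheme.Modules.pushforward f').obj ((Scheme.Modules.pullback g').obj M) :=
  ((pullbackPushforwardAdjunction g).homEquiv _ _).symm (bcFlat hc M)

lemma unit_bc : (pullbackPushforwardAdjunction g).unit.app _ ≫
    (Scheme.Modules.pushforward g).map (bc hc M) = bcFlat hc M := by
  have h1 := (pullbackPushforwardAdjunction g).homEquiv_unit (f := bc hc M)
  rw [← h1]
  exact Equiv.apply_symm_apply _ _

lemma bcFlat_app (W : S.Opens) (n : Γ(M, f ⁻¹ᵁ W)) :
    (bcFlat hc M).app W n =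
      PBH8.cUV g' M (show f' ⁻¹ᵁ (g ⁻¹ᵁ W) ≤ g' ⁻¹ᵁ (f ⁻¹ᵁ W) from by
        intro x hx
        show f (g' x) ∈ W
        have : f (g' x) = g (f' x) := by
          rw [← Scheme.Hom.comp_apply, ← Scheme.Hom.comp_apply, hc.w]
        rw [this]; exact hx) n := by
  rfl

lemma bc_cUV {W : S.Opens} {W' : S'.Opens} (hW'W : W' ≤ g ⁻¹ᵁ W) (n : Γ(M, f ⁻¹ᵁ W))
    (h' : f' ⁻¹ᵁ W' ≤ g' ⁻¹ᵁ (f ⁻¹ᵁ W)) :
    (bc hc M).app W' (PBH8.cUV g ((Scheme.Modules.pushforward f).obj M) hW'W n) =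
      PBH8.cUV g' M h' n := by
  have h0 : f' ⁻¹ᵁ (g ⁻¹ᵁ W) ≤ g' ⁻¹ᵁ (f ⁻¹ᵁ W) := by
    intro x hx
    show f (g' x) ∈ W
    have : f (g' x) = g (f' x) := by
      rw [← Scheme.Hom.comp_apply, ← Scheme.Hom.comp_apply, hc.w]
    rw [this]; exact hx
  unfold PBH8.cUV
  rw [QCohCrit.app_naturality (bc hc M) (homOfLE hW'W)]
  have h1 : (bc hc M).app (g ⁻¹ᵁ W) (((pullbackPushforwardAdjunction g).unit.app
      ((Scheme.Modules.pushforward f).obj M)).app W n) = (bcFlat hc M).app W n :=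
    congrArg (fun ψ => (Scheme.Modules.Hom.app ψ W) n) (unit_bc hc M)
  rw [h1, bcFlat_app]
  have h2 := PBH8.cUV_res g' M h0 (show f' ⁻¹ᵁ W' ≤ f' ⁻¹ᵁ (g ⁻¹ᵁ W) from fun x hx => hW'W hx) n
  unfold PBH8.cUV at h2
  exact h2

end
end AffBCH8
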