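import Mathlib

/-!
# Sheaves on the affine Zariski site from binary standard covers (helper3)

A presheaf of sets on `X.AffineZariskiSite` which sends empty affine opens to a singleton and
satisfies the sheaf condition for every binary standard cover `U = D(f) ∪ D(g)` is a sheaf for
`AffineZariskiSite.grothendieckTopology X`.
-/

set_option autoImplicit false
set_option linter.all false
set_option maxHeartbeats 1600000

universe u

open CategoryTheory AlgebraicGeometry TopologicalSpace Opposite
open AlgebraicGeometry.Scheme.AffineZariskiSite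

namespace Groth.Agent.Lib.AffBasisSheafH3

variable {X : Scheme.{u}}

/-- restriction of functions along an arrow of the affine Zariski site -/
noncomputable abbrev rho {U' U : X.AffineZariskiSite} (h : U' ⟶ U) :
    Γ(X, U.toOpens) →+* Γ(X, U'.toOpens) :=
  (X.presheaf.map (homOfLE (toOpens_mono h.le)).op).hom

lemma basicOpen_rho {U' U : X.AffineZariskiSite} (h : U' ⟶ U) (f : Γ(X, U.toOpens)) :
    X.basicOpen (rho h f) = U'.toOpens ⊓ X.basicOpen f :=
  Scheme.basicOpen_res _ _ _

lemma basicOpen_rho_le {U' U : X.AffineZariskiSite} (h : U' ⟶ U) (f : Γ(X, U.toOpens)) :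
    U'.basicOpen (rho h f) ≤ U.basicOpen f := by
  obtain ⟨r, hr⟩ := h.le
  have e1 : X.basicOpen (X.presheaf.map (homOfLE (X.basicOpen_le f)).op r) =
      X.basicOpen f ⊓ X.basicOpen r := Scheme.basicOpen_res _ _ _
  have e2 : X.basicOpen (rho h f) = U'.toOpens ⊓ X.basicOpen f := basicOpen_rho h f
  exact ⟨X.presheaf.map (homOfLE (X.basicOpen_le f)).op r, e1.trans (by
    show X.basicOpen f ⊓ X.basicOpen r = X.basicOpen (rho h f)
    rw [e2, hr, inf_comm])⟩

/-- The coverage generated by the empty cover of empty affines and binary standard covers. -/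
def cov (X : Scheme.{u}) : Coverage X.AffineZariskiSite where
  coverings U := {R | ∃ s : Set Γ(X, U.toOpens), (s = ∅ ∨ ∃ f g, s = {f, g}) ∧
    Ideal.span s = ⊤ ∧ R = presieveOfSections U s}
  pullback := by
    rintro U U' h S ⟨s, hs, hspan, rfl⟩
    refine ⟨presieveOfSections U' (rho h '' s), ⟨rho h '' s, ?_, ?_, rfl⟩, ?_⟩
    · rcases hs with rfl | ⟨f, g, rfl⟩
      · left; simp
      · right; exact ⟨rho h f, rho h g, by simp [Set.image_pair]⟩
    · rw [← Ideal.map_span, hspan, Ideal.map_top]
    · rintro Z g' ⟨f', ⟨f, hf, rfl⟩, hZ⟩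
      obtain rfl : U'.basicOpen (rho h f) = Z := toOpens_injective hZ
      exact ⟨U.basicOpen f, homOfLE (basicOpen_rho_le h f), homOfLE (U.basicOpen_le f),
        ⟨f, hf, rfl⟩, Subsingleton.elim _ _⟩

lemma mem_cov_empty (U : X.AffineZariskiSite) (h : Ideal.span (∅ : Set Γ(X, U.toOpens)) = ⊤) :
    presieveOfSections U (∅ : Set Γ(X, U.toOpens)) ∈ (cov X) U :=
  ⟨∅, Or.inl rfl, h, rfl⟩

lemma mem_cov_pair (U : X.AffineZariskiSite) (f g : Γ(X, U.toOpens))
    (h : Ideal.span ({f, g} : Set Γ(X, U.toOpens)) = ⊤) :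
    presieveOfSections U ({f, g} : Set Γ(X, U.toOpens)) ∈ (cov X) U :=
  ⟨{f, g}, Or.inr ⟨f, g, rfl⟩, h, rfl⟩

open Classical in
/-- Every finite standard cover is covering for the topology generated by `cov`. -/
theorem sat (n : ℕ) : ∀ (U : X.AffineZariskiSite) (t : Finset Γ(X, U.toOpens)), t.card ≤ n →
    Ideal.span (t : Set Γ(X, U.toOpens)) = ⊤ →
    Sieve.generate (presieveOfSections U (t : Set Γ(X, U.toOpens))) ∈ (cov X).toGrothendieck U := by
  induction n with
  | zero =>
    intro U t ht hspan
    have : t = ∅ := Finset.card_eq_zero.mp (Nat.le_zero.mp ht)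
    subst this
    rw [Finset.coe_empty] at hspan ⊢
    exact Coverage.Saturate.of _ _ (mem_cov_empty U hspan)
  | succ n ih =>
    intro U t ht hspan
    rcases t.eq_empty_or_nonempty with rfl | ⟨f₀, hf₀⟩
    · rw [Finset.coe_empty] at hspan ⊢
      exact Coverage.Saturate.of _ _ (mem_cov_empty U hspan)
    set t' := t.erase f₀ with ht'
    have htins : (t : Set Γ(X, U.toOpens)) = insert f₀ (t' : Set Γ(X, U.toOpens)) := by
      rw [ht', Finset.coe_erase, Set.insert_diff_singleton, Set.insert_eq_of_mem]
      exact hf₀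
    have hcard : t'.card ≤ n := by
      rw [ht', Finset.card_erase_of_mem hf₀]
      omega
    have h1 : (1 : Γ(X, U.toOpens)) ∈ Ideal.span (insert f₀ (t' : Set Γ(X, U.toOpens))) := by
      rw [← htins, hspan]; trivial
    obtain ⟨a, g, hg, hag⟩ := Ideal.mem_span_insert.mp h1
    have hpair : Ideal.span ({f₀, g} : Set Γ(X, U.toOpens)) = ⊤ := by
      rw [Ideal.eq_top_iff_one, hag]
      exact Ideal.add_mem _ (Ideal.mul_mem_left _ _ (Ideal.subset_span (by simp)))
        (Ideal.subset_span (by simp))
    have hB := Coverage.Saturate.of _ _ (mem_cov_pair U f₀ g hpair)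
    refine (cov X).toGrothendieck.transitive hB _ ?_
    rintro Y h ⟨W, i, e, ⟨f', hf', hW⟩, rfl⟩
    rcases hf' with rfl | hf'
    · -- the arrow factors through `D(f₀)`, a member of the sieve
      have : (Sieve.generate (presieveOfSections U (t : Set Γ(X, U.toOpens)))) (i ≫ e) :=
        ⟨W, i, e, ⟨f', hf₀, hW⟩, rfl⟩
      rw [Sieve.pullback_eq_top_of_mem _ this]
      exact (cov X).toGrothendieck.top_mem _
    · have hf'g : f' = g := hf'
      subst hf'g
      rw [Sieve.pullback_comp]
      apply (cov X).toGrothendieck.pullback_stable i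
      obtain rfl : U.basicOpen f' = W := toOpens_injective hW
      have hunit : IsUnit (rho e f') := RingedSpace.isUnit_res_basicOpen _ f'
      have hspan' : Ideal.span ((t'.image (rho e) : Finset _) : Set Γ(X, (U.basicOpen f').toOpens))
          = ⊤ := by
        rw [Finset.coe_image, ← Ideal.map_span]
        exact Ideal.eq_top_of_isUnit_mem _ (Ideal.mem_map_of_mem _ hg) hunit
      have hIH := ih (U.basicOpen f') (t'.image (rho e)) (Finset.card_image_le.trans hcard) hspan'
      refine (cov X).toGrothendieck.superset_covering ?_ hIH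
      rintro Z k ⟨Z', i', e', ⟨f'', hf'', hZ'⟩, rfl⟩
      rw [Finset.coe_image] at hf''
      obtain ⟨f, hf, rfl⟩ := hf''
      have hft : f ∈ (t : Set Γ(X, U.toOpens)) := by
        rw [htins]; exact Set.mem_insert_of_mem _ hf
      obtain rfl : (U.basicOpen f').basicOpen (rho e f) = Z' := toOpens_injective hZ'
      exact ⟨U.basicOpen f, homOfLE (i'.le.trans (basicOpen_rho_le e f)),
        homOfLE (U.basicOpen_le f), ⟨f, hft, rfl⟩, Subsingleton.elim _ _⟩

theorem le_toGrothendieck : grothendieckTopology X ≤ (cov X).toGrothendieck := by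
  intro U S hS
  rw [mem_grothendieckTopology_iff_sectionsOfPresieve, Ideal.span_eq_top_iff_finite] at hS
  obtain ⟨t, hts, hspan⟩ := hS
  refine (cov X).toGrothendieck.superset_covering ?_ (sat t.card U t le_rfl hspan)
  rw [Sieve.generate_le_iff]
  rintro Z h ⟨f, hf, hZ⟩
  have h1 : S.arrows (homOfLE (U.basicOpen_le f)) := hts hf
  obtain rfl : U.basicOpen f = Z := toOpens_injective hZ
  exact (Subsingleton.elim (homOfLE (U.basicOpen_le f)) h) ▸ h1

end Groth.Agent.Lib.AffBasisSheafH3
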