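import Mathlib
import Groth.Agent.Lib.AffBasisSheaf1_helper3

/-!
# Sheaves on the affine Zariski site from binary standard covers, part 2 (helper3)
-/

set_option autoImplicit false
set_option linter.all false
set_option maxHeartbeats 1600000

universe u

open CategoryTheory AlgebraicGeometry TopologicalSpace Opposite
open AlgebraicGeometry.Scheme.AffineZariskiSite

namespace Groth.Agent.Lib.AffBasisSheafH3

variable {X : Scheme.{u}}

lemma basicOpen_mul_le_left (U : X.AffineZariskiSite) (f g : Γ(X, U.toOpens)) :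
    U.basicOpen (f * g) ≤ U.basicOpen f := by
  have e1 : X.basicOpen (X.presheaf.map (homOfLE (X.basicOpen_le f)).op g) =
      X.basicOpen f ⊓ X.basicOpen g := Scheme.basicOpen_res _ _ _
  exact ⟨X.presheaf.map (homOfLE (X.basicOpen_le f)).op g, e1.trans (X.basicOpen_mul f g).symm⟩

lemma basicOpen_mul_le_right (U : X.AffineZariskiSite) (f g : Γ(X, U.toOpens)) :
    U.basicOpen (f * g) ≤ U.basicOpen g := by
  have e1 : X.basicOpen (X.presheaf.map (homOfLE (X.basicOpen_le g)).op f) =
      X.basicOpen g ⊓ X.basicOpen f := Scheme.basicOpen_res _ _ _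
  exact ⟨X.presheaf.map (homOfLE (X.basicOpen_le g)).op f,
    e1.trans ((inf_comm _ _).trans (X.basicOpen_mul f g).symm)⟩

/-- The binary sheaf condition on a presheaf on the affine Zariski site. -/
structure BinaryCond (F' : X.AffineZariskiSiteᵒᵖ ⥤ Type u) : Prop where
  empty : ∀ U : X.AffineZariskiSite, U.toOpens = ⊥ →
    Nonempty (F'.obj (op U)) ∧ Subsingleton (F'.obj (op U))
  inj : ∀ (U : X.AffineZariskiSite) (f g : Γ(X, U.toOpens)),
    Ideal.span ({f, g} : Set Γ(X, U.toOpens)) = ⊤ → ∀ s t : F'.obj (op U),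
      F'.map (homOfLE (U.basicOpen_le f)).op s = F'.map (homOfLE (U.basicOpen_le f)).op t →
      F'.map (homOfLE (U.basicOpen_le g)).op s = F'.map (homOfLE (U.basicOpen_le g)).op t → s = t
  glue : ∀ (U : X.AffineZariskiSite) (f g : Γ(X, U.toOpens)),
    Ideal.span ({f, g} : Set Γ(X, U.toOpens)) = ⊤ →
    ∀ (a : F'.obj (op (U.basicOpen f))) (b : F'.obj (op (U.basicOpen g))),
      F'.map (homOfLE (basicOpen_mul_le_left U f g)).op a =
        F'.map (homOfLE (basicOpen_mul_le_right U f g)).op b →
      ∃ s : F'.obj (op U), F'.map (homOfLE (U.basicOpen_le f)).op s = a ∧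
        F'.map (homOfLE (U.basicOpen_le g)).op s = b

theorem isSheaf_of_binaryCond (F' : X.AffineZariskiSiteᵒᵖ ⥤ Type u) (h : BinaryCond F') :
    Presieve.IsSheaf (grothendieckTopology X) F' := by
  refine Presieve.isSheaf_of_le F' le_toGrothendieck
    ((Presieve.isSheaf_coverage (cov X) F').mpr ?_)
  rintro U R ⟨s, hs, hspan, rfl⟩
  rcases hs with rfl | ⟨f, g, rfl⟩
  · -- empty cover
    have h10 : (1 : Γ(X, U.toOpens)) = 0 := by
      have h1 : (1 : Γ(X, U.toOpens)) ∈ Ideal.span (∅ : Set Γ(X, U.toOpens)) := by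
        rw [hspan]; trivial
      simpa using h1
    have hU : U.toOpens = ⊥ := by
      rw [← X.basicOpen_one (U := U.toOpens), h10, X.basicOpen_zero]
    obtain ⟨⟨t⟩, hsub⟩ := h.empty U hU
    intro x hx
    refine ⟨t, ?_, fun _ _ => Subsingleton.elim _ _⟩
    rintro Z k ⟨f, hf, -⟩
    exact hf.elim
  · -- binary cover
    intro x hx
    have hf : presieveOfSections U ({f, g} : Set Γ(X, U.toOpens))
        (homOfLE (U.basicOpen_le f)) := ⟨f, by simp, rfl⟩
    have hg : presieveOfSections U ({f, g} : Set Γ(X, U.toOpens))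
        (homOfLE (U.basicOpen_le g)) := ⟨g, by simp, rfl⟩
    have hcomp := hx (homOfLE (basicOpen_mul_le_left U f g))
      (homOfLE (basicOpen_mul_le_right U f g)) hf hg (Subsingleton.elim _ _)
    obtain ⟨s, hsa, hsb⟩ := h.glue U f g hspan _ _ hcomp
    refine ⟨s, ?_, ?_⟩
    · rintro Z k ⟨f', hf', hZ⟩
      rcases hf' with rfl | hf'
      · obtain rfl : U.basicOpen f' = Z := toOpens_injective hZ
        obtain rfl : homOfLE (U.basicOpen_le f') = k := Subsingleton.elim _ _
        exact hsa
      · have : f' = g := hf'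
        subst this
        obtain rfl : U.basicOpen f' = Z := toOpens_injective hZ
        obtain rfl : homOfLE (U.basicOpen_le f') = k := Subsingleton.elim _ _
        exact hsb
    · intro t ht
      exact h.inj U f g hspan t s ((ht _ hf).trans hsa.symm) ((ht _ hg).trans hsb.symm)

end Groth.Agent.Lib.AffBasisSheafH3
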