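import Mathlib
import Groth.Agent.Lib.AffBasisSheaf2_helper3

/-!
# Sheaves on the affine basis (all inclusions) from binary standard covers, part 3 (helper3)
-/

set_option autoImplicit false
set_option linter.all false
set_option maxHeartbeats 1600000

universe u

open CategoryTheory AlgebraicGeometry TopologicalSpace Opposite
open AlgebraicGeometry.Scheme.AffineZariskiSite

namespace Groth.Agent.Lib.AffBasisSheafH3

variable (X : Scheme.{u})

/-- The (non-full) functor from Mathlib's affine Zariski site to the poset of affine opens. -/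
def Phi : X.AffineZariskiSite ⥤ X.affineOpens :=
  Monotone.functor (f := fun U : X.AffineZariskiSite => (⟨U.1, U.2⟩ : X.affineOpens))
    (fun _ _ h => toOpens_mono h)

/-- The inclusion of the poset of affine opens into all opens. -/
abbrev iotaB : X.affineOpens ⥤ X.Opens :=
  Monotone.functor (f := fun U : X.affineOpens => (U : X.Opens)) (fun _ _ h => h)

/-- affine open as an object of the affine Zariski site -/
abbrev toAZS (U : X.affineOpens) : X.AffineZariskiSite := ⟨U.1, U.2⟩

variable {X}

/-- The hypotheses (a), (b) of the criterion. -/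
def Cond (F : (X.affineOpens)ᵒᵖ ⥤ Type u) (E : X.affineOpens) : Prop :=
  (Nonempty (F.obj (op E)) ∧ Subsingleton (F.obj (op E))) ∧
    ∀ (U V W VW : X.affineOpens) (f g : Γ(X, (U : X.Opens))),
      (V : X.Opens) = X.basicOpen f → (W : X.Opens) = X.basicOpen g →
      (VW : X.Opens) = X.basicOpen (f * g) → (U : X.Opens) = (V : X.Opens) ⊔ (W : X.Opens) →
      ∀ (hV : V ≤ U) (hW : W ≤ U) (h1 : VW ≤ V) (h2 : VW ≤ W),
      Function.Injective (fun s : F.obj (op U) =>
        (F.map (homOfLE hV).op s, F.map (homOfLE hW).op s)) ∧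
      Set.range (fun s : F.obj (op U) => (F.map (homOfLE hV).op s, F.map (homOfLE hW).op s)) =
        {p | F.map (homOfLE h1).op p.1 = F.map (homOfLE h2).op p.2}

theorem binaryCond_of_cond (F : (X.affineOpens)ᵒᵖ ⥤ Type u) (E : X.affineOpens)
    (hE : (E : X.Opens) = ⊥) (h : Cond F E) : BinaryCond ((Phi X).op ⋙ F) := by
  obtain ⟨ha, hb⟩ := h
  have hsup : ∀ (U : X.AffineZariskiSite) (f g : Γ(X, U.toOpens)),
      Ideal.span ({f, g} : Set Γ(X, U.toOpens)) = ⊤ →
      U.toOpens = X.basicOpen f ⊔ X.basicOpen g := by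
    intro U f g hspan
    have := iSup_basicOpen_of_span_eq_top U.toOpens _ hspan
    rw [iSup_pair] at this
    exact this.symm
  refine ⟨?_, ?_, ?_⟩
  · intro U hU
    have : (Phi X).obj U = E := Subtype.ext (hU.trans hE.symm)
    show Nonempty (F.obj (op ((Phi X).obj U))) ∧ Subsingleton (F.obj (op ((Phi X).obj U)))
    rw [this]
    exact ha
  · intro U f g hspan s t h1 h2
    have := (hb ((Phi X).obj U) ((Phi X).obj (U.basicOpen f)) ((Phi X).obj (U.basicOpen g))
      ((Phi X).obj (U.basicOpen (f * g))) f g rfl rfl rfl (hsup U f g hspan)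
      (toOpens_mono (U.basicOpen_le f)) (toOpens_mono (U.basicOpen_le g))
      (toOpens_mono (basicOpen_mul_le_left U f g)) (toOpens_mono (basicOpen_mul_le_right U f g))).1
    exact this (Prod.ext h1 h2)
  · intro U f g hspan a b hab
    have := (hb ((Phi X).obj U) ((Phi X).obj (U.basicOpen f)) ((Phi X).obj (U.basicOpen g))
      ((Phi X).obj (U.basicOpen (f * g))) f g rfl rfl rfl (hsup U f g hspan)
      (toOpens_mono (U.basicOpen_le f)) (toOpens_mono (U.basicOpen_le g))
      (toOpens_mono (basicOpen_mul_le_left U f g)) (toOpens_mono (basicOpen_mul_le_right U f g))).2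
    obtain ⟨s, hs⟩ := (Set.ext_iff.mp this (a, b)).mpr hab
    exact ⟨s, congrArg Prod.fst hs, congrArg Prod.snd hs⟩


lemma map_map_thin {C : Type*} [Category C] [Quiver.IsThin C] (P : Cᵒᵖ ⥤ Type u) {a b c : C}
    (f : a ⟶ b) (g : b ⟶ c) (h : a ⟶ c) (x : P.obj (op c)) :
    P.map f.op (P.map g.op x) = P.map h.op x := by
  have : h = f ≫ g := Subsingleton.elim _ _
  subst this
  simp

set_option backward.isDefEq.respectTransparency false in
theorem exists_sheaf (F : (X.affineOpens)ᵒᵖ ⥤ Type u) (E : X.affineOpens)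
    (hE : (E : X.Opens) = ⊥) (h : Cond F E) :
    ∃ G : TopCat.Sheaf (Type u) X.carrier, Nonempty ((iotaB X).op ⋙ G.1 ≅ F) := by
  let F' : X.AffineZariskiSiteᵒᵖ ⥤ Type u := (Phi X).op ⋙ F
  have hF' : Presieve.IsSheaf (grothendieckTopology X) F' :=
    isSheaf_of_binaryCond F' (binaryCond_of_cond F E hE h)
  let 𝓕 : Sheaf (grothendieckTopology X) (Type u) :=
    ⟨F', (isSheaf_iff_isSheaf_of_type _ _).mpr hF'⟩
  let e := sheafEquiv (X := X) (A := Type u)
  let G : TopCat.Sheaf (Type u) X.carrier := e.functor.obj 𝓕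
  let η : 𝓕 ≅ e.inverse.obj G := e.unitIso.app 𝓕
  let η' : F' ≅ (toOpensFunctor X).op ⋙ G.val := (sheafToPresheaf _ _).mapIso η
  have hnat : ∀ {W U' : X.AffineZariskiSite} (k : W ⟶ U') (x : G.val.obj (op U'.toOpens)),
      (η'.app (op W)).inv (G.val.map ((toOpensFunctor X).map k).op x) =
        F'.map k.op ((η'.app (op U')).inv x) := by
    intro W U' k x
    have := ConcreteCategory.congr_hom (η'.inv.naturality k.op) x
    rw [ConcreteCategory.comp_apply, ConcreteCategory.comp_apply] at this
    exact this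
  refine ⟨G, ⟨NatIso.ofComponents (fun U => (η'.app (op (toAZS X U.unop))).symm) ?_⟩⟩
  intro U V k
  ext x
  obtain ⟨U⟩ := U
  obtain ⟨V⟩ := V
  let U' := toAZS X U
  let V' := toAZS X V
  have hVU : V.1 ≤ U.1 := k.unop.le
  -- the sieve of affine opens which are basic opens of both `V` and `U`
  let S : Sieve V' :=
    { arrows := fun W _ => W ≤ U'
      downward_closed := fun {W W'} j hj j' => j'.le.trans hj }
  have hS : S ∈ grothendieckTopology X V' := by
    rw [mem_grothendieckTopology]
    intro y hy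
    obtain ⟨f, hfV, hyf⟩ := U.2.exists_basicOpen_le (V := V.1) ⟨y, hy⟩ (hVU hy)
    have hle : U'.basicOpen f ≤ V' := by
      have e1 : X.basicOpen (X.presheaf.map (homOfLE hVU).op f) = V.1 ⊓ X.basicOpen f :=
        Scheme.basicOpen_res _ _ _
      exact ⟨X.presheaf.map (homOfLE hVU).op f, e1.trans (inf_eq_right.mpr hfV)⟩
    exact ⟨U'.basicOpen f, homOfLE hle, U'.basicOpen_le f, hyf⟩
  refine (hF' S hS).isSeparatedFor.ext ?_
  intro W j hj
  let jU : W ⟶ U' := homOfLE hj
  have h1 := hnat j (G.val.map (homOfLE hVU).op x)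
  have h2 := hnat jU x
  have h3 : G.val.map ((toOpensFunctor X).map j).op (G.val.map (homOfLE hVU).op x) =
      G.val.map ((toOpensFunctor X).map jU).op x :=
    map_map_thin G.val ((toOpensFunctor X).map j) (homOfLE hVU) ((toOpensFunctor X).map jU) x
  have h4 : F'.map j.op (F.map k ((η'.app (op U')).inv x)) = F'.map jU.op ((η'.app (op U')).inv x) := by
    exact map_map_thin F ((Phi X).map j) k.unop ((Phi X).map jU) _
  show F'.map j.op ((η'.app (op V')).inv (G.val.map (homOfLE hVU).op x)) =
    F'.map j.op (F.map k ((η'.app (op U')).inv x))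
  rw [h4, ← h2, ← h3, h1]

end Groth.Agent.Lib.AffBasisSheafH3
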