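import Mathlib
import Groth.Agent.Lib.AffBasisSheaf3_helper3

/-!
# Sheaves on the affine basis, part 4: the restriction of a sheaf satisfies the criterion (helper3)
-/

set_option autoImplicit false
set_option linter.all false
set_option maxHeartbeats 1600000

universe u

open CategoryTheory AlgebraicGeometry TopologicalSpace Opposite

namespace Groth.Agent.Lib.AffBasisSheafH3

variable {X : Scheme.{u}}

set_option backward.isDefEq.respectTransparency false in
theorem cond_of_sheaf (F : (X.affineOpens)ᵒᵖ ⥤ Type u) (E : X.affineOpens)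
    (hE : (E : X.Opens) = ⊥) (G : TopCat.Sheaf (Type u) X.carrier)
    (e : (iotaB X).op ⋙ G.1 ≅ F) : Cond F E := by
  have hnat : ∀ {A B : X.affineOpens} (k : B ⟶ A) (y : G.1.obj (op A.1)),
      e.hom.app (op B) (G.1.map ((iotaB X).map k).op y) = F.map k.op (e.hom.app (op A) y) := by
    intro A B k y
    have := ConcreteCategory.congr_hom (e.hom.naturality k.op) y
    rw [ConcreteCategory.comp_apply, ConcreteCategory.comp_apply] at this
    exact this
  have hnat' : ∀ {A B : X.affineOpens} (k : B ⟶ A) (y : F.obj (op A)),
      e.inv.app (op B) (F.map k.op y) = G.1.map ((iotaB X).map k).op (e.inv.app (op A) y) := by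
    intro A B k y
    have := ConcreteCategory.congr_hom (e.inv.naturality k.op) y
    rw [ConcreteCategory.comp_apply, ConcreteCategory.comp_apply] at this
    exact this
  have hinvhom : ∀ (A : X.affineOpens) (y : F.obj (op A)),
      e.hom.app (op A) (e.inv.app (op A) y) = y := by
    intro A y
    have := ConcreteCategory.congr_hom (e.inv_hom_id_app (op A)) y
    rw [ConcreteCategory.comp_apply] at this
    exact this
  have hhominv : ∀ (A : X.affineOpens) (y : G.1.obj (op A.1)),
      e.inv.app (op A) (e.hom.app (op A) y) = y := by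
    intro A y
    have := ConcreteCategory.congr_hom (e.hom_inv_id_app (op A)) y
    rw [ConcreteCategory.comp_apply] at this
    exact this
  refine ⟨?_, ?_⟩
  · -- `F(E) ≅ G(⊥)` is a singleton
    obtain ⟨s, -, hs⟩ := G.existsUnique_gluing' (ι := PEmpty.{u + 1}) (fun i => i.elim)
      (E : X.Opens) (fun i => i.elim) (by rw [hE]; exact bot_le) (fun i => i.elim)
      (fun i => i.elim)
    refine ⟨⟨e.hom.app (op E) s⟩, ⟨fun a b => ?_⟩⟩
    have ha := hs (e.inv.app (op E) a) (fun i => i.elim)
    have hb := hs (e.inv.app (op E) b) (fun i => i.elim)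
    rw [← hinvhom E a, ← hinvhom E b, ha, hb]
  · intro U V W VW f g hV' hW' hVW' hU' hV hW h1 h2
    have hVWeq : (VW : X.Opens) = (V : X.Opens) ⊓ (W : X.Opens) := by
      rw [hVW', hV', hW', X.basicOpen_mul]
    refine ⟨?_, ?_⟩
    · intro s t hst
      have hs1 : F.map (homOfLE hV).op s = F.map (homOfLE hV).op t := congrArg Prod.fst hst
      have hs2 : F.map (homOfLE hW).op s = F.map (homOfLE hW).op t := congrArg Prod.snd hst
      have key : e.inv.app (op U) s = e.inv.app (op U) t := by
        refine G.eq_of_locally_eq₂ ((iotaB X).map (homOfLE hV)) ((iotaB X).map (homOfLE hW))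
          (le_of_eq hU') _ _ ?_ ?_
        · rw [← hnat', ← hnat', hs1]
        · rw [← hnat', ← hnat', hs2]
      rw [← hinvhom U s, ← hinvhom U t, key]
    · ext ⟨p1, p2⟩
      constructor
      · rintro ⟨s, hs⟩
        have e1 : p1 = F.map (homOfLE hV).op s := (congrArg Prod.fst hs).symm
        have e2 : p2 = F.map (homOfLE hW).op s := (congrArg Prod.snd hs).symm
        show F.map (homOfLE h1).op p1 = F.map (homOfLE h2).op p2
        rw [e1, e2, map_map_thin F (homOfLE h1) (homOfLE hV) (homOfLE (h1.trans hV)),
          map_map_thin F (homOfLE h2) (homOfLE hW) (homOfLE (h1.trans hV))]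
      · intro hp
        have hp' : F.map (homOfLE h1).op p1 = F.map (homOfLE h2).op p2 := hp
        let a1 := e.inv.app (op V) p1
        let a2 := e.inv.app (op W) p2
        have hagree : G.1.map ((iotaB X).map (homOfLE h1)).op a1 =
            G.1.map ((iotaB X).map (homOfLE h2)).op a2 := by
          rw [← hnat', ← hnat', hp']
        let Wf : Bool → X.Opens := fun b => if b then (V : X.Opens) else (W : X.Opens)
        let sf : ∀ b : Bool, G.1.obj (op (Wf b)) := fun b =>
          match b with
          | true => a1
          | false => a2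
        have hle : ∀ b, Wf b ≤ (U : X.Opens) := by
          intro b; cases b
          · exact hW
          · exact hV
        have hcover : (U : X.Opens) ≤ iSup Wf := by
          rw [hU', sup_le_iff]
          exact ⟨le_iSup Wf true, le_iSup Wf false⟩
        have hVW1 : (V : X.Opens) ⊓ (W : X.Opens) ≤ (VW : X.Opens) := le_of_eq hVWeq.symm
        have hWV1 : (W : X.Opens) ⊓ (V : X.Opens) ≤ (VW : X.Opens) := by
          rw [inf_comm]; exact hVW1
        have hcompat : TopCat.Presheaf.IsCompatible G.1 Wf sf := by
          intro i j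
          cases i <;> cases j
          · rfl
          · -- (W, V)
            show G.1.map (homOfLE (inf_le_left : (W : X.Opens) ⊓ (V : X.Opens) ≤ W)).op a2 =
              G.1.map (homOfLE (inf_le_right : (W : X.Opens) ⊓ (V : X.Opens) ≤ V)).op a1
            have l1 := map_map_thin G.1 (homOfLE hWV1) ((iotaB X).map (homOfLE h2))
              (homOfLE (inf_le_left : (W : X.Opens) ⊓ (V : X.Opens) ≤ W)) a2
            have l2 := map_map_thin G.1 (homOfLE hWV1) ((iotaB X).map (homOfLE h1))
              (homOfLE (inf_le_right : (W : X.Opens) ⊓ (V : X.Opens) ≤ V)) a1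
            exact l1.symm.trans ((congrArg _ hagree.symm).trans l2)
          · show G.1.map (homOfLE (inf_le_left : (V : X.Opens) ⊓ (W : X.Opens) ≤ V)).op a1 =
              G.1.map (homOfLE (inf_le_right : (V : X.Opens) ⊓ (W : X.Opens) ≤ W)).op a2
            have l1 := map_map_thin G.1 (homOfLE hVW1) ((iotaB X).map (homOfLE h1))
              (homOfLE (inf_le_left : (V : X.Opens) ⊓ (W : X.Opens) ≤ V)) a1
            have l2 := map_map_thin G.1 (homOfLE hVW1) ((iotaB X).map (homOfLE h2))
              (homOfLE (inf_le_right : (V : X.Opens) ⊓ (W : X.Opens) ≤ W)) a2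
            exact l1.symm.trans ((congrArg _ hagree).trans l2)
          · rfl
        obtain ⟨s', hs', -⟩ := G.existsUnique_gluing' Wf (U : X.Opens)
          (fun b => homOfLE (hle b)) hcover sf hcompat
        refine ⟨e.hom.app (op U) s', ?_⟩
        have q1 : F.map (homOfLE hV).op (e.hom.app (op U) s') = p1 := by
          rw [← hnat]
          have : G.1.map ((iotaB X).map (homOfLE hV)).op s' = a1 := hs' true
          rw [this]
          exact hinvhom V p1
        have q2 : F.map (homOfLE hW).op (e.hom.app (op U) s') = p2 := by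
          rw [← hnat]
          have : G.1.map ((iotaB X).map (homOfLE hW)).op s' = a2 := hs' false
          rw [this]
          exact hinvhom W p2
        exact Prod.ext q1 q2

/-- The criterion. -/
theorem main (X : Scheme.{u}) (F : (X.affineOpens)ᵒᵖ ⥤ Type u) (E : X.affineOpens)
    (hE : (E : X.Opens) = ⊥) :
    (∃ G : TopCat.Sheaf (Type u) X.carrier, Nonempty ((iotaB X).op ⋙ G.1 ≅ F)) ↔ Cond F E :=
  ⟨fun ⟨G, ⟨e⟩⟩ => cond_of_sheaf F E hE G e, fun h => exists_sheaf F E hE h⟩

end Groth.Agent.Lib.AffBasisSheafH3
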