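import Mathlib
import Groth.Prelude.Def_BlowUp2
import Groth.Prelude.Def_CurvBase
import Groth.Agent.Lib.ComapIdeal_helper4
import Groth.Agent.Lib.CartierFlat_helper9

/-!
# The affine blow-up characterisation (helper5)

`A ⊆ B`, `I ⊆ A` an ideal with `I·B ⊆ I` and `I·B = f·B` for a nonzerodivisor `f`: then
`Spec B → Spec A` is the blowing up of `I`.  Ring-level part.
-/

set_option autoImplicit false
universe u

namespace Groth.Agent.AffBlowUp

open AlgebraicGeometry CategoryTheory CategoryTheory.Limits TopologicalSpace Opposite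

section Ring

variable {A B : Type u} [CommRing A] [CommRing B] [Algebra A B]

/-- The hypotheses of the affine blow-up characterisation. -/
structure AffBl (A B : Type u) [CommRing A] [CommRing B] [Algebra A B] (I : Ideal A) (f : B) :
    Prop where
  inj : Function.Injective (algebraMap A B)
  sub : (Ideal.map (algebraMap A B) I : Set B) ⊆ algebraMap A B '' (I : Set A)
  gen : Ideal.map (algebraMap A B) I = Ideal.span {f}

variable {I : Ideal A} {f : B} (h : AffBl A B I f)

include h in
theorem exists_lift (β : B) : ∃ a ∈ I, algebraMap A B a = f * β := by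
  have : f * β ∈ Ideal.map (algebraMap A B) I := by
    rw [h.gen]; exact Ideal.mul_mem_right _ _ (Ideal.mem_span_singleton_self f)
  obtain ⟨a, ha, e⟩ := h.sub this
  exact ⟨a, ha, e⟩

/-- The element `f·β`, seen in `I ⊆ A`. -/
noncomputable def lift (β : B) : A := (exists_lift h β).choose

theorem lift_mem (β : B) : lift h β ∈ I := (exists_lift h β).choose_spec.1

theorem map_lift (β : B) : algebraMap A B (lift h β) = f * β := (exists_lift h β).choose_spec.2

theorem lift_add (β β' : B) : lift h (β + β') = lift h β + lift h β' :=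
  h.inj (by simp only [map_add, map_lift, mul_add])

theorem lift_mul (β β' : B) : lift h 1 * lift h (β * β') = lift h β * lift h β' :=
  h.inj (by simp only [map_mul, map_lift]; ring)

theorem lift_alg (a : A) : lift h (algebraMap A B a) = lift h 1 * a :=
  h.inj (by simp only [map_mul, map_lift]; ring)

theorem exists_eq_lift (a : A) (ha : a ∈ I) : ∃ β, a = lift h β := by
  have : algebraMap A B a ∈ Ideal.span {f} := by
    rw [← h.gen]; exact Ideal.mem_map_of_mem _ ha
  obtain ⟨β, hβ⟩ := Ideal.mem_span_singleton'.1 this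
  exact ⟨β, h.inj (by rw [map_lift, ← hβ, mul_comm])⟩

theorem mul_self_eq : I * I = Ideal.span {lift h 1} * I := by
  apply le_antisymm
  · rw [Ideal.mul_le]
    intro a ha a' ha'
    obtain ⟨β, rfl⟩ := exists_eq_lift h a ha
    obtain ⟨β', rfl⟩ := exists_eq_lift h a' ha'
    rw [← lift_mul]
    exact Ideal.mul_mem_mul (Ideal.mem_span_singleton_self _) (lift_mem h _)
  · refine Ideal.mul_mono_left ?_
    rw [Ideal.span_le]
    simpa using lift_mem h 1

theorem key {C : Type*} [CommRing C] (ψ : A →+* C) (t : C) (ht : t ∈ nonZeroDivisors C)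
    (hI : I.map ψ = Ideal.span {t}) :
    ψ (lift h 1) ∈ nonZeroDivisors C ∧ I.map ψ = Ideal.span {ψ (lift h 1)} := by
  have h1 : Ideal.span {t * t} = Ideal.span {ψ (lift h 1) * t} := by
    have := congrArg (Ideal.map ψ) (mul_self_eq h)
    rw [Ideal.map_mul, Ideal.map_mul, hI, Ideal.map_span, Set.image_singleton,
      Ideal.span_singleton_mul_span_singleton, Ideal.span_singleton_mul_span_singleton] at this
    exact this
  obtain ⟨c, hc⟩ : ∃ c, c * (ψ (lift h 1) * t) = t * t :=
    Ideal.mem_span_singleton'.1 (h1 ▸ Ideal.mem_span_singleton_self _)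
  have h2 : t = c * ψ (lift h 1) := by
    have h3 : (t - c * ψ (lift h 1)) * t = 0 := by
      rw [sub_mul, mul_assoc, hc, sub_self]
    exact sub_eq_zero.1 ((mem_nonZeroDivisors_iff_right.1 ht) _ h3)
  obtain ⟨d, hd⟩ : ∃ d, d * t = ψ (lift h 1) :=
    Ideal.mem_span_singleton'.1 (hI ▸ Ideal.mem_map_of_mem ψ (lift_mem h 1))
  have h3 : c * d = 1 := by
    have h4 : (c * d - 1) * t = 0 := by rw [sub_mul, one_mul, mul_assoc, hd, ← h2, sub_self]
    exact sub_eq_zero.1 ((mem_nonZeroDivisors_iff_right.1 ht) _ h4)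
  refine ⟨?_, ?_⟩
  · rw [← hd]
    exact mul_mem (IsUnit.mem_nonZeroDivisors (IsUnit.of_mul_eq_one _ (by rw [mul_comm]; exact h3))) ht
  · rw [hI]
    apply le_antisymm
    · rw [Ideal.span_singleton_le_iff_mem, h2]
      exact Ideal.mul_mem_left _ _ (Ideal.mem_span_singleton_self _)
    · rw [Ideal.span_singleton_le_iff_mem, ← hd]
      exact Ideal.mul_mem_left _ _ (Ideal.mem_span_singleton_self _)

end Ring

section Scheme

variable {A B : Type u} [CommRing A] [CommRing B] [Algebra A B] {I : Ideal A} {f : B}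
variable {Y : Scheme.{u}} (g : Y ⟶ Spec (CommRingCat.of A))

theorem le_pre (W : Y.Opens) : W ≤ g ⁻¹ᵁ ⊤ := fun _ _ => trivial

/-- The map `A → Γ(Y, W)` induced by `g : Y ⟶ Spec A`. -/
noncomputable def phi (W : Y.Opens) : A →+* Γ(Y, W) :=
  (g.appLE ⊤ W (le_pre g W)).hom.comp (Scheme.ΓSpecIso (CommRingCat.of A)).inv.hom

theorem res_phi {W W' : Y.Opens} (e : W' ≤ W) (a : A) :
    (Y.presheaf.map (homOfLE e).op).hom (phi g W a) = phi g W' a := by
  simp only [phi, RingHom.comp_apply]
  rw [← RingHom.comp_apply, ← CommRingCat.hom_comp, Scheme.Hom.appLE_map]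

theorem comap_ideal (V : Y.affineOpens) :
    ((Curv2.idealSheaf A I).comap g).ideal V = I.map (phi g V.1) := by
  rw [Groth.Agent.Lib.ComapIdeal_helper4.comap_ideal_eq g _ ⟨⊤, isAffineOpen_top _⟩ V
    (le_pre g V.1), Curv2.idealSheaf, Scheme.IdealSheafData.ofIdealTop_ideal, Ideal.map_map,
    Ideal.map_map, phi]
  congr 1

variable (h : AffBl A B I f)

include h in
theorem exists_affine_good (hc : BlowUp.IsEffCartierIdeal ((Curv2.idealSheaf A I).comap g))
    (y : Y) (W : Y.Opens) (hy : y ∈ W) :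
    ∃ V : Y.affineOpens, y ∈ V.1 ∧ V.1 ≤ W ∧
      phi g V.1 (lift h 1) ∈ nonZeroDivisors Γ(Y, V.1) ∧
      I.map (phi g V.1) = Ideal.span {phi g V.1 (lift h 1)} := by
  obtain ⟨U₀, hyU, hU₀⟩ := Groth.Agent.Lib.CartierFlat.exists_affine_principal _ hc y
  obtain ⟨V, hyV, hVle⟩ := Groth.Agent.Lib.CartierFlat.exists_affine_le y (U₀.1 ⊓ W) ⟨hyU, hy⟩
  obtain ⟨t, ht, hI⟩ := hU₀ V (hVle.trans inf_le_left)
  rw [comap_ideal] at hI
  obtain ⟨h1, h2⟩ := key h (phi g V.1) t ht hI
  exact ⟨V, hyV, hVle.trans inf_le_right, h1, h2⟩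

include h in
theorem phi_nzd (hc : BlowUp.IsEffCartierIdeal ((Curv2.idealSheaf A I).comap g)) (W : Y.Opens) :
    phi g W (lift h 1) ∈ nonZeroDivisors Γ(Y, W) := by
  rw [mem_nonZeroDivisors_iff_right]
  intro s hs
  choose V hV using fun y : W => exists_affine_good g h hc y.1 W y.2
  refine Y.sheaf.eq_of_locally_eq' (fun y : W => (V y).1) W (fun y => homOfLE (hV y).2.1) ?_ s 0
    fun y => ?_
  · intro y hy
    rw [Opens.mem_iSup]
    exact ⟨⟨y, hy⟩, (hV ⟨y, hy⟩).1⟩
  · change (Y.presheaf.map (homOfLE (hV y).2.1).op).hom s = (Y.presheaf.map _).hom 0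
    rw [map_zero]
    have h1 := congrArg (Y.presheaf.map (homOfLE (hV y).2.1).op).hom hs
    rw [map_mul, map_zero, res_phi] at h1
    exact (mem_nonZeroDivisors_iff_right.1 (hV y).2.2.1) _ h1

include h in
theorem phi_cancel (hc : BlowUp.IsEffCartierIdeal ((Curv2.idealSheaf A I).comap g)) (W : Y.Opens)
    (s s' : Γ(Y, W)) (e : phi g W (lift h 1) * s = phi g W (lift h 1) * s') : s = s' := by
  have h1 : (s - s') * phi g W (lift h 1) = 0 := by
    rw [sub_mul, mul_comm s, mul_comm s', e, sub_self]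
  exact sub_eq_zero.1 (mem_nonZeroDivisors_iff_right.1 (phi_nzd g h hc W) _ h1)

include h in
theorem existsUnique_section (hc : BlowUp.IsEffCartierIdeal ((Curv2.idealSheaf A I).comap g))
    (β : B) : ∃! s : Γ(Y, ⊤), phi g ⊤ (lift h 1) * s = phi g ⊤ (lift h β) := by
  choose V hV using fun y : Y => exists_affine_good g h hc y ⊤ trivial
  have hloc : ∀ y, ∃ s : Γ(Y, (V y).1),
      phi g (V y).1 (lift h 1) * s = phi g (V y).1 (lift h β) := by
    intro y
    have : phi g (V y).1 (lift h β) ∈ Ideal.span {phi g (V y).1 (lift h 1)} := by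
      rw [← (hV y).2.2.2]; exact Ideal.mem_map_of_mem _ (lift_mem h β)
    obtain ⟨c, hc'⟩ := Ideal.mem_span_singleton'.1 this
    exact ⟨c, by rw [mul_comm]; exact hc'⟩
  choose sf hsf using hloc
  have hcompat : TopCat.Presheaf.IsCompatible Y.sheaf.1 (fun y => (V y).1) sf := by
    intro y y'
    apply phi_cancel g h hc ((V y).1 ⊓ (V y').1)
    change phi g _ (lift h 1) * (Y.presheaf.map (homOfLE inf_le_left).op).hom (sf y) =
      phi g _ (lift h 1) * (Y.presheaf.map (homOfLE inf_le_right).op).hom (sf y')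
    conv_lhs => rw [← res_phi g (inf_le_left : (V y).1 ⊓ (V y').1 ≤ (V y).1), ← map_mul, hsf,
      res_phi]
    conv_rhs => rw [← res_phi g (inf_le_right : (V y).1 ⊓ (V y').1 ≤ (V y').1), ← map_mul, hsf,
      res_phi]
  have hcover : (⊤ : Y.Opens) ≤ iSup fun y => (V y).1 := by
    intro y _
    rw [Opens.mem_iSup]
    exact ⟨y, (hV y).1⟩
  obtain ⟨s, hs, -⟩ := Y.sheaf.existsUnique_gluing' (fun y => (V y).1) ⊤
    (fun y => homOfLE le_top) hcover sf hcompat
  refine ⟨s, ?_, fun s' hs' => phi_cancel g h hc ⊤ _ _ (hs'.trans ?_.symm)⟩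
  all_goals
    refine Y.sheaf.eq_of_locally_eq' (fun y => (V y).1) ⊤ (fun y => homOfLE le_top) hcover _ _
      fun y => ?_
    change (Y.presheaf.map (homOfLE le_top).op).hom _ = (Y.presheaf.map (homOfLE le_top).op).hom _
    rw [map_mul, res_phi, res_phi]
    have := hs y
    change (Y.presheaf.map (homOfLE le_top).op).hom s = sf y at this
    rw [this, hsf]

/-- The section `s` with `φ(a_f) s = φ(f β)`. -/
noncomputable def sec (hc : BlowUp.IsEffCartierIdeal ((Curv2.idealSheaf A I).comap g)) (β : B) :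
    Γ(Y, ⊤) := (existsUnique_section g h hc β).exists.choose

theorem sec_spec (hc : BlowUp.IsEffCartierIdeal ((Curv2.idealSheaf A I).comap g)) (β : B) :
    phi g ⊤ (lift h 1) * sec g h hc β = phi g ⊤ (lift h β) :=
  (existsUnique_section g h hc β).exists.choose_spec

theorem sec_eq (hc : BlowUp.IsEffCartierIdeal ((Curv2.idealSheaf A I).comap g)) (β : B)
    (s : Γ(Y, ⊤)) (hs : phi g ⊤ (lift h 1) * s = phi g ⊤ (lift h β)) : sec g h hc β = s :=
  phi_cancel g h hc ⊤ _ _ ((sec_spec g h hc β).trans hs.symm)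

theorem lift_zero : lift h 0 = 0 := h.inj (by rw [map_lift, mul_zero, map_zero])

/-- The ring homomorphism `B → Γ(Y, ⊤)` extending `A → Γ(Y, ⊤)`. -/
noncomputable def ringHom (hc : BlowUp.IsEffCartierIdeal ((Curv2.idealSheaf A I).comap g)) :
    B →+* Γ(Y, ⊤) where
  toFun := sec g h hc
  map_one' := sec_eq g h hc 1 1 (by rw [mul_one])
  map_mul' β β' := sec_eq g h hc _ _ (by
    apply phi_cancel g h hc ⊤
    rw [← map_mul, lift_mul, map_mul, ← sec_spec g h hc β, ← sec_spec g h hc β']
    ring)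
  map_zero' := sec_eq g h hc 0 0 (by rw [mul_zero, lift_zero, map_zero])
  map_add' β β' := sec_eq g h hc _ _ (by
    rw [mul_add, sec_spec, sec_spec, lift_add, map_add])

theorem ringHom_algebraMap (hc : BlowUp.IsEffCartierIdeal ((Curv2.idealSheaf A I).comap g))
    (a : A) : ringHom g h hc (algebraMap A B a) = phi g ⊤ a :=
  sec_eq g h hc _ _ (by rw [lift_alg, map_mul])

theorem phi_top (a : A) :
    phi g ⊤ a = g.appTop.hom ((Scheme.ΓSpecIso (CommRingCat.of A)).inv.hom a) := by
  simp [phi, Scheme.Hom.appLE, Scheme.Hom.appTop]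

theorem appTop_specMap (a : A) :
    (Spec.map (CommRingCat.ofHom (algebraMap A B))).appTop.hom
      ((Scheme.ΓSpecIso (CommRingCat.of A)).inv.hom a) =
    (Scheme.ΓSpecIso (CommRingCat.of B)).inv.hom (algebraMap A B a) := by
  have := Scheme.ΓSpecIso_inv_naturality (CommRingCat.ofHom (algebraMap A B))
  exact (congr($this a)).symm

include h in
theorem isBlowUp (hf : f ∈ nonZeroDivisors B) :
    BlowUp.IsBlowUp (Spec.map (CommRingCat.ofHom (algebraMap A B))) (Curv2.idealSheaf A I) := by
  obtain ⟨b, hb⟩ : ∃ b : Spec (CommRingCat.of B) ⟶ Spec (CommRingCat.of A),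
      b = Spec.map (CommRingCat.ofHom (algebraMap A B)) := ⟨_, rfl⟩
  rw [← hb]
  have hphib : ∀ a : A, phi b ⊤ a =
      (Scheme.ΓSpecIso (CommRingCat.of B)).inv.hom (algebraMap A B a) := by
    intro a
    rw [phi_top, hb, appTop_specMap]
  refine ⟨?_, fun Y g hc => ?_⟩
  · intro x
    refine ⟨⟨⊤, isAffineOpen_top _⟩, trivial, (Scheme.ΓSpecIso (CommRingCat.of B)).inv.hom f,
      ?_, ?_⟩
    · rw [mem_nonZeroDivisors_iff_right]
      intro s hs
      have h1 := congrArg (Scheme.ΓSpecIso (CommRingCat.of B)).hom.hom hs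
      rw [map_mul, map_zero] at h1
      have h2 : (Scheme.ΓSpecIso (CommRingCat.of B)).hom.hom
          ((Scheme.ΓSpecIso (CommRingCat.of B)).inv.hom f) = f := by
        rw [← RingHom.comp_apply, ← CommRingCat.hom_comp, Iso.inv_hom_id]; rfl
      rw [h2] at h1
      have h3 := (mem_nonZeroDivisors_iff_right.1 hf) _ h1
      have h4 := congrArg (Scheme.ΓSpecIso (CommRingCat.of B)).inv.hom h3
      rw [map_zero, ← RingHom.comp_apply, ← CommRingCat.hom_comp, Iso.hom_inv_id] at h4
      exact h4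
    · rw [comap_ideal]
      have : phi b ⊤ = ((Scheme.ΓSpecIso (CommRingCat.of B)).inv.hom).comp (algebraMap A B) :=
        RingHom.ext hphib
      rw [this, ← Ideal.map_map, h.gen, Ideal.map_span, Set.image_singleton]
  · refine ⟨Y.toSpecΓ ≫ Spec.map (CommRingCat.ofHom (ringHom g h hc)), ?_, fun H' hH' => ?_⟩
    · change (Y.toSpecΓ ≫ Spec.map (CommRingCat.ofHom (ringHom g h hc))) ≫ b = g
      rw [hb, Category.assoc, ← Spec.map_comp]
      have : CommRingCat.ofHom (algebraMap A B) ≫ CommRingCat.ofHom (ringHom g h hc) =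
          (Scheme.ΓSpecIso (CommRingCat.of A)).inv ≫ g.appTop := by
        ext a
        simp only [CommRingCat.hom_comp, CommRingCat.hom_ofHom, RingHom.comp_apply]
        rw [ringHom_algebraMap, phi_top]
      rw [this, Spec.map_comp, ← Scheme.toSpecΓ_naturality_assoc, toSpecΓ_SpecMap_ΓSpecIso_inv,
        Category.comp_id]
    · have hH'' : H' ≫ b = g := hH'
      apply ext_of_isAffine
      rw [← cancel_epi (Scheme.ΓSpecIso (CommRingCat.of B)).inv, Scheme.Hom.comp_appTop,
        ← Scheme.ΓSpecIso_inv_naturality_assoc, Scheme.toSpecΓ_appTop, Iso.inv_hom_id,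
        Category.comp_id]
      ext β
      simp only [CommRingCat.hom_comp, CommRingCat.hom_ofHom, RingHom.comp_apply]
      have hphig : ∀ a : A, phi g ⊤ a =
          H'.appTop.hom ((Scheme.ΓSpecIso (CommRingCat.of B)).inv.hom (algebraMap A B a)) := by
        intro a
        rw [phi_top, ← hH'', hb, Scheme.Hom.comp_appTop, CommRingCat.hom_comp, RingHom.comp_apply,
          appTop_specMap]
      refine (sec_eq g h hc β _ ?_).symm
      rw [hphig, hphig, map_lift, map_lift, mul_one, map_mul, map_mul]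

end Scheme

end Groth.Agent.AffBlowUp
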