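import Mathlib
import Groth.Prelude
import Groth.Agent.Lib.Desc1_helper8

/-!
# A morphism of deformations of a module over a local Artinian ring is an isomorphism (helper7)
-/

universe u

open CategoryTheory CategoryTheory.Limits AlgebraicGeometry TopologicalSpace Opposite

namespace Groth.Agent.Lib.DefoIsoH7

section Algebra

variable {A : Type*} [CommRing A] (I : Ideal A)
  {M M' : Type*} [AddCommGroup M] [AddCommGroup M'] [Module A M] [Module A M']

theorem top_le_sup_pow (f : M →ₗ[A] M')
    (h1 : (⊤ : Submodule A M') ≤ LinearMap.range f ⊔ I • (⊤ : Submodule A M')) (n : ℕ) :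
    (⊤ : Submodule A M') ≤ LinearMap.range f ⊔ I ^ n • (⊤ : Submodule A M') := by
  induction n with
  | zero =>
    rw [pow_zero, Ideal.one_eq_top, Submodule.top_smul]
    exact le_sup_right
  | succ n ih =>
    refine ih.trans (sup_le le_sup_left ?_)
    calc I ^ n • (⊤ : Submodule A M')
        ≤ I ^ n • (LinearMap.range f ⊔ I • (⊤ : Submodule A M')) := Submodule.smul_mono le_rfl h1
      _ = I ^ n • LinearMap.range f ⊔ I ^ n • I • (⊤ : Submodule A M') := Submodule.smul_sup _ _ _
      _ ≤ LinearMap.range f ⊔ I ^ (n + 1) • (⊤ : Submodule A M') := by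
          refine sup_le_sup Submodule.smul_le_right ?_
          rw [pow_succ, Submodule.mul_smul]

theorem surjective_of_nilpotent (hI : IsNilpotent I) (f : M →ₗ[A] M')
    (h1 : ∀ y : M', ∃ x : M, y - f x ∈ I • (⊤ : Submodule A M')) : Function.Surjective f := by
  obtain ⟨n, hn⟩ := hI
  have h1' : (⊤ : Submodule A M') ≤ LinearMap.range f ⊔ I • (⊤ : Submodule A M') := by
    intro y _
    obtain ⟨x, hx⟩ := h1 y
    have : y = f x + (y - f x) := by abel
    rw [this]
    exact Submodule.add_mem_sup (LinearMap.mem_range_self f x) hx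
  have h2 := top_le_sup_pow I f h1' n
  rw [hn, Ideal.zero_eq_bot, Submodule.bot_smul, sup_bot_eq] at h2
  exact LinearMap.range_eq_top.1 (top_le_iff.1 h2)

theorem ker_le_smul_ker [Module.Flat A M'] (f : M →ₗ[A] M') (hf : Function.Surjective f)
    (x : M) (hx : x ∈ I • (⊤ : Submodule A M)) (hfx : f x = 0) : x ∈ I • LinearMap.ker f := by
  have hx' : x ∈ I • Submodule.span A (Set.range (id : M → M)) := by
    rw [Set.range_id, Submodule.span_univ]; exact hx
  obtain ⟨a, ha, rfl⟩ := (Submodule.mem_ideal_smul_span_iff_exists_sum I id x).1 hx'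
  have hsum : a.sum (fun i c => c • id i) = ∑ i : a.support, a i • (i : M) := by
    rw [Finsupp.sum, ← Finset.sum_coe_sort]; rfl
  rw [hsum] at hfx ⊢
  have hrel : ∑ i : a.support, a i • f (i : M) = 0 := by
    rw [← hfx, map_sum]
    refine Finset.sum_congr rfl fun i _ => ?_
    rw [map_smul]
  obtain ⟨k, b, y, hy, hb⟩ := Module.Flat.isTrivialRelation_of_sum_smul_eq_zero hrel
  beta_reduce at hy hb
  choose z hz using fun j => hf (y j)
  have key : ∑ i : a.support, a i • (i : M) =
      ∑ i : a.support, a i • ((i : M) - ∑ j, b i j • z j) := by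
    have h0 : ∑ i : a.support, a i • ∑ j, b i j • z j = 0 := by
      calc ∑ i : a.support, a i • ∑ j, b i j • z j
          = ∑ i : a.support, ∑ j, (a i * b i j) • z j := by
            refine Finset.sum_congr rfl fun i _ => ?_
            rw [Finset.smul_sum]
            refine Finset.sum_congr rfl fun j _ => ?_
            rw [smul_smul]
        _ = ∑ j, ∑ i : a.support, (a i * b i j) • z j := Finset.sum_comm
        _ = ∑ j, (∑ i : a.support, a i * b i j) • z j := by
            refine Finset.sum_congr rfl fun j _ => ?_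
            rw [Finset.sum_smul]
        _ = 0 := by
            refine Finset.sum_eq_zero fun j _ => ?_
            rw [hb j, zero_smul]
    simp only [smul_sub, Finset.sum_sub_distrib, h0, sub_zero]
  rw [key]
  refine Submodule.sum_mem _ fun i _ => Submodule.smul_mem_smul (ha i) ?_
  rw [LinearMap.mem_ker, map_sub, map_sum, hy i, sub_eq_zero]
  refine Finset.sum_congr rfl fun j _ => ?_
  rw [map_smul, hz]

theorem bijective_of_flat_of_nilpotent (hI : IsNilpotent I) [Module.Flat A M'] (f : M →ₗ[A] M')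
    (h1 : ∀ y : M', ∃ x : M, y - f x ∈ I • (⊤ : Submodule A M'))
    (h2 : ∀ x : M, f x ∈ I • (⊤ : Submodule A M') → x ∈ I • (⊤ : Submodule A M)) :
    Function.Bijective f := by
  have hs := surjective_of_nilpotent I hI f h1
  refine ⟨?_, hs⟩
  rw [← LinearMap.ker_eq_bot]
  have hK : LinearMap.ker f ≤ I • LinearMap.ker f := by
    intro x hx
    rw [LinearMap.mem_ker] at hx
    exact ker_le_smul_ker I f hs x (h2 x (by rw [hx]; exact zero_mem _)) hx
  have hKn : ∀ n : ℕ, LinearMap.ker f ≤ I ^ n • LinearMap.ker f := by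
    intro n
    induction n with
    | zero => rw [pow_zero, Ideal.one_eq_top, Submodule.top_smul]
    | succ n ih =>
      calc LinearMap.ker f ≤ I ^ n • LinearMap.ker f := ih
        _ ≤ I ^ n • (I • LinearMap.ker f) := Submodule.smul_mono le_rfl hK
        _ = I ^ (n + 1) • LinearMap.ker f := by rw [pow_succ, Submodule.mul_smul]
  obtain ⟨n, hn⟩ := hI
  have := hKn n
  rw [hn, Ideal.zero_eq_bot, Submodule.bot_smul] at this
  exact le_bot_iff.1 this

end Algebra

section Sheaf

variable {k : Type u} [Field k] {X : Scheme.{u}} [X.Over (Spec (CommRingCat.of k))]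
  {E : X.Modules} {A : ArtFun.Art k k}

theorem main (D D' : DefoSh.Defo E A) (φ : D.sheaf ⟶ D'.sheaf)
    (hact : ∀ a : A, D.act a ≫ φ = φ ≫ D'.act a) (hπ : φ ≫ D'.π = D.π) : IsIso φ := by
  refine DescH8.isIso_of_stk_bijective φ (fun p => ?_)
  letI i1 : Module A ↑(D.sheaf.presheaf.stalk p) := D.stalkMod p
  letI i2 : Module A ↑(D'.sheaf.presheaf.stalk p) := D'.stalkMod p
  haveI : Module.Flat A ↑(D'.sheaf.presheaf.stalk p) := D'.flat p
  have hnil : IsNilpotent (IsLocalRing.maximalIdeal A) := by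
    rw [← IsLocalRing.jacobson_eq_maximalIdeal (⊥ : Ideal A) bot_ne_top]
    exact IsArtinianRing.isNilpotent_jacobson_bot
  let f : ↑(D.sheaf.presheaf.stalk p) →ₗ[A] ↑(D'.sheaf.presheaf.stalk p) :=
    { toFun := fun v => RefHull.stalkMapₗ φ p v
      map_add' := fun v w => map_add _ v w
      map_smul' := fun a v => by
        change RefHull.stalkMapₗ φ p (RefHull.stalkMapₗ (D.act a) p v) =
          RefHull.stalkMapₗ (D'.act a) p (RefHull.stalkMapₗ φ p v)
        rw [← DefoSh.stalkMapₗ_comp_apply, ← DefoSh.stalkMapₗ_comp_apply, hact] }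
  have hf : ∀ v, f v = RefHull.stalkMapₗ φ p v := fun _ => rfl
  have hm : ∀ a : A, a ∈ IsLocalRing.maximalIdeal A → ∀ v : ↑(D'.sheaf.presheaf.stalk p),
      RefHull.stalkMapₗ D'.π p (a • v) = 0 := by
    intro a ha v
    change RefHull.stalkMapₗ D'.π p (RefHull.stalkMapₗ (D'.act a) p v) = 0
    rw [← DefoSh.stalkMapₗ_comp_apply, D'.act_π a ((ArtFun.Art.mem_maximalIdeal_iff A a).1 ha),
      DefoSh.stalkMapₗ_zero_apply]
  have hsub : ∀ w : ↑(D'.sheaf.presheaf.stalk p),
      w ∈ IsLocalRing.maximalIdeal A • (⊤ : Submodule A ↑(D'.sheaf.presheaf.stalk p)) →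
      RefHull.stalkMapₗ D'.π p w = 0 := by
    intro w hw
    refine Submodule.smul_induction_on hw (fun a ha v _ => hm a ha v) (fun x y hx hy => ?_)
    rw [map_add, hx, hy, add_zero]
  have h1 : ∀ y : ↑(D'.sheaf.presheaf.stalk p), ∃ x : ↑(D.sheaf.presheaf.stalk p),
      y - f x ∈ IsLocalRing.maximalIdeal A • (⊤ : Submodule A ↑(D'.sheaf.presheaf.stalk p)) := by
    intro y
    obtain ⟨x, hx⟩ := D.surj p (RefHull.stalkMapₗ D'.π p y)
    refine ⟨x, D'.ker_le p (y - f x) ?_⟩
    rw [map_sub, sub_eq_zero, hf, ← DefoSh.stalkMapₗ_comp_apply, hπ, hx]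
  have h2 : ∀ x : ↑(D.sheaf.presheaf.stalk p),
      f x ∈ IsLocalRing.maximalIdeal A • (⊤ : Submodule A ↑(D'.sheaf.presheaf.stalk p)) →
      x ∈ IsLocalRing.maximalIdeal A • (⊤ : Submodule A ↑(D.sheaf.presheaf.stalk p)) := by
    intro x hx
    refine D.ker_le p x ?_
    have := hsub (f x) hx
    rw [hf, ← DefoSh.stalkMapₗ_comp_apply, hπ] at this
    exact this
  exact bijective_of_flat_of_nilpotent (IsLocalRing.maximalIdeal A) hnil f h1 h2

end Sheaf

end Groth.Agent.Lib.DefoIsoH7
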