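import Mathlib
import Groth.Agent.Lib.DefoIso_helper7

/-!
# Deformations over a local Artinian `k`-algebra: algebra, part 1 (helper3)

`A` a `k`-algebra with a nilpotent ideal `m` such that `A = k + m`; `B'` a flat `A`-algebra with a
surjection `α : B' → B₀` of `k`-algebras with kernel `m B'`.

* `mem_map_of_mul_mem` : flatness and colon ideals;
* `bijective_lift` : a `k`-algebra section `ρ` of `α` gives `A ⊗_k B₀ ≃ B'`;
* `exists_section_of_formallySmooth`.
-/

set_option autoImplicit false

namespace Groth.Agent.Lib.DefTrivArtH3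

universe u

open TensorProduct

section Flat

variable {A B' : Type*} [CommRing A] [CommRing B'] [Algebra A B'] [Module.Flat A B']

theorem mem_map_of_mul_mem (I' m : Ideal A) (ε : A) (hmε : ∀ a ∈ m, a * ε ∈ I')
    (hcolon : ∀ a, a * ε ∈ I' → a ∈ m) (b : B')
    (hb : algebraMap A B' ε * b ∈ I'.map (algebraMap A B')) :
    b ∈ m.map (algebraMap A B') := by
  let f : A ⧸ m →ₗ[A] A ⧸ I' :=
    Submodule.liftQ m ((Submodule.mkQ I').comp (LinearMap.toSpanSingleton A A ε)) (by
      intro a ha
      rw [LinearMap.mem_ker, LinearMap.comp_apply, LinearMap.toSpanSingleton_apply,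
        Submodule.mkQ_apply, Submodule.Quotient.mk_eq_zero, smul_eq_mul]
      exact hmε a ha)
  have hf : ∀ a : A, f (Ideal.Quotient.mk m a) = Ideal.Quotient.mk I' (a * ε) := fun a => rfl
  have hinj : Function.Injective f := by
    rw [← LinearMap.ker_eq_bot, LinearMap.ker_eq_bot']
    intro x hx
    obtain ⟨a, rfl⟩ := Ideal.Quotient.mk_surjective x
    rw [hf, Ideal.Quotient.eq_zero_iff_mem] at hx
    rw [Ideal.Quotient.eq_zero_iff_mem]
    exact hcolon a hx
  have hF := Module.Flat.lTensor_preserves_injective_linearMap (M := B') f hinj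
  have h1 : (f.lTensor B') (b ⊗ₜ (Ideal.Quotient.mk m 1)) = 0 := by
    rw [LinearMap.lTensor_tmul, hf, one_mul]
    apply (TensorProduct.tensorQuotEquivQuotSMul B' I').injective
    rw [map_zero, TensorProduct.tensorQuotEquivQuotSMul_tmul_mk, Submodule.Quotient.mk_eq_zero,
      Ideal.smul_top_eq_map, Algebra.smul_def]
    exact hb
  have h2 : b ⊗ₜ[A] (Ideal.Quotient.mk m 1) = 0 := hF (by rw [h1, map_zero])
  have h3 := congrArg (TensorProduct.tensorQuotEquivQuotSMul B' m) h2
  rw [map_zero, TensorProduct.tensorQuotEquivQuotSMul_tmul_mk, one_smul,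
    Submodule.Quotient.mk_eq_zero, Ideal.smul_top_eq_map] at h3
  exact h3

end Flat

section Core

variable {k A B' B₀ : Type*} [Field k] [CommRing A] [CommRing B'] [CommRing B₀] [Algebra k A]
  [Algebra A B'] [Algebra k B'] [IsScalarTower k A B'] [Algebra k B₀]

theorem isNilpotent_map {m : Ideal A} (hm : IsNilpotent m) :
    IsNilpotent (m.map (algebraMap A B')) := by
  obtain ⟨n, hn⟩ := hm
  exact ⟨n, by rw [← Ideal.map_pow, hn, Ideal.zero_eq_bot, Ideal.map_bot]; rfl⟩

theorem exists_section_of_formallySmooth [Algebra.FormallySmooth k B₀] (m : Ideal A)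
    (hm : IsNilpotent m) (α : B' →ₐ[k] B₀) (hα : Function.Surjective α)
    (hker : RingHom.ker (α : B' →+* B₀) = m.map (algebraMap A B')) :
    ∃ ρ : B₀ →ₐ[k] B', ∀ c, α (ρ c) = c := by
  have hnil : IsNilpotent (RingHom.ker (α : B' →+* B₀)) := by
    rw [hker]; exact isNilpotent_map hm
  exact ⟨Algebra.FormallySmooth.liftOfSurjective (AlgHom.id k B₀) α hα hnil,
    fun c => Algebra.FormallySmooth.liftOfSurjective_apply _ _ _ _ c⟩

variable [Module.Flat A B']

theorem bijective_lift (m : Ideal A) (hm : IsNilpotent m)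
    (hdecA : ∀ a : A, ∃ r : k, a - algebraMap k A r ∈ m)
    (α : B' →ₐ[k] B₀) (hker : RingHom.ker (α : B' →+* B₀) = m.map (algebraMap A B'))
    (ρ : B₀ →ₐ[k] B') (hρ : ∀ c, α (ρ c) = c) :
    Function.Bijective (Algebra.TensorProduct.lift (Algebra.ofId A B') ρ
      (fun _ _ => Commute.all _ _) : A ⊗[k] B₀ →ₐ[A] B') := by
  set τ : A ⊗[k] B₀ →ₐ[A] B' := Algebra.TensorProduct.lift (Algebra.ofId A B') ρ
    (fun _ _ => Commute.all _ _) with hτdef
  have hτ : ∀ (a : A) (c : B₀), τ (a ⊗ₜ c) = algebraMap A B' a * ρ c := fun a c => rfl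
  have hmem : ∀ y : B', y ∈ m • (⊤ : Submodule A B') ↔ α y = 0 := by
    intro y
    rw [Ideal.smul_top_eq_map, Submodule.restrictScalars_mem, ← hker, RingHom.mem_ker]
    rfl
  have hαm : ∀ a ∈ m, α (algebraMap A B' a) = 0 := by
    intro a ha
    have : algebraMap A B' a ∈ RingHom.ker (α : B' →+* B₀) := by
      rw [hker]; exact Ideal.mem_map_of_mem _ ha
    exact this
  have hdec : ∀ x : A ⊗[k] B₀,
      x - (1 : A) ⊗ₜ[k] α (τ x) ∈ m • (⊤ : Submodule A (A ⊗[k] B₀)) := by
    intro x
    induction x using TensorProduct.induction_on with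
    | zero =>
      rw [map_zero, map_zero, tmul_zero, sub_zero]
      exact zero_mem _
    | tmul a c =>
      obtain ⟨r, hr⟩ := hdecA a
      have h1 : α (τ (a ⊗ₜ c)) = r • c := by
        rw [hτ, map_mul, hρ]
        have : a = algebraMap k A r + (a - algebraMap k A r) := by ring
        rw [this, map_add, map_add, hαm _ hr, add_zero, ← IsScalarTower.algebraMap_apply,
          AlgHom.commutes, Algebra.smul_def]
      rw [h1, tmul_smul, smul_tmul', Algebra.smul_def, mul_one, ← sub_tmul]
      have : (a - algebraMap k A r) ⊗ₜ[k] c = (a - algebraMap k A r) • ((1 : A) ⊗ₜ[k] c) := by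
        rw [smul_tmul', smul_eq_mul, mul_one]
      rw [this]
      exact Submodule.smul_mem_smul hr Submodule.mem_top
    | add x y hx hy =>
      have : x + y - (1 : A) ⊗ₜ[k] α (τ (x + y)) =
          (x - (1 : A) ⊗ₜ[k] α (τ x)) + (y - (1 : A) ⊗ₜ[k] α (τ y)) := by
        rw [map_add, map_add, tmul_add]; abel
      rw [this]
      exact Submodule.add_mem _ hx hy
  refine Groth.Agent.Lib.DefoIsoH7.bijective_of_flat_of_nilpotent m hm τ.toLinearMap ?_ ?_
  · intro y
    refine ⟨(1 : A) ⊗ₜ[k] α y, ?_⟩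
    rw [hmem]
    show α (y - τ ((1 : A) ⊗ₜ[k] α y)) = 0
    rw [hτ, map_one, one_mul, map_sub, hρ, sub_self]
  · intro x hx
    have hx' : α (τ x) = 0 := (hmem _).1 hx
    have := hdec x
    rwa [hx', tmul_zero, sub_zero] at this

end Core

end Groth.Agent.Lib.DefTrivArtH3
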