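import Mathlib
import Groth.Prelude.Def_Exal
import Groth.Agent.Lib.DefTrivArt1_helper3

/-!
# First-order deformations and extensions: ring level (helper3)

Dual-number-like base `A` (`ε² = 0`, `A = k ⊕ kε`) and "deformation data" `(E', γ : A → E', α : E' → B₀)`
with `γ` flat, `α` surjective with kernel `(γ ε)`.
* `exists_ext_of_data` : the associated extension of `B` by `B`;
* `equiv_of_ringEquiv`, `ringEquiv_of_equiv` : isomorphisms of data ↔ equivalences of extensions.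
-/

set_option autoImplicit false

namespace Groth.Agent.Lib.DefDualH3

universe u

open Groth.Agent.Lib.DefTrivArtH3

section Data

variable {k B : Type u} [Field k] [CommRing B] [Algebra k B] {A : Type u} [CommRing A]
  [Algebra k A]

theorem exists_ext_of_data (res : A →ₐ[k] k) (ε : A) (h1 : ε * ε = 0) (h2 : res ε = 0)
    (h3 : ∀ a : A, ∃ r s : k, a = algebraMap k A r + ε * algebraMap k A s) (h4 : ε ≠ 0)
    {E' B₀ : Type u} [CommRing E'] [CommRing B₀] (γ : A →+* E') (α : E' →+* B₀) (θ : B ≃+* B₀)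
    (d1 : ∀ a, α (γ a) = θ (algebraMap k B (res a))) (d2 : Function.Surjective α)
    (d3 : γ.Flat) (d4 : RingHom.ker α = Ideal.span {γ ε}) :
    ∃ (E : Exal.Ext k B B) (Φ : E.E ≃+* E'),
      (∀ r : k, Φ (algebraMap k E.E r) = γ (algebraMap k A r)) ∧
      (∀ y, α (Φ y) = θ (E.proj y)) ∧ Φ (E.incl 1) = γ ε := by
  letI : Algebra k E' := (γ.comp (algebraMap k A)).toAlgebra
  letI : Algebra A E' := γ.toAlgebra
  haveI : Module.Flat A E' := d3
  let proj : E' →ₐ[k] B :=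
    { toRingHom := (θ.symm : B₀ →+* B).comp α
      commutes' := fun r => by
        show θ.symm (α (γ (algebraMap k A r))) = algebraMap k B r
        rw [d1, res.commutes, RingEquiv.symm_apply_apply]
        rfl }
  have hproj : ∀ y, proj y = θ.symm (α y) := fun y => rfl
  have hprojs : Function.Surjective proj := θ.symm.surjective.comp d2
  have hproj0 : ∀ y, proj y = 0 ↔ α y = 0 := by
    intro y
    rw [hproj, map_eq_zero_iff _ θ.symm.injective]
  have hker : ∀ y, α y = 0 ↔ ∃ c, y = c * γ ε := by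
    intro y
    rw [← RingHom.mem_ker, d4, Ideal.mem_span_singleton']
    exact ⟨fun ⟨c, hc⟩ => ⟨c, hc.symm⟩, fun ⟨c, hc⟩ => ⟨c, hc.symm⟩⟩
  have hγε2 : γ ε * γ ε = 0 := by rw [← map_mul, h1, map_zero]
  have hαγε : α (γ ε) = 0 := by rw [d1, h2, map_zero, map_zero]
  let g : E' →+ E' := AddMonoidHom.mulLeft (γ ε)
  have hgker : (proj : E' →+ B).ker ≤ g.ker := by
    intro y hy
    rw [AddMonoidHom.mem_ker] at hy ⊢
    have hy' : proj y = 0 := hy
    obtain ⟨c, rfl⟩ := (hker y).1 ((hproj0 y).1 hy')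
    show γ ε * (c * γ ε) = 0
    calc γ ε * (c * γ ε) = c * (γ ε * γ ε) := by ring
      _ = 0 := by rw [hγε2, mul_zero]
  let incl : B →+ E' :=
    AddMonoidHom.liftOfRightInverse (proj : E' →+ B) (Function.surjInv hprojs)
      (Function.rightInverse_surjInv hprojs) ⟨g, hgker⟩
  have hincl : ∀ y : E', incl (proj y) = γ ε * y := by
    intro y
    exact AddMonoidHom.liftOfRightInverse_comp_apply (proj : E' →+ B) (Function.surjInv hprojs)
      (Function.rightInverse_surjInv hprojs) ⟨g, hgker⟩ y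
  have hcolon : ∀ a : A, a * ε ∈ (⊥ : Ideal A) → a ∈ Ideal.span {ε} := by
    intro a ha
    obtain ⟨r, s, rfl⟩ := h3 a
    have ha' : (algebraMap k A r + ε * algebraMap k A s) * ε = 0 := ha
    have h5 : algebraMap k A r * ε = 0 := by
      have : (algebraMap k A r + ε * algebraMap k A s) * ε =
          algebraMap k A r * ε + algebraMap k A s * (ε * ε) := by ring
      rw [this, h1, mul_zero, add_zero] at ha'
      exact ha'
    have hr : r = 0 := by
      by_contra hr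
      apply h4
      have : ε = algebraMap k A r⁻¹ * (algebraMap k A r * ε) := by
        rw [← mul_assoc, ← map_mul, inv_mul_cancel₀ hr, map_one, one_mul]
      rw [this, h5, mul_zero]
    rw [hr, map_zero, zero_add]
    exact Ideal.mul_mem_right _ _ (Ideal.mem_span_singleton_self ε)
  have hmε : ∀ a ∈ Ideal.span {ε}, a * ε ∈ (⊥ : Ideal A) := by
    intro a ha
    obtain ⟨c, rfl⟩ := Ideal.mem_span_singleton'.1 ha
    show c * ε * ε = 0
    rw [mul_assoc, h1, mul_zero]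
  have hext : Exal.IsExtension proj incl :=
    { proj_surjective := hprojs
      incl_injective := by
        rw [injective_iff_map_eq_zero]
        intro z hz
        obtain ⟨y, rfl⟩ := hprojs z
        rw [hincl] at hz
        have hb : algebraMap A E' ε * y ∈ (⊥ : Ideal A).map (algebraMap A E') := by
          rw [Ideal.map_bot]
          exact hz
        have := mem_map_of_mul_mem (⊥ : Ideal A) (Ideal.span {ε}) ε hmε hcolon y hb
        rw [Ideal.map_span, Set.image_singleton] at this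
        rw [hproj0, ← RingHom.mem_ker, d4]
        exact this
      exact := fun x => by
        constructor
        · intro hx
          obtain ⟨c, rfl⟩ := (hker x).1 ((hproj0 x).1 hx)
          exact ⟨proj c, by rw [hincl, mul_comm]⟩
        · rintro ⟨z, rfl⟩
          obtain ⟨y, rfl⟩ := hprojs z
          rw [hincl, hproj0, map_mul, hαγε, zero_mul]
      mul_incl := fun x z => by
        obtain ⟨y, rfl⟩ := hprojs z
        rw [hincl, smul_eq_mul, ← map_mul, hincl]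
        ring }
  refine ⟨{ E := E', proj := proj, incl := incl, isExtension := hext }, RingEquiv.refl E',
    fun r => rfl, fun y => ?_, ?_⟩
  · show α y = θ (θ.symm (α y))
    rw [RingEquiv.apply_symm_apply]
  · show incl 1 = γ ε
    have := hincl 1
    rw [map_one, mul_one] at this
    exact this

variable (E₁ E₂ : Exal.Ext k B B) {E'₁ E'₂ B₀ : Type u} [CommRing E'₁] [CommRing E'₂] [CommRing B₀]
  (γ₁ : A →+* E'₁) (α₁ : E'₁ →+* B₀) (γ₂ : A →+* E'₂) (α₂ : E'₂ →+* B₀) (θ : B ≃+* B₀)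
  (Φ₁ : E₁.E ≃+* E'₁) (Φ₂ : E₂.E ≃+* E'₂) (ε : A)

theorem incl_eq_mul (E : Exal.Ext k B B) (y : E.E) : E.incl (E.proj y) = y * E.incl 1 := by
  rw [E.isExtension.mul_incl, smul_eq_mul, mul_one]

theorem equiv_of_ringEquiv
    (a1 : ∀ r : k, Φ₁ (algebraMap k E₁.E r) = γ₁ (algebraMap k A r))
    (b1 : ∀ y, α₁ (Φ₁ y) = θ (E₁.proj y)) (c1 : Φ₁ (E₁.incl 1) = γ₁ ε)
    (a2 : ∀ r : k, Φ₂ (algebraMap k E₂.E r) = γ₂ (algebraMap k A r))
    (b2 : ∀ y, α₂ (Φ₂ y) = θ (E₂.proj y)) (c2 : Φ₂ (E₂.incl 1) = γ₂ ε)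
    (Ψ : E'₁ ≃+* E'₂) (hΨγ : ∀ a, Ψ (γ₁ a) = γ₂ a) (hΨα : ∀ y, α₂ (Ψ y) = α₁ y) :
    Nonempty (E₁.Equiv E₂) := by
  let Ξ : E₁.E ≃+* E₂.E := (Φ₁.trans Ψ).trans Φ₂.symm
  have hΞ : ∀ y, Ξ y = Φ₂.symm (Ψ (Φ₁ y)) := fun y => rfl
  have hcomm : ∀ r : k, Ξ (algebraMap k E₁.E r) = algebraMap k E₂.E r := by
    intro r
    rw [hΞ, a1, hΨγ, ← a2, RingEquiv.symm_apply_apply]
  have hproj : ∀ y, E₂.proj (Ξ y) = E₁.proj y := by
    intro y
    apply θ.injective
    rw [← b2, hΞ, RingEquiv.apply_symm_apply, hΨα, b1]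
  have hone : Ξ (E₁.incl 1) = E₂.incl 1 := by
    rw [hΞ, c1, hΨγ, ← c2, RingEquiv.symm_apply_apply]
  let Ξa : E₁.E ≃ₐ[k] E₂.E := AlgEquiv.ofRingEquiv (f := Ξ) hcomm
  refine ⟨⟨Ξa, hproj, fun z => ?_⟩⟩
  obtain ⟨y, rfl⟩ := E₁.isExtension.proj_surjective z
  show Ξ (E₁.incl (E₁.proj y)) = E₂.incl (E₁.proj y)
  rw [incl_eq_mul, map_mul, hone, ← hproj, incl_eq_mul]

theorem ringEquiv_of_equiv
    (h3 : ∀ a : A, ∃ r s : k, a = algebraMap k A r + ε * algebraMap k A s)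
    (a1 : ∀ r : k, Φ₁ (algebraMap k E₁.E r) = γ₁ (algebraMap k A r))
    (b1 : ∀ y, α₁ (Φ₁ y) = θ (E₁.proj y)) (c1 : Φ₁ (E₁.incl 1) = γ₁ ε)
    (a2 : ∀ r : k, Φ₂ (algebraMap k E₂.E r) = γ₂ (algebraMap k A r))
    (b2 : ∀ y, α₂ (Φ₂ y) = θ (E₂.proj y)) (c2 : Φ₂ (E₂.incl 1) = γ₂ ε)
    (ω : E₁.Equiv E₂) :
    ∃ Ψ : E'₁ ≃+* E'₂, (∀ a, Ψ (γ₁ a) = γ₂ a) ∧ ∀ y, α₂ (Ψ y) = α₁ y := by
  let Ψ : E'₁ ≃+* E'₂ := (Φ₁.symm.trans ω.toAlgEquiv.toRingEquiv).trans Φ₂
  have hΨ : ∀ y, Ψ y = Φ₂ (ω.toAlgEquiv (Φ₁.symm y)) := fun y => rfl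
  have hk : ∀ r : k, Ψ (γ₁ (algebraMap k A r)) = γ₂ (algebraMap k A r) := by
    intro r
    rw [hΨ, ← a1, RingEquiv.symm_apply_apply, AlgEquiv.commutes, a2]
  have hε : Ψ (γ₁ ε) = γ₂ ε := by
    rw [hΨ, ← c1, RingEquiv.symm_apply_apply, ω.apply_incl, c2]
  refine ⟨Ψ, fun a => ?_, fun y => ?_⟩
  · obtain ⟨r, s, rfl⟩ := h3 a
    rw [map_add, map_mul, map_add, map_mul, hk, hk, hε, map_add, map_mul]
  · rw [hΨ, b2, ω.proj_apply, ← b1, RingEquiv.apply_symm_apply]

end Data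

end Groth.Agent.Lib.DefDualH3
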