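import Mathlib
import Groth.Prelude.Def_SGA1
set_option autoImplicit false
open AlgebraicGeometry CategoryTheory CategoryTheory.Limits TopologicalSpace
universe u
namespace IsQuotH8

variable {X Y : Scheme.{u}} {G : Type u} [Group G]

/-- The action of `g` on sections over `p⁻¹U`. -/
noncomputable abbrev act (ρ : G →* Aut X) (p : X ⟶ Y) (hinv : ∀ g : G, (ρ g).hom ≫ p = p)
    (g : G) (U : Y.Opens) : Γ(X, p ⁻¹ᵁ U) ⟶ Γ(X, p ⁻¹ᵁ U) :=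
  (ρ g).hom.appLE (p ⁻¹ᵁ U) (p ⁻¹ᵁ U) (SGA1.preimage_le_of_inv ρ p hinv g U)

theorem appLE_congr {X Z : Scheme.{u}} {f f' : X ⟶ Z} (e : f = f') (W : Z.Opens) (T : X.Opens)
    (h1 : T ≤ f ⁻¹ᵁ W) (h2 : T ≤ f' ⁻¹ᵁ W) : f.appLE W T h1 = f'.appLE W T h2 := by
  subst e; rfl

theorem app_comp_act (ρ : G →* Aut X) (p : X ⟶ Y) (hinv : ∀ g : G, (ρ g).hom ≫ p = p)
    (g : G) (U : Y.Opens) : p.app U ≫ act ρ p hinv g U = p.app U := by
  unfold act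
  rw [← Scheme.Hom.comp_appLE]
  rw [appLE_congr (hinv g) U (p ⁻¹ᵁ U) _ le_rfl]
  exact (Scheme.Hom.app_eq_appLE p).symm

theorem act_app (ρ : G →* Aut X) (p : X ⟶ Y) (hinv : ∀ g : G, (ρ g).hom ≫ p = p)
    (g : G) (U : Y.Opens) (t : Γ(Y, U)) :
    (act ρ p hinv g U).hom ((p.app U).hom t) = (p.app U).hom t := by
  have := congrArg (fun m => m.hom t) (app_comp_act ρ p hinv g U)
  exact this

theorem map_comp_act (ρ : G →* Aut X) (p : X ⟶ Y) (hinv : ∀ g : G, (ρ g).hom ≫ p = p)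
    (g : G) {U V : Y.Opens} (hVU : V ≤ U) :
    X.presheaf.map (homOfLE (show p ⁻¹ᵁ V ≤ p ⁻¹ᵁ U from fun _ hx => hVU hx)).op ≫
      act ρ p hinv g V =
    act ρ p hinv g U ≫
      X.presheaf.map (homOfLE (show p ⁻¹ᵁ V ≤ p ⁻¹ᵁ U from fun _ hx => hVU hx)).op := by
  unfold act
  rw [Scheme.Hom.map_appLE, Scheme.Hom.appLE_map]

theorem act_res (ρ : G →* Aut X) (p : X ⟶ Y) (hinv : ∀ g : G, (ρ g).hom ≫ p = p)
    (g : G) {U V : Y.Opens} (hVU : V ≤ U) (s : Γ(X, p ⁻¹ᵁ U)) :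
    (act ρ p hinv g V).hom ((X.presheaf.map
      (homOfLE (show p ⁻¹ᵁ V ≤ p ⁻¹ᵁ U from fun _ hx => hVU hx)).op).hom s) =
    (X.presheaf.map (homOfLE (show p ⁻¹ᵁ V ≤ p ⁻¹ᵁ U from fun _ hx => hVU hx)).op).hom
      ((act ρ p hinv g U).hom s) := by
  have := congrArg (fun m => m.hom s) (map_comp_act ρ p hinv g hVU)
  exact this

theorem app_res (p : X ⟶ Y) {U V : Y.Opens} (hVU : V ≤ U) (t : Γ(Y, U)) :
    (p.app V).hom ((Y.presheaf.map (homOfLE hVU).op).hom t) =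
    (X.presheaf.map (homOfLE (show p ⁻¹ᵁ V ≤ p ⁻¹ᵁ U from fun _ hx => hVU hx)).op).hom
      ((p.app U).hom t) := by
  have := congrArg (fun m => m.hom t) (p.naturality (homOfLE hVU).op)
  exact this


theorem app_res' (p : X ⟶ Y) {U V : Y.Opens} (i : V ⟶ U) (j : p ⁻¹ᵁ V ⟶ p ⁻¹ᵁ U) (t : Γ(Y, U)) :
    (p.app V).hom ((Y.presheaf.map i.op).hom t) =
    (X.presheaf.map j.op).hom ((p.app U).hom t) := by
  have := congrArg (fun m => m.hom t) (p.naturality i.op)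
  rw [Subsingleton.elim j ((Opens.map p.base).map i)]
  exact this

theorem act_res' (ρ : G →* Aut X) (p : X ⟶ Y) (hinv : ∀ g : G, (ρ g).hom ≫ p = p)
    (g : G) {U V : Y.Opens} (hVU : V ≤ U) (j : p ⁻¹ᵁ V ⟶ p ⁻¹ᵁ U) (s : Γ(X, p ⁻¹ᵁ U)) :
    (act ρ p hinv g V).hom ((X.presheaf.map j.op).hom s) =
    (X.presheaf.map j.op).hom ((act ρ p hinv g U).hom s) := by
  rw [Subsingleton.elim j (homOfLE (show p ⁻¹ᵁ V ≤ p ⁻¹ᵁ U from fun _ hx => hVU hx))]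
  exact act_res ρ p hinv g hVU s

theorem res_res {U V W : X.Opens} (i : V ⟶ U) (j : W ⟶ V) (k : W ⟶ U) (s : Γ(X, U)) :
    (X.presheaf.map j.op).hom ((X.presheaf.map i.op).hom s) = (X.presheaf.map k.op).hom s := by
  have : X.presheaf.map i.op ≫ X.presheaf.map j.op = X.presheaf.map k.op := by
    rw [← X.presheaf.map_comp]
    congr 1
  exact congrArg (fun m => m.hom s) this

theorem injective_of_basis (p : X ⟶ Y) (𝓑 : Set Y.Opens) (hB : Opens.IsBasis 𝓑)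
    (hinj : ∀ U ∈ 𝓑, Function.Injective (p.app U).hom) (U : Y.Opens) :
    Function.Injective (p.app U).hom := by
  intro t t' htt
  refine Y.sheaf.eq_of_locally_eq' (fun W : {W : Y.Opens // W ∈ 𝓑 ∧ W ≤ U} => W.1) U
    (fun W => homOfLE W.2.2) ?_ t t' ?_
  · intro y hy
    obtain ⟨W, hW, hyW, hWU⟩ := Opens.isBasis_iff_nbhd.mp hB hy
    exact Opens.mem_iSup.mpr ⟨⟨W, hW, hWU⟩, hyW⟩
  · rintro ⟨W, hW, hWU⟩
    apply hinj W hW
    change (p.app W).hom ((Y.presheaf.map (homOfLE hWU).op).hom t) =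
      (p.app W).hom ((Y.presheaf.map (homOfLE hWU).op).hom t')
    rw [app_res, app_res, htt]

theorem isQuot_of_basis (ρ : G →* Aut X) (p : X ⟶ Y) (haff : IsAffineHom p)
    (hinv : ∀ g : G, (ρ g).hom ≫ p = p) (𝓑 : Set Y.Opens) (hB : Opens.IsBasis 𝓑)
    (hinj : ∀ U ∈ 𝓑, Function.Injective (p.app U).hom)
    (hrange : ∀ U ∈ 𝓑, ∀ s : Γ(X, p ⁻¹ᵁ U), (∀ g, (act ρ p hinv g U).hom s = s) →
      s ∈ Set.range (p.app U).hom) :
    SGA1.IsQuot ρ p := by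
  have hinjall := injective_of_basis p 𝓑 hB hinj
  refine ⟨haff, hinv, hinjall, fun U s => ⟨?_, ?_⟩⟩
  · rintro ⟨t, rfl⟩ g
    exact act_app ρ p hinv g U t
  · intro hs
    have hmono : ∀ W : {W : Y.Opens // W ∈ 𝓑 ∧ W ≤ U}, p ⁻¹ᵁ W.1 ≤ p ⁻¹ᵁ U :=
      fun W _ hx => W.2.2 hx
    have hloc : ∀ W : {W : Y.Opens // W ∈ 𝓑 ∧ W ≤ U}, ∃ t : Γ(Y, W.1),
        (p.app W.1).hom t = (X.presheaf.map (homOfLE (hmono W)).op).hom s := by
      rintro ⟨W, hW, hWU⟩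
      apply hrange W hW
      intro g
      rw [act_res' ρ p hinv g hWU, hs g]
    choose t ht using hloc
    have hcov : U ≤ ⨆ W : {W : Y.Opens // W ∈ 𝓑 ∧ W ≤ U}, W.1 := by
      intro y hy
      obtain ⟨W, hW, hyW, hWU⟩ := Opens.isBasis_iff_nbhd.mp hB hy
      exact Opens.mem_iSup.mpr ⟨⟨W, hW, hWU⟩, hyW⟩
    have hcompat : TopCat.Presheaf.IsCompatible Y.sheaf.1
        (fun W : {W : Y.Opens // W ∈ 𝓑 ∧ W ≤ U} => W.1) t := by
      intro W W'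
      apply hinjall (W.1 ⊓ W'.1)
      change (p.app (W.1 ⊓ W'.1)).hom ((Y.presheaf.map (Opens.infLELeft W.1 W'.1).op).hom (t W)) =
        (p.app (W.1 ⊓ W'.1)).hom ((Y.presheaf.map (Opens.infLERight W.1 W'.1).op).hom (t W'))
      have hl : p ⁻¹ᵁ (W.1 ⊓ W'.1) ≤ p ⁻¹ᵁ W.1 := fun _ hx => hx.1
      have hr : p ⁻¹ᵁ (W.1 ⊓ W'.1) ≤ p ⁻¹ᵁ W'.1 := fun _ hx => hx.2
      rw [app_res' p _ (homOfLE hl), app_res' p _ (homOfLE hr), ht, ht,
        res_res _ _ (homOfLE (hl.trans (hmono W))), res_res _ _ (homOfLE (hl.trans (hmono W)))]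
    obtain ⟨T, hT, -⟩ := Y.sheaf.existsUnique_gluing'
      (fun W : {W : Y.Opens // W ∈ 𝓑 ∧ W ≤ U} => W.1) U (fun W => homOfLE W.2.2) hcov t hcompat
    refine ⟨T, ?_⟩
    refine X.sheaf.eq_of_locally_eq' (fun W : {W : Y.Opens // W ∈ 𝓑 ∧ W ≤ U} => p ⁻¹ᵁ W.1)
      (p ⁻¹ᵁ U) (fun W => homOfLE (hmono W)) ?_ _ _ ?_
    · intro x hx
      obtain ⟨W, hW, hyW, hWU⟩ := Opens.isBasis_iff_nbhd.mp hB (show p.base x ∈ U from hx)
      exact Opens.mem_iSup.mpr ⟨⟨W, hW, hWU⟩, hyW⟩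
    · intro W
      change (X.presheaf.map (homOfLE (hmono W)).op).hom ((p.app U).hom T) =
        (X.presheaf.map (homOfLE (hmono W)).op).hom s
      rw [← app_res' p (homOfLE W.2.2) (homOfLE (hmono W)) T, ← ht W]
      congr 1
      exact hT W

end IsQuotH8
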