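import Mathlib

/-!
# `Spec (Γ(X, U) ⧸ I) ⟶ X` and its kernel (helper6)
-/

set_option backward.isDefEq.respectTransparency false
set_option backward.isDefEq.respectTransparency.types false
set_option autoImplicit false

universe u

open CategoryTheory CategoryTheory.Limits AlgebraicGeometry TopologicalSpace

namespace Groth.Agent.Lib.ThickAffH6

variable {X : Scheme.{u}}

lemma fromSpec_appLE_top {U : X.Opens} (hU : IsAffineOpen U) :
    hU.fromSpec.appLE U ⊤ (by rw [hU.fromSpec_preimage_self]) ≫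
      (Scheme.ΓSpecIso Γ(X, U)).hom = 𝟙 _ := by
  rw [Scheme.Hom.appLE, hU.fromSpec_app_self, Category.assoc, Category.assoc,
    ← Functor.map_comp_assoc]
  have : (Spec Γ(X, U)).presheaf.map
      ((eqToHom hU.fromSpec_preimage_self).op ≫
        (homOfLE (by rw [hU.fromSpec_preimage_self] :
          (⊤ : (Spec Γ(X, U)).Opens) ≤ hU.fromSpec ⁻¹ᵁ U)).op) = 𝟙 _ := by
    rw [← (Spec Γ(X, U)).presheaf.map_id]
    congr 1
  rw [this, Category.id_comp, Iso.inv_hom_id]

lemma map_homOfLE_injective {Y : Scheme.{u}} {V V' : Y.Opens} (e : V = V') :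
    Function.Injective (Y.presheaf.map (homOfLE e.le).op).hom := by
  subst e
  have : homOfLE (le_refl V) = 𝟙 V := rfl
  rw [this, op_id, Y.presheaf.map_id]
  exact fun _ _ h => h

/-- `Spec (Γ(X, U) ⧸ I) ⟶ X`. -/
noncomputable def ρ {U : X.Opens} (hU : IsAffineOpen U) (I : Ideal Γ(X, U)) :
    Spec (CommRingCat.of (Γ(X, U) ⧸ I)) ⟶ X :=
  Spec.map (CommRingCat.ofHom (Ideal.Quotient.mk I)) ≫ hU.fromSpec

lemma ρ_preimage {U : X.Opens} (hU : IsAffineOpen U) (I : Ideal Γ(X, U)) :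
    ρ hU I ⁻¹ᵁ U = ⊤ := by
  unfold ρ
  rw [Scheme.Hom.comp_preimage, hU.fromSpec_preimage_self]
  rfl

lemma ρ_appLE {U : X.Opens} (hU : IsAffineOpen U) (I : Ideal Γ(X, U)) :
    (ρ hU I).appLE U ⊤ (by rw [ρ_preimage]) ≫ (Scheme.ΓSpecIso _).hom =
      CommRingCat.ofHom (Ideal.Quotient.mk I) := by
  have e1 : (ρ hU I).appLE U ⊤ (by rw [ρ_preimage]) =
      hU.fromSpec.appLE U ⊤ (by rw [hU.fromSpec_preimage_self]) ≫
        (Spec.map (CommRingCat.ofHom (Ideal.Quotient.mk I))).appLE ⊤ ⊤ le_top := by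
    rw [Scheme.Hom.appLE_comp_appLE]
    rfl
  have e2 : (Spec.map (CommRingCat.ofHom (Ideal.Quotient.mk I))).appLE ⊤ ⊤ le_top =
      (Spec.map (CommRingCat.ofHom (Ideal.Quotient.mk I))).appTop := by
    rw [Scheme.Hom.appTop, Scheme.Hom.app_eq_appLE]
    rfl
  rw [e1, e2, Category.assoc, Scheme.ΓSpecIso_naturality, ← Category.assoc]
  rw [show hU.fromSpec.appLE U ⊤ (by rw [hU.fromSpec_preimage_self]) ≫
      (Scheme.ΓSpecIso (CommRingCat.of Γ(X, U))).hom = 𝟙 _ from fromSpec_appLE_top hU,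
    Category.id_comp]

lemma ker_ρ_app {U : X.Opens} (hU : IsAffineOpen U) (I : Ideal Γ(X, U)) :
    RingHom.ker ((ρ hU I).app U).hom = I := by
  have hpre := ρ_preimage hU I
  have key : ∀ x : Γ(X, U), ((ρ hU I).app U).hom x = 0 ↔
      ((ρ hU I).appLE U ⊤ (by rw [hpre])).hom x = 0 := by
    intro x
    rw [Scheme.Hom.appLE]
    have hinj := map_homOfLE_injective (Y := Spec (CommRingCat.of (Γ(X, U) ⧸ I))) hpre.symm
    constructor
    · intro h
      rw [CommRingCat.hom_comp, RingHom.comp_apply, h, map_zero]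
    · intro h
      rw [CommRingCat.hom_comp, RingHom.comp_apply] at h
      apply hinj
      rw [h]
      exact (map_zero _).symm
  ext x
  rw [RingHom.mem_ker, key]
  have h2 := congrArg (fun m => m.hom x) (ρ_appLE hU I)
  simp only [CommRingCat.hom_comp, RingHom.comp_apply, CommRingCat.hom_ofHom] at h2
  constructor
  · intro h
    rw [h, map_zero] at h2
    exact Ideal.Quotient.eq_zero_iff_mem.mp h2.symm
  · intro h
    have h3 : (Ideal.Quotient.mk I) x = 0 := Ideal.Quotient.eq_zero_iff_mem.mpr h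
    rw [h3] at h2
    have hinj := (ConcreteCategory.bijective_of_isIso
      (Scheme.ΓSpecIso (CommRingCat.of (Γ(X, U) ⧸ I))).hom).1
    apply hinj
    rw [map_zero]
    exact h2

end Groth.Agent.Lib.ThickAffH6
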