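import Mathlib
import Groth.Agent.Lib.ThickAff1_helper6
import Groth.Agent.Lib.IsQuot1_helper8
import Groth.Agent.Lib.AffStrat2_helper4

/-!
# Nilpotent quasi-coherent sub-ideals of a nil ideal on a qcqs scheme (helper6)

On a quasi-compact quasi-separated scheme, every section (over an affine open) of a nil ideal sheaf `N` lies in a
nilpotent ideal sheaf `N' ≤ N`.
-/

set_option backward.isDefEq.respectTransparency false
set_option backward.isDefEq.respectTransparency.types false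
set_option autoImplicit false

universe u

open CategoryTheory CategoryTheory.Limits AlgebraicGeometry TopologicalSpace

namespace Groth.Agent.Lib.ThickAffH6

variable {X : Scheme.{u}}

/-- an element of `map f J` lies in `map f (span T)` for a finite `T ⊆ J`. -/
lemma exists_finset_mem_map {R S : Type*} [CommRing R] [CommRing S] (f : R →+* S) (J : Ideal R)
    (x : S) (hx : x ∈ Ideal.map f J) :
    ∃ T : Finset R, (T : Set R) ⊆ J ∧ x ∈ Ideal.map f (Ideal.span (T : Set R)) := by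
  classical
  change x ∈ Ideal.span (f '' J) at hx
  obtain ⟨T, hT, hxT⟩ := Submodule.mem_span_finite_of_mem_span hx
  obtain ⟨T', hT', rfl⟩ := Finset.subset_set_image_iff.mp hT
  refine ⟨T', hT', ?_⟩
  rw [Ideal.map_span]
  rw [Finset.coe_image] at hxT
  exact hxT

/-- local criterion for a section to be killed by `ρ`. -/
lemma ρ_app_eq_zero {U : X.Opens} (hU : IsAffineOpen U) (I : Ideal Γ(X, U)) (W : X.Opens)
    (n : Γ(X, W)) (H : Finset Γ(X, U)) (hHW : ∀ h ∈ H, X.basicOpen h ≤ W)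
    (hcov : ∀ x, x ∈ W → x ∈ U → ∃ h ∈ H, x ∈ X.basicOpen h)
    (hn : ∀ h (hh : h ∈ H), (X.presheaf.map (homOfLE (hHW h hh)).op).hom n ∈
      Ideal.map (X.presheaf.map (homOfLE (X.basicOpen_le h)).op).hom I) :
    ((ρ hU I).app W).hom n = 0 := by
  set r := ρ hU I with hr
  have hrU : ∀ y, r.base y ∈ U := by
    intro y
    have : y ∈ r ⁻¹ᵁ U := by
      rw [hr, ρ_preimage]
      trivial
    exact this
  refine TopCat.Sheaf.eq_of_locally_eq' (Spec (CommRingCat.of (Γ(X, U) ⧸ I))).sheaf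
    (fun h : H => r ⁻¹ᵁ X.basicOpen h.1) (r ⁻¹ᵁ W)
    (fun h => homOfLE (fun y hy => hHW h.1 h.2 hy)) ?_ _ _ ?_
  · intro y hy
    obtain ⟨h, hh, hyh⟩ := hcov (r.base y) hy (hrU y)
    exact Opens.mem_iSup.mpr ⟨⟨h, hh⟩, hyh⟩
  · rintro ⟨h, hh⟩
    rw [map_zero]
    have e1 := IsQuotH8.app_res' r (homOfLE (hHW h hh))
      (homOfLE (fun y hy => hHW h hh hy) : r ⁻¹ᵁ X.basicOpen h ⟶ r ⁻¹ᵁ W) n
    refine e1.symm.trans ?_
    have hle : Ideal.map (X.presheaf.map (homOfLE (X.basicOpen_le h)).op).hom I ≤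
        RingHom.ker (r.app (X.basicOpen h)).hom := by
      rw [Ideal.map_le_iff_le_comap]
      intro x hx
      rw [Ideal.mem_comap, RingHom.mem_ker]
      have e2 := IsQuotH8.app_res' r (homOfLE (X.basicOpen_le h))
        (homOfLE (fun y hy => X.basicOpen_le h hy) : r ⁻¹ᵁ X.basicOpen h ⟶ r ⁻¹ᵁ U) x
      rw [e2]
      have hx0 : (r.app U).hom x = 0 := by
        have : x ∈ RingHom.ker (r.app U).hom := by
          rw [hr, ker_ρ_app]
          exact hx
        exact this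
      rw [hx0, map_zero]
    exact hle (hn h hh)

variable [CompactSpace X] [QuasiSeparatedSpace X]

/-- the data on one affine open `V` of the cover. -/
lemma exists_local_ideal (N : X.IdealSheafData) (W : X.affineOpens) (n : Γ(X, W))
    (hn : n ∈ N.ideal W) (V : X.affineOpens) :
    ∃ (I : Ideal Γ(X, V)) (H : Finset Γ(X, V)) (hHW : ∀ h ∈ H, X.basicOpen h ≤ W.1),
      I.FG ∧ I ≤ N.ideal V ∧
      (∀ x, x ∈ W.1 → x ∈ V.1 → ∃ h ∈ H, x ∈ X.basicOpen h) ∧
      ∀ h (hh : h ∈ H), (X.presheaf.map (homOfLE (hHW h hh)).op).hom n ∈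
        Ideal.map (X.presheaf.map (homOfLE (X.basicOpen_le h)).op).hom I := by
  classical
  have hcomp : IsCompact ((W.1 ⊓ V.1 : X.Opens) : Set X) :=
    quasiSeparatedSpace_iff_forall_affineOpens.mp inferInstance W V
  obtain ⟨H, hH⟩ := Groth.Agent.Lib.AffStratH4.exists_finset_basicOpen X V.1 (W.1 ⊓ V.1) V.2
    inf_le_right hcomp
  have hHW : ∀ h ∈ H, X.basicOpen h ≤ W.1 := fun h hh x hx =>
    ((hH x).mpr ⟨h, hh, hx⟩).1
  have key : ∀ h : {h // h ∈ H}, ∃ T : Finset Γ(X, V), (T : Set Γ(X, V)) ⊆ N.ideal V ∧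
      (X.presheaf.map (homOfLE (hHW h.1 h.2)).op).hom n ∈
        Ideal.map (X.presheaf.map (homOfLE (X.basicOpen_le h.1)).op).hom
          (Ideal.span (T : Set Γ(X, V))) := by
    rintro ⟨h, hh⟩
    apply exists_finset_mem_map
    have h1 : X.affineBasicOpen h ≤ V := X.affineBasicOpen_le h
    have h2 : X.affineBasicOpen h ≤ W := hHW h hh
    have e := N.map_ideal h1
    have h4 : (X.presheaf.map (homOfLE (hHW h hh)).op).hom n ∈ N.ideal (X.affineBasicOpen h) :=
      N.ideal_le_comap_ideal h2 hn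
    rw [← e] at h4
    exact h4
  choose T hT1 hT2 using key
  refine ⟨Ideal.span (⋃ h : {h // h ∈ H}, (T h : Set Γ(X, V))), H, hHW, ?_, ?_, ?_, ?_⟩
  · exact Submodule.fg_span (Set.finite_iUnion fun h => (T h).finite_toSet)
  · rw [Ideal.span_le]
    intro x hx
    obtain ⟨h, hxh⟩ := Set.mem_iUnion.mp hx
    exact hT1 h hxh
  · intro x hxW hxV
    exact (hH x).mp ⟨hxW, hxV⟩
  · intro h hh
    refine Ideal.map_mono (Ideal.span_mono ?_) (hT2 ⟨h, hh⟩)
    exact Set.subset_iUnion (fun h : {h // h ∈ H} => (T h : Set Γ(X, V))) ⟨h, hh⟩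

theorem exists_nilpotent_le (N : X.IdealSheafData) (hN : N ≤ X.nilradical) (W : X.affineOpens)
    (n : Γ(X, W)) (hn : n ∈ N.ideal W) :
    ∃ N' : X.IdealSheafData, N' ≤ N ∧ (∃ k : ℕ, N' ^ k = ⊥) ∧ n ∈ N'.ideal W := by
  classical
  obtain ⟨s, hs, hcover⟩ := (isCompact_iff_finite_and_eq_biUnion_affineOpens (X := X)
    (U := ⊤)).mp isCompact_univ
  haveI : Finite s := hs
  choose I H hHW hfg hIN hcov hmem using fun V : s => exists_local_ideal N W n hn V.1
  have hnil : ∀ V : s, ∃ k : ℕ, I V ^ k ≤ ⊥ := fun V =>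
    Ideal.exists_pow_le_of_le_radical_of_fg ((hIN V).trans (hN V.1)) (hfg V)
  choose k hk using hnil
  obtain ⟨K, hK⟩ := (Set.finite_range k).bddAbove
  let Kr : s → X.IdealSheafData := fun V => (ρ V.1.2 (I V)).ker
  refine ⟨N ⊓ ⨅ V : s, Kr V, inf_le_left, ⟨K, ?_⟩, ?_⟩
  · refine Scheme.IdealSheafData.ext_of_iSup_eq_top (fun V : s => V.1) ?_ ?_
    · rw [eq_top_iff, hcover]
      intro x hx
      simp only [Opens.mem_iSup] at hx ⊢
      obtain ⟨V, hV, hxV⟩ := hx
      exact ⟨⟨V, hV⟩, hxV⟩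
    · intro V
      rw [Scheme.IdealSheafData.ideal_pow, Scheme.IdealSheafData.ideal_bot]
      change (N ⊓ ⨅ V : s, Kr V).ideal V.1 ^ K = ⊥
      rw [eq_bot_iff]
      have h1 : (N ⊓ ⨅ V : s, Kr V).ideal V.1 ≤ I V := by
        have h2 : (N ⊓ ⨅ V : s, Kr V) ≤ Kr V := inf_le_right.trans (iInf_le _ V)
        refine (h2 V.1).trans ?_
        change (ρ V.1.2 (I V)).ker.ideal V.1 ≤ I V
        rw [Scheme.Hom.ker_apply, ker_ρ_app]
      calc (N ⊓ ⨅ V : s, Kr V).ideal V.1 ^ K ≤ I V ^ K := Ideal.pow_right_mono h1 K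
        _ ≤ I V ^ k V := Ideal.pow_le_pow_right (hK ⟨V, rfl⟩)
        _ ≤ ⊥ := hk V
  · rw [Scheme.IdealSheafData.ideal_inf, Scheme.IdealSheafData.ideal_iInf]
    refine ⟨hn, ?_⟩
    rw [iInf_apply]
    have hgoal : n ∈ (⨅ i : s, (Kr i).ideal W) := by
      rw [Ideal.mem_iInf]
      intro V
      change n ∈ (ρ V.1.2 (I V)).ker.ideal W
      rw [Scheme.Hom.ker_apply, RingHom.mem_ker]
      exact ρ_app_eq_zero V.1.2 (I V) W.1 n (H V) (hHW V) (hcov V) (hmem V)
    exact hgoal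

end Groth.Agent.Lib.ThickAffH6
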