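import Mathlib
import Groth.Agent.Lib.ThickAff2_helper6

/-!
# Finitely many sections of a nil ideal lie in a nilpotent sub-ideal; gluing sections (helper6)
-/

set_option backward.isDefEq.respectTransparency false
set_option backward.isDefEq.respectTransparency.types false
set_option autoImplicit false

universe u

open CategoryTheory CategoryTheory.Limits AlgebraicGeometry TopologicalSpace

namespace Groth.Agent.Lib.ThickAffH6

section NS

variable {X : Scheme.{u}} [CompactSpace X] [QuasiSeparatedSpace X]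

theorem exists_nilpotent_le_of_finite (N : X.IdealSheafData) (hN : N ≤ X.nilradical)
    (S : Set (Σ W : X.affineOpens, Γ(X, W.1))) (hS : S.Finite)
    (hmem : ∀ p ∈ S, p.2 ∈ N.ideal p.1) :
    ∃ N' : X.IdealSheafData, N' ≤ N ∧ IsNilpotent N' ∧ ∀ p ∈ S, p.2 ∈ N'.ideal p.1 := by
  induction S, hS using Set.Finite.induction_on with
  | empty => exact ⟨⊥, bot_le, IsNilpotent.zero, fun p hp => (Set.notMem_empty p hp).elim⟩
  | @insert p S hp hS ih =>
    obtain ⟨N₁, hN₁, hnil₁, hmem₁⟩ := ih (fun q hq => hmem q (Set.mem_insert_of_mem p hq))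
    obtain ⟨N₂, hN₂, ⟨k, hk⟩, hmem₂⟩ := exists_nilpotent_le N hN p.1 p.2
      (hmem p (Set.mem_insert p S))
    refine ⟨N₁ + N₂, sup_le hN₁ hN₂, ?_, ?_⟩
    · exact Commute.isNilpotent_add (Commute.all _ _) hnil₁ ⟨k, hk⟩
    · intro q hq
      rcases Set.mem_insert_iff.mp hq with rfl | hq
      · exact (le_sup_right : N₂ ≤ N₁ ⊔ N₂) q.1 hmem₂
      · exact (le_sup_left : N₁ ≤ N₁ ⊔ N₂) q.1 (hmem₁ q hq)

end NS

section Glue

/-- gluing sections which agree locally on the overlaps. -/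
theorem exists_glue (Y : Scheme.{u}) {ι : Type*} (V : ι → Y.Opens) (hV : ⨆ i, V i = ⊤)
    (σ : ∀ i, Γ(Y, V i))
    (hcomp : ∀ i j, ∀ y ∈ V i ⊓ V j, ∃ (O : Y.Opens) (h1 : O ≤ V i) (h2 : O ≤ V j), y ∈ O ∧
      (Y.presheaf.map (homOfLE h1).op).hom (σ i) = (Y.presheaf.map (homOfLE h2).op).hom (σ j)) :
    ∃ a : Γ(Y, ⊤), ∀ i, (Y.presheaf.map (homOfLE (le_top : V i ≤ ⊤)).op).hom a = σ i := by
  have hcompat : TopCat.Presheaf.IsCompatible Y.sheaf.1 V σ := by
    intro i j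
    choose O h1 h2 hyO heq using hcomp i j
    refine TopCat.Sheaf.eq_of_locally_eq' Y.sheaf
      (fun y : {y // y ∈ V i ⊓ V j} => O y.1 y.2) (V i ⊓ V j)
      (fun y => homOfLE (le_inf (h1 y.1 y.2) (h2 y.1 y.2))) ?_ _ _ ?_
    · intro y hy
      exact Opens.mem_iSup.mpr ⟨⟨y, hy⟩, hyO y hy⟩
    · rintro ⟨y, hy⟩
      have e1 := IsQuotH8.res_res (X := Y) (Opens.infLELeft (V i) (V j))
        (homOfLE (le_inf (h1 y hy) (h2 y hy))) (homOfLE (h1 y hy)) (σ i)
      have e2 := IsQuotH8.res_res (X := Y) (Opens.infLERight (V i) (V j))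
        (homOfLE (le_inf (h1 y hy) (h2 y hy))) (homOfLE (h2 y hy)) (σ j)
      exact e1.trans ((heq y hy).trans e2.symm)
  obtain ⟨a, ha, -⟩ := TopCat.Sheaf.existsUnique_gluing' Y.sheaf V ⊤
    (fun i => homOfLE le_top) (by rw [hV]) σ hcompat
  exact ⟨a, ha⟩

end Glue

end Groth.Agent.Lib.ThickAffH6
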