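import Mathlib
import Groth.Agent.Lib.ThickAff3_helper6

/-!
# Lifting a global section of a closed subscheme to a nilpotent neighbourhood (helper6)
-/

set_option backward.isDefEq.respectTransparency false
set_option backward.isDefEq.respectTransparency.types false
set_option autoImplicit false

universe u

open CategoryTheory CategoryTheory.Limits AlgebraicGeometry TopologicalSpace

namespace Groth.Agent.Lib.ThickAffH6

variable {Z X : Scheme.{u}}

set_option maxHeartbeats 800000 in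
theorem exists_lift (t : Z ⟶ X) [IsClosedImmersion t] [CompactSpace X] [QuasiSeparatedSpace X]
    (hker : t.ker ≤ X.nilradical) (a₀ : Γ(Z, ⊤)) :
    ∃ N' : X.IdealSheafData, N' ≤ t.ker ∧ IsNilpotent N' ∧
      ∀ (z' : Z ⟶ N'.subscheme), z' ≫ N'.subschemeι = t →
        ∃ a' : Γ(N'.subscheme, ⊤), z'.appTop.hom a' = a₀ := by
  classical
  obtain ⟨s, hs, hcover⟩ := (isCompact_iff_finite_and_eq_biUnion_affineOpens (X := X)
    (U := ⊤)).mp isCompact_univ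
  haveI : Finite s := hs
  have hcov : ∀ x : X, ∃ V : s, x ∈ V.1.1 := by
    intro x
    have hx : x ∈ (⊤ : X.Opens) := trivial
    rw [hcover] at hx
    simp only [Opens.mem_iSup] at hx
    obtain ⟨V, hV, hxV⟩ := hx
    exact ⟨⟨V, hV⟩, hxV⟩
  -- local lifts
  have hb : ∀ V : s, ∃ b : Γ(X, V.1.1), (t.app V.1.1).hom b =
      (Z.presheaf.map (homOfLE (le_top : t ⁻¹ᵁ V.1.1 ≤ ⊤)).op).hom a₀ :=
    fun V => t.app_surjective V.1.1 V.1.2 _
  choose b hb using hb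
  -- covers of the overlaps
  have hF : ∀ p : s × s, ∃ F : Set X.affineOpens, F.Finite ∧
      (p.1.1.1 ⊓ p.2.1.1 : X.Opens) = ⨆ i ∈ F, (i : X.Opens) := fun p =>
    (isCompact_iff_finite_and_eq_biUnion_affineOpens).mp
      (quasiSeparatedSpace_iff_forall_affineOpens.mp inferInstance p.1.1 p.2.1)
  choose F hFfin hFeq using hF
  have hFle : ∀ (p : s × s) (W : X.affineOpens), W ∈ F p → W.1 ≤ p.1.1.1 ⊓ p.2.1.1 := by
    intro p W hW
    rw [hFeq p]
    exact le_iSup₂_of_le W hW le_rfl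
  haveI : ∀ p : s × s, Finite (F p) := fun p => (hFfin p).to_subtype
  let d : ∀ x : (Σ p : s × s, F p), Γ(X, x.2.1.1) := fun x =>
    (X.presheaf.map (homOfLE ((hFle x.1 x.2.1 x.2.2).trans inf_le_left)).op).hom (b x.1.1) -
    (X.presheaf.map (homOfLE ((hFle x.1 x.2.1 x.2.2).trans inf_le_right)).op).hom (b x.1.2)
  let S : Set (Σ W : X.affineOpens, Γ(X, W.1)) :=
    Set.range (fun x : (Σ p : s × s, F p) => (⟨x.2.1, d x⟩ : Σ W : X.affineOpens, Γ(X, W.1)))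
  have hSfin : S.Finite := Set.finite_range _
  have hSmem : ∀ q ∈ S, q.2 ∈ t.ker.ideal q.1 := by
    rintro _ ⟨x, rfl⟩
    change d x ∈ t.ker.ideal x.2.1
    rw [Scheme.Hom.ker_apply, RingHom.mem_ker]
    change (t.app x.2.1.1).hom (_ - _) = 0
    rw [map_sub, sub_eq_zero]
    have e1 := IsQuotH8.app_res' t (homOfLE ((hFle x.1 x.2.1 x.2.2).trans inf_le_left))
      (homOfLE (fun z hz => (hFle x.1 x.2.1 x.2.2).trans inf_le_left hz) :
        t ⁻¹ᵁ x.2.1.1 ⟶ t ⁻¹ᵁ x.1.1.1.1) (b x.1.1)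
    have e2 := IsQuotH8.app_res' t (homOfLE ((hFle x.1 x.2.1 x.2.2).trans inf_le_right))
      (homOfLE (fun z hz => (hFle x.1 x.2.1 x.2.2).trans inf_le_right hz) :
        t ⁻¹ᵁ x.2.1.1 ⟶ t ⁻¹ᵁ x.1.2.1.1) (b x.1.2)
    rw [e1, e2, hb, hb]
    exact (IsQuotH8.res_res _ _ (homOfLE le_top) a₀).trans
      (IsQuotH8.res_res _ _ (homOfLE le_top) a₀).symm
  obtain ⟨N', hN'le, hN'nil, hN'mem⟩ := exists_nilpotent_le_of_finite t.ker hker S hSfin hSmem
  refine ⟨N', hN'le, hN'nil, ?_⟩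
  intro z' hz'
  subst hz'
  -- glue
  obtain ⟨a', ha'⟩ := exists_glue N'.subscheme (fun V : s => N'.subschemeι ⁻¹ᵁ V.1.1)
    (by
      rw [eq_top_iff]
      intro y _
      obtain ⟨V, hV⟩ := hcov (N'.subschemeι.base y)
      exact Opens.mem_iSup.mpr ⟨V, hV⟩)
    (fun V => (N'.subschemeι.app V.1.1).hom (b V))
    (by
      intro V V' y hy
      have hy' : N'.subschemeι.base y ∈ (V.1.1 ⊓ V'.1.1 : X.Opens) := hy
      rw [hFeq (V, V')] at hy'
      simp only [Opens.mem_iSup] at hy'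
      obtain ⟨W, hW, hyW⟩ := hy'
      have hle := hFle (V, V') W hW
      refine ⟨N'.subschemeι ⁻¹ᵁ W.1, fun z hz => hle.trans inf_le_left hz,
        fun z hz => hle.trans inf_le_right hz, hyW, ?_⟩
      have e1 := IsQuotH8.app_res' N'.subschemeι (homOfLE (hle.trans inf_le_left))
        (homOfLE (fun z hz => hle.trans inf_le_left hz) :
          N'.subschemeι ⁻¹ᵁ W.1 ⟶ N'.subschemeι ⁻¹ᵁ V.1.1) (b V)
      have e2 := IsQuotH8.app_res' N'.subschemeι (homOfLE (hle.trans inf_le_right))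
        (homOfLE (fun z hz => hle.trans inf_le_right hz) :
          N'.subschemeι ⁻¹ᵁ W.1 ⟶ N'.subschemeι ⁻¹ᵁ V'.1.1) (b V')
      rw [← e1, ← e2, ← sub_eq_zero, ← map_sub]
      have hmem := hN'mem ⟨W, d ⟨(V, V'), ⟨W, hW⟩⟩⟩ ⟨⟨(V, V'), ⟨W, hW⟩⟩, rfl⟩
      have hker' : d ⟨(V, V'), ⟨W, hW⟩⟩ ∈ RingHom.ker (N'.subschemeι.app W.1).hom := by
        rw [N'.ker_subschemeι_app W]
        exact hmem
      exact hker')
  refine ⟨a', ?_⟩
  refine TopCat.Sheaf.eq_of_locally_eq' Z.sheaf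
    (fun V : s => (z' ≫ N'.subschemeι) ⁻¹ᵁ V.1.1) ⊤ (fun V => homOfLE le_top) ?_ _ _ ?_
  · intro z _
    obtain ⟨V, hV⟩ := hcov ((z' ≫ N'.subschemeι).base z)
    exact Opens.mem_iSup.mpr ⟨V, hV⟩
  · intro V
    have e1 := IsQuotH8.app_res' z' (homOfLE (le_top : N'.subschemeι ⁻¹ᵁ V.1.1 ≤ ⊤))
      (homOfLE le_top : z' ⁻¹ᵁ (N'.subschemeι ⁻¹ᵁ V.1.1) ⟶ z' ⁻¹ᵁ ⊤) a'
    rw [ha' V] at e1
    refine e1.symm.trans ?_
    exact hb V

end Groth.Agent.Lib.ThickAffH6
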