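import Mathlib
import Groth.Agent.Lib.ThickAff4_helper6
import Groth.Agent.Lib.NilAff3_helper8

/-!
# A scheme which has an affine closed subscheme on the same underlying space is affine (helper6)

No Noetherian or nilpotence hypothesis: the ideal is a nil ideal, and finitely many sections of it lie in a nilpotent
sub-ideal.
-/

set_option backward.isDefEq.respectTransparency false
set_option backward.isDefEq.respectTransparency.types false
set_option autoImplicit false

universe u

open CategoryTheory CategoryTheory.Limits AlgebraicGeometry TopologicalSpace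

namespace Groth.Agent.Lib.ThickAffH6

section partial_

variable {W₁ W : Scheme.{u}} (ι : W₁ ⟶ W) [IsClosedImmersion ι] [Surjective ι]

omit [IsClosedImmersion ι] in
lemma isAffineOpen_basicOpen_of_le (g : Γ(W, ⊤)) (W' : W.Opens) (hW' : IsAffineOpen W')
    (hle : W₁.basicOpen (ι.appTop.hom g) ≤ ι ⁻¹ᵁ W') : IsAffineOpen (W.basicOpen g) := by
  have hgW' : W.basicOpen g ≤ W' := by
    intro y hy
    obtain ⟨y₁, rfl⟩ := ι.surjective y
    have h1 : y₁ ∈ ι ⁻¹ᵁ W.basicOpen g := hy
    rw [Scheme.preimage_basicOpen_top] at h1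
    exact hle h1
  have h2 : W.basicOpen g =
      W.basicOpen (W.presheaf.map (homOfLE (le_top : W' ≤ ⊤)).op g) := by
    rw [Scheme.basicOpen_res]
    exact (inf_eq_right.mpr hgW').symm
  rw [h2]
  exact hW'.basicOpen _

theorem isAffine_of_partial_lifts [IsAffine W₁] (a : Γ(W, ⊤))
    (ha : a ∈ Ideal.span {g : Γ(W, ⊤) | IsAffineOpen (W.basicOpen g)})
    (ha1 : ι.appTop.hom a = 1) : IsAffine W := by
  haveI : CompactSpace W := by
    refine ⟨?_⟩
    rw [← Set.range_eq_univ.mpr ι.surjective]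
    exact isCompact_range ι.continuous
  refine isAffine_of_isAffineOpen_basicOpen {g : Γ(W, ⊤) | IsAffineOpen (W.basicOpen g)} ?_
    (fun g hg => hg)
  have hν : IsNilpotent (1 - a) := by
    rw [Scheme.isNilpotent_iff_basicOpen_eq_bot, eq_bot_iff]
    intro y hy
    obtain ⟨y₁, rfl⟩ := ι.surjective y
    have h3 : y₁ ∈ ι ⁻¹ᵁ W.basicOpen (1 - a) := hy
    rw [Scheme.preimage_basicOpen_top] at h3
    have h4 : ι.appTop.hom (1 - a) = 0 := by rw [map_sub, map_one, ha1, sub_self]
    have h5 : W₁.basicOpen (ι.appTop.hom (1 - a)) = ⊥ := by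
      rw [h4]
      exact Scheme.basicOpen_zero _ _
    have : y₁ ∈ (⊥ : W₁.Opens) := h5 ▸ h3
    exact this.elim
  have hu : IsUnit a := by
    have := hν.isUnit_one_sub
    simpa using this
  exact Ideal.eq_top_of_isUnit_mem _ ha hu

end partial_

section main

variable {Z X : Scheme.{u}}

set_option maxHeartbeats 800000 in
/-- **A scheme with an affine closed subscheme on the same underlying space is affine.** -/
theorem isAffine_of_thickening (t : Z ⟶ X) [IsClosedImmersion t] [Surjective t] [IsAffine Z] :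
    IsAffine X := by
  classical
  haveI : CompactSpace X := by
    refine ⟨?_⟩
    rw [← Set.range_eq_univ.mpr t.surjective]
    exact isCompact_range t.continuous
  haveI : QuasiSeparatedSpace X := by
    rw [quasiSeparatedSpace_iff_forall_affineOpens]
    intro U V
    have hU : IsAffineOpen (t ⁻¹ᵁ U.1) := U.2.preimage t
    have hV : IsAffineOpen (t ⁻¹ᵁ V.1) := V.2.preimage t
    have hc : IsCompact ((t ⁻¹ᵁ U.1 : Z.Opens) ∩ (t ⁻¹ᵁ V.1 : Z.Opens) : Set Z) :=
      quasiSeparatedSpace_iff_forall_affineOpens.mp inferInstance ⟨_, hU⟩ ⟨_, hV⟩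
    have himg : (U.1 : Set X) ∩ (V.1 : Set X) =
        t.base '' ((t ⁻¹ᵁ U.1 : Z.Opens) ∩ (t ⁻¹ᵁ V.1 : Z.Opens) : Set Z) := by
      ext x
      constructor
      · rintro ⟨hxU, hxV⟩
        obtain ⟨z, rfl⟩ := t.surjective x
        exact ⟨z, ⟨hxU, hxV⟩, rfl⟩
      · rintro ⟨z, ⟨hzU, hzV⟩, rfl⟩
        exact ⟨hzU, hzV⟩
    rw [himg]
    exact hc.image t.continuous
  have hker : t.ker ≤ X.nilradical := NilAffH8.ker_le_nilradical t
  -- basic opens of `Z` inside preimages of affine opens of `X`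
  have hloc : ∀ z : Z, ∃ (g : Γ(Z, ⊤)) (W' : X.Opens), IsAffineOpen W' ∧ z ∈ Z.basicOpen g ∧
      Z.basicOpen g ≤ t ⁻¹ᵁ W' := by
    intro z
    obtain ⟨_, ⟨W', hW', rfl⟩, hxW', -⟩ :=
      X.isBasis_affineOpens.exists_subset_of_mem_open (Set.mem_univ (t.base z)) isOpen_univ
    have hz : z ∈ t ⁻¹ᵁ W' := hxW'
    obtain ⟨_, ⟨_, ⟨g, rfl⟩, rfl⟩, hx, hle⟩ :=
      (isBasis_basicOpen Z).exists_subset_of_mem_open hz (t ⁻¹ᵁ W').isOpen
    exact ⟨g, W', hW', hx, hle⟩
  choose g W' hW' hzg hgle using hloc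
  have hspan : Ideal.span (Set.range g) = ⊤ := by
    rw [← (isAffineOpen_top Z).self_le_iSup_basicOpen_iff]
    intro z _
    exact Opens.mem_iSup.mpr ⟨⟨g z, z, rfl⟩, hzg z⟩
  obtain ⟨s', hs', hs'top⟩ := (Ideal.span_eq_top_iff_finite _).mp hspan
  have h1 : (1 : Γ(Z, ⊤)) ∈ Ideal.span (s' : Set Γ(Z, ⊤)) := by
    rw [hs'top]
    trivial
  obtain ⟨f, hf⟩ := Submodule.mem_span_finset'.mp h1
  -- nilpotent ideals over which the elements lift
  have hL1 := fun a : s' => exists_lift t hker a.1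
  have hL2 := fun a : s' => exists_lift t hker (f a)
  choose N1 hN1le hN1nil hN1lift using hL1
  choose N2 hN2le hN2nil hN2lift using hL2
  obtain ⟨N', hN'def⟩ : ∃ N' : X.IdealSheafData, N' = ∑ a : s', (N1 a + N2 a) := ⟨_, rfl⟩
  have hN'le : N' ≤ t.ker := by
    rw [hN'def]
    refine Finset.sum_induction _ (· ≤ t.ker) (fun I J hI hJ => sup_le hI hJ) bot_le ?_
    intro a _
    exact sup_le (hN1le a) (hN2le a)
  have hN'nil : IsNilpotent N' := by
    rw [hN'def]
    exact isNilpotent_sum (fun a _ =>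
      Commute.isNilpotent_add (Commute.all _ _) (hN1nil a) (hN2nil a))
  have hle12 : ∀ a : s', N1 a + N2 a ≤ N' := by
    intro a
    rw [hN'def]
    exact Finset.single_le_sum (f := fun a : s' => N1 a + N2 a) (fun i _ => bot_le)
      (Finset.mem_univ a)
  have hle1 : ∀ a : s', N1 a ≤ N' := fun a => (le_sup_left : N1 a ≤ N1 a ⊔ N2 a).trans (hle12 a)
  have hle2 : ∀ a : s', N2 a ≤ N' := fun a => (le_sup_right : N2 a ≤ N1 a ⊔ N2 a).trans (hle12 a)
  -- the closed immersion `Z ⟶ V(N')`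
  have hkerle : N'.subschemeι.ker ≤ t.ker := by
    rw [Scheme.IdealSheafData.ker_subschemeι]
    exact hN'le
  obtain ⟨z', hfac⟩ : ∃ z' : Z ⟶ N'.subscheme, z' ≫ N'.subschemeι = t :=
    ⟨IsClosedImmersion.lift N'.subschemeι t hkerle, IsClosedImmersion.lift_fac _ _ _⟩
  haveI : IsClosedImmersion (z' ≫ N'.subschemeι) := hfac ▸ inferInstance
  haveI : IsClosedImmersion z' := IsClosedImmersion.of_comp_isClosedImmersion z' N'.subschemeι
  haveI : Surjective z' := by
    refine ⟨fun y => ?_⟩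
    obtain ⟨z, hz⟩ := t.surjective (N'.subschemeι.base y)
    refine ⟨z, N'.subschemeι.isClosedEmbedding.injective ?_⟩
    rw [← hz, ← hfac]
    rfl
  -- the lifts
  have hl1 : ∀ a : s', ∃ l : Γ(N'.subscheme, ⊤), z'.appTop.hom l = a.1 := by
    intro a
    obtain ⟨a', ha'⟩ := hN1lift a (z' ≫ Scheme.IdealSheafData.inclusion (hle1 a))
      (by rw [Category.assoc, Scheme.IdealSheafData.inclusion_subschemeι, hfac])
    refine ⟨(Scheme.IdealSheafData.inclusion (hle1 a)).appTop.hom a', ?_⟩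
    rw [Scheme.Hom.comp_appTop] at ha'
    exact ha'
  have hl2 : ∀ a : s', ∃ l : Γ(N'.subscheme, ⊤), z'.appTop.hom l = f a := by
    intro a
    obtain ⟨a', ha'⟩ := hN2lift a (z' ≫ Scheme.IdealSheafData.inclusion (hle2 a))
      (by rw [Category.assoc, Scheme.IdealSheafData.inclusion_subschemeι, hfac])
    refine ⟨(Scheme.IdealSheafData.inclusion (hle2 a)).appTop.hom a', ?_⟩
    rw [Scheme.Hom.comp_appTop] at ha'
    exact ha'
  choose l1 hl1 using hl1
  choose l2 hl2 using hl2
  have haff1 : ∀ a : s', IsAffineOpen (N'.subscheme.basicOpen (l1 a)) := by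
    intro a
    obtain ⟨z, hz⟩ := hs' a.2
    refine isAffineOpen_basicOpen_of_le z' (l1 a) (N'.subschemeι ⁻¹ᵁ W' z)
      ((hW' z).preimage N'.subschemeι) ?_
    rw [hl1 a, ← hz]
    have := hgle z
    rw [← hfac] at this
    exact this
  haveI : IsAffine N'.subscheme := by
    refine isAffine_of_partial_lifts z' (∑ a : s', l2 a * l1 a) ?_ ?_
    · refine Ideal.sum_mem _ (fun a _ => Ideal.mul_mem_left _ _ (Ideal.subset_span (haff1 a)))
    · rw [map_sum, ← hf]
      refine Finset.sum_congr rfl (fun a _ => ?_)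
      rw [map_mul, hl1, hl2, smul_eq_mul]
  refine NilAffH8.isAffine_of_nilpotent N'.subschemeι ?_
  obtain ⟨n, hn⟩ := hN'nil
  refine ⟨n, fun V => ?_⟩
  rw [Scheme.IdealSheafData.ker_subschemeι]
  exact congrArg (fun I : X.IdealSheafData => I.ideal V) hn

end main

end Groth.Agent.Lib.ThickAffH6
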