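import Mathlib
import Groth.Agent.Lib.DefTrivArt1_helper3
import Groth.Agent.Lib.ThickAff5_helper6

/-!
# Deformations of an affine scheme over a local Artinian `k`-algebra: geometry (helper3)

`exists_iso_trivial` : a flat deformation `X'` over `Spec A` of an affine `k`-scheme `X` whose ring of
functions admits sections (`HasSections`) is isomorphic to the product family.
-/

set_option autoImplicit false
set_option linter.unusedSectionVars false

universe u

open CategoryTheory CategoryTheory.Limits AlgebraicGeometry TensorProduct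

namespace Groth.Agent.Lib.DefTrivArtH3

section General

theorem hom_eq_of_affine {Y Z : Scheme.{u}} [IsAffine Y] [IsAffine Z] (f : Y ⟶ Z) :
    f = Y.isoSpec.hom ≫ Spec.map f.appTop ≫ Z.isoSpec.inv := by
  rw [← Category.assoc, Scheme.isoSpec_hom_naturality, Category.assoc, Iso.hom_inv_id,
    Category.comp_id]

theorem hom_to_Spec {Y : Scheme.{u}} [IsAffine Y] {R : CommRingCat.{u}} (f : Y ⟶ Spec R) :
    f = Y.isoSpec.hom ≫ Spec.map ((Scheme.ΓSpecIso R).inv ≫ f.appTop) := by
  conv_lhs => rw [hom_eq_of_affine f]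
  rw [Scheme.isoSpec_Spec_inv, Spec.map_comp]

theorem isoSpec_inv_appTop' (T : Scheme.{u}) [IsAffine T] :
    T.isoSpec.inv.appTop = (Scheme.ΓSpecIso Γ(T, ⊤)).inv := by
  have h : T.isoSpec.hom.appTop = (Scheme.ΓSpecIso Γ(T, ⊤)).hom := Scheme.toSpecΓ_appTop T
  have h2 : T.isoSpec.hom.appTop ≫ T.isoSpec.inv.appTop = 𝟙 _ := by
    rw [← Scheme.Hom.comp_appTop, Iso.inv_hom_id]
    rfl
  rw [h] at h2
  exact ((Iso.eq_inv_comp _).2 h2).trans (Category.comp_id _)

end General

/-- the algebraic input: flat deformations of `B₀` over `A` admit sections. -/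
def HasSections (k A : Type u) [Field k] [CommRing A] [Algebra k A] (m : Ideal A)
    (B₀ : Type u) [CommRing B₀] (η : k →+* B₀) : Prop :=
  ∀ (B' : Type u) [CommRing B'] (γ : A →+* B') (α : B' →+* B₀), γ.Flat →
    Function.Surjective α → RingHom.ker α = m.map γ →
    (∀ r : k, α (γ (algebraMap k A r)) = η r) →
    ∃ ρ : B₀ →+* B', (∀ c, α (ρ c) = c) ∧ ∀ r, ρ (η r) = γ (algebraMap k A r)

section Alg

variable {k A : Type u} [Field k] [CommRing A] [Algebra k A]

theorem hasSections_of_ringEquiv (m : Ideal A) {B₀ B₁ : Type u} [CommRing B₀] [CommRing B₁]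
    (η : k →+* B₀) (θ : B₀ ≃+* B₁) (h : HasSections k A m B₀ η) :
    HasSections k A m B₁ ((θ : B₀ →+* B₁).comp η) := by
  intro B' _ γ α hflat hα hker hαγ
  obtain ⟨ρ, h1, h2⟩ := h B' γ ((θ.symm : B₁ →+* B₀).comp α) hflat
    (θ.symm.surjective.comp hα)
    (by
      rw [← hker]
      ext x
      simp only [RingHom.mem_ker, RingHom.comp_apply, RingHom.coe_coe]
      exact map_eq_zero_iff _ θ.symm.injective)
    (fun r => by
      simp only [RingHom.comp_apply, RingHom.coe_coe] at hαγ ⊢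
      rw [hαγ, RingEquiv.symm_apply_apply])
  refine ⟨ρ.comp (θ.symm : B₁ →+* B₀), fun c => ?_, fun r => ?_⟩
  · have := h1 (θ.symm c)
    simp only [RingHom.comp_apply, RingHom.coe_coe] at this ⊢
    rw [← θ.apply_symm_apply (α _), this, RingEquiv.apply_symm_apply]
  · simp only [RingHom.comp_apply, RingHom.coe_coe, RingEquiv.symm_apply_apply]
    exact h2 r

/-- the pushout square from a section. -/
theorem isPushout_of_section {B₀ B' : Type u} [CommRing B₀] [CommRing B'] (m : Ideal A)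
    (hm : IsNilpotent m) (hdecA : ∀ a : A, ∃ r : k, a - algebraMap k A r ∈ m)
    (η : k →+* B₀) (γ : A →+* B') (α : B' →+* B₀) (ρ : B₀ →+* B') (hflat : γ.Flat)
    (hker : RingHom.ker α = m.map γ) (hαγ : ∀ r : k, α (γ (algebraMap k A r)) = η r)
    (hαρ : ∀ c, α (ρ c) = c) (hρη : ∀ r, ρ (η r) = γ (algebraMap k A r)) :
    IsPushout (CommRingCat.ofHom η) (CommRingCat.ofHom (algebraMap k A))
      (CommRingCat.ofHom ρ) (CommRingCat.ofHom γ) := by
  letI : Algebra k B₀ := η.toAlgebra
  letI : Algebra A B' := γ.toAlgebra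
  letI : Algebra k B' := (γ.comp (algebraMap k A)).toAlgebra
  haveI : IsScalarTower k A B' := IsScalarTower.of_algebraMap_eq (fun _ => rfl)
  haveI : Module.Flat A B' := hflat
  let α' : B' →ₐ[k] B₀ := { α with commutes' := fun r => hαγ r }
  let ρ' : B₀ →ₐ[k] B' := { ρ with commutes' := fun r => hρη r }
  have hbij := bijective_lift (k := k) (A := A) (B' := B') (B₀ := B₀) m hm hdecA α' hker ρ' hαρ
  let τe : A ⊗[k] B₀ ≃+* B' := RingEquiv.ofBijective _ hbij
  have h : IsPushout (CommRingCat.ofHom (algebraMap k A)) (CommRingCat.ofHom η)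
      (CommRingCat.ofHom γ) (CommRingCat.ofHom ρ) :=
    (CommRingCat.isPushout_tensorProduct k A B₀).of_iso (Iso.refl _) (Iso.refl _)
    (Iso.refl _) τe.toCommRingCatIso (by simp) (by simp)
    (by
      ext a
      show τe (a ⊗ₜ[k] (1 : B₀)) = γ a
      show algebraMap A B' a * ρ' 1 = γ a
      rw [map_one, mul_one]
      rfl)
    (by
      ext c
      show τe ((1 : A) ⊗ₜ[k] c) = ρ c
      show algebraMap A B' 1 * ρ' c = ρ c
      rw [map_one, one_mul]
      rfl)
  exact h.flip

end Alg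

section Geom

variable {k : Type u} [Field k] {A : Type u} [CommRing A] [IsLocalRing A] [IsArtinianRing A]
  [Algebra k A] (e : A →ₐ[k] k)

omit [IsLocalRing A] [IsArtinianRing A] in
theorem e_surjective : Function.Surjective e := fun r =>
  ⟨algebraMap k A r, e.commutes r⟩

theorem ker_e : RingHom.ker (e : A →+* k) = IsLocalRing.maximalIdeal A := by
  have hmax : (RingHom.ker (e : A →+* k)).IsMaximal :=
    RingHom.ker_isMaximal_of_surjective (e : A →+* k) (e_surjective e)
  exact IsLocalRing.eq_maximalIdeal hmax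

theorem isNilpotent_maximalIdeal : IsNilpotent (IsLocalRing.maximalIdeal A) := by
  rw [← IsLocalRing.jacobson_eq_maximalIdeal (⊥ : Ideal A) bot_ne_top]
  exact IsArtinianRing.isNilpotent_jacobson_bot

theorem surjective_Spec_e : Surjective (Spec.map (CommRingCat.ofHom e.toRingHom)) := by
  constructor
  intro q
  have hle : RingHom.ker (e : A →+* k) ≤ q.asIdeal := by
    rw [ker_e]
    intro x hx
    obtain ⟨n, hn⟩ := isNilpotent_maximalIdeal (A := A)
    have h1 : x ^ n ∈ q.asIdeal := by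
      have : x ^ n ∈ (IsLocalRing.maximalIdeal A) ^ n := Ideal.pow_mem_pow hx n
      rw [hn] at this
      have h0 : x ^ n = 0 := this
      rw [h0]; exact q.asIdeal.zero_mem
    exact q.isPrime.mem_of_pow_mem n h1
  have hmax : (RingHom.ker (e : A →+* k)).IsMaximal :=
    RingHom.ker_isMaximal_of_surjective (e : A →+* k) (e_surjective e)
  have heq : RingHom.ker (e : A →+* k) = q.asIdeal := hmax.eq_of_le q.isPrime.ne_top hle
  refine ⟨(⟨⊥, Ideal.isPrime_bot⟩ : PrimeSpectrum k), ?_⟩
  apply PrimeSpectrum.ext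
  show Ideal.comap (e : A →+* k) ⊥ = q.asIdeal
  rw [← heq]
  rfl

variable {X X' : Scheme.{u}} (hX : X ⟶ Spec (CommRingCat.of k))
  (g : X' ⟶ Spec (CommRingCat.of A)) (i : X ⟶ X')

noncomputable def etaC : CommRingCat.of k ⟶ Γ(X, ⊤) := (Scheme.ΓSpecIso _).inv ≫ hX.appTop

noncomputable def gammaC : CommRingCat.of A ⟶ Γ(X', ⊤) := (Scheme.ΓSpecIso _).inv ≫ g.appTop

theorem eq_etaC [IsAffine X] : hX = X.isoSpec.hom ≫ Spec.map (etaC hX) := hom_to_Spec hX

theorem eq_gammaC [IsAffine X'] : g = X'.isoSpec.hom ≫ Spec.map (gammaC g) := hom_to_Spec g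

theorem F1 (hw : i ≫ g = hX ≫ Spec.map (CommRingCat.ofHom e.toRingHom)) :
    gammaC g ≫ i.appTop = CommRingCat.ofHom e.toRingHom ≫ etaC hX := by
  calc gammaC g ≫ i.appTop = (Scheme.ΓSpecIso _).inv ≫ (i ≫ g).appTop := by
        rw [Scheme.Hom.comp_appTop, gammaC, Category.assoc]
    _ = (Scheme.ΓSpecIso _).inv ≫ (Spec.map (CommRingCat.ofHom e.toRingHom)).appTop ≫
          hX.appTop := by
        rw [hw, Scheme.Hom.comp_appTop]
    _ = CommRingCat.ofHom e.toRingHom ≫ etaC hX := by
        rw [← Category.assoc, ← Scheme.ΓSpecIso_inv_naturality, Category.assoc, etaC]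

/-- the kernel of `Γ(X') → Γ(X)` is generated by the maximal ideal of `A`. -/
theorem ker_le [IsAffine X']
    (hsq : IsPullback i hX g (Spec.map (CommRingCat.ofHom e.toRingHom))) (x : Γ(X', ⊤))
    (hx : i.appTop.hom x = 0) :
    x ∈ (RingHom.ker (e : A →+* k)).map (gammaC g).hom := by
  let I : Ideal Γ(X', ⊤) := (RingHom.ker (e : A →+* k)).map (gammaC g).hom
  let Q : CommRingCat.{u} := CommRingCat.of (Γ(X', ⊤) ⧸ I)
  let mk : Γ(X', ⊤) ⟶ Q := CommRingCat.ofHom (Ideal.Quotient.mk I)
  let κ : CommRingCat.of k ⟶ Q := CommRingCat.ofHom (algebraMap k A) ≫ gammaC g ≫ mk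
  have hκ : CommRingCat.ofHom e.toRingHom ≫ κ = gammaC g ≫ mk := by
    apply CommRingCat.hom_ext
    apply RingHom.ext
    intro a
    show Ideal.Quotient.mk I ((gammaC g).hom (algebraMap k A (e a))) =
      Ideal.Quotient.mk I ((gammaC g).hom a)
    rw [Ideal.Quotient.eq, ← map_sub]
    apply Ideal.mem_map_of_mem
    rw [RingHom.mem_ker, map_sub]
    show e (algebraMap k A (e a)) - e a = 0
    rw [e.commutes]
    exact sub_self _
  have hzw : (Spec.map mk ≫ X'.isoSpec.inv) ≫ g =
      Spec.map κ ≫ Spec.map (CommRingCat.ofHom e.toRingHom) := by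
    conv_lhs => rw [eq_gammaC g]
    simp only [Category.assoc, Iso.inv_hom_id_assoc, ← Spec.map_comp, hκ]
  have hl : hsq.lift (Spec.map mk ≫ X'.isoSpec.inv) (Spec.map κ) hzw ≫ i =
      Spec.map mk ≫ X'.isoSpec.inv := hsq.lift_fst _ _ _
  have hz : (Spec.map mk ≫ X'.isoSpec.inv).appTop = mk ≫ (Scheme.ΓSpecIso Q).inv := by
    rw [Scheme.Hom.comp_appTop, isoSpec_inv_appTop', ← Scheme.ΓSpecIso_inv_naturality]
  have h0 : (Spec.map mk ≫ X'.isoSpec.inv).appTop.hom x = 0 := by
    rw [← hl, Scheme.Hom.comp_appTop]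
    show (hsq.lift (Spec.map mk ≫ X'.isoSpec.inv) (Spec.map κ) hzw).appTop.hom
      (i.appTop.hom x) = 0
    rw [hx, map_zero]
  rw [hz] at h0
  have hmk : Ideal.Quotient.mk I x = 0 := by
    have hinj : Function.Injective (Scheme.ΓSpecIso Q).inv.hom :=
      (ConcreteCategory.bijective_of_isIso (Scheme.ΓSpecIso Q).inv).1
    apply hinj
    rw [map_zero]
    exact h0
  exact Ideal.Quotient.eq_zero_iff_mem.1 hmk

theorem exists_iso_trivial [IsAffine X] [Flat g]
    (hsq : IsPullback i hX g (Spec.map (CommRingCat.ofHom e.toRingHom)))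
    (hsec : HasSections k A (IsLocalRing.maximalIdeal A) Γ(X, ⊤) (etaC hX).hom) :
    ∃ φ : X' ≅ pullback hX (Spec.map (CommRingCat.ofHom (algebraMap k A))),
      φ.hom ≫ pullback.snd hX (Spec.map (CommRingCat.ofHom (algebraMap k A))) = g ∧
        i ≫ φ.hom ≫ pullback.fst hX (Spec.map (CommRingCat.ofHom (algebraMap k A))) = 𝟙 X := by
  -- `X'` is affine
  have hι₀c : IsClosedImmersion (Spec.map (CommRingCat.ofHom e.toRingHom)) :=
    IsClosedImmersion.spec_of_surjective (CommRingCat.ofHom e.toRingHom) (e_surjective e)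
  have hι₀s : Surjective (Spec.map (CommRingCat.ofHom e.toRingHom)) := surjective_Spec_e e
  have hic : IsClosedImmersion i :=
    MorphismProperty.of_isPullback (P := @IsClosedImmersion) hsq.flip hι₀c
  have his : Surjective i := MorphismProperty.of_isPullback (P := @Surjective) hsq.flip hι₀s
  have hX'aff : IsAffine X' := Groth.Agent.Lib.ThickAffH6.isAffine_of_thickening i
  -- ring data
  have f1 := F1 e hX g i hsq.w
  have h1 : ∀ a, i.appTop.hom ((gammaC g).hom a) = (etaC hX).hom (e a) :=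
    fun a => congrArg (fun φ => φ.hom a) f1
  have h2 : Function.Surjective i.appTop.hom :=
    (IsClosedImmersion.isAffine_surjective_of_isAffine i).2
  have hflat : (gammaC g).hom.Flat := by
    have h := (HasRingHomProperty.iff_of_isAffine (P := @Flat)).mp (inferInstance : Flat g)
    show (g.appTop.hom.comp (Scheme.ΓSpecIso _).inv.hom).Flat
    exact RingHom.Flat.comp
      (RingHom.Flat.of_bijective (ConcreteCategory.bijective_of_isIso (Scheme.ΓSpecIso _).inv)) h
  have hker : RingHom.ker i.appTop.hom =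
      (IsLocalRing.maximalIdeal A).map (gammaC g).hom := by
    rw [← ker_e e]
    apply le_antisymm
    · intro x hx
      exact ker_le e hX g i hsq x hx
    · rw [Ideal.map_le_iff_le_comap]
      intro a ha
      have ha' : e a = 0 := ha
      rw [Ideal.mem_comap, RingHom.mem_ker, h1, ha', map_zero]
  have hαγ : ∀ r : k, i.appTop.hom ((gammaC g).hom (algebraMap k A r)) = (etaC hX).hom r := by
    intro r
    rw [h1, e.commutes]
    rfl
  obtain ⟨ρ, hρ1, hρ2⟩ := hsec Γ(X', ⊤) (gammaC g).hom i.appTop.hom hflat h2 hker hαγ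
  have hdecA : ∀ a : A, ∃ r : k, a - algebraMap k A r ∈ IsLocalRing.maximalIdeal A := by
    intro a
    refine ⟨e a, ?_⟩
    rw [← ker_e e, RingHom.mem_ker, map_sub]
    show e a - e (algebraMap k A (e a)) = 0
    rw [e.commutes]
    exact sub_self _
  have hpo := isPushout_of_section (IsLocalRing.maximalIdeal A) isNilpotent_maximalIdeal hdecA
    (etaC hX).hom (gammaC g).hom i.appTop.hom ρ hflat hker hαγ hρ1 hρ2
  have hpb := isPullback_SpecMap_of_isPushout _ _ _ _ hpo
  have hmain : IsPullback (X'.isoSpec.hom ≫ Spec.map (CommRingCat.ofHom ρ) ≫ X.isoSpec.inv) g hX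
      (Spec.map (CommRingCat.ofHom (algebraMap k A))) := by
    refine IsPullback.of_iso hpb X'.isoSpec.symm X.isoSpec.symm (Iso.refl _) (Iso.refl _)
      ?_ ?_ ?_ ?_
    · simp only [Iso.symm_hom, Iso.inv_hom_id_assoc]
    · simp only [Iso.refl_hom, Category.comp_id, Iso.symm_hom]
      conv_rhs => rw [eq_gammaC g]
      rw [Iso.inv_hom_id_assoc]
      rfl
    · simp only [Iso.refl_hom, Category.comp_id, Iso.symm_hom]
      conv_rhs => rw [eq_etaC hX]
      rw [Iso.inv_hom_id_assoc]
      rfl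
    · simp only [Iso.refl_hom, Category.comp_id, Category.id_comp]
  have hρα : CommRingCat.ofHom ρ ≫ i.appTop = 𝟙 _ := CommRingCat.hom_ext (RingHom.ext hρ1)
  refine ⟨hmain.isoPullback, hmain.isoPullback_hom_snd, ?_⟩
  rw [hmain.isoPullback_hom_fst]
  have hi := hom_eq_of_affine i
  calc i ≫ X'.isoSpec.hom ≫ Spec.map (CommRingCat.ofHom ρ) ≫ X.isoSpec.inv
      = (X.isoSpec.hom ≫ Spec.map i.appTop ≫ X'.isoSpec.inv) ≫
          X'.isoSpec.hom ≫ Spec.map (CommRingCat.ofHom ρ) ≫ X.isoSpec.inv := by rw [← hi]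
    _ = X.isoSpec.hom ≫ Spec.map (CommRingCat.ofHom ρ ≫ i.appTop) ≫ X.isoSpec.inv := by
        simp only [Category.assoc, Iso.inv_hom_id_assoc, Spec.map_comp]
    _ = 𝟙 X := by
        rw [hρα, Spec.map_id]
        erw [Category.id_comp]
        exact Iso.hom_inv_id _

end Geom

end Groth.Agent.Lib.DefTrivArtH3
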