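import Mathlib
import Groth.Prelude.Def_ArtFun4
import Groth.Prelude.Def_Exal
import Groth.Agent.Lib.DefTrivArt3_helper3
import Groth.Agent.Lib.DefDual1_helper3

/-!
# First-order deformations and extensions: scheme level, part 1 (helper3)

For `X = Spec B` and a deformation `ξ` of `X` over an object `A` of `Art k k`:
* `ring_data` : the total space is affine and the ring data `(γ, α)`;
* `iso_iff_ringEquiv` : isomorphisms of deformations ↔ compatible ring isomorphisms.
-/

set_option autoImplicit false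
set_option linter.unusedSectionVars false

universe u

open CategoryTheory CategoryTheory.Limits AlgebraicGeometry

namespace Groth.Agent.Lib.DefDualH3

open Groth.Agent.Lib.DefTrivArtH3

section RingData

variable {k : Type u} [Field k] {A : Type u} [CommRing A] [IsLocalRing A] [IsArtinianRing A]
  [Algebra k A] (e : A →ₐ[k] k)
variable {X X' : Scheme.{u}} (hX : X ⟶ Spec (CommRingCat.of k))
  (g : X' ⟶ Spec (CommRingCat.of A)) (i : X ⟶ X')

theorem ring_data [IsAffine X] [Flat g]
    (hsq : IsPullback i hX g (Spec.map (CommRingCat.ofHom e.toRingHom))) :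
    IsAffine X' ∧ (∀ a, i.appTop.hom ((gammaC g).hom a) = (etaC hX).hom (e a)) ∧
      Function.Surjective i.appTop.hom ∧ (gammaC g).hom.Flat ∧
      RingHom.ker i.appTop.hom = (IsLocalRing.maximalIdeal A).map (gammaC g).hom := by
  have hι₀c : IsClosedImmersion (Spec.map (CommRingCat.ofHom e.toRingHom)) :=
    IsClosedImmersion.spec_of_surjective (CommRingCat.ofHom e.toRingHom) (e_surjective e)
  have hι₀s : Surjective (Spec.map (CommRingCat.ofHom e.toRingHom)) := surjective_Spec_e e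
  have hic : IsClosedImmersion i :=
    MorphismProperty.of_isPullback (P := @IsClosedImmersion) hsq.flip hι₀c
  have his : Surjective i := MorphismProperty.of_isPullback (P := @Surjective) hsq.flip hι₀s
  have hX'aff : IsAffine X' := Groth.Agent.Lib.ThickAffH6.isAffine_of_thickening i
  have f1 := F1 e hX g i hsq.w
  have h1 : ∀ a, i.appTop.hom ((gammaC g).hom a) = (etaC hX).hom (e a) :=
    fun a => congrArg (fun φ => φ.hom a) f1
  have h2 : Function.Surjective i.appTop.hom :=
    (IsClosedImmersion.isAffine_surjective_of_isAffine i).2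
  have hflat : (gammaC g).hom.Flat := by
    have h := (HasRingHomProperty.iff_of_isAffine (P := @Flat)).mp (inferInstance : Flat g)
    show (g.appTop.hom.comp (Scheme.ΓSpecIso _).inv.hom).Flat
    exact RingHom.Flat.comp
      (RingHom.Flat.of_bijective (ConcreteCategory.bijective_of_isIso (Scheme.ΓSpecIso _).inv)) h
  have hker : RingHom.ker i.appTop.hom =
      (IsLocalRing.maximalIdeal A).map (gammaC g).hom := by
    rw [← ker_e e]
    apply le_antisymm
    · intro x hx
      exact ker_le e hX g i hsq x hx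
    · rw [Ideal.map_le_iff_le_comap]
      intro a ha
      have ha' : e a = 0 := ha
      rw [Ideal.mem_comap, RingHom.mem_ker, h1, ha', map_zero]
  exact ⟨hX'aff, h1, h2, hflat, hker⟩

end RingData

section Iso

variable {k : Type u} [Field k] {B : Type u} [CommRing B] [Algebra k B] {A : ArtFun.Art k k}

/-- the identification `B ≃ Γ(Spec B)`. -/
noncomputable def theta (B : Type u) [CommRing B] : B ≃+* Γ(Spec (CommRingCat.of B), ⊤) :=
  (Scheme.ΓSpecIso (CommRingCat.of B)).symm.commRingCatIsoToRingEquiv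

theorem theta_apply (b : B) : theta B b = (Scheme.ΓSpecIso (CommRingCat.of B)).inv.hom b := rfl

theorem etaC_eq (r : k) :
    (etaC (Spec.map (CommRingCat.ofHom (algebraMap k B)))).hom r = theta B (algebraMap k B r) := by
  have h : etaC (Spec.map (CommRingCat.ofHom (algebraMap k B))) =
      CommRingCat.ofHom (algebraMap k B) ≫ (Scheme.ΓSpecIso (CommRingCat.of B)).inv := by
    rw [etaC, Scheme.ΓSpecIso_inv_naturality]
  rw [h]
  rfl

variable (ξ ξ' : ArtFun.DefSch (Spec (CommRingCat.of B))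
  (Spec.map (CommRingCat.ofHom (algebraMap k B))) A)

theorem isAffine_total : IsAffine ξ.total := by
  haveI : Flat ξ.f := ξ.flat
  exact (ring_data (A := A) A.res (Spec.map (CommRingCat.ofHom (algebraMap k B))) ξ.f ξ.i
    ξ.isPullback).1

theorem ringEquiv_of_iso (ψ : ξ.Iso ξ') :
    ∃ Ψ : Γ(ξ'.total, ⊤) ≃+* Γ(ξ.total, ⊤),
      (∀ a, Ψ ((gammaC ξ'.f).hom a) = (gammaC ξ.f).hom a) ∧
      ∀ y, ξ.i.appTop.hom (Ψ y) = ξ'.i.appTop.hom y := by
  let Ψ : Γ(ξ'.total, ⊤) ≃+* Γ(ξ.total, ⊤) :=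
    RingEquiv.ofRingHom ψ.iso.hom.appTop.hom ψ.iso.inv.appTop.hom
      (by
        have : ψ.iso.inv.appTop ≫ ψ.iso.hom.appTop = 𝟙 _ := by
          rw [← Scheme.Hom.comp_appTop, ψ.iso.hom_inv_id]; rfl
        ext y
        exact congrArg (fun φ => φ.hom y) this)
      (by
        have : ψ.iso.hom.appTop ≫ ψ.iso.inv.appTop = 𝟙 _ := by
          rw [← Scheme.Hom.comp_appTop, ψ.iso.inv_hom_id]; rfl
        ext y
        exact congrArg (fun φ => φ.hom y) this)
  refine ⟨Ψ, fun a => ?_, fun y => ?_⟩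
  · have h : gammaC ξ'.f ≫ ψ.iso.hom.appTop = gammaC ξ.f := by
      rw [gammaC, gammaC, Category.assoc, ← Scheme.Hom.comp_appTop, ψ.hom_f]
    exact congrArg (fun φ => φ.hom a) h
  · have h : ψ.iso.hom.appTop ≫ ξ.i.appTop = ξ'.i.appTop := by
      rw [← Scheme.Hom.comp_appTop, ψ.i_hom]
    exact congrArg (fun φ => φ.hom y) h

theorem iso_of_ringEquiv (Ψ : Γ(ξ'.total, ⊤) ≃+* Γ(ξ.total, ⊤))
    (hγ : ∀ a, Ψ ((gammaC ξ'.f).hom a) = (gammaC ξ.f).hom a)
    (hα : ∀ y, ξ.i.appTop.hom (Ψ y) = ξ'.i.appTop.hom y) : Nonempty (ξ.Iso ξ') := by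
  haveI := isAffine_total ξ
  haveI := isAffine_total ξ'
  let Ψc : Γ(ξ'.total, ⊤) ≅ Γ(ξ.total, ⊤) := Ψ.toCommRingCatIso
  have hΨc : Ψc.hom = CommRingCat.ofHom (Ψ : Γ(ξ'.total, ⊤) →+* Γ(ξ.total, ⊤)) := rfl
  let ψ : ξ.total ≅ ξ'.total :=
    ξ.total.isoSpec ≪≫ Scheme.Spec.mapIso Ψc.op ≪≫ ξ'.total.isoSpec.symm
  have hψ : ψ.hom = ξ.total.isoSpec.hom ≫ Spec.map Ψc.hom ≫ ξ'.total.isoSpec.inv := rfl
  have h1 : gammaC ξ'.f ≫ Ψc.hom = gammaC ξ.f := by
    apply CommRingCat.hom_ext
    apply RingHom.ext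
    intro a
    exact hγ a
  have h2 : Ψc.hom ≫ ξ.i.appTop = ξ'.i.appTop := by
    apply CommRingCat.hom_ext
    apply RingHom.ext
    intro y
    exact hα y
  refine ⟨{ iso := ψ, hom_f := ?_, i_hom := ?_ }⟩
  · rw [hψ]
    conv_lhs => rw [eq_gammaC ξ'.f]
    conv_rhs => rw [eq_gammaC ξ.f]
    simp only [Category.assoc, Iso.inv_hom_id_assoc, ← Spec.map_comp, h1]
  · rw [hψ]
    conv_lhs => rw [hom_eq_of_affine ξ.i]
    conv_rhs => rw [hom_eq_of_affine ξ'.i]
    simp only [Category.assoc, Iso.inv_hom_id_assoc]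
    rw [← Spec.map_comp_assoc, h2]

end Iso

end Groth.Agent.Lib.DefDualH3
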