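import Mathlib
import Groth.Agent.Lib.DefDual2_helper3

/-!
# First-order deformations and extensions: scheme level, part 2 (helper3)

`Rel ε ξ E` : the extension `E` of `B` by `B` is the one attached to the deformation `ξ` of `Spec B`
over a dual-number-like object `(A, ε)`.
* `exists_rel` : every deformation has an attached extension;
* `iso_iff_equiv` : isomorphic deformations ↔ equivalent extensions.
-/

set_option autoImplicit false
set_option linter.unusedSectionVars false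

universe u

open CategoryTheory CategoryTheory.Limits AlgebraicGeometry

namespace Groth.Agent.Lib.DefDualH3

open Groth.Agent.Lib.DefTrivArtH3

variable {k : Type u} [Field k] {B : Type u} [CommRing B] [Algebra k B] {A : ArtFun.Art k k}

/-- `(A, ε)` looks like the dual numbers. -/
structure IsDualLike (A : ArtFun.Art k k) (ε : A) : Prop where
  h1 : ε * ε = 0
  h2 : A.res ε = 0
  h3 : ∀ a : A, ∃ r s : k, a = algebraMap k A r + ε * algebraMap k A s
  h4 : ε ≠ 0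

theorem IsDualLike.maximalIdeal_eq {ε : A} (h : IsDualLike A ε) :
    IsLocalRing.maximalIdeal A = Ideal.span {ε} := by
  ext a
  rw [ArtFun.Art.mem_maximalIdeal_iff]
  constructor
  · intro ha
    obtain ⟨r, s, rfl⟩ := h.h3 a
    rw [map_add, map_mul, h.h2, zero_mul, add_zero, AlgHom.commutes] at ha
    have hr : r = 0 := ha
    rw [hr, map_zero, zero_add]
    exact Ideal.mul_mem_right _ _ (Ideal.mem_span_singleton_self ε)
  · intro ha
    obtain ⟨c, rfl⟩ := Ideal.mem_span_singleton'.1 ha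
    rw [map_mul, h.h2, mul_zero]

/-- the extension attached to a deformation. -/
def Rel (ε : A) (ξ : ArtFun.DefSch (Spec (CommRingCat.of B))
    (Spec.map (CommRingCat.ofHom (algebraMap k B))) A) (E : Exal.Ext k B B) : Prop :=
  ∃ Φ : E.E ≃+* Γ(ξ.total, ⊤),
    (∀ r : k, Φ (algebraMap k E.E r) = (gammaC ξ.f).hom (algebraMap k A r)) ∧
    (∀ y : E.E, ξ.i.appTop.hom (Φ y) = theta B (E.proj y)) ∧
    Φ (E.incl 1) = (gammaC ξ.f).hom ε

variable {ε : A} (hε : IsDualLike A ε)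

include hε in
theorem exists_rel (ξ : ArtFun.DefSch (Spec (CommRingCat.of B))
    (Spec.map (CommRingCat.ofHom (algebraMap k B))) A) : ∃ E : Exal.Ext k B B, Rel ε ξ E := by
  haveI : Flat ξ.f := ξ.flat
  obtain ⟨-, h1', h2', hflat, hker⟩ := ring_data (A := A) A.res
    (Spec.map (CommRingCat.ofHom (algebraMap k B))) ξ.f ξ.i ξ.isPullback
  have d4 : RingHom.ker ξ.i.appTop.hom = Ideal.span {(gammaC ξ.f).hom ε} := by
    rw [hker, hε.maximalIdeal_eq, Ideal.map_span, Set.image_singleton]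
  have d1 : ∀ a, ξ.i.appTop.hom ((gammaC ξ.f).hom a) = theta B (algebraMap k B (A.res a)) := by
    intro a
    rw [h1', etaC_eq]
  obtain ⟨E, Φ, p1, p2, p3⟩ := exists_ext_of_data (k := k) (B := B) (A := A) A.res ε hε.h1 hε.h2
    hε.h3 hε.h4 (gammaC ξ.f).hom ξ.i.appTop.hom (theta B) d1 h2' hflat d4
  exact ⟨E, Φ, p1, p2, p3⟩

include hε in
theorem iso_iff_equiv (ξ ξ' : ArtFun.DefSch (Spec (CommRingCat.of B))
    (Spec.map (CommRingCat.ofHom (algebraMap k B))) A) (E E' : Exal.Ext k B B)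
    (h : Rel ε ξ E) (h' : Rel ε ξ' E') : Nonempty (ξ.Iso ξ') ↔ Nonempty (E.Equiv E') := by
  obtain ⟨Φ, p1, p2, p3⟩ := h
  obtain ⟨Φ', p1', p2', p3'⟩ := h'
  constructor
  · rintro ⟨ψ⟩
    obtain ⟨Ψ, hΨγ, hΨα⟩ := ringEquiv_of_iso ξ ξ' ψ
    obtain ⟨ω⟩ := equiv_of_ringEquiv E' E (gammaC ξ'.f).hom ξ'.i.appTop.hom (gammaC ξ.f).hom
      ξ.i.appTop.hom (theta B) Φ' Φ ε p1' p2' p3' p1 p2 p3 Ψ hΨγ hΨα
    exact ⟨ω.symm⟩
  · rintro ⟨ω⟩
    obtain ⟨Ψ, hΨγ, hΨα⟩ := ringEquiv_of_equiv E E' (gammaC ξ.f).hom ξ.i.appTop.hom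
      (gammaC ξ'.f).hom ξ'.i.appTop.hom (theta B) Φ Φ' ε hε.h3 p1 p2 p3 p1' p2' p3' ω
    obtain ⟨ψ⟩ := iso_of_ringEquiv ξ' ξ Ψ hΨγ hΨα
    exact ⟨ψ.symm⟩

end Groth.Agent.Lib.DefDualH3
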