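import Mathlib
import Groth.Prelude.Def_Exal2

set_option autoImplicit false
universe u

namespace Groth.Agent.Lib.ExtDerH1

attribute [local instance] Exal.opModule Exal.isCentralScalar_opModule

section Basic

variable {A : Type u} {B L : Type u} [CommRing A] [CommRing B] [Algebra A B] [AddCommGroup L]
  [Module B L]

theorem proj_incl (X : Exal.Ext A B L) (z : L) : X.proj (X.incl z) = 0 :=
  (X.isExtension.exact _).2 ⟨z, rfl⟩

theorem incl_mul_incl (X : Exal.Ext A B L) (z z' : L) : X.incl z * X.incl z' = 0 := by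
  rw [X.isExtension.mul_incl, proj_incl, zero_smul, map_zero]

section Delta

variable {X : Exal.Ext A B L} (s : B →+* X.E) (hs : ∀ b, X.proj (s b) = b)

/-- The difference of an element from the section, as an element of `L`. -/
noncomputable def delta (x : X.E) : L :=
  X.kerLift (x - s (X.proj x)) (by rw [map_sub, hs, sub_self])

theorem incl_delta (x : X.E) : X.incl (delta s hs x) = x - s (X.proj x) :=
  X.incl_kerLift _ _

theorem delta_add (x y : X.E) : delta s hs (x + y) = delta s hs x + delta s hs y := by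
  apply X.isExtension.incl_injective
  rw [map_add, incl_delta, incl_delta, incl_delta, map_add, map_add]; ring

theorem delta_zero : delta s hs 0 = 0 := by
  apply X.isExtension.incl_injective
  rw [incl_delta, map_zero, map_zero, map_zero, sub_self]

theorem delta_one : delta s hs 1 = 0 := by
  apply X.isExtension.incl_injective
  rw [incl_delta, map_one, map_one, map_zero, sub_self]

theorem delta_mul (x y : X.E) :
    delta s hs (x * y) = X.proj x • delta s hs y + X.proj y • delta s hs x := by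
  apply X.isExtension.incl_injective
  have h0 := incl_mul_incl X (delta s hs x) (delta s hs y)
  rw [incl_delta, incl_delta] at h0
  rw [map_add, ← X.isExtension.mul_incl, ← X.isExtension.mul_incl, incl_delta, incl_delta,
    incl_delta, map_mul, map_mul]
  linear_combination (-1 : X.E) * h0

theorem delta_section (b : B) : delta s hs (s b) = 0 := by
  apply X.isExtension.incl_injective
  rw [incl_delta, hs, sub_self, map_zero]

theorem delta_incl (z : L) : delta s hs (X.incl z) = z := by
  apply X.isExtension.incl_injective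
  rw [incl_delta, proj_incl, map_zero, sub_zero]

end Delta

/-- Twist a ring homomorphism into the middle ring by a derivation-like map. -/
noncomputable def twist {C : Type u} [CommRing C] (X : Exal.Ext A B L) (q : C →+* B)
    (t : C →+* X.E) (ht : ∀ c, X.proj (t c) = q c) (d : C → L) (hd0 : d 0 = 0)
    (hda : ∀ c c', d (c + c') = d c + d c') (hd1 : d 1 = 0)
    (hdm : ∀ c c', d (c * c') = q c • d c' + q c' • d c) : C →+* X.E where
  toFun c := t c + X.incl (d c)
  map_one' := by
    show t 1 + X.incl (d 1) = 1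
    rw [map_one, hd1, map_zero, add_zero]
  map_mul' c c' := by
    show t (c * c') + X.incl (d (c * c')) = (t c + X.incl (d c)) * (t c' + X.incl (d c'))
    have h1 : t c * X.incl (d c') = X.incl (q c • d c') := by rw [X.isExtension.mul_incl, ht]
    have h2 : t c' * X.incl (d c) = X.incl (q c' • d c) := by rw [X.isExtension.mul_incl, ht]
    have h3 := incl_mul_incl X (d c) (d c')
    rw [map_mul, hdm, map_add]
    linear_combination (-1 : X.E) * h1 - h2 - h3
  map_zero' := by
    show t 0 + X.incl (d 0) = 0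
    rw [map_zero, hd0, map_zero, add_zero]
  map_add' c c' := by
    show t (c + c') + X.incl (d (c + c')) = (t c + X.incl (d c)) + (t c' + X.incl (d c'))
    rw [map_add, hda, map_add]; abel

section Transfer

variable {X X' : Exal.Ext A B L} (s : B →+* X.E) (hs : ∀ b, X.proj (s b) = b)
  (s' : B →+* X'.E) (hs' : ∀ b, X'.proj (s' b) = b)

/-- The comparison map between two extensions with sections. -/
noncomputable def transfer : X.E →+* X'.E :=
  twist X' (X.proj : X.E →+* B) (s'.comp (X.proj : X.E →+* B))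
    (fun _ => hs' _) (delta s hs) (delta_zero _ _) (delta_add _ _)
    (delta_one _ _) (delta_mul _ _)

theorem transfer_apply (x : X.E) :
    transfer s hs s' hs' x = s' (X.proj x) + X'.incl (delta s hs x) := rfl

theorem proj_transfer (x : X.E) : X'.proj (transfer s hs s' hs' x) = X.proj x := by
  rw [transfer_apply, map_add, hs', proj_incl, add_zero]

theorem transfer_incl (z : L) : transfer s hs s' hs' (X.incl z) = X'.incl z := by
  rw [transfer_apply, proj_incl, map_zero, zero_add, delta_incl]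

theorem transfer_bijective : Function.Bijective (transfer s hs s' hs') := by
  constructor
  · rw [injective_iff_map_eq_zero]
    intro x hx
    have hp : X.proj x = 0 := by rw [← proj_transfer s hs s' hs' x, hx, map_zero]
    rw [transfer_apply, hp, map_zero, zero_add] at hx
    have hd : delta s hs x = 0 :=
      X'.isExtension.incl_injective (by rw [hx, map_zero])
    have := incl_delta s hs x
    rw [hd, hp, map_zero, map_zero, sub_zero] at this
    exact this.symm
  · intro x'
    refine ⟨s (X'.proj x') + X.incl (delta s' hs' x'), ?_⟩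
    have hp : X.proj (s (X'.proj x') + X.incl (delta s' hs' x')) = X'.proj x' := by
      rw [map_add, hs, proj_incl, add_zero]
    have hd : delta s hs (s (X'.proj x') + X.incl (delta s' hs' x'))
        = delta s' hs' x' := by
      apply X.isExtension.incl_injective
      rw [incl_delta, hp]
      ring
    rw [transfer_apply, hp, hd, incl_delta]
    ring

end Transfer

theorem equiv_of_isTrivial {X X' : Exal.Ext A B L} (h : X.IsTrivial) (h' : X'.IsTrivial) :
    Nonempty (X.Equiv X') := by
  obtain ⟨s, hs⟩ := h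
  obtain ⟨s', hs'⟩ := h'
  have hs1 : ∀ b, X.proj ((s : B →+* X.E) b) = b := hs
  have hs1' : ∀ b, X'.proj ((s' : B →+* X'.E) b) = b := hs'
  have hcomm : ∀ a : A, transfer (s : B →+* X.E) hs1 (s' : B →+* X'.E) hs1'
      (algebraMap A X.E a) = algebraMap A X'.E a := by
    intro a
    have h1 : delta (s : B →+* X.E) hs1 (algebraMap A X.E a) = 0 := by
      have : algebraMap A X.E a = (s : B →+* X.E) (algebraMap A B a) := (s.commutes a).symm
      rw [this]; exact delta_section _ hs1 _
    rw [transfer_apply, h1, map_zero, add_zero, AlgHom.commutes]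
    exact s'.commutes a
  exact ⟨{ toAlgEquiv := AlgEquiv.ofRingEquiv (f := RingEquiv.ofBijective _
            (transfer_bijective (s : B →+* X.E) hs1 (s' : B →+* X'.E) hs1')) hcomm
           proj_apply := fun x => proj_transfer _ hs1 _ hs1' x
           apply_incl := fun z => transfer_incl _ hs1 _ hs1' z }⟩

theorem isTrivial_of_equiv {X X' : Exal.Ext A B L} (e : X.Equiv X') (h : X'.IsTrivial) :
    X.IsTrivial := by
  obtain ⟨s', hs'⟩ := h
  refine ⟨e.toAlgEquiv.symm.toAlgHom.comp s', fun b => ?_⟩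
  exact (e.symm.proj_apply (s' b)).trans (hs' b)

theorem trivial_isTrivial : (Exal.Ext.trivial A B L).IsTrivial :=
  ⟨{ toFun := fun b => TrivSqZeroExt.inlHom B L b
     map_one' := map_one (TrivSqZeroExt.inlHom B L)
     map_mul' := map_mul (TrivSqZeroExt.inlHom B L)
     map_zero' := map_zero (TrivSqZeroExt.inlHom B L)
     map_add' := map_add (TrivSqZeroExt.inlHom B L)
     commutes' := fun _ => rfl }, fun _ => rfl⟩

end Basic

section Baer

variable {k R L : Type u} [CommRing k] [CommRing R] [Algebra k R] [AddCommGroup L] [Module R L]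
variable (Y Y' : Exal.Ext k R L)

/-- The fibre product of the two middle rings over `R`. -/
def fib : Subalgebra k (Y.E × Y'.E) :=
  AlgHom.equalizer (Y.proj.comp (AlgHom.fst k Y.E Y'.E)) (Y'.proj.comp (AlgHom.snd k Y.E Y'.E))

theorem mem_fib (p : Y.E × Y'.E) : p ∈ fib Y Y' ↔ Y.proj p.1 = Y'.proj p.2 := Iff.rfl

/-- The diagonal copy of `L` in the fibre product. -/
def diag : Ideal (fib Y Y') where
  carrier := {p | ∃ z : L, (p : Y.E × Y'.E) = (Y.incl z, Y'.incl z)}
  add_mem' := by
    rintro p p' ⟨z, hz⟩ ⟨z', hz'⟩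
    refine ⟨z + z', ?_⟩
    rw [Subalgebra.coe_add, hz, hz', map_add, map_add]; rfl
  zero_mem' := ⟨0, by rw [map_zero, map_zero]; rfl⟩
  smul_mem' := by
    rintro c p ⟨z, hz⟩
    refine ⟨Y.proj (c : Y.E × Y'.E).1 • z, ?_⟩
    have hc : Y.proj (c : Y.E × Y'.E).1 = Y'.proj (c : Y.E × Y'.E).2 := c.2
    rw [smul_eq_mul, Subalgebra.coe_mul, hz]
    refine Prod.ext ?_ ?_
    · show (c : Y.E × Y'.E).1 * Y.incl z = Y.incl (Y.proj (c : Y.E × Y'.E).1 • z)
      rw [Y.isExtension.mul_incl]
    · show (c : Y.E × Y'.E).2 * Y'.incl z = Y'.incl (Y.proj (c : Y.E × Y'.E).1 • z)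
      rw [Y'.isExtension.mul_incl, hc]

theorem mem_diag (p : fib Y Y') :
    p ∈ diag Y Y' ↔ ∃ z : L, (p : Y.E × Y'.E) = (Y.incl z, Y'.incl z) := Iff.rfl

/-- The projection of the fibre product to `R`. -/
def fibProj : fib Y Y' →ₐ[k] R :=
  Y.proj.comp ((AlgHom.fst k Y.E Y'.E).comp (fib Y Y').val)

theorem fibProj_apply (p : fib Y Y') : fibProj Y Y' p = Y.proj (p : Y.E × Y'.E).1 := rfl

theorem fibProj_diag (p : fib Y Y') (hp : p ∈ diag Y Y') : fibProj Y Y' p = 0 := by
  obtain ⟨z, hz⟩ := hp
  rw [fibProj_apply, hz]; exact proj_incl Y z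

/-- `L` into the fibre product through the first factor. -/
def fibIncl : L →+ fib Y Y' where
  toFun z := ⟨(Y.incl z, 0), by
    rw [mem_fib]; show Y.proj (Y.incl z) = Y'.proj 0; rw [proj_incl, map_zero]⟩
  map_zero' := Subtype.ext (Prod.ext (map_zero _) rfl)
  map_add' z z' := Subtype.ext (Prod.ext (map_add _ _ _) (add_zero 0).symm)

/-- The projection of the Baer difference. -/
noncomputable def baerProj : (fib Y Y' ⧸ diag Y Y') →ₐ[k] R :=
  Ideal.Quotient.liftₐ (diag Y Y') (fibProj Y Y') (fun p hp => fibProj_diag Y Y' p hp)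

theorem baerProj_mk (p : fib Y Y') :
    baerProj Y Y' (Ideal.Quotient.mk (diag Y Y') p) = Y.proj (p : Y.E × Y'.E).1 := rfl

/-- The inclusion of the Baer difference. -/
noncomputable def baerIncl : L →+ (fib Y Y' ⧸ diag Y Y') :=
  (Ideal.Quotient.mk (diag Y Y')).toAddMonoidHom.comp (fibIncl Y Y')

theorem baerIncl_apply (z : L) :
    baerIncl Y Y' z = Ideal.Quotient.mk (diag Y Y') (fibIncl Y Y' z) := rfl

theorem baer_isExtension : Exal.IsExtension (A := k) (B := R) (E := fib Y Y' ⧸ diag Y Y') (L := L)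
    (baerProj Y Y') (baerIncl Y Y') where
  proj_surjective r := by
    obtain ⟨y, hy⟩ := Y.isExtension.proj_surjective r
    obtain ⟨y', hy'⟩ := Y'.isExtension.proj_surjective r
    exact ⟨Ideal.Quotient.mk _ ⟨(y, y'), by rw [mem_fib]; exact hy.trans hy'.symm⟩, hy⟩
  incl_injective := by
    rw [injective_iff_map_eq_zero]
    intro z hz
    rw [baerIncl_apply, Ideal.Quotient.eq_zero_iff_mem] at hz
    obtain ⟨w, hw⟩ := hz
    have h1 : Y.incl z = Y.incl w := congrArg Prod.fst hw
    have h2 : (0 : Y'.E) = Y'.incl w := congrArg Prod.snd hw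
    have hw0 : w = 0 := Y'.isExtension.incl_injective (by rw [← h2, map_zero])
    rw [hw0, map_zero] at h1
    exact Y.isExtension.incl_injective (by rw [h1, map_zero])
  exact x := by
    obtain ⟨⟨⟨y, y'⟩, hp⟩, rfl⟩ := Ideal.Quotient.mk_surjective x
    have hp' : Y.proj y = Y'.proj y' := hp
    constructor
    · intro h
      have hy : Y.proj y = 0 := h
      obtain ⟨z₁, hz₁⟩ := (Y.isExtension.exact y).1 hy
      obtain ⟨z₂, hz₂⟩ := (Y'.isExtension.exact y').1 (by rw [← hp', hy])
      refine ⟨z₁ - z₂, ?_⟩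
      rw [baerIncl_apply, Ideal.Quotient.eq]
      refine ⟨-z₂, ?_⟩
      rw [Subalgebra.coe_sub]
      refine Prod.ext ?_ ?_
      · show Y.incl (z₁ - z₂) - y = Y.incl (-z₂)
        rw [map_sub, map_neg, hz₁]; ring
      · show (0 : Y'.E) - y' = Y'.incl (-z₂)
        rw [map_neg, hz₂, zero_sub]
    · rintro ⟨z, hz⟩
      have := congrArg (baerProj Y Y') hz
      rw [← this]; exact proj_incl Y z
  mul_incl x z := by
    obtain ⟨⟨⟨y, y'⟩, hp⟩, rfl⟩ := Ideal.Quotient.mk_surjective x
    rw [baerIncl_apply, baerIncl_apply, ← map_mul]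
    congr 1
    apply Subtype.ext
    refine Prod.ext ?_ ?_
    · show y * Y.incl z = Y.incl (Y.proj y • z)
      rw [Y.isExtension.mul_incl]
    · show y' * 0 = 0
      rw [mul_zero]

theorem equiv_of_baer_section (σ : R →ₐ[k] (fib Y Y' ⧸ diag Y Y'))
    (hσ : ∀ r, baerProj Y Y' (σ r) = r) : Nonempty (Y.Equiv Y') := by
  obtain ⟨G, hG⟩ : ∃ G : Subalgebra k (fib Y Y'), ∀ p : fib Y Y',
      p ∈ G ↔ Ideal.Quotient.mk (diag Y Y') p = σ (Y.proj (p : Y.E × Y'.E).1) :=
    ⟨AlgHom.equalizer (Ideal.Quotient.mkₐ k (diag Y Y')) (σ.comp (fibProj Y Y')),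
      fun _ => Iff.rfl⟩
  let f1 : G →ₐ[k] Y.E := ((AlgHom.fst k Y.E Y'.E).comp (fib Y Y').val).comp G.val
  let f2 : G →ₐ[k] Y'.E := ((AlgHom.snd k Y.E Y'.E).comp (fib Y Y').val).comp G.val
  have hf1 : Function.Bijective f1 := by
    constructor
    · rw [injective_iff_map_eq_zero]
      rintro ⟨⟨⟨y, y'⟩, hF⟩, hg⟩ h0
      have hy : y = 0 := h0
      subst hy
      have hF' : Y.proj 0 = Y'.proj y' := hF
      rw [map_zero] at hF'
      obtain ⟨z, rfl⟩ := (Y'.isExtension.exact y').1 hF'.symm
      have hg' := (hG _).1 hg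
      have hg'' : Ideal.Quotient.mk (diag Y Y') ⟨(0, Y'.incl z), hF⟩ = σ (Y.proj 0) := hg'
      rw [map_zero, map_zero, Ideal.Quotient.eq_zero_iff_mem] at hg''
      obtain ⟨w, hw⟩ := hg''
      have h1 : (0 : Y.E) = Y.incl w := congrArg Prod.fst hw
      have h2 : Y'.incl z = Y'.incl w := congrArg Prod.snd hw
      have hw0 : w = 0 := Y.isExtension.incl_injective (by rw [← h1, map_zero])
      rw [hw0, map_zero] at h2
      apply Subtype.ext; apply Subtype.ext
      exact Prod.ext rfl h2
    · intro y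
      obtain ⟨⟨⟨y₁, y₁'⟩, hF⟩, h⟩ := Ideal.Quotient.mk_surjective (σ (Y.proj y))
      have hF' : Y.proj y₁ = Y'.proj y₁' := hF
      have hp : Y.proj y₁ = Y.proj y := by
        have := congrArg (baerProj Y Y') h
        rw [hσ] at this
        exact this
      obtain ⟨z, hz⟩ := (Y.isExtension.exact (y - y₁)).1 (by rw [map_sub, hp, sub_self])
      have hmem : ((y, y₁' + Y'.incl z) : Y.E × Y'.E) ∈ fib Y Y' := by
        rw [mem_fib]
        show Y.proj y = Y'.proj (y₁' + Y'.incl z)
        rw [map_add, proj_incl, add_zero, ← hF', hp]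
      have hmemG : (⟨_, hmem⟩ : fib Y Y') ∈ G := by
        rw [hG]
        show Ideal.Quotient.mk (diag Y Y') _ = σ (Y.proj y)
        rw [← h, Ideal.Quotient.eq]
        refine ⟨z, ?_⟩
        rw [Subalgebra.coe_sub]
        refine Prod.ext ?_ ?_
        · show y - y₁ = Y.incl z
          exact hz.symm
        · show y₁' + Y'.incl z - y₁' = Y'.incl z
          ring
      exact ⟨⟨⟨_, hmem⟩, hmemG⟩, rfl⟩
  have hf2 : Function.Bijective f2 := by
    constructor
    · rw [injective_iff_map_eq_zero]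
      rintro ⟨⟨⟨y, y'⟩, hF⟩, hg⟩ h0
      have hy : y' = 0 := h0
      subst hy
      have hF' : Y.proj y = Y'.proj 0 := hF
      rw [map_zero] at hF'
      obtain ⟨z, rfl⟩ := (Y.isExtension.exact y).1 hF'
      have hg' := (hG _).1 hg
      have hg'' : Ideal.Quotient.mk (diag Y Y') ⟨(Y.incl z, 0), hF⟩ = σ (Y.proj (Y.incl z)) := hg'
      rw [proj_incl, map_zero, Ideal.Quotient.eq_zero_iff_mem] at hg''
      obtain ⟨w, hw⟩ := hg''
      have h1 : Y.incl z = Y.incl w := congrArg Prod.fst hw
      have h2 : (0 : Y'.E) = Y'.incl w := congrArg Prod.snd hw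
      have hw0 : w = 0 := Y'.isExtension.incl_injective (by rw [← h2, map_zero])
      rw [hw0, map_zero] at h1
      apply Subtype.ext; apply Subtype.ext
      exact Prod.ext h1 rfl
    · intro y'
      obtain ⟨⟨⟨y₁, y₁'⟩, hF⟩, h⟩ := Ideal.Quotient.mk_surjective (σ (Y'.proj y'))
      have hF' : Y.proj y₁ = Y'.proj y₁' := hF
      have hp : Y.proj y₁ = Y'.proj y' := by
        have := congrArg (baerProj Y Y') h
        rw [hσ] at this
        exact this
      obtain ⟨z, hz⟩ := (Y'.isExtension.exact (y' - y₁')).1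
        (by rw [map_sub, ← hF', hp, sub_self])
      have hmem : ((y₁ + Y.incl z, y') : Y.E × Y'.E) ∈ fib Y Y' := by
        rw [mem_fib]
        show Y.proj (y₁ + Y.incl z) = Y'.proj y'
        rw [map_add, proj_incl, add_zero, hp]
      have hmemG : (⟨_, hmem⟩ : fib Y Y') ∈ G := by
        rw [hG]
        show Ideal.Quotient.mk (diag Y Y') _ = σ (Y.proj (y₁ + Y.incl z))
        rw [map_add, proj_incl, add_zero, hp, ← h, Ideal.Quotient.eq]
        refine ⟨z, ?_⟩
        rw [Subalgebra.coe_sub]
        refine Prod.ext ?_ ?_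
        · show y₁ + Y.incl z - y₁ = Y.incl z
          ring
        · show y' - y₁' = Y'.incl z
          exact hz.symm
      exact ⟨⟨⟨_, hmem⟩, hmemG⟩, rfl⟩
  refine ⟨{ toAlgEquiv := (AlgEquiv.ofBijective f1 hf1).symm.trans (AlgEquiv.ofBijective f2 hf2)
            proj_apply := ?_
            apply_incl := ?_ }⟩
  · intro y
    obtain ⟨g, rfl⟩ := hf1.2 y
    have h1 : (AlgEquiv.ofBijective f1 hf1).symm (f1 g) = g :=
      (AlgEquiv.ofBijective f1 hf1).symm_apply_apply g
    rw [AlgEquiv.trans_apply, h1]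
    exact ((g : fib Y Y').2 : Y.proj ((g : fib Y Y') : Y.E × Y'.E).1
      = Y'.proj ((g : fib Y Y') : Y.E × Y'.E).2).symm
  · intro z
    have hmem : ((Y.incl z, Y'.incl z) : Y.E × Y'.E) ∈ fib Y Y' := by
      rw [mem_fib]
      show Y.proj (Y.incl z) = Y'.proj (Y'.incl z)
      rw [proj_incl, proj_incl]
    have hmemG : (⟨_, hmem⟩ : fib Y Y') ∈ G := by
      rw [hG]
      show Ideal.Quotient.mk (diag Y Y') _ = σ (Y.proj (Y.incl z))
      rw [proj_incl, map_zero, Ideal.Quotient.eq_zero_iff_mem]
      exact ⟨z, rfl⟩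
    have h1 : (AlgEquiv.ofBijective f1 hf1).symm (Y.incl z) = ⟨⟨_, hmem⟩, hmemG⟩ := by
      rw [AlgEquiv.symm_apply_eq]; rfl
    rw [AlgEquiv.trans_apply, h1]; rfl

end Baer

section Main

variable {k Λ R L : Type u} [CommRing k] [CommRing Λ] [CommRing R] [Algebra k Λ] [Algebra Λ R]
  [Algebra k R] [IsScalarTower k Λ R] [AddCommGroup L] [Module R L] [Module Λ L]
  [IsScalarTower Λ R L]

/-- The first projection of an inverse image. -/
noncomputable def pullFst (Y : Exal.Ext k R L) : (Y.pullback Λ).E →ₐ[k] Y.E :=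
  (AlgHom.fst k Y.E Λ).comp (Y.fiberProd Λ).val

theorem pullFst_proj (Y : Exal.Ext k R L) (p : (Y.pullback Λ).E) :
    Y.proj (pullFst Y p) = algebraMap Λ R ((Y.pullback Λ).proj p) := by
  have h : ∀ q : ↥(Y.fiberProd Λ), Y.proj (q : Y.E × Λ).1 = algebraMap Λ R (q : Y.E × Λ).2 :=
    fun q => q.2
  exact h p

theorem pullFst_incl (Y : Exal.Ext k R L) (z : L) :
    pullFst Y ((Y.pullback Λ).incl z) = Y.incl z := rfl

theorem pullback_isTrivial (Y : Exal.Ext k R L) (h : Y.IsTrivial) : (Y.pullback Λ).IsTrivial := by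
  obtain ⟨s, hs⟩ := h
  refine ⟨AlgHom.codRestrict (AlgHom.prod (s.comp (IsScalarTower.toAlgHom k Λ R))
    (AlgHom.id k Λ)) _ (fun a => ?_), fun a => rfl⟩
  show Y.proj (s (algebraMap Λ R a)) = algebraMap Λ R a
  exact hs _

/-- The structure map of a `Λ`-extension as a `k`-algebra map. -/
noncomputable def algHomRestrict (X : Exal.Ext Λ R L) : Λ →ₐ[k] (X.restrictBase k).E where
  toFun a := (algebraMap Λ X.E a : X.E)
  map_one' := map_one (algebraMap Λ X.E)
  map_mul' := map_mul (algebraMap Λ X.E)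
  map_zero' := map_zero (algebraMap Λ X.E)
  map_add' := map_add (algebraMap Λ X.E)
  commutes' := fun _ => rfl

theorem pullback_restrict_isTrivial (X : Exal.Ext Λ R L) :
    ((X.restrictBase k).pullback Λ).IsTrivial := by
  refine ⟨AlgHom.codRestrict (AlgHom.prod (algHomRestrict X) (AlgHom.id k Λ)) _ (fun a => ?_),
    fun a => rfl⟩
  show X.proj (algebraMap Λ X.E a) = algebraMap Λ R a
  exact X.proj.commutes a

section BaerLam

variable {Y Y' : Exal.Ext k R L} (e : (Y.pullback Λ).Equiv (Y'.pullback Λ))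

/-- The map from the inverse image to the fibre product of the middle rings. -/
noncomputable def theta : (Y.pullback Λ).E →ₐ[k] fib Y Y' :=
  AlgHom.codRestrict (AlgHom.prod (pullFst Y) ((pullFst Y').comp e.toAlgEquiv.toAlgHom))
    (fib Y Y') (fun p => by
      rw [mem_fib]
      show Y.proj (pullFst Y p) = Y'.proj (pullFst Y' (e.toAlgEquiv p))
      rw [pullFst_proj, pullFst_proj, e.proj_apply])

theorem theta_incl_mem (z : L) : theta e ((Y.pullback Λ).incl z) ∈ diag Y Y' := by
  refine ⟨z, ?_⟩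
  refine Prod.ext ?_ ?_
  · rfl
  · show pullFst Y' (e.toAlgEquiv ((Y.pullback Λ).incl z)) = Y'.incl z
    rw [e.apply_incl]; rfl

/-- The map from the inverse image to the Baer difference. -/
noncomputable def phi : (Y.pullback Λ).E →ₐ[k] (fib Y Y' ⧸ diag Y Y') :=
  (Ideal.Quotient.mkₐ k (diag Y Y')).comp (theta e)

theorem phi_apply (p : (Y.pullback Λ).E) :
    phi e p = Ideal.Quotient.mk (diag Y Y') (theta e p) := rfl

theorem phi_ker : RingHom.ker (Y.pullback Λ).proj.toRingHom ≤ RingHom.ker (phi e).toRingHom := by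
  intro p hp
  have hp' : (Y.pullback Λ).proj p = 0 := hp
  obtain ⟨z, rfl⟩ := ((Y.pullback Λ).isExtension.exact p).1 hp'
  have : phi e ((Y.pullback Λ).incl z) = 0 := by
    rw [phi_apply]
    exact Ideal.Quotient.eq_zero_iff_mem.2 (theta_incl_mem e z)
  exact this

/-- The structure map of the Baer difference over `Λ`. -/
noncomputable def psi : Λ →ₐ[k] (fib Y Y' ⧸ diag Y Y') :=
  AlgHom.liftOfSurjective (R := k) (A := (Y.pullback Λ).E) (B := Λ) (C := fib Y Y' ⧸ diag Y Y')
    (Y.pullback Λ).proj (Y.pullback Λ).isExtension.proj_surjective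
    (phi e) (phi_ker e)

theorem psi_apply (p : (Y.pullback Λ).E) :
    psi e ((Y.pullback Λ).proj p) = Ideal.Quotient.mk (diag Y Y') (theta e p) :=
  AlgHom.liftOfSurjective_apply _ _ _ _ p

theorem psi_proj (a : Λ) : baerProj Y Y' (psi e a) = algebraMap Λ R a := by
  obtain ⟨p, rfl⟩ := (Y.pullback Λ).isExtension.proj_surjective a
  rw [psi_apply]
  show Y.proj (pullFst Y p) = _
  exact pullFst_proj Y p

/-- The carrier of the Baer difference as a `Λ`-algebra. -/
@[nolint unusedArguments]
def BaerLam (_e : (Y.pullback Λ).Equiv (Y'.pullback Λ)) : Type u := fib Y Y' ⧸ diag Y Y'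

instance : CommRing (BaerLam e) := inferInstanceAs (CommRing (fib Y Y' ⧸ diag Y Y'))

noncomputable instance : Algebra Λ (BaerLam e) :=
  ((psi e : Λ →+* (fib Y Y' ⧸ diag Y Y')) : Λ →+* BaerLam e).toAlgebra

/-- The Baer difference as a `Λ`-extension. -/
noncomputable def baerLam : Exal.Ext Λ R L where
  E := BaerLam e
  proj :=
    { toFun := fun x => baerProj Y Y' x
      map_one' := map_one (baerProj Y Y')
      map_mul' := map_mul (baerProj Y Y')
      map_zero' := map_zero (baerProj Y Y')
      map_add' := map_add (baerProj Y Y')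
      commutes' := fun a => psi_proj e a }
  incl := baerIncl Y Y'
  isExtension :=
    { proj_surjective := (baer_isExtension Y Y').proj_surjective
      incl_injective := (baer_isExtension Y Y').incl_injective
      exact := (baer_isExtension Y Y').exact
      mul_incl := (baer_isExtension Y Y').mul_incl }

end BaerLam

theorem equiv_of_pullback_equiv (h : ∀ X : Exal.Ext Λ R L, X.IsTrivial) (Y Y' : Exal.Ext k R L)
    (he : Nonempty ((Y.pullback Λ).Equiv (Y'.pullback Λ))) : Nonempty (Y.Equiv Y') := by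
  obtain ⟨e⟩ := he
  obtain ⟨s, hs⟩ := h (baerLam e)
  refine equiv_of_baer_section Y Y'
    { toFun := fun r => s r
      map_one' := map_one s
      map_mul' := map_mul s
      map_zero' := map_zero s
      map_add' := map_add s
      commutes' := fun c => ?_ } hs
  show s (algebraMap k R c) = algebraMap k (fib Y Y' ⧸ diag Y Y') c
  rw [IsScalarTower.algebraMap_apply k Λ R, s.commutes]
  exact (psi e).commutes c

variable [Module k L] [IsScalarTower k Λ L]

theorem extends_of_trivial (D : Derivation k Λ L)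
    (h : (Exal.Ext.ofDerivation (C := R) D).IsTrivial) :
    ∃ D' : Derivation k R L, ∀ a : Λ, D' (algebraMap Λ R a) = D a := by
  obtain ⟨s, hs⟩ := h
  obtain ⟨f, hf⟩ : ∃ f : R → L, ∀ r, f r = TrivSqZeroExt.snd (R := R) (M := L) (s r) :=
    ⟨_, fun _ => rfl⟩
  have hfst : ∀ r : R, TrivSqZeroExt.fst (R := R) (M := L) (s r) = r := hs
  have hadd : ∀ r r' : R, f (r + r') = f r + f r' := by
    intro r r'
    rw [hf, hf, hf, map_add]
    exact TrivSqZeroExt.snd_add (R := R) (M := L) _ _
  have hmul : ∀ r r' : R, f (r * r') = r • f r' + r' • f r := by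
    intro r r'
    rw [hf, hf, hf, map_mul]
    have := TrivSqZeroExt.snd_mul (R := R) (M := L) (s r) (s r')
    rw [hfst, hfst] at this
    exact this
  have halg : ∀ a : Λ, f (algebraMap Λ R a) = D a := by
    intro a
    rw [hf, AlgHom.commutes]
    show TrivSqZeroExt.snd (TrivSqZeroExt.inl (algebraMap Λ R a) + TrivSqZeroExt.inr (D a) :
      TrivSqZeroExt R L) = D a
    rw [TrivSqZeroExt.snd_add, TrivSqZeroExt.snd_inl, TrivSqZeroExt.snd_inr, zero_add]
  have hk : ∀ (c : k) (r : R), f (c • r) = c • f r := by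
    intro c r
    rw [Algebra.smul_def, hmul, IsScalarTower.algebraMap_apply k Λ R, halg,
      Derivation.map_algebraMap, smul_zero, add_zero, algebraMap_smul, algebraMap_smul]
  exact ⟨Derivation.mk' { toFun := f, map_add' := hadd, map_smul' := hk } hmul, halg⟩

theorem trivial_of_ab
    (ha : ∀ D : Derivation k Λ L, ∃ D' : Derivation k R L, ∀ a : Λ, D' (algebraMap Λ R a) = D a)
    (hb : ∀ Y Y' : Exal.Ext k R L,
      Nonempty ((Y.pullback Λ).Equiv (Y'.pullback Λ)) → Nonempty (Y.Equiv Y'))
    (X : Exal.Ext Λ R L) : X.IsTrivial := by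
  have h1 : ((X.restrictBase k).pullback Λ).IsTrivial := pullback_restrict_isTrivial X
  have h2 : ((Exal.Ext.trivial k R L).pullback Λ).IsTrivial :=
    pullback_isTrivial _ trivial_isTrivial
  obtain ⟨e⟩ := hb _ _ (equiv_of_isTrivial h1 h2)
  obtain ⟨s₀, hs₀⟩ := isTrivial_of_equiv e trivial_isTrivial
  obtain ⟨t, ht0⟩ : ∃ t : R →+* X.E, ∀ r, t r = s₀ r :=
    ⟨{ toFun := fun r => s₀ r
       map_one' := map_one s₀
       map_mul' := map_mul s₀
       map_zero' := map_zero s₀
       map_add' := map_add s₀ }, fun _ => rfl⟩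
  have ht : ∀ r, X.proj (t r) = r := fun r => by rw [ht0]; exact hs₀ r
  have htk : ∀ c : k, t (algebraMap k R c) = algebraMap Λ X.E (algebraMap k Λ c) := fun c => by
    rw [ht0]; exact s₀.commutes c
  obtain ⟨D₀fun, hD₀⟩ : ∃ g : Λ → L, ∀ a, g a = delta t ht (algebraMap Λ X.E a) :=
    ⟨_, fun _ => rfl⟩
  have hD₀add : ∀ a b, D₀fun (a + b) = D₀fun a + D₀fun b := fun a b => by
    rw [hD₀, hD₀, hD₀, map_add, delta_add]
  have hD₀mul : ∀ a b, D₀fun (a * b) = a • D₀fun b + b • D₀fun a := fun a b => by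
    rw [hD₀, hD₀, hD₀, map_mul, delta_mul, AlgHom.commutes, AlgHom.commutes, algebraMap_smul,
      algebraMap_smul]
  have hD₀k : ∀ c : k, D₀fun (algebraMap k Λ c) = 0 := fun c => by
    rw [hD₀, ← htk, delta_section]
  have hD₀smul : ∀ (c : k) (a : Λ), D₀fun (c • a) = c • D₀fun a := fun c a => by
    rw [Algebra.smul_def, hD₀mul, hD₀k, smul_zero, add_zero, algebraMap_smul]
  obtain ⟨D', hD'⟩ := ha (Derivation.mk'
    { toFun := D₀fun, map_add' := hD₀add, map_smul' := hD₀smul } hD₀mul)
  have hD'a : ∀ a, D' (algebraMap Λ R a) = delta t ht (algebraMap Λ X.E a) := fun a => by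
    rw [hD', ← hD₀]; rfl
  refine ⟨{ toRingHom := twist X (RingHom.id R) t ht D' (map_zero D') (map_add D')
              (Derivation.map_one_eq_zero D') (fun r r' => Derivation.leibniz D' r r')
            commutes' := fun a => ?_ }, fun r => ?_⟩
  · show t (algebraMap Λ R a) + X.incl (D' (algebraMap Λ R a)) = algebraMap Λ X.E a
    rw [hD'a, incl_delta, AlgHom.commutes]; ring
  · show X.proj (t r + X.incl (D' r)) = r
    rw [map_add, ht, proj_incl, add_zero]

theorem main_general :
    (∀ X : Exal.Ext Λ R L, X.IsTrivial) ↔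
    ((∀ D : Derivation k Λ L, ∃ D' : Derivation k R L, ∀ a : Λ, D' (algebraMap Λ R a) = D a) ∧
     (∀ Y Y' : Exal.Ext k R L,
        Nonempty ((Y.pullback Λ).Equiv (Y'.pullback Λ)) → Nonempty (Y.Equiv Y'))) :=
  ⟨fun h => ⟨fun D => extends_of_trivial D (h _), equiv_of_pullback_equiv h⟩,
    fun h X => trivial_of_ab h.1 h.2 X⟩

end Main

theorem main11292
    {k : Type u} [Field k] [IsAlgClosed k]
    {Λ : Type u} [CommRing Λ] [Algebra k Λ] [IsLocalRing Λ] [IsNoetherianRing Λ]
    (hΛ : ∀ a : Λ, ∃ c : k, a - algebraMap k Λ c ∈ IsLocalRing.maximalIdeal Λ)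
    {R : Type u} [CommRing R] [Algebra Λ R] [Algebra k R] [IsScalarTower k Λ R]
    [IsLocalRing R] [IsNoetherianRing R] [IsLocalHom (algebraMap Λ R)]
    (hR : ∀ r : R, ∃ c : k, r - algebraMap k R c ∈ IsLocalRing.maximalIdeal R) :
    (∀ X : Exal.Ext Λ R (IsLocalRing.ResidueField R), X.IsTrivial) ↔
    ((∀ D : Derivation k Λ (IsLocalRing.ResidueField R),
        ∃ D' : Derivation k R (IsLocalRing.ResidueField R), ∀ a : Λ, D' (algebraMap Λ R a) = D a) ∧
     (∀ Y Y' : Exal.Ext k R (IsLocalRing.ResidueField R),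
        Nonempty ((Y.pullback Λ).Equiv (Y'.pullback Λ)) → Nonempty (Y.Equiv Y'))) :=
  main_general

end Groth.Agent.Lib.ExtDerH1
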