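import Mathlib
import Groth.Prelude.Def_Exal2
import Groth.Agent.Lib.ExtDer_helper1

set_option autoImplicit false
universe u

namespace Groth.Agent.Lib.ExtComplH1

open IsLocalRing Groth.Agent.Lib.ExtDerH1

theorem smul_eq_zero_of_mem_maximalIdeal {R L : Type u} [CommRing R] [IsLocalRing R]
    [AddCommGroup L] [Module R L] [IsSimpleModule R L] (s : R) (hs : s ∈ maximalIdeal R) (z : L) :
    s • z = 0 := by
  by_contra h
  obtain ⟨t, ht⟩ := IsSimpleModule.toSpanSingleton_surjective R h z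
  have ht' : t • (s • z) = z := ht
  have hu : IsUnit (1 - t * s) := IsLocalRing.isUnit_one_sub_self_of_mem_nonunits _
    ((IsLocalRing.mem_maximalIdeal _).1 (Ideal.mul_mem_left _ t hs))
  have h0 : (1 - t * s) • z = 0 := by rw [sub_smul, one_smul, mul_smul, ht', sub_self]
  have hz : z = 0 := by
    obtain ⟨u, hu'⟩ := hu
    rw [← hu'] at h0
    calc z = (↑u⁻¹ : R) • ((u : R) • z) := by rw [smul_smul, Units.inv_mul, one_smul]
      _ = 0 := by rw [h0, smul_zero]
  exact h (by rw [hz, smul_zero])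

theorem equiv_of_hom {A B L : Type u} [CommRing A] [CommRing B] [Algebra A B] [AddCommGroup L]
    [Module B L] (X X' : Exal.Ext A B L) (f : X.E →ₐ[A] X'.E)
    (h1 : ∀ x, X'.proj (f x) = X.proj x) (h2 : ∀ z, f (X.incl z) = X'.incl z) :
    Nonempty (X.Equiv X') := by
  have hbij : Function.Bijective f := by
    constructor
    · rw [injective_iff_map_eq_zero]
      intro x hx
      have hp : X.proj x = 0 := by rw [← h1, hx, map_zero]
      obtain ⟨z, rfl⟩ := (X.isExtension.exact x).1 hp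
      rw [h2] at hx
      have : z = 0 := X'.isExtension.incl_injective (by rw [hx, map_zero])
      rw [this, map_zero]
    · intro x'
      obtain ⟨x, hx⟩ := X.isExtension.proj_surjective (X'.proj x')
      obtain ⟨z, hz⟩ := (X'.isExtension.exact (x' - f x)).1 (by rw [map_sub, h1, hx, sub_self])
      refine ⟨x + X.incl z, ?_⟩
      rw [map_add, h2, hz]; ring
  exact ⟨{ toAlgEquiv := AlgEquiv.ofBijective f hbij
           proj_apply := h1
           apply_incl := h2 }⟩

theorem mem_smul_top_of_forall {R : Type u} [CommRing R] {d : ℕ} (I : Ideal R) (v : Fin d → R)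
    (hv : ∀ i, v i ∈ I) : v ∈ I • (⊤ : Submodule R (Fin d → R)) := by
  classical
  rw [← Finset.univ_sum_single v]
  refine Submodule.sum_mem _ (fun i _ => ?_)
  have : (Pi.single i (v i) : Fin d → R) = v i • (Pi.single i (1 : R) : Fin d → R) := by
    ext j
    by_cases h : j = i
    · subst h; simp
    · simp [h]
  rw [this]
  exact Submodule.smul_mem_smul (hv i) Submodule.mem_top

theorem core' {R : Type u} [CommRing R] [IsLocalRing R] [IsNoetherianRing R]
    {Λ : Type u} [CommRing Λ] [Algebra Λ R] (L : Type u) [AddCommGroup L] [Module R L]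
    (hL : ∀ s ∈ maximalIdeal R, ∀ z : L, s • z = 0) :
    ∃ n : ℕ, ∀ X : Exal.Ext Λ R L,
      ∃ I : Ideal X.E, (∀ x ∈ I, X.proj x = 0 → x = 0) ∧
        Ideal.map X.proj I = maximalIdeal R ^ (n + 1) := by
  classical
  obtain ⟨d, r, hr⟩ : ∃ (d : ℕ) (r : Fin d → R), Ideal.span (Set.range r) = maximalIdeal R := by
    have hfg : (maximalIdeal R).FG := (isNoetherianRing_iff_ideal_fg R).1 inferInstance _
    obtain ⟨d, r, hr⟩ := Submodule.fg_iff_exists_fin_generating_family.1 hfg
    exact ⟨d, r, hr⟩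
  let π : (Fin d → R) →ₗ[R] R :=
    { toFun := fun v => ∑ i, v i * r i
      map_add' := fun v w => by simp [add_mul, Finset.sum_add_distrib]
      map_smul' := fun s v => by simp [Finset.mul_sum, mul_assoc] }
  have hπ : ∀ v, π v = ∑ i, v i * r i := fun _ => rfl
  obtain ⟨c, hc⟩ := Ideal.exists_pow_inf_eq_pow_smul (maximalIdeal R) (LinearMap.ker π)
  have hAR : (maximalIdeal R ^ (c + 1)) • (⊤ : Submodule R (Fin d → R)) ⊓ LinearMap.ker π
      ≤ maximalIdeal R • LinearMap.ker π := by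
    rw [hc (c + 1) (Nat.le_succ c)]
    have : c + 1 - c = 1 := by omega
    rw [this, pow_one]
    exact Submodule.smul_mono le_rfl inf_le_right
  refine ⟨c + 1, fun X => ?_⟩
  obtain ⟨𝔫, h𝔫⟩ : ∃ 𝔫 : Ideal X.E, ∀ y, y ∈ 𝔫 ↔ X.proj y ∈ maximalIdeal R :=
    ⟨Ideal.comap X.proj (maximalIdeal R), fun _ => Iff.rfl⟩
  have hsurj := X.isExtension.proj_surjective
  have hmap : ∀ m : ℕ, Ideal.map X.proj (𝔫 ^ m) = maximalIdeal R ^ m := by
    intro m
    have : 𝔫 = Ideal.comap X.proj (maximalIdeal R) := Ideal.ext (fun y => h𝔫 y)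
    rw [Ideal.map_pow, this, Ideal.map_comap_of_surjective _ hsurj]
  refine ⟨𝔫 ^ (c + 1 + 1), ?_, hmap _⟩
  have hkill : ∀ y ∈ 𝔫, ∀ z : L, y * X.incl z = 0 := by
    intro y hy z
    rw [X.isExtension.mul_incl, hL _ ((h𝔫 y).1 hy), map_zero]
  choose e he using fun i => hsurj (r i)
  have he𝔫 : ∀ i, e i ∈ 𝔫 := fun i => by
    rw [h𝔫, he, ← hr]; exact Ideal.subset_span ⟨i, rfl⟩
  have hB : ∀ x ∈ 𝔫 ^ (c + 1 + 1), ∃ a : Fin d → X.E, (∀ i, a i ∈ 𝔫 ^ (c + 1)) ∧
      x = ∑ i, e i * a i := by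
    intro x hx
    rw [pow_succ] at hx
    refine Submodule.mul_induction_on hx ?_ ?_
    · intro w hw y hy
      have hy' : X.proj y ∈ Ideal.span (Set.range r) := by rw [hr]; exact (h𝔫 y).1 hy
      obtain ⟨b, hb⟩ := (Ideal.mem_span_range_iff_exists_fun).1 hy'
      choose bt hbt using fun i => hsurj (b i)
      have h0 : X.proj (y - ∑ i, bt i * e i) = 0 := by
        rw [map_sub, map_sum, sub_eq_zero, ← hb]
        refine Finset.sum_congr rfl (fun i _ => ?_)
        rw [map_mul, hbt, he]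
      obtain ⟨z', hz'⟩ := (X.isExtension.exact _).1 h0
      have hw𝔫 : w ∈ 𝔫 := Ideal.pow_le_self (Nat.succ_ne_zero c) hw
      refine ⟨fun i => bt i * w, fun i => Ideal.mul_mem_left _ _ hw, ?_⟩
      have hy_eq : y = ∑ i, bt i * e i + X.incl z' := by rw [hz']; ring
      rw [hy_eq, mul_add, hkill w hw𝔫 z', add_zero, Finset.mul_sum]
      refine Finset.sum_congr rfl (fun i _ => by ring)
    · rintro x₁ x₂ ⟨a₁, ha₁, rfl⟩ ⟨a₂, ha₂, rfl⟩
      refine ⟨fun i => a₁ i + a₂ i, fun i => Ideal.add_mem _ (ha₁ i) (ha₂ i), ?_⟩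
      rw [← Finset.sum_add_distrib]
      refine Finset.sum_congr rfl (fun i _ => by ring)
  have hQ : ∀ v ∈ maximalIdeal R • LinearMap.ker π, ∀ a : Fin d → X.E,
      (∀ i, X.proj (a i) = v i) → ∑ i, e i * a i = 0 := by
    intro v hv
    refine Submodule.smul_induction_on hv ?_ ?_
    · intro s hs z hz a ha
      obtain ⟨st, hst⟩ := hsurj s
      choose zt hzt using fun i => hsurj (z i)
      have hst𝔫 : st ∈ 𝔫 := by rw [h𝔫, hst]; exact hs
      have h0 : X.proj (∑ i, e i * zt i) = 0 := by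
        have hz0 : π z = 0 := hz
        rw [map_sum, ← hz0, hπ]
        refine Finset.sum_congr rfl (fun i _ => ?_)
        rw [map_mul, he, hzt, mul_comm]
      obtain ⟨z', hz'⟩ := (X.isExtension.exact _).1 h0
      have h1 : ∀ i, ∃ w, X.incl w = a i - st * zt i := fun i =>
        (X.isExtension.exact _).1 (by
          rw [map_sub, map_mul, ha, hst, hzt, Pi.smul_apply, smul_eq_mul, sub_self])
      choose w hw using h1
      have hsum : ∑ i, e i * a i = st * ∑ i, e i * zt i + ∑ i, e i * X.incl (w i) := by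
        rw [Finset.mul_sum, ← Finset.sum_add_distrib]
        refine Finset.sum_congr rfl (fun i _ => ?_)
        rw [hw]; ring
      rw [hsum, ← hz', hkill st hst𝔫, zero_add]
      exact Finset.sum_eq_zero (fun i _ => hkill (e i) (he𝔫 i) _)
    · intro v₁ v₂ h₁ h₂ a ha
      choose a₁ ha₁ using fun i => hsurj (v₁ i)
      have e1 := h₁ a₁ ha₁
      have e2 := h₂ (fun i => a i - a₁ i) (fun i => by
        rw [map_sub, ha, ha₁, Pi.add_apply]; ring)
      calc ∑ i, e i * a i = ∑ i, e i * a₁ i + ∑ i, e i * (a i - a₁ i) := by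
            rw [← Finset.sum_add_distrib]
            exact Finset.sum_congr rfl (fun i _ => by ring)
        _ = 0 := by rw [e1, e2, add_zero]
  intro x hx hpx
  obtain ⟨a, ha, rfl⟩ := hB x hx
  refine hQ (fun i => X.proj (a i)) ?_ a (fun i => rfl)
  apply hAR
  refine Submodule.mem_inf.2 ⟨mem_smul_top_of_forall _ _ (fun i => ?_), ?_⟩
  · have := Ideal.mem_map_of_mem X.proj (ha i)
    rwa [hmap] at this
  · show π (fun i => X.proj (a i)) = 0
    rw [← hpx, map_sum, hπ]
    refine Finset.sum_congr rfl (fun i _ => ?_)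
    rw [map_mul, he, mul_comm]

section Compl

variable {Λ : Type u} [CommRing Λ] {R : Type u} [CommRing R] [Algebra Λ R] [IsLocalRing R]
  [IsNoetherianRing R]


theorem mem_smul_top_of_evalₐ_eq_zero (N : ℕ) (x : (AdicCompletion (IsLocalRing.maximalIdeal R) R))
    (h : AdicCompletion.evalₐ (maximalIdeal R) N x = 0) :
    x ∈ (maximalIdeal R ^ N • ⊤ : Submodule R (AdicCompletion (IsLocalRing.maximalIdeal R) R)) := by
  rw [AdicCompletion.pow_smul_top_eq_ker_eval (Ideal.fg_of_isNoetherianRing (maximalIdeal R)),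
    LinearMap.mem_ker]
  have h' : maximalIdeal R ^ N ≤ (maximalIdeal R ^ N • ⊤ : Ideal R) := by simp
  have := AdicCompletion.factor_evalₐ_eq_eval (I := maximalIdeal R) x h'
  rw [← this, h, map_zero]

theorem evalₐ_algebraMap (N : ℕ) (r : R) :
    AdicCompletion.evalₐ (maximalIdeal R) N (algebraMap R (AdicCompletion (IsLocalRing.maximalIdeal R) R) r) =
      Ideal.Quotient.mk (maximalIdeal R ^ N) r :=
  AdicCompletion.evalₐ_of (maximalIdeal R) N r

variable {L : Type u} [AddCommGroup L] [Module (AdicCompletion (IsLocalRing.maximalIdeal R) R) L] [Module R L] [IsScalarTower R (AdicCompletion (IsLocalRing.maximalIdeal R) R) L]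

theorem smul_eq_zero_of_evalₐ (hL : ∀ s ∈ maximalIdeal R, ∀ z : L, s • z = 0) (N : ℕ)
    (hN : N ≠ 0) (x : (AdicCompletion (IsLocalRing.maximalIdeal R) R)) (h : AdicCompletion.evalₐ (maximalIdeal R) N x = 0) (z : L) :
    x • z = 0 := by
  have hx := mem_smul_top_of_evalₐ_eq_zero N x h
  refine Submodule.smul_induction_on hx ?_ ?_
  · intro s hs t _
    rw [smul_assoc]
    exact hL s (Ideal.pow_le_self hN hs) _
  · intro x y hx hy
    rw [add_smul, hx, hy, add_zero]

section Part1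

theorem trivial_of_section_over_R (hL : ∀ s ∈ maximalIdeal R, ∀ z : L, s • z = 0)
    (W : Exal.Ext Λ (AdicCompletion (IsLocalRing.maximalIdeal R) R) L) (s : R →ₐ[Λ] W.E)
    (hs : ∀ r, W.proj (s r) = algebraMap R (AdicCompletion (IsLocalRing.maximalIdeal R) R) r) : W.IsTrivial := by
  classical
  obtain ⟨d, r, hr⟩ : ∃ (d : ℕ) (r : Fin d → R), Ideal.span (Set.range r) = maximalIdeal R := by
    have hfg : (maximalIdeal R).FG := (isNoetherianRing_iff_ideal_fg R).1 inferInstance _
    obtain ⟨d, r, hr⟩ := Submodule.fg_iff_exists_fin_generating_family.1 hfg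
    exact ⟨d, r, hr⟩
  have hrm : ∀ i, r i ∈ maximalIdeal R := fun i => by
    rw [← hr]; exact Ideal.subset_span ⟨i, rfl⟩
  have hsurj := W.isExtension.proj_surjective
  obtain ⟨𝔞, h𝔞⟩ : ∃ 𝔞 : Ideal W.E, 𝔞 = Ideal.span (Set.range (fun i => s (r i))) := ⟨_, rfl⟩
  have hs𝔞 : ∀ t ∈ maximalIdeal R, s t ∈ 𝔞 := by
    intro t ht
    rw [← hr] at ht
    obtain ⟨b, rfl⟩ := (Ideal.mem_span_range_iff_exists_fun).1 ht
    rw [map_sum]
    refine Ideal.sum_mem _ (fun i _ => ?_)
    rw [map_mul, h𝔞]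
    exact Ideal.mul_mem_left _ _ (Ideal.subset_span ⟨i, rfl⟩)
  have hkill : ∀ i (z : L), s (r i) * W.incl z = 0 := fun i z => by
    rw [W.isExtension.mul_incl, hs, algebraMap_smul, hL _ (hrm i), map_zero]
  have hkey : ∀ x ∈ 𝔞, W.proj x = 0 → x = 0 := by
    intro x hx hpx
    rw [h𝔞] at hx
    obtain ⟨a, rfl⟩ := (Ideal.mem_span_range_iff_exists_fun).1 hx
    have hrel : ∑ i, r i • W.proj (a i) = 0 := by
      rw [← hpx, map_sum]
      refine Finset.sum_congr rfl (fun i _ => ?_)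
      rw [map_mul, hs, Algebra.smul_def, mul_comm]
    obtain ⟨m, c, y, hy0, hc⟩ := Module.Flat.isTrivialRelation_of_sum_smul_eq_zero hrel
    have hy : ∀ i, W.proj (a i) = ∑ j, c i j • y j := hy0
    choose yt hyt using fun j => hsurj (y j)
    have h1 : ∀ i, ∃ w, W.incl w = a i - ∑ j, s (c i j) * yt j := fun i =>
      (W.isExtension.exact _).1 (by
        rw [map_sub, map_sum, hy, sub_eq_zero]
        refine Finset.sum_congr rfl (fun j _ => ?_)
        rw [map_mul, hs, hyt, Algebra.smul_def])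
    choose w hw using h1
    have hcs : ∀ j, ∑ i, s (c i j) * s (r i) = 0 := fun j => by
      have := congrArg s (hc j)
      rw [map_sum, map_zero] at this
      rw [← this]
      refine Finset.sum_congr rfl (fun i _ => ?_)
      rw [map_mul, mul_comm]
    calc ∑ i, a i * s (r i)
        = ∑ i, ((∑ j, s (c i j) * yt j) * s (r i) + s (r i) * W.incl (w i)) := by
          refine Finset.sum_congr rfl (fun i _ => ?_)
          rw [hw]; ring
      _ = ∑ j, yt j * ∑ i, s (c i j) * s (r i) + ∑ i, s (r i) * W.incl (w i) := by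
          rw [Finset.sum_add_distrib]
          congr 1
          simp only [Finset.sum_mul, Finset.mul_sum]
          rw [Finset.sum_comm]
          refine Finset.sum_congr rfl (fun j _ => Finset.sum_congr rfl (fun i _ => by ring))
      _ = 0 := by
          rw [Finset.sum_eq_zero (fun j _ => by rw [hcs, mul_zero]),
            Finset.sum_eq_zero (fun i _ => hkill i _), add_zero]
  -- image of `𝔞` is killed by `ev₁`
  have hε : ∀ a ∈ 𝔞, AdicCompletion.evalₐ (maximalIdeal R) 1 (W.proj a) = 0 := by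
    intro a ha
    rw [h𝔞] at ha
    obtain ⟨b, rfl⟩ := (Ideal.mem_span_range_iff_exists_fun).1 ha
    rw [map_sum, map_sum]
    refine Finset.sum_eq_zero (fun i _ => ?_)
    rw [map_mul, map_mul, hs, evalₐ_algebraMap,
      Ideal.Quotient.eq_zero_iff_mem.2 (by rw [pow_one]; exact hrm i), mul_zero]
  have hlift : ∀ y ∈ (maximalIdeal R ^ 1 • ⊤ : Submodule R (AdicCompletion (IsLocalRing.maximalIdeal R) R)), ∃ a ∈ 𝔞, W.proj a = y := by
    intro y hy
    refine Submodule.smul_induction_on hy ?_ ?_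
    · intro t ht q _
      obtain ⟨qt, hqt⟩ := hsurj q
      refine ⟨s t * qt, Ideal.mul_mem_right _ _ (hs𝔞 t (by rwa [pow_one] at ht)), ?_⟩
      rw [map_mul, hs, hqt, Algebra.smul_def]
    · rintro y₁ y₂ ⟨a₁, ha₁, rfl⟩ ⟨a₂, ha₂, rfl⟩
      exact ⟨a₁ + a₂, Ideal.add_mem _ ha₁ ha₂, map_add _ _ _⟩
  obtain ⟨T, hT⟩ : ∃ T : Subalgebra Λ W.E, ∀ t, t ∈ T ↔ ∃ r₀ : R, s r₀ - t ∈ 𝔞 := by
    refine ⟨Subalgebra.comap (Ideal.Quotient.mkₐ Λ 𝔞) ((Ideal.Quotient.mkₐ Λ 𝔞).comp s).range,
      fun t => ?_⟩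
    rw [Subalgebra.mem_comap, AlgHom.mem_range]
    refine exists_congr (fun r₀ => ?_)
    show Ideal.Quotient.mk 𝔞 (s r₀) = Ideal.Quotient.mk 𝔞 t ↔ _
    rw [Ideal.Quotient.eq]
  let pT : T →ₐ[Λ] (AdicCompletion (IsLocalRing.maximalIdeal R) R) := W.proj.comp T.val
  have hbij : Function.Bijective pT := by
    constructor
    · rw [injective_iff_map_eq_zero]
      rintro ⟨t, ht⟩ h0
      have hpt : W.proj t = 0 := h0
      obtain ⟨r₀, hr₀⟩ := (hT t).1 ht
      have h1 := hε _ hr₀
      rw [map_sub, hpt, sub_zero, hs, evalₐ_algebraMap, Ideal.Quotient.eq_zero_iff_mem,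
        pow_one] at h1
      have ht𝔞 : t ∈ 𝔞 := by
        have : t = s r₀ - (s r₀ - t) := by ring
        rw [this]
        exact Ideal.sub_mem _ (hs𝔞 r₀ h1) hr₀
      exact Subtype.ext (hkey t ht𝔞 hpt)
    · intro q
      obtain ⟨r₀, hr₀⟩ := Ideal.Quotient.mk_surjective
        (AdicCompletion.evalₐ (maximalIdeal R) 1 q)
      have h1 : AdicCompletion.evalₐ (maximalIdeal R) 1 (q - algebraMap R (AdicCompletion (IsLocalRing.maximalIdeal R) R) r₀) = 0 := by
        rw [map_sub, evalₐ_algebraMap, hr₀, sub_self]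
      obtain ⟨a, ha, hpa⟩ := hlift _ (mem_smul_top_of_evalₐ_eq_zero 1 _ h1)
      have hmem : s r₀ + a ∈ T := by
        rw [hT]
        refine ⟨r₀, ?_⟩
        have : s r₀ - (s r₀ + a) = -a := by ring
        rw [this]
        exact Ideal.neg_mem_iff _ |>.2 ha
      refine ⟨⟨s r₀ + a, hmem⟩, ?_⟩
      show W.proj (s r₀ + a) = q
      rw [map_add, hs, hpa]; ring
  refine ⟨T.val.comp (AlgEquiv.ofBijective pT hbij).symm.toAlgHom, fun b => ?_⟩
  exact (AlgEquiv.ofBijective pT hbij).apply_symm_apply b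

/-- The Baer difference as a bundled extension. -/
noncomputable def baer {k B M : Type u} [CommRing k] [CommRing B] [Algebra k B] [AddCommGroup M]
    [Module B M] (Y Y' : Exal.Ext k B M) : Exal.Ext k B M where
  E := fib Y Y' ⧸ diag Y Y'
  proj := baerProj Y Y'
  incl := baerIncl Y Y'
  isExtension := baer_isExtension Y Y'

theorem part1 (hL : ∀ s ∈ maximalIdeal R, ∀ z : L, s • z = 0) (X X' : Exal.Ext Λ (AdicCompletion (IsLocalRing.maximalIdeal R) R) L)
    (he : Nonempty ((X.pullback R).Equiv (X'.pullback R))) : Nonempty (X.Equiv X') := by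
  obtain ⟨e⟩ := he
  obtain ⟨σ, hσ⟩ := trivial_of_section_over_R hL (baer X X') (psi e) (fun r => psi_proj e r)
  exact equiv_of_baer_section X X' σ hσ

end Part1

section Part2

variable (Y : Exal.Ext Λ R L) (I : Ideal Y.E) (n : ℕ)
  (hI2 : Ideal.map Y.proj I = maximalIdeal R ^ (n + 1))

/-- The induced map on the quotient. -/
noncomputable def pbar : (Y.E ⧸ I) →ₐ[Λ] (R ⧸ maximalIdeal R ^ (n + 1)) :=
  Ideal.Quotient.liftₐ I ((Ideal.Quotient.mkₐ Λ (maximalIdeal R ^ (n + 1))).comp Y.proj)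
    (fun y hy => by
      show Ideal.Quotient.mk _ (Y.proj y) = 0
      rw [Ideal.Quotient.eq_zero_iff_mem, ← hI2]
      exact Ideal.mem_map_of_mem _ hy)

theorem pbar_mk (y : Y.E) :
    pbar Y I n hI2 (Ideal.Quotient.mk I y) = Ideal.Quotient.mk _ (Y.proj y) := rfl

/-- The evaluation as a `Λ`-algebra map. -/
noncomputable def evΛ : (AdicCompletion (IsLocalRing.maximalIdeal R) R) →ₐ[Λ] (R ⧸ maximalIdeal R ^ (n + 1)) :=
  (AdicCompletion.evalₐ (maximalIdeal R) (n + 1)).restrictScalars Λ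

theorem evΛ_apply (x : (AdicCompletion (IsLocalRing.maximalIdeal R) R)) :
    evΛ (Λ := Λ) n x = AdicCompletion.evalₐ (maximalIdeal R) (n + 1) x := rfl

/-- The middle ring of the extension of the completion. -/
noncomputable def EX : Subalgebra Λ ((Y.E ⧸ I) × (AdicCompletion (IsLocalRing.maximalIdeal R) R)) :=
  AlgHom.equalizer ((pbar Y I n hI2).comp (AlgHom.fst Λ (Y.E ⧸ I) (AdicCompletion (IsLocalRing.maximalIdeal R) R)))
    ((evΛ n).comp (AlgHom.snd Λ (Y.E ⧸ I) (AdicCompletion (IsLocalRing.maximalIdeal R) R)))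

theorem mem_EX (p : (Y.E ⧸ I) × (AdicCompletion (IsLocalRing.maximalIdeal R) R)) :
    p ∈ EX Y I n hI2 ↔
      pbar Y I n hI2 p.1 = AdicCompletion.evalₐ (maximalIdeal R) (n + 1) p.2 := Iff.rfl

/-- The inclusion. -/
noncomputable def inclX : L →+ EX Y I n hI2 where
  toFun z := ⟨(Ideal.Quotient.mk I (Y.incl z), 0), by
    rw [mem_EX]
    show pbar Y I n hI2 (Ideal.Quotient.mk I (Y.incl z)) = AdicCompletion.evalₐ _ _ 0
    rw [pbar_mk, proj_incl, map_zero, map_zero]⟩
  map_zero' := Subtype.ext (Prod.ext (by show Ideal.Quotient.mk I (Y.incl 0) = 0; rw [map_zero, map_zero]) rfl)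
  map_add' z z' := Subtype.ext (Prod.ext (by
    show Ideal.Quotient.mk I (Y.incl (z + z')) = Ideal.Quotient.mk I (Y.incl z) + Ideal.Quotient.mk I (Y.incl z')
    rw [map_add, map_add]) (add_zero 0).symm)

variable (hI1 : ∀ x ∈ I, Y.proj x = 0 → x = 0)
  (hL : ∀ s ∈ maximalIdeal R, ∀ z : L, s • z = 0)

include hI1 hL in
theorem isExtensionX : Exal.IsExtension (A := Λ) (B := (AdicCompletion (IsLocalRing.maximalIdeal R) R)) (E := EX Y I n hI2) (L := L)
    ((AlgHom.snd Λ (Y.E ⧸ I) (AdicCompletion (IsLocalRing.maximalIdeal R) R)).comp (EX Y I n hI2).val) (inclX Y I n hI2) where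
  proj_surjective q := by
    obtain ⟨r₀, hr₀⟩ := Ideal.Quotient.mk_surjective
      (AdicCompletion.evalₐ (maximalIdeal R) (n + 1) q)
    obtain ⟨y, rfl⟩ := Y.isExtension.proj_surjective r₀
    exact ⟨⟨(Ideal.Quotient.mk I y, q), by rw [mem_EX]; exact hr₀⟩, rfl⟩
  incl_injective := by
    rw [injective_iff_map_eq_zero]
    intro z hz
    have h1 : Ideal.Quotient.mk I (Y.incl z) = 0 :=
      congrArg (fun e : EX Y I n hI2 => (e : (Y.E ⧸ I) × (AdicCompletion (IsLocalRing.maximalIdeal R) R)).1) hz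
    rw [Ideal.Quotient.eq_zero_iff_mem] at h1
    have := hI1 _ h1 (proj_incl Y z)
    exact Y.isExtension.incl_injective (by rw [this, map_zero])
  exact x := by
    obtain ⟨⟨q, b⟩, hx⟩ := x
    constructor
    · intro hb
      have hb0 : b = 0 := hb
      subst hb0
      obtain ⟨y, rfl⟩ := Ideal.Quotient.mk_surjective q
      have hx' : Ideal.Quotient.mk (maximalIdeal R ^ (n + 1)) (Y.proj y) =
          AdicCompletion.evalₐ (maximalIdeal R) (n + 1) 0 := hx
      rw [map_zero, Ideal.Quotient.eq_zero_iff_mem, ← hI2,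
        Ideal.mem_map_iff_of_surjective _ Y.isExtension.proj_surjective] at hx'
      obtain ⟨i, hi, hiy⟩ := hx'
      obtain ⟨z, hz⟩ := (Y.isExtension.exact (y - i)).1 (by rw [map_sub, hiy, sub_self])
      refine ⟨z, ?_⟩
      apply Subtype.ext
      refine Prod.ext ?_ rfl
      show Ideal.Quotient.mk I (Y.incl z) = Ideal.Quotient.mk I y
      rw [hz, Ideal.Quotient.eq]
      have : y - i - y = -i := by ring
      rw [this]
      exact (Ideal.neg_mem_iff _).2 hi
    · rintro ⟨z, hz⟩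
      have := congrArg (fun e : EX Y I n hI2 => (e : (Y.E ⧸ I) × (AdicCompletion (IsLocalRing.maximalIdeal R) R)).2) hz
      exact this.symm
  mul_incl x z := by
    obtain ⟨⟨q, b⟩, hx⟩ := x
    obtain ⟨y, rfl⟩ := Ideal.Quotient.mk_surjective q
    have hx' : Ideal.Quotient.mk (maximalIdeal R ^ (n + 1)) (Y.proj y) =
        AdicCompletion.evalₐ (maximalIdeal R) (n + 1) b := hx
    have hsm : b • z = Y.proj y • z := by
      have h0 : AdicCompletion.evalₐ (maximalIdeal R) (n + 1) (b - algebraMap R (AdicCompletion (IsLocalRing.maximalIdeal R) R) (Y.proj y))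
          = 0 := by
        rw [map_sub, evalₐ_algebraMap, hx', sub_self]
      have := smul_eq_zero_of_evalₐ hL (n + 1) (Nat.succ_ne_zero n) _ h0 z
      rw [sub_smul, algebraMap_smul, sub_eq_zero] at this
      exact this
    apply Subtype.ext
    refine Prod.ext ?_ ?_
    · show Ideal.Quotient.mk I y * Ideal.Quotient.mk I (Y.incl z) =
        Ideal.Quotient.mk I (Y.incl (b • z))
      rw [← map_mul, Y.isExtension.mul_incl, hsm]
    · show b * 0 = 0
      rw [mul_zero]

/-- The extension of the completion. -/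
noncomputable def XExt : Exal.Ext Λ (AdicCompletion (IsLocalRing.maximalIdeal R) R) L where
  E := EX Y I n hI2
  proj := (AlgHom.snd Λ (Y.E ⧸ I) (AdicCompletion (IsLocalRing.maximalIdeal R) R)).comp (EX Y I n hI2).val
  incl := inclX Y I n hI2
  isExtension := isExtensionX Y I n hI2 hI1 hL

/-- The map to the middle ring. -/
noncomputable def g₁ : Y.E →ₐ[Λ] EX Y I n hI2 :=
  AlgHom.codRestrict (AlgHom.prod (Ideal.Quotient.mkₐ Λ I)
    ((IsScalarTower.toAlgHom Λ R (AdicCompletion (IsLocalRing.maximalIdeal R) R)).comp Y.proj)) (EX Y I n hI2) (fun y => by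
      rw [mem_EX]
      show pbar Y I n hI2 (Ideal.Quotient.mk I y) =
        AdicCompletion.evalₐ (maximalIdeal R) (n + 1) (algebraMap R (AdicCompletion (IsLocalRing.maximalIdeal R) R) (Y.proj y))
      rw [pbar_mk, evalₐ_algebraMap])

include I n hI2 hI1 hL in
theorem part2 : ∃ X : Exal.Ext Λ (AdicCompletion (IsLocalRing.maximalIdeal R) R) L, Nonempty ((X.pullback R).Equiv Y) := by
  refine ⟨XExt Y I n hI2 hI1 hL, ?_⟩
  have key : Nonempty (Y.Equiv ((XExt Y I n hI2 hI1 hL).pullback R)) := by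
    refine equiv_of_hom Y _
      (AlgHom.codRestrict (AlgHom.prod (g₁ Y I n hI2) Y.proj) _ (fun y => ?_))
      (fun y => rfl) (fun z => ?_)
    · show (XExt Y I n hI2 hI1 hL).proj (g₁ Y I n hI2 y) = algebraMap R (AdicCompletion (IsLocalRing.maximalIdeal R) R) (Y.proj y)
      rfl
    · apply Subtype.ext
      refine Prod.ext ?_ ?_
      · apply Subtype.ext
        refine Prod.ext rfl ?_
        show algebraMap R (AdicCompletion (IsLocalRing.maximalIdeal R) R) (Y.proj (Y.incl z)) = 0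
        rw [proj_incl, map_zero]
      · show Y.proj (Y.incl z) = 0
        exact proj_incl Y z
  obtain ⟨e⟩ := key
  exact ⟨e.symm⟩

end Part2

end Compl

theorem main11283
    {k : Type u} [Field k] [IsAlgClosed k]
    {Λ : Type u} [CommRing Λ] [Algebra k Λ] [IsLocalRing Λ] [IsNoetherianRing Λ]
    [IsAdicComplete (IsLocalRing.maximalIdeal Λ) Λ]
    (hΛ : ∀ a : Λ, ∃ c : k, a - algebraMap k Λ c ∈ IsLocalRing.maximalIdeal Λ)
    {R : Type u} [CommRing R] [Algebra Λ R] [IsLocalRing R] [IsNoetherianRing R]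
    [IsLocalHom (algebraMap Λ R)]
    (hR : ∀ r : R, ∃ c : k, r - algebraMap Λ R (algebraMap k Λ c) ∈ IsLocalRing.maximalIdeal R)
    (L : Type u) [AddCommGroup L] [Module (AdicCompletion (IsLocalRing.maximalIdeal R) R) L] [Module R L]
    [IsScalarTower R (AdicCompletion (IsLocalRing.maximalIdeal R) R) L] [IsSimpleModule R L] :
    (∀ X X' : Exal.Ext Λ (AdicCompletion (IsLocalRing.maximalIdeal R) R) L,
        Nonempty ((X.pullback R).Equiv (X'.pullback R)) → Nonempty (X.Equiv X')) ∧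
    (∀ Y : Exal.Ext Λ R L, ∃ X : Exal.Ext Λ (AdicCompletion (IsLocalRing.maximalIdeal R) R) L,
        Nonempty ((X.pullback R).Equiv Y)) := by
  have hL : ∀ s ∈ maximalIdeal R, ∀ z : L, s • z = 0 :=
    fun s hs z => smul_eq_zero_of_mem_maximalIdeal s hs z
  refine ⟨fun X X' he => part1 hL X X' he, fun Y => ?_⟩
  obtain ⟨n, hn⟩ := core' (Λ := Λ) (R := R) L hL
  obtain ⟨I, hI1, hI2⟩ := hn Y
  exact part2 Y I n hI2 hI1 hL

end Groth.Agent.Lib.ExtComplH1
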