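import Mathlib
import Groth.Prelude.Def_Exal2
import Groth.Prelude.Def_CotT
import Groth.Agent.Lib.ExtCompl_helper1
import Groth.Agent.S12289

set_option autoImplicit false
universe u

namespace Groth.Agent.Lib.ExalT1H1

open Groth.Agent.Lib.ExtDerH1 Groth.Agent.Lib.ExtComplH1
open scoped TensorProduct

attribute [local instance] Exal.opModule Exal.isCentralScalar_opModule

section General

variable {A R B L : Type u} [CommRing A] [CommRing R] [CommRing B] [Algebra A R] [Algebra A B]
  [Algebra R B] [IsScalarTower A R B] [AddCommGroup L] [Module B L]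

theorem equiv_of_agree' (hπ : Function.Surjective (algebraMap R B))
    (X X' : Exal.Ext A B L) (u : R →ₐ[A] X.E) (u' : R →ₐ[A] X'.E)
    (hu : ∀ p, X.proj (u p) = algebraMap R B p)
    (hu' : ∀ p, X'.proj (u' p) = algebraMap R B p)
    (h : ∀ j, algebraMap R B j = 0 → ∃ z : L, X.incl z = u j ∧ X'.incl z = u' j) :
    Nonempty (X.Equiv X') := by
  obtain ⟨G, hG⟩ : ∃ G : Subalgebra A (X.E × X'.E), ∀ t, t ∈ G ↔
      ∃ (p : R) (z : L), t = (u p + X.incl z, u' p + X'.incl z) := by
    refine ⟨{ carrier := {t | ∃ (p : R) (z : L), t = (u p + X.incl z, u' p + X'.incl z)}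
              mul_mem' := ?_
              one_mem' := ?_
              add_mem' := ?_
              zero_mem' := ?_
              algebraMap_mem' := ?_ }, fun _ => Iff.rfl⟩
    · rintro _ _ ⟨p, z, rfl⟩ ⟨p₂, z₂, rfl⟩
      refine ⟨p * p₂, algebraMap R B p • z₂ + algebraMap R B p₂ • z, ?_⟩
      refine Prod.ext ?_ ?_
      · show (u p + X.incl z) * (u p₂ + X.incl z₂) = u (p * p₂) +
          X.incl (algebraMap R B p • z₂ + algebraMap R B p₂ • z)
        have h1 : u p * X.incl z₂ = X.incl (algebraMap R B p • z₂) := by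
          rw [X.isExtension.mul_incl, hu]
        have h2 : u p₂ * X.incl z = X.incl (algebraMap R B p₂ • z) := by
          rw [X.isExtension.mul_incl, hu]
        have h3 := incl_mul_incl X z z₂
        rw [map_mul, map_add]
        linear_combination h1 + h2 + h3
      · show (u' p + X'.incl z) * (u' p₂ + X'.incl z₂) = u' (p * p₂) +
          X'.incl (algebraMap R B p • z₂ + algebraMap R B p₂ • z)
        have h1 : u' p * X'.incl z₂ = X'.incl (algebraMap R B p • z₂) := by
          rw [X'.isExtension.mul_incl, hu']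
        have h2 : u' p₂ * X'.incl z = X'.incl (algebraMap R B p₂ • z) := by
          rw [X'.isExtension.mul_incl, hu']
        have h3 := incl_mul_incl X' z z₂
        rw [map_mul, map_add]
        linear_combination h1 + h2 + h3
    · refine ⟨1, 0, ?_⟩
      rw [map_one, map_one, map_zero, map_zero, add_zero, add_zero]; rfl
    · rintro _ _ ⟨p, z, rfl⟩ ⟨p₂, z₂, rfl⟩
      refine ⟨p + p₂, z + z₂, ?_⟩
      refine Prod.ext ?_ ?_
      · show (u p + X.incl z) + (u p₂ + X.incl z₂) = u (p + p₂) + X.incl (z + z₂)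
        rw [map_add, map_add]; ring
      · show (u' p + X'.incl z) + (u' p₂ + X'.incl z₂) = u' (p + p₂) + X'.incl (z + z₂)
        rw [map_add, map_add]; ring
    · refine ⟨0, 0, ?_⟩
      rw [map_zero, map_zero, map_zero, map_zero, add_zero, add_zero]; rfl
    · intro a
      refine ⟨algebraMap A R a, 0, ?_⟩
      rw [u.commutes, u'.commutes, map_zero, map_zero, add_zero, add_zero]; rfl
  let f1 : G →ₐ[A] X.E := (AlgHom.fst A X.E X'.E).comp G.val
  let f2 : G →ₐ[A] X'.E := (AlgHom.snd A X.E X'.E).comp G.val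
  have hf1 : Function.Bijective f1 := by
    constructor
    · rw [injective_iff_map_eq_zero]
      rintro ⟨⟨x, x'⟩, hg⟩ h0
      have hx : x = 0 := h0
      obtain ⟨p, z, hpz⟩ := (hG _).1 hg
      have hx1 : x = u p + X.incl z := congrArg Prod.fst hpz
      have hx2 : x' = u' p + X'.incl z := congrArg Prod.snd hpz
      have hpJ : algebraMap R B p = 0 := by
        have : X.proj x = 0 := by rw [hx, map_zero]
        rw [hx1, map_add, hu, proj_incl, add_zero] at this
        exact this
      obtain ⟨w, hw1, hw2⟩ := h p hpJ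
      have hwz : w = -z := by
        apply X.isExtension.incl_injective
        rw [hw1, map_neg]
        rw [hx] at hx1
        linear_combination (-1 : X.E) * hx1
      have hx'0 : x' = 0 := by
        rw [hx2, ← hw2, hwz, map_neg]; ring
      apply Subtype.ext
      exact Prod.ext hx hx'0
    · intro x
      obtain ⟨p, hp⟩ := hπ (X.proj x)
      obtain ⟨z, hz⟩ := (X.isExtension.exact (x - u p)).1 (by rw [map_sub, hu, hp, sub_self])
      refine ⟨⟨(u p + X.incl z, u' p + X'.incl z), (hG _).2 ⟨p, z, rfl⟩⟩, ?_⟩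
      show u p + X.incl z = x
      rw [hz]; ring
  refine equiv_of_hom X X' (f2.comp (AlgEquiv.ofBijective f1 hf1).symm.toAlgHom) ?_ ?_
  · intro x
    obtain ⟨g, rfl⟩ := hf1.2 x
    have h1 : (AlgEquiv.ofBijective f1 hf1).symm (f1 g) = g :=
      (AlgEquiv.ofBijective f1 hf1).symm_apply_apply g
    show X'.proj (f2 ((AlgEquiv.ofBijective f1 hf1).symm (f1 g))) = X.proj (f1 g)
    rw [h1]
    obtain ⟨p, z, hpz⟩ := (hG _).1 g.2
    have hx1 : f1 g = u p + X.incl z := congrArg Prod.fst hpz
    have hx2 : f2 g = u' p + X'.incl z := congrArg Prod.snd hpz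
    rw [hx1, hx2, map_add, map_add, hu, hu', proj_incl, proj_incl]
  · intro z
    have hmem : ((X.incl z, X'.incl z) : X.E × X'.E) ∈ G :=
      (hG _).2 ⟨0, z, by rw [map_zero, map_zero, zero_add, zero_add]⟩
    have h1 : (AlgEquiv.ofBijective f1 hf1).symm (X.incl z) = ⟨_, hmem⟩ := by
      rw [AlgEquiv.symm_apply_eq]; rfl
    show f2 ((AlgEquiv.ofBijective f1 hf1).symm (X.incl z)) = X'.incl z
    rw [h1]; rfl

variable [Module R L] [IsScalarTower R B L]

theorem exists_ext_of_linearMap' (hπ : Function.Surjective (algebraMap R B))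
    (δ : RingHom.ker (algebraMap R B) →ₗ[R] L) :
    ∃ (X : Exal.Ext A B L) (u : R →ₐ[A] X.E),
      (∀ p, X.proj (u p) = algebraMap R B p) ∧
        ∀ j : RingHom.ker (algebraMap R B), X.incl (δ j) = u j := by
  obtain ⟨T₀, hT₀⟩ : ∃ T₀ : Exal.Ext A R L, T₀.IsTrivial := ⟨_, trivial_isTrivial⟩
  obtain ⟨s₀, hs₀⟩ := hT₀
  have hs₀' : ∀ b, T₀.proj ((s₀ : R →+* T₀.E) b) = b := hs₀
  have hJL : ∀ j ∈ RingHom.ker (algebraMap R B), ∀ z : L, j • z = 0 := by
    intro j hj z
    rw [← algebraMap_smul B j z, (RingHom.mem_ker).1 hj, zero_smul]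
  have hPL : ∀ (p : R) (z : L), algebraMap R B p • z = p • z := fun p z => algebraMap_smul B p z
  obtain ⟨K, hK⟩ : ∃ K : Ideal T₀.E, ∀ t, t ∈ K ↔
      ∃ j : RingHom.ker (algebraMap R B), t = s₀ (j : R) - T₀.incl (δ j) := by
    refine ⟨{ carrier := {t | ∃ j : RingHom.ker (algebraMap R B), t = s₀ (j : R) - T₀.incl (δ j)}
              add_mem' := ?_
              zero_mem' := ?_
              smul_mem' := ?_ }, fun _ => Iff.rfl⟩
    · rintro _ _ ⟨j, rfl⟩ ⟨j', rfl⟩
      refine ⟨j + j', ?_⟩
      rw [Submodule.coe_add, map_add, map_add, map_add]; ring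
    · exact ⟨0, by rw [Submodule.coe_zero, map_zero, map_zero, map_zero, sub_zero]⟩
    · rintro c _ ⟨j, rfl⟩
      refine ⟨T₀.proj c • j, ?_⟩
      have hc : c = s₀ (T₀.proj c) + T₀.incl (delta (s₀ : R →+* T₀.E) hs₀' c) := by
        rw [incl_delta]
        show c = s₀ (T₀.proj c) + (c - s₀ (T₀.proj c))
        ring
      have h1 : c * T₀.incl (δ j) = T₀.incl (T₀.proj c • δ j) := T₀.isExtension.mul_incl _ _
      have h2 : T₀.incl (delta (s₀ : R →+* T₀.E) hs₀' c) * s₀ (j : R) = 0 := by
        rw [mul_comm, T₀.isExtension.mul_incl, hs₀, hJL _ j.2, map_zero]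
      have h3 : c * s₀ (j : R) = s₀ (T₀.proj c) * s₀ (j : R) := by
        calc c * s₀ (j : R)
            = (s₀ (T₀.proj c) + T₀.incl (delta (s₀ : R →+* T₀.E) hs₀' c)) * s₀ (j : R) := by
              rw [← hc]
          _ = s₀ (T₀.proj c) * s₀ (j : R) := by rw [add_mul, h2, add_zero]
      rw [smul_eq_mul, map_smul, Submodule.coe_smul, smul_eq_mul, map_mul, mul_sub, h1, h3]
  have hKproj : ∀ t ∈ K, algebraMap R B (T₀.proj t) = 0 := by
    intro t ht
    obtain ⟨j, rfl⟩ := (hK t).1 ht
    rw [map_sub, hs₀, proj_incl, sub_zero]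
    exact j.2
  obtain ⟨projX, hprojX⟩ : ∃ projX : (T₀.E ⧸ K) →ₐ[A] B,
      ∀ t, projX (Ideal.Quotient.mk K t) = algebraMap R B (T₀.proj t) :=
    ⟨Ideal.Quotient.liftₐ K ((IsScalarTower.toAlgHom A R B).comp T₀.proj) hKproj, fun _ => rfl⟩
  obtain ⟨inclX, hinclX⟩ : ∃ inclX : L →+ (T₀.E ⧸ K),
      ∀ z, inclX z = Ideal.Quotient.mk K (T₀.incl z) :=
    ⟨(Ideal.Quotient.mk K).toAddMonoidHom.comp T₀.incl, fun _ => rfl⟩
  have hext : Exal.IsExtension (A := A) (B := B) (E := T₀.E ⧸ K) (L := L) projX inclX := by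
    refine ⟨?_, ?_, ?_, ?_⟩
    · intro r
      obtain ⟨p, rfl⟩ := hπ r
      exact ⟨Ideal.Quotient.mk K (s₀ p), by rw [hprojX, hs₀]⟩
    · rw [injective_iff_map_eq_zero]
      intro z hz
      rw [hinclX, Ideal.Quotient.eq_zero_iff_mem, hK] at hz
      obtain ⟨j, hj⟩ := hz
      have hj0 : (j : R) = 0 := by
        have := congrArg T₀.proj hj
        rw [proj_incl, map_sub, hs₀, proj_incl, sub_zero] at this
        exact this.symm
      have hj0' : j = 0 := Subtype.ext hj0
      rw [hj0', Submodule.coe_zero, map_zero, map_zero, map_zero, sub_zero] at hj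
      exact T₀.isExtension.incl_injective (by rw [hj, map_zero])
    · intro x
      obtain ⟨c, rfl⟩ := Ideal.Quotient.mk_surjective x
      constructor
      · intro hx
        rw [hprojX] at hx
        have hx' : T₀.proj c ∈ RingHom.ker (algebraMap R B) := hx
        have hc : c = s₀ (T₀.proj c) + T₀.incl (delta (s₀ : R →+* T₀.E) hs₀' c) := by
          rw [incl_delta]
          show c = s₀ (T₀.proj c) + (c - s₀ (T₀.proj c))
          ring
        refine ⟨delta (s₀ : R →+* T₀.E) hs₀' c + δ ⟨T₀.proj c, hx'⟩, ?_⟩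
        rw [hinclX, Ideal.Quotient.eq, hK]
        refine ⟨-⟨T₀.proj c, hx'⟩, ?_⟩
        rw [map_neg, map_neg, Submodule.coe_neg, map_neg, map_add]
        show _ = -s₀ (T₀.proj c) - -T₀.incl (δ ⟨T₀.proj c, hx'⟩)
        linear_combination -hc
      · rintro ⟨z, hz⟩
        rw [← hz, hinclX, hprojX, proj_incl, map_zero]
    · intro x z
      obtain ⟨c, rfl⟩ := Ideal.Quotient.mk_surjective x
      rw [hinclX, hinclX, ← map_mul, T₀.isExtension.mul_incl, hprojX, hPL]
  refine ⟨{ E := T₀.E ⧸ K, proj := projX, incl := inclX, isExtension := hext },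
    (Ideal.Quotient.mkₐ A K).comp s₀, fun p => ?_, fun j => ?_⟩
  · show projX (Ideal.Quotient.mk K (s₀ p)) = _
    rw [hprojX, hs₀]
  · show inclX (δ j) = Ideal.Quotient.mk K (s₀ (j : R))
    rw [hinclX, Ideal.Quotient.eq, hK]
    refine ⟨-j, ?_⟩
    rw [map_neg, map_neg, Submodule.coe_neg, map_neg]
    ring

end General

section Main

variable {A B M : Type u} [CommRing A] [CommRing B] [Algebra A B]
  (P : Algebra.Extension.{u} A B)
  [AddCommGroup M] [Module B M] [Module P.Ring M] [IsScalarTower P.Ring B M]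
  [Module A M] [IsScalarTower A B M] [IsScalarTower A P.Ring M]

variable {P}

/-- the value in `M` under `g x` for `x` in the kernel. -/
noncomputable def lamFun (X : Exal.Ext A B M) (g : P.Ring →ₐ[A] X.E)
    (hg : ∀ r, X.proj (g r) = algebraMap P.Ring B r) (x : P.ker) : M :=
  X.kerLift (g x) (by rw [hg]; exact (RingHom.mem_ker).1 x.2)

theorem incl_lamFun (X : Exal.Ext A B M) (g : P.Ring →ₐ[A] X.E)
    (hg : ∀ r, X.proj (g r) = algebraMap P.Ring B r) (x : P.ker) :
    X.incl (lamFun X g hg x) = g x := X.incl_kerLift _ _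

/-- the linear map `I → M` attached to a lift `g` of `R → B` to the middle ring. -/
noncomputable def lam (X : Exal.Ext A B M) (g : P.Ring →ₐ[A] X.E)
    (hg : ∀ r, X.proj (g r) = algebraMap P.Ring B r) : P.ker →ₗ[P.Ring] M where
  toFun x := lamFun X g hg x
  map_add' x y := X.isExtension.incl_injective (by
    rw [map_add, incl_lamFun, incl_lamFun, incl_lamFun, Submodule.coe_add, map_add])
  map_smul' r x := X.isExtension.incl_injective (by
    rw [incl_lamFun, RingHom.id_apply, ← algebraMap_smul B r (lamFun X g hg x), ← hg r,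
      ← X.isExtension.mul_incl, incl_lamFun, Submodule.coe_smul, smul_eq_mul, map_mul])

theorem incl_lam (X : Exal.Ext A B M) (g : P.Ring →ₐ[A] X.E)
    (hg : ∀ r, X.proj (g r) = algebraMap P.Ring B r) (x : P.ker) :
    X.incl (lam X g hg x) = g x := incl_lamFun X g hg x

noncomputable def phi (X : Exal.Ext A B M) (g : P.Ring →ₐ[A] X.E)
    (hg : ∀ r, X.proj (g r) = algebraMap P.Ring B r) : P.Cotangent →ₗ[B] M :=
  (LinearMap.liftBaseChange B (lam X g hg)) ∘ₗ P.cotangentEquiv.symm.toLinearMap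

theorem phi_mk (X : Exal.Ext A B M) (g : P.Ring →ₐ[A] X.E)
    (hg : ∀ r, X.proj (g r) = algebraMap P.Ring B r) (x : P.ker) :
    phi X g hg (Algebra.Extension.Cotangent.mk x) = lam X g hg x := by
  have h1 : P.cotangentEquiv.symm (Algebra.Extension.Cotangent.mk x) = (1 : B) ⊗ₜ[P.Ring] x := by
    rw [LinearEquiv.symm_apply_eq, Algebra.Extension.contangentEquiv_tmul, one_smul]
  show LinearMap.liftBaseChange B (lam X g hg)
    (P.cotangentEquiv.symm (Algebra.Extension.Cotangent.mk x)) = _
  rw [h1, LinearMap.liftBaseChange_tmul, one_smul]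

theorem phi_ext {φ φ' : P.Cotangent →ₗ[B] M}
    (h : ∀ x : P.ker, φ (Algebra.Extension.Cotangent.mk x) = φ' (Algebra.Extension.Cotangent.mk x)) :
    φ = φ' := by
  apply LinearMap.ext
  intro c
  obtain ⟨x, rfl⟩ := Algebra.Extension.Cotangent.mk_surjective c
  exact h x

/-- the difference of two lifts, as a function to `M`. -/
noncomputable def dFun (X : Exal.Ext A B M) (g g' : P.Ring →ₐ[A] X.E)
    (hg : ∀ r, X.proj (g r) = algebraMap P.Ring B r)
    (hg' : ∀ r, X.proj (g' r) = algebraMap P.Ring B r) (r : P.Ring) : M :=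
  X.kerLift (g' r - g r) (by rw [map_sub, hg, hg', sub_self])

theorem incl_dFun (X : Exal.Ext A B M) (g g' : P.Ring →ₐ[A] X.E)
    (hg : ∀ r, X.proj (g r) = algebraMap P.Ring B r)
    (hg' : ∀ r, X.proj (g' r) = algebraMap P.Ring B r) (r : P.Ring) :
    X.incl (dFun X g g' hg hg' r) = g' r - g r := X.incl_kerLift _ _

/-- the derivation `R → M` measuring the difference of two lifts. -/
noncomputable def diffDer (X : Exal.Ext A B M) (g g' : P.Ring →ₐ[A] X.E)
    (hg : ∀ r, X.proj (g r) = algebraMap P.Ring B r)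
    (hg' : ∀ r, X.proj (g' r) = algebraMap P.Ring B r) : Derivation A P.Ring M :=
  Derivation.mk'
    { toFun := fun r => dFun X g g' hg hg' r
      map_add' := fun r s => X.isExtension.incl_injective (by
        rw [map_add, incl_dFun, incl_dFun, incl_dFun, map_add, map_add]; ring)
      map_smul' := fun a r => X.isExtension.incl_injective (by
        rw [incl_dFun, RingHom.id_apply, ← algebraMap_smul B a (dFun X g g' hg hg' r),
          ← X.proj.commutes a, ← X.isExtension.mul_incl, incl_dFun, map_smul, map_smul,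
          Algebra.smul_def, Algebra.smul_def]
        ring) }
    (fun r s => X.isExtension.incl_injective (by
      show X.incl (dFun X g g' hg hg' (r * s)) =
        X.incl (r • dFun X g g' hg hg' s + s • dFun X g g' hg hg' r)
      have h3 := incl_mul_incl X (dFun X g g' hg hg' r) (dFun X g g' hg hg' s)
      rw [incl_dFun, incl_dFun] at h3
      rw [incl_dFun, map_add, ← algebraMap_smul B r (dFun X g g' hg hg' s),
        ← algebraMap_smul B s (dFun X g g' hg hg' r), ← hg r, ← hg s,
        ← X.isExtension.mul_incl, ← X.isExtension.mul_incl, incl_dFun, incl_dFun,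
        map_mul, map_mul]
      linear_combination h3))

theorem incl_diffDer (X : Exal.Ext A B M) (g g' : P.Ring →ₐ[A] X.E)
    (hg : ∀ r, X.proj (g r) = algebraMap P.Ring B r)
    (hg' : ∀ r, X.proj (g' r) = algebraMap P.Ring B r) (r : P.Ring) :
    X.incl (diffDer X g g' hg hg' r) = g' r - g r := incl_dFun X g g' hg hg' r

/-- two lifts give cohomologous maps. -/
theorem phi_sub_mem (X : Exal.Ext A B M) (g g' : P.Ring →ₐ[A] X.E)
    (hg : ∀ r, X.proj (g r) = algebraMap P.Ring B r)
    (hg' : ∀ r, X.proj (g' r) = algebraMap P.Ring B r) :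
    phi X g' hg' - phi X g hg ∈ LinearMap.range (LinearMap.lcomp B M P.cotangentComplex) := by
  refine ⟨LinearMap.liftBaseChange B (diffDer X g g' hg hg').liftKaehlerDifferential, ?_⟩
  apply phi_ext
  intro x
  rw [LinearMap.lcomp_apply', LinearMap.comp_apply, Algebra.Extension.cotangentComplex_mk,
    LinearMap.liftBaseChange_tmul, one_smul, Derivation.liftKaehlerDifferential_comp_D,
    LinearMap.sub_apply, phi_mk, phi_mk]
  apply X.isExtension.incl_injective
  rw [incl_diffDer, map_sub, incl_lam, incl_lam]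

theorem phi_congr_equiv (X Y : Exal.Ext A B M) (e : X.Equiv Y) (g : P.Ring →ₐ[A] X.E)
    (hg : ∀ r, X.proj (g r) = algebraMap P.Ring B r) :
    ∃ (g' : P.Ring →ₐ[A] Y.E) (hg' : ∀ r, Y.proj (g' r) = algebraMap P.Ring B r),
      phi Y g' hg' = phi X g hg := by
  refine ⟨e.toAlgEquiv.toAlgHom.comp g, fun r => ?_, ?_⟩
  · show Y.proj (e.toAlgEquiv (g r)) = _
    rw [e.proj_apply, hg]
  · apply phi_ext
    intro x
    rw [phi_mk, phi_mk]
    apply Y.isExtension.incl_injective
    rw [incl_lam, ← e.apply_incl, incl_lam]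
    rfl

/-- the function `r ↦ ψ (1 ⊗ D r)`. -/
noncomputable def dOf (ψ : P.CotangentSpace →ₗ[B] M) (r : P.Ring) : M :=
  ψ ((1 : B) ⊗ₜ[P.Ring] KaehlerDifferential.D A P.Ring r)

theorem dOf_mul (ψ : P.CotangentSpace →ₗ[B] M) (c c' : P.Ring) :
    dOf ψ (c * c') = algebraMap P.Ring B c • dOf ψ c' + algebraMap P.Ring B c' • dOf ψ c := by
  unfold dOf
  rw [Derivation.leibniz, TensorProduct.tmul_add, TensorProduct.tmul_smul, TensorProduct.tmul_smul,
    map_add, ← algebraMap_smul B c, ← algebraMap_smul B c', map_smul, map_smul]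

theorem injective_aux (X Y : Exal.Ext A B M) (g : P.Ring →ₐ[A] X.E)
    (hg : ∀ r, X.proj (g r) = algebraMap P.Ring B r) (h : P.Ring →ₐ[A] Y.E)
    (hh : ∀ r, Y.proj (h r) = algebraMap P.Ring B r)
    (hmem : phi X g hg - phi Y h hh ∈
      LinearMap.range (LinearMap.lcomp B M P.cotangentComplex)) :
    Nonempty (X.Equiv Y) := by
  obtain ⟨ψ, hψ⟩ := hmem
  have hψ' : ∀ x : P.ker, dOf ψ (x : P.Ring) = lam X g hg x - lam Y h hh x := by
    intro x
    have := LinearMap.congr_fun hψ (Algebra.Extension.Cotangent.mk x)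
    rw [LinearMap.lcomp_apply', LinearMap.comp_apply, Algebra.Extension.cotangentComplex_mk,
      LinearMap.sub_apply, phi_mk, phi_mk] at this
    exact this
  let h0 : P.Ring →+* Y.E := twist Y (algebraMap P.Ring B) (h : P.Ring →+* Y.E) hh (dOf ψ)
    (by unfold dOf; rw [map_zero, TensorProduct.tmul_zero, map_zero])
    (fun c c' => by unfold dOf; rw [map_add, TensorProduct.tmul_add, map_add])
    (by unfold dOf; rw [Derivation.map_one_eq_zero, TensorProduct.tmul_zero, map_zero])
    (dOf_mul ψ)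
  have h0_apply : ∀ r, h0 r = h r + Y.incl (dOf ψ r) := fun r => rfl
  let h' : P.Ring →ₐ[A] Y.E :=
    { h0 with
      commutes' := fun a => by
        show h0 (algebraMap A P.Ring a) = _
        rw [h0_apply]
        unfold dOf
        rw [Derivation.map_algebraMap, TensorProduct.tmul_zero, map_zero, map_zero, add_zero]
        exact h.commutes a }
  have h'_apply : ∀ r, h' r = h r + Y.incl (dOf ψ r) := fun r => rfl
  refine equiv_of_agree' P.algebraMap_surjective X Y g h' hg (fun p => ?_) (fun j hj => ?_)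
  · rw [h'_apply, map_add, hh, proj_incl, add_zero]
  · refine ⟨lam X g hg ⟨j, hj⟩, incl_lam X g hg ⟨j, hj⟩, ?_⟩
    rw [h'_apply, hψ' ⟨j, hj⟩, ← incl_lam Y h hh ⟨j, hj⟩, ← map_add]
    congr 1
    abel

theorem smul_cot (r : P.Ring) (c : P.Cotangent) : r • c = algebraMap P.Ring B r • c :=
  (algebraMap_smul B r c).symm

theorem surjective_aux (φ : P.Cotangent →ₗ[B] M) :
    ∃ (X : Exal.Ext A B M) (g : P.Ring →ₐ[A] X.E)
      (hg : ∀ r, X.proj (g r) = algebraMap P.Ring B r), phi X g hg = φ := by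
  let δ₀ : P.ker →ₗ[P.Ring] M :=
    { toFun := fun x => φ (Algebra.Extension.Cotangent.mk x)
      map_add' := fun x y => by rw [map_add, map_add]
      map_smul' := fun r x => by
        rw [map_smul, smul_cot, map_smul, RingHom.id_apply, algebraMap_smul] }
  obtain ⟨X, g, hg, hgδ⟩ := exists_ext_of_linearMap' (A := A) P.algebraMap_surjective δ₀
  refine ⟨X, g, hg, ?_⟩
  apply phi_ext
  intro x
  rw [phi_mk]
  apply X.isExtension.incl_injective
  rw [incl_lam, ← hgδ x]
  rfl

variable (P) in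
theorem exists_equiv
    (hlift : ∀ X : Exal.Ext A B M, ∃ g : P.Ring →ₐ[A] X.E,
      ∀ r, X.proj (g r) = algebraMap P.Ring B r) :
    ∃ e : Exal.Exalcom A B M ≃ ((P.Cotangent →ₗ[B] M) ⧸
        LinearMap.range (LinearMap.lcomp B M P.cotangentComplex)), e 0 = 0 := by
  classical
  let Φ : Exal.Ext A B M → ((P.Cotangent →ₗ[B] M) ⧸
        LinearMap.range (LinearMap.lcomp B M P.cotangentComplex)) := fun X =>
    Submodule.Quotient.mk (phi X (hlift X).choose (hlift X).choose_spec)
  have hΦ : ∀ (X : Exal.Ext A B M) (g : P.Ring →ₐ[A] X.E)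
      (hg : ∀ r, X.proj (g r) = algebraMap P.Ring B r), Φ X = Submodule.Quotient.mk (phi X g hg) := by
    intro X g hg
    show Submodule.Quotient.mk _ = Submodule.Quotient.mk _
    rw [Submodule.Quotient.eq]
    exact phi_sub_mem X g _ hg _
  have hresp : ∀ X Y : Exal.Ext A B M, Nonempty (X.Equiv Y) → Φ X = Φ Y := by
    rintro X Y ⟨e⟩
    obtain ⟨g, hg⟩ := hlift X
    obtain ⟨g', hg', hgg⟩ := phi_congr_equiv X Y e g hg
    rw [hΦ X g hg, hΦ Y g' hg', hgg]
  let e₀ : Exal.Exalcom A B M → ((P.Cotangent →ₗ[B] M) ⧸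
        LinearMap.range (LinearMap.lcomp B M P.cotangentComplex)) :=
    Quotient.lift Φ (fun X Y h => hresp X Y h)
  have hinj : Function.Injective e₀ := by
    intro a b
    refine Quotient.inductionOn₂ a b fun X Y hXY => ?_
    have hXY' : Φ X = Φ Y := hXY
    obtain ⟨g, hg⟩ := hlift X
    obtain ⟨h, hh⟩ := hlift Y
    rw [hΦ X g hg, hΦ Y h hh, Submodule.Quotient.eq] at hXY'
    exact Quotient.sound (injective_aux X Y g hg h hh hXY')
  have hsurj : Function.Surjective e₀ := by
    intro q
    obtain ⟨φ, rfl⟩ := Submodule.Quotient.mk_surjective _ q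
    obtain ⟨X, g, hg, hφ⟩ := surjective_aux (A := A) φ
    refine ⟨X.cl, ?_⟩
    show Φ X = _
    rw [hΦ X g hg, hφ]
  refine ⟨Equiv.ofBijective e₀ ⟨hinj, hsurj⟩, ?_⟩
  show Φ (Exal.Ext.trivial A B M) = 0
  obtain ⟨s, hs⟩ := trivial_isTrivial (A := A) (B := B) (L := M)
  have hg₀ : ∀ r, (Exal.Ext.trivial A B M).proj ((s.comp (IsScalarTower.toAlgHom A P.Ring B)) r) =
      algebraMap P.Ring B r := fun r => hs _
  rw [hΦ _ (s.comp (IsScalarTower.toAlgHom A P.Ring B)) hg₀]
  have : phi (Exal.Ext.trivial A B M) (s.comp (IsScalarTower.toAlgHom A P.Ring B)) hg₀ = 0 := by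
    apply phi_ext
    intro x
    rw [phi_mk, LinearMap.zero_apply]
    apply (Exal.Ext.trivial A B M).isExtension.incl_injective
    rw [incl_lam, map_zero]
    show s (algebraMap P.Ring B x) = 0
    rw [show algebraMap P.Ring B x = 0 from x.2, map_zero]
  rw [this]
  rfl

end Main

theorem main12292 (A B : Type u) [CommRing A] [CommRing B] [Algebra A B] (M : Type u)
    [AddCommGroup M] [Module B M] :
    ∃ e : Exal.Exalcom A B M ≃ CotT.T1 (CotT.canon A B) M, e 0 = 0 := by
  let Pc := CotT.canon A B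
  letI : Module Pc.toExtension.Ring M := Module.compHom M (algebraMap Pc.toExtension.Ring B)
  haveI : IsScalarTower Pc.toExtension.Ring B M := IsScalarTower.of_compHom _ _ _
  letI : Module A M := Module.compHom M (algebraMap A B)
  haveI : IsScalarTower A B M := IsScalarTower.of_compHom _ _ _
  haveI : IsScalarTower A Pc.toExtension.Ring M := ⟨fun a r x => by
    change algebraMap Pc.toExtension.Ring B (a • r) • x =
      algebraMap A B a • (algebraMap Pc.toExtension.Ring B r • x)
    rw [Algebra.smul_def, map_mul, ← IsScalarTower.algebraMap_apply, mul_smul]⟩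
  have hlift : ∀ X : Exal.Ext A B M, ∃ g : Pc.toExtension.Ring →ₐ[A] X.E,
      ∀ r, X.proj (g r) = algebraMap Pc.toExtension.Ring B r := by
    intro X
    choose c hc using X.isExtension.proj_surjective
    refine ⟨MvPolynomial.aeval c, fun r => ?_⟩
    rw [CotT.algebraMap_toExtension]
    have : X.proj.comp (MvPolynomial.aeval c) = MvPolynomial.aeval Pc.val := by
      apply MvPolynomial.algHom_ext
      intro b
      simp only [AlgHom.comp_apply, MvPolynomial.aeval_X, hc]
      rfl
    exact AlgHom.congr_fun this r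
  obtain ⟨e', he'⟩ := exists_equiv Pc.toExtension hlift
  obtain ⟨-, hker, hsurj⟩ := Groth.Agent.S12289.result A B B (CotT.CanonRels A B) Pc M
  let eT : ((Pc.toExtension.Cotangent →ₗ[B] M) ⧸
      LinearMap.range (LinearMap.lcomp B M Pc.toExtension.cotangentComplex)) ≃ₗ[B]
        CotT.T1 Pc M :=
    (Submodule.quotEquivOfEq _ _ hker.symm).trans
      ((CotT.homToT1 Pc M).quotKerEquivOfSurjective hsurj)
  exact ⟨e'.trans eT.toEquiv, by
    show eT (e' 0) = 0
    rw [he', map_zero]⟩

end Groth.Agent.Lib.ExalT1H1
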