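import Mathlib
import Groth.Agent.Lib.LocalCrit4_helper9
import Groth.Agent.Lib.LocalCrit5_helper9

/-!
# Flatness and principal (square-zero) ideals
-/

namespace Groth.Agent.Lib.LocalCrit14

open TensorProduct

universe u v

section principal

variable {A : Type*} [CommRing A] (t : A) (M : Type*) [AddCommGroup M] [Module A M]

lemma exists_tmul_eq (x : (Ideal.span {t} : Ideal A) ⊗[A] M) :
    ∃ m : M, x = (⟨t, Ideal.subset_span rfl⟩ : (Ideal.span {t} : Ideal A)) ⊗ₜ[A] m := by
  induction x using TensorProduct.induction_on with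
  | zero => exact ⟨0, (tmul_zero _ _).symm⟩
  | tmul a m =>
    obtain ⟨a, ha⟩ := a
    obtain ⟨c, rfl⟩ := Ideal.mem_span_singleton'.mp ha
    refine ⟨c • m, ?_⟩
    rw [← TensorProduct.smul_tmul]
    congr 1
  | add x y hx hy =>
    obtain ⟨m, rfl⟩ := hx
    obtain ⟨m', rfl⟩ := hy
    exact ⟨m + m', (tmul_add _ _ _).symm⟩

/-- If every `m` with `t m = 0` lies in `J M` for an ideal `J` killing `t`, then `(t) ⊗ M → M` is
injective. -/
theorem principal_rTensor_injective (J : Ideal A) (hJ : ∀ a ∈ J, a * t = 0)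
    (h : ∀ m : M, t • m = 0 → m ∈ J • (⊤ : Submodule A M)) :
    Function.Injective ((Ideal.span {t} : Ideal A).subtype.rTensor M) := by
  rw [injective_iff_map_eq_zero]
  intro x hx
  obtain ⟨m, rfl⟩ := exists_tmul_eq t M x
  have h1 : t • m = 0 := by
    have := congrArg (TensorProduct.lid A M) hx
    simpa using this
  have h2 := h m h1
  refine Submodule.smul_induction_on
    (p := fun m => (⟨t, Ideal.subset_span rfl⟩ : (Ideal.span {t} : Ideal A)) ⊗ₜ[A] m = 0)
    h2 ?_ ?_
  · intro a ha y _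
    rw [← TensorProduct.smul_tmul]
    have : a • (⟨t, Ideal.subset_span rfl⟩ : (Ideal.span {t} : Ideal A)) = 0 :=
      Subtype.ext (by simpa [smul_eq_mul] using hJ a ha)
    rw [this, zero_tmul]
  · intro y z hy hz
    rw [tmul_add, hy, hz, add_zero]

/-- For flat `M`, `t m = 0` implies `m = Σ aⱼ yⱼ` with `t aⱼ = 0`. -/
theorem exists_of_flat [Module.Flat A M] (m : M) (h : t • m = 0) :
    ∃ (k : ℕ) (a : Fin k → A) (y : Fin k → M), m = ∑ j, a j • y j ∧ ∀ j, t * a j = 0 := by
  have h' : ∑ _i : Unit, (fun _ : Unit => t) _i • (fun _ : Unit => m) _i = 0 := by simpa using h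
  obtain ⟨k, a, y, h1, h2⟩ := Module.Flat.isTrivialRelation_of_sum_smul_eq_zero h'
  refine ⟨k, a (), y, h1 (), fun j => ?_⟩
  simpa using h2 j

/-- Square-zero principal ideal criterion. -/
theorem flat_iff_of_sq_zero {A : Type u} [CommRing A] (t : A) (ht : t * t = 0)
    (hann : ∀ a : A, t * a = 0 → a ∈ Ideal.span {t})
    (M : Type v) [AddCommGroup M] [Module A M]
    [Module.Flat (A ⧸ Ideal.span {t}) ((A ⧸ Ideal.span {t}) ⊗[A] M)] :
    Module.Flat A M ↔ ∀ m : M, t • m = 0 → ∃ m' : M, m = t • m' := by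
  constructor
  · intro hflat m hm
    obtain ⟨k, a, y, h1, h2⟩ := exists_of_flat t M m hm
    choose b hb using fun j => Ideal.mem_span_singleton'.mp (hann (a j) (h2 j))
    refine ⟨∑ j, b j • y j, ?_⟩
    rw [h1, Finset.smul_sum]
    refine Finset.sum_congr rfl fun j _ => ?_
    rw [smul_smul, mul_comm, hb j]
  · intro h
    refine Groth.Agent.Lib.LocalCrit4.flat_of_nilpotent (Ideal.span {t}) ⟨2, ?_⟩ M ?_
    · rw [pow_two, Ideal.span_singleton_mul_span_singleton, ht]
      simp
    · refine principal_rTensor_injective t M (Ideal.span {t}) ?_ ?_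
      · intro a ha
        obtain ⟨c, rfl⟩ := Ideal.mem_span_singleton'.mp ha
        rw [mul_assoc, ht, mul_zero]
      · intro m hm
        obtain ⟨m', rfl⟩ := h m hm
        exact Submodule.smul_mem_smul (Ideal.subset_span rfl) Submodule.mem_top

end principal

end Groth.Agent.Lib.LocalCrit14
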