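import Mathlib
import Groth.Prelude.Def_CotT
import Groth.Agent.Lib.DefDual3_helper3
import Groth.Agent.Lib.LocalCrit14_helper9
import Groth.Agent.Lib.ExalT1_helper1

/-!
# First-order deformations of `Spec B` are classified by `T¹(B/k, B)` (helper3)
-/

set_option autoImplicit false
set_option linter.unusedSectionVars false
set_option linter.style.haveILetI false

universe u

open CategoryTheory CategoryTheory.Limits AlgebraicGeometry DualNumber

namespace Groth.Agent.Lib.DefDualH3

open Groth.Agent.Lib.DefTrivArtH3

variable (k : Type u) [Field k] {B : Type u} [CommRing B] [Algebra k B]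

theorem decomp (d : DualNumber k) :
    d = algebraMap k (DualNumber k) d.fst + ε * algebraMap k (DualNumber k) d.snd := by
  apply TrivSqZeroExt.ext
  · simp [TrivSqZeroExt.fst_mul, TrivSqZeroExt.algebraMap_eq_inl]
  · simp [DualNumber.snd_mul, TrivSqZeroExt.algebraMap_eq_inl]

theorem isDualLike_dual : IsDualLike (ArtFun.Art.dual k k) (ε : DualNumber k) where
  h1 := eps_mul_eps
  h2 := fst_eps
  h3 := fun a => ⟨a.fst, a.snd, decomp k a⟩
  h4 := by
    show (ε : DualNumber k) ≠ (0 : DualNumber k)
    intro h
    have := congrArg TrivSqZeroExt.snd h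
    rw [snd_eps, TrivSqZeroExt.snd_zero] at this
    exact one_ne_zero this

variable {k}

section FromExt

variable (E : Exal.Ext k B B)

theorem proj_incl (z : B) : E.proj (E.incl z) = 0 := (E.isExtension.exact _).2 ⟨z, rfl⟩

theorem incl_one_sq : E.incl 1 * E.incl 1 = 0 := by
  rw [E.isExtension.mul_incl, proj_incl, zero_smul, map_zero]

/-- the structure map `k[ε] → E`. -/
noncomputable def gammaE : DualNumber k →ₐ[k] E.E :=
  DualNumber.lift ⟨(Algebra.ofId k E.E, E.incl 1), incl_one_sq E, fun _ => Commute.all _ _⟩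

theorem gammaE_eps : gammaE E ε = E.incl 1 := DualNumber.lift_apply_eps _

theorem gammaE_apply (d : DualNumber k) :
    gammaE E d = algebraMap k E.E d.fst + algebraMap k E.E d.snd * E.incl 1 :=
  DualNumber.lift_apply_apply _ d

theorem proj_gammaE (d : DualNumber k) : E.proj (gammaE E d) = algebraMap k B d.fst := by
  rw [gammaE_apply, map_add, map_mul, proj_incl, mul_zero, add_zero, AlgHom.commutes]

theorem span_eps_isMaximal : (Ideal.span {(ε : DualNumber k)}).IsMaximal := by
  have h : Ideal.span {(ε : DualNumber k)} =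
      RingHom.ker ((TrivSqZeroExt.fstHom k k k : DualNumber k →ₐ[k] k) : DualNumber k →+* k) := by
    ext d
    rw [Ideal.mem_span_singleton', RingHom.mem_ker]
    constructor
    · rintro ⟨c, rfl⟩
      show (c * ε).fst = 0
      rw [TrivSqZeroExt.fst_mul, fst_eps, mul_zero]
    · intro hd
      have hd' : d.fst = 0 := hd
      refine ⟨algebraMap k (DualNumber k) d.snd, ?_⟩
      conv_rhs => rw [decomp k d, hd', map_zero, zero_add]
      rw [mul_comm]
  rw [h]
  exact RingHom.ker_isMaximal_of_surjective _ (fun a => ⟨TrivSqZeroExt.inl a, rfl⟩)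

theorem flat_gammaE : (gammaE E : DualNumber k →+* E.E).Flat := by
  letI : Algebra (DualNumber k) E.E := (gammaE E : DualNumber k →+* E.E).toAlgebra
  show Module.Flat (DualNumber k) E.E
  haveI := span_eps_isMaximal (k := k)
  letI : Field (DualNumber k ⧸ Ideal.span {(ε : DualNumber k)}) := Ideal.Quotient.field _
  refine (Groth.Agent.Lib.LocalCrit14.flat_iff_of_sq_zero (ε : DualNumber k) eps_mul_eps ?_
    E.E).2 ?_
  · intro a ha
    have h1 : (ε * a).snd = a.fst := by
      rw [DualNumber.snd_mul, fst_eps, snd_eps, zero_mul, one_mul, zero_add]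
    rw [ha, TrivSqZeroExt.snd_zero] at h1
    rw [Ideal.mem_span_singleton']
    refine ⟨algebraMap k (DualNumber k) a.snd, ?_⟩
    conv_rhs => rw [decomp k a, ← h1, map_zero, zero_add]
    rw [mul_comm]
  · intro m hm
    have hm' : E.incl 1 * m = 0 := by
      have : (ε : DualNumber k) • m = gammaE E ε * m := rfl
      rw [this, gammaE_eps] at hm
      exact hm
    have h2 : E.incl (E.proj m) = 0 := by rw [incl_eq_mul, mul_comm]; exact hm'
    have h3 : E.proj m = 0 := by
      apply E.isExtension.incl_injective
      rw [h2, map_zero]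
    obtain ⟨z, hz⟩ := (E.isExtension.exact m).1 h3
    obtain ⟨y, rfl⟩ := E.isExtension.proj_surjective z
    refine ⟨y, ?_⟩
    have : (ε : DualNumber k) • y = gammaE E ε * y := rfl
    rw [this, gammaE_eps, ← hz, incl_eq_mul, mul_comm]

theorem isPushout_ext :
    IsPushout (CommRingCat.ofHom (gammaE E : DualNumber k →+* E.E))
      (CommRingCat.ofHom ((TrivSqZeroExt.fstHom k k k : DualNumber k →ₐ[k] k) :
        DualNumber k →+* k))
      (CommRingCat.ofHom (E.proj : E.E →+* B)) (CommRingCat.ofHom (algebraMap k B)) := by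
  have hsurj : Function.Surjective (E.proj : E.E →+* B) := E.isExtension.proj_surjective
  have hcond : ∀ (s : PushoutCocone (CommRingCat.ofHom (gammaE E : DualNumber k →+* E.E))
      (CommRingCat.ofHom ((TrivSqZeroExt.fstHom k k k : DualNumber k →ₐ[k] k) :
        DualNumber k →+* k))) (d : DualNumber k),
      s.inl.hom (gammaE E d) = s.inr.hom d.fst := by
    intro s d
    exact congrArg (fun φ => φ.hom d) s.condition
  have hkey : ∀ (s : PushoutCocone (CommRingCat.ofHom (gammaE E : DualNumber k →+* E.E))
      (CommRingCat.ofHom ((TrivSqZeroExt.fstHom k k k : DualNumber k →ₐ[k] k) :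
        DualNumber k →+* k))),
      RingHom.ker (E.proj : E.E →+* B) ≤ RingHom.ker s.inl.hom := by
    intro s y hy
    have hy' : E.proj y = 0 := hy
    obtain ⟨z, rfl⟩ := (E.isExtension.exact y).1 hy'
    obtain ⟨y', rfl⟩ := E.isExtension.proj_surjective z
    rw [RingHom.mem_ker, incl_eq_mul, map_mul]
    have h1 : s.inl.hom (E.incl 1) = 0 := by
      rw [← gammaE_eps, hcond, fst_eps, map_zero]
    rw [h1, mul_zero]
  let desc : ∀ (s : PushoutCocone (CommRingCat.ofHom (gammaE E : DualNumber k →+* E.E))
      (CommRingCat.ofHom ((TrivSqZeroExt.fstHom k k k : DualNumber k →ₐ[k] k) :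
        DualNumber k →+* k))), B →+* s.pt := fun s =>
    RingHom.liftOfRightInverse (E.proj : E.E →+* B) (Function.surjInv hsurj)
      (Function.rightInverse_surjInv hsurj) ⟨s.inl.hom, hkey s⟩
  have hdesc : ∀ s y, desc s (E.proj y) = s.inl.hom y := fun s y =>
    RingHom.liftOfRightInverse_comp_apply (E.proj : E.E →+* B) (Function.surjInv hsurj)
      (Function.rightInverse_surjInv hsurj) ⟨s.inl.hom, hkey s⟩ y
  refine ⟨⟨?_⟩, ⟨PushoutCocone.IsColimit.mk _ (fun s => CommRingCat.ofHom (desc s)) ?_ ?_ ?_⟩⟩
  · apply CommRingCat.hom_ext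
    apply RingHom.ext
    intro d
    exact proj_gammaE E d
  · intro s
    apply CommRingCat.hom_ext
    apply RingHom.ext
    intro y
    exact hdesc s y
  · intro s
    apply CommRingCat.hom_ext
    apply RingHom.ext
    intro r
    show desc s (algebraMap k B r) = s.inr.hom r
    have h1 : algebraMap k B r = E.proj (algebraMap k E.E r) := (E.proj.commutes r).symm
    have h2 : algebraMap k E.E r = gammaE E (algebraMap k (DualNumber k) r) :=
      ((gammaE E).commutes r).symm
    rw [h1, hdesc, h2, hcond]
    rfl
  · intro s m hm1 hm2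
    apply CommRingCat.hom_ext
    apply RingHom.ext
    intro b
    obtain ⟨y, rfl⟩ := E.isExtension.proj_surjective b
    show m.hom (E.proj y) = desc s (E.proj y)
    rw [hdesc]
    exact congrArg (fun φ => φ.hom y) hm1

end FromExt

end Groth.Agent.Lib.DefDualH3
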