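import Mathlib
import Groth.Agent.Lib.DefDual4_helper3

/-!
# First-order deformations of `Spec B` are classified by `T¹(B/k, B)`: assembly (helper3)
-/

set_option autoImplicit false
set_option linter.unusedSectionVars false

universe u

open CategoryTheory CategoryTheory.Limits AlgebraicGeometry DualNumber

namespace Groth.Agent.Lib.DefDualH3

open Groth.Agent.Lib.DefTrivArtH3

variable {k : Type u} [Field k] {B : Type u} [CommRing B] [Algebra k B]

theorem gammaC_SpecMap {A : Type u} [CommRing A] {R : CommRingCat.{u}}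
    (φ : CommRingCat.of A ⟶ R) : gammaC (Spec.map φ) = φ ≫ (Scheme.ΓSpecIso R).inv := by
  rw [gammaC, Scheme.ΓSpecIso_inv_naturality]

theorem appTop_SpecMap_theta {R S : Type u} [CommRing R] [CommRing S] (φ : R →+* S) (y : R) :
    (Spec.map (CommRingCat.ofHom φ)).appTop.hom (theta R y) = theta S (φ y) := by
  have h := Scheme.ΓSpecIso_inv_naturality (CommRingCat.ofHom φ)
  exact (congrArg (fun ψ => ψ.hom y) h).symm

theorem exists_defSch (E : Exal.Ext k B B) :
    ∃ ξ : ArtFun.DefSch (Spec (CommRingCat.of B))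
      (Spec.map (CommRingCat.ofHom (algebraMap k B))) (ArtFun.Art.dual k k),
      Rel (A := ArtFun.Art.dual k k) (ε : DualNumber k) ξ E := by
  have hpb := isPullback_SpecMap_of_isPushout _ _ _ _ (isPushout_ext E)
  let ξ : ArtFun.DefSch (Spec (CommRingCat.of B))
      (Spec.map (CommRingCat.ofHom (algebraMap k B))) (ArtFun.Art.dual k k) :=
    { total := Spec (CommRingCat.of E.E)
      f := Spec.map (CommRingCat.ofHom (gammaE E : DualNumber k →+* E.E))
      flat := Flat.SpecMap_iff.2 (flat_gammaE E)
      i := Spec.map (CommRingCat.ofHom (E.proj : E.E →+* B))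
      isPullback := hpb }
  have hγ : ∀ d : DualNumber k, (gammaC ξ.f).hom d = theta E.E (gammaE E d) := by
    intro d
    have h := gammaC_SpecMap (A := DualNumber k)
      (CommRingCat.ofHom (gammaE E : DualNumber k →+* E.E))
    exact congrArg (fun ψ => ψ.hom d) h
  refine ⟨ξ, theta E.E, fun r => ?_, fun y => ?_, ?_⟩
  · rw [hγ]
    congr 1
    exact ((gammaE E).commutes r).symm
  · exact appTop_SpecMap_theta (E.proj : E.E →+* B) y
  · rw [hγ, gammaE_eps]

theorem main12293 (k B : Type u) [Field k] [CommRing B] [Algebra k B] :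
    Nonempty ((ArtFun.defFunctor (Λ := k) (Spec (CommRingCat.of B))
        (Spec.map (CommRingCat.ofHom (algebraMap k B)))).obj
        (ArtFun.Art.dual k k) ≃ CotT.T1 (CotT.canon k B) B) := by
  obtain ⟨e12292, -⟩ := Groth.Agent.Lib.ExalT1H1.main12292 k B B
  have hε := isDualLike_dual k
  let F : ArtFun.DefSch (Spec (CommRingCat.of B))
      (Spec.map (CommRingCat.ofHom (algebraMap k B))) (ArtFun.Art.dual k k) → Exal.Ext k B B :=
    fun ξ => Classical.choose (exists_rel hε ξ)
  have hF : ∀ ξ, Rel (A := ArtFun.Art.dual k k) (ε : DualNumber k) ξ (F ξ) :=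
    fun ξ => Classical.choose_spec (exists_rel hε ξ)
  let f : Quotient (ArtFun.DefSch.setoid (Spec (CommRingCat.of B))
      (Spec.map (CommRingCat.ofHom (algebraMap k B))) (ArtFun.Art.dual k k)) →
      Exal.Exalcom k B B :=
    Quotient.lift (fun ξ => (F ξ).cl)
      (fun ξ ξ' h => Quotient.sound ((iso_iff_equiv hε ξ ξ' _ _ (hF ξ) (hF ξ')).1 h))
  have hinj : Function.Injective f := by
    intro q q' h
    induction q using Quotient.inductionOn with
    | h ξ =>
      induction q' using Quotient.inductionOn with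
      | h ξ' =>
        apply Quotient.sound
        exact (iso_iff_equiv hε ξ ξ' _ _ (hF ξ) (hF ξ')).2 (Quotient.exact h)
  have hsurj : Function.Surjective f := by
    intro c
    induction c using Quotient.inductionOn with
    | h E =>
      obtain ⟨ξ, hξ⟩ := exists_defSch E
      refine ⟨Quotient.mk _ ξ, ?_⟩
      apply Quotient.sound
      exact (iso_iff_equiv hε ξ ξ _ _ (hF ξ) hξ).1 ⟨ArtFun.DefSch.Iso.refl ξ⟩
  exact ⟨(Equiv.ofBijective f ⟨hinj, hsurj⟩).trans e12292⟩

end Groth.Agent.Lib.DefDualH3
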