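import Mathlib
import Groth.Prelude.Def_ArtFun4
import Groth.Agent.Lib.DefDual5_helper3

/-!
# Deformations of an affine scheme from ring data (helper3)

* `isPushout_of_surjective` : a commutative square of rings with surjective parallel sides whose kernels
  correspond is a pushout;
* `ofRing` : the deformation `Spec E` of `Spec B₀` over `A` attached to ring data `(E, γ, α)`;
* `iso_ofRing_of_ringEquiv`, `exists_ofRing` : every deformation is of this form up to isomorphism;
* `baseChange_ofRing` : base change of `ofRing` along `p : A' ⟶ A` computed on rings.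
-/

set_option autoImplicit false
set_option linter.unusedSectionVars false

universe u

open CategoryTheory CategoryTheory.Limits AlgebraicGeometry

namespace Groth.Agent.Lib.DefRingH3

open Groth.Agent.Lib.DefTrivArtH3 Groth.Agent.Lib.DefDualH3

theorem isPushout_of_surjective {R S R' S' : Type u} [CommRing R] [CommRing S] [CommRing R']
    [CommRing S'] (γ : R →+* S) (p : R →+* R') (π : S →+* S') (γ' : R' →+* S')
    (hcomm : ∀ r, π (γ r) = γ' (p r)) (hp : Function.Surjective p) (hπ : Function.Surjective π)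
    (hker : RingHom.ker π = (RingHom.ker p).map γ) :
    IsPushout (CommRingCat.ofHom γ) (CommRingCat.ofHom p) (CommRingCat.ofHom π)
      (CommRingCat.ofHom γ') := by
  have hcond : ∀ (s : PushoutCocone (CommRingCat.ofHom γ) (CommRingCat.ofHom p)) (r : R),
      s.inl.hom (γ r) = s.inr.hom (p r) := by
    intro s r
    exact congrArg (fun φ => φ.hom r) s.condition
  have hkey : ∀ (s : PushoutCocone (CommRingCat.ofHom γ) (CommRingCat.ofHom p)),
      RingHom.ker π ≤ RingHom.ker s.inl.hom := by
    intro s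
    rw [hker, Ideal.map_le_iff_le_comap]
    intro r hr
    rw [Ideal.mem_comap, RingHom.mem_ker, hcond, (RingHom.mem_ker).1 hr, map_zero]
  let desc : ∀ (s : PushoutCocone (CommRingCat.ofHom γ) (CommRingCat.ofHom p)), S' →+* s.pt :=
    fun s => RingHom.liftOfRightInverse π (Function.surjInv hπ)
      (Function.rightInverse_surjInv hπ) ⟨s.inl.hom, hkey s⟩
  have hdesc : ∀ s y, desc s (π y) = s.inl.hom y := fun s y =>
    RingHom.liftOfRightInverse_comp_apply π (Function.surjInv hπ)
      (Function.rightInverse_surjInv hπ) ⟨s.inl.hom, hkey s⟩ y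
  refine ⟨⟨?_⟩, ⟨PushoutCocone.IsColimit.mk _ (fun s => CommRingCat.ofHom (desc s)) ?_ ?_ ?_⟩⟩
  · apply CommRingCat.hom_ext
    apply RingHom.ext
    intro r
    exact hcomm r
  · intro s
    apply CommRingCat.hom_ext
    apply RingHom.ext
    intro y
    exact hdesc s y
  · intro s
    apply CommRingCat.hom_ext
    apply RingHom.ext
    intro r'
    obtain ⟨r, rfl⟩ := hp r'
    show desc s (γ' (p r)) = s.inr.hom (p r)
    rw [← hcomm, hdesc, hcond]
  · intro s m hm1 _
    apply CommRingCat.hom_ext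
    apply RingHom.ext
    intro b
    obtain ⟨y, rfl⟩ := hπ b
    show m.hom (π y) = desc s (π y)
    rw [hdesc]
    exact congrArg (fun φ => φ.hom y) hm1

variable {k : Type u} [Field k] {B₀ : Type u} [CommRing B₀] [Algebra k B₀]

theorem ker_res (A : ArtFun.Art k k) :
    RingHom.ker A.res.toRingHom = IsLocalRing.maximalIdeal A := by
  ext a
  rw [ArtFun.Art.mem_maximalIdeal_iff, RingHom.mem_ker]
  rfl

/-- The deformation `Spec E` of `Spec B₀` over `A` attached to ring data. -/
@[reducible] noncomputable def ofRing (A : ArtFun.Art k k) (E : Type u) [CommRing E] (γ : A →+* E)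
    (α : E →+* B₀) (hflat : γ.Flat) (hα : Function.Surjective α)
    (hker : RingHom.ker α = (IsLocalRing.maximalIdeal A).map γ)
    (hcomp : ∀ a, α (γ a) = algebraMap k B₀ (A.res a)) :
    ArtFun.DefSch (Spec (CommRingCat.of B₀)) (Spec.map (CommRingCat.ofHom (algebraMap k B₀))) A where
  total := Spec (CommRingCat.of E)
  f := Spec.map (CommRingCat.ofHom γ)
  flat := Flat.SpecMap_iff.2 hflat
  i := Spec.map (CommRingCat.ofHom α)
  isPullback := isPullback_SpecMap_of_isPushout _ _ _ _
    (isPushout_of_surjective γ A.res.toRingHom α (algebraMap k B₀) hcomp A.res_surjective hα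
      (by rw [hker, ker_res]))

section Iso

variable {A : ArtFun.Art k k}
  (ξ : ArtFun.DefSch (Spec (CommRingCat.of B₀)) (Spec.map (CommRingCat.ofHom (algebraMap k B₀))) A)
  (E : Type u) [CommRing E] (γ : A →+* E) (α : E →+* B₀) (hflat : γ.Flat)
  (hα : Function.Surjective α)
  (hker : RingHom.ker α = (IsLocalRing.maximalIdeal A).map γ)
  (hcomp : ∀ a, α (γ a) = algebraMap k B₀ (A.res a))

theorem gammaC_ofRing (a : A) :
    (gammaC (ofRing A E γ α hflat hα hker hcomp).f).hom a = theta E (γ a) := by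
  have h := gammaC_SpecMap (A := A) (CommRingCat.ofHom γ)
  exact congrArg (fun ψ => ψ.hom a) h

theorem appTop_ofRing (y : E) :
    (ofRing A E γ α hflat hα hker hcomp).i.appTop.hom (theta E y) = theta B₀ (α y) :=
  appTop_SpecMap_theta α y

theorem iso_ofRing_of_ringEquiv (Φ : E ≃+* Γ(ξ.total, ⊤))
    (h1 : ∀ a, Φ (γ a) = (gammaC ξ.f).hom a)
    (h2 : ∀ y, ξ.i.appTop.hom (Φ y) = theta B₀ (α y)) :
    Nonempty (ξ.Iso (ofRing A E γ α hflat hα hker hcomp)) := by
  let Ψ : Γ((ofRing A E γ α hflat hα hker hcomp).total, ⊤) ≃+* Γ(ξ.total, ⊤) :=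
    (theta E).symm.trans Φ
  have hΨ : ∀ y : E, Ψ (theta E y) = Φ y := fun y =>
    congrArg Φ ((theta E).symm_apply_apply y)
  refine iso_of_ringEquiv ξ (ofRing A E γ α hflat hα hker hcomp) Ψ ?_ ?_
  · intro a
    rw [gammaC_ofRing, hΨ, h1]
  · intro y
    obtain ⟨z, rfl⟩ := (theta E).surjective y
    rw [hΨ, h2, appTop_ofRing]

end Iso

theorem exists_ofRing {A : ArtFun.Art k k}
    (ξ : ArtFun.DefSch (Spec (CommRingCat.of B₀)) (Spec.map (CommRingCat.ofHom (algebraMap k B₀))) A) :
    ∃ (E : Type u) (_ : CommRing E) (γ : A →+* E) (α : E →+* B₀) (hflat : γ.Flat)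
      (hα : Function.Surjective α)
      (hker : RingHom.ker α = (IsLocalRing.maximalIdeal A).map γ)
      (hcomp : ∀ a, α (γ a) = algebraMap k B₀ (A.res a)),
      Nonempty (ξ.Iso (ofRing A E γ α hflat hα hker hcomp)) := by
  haveI : Flat ξ.f := ξ.flat
  obtain ⟨-, h1, h2, hflat, hker⟩ := ring_data (A := A) A.res
    (Spec.map (CommRingCat.ofHom (algebraMap k B₀))) ξ.f ξ.i ξ.isPullback
  let α : Γ(ξ.total, ⊤) →+* B₀ := ((theta B₀).symm : _ →+* B₀).comp ξ.i.appTop.hom
  have hαy : ∀ y, theta B₀ (α y) = ξ.i.appTop.hom y := fun y => (theta B₀).apply_symm_apply _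
  have hα : Function.Surjective α := (theta B₀).symm.surjective.comp h2
  have hker' : RingHom.ker α = (IsLocalRing.maximalIdeal A).map (gammaC ξ.f).hom := by
    rw [← hker]
    ext y
    rw [RingHom.mem_ker, RingHom.mem_ker]
    constructor
    · intro h
      rw [← hαy, h, map_zero]
    · intro h
      apply (theta B₀).injective
      rw [hαy, h, map_zero]
  have hcomp : ∀ a, α ((gammaC ξ.f).hom a) = algebraMap k B₀ (A.res a) := by
    intro a
    apply (theta B₀).injective
    rw [hαy, h1, etaC_eq]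
  refine ⟨Γ(ξ.total, ⊤), inferInstance, (gammaC ξ.f).hom, α, hflat, hα, hker', hcomp, ?_⟩
  exact iso_ofRing_of_ringEquiv ξ Γ(ξ.total, ⊤) (gammaC ξ.f).hom α hflat hα hker' hcomp
    (RingEquiv.refl _) (fun a => rfl) (fun y => (hαy y).symm)

section BaseChange

variable {A' A : ArtFun.Art k k} (p : A' ⟶ A)
  (E' : Type u) [CommRing E'] (γ' : A' →+* E') (α' : E' →+* B₀) (hflat' : γ'.Flat)
  (hα' : Function.Surjective α')
  (hker' : RingHom.ker α' = (IsLocalRing.maximalIdeal A').map γ')
  (hcomp' : ∀ a, α' (γ' a) = algebraMap k B₀ (A'.res a))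
  (E : Type u) [CommRing E] (γ : A →+* E) (α : E →+* B₀) (hflat : γ.Flat)
  (hα : Function.Surjective α)
  (hker : RingHom.ker α = (IsLocalRing.maximalIdeal A).map γ)
  (hcomp : ∀ a, α (γ a) = algebraMap k B₀ (A.res a))

theorem baseChange_ofRing (hp : Function.Surjective p) (π : E' →+* E)
    (hπγ : ∀ a, π (γ' a) = γ (p a))
    (hπ : Function.Surjective π) (hkerπ : RingHom.ker π = (RingHom.ker p.toAlgHom.toRingHom).map γ')
    (hπα : ∀ y, α (π y) = α' y) :
    Nonempty (((ofRing A' E' γ' α' hflat' hα' hker' hcomp').baseChange p).Iso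
      (ofRing A E γ α hflat hα hker hcomp)) := by
  have hpo := isPushout_of_surjective γ' p.toAlgHom.toRingHom π γ hπγ hp hπ hkerπ
  have hpb : IsPullback (Spec.map (CommRingCat.ofHom π)) (Spec.map (CommRingCat.ofHom γ))
      (Spec.map (CommRingCat.ofHom γ')) (ArtFun.Art.specMap p) :=
    isPullback_SpecMap_of_isPushout _ _ _ _ hpo
  let ξ' := ofRing A' E' γ' α' hflat' hα' hker' hcomp'
  let ξ := ofRing A E γ α hflat hα hker hcomp
  have hbig := IsPullback.of_hasPullback ξ'.f (ArtFun.Art.specMap p)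
  have hαπ : Spec.map (CommRingCat.ofHom α) ≫ Spec.map (CommRingCat.ofHom π) =
      Spec.map (CommRingCat.ofHom α') := by
    rw [← Spec.map_comp, ← CommRingCat.ofHom_comp]
    congr 2
    exact RingHom.ext hπα
  refine ⟨{ iso := hbig.isoIsPullback _ _ hpb
            hom_f := IsPullback.isoIsPullback_hom_snd _ _ hbig hpb
            i_hom := ?_ }⟩
  apply hpb.hom_ext
  · rw [Category.assoc, IsPullback.isoIsPullback_hom_fst _ _ hbig hpb]
    exact (ArtFun.DefSch.baseChange_i_fst ξ' p).trans hαπ.symm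
  · rw [Category.assoc, IsPullback.isoIsPullback_hom_snd _ _ hbig hpb]
    exact (ArtFun.DefSch.baseChange_i_f ξ' p).trans ξ.i_f.symm

end BaseChange

end Groth.Agent.Lib.DefRingH3
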