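import Mathlib
import Groth.Prelude.Def_ArtFun4
import Groth.Agent.Lib.DefRing1_helper3

/-!
# Deformations of an affine scheme from ring data, over a general coefficient ring `Λ` (helper3)

The `Art Λ k`-version of `DefRing1_helper3` (which was for `Λ = k`):
* `ring_data` : a flat deformation of an affine `k`-scheme over a local Artinian ring is affine, with the
  expected ring-level description;
* `ofRing` : the deformation `Spec E` of `Spec B₀` over `A : Art Λ k` attached to ring data `(E, γ, α)`;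
* `exists_ofRing` : every deformation is of this form up to isomorphism;
* `baseChange_ofRing` : base change of `ofRing` along a surjection `p : A' ⟶ A` computed on rings.
-/

set_option autoImplicit false
set_option linter.unusedSectionVars false

universe u

open CategoryTheory CategoryTheory.Limits AlgebraicGeometry

namespace Groth.Agent.Lib.DefRingLH3

open Groth.Agent.Lib.DefTrivArtH3 Groth.Agent.Lib.DefDualH3 Groth.Agent.Lib.DefRingH3

section Geom

variable {k : Type u} [Field k] {A : Type u} [CommRing A] [IsLocalRing A] [IsArtinianRing A]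
  (e : A →+* k) (he : Function.Surjective e)

include he in
theorem ker_e : RingHom.ker e = IsLocalRing.maximalIdeal A :=
  IsLocalRing.eq_maximalIdeal (RingHom.ker_isMaximal_of_surjective e he)

include he in
theorem surjective_Spec_e : Surjective (Spec.map (CommRingCat.ofHom e)) := by
  constructor
  intro q
  have hle : RingHom.ker e ≤ q.asIdeal := by
    rw [ker_e e he]
    intro x hx
    obtain ⟨n, hn⟩ := isNilpotent_maximalIdeal (A := A)
    have h1 : x ^ n ∈ q.asIdeal := by
      have : x ^ n ∈ (IsLocalRing.maximalIdeal A) ^ n := Ideal.pow_mem_pow hx n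
      rw [hn] at this
      have h0 : x ^ n = 0 := this
      rw [h0]; exact q.asIdeal.zero_mem
    exact q.isPrime.mem_of_pow_mem n h1
  have hmax : (RingHom.ker e).IsMaximal := RingHom.ker_isMaximal_of_surjective e he
  have heq : RingHom.ker e = q.asIdeal := hmax.eq_of_le q.isPrime.ne_top hle
  refine ⟨(⟨⊥, Ideal.isPrime_bot⟩ : PrimeSpectrum k), ?_⟩
  apply PrimeSpectrum.ext
  show Ideal.comap e ⊥ = q.asIdeal
  rw [← heq]
  rfl

variable {X X' : Scheme.{u}} (hX : X ⟶ Spec (CommRingCat.of k))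
  (g : X' ⟶ Spec (CommRingCat.of A)) (i : X ⟶ X')

theorem F1 (hw : i ≫ g = hX ≫ Spec.map (CommRingCat.ofHom e)) :
    gammaC g ≫ i.appTop = CommRingCat.ofHom e ≫ etaC hX := by
  calc gammaC g ≫ i.appTop = (Scheme.ΓSpecIso _).inv ≫ (i ≫ g).appTop := by
        rw [Scheme.Hom.comp_appTop, gammaC, Category.assoc]
    _ = (Scheme.ΓSpecIso _).inv ≫ (Spec.map (CommRingCat.ofHom e)).appTop ≫
          hX.appTop := by
        rw [hw, Scheme.Hom.comp_appTop]
    _ = CommRingCat.ofHom e ≫ etaC hX := by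
        rw [← Category.assoc, ← Scheme.ΓSpecIso_inv_naturality, Category.assoc, etaC]

include he in
/-- the kernel of `Γ(X') → Γ(X)` is generated by the maximal ideal of `A`. -/
theorem ker_le [IsAffine X']
    (hsq : IsPullback i hX g (Spec.map (CommRingCat.ofHom e))) (x : Γ(X', ⊤))
    (hx : i.appTop.hom x = 0) :
    x ∈ (RingHom.ker e).map (gammaC g).hom := by
  let I : Ideal Γ(X', ⊤) := (RingHom.ker e).map (gammaC g).hom
  let Q : CommRingCat.{u} := CommRingCat.of (Γ(X', ⊤) ⧸ I)
  let mk : Γ(X', ⊤) ⟶ Q := CommRingCat.ofHom (Ideal.Quotient.mk I)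
  have hkill : RingHom.ker e ≤ RingHom.ker ((Ideal.Quotient.mk I).comp (gammaC g).hom) := by
    intro a ha
    rw [RingHom.mem_ker, RingHom.comp_apply, Ideal.Quotient.eq_zero_iff_mem]
    exact Ideal.mem_map_of_mem _ ha
  let κ₀ : k →+* (Γ(X', ⊤) ⧸ I) :=
    RingHom.liftOfRightInverse e (Function.surjInv he) (Function.rightInverse_surjInv he)
      ⟨(Ideal.Quotient.mk I).comp (gammaC g).hom, hkill⟩
  have hκ₀ : ∀ a, κ₀ (e a) = Ideal.Quotient.mk I ((gammaC g).hom a) := fun a =>
    RingHom.liftOfRightInverse_comp_apply e (Function.surjInv he)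
      (Function.rightInverse_surjInv he) ⟨(Ideal.Quotient.mk I).comp (gammaC g).hom, hkill⟩ a
  let κ : CommRingCat.of k ⟶ Q := CommRingCat.ofHom κ₀
  have hκ : CommRingCat.ofHom e ≫ κ = gammaC g ≫ mk := by
    apply CommRingCat.hom_ext
    apply RingHom.ext
    intro a
    exact hκ₀ a
  have hzw : (Spec.map mk ≫ X'.isoSpec.inv) ≫ g =
      Spec.map κ ≫ Spec.map (CommRingCat.ofHom e) := by
    conv_lhs => rw [eq_gammaC g]
    simp only [Category.assoc, Iso.inv_hom_id_assoc, ← Spec.map_comp, hκ]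
  have hl : hsq.lift (Spec.map mk ≫ X'.isoSpec.inv) (Spec.map κ) hzw ≫ i =
      Spec.map mk ≫ X'.isoSpec.inv := hsq.lift_fst _ _ _
  have hz : (Spec.map mk ≫ X'.isoSpec.inv).appTop = mk ≫ (Scheme.ΓSpecIso Q).inv := by
    rw [Scheme.Hom.comp_appTop, isoSpec_inv_appTop', ← Scheme.ΓSpecIso_inv_naturality]
  have h0 : (Spec.map mk ≫ X'.isoSpec.inv).appTop.hom x = 0 := by
    rw [← hl, Scheme.Hom.comp_appTop]
    show (hsq.lift (Spec.map mk ≫ X'.isoSpec.inv) (Spec.map κ) hzw).appTop.hom
      (i.appTop.hom x) = 0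
    rw [hx, map_zero]
  rw [hz] at h0
  have hmk : Ideal.Quotient.mk I x = 0 := by
    have hinj : Function.Injective (Scheme.ΓSpecIso Q).inv.hom :=
      (ConcreteCategory.bijective_of_isIso (Scheme.ΓSpecIso Q).inv).1
    apply hinj
    rw [map_zero]
    exact h0
  exact Ideal.Quotient.eq_zero_iff_mem.1 hmk

include he in
theorem ring_data [IsAffine X] [Flat g]
    (hsq : IsPullback i hX g (Spec.map (CommRingCat.ofHom e))) :
    IsAffine X' ∧ (∀ a, i.appTop.hom ((gammaC g).hom a) = (etaC hX).hom (e a)) ∧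
      Function.Surjective i.appTop.hom ∧ (gammaC g).hom.Flat ∧
      RingHom.ker i.appTop.hom = (IsLocalRing.maximalIdeal A).map (gammaC g).hom := by
  have hι₀c : IsClosedImmersion (Spec.map (CommRingCat.ofHom e)) :=
    IsClosedImmersion.spec_of_surjective (CommRingCat.ofHom e) he
  have hι₀s : Surjective (Spec.map (CommRingCat.ofHom e)) := surjective_Spec_e e he
  have hic : IsClosedImmersion i :=
    MorphismProperty.of_isPullback (P := @IsClosedImmersion) hsq.flip hι₀c
  have his : Surjective i := MorphismProperty.of_isPullback (P := @Surjective) hsq.flip hι₀s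
  have hX'aff : IsAffine X' := Groth.Agent.Lib.ThickAffH6.isAffine_of_thickening i
  have f1 := F1 e hX g i hsq.w
  have h1 : ∀ a, i.appTop.hom ((gammaC g).hom a) = (etaC hX).hom (e a) :=
    fun a => congrArg (fun φ => φ.hom a) f1
  have h2 : Function.Surjective i.appTop.hom :=
    (IsClosedImmersion.isAffine_surjective_of_isAffine i).2
  have hflat : (gammaC g).hom.Flat := by
    have h := (HasRingHomProperty.iff_of_isAffine (P := @Flat)).mp (inferInstance : Flat g)
    show (g.appTop.hom.comp (Scheme.ΓSpecIso _).inv.hom).Flat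
    exact RingHom.Flat.comp
      (RingHom.Flat.of_bijective (ConcreteCategory.bijective_of_isIso (Scheme.ΓSpecIso _).inv)) h
  have hker : RingHom.ker i.appTop.hom =
      (IsLocalRing.maximalIdeal A).map (gammaC g).hom := by
    rw [← ker_e e he]
    apply le_antisymm
    · intro x hx
      exact ker_le e he hX g i hsq x hx
    · rw [Ideal.map_le_iff_le_comap]
      intro a ha
      have ha' : e a = 0 := ha
      rw [Ideal.mem_comap, RingHom.mem_ker, h1, ha', map_zero]
  exact ⟨hX'aff, h1, h2, hflat, hker⟩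

end Geom

variable {Λ : Type u} {k : Type u} [CommRing Λ] [Field k] [Algebra Λ k]
  {B₀ : Type u} [CommRing B₀] [Algebra k B₀]

theorem ker_res (A : ArtFun.Art Λ k) :
    RingHom.ker A.res.toRingHom = IsLocalRing.maximalIdeal A := by
  ext a
  rw [ArtFun.Art.mem_maximalIdeal_iff, RingHom.mem_ker]
  rfl

section Iso

variable {A : ArtFun.Art Λ k}
  (ξ ξ' : ArtFun.DefSch (Λ := Λ) (Spec (CommRingCat.of B₀))
    (Spec.map (CommRingCat.ofHom (algebraMap k B₀))) A)

theorem isAffine_total : IsAffine ξ.total := by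
  haveI : Flat ξ.f := ξ.flat
  exact (ring_data (A := A) A.res.toRingHom A.res_surjective
    (Spec.map (CommRingCat.ofHom (algebraMap k B₀))) ξ.f ξ.i ξ.isPullback).1

theorem iso_of_ringEquiv (Ψ : Γ(ξ'.total, ⊤) ≃+* Γ(ξ.total, ⊤))
    (hγ : ∀ a, Ψ ((gammaC ξ'.f).hom a) = (gammaC ξ.f).hom a)
    (hα : ∀ y, ξ.i.appTop.hom (Ψ y) = ξ'.i.appTop.hom y) : Nonempty (ξ.Iso ξ') := by
  haveI := isAffine_total ξ
  haveI := isAffine_total ξ'
  let Ψc : Γ(ξ'.total, ⊤) ≅ Γ(ξ.total, ⊤) := Ψ.toCommRingCatIso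
  have hΨc : Ψc.hom = CommRingCat.ofHom (Ψ : Γ(ξ'.total, ⊤) →+* Γ(ξ.total, ⊤)) := rfl
  let ψ : ξ.total ≅ ξ'.total :=
    ξ.total.isoSpec ≪≫ Scheme.Spec.mapIso Ψc.op ≪≫ ξ'.total.isoSpec.symm
  have hψ : ψ.hom = ξ.total.isoSpec.hom ≫ Spec.map Ψc.hom ≫ ξ'.total.isoSpec.inv := rfl
  have h1 : gammaC ξ'.f ≫ Ψc.hom = gammaC ξ.f := by
    apply CommRingCat.hom_ext
    apply RingHom.ext
    intro a
    exact hγ a
  have h2 : Ψc.hom ≫ ξ.i.appTop = ξ'.i.appTop := by
    apply CommRingCat.hom_ext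
    apply RingHom.ext
    intro y
    exact hα y
  refine ⟨{ iso := ψ, hom_f := ?_, i_hom := ?_ }⟩
  · rw [hψ]
    conv_lhs => rw [eq_gammaC ξ'.f]
    conv_rhs => rw [eq_gammaC ξ.f]
    simp only [Category.assoc, Iso.inv_hom_id_assoc, ← Spec.map_comp, h1]
  · rw [hψ]
    conv_lhs => rw [hom_eq_of_affine ξ.i]
    conv_rhs => rw [hom_eq_of_affine ξ'.i]
    simp only [Category.assoc, Iso.inv_hom_id_assoc]
    rw [← Spec.map_comp_assoc, h2]

end Iso

/-- The deformation `Spec E` of `Spec B₀` over `A` attached to ring data. -/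
@[reducible] noncomputable def ofRing (A : ArtFun.Art Λ k) (E : Type u) [CommRing E] (γ : A →+* E)
    (α : E →+* B₀) (hflat : γ.Flat) (hα : Function.Surjective α)
    (hker : RingHom.ker α = (IsLocalRing.maximalIdeal A).map γ)
    (hcomp : ∀ a, α (γ a) = algebraMap k B₀ (A.res a)) :
    ArtFun.DefSch (Λ := Λ) (Spec (CommRingCat.of B₀))
      (Spec.map (CommRingCat.ofHom (algebraMap k B₀))) A where
  total := Spec (CommRingCat.of E)
  f := Spec.map (CommRingCat.ofHom γ)
  flat := Flat.SpecMap_iff.2 hflat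
  i := Spec.map (CommRingCat.ofHom α)
  isPullback := isPullback_SpecMap_of_isPushout _ _ _ _
    (isPushout_of_surjective γ A.res.toRingHom α (algebraMap k B₀) hcomp A.res_surjective hα
      (by rw [hker, ker_res]))

section IsoRing

variable {A : ArtFun.Art Λ k}
  (ξ : ArtFun.DefSch (Λ := Λ) (Spec (CommRingCat.of B₀))
    (Spec.map (CommRingCat.ofHom (algebraMap k B₀))) A)
  (E : Type u) [CommRing E] (γ : A →+* E) (α : E →+* B₀) (hflat : γ.Flat)
  (hα : Function.Surjective α)
  (hker : RingHom.ker α = (IsLocalRing.maximalIdeal A).map γ)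
  (hcomp : ∀ a, α (γ a) = algebraMap k B₀ (A.res a))

theorem gammaC_ofRing (a : A) :
    (gammaC (ofRing A E γ α hflat hα hker hcomp).f).hom a = theta E (γ a) := by
  have h := gammaC_SpecMap (A := A) (CommRingCat.ofHom γ)
  exact congrArg (fun ψ => ψ.hom a) h

theorem appTop_ofRing (y : E) :
    (ofRing A E γ α hflat hα hker hcomp).i.appTop.hom (theta E y) = theta B₀ (α y) :=
  appTop_SpecMap_theta α y

theorem iso_ofRing_of_ringEquiv (Φ : E ≃+* Γ(ξ.total, ⊤))
    (h1 : ∀ a, Φ (γ a) = (gammaC ξ.f).hom a)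
    (h2 : ∀ y, ξ.i.appTop.hom (Φ y) = theta B₀ (α y)) :
    Nonempty (ξ.Iso (ofRing A E γ α hflat hα hker hcomp)) := by
  let Ψ : Γ((ofRing A E γ α hflat hα hker hcomp).total, ⊤) ≃+* Γ(ξ.total, ⊤) :=
    (theta E).symm.trans Φ
  have hΨ : ∀ y : E, Ψ (theta E y) = Φ y := fun y =>
    congrArg Φ ((theta E).symm_apply_apply y)
  refine iso_of_ringEquiv ξ (ofRing A E γ α hflat hα hker hcomp) Ψ ?_ ?_
  · intro a
    rw [gammaC_ofRing, hΨ, h1]
  · intro y
    obtain ⟨z, rfl⟩ := (theta E).surjective y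
    rw [hΨ, h2, appTop_ofRing]

end IsoRing

theorem exists_ofRing {A : ArtFun.Art Λ k}
    (ξ : ArtFun.DefSch (Λ := Λ) (Spec (CommRingCat.of B₀))
      (Spec.map (CommRingCat.ofHom (algebraMap k B₀))) A) :
    ∃ (E : Type u) (_ : CommRing E) (γ : A →+* E) (α : E →+* B₀) (hflat : γ.Flat)
      (hα : Function.Surjective α)
      (hker : RingHom.ker α = (IsLocalRing.maximalIdeal A).map γ)
      (hcomp : ∀ a, α (γ a) = algebraMap k B₀ (A.res a)),
      Nonempty (ξ.Iso (ofRing A E γ α hflat hα hker hcomp)) := by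
  haveI : Flat ξ.f := ξ.flat
  obtain ⟨-, h1, h2, hflat, hker⟩ := ring_data (A := A) A.res.toRingHom A.res_surjective
    (Spec.map (CommRingCat.ofHom (algebraMap k B₀))) ξ.f ξ.i ξ.isPullback
  let α : Γ(ξ.total, ⊤) →+* B₀ := ((theta B₀).symm.toRingHom).comp ξ.i.appTop.hom
  have hαy : ∀ y, theta B₀ (α y) = ξ.i.appTop.hom y := fun y => (theta B₀).apply_symm_apply _
  have hα : Function.Surjective α := (theta B₀).symm.surjective.comp h2
  have hker' : RingHom.ker α = (IsLocalRing.maximalIdeal A).map (gammaC ξ.f).hom := by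
    rw [← hker]
    ext y
    rw [RingHom.mem_ker, RingHom.mem_ker]
    constructor
    · intro h
      rw [← hαy, h, map_zero]
    · intro h
      apply (theta B₀).injective
      rw [hαy, h, map_zero]
  have hcomp : ∀ a, α ((gammaC ξ.f).hom a) = algebraMap k B₀ (A.res a) := by
    intro a
    apply (theta B₀).injective
    rw [hαy, h1, etaC_eq]
    rfl
  refine ⟨Γ(ξ.total, ⊤), inferInstance, (gammaC ξ.f).hom, α, hflat, hα, hker', hcomp, ?_⟩
  exact iso_ofRing_of_ringEquiv ξ Γ(ξ.total, ⊤) (gammaC ξ.f).hom α hflat hα hker' hcomp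
    (RingEquiv.refl _) (fun a => rfl) (fun y => (hαy y).symm)

section BaseChange

variable {A' A : ArtFun.Art Λ k} (p : A' ⟶ A)
  (E' : Type u) [CommRing E'] (γ' : A' →+* E') (α' : E' →+* B₀) (hflat' : γ'.Flat)
  (hα' : Function.Surjective α')
  (hker' : RingHom.ker α' = (IsLocalRing.maximalIdeal A').map γ')
  (hcomp' : ∀ a, α' (γ' a) = algebraMap k B₀ (A'.res a))
  (E : Type u) [CommRing E] (γ : A →+* E) (α : E →+* B₀) (hflat : γ.Flat)
  (hα : Function.Surjective α)
  (hker : RingHom.ker α = (IsLocalRing.maximalIdeal A).map γ)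
  (hcomp : ∀ a, α (γ a) = algebraMap k B₀ (A.res a))

theorem baseChange_ofRing (hp : Function.Surjective p) (π : E' →+* E)
    (hπγ : ∀ a, π (γ' a) = γ (p a))
    (hπ : Function.Surjective π) (hkerπ : RingHom.ker π = (RingHom.ker p.toAlgHom.toRingHom).map γ')
    (hπα : ∀ y, α (π y) = α' y) :
    Nonempty (((ofRing A' E' γ' α' hflat' hα' hker' hcomp').baseChange p).Iso
      (ofRing A E γ α hflat hα hker hcomp)) := by
  have hpo := isPushout_of_surjective γ' p.toAlgHom.toRingHom π γ hπγ hp hπ hkerπ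
  have hpb : IsPullback (Spec.map (CommRingCat.ofHom π)) (Spec.map (CommRingCat.ofHom γ))
      (Spec.map (CommRingCat.ofHom γ')) (ArtFun.Art.specMap p) :=
    isPullback_SpecMap_of_isPushout _ _ _ _ hpo
  let ξ' := ofRing A' E' γ' α' hflat' hα' hker' hcomp'
  let ξ := ofRing A E γ α hflat hα hker hcomp
  have hbig := IsPullback.of_hasPullback ξ'.f (ArtFun.Art.specMap p)
  have hαπ : Spec.map (CommRingCat.ofHom α) ≫ Spec.map (CommRingCat.ofHom π) =
      Spec.map (CommRingCat.ofHom α') := by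
    rw [← Spec.map_comp, ← CommRingCat.ofHom_comp]
    congr 2
    exact RingHom.ext hπα
  refine ⟨{ iso := hbig.isoIsPullback _ _ hpb
            hom_f := IsPullback.isoIsPullback_hom_snd _ _ hbig hpb
            i_hom := ?_ }⟩
  apply hpb.hom_ext
  · rw [Category.assoc, IsPullback.isoIsPullback_hom_fst _ _ hbig hpb]
    exact (ArtFun.DefSch.baseChange_i_fst ξ' p).trans hαπ.symm
  · rw [Category.assoc, IsPullback.isoIsPullback_hom_snd _ _ hbig hpb]
    exact (ArtFun.DefSch.baseChange_i_f ξ' p).trans ξ.i_f.symm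

end BaseChange

end Groth.Agent.Lib.DefRingLH3
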