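import Mathlib
import Groth.Prelude.Def_ArtFun4
import Groth.Agent.Lib.DefRingL1_helper3

/-!
# Ring-level description of the deformation functor of an affine scheme (helper3)

For `A : Art Λ k` a *deformation ring* `D : DRing B₀ A` is ring data `(E, γ : A → E, α : E → B₀)` with
`γ` flat, `α` surjective with kernel `𝔪_A E` and `α ∘ γ = (k → B₀) ∘ res`.

* `DRing.cl` : its class in `Def_{Spec B₀}(A)`;
* `DRing.exists_rep` : every class is of this form;
* `DRing.cl_eq_iff` : two classes agree iff the ring data are isomorphic;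
* `DRing.map_cl_of_isPushout` : the action of `p : A' ⟶ A` on classes is the pushout of rings;
* `DRing.exists_bc` : the pushout exists (tensor product).
-/

set_option autoImplicit false
set_option linter.unusedSectionVars false

universe u

open CategoryTheory CategoryTheory.Limits AlgebraicGeometry
open scoped TensorProduct

namespace Groth.Agent.Lib.AffDefH3

open Groth.Agent.Lib.DefTrivArtH3 (gammaC)
open Groth.Agent.Lib.DefDualH3 (theta)
open Groth.Agent.Lib.DefRingLH3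

variable {Λ : Type u} {k : Type u} [CommRing Λ] [Field k] [Algebra Λ k]

/-- the deformation functor of `Spec B₀` on `Art Λ k` -/
noncomputable abbrev FF (Λ k B₀ : Type u) [CommRing Λ] [Field k] [Algebra Λ k] [CommRing B₀]
    [Algebra k B₀] : ArtFun.Art Λ k ⥤ Type (u + 1) :=
  ArtFun.defFunctor (Λ := Λ) (Spec (CommRingCat.of B₀))
    (Spec.map (CommRingCat.ofHom (algebraMap k B₀)))

/-- ring-level deformation data over `A` -/
structure DRing (B₀ : Type u) [CommRing B₀] [Algebra k B₀] (A : ArtFun.Art Λ k) : Type (u + 1) where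
  E : Type u
  [ring : CommRing E]
  γ : A →+* E
  α : E →+* B₀
  flat : γ.Flat
  surj : Function.Surjective α
  ker : RingHom.ker α = (IsLocalRing.maximalIdeal A).map γ
  comp : ∀ a, α (γ a) = algebraMap k B₀ (A.res a)

attribute [instance] DRing.ring

variable {B₀ : Type u} [CommRing B₀] [Algebra k B₀]

namespace DRing

variable {A : ArtFun.Art Λ k}

/-- the deformation attached to ring data -/
@[reducible] noncomputable def toDefSch (D : DRing B₀ A) :
    ArtFun.DefSch (Λ := Λ) (Spec (CommRingCat.of B₀))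
      (Spec.map (CommRingCat.ofHom (algebraMap k B₀))) A :=
  ofRing A D.E D.γ D.α D.flat D.surj D.ker D.comp

/-- its class -/
noncomputable def cl (D : DRing B₀ A) : (FF Λ k B₀).obj A := D.toDefSch.cl

/-- isomorphisms of ring data -/
structure Equiv (D D' : DRing B₀ A) where
  Φ : D.E ≃+* D'.E
  hγ : ∀ a, Φ (D.γ a) = D'.γ a
  hα : ∀ y, D'.α (Φ y) = D.α y

theorem exists_rep (c : (FF Λ k B₀).obj A) : ∃ D : DRing B₀ A, D.cl = c := by
  obtain ⟨ξ, rfl⟩ := Quotient.exists_rep c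
  obtain ⟨E, _, γ, α, hflat, hα, hker, hcomp, ⟨iso⟩⟩ := exists_ofRing ξ
  refine ⟨⟨E, γ, α, hflat, hα, hker, hcomp⟩, ?_⟩
  exact Quotient.sound ⟨iso.symm⟩

theorem ringEquiv_of_iso
    (ξ ξ' : ArtFun.DefSch (Λ := Λ) (Spec (CommRingCat.of B₀))
      (Spec.map (CommRingCat.ofHom (algebraMap k B₀))) A) (ψ : ξ.Iso ξ') :
    ∃ Ψ : Γ(ξ'.total, ⊤) ≃+* Γ(ξ.total, ⊤),
      (∀ a, Ψ ((gammaC ξ'.f).hom a) = (gammaC ξ.f).hom a) ∧
      ∀ y, ξ.i.appTop.hom (Ψ y) = ξ'.i.appTop.hom y := by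
  let Ψ : Γ(ξ'.total, ⊤) ≃+* Γ(ξ.total, ⊤) :=
    RingEquiv.ofRingHom ψ.iso.hom.appTop.hom ψ.iso.inv.appTop.hom
      (by
        have : ψ.iso.inv.appTop ≫ ψ.iso.hom.appTop = 𝟙 _ := by
          rw [← Scheme.Hom.comp_appTop, ψ.iso.hom_inv_id]; rfl
        ext y
        exact congrArg (fun φ => φ.hom y) this)
      (by
        have : ψ.iso.hom.appTop ≫ ψ.iso.inv.appTop = 𝟙 _ := by
          rw [← Scheme.Hom.comp_appTop, ψ.iso.inv_hom_id]; rfl
        ext y
        exact congrArg (fun φ => φ.hom y) this)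
  refine ⟨Ψ, fun a => ?_, fun y => ?_⟩
  · have h : gammaC ξ'.f ≫ ψ.iso.hom.appTop = gammaC ξ.f := by
      rw [gammaC, gammaC, Category.assoc, ← Scheme.Hom.comp_appTop, ψ.hom_f]
    exact congrArg (fun φ => φ.hom a) h
  · have h : ψ.iso.hom.appTop ≫ ξ.i.appTop = ξ'.i.appTop := by
      rw [← Scheme.Hom.comp_appTop, ψ.i_hom]
    exact congrArg (fun φ => φ.hom y) h

theorem cl_eq_of_equiv {D D' : DRing B₀ A} (e : Equiv D D') : D.cl = D'.cl := by
  let Φ' : D'.E ≃+* Γ(D.toDefSch.total, ⊤) := e.Φ.symm.trans (theta D.E)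
  have hΦ' : ∀ y, Φ' y = theta D.E (e.Φ.symm y) := fun y => rfl
  have hsymγ : ∀ a, e.Φ.symm (D'.γ a) = D.γ a := by
    intro a
    rw [RingEquiv.symm_apply_eq, e.hγ]
  have h := iso_ofRing_of_ringEquiv D.toDefSch D'.E D'.γ D'.α D'.flat D'.surj D'.ker D'.comp Φ'
    (fun a => by
      rw [hΦ', hsymγ]
      exact (gammaC_ofRing D.E D.γ D.α D.flat D.surj D.ker D.comp a).symm)
    (fun y => by
      rw [hΦ']
      have h1 := appTop_ofRing (A := A) D.E D.γ D.α D.flat D.surj D.ker D.comp (e.Φ.symm y)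
      have h2 : D.α (e.Φ.symm y) = D'.α y := by
        rw [← e.hα, RingEquiv.apply_symm_apply]
      rw [← h2]
      exact h1)
  exact Quotient.sound h

theorem equiv_of_cl_eq {D D' : DRing B₀ A} (h : D.cl = D'.cl) : Nonempty (Equiv D D') := by
  obtain ⟨ψ⟩ := Quotient.exact h
  obtain ⟨Ψ, hΨγ, hΨα⟩ := ringEquiv_of_iso D.toDefSch D'.toDefSch ψ
  let Φ : D.E ≃+* D'.E := ((theta D.E).trans Ψ.symm).trans (theta D'.E).symm
  have hΦ : ∀ y, theta D'.E (Φ y) = Ψ.symm (theta D.E y) := fun y =>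
    (theta D'.E).apply_symm_apply _
  refine ⟨⟨Φ, fun a => ?_, fun y => ?_⟩⟩
  · apply (theta D'.E).injective
    rw [hΦ, RingEquiv.symm_apply_eq]
    have h1 := gammaC_ofRing (A := A) D.E D.γ D.α D.flat D.surj D.ker D.comp a
    have h2 := gammaC_ofRing (A := A) D'.E D'.γ D'.α D'.flat D'.surj D'.ker D'.comp a
    have h3 := hΨγ a
    change Ψ ((gammaC (ofRing A D'.E D'.γ D'.α D'.flat D'.surj D'.ker D'.comp).f).hom a) =
      (gammaC (ofRing A D.E D.γ D.α D.flat D.surj D.ker D.comp).f).hom a at h3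
    rw [h1, h2] at h3
    exact h3.symm
  · apply (theta B₀).injective
    have h1 := appTop_ofRing (A := A) D'.E D'.γ D'.α D'.flat D'.surj D'.ker D'.comp (Φ y)
    have h2 := appTop_ofRing (A := A) D.E D.γ D.α D.flat D.surj D.ker D.comp y
    have h3 := hΨα (theta D'.E (Φ y))
    change (ofRing A D.E D.γ D.α D.flat D.surj D.ker D.comp).i.appTop.hom (Ψ (theta D'.E (Φ y))) =
      (ofRing A D'.E D'.γ D'.α D'.flat D'.surj D'.ker D'.comp).i.appTop.hom (theta D'.E (Φ y)) at h3
    rw [h1, hΦ, RingEquiv.apply_symm_apply, h2] at h3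
    exact h3.symm

theorem cl_eq_iff (D D' : DRing B₀ A) : D.cl = D'.cl ↔ Nonempty (Equiv D D') :=
  ⟨equiv_of_cl_eq, fun ⟨e⟩ => cl_eq_of_equiv e⟩

end DRing

section BaseChange

variable {A' A : ArtFun.Art Λ k} (p : A' ⟶ A) (D' : DRing B₀ A') (D : DRing B₀ A)

theorem DRing.map_cl_of_isPushout (π : D'.E →+* D.E) (hπα : ∀ y, D.α (π y) = D'.α y)
    (hpo : IsPushout (CommRingCat.ofHom D'.γ) (CommRingCat.ofHom p.toAlgHom.toRingHom)
      (CommRingCat.ofHom π) (CommRingCat.ofHom D.γ)) :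
    (FF Λ k B₀).map p D'.cl = D.cl := by
  have hpb : IsPullback (Spec.map (CommRingCat.ofHom π)) (Spec.map (CommRingCat.ofHom D.γ))
      (Spec.map (CommRingCat.ofHom D'.γ)) (ArtFun.Art.specMap p) :=
    isPullback_SpecMap_of_isPushout _ _ _ _ hpo
  let ξ' := D'.toDefSch
  let ξ := D.toDefSch
  have hbig := IsPullback.of_hasPullback ξ'.f (ArtFun.Art.specMap p)
  have hαπ : Spec.map (CommRingCat.ofHom D.α) ≫ Spec.map (CommRingCat.ofHom π) =
      Spec.map (CommRingCat.ofHom D'.α) := by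
    rw [← Spec.map_comp, ← CommRingCat.ofHom_comp]
    congr 2
    exact RingHom.ext hπα
  have hiso : Nonempty ((ξ'.baseChange p).Iso ξ) := by
    refine ⟨{ iso := hbig.isoIsPullback _ _ hpb
              hom_f := IsPullback.isoIsPullback_hom_snd _ _ hbig hpb
              i_hom := ?_ }⟩
    apply hpb.hom_ext
    · rw [Category.assoc, IsPullback.isoIsPullback_hom_fst _ _ hbig hpb]
      exact (ArtFun.DefSch.baseChange_i_fst ξ' p).trans hαπ.symm
    · rw [Category.assoc, IsPullback.isoIsPullback_hom_snd _ _ hbig hpb]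
      exact (ArtFun.DefSch.baseChange_i_f ξ' p).trans ξ.i_f.symm
  exact Quotient.sound hiso

end BaseChange

end Groth.Agent.Lib.AffDefH3
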