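import Mathlib
import Groth.Prelude.Def_EtMil

/-!
# General lemmas on pushouts of rings along a surjection (helper5)
-/

set_option autoImplicit false
universe u

namespace Groth.Agent.MilnorAlg

open TensorProduct

section Pushout

variable {A' A C' C : Type*} [CommRing A'] [CommRing A] [CommRing C'] [CommRing C]
  [Algebra A' A] [Algebra A' C'] [Algebra A C] [Algebra C' C] [Algebra A' C]
  [IsScalarTower A' A C] [IsScalarTower A' C' C]

/-- `C = A ⊗ C'` is spanned over `A` by the image of `C'`. -/
theorem mem_span_range [Algebra.IsPushout A' C' A C] (c : C) :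
    c ∈ Submodule.span C' (Set.range (algebraMap A C)) := by
  have h : Algebra.IsPushout A' C' A C := inferInstance
  refine h.out.inductionOn c _ (zero_mem _) (fun a => ?_) (fun s n hn => ?_) (fun x y hx hy => ?_)
  · exact Submodule.subset_span ⟨a, rfl⟩
  · exact Submodule.smul_mem _ _ hn
  · exact add_mem hx hy

theorem surjective_of_isPushout [Algebra.IsPushout A' C' A C]
    (hsurj : Function.Surjective (algebraMap A' A)) : Function.Surjective (algebraMap C' C) := by
  intro c
  refine Submodule.span_induction ?_ ?_ ?_ ?_ (mem_span_range (A' := A') (A := A) (C' := C') c)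
  · rintro _ ⟨a, rfl⟩
    obtain ⟨a', rfl⟩ := hsurj a
    exact ⟨algebraMap A' C' a', by
      rw [← IsScalarTower.algebraMap_apply, ← IsScalarTower.algebraMap_apply]⟩
  · exact ⟨0, map_zero _⟩
  · rintro x y _ _ ⟨x', rfl⟩ ⟨y', rfl⟩
    exact ⟨x' + y', map_add _ _ _⟩
  · rintro s x _ ⟨x', rfl⟩
    exact ⟨s * x', by rw [map_mul, Algebra.smul_def]⟩

theorem ker_eq_map [Algebra.IsPushout A' C' A C]
    (hsurj : Function.Surjective (algebraMap A' A)) :
    RingHom.ker (algebraMap C' C) = (RingHom.ker (algebraMap A' A)).map (algebraMap A' C') := by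
  apply le_antisymm
  · intro κ hκ
    obtain ⟨I, hI⟩ : ∃ I : Ideal C', I = (RingHom.ker (algebraMap A' A)).map (algebraMap A' C') :=
      ⟨_, rfl⟩
    rw [← hI]
    -- the `A'`-algebra `C'/IC'` receives `A`
    let g₀ : A →+* C' ⧸ I := (algebraMap A' A).liftOfSurjective hsurj
      ⟨(Ideal.Quotient.mk I).comp (algebraMap A' C'), fun x hx => by
        rw [RingHom.mem_ker, RingHom.comp_apply, Ideal.Quotient.eq_zero_iff_mem, hI]
        exact Ideal.mem_map_of_mem _ hx⟩
    have hg₀ : ∀ x : A', g₀ (algebraMap A' A x) = Ideal.Quotient.mk I (algebraMap A' C' x) :=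
      fun x => RingHom.liftOfSurjective_comp_apply _ hsurj _ x
    let g : A →ₐ[A'] C' ⧸ I := { g₀ with commutes' := fun x => hg₀ x }
    let f : C' →ₐ[A'] C' ⧸ I := Ideal.Quotient.mkₐ A' I
    let Φ := Algebra.pushoutDesc C f g (fun x y => mul_comm _ _)
    have h1 : Φ (algebraMap C' C κ) = f κ := Algebra.pushoutDesc_left C f g _ κ
    rw [RingHom.mem_ker] at hκ
    rw [hκ, map_zero] at h1
    exact Ideal.Quotient.eq_zero_iff_mem.1 h1.symm
  · rw [Ideal.map_le_iff_le_comap]
    intro x hx
    rw [Ideal.mem_comap, RingHom.mem_ker, ← IsScalarTower.algebraMap_apply,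
      IsScalarTower.algebraMap_apply A' A C, (RingHom.mem_ker).1 hx, map_zero]

end Pushout

end Groth.Agent.MilnorAlg
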