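import Mathlib
import Groth.Prelude.Def_ArtFun4
import Groth.Agent.Lib.AffDef1_helper3
import Groth.Agent.Lib.MilnorAlg_helper5

/-!
# Pushouts of deformation rings (helper3)

* `flat_of_isPushout` : flatness is stable under pushout (categorical form);
* `span_of_isPushout` : the pushout ring is spanned by the image of the first factor;
* `ker_desc_of_isPushout` : kernel of the augmentation on a pushout;
* `ker_comp_of_isPushout` : kernel of the augmentation pulled back along a surjective pushout;
* `DRing.exists_bc`, `DRing.bc`, `DRing.map_cl` : base change of deformation rings.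
-/

set_option autoImplicit false
set_option linter.unusedSectionVars false

universe u

open CategoryTheory CategoryTheory.Limits AlgebraicGeometry
open scoped TensorProduct

namespace Groth.Agent.Lib.AffDefH3

section Pure

variable {R S R' S' : Type u} [CommRing R] [CommRing S] [CommRing R'] [CommRing S']
  (γ : R →+* S) (p : R →+* R') (π : S →+* S') (γ' : R' →+* S')

theorem flat_of_isPushout
    (hpo : IsPushout (CommRingCat.ofHom γ) (CommRingCat.ofHom p) (CommRingCat.ofHom π)
      (CommRingCat.ofHom γ')) (hγ : γ.Flat) : γ'.Flat := by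
  have h1 : (RingHom.toMorphismProperty RingHom.Flat).IsStableUnderCobaseChange :=
    RingHom.isStableUnderCobaseChange_toMorphismProperty_iff.mpr RingHom.Flat.isStableUnderBaseChange
  exact h1.of_isPushout hpo.flip hγ

theorem comm_of_isPushout
    (hpo : IsPushout (CommRingCat.ofHom γ) (CommRingCat.ofHom p) (CommRingCat.ofHom π)
      (CommRingCat.ofHom γ')) (r : R) : π (γ r) = γ' (p r) :=
  congrArg (fun φ => φ.hom r) hpo.w

/-- the pushout is spanned over `R'` by the image of `S` -/
theorem span_of_isPushout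
    (hpo : IsPushout (CommRingCat.ofHom γ) (CommRingCat.ofHom p) (CommRingCat.ofHom π)
      (CommRingCat.ofHom γ')) (x : S') :
    ∃ (n : ℕ) (a : Fin n → R') (y : Fin n → S), x = ∑ i, γ' (a i) * π (y i) := by
  let _ : Algebra R S := γ.toAlgebra
  let _ : Algebra R R' := p.toAlgebra
  let _ : Algebra S S' := π.toAlgebra
  let _ : Algebra R' S' := γ'.toAlgebra
  let _ : Algebra R S' := (π.comp γ).toAlgebra
  haveI : IsScalarTower R S S' := IsScalarTower.of_algebraMap_eq fun _ => rfl
  haveI : IsScalarTower R R' S' := IsScalarTower.of_algebraMap_eq fun r =>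
    comm_of_isPushout γ p π γ' hpo r
  have hP : Algebra.IsPushout R S R' S' := CommRingCat.isPushout_iff_isPushout.mp hpo
  haveI := hP
  have h1 := Groth.Agent.MilnorAlg.mem_span_range (A' := R) (A := R') (C' := S) (C := S') x
  refine Submodule.span_induction ?_ ?_ ?_ ?_ h1
  · rintro _ ⟨a, rfl⟩
    refine ⟨1, fun _ => a, fun _ => 1, ?_⟩
    rw [Fin.sum_univ_one, map_one, mul_one]
    rfl
  · exact ⟨0, Fin.elim0, Fin.elim0, by simp⟩
  · rintro x y _ _ ⟨n, a, y₁, rfl⟩ ⟨m, b, y₂, rfl⟩
    refine ⟨n + m, Fin.append a b, Fin.append y₁ y₂, ?_⟩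
    rw [Fin.sum_univ_add]
    simp
  · rintro s x _ ⟨n, a, y, rfl⟩
    refine ⟨n, a, fun i => s * y i, ?_⟩
    rw [Finset.smul_sum]
    refine Finset.sum_congr rfl fun i _ => ?_
    rw [map_mul, Algebra.smul_def]
    show π s * (γ' (a i) * π (y i)) = _
    ring

variable {k B₀ : Type u} [CommRing k] [CommRing B₀]

/-- kernel of the induced augmentation on a pushout -/
theorem ker_desc_of_isPushout
    (hpo : IsPushout (CommRingCat.ofHom γ) (CommRingCat.ofHom p) (CommRingCat.ofHom π)
      (CommRingCat.ofHom γ'))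
    (res : R →+* k) (res' : R' →+* k) (hres : ∀ a, res' (p a) = res a)
    (hsurj : Function.Surjective res)
    (α : S →+* B₀) (α' : S' →+* B₀) (ι : k →+* B₀) (hαπ : ∀ y, α' (π y) = α y)
    (hαγ : ∀ a, α' (γ' a) = ι (res' a))
    (hker : RingHom.ker α = (RingHom.ker res).map γ) :
    RingHom.ker α' = (RingHom.ker res').map γ' := by
  apply le_antisymm
  · intro x hx
    obtain ⟨n, a, y, rfl⟩ := span_of_isPushout γ p π γ' hpo x
    choose b hb using fun i => hsurj (res' (a i))
    have hm : ∀ i, a i - p (b i) ∈ RingHom.ker res' := by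
      intro i
      rw [RingHom.mem_ker, map_sub, hres, hb, sub_self]
    have hsplit : ∑ i, γ' (a i) * π (y i) =
        ∑ i, γ' (a i - p (b i)) * π (y i) + π (∑ i, γ (b i) * y i) := by
      rw [map_sum, ← Finset.sum_add_distrib]
      refine Finset.sum_congr rfl fun i _ => ?_
      rw [map_mul, comm_of_isPushout γ p π γ' hpo, map_sub]
      ring
    have h1 : ∑ i, γ' (a i - p (b i)) * π (y i) ∈ (RingHom.ker res').map γ' :=
      Ideal.sum_mem _ fun i _ => Ideal.mul_mem_right _ _ (Ideal.mem_map_of_mem _ (hm i))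
    have h1' : α' (∑ i, γ' (a i - p (b i)) * π (y i)) = 0 := by
      rw [map_sum]
      refine Finset.sum_eq_zero fun i _ => ?_
      rw [map_mul, hαγ, (RingHom.mem_ker).1 (hm i), map_zero, zero_mul]
    have h2 : ∑ i, γ (b i) * y i ∈ RingHom.ker α := by
      rw [RingHom.mem_ker, ← hαπ]
      have := (RingHom.mem_ker).1 hx
      rw [hsplit, map_add, h1', zero_add] at this
      exact this
    rw [hker] at h2
    have h3 : π (∑ i, γ (b i) * y i) ∈ (RingHom.ker res').map γ' := by
      have hle : (RingHom.ker res).map γ ≤ ((RingHom.ker res').map γ').comap π := by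
        rw [Ideal.map_le_iff_le_comap]
        intro r hr
        rw [Ideal.mem_comap, Ideal.mem_comap, comm_of_isPushout γ p π γ' hpo]
        apply Ideal.mem_map_of_mem
        rw [RingHom.mem_ker, hres]
        exact hr
      exact hle h2
    rw [hsplit]
    exact Ideal.add_mem _ h1 h3
  · rw [Ideal.map_le_iff_le_comap]
    intro a ha
    rw [Ideal.mem_comap, RingHom.mem_ker, hαγ, (RingHom.mem_ker).1 ha, map_zero]

/-- kernel of the augmentation pulled back along a pushout of a surjection -/
theorem ker_comp_of_isPushout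
    (hpo : IsPushout (CommRingCat.ofHom γ) (CommRingCat.ofHom p) (CommRingCat.ofHom π)
      (CommRingCat.ofHom γ'))
    (hp : Function.Surjective p)
    (res : R →+* k) (res' : R' →+* k) (hres : ∀ a, res' (p a) = res a)
    (α' : S' →+* B₀)
    (hker : RingHom.ker α' = (RingHom.ker res').map γ') :
    Function.Surjective π ∧ RingHom.ker (α'.comp π) = (RingHom.ker res).map γ := by
  let _ : Algebra R S := γ.toAlgebra
  let _ : Algebra R R' := p.toAlgebra
  let _ : Algebra S S' := π.toAlgebra
  let _ : Algebra R' S' := γ'.toAlgebra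
  let _ : Algebra R S' := (π.comp γ).toAlgebra
  haveI : IsScalarTower R S S' := IsScalarTower.of_algebraMap_eq fun _ => rfl
  haveI : IsScalarTower R R' S' := IsScalarTower.of_algebraMap_eq fun r =>
    comm_of_isPushout γ p π γ' hpo r
  have hP : Algebra.IsPushout R S R' S' := CommRingCat.isPushout_iff_isPushout.mp hpo
  haveI := hP
  have hπs : Function.Surjective π :=
    Groth.Agent.MilnorAlg.surjective_of_isPushout (A' := R) (A := R') (C' := S) (C := S') hp
  have hkπ : RingHom.ker π = (RingHom.ker p).map γ :=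
    Groth.Agent.MilnorAlg.ker_eq_map (A' := R) (A := R') (C' := S) (C := S') hp
  refine ⟨hπs, ?_⟩
  have hkp : RingHom.ker p ≤ RingHom.ker res := by
    intro r hr
    rw [RingHom.mem_ker, ← hres, (RingHom.mem_ker).1 hr, map_zero]
  apply le_antisymm
  · intro y hy
    have hy' : π y ∈ RingHom.ker α' := hy
    rw [hker] at hy'
    -- `ker res'` is the image of `ker res`
    have hmap : (RingHom.ker res').map γ' = ((RingHom.ker res).map γ).map π := by
      rw [Ideal.map_map]
      have h1 : π.comp γ = γ'.comp p := RingHom.ext (comm_of_isPushout γ p π γ' hpo)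
      rw [h1, ← Ideal.map_map]
      congr 1
      apply le_antisymm
      · intro a' ha'
        obtain ⟨a, rfl⟩ := hp a'
        apply Ideal.mem_map_of_mem
        rw [RingHom.mem_ker, ← hres]
        exact ha'
      · rw [Ideal.map_le_iff_le_comap]
        intro a ha
        rw [Ideal.mem_comap, RingHom.mem_ker, hres]
        exact ha
    rw [hmap, Ideal.mem_map_iff_of_surjective π hπs] at hy'
    obtain ⟨z, hz, hzy⟩ := hy'
    have h2 : y - z ∈ RingHom.ker π := by
      rw [RingHom.mem_ker, map_sub, hzy, sub_self]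
    rw [hkπ] at h2
    have h3 : y - z ∈ (RingHom.ker res).map γ := Ideal.map_mono hkp h2
    have : y = (y - z) + z := by ring
    rw [this]
    exact Ideal.add_mem _ h3 hz
  · rw [Ideal.map_le_iff_le_comap]
    intro a ha
    rw [Ideal.mem_comap, RingHom.mem_ker, RingHom.comp_apply, comm_of_isPushout γ p π γ' hpo,
      ← RingHom.mem_ker, hker]
    apply Ideal.mem_map_of_mem
    rw [RingHom.mem_ker, hres]
    exact ha

end Pure

variable {Λ : Type u} {k : Type u} [CommRing Λ] [Field k] [Algebra Λ k]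
  {B₀ : Type u} [CommRing B₀] [Algebra k B₀]

theorem res_comp_apply {A' A : ArtFun.Art Λ k} (p : A' ⟶ A) (a : A') : A.res (p a) = A'.res a := by
  have h := p.res_comp
  exact congrArg (fun φ : A' →ₐ[Λ] k => φ a) h

theorem DRing.ker' {A : ArtFun.Art Λ k} (D : DRing B₀ A) :
    RingHom.ker D.α = (RingHom.ker A.res.toRingHom).map D.γ := by
  rw [D.ker, Groth.Agent.Lib.DefRingLH3.ker_res]

theorem DRing.exists_bc {A' A : ArtFun.Art Λ k} (p : A' ⟶ A) (D' : DRing B₀ A') :
    ∃ (D : DRing B₀ A) (π : D'.E →+* D.E), (∀ y, D.α (π y) = D'.α y) ∧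
      IsPushout (CommRingCat.ofHom D'.γ) (CommRingCat.ofHom p.toAlgHom.toRingHom)
        (CommRingCat.ofHom π) (CommRingCat.ofHom D.γ) := by
  let _ : Algebra A' A := p.toAlgHom.toRingHom.toAlgebra
  let _ : Algebra A' D'.E := D'.γ.toAlgebra
  let T : Type u := D'.E ⊗[A'] A
  let π : D'.E →+* T := Algebra.TensorProduct.includeLeftRingHom
  let γT : A →+* T := (Algebra.TensorProduct.includeRight : A →ₐ[A'] D'.E ⊗[A'] A).toRingHom
  have hpo : IsPushout (CommRingCat.ofHom D'.γ) (CommRingCat.ofHom p.toAlgHom.toRingHom)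
      (CommRingCat.ofHom π) (CommRingCat.ofHom γT) :=
    CommRingCat.isPushout_tensorProduct A' D'.E A
  let ι : A →+* B₀ := (algebraMap k B₀).comp A.res.toRingHom
  have hw : CommRingCat.ofHom D'.γ ≫ CommRingCat.ofHom D'.α =
      CommRingCat.ofHom p.toAlgHom.toRingHom ≫ CommRingCat.ofHom ι := by
    apply CommRingCat.hom_ext
    apply RingHom.ext
    intro a
    show D'.α (D'.γ a) = algebraMap k B₀ (A.res (p a))
    rw [D'.comp, res_comp_apply]
  let αT : T →+* B₀ := (hpo.desc (CommRingCat.ofHom D'.α) (CommRingCat.ofHom ι) hw).hom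
  have hαπ : ∀ y, αT (π y) = D'.α y := fun y =>
    congrArg (fun φ => φ.hom y) (hpo.inl_desc (CommRingCat.ofHom D'.α) (CommRingCat.ofHom ι) hw)
  have hαγ : ∀ a, αT (γT a) = algebraMap k B₀ (A.res a) := fun a =>
    congrArg (fun φ => φ.hom a) (hpo.inr_desc (CommRingCat.ofHom D'.α) (CommRingCat.ofHom ι) hw)
  have hflat : γT.Flat := flat_of_isPushout _ _ _ _ hpo D'.flat
  have hsurj : Function.Surjective αT := by
    intro b
    obtain ⟨y, rfl⟩ := D'.surj b
    exact ⟨π y, hαπ y⟩
  have hker : RingHom.ker αT = (RingHom.ker A.res.toRingHom).map γT :=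
    ker_desc_of_isPushout D'.γ p.toAlgHom.toRingHom π γT hpo A'.res.toRingHom A.res.toRingHom
      (fun a => res_comp_apply p a) A'.res_surjective D'.α αT (algebraMap k B₀) hαπ hαγ D'.ker'
  refine ⟨⟨T, γT, αT, hflat, hsurj, ?_, hαγ⟩, π, hαπ, hpo⟩
  rw [hker, Groth.Agent.Lib.DefRingLH3.ker_res]

/-- a chosen base change -/
noncomputable def DRing.bc {A' A : ArtFun.Art Λ k} (p : A' ⟶ A) (D' : DRing B₀ A') : DRing B₀ A :=
  (DRing.exists_bc p D').choose

noncomputable def DRing.bcMap {A' A : ArtFun.Art Λ k} (p : A' ⟶ A) (D' : DRing B₀ A') :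
    D'.E →+* (D'.bc p).E :=
  (DRing.exists_bc p D').choose_spec.choose

theorem DRing.bc_α {A' A : ArtFun.Art Λ k} (p : A' ⟶ A) (D' : DRing B₀ A') (y : D'.E) :
    (D'.bc p).α (D'.bcMap p y) = D'.α y :=
  (DRing.exists_bc p D').choose_spec.choose_spec.1 y

theorem DRing.bc_isPushout {A' A : ArtFun.Art Λ k} (p : A' ⟶ A) (D' : DRing B₀ A') :
    IsPushout (CommRingCat.ofHom D'.γ) (CommRingCat.ofHom p.toAlgHom.toRingHom)
      (CommRingCat.ofHom (D'.bcMap p)) (CommRingCat.ofHom (D'.bc p).γ) :=
  (DRing.exists_bc p D').choose_spec.choose_spec.2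

theorem DRing.map_cl {A' A : ArtFun.Art Λ k} (p : A' ⟶ A) (D' : DRing B₀ A') :
    (FF Λ k B₀).map p D'.cl = (D'.bc p).cl :=
  DRing.map_cl_of_isPushout p D' (D'.bc p) (D'.bcMap p) (D'.bc_α p) (D'.bc_isPushout p)

end Groth.Agent.Lib.AffDefH3
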