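import Mathlib
import Groth.Prelude.Def_EtMil
import Groth.Agent.Lib.MilnorAlg_helper5

/-!
# Finite type for algebras over a Milnor square (helper5)
-/

set_option autoImplicit false
universe u

namespace Groth.Agent.MilnorAlg

open TensorProduct

section Sq

variable {B' B A' A : Type u} [CommRing B'] [CommRing B] [CommRing A'] [CommRing A]
  [Algebra B' B] [Algebra B' A'] [Algebra B A] [Algebra A' A] [Algebra B' A]
  [IsScalarTower B' B A] [IsScalarTower B' A' A]
  (hsq : EtMil.IsFibreSquare B' B A' A)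

include hsq in
theorem sq_surj : Function.Surjective (algebraMap B' B) := by
  intro b
  obtain ⟨a', ha'⟩ := hsq.1 (algebraMap B A b)
  obtain ⟨b', ⟨hb', -⟩, -⟩ := hsq.2 b a' ha'.symm
  exact ⟨b', hb'⟩

include hsq in
theorem sq_exists (b : B) (a' : A') (h : algebraMap B A b = algebraMap A' A a') :
    ∃ b' : B', algebraMap B' B b' = b ∧ algebraMap B' A' b' = a' := by
  obtain ⟨b', hb', -⟩ := hsq.2 b a' h
  exact ⟨b', hb'⟩

include hsq in
theorem sq_exists_ker (ι : A') (hι : ι ∈ RingHom.ker (algebraMap A' A)) :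
    ∃ j : B', algebraMap B' B j = 0 ∧ algebraMap B' A' j = ι :=
  sq_exists hsq 0 ι (by rw [map_zero, (RingHom.mem_ker).1 hι])

include hsq in
theorem sq_ext (x y : B') (h1 : algebraMap B' B x = algebraMap B' B y)
    (h2 : algebraMap B' A' x = algebraMap B' A' y) : x = y := by
  have hcomm : algebraMap B A (algebraMap B' B y) = algebraMap A' A (algebraMap B' A' y) := by
    rw [← IsScalarTower.algebraMap_apply, ← IsScalarTower.algebraMap_apply]
  obtain ⟨z, -, hz⟩ := hsq.2 (algebraMap B' B y) (algebraMap B' A' y) hcomm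
  rw [hz x ⟨h1, h2⟩, hz y ⟨rfl, rfl⟩]

end Sq

section FT

variable {B' B A' A : Type u} [CommRing B'] [CommRing B] [CommRing A'] [CommRing A]
  [Algebra B' B] [Algebra B' A'] [Algebra B A] [Algebra A' A] [Algebra B' A]
  [IsScalarTower B' B A] [IsScalarTower B' A' A]
  (hsq : EtMil.IsFibreSquare B' B A' A)
  {D' D C' C : Type u} [CommRing D'] [CommRing D] [CommRing C'] [CommRing C]
  [Algebra D' D] [Algebra D' C'] [Algebra D C] [Algebra C' C] [Algebra D' C]
  [IsScalarTower D' D C] [IsScalarTower D' C' C]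
  (hsq' : EtMil.IsFibreSquare D' D C' C)
  [Algebra B' D'] [Algebra B D] [Algebra A' C'] [Algebra A C]
  [Algebra B' D] [IsScalarTower B' B D] [IsScalarTower B' D' D]
  [Algebra B' C'] [IsScalarTower B' A' C'] [IsScalarTower B' D' C']
  [Algebra B C] [IsScalarTower B A C] [IsScalarTower B D C]
  [Algebra A' C] [IsScalarTower A' A C] [IsScalarTower A' C' C]
  [Algebra.IsPushout B D A C] [Algebra.IsPushout A' C' A C]

include hsq hsq' in
theorem finiteType_of (hD : Algebra.FiniteType B D) (hC' : Algebra.FiniteType A' C') :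
    Algebra.FiniteType B' D' := by
  classical
  obtain ⟨sD, hsD⟩ := hD.out
  obtain ⟨sC, hsC⟩ := hC'.out
  have hD'surj : Function.Surjective (algebraMap D' D) := sq_surj hsq'
  have hBsurj : Function.Surjective (algebraMap B' B) := sq_surj hsq
  have hAsurj : Function.Surjective (algebraMap A' A) := hsq.1
  choose lift hlift using hD'surj
  obtain ⟨S₀, hS₀⟩ : ∃ S₀ : Subalgebra B' D', S₀ = Algebra.adjoin B' ((sD.image lift : Finset D') : Set D') :=
    ⟨_, rfl⟩
  -- Step 1
  have step1 : ∀ d : D, ∃ s ∈ S₀, algebraMap D' D s = d := by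
    intro d
    have hd : d ∈ Algebra.adjoin B (sD : Set D) := by rw [hsD]; trivial
    induction hd using Algebra.adjoin_induction with
    | mem x hx =>
      refine ⟨lift x, ?_, hlift x⟩
      rw [hS₀]
      exact Algebra.subset_adjoin (Finset.mem_coe.2 (Finset.mem_image_of_mem _ hx))
    | algebraMap b =>
      obtain ⟨b', rfl⟩ := hBsurj b
      refine ⟨algebraMap B' D' b', Subalgebra.algebraMap_mem _ _, ?_⟩
      rw [← IsScalarTower.algebraMap_apply, ← IsScalarTower.algebraMap_apply]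
    | add x y _ _ hx hy =>
      obtain ⟨s, hs, rfl⟩ := hx
      obtain ⟨t, ht, rfl⟩ := hy
      exact ⟨s + t, add_mem hs ht, map_add _ _ _⟩
    | mul x y _ _ hx hy =>
      obtain ⟨s, hs, rfl⟩ := hx
      obtain ⟨t, ht, rfl⟩ := hy
      exact ⟨s * t, mul_mem hs ht, map_mul _ _ _⟩
  -- Step 2a
  obtain ⟨M₀, hM₀⟩ : ∃ M₀ : Submodule A' C',
      M₀ = Submodule.span A' ((algebraMap D' C') '' (S₀ : Set D')) := ⟨_, rfl⟩
  have step2a : ∀ c : C, ∃ σ ∈ M₀, algebraMap C' C σ = c := by
    intro c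
    have hp : Algebra.IsPushout B A D C := Algebra.IsPushout.symm inferInstance
    have hc := mem_span_range (A' := B) (A := D) (C' := A) (C := C) c
    refine Submodule.span_induction ?_ ?_ ?_ ?_ hc
    · rintro _ ⟨d, rfl⟩
      obtain ⟨s, hs, rfl⟩ := step1 d
      refine ⟨algebraMap D' C' s, ?_, ?_⟩
      · rw [hM₀]; exact Submodule.subset_span ⟨s, hs, rfl⟩
      · rw [← IsScalarTower.algebraMap_apply, ← IsScalarTower.algebraMap_apply]
    · exact ⟨0, zero_mem _, map_zero _⟩
    · rintro x y _ _ ⟨σ, hσ, rfl⟩ ⟨τ, hτ, rfl⟩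
      exact ⟨σ + τ, add_mem hσ hτ, map_add _ _ _⟩
    · rintro a x _ ⟨σ, hσ, rfl⟩
      obtain ⟨a', rfl⟩ := hAsurj a
      refine ⟨a' • σ, Submodule.smul_mem _ _ hσ, ?_⟩
      rw [Algebra.smul_def, map_mul, ← IsScalarTower.algebraMap_apply, Algebra.smul_def,
        ← IsScalarTower.algebraMap_apply]
  choose σ hσ1 hσ2 using fun c' : C' => step2a (algebraMap C' C c')
  -- Step 2b
  have step2b : ∀ c' : C', ∃ y : D', algebraMap D' D y = 0 ∧ algebraMap D' C' y = c' - σ c' := by
    intro c'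
    exact sq_exists hsq' 0 (c' - σ c') (by rw [map_zero, map_sub, hσ2, sub_self])
  choose y hy1 hy2 using step2b
  obtain ⟨S, hS⟩ : ∃ S : Subalgebra B' D', S = Algebra.adjoin B'
      (((sD.image lift ∪ sC.image y : Finset D')) : Set D') := ⟨_, rfl⟩
  have hS₀S : S₀ ≤ S := by
    rw [hS₀, hS]
    apply Algebra.adjoin_mono
    intro x hx
    rw [Finset.mem_coe] at hx ⊢
    exact Finset.mem_union_left _ hx
  refine ⟨⟨sD.image lift ∪ sC.image y, ?_⟩⟩
  rw [← hS]
  obtain ⟨M, hM⟩ : ∃ M : Submodule A' C',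
      M = Submodule.span A' ((algebraMap D' C') '' (S : Set D')) := ⟨_, rfl⟩
  have hM₀M : M₀ ≤ M := by
    rw [hM₀, hM]
    apply Submodule.span_mono
    exact Set.image_mono hS₀S
  have hmulM : ∀ x ∈ M, ∀ z ∈ M, x * z ∈ M := by
    intro x hx z hz
    rw [hM] at hx hz ⊢
    refine Submodule.span_induction ?_ ?_ ?_ ?_ hx
    · rintro _ ⟨s, hs, rfl⟩
      refine Submodule.span_induction ?_ ?_ ?_ ?_ hz
      · rintro _ ⟨t, ht, rfl⟩
        rw [← map_mul]
        exact Submodule.subset_span ⟨s * t, mul_mem hs ht, rfl⟩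
      · rw [mul_zero]; exact zero_mem _
      · intro u v _ _ hu hv
        rw [mul_add]; exact add_mem hu hv
      · intro a u _ hu
        rw [mul_smul_comm]; exact Submodule.smul_mem _ _ hu
    · rw [zero_mul]; exact zero_mem _
    · intro u v _ _ hu hv
      rw [add_mul]; exact add_mem hu hv
    · intro a u _ hu
      rw [smul_mul_assoc]; exact Submodule.smul_mem _ _ hu
  -- Step 2c
  have step2c : ∀ c' : C', c' ∈ M := by
    intro c'
    have hc : c' ∈ Algebra.adjoin A' (sC : Set C') := by rw [hsC]; trivial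
    induction hc using Algebra.adjoin_induction with
    | mem x hx =>
      have : x = σ x + algebraMap D' C' (y x) := by rw [hy2]; ring
      rw [this]
      refine add_mem (hM₀M (hσ1 x)) ?_
      rw [hM]
      refine Submodule.subset_span ⟨y x, ?_, rfl⟩
      rw [hS]
      exact Algebra.subset_adjoin (Finset.mem_coe.2
        (Finset.mem_union_right _ (Finset.mem_image_of_mem _ hx)))
    | algebraMap a' =>
      have : algebraMap A' C' a' = a' • algebraMap D' C' 1 := by
        rw [map_one, Algebra.smul_def, mul_one]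
      rw [this, hM]
      exact Submodule.smul_mem _ _ (Submodule.subset_span ⟨1, one_mem _, rfl⟩)
    | add x z _ _ hx hz => exact add_mem hx hz
    | mul x z _ _ hx hz => exact hmulM x hx z hz
  -- Step 2d
  have step2d : ∀ c' : C', ∀ ι ∈ RingHom.ker (algebraMap A' A),
      ∃ s ∈ S, algebraMap D' D s = 0 ∧ algebraMap D' C' s = algebraMap A' C' ι * c' := by
    intro c'
    have hc' := step2c c'
    rw [hM] at hc'
    refine Submodule.span_induction ?_ ?_ ?_ ?_ hc'
    · rintro _ ⟨s₀, hs₀, rfl⟩ ι hι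
      obtain ⟨j, hj1, hj2⟩ := sq_exists_ker hsq ι hι
      refine ⟨j • s₀, Subalgebra.smul_mem _ hs₀ _, ?_, ?_⟩
      · rw [Algebra.smul_def, map_mul, ← IsScalarTower.algebraMap_apply,
          IsScalarTower.algebraMap_apply B' B D, hj1, map_zero, zero_mul]
      · rw [Algebra.smul_def, map_mul, ← IsScalarTower.algebraMap_apply,
          IsScalarTower.algebraMap_apply B' A' C', hj2]
    · intro ι _
      exact ⟨0, zero_mem _, map_zero _, by rw [map_zero, mul_zero]⟩
    · intro u v _ _ hu hv ι hι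
      obtain ⟨s, hs, hs1, hs2⟩ := hu ι hι
      obtain ⟨t, ht, ht1, ht2⟩ := hv ι hι
      exact ⟨s + t, add_mem hs ht, by rw [map_add, hs1, ht1, add_zero],
        by rw [map_add, hs2, ht2, mul_add]⟩
    · intro a' u _ hu ι hι
      obtain ⟨s, hs, hs1, hs2⟩ := hu (ι * a') (Ideal.mul_mem_right _ _ hι)
      exact ⟨s, hs, hs1, by rw [hs2, map_mul, Algebra.smul_def, mul_assoc]⟩
  -- Step 3
  rw [eq_top_iff]
  intro d' _
  obtain ⟨s, hs, hsd⟩ := step1 (algebraMap D' D d')
  have hκ : algebraMap D' C' (d' - s) ∈ RingHom.ker (algebraMap C' C) := by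
    rw [RingHom.mem_ker, ← IsScalarTower.algebraMap_apply, IsScalarTower.algebraMap_apply D' D C,
      map_sub, hsd, sub_self, map_zero]
  rw [ker_eq_map (A' := A') (A := A) (C' := C') (C := C) hAsurj] at hκ
  have key : ∀ κ ∈ (RingHom.ker (algebraMap A' A)).map (algebraMap A' C'), ∀ c' : C',
      ∃ s' ∈ S, algebraMap D' D s' = 0 ∧ algebraMap D' C' s' = c' * κ := by
    intro κ hκ
    refine Submodule.span_induction ?_ ?_ ?_ ?_ hκ
    · rintro _ ⟨ι, hι, rfl⟩ c'
      obtain ⟨s', hs', h1, h2⟩ := step2d c' ι hι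
      exact ⟨s', hs', h1, by rw [h2, mul_comm]⟩
    · intro c'
      exact ⟨0, zero_mem _, map_zero _, by rw [map_zero, mul_zero]⟩
    · intro u v _ _ hu hv c'
      obtain ⟨s₁, hs₁, h11, h12⟩ := hu c'
      obtain ⟨s₂, hs₂, h21, h22⟩ := hv c'
      exact ⟨s₁ + s₂, add_mem hs₁ hs₂, by rw [map_add, h11, h21, add_zero],
        by rw [map_add, h12, h22, mul_add]⟩
    · intro e u _ hu c'
      obtain ⟨s₁, hs₁, h11, h12⟩ := hu (c' * e)
      exact ⟨s₁, hs₁, h11, by rw [h12, smul_eq_mul, mul_assoc]⟩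
  obtain ⟨s', hs', h1, h2⟩ := key _ hκ 1
  have : d' = s + s' := by
    apply sq_ext hsq'
    · rw [map_add, h1, add_zero, hsd]
    · rw [map_add, h2, one_mul, map_sub]; ring
  rw [this]
  exact add_mem (hS₀S hs) hs'

end FT

end Groth.Agent.MilnorAlg
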