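import Mathlib
import Groth.Prelude.Def_EtMil

/-!
# Milnor squares: glueing modules (helper6)

`B' = B ×_A A'` with `A' → A` surjective.
* `surj_B`, `exists_pair`, `exists_lift_ker`, `pair_ext`.
* `tmul_eq_zero_iff`: for `R → S` surjective, `1 ⊗ m = 0 ↔ m ∈ ker • ⊤`.
* `glue_fst_bijective`, `glue_snd_bijective`: `B ⊗ glue ≃ N`, `A' ⊗ glue ≃ M'`.
-/

namespace Groth.Agent.Lib.Milnor

open TensorProduct

universe u

section general

variable {R S : Type*} [CommRing R] [CommRing S] [Algebra R S]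
  {M : Type*} [AddCommGroup M] [Module R M]

theorem tmul_eq_zero_iff (hs : Function.Surjective (algebraMap R S)) (m : M) :
    ((1 : S) ⊗ₜ[R] m : S ⊗[R] M) = 0 ↔
      m ∈ (RingHom.ker (algebraMap R S)) • (⊤ : Submodule R M) := by
  let φ : R →ₐ[R] S := Algebra.ofId R S
  have hφ : Function.Surjective φ := hs
  have hJ : RingHom.ker φ = RingHom.ker (algebraMap R S) := by
    ext x; simp [RingHom.mem_ker, φ, Algebra.ofId_apply]
  let e := Ideal.quotientKerAlgEquivOfSurjective hφ
  let T : S ⊗[R] M ≃ₗ[R] (R ⧸ RingHom.ker φ) ⊗[R] M :=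
    TensorProduct.congr e.symm.toLinearEquiv (LinearEquiv.refl R M)
  let Q := TensorProduct.quotTensorEquivQuotSMul M (RingHom.ker φ)
  have h4 : Q (T ((1 : S) ⊗ₜ[R] m)) = Submodule.Quotient.mk m := by
    simp only [T, TensorProduct.congr_tmul, AlgEquiv.toLinearEquiv_apply, map_one,
      LinearEquiv.refl_apply]
    have : ((1 : R ⧸ RingHom.ker φ) ⊗ₜ[R] m) =
        (Ideal.Quotient.mk (RingHom.ker φ) 1) ⊗ₜ[R] m := by rw [map_one]
    rw [this, TensorProduct.quotTensorEquivQuotSMul_mk_tmul, one_smul]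
  constructor
  · intro h
    have h3 : Q (T ((1 : S) ⊗ₜ[R] m)) = 0 := by rw [h, map_zero, map_zero]
    rw [h4, Submodule.Quotient.mk_eq_zero, hJ] at h3
    exact h3
  · intro h
    have h3 : Q (T ((1 : S) ⊗ₜ[R] m)) = 0 := by
      rw [h4, Submodule.Quotient.mk_eq_zero, hJ]
      exact h
    have := (Q.injective.comp T.injective)
    apply this
    simp only [Function.comp_apply]
    rw [h3, map_zero, map_zero]

theorem exists_tmul_eq (hs : Function.Surjective (algebraMap R S)) (z : S ⊗[R] M) :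
    ∃ m : M, (1 : S) ⊗ₜ[R] m = z :=
  TensorProduct.mk_surjective R M S hs z

end general

section square

variable {B' B A' A : Type u} [CommRing B'] [CommRing B] [CommRing A'] [CommRing A]
  [Algebra B' B] [Algebra B' A'] [Algebra B A] [Algebra A' A] [Algebra B' A]
  [IsScalarTower B' B A] [IsScalarTower B' A' A]

theorem compat (c : B') :
    algebraMap B A (algebraMap B' B c) = algebraMap A' A (algebraMap B' A' c) := by
  rw [← IsScalarTower.algebraMap_apply B' B A, ← IsScalarTower.algebraMap_apply B' A' A]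

theorem exists_pair (hsq : EtMil.IsFibreSquare B' B A' A) (b : B) (a' : A')
    (h : algebraMap B A b = algebraMap A' A a') :
    ∃ c : B', algebraMap B' B c = b ∧ algebraMap B' A' c = a' := by
  obtain ⟨c, hc, -⟩ := hsq.2 b a' h
  exact ⟨c, hc⟩

theorem pair_ext (hsq : EtMil.IsFibreSquare B' B A' A) (c c' : B')
    (h1 : algebraMap B' B c = algebraMap B' B c')
    (h2 : algebraMap B' A' c = algebraMap B' A' c') : c = c' := by
  obtain ⟨d, _, hd⟩ := hsq.2 (algebraMap B' B c) (algebraMap B' A' c) (compat c)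
  rw [hd c ⟨rfl, rfl⟩, hd c' ⟨h1.symm, h2.symm⟩]

theorem surj_B (hsq : EtMil.IsFibreSquare B' B A' A) : Function.Surjective (algebraMap B' B) := by
  intro b
  obtain ⟨a', ha'⟩ := hsq.1 (algebraMap B A b)
  obtain ⟨c, hc, -⟩ := exists_pair hsq b a' ha'.symm
  exact ⟨c, hc⟩

theorem exists_lift_ker (hsq : EtMil.IsFibreSquare B' B A' A) (i : A')
    (hi : algebraMap A' A i = 0) :
    ∃ j : B', algebraMap B' B j = 0 ∧ algebraMap B' A' j = i :=
  exists_pair hsq 0 i (by rw [map_zero, hi])

end square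

section glue

variable {B' B A' A : Type u} [CommRing B'] [CommRing B] [CommRing A'] [CommRing A]
  [Algebra B' B] [Algebra B' A'] [Algebra B A] [Algebra A' A] [Algebra B' A]
  [IsScalarTower B' B A] [IsScalarTower B' A' A]
variable {N M' : Type u} [AddCommGroup N] [Module B N] [Module B' N] [IsScalarTower B' B N]
  [AddCommGroup M'] [Module A' M'] [Module B' M'] [IsScalarTower B' A' M']
  (φ : A ⊗[B] N ≃ₗ[A] A ⊗[A'] M')

theorem mem_glue (x : N × M') :
    x ∈ EtMil.glue B' φ ↔ φ ((1 : A) ⊗ₜ[B] x.1) = (1 : A) ⊗ₜ[A'] x.2 := Iff.rfl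

theorem exists_snd (hsq : EtMil.IsFibreSquare B' B A' A) (n : N) :
    ∃ m' : M', (n, m') ∈ EtMil.glue B' φ := by
  obtain ⟨m', hm'⟩ := exists_tmul_eq hsq.1 (φ ((1 : A) ⊗ₜ[B] n))
  exact ⟨m', hm'.symm⟩

theorem zero_mem_glue_iff (hsq : EtMil.IsFibreSquare B' B A' A) (m' : M') :
    ((0 : N), m') ∈ EtMil.glue B' φ ↔
      m' ∈ (RingHom.ker (algebraMap A' A)) • (⊤ : Submodule A' M') := by
  rw [mem_glue, ← tmul_eq_zero_iff hsq.1]
  simp only [TensorProduct.tmul_zero, map_zero]
  exact eq_comm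

theorem ker_smul (j : B') (hj : algebraMap B' B j = 0) (x : N × M') :
    j • x = ((0 : N), (algebraMap B' A' j) • x.2) := by
  ext
  · show j • x.1 = 0
    rw [← IsScalarTower.algebraMap_smul B j x.1, hj, zero_smul]
  · show j • x.2 = _
    rw [IsScalarTower.algebraMap_smul]

/-- every `m'` is, modulo `I M'`, in the `A'`-span of the second components of the glued module -/
theorem span_snd_sup (hsq : EtMil.IsFibreSquare B' B A' A) :
    Submodule.span A' (Prod.snd '' (EtMil.glue B' φ : Set (N × M'))) ⊔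
      (RingHom.ker (algebraMap A' A)) • (⊤ : Submodule A' M') = ⊤ := by
  rw [eq_top_iff]
  intro m' _
  have key : ∀ z : A ⊗[B] N, ∃ m'' ∈ Submodule.span A' (Prod.snd '' (EtMil.glue B' φ : Set (N × M'))),
      φ z = (1 : A) ⊗ₜ[A'] m'' := by
    intro z
    induction z using TensorProduct.induction_on with
    | zero => exact ⟨0, Submodule.zero_mem _, by simp⟩
    | tmul a n =>
      obtain ⟨q, hq⟩ := exists_snd φ hsq n
      obtain ⟨a', rfl⟩ := hsq.1 a
      refine ⟨a' • q, Submodule.smul_mem _ _ (Submodule.subset_span ⟨(n, q), hq, rfl⟩), ?_⟩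
      have h1 : (algebraMap A' A a') ⊗ₜ[B] n = (algebraMap A' A a') • ((1 : A) ⊗ₜ[B] n) := by
        rw [TensorProduct.smul_tmul', smul_eq_mul, mul_one]
      rw [h1, map_smul, (mem_glue φ _).1 hq]
      rw [TensorProduct.tmul_smul, algebraMap_smul]
    | add x y hx hy =>
      obtain ⟨mx, hmx, ex⟩ := hx
      obtain ⟨my, hmy, ey⟩ := hy
      exact ⟨mx + my, Submodule.add_mem _ hmx hmy, by rw [map_add, ex, ey, TensorProduct.tmul_add]⟩
  obtain ⟨m'', hm'', e⟩ := key (φ.symm ((1 : A) ⊗ₜ[A'] m'))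
  rw [LinearEquiv.apply_symm_apply] at e
  have hd : m' - m'' ∈ (RingHom.ker (algebraMap A' A)) • (⊤ : Submodule A' M') := by
    rw [← tmul_eq_zero_iff hsq.1, TensorProduct.tmul_sub, e, sub_self]
  have : m' = m'' + (m' - m'') := by abel
  rw [this]
  exact Submodule.add_mem_sup hm'' hd

/-- `0 × I M'` is contained in `J • glue`. -/
theorem zero_mem_ker_smul_glue (hsq : EtMil.IsFibreSquare B' B A' A) (m' : M')
    (hm' : m' ∈ (RingHom.ker (algebraMap A' A)) • (⊤ : Submodule A' M')) :
    ((0 : N), m') ∈ (RingHom.ker (algebraMap B' B)) • (EtMil.glue B' φ) := by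
  have step1 : ∀ s ∈ Submodule.span A' (Prod.snd '' (EtMil.glue B' φ : Set (N × M'))),
      ∀ i : A', algebraMap A' A i = 0 →
        ((0 : N), i • s) ∈ (RingHom.ker (algebraMap B' B)) • (EtMil.glue B' φ) := by
    intro s hs
    induction hs using Submodule.span_induction with
    | mem q hq =>
      intro i hi
      obtain ⟨x, hx, rfl⟩ := hq
      obtain ⟨j, hj0, hji⟩ := exists_lift_ker hsq i hi
      have : ((0 : N), i • x.2) = j • x := by rw [ker_smul (A' := A') j hj0 x, hji]
      rw [this]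
      exact Submodule.smul_mem_smul (RingHom.mem_ker.2 hj0) hx
    | zero =>
      intro i _
      rw [smul_zero]
      exact Submodule.zero_mem _
    | add a b _ _ ha hb =>
      intro i hi
      have := Submodule.add_mem _ (ha i hi) (hb i hi)
      rw [smul_add]
      simpa using this
    | smul r a _ ha =>
      intro i hi
      have := ha (i * r) (by rw [map_mul, hi, zero_mul])
      rw [mul_smul] at this
      exact this
  have step2 : ∀ i : A', algebraMap A' A i = 0 →
      ∀ d ∈ (RingHom.ker (algebraMap A' A)) • (⊤ : Submodule A' M'),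
        ((0 : N), i • d) ∈ (RingHom.ker (algebraMap B' B)) • (EtMil.glue B' φ) := by
    intro i hi d hd
    obtain ⟨j, hj0, hji⟩ := exists_lift_ker hsq i hi
    have hd' : ((0 : N), d) ∈ EtMil.glue B' φ := (zero_mem_glue_iff φ hsq d).2 hd
    have : ((0 : N), i • d) = j • ((0 : N), d) := by rw [ker_smul (A' := A') j hj0 ((0 : N), d), hji]
    rw [this]
    exact Submodule.smul_mem_smul (RingHom.mem_ker.2 hj0) hd'
  refine Submodule.smul_induction_on hm' ?_ ?_
  · intro i hi m _
    have hm : m ∈ Submodule.span A' (Prod.snd '' (EtMil.glue B' φ : Set (N × M'))) ⊔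
        (RingHom.ker (algebraMap A' A)) • (⊤ : Submodule A' M') := by
      rw [span_snd_sup φ hsq]; trivial
    obtain ⟨s, hs, d, hd, rfl⟩ := Submodule.mem_sup.1 hm
    rw [smul_add]
    have := Submodule.add_mem _ (step1 s hs i (RingHom.mem_ker.1 hi))
      (step2 i (RingHom.mem_ker.1 hi) d hd)
    simpa using this
  · intro x y hx hy
    have := Submodule.add_mem _ hx hy
    simpa using this

theorem glue_fst_bijective (hsq : EtMil.IsFibreSquare B' B A' A) :
    Function.Bijective (LinearMap.liftBaseChange B (EtMil.glueFst B' φ)) := by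
  constructor
  · rw [← LinearMap.ker_eq_bot, eq_bot_iff]
    intro z hz
    obtain ⟨x, rfl⟩ := exists_tmul_eq (surj_B hsq) z
    rw [LinearMap.mem_ker, LinearMap.liftBaseChange_tmul, one_smul] at hz
    have hx1 : (x : N × M').1 = 0 := hz
    have hx : (x : N × M') = (0, (x : N × M').2) := Prod.ext hx1 rfl
    have hmem : ((0 : N), (x : N × M').2) ∈ EtMil.glue B' φ := hx ▸ x.2
    have h2 := (zero_mem_glue_iff φ hsq _).1 hmem
    have h3 := zero_mem_ker_smul_glue φ hsq _ h2
    rw [← hx] at h3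
    rw [Submodule.mem_bot, tmul_eq_zero_iff (surj_B hsq), Submodule.mem_smul_top_iff]
    exact h3
  · intro n
    obtain ⟨m', hm'⟩ := exists_snd φ hsq n
    refine ⟨(1 : B) ⊗ₜ[B'] (⟨(n, m'), hm'⟩ : EtMil.glue B' φ), ?_⟩
    rw [LinearMap.liftBaseChange_tmul, one_smul]
    rfl

theorem glueFst_surjective (hsq : EtMil.IsFibreSquare B' B A' A) :
    Function.Surjective (EtMil.glueFst B' φ) := by
  intro n
  obtain ⟨m', hm'⟩ := exists_snd φ hsq n
  exact ⟨⟨(n, m'), hm'⟩, rfl⟩

/-- for `k = (0, d)` in the glued module, `a' ⊗ k = 1 ⊗ (0, a' d)` -/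
theorem tmul_zero_fst (hsq : EtMil.IsFibreSquare B' B A' A) (k : EtMil.glue B' φ)
    (hk : (k : N × M').1 = 0) (a' : A') :
    ∃ k' : EtMil.glue B' φ, (k' : N × M').1 = 0 ∧
      (a' ⊗ₜ[B'] k : A' ⊗[B'] EtMil.glue B' φ) = (1 : A') ⊗ₜ[B'] k' := by
  have hx : (k : N × M') = (0, (k : N × M').2) := Prod.ext hk rfl
  have hmem : ((0 : N), (k : N × M').2) ∈ EtMil.glue B' φ := hx ▸ k.2
  have h2 := (zero_mem_glue_iff φ hsq _).1 hmem
  have h3 := zero_mem_ker_smul_glue φ hsq _ h2
  rw [← hx, ← Submodule.mem_smul_top_iff] at h3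
  revert a'
  refine Submodule.smul_induction_on h3 ?_ ?_
  · intro j hj x _ a'
    have hj0 := RingHom.mem_ker.1 hj
    have hz : algebraMap A' A (a' * algebraMap B' A' j) = 0 := by
      rw [map_mul, ← compat (B := B) (A' := A') (A := A) j, hj0, map_zero, mul_zero]
    obtain ⟨j', hj'0, hj'⟩ := exists_lift_ker hsq _ hz
    refine ⟨j' • x, ?_, ?_⟩
    · show (j' • (x : N × M')).1 = 0
      rw [ker_smul (A' := A') j' hj'0 (x : N × M')]
    · rw [TensorProduct.tmul_smul, TensorProduct.smul_tmul', TensorProduct.tmul_smul,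
        TensorProduct.smul_tmul', Algebra.smul_def, Algebra.smul_def, hj', mul_one, mul_comm]
  · intro y₁ y₂ h₁ h₂ a'
    obtain ⟨k₁, hk₁, e₁⟩ := h₁ a'
    obtain ⟨k₂, hk₂, e₂⟩ := h₂ a'
    refine ⟨k₁ + k₂, ?_, ?_⟩
    · show ((k₁ : N × M') + (k₂ : N × M')).1 = 0
      rw [Prod.fst_add, hk₁, hk₂, add_zero]
    · rw [TensorProduct.tmul_add, TensorProduct.tmul_add, e₁, e₂]

theorem rTensor_injective (hsq : EtMil.IsFibreSquare B' B A' A) :
    Function.Injective
      (LinearMap.rTensor N (IsScalarTower.toAlgHom B' A' A).toLinearMap) := by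
  have hsurj : Function.Surjective (IsScalarTower.toAlgHom B' A' A).toLinearMap := hsq.1
  have hex := rTensor_exact N
    (LinearMap.exact_subtype_ker_map (IsScalarTower.toAlgHom B' A' A).toLinearMap) hsurj
  have hzero : ∀ w : ↥(LinearMap.ker (IsScalarTower.toAlgHom B' A' A).toLinearMap) ⊗[B'] N,
      LinearMap.rTensor N (LinearMap.ker (IsScalarTower.toAlgHom B' A' A).toLinearMap).subtype w
        = 0 := by
    intro w
    induction w using TensorProduct.induction_on with
    | zero => simp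
    | tmul i n =>
      rw [LinearMap.rTensor_tmul]
      have hi : algebraMap A' A (i : A') = 0 := LinearMap.mem_ker.1 i.2
      obtain ⟨j, hj0, hji⟩ := exists_lift_ker hsq (i : A') hi
      show ((i : A') ⊗ₜ[B'] n) = 0
      rw [← hji, Algebra.algebraMap_eq_smul_one, TensorProduct.smul_tmul,
        ← IsScalarTower.algebraMap_smul B j n, hj0, zero_smul, TensorProduct.tmul_zero]
    | add x y hx hy => rw [map_add, hx, hy, add_zero]
  rw [injective_iff_map_eq_zero]
  intro z hz
  obtain ⟨w, rfl⟩ := (hex z).1 hz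
  exact hzero w

theorem compatibleSMul (hsq : EtMil.IsFibreSquare B' B A' A) :
    TensorProduct.CompatibleSMul B' B A N :=
  ⟨fun b a n => by
    obtain ⟨c, rfl⟩ := surj_B hsq b
    rw [algebraMap_smul, algebraMap_smul, TensorProduct.smul_tmul]⟩

theorem key_identity (hsq : EtMil.IsFibreSquare B' B A' A) (z : A' ⊗[B'] EtMil.glue B' φ) :
    haveI := compatibleSMul (N := N) hsq
    LinearMap.rTensor N (IsScalarTower.toAlgHom B' A' A).toLinearMap
        (LinearMap.lTensor A' (EtMil.glueFst B' φ) z) =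
      TensorProduct.mapOfCompatibleSMul B' B B' A N
        (φ.symm ((1 : A) ⊗ₜ[A'] (LinearMap.liftBaseChange A' (EtMil.glueSnd B' φ) z))) := by
  haveI := compatibleSMul (N := N) hsq
  induction z using TensorProduct.induction_on with
  | zero => simp
  | tmul a' x =>
    rw [LinearMap.lTensor_tmul, LinearMap.rTensor_tmul, LinearMap.liftBaseChange_tmul]
    have hx : φ ((1 : A) ⊗ₜ[B] (x : N × M').1) = (1 : A) ⊗ₜ[A'] (x : N × M').2 := x.2
    have h1 : ((1 : A) ⊗ₜ[A'] (a' • EtMil.glueSnd B' φ x) : A ⊗[A'] M') =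
        algebraMap A' A a' • ((1 : A) ⊗ₜ[A'] (x : N × M').2) := by
      rw [TensorProduct.tmul_smul, algebraMap_smul]
      rfl
    rw [h1, ← hx, map_smul, LinearEquiv.symm_apply_apply, TensorProduct.smul_tmul', smul_eq_mul,
      mul_one, TensorProduct.mapOfCompatibleSMul_tmul]
    rfl
  | add x y hx hy =>
    rw [map_add, map_add, hx, hy, map_add, TensorProduct.tmul_add, map_add, map_add]

theorem glue_snd_bijective (hsq : EtMil.IsFibreSquare B' B A' A) :
    Function.Bijective (LinearMap.liftBaseChange A' (EtMil.glueSnd B' φ)) := by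
  constructor
  · rw [injective_iff_map_eq_zero]
    intro z hz
    have h1 := key_identity φ hsq z
    rw [hz, TensorProduct.tmul_zero, map_zero, map_zero] at h1
    have h2 : LinearMap.lTensor A' (EtMil.glueFst B' φ) z = 0 :=
      rTensor_injective hsq (by rw [h1, map_zero])
    have hex0 : Function.Exact (LinearMap.ker (EtMil.glueFst B' φ)).subtype (EtMil.glueFst B' φ) :=
      LinearMap.exact_subtype_ker_map (EtMil.glueFst B' φ)
    have hex := @lTensor_exact B' ↥(LinearMap.ker (EtMil.glueFst B' φ)) ↥(EtMil.glue B' φ) N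
      _ _ _ _ _ _ _ (LinearMap.ker (EtMil.glueFst B' φ)).subtype (EtMil.glueFst B' φ) A' _ _
      hex0 (glueFst_surjective φ hsq)
    obtain ⟨w, rfl⟩ := (hex z).1 h2
    have h3 : ∀ w : A' ⊗[B'] ↥(LinearMap.ker (EtMil.glueFst B' φ)),
        ∃ k : EtMil.glue B' φ, (k : N × M').1 = 0 ∧
          LinearMap.lTensor A' (LinearMap.ker (EtMil.glueFst B' φ)).subtype w =
            (1 : A') ⊗ₜ[B'] k := by
      intro w
      induction w using TensorProduct.induction_on with
      | zero => exact ⟨0, rfl, by simp⟩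
      | tmul a' k₀ =>
        rw [LinearMap.lTensor_tmul]
        exact tmul_zero_fst φ hsq (k₀ : EtMil.glue B' φ) (LinearMap.mem_ker.1 k₀.2) a'
      | add x y hx hy =>
        obtain ⟨k₁, hk₁, e₁⟩ := hx
        obtain ⟨k₂, hk₂, e₂⟩ := hy
        refine ⟨k₁ + k₂, ?_, ?_⟩
        · show ((k₁ : N × M') + (k₂ : N × M')).1 = 0
          rw [Prod.fst_add, hk₁, hk₂, add_zero]
        · rw [map_add, e₁, e₂, TensorProduct.tmul_add]
    obtain ⟨k, hk, e⟩ := h3 w
    rw [e] at hz ⊢
    rw [LinearMap.liftBaseChange_tmul, one_smul] at hz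
    have hk2 : (k : N × M').2 = 0 := hz
    have : k = 0 := Subtype.ext (Prod.ext hk hk2)
    rw [this, TensorProduct.tmul_zero]
  · rw [← LinearMap.range_eq_top, eq_top_iff, ← span_snd_sup φ hsq]
    apply sup_le
    · rw [Submodule.span_le]
      rintro _ ⟨x, hx, rfl⟩
      refine ⟨(1 : A') ⊗ₜ[B'] (⟨x, hx⟩ : EtMil.glue B' φ), ?_⟩
      rw [LinearMap.liftBaseChange_tmul, one_smul]
      rfl
    · intro d hd
      have := (zero_mem_glue_iff (N := N) φ hsq d).2 hd
      refine ⟨(1 : A') ⊗ₜ[B'] (⟨((0 : N), d), this⟩ : EtMil.glue B' φ), ?_⟩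
      rw [LinearMap.liftBaseChange_tmul, one_smul]
      rfl

end glue

end Groth.Agent.Lib.Milnor
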