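import Mathlib
import Groth.Prelude.Def_EtMil
import Groth.Agent.Lib.MilnorAlgFT_helper5
import Groth.Agent.Lib.Milnor_helper6

/-!
# Finite presentation for flat algebras over a Milnor square (helper5)
-/

set_option autoImplicit false
universe u

namespace Groth.Agent.MilnorAlg

open TensorProduct MvPolynomial

section FP

variable {B' B A' A : Type u} [CommRing B'] [CommRing B] [CommRing A'] [CommRing A]
  [Algebra B' B] [Algebra B' A'] [Algebra B A] [Algebra A' A] [Algebra B' A]
  [IsScalarTower B' B A] [IsScalarTower B' A' A]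
  (hsq : EtMil.IsFibreSquare B' B A' A)
  {D' D C' : Type u} [CommRing D'] [CommRing D] [CommRing C']
  [Algebra B' D'] [Algebra B D] [Algebra D' D] [Algebra B' D] [IsScalarTower B' B D]
  [IsScalarTower B' D' D] [Algebra.IsPushout B' B D' D]
  [Algebra A' C'] [Algebra D' C'] [Algebra B' C'] [IsScalarTower B' A' C']
  [IsScalarTower B' D' C'] [Algebra.IsPushout B' A' D' C']

variable {n : ℕ} (π' : MvPolynomial (Fin n) B' →ₐ[B'] D')

variable (B D) in
/-- the induced presentation of `D` -/
noncomputable def piB : MvPolynomial (Fin n) B →ₐ[B] D :=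
  aeval (fun i => algebraMap D' D (π' (X i)))

variable (A' C') in
/-- the induced presentation of `C'` -/
noncomputable def piA : MvPolynomial (Fin n) A' →ₐ[A'] C' :=
  aeval (fun i => algebraMap D' C' (π' (X i)))

theorem piB_map (p : MvPolynomial (Fin n) B') :
    piB B D π' (map (algebraMap B' B) p) = algebraMap D' D (π' p) := by
  induction p using MvPolynomial.induction_on with
  | C a =>
    rw [map_C, piB, aeval_C, algHom_C, ← IsScalarTower.algebraMap_apply,
      ← IsScalarTower.algebraMap_apply]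
  | add p q hp hq => rw [map_add, map_add, hp, hq, map_add, map_add]
  | mul_X p i hp => rw [map_mul, map_mul, hp, map_X, piB, aeval_X, map_mul, map_mul]

theorem piA_map (p : MvPolynomial (Fin n) B') :
    piA A' C' π' (map (algebraMap B' A') p) = algebraMap D' C' (π' p) := by
  induction p using MvPolynomial.induction_on with
  | C a =>
    rw [map_C, piA, aeval_C, algHom_C, ← IsScalarTower.algebraMap_apply,
      ← IsScalarTower.algebraMap_apply]
  | add p q hp hq => rw [map_add, map_add, hp, hq, map_add, map_add]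
  | mul_X p i hp => rw [map_mul, map_mul, hp, map_X, piA, aeval_X, map_mul, map_mul]

include hsq in
theorem exists_ker_lift (hπ' : Function.Surjective π') (p : MvPolynomial (Fin n) B)
    (hp : piB B D π' p = 0) :
    ∃ k : MvPolynomial (Fin n) B', π' k = 0 ∧ map (algebraMap B' B) k = p := by
  have hBsurj := sq_surj hsq
  obtain ⟨p', rfl⟩ := MvPolynomial.map_surjective _ hBsurj p
  rw [piB_map] at hp
  have hker : π' p' ∈ RingHom.ker (algebraMap D' D) := hp
  haveI : Algebra.IsPushout B' D' B D := Algebra.IsPushout.symm inferInstance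
  rw [ker_eq_map (A' := B') (A := B) (C' := D') (C := D) hBsurj] at hker
  have key : ∀ δ ∈ (RingHom.ker (algebraMap B' B)).map (algebraMap B' D'),
      ∃ r : MvPolynomial (Fin n) B', map (algebraMap B' B) r = 0 ∧ π' r = δ := by
    intro δ hδ
    refine Submodule.span_induction ?_ ?_ ?_ ?_ hδ
    · rintro _ ⟨j, hj, rfl⟩
      exact ⟨C j, by rw [map_C, (RingHom.mem_ker).1 hj, map_zero], by rw [algHom_C]⟩
    · exact ⟨0, map_zero _, map_zero _⟩
    · rintro u v _ _ ⟨r, h1, h2⟩ ⟨s, h3, h4⟩
      exact ⟨r + s, by rw [map_add, h1, h3, add_zero], by rw [map_add, h2, h4]⟩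
    · rintro d' u _ ⟨r, h1, h2⟩
      obtain ⟨q, rfl⟩ := hπ' d'
      exact ⟨q * r, by rw [map_mul, h1, mul_zero], by rw [map_mul, h2, smul_eq_mul]⟩
  obtain ⟨r, hr1, hr2⟩ := key _ hker
  exact ⟨p' - r, by rw [map_sub, hr2, sub_self], by rw [map_sub, hr1, sub_zero]⟩

theorem ker_piA_le (hπ' : Function.Surjective π') :
    RingHom.ker (piA A' C' π').toRingHom ≤
      Ideal.map (map (algebraMap B' A')) (RingHom.ker π'.toRingHom) := by
  obtain ⟨N, hN⟩ : ∃ N : Ideal (MvPolynomial (Fin n) A'),
      N = Ideal.map (map (algebraMap B' A')) (RingHom.ker π'.toRingHom) := ⟨_, rfl⟩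
  rw [← hN]
  let ψ : MvPolynomial (Fin n) B' →ₐ[B'] (MvPolynomial (Fin n) A' ⧸ N) :=
    (Ideal.Quotient.mkₐ B' N).comp (mapAlgHom (Algebra.ofId B' A'))
  have hψ : ∀ p, ψ p = Ideal.Quotient.mk N (map (algebraMap B' A') p) := fun p => rfl
  have hker : RingHom.ker π'.toRingHom ≤ RingHom.ker ψ.toRingHom := by
    intro k hk
    rw [RingHom.mem_ker]
    change ψ k = 0
    rw [hψ, Ideal.Quotient.eq_zero_iff_mem, hN]
    exact Ideal.mem_map_of_mem _ hk
  let g : D' →ₐ[B'] (MvPolynomial (Fin n) A' ⧸ N) := AlgHom.liftOfSurjective π' hπ' ψ hker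
  have hg : ∀ p, g (π' p) = ψ p := fun p => AlgHom.liftOfSurjective_apply π' hπ' ψ hker p
  let f : A' →ₐ[B'] (MvPolynomial (Fin n) A' ⧸ N) := IsScalarTower.toAlgHom B' A' _
  let Φ := Algebra.pushoutDesc C' f g (fun x y => mul_comm _ _)
  have hΦ : ∀ q : MvPolynomial (Fin n) A', Φ (piA A' C' π' q) = Ideal.Quotient.mk N q := by
    intro q
    induction q using MvPolynomial.induction_on with
    | C a =>
      rw [piA, aeval_C]
      exact (Algebra.pushoutDesc_left C' f g _ a).trans rfl
    | add p q hp hq => rw [map_add, map_add, hp, hq, map_add]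
    | mul_X p i hp =>
      rw [map_mul, map_mul, hp, piA, aeval_X, Algebra.pushoutDesc_right, hg, hψ, map_X, map_mul]
  intro q hq
  have h1 : piA A' C' π' q = 0 := hq
  have h2 := hΦ q
  rw [h1, map_zero] at h2
  exact Ideal.Quotient.eq_zero_iff_mem.1 h2.symm

include hsq in
theorem exists_lift_mul (ι : A') (hι : ι ∈ RingHom.ker (algebraMap A' A))
    (q : MvPolynomial (Fin n) A') :
    ∃ r : MvPolynomial (Fin n) B', map (algebraMap B' B) r = 0 ∧
      map (algebraMap B' A') r = C ι * q := by
  induction q using MvPolynomial.induction_on with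
  | C a =>
    obtain ⟨j, hj1, hj2⟩ := sq_exists_ker hsq (ι * a) (Ideal.mul_mem_right _ _ hι)
    exact ⟨C j, by rw [map_C, hj1, map_zero], by rw [map_C, hj2, C_mul]⟩
  | add p q hp hq =>
    obtain ⟨r, h1, h2⟩ := hp
    obtain ⟨s, h3, h4⟩ := hq
    exact ⟨r + s, by rw [map_add, h1, h3, add_zero], by rw [map_add, h2, h4, mul_add]⟩
  | mul_X p i hp =>
    obtain ⟨r, h1, h2⟩ := hp
    exact ⟨r * X i, by rw [map_mul, h1, zero_mul], by rw [map_mul, h2, map_X, mul_assoc]⟩

include hsq in
theorem exists_lift_of_mem (ρ : MvPolynomial (Fin n) A')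
    (hρ : ρ ∈ Ideal.map (C : A' →+* MvPolynomial (Fin n) A') (RingHom.ker (algebraMap A' A))) :
    ∃ r : MvPolynomial (Fin n) B', map (algebraMap B' B) r = 0 ∧
      map (algebraMap B' A') r = ρ := by
  have key : ∀ q : MvPolynomial (Fin n) A', ∃ r : MvPolynomial (Fin n) B',
      map (algebraMap B' B) r = 0 ∧ map (algebraMap B' A') r = q * ρ := by
    refine Submodule.span_induction ?_ ?_ ?_ ?_ hρ
    · rintro _ ⟨ι, hι, rfl⟩ q
      obtain ⟨r, h1, h2⟩ := exists_lift_mul hsq ι hι q
      exact ⟨r, h1, by rw [h2, mul_comm]⟩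
    · intro q
      exact ⟨0, map_zero _, by rw [map_zero, mul_zero]⟩
    · intro u v _ _ hu hv q
      obtain ⟨r, h1, h2⟩ := hu q
      obtain ⟨s, h3, h4⟩ := hv q
      exact ⟨r + s, by rw [map_add, h1, h3, add_zero], by rw [map_add, h2, h4, mul_add]⟩
    · intro e u _ hu q
      obtain ⟨r, h1, h2⟩ := hu (q * e)
      exact ⟨r, h1, by rw [h2, smul_eq_mul, mul_assoc]⟩
  obtain ⟨r, h1, h2⟩ := key 1
  exact ⟨r, h1, by rw [h2, one_mul]⟩

omit [Algebra B' A] [IsScalarTower B' B A] [IsScalarTower B' A' A] in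
theorem map_mem_of_map_eq_zero (r : MvPolynomial (Fin n) B')
    (hcomm : ∀ x : B', algebraMap B A (algebraMap B' B x) = algebraMap A' A (algebraMap B' A' x))
    (hr : map (algebraMap B' B) r = 0) :
    map (algebraMap B' A') r ∈
      Ideal.map (C : A' →+* MvPolynomial (Fin n) A') (RingHom.ker (algebraMap A' A)) := by
  rw [MvPolynomial.mem_map_C_iff]
  intro m
  have := congrArg (coeff m) hr
  rw [coeff_map, coeff_zero] at this
  rw [coeff_map, RingHom.mem_ker, ← hcomm, this, map_zero]

include hsq in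
theorem poly_ext (x y : MvPolynomial (Fin n) B')
    (h1 : map (algebraMap B' B) x = map (algebraMap B' B) y)
    (h2 : map (algebraMap B' A') x = map (algebraMap B' A') y) : x = y := by
  ext m
  apply sq_ext hsq
  · have := congrArg (coeff m) h1
    rwa [coeff_map, coeff_map] at this
  · have := congrArg (coeff m) h2
    rwa [coeff_map, coeff_map] at this

include hsq in
theorem mem_mul_of_flat [Module.Flat B' D'] (hπ' : Function.Surjective π')
    (k : MvPolynomial (Fin n) B') (hk : π' k = 0) (hk0 : map (algebraMap B' B) k = 0) :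
    k ∈ Ideal.map (C : B' →+* MvPolynomial (Fin n) B') (RingHom.ker (algebraMap B' B)) *
      RingHom.ker π'.toRingHom := by
  have hBsurj := sq_surj hsq
  obtain ⟨Kl, hKl⟩ : ∃ Kl : Submodule B' (MvPolynomial (Fin n) B'),
      Kl = LinearMap.ker π'.toLinearMap := ⟨_, rfl⟩
  have hinj : Function.Injective (Kl.subtype.lTensor B) := by
    rw [hKl]
    exact LinearMap.lTensor_injective_of_exact_of_flat π'.toLinearMap hπ' _
      (Submodule.subtype_injective _) (LinearMap.exact_subtype_ker_map _) B
  have h1 : k ∈ (RingHom.ker (algebraMap B' B)) •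
      (⊤ : Submodule B' (MvPolynomial (Fin n) B')) := by
    have hc : ∀ m, coeff m k ∈ RingHom.ker (algebraMap B' B) := fun m => by
      have := congrArg (coeff m) hk0
      rwa [coeff_map, coeff_zero] at this
    rw [k.as_sum]
    refine Submodule.sum_mem _ fun m _ => ?_
    have : monomial m (coeff m k) = coeff m k • monomial m (1 : B') := by
      rw [smul_monomial, smul_eq_mul, mul_one]
    rw [this]
    exact Submodule.smul_mem_smul (hc m) trivial
  have h2 : ((1 : B) ⊗ₜ[B'] k : B ⊗[B'] MvPolynomial (Fin n) B') = 0 :=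
    (Groth.Agent.Lib.Milnor.tmul_eq_zero_iff hBsurj k).2 h1
  have hkK : k ∈ Kl := by rw [hKl]; exact hk
  have h3 : ((1 : B) ⊗ₜ[B'] (⟨k, hkK⟩ : Kl) : B ⊗[B'] Kl) = 0 := by
    apply hinj
    rw [LinearMap.lTensor_tmul, map_zero]
    exact h2
  have h4 := (Groth.Agent.Lib.Milnor.tmul_eq_zero_iff hBsurj (⟨k, hkK⟩ : Kl)).1 h3
  have key : ∀ x ∈ (RingHom.ker (algebraMap B' B)) • (⊤ : Submodule B' Kl),
      (x : MvPolynomial (Fin n) B') ∈
        Ideal.map (C : B' →+* MvPolynomial (Fin n) B') (RingHom.ker (algebraMap B' B)) *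
          RingHom.ker π'.toRingHom := by
    intro x hx
    refine Submodule.smul_induction_on hx ?_ ?_
    · intro j hj y _
      rw [Submodule.coe_smul, smul_eq_C_mul]
      refine Ideal.mul_mem_mul (Ideal.mem_map_of_mem _ hj) ?_
      have hmem : ∀ z ∈ Kl, z ∈ RingHom.ker π'.toRingHom := by
        rw [hKl]; intro z hz; exact hz
      exact hmem _ y.2
    · intro x y hx hy
      rw [Submodule.coe_add]
      exact add_mem hx hy
  exact key _ h4

include hsq in
theorem piB_surjective (hπ' : Function.Surjective π') : Function.Surjective (piB B D π') := by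
  have hBsurj := sq_surj hsq
  haveI : Algebra.IsPushout B' D' B D := Algebra.IsPushout.symm inferInstance
  intro d
  obtain ⟨d', rfl⟩ := surjective_of_isPushout (A' := B') (A := B) (C' := D') (C := D) hBsurj d
  obtain ⟨p, rfl⟩ := hπ' d'
  exact ⟨_, piB_map π' p⟩

theorem piA_surjective (hπ' : Function.Surjective π') : Function.Surjective (piA A' C' π') := by
  intro c'
  have hc := mem_span_range (A' := B') (A := D') (C' := A') (C := C') c'
  refine Submodule.span_induction ?_ ?_ ?_ ?_ hc
  · rintro _ ⟨d', rfl⟩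
    obtain ⟨p, rfl⟩ := hπ' d'
    exact ⟨_, piA_map π' p⟩
  · exact ⟨0, map_zero _⟩
  · rintro u v _ _ ⟨p, rfl⟩ ⟨q, rfl⟩
    exact ⟨p + q, map_add _ _ _⟩
  · rintro a u _ ⟨p, rfl⟩
    exact ⟨C a * p, by rw [map_mul, piA, aeval_C, Algebra.smul_def]⟩

include hsq in
theorem mul_le_span (T : Set (MvPolynomial (Fin n) B'))
    (hT : RingHom.ker (piA A' C' π').toRingHom ≤
      Ideal.span (map (algebraMap B' A') '' T))
    (r k' : MvPolynomial (Fin n) B') (hr : map (algebraMap B' B) r = 0) (hk' : π' k' = 0) :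
    r * k' ∈ Ideal.span T := by
  have hcomm : ∀ x : B', algebraMap B A (algebraMap B' B x) =
      algebraMap A' A (algebraMap B' A' x) := fun x => by
    rw [← IsScalarTower.algebraMap_apply, ← IsScalarTower.algebraMap_apply]
  have hz : map (algebraMap B' A') k' ∈ Ideal.span (map (algebraMap B' A') '' T) := by
    apply hT
    change piA A' C' π' (map (algebraMap B' A') k') = 0
    rw [piA_map, hk', map_zero]
  have key : ∀ ρ ∈ Ideal.map (C : A' →+* MvPolynomial (Fin n) A')
      (RingHom.ker (algebraMap A' A)), ∃ w ∈ Ideal.span T, map (algebraMap B' B) w = 0 ∧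
        map (algebraMap B' A') w = ρ * map (algebraMap B' A') k' := by
    refine Submodule.span_induction ?_ ?_ ?_ ?_ hz
    · rintro _ ⟨t, ht, rfl⟩ ρ hρ
      obtain ⟨r', h1, h2⟩ := exists_lift_of_mem hsq ρ hρ
      exact ⟨r' * t, Ideal.mul_mem_left _ _ (Ideal.subset_span ht), by rw [map_mul, h1, zero_mul],
        by rw [map_mul, h2]⟩
    · intro ρ _
      exact ⟨0, zero_mem _, map_zero _, by rw [map_zero, mul_zero]⟩
    · intro u v _ _ hu hv ρ hρ
      obtain ⟨w₁, hw₁, h1, h2⟩ := hu ρ hρ
      obtain ⟨w₂, hw₂, h3, h4⟩ := hv ρ hρ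
      exact ⟨w₁ + w₂, add_mem hw₁ hw₂, by rw [map_add, h1, h3, add_zero],
        by rw [map_add, h2, h4, mul_add]⟩
    · intro e u _ hu ρ hρ
      obtain ⟨w, hw, h1, h2⟩ := hu (ρ * e) (Ideal.mul_mem_right _ _ hρ)
      exact ⟨w, hw, h1, by rw [h2, smul_eq_mul, mul_assoc]⟩
  obtain ⟨w, hw, h1, h2⟩ := key _ (map_mem_of_map_eq_zero r hcomm hr)
  have : r * k' = w := by
    apply poly_ext hsq
    · rw [map_mul, hr, zero_mul, h1]
    · rw [map_mul, h2]
  rw [this]
  exact hw

include hsq in
theorem finitePresentation_of [Module.Flat B' D'] [Algebra.FiniteType B' D']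
    [Algebra.FinitePresentation B D] [Algebra.FinitePresentation A' C'] :
    Algebra.FinitePresentation B' D' := by
  classical
  obtain ⟨n, π', hπ'⟩ := Algebra.FiniteType.iff_quotient_mvPolynomial''.1
    (inferInstance : Algebra.FiniteType B' D')
  refine ⟨n, π', hπ', ?_⟩
  have hBsurj := sq_surj hsq
  have hmBsurj : Function.Surjective (map (algebraMap B' B) : MvPolynomial (Fin n) B' →+* _) :=
    MvPolynomial.map_surjective _ hBsurj
  have hKB : (RingHom.ker (piB B D π').toRingHom).FG :=
    Algebra.FinitePresentation.ker_fG_of_surjective _ (piB_surjective hsq π' hπ')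
  have hKA : (RingHom.ker (piA A' C' π').toRingHom).FG :=
    Algebra.FinitePresentation.ker_fG_of_surjective _ (piA_surjective π' hπ')
  have hB_eq : RingHom.ker (piB B D π').toRingHom =
      Ideal.span (map (algebraMap B' B) '' (RingHom.ker π'.toRingHom : Set _)) := by
    apply le_antisymm
    · intro p hp
      obtain ⟨k, hk, rfl⟩ := exists_ker_lift hsq π' hπ' p hp
      exact Ideal.subset_span ⟨k, hk, rfl⟩
    · rw [Ideal.span_le]
      rintro _ ⟨k, hk, rfl⟩
      change piB B D π' (map (algebraMap B' B) k) = 0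
      have hk' : π' k = 0 := hk
      rw [piB_map, hk', map_zero]
  have hA_eq : RingHom.ker (piA A' C' π').toRingHom =
      Ideal.span (map (algebraMap B' A') '' (RingHom.ker π'.toRingHom : Set _)) := by
    apply le_antisymm
    · exact ker_piA_le π' hπ'
    · rw [Ideal.span_le]
      rintro _ ⟨k, hk, rfl⟩
      change piA A' C' π' (map (algebraMap B' A') k) = 0
      have hk' : π' k = 0 := hk
      rw [piA_map, hk', map_zero]
  rw [hB_eq] at hKB
  rw [hA_eq] at hKA
  obtain ⟨sB, hsB1, hsB2⟩ := (Submodule.fg_span_iff_fg_span_finset_subset _).1 hKB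
  obtain ⟨G, hG1, hG2⟩ := Finset.subset_set_image_iff.1 hsB1
  obtain ⟨sA, hsA1, hsA2⟩ := (Submodule.fg_span_iff_fg_span_finset_subset _).1 hKA
  obtain ⟨T, hT1, hT2⟩ := Finset.subset_set_image_iff.1 hsA1
  refine ⟨G ∪ T, le_antisymm ?_ ?_⟩
  · rw [Ideal.span_le, Finset.coe_union]
    exact Set.union_subset hG1 hT1
  · intro k hk
    have hk' : π' k = 0 := hk
    -- first reduce modulo `G`
    have h1 : map (algebraMap B' B) k ∈ Ideal.map (map (algebraMap B' B))
        (Ideal.span (G : Set (MvPolynomial (Fin n) B'))) := by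
      rw [Ideal.map_span, ← Finset.coe_image, hG2]
      have : MvPolynomial.map (algebraMap B' B) k ∈ Ideal.span (MvPolynomial.map (algebraMap B' B) ''
          (RingHom.ker π'.toRingHom : Set (MvPolynomial (Fin n) B'))) :=
        Ideal.subset_span ⟨k, hk, rfl⟩
      rw [Ideal.span, hsB2] at this
      exact this
    obtain ⟨g₀, hg₀, hg₀'⟩ := (Ideal.mem_map_iff_of_surjective _ hmBsurj).1 h1
    have hg₀K : π' g₀ = 0 := by
      have : Ideal.span (G : Set (MvPolynomial (Fin n) B')) ≤ RingHom.ker π'.toRingHom := by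
        rw [Ideal.span_le]; exact hG1
      exact this hg₀
    have h2 := mem_mul_of_flat hsq π' hπ' (k - g₀) (by rw [map_sub, hk', hg₀K, sub_self])
      (by rw [map_sub, hg₀', sub_self])
    have hTle : RingHom.ker (piA A' C' π').toRingHom ≤
        Ideal.span (map (algebraMap B' A') '' (T : Set (MvPolynomial (Fin n) B'))) := by
      rw [hA_eq, ← Finset.coe_image, hT2]
      exact hsA2.le
    have h3 : Ideal.map (C : B' →+* MvPolynomial (Fin n) B') (RingHom.ker (algebraMap B' B)) *
        RingHom.ker π'.toRingHom ≤ Ideal.span ((T : Set (MvPolynomial (Fin n) B'))) := by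
      rw [Ideal.mul_le]
      intro r hr k' hk'
      refine mul_le_span hsq π' _ hTle r k' ?_ hk'
      rw [← MvPolynomial.ker_map] at hr
      exact hr
    have h4 : k = g₀ + (k - g₀) := by ring
    rw [h4]
    refine add_mem (Ideal.span_mono ?_ hg₀) (Ideal.span_mono ?_ (h3 h2))
    · rw [Finset.coe_union]; exact Set.subset_union_left
    · rw [Finset.coe_union]; exact Set.subset_union_right

end FP

end Groth.Agent.MilnorAlg
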