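import Mathlib
import Groth.Prelude.Def_EtMil
import Groth.Agent.Lib.MilnorAlgFT_helper5
import Groth.Agent.Lib.Milnor_helper6

/-!
# The fibre product algebra over a Milnor square is a pushout on both sides (helper5)
-/

set_option autoImplicit false
universe u

namespace Groth.Agent.MilnorAlg

open TensorProduct

section PO

variable {B' B A' A : Type u} [CommRing B'] [CommRing B] [CommRing A'] [CommRing A]
  [Algebra B' B] [Algebra B' A'] [Algebra B A] [Algebra A' A] [Algebra B' A]
  [IsScalarTower B' B A] [IsScalarTower B' A' A]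
  (hsq : EtMil.IsFibreSquare B' B A' A)
  {D' D C' C : Type u} [CommRing D'] [CommRing D] [CommRing C'] [CommRing C]
  [Algebra D' D] [Algebra D' C'] [Algebra D C] [Algebra C' C] [Algebra D' C]
  [IsScalarTower D' D C] [IsScalarTower D' C' C]
  (hsq' : EtMil.IsFibreSquare D' D C' C)
  [Algebra B' D'] [Algebra B D] [Algebra A' C'] [Algebra A C]
  [Algebra B' D] [IsScalarTower B' B D] [IsScalarTower B' D' D]
  [Algebra B' C'] [IsScalarTower B' A' C'] [IsScalarTower B' D' C']
  [Algebra B C] [IsScalarTower B A C] [IsScalarTower B D C]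
  [Algebra A' C] [IsScalarTower A' A C] [IsScalarTower A' C' C]
  [Algebra.IsPushout B D A C] [Algebra.IsPushout A' C' A C]

variable (B A' A D C' C) in
/-- the gluing isomorphism `A ⊗_B D ≃ A ⊗_{A'} C'` -/
noncomputable def phi : A ⊗[B] D ≃ₗ[A] A ⊗[A'] C' :=
  (Algebra.IsPushout.symm (inferInstance : Algebra.IsPushout B D A C)).out.equiv ≪≫ₗ
    ((Algebra.IsPushout.symm (inferInstance : Algebra.IsPushout A' C' A C)).out.equiv).symm

theorem phi_iff (d : D) (c' : C') :
    phi B A' A D C' C ((1 : A) ⊗ₜ[B] d) = (1 : A) ⊗ₜ[A'] c' ↔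
      algebraMap D C d = algebraMap C' C c' := by
  rw [phi, LinearEquiv.trans_apply, LinearEquiv.symm_apply_eq, IsBaseChange.equiv_tmul,
    IsBaseChange.equiv_tmul, one_smul, one_smul]
  rfl

variable (B' B A' A D' D C' C) in
/-- `D' → D × C'` lands in the glued module -/
noncomputable def toGlue : D' →ₗ[B'] EtMil.glue B' (phi B A' A D C' C) :=
  LinearMap.codRestrict _
    (LinearMap.prod (IsScalarTower.toAlgHom B' D' D).toLinearMap
      (IsScalarTower.toAlgHom B' D' C').toLinearMap) (fun d' => by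
    change phi B A' A D C' C ((1 : A) ⊗ₜ[B] (algebraMap D' D d')) =
      (1 : A) ⊗ₜ[A'] (algebraMap D' C' d')
    rw [phi_iff, ← IsScalarTower.algebraMap_apply, ← IsScalarTower.algebraMap_apply])

include hsq' in
theorem toGlue_bijective : Function.Bijective (toGlue B' B A' A D' D C' C) := by
  constructor
  · intro x y h
    have h' := congrArg Subtype.val h
    exact sq_ext hsq' x y (congrArg Prod.fst h') (congrArg Prod.snd h')
  · rintro ⟨⟨d, c'⟩, hm⟩
    have hm' : phi B A' A D C' C ((1 : A) ⊗ₜ[B] d) = (1 : A) ⊗ₜ[A'] c' := hm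
    rw [phi_iff] at hm'
    obtain ⟨d', h1, h2⟩ := sq_exists hsq' d c' hm'
    exact ⟨d', Subtype.ext (Prod.ext h1 h2)⟩

include hsq hsq' in
theorem isPushout_left : Algebra.IsPushout B' B D' D := by
  constructor
  obtain ⟨e, he⟩ : ∃ e : D' ≃ₗ[B'] EtMil.glue B' (phi B A' A D C' C),
      e = LinearEquiv.ofBijective (toGlue B' B A' A D' D C' C) (toGlue_bijective hsq') := ⟨_, rfl⟩
  have hbij := Groth.Agent.Lib.Milnor.glue_fst_bijective (phi B A' A D C' C) hsq
  obtain ⟨E, hE⟩ : ∃ E : B ⊗[B'] D' ≃ₗ[B] D, E =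
      (AlgebraTensorModule.congr (LinearEquiv.refl B B) e) ≪≫ₗ LinearEquiv.ofBijective _ hbij :=
    ⟨_, rfl⟩
  refine IsBaseChange.of_equiv E fun x => ?_
  rw [hE, LinearEquiv.trans_apply, AlgebraTensorModule.congr_tmul, LinearEquiv.refl_apply,
    LinearEquiv.ofBijective_apply, LinearMap.liftBaseChange_tmul, one_smul, he]
  rfl

include hsq hsq' in
theorem isPushout_right : Algebra.IsPushout B' A' D' C' := by
  constructor
  obtain ⟨e, he⟩ : ∃ e : D' ≃ₗ[B'] EtMil.glue B' (phi B A' A D C' C),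
      e = LinearEquiv.ofBijective (toGlue B' B A' A D' D C' C) (toGlue_bijective hsq') := ⟨_, rfl⟩
  have hbij := Groth.Agent.Lib.Milnor.glue_snd_bijective (phi B A' A D C' C) hsq
  obtain ⟨E, hE⟩ : ∃ E : A' ⊗[B'] D' ≃ₗ[A'] C', E =
      (AlgebraTensorModule.congr (LinearEquiv.refl A' A') e) ≪≫ₗ LinearEquiv.ofBijective _ hbij :=
    ⟨_, rfl⟩
  refine IsBaseChange.of_equiv E fun x => ?_
  rw [hE, LinearEquiv.trans_apply, AlgebraTensorModule.congr_tmul, LinearEquiv.refl_apply,
    LinearEquiv.ofBijective_apply, LinearMap.liftBaseChange_tmul, one_smul, he]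
  rfl

end PO

end Groth.Agent.MilnorAlg
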