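import Mathlib
import Groth.Prelude.Def_EtMil
import Groth.Agent.Lib.MilnorAlgFT_helper5
import Groth.Agent.S14949

/-!
# Smooth fibres for algebras over a Milnor square (helper5)
-/

set_option autoImplicit false
universe u

namespace Groth.Agent.MilnorAlg

open TensorProduct

section Factor

variable {B' B A' A : Type u} [CommRing B'] [CommRing B] [CommRing A'] [CommRing A]
  [Algebra B' B] [Algebra B' A'] [Algebra B A] [Algebra A' A] [Algebra B' A]
  [IsScalarTower B' B A] [IsScalarTower B' A' A]
  (hsq : EtMil.IsFibreSquare B' B A' A)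

include hsq in
/-- a ring map from `B'` inverting an element of `ker (B' → B)` factors through `A'` -/
theorem exists_factor {K : Type*} [CommRing K] (ρ : B' →+* K) (j : B')
    (hj : algebraMap B' B j = 0) (hu : IsUnit (ρ j)) :
    ∃ θ : A' →+* K, θ.comp (algebraMap B' A') = ρ := by
  have hcomm : ∀ x : B', algebraMap B A (algebraMap B' B x) =
      algebraMap A' A (algebraMap B' A' x) := fun x => by
    rw [← IsScalarTower.algebraMap_apply, ← IsScalarTower.algebraMap_apply]
  have hι : algebraMap B' A' j ∈ RingHom.ker (algebraMap A' A) := by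
    rw [RingHom.mem_ker, ← hcomm, hj, map_zero]
  choose J hJ1 hJ2 using fun a' : A' => sq_exists_ker hsq (algebraMap B' A' j * a')
    (Ideal.mul_mem_right _ _ hι)
  obtain ⟨u, hu'⟩ := hu
  have huinv : ρ j * (↑u⁻¹ : K) = 1 := by rw [← hu']; exact u.mul_inv
  have hJone : J 1 = j := sq_ext hsq _ _ (by rw [hJ1, hj]) (by rw [hJ2, mul_one])
  have hJadd : ∀ x y, J (x + y) = J x + J y := fun x y =>
    sq_ext hsq _ _ (by rw [map_add, hJ1, hJ1, hJ1, add_zero])
      (by rw [map_add, hJ2, hJ2, hJ2, mul_add])
  have hJmul : ∀ x y, j * J (x * y) = J x * J y := fun x y =>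
    sq_ext hsq _ _ (by rw [map_mul, map_mul, hJ1, hJ1, mul_zero, zero_mul])
      (by rw [map_mul, map_mul, hJ2, hJ2, hJ2]; ring)
  have hJzero : J 0 = 0 := sq_ext hsq _ _ (by rw [hJ1, map_zero])
    (by rw [hJ2, mul_zero, map_zero])
  have hJalg : ∀ b' : B', J (algebraMap B' A' b') = j * b' := fun b' =>
    sq_ext hsq _ _ (by rw [hJ1, map_mul, hj, zero_mul]) (by rw [hJ2, map_mul])
  refine ⟨{ toFun := fun a' => ρ (J a') * (↑u⁻¹ : K)
            map_one' := by rw [hJone, huinv]
            map_mul' := fun x y => by
              have h1 : ρ j * ρ (J (x * y)) = ρ (J x) * ρ (J y) := by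
                rw [← map_mul, hJmul, map_mul]
              linear_combination ((↑u⁻¹ : K) * ↑u⁻¹) * h1 - (ρ (J (x * y)) * ↑u⁻¹) * huinv
            map_zero' := by rw [hJzero, map_zero, zero_mul]
            map_add' := fun x y => by rw [hJadd, map_add, add_mul] }, ?_⟩
  ext b'
  change ρ (J (algebraMap B' A' b')) * (↑u⁻¹ : K) = ρ b'
  rw [hJalg, map_mul]
  linear_combination (ρ b') * huinv

end Factor

section GenL

/-- base change of a formally smooth algebra along a factorisation -/
theorem formallySmooth_tensor_of_factor {R S T T' : Type u} [CommRing R] [CommRing S] [CommRing T]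
    [CommRing T'] [Algebra R S] [Algebra R T] [Algebra S T'] [Algebra T T'] [Algebra R T']
    [IsScalarTower R S T'] [IsScalarTower R T T'] [Algebra.IsPushout R S T T']
    [Algebra.FormallySmooth S T'] {K : Type u} [CommRing K] [Algebra R K] (θ : S →+* K)
    (hθ : θ.comp (algebraMap R S) = algebraMap R K) :
    Algebra.FormallySmooth K (K ⊗[R] T) := by
  letI : Algebra S K := θ.toAlgebra
  haveI : IsScalarTower R S K := IsScalarTower.of_algebraMap_eq fun x => by
    rw [← hθ]; rfl
  let e1 : K ⊗[S] (S ⊗[R] T) ≃ₐ[K] K ⊗[R] T := Algebra.TensorProduct.cancelBaseChange R S K K T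
  let e2 : K ⊗[S] (S ⊗[R] T) ≃ₐ[K] K ⊗[S] T' :=
    Algebra.TensorProduct.congr AlgEquiv.refl (Algebra.IsPushout.equiv R S T T')
  exact Algebra.FormallySmooth.of_equiv (e2.symm.trans e1)

end GenL

section Fibre

variable {B' B A' A : Type u} [CommRing B'] [CommRing B] [CommRing A'] [CommRing A]
  [Algebra B' B] [Algebra B' A'] [Algebra B A] [Algebra A' A] [Algebra B' A]
  [IsScalarTower B' B A] [IsScalarTower B' A' A]
  (hsq : EtMil.IsFibreSquare B' B A' A)
  {D' D C' : Type u} [CommRing D'] [CommRing D] [CommRing C']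
  [Algebra B' D'] [Algebra B D] [Algebra D' D] [Algebra B' D] [IsScalarTower B' B D]
  [IsScalarTower B' D' D] [Algebra.IsPushout B' B D' D]
  [Algebra A' C'] [Algebra D' C'] [Algebra B' C'] [IsScalarTower B' A' C']
  [IsScalarTower B' D' C'] [Algebra.IsPushout B' A' D' C']

include hsq in
theorem formallySmooth_fibre [Algebra.FormallySmooth B D] [Algebra.FormallySmooth A' C']
    (p : Ideal B') [p.IsPrime] : Algebra.FormallySmooth p.ResidueField (p.Fiber D') := by
  by_cases hJ : RingHom.ker (algebraMap B' B) ≤ p
  · -- factor through `B`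
    have hBsurj := sq_surj hsq
    let θ : B →+* p.ResidueField := (algebraMap B' B).liftOfSurjective hBsurj
      ⟨algebraMap B' p.ResidueField, by rw [Ideal.ker_algebraMap_residueField]; exact hJ⟩
    have hθ : θ.comp (algebraMap B' B) = algebraMap B' p.ResidueField :=
      RingHom.liftOfSurjective_comp _ hBsurj _
    exact formallySmooth_tensor_of_factor (R := B') (S := B) (T := D') (T' := D) θ hθ
  · -- factor through `A'`
    obtain ⟨j, hj, hjp⟩ := Set.not_subset.1 hJ
    have hu : IsUnit (algebraMap B' p.ResidueField j) := by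
      rw [isUnit_iff_ne_zero, Ne, Ideal.algebraMap_residueField_eq_zero]
      exact hjp
    obtain ⟨θ, hθ⟩ := exists_factor hsq (algebraMap B' p.ResidueField) j hj hu
    exact formallySmooth_tensor_of_factor (R := B') (S := A') (T := D') (T' := C') θ hθ

include hsq in
theorem smooth_of [Module.Flat B' D'] [Algebra.FinitePresentation B' D']
    [Algebra.FormallySmooth B D] [Algebra.FormallySmooth A' C'] : Algebra.Smooth B' D' :=
  Algebra.Smooth.of_formallySmooth_fiber fun p _ =>
    formallySmooth_fibre (D := D) (C' := C') hsq p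

include hsq in
theorem formallyUnramified_of [Algebra.FormallyUnramified B D] [Algebra.FormallyUnramified A' C'] :
    Algebra.FormallyUnramified B' D' := by
  constructor
  haveI : Subsingleton (B ⊗[B'] Ω[D'⁄B']) :=
    (KaehlerDifferential.tensorKaehlerEquivBase B' B D' D).toEquiv.subsingleton
  haveI : Subsingleton (A' ⊗[B'] Ω[D'⁄B']) :=
    (KaehlerDifferential.tensorKaehlerEquivBase B' A' D' C').toEquiv.subsingleton
  exact Groth.Agent.S14949.result B' B A' A hsq (Ω[D'⁄B'])

include hsq in
theorem etale_of [Module.Flat B' D'] [Algebra.FinitePresentation B' D']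
    [Algebra.FormallyUnramified B D] [Algebra.FormallyUnramified A' C'] : Algebra.Etale B' D' := by
  haveI : Algebra.FormallyUnramified B' D' :=
    formallyUnramified_of (D' := D') (D := D) (C' := C') hsq
  exact Algebra.Etale.of_formallyUnramified_of_flat

end Fibre

end Groth.Agent.MilnorAlg
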