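import Mathlib
import Groth.Agent.Lib.LocalCrit2_helper9

/-!
# Flatness and injective ring maps (square-zero dévissage)
-/

namespace Groth.Agent.Lib.LocalCrit8

open TensorProduct Groth.Agent.Lib.LocalCrit2

universe u

section gen

/-- If `A ⊗_R M` is `A`-flat and `C` is an `A`-algebra, then `C ⊗_R M` is `C`-flat. -/
lemma flat_baseChange_of_algebra (R A C : Type*) [CommRing R] [CommRing A] [CommRing C]
    [Algebra R A] [Algebra R C] [Algebra A C] [IsScalarTower R A C]
    (M : Type*) [AddCommGroup M] [Module R M] [Module.Flat A (A ⊗[R] M)] :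
    Module.Flat C (C ⊗[R] M) :=
  Module.Flat.of_linearEquiv (AlgebraTensorModule.cancelBaseChange R A C C M).symm

/-- If `C ⊗_R M` is `C`-flat and `C` is an `R̄`-algebra, then `C ⊗_{R̄} (R̄ ⊗_R M)` is `C`-flat. -/
lemma flat_baseChange_baseChange (R Rb C : Type*) [CommRing R] [CommRing Rb] [CommRing C]
    [Algebra R Rb] [Algebra R C] [Algebra Rb C] [IsScalarTower R Rb C]
    (M : Type*) [AddCommGroup M] [Module R M] [Module.Flat C (C ⊗[R] M)] :
    Module.Flat C (C ⊗[Rb] (Rb ⊗[R] M)) :=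
  Module.Flat.of_linearEquiv (AlgebraTensorModule.cancelBaseChange R Rb C C M)

end gen

section torsion

variable {R : Type*} [CommRing R] (I : Ideal R)

/-- An injective map between modules killed by `I` stays injective after `- ⊗_R M` if `M/IM` is
flat over `R/I`. -/
lemma rTensor_injective_of_torsion {L G : Type*} [AddCommGroup L] [Module R L]
    [AddCommGroup G] [Module R G]
    (hL : ∀ x ∈ I, ∀ y : L, x • y = 0) (hG : ∀ x ∈ I, ∀ y : G, x • y = 0)
    (g : L →ₗ[R] G) (hg : Function.Injective g) (M : Type*) [AddCommGroup M] [Module R M]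
    [Module.Flat (R ⧸ I) ((R ⧸ I) ⊗[R] M)] :
    Function.Injective (g.rTensor M) := by
  have htL : Module.IsTorsionBySet R L I := fun y ⟨x, hx⟩ => hL x hx y
  have htG : Module.IsTorsionBySet R G I := fun y ⟨x, hx⟩ => hG x hx y
  letI := htL.module
  letI := htG.module
  haveI : IsScalarTower R (R ⧸ I) L := htL.isScalarTower
  haveI : IsScalarTower R (R ⧸ I) G := htG.isScalarTower
  let g' : L →ₗ[R ⧸ I] G :=
    LinearMap.extendScalarsOfSurjective (Ideal.Quotient.mk_surjective (I := I)) g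
  have hg' : Function.Injective g' := hg
  have h := rTensor_injective_of_flat_baseChange (R := R) (R ⧸ I) g' hg' M
  have : g'.restrictScalars R = g := LinearMap.ext fun _ => rfl
  rwa [this] at h

end torsion

section core

/-- Square-zero case: `R → R'` injective, `I² = 0`, `M/IM` flat over `R/I` and `R' ⊗ M` flat over
`R'`; then `M` is flat over `R`. -/
theorem flat_of_sq_zero_of_injective {R R' : Type u} [CommRing R] [CommRing R'] [Algebra R R']
    (hinj : Function.Injective (algebraMap R R')) (I : Ideal R) (hI : I ^ 2 = ⊥)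
    (M : Type u) [AddCommGroup M] [Module R M]
    [Module.Flat (R ⧸ I) ((R ⧸ I) ⊗[R] M)] [Module.Flat R' (R' ⊗[R] M)] : Module.Flat R M := by
  refine flat_of_nilpotent I ⟨2, hI⟩ M ?_
  obtain ⟨I', hI'⟩ : ∃ I' : Ideal R', I' = I.map (algebraMap R R') := ⟨_, rfl⟩
  let g : I →ₗ[R] I' :=
    { toFun := fun x => ⟨algebraMap R R' x, by rw [hI']; exact Ideal.mem_map_of_mem _ x.2⟩
      map_add' := fun a b => Subtype.ext (by simp)
      map_smul' := fun r a => Subtype.ext (by simp [Algebra.smul_def]) }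
  have hg : Function.Injective g := fun a b hab =>
    Subtype.ext (hinj (congrArg Subtype.val hab))
  have h1 : Function.Injective (g.rTensor M) := by
    refine rTensor_injective_of_torsion I ?_ ?_ g hg M
    · intro x hx y
      apply Subtype.ext
      show x * (y : R) = 0
      have : x * (y : R) ∈ I ^ 2 := by rw [pow_two]; exact Ideal.mul_mem_mul hx y.2
      rw [hI] at this
      exact this
    · intro x hx y
      apply Subtype.ext
      show x • (y : R') = 0
      rw [Algebra.smul_def]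
      have hy : (y : R') ∈ I.map (algebraMap R R') := by rw [← hI']; exact y.2
      have : algebraMap R R' x * (y : R') ∈ (I ^ 2).map (algebraMap R R') := by
        rw [pow_two, Ideal.map_mul]
        exact Ideal.mul_mem_mul (Ideal.mem_map_of_mem _ hx) hy
      rw [hI, Ideal.map_bot] at this
      exact this
  have h2 : Function.Injective ((I'.subtype.restrictScalars R).rTensor M) :=
    rTensor_subtype_injective R' I' M
  have hcomp : (I'.subtype.restrictScalars R) ∘ₗ g = (Algebra.linearMap R R') ∘ₗ I.subtype :=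
    LinearMap.ext fun _ => rfl
  have h3 : Function.Injective (((Algebra.linearMap R R') ∘ₗ I.subtype).rTensor M) := by
    rw [← hcomp, LinearMap.rTensor_comp, LinearMap.coe_comp]
    exact h2.comp h1
  rw [LinearMap.rTensor_comp, LinearMap.coe_comp] at h3
  exact Function.Injective.of_comp h3

end core

section main

variable (R R' : Type u) [CommRing R] [CommRing R'] [Algebra R R']

/-- Stacks 0AS8-type step: `M/IM` flat over `R/I`, `R' ⊗ M` flat over `R'`; then with
`I₂ = φ⁻¹(φ(I²)R')`, `M/I₂M` is flat over `R/I₂`. -/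
theorem flat_mod_comap_sq (I : Ideal R) (M : Type u) [AddCommGroup M] [Module R M]
    [Module.Flat (R ⧸ I) ((R ⧸ I) ⊗[R] M)] [Module.Flat R' (R' ⊗[R] M)] :
    Module.Flat (R ⧸ ((I ^ 2).map (algebraMap R R')).comap (algebraMap R R'))
      ((R ⧸ ((I ^ 2).map (algebraMap R R')).comap (algebraMap R R')) ⊗[R] M) := by
  obtain ⟨𝔟, h𝔟⟩ : ∃ 𝔟 : Ideal R', 𝔟 = (I ^ 2).map (algebraMap R R') := ⟨_, rfl⟩
  rw [← h𝔟]
  have hIle : I ^ 2 ≤ 𝔟.comap (algebraMap R R') := by
    rw [h𝔟]; exact Ideal.le_comap_map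
  haveI : Module.Flat (R' ⧸ 𝔟) ((R' ⧸ 𝔟) ⊗[R] M) :=
    flat_baseChange_of_algebra R R' (R' ⧸ 𝔟) M
  haveI : Module.Flat (R' ⧸ 𝔟)
      ((R' ⧸ 𝔟) ⊗[R ⧸ 𝔟.comap (algebraMap R R')] ((R ⧸ 𝔟.comap (algebraMap R R')) ⊗[R] M)) :=
    flat_baseChange_baseChange R (R ⧸ 𝔟.comap (algebraMap R R')) (R' ⧸ 𝔟) M
  haveI : Module.Flat ((R ⧸ 𝔟.comap (algebraMap R R')) ⧸
        I.map (algebraMap R (R ⧸ 𝔟.comap (algebraMap R R'))))
      (((R ⧸ 𝔟.comap (algebraMap R R')) ⧸
        I.map (algebraMap R (R ⧸ 𝔟.comap (algebraMap R R')))) ⊗[R] M) :=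
    flat_baseChange_of_algebra R (R ⧸ I) _ M
  haveI : Module.Flat ((R ⧸ 𝔟.comap (algebraMap R R')) ⧸
        I.map (algebraMap R (R ⧸ 𝔟.comap (algebraMap R R'))))
      (((R ⧸ 𝔟.comap (algebraMap R R')) ⧸
        I.map (algebraMap R (R ⧸ 𝔟.comap (algebraMap R R')))) ⊗[R ⧸ 𝔟.comap (algebraMap R R')]
          ((R ⧸ 𝔟.comap (algebraMap R R')) ⊗[R] M)) :=
    flat_baseChange_baseChange R (R ⧸ 𝔟.comap (algebraMap R R')) _ M
  refine flat_of_sq_zero_of_injective (R := R ⧸ 𝔟.comap (algebraMap R R')) (R' := R' ⧸ 𝔟)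
    Ideal.algebraMap_quotient_injective
    (I.map (algebraMap R (R ⧸ 𝔟.comap (algebraMap R R')))) ?_
    ((R ⧸ 𝔟.comap (algebraMap R R')) ⊗[R] M)
  rw [← Ideal.map_pow, Ideal.map_eq_bot_iff_le_ker]
  refine hIle.trans (le_of_eq ?_)
  exact (Ideal.mk_ker).symm

/-- Stacks 0AS9-type: `R → R'` injective, `I` nilpotent, `M/IM` flat over `R/I` and `R' ⊗ M` flat
over `R'`; then `M` is flat over `R`. -/
theorem flat_of_nilpotent_of_injective (hinj : Function.Injective (algebraMap R R'))
    (I : Ideal R) (hI : IsNilpotent I)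
    (M : Type u) [AddCommGroup M] [Module R M] [Module.Flat (R ⧸ I) ((R ⧸ I) ⊗[R] M)]
    [Module.Flat R' (R' ⊗[R] M)] : Module.Flat R M := by
  have key : ∀ k : ℕ, ∃ J : Ideal R, Module.Flat (R ⧸ J) ((R ⧸ J) ⊗[R] M) ∧
      J.map (algebraMap R R') ≤ (I.map (algebraMap R R')) ^ (2 ^ k) := by
    intro k
    induction k with
    | zero => exact ⟨I, inferInstance, by simp⟩
    | succ k ih =>
      obtain ⟨J, hJ, hJle⟩ := ih
      haveI := hJ
      refine ⟨((J ^ 2).map (algebraMap R R')).comap (algebraMap R R'),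
        flat_mod_comap_sq R R' J M, ?_⟩
      refine Ideal.map_comap_le.trans ?_
      rw [Ideal.map_pow]
      have h22 : (2 : ℕ) ^ (k + 1) = 2 ^ k * 2 := pow_succ 2 k
      rw [h22, pow_mul]
      exact Ideal.pow_right_mono hJle 2
  obtain ⟨n, hn⟩ := hI
  obtain ⟨J, hJ, hJle⟩ := key n
  have h2 : (I.map (algebraMap R R')) ^ (2 ^ n) = ⊥ := by
    have hle : n ≤ 2 ^ n := Nat.lt_two_pow_self.le
    have h3 : I ^ (2 ^ n) = ⊥ := by
      rw [← Nat.sub_add_cancel hle, pow_add, hn]
      exact Ideal.mul_bot _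
    rw [← Ideal.map_pow, h3, Ideal.map_bot]
  have hJbot : J = ⊥ := by
    rw [eq_bot_iff]
    intro x hx
    have h4 : algebraMap R R' x ∈ J.map (algebraMap R R') := Ideal.mem_map_of_mem _ hx
    rw [h2] at hJle
    have h5 := hJle h4
    rw [Ideal.mem_bot] at h5 ⊢
    exact hinj (h5.trans (map_zero _).symm)
  subst hJbot
  haveI := hJ
  refine flat_of_nilpotent (⊥ : Ideal R) ⟨1, pow_one _⟩ M ?_
  haveI : Subsingleton ((⊥ : Ideal R) ⊗[R] M) := inferInstance
  exact Function.injective_of_subsingleton _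

end main

end Groth.Agent.Lib.LocalCrit8
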