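import Mathlib
import Groth.Prelude.Def_EtMil
import Groth.Agent.Lib.Milnor_helper6

/-!
# Milnor squares, part 2 (helper6)

* `exists_of_compatible`: every compatible pair in `(B ⊗ L') × (A' ⊗ L')` comes from `L'`.
* `glue_map_surjective`.
* `glue_finite`, `glue_projective`.
-/

namespace Groth.Agent.Lib.Milnor

open TensorProduct

universe u

section pairs

variable {B' B A' A : Type u} [CommRing B'] [CommRing B] [CommRing A'] [CommRing A]
  [Algebra B' B] [Algebra B' A'] [Algebra B A] [Algebra A' A] [Algebra B' A]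
  [IsScalarTower B' B A] [IsScalarTower B' A' A]

/-- every compatible pair in `(B ⊗ L') × (A' ⊗ L')` comes from an element of `L'`. -/
theorem exists_of_compatible (hsq : EtMil.IsFibreSquare B' B A' A)
    (L' : Type*) [AddCommGroup L'] [Module B' L'] (x : B ⊗[B'] L') (y : A' ⊗[B'] L')
    (hxy : (IsScalarTower.toAlgHom B' B A).toLinearMap.rTensor L' x =
      (IsScalarTower.toAlgHom B' A' A).toLinearMap.rTensor L' y) :
    ∃ l : L', (1 : B) ⊗ₜ[B'] l = x ∧ (1 : A') ⊗ₜ[B'] l = y := by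
  obtain ⟨l₀, rfl⟩ := exists_tmul_eq (surj_B hsq) x
  have hsurj : Function.Surjective (IsScalarTower.toAlgHom B' A' A).toLinearMap := hsq.1
  have hex := rTensor_exact L'
    (LinearMap.exact_subtype_ker_map (IsScalarTower.toAlgHom B' A' A).toLinearMap) hsurj
  have h0 : (IsScalarTower.toAlgHom B' A' A).toLinearMap.rTensor L' (y - (1 : A') ⊗ₜ[B'] l₀) = 0 := by
    rw [map_sub, ← hxy, LinearMap.rTensor_tmul, LinearMap.rTensor_tmul]
    simp
  obtain ⟨w, hw⟩ := (hex _).1 h0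
  have key : ∀ w : ↥(LinearMap.ker (IsScalarTower.toAlgHom B' A' A).toLinearMap) ⊗[B'] L',
      ∃ l₁ : L', LinearMap.rTensor L'
        (LinearMap.ker (IsScalarTower.toAlgHom B' A' A).toLinearMap).subtype w =
          (1 : A') ⊗ₜ[B'] l₁ ∧ ((1 : B) ⊗ₜ[B'] l₁ : B ⊗[B'] L') = 0 := by
    intro w
    induction w using TensorProduct.induction_on with
    | zero => exact ⟨0, by simp, by simp⟩
    | tmul i l =>
      have hi : algebraMap A' A (i : A') = 0 := LinearMap.mem_ker.1 i.2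
      obtain ⟨j, hj0, hji⟩ := exists_lift_ker hsq (i : A') hi
      refine ⟨j • l, ?_, ?_⟩
      · rw [LinearMap.rTensor_tmul]
        show ((i : A') ⊗ₜ[B'] l) = _
        rw [← hji, Algebra.algebraMap_eq_smul_one, TensorProduct.smul_tmul]
      · rw [← TensorProduct.smul_tmul, ← Algebra.algebraMap_eq_smul_one, hj0,
          TensorProduct.zero_tmul]
    | add a b ha hb =>
      obtain ⟨l₁, e₁, z₁⟩ := ha
      obtain ⟨l₂, e₂, z₂⟩ := hb
      exact ⟨l₁ + l₂, by rw [map_add, e₁, e₂, TensorProduct.tmul_add],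
        by rw [TensorProduct.tmul_add, z₁, z₂, add_zero]⟩
  obtain ⟨l₁, e₁, z₁⟩ := key w
  refine ⟨l₀ + l₁, ?_, ?_⟩
  · rw [TensorProduct.tmul_add, z₁, add_zero]
  · rw [TensorProduct.tmul_add, ← e₁, hw]
    abel

end pairs

section maps

variable {B' B A' A : Type u} [CommRing B'] [CommRing B] [CommRing A'] [CommRing A]
  [Algebra B' B] [Algebra B' A'] [Algebra B A] [Algebra A' A] [Algebra B' A]
  [IsScalarTower B' B A] [IsScalarTower B' A' A]
  {N₁ N₂ M₁' M₂' : Type u} [AddCommGroup N₁] [Module B N₁] [Module B' N₁] [IsScalarTower B' B N₁]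
  [AddCommGroup N₂] [Module B N₂] [Module B' N₂] [IsScalarTower B' B N₂]
  [AddCommGroup M₁'] [Module A' M₁'] [Module B' M₁'] [IsScalarTower B' A' M₁']
  [AddCommGroup M₂'] [Module A' M₂'] [Module B' M₂'] [IsScalarTower B' A' M₂']

theorem glue_map_surjective (hsq : EtMil.IsFibreSquare B' B A' A)
    (φ₁ : A ⊗[B] N₁ ≃ₗ[A] A ⊗[A'] M₁') (φ₂ : A ⊗[B] N₂ ≃ₗ[A] A ⊗[A'] M₂')
    (u : N₁ →ₗ[B] N₂) (v : M₁' →ₗ[A'] M₂')
    (hc : (v.baseChange A).comp φ₁.toLinearMap = φ₂.toLinearMap.comp (u.baseChange A))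
    (hu : Function.Surjective u) (hv : Function.Surjective v) :
    ∀ y : N₂ × M₂', y ∈ EtMil.glue B' φ₂ →
      ∃ x : N₁ × M₁', x ∈ EtMil.glue B' φ₁ ∧ u x.1 = y.1 ∧ v x.2 = y.2 := by
  rintro ⟨n₂, m₂⟩ hy
  obtain ⟨n₁, rfl⟩ := hu n₂
  obtain ⟨m₁, hm₁⟩ := exists_snd (B' := B') φ₁ hsq n₁
  have e1 : φ₁ ((1 : A) ⊗ₜ[B] n₁) = (1 : A) ⊗ₜ[A'] m₁ := hm₁
  have e2 : φ₂ ((1 : A) ⊗ₜ[B] u n₁) = (1 : A) ⊗ₜ[A'] m₂ := hy
  have e3 : ((1 : A) ⊗ₜ[A'] v m₁ : A ⊗[A'] M₂') = (1 : A) ⊗ₜ[A'] m₂ := by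
    have := LinearMap.congr_fun hc ((1 : A) ⊗ₜ[B] n₁)
    simp only [LinearMap.comp_apply, LinearEquiv.coe_coe, LinearMap.baseChange_tmul] at this
    rw [e1, LinearMap.baseChange_tmul, e2] at this
    exact this
  have hd : v m₁ - m₂ ∈ (RingHom.ker (algebraMap A' A)) • (⊤ : Submodule A' M₂') := by
    rw [← tmul_eq_zero_iff hsq.1, TensorProduct.tmul_sub, e3, sub_self]
  have hmap : ((RingHom.ker (algebraMap A' A)) • (⊤ : Submodule A' M₁')).map v =
      (RingHom.ker (algebraMap A' A)) • (⊤ : Submodule A' M₂') := by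
    rw [Submodule.map_smul'', Submodule.map_top, LinearMap.range_eq_top.2 hv]
  rw [← hmap] at hd
  obtain ⟨d, hd1, hd2⟩ := hd
  refine ⟨(n₁, m₁ - d), ?_, rfl, ?_⟩
  · show φ₁ ((1 : A) ⊗ₜ[B] n₁) = (1 : A) ⊗ₜ[A'] (m₁ - d)
    rw [TensorProduct.tmul_sub, (tmul_eq_zero_iff hsq.1 d).2 hd1, sub_zero, e1]
  · show v (m₁ - d) = m₂
    rw [map_sub, hd2]
    abel

end maps

end Groth.Agent.Lib.Milnor
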