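import Mathlib
import Groth.Prelude.Def_EtMil
import Groth.Agent.Lib.Milnor2_helper6
import Groth.Agent.S14953

/-!
# Milnor squares, part 3: projectivity of glued modules (helper6)

* `redB`, `redA`: reduction of coordinate vectors to `A`.
* `X n`: the free `B'`-module of compatible pairs of vectors.
* `glue_projective`.
-/

namespace Groth.Agent.Lib.Milnor

open TensorProduct

universe u

section free

variable (B' B A' A : Type u) [CommRing B'] [CommRing B] [CommRing A'] [CommRing A]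
  [Algebra B' B] [Algebra B' A'] [Algebra B A] [Algebra A' A] [Algebra B' A]
  [IsScalarTower B' B A] [IsScalarTower B' A' A]

/-- reduction `B^n → A^n` -/
noncomputable def redB (n : ℕ) : (Fin n → B) →ₗ[B] (Fin n → A) :=
  LinearMap.compLeft (Algebra.linearMap B A) (Fin n)

/-- reduction `A'^n → A^n` -/
noncomputable def redA (n : ℕ) : (Fin n → A') →ₗ[A'] (Fin n → A) :=
  LinearMap.compLeft (Algebra.linearMap A' A) (Fin n)

variable {B' B A' A}

@[simp] theorem redB_apply (n : ℕ) (x : Fin n → B) (k : Fin n) :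
    redB B A n x k = algebraMap B A (x k) := rfl

@[simp] theorem redA_apply (n : ℕ) (y : Fin n → A') (k : Fin n) :
    redA A' A n y k = algebraMap A' A (y k) := rfl

theorem redA_surjective (hs : Function.Surjective (algebraMap A' A)) (n : ℕ) :
    Function.Surjective (redA A' A n) := by
  intro z
  choose y hy using fun k => hs (z k)
  exact ⟨y, funext fun k => hy k⟩

variable (B' B A' A)

/-- compatible pairs of vectors -/
def X (n : ℕ) : Submodule B' ((Fin n → B) × (Fin n → A')) where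
  carrier := {w | redB B A n w.1 = redA A' A n w.2}
  zero_mem' := by simp
  add_mem' {a b} ha hb := by
    simp only [Set.mem_setOf_eq, Prod.fst_add, Prod.snd_add, map_add] at *
    rw [ha, hb]
  smul_mem' c w hw := by
    simp only [Set.mem_setOf_eq, Prod.smul_fst, Prod.smul_snd] at *
    funext k
    have := congrFun hw k
    simp only [redB_apply, redA_apply, Pi.smul_apply] at this ⊢
    rw [Algebra.smul_def, Algebra.smul_def, map_mul, map_mul, this,
      compat (B := B) (A' := A') (A := A) c]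

variable {B' B A' A}

theorem mem_X (n : ℕ) (w : (Fin n → B) × (Fin n → A')) :
    w ∈ X B' B A' A n ↔ redB B A n w.1 = redA A' A n w.2 := Iff.rfl

/-- `B'^n → X n` -/
noncomputable def toX (n : ℕ) : (Fin n → B') →ₗ[B'] X B' B A' A n where
  toFun z := ⟨(fun k => algebraMap B' B (z k), fun k => algebraMap B' A' (z k)), by
    rw [mem_X]
    funext k
    simp only [redB_apply, redA_apply]
    exact compat (z k)⟩
  map_add' a b := by
    apply Subtype.ext
    ext k <;> simp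
  map_smul' c a := by
    apply Subtype.ext
    ext k <;> simp [Algebra.smul_def]

theorem toX_bijective (hsq : EtMil.IsFibreSquare B' B A' A) (n : ℕ) :
    Function.Bijective (toX (B' := B') (B := B) (A' := A') (A := A) n) := by
  constructor
  · intro a b hab
    funext k
    have h1 := congrArg (fun w : X B' B A' A n => (w : (Fin n → B) × (Fin n → A')).1 k) hab
    have h2 := congrArg (fun w : X B' B A' A n => (w : (Fin n → B) × (Fin n → A')).2 k) hab
    exact pair_ext hsq _ _ h1 h2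
  · rintro ⟨⟨x, y⟩, hw⟩
    rw [mem_X] at hw
    have hk : ∀ k, ∃ c : B', algebraMap B' B c = x k ∧ algebraMap B' A' c = y k := by
      intro k
      have := congrFun hw k
      simp only [redB_apply, redA_apply] at this
      exact exists_pair hsq _ _ this
    choose z hz using hk
    refine ⟨z, Subtype.ext ?_⟩
    ext k
    · exact (hz k).1
    · exact (hz k).2

theorem projective_X (hsq : EtMil.IsFibreSquare B' B A' A) (n : ℕ) :
    Module.Projective B' (X B' B A' A n) :=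
  Module.Projective.of_equiv (LinearEquiv.ofBijective (toX n) (toX_bijective hsq n))

end free

section proj

variable {B' B A' A : Type u} [CommRing B'] [CommRing B] [CommRing A'] [CommRing A]
  [Algebra B' B] [Algebra B' A'] [Algebra B A] [Algebra A' A] [Algebra B' A]
  [IsScalarTower B' B A] [IsScalarTower B' A' A]
variable {N M' : Type u} [AddCommGroup N] [Module B N] [Module B' N] [IsScalarTower B' B N]
  [AddCommGroup M'] [Module A' M'] [Module B' M'] [IsScalarTower B' A' M']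
  (φ : A ⊗[B] N ≃ₗ[A] A ⊗[A'] M')

/-- an `A'`-linear map into an `A`-module kills elements `d` with `1 ⊗ d = 0`. -/
theorem apply_eq_zero_of_tmul_eq_zero {Y : Type*} [AddCommGroup Y] [Module A Y] [Module A' Y]
    [IsScalarTower A' A Y] (g : M' →ₗ[A'] Y) (d : M') (hd : ((1 : A) ⊗ₜ[A'] d : A ⊗[A'] M') = 0) :
    g d = 0 := by
  have := LinearMap.liftBaseChange_tmul A g (1 : A) d
  rw [hd, map_zero, one_smul] at this
  exact this.symm

/-- the key data for the retraction onto the glued module -/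
theorem exists_retract_data (hsq : EtMil.IsFibreSquare B' B A' A)
    [Module.Finite B N] [Module.Projective B N] [Module.Finite A' M'] [Module.Projective A' M'] :
    ∃ (r s : ℕ) (u₀ : N →ₗ[B] (Fin r → B)) (p₀ : (Fin r → B) →ₗ[B] N)
      (Y₁ : M' →ₗ[A'] (Fin r → A')) (Y₂ : M' →ₗ[A'] (Fin s → A'))
      (Z : (Fin r → A') × (Fin s → A') →ₗ[A'] M'),
      (∀ n, p₀ (u₀ n) = n) ∧
      (∀ n m', (n, m') ∈ EtMil.glue B' φ →
        redA A' A r (Y₁ m') = redB B A r (u₀ n) ∧ redA A' A s (Y₂ m') = 0) ∧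
      (∀ x₁ y₁ y₂, redB B A r x₁ = redA A' A r y₁ →
        φ ((1 : A) ⊗ₜ[B] p₀ x₁) = (1 : A) ⊗ₜ[A'] Z (y₁, y₂)) ∧
      (∀ m', Z (Y₁ m', Y₂ m') = m') := by
  obtain ⟨r, p₀, u₀, -, -, hpu⟩ := Module.Finite.exists_comp_eq_id_of_projective B N
  obtain ⟨s, q₀, v₀, -, -, hqv⟩ := Module.Finite.exists_comp_eq_id_of_projective A' M'
  have hpu' : ∀ n, p₀ (u₀ n) = n := fun n => LinearMap.congr_fun hpu n
  have hqv' : ∀ m', q₀ (v₀ m') = m' := fun m' => LinearMap.congr_fun hqv m'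
  obtain ⟨ubar, hubar⟩ : ∃ ubar : A ⊗[B] N →ₗ[A] (Fin r → A), ubar =
      (TensorProduct.piScalarRight B A A (Fin r)).toLinearMap ∘ₗ (u₀.baseChange A) := ⟨_, rfl⟩
  obtain ⟨pbar, hpbar⟩ : ∃ pbar : (Fin r → A) →ₗ[A] A ⊗[B] N, pbar =
      (p₀.baseChange A) ∘ₗ (TensorProduct.piScalarRight B A A (Fin r)).symm.toLinearMap := ⟨_, rfl⟩
  have hpubar : ∀ z, pbar (ubar z) = z := by
    intro z
    rw [hpbar, hubar]
    simp only [LinearMap.comp_apply, LinearEquiv.coe_coe, LinearEquiv.symm_apply_apply]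
    rw [← LinearMap.comp_apply, ← LinearMap.baseChange_comp, hpu, LinearMap.baseChange_id]
    rfl
  have hsc : ∀ x : Fin r → B, (TensorProduct.piScalarRight B A A (Fin r)) ((1 : A) ⊗ₜ[B] x) =
      redB B A r x := by
    intro x
    rw [TensorProduct.piScalarRight_apply, TensorProduct.piScalarRightHom_tmul]
    funext k
    simp [Algebra.smul_def]
  have hubar1 : ∀ n : N, ubar ((1 : A) ⊗ₜ[B] n) = redB B A r (u₀ n) := by
    intro n
    rw [hubar]
    simp only [LinearMap.comp_apply, LinearMap.baseChange_tmul, LinearEquiv.coe_coe]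
    exact hsc _
  have hpbar1 : ∀ x : Fin r → B, pbar (redB B A r x) = (1 : A) ⊗ₜ[B] p₀ x := by
    intro x
    rw [hpbar]
    simp only [LinearMap.comp_apply, LinearEquiv.coe_coe]
    rw [← hsc x, LinearEquiv.symm_apply_apply, LinearMap.baseChange_tmul]
  have hmk : Function.Surjective (TensorProduct.mk A' A M' 1) :=
    TensorProduct.mk_surjective A' M' A hsq.1
  obtain ⟨μ, hμ⟩ := Module.projective_lifting_property (TensorProduct.mk A' A M' 1)
    (((φ.toLinearMap ∘ₗ pbar).restrictScalars A') ∘ₗ redA A' A r) hmk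
  have hμ' : ∀ y, (1 : A) ⊗ₜ[A'] μ y = φ (pbar (redA A' A r y)) :=
    fun y => LinearMap.congr_fun hμ y
  obtain ⟨ν, hν⟩ : ∃ ν : M' →ₗ[A'] (Fin r → A),
      ∀ m', ν m' = ubar (φ.symm ((1 : A) ⊗ₜ[A'] m')) :=
    ⟨(LinearMap.liftBaseChangeEquiv A).symm (ubar ∘ₗ φ.symm.toLinearMap), fun m' => rfl⟩
  obtain ⟨β, hβ⟩ := Module.projective_lifting_property (redA A' A r) (ν ∘ₗ q₀)
    (redA_surjective hsq.1 r)
  have hβ' : ∀ y, redA A' A r (β y) = ν (q₀ y) := fun y => LinearMap.congr_fun hβ y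
  refine ⟨r, s, u₀, p₀, β ∘ₗ v₀ + β ∘ₗ (v₀ - v₀ ∘ₗ μ ∘ₗ β ∘ₗ v₀), v₀ - v₀ ∘ₗ μ ∘ₗ β ∘ₗ v₀,
    q₀ ∘ₗ (LinearMap.snd A' _ _ + v₀ ∘ₗ μ ∘ₗ (LinearMap.fst A' _ _ - β ∘ₗ LinearMap.snd A' _ _)),
    hpu', ?_, ?_, ?_⟩
  · intro n m' hnm
    have hg : φ ((1 : A) ⊗ₜ[B] n) = (1 : A) ⊗ₜ[A'] m' := hnm
    have hg' : φ.symm ((1 : A) ⊗ₜ[A'] m') = (1 : A) ⊗ₜ[B] n := by
      rw [← hg, LinearEquiv.symm_apply_apply]
    have h1 : redA A' A r (β (v₀ m')) = redB B A r (u₀ n) := by
      rw [hβ', hqv', hν, hg', hubar1]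
    have h2 : (1 : A) ⊗ₜ[A'] μ (β (v₀ m')) = (1 : A) ⊗ₜ[A'] m' := by
      rw [hμ', h1, hpbar1, hpu', hg]
    have h3 : ((1 : A) ⊗ₜ[A'] (m' - μ (β (v₀ m'))) : A ⊗[A'] M') = 0 := by
      rw [TensorProduct.tmul_sub, h2, sub_self]
    have h4 : redA A' A s (v₀ (m' - μ (β (v₀ m')))) = 0 :=
      apply_eq_zero_of_tmul_eq_zero (A := A) (redA A' A s ∘ₗ v₀) _ h3
    have h5 : redA A' A r (β (v₀ (m' - μ (β (v₀ m'))))) = 0 := by
      rw [hβ', hqv', hν, h3, map_zero, map_zero]
    have e2 : (v₀ - v₀ ∘ₗ μ ∘ₗ β ∘ₗ v₀) m' = v₀ (m' - μ (β (v₀ m'))) := by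
      simp [map_sub]
    constructor
    · rw [LinearMap.add_apply, LinearMap.comp_apply, LinearMap.comp_apply, e2, map_add, h1, h5,
        add_zero]
    · rw [e2, h4]
  · intro x₁ y₁ y₂ hxy
    have e1 : (1 : A) ⊗ₜ[A'] μ y₁ = φ ((1 : A) ⊗ₜ[B] p₀ x₁) := by
      rw [hμ', ← hxy, hpbar1]
    have e2 : (1 : A) ⊗ₜ[A'] μ (β y₂) = (1 : A) ⊗ₜ[A'] q₀ y₂ := by
      rw [hμ', hβ', hν, hpubar, LinearEquiv.apply_symm_apply]
    have e3 : (q₀ ∘ₗ (LinearMap.snd A' _ _ + v₀ ∘ₗ μ ∘ₗ
        (LinearMap.fst A' _ _ - β ∘ₗ LinearMap.snd A' _ _))) (y₁, y₂) =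
        q₀ y₂ + (μ y₁ - μ (β y₂)) := by
      simp [map_add, map_sub, hqv']
    rw [e3, TensorProduct.tmul_add, TensorProduct.tmul_sub, e1, e2]
    abel
  · intro m'
    simp only [LinearMap.comp_apply, LinearMap.add_apply, LinearMap.sub_apply, LinearMap.snd_apply,
      LinearMap.fst_apply, map_add, map_sub, hqv']
    abel

theorem glue_projective (hsq : EtMil.IsFibreSquare B' B A' A)
    [Module.Finite B N] [Module.Projective B N] [Module.Finite A' M'] [Module.Projective A' M'] :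
    Module.Projective B' (EtMil.glue B' φ) := by
  obtain ⟨r, s, u₀, p₀, Y₁, Y₂, Z, hpu, hC1, hC2, hC3⟩ := exists_retract_data φ hsq
  haveI := projective_X hsq r
  haveI := projective_X hsq s
  have hmem : ∀ g : EtMil.glue B' φ, ((g : N × M').1, (g : N × M').2) ∈ EtMil.glue B' φ :=
    fun g => g.2
  obtain ⟨ι₁, hι₁⟩ : ∃ ι₁ : EtMil.glue B' φ →ₗ[B'] X B' B A' A r,
      ∀ g, (ι₁ g : (Fin r → B) × (Fin r → A')) = (u₀ (g : N × M').1, Y₁ (g : N × M').2) := by
    refine ⟨LinearMap.codRestrict (X B' B A' A r)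
      ((LinearMap.prodMap (u₀.restrictScalars B') (Y₁.restrictScalars B')) ∘ₗ
        (EtMil.glue B' φ).subtype) (fun g => ?_), fun g => rfl⟩
    rw [mem_X]
    exact ((hC1 _ _ (hmem g)).1).symm
  obtain ⟨ι₂, hι₂⟩ : ∃ ι₂ : EtMil.glue B' φ →ₗ[B'] X B' B A' A s,
      ∀ g, (ι₂ g : (Fin s → B) × (Fin s → A')) = (0, Y₂ (g : N × M').2) := by
    refine ⟨LinearMap.codRestrict (X B' B A' A s)
      ((LinearMap.prod 0 ((Y₂.restrictScalars B') ∘ₗ LinearMap.snd B' N M')) ∘ₗ
        (EtMil.glue B' φ).subtype) (fun g => ?_), fun g => rfl⟩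
    rw [mem_X]
    show redB B A s 0 = redA A' A s (Y₂ (g : N × M').2)
    rw [(hC1 _ _ (hmem g)).2, map_zero]
  obtain ⟨ρ, hρ⟩ : ∃ ρ : (X B' B A' A r) × (X B' B A' A s) →ₗ[B'] EtMil.glue B' φ,
      ∀ t, (ρ t : N × M') = (p₀ (t.1 : (Fin r → B) × (Fin r → A')).1,
        Z ((t.1 : (Fin r → B) × (Fin r → A')).2, (t.2 : (Fin s → B) × (Fin s → A')).2)) := by
    refine ⟨LinearMap.codRestrict (EtMil.glue B' φ)
      (LinearMap.prod
        ((p₀.restrictScalars B') ∘ₗ (LinearMap.fst B' _ _) ∘ₗ (X B' B A' A r).subtype ∘ₗ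
          (LinearMap.fst B' _ _))
        ((Z.restrictScalars B') ∘ₗ LinearMap.prod
          ((LinearMap.snd B' _ _) ∘ₗ (X B' B A' A r).subtype ∘ₗ (LinearMap.fst B' _ _))
          ((LinearMap.snd B' _ _) ∘ₗ (X B' B A' A s).subtype ∘ₗ (LinearMap.snd B' _ _))))
      (fun t => ?_), fun t => rfl⟩
    rw [mem_glue]
    exact hC2 _ _ _ ((mem_X r _).1 t.1.2)
  refine Module.Projective.of_split (LinearMap.prod ι₁ ι₂) ρ ?_
  refine LinearMap.ext fun g => Subtype.ext ?_
  rw [LinearMap.comp_apply, hρ]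
  have e1 : ((LinearMap.prod ι₁ ι₂) g).1 = ι₁ g := rfl
  have e2 : ((LinearMap.prod ι₁ ι₂) g).2 = ι₂ g := rfl
  rw [e1, e2, hι₁, hι₂]
  simp only [LinearMap.id_apply]
  rw [hpu, hC3]

theorem glue_finite (hsq : EtMil.IsFibreSquare B' B A' A)
    [Module.Finite B N] [Module.Finite A' M'] : Module.Finite B' (EtMil.glue B' φ) := by
  haveI : Module.Finite B (B ⊗[B'] (EtMil.glue B' φ)) :=
    Module.Finite.equiv (LinearEquiv.ofBijective _ (glue_fst_bijective φ hsq)).symm
  haveI : Module.Finite A' (A' ⊗[B'] (EtMil.glue B' φ)) :=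
    Module.Finite.equiv (LinearEquiv.ofBijective _ (glue_snd_bijective φ hsq)).symm
  exact Groth.Agent.S14953.result B' B A' A hsq _

end proj

end Groth.Agent.Lib.Milnor
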