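import Mathlib
import Groth.Prelude.Def_EtMil
import Groth.Agent.Lib.Milnor3_helper6
import Groth.Agent.Lib.LocalCrit8_helper9

/-!
# Flatness over a Milnor square `B' = B ×_A A'` (`A' → A` surjective)

* `flat_of_square`: `B ⊗ L'` flat over `B` and `A' ⊗ L'` flat over `A'` ⇒ `L'` flat over `B'`.
* `glue_flat`: the glued module of flat modules is flat.
* `pair_injective`: for flat `L'`, `L' → (B ⊗ L') × (A' ⊗ L')` is injective.
* `fp_of_square`: flat + finitely presented base changes ⇒ `L'` finitely presented.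
-/

namespace Groth.Agent.Lib.MilnorFlatH4

open TensorProduct Groth.Agent.Lib

universe u

section chase

/-- If `Tor₁(N'', M) = 0` (in terms of a flat presentation `K → F → M → 0`), then
`N' ⊗ M → N ⊗ M` is injective for `0 → N' → N → N'' → 0` exact. -/
lemma rTensor_injective_of_T1 {R : Type*} [CommRing R] {K F M : Type*} [AddCommGroup K]
    [Module R K] [AddCommGroup F] [Module R F] [AddCommGroup M] [Module R M] [Module.Flat R F]
    (f : K →ₗ[R] F) (g : F →ₗ[R] M) (hfg : Function.Exact f g) (hg : Function.Surjective g)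
    {N' N N'' : Type*} [AddCommGroup N'] [Module R N'] [AddCommGroup N] [Module R N]
    [AddCommGroup N''] [Module R N'']
    (i : N' →ₗ[R] N) (p : N →ₗ[R] N'') (hi : Function.Injective i)
    (hip : Function.Exact i p) (hp : Function.Surjective p)
    (h'' : Function.Injective (f.lTensor N'')) : Function.Injective (i.rTensor M) := by
  rw [injective_iff_map_eq_zero]
  intro x hx
  obtain ⟨y, rfl⟩ := LinearMap.lTensor_surjective N' hg x
  have h1 : g.lTensor N (i.rTensor F y) = 0 := (LocalCrit2.sq F i g y).symm.trans hx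
  obtain ⟨z, hz⟩ := (lTensor_exact N hfg hg _).mp h1
  have h2 : f.lTensor N'' (p.rTensor K z) = 0 := by
    rw [← LocalCrit2.sq K p f z, hz]
    exact (rTensor_exact F hip hp).apply_apply_eq_zero y
  have h3 : p.rTensor K z = 0 := h'' (h2.trans (map_zero _).symm)
  obtain ⟨z', rfl⟩ := (rTensor_exact K hip hp _).mp h3
  have h4 : i.rTensor F (f.lTensor N' z') = i.rTensor F y := by
    rw [LocalCrit2.sq K i f z']; exact hz
  have h5 : f.lTensor N' z' = y :=
    Module.Flat.rTensor_preserves_injective_linearMap (M := F) i hi h4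
  rw [← h5]
  exact (lTensor_exact N' hfg hg).apply_apply_eq_zero z'

theorem flat_quot_ker {R S : Type u} [CommRing R] [CommRing S] [Algebra R S]
    (hs : Function.Surjective (algebraMap R S)) (M : Type u) [AddCommGroup M] [Module R M]
    [Module.Flat S (S ⊗[R] M)] :
    Module.Flat (R ⧸ RingHom.ker (algebraMap R S))
      ((R ⧸ RingHom.ker (algebraMap R S)) ⊗[R] M) := by
  let e : (R ⧸ RingHom.ker (algebraMap R S)) ≃+* S := RingHom.quotientKerEquivOfSurjective hs
  letI : Algebra S (R ⧸ RingHom.ker (algebraMap R S)) := e.symm.toRingHom.toAlgebra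
  haveI : IsScalarTower R S (R ⧸ RingHom.ker (algebraMap R S)) :=
    IsScalarTower.of_algebraMap_eq (fun x => by
      show Ideal.Quotient.mk _ x = e.symm (algebraMap R S x)
      rw [RingEquiv.eq_symm_apply]
      rfl)
  exact LocalCrit8.flat_baseChange_of_algebra R S _ M

end chase

section square

variable {B' B A' A : Type u} [CommRing B'] [CommRing B] [CommRing A'] [CommRing A]
  [Algebra B' B] [Algebra B' A'] [Algebra B A] [Algebra A' A] [Algebra B' A]
  [IsScalarTower B' B A] [IsScalarTower B' A' A]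

theorem map_A_eq_zero (i : B') (hi : algebraMap B' B i = 0) :
    algebraMap A' A (algebraMap B' A' i) = 0 := by
  rw [← IsScalarTower.algebraMap_apply B' A' A, IsScalarTower.algebraMap_apply B' B A, hi,
    map_zero]

/-- Ideals of `B'` inside `ker (B' → B)` corresponding to ideals of `A'`. -/
theorem rTensor_injective_of_corr (hsq : EtMil.IsFibreSquare B' B A' A)
    (L' : Type u) [AddCommGroup L'] [Module B' L'] [Module.Flat A' (A' ⊗[B'] L')]
    (K : Ideal B') (𝔞 : Ideal A')
    (h1 : K ≤ RingHom.ker (algebraMap B' B))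
    (h2 : ∀ k ∈ K, algebraMap B' A' k ∈ 𝔞)
    (h3 : ∀ a ∈ 𝔞, ∃ k ∈ K, algebraMap B' A' k = a) :
    Function.Injective (K.subtype.rTensor L') := by
  let θ : K →ₗ[B'] 𝔞 :=
    { toFun := fun k => ⟨algebraMap B' A' k, h2 k k.2⟩
      map_add' := fun a b => Subtype.ext (by simp)
      map_smul' := fun r a => Subtype.ext (by simp [Algebra.smul_def]) }
  have hθ : Function.Bijective θ := by
    constructor
    · intro k k' hkk'
      have h : algebraMap B' A' k = algebraMap B' A' k' := congrArg Subtype.val hkk'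
      apply Subtype.ext
      refine Milnor.pair_ext hsq _ _ ?_ h
      rw [RingHom.mem_ker.mp (h1 k.2), RingHom.mem_ker.mp (h1 k'.2)]
    · rintro ⟨a, ha⟩
      obtain ⟨k, hk, rfl⟩ := h3 a ha
      exact ⟨⟨k, hk⟩, rfl⟩
  obtain ⟨e, he⟩ : ∃ e : K ≃ₗ[B'] 𝔞, e = LinearEquiv.ofBijective θ hθ := ⟨_, rfl⟩
  have hcomp : (𝔞.subtype.restrictScalars B') ∘ₗ e.toLinearMap =
      (Algebra.linearMap B' A') ∘ₗ K.subtype := by
    rw [he]; exact LinearMap.ext fun k => rfl
  have heinj : Function.Injective (e.toLinearMap.rTensor L') := by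
    have hli : ∀ x, (e.symm.toLinearMap.rTensor L') (e.toLinearMap.rTensor L' x) = x := by
      intro x
      rw [← LinearMap.comp_apply, ← LinearMap.rTensor_comp]
      have : e.symm.toLinearMap ∘ₗ e.toLinearMap = LinearMap.id := by
        ext; simp
      rw [this, LinearMap.rTensor_id, LinearMap.id_apply]
    exact Function.LeftInverse.injective hli
  have h𝔞 : Function.Injective ((𝔞.subtype.restrictScalars B').rTensor L') :=
    LocalCrit2.rTensor_subtype_injective A' 𝔞 L'
  have h4 : Function.Injective (((Algebra.linearMap B' A') ∘ₗ K.subtype).rTensor L') := by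
    rw [← hcomp, LinearMap.rTensor_comp, LinearMap.coe_comp]
    exact h𝔞.comp heinj
  rw [LinearMap.rTensor_comp, LinearMap.coe_comp] at h4
  exact Function.Injective.of_comp h4

theorem rTensor_ker_injective (hsq : EtMil.IsFibreSquare B' B A' A)
    (L' : Type u) [AddCommGroup L'] [Module B' L'] [Module.Flat A' (A' ⊗[B'] L')] :
    Function.Injective ((RingHom.ker (algebraMap B' B)).subtype.rTensor L') := by
  refine rTensor_injective_of_corr hsq L' _ (RingHom.ker (algebraMap A' A)) le_rfl ?_ ?_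
  · intro k hk
    exact RingHom.mem_ker.mpr (map_A_eq_zero k (RingHom.mem_ker.mp hk))
  · intro a ha
    obtain ⟨j, hj1, hj2⟩ := Milnor.exists_lift_ker hsq a (RingHom.mem_ker.mp ha)
    exact ⟨j, RingHom.mem_ker.mpr hj1, hj2⟩

theorem rTensor_injective_of_le_ker (hsq : EtMil.IsFibreSquare B' B A' A)
    (L' : Type u) [AddCommGroup L'] [Module B' L'] [Module.Flat B (B ⊗[B'] L')]
    [Module.Flat A' (A' ⊗[B'] L')]
    (J : Ideal B') (hJ : J ≤ RingHom.ker (algebraMap B' B)) :
    Function.Injective (J.subtype.rTensor L') := by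
  haveI : Module.Flat (B' ⧸ RingHom.ker (algebraMap B' B))
      ((B' ⧸ RingHom.ker (algebraMap B' B)) ⊗[B'] L') :=
    flat_quot_ker (Milnor.surj_B hsq) L'
  have htor := rTensor_ker_injective hsq L'
  obtain ⟨𝔞, h𝔞⟩ : ∃ 𝔞 : Ideal A', 𝔞 = J.map (algebraMap B' A') := ⟨_, rfl⟩
  obtain ⟨Jh, hJh⟩ : ∃ Jh : Ideal B',
      Jh = 𝔞.comap (algebraMap B' A') ⊓ RingHom.ker (algebraMap B' B) := ⟨_, rfl⟩
  have hJh_le : Jh ≤ RingHom.ker (algebraMap B' B) := by rw [hJh]; exact inf_le_right
  have h𝔞I : ∀ a ∈ 𝔞, algebraMap A' A a = 0 := by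
    intro a ha
    rw [h𝔞] at ha
    have hle : J.map (algebraMap B' A') ≤ RingHom.ker (algebraMap A' A) := by
      rw [Ideal.map_le_iff_le_comap]
      intro j hj
      rw [Ideal.mem_comap, RingHom.mem_ker]
      exact map_A_eq_zero j (RingHom.mem_ker.mp (hJ hj))
    exact RingHom.mem_ker.mp (hle ha)
  have hJhinj : Function.Injective (Jh.subtype.rTensor L') := by
    refine rTensor_injective_of_corr hsq L' Jh 𝔞 hJh_le ?_ ?_
    · intro k hk
      rw [hJh] at hk
      exact hk.1
    · intro a ha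
      obtain ⟨j, hj1, hj2⟩ := Milnor.exists_lift_ker hsq a (h𝔞I a ha)
      refine ⟨j, ?_, hj2⟩
      rw [hJh]
      refine ⟨?_, RingHom.mem_ker.mpr hj1⟩
      show algebraMap B' A' j ∈ 𝔞
      rw [hj2]; exact ha
  have hmul : ∀ y ∈ 𝔞, ∀ i ∈ RingHom.ker (algebraMap B' B),
      ∃ j ∈ J, algebraMap B' A' j = algebraMap B' A' i * y := by
    intro y hy
    rw [h𝔞] at hy
    have hy' : y ∈ Submodule.span A' (algebraMap B' A' '' (J : Set B')) := hy
    clear hy
    induction hy' using Submodule.span_induction with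
    | mem y hy =>
      obtain ⟨j₀, hj₀, rfl⟩ := hy
      intro i _
      exact ⟨i * j₀, J.mul_mem_left _ hj₀, map_mul _ _ _⟩
    | zero => intro i _; exact ⟨0, J.zero_mem, by rw [map_zero, mul_zero]⟩
    | add y z _ _ hy hz =>
      intro i hi
      obtain ⟨j₁, hj₁, e₁⟩ := hy i hi
      obtain ⟨j₂, hj₂, e₂⟩ := hz i hi
      exact ⟨j₁ + j₂, J.add_mem hj₁ hj₂, by rw [map_add, e₁, e₂, mul_add]⟩
    | smul c y _ hy =>
      intro i hi
      have hic : algebraMap A' A (algebraMap B' A' i * c) = 0 := by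
        rw [map_mul, map_A_eq_zero i (RingHom.mem_ker.mp hi), zero_mul]
      obtain ⟨i₂, hi₂1, hi₂2⟩ := Milnor.exists_lift_ker hsq _ hic
      obtain ⟨j, hj, ej⟩ := hy i₂ (RingHom.mem_ker.mpr hi₂1)
      exact ⟨j, hj, by rw [ej, hi₂2, smul_eq_mul, mul_assoc]⟩
  have hle : J ≤ Jh := by
    intro j hj
    rw [hJh]
    refine ⟨?_, hJ hj⟩
    show algebraMap B' A' j ∈ 𝔞
    rw [h𝔞]; exact Ideal.mem_map_of_mem _ hj
  have hIJ : ∀ i ∈ RingHom.ker (algebraMap B' B), ∀ x ∈ Jh, i * x ∈ J := by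
    intro i hi x hx
    have hx1 : algebraMap B' A' x ∈ 𝔞 := by rw [hJh] at hx; exact hx.1
    obtain ⟨j, hj, ej⟩ := hmul _ hx1 i hi
    have : j = i * x := by
      refine Milnor.pair_ext hsq _ _ ?_ ?_
      · rw [RingHom.mem_ker.mp (hJ hj), map_mul, RingHom.mem_ker.mp hi, zero_mul]
      · rw [ej, map_mul]
    rw [← this]; exact hj
  obtain ⟨ι, hι⟩ : ∃ ι : J →ₗ[B'] Jh, ι = Submodule.inclusion hle := ⟨_, rfl⟩
  have hιinj : Function.Injective ι := by rw [hι]; exact Submodule.inclusion_injective hle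
  have hN : ∀ x ∈ (RingHom.ker (algebraMap B' B)) ^ 1,
      ∀ y : (Jh ⧸ LinearMap.range ι), x • y = 0 := by
    intro x hx y
    rw [pow_one] at hx
    obtain ⟨y, rfl⟩ := Submodule.mkQ_surjective _ y
    rw [← map_smul, Submodule.mkQ_apply, Submodule.Quotient.mk_eq_zero]
    refine ⟨⟨x * (y : B'), hIJ x hx y y.2⟩, ?_⟩
    rw [hι]
    exact Subtype.ext rfl
  have hT1 := LocalCrit2.T1_canonical (RingHom.ker (algebraMap B' B)) L' htor 1
    (Jh ⧸ LinearMap.range ι) hN
  have hιT : Function.Injective (ι.rTensor L') :=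
    rTensor_injective_of_T1 _ (Finsupp.linearCombination B' (id : L' → L'))
      (LinearMap.exact_subtype_ker_map _) (Finsupp.linearCombination_id_surjective B' L')
      ι (LinearMap.range ι).mkQ hιinj (LinearMap.exact_map_mkQ_range ι)
      (Submodule.mkQ_surjective _) hT1
  have hcomp : J.subtype = Jh.subtype ∘ₗ ι := by
    rw [hι]; exact LinearMap.ext fun j => rfl
  rw [hcomp, LinearMap.rTensor_comp, LinearMap.coe_comp]
  exact hJhinj.comp hιT

/-- **Flatness over a Milnor square.** -/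
theorem flat_of_square (hsq : EtMil.IsFibreSquare B' B A' A)
    (L' : Type u) [AddCommGroup L'] [Module B' L'] [Module.Flat B (B ⊗[B'] L')]
    [Module.Flat A' (A' ⊗[B'] L')] : Module.Flat B' L' := by
  rw [Module.Flat.iff_rTensor_injective']
  intro J
  rw [injective_iff_map_eq_zero]
  intro x hx
  obtain ⟨Q, hQ⟩ : ∃ Q : Ideal B, Q = J.map (algebraMap B' B) := ⟨_, rfl⟩
  let q' : J →ₗ[B'] Q :=
    { toFun := fun j => ⟨algebraMap B' B (j : B'), by
        rw [hQ]; exact Ideal.mem_map_of_mem _ j.2⟩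
      map_add' := fun a b => Subtype.ext (by simp)
      map_smul' := fun r a => Subtype.ext (by simp [Algebra.smul_def]) }
  have hq'surj : Function.Surjective q' := by
    rintro ⟨y, hy⟩
    rw [hQ, Ideal.mem_map_iff_of_surjective _ (Milnor.surj_B hsq)] at hy
    obtain ⟨j, hj, rfl⟩ := hy
    exact ⟨⟨j, hj⟩, rfl⟩
  obtain ⟨J₀, hJ₀⟩ : ∃ J₀ : Ideal B', J₀ = J ⊓ RingHom.ker (algebraMap B' B) := ⟨_, rfl⟩
  have hJ₀J : J₀ ≤ J := by rw [hJ₀]; exact inf_le_left
  obtain ⟨κ, hκ⟩ : ∃ κ : J₀ →ₗ[B'] J, κ = Submodule.inclusion hJ₀J := ⟨_, rfl⟩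
  have hexact : Function.Exact κ q' := by
    intro j
    constructor
    · intro hj
      have hj' : algebraMap B' B (j : B') = 0 := congrArg Subtype.val hj
      refine ⟨⟨(j : B'), by rw [hJ₀]; exact ⟨j.2, RingHom.mem_ker.mpr hj'⟩⟩, ?_⟩
      rw [hκ]
      exact Subtype.ext rfl
    · rintro ⟨z, rfl⟩
      have hle2 : J₀ ≤ RingHom.ker (algebraMap B' B) := by rw [hJ₀]; exact inf_le_right
      have hz : (z : B') ∈ RingHom.ker (algebraMap B' B) := hle2 z.2
      rw [hκ]
      exact Subtype.ext (RingHom.mem_ker.mp hz)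
  have hex := rTensor_exact L' hexact hq'surj
  have hinjQ : Function.Injective ((Q.subtype.restrictScalars B').rTensor L') :=
    LocalCrit2.rTensor_subtype_injective B Q L'
  have hcomp : (Q.subtype.restrictScalars B') ∘ₗ q' =
      (Algebra.linearMap B' B) ∘ₗ J.subtype := LinearMap.ext fun j => rfl
  have h1 : (Q.subtype.restrictScalars B').rTensor L' (q'.rTensor L' x) = 0 := by
    rw [← LinearMap.comp_apply, ← LinearMap.rTensor_comp, hcomp, LinearMap.rTensor_comp,
      LinearMap.comp_apply, hx, map_zero]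
  have h2 : q'.rTensor L' x = 0 := hinjQ (h1.trans (map_zero _).symm)
  obtain ⟨y, rfl⟩ := (hex x).mp h2
  have hJ₀κ : J₀.subtype = J.subtype ∘ₗ κ := by
    rw [hκ]; exact LinearMap.ext fun z => rfl
  have hJ₀inj : Function.Injective (J₀.subtype.rTensor L') :=
    rTensor_injective_of_le_ker hsq L' J₀ (by rw [hJ₀]; exact inf_le_right)
  have h3 : J₀.subtype.rTensor L' y = 0 := by
    rw [hJ₀κ, LinearMap.rTensor_comp, LinearMap.comp_apply]; exact hx
  have h4 : y = 0 := hJ₀inj (h3.trans (map_zero _).symm)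
  rw [h4, map_zero]

/-- The glued module of flat modules is flat. -/
theorem glue_flat (hsq : EtMil.IsFibreSquare B' B A' A)
    {N M' : Type u} [AddCommGroup N] [Module B N] [Module B' N] [IsScalarTower B' B N]
    [AddCommGroup M'] [Module A' M'] [Module B' M'] [IsScalarTower B' A' M']
    (φ : A ⊗[B] N ≃ₗ[A] A ⊗[A'] M') [Module.Flat B N] [Module.Flat A' M'] :
    Module.Flat B' ↥(EtMil.glue B' φ) := by
  haveI : Module.Flat B (B ⊗[B'] (EtMil.glue B' φ)) :=
    Module.Flat.of_linearEquiv (LinearEquiv.ofBijective _ (Milnor.glue_fst_bijective φ hsq))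
  haveI : Module.Flat A' (A' ⊗[B'] (EtMil.glue B' φ)) :=
    Module.Flat.of_linearEquiv (LinearEquiv.ofBijective _ (Milnor.glue_snd_bijective φ hsq))
  exact flat_of_square hsq _

/-- For flat `L'`, the map `L' → (B ⊗ L') × (A' ⊗ L')` is injective. -/
theorem pair_injective (hsq : EtMil.IsFibreSquare B' B A' A)
    (L' : Type u) [AddCommGroup L'] [Module B' L'] [Module.Flat B' L'] (l : L')
    (h1 : ((1 : B) ⊗ₜ[B'] l : B ⊗[B'] L') = 0) (h2 : ((1 : A') ⊗ₜ[B'] l : A' ⊗[B'] L') = 0) :
    l = 0 := by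
  rw [Milnor.tmul_eq_zero_iff (Milnor.surj_B hsq)] at h1
  have key : ∀ m ∈ (RingHom.ker (algebraMap B' B)) • (⊤ : Submodule B' L'),
      ∃ ξ : (RingHom.ker (algebraMap B' B)) ⊗[B'] L',
        TensorProduct.lid B' L' ((RingHom.ker (algebraMap B' B)).subtype.rTensor L' ξ) = m := by
    intro m hm
    refine Submodule.smul_induction_on hm ?_ ?_
    · intro i hi n _
      exact ⟨(⟨i, hi⟩ : RingHom.ker (algebraMap B' B)) ⊗ₜ[B'] n, by simp⟩
    · rintro x y ⟨ξ, rfl⟩ ⟨η, rfl⟩
      exact ⟨ξ + η, by simp⟩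
  obtain ⟨ξ, rfl⟩ := key l h1
  have hι : Function.Injective
      ((Algebra.linearMap B' A') ∘ₗ (RingHom.ker (algebraMap B' B)).subtype) := by
    intro a b hab
    apply Subtype.ext
    refine Milnor.pair_ext hsq _ _ ?_ hab
    rw [RingHom.mem_ker.mp a.2, RingHom.mem_ker.mp b.2]
  have hιT := Module.Flat.rTensor_preserves_injective_linearMap (M := L') _ hι
  have hz : ∀ z : B' ⊗[B'] L', (Algebra.linearMap B' A').rTensor L' z =
      (1 : A') ⊗ₜ[B'] (TensorProduct.lid B' L' z) := by
    intro z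
    induction z using TensorProduct.induction_on with
    | zero => simp
    | tmul b n =>
      rw [LinearMap.rTensor_tmul, TensorProduct.lid_tmul, Algebra.linearMap_apply,
        Algebra.algebraMap_eq_smul_one, TensorProduct.smul_tmul]
    | add z w hz hw => rw [map_add, map_add, hz, hw, TensorProduct.tmul_add]
  have h3 : ((Algebra.linearMap B' A') ∘ₗ
      (RingHom.ker (algebraMap B' B)).subtype).rTensor L' ξ = 0 := by
    rw [LinearMap.rTensor_comp, LinearMap.comp_apply, hz]
    exact h2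
  have hξ : ξ = 0 := hιT (h3.trans (map_zero _).symm)
  rw [hξ, map_zero, map_zero]

/-- Flat and finitely presented base changes ⇒ finitely presented. -/
theorem fp_of_square (hsq : EtMil.IsFibreSquare B' B A' A)
    (L' : Type u) [AddCommGroup L'] [Module B' L']
    [Module.Flat B (B ⊗[B'] L')] [Module.FinitePresentation B (B ⊗[B'] L')]
    [Module.Flat A' (A' ⊗[B'] L')] [Module.FinitePresentation A' (A' ⊗[B'] L')] :
    Module.FinitePresentation B' L' := by
  haveI : Module.Flat B' L' := flat_of_square hsq L'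
  haveI : Module.Projective B (B ⊗[B'] L') := Module.Flat.projective_of_finitePresentation
  haveI : Module.Projective A' (A' ⊗[B'] L') := Module.Flat.projective_of_finitePresentation
  obtain ⟨e₁, he₁d⟩ : ∃ e₁ : A ⊗[B] (B ⊗[B'] L') ≃ₗ[A] A ⊗[B'] L',
      e₁ = AlgebraTensorModule.cancelBaseChange B' B A A L' := ⟨_, rfl⟩
  obtain ⟨e₂, he₂d⟩ : ∃ e₂ : A ⊗[A'] (A' ⊗[B'] L') ≃ₗ[A] A ⊗[B'] L',
      e₂ = AlgebraTensorModule.cancelBaseChange B' A' A A L' := ⟨_, rfl⟩
  have he₁ : ∀ x : B ⊗[B'] L', e₁ ((1 : A) ⊗ₜ[B] x) =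
      (IsScalarTower.toAlgHom B' B A).toLinearMap.rTensor L' x := by
    intro x
    induction x using TensorProduct.induction_on with
    | zero => simp
    | tmul b l =>
      rw [he₁d, AlgebraTensorModule.cancelBaseChange_tmul, LinearMap.rTensor_tmul,
        Algebra.smul_def, mul_one]
      rfl
    | add x y hx hy => rw [TensorProduct.tmul_add, map_add, map_add, hx, hy]
  have he₂ : ∀ y : A' ⊗[B'] L', e₂ ((1 : A) ⊗ₜ[A'] y) =
      (IsScalarTower.toAlgHom B' A' A).toLinearMap.rTensor L' y := by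
    intro y
    induction y using TensorProduct.induction_on with
    | zero => simp
    | tmul b l =>
      rw [he₂d, AlgebraTensorModule.cancelBaseChange_tmul, LinearMap.rTensor_tmul,
        Algebra.smul_def, mul_one]
      rfl
    | add x y hx hy => rw [TensorProduct.tmul_add, map_add, map_add, hx, hy]
  obtain ⟨φ, hφ⟩ : ∃ φ : A ⊗[B] (B ⊗[B'] L') ≃ₗ[A] A ⊗[A'] (A' ⊗[B'] L'),
      φ = e₁ ≪≫ₗ e₂.symm := ⟨_, rfl⟩
  have hglue : ∀ (x : B ⊗[B'] L') (y : A' ⊗[B'] L'), (x, y) ∈ EtMil.glue B' φ ↔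
      (IsScalarTower.toAlgHom B' B A).toLinearMap.rTensor L' x =
        (IsScalarTower.toAlgHom B' A' A).toLinearMap.rTensor L' y := by
    intro x y
    rw [Milnor.mem_glue, hφ, LinearEquiv.trans_apply, LinearEquiv.symm_apply_eq, he₁, he₂]
  have hmemΓ : ∀ l : L', (((1 : B) ⊗ₜ[B'] l : B ⊗[B'] L'),
      ((1 : A') ⊗ₜ[B'] l : A' ⊗[B'] L')) ∈ EtMil.glue B' φ := by
    intro l
    rw [hglue, LinearMap.rTensor_tmul, LinearMap.rTensor_tmul]
    simp
  let Γ : L' →ₗ[B'] EtMil.glue B' φ :=
    { toFun := fun l => ⟨_, hmemΓ l⟩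
      map_add' := fun a b => Subtype.ext (by simp [TensorProduct.tmul_add])
      map_smul' := fun r a => Subtype.ext (by simp [TensorProduct.tmul_smul]) }
  have hΓ : Function.Bijective Γ := by
    constructor
    · rw [injective_iff_map_eq_zero]
      intro l hl
      have hl' : (((1 : B) ⊗ₜ[B'] l : B ⊗[B'] L'), ((1 : A') ⊗ₜ[B'] l : A' ⊗[B'] L')) = 0 :=
        congrArg Subtype.val hl
      exact pair_injective hsq L' l (congrArg Prod.fst hl') (congrArg Prod.snd hl')
    · rintro ⟨⟨x, y⟩, hxy⟩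
      obtain ⟨l, hl1, hl2⟩ := Milnor.exists_of_compatible hsq L' x y ((hglue x y).mp hxy)
      exact ⟨l, Subtype.ext (Prod.ext hl1 hl2)⟩
  obtain ⟨E, -⟩ : ∃ E : L' ≃ₗ[B'] EtMil.glue B' φ, E = LinearEquiv.ofBijective Γ hΓ :=
    ⟨_, rfl⟩
  haveI : Module.Projective B' (EtMil.glue B' φ) := Milnor.glue_projective φ hsq
  haveI : Module.Finite B' (EtMil.glue B' φ) := Milnor.glue_finite φ hsq
  haveI : Module.Projective B' L' := Module.Projective.of_equiv' E.symm
  haveI : Module.Finite B' L' := Module.Finite.equiv E.symm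
  exact Module.finitePresentation_of_projective B' L'

end square

end Groth.Agent.Lib.MilnorFlatH4
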