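import Mathlib
import Groth.Prelude.Def_EtMil
import Groth.Agent.Lib.MilnorAlgPO_helper5
import Groth.Agent.Lib.MilnorFlat_helper4
import Groth.Agent.Lib.MilnorAlgFP_helper5
import Groth.Agent.Lib.MilnorAlgSm_helper5

/-!
# Properties of algebras over a Milnor square (helper5)
-/

set_option autoImplicit false
universe u

namespace Groth.Agent.MilnorAlg

open TensorProduct

section Main

variable {B' B A' A : Type u} [CommRing B'] [CommRing B] [CommRing A'] [CommRing A]
  [Algebra B' B] [Algebra B' A'] [Algebra B A] [Algebra A' A] [Algebra B' A]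
  [IsScalarTower B' B A] [IsScalarTower B' A' A]
  (hsq : EtMil.IsFibreSquare B' B A' A)
  {D' D C' C : Type u} [CommRing D'] [CommRing D] [CommRing C'] [CommRing C]
  [Algebra D' D] [Algebra D' C'] [Algebra D C] [Algebra C' C] [Algebra D' C]
  [IsScalarTower D' D C] [IsScalarTower D' C' C]
  (hsq' : EtMil.IsFibreSquare D' D C' C)
  [Algebra B' D'] [Algebra B D] [Algebra A' C'] [Algebra A C]
  [Algebra B' D] [IsScalarTower B' B D] [IsScalarTower B' D' D]
  [Algebra B' C'] [IsScalarTower B' A' C'] [IsScalarTower B' D' C']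
  [Algebra B C] [IsScalarTower B A C] [IsScalarTower B D C]
  [Algebra A' C] [IsScalarTower A' A C] [IsScalarTower A' C' C]
  [Algebra.IsPushout B D A C] [Algebra.IsPushout A' C' A C]

include hsq hsq' in
theorem finiteType_iff :
    Algebra.FiniteType B' D' ↔ Algebra.FiniteType B D ∧ Algebra.FiniteType A' C' := by
  haveI := isPushout_left hsq hsq'
  haveI := isPushout_right hsq hsq'
  constructor
  · intro h
    exact ⟨Algebra.FiniteType.equiv inferInstance (Algebra.IsPushout.equiv B' B D' D),
      Algebra.FiniteType.equiv inferInstance (Algebra.IsPushout.equiv B' A' D' C')⟩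
  · rintro ⟨h1, h2⟩
    exact finiteType_of hsq hsq' h1 h2

include hsq hsq' in
theorem flat_iff : Module.Flat B' D' ↔ Module.Flat B D ∧ Module.Flat A' C' := by
  have hl := isPushout_left hsq hsq'
  have hr := isPushout_right hsq hsq'
  constructor
  · intro h
    exact ⟨Module.Flat.isBaseChange B' B D' D hl.out, Module.Flat.isBaseChange B' A' D' C' hr.out⟩
  · rintro ⟨h1, h2⟩
    haveI : Module.Flat B (B ⊗[B'] D') := Module.Flat.of_linearEquiv hl.out.equiv
    haveI : Module.Flat A' (A' ⊗[B'] D') := Module.Flat.of_linearEquiv hr.out.equiv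
    exact Groth.Agent.Lib.MilnorFlatH4.flat_of_square hsq D'

include hsq hsq' in
theorem fp_iff : (Module.Flat B' D' ∧ Algebra.FinitePresentation B' D') ↔
    (Module.Flat B D ∧ Algebra.FinitePresentation B D) ∧
      (Module.Flat A' C' ∧ Algebra.FinitePresentation A' C') := by
  haveI := isPushout_left hsq hsq'
  haveI := isPushout_right hsq hsq'
  constructor
  · rintro ⟨h1, h2⟩
    obtain ⟨h3, h4⟩ := (flat_iff hsq hsq').1 h1
    exact ⟨⟨h3, Algebra.FinitePresentation.equiv (Algebra.IsPushout.equiv B' B D' D)⟩,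
      ⟨h4, Algebra.FinitePresentation.equiv (Algebra.IsPushout.equiv B' A' D' C')⟩⟩
  · rintro ⟨⟨h1, h2⟩, ⟨h3, h4⟩⟩
    haveI : Module.Flat B' D' := (flat_iff hsq hsq').2 ⟨h1, h3⟩
    haveI : Algebra.FiniteType B' D' :=
      finiteType_of hsq hsq' (Algebra.FiniteType.of_finitePresentation)
        (Algebra.FiniteType.of_finitePresentation)
    exact ⟨inferInstance, finitePresentation_of (D := D) (C' := C') hsq⟩

include hsq hsq' in
theorem smooth_iff : Algebra.Smooth B' D' ↔ Algebra.Smooth B D ∧ Algebra.Smooth A' C' := by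
  haveI := isPushout_left hsq hsq'
  haveI := isPushout_right hsq hsq'
  constructor
  · intro h
    exact ⟨Algebra.Smooth.of_equiv (Algebra.IsPushout.equiv B' B D' D),
      Algebra.Smooth.of_equiv (Algebra.IsPushout.equiv B' A' D' C')⟩
  · rintro ⟨h1, h2⟩
    obtain ⟨h3, h4⟩ := (fp_iff hsq hsq').2 ⟨⟨inferInstance, inferInstance⟩,
      ⟨inferInstance, inferInstance⟩⟩
    exact smooth_of (D := D) (C' := C') hsq

include hsq hsq' in
theorem etale_iff : Algebra.Etale B' D' ↔ Algebra.Etale B D ∧ Algebra.Etale A' C' := by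
  haveI := isPushout_left hsq hsq'
  haveI := isPushout_right hsq hsq'
  constructor
  · intro h
    exact ⟨Algebra.Etale.of_equiv (Algebra.IsPushout.equiv B' B D' D),
      Algebra.Etale.of_equiv (Algebra.IsPushout.equiv B' A' D' C')⟩
  · rintro ⟨h1, h2⟩
    obtain ⟨h3, h4⟩ := (fp_iff hsq hsq').2 ⟨⟨inferInstance, inferInstance⟩,
      ⟨inferInstance, inferInstance⟩⟩
    exact etale_of (D := D) (C' := C') hsq

end Main

end Groth.Agent.MilnorAlg
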