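import Mathlib
import Groth.Prelude.Def_EtMil
import Groth.Agent.Lib.AffDef2_helper3
import Groth.Agent.Lib.MilnorAlgMain_helper5

/-!
# Gluing flat algebras over a fibre product of rings (helper3)

`glue_rings` : over a fibre product `B = A' ×_A A''` with `A'' → A` surjective, flat algebras `E'/A'`,
`E''/A''` with a common base change `E₀/A` glue to a flat `B`-algebra `E = E' ×_{E₀} E''` whose base changes
to `A'`, `A''` are `E'`, `E''`.  (Uses the Milnor square libraries of helper4/5/6.)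
-/

set_option autoImplicit false
set_option linter.unusedSectionVars false

universe u

open CategoryTheory CategoryTheory.Limits
open scoped TensorProduct

namespace Groth.Agent.Lib.AffDefH3

section Glue

variable {B A' A'' A : Type u} [CommRing B] [CommRing A'] [CommRing A''] [CommRing A]
  (p' : B →+* A') (p'' : B →+* A'') (f' : A' →+* A) (f'' : A'' →+* A)
  {E' E'' E₀ : Type u} [CommRing E'] [CommRing E''] [CommRing E₀]
  (γ' : A' →+* E') (γ'' : A'' →+* E'') (γ₀ : A →+* E₀) (π' : E' →+* E₀) (π'' : E'' →+* E₀)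

theorem surjective_of_isPushout_cat {R S R' S' : Type u} [CommRing R] [CommRing S] [CommRing R']
    [CommRing S'] (γ : R →+* S) (p : R →+* R') (π : S →+* S') (γ' : R' →+* S')
    (hpo : IsPushout (CommRingCat.ofHom γ) (CommRingCat.ofHom p) (CommRingCat.ofHom π)
      (CommRingCat.ofHom γ')) (hp : Function.Surjective p) : Function.Surjective π := by
  let _ : Algebra R S := γ.toAlgebra
  let _ : Algebra R R' := p.toAlgebra
  let _ : Algebra S S' := π.toAlgebra
  let _ : Algebra R' S' := γ'.toAlgebra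
  let _ : Algebra R S' := (π.comp γ).toAlgebra
  haveI : IsScalarTower R S S' := IsScalarTower.of_algebraMap_eq fun _ => rfl
  haveI : IsScalarTower R R' S' := IsScalarTower.of_algebraMap_eq fun r =>
    comm_of_isPushout γ p π γ' hpo r
  have hP : Algebra.IsPushout R S R' S' := CommRingCat.isPushout_iff_isPushout.mp hpo
  haveI := hP
  exact Groth.Agent.MilnorAlg.surjective_of_isPushout (A' := R) (A := R') (C' := S) (C := S') hp

theorem glue_rings
    (hw : ∀ b, f' (p' b) = f'' (p'' b)) (hf'' : Function.Surjective f'')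
    (hfib : ∀ a' a'', f' a' = f'' a'' → ∃! b, p' b = a' ∧ p'' b = a'')
    (h' : IsPushout (CommRingCat.ofHom γ') (CommRingCat.ofHom f') (CommRingCat.ofHom π')
      (CommRingCat.ofHom γ₀))
    (h'' : IsPushout (CommRingCat.ofHom γ'') (CommRingCat.ofHom f'') (CommRingCat.ofHom π'')
      (CommRingCat.ofHom γ₀))
    (hfl' : γ'.Flat) (hfl'' : γ''.Flat) :
    ∃ (E : Type u) (_ : CommRing E) (γ : B →+* E) (q' : E →+* E') (q'' : E →+* E''),
      γ.Flat ∧ (∀ y, π' (q' y) = π'' (q'' y)) ∧
      (∀ y' y'', π' y' = π'' y'' → ∃ y, q' y = y' ∧ q'' y = y'') ∧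
      (∀ y z, q' y = q' z → q'' y = q'' z → y = z) ∧
      IsPushout (CommRingCat.ofHom γ) (CommRingCat.ofHom p') (CommRingCat.ofHom q')
        (CommRingCat.ofHom γ') ∧
      IsPushout (CommRingCat.ofHom γ) (CommRingCat.ofHom p'') (CommRingCat.ofHom q'')
        (CommRingCat.ofHom γ'') := by
  have hc' : ∀ a, π' (γ' a) = γ₀ (f' a) := comm_of_isPushout γ' f' π' γ₀ h'
  have hc'' : ∀ a, π'' (γ'' a) = γ₀ (f'' a) := comm_of_isPushout γ'' f'' π'' γ₀ h''
  have hπ''s : Function.Surjective π'' := surjective_of_isPushout_cat γ'' f'' π'' γ₀ h'' hf''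
  -- the fibre product ring
  let S : Subring (E' × E'') :=
    RingHom.eqLocus (π'.comp (RingHom.fst E' E'')) (π''.comp (RingHom.snd E' E''))
  have hS : ∀ x : E' × E'', x ∈ S ↔ π' x.1 = π'' x.2 := fun x => Iff.rfl
  let q' : S →+* E' := (RingHom.fst E' E'').comp S.subtype
  let q'' : S →+* E'' := (RingHom.snd E' E'').comp S.subtype
  have hq : ∀ y : S, π' (q' y) = π'' (q'' y) := fun y => y.2
  let γ : B →+* S := RingHom.codRestrict ((γ'.comp p').prod (γ''.comp p'')) S (fun b => by
    rw [hS]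
    show π' (γ' (p' b)) = π'' (γ'' (p'' b))
    rw [hc', hc'', hw])
  have hγq' : ∀ b, q' (γ b) = γ' (p' b) := fun b => rfl
  have hγq'' : ∀ b, q'' (γ b) = γ'' (p'' b) := fun b => rfl
  -- instances
  let _ : Algebra B A' := p'.toAlgebra
  let _ : Algebra B A'' := p''.toAlgebra
  let _ : Algebra A' A := f'.toAlgebra
  let _ : Algebra A'' A := f''.toAlgebra
  let _ : Algebra B A := (f'.comp p').toAlgebra
  haveI : IsScalarTower B A' A := IsScalarTower.of_algebraMap_eq fun _ => rfl
  haveI : IsScalarTower B A'' A := IsScalarTower.of_algebraMap_eq fun b => hw b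
  have hsq : EtMil.IsFibreSquare B A' A'' A := ⟨hf'', fun a' a'' h => hfib a' a'' h⟩
  let _ : Algebra A' E' := γ'.toAlgebra
  let _ : Algebra A'' E'' := γ''.toAlgebra
  let _ : Algebra A E₀ := γ₀.toAlgebra
  let _ : Algebra E' E₀ := π'.toAlgebra
  let _ : Algebra E'' E₀ := π''.toAlgebra
  let _ : Algebra S E' := q'.toAlgebra
  let _ : Algebra S E'' := q''.toAlgebra
  let _ : Algebra S E₀ := (π'.comp q').toAlgebra
  haveI : IsScalarTower S E' E₀ := IsScalarTower.of_algebraMap_eq fun _ => rfl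
  haveI : IsScalarTower S E'' E₀ := IsScalarTower.of_algebraMap_eq fun y => hq y
  have hsq' : EtMil.IsFibreSquare S E' E'' E₀ := by
    refine ⟨hπ''s, fun y' y'' h => ?_⟩
    refine ⟨⟨(y', y''), (hS _).2 h⟩, ⟨rfl, rfl⟩, ?_⟩
    rintro ⟨⟨z', z''⟩, hz⟩ ⟨h1, h2⟩
    apply Subtype.ext
    exact Prod.ext h1 h2
  let _ : Algebra B S := γ.toAlgebra
  let _ : Algebra B E' := (γ'.comp p').toAlgebra
  haveI : IsScalarTower B A' E' := IsScalarTower.of_algebraMap_eq fun _ => rfl
  haveI : IsScalarTower B S E' := IsScalarTower.of_algebraMap_eq fun _ => rfl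
  let _ : Algebra B E'' := (γ''.comp p'').toAlgebra
  haveI : IsScalarTower B A'' E'' := IsScalarTower.of_algebraMap_eq fun _ => rfl
  haveI : IsScalarTower B S E'' := IsScalarTower.of_algebraMap_eq fun _ => rfl
  let _ : Algebra A' E₀ := (γ₀.comp f').toAlgebra
  haveI : IsScalarTower A' A E₀ := IsScalarTower.of_algebraMap_eq fun _ => rfl
  haveI : IsScalarTower A' E' E₀ := IsScalarTower.of_algebraMap_eq fun a => (hc' a).symm
  let _ : Algebra A'' E₀ := (γ₀.comp f'').toAlgebra
  haveI : IsScalarTower A'' A E₀ := IsScalarTower.of_algebraMap_eq fun _ => rfl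
  haveI : IsScalarTower A'' E'' E₀ := IsScalarTower.of_algebraMap_eq fun a => (hc'' a).symm
  haveI hP1 : Algebra.IsPushout A' E' A E₀ := CommRingCat.isPushout_iff_isPushout.mp h'
  haveI hP2 : Algebra.IsPushout A'' E'' A E₀ := CommRingCat.isPushout_iff_isPushout.mp h''
  have hflat : Module.Flat B S :=
    (Groth.Agent.MilnorAlg.flat_iff (B' := B) (B := A') (A' := A'') (A := A) hsq
      (D' := S) (D := E') (C' := E'') (C := E₀) hsq').2 ⟨hfl', hfl''⟩
  have hl : Algebra.IsPushout B A' S E' :=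
    Groth.Agent.MilnorAlg.isPushout_left (B' := B) (B := A') (A' := A'') (A := A) hsq
      (D' := S) (D := E') (C' := E'') (C := E₀) hsq'
  have hr : Algebra.IsPushout B A'' S E'' :=
    Groth.Agent.MilnorAlg.isPushout_right (B' := B) (B := A') (A' := A'') (A := A) hsq
      (D' := S) (D := E') (C' := E'') (C := E₀) hsq'
  have hl' : IsPushout (CommRingCat.ofHom p') (CommRingCat.ofHom γ) (CommRingCat.ofHom γ')
      (CommRingCat.ofHom q') := CommRingCat.isPushout_iff_isPushout.mpr hl
  have hr' : IsPushout (CommRingCat.ofHom p'') (CommRingCat.ofHom γ) (CommRingCat.ofHom γ'')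
      (CommRingCat.ofHom q'') := CommRingCat.isPushout_iff_isPushout.mpr hr
  refine ⟨S, inferInstance, γ, q', q'', hflat, hq, ?_, ?_, hl'.flip, hr'.flip⟩
  · intro y' y'' h
    exact ⟨⟨(y', y''), (hS _).2 h⟩, rfl, rfl⟩
  · rintro ⟨⟨y', y''⟩, hy⟩ ⟨⟨z', z''⟩, hz⟩ h1 h2
    apply Subtype.ext
    exact Prod.ext h1 h2

end Glue

end Groth.Agent.Lib.AffDefH3
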