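import Mathlib
import Groth.Prelude.Def_ArtFun4
import Groth.Agent.Lib.AffDef3_helper3

/-!
# `H0` and `S1` for the deformation functor of an affine scheme (helper3)
-/

set_option autoImplicit false
set_option linter.unusedSectionVars false

universe u

open CategoryTheory CategoryTheory.Limits AlgebraicGeometry
open scoped TensorProduct

namespace Groth.Agent.Lib.AffDefH3

variable {Λ : Type u} {k : Type u} [CommRing Λ] [Field k] [Algebra Λ k]
  {B₀ : Type u} [CommRing B₀] [Algebra k B₀]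

section H0

theorem maximalIdeal_base : IsLocalRing.maximalIdeal (ArtFun.Art.base Λ k) = ⊥ := by
  ext a
  rw [ArtFun.Art.mem_maximalIdeal_iff, Ideal.mem_bot]
  rfl

/-- the trivial deformation ring over `k` -/
noncomputable def DRing.self (Λ k B₀ : Type u) [CommRing Λ] [Field k] [Algebra Λ k] [CommRing B₀]
    [Algebra k B₀] : DRing B₀ (ArtFun.Art.base Λ k) where
  E := B₀
  γ := algebraMap k B₀
  α := RingHom.id B₀
  flat := by
    show @Module.Flat k B₀ _ _ (algebraMap k B₀).toAlgebra.toModule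
    have : (algebraMap k B₀).toAlgebra = (inferInstance : Algebra k B₀) := by
      apply Algebra.algebra_ext
      intro r
      rfl
    rw [this]
    infer_instance
  surj := Function.surjective_id
  ker := by
    rw [maximalIdeal_base, Ideal.map_bot]
    ext x
    rw [RingHom.mem_ker, Ideal.mem_bot]
    rfl
  comp := fun _ => rfl

theorem DRing.α_bijective_base (D : DRing B₀ (ArtFun.Art.base Λ k)) : Function.Bijective D.α := by
  refine ⟨?_, D.surj⟩
  rw [injective_iff_map_eq_zero]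
  intro x hx
  have h1 : x ∈ RingHom.ker D.α := hx
  rw [D.ker, maximalIdeal_base, Ideal.map_bot] at h1
  exact h1

theorem h0 : ArtFun.H0 (FF Λ k B₀) := by
  refine ⟨⟨(DRing.self Λ k B₀).cl⟩, ⟨fun x y => ?_⟩⟩
  obtain ⟨D, rfl⟩ := DRing.exists_rep x
  obtain ⟨D', rfl⟩ := DRing.exists_rep y
  let e₁ : D.E ≃+* B₀ := RingEquiv.ofBijective D.α D.α_bijective_base
  let e₂ : D'.E ≃+* B₀ := RingEquiv.ofBijective D'.α D'.α_bijective_base
  have he₁ : ∀ y, e₁ y = D.α y := fun _ => rfl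
  have he₂ : ∀ y, D'.α (e₂.symm y) = y := fun y => e₂.apply_symm_apply y
  refine DRing.cl_eq_of_equiv ⟨e₁.trans e₂.symm, fun a => ?_, fun y => ?_⟩
  · apply D'.α_bijective_base.1
    show D'.α (e₂.symm (e₁ (D.γ a))) = D'.α (D'.γ a)
    rw [he₂, he₁, D.comp, D'.comp]
  · show D'.α (e₂.symm (e₁ y)) = D.α y
    rw [he₂, he₁]

end H0

section S1

variable {B A A' A'' : ArtFun.Art Λ k} {p' : B ⟶ A'} {p'' : B ⟶ A''} {f' : A' ⟶ A} {f'' : A'' ⟶ A}

theorem fst_surjective (h : ArtFun.Art.IsFibreProd p' p'' f' f'') (hf'' : Function.Surjective f'') :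
    Function.Surjective p' := by
  intro a'
  obtain ⟨a'', ha''⟩ := hf'' (f' a')
  obtain ⟨b, hb, -⟩ := h.surj a' a'' ha''.symm
  exact ⟨b, hb⟩

theorem existsUnique_of_isFibreProd (h : ArtFun.Art.IsFibreProd p' p'' f' f'') (a' : A') (a'' : A'')
    (ha : f'.toAlgHom.toRingHom a' = f''.toAlgHom.toRingHom a'') :
    ∃! b, p'.toAlgHom.toRingHom b = a' ∧ p''.toAlgHom.toRingHom b = a'' := by
  obtain ⟨b, hb1, hb2⟩ := h.surj a' a'' ha
  refine ⟨b, ⟨hb1, hb2⟩, ?_⟩
  rintro c ⟨hc1, hc2⟩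
  exact h.inj c b (hc1.trans hb1.symm) (hc2.trans hb2.symm)

/-- gluing deformation rings along a fibre product -/
theorem exists_glue (h : ArtFun.Art.IsFibreProd p' p'' f' f'') (hf'' : Function.Surjective f'')
    (D' : DRing B₀ A') (D'' : DRing B₀ A'') (D₀ : DRing B₀ A)
    (π' : D'.E →+* D₀.E) (π'' : D''.E →+* D₀.E)
    (hα' : ∀ y, D₀.α (π' y) = D'.α y) (hα'' : ∀ y, D₀.α (π'' y) = D''.α y)
    (h' : IsPushout (CommRingCat.ofHom D'.γ) (CommRingCat.ofHom f'.toAlgHom.toRingHom)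
      (CommRingCat.ofHom π') (CommRingCat.ofHom D₀.γ))
    (h'' : IsPushout (CommRingCat.ofHom D''.γ) (CommRingCat.ofHom f''.toAlgHom.toRingHom)
      (CommRingCat.ofHom π'') (CommRingCat.ofHom D₀.γ)) :
    ∃ (D : DRing B₀ B) (q' : D.E →+* D'.E) (q'' : D.E →+* D''.E),
      (∀ y, D'.α (q' y) = D.α y) ∧ (∀ y, D''.α (q'' y) = D.α y) ∧
      (∀ y, π' (q' y) = π'' (q'' y)) ∧
      (∀ y' y'', π' y' = π'' y'' → ∃ y, q' y = y' ∧ q'' y = y'') ∧
      (∀ y z, q' y = q' z → q'' y = q'' z → y = z) ∧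
      IsPushout (CommRingCat.ofHom D.γ) (CommRingCat.ofHom p'.toAlgHom.toRingHom)
        (CommRingCat.ofHom q') (CommRingCat.ofHom D'.γ) ∧
      IsPushout (CommRingCat.ofHom D.γ) (CommRingCat.ofHom p''.toAlgHom.toRingHom)
        (CommRingCat.ofHom q'') (CommRingCat.ofHom D''.γ) := by
  obtain ⟨E, _, γ, q', q'', hflat, hq, hsurj, hinj, hl, hr⟩ :=
    glue_rings p'.toAlgHom.toRingHom p''.toAlgHom.toRingHom f'.toAlgHom.toRingHom
      f''.toAlgHom.toRingHom D'.γ D''.γ D₀.γ π' π'' (fun b => h.w_apply b) hf''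
      (fun a' a'' ha => existsUnique_of_isFibreProd h a' a'' ha) h' h'' D'.flat D''.flat
  have hp' : Function.Surjective p'.toAlgHom.toRingHom := fst_surjective h hf''
  obtain ⟨hq's, hker⟩ := ker_comp_of_isPushout γ p'.toAlgHom.toRingHom q' D'.γ hl hp'
    B.res.toRingHom A'.res.toRingHom (fun b => res_comp_apply p' b) D'.α D'.ker'
  have hcomp : ∀ b, (D'.α.comp q') (γ b) = algebraMap k B₀ (B.res b) := by
    intro b
    rw [RingHom.comp_apply, comm_of_isPushout γ p'.toAlgHom.toRingHom q' D'.γ hl, D'.comp]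
    congr 1
    exact res_comp_apply p' b
  let D : DRing B₀ B :=
    { E := E
      γ := γ
      α := D'.α.comp q'
      flat := hflat
      surj := D'.surj.comp hq's
      ker := by rw [hker, Groth.Agent.Lib.DefRingLH3.ker_res]
      comp := hcomp }
  refine ⟨D, q', q'', fun y => rfl, fun y => ?_, hq, hsurj, hinj, hl, hr⟩
  show D''.α (q'' y) = D'.α (q' y)
  rw [← hα'', ← hq, hα']

theorem s1 : ArtFun.S1 (FF Λ k B₀) := by
  intro B A A' A'' p' p'' f' f'' h hf'' x
  obtain ⟨⟨x', x''⟩, hx⟩ := x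
  obtain ⟨D', rfl⟩ := DRing.exists_rep x'
  obtain ⟨D'', rfl⟩ := DRing.exists_rep x''
  have hx' : (D'.bc f').cl = (D''.bc f'').cl := by
    rw [← DRing.map_cl, ← DRing.map_cl]
    exact hx
  obtain ⟨e⟩ := DRing.equiv_of_cl_eq hx'
  -- the common base change
  let π' : D'.E →+* (D''.bc f'').E := (e.Φ : (D'.bc f').E →+* (D''.bc f'').E).comp (D'.bcMap f')
  have hπ'α : ∀ y, (D''.bc f'').α (π' y) = D'.α y := by
    intro y
    show (D''.bc f'').α (e.Φ (D'.bcMap f' y)) = D'.α y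
    rw [e.hα, DRing.bc_α]
  have h' : IsPushout (CommRingCat.ofHom D'.γ) (CommRingCat.ofHom f'.toAlgHom.toRingHom)
      (CommRingCat.ofHom π') (CommRingCat.ofHom (D''.bc f'').γ) := by
    refine IsPushout.of_iso (D'.bc_isPushout f') (Iso.refl _) (Iso.refl _) (Iso.refl _)
      e.Φ.toCommRingCatIso ?_ ?_ ?_ ?_
    · simp
    · simp
    · rw [Iso.refl_hom, Category.id_comp]
      rfl
    · rw [Iso.refl_hom, Category.id_comp]
      apply CommRingCat.hom_ext
      apply RingHom.ext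
      intro a
      exact e.hγ a
  obtain ⟨D, q', q'', hα', hα'', -, -, -, hl, hr⟩ := exists_glue h hf'' D' D'' (D''.bc f'') π'
    (D''.bcMap f'') hπ'α (D''.bc_α f'') h' (D''.bc_isPushout f'')
  refine ⟨D.cl, ?_⟩
  apply ArtFun.FibProd.ext
  · exact DRing.map_cl_of_isPushout p' D D' q' hα' hl
  · exact DRing.map_cl_of_isPushout p'' D D'' q'' hα'' hr

end S1

end Groth.Agent.Lib.AffDefH3
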