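import Mathlib
import Groth.Prelude.Def_EtMil
import Groth.Agent.Lib.AffDef4_helper3
import Groth.Agent.Lib.Milnor2_helper6
import Groth.Agent.Lib.MilnorFlat_helper4

/-!
# A flat algebra over a fibre product of rings is the fibre product of its base changes (helper3)
-/

set_option autoImplicit false
set_option linter.unusedSectionVars false

universe u

open CategoryTheory CategoryTheory.Limits
open scoped TensorProduct

namespace Groth.Agent.Lib.AffDefH3

section Fib

variable {B A' A'' A : Type u} [CommRing B] [CommRing A'] [CommRing A''] [CommRing A]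
  (p' : B →+* A') (p'' : B →+* A'') (f' : A' →+* A) (f'' : A'' →+* A)
  {E E' E'' E₀ : Type u} [CommRing E] [CommRing E'] [CommRing E''] [CommRing E₀]
  (γ : B →+* E) (γ' : A' →+* E') (γ'' : A'' →+* E'') (γ₀ : A →+* E₀)
  (q' : E →+* E') (q'' : E →+* E'') (π' : E' →+* E₀) (π'' : E'' →+* E₀)

theorem fib_of_flat
    (hw : ∀ b, f' (p' b) = f'' (p'' b)) (hf'' : Function.Surjective f'')
    (hfib : ∀ a' a'', f' a' = f'' a'' → ∃! b, p' b = a' ∧ p'' b = a'')
    (hl : IsPushout (CommRingCat.ofHom γ) (CommRingCat.ofHom p') (CommRingCat.ofHom q')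
      (CommRingCat.ofHom γ'))
    (hr : IsPushout (CommRingCat.ofHom γ) (CommRingCat.ofHom p'') (CommRingCat.ofHom q'')
      (CommRingCat.ofHom γ''))
    (h' : IsPushout (CommRingCat.ofHom γ') (CommRingCat.ofHom f') (CommRingCat.ofHom π')
      (CommRingCat.ofHom γ₀))
    (h'' : IsPushout (CommRingCat.ofHom γ'') (CommRingCat.ofHom f'') (CommRingCat.ofHom π'')
      (CommRingCat.ofHom γ₀))
    (hq : ∀ y, π' (q' y) = π'' (q'' y)) (hflat : γ.Flat) :
    (∀ y z, q' y = q' z → q'' y = q'' z → y = z) ∧
      (∀ y' y'', π' y' = π'' y'' → ∃ y, q' y = y' ∧ q'' y = y'') := by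
  have hcl : ∀ b, q' (γ b) = γ' (p' b) := comm_of_isPushout γ p' q' γ' hl
  have hcr : ∀ b, q'' (γ b) = γ'' (p'' b) := comm_of_isPushout γ p'' q'' γ'' hr
  have hc' : ∀ a, π' (γ' a) = γ₀ (f' a) := comm_of_isPushout γ' f' π' γ₀ h'
  have hc'' : ∀ a, π'' (γ'' a) = γ₀ (f'' a) := comm_of_isPushout γ'' f'' π'' γ₀ h''
  -- the composite pushout
  have h₀ : IsPushout (CommRingCat.ofHom γ) (CommRingCat.ofHom (f'.comp p'))
      (CommRingCat.ofHom (π'.comp q')) (CommRingCat.ofHom γ₀) :=
    (hl.flip.paste_horiz h'.flip).flip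
  -- instances
  let _ : Algebra B A' := p'.toAlgebra
  let _ : Algebra B A'' := p''.toAlgebra
  let _ : Algebra A' A := f'.toAlgebra
  let _ : Algebra A'' A := f''.toAlgebra
  let _ : Algebra B A := (f'.comp p').toAlgebra
  haveI : IsScalarTower B A' A := IsScalarTower.of_algebraMap_eq fun _ => rfl
  haveI : IsScalarTower B A'' A := IsScalarTower.of_algebraMap_eq fun b => hw b
  have hsq : EtMil.IsFibreSquare B A' A'' A := ⟨hf'', fun a' a'' h => hfib a' a'' h⟩
  let _ : Algebra B E := γ.toAlgebra
  haveI : Module.Flat B E := hflat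
  let _ : Algebra A' E' := γ'.toAlgebra
  let _ : Algebra A'' E'' := γ''.toAlgebra
  let _ : Algebra A E₀ := γ₀.toAlgebra
  let _ : Algebra E E' := q'.toAlgebra
  let _ : Algebra E E'' := q''.toAlgebra
  let _ : Algebra E E₀ := (π'.comp q').toAlgebra
  let _ : Algebra B E' := (q'.comp γ).toAlgebra
  let _ : Algebra B E'' := (q''.comp γ).toAlgebra
  let _ : Algebra B E₀ := ((π'.comp q').comp γ).toAlgebra
  haveI : IsScalarTower B E E' := IsScalarTower.of_algebraMap_eq fun _ => rfl
  haveI : IsScalarTower B A' E' := IsScalarTower.of_algebraMap_eq fun b => hcl b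
  haveI : IsScalarTower B E E'' := IsScalarTower.of_algebraMap_eq fun _ => rfl
  haveI : IsScalarTower B A'' E'' := IsScalarTower.of_algebraMap_eq fun b => hcr b
  haveI : IsScalarTower B E E₀ := IsScalarTower.of_algebraMap_eq fun _ => rfl
  haveI : IsScalarTower B A E₀ := IsScalarTower.of_algebraMap_eq fun b => by
    show π' (q' (γ b)) = γ₀ (f' (p' b))
    rw [hcl, hc']
  have hL : Algebra.IsPushout B A' E E' := CommRingCat.isPushout_iff_isPushout.mp hl.flip
  have hR : Algebra.IsPushout B A'' E E'' := CommRingCat.isPushout_iff_isPushout.mp hr.flip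
  have h0 : Algebra.IsPushout B A E E₀ := CommRingCat.isPushout_iff_isPushout.mp h₀.flip
  have eL : ∀ (a : A') (y : E), hL.out.equiv (a ⊗ₜ[B] y) = γ' a * q' y := by
    intro a y
    rw [IsBaseChange.equiv_tmul, Algebra.smul_def]
    rfl
  have eR : ∀ (a : A'') (y : E), hR.out.equiv (a ⊗ₜ[B] y) = γ'' a * q'' y := by
    intro a y
    rw [IsBaseChange.equiv_tmul, Algebra.smul_def]
    rfl
  have e0 : ∀ (a : A) (y : E), h0.out.equiv (a ⊗ₜ[B] y) = γ₀ a * π' (q' y) := by
    intro a y
    rw [IsBaseChange.equiv_tmul, Algebra.smul_def]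
    rfl
  constructor
  · intro y z h1 h2
    have hz : y - z = 0 := by
      apply Groth.Agent.Lib.MilnorFlatH4.pair_injective hsq E (y - z)
      · apply hL.out.equiv.injective
        rw [eL, map_zero, map_one, one_mul, map_sub, h1, sub_self]
      · apply hR.out.equiv.injective
        rw [eR, map_zero, map_one, one_mul, map_sub, h2, sub_self]
    exact sub_eq_zero.1 hz
  · intro y' y'' hy
    have k1 : ∀ x : A' ⊗[B] E, h0.out.equiv
        ((IsScalarTower.toAlgHom B A' A).toLinearMap.rTensor E x) = π' (hL.out.equiv x) := by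
      intro x
      induction x using TensorProduct.induction_on with
      | zero => simp
      | tmul a y =>
        rw [LinearMap.rTensor_tmul, e0, eL, map_mul, hc']
        rfl
      | add a b ha hb => rw [map_add, map_add, map_add, map_add, ha, hb]
    have k2 : ∀ x : A'' ⊗[B] E, h0.out.equiv
        ((IsScalarTower.toAlgHom B A'' A).toLinearMap.rTensor E x) = π'' (hR.out.equiv x) := by
      intro x
      induction x using TensorProduct.induction_on with
      | zero => simp
      | tmul a y =>
        rw [LinearMap.rTensor_tmul, e0, eR, map_mul, hc'', hq]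
        rfl
      | add a b ha hb => rw [map_add, map_add, map_add, map_add, ha, hb]
    obtain ⟨l, hl1, hl2⟩ := Groth.Agent.Lib.Milnor.exists_of_compatible hsq E
      (hL.out.equiv.symm y') (hR.out.equiv.symm y'') (by
        apply h0.out.equiv.injective
        rw [k1, k2, LinearEquiv.apply_symm_apply, LinearEquiv.apply_symm_apply, hy])
    refine ⟨l, ?_, ?_⟩
    · have := congrArg hL.out.equiv hl1
      rw [eL, map_one, one_mul, LinearEquiv.apply_symm_apply] at this
      exact this
    · have := congrArg hR.out.equiv hl2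
      rw [eR, map_one, one_mul, LinearEquiv.apply_symm_apply] at this
      exact this

end Fib

end Groth.Agent.Lib.AffDefH3
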