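import Mathlib
import Groth.Prelude.Def_ArtFun4
import Groth.Agent.Lib.AffDef5_helper3

/-!
# `Heps` for the deformation functor of an affine scheme (helper3)
-/

set_option autoImplicit false
set_option linter.unusedSectionVars false

universe u

open CategoryTheory CategoryTheory.Limits AlgebraicGeometry
open scoped TensorProduct

namespace Groth.Agent.Lib.AffDefH3

section PureEquiv

variable {E₁ E₂ T₁' T₁'' T₂' T₂'' : Type u} [CommRing E₁] [CommRing E₂] [CommRing T₁'] [CommRing T₁'']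
  [CommRing T₂'] [CommRing T₂'']
  (q₁' : E₁ →+* T₁') (q₁'' : E₁ →+* T₁'') (q₂' : E₂ →+* T₂') (q₂'' : E₂ →+* T₂'')
  (θ' : T₁' ≃+* T₂') (θ'' : T₁'' ≃+* T₂'')

theorem ringEquiv_of_fib
    (hinj₁ : ∀ y z, q₁' y = q₁' z → q₁'' y = q₁'' z → y = z)
    (hinj₂ : ∀ y z, q₂' y = q₂' z → q₂'' y = q₂'' z → y = z)
    (h12 : ∀ y : E₁, ∃ z : E₂, q₂' z = θ' (q₁' y) ∧ q₂'' z = θ'' (q₁'' y))
    (h21 : ∀ z : E₂, ∃ y : E₁, q₂' z = θ' (q₁' y) ∧ q₂'' z = θ'' (q₁'' y)) :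
    ∃ Φ : E₁ ≃+* E₂, ∀ y, q₂' (Φ y) = θ' (q₁' y) ∧ q₂'' (Φ y) = θ'' (q₁'' y) := by
  choose φ hφ using h12
  have hone : φ 1 = 1 := by
    apply hinj₂
    · rw [(hφ 1).1]; simp
    · rw [(hφ 1).2]; simp
  have hmul : ∀ x y, φ (x * y) = φ x * φ y := by
    intro x y
    apply hinj₂
    · rw [(hφ _).1, map_mul, map_mul, map_mul, (hφ x).1, (hφ y).1]
    · rw [(hφ _).2, map_mul, map_mul, map_mul, (hφ x).2, (hφ y).2]
  have hzero : φ 0 = 0 := by
    apply hinj₂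
    · rw [(hφ 0).1]; simp
    · rw [(hφ 0).2]; simp
  have hadd : ∀ x y, φ (x + y) = φ x + φ y := by
    intro x y
    apply hinj₂
    · rw [(hφ _).1, map_add, map_add, map_add, (hφ x).1, (hφ y).1]
    · rw [(hφ _).2, map_add, map_add, map_add, (hφ x).2, (hφ y).2]
  let Φ₀ : E₁ →+* E₂ :=
    { toFun := φ
      map_one' := hone
      map_mul' := hmul
      map_zero' := hzero
      map_add' := hadd }
  have hbij : Function.Bijective Φ₀ := by
    constructor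
    · intro x y hxy
      have hxy' : φ x = φ y := hxy
      apply hinj₁
      · apply θ'.injective
        rw [← (hφ x).1, ← (hφ y).1, hxy']
      · apply θ''.injective
        rw [← (hφ x).2, ← (hφ y).2, hxy']
    · intro z
      obtain ⟨y, hy1, hy2⟩ := h21 z
      refine ⟨y, ?_⟩
      show φ y = z
      apply hinj₂
      · rw [(hφ y).1, hy1]
      · rw [(hφ y).2, hy2]
  exact ⟨RingEquiv.ofBijective Φ₀ hbij, fun y => hφ y⟩

end PureEquiv

variable {Λ : Type u} {k : Type u} [CommRing Λ] [Field k] [Algebra Λ k]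
  {B₀ : Type u} [CommRing B₀] [Algebra k B₀]

/-- the augmentation square of a deformation ring is a pushout -/
theorem DRing.isPushout_α {A : ArtFun.Art Λ k} (D : DRing B₀ A) :
    IsPushout (CommRingCat.ofHom D.γ)
      (CommRingCat.ofHom (ArtFun.Art.toBase A).toAlgHom.toRingHom)
      (CommRingCat.ofHom D.α)
      (CommRingCat.ofHom (algebraMap k B₀ : (ArtFun.Art.base Λ k) →+* B₀)) :=
  Groth.Agent.Lib.DefRingH3.isPushout_of_surjective D.γ A.res.toRingHom D.α (algebraMap k B₀)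
    D.comp A.res_surjective D.surj D.ker'

section Inj

variable {B A' A'' : ArtFun.Art Λ k} {p' : B ⟶ A'} {p'' : B ⟶ A''}

theorem fib_bc (h : ArtFun.Art.IsFibreProd p' p'' (ArtFun.Art.toBase A') (ArtFun.Art.toBase A''))
    (D : DRing B₀ B) :
    (∀ y z, D.bcMap p' y = D.bcMap p' z → D.bcMap p'' y = D.bcMap p'' z → y = z) ∧
      (∀ (y' : (D.bc p').E) (y'' : (D.bc p'').E), (D.bc p').α y' = (D.bc p'').α y'' →
        ∃ y, D.bcMap p' y = y' ∧ D.bcMap p'' y = y'') :=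
  fib_of_flat p'.toAlgHom.toRingHom p''.toAlgHom.toRingHom
    (ArtFun.Art.toBase A').toAlgHom.toRingHom (ArtFun.Art.toBase A'').toAlgHom.toRingHom
    D.γ (D.bc p').γ (D.bc p'').γ (algebraMap k B₀ : (ArtFun.Art.base Λ k) →+* B₀)
    (D.bcMap p') (D.bcMap p'') (D.bc p').α (D.bc p'').α
    (fun b => h.w_apply b) A''.res_surjective
    (fun a' a'' ha => existsUnique_of_isFibreProd h a' a'' ha)
    (D.bc_isPushout p') (D.bc_isPushout p'') (D.bc p').isPushout_α (D.bc p'').isPushout_α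
    (fun y => by rw [DRing.bc_α, DRing.bc_α]) D.flat

theorem cmp_injective_over_base
    (h : ArtFun.Art.IsFibreProd p' p'' (ArtFun.Art.toBase A') (ArtFun.Art.toBase A'')) :
    Function.Injective (ArtFun.cmp (FF Λ k B₀) h) := by
  intro x₁ x₂ hx
  obtain ⟨D₁, rfl⟩ := DRing.exists_rep x₁
  obtain ⟨D₂, rfl⟩ := DRing.exists_rep x₂
  have hx1 : (FF Λ k B₀).map p' D₁.cl = (FF Λ k B₀).map p' D₂.cl :=
    congrArg (fun t => t.1.1) hx
  have hx2 : (FF Λ k B₀).map p'' D₁.cl = (FF Λ k B₀).map p'' D₂.cl :=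
    congrArg (fun t => t.1.2) hx
  rw [DRing.map_cl, DRing.map_cl] at hx1 hx2
  obtain ⟨e'⟩ := DRing.equiv_of_cl_eq hx1
  obtain ⟨e''⟩ := DRing.equiv_of_cl_eq hx2
  obtain ⟨hinj₁, hsurj₁⟩ := fib_bc h D₁
  obtain ⟨hinj₂, hsurj₂⟩ := fib_bc h D₂
  obtain ⟨Φ, hΦ⟩ := ringEquiv_of_fib (D₁.bcMap p') (D₁.bcMap p'') (D₂.bcMap p') (D₂.bcMap p'')
    e'.Φ e''.Φ hinj₁ hinj₂
    (fun y => hsurj₂ _ _ (by rw [e'.hα, e''.hα, DRing.bc_α, DRing.bc_α]))
    (fun z => by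
      obtain ⟨y, hy1, hy2⟩ := hsurj₁ (e'.Φ.symm (D₂.bcMap p' z)) (e''.Φ.symm (D₂.bcMap p'' z)) (by
        rw [← e'.hα, ← e''.hα, RingEquiv.apply_symm_apply, RingEquiv.apply_symm_apply,
          DRing.bc_α, DRing.bc_α])
      exact ⟨y, by rw [hy1, RingEquiv.apply_symm_apply], by rw [hy2, RingEquiv.apply_symm_apply]⟩)
  refine DRing.cl_eq_of_equiv ⟨Φ, fun b => ?_, fun y => ?_⟩
  · apply hinj₂
    · rw [(hΦ _).1, comm_of_isPushout _ _ _ _ (D₁.bc_isPushout p'),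
        comm_of_isPushout _ _ _ _ (D₂.bc_isPushout p'), e'.hγ]
    · rw [(hΦ _).2, comm_of_isPushout _ _ _ _ (D₁.bc_isPushout p''),
        comm_of_isPushout _ _ _ _ (D₂.bc_isPushout p''), e''.hγ]
  · rw [← DRing.bc_α p' D₂, (hΦ y).1, e'.hα, DRing.bc_α]

end Inj

theorem heps : ArtFun.Heps (FF Λ k B₀) := by
  intro B A' p' p'' h
  refine ⟨cmp_injective_over_base h, ?_⟩
  exact s1 p' p'' _ _ h (ArtFun.Art.dual Λ k).res_surjective

end Groth.Agent.Lib.AffDefH3
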