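import Mathlib
import Groth.Prelude.Def_ArtFun4
import Groth.Agent.Lib.AffDef6_helper3
import Groth.Agent.Lib.DefDual4_helper3

/-!
# The tangent class of a first order deformation of an affine scheme (helper3)

For a `k`-algebra extension `P` of `B₀` (e.g. a presentation) with the lifting property, the class
`tau D ∈ Hom(I/I², B₀) / Hom(Ω_P ⊗ B₀, B₀)` of a deformation ring `D` over `k[ε]`, computed from any lift
`G : P → D.E`: `G x = y · ε ↦ α y`.  It is a bijection on isomorphism classes.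
-/

set_option autoImplicit false
set_option linter.unusedSectionVars false

universe u

open CategoryTheory CategoryTheory.Limits AlgebraicGeometry
open scoped TensorProduct

namespace Groth.Agent.Lib.AffDefH3

open Groth.Agent.Lib.ExalT1H1 (phi phi_mk phi_ext phi_sub_mem lam incl_lam injective_aux
  surjective_aux)

variable {Λ : Type u} {k : Type u} [CommRing Λ] [Field k] [Algebra Λ k]
  {B₀ : Type u} [CommRing B₀] [Algebra k B₀]

/-- the class `ε` in the carrier of `dual Λ k` -/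
noncomputable def epsD (Λ k : Type u) [CommRing Λ] [Field k] [Algebra Λ k] :
    (ArtFun.Art.dual Λ k) := (DualNumber.eps : DualNumber k)

/-- the structure map `k → k[ε]` -/
noncomputable def algD (Λ k : Type u) [CommRing Λ] [Field k] [Algebra Λ k] :
    k →+* (ArtFun.Art.dual Λ k) := (algebraMap k (DualNumber k) : k →+* DualNumber k)

theorem res_algD (r : k) : (ArtFun.Art.dual Λ k).res (algD Λ k r) = r := rfl

theorem res_epsD : (ArtFun.Art.dual Λ k).res (epsD Λ k) = 0 := DualNumber.fst_eps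

theorem maximalIdeal_dual :
    IsLocalRing.maximalIdeal (ArtFun.Art.dual Λ k) = Ideal.span {epsD Λ k} := by
  ext a
  rw [ArtFun.Art.mem_maximalIdeal_iff]
  constructor
  · intro ha
    have ha' : TrivSqZeroExt.fst (a : DualNumber k) = 0 := ha
    rw [Ideal.mem_span_singleton']
    refine ⟨algD Λ k (TrivSqZeroExt.snd (a : DualNumber k)), ?_⟩
    have h := Groth.Agent.Lib.DefDualH3.decomp k (a : DualNumber k)
    rw [ha', map_zero, zero_add, mul_comm] at h
    exact h.symm
  · intro ha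
    obtain ⟨c, rfl⟩ := Ideal.mem_span_singleton'.1 ha
    rw [map_mul, res_epsD, mul_zero]

namespace DRing

variable (D : DRing B₀ (ArtFun.Art.dual Λ k))

theorem ker_dual : RingHom.ker D.α = Ideal.span {D.γ (epsD Λ k)} := by
  rw [D.ker, maximalIdeal_dual, Ideal.map_span, Set.image_singleton]

theorem exists_mul_eps (z : D.E) (hz : D.α z = 0) : ∃ y, z = y * D.γ (epsD Λ k) := by
  have h : z ∈ RingHom.ker D.α := hz
  rw [D.ker_dual, Ideal.mem_span_singleton'] at h
  obtain ⟨y, hy⟩ := h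
  exact ⟨y, hy.symm⟩

theorem α_algD (r : k) : D.α (D.γ (algD Λ k r)) = algebraMap k B₀ r := by
  rw [D.comp, res_algD]

theorem exists_ext :
    ∃ (X : Exal.Ext k B₀ B₀) (Φ : X.E ≃+* D.E),
      (∀ r : k, Φ (algebraMap k X.E r) = D.γ (algD Λ k r)) ∧
      (∀ y, D.α (Φ y) = X.proj y) ∧ Φ (X.incl 1) = D.γ (epsD Λ k) := by
  have hε := Groth.Agent.Lib.DefDualH3.isDualLike_dual k
  let γ' : DualNumber k →+* D.E := D.γ
  have hflat : γ'.Flat := D.flat
  obtain ⟨X, Φ, p1, p2, p3⟩ := Groth.Agent.Lib.DefDualH3.exists_ext_of_data (k := k) (B := B₀)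
    (A := DualNumber k) (TrivSqZeroExt.fstHom k k k) DualNumber.eps hε.h1 hε.h2 hε.h3 hε.h4
    γ' D.α (RingEquiv.refl B₀) (fun a => D.comp a) D.surj hflat D.ker_dual
  exact ⟨X, Φ, p1, fun y => p2 y, p3⟩

/-- the extension of `B₀` by `B₀` attached to a first order deformation ring -/
noncomputable def ext : Exal.Ext k B₀ B₀ := D.exists_ext.choose

noncomputable def extΦ : D.ext.E ≃+* D.E := D.exists_ext.choose_spec.choose

theorem extΦ_alg (r : k) : D.extΦ (algebraMap k D.ext.E r) = D.γ (algD Λ k r) :=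
  D.exists_ext.choose_spec.choose_spec.1 r

theorem extΦ_proj (y : D.ext.E) : D.α (D.extΦ y) = D.ext.proj y :=
  D.exists_ext.choose_spec.choose_spec.2.1 y

theorem extΦ_incl : D.extΦ (D.ext.incl 1) = D.γ (epsD Λ k) :=
  D.exists_ext.choose_spec.choose_spec.2.2

end DRing

section Tau

variable (P : Algebra.Extension.{u} k B₀)

/-- the target of the tangent class -/
abbrev QT : Type u :=
  (P.Cotangent →ₗ[B₀] B₀) ⧸ LinearMap.range (LinearMap.lcomp B₀ B₀ P.cotangentComplex)

/-- `P` lifts along surjections of `k`-algebras onto `B₀` -/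
def HasLifts : Prop :=
  ∀ (E : Type u) [CommRing E] [Algebra k E] (α : E →ₐ[k] B₀), Function.Surjective α →
    ∃ g : P.Ring →ₐ[k] E, ∀ r, α (g r) = algebraMap P.Ring B₀ r

variable {P}

variable (D : DRing B₀ (ArtFun.Art.dual Λ k)) (G : P.Ring →+* D.E)
  (hGk : ∀ r : k, G (algebraMap k P.Ring r) = D.γ (algD Λ k r))
  (hGα : ∀ r, D.α (G r) = algebraMap P.Ring B₀ r)

/-- the lift to the attached extension -/
noncomputable def gOf : P.Ring →ₐ[k] D.ext.E :=
  { toRingHom := (D.extΦ.symm : D.E →+* D.ext.E).comp G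
    commutes' := fun r => by
      show D.extΦ.symm (G (algebraMap k P.Ring r)) = algebraMap k D.ext.E r
      rw [hGk, ← D.extΦ_alg, RingEquiv.symm_apply_apply] }

theorem gOf_apply (r : P.Ring) : gOf D G hGk r = D.extΦ.symm (G r) := rfl

include hGα in
theorem proj_gOf (r : P.Ring) : D.ext.proj (gOf D G hGk r) = algebraMap P.Ring B₀ r := by
  rw [← D.extΦ_proj, gOf_apply, RingEquiv.apply_symm_apply, hGα]

/-- the linear map `I/I² → B₀` attached to a lift -/
noncomputable def phiOf : P.Cotangent →ₗ[B₀] B₀ :=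
  phi D.ext (gOf D G hGk) (proj_gOf D G hGk hGα)

theorem phiOf_mk (x : P.ker) (y : D.E) (hy : G x = y * D.γ (epsD Λ k)) :
    phiOf D G hGk hGα (Algebra.Extension.Cotangent.mk x) = D.α y := by
  unfold phiOf
  rw [phi_mk]
  apply D.ext.isExtension.incl_injective
  rw [incl_lam, gOf_apply, hy, map_mul, ← D.extΦ_incl, RingEquiv.symm_apply_apply,
    ← Groth.Agent.Lib.DefDualH3.incl_eq_mul, ← D.extΦ_proj, RingEquiv.apply_symm_apply]

theorem exists_lift_dual (hl : HasLifts P) (D : DRing B₀ (ArtFun.Art.dual Λ k)) :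
    ∃ G : P.Ring →+* D.E, (∀ r : k, G (algebraMap k P.Ring r) = D.γ (algD Λ k r)) ∧
      ∀ r, D.α (G r) = algebraMap P.Ring B₀ r := by
  let _ : Algebra k D.E := (D.γ.comp (algD Λ k)).toAlgebra
  let αa : D.E →ₐ[k] B₀ :=
    { toRingHom := D.α
      commutes' := fun r => D.α_algD r }
  obtain ⟨g, hg⟩ := hl D.E αa D.surj
  exact ⟨g, fun r => g.commutes r, hg⟩

/-- the tangent class of a first order deformation ring -/
noncomputable def tau (hl : HasLifts P) (D : DRing B₀ (ArtFun.Art.dual Λ k)) : QT P :=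
  Submodule.Quotient.mk (phiOf D (exists_lift_dual hl D).choose
    (exists_lift_dual hl D).choose_spec.1 (exists_lift_dual hl D).choose_spec.2)

theorem tau_eq (hl : HasLifts P) :
    tau hl D = Submodule.Quotient.mk (phiOf D G hGk hGα) := by
  unfold tau
  rw [Submodule.Quotient.eq]
  exact phi_sub_mem D.ext _ _ _ _

theorem tau_eq_of_equiv (hl : HasLifts P) {D D' : DRing B₀ (ArtFun.Art.dual Λ k)}
    (e : DRing.Equiv D D') : tau hl D = tau hl D' := by
  obtain ⟨G, hGk, hGα⟩ := exists_lift_dual hl D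
  let G' : P.Ring →+* D'.E := (e.Φ : D.E →+* D'.E).comp G
  have hGk' : ∀ r : k, G' (algebraMap k P.Ring r) = D'.γ (algD Λ k r) := by
    intro r
    show e.Φ (G (algebraMap k P.Ring r)) = _
    rw [hGk, e.hγ]
  have hGα' : ∀ r, D'.α (G' r) = algebraMap P.Ring B₀ r := by
    intro r
    show D'.α (e.Φ (G r)) = _
    rw [e.hα, hGα]
  rw [tau_eq D G hGk hGα hl, tau_eq D' G' hGk' hGα' hl]
  congr 1
  apply phi_ext
  intro x
  have hx : D.α (G x) = 0 := by
    rw [hGα]
    exact x.2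
  obtain ⟨y, hy⟩ := D.exists_mul_eps (G x) hx
  rw [phiOf_mk D G hGk hGα x y hy, phiOf_mk D' G' hGk' hGα' x (e.Φ y) (by
    show e.Φ (G x) = _
    rw [hy, map_mul, e.hγ]), e.hα]

theorem equiv_of_tau_eq (hl : HasLifts P) {D D' : DRing B₀ (ArtFun.Art.dual Λ k)}
    (h : tau hl D = tau hl D') : Nonempty (DRing.Equiv D D') := by
  unfold tau at h
  rw [Submodule.Quotient.eq] at h
  obtain ⟨ω⟩ := injective_aux D.ext D'.ext _ _ _ _ h
  let γ₁ : DualNumber k →+* D.E := D.γ
  let γ₂ : DualNumber k →+* D'.E := D'.γ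
  obtain ⟨Ψ, hΨγ, hΨα⟩ := Groth.Agent.Lib.DefDualH3.ringEquiv_of_equiv D.ext D'.ext γ₁ D.α γ₂ D'.α
    (RingEquiv.refl B₀) D.extΦ D'.extΦ DualNumber.eps
    (Groth.Agent.Lib.DefDualH3.isDualLike_dual k).h3
    (fun r => D.extΦ_alg r) (fun y => D.extΦ_proj y) D.extΦ_incl
    (fun r => D'.extΦ_alg r) (fun y => D'.extΦ_proj y) D'.extΦ_incl ω
  exact ⟨⟨Ψ, hΨγ, hΨα⟩⟩

/-- the structure map `k[ε] → X.E` of an extension, on the carrier of `dual Λ k` -/
noncomputable def gammaX (Λ : Type u) [CommRing Λ] [Algebra Λ k] (X : Exal.Ext k B₀ B₀) :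
    (ArtFun.Art.dual Λ k) →+* X.E :=
  (Groth.Agent.Lib.DefDualH3.gammaE X : DualNumber k →+* X.E)

theorem gammaX_eps (X : Exal.Ext k B₀ B₀) : gammaX Λ X (epsD Λ k) = X.incl 1 :=
  Groth.Agent.Lib.DefDualH3.gammaE_eps X

theorem gammaX_alg (X : Exal.Ext k B₀ B₀) (r : k) : gammaX Λ X (algD Λ k r) = algebraMap k X.E r :=
  (Groth.Agent.Lib.DefDualH3.gammaE X).commutes r

theorem proj_gammaX (X : Exal.Ext k B₀ B₀) (a : (ArtFun.Art.dual Λ k)) :
    X.proj (gammaX Λ X a) = algebraMap k B₀ ((ArtFun.Art.dual Λ k).res a) :=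
  Groth.Agent.Lib.DefDualH3.proj_gammaE X a

theorem flat_gammaX (X : Exal.Ext k B₀ B₀) : (gammaX Λ X).Flat :=
  Groth.Agent.Lib.DefDualH3.flat_gammaE X

/-- the deformation ring attached to an extension -/
noncomputable def DRing.ofExt (X : Exal.Ext k B₀ B₀) : DRing B₀ (ArtFun.Art.dual Λ k) where
  E := X.E
  γ := gammaX Λ X
  α := X.proj
  flat := flat_gammaX X
  surj := X.isExtension.proj_surjective
  ker := by
    rw [maximalIdeal_dual, Ideal.map_span, Set.image_singleton, gammaX_eps]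
    ext y
    rw [RingHom.mem_ker, Ideal.mem_span_singleton']
    constructor
    · intro hy
      have hy' : X.proj y = 0 := hy
      obtain ⟨z, hz⟩ := (X.isExtension.exact y).1 hy'
      obtain ⟨w, rfl⟩ := X.isExtension.proj_surjective z
      exact ⟨w, by rw [← hz, Groth.Agent.Lib.DefDualH3.incl_eq_mul]⟩
    · rintro ⟨w, rfl⟩
      show X.proj (w * X.incl 1) = 0
      rw [map_mul, Groth.Agent.Lib.DefDualH3.proj_incl, mul_zero]
  comp := fun a => proj_gammaX X a

/-- a lift to an extension, as a lift to the attached deformation ring -/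
noncomputable def DRing.ofExtLift (Λ : Type u) [CommRing Λ] [Algebra Λ k] (X : Exal.Ext k B₀ B₀)
    (g : P.Ring →ₐ[k] X.E) : P.Ring →+* (DRing.ofExt (Λ := Λ) X).E :=
  (g : P.Ring →+* X.E)

/-- an element of an extension, as an element of the attached deformation ring -/
def DRing.ofExtElt (Λ : Type u) [CommRing Λ] [Algebra Λ k] (X : Exal.Ext k B₀ B₀) (w : X.E) :
    (DRing.ofExt (Λ := Λ) X).E := w

theorem tau_ofExt (hl : HasLifts P) (X : Exal.Ext k B₀ B₀) (g : P.Ring →ₐ[k] X.E)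
    (hg : ∀ r, X.proj (g r) = algebraMap P.Ring B₀ r) :
    tau hl (DRing.ofExt (Λ := Λ) X) = Submodule.Quotient.mk (phi X g hg) := by
  have hGk : ∀ r : k, DRing.ofExtLift Λ X g (algebraMap k P.Ring r) =
      (DRing.ofExt (Λ := Λ) X).γ (algD Λ k r) := by
    intro r
    show g (algebraMap k P.Ring r) = gammaX Λ X (algD Λ k r)
    rw [AlgHom.commutes, gammaX_alg]
  have hGα : ∀ r, (DRing.ofExt (Λ := Λ) X).α (DRing.ofExtLift Λ X g r) =
      algebraMap P.Ring B₀ r := hg
  rw [tau_eq (DRing.ofExt (Λ := Λ) X) (DRing.ofExtLift Λ X g) hGk hGα hl]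
  congr 1
  apply phi_ext
  intro x
  obtain ⟨w, hw⟩ := X.isExtension.proj_surjective (lam X g hg x)
  have hy : DRing.ofExtLift Λ X g x =
      DRing.ofExtElt Λ X w * (DRing.ofExt (Λ := Λ) X).γ (epsD Λ k) := by
    show g x = w * gammaX Λ X (epsD Λ k)
    rw [gammaX_eps, ← Groth.Agent.Lib.DefDualH3.incl_eq_mul, hw, incl_lam]
  rw [phiOf_mk _ _ hGk hGα x (DRing.ofExtElt Λ X w) hy, phi_mk]
  exact hw

theorem tau_surjective (hl : HasLifts P) (q : QT P) :
    ∃ D : DRing B₀ (ArtFun.Art.dual Λ k), tau hl D = q := by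
  obtain ⟨φ, rfl⟩ := Submodule.Quotient.mk_surjective _ q
  obtain ⟨X, g, hg, hφ⟩ := surjective_aux (A := k) φ
  exact ⟨DRing.ofExt X, by rw [tau_ofExt hl X g hg, hφ]⟩

end Tau

end Groth.Agent.Lib.AffDefH3
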