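import Mathlib
import Groth.Prelude.Def_ArtFun4
import Groth.Agent.Lib.AffDef7_helper3

/-!
# Linearity of the tangent class (helper3)

`tau (D.bc (scale c)) = c • tau D` and `tau (D.bc plus) = tau (D.bc pr₁) + tau (D.bc pr₂)`.
-/

set_option autoImplicit false
set_option linter.unusedSectionVars false

universe u

open CategoryTheory CategoryTheory.Limits AlgebraicGeometry
open scoped TensorProduct

namespace Groth.Agent.Lib.AffDefH3

open Groth.Agent.Lib.ExalT1H1 (phi phi_mk phi_ext phi_sub_mem lam incl_lam)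

variable {Λ : Type u} {k : Type u} [CommRing Λ] [Field k] [Algebra Λ k]
  {B₀ : Type u} [CommRing B₀] [Algebra k B₀]

section Basics

noncomputable def eps1 (Λ k : Type u) [CommRing Λ] [Field k] [Algebra Λ k] :
    (ArtFun.Art.dual2 Λ k) := (TrivSqZeroExt.inr ((1 : k), (0 : k)) : TrivSqZeroExt k (k × k))
noncomputable def eps2 (Λ k : Type u) [CommRing Λ] [Field k] [Algebra Λ k] :
    (ArtFun.Art.dual2 Λ k) := (TrivSqZeroExt.inr ((0 : k), (1 : k)) : TrivSqZeroExt k (k × k))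
noncomputable def alg2 (Λ k : Type u) [CommRing Λ] [Field k] [Algebra Λ k] :
    k →+* (ArtFun.Art.dual2 Λ k) :=
  (algebraMap k (TrivSqZeroExt k (k × k)) : k →+* TrivSqZeroExt k (k × k))

theorem pr1_eps1 : (ArtFun.Art.pr₁ : ArtFun.Art.dual2 Λ k ⟶ _) (eps1 Λ k) = epsD Λ k := by
  apply TrivSqZeroExt.ext <;> rfl
theorem pr1_eps2 : (ArtFun.Art.pr₁ : ArtFun.Art.dual2 Λ k ⟶ _) (eps2 Λ k) = 0 := by
  apply TrivSqZeroExt.ext <;> rfl
theorem pr2_eps1 : (ArtFun.Art.pr₂ : ArtFun.Art.dual2 Λ k ⟶ _) (eps1 Λ k) = 0 := by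
  apply TrivSqZeroExt.ext <;> rfl
theorem pr2_eps2 : (ArtFun.Art.pr₂ : ArtFun.Art.dual2 Λ k ⟶ _) (eps2 Λ k) = epsD Λ k := by
  apply TrivSqZeroExt.ext <;> rfl
theorem plus_eps1 : (ArtFun.Art.plus : ArtFun.Art.dual2 Λ k ⟶ _) (eps1 Λ k) = epsD Λ k := by
  apply TrivSqZeroExt.ext
  · rfl
  · show (1 : k) + 0 = 1
    rw [add_zero]
theorem plus_eps2 : (ArtFun.Art.plus : ArtFun.Art.dual2 Λ k ⟶ _) (eps2 Λ k) = epsD Λ k := by
  apply TrivSqZeroExt.ext
  · rfl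
  · show (0 : k) + 1 = 1
    rw [zero_add]
theorem pr1_alg2 (r : k) : (ArtFun.Art.pr₁ : ArtFun.Art.dual2 Λ k ⟶ _) (alg2 Λ k r) = algD Λ k r := by
  apply TrivSqZeroExt.ext
  · rfl
  · show (LinearMap.fst k k k) (algebraMap k (TrivSqZeroExt k (k × k)) r).snd = (algebraMap k (DualNumber k) r).snd
    simp [TrivSqZeroExt.algebraMap_eq_inl]
theorem pr2_alg2 (r : k) : (ArtFun.Art.pr₂ : ArtFun.Art.dual2 Λ k ⟶ _) (alg2 Λ k r) = algD Λ k r := by
  apply TrivSqZeroExt.ext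
  · rfl
  · show (LinearMap.snd k k k) (algebraMap k (TrivSqZeroExt k (k × k)) r).snd = (algebraMap k (DualNumber k) r).snd
    simp [TrivSqZeroExt.algebraMap_eq_inl]
theorem plus_alg2 (r : k) : (ArtFun.Art.plus : ArtFun.Art.dual2 Λ k ⟶ _) (alg2 Λ k r) = algD Λ k r := by
  apply TrivSqZeroExt.ext
  · rfl
  · show (LinearMap.fst k k k + LinearMap.snd k k k) (algebraMap k (TrivSqZeroExt k (k × k)) r).snd = (algebraMap k (DualNumber k) r).snd
    simp [TrivSqZeroExt.algebraMap_eq_inl]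
theorem res_alg2 (r : k) : (ArtFun.Art.dual2 Λ k).res (alg2 Λ k r) = r := rfl
theorem scale_algD (c r : k) : (ArtFun.Art.scale c : ArtFun.Art.dual Λ k ⟶ _) (algD Λ k r) = algD Λ k r := by
  apply TrivSqZeroExt.ext
  · rfl
  · show (c • LinearMap.id : k →ₗ[k] k) (algebraMap k (DualNumber k) r).snd = (algebraMap k (DualNumber k) r).snd
    simp [TrivSqZeroExt.algebraMap_eq_inl]
theorem alg_mul_eps (c : k) :
    algebraMap k (DualNumber k) c * DualNumber.eps = TrivSqZeroExt.inr c := by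
  rw [TrivSqZeroExt.algebraMap_eq_inl, DualNumber.eps, TrivSqZeroExt.inl_mul_inr, smul_eq_mul, mul_one]

theorem alg_mul_inr2 (s : k) (m : k × k) :
    algebraMap k (TrivSqZeroExt k (k × k)) s * TrivSqZeroExt.inr m = TrivSqZeroExt.inr (s • m) := by
  rw [TrivSqZeroExt.algebraMap_eq_inl, TrivSqZeroExt.inl_mul_inr]

theorem scale_epsD (c : k) :
    (ArtFun.Art.scale c : ArtFun.Art.dual Λ k ⟶ _) (epsD Λ k) = algD Λ k c * epsD Λ k := by
  have h : (ArtFun.Art.scale c : ArtFun.Art.dual Λ k ⟶ _) (epsD Λ k) =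
      (TrivSqZeroExt.inr c : DualNumber k) := by
    apply TrivSqZeroExt.ext
    · rfl
    · show c • (1 : k) = c
      rw [smul_eq_mul, mul_one]
  rw [h]
  exact (alg_mul_eps c).symm

theorem decomp2 (a : TrivSqZeroExt k (k × k)) (ha : a.fst = 0) :
    a = algebraMap k (TrivSqZeroExt k (k × k)) a.snd.1 * TrivSqZeroExt.inr ((1 : k), (0 : k)) +
      algebraMap k (TrivSqZeroExt k (k × k)) a.snd.2 * TrivSqZeroExt.inr ((0 : k), (1 : k)) := by
  rw [alg_mul_inr2, alg_mul_inr2, ← TrivSqZeroExt.inr_add]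
  apply TrivSqZeroExt.ext
  · rw [ha, TrivSqZeroExt.fst_inr]
  · rw [TrivSqZeroExt.snd_inr]
    ext <;> simp

theorem fst_comb (s t : TrivSqZeroExt k (k × k)) :
    (s * TrivSqZeroExt.inr ((1 : k), (0 : k)) + t * TrivSqZeroExt.inr ((0 : k), (1 : k))).fst = 0 := by
  rw [TrivSqZeroExt.fst_add, TrivSqZeroExt.fst_mul, TrivSqZeroExt.fst_mul, TrivSqZeroExt.fst_inr,
    TrivSqZeroExt.fst_inr, mul_zero, mul_zero, add_zero]

theorem maximalIdeal_dual2 :
    IsLocalRing.maximalIdeal (ArtFun.Art.dual2 Λ k) = Ideal.span {eps1 Λ k, eps2 Λ k} := by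
  ext a
  rw [ArtFun.Art.mem_maximalIdeal_iff, Ideal.mem_span_pair]
  constructor
  · intro ha
    have ha' : TrivSqZeroExt.fst (a : TrivSqZeroExt k (k × k)) = 0 := ha
    refine ⟨alg2 Λ k (TrivSqZeroExt.snd (a : TrivSqZeroExt k (k × k))).1,
      alg2 Λ k (TrivSqZeroExt.snd (a : TrivSqZeroExt k (k × k))).2, ?_⟩
    exact (decomp2 (a : TrivSqZeroExt k (k × k)) ha').symm
  · rintro ⟨s, t, rfl⟩
    exact fst_comb (s : TrivSqZeroExt k (k × k)) t

end Basics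

section Compat

variable {P : Algebra.Extension.{u} k B₀}

/-- criterion to identify `phiOf` -/
theorem phiOf_eq (D : DRing B₀ (ArtFun.Art.dual Λ k)) (G : P.Ring →+* D.E)
    (hGk : ∀ r : k, G (algebraMap k P.Ring r) = D.γ (algD Λ k r))
    (hGα : ∀ r, D.α (G r) = algebraMap P.Ring B₀ r) (φ : P.Cotangent →ₗ[B₀] B₀)
    (h : ∀ x : P.ker, ∃ y, G x = y * D.γ (epsD Λ k) ∧
      D.α y = φ (Algebra.Extension.Cotangent.mk x)) :
    phiOf D G hGk hGα = φ := by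
  apply phi_ext
  intro x
  obtain ⟨y, hy, hφ⟩ := h x
  rw [phiOf_mk D G hGk hGα x y hy, hφ]

theorem tau_scale (hl : HasLifts P) (D : DRing B₀ (ArtFun.Art.dual Λ k)) (c : k) :
    tau hl (D.bc (ArtFun.Art.scale c)) = c • tau hl D := by
  obtain ⟨G, hGk, hGα⟩ := exists_lift_dual hl D
  have hcomm := comm_of_isPushout _ _ _ _ (D.bc_isPushout (ArtFun.Art.scale c))
  let G' : P.Ring →+* (D.bc (ArtFun.Art.scale c)).E := (D.bcMap (ArtFun.Art.scale c)).comp G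
  have hGk' : ∀ r : k, G' (algebraMap k P.Ring r) = (D.bc (ArtFun.Art.scale c)).γ (algD Λ k r) := by
    intro r
    show D.bcMap (ArtFun.Art.scale c) (G (algebraMap k P.Ring r)) = _
    rw [hGk, hcomm]
    congr 1
    exact scale_algD c r
  have hGα' : ∀ r, (D.bc (ArtFun.Art.scale c)).α (G' r) = algebraMap P.Ring B₀ r := by
    intro r
    show (D.bc (ArtFun.Art.scale c)).α (D.bcMap (ArtFun.Art.scale c) (G r)) = _
    rw [DRing.bc_α, hGα]
  rw [tau_eq D G hGk hGα hl, tau_eq _ G' hGk' hGα' hl, ← Submodule.Quotient.mk_smul]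
  congr 1
  apply phiOf_eq
  intro x
  have hx : D.α (G x) = 0 := by
    rw [hGα]
    exact x.2
  obtain ⟨y, hy⟩ := D.exists_mul_eps (G x) hx
  refine ⟨D.bcMap (ArtFun.Art.scale c) y * (D.bc (ArtFun.Art.scale c)).γ (algD Λ k c), ?_, ?_⟩
  · show D.bcMap (ArtFun.Art.scale c) (G x) = _
    rw [hy, map_mul, hcomm]
    have h1 : (ArtFun.Art.scale c).toAlgHom.toRingHom (epsD Λ k) = algD Λ k c * epsD Λ k :=
      scale_epsD c
    rw [h1, map_mul, mul_assoc]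
  · rw [map_mul, DRing.bc_α, DRing.α_algD, LinearMap.smul_apply, phiOf_mk D G hGk hGα x y hy,
      Algebra.smul_def, mul_comm]

theorem DRing.ker_dual2 (D : DRing B₀ (ArtFun.Art.dual2 Λ k)) (z : D.E) (hz : D.α z = 0) :
    ∃ y₁ y₂, z = y₁ * D.γ (eps1 Λ k) + y₂ * D.γ (eps2 Λ k) := by
  have h : z ∈ RingHom.ker D.α := hz
  rw [D.ker, maximalIdeal_dual2, Ideal.map_span, Set.image_pair, Ideal.mem_span_pair] at h
  obtain ⟨y₁, y₂, h⟩ := h
  exact ⟨y₁, y₂, h.symm⟩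

theorem exists_lift_dual2 (hl : HasLifts P) (D : DRing B₀ (ArtFun.Art.dual2 Λ k)) :
    ∃ G : P.Ring →+* D.E, (∀ r : k, G (algebraMap k P.Ring r) = D.γ (alg2 Λ k r)) ∧
      ∀ r, D.α (G r) = algebraMap P.Ring B₀ r := by
  let _ : Algebra k D.E := (D.γ.comp (alg2 Λ k)).toAlgebra
  let αa : D.E →ₐ[k] B₀ :=
    { toRingHom := D.α
      commutes' := fun r => by
        show D.α (D.γ (alg2 Λ k r)) = algebraMap k B₀ r
        rw [D.comp, res_alg2] }
  obtain ⟨g, hg⟩ := hl D.E αa D.surj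
  exact ⟨g, fun r => g.commutes r, hg⟩

/-- the lift to a base change along `p : dual2 ⟶ dual` -/
theorem lift_bc (D : DRing B₀ (ArtFun.Art.dual2 Λ k)) (G : P.Ring →+* D.E)
    (hGk : ∀ r : k, G (algebraMap k P.Ring r) = D.γ (alg2 Λ k r))
    (hGα : ∀ r, D.α (G r) = algebraMap P.Ring B₀ r)
    (p : ArtFun.Art.dual2 Λ k ⟶ ArtFun.Art.dual Λ k) (hp : ∀ r, p (alg2 Λ k r) = algD Λ k r) :
    (∀ r : k, ((D.bcMap p).comp G) (algebraMap k P.Ring r) = (D.bc p).γ (algD Λ k r)) ∧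
      ∀ r, (D.bc p).α (((D.bcMap p).comp G) r) = algebraMap P.Ring B₀ r := by
  have hcomm := comm_of_isPushout _ _ _ _ (D.bc_isPushout p)
  constructor
  · intro r
    show D.bcMap p (G (algebraMap k P.Ring r)) = _
    rw [hGk, hcomm]
    congr 1
    exact hp r
  · intro r
    show (D.bc p).α (D.bcMap p (G r)) = _
    rw [DRing.bc_α, hGα]

/-- value of `phiOf` of a base change `dual2 ⟶ dual` with `p ε₁ = a₁ ε`, `p ε₂ = a₂ ε`, `aᵢ ∈ {0, 1}` -/
theorem phiOf_bc (D : DRing B₀ (ArtFun.Art.dual2 Λ k)) (G : P.Ring →+* D.E)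
    (hGk : ∀ r : k, G (algebraMap k P.Ring r) = D.γ (alg2 Λ k r))
    (hGα : ∀ r, D.α (G r) = algebraMap P.Ring B₀ r)
    (p : ArtFun.Art.dual2 Λ k ⟶ ArtFun.Art.dual Λ k) (hp : ∀ r, p (alg2 Λ k r) = algD Λ k r)
    (a₁ a₂ : (ArtFun.Art.dual Λ k)) (h1 : p (eps1 Λ k) = a₁ * epsD Λ k)
    (h2 : p (eps2 Λ k) = a₂ * epsD Λ k)
    (x : P.ker) (y₁ y₂ : D.E) (hx : G x = y₁ * D.γ (eps1 Λ k) + y₂ * D.γ (eps2 Λ k)) :
    phiOf (D.bc p) ((D.bcMap p).comp G) (lift_bc D G hGk hGα p hp).1 (lift_bc D G hGk hGα p hp).2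
      (Algebra.Extension.Cotangent.mk x) =
      algebraMap k B₀ ((ArtFun.Art.dual Λ k).res a₁) * D.α y₁ +
        algebraMap k B₀ ((ArtFun.Art.dual Λ k).res a₂) * D.α y₂ := by
  have hcomm := comm_of_isPushout _ _ _ _ (D.bc_isPushout p)
  have hp1 : p.toAlgHom.toRingHom (eps1 Λ k) = a₁ * epsD Λ k := h1
  have hp2 : p.toAlgHom.toRingHom (eps2 Λ k) = a₂ * epsD Λ k := h2
  rw [phiOf_mk (D.bc p) ((D.bcMap p).comp G) _ _ x
    (D.bcMap p y₁ * (D.bc p).γ a₁ + D.bcMap p y₂ * (D.bc p).γ a₂) (by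
      show D.bcMap p (G x) = _
      rw [hx, map_add, map_mul, map_mul, hcomm, hcomm, hp1, hp2, map_mul, map_mul]
      ring)]
  rw [map_add, map_mul, map_mul, DRing.bc_α, DRing.bc_α, (D.bc p).comp, (D.bc p).comp]
  ring

theorem tau_plus (hl : HasLifts P) (D : DRing B₀ (ArtFun.Art.dual2 Λ k)) :
    tau hl (D.bc ArtFun.Art.plus) = tau hl (D.bc ArtFun.Art.pr₁) + tau hl (D.bc ArtFun.Art.pr₂) := by
  obtain ⟨G, hGk, hGα⟩ := exists_lift_dual2 hl D
  have L1 := lift_bc D G hGk hGα ArtFun.Art.pr₁ pr1_alg2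
  have L2 := lift_bc D G hGk hGα ArtFun.Art.pr₂ pr2_alg2
  have L3 := lift_bc D G hGk hGα ArtFun.Art.plus plus_alg2
  rw [tau_eq _ _ L1.1 L1.2 hl, tau_eq _ _ L2.1 L2.2 hl, tau_eq _ _ L3.1 L3.2 hl,
    ← Submodule.Quotient.mk_add]
  congr 1
  apply phi_ext
  intro x
  have hx : D.α (G x) = 0 := by
    rw [hGα]
    exact x.2
  obtain ⟨y₁, y₂, hy⟩ := D.ker_dual2 (G x) hx
  have e1 : (ArtFun.Art.dual Λ k).res (1 : (ArtFun.Art.dual Λ k)) = 1 := map_one _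
  have e0 : (ArtFun.Art.dual Λ k).res (0 : (ArtFun.Art.dual Λ k)) = 0 := map_zero _
  rw [LinearMap.add_apply,
    phiOf_bc D G hGk hGα ArtFun.Art.plus plus_alg2 1 1 (by rw [one_mul]; exact plus_eps1)
      (by rw [one_mul]; exact plus_eps2) x y₁ y₂ hy,
    phiOf_bc D G hGk hGα ArtFun.Art.pr₁ pr1_alg2 1 0 (by rw [one_mul]; exact pr1_eps1)
      (by rw [zero_mul]; exact pr1_eps2) x y₁ y₂ hy,
    phiOf_bc D G hGk hGα ArtFun.Art.pr₂ pr2_alg2 0 1 (by rw [zero_mul]; exact pr2_eps1)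
      (by rw [one_mul]; exact pr2_eps2) x y₁ y₂ hy, e1, e0]
  simp

end Compat

end Groth.Agent.Lib.AffDefH3
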