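import Mathlib
import Groth.Prelude.Def_ArtFun4
import Groth.Agent.Lib.AffDef8_helper3

/-!
# The tangent space of the deformation functor of an affine scheme (helper3)

`tauEquiv : Def(k[ε]) ≃ Hom(I/I², B₀)/Hom(Ω_P ⊗ B₀, B₀)`, the transported `TangentStr`, and `Hfin`.
-/

set_option autoImplicit false
set_option linter.unusedSectionVars false

universe u

open CategoryTheory CategoryTheory.Limits AlgebraicGeometry
open scoped TensorProduct

namespace Groth.Agent.Lib.AffDefH3

variable {Λ : Type u} {k : Type u} [CommRing Λ] [Field k] [Algebra Λ k]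
  {B₀ : Type u} [CommRing B₀] [Algebra k B₀] {P : Algebra.Extension.{u} k B₀}

/-- the tangent class on isomorphism classes -/
noncomputable def tauCl (hl : HasLifts P) (c : (FF Λ k B₀).obj (ArtFun.Art.dual Λ k)) : QT P :=
  tau hl (DRing.exists_rep c).choose

theorem tauCl_cl (hl : HasLifts P) (D : DRing B₀ (ArtFun.Art.dual Λ k)) :
    tauCl hl D.cl = tau hl D := by
  have h := (DRing.exists_rep D.cl).choose_spec
  obtain ⟨e⟩ := DRing.equiv_of_cl_eq h
  exact tau_eq_of_equiv hl e

theorem tauCl_bijective (hl : HasLifts P) :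
    Function.Bijective (tauCl (Λ := Λ) hl) := by
  constructor
  · intro x y hxy
    obtain ⟨D, rfl⟩ := DRing.exists_rep x
    obtain ⟨D', rfl⟩ := DRing.exists_rep y
    rw [tauCl_cl, tauCl_cl] at hxy
    obtain ⟨e⟩ := equiv_of_tau_eq hl hxy
    exact DRing.cl_eq_of_equiv e
  · intro q
    obtain ⟨D, hD⟩ := tau_surjective (Λ := Λ) hl q
    exact ⟨D.cl, by rw [tauCl_cl, hD]⟩

noncomputable def tauEquiv (hl : HasLifts P) :
    (FF Λ k B₀).obj (ArtFun.Art.dual Λ k) ≃ QT P :=
  Equiv.ofBijective _ (tauCl_bijective hl)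

theorem tauEquiv_apply (hl : HasLifts P) (x : (FF Λ k B₀).obj (ArtFun.Art.dual Λ k)) :
    tauEquiv hl x = tauCl hl x := rfl

theorem tauCl_scale (hl : HasLifts P) (c : k) (x : (FF Λ k B₀).obj (ArtFun.Art.dual Λ k)) :
    tauCl hl ((FF Λ k B₀).map (ArtFun.Art.scale c) x) = c • tauCl hl x := by
  obtain ⟨D, rfl⟩ := DRing.exists_rep x
  rw [DRing.map_cl, tauCl_cl, tauCl_cl, tau_scale]

theorem tauCl_plus (hl : HasLifts P) (z : (FF Λ k B₀).obj (ArtFun.Art.dual2 Λ k)) :
    tauCl hl ((FF Λ k B₀).map ArtFun.Art.plus z) =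
      tauCl hl ((FF Λ k B₀).map ArtFun.Art.pr₁ z) + tauCl hl ((FF Λ k B₀).map ArtFun.Art.pr₂ z) := by
  obtain ⟨D, rfl⟩ := DRing.exists_rep z
  rw [DRing.map_cl, DRing.map_cl, DRing.map_cl, tauCl_cl, tauCl_cl, tauCl_cl, tau_plus]

/-- the tangent space structure transported from `QT P` -/
noncomputable def tangentStr (hl : HasLifts P) : ArtFun.TangentStr (FF Λ k B₀) := by
  letI ag : AddCommGroup ((FF Λ k B₀).obj (ArtFun.Art.dual Λ k)) :=
    Equiv.addCommGroup (tauEquiv hl)
  letI md : Module k ((FF Λ k B₀).obj (ArtFun.Art.dual Λ k)) := Equiv.module k (tauEquiv hl)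
  exact
    { addCommGroup := ag
      module := md
      smul_eq := fun c x => by
        rw [Equiv.smul_def, Equiv.symm_apply_eq, tauEquiv_apply, tauEquiv_apply, tauCl_scale]
      add_eq := fun z => by
        rw [Equiv.add_def, Equiv.symm_apply_eq, tauEquiv_apply, tauEquiv_apply, tauEquiv_apply,
          tauCl_plus] }

theorem hfin (hl : HasLifts P) [Module.Finite k (QT P)] :
    @ArtFun.Hfin Λ k _ _ _ (FF Λ k B₀) (tangentStr hl) := by
  letI := tangentStr (Λ := Λ) hl
  have e : ArtFun.TangentSpace (FF Λ k B₀) ≃ₗ[k] QT P := Equiv.linearEquiv k (tauEquiv hl)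
  exact Module.Finite.equiv e.symm

end Groth.Agent.Lib.AffDefH3
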