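import Mathlib
import Groth.Prelude.Def_CotT2

set_option autoImplicit false

namespace Groth.Agent.Lib.T2CmpH1

open TensorProduct CotT

universe u₁ u₂ v w₁ w₂ w₃ w₄ m n n'

section ToLin

variable {B : Type v} [CommRing B]

/-- a map semilinear over `algebraMap B B` is linear. -/
def toLin {X : Type n} {Y : Type n'} [AddCommMonoid X] [Module B X] [AddCommMonoid Y] [Module B Y]
    (g : X →ₛₗ[(algebraMap B B : B →+* B)] Y) : X →ₗ[B] Y where
  toFun := g
  map_add' := g.map_add
  map_smul' b x := by rw [g.map_smulₛₗ]; rfl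

@[simp] theorem toLin_apply {X : Type n} {Y : Type n'} [AddCommMonoid X] [Module B X]
    [AddCommMonoid Y] [Module B Y]
    (g : X →ₛₗ[(algebraMap B B : B →+* B)] Y) (x : X) : toLin g x = g x := rfl

end ToLin

section Cmp

variable {A : Type u₁} {A' : Type u₂} {B : Type v} [CommRing A] [CommRing A'] [CommRing B]
  [Algebra A B] [Algebra A' B]
variable {ι : Type w₁} {σ : Type w₂} {ι' : Type w₃} {σ' : Type w₄}
variable (P : Algebra.Presentation A B ι σ) (P' : Algebra.Presentation A' B ι' σ')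
variable (θ : P.toExtension.Ring →+* P'.toExtension.Ring)

/-- `θ`-semilinear extension of values on the basis. -/
noncomputable def extend (v : σ → relMod P') : relMod P →ₛₗ[θ] relMod P' where
  toFun f := Finsupp.linearCombination P'.toExtension.Ring v (Finsupp.mapRange θ (map_zero _) f)
  map_add' f g := by rw [Finsupp.mapRange_add (map_add _), map_add]
  map_smul' r f := by
    rw [← map_smul]
    congr 1
    ext s
    simp [Finsupp.mapRange_apply, map_mul]

theorem extend_single (v : σ → relMod P') (s : σ) (r : P.toExtension.Ring) :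
    extend P P' θ v (Finsupp.single s r) = θ r • v s := by
  simp [extend]

theorem jmap_extend (v : σ → relMod P') (hv : ∀ s, jmap P' (v s) = θ (rel P s))
    (f : relMod P) : jmap P' (extend P P' θ v f) = θ (jmap P f) := by
  induction f using Finsupp.induction_linear with
  | zero => simp
  | add f g hf hg => rw [map_add, map_add, hf, hg, map_add, map_add]
  | single s r => rw [extend_single, map_smul, hv, jmap_single, smul_eq_mul, map_mul]

variable (hθ : ∀ r, algebraMap P'.toExtension.Ring B (θ r) = algebraMap P.toExtension.Ring B r)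

include hθ in
theorem exists_extend : ∃ α : relMod P →ₛₗ[θ] relMod P',
    ∀ f, jmap P' (α f) = θ (jmap P f) := by
  have h : ∀ s : σ, ∃ y : relMod P', jmap P' y = θ (rel P s) := by
    intro s
    have hmem : θ (rel P s) ∈ LinearMap.range (jmap P') := by
      rw [range_jmap]
      show algebraMap P'.toExtension.Ring B (θ (rel P s)) = 0
      rw [hθ, algebraMap_rel]
    exact hmem
  choose v hv using h
  exact ⟨extend P P' θ v, jmap_extend P P' θ v hv⟩

variable (α : relMod P →ₛₗ[θ] relMod P') (hα : ∀ f, jmap P' (α f) = θ (jmap P f))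

/-- `Q → Q'`. -/
noncomputable def kerMap : relKer P →ₛₗ[θ] relKer P' :=
  (α.comp (relKer P).subtype).codRestrict (relKer P') (fun q => by
    change jmap P' (α (q : relMod P)) = 0
    rw [hα, show jmap P (q : relMod P) = 0 from q.2, map_zero])

@[simp] theorem kerMap_coe (q : relKer P) :
    (kerMap P P' θ α hα q : relMod P') = α q := rfl

include hα in
theorem map_mem_trivRel {y : relMod P} (hy : y ∈ trivRel P) : α y ∈ trivRel P' := by
  induction hy using Submodule.span_induction with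
  | mem x hx =>
    obtain ⟨a, b, rfl⟩ := hx
    refine Submodule.subset_span ⟨α a, α b, ?_⟩
    rw [map_sub, LinearMap.map_smulₛₗ, LinearMap.map_smulₛₗ, hα, hα]
  | zero => simp
  | add x y _ _ hx hy => rw [map_add]; exact Submodule.add_mem _ hx hy
  | smul r x _ hx => rw [LinearMap.map_smulₛₗ]; exact Submodule.smul_mem _ _ hx

/-- `L₁ → L₁'`. -/
noncomputable def L1m : L1 P →ₗ[B] L1 P' :=
  toLin (tensorMap θ (B := B) (B' := B) hθ α)

@[simp] theorem L1m_tmul (b : B) (f : relMod P) :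
    L1m P P' θ hθ α (b ⊗ₜ f) = b ⊗ₜ α f := rfl

/-- `B ⊗ Q → L₂'`. -/
noncomputable def L2mAux : B ⊗[P.toExtension.Ring] relKer P →ₗ[B] L2 P' :=
  (Submodule.mkQ _) ∘ₗ toLin (tensorMap θ (B := B) (B' := B) hθ (kerMap P P' θ α hα))

theorem L2mAux_tmul (b : B) (q : relKer P) :
    L2mAux P P' θ hθ α hα (b ⊗ₜ q) = Submodule.Quotient.mk (b ⊗ₜ kerMap P P' θ α hα q) := rfl

/-- `L₂ → L₂'`. -/
noncomputable def L2m : L2 P →ₗ[B] L2 P' :=
  Submodule.liftQ _ (L2mAux P P' θ hθ α hα) (by
    rintro _ ⟨z, rfl⟩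
    rw [LinearMap.mem_ker]
    induction z using TensorProduct.induction_on with
    | zero => simp
    | add x y hx hy => rw [map_add, map_add, hx, hy, add_zero]
    | tmul b k =>
      rw [LinearMap.baseChange_tmul, L2mAux_tmul, Submodule.Quotient.mk_eq_zero]
      refine ⟨b ⊗ₜ ⟨kerMap P P' θ α hα (k : relKer P), ?_⟩, rfl⟩
      change (kerMap P P' θ α hα (k : relKer P) : relMod P') ∈ trivRel P'
      rw [kerMap_coe]
      exact map_mem_trivRel P P' θ α hα k.2)

@[simp] theorem L2m_mk_tmul (b : B) (q : relKer P) :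
    L2m P P' θ hθ α hα (Submodule.Quotient.mk (b ⊗ₜ q)) =
      Submodule.Quotient.mk (b ⊗ₜ kerMap P P' θ α hα q) := rfl

theorem d2_L2m (z : L2 P) :
    d2 P' (L2m P P' θ hθ α hα z) = L1m P P' θ hθ α (d2 P z) := by
  induction z using Submodule.Quotient.induction_on with
  | H z =>
    induction z using TensorProduct.induction_on with
    | zero => simp
    | add x y hx hy =>
      rw [Submodule.Quotient.mk_add, map_add, map_add, hx, hy, map_add, map_add]
    | tmul b q => rw [L2m_mk_tmul, d2_mk_tmul, d2_mk_tmul, L1m_tmul, kerMap_coe]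

variable (M : Type m) [AddCommGroup M] [Module B M]

/-- the induced map on `T²`. -/
noncomputable def T2m : T2 P' M →ₗ[B] T2 P M :=
  Submodule.mapQ (LinearMap.range (d2Star P' M)) (LinearMap.range (d2Star P M))
    (LinearMap.lcomp B M (L2m P P' θ hθ α hα)) (by
      rintro _ ⟨ψ, rfl⟩
      refine ⟨ψ ∘ₗ L1m P P' θ hθ α, ?_⟩
      apply LinearMap.ext
      intro z
      show ψ (L1m P P' θ hθ α (d2 P z)) = ψ (d2 P' (L2m P P' θ hθ α hα z))
      rw [d2_L2m])

theorem T2m_mk (ψ : L2 P' →ₗ[B] M) :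
    T2m P P' θ hθ α hα M (Submodule.Quotient.mk ψ) =
      Submodule.Quotient.mk (ψ ∘ₗ L2m P P' θ hθ α hα) := rfl

end Cmp

section Inverse

variable {A : Type u₁} {A' : Type u₂} {B : Type v} [CommRing A] [CommRing A'] [CommRing B]
  [Algebra A B] [Algebra A' B]
variable {ι : Type w₁} {σ : Type w₂} {ι' : Type w₃} {σ' : Type w₄}
variable (P : Algebra.Presentation A B ι σ) (P' : Algebra.Presentation A' B ι' σ')
variable (θ : P.toExtension.Ring →+* P'.toExtension.Ring)
  (hθ : ∀ r, algebraMap P'.toExtension.Ring B (θ r) = algebraMap P.toExtension.Ring B r)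
  (α : relMod P →ₛₗ[θ] relMod P') (hα : ∀ f, jmap P' (α f) = θ (jmap P f))
variable (θ' : P'.toExtension.Ring →+* P.toExtension.Ring)
  (hθ' : ∀ r, algebraMap P.toExtension.Ring B (θ' r) = algebraMap P'.toExtension.Ring B r)
  (β : relMod P' →ₛₗ[θ'] relMod P) (hβ : ∀ f, jmap P (β f) = θ' (jmap P' f))
variable (M : Type m) [AddCommGroup M] [Module B M]

/-- the homotopy `F → Q`, `f ↦ β (α f) - f`. -/
noncomputable def gam (hθθ : ∀ r, θ' (θ r) = r) : relMod P →ₗ[P.toExtension.Ring] relKer P where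
  toFun f := ⟨β (α f) - f, by
    change jmap P (β (α f) - f) = 0
    rw [map_sub, hβ, hα, hθθ, sub_self]⟩
  map_add' f g := by
    apply Subtype.ext
    simp only [map_add, Submodule.coe_add]
    abel
  map_smul' r f := by
    apply Subtype.ext
    simp only [LinearMap.map_smulₛₗ, hθθ, RingHom.id_apply, Submodule.coe_smul, smul_sub]

/-- the homotopy `L₁ → L₂`. -/
noncomputable def hom1 (hθθ : ∀ r, θ' (θ r) = r) : L1 P →ₗ[B] L2 P :=
  (Submodule.mkQ _) ∘ₗ (gam P P' θ α hα θ' β hβ hθθ).baseChange B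

theorem hom1_tmul (hθθ : ∀ r, θ' (θ r) = r) (b : B) (f : relMod P) :
    hom1 P P' θ α hα θ' β hβ hθθ (b ⊗ₜ f) =
      Submodule.Quotient.mk (b ⊗ₜ gam P P' θ α hα θ' β hβ hθθ f) := rfl

theorem L2m_L2m_sub (hθθ : ∀ r, θ' (θ r) = r) :
    (L2m P' P θ' hθ' β hβ) ∘ₗ (L2m P P' θ hθ α hα) - LinearMap.id =
      hom1 P P' θ α hα θ' β hβ hθθ ∘ₗ d2 P := by
  refine Submodule.linearMap_qext _ ?_
  refine TensorProduct.AlgebraTensorModule.ext fun b q => ?_
  show (Submodule.Quotient.mk
        (b ⊗ₜ[P.toExtension.Ring] kerMap P' P θ' β hβ (kerMap P P' θ α hα q)) : L2 P) -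
      (Submodule.Quotient.mk (b ⊗ₜ[P.toExtension.Ring] q) : L2 P) =
    (Submodule.Quotient.mk
      (b ⊗ₜ[P.toExtension.Ring] gam P P' θ α hα θ' β hβ hθθ (q : relMod P)) : L2 P)
  have hg : gam P P' θ α hα θ' β hβ hθθ (q : relMod P) =
      kerMap P' P θ' β hβ (kerMap P P' θ α hα q) - q := Subtype.ext rfl
  rw [hg, ← Submodule.Quotient.mk_sub]
  congr 1
  exact (TensorProduct.tmul_sub (R := P.toExtension.Ring) (M := B) b
    (kerMap P' P θ' β hβ (kerMap P P' θ α hα q)) q).symm

theorem d2Star_hom1 (hθθ : ∀ r, θ' (θ r) = r) (ψ : L2 P →ₗ[B] M) :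
    d2Star P M (ψ ∘ₗ hom1 P P' θ α hα θ' β hβ hθθ) =
      (ψ ∘ₗ L2m P' P θ' hθ' β hβ) ∘ₗ L2m P P' θ hθ α hα - ψ := by
  have h := L2m_L2m_sub P P' θ hθ α hα θ' hθ' β hβ hθθ
  rw [d2Star_apply, LinearMap.comp_assoc, ← h, LinearMap.comp_sub, LinearMap.comp_id,
    LinearMap.comp_assoc]

theorem T2m_T2m (hθθ : ∀ r, θ' (θ r) = r) (t : T2 P M) :
    T2m P P' θ hθ α hα M (T2m P' P θ' hθ' β hβ M t) = t := by
  obtain ⟨ψ, rfl⟩ := Submodule.Quotient.mk_surjective _ t
  rw [T2m_mk, T2m_mk]
  refine (Submodule.Quotient.eq _).mpr ?_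
  exact LinearMap.mem_range.mpr ⟨ψ ∘ₗ hom1 P P' θ α hα θ' β hβ hθθ,
    d2Star_hom1 P P' θ hθ α hα θ' hθ' β hβ M hθθ ψ⟩

/-- the comparison isomorphism for an isomorphism of the polynomial rings over `B`. -/
noncomputable def T2equiv (hθθ : ∀ r, θ' (θ r) = r) (hθθ' : ∀ r, θ (θ' r) = r) :
    T2 P' M ≃ₗ[B] T2 P M :=
  { T2m P P' θ hθ α hα M with
    invFun := T2m P' P θ' hθ' β hβ M
    left_inv := fun t => T2m_T2m P' P θ' hθ' β hβ θ hθ α hα M hθθ' t
    right_inv := fun t => T2m_T2m P P' θ hθ α hα θ' hθ' β hβ M hθθ t }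

include hθ hθ' in
theorem nonempty_T2equiv (hθθ : ∀ r, θ' (θ r) = r) (hθθ' : ∀ r, θ (θ' r) = r) :
    Nonempty (T2 P' M ≃ₗ[B] T2 P M) := by
  obtain ⟨α, hα⟩ := exists_extend P P' θ hθ
  obtain ⟨β, hβ⟩ := exists_extend P' P θ' hθ'
  exact ⟨T2equiv P P' θ hθ α hα θ' hθ' β hβ M hθθ hθθ'⟩

end Inverse

section Main12295

universe u w

theorem main12295 (k B : Type u) [CommRing k] [CommRing B] [Algebra k B] (ι σ ι' σ' : Type w)
    (P : Algebra.Presentation k B ι σ) [IsEmpty ι']
    (P' : Algebra.Presentation P.toExtension.Ring B ι' σ')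
    (M : Type m) [AddCommGroup M] [Module B M] :
    Nonempty (CotT.T2 P' M ≃ₗ[B] CotT.T2 P M) := by
  let e : MvPolynomial ι' P.toExtension.Ring ≃ₐ[P.toExtension.Ring] P.toExtension.Ring :=
    MvPolynomial.isEmptyAlgEquiv P.toExtension.Ring ι'
  let θ : P.toExtension.Ring →+* P'.toExtension.Ring :=
    (MvPolynomial.C : P.toExtension.Ring →+* MvPolynomial ι' P.toExtension.Ring)
  let θ' : P'.toExtension.Ring →+* P.toExtension.Ring :=
    (e.toAlgHom.toRingHom : MvPolynomial ι' P.toExtension.Ring →+* P.toExtension.Ring)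
  have hθθ : ∀ r, θ' (θ r) = r := by
    intro r
    show e (MvPolynomial.C r) = r
    exact e.commutes r
  have hθθ' : ∀ p, θ (θ' p) = p := by
    intro p
    show MvPolynomial.C (e p) = p
    have h1 : e.symm (e p) = p := e.symm_apply_apply p
    have h2 : e.symm (e p) = MvPolynomial.C (e p) := e.symm.commutes (e p)
    rw [← h2, h1]
  have hθ : ∀ r, algebraMap P'.toExtension.Ring B (θ r) = algebraMap P.toExtension.Ring B r := by
    intro r
    rw [CotT.algebraMap_toExtension]
    show MvPolynomial.aeval P'.val (MvPolynomial.C r) = _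
    rw [MvPolynomial.aeval_C]
  have hθ' : ∀ p, algebraMap P.toExtension.Ring B (θ' p) = algebraMap P'.toExtension.Ring B p := by
    intro p
    rw [← hθ (θ' p), hθθ']
  exact nonempty_T2equiv P P' θ hθ θ' hθ' M hθθ hθθ'

end Main12295

end Groth.Agent.Lib.T2CmpH1
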