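import Mathlib
import Groth.Prelude.Def_CotT2
import Groth.Agent.Lib.T2Cmp_helper1

set_option autoImplicit false

namespace Groth.Agent.Lib.T2AddVarH1

open TensorProduct CotT MvPolynomial Groth.Agent.Lib.T2CmpH1

universe u v w₁ w₂ w₃ w₄ w₅ m

/-! ### generic polynomial lemmas -/
section Poly

variable {κ : Type w₁} {A : Type u} [CommRing A]

open Classical in
/-- setting the variable `v` to zero. -/
noncomputable def eps (v : κ) : MvPolynomial κ A →ₐ[A] MvPolynomial κ A :=
  aeval (fun w => if w = v then 0 else X w)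

theorem eps_X_self (v : κ) : eps (A := A) v (X v) = 0 := by
  classical
  simp [eps]

theorem eps_X_ne {v w : κ} (h : w ≠ v) : eps (A := A) v (X w) = X w := by
  classical
  simp [eps, h]

theorem sub_eps_mem (v : κ) (p : MvPolynomial κ A) :
    p - eps v p ∈ Ideal.span {(X v : MvPolynomial κ A)} := by
  induction p using MvPolynomial.induction_on with
  | C a =>
    have : eps v (C a) = C a := by simp [eps]
    rw [this, sub_self]
    exact zero_mem _
  | add p q hp hq =>
    rw [map_add, add_sub_add_comm]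
    exact Ideal.add_mem _ hp hq
  | mul_X p w hp =>
    rw [map_mul]
    by_cases h : w = v
    · subst h
      rw [eps_X_self, mul_zero, sub_zero]
      exact Ideal.mul_mem_left _ _ (Ideal.subset_span rfl)
    · rw [eps_X_ne h, ← sub_mul]
      exact Ideal.mul_mem_right _ _ hp

theorem exists_eq_eps_add (v : κ) (p : MvPolynomial κ A) :
    ∃ d, p = eps v p + X v * d := by
  obtain ⟨d, hd⟩ := Ideal.mem_span_singleton'.mp (sub_eps_mem v p)
  exact ⟨d, by rw [mul_comm, hd]; ring⟩

theorem X_mul_eq_zero (v : κ) (g : MvPolynomial κ A) (h : X v * g = 0) : g = 0 := by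
  have h1 := MvPolynomial.X_mul_divMonomial v g
  rw [h, zero_divMonomial] at h1
  exact h1.symm

theorem poly_hε {τ : Type w₂} (v : τ → κ) (hv : Function.Injective v) (t₀ : τ) :
    ∃ ε : MvPolynomial κ A →+* MvPolynomial κ A, ε (X (v t₀)) = 0 ∧
      (∀ t, t ≠ t₀ → ε (X (v t)) = X (v t)) ∧
      ∀ p, ∃ d, p = ε p + X (v t₀) * d :=
  ⟨(eps (A := A) (v t₀)).toRingHom, eps_X_self _, fun _ ht => eps_X_ne (fun h => ht (hv h)),
    fun p => exists_eq_eps_add _ p⟩

end Poly

section Gen

/-- Koszul relations among "independent variables" are trivial: abstract version. -/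
theorem lemC_gen {R : Type u} [CommRing R] {τ : Type w₂} {N : Type w₃} [AddCommGroup N]
    [Module R N] (y : τ → R)
    (hε : ∀ t₀, ∃ ε : R →+* R, ε (y t₀) = 0 ∧ (∀ t, t ≠ t₀ → ε (y t) = y t) ∧
      ∀ p, ∃ d, p = ε p + y t₀ * d)
    (hreg : ∀ t g, y t * g = 0 → g = 0)
    (e : τ → N) (T : Submodule R N)
    (hT : ∀ t t', y t • e t' - y t' • e t ∈ T)
    (S : Finset τ) : ∀ c : τ → R, (∑ t ∈ S, c t * y t) = 0 →
      (∑ t ∈ S, c t • e t) ∈ T := by
  classical
  induction S using Finset.induction_on with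
  | empty =>
    intro c _
    rw [Finset.sum_empty]
    exact zero_mem _
  | insert t₀ S' ht₀ ih =>
    intro c hc
    rw [Finset.sum_insert ht₀] at hc ⊢
    obtain ⟨ε, hε0, hεne, hεd⟩ := hε t₀
    have hd : ∀ t, ∃ d, c t = ε (c t) + y t₀ * d := fun t => hεd (c t)
    choose d hd using hd
    have hne : ∀ t ∈ S', t ≠ t₀ := by
      intro t ht h
      exact ht₀ (h ▸ ht)
    have h1 : (∑ t ∈ S', ε (c t) * y t) = 0 := by
      have h := congrArg ε hc
      rw [map_add, map_mul, hε0, mul_zero, zero_add, map_sum, map_zero] at h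
      rw [← h]
      refine Finset.sum_congr rfl fun t ht => ?_
      rw [map_mul, hεne t (hne t ht)]
    have ih1 := ih (fun t => ε (c t)) h1
    have e1 : (∑ t ∈ S', c t * y t) =
        (∑ t ∈ S', ε (c t) * y t) + y t₀ * ∑ t ∈ S', d t * y t := by
      rw [Finset.mul_sum, ← Finset.sum_add_distrib]
      refine Finset.sum_congr rfl fun t _ => ?_
      conv_lhs => rw [hd t]
      ring
    rw [e1, h1, zero_add] at hc
    have h2 : y t₀ * (c t₀ + ∑ t ∈ S', d t * y t) = 0 := by
      rw [← hc]
      ring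
    have h3 : c t₀ = - ∑ t ∈ S', d t * y t :=
      eq_neg_of_add_eq_zero_left (hreg _ _ h2)
    have key : c t₀ • e t₀ + ∑ t ∈ S', c t • e t =
        (∑ t ∈ S', ε (c t) • e t) +
          ∑ t ∈ S', d t • (y t₀ • e t - y t • e t₀) := by
      rw [h3, neg_smul, Finset.sum_smul, ← Finset.sum_add_distrib, neg_add_eq_sub,
        ← Finset.sum_sub_distrib]
      refine Finset.sum_congr rfl fun t _ => ?_
      conv_lhs => rw [hd t]
      rw [add_smul, smul_sub, smul_smul, smul_smul, mul_comm (y t₀) (d t)]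
      abel
    rw [key]
    refine add_mem ih1 (Submodule.sum_mem _ fun t _ => Submodule.smul_mem _ _ (hT t₀ t))

end Gen


section GenComp

variable {A : Type u} {A' : Type w₄} {B : Type v} [CommRing A] [CommRing A'] [CommRing B]
  [Algebra A B] [Algebra A' B]
variable {ι : Type w₁} {σ : Type w₂} {ι' : Type w₃} {σ' : Type w₅}
variable (P : Algebra.Presentation A B ι σ) (P' : Algebra.Presentation A' B ι' σ')
variable (θ : P.toExtension.Ring →+* P'.toExtension.Ring)
  (hθ : ∀ r, algebraMap P'.toExtension.Ring B (θ r) = algebraMap P.toExtension.Ring B r)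
  (α : relMod P →ₛₗ[θ] relMod P') (hα : ∀ f, jmap P' (α f) = θ (jmap P f))
variable (θ' : P'.toExtension.Ring →+* P.toExtension.Ring)
  (hθ' : ∀ r, algebraMap P.toExtension.Ring B (θ' r) = algebraMap P'.toExtension.Ring B r)
  (β : relMod P' →ₛₗ[θ'] relMod P) (hβ : ∀ f, jmap P (β f) = θ' (jmap P' f))
variable (M : Type m) [AddCommGroup M] [Module B M]

theorem T2m_T2m_of_comp
    (h : L2m P P' θ hθ α hα ∘ₗ L2m P' P θ' hθ' β hβ = LinearMap.id) (t : T2 P' M) :
    T2m P' P θ' hθ' β hβ M (T2m P P' θ hθ α hα M t) = t := by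
  obtain ⟨ψ, rfl⟩ := Submodule.Quotient.mk_surjective _ t
  have h' : (ψ ∘ₗ L2m P P' θ hθ α hα) ∘ₗ L2m P' P θ' hθ' β hβ = ψ := by
    rw [LinearMap.comp_assoc, h, LinearMap.comp_id]
  show (Submodule.Quotient.mk ((ψ ∘ₗ L2m P P' θ hθ α hα) ∘ₗ L2m P' P θ' hθ' β hβ) : T2 P' M) =
    Submodule.Quotient.mk ψ
  rw [h']

end GenComp

section Full

variable {A : Type u} {B : Type v} [CommRing A] [CommRing B] [Algebra A B]

/-- the presentation with all kernel elements as relations. -/
noncomputable def full {κ : Type w₁} (G : Algebra.Generators A B κ) :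
    Algebra.Presentation A B κ G.ker where
  __ := G
  relation := Subtype.val
  span_range_relation_eq_ker := by
    refine le_antisymm (Ideal.span_le.mpr ?_) fun x hx => Ideal.subset_span ⟨⟨x, hx⟩, rfl⟩
    rintro _ ⟨r, rfl⟩
    exact r.2

variable (M : Type m) [AddCommGroup M] [Module B M]

/-- same variables and generators, different relations. -/
theorem T2_sameGen {ι : Type w₁} {σ : Type w₂} {σ' : Type w₃}
    (P : Algebra.Presentation A B ι σ) (P' : Algebra.Presentation A B ι σ')
    (h : P.val = P'.val) : Nonempty (T2 P' M ≃ₗ[B] T2 P M) := by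
  let θ : P.toExtension.Ring →+* P'.toExtension.Ring := RingHom.id (MvPolynomial ι A)
  let θ' : P'.toExtension.Ring →+* P.toExtension.Ring := RingHom.id (MvPolynomial ι A)
  have hθ : ∀ r, algebraMap P'.toExtension.Ring B (θ r) = algebraMap P.toExtension.Ring B r := by
    intro r
    rw [algebraMap_toExtension, algebraMap_toExtension, ← h]
    rfl
  have hθ' : ∀ r, algebraMap P.toExtension.Ring B (θ' r) = algebraMap P'.toExtension.Ring B r := by
    intro r
    rw [algebraMap_toExtension, algebraMap_toExtension, ← h]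
    rfl
  exact nonempty_T2equiv P P' θ hθ θ' hθ' M (fun _ => rfl) (fun _ => rfl)

end Full

section AddVar

variable {A : Type u} {B : Type v} [CommRing A] [CommRing B] [Algebra A B]
variable {ι : Type w₁} {σ : Type w₂}

/-- the inclusion of polynomial rings -/
noncomputable def inc (τ : Type w₃) : MvPolynomial ι A →ₐ[A] MvPolynomial (ι ⊕ τ) A :=
  rename Sum.inl

/-- the retraction -/
noncomputable def ret (τ : Type w₃) : MvPolynomial (ι ⊕ τ) A →ₐ[A] MvPolynomial ι A :=
  aeval (Sum.elim X (fun _ => 0))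

theorem ret_X_inl (τ : Type w₃) (i : ι) : ret (A := A) τ (X (Sum.inl i)) = X i := by
  simp [ret]

theorem ret_X_inr (τ : Type w₃) (t : τ) : ret (ι := ι) (A := A) τ (X (Sum.inr t)) = 0 := by
  simp [ret]

theorem inc_X (τ : Type w₃) (i : ι) : inc (A := A) τ (X i) = X (Sum.inl i) := by
  simp [inc]

theorem ret_inc (τ : Type w₃) (r : MvPolynomial ι A) : ret τ (inc τ r) = r := by
  have h : ((ret τ).comp (inc τ) : MvPolynomial ι A →ₐ[A] MvPolynomial ι A) = AlgHom.id A _ := by
    apply MvPolynomial.algHom_ext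
    intro i
    rw [AlgHom.comp_apply, inc_X, ret_X_inl, AlgHom.id_apply]
  exact DFunLike.congr_fun h r

theorem sub_inc_ret_mem (τ : Type w₃) (f : MvPolynomial (ι ⊕ τ) A) :
    f - inc τ (ret τ f) ∈
      Ideal.span (Set.range (fun t : τ => (X (Sum.inr t) : MvPolynomial (ι ⊕ τ) A))) := by
  induction f using MvPolynomial.induction_on with
  | C a =>
    have : inc τ (ret (ι := ι) τ (C a)) = C a := by simp [inc, ret]
    rw [this, sub_self]
    exact zero_mem _
  | add p q hp hq =>
    rw [map_add, map_add, add_sub_add_comm]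
    exact Ideal.add_mem _ hp hq
  | mul_X p w hp =>
    rw [map_mul, map_mul]
    rcases w with i | t
    · rw [ret_X_inl, inc_X, ← sub_mul]
      exact Ideal.mul_mem_right _ _ hp
    · rw [ret_X_inr, map_zero, mul_zero, sub_zero]
      exact Ideal.mul_mem_left _ _ (Ideal.subset_span ⟨t, rfl⟩)

variable (P : Algebra.Presentation A B ι σ) (τ : Type w₃)

theorem aeval_ext_eq (f : MvPolynomial (ι ⊕ τ) A) :
    aeval (Sum.elim P.val (fun _ : τ => (0 : B))) f = aeval P.val (ret τ f) := by
  have h : (aeval (Sum.elim P.val (fun _ : τ => (0 : B))) : MvPolynomial (ι ⊕ τ) A →ₐ[A] B) =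
      (aeval P.val).comp (ret τ) := by
    apply MvPolynomial.algHom_ext
    rintro (i | t)
    · rw [AlgHom.comp_apply, ret_X_inl, aeval_X, aeval_X, Sum.elim_inl]
    · rw [AlgHom.comp_apply, ret_X_inr, aeval_X, map_zero, Sum.elim_inr]
  exact DFunLike.congr_fun h f

/-- the presentation with extra variables `τ` sent to zero and the extra relations `x_t`. -/
noncomputable def addVar : Algebra.Presentation A B (ι ⊕ τ) (σ ⊕ τ) where
  __ := P.toGenerators.extend (fun _ : τ => (0 : B))
  relation := Sum.elim (fun s => inc τ (P.relation s)) (fun t => X (Sum.inr t))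
  span_range_relation_eq_ker := by
    apply le_antisymm
    · refine Ideal.span_le.mpr ?_
      rintro _ ⟨(s | t), rfl⟩
      · show _ ∈ (P.toGenerators.extend (fun _ : τ => (0 : B))).ker
        rw [Algebra.Generators.ker_eq_ker_aeval_val, RingHom.mem_ker]
        show aeval (Sum.elim P.val (fun _ : τ => (0 : B))) (inc τ (P.relation s)) = 0
        rw [aeval_ext_eq, ret_inc, P.aeval_val_relation]
      · show _ ∈ (P.toGenerators.extend (fun _ : τ => (0 : B))).ker
        rw [Algebra.Generators.ker_eq_ker_aeval_val, RingHom.mem_ker]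
        show aeval (Sum.elim P.val (fun _ : τ => (0 : B))) (X (Sum.inr t)) = 0
        rw [aeval_X, Sum.elim_inr]
    · intro f hf
      rw [Algebra.Generators.ker_eq_ker_aeval_val, RingHom.mem_ker] at hf
      change aeval (Sum.elim P.val (fun _ : τ => (0 : B))) f = 0 at hf
      rw [aeval_ext_eq] at hf
      have h1 : ret τ f ∈ Ideal.span (Set.range P.relation) := by
        rw [P.span_range_relation_eq_ker, Algebra.Generators.ker_eq_ker_aeval_val,
          RingHom.mem_ker]
        exact hf
      have h2 : inc τ (ret τ f) ∈ Ideal.span (Set.range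
          (Sum.elim (fun s => inc τ (P.relation s))
            (fun t => (X (Sum.inr t) : MvPolynomial (ι ⊕ τ) A)))) := by
        have h := Ideal.mem_map_of_mem (inc (ι := ι) (A := A) τ).toRingHom h1
        rw [Ideal.map_span] at h
        refine Ideal.span_mono ?_ h
        rintro _ ⟨_, ⟨s, rfl⟩, rfl⟩
        exact ⟨Sum.inl s, rfl⟩
      have h3 : f - inc τ (ret τ f) ∈ Ideal.span (Set.range
          (Sum.elim (fun s => inc τ (P.relation s))
            (fun t => (X (Sum.inr t) : MvPolynomial (ι ⊕ τ) A)))) := by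
        refine Ideal.span_mono ?_ (sub_inc_ret_mem τ f)
        rintro _ ⟨t, rfl⟩
        exact ⟨Sum.inr t, rfl⟩
      have h4 := Ideal.add_mem _ h3 h2
      rwa [sub_add_cancel] at h4

/-- `R → R°`. -/
noncomputable def thI : P.toExtension.Ring →+* (addVar P τ).toExtension.Ring :=
  (inc (ι := ι) (A := A) τ).toRingHom

theorem thI_apply (r : P.toExtension.Ring) : thI P τ r = inc (ι := ι) (A := A) τ r := rfl

/-- `R° → R`. -/
noncomputable def thR : (addVar P τ).toExtension.Ring →+* P.toExtension.Ring :=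
  (ret (ι := ι) (A := A) τ).toRingHom

theorem thR_apply (f : (addVar P τ).toExtension.Ring) :
    thR P τ f = ret (ι := ι) (A := A) τ f := rfl

theorem thR_thI (r : P.toExtension.Ring) : thR P τ (thI P τ r) = r := by
  rw [thR_apply, thI_apply]
  exact ret_inc (A := A) τ r

theorem hthR (f : (addVar P τ).toExtension.Ring) :
    algebraMap P.toExtension.Ring B (thR P τ f) =
      algebraMap (addVar P τ).toExtension.Ring B f := by
  rw [algebraMap_toExtension, algebraMap_toExtension, thR_apply]
  exact (aeval_ext_eq P τ f).symm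

theorem hthI (r : P.toExtension.Ring) :
    algebraMap (addVar P τ).toExtension.Ring B (thI P τ r) =
      algebraMap P.toExtension.Ring B r := by
  rw [← hthR, thR_thI]

/-- `F → F°`. -/
noncomputable def al : relMod P →ₛₗ[thI P τ] relMod (addVar P τ) :=
  extend P (addVar P τ) (thI P τ) (fun s => Finsupp.single (Sum.inl s) 1)

theorem al_single (s : σ) (r : P.toExtension.Ring) :
    al P τ (Finsupp.single s r) = thI P τ r • Finsupp.single (Sum.inl s) 1 :=
  extend_single _ _ _ _ _ _

theorem hal (f : relMod P) : jmap (addVar P τ) (al P τ f) = thI P τ (jmap P f) := by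
  refine jmap_extend P (addVar P τ) (thI P τ) _ (fun s => ?_) f
  rw [jmap_single, one_mul]
  rfl

/-- `F° → F`. -/
noncomputable def be : relMod (addVar P τ) →ₛₗ[thR P τ] relMod P :=
  extend (addVar P τ) P (thR P τ)
    (Sum.elim (fun s => Finsupp.single s 1) (fun _ => 0))

theorem be_single_inl (s : σ) (r : (addVar P τ).toExtension.Ring) :
    be P τ (Finsupp.single (Sum.inl s) r) = thR P τ r • Finsupp.single s 1 :=
  extend_single _ _ _ _ _ _

theorem be_single_inr (t : τ) (r : (addVar P τ).toExtension.Ring) :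
    be P τ (Finsupp.single (Sum.inr t) r) = 0 := by
  have h := extend_single (addVar P τ) P (thR P τ)
    (Sum.elim (fun s => Finsupp.single s 1) (fun _ => 0)) (Sum.inr t) r
  rw [Sum.elim_inr, smul_zero] at h
  exact h

theorem hbe (f : relMod (addVar P τ)) : jmap P (be P τ f) = thR P τ (jmap (addVar P τ) f) := by
  refine jmap_extend (addVar P τ) P (thR P τ) _ (fun s => ?_) f
  rcases s with s | t
  · rw [Sum.elim_inl, jmap_single, one_mul, thR_apply]
    exact (ret_inc (A := A) τ (P.relation s)).symm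
  · rw [Sum.elim_inr, map_zero, thR_apply]
    exact (ret_X_inr (ι := ι) (A := A) τ t).symm

/-- the extra basis vectors. -/
noncomputable def ey (t : τ) : relMod (addVar P τ) :=
  Finsupp.single (Sum.inr t) (1 : (addVar P τ).toExtension.Ring)

/-- the extra variables. -/
noncomputable def yy (t : τ) : (addVar P τ).toExtension.Ring :=
  (X (Sum.inr t) : MvPolynomial (ι ⊕ τ) A)

theorem jmap_ey (t : τ) : jmap (addVar P τ) (ey P τ t) = yy P τ t := by
  rw [ey, jmap_single, one_mul]
  rfl

theorem kos (a b : relMod (addVar P τ)) :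
    jmap (addVar P τ) a • b - jmap (addVar P τ) b • a ∈ trivRel (addVar P τ) :=
  Submodule.subset_span ⟨a, b, rfl⟩

theorem lemB_aux (s : σ) (x : (addVar P τ).toExtension.Ring)
    (hx : x ∈ Ideal.span (Set.range (yy P τ))) :
    ∃ c : τ →₀ (addVar P τ).toExtension.Ring,
      x • (Finsupp.single (Sum.inl s) 1 : relMod (addVar P τ)) -
        Finsupp.linearCombination _ (ey P τ) c ∈ trivRel (addVar P τ) := by
  induction hx using Submodule.span_induction with
  | mem x hx =>
    obtain ⟨t, rfl⟩ := hx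
    refine ⟨Finsupp.single t (jmap (addVar P τ) (Finsupp.single (Sum.inl s) 1)), ?_⟩
    rw [Finsupp.linearCombination_single, ← jmap_ey]
    exact kos P τ _ _
  | zero =>
    refine ⟨0, ?_⟩
    rw [zero_smul, map_zero, sub_zero]
    exact zero_mem _
  | add x y _ _ hx hy =>
    obtain ⟨c₁, h₁⟩ := hx
    obtain ⟨c₂, h₂⟩ := hy
    refine ⟨c₁ + c₂, ?_⟩
    have h := add_mem h₁ h₂
    rw [add_smul, map_add]
    convert h using 1
    abel
  | smul a x _ hx =>
    obtain ⟨c, h⟩ := hx
    refine ⟨a • c, ?_⟩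
    have h' := Submodule.smul_mem _ a h
    rw [smul_sub, ← map_smul] at h'
    rw [smul_assoc]
    exact h'

theorem lemB (f : relMod (addVar P τ)) :
    ∃ c : τ →₀ (addVar P τ).toExtension.Ring,
      f - al P τ (be P τ f) - Finsupp.linearCombination _ (ey P τ) c ∈ trivRel (addVar P τ) := by
  induction f using Finsupp.induction_linear with
  | zero =>
    refine ⟨0, ?_⟩
    rw [map_zero, map_zero, map_zero, sub_zero, sub_zero]
    exact zero_mem _
  | add f g hf hg =>
    obtain ⟨c₁, h₁⟩ := hf
    obtain ⟨c₂, h₂⟩ := hg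
    refine ⟨c₁ + c₂, ?_⟩
    have h := add_mem h₁ h₂
    rw [map_add, map_add, map_add]
    convert h using 1
    abel
  | single k r =>
    rcases k with s | t
    · have hmem : r - thI P τ (thR P τ r) ∈ Ideal.span (Set.range (yy P τ)) :=
        sub_inc_ret_mem τ r
      obtain ⟨c, hc⟩ := lemB_aux P τ s _ hmem
      refine ⟨c, ?_⟩
      have e1 : (Finsupp.single (Sum.inl s) r : relMod (addVar P τ)) -
          al P τ (be P τ (Finsupp.single (Sum.inl s) r)) =
          (r - thI P τ (thR P τ r)) • (Finsupp.single (Sum.inl s) 1 : relMod (addVar P τ)) := by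
        rw [be_single_inl, LinearMap.map_smulₛₗ, al_single, map_one, one_smul, sub_smul,
          Finsupp.smul_single_one, Finsupp.smul_single_one]
      rw [e1]
      exact hc
    · refine ⟨Finsupp.single t r, ?_⟩
      rw [be_single_inr, map_zero, sub_zero, Finsupp.linearCombination_single, ey,
        Finsupp.smul_single_one, sub_self]
      exact zero_mem _

theorem lemC (S : Finset τ) (c : τ → (addVar P τ).toExtension.Ring)
    (hc : (∑ t ∈ S, c t * yy P τ t) = 0) :
    (∑ t ∈ S, c t • ey P τ t) ∈ trivRel (addVar P τ) := by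
  have hε : ∀ t₀, ∃ ε : (addVar P τ).toExtension.Ring →+* (addVar P τ).toExtension.Ring,
      ε (yy P τ t₀) = 0 ∧ (∀ t, t ≠ t₀ → ε (yy P τ t) = yy P τ t) ∧
        ∀ p, ∃ d, p = ε p + yy P τ t₀ * d :=
    poly_hε (κ := ι ⊕ τ) (A := A) (Sum.inr : τ → ι ⊕ τ) Sum.inr_injective
  have hreg : ∀ t g, yy P τ t * g = 0 → g = 0 :=
    fun t g h => X_mul_eq_zero (κ := ι ⊕ τ) (A := A) (Sum.inr t) g h
  refine lemC_gen (R := (addVar P τ).toExtension.Ring) (yy P τ) hε hreg
    (ey P τ) (trivRel (addVar P τ)) (fun t t' => ?_) S c hc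
  have h := kos P τ (ey P τ t) (ey P τ t')
  rw [jmap_ey, jmap_ey] at h
  exact h

theorem star (q : relMod (addVar P τ)) (hq : q ∈ relKer (addVar P τ)) :
    q - al P τ (be P τ q) ∈ trivRel (addVar P τ) := by
  obtain ⟨c, hc⟩ := lemB P τ q
  have hq0 : jmap (addVar P τ) q = 0 := hq
  have h1 : jmap (addVar P τ) (q - al P τ (be P τ q) -
      Finsupp.linearCombination _ (ey P τ) c) = 0 := trivRel_le_relKer _ hc
  rw [map_sub, map_sub, hal, hbe, hq0, map_zero, map_zero, sub_zero, zero_sub, neg_eq_zero] at h1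
  have h2 : Finsupp.linearCombination (addVar P τ).toExtension.Ring (ey P τ) c =
      ∑ t ∈ c.support, c t • ey P τ t := by
    rw [Finsupp.linearCombination_apply, Finsupp.sum]
  have h3 : (∑ t ∈ c.support, c t * yy P τ t) = 0 := by
    rw [h2, map_sum] at h1
    rw [← h1]
    refine Finset.sum_congr rfl fun t _ => ?_
    rw [map_smul, jmap_ey, smul_eq_mul]
  have h4 := lemC P τ c.support c h3
  rw [← h2] at h4
  have h5 := add_mem hc h4
  rwa [sub_add_cancel] at h5

theorem L2m_comp_eq_id :
    L2m P (addVar P τ) (thI P τ) (hthI P τ) (al P τ) (hal P τ) ∘ₗ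
      L2m (addVar P τ) P (thR P τ) (hthR P τ) (be P τ) (hbe P τ) = LinearMap.id := by
  refine Submodule.linearMap_qext _ ?_
  refine TensorProduct.AlgebraTensorModule.ext fun b q => ?_
  show (Submodule.Quotient.mk
        (b ⊗ₜ[(addVar P τ).toExtension.Ring]
          kerMap P (addVar P τ) (thI P τ) (al P τ) (hal P τ)
            (kerMap (addVar P τ) P (thR P τ) (be P τ) (hbe P τ) q)) : L2 (addVar P τ)) =
      (Submodule.Quotient.mk (b ⊗ₜ[(addVar P τ).toExtension.Ring] q) : L2 (addVar P τ))
  refine (Submodule.Quotient.eq _).mpr ?_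
  have hmem : (kerMap P (addVar P τ) (thI P τ) (al P τ) (hal P τ)
            (kerMap (addVar P τ) P (thR P τ) (be P τ) (hbe P τ) q) - q : relKer (addVar P τ)) ∈
              trivRelKer (addVar P τ) := by
    show ((kerMap P (addVar P τ) (thI P τ) (al P τ) (hal P τ)
            (kerMap (addVar P τ) P (thR P τ) (be P τ) (hbe P τ) q) - q : relKer (addVar P τ)) :
              relMod (addVar P τ)) ∈ trivRel (addVar P τ)
    have h := star P τ (q : relMod (addVar P τ)) q.2
    have h' := neg_mem h
    rw [neg_sub] at h'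
    exact h'
  refine LinearMap.mem_range.mpr ⟨b ⊗ₜ ⟨_, hmem⟩, ?_⟩
  rw [LinearMap.baseChange_tmul]
  exact TensorProduct.tmul_sub (R := (addVar P τ).toExtension.Ring) (M := B)
    (P := relKer (addVar P τ)) b _ _

variable (M : Type m) [AddCommGroup M] [Module B M]

theorem T2m_left (t : T2 (addVar P τ) M) :
    T2m (addVar P τ) P (thR P τ) (hthR P τ) (be P τ) (hbe P τ) M
      (T2m P (addVar P τ) (thI P τ) (hthI P τ) (al P τ) (hal P τ) M t) = t :=
  T2m_T2m_of_comp P (addVar P τ) (thI P τ) (hthI P τ) (al P τ) (hal P τ)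
    (thR P τ) (hthR P τ) (be P τ) (hbe P τ) M (L2m_comp_eq_id P τ) t

theorem T2m_right (t : T2 P M) :
    T2m P (addVar P τ) (thI P τ) (hthI P τ) (al P τ) (hal P τ) M
      (T2m (addVar P τ) P (thR P τ) (hthR P τ) (be P τ) (hbe P τ) M t) = t :=
  T2m_T2m P (addVar P τ) (thI P τ) (hthI P τ) (al P τ) (hal P τ)
    (thR P τ) (hthR P τ) (be P τ) (hbe P τ) M (thR_thI P τ) t

theorem addVar_T2 : Nonempty (T2 (addVar P τ) M ≃ₗ[B] T2 P M) :=
  ⟨LinearEquiv.ofLinearMap
    (T2m P (addVar P τ) (thI P τ) (hthI P τ) (al P τ) (hal P τ) M)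
    (T2m (addVar P τ) P (thR P τ) (hthR P τ) (be P τ) (hbe P τ) M)
    (LinearMap.ext fun t => T2m_right P τ M t)
    (LinearMap.ext fun t => T2m_left P τ M t)⟩

end AddVar

end Groth.Agent.Lib.T2AddVarH1
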