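import Mathlib
import Groth.Prelude.Def_CotT2
import Groth.Agent.Lib.T2Cmp_helper1
import Groth.Agent.Lib.T2AddVar_helper1

set_option autoImplicit false

namespace Groth.Agent.Lib.T2IndepH1

open TensorProduct CotT MvPolynomial Groth.Agent.Lib.T2CmpH1 Groth.Agent.Lib.T2AddVarH1

universe u v w₁ w₂ w₃ w₄ w₅ m

section Shift

variable {A : Type u} [CommRing A] {ι : Type w₁} {ι' : Type w₂}

/-- the shift automorphism `y_j ↦ y_j + q_j(x)`. -/
noncomputable def sh (q : ι' → MvPolynomial ι A) :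
    MvPolynomial (ι ⊕ ι') A →ₐ[A] MvPolynomial (ι ⊕ ι') A :=
  aeval (Sum.elim (fun i => X (Sum.inl i)) (fun j => X (Sum.inr j) + rename Sum.inl (q j)))

theorem sh_X_inl (q : ι' → MvPolynomial ι A) (i : ι) : sh q (X (Sum.inl i)) = X (Sum.inl i) := by
  simp [sh]

theorem sh_X_inr (q : ι' → MvPolynomial ι A) (j : ι') :
    sh q (X (Sum.inr j)) = X (Sum.inr j) + rename Sum.inl (q j) := by
  simp [sh]

theorem sh_rename_inl (q : ι' → MvPolynomial ι A) (r : MvPolynomial ι A) :
    sh q (rename Sum.inl r) = rename Sum.inl r := by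
  have h : ((sh q).comp (rename Sum.inl) : MvPolynomial ι A →ₐ[A] MvPolynomial (ι ⊕ ι') A) =
      rename Sum.inl := by
    apply MvPolynomial.algHom_ext
    intro i
    rw [AlgHom.comp_apply, rename_X, sh_X_inl]
  exact DFunLike.congr_fun h r

theorem sh_sh (q : ι' → MvPolynomial ι A) (x : MvPolynomial (ι ⊕ ι') A) :
    sh (-q) (sh q x) = x := by
  have h : ((sh (-q)).comp (sh q) : MvPolynomial (ι ⊕ ι') A →ₐ[A] MvPolynomial (ι ⊕ ι') A) =
      AlgHom.id A _ := by
    apply MvPolynomial.algHom_ext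
    rintro (i | j)
    · rw [AlgHom.comp_apply, sh_X_inl, sh_X_inl, AlgHom.id_apply]
    · rw [AlgHom.comp_apply, sh_X_inr, map_add, sh_X_inr, sh_rename_inl, AlgHom.id_apply,
        Pi.neg_apply, map_neg]
      abel
  exact DFunLike.congr_fun h x

theorem sh_sh' (q : ι' → MvPolynomial ι A) (x : MvPolynomial (ι ⊕ ι') A) :
    sh q (sh (-q) x) = x := by
  have h := sh_sh (-q) x
  rwa [neg_neg] at h

end Shift

section Chain

variable {A : Type u} {B : Type v} [CommRing A] [CommRing B] [Algebra A B]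
variable {ι : Type w₁} {ι' : Type w₂}
variable (M : Type m) [AddCommGroup M] [Module B M]

/-- shift of the extra variables. -/
theorem T2_shift {σ₁ : Type w₃} {σ₀ : Type w₄}
    (P₁ : Algebra.Presentation A B (ι ⊕ ι') σ₁) (P₀ : Algebra.Presentation A B (ι ⊕ ι') σ₀)
    (g : ι → B) (h₁ : ∀ i, P₁.val (Sum.inl i) = g i) (h₀ : ∀ i, P₀.val (Sum.inl i) = g i)
    (q : ι' → MvPolynomial ι A)
    (hq : ∀ j, P₁.val (Sum.inr j) = P₀.val (Sum.inr j) + aeval g (q j)) :
    Nonempty (T2 P₀ M ≃ₗ[B] T2 P₁ M) := by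
  have key : ∀ x : MvPolynomial (ι ⊕ ι') A, aeval P₀.val (sh q x) = aeval P₁.val x := by
    have h : ((aeval P₀.val).comp (sh q) : MvPolynomial (ι ⊕ ι') A →ₐ[A] B) = aeval P₁.val := by
      apply MvPolynomial.algHom_ext
      rintro (i | j)
      · rw [AlgHom.comp_apply, sh_X_inl, aeval_X, aeval_X, h₀, h₁]
      · have hg : P₀.val ∘ Sum.inl = g := funext h₀
        rw [AlgHom.comp_apply, sh_X_inr, map_add, aeval_X, aeval_X, aeval_rename, hq, hg]
    exact fun x => DFunLike.congr_fun h x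
  let θ : P₁.toExtension.Ring →+* P₀.toExtension.Ring := (sh (ι := ι) (A := A) q).toRingHom
  let θ' : P₀.toExtension.Ring →+* P₁.toExtension.Ring := (sh (ι := ι) (A := A) (-q)).toRingHom
  have hθθ : ∀ r, θ' (θ r) = r := fun r => sh_sh q r
  have hθθ' : ∀ r, θ (θ' r) = r := fun r => sh_sh' q r
  have hθ : ∀ r, algebraMap P₀.toExtension.Ring B (θ r) = algebraMap P₁.toExtension.Ring B r := by
    intro r
    rw [algebraMap_toExtension, algebraMap_toExtension]
    exact key r
  have hθ' : ∀ r, algebraMap P₁.toExtension.Ring B (θ' r) = algebraMap P₀.toExtension.Ring B r := by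
    intro r
    rw [← hθ (θ' r), hθθ']
  exact nonempty_T2equiv P₁ P₀ θ hθ θ' hθ' M hθθ hθθ'

/-- swapping the two blocks of variables. -/
theorem T2_swap {σ₁ : Type w₃} {σ₂ : Type w₄}
    (P₁ : Algebra.Presentation A B (ι ⊕ ι') σ₁) (P₂ : Algebra.Presentation A B (ι' ⊕ ι) σ₂)
    (h : ∀ k, P₂.val k = P₁.val k.swap) :
    Nonempty (T2 P₂ M ≃ₗ[B] T2 P₁ M) := by
  let θ : P₁.toExtension.Ring →+* P₂.toExtension.Ring :=
    (rename Sum.swap : MvPolynomial (ι ⊕ ι') A →ₐ[A] MvPolynomial (ι' ⊕ ι) A).toRingHom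
  let θ' : P₂.toExtension.Ring →+* P₁.toExtension.Ring :=
    (rename Sum.swap : MvPolynomial (ι' ⊕ ι) A →ₐ[A] MvPolynomial (ι ⊕ ι') A).toRingHom
  have hsw : ∀ (κ : Type w₁) (κ' : Type w₂) (x : MvPolynomial (κ ⊕ κ') A),
      rename Sum.swap (rename Sum.swap x) = x := by
    intro κ κ' x
    rw [rename_rename, Sum.swap_swap_eq, rename_id_apply]
  have hsw' : ∀ (κ : Type w₂) (κ' : Type w₁) (x : MvPolynomial (κ ⊕ κ') A),
      rename Sum.swap (rename Sum.swap x) = x := by
    intro κ κ' x
    rw [rename_rename, Sum.swap_swap_eq, rename_id_apply]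
  have hθθ : ∀ r, θ' (θ r) = r := fun r => hsw ι ι' r
  have hθθ' : ∀ r, θ (θ' r) = r := fun r => hsw' ι' ι r
  have hθ : ∀ r, algebraMap P₂.toExtension.Ring B (θ r) = algebraMap P₁.toExtension.Ring B r := by
    intro r
    rw [algebraMap_toExtension, algebraMap_toExtension]
    have hk : ∀ x : MvPolynomial (ι ⊕ ι') A,
        aeval P₂.val (rename Sum.swap x) = aeval P₁.val x := by
      intro x
      have hv : P₂.val ∘ Sum.swap = P₁.val := by
        funext k
        rw [Function.comp_apply, h, Sum.swap_swap]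
      rw [aeval_rename, hv]
    exact hk r
  have hθ' : ∀ r, algebraMap P₁.toExtension.Ring B (θ' r) = algebraMap P₂.toExtension.Ring B r := by
    intro r
    rw [← hθ (θ' r), hθθ']
  exact nonempty_T2equiv P₁ P₂ θ hθ θ' hθ' M hθθ hθθ'

/-- half of the chain: from `P` to the full presentation on the joint generators. -/
theorem T2_half {σ : Type w₃} (P : Algebra.Presentation A B ι σ)
    (G' : Algebra.Generators A B ι') :
    Nonempty (T2 P M ≃ₗ[B] T2 (full (P.toGenerators.extend G'.val)) M) := by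
  have h0 : P.val = (full P.toGenerators).val := rfl
  have e1 := T2_sameGen M P (full P.toGenerators) h0
  have e2 := addVar_T2 (full P.toGenerators) ι' M
  have h1 : ∀ i, (full (P.toGenerators.extend G'.val)).val (Sum.inl i) = P.val i := fun _ => rfl
  have h2 : ∀ i, (addVar (full P.toGenerators) ι').val (Sum.inl i) = P.val i := fun _ => rfl
  have h3 : ∀ j, (full (P.toGenerators.extend G'.val)).val (Sum.inr j) =
      (addVar (full P.toGenerators) ι').val (Sum.inr j) + aeval P.val (P.σ (G'.val j)) := by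
    intro j
    show G'.val j = (0 : B) + aeval P.val (P.σ (G'.val j))
    rw [P.aeval_val_σ, zero_add]
  have e3 := T2_shift M (full (P.toGenerators.extend G'.val)) (addVar (full P.toGenerators) ι')
    P.val h1 h2 (fun j => P.σ (G'.val j)) h3
  exact e1.elim fun e1 => e2.elim fun e2 => e3.elim fun e3 =>
    ⟨(e1.symm.trans e2.symm).trans e3⟩

/-- `T²` does not depend on the presentation. -/
theorem T2_indep {σ : Type w₃} {σ' : Type w₄} (P : Algebra.Presentation A B ι σ)
    (P' : Algebra.Presentation A B ι' σ') :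
    Nonempty (T2 P M ≃ₗ[B] T2 P' M) := by
  have e1 := T2_half M P P'.toGenerators
  have e2 := T2_half M P' P.toGenerators
  have h : ∀ k, (full (P'.toGenerators.extend P.val)).val k =
      (full (P.toGenerators.extend P'.val)).val k.swap := by
    intro k
    rcases k with j | i
    · rfl
    · rfl
  have e3 := T2_swap M (full (P.toGenerators.extend P'.val))
    (full (P'.toGenerators.extend P.val)) h
  exact e1.elim fun e1 => e2.elim fun e2 => e3.elim fun e3 =>
    ⟨(e1.trans e3.symm).trans e2.symm⟩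

end Chain

end Groth.Agent.Lib.T2IndepH1
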