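import Mathlib
import Groth.Prelude.Def_CotT2
import Groth.Agent.S12286
import Groth.Agent.S12289
import Groth.Agent.Lib.T2Indep_helper1

set_option autoImplicit false

namespace Groth.Agent.Lib.T01IndepH1

open TensorProduct CotT

universe u v w w₁ w₂ m

section Ext

variable {A : Type u} {B : Type v} [CommRing A] [CommRing B] [Algebra A B]
variable (M : Type m) [AddCommGroup M] [Module B M]

/-- `Hom(I/I², M)` modulo the maps induced from `Hom(L₀, M)`. -/
abbrev QE (E : Algebra.Extension.{w₁} A B) : Type _ :=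
  (E.Cotangent →ₗ[B] M) ⧸ LinearMap.range (LinearMap.lcomp B M E.cotangentComplex)

variable {E₁ : Algebra.Extension.{w₁} A B} {E₂ : Algebra.Extension.{w₂} A B}

/-- re-bundled `Cotangent.map`. -/
noncomputable def cmap (f : E₁.Hom E₂) : E₁.Cotangent →ₗ[B] E₂.Cotangent where
  toFun := Algebra.Extension.Cotangent.map f
  map_add' x y := map_add _ x y
  map_smul' b x := by
    rw [LinearMap.map_smul]
    rfl

/-- re-bundled `CotangentSpace.map`. -/
noncomputable def smap (f : E₁.Hom E₂) : E₁.CotangentSpace →ₗ[B] E₂.CotangentSpace where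
  toFun := Algebra.Extension.CotangentSpace.map f
  map_add' x y := map_add _ x y
  map_smul' b x := by
    rw [LinearMap.map_smul]
    rfl

theorem smap_d (f : E₁.Hom E₂) (x : E₁.Cotangent) :
    smap f (E₁.cotangentComplex x) = E₂.cotangentComplex (cmap f x) :=
  Algebra.Extension.CotangentSpace.map_cotangentComplex f x

theorem cmap_comp_sub_id (f : E₁.Hom E₂) (g : E₂.Hom E₁) :
    ∃ h : E₁.CotangentSpace →ₗ[B] E₁.Cotangent,
      ∀ x, cmap g (cmap f x) - x = h (E₁.cotangentComplex x) := by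
  refine ⟨(g.comp f).sub (Algebra.Extension.Hom.id E₁), fun x => ?_⟩
  have h1 := Algebra.Extension.Cotangent.map_sub_map (g.comp f) (Algebra.Extension.Hom.id E₁)
  have h2 := DFunLike.congr_fun h1 x
  rw [LinearMap.sub_apply, Algebra.Extension.Cotangent.map_comp,
    Algebra.Extension.Cotangent.map_id] at h2
  exact h2

/-- the induced map on the quotients. -/
noncomputable def QEmap (f : E₁.Hom E₂) : QE M E₂ →ₗ[B] QE M E₁ :=
  Submodule.mapQ _ _ (LinearMap.lcomp B M (cmap f)) (by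
    rintro _ ⟨ψ, rfl⟩
    refine ⟨ψ ∘ₗ smap f, ?_⟩
    apply LinearMap.ext
    intro x
    show ψ (smap f (E₁.cotangentComplex x)) = ψ (E₂.cotangentComplex (cmap f x))
    rw [smap_d])

theorem QEmap_mk (f : E₁.Hom E₂) (φ : E₂.Cotangent →ₗ[B] M) :
    QEmap M f (Submodule.Quotient.mk φ) = Submodule.Quotient.mk (φ ∘ₗ cmap f) := rfl

theorem QEmap_QEmap (f : E₁.Hom E₂) (g : E₂.Hom E₁) (t : QE M E₁) :
    QEmap M f (QEmap M g t) = t := by
  obtain ⟨φ, rfl⟩ := Submodule.Quotient.mk_surjective _ t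
  obtain ⟨h, hh⟩ := cmap_comp_sub_id f g
  rw [QEmap_mk, QEmap_mk]
  refine (Submodule.Quotient.eq _).mpr ?_
  refine LinearMap.mem_range.mpr ⟨φ ∘ₗ h, ?_⟩
  apply LinearMap.ext
  intro x
  show φ (h (E₁.cotangentComplex x)) = φ (cmap g (cmap f x)) - φ x
  rw [← hh, map_sub]

theorem nonempty_QE (f : E₁.Hom E₂) (g : E₂.Hom E₁) : Nonempty (QE M E₁ ≃ₗ[B] QE M E₂) :=
  ⟨LinearEquiv.ofLinearMap (QEmap M g) (QEmap M f)
    (LinearMap.ext fun t => QEmap_QEmap M g f t)
    (LinearMap.ext fun t => QEmap_QEmap M f g t)⟩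

end Ext

section Main

variable (A B : Type u) [CommRing A] [CommRing B] [Algebra A B]

theorem T1_QE (ι σ : Type w) (P : Algebra.Presentation A B ι σ)
    (M : Type m) [AddCommGroup M] [Module B M] :
    Nonempty (QE M P.toExtension ≃ₗ[B] T1 P M) := by
  obtain ⟨_, h2, h3⟩ := Groth.Agent.S12289.result A B ι σ P M
  exact ⟨(Submodule.quotEquivOfEq _ _ h2.symm).trans
    (LinearMap.quotKerEquivOfSurjective (homToT1 P M) h3)⟩

theorem T0_indep (ι σ ι' σ' : Type w)
    (P : Algebra.Presentation A B ι σ) (P' : Algebra.Presentation A B ι' σ')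
    (M : Type m) [AddCommGroup M] [Module B M] : Nonempty (T0 P M ≃ₗ[B] T0 P' M) := by
  letI : Module A M := Module.compHom M (algebraMap A B)
  haveI : IsScalarTower A B M := IsScalarTower.of_algebraMap_smul fun r x => rfl
  have h1 := Groth.Agent.S12286.result A B ι σ P M
  have h2 := Groth.Agent.S12286.result A B ι' σ' P' M
  exact ⟨(LinearEquiv.ofBijective _ h1).symm.trans (LinearEquiv.ofBijective _ h2)⟩

theorem T1_indep (ι σ ι' σ' : Type w)
    (P : Algebra.Presentation A B ι σ) (P' : Algebra.Presentation A B ι' σ')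
    (M : Type m) [AddCommGroup M] [Module B M] : Nonempty (T1 P M ≃ₗ[B] T1 P' M) := by
  have e1 := T1_QE A B ι σ P M
  have e2 := T1_QE A B ι' σ' P' M
  have e3 := nonempty_QE M
    (P.toGenerators.defaultHom P'.toGenerators).toExtensionHom
    (P'.toGenerators.defaultHom P.toGenerators).toExtensionHom
  exact e1.elim fun e1 => e2.elim fun e2 => e3.elim fun e3 =>
    ⟨(e1.symm.trans e3).trans e2⟩

theorem main12283
    (A B : Type u) [CommRing A] [CommRing B] [Algebra A B] (ι σ ι' σ' : Type w)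
    (P : Algebra.Presentation A B ι σ) (P' : Algebra.Presentation A B ι' σ')
    (M : Type m) [AddCommGroup M] [Module B M] :
    Nonempty (CotT.T0 P M ≃ₗ[B] CotT.T0 P' M) ∧ Nonempty (CotT.T1 P M ≃ₗ[B] CotT.T1 P' M) ∧
      Nonempty (CotT.T2 P M ≃ₗ[B] CotT.T2 P' M) :=
  ⟨T0_indep A B ι σ ι' σ' P P' M, T1_indep A B ι σ ι' σ' P P' M,
    Groth.Agent.Lib.T2IndepH1.T2_indep M P P'⟩

end Main

end Groth.Agent.Lib.T01IndepH1
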