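import Mathlib
import Groth.Prelude.Def_CotT2
import Groth.Agent.Lib.T01Indep_helper1

/-!
# `T¹(B/A, -)` killed by a power of `t` iff `B[1/t]` is formally smooth over `A` (helper3)
-/

set_option autoImplicit false

namespace Groth.Agent.Lib.CotT1SmoothH3

open TensorProduct

section Core

variable {B : Type*} [CommRing B] (t : B) (Bt : Type*) [CommRing Bt] [Algebra B Bt]
  [IsLocalization.Away t Bt]

theorem exists_pow_smul_eq_zero_of_tmul {N : Type*} [AddCommGroup N] [Module B N] (y : N)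
    (h : (1 : Bt) ⊗ₜ[B] y = 0) : ∃ l : ℕ, t ^ l • y = 0 := by
  have h1 : y ∈ LinearMap.ker (TensorProduct.mk B Bt N 1) := h
  rw [IsLocalizedModule.mem_ker_iff (Submonoid.powers t)] at h1
  obtain ⟨r, ⟨l, rfl⟩, hr⟩ := h1
  exact ⟨l, hr⟩

theorem exists_pow_smul_eq_tmul {N : Type*} [AddCommGroup N] [Module B N] (x : Bt ⊗[B] N) :
    ∃ (l : ℕ) (y : N), t ^ l • x = (1 : Bt) ⊗ₜ[B] y := by
  obtain ⟨⟨y, ⟨r, ⟨l, rfl⟩⟩⟩, h⟩ :=
    IsLocalizedModule.surj (Submonoid.powers t) (TensorProduct.mk B Bt N 1) x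
  exact ⟨l, y, h⟩

theorem eq_zero_of_pow_smul {N : Type*} [AddCommGroup N] [Module B N] (x : Bt ⊗[B] N) (l : ℕ)
    (h : t ^ l • x = 0) : x = 0 := by
  have hu : IsUnit (algebraMap B Bt (t ^ l)) := by
    rw [map_pow]
    exact (IsLocalization.Away.algebraMap_isUnit t).pow l
  have h2 : algebraMap B Bt (t ^ l) • x = 0 := by rw [algebraMap_smul]; exact h
  obtain ⟨u, hu⟩ := hu
  rw [← hu] at h2
  have := congrArg (fun z => (↑u⁻¹ : Bt) • z) h2
  simpa [smul_smul] using this

variable {C F Om : Type*} [AddCommGroup C] [Module B C] [AddCommGroup F] [Module B F]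
  [AddCommGroup Om] [Module B Om] (d : C →ₗ[B] F) (π : F →ₗ[B] Om)

theorem smul_ker_eq_zero (n : ℕ) (ψ : F →ₗ[B] C) (hψ : ψ ∘ₗ d = t ^ n • LinearMap.id)
    (h : C) (hh : d h = 0) : t ^ n • h = 0 := by
  have := LinearMap.congr_fun hψ h
  simp only [LinearMap.comp_apply, LinearMap.smul_apply, LinearMap.id_apply] at this
  rw [← this, hh, map_zero]

theorem projective_of_almost_split (hex : Function.Exact d π) (hπ : Function.Surjective π)
    [Module.Free B F] (n : ℕ) (ψ : F →ₗ[B] C) (hψ : ψ ∘ₗ d = t ^ n • LinearMap.id) :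
    Module.Projective Bt (Bt ⊗[B] Om) := by
  let ε : F →ₗ[B] F := t ^ n • LinearMap.id - d ∘ₗ ψ
  have hεd : ∀ c, ε (d c) = 0 := by
    intro c
    have := LinearMap.congr_fun hψ c
    simp only [LinearMap.comp_apply, LinearMap.smul_apply, LinearMap.id_apply] at this
    simp only [ε, LinearMap.sub_apply, LinearMap.smul_apply, LinearMap.id_apply,
      LinearMap.comp_apply, this, map_smul, sub_self]
  have hle : LinearMap.range d ≤ LinearMap.ker ε := by
    rintro _ ⟨c, rfl⟩
    exact hεd c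
  let e := hex.linearEquivOfSurjective hπ
  let σ : Om →ₗ[B] F := (Submodule.liftQ (LinearMap.range d) ε hle) ∘ₗ e.symm.toLinearMap
  have hσπ : ∀ x, σ (π x) = ε x := by
    intro x
    have h1 : e.symm (π x) = Submodule.Quotient.mk x := by
      rw [LinearEquiv.symm_apply_eq]
      rfl
    simp only [σ, LinearMap.comp_apply, LinearEquiv.coe_coe, h1, Submodule.liftQ_apply]
  have hπσ : ∀ ω, π (σ ω) = t ^ n • ω := by
    intro ω
    obtain ⟨x, rfl⟩ := hπ ω
    rw [hσπ]
    simp only [ε, LinearMap.sub_apply, LinearMap.smul_apply, LinearMap.id_apply,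
      LinearMap.comp_apply, map_sub, map_smul]
    rw [hex.apply_apply_eq_zero, sub_zero]
  let u : Bt := IsLocalization.Away.invSelf t
  have hu : algebraMap B Bt t * u = 1 := IsLocalization.Away.mul_invSelf t
  let i : Bt ⊗[B] Om →ₗ[Bt] Bt ⊗[B] F := u ^ n • σ.baseChange Bt
  let s : Bt ⊗[B] F →ₗ[Bt] Bt ⊗[B] Om := π.baseChange Bt
  refine Module.Projective.of_split i s ?_
  apply TensorProduct.AlgebraTensorModule.curry_injective
  ext ω
  simp only [i, s, TensorProduct.AlgebraTensorModule.curry_apply, LinearMap.restrictScalars_comp,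
    TensorProduct.curry_apply, LinearMap.coe_comp, LinearMap.coe_restrictScalars,
    Function.comp_apply, LinearMap.smul_apply, LinearMap.baseChange_tmul, map_smul, hπσ,
    LinearMap.id_coe, id_eq]
  rw [TensorProduct.tmul_smul, ← algebraMap_smul Bt (t ^ n) ((1 : Bt) ⊗ₜ[B] ω), smul_smul, map_pow,
    ← mul_pow, mul_comm, hu, one_pow, one_smul]

theorem exists_almost_retraction (hex : Function.Exact d π) (hπ : Function.Surjective π)
    [Module.Finite B C] {ι : Type*} [Finite ι] (b : Module.Basis ι B F)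
    (hker : ∀ h : C, d h = 0 → ∃ l : ℕ, t ^ l • h = 0)
    [Module.Projective Bt (Bt ⊗[B] Om)] :
    ∃ (n : ℕ) (ψ : F →ₗ[B] C), ψ ∘ₗ d = t ^ n • LinearMap.id := by
  classical
  haveI := Fintype.ofFinite ι
  let dt : Bt ⊗[B] C →ₗ[Bt] Bt ⊗[B] F := d.baseChange Bt
  let s : Bt ⊗[B] F →ₗ[Bt] Bt ⊗[B] Om := π.baseChange Bt
  have hs : Function.Surjective s := LinearMap.lTensor_surjective Bt hπ
  obtain ⟨i, hi⟩ := Module.projective_lifting_property s LinearMap.id hs
  have hexact : Function.Exact dt s := lTensor_exact Bt hex hπ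
  have hdt_tmul : ∀ c : C, dt ((1 : Bt) ⊗ₜ[B] c) = (1 : Bt) ⊗ₜ[B] d c := fun c =>
    LinearMap.baseChange_tmul _ _ _
  have hdt_smul : ∀ (r : B) (x : Bt ⊗[B] C), dt (r • x) = r • dt x := fun r x =>
    LinearMap.map_smul_of_tower dt r x
  have hdt_inj : Function.Injective dt := by
    rw [injective_iff_map_eq_zero]
    intro x hx
    obtain ⟨l, c, hc⟩ := exists_pow_smul_eq_tmul t Bt x
    have h1 : (1 : Bt) ⊗ₜ[B] d c = 0 := by
      rw [← hdt_tmul, ← hc, hdt_smul, hx, smul_zero]
    obtain ⟨l', hl'⟩ := exists_pow_smul_eq_zero_of_tmul t Bt (d c) h1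
    obtain ⟨l'', hl''⟩ := hker (t ^ l' • c) (by rw [map_smul, hl'])
    apply eq_zero_of_pow_smul t Bt x (l'' + l' + l)
    rw [pow_add, pow_add, mul_smul, mul_smul, hc, ← TensorProduct.tmul_smul,
      ← TensorProduct.tmul_smul, hl'', TensorProduct.tmul_zero]
  -- lift the basis vectors
  have hz : ∀ j : ι, ∃ w : Bt ⊗[B] C, dt w = (1 : Bt) ⊗ₜ[B] b j - i (s ((1 : Bt) ⊗ₜ[B] b j)) := by
    intro j
    have h0 : s ((1 : Bt) ⊗ₜ[B] b j - i (s ((1 : Bt) ⊗ₜ[B] b j))) = 0 := by
      have := LinearMap.congr_fun hi (s ((1 : Bt) ⊗ₜ[B] b j))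
      simp only [LinearMap.comp_apply, LinearMap.id_apply] at this
      rw [map_sub, this, sub_self]
    exact ((hexact _).mp h0)
  choose w hw using hz
  have hwc : ∀ j : ι, ∃ (l : ℕ) (c : C), t ^ l • w j = (1 : Bt) ⊗ₜ[B] c := fun j =>
    exists_pow_smul_eq_tmul t Bt (w j)
  choose lw cw hcw using hwc
  let m : ℕ := ∑ j, lw j
  have hlm : ∀ j, lw j ≤ m := fun j => Finset.single_le_sum (fun _ _ => Nat.zero_le _)
    (Finset.mem_univ j)
  let c' : ι → C := fun j => t ^ (m - lw j) • cw j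
  have hc' : ∀ j, t ^ m • w j = (1 : Bt) ⊗ₜ[B] c' j := by
    intro j
    have : m = (m - lw j) + lw j := (Nat.sub_add_cancel (hlm j)).symm
    rw [this, pow_add, mul_smul, hcw, ← TensorProduct.tmul_smul]
  let ψ : F →ₗ[B] C := b.constr B c'
  let L : F →ₗ[B] Bt ⊗[B] F :=
    (dt.restrictScalars B) ∘ₗ (TensorProduct.mk B Bt C 1) ∘ₗ ψ
  let Rm : F →ₗ[B] Bt ⊗[B] F :=
    t ^ m • ((TensorProduct.mk B Bt F 1) -
      ((i ∘ₗ s).restrictScalars B) ∘ₗ (TensorProduct.mk B Bt F 1))
  have hLR : L = Rm := by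
    apply b.ext
    intro j
    simp only [L, Rm, LinearMap.comp_apply, LinearMap.restrictScalars_apply,
      TensorProduct.mk_apply, LinearMap.smul_apply, LinearMap.sub_apply, ψ,
      Module.Basis.constr_basis]
    rw [← hc', hdt_smul, hw]
  have hψ1 : ∀ x : F, dt ((1 : Bt) ⊗ₜ[B] ψ x) =
      t ^ m • ((1 : Bt) ⊗ₜ[B] x - i (s ((1 : Bt) ⊗ₜ[B] x))) := by
    intro x
    have := LinearMap.congr_fun hLR x
    simpa only [L, Rm, LinearMap.comp_apply, LinearMap.restrictScalars_apply,
      TensorProduct.mk_apply, LinearMap.smul_apply, LinearMap.sub_apply] using this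
  let θ : C →ₗ[B] C := ψ ∘ₗ d - t ^ m • LinearMap.id
  have hθ : ∀ c : C, ∃ l : ℕ, t ^ l • θ c = 0 := by
    intro c
    have h1 : dt ((1 : Bt) ⊗ₜ[B] ψ (d c)) = dt ((1 : Bt) ⊗ₜ[B] (t ^ m • c)) := by
      rw [hψ1, ← hdt_tmul, hexact.apply_apply_eq_zero, map_zero, sub_zero,
        TensorProduct.tmul_smul, hdt_smul]
    have h2 := hdt_inj h1
    have h3 : (1 : Bt) ⊗ₜ[B] θ c = 0 := by
      simp only [θ, LinearMap.sub_apply, LinearMap.comp_apply, LinearMap.smul_apply,
        LinearMap.id_apply, TensorProduct.tmul_sub, h2, sub_self]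
    exact exists_pow_smul_eq_zero_of_tmul t Bt _ h3
  obtain ⟨r, g, hg⟩ := Module.Finite.exists_fin (R := B) (M := C)
  choose lg hlg using fun k : Fin r => hθ (g k)
  let Lg : ℕ := ∑ k, lg k
  have hLg : ∀ k, lg k ≤ Lg := fun k => Finset.single_le_sum (fun _ _ => Nat.zero_le _)
    (Finset.mem_univ k)
  have hθ0 : t ^ Lg • θ = 0 := by
    apply LinearMap.ext_on hg
    rintro _ ⟨k, rfl⟩
    have : Lg = (Lg - lg k) + lg k := (Nat.sub_add_cancel (hLg k)).symm
    rw [LinearMap.smul_apply, LinearMap.zero_apply, this, pow_add, mul_smul, hlg, smul_zero]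
  refine ⟨Lg + m, t ^ Lg • ψ, ?_⟩
  have h4 : ψ ∘ₗ d = θ + t ^ m • LinearMap.id := by simp only [θ, sub_add_cancel]
  rw [LinearMap.smul_comp, h4, smul_add, hθ0, zero_add, smul_smul, pow_add]

end Core

section App

universe u

open CotT Groth.Agent.Lib.T01IndepH1

variable {A B : Type u} [CommRing A] [CommRing B] [Algebra A B]

theorem formallySmooth_away_iff {ι σ : Type*} [Finite ι] [Finite σ]
    (P : Algebra.Presentation A B ι σ) (t : B) (Bt : Type*) [CommRing Bt] [Algebra B Bt]
    [Algebra A Bt] [IsScalarTower A B Bt] [IsLocalization.Away t Bt] :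
    Algebra.FormallySmooth A Bt ↔
      ∃ (n : ℕ) (ψ : P.toExtension.CotangentSpace →ₗ[B] P.toExtension.Cotangent),
        ψ ∘ₗ P.toExtension.cotangentComplex = t ^ n • LinearMap.id := by
  haveI : Algebra.FormallyEtale B Bt := Algebra.FormallyEtale.of_isLocalization (Submonoid.powers t)
  have hex := P.toExtension.exact_cotangentComplex_toKaehler
  have hπ := P.toExtension.toKaehler_surjective
  let eΩ : Bt ⊗[B] Ω[B⁄A] ≃ₗ[Bt] Ω[Bt⁄A] :=
    KaehlerDifferential.tensorKaehlerEquivOfFormallyEtale A B Bt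
  constructor
  · intro hsm
    haveI : Module.Projective Bt (Bt ⊗[B] Ω[B⁄A]) := Module.Projective.of_equiv eΩ.symm
    have hfg : P.toExtension.ker.FG := by
      have h1 : P.toExtension.ker = Ideal.span (Set.range P.relation) :=
        P.span_range_relation_eq_ker.symm
      rw [h1]
      exact Submodule.fg_span (Set.finite_range _)
    haveI : Module.Finite B P.toExtension.Cotangent := Algebra.Extension.Cotangent.finite hfg
    have hker : ∀ h : P.toExtension.Cotangent, P.toExtension.cotangentComplex h = 0 →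
        ∃ l : ℕ, t ^ l • h = 0 := by
      intro h hh
      let h' : P.toExtension.H1Cotangent := ⟨h, hh⟩
      have hsub : Subsingleton (Algebra.H1Cotangent A Bt) := inferInstance
      rw [IsLocalizedModule.subsingleton_iff (Submonoid.powers t)
        (Algebra.H1Cotangent.map A A B Bt)] at hsub
      obtain ⟨r, ⟨l, rfl⟩, hr⟩ := hsub (P.toGenerators.equivH1Cotangent h')
      rw [← map_smul] at hr
      have h0 : t ^ l • h' = 0 := by
        apply (P.toGenerators.equivH1Cotangent).injective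
        rw [hr, map_zero]
      refine ⟨l, ?_⟩
      have := congrArg Subtype.val h0
      exact this
    exact exists_almost_retraction t Bt P.toExtension.cotangentComplex P.toExtension.toKaehler
      hex hπ P.cotangentSpaceBasis hker
  · rintro ⟨n, ψ, hψ⟩
    haveI : Module.Free B P.toExtension.CotangentSpace := Module.Free.of_basis P.cotangentSpaceBasis
    haveI : Module.Projective Bt (Bt ⊗[B] Ω[B⁄A]) :=
      projective_of_almost_split t Bt P.toExtension.cotangentComplex P.toExtension.toKaehler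
        hex hπ n ψ hψ
    have hproj : Module.Projective Bt Ω[Bt⁄A] := Module.Projective.of_equiv eΩ
    have hsub : Subsingleton (Algebra.H1Cotangent A Bt) := by
      rw [IsLocalizedModule.subsingleton_iff (Submonoid.powers t)
        (Algebra.H1Cotangent.map A A B Bt)]
      intro x
      obtain ⟨h', rfl⟩ := (P.toGenerators.equivH1Cotangent).surjective x
      refine ⟨t ^ n, ⟨n, rfl⟩, ?_⟩
      rw [← map_smul]
      have h0 : t ^ n • h' = 0 := by
        apply Subtype.ext
        exact smul_ker_eq_zero t P.toExtension.cotangentComplex n ψ hψ h'.1 h'.2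
      rw [h0, map_zero]
    exact ⟨hproj, hsub⟩

theorem T1_canon_equiv_QE {ι σ : Type*} (P : Algebra.Presentation A B ι σ)
    (M : Type u) [AddCommGroup M] [Module B M] :
    Nonempty (T1 (canon A B) M ≃ₗ[B] QE M P.toExtension) := by
  have e1 := T1_QE A B B (CanonRels A B) (canon A B) M
  have e3 := nonempty_QE M
    ((canon A B).toGenerators.defaultHom P.toGenerators).toExtensionHom
    (P.toGenerators.defaultHom (canon A B).toGenerators).toExtensionHom
  exact e1.elim fun e1 => e3.elim fun e3 => ⟨e1.symm.trans e3⟩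

theorem main12305 {k : Type u} [Field k] (A B : Type u) [CommRing A] [CommRing B]
    [Algebra k A] [Algebra.FiniteType k A] (t : A)
    [Algebra A B] [Algebra.FiniteType A B] :
    (∀ q : PrimeSpectrum B, algebraMap A B t ∉ q.asIdeal → q ∈ Algebra.smoothLocus A B) ↔
    ∃ n₀ : ℕ, ∀ (M : Type u) [AddCommGroup M] [Module B M] [Module.Finite B M],
      ∀ x : CotT.T1 (CotT.canon A B) M, (algebraMap A B t) ^ n₀ • x = 0 := by
  haveI : IsNoetherianRing A := Algebra.FiniteType.isNoetherianRing k A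
  haveI : Algebra.FinitePresentation A B :=
    Algebra.FinitePresentation.of_finiteType.mp inferInstance
  let P := Algebra.Presentation.ofFinitePresentation A B
  let tB : B := algebraMap A B t
  have h1 : (∀ q : PrimeSpectrum B, tB ∉ q.asIdeal → q ∈ Algebra.smoothLocus A B) ↔
      Algebra.FormallySmooth A (Localization.Away tB) := by
    rw [← Algebra.basicOpen_subset_smoothLocus_iff]
    exact ⟨fun h q hq => h q hq, fun h q hq => h hq⟩
  have hfg : P.toExtension.ker.FG := by
    have h1 : P.toExtension.ker = Ideal.span (Set.range P.relation) :=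
      P.span_range_relation_eq_ker.symm
    rw [h1]
    exact Submodule.fg_span (Set.finite_range _)
  haveI : Module.Finite B P.toExtension.Cotangent := Algebra.Extension.Cotangent.finite hfg
  rw [h1, formallySmooth_away_iff P tB (Localization.Away tB)]
  constructor
  · rintro ⟨n, ψ, hψ⟩
    refine ⟨n, fun M _ _ _ x => ?_⟩
    obtain ⟨e⟩ := T1_canon_equiv_QE P M
    apply e.injective
    rw [map_smul, map_zero]
    obtain ⟨φ, hφ⟩ := Submodule.Quotient.mk_surjective _ (e x)
    rw [← hφ, ← Submodule.Quotient.mk_smul, Submodule.Quotient.mk_eq_zero]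
    refine ⟨φ ∘ₗ ψ, ?_⟩
    rw [LinearMap.lcomp_apply', LinearMap.comp_assoc, hψ, LinearMap.comp_smul, LinearMap.comp_id]
  · rintro ⟨n₀, h⟩
    obtain ⟨e⟩ := T1_canon_equiv_QE P P.toExtension.Cotangent
    have h2 := h P.toExtension.Cotangent (e.symm (Submodule.Quotient.mk LinearMap.id))
    have h3 := congrArg e h2
    rw [map_smul, LinearEquiv.apply_symm_apply, map_zero, ← Submodule.Quotient.mk_smul,
      Submodule.Quotient.mk_eq_zero] at h3
    obtain ⟨ψ, hψ⟩ := h3
    exact ⟨n₀, ψ, hψ⟩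

end App

end Groth.Agent.Lib.CotT1SmoothH3
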