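import Mathlib
import Groth.Prelude.Def_ArtFun4
import Groth.Agent.Lib.AffDef9_helper3
import Groth.Agent.Lib.CotT1Smooth_helper3

/-!
# Finite dimensionality of `T¹` for isolated singularities (helper3)

* `finite_of_annihilator` : a finite module over a finite type `k`-algebra which is killed, away from
  finitely many primes, by powers of elements, is finite dimensional over `k`;
* `finite_QT` : the tangent module `QT P` of a finite type `k`-algebra that is smooth outside finitely many
  primes is finite dimensional;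
* `hasLifts_presentation` : presentations have the lifting property.
-/

set_option autoImplicit false
set_option linter.unusedSectionVars false

universe u

open CategoryTheory

namespace Groth.Agent.Lib.AffDefH3

section Ann

variable {k B Q : Type*} [Field k] [CommRing B] [Algebra k B] [Algebra.FiniteType k B]
  [AddCommGroup Q] [Module B Q] [Module k Q] [IsScalarTower k B Q] [Module.Finite B Q]

theorem isMaximal_of_finite_above [IsJacobsonRing B] (𝔭 : Ideal B) [h𝔭 : 𝔭.IsPrime]
    (hfin : {𝔪 : Ideal B | 𝔭 ≤ 𝔪 ∧ 𝔪.IsMaximal}.Finite) : 𝔭.IsMaximal := by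
  have hjac : 𝔭.jacobson = 𝔭 := IsJacobsonRing.out inferInstance h𝔭.isRadical
  have hinf : hfin.toFinset.inf id ≤ 𝔭 := by
    rw [Finset.inf_id_eq_sInf, Set.Finite.coe_toFinset]
    exact hjac.le
  obtain ⟨𝔪, h𝔪, hle⟩ := (Ideal.IsPrime.inf_le' h𝔭).1 hinf
  rw [Set.Finite.mem_toFinset] at h𝔪
  have : 𝔪 = 𝔭 := le_antisymm hle h𝔪.1
  rw [← this]
  exact h𝔪.2

theorem finite_of_annihilator (Z : Set (PrimeSpectrum B)) (hZ : Z.Finite)
    (h : ∀ 𝔭 : PrimeSpectrum B, 𝔭 ∉ Z → ∃ t ∉ 𝔭.asIdeal, ∃ n : ℕ, ∀ q : Q, t ^ n • q = 0) :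
    Module.Finite k Q := by
  haveI : IsNoetherianRing B := Algebra.FiniteType.isNoetherianRing k B
  haveI : IsJacobsonRing B := isJacobsonRing_of_finiteType (A := k) (B := B)
  let I : Ideal B := Module.annihilator B Q
  -- primes containing `I` lie in `Z`
  have hV : ∀ 𝔭 : PrimeSpectrum B, I ≤ 𝔭.asIdeal → 𝔭 ∈ Z := by
    intro 𝔭 hI
    by_contra hn
    obtain ⟨t, ht, n, hn⟩ := h 𝔭 hn
    have : t ^ n ∈ I := Module.mem_annihilator.2 hn
    exact ht (𝔭.isPrime.mem_of_pow_mem n (hI this))
  -- the quotient has dimension zero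
  have hdim : Ring.KrullDimLE 0 (B ⧸ I) := by
    rw [Ring.krullDimLE_zero_iff]
    intro J hJ
    haveI := hJ
    let 𝔭 : Ideal B := J.comap (Ideal.Quotient.mk I)
    haveI h𝔭 : 𝔭.IsPrime := Ideal.comap_isPrime _ _
    have hI𝔭 : I ≤ 𝔭 := by
      intro x hx
      show Ideal.Quotient.mk I x ∈ J
      rw [Ideal.Quotient.eq_zero_iff_mem.2 hx]
      exact J.zero_mem
    have hfin : {𝔪 : Ideal B | 𝔭 ≤ 𝔪 ∧ 𝔪.IsMaximal}.Finite := by
      let f : {𝔪 : Ideal B | 𝔭 ≤ 𝔪 ∧ 𝔪.IsMaximal} → Z := fun 𝔪 =>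
        ⟨⟨𝔪.1, 𝔪.2.2.isPrime⟩, hV _ (hI𝔭.trans 𝔪.2.1)⟩
      have hf : Function.Injective f := by
        intro a b hab
        apply Subtype.ext
        have := congrArg (fun z : Z => z.1.asIdeal) hab
        exact this
      haveI : Finite Z := hZ
      exact Set.finite_coe_iff.1 (Finite.of_injective f hf)
    haveI hmax : 𝔭.IsMaximal := isMaximal_of_finite_above 𝔭 hfin
    have hJ' : J = 𝔭.map (Ideal.Quotient.mk I) :=
      (Ideal.map_comap_of_surjective _ Ideal.Quotient.mk_surjective J).symm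
    rw [hJ']
    exact Ideal.IsMaximal.map_of_surjective_of_ker_le Ideal.Quotient.mk_surjective
      (by rw [Ideal.mk_ker]; exact hI𝔭)
  haveI : Algebra.FiniteType k (B ⧸ I) :=
    Algebra.FiniteType.of_surjective (Ideal.Quotient.mkₐ k I) (Ideal.Quotient.mkₐ_surjective k I)
  haveI : Module.Finite k (B ⧸ I) := (Module.finite_iff_krullDimLE_zero k (B ⧸ I)).2 hdim
  have hT := Module.isTorsionBySet_annihilator B Q
  letI : Module (B ⧸ I) Q := hT.module
  haveI : IsScalarTower B (B ⧸ I) Q := Module.IsTorsionBySet.isScalarTower hT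
  haveI : IsScalarTower k (B ⧸ I) Q := Module.IsTorsionBySet.isScalarTower hT
  haveI : Module.Finite (B ⧸ I) Q := Module.Finite.of_restrictScalars_finite B (B ⧸ I) Q
  exact Module.Finite.trans (B ⧸ I) Q

end Ann

section QTfin

variable {k : Type u} [Field k] {B₀ : Type u} [CommRing B₀] [Algebra k B₀]

theorem hasLifts_presentation {ι σ : Type} (P : Algebra.Presentation k B₀ ι σ) :
    HasLifts P.toExtension := by
  intro E _ _ α hα
  choose c hc using fun i : ι => hα (P.val i)
  refine ⟨MvPolynomial.aeval c, fun r => ?_⟩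
  have : (α.comp (MvPolynomial.aeval c) : MvPolynomial ι k →ₐ[k] B₀) = MvPolynomial.aeval P.val := by
    apply MvPolynomial.algHom_ext
    intro i
    simp only [AlgHom.comp_apply, MvPolynomial.aeval_X, hc]
  exact (AlgHom.congr_fun this r).trans (P.toGenerators.algebraMap_apply r).symm

theorem hasLifts_presentation' {ι σ : Type u} (P : Algebra.Presentation k B₀ ι σ) :
    HasLifts P.toExtension := by
  intro E _ _ α hα
  choose c hc using fun i : ι => hα (P.val i)
  refine ⟨MvPolynomial.aeval c, fun r => ?_⟩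
  have : (α.comp (MvPolynomial.aeval c) : MvPolynomial ι k →ₐ[k] B₀) = MvPolynomial.aeval P.val := by
    apply MvPolynomial.algHom_ext
    intro i
    simp only [AlgHom.comp_apply, MvPolynomial.aeval_X, hc]
  exact (AlgHom.congr_fun this r).trans (P.toGenerators.algebraMap_apply r).symm

theorem finite_QT [Algebra.FiniteType k B₀] {ι σ : Type} [Finite ι] [Finite σ]
    (P : Algebra.Presentation k B₀ ι σ) (Z : Set (PrimeSpectrum B₀)) (hZ : Z.Finite)
    (hsm : ∀ 𝔭 : PrimeSpectrum B₀, 𝔭 ∉ Z →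
      ∃ t ∉ 𝔭.asIdeal, Algebra.FormallySmooth k (Localization.Away t)) :
    Module.Finite k (QT P.toExtension) := by
  haveI : IsNoetherianRing B₀ := Algebra.FiniteType.isNoetherianRing k B₀
  have hfg : P.toExtension.ker.FG := by
    have h1 : P.toExtension.ker = Ideal.span (Set.range P.relation) :=
      P.span_range_relation_eq_ker.symm
    rw [h1]
    exact Submodule.fg_span (Set.finite_range _)
  haveI : Module.Finite B₀ P.toExtension.Cotangent := Algebra.Extension.Cotangent.finite hfg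
  haveI : IsNoetherian B₀ (P.toExtension.Cotangent →ₗ[B₀] B₀) := isNoetherian_linearMap B₀ B₀ _
  haveI : Module.Finite B₀ (QT P.toExtension) := inferInstance
  refine finite_of_annihilator (k := k) (B := B₀) Z hZ fun 𝔭 h𝔭 => ?_
  obtain ⟨t, ht, hsmooth⟩ := hsm 𝔭 h𝔭
  obtain ⟨n, ψ, hψ⟩ := (Groth.Agent.Lib.CotT1SmoothH3.formallySmooth_away_iff P t
    (Localization.Away t)).1 hsmooth
  refine ⟨t, ht, n, fun q => ?_⟩
  obtain ⟨φ, rfl⟩ := Submodule.Quotient.mk_surjective _ q
  rw [← Submodule.Quotient.mk_smul, Submodule.Quotient.mk_eq_zero]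
  refine ⟨φ ∘ₗ ψ, ?_⟩
  apply LinearMap.ext
  intro x
  rw [LinearMap.lcomp_apply', LinearMap.comp_apply, LinearMap.comp_apply, ← LinearMap.comp_apply ψ,
    hψ, LinearMap.smul_apply, LinearMap.smul_apply, LinearMap.id_apply, map_smul]

end QTfin

end Groth.Agent.Lib.AffDefH3
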