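import Mathlib.Tactic
import Groth.Prelude.Def_ArtFun2
import Groth.Prelude.Def_ArtFun3

/-!
Helper lemmas (helper1) for functors of Artin rings (`ArtFun`).  APPEND-ONLY once landed.
-/

set_option autoImplicit false
universe u v

open CategoryTheory

namespace Groth.Agent.Lib.ArtFunH1

open ArtFun ArtFun.Art

variable {Λ : Type u} {k : Type u} [CommRing Λ] [Field k] [Algebra Λ k]

section Smooth
variable {F G H : Art Λ k ⥤ Type v}

/-- Smoothness in lifting form. -/
theorem isSmooth_iff_lift (η : F ⟶ G) :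
    IsSmooth η ↔ ∀ ⦃B A : Art Λ k⦄ (μ : B ⟶ A), Function.Surjective μ →
      ∀ (x : F.obj A) (g : G.obj B), η.app A x = G.map μ g →
        ∃ z : F.obj B, F.map μ z = x ∧ η.app B z = g := by
  constructor
  · intro h B A μ hμ x g hxg
    obtain ⟨z, hz⟩ := h μ hμ ⟨(x, g), hxg⟩
    exact ⟨z, congrArg (fun t => t.1.1) hz, congrArg (fun t => t.1.2) hz⟩
  · intro h B A μ hμ y
    obtain ⟨z, h1, h2⟩ := h μ hμ y.1.1 y.1.2 y.2
    exact ⟨z, Subtype.ext (Prod.ext h1 h2)⟩

theorem comp_app_apply (φ : F ⟶ G) (ψ : G ⟶ H) (A : Art Λ k) (x : F.obj A) :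
    (φ ≫ ψ).app A x = ψ.app A (φ.app A x) := rfl

theorem isSmooth_comp (φ : F ⟶ G) (ψ : G ⟶ H) (hφ : IsSmooth φ) (hψ : IsSmooth ψ) :
    IsSmooth (φ ≫ ψ) := by
  rw [isSmooth_iff_lift] at hφ hψ ⊢
  intro B A μ hμ x h' hx
  rw [comp_app_apply] at hx
  obtain ⟨g', hg1, hg2⟩ := hψ μ hμ (φ.app A x) h' hx
  obtain ⟨z, hz1, hz2⟩ := hφ μ hμ x g' hg1.symm
  exact ⟨z, hz1, by rw [comp_app_apply, hz2, hg2]⟩

theorem isSmooth_of_comp_of_surjective (φ : F ⟶ G) (ψ : G ⟶ H)
    (hφ : ∀ A : Art Λ k, Function.Surjective (φ.app A)) (h : IsSmooth (φ ≫ ψ)) : IsSmooth ψ := by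
  rw [isSmooth_iff_lift] at h ⊢
  intro B A μ hμ g h' hg
  obtain ⟨x, rfl⟩ := hφ A g
  obtain ⟨z, hz1, hz2⟩ := h μ hμ x h' (by rw [comp_app_apply]; exact hg)
  refine ⟨φ.app B z, ?_, ?_⟩
  · rw [← hz1]
    exact (NatTrans.naturality_apply φ μ z).symm
  · rw [← hz2, comp_app_apply]

theorem surjective_app_of_isSmooth (η : F ⟶ G) (hη : IsSmooth η)
    (h0 : Function.Surjective (η.app (base Λ k))) (A : Art Λ k) :
    Function.Surjective (η.app A) := by
  rw [isSmooth_iff_lift] at hη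
  intro g
  obtain ⟨x₀, hx₀⟩ := h0 (G.map (toBase A) g)
  obtain ⟨z, -, hz⟩ := hη (toBase A) A.res_surjective x₀ g hx₀
  exact ⟨z, hz⟩

end Smooth

section Smooth2
variable {F G : Art Λ k ⥤ Type v}

/-- Surjectivity of the lifting map for a single morphism, in lifting form. -/
theorem relCmp_surjective_iff (η : F ⟶ G) {B A : Art Λ k} (μ : B ⟶ A) :
    Function.Surjective (relCmp η μ) ↔
      ∀ (x : F.obj A) (g : G.obj B), η.app A x = G.map μ g →
        ∃ z : F.obj B, F.map μ z = x ∧ η.app B z = g := by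
  constructor
  · intro h x g hxg
    obtain ⟨z, hz⟩ := h ⟨(x, g), hxg⟩
    exact ⟨z, congrArg (fun t => t.1.1) hz, congrArg (fun t => t.1.2) hz⟩
  · intro h y
    obtain ⟨z, h1, h2⟩ := h y.1.1 y.1.2 y.2
    exact ⟨z, Subtype.ext (Prod.ext h1 h2)⟩

theorem map_comp_apply (F : Art Λ k ⥤ Type v) {A B C : Art Λ k} (f : A ⟶ B) (g : B ⟶ C)
    (x : F.obj A) : F.map (f ≫ g) x = F.map g (F.map f x) := by
  rw [F.map_comp]; rfl

theorem map_id_apply (F : Art Λ k ⥤ Type v) (A : Art Λ k) (x : F.obj A) : F.map (𝟙 A) x = x := by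
  rw [F.map_id]; rfl

end Smooth2

section FibreProdLift
variable {R : Type u} [CommRing R] [Algebra Λ R] {resR : R →ₐ[Λ] k}

theorem HomSet.map_apply {A B : Art Λ k} (f : A ⟶ B) (φ : HomSet R resR A) (r : R) :
    (HomSet.map f φ).1 r = f (φ.1 r) := rfl

/-- Maps into a fibre product are pairs of compatible maps. -/
theorem HomSet.exists_lift_fibreProd {B A A' A'' : Art Λ k} {p' : B ⟶ A'} {p'' : B ⟶ A''}
    {f' : A' ⟶ A} {f'' : A'' ⟶ A} (h : IsFibreProd p' p'' f' f'')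
    (φ' : HomSet R resR A') (φ'' : HomSet R resR A'')
    (hφ : HomSet.map f' φ' = HomSet.map f'' φ'') :
    ∃ ψ : HomSet R resR B, HomSet.map p' ψ = φ' ∧ HomSet.map p'' ψ = φ'' := by
  have hc : ∀ r : R, f' (φ'.1 r) = f'' (φ''.1 r) := by
    intro r
    have := congrArg (fun ψ : HomSet R resR A => ψ.1 r) hφ
    exact this
  choose b hb' hb'' using fun r => h.surj (φ'.1 r) (φ''.1 r) (hc r)
  have hext : ∀ x y : B, p' x = p' y → p'' x = p'' y → x = y := h.inj
  let ψ : R →ₐ[Λ] B :=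
    { toFun := b
      map_one' := by
        apply hext
        · rw [hb']; show φ'.1 1 = p'.toAlgHom 1; rw [map_one, map_one]
        · rw [hb'']; show φ''.1 1 = p''.toAlgHom 1; rw [map_one, map_one]
      map_mul' := fun x y => by
        apply hext
        · rw [hb']; show φ'.1 (x * y) = p'.toAlgHom (b x * b y)
          rw [map_mul, map_mul]; show _ = p' (b x) * p' (b y); rw [hb', hb']
        · rw [hb'']; show φ''.1 (x * y) = p''.toAlgHom (b x * b y)
          rw [map_mul, map_mul]; show _ = p'' (b x) * p'' (b y); rw [hb'', hb'']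
      map_zero' := by
        apply hext
        · rw [hb']; show φ'.1 0 = p'.toAlgHom 0; rw [map_zero, map_zero]
        · rw [hb'']; show φ''.1 0 = p''.toAlgHom 0; rw [map_zero, map_zero]
      map_add' := fun x y => by
        apply hext
        · rw [hb']; show φ'.1 (x + y) = p'.toAlgHom (b x + b y)
          rw [map_add, map_add]; show _ = p' (b x) + p' (b y); rw [hb', hb']
        · rw [hb'']; show φ''.1 (x + y) = p''.toAlgHom (b x + b y)
          rw [map_add, map_add]; show _ = p'' (b x) + p'' (b y); rw [hb'', hb'']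
      commutes' := fun c => by
        apply hext
        · rw [hb']; show φ'.1 (algebraMap Λ R c) = p'.toAlgHom (algebraMap Λ B c)
          rw [AlgHom.commutes, AlgHom.commutes]
        · rw [hb'']; show φ''.1 (algebraMap Λ R c) = p''.toAlgHom (algebraMap Λ B c)
          rw [AlgHom.commutes, AlgHom.commutes] }
  have hψres : B.res.comp ψ = resR := by
    apply AlgHom.ext
    intro r
    show B.res (b r) = resR r
    rw [← res_app p', hb']
    exact AlgHom.congr_fun φ'.2 r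
  refine ⟨⟨ψ, hψres⟩, ?_, ?_⟩
  · apply Subtype.ext
    apply AlgHom.ext
    intro r
    exact hb' r
  · apply Subtype.ext
    apply AlgHom.ext
    intro r
    exact hb'' r

end FibreProdLift

section Versal
variable {R : Type u} [CommRing R] [Algebra Λ R] {resR : R →ₐ[Λ] k} {F : Art Λ k ⥤ Type v}

/-- A versal family which is surjective on every object gives (S1). -/
theorem s1_of_isVersal_of_surjective (ξ : Family R resR F) (hξ : IsVersal ξ)
    (hsurj : ∀ A : Art Λ k, Function.Surjective (ξ.app A)) : S1 F := by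
  intro B A A' A'' p' p'' f' f'' h hf'' y
  obtain ⟨⟨x', x''⟩, hxy⟩ := y
  have hxy' : F.map f' x' = F.map f'' x'' := hxy
  obtain ⟨φ', hφ'⟩ := hsurj A' x'
  obtain ⟨φ'', hφ''1, hφ''2⟩ := hξ f'' hf'' (HomSet.map f' φ') x'' (by
    rw [ξ.natural, hφ', hxy'])
  obtain ⟨ψ, hψ1, hψ2⟩ := HomSet.exists_lift_fibreProd h φ' φ'' hφ''1.symm
  refine ⟨ξ.app B ψ, ?_⟩
  apply FibProd.ext
  · show F.map p' (ξ.app B ψ) = x'
    rw [← ξ.natural, hψ1, hφ']
  · show F.map p'' (ξ.app B ψ) = x''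
    rw [← ξ.natural, hψ2, hφ''2]

/-- `h_R(k)` is a single point. -/
theorem homSet_base_eq (φ ψ : HomSet R resR (base Λ k)) : φ = ψ := by
  apply Subtype.ext
  have h1 : φ.1 = resR := (AlgHom.id_comp _).symm.trans φ.2
  have h2 : ψ.1 = resR := (AlgHom.id_comp _).symm.trans ψ.2
  rw [h1, h2]

theorem h0_of_surjective (ξ : Family R resR F)
    (hsurj : Function.Surjective (ξ.app (base Λ k))) : H0 F := by
  refine ⟨⟨ξ.app (base Λ k) ⟨resR, AlgHom.id_comp _⟩⟩, ⟨fun x y => ?_⟩⟩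
  obtain ⟨φ, rfl⟩ := hsurj x
  obtain ⟨ψ, rfl⟩ := hsurj y
  rw [homSet_base_eq φ ψ]

/-- Two maps into a fibre product with the same components agree. -/
theorem HomSet.ext_fibreProd {B A A' A'' : Art Λ k} {p' : B ⟶ A'} {p'' : B ⟶ A''}
    {f' : A' ⟶ A} {f'' : A'' ⟶ A} (h : IsFibreProd p' p'' f' f'')
    (ψ₁ ψ₂ : HomSet R resR B) (h1 : HomSet.map p' ψ₁ = HomSet.map p' ψ₂)
    (h2 : HomSet.map p'' ψ₁ = HomSet.map p'' ψ₂) : ψ₁ = ψ₂ := by
  apply Subtype.ext
  apply AlgHom.ext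
  intro r
  apply h.inj
  · exact congrArg (fun ψ : HomSet R resR A' => ψ.1 r) h1
  · exact congrArg (fun ψ : HomSet R resR A'' => ψ.1 r) h2

/-- A strongly surjective miniversal family gives `H_ε`. -/
theorem heps_of_isMiniversal_of_surjective (ξ : Family R resR F) (hξ : IsMiniversal ξ)
    (hsurj : ∀ A : Art Λ k, Function.Surjective (ξ.app A)) : Heps F := by
  intro B A' p' p'' h
  refine ⟨?_, ?_⟩
  · intro z₁ z₂ hz
    have hz1 : F.map p' z₁ = F.map p' z₂ := congrArg (fun t => t.1.1) hz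
    have hz2 : F.map p'' z₁ = F.map p'' z₂ := congrArg (fun t => t.1.2) hz
    obtain ⟨ψ₁, rfl⟩ := hsurj B z₁
    have hp'surj : Function.Surjective p' := by
      intro a
      obtain ⟨e, he⟩ := (dual Λ k).res_surjective (A'.res a)
      obtain ⟨b, hb, -⟩ := h.surj a e he.symm
      exact ⟨b, hb⟩
    obtain ⟨ψ₂, hψ₂1, rfl⟩ := hξ.1 p' hp'surj (HomSet.map p' ψ₁) z₂ (by
      rw [ξ.natural, hz1])
    have h3 : HomSet.map p'' ψ₁ = HomSet.map p'' ψ₂ := by
      apply hξ.2.1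
      rw [ξ.natural, ξ.natural, hz2]
    rw [HomSet.ext_fibreProd h ψ₁ ψ₂ hψ₂1.symm h3]
  · exact s1_of_isVersal_of_surjective ξ hξ.1 hsurj p' p'' _ _ h (dual Λ k).res_surjective

end Versal

end Groth.Agent.Lib.ArtFunH1
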