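import Mathlib.Tactic
import Mathlib.RingTheory.LocalRing.Pullback
import Mathlib.RingTheory.Length
import Mathlib.RingTheory.HopkinsLevitzki
import Mathlib.Algebra.Module.Torsion.Basic
import Groth.Prelude.Def_ArtFun5
import Groth.Agent.Lib.ArtFun_helper1
import Groth.Agent.S12708

/-!
Helper lemmas (helper1): finite length of Artinian local `Λ`-algebras with residue field `k` over `Λ`
and existence of fibre products in `ArtFun.Art Λ k`.  APPEND-ONLY once landed.
-/

set_option autoImplicit false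
universe u v

open CategoryTheory

namespace Groth.Agent.Lib.ArtFunH1

open ArtFun ArtFun.Art

variable {Λ : Type u} {k : Type u} [CommRing Λ] [Field k] [Algebra Λ k]

theorem ker_algebraMap_isMaximal [Module.Finite Λ k] :
    (RingHom.ker (algebraMap Λ k)).IsMaximal := by
  have : Algebra.IsIntegral Λ k := inferInstance
  have h := Ideal.isMaximal_comap_of_isIntegral_of_isMaximal (R := Λ) (⊥ : Ideal k)
  rwa [← RingHom.ker_eq_comap_bot] at h

theorem isArtinian_resField [Module.Finite Λ k] : IsArtinian Λ k := by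
  have hp : (RingHom.ker (algebraMap Λ k)).IsMaximal := ker_algebraMap_isMaximal
  have htors : Module.IsTorsionBySet Λ k (RingHom.ker (algebraMap Λ k) : Set Λ) := by
    intro x a
    have ha : algebraMap Λ k a = 0 := a.2
    rw [Algebra.smul_def, ha, zero_mul]
  let _ : Module (Λ ⧸ RingHom.ker (algebraMap Λ k)) k := htors.module
  have : IsScalarTower Λ (Λ ⧸ RingHom.ker (algebraMap Λ k)) k := htors.isScalarTower
  have : IsArtinianRing (Λ ⧸ RingHom.ker (algebraMap Λ k)) := by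
    let _ := Ideal.Quotient.field (RingHom.ker (algebraMap Λ k))
    infer_instance
  have : Module.Finite (Λ ⧸ RingHom.ker (algebraMap Λ k)) k :=
    Module.Finite.of_restrictScalars_finite Λ _ _
  exact isArtinian_of_surjective_algebraMap (R := Λ ⧸ RingHom.ker (algebraMap Λ k))
    Ideal.Quotient.mk_surjective

theorem length_resField_ne_top [IsNoetherianRing Λ] [Module.Finite Λ k] :
    Module.length Λ k ≠ ⊤ := by
  have := isArtinian_resField (Λ := Λ) (k := k)
  exact Module.length_ne_top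

theorem isFiniteLength_art [IsNoetherianRing Λ] [Module.Finite Λ k] (A : Art Λ k) :
    IsFiniteLength Λ A := by
  let _ : Algebra A k := A.res.toRingHom.toAlgebra
  have : IsScalarTower Λ A k := IsScalarTower.of_algebraMap_eq fun c => (A.res.commutes c).symm
  have h := Groth.Agent.S12708.result (Λ := Λ) (k := k) A A.res_surjective A
  rw [← Module.length_ne_top_iff, ← h]
  exact WithTop.mul_ne_top length_resField_ne_top Module.length_ne_top

instance isArtinian_art [IsNoetherianRing Λ] [Module.Finite Λ k] (A : Art Λ k) :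
    IsArtinian Λ A :=
  (isFiniteLength_iff_isNoetherian_isArtinian.mp (isFiniteLength_art A)).2


section FibreProd

variable [IsNoetherianRing Λ] [Module.Finite Λ k]

/-- The fibre product `A₁ ×_A A₂` as an object, for `f₂` surjective. -/
noncomputable def fibObj {A A₁ A₂ : Art Λ k} (f₁ : A₁ ⟶ A) (f₂ : A₂ ⟶ A)
    (hf₂ : Function.Surjective f₂) : Art Λ k :=
  haveI : IsLocalHom f₂.toAlgHom := Art.isLocalHom f₂
  haveI : IsLocalRing (AlgHom.pullback f₁.toAlgHom f₂.toAlgHom) :=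
    AlgHom.isLocalRing_pullback f₁.toAlgHom f₂.toAlgHom
  haveI : IsArtinianRing (AlgHom.pullback f₁.toAlgHom f₂.toAlgHom) := by
    have h1 : IsArtinian Λ (A₁ × A₂) := inferInstance
    have h2 : IsArtinian Λ (Subalgebra.toSubmodule (AlgHom.pullback f₁.toAlgHom f₂.toAlgHom)) :=
      inferInstance
    exact isArtinian_of_tower Λ h2
  { carrier := AlgHom.pullback f₁.toAlgHom f₂.toAlgHom
    res := A₁.res.comp (AlgHom.pullbackFst f₁.toAlgHom f₂.toAlgHom)
    res_surjective := A₁.res_surjective.comp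
      (AlgHom.surjective_pullbackFst_of_surjective f₁.toAlgHom f₂.toAlgHom hf₂) }

noncomputable def fibFst {A A₁ A₂ : Art Λ k} (f₁ : A₁ ⟶ A) (f₂ : A₂ ⟶ A)
    (hf₂ : Function.Surjective f₂) : fibObj f₁ f₂ hf₂ ⟶ A₁ :=
  ⟨AlgHom.pullbackFst f₁.toAlgHom f₂.toAlgHom, rfl⟩

noncomputable def fibSnd {A A₁ A₂ : Art Λ k} (f₁ : A₁ ⟶ A) (f₂ : A₂ ⟶ A)
    (hf₂ : Function.Surjective f₂) : fibObj f₁ f₂ hf₂ ⟶ A₂ :=
  ⟨AlgHom.pullbackSnd f₁.toAlgHom f₂.toAlgHom, by
    apply AlgHom.ext
    intro x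
    have hx : f₁ x.1.1 = f₂ x.1.2 := x.2
    show A₂.res x.1.2 = A₁.res x.1.1
    rw [← Art.res_app f₂, ← hx, Art.res_app f₁]⟩

theorem isFibreProd_fib {A A₁ A₂ : Art Λ k} (f₁ : A₁ ⟶ A) (f₂ : A₂ ⟶ A)
    (hf₂ : Function.Surjective f₂) :
    Art.IsFibreProd (fibFst f₁ f₂ hf₂) (fibSnd f₁ f₂ hf₂) f₁ f₂ where
  w := by
    apply Art.hom_ext
    exact AlgHom.pullback_comm_sq f₁.toAlgHom f₂.toAlgHom
  inj b₁ b₂ h₁ h₂ := Subtype.ext (Prod.ext h₁ h₂)
  surj a' a'' h := ⟨⟨(a', a''), h⟩, rfl, rfl⟩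

theorem exists_isFibreProd {A A₁ A₂ : Art Λ k} (f₁ : A₁ ⟶ A) (f₂ : A₂ ⟶ A)
    (hf₂ : Function.Surjective f₂) :
    ∃ (B : Art Λ k) (p₁ : B ⟶ A₁) (p₂ : B ⟶ A₂), Art.IsFibreProd p₁ p₂ f₁ f₂ :=
  ⟨_, _, _, isFibreProd_fib f₁ f₂ hf₂⟩

end FibreProd

end Groth.Agent.Lib.ArtFunH1
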