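import Mathlib.Tactic
import Groth.Prelude.Def_ArtFun5
import Groth.Agent.Lib.ArtFunFib_helper1
import Groth.Agent.S12707

/-!
Helper lemmas (helper1): passing from small extensions to all surjections for the comparison maps
of fibre-product squares.  APPEND-ONLY once landed.
-/

set_option autoImplicit false
universe u v

open CategoryTheory

namespace Groth.Agent.Lib.ArtFunH1

open ArtFun ArtFun.Art

variable {Λ : Type u} {k : Type u} [CommRing Λ] [Field k] [Algebra Λ k]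

theorem Art.exists_lift_fibreProd {B A A' A'' C : Art Λ k} {p' : B ⟶ A'} {p'' : B ⟶ A''}
    {f' : A' ⟶ A} {f'' : A'' ⟶ A} (h : IsFibreProd p' p'' f' f'')
    (g' : C ⟶ A') (g'' : C ⟶ A'') (hg : g' ≫ f' = g'' ≫ f'') :
    ∃ u : C ⟶ B, u ≫ p' = g' ∧ u ≫ p'' = g'' := by
  obtain ⟨ψ, h1, h2⟩ := HomSet.exists_lift_fibreProd (R := C) (resR := C.res) h
    ⟨g'.toAlgHom, g'.res_comp⟩ ⟨g''.toAlgHom, g''.res_comp⟩ (by
      apply Subtype.ext
      exact congrArg Art.Hom.toAlgHom hg)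
  refine ⟨⟨ψ.1, ψ.2⟩, ?_, ?_⟩
  · apply Art.hom_ext
    exact congrArg Subtype.val h1
  · apply Art.hom_ext
    exact congrArg Subtype.val h2

theorem Art.hom_ext_fibreProd {B A A' A'' C : Art Λ k} {p' : B ⟶ A'} {p'' : B ⟶ A''}
    {f' : A' ⟶ A} {f'' : A'' ⟶ A} (h : IsFibreProd p' p'' f' f'')
    (u v : C ⟶ B) (h1 : u ≫ p' = v ≫ p') (h2 : u ≫ p'' = v ≫ p'') : u = v := by
  apply Art.hom_ext
  apply AlgHom.ext
  intro c
  apply h.inj
  · exact congrArg (fun w : C ⟶ A' => w c) h1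
  · exact congrArg (fun w : C ⟶ A'' => w c) h2

section Cmp
variable {F : Art Λ k ⥤ Type v}

theorem cmp_surjective_iff {B A A' A'' : Art Λ k} {p' : B ⟶ A'} {p'' : B ⟶ A''}
    {f' : A' ⟶ A} {f'' : A'' ⟶ A} (h : IsFibreProd p' p'' f' f'') :
    Function.Surjective (cmp F h) ↔
      ∀ (x' : F.obj A') (x'' : F.obj A''), F.map f' x' = F.map f'' x'' →
        ∃ z : F.obj B, F.map p' z = x' ∧ F.map p'' z = x'' := by
  constructor
  · intro hs x' x'' hx
    obtain ⟨z, hz⟩ := hs ⟨(x', x''), hx⟩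
    exact ⟨z, congrArg (fun t => t.1.1) hz, congrArg (fun t => t.1.2) hz⟩
  · intro hs y
    obtain ⟨z, h1, h2⟩ := hs y.1.1 y.1.2 y.2
    exact ⟨z, FibProd.ext h1 h2⟩

theorem cmp_injective_iff {B A A' A'' : Art Λ k} {p' : B ⟶ A'} {p'' : B ⟶ A''}
    {f' : A' ⟶ A} {f'' : A'' ⟶ A} (h : IsFibreProd p' p'' f' f'') :
    Function.Injective (cmp F h) ↔
      ∀ (z w : F.obj B), F.map p' z = F.map p' w → F.map p'' z = F.map p'' w → z = w := by
  constructor
  · intro hi z w h1 h2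
    exact hi (FibProd.ext h1 h2)
  · intro hi z w hzw
    exact hi z w (congrArg (fun t => t.1.1) hzw) (congrArg (fun t => t.1.2) hzw)

end Cmp

/-- If `f''` is an isomorphism then `p'` is one, with explicit inverse. -/
theorem exists_inv_of_isIso {B A A' A'' : Art Λ k} {p' : B ⟶ A'} {p'' : B ⟶ A''}
    {f' : A' ⟶ A} {f'' : A'' ⟶ A} (h : IsFibreProd p' p'' f' f'') [IsIso f''] :
    ∃ s : A' ⟶ B, s ≫ p' = 𝟙 A' ∧ p' ≫ s = 𝟙 B ∧ s ≫ p'' = f' ≫ inv f'' := by
  obtain ⟨s, hs1, hs2⟩ := Art.exists_lift_fibreProd h (𝟙 A') (f' ≫ inv f'') (by simp)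
  refine ⟨s, hs1, ?_, hs2⟩
  apply Art.hom_ext_fibreProd h
  · rw [Category.assoc, hs1, Category.comp_id, Category.id_comp]
  · rw [Category.assoc, hs2, Category.id_comp, ← Category.assoc, h.w, Category.assoc,
      IsIso.hom_inv_id, Category.comp_id]

section Mid
variable [IsNoetherianRing Λ] [Module.Finite Λ k]

/-- Factor a fibre-product square over a composite `p ≫ q` into two squares. -/
theorem exists_mid_square {B' A A' C B₀ : Art Λ k} {p' : B' ⟶ A'} {p'' : B' ⟶ C}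
    {f' : A' ⟶ A} (p : C ⟶ B₀) (q : B₀ ⟶ A) (hq : Function.Surjective q)
    (h : IsFibreProd p' p'' f' (p ≫ q)) :
    ∃ (B₁ : Art Λ k) (pr₁ : B₁ ⟶ A') (pr₂ : B₁ ⟶ B₀) (u : B' ⟶ B₁),
      IsFibreProd pr₁ pr₂ f' q ∧ IsFibreProd u p'' pr₂ p ∧ u ≫ pr₁ = p' := by
  obtain ⟨B₁, pr₁, pr₂, h₁⟩ := exists_isFibreProd f' q hq
  obtain ⟨u, hu1, hu2⟩ := Art.exists_lift_fibreProd h₁ p' (p'' ≫ p) (by
    rw [h.w, Category.assoc])
  refine ⟨B₁, pr₁, pr₂, u, h₁, ⟨hu2, ?_, ?_⟩, hu1⟩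
  · intro b₁ b₂ e1 e2
    apply h.inj _ _ _ e2
    have := congrArg pr₁ e1
    rwa [← Art.comp_apply, ← Art.comp_apply, hu1] at this
  · intro b c hbc
    have h3 : f' (pr₁ b) = (p ≫ q) c := by
      rw [h₁.w_apply, hbc]
      rfl
    obtain ⟨b', hb1, hb2⟩ := h.surj (pr₁ b) c h3
    refine ⟨b', ?_, hb2⟩
    apply h₁.inj
    · rw [← Art.comp_apply, hu1, hb1]
    · rw [← Art.comp_apply, hu2, Art.comp_apply, hb2, hbc]

omit [IsNoetherianRing Λ] [Module.Finite Λ k] in
theorem isIso_bijective {A B : Art Λ k} (e : B ⟶ A) [IsIso e] : Function.Bijective e := by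
  refine Function.bijective_iff_has_inverse.mpr ⟨inv e, fun b => ?_, fun a => ?_⟩
  · have := congrArg (fun w : B ⟶ B => w b) (IsIso.hom_inv_id e)
    exact this
  · have := congrArg (fun w : A ⟶ A => w a) (IsIso.inv_hom_id e)
    exact this

/-- Surjectivity of comparison maps passes from small extensions to all surjections. -/
theorem cmp_surjective_of_smallExt (F : Art Λ k ⥤ Type v) (hF : Hbar F) : S1 F := by
  intro B A A' A'' p' p'' f' f'' h hf''
  have key := Groth.Agent.S12707.result (Λ := Λ) (k := k)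
    (fun A A'' f'' => Function.Surjective f'' ∧
      ∀ ⦃B A' : Art Λ k⦄ (p' : B ⟶ A') (p'' : B ⟶ A'') (f' : A' ⟶ A)
        (h : IsFibreProd p' p'' f' f''), Function.Surjective (cmp F h))
    (by
      intro A A'' e he
      refine ⟨(isIso_bijective e).2, ?_⟩
      intro B A' p' p'' f' h
      rw [cmp_surjective_iff]
      intro x' x'' hx
      obtain ⟨s, hs1, -, hs3⟩ := exists_inv_of_isIso h
      refine ⟨F.map s x', ?_, ?_⟩
      · rw [← map_comp_apply, hs1, map_id_apply]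
      · rw [← map_comp_apply, hs3, map_comp_apply, hx, ← map_comp_apply, IsIso.hom_inv_id,
          map_id_apply])
    (by
      intro A A'' p hp
      exact ⟨hp.1, fun B A' p' p'' f' h => hF p' p'' f' p h hp⟩)
    (by
      intro A B₀ C p q hp hq
      refine ⟨hq.1.comp hp.1, ?_⟩
      intro B' A' p' p'' f' h
      obtain ⟨B₁, pr₁, pr₂, u, h₁, h₂, hu⟩ := exists_mid_square p q hq.1 h
      rw [cmp_surjective_iff]
      intro x' x'' hx
      rw [map_comp_apply] at hx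
      obtain ⟨z₁, hz1, hz2⟩ := (cmp_surjective_iff h₁).1 (hq.2 pr₁ pr₂ f' h₁) x' (F.map p x'') hx
      obtain ⟨z, hz3, hz4⟩ := (cmp_surjective_iff h₂).1 (hp.2 u p'' pr₂ h₂) z₁ x'' hz2
      refine ⟨z, ?_, hz4⟩
      rw [← hu, map_comp_apply, hz3, hz1])
    f'' hf''
  exact key.2 p' p'' f' h

/-- Injectivity of comparison maps passes from small extensions to all surjections. -/
theorem cmp_injective_of_smallExt (F : Art Λ k ⥤ Type v)
    (hF : ∀ ⦃B A A' A'' : Art Λ k⦄ (p' : B ⟶ A') (p'' : B ⟶ A'') (f' : A' ⟶ A) (f'' : A'' ⟶ A)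
      (h : IsFibreProd p' p'' f' f''), IsSmallExt f'' → Function.Injective (cmp F h))
    ⦃B A A' A'' : Art Λ k⦄ (p' : B ⟶ A') (p'' : B ⟶ A'') (f' : A' ⟶ A) (f'' : A'' ⟶ A)
    (h : IsFibreProd p' p'' f' f'') (hf'' : Function.Surjective f'') :
    Function.Injective (cmp F h) := by
  have key := Groth.Agent.S12707.result (Λ := Λ) (k := k)
    (fun A A'' f'' => Function.Surjective f'' ∧
      ∀ ⦃B A' : Art Λ k⦄ (p' : B ⟶ A') (p'' : B ⟶ A'') (f' : A' ⟶ A)
        (h : IsFibreProd p' p'' f' f''), Function.Injective (cmp F h))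
    (by
      intro A A'' e he
      refine ⟨(isIso_bijective e).2, ?_⟩
      intro B A' p' p'' f' h
      rw [cmp_injective_iff]
      intro z w hz1 hz2
      obtain ⟨s, -, hs2, -⟩ := exists_inv_of_isIso h
      rw [← map_id_apply F B z, ← map_id_apply F B w, ← hs2, map_comp_apply, map_comp_apply, hz1])
    (by
      intro A A'' p hp
      exact ⟨hp.1, fun B A' p' p'' f' h => hF p' p'' f' p h hp⟩)
    (by
      intro A B₀ C p q hp hq
      refine ⟨hq.1.comp hp.1, ?_⟩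
      intro B' A' p' p'' f' h
      obtain ⟨B₁, pr₁, pr₂, u, h₁, h₂, hu⟩ := exists_mid_square p q hq.1 h
      rw [cmp_injective_iff]
      intro z w hz1 hz2
      have e1 : F.map u z = F.map u w := by
        apply (cmp_injective_iff h₁).1 (hq.2 pr₁ pr₂ f' h₁)
        · rw [← map_comp_apply, ← map_comp_apply, hu, hz1]
        · rw [← map_comp_apply, ← map_comp_apply, h₂.w, map_comp_apply, map_comp_apply, hz2]
      exact (cmp_injective_iff h₂).1 (hp.2 u p'' pr₂ h₂) z w e1 hz2)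
    f'' hf''
  exact key.2 p' p'' f' h

end Mid

end Groth.Agent.Lib.ArtFunH1
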