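import Mathlib.Tactic
import Groth.Prelude.Def_ArtFun5
import Groth.Agent.Lib.ArtFunInd_helper1

/-!
Helper lemmas (helper1): the "action square" of a small extension `f : A'' → A`:
`A'' ×_A A'' ≅ A'' ×_k k[ε]`.  APPEND-ONLY once landed.
-/

set_option autoImplicit false
universe u v

open CategoryTheory

namespace Groth.Agent.Lib.ArtFunH1

open ArtFun ArtFun.Art

variable {Λ : Type u} {k : Type u} [CommRing Λ] [Field k] [Algebra Λ k]

section Psi

variable {A'' : Art Λ k} (t : A'') (ht : ∀ x ∈ IsLocalRing.maximalIdeal A'', x * t = 0)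

/-- `d ↦ d̃ * t` for any lift `d̃` of `d ∈ k`. -/
noncomputable def psi (t : A'') (d : k) : A'' := Function.surjInv A''.res_surjective d * t

theorem res_lift (d : k) : A''.res (Function.surjInv A''.res_surjective d) = d :=
  Function.surjInv_eq A''.res_surjective d

include ht in
theorem mul_eq_mul_of_res_eq {u v : A''} (h : A''.res u = A''.res v) : u * t = v * t := by
  have : u - v ∈ IsLocalRing.maximalIdeal A'' := by
    rw [Art.mem_maximalIdeal_iff, map_sub, h, sub_self]
  have := ht _ this
  rw [sub_mul, sub_eq_zero] at this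
  exact this

include ht in
theorem mul_eq_psi (u : A'') : u * t = psi t (A''.res u) := by
  apply mul_eq_mul_of_res_eq t ht
  exact (res_lift _).symm

include ht in
theorem psi_add (d d' : k) : psi t (d + d') = psi t d + psi t d' := by
  unfold psi
  rw [← add_mul]
  apply mul_eq_mul_of_res_eq t ht
  rw [map_add, res_lift, res_lift, res_lift]

include ht in
theorem psi_zero : psi t (0 : k) = 0 := by
  unfold psi
  apply ht
  rw [Art.mem_maximalIdeal_iff, res_lift]

include ht in
theorem mul_psi (a : A'') (d : k) : a * psi t d = psi t (A''.res a * d) := by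
  unfold psi
  rw [← mul_assoc]
  apply mul_eq_mul_of_res_eq t ht
  rw [map_mul, res_lift, res_lift]

include ht in
theorem psi_mul_psi (htm : t ∈ IsLocalRing.maximalIdeal A'') (d d' : k) :
    psi t d * psi t d' = 0 := by
  unfold psi
  have : t * t = 0 := ht t htm
  calc Function.surjInv A''.res_surjective d * t * (Function.surjInv A''.res_surjective d' * t)
      = Function.surjInv A''.res_surjective d * Function.surjInv A''.res_surjective d' * (t * t) := by
        ring
    _ = 0 := by rw [this, mul_zero]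

theorem res_psi (htm : t ∈ IsLocalRing.maximalIdeal A'') (d : k) : A''.res (psi t d) = 0 := by
  unfold psi
  rw [map_mul, (Art.mem_maximalIdeal_iff A'' t).1 htm, mul_zero]

theorem psi_injective (ht0 : t ≠ 0) {d d' : k} (h : psi t d = psi t d') : d = d' := by
  by_contra hne
  unfold psi at h
  have h1 : (Function.surjInv A''.res_surjective d - Function.surjInv A''.res_surjective d') * t = 0 := by
    rw [sub_mul, h, sub_self]
  have h2 : IsUnit (Function.surjInv A''.res_surjective d - Function.surjInv A''.res_surjective d') := by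
    by_contra hnu
    have := (IsLocalRing.mem_maximalIdeal _).2 hnu
    rw [Art.mem_maximalIdeal_iff, map_sub, res_lift, res_lift, sub_eq_zero] at this
    exact hne this
  exact ht0 ((h2.mul_right_eq_zero).1 h1)

end Psi

section Dual

/-- first component of a dual number -/
def dfst (x : dual Λ k) : k := TrivSqZeroExt.fst (show TrivSqZeroExt k k from x)
/-- second component of a dual number -/
def dsnd (x : dual Λ k) : k := TrivSqZeroExt.snd (show TrivSqZeroExt k k from x)

theorem dual_ext {x y : dual Λ k} (h1 : dfst x = dfst y) (h2 : dsnd x = dsnd y) : x = y :=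
  TrivSqZeroExt.ext h1 h2

theorem dfst_eq_res (x : dual Λ k) : dfst x = (dual Λ k).res x := rfl
theorem dsnd_one : dsnd (1 : dual Λ k) = 0 := rfl
theorem dsnd_zero : dsnd (0 : dual Λ k) = 0 := rfl
theorem dsnd_add (x y : dual Λ k) : dsnd (x + y) = dsnd x + dsnd y := rfl
theorem dsnd_mul (x y : dual Λ k) : dsnd (x * y) = dfst x * dsnd y + dfst y * dsnd x := by
  show TrivSqZeroExt.snd ((show TrivSqZeroExt k k from x) * (show TrivSqZeroExt k k from y)) = _
  rw [TrivSqZeroExt.snd_mul, smul_eq_mul, MulOpposite.smul_eq_mul_unop, MulOpposite.unop_op,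
    mul_comm (TrivSqZeroExt.snd _)]
  rfl
theorem dsnd_algebraMap (c : Λ) : dsnd (algebraMap Λ (dual Λ k) c) = 0 := by
  show TrivSqZeroExt.snd (algebraMap Λ (TrivSqZeroExt k k) c) = 0
  rw [TrivSqZeroExt.algebraMap_eq_inl', TrivSqZeroExt.snd_inl]

/-- the dual number `c + dε` -/
def dmk (c d : k) : dual Λ k := (show TrivSqZeroExt k k from (c, d))
theorem dfst_dmk (c d : k) : dfst (dmk c d : dual Λ k) = c := rfl
theorem dsnd_dmk (c d : k) : dsnd (dmk c d : dual Λ k) = d := rfl

end Dual

section Act

variable [IsNoetherianRing Λ] [Module.Finite Λ k]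

/-- The object `A'' ×_k k[ε]`. -/
noncomputable def actObj (A'' : Art Λ k) : Art Λ k :=
  fibObj (toBase A'') (toBase (dual Λ k)) (dual Λ k).res_surjective

noncomputable def actFst (A'' : Art Λ k) : actObj A'' ⟶ A'' :=
  fibFst (toBase A'') (toBase (dual Λ k)) (dual Λ k).res_surjective

noncomputable def actSnd (A'' : Art Λ k) : actObj A'' ⟶ dual Λ k :=
  fibSnd (toBase A'') (toBase (dual Λ k)) (dual Λ k).res_surjective

theorem isFibreProd_act (A'' : Art Λ k) :
    IsFibreProd (actFst A'') (actSnd A'') (toBase A'') (toBase (dual Λ k)) :=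
  isFibreProd_fib _ _ _

theorem actObj_fst_eq {A'' : Art Λ k} (b : actObj A'') :
    A''.res (actFst A'' b) = dfst (actSnd A'' b) := b.2

/-- The action map `(a, c + dε) ↦ a + d t`. -/
noncomputable def actMap {A'' : Art Λ k} (t : A'')
    (ht : ∀ x ∈ IsLocalRing.maximalIdeal A'', x * t = 0) (htm : t ∈ IsLocalRing.maximalIdeal A'') :
    actObj A'' ⟶ A'' :=
  ⟨{ toFun := fun b => actFst A'' b + psi t (dsnd (actSnd A'' b))
     map_one' := by
       have h1 : actFst A'' (1 : actObj A'') = 1 := map_one _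
       have h2 : actSnd A'' (1 : actObj A'') = 1 := map_one _
       rw [h1, h2, dsnd_one, psi_zero t ht, add_zero]
     map_mul' := by
       intro b b'
       have h1 : actFst A'' (b * b') = actFst A'' b * actFst A'' b' := map_mul _ _ _
       have h2 : actSnd A'' (b * b') = actSnd A'' b * actSnd A'' b' := map_mul _ _ _
       rw [h1, h2, dsnd_mul, psi_add t ht, add_mul, mul_add, mul_add,
         psi_mul_psi t ht htm, mul_psi t ht, mul_comm (psi t _) (actFst A'' b'), mul_psi t ht,
         actObj_fst_eq, actObj_fst_eq, add_zero, add_assoc]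
     map_zero' := by
       have h1 : actFst A'' (0 : actObj A'') = 0 := map_zero _
       have h2 : actSnd A'' (0 : actObj A'') = 0 := map_zero _
       rw [h1, h2, dsnd_zero, psi_zero t ht, add_zero]
     map_add' := by
       intro b b'
       have h1 : actFst A'' (b + b') = actFst A'' b + actFst A'' b' := map_add _ _ _
       have h2 : actSnd A'' (b + b') = actSnd A'' b + actSnd A'' b' := map_add _ _ _
       rw [h1, h2, dsnd_add, psi_add t ht]
       abel
     commutes' := by
       intro c
       have h1 : actFst A'' (algebraMap Λ (actObj A'') c) = algebraMap Λ A'' c :=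
         (actFst A'').toAlgHom.commutes c
       have h2 : actSnd A'' (algebraMap Λ (actObj A'') c) = algebraMap Λ (dual Λ k) c :=
         (actSnd A'').toAlgHom.commutes c
       have h3 : dsnd (algebraMap Λ (dual Λ k) c) = 0 := dsnd_algebraMap c
       show actFst A'' (algebraMap Λ (actObj A'') c) +
         psi t (dsnd (actSnd A'' (algebraMap Λ (actObj A'') c))) = _
       rw [h1, h2, h3, psi_zero t ht, add_zero] },
   by
     apply AlgHom.ext
     intro b
     show A''.res (actFst A'' b + psi t (dsnd (actSnd A'' b))) = A''.res (actFst A'' b)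
     rw [map_add, res_psi t htm, add_zero]⟩

theorem actMap_apply {A'' : Art Λ k} (t : A'')
    (ht : ∀ x ∈ IsLocalRing.maximalIdeal A'', x * t = 0) (htm : t ∈ IsLocalRing.maximalIdeal A'')
    (b : actObj A'') :
    actMap t ht htm b = actFst A'' b + psi t (dsnd (actSnd A'' b)) := rfl

theorem isFibreProd_actMap {A'' A : Art Λ k} (f : A'' ⟶ A) (t : A'')
    (hker : RingHom.ker f.toAlgHom = Ideal.span {t}) (ht0 : t ≠ 0)
    (ht : ∀ x ∈ IsLocalRing.maximalIdeal A'', x * t = 0) (htm : t ∈ IsLocalRing.maximalIdeal A'') :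
    IsFibreProd (actFst A'') (actMap t ht htm) f f where
  w := by
    apply Art.hom_ext
    apply AlgHom.ext
    intro b
    show f (actFst A'' b) = f (actMap t ht htm b)
    rw [actMap_apply, map_add]
    have : f (psi t (dsnd (actSnd A'' b))) = 0 := by
      have h1 : t ∈ RingHom.ker f.toAlgHom := by
        rw [hker]; exact Ideal.subset_span rfl
      unfold psi
      rw [map_mul, (RingHom.mem_ker).1 h1, mul_zero]
    rw [this, add_zero]
  inj := by
    intro b₁ b₂ h1 h2
    rw [actMap_apply, actMap_apply, h1] at h2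
    have h3 := psi_injective t ht0 (add_left_cancel h2)
    apply (isFibreProd_act A'').inj _ _ h1
    apply dual_ext
    · rw [← actObj_fst_eq, ← actObj_fst_eq, h1]
    · exact h3
  surj := by
    intro a' a'' h
    have h1 : a'' - a' ∈ RingHom.ker f.toAlgHom := by
      rw [RingHom.mem_ker, map_sub, sub_eq_zero]
      exact h.symm
    rw [hker, Ideal.mem_span_singleton'] at h1
    obtain ⟨u, hu⟩ := h1
    obtain ⟨b, hb1, hb2⟩ := (isFibreProd_act A'').surj a' (dmk (A''.res a') (A''.res u)) rfl
    refine ⟨b, hb1, ?_⟩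
    rw [actMap_apply, hb1, hb2, dsnd_dmk, ← mul_eq_psi t ht, hu]
    abel

/-- The action square of a small extension. -/
theorem exists_action_square {A'' A : Art Λ k} (f : A'' ⟶ A) (hf : IsSmallExt f) :
    ∃ (B : Art Λ k) (p₁ : B ⟶ A'') (p₂ : B ⟶ dual Λ k) (α : B ⟶ A'') (s : A'' ⟶ B),
      IsFibreProd p₁ p₂ (toBase A'') (toBase (dual Λ k)) ∧ IsFibreProd p₁ α f f ∧
      s ≫ p₁ = 𝟙 A'' ∧ s ≫ α = 𝟙 A'' ∧ s ≫ p₂ = toBase A'' ≫ baseToDual := by
  obtain ⟨hsurj, hne, ⟨t, ht⟩, hm⟩ := hf
  have hker : RingHom.ker f.toAlgHom = Ideal.span {t} := ht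
  have ht0 : t ≠ 0 := by
    rintro rfl
    apply hne
    rw [hker]
    simp
  have htk : t ∈ RingHom.ker f.toAlgHom := by
    rw [hker]; exact Ideal.subset_span rfl
  have htm : t ∈ IsLocalRing.maximalIdeal A'' := Groth.Agent.S12707.ker_le_maximalIdeal f htk
  have htx : ∀ x ∈ IsLocalRing.maximalIdeal A'', x * t = 0 := by
    intro x hx
    have := Ideal.mul_mem_mul hx htk
    rw [hm] at this
    exact this
  have h2 := isFibreProd_actMap f t hker ht0 htx htm
  obtain ⟨s, hs1, hs2⟩ := Art.exists_lift_fibreProd h2 (𝟙 A'') (𝟙 A'') rfl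
  refine ⟨actObj A'', actFst A'', actSnd A'', actMap t htx htm, s, isFibreProd_act A'', h2,
    hs1, hs2, ?_⟩
  apply Art.hom_ext
  apply AlgHom.ext
  intro a
  have e1 : actFst A'' (s a) = a := congrArg (fun w : A'' ⟶ A'' => w a) hs1
  have e2 : actMap t htx htm (s a) = a := congrArg (fun w : A'' ⟶ A'' => w a) hs2
  rw [actMap_apply, e1] at e2
  have e3 : dsnd (actSnd A'' (s a)) = 0 := by
    apply psi_injective t ht0
    rw [psi_zero t htx]
    exact add_eq_left.mp e2
  apply dual_ext
  · show dfst (actSnd A'' (s a)) = _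
    rw [← actObj_fst_eq, e1]
    rfl
  · show dsnd (actSnd A'' (s a)) = _
    rw [e3]
    rfl

theorem act_section_snd {A'' : Art Λ k} (t : A'') (ht0 : t ≠ 0)
    (htx : ∀ x ∈ IsLocalRing.maximalIdeal A'', x * t = 0) (htm : t ∈ IsLocalRing.maximalIdeal A'')
    (s : A'' ⟶ actObj A'') (hs1 : s ≫ actFst A'' = 𝟙 A'') (hs2 : s ≫ actMap t htx htm = 𝟙 A'') :
    s ≫ actSnd A'' = toBase A'' ≫ baseToDual := by
  apply Art.hom_ext
  apply AlgHom.ext
  intro a
  have e1 : actFst A'' (s a) = a := congrArg (fun w : A'' ⟶ A'' => w a) hs1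
  have e2 : actMap t htx htm (s a) = a := congrArg (fun w : A'' ⟶ A'' => w a) hs2
  rw [actMap_apply, e1] at e2
  have e3 : dsnd (actSnd A'' (s a)) = 0 := by
    apply psi_injective t ht0
    rw [psi_zero t htx]
    exact add_eq_left.mp e2
  apply dual_ext
  · show dfst (actSnd A'' (s a)) = _
    rw [← actObj_fst_eq, e1]
    rfl
  · show dsnd (actSnd A'' (s a)) = _
    rw [e3]
    rfl

theorem actMap_natural {B A'' : Art Λ k} (φ : B ⟶ A'') (tB : B) (t : A'') (hφ : φ tB = t)
    (htBx : ∀ x ∈ IsLocalRing.maximalIdeal B, x * tB = 0) (htBm : tB ∈ IsLocalRing.maximalIdeal B)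
    (htx : ∀ x ∈ IsLocalRing.maximalIdeal A'', x * t = 0) (htm : t ∈ IsLocalRing.maximalIdeal A'')
    (g : actObj B ⟶ actObj A'') (hg1 : g ≫ actFst A'' = actFst B ≫ φ)
    (hg2 : g ≫ actSnd A'' = actSnd B) :
    g ≫ actMap t htx htm = actMap tB htBx htBm ≫ φ := by
  apply Art.hom_ext
  apply AlgHom.ext
  intro c
  have e1 : actFst A'' (g c) = φ (actFst B c) := congrArg (fun w : actObj B ⟶ A'' => w c) hg1
  have e2 : actSnd A'' (g c) = actSnd B c := congrArg (fun w : actObj B ⟶ dual Λ k => w c) hg2
  show actMap t htx htm (g c) = φ (actMap tB htBx htBm c)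
  rw [actMap_apply, actMap_apply, e1, e2, map_add]
  congr 1
  have e3 : φ (psi tB (dsnd (actSnd B c))) =
      φ (Function.surjInv B.res_surjective (dsnd (actSnd B c))) * t := by
    unfold psi
    rw [map_mul, hφ]
  rw [e3, mul_eq_psi t htx (φ (Function.surjInv B.res_surjective (dsnd (actSnd B c)))),
    Art.res_app, res_lift]

omit [IsNoetherianRing Λ] [Module.Finite Λ k] in
/-- In a fibre-product square over a small extension `f''` the projection `p'` is a small
extension, with an explicit generator of its kernel. -/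
theorem exists_gen_of_isFibreProd {B A A' A'' : Art Λ k} {p' : B ⟶ A'} {p'' : B ⟶ A''}
    {f' : A' ⟶ A} {f'' : A'' ⟶ A} (h : IsFibreProd p' p'' f' f'') (hf'' : Function.Surjective f'')
    (t : A'') (hker : RingHom.ker f''.toAlgHom = Ideal.span {t}) (ht0 : t ≠ 0)
    (htx : ∀ x ∈ IsLocalRing.maximalIdeal A'', x * t = 0) :
    ∃ tB : B, p' tB = 0 ∧ p'' tB = t ∧ RingHom.ker p'.toAlgHom = Ideal.span {tB} ∧ tB ≠ 0 ∧
      (∀ x ∈ IsLocalRing.maximalIdeal B, x * tB = 0) ∧ tB ∈ IsLocalRing.maximalIdeal B ∧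
      Function.Surjective p' := by
  have htk : t ∈ RingHom.ker f''.toAlgHom := by
    rw [hker]; exact Ideal.subset_span rfl
  obtain ⟨tB, h1, h2⟩ := h.surj 0 t (by rw [map_zero]; exact ((RingHom.mem_ker).1 htk).symm)
  have hx : ∀ x ∈ IsLocalRing.maximalIdeal B, x * tB = 0 := by
    intro x hx
    apply h.inj
    · rw [map_mul, h1, mul_zero, map_zero]
    · rw [map_mul, h2, map_zero]
      apply htx
      rw [Art.mem_maximalIdeal_iff, Art.res_app]
      exact (Art.mem_maximalIdeal_iff B x).1 hx
  have hsurj : Function.Surjective p' := by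
    intro a'
    obtain ⟨a'', ha''⟩ := hf'' (f' a')
    obtain ⟨b, hb, -⟩ := h.surj a' a'' ha''.symm
    exact ⟨b, hb⟩
  have hkB : tB ∈ RingHom.ker p'.toAlgHom := (RingHom.mem_ker).2 h1
  refine ⟨tB, h1, h2, ?_, ?_, hx, Groth.Agent.S12707.ker_le_maximalIdeal p' hkB, hsurj⟩
  · apply le_antisymm
    · intro b hb
      have hb1 : p' b = 0 := (RingHom.mem_ker).1 hb
      have hb2 : p'' b ∈ RingHom.ker f''.toAlgHom := by
        rw [RingHom.mem_ker]
        show f'' (p'' b) = 0
        rw [← h.w_apply, hb1, map_zero]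
      rw [hker, Ideal.mem_span_singleton'] at hb2
      obtain ⟨u, hu⟩ := hb2
      obtain ⟨u', hu'⟩ := B.res_surjective (A''.res u)
      rw [Ideal.mem_span_singleton']
      refine ⟨u', ?_⟩
      apply h.inj
      · rw [map_mul, h1, mul_zero, hb1]
      · rw [map_mul, h2, ← hu]
        apply mul_eq_mul_of_res_eq t htx
        rw [Art.res_app, hu']
    · rw [Ideal.span_le, Set.singleton_subset_iff]
      exact hkB
  · rintro rfl
    rw [map_zero] at h2
    exact ht0 h2.symm

omit [IsNoetherianRing Λ] [Module.Finite Λ k] in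
theorem isSmallExt_of_gen {B A : Art Λ k} (p : B ⟶ A) (hp : Function.Surjective p) (t : B)
    (hker : RingHom.ker p.toAlgHom = Ideal.span {t}) (ht0 : t ≠ 0)
    (htx : ∀ x ∈ IsLocalRing.maximalIdeal B, x * t = 0) : IsSmallExt p := by
  refine ⟨hp, ?_, ⟨t, hker⟩, ?_⟩
  · intro hbot
    apply ht0
    have : t ∈ RingHom.ker p.toAlgHom := by
      rw [hker]; exact Ideal.subset_span rfl
    rw [hbot] at this
    exact this
  · rw [eq_bot_iff, hker, Ideal.mul_le]
    intro x hx y hy
    obtain ⟨u, rfl⟩ := Ideal.mem_span_singleton'.1 hy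
    rw [Ideal.mem_bot, mul_comm u t, ← mul_assoc, htx x hx, zero_mul]

end Act

end Groth.Agent.Lib.ArtFunH1
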