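import Mathlib.Tactic
import Mathlib.RingTheory.AdicCompletion.RingHom
import Groth.Prelude.Def_ArtFun5
import Groth.Agent.Lib.ArtFun_helper1

/-!
Helper lemmas (helper1): assembling maps into complete coefficient rings (`ArtFun.CRing`) from
compatible systems on truncations.  APPEND-ONLY once landed.
-/

set_option autoImplicit false
universe u v

open CategoryTheory

namespace Groth.Agent.Lib.ArtFunH1

open ArtFun ArtFun.Art

variable {Λ : Type u} {k : Type u} [CommRing Λ] [Field k] [Algebra Λ k]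

theorem truncMap_mk (S : CRing Λ k) (n : ℕ) (a : S.carrier) :
    S.truncMap n (Ideal.Quotient.mk (CRing.mpow S (n + 1)) a) =
      Ideal.Quotient.mk (CRing.mpow S n) a := rfl

theorem truncHom_apply (S : CRing Λ k) (n : ℕ) (a : S.carrier) :
    (S.truncHom n).1 a = Ideal.Quotient.mk (CRing.mpow S n) a := rfl

theorem eq_zero_of_forall_mem_mpow (S : CRing Λ k) (x : S.carrier)
    (h : ∀ n, x ∈ CRing.mpow S n) : x = 0 := by
  have hH : IsHausdorff (IsLocalRing.maximalIdeal S.carrier) S.carrier :=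
    S.isAdicComplete.toIsHausdorff
  apply hH.haus'
  intro n
  rw [SModEq.zero, smul_eq_mul, Ideal.mul_top]
  exact Ideal.pow_le_pow_right (Nat.le_succ n) (h n)

/-- A compatible system of maps `R → S/m^(n+1)` assembles to a map `R → S`. -/
theorem exists_algHom_of_compatible (S : CRing Λ k) {R : Type u} [CommRing R] [Algebra Λ R]
    {resR : R →ₐ[Λ] k} (φ : ∀ n, HomSet R resR (S.trunc n))
    (hφ : ∀ n, HomSet.map (S.truncMap n) (φ (n + 1)) = φ n) :
    ∃ (g : R →ₐ[Λ] S.carrier) (hg : S.res.comp g = resR),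
      ∀ n, (⟨(S.truncHom n).1.comp g, by rw [← AlgHom.comp_assoc, (S.truncHom n).2, hg]⟩ :
        HomSet R resR (S.trunc n)) = φ n := by
  have := S.isAdicComplete
  have ha : StrictMono (fun n : ℕ => n + 1) := fun a b h => Nat.succ_lt_succ h
  let f : ∀ n : ℕ, R →+* S.carrier ⧸ IsLocalRing.maximalIdeal S.carrier ^ (n + 1) :=
    fun n => (show R →+* S.carrier ⧸ IsLocalRing.maximalIdeal S.carrier ^ (n + 1) from
      ((φ n).1).toRingHom)
  have hf : ∀ {m : ℕ}, (Ideal.Quotient.factorPow (IsLocalRing.maximalIdeal S.carrier)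
      (ha.monotone m.le_succ)).comp (f (m + 1)) = f m := by
    intro m
    ext r
    have h1 := congrArg (fun ψ : HomSet R resR (S.trunc m) => ψ.1 r) (hφ m)
    have h2 : S.truncMap m ((φ (m + 1)).1 r) = (φ m).1 r := h1
    show Ideal.Quotient.factorPow (IsLocalRing.maximalIdeal S.carrier) (ha.monotone m.le_succ)
      ((φ (m + 1)).1 r) = (φ m).1 r
    rw [← h2]
    obtain ⟨a, ha'⟩ := Ideal.Quotient.mk_surjective ((φ (m + 1)).1 r)
    rw [← ha']
    rfl
  let g₀ : R →+* S.carrier :=
    IsAdicComplete.StrictMono.liftRingHom (IsLocalRing.maximalIdeal S.carrier) ha f hf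
  have hg₀ : ∀ (n : ℕ) (r : R), Ideal.Quotient.mk (CRing.mpow S n) (g₀ r) = (φ n).1 r := by
    intro n r
    exact IsAdicComplete.StrictMono.mk_liftRingHom (IsLocalRing.maximalIdeal S.carrier) ha f hf r
  have hcomm : ∀ c : Λ, g₀ (algebraMap Λ R c) = algebraMap Λ S.carrier c := by
    intro c
    rw [← sub_eq_zero]
    apply eq_zero_of_forall_mem_mpow
    intro n
    rw [← Ideal.Quotient.eq, hg₀, AlgHom.commutes]
    rfl
  let g : R →ₐ[Λ] S.carrier := { g₀ with commutes' := hcomm }
  have hgr : ∀ r, g r = g₀ r := fun _ => rfl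
  have hg : S.res.comp g = resR := by
    apply AlgHom.ext
    intro r
    have h1 : (S.trunc 0).res ((φ 0).1 r) = resR r := AlgHom.congr_fun (φ 0).2 r
    rw [← h1, ← hg₀ 0 r]
    rfl
  refine ⟨g, hg, fun n => ?_⟩
  apply Subtype.ext
  apply AlgHom.ext
  intro r
  exact hg₀ n r

theorem exists_maximalIdeal_pow_eq_bot (A : Art Λ k) : ∃ N : ℕ, IsLocalRing.maximalIdeal A ^ N = ⊥ := by
  have h1 := IsArtinianRing.isNilpotent_jacobson_bot (R := A)
  rw [IsLocalRing.jacobson_eq_maximalIdeal ⊥ bot_ne_top] at h1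
  exact h1

/-- Every map from a coefficient ring to an Artinian object factors through a truncation. -/
theorem exists_factor_trunc (R : CRing Λ k) (A : Art Λ k) (u : HomSet R.carrier R.res A) :
    ∃ (n : ℕ) (ubar : R.trunc n ⟶ A), HomSet.map ubar (R.truncHom n) = u := by
  obtain ⟨N, hN⟩ := exists_maximalIdeal_pow_eq_bot A
  have hmax : (IsLocalRing.maximalIdeal R.carrier).map (u.1 : R.carrier →+* A) ≤
      IsLocalRing.maximalIdeal A := by
    rw [Ideal.map_le_iff_le_comap]
    intro r hr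
    rw [Ideal.mem_comap, Art.mem_maximalIdeal_iff]
    have h1 : A.res (u.1 r) = R.res r := AlgHom.congr_fun u.2 r
    show A.res (u.1 r) = 0
    rw [h1]
    exact (CRing.mem_maximalIdeal_iff R r).1 hr
  have hker : ∀ a ∈ CRing.mpow R N, u.1 a = 0 := by
    intro a ha
    have h1 : (u.1 : R.carrier →+* A) a ∈ (CRing.mpow R N).map (u.1 : R.carrier →+* A) :=
      Ideal.mem_map_of_mem _ ha
    rw [Ideal.map_pow] at h1
    have h2 := Ideal.pow_right_mono hmax (N + 1) h1
    have h3 := Ideal.pow_le_pow_right (Nat.le_succ N) h2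
    rw [hN] at h3
    exact h3
  refine ⟨N, ⟨Ideal.Quotient.liftₐ (CRing.mpow R N) u.1 hker, ?_⟩, ?_⟩
  · apply AlgHom.ext
    intro x
    obtain ⟨a, rfl⟩ := Ideal.Quotient.mk_surjective x
    exact AlgHom.congr_fun u.2 a
  · apply Subtype.ext
    apply AlgHom.ext
    intro r
    rfl

/-- A family over a coefficient ring is determined by its formal element. -/
theorem family_app_eq_of_toFormalElt_eq {F : Art Λ k ⥤ Type v} (R : CRing Λ k)
    (ξ ξ' : Family R.carrier R.res F) (h : ξ.toFormalElt = ξ'.toFormalElt) (A : Art Λ k)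
    (u : HomSet R.carrier R.res A) : ξ.app A u = ξ'.app A u := by
  obtain ⟨n, ubar, rfl⟩ := exists_factor_trunc R A u
  rw [ξ.natural, ξ'.natural]
  congr 1
  exact congrArg (fun t => t.elt n) h

end Groth.Agent.Lib.ArtFunH1
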