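import Mathlib
import Groth.Prelude.Def_ArtFun5
import Groth.Agent.Lib.ArtFunFormal_helper1

/-!
Helper lemmas (helper1): the ambient smooth coefficient ring — the completion of a polynomial ring
over `Λ` at the kernel of a surjection onto `k` — as a `CRing`, with its lifting property.
APPEND-ONLY once landed.
-/

set_option autoImplicit false
universe u v

open CategoryTheory

namespace Groth.Agent.Lib.ArtFunH1

open ArtFun ArtFun.Art

section NoethOfComplete

variable (P : Type u) {T : Type u} [CommRing P] [CommRing T] [Algebra P T] {d : ℕ} (t : Fin d → T)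

/-- evaluation of polynomials at `t` -/
noncomputable def evR : MvPolynomial (Fin d) P →+* T :=
  MvPolynomial.eval₂Hom (algebraMap P T) t

theorem evR_X (i : Fin d) : evR P t (MvPolynomial.X i) = t i := MvPolynomial.eval₂Hom_X' _ _ i

theorem evR_C (p : P) : evR P t (MvPolynomial.C p) = algebraMap P T p :=
  MvPolynomial.eval₂Hom_C _ _ p

theorem evR_mem (n : ℕ) : MvPolynomial.idealOfVars (Fin d) P ^ n ≤
    (Ideal.span (Set.range t) ^ n).comap (evR P t) := by
  rw [← Ideal.map_le_iff_le_comap, Ideal.map_pow]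
  apply Ideal.pow_right_mono
  rw [Ideal.map_span, Ideal.span_le]
  rintro _ ⟨_, ⟨i, rfl⟩, rfl⟩
  apply Ideal.subset_span
  exact ⟨i, (evR_X P t i).symm⟩

/-- the maps `P[[Y]] → T / 𝔞^n` -/
noncomputable def stageHom (n : ℕ) :
    MvPowerSeries (Fin d) P →+* T ⧸ Ideal.span (Set.range t) ^ n :=
  (Ideal.quotientMap (Ideal.span (Set.range t) ^ n) (evR P t) (evR_mem P t n)).comp
    (MvPowerSeries.truncTotalAlgHom (Fin d) P n).toRingHom

theorem stageHom_apply (n : ℕ) (p : MvPowerSeries (Fin d) P) :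
    stageHom P t n p = Ideal.Quotient.mk _ (evR P t (MvPowerSeries.truncTotal n p)) := by
  unfold stageHom
  rw [RingHom.comp_apply]
  have h1 : (MvPowerSeries.truncTotalAlgHom (Fin d) P n).toRingHom p =
      Ideal.Quotient.mk _ (MvPowerSeries.truncTotal n p) := rfl
  rw [h1, Ideal.quotientMap_mk]

theorem stageHom_compat {m n : ℕ} (hle : m ≤ n) :
    (Ideal.Quotient.factorPow (Ideal.span (Set.range t)) hle).comp (stageHom P t n) =
      stageHom P t m := by
  refine RingHom.ext fun p => ?_
  rw [RingHom.comp_apply, stageHom_apply, stageHom_apply]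
  show Ideal.Quotient.factor _ (Ideal.Quotient.mk _ _) = _
  rw [Ideal.Quotient.factor_mk, Ideal.Quotient.eq, ← map_sub]
  exact evR_mem P t m (MvPowerSeries.truncTotal_sub_truncTotal_mem_pow_idealOfVars hle le_rfl p)

variable [IsAdicComplete (Ideal.span (Set.range t)) T]

/-- the map `P[[Y]] → T`, `Y_i ↦ t_i` -/
noncomputable def liftPS : MvPowerSeries (Fin d) P →+* T :=
  IsAdicComplete.liftRingHom (Ideal.span (Set.range t)) (stageHom P t) (stageHom_compat P t)

theorem liftPS_coe (q : MvPolynomial (Fin d) P) :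
    liftPS P t (q : MvPowerSeries (Fin d) P) = evR P t q := by
  have hH : IsHausdorff (Ideal.span (Set.range t)) T := inferInstance
  rw [← sub_eq_zero]
  apply hH.haus'
  intro n
  rw [SModEq.zero, smul_eq_mul, Ideal.mul_top, ← Ideal.Quotient.eq]
  have h1 : Ideal.Quotient.mk (Ideal.span (Set.range t) ^ n) (liftPS P t (q : MvPowerSeries (Fin d) P)) =
      stageHom P t n q := IsAdicComplete.mk_liftRingHom _ _ _ n _
  rw [h1, stageHom_apply, Ideal.Quotient.eq, ← map_sub]
  apply evR_mem P t n
  rw [MvPolynomial.mem_pow_idealOfVars_iff']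
  intro x h
  rw [MvPolynomial.coeff_sub, sub_eq_zero, MvPowerSeries.coeff_truncTotal _ h, MvPolynomial.coeff_coe]

theorem liftPS_surjective
    (hsurj : Function.Surjective ((Ideal.Quotient.mk (Ideal.span (Set.range t))).comp
      (algebraMap P T))) : Function.Surjective (liftPS P t) := by
  have hX : ∀ i, liftPS P t (MvPowerSeries.X i) = t i := by
    intro i
    rw [← MvPolynomial.coe_X, liftPS_coe, evR_X]
  have hC : ∀ p : P, liftPS P t (MvPowerSeries.C p) = algebraMap P T p := by
    intro p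
    rw [← MvPolynomial.coe_C, liftPS_coe, evR_C]
  have hmap : (Ideal.span (Set.range
      (MvPowerSeries.X : Fin d → MvPowerSeries (Fin d) P))).map (liftPS P t) =
      Ideal.span (Set.range t) := by
    rw [Ideal.map_span, ← Set.range_comp]
    congr 2
    funext i
    exact hX i
  have : IsHausdorff ((Ideal.span (Set.range
      (MvPowerSeries.X : Fin d → MvPowerSeries (Fin d) P))).map (liftPS P t)) T := by
    rw [hmap]; infer_instance
  apply surjective_of_mk_map_comp_surjective (I := Ideal.span (Set.range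
      (MvPowerSeries.X : Fin d → MvPowerSeries (Fin d) P))) (liftPS P t)
  intro y
  obtain ⟨x, rfl⟩ := Ideal.Quotient.mk_surjective y
  obtain ⟨p, hp⟩ := hsurj (Ideal.Quotient.mk _ x)
  refine ⟨MvPowerSeries.C p, ?_⟩
  rw [RingHom.comp_apply, hC, Ideal.Quotient.eq, hmap, ← Ideal.Quotient.eq]
  exact hp

/-- A ring complete for a finitely generated ideal, and a quotient of a Noetherian ring modulo that
ideal, is Noetherian. -/
theorem isNoetherianRing_of_complete [IsNoetherianRing P]
    (hsurj : Function.Surjective ((Ideal.Quotient.mk (Ideal.span (Set.range t))).comp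
      (algebraMap P T))) : IsNoetherianRing T :=
  isNoetherianRing_of_surjective _ T (liftPS P t) (liftPS_surjective P t hsurj)

end NoethOfComplete


section Ambient

variable {Λ k : Type u} [CommRing Λ] [Field k] [Algebra Λ k] [IsNoetherianRing Λ]
variable {N : ℕ} (π : MvPolynomial (Fin N) Λ →ₐ[Λ] k) (hπ : Function.Surjective π)

/-- The ambient ring: the completion of the polynomial ring at `ker π`. -/
abbrev AmbS : Type u := AdicCompletion (RingHom.ker π) (MvPolynomial (Fin N) Λ)

theorem ambKer_fg : (RingHom.ker π).FG := (isNoetherianRing_iff_ideal_fg _).1 inferInstance _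

include hπ in
theorem ambKer_isMaximal : (RingHom.ker π).IsMaximal :=
  RingHom.ker_isMaximal_of_surjective π hπ

/-- the maximal ideal of the ambient ring -/
noncomputable abbrev ambM : Ideal (AmbS π) :=
  (RingHom.ker π).map (algebraMap (MvPolynomial (Fin N) Λ) (AmbS π))

include hπ in
theorem ambM_isMaximal : (ambM π).IsMaximal :=
  haveI := ambKer_isMaximal π hπ
  AdicCompletion.isMaximal_map_of_le (RingHom.ker π) (RingHom.ker π) le_rfl (ambKer_fg π)

theorem ambM_isAdicComplete : IsAdicComplete (ambM π) (AmbS π) :=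
  AdicCompletion.isAdicComplete_self _ (ambKer_fg π)

include hπ in
theorem amb_isLocalRing : IsLocalRing (AmbS π) :=
  haveI := ambM_isMaximal π hπ
  haveI := ambM_isAdicComplete π
  isLocalRing_of_isAdicComplete_maximal (ambM π)

/-- the structure map from the polynomial ring -/
noncomputable abbrev ambι : MvPolynomial (Fin N) Λ →+* AmbS π :=
  algebraMap (MvPolynomial (Fin N) Λ) (AmbS π)

/-- the induced map `P / ker π → k` -/
noncomputable def ambLift : MvPolynomial (Fin N) Λ ⧸ RingHom.ker π →+* k :=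
  Ideal.Quotient.lift (RingHom.ker π) (π : MvPolynomial (Fin N) Λ →+* k)
    (fun _ ha => RingHom.mem_ker.1 ha)

theorem ambLift_mk (p : MvPolynomial (Fin N) Λ) :
    ambLift π (Ideal.Quotient.mk _ p) = π p := rfl

/-- the augmentation of the ambient ring -/
noncomputable def ambRes : AmbS π →ₐ[Λ] k :=
  { toRingHom := (ambLift π).comp (AdicCompletion.evalOneₐ (RingHom.ker π)).toRingHom
    commutes' := fun c => by
      show ambLift π (AdicCompletion.evalOneₐ _ (algebraMap Λ (AmbS π) c)) = _
      rw [AdicCompletion.algebraMap_apply, AdicCompletion.evalOneₐ_of]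
      exact π.commutes c }

theorem ambRes_algebraMap (p : MvPolynomial (Fin N) Λ) :
    ambRes π (ambι π p) = π p := by
  show ambLift π (AdicCompletion.evalOneₐ _ (ambι π p)) = _
  rw [AdicCompletion.algebraMap_apply, AdicCompletion.evalOneₐ_of]
  rfl

include hπ in
theorem ambRes_surjective : Function.Surjective (ambRes π) := by
  intro c
  obtain ⟨p, hp⟩ := hπ c
  exact ⟨ambι π p, by rw [ambRes_algebraMap, hp]⟩

theorem amb_mk_surjective : Function.Surjective ((Ideal.Quotient.mk (ambM π)).comp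
    (algebraMap (MvPolynomial (Fin N) Λ) (AmbS π))) := by
  intro y
  obtain ⟨s, rfl⟩ := Ideal.Quotient.mk_surjective y
  obtain ⟨p, hp⟩ := Ideal.Quotient.mk_surjective (AdicCompletion.evalOneₐ (RingHom.ker π) s)
  refine ⟨p, ?_⟩
  rw [RingHom.comp_apply, Ideal.Quotient.eq]
  show _ ∈ (RingHom.ker π).map _
  rw [← AdicCompletion.ker_evalOneₐ_eq_map _ (ambKer_fg π), RingHom.mem_ker]
  show AdicCompletion.evalOneₐ _ (ambι π p - s) = 0
  rw [map_sub, AdicCompletion.algebraMap_apply, AdicCompletion.evalOneₐ_of, ← hp]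
  exact sub_self _

theorem amb_isNoetherianRing : IsNoetherianRing (AmbS π) := by
  obtain ⟨d, g, hg⟩ := Submodule.fg_iff_exists_fin_generating_family.1 (ambKer_fg π)
  have hg' : Ideal.span (Set.range g) = RingHom.ker π := hg
  let t : Fin d → AmbS π := fun i => ambι π (g i)
  have ht : Ideal.span (Set.range t) = ambM π := by
    have h1 : Ideal.span (Set.range t) = (Ideal.span (Set.range g)).map (ambι π) := by
      rw [Ideal.map_span, ← Set.range_comp]
      rfl
    rw [h1]
    exact congrArg (Ideal.map (ambι π)) hg'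
  have hc : IsAdicComplete (Ideal.span (Set.range t)) (AmbS π) := by
    rw [ht]; exact ambM_isAdicComplete π
  exact isNoetherianRing_of_complete (MvPolynomial (Fin N) Λ) t (by
    rw [ht]; exact amb_mk_surjective π)

/-- The ambient coefficient ring. -/
noncomputable def ambient : CRing Λ k :=
  letI : IsLocalRing (AmbS π) := amb_isLocalRing π hπ
  { carrier := AmbS π
    isLocalRing := amb_isLocalRing π hπ
    isNoetherianRing := amb_isNoetherianRing π
    res := ambRes π
    res_surjective := ambRes_surjective π hπ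
    isAdicComplete := by
      have h : IsLocalRing.maximalIdeal (AmbS π) = ambM π :=
        (IsLocalRing.eq_maximalIdeal (ambM_isMaximal π hπ)).symm
      rw [h]
      exact ambM_isAdicComplete π }

theorem amb_ringHom_ext {D : Type*} [CommRing D] (φ₁ φ₂ : AmbS π →+* D) (M : ℕ)
    (h₁ : ((RingHom.ker π) ^ M).map (ambι π) ≤ RingHom.ker φ₁)
    (h₂ : ((RingHom.ker π) ^ M).map (ambι π) ≤ RingHom.ker φ₂)
    (h : ∀ p, φ₁ (ambι π p) = φ₂ (ambι π p)) : φ₁ = φ₂ := by
  refine RingHom.ext fun s => ?_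
  obtain ⟨p, hp⟩ := Ideal.Quotient.mk_surjective (AdicCompletion.evalₐ (RingHom.ker π) M s)
  have hmem : s - ambι π p ∈
      ((RingHom.ker π) ^ M).map (ambι π) := by
    have hle : RingHom.ker π ^ M ≤ RingHom.ker π ^ M • ⊤ := by
      rw [smul_eq_mul, Ideal.mul_top]
    have hfe := AdicCompletion.factor_evalₐ_eq_eval (I := RingHom.ker π) (n := M)
      (s - ambι π p) hle
    rw [← Submodule.restrictScalars_mem (MvPolynomial (Fin N) Λ), ← Ideal.smul_top_eq_map,
      AdicCompletion.pow_smul_top_eq_ker_eval (ambKer_fg π), LinearMap.mem_ker, ← hfe, map_sub,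
      AdicCompletion.algebraMap_apply, AdicCompletion.evalₐ_of, ← hp, Algebra.algebraMap_self,
      RingHom.id_apply, sub_self, map_zero]
  have e1 := h₁ hmem
  have e2 := h₂ hmem
  rw [RingHom.mem_ker, map_sub, sub_eq_zero] at e1 e2
  rw [e1, e2, h]

theorem amb_map_pow_le_ker (A : Art Λ k) (φ : AmbS π →+* A)
    (hφ : ∀ a ∈ RingHom.ker π, A.res (φ (ambι π a)) = 0) (M : ℕ)
    (hM : IsLocalRing.maximalIdeal A ^ M = ⊥) :
    ((RingHom.ker π) ^ M).map (ambι π) ≤ RingHom.ker φ := by
  rw [Ideal.map_le_iff_le_comap]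
  intro a ha
  rw [Ideal.mem_comap, RingHom.mem_ker]
  have h1 : (RingHom.ker π).map (φ.comp (ambι π)) ≤
      IsLocalRing.maximalIdeal A := by
    rw [Ideal.map_le_iff_le_comap]
    intro b hb
    rw [Ideal.mem_comap, Art.mem_maximalIdeal_iff]
    exact hφ b hb
  have h2 : (φ.comp (ambι π)) a ∈
      ((RingHom.ker π) ^ M).map (φ.comp (ambι π)) := Ideal.mem_map_of_mem _ ha
  rw [Ideal.map_pow] at h2
  have h3 := Ideal.pow_right_mono h1 M h2
  rw [hM] at h3
  exact Ideal.mem_bot.1 h3

theorem amb_homSet_ext (A : Art Λ k) (φ₁ φ₂ : HomSet (AmbS π) (ambRes π) A)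
    (h : ∀ p, φ₁.1 (ambι π p) = φ₂.1 (ambι π p)) : φ₁ = φ₂ := by
  obtain ⟨M, hM⟩ := exists_maximalIdeal_pow_eq_bot A
  have hk : ∀ φ : HomSet (AmbS π) (ambRes π) A, ∀ a ∈ RingHom.ker π,
      A.res ((φ.1 : AmbS π →+* A) (ambι π a)) = 0 := by
    intro φ a ha
    have h1 : A.res (φ.1 (ambι π a)) = ambRes π (ambι π a) :=
      AlgHom.congr_fun φ.2 _
    show A.res (φ.1 (ambι π a)) = 0
    rw [h1, ambRes_algebraMap]
    exact RingHom.mem_ker.1 ha
  apply Subtype.ext
  apply AlgHom.coe_ringHom_injective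
  exact amb_ringHom_ext π _ _ M (amb_map_pow_le_ker π A _ (hk φ₁) M hM)
    (amb_map_pow_le_ker π A _ (hk φ₂) M hM) h

theorem amb_exists_extension (C : Art Λ k) (θ : MvPolynomial (Fin N) Λ →ₐ[Λ] C)
    (hθ : C.res.comp θ = π) :
    ∃ ψ : HomSet (AmbS π) (ambRes π) C, ∀ p, ψ.1 (ambι π p) = θ p := by
  obtain ⟨M, hM⟩ := exists_maximalIdeal_pow_eq_bot C
  have hθm : ∀ a ∈ RingHom.ker π, C.res (θ a) = 0 := by
    intro a ha
    have h1 : C.res (θ a) = π a := AlgHom.congr_fun hθ a
    rw [h1]
    exact RingHom.mem_ker.1 ha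
  have hker : ∀ a ∈ (RingHom.ker π) ^ M, (θ : MvPolynomial (Fin N) Λ →+* C) a = 0 := by
    intro a ha
    have h1 : (RingHom.ker π).map (θ : MvPolynomial (Fin N) Λ →+* C) ≤
        IsLocalRing.maximalIdeal C := by
      rw [Ideal.map_le_iff_le_comap]
      intro b hb
      rw [Ideal.mem_comap, Art.mem_maximalIdeal_iff]
      exact hθm b hb
    have h2 : (θ : MvPolynomial (Fin N) Λ →+* C) a ∈
        ((RingHom.ker π) ^ M).map (θ : MvPolynomial (Fin N) Λ →+* C) :=
      Ideal.mem_map_of_mem _ ha
    rw [Ideal.map_pow] at h2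
    have h3 := Ideal.pow_right_mono h1 M h2
    rw [hM] at h3
    exact Ideal.mem_bot.1 h3
  let ψ₀ : AmbS π →+* C :=
    (Ideal.Quotient.lift ((RingHom.ker π) ^ M) (θ : MvPolynomial (Fin N) Λ →+* C) hker).comp
      (AdicCompletion.evalₐ (RingHom.ker π) M).toRingHom
  have hψ₀ : ∀ p, ψ₀ (ambι π p) = θ p := by
    intro p
    show Ideal.Quotient.lift _ _ hker
      (AdicCompletion.evalₐ _ M (ambι π p)) = _
    rw [AdicCompletion.algebraMap_apply, AdicCompletion.evalₐ_of]
    rfl
  let ψ : AmbS π →ₐ[Λ] C :=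
    { toRingHom := ψ₀
      commutes' := fun c => by
        show ψ₀ (algebraMap Λ (AmbS π) c) = _
        have e : algebraMap Λ (AmbS π) c =
            algebraMap (MvPolynomial (Fin N) Λ) (AmbS π) (algebraMap Λ _ c) := rfl
        rw [e, hψ₀]
        exact θ.commutes c }
  have hψ : ∀ p, ψ (ambι π p) = θ p := hψ₀
  have hres : C.res.comp ψ = ambRes π := by
    apply AlgHom.coe_ringHom_injective
    apply amb_ringHom_ext π _ _ 1
    · rw [pow_one, Ideal.map_le_iff_le_comap]
      intro a ha
      rw [Ideal.mem_comap, RingHom.mem_ker]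
      show C.res (ψ (ambι π a)) = 0
      rw [hψ]
      exact hθm a ha
    · rw [pow_one, Ideal.map_le_iff_le_comap]
      intro a ha
      rw [Ideal.mem_comap, RingHom.mem_ker]
      show ambRes π (ambι π a) = 0
      rw [ambRes_algebraMap]
      exact RingHom.mem_ker.1 ha
    · intro p
      show C.res (ψ (ambι π p)) = ambRes π (ambι π p)
      rw [hψ, ambRes_algebraMap]
      exact AlgHom.congr_fun hθ p
  exact ⟨⟨ψ, hres⟩, hψ⟩

/-- The ambient ring has the lifting property: `h_S` is a smooth functor. -/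
theorem ambient_isSmoothFunctor : IsSmoothFunctor (hR (AmbS π) (ambRes π)) := by
  intro B A μ hμ (φ' : HomSet (AmbS π) (ambRes π) A)
  choose b hb using fun j : Fin N =>
    hμ (φ'.1 (ambι π (MvPolynomial.X j)))
  let θ : MvPolynomial (Fin N) Λ →ₐ[Λ] B := MvPolynomial.aeval b
  let ιΛ : MvPolynomial (Fin N) Λ →ₐ[Λ] AmbS π :=
    { toRingHom := ambι π
      commutes' := fun c => rfl }
  have hθμ' : μ.toAlgHom.comp θ = φ'.1.comp ιΛ := by
    apply MvPolynomial.algHom_ext
    intro j
    show μ (MvPolynomial.aeval b (MvPolynomial.X j)) =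
      φ'.1 (ambι π (MvPolynomial.X j))
    rw [MvPolynomial.aeval_X, hb j]
  have hθμ : ∀ p, μ (θ p) = φ'.1 (ambι π p) := fun p => AlgHom.congr_fun hθμ' p
  have hθ : B.res.comp θ = π := by
    apply AlgHom.ext
    intro p
    show B.res (θ p) = π p
    rw [← Art.res_app μ, hθμ p]
    have h1 : A.res (φ'.1 (ambι π p)) = ambRes π (ambι π p) :=
      AlgHom.congr_fun φ'.2 _
    rw [h1, ambRes_algebraMap]
  obtain ⟨ψ, hψ⟩ := amb_exists_extension π B θ hθ
  refine ⟨ψ, ?_⟩
  show HomSet.map μ ψ = φ'
  apply amb_homSet_ext π A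
  intro p
  show μ (ψ.1 (ambι π p)) = _
  rw [hψ, hθμ]

end Ambient

end Groth.Agent.Lib.ArtFunH1
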