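import Mathlib.Tactic
import Mathlib.RingTheory.AdicCompletion.Basic
import Mathlib.RingTheory.Ideal.Maps

/-!
Helper lemmas (helper1): surjectivity of ring maps by successive approximation
("complete Nakayama").  APPEND-ONLY once landed.
-/

set_option autoImplicit false
universe u v

namespace Groth.Agent.Lib.LocalSurjH1

variable {R : Type u} {S : Type v} [CommRing R] [CommRing S] (f : R →+* S) (I : Ideal R) (J : Ideal S)

theorem approx_step (hmap : I.map f = J) (hres : ∀ s : S, ∃ r : R, s - f r ∈ J) (n : ℕ) (x : S)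
    (hx : x ∈ J ^ n) : ∃ a ∈ I ^ n, x - f a ∈ J ^ (n + 1) := by
  rw [← hmap, ← Ideal.map_pow] at hx
  induction hx using Submodule.span_induction with
  | mem x hx =>
    obtain ⟨a, ha, rfl⟩ := hx
    exact ⟨a, ha, by rw [sub_self]; exact Ideal.zero_mem _⟩
  | zero => exact ⟨0, Ideal.zero_mem _, by rw [map_zero, sub_self]; exact Ideal.zero_mem _⟩
  | add x y _ _ hx hy =>
    obtain ⟨a, ha, hxa⟩ := hx
    obtain ⟨b, hb, hyb⟩ := hy
    refine ⟨a + b, Ideal.add_mem _ ha hb, ?_⟩
    have : x + y - f (a + b) = (x - f a) + (y - f b) := by rw [map_add]; ring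
    rw [this]
    exact Ideal.add_mem _ hxa hyb
  | smul s x hxs hx =>
    obtain ⟨a, ha, hxa⟩ := hx
    obtain ⟨r, hr⟩ := hres s
    refine ⟨r * a, Ideal.mul_mem_left _ _ ha, ?_⟩
    have hxJ : x ∈ J ^ n := by
      rw [← hmap, ← Ideal.map_pow]
      exact hxs
    have : s • x - f (r * a) = f r * (x - f a) + (s - f r) * x := by
      rw [map_mul, smul_eq_mul]; ring
    rw [this]
    refine Ideal.add_mem _ (Ideal.mul_mem_left _ _ hxa) ?_
    rw [pow_succ']
    exact Ideal.mul_mem_mul hr hxJ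

theorem approx_seq (hmap : I.map f = J) (hres : ∀ s : S, ∃ r : R, s - f r ∈ J) (s : S) :
    ∃ r : ℕ → R, (∀ n, s - f (r n) ∈ J ^ n) ∧ ∀ n, r (n + 1) - r n ∈ I ^ n := by
  have step : ∀ (n : ℕ) (r : R), s - f r ∈ J ^ n → ∃ r' : R, s - f r' ∈ J ^ (n + 1) ∧ r' - r ∈ I ^ n := by
    intro n r hr
    obtain ⟨a, ha, hxa⟩ := approx_step f I J hmap hres n (s - f r) hr
    refine ⟨r + a, ?_, by rw [add_sub_cancel_left]; exact ha⟩
    have : s - f (r + a) = s - f r - f a := by rw [map_add]; ring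
    rw [this]
    exact hxa
  let seq : ∀ n : ℕ, {r : R // s - f r ∈ J ^ n} := fun n =>
    Nat.rec (motive := fun n => {r : R // s - f r ∈ J ^ n})
      ⟨0, by rw [pow_zero, Ideal.one_eq_top]; exact Submodule.mem_top⟩
      (fun n prev => ⟨(step n prev.1 prev.2).choose, (step n prev.1 prev.2).choose_spec.1⟩) n
  refine ⟨fun n => (seq n).1, fun n => (seq n).2, fun n => ?_⟩
  exact (step n (seq n).1 (seq n).2).choose_spec.2

theorem surjective_of_nilpotent (hmap : I.map f = J) (hres : ∀ s : S, ∃ r : R, s - f r ∈ J)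
    (hJ : ∃ N : ℕ, J ^ N = ⊥) : Function.Surjective f := by
  intro s
  obtain ⟨N, hN⟩ := hJ
  obtain ⟨r, hr, -⟩ := approx_seq f I J hmap hres s
  refine ⟨r N, ?_⟩
  have := hr N
  rw [hN, Ideal.mem_bot, sub_eq_zero] at this
  exact this.symm

theorem surjective_of_complete (hmap : I.map f = J) (hres : ∀ s : S, ∃ r : R, s - f r ∈ J)
    [IsPrecomplete I R] [IsHausdorff J S] : Function.Surjective f := by
  intro s
  obtain ⟨r, hr, hrr⟩ := approx_seq f I J hmap hres s
  have hcauchy : ∀ {m n : ℕ}, m ≤ n → r m ≡ r n [SMOD (I ^ m • ⊤ : Submodule R R)] := by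
    intro m n hmn
    induction n, hmn using Nat.le_induction with
    | base => rfl
    | succ n hmn ih =>
      refine ih.trans ?_
      rw [SModEq.sub_mem, smul_eq_mul, Ideal.mul_top]
      have := hrr n
      have h2 : r n - r (n + 1) = -(r (n + 1) - r n) := by ring
      rw [h2]
      exact Ideal.neg_mem_iff _ |>.2 (Ideal.pow_le_pow_right hmn this)
  obtain ⟨L, hL⟩ := IsPrecomplete.prec (I := I) (M := R) inferInstance hcauchy
  refine ⟨L, ?_⟩
  symm
  rw [← sub_eq_zero]
  apply IsHausdorff.haus (I := J) (M := S) inferInstance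
  intro n
  rw [SModEq.zero, smul_eq_mul, Ideal.mul_top]
  have h1 := hr n
  have h2 : r n - L ∈ I ^ n := by
    have := hL n
    rw [SModEq.sub_mem, smul_eq_mul, Ideal.mul_top] at this
    exact this
  have h3 : f (r n - L) ∈ J ^ n := by
    rw [← hmap, ← Ideal.map_pow]
    exact Ideal.mem_map_of_mem f h2
  have : s - f L = (s - f (r n)) + f (r n - L) := by rw [map_sub]; ring
  rw [this]
  exact Ideal.add_mem _ h1 h3

end Groth.Agent.Lib.LocalSurjH1
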