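import Mathlib.Tactic
import Mathlib.LinearAlgebra.Dual.Lemmas
import Groth.Prelude.Def_ArtFun5
import Groth.Agent.Lib.ArtFunAct_helper1
import Groth.Agent.S12714
import Groth.Agent.Lib.ArtFunFormal_helper1
import Groth.Prelude.Def_W4sfdMinVersal

/-!
Helper lemmas (helper1): tangent vectors (maps to the dual numbers, derivations to `k`) detecting
non-surjectivity of maps of local algebras with residue field `k`.  APPEND-ONLY once landed.
-/

set_option autoImplicit false
universe u v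

open CategoryTheory

namespace Groth.Agent.Lib.ArtFunH1

open ArtFun ArtFun.Art

variable {Λ : Type u} {k : Type u} [CommRing Λ] [Field k] [Algebra Λ k]

section DualMore

theorem dfst_one : dfst (1 : dual Λ k) = 1 := rfl
theorem dfst_zero : dfst (0 : dual Λ k) = 0 := rfl
theorem dfst_add (x y : dual Λ k) : dfst (x + y) = dfst x + dfst y := rfl
theorem dfst_mul (x y : dual Λ k) : dfst (x * y) = dfst x * dfst y := rfl
theorem dfst_algebraMap (c : Λ) : dfst (algebraMap Λ (dual Λ k) c) = algebraMap Λ k c := by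
  show TrivSqZeroExt.fst (algebraMap Λ (TrivSqZeroExt k k) c) = _
  rw [TrivSqZeroExt.algebraMap_eq_inl', TrivSqZeroExt.fst_inl]

end DualMore

section Core

variable {R S : Type u} [CommRing R] [Algebra Λ R] [CommRing S] [Algebra Λ S]

/-- If `x₀` in the augmentation ideal of `S` is not in `J ⊇ m_S² + f(m_R)S`, some "derivation"
`D : S → k` kills `f(R)` but not `x₀`. -/
theorem exists_deriv_of_not_mem (resR : R →ₐ[Λ] k) (resS : S →ₐ[Λ] k)
    (hR : Function.Surjective resR) (f : R →ₐ[Λ] S) (hf : resS.comp f = resR)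
    (J : Ideal S) (hJ1 : ∀ s t, resS s = 0 → resS t = 0 → s * t ∈ J)
    (hJ2 : ∀ r, resR r = 0 → f r ∈ J)
    (x₀ : S) (hx₀m : resS x₀ = 0) (hx₀ : x₀ ∉ J) :
    ∃ D : S → k, (∀ s t, D (s + t) = D s + D t) ∧
      (∀ s t, D (s * t) = resS s * D t + resS t * D s) ∧ (∀ r, D (f r) = 0) ∧ D x₀ ≠ 0 := by
  have hfr : ∀ r, resS (f r) = resR r := fun r => AlgHom.congr_fun hf r
  let g : R →+* S ⧸ J := (Ideal.Quotient.mk J).comp (f : R →+* S)
  have hg : RingHom.ker (resR : R →+* k) ≤ RingHom.ker g := by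
    intro r hr
    rw [RingHom.mem_ker] at hr ⊢
    exact Ideal.Quotient.eq_zero_iff_mem.2 (hJ2 r hr)
  let σ : k →+* S ⧸ J := RingHom.liftOfSurjective (resR : R →+* k) hR ⟨g, hg⟩
  have hσ : ∀ r, σ (resR r) = Ideal.Quotient.mk J (f r) := fun r =>
    RingHom.liftOfRightInverse_comp_apply _ _ _ ⟨g, hg⟩ r
  let _ : Algebra k (S ⧸ J) := σ.toAlgebra
  obtain ⟨ℓ, hℓ⟩ : ∃ ℓ : (S ⧸ J) →ₗ[k] k, ℓ (Ideal.Quotient.mk J x₀) ≠ 0 := by
    by_contra h
    push Not at h
    exact hx₀ (Ideal.Quotient.eq_zero_iff_mem.1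
      ((Module.forall_dual_apply_eq_zero_iff k _).1 h))
  refine ⟨fun s => ℓ (Ideal.Quotient.mk J s - σ (resS s)), ?_, ?_, ?_, ?_⟩
  · intro s t
    show ℓ _ = ℓ _ + ℓ _
    rw [← map_add]
    congr 1
    rw [map_add, map_add, map_add]
    ring
  · intro s t
    show ℓ _ = resS s * ℓ _ + resS t * ℓ _
    obtain ⟨ra, hra⟩ := hR (resS s)
    obtain ⟨rb, hrb⟩ := hR (resS t)
    have huv : (Ideal.Quotient.mk J s - σ (resS s)) * (Ideal.Quotient.mk J t - σ (resS t)) = 0 := by
      rw [← hra, ← hrb, hσ, hσ, ← map_sub, ← map_sub, ← map_mul]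
      apply Ideal.Quotient.eq_zero_iff_mem.2
      apply hJ1
      · rw [map_sub, hfr, hra, sub_self]
      · rw [map_sub, hfr, hrb, sub_self]
    have h1 : Ideal.Quotient.mk J (s * t) - σ (resS (s * t)) =
        resS s • (Ideal.Quotient.mk J t - σ (resS t)) + resS t • (Ideal.Quotient.mk J s - σ (resS s)) := by
      rw [Algebra.smul_def, Algebra.smul_def]
      show _ = σ (resS s) * _ + σ (resS t) * _
      rw [map_mul, map_mul, map_mul]
      have := huv
      linear_combination this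
    rw [h1, map_add, map_smul, map_smul, smul_eq_mul, smul_eq_mul]
  · intro r
    show ℓ _ = 0
    rw [hfr, hσ, sub_self, map_zero]
  · show ℓ _ ≠ 0
    rw [hx₀m, map_zero, sub_zero]
    exact hℓ

/-- The map `S → k[ε]`, `s ↦ res s + D(s) ε` attached to a "derivation". -/
noncomputable def tanOfDeriv (resS : S →ₐ[Λ] k) (f : R →ₐ[Λ] S) (D : S → k)
    (hadd : ∀ s t, D (s + t) = D s + D t)
    (hmul : ∀ s t, D (s * t) = resS s * D t + resS t * D s) (hDf : ∀ r, D (f r) = 0) :
    HomSet S resS (dual Λ k) :=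
  have hD1 : D 1 = 0 := by
    have := hDf 1
    rwa [map_one] at this
  have hD0 : D 0 = 0 := by
    have := hDf 0
    rwa [map_zero] at this
  ⟨{ toFun := fun s => dmk (resS s) (D s)
     map_one' := by
       apply dual_ext
       · rw [dfst_dmk, map_one, dfst_one]
       · rw [dsnd_dmk, hD1, dsnd_one]
     map_mul' := by
       intro s t
       apply dual_ext
       · rw [dfst_dmk, dfst_mul, dfst_dmk, dfst_dmk, map_mul]
       · rw [dsnd_dmk, dsnd_mul, dfst_dmk, dfst_dmk, dsnd_dmk, dsnd_dmk, hmul]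
     map_zero' := by
       apply dual_ext
       · rw [dfst_dmk, map_zero, dfst_zero]
       · rw [dsnd_dmk, hD0, dsnd_zero]
     map_add' := by
       intro s t
       apply dual_ext
       · rw [dfst_dmk, dfst_add, dfst_dmk, dfst_dmk, map_add]
       · rw [dsnd_dmk, dsnd_add, dsnd_dmk, dsnd_dmk, hadd]
     commutes' := by
       intro c
       apply dual_ext
       · rw [dfst_dmk, dfst_algebraMap, AlgHom.commutes]
       · rw [dsnd_dmk, dsnd_algebraMap, ← f.commutes c, hDf] },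
   by
     apply AlgHom.ext
     intro s
     rfl⟩

theorem tanOfDeriv_apply (resS : S →ₐ[Λ] k) (f : R →ₐ[Λ] S) (D : S → k)
    (hadd : ∀ s t, D (s + t) = D s + D t)
    (hmul : ∀ s t, D (s * t) = resS s * D t + resS t * D s) (hDf : ∀ r, D (f r) = 0) (s : S) :
    (tanOfDeriv resS f D hadd hmul hDf).1 s = dmk (resS s) (D s) := rfl

/-- Two distinct tangent vectors of `S` agreeing on `f(R)`. -/
theorem exists_homSet_ne_of_not_mem (resR : R →ₐ[Λ] k) (resS : S →ₐ[Λ] k)
    (hR : Function.Surjective resR) (f : R →ₐ[Λ] S) (hf : resS.comp f = resR)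
    (J : Ideal S) (hJ1 : ∀ s t, resS s = 0 → resS t = 0 → s * t ∈ J)
    (hJ2 : ∀ r, resR r = 0 → f r ∈ J)
    (x₀ : S) (hx₀m : resS x₀ = 0) (hx₀ : x₀ ∉ J) :
    ∃ τ₁ τ₂ : HomSet S resS (dual Λ k), τ₁ ≠ τ₂ ∧ τ₁.1.comp f = τ₂.1.comp f := by
  obtain ⟨D, hadd, hmul, hDf, hDx⟩ :=
    exists_deriv_of_not_mem resR resS hR f hf J hJ1 hJ2 x₀ hx₀m hx₀
  have h1 : ∀ s t : S, (fun _ : S => (0 : k)) (s + t) =
      (fun _ : S => (0 : k)) s + (fun _ : S => (0 : k)) t := fun _ _ => (add_zero 0).symm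
  have h2 : ∀ s t : S, (fun _ : S => (0 : k)) (s * t) =
      resS s * (fun _ : S => (0 : k)) t + resS t * (fun _ : S => (0 : k)) s :=
    fun _ _ => by simp
  have h3 : ∀ r : R, (fun _ : S => (0 : k)) (f r) = 0 := fun _ => rfl
  refine ⟨tanOfDeriv resS f D hadd hmul hDf, tanOfDeriv resS f (fun _ => 0) h1 h2 h3, ?_, ?_⟩
  · intro h
    apply hDx
    have := congrArg (fun τ : HomSet S resS (dual Λ k) => dsnd (τ.1 x₀)) h
    simpa [tanOfDeriv_apply, dsnd_dmk] using this
  · apply AlgHom.ext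
    intro r
    show (tanOfDeriv resS f D hadd hmul hDf).1 (f r) =
      (tanOfDeriv resS f (fun _ => 0) h1 h2 h3).1 (f r)
    rw [tanOfDeriv_apply, tanOfDeriv_apply, hDf]

end Core

section CRingLevel

variable [IsNoetherianRing Λ] [Module.Finite Λ k]

/-- A non-surjective morphism of coefficient rings is not injective on tangent vectors. -/
theorem exists_homSet_ne_of_not_surjective (R' R : CRing Λ k) (f : R'.carrier →ₐ[Λ] R.carrier)
    (hf : R.res.comp f = R'.res) (hns : ¬ Function.Surjective f) :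
    ∃ τ₁ τ₂ : HomSet R.carrier R.res (dual Λ k), τ₁ ≠ τ₂ ∧ τ₁.1.comp f = τ₂.1.comp f := by
  have hfr : ∀ r, R.res (f r) = R'.res r := fun r => AlgHom.congr_fun hf r
  have hJne : Ideal.map f (IsLocalRing.maximalIdeal R'.carrier) ⊔ IsLocalRing.maximalIdeal R.carrier ^ 2 ≠
      IsLocalRing.maximalIdeal R.carrier := by
    intro h
    exact hns (((Groth.Agent.S12714.result R' R f hf).out 1 0).1 h)
  have hJle : Ideal.map f (IsLocalRing.maximalIdeal R'.carrier) ⊔ IsLocalRing.maximalIdeal R.carrier ^ 2 ≤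
      IsLocalRing.maximalIdeal R.carrier := by
    refine sup_le ?_ (Ideal.pow_le_self two_ne_zero)
    rw [Ideal.map_le_iff_le_comap]
    intro a ha
    rw [Ideal.mem_comap, CRing.mem_maximalIdeal_iff, hfr]
    exact (CRing.mem_maximalIdeal_iff R' a).1 ha
  obtain ⟨x₀, hx₀m, hx₀⟩ := SetLike.exists_of_lt (lt_of_le_of_ne hJle hJne)
  refine exists_homSet_ne_of_not_mem R'.res R.res R'.res_surjective f hf _ ?_ ?_ x₀
    ((CRing.mem_maximalIdeal_iff R x₀).1 hx₀m) hx₀
  · intro s t hs ht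
    apply Ideal.mem_sup_right
    rw [pow_two]
    exact Ideal.mul_mem_mul ((CRing.mem_maximalIdeal_iff R s).2 hs)
      ((CRing.mem_maximalIdeal_iff R t).2 ht)
  · intro r hr
    apply Ideal.mem_sup_left
    exact Ideal.mem_map_of_mem f ((CRing.mem_maximalIdeal_iff R' r).2 hr)

end CRingLevel

section Factor

/-- Factorisation through an explicit truncation. -/
theorem exists_factor_trunc_of_pow (R : CRing Λ k) (A : Art Λ k) (N : ℕ)
    (hN : IsLocalRing.maximalIdeal A ^ N = ⊥) (u : HomSet R.carrier R.res A) :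
    ∃ ubar : R.trunc N ⟶ A, HomSet.map ubar (R.truncHom N) = u := by
  have hmax : (IsLocalRing.maximalIdeal R.carrier).map (u.1 : R.carrier →+* A) ≤
      IsLocalRing.maximalIdeal A := by
    rw [Ideal.map_le_iff_le_comap]
    intro r hr
    rw [Ideal.mem_comap, Art.mem_maximalIdeal_iff]
    have h1 : A.res (u.1 r) = R.res r := AlgHom.congr_fun u.2 r
    show A.res (u.1 r) = 0
    rw [h1]
    exact (CRing.mem_maximalIdeal_iff R r).1 hr
  have hker : ∀ a ∈ CRing.mpow R N, u.1 a = 0 := by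
    intro a ha
    have h1 : (u.1 : R.carrier →+* A) a ∈ (CRing.mpow R N).map (u.1 : R.carrier →+* A) :=
      Ideal.mem_map_of_mem _ ha
    rw [Ideal.map_pow] at h1
    have h2 := Ideal.pow_right_mono hmax (N + 1) h1
    have h3 := Ideal.pow_le_pow_right (Nat.le_succ N) h2
    rw [hN] at h3
    exact h3
  refine ⟨⟨Ideal.Quotient.liftₐ (CRing.mpow R N) u.1 hker, ?_⟩, ?_⟩
  · apply AlgHom.ext
    intro x
    obtain ⟨a, rfl⟩ := Ideal.Quotient.mk_surjective x
    exact AlgHom.congr_fun u.2 a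
  · apply Subtype.ext
    apply AlgHom.ext
    intro r
    rfl

/-- If the formal element of `ξ` is pushed forward along `f`, then `ξ` only sees maps through
their restriction along `f`. -/
theorem family_app_eq_of_comp_eq {F : Art Λ k ⥤ Type v} (R' R : CRing Λ k)
    (ξ : Family R.carrier R.res F) (u : FormalElt F R') (f : R'.carrier →ₐ[Λ] R.carrier)
    (hf : R.res.comp f = R'.res) (hpush : u.push f hf = ξ.toFormalElt) (A : Art Λ k)
    (τ₁ τ₂ : HomSet R.carrier R.res A) (h : τ₁.1.comp f = τ₂.1.comp f) :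
    ξ.app A τ₁ = ξ.app A τ₂ := by
  obtain ⟨N, hN⟩ := exists_maximalIdeal_pow_eq_bot A
  obtain ⟨t₁, ht₁⟩ := exists_factor_trunc_of_pow R A N hN τ₁
  obtain ⟨t₂, ht₂⟩ := exists_factor_trunc_of_pow R A N hN τ₂
  have e : ξ.app _ (R.truncHom N) = F.map (CRing.truncMapOfHom f hf N) (u.elt N) := by
    have := congrArg (fun w => w.elt N) hpush
    exact this.symm
  have key : CRing.truncMapOfHom f hf N ≫ t₁ = CRing.truncMapOfHom f hf N ≫ t₂ := by
    apply Art.hom_ext
    apply AlgHom.ext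
    intro x
    obtain ⟨a, rfl⟩ := Ideal.Quotient.mk_surjective x
    have h1 : t₁ (Ideal.Quotient.mk _ (f a)) = τ₁.1 (f a) :=
      congrArg (fun w : HomSet R.carrier R.res A => w.1 (f a)) ht₁
    have h2 : t₂ (Ideal.Quotient.mk _ (f a)) = τ₂.1 (f a) :=
      congrArg (fun w : HomSet R.carrier R.res A => w.1 (f a)) ht₂
    show t₁ (Ideal.Quotient.mk _ (f a)) = t₂ (Ideal.Quotient.mk _ (f a))
    rw [h1, h2]
    exact AlgHom.congr_fun h a
  rw [← ht₁, ← ht₂, ξ.natural, ξ.natural, e, ← map_comp_apply, ← map_comp_apply, key]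

end Factor

section CRingLevel2

variable [IsNoetherianRing Λ] [Module.Finite Λ k]

/-- A non-surjective morphism of coefficient rings is killed by a nonzero "derivation". -/
theorem exists_deriv_of_not_surjective (R' R : CRing Λ k) (f : R'.carrier →ₐ[Λ] R.carrier)
    (hf : R.res.comp f = R'.res) (hns : ¬ Function.Surjective f) :
    ∃ D : R.carrier → k, (∀ s t, D (s + t) = D s + D t) ∧
      (∀ s t, D (s * t) = R.res s * D t + R.res t * D s) ∧ (∀ r, D (f r) = 0) ∧ ∃ x₀, D x₀ ≠ 0 := by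
  have hfr : ∀ r, R.res (f r) = R'.res r := fun r => AlgHom.congr_fun hf r
  have hJne : Ideal.map f (IsLocalRing.maximalIdeal R'.carrier) ⊔ IsLocalRing.maximalIdeal R.carrier ^ 2 ≠
      IsLocalRing.maximalIdeal R.carrier := by
    intro h
    exact hns (((Groth.Agent.S12714.result R' R f hf).out 1 0).1 h)
  have hJle : Ideal.map f (IsLocalRing.maximalIdeal R'.carrier) ⊔ IsLocalRing.maximalIdeal R.carrier ^ 2 ≤
      IsLocalRing.maximalIdeal R.carrier := by
    refine sup_le ?_ (Ideal.pow_le_self two_ne_zero)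
    rw [Ideal.map_le_iff_le_comap]
    intro a ha
    rw [Ideal.mem_comap, CRing.mem_maximalIdeal_iff, hfr]
    exact (CRing.mem_maximalIdeal_iff R' a).1 ha
  obtain ⟨x₀, hx₀m, hx₀⟩ := SetLike.exists_of_lt (lt_of_le_of_ne hJle hJne)
  have hJ1 : ∀ s t, R.res s = 0 → R.res t = 0 → s * t ∈
      Ideal.map f (IsLocalRing.maximalIdeal R'.carrier) ⊔ IsLocalRing.maximalIdeal R.carrier ^ 2 := by
    intro s t hs ht
    apply Ideal.mem_sup_right
    rw [pow_two]
    exact Ideal.mul_mem_mul ((CRing.mem_maximalIdeal_iff R s).2 hs)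
      ((CRing.mem_maximalIdeal_iff R t).2 ht)
  have hJ2 : ∀ r, R'.res r = 0 → f r ∈
      Ideal.map f (IsLocalRing.maximalIdeal R'.carrier) ⊔ IsLocalRing.maximalIdeal R.carrier ^ 2 := by
    intro r hr
    apply Ideal.mem_sup_left
    exact Ideal.mem_map_of_mem f ((CRing.mem_maximalIdeal_iff R' r).2 hr)
  obtain ⟨D, h1, h2, h3, h4⟩ := exists_deriv_of_not_mem R'.res R.res R'.res_surjective f hf _
    hJ1 hJ2 x₀ ((CRing.mem_maximalIdeal_iff R x₀).1 hx₀m) hx₀
  exact ⟨D, h1, h2, h3, x₀, h4⟩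

end CRingLevel2

section Separate

/-- Maps to the dual numbers separate the points of a square-zero object with a section. -/
theorem exists_hom_dual_separating (T : Art Λ k) (σ : base Λ k ⟶ T)
    (hT : IsLocalRing.maximalIdeal T ^ 2 = ⊥) (x y : T) (hxy : x ≠ y) :
    ∃ ℓ : T ⟶ dual Λ k, ℓ x ≠ ℓ y := by
  by_cases hres : T.res x = T.res y
  · have hx₀ : x - y ∉ (⊥ : Ideal T) := by
      rw [Ideal.mem_bot, sub_eq_zero]
      exact hxy
    obtain ⟨D, hadd, hmul, hDf, hDx⟩ := exists_deriv_of_not_mem (R := k) (S := T)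
      (AlgHom.id Λ k) T.res Function.surjective_id σ.toAlgHom σ.res_comp ⊥
      (by
        intro s t hs ht
        rw [← hT, pow_two]
        exact Ideal.mul_mem_mul ((Art.mem_maximalIdeal_iff T s).2 hs)
          ((Art.mem_maximalIdeal_iff T t).2 ht))
      (by
        intro r hr
        have : r = 0 := hr
        rw [this, map_zero]
        exact Ideal.zero_mem _)
      (x - y) (by rw [map_sub, hres, sub_self]) hx₀
    let τ := tanOfDeriv T.res σ.toAlgHom D hadd hmul hDf
    refine ⟨⟨τ.1, τ.2⟩, ?_⟩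
    intro h
    apply hDx
    have h1 : τ.1 x = τ.1 y := h
    have h2 : τ.1 (x - y) = 0 := by rw [map_sub, h1, sub_self]
    have h3 := congrArg dsnd h2
    rw [tanOfDeriv_apply, dsnd_dmk] at h3
    exact h3
  · refine ⟨toBase T ≫ baseToDual, ?_⟩
    intro h
    apply hres
    have h1 := congrArg (dual Λ k).res h
    rw [Art.res_app, Art.res_app] at h1
    exact h1

end Separate

end Groth.Agent.Lib.ArtFunH1
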