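import Mathlib
import Groth.Agent.Lib.ArtFunInd_helper1
import Groth.Agent.S12731

/-!
# The objects `k[k^r]` and elements with prescribed tangent directions (helper1)
APPEND-ONLY once landed.
-/

set_option autoImplicit false
universe u v

open CategoryTheory

namespace Groth.Agent.Lib.SchlH1

open ArtFun ArtFun.Art Groth.Agent.Lib.ArtFunH1

variable {Λ : Type u} {k : Type u} [CommRing Λ] [Field k] [Algebra Λ k]

section KV

variable (Λ k) in
/-- `k[V]` for `V = k^r` -/
noncomputable def kV (r : ℕ) : Art Λ k :=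
  { carrier := TrivSqZeroExt k (Fin r → k)
    isLocalRing := isLocalRing_tsze k (Fin r → k)
    isArtinianRing := isArtinianRing_tsze k (Fin r → k)
    res := TrivSqZeroExt.fstHom Λ k (Fin r → k)
    res_surjective := fun a => ⟨TrivSqZeroExt.inl a, rfl⟩ }

/-- the map `k[k^r] → k[k^s]` of a linear map -/
noncomputable def kVMap {r s : ℕ} (f : (Fin r → k) →ₗ[k] (Fin s → k)) :
    kV Λ k r ⟶ kV Λ k s := ⟨tszeMap f, AlgHom.ext fun _ => rfl⟩

/-- the map `k[k^r] → k[ε]` of a linear functional -/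
noncomputable def kVToDual {r : ℕ} (f : (Fin r → k) →ₗ[k] k) :
    kV Λ k r ⟶ dual Λ k := ⟨tszeMap f, AlgHom.ext fun _ => rfl⟩

/-- the map `k[k^r] → k[ε₁, ε₂]` of a pair of linear functionals -/
noncomputable def kVToDual2 {r : ℕ} (f : (Fin r → k) →ₗ[k] k × k) :
    kV Λ k r ⟶ dual2 Λ k := ⟨tszeMap f, AlgHom.ext fun _ => rfl⟩

variable (Λ k) in
/-- the inclusion `k → k[k^r]` -/
noncomputable def baseToKV (r : ℕ) : base Λ k ⟶ kV Λ k r :=
  ⟨TrivSqZeroExt.inlAlgHom Λ k (Fin r → k), AlgHom.ext fun _ => rfl⟩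

/-- the functional `v ↦ ∑ c i * v i` -/
noncomputable def lc {r : ℕ} (c : Fin r → k) : (Fin r → k) →ₗ[k] k where
  toFun v := ∑ i, c i * v i
  map_add' v w := by simp [mul_add, Finset.sum_add_distrib]
  map_smul' a v := by simp [Finset.mul_sum, mul_left_comm]

theorem lc_apply {r : ℕ} (c v : Fin r → k) : lc c v = ∑ i, c i * v i := rfl

variable (k) in
/-- forgetting the last coordinate -/
noncomputable def initL (r : ℕ) : (Fin (r + 1) → k) →ₗ[k] (Fin r → k) where
  toFun v := fun i => v i.castSucc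
  map_add' _ _ := rfl
  map_smul' _ _ := rfl

theorem isFibreProd_kV (r : ℕ) :
    IsFibreProd (kVMap (initL k r) : kV Λ k (r + 1) ⟶ kV Λ k r)
      (kVToDual (LinearMap.proj (Fin.last r))) (toBase _) (toBase _) where
  w := by rw [eq_toBase (kVMap _ ≫ toBase _), eq_toBase (kVToDual _ ≫ toBase _)]
  inj b₁ b₂ h₁ h₂ := by
    have e₁ : b₁.fst = b₂.fst := by have e := congrArg TrivSqZeroExt.fst h₁; exact e
    have e₂ : ∀ i : Fin r, b₁.snd i.castSucc = b₂.snd i.castSucc := fun i => by
      have e := congrFun (congrArg TrivSqZeroExt.snd h₁) i; exact e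
    have e₃ : b₁.snd (Fin.last r) = b₂.snd (Fin.last r) := by
      have e := congrArg TrivSqZeroExt.snd h₂; exact e
    refine TrivSqZeroExt.ext e₁ (funext fun i => ?_)
    exact Fin.lastCases e₃ e₂ i
  surj a' a'' h := by
    have h' : a'.fst = a''.fst := h
    refine ⟨(a'.fst, Fin.snoc (α := fun _ => k) a'.snd a''.snd), TrivSqZeroExt.ext rfl ?_,
      TrivSqZeroExt.ext h' ?_⟩
    · funext i
      show Fin.snoc (α := fun _ => k) a'.snd a''.snd i.castSucc = a'.snd i
      rw [Fin.snoc_castSucc]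
    · show Fin.snoc (α := fun _ => k) a'.snd a''.snd (Fin.last r) = a''.snd
      rw [Fin.snoc_last]

end KV

section Elt

variable {F : Art Λ k ⥤ Type v} [TangentStr F]

theorem zero_eq' (h0 : H0 F) (pt : F.obj (base Λ k)) (x : TangentSpace F)
    (hx : x = F.map baseToDual pt) : x = 0 := by
  have h1 : (scale (0 : k) : dual Λ k ⟶ dual Λ k) = toBase (dual Λ k) ≫ baseToDual := by
    apply Art.hom_ext
    apply AlgHom.ext
    intro y
    refine TrivSqZeroExt.ext rfl ?_
    show (0 : k) • y.snd = 0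
    rw [zero_smul]
  have h2 : (0 : k) • x = F.map (scale 0) x := TangentStr.smul_eq 0 x
  have h4 : F.map (scale (0 : k)) (show F.obj (dual Λ k) from x) = F.map baseToDual pt := by
    rw [h1, map_comp_apply]
    congr 1
    exact h0.2.elim _ _
  rw [zero_smul] at h2
  exact hx.trans (h4.symm.trans h2.symm)

theorem exists_kV_elt (h0 : H0 F) (h2 : Heps F) : ∀ (r : ℕ) (θ : Fin r → TangentSpace F),
    ∃ x : F.obj (kV Λ k r), ∀ (c : Fin r → k) (t : TangentSpace F),
      t = F.map (kVToDual (lc c)) x → t = ∑ i, c i • θ i := by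
  intro r
  induction r with
  | zero =>
    intro θ
    obtain ⟨pt⟩ := h0.1
    refine ⟨F.map (baseToKV Λ k 0) pt, ?_⟩
    intro c t ht
    rw [Finset.univ_eq_empty, Finset.sum_empty]
    have e : baseToKV Λ k 0 ≫ kVToDual (lc c) = (baseToDual : base Λ k ⟶ dual Λ k) := by
      apply Art.hom_ext
      apply AlgHom.ext
      intro a
      refine TrivSqZeroExt.ext rfl ?_
      show lc c 0 = 0
      rw [map_zero]
    rw [← map_comp_apply, e] at ht
    exact zero_eq' h0 pt t ht
  | succ r ih =>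
    intro θ
    obtain ⟨x', hx'⟩ := ih (fun i => θ i.castSucc)
    have hfp := isFibreProd_kV (Λ := Λ) (k := k) r
    obtain ⟨x, hx1, hx2⟩ := (cmp_surjective_iff hfp).1 (h2 _ _ hfp).2 x' (θ (Fin.last r))
      (h0.2.elim _ _)
    refine ⟨x, ?_⟩
    intro c t ht
    obtain ⟨mc, hmc⟩ : ∃ mc : kV Λ k (r + 1) ⟶ dual2 Λ k, mc = kVToDual2 (LinearMap.prod
        ((lc (fun i => c i.castSucc)).comp (initL k r))
        (c (Fin.last r) • LinearMap.proj (Fin.last r))) := ⟨_, rfl⟩
    have e1 : mc ≫ pr₁ = kVMap (initL k r) ≫ kVToDual (lc (fun i => c i.castSucc)) := by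
      rw [hmc]
      apply Art.hom_ext
      apply AlgHom.ext
      intro y
      rfl
    have e2 : mc ≫ pr₂ = kVToDual (LinearMap.proj (Fin.last r)) ≫ scale (c (Fin.last r)) := by
      rw [hmc]
      apply Art.hom_ext
      apply AlgHom.ext
      intro y
      rfl
    have e3 : mc ≫ plus = kVToDual (lc c) := by
      rw [hmc]
      apply Art.hom_ext
      apply AlgHom.ext
      intro y
      refine TrivSqZeroExt.ext rfl ?_
      show lc (fun i => c i.castSucc) (initL k r y.snd) + c (Fin.last r) • y.snd (Fin.last r) =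
        lc c y.snd
      rw [lc_apply, lc_apply, Fin.sum_univ_castSucc, smul_eq_mul]
      rfl
    have ht' : t = F.map plus (F.map mc x) := by rw [ht, ← map_comp_apply, e3]
    obtain ⟨t₁, ht₁⟩ : ∃ t₁ : TangentSpace F, t₁ = F.map pr₁ (F.map mc x) := ⟨_, rfl⟩
    obtain ⟨t₂, ht₂⟩ : ∃ t₂ : TangentSpace F, t₂ = F.map pr₂ (F.map mc x) := ⟨_, rfl⟩
    have hsum : t₁ + t₂ = t := by
      rw [ht']
      exact Groth.Agent.S12731.add_eq' t₁ t₂ _ ht₁ ht₂
    have h1 : t₁ = ∑ i : Fin r, c i.castSucc • θ i.castSucc := by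
      apply hx' (fun i => c i.castSucc) t₁
      rw [ht₁, ← map_comp_apply, e1, map_comp_apply, hx1]
    have h2' : t₂ = c (Fin.last r) • θ (Fin.last r) := by
      rw [ht₂, ← map_comp_apply, e2, map_comp_apply, hx2]
      exact (TangentStr.smul_eq _ _).symm
    rw [← hsum, h1, h2', Fin.sum_univ_castSucc]

/-- an object and an element through which every tangent vector factors -/
theorem exists_initial (h0 : H0 F) (h2 : Heps F) (h3 : Hfin F) :
    ∃ (A₀ : Art Λ k) (x₀ : F.obj A₀), ∀ θ : F.obj (dual Λ k),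
      ∃ ℓ : A₀ ⟶ dual Λ k, F.map ℓ x₀ = θ := by
  haveI : Module.Finite k (TangentSpace F) := h3
  obtain ⟨r, s, hs⟩ := Module.Finite.exists_fin (R := k) (M := TangentSpace F)
  obtain ⟨x, hx⟩ := exists_kV_elt h0 h2 r s
  refine ⟨kV Λ k r, x, fun θ => ?_⟩
  have hθ : (show TangentSpace F from θ) ∈ Submodule.span k (Set.range s) := by
    rw [hs]
    trivial
  obtain ⟨c, hc⟩ := (Submodule.mem_span_range_iff_exists_fun k).1 hθ
  refine ⟨kVToDual (lc c), ?_⟩
  have h := hx c (F.map (kVToDual (lc c)) x) rfl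
  exact h.trans hc

end Elt

end Groth.Agent.Lib.SchlH1
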