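import Mathlib
import Groth.Agent.Lib.ArtFunInd_helper1
import Groth.Agent.Lib.ArtFunFormal_helper1
import Groth.Agent.Lib.ArtFunFib_helper1
import Groth.Agent.S12707
import Groth.Agent.S12729
import Groth.Agent.S12711
import Groth.Agent.S12713
import Groth.Agent.S12728

/-!
# Schlessinger's construction of a versal family (helper1)

Quotient objects of a coefficient ring, stages, minimal refinements.
APPEND-ONLY once landed.
-/

set_option autoImplicit false
universe u v

open CategoryTheory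

namespace Groth.Agent.Lib.SchlH1

open ArtFun ArtFun.Art Groth.Agent.Lib.ArtFunH1

variable {Λ : Type u} {k : Type u} [CommRing Λ] [Field k] [Algebra Λ k]

section HomSetBasics

variable {R : Type u} [CommRing R] [Algebra Λ R] {resR : R →ₐ[Λ] k}

theorem hmap_comp {A B C : Art Λ k} (f : A ⟶ B) (g : B ⟶ C) (φ : HomSet R resR A) :
    HomSet.map (f ≫ g) φ = HomSet.map g (HomSet.map f φ) := Subtype.ext (AlgHom.ext fun _ => rfl)

theorem hmap_id {A : Art Λ k} (φ : HomSet R resR A) : HomSet.map (𝟙 A) φ = φ :=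
  Subtype.ext (AlgHom.ext fun _ => rfl)

theorem hmap_apply {A B : Art Λ k} (f : A ⟶ B) (φ : HomSet R resR A) (r : R) :
    (HomSet.map f φ).1 r = f (φ.1 r) := rfl

theorem res_hom {A : Art Λ k} (φ : HomSet R resR A) (r : R) : A.res (φ.1 r) = resR r :=
  AlgHom.congr_fun φ.2 r

/-- factorisation through a surjection -/
theorem exists_factor {A A' : Art Λ k} (π : HomSet R resR A) (hπ : Function.Surjective π.1)
    (φ : HomSet R resR A') (hk : RingHom.ker π.1 ≤ RingHom.ker φ.1) :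
    ∃ w : A ⟶ A', HomSet.map w π = φ := by
  let e := Ideal.quotientKerAlgEquivOfSurjective hπ
  let g : A →ₐ[Λ] A' :=
    (Ideal.Quotient.liftₐ (RingHom.ker π.1) φ.1 (fun a ha => hk ha)).comp e.symm.toAlgHom
  have hg : ∀ r, g (π.1 r) = φ.1 r := by
    intro r
    have h1 : e.symm (π.1 r) = Ideal.Quotient.mk _ r := by
      rw [AlgEquiv.symm_apply_eq]
      rfl
    have h2 : g (π.1 r) = Ideal.Quotient.liftₐ (RingHom.ker π.1) φ.1 (fun a ha => hk ha)
        (e.symm (π.1 r)) := rfl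
    rw [h2, h1]
    rfl
  refine ⟨⟨g, ?_⟩, ?_⟩
  · apply AlgHom.ext
    intro a
    obtain ⟨r, rfl⟩ := hπ a
    show A'.res (g (π.1 r)) = A.res (π.1 r)
    rw [hg, res_hom, res_hom]
  · apply Subtype.ext
    apply AlgHom.ext
    intro r
    exact hg r

theorem hom_ext_of_surjective {A A' : Art Λ k} (π : HomSet R resR A)
    (hπ : Function.Surjective π.1) (w w' : A ⟶ A') (h : HomSet.map w π = HomSet.map w' π) :
    w = w' := by
  apply Art.hom_ext
  apply AlgHom.ext
  intro a
  obtain ⟨r, rfl⟩ := hπ a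
  exact congrArg (fun ψ : HomSet R resR A' => ψ.1 r) h

theorem ker_le_ker_map {A B : Art Λ k} (f : A ⟶ B) (φ : HomSet R resR A) :
    RingHom.ker φ.1 ≤ RingHom.ker (HomSet.map f φ).1 := by
  intro r hr
  rw [RingHom.mem_ker] at hr ⊢
  rw [hmap_apply, hr, map_zero]

end HomSetBasics

section QObj

variable (S : CRing Λ k)

theorem ker_le_max {A : Art Λ k} (φ : HomSet S.carrier S.res A) :
    RingHom.ker φ.1 ≤ IsLocalRing.maximalIdeal S.carrier := by
  intro r hr
  rw [CRing.mem_maximalIdeal_iff, ← res_hom φ, RingHom.mem_ker.1 hr, map_zero]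

theorem exists_pow_le_ker (A : Art Λ k) (u : HomSet S.carrier S.res A) :
    ∃ N : ℕ, IsLocalRing.maximalIdeal S.carrier ^ N ≤ RingHom.ker u.1 := by
  obtain ⟨N, hN⟩ := exists_maximalIdeal_pow_eq_bot A
  have hmax : (IsLocalRing.maximalIdeal S.carrier).map (u.1 : S.carrier →+* A) ≤
      IsLocalRing.maximalIdeal A := by
    rw [Ideal.map_le_iff_le_comap]
    intro r hr
    rw [Ideal.mem_comap, Art.mem_maximalIdeal_iff]
    show A.res (u.1 r) = 0
    rw [res_hom]
    exact (CRing.mem_maximalIdeal_iff S r).1 hr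
  refine ⟨N, fun a ha => ?_⟩
  have h1 : (u.1 : S.carrier →+* A) a ∈
      (IsLocalRing.maximalIdeal S.carrier ^ N).map (u.1 : S.carrier →+* A) :=
    Ideal.mem_map_of_mem _ ha
  rw [Ideal.map_pow] at h1
  have h2 := Ideal.pow_right_mono hmax N h1
  rw [hN] at h2
  exact RingHom.mem_ker.2 h2

variable (J : Ideal S.carrier) (hJ : J ≤ IsLocalRing.maximalIdeal S.carrier)

include hJ in
theorem quot_nontrivial : Nontrivial (S.carrier ⧸ J) :=
  Ideal.Quotient.nontrivial_iff.2
    (fun h => (IsLocalRing.maximalIdeal.isMaximal S.carrier).ne_top (top_le_iff.1 (h ▸ hJ)))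

include hJ in
theorem quot_isLocalRing : IsLocalRing (S.carrier ⧸ J) :=
  haveI := quot_nontrivial S J hJ
  IsLocalRing.of_surjective' (Ideal.Quotient.mk J) Ideal.Quotient.mk_surjective

theorem maximalIdeal_quot_le :
    haveI := quot_isLocalRing S J hJ
    IsLocalRing.maximalIdeal (S.carrier ⧸ J) ≤
      (IsLocalRing.maximalIdeal S.carrier).map (Ideal.Quotient.mk J) := by
  haveI := quot_isLocalRing S J hJ
  intro x hx
  obtain ⟨a, rfl⟩ := Ideal.Quotient.mk_surjective x
  have ha : a ∈ IsLocalRing.maximalIdeal S.carrier := by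
    rw [IsLocalRing.mem_maximalIdeal] at hx ⊢
    exact fun hu => hx (hu.map (Ideal.Quotient.mk J))
  exact Ideal.mem_map_of_mem _ ha

include hJ in
theorem quot_isArtinianRing (h : ∃ N : ℕ, IsLocalRing.maximalIdeal S.carrier ^ N ≤ J) :
    IsArtinianRing (S.carrier ⧸ J) := by
  haveI := quot_isLocalRing S J hJ
  obtain ⟨N, hN⟩ := h
  rw [isArtinianRing_iff_isNilpotent_maximalIdeal]
  refine ⟨N, ?_⟩
  rw [Ideal.zero_eq_bot, ← le_bot_iff]
  calc IsLocalRing.maximalIdeal (S.carrier ⧸ J) ^ N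
      ≤ ((IsLocalRing.maximalIdeal S.carrier).map (Ideal.Quotient.mk J)) ^ N :=
        Ideal.pow_right_mono (maximalIdeal_quot_le S J hJ) _
    _ = (IsLocalRing.maximalIdeal S.carrier ^ N).map (Ideal.Quotient.mk J) := by
        rw [Ideal.map_pow]
    _ ≤ J.map (Ideal.Quotient.mk J) := Ideal.map_mono hN
    _ = ⊥ := Ideal.map_quotient_self _

/-- `S/J` as an object, for an open ideal `J ≤ m` -/
noncomputable def qObj (h : ∃ N : ℕ, IsLocalRing.maximalIdeal S.carrier ^ N ≤ J) : Art Λ k :=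
  { carrier := S.carrier ⧸ J
    isLocalRing := quot_isLocalRing S J hJ
    isArtinianRing := quot_isArtinianRing S J hJ h
    res := Ideal.Quotient.liftₐ J S.res (fun a ha => (CRing.mem_maximalIdeal_iff S a).1 (hJ ha))
    res_surjective := fun c => by
      obtain ⟨a, ha⟩ := S.res_surjective c
      exact ⟨Ideal.Quotient.mk J a, ha⟩ }

/-- the quotient map `S → S/J` -/
noncomputable def qHom (h : ∃ N : ℕ, IsLocalRing.maximalIdeal S.carrier ^ N ≤ J) :
    HomSet S.carrier S.res (qObj S J hJ h) :=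
  ⟨Ideal.Quotient.mkₐ Λ J, Ideal.Quotient.liftₐ_comp _ _ _⟩

theorem qHom_surjective (h : ∃ N : ℕ, IsLocalRing.maximalIdeal S.carrier ^ N ≤ J) :
    Function.Surjective (qHom S J hJ h).1 := Ideal.Quotient.mk_surjective

theorem ker_qHom (h : ∃ N : ℕ, IsLocalRing.maximalIdeal S.carrier ^ N ≤ J) :
    RingHom.ker (qHom S J hJ h).1 = J := Ideal.Quotient.mkₐ_ker Λ J

end QObj

section Stages

variable {S : CRing Λ k} {F : Art Λ k ⥤ Type v}

variable (S F) in
/-- a stage: a surjection from `S` onto an object, with an element of `F` over it -/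
structure Stage where
  obj : Art Λ k
  π : HomSet S.carrier S.res obj
  surj : Function.Surjective π.1
  x : F.obj obj

/-- the kernel of a stage -/
def Stage.ker (σ : Stage S F) : Ideal S.carrier := RingHom.ker σ.π.1

/-- `σ'` is the minimal refinement of `σ` -/
structure IsNext (σ σ' : Stage S F) : Prop where
  exists_v : ∃ v : σ'.obj ⟶ σ.obj, HomSet.map v σ'.π = σ.π ∧ F.map v σ'.x = σ.x
  le : IsLocalRing.maximalIdeal S.carrier * σ.ker ≤ σ'.ker
  min : ∀ (C : Art Λ k) (θ : HomSet S.carrier S.res C) (_ : Function.Surjective θ.1)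
    (v' : C ⟶ σ.obj) (z : F.obj C), HomSet.map v' θ = σ.π → F.map v' z = σ.x →
      IsLocalRing.maximalIdeal S.carrier * σ.ker ≤ RingHom.ker θ.1 → σ'.ker ≤ RingHom.ker θ.1

theorem IsNext.ker_le {σ σ' : Stage S F} (h : IsNext σ σ') : σ'.ker ≤ σ.ker := by
  obtain ⟨v, hv, _⟩ := h.exists_v
  have := ker_le_ker_map v σ'.π
  rw [hv] at this
  exact this

variable [IsNoetherianRing Λ] [Module.Finite Λ k]

theorem exists_next (h1 : S1 F) (σ : Stage S F) : ∃ σ' : Stage S F, IsNext σ σ' := by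
  classical
  have hJm : σ.ker ≤ IsLocalRing.maximalIdeal S.carrier := ker_le_max S σ.π
  obtain ⟨N, hN⟩ := exists_pow_le_ker S σ.obj σ.π
  have hmJm : IsLocalRing.maximalIdeal S.carrier * σ.ker ≤ IsLocalRing.maximalIdeal S.carrier :=
    Ideal.mul_le_left
  have hmJN : ∃ N' : ℕ, IsLocalRing.maximalIdeal S.carrier ^ N' ≤
      IsLocalRing.maximalIdeal S.carrier * σ.ker :=
    ⟨N + 1, by rw [pow_succ']; exact Ideal.mul_mono_right hN⟩
  have hβs := qHom_surjective S _ hmJm hmJN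
  have hβk := ker_qHom S _ hmJm hmJN
  obtain ⟨p, hp⟩ := exists_factor (qHom S _ hmJm hmJN) hβs σ.π (by
    rw [hβk]; exact Ideal.mul_le_right)
  have hpβ : ∀ s, p ((qHom S _ hmJm hmJN).1 s) = σ.π.1 s :=
    fun s => congrArg (fun ψ : HomSet S.carrier S.res σ.obj => ψ.1 s) hp
  have hps : Function.Surjective p := by
    intro a
    obtain ⟨s, rfl⟩ := σ.surj a
    exact ⟨(qHom S _ hmJm hmJN).1 s, hpβ s⟩
  have hpsemi : IsSemismallExt p := by
    refine ⟨hps, ?_⟩
    rw [← le_bot_iff, Ideal.mul_le]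
    intro b hb c hc
    obtain ⟨s, rfl⟩ := hβs b
    obtain ⟨t, rfl⟩ := hβs c
    have hs : s ∈ IsLocalRing.maximalIdeal S.carrier := by
      rw [Art.mem_maximalIdeal_iff, res_hom] at hb
      exact (CRing.mem_maximalIdeal_iff S s).2 hb
    have ht : t ∈ σ.ker := by
      have h0 : p ((qHom S _ hmJm hmJN).1 t) = 0 := RingHom.mem_ker.1 hc
      rw [hpβ] at h0
      exact RingHom.mem_ker.2 h0
    rw [Ideal.mem_bot, ← map_mul]
    have hst : s * t ∈ RingHom.ker (qHom S _ hmJm hmJN).1 := by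
      rw [hβk]; exact Ideal.mul_mem_mul hs ht
    exact RingHom.mem_ker.1 hst
  obtain ⟨J₀, hJ₀, hJ₀', ⟨y, hy⟩, hmin⟩ := Groth.Agent.S12729.result h1 p hpsemi σ.x
  have hπ's : Function.Surjective
      (HomSet.map (Art.quotMk _ J₀ hJ₀') (qHom S _ hmJm hmJN)).1 :=
    (Art.quotMk_surjective _ J₀ hJ₀').comp hβs
  refine ⟨⟨Art.quot _ J₀ hJ₀', HomSet.map (Art.quotMk _ J₀ hJ₀') (qHom S _ hmJm hmJN), hπ's, y⟩,
    ⟨⟨Art.quotFactor hJ₀' p hJ₀, ?_, hy⟩, ?_, ?_⟩⟩
  · show HomSet.map _ (HomSet.map _ (qHom S _ hmJm hmJN)) = σ.π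
    rw [← hmap_comp, Art.quotMk_quotFactor, hp]
  · intro s hs
    have h0 : (qHom S _ hmJm hmJN).1 s = 0 := by
      have : s ∈ RingHom.ker (qHom S _ hmJm hmJN).1 := by rw [hβk]; exact hs
      exact RingHom.mem_ker.1 this
    show s ∈ RingHom.ker (HomSet.map (Art.quotMk _ J₀ hJ₀') (qHom S _ hmJm hmJN)).1
    rw [RingHom.mem_ker, hmap_apply, h0, map_zero]
  · intro C θ hθ v' z hv' hz hle
    obtain ⟨u, hu⟩ := exists_factor (qHom S _ hmJm hmJN) hβs θ (by rw [hβk]; exact hle)
    have huβ : ∀ s, u ((qHom S _ hmJm hmJN).1 s) = θ.1 s :=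
      fun s => congrArg (fun ψ : HomSet S.carrier S.res C => ψ.1 s) hu
    have hus : Function.Surjective u := by
      intro c
      obtain ⟨s, rfl⟩ := hθ c
      exact ⟨(qHom S _ hmJm hmJN).1 s, huβ s⟩
    have huv : u ≫ v' = p :=
      hom_ext_of_surjective (qHom S _ hmJm hmJN) hβs _ _ (by rw [hmap_comp, hu, hv', hp])
    have hJ'p : RingHom.ker u.toAlgHom ≤ RingHom.ker p.toAlgHom := by
      intro b hb
      rw [RingHom.mem_ker] at hb ⊢
      rw [← huv]
      show v' (u b) = 0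
      rw [hb, map_zero]
    obtain ⟨hK1, hK2, y', hy'⟩ := Groth.Agent.S12729.lifts_ker (F := F) u hus z
    have hlift : ∃ y'' : F.obj (Art.quot _ (RingHom.ker u.toAlgHom) hK2),
        F.map (Art.quotFactor hK2 p hJ'p) y'' = σ.x := by
      refine ⟨y', ?_⟩
      have e : Art.quotFactor hK2 p hJ'p = Art.quotFactor hK2 u hK1 ≫ v' := by
        apply Art.hom_ext
        apply AlgHom.ext
        intro q
        obtain ⟨b, rfl⟩ := Ideal.Quotient.mk_surjective q
        show p b = v' (u b)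
        rw [← huv]
        rfl
      rw [e, map_comp_apply, hy', hz]
    have hle' := hmin _ hJ'p hK2 hlift
    intro s hs
    have h1 : (qHom S _ hmJm hmJN).1 s ∈ J₀ := by
      have h0 : (Art.quotMk _ J₀ hJ₀') ((qHom S _ hmJm hmJN).1 s) = 0 := RingHom.mem_ker.1 hs
      exact Ideal.Quotient.eq_zero_iff_mem.1 h0
    have h2 := hle' h1
    rw [RingHom.mem_ker] at h2 ⊢
    rw [← huβ]
    exact h2

end Stages


section GeneralSeq

/-- dependent sequence from a step function -/
noncomputable def dseq {T : Type*} (P : ℕ → T → Prop) (g : ∀ d x, P d x → T)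
    (hg : ∀ d x h, P (d + 1) (g d x h)) (a : T) (ha : P 0 a) : (d : ℕ) → {x : T // P d x}
  | 0 => ⟨a, ha⟩
  | d + 1 => ⟨g d (dseq P g hg a ha d).1 (dseq P g hg a ha d).2, hg _ _ _⟩

theorem le_iInf_sup_pow {T : Type*} [CommRing T] (m : Ideal T) (hm : IsPrecomplete m T)
    (J : ℕ → Ideal T) (hanti : ∀ {a b : ℕ}, a ≤ b → J b ≤ J a)
    (hopen : ∀ n, ∃ N : ℕ, m ^ N ≤ J n)
    (hC : ∀ n, J n ≤ J (n + 1) ⊔ m ^ n) (n : ℕ) : J n ≤ (⨅ q, J q) ⊔ m ^ n := by
  intro a ha
  have hstep : ∀ (d : ℕ) (x : T), x ∈ J (n + d) →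
      ∃ y, y ∈ J (n + (d + 1)) ∧ x - y ∈ m ^ (n + d) := by
    intro d x hx
    obtain ⟨y, hy, b, hb, rfl⟩ := Submodule.mem_sup.1 (hC (n + d) hx)
    exact ⟨y, hy, by simpa using hb⟩
  choose g hg1 hg2 using hstep
  let sq := dseq (fun d x => x ∈ J (n + d)) g hg1 a ha
  have hseq0 : (sq 0).1 = a := rfl
  have hseqS : ∀ d, (sq d).1 - (sq (d + 1)).1 ∈ m ^ (n + d) := fun d => hg2 d _ _
  have htel : ∀ d d', d ≤ d' → (sq d).1 - (sq d').1 ∈ m ^ (n + d) := by
    intro d d' h
    induction d', h using Nat.le_induction with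
    | base => simp
    | succ e he ih =>
      have h1 : (sq e).1 - (sq (e + 1)).1 ∈ m ^ (n + d) :=
        Ideal.pow_le_pow_right (by omega) (hseqS e)
      have h2 : (sq d).1 - (sq (e + 1)).1 =
          ((sq d).1 - (sq e).1) + ((sq e).1 - (sq (e + 1)).1) := by ring
      rw [h2]
      exact Ideal.add_mem _ ih h1
  obtain ⟨L, hL⟩ := IsPrecomplete.prec hm (f := fun d => (sq d).1) (by
    intro d d' h
    rw [SModEq.sub_mem, smul_eq_mul, Ideal.mul_top]
    exact Ideal.pow_le_pow_right (by omega) (htel d d' h))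
  have hL' : ∀ d, (sq d).1 - L ∈ m ^ d := by
    intro d
    have h1 := hL d
    rw [SModEq.sub_mem, smul_eq_mul, Ideal.mul_top] at h1
    exact h1
  have hLinf : L ∈ ⨅ q, J q := by
    rw [Submodule.mem_iInf]
    intro q
    obtain ⟨N, hN⟩ := hopen q
    have h1 : (sq (max q N)).1 ∈ J q := hanti (by omega) (sq (max q N)).2
    have h2 : (sq (max q N)).1 - L ∈ J q :=
      hN (Ideal.pow_le_pow_right (le_max_right _ _) (hL' _))
    have h3 : L = (sq (max q N)).1 - ((sq (max q N)).1 - L) := by ring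
    rw [h3]
    exact Ideal.sub_mem _ h1 h2
  have haL : a - L ∈ m ^ n := by
    have h1 : (sq 0).1 - (sq n).1 ∈ m ^ n := by simpa using htel 0 n (Nat.zero_le _)
    have h2 := hL' n
    have h3 : a - L = ((sq 0).1 - (sq n).1) + ((sq n).1 - L) := by rw [hseq0]; ring
    rw [h3]
    exact Ideal.add_mem _ h1 h2
  have h4 : a = L + (a - L) := by ring
  rw [h4]
  exact Submodule.add_mem_sup hLinf haL

end GeneralSeq

section QuotC

variable (S : CRing Λ k) (I : Ideal S.carrier) (hI : I ≤ IsLocalRing.maximalIdeal S.carrier)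

/-- the augmentation of `S/I` -/
noncomputable def quotRes : S.carrier ⧸ I →ₐ[Λ] k :=
  Ideal.Quotient.liftₐ I S.res (fun a ha => (CRing.mem_maximalIdeal_iff S a).1 (hI ha))

theorem quotRes_surjective : Function.Surjective (quotRes S I hI) := fun c => by
  obtain ⟨a, ha⟩ := S.res_surjective c
  exact ⟨Ideal.Quotient.mk I a, ha⟩

theorem mem_maximalIdeal_quot_iff (x : S.carrier ⧸ I) :
    haveI := quot_isLocalRing S I hI
    x ∈ IsLocalRing.maximalIdeal (S.carrier ⧸ I) ↔ quotRes S I hI x = 0 := by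
  haveI := quot_isLocalRing S I hI
  have hmax : (RingHom.ker (quotRes S I hI : S.carrier ⧸ I →+* k)).IsMaximal :=
    RingHom.ker_isMaximal_of_surjective (quotRes S I hI : S.carrier ⧸ I →+* k)
      (quotRes_surjective S I hI)
  rw [← IsLocalRing.eq_maximalIdeal hmax, RingHom.mem_ker]
  rfl

theorem map_maximalIdeal_quot :
    haveI := quot_isLocalRing S I hI
    (IsLocalRing.maximalIdeal S.carrier).map (algebraMap S.carrier (S.carrier ⧸ I)) =
      IsLocalRing.maximalIdeal (S.carrier ⧸ I) := by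
  haveI := quot_isLocalRing S I hI
  apply le_antisymm
  · rw [Ideal.map_le_iff_le_comap]
    intro a ha
    rw [Ideal.mem_comap, mem_maximalIdeal_quot_iff S I hI]
    exact (CRing.mem_maximalIdeal_iff S a).1 ha
  · exact maximalIdeal_quot_le S I hI

theorem quot_isAdicComplete :
    haveI := quot_isLocalRing S I hI
    IsAdicComplete (IsLocalRing.maximalIdeal (S.carrier ⧸ I)) (S.carrier ⧸ I) := by
  haveI := quot_isLocalRing S I hI
  haveI : IsPrecomplete (IsLocalRing.maximalIdeal S.carrier) S.carrier :=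
    S.isAdicComplete.toIsPrecomplete
  have h1 : IsPrecomplete (IsLocalRing.maximalIdeal S.carrier) (S.carrier ⧸ I) := by
    rw [← AdicCompletion.of_surjective_iff]
    intro y
    obtain ⟨x, rfl⟩ := AdicCompletion.map_surjective (IsLocalRing.maximalIdeal S.carrier)
      (f := Submodule.mkQ I) (Submodule.mkQ_surjective I) y
    obtain ⟨s, rfl⟩ := AdicCompletion.of_surjective (IsLocalRing.maximalIdeal S.carrier)
      S.carrier x
    exact ⟨Submodule.mkQ I s, (AdicCompletion.map_of _ _ _).symm⟩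
  have h2 : IsPrecomplete ((IsLocalRing.maximalIdeal S.carrier).map
      (algebraMap S.carrier (S.carrier ⧸ I))) (S.carrier ⧸ I) :=
    IsPrecomplete.map_algebraMap_iff.2 h1
  rw [map_maximalIdeal_quot S I hI] at h2
  exact { toIsHausdorff := inferInstance, toIsPrecomplete := h2 }

/-- `S/I` as a coefficient ring -/
noncomputable def quotC : CRing Λ k :=
  { carrier := S.carrier ⧸ I
    isLocalRing := quot_isLocalRing S I hI
    isNoetherianRing := inferInstance
    res := quotRes S I hI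
    res_surjective := quotRes_surjective S I hI
    isAdicComplete := quot_isAdicComplete S I hI }

end QuotC

section Pull

variable {S : CRing Λ k} {R' : Type u} [CommRing R'] [Algebra Λ R'] {resR' : R' →ₐ[Λ] k}

/-- restriction of an element of `h_{R'}` along `q : S → R'` -/
def pull (q : S.carrier →ₐ[Λ] R') (hq : resR'.comp q = S.res) {A : Art Λ k}
    (φ : HomSet R' resR' A) : HomSet S.carrier S.res A :=
  ⟨φ.1.comp q, by rw [← AlgHom.comp_assoc, φ.2, hq]⟩

theorem pull_map (q : S.carrier →ₐ[Λ] R') (hq : resR'.comp q = S.res) {A B : Art Λ k}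
    (f : A ⟶ B) (φ : HomSet R' resR' A) :
    pull q hq (HomSet.map f φ) = HomSet.map f (pull q hq φ) :=
  Subtype.ext (AlgHom.ext fun _ => rfl)

theorem pull_apply (q : S.carrier →ₐ[Λ] R') (hq : resR'.comp q = S.res) {A : Art Λ k}
    (φ : HomSet R' resR' A) (s : S.carrier) : (pull q hq φ).1 s = φ.1 (q s) := rfl

theorem pull_injective (q : S.carrier →ₐ[Λ] R') (hq : resR'.comp q = S.res)
    (hqs : Function.Surjective q) {A : Art Λ k} (φ φ' : HomSet R' resR' A)
    (h : pull q hq φ = pull q hq φ') : φ = φ' := by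
  apply Subtype.ext
  apply AlgHom.ext
  intro r
  obtain ⟨s, rfl⟩ := hqs r
  exact congrArg (fun ψ : HomSet S.carrier S.res A => ψ.1 s) h

end Pull

section Tower

variable {S : CRing Λ k} {F : Art Λ k ⥤ Type v}
variable (σ : ℕ → Stage S F) (hσ : ∀ n, IsNext (σ n) (σ (n + 1)))

include hσ in
theorem exists_trans {n n' : ℕ} (h : n ≤ n') :
    ∃ t : (σ n').obj ⟶ (σ n).obj, HomSet.map t (σ n').π = (σ n).π ∧
      F.map t (σ n').x = (σ n).x := by
  induction n', h using Nat.le_induction with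
  | base => exact ⟨𝟙 _, hmap_id _, map_id_apply F _ _⟩
  | succ e he ih =>
    obtain ⟨t, ht1, ht2⟩ := ih
    obtain ⟨v, hv1, hv2⟩ := (hσ e).exists_v
    exact ⟨v ≫ t, by rw [hmap_comp, hv1, ht1], by rw [map_comp_apply, hv2, ht2]⟩

include hσ in
theorem ker_anti {n n' : ℕ} (h : n ≤ n') : (σ n').ker ≤ (σ n).ker := by
  obtain ⟨t, ht, _⟩ := exists_trans σ hσ h
  have h1 := ker_le_ker_map t (σ n').π
  rw [ht] at h1
  exact h1

include hσ in
theorem ker_le_succ_sup_pow (n : ℕ) :
    (σ n).ker ≤ (σ (n + 1)).ker ⊔ IsLocalRing.maximalIdeal S.carrier ^ n := by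
  induction n with
  | zero =>
    rw [pow_zero, Ideal.one_eq_top]
    exact le_sup_of_le_right le_top
  | succ n ih =>
    have hI1 : (σ (n + 1 + 1)).ker ⊔ IsLocalRing.maximalIdeal S.carrier * (σ n).ker ≤
        IsLocalRing.maximalIdeal S.carrier := sup_le (ker_le_max S _) Ideal.mul_le_left
    obtain ⟨N, hN⟩ := exists_pow_le_ker S _ (σ (n + 1 + 1)).π
    have hI2 : ∃ N : ℕ, IsLocalRing.maximalIdeal S.carrier ^ N ≤
        (σ (n + 1 + 1)).ker ⊔ IsLocalRing.maximalIdeal S.carrier * (σ n).ker :=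
      ⟨N, le_trans hN le_sup_left⟩
    have hθs := qHom_surjective S _ hI1 hI2
    have hθk := ker_qHom S _ hI1 hI2
    obtain ⟨v', hv'⟩ := exists_factor (qHom S _ hI1 hI2) hθs (σ n).π (by
      rw [hθk]
      exact sup_le (ker_anti σ hσ (by omega)) Ideal.mul_le_right)
    obtain ⟨u, hu⟩ := exists_factor (σ (n + 1 + 1)).π (σ (n + 1 + 1)).surj (qHom S _ hI1 hI2) (by
      rw [hθk]
      exact le_sup_left)
    obtain ⟨t, ht1, ht2⟩ := exists_trans σ hσ (show n ≤ n + 1 + 1 by omega)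
    have hut : u ≫ v' = t :=
      hom_ext_of_surjective (σ (n + 1 + 1)).π (σ (n + 1 + 1)).surj _ _ (by
        rw [hmap_comp, hu, hv', ht1])
    have hz : F.map v' (F.map u (σ (n + 1 + 1)).x) = (σ n).x := by
      rw [← map_comp_apply, hut, ht2]
    have hmin := (hσ n).min _ (qHom S _ hI1 hI2) hθs v' _ hv' hz (by
      rw [hθk]
      exact le_sup_right)
    rw [hθk] at hmin
    have h3 : IsLocalRing.maximalIdeal S.carrier * (σ n).ker ≤
        IsLocalRing.maximalIdeal S.carrier * (σ (n + 1)).ker ⊔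
          IsLocalRing.maximalIdeal S.carrier ^ (n + 1) := by
      calc IsLocalRing.maximalIdeal S.carrier * (σ n).ker
          ≤ IsLocalRing.maximalIdeal S.carrier *
              ((σ (n + 1)).ker ⊔ IsLocalRing.maximalIdeal S.carrier ^ n) :=
            Ideal.mul_mono_right ih
        _ = IsLocalRing.maximalIdeal S.carrier * (σ (n + 1)).ker ⊔
              IsLocalRing.maximalIdeal S.carrier * IsLocalRing.maximalIdeal S.carrier ^ n :=
            Ideal.mul_sup _ _ _
        _ = _ := by rw [← pow_succ']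
    have h4 : (σ (n + 1)).ker ≤
        ((σ (n + 1 + 1)).ker ⊔ IsLocalRing.maximalIdeal S.carrier ^ (n + 1)) ⊔
          IsLocalRing.maximalIdeal S.carrier • (σ (n + 1)).ker := by
      refine hmin.trans (sup_le (le_sup_of_le_left le_sup_left) (h3.trans ?_))
      exact sup_le le_sup_right (le_sup_of_le_left le_sup_right)
    exact Submodule.le_of_le_smul_of_le_jacobson_bot (IsNoetherian.noetherian _)
      (IsLocalRing.maximalIdeal_le_jacobson _) h4

/-- the intersection of the kernels of the stages -/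
def Jinf : Ideal S.carrier := ⨅ q, (σ q).ker

theorem Jinf_le_max : Jinf σ ≤ IsLocalRing.maximalIdeal S.carrier :=
  iInf_le_of_le 0 (ker_le_max S _)

theorem Jinf_le (n : ℕ) : Jinf σ ≤ (σ n).ker := iInf_le _ n

include hσ in
theorem ker_le_Jinf_sup_pow (n : ℕ) :
    (σ n).ker ≤ Jinf σ ⊔ IsLocalRing.maximalIdeal S.carrier ^ n :=
  le_iInf_sup_pow (IsLocalRing.maximalIdeal S.carrier) S.isAdicComplete.toIsPrecomplete
    (fun q => (σ q).ker) (fun h => ker_anti σ hσ h) (fun q => exists_pow_le_ker S _ (σ q).π)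
    (ker_le_succ_sup_pow σ hσ) n

/-- the coefficient ring of the versal family -/
noncomputable def hullRing : CRing Λ k := quotC S (Jinf σ) (Jinf_le_max σ)

/-- the quotient map -/
noncomputable def hullQ : S.carrier →ₐ[Λ] (hullRing σ).carrier := Ideal.Quotient.mkₐ Λ (Jinf σ)

theorem hullQ_res : (hullRing σ).res.comp (hullQ σ) = S.res := Ideal.Quotient.liftₐ_comp _ _ _

theorem hullQ_surjective : Function.Surjective (hullQ σ) := Ideal.Quotient.mk_surjective

theorem exists_descend {A : Art Λ k} (ψ' : HomSet S.carrier S.res A)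
    (hk : Jinf σ ≤ RingHom.ker ψ'.1) :
    ∃ ψ : HomSet (hullRing σ).carrier (hullRing σ).res A,
      pull (hullQ σ) (hullQ_res σ) ψ = ψ' := by
  refine ⟨⟨Ideal.Quotient.liftₐ (Jinf σ) ψ'.1 (fun a ha => hk ha), ?_⟩, ?_⟩
  · apply AlgHom.ext
    intro r
    obtain ⟨s, rfl⟩ := Ideal.Quotient.mk_surjective r
    exact res_hom ψ' s
  · apply Subtype.ext
    apply AlgHom.ext
    intro s
    rfl

theorem Jinf_le_ker_pull {A : Art Λ k} (φ : HomSet (hullRing σ).carrier (hullRing σ).res A) :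
    Jinf σ ≤ RingHom.ker (pull (hullQ σ) (hullQ_res σ) φ).1 := by
  intro s hs
  rw [RingHom.mem_ker, pull_apply]
  have h0 : hullQ σ s = 0 := Ideal.Quotient.eq_zero_iff_mem.2 hs
  rw [h0, map_zero]

include hσ in
theorem exists_stage_factor {A : Art Λ k} (ψ : HomSet S.carrier S.res A)
    (hk : Jinf σ ≤ RingHom.ker ψ.1) :
    ∃ (N : ℕ) (w : (σ N).obj ⟶ A), HomSet.map w (σ N).π = ψ := by
  obtain ⟨M, hM⟩ := exists_pow_le_ker S A ψ
  obtain ⟨w, hw⟩ := exists_factor (σ M).π (σ M).surj ψ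
    ((ker_le_Jinf_sup_pow σ hσ M).trans (sup_le hk hM))
  exact ⟨M, w, hw⟩

include hσ in
theorem exists_stage (A : Art Λ k) (φ : HomSet (hullRing σ).carrier (hullRing σ).res A) :
    ∃ (N : ℕ) (w : (σ N).obj ⟶ A), HomSet.map w (σ N).π = pull (hullQ σ) (hullQ_res σ) φ :=
  exists_stage_factor σ hσ _ (Jinf_le_ker_pull σ φ)

/-- the value of the family -/
noncomputable def hullApp (A : Art Λ k)
    (φ : HomSet (hullRing σ).carrier (hullRing σ).res A) : F.obj A :=
  F.map (Classical.choose (Classical.choose_spec (exists_stage σ hσ A φ)))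
    (σ (Classical.choose (exists_stage σ hσ A φ))).x

theorem hullApp_eq (A : Art Λ k) (φ : HomSet (hullRing σ).carrier (hullRing σ).res A)
    (N : ℕ) (w : (σ N).obj ⟶ A)
    (hw : HomSet.map w (σ N).π = pull (hullQ σ) (hullQ_res σ) φ) :
    hullApp σ hσ A φ = F.map w (σ N).x := by
  have hw₀ := Classical.choose_spec (Classical.choose_spec (exists_stage σ hσ A φ))
  set N₀ := Classical.choose (exists_stage σ hσ A φ) with hN₀
  set w₀ := Classical.choose (Classical.choose_spec (exists_stage σ hσ A φ)) with hw₀'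
  show F.map w₀ (σ N₀).x = F.map w (σ N).x
  obtain ⟨t₁, h11, h12⟩ := exists_trans σ hσ (le_max_left N₀ N)
  obtain ⟨t₂, h21, h22⟩ := exists_trans σ hσ (le_max_right N₀ N)
  have heq : t₁ ≫ w₀ = t₂ ≫ w :=
    hom_ext_of_surjective (σ (max N₀ N)).π (σ (max N₀ N)).surj _ _ (by
      rw [hmap_comp, hmap_comp, h11, h21, hw₀, hw])
  rw [← h12, ← h22, ← map_comp_apply, ← map_comp_apply, heq]

/-- the family over the hull ring -/
noncomputable def hullFam : Family (hullRing σ).carrier (hullRing σ).res F where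
  app := hullApp σ hσ
  natural := by
    intro A B f φ
    obtain ⟨N, w, hw⟩ := exists_stage σ hσ A φ
    rw [hullApp_eq σ hσ A φ N w hw,
      hullApp_eq σ hσ B (HomSet.map f φ) N (w ≫ f) (by rw [hmap_comp, hw, pull_map]),
      map_comp_apply]

variable [IsNoetherianRing Λ] [Module.Finite Λ k]

theorem hull_lifting (hS : IsSmoothFunctor (hR S.carrier S.res)) (h1 : S1 F)
    ⦃B A : Art Λ k⦄ (μ : B ⟶ A) (hμ : IsSmallExt μ)
    (φ : HomSet (hullRing σ).carrier (hullRing σ).res A) (y : F.obj B)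
    (hy : F.map μ y = (hullFam σ hσ).app A φ) :
    ∃ ψ : HomSet (hullRing σ).carrier (hullRing σ).res B, HomSet.map μ ψ = φ := by
  obtain ⟨n, w, hw⟩ := exists_stage σ hσ A φ
  have happ : (hullFam σ hσ).app A φ = F.map w (σ n).x := hullApp_eq σ hσ A φ n w hw
  have hμs : Function.Surjective μ := hμ.1
  have hfp : IsFibreProd (fibFst w μ hμs) (fibSnd w μ hμs) w μ := isFibreProd_fib w μ hμs
  have hp₁ : IsSmallExt (fibFst w μ hμs) := Groth.Agent.S12711.result hfp hμ
  obtain ⟨ζ, hζ1, hζ2⟩ := (cmp_surjective_iff hfp).1 (h1 _ _ w μ hfp hμs) (σ n).x y (by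
    rw [hy, happ])
  obtain ⟨θ, hθ'⟩ : ∃ θ : HomSet S.carrier S.res (fibObj w μ hμs),
      HomSet.map (fibFst w μ hμs) θ = (σ n).π := hS (fibFst w μ hμs) hp₁.1 (σ n).π
  suffices h : ∃ ψ' : HomSet S.carrier S.res B, Jinf σ ≤ RingHom.ker ψ'.1 ∧
      HomSet.map μ ψ' = pull (hullQ σ) (hullQ_res σ) φ by
    obtain ⟨ψ', hk, hψ'⟩ := h
    obtain ⟨ψ, hψ⟩ := exists_descend σ ψ' hk
    refine ⟨ψ, ?_⟩
    apply pull_injective (hullQ σ) (hullQ_res σ) (hullQ_surjective σ)
    rw [pull_map, hψ, hψ']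
  by_cases hsurj : Function.Surjective θ.1
  · have hle : IsLocalRing.maximalIdeal S.carrier * (σ n).ker ≤ RingHom.ker θ.1 := by
      rw [Ideal.mul_le]
      intro s hs t ht
      rw [RingHom.mem_ker, map_mul]
      have e1 : θ.1 s ∈ IsLocalRing.maximalIdeal (fibObj w μ hμs) := by
        rw [Art.mem_maximalIdeal_iff, res_hom]
        exact (CRing.mem_maximalIdeal_iff S s).1 hs
      have e2 : θ.1 t ∈ RingHom.ker (fibFst w μ hμs).toAlgHom := by
        rw [RingHom.mem_ker]
        have e : (fibFst w μ hμs) (θ.1 t) = (σ n).π.1 t :=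
          congrArg (fun ψ : HomSet S.carrier S.res (σ n).obj => ψ.1 t) hθ'
        exact e.trans (RingHom.mem_ker.1 ht)
      have e3 := Ideal.mul_mem_mul e1 e2
      rw [hp₁.2.2.2] at e3
      exact Ideal.mem_bot.1 e3
    have hmin := (hσ n).min _ θ hsurj (fibFst w μ hμs) ζ hθ' hζ1 hle
    obtain ⟨u, hu⟩ := exists_factor (σ (n + 1)).π (σ (n + 1)).surj θ hmin
    refine ⟨HomSet.map (u ≫ fibSnd w μ hμs) (σ (n + 1)).π, ?_, ?_⟩
    · exact (Jinf_le σ (n + 1)).trans (ker_le_ker_map _ _)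
    · rw [← hmap_comp, Category.assoc, ← hfp.w, ← Category.assoc, hmap_comp, hmap_comp, hu, hθ',
        hw]
  · have hk1 := ker_le_max S θ
    have hk2 := exists_pow_le_ker S _ θ
    obtain ⟨g, hg⟩ := exists_factor (qHom S _ hk1 hk2) (qHom_surjective S _ hk1 hk2) θ (by
      rw [ker_qHom])
    have hgq : ∀ s, g ((qHom S _ hk1 hk2).1 s) = θ.1 s :=
      fun s => congrArg (fun ψ : HomSet S.carrier S.res (fibObj w μ hμs) => ψ.1 s) hg
    have hgns : ¬ Function.Surjective g := by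
      intro hgs
      apply hsurj
      intro c
      obtain ⟨b, rfl⟩ := hgs c
      obtain ⟨s, rfl⟩ := qHom_surjective S _ hk1 hk2 b
      exact ⟨s, (hgq s).symm⟩
    have hgp : Function.Surjective (g ≫ fibFst w μ hμs) := by
      intro a
      obtain ⟨s, rfl⟩ := (σ n).surj a
      refine ⟨(qHom S _ hk1 hk2).1 s, ?_⟩
      show (fibFst w μ hμs) (g ((qHom S _ hk1 hk2).1 s)) = _
      rw [hgq]
      exact congrArg (fun ψ : HomSet S.carrier S.res (σ n).obj => ψ.1 s) hθ'
    obtain ⟨sec, hsec⟩ := (Groth.Agent.S12713.result (fibFst w μ hμs) hp₁).1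
      ⟨qObj S _ hk1 hk2, g, hgp, hgns⟩
    refine ⟨HomSet.map (sec ≫ fibSnd w μ hμs) (σ n).π, ?_, ?_⟩
    · exact (Jinf_le σ n).trans (ker_le_ker_map _ _)
    · rw [← hmap_comp, Category.assoc, ← hfp.w, ← Category.assoc, hsec, Category.id_comp, hw]

theorem hull_isVersal (hS : IsSmoothFunctor (hR S.carrier S.res)) (h0 : H0 F) (h1 : S1 F)
    (h2 : Heps F)
    (htan : ∀ θ : F.obj (dual Λ k), ∃ ℓ : (σ 0).obj ⟶ dual Λ k, F.map ℓ (σ 0).x = θ) :
    IsVersal (hullFam σ hσ) := by
  rw [Groth.Agent.S12728.result h0 h1 h2]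
  refine ⟨?_, hull_lifting σ hσ hS h1⟩
  intro θ
  obtain ⟨ℓ, hℓ⟩ := htan θ
  obtain ⟨ψ, hψ⟩ := exists_descend σ (HomSet.map ℓ (σ 0).π)
    ((Jinf_le σ 0).trans (ker_le_ker_map _ _))
  refine ⟨ψ, ?_⟩
  show (hullFam σ hσ).app _ ψ = θ
  rw [← hℓ]
  exact hullApp_eq σ hσ _ ψ 0 ℓ hψ.symm

end Tower

section Main

variable {S : CRing Λ k} {F : Art Λ k ⥤ Type v} [IsNoetherianRing Λ] [Module.Finite Λ k]

/-- the tower of minimal refinements -/
noncomputable def seq (h1 : S1 F) (σ₀ : Stage S F) : ℕ → Stage S F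
  | 0 => σ₀
  | n + 1 => Classical.choose (exists_next h1 (seq h1 σ₀ n))

theorem seq_isNext (h1 : S1 F) (σ₀ : Stage S F) (n : ℕ) :
    IsNext (seq h1 σ₀ n) (seq h1 σ₀ (n + 1)) :=
  Classical.choose_spec (exists_next h1 (seq h1 σ₀ n))

/-- Schlessinger's construction: from an initial stage over a coefficient ring with the
lifting property, whose element induces a surjection on tangent spaces, a versal family
over a quotient. -/
theorem exists_versal (hS : IsSmoothFunctor (hR S.carrier S.res)) (h0 : H0 F) (h1 : S1 F)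
    (h2 : Heps F) (σ₀ : Stage S F)
    (htan : ∀ θ : F.obj (dual Λ k), ∃ ℓ : σ₀.obj ⟶ dual Λ k, F.map ℓ σ₀.x = θ) :
    ∃ (R : CRing Λ k) (ξ : Family R.carrier R.res F) (q : S.carrier →ₐ[Λ] R.carrier)
      (hq : R.res.comp q = S.res), IsVersal ξ ∧ Function.Surjective q ∧
        ∀ (A : Art Λ k) (φ : HomSet R.carrier R.res A) (w : σ₀.obj ⟶ A),
          pull q hq φ = HomSet.map w σ₀.π → ξ.app A φ = F.map w σ₀.x := by
  refine ⟨hullRing (seq h1 σ₀), hullFam (seq h1 σ₀) (seq_isNext h1 σ₀), hullQ (seq h1 σ₀),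
    hullQ_res (seq h1 σ₀), hull_isVersal _ _ hS h0 h1 h2 htan, hullQ_surjective _, ?_⟩
  intro A φ w hw
  exact hullApp_eq (seq h1 σ₀) (seq_isNext h1 σ₀) A φ 0 w hw.symm

end Main


end Groth.Agent.Lib.SchlH1
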