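import Mathlib
import Groth.Agent.Lib.ArtFunSchl_helper1
import Groth.Agent.Lib.ArtFunKV_helper1
import Groth.Agent.Lib.ArtFunAmb_helper1
import Groth.Agent.Lib.ArtFunAct_helper1
import Groth.Agent.S12724

/-!
# Hulls and pro-representability in the classical case (helper1)
APPEND-ONLY once landed.
-/

set_option autoImplicit false
universe u v

open CategoryTheory

namespace Groth.Agent.Lib.SchlH1

open ArtFun ArtFun.Art Groth.Agent.Lib.ArtFunH1

variable {Λ : Type u} {k : Type u} [CommRing Λ] [Field k] [Algebra Λ k]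

section Decomp

theorem tsze_decomp (r : ℕ) (y : TrivSqZeroExt k (Fin r → k)) (l₀ : Λ) (l : Fin r → Λ)
    (h₀ : algebraMap Λ k l₀ = y.fst) (h : ∀ i, algebraMap Λ k (l i) = y.snd i) :
    y = algebraMap Λ (TrivSqZeroExt k (Fin r → k)) l₀ +
      ∑ i, algebraMap Λ (TrivSqZeroExt k (Fin r → k)) (l i) *
        TrivSqZeroExt.inr (Pi.single i (1 : k)) := by
  apply TrivSqZeroExt.ext
  · simp [TrivSqZeroExt.algebraMap_eq_inl', h₀, TrivSqZeroExt.fst_sum]
  · rw [TrivSqZeroExt.snd_add, TrivSqZeroExt.snd_sum]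
    funext j
    simp [TrivSqZeroExt.algebraMap_eq_inl', h, Finset.sum_apply, Pi.single_apply]

/-- the generators of `k[k^r]` -/
noncomputable def kVgen (r : ℕ) (i : Fin r) : kV Λ k r :=
  (TrivSqZeroExt.inr (Pi.single i (1 : k)) : TrivSqZeroExt k (Fin r → k))

theorem res_kVgen (r : ℕ) (i : Fin r) : (kV Λ k r).res (kVgen r i) = 0 := rfl

theorem kVToDual_lc_gen {r : ℕ} (c : Fin r → k) (i : Fin r) :
    (kVToDual (lc c) : kV Λ k r ⟶ dual Λ k) (kVgen r i) = dmk 0 (c i) := by
  apply dual_ext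
  · rfl
  · show lc c (Pi.single i (1 : k)) = c i
    rw [lc_apply]
    simp [Pi.single_apply]

end Decomp

section FamilyInjective

variable [IsNoetherianRing Λ] [Module.Finite Λ k]
variable {R : Type u} [CommRing R] [Algebra Λ R] {resR : R →ₐ[Λ] k} {F : Art Λ k ⥤ Type v}

/-- a family which is injective on tangent spaces is injective everywhere, when the comparison
maps of `A' ×_A A'` are injective for small extensions -/
theorem family_injective (ξ : Family R resR F) (hd : Function.Injective (ξ.app (dual Λ k)))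
    (hsq : ∀ ⦃B A A' : Art Λ k⦄ (p₁ p₂ : B ⟶ A') (f : A' ⟶ A) (h : IsFibreProd p₁ p₂ f f),
      IsSmallExt f → Function.Injective (cmp F h))
    (A : Art Λ k) : Function.Injective (ξ.app A) := by
  have key := Groth.Agent.S12707.result (Λ := Λ) (k := k)
    (fun A B _ => Function.Injective (ξ.app A) → Function.Injective (ξ.app B))
    (by
      intro A B e he hA x y hxy
      have h1 : HomSet.map e x = HomSet.map e y := by
        apply hA
        rw [ξ.natural, ξ.natural, hxy]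
      have h2 := congrArg (HomSet.map (inv e)) h1
      rwa [← hmap_comp, ← hmap_comp, IsIso.hom_inv_id, hmap_id, hmap_id] at h2)
    (by
      intro A A'' f hf hA x y hxy
      obtain ⟨B, p₁, p₂, α, s, hsq1, hsq2, hs1, hs2, hs3⟩ := exists_action_square f hf
      have hfxy : HomSet.map f x = HomSet.map f y := by
        apply hA
        rw [ξ.natural, ξ.natural, hxy]
      obtain ⟨ζ, hζ1, hζ2⟩ := HomSet.exists_lift_fibreProd hsq2 x y hfxy
      have e1 : ξ.app B ζ = F.map s (ξ.app A'' x) := by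
        apply (cmp_injective_iff hsq2).1 (hsq p₁ α f hsq2 hf)
        · rw [← ξ.natural, hζ1, ← map_comp_apply, hs1, map_id_apply]
        · rw [← ξ.natural, hζ2, ← map_comp_apply, hs2, map_id_apply, hxy]
      have e2 : HomSet.map p₂ ζ = HomSet.map p₂ (HomSet.map s x) := by
        apply hd
        rw [ξ.natural, ξ.natural, ξ.natural, e1]
      have e3 : ζ = HomSet.map s x := by
        apply HomSet.ext_fibreProd hsq1
        · rw [hζ1, ← hmap_comp, hs1, hmap_id]
        · exact e2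
      rw [← hζ2, e3, ← hmap_comp, hs2, hmap_id])
    (by
      intro A B C p q hp hq hA
      exact hp (hq hA))
    (toBase A) A.res_surjective
  apply key
  intro x y _
  exact homSet_base_eq x y

omit [IsNoetherianRing Λ] [Module.Finite Λ k] in
theorem family_surjective (ξ : Family R resR F) (hv : IsVersal ξ) (h0 : H0 F)
    (hR : Nonempty (HomSet R resR (base Λ k))) (A : Art Λ k) :
    Function.Surjective (ξ.app A) := by
  intro y
  obtain ⟨φ₀⟩ := hR
  obtain ⟨ψ, _, hψ⟩ := hv (toBase A) A.res_surjective φ₀ y (h0.2.elim _ _)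
  exact ⟨ψ, hψ⟩

end FamilyInjective

section Universal

variable {R : Type u} [CommRing R] [Algebra Λ R] {resR : R →ₐ[Λ] k} {F : Art Λ k ⥤ Type v}

theorem isLeftExact_of_isUniversal (ξ : Family R resR F) (hu : IsUniversal ξ) :
    IsLeftExact F := by
  intro B A A' A'' p' p'' f' f'' h
  constructor
  · rw [cmp_injective_iff]
    intro z w h1 h2
    obtain ⟨ψ₁, rfl⟩ := (hu B).2 z
    obtain ⟨ψ₂, rfl⟩ := (hu B).2 w
    rw [← ξ.natural, ← ξ.natural] at h1 h2
    rw [HomSet.ext_fibreProd h ψ₁ ψ₂ ((hu A').1 h1) ((hu A'').1 h2)]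
  · rw [cmp_surjective_iff]
    intro x' x'' hx
    obtain ⟨φ', rfl⟩ := (hu A').2 x'
    obtain ⟨φ'', rfl⟩ := (hu A'').2 x''
    rw [← ξ.natural, ← ξ.natural] at hx
    obtain ⟨ψ, h1, h2⟩ := HomSet.exists_lift_fibreProd h φ' φ'' ((hu A).1 hx)
    exact ⟨ξ.app B ψ, by rw [← ξ.natural, h1], by rw [← ξ.natural, h2]⟩

theorem isVersal_of_isUniversal (ξ : Family R resR F) (hu : IsUniversal ξ) : IsVersal ξ := by
  intro B A μ _ φ y hy
  obtain ⟨ψ, rfl⟩ := (hu B).2 y
  refine ⟨ψ, (hu A).1 ?_, rfl⟩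
  rw [ξ.natural, hy]

end Universal

section Classical

variable [IsNoetherianRing Λ] {F : Art Λ k ⥤ Type v} [TangentStr F]

/-- existence of a hull when `Λ → k` is surjective -/
theorem exists_hull_classical (hΛ : Function.Surjective (algebraMap Λ k)) (h0 : H0 F)
    (h1 : S1 F) (h2 : Heps F) (h3 : Hfin F) : HasHull F := by
  classical
  haveI : Module.Finite Λ k := Module.Finite.of_surjective (Algebra.linearMap Λ k) hΛ
  haveI : Module.Finite k (TangentSpace F) := h3
  obtain ⟨r, hr⟩ : ∃ r : ℕ, r = Module.finrank k (TangentSpace F) := ⟨_, rfl⟩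
  obtain ⟨b⟩ : Nonempty (Module.Basis (Fin r) k (TangentSpace F)) := by
    rw [hr]
    exact ⟨Module.finBasis k (TangentSpace F)⟩
  obtain ⟨x₀, hx₀⟩ := exists_kV_elt h0 h2 r (fun i => b i)
  obtain ⟨π, hπdef⟩ : ∃ π : MvPolynomial (Fin r) Λ →ₐ[Λ] k,
      π = MvPolynomial.aeval (fun _ => (0 : k)) := ⟨_, rfl⟩
  have hπX : ∀ i, π (MvPolynomial.X i) = 0 := fun i => by rw [hπdef, MvPolynomial.aeval_X]
  have hπ : Function.Surjective π := fun c => by
    obtain ⟨l, rfl⟩ := hΛ c
    exact ⟨MvPolynomial.C l, by rw [hπdef, MvPolynomial.aeval_C]⟩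
  obtain ⟨θ₀, hθ₀def⟩ : ∃ θ₀ : MvPolynomial (Fin r) Λ →ₐ[Λ] kV Λ k r,
      θ₀ = MvPolynomial.aeval (kVgen r) := ⟨_, rfl⟩
  have hθ₀X : ∀ i, θ₀ (MvPolynomial.X i) = kVgen r i := fun i => by
    rw [hθ₀def, MvPolynomial.aeval_X]
  have hθ₀ : (kV Λ k r).res.comp θ₀ = π := by
    apply MvPolynomial.algHom_ext
    intro i
    show (kV Λ k r).res (θ₀ (MvPolynomial.X i)) = π (MvPolynomial.X i)
    rw [hθ₀X, hπX, res_kVgen]
  have hθ₀s : Function.Surjective θ₀ := by
    intro y
    obtain ⟨l₀, hl₀⟩ := hΛ (TrivSqZeroExt.fst (show TrivSqZeroExt k (Fin r → k) from y))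
    choose l hl using fun i : Fin r =>
      hΛ (TrivSqZeroExt.snd (show TrivSqZeroExt k (Fin r → k) from y) i)
    refine ⟨MvPolynomial.C l₀ + ∑ i, MvPolynomial.C (l i) * MvPolynomial.X i, ?_⟩
    rw [map_add, map_sum]
    simp only [map_mul, hθ₀X]
    rw [hθ₀def]
    simp only [MvPolynomial.aeval_C]
    exact (tsze_decomp r y l₀ l hl₀ hl).symm
  obtain ⟨ψ, hψ⟩ := amb_exists_extension π (kV Λ k r) θ₀ hθ₀
  have hψs : Function.Surjective ψ.1 := fun a => by
    obtain ⟨p, rfl⟩ := hθ₀s a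
    exact ⟨ambι π p, hψ p⟩
  have htan : ∀ θ : F.obj (dual Λ k), ∃ ℓ : kV Λ k r ⟶ dual Λ k, F.map ℓ x₀ = θ := by
    intro θ
    refine ⟨kVToDual (lc (b.equivFun θ)), ?_⟩
    have h := hx₀ (b.equivFun θ) (F.map (kVToDual (lc (b.equivFun θ))) x₀) rfl
    exact h.trans (b.sum_equivFun θ)
  obtain ⟨R, ξ, q, hq, hv, hqs, happ⟩ := exists_versal (S := ambient π hπ)
    (ambient_isSmoothFunctor π) h0 h1 h2 ⟨kV Λ k r, ψ, hψs, x₀⟩ htan
  refine ⟨⟨R, ξ, hv, ?_, ((Groth.Agent.S12728.result h0 h1 h2 R ξ).1 hv).1⟩⟩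
  -- injectivity on tangent spaces
  have hfac : ∀ φ : HomSet R.carrier R.res (dual Λ k), ∃ c : Fin r → k,
      pull q hq φ = HomSet.map (kVToDual (lc c)) ψ := by
    intro φ
    refine ⟨fun i => dsnd ((pull q hq φ).1 (ambι π (MvPolynomial.X i))), ?_⟩
    apply amb_homSet_ext π (dual Λ k)
    intro p
    have hcomp : ((pull (S := ambient π hπ) q hq φ).1.comp
        ({ toRingHom := ambι π, commutes' := fun c => rfl } :
          MvPolynomial (Fin r) Λ →ₐ[Λ] AmbS π)) =
        (kVToDual (lc (fun i => dsnd ((pull (S := ambient π hπ) q hq φ).1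
          (ambι π (MvPolynomial.X i))))) : kV Λ k r ⟶ dual Λ k).toAlgHom.comp θ₀ := by
      apply MvPolynomial.algHom_ext
      intro i
      show (pull (S := ambient π hπ) q hq φ).1 (ambι π (MvPolynomial.X i)) =
        (kVToDual (lc _) : kV Λ k r ⟶ dual Λ k) (θ₀ (MvPolynomial.X i))
      rw [hθ₀X, kVToDual_lc_gen]
      apply dual_ext
      · rw [dfst_dmk, dfst_eq_res]
        have e1 := res_hom (pull (S := ambient π hπ) q hq φ) (ambι π (MvPolynomial.X i))
        rw [e1]
        show ambRes π (ambι π (MvPolynomial.X i)) = 0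
        rw [ambRes_algebraMap, hπX]
      · rw [dsnd_dmk]
    have h3 := AlgHom.congr_fun hcomp p
    show (pull (S := ambient π hπ) q hq φ).1 (ambι π p) = _
    refine h3.trans ?_
    show (kVToDual (lc _) : kV Λ k r ⟶ dual Λ k) (θ₀ p) = _
    rw [← hψ p]
    rfl
  intro φ φ' hφφ'
  obtain ⟨c, hc⟩ := hfac φ
  obtain ⟨c', hc'⟩ := hfac φ'
  have e1 := happ _ φ _ hc
  have e2 := happ _ φ' _ hc'
  have e3 := hx₀ c (F.map (kVToDual (lc c)) x₀) rfl
  have e4 := hx₀ c' (F.map (kVToDual (lc c')) x₀) rfl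
  have e5 : ∑ i, c i • b i = ∑ i, c' i • b i := by
    rw [← e3, ← e4, ← e1, ← e2, hφφ']
  have e6 : c = c' := by
    apply b.equivFun.symm.injective
    rw [Module.Basis.equivFun_symm_apply, Module.Basis.equivFun_symm_apply]
    exact e5
  apply pull_injective q hq hqs
  rw [hc, hc', e6]

end Classical

end Groth.Agent.Lib.SchlH1
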