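import Mathlib
import Groth.Prelude.Def_ArtFun3
import Groth.Agent.Lib.PSEval_helper1
import Groth.Agent.Lib.ArtFunSchl_helper1

/-!
Helper lemmas (helper1): the obstruction theory of `h_R` for `R = k[[t_1..t_d]]/J`, `J ⊆ m²`.
APPEND-ONLY once landed.
-/

set_option autoImplicit false
universe u

open CategoryTheory
open scoped TensorProduct

namespace Groth.Agent.Lib.ObsH1

open ArtFun ArtFun.Art MvPowerSeries Groth.Agent.Lib.PSEvalH1 Groth.Agent.Lib.SchlH1
  Groth.Agent.Lib.ArtFunH1

variable {k : Type u} [Field k]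

section LocalFacts

theorem algHom_eq_zero_of_mem_maximalIdeal {A : Type*} [CommRing A] [IsLocalRing A] [Algebra k A]
    (ε : A →ₐ[k] k) {x : A} (hx : x ∈ IsLocalRing.maximalIdeal A) : ε x = 0 := by
  by_contra hc
  have hker : RingHom.ker (ε : A →+* k) ≤ IsLocalRing.maximalIdeal A := by
    apply IsLocalRing.le_maximalIdeal
    intro htop
    have h1 : (1 : A) ∈ RingHom.ker (ε : A →+* k) := by rw [htop]; trivial
    rw [RingHom.mem_ker] at h1
    have h2 : ε 1 = 0 := h1
    rw [map_one] at h2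
    exact one_ne_zero h2
  have h2 : x - algebraMap k A (ε x) ∈ RingHom.ker (ε : A →+* k) := by
    rw [RingHom.mem_ker]
    show ε (x - algebraMap k A (ε x)) = 0
    rw [map_sub, AlgHom.commutes]
    exact sub_self _
  have h3 : algebraMap k A (ε x) ∈ IsLocalRing.maximalIdeal A := by
    have := Ideal.sub_mem _ hx (hker h2)
    rwa [sub_sub_cancel] at this
  have h4 : IsUnit (algebraMap k A (ε x)) := (IsUnit.mk0 _ hc).map (algebraMap k A)
  exact (IsLocalRing.mem_maximalIdeal _).1 h3 h4

theorem mem_maximalIdeal_iff_constantCoeff {σ : Type*} (f : MvPowerSeries σ k) :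
    f ∈ IsLocalRing.maximalIdeal (MvPowerSeries σ k) ↔ constantCoeff f = 0 := by
  rw [IsLocalRing.mem_maximalIdeal, mem_nonunits_iff, MvPowerSeries.isUnit_iff_constantCoeff,
    isUnit_iff_ne_zero, not_not]

theorem X_mem_max {σ : Type*} (i : σ) :
    (X i : MvPowerSeries σ k) ∈ IsLocalRing.maximalIdeal (MvPowerSeries σ k) := by
  rw [mem_maximalIdeal_iff_constantCoeff, constantCoeff_X]

theorem nilpotent_of_res (C : Art k k) (c : C) (hc : C.res c = 0) : IsNilpotent c := by
  obtain ⟨N, hN⟩ := exists_maximalIdeal_pow_eq_bot C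
  refine ⟨N, ?_⟩
  have h1 : c ∈ IsLocalRing.maximalIdeal C := (Art.mem_maximalIdeal_iff C c).2 hc
  have h2 := Ideal.pow_mem_pow h1 N
  rw [hN] at h2
  exact Ideal.mem_bot.1 h2

theorem finite_ker {C' C : Art k k} (p : C' ⟶ C) :
    Module.Finite k ↥(RingHom.ker p.toAlgHom) := by
  have h1 : IsFiniteLength k C' := isFiniteLength_art C'
  haveI : IsNoetherian k C' := (isFiniteLength_iff_isNoetherian_isArtinian.mp h1).1
  exact Module.Finite.of_injective
    ((Submodule.subtype (RingHom.ker p.toAlgHom)).restrictScalars k)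
    (Submodule.subtype_injective _)

theorem mul_eq_zero_of_semismall {C' C : Art k k} (p : C' ⟶ C) (hp : IsSemismallExt p)
    {a b : C'} (ha : a ∈ IsLocalRing.maximalIdeal C') (hb : p.toAlgHom b = 0) : a * b = 0 := by
  have h := Ideal.mul_mem_mul ha (RingHom.mem_ker.2 hb)
  rw [hp.2] at h
  exact Ideal.mem_bot.1 h

end LocalFacts

section Main

variable {d : ℕ}

local notation "PS" => MvPowerSeries (Fin d) k

theorem res_eq_zero (C : Art k k) (f : PS →ₐ[k] C) {x : PS}
    (hx : x ∈ IsLocalRing.maximalIdeal PS) : C.res (f x) = 0 :=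
  algHom_eq_zero_of_mem_maximalIdeal (C.res.comp f) hx

theorem exists_lift {C' C : Art k k} (p : C' ⟶ C) (hp : Function.Surjective p)
    (φ : PS →ₐ[k] C) : ∃ f : PS →ₐ[k] C', p.toAlgHom.comp f = φ := by
  choose c hc using fun i : Fin d => hp (φ (X i))
  have hnil : ∀ i, IsNilpotent (c i) := fun i => by
    apply nilpotent_of_res
    rw [← Art.res_app p, hc i]
    exact res_eq_zero C φ (X_mem_max i)
  refine ⟨evalNil c hnil, ?_⟩
  apply algHom_ext_of_nilpotent
  · intro i
    show p.toAlgHom (evalNil c hnil (X i)) = φ (X i)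
    rw [evalNil_X]
    exact hc i
  · intro i
    show IsNilpotent (p.toAlgHom (evalNil c hnil (X i)))
    rw [evalNil_X]
    exact (hnil i).map p.toAlgHom

theorem lift_eq_on_sq {C' C : Art k k} (p : C' ⟶ C) (hp : IsSemismallExt p)
    (f g : PS →ₐ[k] C') (hfg : p.toAlgHom.comp f = p.toAlgHom.comp g) :
    ∀ x ∈ IsLocalRing.maximalIdeal PS ^ 2, f x = g x := by
  have hker : ∀ x, p.toAlgHom (f x - g x) = 0 := fun x => by
    rw [map_sub, sub_eq_zero]
    exact AlgHom.congr_fun hfg x
  have hmax : ∀ (h : PS →ₐ[k] C') (x : PS), x ∈ IsLocalRing.maximalIdeal PS →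
      h x ∈ IsLocalRing.maximalIdeal C' := fun h x hx =>
    (Art.mem_maximalIdeal_iff C' _).2 (res_eq_zero C' h hx)
  intro x hx
  rw [pow_two] at hx
  refine Submodule.smul_induction_on (p := fun x => f x = g x) hx ?_ ?_
  · intro a ha b hb
    show f (a * b) = g (a * b)
    have e : f (a * b) - g (a * b) = f a * (f b - g b) + g b * (f a - g a) := by
      rw [map_mul, map_mul]; ring
    rw [← sub_eq_zero, e, mul_eq_zero_of_semismall p hp (hmax f a ha) (hker b),
      mul_eq_zero_of_semismall p hp (hmax g b hb) (hker a), add_zero]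
  · intro a b ha hb
    show f (a + b) = g (a + b)
    rw [map_add, map_add, ha, hb]

section Delta

variable {C' C : Art k k} (p : C' ⟶ C) (hp : IsSemismallExt p)
  (J : Ideal (MvPowerSeries (Fin d) k))

/-- the restriction of a lift to `J` -/
noncomputable def delta (f : PS →ₐ[k] C') (hf : ∀ j ∈ J, p.toAlgHom (f j) = 0) :
    ↥J →ₗ[k] ↥(RingHom.ker p.toAlgHom) where
  toFun j := ⟨f j, RingHom.mem_ker.2 (hf j j.2)⟩
  map_add' x y := Subtype.ext (by
    show f ((x : PS) + (y : PS)) = f x + f y
    exact map_add f _ _)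
  map_smul' c x := Subtype.ext (by
    show f (c • (x : PS)) = c • f (x : PS)
    exact map_smul f c _)

theorem delta_apply (f : PS →ₐ[k] C') (hf : ∀ j ∈ J, p.toAlgHom (f j) = 0) (j : ↥J) :
    ((delta p J f hf j : ↥(RingHom.ker p.toAlgHom)) : C') = f j := rfl

include hp in
theorem delta_vanish (f : PS →ₐ[k] C') (hf : ∀ j ∈ J, p.toAlgHom (f j) = 0) :
    (IsLocalRing.maximalIdeal PS • (⊤ : Submodule PS ↥J)).restrictScalars k ≤
      LinearMap.ker (delta p J f hf) := by
  intro x hx
  rw [Submodule.restrictScalars_mem] at hx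
  rw [LinearMap.mem_ker]
  refine Submodule.smul_induction_on (p := fun x => delta p J f hf x = 0) hx ?_ ?_
  · intro r hr n _
    apply Subtype.ext
    show f (r * (n : PS)) = 0
    rw [map_mul]
    exact mul_eq_zero_of_semismall p hp
      ((Art.mem_maximalIdeal_iff C' _).2 (res_eq_zero C' f hr)) (hf n n.2)
  · intro a b ha hb
    show delta p J f hf (a + b) = 0
    rw [map_add, ha, hb, add_zero]

/-- the induced map on `J / m J` -/
noncomputable def deltaBar (f : PS →ₐ[k] C') (hf : ∀ j ∈ J, p.toAlgHom (f j) = 0) :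
    (↥J ⧸ (IsLocalRing.maximalIdeal PS • (⊤ : Submodule PS ↥J))) →ₗ[k]
      ↥(RingHom.ker p.toAlgHom) :=
  (Submodule.liftQ _ (delta p J f hf) (delta_vanish p hp J f hf)).comp
    (Submodule.Quotient.restrictScalarsEquiv k
      (IsLocalRing.maximalIdeal PS • (⊤ : Submodule PS ↥J))).symm.toLinearMap

theorem deltaBar_mk (f : PS →ₐ[k] C') (hf : ∀ j ∈ J, p.toAlgHom (f j) = 0) (j : ↥J) :
    deltaBar p hp J f hf (Submodule.Quotient.mk j) = delta p J f hf j := by
  unfold deltaBar
  rw [LinearMap.comp_apply]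
  have h1 : (Submodule.Quotient.restrictScalarsEquiv k
      (IsLocalRing.maximalIdeal PS • (⊤ : Submodule PS ↥J))).symm.toLinearMap
      (Submodule.Quotient.mk j) = Submodule.Quotient.mk j :=
    Submodule.Quotient.restrictScalarsEquiv_symm_mk k _ j
  rw [h1]
  rfl

theorem deltaBar_eq_zero_iff (f : PS →ₐ[k] C') (hf : ∀ j ∈ J, p.toAlgHom (f j) = 0) :
    deltaBar p hp J f hf = 0 ↔ ∀ j ∈ J, f j = 0 := by
  constructor
  · intro h j hj
    have h1 := deltaBar_mk p hp J f hf ⟨j, hj⟩
    rw [h, LinearMap.zero_apply] at h1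
    have h2 := congrArg Subtype.val h1
    exact h2.symm
  · intro h
    apply LinearMap.ext
    intro w
    obtain ⟨j, rfl⟩ := Submodule.Quotient.mk_surjective _ w
    rw [deltaBar_mk, LinearMap.zero_apply]
    apply Subtype.ext
    exact h j j.2

theorem deltaBar_congr (f g : PS →ₐ[k] C') (hf : ∀ j ∈ J, p.toAlgHom (f j) = 0)
    (hg : ∀ j ∈ J, p.toAlgHom (g j) = 0) (hfg : ∀ j ∈ J, f j = g j) :
    deltaBar p hp J f hf = deltaBar p hp J g hg := by
  apply LinearMap.ext
  intro w
  obtain ⟨j, rfl⟩ := Submodule.Quotient.mk_surjective _ w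
  rw [deltaBar_mk, deltaBar_mk]
  apply Subtype.ext
  exact hfg j j.2

end Delta

section Obs

variable (J : Ideal (MvPowerSeries (Fin d) k)) (res : (MvPowerSeries (Fin d) k ⧸ J) →ₐ[k] k)

/-- the composite `P → P/J → C` -/
noncomputable def pre {C : Art k k} (u : HomSet (PS ⧸ J) res C) : PS →ₐ[k] C :=
  u.1.comp (Ideal.Quotient.mkₐ k J)

theorem pre_apply {C : Art k k} (u : HomSet (PS ⧸ J) res C) (x : PS) :
    pre J res u x = u.1 (Ideal.Quotient.mk J x) := rfl

variable {C' C : Art k k} (p : C' ⟶ C) (hp : IsSemismallExt p)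
  (u : HomSet (MvPowerSeries (Fin d) k ⧸ J) res C)

/-- a chosen lift -/
noncomputable def chosen : PS →ₐ[k] C' := Classical.choose (exists_lift p hp.1 (pre J res u))

theorem chosen_spec : p.toAlgHom.comp (chosen J res p hp u) = pre J res u :=
  Classical.choose_spec (exists_lift p hp.1 (pre J res u))

theorem lift_mem_ker (f : PS →ₐ[k] C') (hf : p.toAlgHom.comp f = pre J res u) :
    ∀ j ∈ J, p.toAlgHom (f j) = 0 := by
  intro j hj
  have h1 : p.toAlgHom (f j) = pre J res u j := AlgHom.congr_fun hf j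
  rw [h1, pre_apply, Ideal.Quotient.eq_zero_iff_mem.2 hj, map_zero]

/-- the obstruction element -/
noncomputable def obsElt :
    Module.Dual k (↥J ⧸ (IsLocalRing.maximalIdeal PS • (⊤ : Submodule PS ↥J))) ⊗[k]
      ↥(RingHom.ker p.toAlgHom) :=
  haveI := finite_ker p
  (LinearEquiv.ofBijective
    (dualTensorHom k (↥J ⧸ (IsLocalRing.maximalIdeal PS • (⊤ : Submodule PS ↥J)))
      ↥(RingHom.ker p.toAlgHom))
    dualTensorHom_bijective_of_finite_projective_right).symm
    (deltaBar p hp J (chosen J res p hp u)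
      (lift_mem_ker J res p u _ (chosen_spec J res p hp u)))

theorem dualTensorHom_obsElt :
    dualTensorHom k (↥J ⧸ (IsLocalRing.maximalIdeal PS • (⊤ : Submodule PS ↥J)))
      ↥(RingHom.ker p.toAlgHom) (obsElt J res p hp u) =
    deltaBar p hp J (chosen J res p hp u)
      (lift_mem_ker J res p u _ (chosen_spec J res p hp u)) := by
  haveI := finite_ker p
  unfold obsElt
  exact LinearEquiv.apply_symm_apply (LinearEquiv.ofBijective
    (dualTensorHom k (↥J ⧸ (IsLocalRing.maximalIdeal PS • (⊤ : Submodule PS ↥J)))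
      ↥(RingHom.ker p.toAlgHom))
    dualTensorHom_bijective_of_finite_projective_right) _

theorem dualTensorHom_injective :
    Function.Injective (dualTensorHom k
      (↥J ⧸ (IsLocalRing.maximalIdeal PS • (⊤ : Submodule PS ↥J)))
      ↥(RingHom.ker p.toAlgHom)) := by
  haveI := finite_ker p
  exact (dualTensorHom_bijective_of_finite_projective_right).1

theorem obsElt_eq_zero_iff (hJ : J ≤ IsLocalRing.maximalIdeal PS ^ 2) :
    obsElt J res p hp u = 0 ↔ ∃ u' : HomSet (PS ⧸ J) res C', HomSet.map p u' = u := by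
  rw [← map_eq_zero_iff _ (dualTensorHom_injective J p), dualTensorHom_obsElt,
    deltaBar_eq_zero_iff]
  constructor
  · intro h0
    have hcs := chosen_spec J res p hp u
    have hpf : ∀ y, p.toAlgHom (chosen J res p hp u y) = u.1 (Ideal.Quotient.mk J y) :=
      fun y => AlgHom.congr_fun hcs y
    refine ⟨⟨Ideal.Quotient.liftₐ J (chosen J res p hp u) h0, ?_⟩, ?_⟩
    · apply AlgHom.ext
      intro x
      obtain ⟨y, rfl⟩ := Ideal.Quotient.mk_surjective x
      show C'.res (chosen J res p hp u y) = res (Ideal.Quotient.mk J y)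
      rw [← Art.res_app p]
      show C.res (p.toAlgHom (chosen J res p hp u y)) = _
      rw [hpf, res_hom]
    · apply Subtype.ext
      apply AlgHom.ext
      intro x
      obtain ⟨y, rfl⟩ := Ideal.Quotient.mk_surjective x
      exact hpf y
  · rintro ⟨u', hu'⟩ j hj
    have hg : p.toAlgHom.comp (pre J res u') = pre J res u := by
      apply AlgHom.ext
      intro y
      show p.toAlgHom (u'.1 (Ideal.Quotient.mk J y)) = u.1 (Ideal.Quotient.mk J y)
      exact congrArg (fun θ : HomSet (PS ⧸ J) res C => θ.1 (Ideal.Quotient.mk J y)) hu'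
    have h1 := lift_eq_on_sq p hp (chosen J res p hp u) (pre J res u')
      ((chosen_spec J res p hp u).trans hg.symm) j (hJ hj)
    rw [h1, pre_apply, Ideal.Quotient.eq_zero_iff_mem.2 hj, map_zero]

theorem obsElt_quot (hJ : J ≤ IsLocalRing.maximalIdeal PS ^ 2) (K : Ideal C')
    (hK : K ≤ IsLocalRing.maximalIdeal C') (hKJ : K ≤ RingHom.ker p.toAlgHom)
    (hq : IsSemismallExt (quotFactor hK p hKJ)) :
    obsElt J res (quotFactor hK p hKJ) hq u =
      LinearMap.lTensor
        (Module.Dual k (↥J ⧸ (IsLocalRing.maximalIdeal PS • (⊤ : Submodule PS ↥J))))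
        ((kerToQuot hK p hKJ).restrictScalars k) (obsElt J res p hp u) := by
  apply dualTensorHom_injective J (quotFactor hK p hKJ)
  have nat := LinearMap.congr_fun (dualTensorHom_comp_lTensor (R := k)
    (M := (↥J ⧸ (IsLocalRing.maximalIdeal PS • (⊤ : Submodule PS ↥J))))
    ((kerToQuot hK p hKJ).restrictScalars k)) (obsElt J res p hp u)
  rw [LinearMap.comp_apply, LinearMap.comp_apply] at nat
  rw [nat, dualTensorHom_obsElt, dualTensorHom_obsElt]
  apply LinearMap.ext
  intro w
  obtain ⟨j, rfl⟩ := Submodule.Quotient.mk_surjective _ w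
  rw [LinearMap.compRight_apply, LinearMap.comp_apply, deltaBar_mk, deltaBar_mk]
  apply Subtype.ext
  show chosen J res (quotFactor hK p hKJ) hq u j =
    Ideal.Quotient.mk K (chosen J res p hp u j)
  have hcomp : (quotFactor hK p hKJ).toAlgHom.comp
      ((quotMk C' K hK).toAlgHom.comp (chosen J res p hp u)) = pre J res u := by
    rw [← chosen_spec J res p hp u]
    apply AlgHom.ext
    intro y
    rfl
  exact lift_eq_on_sq (quotFactor hK p hKJ) hq (chosen J res (quotFactor hK p hKJ) hq u)
    ((quotMk C' K hK).toAlgHom.comp (chosen J res p hp u))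
    ((chosen_spec J res (quotFactor hK p hKJ) hq u).trans hcomp.symm) j (hJ j.2)

/-- the obstruction theory -/
noncomputable def obsTheory (hJ : J ≤ IsLocalRing.maximalIdeal PS ^ 2) :
    ObsTheory (hR (PS ⧸ J) res)
      (Module.Dual k (↥J ⧸ (IsLocalRing.maximalIdeal PS • (⊤ : Submodule PS ↥J)))) where
  obs p hp u := obsElt J res p hp u
  obs_eq_zero_iff p hp u := obsElt_eq_zero_iff J res p hp u hJ
  obs_quot p hp K hK hKJ hq u := obsElt_quot J res p hp u hJ K hK hKJ hq

end Obs

end Main

end Groth.Agent.Lib.ObsH1
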