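import Mathlib
import Groth.Prelude.Def_ArtFun3
import Groth.Agent.Lib.PSEval_helper1
import Groth.Agent.Lib.ObsPS_helper1
import Groth.Agent.S11740

/-!
Helper lemmas (helper1): power series maps into complete rings, transfer of obstruction theories,
and the obstruction theory of a pro-representable functor.  APPEND-ONLY once landed.
-/

set_option autoImplicit false
universe u v w

open CategoryTheory
open scoped TensorProduct

namespace Groth.Agent.Lib.ObsH1

open ArtFun ArtFun.Art MvPowerSeries Groth.Agent.Lib.PSEvalH1 Groth.Agent.Lib.SchlH1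
  Groth.Agent.Lib.ArtFunH1

section Complete

/-- power series maps into adically complete rings with prescribed values in the ideal -/
theorem exists_algHom_of_complete {k : Type*} [CommRing k] {σ : Type*} [Finite σ]
    {R : Type*} [CommRing R] [Algebra k R] (I : Ideal R) [IsAdicComplete I R]
    (b : σ → R) (hb : ∀ i, b i ∈ I) :
    ∃ ψ : MvPowerSeries σ k →ₐ[k] R, ∀ i, ψ (X i) = b i := by
  have hnil : ∀ (n : ℕ) (i : σ), IsNilpotent (Ideal.Quotient.mk (I ^ n) (b i)) := fun n i =>
    ⟨n, by
      rw [← map_pow]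
      exact Ideal.Quotient.eq_zero_iff_mem.2 (Ideal.pow_mem_pow (hb i) n)⟩
  let f : (n : ℕ) → MvPowerSeries σ k →ₐ[k] R ⧸ I ^ n := fun n =>
    evalNil (fun i => Ideal.Quotient.mk (I ^ n) (b i)) (hnil n)
  have hfX : ∀ n i, f n (X i) = Ideal.Quotient.mk (I ^ n) (b i) := fun n i =>
    evalNil_X _ (hnil n) i
  have hf : ∀ {m n : ℕ} (hle : m ≤ n),
      (Ideal.Quotient.factorₐ k (Ideal.pow_le_pow_right hle)).comp (f n) = f m := by
    intro m n hle
    apply algHom_ext_of_nilpotent
    · intro i
      show Ideal.Quotient.factorₐ k (Ideal.pow_le_pow_right hle) (f n (X i)) = f m (X i)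
      rw [hfX, hfX]
      rfl
    · intro i
      show IsNilpotent (Ideal.Quotient.factorₐ k (Ideal.pow_le_pow_right hle) (f n (X i)))
      rw [hfX]
      exact (hnil n i).map _
  refine ⟨IsAdicComplete.liftAlgHom I f hf, fun i => ?_⟩
  have hH : IsHausdorff I R := inferInstance
  rw [← sub_eq_zero]
  apply hH.haus
  intro n
  rw [SModEq.zero, smul_eq_mul, Ideal.mul_top, ← Ideal.Quotient.eq_zero_iff_mem, map_sub,
    sub_eq_zero]
  have h1 := IsAdicComplete.mk_liftAlgHom I f hf n (X i)
  rw [hfX] at h1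
  exact h1

end Complete

section Cotangent

theorem exists_cotangent_basis (R : Type u) [CommRing R] [IsLocalRing R] [IsNoetherianRing R] :
    ∃ (d : ℕ) (b : Fin d → R) (hb : ∀ i, b i ∈ IsLocalRing.maximalIdeal R),
      LinearIndependent (IsLocalRing.ResidueField R)
        (fun i => (IsLocalRing.maximalIdeal R).toCotangent ⟨b i, hb i⟩) ∧
      Submodule.span (IsLocalRing.ResidueField R)
        (Set.range fun i => (IsLocalRing.maximalIdeal R).toCotangent ⟨b i, hb i⟩) = ⊤ := by
  classical
  let B := Module.finBasis (IsLocalRing.ResidueField R) (IsLocalRing.CotangentSpace R)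
  choose c hc using fun i => Ideal.toCotangent_surjective (IsLocalRing.maximalIdeal R) (B i)
  have hfun : (fun i => (IsLocalRing.maximalIdeal R).toCotangent ⟨(c i : R), (c i).2⟩) = B := by
    funext i
    exact hc i
  refine ⟨_, fun i => (c i : R), fun i => (c i).2, ?_, ?_⟩
  · rw [hfun]
    exact B.linearIndependent
  · rw [hfun]
    exact B.span_eq

end Cotangent

variable {k : Type u} [Field k]

section FiniteW

variable {d : ℕ}

theorem sub_C_mem_maximalIdeal (f : MvPowerSeries (Fin d) k) :
    f - C (constantCoeff f) ∈ IsLocalRing.maximalIdeal (MvPowerSeries (Fin d) k) := by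
  rw [mem_maximalIdeal_iff_constantCoeff, map_sub, constantCoeff_C, sub_self]

theorem finite_W (J : Ideal (MvPowerSeries (Fin d) k)) :
    Module.Finite k (↥J ⧸ (IsLocalRing.maximalIdeal (MvPowerSeries (Fin d) k) •
      (⊤ : Submodule (MvPowerSeries (Fin d) k) ↥J))) := by
  haveI : Module.Finite (MvPowerSeries (Fin d) k) (↥J ⧸
      (IsLocalRing.maximalIdeal (MvPowerSeries (Fin d) k) •
        (⊤ : Submodule (MvPowerSeries (Fin d) k) ↥J))) := inferInstance
  obtain ⟨t, w, hw⟩ := Module.Finite.exists_fin (R := MvPowerSeries (Fin d) k)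
    (M := ↥J ⧸ (IsLocalRing.maximalIdeal (MvPowerSeries (Fin d) k) •
        (⊤ : Submodule (MvPowerSeries (Fin d) k) ↥J)))
  have hkill : ∀ (n : MvPowerSeries (Fin d) k),
      n ∈ IsLocalRing.maximalIdeal (MvPowerSeries (Fin d) k) →
      ∀ x : (↥J ⧸ (IsLocalRing.maximalIdeal (MvPowerSeries (Fin d) k) •
        (⊤ : Submodule (MvPowerSeries (Fin d) k) ↥J))), n • x = 0 := by
    intro n hn x
    obtain ⟨j, rfl⟩ := Submodule.Quotient.mk_surjective _ x
    rw [← Submodule.Quotient.mk_smul, Submodule.Quotient.mk_eq_zero]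
    exact Submodule.smul_mem_smul hn Submodule.mem_top
  refine Module.finite_def.2 ?_
  rw [Submodule.fg_iff_exists_fin_generating_family]
  refine ⟨t, w, ?_⟩
  rw [eq_top_iff]
  intro x _
  have hx : x ∈ Submodule.span (MvPowerSeries (Fin d) k) (Set.range w) := by
    rw [hw]; trivial
  obtain ⟨c, rfl⟩ := (Submodule.mem_span_range_iff_exists_fun _).1 hx
  refine Submodule.sum_mem _ fun i _ => ?_
  have h1 : c i • w i = constantCoeff (c i) • w i := by
    have h3 : (c i - C (constantCoeff (c i))) • w i = 0 :=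
      hkill _ (sub_C_mem_maximalIdeal (c i)) _
    have h4 : (C (constantCoeff (c i)) : MvPowerSeries (Fin d) k) • w i =
        constantCoeff (c i) • w i := by
      rw [c_eq_algebraMap, algebraMap_smul]
    rw [← h4, ← sub_eq_zero, ← sub_smul, h3]
  rw [h1]
  exact Submodule.smul_mem _ _ (Submodule.subset_span ⟨i, rfl⟩)

end FiniteW

section Transfer

/-- transport of an obstruction theory along natural bijections and a linear equivalence -/
noncomputable def transfer {F : Art k k ⥤ Type v} {G : Art k k ⥤ Type w} {V V' : Type u}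
    [AddCommGroup V] [Module k V] [AddCommGroup V'] [Module k V']
    (T : ObsTheory G V) (e : V ≃ₗ[k] V') (τ : ∀ A : Art k k, F.obj A → G.obj A)
    (hnat : ∀ {A B : Art k k} (f : A ⟶ B) (x : F.obj A), τ B (F.map f x) = G.map f (τ A x))
    (hbij : ∀ A, Function.Bijective (τ A)) : ObsTheory F V' where
  obs p hp u := LinearMap.rTensor _ e.toLinearMap (T.obs p hp (τ _ u))
  obs_eq_zero_iff {C' C} p hp u := by
    have hinj : Function.Injective
        (LinearMap.rTensor ↥(RingHom.ker p.toAlgHom) e.toLinearMap) :=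
      (LinearEquiv.rTensor ↥(RingHom.ker p.toAlgHom) e).injective
    rw [map_eq_zero_iff _ hinj, T.obs_eq_zero_iff]
    constructor
    · rintro ⟨u'', hu''⟩
      obtain ⟨u', rfl⟩ := (hbij C').2 u''
      refine ⟨u', (hbij C).1 ?_⟩
      rw [hnat, hu'']
    · rintro ⟨u', rfl⟩
      exact ⟨τ _ u', (hnat p u').symm⟩
  obs_quot {C' C} p hp K hK hKJ hq u := by
    rw [T.obs_quot p hp K hK hKJ hq]
    have h1 := LinearMap.congr_fun (LinearMap.rTensor_comp_lTensor (R := k) V
      e.toLinearMap ((kerToQuot hK p hKJ).restrictScalars k)) (T.obs p hp (τ _ u))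
    have h2 := LinearMap.congr_fun (LinearMap.lTensor_comp_rTensor (R := k) V
      e.toLinearMap ((kerToQuot hK p hKJ).restrictScalars k)) (T.obs p hp (τ _ u))
    rw [LinearMap.comp_apply] at h1 h2
    rw [h1, h2]

end Transfer

section Prorep

/-- precomposition with an isomorphism of augmented algebras -/
noncomputable def homSetCongr {R R' : Type u} [CommRing R] [Algebra k R] [CommRing R']
    [Algebra k R'] (res : R →ₐ[k] k) (e : R' ≃ₐ[k] R) (A : Art k k) :
    HomSet R res A ≃ HomSet R' (res.comp e.toAlgHom) A where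
  toFun φ := ⟨φ.1.comp e.toAlgHom, by rw [← AlgHom.comp_assoc, φ.2]⟩
  invFun θ := ⟨θ.1.comp e.symm.toAlgHom, by
    rw [← AlgHom.comp_assoc, θ.2]
    apply AlgHom.ext
    intro x
    show res (e (e.symm x)) = res x
    rw [AlgEquiv.apply_symm_apply]⟩
  left_inv φ := by
    apply Subtype.ext
    apply AlgHom.ext
    intro x
    show φ.1 (e (e.symm x)) = φ.1 x
    rw [AlgEquiv.apply_symm_apply]
  right_inv θ := by
    apply Subtype.ext
    apply AlgHom.ext
    intro x
    show θ.1 (e.symm (e x)) = θ.1 x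
    rw [AlgEquiv.symm_apply_apply]

theorem exists_obsTheory_of_prorep {F : Art k k ⥤ Type v} (hF : IsProrepresentable F) :
    ∃ n : ℕ, HasObsTheory F (Fin n → k) := by
  classical
  obtain ⟨⟨R, ξ, hξ⟩⟩ := hF
  obtain ⟨d, b, hb, hli, hsp⟩ := exists_cotangent_basis R.carrier
  haveI := R.isAdicComplete
  obtain ⟨ψ, hψ⟩ := exists_algHom_of_complete (k := k) (IsLocalRing.maximalIdeal R.carrier) b hb
  have hψm : ∀ i, ψ (X i) ∈ IsLocalRing.maximalIdeal R.carrier := fun i => by
    rw [hψ]; exact hb i
  have hres : Function.Surjective ((IsLocalRing.residue R.carrier).comp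
      (algebraMap k R.carrier)) := by
    intro x
    obtain ⟨r, rfl⟩ := IsLocalRing.residue_surjective x
    refine ⟨R.res r, ?_⟩
    show IsLocalRing.residue R.carrier (algebraMap k R.carrier (R.res r)) =
      IsLocalRing.residue R.carrier r
    apply Ideal.Quotient.eq.2
    rw [CRing.mem_maximalIdeal_iff, map_sub, AlgHom.commutes]
    exact sub_self _
  have hfun : (fun i : Fin d => (IsLocalRing.maximalIdeal R.carrier).toCotangent
      ⟨ψ (X i), hψm i⟩) =
      fun i => (IsLocalRing.maximalIdeal R.carrier).toCotangent ⟨b i, hb i⟩ :=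
    funext fun i => congrArg _ (Subtype.ext (hψ i))
  obtain ⟨hsurj, hker⟩ := Groth.Agent.S11740.result k R.carrier hres d ψ hψm
    (by rw [hfun]; exact hli) (by rw [hfun]; exact hsp)
  have hJ : RingHom.ker ψ ≤ IsLocalRing.maximalIdeal (MvPowerSeries (Fin d) k) ^ 2 :=
    fun x hx => hker hx
  let e := Ideal.quotientKerAlgEquivOfSurjective hsurj
  let T₀ := obsTheory (RingHom.ker ψ) (R.res.comp e.toAlgHom) hJ
  haveI := finite_W (RingHom.ker ψ)
  let eV := (Module.finBasis k (Module.Dual k (↥(RingHom.ker ψ) ⧸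
    (IsLocalRing.maximalIdeal (MvPowerSeries (Fin d) k) •
      (⊤ : Submodule (MvPowerSeries (Fin d) k) ↥(RingHom.ker ψ)))))).equivFun
  refine ⟨_, ⟨transfer T₀ eV
    (fun A x => homSetCongr R.res e A ((Equiv.ofBijective _ (hξ A)).symm x)) ?_ ?_⟩⟩
  · intro A B f x
    obtain ⟨φ, rfl⟩ := (hξ A).2 x
    rw [← ξ.natural]
    have h1 : (Equiv.ofBijective _ (hξ A)).symm (ξ.app A φ) = φ :=
      (Equiv.ofBijective _ (hξ A)).symm_apply_apply φ
    have h2 : (Equiv.ofBijective _ (hξ B)).symm (ξ.app B (HomSet.map f φ)) = HomSet.map f φ :=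
      (Equiv.ofBijective _ (hξ B)).symm_apply_apply _
    rw [h1, h2]
    rfl
  · intro A
    exact (homSetCongr R.res e A).bijective.comp (Equiv.ofBijective _ (hξ A)).symm.bijective

end Prorep

end Groth.Agent.Lib.ObsH1
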