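import Mathlib
import Groth.Agent.Lib.PSComplete_helper1
import Groth.Agent.Lib.ObsProrep_helper1
import Groth.Agent.Lib.ArtFunFib_helper1
import Groth.Agent.Lib.ArtFunFormal_helper1
import Groth.Agent.S12714
import Groth.Agent.S12709

/-!
Helper lemmas (helper1): a morphism `R → S` of coefficient rings is "smooth" (versal family) iff
`S` is a power series ring over `R`.  APPEND-ONLY once landed.
-/

set_option autoImplicit false
universe u v

open CategoryTheory

namespace Groth.Agent.Lib.ArtFunKT

open ArtFun ArtFun.Art MvPowerSeries Groth.Agent.Lib.PSEvalH1 Groth.Agent.Lib.PSCompleteH1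
  Groth.Agent.Lib.ObsH1 Groth.Agent.Lib.ArtFunH1

section PSLin

variable {R : Type*} [CommRing R] {n : ℕ}

theorem coeff_single_linear_sum (c : Fin n → R) (l : Fin n) :
    coeff (Finsupp.single l 1) (∑ i, C (c i) * (X i : MvPowerSeries (Fin n) R)) = c l := by
  classical
  rw [map_sum, Finset.sum_eq_single l]
  · rw [coeff_C_mul, coeff_X, if_pos rfl, mul_one]
  · intro i _ hil
    rw [coeff_C_mul, coeff_X, if_neg, mul_zero]
    intro h
    exact hil ((Finsupp.single_left_inj one_ne_zero).1 h).symm
  · intro h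
    exact absurd (Finset.mem_univ l) h

variable [IsLocalRing R]

theorem sub_linear_mem_sq (p : MvPowerSeries (Fin n) R) :
    p - C (constantCoeff p) - ∑ i, C (coeff (Finsupp.single i 1) p) * X i ∈
      IsLocalRing.maximalIdeal (MvPowerSeries (Fin n) R) ^ 2 := by
  classical
  rw [maximalIdeal_eq_comap, pow_eq_filt]
  intro d
  rcases Nat.lt_or_ge (Finsupp.degree d) 2 with h | h
  · have hz : coeff d (p - C (constantCoeff p) -
        ∑ i, C (coeff (Finsupp.single i 1) p) * X i) = 0 := by
      rcases Nat.lt_or_ge (Finsupp.degree d) 1 with h0 | h1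
      · have hd : d = 0 := (Finsupp.degree_eq_zero_iff d).1 (by omega)
        rw [hd, coeff_zero_eq_constantCoeff_apply, map_sub, map_sub, constantCoeff_C, sub_self,
          zero_sub, neg_eq_zero, map_sum]
        refine Finset.sum_eq_zero fun i _ => ?_
        rw [map_mul, constantCoeff_X, mul_zero]
      · have hd1 : d ∈ {d : Fin n →₀ ℕ | Finsupp.degree d = 1} := by
          show Finsupp.degree d = 1
          omega
        rw [← Finsupp.range_single_one] at hd1
        obtain ⟨l, hl⟩ := hd1
        have hl' : d = Finsupp.single l 1 := hl.symm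
        rw [hl', map_sub, map_sub, coeff_single_linear_sum, coeff_C, if_neg, sub_zero, sub_self]
        intro h0
        exact one_ne_zero (Finsupp.single_eq_zero.1 h0)
    rw [hz]
    exact Ideal.zero_mem _
  · have h0 : 2 - Finsupp.degree d = 0 := by omega
    rw [h0, pow_zero, Ideal.one_eq_top]
    trivial

theorem mem_sup_of_linear_coeff (p : MvPowerSeries (Fin n) R)
    (hp : p ∈ IsLocalRing.maximalIdeal (MvPowerSeries (Fin n) R))
    (hl : ∀ i, coeff (Finsupp.single i 1) p ∈ IsLocalRing.maximalIdeal R) :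
    p ∈ Ideal.map (C : R →+* MvPowerSeries (Fin n) R) (IsLocalRing.maximalIdeal R) ⊔
      IsLocalRing.maximalIdeal (MvPowerSeries (Fin n) R) ^ 2 := by
  have h1 := sub_linear_mem_sq p
  have hsum : C (constantCoeff p) + ∑ i, C (coeff (Finsupp.single i 1) p) * X i +
      (p - C (constantCoeff p) - ∑ i, C (coeff (Finsupp.single i 1) p) * X i) ∈
      Ideal.map (C : R →+* MvPowerSeries (Fin n) R) (IsLocalRing.maximalIdeal R) ⊔
        IsLocalRing.maximalIdeal (MvPowerSeries (Fin n) R) ^ 2 := by
    refine Ideal.add_mem _ (Ideal.add_mem _ ?_ ?_) (Ideal.mem_sup_right h1)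
    · exact Ideal.mem_sup_left (Ideal.mem_map_of_mem _
        ((Groth.Agent.Lib.PSCompleteH1.mem_maximalIdeal_iff p).1 hp))
    · refine Ideal.sum_mem _ fun i _ => ?_
      exact Ideal.mem_sup_left (Ideal.mul_mem_right _ _ (Ideal.mem_map_of_mem _ (hl i)))
  have e : C (constantCoeff p) + ∑ i, C (coeff (Finsupp.single i 1) p) * X i +
      (p - C (constantCoeff p) - ∑ i, C (coeff (Finsupp.single i 1) p) * X i) = p := by ring
  rwa [e] at hsum

end PSLin

variable {Λ : Type u} {k : Type u} [CommRing Λ] [Field k] [Algebra Λ k]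

section Trunc

theorem maximalIdeal_trunc_pow (R : CRing Λ k) (j : ℕ) :
    IsLocalRing.maximalIdeal (R.trunc j) ^ (j + 1) = ⊥ := by
  rw [← le_bot_iff]
  have h1 := Ideal.pow_right_mono (CRing.maximalIdeal_quot_le R j) (j + 1)
  rw [← Ideal.map_pow, Ideal.map_quotient_self] at h1
  exact h1

theorem exists_truncLift (R : CRing Λ k) (A : Art Λ k) (j : ℕ)
    (hA : IsLocalRing.maximalIdeal A ^ (j + 1) = ⊥) (u : HomSet R.carrier R.res A) :
    ∃ ubar : R.trunc j ⟶ A, ∀ a, ubar (Ideal.Quotient.mk (CRing.mpow R j) a) = u.1 a := by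
  have hmax : (IsLocalRing.maximalIdeal R.carrier).map (u.1 : R.carrier →+* A) ≤
      IsLocalRing.maximalIdeal A := by
    rw [Ideal.map_le_iff_le_comap]
    intro r hr
    rw [Ideal.mem_comap, Art.mem_maximalIdeal_iff]
    have h1 : A.res (u.1 r) = R.res r := AlgHom.congr_fun u.2 r
    show A.res (u.1 r) = 0
    rw [h1]
    exact (CRing.mem_maximalIdeal_iff R r).1 hr
  have hker : ∀ a ∈ CRing.mpow R j, u.1 a = 0 := by
    intro a ha
    have h1 : (u.1 : R.carrier →+* A) a ∈ (CRing.mpow R j).map (u.1 : R.carrier →+* A) :=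
      Ideal.mem_map_of_mem _ ha
    rw [Ideal.map_pow] at h1
    have h2 := Ideal.pow_right_mono hmax (j + 1) h1
    rw [hA] at h2
    exact h2
  refine ⟨⟨Ideal.Quotient.liftₐ (CRing.mpow R j) u.1 hker, ?_⟩, fun a => rfl⟩
  apply AlgHom.ext
  intro x
  obtain ⟨a, rfl⟩ := Ideal.Quotient.mk_surjective x
  exact AlgHom.congr_fun u.2 a

theorem map_maximalIdeal_eq (R S : CRing Λ k) (f : R.carrier →ₐ[Λ] S.carrier)
    (hf : S.res.comp f = R.res) (hs : Function.Surjective f) :
    Ideal.map f (IsLocalRing.maximalIdeal R.carrier) = IsLocalRing.maximalIdeal S.carrier := by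
  have hfr : ∀ r, S.res (f r) = R.res r := fun r => AlgHom.congr_fun hf r
  apply le_antisymm
  · rw [Ideal.map_le_iff_le_comap]
    intro a ha
    rw [Ideal.mem_comap, CRing.mem_maximalIdeal_iff, hfr]
    exact (CRing.mem_maximalIdeal_iff R a).1 ha
  · intro a ha
    obtain ⟨p, rfl⟩ := hs a
    apply Ideal.mem_map_of_mem
    rw [CRing.mem_maximalIdeal_iff, ← hfr]
    exact (CRing.mem_maximalIdeal_iff S _).1 ha

end Trunc

section Main

variable (R S : CRing Λ k) [Algebra R.carrier S.carrier]

/-- generating sets of the relative cotangent space -/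
def IsGen (s : Finset S.carrier) : Prop :=
  (∀ x ∈ s, x ∈ IsLocalRing.maximalIdeal S.carrier) ∧
    Ideal.map (algebraMap R.carrier S.carrier) (IsLocalRing.maximalIdeal R.carrier) ⊔
      Ideal.span (s : Set S.carrier) ⊔ IsLocalRing.maximalIdeal S.carrier ^ 2 =
      IsLocalRing.maximalIdeal S.carrier

variable {R S}

theorem map_algebraMap_le (hloc : ∀ r, S.res (algebraMap R.carrier S.carrier r) = R.res r) :
    Ideal.map (algebraMap R.carrier S.carrier) (IsLocalRing.maximalIdeal R.carrier) ≤
      IsLocalRing.maximalIdeal S.carrier := by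
  rw [Ideal.map_le_iff_le_comap]
  intro a ha
  rw [Ideal.mem_comap, CRing.mem_maximalIdeal_iff, hloc]
  exact (CRing.mem_maximalIdeal_iff R a).1 ha

theorem exists_isGen (hloc : ∀ r, S.res (algebraMap R.carrier S.carrier r) = R.res r) :
    ∃ s : Finset S.carrier, IsGen R S s := by
  have hfg : (IsLocalRing.maximalIdeal S.carrier).FG :=
    (isNoetherianRing_iff_ideal_fg S.carrier).1 inferInstance _
  obtain ⟨s, hs⟩ := hfg
  refine ⟨s, ?_, ?_⟩
  · intro x hx
    rw [← hs]
    exact Ideal.subset_span hx
  · apply le_antisymm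
    · refine sup_le (sup_le (map_algebraMap_le hloc) ?_) (Ideal.pow_le_self two_ne_zero)
      rw [← hs]
    · refine le_sup_of_le_left (le_sup_of_le_right ?_)
      rw [← hs]

/-- Augmentation compatibility of a power series map. -/
theorem res_algHom (hloc : ∀ r, S.res (algebraMap R.carrier S.carrier r) = R.res r) (n : ℕ)
    (φ : MvPowerSeries (Fin n) R.carrier →ₐ[R.carrier] S.carrier)
    (hφ : ∀ i, φ (X i) ∈ IsLocalRing.maximalIdeal S.carrier)
    (p : MvPowerSeries (Fin n) R.carrier) : S.res (φ p) = R.res (constantCoeff p) := by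
  letI : Algebra R.carrier k := R.res.toRingHom.toAlgebra
  let ε₁ : MvPowerSeries (Fin n) R.carrier →ₐ[R.carrier] k :=
    { toRingHom := (S.res : S.carrier →+* k).comp
        (φ : MvPowerSeries (Fin n) R.carrier →+* S.carrier)
      commutes' := fun c => by
        show S.res (φ (algebraMap R.carrier _ c)) = R.res c
        rw [AlgHom.commutes, hloc] }
  let ε₂ : MvPowerSeries (Fin n) R.carrier →ₐ[R.carrier] k :=
    { toRingHom := (R.res : R.carrier →+* k).comp constantCoeff
      commutes' := fun c => by
        show R.res (constantCoeff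
          (algebraMap R.carrier (MvPowerSeries (Fin n) R.carrier) c)) = R.res c
        rw [← MvPowerSeries.c_eq_algebraMap, constantCoeff_C] }
  have h12 : ε₁ = ε₂ := by
    apply algHom_ext_of_nilpotent
    · intro i
      show S.res (φ (X i)) = R.res (constantCoeff (X i))
      rw [constantCoeff_X, map_zero]
      exact (CRing.mem_maximalIdeal_iff S _).1 (hφ i)
    · intro i
      show IsNilpotent (S.res (φ (X i)))
      rw [(CRing.mem_maximalIdeal_iff S _).1 (hφ i)]
      exact IsNilpotent.zero
  exact AlgHom.congr_fun h12 p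

end Main

theorem map_mem_pow_of_le {A B : Type*} [CommRing A] [CommRing B] (f : A →+* B) (I : Ideal A)
    (J : Ideal B) (h : I.map f ≤ J) (n : ℕ) {a : A} (ha : a ∈ I ^ n) : f a ∈ J ^ n := by
  have h3 := Ideal.mem_map_of_mem f ha
  rw [Ideal.map_pow] at h3
  exact Ideal.pow_right_mono h n h3

section KT

variable [IsNoetherianRing Λ] [Module.Finite Λ k]

/-- the structure map `R → R[[X]]` as a map of coefficient rings -/
noncomputable def psι (R : CRing Λ k) (n : ℕ) : R.carrier →ₐ[Λ] (psCRing R n).carrier :=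
  IsScalarTower.toAlgHom Λ R.carrier (MvPowerSeries (Fin n) R.carrier)

theorem psι_apply (R : CRing Λ k) (n : ℕ) (r : R.carrier) :
    (psι R n r : MvPowerSeries (Fin n) R.carrier) = C r := by
  show algebraMap R.carrier (MvPowerSeries (Fin n) R.carrier) r = C r
  rw [MvPowerSeries.c_eq_algebraMap]

theorem psι_res (R : CRing Λ k) (n : ℕ) : (psCRing R n).res.comp (psι R n) = R.res := by
  apply AlgHom.ext
  intro r
  show R.res (constantCoeff (psι R n r : MvPowerSeries (Fin n) R.carrier)) = R.res r
  rw [psι_apply, constantCoeff_C]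

theorem map_C_le (R : CRing Λ k) (n : ℕ) :
    Ideal.map (C : R.carrier →+* MvPowerSeries (Fin n) R.carrier)
      (IsLocalRing.maximalIdeal R.carrier) ≤
    Ideal.map (psι R n) (IsLocalRing.maximalIdeal R.carrier) := by
  refine Ideal.map_le_iff_le_comap.2 (fun r hr => ?_)
  have h := Ideal.mem_map_of_mem (psι R n) hr
  show C r ∈ Ideal.map (psι R n) (IsLocalRing.maximalIdeal R.carrier)
  exact h

set_option maxHeartbeats 1600000 in
/-- abstract injectivity step of the smoothness criterion -/
theorem injective_of_versal_aux (R P S : CRing Λ k) [Algebra R.carrier S.carrier]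
    [IsScalarTower Λ R.carrier S.carrier]
    (hRS : S.res.comp (IsScalarTower.toAlgHom Λ R.carrier S.carrier) = R.res)
    (hV : IsVersal ((Family.self R.carrier R.res).along
      (IsScalarTower.toAlgHom Λ R.carrier S.carrier) hRS))
    (ι : R.carrier →ₐ[Λ] P.carrier) (hι : P.res.comp ι = R.res)
    (φ' : P.carrier →ₐ[Λ] S.carrier) (hf : S.res.comp φ' = P.res)
    (hsurj : Function.Surjective φ')
    (hφι : ∀ r, φ' (ι r) = algebraMap R.carrier S.carrier r)
    (hK : ∀ p, φ' p = 0 → p ∈ Ideal.map ι (IsLocalRing.maximalIdeal R.carrier) ⊔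
        IsLocalRing.maximalIdeal P.carrier ^ 2) :
    Function.Injective φ' := by
  have hmapeq : Ideal.map φ' (IsLocalRing.maximalIdeal P.carrier) =
      IsLocalRing.maximalIdeal S.carrier := map_maximalIdeal_eq P S φ' hf hsurj
  have hιr : ∀ r, P.res (ι r) = R.res r := fun r => AlgHom.congr_fun hι r
  have hfr : ∀ a, S.res (φ' a) = P.res a := fun a => AlgHom.congr_fun hf a
  have hιm : ∀ r ∈ IsLocalRing.maximalIdeal R.carrier,
      ι r ∈ IsLocalRing.maximalIdeal P.carrier := by
    intro r hr
    rw [CRing.mem_maximalIdeal_iff, hιr]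
    exact (CRing.mem_maximalIdeal_iff R r).1 hr
  rw [injective_iff_map_eq_zero]
  intro p hp0
  have hmem : ∀ j, p ∈ CRing.mpow P j := by
    intro j
    have hSj : (S.trunc j).res.comp ((S.truncHom j).1.comp φ') = P.res := by
      apply AlgHom.ext
      intro a
      show S.res (φ' a) = P.res a
      exact hfr a
    obtain ⟨μ, hμ⟩ := exists_truncLift P (S.trunc j) j (maximalIdeal_trunc_pow S j)
      ⟨(S.truncHom j).1.comp φ', hSj⟩
    have hμ' : ∀ a : P.carrier, μ (Ideal.Quotient.mk (CRing.mpow P j) a) =
        Ideal.Quotient.mk (CRing.mpow S j) (φ' a) := hμ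
    have hμsurj : Function.Surjective μ := by
      intro t
      obtain ⟨a, rfl⟩ := Ideal.Quotient.mk_surjective t
      obtain ⟨q, rfl⟩ := hsurj a
      exact ⟨Ideal.Quotient.mk (CRing.mpow P j) q, hμ' q⟩
    have hyres : (P.trunc j).res.comp ((P.truncHom j).1.comp ι) = R.res := by
      apply AlgHom.ext
      intro r
      show P.res (ι r) = R.res r
      exact hιr r
    let y : HomSet R.carrier R.res (P.trunc j) := ⟨(P.truncHom j).1.comp ι, hyres⟩
    have hy1 : ∀ r, y.1 r = Ideal.Quotient.mk (CRing.mpow P j) (ι r) := fun r => rfl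
    have hcompat : (hR R.carrier R.res).map μ y =
        ((Family.self R.carrier R.res).along
          (IsScalarTower.toAlgHom Λ R.carrier S.carrier) hRS).app (S.trunc j) (S.truncHom j) := by
      apply Subtype.ext
      apply AlgHom.ext
      intro r
      show μ (y.1 r) = Ideal.Quotient.mk (CRing.mpow S j) (algebraMap R.carrier S.carrier r)
      rw [hy1, hμ', hφι]
    obtain ⟨ψ, hψ1, hψ2⟩ := hV μ hμsurj (S.truncHom j) y hcompat
    have hψ1' : ∀ t : S.carrier, μ (ψ.1 t) = Ideal.Quotient.mk (CRing.mpow S j) t :=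
      fun t => AlgHom.congr_fun (congrArg Subtype.val hψ1) t
    have hψ2' : ∀ r : R.carrier, ψ.1 (algebraMap R.carrier S.carrier r) =
        Ideal.Quotient.mk (CRing.mpow P j) (ι r) := fun r =>
      AlgHom.congr_fun (congrArg Subtype.val hψ2) r
    have hTres : (P.trunc j).res.comp (ψ.1.comp φ') = P.res := by
      rw [← AlgHom.comp_assoc, ψ.2, hf]
    obtain ⟨ē, hē⟩ := exists_truncLift P (P.trunc j) j (maximalIdeal_trunc_pow P j)
      ⟨ψ.1.comp φ', hTres⟩
    have hē' : ∀ a : P.carrier, ē (Ideal.Quotient.mk (CRing.mpow P j) a) = ψ.1 (φ' a) := hē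
    have hmkm : ∀ a ∈ IsLocalRing.maximalIdeal P.carrier,
        Ideal.Quotient.mk (CRing.mpow P j) a ∈ IsLocalRing.maximalIdeal (P.trunc j) := by
      intro a ha
      exact (Art.mem_maximalIdeal_iff (P.trunc j) _).2 ((CRing.mem_maximalIdeal_iff P a).1 ha)
    have hcot : Ideal.map ē.toAlgHom (IsLocalRing.maximalIdeal (P.trunc j)) ⊔
        IsLocalRing.maximalIdeal (P.trunc j) ^ 2 = IsLocalRing.maximalIdeal (P.trunc j) := by
      apply le_antisymm
      · refine sup_le ?_ (Ideal.pow_le_self two_ne_zero)
        rw [Ideal.map_le_iff_le_comap]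
        intro t ht
        rw [Ideal.mem_comap, Art.mem_maximalIdeal_iff]
        show (P.trunc j).res (ē t) = 0
        rw [Art.res_app]
        exact (Art.mem_maximalIdeal_iff _ t).1 ht
      · have hιJ : ∀ r ∈ IsLocalRing.maximalIdeal R.carrier,
            Ideal.Quotient.mk (CRing.mpow P j) (ι r) ∈
              Ideal.map ē.toAlgHom (IsLocalRing.maximalIdeal (P.trunc j)) ⊔
              IsLocalRing.maximalIdeal (P.trunc j) ^ 2 := by
          intro r hr
          apply Ideal.mem_sup_left
          have h1 : ē (Ideal.Quotient.mk (CRing.mpow P j) (ι r)) =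
              Ideal.Quotient.mk (CRing.mpow P j) (ι r) := by
            rw [hē', hφι, hψ2']
          have h2 := Ideal.mem_map_of_mem ē.toAlgHom (hmkm _ (hιm r hr))
          rw [show ē.toAlgHom (Ideal.Quotient.mk (CRing.mpow P j) (ι r)) =
            Ideal.Quotient.mk (CRing.mpow P j) (ι r) from h1] at h2
          exact h2
        have hsqJ : ∀ q ∈ IsLocalRing.maximalIdeal P.carrier ^ 2,
            Ideal.Quotient.mk (CRing.mpow P j) q ∈
              Ideal.map ē.toAlgHom (IsLocalRing.maximalIdeal (P.trunc j)) ⊔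
              IsLocalRing.maximalIdeal (P.trunc j) ^ 2 := by
          intro q hq
          apply Ideal.mem_sup_right
          have hle : Ideal.map (Ideal.Quotient.mk (CRing.mpow P j))
              (IsLocalRing.maximalIdeal P.carrier) ≤ IsLocalRing.maximalIdeal (P.trunc j) :=
            Ideal.map_le_iff_le_comap.2 fun a ha => hmkm a ha
          exact map_mem_pow_of_le (Ideal.Quotient.mk (CRing.mpow P j))
            (IsLocalRing.maximalIdeal P.carrier) (IsLocalRing.maximalIdeal (P.trunc j)) hle 2 hq
        have hkerJ : ∀ p', φ' p' = 0 → Ideal.Quotient.mk (CRing.mpow P j) p' ∈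
              Ideal.map ē.toAlgHom (IsLocalRing.maximalIdeal (P.trunc j)) ⊔
              IsLocalRing.maximalIdeal (P.trunc j) ^ 2 := by
          intro p' hp'
          have hle : Ideal.map ι (IsLocalRing.maximalIdeal R.carrier) ⊔
              IsLocalRing.maximalIdeal P.carrier ^ 2 ≤
              Ideal.comap (Ideal.Quotient.mk (CRing.mpow P j))
                (Ideal.map ē.toAlgHom (IsLocalRing.maximalIdeal (P.trunc j)) ⊔
                IsLocalRing.maximalIdeal (P.trunc j) ^ 2) :=
            sup_le (Ideal.map_le_iff_le_comap.2 fun r hr => hιJ r hr) (fun q hq => hsqJ q hq)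
          exact hle (hK p' hp')
        intro t ht
        obtain ⟨a, rfl⟩ := Ideal.Quotient.mk_surjective t
        have ha : a ∈ IsLocalRing.maximalIdeal P.carrier := by
          rw [CRing.mem_maximalIdeal_iff]
          exact (Art.mem_maximalIdeal_iff (P.trunc j) _).1 ht
        obtain ⟨pa, hpa⟩ := Ideal.Quotient.mk_surjective (I := CRing.mpow P j)
          (ē (Ideal.Quotient.mk (CRing.mpow P j) a))
        have h1 : Ideal.Quotient.mk (CRing.mpow S j) (φ' pa) =
            Ideal.Quotient.mk (CRing.mpow S j) (φ' a) := by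
          rw [← hμ', hpa, hē', hψ1']
        rw [← sub_eq_zero, ← map_sub, ← map_sub, Ideal.Quotient.eq_zero_iff_mem] at h1
        have h2 : φ' (pa - a) ∈ Ideal.map φ' (IsLocalRing.maximalIdeal P.carrier ^ (j + 1)) := by
          rw [Ideal.map_pow, hmapeq]
          exact h1
        obtain ⟨q, hq, hq2⟩ := (Ideal.mem_map_iff_of_surjective φ' hsurj).1 h2
        have h3 : φ' (pa - a - q) = 0 := by
          rw [map_sub, sub_eq_zero]
          exact hq2.symm
        have h4 := hkerJ _ h3
        rw [map_sub, Ideal.Quotient.eq_zero_iff_mem.2 hq, sub_zero, map_sub, hpa] at h4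
        have h5 : ē (Ideal.Quotient.mk (CRing.mpow P j) a) ∈
            Ideal.map ē.toAlgHom (IsLocalRing.maximalIdeal (P.trunc j)) ⊔
            IsLocalRing.maximalIdeal (P.trunc j) ^ 2 :=
          Ideal.mem_sup_left (Ideal.mem_map_of_mem ē.toAlgHom (hmkm _ ha))
        exact (Submodule.sub_mem_iff_right _ h5).1 h4
    have hēsurj : Function.Surjective ē := ((Groth.Agent.S12709.result ē).out 0 1).2 hcot
    have hnoeth : IsNoetherian Λ (P.trunc j) :=
      (isFiniteLength_iff_isNoetherian_isArtinian.mp (isFiniteLength_art (P.trunc j))).1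
    have hēinj : Function.Injective ē :=
      IsNoetherian.injective_of_surjective_endomorphism ē.toAlgHom.toLinearMap hēsurj
    have h0 : ē (Ideal.Quotient.mk (CRing.mpow P j) p) = ē 0 := by
      rw [hē', hp0, map_zero, map_zero]
    exact Ideal.Quotient.eq_zero_iff_mem.1 (hēinj h0)
  have hbot := Ideal.iInf_pow_eq_bot_of_isLocalRing
    (IsLocalRing.maximalIdeal P.carrier)
    (IsLocalRing.maximalIdeal.isMaximal _).ne_top
  have hp' : p ∈ (⨅ i, IsLocalRing.maximalIdeal P.carrier ^ i) := by
    rw [Ideal.mem_iInf]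
    intro i
    exact Ideal.pow_le_pow_right (Nat.le_succ i) (hmem i)
  rw [hbot] at hp'
  exact (Ideal.mem_bot).1 hp'

set_option maxHeartbeats 1600000 in
/-- A smooth morphism of coefficient rings is a power series extension. -/
theorem exists_ps_equiv_of_versal (R S : CRing Λ k) [Algebra R.carrier S.carrier]
    [IsScalarTower Λ R.carrier S.carrier]
    (hRS : S.res.comp (IsScalarTower.toAlgHom Λ R.carrier S.carrier) = R.res)
    (hV : IsVersal ((Family.self R.carrier R.res).along
      (IsScalarTower.toAlgHom Λ R.carrier S.carrier) hRS)) :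
    ∃ n : ℕ, Nonempty (S.carrier ≃ₐ[R.carrier] MvPowerSeries (Fin n) R.carrier) := by
  classical
  have hloc : ∀ r, S.res (algebraMap R.carrier S.carrier r) = R.res r :=
    fun r => AlgHom.congr_fun hRS r
  have hex : ∃ m, ∃ s : Finset S.carrier, s.card = m ∧ IsGen R S s := by
    obtain ⟨s, hs⟩ := exists_isGen (R := R) (S := S) hloc
    exact ⟨s.card, s, rfl, hs⟩
  obtain ⟨s, hcard, hgen⟩ := Nat.find_spec hex
  have hmin : ∀ s' : Finset S.carrier, IsGen R S s' → Nat.find hex ≤ s'.card :=
    fun s' hs' => Nat.find_min' hex ⟨s', rfl, hs'⟩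
  obtain ⟨n, hn⟩ : ∃ n, n = Nat.find hex := ⟨_, rfl⟩
  rw [← hn] at hcard hmin
  let e : ↥s ≃ Fin n := Fintype.equivFinOfCardEq (by rw [Fintype.card_coe]; exact hcard)
  let x : Fin n → S.carrier := fun i => ((e.symm i : ↥s) : S.carrier)
  have hxs : ∀ i, x i ∈ s := fun i => (e.symm i).2
  have hxm : ∀ i, x i ∈ IsLocalRing.maximalIdeal S.carrier := fun i => hgen.1 _ (hxs i)
  have hxinj : Function.Injective x := fun i j h => e.symm.injective (Subtype.ext h)
  have hxsurj : ∀ y ∈ s, ∃ i, x i = y := fun y hy =>
    ⟨e ⟨y, hy⟩, by show ((e.symm (e ⟨y, hy⟩) : ↥s) : S.carrier) = y; rw [Equiv.symm_apply_apply]⟩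
  haveI := S.isAdicComplete
  obtain ⟨φ, hφ⟩ := exists_algHom_of_complete (k := R.carrier) (σ := Fin n)
    (IsLocalRing.maximalIdeal S.carrier) x hxm
  have hφm : ∀ i, φ (X i) ∈ IsLocalRing.maximalIdeal S.carrier := fun i => by
    rw [hφ]; exact hxm i
  let P : CRing Λ k := psCRing R n
  let φ' : P.carrier →ₐ[Λ] S.carrier := φ.restrictScalars Λ
  have hφ'φ : ∀ p, φ' p = φ p := fun p => rfl
  have hf : S.res.comp φ' = P.res := by
    apply AlgHom.ext
    intro p
    exact res_algHom hloc n φ hφm p
  have hfr : ∀ p, S.res (φ p) = P.res p := fun p => AlgHom.congr_fun hf p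
  have hCmem : ∀ r ∈ IsLocalRing.maximalIdeal R.carrier,
      (C r : MvPowerSeries (Fin n) R.carrier) ∈ IsLocalRing.maximalIdeal P.carrier := by
    intro r hr
    show (C r : MvPowerSeries (Fin n) R.carrier) ∈
      IsLocalRing.maximalIdeal (MvPowerSeries (Fin n) R.carrier)
    rw [Groth.Agent.Lib.PSCompleteH1.mem_maximalIdeal_iff, constantCoeff_C]
    exact hr
  have hXmem : ∀ i, (X i : MvPowerSeries (Fin n) R.carrier) ∈
      IsLocalRing.maximalIdeal P.carrier := by
    intro i
    show (X i : MvPowerSeries (Fin n) R.carrier) ∈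
      IsLocalRing.maximalIdeal (MvPowerSeries (Fin n) R.carrier)
    rw [Groth.Agent.Lib.PSCompleteH1.mem_maximalIdeal_iff, constantCoeff_X]
    exact Ideal.zero_mem _
  have hφC : ∀ r, φ (C r) = algebraMap R.carrier S.carrier r := fun r => by
    rw [MvPowerSeries.c_eq_algebraMap, AlgHom.commutes]
  have hmaple : Ideal.map φ' (IsLocalRing.maximalIdeal P.carrier) ≤
      IsLocalRing.maximalIdeal S.carrier := by
    rw [Ideal.map_le_iff_le_comap]
    intro p hp
    rw [Ideal.mem_comap, CRing.mem_maximalIdeal_iff]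
    exact (hfr p).trans ((CRing.mem_maximalIdeal_iff P p).1 hp)
  have hmap : Ideal.map φ' (IsLocalRing.maximalIdeal P.carrier) ⊔
      IsLocalRing.maximalIdeal S.carrier ^ 2 = IsLocalRing.maximalIdeal S.carrier := by
    apply le_antisymm
    · exact sup_le hmaple (Ideal.pow_le_self two_ne_zero)
    · have h1 : Ideal.map (algebraMap R.carrier S.carrier) (IsLocalRing.maximalIdeal R.carrier) ≤
          Ideal.map φ' (IsLocalRing.maximalIdeal P.carrier) ⊔
            IsLocalRing.maximalIdeal S.carrier ^ 2 := by
        rw [Ideal.map_le_iff_le_comap]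
        intro r hr
        rw [Ideal.mem_comap]
        apply Ideal.mem_sup_left
        rw [← hφC]
        exact Ideal.mem_map_of_mem φ' (hCmem r hr)
      have h2 : Ideal.span (s : Set S.carrier) ≤
          Ideal.map φ' (IsLocalRing.maximalIdeal P.carrier) ⊔
            IsLocalRing.maximalIdeal S.carrier ^ 2 := by
        rw [Ideal.span_le]
        intro y hy
        obtain ⟨i, rfl⟩ := hxsurj y (Finset.mem_coe.1 hy)
        apply Ideal.mem_sup_left
        rw [← hφ i]
        exact Ideal.mem_map_of_mem φ' (hXmem i)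
      intro a ha
      have ha' : a ∈ Ideal.map (algebraMap R.carrier S.carrier)
          (IsLocalRing.maximalIdeal R.carrier) ⊔ Ideal.span (s : Set S.carrier) ⊔
          IsLocalRing.maximalIdeal S.carrier ^ 2 := by
        rw [hgen.2]; exact ha
      exact (sup_le (sup_le h1 h2) le_sup_right) ha'
  have hsurj : Function.Surjective φ' :=
    ((Groth.Agent.S12714.result P S φ' hf).out 1 0).1 hmap
  have hmapeq : Ideal.map φ' (IsLocalRing.maximalIdeal P.carrier) =
      IsLocalRing.maximalIdeal S.carrier := map_maximalIdeal_eq P S φ' hf hsurj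
  -- the kernel lies in `m_R P + m_P²`
  have hK : ∀ p : MvPowerSeries (Fin n) R.carrier, φ p = 0 →
      p ∈ Ideal.map (C : R.carrier →+* MvPowerSeries (Fin n) R.carrier)
        (IsLocalRing.maximalIdeal R.carrier) ⊔
        IsLocalRing.maximalIdeal (MvPowerSeries (Fin n) R.carrier) ^ 2 := by
    intro p hp0
    have hpm : p ∈ IsLocalRing.maximalIdeal (MvPowerSeries (Fin n) R.carrier) := by
      have h : (p : P.carrier) ∈ IsLocalRing.maximalIdeal P.carrier :=
        (CRing.mem_maximalIdeal_iff P p).2 ((hfr p).symm.trans (by rw [hp0, map_zero]))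
      exact h
    have hc₀m : constantCoeff p ∈ IsLocalRing.maximalIdeal R.carrier :=
      (Groth.Agent.Lib.PSCompleteH1.mem_maximalIdeal_iff p).1 hpm
    apply mem_sup_of_linear_coeff p hpm
    intro i₀
    by_contra hunit
    have hcu : IsUnit (coeff (Finsupp.single i₀ 1) p) := by
      by_contra h
      exact hunit ((IsLocalRing.mem_maximalIdeal _).2 h)
    have hgen' : IsGen R S (s.erase (x i₀)) := by
      refine ⟨fun y hy => hgen.1 y (Finset.mem_of_mem_erase hy), ?_⟩
      apply le_antisymm
      · refine sup_le (sup_le (map_algebraMap_le hloc) ?_) (Ideal.pow_le_self two_ne_zero)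
        rw [Ideal.span_le]
        intro y hy
        exact hgen.1 y (Finset.mem_of_mem_erase (Finset.mem_coe.1 hy))
      · have hxJ : ∀ i, i ≠ i₀ → x i ∈ Ideal.map (algebraMap R.carrier S.carrier)
            (IsLocalRing.maximalIdeal R.carrier) ⊔
            Ideal.span ((s.erase (x i₀) : Finset S.carrier) : Set S.carrier) ⊔
            IsLocalRing.maximalIdeal S.carrier ^ 2 := fun i hi =>
          Ideal.mem_sup_left (Ideal.mem_sup_right (Ideal.subset_span
            (Finset.mem_coe.2 (Finset.mem_erase.2 ⟨fun h => hi (hxinj h), hxs i⟩))))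
        have hx₀J : x i₀ ∈ Ideal.map (algebraMap R.carrier S.carrier)
            (IsLocalRing.maximalIdeal R.carrier) ⊔
            Ideal.span ((s.erase (x i₀) : Finset S.carrier) : Set S.carrier) ⊔
            IsLocalRing.maximalIdeal S.carrier ^ 2 := by
          have hq := sub_linear_mem_sq p
          have hφq : φ (p - C (constantCoeff p) -
              ∑ i, C (coeff (Finsupp.single i 1) p) * X i) ∈
              IsLocalRing.maximalIdeal S.carrier ^ 2 := by
            exact map_mem_pow_of_le (φ' : P.carrier →+* S.carrier) _ _ hmaple 2 hq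
          have hexp : φ (p - C (constantCoeff p) -
              ∑ i, C (coeff (Finsupp.single i 1) p) * X i) =
              - algebraMap R.carrier S.carrier (constantCoeff p) -
              ∑ i, algebraMap R.carrier S.carrier (coeff (Finsupp.single i 1) p) * x i := by
            rw [map_sub, map_sub, hp0, zero_sub, hφC, map_sum]
            congr 1
            refine Finset.sum_congr rfl fun i _ => ?_
            rw [map_mul, hφC, hφ]
          have hsum : ∑ i, algebraMap R.carrier S.carrier (coeff (Finsupp.single i 1) p) * x i =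
              algebraMap R.carrier S.carrier (coeff (Finsupp.single i₀ 1) p) * x i₀ +
              ∑ i ∈ Finset.univ.erase i₀,
                algebraMap R.carrier S.carrier (coeff (Finsupp.single i 1) p) * x i :=
            (Finset.add_sum_erase _ _ (Finset.mem_univ i₀)).symm
          have h1 : algebraMap R.carrier S.carrier (coeff (Finsupp.single i₀ 1) p) * x i₀ ∈
              Ideal.map (algebraMap R.carrier S.carrier)
              (IsLocalRing.maximalIdeal R.carrier) ⊔
              Ideal.span ((s.erase (x i₀) : Finset S.carrier) : Set S.carrier) ⊔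
              IsLocalRing.maximalIdeal S.carrier ^ 2 := by
            have e1 : algebraMap R.carrier S.carrier (coeff (Finsupp.single i₀ 1) p) * x i₀ =
                - φ (p - C (constantCoeff p) -
                  ∑ i, C (coeff (Finsupp.single i 1) p) * X i) -
                algebraMap R.carrier S.carrier (constantCoeff p) -
                ∑ i ∈ Finset.univ.erase i₀,
                  algebraMap R.carrier S.carrier (coeff (Finsupp.single i 1) p) * x i := by
              rw [hexp, hsum]
              ring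
            rw [e1]
            refine Ideal.sub_mem _ (Ideal.sub_mem _ (neg_mem (Ideal.mem_sup_right hφq))
              (Ideal.mem_sup_left (Ideal.mem_sup_left (Ideal.mem_map_of_mem _ hc₀m))))
              (Ideal.sum_mem _ fun i hi => Ideal.mul_mem_left _ _
                (hxJ i (Finset.ne_of_mem_erase hi)))
          have hu : IsUnit (algebraMap R.carrier S.carrier (coeff (Finsupp.single i₀ 1) p)) :=
            hcu.map _
          exact (Ideal.unit_mul_mem_iff_mem _ hu).1 h1
        intro a ha
        have ha' : a ∈ Ideal.map (algebraMap R.carrier S.carrier)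
            (IsLocalRing.maximalIdeal R.carrier) ⊔ Ideal.span (s : Set S.carrier) ⊔
            IsLocalRing.maximalIdeal S.carrier ^ 2 := by
          rw [hgen.2]; exact ha
        have hspan : Ideal.span (s : Set S.carrier) ≤
            Ideal.map (algebraMap R.carrier S.carrier) (IsLocalRing.maximalIdeal R.carrier) ⊔
            Ideal.span ((s.erase (x i₀) : Finset S.carrier) : Set S.carrier) ⊔
            IsLocalRing.maximalIdeal S.carrier ^ 2 := by
          rw [Ideal.span_le]
          intro y hy
          obtain ⟨i, rfl⟩ := hxsurj y (Finset.mem_coe.1 hy)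
          by_cases hi : i = i₀
          · rw [hi]; exact hx₀J
          · exact hxJ i hi
        have hle : Ideal.map (algebraMap R.carrier S.carrier)
            (IsLocalRing.maximalIdeal R.carrier) ⊔ Ideal.span (s : Set S.carrier) ⊔
            IsLocalRing.maximalIdeal S.carrier ^ 2 ≤
            Ideal.map (algebraMap R.carrier S.carrier) (IsLocalRing.maximalIdeal R.carrier) ⊔
            Ideal.span ((s.erase (x i₀) : Finset S.carrier) : Set S.carrier) ⊔
            IsLocalRing.maximalIdeal S.carrier ^ 2 :=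
          sup_le (sup_le (le_sup_of_le_left le_sup_left) hspan) le_sup_right
        exact hle ha'
    have hc' := hmin _ hgen'
    rw [Finset.card_erase_of_mem (hxs i₀), hcard] at hc'
    have hpos : 0 < n := Fin.pos i₀
    omega
  -- injectivity
  have hK' : ∀ p : P.carrier, φ' p = 0 →
      p ∈ Ideal.map (psι R n) (IsLocalRing.maximalIdeal R.carrier) ⊔
        IsLocalRing.maximalIdeal P.carrier ^ 2 := fun p hp =>
    sup_le_sup_right (map_C_le R n) _ (hK p hp)
  have hinj' : Function.Injective φ' :=
    injective_of_versal_aux R P S hRS hV (psι R n) (psι_res R n) φ' hf hsurj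
      (fun r => (congrArg φ (psι_apply R n r)).trans (hφC r)) hK'
  have hinj : Function.Injective φ := fun a b h => hinj' h
  exact ⟨n, ⟨(AlgEquiv.ofBijective φ ⟨hinj, hsurj⟩).symm⟩⟩

end KT

section Converse

/-- generalised augmentation compatibility -/
theorem res_algHom_gen (R : CRing Λ k) {T : Type*} [CommRing T] [Algebra R.carrier T]
    (ε : T →+* k) (hε : ∀ r, ε (algebraMap R.carrier T r) = R.res r) (n : ℕ)
    (φ : MvPowerSeries (Fin n) R.carrier →ₐ[R.carrier] T) (hφ : ∀ i, ε (φ (X i)) = 0)
    (p : MvPowerSeries (Fin n) R.carrier) : ε (φ p) = R.res (constantCoeff p) := by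
  letI : Algebra R.carrier k := R.res.toRingHom.toAlgebra
  let ε₁ : MvPowerSeries (Fin n) R.carrier →ₐ[R.carrier] k :=
    { toRingHom := ε.comp (φ : MvPowerSeries (Fin n) R.carrier →+* T)
      commutes' := fun c => by
        show ε (φ (algebraMap R.carrier _ c)) = R.res c
        rw [AlgHom.commutes, hε] }
  let ε₂ : MvPowerSeries (Fin n) R.carrier →ₐ[R.carrier] k :=
    { toRingHom := (R.res : R.carrier →+* k).comp constantCoeff
      commutes' := fun c => by
        show R.res (constantCoeff
          (algebraMap R.carrier (MvPowerSeries (Fin n) R.carrier) c)) = R.res c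
        rw [← MvPowerSeries.c_eq_algebraMap, constantCoeff_C] }
  have h12 : ε₁ = ε₂ := by
    apply algHom_ext_of_nilpotent
    · intro i
      show ε (φ (X i)) = R.res (constantCoeff (X i))
      rw [constantCoeff_X, map_zero]
      exact hφ i
    · intro i
      show IsNilpotent (ε (φ (X i)))
      rw [hφ i]
      exact IsNilpotent.zero
  exact AlgHom.congr_fun h12 p

theorem equiv_symm_X_mem {R S : CRing Λ k} [Algebra R.carrier S.carrier] (n : ℕ)
    (e : S.carrier ≃ₐ[R.carrier] MvPowerSeries (Fin n) R.carrier) (i : Fin n) :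
    e.symm (X i) ∈ IsLocalRing.maximalIdeal S.carrier := by
  rw [IsLocalRing.mem_maximalIdeal, mem_nonunits_iff]
  intro hu
  have h1 : IsUnit (e (e.symm (X i))) := hu.map e
  rw [AlgEquiv.apply_symm_apply] at h1
  have h2 : (X i : MvPowerSeries (Fin n) R.carrier) ∈
      IsLocalRing.maximalIdeal (MvPowerSeries (Fin n) R.carrier) := by
    rw [Groth.Agent.Lib.PSCompleteH1.mem_maximalIdeal_iff, constantCoeff_X]
    exact Ideal.zero_mem _
  exact (IsLocalRing.mem_maximalIdeal _).1 h2 h1

theorem nilpotent_of_res' (C : Art Λ k) (c : C) (hc : C.res c = 0) : IsNilpotent c := by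
  obtain ⟨N, hN⟩ := exists_maximalIdeal_pow_eq_bot C
  refine ⟨N, ?_⟩
  have h1 : c ∈ IsLocalRing.maximalIdeal C := (Art.mem_maximalIdeal_iff C c).2 hc
  have h2 := Ideal.pow_mem_pow h1 N
  rw [hN] at h2
  exact Ideal.mem_bot.1 h2

set_option maxHeartbeats 1600000 in
/-- A power series extension is a smooth morphism of coefficient rings. -/
theorem versal_of_ps_equiv (R S : CRing Λ k) [Algebra R.carrier S.carrier]
    [IsScalarTower Λ R.carrier S.carrier]
    (hRS : S.res.comp (IsScalarTower.toAlgHom Λ R.carrier S.carrier) = R.res) (n : ℕ)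
    (e : S.carrier ≃ₐ[R.carrier] MvPowerSeries (Fin n) R.carrier) :
    IsVersal ((Family.self R.carrier R.res).along
      (IsScalarTower.toAlgHom Λ R.carrier S.carrier) hRS) := by
  intro B A μ hμ φ y hy
  have hloc : ∀ r, S.res (algebraMap R.carrier S.carrier r) = R.res r :=
    fun r => AlgHom.congr_fun hRS r
  have hy' : ∀ r, μ (y.1 r) = φ.1 (algebraMap R.carrier S.carrier r) := fun r =>
    AlgHom.congr_fun (congrArg Subtype.val hy) r
  have hyres : ∀ r, B.res (y.1 r) = R.res r := fun r => AlgHom.congr_fun y.2 r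
  have hφres : ∀ s, A.res (φ.1 s) = S.res s := fun s => AlgHom.congr_fun φ.2 s
  letI algB : Algebra R.carrier B := (y.1 : R.carrier →+* B).toAlgebra
  haveI towerB : IsScalarTower Λ R.carrier B :=
    IsScalarTower.of_algebraMap_eq (fun c => (y.1.commutes c).symm)
  have hsm : ∀ i, e.symm (X i) ∈ IsLocalRing.maximalIdeal S.carrier := equiv_symm_X_mem n e
  choose b hb using fun i => hμ (φ.1 (e.symm (X i)))
  have hbres : ∀ i, B.res (b i) = 0 := by
    intro i
    rw [← Art.res_app μ, hb, hφres]
    exact (CRing.mem_maximalIdeal_iff S _).1 (hsm i)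
  have hbnil : ∀ i, IsNilpotent (b i) := fun i => nilpotent_of_res' B (b i) (hbres i)
  let χ₀ : MvPowerSeries (Fin n) R.carrier →ₐ[R.carrier] B := evalNil b hbnil
  have hχ₀ : ∀ i, χ₀ (X i) = b i := evalNil_X b hbnil
  let ψ₀ : S.carrier →ₐ[R.carrier] B := χ₀.comp e.toAlgHom
  have hψ₀alg : ∀ r, ψ₀ (algebraMap R.carrier S.carrier r) = y.1 r := fun r => by
    rw [AlgHom.commutes]
    rfl
  have hψ₀res : ∀ s, B.res (ψ₀ s) = S.res s := by
    intro s
    have h1 : B.res (χ₀ (e s)) = R.res (constantCoeff (e s)) :=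
      res_algHom_gen R (B.res : B →+* k) (fun r => hyres r) n χ₀
        (fun i => by rw [hχ₀]; exact hbres i) (e s)
    have h2 : S.res (e.symm.toAlgHom (e s)) = R.res (constantCoeff (e s)) :=
      res_algHom_gen R (S.res : S.carrier →+* k) hloc n e.symm.toAlgHom
        (fun i => (CRing.mem_maximalIdeal_iff S _).1 (hsm i)) (e s)
    have h3 : e.symm.toAlgHom (e s) = s := e.symm_apply_apply s
    rw [h3] at h2
    exact h1.trans h2.symm
  let ψ : HomSet S.carrier S.res B := ⟨ψ₀.restrictScalars Λ, by
    apply AlgHom.ext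
    intro s
    exact hψ₀res s⟩
  refine ⟨ψ, ?_, ?_⟩
  · apply Subtype.ext
    apply AlgHom.ext
    intro s
    show μ (χ₀ (e s)) = φ.1 s
    letI algA : Algebra R.carrier A :=
      ((μ.toAlgHom : B →+* A).comp (y.1 : R.carrier →+* B)).toAlgebra
    let ε₁ : MvPowerSeries (Fin n) R.carrier →ₐ[R.carrier] A :=
      { toRingHom := (μ.toAlgHom : B →+* A).comp (χ₀ : MvPowerSeries (Fin n) R.carrier →+* B)
        commutes' := fun r => by
          show μ (χ₀ (algebraMap R.carrier _ r)) = μ (y.1 r)
          rw [AlgHom.commutes]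
          rfl }
    let ε₂ : MvPowerSeries (Fin n) R.carrier →ₐ[R.carrier] A :=
      { toRingHom := (φ.1 : S.carrier →+* A).comp
          (e.symm.toAlgHom : MvPowerSeries (Fin n) R.carrier →+* S.carrier)
        commutes' := fun r => by
          show φ.1 (e.symm (algebraMap R.carrier _ r)) = μ (y.1 r)
          rw [AlgEquiv.commutes, hy'] }
    have h12 : ε₁ = ε₂ := by
      apply algHom_ext_of_nilpotent
      · intro i
        show μ (χ₀ (X i)) = φ.1 (e.symm (X i))
        rw [hχ₀, hb]
      · intro i
        show IsNilpotent (μ (χ₀ (X i)))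
        rw [hχ₀]
        exact (hbnil i).map μ.toAlgHom
    have h : μ (χ₀ (e s)) = φ.1 (e.symm (e s)) := AlgHom.congr_fun h12 (e s)
    rw [e.symm_apply_apply] at h
    exact h
  · apply Subtype.ext
    apply AlgHom.ext
    intro r
    exact hψ₀alg r

/-- The smoothness criterion for morphisms of coefficient rings. -/
theorem versal_iff [IsNoetherianRing Λ] [Module.Finite Λ k] (R S : CRing Λ k)
    [Algebra R.carrier S.carrier] [IsScalarTower Λ R.carrier S.carrier]
    (hRS : S.res.comp (IsScalarTower.toAlgHom Λ R.carrier S.carrier) = R.res) :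
    IsVersal ((Family.self R.carrier R.res).along
        (IsScalarTower.toAlgHom Λ R.carrier S.carrier) hRS) ↔
      ∃ n : ℕ, Nonempty (S.carrier ≃ₐ[R.carrier] MvPowerSeries (Fin n) R.carrier) :=
  ⟨exists_ps_equiv_of_versal R S hRS, fun ⟨n, ⟨e⟩⟩ => versal_of_ps_equiv R S hRS n e⟩

end Converse

section Base

variable [IsNoetherianRing Λ] [Module.Finite Λ k]
  [IsLocalRing Λ] [IsAdicComplete (IsLocalRing.maximalIdeal Λ) Λ]

/-- the base ring as a coefficient ring -/
noncomputable abbrev baseCRing (hk : Function.Surjective (algebraMap Λ k)) : CRing Λ k where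
  carrier := Λ
  res := Algebra.ofId Λ k
  res_surjective := hk
  isAdicComplete := inferInstance

theorem homSet_base_subsingleton (B : Art Λ k) (y y' : HomSet Λ (Algebra.ofId Λ k) B) :
    y = y' := by
  apply Subtype.ext
  apply AlgHom.ext
  intro c
  have h1 : y.1 c = algebraMap Λ B c := y.1.commutes c
  have h2 : y'.1 c = algebraMap Λ B c := y'.1.commutes c
  rw [h1, h2]

set_option maxHeartbeats 800000 in
theorem smooth_iff_ps (hk : Function.Surjective (algebraMap Λ k)) (R : CRing Λ k) :
    IsSmoothFunctor (hR R.carrier R.res) ↔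
      ∃ n : ℕ, Nonempty (R.carrier ≃ₐ[Λ] MvPowerSeries (Fin n) Λ) := by
  have hRS : R.res.comp (IsScalarTower.toAlgHom Λ (baseCRing hk).carrier R.carrier) =
      (baseCRing hk).res := by
    apply AlgHom.ext
    intro c
    exact R.res.commutes c
  have key := versal_iff (baseCRing hk) R hRS
  refine Iff.trans ?_ key
  constructor
  · intro hs B A μ hμ φ y hy
    obtain ⟨ψ, hψ⟩ := hs μ hμ φ
    exact ⟨ψ, hψ, homSet_base_subsingleton _ _ _⟩
  · intro hv B A μ hμ φ
    let y : HomSet Λ (Algebra.ofId Λ k) B := ⟨Algebra.ofId Λ B, by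
      apply AlgHom.ext
      intro c
      exact B.res.commutes c⟩
    obtain ⟨ψ, hψ, _⟩ := hv μ hμ φ y (homSet_base_subsingleton _ _ _)
    exact ⟨ψ, hψ⟩

end Base

end Groth.Agent.Lib.ArtFunKT
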