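import Mathlib
import Groth.Prelude
import Groth.Agent.Lib.ArtFunKV_helper1

set_option autoImplicit false
set_option linter.style.haveILetI false

universe u v

open CategoryTheory ArtFun ArtFun.Art Groth.Agent.Lib.SchlH1

namespace Groth.Agent.Lib.TanStrH4

noncomputable section

variable {Λ : Type u} {k : Type u} [CommRing Λ] [Field k] [Algebra Λ k]

theorem kVMap_kVToDual {m n : ℕ} (ψ : (Fin m → k) →ₗ[k] (Fin n → k)) (φ : (Fin n → k) →ₗ[k] k) :
    (kVMap ψ : kV Λ k m ⟶ kV Λ k n) ≫ kVToDual φ = kVToDual (φ ∘ₗ ψ) :=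
  Art.hom_ext (AlgHom.ext fun _ => rfl)

theorem kVToDual_scale {m : ℕ} (φ : (Fin m → k) →ₗ[k] k) (c : k) :
    (kVToDual φ : kV Λ k m ⟶ dual Λ k) ≫ scale c = kVToDual (c • φ) :=
  Art.hom_ext (AlgHom.ext fun _ => rfl)

theorem toBase_baseToKV0 : toBase (kV Λ k 0) ≫ baseToKV Λ k 0 = 𝟙 (kV Λ k 0) := by
  apply Art.hom_ext
  apply AlgHom.ext
  intro x
  exact TrivSqZeroExt.ext rfl (Subsingleton.elim _ _)

/-- The sum functional on `k²`. -/
def s₂ : (Fin 2 → k) →ₗ[k] k :=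
  LinearMap.proj (R := k) (φ := fun _ : Fin 2 => k) 0 + LinearMap.proj (R := k) (φ := fun _ : Fin 2 => k) 1

/-- `k[ε₁, ε₂] → k[k²]`. -/
def j' : dual2 Λ k ⟶ kV Λ k 2 :=
  ⟨tszeMap (LinearMap.pi (R := k) (φ := fun _ : Fin 2 => k) ![LinearMap.fst k k k, LinearMap.snd k k k]),
    AlgHom.ext fun _ => rfl⟩

theorem j'_proj0 : (j' : dual2 Λ k ⟶ kV Λ k 2) ≫ kVToDual (LinearMap.proj (R := k) (φ := fun _ : Fin 2 => k) 0) = pr₁ :=
  Art.hom_ext (AlgHom.ext fun _ => rfl)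

theorem j'_proj1 : (j' : dual2 Λ k ⟶ kV Λ k 2) ≫ kVToDual (LinearMap.proj (R := k) (φ := fun _ : Fin 2 => k) 1) = pr₂ :=
  Art.hom_ext (AlgHom.ext fun _ => rfl)

theorem j'_s₂ : (j' : dual2 Λ k ⟶ kV Λ k 2) ≫ kVToDual s₂ = plus :=
  Art.hom_ext (AlgHom.ext fun _ => rfl)

section
variable (F : Art Λ k ⥤ Type v)

/-- Coordinates of an element of `F(k[k^r])`. -/
def β (r : ℕ) (x : F.obj (kV Λ k r)) : Fin r → F.obj (dual Λ k) :=
  fun i => F.map (kVToDual (LinearMap.proj (R := k) (φ := fun _ : Fin r => k) i)) x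

theorem β_castSucc (r : ℕ) (x : F.obj (kV Λ k (r + 1))) (i : Fin r) :
    β F (r + 1) x i.castSucc = β F r (F.map (kVMap (initL k r)) x) i := by
  have e : (kVMap (initL k r) : kV Λ k (r + 1) ⟶ kV Λ k r) ≫
      kVToDual (LinearMap.proj (R := k) (φ := fun _ : Fin r => k) i) =
      kVToDual (LinearMap.proj (R := k) (φ := fun _ : Fin (r + 1) => k) i.castSucc) :=
    Art.hom_ext (AlgHom.ext fun _ => rfl)
  show F.map (kVToDual (LinearMap.proj (R := k) (φ := fun _ : Fin (r + 1) => k) i.castSucc)) x =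
    F.map (kVToDual (LinearMap.proj (R := k) (φ := fun _ : Fin r => k) i)) (F.map (kVMap (initL k r)) x)
  rw [← FunctorToTypes.map_comp_apply, e]

variable {F}

theorem subsingleton_kV0 (h0 : H0 F) : Subsingleton (F.obj (kV Λ k 0)) := by
  refine ⟨fun x x' => ?_⟩
  have hx : ∀ y : F.obj (kV Λ k 0),
      y = F.map (baseToKV Λ k 0) (F.map (toBase (kV Λ k 0)) y) := by
    intro y
    rw [← FunctorToTypes.map_comp_apply, toBase_baseToKV0, FunctorToTypes.map_id_apply]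
  exact (hx x).trans ((congrArg (F.map (baseToKV Λ k 0)) (h0.2.elim _ _)).trans (hx x').symm)

theorem β_bij (h0 : H0 F) (h2 : Heps F) : ∀ r : ℕ, Function.Bijective (β F r) := by
  intro r
  induction r with
  | zero =>
    haveI := subsingleton_kV0 (Λ := Λ) (k := k) (F := F) h0
    obtain ⟨pt⟩ := h0.1
    refine ⟨fun x x' _ => Subsingleton.elim x x', fun θ => ⟨F.map (baseToKV Λ k 0) pt, ?_⟩⟩
    funext i
    exact i.elim0
  | succ r ih =>
    have hfp := isFibreProd_kV (Λ := Λ) (k := k) r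
    have hb := h2 _ _ hfp
    constructor
    · intro x x' hxx
      apply hb.1
      apply FibProd.ext
      · show F.map (kVMap (initL k r)) x = F.map (kVMap (initL k r)) x'
        apply ih.1
        funext i
        exact (β_castSucc F r x i).symm.trans
          ((congrFun hxx i.castSucc).trans (β_castSucc F r x' i))
      · exact congrFun hxx (Fin.last r)
    · intro θ
      obtain ⟨x', hx'⟩ := ih.2 (fun i => θ i.castSucc)
      obtain ⟨x, hx⟩ := hb.2
        (⟨(x', θ (Fin.last r)), h0.2.elim _ _⟩ :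
          {y : F.obj (kV Λ k r) × F.obj (dual Λ k) //
            F.map (toBase (kV Λ k r)) y.1 = F.map (toBase (dual Λ k)) y.2})
      have hx1 : F.map (kVMap (initL k r)) x = x' :=
        congrArg (fun y : FibProd F (toBase (kV Λ k r)) (toBase (dual Λ k)) => y.1.1) hx
      have hx2 : F.map (kVToDual (LinearMap.proj (R := k) (φ := fun _ : Fin (r + 1) => k)
          (Fin.last r))) x = θ (Fin.last r) :=
        congrArg (fun y : FibProd F (toBase (kV Λ k r)) (toBase (dual Λ k)) => y.1.2) hx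
      refine ⟨x, ?_⟩
      funext i
      refine Fin.lastCases ?_ (fun j => ?_) i
      · exact hx2
      · refine (β_castSucc F r x j).trans ?_
        rw [hx1]
        exact congrFun hx' j

variable (h0 : H0 F) (h2 : Heps F)

/-- The element with given coordinates. -/
def lift {r : ℕ} (θ : Fin r → F.obj (dual Λ k)) : F.obj (kV Λ k r) :=
  Classical.choose ((β_bij h0 h2 r).2 θ)

theorem β_lift {r : ℕ} (θ : Fin r → F.obj (dual Λ k)) : β F r (lift h0 h2 θ) = θ :=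
  Classical.choose_spec ((β_bij h0 h2 r).2 θ)

theorem lift_β {r : ℕ} (x : F.obj (kV Λ k r)) : lift h0 h2 (β F r x) = x :=
  (β_bij h0 h2 r).1 (β_lift h0 h2 _)

/-- The operation on `t_F` attached to a linear functional. -/
def op {r : ℕ} (φ : (Fin r → k) →ₗ[k] k) (θ : Fin r → F.obj (dual Λ k)) : F.obj (dual Λ k) :=
  F.map (kVToDual φ) (lift h0 h2 θ)

theorem op_β {r : ℕ} (φ : (Fin r → k) →ₗ[k] k) (x : F.obj (kV Λ k r)) :
    op h0 h2 φ (β F r x) = F.map (kVToDual φ) x := by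
  show F.map (kVToDual φ) (lift h0 h2 (β F r x)) = _
  rw [lift_β]

theorem op_proj {r : ℕ} (i : Fin r) (θ : Fin r → F.obj (dual Λ k)) :
    op h0 h2 (LinearMap.proj (R := k) (φ := fun _ : Fin r => k) i) θ = θ i :=
  congrFun (β_lift h0 h2 θ) i

theorem op_comp {m n : ℕ} (φ : (Fin n → k) →ₗ[k] k) (ψ : Fin n → ((Fin m → k) →ₗ[k] k))
    (θ : Fin m → F.obj (dual Λ k)) :
    op h0 h2 φ (fun i => op h0 h2 (ψ i) θ) =
      op h0 h2 (φ ∘ₗ LinearMap.pi (R := k) (φ := fun _ : Fin n => k) ψ) θ := by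
  have e1 : (fun i => op h0 h2 (ψ i) θ) =
      β F n (F.map (kVMap (LinearMap.pi (R := k) (φ := fun _ : Fin n => k) ψ)) (lift h0 h2 θ)) := by
    funext i
    show F.map (kVToDual (ψ i)) (lift h0 h2 θ) =
      F.map (kVToDual (LinearMap.proj (R := k) (φ := fun _ : Fin n => k) i))
        (F.map (kVMap (LinearMap.pi (R := k) (φ := fun _ : Fin n => k) ψ)) (lift h0 h2 θ))
    rw [← FunctorToTypes.map_comp_apply, kVMap_kVToDual, LinearMap.proj_pi]
  rw [e1, op_β]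
  show _ = F.map (kVToDual (φ ∘ₗ LinearMap.pi (R := k) (φ := fun _ : Fin n => k) ψ)) (lift h0 h2 θ)
  rw [← FunctorToTypes.map_comp_apply, kVMap_kVToDual]

/-- Zero of the tangent space. -/
def zero' : F.obj (dual Λ k) := op h0 h2 (0 : (Fin 0 → k) →ₗ[k] k) (fun i => i.elim0)

/-- Addition on the tangent space. -/
def add' (x y : F.obj (dual Λ k)) : F.obj (dual Λ k) := op h0 h2 s₂ ![x, y]

theorem zero_eq {m : ℕ} (θ : Fin m → F.obj (dual Λ k)) :
    zero' h0 h2 = op h0 h2 (0 : (Fin m → k) →ₗ[k] k) θ := by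
  have e := op_comp h0 h2 (0 : (Fin 0 → k) →ₗ[k] k)
    (fun i => i.elim0 : Fin 0 → ((Fin m → k) →ₗ[k] k)) θ
  rw [LinearMap.zero_comp] at e
  refine Eq.trans ?_ e
  show op h0 h2 (0 : (Fin 0 → k) →ₗ[k] k) (fun i => i.elim0) = _
  congr 1
  funext i
  exact i.elim0

theorem add_op {m : ℕ} (φ₁ φ₂ : (Fin m → k) →ₗ[k] k) (θ : Fin m → F.obj (dual Λ k)) :
    add' h0 h2 (op h0 h2 φ₁ θ) (op h0 h2 φ₂ θ) = op h0 h2 (φ₁ + φ₂) θ := by
  have e := op_comp h0 h2 s₂ ![φ₁, φ₂] θ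
  have e1 : (fun i => op h0 h2 (![φ₁, φ₂] i) θ) = ![op h0 h2 φ₁ θ, op h0 h2 φ₂ θ] := by
    funext i
    exact (Fin.forall_fin_two (p := fun i : Fin 2 => op h0 h2 (![φ₁, φ₂] i) θ =
      ![op h0 h2 φ₁ θ, op h0 h2 φ₂ θ] i)).2 ⟨rfl, rfl⟩ i
  have e2 : (s₂ : (Fin 2 → k) →ₗ[k] k) ∘ₗ
      LinearMap.pi (R := k) (φ := fun _ : Fin 2 => k) ![φ₁, φ₂] = φ₁ + φ₂ := by
    apply LinearMap.ext
    intro v
    rfl
  rw [e1, e2] at e
  exact e

theorem smul_op {m : ℕ} (c : k) (φ : (Fin m → k) →ₗ[k] k) (θ : Fin m → F.obj (dual Λ k)) :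
    F.map (scale c) (op h0 h2 φ θ) = op h0 h2 (c • φ) θ := by
  show F.map (scale c) (F.map (kVToDual φ) (lift h0 h2 θ)) = F.map (kVToDual (c • φ)) (lift h0 h2 θ)
  rw [← FunctorToTypes.map_comp_apply, kVToDual_scale]

theorem add_assoc' (θ : Fin 3 → F.obj (dual Λ k)) :
    add' h0 h2 (add' h0 h2 (θ 0) (θ 1)) (θ 2) = add' h0 h2 (θ 0) (add' h0 h2 (θ 1) (θ 2)) := by
  rw [← op_proj h0 h2 0 θ, ← op_proj h0 h2 1 θ, ← op_proj h0 h2 2 θ, add_op, add_op, add_op,
    add_op, add_assoc]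

theorem add_comm' (θ : Fin 2 → F.obj (dual Λ k)) :
    add' h0 h2 (θ 0) (θ 1) = add' h0 h2 (θ 1) (θ 0) := by
  rw [← op_proj h0 h2 0 θ, ← op_proj h0 h2 1 θ, add_op, add_op, add_comm]

theorem zero_add' (θ : Fin 1 → F.obj (dual Λ k)) :
    add' h0 h2 (zero' h0 h2) (θ 0) = θ 0 := by
  rw [zero_eq h0 h2 θ, ← op_proj h0 h2 0 θ, add_op, zero_add]

theorem add_zero' (θ : Fin 1 → F.obj (dual Λ k)) :
    add' h0 h2 (θ 0) (zero' h0 h2) = θ 0 := by
  rw [zero_eq h0 h2 θ, ← op_proj h0 h2 0 θ, add_op, add_zero]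

theorem neg_add_cancel' (θ : Fin 1 → F.obj (dual Λ k)) :
    add' h0 h2 (F.map (scale (-1)) (θ 0)) (θ 0) = zero' h0 h2 := by
  have e : ((-1 : k) • LinearMap.proj (R := k) (φ := fun _ : Fin 1 => k) 0 +
      LinearMap.proj (R := k) (φ := fun _ : Fin 1 => k) 0 : (Fin 1 → k) →ₗ[k] k) = 0 :=
    LinearMap.ext fun v => by simp
  rw [zero_eq h0 h2 θ, ← op_proj h0 h2 0 θ, smul_op, add_op, e]

include h0 h2 in
theorem one_smul' (θ : Fin 1 → F.obj (dual Λ k)) : F.map (scale 1) (θ 0) = θ 0 := by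
  rw [← op_proj h0 h2 0 θ, smul_op, one_smul]

include h0 h2 in
theorem mul_smul' (c d : k) (θ : Fin 1 → F.obj (dual Λ k)) :
    F.map (scale (c * d)) (θ 0) = F.map (scale c) (F.map (scale d) (θ 0)) := by
  rw [← op_proj h0 h2 0 θ, smul_op, smul_op, smul_op, mul_smul]

theorem smul_zero' (c : k) : F.map (scale c) (zero' h0 h2) = zero' h0 h2 := by
  rw [zero_eq h0 h2 (fun i : Fin 0 => i.elim0), smul_op, smul_zero]

theorem smul_add' (c : k) (θ : Fin 2 → F.obj (dual Λ k)) :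
    F.map (scale c) (add' h0 h2 (θ 0) (θ 1)) =
      add' h0 h2 (F.map (scale c) (θ 0)) (F.map (scale c) (θ 1)) := by
  rw [← op_proj h0 h2 0 θ, ← op_proj h0 h2 1 θ, add_op, smul_op, smul_op, smul_op, add_op,
    smul_add]

theorem add_smul' (c d : k) (θ : Fin 1 → F.obj (dual Λ k)) :
    F.map (scale (c + d)) (θ 0) = add' h0 h2 (F.map (scale c) (θ 0)) (F.map (scale d) (θ 0)) := by
  rw [← op_proj h0 h2 0 θ, smul_op, smul_op, smul_op, add_op, add_smul]

theorem zero_smul' (θ : Fin 1 → F.obj (dual Λ k)) : F.map (scale 0) (θ 0) = zero' h0 h2 := by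
  rw [zero_eq h0 h2 θ, ← op_proj h0 h2 0 θ, smul_op, zero_smul]

theorem add_eq' (z : F.obj (dual2 Λ k)) :
    add' h0 h2 (F.map pr₁ z) (F.map pr₂ z) = F.map plus z := by
  have e0 : β F 2 (F.map j' z) 0 = F.map pr₁ z := by
    show F.map (kVToDual (LinearMap.proj (R := k) (φ := fun _ : Fin 2 => k) 0)) (F.map j' z) = _
    rw [← FunctorToTypes.map_comp_apply, j'_proj0]
  have e1' : β F 2 (F.map j' z) 1 = F.map pr₂ z := by
    show F.map (kVToDual (LinearMap.proj (R := k) (φ := fun _ : Fin 2 => k) 1)) (F.map j' z) = _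
    rw [← FunctorToTypes.map_comp_apply, j'_proj1]
  have e1 : β F 2 (F.map j' z) = ![F.map pr₁ z, F.map pr₂ z] := by
    funext i
    exact (Fin.forall_fin_two (p := fun i : Fin 2 => β F 2 (F.map j' z) i =
      ![F.map pr₁ z, F.map pr₂ z] i)).2 ⟨e0, e1'⟩ i
  show op h0 h2 s₂ ![F.map pr₁ z, F.map pr₂ z] = F.map plus z
  rw [← e1, op_β, ← FunctorToTypes.map_comp_apply, j'_s₂]

/-- The additive group structure. -/
def acg : AddCommGroup (F.obj (dual Λ k)) :=
  letI : Add (F.obj (dual Λ k)) := ⟨add' h0 h2⟩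
  letI : Zero (F.obj (dual Λ k)) := ⟨zero' h0 h2⟩
  letI : Neg (F.obj (dual Λ k)) := ⟨fun x => F.map (scale (-1)) x⟩
  { AddGroup.ofLeftAxioms (fun x y z => add_assoc' h0 h2 ![x, y, z])
      (fun x => zero_add' h0 h2 ![x]) (fun x => neg_add_cancel' h0 h2 ![x]) with
    add_comm := fun x y => add_comm' h0 h2 ![x, y] }

/-- The vector space structure. -/
def mod : @Module k (F.obj (dual Λ k)) _ (acg h0 h2).toAddCommMonoid :=
  letI := acg h0 h2
  { smul := fun c x => F.map (scale c) x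
    one_smul := fun x => one_smul' h0 h2 ![x]
    mul_smul := fun c d x => mul_smul' h0 h2 c d ![x]
    smul_zero := fun c => smul_zero' h0 h2 c
    smul_add := fun c x y => smul_add' h0 h2 c ![x, y]
    add_smul := fun c d x => add_smul' h0 h2 c d ![x]
    zero_smul := fun x => zero_smul' h0 h2 ![x] }

end

theorem main (F : Art Λ k ⥤ Type v) (h0 : H0 F) (h2 : Heps F) : Nonempty (TangentStr F) :=
  ⟨{ addCommGroup := acg h0 h2
     module := mod h0 h2
     smul_eq := fun _ _ => rfl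
     add_eq := fun z => add_eq' h0 h2 z }⟩

end

end Groth.Agent.Lib.TanStrH4
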