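import Mathlib
import Groth.Agent.Lib.ArtFunHull_helper1
import Groth.Agent.Lib.ArtFunTan_helper1
import Groth.Agent.Lib.ArtFunKT_helper1
import Groth.Agent.S12707
import Groth.Agent.S12726
import Groth.Agent.S12727
import Groth.Agent.S12728
import Groth.Agent.S12730
import Groth.Agent.S12731
import Groth.Agent.S12720
import Groth.Agent.S12758

/-!
# Minimalising a versal family (helper1)

From a versal family `(R, ξ)` one obtains a miniversal family over a quotient `R/I` by killing
lifts of a dual basis of the kernel of `t_R → t_F`.  APPEND-ONLY once landed.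
-/

set_option autoImplicit false
universe u v

open CategoryTheory

namespace Groth.Agent.Lib.MinH1

open ArtFun ArtFun.Art Groth.Agent.Lib.ArtFunH1 Groth.Agent.Lib.SchlH1 Groth.Agent.S12731

variable {Λ : Type u} {k : Type u} [CommRing Λ] [Field k] [Algebra Λ k]

section Der

variable {R : Type u} [CommRing R] [Algebra Λ R] (resR : R →ₐ[Λ] k)

/-- `Λ`-derivations `R → k` with respect to the augmentation, as a `k`-subspace of functions -/
def Der : Submodule k (R → k) where
  carrier := {D | (∀ s t, D (s + t) = D s + D t) ∧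
    (∀ s t, D (s * t) = resR s * D t + resR t * D s) ∧ ∀ l : Λ, D (algebraMap Λ R l) = 0}
  add_mem' := by
    intro D E hD hE
    obtain ⟨hD1, hD2, hD3⟩ := hD
    obtain ⟨hE1, hE2, hE3⟩ := hE
    refine ⟨fun s t => ?_, fun s t => ?_, fun l => ?_⟩
    · show D (s + t) + E (s + t) = (D s + E s) + (D t + E t)
      rw [hD1, hE1]; ring
    · show D (s * t) + E (s * t) = resR s * (D t + E t) + resR t * (D s + E s)
      rw [hD2, hE2]; ring
    · show D (algebraMap Λ R l) + E (algebraMap Λ R l) = 0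
      rw [hD3, hE3, add_zero]
  zero_mem' := by
    refine ⟨fun s t => ?_, fun s t => ?_, fun l => ?_⟩
    · show (0 : k) = 0 + 0
      rw [add_zero]
    · show (0 : k) = resR s * 0 + resR t * 0
      rw [mul_zero, mul_zero, add_zero]
    · rfl
  smul_mem' := by
    intro c D hD
    obtain ⟨hD1, hD2, hD3⟩ := hD
    refine ⟨fun s t => ?_, fun s t => ?_, fun l => ?_⟩
    · show c * D (s + t) = c * D s + c * D t
      rw [hD1]; ring
    · show c * D (s * t) = resR s * (c * D t) + resR t * (c * D s)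
      rw [hD2]; ring
    · show c * D (algebraMap Λ R l) = 0
      rw [hD3, mul_zero]

theorem mem_Der {D : R → k} : D ∈ Der resR ↔ (∀ s t, D (s + t) = D s + D t) ∧
    (∀ s t, D (s * t) = resR s * D t + resR t * D s) ∧ ∀ l : Λ, D (algebraMap Λ R l) = 0 :=
  Iff.rfl

theorem der_add (D : Der resR) (s t : R) : D.1 (s + t) = D.1 s + D.1 t :=
  ((mem_Der resR).1 D.2).1 s t

theorem der_mul (D : Der resR) (s t : R) : D.1 (s * t) = resR s * D.1 t + resR t * D.1 s :=
  ((mem_Der resR).1 D.2).2.1 s t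

theorem der_alg (D : Der resR) (l : Λ) : D.1 (algebraMap Λ R l) = 0 :=
  ((mem_Der resR).1 D.2).2.2 l

theorem der_zero (D : Der resR) : D.1 0 = 0 := by
  have h := der_add resR D 0 0
  rw [add_zero] at h
  exact add_eq_left.1 h.symm

theorem der_one (D : Der resR) : D.1 1 = 0 := by
  have h := der_alg resR D 1
  rwa [map_one] at h

theorem der_sub (D : Der resR) (s t : R) : D.1 (s - t) = D.1 s - D.1 t := by
  have h := der_add resR D (s - t) t
  rw [sub_add_cancel] at h
  rw [h, add_sub_cancel_right]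

/-- the tangent vector of a derivation -/
noncomputable def toHom (D : Der resR) : HomSet R resR (dual Λ k) :=
  tanOfDeriv resR (Algebra.ofId Λ R) D.1 (der_add resR D) (der_mul resR D)
    (fun l => der_alg resR D l)

theorem toHom_apply (D : Der resR) (r : R) : (toHom resR D).1 r = dmk (resR r) (D.1 r) := rfl

/-- the derivation of a tangent vector -/
def ofHom (φ : HomSet R resR (dual Λ k)) : Der resR :=
  ⟨dpart φ, (mem_Der resR).2 ⟨dpart_add φ, dpart_mul φ, fun l => by
    show dsnd (φ.1 (algebraMap Λ R l)) = 0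
    rw [AlgHom.commutes]
    exact dsnd_algebraMap l⟩⟩

theorem toHom_ofHom (φ : HomSet R resR (dual Λ k)) : toHom resR (ofHom resR φ) = φ := by
  apply Subtype.ext
  apply AlgHom.ext
  intro r
  apply dual_ext
  · show dfst (dmk (resR r) _) = dfst (φ.1 r)
    rw [dfst_dmk, dfst_hom]
  · rfl

theorem ofHom_toHom (D : Der resR) : ofHom resR (toHom resR D) = D :=
  Subtype.ext (funext fun _ => rfl)

/-- a derivation vanishing on the augmentation ideal comes from a derivation of `k` -/
theorem der_eq_zero_of_vanish (hk : Subsingleton (Derivation Λ k k))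
    (hres : Function.Surjective resR) (E : Der resR)
    (hvan : ∀ m, resR m = 0 → E.1 m = 0) : E = 0 := by
  have hwd : ∀ r r', resR r = resR r' → E.1 r = E.1 r' := by
    intro r r' h
    have h1 : E.1 (r - r') = 0 := hvan _ (by rw [map_sub, h, sub_self])
    rw [der_sub] at h1
    exact sub_eq_zero.1 h1
  have hs : ∀ c, resR (Function.surjInv hres c) = c := Function.surjInv_eq hres
  let L : k →ₗ[Λ] k :=
    { toFun := fun c => E.1 (Function.surjInv hres c)
      map_add' := by
        intro c c'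
        rw [← der_add]
        apply hwd
        rw [map_add, hs, hs, hs]
      map_smul' := by
        intro l c
        have h1 : E.1 (Function.surjInv hres (l • c)) =
            E.1 (algebraMap Λ R l * Function.surjInv hres c) := by
          apply hwd
          rw [hs, map_mul, AlgHom.commutes, hs, Algebra.smul_def]
        show E.1 (Function.surjInv hres (l • c)) = (RingHom.id Λ) l • E.1 (Function.surjInv hres c)
        rw [h1, der_mul, der_alg, mul_zero, add_zero, AlgHom.commutes, RingHom.id_apply,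
          Algebra.smul_def] }
  have hL : ∀ c, L c = E.1 (Function.surjInv hres c) := fun _ => rfl
  have hleib : ∀ a b : k, L (a * b) = a • L b + b • L a := by
    intro a b
    have h1 : E.1 (Function.surjInv hres (a * b)) =
        E.1 (Function.surjInv hres a * Function.surjInv hres b) := by
      apply hwd
      rw [hs, map_mul, hs, hs]
    rw [hL, hL, hL, h1, der_mul, hs, hs, smul_eq_mul, smul_eq_mul]
  have hδ : Derivation.mk' L hleib = 0 := Subsingleton.elim _ _
  apply Subtype.ext
  funext r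
  have h1 : E.1 r = E.1 (Function.surjInv hres (resR r)) := hwd _ _ (hs _).symm
  have h2 : (Derivation.mk' L hleib) (resR r) = 0 := by rw [hδ]; rfl
  rw [h1]
  exact h2

end Der

section Theta

variable {R : Type u} [CommRing R] [Algebra Λ R] {resR : R →ₐ[Λ] k}
  {F : Art Λ k ⥤ Type v} [TangentStr F] (ξ : Family R resR F)

/-- the characteristic map on derivations -/
noncomputable def thetaFun (D : Der resR) : TangentSpace F := ξ.app (dual Λ k) (toHom resR D)

theorem theta_add (D E : Der resR) :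
    thetaFun ξ (D + E) = thetaFun ξ D + thetaFun ξ E := by
  obtain ⟨ψ, h1, h2⟩ := HomSet.exists_lift_fibreProd (isFibreProd_dual2 (Λ := Λ) (k := k))
    (toHom resR D) (toHom resR E) (homSet_base_eq _ _)
  have hx : thetaFun ξ D = F.map pr₁ (ξ.app _ ψ) := by
    show ξ.app (dual Λ k) (toHom resR D) = _
    rw [← ξ.natural, h1]
  have hy : thetaFun ξ E = F.map pr₂ (ξ.app _ ψ) := by
    show ξ.app (dual Λ k) (toHom resR E) = _
    rw [← ξ.natural, h2]
  have hsum : toHom resR (D + E) = HomSet.map plus ψ := by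
    apply Subtype.ext
    apply AlgHom.ext
    intro r
    have e1 : pr₁ (ψ.1 r) = dmk (resR r) (D.1 r) :=
      congrArg (fun χ : HomSet R resR (dual Λ k) => χ.1 r) h1
    have e2 : pr₂ (ψ.1 r) = dmk (resR r) (E.1 r) :=
      congrArg (fun χ : HomSet R resR (dual Λ k) => χ.1 r) h2
    apply dual_ext
    · show resR r = dfst (plus (ψ.1 r))
      have h3 := congrArg dfst e1
      exact h3.symm
    · have a1 := congrArg dsnd e1
      have a2 := congrArg dsnd e2
      show D.1 r + E.1 r = dsnd (pr₁ (ψ.1 r)) + dsnd (pr₂ (ψ.1 r))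
      rw [a1, a2]
      rfl
  have h3 : thetaFun ξ (D + E) = F.map plus (ξ.app _ ψ) := by
    show ξ.app (dual Λ k) (toHom resR (D + E)) = _
    rw [hsum, ξ.natural]
  rw [h3]
  exact (add_eq' _ _ _ hx hy).symm

theorem theta_smul (c : k) (D : Der resR) :
    thetaFun ξ (c • D) = c • thetaFun ξ D := by
  have hs : toHom resR (c • D) = HomSet.map (scale c) (toHom resR D) := by
    apply Subtype.ext
    apply AlgHom.ext
    intro r
    apply dual_ext
    · rfl
    · rfl
  have h3 : thetaFun ξ (c • D) = F.map (scale c) (thetaFun ξ D) := by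
    show ξ.app (dual Λ k) (toHom resR (c • D)) = _
    rw [hs, ξ.natural]
    rfl
  rw [h3]
  exact (TangentStr.smul_eq c _).symm

/-- the characteristic map on derivations, as a linear map -/
noncomputable def theta : Der resR →ₗ[k] TangentSpace F where
  toFun := thetaFun ξ
  map_add' := theta_add ξ
  map_smul' := theta_smul ξ

theorem theta_apply (D : Der resR) : theta ξ D = ξ.app (dual Λ k) (toHom resR D) := rfl

end Theta

section FinDim

variable [IsNoetherianRing Λ] [Module.Finite Λ k]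

theorem der_finite (R : CRing Λ k) : Module.Finite k (Der R.res) := by
  obtain ⟨n, g, hg⟩ := exists_gens R
  let Ψ : Der R.res →ₗ[k] (Fin n → k) :=
    { toFun := fun D i => D.1 (g i)
      map_add' := fun D E => rfl
      map_smul' := fun c D => rfl }
  have hinj : Function.Injective Ψ := by
    intro D E h
    have h1 : toHom R.res D = toHom R.res E :=
      dpart_ext R n g hg _ _ (fun i => congrFun h i)
    rw [← ofHom_toHom R.res D, ← ofHom_toHom R.res E, h1]
  exact Module.Finite.of_injective Ψ hinj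

end FinDim

section DualElts

variable {R : Type u} [CommRing R] [Algebra Λ R] (resR : R →ₐ[Λ] k)

theorem exists_dual_elts (hres : Function.Surjective resR) {s : ℕ} (D : Fin s → Der resR)
    (hli : LinearIndependent k D)
    (hvan : ∀ E ∈ Submodule.span k (Set.range D), (∀ m, resR m = 0 → E.1 m = 0) → E = 0) :
    ∃ x : Fin s → R, (∀ j, resR (x j) = 0) ∧
      ∀ i j, (D i).1 (x j) = if i = j then 1 else 0 := by
  classical
  let E : Submodule k (Fin s → k) :=
    { carrier := {v | ∃ m, resR m = 0 ∧ ∀ i, (D i).1 m = v i}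
      add_mem' := by
        rintro v w ⟨m, hm, hv⟩ ⟨m', hm', hw⟩
        refine ⟨m + m', by rw [map_add, hm, hm', add_zero], fun i => ?_⟩
        rw [der_add, hv, hw]
        rfl
      zero_mem' := ⟨0, map_zero _, fun i => der_zero resR (D i)⟩
      smul_mem' := by
        rintro c v ⟨m, hm, hv⟩
        obtain ⟨r, rfl⟩ := hres c
        refine ⟨r * m, by rw [map_mul, hm, mul_zero], fun i => ?_⟩
        rw [der_mul, hm, zero_mul, add_zero, hv]
        rfl }
  have hmemE : ∀ m, resR m = 0 → (fun i => (D i).1 m) ∈ E := fun m hm => ⟨m, hm, fun _ => rfl⟩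
  have htop : E = ⊤ := by
    by_contra hne
    obtain ⟨f, hf0, hfE⟩ := Submodule.exists_le_ker_of_lt_top E (lt_top_iff_ne_top.2 hne)
    let a : Fin s → k := fun i => f (fun j => if i = j then 1 else 0)
    have hfv : ∀ v : Fin s → k, f v = ∑ i, v i * a i := by
      intro v
      rw [LinearMap.pi_apply_eq_sum_univ f v]
      rfl
    have hval : ∀ m, ((∑ i, a i • D i : Der resR) : R → k) m = ∑ i, a i * (D i).1 m := by
      intro m
      simp only [Submodule.coe_sum, Submodule.coe_smul, Finset.sum_apply, Pi.smul_apply,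
        smul_eq_mul]
    have hD0 : (∑ i, a i • D i : Der resR) = 0 := by
      apply hvan _ (Submodule.sum_mem _ fun i _ =>
        Submodule.smul_mem _ _ (Submodule.subset_span ⟨i, rfl⟩))
      intro m hm
      rw [hval]
      have h1 : f (fun i => (D i).1 m) = 0 := LinearMap.mem_ker.1 (hfE (hmemE m hm))
      rw [hfv] at h1
      rw [← h1]
      exact Finset.sum_congr rfl (fun i _ => mul_comm _ _)
    have ha : ∀ i, a i = 0 := (Fintype.linearIndependent_iff.1 hli) a hD0
    apply hf0
    apply LinearMap.ext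
    intro v
    rw [hfv]
    simp [ha]
  have hsingle : ∀ j : Fin s, (fun i => if i = j then (1 : k) else 0) ∈ E := by
    intro j
    rw [htop]
    trivial
  choose x hxm hx using hsingle
  exact ⟨x, hxm, fun i j => hx j i⟩

end DualElts

section LinAlg

theorem exists_basis_submodule {V : Type*} [AddCommGroup V] [Module k V] [Module.Finite k V]
    (K : Submodule k V) :
    ∃ (s : ℕ) (D : Fin s → V), LinearIndependent k D ∧ Submodule.span k (Set.range D) = K := by
  let b := Module.finBasis k K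
  refine ⟨_, fun i => (b i : V), ?_, ?_⟩
  · exact b.linearIndependent.map' K.subtype (Submodule.ker_subtype K)
  · have h1 := b.span_eq
    have h2 := congrArg (Submodule.map K.subtype) h1
    rw [Submodule.map_span, Submodule.map_subtype_top, ← Set.range_comp] at h2
    exact h2

end LinAlg

section Main

variable [IsNoetherianRing Λ] [Module.Finite Λ k]

theorem quot_mk_res (R : CRing Λ k) (I : Ideal R.carrier)
    (hI : I ≤ IsLocalRing.maximalIdeal R.carrier) :
    (quotC R I hI).res.comp (Ideal.Quotient.mkₐ Λ I) = R.res :=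
  Ideal.Quotient.liftₐ_comp _ _ _

theorem exists_descend_quot (R : CRing Λ k) (I : Ideal R.carrier)
    (hI : I ≤ IsLocalRing.maximalIdeal R.carrier) {A : Art Λ k}
    (ψ' : HomSet R.carrier R.res A) (h : ∀ a ∈ I, ψ'.1 a = 0) :
    ∃ ψ : HomSet (quotC R I hI).carrier (quotC R I hI).res A,
      pull (Ideal.Quotient.mkₐ Λ I) (quot_mk_res R I hI) ψ = ψ' := by
  refine ⟨⟨Ideal.Quotient.liftₐ I ψ'.1 h, ?_⟩, ?_⟩
  · apply AlgHom.ext
    intro r
    obtain ⟨s, rfl⟩ := Ideal.Quotient.mk_surjective r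
    exact res_hom ψ' s
  · apply Subtype.ext
    apply AlgHom.ext
    intro s
    rfl

variable {F : Art Λ k ⥤ Type v} [TangentStr F]

/-- Minimalisation of a versal family. -/
theorem exists_miniversal_quot (h0 : H0 F) (h1 : S1 F) (h2 : Heps F)
    (R : CRing Λ k) (ξ : Family R.carrier R.res F) (hv : IsVersal ξ)
    (hK : ∀ E : Der R.res, theta ξ E = 0 → (∀ m, R.res m = 0 → E.1 m = 0) → E = 0) :
    ∃ (R' : CRing Λ k) (q : R.carrier →ₐ[Λ] R'.carrier) (hq : R'.res.comp q = R.res),
      Function.Surjective q ∧ IsMiniversal (ξ.along q hq : Family R'.carrier R'.res F) := by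
  classical
  haveI := der_finite R
  obtain ⟨s, D, hli, hspan⟩ := exists_basis_submodule (LinearMap.ker (theta ξ))
  have hDK : ∀ i, theta ξ (D i) = 0 := fun i => by
    have h3 : D i ∈ Submodule.span k (Set.range D) := Submodule.subset_span ⟨i, rfl⟩
    rw [hspan] at h3
    exact LinearMap.mem_ker.1 h3
  have hspanK : ∀ E : Der R.res, theta ξ E = 0 → ∃ c : Fin s → k, E = ∑ i, c i • D i := by
    intro E hE
    have h3 : E ∈ Submodule.span k (Set.range D) := by
      rw [hspan]; exact LinearMap.mem_ker.2 hE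
    obtain ⟨c, hc⟩ := (Submodule.mem_span_range_iff_exists_fun k).1 h3
    exact ⟨c, hc.symm⟩
  obtain ⟨x, hxm, hxD⟩ := exists_dual_elts R.res R.res_surjective D hli (by
    intro E hE hvan
    apply hK E ?_ hvan
    rw [hspan] at hE
    exact LinearMap.mem_ker.1 hE)
  obtain ⟨I, hIdef⟩ : ∃ I : Ideal R.carrier, I = Ideal.span (Set.range x) := ⟨_, rfl⟩
  have hxI : ∀ j, x j ∈ I := fun j => by rw [hIdef]; exact Ideal.subset_span ⟨j, rfl⟩
  have hI : I ≤ IsLocalRing.maximalIdeal R.carrier := by
    rw [hIdef]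
    apply Ideal.span_le.2
    rintro _ ⟨j, rfl⟩
    exact (CRing.mem_maximalIdeal_iff R _).2 (hxm j)
  have hIker : ∀ {B : Art Λ k} (χ : HomSet R.carrier R.res B), (∀ j, χ.1 (x j) = 0) →
      ∀ a ∈ I, χ.1 a = 0 := by
    intro B χ hχ a ha
    have hle : I ≤ RingHom.ker (χ.1 : R.carrier →+* B) := by
      rw [hIdef]
      apply Ideal.span_le.2
      rintro _ ⟨j, rfl⟩
      exact RingHom.mem_ker.2 (hχ j)
    exact RingHom.mem_ker.1 (hle ha)
  obtain ⟨q, hqdef⟩ : ∃ q : R.carrier →ₐ[Λ] (quotC R I hI).carrier,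
      q = Ideal.Quotient.mkₐ Λ I := ⟨_, rfl⟩
  have hq : (quotC R I hI).res.comp q = R.res := by rw [hqdef]; exact quot_mk_res R I hI
  have hqs : Function.Surjective q := by rw [hqdef]; exact Ideal.Quotient.mk_surjective
  have hqx : ∀ j, q (x j) = 0 := fun j => by
    rw [hqdef]; exact Ideal.Quotient.eq_zero_iff_mem.2 (hxI j)
  have hdescend : ∀ {B : Art Λ k} (χ : HomSet R.carrier R.res B), (∀ j, χ.1 (x j) = 0) →
      ∃ ψ : HomSet (quotC R I hI).carrier (quotC R I hI).res B, pull q hq ψ = χ := by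
    intro B χ hχ
    obtain ⟨ψ, hψ⟩ := exists_descend_quot R I hI χ (hIker χ hχ)
    subst hqdef
    exact ⟨ψ, hψ⟩
  have hgoal : IsMiniversal (ξ.along q hq :
      Family (quotC R I hI).carrier (quotC R I hI).res F) := by
    have hξ' : ∀ (A : Art Λ k) (φ : HomSet (quotC R I hI).carrier (quotC R I hI).res A),
        (ξ.along q hq : Family (quotC R I hI).carrier (quotC R I hI).res F).app A φ =
          ξ.app A (pull q hq φ) := fun A φ => rfl
    -- tangent surjectivity
    have hts : Function.Surjective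
        ((ξ.along q hq : Family (quotC R I hI).carrier (quotC R I hI).res F).app (dual Λ k)) := by
      intro θ
      obtain ⟨φ, hφ⟩ : ∃ φ : HomSet R.carrier R.res (dual Λ k), ξ.app (dual Λ k) φ = θ :=
        ((Groth.Agent.S12728.result h0 h1 h2 R ξ).1 hv).1 θ
      obtain ⟨E₀, hE₀⟩ : ∃ E₀ : Der R.res, E₀ = ofHom R.res φ := ⟨_, rfl⟩
      obtain ⟨E, hE⟩ : ∃ E : Der R.res, E = E₀ - ∑ j, E₀.1 (x j) • D j := ⟨_, rfl⟩
      have hEx : ∀ j, E.1 (x j) = 0 := by
        intro j
        have h3 : E.1 (x j) = E₀.1 (x j) - ∑ i, E₀.1 (x i) * (D i).1 (x j) := by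
          rw [hE]
          simp only [Submodule.coe_sub, Submodule.coe_sum, Submodule.coe_smul, Pi.sub_apply,
            Finset.sum_apply, Pi.smul_apply, smul_eq_mul]
        rw [h3]
        simp only [hxD]
        simp
      obtain ⟨φ', hφ'⟩ := hdescend (toHom R.res E) (by
        intro j
        rw [toHom_apply, hxm j, hEx j]
        rfl)
      refine ⟨φ', ?_⟩
      rw [hξ', hφ']
      have h3 : theta ξ E = theta ξ E₀ := by
        rw [hE]
        simp only [map_sub, map_sum, map_smul, hDK, smul_zero, Finset.sum_const_zero, sub_zero]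
      have h4 : theta ξ E₀ = θ := by
        rw [theta_apply, hE₀, toHom_ofHom]
        exact hφ
      exact h3.trans h4
    -- tangent injectivity
    have hti : Function.Injective
        ((ξ.along q hq : Family (quotC R I hI).carrier (quotC R I hI).res F).app (dual Λ k)) := by
      intro φ₁ φ₂ h12
      rw [hξ', hξ'] at h12
      obtain ⟨E₁, hE₁⟩ : ∃ E₁ : Der R.res, E₁ = ofHom R.res (pull q hq φ₁) := ⟨_, rfl⟩
      obtain ⟨E₂, hE₂⟩ : ∃ E₂ : Der R.res, E₂ = ofHom R.res (pull q hq φ₂) := ⟨_, rfl⟩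
      have hEx : ∀ (φ : HomSet (quotC R I hI).carrier (quotC R I hI).res (dual Λ k)) j,
          (ofHom R.res (pull q hq φ)).1 (x j) = 0 := by
        intro φ j
        show dsnd ((pull q hq φ).1 (x j)) = 0
        rw [pull_apply, hqx j, map_zero]
        rfl
      have hθ : theta ξ (E₁ - E₂) = 0 := by
        rw [map_sub, sub_eq_zero, theta_apply, theta_apply, hE₁, hE₂, toHom_ofHom, toHom_ofHom]
        exact h12
      obtain ⟨c, hc⟩ := hspanK (E₁ - E₂) hθ
      have hc0 : ∀ j, c j = 0 := by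
        intro j
        have h5 : (E₁ - E₂).1 (x j) = ∑ i, c i * (D i).1 (x j) := by
          rw [hc]
          simp only [Submodule.coe_sum, Submodule.coe_smul, Finset.sum_apply, Pi.smul_apply,
            smul_eq_mul]
        have h6 : (E₁ - E₂).1 (x j) = 0 := by
          show E₁.1 (x j) - E₂.1 (x j) = 0
          rw [hE₁, hE₂, hEx, hEx, sub_zero]
        rw [h6] at h5
        simp only [hxD] at h5
        simpa using h5.symm
      have hEE : E₁ = E₂ := by
        have h7 : E₁ - E₂ = 0 := by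
          rw [hc]
          simp [hc0]
        exact sub_eq_zero.1 h7
      apply pull_injective q hq hqs
      rw [← toHom_ofHom R.res (pull q hq φ₁), ← toHom_ofHom R.res (pull q hq φ₂), ← hE₁, ← hE₂,
        hEE]
    -- lifting
    have hlift : ∀ ⦃B A : Art Λ k⦄ (μ : B ⟶ A), IsSmallExt μ →
        ∀ (φ : HomSet (quotC R I hI).carrier (quotC R I hI).res A) (y : F.obj B),
          F.map μ y = (ξ.along q hq :
            Family (quotC R I hI).carrier (quotC R I hI).res F).app A φ →
          ∃ ψ : HomSet (quotC R I hI).carrier (quotC R I hI).res B, HomSet.map μ ψ = φ := by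
      intro B A μ hμ φ y hy
      obtain ⟨hsurj, hne, ⟨t, ht⟩, hm⟩ := hμ
      have hker : RingHom.ker μ.toAlgHom = Ideal.span {t} := ht
      have htk : t ∈ RingHom.ker μ.toAlgHom := by
        rw [hker]; exact Ideal.subset_span rfl
      have htm : t ∈ IsLocalRing.maximalIdeal B := Groth.Agent.S12707.ker_le_maximalIdeal μ htk
      have htx : ∀ z ∈ IsLocalRing.maximalIdeal B, z * t = 0 := by
        intro z hz
        have h3 := Ideal.mul_mem_mul hz htk
        rw [hm] at h3
        exact h3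
      obtain ⟨ψ, hψ1, _⟩ := hv μ hsurj (pull q hq φ) y (by rw [hy, hξ'])
      have hψx : ∀ j, ∃ c : k, ψ.1 (x j) = psi t c := by
        intro j
        have h3 : ψ.1 (x j) ∈ RingHom.ker μ.toAlgHom := by
          rw [RingHom.mem_ker]
          have h4 := congrArg (fun χ : HomSet R.carrier R.res A => χ.1 (x j)) hψ1
          refine h4.trans ?_
          show φ.1 (q (x j)) = 0
          rw [hqx j, map_zero]
        rw [hker, Ideal.mem_span_singleton'] at h3
        obtain ⟨w, hw⟩ := h3
        exact ⟨B.res w, by rw [← hw]; exact mul_eq_psi t htx w⟩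
      choose c hc using hψx
      obtain ⟨E, hE⟩ : ∃ E : Der R.res, E = -(∑ j, c j • D j) := ⟨_, rfl⟩
      obtain ⟨ζ, hζ1, hζ2⟩ := HomSet.exists_lift_fibreProd (isFibreProd_act B) ψ
        (toHom R.res E) (homSet_base_eq _ _)
      obtain ⟨ψ₂, hψ₂def⟩ : ∃ ψ₂ : HomSet R.carrier R.res B,
          ψ₂ = HomSet.map (actMap t htx htm) ζ := ⟨_, rfl⟩
      have hψ₂ : ∀ r, ψ₂.1 r = ψ.1 r + psi t (E.1 r) := by
        intro r
        rw [hψ₂def]
        show actMap t htx htm (ζ.1 r) = _
        rw [actMap_apply]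
        have e1 : actFst B (ζ.1 r) = ψ.1 r :=
          congrArg (fun χ : HomSet R.carrier R.res B => χ.1 r) hζ1
        have e2 : actSnd B (ζ.1 r) = (toHom R.res E).1 r :=
          congrArg (fun χ : HomSet R.carrier R.res (dual Λ k) => χ.1 r) hζ2
        rw [e1, e2, toHom_apply, dsnd_dmk]
      have hψ₂x : ∀ j, ψ₂.1 (x j) = 0 := by
        intro j
        have hEx : E.1 (x j) = -c j := by
          rw [hE]
          simp only [Submodule.coe_neg, Submodule.coe_sum, Submodule.coe_smul, Pi.neg_apply,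
            Finset.sum_apply, Pi.smul_apply, smul_eq_mul, hxD]
          simp
        rw [hψ₂, hc j, hEx, ← psi_add t htx, add_neg_cancel, psi_zero t htx]
      have hμψ₂ : HomSet.map μ ψ₂ = pull q hq φ := by
        rw [← hψ1]
        apply Subtype.ext
        apply AlgHom.ext
        intro r
        show μ (ψ₂.1 r) = μ (ψ.1 r)
        rw [hψ₂, map_add]
        have h3 : μ (psi t (E.1 r)) = 0 := by
          unfold psi
          rw [map_mul, (RingHom.mem_ker).1 htk, mul_zero]
        rw [h3, add_zero]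
      obtain ⟨ψ', hψ'⟩ := hdescend ψ₂ hψ₂x
      refine ⟨ψ', ?_⟩
      apply pull_injective q hq hqs
      rw [pull_map, hψ', hμψ₂]
    exact ⟨(Groth.Agent.S12728.result h0 h1 h2 (quotC R I hI) (ξ.along q hq)).2 ⟨hts, hlift⟩,
      hti, hts⟩
  exact ⟨quotC R I hI, q, hq, hqs, hgoal⟩

end Main

section Apps

variable [IsNoetherianRing Λ] [Module.Finite Λ k] {F : Art Λ k ⥤ Type v}

/-- existence of a hull when `k` has no `Λ`-derivations -/
theorem hasHull_of_sep [TangentStr F] (hk : Subsingleton (Derivation Λ k k)) (h0 : H0 F)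
    (h1 : S1 F) (h2 : Heps F) (h3 : Hfin F) : HasHull F := by
  obtain ⟨⟨R, ξ, hv⟩⟩ := Groth.Agent.S12730.result F h0 h1 h2 h3
  obtain ⟨R', q, hq, _, hmini⟩ := exists_miniversal_quot h0 h1 h2 R ξ hv
    (fun E _ hvan => der_eq_zero_of_vanish R.res hk R.res_surjective E hvan)
  exact ⟨⟨R', ξ.along q hq, hmini⟩⟩

/-- a minimal versal family is miniversal when `k` has no `Λ`-derivations -/
theorem isMiniversal_of_isMinimalVersal (hk : Subsingleton (Derivation Λ k k)) (h0 : H0 F)
    (h2 : Heps F) {R : CRing Λ k} (ξ : Family R.carrier R.res F) (hξ : ξ.IsMinimalVersal) :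
    IsMiniversal ξ := by
  obtain ⟨inst⟩ := Groth.Agent.S12726.result F h0 h2
  letI : TangentStr F := inst
  have h1 : S1 F := Groth.Agent.S12727.result F h0 ⟨⟨R, ξ, hξ.1⟩⟩
  obtain ⟨R', q, hq, hqs, hmini⟩ := exists_miniversal_quot h0 h1 h2 R ξ hξ.1
    (fun E _ hvan => der_eq_zero_of_vanish R.res hk R.res_surjective E hvan)
  obtain ⟨g, hg, hgE⟩ := Groth.Agent.S12720.result h0 R' (ξ.along q hq) hmini.1 R ξ.toFormalElt
  have hgs : Function.Surjective g :=
    hξ.2 R' (ξ.along q hq).toFormalElt g hg (by rw [Groth.Agent.S12758.push_toFormalElt, hgE])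
  refine ⟨hξ.1, ?_, ?_⟩
  · intro φ₁ φ₂ h12
    have e : ∀ φ : HomSet R.carrier R.res (dual Λ k),
        ξ.app (dual Λ k) φ = ((ξ.along q hq).along g hg).app (dual Λ k) φ :=
      fun φ => (family_app_eq_of_toFormalElt_eq R _ _ hgE (dual Λ k) φ).symm
    rw [e, e] at h12
    have h3 : (⟨φ₁.1.comp g, by rw [← AlgHom.comp_assoc, φ₁.2, hg]⟩ :
        HomSet R'.carrier R'.res (dual Λ k)) =
        ⟨φ₂.1.comp g, by rw [← AlgHom.comp_assoc, φ₂.2, hg]⟩ := hmini.2.1 h12
    apply Subtype.ext
    apply AlgHom.ext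
    intro r
    obtain ⟨r', rfl⟩ := hgs r
    exact congrArg (fun χ : HomSet R'.carrier R'.res (dual Λ k) => χ.1 r') h3
  · exact ((Groth.Agent.S12728.result h0 h1 h2 R ξ).1 hξ.1).1

/-- `H0` from a hull -/
theorem h0_of_hull (P : Hull F) : H0 F := by
  obtain ⟨R, ξ, hmini⟩ := P
  apply h0_of_surjective ξ
  intro y
  obtain ⟨φ, hφ⟩ := hmini.2.2 (F.map baseToDual y)
  refine ⟨HomSet.map (toBase (dual Λ k)) φ, ?_⟩
  rw [ξ.natural, hφ, ← Groth.Agent.Lib.ArtFunH1.map_comp_apply]
  have h1 : (baseToDual : base Λ k ⟶ dual Λ k) ≫ toBase (dual Λ k) = 𝟙 (base Λ k) := by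
    rw [eq_toBase (baseToDual ≫ toBase (dual Λ k)), eq_toBase (𝟙 (base Λ k))]
  rw [h1, Groth.Agent.Lib.ArtFunH1.map_id_apply]

/-- a family over a power series ring over `Λ` which is bijective on tangent spaces is miniversal
as soon as a hull exists -/
theorem isMiniversal_of_ps [IsLocalRing Λ] [IsAdicComplete (IsLocalRing.maximalIdeal Λ) Λ]
    (hk : Function.Surjective (algebraMap Λ k)) (hF : HasHull F) (R : CRing Λ k) (n : ℕ)
    (e : R.carrier ≃ₐ[Λ] MvPowerSeries (Fin n) Λ) (ξ : Family R.carrier R.res F)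
    (hξ : Function.Bijective (TangentSpace.ofFamily ξ)) : IsMiniversal ξ := by
  obtain ⟨P⟩ := hF
  have h0 : H0 F := h0_of_hull P
  obtain ⟨Rh, ξh, hmini⟩ := P
  have hsurj : ∀ A : Art Λ k, Function.Surjective (ξh.app A) :=
    fun A => family_surjective ξh hmini.1 h0 ⟨⟨Rh.res, AlgHom.id_comp _⟩⟩ A
  have h1 : S1 F := s1_of_isVersal_of_surjective ξh hmini.1 hsurj
  have h2 : Heps F := heps_of_isMiniversal_of_surjective ξh hmini hsurj
  have hs : IsSmoothFunctor (hR R.carrier R.res) :=
    (Groth.Agent.Lib.ArtFunKT.smooth_iff_ps hk R).2 ⟨n, ⟨e⟩⟩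
  refine ⟨(Groth.Agent.S12728.result h0 h1 h2 R ξ).2 ⟨hξ.2, ?_⟩, hξ⟩
  intro B A μ hμ φ y _
  obtain ⟨ψ, hψ⟩ := hs μ hμ.1 φ
  exact ⟨ψ, hψ⟩

/-- Schlessinger's pro-representability criterion -/
theorem prorep_iff [TangentStr F] :
    IsProrepresentable F ↔
      ((H0 F ∧ (∀ ⦃B A A' A'' : Art Λ k⦄ (p' : B ⟶ A') (p'' : B ⟶ A'') (f' : A' ⟶ A)
        (f'' : A'' ⟶ A) (h : IsFibreProd p' p'' f' f''), Function.Surjective f'' →
          Function.Bijective (cmp F h))) ∧
        Hfin F ∧
        ∀ x₀ : F.obj (base Λ k),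
          Function.Injective (fun σ : base Λ k ⟶ dual Λ k => F.map σ x₀)) := by
  constructor
  · rintro ⟨⟨R, ξ, hu⟩⟩
    have h0 : H0 F := h0_of_surjective ξ (hu (base Λ k)).2
    refine ⟨⟨h0, fun B A A' A'' p' p'' f' f'' h _ => isLeftExact_of_isUniversal ξ hu p' p'' f' f'' h⟩,
      (Groth.Agent.S12731.result F h0
        ⟨⟨R, ξ, isVersal_of_isUniversal ξ hu, hu (dual Λ k)⟩⟩).2.2, ?_⟩
    intro x₀ σ σ' hσ
    have hσ' : F.map σ x₀ = F.map σ' x₀ := hσ
    obtain ⟨ρ₀, rfl⟩ := (hu (base Λ k)).2 x₀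
    rw [← ξ.natural, ← ξ.natural] at hσ'
    have h3 : HomSet.map σ ρ₀ = HomSet.map σ' ρ₀ := (hu (dual Λ k)).1 hσ'
    apply Art.hom_ext
    apply AlgHom.ext
    intro c
    obtain ⟨r, hr⟩ := R.res_surjective c
    have h4 : ρ₀.1 r = c := (res_hom ρ₀ r).trans hr
    rw [← h4]
    exact congrArg (fun χ : HomSet R.carrier R.res (dual Λ k) => χ.1 r) h3
  · rintro ⟨⟨h0, hRS⟩, h3, hc⟩
    have h1 : S1 F := fun B A A' A'' p' p'' f' f'' h hf => (hRS p' p'' f' f'' h hf).2
    have h2 : Heps F := fun B A' p' p'' h =>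
      hRS p' p'' (toBase A') (toBase (dual Λ k)) h (dual Λ k).res_surjective
    obtain ⟨⟨R, ξ, hv⟩⟩ := Groth.Agent.S12730.result F h0 h1 h2 h3
    obtain ⟨ρ₀, hρ₀⟩ : ∃ ρ₀ : HomSet R.carrier R.res (base Λ k), ρ₀.1 = R.res :=
      ⟨⟨R.res, AlgHom.id_comp _⟩, rfl⟩
    have hρ₀s : Function.Surjective ρ₀.1 := by rw [hρ₀]; exact R.res_surjective
    have hK : ∀ E : Der R.res, theta ξ E = 0 → (∀ m, R.res m = 0 → E.1 m = 0) → E = 0 := by
      intro E hE hvan
      have hker : ∀ E' : Der R.res, (∀ m, R.res m = 0 → E'.1 m = 0) →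
          RingHom.ker ρ₀.1 ≤ RingHom.ker (toHom R.res E').1 := by
        intro E' hvan' m hm
        rw [RingHom.mem_ker] at hm ⊢
        have hm' : R.res m = 0 := by rw [← hρ₀]; exact hm
        rw [toHom_apply, hm', hvan' m hm']
        rfl
      obtain ⟨σ, hσ⟩ := exists_factor ρ₀ hρ₀s (toHom R.res E) (hker E hvan)
      obtain ⟨σ₀, hσ₀⟩ := exists_factor ρ₀ hρ₀s (toHom R.res (0 : Der R.res))
        (hker 0 (fun _ _ => rfl))
      have e1 : F.map σ (ξ.app _ ρ₀) = F.map σ₀ (ξ.app _ ρ₀) := by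
        rw [← ξ.natural, ← ξ.natural, hσ, hσ₀]
        have e2 : theta ξ E = theta ξ 0 := by rw [hE, map_zero]
        exact e2
      have e3 : σ = σ₀ := hc (ξ.app _ ρ₀) e1
      have e4 : toHom R.res E = toHom R.res 0 := by rw [← hσ, ← hσ₀, e3]
      rw [← ofHom_toHom R.res E, e4, ofHom_toHom]
    obtain ⟨R', q, hq, hqs, hmini⟩ := exists_miniversal_quot h0 h1 h2 R ξ hv hK
    refine ⟨⟨R', ξ.along q hq, fun A => ⟨?_, ?_⟩⟩⟩
    · exact family_injective (ξ.along q hq) hmini.2.1
        (fun B A A' p₁ p₂ f h hf => (hRS p₁ p₂ f f h hf.1).1) A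
    · exact family_surjective (ξ.along q hq) hmini.1 h0 ⟨⟨R'.res, AlgHom.id_comp _⟩⟩ A

end Apps

end Groth.Agent.Lib.MinH1
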