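import Mathlib
import Groth.Prelude.Def_ArtFun4
import Groth.Agent.Lib.AffDef10_helper3
import Groth.Agent.Lib.ArtFunMin_helper1

/-!
# Existence of a hull for affine schemes with isolated singularities (helper3)

* `hasHull_of_equiv` : `HasHull` transports along objectwise natural bijections;
* `transportEquiv` : `Def_X ≃ Def_{X'}` for `X ≅ X'` over `k`;
* `main12308` : `Def_X` has a hull for `X` affine of finite type over `k`, smooth outside finitely many points.
-/

set_option autoImplicit false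
set_option linter.unusedSectionVars false

universe u v

open CategoryTheory CategoryTheory.Limits AlgebraicGeometry

namespace Groth.Agent.Lib.AffDefH3

open ArtFun ArtFun.Art

variable {Λ : Type u} {k : Type u} [CommRing Λ] [Field k] [Algebra Λ k]

section Gen

theorem hasHull_of_equiv {F G : Art Λ k ⥤ Type v} (e : ∀ A, F.obj A ≃ G.obj A)
    (hnat : ∀ {A B : Art Λ k} (f : A ⟶ B) (a : F.obj A), e B (F.map f a) = G.map f (e A a))
    (h : HasHull F) : HasHull G := by
  obtain ⟨⟨R, ξ, hv, hb⟩⟩ := h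
  let ξ' : Family R.carrier R.res G :=
    { app := fun A φ => e A (ξ.app A φ)
      natural := fun f φ => by rw [ξ.natural, hnat] }
  refine ⟨⟨R, ξ', ?_, ?_⟩⟩
  · intro B A μ hμ φ y hy
    have h1 : F.map μ ((e B).symm y) = ξ.app A φ := by
      apply (e A).injective
      rw [hnat, Equiv.apply_symm_apply]
      exact hy
    obtain ⟨ψ, hψ1, hψ2⟩ := hv μ hμ φ ((e B).symm y) h1
    refine ⟨ψ, hψ1, ?_⟩
    show e B (ξ.app B ψ) = y
    rw [hψ2, Equiv.apply_symm_apply]
  · exact (e _).bijective.comp hb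

theorem subsingleton_derivation (hk : Function.Surjective (algebraMap Λ k)) :
    Subsingleton (Derivation Λ k k) :=
  ⟨fun D D' => by
    ext a
    obtain ⟨l, rfl⟩ := hk a
    rw [D.map_algebraMap, D'.map_algebraMap]⟩

end Gen

section Transport

variable {X X' : Scheme.{u}} {x : X ⟶ specPt k} {x' : X' ⟶ specPt k} (θ : X ≅ X')
  (hθ : θ.hom ≫ x' = x)

/-- transport of a deformation along an isomorphism of the closed fibre -/
@[reducible] noncomputable def transport {A : Art Λ k} (ξ : DefSch X x A) : DefSch X' x' A where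
  total := ξ.total
  f := ξ.f
  flat := ξ.flat
  i := θ.inv ≫ ξ.i
  isPullback := by
    refine ξ.isPullback.of_iso θ (Iso.refl _) (Iso.refl _) (Iso.refl _) ?_ ?_ ?_ ?_
    · rw [Iso.refl_hom, Category.comp_id, Iso.hom_inv_id_assoc]
    · rw [Iso.refl_hom, Category.comp_id, hθ]
    · rw [Iso.refl_hom, Iso.refl_hom, Category.comp_id, Category.id_comp]
    · rw [Iso.refl_hom, Iso.refl_hom, Category.comp_id, Category.id_comp]

/-- transport on isomorphism classes -/
noncomputable def transportCl (A : Art Λ k) :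
    (defFunctor (Λ := Λ) X x).obj A → (defFunctor (Λ := Λ) X' x').obj A :=
  Quotient.map' (fun ξ => transport θ hθ ξ) (fun ξ ξ' ⟨e⟩ => ⟨⟨e.iso, e.hom_f, by
    show (θ.inv ≫ ξ.i) ≫ e.iso.hom = θ.inv ≫ ξ'.i
    rw [Category.assoc, e.i_hom]⟩⟩)

theorem transportCl_cl {A : Art Λ k} (ξ : DefSch X x A) :
    transportCl θ hθ A ξ.cl = (transport θ hθ ξ).cl := rfl

theorem transportCl_transportCl (η : X' ≅ X) (hη : η.hom ≫ x = x') (h : η.inv ≫ θ.inv = 𝟙 _)
    {A : Art Λ k} (c : (defFunctor (Λ := Λ) X x).obj A) :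
    transportCl η hη A (transportCl θ hθ A c) = c := by
  induction c using Quotient.inductionOn with
  | h ξ =>
    refine Quotient.sound ⟨⟨Iso.refl _, Category.id_comp _, ?_⟩⟩
    show (η.inv ≫ θ.inv ≫ ξ.i) ≫ 𝟙 _ = ξ.i
    rw [Category.comp_id, ← Category.assoc, h, Category.id_comp]

theorem transportCl_map {A B : Art Λ k} (g : A ⟶ B) (c : (defFunctor (Λ := Λ) X x).obj A) :
    transportCl θ hθ B ((defFunctor X x).map g c) =
      (defFunctor X' x').map g (transportCl θ hθ A c) := by
  induction c using Quotient.inductionOn with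
  | h ξ =>
    show transportCl θ hθ B ((defFunctor X x).map g ξ.cl) =
      (defFunctor X' x').map g (transport θ hθ ξ).cl
    rw [defFunctor_map_cl, defFunctor_map_cl, transportCl_cl]
    refine Quotient.sound ⟨⟨Iso.refl _, Category.id_comp _, ?_⟩⟩
    rw [Iso.refl_hom, Category.comp_id]
    apply pullback.hom_ext
    · show (θ.inv ≫ (ξ.baseChange g).i) ≫ pullback.fst ξ.f (specMap g) = _
      rw [Category.assoc, DefSch.baseChange_i_fst]
      exact (DefSch.baseChange_i_fst (transport θ hθ ξ) g).symm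
    · show (θ.inv ≫ (ξ.baseChange g).i) ≫ (ξ.baseChange g).f = _
      rw [Category.assoc, DefSch.baseChange_i_f]
      refine Eq.trans ?_ (DefSch.baseChange_i_f (transport θ hθ ξ) g).symm
      rw [← Category.assoc]
      congr 1
      rw [← hθ, Iso.inv_hom_id_assoc]

/-- the bijection on classes -/
noncomputable def transportEquiv (A : Art Λ k) :
    (defFunctor (Λ := Λ) X x).obj A ≃ (defFunctor (Λ := Λ) X' x').obj A where
  toFun := transportCl θ hθ A
  invFun := transportCl θ.symm (by rw [Iso.symm_hom, ← hθ, Iso.inv_hom_id_assoc]) A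
  left_inv := fun c => transportCl_transportCl θ hθ θ.symm _ (by
    rw [Iso.symm_inv, Iso.hom_inv_id]) c
  right_inv := fun c => transportCl_transportCl θ.symm _ θ hθ (by
    rw [Iso.symm_inv, Iso.inv_hom_id]) c

theorem transportEquiv_apply (A : Art Λ k) (c : (defFunctor (Λ := Λ) X x).obj A) :
    transportEquiv θ hθ A c = transportCl θ hθ A c := rfl

end Transport

section Affine

variable (X : Scheme.{u}) [IsAffine X] (x : X ⟶ Spec (CommRingCat.of k))

/-- the `k`-algebra structure on the global sections of a `k`-scheme -/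
@[reducible] noncomputable def algΓ : Algebra k Γ(X, ⊤) :=
  ((Scheme.ΓSpecIso (CommRingCat.of k)).inv ≫ x.appTop).hom.toAlgebra

theorem isoSpec_hom_comp :
    X.isoSpec.hom ≫ Spec.map ((Scheme.ΓSpecIso (CommRingCat.of k)).inv ≫ x.appTop) = x := by
  rw [Spec.map_comp, ← Category.assoc, Scheme.isoSpec_hom_naturality, Category.assoc,
    Scheme.isoSpec_Spec_hom, ← Spec.map_comp, Iso.inv_hom_id, Spec.map_id, Category.comp_id]

theorem finiteType_Γ [LocallyOfFiniteType x] :
    @Algebra.FiniteType k Γ(X, ⊤) _ _ (algΓ X x) := by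
  have h1 : RingHom.FiniteType x.appTop.hom :=
    (HasRingHomProperty.iff_of_isAffine (P := @LocallyOfFiniteType)).1 inferInstance
  have h2 : RingHom.FiniteType (Scheme.ΓSpecIso (CommRingCat.of k)).inv.hom :=
    RingHom.FiniteType.of_surjective _
      (ConcreteCategory.bijective_of_isIso (Scheme.ΓSpecIso (CommRingCat.of k)).inv).2
  exact h1.comp h2

end Affine

section Smooth

theorem formallySmooth_away_of_le {B₀ : Type u} [CommRing B₀] [Algebra k B₀]
    {X : Scheme.{u}} (x : X ⟶ Spec (CommRingCat.of k)) (θ : X ≅ Spec (CommRingCat.of B₀))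
    (hθ : θ.hom ≫ Spec.map (CommRingCat.ofHom (algebraMap k B₀)) = x)
    (U : X.Opens) (hU : Smooth (U.ι ≫ x)) (t : B₀)
    (ht : ∀ 𝔭 : PrimeSpectrum B₀, t ∉ 𝔭.asIdeal → θ.inv.base 𝔭 ∈ U) :
    Algebra.FormallySmooth k (Localization.Away t) := by
  let loc : Spec (CommRingCat.of (Localization.Away t)) ⟶ Spec (CommRingCat.of B₀) :=
    Spec.map (CommRingCat.ofHom (algebraMap B₀ (Localization.Away t)))
  let j : Spec (CommRingCat.of (Localization.Away t)) ⟶ X := loc ≫ θ.inv
  have hrange : Set.range j.base ⊆ Set.range U.ι.base := by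
    rintro _ ⟨y, rfl⟩
    rw [Scheme.Opens.range_ι]
    have h3 : Set.range loc.base = (PrimeSpectrum.basicOpen t : Set (PrimeSpectrum B₀)) :=
      PrimeSpectrum.localization_away_comap_range (Localization.Away t) t
    have h4 : loc.base y ∈ (PrimeSpectrum.basicOpen t : Set (PrimeSpectrum B₀)) := by
      rw [← h3]
      exact ⟨y, rfl⟩
    exact ht _ h4
  let L := IsOpenImmersion.lift U.ι j hrange
  have hL : L ≫ U.ι = j := IsOpenImmersion.lift_fac _ _ _
  haveI : IsOpenImmersion L := by
    haveI : IsOpenImmersion (L ≫ U.ι) := by rw [hL]; infer_instance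
    exact IsOpenImmersion.of_comp L U.ι
  have hsm : Smooth (Spec.map (CommRingCat.ofHom (algebraMap k (Localization.Away t)))) := by
    have : Spec.map (CommRingCat.ofHom (algebraMap k (Localization.Away t))) = L ≫ (U.ι ≫ x) := by
      rw [← Category.assoc, hL, ← hθ]
      show _ = (loc ≫ θ.inv) ≫ θ.hom ≫ _
      rw [Category.assoc, Iso.inv_hom_id_assoc, ← Spec.map_comp, ← CommRingCat.ofHom_comp]
    rw [this]
    infer_instance
  have h1 := (HasRingHomProperty.Spec_iff (P := @Smooth)).1 hsm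
  rw [CommRingCat.hom_ofHom, RingHom.smooth_algebraMap] at h1
  exact h1.formallySmooth

end Smooth

section Main

theorem main12308 (Λ k : Type u) [CommRing Λ] [IsNoetherianRing Λ] [Field k] [Algebra Λ k]
    (hk : Function.Surjective (algebraMap Λ k))
    (X : Scheme.{u}) [IsAffine X] (x : X ⟶ Spec (CommRingCat.of k)) [LocallyOfFiniteType x]
    (U : X.Opens) (hU : Smooth (U.ι ≫ x)) (hfinU : ((U : Set X)ᶜ).Finite) :
    ArtFun.HasHull (ArtFun.defFunctor (Λ := Λ) X x) := by
  letI : Algebra k Γ(X, ⊤) := algΓ X x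
  have hθ : X.isoSpec.hom ≫ Spec.map (CommRingCat.ofHom (algebraMap k Γ(X, ⊤))) = x :=
    isoSpec_hom_comp X x
  haveI : Algebra.FiniteType k Γ(X, ⊤) := finiteType_Γ X x
  haveI : Algebra.FinitePresentation k Γ(X, ⊤) :=
    Algebra.FinitePresentation.of_finiteType.1 inferInstance
  let P := Algebra.Presentation.ofFinitePresentation k Γ(X, ⊤)
  have hl : HasLifts P.toExtension := hasLifts_presentation P
  let Z : Set (PrimeSpectrum Γ(X, ⊤)) := X.isoSpec.inv.base ⁻¹' ((U : Set X)ᶜ)
  have hZ : Z.Finite :=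
    hfinU.preimage (X.isoSpec.inv.isOpenEmbedding.injective.injOn)
  have hsm : ∀ 𝔭 : PrimeSpectrum Γ(X, ⊤), 𝔭 ∉ Z →
      ∃ t ∉ 𝔭.asIdeal, Algebra.FormallySmooth k (Localization.Away t) := by
    intro 𝔭 h𝔭
    have hmem : X.isoSpec.inv.base 𝔭 ∈ U := by
      by_contra hn
      exact h𝔭 hn
    let U' : (Spec Γ(X, ⊤)).Opens := X.isoSpec.inv ⁻¹ᵁ U
    have h𝔭U' : 𝔭 ∈ U' := hmem
    obtain ⟨V, ⟨t, rfl⟩, h𝔭t, htU⟩ :=
      TopologicalSpace.Opens.isBasis_iff_nbhd.1 (PrimeSpectrum.isBasis_basic_opens) h𝔭U'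
    refine ⟨t, h𝔭t, formallySmooth_away_of_le x X.isoSpec hθ U hU t fun 𝔮 h𝔮 => ?_⟩
    exact htU h𝔮
  haveI : Module.Finite k (QT P.toExtension) := finite_QT P Z hZ hsm
  haveI : Module.Finite Λ k := Module.Finite.of_surjective (Algebra.linearMap Λ k) hk
  letI := tangentStr (Λ := Λ) hl
  have hull : HasHull (FF Λ k Γ(X, ⊤)) :=
    Groth.Agent.Lib.MinH1.hasHull_of_sep (subsingleton_derivation hk) h0 s1 heps (hfin hl)
  have hθ' : X.isoSpec.symm.hom ≫ x =
      Spec.map (CommRingCat.ofHom (algebraMap k Γ(X, ⊤))) := by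
    rw [Iso.symm_hom, ← hθ, Iso.inv_hom_id_assoc]
  exact hasHull_of_equiv (fun A => transportEquiv X.isoSpec.symm hθ' A)
    (fun f a => transportCl_map X.isoSpec.symm hθ' f a) hull

end Main

end Groth.Agent.Lib.AffDefH3
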