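import Groth.Agent.Lib.AlgSpLocP3_helper7
set_option autoImplicit false
universe u
open CategoryTheory CategoryTheory.Limits AlgebraicGeometry Opposite MorphismProperty
open AlgSp Groth.Agent.Lib.AlgSpQC2_helper7 Groth.Agent.Lib.AlgSpPoints_helper7
  Groth.Agent.Lib.AlgSpQC_helper7 Groth.Agent.Lib.AlgSpDiag_helper7 Groth.Agent.Lib.AlgSpTop_helper7
  Groth.Agent.Lib.AlgSpPullback_helper7 Groth.Agent.Lib.AlgSpSep_helper7
  Groth.Agent.Lib.AlgSpLocP_helper7 Groth.Agent.Lib.AlgSpUniv_helper7
  Groth.Agent.Lib.AlgSpFpqc_helper7 Groth.Agent.Lib.AlgSpFpqc2_helper7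
  Groth.Agent.Lib.AlgSpDescent_helper7 Groth.Agent.Lib.AlgSpEtale_helper7
  Groth.Agent.Lib.AlgSpLocP2_helper7 Groth.Agent.Lib.AlgSpEpi_helper7

namespace Groth.Agent.Lib.AlgSpIso_helper7

variable {S : Scheme.{u}}

/-- A representable fppf covering by a scheme is an epimorphism of sheaves. -/
theorem epi_of_repWith_fppf {F : Sp S} {U : Over S} (p : (yon S).obj U ⟶ F)
    (h1 : RepWith @Surjective p) (h2 : RepWith @Flat p)
    (h3 : RepWith @LocallyOfFinitePresentation p) : Epi p := by
  refine ⟨fun {Z} a b hab => ?_⟩
  refine GrothendieckTopology.hom_ext_uliftYoneda.{u+1} _ (fun T s => ?_)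
  have sq := h1.rep.isPullback s
  have : Epi ((yon S).map (h1.rep.snd s)) :=
    epi_yon_map _ (h1.property_snd s) (h2.property _ _ _ sq) (h3.property _ _ _ sq)
  rw [← cancel_epi ((yon S).map (h1.rep.snd s)), ← Category.assoc, ← Category.assoc, ← sq.w,
    Category.assoc, Category.assoc, hab]

/-- A representable étale surjective chart is an epimorphism. -/
theorem epi_of_atlas {F : Sp S} {U : Over S} (p : (yon S).obj U ⟶ F)
    (h1 : RepWith @Etale p) (h2 : RepWith @Surjective p) : Epi p :=
  epi_of_repWith_fppf p h2 (repWith_mono (fun _ _ g (hg : Etale g) => (inferInstance : Flat g)) h1)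
    (repWith_mono (fun _ _ g (hg : Etale g) => (inferInstance : LocallyOfFinitePresentation g)) h1)

/-- Key step: the base change of an atlas of `X ×_Y h_T` to a scheme `W` over `T` over which the
base change of `f` becomes an isomorphism is étale and surjective over `W`. -/
theorem etale_surjective_of_isIso_baseChange {X Y : Sp S} (f : X ⟶ Y) {T U : Over S}
    (y : (yon S).obj T ⟶ Y) (a : (yon S).obj U ⟶ pullback f y) (hae : RepWith @Etale a)
    (has : RepWith @Surjective a) (k : U ⟶ T) (hk : (yon S).map k = a ≫ pullback.snd f y)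
    {W : Over S} (w : W ⟶ T) {R : Sp S} (r1 : R ⟶ X) (r2 : R ⟶ (yon S).obj W)
    (sqR : IsPullback r1 r2 f ((yon S).map w ≫ y)) [IsIso r2]
    {A : Scheme.{u}} {fst' : A ⟶ U.left} {snd' : A ⟶ W.left}
    (sq' : IsPullback fst' snd' k.left w.left) : Etale snd' ∧ Surjective snd' := by
  -- the base change of `f_T` along `w`
  have sqP := IsPullback.of_hasPullback (pullback.snd f y) ((yon S).map w)
  have sqPW : IsPullback (pullback.fst (pullback.snd f y) ((yon S).map w) ≫ pullback.fst f y)
      (pullback.snd (pullback.snd f y) ((yon S).map w)) f ((yon S).map w ≫ y) :=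
    sqP.paste_horiz (IsPullback.of_hasPullback f y)
  have hπ2 : IsIso (pullback.snd (pullback.snd f y) ((yon S).map w)) := by
    rw [← IsPullback.isoIsPullback_hom_snd _ _ sqPW sqR]
    infer_instance
  -- the Over-level fibre product
  have sqU := IsPullback.of_hasPullback k w
  have sqU' : IsPullback (pullback.fst k w).left (pullback.snd k w).left k.left w.left :=
    sqU.map (Over.forget S)
  have sqUy : IsPullback ((yon S).map (pullback.fst k w)) ((yon S).map (pullback.snd k w))
      ((yon S).map k) ((yon S).map w) := sqU.map (yon S)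
  let b : (yon S).obj (pullback k w) ⟶ pullback (pullback.snd f y) ((yon S).map w) :=
    pullback.lift ((yon S).map (pullback.fst k w) ≫ a) ((yon S).map (pullback.snd k w))
      (by rw [Category.assoc, ← hk, sqUy.w])
  have hb1 : b ≫ pullback.fst (pullback.snd f y) ((yon S).map w) =
      (yon S).map (pullback.fst k w) ≫ a := pullback.lift_fst _ _ _
  have hb2 : b ≫ pullback.snd (pullback.snd f y) ((yon S).map w) =
      (yon S).map (pullback.snd k w) := pullback.lift_snd _ _ _
  have sqb : IsPullback b ((yon S).map (pullback.fst k w))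
      (pullback.fst (pullback.snd f y) ((yon S).map w)) a := by
    refine IsPullback.of_right ?_ hb1 sqP.flip
    rw [hb2, ← hk]
    exact sqUy.flip
  have hbe : RepWith @Etale b := repWith_fst_of_isPullback _ sqb hae
  have hbs : RepWith @Surjective b := repWith_fst_of_isPullback _ sqb has
  have h1 : RepWith @Etale ((yon S).map (pullback.snd k w)) := by
    rw [← hb2]
    exact repWith_comp _ hbe (Groth.Agent.Lib.AlgSpBasic_helper7.repWith_of_isIso _ _)
  have h2 : RepWith @Surjective ((yon S).map (pullback.snd k w)) := by
    rw [← hb2]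
    exact repWith_comp _ hbs (Groth.Agent.Lib.AlgSpBasic_helper7.repWith_of_isIso _ _)
  have h1' : Etale (pullback.snd k w).left := (repWith_yon_map_iff _ _).1 h1
  have h2' : Surjective (pullback.snd k w).left := (repWith_yon_map_iff _ _).1 h2
  have e : snd' = (sq'.isoIsPullback _ _ sqU').hom ≫ (pullback.snd k w).left :=
    (IsPullback.isoIsPullback_hom_snd _ _ sq' sqU').symm
  rw [e]
  exact ⟨inferInstance, inferInstance⟩

theorem descendsFlatCover_etale_surjective :
    DescendsFlatCover (@Etale ⊓ @Surjective : MorphismProperty Scheme.{u}) :=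
  descendsFlatCover_inf (descendsFlatCover_of_descendsAlong _)
    (descendsFlatCover_of_descendsAlong _)

theorem isLocalOnBase_fpqc_isomorphisms :
    IsLocalOnBase (IsFpqcCover (S := S)) (MorphismProperty.isomorphisms (Sp S)) := by
  intro ι Y Yi g hY hYi hcov X f hX Xi p q hXi sqs
  constructor
  · intro hf i
    have : IsIso f := hf
    exact (sqs i).isIso_snd_of_isIso
  · intro h
    have hiso : ∀ i, IsIso (p i) := h
    have hm : Mono f :=
      (isLocalOnBase_fpqc_monomorphisms Yi g hY hYi hcov f hX Xi p q hXi sqs).2
        (fun i => (inferInstance : Mono (p i)))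
    suffices hepi : Epi f from isIso_of_mono_of_epi f
    refine ⟨fun {Z} a b hab => ?_⟩
    refine GrothendieckTopology.hom_ext_uliftYoneda.{u+1} _ (fun T y => ?_)
    suffices hE : Epi (pullback.snd f y) by
      rw [← cancel_epi (pullback.snd f y), ← Category.assoc, ← Category.assoc,
        ← pullback.condition, Category.assoc, Category.assoc, hab]
    have hP : IsAlgSpace (pullback f y) :=
      isAlgSpace_of_isPullback hY.diag hX (IsAlgSpace.yon_obj T) (IsPullback.of_hasPullback f y)
    obtain ⟨U, a', hae, has⟩ := hP.atlas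
    obtain ⟨k, hk⟩ := (yon S).map_surjective (a' ≫ pullback.snd f y)
    have key : (@Etale ⊓ @Surjective : MorphismProperty Scheme.{u}) k.left := by
      rw [IsZariskiLocalAtTarget.iff_of_openCover
        (P := (@Etale ⊓ @Surjective : MorphismProperty Scheme.{u})) T.left.affineCover]
      intro i
      let Zo : Over S := Over.mk (T.left.affineCover.f i ≫ T.hom)
      let z : Zo ⟶ T := Over.homMk (T.left.affineCover.f i) rfl
      have hZ : IsAffine Zo.left := by dsimp [Zo]; infer_instance
      obtain ⟨m, W, c, hW, hc, hs, hl⟩ := hcov.2 Zo hZ ((yon S).map z ≫ y)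
      refine descendsFlatCover_etale_surjective (Z := Zo.left) (fun j => (W j).left)
        (fun j => (c j).left) hW hc hs (pullback.snd k.left (T.left.affineCover.f i)) ?_
      intro j
      obtain ⟨i', l, hl'⟩ := hl j
      have : IsIso (p i') := hiso i'
      have sqR : IsPullback (pullback.fst (p i') l ≫ q i') (pullback.snd (p i') l) f
          ((yon S).map (c j ≫ z) ≫ y) := by
        have := (IsPullback.of_hasPullback (p i') l).paste_horiz (sqs i')
        rwa [hl', ← Category.assoc, ← Functor.map_comp] at this
      have sq' := (IsPullback.of_hasPullback (pullback.snd k.left (T.left.affineCover.f i))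
        (c j).left).paste_horiz (IsPullback.of_hasPullback k.left (T.left.affineCover.f i))
      have := etale_surjective_of_isIso_baseChange f y a' hae has k hk (c j ≫ z) _ _ sqR sq'
      exact this
    have hkE : Epi ((yon S).map k) :=
      epi_yon_map k key.2 (by have : Etale k.left := key.1; infer_instance)
        (by have : Etale k.left := key.1; infer_instance)
    rw [hk] at hkE
    exact epi_of_epi a' _

end Groth.Agent.Lib.AlgSpIso_helper7
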