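import Groth.Agent.Lib.AlgSpSmST_helper7
import Groth.Agent.Lib.AlgSpIso_helper7

/-!
# fpqc coverings of algebraic spaces: formal properties (helper7)

* `isFpqcCover_single`, `isIso_of_mono_of_flat_of_qc_of_surjective`
* `isFpqcCover_baseChange`, `isFpqcCover_of_isFppfCover`, `isFpqcCover_comp`,
  `isFpqcCover_iff_chart`
* `isOpen_of_isFpqcCover`, `existsUnique_opens_of_isFpqcCover`
-/

set_option autoImplicit false
universe u
open CategoryTheory CategoryTheory.Limits AlgebraicGeometry Opposite MorphismProperty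
open AlgSp Groth.Agent.Lib.AlgSpQC2_helper7 Groth.Agent.Lib.AlgSpPoints_helper7
  Groth.Agent.Lib.AlgSpQC_helper7 Groth.Agent.Lib.AlgSpDiag_helper7 Groth.Agent.Lib.AlgSpTop_helper7
  Groth.Agent.Lib.AlgSpPullback_helper7 Groth.Agent.Lib.AlgSpSep_helper7
  Groth.Agent.Lib.AlgSpLocP_helper7 Groth.Agent.Lib.AlgSpUniv_helper7
  Groth.Agent.Lib.AlgSpFpqc_helper7 Groth.Agent.Lib.AlgSpFpqc2_helper7
  Groth.Agent.Lib.AlgSpDescent_helper7 Groth.Agent.Lib.AlgSpEtale_helper7
  Groth.Agent.Lib.AlgSpLocP2_helper7 Groth.Agent.Lib.AlgSpLocP3_helper7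
  Groth.Agent.Lib.AlgSpEpi_helper7
  Groth.Agent.Lib.SchSrcLocal_helper7 Groth.Agent.Lib.AlgSpLocP4_helper7
  Groth.Agent.Lib.AlgSpLocP5_helper7 Groth.Agent.Lib.AlgSpLocP6_helper7
  Groth.Agent.Lib.SchSrcLocal2_helper7 Groth.Agent.Lib.AlgSpSrc_helper7
  Groth.Agent.Lib.AlgSpLocP7_helper7 Groth.Agent.Lib.AlgSpLocP8_helper7
  Groth.Agent.Lib.AlgSpLocP9_helper7 Groth.Agent.Lib.SchSmooth_helper7
  Groth.Agent.Lib.AlgSpLocP10_helper7 Groth.Agent.Lib.AlgSpSmST_helper7
  Groth.Agent.Lib.AlgSpIso_helper7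

namespace Groth.Agent.Lib.AlgSpFpqc3_helper7

variable {S : Scheme.{u}}

/-- Refinement of standard fpqc coverings: a finite flat jointly surjective family over `Z` each
member of which has a standard fpqc covering with the property `Q` (of the composite) gives a
standard fpqc covering of `Z` with `Q`. -/
theorem exists_cover_of_refine {Z : Over S} (Q : ∀ (T : Over S), (T ⟶ Z) → Prop) {κ : Type*}
    [Finite κ] (W : κ → Over S) (c : ∀ k, W k ⟶ Z) (hc : ∀ k, Flat (c k).left)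
    (hsurj : ∀ z : ↥Z.left, ∃ k, z ∈ Set.range (c k).left)
    (H : ∀ k, ∃ (n : ℕ) (W' : Fin n → Over S) (c' : ∀ b, W' b ⟶ W k),
      (∀ b, IsAffine (W' b).left) ∧ (∀ b, Flat (c' b).left) ∧
      (∀ w : ↥(W k).left, ∃ b, w ∈ Set.range (c' b).left) ∧ ∀ b, Q (W' b) (c' b ≫ c k)) :
    ∃ (m : ℕ) (W'' : Fin m → Over S) (c'' : ∀ a, W'' a ⟶ Z),
      (∀ a, IsAffine (W'' a).left) ∧ (∀ a, Flat (c'' a).left) ∧
      (∀ z : ↥Z.left, ∃ a, z ∈ Set.range (c'' a).left) ∧ ∀ a, Q (W'' a) (c'' a) := by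
  haveI := Fintype.ofFinite κ
  choose n W' c' hW' hc' hs' hQ using H
  let e : (Σ k, Fin (n k)) ≃ Fin (Fintype.card (Σ k, Fin (n k))) := Fintype.equivFin _
  refine ⟨Fintype.card (Σ k, Fin (n k)), fun a => W' (e.symm a).1 (e.symm a).2,
    fun a => c' (e.symm a).1 (e.symm a).2 ≫ c (e.symm a).1, fun a => hW' _ _, fun a => ?_,
    fun z => ?_, fun a => hQ _ _⟩
  · rw [Over.comp_left]
    haveI := hc' (e.symm a).1 (e.symm a).2
    haveI := hc (e.symm a).1
    infer_instance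
  · obtain ⟨k, w, rfl⟩ := hsurj z
    obtain ⟨b, w', rfl⟩ := hs' k w
    refine ⟨e ⟨k, b⟩, ?_⟩
    beta_reduce
    rw [e.symm_apply_apply]
    exact ⟨w', by rw [Over.comp_left, Scheme.Hom.comp_apply]⟩

/-- A flat, quasi-compact and surjective morphism of algebraic spaces is, on its own, an fpqc
covering. -/
theorem isFpqcCover_single {X Y : Sp S} (hX : IsAlgSpace X) (hY : IsAlgSpace Y) (f : X ⟶ Y)
    (hflat : LocP @Flat f) (hqc : IsQuasiCompactMor f) (hs : IsSurjectiveMor f) :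
    IsFpqcCover (fun _ : PUnit.{u + 1} => X) (fun _ => f) := by
  refine ⟨fun _ => hflat, fun Z hZ h => ?_⟩
  haveI : IsAffine Z.left := hZ
  have sq := IsPullback.of_hasPullback f h
  have hQ : IsAlgSpace (pullback f h) :=
    isAlgSpace_of_isPullback hY.diag hX (IsAlgSpace.yon_obj Z) sq
  have hqcQ : IsQuasiCompactSp (pullback f h) :=
    hqc (IsAlgSpace.yon_obj Z) (isQuasiCompactSp_yon Z) h _ _ sq
  obtain ⟨ι, hfin, T, r, hT, hre, hrs⟩ := exists_finite_affine_charts hqcQ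
  haveI := hfin
  haveI := Fintype.ofFinite ι
  let e : ι ≃ Fin (Fintype.card ι) := Fintype.equivFin ι
  choose c hc using fun i => (yon S).map_surjective (r i ≫ pullback.snd f h)
  have hsnd : LocP @Flat (pullback.snd f h) :=
    locP_baseChange etLocal_flat hX hY (IsAlgSpace.yon_obj Z) f h _ _ sq hflat
  have hss : IsSurjectiveMor (pullback.snd f h) := isSurjectiveMor_of_isPullback sq hs
  refine ⟨Fintype.card ι, fun j => T (e.symm j), fun j => c (e.symm j), fun j => hT _, fun j => ?_,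
    fun z => ?_, fun j => ⟨PUnit.unit, r (e.symm j) ≫ pullback.fst f h, ?_⟩⟩
  · exact hsnd (r _) (𝟙 _) (c _) (hre _) (repWith_id _ Z) (by rw [hc, Category.comp_id])
  · obtain ⟨q, hq⟩ := hss (Points.ofScheme Z z)
    obtain ⟨i, t, ht⟩ := hrs q
    refine ⟨e i, ?_⟩
    beta_reduce
    rw [e.symm_apply_apply]
    refine ⟨t, ?_⟩
    apply ofScheme_injective Z
    rw [← ofPt_yon_map, hc, ← Points.map_ofPt, ht, hq]
  · rw [Category.assoc, pullback.condition, ← Category.assoc, hc]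

/-- A monomorphism of algebraic spaces that is quasi-compact, flat and surjective is an
isomorphism. -/
theorem isIso_of_mono_of_flat_of_qc_of_surjective {X Y : Sp S} (hX : IsAlgSpace X)
    (hY : IsAlgSpace Y) (f : X ⟶ Y) (hqc : IsQuasiCompactMor f) (hflat : LocP @Flat f)
    (hs : IsSurjectiveMor f) [Mono f] : IsIso f := by
  have hcov := isFpqcCover_single hX hY f hflat hqc hs
  have sq := IsPullback.of_hasPullback f f
  have hP : IsAlgSpace (pullback f f) := isAlgSpace_of_isPullback hY.diag hX hX sq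
  exact (isLocalOnBase_fpqc_isomorphisms (fun _ : PUnit.{u + 1} => X) (fun _ => f) hY
    (fun _ => hX) hcov f hX (fun _ => pullback f f) (fun _ => pullback.snd f f)
    (fun _ => pullback.fst f f) (fun _ => hP) (fun _ => sq)).2
    (fun _ => (inferInstance : IsIso (pullback.snd f f)))

/-- The base change of an fpqc covering is an fpqc covering. -/
theorem isFpqcCover_baseChange {X X' : Sp S} (hX : IsAlgSpace X) (hX' : IsAlgSpace X')
    (a : X' ⟶ X) {ι : Type u} (Xi : ι → Sp S) (g : ∀ i, Xi i ⟶ X) (hXi : ∀ i, IsAlgSpace (Xi i))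
    (Xi' : ι → Sp S) (q : ∀ i, Xi' i ⟶ X') (p : ∀ i, Xi' i ⟶ Xi i)
    (sq : ∀ i, IsPullback (q i) (p i) a (g i)) (h : IsFpqcCover Xi g) : IsFpqcCover Xi' q := by
  refine ⟨fun i => ?_, fun Z hZ t => ?_⟩
  · exact locP_baseChange etLocal_flat (hXi i) hX hX' (g i) a (p i) (q i) (sq i).flip (h.1 i)
  · obtain ⟨m, W, c, hW, hc, hsurj, hl⟩ := h.2 Z hZ (t ≫ a)
    refine ⟨m, W, c, hW, hc, hsurj, fun j => ?_⟩
    obtain ⟨i, l, hl⟩ := hl j
    exact ⟨i, (sq i).lift ((yon S).map (c j) ≫ t) l (by rw [Category.assoc, hl]),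
      (sq i).lift_fst _ _ _⟩

/-- An fppf covering is an fpqc covering. -/
theorem isFpqcCover_of_isFppfCover {X : Sp S} (hX : IsAlgSpace X) {ι : Type u} (Xi : ι → Sp S)
    (g : ∀ i, Xi i ⟶ X) (hXi : ∀ i, IsAlgSpace (Xi i)) (h : IsFppfCover Xi g) :
    IsFpqcCover Xi g := by
  refine ⟨fun i => (h.1 i).1, fun Z hZ t => ?_⟩
  haveI : IsAffine Z.left := hZ
  have key : ∀ z : ↥Z.left, ∃ (W : Over S) (c : W ⟶ Z) (i : ι) (l : (yon S).obj W ⟶ Xi i),
      IsAffine W.left ∧ Flat c.left ∧ LocallyOfFinitePresentation c.left ∧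
      z ∈ Set.range c.left ∧ l ≫ g i = (yon S).map c ≫ t := by
    intro z
    obtain ⟨i, y, hy⟩ := h.2 (Points.map t (Points.ofScheme Z z))
    have sq := IsPullback.of_hasPullback (g i) t
    have hQ : IsAlgSpace (pullback (g i) t) :=
      isAlgSpace_of_isPullback hX.diag (hXi i) (IsAlgSpace.yon_obj Z) sq
    obtain ⟨w, -, hw2⟩ := exists_of_isPullback sq y (Points.ofScheme Z z) hy
    obtain ⟨κ, T, r, hTaff, hr, hs⟩ := exists_affine_charts hQ
    obtain ⟨k, u, hu⟩ := hs w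
    obtain ⟨c, hc⟩ := (yon S).map_surjective (r k ≫ pullback.snd (g i) t)
    have hsndF : LocP @Flat (pullback.snd (g i) t) :=
      locP_baseChange etLocal_flat (hXi i) hX (IsAlgSpace.yon_obj Z) (g i) t _ _ sq (h.1 i).1
    have hsndP : LocP @LocallyOfFinitePresentation (pullback.snd (g i) t) :=
      locP_baseChange etLocal_locallyOfFinitePresentation (hXi i) hX (IsAlgSpace.yon_obj Z)
        (g i) t _ _ sq (h.1 i).2
    refine ⟨T k, c, i, r k ≫ pullback.fst (g i) t, hTaff k,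
      hsndF (r k) (𝟙 _) c (hr k) (repWith_id _ Z) (by rw [hc, Category.comp_id]),
      hsndP (r k) (𝟙 _) c (hr k) (repWith_id _ Z) (by rw [hc, Category.comp_id]), ⟨u, ?_⟩,
      by rw [Category.assoc, pullback.condition, ← Category.assoc, hc]⟩
    apply ofScheme_injective Z
    rw [← ofPt_yon_map, hc, ← Points.map_ofPt, hu, hw2]
  choose W c i l hW hcF hcP hz hl using key
  have hopen : ∀ z, IsOpen (Set.range (c z).left) := fun z => by
    haveI := hcF z
    haveI := hcP z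
    exact (c z).left.isOpenMap.isOpen_range
  obtain ⟨s, hs⟩ := isCompact_univ.elim_finite_subcover (fun z => Set.range (c z).left) hopen
    (fun z _ => Set.mem_iUnion.2 ⟨z, hz z⟩)
  let e : ↥s ≃ Fin s.card := s.equivFin
  refine ⟨s.card, fun j => W (e.symm j).1, fun j => c (e.symm j).1, fun j => hW _, fun j => hcF _,
    fun z => ?_, fun j => ⟨i _, l _, hl _⟩⟩
  obtain ⟨z', hz's, hz'⟩ : ∃ z' ∈ s, z ∈ Set.range (c z').left := by
    simpa using hs (Set.mem_univ z)
  exact ⟨e ⟨z', hz's⟩, by beta_reduce; rw [e.symm_apply_apply]; exact hz'⟩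

/-- Composition of fpqc coverings. -/
theorem isFpqcCover_comp {X : Sp S} (hX : IsAlgSpace X) {ι : Type u} (Xi : ι → Sp S)
    (g : ∀ i, Xi i ⟶ X) (hXi : ∀ i, IsAlgSpace (Xi i)) (κ : ι → Type u)
    (Xij : ∀ i, κ i → Sp S) (gij : ∀ i j, Xij i j ⟶ Xi i) (hXij : ∀ i j, IsAlgSpace (Xij i j))
    (h : IsFpqcCover Xi g) (hij : ∀ i, IsFpqcCover (Xij i) (gij i)) :
    IsFpqcCover (fun r : Σ i, κ i => Xij r.1 r.2) (fun r => gij r.1 r.2 ≫ g r.1) := by
  refine ⟨fun r => locP_comp etLocal_flat (hXij r.1 r.2) (hXi r.1) hX _ _ ((hij r.1).1 r.2)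
    (h.1 r.1), fun Z hZ t => ?_⟩
  obtain ⟨m, W, c, hW, hc, hsurj, hl⟩ := h.2 Z hZ t
  choose i l hl using hl
  refine exists_cover_of_refine (fun T c'' => ∃ (r : Σ i, κ i) (l'' : (yon S).obj T ⟶ Xij r.1 r.2),
    l'' ≫ gij r.1 r.2 ≫ g r.1 = (yon S).map c'' ≫ t) W c hc hsurj fun j => ?_
  obtain ⟨n, W', c', hW', hc', hsurj', hl'⟩ := (hij (i j)).2 (W j) (hW j) (l j)
  refine ⟨n, W', c', hW', hc', hsurj', fun b => ?_⟩
  obtain ⟨k, l', hl'⟩ := hl' b
  refine ⟨⟨i j, k⟩, l', ?_⟩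
  rw [← Category.assoc, hl', Category.assoc, hl, Functor.map_comp, Category.assoc]

/-- fpqc coverings can be detected after base change to an étale surjective chart. -/
theorem isFpqcCover_of_chart {X : Sp S} {ι : Type u} (Xi : ι → Sp S)
    (g : ∀ i, Xi i ⟶ X) {U : Over S} (p : (yon S).obj U ⟶ X)
    (hp : RepWith @Etale p) (hps : RepWith @Surjective p) (Ui : ι → Sp S)
    (hUi : ∀ i, IsAlgSpace (Ui i)) (q : ∀ i, Ui i ⟶ (yon S).obj U) (p' : ∀ i, Ui i ⟶ Xi i)
    (sq : ∀ i, IsPullback (q i) (p' i) p (g i)) (h : IsFpqcCover Ui q) : IsFpqcCover Xi g := by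
  refine ⟨fun i => locP_of_target_chart etLocal_flat (g i) p hp hps (p' i) (q i) (sq i).flip
    (hUi i) (h.1 i), fun Z hZ t => ?_⟩
  haveI : IsAffine Z.left := hZ
  let Z' := hp.rep.pullback t
  let π : Z' ⟶ Z := hp.rep.snd t
  let t' : Z' ⟶ U := hp.rep.fst' t
  have sqZ : IsPullback ((yon S).map t') ((yon S).map π) p t := hp.rep.isPullback' t
  have hπe : Etale π.left := hp.property_snd t
  have hπs : Surjective π.left := hps.property _ _ _ (hp.rep.isPullback _)
  let 𝒰 := Z'.left.affineCover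
  have hopen : ∀ k, IsOpen (Set.range (𝒰.f k ≫ π.left)) := fun k => by
    haveI : Etale (𝒰.f k ≫ π.left) := inferInstance
    exact (𝒰.f k ≫ π.left).isOpenMap.isOpen_range
  obtain ⟨s, hs⟩ := isCompact_univ.elim_finite_subcover (fun k => Set.range (𝒰.f k ≫ π.left))
    hopen (by
      intro z _
      obtain ⟨z', rfl⟩ := hπs.surj z
      obtain ⟨k, y, rfl⟩ := 𝒰.exists_eq z'
      exact Set.mem_iUnion.2 ⟨k, y, by rw [Scheme.Hom.comp_apply]⟩)
  let T : ↥s → Over S := fun k => Over.mk (𝒰.f k.1 ≫ Z'.hom)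
  let j : ∀ k, T k ⟶ Z' := fun k => Over.homMk (𝒰.f k.1) rfl
  have hTaff : ∀ k, IsAffine (T k).left := fun k => by dsimp [T]; infer_instance
  refine exists_cover_of_refine (fun T c'' => ∃ (i : ι) (l'' : (yon S).obj T ⟶ Xi i),
    l'' ≫ g i = (yon S).map c'' ≫ t) T (fun k => j k ≫ π) (fun k => ?_) (fun z => ?_) fun k => ?_
  · rw [Over.comp_left]
    change Flat (𝒰.f k.1 ≫ π.left)
    infer_instance
  · obtain ⟨k, hk, y, hy⟩ : ∃ k ∈ s, z ∈ Set.range (𝒰.f k ≫ π.left) := by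
      simpa using hs (Set.mem_univ z)
    exact ⟨⟨k, hk⟩, y, hy⟩
  · obtain ⟨n, W', c', hW', hc', hsurj', hl'⟩ := h.2 (T k) (hTaff k) ((yon S).map (j k ≫ t'))
    refine ⟨n, W', c', hW', hc', hsurj', fun b => ?_⟩
    obtain ⟨i, l', hl'⟩ := hl' b
    refine ⟨i, l' ≫ p' i, ?_⟩
    rw [Category.assoc, ← (sq i).w, ← Category.assoc, hl', Functor.map_comp, Functor.map_comp,
      Functor.map_comp, Category.assoc, Category.assoc, Category.assoc, sqZ.w]
    simp only [Category.assoc]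

/-- Openness of a subset of the points of an algebraic space can be tested on an fpqc covering. -/
theorem isOpen_of_isFpqcCover {T : Sp S} (hT : IsAlgSpace T) {ι : Type u} {Ti : ι → Sp S}
    {g : ∀ i, Ti i ⟶ T} (hcov : IsFpqcCover Ti g) (A : Set (Points T))
    (hA : ∀ i, IsOpen (Points.map (g i) ⁻¹' A)) : IsOpen A := by
  obtain ⟨κ, T', r, hT'aff, hr, hs⟩ := exists_affine_charts hT
  apply (submersiveFamily_of_charts T' r hr hs).isOpen
  intro k
  obtain ⟨m, W, c, hW, hc, hsurj, hl⟩ := hcov.2 (T' k) (hT'aff k) (r k)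
  apply (submersiveFamily_of_flat_cover (hT'aff k) W c hW hc hsurj).isOpen
  intro j
  obtain ⟨i, l, hl⟩ := hl j
  have : Points.map ((yon S).map (c j)) ⁻¹' (Points.map (r k) ⁻¹' A) =
      Points.map l ⁻¹' (Points.map (g i) ⁻¹' A) := by
    ext w
    simp only [Set.mem_preimage]
    rw [← Points.map_comp, ← Points.map_comp, hl]
  rw [this]
  exact (hA i).preimage (Points.continuous_map l)

/-- Gluing open subsets along an fpqc covering. -/
theorem existsUnique_opens_of_isFpqcCover {T : Sp S} (hT : IsAlgSpace T) {ι : Type u}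
    {Ti : ι → Sp S} {g : ∀ i, Ti i ⟶ T} (hcov : IsFpqcCover Ti g)
    (Wi : ∀ i, Set (Points (Ti i))) (hW : ∀ i, IsOpen (Wi i))
    (hc : ∀ i j, Points.map (pullback.fst (g i) (g j)) ⁻¹' Wi i =
      Points.map (pullback.snd (g i) (g j)) ⁻¹' Wi j) :
    ∃! W : TopologicalSpace.Opens (Points T),
      ∀ i, Points.map (g i) ⁻¹' (W : Set (Points T)) = Wi i := by
  have key : ∀ j, Points.map (g j) ⁻¹' (⋃ i, Points.map (g i) '' Wi i) = Wi j := by
    intro j
    ext y
    constructor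
    · intro hy
      obtain ⟨i, x, hx, hxy⟩ := Set.mem_iUnion.1 hy
      obtain ⟨z, hz1, hz2⟩ := exists_of_isPullback (IsPullback.of_hasPullback (g i) (g j)) x y hxy
      have : z ∈ Points.map (pullback.fst (g i) (g j)) ⁻¹' Wi i := by
        show Points.map _ z ∈ Wi i
        rw [hz1]; exact hx
      rw [hc i j] at this
      have h2 : Points.map (pullback.snd (g i) (g j)) z ∈ Wi j := this
      rwa [hz2] at h2
    · intro hy
      exact Set.mem_iUnion.2 ⟨j, y, hy, rfl⟩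
  have hopen : IsOpen (⋃ i, Points.map (g i) '' Wi i) :=
    isOpen_of_isFpqcCover hT hcov _ fun j => by rw [key j]; exact hW j
  refine ⟨⟨_, hopen⟩, key, fun W' hW' => ?_⟩
  apply TopologicalSpace.Opens.ext
  ext t
  obtain ⟨i, x, rfl⟩ := isFpqcCover_surjective hT hcov t
  have h1 : Points.map (g i) x ∈ (W' : Set (Points T)) ↔ x ∈ Wi i := by
    rw [← hW' i]; rfl
  have h2 : Points.map (g i) x ∈ (⋃ i, Points.map (g i) '' Wi i) ↔ x ∈ Wi i := by
    rw [← key i]; rfl
  exact h1.trans h2.symm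

end Groth.Agent.Lib.AlgSpFpqc3_helper7
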