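import Groth.Agent.Lib.AlgSpAffine_helper7
import Groth.Agent.Lib.AlgSpFpqc3_helper7
import Mathlib.RingTheory.Flat.Equalizer

/-!
# Affine fpqc descent for algebraic spaces, part 1 (helper7)

* `bijective_of_flat_equalizer`: the ring-theoretic core (flat base change of an equalizer).
* `SpA zs M`: the scheme `Spec M` over `S` for an `A`-algebra `M`, where `zs : Spec A ⟶ S`.
* `SpA.isPullback`: `Spec (B ⊗[A] C)` is the fibre product in `Over S`.
-/

set_option autoImplicit false
universe u
open CategoryTheory CategoryTheory.Limits AlgebraicGeometry Opposite TensorProduct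

namespace Groth.Agent.Lib.AffDescH7

theorem bijective_of_flat_equalizer {A B C D B' : Type u} [CommRing A] [CommRing B] [CommRing C]
    [CommRing D] [CommRing B'] [Algebra A B] [Algebra A C] [Algebra A D] [Module.Flat A B]
    (σ τ : C →ₐ[A] D) (ι : B' →+* B ⊗[A] C) (hι : Function.Injective ι)
    (θ : B ⊗[A] (AlgHom.equalizer σ τ) →+* B')
    (hθ : ∀ x, ι (θ x) =
      Algebra.TensorProduct.map (AlgHom.id B B) (AlgHom.equalizer σ τ).val x)
    (heq : ∀ b', Algebra.TensorProduct.map (AlgHom.id B B) σ (ι b') =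
      Algebra.TensorProduct.map (AlgHom.id B B) τ (ι b')) :
    Function.Bijective θ := by
  have hinj : Function.Injective
      (Algebra.TensorProduct.map (AlgHom.id B B) (AlgHom.equalizer σ τ).val) := by
    intro a b hab
    apply (AlgHom.tensorEqualizerEquiv B B σ τ).injective
    apply Subtype.ext
    rw [AlgHom.tensorEqualizerEquiv_apply, AlgHom.tensorEqualizerEquiv_apply,
      AlgHom.coe_tensorEqualizer, AlgHom.coe_tensorEqualizer]
    exact hab
  constructor
  · intro x y hxy
    apply hinj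
    rw [← hθ, ← hθ, hxy]
  · intro b'
    let x : AlgHom.equalizer (Algebra.TensorProduct.map (AlgHom.id B B) σ)
        (Algebra.TensorProduct.map (AlgHom.id B B) τ) := ⟨ι b', heq b'⟩
    refine ⟨(AlgHom.tensorEqualizerEquiv B B σ τ).symm x, hι ?_⟩
    rw [hθ]
    have h : ((AlgHom.tensorEqualizerEquiv B B σ τ)
        ((AlgHom.tensorEqualizerEquiv B B σ τ).symm x) : B ⊗[A] C) = ι b' := by
      rw [AlgEquiv.apply_symm_apply]
    rw [AlgHom.tensorEqualizerEquiv_apply, AlgHom.coe_tensorEqualizer] at h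
    exact h

variable {S : Scheme.{u}} {A : Type u} [CommRing A] (zs : Spec (CommRingCat.of A) ⟶ S)

/-- `Spec M` as a scheme over `S`, through `Spec A`. -/
noncomputable abbrev SpA (M : Type u) [CommRing M] [Algebra A M] : Over S :=
  Over.mk (Spec.map (CommRingCat.ofHom (algebraMap A M)) ≫ zs)

/-- The structure map `Spec M ⟶ Spec A`. -/
noncomputable abbrev SpA.str (M : Type u) [CommRing M] [Algebra A M] : SpA zs M ⟶ Over.mk zs :=
  Over.homMk (Spec.map (CommRingCat.ofHom (algebraMap A M))) rfl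

/-- `Spec` of an `A`-algebra map. -/
noncomputable def SpA.map {M N : Type u} [CommRing M] [CommRing N] [Algebra A M] [Algebra A N]
    (φ : M →ₐ[A] N) : SpA zs N ⟶ SpA zs M :=
  Over.homMk (Spec.map (CommRingCat.ofHom φ.toRingHom)) (by
    show Spec.map (CommRingCat.ofHom φ.toRingHom) ≫
      Spec.map (CommRingCat.ofHom (algebraMap A M)) ≫ zs =
      Spec.map (CommRingCat.ofHom (algebraMap A N)) ≫ zs
    rw [← Category.assoc, ← Spec.map_comp, ← CommRingCat.ofHom_comp]
    congr 3
    exact φ.comp_algebraMap)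

@[simp] lemma SpA.map_left {M N : Type u} [CommRing M] [CommRing N] [Algebra A M] [Algebra A N]
    (φ : M →ₐ[A] N) : (SpA.map zs φ).left = Spec.map (CommRingCat.ofHom φ.toRingHom) := rfl

lemma SpA.map_str {M N : Type u} [CommRing M] [CommRing N] [Algebra A M] [Algebra A N]
    (φ : M →ₐ[A] N) : SpA.map zs φ ≫ SpA.str zs M = SpA.str zs N := by
  ext
  show Spec.map (CommRingCat.ofHom φ.toRingHom) ≫
      Spec.map (CommRingCat.ofHom (algebraMap A M)) =
      Spec.map (CommRingCat.ofHom (algebraMap A N))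
  rw [← Spec.map_comp, ← CommRingCat.ofHom_comp]
  congr 2
  exact φ.comp_algebraMap

lemma SpA.map_comp {M N P : Type u} [CommRing M] [CommRing N] [CommRing P] [Algebra A M]
    [Algebra A N] [Algebra A P] (φ : M →ₐ[A] N) (ψ : N →ₐ[A] P) :
    SpA.map zs (ψ.comp φ) = SpA.map zs ψ ≫ SpA.map zs φ := by
  ext
  show Spec.map (CommRingCat.ofHom (ψ.comp φ).toRingHom) =
    Spec.map (CommRingCat.ofHom ψ.toRingHom) ≫ Spec.map (CommRingCat.ofHom φ.toRingHom)
  rw [← Spec.map_comp, ← CommRingCat.ofHom_comp]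
  rfl

lemma SpA.map_injective {M N : Type u} [CommRing M] [CommRing N] [Algebra A M] [Algebra A N]
    {φ ψ : M →ₐ[A] N} (h : SpA.map zs φ = SpA.map zs ψ) : φ = ψ := by
  have h1 : Spec.map (CommRingCat.ofHom φ.toRingHom) = Spec.map (CommRingCat.ofHom ψ.toRingHom) :=
    congrArg (fun m => m.left) h
  have h2 := Spec.map_injective h1
  have h3 : φ.toRingHom = ψ.toRingHom := congrArg (fun m => m.hom) h2
  exact AlgHom.ext fun x => RingHom.congr_fun h3 x

/-- Every morphism `Spec N ⟶ Spec M` over `Spec A` comes from an `A`-algebra map. -/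
lemma SpA.exists_map {M N : Type u} [CommRing M] [CommRing N] [Algebra A M] [Algebra A N]
    (m : SpA zs N ⟶ SpA zs M) (hm : m ≫ SpA.str zs M = SpA.str zs N) :
    ∃ φ : M →ₐ[A] N, m = SpA.map zs φ := by
  obtain ⟨φ₀, hφ₀⟩ := Spec.map_surjective m.left
  have h1 : Spec.map φ₀ ≫ Spec.map (CommRingCat.ofHom (algebraMap A M)) =
      Spec.map (CommRingCat.ofHom (algebraMap A N)) := by
    rw [hφ₀]
    exact congrArg (fun k => k.left) hm
  rw [← Spec.map_comp] at h1
  have h2 := Spec.map_injective h1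
  refine ⟨{ φ₀.hom with commutes' := fun a => ?_ }, ?_⟩
  · exact RingHom.congr_fun (congrArg (fun k => k.hom) h2) a
  · ext
    exact hφ₀.symm

/-- Relative `Spec`-ification of an affine scheme over `Spec A`. -/
lemma SpA.exists_iso {T : Over S} (hT : IsAffine T.left) (t : T ⟶ Over.mk zs) :
    ∃ (M : Type u) (_ : CommRing M) (_ : Algebra A M) (e : SpA zs M ≅ T),
      e.hom ≫ t = SpA.str zs M := by
  let φ : CommRingCat.of A ⟶ Γ(T.left, ⊤) := Spec.preimage (T.left.isoSpec.inv ≫ t.left)
  have hφ : Spec.map φ = T.left.isoSpec.inv ≫ t.left := Spec.map_preimage _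
  letI : Algebra A Γ(T.left, ⊤) := φ.hom.toAlgebra
  have hT' : T.hom = t.left ≫ zs := (Over.w t).symm
  refine ⟨Γ(T.left, ⊤), inferInstance, inferInstance,
    Over.isoMk (T.left.isoSpec.symm) ?_, ?_⟩
  · show T.left.isoSpec.inv ≫ T.hom = Spec.map (CommRingCat.ofHom (algebraMap A Γ(T.left, ⊤))) ≫ zs
    rw [hT', ← Category.assoc, ← hφ]
    rfl
  · ext
    show T.left.isoSpec.inv ≫ t.left = Spec.map (CommRingCat.ofHom (algebraMap A Γ(T.left, ⊤)))
    rw [← hφ]
    rfl

section Pullback

variable (B C : Type u) [CommRing B] [CommRing C] [Algebra A B] [Algebra A C]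

/-- `Spec (B ⊗[A] C)` is the fibre product of `Spec B` and `Spec C` over `Spec A` in `Over S`. -/
theorem SpA.isPullback :
    IsPullback (SpA.map zs (Algebra.TensorProduct.includeRight : C →ₐ[A] B ⊗[A] C))
      (SpA.map zs (Algebra.TensorProduct.includeLeft : B →ₐ[A] B ⊗[A] C))
      (SpA.str zs C) (SpA.str zs B) := by
  refine IsPullback.of_map (Over.forget S) ?_ ?_
  · rw [SpA.map_str, SpA.map_str]
  · exact (isPullback_SpecMap_of_isPushout _ _ _ _ (CommRingCat.isPushout_tensorProduct A B C)).flip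

theorem SpA.isPullback_yon :
    IsPullback ((AlgSp.yon S).map (SpA.map zs (Algebra.TensorProduct.includeRight : C →ₐ[A] B ⊗[A] C)))
      ((AlgSp.yon S).map (SpA.map zs (Algebra.TensorProduct.includeLeft : B →ₐ[A] B ⊗[A] C)))
      ((AlgSp.yon S).map (SpA.str zs C)) ((AlgSp.yon S).map (SpA.str zs B)) :=
  (SpA.isPullback zs B C).map (AlgSp.yon S)

end Pullback

end Groth.Agent.Lib.AffDescH7
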