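import Groth.Agent.Lib.AffDesc1_helper7
import Mathlib.CategoryTheory.Sites.RegularEpi

/-!
# Affine fpqc descent for algebraic spaces, part 2 (helper7)

`affine_descent`: an algebraic space over an affine scheme `Z` which becomes an affine scheme
after a faithfully flat affine base change `Z' ⟶ Z` is an affine scheme.
-/

set_option autoImplicit false
universe u
open CategoryTheory CategoryTheory.Limits AlgebraicGeometry Opposite TensorProduct MorphismProperty
open AlgSp Groth.Agent.Lib.AlgSpQC2_helper7 Groth.Agent.Lib.AlgSpPoints_helper7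
  Groth.Agent.Lib.AlgSpQC_helper7 Groth.Agent.Lib.AlgSpPullback_helper7
  Groth.Agent.Lib.AlgSpLocP_helper7 Groth.Agent.Lib.AlgSpFpqc3_helper7
  Groth.Agent.Lib.AlgSpIso_helper7 Groth.Agent.Lib.AlgSpAffine_helper7

namespace Groth.Agent.Lib.AffDescH7

variable {S : Scheme.{u}}

theorem isFpqcCover_yon_map {T T' : Over S} (c : T' ⟶ T) (hT : IsAffine T.left)
    (hT' : IsAffine T'.left) (hs : Surjective c.left) (hf : Flat c.left) :
    IsFpqcCover (fun _ : PUnit.{u + 1} => (yon S).obj T') (fun _ => (yon S).map c) := by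
  haveI := hT
  haveI := hT'
  have hqc : QuasiCompact c.left := inferInstance
  exact isFpqcCover_single (IsAlgSpace.yon_obj T') (IsAlgSpace.yon_obj T) _
    (locP_of_repWith @Flat (fun _ _ g hg => inferInstance) _ ((repWith_yon_map_iff @Flat c).2 hf))
    (isQuasiCompactMor_of_repWith _ ((repWith_yon_map_iff @QuasiCompact c).2 hqc))
    (isSurjectiveMor_of_repWith _ ((repWith_yon_map_iff @Surjective c).2 hs))

variable {A : Type u} [CommRing A] (zs : Spec (CommRingCat.of A) ⟶ S)

lemma SpA.isAffine (M : Type u) [CommRing M] [Algebra A M] : IsAffine (SpA zs M).left := by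
  show IsAffine (Spec _)
  infer_instance

set_option maxHeartbeats 1600000 in
theorem core {B C D B' : Type u} [CommRing B] [CommRing C] [CommRing D] [CommRing B']
    [Algebra A B] [Algebra A C] [Algebra A D] [Algebra A B'] [Module.Flat A B]
    (hsurj : Surjective (Spec.map (CommRingCat.ofHom (algebraMap A B))))
    (σ τ : C →ₐ[A] D) (β : B →ₐ[A] B')
    {X : Sp S} (hX : IsAlgSpace X) (f : X ⟶ (yon S).obj (Over.mk zs))
    (p : (yon S).obj (SpA zs C) ⟶ X) (hpf : p ≫ f = (yon S).map (SpA.str zs C))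
    (hpe : RepWith @Etale p) (hps : RepWith @Surjective p)
    (kp : IsPullback ((yon S).map (SpA.map zs σ)) ((yon S).map (SpA.map zs τ)) p p)
    (fst₁ : (yon S).obj (SpA zs B') ⟶ X)
    (sq₁ : IsPullback fst₁ ((yon S).map (SpA.map zs β)) f ((yon S).map (SpA.str zs B))) :
    ∃ V : Over S, IsAffine V.left ∧ Nonempty ((yon S).obj V ≅ X) := by
  let E := AlgHom.equalizer σ τ
  let εC : E →ₐ[A] C := E.val
  have hστ : σ.comp εC = τ.comp εC := AlgHom.ext fun x => (AlgHom.mem_equalizer σ τ _).1 x.2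
  have hu : SpA.map zs σ ≫ SpA.map zs εC = SpA.map zs τ ≫ SpA.map zs εC := by
    rw [← SpA.map_comp, ← SpA.map_comp, hστ]
  haveI : Epi p := epi_of_atlas p hpe hps
  haveI : IsRegularEpi p := IsRegularEpiCategory.regularEpiOfEpi p
  obtain ⟨φ, hφ⟩ := IsRegularEpi.exists_of_isKernelPair p kp ((yon S).map (SpA.map zs εC))
    (by rw [← Functor.map_comp, ← Functor.map_comp, hu])
  have hφf : φ ≫ (yon S).map (SpA.str zs E) = f := by
    rw [← cancel_epi p, ← Category.assoc, hφ, ← Functor.map_comp, SpA.map_str, hpf]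
  -- the base change of the chart
  let iR_C : C →ₐ[A] B ⊗[A] C := Algebra.TensorProduct.includeRight
  let iL_C : B →ₐ[A] B ⊗[A] C := Algebra.TensorProduct.includeLeft
  let iR_D : D →ₐ[A] B ⊗[A] D := Algebra.TensorProduct.includeRight
  let iL_D : B →ₐ[A] B ⊗[A] D := Algebra.TensorProduct.includeLeft
  let iR_E : E →ₐ[A] B ⊗[A] E := Algebra.TensorProduct.includeRight
  let iL_E : B →ₐ[A] B ⊗[A] E := Algebra.TensorProduct.includeLeft
  have P1C : IsPullback ((yon S).map (SpA.map zs iR_C)) ((yon S).map (SpA.map zs iL_C))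
      ((yon S).map (SpA.str zs C)) ((yon S).map (SpA.str zs B)) := SpA.isPullback_yon zs B C
  have P1E : IsPullback ((yon S).map (SpA.map zs iR_E)) ((yon S).map (SpA.map zs iL_E))
      ((yon S).map (SpA.str zs E)) ((yon S).map (SpA.str zs B)) := SpA.isPullback_yon zs B E
  have wπ : ((yon S).map (SpA.map zs iR_C) ≫ p) ≫ f =
      (yon S).map (SpA.map zs iL_C) ≫ (yon S).map (SpA.str zs B) := by
    rw [Category.assoc, hpf, ← Functor.map_comp, ← Functor.map_comp, SpA.map_str, SpA.map_str]
  obtain ⟨π', hπ'⟩ := (yon S).map_surjective (sq₁.lift _ _ wπ)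
  have hπ1 : (yon S).map π' ≫ fst₁ = (yon S).map (SpA.map zs iR_C) ≫ p := by
    rw [hπ', sq₁.lift_fst]
  have hπ2 : π' ≫ SpA.map zs β = SpA.map zs iL_C := by
    apply (yon S).map_injective
    rw [Functor.map_comp, hπ', sq₁.lift_snd]
  have hπstr : π' ≫ SpA.str zs B' = SpA.str zs (B ⊗[A] C) := by
    rw [← SpA.map_str zs β, ← Category.assoc, hπ2, SpA.map_str]
  obtain ⟨ι, rfl⟩ := SpA.exists_map zs π' hπstr
  have sqTop : IsPullback ((yon S).map (SpA.map zs iR_C)) ((yon S).map (SpA.map zs ι)) p fst₁ := by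
    refine IsPullback.of_bot ?_ hπ1.symm sq₁
    rw [hpf, ← Functor.map_comp, hπ2]
    exact P1C
  have hιe : Etale (SpA.map zs ι).left := hpe.property _ _ _ sqTop
  have hιs : Surjective (SpA.map zs ι).left := hps.property _ _ _ sqTop
  have hιinj : Function.Injective ι := by
    have h1 : Flat (Spec.map (CommRingCat.ofHom ι.toRingHom)) := by
      haveI : Etale (Spec.map (CommRingCat.ofHom ι.toRingHom)) := hιe
      infer_instance
    have h2 : (CommRingCat.ofHom ι.toRingHom).hom.Flat :=
      (HasRingHomProperty.Spec_iff (P := @Flat)).1 h1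
    have h0 : Surjective (Spec.map (CommRingCat.ofHom ι.toRingHom)) := hιs
    have h3 : (ι.toRingHom).FaithfullyFlat :=
      (RingHom.FaithfullyFlat.iff_flat_and_comap_surjective).2
        ⟨h2, (Spec.map (CommRingCat.ofHom ι.toRingHom)).surjective⟩
    exact h3.injective
  -- the comparison map
  have wψ : (fst₁ ≫ φ) ≫ (yon S).map (SpA.str zs E) =
      (yon S).map (SpA.map zs β) ≫ (yon S).map (SpA.str zs B) := by
    rw [Category.assoc, hφf, sq₁.w]
  obtain ⟨ψ₀, hψ₀⟩ := (yon S).map_surjective (P1E.lift _ _ wψ)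
  have hψ1 : (yon S).map ψ₀ ≫ (yon S).map (SpA.map zs iR_E) = fst₁ ≫ φ := by
    rw [hψ₀, P1E.lift_fst]
  have hψ2 : ψ₀ ≫ SpA.map zs iL_E = SpA.map zs β := by
    apply (yon S).map_injective
    rw [Functor.map_comp, hψ₀, P1E.lift_snd]
  have hψstr : ψ₀ ≫ SpA.str zs (B ⊗[A] E) = SpA.str zs B' := by
    rw [← SpA.map_str zs iL_E, ← Category.assoc, hψ2, SpA.map_str]
  obtain ⟨θ, rfl⟩ := SpA.exists_map zs ψ₀ hψstr
  have sqψ : IsPullback fst₁ ((yon S).map (SpA.map zs θ)) φ ((yon S).map (SpA.map zs iR_E)) := by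
    refine IsPullback.of_bot ?_ hψ1.symm P1E
    rw [← Functor.map_comp, hψ2, hφf]
    exact sq₁
  -- compatibilities
  let mE : B ⊗[A] E →ₐ[A] B ⊗[A] C :=
    (Algebra.TensorProduct.map (AlgHom.id B B) εC).restrictScalars A
  let mσ : B ⊗[A] C →ₐ[A] B ⊗[A] D :=
    (Algebra.TensorProduct.map (AlgHom.id B B) σ).restrictScalars A
  let mτ : B ⊗[A] C →ₐ[A] B ⊗[A] D :=
    (Algebra.TensorProduct.map (AlgHom.id B B) τ).restrictScalars A
  have e1 : mE.comp iR_E = iR_C.comp εC := by
    ext x
    simp [mE, iR_E, iR_C]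
  have e2 : mE.comp iL_E = iL_C := by
    ext x
    simp [mE, iL_E, iL_C]
  have e3 : mσ.comp iR_C = iR_D.comp σ := by
    ext x
    simp [mσ, iR_D, iR_C]
  have e4 : mτ.comp iR_C = iR_D.comp τ := by
    ext x
    simp [mτ, iR_D, iR_C]
  have e5 : mσ.comp iL_C = iL_D := by
    ext x
    simp [mσ, iL_D, iL_C]
  have e6 : mτ.comp iL_C = iL_D := by
    ext x
    simp [mτ, iL_D, iL_C]
  have hcomp : SpA.map zs ι ≫ SpA.map zs θ = SpA.map zs mE := by
    apply (SpA.isPullback zs B E).hom_ext
    · apply (yon S).map_injective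
      have h1 : (yon S).map ((SpA.map zs ι ≫ SpA.map zs θ) ≫ SpA.map zs iR_E) =
          (yon S).map (SpA.map zs ι) ≫ fst₁ ≫ φ := by
        rw [Category.assoc, Functor.map_comp, Functor.map_comp, hψ1]
      refine h1.trans ?_
      rw [← Category.assoc, hπ1, Category.assoc, hφ, ← Functor.map_comp, ← SpA.map_comp,
        ← SpA.map_comp, e1]
    · rw [Category.assoc, hψ2, hπ2, ← SpA.map_comp, e2]
  have hιθ : ι.comp θ = mE := SpA.map_injective zs (by rw [SpA.map_comp]; exact hcomp)
  have hστι : mσ.comp ι = mτ.comp ι := by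
    apply SpA.map_injective zs
    rw [SpA.map_comp, SpA.map_comp]
    apply (yon S).map_injective
    apply sq₁.hom_ext
    · rw [Functor.map_comp, Functor.map_comp, Category.assoc, Category.assoc, hπ1,
        ← Category.assoc, ← Category.assoc, ← Functor.map_comp, ← Functor.map_comp,
        ← SpA.map_comp, ← SpA.map_comp, e3, e4, SpA.map_comp, SpA.map_comp, Functor.map_comp,
        Functor.map_comp, Category.assoc, Category.assoc, kp.w]
    · rw [← Functor.map_comp, ← Functor.map_comp, Category.assoc, Category.assoc, hπ2,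
        ← SpA.map_comp, ← SpA.map_comp, e5, e6]
  have hbij : Function.Bijective θ :=
    bijective_of_flat_equalizer σ τ ι.toRingHom hιinj θ.toRingHom
      (fun x => AlgHom.congr_fun hιθ x) (fun b' => AlgHom.congr_fun hστι b')
  have hiso : IsIso ((yon S).map (SpA.map zs θ)) := by
    have h1 : IsIso (CommRingCat.ofHom θ.toRingHom) :=
      (RingEquiv.ofBijective θ.toRingHom hbij).toCommRingCatIso.isIso_hom
    have h2 : IsIso ((Over.forget S).map (SpA.map zs θ)) := by
      show IsIso (Spec.map (CommRingCat.ofHom θ.toRingHom))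
      infer_instance
    have h3 : IsIso (SpA.map zs θ) := isIso_of_reflects_iso _ (Over.forget S)
    infer_instance
  -- the covering of `Spec E`
  have hflatB : Flat (Spec.map (CommRingCat.ofHom (algebraMap A B))) := by
    rw [HasRingHomProperty.Spec_iff (P := @Flat)]
    exact RingHom.flat_algebraMap_iff.2 inferInstance
  have sqSch := ((SpA.isPullback zs B E).map (Over.forget S)).flip
  have hcVf : Flat (SpA.map zs iR_E).left :=
    MorphismProperty.of_isPullback (P := @Flat) sqSch hflatB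
  have hcVs : Surjective (SpA.map zs iR_E).left :=
    MorphismProperty.of_isPullback (P := @Surjective) sqSch hsurj
  have hcov := isFpqcCover_yon_map (SpA.map zs iR_E) (SpA.isAffine zs E)
    (SpA.isAffine zs (B ⊗[A] E)) hcVs hcVf
  have hφiso : IsIso φ :=
    (isLocalOnBase_fpqc_isomorphisms (fun _ : PUnit.{u + 1} => (yon S).obj (SpA zs (B ⊗[A] E)))
      (fun _ => (yon S).map (SpA.map zs iR_E)) (IsAlgSpace.yon_obj _)
      (fun _ => IsAlgSpace.yon_obj _) hcov φ hX
      (fun _ => (yon S).obj (SpA zs B')) (fun _ => (yon S).map (SpA.map zs θ)) (fun _ => fst₁)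
      (fun _ => IsAlgSpace.yon_obj _) (fun _ => sqψ)).2 (fun _ => hiso)
  exact ⟨SpA zs E, SpA.isAffine zs E, ⟨(asIso φ).symm⟩⟩

end Groth.Agent.Lib.AffDescH7
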