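import Groth.Agent.Lib.AlgSpFpqc_helper7
import Mathlib.AlgebraicGeometry.Morphisms.FlatDescent
import Mathlib.AlgebraicGeometry.Morphisms.LocalFlatDescent

set_option autoImplicit false
universe u
open CategoryTheory CategoryTheory.Limits AlgebraicGeometry Opposite

namespace Groth.Agent.Lib.AlgSpFpqc2_helper7

/-- `Q` descends along standard fpqc coverings of affine schemes. -/
def DescendsFlatCover (Q : MorphismProperty Scheme.{u}) : Prop :=
  ∀ {Z : Scheme.{u}} [IsAffine Z] {m : ℕ} (W : Fin m → Scheme.{u}) (c : ∀ j, W j ⟶ Z),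
    (∀ j, IsAffine (W j)) → (∀ j, Flat (c j)) → (∀ z : Z, ∃ j, z ∈ Set.range (c j)) →
    ∀ {V : Scheme.{u}} (f : V ⟶ Z), (∀ j, Q (pullback.snd f (c j))) → Q f

theorem descendsFlatCover_of_descendsAlong (Q : MorphismProperty Scheme.{u})
    [IsZariskiLocalAtTarget Q]
    [Q.DescendsAlong (@Surjective ⊓ @Flat ⊓ @QuasiCompact)] : DescendsFlatCover Q := by
  intro Z _ m W c hW hc hs V f h
  have := hW
  have := hc
  let σ : ∐ W ⟶ Z := Sigma.desc c
  have hσs : Surjective σ := by
    refine ⟨fun z => ?_⟩
    obtain ⟨j, w, rfl⟩ := hs z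
    refine ⟨Sigma.ι W j w, ?_⟩
    rw [← Scheme.Hom.comp_apply, Sigma.ι_desc]
  have hqc : QuasiCompact σ := inferInstance
  have hfl : Flat σ := inferInstance
  refine MorphismProperty.of_pullback_snd_of_descendsAlong (P := Q)
    (Q := @Surjective ⊓ @Flat ⊓ @QuasiCompact) (f := f) (g := σ) ⟨⟨hσs, hfl⟩, hqc⟩ ?_
  rw [IsZariskiLocalAtTarget.iff_of_openCover (P := Q) (AlgebraicGeometry.sigmaOpenCover W)]
  intro j
  change Q (pullback.snd (pullback.snd f σ) (Sigma.ι W j))
  have sq1 := (IsPullback.of_hasPullback (pullback.snd f σ) (Sigma.ι W j)).paste_horiz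
    (IsPullback.of_hasPullback f σ)
  have e : Sigma.ι W j ≫ σ = c j := Sigma.ι_desc _ _
  rw [e] at sq1
  have sq2 := IsPullback.of_hasPullback f (c j)
  have he : (sq1.isoIsPullback _ _ sq2).hom ≫ pullback.snd f (c j) =
      pullback.snd (pullback.snd f σ) (Sigma.ι W j) := sq1.isoIsPullback_hom_snd _ _ sq2
  rw [← he, MorphismProperty.cancel_left_of_respectsIso (P := Q)]
  exact h j

theorem descendsFlatCover_inf {P Q : MorphismProperty Scheme.{u}} (hP : DescendsFlatCover P)
    (hQ : DescendsFlatCover Q) : DescendsFlatCover (P ⊓ Q) :=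
  fun W c hW hc hs _ f h => ⟨hP W c hW hc hs f fun j => (h j).1, hQ W c hW hc hs f fun j => (h j).2⟩

theorem descendsFlatCover_quasiCompact : DescendsFlatCover @QuasiCompact := by
  intro Z _ m W c hW hc hs V f h
  have := hW
  rw [quasiCompact_iff_compactSpace]
  have hc' : ∀ j, CompactSpace ↥(pullback f (c j)) := fun j =>
    (quasiCompact_iff_compactSpace (pullback.snd f (c j))).1 (h j)
  have : (Set.univ : Set V) = ⋃ j, Set.range (pullback.fst f (c j)) := by
    ext v
    simp only [Set.mem_univ, Set.mem_iUnion, Set.mem_range, true_iff]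
    obtain ⟨j, w, hw⟩ := hs (f v)
    obtain ⟨x, hx, _⟩ := Scheme.Pullback.exists_preimage_pullback v w hw.symm
    exact ⟨j, x, hx⟩
  rw [← isCompact_univ_iff, this]
  exact isCompact_iUnion fun j => isCompact_range (pullback.fst f (c j)).continuous

theorem descendsFlatCover_mono : DescendsFlatCover (MorphismProperty.monomorphisms Scheme.{u}) := by
  have : IsZariskiLocalAtTarget (MorphismProperty.monomorphisms Scheme.{u}) := by
    rw [← MorphismProperty.diagonal_isomorphisms]
    infer_instance
  have : (MorphismProperty.monomorphisms Scheme.{u}).DescendsAlong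
      (@Surjective ⊓ @Flat ⊓ @QuasiCompact) := by
    rw [← MorphismProperty.diagonal_isomorphisms]
    infer_instance
  intro Z _ m W c hW hc hs V f h
  exact descendsFlatCover_of_descendsAlong (MorphismProperty.monomorphisms Scheme.{u}) W c hW hc hs f h

theorem descendsFlatCover_isClosedImmersion : DescendsFlatCover @IsClosedImmersion := by
  intro Z _ m W c hW hc hs V f h
  have hm : Mono f := descendsFlatCover_mono W c hW hc hs f fun j =>
    (inferInstance : Mono (pullback.snd f (c j)))
  have huc : UniversallyClosed f :=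
    descendsFlatCover_of_descendsAlong @UniversallyClosed W c hW hc hs f fun j => inferInstance
  have hlft : LocallyOfFiniteType f :=
    descendsFlatCover_of_descendsAlong @LocallyOfFiniteType W c hW hc hs f fun j => inferInstance
  have : IsProper f := {}
  exact (IsClosedImmersion.iff_isProper_and_mono f).2 ⟨this, hm⟩

open AlgSp Groth.Agent.Lib.AlgSpPoints_helper7 Groth.Agent.Lib.AlgSpQC_helper7
  Groth.Agent.Lib.AlgSpSep_helper7 Groth.Agent.Lib.AlgSpFpqc_helper7

variable {S : Scheme.{u}}

/-- Properties of the diagonal which descend along standard fpqc coverings are fpqc local on the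
base. -/
theorem repWith_diagonal_isLocalOnBase_fpqc (Q : MorphismProperty Scheme.{u})
    [Q.IsStableUnderBaseChange] [IsZariskiLocalAtTarget Q] (hQ : DescendsFlatCover Q) :
    IsLocalOnBase (IsFpqcCover (S := S)) (fun _ _ f => RepWith Q (pullback.diagonal f)) := by
  intro ι Y Yi g hY hYi hcov X f hX Xi p q hXi sqs
  constructor
  · intro hf i
    exact repWith_diagonal_of_isPullback Q (sqs i) hf
  · intro hp
    have hd : Representable (pullback.diagonal f) :=
      (Groth.Agent.Lib.AlgSpDiag_helper7.diagonal_properties hX f).1.rep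
    apply repWith_of_forall_affine Q _ hd
    intro T V c fst' snd' hT sq'
    obtain ⟨m, W, cj, hW, hc, hsurj, hl⟩ := hcov.2 T hT (c ≫ pullback.fst f f ≫ f)
    have := hT
    refine hQ (fun j => (W j).left) (fun j => (cj j).left) hW hc hsurj snd'.left (fun j => ?_)
    obtain ⟨i, l, hl⟩ := hl j
    have sqj := isPullback_restrict sq' (cj j)
    have sqB := isPullback_map_base (sqs i)
    have hw : ((yon S).map (cj j) ≫ c) ≫ pullback.fst f f ≫ f = l ≫ g i := by
      rw [Category.assoc, hl]
    have hQj : Q (pullback.snd snd' (cj j)).left :=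
      property_of_factor Q sqj (isPullback_diagonal_of_isPullback (sqs i)).flip
        (sqB.lift_fst ((yon S).map (cj j) ≫ c) l hw) (hp i)
    have e : (PreservesPullback.iso (Over.forget S) snd' (cj j)).hom ≫
        pullback.snd snd'.left (cj j).left = (pullback.snd snd' (cj j)).left :=
      PreservesPullback.iso_hom_snd (Over.forget S) snd' (cj j)
    rw [← e] at hQj
    exact (MorphismProperty.cancel_left_of_respectsIso Q _ _).1 hQj

theorem isLocalOnBase_fpqc_isQuasiSeparatedMor :
    IsLocalOnBase (IsFpqcCover (S := S)) IsQuasiSeparatedMor :=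
  repWith_diagonal_isLocalOnBase_fpqc _ descendsFlatCover_quasiCompact

theorem isLocalOnBase_fpqc_isSeparatedMor :
    IsLocalOnBase (IsFpqcCover (S := S)) IsSeparatedMor :=
  repWith_diagonal_isLocalOnBase_fpqc _ descendsFlatCover_isClosedImmersion

theorem isLocalOnBase_congr {τ : CovNotion S} {P P' : MorphismProperty (Sp S)}
    (h : ∀ ⦃X Y : Sp S⦄ (f : X ⟶ Y), P f ↔ P' f) (hP : IsLocalOnBase τ P) :
    IsLocalOnBase τ P' := by
  intro ι Y Yi g hY hYi hcov X f hX Xi p q hXi sqs
  rw [← h f, hP Yi g hY hYi hcov f hX Xi p q hXi sqs]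
  exact forall_congr' fun i => h (p i)

theorem mono_iff_repWith_isomorphisms_diagonal {X Y : Sp S} (f : X ⟶ Y) :
    RepWith (MorphismProperty.isomorphisms Scheme.{u}) (pullback.diagonal f) ↔ Mono f := by
  constructor
  · intro h
    have := Groth.Agent.Lib.AlgSpTop_helper7.isIso_of_repWith_isomorphisms _ h
    exact (pullback.isIso_diagonal_iff f).1 this
  · intro h
    have : IsIso (pullback.diagonal f) := (pullback.isIso_diagonal_iff f).2 h
    exact Groth.Agent.Lib.AlgSpBasic_helper7.repWith_of_isIso _ _

theorem isLocalOnBase_fpqc_monomorphisms :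
    IsLocalOnBase (IsFpqcCover (S := S)) (MorphismProperty.monomorphisms (Sp S)) := by
  refine isLocalOnBase_congr (fun X Y f => mono_iff_repWith_isomorphisms_diagonal f)
    (repWith_diagonal_isLocalOnBase_fpqc (MorphismProperty.isomorphisms Scheme.{u}) ?_)
  intro Z _ m W c hW hc hs V f h
  exact descendsFlatCover_of_descendsAlong (MorphismProperty.isomorphisms Scheme.{u}) W c hW hc hs
    f h

end Groth.Agent.Lib.AlgSpFpqc2_helper7
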