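import Groth.Agent.Lib.AffDesc2_helper7
import Groth.Agent.Lib.AlgSpFpqc2_helper7

/-!
# Affine fpqc descent for algebraic spaces, part 3 (helper7)

`affine_descent`: the general form.
-/

set_option autoImplicit false
universe u
open CategoryTheory CategoryTheory.Limits AlgebraicGeometry Opposite TensorProduct MorphismProperty
open AlgSp Groth.Agent.Lib.AlgSpQC2_helper7 Groth.Agent.Lib.AlgSpPoints_helper7
  Groth.Agent.Lib.AlgSpQC_helper7 Groth.Agent.Lib.AlgSpPullback_helper7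
  Groth.Agent.Lib.AlgSpLocP_helper7 Groth.Agent.Lib.AlgSpFpqc3_helper7
  Groth.Agent.Lib.AlgSpIso_helper7 Groth.Agent.Lib.AlgSpAffine_helper7
  Groth.Agent.Lib.AlgSpSmST_helper7

namespace Groth.Agent.Lib.AffDescH7

variable {S : Scheme.{u}}

/-- An affine étale atlas of a quasi-compact sheaf over `Spec A`, in `Spec` form. -/
theorem exists_spA_atlas {A : Type u} [CommRing A] (zs : Spec (CommRingCat.of A) ⟶ S) {X : Sp S}
    (f : X ⟶ (yon S).obj (Over.mk zs)) (hqc : IsQuasiCompactSp X) :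
    ∃ (C : Type u) (_ : CommRing C) (_ : Algebra A C) (p : (yon S).obj (SpA zs C) ⟶ X),
      p ≫ f = (yon S).map (SpA.str zs C) ∧ RepWith @Etale p ∧ RepWith @Surjective p := by
  obtain ⟨U₀, p₀, hpe₀, hps₀, hU₀⟩ := hqc
  haveI : CompactSpace ↥U₀.left := hU₀
  obtain ⟨Y, q, hqs, hqe, hY⟩ :=
    Scheme.exists_hom_isAffine_of_isZariskiLocalAtSource @Etale U₀.left
  let U₁ : Over S := Over.mk (q ≫ U₀.hom)
  let j : U₁ ⟶ U₀ := Over.homMk q rfl
  let p₁ : (yon S).obj U₁ ⟶ X := (yon S).map j ≫ p₀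
  have hp₁e : RepWith @Etale p₁ :=
    repWith_comp @Etale ((repWith_yon_map_iff @Etale j).2 hqe) hpe₀
  have hp₁s : RepWith @Surjective p₁ :=
    repWith_comp @Surjective ((repWith_yon_map_iff @Surjective j).2 hqs) hps₀
  let u₁ : U₁ ⟶ Over.mk zs := (yon S).preimage (p₁ ≫ f)
  have hu₁ : (yon S).map u₁ = p₁ ≫ f := (yon S).map_preimage _
  obtain ⟨C, iC, aC, eC, heC⟩ := SpA.exists_iso zs (T := U₁) hY u₁
  haveI : IsIso eC.hom.left := inferInstanceAs (IsIso ((Over.forget S).map eC.hom))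
  refine ⟨C, iC, aC, (yon S).map eC.hom ≫ p₁, ?_, ?_, ?_⟩
  · rw [Category.assoc, ← hu₁, ← Functor.map_comp, heC]
  · exact repWith_comp @Etale ((repWith_yon_map_iff @Etale eC.hom).2 inferInstance) hp₁e
  · exact repWith_comp @Surjective ((repWith_yon_map_iff @Surjective eC.hom).2 inferInstance) hp₁s

set_option maxHeartbeats 1600000 in
/-- **Affine fpqc descent.** An algebraic space over an affine scheme `Z` whose base change along
a faithfully flat morphism of affine schemes `Z' ⟶ Z` is an affine scheme is an affine scheme. -/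
theorem affine_descent {Z Z' : Over S} (c : Z' ⟶ Z) (hZ : IsAffine Z.left)
    (hZ' : IsAffine Z'.left) (hs : Surjective c.left) (hfl : Flat c.left) {X : Sp S}
    (hX : IsAlgSpace X) (f : X ⟶ (yon S).obj Z) {V' : Over S} (hV' : IsAffine V'.left)
    (fst : (yon S).obj V' ⟶ X) (v' : V' ⟶ Z')
    (sq : IsPullback fst ((yon S).map v') f ((yon S).map c)) :
    ∃ V : Over S, IsAffine V.left ∧ Nonempty ((yon S).obj V ≅ X) := by
  haveI := hZ
  haveI := hZ'
  haveI := hV'
  let A : Type u := Γ(Z.left, ⊤)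
  let zs : Spec (CommRingCat.of A) ⟶ S := Z.left.isoSpec.inv ≫ Z.hom
  let eZ : Over.mk zs ≅ Z := Over.isoMk Z.left.isoSpec.symm rfl
  obtain ⟨B, iB, aB, eB, heB⟩ := SpA.exists_iso zs hZ' (c ≫ eZ.inv)
  obtain ⟨B', iB', aB', eV, heV⟩ := SpA.exists_iso zs hV' (v' ≫ c ≫ eZ.inv)
  let f₁ : X ⟶ (yon S).obj (Over.mk zs) := f ≫ (yon S).map eZ.inv
  have hβstr : (eV.hom ≫ v' ≫ eB.inv) ≫ SpA.str zs B = SpA.str zs B' := by
    rw [← heB, ← heV]
    simp
  obtain ⟨β, hβ⟩ := SpA.exists_map zs _ hβstr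
  have sq₁ : IsPullback ((yon S).map eV.hom ≫ fst) ((yon S).map (SpA.map zs β)) f₁
      ((yon S).map (SpA.str zs B)) := by
    refine IsPullback.of_iso sq ((yon S).mapIso eV).symm (Iso.refl _) ((yon S).mapIso eB).symm
      ((yon S).mapIso eZ).symm ?_ ?_ ?_ ?_
    · simp
    · rw [← hβ]
      simp
    · simp [f₁]
    · rw [← heB]
      simp
  have hleft : (SpA.str zs B).left = eB.hom.left ≫ c.left ≫ eZ.inv.left := by
    rw [← heB]
    rfl
  haveI : IsIso eB.hom.left := inferInstanceAs (IsIso ((Over.forget S).map eB.hom))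
  haveI : IsIso eZ.inv.left := inferInstanceAs (IsIso ((Over.forget S).map eZ.inv))
  have hsB : Surjective (Spec.map (CommRingCat.ofHom (algebraMap A B))) := by
    show Surjective (SpA.str zs B).left
    rw [hleft]
    haveI := hs
    infer_instance
  have hfB : Flat (Spec.map (CommRingCat.ofHom (algebraMap A B))) := by
    show Flat (SpA.str zs B).left
    rw [hleft]
    haveI := hfl
    infer_instance
  haveI : Module.Flat A B :=
    RingHom.flat_algebraMap_iff.1 ((HasRingHomProperty.Spec_iff (P := @Flat)).1 hfB)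
  have hZaff : IsAffine (Over.mk zs).left := by
    show IsAffine (Spec _)
    infer_instance
  have hcov := isFpqcCover_yon_map (SpA.str zs B) hZaff (SpA.isAffine zs B) hsB hfB
  haveI := SpA.isAffine zs B
  haveI := SpA.isAffine zs B'
  have hqc' : IsQuasiCompactMor ((yon S).map (SpA.map zs β)) :=
    isQuasiCompactMor_of_repWith _ ((repWith_yon_map_iff @QuasiCompact _).2 inferInstance)
  have hqc : IsQuasiCompactMor f₁ :=
    (Groth.Agent.Lib.AlgSpFpqc_helper7.isLocalOnBase_fpqc_isQuasiCompactMor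
      (fun _ : PUnit.{u + 1} => (yon S).obj (SpA zs B)) (fun _ => (yon S).map (SpA.str zs B))
      (IsAlgSpace.yon_obj _) (fun _ => IsAlgSpace.yon_obj _) hcov f₁ hX
      (fun _ => (yon S).obj (SpA zs B')) (fun _ => (yon S).map (SpA.map zs β))
      (fun _ => (yon S).map eV.hom ≫ fst) (fun _ => IsAlgSpace.yon_obj _) (fun _ => sq₁)).2
      (fun _ => hqc')
  haveI : CompactSpace ↥(Over.mk zs).left := by
    show CompactSpace ↥(Spec _)
    infer_instance
  have hqcX : IsQuasiCompactSp X :=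
    hqc (IsAlgSpace.yon_obj _) (isQuasiCompactSp_yon _) (𝟙 _) (𝟙 X) f₁ (isPullback_id_left f₁)
  have hsep' : IsSeparatedMor ((yon S).map (SpA.map zs β)) :=
    (isSeparatedMor_yon_map_iff _).2 inferInstance
  have hsep : IsSeparatedMor f₁ :=
    (Groth.Agent.Lib.AlgSpFpqc2_helper7.isLocalOnBase_fpqc_isSeparatedMor
      (fun _ : PUnit.{u + 1} => (yon S).obj (SpA zs B)) (fun _ => (yon S).map (SpA.str zs B))
      (IsAlgSpace.yon_obj _) (fun _ => IsAlgSpace.yon_obj _) hcov f₁ hX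
      (fun _ => (yon S).obj (SpA zs B')) (fun _ => (yon S).map (SpA.map zs β))
      (fun _ => (yon S).map eV.hom ≫ fst) (fun _ => IsAlgSpace.yon_obj _) (fun _ => sq₁)).2
      (fun _ => hsep')
  obtain ⟨C, iC, aC, p, hpf, hpe, hps⟩ := exists_spA_atlas zs f₁ hqcX
  have h0 : ∃ (W : Over S) (i : W ⟶ SpA zs C)
      (fstW : (yon S).obj W ⟶ (yon S).obj (SpA zs C)),
      IsPullback fstW ((yon S).map i) (p ≫ f₁) (p ≫ f₁) ∧ IsAffine W.left ∧
        (⊤ : MorphismProperty Scheme.{u}) i.left := by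
    refine ⟨SpA zs (C ⊗[A] C), SpA.map zs Algebra.TensorProduct.includeLeft,
      (yon S).map (SpA.map zs Algebra.TensorProduct.includeRight), ?_, SpA.isAffine zs _, trivial⟩
    rw [hpf]
    exact SpA.isPullback_yon zs C C
  obtain ⟨W, i, fstW, kpW, hW, -⟩ := exists_affine_pullback_of_comp p f₁ hsep ⊤
    (fun _ _ _ _ _ _ _ => trivial) p h0
  obtain ⟨D, iD, aD, eD, heD⟩ := SpA.exists_iso zs hW (i ≫ SpA.str zs C)
  obtain ⟨t₀, ht₀⟩ := (yon S).map_surjective fstW
  have hs_str : (eD.hom ≫ i) ≫ SpA.str zs C = SpA.str zs D := by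
    rw [Category.assoc, heD]
  have ht_str : (eD.hom ≫ t₀) ≫ SpA.str zs C = SpA.str zs D := by
    apply (yon S).map_injective
    calc (yon S).map ((eD.hom ≫ t₀) ≫ SpA.str zs C)
        = (yon S).map eD.hom ≫ (fstW ≫ p) ≫ f₁ := by
          rw [Functor.map_comp, Functor.map_comp, ht₀, ← hpf, Category.assoc, Category.assoc]
      _ = (yon S).map eD.hom ≫ ((yon S).map i ≫ p) ≫ f₁ := by rw [kpW.w]
      _ = (yon S).map (SpA.str zs D) := by
          rw [← heD, Functor.map_comp, Functor.map_comp, ← hpf, Category.assoc]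
  obtain ⟨τ', hτ'⟩ := SpA.exists_map zs _ hs_str
  obtain ⟨σ', hσ'⟩ := SpA.exists_map zs _ ht_str
  have kp : IsPullback ((yon S).map (SpA.map zs σ')) ((yon S).map (SpA.map zs τ')) p p := by
    refine IsPullback.of_iso kpW ((yon S).mapIso eD).symm (Iso.refl _) (Iso.refl _) (Iso.refl _)
      ?_ ?_ (by simp) (by simp)
    · rw [← hσ']
      simp [ht₀]
    · rw [← hτ']
      simp
  exact core zs hsB σ' τ' β hX f₁ p hpf hpe hps kp _ sq₁

end Groth.Agent.Lib.AffDescH7
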