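import Groth.Agent.Lib.AlgSpLocP7_helper7
import Groth.Agent.Lib.AlgSpOpenSub_helper7

set_option autoImplicit false
universe u
open CategoryTheory CategoryTheory.Limits AlgebraicGeometry Opposite

namespace Groth.Agent.Lib.AlgSpCov_helper7

open AlgSp Groth.Agent.Lib.AlgSpPoints_helper7 Groth.Agent.Lib.AlgSpTop_helper7
  Groth.Agent.Lib.AlgSpPullback_helper7 Groth.Agent.Lib.AlgSpBasic_helper7
  Groth.Agent.Lib.AlgSpLocP_helper7 Groth.Agent.Lib.AlgSpLocP4_helper7
  Groth.Agent.Lib.AlgSpLocP7_helper7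

variable {S : Scheme.{u}}

/-- A jointly surjective family of flat morphisms locally of finite presentation generates a
covering sieve of the fppf topology over `S`. -/
theorem ofArrows_mem_J {T : Over S} {κ : Type u} (Tk : κ → Over S) (c : ∀ k, Tk k ⟶ T)
    (hf : ∀ k, Flat (c k).left) (hp : ∀ k, LocallyOfFinitePresentation (c k).left)
    (hs : ∀ t : ↥T.left, ∃ k, t ∈ Set.range (c k).left) : Sieve.ofArrows Tk c ∈ J S T := by
  rw [J_eq, GrothendieckTopology.mem_over_iff]
  have hmem : Presieve.ofArrows (fun k => (Tk k).left) (fun k => (c k).left) ∈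
      Scheme.fppfPrecoverage T.left :=
    (Scheme.ofArrows_mem_precoverage_iff _).2 ⟨hs, fun k => ⟨hf k, hp k⟩⟩
  refine Scheme.fppfTopology.superset_covering ?_ (Precoverage.generate_mem_toGrothendieck hmem)
  rintro Z f ⟨W, a, b, ⟨k⟩, rfl⟩
  rw [Sieve.overEquiv_iff]
  refine ⟨Tk k, Over.homMk a ?_, c k, ⟨k⟩, ?_⟩
  · change a ≫ (Tk k).hom = (a ≫ (c k).left) ≫ T.hom
    rw [Category.assoc, Over.w]
  · ext
    rfl

/-- An fppf covering of an algebraic space by algebraic spaces is jointly surjective as a family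
of maps of sheaves. -/
theorem exists_fppf_local_lift {X : Sp S} (hX : IsAlgSpace X) {ι : Type u}
    (Xi : ι → Sp S) (hXi : ∀ i, IsAlgSpace (Xi i)) (g : ∀ i, Xi i ⟶ X)
    (h : IsFppfCover Xi g) (T : Over S) (t : (yon S).obj T ⟶ X) :
    ∃ (Tk : ι → Over S) (c : ∀ k, Tk k ⟶ T) (l : ∀ k, (yon S).obj (Tk k) ⟶ Xi k),
      Sieve.ofArrows Tk c ∈ J S T ∧ (∀ k, Flat (c k).left) ∧
      (∀ k, LocallyOfFinitePresentation (c k).left) ∧
      (∀ τ : ↥T.left, ∃ k, τ ∈ Set.range (c k).left) ∧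
      ∀ k, l k ≫ g k = (yon S).map (c k) ≫ t := by
  obtain ⟨h1, h2⟩ := h
  have hP : ∀ i, IsAlgSpace (pullback (g i) t) := fun i =>
    isAlgSpace_of_isPullback hX.diag (hXi i) (IsAlgSpace.yon_obj T)
      (IsPullback.of_hasPullback _ _)
  choose U p hpe hps using fun i => (hP i).atlas
  choose c hc using fun i => (yon S).map_surjective (p i ≫ pullback.snd (g i) t)
  have hfl : ∀ k, Flat (c k).left := fun k => by
    have hL : LocP @Flat (pullback.snd (g k) t) :=
      locP_baseChange etLocal_flat (hXi k) hX (IsAlgSpace.yon_obj T) (g k) t _ _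
        (IsPullback.of_hasPullback _ _) (h1 k).1
    exact hL (p k) (𝟙 _) (c k) (hpe k) (repWith_id _ T) (by rw [hc, Category.comp_id])
  have hfp : ∀ k, LocallyOfFinitePresentation (c k).left := fun k => by
    have hL : LocP @LocallyOfFinitePresentation (pullback.snd (g k) t) :=
      locP_baseChange etLocal_locallyOfFinitePresentation (hXi k) hX (IsAlgSpace.yon_obj T)
        (g k) t _ _ (IsPullback.of_hasPullback _ _) (h1 k).2
    exact hL (p k) (𝟙 _) (c k) (hpe k) (repWith_id _ T) (by rw [hc, Category.comp_id])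
  have hsurj : ∀ τ : ↥T.left, ∃ k, τ ∈ Set.range (c k).left := by
    intro τ
    obtain ⟨i, xi, hxi⟩ := h2 (Points.ofPt t τ)
    rw [Points.ofPt_eq_map_ofScheme] at hxi
    obtain ⟨z, hz1, hz2⟩ := exists_of_isPullback (IsPullback.of_hasPullback (g i) t) xi
      (Points.ofScheme T τ) hxi
    obtain ⟨u, hu⟩ := ofPt_surjective (p i) (hps i) z
    refine ⟨i, u, ?_⟩
    apply ofScheme_injective T
    rw [← ofPt_yon_map, hc, ← Points.map_ofPt, hu, hz2]
  refine ⟨U, c, fun k => p k ≫ pullback.fst _ _, ofArrows_mem_J U c hfl hfp hsurj, hfl, hfp,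
    hsurj, fun k => ?_⟩
  rw [Category.assoc, pullback.condition, ← Category.assoc, hc]

end Groth.Agent.Lib.AlgSpCov_helper7

namespace Groth.Agent.Lib.AlgSpCov_helper7

open AlgSp Groth.Agent.Lib.AlgSpPoints_helper7 Groth.Agent.Lib.AlgSpOpenSub_helper7

variable {S : Scheme.{u}}

/-- A flat, locally finitely presented, surjective morphism of algebraic spaces is a locally
surjective map of fppf sheaves. -/
theorem isLocallySurjective_of_fppf {X Z : Sp S} (hX : IsAlgSpace X) (hZ : IsAlgSpace Z)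
    (p : X ⟶ Z) (hf : LocP @Flat p) (hp : LocP @LocallyOfFinitePresentation p)
    (hs : IsSurjectiveMor p) : Sheaf.IsLocallySurjective p := by
  refine ⟨fun {T} s => ?_⟩
  obtain ⟨Tk, c, l, hmem, -, -, -, hl⟩ := exists_fppf_local_lift hZ
    (fun _ : PUnit.{u+1} => X) (fun _ => hX) (fun _ => p)
    ⟨fun _ => ⟨hf, hp⟩, fun z => ⟨PUnit.unit, hs z⟩⟩ T (yE.symm s)
  refine (J S).superset_covering ?_ hmem
  rintro V f ⟨W, g, _, ⟨k⟩, rfl⟩
  refine ⟨yE ((yon S).map g ≫ l k), ?_⟩
  have e1 : (yon S).map g ≫ l k ≫ p = yE.symm (Z.obj.map (g ≫ c k).op s) := by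
    rw [hl k, ← Category.assoc, ← Functor.map_comp, yE_symm_map]
  have e2 := congrArg yE e1
  rw [Equiv.apply_symm_apply, ← Category.assoc, yE_comp] at e2
  exact e2

theorem epi_of_fppf {X Z : Sp S} (hX : IsAlgSpace X) (hZ : IsAlgSpace Z)
    (p : X ⟶ Z) (hf : LocP @Flat p) (hp : LocP @LocallyOfFinitePresentation p)
    (hs : IsSurjectiveMor p) : Epi p := by
  have := isLocallySurjective_of_fppf hX hZ p hf hp hs
  infer_instance

end Groth.Agent.Lib.AlgSpCov_helper7
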