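import Groth.Agent.Lib.AlgSpOpenSub_helper7
import Groth.Prelude.Def_AlgSpRep

set_option autoImplicit false
universe u
open CategoryTheory CategoryTheory.Limits AlgebraicGeometry Opposite

namespace Groth.Agent.Lib.AlgSpRepBySp_helper7

open AlgSp Groth.Agent.Lib.AlgSpPoints_helper7 Groth.Agent.Lib.AlgSpTop_helper7
  Groth.Agent.Lib.AlgSpPullback_helper7 Groth.Agent.Lib.AlgSpBasic_helper7

variable {S : Scheme.{u}}

/-- A presheaf with a map representable by algebraic spaces to a sheaf is a sheaf. -/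
theorem isSheaf_of_repBySp {F G : PSp S} (a : F ⟶ G) (ha : RepBySp a)
    (hG : Presheaf.IsSheaf (J S) G) : Presheaf.IsSheaf (J S) F := by
  rw [isSheaf_iff_isSheaf_of_type] at hG ⊢
  intro T R hR x hx
  obtain ⟨y, hy1, hy2⟩ := hG R hR _ (hx.map a)
  let ξ : (pyon S).obj T ⟶ G := uliftYonedaEquiv.symm y
  have sq := IsPullback.of_hasPullback a ξ
  obtain ⟨hF', -⟩ := ha ξ _ _ sq
  rw [isSheaf_iff_isSheaf_of_type] at hF'
  have hξ : ∀ {T' : Over S} (f : T' ⟶ T), ξ.app (op T') (ULift.up f) = G.map f.op y :=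
    fun f => rfl
  have key : ∀ {T' : Over S} (f : T' ⟶ T) (hf : R f),
      a.app (op T') (x f hf) = ξ.app (op T') (ULift.up f) := by
    intro T' f hf
    rw [hξ]
    exact (hy1 f hf).symm
  have ex : ∀ {T' : Over S} (f : T' ⟶ T) (hf : R f), ∃ w : (pullback a ξ).obj (op T'),
      (pullback.fst a ξ).app (op T') w = x f hf ∧
        (pullback.snd a ξ).app (op T') w = ULift.up f := fun f hf =>
    Types.exists_of_isPullback (sq.app (op _)) (x f hf) (ULift.up f) (key f hf)
  let x' : Presieve.FamilyOfElements (pullback a ξ) R := fun T' f hf => (ex f hf).choose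
  have hx'1 : ∀ {T' : Over S} (f : T' ⟶ T) (hf : R f),
      (pullback.fst a ξ).app (op T') (x' f hf) = x f hf := fun f hf => (ex f hf).choose_spec.1
  have hx'2 : ∀ {T' : Over S} (f : T' ⟶ T) (hf : R f),
      (pullback.snd a ξ).app (op T') (x' f hf) = ULift.up f := fun f hf => (ex f hf).choose_spec.2
  have hx'c : x'.Compatible := by
    intro Y₁ Y₂ Z g₁ g₂ f₁ f₂ h₁ h₂ comm
    apply Types.ext_of_isPullback (sq.app (op Z))
    · rw [NatTrans.naturality_apply, NatTrans.naturality_apply, hx'1, hx'1]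
      exact hx g₁ g₂ h₁ h₂ comm
    · rw [NatTrans.naturality_apply, NatTrans.naturality_apply, hx'2, hx'2]
      change ULift.up (g₁ ≫ f₁) = ULift.up (g₂ ≫ f₂)
      rw [comm]
  obtain ⟨t', ht'1, ht'2⟩ := hF' R hR x' hx'c
  refine ⟨(pullback.fst a ξ).app (op T) t', ?_, ?_⟩
  · intro T' f hf
    change F.map f.op ((pullback.fst a ξ).app (op T) t') = x f hf
    rw [← NatTrans.naturality_apply, ht'1 f hf, hx'1]
  · intro t₂ ht₂
    have hat₂ : a.app (op T) t₂ = y := by
      apply hy2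
      intro T' f hf
      change G.map f.op (a.app (op T) t₂) = a.app (op T') (x f hf)
      rw [← NatTrans.naturality_apply, ht₂ f hf]
    obtain ⟨t₂', h1, h2⟩ := Types.exists_of_isPullback (sq.app (op T)) t₂ (ULift.up (𝟙 T))
      (by rw [hat₂, hξ]; simp)
    have : t₂' = t' := by
      apply ht'2
      intro T' f hf
      apply Types.ext_of_isPullback (sq.app (op T'))
      · rw [NatTrans.naturality_apply, h1, hx'1]
        exact ht₂ f hf
      · rw [NatTrans.naturality_apply, h2, hx'2]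
        change ULift.up (f ≫ 𝟙 T) = ULift.up f
        rw [Category.comp_id]
    rw [← this, h1]

/-- Base change of a map representable by algebraic spaces. -/
theorem repBySp_of_isPullback {F G F' G' : PSp S} {a : F ⟶ G} {ξ : G' ⟶ G} {fst : F' ⟶ F}
    {snd : F' ⟶ G'} (sq : IsPullback fst snd a ξ) (ha : RepBySp a) : RepBySp snd := by
  intro U ζ F'' fst' snd' sq'
  exact ha (ζ ≫ ξ) (fst' ≫ fst) snd' (sq'.paste_horiz sq)

/-- Every map from a scheme to the source of a morphism of sheaves representable by algebraic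
spaces with target an algebraic space is representable. -/
theorem representable_from_yon_of_repBySp {F G : Sp S} (a : F ⟶ G) (ha : RepBySp a.hom)
    (hG : IsAlgSpace G) {T : Over S} (c : (yon S).obj T ⟶ F) : Representable c := by
  have H := (repBySp_hom_iff a).1 ha
  intro T' c'
  obtain ⟨E, e', e, sqE⟩ := hG.representable_from_yon (c ≫ a) (c' ≫ a)
  let ξE : (yon S).obj E ⟶ G := e ≫ c ≫ a
  have sq₁ := IsPullback.of_hasPullback a ξE
  have hFE : IsAlgSpace (pullback a ξE) := H ξE _ _ sq₁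
  let s : (yon S).obj E ⟶ pullback a ξE := pullback.lift (e ≫ c) (𝟙 _)
    (by rw [Category.id_comp, Category.assoc])
  let s' : (yon S).obj E ⟶ pullback a ξE := pullback.lift ((yon S).map e' ≫ c') (𝟙 _)
    (by rw [Category.id_comp, Category.assoc, ← sqE.w])
  have hs1 : s ≫ pullback.fst a ξE = e ≫ c := pullback.lift_fst _ _ _
  have hs2 : s ≫ pullback.snd a ξE = 𝟙 _ := pullback.lift_snd _ _ _
  have hs'1 : s' ≫ pullback.fst a ξE = (yon S).map e' ≫ c' := pullback.lift_fst _ _ _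
  have hs'2 : s' ≫ pullback.snd a ξE = 𝟙 _ := pullback.lift_snd _ _ _
  obtain ⟨Q, k', k, sqQ⟩ := hFE.representable_from_yon s s'
  have hk : k = (yon S).map k' := by
    have := congrArg (· ≫ pullback.snd a ξE) sqQ.w
    simpa only [Category.assoc, hs2, hs'2, Category.comp_id] using this
  refine ⟨Q, k' ≫ e', k ≫ e, ?_⟩
  have w : (k ≫ e) ≫ c = (yon S).map (k' ≫ e') ≫ c' := by
    have := congrArg (· ≫ pullback.fst a ξE) sqQ.w
    simp only [Category.assoc, hs1, hs'1] at this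
    rw [Category.assoc, this, Functor.map_comp, Category.assoc]
  refine isPullback_of_forall_yon w ?_
  intro Z α β h
  let ε : (yon S).obj Z ⟶ (yon S).obj E := sqE.lift α β (by
    rw [← Category.assoc, h, Category.assoc])
  have hε1 : ε ≫ e = α := sqE.lift_fst _ _ _
  have hε2 : ε ≫ (yon S).map e' = β := sqE.lift_snd _ _ _
  have hεs : ε ≫ s = ε ≫ s' := by
    apply pullback.hom_ext
    · rw [Category.assoc, Category.assoc, hs1, hs'1, ← Category.assoc, ← Category.assoc, hε1, hε2, h]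
    · rw [Category.assoc, Category.assoc, hs2, hs'2]
  refine ⟨sqQ.lift ε ε hεs, ⟨?_, ?_⟩, ?_⟩
  · rw [← Category.assoc, sqQ.lift_fst, hε1]
  · rw [Functor.map_comp, ← Category.assoc, sqQ.lift_snd, hε2]
  · rintro p₁ ⟨hp1, hp2⟩
    have h1 : p₁ ≫ k = ε := by
      apply sqE.hom_ext
      · rw [Category.assoc, hp1, hε1]
      · rw [hk, Category.assoc, ← Functor.map_comp, hp2, hε2]
    have h2 : p₁ ≫ (yon S).map k' = ε := by rw [← hk]; exact h1
    apply sqQ.hom_ext
    · rw [h1, sqQ.lift_fst]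
    · rw [h2, sqQ.lift_snd]

/-- The source of a morphism of sheaves representable by algebraic spaces with target an
algebraic space is an algebraic space. -/
theorem isAlgSpace_of_repBySp {F G : Sp S} (a : F ⟶ G) (ha : RepBySp a.hom) (hG : IsAlgSpace G) :
    IsAlgSpace F := by
  have H := (repBySp_hom_iff a).1 ha
  refine ⟨Functor.relativelyRepresentable.diag_of_map_from_obj
    (fun T c => representable_from_yon_of_repBySp a ha hG c), ?_⟩
  obtain ⟨V, p, hpe, hps⟩ := hG.atlas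
  have sqV := IsPullback.of_hasPullback a p
  have hFV : IsAlgSpace (pullback a p) := H p _ _ sqV
  obtain ⟨W, w, hwe, hws⟩ := hFV.atlas
  have key : ∀ ⦃T : Over S⦄ (c : (yon S).obj T ⟶ F), ∃ (T'' : Over S)
      (fst : (yon S).obj T'' ⟶ (yon S).obj W) (snd : T'' ⟶ T),
      ∃ (_ : IsPullback fst ((yon S).map snd) (w ≫ pullback.fst a p) c),
        Etale snd.left ∧ Surjective snd.left := by
    intro T c
    have sqT := hpe.rep.isPullback (c ≫ a)
    let r : (yon S).obj (hpe.rep.pullback (c ≫ a)) ⟶ pullback a p :=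
      pullback.lift ((yon S).map (hpe.rep.snd (c ≫ a)) ≫ c) (hpe.rep.fst (c ≫ a))
        (by rw [Category.assoc]; exact sqT.w.symm)
    have hr1 : r ≫ pullback.fst a p = (yon S).map (hpe.rep.snd (c ≫ a)) ≫ c :=
      pullback.lift_fst _ _ _
    have hr2 : r ≫ pullback.snd a p = hpe.rep.fst (c ≫ a) := pullback.lift_snd _ _ _
    have sqL : IsPullback r ((yon S).map (hpe.rep.snd (c ≫ a))) (pullback.fst a p) c := by
      refine IsPullback.of_right ?_ hr1 sqV.flip
      rw [hr2]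
      exact sqT
    have sqW := hwe.rep.isPullback r
    have sqB := sqW.paste_vert sqL
    rw [← Functor.map_comp] at sqB
    refine ⟨_, _, _, sqB, ?_, ?_⟩
    · have h1 : Etale (hwe.rep.snd r).left := hwe.property_snd r
      have h2 : Etale (hpe.rep.snd (c ≫ a)).left := hpe.property_snd (c ≫ a)
      rw [Over.comp_left]
      infer_instance
    · have h1 : Surjective (hwe.rep.snd r).left := hws.property _ _ _ sqW
      have h2 : Surjective (hpe.rep.snd (c ≫ a)).left := hps.property _ _ _ sqT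
      rw [Over.comp_left]
      infer_instance
  refine ⟨W, w ≫ pullback.fst a p, ?_, ?_⟩
  · apply MorphismProperty.relative.of_exists
    intro T c
    obtain ⟨T'', fst, snd, sq, h1, -⟩ := key c
    exact ⟨T'', fst, snd, sq, h1⟩
  · apply MorphismProperty.relative.of_exists
    intro T c
    obtain ⟨T'', fst, snd, sq, -, h2⟩ := key c
    exact ⟨T'', fst, snd, sq, h2⟩

/-- The presheaf form. -/
theorem isAlgSpaceP_of_repBySp {F G : PSp S} (a : F ⟶ G) (ha : RepBySp a) (hG : IsAlgSpaceP G) :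
    IsAlgSpaceP F := by
  obtain ⟨hGs, hGa⟩ := hG
  have hF := isSheaf_of_repBySp a ha hGs
  exact ⟨hF, isAlgSpace_of_repBySp (F := ⟨F, hF⟩) (G := ⟨G, hGs⟩) (ObjectProperty.homMk a) ha hGa⟩

/-- Base change along a map from an algebraic space. -/
theorem isAlgSpaceP_of_isPullback {F G X F' : PSp S} {a : F ⟶ G} (ha : RepBySp a)
    (hX : IsAlgSpaceP X) {ξ : X ⟶ G} {fst : F' ⟶ X} {snd : F' ⟶ F} (sq : IsPullback fst snd ξ a) :
    IsAlgSpaceP F' :=
  isAlgSpaceP_of_repBySp fst (repBySp_of_isPullback sq.flip ha) hX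

/-- Composition. -/
theorem repBySp_comp {F G H : PSp S} {a : F ⟶ G} {b : G ⟶ H} (ha : RepBySp a) (hb : RepBySp b) :
    RepBySp (a ≫ b) := by
  intro U ξ F'' fst snd sq
  have sqG := IsPullback.of_hasPullback b ξ
  have hG' : IsAlgSpaceP (pullback b ξ) := hb ξ _ _ sqG
  let r : F'' ⟶ pullback b ξ := pullback.lift (fst ≫ a) snd (by rw [Category.assoc]; exact sq.w)
  have hr1 : r ≫ pullback.fst b ξ = fst ≫ a := pullback.lift_fst _ _ _
  have hr2 : r ≫ pullback.snd b ξ = snd := pullback.lift_snd _ _ _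
  have sqL : IsPullback fst r a (pullback.fst b ξ) := by
    refine IsPullback.of_bot ?_ hr1.symm sqG
    rw [hr2]
    exact sq
  exact isAlgSpaceP_of_isPullback ha hG' sqL.flip


section General

variable {C : Type*} [Category C]

/-- Pullback squares from unique existence of lifts. -/
theorem isPullback_of_existsUnique {P X Y Z : C} {fst : P ⟶ X} {snd : P ⟶ Y} {f : X ⟶ Z}
    {g : Y ⟶ Z} (w : fst ≫ f = snd ≫ g)
    (h : ∀ {W : C} (α : W ⟶ X) (β : W ⟶ Y), α ≫ f = β ≫ g →
      ∃! l : W ⟶ P, l ≫ fst = α ∧ l ≫ snd = β) :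
    IsPullback fst snd f g := by
  refine ⟨⟨w⟩, ⟨PullbackCone.IsLimit.mk _ (fun s => (h s.fst s.snd s.condition).choose)
    ?_ ?_ ?_⟩⟩
  · intro s; exact (h s.fst s.snd s.condition).choose_spec.1.1
  · intro s; exact (h s.fst s.snd s.condition).choose_spec.1.2
  · intro s m h1 h2; exact (h s.fst s.snd s.condition).choose_spec.2 m ⟨h1, h2⟩

set_option backward.isDefEq.respectTransparency false in
theorem isPullback_prod_fst_map [HasBinaryProducts C] {F G : C} (a : F ⟶ G) (K : C) :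
    IsPullback (prod.fst : F ⨯ K ⟶ F) (prod.map a (𝟙 K)) a prod.fst := by
  refine isPullback_of_existsUnique ?_ ?_
  · simp
  intro W α β h
  refine ⟨prod.lift α (β ≫ prod.snd), ⟨by simp, ?_⟩, ?_⟩
  · apply prod.hom_ext
    · simp [h]
    · simp
  · rintro m ⟨hm1, hm2⟩
    apply prod.hom_ext
    · simpa using hm1
    · have := congrArg (· ≫ prod.snd) hm2
      simpa using this

set_option backward.isDefEq.respectTransparency false in
theorem isPullback_prod_snd_map [HasBinaryProducts C] {F G : C} (a : F ⟶ G) (K : C) :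
    IsPullback (prod.snd : K ⨯ F ⟶ F) (prod.map (𝟙 K) a) a prod.snd := by
  refine isPullback_of_existsUnique ?_ ?_
  · simp
  intro W α β h
  refine ⟨prod.lift (β ≫ prod.fst) α, ⟨by simp, ?_⟩, ?_⟩
  · apply prod.hom_ext
    · simp
    · simp [h]
  · rintro m ⟨hm1, hm2⟩
    apply prod.hom_ext
    · have := congrArg (· ≫ prod.fst) hm2
      simpa using this
    · simpa using hm1

set_option backward.isDefEq.respectTransparency false in
theorem isPullback_diag_of_isPullback [HasBinaryProducts C] {P X Y F : C} {fst : P ⟶ X}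
    {snd : P ⟶ Y} {ξ : X ⟶ F} {η : Y ⟶ F} (sq : IsPullback fst snd ξ η) :
    IsPullback (fst ≫ ξ) (prod.lift fst snd) (Limits.diag F) (prod.map ξ η) := by
  refine isPullback_of_existsUnique ?_ ?_
  · apply prod.hom_ext
    · simp
    · simp [sq.w]
  · intro W α β h
    have h1 : α = β ≫ prod.fst ≫ ξ := by
      have := congrArg (· ≫ prod.fst) h
      simpa using this
    have h2 : α = β ≫ prod.snd ≫ η := by
      have := congrArg (· ≫ prod.snd) h
      simpa using this
    have hc : (β ≫ prod.fst) ≫ ξ = (β ≫ prod.snd) ≫ η := by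
      rw [Category.assoc, Category.assoc, ← h1, ← h2]
    refine ⟨sq.lift (β ≫ prod.fst) (β ≫ prod.snd) hc, ⟨?_, ?_⟩, ?_⟩
    · rw [← Category.assoc, sq.lift_fst, Category.assoc, ← h1]
    · apply prod.hom_ext
      · rw [Category.assoc, prod.lift_fst, sq.lift_fst]
      · rw [Category.assoc, prod.lift_snd, sq.lift_snd]
    · rintro m ⟨-, hm⟩
      apply sq.hom_ext
      · rw [sq.lift_fst, ← hm, Category.assoc, prod.lift_fst]
      · rw [sq.lift_snd, ← hm, Category.assoc, prod.lift_snd]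

end General

/-- Products of maps representable by algebraic spaces. -/
theorem repBySp_prod_map {F₁ G₁ F₂ G₂ : PSp S} {a₁ : F₁ ⟶ G₁} {a₂ : F₂ ⟶ G₂} (h₁ : RepBySp a₁)
    (h₂ : RepBySp a₂) : RepBySp (prod.map a₁ a₂) := by
  have e : prod.map a₁ a₂ = prod.map a₁ (𝟙 F₂) ≫ prod.map (𝟙 G₁) a₂ := by
    rw [prod.map_map, Category.comp_id, Category.id_comp]
  rw [e]
  exact repBySp_comp (repBySp_of_isPullback (isPullback_prod_fst_map a₁ F₂) h₁)
    (repBySp_of_isPullback (isPullback_prod_snd_map a₂ G₁) h₂)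

/-- Cancellation. -/
theorem repBySp_of_comp {F G H : PSp S} {a : F ⟶ G} {b : G ⟶ H}
    (hΔ : RepBySp (pullback.diagonal b)) (hab : RepBySp (a ≫ b)) : RepBySp a := by
  intro U ξ F'' fst snd sq
  have hP : IsAlgSpaceP (pullback (a ≫ b) (ξ ≫ b)) :=
    hab (ξ ≫ b) _ _ (IsPullback.of_hasPullback _ _)
  have h := isAlgSpaceP_of_isPullback hΔ hP (pullback_map_diagonal_isPullback a ξ b).flip
  exact h.of_iso ((IsPullback.of_hasPullback a ξ).isoIsPullback _ _ sq)

theorem isAlgSpaceP_pyon (U : Over S) : IsAlgSpaceP ((pyon S).obj U) :=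
  (isAlgSpaceP_obj_iff ((yon S).obj U)).2 (IsAlgSpace.yon_obj U)

/-- The relative diagonal of a map representable by algebraic spaces. -/
theorem repBySp_diagonal {F G : PSp S} {a : F ⟶ G} (ha : RepBySp a) :
    RepBySp (pullback.diagonal a) := by
  intro U ξ F'' fst snd sq
  obtain ⟨x₁, hx₁⟩ : ∃ x₁ : (pyon S).obj U ⟶ F, x₁ = ξ ≫ pullback.fst a a := ⟨_, rfl⟩
  obtain ⟨x₂, hx₂⟩ : ∃ x₂ : (pyon S).obj U ⟶ F, x₂ = ξ ≫ pullback.snd a a := ⟨_, rfl⟩
  have hy : x₁ ≫ a = x₂ ≫ a := by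
    rw [hx₁, hx₂, Category.assoc, Category.assoc, pullback.condition]
  obtain ⟨hsh, hA⟩ := ha (x₁ ≫ a) _ _ (IsPullback.of_hasPullback a (x₁ ≫ a))
  obtain ⟨s₁, hs11, hs12⟩ : ∃ s₁ : (pyon S).obj U ⟶ pullback a (x₁ ≫ a),
      s₁ ≫ pullback.fst a (x₁ ≫ a) = x₁ ∧ s₁ ≫ pullback.snd a (x₁ ≫ a) = 𝟙 _ :=
    ⟨pullback.lift x₁ (𝟙 _) (by rw [Category.id_comp]), pullback.lift_fst _ _ _,
      pullback.lift_snd _ _ _⟩
  obtain ⟨s₂, hs21, hs22⟩ : ∃ s₂ : (pyon S).obj U ⟶ pullback a (x₁ ≫ a),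
      s₂ ≫ pullback.fst a (x₁ ≫ a) = x₂ ∧ s₂ ≫ pullback.snd a (x₁ ≫ a) = 𝟙 _ :=
    ⟨pullback.lift x₂ (𝟙 _) (by rw [Category.id_comp, hy]), pullback.lift_fst _ _ _,
      pullback.lift_snd _ _ _⟩
  let FU : Sp S := ⟨pullback a (x₁ ≫ a), hsh⟩
  let t₁ : (yon S).obj U ⟶ FU := ObjectProperty.homMk s₁
  let t₂ : (yon S).obj U ⟶ FU := ObjectProperty.homMk s₂
  obtain ⟨Q, k', k, sqQ⟩ := hA.representable_from_yon t₁ t₂
  obtain ⟨kh, sqQ'⟩ : ∃ kh : (pyon S).obj Q ⟶ (pyon S).obj U,
      IsPullback kh ((pyon S).map k') s₁ s₂ :=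
    ⟨k.hom, sqQ.map (sheafToPresheaf (J S) (Type (u + 1)))⟩
  have hk : kh = (pyon S).map k' := by
    have := congrArg (· ≫ pullback.snd a (x₁ ≫ a)) sqQ'.w
    simpa only [Category.assoc, hs12, hs22, Category.comp_id] using this
  have hkx : kh ≫ x₁ = kh ≫ x₂ := by
    have := congrArg (· ≫ pullback.fst a (x₁ ≫ a)) sqQ'.w
    simp only [Category.assoc, hs11, hs21] at this
    rw [this, hk]
  have sqN : IsPullback (kh ≫ x₁) kh (pullback.diagonal a) ξ := by
    refine isPullback_of_existsUnique ?_ ?_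
    · apply pullback.hom_ext
      · rw [Category.assoc, pullback.diagonal_fst, Category.comp_id, Category.assoc, hx₁]
      · rw [Category.assoc, pullback.diagonal_snd, Category.comp_id, Category.assoc, ← hx₂]
        exact hkx
    · intro Z α β h
      have h1 : α = β ≫ x₁ := by
        have := congrArg (· ≫ pullback.fst a a) h
        simp only [Category.assoc, pullback.diagonal_fst, Category.comp_id] at this
        rw [this, hx₁]
      have h2 : α = β ≫ x₂ := by
        have := congrArg (· ≫ pullback.snd a a) h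
        simp only [Category.assoc, pullback.diagonal_snd, Category.comp_id] at this
        rw [this, hx₂]
      have hβ : β ≫ s₁ = β ≫ s₂ := by
        apply pullback.hom_ext
        · rw [Category.assoc, Category.assoc, hs11, hs21, ← h1, ← h2]
        · rw [Category.assoc, Category.assoc, hs12, hs22]
      refine ⟨sqQ'.lift β β hβ, ⟨?_, sqQ'.lift_fst _ _ _⟩, ?_⟩
      · rw [← Category.assoc, sqQ'.lift_fst, ← h1]
      · rintro m ⟨-, hm2⟩
        have hm3 : m ≫ (pyon S).map k' = β := by rw [← hk]; exact hm2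
        apply sqQ'.hom_ext
        · rw [hm2, sqQ'.lift_fst]
        · rw [hm3, sqQ'.lift_snd]
  exact (isAlgSpaceP_pyon Q).of_iso (sqN.isoIsPullback _ _ sq)

/-- A map of algebraic spaces (as presheaves) is representable by algebraic spaces. -/
theorem repBySp_of_isAlgSpaceP {X Z : PSp S} (hX : IsAlgSpaceP X) (hZ : IsAlgSpaceP Z)
    (f : X ⟶ Z) : RepBySp f := by
  obtain ⟨hXs, hXa⟩ := hX
  obtain ⟨hZs, hZa⟩ := hZ
  exact (repBySp_hom_iff (F := ⟨X, hXs⟩) (G := ⟨Z, hZs⟩) (ObjectProperty.homMk f)).2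
    (fun U ξ F' fst snd sq => isAlgSpace_of_isPullback hZa.diag hXa (IsAlgSpace.yon_obj U) sq)

theorem isAlgSpaceP_prod_pyon (T U : Over S) :
    IsAlgSpaceP ((pyon S).obj T ⨯ (pyon S).obj U) :=
  (isAlgSpaceP_pyon (T ⨯ U)).of_iso (PreservesLimitPair.iso (pyon S) T U)

theorem repBySp_of_repBySp_diag {F : PSp S} (hΔ : RepBySp (Limits.diag F)) (T : Over S)
    (ξ : (pyon S).obj T ⟶ F) : RepBySp ξ := by
  intro U η F'' fst snd sq
  exact isAlgSpaceP_of_isPullback hΔ (isAlgSpaceP_prod_pyon T U)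
    (isPullback_diag_of_isPullback sq).flip

set_option backward.isDefEq.respectTransparency false in
theorem repBySp_diag_of_forall {F : PSp S}
    (H : ∀ (T : Over S) (ξ : (pyon S).obj T ⟶ F), RepBySp ξ) : RepBySp (Limits.diag F) := by
  intro U ζ F'' fst snd sq
  obtain ⟨x₁, hx₁⟩ : ∃ x₁ : (pyon S).obj U ⟶ F, x₁ = ζ ≫ prod.fst := ⟨_, rfl⟩
  obtain ⟨x₂, hx₂⟩ : ∃ x₂ : (pyon S).obj U ⟶ F, x₂ = ζ ≫ prod.snd := ⟨_, rfl⟩
  have hE : IsAlgSpaceP (pullback x₁ x₂) := H U x₁ x₂ _ _ (IsPullback.of_hasPullback x₁ x₂)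
  have sqR := isPullback_diag_of_isPullback (IsPullback.of_hasPullback x₁ x₂)
  have hζ : ζ = Limits.diag _ ≫ prod.map x₁ x₂ := by
    apply prod.hom_ext <;> simp [hx₁, hx₂]
  have hw : fst ≫ Limits.diag F = (snd ≫ Limits.diag _) ≫ prod.map x₁ x₂ := by
    rw [sq.w, Category.assoc, ← hζ]
  obtain ⟨l, hl1, hl2⟩ : ∃ l : F'' ⟶ pullback x₁ x₂, l ≫ pullback.fst x₁ x₂ ≫ x₁ = fst ∧
      l ≫ prod.lift (pullback.fst x₁ x₂) (pullback.snd x₁ x₂) = snd ≫ Limits.diag _ :=
    ⟨sqR.lift fst (snd ≫ Limits.diag _) hw, sqR.lift_fst _ _ _, sqR.lift_snd _ _ _⟩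
  have sqL : IsPullback l snd (prod.lift (pullback.fst x₁ x₂) (pullback.snd x₁ x₂))
      (Limits.diag _) := by
    refine IsPullback.of_right ?_ hl2 sqR
    rw [hl1, ← hζ]
    exact sq
  exact isAlgSpaceP_of_isPullback
    (repBySp_of_isAlgSpaceP (isAlgSpaceP_pyon U) (isAlgSpaceP_prod_pyon U U) _) hE sqL

open Groth.Agent.Lib.AlgSpEpi_helper7 in
/-- A flat, surjective, locally finitely presented map representable by algebraic spaces is an
epimorphism of sheaves. -/
theorem epi_of_repBySpWith_fppf {F G : Sp S} (a : F ⟶ G)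
    (ha : RepBySpWith (IsSurjectiveMor ⊓ LocP @Flat ⊓ LocP @LocallyOfFinitePresentation) a.hom) :
    Epi a := by
  have H := (repBySpWith_hom_iff _ a).1 ha
  refine ⟨fun {Z} α β hab => ?_⟩
  refine GrothendieckTopology.hom_ext_uliftYoneda.{u+1} _ (fun T s => ?_)
  have sq := IsPullback.of_hasPullback a s
  obtain ⟨hA, ⟨hsurj, hflat⟩, hlfp⟩ := H s _ _ sq
  obtain ⟨W, w, hwe, hws⟩ := hA.atlas
  obtain ⟨φ, hφ⟩ := (yon S).map_surjective (w ≫ pullback.snd a s)
  have h1 : Flat φ.left :=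
    hflat w (𝟙 _) φ hwe (repWith_id _ T) (by rw [Category.comp_id, hφ])
  have h2 : LocallyOfFinitePresentation φ.left :=
    hlfp w (𝟙 _) φ hwe (repWith_id _ T) (by rw [Category.comp_id, hφ])
  have h3 : Surjective φ.left := by
    refine ⟨fun t => ?_⟩
    obtain ⟨x, hx⟩ := hsurj (Points.ofScheme T t)
    obtain ⟨w₀, rfl⟩ := ofPt_surjective w hws x
    refine ⟨w₀, ?_⟩
    apply ofScheme_injective T
    rw [← hx, Points.map_ofPt, ← hφ, ofPt_yon_map]
  have : Epi ((yon S).map φ) := epi_yon_map φ h3 h1 h2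
  rw [← cancel_epi ((yon S).map φ), hφ]
  simp only [Category.assoc]
  rw [← pullback.condition_assoc, ← pullback.condition_assoc, hab]

end Groth.Agent.Lib.AlgSpRepBySp_helper7
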