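import Mathlib
import Groth.Prelude.Def_AlgSp

set_option autoImplicit false

/-! Coproducts in the category `AlgSp.Sp S` of fppf sheaves: van Kampen (universal, disjoint). -/

namespace Groth.Agent.Lib.SpCoprodH7
open CategoryTheory CategoryTheory.Limits AlgebraicGeometry Opposite
universe v w u

lemma discrete_functor_eq {ι : Type v} {D : Type*} [Category D] (F : Discrete ι ⥤ D) :
    F = Discrete.functor (F.obj ∘ Discrete.mk) :=
  Functor.hext (fun i ↦ rfl) (by rintro ⟨i⟩ ⟨j⟩ ⟨⟨rfl : i = j⟩⟩; simp)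

lemma types_cofan_isVanKampen {ι : Type v} (f : ι → Type w) (c : Cofan f) (hc : IsColimit c) :
    IsVanKampenColimit c := by
  intro F' c' α g e hα
  obtain ⟨f', rfl⟩ : ∃ f' : ι → Type w, F' = Discrete.functor f' := ⟨_, discrete_functor_eq F'⟩
  have e' : ∀ (j : ι) (y : f' j), c.inj j (α.app ⟨j⟩ y) = g (Cofan.inj (c' : Cofan f') j y) := by
    intro j y
    exact congrArg (fun t => t y) (NatTrans.congr_app e ⟨j⟩)
  constructor
  · rintro ⟨hc'⟩ ⟨j⟩
    rw [Types.isPullback_iff]
    refine ⟨(NatTrans.congr_app e ⟨j⟩).symm, ?_, ?_⟩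
    · rintro x₁ y₁ ⟨h₁, _⟩
      exact Cofan.inj_injective_of_isColimit hc' j h₁
    · intro x₂ x₃ hx
      obtain ⟨k, y, hy⟩ := Cofan.inj_jointly_surjective_of_isColimit hc' x₂
      have h1 : c.inj k (α.app ⟨k⟩ y) = c.inj j x₃ := by
        rw [e' k y, hy]
        exact hx
      obtain rfl := Cofan.eq_of_inj_apply_eq_of_isColimit hc _ _ h1
      exact ⟨y, hy, Cofan.inj_injective_of_isColimit hc k h1⟩
  · intro H
    rw [Cofan.nonempty_isColimit_iff_bijective_fromSigma]
    constructor
    · rintro ⟨i, x⟩ ⟨j, y⟩ hxy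
      have hxy' : Cofan.inj (c' : Cofan f') i x = Cofan.inj (c' : Cofan f') j y := hxy
      have h1 : c.inj i (α.app ⟨i⟩ x) = c.inj j (α.app ⟨j⟩ y) := by
        rw [e' i x, e' j y, hxy']
      obtain rfl := Cofan.eq_of_inj_apply_eq_of_isColimit hc _ _ h1
      have h2 := Cofan.inj_injective_of_isColimit hc i h1
      have := Types.ext_of_isPullback (H ⟨i⟩) hxy' h2
      rw [this]
    · intro x
      obtain ⟨j, z, hz⟩ := Cofan.inj_jointly_surjective_of_isColimit hc (g x)
      obtain ⟨y, hy, _⟩ := Types.exists_of_isPullback (H ⟨j⟩) x z hz.symm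
      exact ⟨⟨j, y⟩, hy⟩

lemma types_isVanKampen {ι : Type v} (F : Discrete ι ⥤ Type w) (c : Cocone F) (hc : IsColimit c) :
    IsVanKampenColimit c := by
  obtain ⟨f, rfl⟩ : ∃ f : ι → Type w, F = Discrete.functor f := ⟨_, discrete_functor_eq F⟩
  exact types_cofan_isVanKampen f c hc

variable (S : Scheme.{u})

lemma presheaf_isVanKampen {ι : Type v} [HasColimitsOfShape (Discrete ι) (Type (u + 1))]
    (F : Discrete ι ⥤ ((Over S)ᵒᵖ ⥤ Type (u + 1))) (c : Cocone F) (hc : IsColimit c) :
    IsVanKampenColimit c := by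
  apply isVanKampenColimit_of_evaluation
  intro x
  exact types_isVanKampen _ _ (isColimitOfPreserves ((evaluation _ (Type (u + 1))).obj x) hc)

/-- Any colimit cocone over a discrete diagram of fppf sheaves of sets is van Kampen. -/
theorem sp_isVanKampen {ι : Type v} [HasColimitsOfShape (Discrete ι) (Type (u + 1))]
    (F : Discrete ι ⥤ AlgSp.Sp S) (c : Cocone F) (hc : IsColimit c) :
    IsVanKampenColimit c := by
  let c₀ := colimit.cocone (F ⋙ sheafToPresheaf (AlgSp.J S) (Type (u + 1)))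
  have h0 : IsVanKampenColimit c₀ := presheaf_isVanKampen S _ _ (colimit.isColimit _)
  haveI : PreservesLimitsOfShape WalkingCospan (presheafToSheaf (AlgSp.J S) (Type (u + 1))) :=
    inferInstance
  have h1 : IsVanKampenColimit ((presheafToSheaf (AlgSp.J S) (Type (u + 1))).mapCocone c₀) :=
    IsVanKampenColimit.map_reflective (sheafificationAdjunction (AlgSp.J S) (Type (u + 1))) h0
  let β : F ≅ (F ⋙ sheafToPresheaf (AlgSp.J S) (Type (u + 1))) ⋙
      presheafToSheaf (AlgSp.J S) (Type (u + 1)) :=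
    F.rightUnitor.symm ≪≫
      Functor.isoWhiskerLeft F
        (asIso (sheafificationAdjunction (AlgSp.J S) (Type (u + 1))).counit).symm ≪≫
      (Functor.associator _ _ _).symm
  have h₁ := h1.precompose_isIso β.hom
  exact h₁.of_iso (h₁.isColimit.uniqueUpToIso hc)

/-- Any colimit cofan of fppf sheaves of sets is van Kampen. -/
theorem sp_cofan_isVanKampen {ι : Type v} [HasColimitsOfShape (Discrete ι) (Type (u + 1))]
    {X : ι → AlgSp.Sp S} (c : Cofan X) (hc : IsColimit c) : IsVanKampenColimit c :=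
  sp_isVanKampen S _ c hc

end Groth.Agent.Lib.SpCoprodH7
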