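import Mathlib
import Groth.Prelude.Def_AlgSp
import Groth.Agent.Lib.SpCoprod_helper7
import Groth.Agent.Lib.AlgSpRepBySp_helper7

set_option autoImplicit false

/-! Coproducts in `AlgSp.Sp S`: summands are representable by open and closed immersions. -/

namespace Groth.Agent.Lib.SpCoprod2H7
open CategoryTheory CategoryTheory.Limits AlgebraicGeometry Opposite AlgSp
open Groth.Agent.Lib.SpCoprodH7
universe v u

variable {S : Scheme.{u}}

lemma bot_mem_J (E : Over S) [IsEmpty E.left] : (⊥ : Sieve E) ∈ AlgSp.J S E := by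
  rw [GrothendieckTopology.mem_over_iff, map_bot]
  exact Scheme.bot_mem_grothendieckTopology (P := @Flat ⊓ @LocallyOfFinitePresentation) E.left

/-- `h_E` is an initial sheaf when `E` is empty. -/
noncomputable def isInitialYon (E : Over S) [IsEmpty E.left] : IsInitial ((yon S).obj E) := by
  haveI : ∀ F : Sp S, Unique ((yon S).obj E ⟶ F) := fun F => by
    haveI : Unique (F.obj.obj (op E)) :=
      Types.isTerminalEquivUnique _ (Sheaf.isTerminalOfBotCover F E (bot_mem_J E))
    exact Equiv.unique (GrothendieckTopology.uliftYonedaEquiv.{u + 1} (J S))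
  exact IsInitial.ofUnique _

instance : HasStrictInitialObjects (Sp S) := by
  apply hasStrictInitial_of_isUniversal
  apply IsVanKampenColimit.isUniversal
  apply sp_isVanKampen
  exact BinaryCofan.isColimitMk (fun s => s.inl) (fun s => Category.id_comp _)
    (fun s => initialIsInitial.hom_ext _ _) (fun s m h1 _ => by simpa using h1)

/-- If `h_T` maps to an initial sheaf then `T` is empty. -/
lemma isEmpty_of_hom_initial {T : Over S} {I : Sp S} (hI : IsInitial I)
    (f : (yon S).obj T ⟶ I) : IsEmpty T.left := by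
  let E : Over S := Over.mk (initial.to S)
  haveI : IsEmpty E.left := by
    change IsEmpty (⊥_ Scheme.{u} : Scheme.{u})
    infer_instance
  let t : T ⟶ E := (yon S).preimage (f ≫ hI.to _)
  exact Function.isEmpty t.left

/-- The terminal object of `Over S`. -/
abbrev one (S : Scheme.{u}) : Over S := Over.mk (𝟙 S)

/-- `S ⨿ S` over `S`. -/
noncomputable abbrev two (S : Scheme.{u}) : Over S := Over.mk (coprod.desc (𝟙 S) (𝟙 S))

noncomputable def inlTwo : one S ⟶ two S := Over.homMk (coprod.inl) (coprod.inl_desc _ _)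

noncomputable def inrTwo : one S ⟶ two S := Over.homMk (coprod.inr) (coprod.inr_desc _ _)

lemma isEmpty_of_inl_eq_inr {T : Over S} (a b : T ⟶ one S) (h : a ≫ inlTwo = b ≫ inrTwo) :
    IsEmpty T.left := by
  constructor
  intro x
  have h0 : a.left ≫ (coprod.inl : S ⟶ S ⨿ S) = b.left ≫ (coprod.inr : S ⟶ S ⨿ S) :=
    congrArg (fun f => f.left) h
  have h1 : (coprod.inl : S ⟶ S ⨿ S) (a.left x) = (coprod.inr : S ⟶ S ⨿ S) (b.left x) := by
    rw [← Scheme.Hom.comp_apply, ← Scheme.Hom.comp_apply, h0]
  have hd := (isCompl_range_inl_inr S S).disjoint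
  exact Set.disjoint_left.1 hd ⟨a.left x, rfl⟩ ⟨b.left x, h1.symm⟩

noncomputable def isTerminalYonOne : IsTerminal ((yon S).obj (one S)) :=
  IsTerminal.isTerminalObj (yon S) _ Over.mkIdTerminal

noncomputable def toOne (F : Sp S) : F ⟶ (yon S).obj (one S) := isTerminalYonOne.from F

/-- If a sheaf maps to `h_S` in two ways that agree after `inl`, `inr`, it is initial. -/
lemma isInitial_of_inl_eq_inr {X : Sp S} (a b : X ⟶ (yon S).obj (one S))
    (h : a ≫ (yon S).map inlTwo = b ≫ (yon S).map inrTwo) : Nonempty (IsInitial X) := by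
  have sq : IsPullback (pullback.fst (inlTwo (S := S)) inrTwo) (pullback.snd inlTwo inrTwo)
    inlTwo inrTwo := IsPullback.of_hasPullback _ _
  have sq' := sq.map (yon S)
  haveI : IsEmpty (pullback (inlTwo (S := S)) inrTwo).left := isEmpty_of_inl_eq_inr _ _ sq.w
  let l := sq'.lift a b h
  haveI : IsIso l := (isInitialYon (pullback (inlTwo (S := S)) inrTwo)).isIso_to l
  exact ⟨(isInitialYon _).ofIso (asIso l).symm⟩

lemma isIso_inj_of_isInitial {C : Type*} [Category C] {ι : Type*} {P : ι → C} (d : Cofan P)
    (hd : IsColimit d) (i : ι) (hI : ∀ k, k ≠ i → Nonempty (IsInitial (P k))) :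
    IsIso (d.inj i) := by
  classical
  have hI' : ∀ k, k ≠ i → IsInitial (P k) := fun k hk => (hI k hk).some
  let r : d.pt ⟶ P i := Cofan.IsColimit.desc hd
    (fun k => if h : k = i then eqToHom (by rw [h]) else (hI' k h).to (P i))
  have hr : d.inj i ≫ r = 𝟙 _ := by
    rw [Cofan.IsColimit.fac, dif_pos rfl]; rfl
  refine ⟨r, hr, ?_⟩
  refine Cofan.IsColimit.hom_ext hd _ _ (fun k => ?_)
  by_cases h : k = i
  · subst h; rw [← Category.assoc, hr]; simp
  · exact (hI' k h).hom_ext _ _

section K

variable {ι : Type v} [HasColimitsOfShape (Discrete ι) (Type (u + 1))] {X : ι → Sp S}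
  (c : Cofan X) (hc : IsColimit c)

include hc in
lemma mono_inj (i : ι) : Mono (c.inj i) :=
  mono_of_cofan_isVanKampen (sp_cofan_isVanKampen S c hc) ⟨i⟩

open Classical in
/-- The characteristic map of the `i`-th summand. -/
noncomputable def chi (i : ι) : c.pt ⟶ (yon S).obj (two S) :=
  Cofan.IsColimit.desc hc
    (fun k => toOne (X k) ≫ (yon S).map (if k = i then inlTwo else inrTwo))

lemma inj_chi_self (i : ι) : c.inj i ≫ chi c hc i = toOne _ ≫ (yon S).map inlTwo := by
  unfold chi; rw [Cofan.IsColimit.fac, if_pos rfl]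

lemma inj_chi_ne (i k : ι) (h : k ≠ i) :
    c.inj k ≫ chi c hc i = toOne _ ≫ (yon S).map inrTwo := by
  unfold chi; rw [Cofan.IsColimit.fac, if_neg h]

variable {U : Over S} (g : (yon S).obj U ⟶ c.pt)

noncomputable def phi (i : ι) : U ⟶ two S := (yon S).preimage (g ≫ chi c hc i)

lemma map_phi (i : ι) : (yon S).map (phi c hc g i) = g ≫ chi c hc i := (yon S).map_preimage _

/-- The open and closed subscheme of `U` lying over the `i`-th summand. -/
noncomputable def part (i : ι) : U.left.Opens :=
  (phi c hc g i).left ⁻¹ᵁ (coprod.inl : S ⟶ S ⨿ S).opensRange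

noncomputable def partOver (i : ι) : Over S := Over.mk ((part c hc g i).ι ≫ U.hom)

noncomputable def partι (i : ι) : partOver c hc g i ⟶ U := Over.homMk (part c hc g i).ι rfl

noncomputable def partToOne (i : ι) : partOver c hc g i ⟶ one S :=
  Over.homMk ((part c hc g i).ι ≫ U.hom) (Category.comp_id _)

lemma part_comp (i : ι) : (part c hc g i).ι ≫ (phi c hc g i).left =
    ((part c hc g i).ι ≫ U.hom) ≫ (coprod.inl : S ⟶ S ⨿ S) := by
  have hr : Set.range ((part c hc g i).ι ≫ (phi c hc g i).left) ⊆
      Set.range (coprod.inl : S ⟶ S ⨿ S) := by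
    rintro _ ⟨x, rfl⟩
    have h1 : (part c hc g i).ι x ∈ (part c hc g i : Set U.left) := by
      rw [← Scheme.Opens.range_ι]; exact ⟨x, rfl⟩
    rw [Scheme.Hom.comp_apply]
    exact h1
  have hl := IsOpenImmersion.lift_fac (coprod.inl : S ⟶ S ⨿ S) _ hr
  have h2 : IsOpenImmersion.lift (coprod.inl : S ⟶ S ⨿ S) _ hr = (part c hc g i).ι ≫ U.hom := by
    calc IsOpenImmersion.lift (coprod.inl : S ⟶ S ⨿ S) _ hr
        = (IsOpenImmersion.lift (coprod.inl : S ⟶ S ⨿ S) _ hr ≫ coprod.inl) ≫
            coprod.desc (𝟙 S) (𝟙 S) := by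
          rw [Category.assoc, coprod.inl_desc, Category.comp_id]
      _ = (part c hc g i).ι ≫ (phi c hc g i).left ≫ coprod.desc (𝟙 S) (𝟙 S) := by
          rw [hl, Category.assoc]
      _ = _ := by
          rw [show (phi c hc g i).left ≫ coprod.desc (𝟙 S) (𝟙 S) = U.hom from
            Over.w (phi c hc g i)]
  rw [← h2, hl]

lemma isPullback_part (i : ι) :
    IsPullback ((yon S).map (partToOne c hc g i)) ((yon S).map (partι c hc g i))
      ((yon S).map inlTwo) ((yon S).map (phi c hc g i)) := by
  refine IsPullback.map (yon S) ?_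
  refine IsPullback.of_map (Over.forget S) ?_ ?_
  · ext; exact (part_comp c hc g i).symm
  · have h := IsOpenImmersion.isPullback ((part c hc g i).ι ≫ U.hom) (part c hc g i).ι
      (coprod.inl : S ⟶ S ⨿ S) (phi c hc g i).left (part_comp c hc g i)
      (by rw [Scheme.Opens.opensRange_ι]; rfl)
    exact h

lemma isClosed_part (i : ι) : IsClosed (part c hc g i : Set U.left) := by
  have h1 : IsClosed (Set.range (coprod.inl : S ⟶ S ⨿ S)) := by
    rw [← (isCompl_range_inl_inr S S).symm.compl_eq]
    exact (coprod.inr : S ⟶ S ⨿ S).isOpenEmbedding.isOpen_range.isClosed_compl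
  exact h1.preimage (phi c hc g i).left.continuous

lemma isClosedImmersion_partι (i : ι) : IsClosedImmersion (partι c hc g i).left := by
  change IsClosedImmersion (part c hc g i).ι
  apply IsClosedImmersion.of_isPreimmersion
  rw [Scheme.Opens.range_ι]
  exact isClosed_part c hc g i

instance (i : ι) : IsOpenImmersion (partι c hc g i).left := by
  change IsOpenImmersion (part c hc g i).ι
  infer_instance

instance (i : ι) : Mono ((yon S).map (partι c hc g i)) := by
  haveI : Mono (partι c hc g i).left := inferInstance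
  haveI : Mono (partι c hc g i) := Over.mono_of_mono_left _
  infer_instance

theorem exists_isPullback_part (i : ι) :
    ∃ fst : (yon S).obj (partOver c hc g i) ⟶ X i,
      IsPullback fst ((yon S).map (partι c hc g i)) (c.inj i) g := by
  classical
  haveI := mono_inj c hc i
  have hcond : ∀ k, pullback.fst (c.inj k) ((yon S).map (partι c hc g i) ≫ g) ≫ c.inj k =
      pullback.snd (c.inj k) ((yon S).map (partι c hc g i) ≫ g) ≫
        (yon S).map (partι c hc g i) ≫ g := fun k => pullback.condition
  let d : Cofan (fun k => pullback (c.inj k) ((yon S).map (partι c hc g i) ≫ g)) :=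
    Cofan.mk ((yon S).obj (partOver c hc g i))
      (fun k => pullback.snd (c.inj k) ((yon S).map (partι c hc g i) ≫ g))
  have hd : Nonempty (IsColimit d) := by
    refine (sp_cofan_isVanKampen S c hc).isUniversal d
      (Discrete.natTrans (fun k => pullback.fst (c.inj k.as) ((yon S).map (partι c hc g i) ≫ g)))
      ((yon S).map (partι c hc g i) ≫ g) ?_ (.of_discrete _) ?_
    · refine NatTrans.ext ?_
      funext ⟨k⟩
      exact hcond k
    · rintro ⟨k⟩
      exact (IsPullback.of_hasPullback (c.inj k) ((yon S).map (partι c hc g i) ≫ g)).flip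
  obtain ⟨hd⟩ := hd
  have hinit : ∀ k, k ≠ i →
      Nonempty (IsInitial (pullback (c.inj k) ((yon S).map (partι c hc g i) ≫ g))) := by
    intro k hk
    refine isInitial_of_inl_eq_inr
      (pullback.snd (c.inj k) ((yon S).map (partι c hc g i) ≫ g) ≫
        (yon S).map (partToOne c hc g i))
      (pullback.fst (c.inj k) ((yon S).map (partι c hc g i) ≫ g) ≫ toOne (X k)) ?_
    calc (pullback.snd (c.inj k) ((yon S).map (partι c hc g i) ≫ g) ≫
          (yon S).map (partToOne c hc g i)) ≫ (yon S).map inlTwo
        = pullback.snd (c.inj k) ((yon S).map (partι c hc g i) ≫ g) ≫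
            ((yon S).map (partι c hc g i) ≫ g) ≫ chi c hc i := by
          rw [Category.assoc, (isPullback_part c hc g i).w, map_phi, Category.assoc]
      _ = pullback.fst (c.inj k) ((yon S).map (partι c hc g i) ≫ g) ≫ c.inj k ≫ chi c hc i := by
          rw [← Category.assoc, ← pullback.condition, Category.assoc]
      _ = (pullback.fst (c.inj k) ((yon S).map (partι c hc g i) ≫ g) ≫ toOne (X k)) ≫
            (yon S).map inrTwo := by
          rw [inj_chi_ne c hc i k hk, Category.assoc]
  haveI : IsIso (d.inj i) := isIso_inj_of_isInitial d hd i hinit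
  let fst := inv (d.inj i) ≫ pullback.fst (c.inj i) ((yon S).map (partι c hc g i) ≫ g)
  have hfst : fst ≫ c.inj i = (yon S).map (partι c hc g i) ≫ g := by
    simp only [fst, Category.assoc]
    rw [IsIso.inv_comp_eq]
    exact hcond i
  refine ⟨fst, Groth.Agent.Lib.AlgSpRepBySp_helper7.isPullback_of_existsUnique hfst ?_⟩
  intro W α β hαβ
  have h1 : (α ≫ toOne (X i)) ≫ (yon S).map inlTwo = β ≫ (yon S).map (phi c hc g i) := by
    rw [map_phi, ← Category.assoc, ← hαβ, Category.assoc, Category.assoc, inj_chi_self]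
  let l := (isPullback_part c hc g i).lift (α ≫ toOne (X i)) β h1
  have hl2 : l ≫ (yon S).map (partι c hc g i) = β := (isPullback_part c hc g i).lift_snd _ _ _
  have hl1 : l ≫ fst = α := by
    rw [← cancel_mono (c.inj i), Category.assoc, hfst, ← Category.assoc, hl2, hαβ]
  refine ⟨l, ⟨hl1, hl2⟩, ?_⟩
  rintro m ⟨-, hm2⟩
  rw [← cancel_mono ((yon S).map (partι c hc g i)), hm2, hl2]

include hc in
/-- The coprojections of a coproduct of fppf sheaves are representable by open and closed
immersions. -/
theorem repWith_inj (i : ι) : RepWith (@IsOpenImmersion ⊓ @IsClosedImmersion) (c.inj i) := by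
  refine MorphismProperty.relative.of_exists ?_
  intro U g
  obtain ⟨fst, h⟩ := exists_isPullback_part c hc g i
  exact ⟨partOver c hc g i, fst, partι c hc g i, h,
    ⟨(inferInstance : IsOpenImmersion (partι c hc g i).left), isClosedImmersion_partι c hc g i⟩⟩

end K

end Groth.Agent.Lib.SpCoprod2H7
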