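import Mathlib
import Groth.Prelude.Def_AlgSp
import Groth.Agent.Lib.SpCoprod2_helper7

set_option autoImplicit false

/-! Coproducts in `AlgSp.Sp S`: the clopen parts are pairwise disjoint and cover. -/

namespace Groth.Agent.Lib.SpCoprod3H7
open CategoryTheory CategoryTheory.Limits AlgebraicGeometry Opposite AlgSp TopologicalSpace
open Groth.Agent.Lib.SpCoprodH7 Groth.Agent.Lib.SpCoprod2H7
universe v u

variable {S : Scheme.{u}}

lemma eq_inl_of_range_subset {T : Scheme.{u}} (f : T ⟶ S ⨿ S)
    (h : Set.range f ⊆ Set.range (coprod.inl : S ⟶ S ⨿ S)) :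
    f = (f ≫ coprod.desc (𝟙 S) (𝟙 S)) ≫ (coprod.inl : S ⟶ S ⨿ S) := by
  have hl := IsOpenImmersion.lift_fac (coprod.inl : S ⟶ S ⨿ S) f h
  have h2 : IsOpenImmersion.lift (coprod.inl : S ⟶ S ⨿ S) f h =
      f ≫ coprod.desc (𝟙 S) (𝟙 S) := by
    calc IsOpenImmersion.lift (coprod.inl : S ⟶ S ⨿ S) f h
        = (IsOpenImmersion.lift (coprod.inl : S ⟶ S ⨿ S) f h ≫ coprod.inl) ≫
            coprod.desc (𝟙 S) (𝟙 S) := by
          rw [Category.assoc, coprod.inl_desc, Category.comp_id]
      _ = f ≫ coprod.desc (𝟙 S) (𝟙 S) := by rw [hl]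
  rw [← h2]
  exact hl.symm

lemma eq_inr_of_range_subset {T : Scheme.{u}} (f : T ⟶ S ⨿ S)
    (h : Set.range f ⊆ Set.range (coprod.inr : S ⟶ S ⨿ S)) :
    f = (f ≫ coprod.desc (𝟙 S) (𝟙 S)) ≫ (coprod.inr : S ⟶ S ⨿ S) := by
  have hl := IsOpenImmersion.lift_fac (coprod.inr : S ⟶ S ⨿ S) f h
  have h2 : IsOpenImmersion.lift (coprod.inr : S ⟶ S ⨿ S) f h =
      f ≫ coprod.desc (𝟙 S) (𝟙 S) := by
    calc IsOpenImmersion.lift (coprod.inr : S ⟶ S ⨿ S) f h
        = (IsOpenImmersion.lift (coprod.inr : S ⟶ S ⨿ S) f h ≫ coprod.inr) ≫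
            coprod.desc (𝟙 S) (𝟙 S) := by
          rw [Category.assoc, coprod.inr_desc, Category.comp_id]
      _ = f ≫ coprod.desc (𝟙 S) (𝟙 S) := by rw [hl]
  rw [← h2]
  exact hl.symm

/-- The unique map to the terminal object of `Over S`. -/
def toOne' (T : Over S) : T ⟶ one S := Over.homMk T.hom (Category.comp_id _)

lemma hom_two_eq_inr {T : Over S} (f : T ⟶ two S)
    (h : Set.range f.left ⊆ Set.range (coprod.inr : S ⟶ S ⨿ S)) : f = toOne' T ≫ inrTwo := by
  ext
  have h1 := eq_inr_of_range_subset f.left h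
  rw [show f.left ≫ coprod.desc (𝟙 S) (𝟙 S) = T.hom from Over.w f] at h1
  exact h1

lemma hom_two_eq_inl {T : Over S} (f : T ⟶ two S)
    (h : Set.range f.left ⊆ Set.range (coprod.inl : S ⟶ S ⨿ S)) : f = toOne' T ≫ inlTwo := by
  ext
  have h1 := eq_inl_of_range_subset f.left h
  rw [show f.left ≫ coprod.desc (𝟙 S) (𝟙 S) = T.hom from Over.w f] at h1
  exact h1

section K

variable {ι : Type v} [HasColimitsOfShape (Discrete ι) (Type (u + 1))] {X : ι → Sp S}
  (c : Cofan X) (hc : IsColimit c)

include hc in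
/-- Universality of coproducts in `Sp S`. -/
lemma isColimit_pullback_cofan {Y : Sp S} (f : Y ⟶ c.pt) :
    Nonempty (IsColimit (Cofan.mk Y (fun k => pullback.snd (c.inj k) f))) := by
  refine (sp_cofan_isVanKampen S c hc).isUniversal _
    (Discrete.natTrans (fun k => pullback.fst (c.inj k.as) f)) f ?_ (.of_discrete _) ?_
  · refine NatTrans.ext ?_
    funext ⟨k⟩
    exact pullback.condition
  · rintro ⟨k⟩
    exact (IsPullback.of_hasPullback (c.inj k) f).flip

variable {U : Over S} (g : (yon S).obj U ⟶ c.pt)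

lemma partι_phi_ne (i k : ι) (h : k ≠ i) :
    partι c hc g k ≫ phi c hc g i = partToOne c hc g k ≫ inrTwo := by
  apply (yon S).map_injective
  obtain ⟨fst, sq⟩ := exists_isPullback_part c hc g k
  rw [Functor.map_comp, Functor.map_comp, map_phi, ← Category.assoc, ← sq.w, Category.assoc,
    inj_chi_ne c hc i k h, ← Category.assoc]
  congr 1
  exact isTerminalYonOne.hom_ext _ _

lemma disjoint_part (i k : ι) (h : k ≠ i) : Disjoint (part c hc g i) (part c hc g k) := by
  refine disjoint_iff.2 (le_bot_iff.1 ?_)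
  rintro x ⟨h1, h2⟩
  exfalso
  have h2' : x ∈ Set.range (part c hc g k).ι := by rw [Scheme.Opens.range_ι]; exact h2
  obtain ⟨y, rfl⟩ := h2'
  have h3 : (phi c hc g i).left ((part c hc g k).ι y) ∈
      Set.range (coprod.inr : S ⟶ S ⨿ S) := by
    have h4 : (part c hc g k).ι ≫ (phi c hc g i).left =
        ((part c hc g k).ι ≫ U.hom) ≫ (coprod.inr : S ⟶ S ⨿ S) :=
      congrArg (fun f => f.left) (partι_phi_ne c hc g i k h)
    rw [← Scheme.Hom.comp_apply, h4, Scheme.Hom.comp_apply]
    exact ⟨_, rfl⟩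
  exact Set.disjoint_left.1 (isCompl_range_inl_inr S S).disjoint h1 h3

lemma iSup_part : ⨆ i, part c hc g i = ⊤ := by
  rw [eq_top_iff]
  intro x _
  by_contra hx
  have hx' : ∀ k, x ∉ part c hc g k := fun k hk => hx (Opens.mem_iSup.2 ⟨k, hk⟩)
  let t := U.left.fromSpecResidueField x
  let To : Over S := Over.mk (t ≫ U.hom)
  let tt : To ⟶ U := Over.homMk t rfl
  have hphi : ∀ k, tt ≫ phi c hc g k = toOne' To ≫ inrTwo := by
    intro k
    apply hom_two_eq_inr
    rintro _ ⟨y, rfl⟩
    have hy : t y = x := by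
      have : t y ∈ Set.range t := ⟨y, rfl⟩
      rw [Scheme.range_fromSpecResidueField] at this
      exact this
    have h5 : (tt ≫ phi c hc g k).left y = (phi c hc g k).left x := by
      change (t ≫ (phi c hc g k).left) y = _
      rw [Scheme.Hom.comp_apply, hy]
    rw [h5]
    have hmem : (phi c hc g k).left x ∈ Set.range (coprod.inl : S ⟶ S ⨿ S) ∪
        Set.range (coprod.inr : S ⟶ S ⨿ S) := by
      rw [show Set.range (coprod.inl : S ⟶ S ⨿ S) ∪ Set.range (coprod.inr : S ⟶ S ⨿ S) =
        Set.univ from (isCompl_range_inl_inr S S).sup_eq_top]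
      trivial
    rcases hmem with h | h
    · exact absurd h (hx' k)
    · exact h
  obtain ⟨hd⟩ := isColimit_pullback_cofan c hc ((yon S).map tt ≫ g)
  have hinit : ∀ k, Nonempty (IsInitial (pullback (c.inj k) ((yon S).map tt ≫ g))) := by
    intro k
    refine isInitial_of_inl_eq_inr
      (pullback.fst (c.inj k) ((yon S).map tt ≫ g) ≫ toOne (X k))
      (pullback.snd (c.inj k) ((yon S).map tt ≫ g) ≫ (yon S).map (toOne' To)) ?_
    calc (pullback.fst (c.inj k) ((yon S).map tt ≫ g) ≫ toOne (X k)) ≫ (yon S).map inlTwo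
        = pullback.fst (c.inj k) ((yon S).map tt ≫ g) ≫ c.inj k ≫ chi c hc k := by
          rw [Category.assoc, inj_chi_self]
      _ = pullback.snd (c.inj k) ((yon S).map tt ≫ g) ≫ ((yon S).map tt ≫ g) ≫ chi c hc k := by
          rw [← Category.assoc, pullback.condition, Category.assoc]
      _ = pullback.snd (c.inj k) ((yon S).map tt ≫ g) ≫ (yon S).map (tt ≫ phi c hc g k) := by
          rw [Functor.map_comp, map_phi, Category.assoc]
      _ = (pullback.snd (c.inj k) ((yon S).map tt ≫ g) ≫ (yon S).map (toOne' To)) ≫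
            (yon S).map inrTwo := by
          rw [hphi k, Functor.map_comp, Category.assoc]
  have hI : IsInitial ((yon S).obj To) := by
    refine IsInitial.ofUniqueHom
      (fun Z => Cofan.IsColimit.desc hd (fun k => (hinit k).some.to Z)) ?_
    intro Z m
    exact Cofan.IsColimit.hom_ext hd _ _ (fun k => (hinit k).some.hom_ext _ _)
  haveI : IsEmpty To.left := isEmpty_of_hom_initial hI (𝟙 _)
  haveI : Nonempty To.left := by
    change Nonempty (Spec (U.left.residueField x))
    infer_instance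
  exact IsEmpty.false (Classical.arbitrary To.left)

end K

/-- `U` is the coproduct (in schemes) of the clopen parts. -/
lemma nonempty_isColimit_part {ι : Type u} {X : ι → Sp S} (c : Cofan X) (hc : IsColimit c)
    {U : Over S} (g : (yon S).obj U ⟶ c.pt) :
    Nonempty (IsColimit (Cofan.mk U.left (fun i => (partι c hc g i).left))) := by
  haveI : ∀ i, IsOpenImmersion ((fun i => (partι c hc g i).left) i) := fun i => by
    dsimp only; infer_instance
  refine nonempty_isColimit_cofanMk_of (fun i => (partι c hc g i).left) ?_ ?_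
  · have : ∀ i, (partι c hc g i).left.opensRange = part c hc g i := fun i =>
      Scheme.Opens.opensRange_ι _
    simp only [this]
    exact iSup_part c hc g
  · intro i k hik
    have : ∀ i, (partι c hc g i).left.opensRange = part c hc g i := fun i =>
      Scheme.Opens.opensRange_ι _
    simp only [Function.onFun, this]
    exact disjoint_part c hc g i k (Ne.symm hik)


end Groth.Agent.Lib.SpCoprod3H7
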