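import Mathlib
import Groth.Prelude.Def_AlgSp
import Groth.Agent.Lib.SpCoprod3_helper7

set_option autoImplicit false

/-! `yon` sends coproducts of schemes over `S` to coproducts of sheaves. -/

namespace Groth.Agent.Lib.SpCoprod4H7
open CategoryTheory CategoryTheory.Limits AlgebraicGeometry Opposite AlgSp TopologicalSpace
open Groth.Agent.Lib.SpCoprodH7 Groth.Agent.Lib.SpCoprod2H7 Groth.Agent.Lib.SpCoprod3H7
universe u

variable {S : Scheme.{u}}

section FactC

variable {ι : Type u} (Z : ι → Over S)

/-- The coproduct of a family of schemes over `S`, as a scheme over `S`. -/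
noncomputable def sigmaOver : Over S :=
  Over.mk (Sigma.desc (fun i => (Z i).hom) : (∐ fun i => (Z i).left) ⟶ S)

noncomputable def sigmaOverι (i : ι) : Z i ⟶ sigmaOver Z :=
  Over.homMk (Sigma.ι (fun i => (Z i).left) i) (by simp [sigmaOver])

instance (i : ι) : IsOpenImmersion (sigmaOverι Z i).left := by
  change IsOpenImmersion (Sigma.ι (fun i => (Z i).left) i)
  infer_instance

instance (i : ι) : Mono (sigmaOverι Z i) := by
  haveI : Mono (sigmaOverι Z i).left := inferInstance
  exact Over.mono_of_mono_left _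

lemma sieve_mem : Sieve.ofArrows Z (sigmaOverι Z) ∈ J S (sigmaOver Z) := by
  rw [GrothendieckTopology.mem_over_iff, Sieve.overEquiv_ofArrows]
  have h := (sigmaOpenCover (fun i => (Z i).left)).mem_grothendieckTopology
  exact Precoverage.toGrothendieck_mono Scheme.zariskiPrecoverage_le_fppfPrecoverage _ h

lemma existsUnique_section (G : Sp S) (x : ∀ i, G.obj.obj (op (Z i))) :
    ∃! t : G.obj.obj (op (sigmaOver Z)), ∀ i, G.obj.map (sigmaOverι Z i).op t = x i := by
  have hG : Presieve.IsSheafFor G.obj (Presieve.ofArrows Z (sigmaOverι Z)) :=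
    ((isSheaf_iff_isSheaf_of_type _ _).1 G.property).isSheafFor _ (sieve_mem Z)
  refine ((Presieve.isSheafFor_arrows_iff G.obj (sigmaOverι Z)).1 hG) x ?_
  intro i j W gi gj hij
  by_cases h : i = j
  · subst h
    rw [(cancel_mono _).1 hij]
  · haveI : IsEmpty W.left :=
      isEmpty_of_commSq_sigmaι_of_ne (g := fun i => (Z i).left) (a := gi.left) (b := gj.left)
        ⟨congrArg (fun f => f.left) hij⟩ h
    haveI : Subsingleton (G.obj.obj (op W)) :=
      (Types.isTerminalEquivUnique _ (Sheaf.isTerminalOfBotCover G W (bot_mem_J W))).instSubsingleton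
    exact Subsingleton.elim _ _

/-- `h_{∐ Z_i}` is the coproduct of the `h_{Z_i}` in fppf sheaves. -/
theorem isColimit_yon_sigma :
    Nonempty (IsColimit (Cofan.mk ((yon S).obj (sigmaOver Z))
      (fun i => (yon S).map (sigmaOverι Z i)))) := by
  have key := existsUnique_section Z
  have e := fun (T : Over S) (G : Sp S) =>
    (GrothendieckTopology.uliftYonedaEquiv.{u + 1} (J S) (X := T) (F := G))
  have hnat : ∀ (G : Sp S) (i : ι) (f : (yon S).obj (sigmaOver Z) ⟶ G),
      G.obj.map (sigmaOverι Z i).op (GrothendieckTopology.uliftYonedaEquiv.{u + 1} (J S) f) =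
        GrothendieckTopology.uliftYonedaEquiv.{u + 1} (J S) ((yon S).map (sigmaOverι Z i) ≫ f) :=
    fun G i f => GrothendieckTopology.uliftYonedaEquiv_naturality.{u + 1} (J S) f _
  choose tt htt htt' using fun (t : Cofan (fun i => (yon S).obj (Z i))) =>
    key t.pt (fun i => GrothendieckTopology.uliftYonedaEquiv.{u + 1} (J S) (t.inj i))
  refine ⟨mkCofanColimit _
    (fun t => (GrothendieckTopology.uliftYonedaEquiv.{u + 1} (J S)).symm (tt t)) ?_ ?_⟩
  · intro t i
    apply (GrothendieckTopology.uliftYonedaEquiv.{u + 1} (J S)).injective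
    have := hnat t.pt i ((GrothendieckTopology.uliftYonedaEquiv.{u + 1} (J S)).symm (tt t))
    rw [Equiv.apply_symm_apply] at this
    exact this.symm.trans (htt t i)
  · intro t m hm
    apply (GrothendieckTopology.uliftYonedaEquiv.{u + 1} (J S)).injective
    rw [Equiv.apply_symm_apply]
    apply htt' t
    intro i
    rw [hnat t.pt i m]
    exact congrArg _ (hm i)

/-- The map out of the coproduct in `Over S`. -/
noncomputable def sigmaOverDesc {Y : Over S} (f : ∀ k, Z k ⟶ Y) : sigmaOver Z ⟶ Y :=
  Over.homMk (Sigma.desc (fun k => (f k).left)) (by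
    refine Sigma.hom_ext _ _ (fun k => ?_)
    simp [sigmaOver])

lemma sigmaOverι_desc {Y : Over S} (f : ∀ k, Z k ⟶ Y) (k : ι) :
    sigmaOverι Z k ≫ sigmaOverDesc Z f = f k := by
  ext
  simp only [sigmaOverι, sigmaOverDesc, Over.comp_left, Over.homMk_left]
  exact Limits.Sigma.ι_desc _ _

end FactC

/-- A map between the points of two colimit cofans which is componentwise an isomorphism is an
isomorphism. -/
lemma isIso_of_cofan_iso {C : Type*} [Category C] {ι : Type*} {P P' : ι → C} {d : Cofan P}
    {d' : Cofan P'} (hd : IsColimit d) (hd' : IsColimit d') (θ : d.pt ⟶ d'.pt)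
    (θk : ∀ k, P k ≅ P' k) (h : ∀ k, d.inj k ≫ θ = (θk k).hom ≫ d'.inj k) : IsIso θ := by
  refine ⟨Cofan.IsColimit.desc hd' (fun k => (θk k).inv ≫ d.inj k), ?_, ?_⟩
  · refine Cofan.IsColimit.hom_ext hd _ _ (fun k => ?_)
    rw [← Category.assoc, h, Category.assoc, Cofan.IsColimit.fac, Iso.hom_inv_id_assoc,
      Category.comp_id]
  · refine Cofan.IsColimit.hom_ext hd' _ _ (fun k => ?_)
    rw [← Category.assoc, Cofan.IsColimit.fac, Category.assoc, h, Iso.inv_hom_id_assoc,
      Category.comp_id]

section PB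

variable {ι : Type u} {X : ι → Sp S} (c : Cofan X) (hc : IsColimit c)
  {T T' : Over S} (g : (yon S).obj T ⟶ c.pt) (g' : (yon S).obj T' ⟶ c.pt)
  (Tk : ι → Over S) (j : ∀ k, Tk k ⟶ T) (fst : ∀ k, (yon S).obj (Tk k) ⟶ X k)
  (hfst : ∀ k, IsPullback (fst k) ((yon S).map (j k)) (c.inj k) g)
  (Tk' : ι → Over S) (j' : ∀ k, Tk' k ⟶ T') (fst' : ∀ k, (yon S).obj (Tk' k) ⟶ X k)
  (hfst' : ∀ k, IsPullback (fst' k) ((yon S).map (j' k)) (c.inj k) g')
  (Z : ι → Over S) (a : ∀ k, Z k ⟶ Tk k) (b : ∀ k, Z k ⟶ Tk' k)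
  (hZ : ∀ k, IsPullback ((yon S).map (a k)) ((yon S).map (b k)) (fst k) (fst' k))

include hc hfst hfst' hZ in
/-- Fibre products over a coproduct of sheaves are computed summand by summand. -/
theorem isPullback_sigma :
    IsPullback ((yon S).map (sigmaOverDesc Z (fun k => a k ≫ j k)))
      ((yon S).map (sigmaOverDesc Z (fun k => b k ≫ j' k))) g g' := by
  classical
  obtain ⟨hZc⟩ := isColimit_yon_sigma Z
  have hιA : ∀ k, (yon S).map (sigmaOverι Z k) ≫
      (yon S).map (sigmaOverDesc Z (fun k => a k ≫ j k)) =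
      (yon S).map (a k) ≫ (yon S).map (j k) := fun k => by
    rw [← Functor.map_comp, sigmaOverι_desc, Functor.map_comp]
  have hιB : ∀ k, (yon S).map (sigmaOverι Z k) ≫
      (yon S).map (sigmaOverDesc Z (fun k => b k ≫ j' k)) =
      (yon S).map (b k) ≫ (yon S).map (j' k) := fun k => by
    rw [← Functor.map_comp, sigmaOverι_desc, Functor.map_comp]
  have hAB : (yon S).map (sigmaOverDesc Z (fun k => a k ≫ j k)) ≫ g =
      (yon S).map (sigmaOverDesc Z (fun k => b k ≫ j' k)) ≫ g' := by
    refine Cofan.IsColimit.hom_ext hZc _ _ (fun k => ?_)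
    change (yon S).map (sigmaOverι Z k) ≫ _ ≫ g = (yon S).map (sigmaOverι Z k) ≫ _ ≫ g'
    rw [← Category.assoc, hιA, ← Category.assoc, hιB, Category.assoc, Category.assoc,
      ← (hfst k).w, ← (hfst' k).w, ← Category.assoc, ← Category.assoc, (hZ k).w]
  let θ : (yon S).obj (sigmaOver Z) ⟶ pullback g g' := pullback.lift _ _ hAB
  have hθ1 : θ ≫ pullback.fst g g' = (yon S).map (sigmaOverDesc Z (fun k => a k ≫ j k)) :=
    pullback.lift_fst _ _ _
  have hθ2 : θ ≫ pullback.snd g g' = (yon S).map (sigmaOverDesc Z (fun k => b k ≫ j' k)) :=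
    pullback.lift_snd _ _ _
  suffices IsIso θ from
    IsPullback.of_iso_pullback ⟨hAB⟩ (asIso θ) hθ1 hθ2
  obtain ⟨hQ⟩ := isColimit_pullback_cofan c hc (pullback.fst g g' ≫ g)
  have hpb : ∀ k, IsPullback ((yon S).map (a k) ≫ fst k) ((yon S).map (sigmaOverι Z k) ≫ θ)
      (c.inj k) (pullback.fst g g' ≫ g) := by
    intro k
    refine Groth.Agent.Lib.AlgSpRepBySp_helper7.isPullback_of_existsUnique ?_ ?_
    · calc ((yon S).map (a k) ≫ fst k) ≫ c.inj k
          = (yon S).map (a k) ≫ (yon S).map (j k) ≫ g := by rw [Category.assoc, (hfst k).w]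
        _ = ((yon S).map (sigmaOverι Z k) ≫ θ ≫ pullback.fst g g') ≫ g := by
            rw [hθ1, hιA, Category.assoc]
        _ = _ := by simp only [Category.assoc]
    · intro W u w huw
      have h1 : u ≫ c.inj k = (w ≫ pullback.fst g g') ≫ g := by
        rw [huw, Category.assoc]
      have h2 : u ≫ c.inj k = (w ≫ pullback.snd g g') ≫ g' := by
        rw [h1, Category.assoc, pullback.condition, Category.assoc]
      have hl₁a : (hfst k).lift u (w ≫ pullback.fst g g') h1 ≫ fst k = u :=
        (hfst k).lift_fst _ _ _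
      have hl₁b : (hfst k).lift u (w ≫ pullback.fst g g') h1 ≫ (yon S).map (j k) =
          w ≫ pullback.fst g g' := (hfst k).lift_snd _ _ _
      have hl₂a : (hfst' k).lift u (w ≫ pullback.snd g g') h2 ≫ fst' k = u :=
        (hfst' k).lift_fst _ _ _
      have hl₂b : (hfst' k).lift u (w ≫ pullback.snd g g') h2 ≫ (yon S).map (j' k) =
          w ≫ pullback.snd g g' := (hfst' k).lift_snd _ _ _
      have hl : (hfst k).lift u (w ≫ pullback.fst g g') h1 ≫ fst k =
          (hfst' k).lift u (w ≫ pullback.snd g g') h2 ≫ fst' k := by rw [hl₁a, hl₂a]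
      have hla : (hZ k).lift _ _ hl ≫ (yon S).map (a k) = _ := (hZ k).lift_fst _ _ _
      have hlb : (hZ k).lift _ _ hl ≫ (yon S).map (b k) = _ := (hZ k).lift_snd _ _ _
      refine ⟨(hZ k).lift _ _ hl, ⟨?_, ?_⟩, ?_⟩
      · rw [← Category.assoc, hla, hl₁a]
      · apply pullback.hom_ext
        · rw [Category.assoc, Category.assoc, hθ1, hιA, ← Category.assoc, hla, hl₁b]
        · rw [Category.assoc, Category.assoc, hθ2, hιB, ← Category.assoc, hlb, hl₂b]
      · rintro m ⟨hm1, hm2⟩
        have hma : m ≫ (yon S).map (a k) = (hfst k).lift u (w ≫ pullback.fst g g') h1 := by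
          apply (hfst k).hom_ext
          · rw [Category.assoc, hm1, hl₁a]
          · rw [Category.assoc, ← hιA, hl₁b, ← hm2, Category.assoc, Category.assoc, hθ1]
        have hmb : m ≫ (yon S).map (b k) = (hfst' k).lift u (w ≫ pullback.snd g g') h2 := by
          apply (hfst' k).hom_ext
          · rw [Category.assoc, ← (hZ k).w, ← Category.assoc, hma, hl₁a, hl₂a]
          · rw [Category.assoc, ← hιB, hl₂b, ← hm2, Category.assoc, Category.assoc, hθ2]
        apply (hZ k).hom_ext
        · rw [hma, hla]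
        · rw [hmb, hlb]
  exact isIso_of_cofan_iso hZc hQ θ (fun k => (hpb k).isoPullback)
    (fun k => ((hpb k).isoPullback_hom_snd).symm)

end PB

section Rep

variable {ι : Type u} {X : ι → Sp S} (c : Cofan X) (hc : IsColimit c)

include hc in
/-- Every map from a scheme to a coproduct of algebraic spaces is representable. -/
theorem representable_of_isAlgSpace (h : ∀ k, IsAlgSpace (X k)) {T' : Over S}
    (g' : (yon S).obj T' ⟶ c.pt) : Representable g' := by
  intro T g
  choose fst hfst using fun k => exists_isPullback_part c hc g k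
  choose fst' hfst' using fun k => exists_isPullback_part c hc g' k
  have hrep : ∀ k, Representable (fst' k) := fun k => (h k).representable_from_yon (fst' k)
  choose Zk sndk fstk hk using fun k => hrep k (fst k)
  have hZ : ∀ k, IsPullback ((yon S).map (sndk k)) ((yon S).map ((yon S).preimage (fstk k)))
      (fst k) (fst' k) := fun k => by
    rw [(yon S).map_preimage]
    exact (hk k).flip
  have := isPullback_sigma c hc g g' _ _ fst hfst _ _ fst' hfst' Zk sndk _ hZ
  exact ⟨sigmaOver Zk, _, _, this.flip⟩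

include hc in
theorem diag_representable_of_isAlgSpace (h : ∀ k, IsAlgSpace (X k)) :
    Representable (Limits.diag c.pt) :=
  Functor.relativelyRepresentable.diag_of_map_from_obj
    (fun _ g' => representable_of_isAlgSpace c hc h g')

end Rep

end Groth.Agent.Lib.SpCoprod4H7
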