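import Mathlib
import Groth.Prelude.Def_AlgSp
import Groth.Agent.Lib.SpCoprod4_helper7

set_option autoImplicit false

/-! The coproduct of atlases is an atlas of the coproduct of algebraic spaces. -/

namespace Groth.Agent.Lib.SpCoprod5H7
open CategoryTheory CategoryTheory.Limits AlgebraicGeometry Opposite AlgSp TopologicalSpace
open Groth.Agent.Lib.SpCoprodH7 Groth.Agent.Lib.SpCoprod2H7 Groth.Agent.Lib.SpCoprod3H7
open Groth.Agent.Lib.SpCoprod4H7
universe u

variable {S : Scheme.{u}}

variable {ι : Type u} {X : ι → Sp S} (c : Cofan X) (hc : IsColimit c)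

include hc in
lemma repWith_etale_inj (k : ι) : RepWith @Etale (c.inj k) :=
  MorphismProperty.relative_monotone
    (fun _ _ f hf => by haveI : IsOpenImmersion f.left := hf.1; exact (inferInstance : Etale f.left))
    _ (repWith_inj c hc k)

include hc in
theorem atlas_cofan (h : ∀ k, IsAlgSpace (X k)) (U : ι → Over S)
    (p : ∀ k, (yon S).obj (U k) ⟶ X k) (hpe : ∀ k, RepWith @Etale (p k))
    (hps : ∀ k, RepWith @Surjective (p k)) :
    ∃ q : (yon S).obj (sigmaOver U) ⟶ c.pt,
      (∀ k, (yon S).map (sigmaOverι U k) ≫ q = p k ≫ c.inj k) ∧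
      RepWith @Etale q ∧ RepWith @Surjective q := by
  obtain ⟨hUc⟩ := isColimit_yon_sigma U
  let q := Cofan.IsColimit.desc hUc (fun k => p k ≫ c.inj k)
  have hq : ∀ k, (yon S).map (sigmaOverι U k) ≫ q = p k ≫ c.inj k :=
    fun k => Cofan.IsColimit.fac hUc _ k
  have hrep : Representable q := representable_of_isAlgSpace c hc h q
  have hcomp : ∀ k, RepWith @Etale ((yon S).map (sigmaOverι U k) ≫ q) := fun k => by
    rw [hq]
    exact (RepWith @Etale).comp_mem _ _ (hpe k) (repWith_etale_inj c hc k)
  refine ⟨q, hq, ⟨hrep, ?_⟩, ⟨hrep, ?_⟩⟩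
  · intro T W g fstW sndW sq
    change Etale sndW.left
    have hφ : (yon S).map ((yon S).preimage fstW) = fstW := (yon S).map_preimage _
    refine IsZariskiLocalAtSource.of_openCover (P := @Etale)
      ((sigmaOpenCover (fun k => (U k).left)).pullback₁ ((yon S).preimage fstW).left) ?_
    intro (k : ι)
    let Wk : Over S := Over.mk (pullback.fst ((yon S).preimage fstW).left
      (sigmaOverι U k).left ≫ W.hom)
    let wk : Wk ⟶ W := Over.homMk (pullback.fst _ _) rfl
    have hvk : pullback.snd ((yon S).preimage fstW).left (sigmaOverι U k).left ≫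
        (U k).hom = Wk.hom := by
      have h1 : (sigmaOverι U k).left ≫ (sigmaOver U).hom = (U k).hom :=
        Over.w (sigmaOverι U k)
      have h2 : ((yon S).preimage fstW).left ≫ (sigmaOver U).hom = W.hom :=
        Over.w ((yon S).preimage fstW)
      have hc1 : pullback.fst ((yon S).preimage fstW).left (sigmaOverι U k).left ≫
          ((yon S).preimage fstW).left = pullback.snd _ _ ≫ (sigmaOverι U k).left :=
        pullback.condition
      calc pullback.snd ((yon S).preimage fstW).left (sigmaOverι U k).left ≫ (U k).hom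
          = (pullback.snd ((yon S).preimage fstW).left (sigmaOverι U k).left ≫
              (sigmaOverι U k).left) ≫ (sigmaOver U).hom := by rw [Category.assoc, h1]
        _ = pullback.fst ((yon S).preimage fstW).left (sigmaOverι U k).left ≫ W.hom := by
            rw [← hc1, Category.assoc, h2]
    let vk : Wk ⟶ U k := Over.homMk (pullback.snd _ _) hvk
    have sqk : IsPullback wk vk ((yon S).preimage fstW) (sigmaOverι U k) := by
      refine IsPullback.of_map (Over.forget S) ?_ ?_
      · ext
        exact pullback.condition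
      · exact IsPullback.of_hasPullback ((yon S).preimage fstW).left
          (sigmaOverι U k).left
    have sq' : IsPullback ((yon S).map sndW) ((yon S).map ((yon S).preimage fstW)) g q := by
      rw [hφ]; exact sq.flip
    have big := (sqk.map (yon S)).paste_horiz sq'
    have hE : Etale (wk ≫ sndW).left :=
      (hcomp k).property g ((yon S).map vk) (wk ≫ sndW)
        (by rw [Functor.map_comp]; exact big.flip)
    exact hE
  · intro T W g fstW sndW sq
    change Surjective sndW.left
    constructor
    intro x
    have hx : x ∈ (⨆ k, part c hc g k : T.left.Opens) := by rw [iSup_part]; trivial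
    obtain ⟨k, hk⟩ := Opens.mem_iSup.1 hx
    obtain ⟨x', rfl⟩ : ∃ x', (part c hc g k).ι x' = x := by
      have : x ∈ Set.range (part c hc g k).ι := by rw [Scheme.Opens.range_ι]; exact hk
      exact this
    obtain ⟨fstk, sqk⟩ := exists_isPullback_part c hc g k
    obtain ⟨V, v₂, v₁, sqV⟩ := (hps k).rep fstk
    have hsurj : Surjective v₂.left := (hps k).property fstk v₁ v₂ sqV
    obtain ⟨y, hy⟩ := hsurj.surj x'
    have hcomm : (v₁ ≫ (yon S).map (sigmaOverι U k)) ≫ q =
        (yon S).map (v₂ ≫ partι c hc g k) ≫ g := by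
      rw [Category.assoc, hq, ← Category.assoc, sqV.w, Category.assoc, sqk.w, Functor.map_comp,
        Category.assoc]
    have hlam : (yon S).preimage (sq.lift _ _ hcomm) ≫ sndW = v₂ ≫ partι c hc g k := by
      apply (yon S).map_injective
      rw [Functor.map_comp, (yon S).map_preimage]
      exact sq.lift_snd _ _ _
    refine ⟨((yon S).preimage (sq.lift _ _ hcomm)).left y, ?_⟩
    have h3 : ((yon S).preimage (sq.lift _ _ hcomm)).left ≫ sndW.left =
        v₂.left ≫ (part c hc g k).ι := congrArg (fun f => f.left) hlam
    calc sndW.left (((yon S).preimage (sq.lift _ _ hcomm)).left y)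
        = (((yon S).preimage (sq.lift _ _ hcomm)).left ≫ sndW.left) y :=
          (Scheme.Hom.comp_apply _ _ _).symm
      _ = (v₂.left ≫ (part c hc g k).ι) y := by rw [h3]
      _ = (part c hc g k).ι (v₂.left y) := Scheme.Hom.comp_apply _ _ _
      _ = _ := by rw [hy]

include hc in
theorem isAlgSpace_cofan_pt (h : ∀ k, IsAlgSpace (X k)) : IsAlgSpace c.pt := by
  choose U p hpe hps using fun i => (h i).atlas
  obtain ⟨q, -, hqe, hqs⟩ := atlas_cofan c hc h U p hpe hps
  exact ⟨diag_representable_of_isAlgSpace c hc h, ⟨_, q, hqe, hqs⟩⟩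

instance compactSpace_sigmaOver [Finite ι] (U : ι → Over S) [∀ k, CompactSpace (U k).left] :
    CompactSpace (sigmaOver U).left := by
  change CompactSpace ↥(∐ fun i => (U i).left)
  exact (sigmaMk (fun i => (U i).left)).compactSpace

end Groth.Agent.Lib.SpCoprod5H7
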