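import Groth.Agent.Lib.AlgSpGlue_helper7
import Groth.Agent.Lib.SpCoprod5_helper7
import Groth.Agent.Lib.AlgSpCov_helper7

/-!
# Consequences of Zariski gluing for fppf sheaves over `S` (helper7)

* `exists_iso_of_isPullback_openCover`: a sheaf `P` over `F` is representable as soon as its
  restrictions to the members of an open cover of `F` are.
* `cofan_jointly_surjective`, `openCover_jointly_surjective`: the covering hypotheses.
* `repWith_of_affine_local`: representability with a Zariski local property can be checked over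
  affine schemes mapping to the target.
-/

set_option autoImplicit false
universe u
open CategoryTheory CategoryTheory.Limits AlgebraicGeometry Opposite

namespace Groth.Agent.Lib.AlgSpGlue2H7

open AlgSp Groth.Agent.Lib.AlgSpOpenSub_helper7 Groth.Agent.Lib.AlgSpGlueH7
  Groth.Agent.Lib.AlgSpCov_helper7

variable {S : Scheme.{u}}

/-- A sheaf over `F` whose restrictions to the members of an open cover of `F` are representable
is representable. -/
theorem exists_iso_of_isPullback_openCover {P F : Sp S} (q : P ⟶ F) {ι : Type u} {Fi : ι → Sp S}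
    (f : ∀ i, Fi i ⟶ F) (hf : ∀ i, RepWith @IsOpenImmersion (f i))
    (hsurj : ∀ (T : Over S) (s : (yon S).obj T ⟶ F), ∃ R ∈ J S T,
      ∀ ⦃T' : Over S⦄ (m : T' ⟶ T), R m →
        ∃ (i : ι) (y : (yon S).obj T' ⟶ Fi i), y ≫ f i = (yon S).map m ≫ s)
    (W : ι → Over S) (φ : ∀ i, (yon S).obj (W i) ⟶ P) (ψ : ∀ i, (yon S).obj (W i) ⟶ Fi i)
    (sq : ∀ i, IsPullback (φ i) (ψ i) q (f i)) :
    ∃ (Y : Over S) (e : (yon S).obj Y ≅ P) (j : ∀ i, W i ⟶ Y),
      (∀ i, (yon S).map (j i) ≫ e.hom = φ i) ∧ (∀ i, IsOpenImmersion (j i).left) ∧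
      (∀ y : Y.left, ∃ i, y ∈ Set.range (j i).left.base) := by
  have hφ : ∀ i, RepWith @IsOpenImmersion (φ i) := fun i =>
    MorphismProperty.of_isPullback (sq i).flip (hf i)
  refine exists_iso_of_openCover hφ (fun T a => ?_)
  obtain ⟨R, hR, hR'⟩ := hsurj T (a ≫ q)
  refine ⟨R, hR, fun T' m hm => ?_⟩
  obtain ⟨i, y, hy⟩ := hR' m hm
  refine ⟨i, (yon S).preimage ((sq i).lift ((yon S).map m ≫ a) y (by rw [Category.assoc, hy])), ?_⟩
  rw [(yon S).map_preimage, (sq i).lift_fst]

/-- A covering sieve of the fppf topology over `S` is jointly surjective. -/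
theorem exists_mem_range_of_mem_J {T : Over S} {R : Sieve T} (hR : R ∈ J S T) (t : T.left) :
    ∃ (T' : Over S) (m : T' ⟶ T), R m ∧ t ∈ Set.range m.left.base := by
  rw [J_eq, GrothendieckTopology.mem_over_iff] at hR
  haveI : (@Flat ⊓ @LocallyOfFinitePresentation : MorphismProperty Scheme.{u}).IsMultiplicative :=
    { id_mem := fun X => ⟨inferInstance, inferInstance⟩
      comp_mem := fun f g hf hg =>
        ⟨by haveI := hf.1; haveI := hg.1; exact (inferInstance : Flat (f ≫ g)),
          by haveI := hf.2; haveI := hg.2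
             exact (inferInstance : LocallyOfFinitePresentation (f ≫ g))⟩ }
  have hR' : Sieve.overEquiv T R ∈
      Scheme.grothendieckTopology (@Flat ⊓ @LocallyOfFinitePresentation) T.left := hR
  obtain ⟨𝒰, h𝒰⟩ := Scheme.exists_cover_of_mem_grothendieckTopology hR'
  obtain ⟨i, x, hx⟩ := 𝒰.exists_eq t
  have h1 : (Sieve.overEquiv T R) (𝒰.f i) := h𝒰 _ _ (Presieve.ofArrows.mk i)
  rw [Sieve.overEquiv_iff] at h1
  exact ⟨_, _, h1, x, hx⟩

/-- An open cover from a jointly surjective family of open immersions. -/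
noncomputable def coverOf {Y : Scheme.{u}} {ι : Type u} (W : ι → Scheme.{u}) (j : ∀ i, W i ⟶ Y)
    [∀ i, IsOpenImmersion (j i)] (h : ∀ y : Y, ∃ i, y ∈ Set.range (j i).base) :
    Scheme.OpenCover.{u} Y where
  I₀ := ι
  X := W
  f := j
  mem₀ := by
    rw [Scheme.presieve₀_mem_precoverage_iff]
    exact ⟨fun y => by obtain ⟨i, x, hx⟩ := h y; exact ⟨i, x, hx⟩, inferInstance⟩

section CofanSurj

variable {ι : Type u} {Fi : ι → Sp S} (c : Cofan Fi) (hc : IsColimit c) {F : Sp S}
  (f : ∀ i, Fi i ⟶ F)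

include hc in
/-- If `∐ F_i ⟶ F` is a surjection of sheaves, every section of `F` lies fppf-locally in
some `F_i`. -/
theorem cofan_jointly_surjective
    (hsurj : Sheaf.IsLocallySurjective (Cofan.IsColimit.desc hc f)) (T : Over S)
    (s : (yon S).obj T ⟶ F) :
    ∃ R ∈ J S T, ∀ ⦃T' : Over S⦄ (m : T' ⟶ T), R m →
      ∃ (i : ι) (y : (yon S).obj T' ⟶ Fi i), y ≫ f i = (yon S).map m ≫ s := by
  haveI := hsurj
  have hD : ∀ i, c.inj i ≫ Cofan.IsColimit.desc hc f = f i := fun i =>
    Cofan.IsColimit.fac hc f i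
  let R : Sieve T :=
    { arrows := fun T' m => ∃ (i : ι) (y : (yon S).obj T' ⟶ Fi i), y ≫ f i = (yon S).map m ≫ s
      downward_closed := by
        rintro T' T'' m ⟨i, y, hy⟩ n
        exact ⟨i, (yon S).map n ≫ y, by
          rw [Category.assoc, hy, Functor.map_comp, Category.assoc]⟩ }
  refine ⟨R, ?_, fun T' m hm => hm⟩
  have h0 : Presheaf.imageSieve (Cofan.IsColimit.desc hc f).hom (yE s) ∈ J S T :=
    Presheaf.imageSieve_mem (J S) (Cofan.IsColimit.desc hc f).hom (yE s)
  refine (J S).transitive h0 R ?_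
  rintro T' m ⟨t, ht⟩
  have ht' : yE.symm t ≫ Cofan.IsColimit.desc hc f = (yon S).map m ≫ s := by
    apply yE.injective
    rw [yE_comp, Equiv.apply_symm_apply, ← yE_map]
    exact ht
  have hcov : Sieve.ofArrows (SpCoprod2H7.partOver c hc (yE.symm t))
      (SpCoprod2H7.partι c hc (yE.symm t)) ∈ J S T' := by
    apply ofArrows_mem_J
    · intro k; infer_instance
    · intro k; infer_instance
    · intro τ
      have h1 := SpCoprod3H7.iSup_part c hc (yE.symm t)
      have hτ : τ ∈ (⨆ i, SpCoprod2H7.part c hc (yE.symm t) i : T'.left.Opens) := by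
        rw [h1]; trivial
      obtain ⟨k, hk⟩ := TopologicalSpace.Opens.mem_iSup.1 hτ
      refine ⟨k, ?_⟩
      change τ ∈ Set.range (SpCoprod2H7.part c hc (yE.symm t) k).ι
      rw [Scheme.Opens.range_ι]
      exact hk
  refine (J S).superset_covering ?_ hcov
  rintro T'' n ⟨T₀, a, b, ⟨k⟩, rfl⟩
  obtain ⟨fst, hfst⟩ := SpCoprod2H7.exists_isPullback_part c hc (yE.symm t) k
  refine ⟨k, (yon S).map a ≫ fst, ?_⟩
  rw [Category.assoc, ← hD k, ← Category.assoc fst, hfst.w, Category.assoc, ht',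
    Functor.map_comp, Functor.map_comp, Category.assoc, Category.assoc]

end CofanSurj

/-- The sheaf `h_T` is covered by the `h_{U_i}` for an open cover `(U_i)` of `T`. -/
theorem openCover_jointly_surjective {T : Over S} (𝒰 : Scheme.OpenCover.{u} T.left) (T' : Over S)
    (s : (yon S).obj T' ⟶ (yon S).obj T) :
    ∃ R ∈ J S T', ∀ ⦃T'' : Over S⦄ (m : T'' ⟶ T'), R m →
      ∃ (i : 𝒰.I₀) (y : (yon S).obj T'' ⟶ (yon S).obj (Over.mk (𝒰.f i ≫ T.hom))),
        y ≫ (yon S).map (Over.homMk (𝒰.f i) rfl : Over.mk (𝒰.f i ≫ T.hom) ⟶ T) =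
          (yon S).map m ≫ s := by
  obtain ⟨σ, rfl⟩ := (yon S).map_surjective s
  let 𝒱 := 𝒰.pullback₁ σ.left
  let Tk : 𝒰.I₀ → Over S := fun i => Over.mk (𝒱.f i ≫ T'.hom)
  let ck : ∀ i, Tk i ⟶ T' := fun i => Over.homMk (𝒱.f i) rfl
  have hmem : Sieve.ofArrows Tk ck ∈ J S T' := by
    apply ofArrows_mem_J
    · intro k
      change Flat (𝒱.f k)
      infer_instance
    · intro k
      change LocallyOfFinitePresentation (𝒱.f k)
      infer_instance
    · intro τ
      obtain ⟨i, x, hx⟩ := Scheme.Cover.exists_eq 𝒱 τ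
      exact ⟨i, x, hx⟩
  refine ⟨_, hmem, ?_⟩
  rintro T'' m ⟨T₀, a, b, ⟨i⟩, rfl⟩
  let r : Tk i ⟶ Over.mk (𝒰.f i ≫ T.hom) := Over.homMk (pullback.snd σ.left (𝒰.f i)) (by
    show pullback.snd σ.left (𝒰.f i) ≫ 𝒰.f i ≫ T.hom = pullback.fst σ.left (𝒰.f i) ≫ T'.hom
    rw [← Category.assoc, ← pullback.condition, Category.assoc, Over.w])
  refine ⟨i, (yon S).map (a ≫ r), ?_⟩
  rw [← Functor.map_comp, ← Functor.map_comp]
  congr 1
  ext
  show (a.left ≫ pullback.snd σ.left (𝒰.f i)) ≫ 𝒰.f i =
    (a.left ≫ pullback.fst σ.left (𝒰.f i)) ≫ σ.left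
  have key : pullback.snd σ.left (𝒰.f i) ≫ 𝒰.f i = pullback.fst σ.left (𝒰.f i) ≫ σ.left :=
    pullback.condition.symm
  rw [Category.assoc, Category.assoc]
  exact congrArg (fun m : pullback σ.left (𝒰.f i) ⟶ T.left =>
    (a.left : T''.left ⟶ pullback σ.left (𝒰.f i)) ≫ m) key

/-- Representability with a Zariski local property can be checked over affine schemes mapping to
the target. -/
theorem repWith_of_affine_local (P : MorphismProperty Scheme.{u}) [IsZariskiLocalAtTarget P]
    [P.IsStableUnderBaseChange] {X Y : Sp S} (f : X ⟶ Y)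
    (h : ∀ (Z : Over S), IsAffine Z.left → ∀ g : (yon S).obj Z ⟶ Y,
      ∃ (W : Over S) (w : W ⟶ Z) (fst : (yon S).obj W ⟶ X),
        IsPullback fst ((yon S).map w) f g ∧ P w.left) :
    RepWith P f := by
  apply MorphismProperty.relative.of_exists
  intro T g
  let 𝒰 := T.left.affineCover
  let Ti : 𝒰.I₀ → Over S := fun i => Over.mk (𝒰.f i ≫ T.hom)
  let ιi : ∀ i, Ti i ⟶ T := fun i => Over.homMk (𝒰.f i) rfl
  have haff : ∀ i, IsAffine (Ti i).left := fun i => by
    change IsAffine (𝒰.X i)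
    infer_instance
  choose W w fst hsq hP using fun i => h (Ti i) (haff i) ((yon S).map (ιi i) ≫ g)
  let q : pullback f g ⟶ (yon S).obj T := pullback.snd f g
  let φ : ∀ i, (yon S).obj (W i) ⟶ pullback f g := fun i =>
    pullback.lift (fst i) ((yon S).map (w i ≫ ιi i)) (by
      rw [(hsq i).w, Functor.map_comp, Category.assoc])
  have sq : ∀ i, IsPullback (φ i) ((yon S).map (w i)) q ((yon S).map (ιi i)) := by
    intro i
    have big : IsPullback ((yon S).map (w i)) (φ i ≫ pullback.fst f g)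
        ((yon S).map (ιi i) ≫ g) f := by
      rw [pullback.lift_fst]
      exact (hsq i).flip
    have bot : IsPullback q (pullback.fst f g) g f := (IsPullback.of_hasPullback f g).flip
    refine (IsPullback.of_bot big ?_ bot).flip
    show _ = pullback.lift _ _ _ ≫ pullback.snd f g
    rw [pullback.lift_snd, Functor.map_comp]
  obtain ⟨Y', e, j, hj, hjo, hjs⟩ := exists_iso_of_isPullback_openCover q
    (fun i => (yon S).map (ιi i))
    (fun i => (repWith_yon_map_iff @IsOpenImmersion _).2 (by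
      change IsOpenImmersion (𝒰.f i)
      infer_instance))
    (fun T' s => openCover_jointly_surjective 𝒰 T' s) W φ (fun i => (yon S).map (w i)) sq
  let snd : Y' ⟶ T := (yon S).preimage (e.hom ≫ q)
  have hsnd : (yon S).map snd = e.hom ≫ q := (yon S).map_preimage _
  have hpb : IsPullback (e.hom ≫ pullback.fst f g) ((yon S).map snd) f g := by
    rw [hsnd]
    exact IsPullback.of_iso (IsPullback.of_hasPullback f g) e.symm (Iso.refl _) (Iso.refl _)
      (Iso.refl _) (by simp) (by simp [q]) (by simp) (by simp)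
  refine ⟨Y', e.hom ≫ pullback.fst f g, snd, hpb, ?_⟩
  show P snd.left
  refine IsZariskiLocalAtTarget.of_openCover 𝒰 (fun i => ?_)
  have sqY : IsPullback ((yon S).map (j i)) ((yon S).map (w i)) ((yon S).map snd)
      ((yon S).map (ιi i)) := by
    rw [hsnd]
    refine IsPullback.of_iso (sq i) (Iso.refl _) e.symm (Iso.refl _) (Iso.refl _) ?_ ?_ ?_ ?_
    · rw [← hj i]
      simp
    · simp
    · simp [q]
    · simp
  have sqO : IsPullback (j i) (w i) snd (ιi i) :=
    IsPullback.of_map (yon S) (by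
      apply (yon S).map_injective
      simp only [Functor.map_comp]
      exact sqY.w) sqY
  have sqS : IsPullback (j i).left (w i).left snd.left (𝒰.f i) := sqO.map (Over.forget S)
  have e1 : 𝒰.pullbackHom snd.left i = sqS.isoPullback.inv ≫ (w i).left :=
    (sqS.isoPullback_inv_snd).symm
  rw [e1]
  exact (P.cancel_left_of_respectsIso _ _).2 (hP i)

end Groth.Agent.Lib.AlgSpGlue2H7
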