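import Groth.Agent.Lib.AlgSpLocP5_helper7

/-!
# `LocP P` is fpqc local on the base; flatness is fpqc local on the source (helper7)
-/

set_option autoImplicit false
universe u
open CategoryTheory CategoryTheory.Limits AlgebraicGeometry Opposite MorphismProperty
open AlgSp Groth.Agent.Lib.AlgSpQC2_helper7 Groth.Agent.Lib.AlgSpPoints_helper7
  Groth.Agent.Lib.AlgSpQC_helper7 Groth.Agent.Lib.AlgSpDiag_helper7 Groth.Agent.Lib.AlgSpTop_helper7
  Groth.Agent.Lib.AlgSpPullback_helper7 Groth.Agent.Lib.AlgSpSep_helper7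
  Groth.Agent.Lib.AlgSpLocP_helper7 Groth.Agent.Lib.AlgSpUniv_helper7
  Groth.Agent.Lib.AlgSpFpqc_helper7 Groth.Agent.Lib.AlgSpFpqc2_helper7
  Groth.Agent.Lib.AlgSpDescent_helper7 Groth.Agent.Lib.AlgSpEtale_helper7
  Groth.Agent.Lib.AlgSpLocP2_helper7 Groth.Agent.Lib.AlgSpEpi_helper7
  Groth.Agent.Lib.SchSrcLocal_helper7 Groth.Agent.Lib.AlgSpLocP4_helper7
  Groth.Agent.Lib.AlgSpLocP5_helper7

namespace Groth.Agent.Lib.AlgSpLocP6_helper7

variable {S : Scheme.{u}}

/-- Flatness can be checked after precomposition with a jointly surjective family of flat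
morphisms. -/
theorem flat_of_family {ι : Type u} {U V : Scheme.{u}} (W : ι → Scheme.{u}) (c : ∀ i, W i ⟶ U)
    (h : U ⟶ V) (hc : ∀ i, Flat (c i)) (hs : ∀ x : U, ∃ i, x ∈ Set.range (c i))
    (hch : ∀ i, Flat (c i ≫ h)) : Flat h := by
  have := hc
  let σ : ∐ W ⟶ U := Sigma.desc c
  have hσs : Surjective σ := by
    refine ⟨fun z => ?_⟩
    obtain ⟨j, w, rfl⟩ := hs z
    refine ⟨Sigma.ι W j w, ?_⟩
    rw [← Scheme.Hom.comp_apply, Sigma.ι_desc]
  have hfl : Flat σ := inferInstance
  have e : σ ≫ h = Sigma.desc fun i => c i ≫ h := by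
    apply Sigma.hom_ext
    intro i
    rw [Sigma.ι_desc, ← Category.assoc, Sigma.ι_desc]
  have hfl2 : Flat (σ ≫ h) := by
    rw [e]
    have := hch
    infer_instance
  exact flat_of_comp_surjective σ h

theorem DescendsFlatCover.of_isPullback {Q : MorphismProperty Scheme.{u}} [Q.RespectsIso]
    (hD : DescendsFlatCover Q) {Z : Scheme.{u}} [IsAffine Z] {m : ℕ} (W : Fin m → Scheme.{u})
    (c : ∀ j, W j ⟶ Z) (hW : ∀ j, IsAffine (W j)) (hc : ∀ j, Flat (c j))
    (hs : ∀ z : Z, ∃ j, z ∈ Set.range (c j)) {V : Scheme.{u}} (f : V ⟶ Z)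
    (h : ∀ j, ∃ (T : Scheme.{u}) (fst : T ⟶ V) (snd : T ⟶ W j), IsPullback fst snd f (c j) ∧ Q snd) :
    Q f := by
  refine hD W c hW hc hs f fun j => ?_
  obtain ⟨T, fst, snd, sq, hQ⟩ := h j
  have he : sq.isoPullback.hom ≫ pullback.snd f (c j) = snd := sq.isoPullback_hom_snd
  rw [← MorphismProperty.cancel_left_of_respectsIso (P := Q) sq.isoPullback.hom, he]
  exact hQ

theorem descendsFlatCover_flat : DescendsFlatCover (@Flat : MorphismProperty Scheme.{u}) := by
  intro Z _ m W c hW hc hs V f h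
  have := hc
  have := h
  refine flat_of_family (ι := ULift.{u} (Fin m)) (fun j => pullback f (c j.down))
    (fun j => pullback.fst f (c j.down)) f (fun j => inferInstance) (fun v => ?_) (fun j => ?_)
  · obtain ⟨j, w, hw⟩ := hs (f v)
    obtain ⟨x, hx, _⟩ := Scheme.Pullback.exists_preimage_pullback v w hw.symm
    exact ⟨⟨j⟩, x, hx⟩
  · rw [pullback.condition]
    infer_instance

/-- For `P` étale local on the source-and-target, Zariski local on the target and descending along
standard fpqc coverings, `LocP P` is fpqc local on the base. -/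
theorem locP_isLocalOnBase_fpqc (P : MorphismProperty Scheme.{u}) [P.IsStableUnderBaseChange]
    [IsZariskiLocalAtTarget P] (hP : EtLocal P) (hD : DescendsFlatCover P) :
    IsLocalOnBase (IsFpqcCover (S := S)) (LocP P) := by
  intro ι Y Yi g hY hYi hcov X f hX Xi p q hXi sqs
  constructor
  · intro hf i
    exact locP_baseChange hP hX hY (hYi i) f (g i) (q i) (p i) (sqs i) hf
  · intro hp
    apply locP_of_forall_affine P f
    intro Z hZ h Q fst snd sq
    have hQ : IsAlgSpace Q := isAlgSpace_of_isPullback hY.diag hX (IsAlgSpace.yon_obj Z) sq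
    obtain ⟨m, W, c, hW, hc, hsurj, hl⟩ := exists_flat_cover_of_isFpqcCover hcov sqs hZ sq
    obtain ⟨U, a, hae, has⟩ := hQ.atlas
    obtain ⟨k, hk⟩ := (yon S).map_surjective (a ≫ snd)
    refine locP_of_one_chart hP snd a (𝟙 _) k hae has (repWith_id _ Z)
      (by rw [hk, Category.comp_id]) ?_
    have : IsAffine Z.left := hZ
    refine DescendsFlatCover.of_isPullback hD (fun j => (W j).left) (fun j => (c j).left) hW hc hsurj k.left
      fun j => ?_
    obtain ⟨i, l, l', sql⟩ := hl j
    have hL : LocP P (pullback.snd snd ((yon S).map (c j))) :=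
      locP_baseChange hP (hXi i) (hYi i) (IsAlgSpace.yon_obj _) (p i) l l' _ sql (hp i)
    have sqO := IsPullback.of_hasPullback k (c j)
    have sqU' : IsPullback (pullback.fst k (c j)).left (pullback.snd k (c j)).left k.left
        (c j).left := sqO.map (Over.forget S)
    refine ⟨_, _, _, sqU', ?_⟩
    have sqY : IsPullback ((yon S).map (pullback.fst k (c j))) ((yon S).map (pullback.snd k (c j)))
        ((yon S).map k) ((yon S).map (c j)) := sqO.map (yon S)
    have sqT := IsPullback.of_hasPullback snd ((yon S).map (c j))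
    let a' : (yon S).obj (pullback k (c j)) ⟶ pullback snd ((yon S).map (c j)) :=
      sqT.lift ((yon S).map (pullback.fst k (c j)) ≫ a) ((yon S).map (pullback.snd k (c j))) (by
        rw [Category.assoc, ← hk, sqY.w])
    have ha'1 : a' ≫ pullback.fst snd ((yon S).map (c j)) = (yon S).map (pullback.fst k (c j)) ≫ a :=
      sqT.lift_fst _ _ _
    have ha'2 : a' ≫ pullback.snd snd ((yon S).map (c j)) = (yon S).map (pullback.snd k (c j)) :=
      sqT.lift_snd _ _ _
    have sqL : IsPullback a' ((yon S).map (pullback.fst k (c j)))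
        (pullback.fst snd ((yon S).map (c j))) a := by
      refine IsPullback.of_right (h₁₂ := pullback.snd snd ((yon S).map (c j))) (h₂₂ := snd) ?_ ha'1
        sqT.flip
      rw [ha'2, ← hk]
      exact sqY.flip
    have ha'e : RepWith @Etale a' := repWith_fst_of_isPullback _ sqL hae
    exact hL a' (𝟙 _) (pullback.snd k (c j)) ha'e (repWith_id _ _) (by rw [ha'2, Category.comp_id])

theorem isLocalOnBase_and {τ : CovNotion S} {P P' : MorphismProperty (Sp S)}
    (h : IsLocalOnBase τ P) (h' : IsLocalOnBase τ P') :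
    IsLocalOnBase τ (fun _ _ f => P f ∧ P' f) := by
  intro ι Y Yi g hY hYi hcov X f hX Xi p q hXi sqs
  have e1 := h Yi g hY hYi hcov f hX Xi p q hXi sqs
  have e2 := h' Yi g hY hYi hcov f hX Xi p q hXi sqs
  constructor
  · rintro ⟨h1, h2⟩ i
    exact ⟨e1.1 h1 i, e2.1 h2 i⟩
  · intro hh
    exact ⟨e1.2 fun i => (hh i).1, e2.2 fun i => (hh i).2⟩

theorem isLocalOnBase_fpqc_locP_flat :
    IsLocalOnBase (IsFpqcCover (S := S)) (LocP @Flat) :=
  locP_isLocalOnBase_fpqc _ etLocal_flat descendsFlatCover_flat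

theorem isLocalOnBase_fpqc_locP_locallyOfFiniteType :
    IsLocalOnBase (IsFpqcCover (S := S)) (LocP @LocallyOfFiniteType) :=
  locP_isLocalOnBase_fpqc _ etLocal_locallyOfFiniteType (descendsFlatCover_of_descendsAlong _)

theorem isLocalOnBase_fpqc_isFiniteTypeMor :
    IsLocalOnBase (IsFpqcCover (S := S)) IsFiniteTypeMor :=
  isLocalOnBase_and isLocalOnBase_fpqc_locP_locallyOfFiniteType isLocalOnBase_fpqc_isQuasiCompactMor

theorem isLocalOnBase_fpqc_isProperMor :
    IsLocalOnBase (IsFpqcCover (S := S)) IsProperMor :=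
  isLocalOnBase_and isLocalOnBase_fpqc_isSeparatedMor
    (isLocalOnBase_and isLocalOnBase_fpqc_isFiniteTypeMor isLocalOnBase_fpqc_isUnivClosedMor)

end Groth.Agent.Lib.AlgSpLocP6_helper7
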