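import Groth.Agent.Lib.AffDesc3_helper7
import Groth.Agent.Lib.SpCoprod5_helper7
import Groth.Agent.Lib.AlgSpGlue2_helper7
import Groth.Agent.Lib.AlgSpLocP6_helper7

/-!
# Affine fpqc descent for algebraic spaces, part 4 (helper7)

`affRep_isLocalOnBase_fpqc`: "affine with property `Q`" is fpqc local on the base, and the
applications to affine, integral, finite, finite locally free morphisms and closed immersions.
-/

set_option autoImplicit false
universe u
open CategoryTheory CategoryTheory.Limits AlgebraicGeometry Opposite TensorProduct MorphismProperty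
open AlgSp Groth.Agent.Lib.AlgSpQC2_helper7 Groth.Agent.Lib.AlgSpPoints_helper7
  Groth.Agent.Lib.AlgSpQC_helper7 Groth.Agent.Lib.AlgSpPullback_helper7
  Groth.Agent.Lib.AlgSpLocP_helper7 Groth.Agent.Lib.AlgSpFpqc3_helper7
  Groth.Agent.Lib.AlgSpIso_helper7 Groth.Agent.Lib.AlgSpAffine_helper7
  Groth.Agent.Lib.AlgSpSmST_helper7 Groth.Agent.Lib.SpCoprod4H7 Groth.Agent.Lib.SpCoprod3H7
  Groth.Agent.Lib.AlgSpFpqc2_helper7

namespace Groth.Agent.Lib.AffDescH7

variable {S : Scheme.{u}}

/-- Base change of a family of represented squares to the disjoint union. -/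
theorem isPullback_sigma_of_forall {ι : Type u} {P : Sp S} {Z : Over S}
    (s : P ⟶ (yon S).obj Z) (W V : ι → Over S) (c : ∀ k, W k ⟶ Z) (v : ∀ k, V k ⟶ W k)
    (a : ∀ k, (yon S).obj (V k) ⟶ P)
    (sq : ∀ k, IsPullback (a k) ((yon S).map (v k)) s ((yon S).map (c k))) :
    ∃ a' : (yon S).obj (sigmaOver V) ⟶ P,
      IsPullback a' ((yon S).map (sigmaOverDesc V (fun k => v k ≫ sigmaOverι W k))) s
        ((yon S).map (sigmaOverDesc W c)) := by
  obtain ⟨hV⟩ := isColimit_yon_sigma V
  obtain ⟨hW⟩ := isColimit_yon_sigma W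
  let cW : Cofan (fun k => (yon S).obj (W k)) :=
    Cofan.mk ((yon S).obj (sigmaOver W)) (fun k => (yon S).map (sigmaOverι W k))
  let cV : Cofan (fun k => (yon S).obj (V k)) :=
    Cofan.mk ((yon S).obj (sigmaOver V)) (fun k => (yon S).map (sigmaOverι V k))
  let c' := sigmaOverDesc W c
  let vv := sigmaOverDesc V (fun k => v k ≫ sigmaOverι W k)
  let a' : (yon S).obj (sigmaOver V) ⟶ P := Cofan.IsColimit.desc hV a
  have ha' : ∀ k, (yon S).map (sigmaOverι V k) ≫ a' = a k := fun k =>
    Cofan.IsColimit.fac hV a k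
  have hcW : ∀ k, (yon S).map (sigmaOverι W k) ≫ (yon S).map c' = (yon S).map (c k) := fun k => by
    rw [← Functor.map_comp, sigmaOverι_desc]
  have hvv : ∀ k, (yon S).map (sigmaOverι V k) ≫ (yon S).map vv =
      (yon S).map (v k) ≫ (yon S).map (sigmaOverι W k) := fun k => by
    rw [← Functor.map_comp, sigmaOverι_desc, Functor.map_comp]
  have hw : a' ≫ s = (yon S).map vv ≫ (yon S).map c' := by
    refine Cofan.IsColimit.hom_ext hV _ _ (fun k => ?_)
    show (yon S).map (sigmaOverι V k) ≫ a' ≫ s =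
      (yon S).map (sigmaOverι V k) ≫ (yon S).map vv ≫ (yon S).map c'
    rw [← Category.assoc, ha', (sq k).w, ← Category.assoc, hvv, Category.assoc, hcW]
  let π₁ := pullback.fst s ((yon S).map c')
  let π₂ := pullback.snd s ((yon S).map c')
  let θ : (yon S).obj (sigmaOver V) ⟶ pullback s ((yon S).map c') :=
    pullback.lift a' ((yon S).map vv) hw
  obtain ⟨hP⟩ := isColimit_pullback_cofan cW hW π₂
  have sqk : ∀ k, IsPullback (pullback.snd (cW.inj k) π₂ ≫ π₁) (pullback.fst (cW.inj k) π₂) s
      ((yon S).map (c k)) := by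
    intro k
    have h1 := (IsPullback.of_hasPullback (cW.inj k) π₂).flip
    have h2 := IsPullback.of_hasPullback s ((yon S).map c')
    have h3 := h1.paste_horiz h2
    have e : cW.inj k ≫ (yon S).map c' = (yon S).map (c k) := hcW k
    rw [e] at h3
    exact h3
  let θk : ∀ k, (yon S).obj (V k) ≅ pullback (cW.inj k) π₂ := fun k =>
    (sq k).isoIsPullback _ _ (sqk k)
  have hθ : ∀ k, cV.inj k ≫ θ = (θk k).hom ≫ pullback.snd (cW.inj k) π₂ := by
    intro k
    apply pullback.hom_ext
    · rw [Category.assoc, pullback.lift_fst, Category.assoc]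
      have := (sq k).isoIsPullback_hom_fst _ _ (sqk k)
      rw [this]
      exact ha' k
    · rw [Category.assoc, pullback.lift_snd, Category.assoc]
      have h4 : pullback.snd (cW.inj k) π₂ ≫ pullback.snd s ((yon S).map c') =
          pullback.fst (cW.inj k) π₂ ≫ cW.inj k := pullback.condition.symm
      rw [h4, ← Category.assoc]
      have := (sq k).isoIsPullback_hom_snd _ _ (sqk k)
      rw [this]
      exact hvv k
  have hiso : IsIso θ := isIso_of_cofan_iso (d := cV) hV hP θ θk hθ
  exact ⟨a', IsPullback.of_iso_pullback ⟨hw⟩ (asIso θ) (pullback.lift_fst _ _ _)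
    (pullback.lift_snd _ _ _)⟩

/-- `f` is affine and its affine base changes have property `Q`. -/
def AffRep (Q : MorphismProperty Scheme.{u}) : MorphismProperty (Sp S) := fun F G f =>
  ∀ ⦃Z : Over S⦄, IsAffine Z.left → ∀ (g : (yon S).obj Z ⟶ G),
    ∃ (W : Over S) (i : W ⟶ Z) (fst : (yon S).obj W ⟶ F),
      IsPullback fst ((yon S).map i) f g ∧ IsAffine W.left ∧ Q i.left

/-- `Q` descends along standard fpqc coverings of affine schemes, for affine sources. -/
def DescendsFlatCoverAff (Q : MorphismProperty Scheme.{u}) : Prop :=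
  ∀ {Z : Scheme.{u}} [IsAffine Z] {m : ℕ} (W : Fin m → Scheme.{u}) (c : ∀ j, W j ⟶ Z),
    (∀ j, IsAffine (W j)) → (∀ j, Flat (c j)) → (∀ z : Z, ∃ j, z ∈ Set.range (c j)) →
    ∀ {V : Scheme.{u}} [IsAffine V] (f : V ⟶ Z), (∀ j, Q (pullback.snd f (c j))) → Q f

theorem DescendsFlatCover.aff {Q : MorphismProperty Scheme.{u}} (h : DescendsFlatCover Q) :
    DescendsFlatCoverAff Q := fun W c hW hc hs _ _ f hf => h W c hW hc hs f hf

set_option maxHeartbeats 1600000 in
theorem affRep_isLocalOnBase_fpqc (Q : MorphismProperty Scheme.{u}) [Q.RespectsIso]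
    (hQ : DescendsFlatCoverAff Q) : IsLocalOnBase (IsFpqcCover (S := S)) (AffRep Q) := by
  intro ι Y Yi g hY hYi hcov X f hX Xi p q hXi sqs
  constructor
  · intro hf i Z hZ t
    obtain ⟨W, w, fst, sq, hW, hQw⟩ := hf hZ (t ≫ g i)
    have hw : fst ≫ f = ((yon S).map w ≫ t) ≫ g i := by
      rw [Category.assoc]
      exact sq.w
    refine ⟨W, w, (sqs i).lift fst ((yon S).map w ≫ t) hw, ?_, hW, hQw⟩
    exact IsPullback.of_right (by rw [(sqs i).lift_fst]; exact sq) ((sqs i).lift_snd _ _ _) (sqs i)
  · intro hp Z hZ t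
    haveI := hZ
    obtain ⟨m, W, c, hW, hc, hsurj, hl⟩ := hcov.2 Z hZ t
    choose i l hl using hl
    let s := pullback.snd f t
    have sqZ := IsPullback.of_hasPullback f t
    have hXZ : IsAlgSpace (pullback f t) :=
      isAlgSpace_of_isPullback hY.diag hX (IsAlgSpace.yon_obj Z) sqZ
    have key : ∀ j, ∃ (V : Over S) (v : V ⟶ W j) (a : (yon S).obj V ⟶ pullback f t),
        IsPullback a ((yon S).map v) s ((yon S).map (c j)) ∧ IsAffine V.left ∧ Q v.left := by
      intro j
      obtain ⟨V, v, b, sqV, hV, hQv⟩ := hp (i j) (hW j) (l j)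
      have big : IsPullback (b ≫ q (i j)) ((yon S).map v) f ((yon S).map (c j) ≫ t) := by
        rw [← hl j]
        exact sqV.paste_horiz (sqs (i j))
      have hw : (b ≫ q (i j)) ≫ f = ((yon S).map v ≫ (yon S).map (c j)) ≫ t := by
        rw [Category.assoc]
        exact big.w
      refine ⟨V, v, sqZ.lift _ _ hw, ?_, hV, hQv⟩
      exact IsPullback.of_right (by rw [sqZ.lift_fst]; exact big) (sqZ.lift_snd _ _ _) sqZ
    choose V v a sqa hV hQv using key
    let Wk : ULift.{u} (Fin m) → Over S := fun k => W k.down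
    let Vk : ULift.{u} (Fin m) → Over S := fun k => V k.down
    let ck : ∀ k, Wk k ⟶ Z := fun k => c k.down
    obtain ⟨a', sq'⟩ := isPullback_sigma_of_forall s Wk Vk ck (fun k => v k.down)
      (fun k => a k.down) (fun k => sqa k.down)
    let Z' : Over S := sigmaOver Wk
    let c' : Z' ⟶ Z := sigmaOverDesc Wk ck
    haveI : ∀ k, IsAffine (Wk k).left := fun k => hW k.down
    haveI : ∀ k, IsAffine (Vk k).left := fun k => hV k.down
    have hZ'aff : IsAffine Z'.left := by
      show IsAffine (∐ fun k => (Wk k).left)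
      infer_instance
    have hV'aff : IsAffine (sigmaOver Vk).left := by
      show IsAffine (∐ fun k => (Vk k).left)
      infer_instance
    have hc'flat : Flat c'.left := by
      show Flat (Sigma.desc (fun k => (ck k).left))
      exact IsZariskiLocalAtSource.sigmaDesc (P := @Flat) (fun k => hc k.down)
    have hc'surj : Surjective c'.left := by
      refine ⟨fun z => ?_⟩
      obtain ⟨j, y, hy⟩ := hsurj z
      refine ⟨(Sigma.ι (fun k => (Wk k).left) ⟨j⟩) y, ?_⟩
      show (Sigma.desc (fun k => (ck k).left)) ((Sigma.ι (fun k => (Wk k).left) ⟨j⟩) y) = z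
      rw [← Scheme.Hom.comp_apply, Sigma.ι_desc]
      exact hy
    obtain ⟨VE, hVE, ⟨e⟩⟩ := affine_descent c' hZ hZ'aff hc'surj hc'flat hXZ s hV'aff a' _ sq'
    haveI := hVE
    obtain ⟨w, hw⟩ := (yon S).map_surjective (e.hom ≫ s)
    have sqE : IsPullback (e.hom ≫ pullback.fst f t) ((yon S).map w) f t := by
      rw [hw]
      exact IsPullback.of_iso sqZ e.symm (Iso.refl _) (Iso.refl _) (Iso.refl _) (by simp)
        (by simp [s]) (by simp) (by simp)
    refine ⟨VE, w, _, sqE, hVE, ?_⟩
    refine hQ (fun j => (W j).left) (fun j => (c j).left) hW hc hsurj w.left (fun j => ?_)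
    have sq0 := (IsPullback.of_hasPullback w (c j)).map (yon S)
    rw [hw] at sq0
    have sq1 : IsPullback ((yon S).map (pullback.fst w (c j)) ≫ e.hom)
        ((yon S).map (pullback.snd w (c j))) s ((yon S).map (c j)) :=
      IsPullback.of_iso sq0 (Iso.refl _) e (Iso.refl _) (Iso.refl _) (by simp) (by simp)
        (by simp) (by simp)
    let ε := (sqa j).isoIsPullback _ _ sq1
    have hε : ε.hom ≫ (yon S).map (pullback.snd w (c j)) = (yon S).map (v j) :=
      (sqa j).isoIsPullback_hom_snd _ _ sq1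
    let ε₀ : V j ≅ pullback w (c j) := (yon S).preimageIso ε
    have hε₀ : ε₀.hom ≫ pullback.snd w (c j) = v j := by
      apply (yon S).map_injective
      rw [Functor.map_comp]
      simpa [ε₀] using hε
    haveI : IsIso ε₀.hom.left := inferInstanceAs (IsIso ((Over.forget S).map ε₀.hom))
    have h5 : Q (pullback.snd w (c j)).left := by
      have h6 : Q (ε₀.hom.left ≫ (pullback.snd w (c j)).left) := by
        rw [← Over.comp_left, hε₀]
        exact hQv j
      exact (MorphismProperty.cancel_left_of_respectsIso Q _ _).1 h6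
    have e7 : (PreservesPullback.iso (Over.forget S) w (c j)).hom ≫
        pullback.snd w.left (c j).left = (pullback.snd w (c j)).left :=
      PreservesPullback.iso_hom_snd (Over.forget S) w (c j)
    rw [← e7] at h5
    exact (MorphismProperty.cancel_left_of_respectsIso Q _ _).1 h5

end Groth.Agent.Lib.AffDescH7
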