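import Groth.Agent.Lib.AffDesc4_helper7
import Groth.Prelude.Def_AlgSpMor5

/-!
# Affine fpqc descent for algebraic spaces, part 5: applications (helper7)
-/

set_option autoImplicit false
universe u
open CategoryTheory CategoryTheory.Limits AlgebraicGeometry Opposite MorphismProperty
open AlgSp Groth.Agent.Lib.AlgSpFpqc2_helper7 Groth.Agent.Lib.AlgSpGlue2H7
  Groth.Agent.Lib.AlgSpLocP6_helper7

namespace Groth.Agent.Lib.AffDescH7

variable {S : Scheme.{u}}

theorem descendsFlatCoverAff_top : DescendsFlatCoverAff (⊤ : MorphismProperty Scheme.{u}) :=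
  fun _ _ _ _ _ _ _ _ _ => trivial

theorem affRep_top_iff {X Y : Sp S} (f : X ⟶ Y) :
    AffRep (⊤ : MorphismProperty Scheme.{u}) f ↔ IsAffineMor f := by
  constructor
  · intro h Z hZ g
    obtain ⟨W, i, fst, sq, hW, -⟩ := h hZ g
    exact ⟨W, i, fst, sq, hW⟩
  · intro h Z hZ g
    obtain ⟨W, i, fst, sq, hW⟩ := h hZ g
    exact ⟨W, i, fst, sq, hW, trivial⟩

theorem isLocalOnBase_fpqc_isAffineMor : IsLocalOnBase (IsFpqcCover (S := S)) IsAffineMor :=
  isLocalOnBase_congr (fun _ _ f => affRep_top_iff f)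
    (affRep_isLocalOnBase_fpqc ⊤ descendsFlatCoverAff_top)

theorem descendsFlatCoverAff_isIntegralHom : DescendsFlatCoverAff @IsIntegralHom := by
  intro Z _ m W c hW hc hs V _ f h
  rw [IsIntegralHom.iff_universallyClosed_and_isAffineHom]
  refine ⟨descendsFlatCover_of_descendsAlong @UniversallyClosed W c hW hc hs f (fun j => ?_),
    inferInstance⟩
  haveI := h j
  infer_instance

theorem isLocalOnBase_fpqc_isIntegralMor : IsLocalOnBase (IsFpqcCover (S := S)) IsIntegralMor :=
  isLocalOnBase_congr (fun _ _ f => Iff.rfl)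
    (affRep_isLocalOnBase_fpqc @IsIntegralHom descendsFlatCoverAff_isIntegralHom)

theorem descendsFlatCoverAff_isFinite : DescendsFlatCoverAff @IsFinite := by
  intro Z _ m W c hW hc hs V _ f h
  rw [IsFinite.iff_isIntegralHom_and_locallyOfFiniteType]
  refine ⟨descendsFlatCoverAff_isIntegralHom W c hW hc hs f (fun j => ?_),
    descendsFlatCover_of_descendsAlong @LocallyOfFiniteType W c hW hc hs f (fun j => ?_)⟩
  · haveI := h j
    infer_instance
  · haveI := h j
    infer_instance

theorem isLocalOnBase_fpqc_isFiniteMor : IsLocalOnBase (IsFpqcCover (S := S)) IsFiniteMor :=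
  isLocalOnBase_congr (fun _ _ f => Iff.rfl)
    (affRep_isLocalOnBase_fpqc @IsFinite descendsFlatCoverAff_isFinite)

theorem affRep_iff_repWith (P : MorphismProperty Scheme.{u}) [IsZariskiLocalAtTarget P]
    [P.IsStableUnderBaseChange] (hP : ∀ ⦃A B : Scheme.{u}⦄ (g : A ⟶ B), P g → IsAffineHom g)
    {X Y : Sp S} (f : X ⟶ Y) : AffRep P f ↔ RepWith P f := by
  constructor
  · intro h
    exact repWith_of_affine_local P f (fun Z hZ g => by
      obtain ⟨W, w, fst, sq, -, hQ⟩ := h hZ g
      exact ⟨W, w, fst, sq, hQ⟩)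
  · intro hf Z hZ g
    haveI := hZ
    have hP' := hf.property_snd g
    have h1 : IsAffineHom (hf.rep.snd g).left := hP _ hP'
    haveI := h1
    exact ⟨_, hf.rep.snd g, hf.rep.fst g, hf.rep.isPullback g,
      isAffine_of_isAffineHom (hf.rep.snd g).left, hP'⟩

theorem isLocalOnBase_fpqc_repWith_isClosedImmersion :
    IsLocalOnBase (IsFpqcCover (S := S)) (RepWith @IsClosedImmersion) :=
  isLocalOnBase_congr
    (fun _ _ f => affRep_iff_repWith @IsClosedImmersion (fun _ _ g hg => inferInstance) f)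
    (affRep_isLocalOnBase_fpqc @IsClosedImmersion (DescendsFlatCover.aff descendsFlatCover_isClosedImmersion))

theorem finLocFree_eq :
    (finLocFree.{u}) =
      (@IsFinite ⊓ @Flat ⊓ @LocallyOfFinitePresentation : MorphismProperty Scheme.{u}) := by
  ext X Y f
  exact ⟨fun h => ⟨⟨h.1, h.2.1⟩, h.2.2⟩, fun h => ⟨h.1.1, h.1.2, h.2⟩⟩

instance : IsZariskiLocalAtTarget finLocFree.{u} := by
  rw [finLocFree_eq]
  infer_instance

theorem descendsFlatCoverAff_finLocFree : DescendsFlatCoverAff finLocFree.{u} := by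
  intro Z _ m W c hW hc hs V _ f h
  exact ⟨descendsFlatCoverAff_isFinite W c hW hc hs f (fun j => (h j).1),
    descendsFlatCover_flat W c hW hc hs f (fun j => (h j).2.1),
    descendsFlatCover_of_descendsAlong @LocallyOfFinitePresentation W c hW hc hs f
      (fun j => (h j).2.2)⟩

theorem isLocalOnBase_fpqc_isFinLocFreeMor :
    IsLocalOnBase (IsFpqcCover (S := S)) IsFinLocFreeMor := by
  haveI : (finLocFree.{u}).RespectsIso := MorphismProperty.IsStableUnderBaseChange.respectsIso
  exact isLocalOnBase_congr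
    (fun _ _ f => affRep_iff_repWith finLocFree
      (fun _ _ g hg => by haveI : IsFinite g := hg.1; infer_instance) f)
    (affRep_isLocalOnBase_fpqc finLocFree descendsFlatCoverAff_finLocFree)

end Groth.Agent.Lib.AffDescH7
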