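import Groth.Agent.Lib.AffDesc5_helper7
import Groth.Prelude.Def_AlgSpInf

/-!
# Affine fpqc descent, part 6: thickenings (helper7)
-/

set_option autoImplicit false
universe u
open CategoryTheory CategoryTheory.Limits AlgebraicGeometry Opposite MorphismProperty
open AlgSp Groth.Agent.Lib.AlgSpFpqc2_helper7 Groth.Agent.Lib.AlgSpGlue2H7
  Groth.Agent.Lib.AlgSpLocP6_helper7

namespace Groth.Agent.Lib.AffDescH7

variable {S : Scheme.{u}}

theorem isLocalOnBase_fpqc_isThickMor : IsLocalOnBase (IsFpqcCover (S := S)) IsThickMor := by
  haveI : IsZariskiLocalAtTarget thick.{u} := by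
    unfold thick
    infer_instance
  haveI : (thick.{u}).RespectsIso := MorphismProperty.IsStableUnderBaseChange.respectsIso
  have hd : DescendsFlatCoverAff thick.{u} :=
    DescendsFlatCover.aff (descendsFlatCover_inf descendsFlatCover_isClosedImmersion
      (descendsFlatCover_of_descendsAlong @Surjective))
  exact isLocalOnBase_congr
    (fun _ _ f => affRep_iff_repWith thick
      (fun _ _ g hg => by haveI : IsClosedImmersion g := hg.1; infer_instance) f)
    (affRep_isLocalOnBase_fpqc thick hd)

end Groth.Agent.Lib.AffDescH7
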