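import Groth.Agent.Lib.AffDesc4_helper7

/-!
# Affine fpqc descent, part 7: the `Γ`-hull and its flat base change (helper7)

`coreΓ`: for an algebraic space `X` over `Spec A` with an affine étale atlas `Spec C` whose
kernel pair `Spec D` is affine, the map `φ : X ⟶ Spec E`, `E = eq(C ⇉ D)`, has the property that
for every flat `A`-algebra `B` and every scheme `V'` representing `X ×_A B`, the induced
`V' ⟶ Spec (B ⊗ E)` is an isomorphism on global sections.
-/

set_option autoImplicit false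
universe u
open CategoryTheory CategoryTheory.Limits AlgebraicGeometry Opposite TensorProduct MorphismProperty
open AlgSp Groth.Agent.Lib.AlgSpQC2_helper7 Groth.Agent.Lib.AlgSpPoints_helper7
  Groth.Agent.Lib.AlgSpQC_helper7 Groth.Agent.Lib.AlgSpPullback_helper7
  Groth.Agent.Lib.AlgSpLocP_helper7 Groth.Agent.Lib.AlgSpFpqc3_helper7
  Groth.Agent.Lib.AlgSpIso_helper7 Groth.Agent.Lib.AlgSpAffine_helper7

namespace Groth.Agent.Lib.AffDescH7

variable {S : Scheme.{u}}

/-- A flat surjective morphism is injective on global sections. -/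
theorem injective_appTop_of_flat_of_surjective {X₀ Y : Scheme.{u}} (π : X₀ ⟶ Y) [Flat π]
    [Surjective π] : Function.Injective π.appTop.hom := by
  haveI : Epi π := Flat.epi_of_flat_of_surjective π
  haveI : Mono π.appTop := by
    refine ⟨fun {R} α β h => ?_⟩
    let α' := (ΓSpec.adjunction.homEquiv Y (op R)) α.op
    let β' := (ΓSpec.adjunction.homEquiv Y (op R)) β.op
    have hα : α'.appTop = (Scheme.ΓSpecIso R).hom ≫ α := ΓSpec_adjunction_homEquiv_eq α
    have hβ : β'.appTop = (Scheme.ΓSpecIso R).hom ≫ β := ΓSpec_adjunction_homEquiv_eq β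
    have h1 : π ≫ α' = π ≫ β' := by
      apply ext_of_isAffine
      rw [Scheme.Hom.comp_appTop, Scheme.Hom.comp_appTop, hα, hβ, Category.assoc, Category.assoc, h]
    have h2 : α' = β' := (cancel_epi π).1 h1
    have h3 : (Scheme.ΓSpecIso R).hom ≫ α = (Scheme.ΓSpecIso R).hom ≫ β := by
      rw [← hα, ← hβ, h2]
    exact (cancel_epi _).1 h3
  exact ConcreteCategory.injective_of_mono_of_preservesPullback π.appTop

theorem isIso_of_flat_equalizer {A B C D : Type u} [CommRing A] [CommRing B] [CommRing C]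
    [CommRing D] [Algebra A B] [Algebra A C] [Algebra A D] [Module.Flat A B] (σ τ : C →ₐ[A] D)
    {R' : CommRingCat.{u}} (ιc : R' ⟶ CommRingCat.of (B ⊗[A] C))
    (hι : Function.Injective ιc.hom)
    (θc : CommRingCat.of (B ⊗[A] (AlgHom.equalizer σ τ)) ⟶ R')
    (hθ : θc ≫ ιc = CommRingCat.ofHom ((Algebra.TensorProduct.map (AlgHom.id B B)
      (AlgHom.equalizer σ τ).val).restrictScalars A).toRingHom)
    (heq : ιc ≫ CommRingCat.ofHom
        ((Algebra.TensorProduct.map (AlgHom.id B B) σ).restrictScalars A).toRingHom =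
      ιc ≫ CommRingCat.ofHom
        ((Algebra.TensorProduct.map (AlgHom.id B B) τ).restrictScalars A).toRingHom) :
    IsIso θc := by
  have hbij : Function.Bijective θc.hom :=
    bijective_of_flat_equalizer σ τ ιc.hom hι θc.hom
      (fun x => congrArg (fun k : CommRingCat.of (B ⊗[A] (AlgHom.equalizer σ τ)) ⟶
        CommRingCat.of (B ⊗[A] C) => k.hom x) hθ)
      (fun b' => congrArg (fun k : R' ⟶ CommRingCat.of (B ⊗[A] D) => k.hom b') heq)
  have : θc = (RingEquiv.ofBijective θc.hom hbij).toCommRingCatIso.hom := rfl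
  rw [this]
  infer_instance

variable {A : Type u} [CommRing A] (zs : Spec (CommRingCat.of A) ⟶ S)

set_option maxHeartbeats 3200000 in
theorem coreΓ {C D : Type u} [CommRing C] [CommRing D] [Algebra A C] [Algebra A D]
    (σ τ : C →ₐ[A] D) {X : Sp S} (f : X ⟶ (yon S).obj (Over.mk zs))
    (p : (yon S).obj (SpA zs C) ⟶ X) (hpf : p ≫ f = (yon S).map (SpA.str zs C))
    (hpe : RepWith @Etale p) (hps : RepWith @Surjective p)
    (kp : IsPullback ((yon S).map (SpA.map zs σ)) ((yon S).map (SpA.map zs τ)) p p) :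
    ∃ φ : X ⟶ (yon S).obj (SpA zs (AlgHom.equalizer σ τ)),
      φ ≫ (yon S).map (SpA.str zs (AlgHom.equalizer σ τ)) = f ∧
      ∀ (B : Type u) [CommRing B] [Algebra A B] [Module.Flat A B] (V' : Over S)
        (v' : V' ⟶ SpA zs B) (fst₁ : (yon S).obj V' ⟶ X)
        (_ : IsPullback fst₁ ((yon S).map v') f ((yon S).map (SpA.str zs B))),
        ∃ ψ₀ : V' ⟶ SpA zs (B ⊗[A] (AlgHom.equalizer σ τ)),
          IsPullback fst₁ ((yon S).map ψ₀) φ
            ((yon S).map (SpA.map zs (Algebra.TensorProduct.includeRight :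
              AlgHom.equalizer σ τ →ₐ[A] B ⊗[A] AlgHom.equalizer σ τ))) ∧
          IsIso ψ₀.left.appTop := by
  let E := AlgHom.equalizer σ τ
  let εC : E →ₐ[A] C := E.val
  have hστ : σ.comp εC = τ.comp εC := AlgHom.ext fun x => (AlgHom.mem_equalizer σ τ _).1 x.2
  have hu : SpA.map zs σ ≫ SpA.map zs εC = SpA.map zs τ ≫ SpA.map zs εC := by
    rw [← SpA.map_comp, ← SpA.map_comp, hστ]
  haveI : Epi p := epi_of_atlas p hpe hps
  haveI : IsRegularEpi p := IsRegularEpiCategory.regularEpiOfEpi p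
  obtain ⟨φ, hφ⟩ := IsRegularEpi.exists_of_isKernelPair p kp ((yon S).map (SpA.map zs εC))
    (by rw [← Functor.map_comp, ← Functor.map_comp, hu])
  have hφf : φ ≫ (yon S).map (SpA.str zs E) = f := by
    rw [← cancel_epi p, ← Category.assoc, hφ, ← Functor.map_comp, SpA.map_str, hpf]
  refine ⟨φ, hφf, ?_⟩
  intro B _ _ _ V' v' fst₁ sq₁
  let iR_C : C →ₐ[A] B ⊗[A] C := Algebra.TensorProduct.includeRight
  let iL_C : B →ₐ[A] B ⊗[A] C := Algebra.TensorProduct.includeLeft
  let iR_D : D →ₐ[A] B ⊗[A] D := Algebra.TensorProduct.includeRight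
  let iL_D : B →ₐ[A] B ⊗[A] D := Algebra.TensorProduct.includeLeft
  let iR_E : E →ₐ[A] B ⊗[A] E := Algebra.TensorProduct.includeRight
  let iL_E : B →ₐ[A] B ⊗[A] E := Algebra.TensorProduct.includeLeft
  have P1C : IsPullback ((yon S).map (SpA.map zs iR_C)) ((yon S).map (SpA.map zs iL_C))
      ((yon S).map (SpA.str zs C)) ((yon S).map (SpA.str zs B)) := SpA.isPullback_yon zs B C
  have P1E : IsPullback ((yon S).map (SpA.map zs iR_E)) ((yon S).map (SpA.map zs iL_E))
      ((yon S).map (SpA.str zs E)) ((yon S).map (SpA.str zs B)) := SpA.isPullback_yon zs B E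
  have wπ : ((yon S).map (SpA.map zs iR_C) ≫ p) ≫ f =
      (yon S).map (SpA.map zs iL_C) ≫ (yon S).map (SpA.str zs B) := by
    rw [Category.assoc, hpf, ← Functor.map_comp, ← Functor.map_comp, SpA.map_str, SpA.map_str]
  obtain ⟨π', hπ'⟩ := (yon S).map_surjective (sq₁.lift _ _ wπ)
  have hπ1 : (yon S).map π' ≫ fst₁ = (yon S).map (SpA.map zs iR_C) ≫ p := by
    rw [hπ', sq₁.lift_fst]
  have hπ2 : π' ≫ v' = SpA.map zs iL_C := by
    apply (yon S).map_injective
    rw [Functor.map_comp, hπ', sq₁.lift_snd]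
  have sqTop : IsPullback ((yon S).map (SpA.map zs iR_C)) ((yon S).map π') p fst₁ := by
    refine IsPullback.of_bot ?_ hπ1.symm sq₁
    rw [hpf, ← Functor.map_comp, hπ2]
    exact P1C
  have hπe : Etale π'.left := hpe.property _ _ _ sqTop
  have hπs : Surjective π'.left := hps.property _ _ _ sqTop
  haveI : Flat π'.left := inferInstance
  have hπinj : Function.Injective π'.left.appTop.hom :=
    injective_appTop_of_flat_of_surjective π'.left
  -- the comparison map
  have wψ : (fst₁ ≫ φ) ≫ (yon S).map (SpA.str zs E) =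
      (yon S).map v' ≫ (yon S).map (SpA.str zs B) := by
    rw [Category.assoc, hφf, sq₁.w]
  obtain ⟨ψ₀, hψ₀⟩ := (yon S).map_surjective (P1E.lift _ _ wψ)
  have hψ1 : (yon S).map ψ₀ ≫ (yon S).map (SpA.map zs iR_E) = fst₁ ≫ φ := by
    rw [hψ₀, P1E.lift_fst]
  have hψ2 : ψ₀ ≫ SpA.map zs iL_E = v' := by
    apply (yon S).map_injective
    rw [Functor.map_comp, hψ₀, P1E.lift_snd]
  have sqψ : IsPullback fst₁ ((yon S).map ψ₀) φ ((yon S).map (SpA.map zs iR_E)) := by
    refine IsPullback.of_bot ?_ hψ1.symm P1E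
    rw [← Functor.map_comp, hψ2, hφf]
    exact sq₁
  refine ⟨ψ₀, sqψ, ?_⟩
  -- compatibilities
  let mE : B ⊗[A] E →ₐ[A] B ⊗[A] C :=
    (Algebra.TensorProduct.map (AlgHom.id B B) εC).restrictScalars A
  let mσ : B ⊗[A] C →ₐ[A] B ⊗[A] D :=
    (Algebra.TensorProduct.map (AlgHom.id B B) σ).restrictScalars A
  let mτ : B ⊗[A] C →ₐ[A] B ⊗[A] D :=
    (Algebra.TensorProduct.map (AlgHom.id B B) τ).restrictScalars A
  have e1 : mE.comp iR_E = iR_C.comp εC := by
    ext x
    simp [mE, iR_E, iR_C]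
  have e2 : mE.comp iL_E = iL_C := by
    ext x
    simp [mE, iL_E, iL_C]
  have e3 : mσ.comp iR_C = iR_D.comp σ := by
    ext x
    simp [mσ, iR_D, iR_C]
  have e4 : mτ.comp iR_C = iR_D.comp τ := by
    ext x
    simp [mτ, iR_D, iR_C]
  have e5 : mσ.comp iL_C = iL_D := by
    ext x
    simp [mσ, iL_D, iL_C]
  have e6 : mτ.comp iL_C = iL_D := by
    ext x
    simp [mτ, iL_D, iL_C]
  have hcomp : π' ≫ ψ₀ = SpA.map zs mE := by
    apply (SpA.isPullback zs B E).hom_ext
    · apply (yon S).map_injective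
      have h1 : (yon S).map ((π' ≫ ψ₀) ≫ SpA.map zs iR_E) =
          (yon S).map π' ≫ fst₁ ≫ φ := by
        rw [Category.assoc, Functor.map_comp, Functor.map_comp, hψ1]
      refine h1.trans ?_
      rw [← Category.assoc, hπ1, Category.assoc, hφ, ← Functor.map_comp, ← SpA.map_comp,
        ← SpA.map_comp, e1]
    · rw [Category.assoc, hψ2, hπ2, ← SpA.map_comp, e2]
  have hστπ : SpA.map zs mσ ≫ π' = SpA.map zs mτ ≫ π' := by
    apply (yon S).map_injective
    apply sq₁.hom_ext
    · rw [Functor.map_comp, Functor.map_comp, Category.assoc, Category.assoc, hπ1,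
        ← Category.assoc, ← Category.assoc, ← Functor.map_comp, ← Functor.map_comp,
        ← SpA.map_comp, ← SpA.map_comp, e3, e4, SpA.map_comp, SpA.map_comp, Functor.map_comp,
        Functor.map_comp, Category.assoc, Category.assoc, kp.w]
    · rw [← Functor.map_comp, ← Functor.map_comp, Category.assoc, Category.assoc, hπ2,
        ← SpA.map_comp, ← SpA.map_comp, e5, e6]
  -- ring maps
  have h0 : π'.left ≫ ψ₀.left = Spec.map (CommRingCat.ofHom mE.toRingHom) :=
    congrArg (fun k : SpA zs (B ⊗[A] C) ⟶ SpA zs (B ⊗[A] E) => k.left) hcomp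
  have h0' : Spec.map (CommRingCat.ofHom mσ.toRingHom) ≫ π'.left =
      Spec.map (CommRingCat.ofHom mτ.toRingHom) ≫ π'.left :=
    congrArg (fun k : SpA zs (B ⊗[A] D) ⟶ V' => k.left) hστπ
  have h1 : ψ₀.left.appTop ≫ π'.left.appTop =
      (Spec.map (CommRingCat.ofHom mE.toRingHom)).appTop := by
    rw [← Scheme.Hom.comp_appTop, h0]
  have h1' : π'.left.appTop ≫ (Spec.map (CommRingCat.ofHom mσ.toRingHom)).appTop =
      π'.left.appTop ≫ (Spec.map (CommRingCat.ofHom mτ.toRingHom)).appTop := by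
    rw [← Scheme.Hom.comp_appTop, ← Scheme.Hom.comp_appTop, h0']
  obtain ⟨ιc, hιc⟩ : ∃ k : Γ(V'.left, ⊤) ⟶ CommRingCat.of (B ⊗[A] C),
      k = π'.left.appTop ≫ (Scheme.ΓSpecIso (CommRingCat.of (B ⊗[A] C))).hom := ⟨_, rfl⟩
  obtain ⟨θc, hθc'⟩ : ∃ k : CommRingCat.of (B ⊗[A] E) ⟶ Γ(V'.left, ⊤),
      k = (Scheme.ΓSpecIso (CommRingCat.of (B ⊗[A] E))).inv ≫ ψ₀.left.appTop := ⟨_, rfl⟩
  have hθc : θc ≫ ιc = CommRingCat.ofHom mE.toRingHom := by
    rw [hθc', hιc, Category.assoc, ← Category.assoc ψ₀.left.appTop, h1,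
      Scheme.ΓSpecIso_naturality, Iso.inv_hom_id_assoc]
  have hιστ : ιc ≫ CommRingCat.ofHom mσ.toRingHom = ιc ≫ CommRingCat.ofHom mτ.toRingHom := by
    rw [hιc, Category.assoc, Category.assoc, ← Scheme.ΓSpecIso_naturality,
      ← Scheme.ΓSpecIso_naturality, ← Category.assoc, ← Category.assoc, h1']
  have hιinj : Function.Injective ιc.hom := by
    have h3 : Function.Injective (Scheme.ΓSpecIso (CommRingCat.of (B ⊗[A] C))).hom.hom :=
      (ConcreteCategory.bijective_of_isIso (Scheme.ΓSpecIso (CommRingCat.of (B ⊗[A] C))).hom).1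
    rw [hιc]
    exact h3.comp hπinj
  have h4 : IsIso θc := isIso_of_flat_equalizer σ τ ιc hιinj θc hθc hιστ
  have h2 : ψ₀.left.appTop = (Scheme.ΓSpecIso (CommRingCat.of (B ⊗[A] E))).hom ≫ θc := by
    rw [hθc', Iso.hom_inv_id_assoc]
  rw [h2]
  infer_instance

end Groth.Agent.Lib.AffDescH7
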