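import Groth.Agent.Lib.AlgSpLocP10_helper7

/-!
# Properties smooth local / étale-smooth local on the source-and-target (helper7)
-/

set_option autoImplicit false
universe u
open CategoryTheory CategoryTheory.Limits AlgebraicGeometry Opposite MorphismProperty
open AlgSp Groth.Agent.Lib.AlgSpQC2_helper7 Groth.Agent.Lib.AlgSpPoints_helper7
  Groth.Agent.Lib.AlgSpQC_helper7 Groth.Agent.Lib.AlgSpDiag_helper7 Groth.Agent.Lib.AlgSpTop_helper7
  Groth.Agent.Lib.AlgSpPullback_helper7 Groth.Agent.Lib.AlgSpSep_helper7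
  Groth.Agent.Lib.AlgSpLocP_helper7 Groth.Agent.Lib.AlgSpUniv_helper7
  Groth.Agent.Lib.AlgSpFpqc_helper7 Groth.Agent.Lib.AlgSpFpqc2_helper7
  Groth.Agent.Lib.AlgSpDescent_helper7 Groth.Agent.Lib.AlgSpEtale_helper7
  Groth.Agent.Lib.AlgSpLocP2_helper7 Groth.Agent.Lib.AlgSpLocP3_helper7
  Groth.Agent.Lib.AlgSpEpi_helper7
  Groth.Agent.Lib.SchSrcLocal_helper7 Groth.Agent.Lib.AlgSpLocP4_helper7
  Groth.Agent.Lib.AlgSpLocP5_helper7 Groth.Agent.Lib.AlgSpLocP6_helper7
  Groth.Agent.Lib.SchSrcLocal2_helper7 Groth.Agent.Lib.AlgSpSrc_helper7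
  Groth.Agent.Lib.AlgSpLocP7_helper7 Groth.Agent.Lib.AlgSpLocP8_helper7
  Groth.Agent.Lib.AlgSpLocP9_helper7 Groth.Agent.Lib.SchSmooth_helper7
  Groth.Agent.Lib.AlgSpLocP10_helper7

namespace Groth.Agent.Lib.AlgSpSmST_helper7

variable {S : Scheme.{u}}

theorem isEtaleMor_id (X : Sp S) : IsEtaleMor (𝟙 X) := fun U φ hφ => by rwa [Category.comp_id]

theorem locP_smooth_of_isEtaleMor {X Y : Sp S} (f : X ⟶ Y) (hf : IsEtaleMor f) :
    LocP @Smooth f :=
  locP_of_isEtaleMor _ (fun _ _ g _ => (inferInstance : Smooth g)) f hf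

theorem locP_smooth_id (X : Sp S) : LocP @Smooth (𝟙 X) :=
  locP_smooth_of_isEtaleMor _ (isEtaleMor_id X)

theorem isSurjectiveMor_id (X : Sp S) : IsSurjectiveMor (𝟙 X) := fun x => ⟨x, Points.map_id x⟩

theorem isPullback_id_left {X Y : Sp S} (f : X ⟶ Y) : IsPullback (𝟙 X) f f (𝟙 Y) :=
  IsPullback.of_horiz_isIso ⟨by rw [Category.id_comp, Category.comp_id]⟩

/-- Étale morphisms of algebraic spaces are stable under base change. -/
theorem isEtaleMor_of_isPullback {X Y Y' X' : Sp S} (hX : IsAlgSpace X) (hY : IsAlgSpace Y)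
    (hY' : IsAlgSpace Y') {f : X ⟶ Y} {g : Y' ⟶ Y} {fst : X' ⟶ X} {snd : X' ⟶ Y'}
    (sq : IsPullback fst snd f g) (hf : IsEtaleMor f) : IsEtaleMor snd :=
  isEtaleMor_of_locP hY' snd
    (locP_baseChange etLocal_etale hX hY hY' f g fst snd sq ((isEtaleMor_iff_locP hY f).1 hf))

/-- Cancellation: if `e ≫ p` and `p` are étale then so is `e`. -/
theorem isEtaleMor_of_comp {X W Z : Sp S} (hW : IsAlgSpace W) (hZ : IsAlgSpace Z) (e : X ⟶ W)
    (p : W ⟶ Z) (hep : IsEtaleMor (e ≫ p)) (hp : IsEtaleMor p) : IsEtaleMor e :=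
  isEtaleMor_of_locP hW e
    (locP_of_comp' @Etale @Etale (descendsEtale_of_descendsAlong _)
      (fun _ _ _ f g hfg hg => MorphismProperty.of_postcomp (W := @Etale) (W' := @Etale) f g hg hfg)
      hZ e p ((isEtaleMor_iff_locP hZ (e ≫ p)).1 hep) ((isEtaleMor_iff_locP hZ p).1 hp))

/-- The graph of `f : X ⟶ Y` over `Z` when `g : Y ⟶ Z` is étale: an étale section of the first
projection of `X ×_Z Y`. -/
theorem exists_graph {X Y Z : Sp S} (hX : IsAlgSpace X) (hY : IsAlgSpace Y) (hZ : IsAlgSpace Z)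
    (f : X ⟶ Y) (g : Y ⟶ Z) (hg : IsEtaleMor g) :
    IsAlgSpace (pullback (f ≫ g) g) ∧ ∃ e : X ⟶ pullback (f ≫ g) g,
      e ≫ pullback.fst (f ≫ g) g = 𝟙 X ∧ e ≫ pullback.snd (f ≫ g) g = f ∧ IsEtaleMor e := by
  have sq := IsPullback.of_hasPullback (f ≫ g) g
  have hW : IsAlgSpace (pullback (f ≫ g) g) := isAlgSpace_of_isPullback hZ.diag hX hY sq
  refine ⟨hW, pullback.lift (𝟙 X) f (by rw [Category.id_comp]), pullback.lift_fst _ _ _,
    pullback.lift_snd _ _ _, ?_⟩
  have hfst : IsEtaleMor (pullback.fst (f ≫ g) g) :=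
    isEtaleMor_of_isPullback hY hZ hX sq.flip hg
  refine isEtaleMor_of_comp hW hX _ (pullback.fst (f ≫ g) g) ?_ hfst
  rw [pullback.lift_fst]
  exact isEtaleMor_id X

/-! ### two-member families -/

/-- The two-member family of objects. -/
def pair (A B : Sp S) : ULift.{u} Bool → Sp S := fun i => match i with
  | ⟨true⟩ => A
  | ⟨false⟩ => B

/-- The two-member family of morphisms to a common target. -/
def pairHom {A B X : Sp S} (a : A ⟶ X) (b : B ⟶ X) : ∀ i, pair A B i ⟶ X := fun i => match i with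
  | ⟨true⟩ => a
  | ⟨false⟩ => b

/-- The two-member family of morphisms between two pairs. -/
def pairMap {A B A' B' : Sp S} (a : A ⟶ A') (b : B ⟶ B') : ∀ i, pair A B i ⟶ pair A' B' i :=
  fun i => match i with
  | ⟨true⟩ => a
  | ⟨false⟩ => b

theorem pair_isAlgSpace {A B : Sp S} (hA : IsAlgSpace A) (hB : IsAlgSpace B) :
    ∀ i, IsAlgSpace (pair A B i) := fun i => match i with
  | ⟨true⟩ => hA
  | ⟨false⟩ => hB

theorem pair_isCover (Q : MorphismProperty (Sp S)) {A X : Sp S} (a : A ⟶ X) (ha : Q a)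
    (hid : Q (𝟙 X)) : IsCover Q (pair A X) (pairHom a (𝟙 X)) :=
  And.intro (fun i => match i with
    | ⟨true⟩ => ha
    | ⟨false⟩ => hid) (fun x => ⟨⟨false⟩, x, Points.map_id x⟩)

/-! ### smooth local on the source-and-target -/

theorem smoothLocalST_localOnSource {P : MorphismProperty (Sp S)} (hP : IsSmoothLocalST P) :
    IsLocalOnSource (IsSmCover (S := S)) P := by
  intro ι X Xi g hX hXi hcov Y f hY
  constructor
  · intro hf i
    exact hP.precomp (hXi i) hX hY (g i) f (hcov.1 i) hf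
  · intro h
    rw [hP.locality hX hY f]
    intro x
    obtain ⟨i, v, hv⟩ := hcov.2 x
    exact ⟨Xi i, Y, g i, 𝟙 Y, g i ≫ f, v, hXi i, hY, hcov.1 i, locP_smooth_id Y,
      by rw [Category.comp_id], hv, h i⟩

theorem smoothLocalST_localOnBase {P : MorphismProperty (Sp S)} (hP : IsSmoothLocalST P) :
    IsLocalOnBase (IsSmCover (S := S)) P := by
  intro ι Y Yi g hY hYi hcov X f hX Xi p q hXi sqs
  constructor
  · intro hf i
    exact hP.baseChange hX hY (hXi i) (hYi i) f (g i) (p i) (q i) (sqs i) (hcov.1 i) hf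
  · intro h
    rw [hP.locality hX hY f]
    intro x
    obtain ⟨i, y, hy⟩ := hcov.2 (Points.map f x)
    obtain ⟨z, hz1, -⟩ := exists_of_isPullback (sqs i) x y hy.symm
    exact ⟨Xi i, Yi i, q i, g i, p i, z, hXi i, hYi i,
      locP_baseChange etLocal_smooth (hYi i) hY hX (g i) f (p i) (q i) (sqs i).flip (hcov.1 i),
      hcov.1 i, (sqs i).w, hz1, h i⟩

theorem smoothLocalST_postcomp {P : MorphismProperty (Sp S)} (hP : IsSmoothLocalST P)
    {X Y Z : Sp S} (hX : IsAlgSpace X) (hY : IsAlgSpace Y) (hZ : IsAlgSpace Z) (f : X ⟶ Y)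
    (g : Y ⟶ Z) (hf : P f) (hg : LocP @Smooth g) : P (f ≫ g) := by
  rw [hP.locality hX hZ (f ≫ g)]
  intro x
  exact ⟨X, Y, 𝟙 X, g, f, x, hX, hY, locP_smooth_id X, hg, by rw [Category.id_comp],
    Points.map_id x, hf⟩

theorem isSmoothLocalST_of (P : MorphismProperty (Sp S))
    (h1 : IsLocalOnSource (IsSmCover (S := S)) P) (h2 : IsLocalOnBase (IsSmCover (S := S)) P)
    (h3 : ∀ ⦃X Y Z : Sp S⦄, IsAlgSpace X → IsAlgSpace Y → IsAlgSpace Z → ∀ (f : X ⟶ Y) (g : Y ⟶ Z),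
      P f → LocP @Smooth g → P (f ≫ g)) : IsSmoothLocalST P where
  precomp := by
    intro X Y Z hX hY hZ f g hf hg
    exact (h1 (pair X Y) (pairHom f (𝟙 Y)) hY (pair_isAlgSpace hX hY)
      (pair_isCover _ f hf (locP_smooth_id Y)) g hZ).1 hg ⟨true⟩
  baseChange := by
    intro X Y X' Y' hX hY hX' hY' f g f' g' sq hg hf
    exact (h2 (pair Y' Y) (pairHom g (𝟙 Y)) hY (pair_isAlgSpace hY' hY)
      (pair_isCover _ g hg (locP_smooth_id Y)) f hX (pair X' X) (pairMap f' f)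
      (pairHom g' (𝟙 X)) (pair_isAlgSpace hX' hX) (fun i => match i with
        | ⟨true⟩ => sq
        | ⟨false⟩ => isPullback_id_left f)).1 hf ⟨true⟩
  locality := by
    intro X Y hX hY f
    constructor
    · intro hf x
      exact ⟨X, Y, 𝟙 X, 𝟙 Y, f, x, hX, hY, locP_smooth_id X, locP_smooth_id Y,
        by rw [Category.id_comp, Category.comp_id], Points.map_id x, hf⟩
    · intro H
      obtain ⟨U₀, a₀, ha₀e, ha₀s⟩ := hX.atlas
      choose U V a b h v hU hV ha hb comm hv hPh using fun u : ↥U₀.left => H (Points.ofPt a₀ u)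
      refine (h1 U a hX hU (And.intro ha fun x => ?_) f hY).2 fun u => ?_
      · obtain ⟨u, rfl⟩ := ofPt_surjective a₀ ha₀s x
        exact ⟨u, v u, hv u⟩
      · rw [comm u]
        exact h3 (hU u) (hV u) hY (h u) (b u) (hPh u) (hb u)

/-! ### étale-smooth local on the source-and-target -/

theorem etaleSmoothLocalST_localOnSource {P : MorphismProperty (Sp S)}
    (hP : IsEtaleSmoothLocalST P) : IsLocalOnSource (IsEtCover (S := S)) P := by
  intro ι X Xi g hX hXi hcov Y f hY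
  constructor
  · intro hf i
    exact hP.precomp (hXi i) hX hY (g i) f (hcov.1 i) hf
  · intro h
    rw [hP.locality hX hY f]
    intro x
    obtain ⟨i, v, hv⟩ := hcov.2 x
    exact ⟨Y, X, Xi i, 𝟙 Y, 𝟙 X, f, g i, v, hY, hX, hXi i, locP_smooth_id Y,
      isPullback_id_left f, hcov.1 i, by rw [Category.comp_id]; exact hv, h i⟩

theorem etaleSmoothLocalST_localOnBase {P : MorphismProperty (Sp S)}
    (hP : IsEtaleSmoothLocalST P) : IsLocalOnBase (IsSmCover (S := S)) P := by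
  intro ι Y Yi g hY hYi hcov X f hX Xi p q hXi sqs
  constructor
  · intro hf i
    exact hP.baseChange hX hY (hXi i) (hYi i) f (g i) (p i) (q i) (sqs i) (hcov.1 i) hf
  · intro h
    rw [hP.locality hX hY f]
    intro x
    obtain ⟨i, y, hy⟩ := hcov.2 (Points.map f x)
    obtain ⟨z, hz1, -⟩ := exists_of_isPullback (sqs i) x y hy.symm
    exact ⟨Yi i, Xi i, Xi i, g i, q i, p i, 𝟙 (Xi i), z, hYi i, hXi i, hXi i, hcov.1 i, sqs i,
      isEtaleMor_id _, by rw [Category.id_comp]; exact hz1, by rw [Category.id_comp]; exact h i⟩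

theorem etaleSmoothLocalST_postcomp {P : MorphismProperty (Sp S)} (hP : IsEtaleSmoothLocalST P)
    {X Y Z : Sp S} (hX : IsAlgSpace X) (hY : IsAlgSpace Y) (hZ : IsAlgSpace Z) (f : X ⟶ Y)
    (g : Y ⟶ Z) (hf : P f) (hg : IsEtaleMor g) : P (f ≫ g) := by
  rw [hP.locality hX hZ (f ≫ g)]
  intro x
  obtain ⟨hW, e, he1, he2, hee⟩ := exists_graph hX hY hZ f g hg
  exact ⟨Y, pullback (f ≫ g) g, X, g, pullback.fst _ _, pullback.snd _ _, e, x, hY, hW, hX,
    locP_smooth_of_isEtaleMor g hg, IsPullback.of_hasPullback _ _, hee,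
    by rw [he1]; exact Points.map_id x, by rw [he2]; exact hf⟩

theorem etaleSmoothLocalST_cancel {P : MorphismProperty (Sp S)} (hP : IsEtaleSmoothLocalST P)
    {X Y Z : Sp S} (hX : IsAlgSpace X) (hY : IsAlgSpace Y) (hZ : IsAlgSpace Z) (f : X ⟶ Y)
    (g : Y ⟶ Z) (hg : IsEtaleMor g) (hfg : P (f ≫ g)) : P f := by
  obtain ⟨hW, e, he1, he2, hee⟩ := exists_graph hX hY hZ f g hg
  have hq : P (pullback.snd (f ≫ g) g) :=
    hP.baseChange hX hZ hW hY (f ≫ g) g (pullback.snd _ _) (pullback.fst _ _)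
      (IsPullback.of_hasPullback _ _) (locP_smooth_of_isEtaleMor g hg) hfg
  have := hP.precomp hX hW hY e (pullback.snd _ _) hee hq
  rwa [he2] at this

end Groth.Agent.Lib.AlgSpSmST_helper7
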