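import Groth.Agent.Lib.AlgSpOpenSub_helper7
import Groth.Agent.Lib.AlgSpSmST_helper7

set_option autoImplicit false
universe u
open CategoryTheory CategoryTheory.Limits AlgebraicGeometry Opposite TopologicalSpace

namespace Groth.Agent.Lib.AlgSpLargestOpen_helper7

open AlgSp Groth.Agent.Lib.AlgSpPoints_helper7 Groth.Agent.Lib.AlgSpTop_helper7
  Groth.Agent.Lib.AlgSpPullback_helper7 Groth.Agent.Lib.AlgSpBasic_helper7
  Groth.Agent.Lib.AlgSpOpen_helper7 Groth.Agent.Lib.AlgSpOpenSub_helper7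
  Groth.Agent.Lib.AlgSpSmST_helper7 Groth.Agent.Lib.AlgSpLocP4_helper7
  Groth.Agent.Lib.AlgSpLocP10_helper7 Groth.Agent.Lib.AlgSpLocP7_helper7
  Groth.Agent.Lib.AlgSpEtale_helper7 Groth.Agent.Lib.AlgSpLocP3_helper7

variable {S : Scheme.{u}}

/-- The formal properties of the class of members of a covering used below. -/
structure QClass (Q : MorphismProperty (Sp S)) : Prop where
  ofOpen : ∀ ⦃A B : Sp S⦄, IsAlgSpace A → IsAlgSpace B → ∀ j : A ⟶ B,
    RepWith @IsOpenImmersion j → Q j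
  baseChange : ∀ ⦃A B B' A' : Sp S⦄, IsAlgSpace A → IsAlgSpace B → IsAlgSpace B' →
    ∀ (f : A ⟶ B) (g : B' ⟶ B) (fst : A' ⟶ A) (snd : A' ⟶ B'), IsPullback fst snd f g → Q f → Q snd
  comp : ∀ ⦃A B C : Sp S⦄, IsAlgSpace A → IsAlgSpace B → IsAlgSpace C →
    ∀ (f : A ⟶ B) (g : B ⟶ C), Q f → Q g → Q (f ≫ g)
  openMap : ∀ ⦃A B : Sp S⦄, IsAlgSpace A → IsAlgSpace B → ∀ f : A ⟶ B, Q f →
    IsOpenMap (Points.map f)

/-- `f` has `P` over the open `V` of `|Y|`. -/
def HasOver (P : MorphismProperty (Sp S)) {X Y : Space S} (f : X ⟶ Y)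
    (V : Opens (Points Y.obj)) : Prop :=
  ∀ (W₁ X₁ : Space S) (j₁ : W₁ ⟶ Y) (j₁' : X₁ ⟶ X) (f₁ : X₁ ⟶ W₁),
    RepWith @IsOpenImmersion j₁.hom → Set.range (Points.map j₁.hom) = (V : Set (Points Y.obj)) →
    IsPullback j₁'.hom f₁.hom f.hom j₁.hom → P f₁.hom

/-- Local on the base for coverings with members in `Q`. -/
abbrev LocalOnBaseQ (Q P : MorphismProperty (Sp S)) : Prop :=
  IsLocalOnBase (fun ⦃ι : Type u⦄ ⦃X : Sp S⦄ (Y : ι → Sp S) (g : ∀ i, Y i ⟶ X) => IsCover Q Y g) P

theorem baseChange_of_local {Q P : MorphismProperty (Sp S)} (hQ : QClass Q)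
    (hP : LocalOnBaseQ Q P) {X Y X' Y' : Sp S} (hX : IsAlgSpace X) (hY : IsAlgSpace Y)
    (hX' : IsAlgSpace X') (hY' : IsAlgSpace Y') (f : X ⟶ Y) (g : Y' ⟶ Y) (f' : X' ⟶ Y')
    (g' : X' ⟶ X) (sq : IsPullback g' f' f g) (hg : Q g) (hf : P f) : P f' :=
  (hP (pair Y' Y) (pairHom g (𝟙 Y)) hY (pair_isAlgSpace hY' hY)
      (pair_isCover _ g hg (hQ.ofOpen hY hY (𝟙 Y) (repWith_of_isIso @IsOpenImmersion (𝟙 Y))))
      f hX (pair X' X) (pairMap f' f)
      (pairHom g' (𝟙 X)) (pair_isAlgSpace hX' hX) (fun i => match i with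
        | ⟨true⟩ => sq
        | ⟨false⟩ => isPullback_id_left f)).1 hf ⟨true⟩

/-- If `g = g₁ ≫ j` with `j` a monomorphism, then `g₁` is a base change of `g`. -/
theorem isPullback_of_factor {A B C : Sp S} (g₁ : A ⟶ B) (j : B ⟶ C) [Mono j] :
    IsPullback (𝟙 A) g₁ (g₁ ≫ j) j := by
  have h := (isPullback_comp_mono_iff (fst := 𝟙 A) (snd := g₁) (g := g₁) (c := 𝟙 B) j).2
    (isPullback_id_left g₁)
  rwa [Category.id_comp] at h

theorem descend_of_local {Q P : MorphismProperty (Sp S)}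
    (hP : LocalOnBaseQ Q P) {X Y X' Y' : Sp S} (hX : IsAlgSpace X) (hY : IsAlgSpace Y)
    (hX' : IsAlgSpace X') (hY' : IsAlgSpace Y') (f : X ⟶ Y) (g : Y' ⟶ Y) (f' : X' ⟶ Y')
    (g' : X' ⟶ X) (sq : IsPullback g' f' f g) (hg : Q g) (hs : IsSurjectiveMor g) (hf' : P f') :
    P f :=
  (hP (fun _ : PUnit.{u + 1} => Y') (fun _ => g) hY (fun _ => hY')
    ⟨fun _ => hg, fun y => ⟨PUnit.unit, hs y⟩⟩ f hX (fun _ => X') (fun _ => f') (fun _ => g')
    (fun _ => hX') (fun _ => sq)).2 fun _ => hf'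

theorem exists_largest_open {Q P : MorphismProperty (Sp S)} (hQ : QClass Q)
    (hP : LocalOnBaseQ Q P) {X Y : Space S} (f : X ⟶ Y) :
    ∃ W : Opens (Points Y.obj), HasOver P f W ∧ (∀ V, HasOver P f V → V ≤ W) ∧
      (∀ (Y' X' : Space S) (g : Y' ⟶ Y) (g' : X' ⟶ X) (f' : X' ⟶ Y'), Q g.hom →
        IsPullback g'.hom f'.hom f.hom g.hom → P f'.hom →
        Set.range (Points.map g.hom) ⊆ (W : Set (Points Y.obj))) ∧
      (∀ (Y' X' : Space S) (g : Y' ⟶ Y) (g' : X' ⟶ X) (f' : X' ⟶ Y'), Q g.hom →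
        IsPullback g'.hom f'.hom f.hom g.hom → ∀ W' : Opens (Points Y'.obj), HasOver P f' W' →
        (∀ V', HasOver P f' V' → V' ≤ W') →
        (W' : Set (Points Y'.obj)) = Points.map g.hom ⁻¹' (W : Set (Points Y.obj))) := by
  -- (a)
  have hA : ∀ {X Y : Space S} (f : X ⟶ Y), HasOver P f (sSup {V | HasOver P f V}) := by
    intro X Y f W₀ X₀ j₀ j₀' f₀ hj₀ hr₀ sq₀
    obtain ⟨U, p, hpe, hps⟩ := W₀.property.atlas
    have H : ∀ u : ↥U.left, ∃ V : Opens (Points Y.obj), HasOver P f V ∧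
        Points.ofPt (p ≫ j₀.hom) u ∈ V := by
      intro u
      have h1 : Points.ofPt (p ≫ j₀.hom) u ∈ Set.range (Points.map j₀.hom) :=
        ⟨Points.ofPt p u, Points.map_ofPt p j₀.hom u⟩
      rw [hr₀] at h1
      obtain ⟨V, hV, huV⟩ := Opens.mem_sSup.1 h1
      exact ⟨V, hV, huV⟩
    choose V hV hmem using H
    have E : ∀ u : ↥U.left, ∃ (Wu : Space S) (k : Wu ⟶ W₀), RepWith @IsOpenImmersion k.hom ∧
        Set.range (Points.map k.hom) = Points.map j₀.hom ⁻¹' (V u : Set (Points Y.obj)) :=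
      fun u => exists_openSubspace W₀ _
        ((Points.continuous_map j₀.hom).isOpen_preimage _ (V u).2)
    choose Wi k hk hrk using E
    have hXi : ∀ u, IsAlgSpace (pullback f₀.hom (k u).hom) := fun u =>
      isAlgSpace_of_isPullback W₀.property.diag X₀.property (Wi u).property
        (IsPullback.of_hasPullback f₀.hom (k u).hom)
    have hcov : IsCover Q (fun u => (Wi u).obj) (fun u => (k u).hom) := by
      refine ⟨fun u => hQ.ofOpen (Wi u).property W₀.property _ (hk u), fun x => ?_⟩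
      obtain ⟨u, rfl⟩ := ofPt_surjective p hps x
      refine ⟨u, ?_⟩
      rw [hrk u]
      show Points.map j₀.hom (Points.ofPt p u) ∈ (V u : Set (Points Y.obj))
      rw [Points.map_ofPt]
      exact hmem u
    refine (hP (fun u => (Wi u).obj) (fun u => (k u).hom) W₀.property (fun u => (Wi u).property)
      hcov f₀.hom X₀.property (fun u => pullback f₀.hom (k u).hom)
      (fun u => pullback.snd f₀.hom (k u).hom) (fun u => pullback.fst f₀.hom (k u).hom) hXi
      (fun u => IsPullback.of_hasPullback f₀.hom (k u).hom)).2 fun u => ?_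
    have hVle : (V u : Set (Points Y.obj)) ⊆ Set.range (Points.map j₀.hom) := by
      rw [hr₀]
      exact fun x hx => (le_sSup (hV u) : V u ≤ sSup {V | HasOver P f V}) hx
    refine hV u (Wi u) ⟨pullback f₀.hom (k u).hom, hXi u⟩ (k u ≫ j₀)
      (ObjectProperty.homMk (pullback.fst f₀.hom (k u).hom ≫ j₀'.hom))
      (ObjectProperty.homMk (pullback.snd f₀.hom (k u).hom))
      (repWith_comp @IsOpenImmersion (hk u) hj₀) ?_ ?_
    · change Set.range (Points.map ((k u).hom ≫ j₀.hom)) = _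
      have : Points.map ((k u).hom ≫ j₀.hom) = Points.map j₀.hom ∘ Points.map (k u).hom :=
        funext fun x => Points.map_comp _ _ x
      rw [this, Set.range_comp, hrk u, Set.image_preimage_eq_inter_range]
      exact Set.inter_eq_left.2 hVle
    · exact (IsPullback.of_hasPullback f₀.hom (k u).hom).paste_horiz sq₀
  -- (c)
  have hC : ∀ {X Y : Space S} (f : X ⟶ Y) (Y' X' : Space S) (g : Y' ⟶ Y) (g' : X' ⟶ X)
      (f' : X' ⟶ Y'), Q g.hom → IsPullback g'.hom f'.hom f.hom g.hom → P f'.hom →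
      Set.range (Points.map g.hom) ⊆ ((sSup {V | HasOver P f V} : Opens (Points Y.obj)) :
        Set (Points Y.obj)) := by
    intro X Y f Y' X' g g' f' hg sq hf'
    let Vg : Opens (Points Y.obj) := ⟨Set.range (Points.map g.hom),
      (hQ.openMap Y'.property Y.property g.hom hg).isOpen_range⟩
    have hVg : HasOver P f Vg := by
      intro W₁ X₁ j₁ j₁' f₁ hj₁ hr₁ sq₁
      have : Mono j₁.hom := mono_of_openImmersion j₁.hom hj₁
      obtain ⟨g₁, hg₁⟩ := (factors_iff_of_openImmersion j₁.hom hj₁ g.hom).2 (by rw [hr₁]; rfl)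
      have hpb : IsPullback (𝟙 Y'.obj) g₁ g.hom j₁.hom := by
        rw [← hg₁]
        exact isPullback_of_factor g₁ j₁.hom
      have hQg₁ : Q g₁ := hQ.baseChange Y'.property Y.property W₁.property g.hom j₁.hom _ _ hpb hg
      have hs : IsSurjectiveMor g₁ := by
        intro w
        have h1 : Points.map j₁.hom w ∈ Set.range (Points.map g.hom) := by
          have : Points.map j₁.hom w ∈ Set.range (Points.map j₁.hom) := ⟨w, rfl⟩
          rw [hr₁] at this
          exact this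
        obtain ⟨y', hy'⟩ := h1
        refine ⟨y', map_injective_of_mono j₁.hom ?_⟩
        rw [← Points.map_comp, hg₁, hy']
      let q₁ : X'.obj ⟶ X₁.obj := sq₁.lift g'.hom (f'.hom ≫ g₁)
        (by rw [sq.w, Category.assoc, hg₁])
      have hq1 : q₁ ≫ j₁'.hom = g'.hom := sq₁.lift_fst _ _ _
      have hq2 : q₁ ≫ f₁.hom = f'.hom ≫ g₁ := sq₁.lift_snd _ _ _
      have sqL : IsPullback q₁ f'.hom f₁.hom g₁ := by
        refine IsPullback.of_right ?_ hq2 sq₁
        rw [hq1, hg₁]
        exact sq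
      exact descend_of_local hP X₁.property W₁.property X'.property Y'.property f₁.hom g₁ f'.hom
        q₁ sqL hQg₁ hs hf'
    exact fun x hx => (le_sSup hVg : Vg ≤ sSup {V | HasOver P f V}) hx
  refine ⟨sSup {V | HasOver P f V}, hA f, fun V hV => le_sSup hV, hC f, ?_⟩
  intro Y' X' g g' f' hg sq W' hW' hmax
  apply Set.Subset.antisymm
  · -- W' ⊆ g⁻¹ W
    obtain ⟨W₂, j₂, hj₂, hr₂⟩ := exists_openSubspace Y' (W' : Set (Points Y'.obj)) W'.2
    have hX₂ : IsAlgSpace (pullback f'.hom j₂.hom) :=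
      isAlgSpace_of_isPullback Y'.property.diag X'.property W₂.property
        (IsPullback.of_hasPullback f'.hom j₂.hom)
    have hP₂ : P (pullback.snd f'.hom j₂.hom) :=
      hW' W₂ ⟨pullback f'.hom j₂.hom, hX₂⟩ j₂ (ObjectProperty.homMk (pullback.fst f'.hom j₂.hom))
        (ObjectProperty.homMk (pullback.snd f'.hom j₂.hom)) hj₂ hr₂
        (IsPullback.of_hasPullback f'.hom j₂.hom)
    have h3 := hC f W₂ ⟨pullback f'.hom j₂.hom, hX₂⟩ (j₂ ≫ g)
      (ObjectProperty.homMk (pullback.fst f'.hom j₂.hom ≫ g'.hom))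
      (ObjectProperty.homMk (pullback.snd f'.hom j₂.hom))
      (hQ.comp W₂.property Y'.property Y.property j₂.hom g.hom
        (hQ.ofOpen W₂.property Y'.property _ hj₂) hg)
      ((IsPullback.of_hasPullback f'.hom j₂.hom).paste_horiz sq) hP₂
    intro y' hy'
    rw [← hr₂] at hy'
    obtain ⟨w, rfl⟩ := hy'
    apply h3
    exact ⟨w, Points.map_comp j₂.hom g.hom w⟩
  · -- g⁻¹ W ⊆ W'
    let V' : Opens (Points Y'.obj) :=
      ⟨Points.map g.hom ⁻¹' ((sSup {V | HasOver P f V} : Opens (Points Y.obj)) :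
        Set (Points Y.obj)), (Points.continuous_map g.hom).isOpen_preimage _
          (sSup {V | HasOver P f V} : Opens (Points Y.obj)).2⟩
    refine hmax V' ?_
    intro W₃ X₃ j₃ j₃' f₃ hj₃ hr₃ sq₃
    obtain ⟨W₀, j₀, hj₀, hr₀⟩ := exists_openSubspace Y
      ((sSup {V | HasOver P f V} : Opens (Points Y.obj)) : Set (Points Y.obj))
      (sSup {V | HasOver P f V} : Opens (Points Y.obj)).2
    have : Mono j₀.hom := mono_of_openImmersion j₀.hom hj₀
    have hX₀ : IsAlgSpace (pullback f.hom j₀.hom) :=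
      isAlgSpace_of_isPullback Y.property.diag X.property W₀.property
        (IsPullback.of_hasPullback f.hom j₀.hom)
    have hP₀ : P (pullback.snd f.hom j₀.hom) :=
      hA f W₀ ⟨pullback f.hom j₀.hom, hX₀⟩ j₀ (ObjectProperty.homMk (pullback.fst f.hom j₀.hom))
        (ObjectProperty.homMk (pullback.snd f.hom j₀.hom)) hj₀ hr₀
        (IsPullback.of_hasPullback f.hom j₀.hom)
    obtain ⟨k, hk⟩ := (factors_iff_of_openImmersion j₀.hom hj₀ (j₃.hom ≫ g.hom)).2 (by
      rintro _ ⟨w, rfl⟩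
      rw [hr₀, Points.map_comp]
      have : Points.map j₃.hom w ∈ Set.range (Points.map j₃.hom) := ⟨w, rfl⟩
      rw [hr₃] at this
      exact this)
    have hQk : Q k := by
      have hpb : IsPullback (𝟙 W₃.obj) k (j₃.hom ≫ g.hom) j₀.hom := by
        rw [← hk]
        exact isPullback_of_factor k j₀.hom
      exact hQ.baseChange W₃.property Y.property W₀.property (j₃.hom ≫ g.hom) j₀.hom _ _ hpb
        (hQ.comp W₃.property Y'.property Y.property j₃.hom g.hom
          (hQ.ofOpen W₃.property Y'.property _ hj₃) hg)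
    have sqbig : IsPullback (j₃'.hom ≫ g'.hom) f₃.hom f.hom (j₃.hom ≫ g.hom) := sq₃.paste_horiz sq
    have sq₀ := IsPullback.of_hasPullback f.hom j₀.hom
    let q : X₃.obj ⟶ pullback f.hom j₀.hom := sq₀.lift (j₃'.hom ≫ g'.hom) (f₃.hom ≫ k)
      (by rw [sqbig.w, Category.assoc, hk])
    have hq1 : q ≫ pullback.fst f.hom j₀.hom = j₃'.hom ≫ g'.hom := sq₀.lift_fst _ _ _
    have hq2 : q ≫ pullback.snd f.hom j₀.hom = f₃.hom ≫ k := sq₀.lift_snd _ _ _
    have sqL : IsPullback q f₃.hom (pullback.snd f.hom j₀.hom) k := by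
      refine IsPullback.of_right ?_ hq2 sq₀
      rw [hq1, hk]
      exact sqbig
    exact baseChange_of_local hQ hP hX₀ W₀.property X₃.property W₃.property
      (pullback.snd f.hom j₀.hom) k f₃.hom q sqL hQk hP₀

theorem isEtaleMor_of_openImmersion {A B : Sp S} (j : A ⟶ B)
    (hj : RepWith @IsOpenImmersion j) : IsEtaleMor j :=
  fun _ _ hφ => repWith_comp _ hφ (repWith_etale_of_openImmersion hj)

theorem isOpenMap_of_flat_of_lfp {A B : Sp S} (hA : IsAlgSpace A) (hB : IsAlgSpace B) (f : A ⟶ B)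
    (h1 : LocP @Flat f) (h2 : LocP @LocallyOfFinitePresentation f) : IsOpenMap (Points.map f) :=
  (isUnivOpenMor_of_flat_of_lfp hA hB f h1 h2) hB (𝟙 B) (𝟙 A) f (isPullback_id_left f)

theorem qClass_fppf : QClass (S := S)
    (fun _ _ f => LocP @Flat f ∧ LocP @LocallyOfFinitePresentation f) where
  ofOpen := fun _ _ _ _ j hj =>
    ⟨locP_of_isEtaleMor _ (fun _ _ g _ => (inferInstance : Flat g)) j
      (isEtaleMor_of_openImmersion j hj),
     locP_of_isEtaleMor _ (fun _ _ g _ => (inferInstance : LocallyOfFinitePresentation g)) j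
      (isEtaleMor_of_openImmersion j hj)⟩
  baseChange := fun _ _ _ _ hA hB hB' f g fst snd sq hf =>
    ⟨locP_baseChange etLocal_flat hA hB hB' f g fst snd sq hf.1,
     locP_baseChange etLocal_locallyOfFinitePresentation hA hB hB' f g fst snd sq hf.2⟩
  comp := fun _ _ _ hA hB hC f g hf hg =>
    ⟨locP_comp etLocal_flat hA hB hC f g hf.1 hg.1,
     locP_comp etLocal_locallyOfFinitePresentation hA hB hC f g hf.2 hg.2⟩
  openMap := fun _ _ hA hB f hf => isOpenMap_of_flat_of_lfp hA hB f hf.1 hf.2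

theorem qClass_smooth : QClass (S := S) (LocP @Smooth) where
  ofOpen := fun _ _ _ _ j hj => locP_smooth_of_isEtaleMor j (isEtaleMor_of_openImmersion j hj)
  baseChange := fun _ _ _ _ hA hB hB' f g fst snd sq hf =>
    locP_baseChange etLocal_smooth hA hB hB' f g fst snd sq hf
  comp := fun _ _ _ hA hB hC f g hf hg => locP_comp etLocal_smooth hA hB hC f g hf hg
  openMap := fun _ _ hA hB f hf => isOpenMap_of_flat_of_lfp hA hB f
    (fun _ _ a b h hae hbe comm => by
      have : Smooth h.left := hf a b h hae hbe comm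
      exact (inferInstance : Flat h.left))
    (fun _ _ a b h hae hbe comm => by
      have : Smooth h.left := hf a b h hae hbe comm
      exact (inferInstance : LocallyOfFinitePresentation h.left))

theorem qClass_etale : QClass (S := S) IsEtaleMor where
  ofOpen := fun _ _ _ _ j hj => isEtaleMor_of_openImmersion j hj
  baseChange := fun _ _ _ _ hA hB hB' _ _ _ _ sq hf => isEtaleMor_of_isPullback hA hB hB' sq hf
  comp := fun _ _ _ _ _ _ f g hf hg => fun _ φ hφ => by
    rw [← Category.assoc]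
    exact hg _ (hf φ hφ)
  openMap := fun _ _ hA hB f hf => by
    have hE : LocP @Etale f := (Groth.Agent.Lib.AlgSpLocP8_helper7.isEtaleMor_iff_locP hB f).1 hf
    exact isOpenMap_of_flat_of_lfp hA hB f
      (fun _ _ a b h hae hbe comm => by
        have : Etale h.left := hE a b h hae hbe comm
        exact (inferInstance : Flat h.left))
      (fun _ _ a b h hae hbe comm => by
        have : Etale h.left := hE a b h hae hbe comm
        exact (inferInstance : LocallyOfFinitePresentation h.left))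

end Groth.Agent.Lib.AlgSpLargestOpen_helper7
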