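import Groth.Agent.Lib.AffDesc7_helper7
import Groth.Agent.S10531
import Mathlib.AlgebraicGeometry.QuasiAffine

/-!
# Affine fpqc descent, part 8: quasi-affine morphisms are fpqc local on the base (helper7)
-/

set_option autoImplicit false
universe u
open CategoryTheory CategoryTheory.Limits AlgebraicGeometry Opposite TensorProduct MorphismProperty
open AlgSp Groth.Agent.Lib.AlgSpQC2_helper7 Groth.Agent.Lib.AlgSpPoints_helper7
  Groth.Agent.Lib.AlgSpQC_helper7 Groth.Agent.Lib.AlgSpPullback_helper7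
  Groth.Agent.Lib.AlgSpLocP_helper7 Groth.Agent.Lib.AlgSpFpqc3_helper7
  Groth.Agent.Lib.AlgSpIso_helper7 Groth.Agent.Lib.AlgSpAffine_helper7
  Groth.Agent.Lib.AlgSpSmST_helper7 Groth.Agent.Lib.AlgSpSep_helper7
  Groth.Agent.Lib.AlgSpDiag_helper7 Groth.Agent.Lib.AlgSpBasic_helper7
  Groth.Agent.Lib.AlgSpFpqc_helper7 Groth.Agent.Lib.AlgSpFpqc2_helper7

namespace Groth.Agent.Lib.AffDescH7

variable {S : Scheme.{u}}

theorem isQuasiCompactSp_of_iso {P P' : Sp S} (e : P ≅ P') (h : IsQuasiCompactSp P') :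
    IsQuasiCompactSp P := by
  obtain ⟨U, p, hpe, hps, hU⟩ := h
  exact ⟨U, p ≫ e.inv, repWith_comp @Etale hpe (repWith_of_isIso @Etale e.inv),
    repWith_comp @Surjective hps (repWith_of_isIso @Surjective e.inv), hU⟩

theorem isQuasiCompactMor_of_isQuasiAffineMor {X Y : Sp S} (hX : IsAlgSpace X)
    (hY : IsAlgSpace Y) (f : X ⟶ Y) (hf : IsQuasiAffineMor f) : IsQuasiCompactMor f := by
  refine isQuasiCompactMor_of_forall_affine hX hY.diag f (fun Z hZ g P fst snd sq => ?_)
  obtain ⟨W, i, fstW, sqW, hW⟩ := hf hZ g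
  haveI := hW
  exact isQuasiCompactSp_of_iso (sq.isoIsPullback _ _ sqW) (isQuasiCompactSp_yon W)

theorem isSeparatedMor_of_isQuasiAffineMor {X Y : Sp S} (hX : IsAlgSpace X)
    (f : X ⟶ Y) (hf : IsQuasiAffineMor f) : IsSeparatedMor f := by
  refine repWith_diagonal_of_forall_affine @IsClosedImmersion f (diagonal_properties hX f).1.rep
    (fun T hT g => ?_)
  obtain ⟨W, i, fstW, sqW, hW⟩ := hf hT g
  haveI := hW
  have h1 : IsSeparated (i.left ≫ terminal.from T.left) := by
    rw [terminal.comp_from]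
    infer_instance
  have h2 : IsSeparated i.left := IsSeparated.of_comp i.left (terminal.from T.left)
  exact ⟨_, fstW, (yon S).map i, sqW, (isSeparatedMor_yon_map_iff i).2 h2⟩

theorem isFpqcCover_family {T : Over S} (hT : IsAffine T.left) {m : ℕ} (W : Fin m → Over S)
    (c : ∀ j, W j ⟶ T) (hW : ∀ j, IsAffine (W j).left) (hc : ∀ j, Flat (c j).left)
    (hs : ∀ z : T.left, ∃ j, z ∈ Set.range (c j).left) :
    IsFpqcCover (fun k : ULift.{u} (Fin m) => (yon S).obj (W k.down))
      (fun k => (yon S).map (c k.down)) := by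
  refine ⟨fun k => locP_of_repWith @Flat (fun _ _ g hg => inferInstance) _
    ((repWith_yon_map_iff @Flat _).2 (hc k.down)), fun Z hZ h => ?_⟩
  obtain ⟨h₀, rfl⟩ := (yon S).map_surjective h
  haveI := hT
  haveI := hZ
  have sqP : ∀ j, IsPullback (pullback.fst h₀ (c j)).left (pullback.snd h₀ (c j)).left h₀.left
      (c j).left := fun j => (IsPullback.of_hasPullback h₀ (c j)).map (Over.forget S)
  refine ⟨m, fun j => pullback h₀ (c j), fun j => pullback.fst h₀ (c j), fun j => ?_, fun j => ?_,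
    fun z => ?_, fun j => ⟨⟨j⟩, (yon S).map (pullback.snd h₀ (c j)), ?_⟩⟩
  · haveI := hW j
    exact IsAffine.of_isPullback (sqP j)
  · exact MorphismProperty.of_isPullback (P := @Flat) (sqP j).flip (hc j)
  · obtain ⟨j, w, hw⟩ := hs (h₀.left z)
    obtain ⟨x, hx, _⟩ := Scheme.Pullback.exists_preimage_pullback z w hw.symm
    refine ⟨j, (sqP j).isoPullback.inv x, ?_⟩
    show (pullback.fst h₀ (c j)).left ((sqP j).isoPullback.inv x) = z
    rw [← Scheme.Hom.comp_apply, (sqP j).isoPullback_inv_fst]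
    exact hx
  · rw [← Functor.map_comp, ← Functor.map_comp, pullback.condition]

theorem isOpenImmersion_of_isIso_appTop {V : Scheme.{u}} [V.IsQuasiAffine] {R : CommRingCat.{u}}
    (g : V ⟶ Spec R) (hg : IsIso g.appTop) : IsOpenImmersion g := by
  have h := Scheme.toSpecΓ_naturality g
  have h1 : IsOpenImmersion (g ≫ (Spec R).toSpecΓ) := by
    rw [h]
    infer_instance
  exact (MorphismProperty.cancel_right_of_respectsIso @IsOpenImmersion g (Spec R).toSpecΓ).1 h1

variable {A : Type u} [CommRing A] (zs : Spec (CommRingCat.of A) ⟶ S)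

/-- The kernel pair of an affine chart of a space separated over `Spec A`, in `Spec` form. -/
theorem exists_spA_kernelPair {X : Sp S} (f : X ⟶ (yon S).obj (Over.mk zs))
    (hsep : IsSeparatedMor f) {C : Type u} [CommRing C] [Algebra A C]
    (p : (yon S).obj (SpA zs C) ⟶ X) (hpf : p ≫ f = (yon S).map (SpA.str zs C)) :
    ∃ (D : Type u) (_ : CommRing D) (_ : Algebra A D) (σ τ : C →ₐ[A] D),
      IsPullback ((yon S).map (SpA.map zs σ)) ((yon S).map (SpA.map zs τ)) p p := by
  have h0 : ∃ (W : Over S) (i : W ⟶ SpA zs C)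
      (fstW : (yon S).obj W ⟶ (yon S).obj (SpA zs C)),
      IsPullback fstW ((yon S).map i) (p ≫ f) (p ≫ f) ∧ IsAffine W.left ∧
        (⊤ : MorphismProperty Scheme.{u}) i.left := by
    refine ⟨SpA zs (C ⊗[A] C), SpA.map zs Algebra.TensorProduct.includeLeft,
      (yon S).map (SpA.map zs Algebra.TensorProduct.includeRight), ?_, SpA.isAffine zs _, trivial⟩
    rw [hpf]
    exact SpA.isPullback_yon zs C C
  obtain ⟨W, i, fstW, kpW, hW, -⟩ := exists_affine_pullback_of_comp p f hsep ⊤
    (fun _ _ _ _ _ _ _ => trivial) p h0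
  obtain ⟨D, iD, aD, eD, heD⟩ := SpA.exists_iso zs hW (i ≫ SpA.str zs C)
  obtain ⟨t₀, ht₀⟩ := (yon S).map_surjective fstW
  have hs_str : (eD.hom ≫ i) ≫ SpA.str zs C = SpA.str zs D := by
    rw [Category.assoc, heD]
  have ht_str : (eD.hom ≫ t₀) ≫ SpA.str zs C = SpA.str zs D := by
    apply (yon S).map_injective
    calc (yon S).map ((eD.hom ≫ t₀) ≫ SpA.str zs C)
        = (yon S).map eD.hom ≫ (fstW ≫ p) ≫ f := by
          rw [Functor.map_comp, Functor.map_comp, ht₀, ← hpf, Category.assoc, Category.assoc]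
      _ = (yon S).map eD.hom ≫ ((yon S).map i ≫ p) ≫ f := by rw [kpW.w]
      _ = (yon S).map (SpA.str zs D) := by
          rw [← heD, Functor.map_comp, Functor.map_comp, ← hpf, Category.assoc]
  obtain ⟨τ', hτ'⟩ := SpA.exists_map zs _ hs_str
  obtain ⟨σ', hσ'⟩ := SpA.exists_map zs _ ht_str
  refine ⟨D, iD, aD, σ', τ', ?_⟩
  refine IsPullback.of_iso kpW ((yon S).mapIso eD).symm (Iso.refl _) (Iso.refl _) (Iso.refl _)
    ?_ ?_ (by simp) (by simp)
  · rw [← hσ']
    simp [ht₀]
  · rw [← hτ']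
    simp

set_option maxHeartbeats 3200000 in
theorem isLocalOnBase_fpqc_isQuasiAffineMor :
    IsLocalOnBase (IsFpqcCover (S := S)) IsQuasiAffineMor := by
  intro ι Y Yi g hY hYi hcov X f hX Xi p q hXi sqs
  constructor
  · intro hf i Z hZ t
    obtain ⟨W, w, fst, sq, hW⟩ := hf hZ (t ≫ g i)
    have hw : fst ≫ f = ((yon S).map w ≫ t) ≫ g i := by
      rw [Category.assoc]
      exact sq.w
    refine ⟨W, w, (sqs i).lift fst ((yon S).map w ≫ t) hw, ?_, hW⟩
    exact IsPullback.of_right (by rw [(sqs i).lift_fst]; exact sq) ((sqs i).lift_snd _ _ _) (sqs i)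
  · intro hp
    have hfqc : IsQuasiCompactMor f :=
      (isLocalOnBase_fpqc_isQuasiCompactMor Yi g hY hYi hcov f hX Xi p q hXi sqs).2
        (fun i => isQuasiCompactMor_of_isQuasiAffineMor (hXi i) (hYi i) (p i) (hp i))
    have hfsep : IsSeparatedMor f :=
      (isLocalOnBase_fpqc_isSeparatedMor Yi g hY hYi hcov f hX Xi p q hXi sqs).2
        (fun i => isSeparatedMor_of_isQuasiAffineMor (hXi i) (p i) (hp i))
    intro Z hZ t
    haveI := hZ
    let A : Type u := Γ(Z.left, ⊤)
    let zs : Spec (CommRingCat.of A) ⟶ S := Z.left.isoSpec.inv ≫ Z.hom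
    let eZ : Over.mk zs ≅ Z := Over.isoMk Z.left.isoSpec.symm rfl
    let t₁ : (yon S).obj (Over.mk zs) ⟶ Y := (yon S).map eZ.hom ≫ t
    let s : pullback f t₁ ⟶ (yon S).obj (Over.mk zs) := pullback.snd f t₁
    have sqZ := IsPullback.of_hasPullback f t₁
    have hXZ : IsAlgSpace (pullback f t₁) :=
      isAlgSpace_of_isPullback hY.diag hX (IsAlgSpace.yon_obj _) sqZ
    have hsqc : IsQuasiCompactMor s := isQuasiCompactMor_of_isPullback sqZ hfqc
    have hssep : IsSeparatedMor s := isSeparatedMor_of_isPullback sqZ hfsep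
    have hZaff : IsAffine (Over.mk zs).left := by
      show IsAffine (Spec _)
      infer_instance
    haveI : CompactSpace ↥(Over.mk zs).left := by
      show CompactSpace ↥(Spec _)
      infer_instance
    have hqcX : IsQuasiCompactSp (pullback f t₁) :=
      hsqc (IsAlgSpace.yon_obj _) (isQuasiCompactSp_yon _) (𝟙 _) (𝟙 _) s (isPullback_id_left s)
    obtain ⟨C, iC, aC, p₀, hpf, hpe, hps⟩ := exists_spA_atlas zs s hqcX
    obtain ⟨D, iD, aD, σ', τ', kp⟩ := exists_spA_kernelPair zs s hssep p₀ hpf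
    obtain ⟨φ, hφf, hΓ⟩ := coreΓ zs σ' τ' s p₀ hpf hpe hps kp
    obtain ⟨m, W, c, hW, hc, hsurj, hl⟩ := hcov.2 (Over.mk zs) hZaff t₁
    choose i l hl using hl
    have key : ∀ j : Fin m, ∃ (T : Over S) (r : T ⟶ SpA zs (AlgHom.equalizer σ' τ')) (V : Over S)
        (ψ : V ⟶ T) (a : (yon S).obj V ⟶ pullback f t₁), IsAffine T.left ∧ Flat r.left ∧
        (∀ e : ↥(SpA zs (AlgHom.equalizer σ' τ')).left,
          (∃ w, (c j).left w = (SpA.str zs (AlgHom.equalizer σ' τ')).left e) →
            e ∈ Set.range r.left) ∧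
        IsPullback a ((yon S).map ψ) φ ((yon S).map r) ∧ IsOpenImmersion ψ.left := by
      intro j
      obtain ⟨B, iB, aB, eB, heB⟩ := SpA.exists_iso zs (hW j) (c j)
      haveI : IsIso eB.hom.left := inferInstanceAs (IsIso ((Over.forget S).map eB.hom))
      have hleft : (SpA.str zs B).left = eB.hom.left ≫ (c j).left := by
        rw [← heB]
        rfl
      have hfB : Flat (Spec.map (CommRingCat.ofHom (algebraMap A B))) := by
        show Flat (SpA.str zs B).left
        rw [hleft]
        haveI := hc j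
        infer_instance
      haveI : Module.Flat A B :=
        RingHom.flat_algebraMap_iff.1 ((HasRingHomProperty.Spec_iff (P := @Flat)).1 hfB)
      obtain ⟨V, v, b, sqV, hV⟩ := hp (i j) (hW j) (l j)
      have big : IsPullback (b ≫ q (i j)) ((yon S).map v) f ((yon S).map (c j) ≫ t₁) := by
        rw [← hl j]
        exact sqV.paste_horiz (sqs (i j))
      have hw : (b ≫ q (i j)) ≫ f = ((yon S).map v ≫ (yon S).map (c j)) ≫ t₁ := by
        rw [Category.assoc]
        exact big.w
      have sqa : IsPullback (sqZ.lift _ _ hw) ((yon S).map v) s ((yon S).map (c j)) :=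
        IsPullback.of_right (by rw [sqZ.lift_fst]; exact big) (sqZ.lift_snd _ _ _) sqZ
      have sqa' : IsPullback (sqZ.lift _ _ hw) ((yon S).map (v ≫ eB.inv)) s
          ((yon S).map (SpA.str zs B)) := by
        refine IsPullback.of_iso sqa (Iso.refl _) (Iso.refl _) ((yon S).mapIso eB).symm
          (Iso.refl _) (by simp) (by simp) (by simp) ?_
        rw [← heB]
        simp
      obtain ⟨ψ₀, sqψ, hiso⟩ := hΓ B V (v ≫ eB.inv) _ sqa'
      haveI := hV
      have hopen : IsOpenImmersion ψ₀.left := isOpenImmersion_of_isIso_appTop ψ₀.left hiso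
      have sqSch : IsPullback
          (SpA.map zs (Algebra.TensorProduct.includeLeft :
            B →ₐ[A] B ⊗[A] (AlgHom.equalizer σ' τ'))).left
          (SpA.map zs (Algebra.TensorProduct.includeRight :
            (AlgHom.equalizer σ' τ') →ₐ[A] B ⊗[A] (AlgHom.equalizer σ' τ'))).left
          (SpA.str zs B).left (SpA.str zs (AlgHom.equalizer σ' τ')).left :=
        ((SpA.isPullback zs B (AlgHom.equalizer σ' τ')).map (Over.forget S)).flip
      refine ⟨SpA zs (B ⊗[A] (AlgHom.equalizer σ' τ')),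
        SpA.map zs Algebra.TensorProduct.includeRight, V, ψ₀, _, SpA.isAffine zs _, ?_, ?_, sqψ,
        hopen⟩
      · exact MorphismProperty.of_isPullback (P := @Flat) sqSch hfB
      · rintro e ⟨w, hw'⟩
        have h9 : (eB.inv.left ≫ eB.hom.left) w = w := by
          have h10 : eB.inv.left ≫ eB.hom.left = 𝟙 _ := by
            rw [← Over.comp_left, Iso.inv_hom_id]
            rfl
          rw [h10]
          rfl
        rw [Scheme.Hom.comp_apply] at h9
        have hw2 : (SpA.str zs B).left (eB.inv.left w) =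
            (SpA.str zs (AlgHom.equalizer σ' τ')).left e := by
          rw [hleft, Scheme.Hom.comp_apply, h9, hw']
        obtain ⟨x, -, hx⟩ := Scheme.Pullback.exists_preimage_pullback (eB.inv.left w) e hw2
        refine ⟨sqSch.isoPullback.inv x, ?_⟩
        rw [← Scheme.Hom.comp_apply, sqSch.isoPullback_inv_snd]
        exact hx
    choose T r V ψ a hTaff hrflat hrsurj sqψ hopen using key
    have hcovE := isFpqcCover_family (SpA.isAffine zs (AlgHom.equalizer σ' τ')) T r hTaff hrflat
      (fun e => by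
        obtain ⟨j, w, hw⟩ := hsurj ((SpA.str zs (AlgHom.equalizer σ' τ')).left e)
        exact ⟨j, hrsurj j e ⟨w, hw⟩⟩)
    have hφo : RepWith @IsOpenImmersion φ :=
      (Groth.Agent.S10531.result S (fun k : ULift.{u} (Fin m) => (yon S).obj (T k.down))
        (fun k => (yon S).map (r k.down)) (IsAlgSpace.yon_obj _) (fun _ => IsAlgSpace.yon_obj _)
        hcovE φ hXZ (fun k => (yon S).obj (V k.down)) (fun k => (yon S).map (ψ k.down))
        (fun k => a k.down) (fun _ => IsAlgSpace.yon_obj _) (fun k => sqψ k.down)).2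
        (fun k => (repWith_yon_map_iff @IsOpenImmersion _).2 (hopen k.down))
    -- conclusion
    have sq0 := hφo.rep.isPullback (𝟙 _)
    haveI : IsIso (hφo.rep.fst (𝟙 ((yon S).obj (SpA zs (AlgHom.equalizer σ' τ'))))) :=
      sq0.isIso_fst_of_isIso
    let e₀ := asIso (hφo.rep.fst (𝟙 ((yon S).obj (SpA zs (AlgHom.equalizer σ' τ')))))
    let j₀ := hφo.rep.snd (𝟙 ((yon S).obj (SpA zs (AlgHom.equalizer σ' τ'))))
    have hj₀ : IsOpenImmersion j₀.left := hφo.property_snd _
    have he₀ : e₀.hom ≫ s = (yon S).map (j₀ ≫ SpA.str zs (AlgHom.equalizer σ' τ')) := by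
      rw [← hφf, ← Category.assoc, Functor.map_comp]
      congr 1
      have := sq0.w
      rw [Category.comp_id] at this
      exact this
    refine ⟨hφo.rep.pullback (𝟙 _), j₀ ≫ SpA.str zs (AlgHom.equalizer σ' τ') ≫ eZ.hom,
      e₀.hom ≫ pullback.fst f t₁, ?_, ?_⟩
    · refine IsPullback.of_iso sqZ e₀.symm (Iso.refl _) ((yon S).mapIso eZ) (Iso.refl _)
        (by simp) ?_ (by simp) (by simp [t₁])
      rw [Iso.symm_hom, Iso.eq_inv_comp, ← Category.assoc, he₀, Functor.mapIso_hom,
        ← Functor.map_comp, Category.assoc]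
    · haveI : CompactSpace ↥(hφo.rep.pullback (𝟙 _)).left :=
        compactSpace_of_isQuasiCompactSp_yon _ (isQuasiCompactSp_of_iso e₀ hqcX)
      haveI : IsAffine (SpA zs (AlgHom.equalizer σ' τ')).left := SpA.isAffine zs _
      exact Scheme.IsQuasiAffine.of_isImmersion j₀.left

end Groth.Agent.Lib.AffDescH7
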