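import Mathlib
import Groth.Agent.S19547

/-!
# Affine descent of algebras: the algebra behind effectivity of descent data for affine schemes

`A → B` faithfully flat, `C` a `B`-algebra with a "coaction" `γ : C → B ⊗[A] C` (the descent
datum), satisfying unit, cocycle and counit identities.  Then with `N` the equalizer of `γ` and
`c ↦ 1 ⊗ c`, the map `B ⊗[A] N → C` is bijective.
-/

set_option backward.isDefEq.respectTransparency false
set_option backward.isDefEq.respectTransparency.types false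

universe u

open TensorProduct

namespace Groth.Agent.Lib.AffDescH6

section alg

variable {A B C : Type u} [CommRing A] [CommRing B] [CommRing C] [Algebra A B] [Algebra B C]
  [Algebra A C] [IsScalarTower A B C]

variable (A B C) in
/-- The multiplication map `B ⊗[A] C → C`. -/
noncomputable def μ : B ⊗[A] C →ₐ[A] C :=
  Algebra.TensorProduct.productMap (IsScalarTower.toAlgHom A B C) (AlgHom.id A C)

@[simp] lemma μ_tmul (b : B) (c : C) : μ A B C (b ⊗ₜ c) = algebraMap B C b * c := by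
  simp [μ]

variable (γ : C →ₐ[A] B ⊗[A] C)

/-- The gluing map `C ⊗[A] B → B ⊗[A] C`, `c ⊗ b ↦ γ c * (1 ⊗ b)`. -/
noncomputable def Φ : C ⊗[A] B →ₐ[A] B ⊗[A] C :=
  Algebra.TensorProduct.productMap γ
    (Algebra.TensorProduct.includeRight.comp (IsScalarTower.toAlgHom A B C))

@[simp] lemma Φ_tmul (c : C) (b : B) : Φ γ (c ⊗ₜ b) = γ c * (1 ⊗ₜ algebraMap B C b) := by
  simp [Φ]

/-- The inverse gluing map `B ⊗[A] C → C ⊗[A] B`, `b ⊗ c ↦ (b ⊗ 1) * swap (γ c)`. -/
noncomputable def Φ' : B ⊗[A] C →ₐ[A] C ⊗[A] B :=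
  Algebra.TensorProduct.productMap
    (Algebra.TensorProduct.includeLeft.comp (IsScalarTower.toAlgHom A B C))
    ((Algebra.TensorProduct.comm A B C).toAlgHom.comp γ)

@[simp] lemma Φ'_tmul (b : B) (c : C) :
    Φ' γ (b ⊗ₜ c) = (algebraMap B C b ⊗ₜ 1) * Algebra.TensorProduct.comm A B C (γ c) := by
  simp [Φ']

/-- `b ⊗ w ↦ (b ⊗ 1) * swap w`. -/
noncomputable def Θ₁ : B ⊗[A] (B ⊗[A] C) →ₐ[A] C ⊗[A] B :=
  Algebra.TensorProduct.productMap
    (Algebra.TensorProduct.includeLeft.comp (IsScalarTower.toAlgHom A B C))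
    (Algebra.TensorProduct.comm A B C).toAlgHom

/-- `b ⊗ w ↦ (1 ⊗ b) * w`. -/
noncomputable def Θ₂ : B ⊗[A] (B ⊗[A] C) →ₐ[A] B ⊗[A] C :=
  Algebra.TensorProduct.productMap
    (Algebra.TensorProduct.includeRight.comp (IsScalarTower.toAlgHom A B C))
    (AlgHom.id A (B ⊗[A] C))

variable (h1 : ∀ b, γ (algebraMap B C b) = b ⊗ₜ 1)
  (h2 : ∀ c, Algebra.TensorProduct.map (AlgHom.id A B) γ (γ c) =
    Algebra.TensorProduct.map (AlgHom.id A B) Algebra.TensorProduct.includeRight (γ c))
  (h3 : ∀ c, μ A B C (γ c) = c)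

lemma Φ'_eq : Φ' γ = (Θ₁ (A := A) (B := B) (C := C)).comp
    (Algebra.TensorProduct.map (AlgHom.id A B) γ) := by
  apply Algebra.TensorProduct.ext
  · ext b; simp [Θ₁, Φ']
  · ext c; simp [Θ₁, Φ']

lemma Θ₁_inr : (Θ₁ (A := A) (B := B) (C := C)).comp
    (Algebra.TensorProduct.map (AlgHom.id A B) Algebra.TensorProduct.includeRight) =
    Algebra.TensorProduct.includeLeft.comp (μ A B C) := by
  apply Algebra.TensorProduct.ext
  · ext b; simp [Θ₁]
  · ext c; simp [Θ₁]

lemma Φ_comm_eq : (Φ γ).comp (Algebra.TensorProduct.comm A B C).toAlgHom =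
    (Θ₂ (A := A) (B := B) (C := C)).comp (Algebra.TensorProduct.map (AlgHom.id A B) γ) := by
  apply Algebra.TensorProduct.ext
  · ext b; simp [Θ₂]
  · ext c
    simp only [Θ₂, AlgHom.comp_apply, Algebra.TensorProduct.includeRight_apply,
      AlgEquiv.toAlgHom_eq_coe, AlgHom.coe_coe, Algebra.TensorProduct.comm_tmul, map_one,
      AlgHom.coe_restrictScalars', Algebra.TensorProduct.map_tmul, AlgHom.id_apply,
      Algebra.TensorProduct.productMap_apply_tmul, one_mul]
    erw [Algebra.TensorProduct.comm_tmul]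
    rw [Φ_tmul, map_one, ← Algebra.TensorProduct.one_def, mul_one]

lemma Θ₂_inr : (Θ₂ (A := A) (B := B) (C := C)).comp
    (Algebra.TensorProduct.map (AlgHom.id A B) Algebra.TensorProduct.includeRight) =
    Algebra.TensorProduct.includeRight.comp (μ A B C) := by
  apply Algebra.TensorProduct.ext
  · ext b; simp [Θ₂]
  · ext c; simp [Θ₂]

include h2 h3 in
lemma Φ'_γ (c : C) : Φ' γ (γ c) = c ⊗ₜ 1 := by
  rw [Φ'_eq, AlgHom.comp_apply, h2, ← AlgHom.comp_apply, Θ₁_inr, AlgHom.comp_apply, h3]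
  rfl

include h2 h3 in
lemma Φ_comm_γ (c : C) : Φ γ (Algebra.TensorProduct.comm A B C (γ c)) = 1 ⊗ₜ c := by
  have := congrArg (fun f => f (γ c)) (Φ_comm_eq γ)
  simp only [AlgHom.comp_apply] at this
  refine this.trans ?_
  rw [h2, ← AlgHom.comp_apply, Θ₂_inr, AlgHom.comp_apply, h3]
  rfl

include h1 h2 h3 in
lemma Φ'_comp_Φ : (Φ' γ).comp (Φ γ) = AlgHom.id A _ := by
  apply Algebra.TensorProduct.ext
  · ext c
    show Φ' γ (Φ γ (c ⊗ₜ 1)) = c ⊗ₜ 1
    rw [Φ_tmul, map_one, ← Algebra.TensorProduct.one_def, mul_one]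
    exact Φ'_γ γ h2 h3 c
  · ext b
    simp [h1]

include h1 h2 h3 in
lemma Φ_comp_Φ' : (Φ γ).comp (Φ' γ) = AlgHom.id A _ := by
  apply Algebra.TensorProduct.ext
  · ext b
    simp [h1]
  · ext c
    show Φ γ (Φ' γ (1 ⊗ₜ c)) = 1 ⊗ₜ c
    rw [Φ'_tmul, map_one, ← Algebra.TensorProduct.one_def, one_mul]
    exact Φ_comm_γ γ h2 h3 c

include h1 h2 h3 in
lemma Φ_bijective : Function.Bijective (Φ γ) := by
  refine Function.bijective_iff_has_inverse.mpr ⟨Φ' γ, fun x => ?_, fun x => ?_⟩
  · exact congrArg (fun f => f x) (Φ'_comp_Φ γ h1 h2 h3)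
  · exact congrArg (fun f => f x) (Φ_comp_Φ' γ h1 h2 h3)

omit [IsScalarTower A B C] in
lemma rTensor_mulLeft (x : B) (w : B ⊗[A] C) :
    LinearMap.rTensor C (LinearMap.mulLeft A x) w = (x ⊗ₜ 1) * w := by
  induction w with
  | zero => simp
  | add a b ha hb => simp [ha, hb, mul_add]
  | tmul b c => simp [Algebra.TensorProduct.tmul_mul_tmul]

lemma lTensor_lsmul (y : B) (w : B ⊗[A] C) :
    LinearMap.lTensor B (Algebra.lsmul A A C y) w = (1 ⊗ₜ algebraMap B C y) * w := by
  induction w with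
  | zero => simp
  | add a b ha hb => simp [ha, hb, mul_add]
  | tmul b c => simp [Algebra.TensorProduct.tmul_mul_tmul, Algebra.smul_def]

include h1 in
lemma coc_left (a b : B) (w : B ⊗[A] C) :
    LinearMap.lTensor B (Φ γ).toLinearMap (TensorProduct.assoc A B C B
      ((w * (1 ⊗ₜ algebraMap B C a)) ⊗ₜ[A] b)) =
      (1 ⊗ₜ (a ⊗ₜ algebraMap B C b)) * Algebra.TensorProduct.map (AlgHom.id A B) γ w := by
  induction w with
  | zero => simp
  | add x y hx hy => simp only [add_mul, add_tmul, map_add, hx, hy, mul_add]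
  | tmul b' c =>
    simp only [Algebra.TensorProduct.tmul_mul_tmul, mul_one, TensorProduct.assoc_tmul,
      LinearMap.lTensor_tmul, AlgHom.toLinearMap_apply, Φ_tmul, map_mul, h1,
      Algebra.TensorProduct.map_tmul, AlgHom.id_apply, one_mul]
    congr 1
    calc γ c * a ⊗ₜ[A] 1 * 1 ⊗ₜ[A] (algebraMap B C) b
        = (a ⊗ₜ[A] 1 * 1 ⊗ₜ[A] (algebraMap B C) b) * γ c := by ring
      _ = _ := by rw [Algebra.TensorProduct.tmul_mul_tmul, mul_one, one_mul]

lemma coc_right (a b : B) (w : B ⊗[A] C) :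
    LinearMap.lTensor B (TensorProduct.mk A B C a) (w * (1 ⊗ₜ algebraMap B C b)) =
      (1 ⊗ₜ (a ⊗ₜ algebraMap B C b)) *
        Algebra.TensorProduct.map (AlgHom.id A B) Algebra.TensorProduct.includeRight w := by
  induction w with
  | zero => simp
  | add x y hx hy => simp only [add_mul, map_add, hx, hy, mul_add]
  | tmul b' c =>
    simp only [Algebra.TensorProduct.tmul_mul_tmul, mul_one, LinearMap.lTensor_tmul,
      TensorProduct.mk_apply, Algebra.TensorProduct.map_tmul, AlgHom.id_apply,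
      Algebra.TensorProduct.includeRight_apply, one_mul]
    rw [mul_comm]

/-- The subalgebra of descended elements. -/
noncomputable def NN : Subalgebra A C := AlgHom.equalizer γ Algebra.TensorProduct.includeRight

lemma mem_NN (c : C) : c ∈ NN γ ↔ γ c = 1 ⊗ₜ c := Iff.rfl

include h1 h2 h3 in
/-- Faithfully flat descent for algebras: `B ⊗[A] N → C` is bijective. -/
theorem lam_bijective [Module.FaithfullyFlat A B] :
    Function.Bijective (Algebra.TensorProduct.productMap (IsScalarTower.toAlgHom A B C)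
      (NN γ).val) := by
  have key := Groth.Agent.S19547.result A B C (Φ γ).toLinearMap (Φ_bijective γ h1 h2 h3)
    (fun x u z => by
      rw [rTensor_mulLeft]
      simp only [AlgHom.toLinearMap_apply, Φ_tmul, Algebra.smul_def, map_mul, h1]
      ring)
    (fun y u z => by
      rw [lTensor_lsmul]
      simp only [AlgHom.toLinearMap_apply, Φ_tmul, map_mul]
      rw [← mul_one (1 : B), ← Algebra.TensorProduct.tmul_mul_tmul, mul_one]
      ring)
    (fun u a b => by
      have e1 : LinearMap.rTensor B (Φ γ).toLinearMap ((u ⊗ₜ[A] a) ⊗ₜ[A] b) =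
          (γ u * (1 ⊗ₜ algebraMap B C a)) ⊗ₜ[A] b := by
        simp
      rw [e1, coc_left γ h1, h2]
      have e2 : (Φ γ).toLinearMap (u ⊗ₜ[A] b) = γ u * (1 ⊗ₜ algebraMap B C b) := by simp
      rw [e2, coc_right])
    (Subalgebra.toSubmodule (NN γ))
    (fun u => by
      rw [Subalgebra.mem_toSubmodule, mem_NN]
      simp only [AlgHom.toLinearMap_apply, Φ_tmul, map_one]
      rw [← Algebra.TensorProduct.one_def, mul_one])
  have e : ∀ x, Algebra.TensorProduct.productMap (IsScalarTower.toAlgHom A B C) (NN γ).val x =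
      ((TensorProduct.lift (Algebra.lsmul A A C).toLinearMap) ∘ₗ
        (LinearMap.lTensor B (Subalgebra.toSubmodule (NN γ)).subtype)) x := by
    intro x
    induction x with
    | zero => simp
    | add a b ha hb => simp only [map_add, ha, hb]
    | tmul b n => simp [Algebra.smul_def]
  rw [funext e]
  exact key

end alg

end Groth.Agent.Lib.AffDescH6
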