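import Mathlib
import Groth.Prelude.Def_DescFam

/-!
# Isomorphisms of descent data from natural bijections on points
-/

universe w u

open CategoryTheory CategoryTheory.Limits AlgebraicGeometry Opposite

namespace Groth.Agent.Lib.DescIso

variable {S : Scheme.{u}} {ι : Type w} {X : ι → Scheme.{u}} {f : ∀ i, X i ⟶ S}

/-- Isomorphism of descent data from isomorphisms of the underlying objects. -/
def isoMk {D D' : Desc.SchDDFam f} (e : ∀ i, D.obj i ≅ D'.obj i)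
    (comm : ∀ ⦃T : Scheme.{u}⦄ ⦃i j : ι⦄ (x₀ : T ⟶ X i) (x₁ : T ⟶ X j) (h : x₀ ≫ f i = x₁ ≫ f j)
      (v : Desc.Lifts (D.obj i) x₀) (w : Desc.Lifts (D'.obj i) x₀), w.1 = v.1 ≫ (e i).hom.left →
      (D'.φ x₀ x₁ h w).1 = (D.φ x₀ x₁ h v).1 ≫ (e j).hom.left) : D ≅ D' where
  hom := ⟨fun i => (e i).hom, comm⟩
  inv := ⟨fun i => (e i).inv, fun T i j x₀ x₁ h w v hv => by
    have hw : w.1 = v.1 ≫ (e i).hom.left := by
      rw [hv, Category.assoc, ← Over.comp_left, Iso.inv_hom_id, Over.id_left, Category.comp_id]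
    have := comm x₀ x₁ h v w hw
    rw [this, Category.assoc, ← Over.comp_left, Iso.hom_inv_id, Over.id_left, Category.comp_id]⟩
  hom_inv_id := by
    apply Desc.SchDDFam.hom_ext
    funext i
    exact (e i).hom_inv_id
  inv_hom_id := by
    apply Desc.SchDDFam.hom_ext
    funext i
    exact (e i).inv_hom_id

section general

variable {E D : Desc.SchDDFam f}
  (r : ∀ ⦃T : Scheme.{u}⦄ ⦃i : ι⦄, (T ⟶ X i) → (T ⟶ X i))
  (hr : ∀ ⦃T : Scheme.{u}⦄ ⦃i : ι⦄ (x : T ⟶ X i), r x ≫ f i = x ≫ f i)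
  (hrn : ∀ ⦃T T' : Scheme.{u}⦄ (σ : T' ⟶ T) ⦃i : ι⦄ (x : T ⟶ X i), r (σ ≫ x) = σ ≫ r x)
  (θ : ∀ ⦃T : Scheme.{u}⦄ ⦃i : ι⦄ (x : T ⟶ X i), Desc.Lifts (E.obj i) x ≃ Desc.Lifts (D.obj i) (r x))
  (hθn : ∀ ⦃T T' : Scheme.{u}⦄ (σ : T' ⟶ T) ⦃i : ι⦄ (x : T ⟶ X i) (v : Desc.Lifts (E.obj i) x)
    (v' : Desc.Lifts (E.obj i) (σ ≫ x)), v'.1 = σ ≫ v.1 → (θ (σ ≫ x) v').1 = σ ≫ (θ x v).1)
  (hθφ : ∀ ⦃T : Scheme.{u}⦄ ⦃i j : ι⦄ (x₀ : T ⟶ X i) (x₁ : T ⟶ X j) (h : x₀ ≫ f i = x₁ ≫ f j)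
    (v : Desc.Lifts (E.obj i) x₀),
    E.φ x₀ x₁ h v = (θ x₁).symm (D.φ (r x₀) (r x₁) (by rw [hr, hr, h]) (θ x₀ v)))

/-- The bijection on points over `x`. -/
def Ψ ⦃T : Scheme.{u}⦄ ⦃i : ι⦄ (x : T ⟶ X i) : Desc.Lifts (E.obj i) x ≃ Desc.Lifts (D.obj i) x :=
  (θ x).trans (D.φ (r x) x (hr x))

include hrn hθn in
lemma Ψ_natural ⦃T T' : Scheme.{u}⦄ (σ : T' ⟶ T) ⦃i : ι⦄ (x : T ⟶ X i)
    (v : Desc.Lifts (E.obj i) x) (v' : Desc.Lifts (E.obj i) (σ ≫ x)) (hv : v'.1 = σ ≫ v.1) :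
    (Ψ r hr θ (σ ≫ x) v').1 = σ ≫ (Ψ r hr θ x v).1 := by
  unfold Ψ
  simp only [Equiv.trans_apply]
  exact D.φ_natural σ (r x) x (hr x) (r (σ ≫ x)) (σ ≫ x) (hrn σ x).symm rfl (hr _) _ _
    (hθn σ x v v' hv)

include hrn hθn in
lemma Ψ_symm_natural ⦃T T' : Scheme.{u}⦄ (σ : T' ⟶ T) ⦃i : ι⦄ (x : T ⟶ X i)
    (w : Desc.Lifts (D.obj i) x) (w' : Desc.Lifts (D.obj i) (σ ≫ x)) (hw : w'.1 = σ ≫ w.1) :
    ((Ψ r hr θ (σ ≫ x)).symm w').1 = σ ≫ ((Ψ r hr θ x).symm w).1 := by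
  let v := (Ψ r hr θ x).symm w
  let v'' : Desc.Lifts (E.obj i) (σ ≫ x) := ⟨σ ≫ v.1, by rw [Category.assoc, v.2]⟩
  have h1 : Ψ r hr θ (σ ≫ x) v'' = w' := by
    apply Subtype.ext
    rw [Ψ_natural r hr hrn θ hθn σ x v v'' rfl, hw]
    show σ ≫ (Ψ r hr θ x ((Ψ r hr θ x).symm w)).1 = _
    rw [Equiv.apply_symm_apply]
  rw [← h1, Equiv.symm_apply_apply]

include hrn hθn hθφ in
theorem exists_iso : ∃ e : E ≅ D, ∀ ⦃T : Scheme.{u}⦄ ⦃i : ι⦄ (x : T ⟶ X i)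
    (v : Desc.Lifts (E.obj i) x), v.1 ≫ (e.hom.hom i).left = (Ψ r hr θ x v).1 := by
  let hm : ∀ i, E.obj i ⟶ D.obj i := fun i =>
    Over.homMk (Ψ r hr θ (E.obj i).hom ⟨𝟙 _, Category.id_comp _⟩).1
      (Ψ r hr θ (E.obj i).hom ⟨𝟙 _, Category.id_comp _⟩).2
  let iv : ∀ i, D.obj i ⟶ E.obj i := fun i =>
    Over.homMk ((Ψ r hr θ (D.obj i).hom).symm ⟨𝟙 _, Category.id_comp _⟩).1
      ((Ψ r hr θ (D.obj i).hom).symm ⟨𝟙 _, Category.id_comp _⟩).2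
  have hhm : ∀ ⦃T : Scheme.{u}⦄ ⦃i : ι⦄ (x : T ⟶ X i) (v : Desc.Lifts (E.obj i) x),
      v.1 ≫ (hm i).left = (Ψ r hr θ x v).1 := by
    intro T i x v
    obtain ⟨v, rfl⟩ := v
    exact (Ψ_natural r hr hrn θ hθn v (E.obj i).hom ⟨𝟙 _, Category.id_comp _⟩ ⟨v, rfl⟩
      (Category.comp_id _).symm).symm
  have hiv : ∀ ⦃T : Scheme.{u}⦄ ⦃i : ι⦄ (x : T ⟶ X i) (w : Desc.Lifts (D.obj i) x),
      w.1 ≫ (iv i).left = ((Ψ r hr θ x).symm w).1 := by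
    intro T i x w
    obtain ⟨w, rfl⟩ := w
    exact (Ψ_symm_natural r hr hrn θ hθn w (D.obj i).hom ⟨𝟙 _, Category.id_comp _⟩ ⟨w, rfl⟩
      (Category.comp_id _).symm).symm
  let e : ∀ i, E.obj i ≅ D.obj i := fun i =>
    { hom := hm i
      inv := iv i
      hom_inv_id := by
        apply Over.OverMorphism.ext
        show (hm i).left ≫ (iv i).left = 𝟙 _
        have h1 := hhm (E.obj i).hom ⟨𝟙 _, Category.id_comp _⟩
        rw [Category.id_comp] at h1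
        rw [h1, hiv (E.obj i).hom, Equiv.symm_apply_apply]
      inv_hom_id := by
        apply Over.OverMorphism.ext
        show (iv i).left ≫ (hm i).left = 𝟙 _
        have h1 := hiv (D.obj i).hom ⟨𝟙 _, Category.id_comp _⟩
        rw [Category.id_comp] at h1
        rw [h1, hhm (D.obj i).hom, Equiv.apply_symm_apply] }
  refine ⟨isoMk e ?_, fun T i x v => hhm x v⟩
  intro T i j x₀ x₁ h v w hw
  have hw' : w = Ψ r hr θ x₀ v := Subtype.ext (hw.trans (hhm x₀ v))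
  show _ = (E.φ x₀ x₁ h v).1 ≫ (hm j).left
  rw [hhm x₁, hw']
  unfold Ψ
  simp only [Equiv.trans_apply]
  rw [hθφ x₀ x₁ h v, Equiv.apply_symm_apply, D.φ_comp, D.φ_comp]

end general

end Groth.Agent.Lib.DescIso
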