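import Mathlib
import Groth.Prelude.Def_DescFam
import Groth.Agent.Lib.DescIso_helper9
import Groth.Agent.Lib.AffDescAlg_helper6

/-!
# Effectivity of descent data for affine schemes along a faithfully flat map of affine schemes
-/

set_option backward.isDefEq.respectTransparency false
set_option backward.isDefEq.respectTransparency.types false

universe u

open CategoryTheory CategoryTheory.Limits AlgebraicGeometry Opposite TensorProduct

namespace Groth.Agent.Lib.AffDescH6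

section glue

variable {X S : Scheme.{u}} (p : X ⟶ S) (D : Desc.SchDD p)

lemma φ_congr' {T : Scheme.{u}} {x₀ x₀' x₁ x₁' : T ⟶ X} (e₀ : x₀ = x₀') (e₁ : x₁ = x₁')
    (h : x₀ ≫ p = x₁ ≫ p) (h' : x₀' ≫ p = x₁' ≫ p) (y : Desc.Lifts D.obj x₀)
    (y' : Desc.Lifts D.obj x₀') (hy : y.1 = y'.1) :
    (D.φ x₀ x₁ h y).1 = (D.φ x₀' x₁' h' y').1 := by
  subst e₀ e₁
  have : y = y' := Subtype.ext hy
  subst this
  rfl

/-- A scheme `U` over `S` with a cartesian square and compatibility with the gluing bijections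
gives an isomorphism of the canonical descent datum of `U` with `D`. -/
theorem iso_of_glue (U : Over S) (r : D.obj.left ⟶ U.left)
    (hpb : IsPullback D.obj.hom r p U.hom)
    (hc : ∀ ⦃T : Scheme.{u}⦄ (x₀ x₁ : T ⟶ X) (h : x₀ ≫ p = x₁ ≫ p) (y : Desc.Lifts D.obj x₀),
      (D.φ x₀ x₁ h y).1 ≫ r = y.1 ≫ r) :
    Nonempty ((Desc.toDD p).obj U ≅ D) := by
  let e : ((Desc.toDD p).obj U).obj ≅ D.obj :=
    (Over.isoMk hpb.isoPullback hpb.isoPullback_hom_fst).symm
  have he : e.hom.left = hpb.isoPullback.inv := rfl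
  let E : Desc.SchDDFam (fun _ : PUnit.{u+1} => p) :=
    (Desc.toDDFam (fun _ : PUnit.{u+1} => p)).obj U
  let D' : Desc.SchDDFam (fun _ : PUnit.{u+1} => p) := (Desc.SchDDFam.ofSchDD p).obj D
  have i : E ≅ D' := by
    refine Groth.Agent.Lib.DescIso.isoMk (fun _ => e) ?_
    intro T _ _ x₀ x₁ h v w hw
    show (D.φ x₀ x₁ h w).1 = _ ≫ e.hom.left
    rw [he] at hw ⊢
    rw [← cancel_mono hpb.isoPullback.hom, Category.assoc, Iso.inv_hom_id, Category.comp_id]
    apply pullback.hom_ext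
    · rw [Category.assoc, IsPullback.isoPullback_hom_fst]
      refine ((D.φ x₀ x₁ h w).2).trans ?_
      exact (pullback.lift_fst _ _ _).symm
    · rw [Category.assoc, IsPullback.isoPullback_hom_snd]
      refine (hc x₀ x₁ h w).trans ?_
      rw [hw, Category.assoc, IsPullback.isoPullback_inv_snd]
      exact (pullback.lift_snd _ _ _).symm
  exact ⟨(Desc.SchDDFam.toSchDD p).mapIso i⟩

end glue

section affine

variable (A B C : Type u) [CommRing A] [CommRing B] [CommRing C] [Algebra A B] [Algebra B C]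
  [Algebra A C] [IsScalarTower A B C]

/-- The universal test scheme `Spec (B ⊗[A] C)`. -/
noncomputable abbrev T₂ : Scheme.{u} := Spec (.of (B ⊗[A] C))

/-- `b ↦ b ⊗ 1`. -/
noncomputable abbrev inl₂ : CommRingCat.of B ⟶ CommRingCat.of (B ⊗[A] C) :=
  CommRingCat.ofHom Algebra.TensorProduct.includeLeftRingHom

/-- `c ↦ 1 ⊗ c`. -/
noncomputable abbrev inr₂ : CommRingCat.of C ⟶ CommRingCat.of (B ⊗[A] C) :=
  CommRingCat.ofHom Algebra.TensorProduct.includeRight.toRingHom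

/-- The structure map `A → B` in `CommRingCat`. -/
abbrev fAB : CommRingCat.of A ⟶ CommRingCat.of B := CommRingCat.ofHom (algebraMap A B)

/-- The structure map `B → C` in `CommRingCat`. -/
abbrev fBC : CommRingCat.of B ⟶ CommRingCat.of C := CommRingCat.ofHom (algebraMap B C)

lemma fAB_inl : fAB A B ≫ inl₂ A B C = fAB A B ≫ fBC B C ≫ inr₂ A B C := by
  ext a
  show (algebraMap A B a) ⊗ₜ[A] (1 : C) = (1 : B) ⊗ₜ[A] algebraMap B C (algebraMap A B a)
  rw [← IsScalarTower.algebraMap_apply, Algebra.algebraMap_eq_smul_one,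
    Algebra.algebraMap_eq_smul_one, TensorProduct.smul_tmul]

variable {A B C}
variable {X S : Scheme.{u}} (p : X ⟶ S) (D : Desc.SchDD p)
  (eS : S ≅ Spec (.of A)) (eX : X ≅ Spec (.of B)) (eV : D.obj.left ≅ Spec (.of C))
  (hp : eX.hom ≫ Spec.map (fAB A B) = p ≫ eS.hom)
  (hπ : eV.hom ≫ Spec.map (fBC B C) = D.obj.hom ≫ eX.hom)

include hp in
lemma eX_inv_p : eX.inv ≫ p = Spec.map (fAB A B) ≫ eS.inv := by
  rw [Iso.inv_comp_eq, ← Category.assoc, Iso.eq_comp_inv, hp]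

include hπ in
lemma eV_inv_π : eV.inv ≫ D.obj.hom = Spec.map (fBC B C) ≫ eX.inv := by
  rw [Iso.inv_comp_eq, ← Category.assoc, Iso.eq_comp_inv, hπ]

/-- The universal point of `X`. -/
noncomputable def x₀u : T₂ A B C ⟶ X := Spec.map (inl₂ A B C) ≫ eX.inv

/-- The universal point of `V`. -/
noncomputable def v'u : T₂ A B C ⟶ D.obj.left := Spec.map (inr₂ A B C) ≫ eV.inv

include hp hπ in
lemma hxu : (v'u (A := A) (B := B) p D eV ≫ D.obj.hom) ≫ p = x₀u (A := A) (C := C) eX ≫ p := by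
  unfold v'u x₀u
  simp only [Category.assoc]
  rw [← Category.assoc eV.inv, eV_inv_π p D eX eV hπ, Category.assoc, eX_inv_p p eS eX hp]
  simp only [← Category.assoc, ← Spec.map_comp]
  rw [fAB_inl, Category.assoc]

/-- The universal transported point. -/
noncomputable def vu : T₂ A B C ⟶ D.obj.left :=
  (D.φ (v'u (A := A) (B := B) p D eV ≫ D.obj.hom) (x₀u (A := A) (C := C) eX)
    (hxu p D eS eX eV hp hπ) ⟨v'u p D eV, rfl⟩).1

lemma vu_π : vu p D eS eX eV hp hπ ≫ D.obj.hom = x₀u (A := A) (C := C) eX :=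
  (D.φ _ _ (hxu p D eS eX eV hp hπ) ⟨v'u p D eV, rfl⟩).2

/-- The universal formula for the gluing bijections. -/
lemma univ {T : Scheme.{u}} (t : T ⟶ T₂ A B C) (x₀ x₁ : T ⟶ X) (h : x₁ ≫ p = x₀ ≫ p)
    (y : Desc.Lifts D.obj x₁) (h₀ : x₀ = t ≫ x₀u (A := A) (C := C) eX)
    (hy : y.1 = t ≫ v'u (A := A) (B := B) p D eV) :
    (D.φ x₁ x₀ h y).1 = t ≫ vu p D eS eX eV hp hπ := by
  have h₁ : x₁ = t ≫ (v'u (A := A) (B := B) p D eV ≫ D.obj.hom) := by
    rw [← Category.assoc, ← hy, y.2]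
  have h' : (t ≫ (v'u (A := A) (B := B) p D eV ≫ D.obj.hom)) ≫ p =
      (t ≫ x₀u (A := A) (C := C) eX) ≫ p := by rw [← h₀, ← h₁, h]
  have := D.φ_natural t (v'u (A := A) (B := B) p D eV ≫ D.obj.hom) (x₀u (A := A) (C := C) eX)
    (hxu p D eS eX eV hp hπ) h' ⟨v'u p D eV, rfl⟩ ⟨t ≫ v'u p D eV, by rw [Category.assoc]⟩ rfl
  refine Eq.trans ?_ this
  exact φ_congr' p D h₁ h₀ h h' y _ hy

omit [IsScalarTower A B C] in
include hp hπ in
lemma univ_h {T : Scheme.{u}} (t : T ⟶ T₂ A B C) (x₀ x₁ : T ⟶ X)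
    (y : Desc.Lifts D.obj x₁) (h₀ : x₀ = t ≫ x₀u (A := A) (C := C) eX)
    (hy : y.1 = t ≫ v'u (A := A) (B := B) p D eV) [IsScalarTower A B C] :
    x₁ ≫ p = x₀ ≫ p := by
  have h₁ : x₁ = t ≫ (v'u (A := A) (B := B) p D eV ≫ D.obj.hom) := by
    rw [← Category.assoc, ← hy, y.2]
  rw [h₀, h₁, Category.assoc, hxu p D eS eX eV hp hπ, Category.assoc]

/-- The coaction ring map `C → B ⊗[A] C`. -/
noncomputable def γc : CommRingCat.of C ⟶ CommRingCat.of (B ⊗[A] C) :=
  Spec.preimage (vu p D eS eX eV hp hπ ≫ eV.hom)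

lemma vu_eq : vu p D eS eX eV hp hπ = Spec.map (γc p D eS eX eV hp hπ) ≫ eV.inv := by
  rw [γc, Spec.map_preimage, Category.assoc, Iso.hom_inv_id, Category.comp_id]

omit [IsScalarTower A B C] in
lemma ptV_inj {R : CommRingCat.{u}} {c c' : CommRingCat.of C ⟶ R}
    (h : Spec.map c ≫ eV.inv = Spec.map c' ≫ eV.inv) : c = c' :=
  Spec.map_injective ((cancel_mono eV.inv).mp h)

/-- (i) unit: `γ (ψ b) = b ⊗ 1`. -/
lemma γc_unit : fBC B C ≫ γc p D eS eX eV hp hπ = inl₂ A B C := by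
  have h := vu_π p D eS eX eV hp hπ
  rw [vu_eq, x₀u, Category.assoc, eV_inv_π p D eX eV hπ, ← Category.assoc, ← Spec.map_comp] at h
  exact Spec.map_injective ((cancel_mono eX.inv).mp h)

variable (A B C) in
/-- The multiplication `B ⊗[A] C → C` in `CommRingCat`. -/
noncomputable abbrev μc : CommRingCat.of (B ⊗[A] C) ⟶ CommRingCat.of C :=
  CommRingCat.ofHom (μ A B C).toRingHom

lemma inl_μc : inl₂ A B C ≫ μc A B C = fBC B C := by
  ext b
  show μ A B C (b ⊗ₜ 1) = algebraMap B C b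
  simp

lemma inr_μc : inr₂ A B C ≫ μc A B C = 𝟙 _ := by
  ext c
  show μ A B C (1 ⊗ₜ c) = c
  simp

/-- (iii) counit: `μ (γ c) = c`. -/
lemma γc_counit : γc p D eS eX eV hp hπ ≫ μc A B C = 𝟙 _ := by
  let xπ : Spec (.of C) ⟶ X := Spec.map (fBC B C) ≫ eX.inv
  let y : Desc.Lifts D.obj xπ := ⟨eV.inv, eV_inv_π p D eX eV hπ⟩
  have h₀ : xπ = Spec.map (μc A B C) ≫ x₀u (A := A) (C := C) eX := by
    rw [x₀u, ← Category.assoc, ← Spec.map_comp, inl_μc]
  have hy : y.1 = Spec.map (μc A B C) ≫ v'u (A := A) (B := B) p D eV := by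
    rw [v'u, ← Category.assoc, ← Spec.map_comp, inr_μc, Spec.map_id, Category.id_comp]
  have key := univ p D eS eX eV hp hπ (Spec.map (μc A B C)) xπ xπ rfl y h₀ hy
  rw [D.φ_self xπ y, vu_eq, ← Category.assoc, ← Spec.map_comp] at key
  apply ptV_inj p D eV
  rw [Spec.map_id, Category.id_comp]
  exact key.symm

/-- The coaction as an `A`-algebra map. -/
noncomputable def γa : C →ₐ[A] B ⊗[A] C :=
  { (γc p D eS eX eV hp hπ).hom with
    commutes' := fun a => by
      have h := congrArg (fun f => f.hom (algebraMap A B a)) (γc_unit p D eS eX eV hp hπ)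
      simp only [CommRingCat.hom_comp, CommRingCat.hom_ofHom, RingHom.comp_apply] at h
      rw [IsScalarTower.algebraMap_apply A B C]
      exact h.trans (by simp [Algebra.TensorProduct.algebraMap_apply]) }

lemma γa_apply (c : C) : γa p D eS eX eV hp hπ c = (γc p D eS eX eV hp hπ).hom c := rfl

lemma ofHom_γa : CommRingCat.ofHom (γa p D eS eX eV hp hπ).toRingHom = γc p D eS eX eV hp hπ :=
  rfl

lemma γa_h1 (b : B) : γa p D eS eX eV hp hπ (algebraMap B C b) = b ⊗ₜ 1 := by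
  have h := congrArg (fun f => f.hom b) (γc_unit p D eS eX eV hp hπ)
  rw [γa_apply]
  simpa using h

lemma γa_h3 (c : C) : μ A B C (γa p D eS eX eV hp hπ c) = c := by
  have h := congrArg (fun f => f.hom c) (γc_counit p D eS eX eV hp hπ)
  rw [γa_apply]
  simpa using h

variable (A B C) in
/-- `w ↦ 1 ⊗ w`. -/
noncomputable abbrev ι₂ : CommRingCat.of (B ⊗[A] C) ⟶ CommRingCat.of (B ⊗[A] (B ⊗[A] C)) :=
  CommRingCat.ofHom Algebra.TensorProduct.includeRight.toRingHom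

variable (A B C) in
/-- `b ↦ b ⊗ 1 ⊗ 1`. -/
noncomputable abbrev inl₃ : CommRingCat.of B ⟶ CommRingCat.of (B ⊗[A] (B ⊗[A] C)) :=
  CommRingCat.ofHom Algebra.TensorProduct.includeLeftRingHom

variable (A B C) in
/-- `id ⊗ inr`. -/
noncomputable abbrev mm : CommRingCat.of (B ⊗[A] C) ⟶ CommRingCat.of (B ⊗[A] (B ⊗[A] C)) :=
  CommRingCat.ofHom (Algebra.TensorProduct.map (AlgHom.id A B)
    (Algebra.TensorProduct.includeRight : C →ₐ[A] B ⊗[A] C)).toRingHom

/-- `id ⊗ γ`. -/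
noncomputable abbrev nn : CommRingCat.of (B ⊗[A] C) ⟶ CommRingCat.of (B ⊗[A] (B ⊗[A] C)) :=
  CommRingCat.ofHom (Algebra.TensorProduct.map (AlgHom.id A B)
    (γa p D eS eX eV hp hπ)).toRingHom

omit [IsScalarTower A B C] in
lemma inl_mm : inl₂ A B C ≫ mm A B C = inl₃ A B C := by
  ext b
  show Algebra.TensorProduct.map (AlgHom.id A B) Algebra.TensorProduct.includeRight
    (b ⊗ₜ[A] (1 : C)) = b ⊗ₜ[A] (1 : B ⊗[A] C)
  simp [Algebra.TensorProduct.one_def]

omit [IsScalarTower A B C] in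
lemma inr_mm : inr₂ A B C ≫ mm A B C = inr₂ A B C ≫ ι₂ A B C := by
  ext c
  show Algebra.TensorProduct.map (AlgHom.id A B) Algebra.TensorProduct.includeRight
    ((1 : B) ⊗ₜ[A] c) = (1 : B) ⊗ₜ[A] ((1 : B) ⊗ₜ[A] c)
  simp

lemma inl_nn : inl₂ A B C ≫ nn p D eS eX eV hp hπ = inl₃ A B C := by
  ext b
  show Algebra.TensorProduct.map (AlgHom.id A B) (γa p D eS eX eV hp hπ)
    (b ⊗ₜ[A] (1 : C)) = b ⊗ₜ[A] (1 : B ⊗[A] C)
  simp

lemma inr_nn : inr₂ A B C ≫ nn p D eS eX eV hp hπ = γc p D eS eX eV hp hπ ≫ ι₂ A B C := by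
  ext c
  show Algebra.TensorProduct.map (AlgHom.id A B) (γa p D eS eX eV hp hπ)
    ((1 : B) ⊗ₜ[A] c) = (1 : B) ⊗ₜ[A] ((γc p D eS eX eV hp hπ).hom c)
  simp [γa_apply]

/-- (ii) cocycle: `(id ⊗ γ) ∘ γ = (id ⊗ inr) ∘ γ`. -/
lemma γc_cocycle : γc p D eS eX eV hp hπ ≫ nn p D eS eX eV hp hπ =
    γc p D eS eX eV hp hπ ≫ mm A B C := by
  let x₀ : Spec (.of (B ⊗[A] (B ⊗[A] C))) ⟶ X := Spec.map (inl₃ A B C) ≫ eX.inv
  let x₁ : Spec (.of (B ⊗[A] (B ⊗[A] C))) ⟶ X := Spec.map (inl₂ A B C ≫ ι₂ A B C) ≫ eX.inv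
  let y₂v : Spec (.of (B ⊗[A] (B ⊗[A] C))) ⟶ D.obj.left :=
    Spec.map (inr₂ A B C ≫ ι₂ A B C) ≫ eV.inv
  let y₂ : Desc.Lifts D.obj (y₂v ≫ D.obj.hom) := ⟨y₂v, rfl⟩
  -- (a)
  have a₀ : x₁ = Spec.map (ι₂ A B C) ≫ x₀u (A := A) (C := C) eX := by
    rw [x₀u, ← Category.assoc, ← Spec.map_comp]
  have ay : y₂.1 = Spec.map (ι₂ A B C) ≫ v'u (A := A) (B := B) p D eV := by
    rw [v'u, ← Category.assoc, ← Spec.map_comp]
  have ha := univ_h p D eS eX eV hp hπ _ _ _ y₂ a₀ ay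
  have ka := univ p D eS eX eV hp hπ _ _ _ ha y₂ a₀ ay
  -- (b)
  let y₁ : Desc.Lifts D.obj x₁ := D.φ _ _ ha y₂
  have b₀ : x₀ = Spec.map (nn p D eS eX eV hp hπ) ≫ x₀u (A := A) (C := C) eX := by
    rw [x₀u, ← Category.assoc, ← Spec.map_comp, inl_nn]
  have by' : y₁.1 = Spec.map (nn p D eS eX eV hp hπ) ≫ v'u (A := A) (B := B) p D eV := by
    rw [ka, vu_eq, v'u, ← Category.assoc, ← Spec.map_comp, ← Category.assoc, ← Spec.map_comp,
      inr_nn]
  have hb := univ_h p D eS eX eV hp hπ _ _ _ y₁ b₀ by'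
  have kb := univ p D eS eX eV hp hπ _ _ _ hb y₁ b₀ by'
  -- (c)
  have c₀ : x₀ = Spec.map (mm A B C) ≫ x₀u (A := A) (C := C) eX := by
    rw [x₀u, ← Category.assoc, ← Spec.map_comp, inl_mm]
  have cy : y₂.1 = Spec.map (mm A B C) ≫ v'u (A := A) (B := B) p D eV := by
    rw [v'u, ← Category.assoc, ← Spec.map_comp, inr_mm]
  have kc := univ p D eS eX eV hp hπ _ _ _ (ha.trans hb) y₂ c₀ cy
  have hcomp := congrArg Subtype.val (D.φ_comp _ _ _ ha hb y₂)
  rw [kc] at hcomp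
  have := kb.symm.trans hcomp
  rw [vu_eq, ← Category.assoc, ← Spec.map_comp, ← Category.assoc, ← Spec.map_comp] at this
  exact ptV_inj p D eV this

lemma γa_h2 (c : C) : Algebra.TensorProduct.map (AlgHom.id A B) (γa p D eS eX eV hp hπ)
      (γa p D eS eX eV hp hπ c) =
    Algebra.TensorProduct.map (AlgHom.id A B) Algebra.TensorProduct.includeRight
      (γa p D eS eX eV hp hπ c) := by
  have h := congrArg (fun f => f.hom c) (γc_cocycle p D eS eX eV hp hπ)
  exact h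

include eS hp hπ in
/-- `Spec (B ⊗[A] C)` is the fibre product `X ×_S V`. -/
lemma isPullback_T₂ : IsPullback (x₀u (A := A) (C := C) eX) (v'u (A := A) (B := B) p D eV) p
    (D.obj.hom ≫ p) := by
  refine IsPullback.of_iso (isPullback_SpecMap_of_isPushout _ _ _ _
    (CommRingCat.isPushout_tensorProduct A B C)) (Iso.refl _) eX.symm eV.symm eS.symm ?_ ?_ ?_ ?_
  · exact (Category.id_comp _).symm
  · exact (Category.id_comp _).symm
  · exact (eX_inv_p p eS eX hp).symm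
  · show _ = eV.inv ≫ D.obj.hom ≫ p
    rw [← Category.assoc, eV_inv_π p D eX eV hπ, Category.assoc, eX_inv_p p eS eX hp,
      ← Category.assoc, ← Spec.map_comp]
    congr 2
    ext a
    exact IsScalarTower.algebraMap_apply A B C a

section final

variable [Module.FaithfullyFlat A B]

/-- The descended algebra. -/
noncomputable abbrev Nd : Subalgebra A C := NN (γa p D eS eX eV hp hπ)

lemma isPushout_Nd : IsPushout (fAB A B)
    (CommRingCat.ofHom (algebraMap A (Nd p D eS eX eV hp hπ))) (fBC B C)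
    (CommRingCat.ofHom (Nd p D eS eX eV hp hπ).val.toRingHom) := by
  have hbij := lam_bijective (γa p D eS eX eV hp hπ) (γa_h1 p D eS eX eV hp hπ)
    (γa_h2 p D eS eX eV hp hπ) (γa_h3 p D eS eX eV hp hπ)
  let e : B ⊗[A] (Nd p D eS eX eV hp hπ) ≃+* C := RingEquiv.ofBijective _ hbij
  refine (CommRingCat.isPushout_tensorProduct A B (Nd p D eS eX eV hp hπ)).of_iso (Iso.refl _)
    (Iso.refl _) (Iso.refl _) e.toCommRingCatIso (by simp) (by simp) ?_ ?_
  · ext b
    show Algebra.TensorProduct.productMap (IsScalarTower.toAlgHom A B C)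
      (Nd p D eS eX eV hp hπ).val (b ⊗ₜ 1) = algebraMap B C b
    simp
  · ext n
    show Algebra.TensorProduct.productMap (IsScalarTower.toAlgHom A B C)
      (Nd p D eS eX eV hp hπ).val (1 ⊗ₜ n) = n.1
    simp

include eS eX eV hp hπ in
/-- Effectivity of descent data for affine schemes along a faithfully flat map of affine
schemes. -/
theorem exists_descent : ∃ U : Over S, Nonempty ((Desc.toDD p).obj U ≅ D) := by
  let N := Nd p D eS eX eV hp hπ
  let uS : Spec (.of N) ⟶ S := Spec.map (CommRingCat.ofHom (algebraMap A N)) ≫ eS.inv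
  let r : D.obj.left ⟶ Spec (.of N) := eV.hom ≫ Spec.map (CommRingCat.ofHom N.val.toRingHom)
  refine ⟨Over.mk uS, iso_of_glue p D (Over.mk uS) r ?_ ?_⟩
  · refine IsPullback.of_iso (isPullback_SpecMap_of_isPushout _ _ _ _
      (isPushout_Nd p D eS eX eV hp hπ)) eV.symm eX.symm (Iso.refl _) eS.symm ?_ ?_ ?_ ?_
    · exact (eV_inv_π p D eX eV hπ).symm
    · simp [r, N]
    · exact (eX_inv_p p eS eX hp).symm
    · simp [uS, N]
  · intro T x₀ x₁ h y
    obtain ⟨t, ht₀, hty⟩ := (isPullback_T₂ p D eS eX eV hp hπ).exists_lift x₁ y.1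
      (by rw [← Category.assoc, y.2, h])
    have key := univ p D eS eX eV hp hπ t x₁ x₀ h y ht₀.symm hty.symm
    have hr : vu p D eS eX eV hp hπ ≫ r = v'u (A := A) (B := B) p D eV ≫ r := by
      rw [vu_eq, v'u]
      simp only [r, Category.assoc, Iso.inv_hom_id_assoc]
      rw [← Spec.map_comp, ← Spec.map_comp]
      congr 1
      ext n
      exact n.2
    rw [key, Category.assoc, hr, ← Category.assoc, hty]

end final

end affine

section wrap

/-- Effectivity of descent data with affine structure morphism along a flat surjective morphism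
of affine schemes. -/
theorem exists_descent_of_isAffine {X S : Scheme.{u}} (p : X ⟶ S) [IsAffine X] [IsAffine S]
    [Flat p] [Surjective p] (D : Desc.SchDD p) [IsAffineHom D.obj.hom] :
    ∃ U : Over S, Nonempty ((Desc.toDD p).obj U ≅ D) := by
  haveI : IsAffine D.obj.left := isAffine_of_isAffineHom D.obj.hom
  letI : Algebra Γ(S, ⊤) Γ(X, ⊤) := p.appTop.hom.toAlgebra
  letI : Algebra Γ(X, ⊤) Γ(D.obj.left, ⊤) := D.obj.hom.appTop.hom.toAlgebra
  letI : Algebra Γ(S, ⊤) Γ(D.obj.left, ⊤) := (p.appTop ≫ D.obj.hom.appTop).hom.toAlgebra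
  haveI : IsScalarTower Γ(S, ⊤) Γ(X, ⊤) Γ(D.obj.left, ⊤) := IsScalarTower.of_algebraMap_eq' rfl
  haveI : Module.FaithfullyFlat Γ(S, ⊤) Γ(X, ⊤) :=
    (Flat.flat_and_surjective_iff_faithfullyFlat_of_isAffine p).mp ⟨inferInstance, inferInstance⟩
  exact exists_descent (A := Γ(S, ⊤)) (B := Γ(X, ⊤)) (C := Γ(D.obj.left, ⊤)) p D S.isoSpec
    X.isoSpec D.obj.left.isoSpec (Scheme.isoSpec_hom_naturality p)
    (Scheme.isoSpec_hom_naturality D.obj.hom)

/-- Affine morphisms are stable under finite disjoint unions. -/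
theorem isAffineHom_sigmaMap (m : ℕ) (Y V : Fin m → Scheme.{u}) (q : ∀ j, Y j ⟶ V j)
    (hq : ∀ j, IsAffineHom (q j)) : IsAffineHom (Limits.Sigma.map q) := by
  have hvk := FinitaryExtensive.isVanKampen_finiteCoproducts (coproductIsCoproduct V)
  have hpb : ∀ j, IsPullback (Sigma.ι Y j) (q j) (Limits.Sigma.map q) (Sigma.ι V j) := by
    have := (hvk (Cofan.mk (∐ Y) (Sigma.ι Y)) (Discrete.natTrans fun j => q j.as)
      (Limits.Sigma.map q) (by ext ⟨j⟩; simp) (NatTrans.Equifibered.of_discrete _)).mp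
      ⟨coproductIsCoproduct Y⟩
    intro j
    exact this ⟨j⟩
  apply IsZariskiLocalAtTarget.of_openCover (P := @IsAffineHom) (sigmaOpenCover V)
  intro j
  have e : (hpb j).isoPullback.hom ≫ (sigmaOpenCover V).pullbackHom (Limits.Sigma.map q) j =
      q j := (hpb j).isoPullback_hom_snd
  rw [← MorphismProperty.cancel_left_of_respectsIso @IsAffineHom (hpb j).isoPullback.hom, e]
  exact hq j

end wrap

end Groth.Agent.Lib.AffDescH6
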