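import Mathlib

/-!
# Local rings of an integral scheme as subrings of the function field (helper7)

* `stalkSub X x`: the image of `𝒪_{X,x}` in the function field of an integral scheme `X`;
* `stalkSub_sup_eq_top`: on a separated integral scheme, the local rings at two distinct points
  of dimension `≤ 1` generate the function field.
-/

set_option backward.isDefEq.respectTransparency false
set_option backward.isDefEq.respectTransparency.types false
set_option linter.style.haveILetI false
set_option linter.unusedSectionVars false
set_option linter.unusedVariables false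
set_option autoImplicit false
set_option maxHeartbeats 1600000

universe u

open CategoryTheory CategoryTheory.Limits AlgebraicGeometry TopologicalSpace

namespace Groth.Agent.Lib.AffDim1H7

variable (X : Scheme.{u}) [IsIntegral X]

/-- The local ring at `x` as a subring of the function field. -/
noncomputable def stalkSub (x : X) : Subring X.functionField :=
  (algebraMap (X.presheaf.stalk x) X.functionField).range

theorem algebraMap_stalk_injective (x : X) :
    Function.Injective (algebraMap (X.presheaf.stalk x) X.functionField) :=
  IsFractionRing.injective (X.presheaf.stalk x) X.functionField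

/-- The local ring at `x` is isomorphic to its image in the function field. -/
noncomputable def stalkEquiv (x : X) : X.presheaf.stalk x ≃+* stalkSub X x :=
  RingEquiv.ofBijective (algebraMap (X.presheaf.stalk x) X.functionField).rangeRestrict
    ⟨by
      intro a b hab
      apply algebraMap_stalk_injective X x
      exact congrArg Subtype.val hab,
     (algebraMap (X.presheaf.stalk x) X.functionField).rangeRestrict_surjective⟩

theorem coe_stalkEquiv (x : X) (a : X.presheaf.stalk x) :
    ((stalkEquiv X x a : stalkSub X x) : X.functionField) =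
      algebraMap (X.presheaf.stalk x) X.functionField a := rfl

instance isFractionRing_stalkSub (x : X) : IsFractionRing (stalkSub X x) X.functionField := by
  apply IsFractionRing.of_field
  intro z
  obtain ⟨a, b, hb, hab⟩ := IsFractionRing.div_surjective (A := X.presheaf.stalk x) z
  refine ⟨stalkEquiv X x a, stalkEquiv X x b, ?_⟩
  rw [← hab]
  rfl

theorem isNoetherianRing_stalkSub (x : X) [IsNoetherianRing (X.presheaf.stalk x)] :
    IsNoetherianRing (stalkSub X x) :=
  isNoetherianRing_of_ringEquiv _ (stalkEquiv X x)

theorem ringKrullDim_stalkSub (x : X) :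
    ringKrullDim (stalkSub X x) = ringKrullDim (X.presheaf.stalk x) :=
  (ringKrullDim_eq_of_ringEquiv (stalkEquiv X x)).symm

instance isLocalRing_stalkSub (x : X) : IsLocalRing (stalkSub X x) :=
  (stalkEquiv X x).isLocalRing

theorem finite_maximalSpectrum_of_isLocalRing (R : Type*) [CommRing R] [IsLocalRing R] :
    Finite (MaximalSpectrum R) := by
  haveI : Subsingleton (MaximalSpectrum R) := by
    constructor
    intro a b
    apply MaximalSpectrum.ext
    rw [IsLocalRing.eq_maximalIdeal a.2, IsLocalRing.eq_maximalIdeal b.2]
  infer_instance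

/-- In a local domain of dimension `≤ 1`, a nonzero prime is the maximal ideal. -/
theorem eq_maximalIdeal_of_ne_bot {R : Type*} [CommRing R] [IsDomain R] [IsLocalRing R]
    (hdim : ringKrullDim R ≤ 1) (p : Ideal R) [hp : p.IsPrime] (hne : p ≠ ⊥) :
    p = IsLocalRing.maximalIdeal R := by
  have h1 : Ring.KrullDimLE 1 R := by
    rw [Ring.krullDimLE_iff]
    exact hdim
  have h2 := (Ring.krullDimLE_one_iff_of_noZeroDivisors (R := R)).mp h1 p hne hp
  exact IsLocalRing.eq_maximalIdeal h2

theorem isDominant_SpecMap_of_injective {R S : CommRingCat.{u}} (φ : R ⟶ S)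
    (hφ : Function.Injective φ.hom) : IsDominant (Spec.map φ) := by
  constructor
  have h1 : DenseRange (PrimeSpectrum.comap φ.hom) := by
    rw [PrimeSpectrum.denseRange_comap_iff_ker_le_nilRadical]
    rw [(RingHom.injective_iff_ker_eq_bot _).mp hφ]
    exact bot_le
  exact h1

variable [X.IsSeparated]

/-- The local rings at two distinct points of dimension `≤ 1` on a separated integral scheme
generate the function field. -/
theorem stalkSub_sup_eq_top (x y : X) (hxy : x ≠ y)
    (hx : ringKrullDim (X.presheaf.stalk x) ≤ 1) (hy : ringKrullDim (X.presheaf.stalk y) ≤ 1) :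
    stalkSub X x ⊔ stalkSub X y = ⊤ := by
  classical
  by_contra hne
  obtain ⟨C, hC⟩ : ∃ C : Subring X.functionField, C = stalkSub X x ⊔ stalkSub X y := ⟨_, rfl⟩
  rw [← hC] at hne
  have hxC : stalkSub X x ≤ C := by rw [hC]; exact le_sup_left
  have hyC : stalkSub X y ≤ C := by rw [hC]; exact le_sup_right
  -- `C` is not a field
  have hnf : ¬ IsField C := by
    intro hf
    apply hne
    rw [eq_top_iff]
    intro z _
    obtain ⟨a, b, hb, hab⟩ := IsFractionRing.div_surjective (A := stalkSub X x) z
    have hb0 : (b : X.functionField) ≠ 0 := by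
      intro h0
      have : b = 0 := Subtype.ext h0
      rw [this] at hb
      exact (nonZeroDivisors.ne_zero hb) rfl
    obtain ⟨c, hc⟩ := hf.mul_inv_cancel (a := (⟨b, hxC b.2⟩ : C)) (by
      intro h0
      exact hb0 (congrArg Subtype.val h0))
    have hc' : (b : X.functionField) * (c : X.functionField) = 1 := congrArg Subtype.val hc
    have hz : z = (a : X.functionField) * (c : X.functionField) := by
      rw [← hab]
      show (a : X.functionField) / (b : X.functionField) = _
      rw [div_eq_iff hb0, mul_assoc, mul_comm (c : X.functionField) (b : X.functionField), hc',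
        mul_one]
    rw [hz]
    exact C.mul_mem (hxC a.2) c.2
  obtain ⟨p, hpne, hp⟩ := Ring.not_isField_iff_exists_prime.mp hnf
  -- the ring maps
  obtain ⟨φx, hφx⟩ : ∃ φx : X.presheaf.stalk x →+* C,
      ∀ a, ((φx a : C) : X.functionField) = algebraMap (X.presheaf.stalk x) X.functionField a :=
    ⟨(Subring.inclusion hxC).comp (stalkEquiv X x).toRingHom, fun a => rfl⟩
  obtain ⟨φy, hφy⟩ : ∃ φy : X.presheaf.stalk y →+* C,
      ∀ a, ((φy a : C) : X.functionField) = algebraMap (X.presheaf.stalk y) X.functionField a :=
    ⟨(Subring.inclusion hyC).comp (stalkEquiv X y).toRingHom, fun a => rfl⟩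
  have hcompx : C.subtype.comp φx = algebraMap (X.presheaf.stalk x) X.functionField :=
    RingHom.ext fun a => hφx a
  have hcompy : C.subtype.comp φy = algebraMap (X.presheaf.stalk y) X.functionField :=
    RingHom.ext fun a => hφy a
  obtain ⟨fx, hfx⟩ : ∃ fx : Spec (CommRingCat.of C) ⟶ X,
      fx = Spec.map (CommRingCat.ofHom φx) ≫ X.fromSpecStalk x := ⟨_, rfl⟩
  obtain ⟨fy, hfy⟩ : ∃ fy : Spec (CommRingCat.of C) ⟶ X,
      fy = Spec.map (CommRingCat.ofHom φy) ≫ X.fromSpecStalk y := ⟨_, rfl⟩
  obtain ⟨ι, hι⟩ : ∃ ι : Spec X.functionField ⟶ Spec (CommRingCat.of C),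
      ι = Spec.map (CommRingCat.ofHom C.subtype) := ⟨_, rfl⟩
  haveI : IsDominant ι := by
    rw [hι]
    exact isDominant_SpecMap_of_injective _ Subtype.val_injective
  have hgx : genericPoint X ⤳ x := (genericPoint_spec X).specializes trivial
  have hgy : genericPoint X ⤳ y := (genericPoint_spec X).specializes trivial
  have hιx : ι ≫ fx = X.fromSpecStalk (genericPoint X) := by
    rw [hι, hfx, ← Category.assoc, ← Spec.map_comp, ← CommRingCat.ofHom_comp, hcompx]
    exact Scheme.SpecMap_stalkSpecializes_fromSpecStalk hgx
  have hιy : ι ≫ fy = X.fromSpecStalk (genericPoint X) := by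
    rw [hι, hfy, ← Category.assoc, ← Spec.map_comp, ← CommRingCat.ofHom_comp, hcompy]
    exact Scheme.SpecMap_stalkSpecializes_fromSpecStalk hgy
  haveI : IsDomain (CommRingCat.of C : Type u) := inferInstanceAs (IsDomain C)
  have hfxy : fx = fy := ext_of_isDominant ι (hιx.trans hιy.symm)
  -- evaluate at the point `p`
  obtain ⟨P, hP⟩ : ∃ P : Spec (CommRingCat.of C), P = (⟨p, hp⟩ : PrimeSpectrum C) := ⟨_, rfl⟩
  have hpx : Spec.map (CommRingCat.ofHom φx) P = IsLocalRing.closedPoint (X.presheaf.stalk x) := by
    apply PrimeSpectrum.ext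
    show Ideal.comap φx P.asIdeal = IsLocalRing.maximalIdeal (X.presheaf.stalk x)
    rw [hP]
    haveI : (Ideal.comap φx p).IsPrime := Ideal.comap_isPrime φx p
    apply eq_maximalIdeal_of_ne_bot hx
    intro hbot
    apply hpne
    rw [eq_bot_iff]
    intro c hc
    rw [Ideal.mem_bot]
    by_contra hc0
    obtain ⟨a, b, hb, hab⟩ := IsFractionRing.div_surjective (A := X.presheaf.stalk x)
      (c : X.functionField)
    have hb0 : algebraMap (X.presheaf.stalk x) X.functionField b ≠ 0 := by
      intro h0
      have : b = 0 := algebraMap_stalk_injective X x (by rw [h0, map_zero])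
      rw [this] at hb
      exact (nonZeroDivisors.ne_zero hb) rfl
    have hmul : φx a = c * φx b := by
      apply Subtype.ext
      show ((φx a : C) : X.functionField) = (c : X.functionField) * ((φx b : C) : X.functionField)
      rw [hφx, hφx, ← hab, div_mul_cancel₀ _ hb0]
    have hmem : a ∈ Ideal.comap φx p := by
      rw [Ideal.mem_comap, hmul]
      exact Ideal.mul_mem_right _ _ hc
    rw [hbot, Ideal.mem_bot] at hmem
    apply hc0
    apply Subtype.ext
    show (c : X.functionField) = 0
    rw [← hab, hmem, map_zero, zero_div]
  have hpy : Spec.map (CommRingCat.ofHom φy) P = IsLocalRing.closedPoint (X.presheaf.stalk y) := by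
    apply PrimeSpectrum.ext
    show Ideal.comap φy P.asIdeal = IsLocalRing.maximalIdeal (X.presheaf.stalk y)
    rw [hP]
    haveI : (Ideal.comap φy p).IsPrime := Ideal.comap_isPrime φy p
    apply eq_maximalIdeal_of_ne_bot hy
    intro hbot
    apply hpne
    rw [eq_bot_iff]
    intro c hc
    rw [Ideal.mem_bot]
    by_contra hc0
    obtain ⟨a, b, hb, hab⟩ := IsFractionRing.div_surjective (A := X.presheaf.stalk y)
      (c : X.functionField)
    have hb0 : algebraMap (X.presheaf.stalk y) X.functionField b ≠ 0 := by
      intro h0
      have : b = 0 := algebraMap_stalk_injective X y (by rw [h0, map_zero])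
      rw [this] at hb
      exact (nonZeroDivisors.ne_zero hb) rfl
    have hmul : φy a = c * φy b := by
      apply Subtype.ext
      show ((φy a : C) : X.functionField) = (c : X.functionField) * ((φy b : C) : X.functionField)
      rw [hφy, hφy, ← hab, div_mul_cancel₀ _ hb0]
    have hmem : a ∈ Ideal.comap φy p := by
      rw [Ideal.mem_comap, hmul]
      exact Ideal.mul_mem_right _ _ hc
    rw [hbot, Ideal.mem_bot] at hmem
    apply hc0
    apply Subtype.ext
    show (c : X.functionField) = 0
    rw [← hab, hmem, map_zero, zero_div]
  have h1 : fx P = x := by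
    rw [hfx, Scheme.Hom.comp_apply, hpx]
    exact Scheme.fromSpecStalk_closedPoint
  have h2 : fy P = y := by
    rw [hfy, Scheme.Hom.comp_apply, hpy]
    exact Scheme.fromSpecStalk_closedPoint
  apply hxy
  rw [← h1, ← h2, hfxy]

end Groth.Agent.Lib.AffDim1H7
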