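import Mathlib
import Groth.Prelude.Def_Flat
import Groth.Agent.Lib.Chev4_helper8
import Groth.Agent.Lib.FieldExt3_helper8

/-! Retrocompactness of the locus where the relative dimension is at most `n`: affine core. -/

universe u
open AlgebraicGeometry CategoryTheory CategoryTheory.Limits TensorProduct

namespace RetroH8

theorem isCompact_of_model (R₀ R B₀ B : Type u) [CommRing R₀] [CommRing R] [CommRing B₀]
    [CommRing B] [Algebra R₀ R] [Algebra R₀ B₀] [Algebra R B] [IsNoetherianRing B₀]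
    [Algebra.FiniteType R₀ B₀] (e : R ⊗[R₀] B₀ ≃ₐ[R] B) (n : ℕ) :
    IsCompact {q : ↥(Spec (CommRingCat.of B)) |
      FlatMor.fibreDimAt (Spec.map (CommRingCat.ofHom (algebraMap R B))) q ≤ (n : WithBot ℕ∞)} := by
  set f₀ := Spec.map (CommRingCat.ofHom (algebraMap R₀ B₀)) with hf₀
  haveI : LocallyOfFiniteType f₀ := by
    rw [hf₀, HasRingHomProperty.Spec_iff (P := @LocallyOfFiniteType)]
    exact RingHom.finiteType_algebraMap.mpr inferInstance
  have sq := ChevH8.isPullback_spec_tensor R₀ R B₀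
  set gR := Spec.map (CommRingCat.ofHom (algebraMap R₀ R)) with hgR
  set iR := Spec.map (CommRingCat.ofHom
    (Algebra.TensorProduct.includeRight (R := R₀) (A := R) (B := B₀)).toRingHom) with hiR
  set iL := Spec.map (CommRingCat.ofHom
    (Algebra.TensorProduct.includeLeftRingHom (R := R₀) (A := R) (B := B₀))) with hiL
  set ε : Spec (CommRingCat.of B) ⟶ Spec (CommRingCat.of (R ⊗[R₀] B₀)) :=
    Spec.map (e.toRingEquiv.toCommRingCatIso).hom with hε
  haveI : IsIso ε := by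
    rw [hε]; infer_instance
  have hcomm : Spec.map (CommRingCat.ofHom (algebraMap R B)) ≫ 𝟙 _ = ε ≫ iL := by
    rw [Category.comp_id, hε, hiL, ← Spec.map_comp]
    congr 1
    ext r
    simp only [CommRingCat.hom_comp, CommRingCat.hom_ofHom, RingHom.coe_comp, Function.comp_apply,
      Algebra.TensorProduct.includeLeftRingHom_apply]
    have : (e.toRingEquiv.toCommRingCatIso).hom.hom (r ⊗ₜ[R₀] (1 : B₀)) = e (r ⊗ₜ[R₀] (1 : B₀)) := rfl
    rw [this]
    have h2 : r ⊗ₜ[R₀] (1 : B₀) = algebraMap R (R ⊗[R₀] B₀) r := by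
      rw [Algebra.TensorProduct.algebraMap_apply]; rfl
    rw [h2, e.commutes]
  have key : ∀ q : ↥(Spec (CommRingCat.of B)),
      FlatMor.fibreDimAt (Spec.map (CommRingCat.ofHom (algebraMap R B))) q =
        FlatMor.fibreDimAt f₀ ((ε ≫ iR) q) := by
    intro q
    have h1 := FibCohH8.fibreDimAt_etale_local iL
      (Spec.map (CommRingCat.ofHom (algebraMap R B))) ε (𝟙 _) hcomm q
    rw [← h1]
    exact FieldExtH8.fibreDimAt_baseChange f₀ gR iR iL sq (ε q)
  have hset : {q : ↥(Spec (CommRingCat.of B)) |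
      FlatMor.fibreDimAt (Spec.map (CommRingCat.ofHom (algebraMap R B))) q ≤ (n : WithBot ℕ∞)} =
      (ε ≫ iR) ⁻¹' {q₀ | FlatMor.fibreDimAt f₀ q₀ ≤ (n : WithBot ℕ∞)} := by
    ext q
    simp only [Set.mem_ofPred_eq, Set.mem_preimage]
    rw [key q]
  rw [hset]
  haveI : TopologicalSpace.NoetherianSpace ↥(Spec (CommRingCat.of B₀)) :=
    inferInstanceAs (TopologicalSpace.NoetherianSpace (PrimeSpectrum B₀))
  exact QuasiCompact.isCompact_preimage _ (ChevH8.isOpen_fibreDimAt_le f₀ n)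
    (TopologicalSpace.NoetherianSpace.isCompact _)

theorem isCompact_fibreDimAt_le_spec (R B : Type u) [CommRing R] [CommRing B] [Algebra R B]
    [Algebra.FinitePresentation R B] (n : ℕ) :
    IsCompact {q : ↥(Spec (CommRingCat.of B)) |
      FlatMor.fibreDimAt (Spec.map (CommRingCat.ofHom (algebraMap R B))) q ≤ (n : WithBot ℕ∞)} := by
  classical
  let P := Algebra.Presentation.ofFinitePresentation R B
  let R₀ := P.Core
  let B₀ := P.ModelOfHasCoeffs R₀
  let e : R ⊗[R₀] B₀ ≃ₐ[R] B := P.tensorModelOfHasCoeffsEquiv R₀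
  haveI : IsNoetherianRing R₀ := Algebra.FiniteType.isNoetherianRing ℤ R₀
  haveI : Algebra.FiniteType R₀ B₀ := inferInstance
  haveI : IsNoetherianRing B₀ := Algebra.FiniteType.isNoetherianRing R₀ B₀
  exact isCompact_of_model R₀ R B₀ B e n

end RetroH8

namespace RetroH8

theorem isCompact_inter_affine {X S : Scheme.{u}} (f : X ⟶ S) [LocallyOfFinitePresentation f]
    (n : ℕ) (V : S.Opens) (hV : IsAffineOpen V) (X1 : X.Opens) (hX1 : IsAffineOpen X1)
    (e : X1 ≤ f ⁻¹ᵁ V) :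
    IsCompact ({x : X | FlatMor.fibreDimAt f x ≤ (n : WithBot ℕ∞)} ∩ (X1 : Set X)) := by
  set φ := f.appLE V X1 e with hφ
  have comm : Spec.map φ ≫ hV.fromSpec = hX1.fromSpec ≫ f := hV.SpecMap_appLE_fromSpec f hX1 e
  letI : Algebra Γ(S, V) Γ(X, X1) := φ.hom.toAlgebra
  haveI : Algebra.FinitePresentation Γ(S, V) Γ(X, X1) :=
    HasRingHomProperty.appLE (P := @LocallyOfFinitePresentation) _ inferInstance ⟨V, hV⟩ ⟨X1, hX1⟩ e
  have hc : IsCompact {q : ↥(Spec Γ(X, X1)) |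
      FlatMor.fibreDimAt (Spec.map φ) q ≤ (n : WithBot ℕ∞)} :=
    isCompact_fibreDimAt_le_spec Γ(S, V) Γ(X, X1) n
  haveI : LocallyOfFiniteType f := inferInstance
  have hEq : {x : X | FlatMor.fibreDimAt f x ≤ (n : WithBot ℕ∞)} ∩ (X1 : Set X) =
      hX1.fromSpec '' {q : ↥(Spec Γ(X, X1)) |
        FlatMor.fibreDimAt (Spec.map φ) q ≤ (n : WithBot ℕ∞)} := by
    ext x
    constructor
    · rintro ⟨hx, hxX1⟩
      refine ⟨hX1.primeIdealOf ⟨x, hxX1⟩, ?_, hX1.fromSpec_primeIdealOf ⟨x, hxX1⟩⟩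
      show FlatMor.fibreDimAt (Spec.map φ) _ ≤ _
      rw [← FibCohH8.fibreDimAt_etale_local f (Spec.map φ) hX1.fromSpec hV.fromSpec comm,
        hX1.fromSpec_primeIdealOf]
      exact hx
    · rintro ⟨q, hq, rfl⟩
      refine ⟨?_, ?_⟩
      · show FlatMor.fibreDimAt f (hX1.fromSpec q) ≤ _
        rw [FibCohH8.fibreDimAt_etale_local f (Spec.map φ) hX1.fromSpec hV.fromSpec comm q]
        exact hq
      · have : hX1.fromSpec q ∈ Set.range hX1.fromSpec := ⟨_, rfl⟩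
        rw [hX1.range_fromSpec] at this
        exact this
  rw [hEq]
  exact hc.image hX1.fromSpec.continuous

theorem isRetrocompact_fibreDimAt_le {X S : Scheme.{u}} (f : X ⟶ S)
    [LocallyOfFinitePresentation f] (n : ℕ) :
    IsRetrocompact {x : X | FlatMor.fibreDimAt f x ≤ (n : WithBot ℕ∞)} := by
  intro U hUc hUo
  have H : ∀ x : U, ∃ W : X.Opens, (x : X) ∈ W ∧ (W : Set X) ⊆ U ∧
      IsCompact ({x : X | FlatMor.fibreDimAt f x ≤ (n : WithBot ℕ∞)} ∩ (W : Set X)) := by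
    rintro ⟨x, hxU⟩
    obtain ⟨_, ⟨V, hV0, rfl⟩, hsV, -⟩ :=
      S.isBasis_affineOpens.exists_subset_of_mem_open (Set.mem_univ (f x)) isOpen_univ
    obtain ⟨_, ⟨X1, hX10, rfl⟩, hxX1, hX1sub⟩ :=
      X.isBasis_affineOpens.exists_subset_of_mem_open (a := x)
        (show x ∈ U ∩ (f ⁻¹ᵁ V : Set X) from ⟨hxU, hsV⟩) (hUo.inter (f ⁻¹ᵁ V).2)
    exact ⟨X1, hxX1, fun y hy => (hX1sub hy).1,
      isCompact_inter_affine f n V hV0 X1 hX10 (fun y hy => (hX1sub hy).2)⟩
  choose W hW1 hW2 hW3 using H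
  obtain ⟨t, ht⟩ := hUc.elim_finite_subcover (fun x : U => (W x : Set X)) (fun x => (W x).2)
    (fun x hx => Set.mem_iUnion.mpr ⟨⟨x, hx⟩, hW1 ⟨x, hx⟩⟩)
  have hEq : {x : X | FlatMor.fibreDimAt f x ≤ (n : WithBot ℕ∞)} ∩ U =
      ⋃ i ∈ t, ({x : X | FlatMor.fibreDimAt f x ≤ (n : WithBot ℕ∞)} ∩ (W i : Set X)) := by
    ext x
    simp only [Set.mem_inter_iff, Set.mem_iUnion, exists_prop]
    constructor
    · rintro ⟨hx, hxU⟩
      obtain ⟨i, hi, hxi⟩ : ∃ i ∈ t, x ∈ (W i : Set X) := by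
        simpa using ht hxU
      exact ⟨i, hi, hx, hxi⟩
    · rintro ⟨i, hi, hx, hxi⟩
      exact ⟨hx, hW2 i hxi⟩
  rw [hEq]
  exact t.finite_toSet.isCompact_biUnion (fun i _ => hW3 i)

end RetroH8
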