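import Mathlib
import Groth.Prelude.Def_Flat
import Groth.Agent.Lib.IdealFT2_helper7
import Groth.Agent.Lib.EquidimSub_helper8
import Groth.Agent.Lib.Retro1_helper8
import Groth.Agent.Lib.SubLocDim_helper8
import Groth.Agent.Lib.TopDimLoc_helper8
import Groth.Agent.Lib.FieldExt3_helper8
import Groth.Agent.Lib.FibRes2_helper8
import Groth.Agent.Lib.Chev4_helper8

/-!
# Closed subschemes with bounded fibre dimension are contained in finitely presented ones (helper7)

* `isClopen_preimage_of_isConstructible`, `exists_eq_empty_of_directed_constructible`: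
  compactness of the constructible topology applied to directed families of constructible sets.
* `localDim_le_of_subset`, `fibreDimAt_comp_le`: monotonicity of local (fibre) dimensions.
* `noetherianSpace_preimage`, `isCompact_of_subset_fibre`: fibres of finite type morphisms are
  Noetherian.
* `badSet`, `isConstructible_badSet`, `badSet_mono`, `notMem_badSet`,
  `topDim_fiber_le_of_badSet_eq_empty`.
* `main9216`.
-/

set_option autoImplicit false
set_option linter.style.haveILetI false
set_option linter.unusedVariables false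
universe u
open CategoryTheory CategoryTheory.Limits AlgebraicGeometry TopologicalSpace Topology

namespace Groth.Agent.Lib.ClosedFibDimH7

open Groth.Agent.Lib.IdealFTH7

section Top

variable {X : Type*} [TopologicalSpace X]

/-- Constructible sets are clopen in the constructible topology. -/
theorem isClopen_preimage_of_isConstructible [CompactSpace X] {s : Set X}
    (hs : IsConstructible s) :
    IsClopen ((WithTopology.ofTopology : WithConstructibleTopology X → X) ⁻¹' s) := by
  induction hs using IsConstructible.empty_union_induction with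
  | open_retrocompact U hUo hUc =>
    have hc : IsCompact U := hUc.isCompact
    constructor
    · rw [← isOpen_compl_iff]
      exact WithConstructibleTopology.isOpen_iff.mpr
        (IsCompact.isOpen_constructibleTopology_of_isClosed (s := Uᶜ)
          (by rwa [compl_compl]) hUo.isClosed_compl)
    · exact WithConstructibleTopology.isOpen_iff.mpr
        (hc.isOpen_constructibleTopology_of_isOpen hUo)
  | union s hs t ht ihs iht => exact ihs.union iht
  | compl s hs ih => exact ih.compl

/-- A directed (decreasing) family of constructible subsets of a spectral space with empty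
intersection has an empty member. -/
theorem exists_eq_empty_of_directed_constructible [CompactSpace X] [QuasiSober X]
    [PrespectralSpace X] [QuasiSeparatedSpace X] {ι : Type*} [Nonempty ι] (B : ι → Set X)
    (hB : ∀ i, IsConstructible (B i)) (hdir : Directed (· ⊇ ·) B) (hint : ⋂ i, B i = ∅) :
    ∃ i, B i = ∅ := by
  let π : WithConstructibleTopology X → X := WithTopology.ofTopology
  have hπs : Function.Surjective π := WithTopology.ofTopology_surjective _
  by_contra hne
  push Not at hne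
  have htn : ∀ i, (π ⁻¹' B i).Nonempty := by
    intro i
    obtain ⟨x, hx⟩ := hne i
    obtain ⟨x', rfl⟩ := hπs x
    exact ⟨x', hx⟩
  have htd : Directed (· ⊇ ·) (fun i => π ⁻¹' B i) := by
    intro i j
    obtain ⟨k, hki, hkj⟩ := hdir i j
    exact ⟨k, Set.preimage_mono hki, Set.preimage_mono hkj⟩
  have htcl : ∀ i, IsClosed (π ⁻¹' B i) := fun i =>
    (isClopen_preimage_of_isConstructible (hB i)).1
  obtain ⟨e, he⟩ := IsCompact.nonempty_iInter_of_directed_nonempty_isCompact_isClosed
    (fun i => π ⁻¹' B i) htd htn (fun i => (htcl i).isCompact) htcl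
  rw [Set.mem_iInter] at he
  have h1 : π e ∈ ⋂ i, B i := Set.mem_iInter.mpr he
  rw [hint] at h1
  exact Set.notMem_empty _ h1

/-- Local dimension is monotone in the subspace. -/
theorem localDim_le_of_subset {A B : Set X} (h : A ⊆ B) (t : X) (ht : t ∈ A) :
    FlatMor.localDim ↥A ⟨t, ht⟩ ≤ FlatMor.localDim ↥B ⟨t, h ht⟩ := by
  rw [SubLocDimH8.localDim_subtype_eq, SubLocDimH8.localDim_subtype_eq]
  exact iInf_mono fun V => SubLocDimH8.topDim_mono (Set.inter_subset_inter_right _ h)

end Top

section Sch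

variable {X Y : Scheme.{u}} (f : X ⟶ Y)

/-- Comparison of fibre dimensions of two embedded subschemes, when the fibre of the first is
contained in the second. -/
theorem fibreDimAt_comp_le {X₁ X₂ : Scheme.{u}} (i₁ : X₁ ⟶ X) (i₂ : X₂ ⟶ X)
    (h₁ : IsEmbedding i₁.base) (h₂ : IsEmbedding i₂.base) (w₁ : X₁) (w₂ : X₂)
    (hw : i₁.base w₁ = i₂.base w₂)
    (hsub : ∀ a : X₁, f.base (i₁.base a) = f.base (i₁.base w₁) →
      ∃ b : X₂, i₂.base b = i₁.base a) :
    FlatMor.fibreDimAt (i₁ ≫ f) w₁ ≤ FlatMor.fibreDimAt (i₂ ≫ f) w₂ := by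
  rw [EquidimSubH8.fibreDimAt_comp_eq_localDim f i₁ h₁ w₁,
    EquidimSubH8.fibreDimAt_comp_eq_localDim f i₂ h₂ w₂]
  have hsub' : Set.range i₁.base ∩ f.base ⁻¹' {f.base (i₁.base w₁)} ⊆
      Set.range i₂.base ∩ f.base ⁻¹' {f.base (i₂.base w₂)} := by
    rintro _ ⟨⟨a, rfl⟩, ha⟩
    refine ⟨?_, ?_⟩
    · obtain ⟨b, hb⟩ := hsub a ha
      exact ⟨b, hb⟩
    · rw [← hw]
      exact ha
  have key := localDim_le_of_subset hsub' (i₁.base w₁) ⟨⟨w₁, rfl⟩, rfl⟩
  have e : (⟨i₁.base w₁, hsub' ⟨⟨w₁, rfl⟩, rfl⟩⟩ :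
      ↥(Set.range i₂.base ∩ f.base ⁻¹' {f.base (i₂.base w₂)})) =
      ⟨i₂.base w₂, ⟨⟨w₂, rfl⟩, rfl⟩⟩ := Subtype.ext hw
  exact key.trans (le_of_eq (congrArg (FlatMor.localDim _) e))

/-- Fibres of quasi-compact morphisms locally of finite type are Noetherian spaces. -/
theorem noetherianSpace_preimage [LocallyOfFiniteType f] [QuasiCompact f] (s : Y) :
    NoetherianSpace ↥(f ⁻¹' {s}) := by
  haveI : NoetherianSpace (f.fiber s) := by
    haveI : LocallyOfFiniteType (f.fiberToSpecResidueField s) :=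
      MorphismProperty.pullback_snd _ _ inferInstance
    haveI : IsLocallyNoetherian (f.fiber s) :=
      LocallyOfFiniteType.isLocallyNoetherian (f.fiberToSpecResidueField s)
    haveI : IsNoetherian (f.fiber s) := { }
    infer_instance
  exact (f.fiberHomeo s).symm.isInducing.noetherianSpace

/-- Any subset of a fibre of a quasi-compact morphism locally of finite type is quasi-compact. -/
theorem isCompact_of_subset_fibre [LocallyOfFiniteType f] [QuasiCompact f] (s : Y) (K : Set X)
    (hK : ∀ x ∈ K, f.base x = s) : IsCompact K := by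
  haveI := noetherianSpace_preimage f s
  have h1 : IsCompact ((Subtype.val : ↥(f ⁻¹' {s}) → X) ⁻¹' K) := NoetherianSpace.isCompact _
  have h2 := h1.image continuous_subtype_val
  have h3 : (Subtype.val : ↥(f ⁻¹' {s}) → X) '' ((Subtype.val : ↥(f ⁻¹' {s}) → X) ⁻¹' K) = K := by
    ext x
    constructor
    · rintro ⟨y, hy, rfl⟩
      exact hy
    · intro hx
      exact ⟨⟨x, hK x hx⟩, hx, rfl⟩
  rwa [h3] at h2

/-- The image in `X` of the locus of the closed subscheme `V(J)` where the fibre dimension of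
`V(J) → Y` exceeds `d`. -/
def badSet (d : ℕ) (J : X.IdealSheafData) : Set X :=
  J.subschemeι '' {x' | ¬ FlatMor.fibreDimAt (J.subschemeι ≫ f) x' ≤ (d : WithBot ℕ∞)}

theorem isConstructible_badSet [LocallyOfFinitePresentation f] [CompactSpace X]
    [QuasiSeparatedSpace X] (d : ℕ) (J : X.IdealSheafData)
    (hJ : ∀ W : X.affineOpens, (J.ideal W).FG) : IsConstructible (badSet f d J) := by
  haveI : LocallyOfFinitePresentation J.subschemeι := lfp_of_ft J hJ
  have h1 : IsConstructible {x' : J.subscheme |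
      FlatMor.fibreDimAt (J.subschemeι ≫ f) x' ≤ (d : WithBot ℕ∞)} :=
    (RetroH8.isRetrocompact_fibreDimAt_le (J.subschemeι ≫ f) d).isConstructible
      (ChevH8.isOpen_fibreDimAt_le (J.subschemeι ≫ f) d)
  exact J.subschemeι.isConstructible_image h1.compl

theorem badSet_mono (d : ℕ) {J J' : X.IdealSheafData} (h : J ≤ J') :
    badSet f d J' ⊆ badSet f d J := by
  rintro x ⟨w', hw', rfl⟩
  have hx : J'.subschemeι w' ∈ (J.support : Set X) := by
    have h1 : J'.subschemeι w' ∈ (J'.support : Set X) := by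
      rw [← Scheme.IdealSheafData.range_subschemeι]
      exact ⟨w', rfl⟩
    exact SetLike.coe_subset_coe.mpr (Scheme.IdealSheafData.support_antitone h) h1
  rw [← Scheme.IdealSheafData.range_subschemeι] at hx
  obtain ⟨w, hw⟩ := hx
  refine ⟨w, ?_, hw⟩
  intro hle
  apply hw'
  refine (fibreDimAt_comp_le f J'.subschemeι J.subschemeι
    J'.subschemeι.isClosedEmbedding.isEmbedding J.subschemeι.isClosedEmbedding.isEmbedding
    w' w hw.symm ?_).trans hle
  intro a _
  have h1 : J'.subschemeι a ∈ (J'.support : Set X) := by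
    rw [← Scheme.IdealSheafData.range_subschemeι]
    exact ⟨a, rfl⟩
  have h2 : J'.subschemeι a ∈ (J.support : Set X) :=
    SetLike.coe_subset_coe.mpr (Scheme.IdealSheafData.support_antitone h) h1
  rw [← Scheme.IdealSheafData.range_subschemeι] at h2
  exact h2

theorem notMem_badSet (d : ℕ) (J : X.IdealSheafData) {Z : Scheme.{u}} (ι : Z ⟶ X)
    [IsClosedImmersion ι] (z : Z)
    (hz : FlatMor.fibreDimAt (ι ≫ f) z ≤ (d : WithBot ℕ∞))
    (hsub : ∀ a : J.subscheme, f.base (J.subschemeι.base a) = f.base (ι.base z) →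
      ∃ b : Z, ι.base b = J.subschemeι.base a) :
    ι.base z ∉ badSet f d J := by
  rintro ⟨w, hw, hwz⟩
  apply hw
  refine (fibreDimAt_comp_le f J.subschemeι ι J.subschemeι.isClosedEmbedding.isEmbedding
    ι.isClosedEmbedding.isEmbedding w z hwz ?_).trans hz
  intro a ha
  exact hsub a (ha.trans (congrArg f.base hwz))

theorem topDim_fiber_le_of_badSet_eq_empty (d : ℕ) (J : X.IdealSheafData)
    (h : badSet f d J = ∅) (s : Y) :
    topologicalKrullDim ↥((J.subschemeι ≫ f).fiber s) ≤ d := by
  rw [TopDimLocH8.topDim_le_iff_forall_localDim]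
  intro z
  rw [FieldExtH8.localDim_fiber_eq_fibreDimAt (J.subschemeι ≫ f) s z _ rfl]
  by_contra hcon
  have h1 : J.subschemeι ((J.subschemeι ≫ f).fiberι s z) ∈ badSet f d J := ⟨_, hcon, rfl⟩
  rw [h] at h1
  exact Set.notMem_empty _ h1

theorem mem_support_sSup_iff (c : Set X.IdealSheafData) (x : X) :
    x ∈ ((sSup c).support : Set X) ↔ ∀ J ∈ c, x ∈ (J.support : Set X) := by
  rw [Scheme.IdealSheafData.support_sSup]
  simp

end Sch

/-- **S9216** -/
theorem main9216 {X S Z : Scheme.{u}} [CompactSpace S] [QuasiSeparatedSpace S] (f : X ⟶ S)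
    [LocallyOfFinitePresentation f] [QuasiCompact f] [QuasiSeparated f]
    (d : ℕ) (ι : Z ⟶ X) [IsClosedImmersion ι]
    (hZ : ∀ s : S, topologicalKrullDim ↥((ι ≫ f).fiber s) ≤ d) :
    ∃ (Z' : Scheme.{u}) (ι' : Z' ⟶ X) (k : Z ⟶ Z'), IsClosedImmersion ι' ∧
      LocallyOfFinitePresentation ι' ∧ k ≫ ι' = ι ∧
      ∀ s : S, topologicalKrullDim ↥((ι' ≫ f).fiber s) ≤ d := by
  classical
  haveI : CompactSpace X := QuasiCompact.compactSpace_of_compactSpace f
  haveI : QuasiSeparatedSpace X := quasiSeparatedSpace_of_quasiSeparated f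
  have hZpt : ∀ z : Z, FlatMor.fibreDimAt (ι ≫ f) z ≤ (d : WithBot ℕ∞) := by
    intro z
    exact (TopDimLocH8.topDim_le_iff_forall_localDim ((ι ≫ f).fiber ((ι ≫ f).base z)) d).mp
      (hZ _) ((ι ≫ f).asFiber z)
  obtain ⟨c, hc⟩ : ∃ c : Set X.IdealSheafData,
      c = {J | J ≤ ι.ker ∧ ∀ W : X.affineOpens, (J.ideal W).FG} := ⟨_, rfl⟩
  have hmem : ∀ J : ↥c, J.1 ≤ ι.ker ∧ ∀ W : X.affineOpens, (J.1.ideal W).FG := by
    intro J
    have h : (J.1 : X.IdealSheafData) ∈ c := J.2
    have h' : J.1 ∈ {J : X.IdealSheafData | J ≤ ι.ker ∧ ∀ W : X.affineOpens, (J.ideal W).FG} := by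
      rw [← hc]
      exact h
    exact h'
  have hmem' : ∀ K : X.IdealSheafData, K ≤ ι.ker →
      (∀ W : X.affineOpens, (K.ideal W).FG) → K ∈ c := by
    intro K h1 h2
    rw [hc]
    exact ⟨h1, h2⟩
  have hsup : sSup c = ι.ker := by
    rw [hc]
    exact sSup_ft_eq ι.ker
  haveI : Nonempty ↥c := ⟨⟨⊥, hmem' ⊥ bot_le (fun W => ft_bot W)⟩⟩
  have hdirc : ∀ J₁ J₂ : ↥c, ∃ J₃ : ↥c, J₁.1 ≤ J₃.1 ∧ J₂.1 ≤ J₃.1 := by
    intro J₁ J₂
    exact ⟨⟨J₁.1 ⊔ J₂.1, hmem' _ (sup_le (hmem J₁).1 (hmem J₂).1)
      (ft_sup (hmem J₁).2 (hmem J₂).2)⟩, le_sup_left, le_sup_right⟩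
  have hrange : ∀ x : X, (∀ J ∈ c, x ∈ (J.support : Set X)) → x ∈ Set.range ι.base := by
    intro x hx
    have h1 : x ∈ ((sSup c).support : Set X) := (mem_support_sSup_iff c x).mpr hx
    rw [hsup, Scheme.Hom.support_ker, ι.isClosedEmbedding.isClosed_range.closure_eq] at h1
    exact h1
  have hint : ⋂ J : ↥c, badSet f d J.1 = ∅ := by
    rw [Set.eq_empty_iff_forall_notMem]
    intro x hx
    rw [Set.mem_iInter] at hx
    have hxι : x ∈ Set.range ι.base := by
      apply hrange
      intro J hJ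
      obtain ⟨w, -, hw⟩ := hx ⟨J, hJ⟩
      rw [← Scheme.IdealSheafData.range_subschemeι]
      exact ⟨w, hw⟩
    obtain ⟨z, rfl⟩ := hxι
    obtain ⟨J₀, hJ₀⟩ : ∃ J₀ : ↥c,
        {x : X | f.base x = f.base (ι.base z) ∧ x ∉ Set.range ι.base} ⊆
          (J₀.1.support : Set X)ᶜ := by
      refine IsCompact.elim_directed_cover
        (s := {x : X | f.base x = f.base (ι.base z) ∧ x ∉ Set.range ι.base})
        (isCompact_of_subset_fibre f (f.base (ι.base z)) _ (fun x hx => hx.1))
        (fun J : ↥c => (J.1.support : Set X)ᶜ) ?_ ?_ ?_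
      · intro J
        exact J.1.support.2.isOpen_compl
      · intro x hx
        by_contra hcon
        apply hx.2
        apply hrange
        intro J hJ
        by_contra hJx
        exact hcon (Set.mem_iUnion.mpr ⟨⟨J, hJ⟩, hJx⟩)
      · intro J₁ J₂
        obtain ⟨J₃, h1, h2⟩ := hdirc J₁ J₂
        refine ⟨J₃, ?_, ?_⟩
        · exact Set.compl_subset_compl.mpr
            (SetLike.coe_subset_coe.mpr (Scheme.IdealSheafData.support_antitone h1))
        · exact Set.compl_subset_compl.mpr
            (SetLike.coe_subset_coe.mpr (Scheme.IdealSheafData.support_antitone h2))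
    refine notMem_badSet f d J₀.1 ι z (hZpt z) ?_ (hx J₀)
    intro a ha
    by_contra hcon
    have h2 : J₀.1.subschemeι.base a ∈ (J₀.1.support : Set X)ᶜ := hJ₀ ⟨ha, hcon⟩
    apply h2
    rw [← Scheme.IdealSheafData.range_subschemeι]
    exact ⟨a, rfl⟩
  have hdirB : Directed (· ⊇ ·) (fun J : ↥c => badSet f d J.1) := by
    intro J₁ J₂
    obtain ⟨J₃, h1, h2⟩ := hdirc J₁ J₂
    exact ⟨J₃, badSet_mono f d h1, badSet_mono f d h2⟩
  obtain ⟨J, hJ⟩ := exists_eq_empty_of_directed_constructible (fun J : ↥c => badSet f d J.1)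
    (fun J => isConstructible_badSet f d J.1 (hmem J).2) hdirB hint
  haveI := lfp_of_ft J.1 (hmem J).2
  have hker : J.1.subschemeι.ker ≤ ι.ker := by
    rw [Scheme.IdealSheafData.ker_subschemeι]
    exact (hmem J).1
  exact ⟨J.1.subscheme, J.1.subschemeι, IsClosedImmersion.lift J.1.subschemeι ι hker,
    inferInstance, inferInstance, IsClosedImmersion.lift_fac _ _ _,
    topDim_fiber_le_of_badSet_eq_empty f d J.1 hJ⟩

end Groth.Agent.Lib.ClosedFibDimH7
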