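import Mathlib

/-!
# Points in the closure of the image of a quasi-compact morphism (helper7)

For a quasi-compact morphism `f : X ⟶ Y`, a closed subset `Z ⊆ X` and a point `y` in the closure
of `f(Z)`, there is `z ∈ Z` with `f z ⤳ y`.
-/

set_option autoImplicit false
universe u
open CategoryTheory AlgebraicGeometry

namespace Groth.Agent.Lib.ClosureSpecH7

/-- For a quasi-compact morphism, a point in the closure of the image of a closed set is a
specialization of a point of the image. -/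
theorem exists_specializes_of_mem_closure_image {X Y : Scheme.{u}} (f : X ⟶ Y) [QuasiCompact f]
    (Z : Set X) (hZ : IsClosed Z) (y : Y)
    (hyZ : y ∈ closure (f '' Z)) : ∃ z ∈ Z, f z ⤳ y := by
  obtain ⟨_, ⟨W, hW, rfl⟩, hyW, -⟩ :=
    Y.isBasis_affineOpens.exists_subset_of_mem_open (Set.mem_univ y) isOpen_univ
  have hc : IsCompact ((f ⁻¹ᵁ W : X.Opens) : Set X) :=
    QuasiCompact.isCompact_preimage (f := f) _ W.2 hW.isCompact
  obtain ⟨R, g, hg⟩ := isCompact_iff_exists.mp hc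
  have hgW : ∀ r, f (g r) ∈ W := fun r => by
    have : g r ∈ ((f ⁻¹ᵁ W : X.Opens) : Set X) := hg ▸ ⟨r, rfl⟩
    exact this
  have hr : Set.range (g ≫ f) ⊆ Set.range hW.fromSpec := by
    rw [hW.range_fromSpec]; rintro _ ⟨r, rfl⟩; exact hgW r
  obtain ⟨h', hh'⟩ : ∃ h' : Spec R ⟶ Spec Γ(Y, W), h' ≫ hW.fromSpec = g ≫ f :=
    ⟨IsOpenImmersion.lift _ _ hr, IsOpenImmersion.lift_fac _ _ _⟩
  obtain ⟨ψ, hψ⟩ : ∃ ψ : Γ(Y, W) ⟶ R, Spec.map ψ = h' :=
    ⟨Spec.preimage h', Spec.map_preimage h'⟩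
  subst hψ
  obtain ⟨Z', hZ'mem, hZ'⟩ : ∃ Z' : Set (PrimeSpectrum R),
      (∀ r : PrimeSpectrum R, r ∈ Z' ↔ g r ∈ Z) ∧ IsClosed Z' :=
    ⟨g ⁻¹' Z, fun _ => Iff.rfl, hZ.preimage g.continuous⟩
  obtain ⟨I, hIdef⟩ : ∃ I : Ideal R, I = PrimeSpectrum.vanishingIdeal Z' := ⟨_, rfl⟩
  have hI : PrimeSpectrum.zeroLocus (I : Set R) = Z' := by
    rw [hIdef, PrimeSpectrum.zeroLocus_vanishingIdeal_eq_closure, hZ'.closure_eq]
  obtain ⟨p, hpdef⟩ : ∃ p, p = hW.primeIdealOf ⟨y, hyW⟩ := ⟨_, rfl⟩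
  have hp : hW.fromSpec p = y := by rw [hpdef]; exact hW.fromSpec_primeIdealOf ⟨y, hyW⟩
  have hind := hW.fromSpec.isOpenEmbedding.isInducing
  have hpcl : p ∈ closure (PrimeSpectrum.comap ψ.hom '' PrimeSpectrum.zeroLocus (I : Set R)) := by
    rw [hI]
    have key := hind.closure_eq_preimage_closure_image (PrimeSpectrum.comap ψ.hom '' Z')
    refine (Set.ext_iff.mp key p).mpr ?_
    show hW.fromSpec p ∈ closure (hW.fromSpec '' (PrimeSpectrum.comap ψ.hom '' Z'))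
    rw [hp]
    have h1 : y ∈ closure (f '' Z ∩ W) := W.2.closure_inter ⟨hyZ, hyW⟩
    refine closure_mono ?_ h1
    rintro _ ⟨⟨z, hz, rfl⟩, hzW⟩
    obtain ⟨r, rfl⟩ : z ∈ Set.range g := by rw [hg]; exact hzW
    refine ⟨Spec.map ψ r, ⟨r, (hZ'mem r).mpr hz, rfl⟩, ?_⟩
    rw [← Scheme.Hom.comp_apply, hh', Scheme.Hom.comp_apply]
  rw [PrimeSpectrum.closure_image_comap_zeroLocus] at hpcl
  have hle : I.comap ψ.hom ≤ p.asIdeal := hpcl
  obtain ⟨q, hqmin, hqp⟩ := Ideal.exists_minimalPrimes_le hle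
  obtain ⟨p', hp'prime, hIp', hp'⟩ :=
    Ideal.exists_comap_eq_of_mem_minimalPrimes ψ.hom q hqmin
  have hmem : (⟨p', hp'prime⟩ : PrimeSpectrum R) ∈ Z' := by rw [← hI]; exact hIp'
  refine ⟨g ⟨p', hp'prime⟩, (hZ'mem _).mp hmem, ?_⟩
  rw [← Scheme.Hom.comp_apply, ← hh', Scheme.Hom.comp_apply, ← hp]
  refine Specializes.map ?_ hW.fromSpec.continuous
  have hq' : (Spec.map ψ ⟨p', hp'prime⟩ : PrimeSpectrum _) = ⟨q, hqmin.1.1⟩ := PrimeSpectrum.ext hp'
  rw [hq']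
  exact (PrimeSpectrum.le_iff_specializes _ _).mp hqp

/-- For a quasi-compact morphism, a point in the closure of the range is a specialization of a
point of the range. -/
theorem exists_specializes_of_mem_closure_range {X Y : Scheme.{u}} (f : X ⟶ Y) [QuasiCompact f]
    (y : Y) (hy : y ∈ closure (Set.range f)) : ∃ x : X, f x ⤳ y := by
  obtain ⟨x, -, hx⟩ := exists_specializes_of_mem_closure_image f Set.univ isClosed_univ y
    (by rwa [Set.image_univ])
  exact ⟨x, hx⟩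

end Groth.Agent.Lib.ClosureSpecH7
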