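import Mathlib
import Groth.Prelude
import Groth.Agent.Lib.NApxH_helper7
import Groth.Agent.Lib.ClosureSpec_helper7
import Groth.Agent.Lib.ProperOver_helper9
import Groth.Agent.Lib.IdealFT2_helper7
import Groth.Agent.Lib.ProjSpaceProper_helper4
import Groth.Agent.Lib.ClosedFibDim_helper7

/-!
# Properness at a stage of a decreasing family of closed subschemes (helper7)

* `exists_isClosed_image`: topological core (compactness + specialisation).
* `isProper_of_isClosed_image`, `isClosed_image_of_isProper`: Chow data translate properness into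
  closedness in projective space.
* `exists_isProper_of_sSup`: if `V(sSup c) → S` is proper for a directed family `c` of ideal sheaves
  on a separated finite type `S`-scheme, then some `V(J) → S`, `J ∈ c`, is proper.
-/

set_option autoImplicit false
set_option backward.isDefEq.respectTransparency false
universe u
open CategoryTheory CategoryTheory.Limits AlgebraicGeometry TopologicalSpace Topology

namespace Groth.Agent.Lib.ProperStageH7

/-- Topological core. -/
theorem exists_isClosed_image {Y' P : Scheme.{u}} (j : Y' ⟶ P) [IsImmersion j] [QuasiCompact j]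
    [CompactSpace P] {K : Type*} [Nonempty K] (A : K → Set Y') (hA : ∀ k, IsClosed (A k))
    (hdir : ∀ k k', ∃ k'', A k'' ⊆ A k ∩ A k')
    (hcl : IsClosed (j '' ⋂ k, A k)) : ∃ k, IsClosed (j '' A k) := by
  by_contra hne
  push_neg at hne
  have hbd : IsClosed (closure (Set.range j) \ Set.range j) := by
    have h := j.isLocallyClosed_range.isOpen_coborder.isClosed_compl
    unfold coborder at h
    rwa [compl_compl] at h
  have hkey : ∀ k, closure (j '' A k) ∩ Set.range j ⊆ j '' A k := by
    rintro k _ ⟨hw1, ⟨y, rfl⟩⟩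
    have hy : y ∈ closure (A k) := by
      rw [j.isEmbedding.isInducing.closure_eq_preimage_closure_image]
      exact hw1
    rw [(hA k).closure_eq] at hy
    exact ⟨y, hy, rfl⟩
  obtain ⟨B, hB⟩ : ∃ B : K → Set P, B = fun k =>
      closure (j '' A k) ∩ (closure (Set.range j) \ Set.range j) := ⟨_, rfl⟩
  have hBcl : ∀ k, IsClosed (B k) := fun k => by
    rw [hB]
    exact isClosed_closure.inter hbd
  have hBne : ∀ k, (B k).Nonempty := by
    intro k
    have h1 : ¬ closure (j '' A k) ⊆ j '' A k := fun h =>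
      hne k (closure_subset_iff_isClosed.mp h)
    obtain ⟨w, hw1, hw2⟩ := Set.not_subset.mp h1
    rw [hB]
    refine ⟨w, hw1, closure_mono (Set.image_subset_range _ _) hw1, fun hw3 => ?_⟩
    exact hw2 (hkey k ⟨hw1, hw3⟩)
  have hBdir : Directed (· ⊇ ·) B := by
    intro k k'
    obtain ⟨k'', hk''⟩ := hdir k k'
    rw [hB]
    exact ⟨k'', Set.inter_subset_inter_left _
        (closure_mono (Set.image_mono (hk''.trans Set.inter_subset_left))),
      Set.inter_subset_inter_left _
        (closure_mono (Set.image_mono (hk''.trans Set.inter_subset_right)))⟩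
  obtain ⟨z, hz⟩ := IsCompact.nonempty_iInter_of_directed_nonempty_isCompact_isClosed B hBdir hBne
    (fun k => (hBcl k).isCompact) hBcl
  rw [Set.mem_iInter] at hz
  have hz' : ∀ k, z ∈ closure (j '' A k) ∧ z ∉ Set.range j := by
    intro k
    have h := hz k
    rw [hB] at h
    exact ⟨h.1, h.2.2⟩
  -- the fibre product with the local scheme at `z`
  haveI : QuasiCompact (pullback.snd j (P.fromSpecStalk z)) :=
    MorphismProperty.pullback_snd _ _ inferInstance
  haveI : CompactSpace ↥(pullback j (P.fromSpecStalk z)) :=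
    QuasiCompact.compactSpace_of_compactSpace (pullback.snd j (P.fromSpecStalk z))
  obtain ⟨F, hF⟩ : ∃ F : K → Set ↥(pullback j (P.fromSpecStalk z)), F = fun k =>
      (pullback.fst j (P.fromSpecStalk z)) ⁻¹' A k := ⟨_, rfl⟩
  have hFcl : ∀ k, IsClosed (F k) := fun k => by
    rw [hF]
    exact (hA k).preimage (pullback.fst j (P.fromSpecStalk z)).continuous
  have hFne : ∀ k, (F k).Nonempty := by
    intro k
    obtain ⟨y, hy, hyz⟩ := Groth.Agent.Lib.ClosureSpecH7.exists_specializes_of_mem_closure_image j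
      (A k) (hA k) z (hz' k).1
    have hyr : j y ∈ Set.range (P.fromSpecStalk z) := by
      rw [Scheme.range_fromSpecStalk]
      exact hyz
    obtain ⟨o, ho⟩ := hyr
    obtain ⟨t, ht1, -⟩ := Scheme.Pullback.exists_preimage_pullback y o ho.symm
    refine ⟨t, ?_⟩
    rw [hF]
    show pullback.fst j (P.fromSpecStalk z) t ∈ A k
    rw [ht1]
    exact hy
  have hFdir : Directed (· ⊇ ·) F := by
    intro k k'
    obtain ⟨k'', hk''⟩ := hdir k k'
    rw [hF]
    exact ⟨k'', Set.preimage_mono (hk''.trans Set.inter_subset_left),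
      Set.preimage_mono (hk''.trans Set.inter_subset_right)⟩
  obtain ⟨t, ht⟩ := IsCompact.nonempty_iInter_of_directed_nonempty_isCompact_isClosed F hFdir hFne
    (fun k => (hFcl k).isCompact) hFcl
  rw [Set.mem_iInter] at ht
  have ht' : ∀ k, pullback.fst j (P.fromSpecStalk z) t ∈ A k := by
    intro k
    have h := ht k
    rw [hF] at h
    exact h
  have h1 : j (pullback.fst j (P.fromSpecStalk z) t) ∈ j '' ⋂ k, A k :=
    ⟨_, Set.mem_iInter.2 ht', rfl⟩
  have h2 : j (pullback.fst j (P.fromSpecStalk z) t) ⤳ z := by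
    have e : j (pullback.fst j (P.fromSpecStalk z) t) =
        P.fromSpecStalk z (pullback.snd j (P.fromSpecStalk z) t) := by
      rw [← Scheme.Hom.comp_apply, ← Scheme.Hom.comp_apply, pullback.condition]
    rw [e]
    have h3 := Set.mem_range_self (f := P.fromSpecStalk z) (pullback.snd j (P.fromSpecStalk z) t)
    rw [Scheme.range_fromSpecStalk] at h3
    exact h3
  have h3 : z ∈ j '' ⋂ k, A k := h2.mem_closed hcl h1
  exact (hz' (Classical.arbitrary K)).2 (Set.image_subset_range _ _ h3)

section Chow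

open CohB1

variable {Y Y' S : Scheme.{u}} {n : ℕ} (g : Y ⟶ S) (π : Y' ⟶ Y) [IsProper π]
  (j : Y' ⟶ ProjSpaceOver n S) (hj : j ≫ ProjSpaceOver.toBase n S = π ≫ g)

include hj in
theorem isProper_of_isClosed_image [LocallyOfFiniteType g] [Surjective π] [IsImmersion j]
    {Z : Scheme.{u}} (κ : Z ⟶ Y) [IsClosedImmersion κ]
    (hcl : IsClosed (j '' (π ⁻¹' Set.range κ))) : IsProper (κ ≫ g) := by
  have hr : Set.range (pullback.snd κ π) = π ⁻¹' Set.range κ := Scheme.Pullback.range_snd κ π
  haveI : IsClosedImmersion (pullback.snd κ π) := MorphismProperty.pullback_snd _ _ inferInstance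
  haveI : IsImmersion (pullback.snd κ π ≫ j) := inferInstance
  haveI : IsClosedImmersion (pullback.snd κ π ≫ j) := by
    apply IsClosedImmersion.of_isPreimmersion
    rw [ProperOver.range_comp', hr]
    exact hcl
  haveI : IsProper (ProjSpaceOver.toBase n S) :=
    Groth.Agent.Lib.ProjSpaceProperH4.isProper_toBase n S
  have e : pullback.fst κ π ≫ (κ ≫ g) =
      (pullback.snd κ π ≫ j) ≫ ProjSpaceOver.toBase n S := by
    rw [Category.assoc, hj, ← Category.assoc, ← Category.assoc, pullback.condition]
  haveI : IsProper (pullback.fst κ π ≫ (κ ≫ g)) := by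
    rw [e]
    infer_instance
  haveI : IsProper (pullback.fst κ π) := MorphismProperty.pullback_fst _ _ inferInstance
  haveI : Surjective (pullback.fst κ π) := MorphismProperty.pullback_fst _ _ inferInstance
  exact ProperOver.isProper_of_comp_surjective (pullback.fst κ π) (κ ≫ g)

include hj in
theorem isClosed_image_of_isProper {X : Scheme.{u}} (ι : X ⟶ Y) [IsClosedImmersion ι]
    [IsProper (ι ≫ g)] : IsClosed (j '' (π ⁻¹' Set.range ι)) := by
  have hr : Set.range (pullback.snd ι π) = π ⁻¹' Set.range ι := Scheme.Pullback.range_snd ι π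
  haveI : IsProper (ProjSpaceOver.toBase n S) :=
    Groth.Agent.Lib.ProjSpaceProperH4.isProper_toBase n S
  have e : pullback.fst ι π ≫ (ι ≫ g) =
      (pullback.snd ι π ≫ j) ≫ ProjSpaceOver.toBase n S := by
    rw [Category.assoc, hj, ← Category.assoc, ← Category.assoc, pullback.condition]
  haveI : IsProper (pullback.fst ι π) := MorphismProperty.pullback_fst _ _ inferInstance
  haveI : IsProper ((pullback.snd ι π ≫ j) ≫ ProjSpaceOver.toBase n S) := by
    rw [← e]
    infer_instance
  haveI : IsProper (pullback.snd ι π ≫ j) :=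
    IsProper.of_comp (pullback.snd ι π ≫ j) (ProjSpaceOver.toBase n S)
  rw [← hr, ← ProperOver.range_comp']
  exact (pullback.snd ι π ≫ j).isClosedMap.isClosed_range

end Chow

/-- If `V(sSup c) → S` is proper for a directed family `c` of ideal sheaves, some `V(J) → S` is. -/
theorem exists_isProper_of_sSup {X Y S : Scheme.{u}} (ι : X ⟶ Y) [IsClosedImmersion ι] (g : Y ⟶ S)
    [CompactSpace S] [QuasiSeparatedSpace S] [IsSeparated g] [LocallyOfFiniteType g]
    [QuasiCompact g] [IsProper (ι ≫ g)] (c : Set Y.IdealSheafData) (hne : c.Nonempty)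
    (hdir : ∀ J₁ ∈ c, ∀ J₂ ∈ c, ∃ J₃ ∈ c, J₁ ≤ J₃ ∧ J₂ ≤ J₃) (hsup : sSup c = ι.ker) :
    ∃ J ∈ c, IsProper (J.subschemeι ≫ g) := by
  obtain ⟨n, Y', π, j, hj1, hj2, hπ1, hπ2⟩ := Groth.Agent.Lib.NApxH_helper7.chow_qcqs g
  haveI := hj1
  haveI := hπ1
  haveI := hπ2
  haveI : IsProper (CohB1.ProjSpaceOver.toBase n S) :=
    Groth.Agent.Lib.ProjSpaceProperH4.isProper_toBase n S
  haveI : CompactSpace ↥(CohB1.ProjSpaceOver n S) :=
    QuasiCompact.compactSpace_of_compactSpace (CohB1.ProjSpaceOver.toBase n S)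
  haveI : QuasiCompact (j ≫ CohB1.ProjSpaceOver.toBase n S) := by
    rw [hj2]
    infer_instance
  haveI : QuasiCompact j := QuasiCompact.of_comp j (CohB1.ProjSpaceOver.toBase n S)
  haveI : Nonempty ↥c := hne.to_subtype
  have hInter : (⋂ J : ↥c, π ⁻¹' (J.1.support : Set Y)) = π ⁻¹' Set.range ι := by
    ext y
    simp only [Set.mem_iInter, Set.mem_preimage]
    have h1 : π y ∈ Set.range ι ↔ π y ∈ ((sSup c).support : Set Y) := by
      rw [hsup, Scheme.Hom.support_ker, ι.isClosedEmbedding.isClosed_range.closure_eq]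
    rw [h1]
    constructor
    · intro h
      exact (Groth.Agent.Lib.ClosedFibDimH7.mem_support_sSup_iff c (π y)).mpr
        (fun J hJ => h ⟨J, hJ⟩)
    · intro h J
      exact (Groth.Agent.Lib.ClosedFibDimH7.mem_support_sSup_iff c (π y)).mp h J.1 J.2
  obtain ⟨J, hJ⟩ := exists_isClosed_image j (fun J : ↥c => π ⁻¹' (J.1.support : Set Y))
    (fun J => J.1.support.isClosed.preimage π.continuous)
    (fun J₁ J₂ => by
      obtain ⟨J₃, hJ₃, h1, h2⟩ := hdir J₁.1 J₁.2 J₂.1 J₂.2
      exact ⟨⟨J₃, hJ₃⟩, fun y hy => ⟨Scheme.IdealSheafData.support_antitone h1 hy,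
        Scheme.IdealSheafData.support_antitone h2 hy⟩⟩)
    (by
      rw [hInter]
      exact isClosed_image_of_isProper g π j hj2 ι)
  refine ⟨J.1, J.2, ?_⟩
  refine isProper_of_isClosed_image g π j hj2 J.1.subschemeι ?_
  rw [Scheme.IdealSheafData.range_subschemeι]
  exact hJ

end Groth.Agent.Lib.ProperStageH7
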