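import Mathlib
import Groth.Prelude
import Groth.Agent.Lib.IdealFT_helper7
import Groth.Agent.Lib.ProperStage_helper7

/-!
# Images of integral schemes in affine schemes of finite type (helper7)

* `isIntegralHom_imageι_comp`: if `X ⟶ Y ⟶ S` is integral with `Y ⟶ S` affine, the scheme
  theoretic image of `X` in `Y` is integral over `S`.
* `exists_finite_ft`: if moreover `Y ⟶ S` is of finite type and `S` is qcqs, then `X ⟶ Y` factors
  through a closed subscheme `V(J)` of `Y`, `J` of finite type, which is finite over `S`.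
-/

set_option autoImplicit false
set_option linter.style.haveILetI false
universe u
open CategoryTheory CategoryTheory.Limits AlgebraicGeometry TopologicalSpace Opposite

namespace Groth.Agent.Lib.IntegralImageH7
open Groth.Agent.Lib.IdealFTH7

theorem isIntegralHom_imageι_comp {X Y S : Scheme.{u}} (σ : X ⟶ Y) (g : Y ⟶ S) [IsAffineHom g]
    [QuasiCompact σ] [IsIntegralHom (σ ≫ g)] : IsIntegralHom (σ.imageι ≫ g) := by
  haveI hA : IsAffineHom (σ.imageι ≫ g) := inferInstance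
  refine { hA with isIntegral_app := fun U hU => ?_ }
  have hV : IsAffineOpen (g ⁻¹ᵁ U) := hU.preimage g
  have hinj := σ.toImage_app_injective ⟨g ⁻¹ᵁ U, hV⟩
  have hint : (((σ.toImage ≫ σ.imageι ≫ g).app U).hom).IsIntegral := by
    have e : σ.toImage ≫ σ.imageι ≫ g = σ ≫ g := by rw [← Category.assoc, σ.toImage_imageι]
    rw [e]
    exact IsIntegralHom.isIntegral_app (σ ≫ g) U hU
  rw [Scheme.Hom.comp_app] at hint
  exact RingHom.IsIntegral.tower_bot ((σ.imageι ≫ g).app U).hom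
    (σ.toImage.app ((σ.imageι ≫ g) ⁻¹ᵁ U)).hom hinj hint

theorem exists_finite_ft {X Y S : Scheme.{u}} (σ : X ⟶ Y) (g : Y ⟶ S) [CompactSpace S]
    [QuasiSeparatedSpace S] [IsAffineHom g] [LocallyOfFiniteType g] [IsIntegralHom (σ ≫ g)]
    (J₀ : Y.IdealSheafData) (hJ₀ : J₀ ≤ σ.ker) (hJ₀ft : ∀ W : Y.affineOpens, (J₀.ideal W).FG) :
    ∃ J : Y.IdealSheafData, J₀ ≤ J ∧ J ≤ σ.ker ∧ (∀ W : Y.affineOpens, (J.ideal W).FG) ∧
      IsFinite (J.subschemeι ≫ g) := by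
  haveI : CompactSpace Y := QuasiCompact.compactSpace_of_compactSpace g
  haveI : QuasiSeparatedSpace Y := quasiSeparatedSpace_of_quasiSeparated g
  haveI : IsAffineHom σ := IsAffineHom.of_comp σ g
  haveI := isIntegralHom_imageι_comp σ g
  haveI : IsFinite (σ.imageι ≫ g) := by
    rw [IsFinite.iff_isIntegralHom_and_locallyOfFiniteType]
    exact ⟨inferInstance, inferInstance⟩
  haveI : IsProper (σ.imageι ≫ g) := inferInstance
  obtain ⟨c, hc⟩ : ∃ c : Set Y.IdealSheafData,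
      c = {J | J₀ ≤ J ∧ J ≤ σ.ker ∧ ∀ W : Y.affineOpens, (J.ideal W).FG} := ⟨_, rfl⟩
  have hmem : ∀ J, J ∈ c ↔ (J₀ ≤ J ∧ J ≤ σ.ker ∧ ∀ W : Y.affineOpens, (J.ideal W).FG) := by
    intro J
    rw [hc]
    rfl
  have hJ₀c : J₀ ∈ c := (hmem _).2 ⟨le_refl _, hJ₀, hJ₀ft⟩
  have hsup : sSup c = σ.imageι.ker := by
    rw [Scheme.IdealSheafData.ker_subschemeι]
    apply le_antisymm
    · exact sSup_le fun J hJ => ((hmem J).1 hJ).2.1
    · rw [← sSup_ft_eq σ.ker]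
      refine sSup_le fun J hJ => ?_
      exact le_sup_left.trans (le_sSup ((hmem (J ⊔ J₀)).2
        ⟨le_sup_right, sup_le hJ.1 hJ₀, ft_sup hJ.2 hJ₀ft⟩))
  have hdir : ∀ J₁ ∈ c, ∀ J₂ ∈ c, ∃ J₃ ∈ c, J₁ ≤ J₃ ∧ J₂ ≤ J₃ := by
    intro J₁ h1 J₂ h2
    rw [hmem] at h1 h2
    exact ⟨J₁ ⊔ J₂, (hmem _).2 ⟨h1.1.trans le_sup_left, sup_le h1.2.1 h2.2.1,
      ft_sup h1.2.2 h2.2.2⟩, le_sup_left, le_sup_right⟩
  obtain ⟨J, hJc, hJp⟩ := Groth.Agent.Lib.ProperStageH7.exists_isProper_of_sSup σ.imageι g c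
    ⟨J₀, hJ₀c⟩ hdir hsup
  rw [hmem] at hJc
  refine ⟨J, hJc.1, hJc.2.1, hJc.2.2, ?_⟩
  rw [IsFinite.iff_isProper_and_isAffineHom]
  exact ⟨hJp, inferInstance⟩

end Groth.Agent.Lib.IntegralImageH7
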