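import Mathlib
import Groth.Agent.Lib.NApxG_helper7

/-!
# Noetherian approximation, module J: a morphism of qcqs schemes is a limit of morphisms of
schemes of finite type over `ℤ` (helper7)
-/

set_option autoImplicit false
set_option linter.style.haveILetI false
universe u
open CategoryTheory CategoryTheory.Limits AlgebraicGeometry TopologicalSpace Opposite

namespace Groth.Agent.Lib.NApxJ_helper7
open Groth.Agent.Lib.NApxE_helper7 Groth.Agent.Lib.NApxG_helper7 Groth.Agent.Lib.NApxD1_helper7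

section Tr
variable {P : Type u} [Preorder P] (D : Pᵒᵖ ⥤ Scheme.{u})

/-- transition map of an inverse system indexed by a preorder -/
def tr {a a' : P} (h : a ≤ a') : D.obj (op a') ⟶ D.obj (op a) := D.map (homOfLE h).op

lemma tr_refl (a : P) : tr D (le_refl a) = 𝟙 _ := D.map_id _

lemma tr_trans {a a' a'' : P} (h : a ≤ a') (h' : a' ≤ a'') :
    tr D (h.trans h') = tr D h' ≫ tr D h := by
  unfold tr
  rw [← D.map_comp]
  rfl

lemma cone_tr (c : Cone D) {a a' : P} (h : a ≤ a') :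
    c.π.app (op a') ≫ tr D h = c.π.app (op a) :=
  c.w _

end Tr

section Main
variable {A B : Type u} [Preorder A] [Preorder B] (DX₀ : Aᵒᵖ ⥤ Scheme.{u})
  (DS₀ : Bᵒᵖ ⥤ Scheme.{u}) (cX : Cone DX₀) (cS : Cone DS₀) (F : cX.pt ⟶ cS.pt)

/-- index triples `(a, b, φ : X_a ⟶ S_b)` compatible with `F`. -/
structure Idx where
  /-- stage of `X` -/
  a : A
  /-- stage of `S` -/
  b : B
  /-- the morphism -/
  φ : DX₀.obj (op a) ⟶ DS₀.obj (op b)
  comm : cX.π.app (op a) ≫ φ = F ≫ cS.π.app (op b)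

variable {DX₀ DS₀ cX cS F}

/-- the order on index triples -/
def Idx.le (j j' : Idx DX₀ DS₀ cX cS F) : Prop :=
  ∃ (ha : j.a ≤ j'.a) (hb : j.b ≤ j'.b), tr DX₀ ha ≫ j.φ = j'.φ ≫ tr DS₀ hb

lemma Idx.le_refl' (j : Idx DX₀ DS₀ cX cS F) : j.le j :=
  ⟨le_refl _, le_refl _, by rw [tr_refl, tr_refl, Category.id_comp, Category.comp_id]⟩

lemma Idx.le_trans' {j j' j'' : Idx DX₀ DS₀ cX cS F} (h : j.le j') (h' : j'.le j'') :
    j.le j'' := by
  obtain ⟨ha, hb, e⟩ := h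
  obtain ⟨ha', hb', e'⟩ := h'
  refine ⟨ha.trans ha', hb.trans hb', ?_⟩
  rw [tr_trans DX₀ ha ha', tr_trans DS₀ hb hb', Category.assoc, e, ← Category.assoc, e',
    Category.assoc]

instance : Preorder (Idx DX₀ DS₀ cX cS F) where
  le := Idx.le
  le_refl := Idx.le_refl'
  le_trans _ _ _ := Idx.le_trans'

/-- pull an index to a larger stage of `A` -/
def Idx.pull (j : Idx DX₀ DS₀ cX cS F) {a' : A} (h : j.a ≤ a') : Idx DX₀ DS₀ cX cS F where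
  a := a'
  b := j.b
  φ := tr DX₀ h ≫ j.φ
  comm := by rw [← Category.assoc, cone_tr, j.comm]

lemma Idx.le_pull (j : Idx DX₀ DS₀ cX cS F) {a' : A} (h : j.a ≤ a') : j ≤ j.pull h :=
  ⟨h, le_refl _, by
    show tr DX₀ h ≫ j.φ = (tr DX₀ h ≫ j.φ) ≫ tr DS₀ (le_refl j.b)
    rw [tr_refl, Category.comp_id]⟩

/-- the structure morphisms to `Spec ℤ` -/
noncomputable def tZ (D : Aᵒᵖ ⥤ Scheme.{u}) :
    D ⟶ (Functor.const Aᵒᵖ).obj (Spec (.of (ULift.{u} ℤ))) where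
  app i := specULiftZIsTerminal.from (D.obj i)
  naturality _ _ _ := specULiftZIsTerminal.hom_ext _ _

variable [IsDirected A (fun a b => a ≤ b)] [Nonempty A]
  [∀ (i j : Aᵒᵖ) (f : i ⟶ j), IsAffineHom (DX₀.map f)]
  [∀ i, CompactSpace (DX₀.obj i)] [∀ i, QuasiSeparatedSpace (DX₀.obj i)]
  [∀ i, LocallyOfFiniteType (specULiftZIsTerminal.from (DS₀.obj i))]
  (hcX : IsLimit cX)

include hcX in
lemma exists_factor (F : cX.pt ⟶ cS.pt) (b : B) :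
    ∃ (a : A) (φ : DX₀.obj (op a) ⟶ DS₀.obj (op b)),
      cX.π.app (op a) ≫ φ = F ≫ cS.π.app (op b) := by
  haveI : ∀ {i j : Aᵒᵖ} (f : i ⟶ j), IsAffineHom (DX₀.map f) := fun f => inferInstance
  haveI := lfp_of_ftz (DS₀.obj (op b))
  obtain ⟨i, g, hg, -⟩ := Scheme.exists_π_app_comp_eq_of_locallyOfFinitePresentation DX₀ (tZ DX₀)
    (specULiftZIsTerminal.from (DS₀.obj (op b))) cX hcX (F ≫ cS.π.app (op b))
    (by ext k : 2; exact specULiftZIsTerminal.hom_ext _ _)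
  exact ⟨i.unop, g, hg⟩

include hcX in
lemma exists_equalize {a : A} {b : B} (φ ψ : DX₀.obj (op a) ⟶ DS₀.obj (op b))
    (h : cX.π.app (op a) ≫ φ = cX.π.app (op a) ≫ ψ) :
    ∃ (a' : A) (ha : a ≤ a'), tr DX₀ ha ≫ φ = tr DX₀ ha ≫ ψ := by
  haveI : ∀ {i j : Aᵒᵖ} (f : i ⟶ j), IsAffineHom (DX₀.map f) := fun f => inferInstance
  obtain ⟨k, hk, e⟩ := Scheme.exists_hom_comp_eq_comp_of_locallyOfFiniteType DX₀ (tZ DX₀)
    (specULiftZIsTerminal.from (DS₀.obj (op b))) cX hcX (i := op a) φ ψ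
    (specULiftZIsTerminal.hom_ext _ _) (specULiftZIsTerminal.hom_ext _ _) h
  exact ⟨k.unop, leOfHom hk.unop, e⟩

include hcX in
lemma exists_idx (F : cX.pt ⟶ cS.pt) (b : B) (a₀ : A) :
    ∃ j : Idx DX₀ DS₀ cX cS F, j.b = b ∧ a₀ ≤ j.a := by
  obtain ⟨a₁, φ₁, h₁⟩ := exists_factor hcX F b
  obtain ⟨a, ha₀, ha₁⟩ := exists_ge_ge a₀ a₁
  exact ⟨(Idx.mk a₁ b φ₁ h₁).pull ha₁, rfl, ha₀⟩

include hcX in
lemma exists_le_pull (j k : Idx DX₀ DS₀ cX cS F) (ha : j.a ≤ k.a) (hb : j.b ≤ k.b) :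
    ∃ (a' : A) (h : k.a ≤ a'), j ≤ k.pull h := by
  obtain ⟨a', h, e⟩ := exists_equalize hcX (tr DX₀ ha ≫ j.φ) (k.φ ≫ tr DS₀ hb) (by
    rw [← Category.assoc, cone_tr, j.comm, ← Category.assoc, k.comm, Category.assoc, cone_tr])
  refine ⟨a', h, ha.trans h, hb, ?_⟩
  show tr DX₀ (ha.trans h) ≫ j.φ = (tr DX₀ h ≫ k.φ) ≫ tr DS₀ hb
  rw [tr_trans DX₀ ha h, Category.assoc, e, Category.assoc]

include hcX in
lemma idx_directed [IsDirected B (fun a b => a ≤ b)] (j j' : Idx DX₀ DS₀ cX cS F) :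
    ∃ j'', j ≤ j'' ∧ j' ≤ j'' := by
  obtain ⟨b, hb, hb'⟩ := exists_ge_ge j.b j'.b
  obtain ⟨a₀, ha, ha'⟩ := exists_ge_ge j.a j'.a
  obtain ⟨k₁, rfl, hk₁⟩ := exists_idx hcX F b a₀
  obtain ⟨a₂, h₂, hj⟩ := exists_le_pull hcX j k₁ (ha.trans hk₁) hb
  obtain ⟨a₃, h₃, hj'⟩ := exists_le_pull hcX j' (k₁.pull h₂) ((ha'.trans hk₁).trans h₂) hb'
  exact ⟨(k₁.pull h₂).pull h₃, hj.trans ((k₁.pull h₂).le_pull h₃), hj'⟩

include hcX in
lemma idx_nonempty [Nonempty B] (F : cX.pt ⟶ cS.pt) : Nonempty (Idx DX₀ DS₀ cX cS F) := by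
  obtain ⟨b⟩ := ‹Nonempty B›
  obtain ⟨a₀⟩ := ‹Nonempty A›
  obtain ⟨j, -, -⟩ := exists_idx hcX F b a₀
  exact ⟨j⟩

variable (DX₀ DS₀ cX cS F) in
/-- projection to `A` -/
def pA : Idx DX₀ DS₀ cX cS F ⥤ A :=
  Monotone.functor (f := fun j => j.a) (fun _ _ ⟨ha, _, _⟩ => ha)

variable (DX₀ DS₀ cX cS F) in
/-- projection to `B` -/
def pB : Idx DX₀ DS₀ cX cS F ⥤ B :=
  Monotone.functor (f := fun j => j.b) (fun _ _ ⟨_, hb, _⟩ => hb)

variable (DX₀ DS₀ cX cS F) in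
/-- the compatible family of morphisms -/
def φNat : (pA DX₀ DS₀ cX cS F).op ⋙ DX₀ ⟶ (pB DX₀ DS₀ cX cS F).op ⋙ DS₀ where
  app x := x.unop.φ
  naturality x y m := by
    obtain ⟨ha, hb, e⟩ := leOfHom m.unop
    exact e

include hcX in
lemma pA_initial [IsDirected B (fun a b => a ≤ b)] [Nonempty B] (F : cX.pt ⟶ cS.pt) :
    (pA DX₀ DS₀ cX cS F).op.Initial := by
  haveI : IsDirected (Idx DX₀ DS₀ cX cS F) (fun a b => a ≤ b) := ⟨idx_directed hcX⟩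
  haveI : Nonempty (Idx DX₀ DS₀ cX cS F) := idx_nonempty hcX F
  refine Functor.initial_of_exists_of_isCofiltered _ (fun d => ?_)
    (fun {d c} s s' => ⟨c, 𝟙 c, by
      rw [show s = s' from Quiver.Hom.unop_inj (Subsingleton.elim _ _)]⟩)
  obtain ⟨b⟩ := ‹Nonempty B›
  obtain ⟨j, -, hj⟩ := exists_idx hcX F b d.unop
  exact ⟨op j, ⟨(homOfLE hj).op⟩⟩

include hcX in
lemma pB_initial [IsDirected B (fun a b => a ≤ b)] [Nonempty B] (F : cX.pt ⟶ cS.pt) :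
    (pB DX₀ DS₀ cX cS F).op.Initial := by
  haveI : IsDirected (Idx DX₀ DS₀ cX cS F) (fun a b => a ≤ b) := ⟨idx_directed hcX⟩
  haveI : Nonempty (Idx DX₀ DS₀ cX cS F) := idx_nonempty hcX F
  refine Functor.initial_of_exists_of_isCofiltered _ (fun d => ?_)
    (fun {d c} s s' => ⟨c, 𝟙 c, by
      rw [show s = s' from Quiver.Hom.unop_inj (Subsingleton.elim _ _)]⟩)
  obtain ⟨a₀⟩ := ‹Nonempty A›
  obtain ⟨j, hjb, -⟩ := exists_idx hcX F d.unop a₀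
  exact ⟨op j, ⟨(homOfLE hjb.ge).op⟩⟩

end Main

/-- **S7384** -/
theorem main7384 {X S : Scheme.{u}} (f : X ⟶ S) [CompactSpace X]
    [QuasiSeparatedSpace X] [CompactSpace S] [QuasiSeparatedSpace S] :
    ∃ (I : Type u) (_ : Preorder I) (_ : IsDirected I (fun a b => a ≤ b)) (_ : Nonempty I)
      (DX DS : Iᵒᵖ ⥤ Scheme.{u}) (φ : DX ⟶ DS)
      (cX : Limits.Cone DX) (cS : Limits.Cone DS) (_ : Limits.IsLimit cX) (_ : Limits.IsLimit cS)
      (eX : cX.pt ≅ X) (eS : cS.pt ≅ S),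
      (∀ (i j : Iᵒᵖ) (a : i ⟶ j), IsAffineHom (DX.map a) ∧ IsAffineHom (DS.map a)) ∧
      (∀ i, CompactSpace (DX.obj i) ∧ CompactSpace (DS.obj i) ∧
        LocallyOfFiniteType (Limits.IsTerminal.from specULiftZIsTerminal (DX.obj i)) ∧
        LocallyOfFiniteType (Limits.IsTerminal.from specULiftZIsTerminal (DS.obj i))) ∧
      (∀ i, cX.π.app i ≫ φ.app i = eX.hom ≫ f ≫ eS.inv ≫ cS.π.app i) := by
  obtain ⟨A, iPA, iDA, iNA, DX₀, cX, hcX, haffX, hftX, ⟨eX⟩⟩ := approx_abs X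
  obtain ⟨B, iPB, iDB, iNB, DS₀, cS, hcS, haffS, hftS, ⟨eS⟩⟩ := approx_abs S
  haveI : ∀ (i j : Aᵒᵖ) (a : i ⟶ j), IsAffineHom (DX₀.map a) := haffX
  haveI : ∀ k, CompactSpace (DX₀.obj k) := fun k => (hftX k).1
  haveI : ∀ k, QuasiSeparatedSpace (DX₀.obj k) := fun k => by
    haveI := isNoetherian_of_ftz (DX₀.obj k) (hftX k).2
    infer_instance
  haveI : ∀ k, LocallyOfFiniteType (specULiftZIsTerminal.from (DS₀.obj k)) := fun k => (hftS k).2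
  obtain ⟨F, hF⟩ : ∃ F : cX.pt ⟶ cS.pt, F = eX.hom ≫ f ≫ eS.inv := ⟨_, rfl⟩
  haveI : IsDirected (Idx DX₀ DS₀ cX cS F) (fun a b => a ≤ b) := ⟨idx_directed hcX⟩
  haveI : Nonempty (Idx DX₀ DS₀ cX cS F) := idx_nonempty hcX F
  haveI := pA_initial hcX F
  haveI := pB_initial hcX F
  refine ⟨Idx DX₀ DS₀ cX cS F, inferInstance, inferInstance, inferInstance,
    (pA DX₀ DS₀ cX cS F).op ⋙ DX₀, (pB DX₀ DS₀ cX cS F).op ⋙ DS₀, φNat DX₀ DS₀ cX cS F,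
    cX.whisker _, cS.whisker _,
    (Functor.Initial.isLimitWhiskerEquiv _ cX).symm hcX,
    (Functor.Initial.isLimitWhiskerEquiv _ cS).symm hcS, eX, eS, ?_, ?_, ?_⟩
  · intro i j a
    exact ⟨haffX _ _ _, haffS _ _ _⟩
  · intro i
    exact ⟨(hftX _).1, (hftS _).1, (hftX _).2, (hftS _).2⟩
  · intro i
    subst hF
    have h := i.unop.comm
    simp only [Category.assoc] at h
    exact h

end Groth.Agent.Lib.NApxJ_helper7
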