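import Mathlib
import Groth.Agent.Lib.NApxJ_helper7

/-!
# Noetherian approximation, module K: a qcqs scheme over a quasi-separated base is a limit of
finitely presented schemes over the base with affine transition maps (helper7)
-/

set_option autoImplicit false
set_option linter.style.haveILetI false
set_option backward.isDefEq.respectTransparency false
universe u
open CategoryTheory CategoryTheory.Limits AlgebraicGeometry TopologicalSpace Opposite

namespace Groth.Agent.Lib.NApxJ_helper7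
open Groth.Agent.Lib.NApxE_helper7 Groth.Agent.Lib.NApxG_helper7 Groth.Agent.Lib.NApxD1_helper7

section Tr
variable {P : Type u} [Preorder P] {D : Pᵒᵖ ⥤ Scheme.{u}}

/-- projection of a cone with clean type -/
def σ (c : Cone D) (a : P) : c.pt ⟶ D.obj (op a) := c.π.app (op a)

@[reassoc]
lemma σ_tr (c : Cone D) {a a' : P} (h : a ≤ a') : σ c a' ≫ tr D h = σ c a := c.w _

@[reassoc]
lemma tr_comp {a a' a'' : P} (h : a ≤ a') (h' : a' ≤ a'') :
    tr D h' ≫ tr D h = tr D (h.trans h') :=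
  (tr_trans D h h').symm

lemma tr_self {a : P} (h : a ≤ a) : tr D h = 𝟙 _ := D.map_id _

end Tr

lemma exists_cone_pt {J : Type u} [Category.{u} J] {D : J ⥤ Scheme.{u}} (c : Cone D)
    (hc : IsLimit c) {X : Scheme.{u}} (e : c.pt ≅ X) :
    ∃ c' : Cone D, Nonempty (IsLimit c') ∧ c'.pt = X :=
  ⟨⟨X, { app := fun i => e.inv ≫ c.π.app i, naturality := fun i j m => by simp }⟩,
    ⟨IsLimit.ofIsoLimit hc (Cone.ext e (fun i => by simp))⟩, rfl⟩

section Main
variable {A B : Type u} [Preorder A] [Preorder B] {DX₀ : Aᵒᵖ ⥤ Scheme.{u}}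
  {DS₀ : Bᵒᵖ ⥤ Scheme.{u}} {cX : Cone DX₀} {cS : Cone DS₀} {F : cX.pt ⟶ cS.pt}

lemma Idx.comm' (j : Idx DX₀ DS₀ cX cS F) : σ cX j.a ≫ j.φ = F ≫ σ cS j.b := j.comm

lemma Idx.le_a {j j' : Idx DX₀ DS₀ cX cS F} (h : j ≤ j') : j.a ≤ j'.a :=
  let ⟨ha, _, _⟩ := h
  ha

lemma Idx.le_b {j j' : Idx DX₀ DS₀ cX cS F} (h : j ≤ j') : j.b ≤ j'.b :=
  let ⟨_, hb, _⟩ := h
  hb

lemma Idx.le_comm {j j' : Idx DX₀ DS₀ cX cS F} (h : j ≤ j') :
    tr DX₀ (Idx.le_a h) ≫ j.φ = j'.φ ≫ tr DS₀ (Idx.le_b h) :=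
  let ⟨_, _, e⟩ := h
  e

/-- transition maps between the approximations `X_a ×_{S_b} S` -/
noncomputable def Tmap {j j' : Idx DX₀ DS₀ cX cS F} (h : j ≤ j') :
    pullback j'.φ (σ cS j'.b) ⟶ pullback j.φ (σ cS j.b) :=
  pullback.map _ _ _ _ (tr DX₀ (Idx.le_a h)) (𝟙 _) (tr DS₀ (Idx.le_b h)) (Idx.le_comm h).symm
    (by rw [σ_tr, Category.id_comp])

@[reassoc (attr := simp)]
lemma Tmap_fst {j j' : Idx DX₀ DS₀ cX cS F} (h : j ≤ j') :
    Tmap h ≫ pullback.fst _ _ = pullback.fst _ _ ≫ tr DX₀ (Idx.le_a h) := by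
  simp [Tmap, pullback.map]

@[reassoc (attr := simp)]
lemma Tmap_snd {j j' : Idx DX₀ DS₀ cX cS F} (h : j ≤ j') :
    Tmap h ≫ pullback.snd _ _ = pullback.snd _ _ := by
  simp [Tmap, pullback.map]

variable (DX₀ DS₀ cX cS F) in
/-- the diagram of approximations over `S` -/
noncomputable def TD : (Idx DX₀ DS₀ cX cS F)ᵒᵖ ⥤ Over cS.pt where
  obj x := Over.mk (pullback.snd x.unop.φ (σ cS x.unop.b))
  map {x y} m := Over.homMk (Tmap (leOfHom m.unop)) (Tmap_snd _)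
  map_id x := by
    apply Over.OverMorphism.ext
    apply pullback.hom_ext
    · simp [tr_self]
    · simp
  map_comp m m' := by
    apply Over.OverMorphism.ext
    apply pullback.hom_ext
    · simp [tr_comp]
    · simp

variable (DX₀ DS₀ cX cS F) in
/-- the cone -/
noncomputable def Tcone : Cone (TD DX₀ DS₀ cX cS F) where
  pt := Over.mk F
  π :=
    { app := fun x => Over.homMk (pullback.lift (σ cX x.unop.a) F x.unop.comm')
        (pullback.lift_snd _ _ _)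
      naturality := fun x y m => by
        apply Over.OverMorphism.ext
        show 𝟙 _ ≫ pullback.lift (σ cX y.unop.a) F y.unop.comm' =
          pullback.lift (σ cX x.unop.a) F x.unop.comm' ≫ Tmap (leOfHom m.unop)
        rw [Category.id_comp]
        apply pullback.hom_ext
        · rw [pullback.lift_fst, Category.assoc, Tmap_fst, pullback.lift_fst_assoc, σ_tr]
        · rw [pullback.lift_snd, Category.assoc, Tmap_snd, pullback.lift_snd] }

theorem Tcone_isLimit (hA : IsLimit (cX.whisker (pA DX₀ DS₀ cX cS F).op))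
    (hB : IsLimit (cS.whisker (pB DX₀ DS₀ cX cS F).op)) :
    Nonempty (IsLimit (Tcone DX₀ DS₀ cX cS F)) := by
  refine ⟨IsLimit.ofExistsUnique fun s => ?_⟩
  obtain ⟨g, hg⟩ : ∃ g : s.pt.left ⟶ cS.pt, g = s.pt.hom := ⟨_, rfl⟩
  obtain ⟨w, hw1, hw2, hw3⟩ : ∃ w : ∀ x : (Idx DX₀ DS₀ cX cS F)ᵒᵖ,
      s.pt.left ⟶ pullback x.unop.φ (σ cS x.unop.b),
      (∀ {x y : (Idx DX₀ DS₀ cX cS F)ᵒᵖ} (m : x ⟶ y), w x ≫ Tmap (leOfHom m.unop) = w y) ∧
      (∀ x, w x ≫ pullback.snd _ _ = g) ∧ (∀ x, w x = (s.π.app x).left) :=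
    ⟨fun x => (s.π.app x).left, fun m => congrArg CommaMorphism.left (s.w m),
      fun x => (Over.w (s.π.app x)).trans hg.symm, fun x => rfl⟩
  let sX : Cone ((pA DX₀ DS₀ cX cS F).op ⋙ DX₀) :=
    { pt := s.pt.left
      π :=
        { app := fun x => w x ≫ pullback.fst x.unop.φ (σ cS x.unop.b)
          naturality := fun x y m => by
            show 𝟙 _ ≫ w y ≫ pullback.fst _ _ =
              (w x ≫ pullback.fst _ _) ≫ tr DX₀ (Idx.le_a (leOfHom m.unop))
            rw [Category.id_comp, ← hw1 m, Category.assoc, Category.assoc, Tmap_fst] } }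
  obtain ⟨u, hu, huniq⟩ : ∃ u : s.pt.left ⟶ cX.pt,
      (∀ x : (Idx DX₀ DS₀ cX cS F)ᵒᵖ, u ≫ σ cX x.unop.a = w x ≫ pullback.fst _ _) ∧
      ∀ l' : s.pt.left ⟶ cX.pt,
        (∀ x : (Idx DX₀ DS₀ cX cS F)ᵒᵖ, l' ≫ σ cX x.unop.a = w x ≫ pullback.fst _ _) → l' = u :=
    ⟨hA.lift sX, fun x => hA.fac sX x,
      fun l' h => hA.hom_ext fun x => (h x).trans (hA.fac sX x).symm⟩
  have hSext : ∀ (p q : s.pt.left ⟶ cS.pt),
      (∀ y : (Idx DX₀ DS₀ cX cS F)ᵒᵖ, p ≫ σ cS y.unop.b = q ≫ σ cS y.unop.b) → p = q :=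
    fun p q h => hB.hom_ext h
  have huF : u ≫ F = g := by
    refine hSext _ _ fun y => ?_
    rw [Category.assoc, ← y.unop.comm', ← Category.assoc, hu y, Category.assoc,
      pullback.condition, ← Category.assoc, hw2 y]
  refine ⟨Over.homMk u (huF.trans hg), fun x => ?_, fun l hl => ?_⟩
  · apply Over.OverMorphism.ext
    show u ≫ pullback.lift (σ cX x.unop.a) F x.unop.comm' = (s.π.app x).left
    rw [← hw3 x]
    apply pullback.hom_ext
    · rw [Category.assoc, pullback.lift_fst, hu x]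
    · rw [Category.assoc, pullback.lift_snd, huF, hw2 x]
  · apply Over.OverMorphism.ext
    obtain ⟨l', hl'⟩ : ∃ l' : s.pt.left ⟶ cX.pt, l' = l.left := ⟨_, rfl⟩
    have h2 : ∀ x : (Idx DX₀ DS₀ cX cS F)ᵒᵖ,
        l' ≫ pullback.lift (σ cX x.unop.a) F x.unop.comm' = w x := fun x => by
      rw [hl', hw3 x]
      exact congrArg CommaMorphism.left (hl x)
    show l.left = u
    rw [← hl']
    refine huniq l' fun x => ?_
    rw [← h2 x, Category.assoc, pullback.lift_fst]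

lemma Idx.φ_props [∀ i, CompactSpace (DX₀.obj i)] [∀ i, CompactSpace (DS₀.obj i)]
    [∀ i, LocallyOfFiniteType (specULiftZIsTerminal.from (DX₀.obj i))]
    [∀ i, LocallyOfFiniteType (specULiftZIsTerminal.from (DS₀.obj i))]
    (j : Idx DX₀ DS₀ cX cS F) :
    LocallyOfFinitePresentation j.φ ∧ QuasiCompact j.φ ∧ QuasiSeparated j.φ := by
  haveI hNX := isNoetherian_of_ftz (DX₀.obj (op j.a)) inferInstance
  haveI hNS := isNoetherian_of_ftz (DS₀.obj (op j.b)) inferInstance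
  haveI : LocallyOfFiniteType (j.φ ≫ specULiftZIsTerminal.from (DS₀.obj (op j.b))) := by
    rw [specULiftZIsTerminal.hom_ext (j.φ ≫ specULiftZIsTerminal.from _)
      (specULiftZIsTerminal.from _)]
    infer_instance
  haveI : LocallyOfFiniteType j.φ :=
    locallyOfFiniteType_of_comp j.φ (specULiftZIsTerminal.from _)
  exact ⟨inferInstance, inferInstance, inferInstance⟩

variable (F) in
theorem main_abstract [IsDirected A (fun a b => a ≤ b)] [Nonempty A]
    [IsDirected B (fun a b => a ≤ b)] [Nonempty B]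
    [∀ (i j : Aᵒᵖ) (f : i ⟶ j), IsAffineHom (DX₀.map f)]
    [∀ (i j : Bᵒᵖ) (f : i ⟶ j), IsAffineHom (DS₀.map f)]
    [∀ i, CompactSpace (DX₀.obj i)] [∀ i, CompactSpace (DS₀.obj i)]
    [∀ i, LocallyOfFiniteType (specULiftZIsTerminal.from (DX₀.obj i))]
    [∀ i, LocallyOfFiniteType (specULiftZIsTerminal.from (DS₀.obj i))]
    (hcX : IsLimit cX) (hcS : IsLimit cS) :
    ∃ (I : Type u) (_ : Preorder I) (_ : IsDirected I (fun a b => a ≤ b)) (_ : Nonempty I)
      (D : Iᵒᵖ ⥤ Over cS.pt) (c : Cone D) (_ : IsLimit c),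
      (∀ i, LocallyOfFinitePresentation (D.obj i).hom ∧ QuasiCompact (D.obj i).hom ∧
        QuasiSeparated (D.obj i).hom) ∧
      (∀ (i j : Iᵒᵖ) (a : i ⟶ j), IsAffineHom (D.map a).left) ∧ c.pt = Over.mk F := by
  haveI : ∀ k, QuasiSeparatedSpace (DX₀.obj k) := fun k => by
    haveI := isNoetherian_of_ftz (DX₀.obj k) inferInstance
    infer_instance
  haveI : ∀ {i j : Bᵒᵖ} (f : i ⟶ j), IsAffineHom (DS₀.map f) := fun f => inferInstance
  haveI : IsDirected (Idx DX₀ DS₀ cX cS F) (fun a b => a ≤ b) := ⟨idx_directed hcX⟩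
  haveI : Nonempty (Idx DX₀ DS₀ cX cS F) := idx_nonempty hcX F
  haveI := pA_initial hcX F
  haveI := pB_initial hcX F
  obtain ⟨hT⟩ := Tcone_isLimit (F := F) ((Functor.Initial.isLimitWhiskerEquiv _ cX).symm hcX)
    ((Functor.Initial.isLimitWhiskerEquiv _ cS).symm hcS)
  refine ⟨Idx DX₀ DS₀ cX cS F, inferInstance, inferInstance, inferInstance,
    TD DX₀ DS₀ cX cS F, Tcone DX₀ DS₀ cX cS F, hT, fun x => ?_, fun x y m => ?_, rfl⟩
  · obtain ⟨p1, p2, p3⟩ := x.unop.φ_props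
    haveI := p1
    haveI := p2
    haveI := p3
    show LocallyOfFinitePresentation (pullback.snd x.unop.φ (σ cS x.unop.b)) ∧
      QuasiCompact (pullback.snd x.unop.φ (σ cS x.unop.b)) ∧
      QuasiSeparated (pullback.snd x.unop.φ (σ cS x.unop.b))
    exact ⟨inferInstance, inferInstance, inferInstance⟩
  · show IsAffineHom (Tmap (leOfHom m.unop))
    haveI hfy : IsAffineHom (pullback.fst y.unop.φ (σ cS y.unop.b)) :=
      MorphismProperty.pullback_fst (P := @IsAffineHom) _ _ (isAffineHom_π_app DS₀ cS hcS _)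
    haveI hfx : IsAffineHom (pullback.fst x.unop.φ (σ cS x.unop.b)) :=
      MorphismProperty.pullback_fst (P := @IsAffineHom) _ _ (isAffineHom_π_app DS₀ cS hcS _)
    haveI : IsAffineHom (tr DX₀ (Idx.le_a (leOfHom m.unop))) :=
      (inferInstance : IsAffineHom (DX₀.map _))
    have h : IsAffineHom (Tmap (leOfHom m.unop) ≫ pullback.fst y.unop.φ (σ cS y.unop.b)) := by
      rw [Tmap_fst]
      infer_instance
    exact IsAffineHom.comp_iff.mp h

end Main

/-- **S7383**, quasi-compact base -/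
theorem main7383_qc {X S : Scheme.{u}} (f : X ⟶ S)
    [CompactSpace X] [QuasiSeparatedSpace X] [CompactSpace S] [QuasiSeparatedSpace S] :
    ∃ (I : Type u) (_ : Preorder I) (_ : IsDirected I (fun a b => a ≤ b)) (_ : Nonempty I)
      (D : Iᵒᵖ ⥤ Over S) (c : Limits.Cone D) (_ : Limits.IsLimit c),
      (∀ i, LocallyOfFinitePresentation (D.obj i).hom ∧ QuasiCompact (D.obj i).hom ∧
        QuasiSeparated (D.obj i).hom) ∧
      (∀ (i j : Iᵒᵖ) (a : i ⟶ j), IsAffineHom (D.map a).left) ∧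
      Nonempty (c.pt ≅ Over.mk f) := by
  obtain ⟨A, iPA, iDA, iNA, DX₀, cX, hcX, haffX, hftX, ⟨eX⟩⟩ := approx_abs X
  obtain ⟨B, iPB, iDB, iNB, DS₀, cS, hcS, haffS, hftS, ⟨eS⟩⟩ := approx_abs S
  obtain ⟨cX', ⟨hcX'⟩, rfl⟩ := exists_cone_pt cX hcX eX
  obtain ⟨cS', ⟨hcS'⟩, rfl⟩ := exists_cone_pt cS hcS eS
  haveI : ∀ (i j : Aᵒᵖ) (a : i ⟶ j), IsAffineHom (DX₀.map a) := haffX
  haveI : ∀ (i j : Bᵒᵖ) (a : i ⟶ j), IsAffineHom (DS₀.map a) := haffS
  haveI : ∀ k, CompactSpace (DX₀.obj k) := fun k => (hftX k).1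
  haveI : ∀ k, CompactSpace (DS₀.obj k) := fun k => (hftS k).1
  haveI : ∀ k, LocallyOfFiniteType (specULiftZIsTerminal.from (DX₀.obj k)) := fun k => (hftX k).2
  haveI : ∀ k, LocallyOfFiniteType (specULiftZIsTerminal.from (DS₀.obj k)) := fun k => (hftS k).2
  obtain ⟨I, iP, iD, iN, D, c, hc, h1, h2, h3⟩ := main_abstract f hcX' hcS'
  exact ⟨I, iP, iD, iN, D, c, hc, h1, h2, ⟨eqToIso h3⟩⟩

attribute [local instance] IsCofiltered.isConnected in
/-- **S7383** -/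
theorem main7383 {X S : Scheme.{u}} (f : X ⟶ S)
    [CompactSpace X] [QuasiSeparatedSpace X] [QuasiSeparatedSpace S] :
    ∃ (I : Type u) (_ : Preorder I) (_ : IsDirected I (fun a b => a ≤ b)) (_ : Nonempty I)
      (D : Iᵒᵖ ⥤ Over S) (c : Limits.Cone D) (_ : Limits.IsLimit c),
      (∀ i, LocallyOfFinitePresentation (D.obj i).hom ∧ QuasiCompact (D.obj i).hom ∧
        QuasiSeparated (D.obj i).hom) ∧
      (∀ (i j : Iᵒᵖ) (a : i ⟶ j), IsAffineHom (D.map a).left) ∧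
      Nonempty (c.pt ≅ Over.mk f) := by
  classical
  have hcov : ∀ x : X, ∃ W : S.Opens, IsAffineOpen W ∧ f x ∈ W := fun x => by
    obtain ⟨_, ⟨(W : S.Opens), hW, rfl⟩, hxW, -⟩ :=
      S.isBasis_affineOpens.exists_subset_of_mem_open (Set.mem_univ (f x)) isOpen_univ
    exact ⟨W, hW, hxW⟩
  choose W hWaff hxW using hcov
  obtain ⟨t, ht⟩ := isCompact_univ.elim_finite_subcover
    (fun x => ((f ⁻¹ᵁ W x : X.Opens) : Set X))
    (fun x => (f ⁻¹ᵁ W x).isOpen) (fun x _ => Set.mem_iUnion.mpr ⟨x, hxW x⟩)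
  obtain ⟨U, hU⟩ : ∃ U : S.Opens, U = ⨆ x ∈ t, W x := ⟨_, rfl⟩
  have hUc : IsCompact (U : Set S) := by
    rw [hU]
    have : ((⨆ x ∈ t, W x : S.Opens) : Set S) = ⋃ x ∈ t, (W x : Set S) := by simp
    rw [this]
    exact t.isCompact_biUnion (fun x _ => (hWaff x).isCompact)
  have hfU : Set.range f ⊆ Set.range U.ι := by
    rintro _ ⟨x, rfl⟩
    rw [Scheme.Opens.range_ι]
    obtain ⟨y, hy⟩ := Set.mem_iUnion.mp (ht (Set.mem_univ x))
    obtain ⟨hyt, hxy⟩ := Set.mem_iUnion.mp hy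
    rw [hU]
    exact TopologicalSpace.Opens.mem_iSup.mpr ⟨y, TopologicalSpace.Opens.mem_iSup.mpr ⟨hyt, hxy⟩⟩
  haveI : CompactSpace ↥(U : Scheme.{u}) := isCompact_iff_compactSpace.mp hUc
  haveI : QuasiSeparatedSpace ↥(U : Scheme.{u}) := U.ι.isOpenEmbedding.quasiSeparatedSpace
  obtain ⟨f', hf'⟩ : ∃ f' : X ⟶ (U : Scheme.{u}), f' ≫ U.ι = f :=
    ⟨IsOpenImmersion.lift U.ι f hfU, IsOpenImmersion.lift_fac _ _ _⟩
  obtain ⟨I, iP, iD, iN, D, c, hc, h1, h2, ⟨e⟩⟩ := main7383_qc f'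
  have hc1 : IsLimit ((Over.forget _).mapCone c) := isLimitOfPreserves (Over.forget _) hc
  have hc2 : IsLimit ((Over.forget S).mapCone ((Over.map U.ι).mapCone c)) := hc1
  have hc' : IsLimit ((Over.map U.ι).mapCone c) := isLimitOfReflects (Over.forget S) hc2
  refine ⟨I, iP, iD, iN, D ⋙ Over.map U.ι, (Over.map U.ι).mapCone c, hc', fun i => ?_,
    fun i j a => h2 i j a,
    ⟨(Over.map U.ι).mapIso e ≪≫ Over.isoMk (Iso.refl _) (by simp [hf'])⟩⟩
  obtain ⟨p1, p2, p3⟩ := h1 i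
  haveI := p1
  haveI := p2
  haveI := p3
  show LocallyOfFinitePresentation ((D.obj i).hom ≫ U.ι) ∧ QuasiCompact ((D.obj i).hom ≫ U.ι) ∧
    QuasiSeparated ((D.obj i).hom ≫ U.ι)
  exact ⟨inferInstance, inferInstance, inferInstance⟩

end Groth.Agent.Lib.NApxJ_helper7
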