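import Mathlib

/-!
# Noetherian approximation, module M: stage lemmas over a fixed base (helper7)

`X = lim X_i` a cofiltered limit of qcqs schemes over a qcqs scheme `S`, affine transitions.
* `affine_stage`: if `X → S` is affine then `X_i → S` is affine for `i` large.
* `finite_stage`: if moreover the transition maps are closed immersions, the `X_i → S` are locally
  of finite type and `X → S` is finite, then `X_i → S` is finite for `i` large.
-/

set_option autoImplicit false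
set_option linter.style.haveILetI false
set_option backward.isDefEq.respectTransparency false
universe u
open CategoryTheory CategoryTheory.Limits AlgebraicGeometry TopologicalSpace Opposite

namespace Groth.Agent.Lib.NApxM_helper7

/-- pure algebra: a finite type algebra generated by integral elements, pushed along a surjection,
is finite. -/
lemma finite_of_generators {R A B : Type u} [CommRing R] [CommRing A] [CommRing B] (φ : R →+* A)
    (θ : A →+* B) (hθ : Function.Surjective θ) (s : Finset A)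
    (hs : @Algebra.adjoin R A _ _ φ.toAlgebra (↑s : Set A) = ⊤)
    (hint : ∀ x ∈ s, (θ.comp φ).IsIntegralElem (θ x)) : (θ.comp φ).Finite := by
  letI := φ.toAlgebra
  letI := (θ.comp φ).toAlgebra
  let θ' : A →ₐ[R] B := { θ with commutes' := fun r => rfl }
  have hfg : (Algebra.adjoin R (θ' '' (↑s : Set A))).toSubmodule.FG :=
    fg_adjoin_of_finite (s.finite_toSet.image θ') (by
      rintro _ ⟨x, hx, rfl⟩
      exact hint x hx)
  have htop : Algebra.adjoin R (θ' '' (↑s : Set A)) = ⊤ := by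
    rw [Algebra.adjoin_image, hs, Algebra.map_top]
    exact (AlgHom.range_eq_top θ').mpr hθ
  rw [htop, Algebra.top_toSubmodule] at hfg
  exact ⟨hfg⟩

lemma finite_comp_hom {A B C : CommRingCat.{u}} (f : A ⟶ B) (g : B ⟶ C) (hf : f.hom.Finite)
    (hg : g.hom.Finite) : (f ≫ g).hom.Finite := by
  rw [CommRingCat.hom_comp]
  exact hg.comp hf

/-- a morphism is finite if it is affine and finite on sections over an affine open cover. -/
lemma isFinite_of_cover {X Y : Scheme.{u}} (g : X ⟶ Y) [IsAffineHom g]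
    (H : ∀ y : Y, ∃ W : Y.Opens, y ∈ W ∧ IsAffineOpen W ∧ (g.app W).hom.Finite) : IsFinite g := by
  refine IsZariskiLocalAtTarget.of_forall_exists_morphismRestrict (P := @IsFinite) fun y => ?_
  obtain ⟨W, hyW, hW, hfin⟩ := H y
  refine ⟨W, hyW, ?_⟩
  haveI : IsAffine (W : Scheme.{u}) := hW
  rw [HasAffineProperty.iff_of_isAffine (P := @IsFinite)]
  refine ⟨hW.preimage g, ?_⟩
  rw [morphismRestrict_appTop]
  have key : ∀ W' : Y.Opens, W' = W → (g.app W').hom.Finite := by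
    rintro _ rfl
    exact hfin
  refine finite_comp_hom _ _ (key _ (by simp)) (RingHom.Finite.of_surjective _ ?_)
  exact (ConcreteCategory.bijective_of_isIso (X.presheaf.map (eqToHom _).op)).2

section Stage
variable {I : Type u} [SmallCategory I] [IsCofiltered I] (S : Scheme.{u})
  [CompactSpace S] [QuasiSeparatedSpace S] (D : I ⥤ Scheme.{u}) (ti : ∀ i, D.obj i ⟶ S)
  (hti : ∀ {i j : I} (φ : i ⟶ j), D.map φ ≫ ti j = ti i) (c : Cone D) (hc : IsLimit c)

include hti hc in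
theorem affine_stage [∀ (i j : I) (a : i ⟶ j), IsAffineHom (D.map a)]
    [∀ i, CompactSpace (D.obj i)] [∀ i, QuasiSeparatedSpace (D.obj i)] (i₀ : I)
    [IsAffineHom (c.π.app i₀ ≫ ti i₀)] :
    ∃ (i₁ : I) (_ : i₁ ⟶ i₀), ∀ (i : I) (_ : i ⟶ i₁), IsAffineHom (ti i) := by
  classical
  haveI hA' : ∀ {i j : I} (a : i ⟶ j), IsAffineHom (D.map a) := fun a => inferInstance
  have step : ∀ W : S.Opens, IsAffineOpen W →
      ∃ j : Over i₀, IsAffineOpen (D.map j.hom ⁻¹ᵁ (ti i₀ ⁻¹ᵁ W)) := by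
    intro W hW
    obtain ⟨U, hU⟩ : ∃ U : (D.obj i₀).Opens, U = ti i₀ ⁻¹ᵁ W := ⟨_, rfl⟩
    have hUc : IsCompact (U : Set (D.obj i₀)) := by
      rw [hU]
      exact QuasiCompact.isCompact_preimage (f := ti i₀) _ W.2 hW.isCompact
    haveI : ∀ j, CompactSpace ((opensDiagram D i₀ U).obj j) := fun j =>
      isCompact_iff_compactSpace.mp
        (QuasiCompact.isCompact_preimage (f := D.map j.hom) _ U.2 hUc)
    haveI : ∀ j, QuasiSeparatedSpace ((opensDiagram D i₀ U).obj j) := fun j =>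
      quasiSeparatedSpace_of_quasiSeparated (D.map j.hom ⁻¹ᵁ U).ι
    haveI : IsAffine (opensCone D c i₀ U).pt := by
      have h1 : IsAffineOpen ((c.π.app i₀ ≫ ti i₀) ⁻¹ᵁ W) := hW.preimage _
      have h2 : (c.π.app i₀ ≫ ti i₀) ⁻¹ᵁ W = c.π.app i₀ ⁻¹ᵁ U := by
        rw [hU]
        rfl
      rw [h2] at h1
      exact h1
    obtain ⟨j, hj⟩ := Scheme.exists_isAffine_of_isLimit (opensDiagram D i₀ U)
      (opensCone D c i₀ U) (isLimitOpensCone D c hc i₀ U)
    refine ⟨j, ?_⟩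
    rw [← hU]
    exact hj
  have hcov : ∀ y : S, ∃ W : S.Opens, IsAffineOpen W ∧ y ∈ W := fun y => by
    obtain ⟨_, ⟨(W : S.Opens), hW, rfl⟩, hyW, -⟩ :=
      S.isBasis_affineOpens.exists_subset_of_mem_open (Set.mem_univ y) isOpen_univ
    exact ⟨W, hW, hyW⟩
  choose W hWaff hyW using hcov
  obtain ⟨s, hs⟩ := isCompact_univ.elim_finite_subcover (fun y => (W y : Set S))
    (fun y => (W y).isOpen) (fun y _ => Set.mem_iUnion.mpr ⟨y, hyW y⟩)
  choose jj hjj using fun y => step (W y) (hWaff y)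
  obtain ⟨k, hk⟩ := IsCofiltered.inf_objs_exists (s.image jj)
  refine ⟨k.left, k.hom, fun i φ => ?_⟩
  apply isAffineHom_of_forall_exists_isAffineOpen
  intro y
  obtain ⟨y', hy'⟩ := Set.mem_iUnion.mp (hs (Set.mem_univ y))
  obtain ⟨hy's, hyy'⟩ := Set.mem_iUnion.mp hy'
  refine ⟨W y', hyy', hWaff y', ?_⟩
  obtain ⟨m⟩ := hk (Finset.mem_image_of_mem jj hy's)
  have h1 : D.map (jj y').hom ≫ ti i₀ = ti (jj y').left := hti _
  have e : ti i = D.map (φ ≫ m.left) ≫ D.map (jj y').hom ≫ ti i₀ := by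
    rw [h1, hti]
  rw [e]
  exact (hjj y').preimage (D.map (φ ≫ m.left))

/-- integrality at a stage `m : Z ⟶ D i₁` of a section `x` over `U = t⁻¹ W` -/
def IntAt {Y Z : Scheme.{u}} (t : Y ⟶ S) (W : S.Opens) (m : Z ⟶ Y) (x : Γ(Y, t ⁻¹ᵁ W)) : Prop :=
  ((m.app (t ⁻¹ᵁ W)).hom.comp (t.app W).hom).IsIntegralElem ((m.app (t ⁻¹ᵁ W)).hom x)

omit [CompactSpace S] [QuasiSeparatedSpace S] in
lemma IntAt.comp {Y Z Z' : Scheme.{u}} {t : Y ⟶ S} {W : S.Opens} {m : Z ⟶ Y}
    {x : Γ(Y, t ⁻¹ᵁ W)} (h : IntAt S t W m x) (n : Z' ⟶ Z) : IntAt S t W (n ≫ m) x := by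
  obtain ⟨P, hP, h0⟩ := h
  refine ⟨P, hP, ?_⟩
  have h1 := congrArg (n.app (m ⁻¹ᵁ (t ⁻¹ᵁ W))).hom h0
  rw [Polynomial.hom_eval₂, map_zero] at h1
  exact h1

/-- finiteness at a stage -/
def FinAt {Y Z : Scheme.{u}} (t : Y ⟶ S) (W : S.Opens) (m : Z ⟶ Y) : Prop :=
  ((m.app (t ⁻¹ᵁ W)).hom.comp (t.app W).hom).Finite

omit [CompactSpace S] [QuasiSeparatedSpace S] in
lemma FinAt.comp {Y Z Z' : Scheme.{u}} {t : Y ⟶ S} {W : S.Opens} {m : Z ⟶ Y}
    (h : FinAt S t W m) (hU : IsAffineOpen (m ⁻¹ᵁ (t ⁻¹ᵁ W))) (n : Z' ⟶ Z)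
    [IsClosedImmersion n] : FinAt S t W (n ≫ m) := by
  have hs : Function.Surjective (n.app (m ⁻¹ᵁ (t ⁻¹ᵁ W))).hom := n.app_surjective _ hU
  show ((n.app (m ⁻¹ᵁ (t ⁻¹ᵁ W))).hom.comp
    ((m.app (t ⁻¹ᵁ W)).hom.comp (t.app W).hom)).Finite
  exact RingHom.Finite.comp (RingHom.Finite.of_surjective _ hs) h

include hti hc in
theorem finite_stage [∀ (i j : I) (a : i ⟶ j), IsClosedImmersion (D.map a)]
    [∀ i, CompactSpace (D.obj i)] [∀ i, QuasiSeparatedSpace (D.obj i)]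
    [∀ i, LocallyOfFiniteType (ti i)] (i₀ : I) [IsFinite (c.π.app i₀ ≫ ti i₀)] :
    ∃ i₁ : I, ∀ (i : I) (_ : i ⟶ i₁), IsFinite (ti i) := by
  classical
  haveI hA : ∀ (i j : I) (a : i ⟶ j), IsAffineHom (D.map a) := fun i j a => inferInstance
  haveI hA' : ∀ {i j : I} (a : i ⟶ j), IsAffineHom (D.map a) := fun a => inferInstance
  obtain ⟨i₁, a₁, hi₁⟩ := affine_stage S D ti hti c hc i₀
  haveI : IsAffineHom (ti i₁) := hi₁ i₁ (𝟙 _)
  haveI hfin₁ : IsFinite (c.π.app i₁ ≫ ti i₁) := by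
    have e : c.π.app i₁ ≫ ti i₁ = c.π.app i₀ ≫ ti i₀ := by
      rw [← hti a₁, ← Category.assoc, c.w]
    rw [e]
    infer_instance
  have step : ∀ W : S.Opens, IsAffineOpen W →
      ∃ j : Over i₁, FinAt S (ti i₁) W (D.map j.hom) := by
    intro W hW
    have hU : IsAffineOpen (ti i₁ ⁻¹ᵁ W) := hW.preimage _
    have hft : ((ti i₁).app W).hom.FiniteType := by
      rw [Scheme.Hom.app_eq_appLE]
      exact (ti i₁).finiteType_appLE hW hU le_rfl
    obtain ⟨s, hs⟩ := hft.out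
    -- integrality stages
    have hint : ∀ x : Γ(D.obj i₁, ti i₁ ⁻¹ᵁ W), ∃ j : Over i₁, IntAt S (ti i₁) W (D.map j.hom) x := by
      intro x
      have hψ : ((c.π.app i₁ ≫ ti i₁).app W).hom.Finite :=
        IsFinite.finite_app (c.π.app i₁ ≫ ti i₁) W hW
      obtain ⟨P, hP, h0⟩ := (RingHom.Finite.to_isIntegral hψ) ((c.π.app i₁).app (ti i₁ ⁻¹ᵁ W) x)
      have hz : (c.π.app i₁).app (ti i₁ ⁻¹ᵁ W) (P.eval₂ ((ti i₁).app W).hom x) = 0 := by
        have := Polynomial.hom_eval₂ P ((ti i₁).app W).hom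
          ((c.π.app i₁).app (ti i₁ ⁻¹ᵁ W)).hom x
        exact this.trans h0
      obtain ⟨j, f, hj⟩ := exists_app_map_eq_zero_of_isLimit D c hc hU.isCompact _ hz
      refine ⟨Over.mk f, P, hP, ?_⟩
      have := Polynomial.hom_eval₂ P ((ti i₁).app W).hom
        ((D.map f).app (ti i₁ ⁻¹ᵁ W)).hom x
      exact this.symm.trans hj
    choose jx hjx using hint
    obtain ⟨k, hk⟩ := IsCofiltered.inf_objs_exists (s.image jx)
    refine ⟨k, ?_⟩
    have hkx : ∀ x ∈ s, IntAt S (ti i₁) W (D.map k.hom) x := by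
      intro x hx
      obtain ⟨χ⟩ := hk (Finset.mem_image_of_mem jx hx)
      have e : D.map k.hom = D.map χ.left ≫ D.map (jx x).hom := by
        rw [← D.map_comp, Over.w χ]
      rw [e]
      exact (hjx x).comp S _
    have hsurj : Function.Surjective ((D.map k.hom).app (ti i₁ ⁻¹ᵁ W)) :=
      (D.map k.hom).app_surjective _ hU
    exact finite_of_generators ((ti i₁).app W).hom ((D.map k.hom).app (ti i₁ ⁻¹ᵁ W)).hom hsurj s hs
      hkx
  have hcov : ∀ y : S, ∃ W : S.Opens, IsAffineOpen W ∧ y ∈ W := fun y => by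
    obtain ⟨_, ⟨(W : S.Opens), hW, rfl⟩, hyW, -⟩ :=
      S.isBasis_affineOpens.exists_subset_of_mem_open (Set.mem_univ y) isOpen_univ
    exact ⟨W, hW, hyW⟩
  choose W hWaff hyW using hcov
  obtain ⟨s, hs⟩ := isCompact_univ.elim_finite_subcover (fun y => (W y : Set S))
    (fun y => (W y).isOpen) (fun y _ => Set.mem_iUnion.mpr ⟨y, hyW y⟩)
  choose jj hjj using fun y => step (W y) (hWaff y)
  obtain ⟨k, hk⟩ := IsCofiltered.inf_objs_exists (s.image jj)
  refine ⟨k.left, fun i φ => ?_⟩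
  have e : ti i = D.map (φ ≫ k.hom) ≫ ti i₁ := (hti _).symm
  rw [e]
  apply isFinite_of_cover
  intro y
  obtain ⟨y', hy'⟩ := Set.mem_iUnion.mp (hs (Set.mem_univ y))
  obtain ⟨hy's, hyy'⟩ := Set.mem_iUnion.mp hy'
  refine ⟨W y', hyy', hWaff y', ?_⟩
  obtain ⟨m⟩ := hk (Finset.mem_image_of_mem jj hy's)
  have e2 : D.map (φ ≫ k.hom) = D.map (φ ≫ m.left) ≫ D.map (jj y').hom := by
    rw [← D.map_comp, Category.assoc, Over.w m]
  rw [e2]
  have hU : IsAffineOpen (D.map (jj y').hom ⁻¹ᵁ (ti i₁ ⁻¹ᵁ W y')) :=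
    ((hWaff y').preimage (ti i₁)).preimage _
  exact (hjj y').comp S hU (D.map (φ ≫ m.left))

end Stage

end Groth.Agent.Lib.NApxM_helper7
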