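import Mathlib
import Groth.Agent.Lib.NApxM_helper7
import Groth.Agent.Lib.NApxK_helper7

/-!
# Noetherian approximation, module N: finite and affine morphisms as limits (helper7)
-/

set_option autoImplicit false
set_option linter.style.haveILetI false
universe u
open CategoryTheory CategoryTheory.Limits AlgebraicGeometry TopologicalSpace Opposite

namespace Groth.Agent.Lib.NApxN_helper7
open Groth.Agent.Lib.NApxG_helper7 Groth.Agent.Lib.NApxM_helper7 Groth.Agent.Lib.NApxJ_helper7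

/-- restriction of an inverse system indexed by a directed preorder to the indices above `i₁`. -/
theorem restrict_upper {I : Type u} [Preorder I] [IsDirected I (fun a b => a ≤ b)] [Nonempty I]
    (i₁ : I) {C : Type (u + 1)} [Category.{u} C] (D : Iᵒᵖ ⥤ C) (c : Cone D) (hc : IsLimit c) :
    ∃ (I' : Type u) (_ : Preorder I') (_ : IsDirected I' (fun a b => a ≤ b)) (_ : Nonempty I')
      (F : I'ᵒᵖ ⥤ Iᵒᵖ), (∀ i', i₁ ≤ (F.obj i').unop) ∧ Nonempty (IsLimit (c.whisker F)) := by
  haveI : IsDirected {i : I // i₁ ≤ i} (fun a b => a ≤ b) := ⟨fun a b => by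
    obtain ⟨c, hac, hbc⟩ := exists_ge_ge a.1 b.1
    exact ⟨⟨c, a.2.trans hac⟩, hac, hbc⟩⟩
  haveI : Nonempty {i : I // i₁ ≤ i} := ⟨⟨i₁, le_refl _⟩⟩
  obtain ⟨F, hF⟩ : ∃ F : {i : I // i₁ ≤ i}ᵒᵖ ⥤ Iᵒᵖ, ∀ i', (F.obj i').unop = i'.unop.1 :=
    ⟨(Monotone.functor (f := fun i' : {i : I // i₁ ≤ i} => i'.1) (fun _ _ h => h)).op,
      fun _ => rfl⟩
  haveI : F.Initial := Functor.initial_of_exists_of_isCofiltered _ (fun d => by
      obtain ⟨c, hc1, hc2⟩ := exists_ge_ge d.unop i₁
      refine ⟨op ⟨c, hc2⟩, ⟨(homOfLE ?_).op⟩⟩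
      rw [hF]
      exact hc1)
    (fun {d c} s s' => ⟨c, 𝟙 c, by
      rw [show s = s' from Quiver.Hom.unop_inj (Subsingleton.elim _ _)]⟩)
  exact ⟨{i : I // i₁ ≤ i}, inferInstance, inferInstance, inferInstance, F,
    fun i' => by rw [hF]; exact i'.unop.2,
    ⟨(Functor.Initial.isLimitWhiskerEquiv F c).symm hc⟩⟩

attribute [local instance] IsCofiltered.isConnected in
/-- common set-up for finite morphisms -/
theorem finite_setup {X S : Scheme.{u}} (f : X ⟶ S) [IsFinite f]
    [CompactSpace S] [QuasiSeparatedSpace S] :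
    ∃ (I : Type u) (_ : Preorder I) (_ : IsDirected I (fun a b => a ≤ b)) (_ : Nonempty I)
      (D : Iᵒᵖ ⥤ Over S) (c : Limits.Cone D) (_ : Limits.IsLimit c),
      (∀ i, IsFinite (D.obj i).hom ∧ LocallyOfFinitePresentation (D.obj i).hom) ∧
      (∀ (i j : Iᵒᵖ) (a : i ⟶ j), IsClosedImmersion (D.map a).left) ∧
      (∀ i, IsClosedImmersion (c.π.app i).left) ∧
      Nonempty (c.pt ≅ Over.mk f) := by
  obtain ⟨Y, g, ι, hg1, hg2, hg3, hι, hιg⟩ := closedImmersion_fp_separated f
  haveI := hg1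
  haveI := hg2
  haveI := hg3
  haveI := hι
  haveI hY1 : CompactSpace Y := QuasiCompact.compactSpace_of_compactSpace g
  haveI hY2 : QuasiSeparatedSpace Y := quasiSeparatedSpace_of_quasiSeparated g
  obtain ⟨I, iP, iD, iN, D, c, hc, hD, ⟨e⟩⟩ := Groth.Agent.Lib.IdealFTH7.main7379 ι
  haveI hDci : ∀ i, IsClosedImmersion (D.obj i).hom := fun i => (hD i).1
  haveI hDfp : ∀ i, LocallyOfFinitePresentation (D.obj i).hom := fun i => (hD i).2
  have hsep : ∀ i, IsSeparated (D.obj i).hom := fun i => by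
    haveI := hDci i
    infer_instance
  have htrans : ∀ {i j : Iᵒᵖ} (a : i ⟶ j), IsClosedImmersion (D.map a).left := by
    intro i j a
    have h1 : (D.map a).left ≫ (D.obj j).hom = (D.obj i).hom := Over.w (D.map a)
    have h2 : IsClosedImmersion ((D.map a).left ≫ (D.obj j).hom) := by
      rw [h1]
      exact hDci i
    exact @IsClosedImmersion.of_comp _ _ _ (D.map a).left (D.obj j).hom h2 (hsep j)
  have hπ : ∀ i, IsClosedImmersion (c.π.app i).left := by
    intro i
    have h1 : (c.π.app i).left ≫ (D.obj i).hom = c.pt.hom := Over.w (c.π.app i)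
    have h2 : e.hom.left ≫ ι = c.pt.hom := Over.w e.hom
    have h3 : IsClosedImmersion ((c.π.app i).left ≫ (D.obj i).hom) := by
      rw [h1, ← h2]
      haveI : IsIso e.hom.left := inferInstance
      infer_instance
    exact @IsClosedImmersion.of_comp _ _ _ (c.π.app i).left (D.obj i).hom h3 (hsep i)
  have hc1 : IsLimit ((Over.forget Y).mapCone c) := isLimitOfPreserves (Over.forget Y) hc
  have hc2 : IsLimit ((Over.forget S).mapCone ((Over.map g).mapCone c)) := hc1
  have hc' : IsLimit ((Over.map g).mapCone c) := isLimitOfReflects (Over.forget S) hc2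
  -- the stage lemma
  haveI : ∀ (i j : Iᵒᵖ) (a : i ⟶ j), IsClosedImmersion ((D ⋙ Over.forget Y).map a) :=
    fun i j a => htrans a
  haveI : ∀ i, CompactSpace ((D ⋙ Over.forget Y).obj i) := fun i => by
    haveI := hDci i
    have hqc : QuasiCompact (D.obj i).hom := inferInstance
    exact @QuasiCompact.compactSpace_of_compactSpace _ _ (D.obj i).hom hqc hY1
  haveI : ∀ i, QuasiSeparatedSpace ((D ⋙ Over.forget Y).obj i) := fun i => by
    haveI := hDci i
    have hqs : QuasiSeparated (D.obj i).hom := inferInstance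
    exact @quasiSeparatedSpace_of_quasiSeparated _ _ (D.obj i).hom hY2 hqs
  obtain ⟨ti, hti_def⟩ : ∃ ti : ∀ i, (D ⋙ Over.forget Y).obj i ⟶ S,
      ∀ i, ti i = (D.obj i).hom ≫ g := ⟨fun i => (D.obj i).hom ≫ g, fun i => rfl⟩
  haveI : ∀ i, LocallyOfFiniteType (ti i) := fun i => by
    rw [hti_def]
    haveI := hDfp i
    have h : LocallyOfFiniteType ((D.obj i).hom ≫ g) := inferInstance
    exact h
  obtain ⟨i₀⟩ : Nonempty Iᵒᵖ := ⟨op (Classical.arbitrary I)⟩
  have hpt : (c.π.app i₀).left ≫ (D.obj i₀).hom ≫ g = e.hom.left ≫ f := by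
    have h1 : (c.π.app i₀).left ≫ (D.obj i₀).hom = c.pt.hom := Over.w (c.π.app i₀)
    have h2 : e.hom.left ≫ ι = c.pt.hom := Over.w e.hom
    calc (c.π.app i₀).left ≫ (D.obj i₀).hom ≫ g
        = ((c.π.app i₀).left ≫ (D.obj i₀).hom) ≫ g := (Category.assoc _ _ _).symm
      _ = c.pt.hom ≫ g := by rw [h1]
      _ = (e.hom.left ≫ ι) ≫ g := by rw [h2]
      _ = e.hom.left ≫ f := by rw [Category.assoc, hιg]
  haveI : IsFinite (((Over.forget Y).mapCone c).π.app i₀ ≫ ti i₀) := by
    rw [hti_def]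
    show IsFinite ((c.π.app i₀).left ≫ (D.obj i₀).hom ≫ g)
    rw [hpt]
    haveI : IsIso e.hom.left := inferInstance
    infer_instance
  obtain ⟨i₁, hi₁⟩ := finite_stage S (D ⋙ Over.forget Y) ti
    (fun {i j} φ => by
      have h1 : (D.map φ).left ≫ (D.obj j).hom = (D.obj i).hom := Over.w (D.map φ)
      rw [hti_def, hti_def]
      show (D.map φ).left ≫ (D.obj j).hom ≫ g = (D.obj i).hom ≫ g
      rw [← Category.assoc, h1])
    ((Over.forget Y).mapCone c) hc1 i₀
  -- restrict to the indices above `i₁`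
  obtain ⟨I', iP', iD', iN', F, hF, ⟨hcF⟩⟩ := restrict_upper i₁.unop (D ⋙ Over.map g)
    ((Over.map g).mapCone c) hc'
  subst hιg
  refine ⟨I', iP', iD', iN', F ⋙ D ⋙ Over.map g, ((Over.map g).mapCone c).whisker F, hcF,
    fun i => ?_, fun i j a => htrans (F.map a), fun i => hπ (F.obj i),
    ⟨(Over.map g).mapIso e⟩⟩
  haveI := hDfp (F.obj i)
  haveI := hDci (F.obj i)
  refine ⟨?_, ?_⟩
  · have h := hi₁ (F.obj i) (homOfLE (hF i)).op
    rw [hti_def] at h
    exact h
  · show LocallyOfFinitePresentation ((D.obj (F.obj i)).hom ≫ g)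
    infer_instance

/-- **S7381** -/
theorem main7381 {X S : Scheme.{u}} (f : X ⟶ S) [IsFinite f]
    [CompactSpace S] [QuasiSeparatedSpace S] :
    ∃ (I : Type u) (_ : Preorder I) (_ : IsDirected I (fun a b => a ≤ b)) (_ : Nonempty I)
      (D : Iᵒᵖ ⥤ Over S) (c : Limits.Cone D) (_ : Limits.IsLimit c),
      (∀ i, IsFinite (D.obj i).hom ∧ LocallyOfFinitePresentation (D.obj i).hom) ∧
      (∀ (i j : Iᵒᵖ) (a : i ⟶ j), IsClosedImmersion (D.map a).left) ∧
      Nonempty (c.pt ≅ Over.mk f) := by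
  obtain ⟨I, iP, iD, iN, D, c, hc, h1, h2, -, h4⟩ := finite_setup f
  exact ⟨I, iP, iD, iN, D, c, hc, h1, h2, h4⟩

/-- **S7396** -/
theorem main7396 {X S : Scheme.{u}} (f : X ⟶ S) [IsFinite f]
    [CompactSpace S] [QuasiSeparatedSpace S] :
    ∃ (X' : Scheme.{u}) (f' : X' ⟶ S) (j : X ⟶ X'), IsFinite f' ∧ LocallyOfFinitePresentation f' ∧
      IsClosedImmersion j ∧ j ≫ f' = f := by
  obtain ⟨I, iP, iD, iN, D, c, hc, h1, h2, h3, ⟨e⟩⟩ := finite_setup f
  obtain ⟨i⟩ : Nonempty Iᵒᵖ := ⟨op (Classical.arbitrary I)⟩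
  refine ⟨(D.obj i).left, (D.obj i).hom, e.inv.left ≫ (c.π.app i).left, (h1 i).1, (h1 i).2, ?_,
    Over.w (e.inv ≫ c.π.app i)⟩
  haveI := h3 i
  haveI : IsIso e.inv.left := inferInstance
  infer_instance

attribute [local instance] IsCofiltered.isConnected in
/-- **S17885** -/
theorem main17885 {X Y : Scheme.{u}} (f : Y ⟶ X)
    [CompactSpace X] [QuasiSeparatedSpace X] [CompactSpace Y] [QuasiSeparatedSpace Y] :
    IsAffineHom f ↔
      ∃ (I : Type u) (_ : SmallCategory I) (_ : IsFiltered I) (D : Iᵒᵖ ⥤ Over X)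
        (c : Limits.Cone D) (_ : Limits.IsLimit c),
        (∀ i, IsAffineHom (D.obj i).hom ∧ LocallyOfFinitePresentation (D.obj i).hom) ∧
        Nonempty (c.pt ≅ Over.mk f) := by
  constructor
  · intro hf
    obtain ⟨I, iP, iD, iN, D, c, hc, h1, h2, ⟨e⟩⟩ := main7383 f
    have hc1 : IsLimit ((Over.forget X).mapCone c) := isLimitOfPreserves (Over.forget X) hc
    haveI hAff : ∀ (i j : Iᵒᵖ) (a : i ⟶ j), IsAffineHom ((D ⋙ Over.forget X).map a) :=
      fun i j a => h2 i j a
    haveI : ∀ i, CompactSpace ((D ⋙ Over.forget X).obj i) := fun i => by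
      have hX : CompactSpace X := inferInstance
      exact @QuasiCompact.compactSpace_of_compactSpace _ _ (D.obj i).hom (h1 i).2.1 hX
    haveI : ∀ i, QuasiSeparatedSpace ((D ⋙ Over.forget X).obj i) := fun i => by
      have hX : QuasiSeparatedSpace X := inferInstance
      exact @quasiSeparatedSpace_of_quasiSeparated _ _ (D.obj i).hom hX (h1 i).2.2
    obtain ⟨i₀⟩ : Nonempty Iᵒᵖ := ⟨op (Classical.arbitrary I)⟩
    haveI : IsAffineHom (((Over.forget X).mapCone c).π.app i₀ ≫ (D.obj i₀).hom) := by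
      have h3 : (c.π.app i₀).left ≫ (D.obj i₀).hom = c.pt.hom := Over.w (c.π.app i₀)
      have h4 : e.hom.left ≫ f = c.pt.hom := Over.w e.hom
      show IsAffineHom ((c.π.app i₀).left ≫ (D.obj i₀).hom)
      rw [h3, ← h4]
      haveI : IsIso e.hom.left := inferInstance
      infer_instance
    obtain ⟨i₁, -, hi₁⟩ := affine_stage X (D ⋙ Over.forget X) (fun i => (D.obj i).hom)
      (fun {i j} φ => Over.w (D.map φ)) ((Over.forget X).mapCone c) hc1 i₀
    obtain ⟨I', iP', iD', iN', F, hF, ⟨hcF⟩⟩ := restrict_upper i₁.unop D c hc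
    exact ⟨I', inferInstance, inferInstance, F ⋙ D, c.whisker F, hcF,
      fun i => ⟨hi₁ (F.obj i) (homOfLE (hF i)).op, (h1 (F.obj i)).1⟩, ⟨e⟩⟩
  · rintro ⟨I, iC, iF, D, c, hc, h1, ⟨e⟩⟩
    have hc1 : IsLimit ((Over.forget X).mapCone c) := isLimitOfPreserves (Over.forget X) hc
    have hsep : ∀ i, IsSeparated (D.obj i).hom := fun i => by
      haveI := (h1 i).1
      infer_instance
    haveI hAff : ∀ {i j : Iᵒᵖ} (a : i ⟶ j), IsAffineHom ((D ⋙ Over.forget X).map a) := by
      intro i j a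
      have h3 : (D.map a).left ≫ (D.obj j).hom = (D.obj i).hom := Over.w (D.map a)
      have h4 : IsAffineHom ((D.map a).left ≫ (D.obj j).hom) := by
        rw [h3]
        exact (h1 i).1
      exact @IsAffineHom.of_comp _ _ _ (D.map a).left (D.obj j).hom h4 (hsep j)
    obtain ⟨i₀⟩ : Nonempty Iᵒᵖ := ⟨op (IsFiltered.nonempty (C := I)).some⟩
    haveI h5 : IsAffineHom (((Over.forget X).mapCone c).π.app i₀) :=
      isAffineHom_π_app _ _ hc1 i₀
    haveI : IsAffineHom (c.π.app i₀).left := h5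
    haveI := (h1 i₀).1
    have h3 : (c.π.app i₀).left ≫ (D.obj i₀).hom = c.pt.hom := Over.w (c.π.app i₀)
    have h4 : e.inv.left ≫ c.pt.hom = f := Over.w e.inv
    rw [← h4, ← h3]
    haveI : IsIso e.inv.left := inferInstance
    infer_instance

end Groth.Agent.Lib.NApxN_helper7
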