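import Mathlib
import Groth.Prelude
import Groth.Agent.Lib.LimBaseChange_helper7
import Groth.Agent.Lib.ClosedFibDim_helper7

/-!
# Bounded fibre dimension at a stage, for a system of morphisms (helper7)

* `limIdeal`, `limCone`, `isLimitLimCone`, `isClosedImmersion_lift`, `range_lift`: the limit of a
  system of closed subschemes `D' j ⊆ D j` is the closed subscheme of `lim D` cut out by the sum of
  the pulled back ideal sheaves.
* `exists_stable`: directed families of closed sets stabilise on a Noetherian subspace.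
* `exists_fibreDimAt_le`: pointwise comparison of fibre dimensions.
* `main9215`.
-/

set_option autoImplicit false
set_option backward.isDefEq.respectTransparency false
universe u
open CategoryTheory CategoryTheory.Limits AlgebraicGeometry TopologicalSpace Topology

namespace Groth.Agent.Lib.LimFibDimSysH7

open Groth.Agent.Lib.LimBaseChangeH7 Groth.Agent.Lib.ClosedFibDimH7

section General

variable {J : Type u} [SmallCategory J] {D D' : J ⥤ Scheme.{u}} (ι : D' ⟶ D)
  [∀ j, IsClosedImmersion (ι.app j)] (c : Cone D) (hc : IsLimit c) (c' : Cone D')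
  (hc' : IsLimit c')

/-- The sum of the pulled back ideal sheaves. -/
noncomputable def limIdeal : c.pt.IdealSheafData := ⨆ j, (ι.app j).ker.comap (c.π.app j)

lemma ker_le_ker_subschemeι_comp (j : J) :
    (ι.app j).ker ≤ ((limIdeal ι c).subschemeι ≫ c.π.app j).ker := by
  rw [Scheme.Hom.ker_comp, Scheme.IdealSheafData.ker_subschemeι,
    Scheme.IdealSheafData.le_map_iff_comap_le]
  exact le_iSup (fun j => (ι.app j).ker.comap (c.π.app j)) j

/-- The cone over `D'` with vertex the closed subscheme cut out by `limIdeal`. -/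
noncomputable def limCone : Cone D' where
  pt := (limIdeal ι c).subscheme
  π :=
    { app j := IsClosedImmersion.lift (ι.app j) ((limIdeal ι c).subschemeι ≫ c.π.app j)
        (ker_le_ker_subschemeι_comp ι c j)
      naturality j k a := by
        rw [← cancel_mono (ι.app k)]
        simp only [Functor.const_obj_obj, Functor.const_obj_map, Category.id_comp, Category.assoc,
          IsClosedImmersion.lift_fac]
        rw [ι.naturality, IsClosedImmersion.lift_fac_assoc, Category.assoc, c.w] }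

lemma limCone_π_fac (j : J) :
    (limCone ι c).π.app j ≫ ι.app j = (limIdeal ι c).subschemeι ≫ c.π.app j :=
  IsClosedImmersion.lift_fac _ _ _

/-- `limCone` is a limit cone. -/
noncomputable def isLimitLimCone : IsLimit (limCone ι c) where
  lift s := IsClosedImmersion.lift (limIdeal ι c).subschemeι
      (hc.lift ((Cone.postcompose ι).obj s)) (by
        rw [Scheme.IdealSheafData.ker_subschemeι]
        unfold limIdeal
        refine iSup_le fun j => ?_
        rw [← Scheme.IdealSheafData.le_map_iff_comap_le, Scheme.IdealSheafData.map_ker, hc.fac]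
        exact Scheme.Hom.le_ker_comp _ _)
  fac s j := by
    rw [← cancel_mono (ι.app j), Category.assoc, limCone_π_fac,
      IsClosedImmersion.lift_fac_assoc, hc.fac]
    rfl
  uniq s m hm := by
    rw [← cancel_mono (limIdeal ι c).subschemeι, IsClosedImmersion.lift_fac]
    refine hc.hom_ext fun j => ?_
    rw [hc.fac, Category.assoc, ← limCone_π_fac, ← Category.assoc, hm j]
    rfl

theorem lift_eq : hc.lift ((Cone.postcompose ι).obj c') =
    (hc'.conePointUniqueUpToIso (isLimitLimCone ι c hc)).hom ≫ (limIdeal ι c).subschemeι := by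
  refine hc.hom_ext fun j => ?_
  rw [hc.fac, Category.assoc, ← limCone_π_fac, ← Category.assoc,
    IsLimit.conePointUniqueUpToIso_hom_comp]
  rfl

include hc' in
theorem isClosedImmersion_lift : IsClosedImmersion (hc.lift ((Cone.postcompose ι).obj c')) := by
  rw [lift_eq ι c hc c' hc']
  infer_instance

include hc' in
theorem range_lift : Set.range (hc.lift ((Cone.postcompose ι).obj c')) =
    ⋂ j, c.π.app j ⁻¹' Set.range (ι.app j) := by
  rw [lift_eq ι c hc c' hc']
  have h1 : Set.range ((hc'.conePointUniqueUpToIso (isLimitLimCone ι c hc)).hom ≫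
      (limIdeal ι c).subschemeι) = Set.range (limIdeal ι c).subschemeι := by
    ext y
    constructor
    · rintro ⟨z, rfl⟩
      exact ⟨_, (Scheme.Hom.comp_apply _ _ _).symm⟩
    · rintro ⟨z, rfl⟩
      refine ⟨(hc'.conePointUniqueUpToIso (isLimitLimCone ι c hc)).inv z, ?_⟩
      rw [← Scheme.Hom.comp_apply, Iso.inv_hom_id_assoc]
      rfl
  refine h1.trans ?_
  rw [Scheme.IdealSheafData.range_subschemeι]
  unfold limIdeal
  rw [Scheme.IdealSheafData.support_iSup, TopologicalSpace.Closeds.coe_iInf]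
  refine Set.iInter_congr fun j => ?_
  rw [Scheme.IdealSheafData.support_comap, TopologicalSpace.Closeds.coe_preimage,
    Scheme.Hom.support_ker, (ι.app j).isClosedEmbedding.isClosed_range.closure_eq]
  rfl

end General

/-- Directed families of closed sets stabilise on a Noetherian subspace. -/
theorem exists_stable {Y : Type*} [TopologicalSpace Y] (F : Set Y) [NoetherianSpace F]
    {J : Type*} [Nonempty J] (C : J → Set Y) (hC : ∀ j, IsClosed (C j))
    (hdir : ∀ j j', ∃ k, C k ⊆ C j ∩ C j') :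
    ∃ j₁, ∀ j, C j₁ ∩ F ⊆ C j := by
  let K : J → Closeds F := fun j => ⟨Subtype.val ⁻¹' C j, (hC j).preimage continuous_subtype_val⟩
  obtain ⟨_, ⟨j₁, rfl⟩, hmin⟩ :=
    (wellFounded_lt (α := Closeds F)).has_min (Set.range K) (Set.range_nonempty K)
  refine ⟨j₁, fun j y hy => ?_⟩
  obtain ⟨k, hk⟩ := hdir j j₁
  have hle : K k ≤ K j₁ := by
    intro z hz
    exact (hk hz).2
  have heq : K k = K j₁ := by
    by_contra hne
    exact hmin (K k) ⟨k, rfl⟩ (lt_of_le_of_ne hle hne)
  have hmem : (⟨y, hy.2⟩ : F) ∈ K k := by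
    rw [heq]
    exact hy.1
  exact (hk hmem).1

/-- Pointwise comparison: the fibre dimension of some stage is bounded by that of the limit. -/
theorem exists_fibreDimAt_le {X Y S : Scheme.{u}} (cmap : X ⟶ Y) [IsClosedImmersion cmap]
    (h : Y ⟶ S) [LocallyOfFiniteType h] [QuasiCompact h] (x : X)
    {J : Type*} [Nonempty J] (Xj Yj Sj : J → Scheme.{u}) (p : ∀ j, Y ⟶ Yj j)
    (ιj : ∀ j, Xj j ⟶ Yj j) [∀ j, IsClosedImmersion (ιj j)] (sj : ∀ j, Yj j ⟶ Sj j)
    (tj : ∀ j, S ⟶ Sj j) (hsq : ∀ j, IsPullback (p j) h (sj j) (tj j))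
    (φj : ∀ j, Xj j ⟶ Sj j) (hφ : ∀ j, ιj j ≫ sj j = φj j) [∀ j, LocallyOfFiniteType (φj j)]
    (xj : ∀ j, X ⟶ Xj j) (hfac : ∀ j, cmap ≫ p j = xj j ≫ ιj j)
    (hrange : Set.range cmap = ⋂ j, p j ⁻¹' Set.range (ιj j))
    (hdir : ∀ j j', ∃ k, p k ⁻¹' Set.range (ιj k) ⊆
      (p j ⁻¹' Set.range (ιj j)) ∩ (p j' ⁻¹' Set.range (ιj j'))) :
    ∃ j, FlatMor.fibreDimAt (φj j) (xj j x) ≤ FlatMor.fibreDimAt (cmap ≫ h) x := by
  haveI := noetherianSpace_preimage h (h (cmap x))
  obtain ⟨j₁, hj₁⟩ := exists_stable (h ⁻¹' {h (cmap x)}) (fun j => p j ⁻¹' Set.range (ιj j))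
    (fun j => (ιj j).isClosedEmbedding.isClosed_range.preimage (p j).continuous) hdir
  refine ⟨j₁, ?_⟩
  have hl1 : pullback.lift cmap (xj j₁) (hfac j₁) ≫ pullback.fst (p j₁) (ιj j₁) = cmap :=
    pullback.lift_fst _ _ _
  have hl2 : pullback.lift cmap (xj j₁) (hfac j₁) ≫ pullback.snd (p j₁) (ιj j₁) = xj j₁ :=
    pullback.lift_snd _ _ _
  have sq : IsPullback (pullback.snd (p j₁) (ιj j₁)) (pullback.fst (p j₁) (ιj j₁) ≫ h)
      (φj j₁) (tj j₁) := by
    have s3 := (IsPullback.of_hasPullback (p j₁) (ιj j₁)).flip.paste_vert (hsq j₁)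
    rw [hφ j₁] at s3
    exact s3
  have hbc := FieldExtH8.fibreDimAt_baseChange (φj j₁) (tj j₁) (pullback.snd (p j₁) (ιj j₁))
    (pullback.fst (p j₁) (ιj j₁) ≫ h) sq (pullback.lift cmap (xj j₁) (hfac j₁) x)
  have hsnd : pullback.snd (p j₁) (ιj j₁) (pullback.lift cmap (xj j₁) (hfac j₁) x) = xj j₁ x := by
    rw [← Scheme.Hom.comp_apply, hl2]
  rw [hsnd] at hbc
  rw [← hbc]
  haveI : IsClosedImmersion (pullback.fst (p j₁) (ιj j₁)) :=
    MorphismProperty.pullback_fst _ _ inferInstance
  refine fibreDimAt_comp_le h (pullback.fst (p j₁) (ιj j₁)) cmap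
    (pullback.fst (p j₁) (ιj j₁)).isEmbedding cmap.isEmbedding
    (pullback.lift cmap (xj j₁) (hfac j₁) x) x ?_ ?_
  · rw [← Scheme.Hom.comp_apply, hl1]
  · intro a ha
    have ha1 : pullback.fst (p j₁) (ιj j₁) a ∈ p j₁ ⁻¹' Set.range (ιj j₁) := by
      refine ⟨pullback.snd (p j₁) (ιj j₁) a, ?_⟩
      rw [← Scheme.Hom.comp_apply, ← Scheme.Hom.comp_apply, pullback.condition]
    have ha2 : pullback.fst (p j₁) (ιj j₁) a ∈ h ⁻¹' {h (cmap x)} := by
      have e1 : pullback.fst (p j₁) (ιj j₁) (pullback.lift cmap (xj j₁) (hfac j₁) x) = cmap x := by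
        rw [← Scheme.Hom.comp_apply, hl1]
      show h (pullback.fst (p j₁) (ιj j₁) a) = h (cmap x)
      rw [← e1]
      exact ha
    have hmem : pullback.fst (p j₁) (ιj j₁) a ∈ Set.range cmap := by
      rw [hrange]
      exact Set.mem_iInter.2 fun j => hj₁ j ⟨ha1, ha2⟩
    exact hmem

section Main

variable {I : Type u} [SmallCategory I] [IsCofiltered I]
    (DX DS : I ⥤ Scheme.{u}) (φ : DX ⟶ DS)

/-- The comparison natural transformation on `Over i₀`. -/
noncomputable def cmpι (i₀ : I) : Over.forget i₀ ⋙ DX ⟶ bcDiagram DS i₀ (φ.app i₀) where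
  app j := pullback.lift (DX.map j.hom) (φ.app j.left) (φ.naturality j.hom)
  naturality j k b := by
    apply pullback.hom_ext
    · simp only [Functor.comp_obj, Over.forget_obj, Functor.comp_map, Over.forget_map,
        Category.assoc, pullback.lift_fst, bcDiagram_map_fst]
      rw [← DX.map_comp, Over.w b]
    · simp only [Functor.comp_obj, Over.forget_obj, Functor.comp_map, Over.forget_map,
        Category.assoc, pullback.lift_snd, bcDiagram_map_snd, pullback.lift_snd_assoc]
      exact φ.naturality b.left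

theorem fibreDimAt_le_map [∀ i, LocallyOfFiniteType (φ.app i)]
    (hcl : ∀ (i j : I) (a : i ⟶ j),
      IsClosedImmersion (pullback.lift (DX.map a) (φ.app i) (φ.naturality a)))
    {i j : I} (a : i ⟶ j) (x : DX.obj i) :
    FlatMor.fibreDimAt (φ.app i) x ≤ FlatMor.fibreDimAt (φ.app j) (DX.map a x) := by
  haveI := hcl i j a
  obtain ⟨κ, hκ⟩ : ∃ κ : DX.obj i ⟶ pullback (φ.app j) (DS.map a),
    κ = pullback.lift (DX.map a) (φ.app i) (φ.naturality a) := ⟨_, rfl⟩
  haveI : IsClosedImmersion κ := by rw [hκ]; infer_instance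
  have e1 : φ.app i = κ ≫ pullback.snd (φ.app j) (DS.map a) := by
    rw [hκ, pullback.lift_snd]
  have e2 : κ ≫ pullback.fst (φ.app j) (DS.map a) = DX.map a := by
    rw [hκ, pullback.lift_fst]
  have h1 := EquidimSubH8.fibreDimAt_comp_eq_localDim (pullback.snd (φ.app j) (DS.map a)) κ
    κ.isEmbedding x
  have h2 := localDim_le_of_subset (Set.inter_subset_right
      (s := Set.range κ.base)
      (t := (pullback.snd (φ.app j) (DS.map a)).base ⁻¹'
        {(pullback.snd (φ.app j) (DS.map a)).base (κ.base x)})) (κ.base x) ⟨⟨x, rfl⟩, rfl⟩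
  have h3 := EquidimSubH8.fibreDimAt_eq_localDim_preimage (pullback.snd (φ.app j) (DS.map a))
    (κ.base x)
  have h4 := FieldExtH8.fibreDimAt_baseChange (φ.app j) (DS.map a)
    (pullback.fst (φ.app j) (DS.map a)) (pullback.snd (φ.app j) (DS.map a))
    (IsPullback.of_hasPullback (φ.app j) (DS.map a)) (κ x)
  have h5 : pullback.fst (φ.app j) (DS.map a) (κ x) = DX.map a x := by
    rw [← Scheme.Hom.comp_apply, e2]
  rw [h5] at h4
  rw [← h4, e1, h1]
  exact h2.trans h3.symm.le

variable (cX : Cone DX) (cS : Cone DS) (hX : IsLimit cX) (hS : IsLimit cS)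
    [∀ (i j : I) (a : i ⟶ j), IsAffineHom (DS.map a)]

include hX hS in
/-- **S9215**. -/
theorem main9215 [∀ i, CompactSpace (DS.obj i)] [∀ i, QuasiSeparatedSpace (DS.obj i)]
    [∀ i, LocallyOfFiniteType (φ.app i)] [∀ i, QuasiCompact (φ.app i)]
    (hcl : ∀ (i j : I) (a : i ⟶ j),
      IsClosedImmersion (pullback.lift (DX.map a) (φ.app i) (φ.naturality a)))
    (f : cX.pt ⟶ cS.pt) (hf : ∀ i, f ≫ cS.π.app i = cX.π.app i ≫ φ.app i) (d : ℕ)
    (hd : ∀ s : cS.pt, topologicalKrullDim ↥(f.fiber s) ≤ d) :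
    ∃ i : I, ∀ s : DS.obj i, topologicalKrullDim ↥((φ.app i).fiber s) ≤ d := by
  classical
  suffices H : ∃ i : I, ∀ x : DX.obj i, FlatMor.fibreDimAt (φ.app i) x ≤ d by
    obtain ⟨i, hi⟩ := H
    refine ⟨i, fun s => ?_⟩
    rw [TopDimLocH8.topDim_le_iff_forall_localDim]
    intro z
    rw [FieldExtH8.localDim_fiber_eq_fibreDimAt (φ.app i) s z _ rfl]
    exact hi _
  by_contra Hne
  push_neg at Hne
  haveI hXaff : ∀ {i j : I} (a : i ⟶ j), IsAffineHom (DX.map a) := by
    intro i j a
    haveI := hcl i j a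
    have e : DX.map a = pullback.lift (DX.map a) (φ.app i) (φ.naturality a) ≫
        pullback.fst (φ.app j) (DS.map a) := (pullback.lift_fst _ _ _).symm
    have hA1 : IsAffineHom (pullback.lift (DX.map a) (φ.app i) (φ.naturality a)) := inferInstance
    have hA2 : IsAffineHom (pullback.fst (φ.app j) (DS.map a)) :=
      MorphismProperty.pullback_fst _ _ (inferInstance : IsAffineHom (DS.map a))
    rw [e]
    exact MorphismProperty.comp_mem _ _ _ hA1 hA2
  haveI : ∀ i, CompactSpace (DX.obj i) :=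
    fun i => QuasiCompact.compactSpace_of_compactSpace (φ.app i)
  have hTc : ∀ i, IsClosed {x : DX.obj i | ¬ FlatMor.fibreDimAt (φ.app i) x ≤ d} :=
    fun i => (ChevH8.isOpen_fibreDimAt_le (φ.app i) d).isClosed_compl
  obtain ⟨x, hx⟩ := exists_mem_of_isClosed_of_nonempty DX cX hX
    (fun i => {x : DX.obj i | ¬ FlatMor.fibreDimAt (φ.app i) x ≤ d}) hTc
    (fun i => (Hne i).imp fun x hx => not_le.2 hx)
    (fun i => (hTc i).isCompact)
    (fun {i j} a z hz hle => hz ((fibreDimAt_le_map DX DS φ hcl a z).trans hle))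
  -- the fibre dimension of `f` at `x` is at most `d`
  have h1 : FlatMor.fibreDimAt f x ≤ d :=
    (TopDimLocH8.localDim_le_topDim _ _).trans (hd _)
  -- set up the base change system over `i₀`
  obtain ⟨i₀⟩ : Nonempty I := IsCofiltered.nonempty
  have hY := IsPullback.of_hasPullback (φ.app i₀) (cS.π.app i₀)
  have hc : IsLimit (bcCone cS hY) := isLimitBcCone cS hY hS
  have hc' : IsLimit (cX.whisker (Over.forget i₀)) :=
    (Functor.Initial.isLimitWhiskerEquiv (Over.forget i₀) cX).symm hX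
  haveI : ∀ j, IsClosedImmersion ((cmpι DX DS φ i₀).app j) := fun j => hcl j.left i₀ j.hom
  obtain ⟨cmap, hcmapdef⟩ : ∃ cmap : cX.pt ⟶ pullback (φ.app i₀) (cS.π.app i₀),
    cmap = hc.lift ((Cone.postcompose (cmpι DX DS φ i₀)).obj (cX.whisker (Over.forget i₀))) :=
    ⟨_, rfl⟩
  haveI : IsClosedImmersion cmap := by
    rw [hcmapdef]
    exact isClosedImmersion_lift (cmpι DX DS φ i₀) (bcCone cS hY) hc _ hc'
  have hrange : Set.range cmap = ⋂ j : Over i₀, (bcCone cS hY).π.app j ⁻¹'
      Set.range ((cmpι DX DS φ i₀).app j) := by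
    rw [hcmapdef]
    exact range_lift (cmpι DX DS φ i₀) (bcCone cS hY) hc _ hc'
  have hfac : ∀ j : Over i₀, cmap ≫ (bcCone cS hY).π.app j =
      cX.π.app j.left ≫ (cmpι DX DS φ i₀).app j := by
    intro j
    rw [hcmapdef]
    exact hc.fac _ j
  have hφ : ∀ j : Over i₀, (cmpι DX DS φ i₀).app j ≫ pullback.snd (φ.app i₀) (DS.map j.hom) =
      φ.app j.left := fun j => pullback.lift_snd _ _ _
  have hcs : cmap ≫ pullback.snd (φ.app i₀) (cS.π.app i₀) = f := by
    refine hS.hom_ext fun i => ?_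
    have e1 : (cmap ≫ pullback.snd (φ.app i₀) (cS.π.app i₀)) ≫
        cS.π.app (IsCofiltered.min i i₀) = f ≫ cS.π.app (IsCofiltered.min i i₀) := by
      have h2 := bcCone_π_snd cS hY (Over.mk (IsCofiltered.minToRight i i₀))
      have h3 := hfac (Over.mk (IsCofiltered.minToRight i i₀))
      have h4 := hφ (Over.mk (IsCofiltered.minToRight i i₀))
      simp only [Over.mk_left, Over.mk_hom] at h2 h3 h4
      rw [Category.assoc, ← h2, ← Category.assoc, h3, Category.assoc, h4, hf]
    have hw : cS.π.app (IsCofiltered.min i i₀) ≫ DS.map (IsCofiltered.minToLeft i i₀) =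
        cS.π.app i := cS.w _
    rw [← hw, ← Category.assoc, e1, Category.assoc]
  -- monotonicity of the closed sets
  have hCmono : ∀ {j k : Over i₀} (b : j ⟶ k),
      (bcCone cS hY).π.app j ⁻¹' Set.range ((cmpι DX DS φ i₀).app j) ⊆
      (bcCone cS hY).π.app k ⁻¹' Set.range ((cmpι DX DS φ i₀).app k) := by
    rintro j k b z ⟨w, hw⟩
    have n1 := (cmpι DX DS φ i₀).naturality b
    have n2 := (bcCone cS hY).w b
    have e : ((cmpι DX DS φ i₀).app j ≫ (bcDiagram DS i₀ (φ.app i₀)).map b) w =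
        ((bcCone cS hY).π.app j ≫ (bcDiagram DS i₀ (φ.app i₀)).map b) z := by
      rw [Scheme.Hom.comp_apply, Scheme.Hom.comp_apply, hw]
    rw [← n1, n2, Scheme.Hom.comp_apply] at e
    exact ⟨_, e⟩
  haveI : Nonempty (Over i₀) := ⟨Over.mk (𝟙 i₀)⟩
  haveI : ∀ j : Over i₀, LocallyOfFiniteType (φ.app j.left) := fun j => inferInstance
  obtain ⟨j₁, hj₁⟩ := exists_fibreDimAt_le cmap (pullback.snd (φ.app i₀) (cS.π.app i₀)) x
    (fun j : Over i₀ => DX.obj j.left) (fun j : Over i₀ => pullback (φ.app i₀) (DS.map j.hom))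
    (fun j : Over i₀ => DS.obj j.left) (fun j => (bcCone cS hY).π.app j)
    (fun j => (cmpι DX DS φ i₀).app j) (fun j => pullback.snd (φ.app i₀) (DS.map j.hom))
    (fun j => cS.π.app j.left) (fun j => isPullback_bcCone_π cS hY j)
    (fun j => φ.app j.left) hφ (fun j => cX.π.app j.left) hfac hrange
    (fun j j' => ⟨IsCofiltered.min j j', fun z hz =>
      ⟨hCmono (IsCofiltered.minToLeft j j') hz, hCmono (IsCofiltered.minToRight j j') hz⟩⟩)
  rw [hcs] at hj₁
  exact hx j₁.left (hj₁.trans h1)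

end Main

end Groth.Agent.Lib.LimFibDimSysH7
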