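import Mathlib
import Groth.Prelude
import Groth.Agent.Lib.LimFibDimSys_helper7
import Groth.Agent.Lib.IdealFT2_helper7

/-!
# Limits of closed subschemes containing the image of the limit (helper7)

* `subDiagram`, `subι`, `exists_limit_subschemes`: a compatible family of closed subschemes
  `V(J_j) ⊆ E_j` each containing the image of `lim E` has limit `lim E`.
* `overLift`, `overLiftCone`, `isLimitOverLiftCone`: lifting a connected limit of schemes to
  `Over S`.
* `ft_comap`: the pullback of a finite type ideal sheaf is of finite type.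
-/

set_option autoImplicit false
set_option linter.style.haveILetI false
universe u
open CategoryTheory CategoryTheory.Limits AlgebraicGeometry TopologicalSpace Opposite

namespace Groth.Agent.Lib.SubLimH7
open Groth.Agent.Lib.LimFibDimSysH7 Groth.Agent.Lib.IdealFTH7

section Sub

variable {𝒥 : Type u} [SmallCategory 𝒥] (E : 𝒥 ⥤ Scheme.{u})
  (Jf : ∀ j, (E.obj j).IdealSheafData)
  (hJ : ∀ {j k : 𝒥} (a : j ⟶ k), Jf k ≤ (Jf j).map (E.map a))

/-- The diagram of the closed subschemes `V(J_j)`. -/
noncomputable def subDiagram : 𝒥 ⥤ Scheme.{u} where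
  obj j := (Jf j).subscheme
  map {j k} a := Scheme.IdealSheafData.subschemeMap _ _ (E.map a) (hJ a)
  map_id _ := by simp [← cancel_mono (Scheme.IdealSheafData.subschemeι _)]
  map_comp _ _ := by simp [← cancel_mono (Scheme.IdealSheafData.subschemeι _)]

/-- The inclusions. -/
noncomputable def subι : subDiagram E Jf hJ ⟶ E where
  app j := Scheme.IdealSheafData.subschemeι _
  naturality _ _ _ := by simp [subDiagram]

instance (j : 𝒥) : IsClosedImmersion ((subι E Jf hJ).app j) :=
  inferInstanceAs (IsClosedImmersion (Scheme.IdealSheafData.subschemeι _))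

lemma ker_subι_app (j : 𝒥) : ((subι E Jf hJ).app j).ker = Jf j := by
  show (Scheme.IdealSheafData.subschemeι _).ker = _
  rw [Scheme.IdealSheafData.ker_subschemeι]

lemma subι_app (j : 𝒥) : (subι E Jf hJ).app j = (Jf j).subschemeι := rfl

lemma exists_iso_of_eq_bot {Y : Scheme.{u}} (K : Y.IdealSheafData) (hK : K = ⊥) :
    ∃ e : K.subscheme ≅ Y, e.hom = K.subschemeι := by
  subst hK
  exact ⟨asIso (⊥ : Y.IdealSheafData).subschemeι, rfl⟩

variable (cE : Cone E) (hcE : IsLimit cE) (hker : ∀ j, Jf j ≤ (cE.π.app j).ker)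

include hker in
lemma limIdeal_subι_eq_bot : limIdeal (subι E Jf hJ) cE = ⊥ := by
  rw [eq_bot_iff]
  unfold limIdeal
  refine iSup_le fun j => ?_
  rw [ker_subι_app, ← Scheme.IdealSheafData.le_map_iff_comap_le,
    Scheme.IdealSheafData.map_bot]
  exact hker j

include hcE hker in
/-- The limit of the `V(J_j)` is the limit of `E`. -/
theorem exists_limit_subschemes :
    ∃ (cX : Cone (subDiagram E Jf hJ)) (_ : IsLimit cX) (eX : cX.pt ≅ cE.pt),
      ∀ j, cX.π.app j ≫ (Jf j).subschemeι = eX.hom ≫ cE.π.app j := by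
  obtain ⟨e, he⟩ := exists_iso_of_eq_bot _ (limIdeal_subι_eq_bot E Jf hJ cE hker)
  refine ⟨limCone (subι E Jf hJ) cE, isLimitLimCone (subι E Jf hJ) cE hcE, e, fun j => ?_⟩
  calc (limCone (subι E Jf hJ) cE).π.app j ≫ (Jf j).subschemeι
      = (limIdeal (subι E Jf hJ) cE).subschemeι ≫ cE.π.app j :=
        limCone_π_fac (subι E Jf hJ) cE j
    _ = e.hom ≫ cE.π.app j := by rw [he]

end Sub

section Over

variable {𝒥 : Type u} [SmallCategory 𝒥] (G : 𝒥 ⥤ Scheme.{u}) {S : Scheme.{u}}
  (s : ∀ j, G.obj j ⟶ S) (hs : ∀ {j k : 𝒥} (a : j ⟶ k), G.map a ≫ s k = s j)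

/-- Lift a diagram of schemes with compatible maps to `S` to a diagram in `Over S`. -/
def overLift : 𝒥 ⥤ Over S where
  obj j := Over.mk (s j)
  map a := Over.homMk (G.map a) (hs a)
  map_id j := by
    ext
    simp
  map_comp a b := by
    ext
    simp

variable (cG : Cone G) (t : cG.pt ⟶ S) (ht : ∀ j, cG.π.app j ≫ s j = t)

/-- The lifted cone. -/
def overLiftCone : Cone (overLift G s hs) where
  pt := Over.mk t
  π :=
    { app j := Over.homMk (cG.π.app j) (ht j)
      naturality j k a := by
        ext
        simp [overLift] }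

attribute [local instance] IsCofiltered.isConnected in
/-- The lifted cone is a limit cone. -/
noncomputable def isLimitOverLiftCone [IsCofiltered 𝒥] (hcG : IsLimit cG) :
    IsLimit (overLiftCone G s hs cG t ht) :=
  isLimitOfReflects (Over.forget S)
    (show IsLimit ((Over.forget S).mapCone (overLiftCone G s hs cG t ht)) from hcG)

end Over

/-- The pullback of a finite type ideal sheaf is of finite type. -/
theorem ft_comap {X Y : Scheme.{u}} (f : X ⟶ Y) (J : Y.IdealSheafData)
    (hJ : ∀ W : Y.affineOpens, (J.ideal W).FG) (W : X.affineOpens) : ((J.comap f).ideal W).FG := by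
  haveI := lfp_of_ft J hJ
  haveI : LocallyOfFinitePresentation (J.comap f).subschemeι :=
    MorphismProperty.of_isPullback (P := @LocallyOfFinitePresentation)
      (isPullback_comap_subschemeι J f).flip inferInstance
  exact ideal_fg_of_lfp (J.comap f) W

end Groth.Agent.Lib.SubLimH7
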