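import Mathlib
import Groth.Prelude
import Groth.Agent.Lib.SubLim_helper7
import Groth.Agent.Lib.IntegralImage_helper7
import Groth.Agent.Lib.NApxN_helper7

/-!
# An integral morphism is a limit of finite morphisms of finite presentation (helper7)
-/

set_option autoImplicit false
set_option linter.style.haveILetI false
universe u
open CategoryTheory CategoryTheory.Limits AlgebraicGeometry TopologicalSpace Opposite

namespace Groth.Agent.Lib.IntegralLimH7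
open Groth.Agent.Lib.NApxJ_helper7 Groth.Agent.Lib.NApxM_helper7
  Groth.Agent.Lib.NApxN_helper7 Groth.Agent.Lib.IntegralImageH7 Groth.Agent.Lib.SubLimH7
  Groth.Agent.Lib.IdealFTH7

attribute [local instance] IsCofiltered.isConnected in
/-- An affine morphism to a qcqs scheme is a directed limit of affine morphisms of finite
presentation. -/
theorem affine_setup {X S : Scheme.{u}} (f : X ⟶ S) [IsAffineHom f] [CompactSpace S]
    [QuasiSeparatedSpace S] :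
    ∃ (A : Type u) (_ : Preorder A) (_ : IsDirected A (fun a b => a ≤ b)) (_ : Nonempty A)
      (D : Aᵒᵖ ⥤ Over S) (c : Limits.Cone D) (_ : Limits.IsLimit c),
      (∀ i, IsAffineHom (D.obj i).hom ∧ LocallyOfFinitePresentation (D.obj i).hom) ∧
      Nonempty (c.pt ≅ Over.mk f) := by
  haveI : CompactSpace X := QuasiCompact.compactSpace_of_compactSpace f
  haveI : QuasiSeparatedSpace X := quasiSeparatedSpace_of_quasiSeparated f
  obtain ⟨I, iP, iD, iN, D, c, hc, h1, h2, ⟨e⟩⟩ := main7383 f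
  have hc1 : IsLimit ((Over.forget S).mapCone c) := isLimitOfPreserves (Over.forget S) hc
  haveI hAff : ∀ (i j : Iᵒᵖ) (a : i ⟶ j), IsAffineHom ((D ⋙ Over.forget S).map a) :=
    fun i j a => h2 i j a
  haveI : ∀ i, CompactSpace ((D ⋙ Over.forget S).obj i) := fun i => by
    have hS : CompactSpace S := inferInstance
    exact @QuasiCompact.compactSpace_of_compactSpace _ _ (D.obj i).hom (h1 i).2.1 hS
  haveI : ∀ i, QuasiSeparatedSpace ((D ⋙ Over.forget S).obj i) := fun i => by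
    have hS : QuasiSeparatedSpace S := inferInstance
    exact @quasiSeparatedSpace_of_quasiSeparated _ _ (D.obj i).hom hS (h1 i).2.2
  obtain ⟨i₀⟩ : Nonempty Iᵒᵖ := ⟨op (Classical.arbitrary I)⟩
  haveI : IsAffineHom (((Over.forget S).mapCone c).π.app i₀ ≫ (D.obj i₀).hom) := by
    have h3 : (c.π.app i₀).left ≫ (D.obj i₀).hom = c.pt.hom := Over.w (c.π.app i₀)
    have h4 : e.hom.left ≫ f = c.pt.hom := Over.w e.hom
    show IsAffineHom ((c.π.app i₀).left ≫ (D.obj i₀).hom)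
    rw [h3, ← h4]
    haveI : IsIso e.hom.left := inferInstance
    infer_instance
  obtain ⟨i₁, -, hi₁⟩ := affine_stage S (D ⋙ Over.forget S) (fun i => (D.obj i).hom)
    (fun {i j} φ => Over.w (D.map φ)) ((Over.forget S).mapCone c) hc1 i₀
  obtain ⟨I', iP', iD', iN', F, hF, ⟨hcF⟩⟩ := restrict_upper i₁.unop D c hc
  exact ⟨I', iP', iD', iN', F ⋙ D, c.whisker F, hcF,
    fun i => ⟨hi₁ (F.obj i) (homOfLE (hF i)).op, (h1 (F.obj i)).1⟩, ⟨e⟩⟩

section Sys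

variable {A : Type u} [Preorder A] (E₀ : Aᵒᵖ ⥤ Scheme.{u}) (cE₀ : Cone E₀) {S : Scheme.{u}}
  (g : ∀ a : A, E₀.obj (op a) ⟶ S)

/-- The index set: a stage and a finite type ideal sheaf containing the kernel of the projection
and cutting out a finite `S`-scheme. -/
structure Idx where
  a : A
  J : (E₀.obj (op a)).IdealSheafData
  le_ker : J ≤ (cE₀.π.app (op a)).ker
  ft : ∀ W : (E₀.obj (op a)).affineOpens, (J.ideal W).FG
  fin : IsFinite (J.subschemeι ≫ g a)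

instance : Preorder (Idx E₀ cE₀ g) where
  le p q := ∃ h : p.a ≤ q.a, p.J.comap (tr E₀ h) ≤ q.J
  le_refl p := ⟨le_refl _, by rw [tr_refl, Scheme.IdealSheafData.comap_id]⟩
  le_trans p q r := fun ⟨h, h1⟩ ⟨h', h2⟩ => ⟨h.trans h', by
    rw [tr_trans E₀ h h', Scheme.IdealSheafData.comap_comp]
    exact (Scheme.IdealSheafData.comap_mono _ h1).trans h2⟩

variable {E₀ cE₀ g} in
lemma Idx.le_a {p q : Idx E₀ cE₀ g} (h : p ≤ q) : p.a ≤ q.a := by
  obtain ⟨h', -⟩ := h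
  exact h'

/-- The projection to the index set of stages. -/
def pA : Idx E₀ cE₀ g ⥤ A := Monotone.functor (f := fun p : Idx E₀ cE₀ g => p.a)
  (fun _ _ h => Idx.le_a h)

variable (hg : ∀ {a a' : A} (h : a ≤ a'), tr E₀ h ≫ g a = g a') (ν : cE₀.pt ⟶ S)
  (hν : ∀ a, cE₀.π.app (op a) ≫ g a = ν)

include hν in
lemma exists_idx [CompactSpace S] [QuasiSeparatedSpace S] [∀ a, IsAffineHom (g a)]
    [∀ a, LocallyOfFinitePresentation (g a)] [IsIntegralHom ν] (a : A)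
    (J₀ : (E₀.obj (op a)).IdealSheafData) (hJ₀ : J₀ ≤ (cE₀.π.app (op a)).ker)
    (hJ₀ft : ∀ W : (E₀.obj (op a)).affineOpens, (J₀.ideal W).FG) :
    ∃ p : Idx E₀ cE₀ g, p.a = a ∧ ∃ h : a ≤ p.a, J₀.comap (tr E₀ h) ≤ p.J := by
  haveI : IsIntegralHom (cE₀.π.app (op a) ≫ g a) := by
    rw [hν]
    infer_instance
  obtain ⟨J, h1, h2, h3, h4⟩ := exists_finite_ft (cE₀.π.app (op a)) (g a) J₀ hJ₀ hJ₀ft
  refine ⟨⟨a, J, h2, h3, h4⟩, rfl, le_refl a, ?_⟩
  rw [tr_refl, Scheme.IdealSheafData.comap_id]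
  exact h1

include hν in
lemma idx_nonempty [CompactSpace S] [QuasiSeparatedSpace S] [∀ a, IsAffineHom (g a)]
    [∀ a, LocallyOfFinitePresentation (g a)] [IsIntegralHom ν] [Nonempty A] :
    Nonempty (Idx E₀ cE₀ g) := by
  obtain ⟨a⟩ := ‹Nonempty A›
  obtain ⟨p, -, -⟩ := exists_idx E₀ cE₀ g ν hν a ⊥ bot_le ft_bot
  exact ⟨p⟩

include hν in
lemma idx_directed [CompactSpace S] [QuasiSeparatedSpace S] [∀ a, IsAffineHom (g a)]
    [∀ a, LocallyOfFinitePresentation (g a)] [IsIntegralHom ν]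
    [IsDirected A (fun a b => a ≤ b)] (p q : Idx E₀ cE₀ g) : ∃ r, p ≤ r ∧ q ≤ r := by
  obtain ⟨a, h1, h2⟩ := exists_ge_ge p.a q.a
  have hk : ∀ (p : Idx E₀ cE₀ g) (h : p.a ≤ a),
      p.J.comap (tr E₀ h) ≤ (cE₀.π.app (op a)).ker := by
    intro p h
    rw [← Scheme.IdealSheafData.le_map_iff_comap_le, Scheme.IdealSheafData.map_ker, cone_tr]
    exact p.le_ker
  obtain ⟨r, hra, h, hr⟩ := exists_idx E₀ cE₀ g ν hν a
    (p.J.comap (tr E₀ h1) ⊔ q.J.comap (tr E₀ h2)) (sup_le (hk p h1) (hk q h2))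
    (ft_sup (ft_comap _ _ p.ft) (ft_comap _ _ q.ft))
  refine ⟨r, ⟨h1.trans h, ?_⟩, ⟨h2.trans h, ?_⟩⟩
  · rw [tr_trans E₀ h1 h, Scheme.IdealSheafData.comap_comp]
    exact (Scheme.IdealSheafData.comap_mono _ le_sup_left).trans hr
  · rw [tr_trans E₀ h2 h, Scheme.IdealSheafData.comap_comp]
    exact (Scheme.IdealSheafData.comap_mono _ le_sup_right).trans hr

include hν in
lemma pA_initial [CompactSpace S] [QuasiSeparatedSpace S] [∀ a, IsAffineHom (g a)]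
    [∀ a, LocallyOfFinitePresentation (g a)] [IsIntegralHom ν]
    [IsDirected A (fun a b => a ≤ b)] [Nonempty A] : (pA E₀ cE₀ g).op.Initial := by
  haveI : IsDirected (Idx E₀ cE₀ g) (fun a b => a ≤ b) := ⟨idx_directed E₀ cE₀ g ν hν⟩
  haveI : Nonempty (Idx E₀ cE₀ g) := idx_nonempty E₀ cE₀ g ν hν
  refine Functor.initial_of_exists_of_isCofiltered _ (fun d => ?_)
    (fun {d c} s s' => ⟨c, 𝟙 c, by
      rw [show s = s' from Quiver.Hom.unop_inj (Subsingleton.elim _ _)]⟩)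
  obtain ⟨p, hpa, -⟩ := exists_idx E₀ cE₀ g ν hν d.unop ⊥ bot_le ft_bot
  exact ⟨op p, ⟨(homOfLE hpa.ge).op⟩⟩

/-- The family of ideals. -/
def Jf (p : (Idx E₀ cE₀ g)ᵒᵖ) : (((pA E₀ cE₀ g).op ⋙ E₀).obj p).IdealSheafData := p.unop.J

lemma hJf {p q : (Idx E₀ cE₀ g)ᵒᵖ} (φ : p ⟶ q) :
    Jf E₀ cE₀ g q ≤ (Jf E₀ cE₀ g p).map (((pA E₀ cE₀ g).op ⋙ E₀).map φ) := by
  obtain ⟨h, h1⟩ := leOfHom φ.unop
  rw [Scheme.IdealSheafData.le_map_iff_comap_le]
  exact h1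

include hg hν in
theorem main_abstract [IsDirected A (fun a b => a ≤ b)] [Nonempty A] (hcE₀ : IsLimit cE₀)
    [CompactSpace S] [QuasiSeparatedSpace S] [∀ a, IsAffineHom (g a)]
    [∀ a, LocallyOfFinitePresentation (g a)] [IsIntegralHom ν] :
    ∃ (I : Type u) (_ : Preorder I) (_ : IsDirected I (fun a b => a ≤ b)) (_ : Nonempty I)
      (Dov : Iᵒᵖ ⥤ Over S) (cov : Cone Dov) (_ : IsLimit cov),
      (∀ i, IsFinite (Dov.obj i).hom ∧ LocallyOfFinitePresentation (Dov.obj i).hom) ∧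
      Nonempty (cov.pt ≅ Over.mk ν) := by
  haveI hdir : IsDirected (Idx E₀ cE₀ g) (fun a b => a ≤ b) := ⟨idx_directed E₀ cE₀ g ν hν⟩
  haveI hne : Nonempty (Idx E₀ cE₀ g) := idx_nonempty E₀ cE₀ g ν hν
  haveI := pA_initial E₀ cE₀ g ν hν
  have hcE : IsLimit (cE₀.whisker (pA E₀ cE₀ g).op) :=
    (Functor.Initial.isLimitWhiskerEquiv (pA E₀ cE₀ g).op cE₀).symm hcE₀
  obtain ⟨cX, hcX, eX, hcomp⟩ := exists_limit_subschemes ((pA E₀ cE₀ g).op ⋙ E₀)
    (Jf E₀ cE₀ g) (fun φ => hJf E₀ cE₀ g φ) (cE₀.whisker (pA E₀ cE₀ g).op) hcE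
    (fun p => p.unop.le_ker)
  have hs : ∀ {p q : (Idx E₀ cE₀ g)ᵒᵖ} (φ : p ⟶ q),
      (subDiagram ((pA E₀ cE₀ g).op ⋙ E₀) (Jf E₀ cE₀ g) (fun φ => hJf E₀ cE₀ g φ)).map φ ≫
        ((Jf E₀ cE₀ g q).subschemeι ≫ g q.unop.a) =
      (Jf E₀ cE₀ g p).subschemeι ≫ g p.unop.a := by
    intro p q φ
    have h1 : (subDiagram ((pA E₀ cE₀ g).op ⋙ E₀) (Jf E₀ cE₀ g)
        (fun φ => hJf E₀ cE₀ g φ)).map φ ≫ (Jf E₀ cE₀ g q).subschemeι =
        (Jf E₀ cE₀ g p).subschemeι ≫ ((pA E₀ cE₀ g).op ⋙ E₀).map φ :=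
      Scheme.IdealSheafData.subschemeMap_subschemeι _ _ _ (hJf E₀ cE₀ g φ)
    have h2 : ((pA E₀ cE₀ g).op ⋙ E₀).map φ ≫ g q.unop.a = g p.unop.a :=
      hg (Idx.le_a (leOfHom φ.unop))
    calc _ = ((subDiagram ((pA E₀ cE₀ g).op ⋙ E₀) (Jf E₀ cE₀ g)
            (fun φ => hJf E₀ cE₀ g φ)).map φ ≫ (Jf E₀ cE₀ g q).subschemeι) ≫ g q.unop.a :=
          (Category.assoc _ _ _).symm
      _ = ((Jf E₀ cE₀ g p).subschemeι ≫ ((pA E₀ cE₀ g).op ⋙ E₀).map φ) ≫ g q.unop.a :=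
          congrArg (· ≫ g q.unop.a) h1
      _ = (Jf E₀ cE₀ g p).subschemeι ≫ (((pA E₀ cE₀ g).op ⋙ E₀).map φ ≫ g q.unop.a) :=
          Category.assoc _ _ _
      _ = _ := congrArg ((Jf E₀ cE₀ g p).subschemeι ≫ ·) h2
  have ht : ∀ p : (Idx E₀ cE₀ g)ᵒᵖ,
      cX.π.app p ≫ ((Jf E₀ cE₀ g p).subschemeι ≫ g p.unop.a) = eX.hom ≫ ν := by
    intro p
    rw [← Category.assoc, hcomp p, Category.assoc]
    exact congrArg (eX.hom ≫ ·) (hν p.unop.a)
  refine ⟨Idx E₀ cE₀ g, inferInstance, hdir, hne,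
    overLift (subDiagram ((pA E₀ cE₀ g).op ⋙ E₀) (Jf E₀ cE₀ g) (fun φ => hJf E₀ cE₀ g φ))
      (fun p => (Jf E₀ cE₀ g p).subschemeι ≫ g p.unop.a) hs,
    overLiftCone _ _ hs cX (eX.hom ≫ ν) ht, isLimitOverLiftCone _ _ hs cX _ ht hcX,
    fun p => ⟨p.unop.fin, ?_⟩, ⟨Over.isoMk eX rfl⟩⟩
  haveI := lfp_of_ft p.unop.J p.unop.ft
  show LocallyOfFinitePresentation (p.unop.J.subschemeι ≫ g p.unop.a)
  infer_instance

end Sys

attribute [local instance] IsCofiltered.isConnected in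
/-- **S7382** -/
theorem main7382 {X S : Scheme.{u}} (f : X ⟶ S) [IsIntegralHom f]
    [CompactSpace S] [QuasiSeparatedSpace S] :
    ∃ (I : Type u) (_ : Preorder I) (_ : IsDirected I (fun a b => a ≤ b)) (_ : Nonempty I)
      (D : Iᵒᵖ ⥤ Over S) (c : Limits.Cone D) (_ : Limits.IsLimit c),
      (∀ i, IsFinite (D.obj i).hom ∧ LocallyOfFinitePresentation (D.obj i).hom) ∧
      Nonempty (c.pt ≅ Over.mk f) := by
  obtain ⟨A, iP, iD, iN, D, c, hc, h1, ⟨e⟩⟩ := affine_setup f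
  have hc1 : IsLimit ((Over.forget S).mapCone c) := isLimitOfPreserves (Over.forget S) hc
  haveI : ∀ a : A, @IsAffineHom ((D ⋙ Over.forget S).obj (op a)) S (D.obj (op a)).hom :=
    fun a => (h1 (op a)).1
  haveI : ∀ a : A, @LocallyOfFinitePresentation ((D ⋙ Over.forget S).obj (op a)) S
      (D.obj (op a)).hom := fun a => (h1 (op a)).2
  have hint : IsIntegralHom c.pt.hom := by
    have h4 : e.hom.left ≫ f = c.pt.hom := Over.w e.hom
    rw [← h4]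
    haveI : IsIso e.hom.left := inferInstance
    infer_instance
  haveI : @IsIntegralHom ((Over.forget S).mapCone c).pt S c.pt.hom := hint
  obtain ⟨I, iP', iD', iN', Dov, cov, hcov, h2, ⟨e'⟩⟩ :=
    main_abstract (D ⋙ Over.forget S) ((Over.forget S).mapCone c)
      (fun a => (D.obj (op a)).hom) (fun h => Over.w (D.map (homOfLE h).op)) c.pt.hom
      (fun a => Over.w (c.π.app (op a))) hc1
  exact ⟨I, iP', iD', iN', Dov, cov, hcov, h2,
    ⟨e' ≪≫ Over.isoMk (Iso.refl _) (by simp) ≪≫ e⟩⟩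

end Groth.Agent.Lib.IntegralLimH7
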