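import Mathlib
import Groth.Prelude
import Groth.Agent.Lib.ProperStage_helper7

/-!
# A proper morphism is a limit of proper morphisms of finite presentation (helper7)
-/

set_option autoImplicit false
set_option linter.style.haveILetI false
universe u
open CategoryTheory CategoryTheory.Limits AlgebraicGeometry TopologicalSpace Opposite

namespace Groth.Agent.Lib.ProperLimH7
open Groth.Agent.Lib.NApxG_helper7 Groth.Agent.Lib.IdealFTH7 Groth.Agent.Lib.ProperStageH7

attribute [local instance] IsCofiltered.isConnected in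
/-- **S2079** -/
theorem main2079 {X S : Scheme.{u}} (f : X ⟶ S) [IsProper f] [CompactSpace S]
    [QuasiSeparatedSpace S] :
    ∃ (I : Type u) (_ : SmallCategory I) (_ : IsCofiltered I) (D : I ⥤ Over S) (c : Limits.Cone D)
      (_ : Limits.IsLimit c) (e : c.pt ≅ Over.mk f),
      (∀ (i j : I) (a : i ⟶ j), IsClosedImmersion (D.map a).left) ∧
      (∀ i, IsClosedImmersion (c.π.app i).left ∧ IsProper (D.obj i).hom ∧
        LocallyOfFinitePresentation (D.obj i).hom) := by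
  obtain ⟨Y, g, ι, hg0, hg1, hg2, hι, hιg⟩ := closedImmersion_fp_separated f
  haveI := hg0
  haveI := hg1
  haveI := hg2
  haveI := hι
  haveI hY1 : CompactSpace Y := QuasiCompact.compactSpace_of_compactSpace g
  haveI hY2 : QuasiSeparatedSpace Y := quasiSeparatedSpace_of_quasiSeparated g
  subst hιg
  obtain ⟨c₀, hc₀⟩ : ∃ c₀ : Set Y.IdealSheafData,
      c₀ = {J | J ≤ ι.ker ∧ ∀ W : Y.affineOpens, (J.ideal W).FG} := ⟨_, rfl⟩
  have hmem₀ : ∀ J, J ∈ c₀ ↔ (J ≤ ι.ker ∧ ∀ W : Y.affineOpens, (J.ideal W).FG) := by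
    intro J
    rw [hc₀]
    rfl
  have hsup₀ : sSup c₀ = ι.ker := by
    rw [hc₀]
    exact sSup_ft_eq ι.ker
  have hdir₀ : ∀ J₁ ∈ c₀, ∀ J₂ ∈ c₀, ∃ J₃ ∈ c₀, J₁ ≤ J₃ ∧ J₂ ≤ J₃ := by
    intro J₁ h1 J₂ h2
    rw [hmem₀] at h1 h2
    exact ⟨J₁ ⊔ J₂, (hmem₀ _).2 ⟨sup_le h1.1 h2.1, ft_sup h1.2 h2.2⟩, le_sup_left, le_sup_right⟩
  obtain ⟨J₁, hJ₁c, hJ₁p⟩ := exists_isProper_of_sSup ι g c₀
    ⟨⊥, (hmem₀ _).2 ⟨bot_le, ft_bot⟩⟩ hdir₀ hsup₀
  obtain ⟨c, hc⟩ : ∃ c : Set Y.IdealSheafData, c = {J | J ∈ c₀ ∧ J₁ ≤ J} := ⟨_, rfl⟩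
  have hmem : ∀ J, J ∈ c ↔ (J ∈ c₀ ∧ J₁ ≤ J) := by
    intro J
    rw [hc]
    rfl
  have hsup : sSup c = ι.ker := by
    apply le_antisymm
    · refine sSup_le fun J hJ => ?_
      exact ((hmem₀ J).1 ((hmem J).1 hJ).1).1
    · rw [← hsup₀]
      refine sSup_le fun J hJ => ?_
      obtain ⟨J₃, hJ₃, h1, h2⟩ := hdir₀ J hJ J₁ hJ₁c
      exact h1.trans (le_sSup ((hmem J₃).2 ⟨hJ₃, h2⟩))
  haveI : Nonempty ↥c := ⟨⟨J₁, (hmem _).2 ⟨hJ₁c, le_refl _⟩⟩⟩
  haveI : IsDirected ↥c (· ≤ ·) := ⟨fun a b => by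
    obtain ⟨J₃, hJ₃, h1, h2⟩ := hdir₀ a.1 ((hmem _).1 a.2).1 b.1 ((hmem _).1 b.2).1
    exact ⟨⟨J₃, (hmem _).2 ⟨hJ₃, ((hmem _).1 a.2).2.trans h1⟩⟩, h1, h2⟩⟩
  -- the limit cone
  have hc0 : IsLimit (sSupCone c) := isLimitSSupCone c
  have hc1 : IsLimit ((Over.forget Y).mapCone (sSupCone c)) :=
    isLimitOfPreserves (Over.forget Y) hc0
  have hc2 : IsLimit ((Over.forget S).mapCone ((Over.map g).mapCone (sSupCone c))) := hc1
  have hc' : IsLimit ((Over.map g).mapCone (sSupCone c)) :=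
    isLimitOfReflects (Over.forget S) hc2
  have key : ∀ K : Y.IdealSheafData, K = ι.ker →
      Nonempty (Over.mk K.subschemeι ≅ Over.mk ι) := by
    rintro _ rfl
    refine ⟨Over.isoMk (asIso ι.toImage).symm ?_⟩
    show inv ι.toImage ≫ ι = ι.ker.subschemeι
    rw [IsIso.inv_comp_eq]
    exact ι.toImage_imageι.symm
  obtain ⟨e₀⟩ := key _ hsup
  have hDci : ∀ i : (↥c)ᵒᵖ, IsClosedImmersion ((subFunctor c).obj i).hom := fun i =>
    show IsClosedImmersion i.unop.1.subschemeι from inferInstance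
  have hsep : ∀ i : (↥c)ᵒᵖ, IsSeparated ((subFunctor c).obj i).hom := fun i => by
    haveI := hDci i
    infer_instance
  refine ⟨(↥c)ᵒᵖ, inferInstance, inferInstance, subFunctor c ⋙ Over.map g,
    (Over.map g).mapCone (sSupCone c), hc', (Over.map g).mapIso e₀, ?_, ?_⟩
  · intro i j a
    have h1 : ((subFunctor c).map a).left ≫ ((subFunctor c).obj j).hom =
        ((subFunctor c).obj i).hom := Over.w ((subFunctor c).map a)
    have h2 : IsClosedImmersion (((subFunctor c).map a).left ≫ ((subFunctor c).obj j).hom) := by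
      rw [h1]
      exact hDci i
    exact @IsClosedImmersion.of_comp _ _ _ ((subFunctor c).map a).left
      ((subFunctor c).obj j).hom h2 (hsep j)
  · intro i
    refine ⟨?_, ?_, ?_⟩
    · have h1 : ((sSupCone c).π.app i).left ≫ ((subFunctor c).obj i).hom =
          (sSupCone c).pt.hom := Over.w ((sSupCone c).π.app i)
      have h2 : IsClosedImmersion (((sSupCone c).π.app i).left ≫
          ((subFunctor c).obj i).hom) := by
        rw [h1]
        show IsClosedImmersion (sSup c).subschemeι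
        infer_instance
      exact @IsClosedImmersion.of_comp _ _ _ ((sSupCone c).π.app i).left
        ((subFunctor c).obj i).hom h2 (hsep i)
    · show IsProper (i.unop.1.subschemeι ≫ g)
      have hle : J₁ ≤ i.unop.1 := ((hmem _).1 i.unop.2).2
      have h1 : Scheme.IdealSheafData.inclusion hle ≫ J₁.subschemeι = i.unop.1.subschemeι :=
        Scheme.IdealSheafData.inclusion_subschemeι hle
      rw [← h1, Category.assoc]
      haveI := hJ₁p
      infer_instance
    · show LocallyOfFinitePresentation (i.unop.1.subschemeι ≫ g)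
      haveI := lfp_of_ft i.unop.1 ((hmem₀ _).1 ((hmem _).1 i.unop.2).1).2
      infer_instance

end Groth.Agent.Lib.ProperLimH7
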