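import Mathlib
import Groth.Prelude
import Groth.Agent.Lib.ProperLim_helper7
import Groth.Agent.Lib.LimFibDimSys_helper7
import Groth.Agent.Lib.NApxO_helper7
import Groth.Agent.Lib.LimDescFP2_helper7
import Groth.Agent.S4815
import Groth.Agent.S4818

/-!
# A proper morphism is a limit of proper morphisms over finite type `ℤ`-schemes (helper7)

* `stage_isProper`, `exists_proper_descent`: proper morphisms of finite presentation descend.
* `exists_ideal_descent`: finite type ideal sheaves on a limit come from a stage.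
* `imgDiagram`, `imgι`, `limIdeal_imgι_eq`: a closed subscheme of a limit is the limit of its
  scheme-theoretic images.
* `main2147`.
-/

set_option autoImplicit false
set_option linter.style.haveILetI false
universe u
open CategoryTheory CategoryTheory.Limits AlgebraicGeometry TopologicalSpace Opposite

namespace Groth.Agent.Lib.ProperLim2H7
open Groth.Agent.Lib.LimBaseChangeH7 Groth.Agent.Lib.LimFibDimSysH7 Groth.Agent.Lib.IdealFTH7
  Groth.Agent.Lib.NApxG_helper7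

/-- Properness descends to a stage (base change form). -/
theorem stage_isProper {J : Type u} [SmallCategory J] [IsCofiltered J] (E : J ⥤ Scheme.{u})
    (cE : Cone E) (hcE : IsLimit cE) [∀ (i j : J) (f : i ⟶ j), IsAffineHom (E.map f)] (j₀ : J)
    [CompactSpace (E.obj j₀)] [QuasiSeparatedSpace (E.obj j₀)] {X₀ : Scheme.{u}}
    (f₀ : X₀ ⟶ E.obj j₀) [LocallyOfFiniteType f₀] [CompactSpace X₀] [QuasiSeparatedSpace X₀]
    [hP : IsProper (pullback.snd f₀ (cE.π.app j₀))] :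
    ∃ (j : J) (φ : j ⟶ j₀), IsProper (pullback.snd f₀ (E.map φ)) := by
  have hY : IsPullback (cE.π.app j₀) (𝟙 cE.pt) (𝟙 (E.obj j₀)) (cE.π.app j₀) :=
    IsPullback.of_id_snd
  obtain ⟨i, φ, Xi, Yi, fi, gi, pY, pX, h1, h2, h3⟩ :=
    Groth.Agent.Lib.NApxO_helper7.main2074 E cE hcE j₀ f₀ (𝟙 _) (pullback.snd f₀ (cE.π.app j₀))
      (𝟙 _) (cE.π.app j₀) (pullback.fst f₀ (cE.π.app j₀)) hY
      (IsPullback.of_hasPullback f₀ (cE.π.app j₀))
  refine ⟨i, φ, ?_⟩
  haveI : IsIso gi := h1.isIso_snd_of_isIso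
  have h4 := h2.paste_vert h1
  rw [Category.comp_id] at h4
  have e' : pullback.snd f₀ (E.map φ) = h4.isoPullback.inv ≫ fi ≫ gi :=
    (Iso.eq_inv_comp _).2 h4.isoPullback_hom_snd
  rw [e']
  infer_instance

/-- Proper morphisms of finite presentation descend to a stage. -/
theorem exists_proper_descent {I : Type u} [SmallCategory I] [IsCofiltered I] (D : I ⥤ Scheme.{u})
    (c : Cone D) (hc : IsLimit c) [∀ (i j : I) (f : i ⟶ j), IsAffineHom (D.map f)]
    [∀ i, CompactSpace (D.obj i)] [∀ i, QuasiSeparatedSpace (D.obj i)] {X₁ : Scheme.{u}}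
    (h : X₁ ⟶ c.pt) [IsProper h] [LocallyOfFinitePresentation h] :
    ∃ (i : I) (X₁₀ : Scheme.{u}) (h₀ : X₁₀ ⟶ D.obj i) (q : X₁ ⟶ X₁₀), IsProper h₀ ∧
      LocallyOfFinitePresentation h₀ ∧ IsPullback q h h₀ (c.π.app i) := by
  obtain ⟨i₁, X₁₁, h₁, q₁, hlfp, hqc, hqs, sq⟩ :=
    Groth.Agent.Lib.LimDescFPH7.main591 hc X₁ h
  haveI := hlfp
  haveI := hqc
  haveI := hqs
  haveI : CompactSpace X₁₁ := QuasiCompact.compactSpace_of_compactSpace h₁
  haveI : QuasiSeparatedSpace X₁₁ := quasiSeparatedSpace_of_quasiSeparated h₁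
  haveI : IsProper (pullback.snd h₁ (c.π.app i₁)) := by
    have e' : pullback.snd h₁ (c.π.app i₁) = sq.isoPullback.inv ≫ h :=
      (Iso.eq_inv_comp _).2 sq.isoPullback_hom_snd
    rw [e']
    infer_instance
  obtain ⟨i, φ, hp⟩ := stage_isProper D c hc i₁ h₁
  refine ⟨i, pullback h₁ (D.map φ), pullback.snd h₁ (D.map φ),
    pullback.lift q₁ (h ≫ c.π.app i) (by rw [Category.assoc, c.w, sq.w]), hp,
    MorphismProperty.pullback_snd _ _ inferInstance, ?_⟩
  refine IsPullback.of_right ?_ (pullback.lift_snd _ _ _)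
    (IsPullback.of_hasPullback h₁ (D.map φ))
  rw [pullback.lift_fst, c.w]
  exact sq

/-- Finite type ideal sheaves on a limit come from a stage. -/
theorem exists_ideal_descent {I : Type u} [SmallCategory I] [IsCofiltered I] (D : I ⥤ Scheme.{u})
    (c : Cone D) (hc : IsLimit c) [∀ (i j : I) (f : i ⟶ j), IsAffineHom (D.map f)]
    [∀ i, CompactSpace (D.obj i)] [∀ i, QuasiSeparatedSpace (D.obj i)]
    (J : c.pt.IdealSheafData) (hJ : ∀ W : c.pt.affineOpens, (J.ideal W).FG) :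
    ∃ (k : I) (Jk : (D.obj k).IdealSheafData), J = Jk.comap (c.π.app k) := by
  obtain ⟨i₀⟩ := IsCofiltered.nonempty (C := I)
  haveI := lfp_of_ft J hJ
  obtain ⟨j, -, Zj, ιj, q, h1, h2, h3, sq⟩ := Groth.Agent.S4815.result D c hc i₀ J.subschemeι
  haveI := h1
  haveI := h2
  haveI := h3
  have hcl : IsClosedImmersion (pullback.snd ιj (c.π.app j)) := by
    have e' : pullback.snd ιj (c.π.app j) = sq.isoPullback.inv ≫ J.subschemeι :=
      (Iso.eq_inv_comp _).2 sq.isoPullback_hom_snd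
    rw [e']
    infer_instance
  obtain ⟨k, φ, hk⟩ := (Groth.Agent.S4818.result D c hc j ιj).1 hcl
  haveI := hk
  refine ⟨k, (pullback.snd ιj (D.map φ)).ker, ?_⟩
  have sq' : IsPullback (pullback.lift q (J.subschemeι ≫ c.π.app k)
      (by rw [Category.assoc, c.w, sq.w])) J.subschemeι (pullback.snd ιj (D.map φ))
      (c.π.app k) := by
    refine IsPullback.of_right ?_ (pullback.lift_snd _ _ _)
      (IsPullback.of_hasPullback ιj (D.map φ))
    rw [pullback.lift_fst, c.w]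
    exact sq
  have e2 := sq'.flip.isoPullback_hom_fst
  calc J = J.subschemeι.ker := (Scheme.IdealSheafData.ker_subschemeι J).symm
    _ = (sq'.flip.isoPullback.hom ≫
          pullback.fst (c.π.app k) (pullback.snd ιj (D.map φ))).ker := by rw [e2]
    _ = (pullback.fst (c.π.app k) (pullback.snd ιj (D.map φ))).ker :=
        Scheme.Hom.ker_comp_of_isIso _ _
    _ = _ := Scheme.IdealSheafData.ker_fst_of_isClosedImmersion _ _

section Image

variable {𝒥 : Type u} [SmallCategory 𝒥] (L : 𝒥 ⥤ Scheme.{u}) (Lc : Cone L)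
  {X : Scheme.{u}} (ι₁ : X ⟶ Lc.pt)

/-- The diagram of scheme-theoretic images of `X` in the stages. -/
noncomputable def imgDiagram : 𝒥 ⥤ Scheme.{u} where
  obj j := (ι₁ ≫ Lc.π.app j).ker.subscheme
  map {j k} a := Scheme.IdealSheafData.subschemeMap _ _ (L.map a) (by
    rw [Scheme.IdealSheafData.map_ker, Category.assoc, Lc.w])
  map_id _ := by simp [← cancel_mono (Scheme.IdealSheafData.subschemeι _)]
  map_comp _ _ := by simp [← cancel_mono (Scheme.IdealSheafData.subschemeι _)]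

/-- The inclusions of the images. -/
noncomputable def imgι : imgDiagram L Lc ι₁ ⟶ L where
  app j := Scheme.IdealSheafData.subschemeι _
  naturality _ _ _ := by simp [imgDiagram]

instance (j : 𝒥) : IsClosedImmersion ((imgι L Lc ι₁).app j) :=
  inferInstanceAs (IsClosedImmersion (Scheme.IdealSheafData.subschemeι _))

lemma ker_imgι_app (j : 𝒥) : ((imgι L Lc ι₁).app j).ker = ι₁.ker.map (Lc.π.app j) := by
  show (Scheme.IdealSheafData.subschemeι _).ker = _
  rw [Scheme.IdealSheafData.ker_subschemeι, Scheme.IdealSheafData.map_ker]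

variable [IsCofiltered 𝒥] (hLc : IsLimit Lc) [∀ (i j : 𝒥) (f : i ⟶ j), IsAffineHom (L.map f)]
  [∀ i, CompactSpace (L.obj i)] [∀ i, QuasiSeparatedSpace (L.obj i)]

include hLc in
theorem limIdeal_imgι_eq : limIdeal (imgι L Lc ι₁) Lc = ι₁.ker := by
  apply le_antisymm
  · unfold limIdeal
    refine iSup_le fun j => ?_
    rw [ker_imgι_app]
    exact Scheme.IdealSheafData.comap_map_le _ _
  · obtain ⟨i₀⟩ := IsCofiltered.nonempty (C := 𝒥)
    haveI : CompactSpace Lc.pt := LimConstr.compactSpace_pt L Lc hLc i₀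
    haveI : QuasiSeparatedSpace Lc.pt := LimConstr.quasiSeparatedSpace_pt L Lc hLc i₀
    rw [← sSup_ft_eq ι₁.ker]
    refine sSup_le fun J hJ => ?_
    obtain ⟨hJ1, hJ2⟩ := hJ
    obtain ⟨k, Jk, hk⟩ := exists_ideal_descent L Lc hLc J hJ2
    have h1 : Jk ≤ ι₁.ker.map (Lc.π.app k) := by
      rw [Scheme.IdealSheafData.le_map_iff_comap_le, ← hk]
      exact hJ1
    have h2 : J ≤ ((imgι L Lc ι₁).app k).ker.comap (Lc.π.app k) := by
      rw [ker_imgι_app]
      calc J = Jk.comap (Lc.π.app k) := hk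
        _ ≤ _ := Scheme.IdealSheafData.comap_mono _ h1
    exact h2.trans (le_iSup (fun j => ((imgι L Lc ι₁).app j).ker.comap (Lc.π.app j)) k)

end Image

/-- A proper morphism factors through a closed immersion into a proper morphism of finite
presentation. -/
theorem exists_proper_fp {X S : Scheme.{u}} (f : X ⟶ S) [IsProper f] [CompactSpace S]
    [QuasiSeparatedSpace S] :
    ∃ (X₁ : Scheme.{u}) (h₁ : X₁ ⟶ S) (ι₁ : X ⟶ X₁), IsProper h₁ ∧
      LocallyOfFinitePresentation h₁ ∧ IsClosedImmersion ι₁ ∧ ι₁ ≫ h₁ = f := by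
  obtain ⟨I, _, _, D, c, hc, e, h1, h2⟩ := Groth.Agent.Lib.ProperLimH7.main2079 f
  obtain ⟨i⟩ := IsCofiltered.nonempty (C := I)
  refine ⟨(D.obj i).left, (D.obj i).hom, (e.inv ≫ c.π.app i).left, (h2 i).2.1, (h2 i).2.2, ?_,
    Over.w (e.inv ≫ c.π.app i)⟩
  haveI := (h2 i).1
  haveI : IsIso e.inv.left := inferInstance
  show IsClosedImmersion (e.inv.left ≫ (c.π.app i).left)
  infer_instance

section Package

variable {𝒥 : Type u} [SmallCategory 𝒥] (L : 𝒥 ⥤ Scheme.{u}) (Lc : Cone L)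
  {X : Scheme.{u}} (ι₁ : X ⟶ Lc.pt)

instance isAffineHom_imgDiagram_map [∀ (i j : 𝒥) (f : i ⟶ j), IsAffineHom (L.map f)] {j k : 𝒥}
    (a : j ⟶ k) : IsAffineHom ((imgDiagram L Lc ι₁).map a) := by
  have h : (imgDiagram L Lc ι₁).map a ≫ (imgι L Lc ι₁).app k =
      (imgι L Lc ι₁).app j ≫ L.map a := (imgι L Lc ι₁).naturality a
  haveI : IsAffineHom ((imgDiagram L Lc ι₁).map a ≫ (imgι L Lc ι₁).app k) := by
    rw [h]
    infer_instance
  exact IsAffineHom.of_comp _ ((imgι L Lc ι₁).app k)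

lemma exists_iso_of_eq_ker {X Y : Scheme.{u}} (ι₁ : X ⟶ Y) (hι₁ : IsClosedImmersion ι₁)
    (K : Y.IdealSheafData) (hK : K = ι₁.ker) :
    ∃ e : K.subscheme ≅ X, e.hom ≫ ι₁ = K.subschemeι := by
  subst hK
  haveI := hι₁
  refine ⟨(asIso ι₁.toImage).symm, ?_⟩
  show inv ι₁.toImage ≫ ι₁ = _
  rw [IsIso.inv_comp_eq]
  exact ι₁.toImage_imageι.symm

/-- A closed subscheme of a limit is the limit of its scheme-theoretic images. -/
theorem exists_limit_images [IsCofiltered 𝒥] (hLc : IsLimit Lc)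
    [∀ (i j : 𝒥) (f : i ⟶ j), IsAffineHom (L.map f)]
    [∀ i, CompactSpace (L.obj i)] [∀ i, QuasiSeparatedSpace (L.obj i)]
    (hι₁ : IsClosedImmersion ι₁) :
    ∃ (cX : Cone (imgDiagram L Lc ι₁)) (_ : IsLimit cX) (eX : cX.pt ≅ X),
      ∀ j, cX.π.app j ≫ (imgι L Lc ι₁).app j = eX.hom ≫ ι₁ ≫ Lc.π.app j := by
  obtain ⟨e, he⟩ := exists_iso_of_eq_ker ι₁ hι₁ _ (limIdeal_imgι_eq L Lc ι₁ hLc)
  refine ⟨limCone (imgι L Lc ι₁) Lc, isLimitLimCone (imgι L Lc ι₁) Lc hLc, e, fun j => ?_⟩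
  calc (limCone (imgι L Lc ι₁) Lc).π.app j ≫ (imgι L Lc ι₁).app j
      = (limIdeal (imgι L Lc ι₁) Lc).subschemeι ≫ Lc.π.app j := limCone_π_fac _ _ j
    _ = (e.hom ≫ ι₁) ≫ Lc.π.app j := by rw [he]
    _ = e.hom ≫ ι₁ ≫ Lc.π.app j := Category.assoc _ _ _

end Package

/-- **S2147** -/
theorem main2147 {X S : Scheme.{u}} (f : X ⟶ S) [IsProper f] [CompactSpace S]
    [QuasiSeparatedSpace S] :
    ∃ (I : Type u) (_ : SmallCategory I) (_ : IsCofiltered I) (DX DS : I ⥤ Scheme.{u}) (φ : DX ⟶ DS)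
      (cX : Limits.Cone DX) (cS : Limits.Cone DS) (_ : Limits.IsLimit cX) (_ : Limits.IsLimit cS)
      (eX : cX.pt ≅ X) (eS : cS.pt ≅ S),
      (∀ (i j : I) (a : i ⟶ j), IsAffineHom (DX.map a) ∧ IsAffineHom (DS.map a)) ∧
      (∀ i, IsProper (φ.app i) ∧ CompactSpace (DS.obj i) ∧
        LocallyOfFiniteType (Limits.IsTerminal.from specULiftZIsTerminal (DS.obj i))) ∧
      (∀ i, cX.π.app i ≫ φ.app i = eX.hom ≫ f ≫ eS.inv ≫ cS.π.app i) := by
  obtain ⟨Λ, iP, iD, iN, DS₀, cS₀, hcS₀, haff, hft, ⟨eS⟩⟩ :=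
    Groth.Agent.Lib.NApxE_helper7.approx_abs S
  haveI : ∀ (i j : Λᵒᵖ) (g : i ⟶ j), IsAffineHom (DS₀.map g) := haff
  haveI : ∀ k, CompactSpace (DS₀.obj k) := fun k => (hft k).1
  haveI : ∀ k, QuasiSeparatedSpace (DS₀.obj k) := fun k => by
    haveI := Groth.Agent.Lib.NApxD1_helper7.isNoetherian_of_ftz (DS₀.obj k) (hft k).2
    infer_instance
  obtain ⟨X₁, h₁, ι₁, hp1, hfp1, hcl1, hfac1⟩ := exists_proper_fp f
  haveI := hp1
  haveI := hfp1
  haveI : IsProper (h₁ ≫ eS.inv) := inferInstance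
  haveI : LocallyOfFinitePresentation (h₁ ≫ eS.inv) := inferInstance
  obtain ⟨i, X₁₀, h₀, q, hp0, hfp0, sq⟩ := exists_proper_descent DS₀ cS₀ hcS₀ (h₁ ≫ eS.inv)
  haveI := hp0
  haveI := hfp0
  haveI : CompactSpace X₁₀ := QuasiCompact.compactSpace_of_compactSpace h₀
  haveI : QuasiSeparatedSpace X₁₀ := quasiSeparatedSpace_of_quasiSeparated h₀
  obtain ⟨Lc, hLc, e, hLcπ⟩ : ∃ (Lc : Cone (bcDiagram DS₀ i h₀)) (_ : IsLimit Lc) (e : Lc.pt ≅ X₁),
      ∀ j, Lc.π.app j ≫ pullback.snd h₀ (DS₀.map j.hom) =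
        e.hom ≫ (h₁ ≫ eS.inv) ≫ cS₀.π.app j.left :=
    ⟨bcCone cS₀ sq, isLimitBcCone cS₀ sq hcS₀, Iso.refl _, fun j =>
      (bcCone_π_snd cS₀ sq j).trans (Category.id_comp _).symm⟩
  haveI : IsClosedImmersion (ι₁ ≫ e.inv) := inferInstance
  obtain ⟨cX, hcX, eX, hcomp⟩ := exists_limit_images (bcDiagram DS₀ i h₀) Lc (ι₁ ≫ e.inv)
    hLc inferInstance
  refine ⟨Over i, inferInstance, inferInstance, imgDiagram (bcDiagram DS₀ i h₀) Lc (ι₁ ≫ e.inv),
    Over.forget i ⋙ DS₀, imgι (bcDiagram DS₀ i h₀) Lc (ι₁ ≫ e.inv) ≫ bcDiagramι DS₀ i h₀,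
    cX, cS₀.whisker (Over.forget i), hcX,
    (Functor.Initial.isLimitWhiskerEquiv (Over.forget i) cS₀).symm hcS₀, eX, eS, ?_, ?_, ?_⟩
  · intro j k a
    refine ⟨inferInstance, ?_⟩
    show IsAffineHom (DS₀.map a.left)
    infer_instance
  · intro j
    refine ⟨?_, (hft j.left).1, (hft j.left).2⟩
    haveI : IsProper ((imgι (bcDiagram DS₀ i h₀) Lc (ι₁ ≫ e.inv)).app j) := inferInstance
    haveI : IsProper ((bcDiagramι DS₀ i h₀).app j) := by
      show IsProper (pullback.snd h₀ (DS₀.map j.hom))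
      infer_instance
    show IsProper ((imgι (bcDiagram DS₀ i h₀) Lc (ι₁ ≫ e.inv)).app j ≫
      (bcDiagramι DS₀ i h₀).app j)
    infer_instance
  · intro j
    show cX.π.app j ≫ (imgι (bcDiagram DS₀ i h₀) Lc (ι₁ ≫ e.inv)).app j ≫
      pullback.snd h₀ (DS₀.map j.hom) = eX.hom ≫ f ≫ eS.inv ≫ cS₀.π.app j.left
    rw [← Category.assoc, hcomp j]
    simp only [Category.assoc]
    rw [hLcπ j, Iso.inv_hom_id_assoc, ← hfac1]
    simp only [Category.assoc]

end Groth.Agent.Lib.ProperLim2H7
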