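import Mathlib
import Groth.Agent.Lib.ChevE_helper8
import Groth.Agent.Lib.IntegralLim_helper7
import Groth.Agent.Lib.ProperLim2_helper7
import Groth.Agent.Lib.NApxE_helper7
import Groth.Agent.Lib.LimSurj_helper7

/-!
# Chevalley's theorem in general (helper7)

`isAffine_of_surjective_universallyClosed`: if `f : X ⟶ S` is surjective and universally closed
with `X` affine, then `S` is affine (no Noetherian hypotheses).

Steps: a universally closed morphism from an affine scheme is affine, hence integral; an integral
morphism over a qcqs base is a limit of finite, finitely presented ones (`IntegralLimH7.main7382`);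
a finite finitely presented surjective morphism descends to a Noetherian approximation of the base
(`NApxE.approx_abs`, `ProperLim2H7.exists_proper_descent`), where helper8's Noetherian Chevalley
theorem (`ChevEH8.isAffine_of_finite_surjective`) applies.
-/

set_option autoImplicit false
set_option backward.isDefEq.respectTransparency false
universe u
open CategoryTheory CategoryTheory.Limits AlgebraicGeometry

namespace Groth.Agent.Lib.ChevGenH7
open Groth.Agent.Lib.LimBaseChangeH7 Groth.Agent.Lib.LimIsoH7 Groth.Agent.Lib.LimDescendH7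

/-- A quasi-affine scheme which is universally closed over an affine scheme is affine. -/
theorem isAffine_of_isQuasiAffine_of_universallyClosed {W T : Scheme.{u}} (g : W ⟶ T)
    [W.IsQuasiAffine] [IsAffine T] [UniversallyClosed g] : IsAffine W := by
  have h1 : UniversallyClosed (W.toSpecΓ ≫ Spec.map g.appTop) := by
    rwa [← Scheme.toSpecΓ_naturality,
      MorphismProperty.cancel_right_of_respectsIso (P := @UniversallyClosed)]
  haveI : UniversallyClosed W.toSpecΓ := .of_comp_of_isSeparated _ (Spec.map g.appTop)
  have hclosed : IsClosed (Set.range W.toSpecΓ) := W.toSpecΓ.isClosedMap.isClosed_range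
  have hdense : DenseRange W.toSpecΓ := W.toSpecΓ.denseRange
  have hsurj : Function.Surjective W.toSpecΓ := by
    rw [← Set.range_eq_univ, ← hclosed.closure_eq]
    exact hdense.closure_range
  haveI : Surjective W.toSpecΓ := ⟨hsurj⟩
  haveI : IsIso W.toSpecΓ :=
    (isIso_iff_isOpenImmersion_and_surjective W.toSpecΓ).mpr ⟨inferInstance, inferInstance⟩
  exact ⟨inferInstance⟩

/-- A universally closed morphism from an affine scheme is affine. -/
theorem isAffineHom_of_universallyClosed {X S : Scheme.{u}} (f : X ⟶ S) [IsAffine X]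
    [UniversallyClosed f] : IsAffineHom f := by
  refine ⟨fun V hV => ?_⟩
  haveI : IsAffine (V : Scheme.{u}) := hV
  have hc : IsCompact ((f ⁻¹ᵁ V : X.Opens) : Set X) :=
    QuasiCompact.isCompact_preimage (f := f) (V : Set S) V.2 hV.isCompact
  haveI : CompactSpace ((f ⁻¹ᵁ V : X.Opens) : Scheme.{u}) := isCompact_iff_compactSpace.mp hc
  haveI : ((f ⁻¹ᵁ V : X.Opens) : Scheme.{u}).IsQuasiAffine :=
    Scheme.IsQuasiAffine.of_isImmersion (f ⁻¹ᵁ V).ι
  haveI : UniversallyClosed (f ∣_ V) :=
    IsZariskiLocalAtTarget.restrict (P := @UniversallyClosed) inferInstance V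
  exact isAffine_of_isQuasiAffine_of_universallyClosed (f ∣_ V)

theorem isIntegralHom_of_universallyClosed {X S : Scheme.{u}} (f : X ⟶ S) [IsAffine X]
    [UniversallyClosed f] : IsIntegralHom f := by
  haveI := isAffineHom_of_universallyClosed f
  exact IsIntegralHom.iff_universallyClosed_and_isAffineHom.mpr ⟨inferInstance, inferInstance⟩

theorem compactSpace_of_surjective {X S : Scheme.{u}} (f : X ⟶ S) [CompactSpace X]
    [Surjective f] : CompactSpace S := by
  constructor
  rw [← f.surjective.range_eq]
  exact isCompact_range f.continuous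

theorem quasiSeparatedSpace_of_surjective {X S : Scheme.{u}} (f : X ⟶ S)
    [QuasiSeparatedSpace X] [QuasiCompact f] [Surjective f] : QuasiSeparatedSpace S := by
  rw [quasiSeparatedSpace_iff_forall_affineOpens]
  intro U V
  have hU : IsCompact (f ⁻¹' (U : Set S)) :=
    QuasiCompact.isCompact_preimage (f := f) (U : Set S) U.1.2 U.2.isCompact
  have hV : IsCompact (f ⁻¹' (V : Set S)) :=
    QuasiCompact.isCompact_preimage (f := f) (V : Set S) V.1.2 V.2.isCompact
  have h := QuasiSeparatedSpace.inter_isCompact (f ⁻¹' (U : Set S)) (f ⁻¹' (V : Set S))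
    (U.1.2.preimage f.continuous) hU (V.1.2.preimage f.continuous) hV
  have e : ((U : Set S) ∩ (V : Set S)) = f '' (f ⁻¹' (U : Set S) ∩ f ⁻¹' (V : Set S)) := by
    rw [← Set.preimage_inter, Set.image_preimage_eq _ f.surjective]
  rw [e]
  exact h.image f.continuous

section Core

variable {J : Type u} [SmallCategory J] [IsCofiltered J] (E : J ⥤ Scheme.{u}) (cE : Cone E)
  (hcE : IsLimit cE) [∀ (i j : J) (f : i ⟶ j), IsAffineHom (E.map f)]

include hcE in
/-- Core step: a proper surjective morphism to a Noetherian stage whose base change to the limit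
has affine source forces the limit to be affine. -/
theorem isAffine_pt_of_stage (hN : ∀ j, IsNoetherian (E.obj j)) (j₁ : J) {Y₁ Y : Scheme.{u}}
    (h₁ : Y₁ ⟶ E.obj j₁) [IsProper h₁] [Surjective h₁] [IsAffine Y] (q₁ : Y ⟶ Y₁)
    (g' : Y ⟶ cE.pt) (hpb₁ : IsPullback q₁ g' h₁ (cE.π.app j₁)) : IsAffine cE.pt := by
  haveI := hN j₁
  haveI : CompactSpace Y₁ := QuasiCompact.compactSpace_of_compactSpace h₁
  haveI : QuasiSeparatedSpace Y₁ := quasiSeparatedSpace_of_quasiSeparated h₁
  haveI : IsAffine (bcCone cE hpb₁).pt := (inferInstance : IsAffine Y)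
  obtain ⟨j₂, hj₂⟩ := Scheme.exists_isAffine_of_isLimit (bcDiagram E j₁ h₁) (bcCone cE hpb₁)
    (isLimitBcCone cE hpb₁ hcE)
  haveI : IsAffine (pullback h₁ (E.map j₂.hom)) := hj₂
  haveI : IsProper (pullback.snd h₁ (E.map j₂.hom)) := inferInstance
  haveI : Surjective (pullback.snd h₁ (E.map j₂.hom)) := inferInstance
  haveI : IsAffineHom (pullback.snd h₁ (E.map j₂.hom)) :=
    isAffineHom_of_universallyClosed (pullback.snd h₁ (E.map j₂.hom))
  haveI : IsFinite (pullback.snd h₁ (E.map j₂.hom)) :=
    IsFinite.iff_isProper_and_isAffineHom.mpr ⟨inferInstance, inferInstance⟩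
  haveI := hN j₂.left
  haveI : IsAffine (E.obj j₂.left) :=
    ChevEH8.isAffine_of_finite_surjective (pullback.snd h₁ (E.map j₂.hom))
  haveI : IsAffineHom (cE.π.app j₂.left) := isAffineHom_π_app E cE hcE j₂.left
  exact isAffine_of_isAffineHom (cE.π.app j₂.left)

end Core

/-- Chevalley for finite, finitely presented surjective morphisms over a qcqs base. -/
theorem isAffine_of_finite_fp_surjective {Y S : Scheme.{u}} (g : Y ⟶ S) [IsFinite g]
    [LocallyOfFinitePresentation g] [Surjective g] [IsAffine Y] [CompactSpace S]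
    [QuasiSeparatedSpace S] : IsAffine S := by
  obtain ⟨J, iP, iD, iN, E, cE, hcE, haff, hprops, ⟨e⟩⟩ :=
    Groth.Agent.Lib.NApxE_helper7.approx_abs S
  haveI := haff
  haveI : ∀ j, CompactSpace (E.obj j) := fun j => (hprops j).1
  haveI : IsNoetherianRing (ULift.{u} ℤ) :=
    isNoetherianRing_of_ringEquiv ℤ (ULift.ringEquiv (R := ℤ)).symm
  have hN : ∀ j, IsNoetherian (E.obj j) := fun j => by
    haveI := (hprops j).2
    haveI : IsLocallyNoetherian (E.obj j) :=
      LocallyOfFiniteType.isLocallyNoetherian (specULiftZIsTerminal.from (E.obj j))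
    exact { }
  haveI : ∀ j, QuasiSeparatedSpace (E.obj j) := fun j => by
    haveI := hN j
    infer_instance
  haveI : IsFinite (g ≫ e.inv) := inferInstance
  haveI : IsProper (g ≫ e.inv) := inferInstance
  haveI : LocallyOfFinitePresentation (g ≫ e.inv) := inferInstance
  haveI : Surjective (g ≫ e.inv) := inferInstance
  obtain ⟨j, Y₀, h₀, q, hprop, hlfp, hpb⟩ :=
    Groth.Agent.Lib.ProperLim2H7.exists_proper_descent E cE hcE (g ≫ e.inv)
  haveI := hprop
  haveI := hlfp
  have hsurj0 : Surjective (pullback.snd h₀ (cE.π.app j)) := by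
    have h1 : hpb.isoPullback.hom ≫ pullback.snd h₀ (cE.π.app j) = g ≫ e.inv :=
      hpb.isoPullback_hom_snd
    have h2 : pullback.snd h₀ (cE.π.app j) = hpb.isoPullback.inv ≫ (g ≫ e.inv) :=
      ((Iso.inv_comp_eq _).mpr h1.symm).symm
    rw [h2]
    infer_instance
  obtain ⟨j₁, φ₁, hs₁⟩ := exists_snd_of_compact (P := @Surjective)
    (H := fun f => LocallyOfFinitePresentation f ∧ QuasiCompact f ∧ QuasiSeparated f)
    Groth.Agent.Lib.LimSurjH7.affineStage_surjective
    (fun f g h => by
      obtain ⟨h1, h2, h3⟩ := h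
      exact ⟨inferInstance, inferInstance, inferInstance⟩)
    E cE hcE j h₀ ⟨inferInstance, inferInstance, inferInstance⟩ hsurj0
  haveI := hs₁
  have hpb₁ := isPullback_bcCone_π cE hpb (Over.mk φ₁)
  haveI : IsProper (pullback.snd h₀ (E.map φ₁)) := inferInstance
  haveI : IsAffine cE.pt := isAffine_pt_of_stage E cE hcE hN j₁ (Y := Y) (pullback.snd h₀ (E.map φ₁))
    ((bcCone cE hpb).π.app (Over.mk φ₁)) (g ≫ e.inv) hpb₁
  exact .of_isIso e.inv

attribute [local instance] IsCofiltered.isConnected in
/-- Chevalley for integral surjective morphisms over a qcqs base. -/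
theorem isAffine_of_integral_surjective {X S : Scheme.{u}} (f : X ⟶ S) [IsIntegralHom f]
    [Surjective f] [IsAffine X] [CompactSpace S] [QuasiSeparatedSpace S] : IsAffine S := by
  obtain ⟨I, iP, iD, iN, D, c, hc, h1, ⟨e⟩⟩ := Groth.Agent.Lib.IntegralLimH7.main7382 f
  have hc1 : IsLimit ((Over.forget S).mapCone c) := isLimitOfPreserves (Over.forget S) hc
  haveI : ∀ (i j : Iᵒᵖ) (a : i ⟶ j), IsAffineHom ((D ⋙ Over.forget S).map a) := fun i j a => by
    haveI : IsFinite (D.obj j).hom := (h1 j).1
    haveI : IsFinite (D.obj i).hom := (h1 i).1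
    haveI : IsAffineHom ((D.map a).left ≫ (D.obj j).hom) := by
      rw [Over.w]; infer_instance
    exact IsAffineHom.of_comp (D.map a).left (D.obj j).hom
  haveI : ∀ i, CompactSpace ((D ⋙ Over.forget S).obj i) := fun i => by
    haveI : IsFinite (D.obj i).hom := (h1 i).1
    exact QuasiCompact.compactSpace_of_compactSpace (D.obj i).hom
  haveI : ∀ i, QuasiSeparatedSpace ((D ⋙ Over.forget S).obj i) := fun i => by
    haveI : IsFinite (D.obj i).hom := (h1 i).1
    exact quasiSeparatedSpace_of_quasiSeparated (D.obj i).hom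
  haveI : IsAffine ((Over.forget S).mapCone c).pt := by
    show IsAffine c.pt.left
    haveI : IsIso e.hom.left := inferInstance
    haveI : IsAffine (Over.mk f).left := (inferInstance : IsAffine X)
    exact .of_isIso e.hom.left
  obtain ⟨i, hi⟩ := Scheme.exists_isAffine_of_isLimit (D ⋙ Over.forget S)
    ((Over.forget S).mapCone c) hc1
  haveI : IsAffine (D.obj i).left := hi
  haveI : IsFinite (D.obj i).hom := (h1 i).1
  haveI : LocallyOfFinitePresentation (D.obj i).hom := (h1 i).2
  haveI : Surjective (D.obj i).hom := by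
    have h3 : (c.π.app i).left ≫ (D.obj i).hom = c.pt.hom := Over.w (c.π.app i)
    have h4 : e.hom.left ≫ f = c.pt.hom := Over.w e.hom
    haveI : IsIso e.hom.left := inferInstance
    haveI : Surjective c.pt.hom := by rw [← h4]; infer_instance
    haveI : Surjective ((c.π.app i).left ≫ (D.obj i).hom) := by rw [h3]; infer_instance
    exact Surjective.of_comp (c.π.app i).left (D.obj i).hom
  exact isAffine_of_finite_fp_surjective (D.obj i).hom

/-- **Chevalley's theorem**: the target of a surjective universally closed morphism from an affine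
scheme is affine. -/
theorem isAffine_of_surjective_universallyClosed {X S : Scheme.{u}} (f : X ⟶ S) [IsAffine X]
    [Surjective f] [UniversallyClosed f] : IsAffine S := by
  haveI := compactSpace_of_surjective f
  haveI := quasiSeparatedSpace_of_surjective f
  haveI := isIntegralHom_of_universallyClosed f
  exact isAffine_of_integral_surjective f

end Groth.Agent.Lib.ChevGenH7
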