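import Mathlib
import Groth.Agent.Lib.ChevGen_helper7

/-!
# Applications of the general Chevalley theorem (helper7)
-/

set_option autoImplicit false
set_option backward.isDefEq.respectTransparency false
universe u v
open CategoryTheory CategoryTheory.Limits AlgebraicGeometry

namespace Groth.Agent.Lib.ChevAppsH7
open Groth.Agent.Lib.ChevGenH7

section Sigma

variable {X : Scheme.{u}} {κ : Type v} [Finite κ] (Z : κ → Scheme.{u}) (ι : ∀ k, Z k ⟶ X)

theorem sigmaDesc_apply (k : κ) (y : Z k) : Sigma.desc ι (Sigma.ι Z k y) = ι k y := by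
  rw [← Scheme.Hom.comp_apply, Sigma.ι_desc]

theorem exists_sigmaι_eq (x : ↥(∐ Z)) : ∃ (k : κ) (y : Z k), Sigma.ι Z k y = x := by
  obtain ⟨k, y, hy⟩ := (sigmaOpenCover Z).exists_eq x
  exact ⟨k, y, hy⟩

theorem quasiCompact_sigmaDesc [∀ k, QuasiCompact (ι k)] : QuasiCompact (Sigma.desc ι) := by
  refine ⟨fun U hU hUc => ?_⟩
  have e : (Sigma.desc ι) ⁻¹' U = ⋃ k, Sigma.ι Z k '' ((ι k) ⁻¹' U) := by
    ext x
    simp only [Set.mem_preimage, Set.mem_iUnion, Set.mem_image]
    constructor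
    · intro hx
      obtain ⟨k, y, rfl⟩ := exists_sigmaι_eq Z x
      rw [sigmaDesc_apply] at hx
      exact ⟨k, y, hx, rfl⟩
    · rintro ⟨k, y, hy, rfl⟩
      rw [sigmaDesc_apply]
      exact hy
  rw [e]
  exact isCompact_iUnion fun k =>
    (QuasiCompact.isCompact_preimage (f := ι k) U hU hUc).image (Sigma.ι Z k).continuous

theorem universallyClosed_sigmaDesc [∀ k, UniversallyClosed (ι k)] :
    UniversallyClosed (Sigma.desc ι) := by
  haveI : QuasiCompact (Sigma.desc ι) := quasiCompact_sigmaDesc Z ι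
  apply UniversallyClosed.of_valuativeCriterion
  intro S
  obtain ⟨k, y, hy⟩ := exists_sigmaι_eq Z (S.i₁ (IsLocalRing.closedPoint S.K))
  have hrange : Set.range S.i₁ ⊆ Set.range (Sigma.ι Z k) := by
    rintro _ ⟨p, rfl⟩
    have hp : p = IsLocalRing.closedPoint S.K := Subsingleton.elim _ _
    rw [hp]
    exact ⟨y, hy⟩
  obtain ⟨l, hl⟩ : ∃ l : Spec (CommRingCat.of S.K) ⟶ Z k, l ≫ Sigma.ι Z k = S.i₁ :=
    ⟨_, IsOpenImmersion.lift_fac _ _ hrange⟩
  have sq : CommSq l
      (Spec.map (CommRingCat.ofHom (algebraMap S.R S.K))) (ι k) S.i₂ := ⟨by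
    calc l ≫ ι k = l ≫ (Sigma.ι Z k ≫ Sigma.desc ι) := by rw [Sigma.ι_desc]
      _ = (l ≫ Sigma.ι Z k) ≫ Sigma.desc ι := (Category.assoc _ _ _).symm
      _ = S.i₁ ≫ Sigma.desc ι := by rw [hl]
      _ = _ := S.commSq.w⟩
  have hex : ValuativeCriterion.Existence (ι k) := by
    have h0 : UniversallyClosed (ι k) := inferInstance
    rw [UniversallyClosed.eq_valuativeCriterion] at h0
    exact h0.1
  obtain ⟨⟨m, hm1, hm2⟩⟩ := (hex ⟨S.R, S.K, _, S.i₂, sq⟩).exists_lift
  exact ⟨⟨⟨m ≫ Sigma.ι Z k, by rw [← Category.assoc, hm1, hl],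
    by rw [Category.assoc, Sigma.ι_desc, hm2]⟩⟩⟩

/-- A scheme covered by finitely many affine closed subschemes is affine. -/
theorem isAffine_of_finite_closed_cover [∀ k, IsClosedImmersion (ι k)] [∀ k, IsAffine (Z k)]
    (hcov : ∀ x : X, ∃ k, x ∈ Set.range (ι k)) : IsAffine X := by
  haveI : UniversallyClosed (Sigma.desc ι) := universallyClosed_sigmaDesc Z ι
  haveI : Surjective (Sigma.desc ι) := Surjective.sigmaDesc_of_union_range_eq_univ (by
    rw [Set.eq_univ_iff_forall]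
    intro x
    obtain ⟨k, hk⟩ := hcov x
    exact Set.mem_iUnion.mpr ⟨k, hk⟩)
  exact isAffine_of_surjective_universallyClosed (Sigma.desc ι)

end Sigma

/-- Scheme-theoretic image of an integral composite with separated second map. -/
theorem integral_image {X Y S : Scheme.{u}} (f : X ⟶ Y) (g : Y ⟶ S) [IsSeparated g]
    [IsIntegralHom (f ≫ g)] :
    Surjective f.toImage ∧ IsIntegralHom (f.imageι ≫ g) := by
  haveI : IsAffineHom f := IsAffineHom.of_comp f g
  haveI : UniversallyClosed f := UniversallyClosed.of_comp_of_isSeparated f g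
  haveI : UniversallyClosed f.toImage := inferInstance
  haveI : IsDominant f.toImage := inferInstance
  have hclosed : IsClosed (Set.range f.toImage) := f.toImage.isClosedMap.isClosed_range
  have hdense : DenseRange f.toImage := f.toImage.denseRange
  have hsurj : Function.Surjective f.toImage := by
    rw [← Set.range_eq_univ, ← hclosed.closure_eq]
    exact hdense.closure_range
  haveI : Surjective f.toImage := ⟨hsurj⟩
  refine ⟨inferInstance, ?_⟩
  have e : f.toImage ≫ (f.imageι ≫ g) = f ≫ g := by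
    rw [← Category.assoc, Scheme.Hom.toImage_imageι]
  haveI : UniversallyClosed (f.toImage ≫ (f.imageι ≫ g)) := by
    rw [e]; infer_instance
  haveI : UniversallyClosed (f.imageι ≫ g) :=
    UniversallyClosed.of_comp_surjective f.toImage (f.imageι ≫ g)
  haveI : IsAffineHom (f.imageι ≫ g) := by
    refine ⟨fun V hV => ?_⟩
    have hAff : IsAffineOpen ((f ≫ g) ⁻¹ᵁ V) := hV.preimage (f ≫ g)
    have hpre : f.toImage ⁻¹ᵁ ((f.imageι ≫ g) ⁻¹ᵁ V) = (f ≫ g) ⁻¹ᵁ V := by
      rw [← Scheme.Hom.comp_preimage, e]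
    haveI : IsAffine ((f.toImage ⁻¹ᵁ ((f.imageι ≫ g) ⁻¹ᵁ V) : X.Opens) : Scheme.{u}) := by
      rw [hpre]; exact hAff
    haveI : Surjective (f.toImage ∣_ ((f.imageι ≫ g) ⁻¹ᵁ V)) :=
      IsZariskiLocalAtTarget.restrict (P := @Surjective) inferInstance _
    haveI : UniversallyClosed (f.toImage ∣_ ((f.imageι ≫ g) ⁻¹ᵁ V)) :=
      IsZariskiLocalAtTarget.restrict (P := @UniversallyClosed) inferInstance _
    exact isAffine_of_surjective_universallyClosed (f.toImage ∣_ ((f.imageι ≫ g) ⁻¹ᵁ V))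
  exact IsIntegralHom.iff_universallyClosed_and_isAffineHom.mpr ⟨inferInstance, inferInstance⟩

theorem main13712 {X Y S : Scheme.{u}} (f : X ⟶ Y) (g : Y ⟶ S) [IsSeparated g]
    [IsIntegralHom (f ≫ g)] (hfin : ∀ s : S, Set.Finite ((f ≫ g).base ⁻¹' {s})) :
    IsIntegralHom (f.imageι ≫ g) ∧ ∀ s : S, Set.Finite ((f.imageι ≫ g).base ⁻¹' {s}) := by
  obtain ⟨hs, hi⟩ := integral_image f g
  refine ⟨hi, fun s => ?_⟩
  have e : f.toImage ≫ (f.imageι ≫ g) = f ≫ g := by
    rw [← Category.assoc, Scheme.Hom.toImage_imageι]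
  refine ((hfin s).image f.toImage).subset ?_
  intro y hy
  obtain ⟨x, rfl⟩ := hs.surj y
  refine ⟨x, ?_, rfl⟩
  have h1 : (f ≫ g) x = (f.imageι ≫ g) (f.toImage x) := by
    rw [← e, Scheme.Hom.comp_apply]
  exact h1.trans hy

end Groth.Agent.Lib.ChevAppsH7
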