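import Mathlib
import Groth.Agent.Lib.ChevApps_helper7

/-!
# Finding affine opens containing finite sets of points (helper7)
-/

set_option autoImplicit false
set_option backward.isDefEq.respectTransparency false
universe u v
open CategoryTheory CategoryTheory.Limits AlgebraicGeometry

namespace Groth.Agent.Lib.AffNbhdH7

section Algebra
variable {R : Type*} [CommRing R]

theorem exists_mem_not_mem_primes (I : Ideal R) (F : Set (PrimeSpectrum R)) (hF : F.Finite)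
    (h : ∀ p ∈ F, ¬ I ≤ p.asIdeal) : ∃ a ∈ I, ∀ p ∈ F, a ∉ p.asIdeal := by
  by_contra hcon
  push_neg at hcon
  have hfin : ((fun p : PrimeSpectrum R => p.asIdeal) '' F).Finite := hF.image _
  obtain ⟨J, ⟨p, hp, rfl⟩, hIp⟩ := (Ideal.subset_union_prime_finite hfin (f := id) 0 0
    (fun i hi _ _ => by obtain ⟨p, _, rfl⟩ := hi; exact p.isPrime)).1 (by
      intro a ha
      obtain ⟨p, hp, hap⟩ := hcon a ha
      exact Set.mem_iUnion₂.mpr ⟨p.asIdeal, ⟨p, hp, rfl⟩, hap⟩)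
  exact h p hp hIp

theorem exists_add_not_mem_primes (I : Ideal R) (g₀ : R) (F : Set (PrimeSpectrum R))
    (hF : F.Finite) (h : ∀ p ∈ F, I ≤ p.asIdeal → g₀ ∉ p.asIdeal) :
    ∃ a ∈ I, ∀ p ∈ F, g₀ + a ∉ p.asIdeal := by
  classical
  set M : Set (PrimeSpectrum R) := {q | Maximal (· ∈ F) q} with hM
  have hMF : M ⊆ F := fun q hq => hq.prop
  have hMfin : M.Finite := hF.subset hMF
  set B : Set (PrimeSpectrum R) := {q | q ∈ M ∧ g₀ ∉ q.asIdeal} with hB
  set A : Set (PrimeSpectrum R) := {q | q ∈ M ∧ g₀ ∈ q.asIdeal} with hA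
  have hBfin : B.Finite := hMfin.subset (fun q hq => hq.1)
  have hAfin : A.Finite := hMfin.subset (fun q hq => hq.1)
  set J : Ideal R := I ⊓ hBfin.toFinset.inf (fun p => p.asIdeal) with hJdef
  have hJ : ∀ q ∈ A, ¬ J ≤ q.asIdeal := by
    intro q hq hJq
    rcases (q.isPrime.inf_le).1 hJq with h1 | h1
    · exact h q (hMF hq.1) h1 hq.2
    · obtain ⟨p, hp, hpq⟩ := (q.isPrime.inf_le').1 h1
      rw [Set.Finite.mem_toFinset] at hp
      have hpq' : p ≤ q := (PrimeSpectrum.asIdeal_le_asIdeal p q).1 hpq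
      have hqp : q ≤ p := hp.1.le_of_ge (hMF hq.1) hpq'
      have hpeq : p = q := le_antisymm hpq' hqp
      rw [hpeq] at hp
      exact hp.2 hq.2
  obtain ⟨a, haJ, ha⟩ := exists_mem_not_mem_primes J A hAfin hJ
  obtain ⟨haI, haB⟩ := Ideal.mem_inf.1 haJ
  refine ⟨a, haI, fun p hp hmem => ?_⟩
  obtain ⟨q, hpq, hq⟩ := hF.exists_le_maximal hp
  have hq' : g₀ + a ∈ q.asIdeal := (PrimeSpectrum.asIdeal_le_asIdeal p q).2 hpq hmem
  by_cases hg : g₀ ∈ q.asIdeal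
  · have haq : a ∈ q.asIdeal := by simpa using q.asIdeal.sub_mem hq' hg
    exact ha q ⟨hq, hg⟩ haq
  · have haq : a ∈ q.asIdeal :=
      (Finset.inf_le (f := fun p : PrimeSpectrum R => p.asIdeal)
        ((Set.Finite.mem_toFinset hBfin).2 ⟨hq, hg⟩)) haB
    exact hg (by simpa using q.asIdeal.sub_mem hq' haq)

end Algebra

section Affine

theorem mem_basicOpen_iff (A : Scheme.{u}) (f : Γ(A, ⊤)) (x : A) :
    x ∈ A.basicOpen f ↔ f ∉ (A.toSpecΓ x).asIdeal := by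
  rw [← Scheme.toSpecΓ_preimage_basicOpen]
  exact Iff.rfl

theorem exists_basicOpen_avoid (A : Scheme.{u}) [IsAffine A] (C : Set A) (hC : IsClosed C)
    (F : Set A) (hF : F.Finite) (hdisj : ∀ x ∈ F, x ∉ C) :
    ∃ f : Γ(A, ⊤), (∀ x ∈ F, x ∈ A.basicOpen f) ∧ ∀ x ∈ A.basicOpen f, x ∉ C := by
  have hcl : IsClosed (A.toSpecΓ '' C : Set (PrimeSpectrum Γ(A, ⊤))) :=
    A.toSpecΓ.isClosedEmbedding.isClosedMap _ hC
  have hinj : Function.Injective A.toSpecΓ := A.toSpecΓ.isClosedEmbedding.injective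
  set I : Ideal Γ(A, ⊤) :=
    PrimeSpectrum.vanishingIdeal (A.toSpecΓ '' C : Set (PrimeSpectrum Γ(A, ⊤))) with hI
  have h1 : ∀ x ∈ F, ¬ I ≤ (A.toSpecΓ x).asIdeal := by
    intro x hx hle
    have hz : (A.toSpecΓ x : PrimeSpectrum Γ(A, ⊤)) ∈
        PrimeSpectrum.zeroLocus (I : Set Γ(A, ⊤)) := hle
    rw [hI, PrimeSpectrum.zeroLocus_vanishingIdeal_eq_closure, hcl.closure_eq] at hz
    obtain ⟨c, hc, hcx⟩ := hz
    exact hdisj x hx (hinj hcx ▸ hc)
  obtain ⟨a, haI, ha⟩ := exists_mem_not_mem_primes I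
    (A.toSpecΓ '' F : Set (PrimeSpectrum Γ(A, ⊤))) (hF.image _) (by
      rintro _ ⟨x, hx, rfl⟩; exact h1 x hx)
  refine ⟨a, fun x hx => (mem_basicOpen_iff A a x).2 (ha _ ⟨x, hx, rfl⟩), fun x hx hxC => ?_⟩
  refine (mem_basicOpen_iff A a x).1 hx ?_
  exact (PrimeSpectrum.mem_vanishingIdeal _ _).1 haI _ ⟨x, hxC, rfl⟩

theorem exists_lift_section {A W : Scheme.{u}} [IsAffine A] (i : W ⟶ A) [IsClosedImmersion i]
    (s : Γ(W, ⊤)) (F : Set A) (hF : F.Finite)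
    (h : ∀ w : W, i w ∈ F → w ∈ W.basicOpen s) :
    ∃ g : Γ(A, ⊤), i.appTop.hom g = s ∧ ∀ x ∈ F, x ∈ A.basicOpen g := by
  obtain ⟨hWaff, hsurj⟩ := IsClosedImmersion.isAffine_surjective_of_isAffine i
  haveI := hWaff
  obtain ⟨g₀, hg₀⟩ := hsurj s
  set I : Ideal Γ(A, ⊤) := RingHom.ker i.appTop.hom with hI
  have hinj : Function.Injective A.toSpecΓ := A.toSpecΓ.isClosedEmbedding.injective
  have hWsurj : Function.Surjective W.toSpecΓ := W.toSpecΓ.surjective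
  have key : ∀ x ∈ F, I ≤ (A.toSpecΓ x).asIdeal → g₀ ∉ (A.toSpecΓ x).asIdeal := by
    intro x hx hle
    have hx' : (A.toSpecΓ x : PrimeSpectrum Γ(A, ⊤)) ∈
        Set.range (PrimeSpectrum.comap i.appTop.hom) := by
      rw [range_comap_of_surjective _ _ hsurj]
      exact hle
    obtain ⟨w', hw'⟩ := hx'
    obtain ⟨w, rfl⟩ := hWsurj w'
    have e : A.toSpecΓ (i w) = A.toSpecΓ x := by
      have := congrArg (fun φ : W ⟶ Spec Γ(A, ⊤) => φ w) (Scheme.toSpecΓ_naturality i)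
      simp only [Scheme.Hom.comp_apply] at this
      exact this.trans hw'
    have hiw : i w = x := hinj e
    have hw : w ∈ W.basicOpen s := h w (hiw ▸ hx)
    have hw2 : w ∈ i ⁻¹ᵁ A.basicOpen g₀ := by
      rw [Scheme.preimage_basicOpen_top]
      have e2 : i.appTop g₀ = s := hg₀
      rw [e2]; exact hw
    have hx2 : x ∈ A.basicOpen g₀ := hiw ▸ hw2
    exact (mem_basicOpen_iff A g₀ x).1 hx2
  obtain ⟨a, haI, ha⟩ := exists_add_not_mem_primes I g₀
    (A.toSpecΓ '' F : Set (PrimeSpectrum Γ(A, ⊤))) (hF.image _) (by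
      rintro _ ⟨x, hx, rfl⟩; exact key x hx)
  refine ⟨g₀ + a, ?_, fun x hx => (mem_basicOpen_iff A _ x).2 (ha _ ⟨x, hx, rfl⟩)⟩
  have ha0 : i.appTop.hom a = 0 := haI
  have hg0' : i.appTop.hom g₀ = s := hg₀
  rw [map_add, ha0, hg0', add_zero]

end Affine

section Top

theorem top_glue {X Y₁ Y₂ : Type*} [TopologicalSpace X] [TopologicalSpace Y₁]
    [TopologicalSpace Y₂] {ι₁ : Y₁ → X} {ι₂ : Y₂ → X}
    (h₁ : Topology.IsClosedEmbedding ι₁) (h₂ : Topology.IsClosedEmbedding ι₂)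
    (D₁ : Set Y₁) (D₂ : Set Y₂) (hD₁ : IsOpen D₁) (hD₂ : IsOpen D₂)
    (hcompat : ∀ y z, ι₁ y = ι₂ z → (y ∈ D₁ ↔ z ∈ D₂)) :
    ∃ U : Set X, IsOpen U ∧ ι₁ ⁻¹' U = D₁ ∧ ι₂ ⁻¹' U = D₂ := by
  refine ⟨(ι₁ '' D₁ᶜ ∪ ι₂ '' D₂ᶜ)ᶜ, ?_, ?_, ?_⟩
  · exact ((h₁.isClosedMap _ hD₁.isClosed_compl).union
      (h₂.isClosedMap _ hD₂.isClosed_compl)).isOpen_compl
  · ext y
    simp only [Set.mem_preimage, Set.mem_compl_iff, Set.mem_union, Set.mem_image, not_or,
      not_exists, not_and]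
    constructor
    · rintro ⟨ha, _⟩
      by_contra hy
      exact ha y hy rfl
    · intro hy
      refine ⟨fun y' hy' he => hy' (h₁.injective he ▸ hy), fun z hz he => ?_⟩
      exact hz ((hcompat y z he.symm).1 hy)
  · ext z
    simp only [Set.mem_preimage, Set.mem_compl_iff, Set.mem_union, Set.mem_image, not_or,
      not_exists, not_and]
    constructor
    · rintro ⟨_, ha⟩
      by_contra hz
      exact ha z hz rfl
    · intro hz
      refine ⟨fun y hy he => ?_, fun z' hz' he => hz' (h₂.injective he ▸ hz)⟩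
      exact hy ((hcompat y z he).2 hz)

end Top

section Two

theorem isAffine_of_two_closed_cover {X Z₁ Z₂ : Scheme.{u}} (i₁ : Z₁ ⟶ X) (i₂ : Z₂ ⟶ X)
    [IsClosedImmersion i₁] [IsClosedImmersion i₂] [IsAffine Z₁] [IsAffine Z₂]
    (hcov : ∀ x : X, x ∈ Set.range i₁ ∨ x ∈ Set.range i₂) : IsAffine X := by
  let Z : Bool → Scheme.{u} := fun b => cond b Z₁ Z₂
  let ι : ∀ b, Z b ⟶ X := fun b => Bool.rec (motive := fun b => Z b ⟶ X) i₂ i₁ b
  haveI : ∀ b, IsClosedImmersion (ι b) := by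
    intro b; cases b
    · show IsClosedImmersion i₂; infer_instance
    · show IsClosedImmersion i₁; infer_instance
  haveI : ∀ b, IsAffine (Z b) := by
    intro b; cases b
    · show IsAffine Z₂; infer_instance
    · show IsAffine Z₁; infer_instance
  refine ChevAppsH7.isAffine_of_finite_closed_cover Z ι (fun x => ?_)
  rcases hcov x with h | h
  · exact ⟨true, h⟩
  · exact ⟨false, h⟩

theorem mem_range_restrict {X Y : Scheme.{u}} (f : Y ⟶ X) (U : X.Opens) (x : U.toScheme) (y : Y)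
    (hy : f y = U.ι x) : x ∈ Set.range (f ∣_ U) := by
  have hyU : y ∈ Set.range (f ⁻¹ᵁ U).ι := by
    rw [Scheme.Opens.range_ι]
    show f y ∈ U
    rw [hy]
    have : U.ι x ∈ Set.range U.ι := ⟨x, rfl⟩
    rwa [Scheme.Opens.range_ι] at this
  obtain ⟨y', rfl⟩ := hyU
  refine ⟨y', U.ι.isOpenEmbedding.injective ?_⟩
  rw [← hy, ← Scheme.Hom.comp_apply, ← Scheme.Hom.comp_apply, morphismRestrict_ι]

theorem exists_section_avoid {X Y : Scheme.{u}} (ι : Y ⟶ X) (hι : Function.Injective ι)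
    (V : Y.Opens) (hV : IsAffineOpen V) (T K : Set X) (hT : T.Finite) (hK : IsClosed K)
    (hTK : ∀ x ∈ T, x ∉ K) :
    ∃ f : Γ(V.toScheme, ⊤),
      (∀ a : V.toScheme, ι (V.ι a) ∈ T → a ∈ V.toScheme.basicOpen f) ∧
      ∀ a ∈ V.toScheme.basicOpen f, ι (V.ι a) ∉ K := by
  haveI : IsAffine V.toScheme := hV
  have hinj : Function.Injective (fun a : V.toScheme => ι (V.ι a)) :=
    hι.comp V.ι.isOpenEmbedding.injective
  have hcont : Continuous (fun a : V.toScheme => ι (V.ι a)) :=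
    ι.continuous.comp V.ι.continuous
  obtain ⟨f, hf1, hf2⟩ := exists_basicOpen_avoid V.toScheme
    ((fun a : V.toScheme => ι (V.ι a)) ⁻¹' K) (hK.preimage hcont)
    ((fun a : V.toScheme => ι (V.ι a)) ⁻¹' T) (hT.preimage hinj.injOn)
    (fun a ha haK => hTK _ ha haK)
  exact ⟨f, fun a ha => hf1 a ha, fun a ha => hf2 a ha⟩

theorem exists_affine_two {X Y₁ Y₂ : Scheme.{u}} (ι₁ : Y₁ ⟶ X) (ι₂ : Y₂ ⟶ X)
    [IsClosedImmersion ι₁] [IsClosedImmersion ι₂]
    (hcov : ∀ x : X, x ∈ Set.range ι₁ ∨ x ∈ Set.range ι₂)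
    (T : Set X) (hT : T.Finite)
    (V₁ : Y₁.Opens) (hV₁ : IsAffineOpen V₁) (hT₁ : ∀ y, ι₁ y ∈ T → y ∈ V₁)
    (V₂ : Y₂.Opens) (hV₂ : IsAffineOpen V₂) (hT₂ : ∀ z, ι₂ z ∈ T → z ∈ V₂) :
    ∃ U : X.Opens, IsAffineOpen U ∧ T ⊆ (U : Set X) := by
  have inj₁ : Function.Injective ι₁ := ι₁.isClosedEmbedding.injective
  have inj₂ : Function.Injective ι₂ := ι₂.isClosedEmbedding.injective
  -- Step 1: shrink V₁
  have hK₁ : IsClosed (ι₂ '' ((V₂ : Set Y₂)ᶜ)) :=
    ι₂.isClosedEmbedding.isClosedMap _ V₂.isOpen.isClosed_compl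
  obtain ⟨f₁, hf₁a, hf₁b⟩ := exists_section_avoid ι₁ inj₁ V₁ hV₁ T _ hT hK₁ (by
    rintro t ht ⟨z, hz, rfl⟩
    exact hz (hT₂ z ht))
  haveI : IsAffine V₁.toScheme := hV₁
  set V₁' : Y₁.Opens := V₁.ι ''ᵁ (V₁.toScheme.basicOpen f₁) with hV₁'def
  have hV₁' : IsAffineOpen V₁' :=
    ((isAffineOpen_top V₁.toScheme).basicOpen f₁).image_of_isOpenImmersion V₁.ι
  have P1 : ∀ y, ι₁ y ∈ T → y ∈ V₁' := by
    intro y hy
    have hyV : y ∈ Set.range V₁.ι := by rw [Scheme.Opens.range_ι]; exact hT₁ y hy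
    obtain ⟨a, rfl⟩ := hyV
    exact ⟨a, hf₁a a hy, rfl⟩
  have P2 : ∀ y ∈ V₁', ∀ z, ι₁ y = ι₂ z → z ∈ V₂ := by
    rintro _ ⟨a, ha, rfl⟩ z hz
    by_contra hzV
    exact hf₁b a ha ⟨z, hzV, hz.symm⟩
  -- Step 2: the function h on V₂
  have hK₂ : IsClosed (ι₁ '' ((V₁' : Set Y₁)ᶜ)) :=
    ι₁.isClosedEmbedding.isClosedMap _ V₁'.isOpen.isClosed_compl
  obtain ⟨h, hha, hhb⟩ := exists_section_avoid ι₂ inj₂ V₂ hV₂ T _ hT hK₂ (by
    rintro t ht ⟨y, hy, rfl⟩
    exact hy (P1 y ht))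
  haveI : IsAffine V₂.toScheme := hV₂
  have Q2 : ∀ b ∈ V₂.toScheme.basicOpen h, ∀ y, ι₁ y = ι₂ (V₂.ι b) → y ∈ V₁' := by
    intro b hb y hy
    by_contra hyV
    exact hhb b hb ⟨y, hyV, hy⟩
  -- Step 3: lift h to V₁'
  haveI : IsAffine V₁'.toScheme := hV₁'
  let p : pullback (V₁'.ι ≫ ι₁) ι₂ ⟶ V₁'.toScheme := pullback.fst _ _
  let q : pullback (V₁'.ι ≫ ι₁) ι₂ ⟶ Y₂ := pullback.snd _ _
  haveI : IsClosedImmersion p := inferInstance
  have hw : ∀ w, ι₁ (V₁'.ι (p w)) = ι₂ (q w) := fun w => by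
    have := congrArg (fun φ : pullback (V₁'.ι ≫ ι₁) ι₂ ⟶ X => φ w)
      (pullback.condition (f := V₁'.ι ≫ ι₁) (g := ι₂))
    simpa only [Scheme.Hom.comp_apply] using this
  have hmem₁ : ∀ a : V₁'.toScheme, V₁'.ι a ∈ V₁' := fun a => by
    have : V₁'.ι a ∈ Set.range V₁'.ι := ⟨a, rfl⟩
    rwa [Scheme.Opens.range_ι] at this
  have hrange : Set.range q ⊆ Set.range V₂.ι := by
    rintro _ ⟨w, rfl⟩
    rw [Scheme.Opens.range_ι]
    exact P2 _ (hmem₁ (p w)) _ (hw w)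
  let l : pullback (V₁'.ι ≫ ι₁) ι₂ ⟶ V₂.toScheme := IsOpenImmersion.lift V₂.ι q hrange
  have hl : l ≫ V₂.ι = q := IsOpenImmersion.lift_fac _ _ _
  have hlw : ∀ w, V₂.ι (l w) = q w := fun w => by
    rw [← Scheme.Hom.comp_apply, hl]
  have hFfin : ((fun a : V₁'.toScheme => ι₁ (V₁'.ι a)) ⁻¹' T).Finite :=
    hT.preimage ((inj₁.comp V₁'.ι.isOpenEmbedding.injective).injOn)
  obtain ⟨g, hg, hgF⟩ := exists_lift_section p (l.appTop.hom h) _ hFfin (by
    intro w hwF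
    have h1 : ι₂ (V₂.ι (l w)) ∈ T := by rw [hlw, ← hw]; exact hwF
    have h2 : l w ∈ V₂.toScheme.basicOpen h := hha _ h1
    have h3 : w ∈ l ⁻¹ᵁ V₂.toScheme.basicOpen h := h2
    rw [Scheme.preimage_basicOpen_top] at h3
    exact h3)
  -- Step 4: compatibility
  have star : ∀ (a : V₁'.toScheme) (b : V₂.toScheme), ι₁ (V₁'.ι a) = ι₂ (V₂.ι b) →
      (a ∈ V₁'.toScheme.basicOpen g ↔ b ∈ V₂.toScheme.basicOpen h) := by
    intro a b hab
    obtain ⟨w, hw1, hw2⟩ := Scheme.Pullback.exists_preimage_pullback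
      (f := V₁'.ι ≫ ι₁) (g := ι₂) a (V₂.ι b) (by rw [Scheme.Hom.comp_apply]; exact hab)
    have hlb : l w = b := V₂.ι.isOpenEmbedding.injective ((hlw w).trans hw2)
    have hpa : p w = a := hw1
    have e1 : p ⁻¹ᵁ V₁'.toScheme.basicOpen g = l ⁻¹ᵁ V₂.toScheme.basicOpen h := by
      rw [Scheme.preimage_basicOpen_top, Scheme.preimage_basicOpen_top]
      have e2 : p.appTop g = l.appTop h := hg
      rw [e2]
    have e3 : w ∈ p ⁻¹ᵁ V₁'.toScheme.basicOpen g ↔ w ∈ l ⁻¹ᵁ V₂.toScheme.basicOpen h := by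
      rw [e1]
    have ha' : (w ∈ p ⁻¹ᵁ V₁'.toScheme.basicOpen g) ↔ a ∈ V₁'.toScheme.basicOpen g := by
      rw [← hpa]; exact Iff.rfl
    have hb' : (w ∈ l ⁻¹ᵁ V₂.toScheme.basicOpen h) ↔ b ∈ V₂.toScheme.basicOpen h := by
      rw [← hlb]; exact Iff.rfl
    exact ha'.symm.trans (e3.trans hb')
  set D₁ : Y₁.Opens := V₁'.ι ''ᵁ (V₁'.toScheme.basicOpen g) with hD₁def
  set D₂ : Y₂.Opens := V₂.ι ''ᵁ (V₂.toScheme.basicOpen h) with hD₂def
  have hD₁ : IsAffineOpen D₁ :=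
    ((isAffineOpen_top V₁'.toScheme).basicOpen g).image_of_isOpenImmersion V₁'.ι
  have hD₂ : IsAffineOpen D₂ :=
    ((isAffineOpen_top V₂.toScheme).basicOpen h).image_of_isOpenImmersion V₂.ι
  have compat : ∀ y z, ι₁ y = ι₂ z → (y ∈ (D₁ : Set Y₁) ↔ z ∈ (D₂ : Set Y₂)) := by
    intro y z hyz
    constructor
    · rintro ⟨a, ha, rfl⟩
      have hz : z ∈ Set.range V₂.ι := by
        rw [Scheme.Opens.range_ι]; exact P2 _ (hmem₁ a) z hyz
      obtain ⟨b, rfl⟩ := hz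
      exact ⟨b, (star a b hyz).1 ha, rfl⟩
    · rintro ⟨b, hb, rfl⟩
      have hy : y ∈ Set.range V₁'.ι := by
        rw [Scheme.Opens.range_ι]; exact Q2 b hb y hyz
      obtain ⟨a, rfl⟩ := hy
      exact ⟨a, (star a b hyz).2 hb, rfl⟩
  -- Step 5: glue
  obtain ⟨U₀, hU₀, hpre₁, hpre₂⟩ := top_glue ι₁.isClosedEmbedding ι₂.isClosedEmbedding
    (D₁ : Set Y₁) (D₂ : Set Y₂) D₁.isOpen D₂.isOpen compat
  let U : X.Opens := ⟨U₀, hU₀⟩
  have e₁ : ι₁ ⁻¹ᵁ U = D₁ := TopologicalSpace.Opens.ext hpre₁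
  have e₂ : ι₂ ⁻¹ᵁ U = D₂ := TopologicalSpace.Opens.ext hpre₂
  have hTU : T ⊆ (U : Set X) := by
    intro t ht
    rcases hcov t with ⟨y, rfl⟩ | ⟨z, rfl⟩
    · have hy : y ∈ Set.range V₁'.ι := by rw [Scheme.Opens.range_ι]; exact P1 y ht
      obtain ⟨a, rfl⟩ := hy
      have hmem : V₁'.ι a ∈ (D₁ : Set Y₁) := ⟨a, hgF a ht, rfl⟩
      rw [← hpre₁] at hmem
      exact hmem
    · have hz : z ∈ Set.range V₂.ι := by rw [Scheme.Opens.range_ι]; exact hT₂ z ht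
      obtain ⟨b, rfl⟩ := hz
      have hmem : V₂.ι b ∈ (D₂ : Set Y₂) := ⟨b, hha b ht, rfl⟩
      rw [← hpre₂] at hmem
      exact hmem
  refine ⟨U, ?_, hTU⟩
  -- Step 6: U is affine
  haveI : IsAffine ((ι₁ ⁻¹ᵁ U : Y₁.Opens) : Scheme.{u}) := by rw [e₁]; exact hD₁
  haveI : IsAffine ((ι₂ ⁻¹ᵁ U : Y₂.Opens) : Scheme.{u}) := by rw [e₂]; exact hD₂
  haveI : IsClosedImmersion (ι₁ ∣_ U) :=
    IsZariskiLocalAtTarget.restrict (P := @IsClosedImmersion) inferInstance U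
  haveI : IsClosedImmersion (ι₂ ∣_ U) :=
    IsZariskiLocalAtTarget.restrict (P := @IsClosedImmersion) inferInstance U
  show IsAffine U.toScheme
  refine isAffine_of_two_closed_cover (ι₁ ∣_ U) (ι₂ ∣_ U) (fun x => ?_)
  rcases hcov (U.ι x) with ⟨y, hy⟩ | ⟨z, hz⟩
  · left
    exact mem_range_restrict ι₁ U x y hy
  · right
    exact mem_range_restrict ι₂ U x z hz

end Two

section Fin

theorem exists_affine_fin : ∀ (n : ℕ) {X : Scheme.{u}} (Y : Fin n → Scheme.{u})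
    (ι : ∀ k, Y k ⟶ X) [∀ k, IsClosedImmersion (ι k)]
    (_ : ∀ x : X, ∃ k, x ∈ Set.range (ι k)) (T : Set X) (_ : T.Finite)
    (V : ∀ k, (Y k).Opens) (_ : ∀ k, IsAffineOpen (V k))
    (_ : ∀ k y, ι k y ∈ T → y ∈ V k),
    ∃ U : X.Opens, IsAffineOpen U ∧ T ⊆ (U : Set X) := by
  intro n
  induction n with
  | zero =>
    intro X Y ι _ hcov T hT V hV hTV
    refine ⟨⊥, isAffineOpen_bot X, fun t _ => ?_⟩
    obtain ⟨k, _⟩ := hcov t
    exact k.elim0
  | succ n ih =>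
    intro X Y ι _ hcov T hT V hV hTV
    let Y' : Fin n → Scheme.{u} := fun k => Y k.castSucc
    let ι' : ∀ k, Y' k ⟶ X := fun k => ι k.castSucc
    haveI : ∀ k, IsClosedImmersion (ι' k) := fun k => inferInstance
    let d : ∐ Y' ⟶ X := Sigma.desc ι'
    haveI : QuasiCompact d := ChevAppsH7.quasiCompact_sigmaDesc Y' ι'
    haveI : UniversallyClosed d := ChevAppsH7.universallyClosed_sigmaDesc Y' ι'
    let c : d.image ⟶ X := d.imageι
    haveI : UniversallyClosed (d.toImage ≫ d.imageι) := by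
      rw [Scheme.Hom.toImage_imageι]; infer_instance
    haveI : UniversallyClosed d.toImage :=
      UniversallyClosed.of_comp_of_isSeparated d.toImage d.imageι
    have hsurj : Function.Surjective d.toImage := by
      have hclosed : IsClosed (Set.range d.toImage) := d.toImage.isClosedMap.isClosed_range
      rw [← Set.range_eq_univ, ← hclosed.closure_eq]
      exact d.toImage.denseRange.closure_range
    let ι'' : ∀ k, Y' k ⟶ d.image := fun k => Sigma.ι Y' k ≫ d.toImage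
    have hι'' : ∀ k, ι'' k ≫ c = ι' k := fun k => by
      show (Sigma.ι Y' k ≫ d.toImage) ≫ d.imageι = ι' k
      rw [Category.assoc, Scheme.Hom.toImage_imageι]
      exact Sigma.ι_desc ι' k
    haveI : ∀ k, IsClosedImmersion (ι'' k) := fun k => by
      haveI : IsClosedImmersion (ι'' k ≫ c) := by rw [hι'']; infer_instance
      exact IsClosedImmersion.of_comp (ι'' k) c
    have hc : ∀ k (y : Y' k), c (ι'' k y) = ι' k y := fun k y => by
      rw [← Scheme.Hom.comp_apply, hι'']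
    obtain ⟨U', hU', hTU'⟩ := ih (X := d.image) Y' ι'' (by
        intro x'
        obtain ⟨s, rfl⟩ := hsurj x'
        obtain ⟨k, y, rfl⟩ := ChevAppsH7.exists_sigmaι_eq Y' s
        exact ⟨k, y, by rw [Scheme.Hom.comp_apply]⟩)
      (c ⁻¹' T) (hT.preimage c.isClosedEmbedding.injective.injOn)
      (fun k => V k.castSucc) (fun k => hV k.castSucc) (by
        intro k y hy
        have : c (ι'' k y) ∈ T := hy
        rw [hc] at this
        exact hTV k.castSucc y this)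
    refine exists_affine_two c (ι (Fin.last n)) ?_ T hT U' hU' (fun y hy => hTU' hy)
      (V (Fin.last n)) (hV _) (hTV _)
    intro x
    obtain ⟨k, y, rfl⟩ := hcov x
    rcases Fin.eq_castSucc_or_eq_last k with ⟨k', rfl⟩ | rfl
    · left
      exact ⟨ι'' k' y, hc k' y⟩
    · right
      exact ⟨y, rfl⟩

end Fin

theorem main7662 (X : Scheme.{u})
    (hX : (irreducibleComponents (X : Type u)).Finite) (T : Finset X)
    (h : ∀ (Z : Set X) (hZ : Z ∈ irreducibleComponents (X : Type u)),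
      ∃ V : (Scheme.IdealSheafData.vanishingIdeal
          (⟨Z, isClosed_of_mem_irreducibleComponents Z hZ⟩ : TopologicalSpace.Closeds X)).subscheme.Opens,
        IsAffineOpen V ∧ ∀ t ∈ T, t ∈ Z → t ∈ (Scheme.IdealSheafData.vanishingIdeal
          (⟨Z, isClosed_of_mem_irreducibleComponents Z hZ⟩ : TopologicalSpace.Closeds X)).subschemeι.base '' (V : Set _)) :
    ∃ U : X.Opens, IsAffineOpen U ∧ ∀ t ∈ T, t ∈ U := by
  haveI : Finite ↥(irreducibleComponents (X : Type u)) := hX.to_subtype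
  obtain ⟨n, ⟨e⟩⟩ := Finite.exists_equiv_fin ↥(irreducibleComponents (X : Type u))
  choose V hV hTV using h
  let I : Fin n → X.IdealSheafData := fun k => Scheme.IdealSheafData.vanishingIdeal
    (⟨(e.symm k).1, isClosed_of_mem_irreducibleComponents _ (e.symm k).2⟩ :
      TopologicalSpace.Closeds X)
  have hrange : ∀ k, Set.range (I k).subschemeι = (e.symm k).1 := fun k => by
    rw [Scheme.IdealSheafData.range_subschemeι]
    exact Scheme.IdealSheafData.coe_support_vanishingIdeal _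
  obtain ⟨U, hU, hTU⟩ := exists_affine_fin n (fun k => (I k).subscheme)
    (fun k => (I k).subschemeι) (by
      intro x
      refine ⟨e ⟨irreducibleComponent x, irreducibleComponent_mem_irreducibleComponents x⟩, ?_⟩
      rw [hrange, Equiv.symm_apply_apply]
      exact mem_irreducibleComponent)
    (T : Set X) T.finite_toSet
    (fun k => V _ (e.symm k).2) (fun k => hV _ _) (by
      intro k y hy
      have hyZ : (I k).subschemeι y ∈ (e.symm k).1 := by rw [← hrange k]; exact ⟨y, rfl⟩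
      obtain ⟨y', hy'V, hy'⟩ := hTV _ (e.symm k).2 _ hy hyZ
      have := (I k).subschemeι.isClosedEmbedding.injective hy'
      rw [← this]; exact hy'V)
  exact ⟨U, hU, fun t ht => hTU ht⟩

end Groth.Agent.Lib.AffNbhdH7
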