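import Mathlib

/-!
# Irreducible components through a point and maximal points of `Spec O_{X,x}` (helper7)
-/

universe u
open CategoryTheory AlgebraicGeometry TopologicalSpace

namespace Groth.Agent.Lib.SchIrredComp2H7

/-- In a quasi-sober space, `closure {z}` is an irreducible component iff `z` is maximal for
generization (up to inseparability). -/
theorem closure_singleton_mem_irreducibleComponents_iff {S : Type*} [TopologicalSpace S]
    [QuasiSober S] (z : S) :
    closure {z} ∈ irreducibleComponents S ↔ ∀ z' : S, z' ⤳ z → z ⤳ z' := by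
  constructor
  · intro h z' hz'
    have hsub : closure {z} ⊆ closure {z'} := specializes_iff_closure_subset.mp hz'
    have := h.2 isIrreducible_singleton.closure hsub
    rw [specializes_iff_mem_closure]
    exact this (subset_closure rfl)
  · intro h
    refine ⟨isIrreducible_singleton.closure, ?_⟩
    intro T hT hsub
    obtain ⟨z', hz'⟩ := QuasiSober.sober hT.closure isClosed_closure
    have h1 : z' ⤳ z := by
      rw [specializes_iff_mem_closure, hz'.def]
      exact subset_closure (hsub (subset_closure rfl))
    have h2 := h z' h1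
    intro t ht
    have : t ∈ closure {z'} := by rw [hz'.def]; exact subset_closure ht
    exact (specializes_iff_closure_subset.mp h2) this

theorem fromSpecStalk_specializes (X : Scheme.{u}) (x : X) (z : Spec (X.presheaf.stalk x)) :
    X.fromSpecStalk x z ⤳ x := by
  have : X.fromSpecStalk x z ∈ {y | y ⤳ x} := by
    rw [← Scheme.range_fromSpecStalk]; exact ⟨z, rfl⟩
  exact this

theorem fromSpecStalk_maximal_iff (X : Scheme.{u}) (x : X) (z : Spec (X.presheaf.stalk x)) :
    (∀ z' : Spec (X.presheaf.stalk x), z' ⤳ z → z ⤳ z') ↔
      (∀ y : X, y ⤳ X.fromSpecStalk x z → X.fromSpecStalk x z ⤳ y) := by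
  have hind : Topology.IsInducing (X.fromSpecStalk x) :=
    (X.fromSpecStalk x).isEmbedding.isInducing
  constructor
  · intro h y hy
    have hyx : y ⤳ x := hy.trans (fromSpecStalk_specializes X x z)
    obtain ⟨z', rfl⟩ : y ∈ Set.range (X.fromSpecStalk x) := by
      rw [Scheme.range_fromSpecStalk]; exact hyx
    exact hind.specializes_iff.mpr (h z' (hind.specializes_iff.mp hy))
  · intro h z' hz'
    exact hind.specializes_iff.mp (h _ (hind.specializes_iff.mpr hz'))

theorem closure_mem_irreducibleComponents_iff (X : Scheme.{u}) (x : X)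
    (z : Spec (X.presheaf.stalk x)) :
    closure ({z} : Set (Spec (X.presheaf.stalk x))) ∈
        irreducibleComponents (Spec (X.presheaf.stalk x)) ↔
      closure ({X.fromSpecStalk x z} : Set X) ∈ irreducibleComponents X := by
  rw [closure_singleton_mem_irreducibleComponents_iff,
    closure_singleton_mem_irreducibleComponents_iff]
  exact fromSpecStalk_maximal_iff X x z

/-- Every irreducible component through `x` comes from a maximal point of `Spec O_{X,x}`. -/
theorem exists_of_mem_irreducibleComponents (X : Scheme.{u}) (x : X) {Z : Set X}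
    (hZ : Z ∈ irreducibleComponents X) (hx : x ∈ Z) :
    ∃ q : Spec (X.presheaf.stalk x),
      closure ({q} : Set (Spec (X.presheaf.stalk x))) ∈
        irreducibleComponents (Spec (X.presheaf.stalk x)) ∧
      closure ({X.fromSpecStalk x q} : Set X) = Z := by
  have hZirr : IsIrreducible Z := hZ.1
  have hZcl : IsClosed Z := isClosed_of_mem_irreducibleComponents Z hZ
  obtain ⟨η, hη⟩ := QuasiSober.sober hZirr hZcl
  have hηx : η ⤳ x := by
    rw [specializes_iff_mem_closure, hη.def]; exact hx
  obtain ⟨q, rfl⟩ : η ∈ Set.range (X.fromSpecStalk x) := by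
    rw [Scheme.range_fromSpecStalk]; exact hηx
  refine ⟨q, ?_, hη.def⟩
  rw [closure_mem_irreducibleComponents_iff, hη.def]
  exact hZ

theorem fromSpecStalk_injOn (X : Scheme.{u}) (x : X) {z₁ z₂ : Spec (X.presheaf.stalk x)}
    (h : closure ({X.fromSpecStalk x z₁} : Set X) = closure ({X.fromSpecStalk x z₂} : Set X)) :
    z₁ = z₂ := by
  have := (inseparable_iff_closure_eq.mpr h).eq
  exact (X.fromSpecStalk x).isEmbedding.injective this

end Groth.Agent.Lib.SchIrredComp2H7
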