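import Mathlib
import Groth.Agent.Lib.SchIrredComp2_helper7

/-!
# Birational morphisms: fibres over maximal points (helper7)
-/

set_option autoImplicit false
universe u
open AlgebraicGeometry CategoryTheory

namespace Groth.Agent.Lib.BiratMorH7

/-- A morphism all of whose values are generizations of `x` factors through `Spec O_{X,x}`. -/
theorem exists_lift_fromSpecStalk {T X : Scheme.{u}} (h : T ⟶ X) (x : X)
    (hr : ∀ t : T, h t ⤳ x) :
    ∃ t : T ⟶ Spec (X.presheaf.stalk x), t ≫ X.fromSpecStalk x = h := by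
  obtain ⟨_, ⟨W, hW, rfl⟩, hxW, -⟩ :=
    X.isBasis_affineOpens.exists_subset_of_mem_open (Set.mem_univ x) isOpen_univ
  have hrange : Set.range h ⊆ Set.range hW.fromSpec := by
    rw [hW.range_fromSpec]
    rintro _ ⟨t, rfl⟩
    exact (hr t).mem_open W.2 hxW
  obtain ⟨h', hh'⟩ : ∃ h' : T ⟶ Spec Γ(X, W), h' ≫ hW.fromSpec = h :=
    ⟨IsOpenImmersion.lift hW.fromSpec h hrange, IsOpenImmersion.lift_fac _ _ _⟩
  obtain ⟨θ, hθdef⟩ : ∃ θ : Γ(X, W) ⟶ Γ(T, ⊤), θ = (Scheme.ΓSpecIso Γ(X, W)).inv ≫ h'.appTop :=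
    ⟨_, rfl⟩
  have hθ : h' = T.toSpecΓ ≫ Spec.map θ := by
    rw [hθdef, Spec.map_comp, ← Category.assoc, ← Scheme.toSpecΓ_naturality, Category.assoc,
      toSpecΓ_SpecMap_ΓSpecIso_inv, Category.comp_id]
  have hpx : hW.fromSpec (hW.primeIdealOf ⟨x, hxW⟩) = x := hW.fromSpec_primeIdealOf ⟨x, hxW⟩
  have hunit : ∀ s : (hW.primeIdealOf ⟨x, hxW⟩).asIdeal.primeCompl, IsUnit (θ.hom s) := by
    rintro ⟨s, hs⟩
    refine T.toRingedSpace.isUnit_of_isUnit_germ ⊤ (θ.hom s) (fun t ht => ?_)
    refine (Scheme.mem_basicOpen T (θ.hom s) t ht).mp ?_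
    rw [← Scheme.toSpecΓ_preimage_basicOpen]
    show θ.hom s ∉ (T.toSpecΓ t : PrimeSpectrum Γ(T, ⊤)).asIdeal
    intro hmem
    have h1 : h' t ⤳ hW.primeIdealOf ⟨x, hxW⟩ := by
      rw [← hW.fromSpec.isOpenEmbedding.isInducing.specializes_iff, hpx, ← Scheme.Hom.comp_apply,
        hh']
      exact hr t
    have h2 := (PrimeSpectrum.le_iff_specializes _ _).mpr h1
    apply hs
    apply h2
    rw [hθ]
    exact hmem
  letI := TopCat.Presheaf.algebra_section_stalk X.presheaf (⟨x, hxW⟩ : W)
  haveI := hW.isLocalization_stalk ⟨x, hxW⟩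
  let θ' : X.presheaf.stalk x ⟶ Γ(T, ⊤) := CommRingCat.ofHom
    (IsLocalization.lift (M := (hW.primeIdealOf ⟨x, hxW⟩).asIdeal.primeCompl)
      (S := X.presheaf.stalk x) (g := θ.hom) hunit)
  have hθ' : X.presheaf.germ W x hxW ≫ θ' = θ := by
    ext a
    exact IsLocalization.lift_eq (M := (hW.primeIdealOf ⟨x, hxW⟩).asIdeal.primeCompl)
      (S := X.presheaf.stalk x) (g := θ.hom) hunit a
  refine ⟨T.toSpecΓ ≫ Spec.map θ', ?_⟩
  rw [← hW.fromSpecStalk_eq_fromSpecStalk hxW, IsAffineOpen.fromSpecStalk, Category.assoc,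
    ← Spec.map_comp_assoc, hθ', ← Category.assoc, ← hθ, hh']

/-- Lemma A: if `f` is injective on maximal points, `x` and `f x` are maximal points, the local
homomorphism at `x` is an isomorphism and `f x' ⤳ f x`, then `x' = x`. -/
theorem eq_of_specializes_of_isIso_stalkMap {X Y : Scheme.{u}} (f : X ⟶ Y)
    (hinj : Set.InjOn (fun x : X => f x) {x : X | closure {x} ∈ irreducibleComponents ↥X})
    (hmaps : ∀ x : X, closure {x} ∈ irreducibleComponents ↥X →
      closure {f x} ∈ irreducibleComponents ↥Y)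
    (x : X) (hx : closure {x} ∈ irreducibleComponents ↥X) [IsIso (f.stalkMap x)]
    (x' : X) (hx' : f x' ⤳ f x) : x' = x := by
  -- a maximal point above `x'`
  obtain ⟨x'', hx''gen⟩ := QuasiSober.sober
    (irreducibleComponent_mem_irreducibleComponents x').1
    (isClosed_of_mem_irreducibleComponents _ (irreducibleComponent_mem_irreducibleComponents x'))
  have hx''max : closure {x''} ∈ irreducibleComponents ↥X := by
    rw [hx''gen.def]; exact irreducibleComponent_mem_irreducibleComponents x'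
  have hx''x' : x'' ⤳ x' := by
    rw [specializes_iff_mem_closure, hx''gen.def]; exact mem_irreducibleComponent
  have h1 : f x'' ⤳ f x' := hx''x'.map f.continuous
  have hfx : closure {f x} ∈ irreducibleComponents ↥Y := hmaps x hx
  have h2 : f x ⤳ f x'' :=
    (Groth.Agent.Lib.SchIrredComp2H7.closure_singleton_mem_irreducibleComponents_iff (f x)).mp hfx
      _ (h1.trans hx')
  have h3 : f x'' = f x := ((h1.trans hx').antisymm h2).eq
  have h4 : x'' = x := hinj hx''max hx h3
  subst h4
  have hfx' : f x' = f x'' := (hx'.antisymm h1).eq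
  -- stalk argument
  have E := f.stalkSpecializes_stalkMap x'' x' hx''x'
  haveI : IsIso (Y.presheaf.stalkSpecializes (f.base.hom.map_specializes hx''x')) :=
    ⟨⟨Y.presheaf.stalkSpecializes hx', by
      rw [TopCat.Presheaf.stalkSpecializes_comp, TopCat.Presheaf.stalkSpecializes_refl], by
      rw [TopCat.Presheaf.stalkSpecializes_comp, TopCat.Presheaf.stalkSpecializes_refl]⟩⟩
  have E' : inv (Y.presheaf.stalkSpecializes (f.base.hom.map_specializes hx''x') ≫
      f.stalkMap x'') ≫ f.stalkMap x' ≫ X.presheaf.stalkSpecializes hx''x' = 𝟙 _ := by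
    rw [← E, IsIso.inv_hom_id]
  have hsurj : Function.Surjective (X.presheaf.stalkSpecializes hx''x') :=
    fun b => ⟨_, congr($E' b)⟩
  haveI := IsClosedImmersion.spec_of_surjective _ hsurj
  have hcl : IsClosed (Set.range (Spec.map (X.presheaf.stalkSpecializes hx''x'))) :=
    (Spec.map (X.presheaf.stalkSpecializes hx''x')).isClosedEmbedding.isClosed_range
  have hmem : IsLocalRing.closedPoint _ ∈
      Set.range (Spec.map (X.presheaf.stalkSpecializes hx''x')) :=
    (IsLocalRing.specializes_closedPoint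
      (Spec.map (X.presheaf.stalkSpecializes hx''x') (IsLocalRing.closedPoint _))).mem_closed
        hcl ⟨_, rfl⟩
  obtain ⟨q, hq⟩ := hmem
  have h5 := congr($(Scheme.SpecMap_stalkSpecializes_fromSpecStalk hx''x') q)
  rw [Scheme.Hom.comp_apply, hq, Scheme.fromSpecStalk_closedPoint] at h5
  have h6 : x' ⤳ x'' := by
    rw [h5]
    exact Groth.Agent.Lib.SchIrredComp2H7.fromSpecStalk_specializes X x'' q
  exact (h6.antisymm hx''x').eq

/-- S9677-type statement. -/
theorem isIso_pullback_snd_fromSpecStalk {X Y : Scheme.{u}} (f : X ⟶ Y)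
    (hinj : Set.InjOn (fun x : X => f x) {x : X | closure {x} ∈ irreducibleComponents ↥X})
    (hmaps : ∀ x : X, closure {x} ∈ irreducibleComponents ↥X →
      closure {f x} ∈ irreducibleComponents ↥Y)
    (x : X) (hx : closure {x} ∈ irreducibleComponents ↥X) [IsIso (f.stalkMap x)] :
    IsIso (Limits.pullback.snd f (Y.fromSpecStalk (f x))) := by
  have hfib : ∀ z : ↑(Limits.pullback f (Y.fromSpecStalk (f x))),
      Limits.pullback.fst f (Y.fromSpecStalk (f x)) z = x := by
    intro z
    apply eq_of_specializes_of_isIso_stalkMap f hinj hmaps x hx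
    have := congr($(Limits.pullback.condition (f := f) (g := Y.fromSpecStalk (f x))) z)
    rw [Scheme.Hom.comp_apply, Scheme.Hom.comp_apply] at this
    rw [this]
    exact Groth.Agent.Lib.SchIrredComp2H7.fromSpecStalk_specializes Y (f x) _
  obtain ⟨t, ht⟩ := exists_lift_fromSpecStalk (Limits.pullback.fst f (Y.fromSpecStalk (f x))) x
    (fun z => by rw [hfib z])
  have ht2 : t ≫ Spec.map (f.stalkMap x) = Limits.pullback.snd f (Y.fromSpecStalk (f x)) := by
    rw [← cancel_mono (Y.fromSpecStalk (f x)), Category.assoc,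
      Scheme.SpecMap_stalkMap_fromSpecStalk, ← Category.assoc, ht, Limits.pullback.condition]
  have hcomp : (Spec.map (inv (f.stalkMap x)) ≫ X.fromSpecStalk x) ≫ f =
      𝟙 _ ≫ Y.fromSpecStalk (f x) := by
    rw [Category.assoc, ← Scheme.SpecMap_stalkMap_fromSpecStalk, ← Category.assoc,
      ← Spec.map_comp, IsIso.hom_inv_id, Spec.map_id]
  refine ⟨⟨Limits.pullback.lift _ _ hcomp, ?_, Limits.pullback.lift_snd _ _ _⟩⟩
  apply Limits.pullback.hom_ext
  · rw [Category.assoc, Limits.pullback.lift_fst, Category.id_comp, ← ht2, Category.assoc,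
      ← Category.assoc (Spec.map _), ← Spec.map_comp, IsIso.inv_hom_id, Spec.map_id,
      Category.id_comp, ht]
  · rw [Category.assoc, Limits.pullback.lift_snd, Category.comp_id, Category.id_comp]

end Groth.Agent.Lib.BiratMorH7
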