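import Mathlib
import Groth.Agent.S4364
import Groth.Agent.Lib.SpreadOutFP_helper7

/-!
# Spreading out isomorphisms of local rings (helper7)
-/

set_option autoImplicit false
universe u
open AlgebraicGeometry CategoryTheory

namespace Groth.Agent.Lib.SpreadIsoH7

theorem fromSpecStalkOfMem_homOfLE {X : Scheme.{u}} {U V : X.Opens} (h : U ≤ V) (x : X)
    (hx : x ∈ U) :
    U.fromSpecStalkOfMem x hx ≫ X.homOfLE h = V.fromSpecStalkOfMem x (h hx) := by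
  rw [← cancel_mono V.ι, Category.assoc, Scheme.homOfLE_ι, Scheme.Opens.fromSpecStalkOfMem_ι,
    Scheme.Opens.fromSpecStalkOfMem_ι]

theorem fromSpecStalkOfMem_closedPoint {X : Scheme.{u}} (U : X.Opens) (x : X) (hx : x ∈ U) :
    U.fromSpecStalkOfMem x hx (IsLocalRing.closedPoint _) = ⟨x, hx⟩ := by
  apply Subtype.ext
  have := congr($(U.fromSpecStalkOfMem_ι x hx) (IsLocalRing.closedPoint _))
  rw [Scheme.Hom.comp_apply, Scheme.fromSpecStalk_closedPoint] at this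
  exact this

/-- Transport an open of an open subscheme to an open of the ambient scheme. -/
theorem exists_opens_of_opens {X Z : Scheme.{u}} (U : X.Opens) (W : U.toScheme.Opens) {x : X}
    (hxU : x ∈ U) (hxW : (⟨x, hxU⟩ : U.toScheme) ∈ W) (a b : U.toScheme ⟶ Z)
    (h : W.ι ≫ a = W.ι ≫ b) :
    ∃ (W' : X.Opens) (hle : W' ≤ U), x ∈ W' ∧ X.homOfLE hle ≫ a = X.homOfLE hle ≫ b := by
  have hle : U.ι ''ᵁ W ≤ U := by
    rintro _ ⟨w, -, rfl⟩; exact w.2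
  refine ⟨U.ι ''ᵁ W, hle, ⟨⟨x, hxU⟩, hxW, rfl⟩, ?_⟩
  have hr : Set.range (X.homOfLE hle) ⊆ Set.range W.ι := by
    rintro _ ⟨w, rfl⟩
    obtain ⟨t, ht, htw⟩ := w.2
    rw [Scheme.Opens.range_ι]
    have : X.homOfLE hle w = t := by
      apply Subtype.ext
      rw [Scheme.homOfLE_apply]
      exact htw.symm
    rw [this]
    exact ht
  have hl : IsOpenImmersion.lift W.ι (X.homOfLE hle) hr ≫ W.ι = X.homOfLE hle :=
    IsOpenImmersion.lift_fac _ _ _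
  rw [← hl, Category.assoc, Category.assoc, h]

/-- Primed version of `S4364.result`. -/
theorem unique' {X Y S : Scheme.{u}} (sX : X ⟶ S) (sY : Y ⟶ S) [LocallyOfFiniteType sY]
    (f g : X ⟶ Y) (hf : f ≫ sY = sX) (hg : g ≫ sY = sX) {x : X}
    (e : X.fromSpecStalk x ≫ f = X.fromSpecStalk x ≫ g) :
    ∃ U : X.Opens, x ∈ U ∧ U.ι ≫ f = U.ι ≫ g := by
  fapply Groth.Agent.S4364.result sX sY f g hf hg
  · simpa using congr($e (IsLocalRing.closedPoint _))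
  · apply Spec.map_injective
    rw [← cancel_mono (Y.fromSpecStalk _)]
    simpa [Scheme.SpecMap_stalkSpecializes_fromSpecStalk]

theorem unique_nbhd_lft {X Y S : Scheme.{u}} (sX : X ⟶ S) (sY : Y ⟶ S) [LocallyOfFiniteType sY]
    (U : X.Opens) {x : X} (hxU : x ∈ U) (a b : U.toScheme ⟶ Y)
    (ha : a ≫ sY = U.ι ≫ sX) (hb : b ≫ sY = U.ι ≫ sX)
    (e : U.fromSpecStalkOfMem x hxU ≫ a = U.fromSpecStalkOfMem x hxU ≫ b) :
    ∃ (W : X.Opens) (hle : W ≤ U), x ∈ W ∧ X.homOfLE hle ≫ a = X.homOfLE hle ≫ b := by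
  have e' : U.toScheme.fromSpecStalk ⟨x, hxU⟩ ≫ a = U.toScheme.fromSpecStalk ⟨x, hxU⟩ ≫ b := by
    have : U.fromSpecStalkOfMem x hxU =
        Spec.map (inv (U.ι.stalkMap ⟨x, hxU⟩)) ≫ U.toScheme.fromSpecStalk ⟨x, hxU⟩ := rfl
    rw [this] at e
    exact (cancel_epi (Spec.map (inv (U.ι.stalkMap ⟨x, hxU⟩)))).mp
      ((Category.assoc _ _ _).symm.trans (e.trans (Category.assoc _ _ _)))
  obtain ⟨W, hxW, hW⟩ := unique' (U.ι ≫ sX) sY a b ha hb e'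
  exact exists_opens_of_opens U W hxU hxW a b hW

theorem unique_nbhd_germInj {X Y : Scheme.{u}}
    (U : X.Opens) {x : X} (hxU : x ∈ U) [U.toScheme.IsGermInjectiveAt ⟨x, hxU⟩]
    (a b : U.toScheme ⟶ Y)
    (e : U.fromSpecStalkOfMem x hxU ≫ a = U.fromSpecStalkOfMem x hxU ≫ b) :
    ∃ (W : X.Opens) (hle : W ≤ U), x ∈ W ∧ X.homOfLE hle ≫ a = X.homOfLE hle ≫ b := by
  have e' : U.toScheme.fromSpecStalk ⟨x, hxU⟩ ≫ a = U.toScheme.fromSpecStalk ⟨x, hxU⟩ ≫ b := by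
    have : U.fromSpecStalkOfMem x hxU =
        Spec.map (inv (U.ι.stalkMap ⟨x, hxU⟩)) ≫ U.toScheme.fromSpecStalk ⟨x, hxU⟩ := rfl
    rw [this] at e
    exact (cancel_epi (Spec.map (inv (U.ι.stalkMap ⟨x, hxU⟩)))).mp
      ((Category.assoc _ _ _).symm.trans (e.trans (Category.assoc _ _ _)))
  obtain ⟨W, hxW, hW⟩ := spread_out_unique_of_isGermInjective' a b e'
  exact exists_opens_of_opens U W hxU hxW a b hW

/-- Uniqueness hypothesis used in `iso_of_spread`. -/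
def UniqueAt {X S : Scheme.{u}} (sX : X ⟶ S) (x : X) : Prop :=
  ∀ (W : X.Opens) (hxW : x ∈ W) (a : W.toScheme ⟶ X), a ≫ sX = W.ι ≫ sX →
    W.fromSpecStalkOfMem x hxW ≫ a = X.fromSpecStalk x →
    ∃ (W' : X.Opens) (hle : W' ≤ W), x ∈ W' ∧ X.homOfLE hle ≫ a = W'.ι

theorem uniqueAt_of_lft {X S : Scheme.{u}} (sX : X ⟶ S) [LocallyOfFiniteType sX] (x : X) :
    UniqueAt sX x := by
  intro W hxW a ha e
  obtain ⟨W', hle, hxW', h⟩ := unique_nbhd_lft sX sX W hxW a W.ι ha rfl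
    (by rw [e, Scheme.Opens.fromSpecStalkOfMem_ι])
  exact ⟨W', hle, hxW', by rw [h, Scheme.homOfLE_ι]⟩

theorem uniqueAt_of_isIntegral {X S : Scheme.{u}} (sX : X ⟶ S) [IsIntegral X] (x : X) :
    UniqueAt sX x := by
  intro W hxW a ha e
  haveI : Nonempty W.toScheme := ⟨⟨x, hxW⟩⟩
  haveI : IsIntegral W.toScheme := inferInstance
  obtain ⟨W', hle, hxW', h⟩ := unique_nbhd_germInj W hxW a W.ι
    (by rw [e, Scheme.Opens.fromSpecStalkOfMem_ι])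
  exact ⟨W', hle, hxW', by rw [h, Scheme.homOfLE_ι]⟩

theorem stepA {X Y S : Scheme.{u}} (sX : X ⟶ S) (sY : Y ⟶ S) {x : X} {y : Y}
    (φ : Y.presheaf.stalk y ⟶ X.presheaf.stalk x) (ψ : X.presheaf.stalk x ⟶ Y.presheaf.stalk y)
    (hφψ : ψ ≫ φ = 𝟙 _) [IsLocalHom φ.hom]
    (U : X.Opens) (hxU : x ∈ U) (f : U.toScheme ⟶ Y)
    (hf : Spec.map φ ≫ Y.fromSpecStalk y = U.fromSpecStalkOfMem x hxU ≫ f)
    (hfS : f ≫ sY = U.ι ≫ sX)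
    (V : Y.Opens) (hyV : y ∈ V) (g : V.toScheme ⟶ X)
    (hg : Spec.map ψ ≫ X.fromSpecStalk x = V.fromSpecStalkOfMem y hyV ≫ g)
    (hgS : g ≫ sX = V.ι ≫ sY)
    (hX : UniqueAt sX x) :
    ∃ (U' : X.Opens) (hle : U' ≤ U) (_ : x ∈ U') (F : U'.toScheme ⟶ V.toScheme),
      F ≫ V.ι = X.homOfLE hle ≫ f ∧ F ≫ g = U'.ι := by
  have hfx : f ⟨x, hxU⟩ = y := by
    have h1 : Spec.map φ (IsLocalRing.closedPoint _) = IsLocalRing.closedPoint _ :=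
      IsLocalRing.comap_closedPoint φ.hom
    have := congr($hf (IsLocalRing.closedPoint _))
    rw [Scheme.Hom.comp_apply, Scheme.Hom.comp_apply, h1, Scheme.fromSpecStalk_closedPoint,
      fromSpecStalkOfMem_closedPoint] at this
    exact this.symm
  have hle₀ : U.ι ''ᵁ (f ⁻¹ᵁ V) ≤ U := by
    rintro _ ⟨w, -, rfl⟩; exact w.2
  have hx₀ : x ∈ U.ι ''ᵁ (f ⁻¹ᵁ V) := ⟨⟨x, hxU⟩, (show f ⟨x, hxU⟩ ∈ V from hfx ▸ hyV), rfl⟩
  have hr : Set.range (X.homOfLE hle₀ ≫ f) ⊆ Set.range V.ι := by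
    rintro _ ⟨w, rfl⟩
    obtain ⟨t, ht, htw⟩ := w.2
    rw [Scheme.Opens.range_ι]
    have : X.homOfLE hle₀ w = t := by
      apply Subtype.ext
      rw [Scheme.homOfLE_apply]
      exact htw.symm
    rw [Scheme.Hom.comp_apply, this]
    exact ht
  have hF₀ : IsOpenImmersion.lift V.ι (X.homOfLE hle₀ ≫ f) hr ≫ V.ι = X.homOfLE hle₀ ≫ f :=
    IsOpenImmersion.lift_fac _ _ _
  obtain ⟨F₀, hF₀def⟩ : ∃ F₀, F₀ = IsOpenImmersion.lift V.ι (X.homOfLE hle₀ ≫ f) hr := ⟨_, rfl⟩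
  rw [← hF₀def] at hF₀
  have ha : (F₀ ≫ g) ≫ sX = (U.ι ''ᵁ (f ⁻¹ᵁ V)).ι ≫ sX := by
    rw [Category.assoc, hgS, ← Category.assoc, hF₀, Category.assoc, hfS, ← Category.assoc,
      Scheme.homOfLE_ι]
  have hspec : (U.ι ''ᵁ (f ⁻¹ᵁ V)).fromSpecStalkOfMem x hx₀ ≫ F₀ =
      Spec.map φ ≫ V.fromSpecStalkOfMem y hyV := by
    rw [← cancel_mono V.ι, Category.assoc, hF₀, ← Category.assoc, fromSpecStalkOfMem_homOfLE,
      ← hf, Category.assoc, Scheme.Opens.fromSpecStalkOfMem_ι]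
  have ha2 : (U.ι ''ᵁ (f ⁻¹ᵁ V)).fromSpecStalkOfMem x hx₀ ≫ (F₀ ≫ g) = X.fromSpecStalk x := by
    rw [← Category.assoc, hspec, Category.assoc, ← hg, ← Category.assoc, ← Spec.map_comp, hφψ,
      Spec.map_id, Category.id_comp]
  obtain ⟨U', hle', hxU', hU'⟩ := hX _ hx₀ (F₀ ≫ g) ha ha2
  refine ⟨U', hle'.trans hle₀, hxU', X.homOfLE hle' ≫ F₀, ?_, ?_⟩
  · rw [Category.assoc, hF₀, ← Category.assoc, Scheme.homOfLE_homOfLE]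
  · rw [Category.assoc, hU']

theorem apply_of_hf {X Y : Scheme.{u}} {x : X} {y : Y}
    (φ : Y.presheaf.stalk y ⟶ X.presheaf.stalk x) [IsLocalHom φ.hom]
    (U : X.Opens) (hxU : x ∈ U) (f : U.toScheme ⟶ Y)
    (hf : Spec.map φ ≫ Y.fromSpecStalk y = U.fromSpecStalkOfMem x hxU ≫ f) :
    f ⟨x, hxU⟩ = y := by
  have h1 : Spec.map φ (IsLocalRing.closedPoint _) = IsLocalRing.closedPoint _ :=
    IsLocalRing.comap_closedPoint φ.hom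
  have := congr($hf (IsLocalRing.closedPoint _))
  rw [Scheme.Hom.comp_apply, Scheme.Hom.comp_apply, h1, Scheme.fromSpecStalk_closedPoint,
    fromSpecStalkOfMem_closedPoint] at this
  exact this.symm

theorem stepC_lift {X Y : Scheme.{u}} (U : X.Opens) (V : Y.Opens) (g : V.toScheme ⟶ X)
    (U' : X.Opens) (V' : Y.Opens) (hV' : V' ≤ V)
    (F : U'.toScheme ⟶ V.toScheme) (G : V'.toScheme ⟶ U.toScheme)
    (hFg : F ≫ g = U'.ι) (hG : G ≫ U.ι = Y.homOfLE hV' ≫ g) :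
    ∃ (hle : U'.ι ''ᵁ ((F ≫ V.ι) ⁻¹ᵁ V') ≤ U')
      (f₁ : (U'.ι ''ᵁ ((F ≫ V.ι) ⁻¹ᵁ V')).toScheme ⟶ (V'.ι ''ᵁ ((G ≫ U.ι) ⁻¹ᵁ U')).toScheme),
      f₁ ≫ (V'.ι ''ᵁ ((G ≫ U.ι) ⁻¹ᵁ U')).ι = X.homOfLE hle ≫ F ≫ V.ι := by
  have hle : U'.ι ''ᵁ ((F ≫ V.ι) ⁻¹ᵁ V') ≤ U' := by
    rintro _ ⟨w, -, rfl⟩; exact w.2
  have hr : Set.range (X.homOfLE hle ≫ F ≫ V.ι) ⊆
      Set.range (V'.ι ''ᵁ ((G ≫ U.ι) ⁻¹ᵁ U')).ι := by
    rintro _ ⟨w, rfl⟩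
    obtain ⟨t, ht, htw⟩ := w.2
    have hwt : X.homOfLE hle w = t := by
      apply Subtype.ext
      rw [Scheme.homOfLE_apply]
      exact htw.symm
    rw [Scheme.Opens.range_ι, Scheme.Hom.comp_apply, hwt]
    refine ⟨⟨(F ≫ V.ι) t, ht⟩, ?_, rfl⟩
    show (G ≫ U.ι) ⟨(F ≫ V.ι) t, ht⟩ ∈ U'
    rw [hG, Scheme.Hom.comp_apply]
    have h2 : Y.homOfLE hV' ⟨(F ≫ V.ι) t, ht⟩ = F t := by
      apply Subtype.ext
      rw [Scheme.homOfLE_apply]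
      rfl
    rw [h2, ← Scheme.Hom.comp_apply, hFg]
    exact t.2
  exact ⟨hle, IsOpenImmersion.lift _ _ hr, IsOpenImmersion.lift_fac _ _ _⟩

theorem stepC_comp {X Y : Scheme.{u}} (U : X.Opens) (V : Y.Opens) (g : V.toScheme ⟶ X)
    (U' : X.Opens) (V' : Y.Opens) (hV' : V' ≤ V)
    (F : U'.toScheme ⟶ V.toScheme) (G : V'.toScheme ⟶ U.toScheme)
    (hFg : F ≫ g = U'.ι) (hG : G ≫ U.ι = Y.homOfLE hV' ≫ g)
    (U₁ : X.Opens) (V₁ : Y.Opens) (hU₁ : U₁ ≤ U') (hV₁ : V₁ ≤ V')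
    (f₁ : U₁.toScheme ⟶ V₁.toScheme) (g₁ : V₁.toScheme ⟶ U₁.toScheme)
    (hf₁ : f₁ ≫ V₁.ι = X.homOfLE hU₁ ≫ F ≫ V.ι)
    (hg₁ : g₁ ≫ U₁.ι = Y.homOfLE hV₁ ≫ G ≫ U.ι) :
    f₁ ≫ g₁ = 𝟙 _ := by
  rw [← cancel_mono U₁.ι, Category.assoc, hg₁, Category.id_comp, hG]
  have : f₁ ≫ Y.homOfLE hV₁ ≫ Y.homOfLE hV' = X.homOfLE hU₁ ≫ F := by
    rw [← cancel_mono V.ι]
    simp only [Category.assoc, Scheme.homOfLE_ι]
    exact hf₁
  rw [← Category.assoc, ← Category.assoc, Category.assoc f₁, this, Category.assoc, hFg,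
    Scheme.homOfLE_ι]

/-- Spreading out an isomorphism of local rings to an isomorphism of open neighbourhoods. -/
theorem iso_of_spread {X Y S : Scheme.{u}} (sX : X ⟶ S) (sY : Y ⟶ S) {x : X} {y : Y}
    (φ : Y.presheaf.stalk y ⟶ X.presheaf.stalk x) [IsIso φ]
    (U : X.Opens) (hxU : x ∈ U) (f : U.toScheme ⟶ Y)
    (hf : Spec.map φ ≫ Y.fromSpecStalk y = U.fromSpecStalkOfMem x hxU ≫ f)
    (hfS : f ≫ sY = U.ι ≫ sX)
    (V : Y.Opens) (hyV : y ∈ V) (g : V.toScheme ⟶ X)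
    (hg : Spec.map (inv φ) ≫ X.fromSpecStalk x = V.fromSpecStalkOfMem y hyV ≫ g)
    (hgS : g ≫ sX = V.ι ≫ sY)
    (hX : UniqueAt sX x) (hY : UniqueAt sY y) :
    ∃ (U₁ : X.Opens) (hxU₁ : x ∈ U₁) (V₁ : Y.Opens) (_ : y ∈ V₁)
      (f₁ : U₁.toScheme ⟶ V₁.toScheme), IsIso f₁ ∧
      Spec.map φ ≫ Y.fromSpecStalk y = U₁.fromSpecStalkOfMem x hxU₁ ≫ f₁ ≫ V₁.ι ∧
        f₁ ≫ V₁.ι ≫ sY = U₁.ι ≫ sX := by
  haveI : IsLocalHom φ.hom := isLocalHom_of_isIso φ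
  haveI : IsLocalHom (inv φ).hom := isLocalHom_of_isIso (inv φ)
  obtain ⟨U', hU', hxU', F, hF, hFg⟩ :=
    stepA sX sY φ (inv φ) (IsIso.inv_hom_id φ) U hxU f hf hfS V hyV g hg hgS hX
  obtain ⟨V', hV', hyV', G, hG, hGf⟩ :=
    stepA sY sX (inv φ) φ (IsIso.hom_inv_id φ) V hyV g hg hgS U hxU f hf hfS hY
  obtain ⟨hU₁, f₁, hf₁⟩ := stepC_lift U V g U' V' hV' F G hFg hG
  obtain ⟨hV₁, g₁, hg₁⟩ := stepC_lift V U f V' U' hU' G F hGf hF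
  have h1 := stepC_comp U V g U' V' hV' F G hFg hG _ _ hU₁ hV₁ f₁ g₁ hf₁ hg₁
  have h2 := stepC_comp V U f V' U' hU' G F hGf hF _ _ hV₁ hU₁ g₁ f₁ hg₁ hf₁
  have hfx : f ⟨x, hxU⟩ = y := apply_of_hf φ U hxU f hf
  have hgy : g ⟨y, hyV⟩ = x := apply_of_hf (inv φ) V hyV g hg
  have hx₁ : x ∈ U'.ι ''ᵁ ((F ≫ V.ι) ⁻¹ᵁ V') := by
    refine ⟨⟨x, hxU'⟩, ?_, rfl⟩
    show (F ≫ V.ι) ⟨x, hxU'⟩ ∈ V'
    rw [hF, Scheme.Hom.comp_apply, Scheme.homOfLE_apply', hfx]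
    exact hyV'
  have hy₁ : y ∈ V'.ι ''ᵁ ((G ≫ U.ι) ⁻¹ᵁ U') := by
    refine ⟨⟨y, hyV'⟩, ?_, rfl⟩
    show (G ≫ U.ι) ⟨y, hyV'⟩ ∈ U'
    rw [hG, Scheme.Hom.comp_apply, Scheme.homOfLE_apply', hgy]
    exact hxU'
  have hf₁' : f₁ ≫ (V'.ι ''ᵁ ((G ≫ U.ι) ⁻¹ᵁ U')).ι = X.homOfLE (hU₁.trans hU') ≫ f :=
    hf₁.trans ((congrArg (X.homOfLE hU₁ ≫ ·) hF).trans
      (by simp only [← Category.assoc, Scheme.homOfLE_homOfLE]))
  refine ⟨_, hx₁, _, hy₁, f₁, ⟨g₁, h1, h2⟩, ?_, ?_⟩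
  · rw [hf₁', ← Category.assoc, fromSpecStalkOfMem_homOfLE]
    exact hf
  · rw [← Category.assoc, hf₁', Category.assoc, hfS, ← Category.assoc, Scheme.homOfLE_ι]

end Groth.Agent.Lib.SpreadIsoH7
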