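import Mathlib
import Groth.Agent.Lib.BiratMor_helper7
import Groth.Agent.Lib.SpreadIso_helper7

/-!
# Birational morphisms are isomorphisms over dense opens (helper7)
-/

set_option autoImplicit false
universe u
open AlgebraicGeometry CategoryTheory

namespace Groth.Agent.Lib.BiratMor2H7

/-- Primed version of spreading out for targets locally of finite presentation. -/
theorem spread_out_of_lfp' {X Y S : Scheme.{u}} (sX : X ⟶ S) (sY : Y ⟶ S)
    [LocallyOfFinitePresentation sY] {x : X}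
    (φ : Spec (X.presheaf.stalk x) ⟶ Y) (h : φ ≫ sY = X.fromSpecStalk x ≫ sX) :
    ∃ (U : X.Opens) (hxU : x ∈ U) (f : U.toScheme ⟶ Y),
      φ = U.fromSpecStalkOfMem x hxU ≫ f ∧ f ≫ sY = U.ι ≫ sX := by
  have := Groth.Agent.Lib.SpreadOutFPH7.spread_out_of_locallyOfFinitePresentation
    sX sY ?_ (Scheme.stalkClosedPointTo φ) ?_
  · simpa only [Scheme.Spec_stalkClosedPointTo_fromSpecStalk] using this
  · rw [← Scheme.Hom.comp_apply, h, Scheme.Hom.comp_apply, Scheme.fromSpecStalk_closedPoint]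
  · apply Spec.map_injective
    rw [← cancel_mono (S.fromSpecStalk _)]
    simpa only [Spec.map_comp, Category.assoc, Scheme.SpecMap_stalkMap_fromSpecStalk,
      Scheme.Spec_stalkClosedPointTo_fromSpecStalk_assoc,
      Scheme.SpecMap_stalkSpecializes_fromSpecStalk]

/-- The statement that the inverse of the stalk map at `x` spreads out to a local section. -/
def HasLocalSection {X Y : Scheme.{u}} (f : X ⟶ Y) (x : X) [IsIso (f.stalkMap x)] : Prop :=
  ∃ (V : Y.Opens) (hyV : f x ∈ V) (g : V.toScheme ⟶ X),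
    Spec.map (inv (f.stalkMap x)) ≫ X.fromSpecStalk x = V.fromSpecStalkOfMem (f x) hyV ≫ g ∧
      g ≫ f = V.ι

theorem comp_aux {X Y : Scheme.{u}} (f : X ⟶ Y) (x : X) [IsIso (f.stalkMap x)] :
    (Spec.map (inv (f.stalkMap x)) ≫ X.fromSpecStalk x) ≫ f =
      Y.fromSpecStalk (f x) ≫ 𝟙 Y := by
  rw [Category.assoc, ← Scheme.SpecMap_stalkMap_fromSpecStalk, ← Category.assoc,
    ← Spec.map_comp, IsIso.hom_inv_id, Spec.map_id, Category.id_comp, Category.comp_id]

theorem hasLocalSection_of_lfp {X Y : Scheme.{u}} (f : X ⟶ Y) [LocallyOfFinitePresentation f]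
    (x : X) [IsIso (f.stalkMap x)] : HasLocalSection f x := by
  obtain ⟨V, hyV, g, h1, h2⟩ := spread_out_of_lfp' (𝟙 Y) f (x := f x)
    (Spec.map (inv (f.stalkMap x)) ≫ X.fromSpecStalk x) (comp_aux f x)
  exact ⟨V, hyV, g, h1, by simpa using h2⟩

theorem hasLocalSection_of_germInj {X Y : Scheme.{u}} (f : X ⟶ Y) [LocallyOfFiniteType f]
    (x : X) [IsIso (f.stalkMap x)] [Y.IsGermInjectiveAt (f x)] : HasLocalSection f x := by
  obtain ⟨V, hyV, g, h1, h2⟩ := spread_out_of_isGermInjective' (𝟙 Y) f (x := f x)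
    (Spec.map (inv (f.stalkMap x)) ≫ X.fromSpecStalk x) (comp_aux f x)
  exact ⟨V, hyV, g, h1, by simpa using h2⟩

theorem exists_local_iso {X Y : Scheme.{u}} (f : X ⟶ Y) [LocallyOfFiniteType f] (x : X)
    [IsIso (f.stalkMap x)] (hspread : HasLocalSection f x) :
    ∃ U : X.Opens, x ∈ U ∧ IsOpenImmersion (U.ι ≫ f) := by
  obtain ⟨V, hyV, g, hg, hgS⟩ := hspread
  have hY : Groth.Agent.Lib.SpreadIsoH7.UniqueAt (𝟙 Y) (f x) := by
    intro W hyW a ha e
    refine ⟨W, le_rfl, hyW, ?_⟩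
    rw [Scheme.homOfLE_rfl, Category.id_comp]
    simpa using ha
  obtain ⟨U₁, hxU₁, V₁, hyV₁, f₁, hiso, h1, h2⟩ :=
    Groth.Agent.Lib.SpreadIsoH7.iso_of_spread f (𝟙 Y) (f.stalkMap x) ⊤ trivial
      ((⊤ : X.Opens).ι ≫ f)
      (by rw [← Category.assoc, Scheme.Opens.fromSpecStalkOfMem_ι,
        Scheme.SpecMap_stalkMap_fromSpecStalk])
      (by simp) V hyV g hg (by simpa using hgS)
      (Groth.Agent.Lib.SpreadIsoH7.uniqueAt_of_lft f x) hY
  refine ⟨U₁, hxU₁, ?_⟩
  have : U₁.ι ≫ f = f₁ ≫ V₁.ι := by simpa using h2.symm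
  rw [this]
  infer_instance

theorem isOpenImmersion_iSup {X Y : Scheme.{u}} (f : X ⟶ Y) {ι : Type*} (U : ι → X.Opens)
    (hU : ∀ i, IsOpenImmersion ((U i).ι ≫ f))
    (hdisj : ∀ i j (a b : X), a ∈ U i → b ∈ U j → f a = f b → i = j) :
    IsOpenImmersion ((⨆ i, U i).ι ≫ f) := by
  have hmem : ∀ w : (⨆ i, U i).toScheme, ∃ i, w.1 ∈ U i := fun w =>
    TopologicalSpace.Opens.mem_iSup.mp w.2
  have hstalk : ∀ w : (⨆ i, U i).toScheme, IsIso (((⨆ i, U i).ι ≫ f).stalkMap w) := by
    intro w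
    obtain ⟨i, hi⟩ := hmem w
    haveI := hU i
    obtain ⟨u, hu⟩ : ∃ u : (U i).toScheme, u = ⟨w.1, hi⟩ := ⟨_, rfl⟩
    have hu1 : (U i).ι u = w.1 := by rw [hu]; rfl
    have e2 := Scheme.Hom.stalkMap_comp (U i).ι f u
    have h3' : IsIso (f.stalkMap ((U i).ι u)) := by
      have : IsIso (f.stalkMap ((U i).ι u) ≫ (U i).ι.stalkMap u) := by
        have h4 : IsIso (((U i).ι ≫ f).stalkMap u) := inferInstance
        rw [e2] at h4
        exact h4
      exact IsIso.of_isIso_comp_right _ ((U i).ι.stalkMap u)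
    have h3 : IsIso (f.stalkMap w.1) := by
      rw [← hu1]; exact h3'
    rw [Scheme.Hom.stalkMap_comp]
    exact IsIso.comp_isIso' h3 inferInstance
  have hinj : Function.Injective ((⨆ i, U i).ι ≫ f) := by
    intro w₁ w₂ h
    obtain ⟨i, hi⟩ := hmem w₁
    obtain ⟨j, hj⟩ := hmem w₂
    have hfe : f w₁.1 = f w₂.1 := by
      simp only [Scheme.Hom.comp_apply] at h
      exact h
    obtain rfl := hdisj i j w₁.1 w₂.1 hi hj hfe
    haveI := hU i
    have := ((U i).ι ≫ f).isOpenEmbedding.injective (a₁ := ⟨w₁.1, hi⟩) (a₂ := ⟨w₂.1, hj⟩)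
      (by simp only [Scheme.Hom.comp_apply]; exact hfe)
    exact Subtype.ext (Subtype.mk.inj this)
  have hopen : IsOpenMap ((⨆ i, U i).ι ≫ f) := by
    intro O hO
    rw [isOpen_iff_forall_mem_open]
    rintro _ ⟨w, hwO, rfl⟩
    obtain ⟨i, hi⟩ := hmem w
    haveI := hU i
    refine ⟨((U i).ι ≫ f) '' ((X.homOfLE (le_iSup U i)) ⁻¹' O), ?_, ?_, ?_⟩
    · rintro _ ⟨u, hu, rfl⟩
      refine ⟨X.homOfLE (le_iSup U i) u, hu, ?_⟩
      rw [← Scheme.Hom.comp_apply, ← Category.assoc, Scheme.homOfLE_ι]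
    · exact ((U i).ι ≫ f).isOpenEmbedding.isOpenMap _
        (hO.preimage (X.homOfLE (le_iSup U i)).continuous)
    · refine ⟨⟨w.1, hi⟩, ?_, ?_⟩
      · show X.homOfLE (le_iSup U i) ⟨w.1, hi⟩ ∈ O
        have : X.homOfLE (le_iSup U i) ⟨w.1, hi⟩ = w := by
          apply Subtype.ext
          rw [Scheme.homOfLE_apply]
        rw [this]
        exact hwO
      · simp only [Scheme.Hom.comp_apply]
        rfl
  haveI := hstalk
  exact IsOpenImmersion.of_isIso_stalkMap _
    (Topology.IsOpenEmbedding.of_continuous_injective_isOpenMap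
      ((⨆ i, U i).ι ≫ f).continuous hinj hopen)

section Components

variable {Y : Type*} [TopologicalSpace Y]

/-- The set of points lying on no irreducible component other than `C`. -/
def onlyOn (C : Set Y) : Set Y := (⋃₀ (irreducibleComponents Y \ {C}))ᶜ

theorem isOpen_onlyOn (hfin : (irreducibleComponents Y).Finite) (C : Set Y) :
    IsOpen (onlyOn C) := by
  rw [onlyOn, isOpen_compl_iff, Set.sUnion_eq_biUnion]
  exact (hfin.subset Set.diff_subset).isClosed_biUnion fun C' hC' =>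
    isClosed_of_mem_irreducibleComponents C' hC'.1

theorem mem_onlyOn_iff (C : Set Y) (w : Y) :
    w ∈ onlyOn C ↔ ∀ C' ∈ irreducibleComponents Y, w ∈ C' → C' = C := by
  simp only [onlyOn, Set.mem_compl_iff, Set.mem_sUnion, Set.mem_diff, Set.mem_singleton_iff,
    not_exists, not_and]
  constructor
  · intro h C' hC' hw
    by_contra hne
    exact h C' ⟨hC', hne⟩ hw
  · intro h C' hC' hw
    exact hC'.2 (h C' hC'.1 hw)

theorem mem_onlyOn_of_maximal (y : Y) (hy : closure {y} ∈ irreducibleComponents Y) :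
    y ∈ onlyOn (closure {y}) := by
  rw [mem_onlyOn_iff]
  intro C' hC' hyC'
  have hsub : closure {y} ⊆ C' :=
    (isClosed_of_mem_irreducibleComponents C' hC').closure_subset_iff.mpr
      (Set.singleton_subset_iff.mpr hyC')
  exact subset_antisymm (hy.2 hC'.1 hsub) hsub

theorem eq_of_mem_onlyOn {C₁ C₂ : Set Y} {w : Y} (h₁ : w ∈ onlyOn C₁) (h₂ : w ∈ onlyOn C₂) :
    C₁ = C₂ := by
  rw [mem_onlyOn_iff] at h₁ h₂
  rw [← h₁ _ (irreducibleComponent_mem_irreducibleComponents w) mem_irreducibleComponent,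
    ← h₂ _ (irreducibleComponent_mem_irreducibleComponents w) mem_irreducibleComponent]

theorem subset_of_onlyOn (C : Set Y) : onlyOn C ⊆ C := by
  intro w hw
  rw [mem_onlyOn_iff] at hw
  rw [← hw _ (irreducibleComponent_mem_irreducibleComponents w) mem_irreducibleComponent]
  exact mem_irreducibleComponent

end Components

theorem exists_dense_open_isOpenImmersion {X Y : Scheme.{u}} (f : X ⟶ Y)
    (hYfin : (irreducibleComponents ↥Y).Finite)
    (hinj : Set.InjOn (fun x : X => f x) {x : X | closure {x} ∈ irreducibleComponents ↥X})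
    (hmaps : ∀ x : X, closure {x} ∈ irreducibleComponents ↥X →
      closure {f x} ∈ irreducibleComponents ↥Y)
    (hloc : ∀ x : X, closure {x} ∈ irreducibleComponents ↥X →
      ∃ U : X.Opens, x ∈ U ∧ IsOpenImmersion (U.ι ≫ f)) :
    ∃ U : X.Opens, (∀ x : X, closure {x} ∈ irreducibleComponents ↥X → x ∈ U) ∧
      IsOpenImmersion (U.ι ≫ f) := by
  choose U₀ hxU₀ hU₀ using hloc
  let D : {x : X // closure {x} ∈ irreducibleComponents ↥X} → Y.Opens := fun i =>
    ⟨onlyOn (closure {f i.1}), isOpen_onlyOn hYfin _⟩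
  let U : {x : X // closure {x} ∈ irreducibleComponents ↥X} → X.Opens := fun i =>
    U₀ i.1 i.2 ⊓ f ⁻¹ᵁ D i
  have hmemU : ∀ i, i.1 ∈ U i := fun i =>
    ⟨hxU₀ i.1 i.2, mem_onlyOn_of_maximal (f i.1) (hmaps i.1 i.2)⟩
  have hUimm : ∀ i, IsOpenImmersion ((U i).ι ≫ f) := by
    intro i
    haveI := hU₀ i.1 i.2
    rw [← Scheme.homOfLE_ι X (inf_le_left : U i ≤ U₀ i.1 i.2), Category.assoc]
    infer_instance
  have hdisj : ∀ i j (a b : X), a ∈ U i → b ∈ U j → f a = f b → i = j := by
    intro i j a b ha hb hab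
    have h1 : f a ∈ onlyOn (closure {f i.1}) := ha.2
    have h2 : f a ∈ onlyOn (closure {f j.1}) := by rw [hab]; exact hb.2
    have h3 := eq_of_mem_onlyOn h1 h2
    have h4 : f i.1 = f j.1 := (inseparable_iff_closure_eq.mpr h3).eq
    exact Subtype.ext (hinj i.2 j.2 h4)
  refine ⟨⨆ i, U i, fun x hx => ?_, isOpenImmersion_iSup f U hUimm hdisj⟩
  exact TopologicalSpace.Opens.mem_iSup.mpr ⟨⟨x, hx⟩, hmemU ⟨x, hx⟩⟩

theorem dense_of_forall_maximal_mem {X : Scheme.{u}} (U : X.Opens)
    (h : ∀ x : X, closure {x} ∈ irreducibleComponents ↥X → x ∈ U) : Dense (U : Set X) := by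
  intro z
  obtain ⟨x'', hx''gen⟩ := QuasiSober.sober
    (irreducibleComponent_mem_irreducibleComponents z).1
    (isClosed_of_mem_irreducibleComponents _ (irreducibleComponent_mem_irreducibleComponents z))
  have hx''max : closure {x''} ∈ irreducibleComponents ↥X := by
    rw [hx''gen.def]; exact irreducibleComponent_mem_irreducibleComponents z
  have hz : z ∈ closure {x''} := by rw [hx''gen.def]; exact mem_irreducibleComponent
  exact closure_mono (Set.singleton_subset_iff.mpr (h x'' hx''max)) hz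

/-- Reduced schemes with finitely many irreducible components are germ-injective at maximal
points. -/
theorem isGermInjectiveAt_of_isReduced {Y : Scheme.{u}} [IsReduced Y]
    (hYfin : (irreducibleComponents ↥Y).Finite) (y : Y)
    (hy : closure {y} ∈ irreducibleComponents ↥Y) : Y.IsGermInjectiveAt y := by
  let W : Y.Opens := ⟨onlyOn (closure {y}), isOpen_onlyOn hYfin _⟩
  have hyW : y ∈ W := mem_onlyOn_of_maximal y hy
  have hpre : IsPreirreducible (W : Set Y) :=
    hy.1.isPreirreducible.open_subset W.2 (subset_of_onlyOn _)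
  haveI : PreirreducibleSpace W.toScheme := Subtype.preirreducibleSpace hpre
  haveI : Nonempty W.toScheme := ⟨⟨y, hyW⟩⟩
  haveI : IrreducibleSpace W.toScheme := ⟨inferInstance⟩
  haveI : IsIntegral W.toScheme := isIntegral_of_irreducibleSpace_of_isReduced _
  haveI : W.toScheme.IsGermInjectiveAt ⟨y, hyW⟩ := inferInstance
  show Y.IsGermInjectiveAt (W.ι ⟨y, hyW⟩)
  infer_instance

/-- Main theorem (S9678-type). -/
theorem exists_dense_open_iso {X Y : Scheme.{u}} (f : X ⟶ Y)
    (hYfin : (irreducibleComponents ↥Y).Finite)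
    (hbij : Set.BijOn (fun x : X => f x) {x : X | closure {x} ∈ irreducibleComponents ↥X}
      {y : Y | closure {y} ∈ irreducibleComponents ↥Y})
    (hiso : ∀ x : X, closure {x} ∈ irreducibleComponents ↥X → IsIso (f.stalkMap x))
    (hf : (LocallyOfFiniteType f ∧ IsReduced Y) ∨ LocallyOfFinitePresentation f) :
    ∃ U : X.Opens, (∀ x : X, closure {x} ∈ irreducibleComponents ↥X → x ∈ U) ∧
      IsOpenImmersion (U.ι ≫ f) := by
  apply exists_dense_open_isOpenImmersion f hYfin hbij.injOn (fun x hx => hbij.mapsTo hx)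
  intro x hx
  haveI := hiso x hx
  rcases hf with ⟨h1, h2⟩ | h
  · haveI := h1
    haveI := h2
    haveI := isGermInjectiveAt_of_isReduced hYfin (f x) (hbij.mapsTo hx)
    exact exists_local_iso f x (hasLocalSection_of_germInj f x)
  · haveI := h
    exact exists_local_iso f x (hasLocalSection_of_lfp f x)

end Groth.Agent.Lib.BiratMor2H7
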