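import Mathlib
import Groth.Agent.Lib.BiratMor2_helper7
import Groth.Agent.Lib.AffNbhd_helper7

/-!
# Affine opens containing finitely many points with prescribed local rings, I (helper7)

Core lemma: `X` reduced, `g : T' ⟶ X` locally of finite presentation with `T'` affine, and
compatible `X`-morphisms `Spec O_{X,x_j} ⟶ T'`; then the `x_j` lie in a common affine open.
-/

set_option autoImplicit false
set_option backward.isDefEq.respectTransparency false
universe u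
open CategoryTheory CategoryTheory.Limits AlgebraicGeometry

namespace Groth.Agent.Lib.AffPtsH7

open Groth.Agent.Lib

/-- A maximal point (generic point of an irreducible component). -/
def IsMaxPt {S : Type*} [TopologicalSpace S] (ξ : S) : Prop := ∀ y : S, y ⤳ ξ → ξ ⤳ y

theorem isMaxPt_iff {S : Type*} [TopologicalSpace S] [QuasiSober S] (ξ : S) :
    IsMaxPt ξ ↔ closure {ξ} ∈ irreducibleComponents S :=
  (SchIrredComp2H7.closure_singleton_mem_irreducibleComponents_iff ξ).symm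

theorem IsMaxPt.map {S S' : Type*} [TopologicalSpace S] [TopologicalSpace S'] {i : S' → S}
    (hind : Topology.IsInducing i) (hgenz : ∀ (ξ' : S') (y : S), y ⤳ i ξ' → y ∈ Set.range i)
    {ξ' : S'} (h : IsMaxPt ξ') : IsMaxPt (i ξ') := by
  intro y hy
  obtain ⟨y', rfl⟩ := hgenz ξ' y hy
  exact hind.specializes_iff.2 (h y' (hind.specializes_iff.1 hy))

theorem dense_isMaxPt (P : Scheme.{u}) : Dense {ξ : P | IsMaxPt ξ} := by
  intro p
  obtain ⟨ξ, hξ⟩ := QuasiSober.sober (irreducibleComponent_mem_irreducibleComponents p).1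
    (isClosed_of_mem_irreducibleComponents _ (irreducibleComponent_mem_irreducibleComponents p))
  have hmax : IsMaxPt ξ := by
    rw [isMaxPt_iff, hξ.def]; exact irreducibleComponent_mem_irreducibleComponents p
  have hp : p ∈ closure ({ξ} : Set P) := by rw [hξ.def]; exact mem_irreducibleComponent
  exact closure_mono (Set.singleton_subset_iff.2 hmax) hp

section FieldTrick

theorem ringHom_ext_of_surjective_comp {A B K : Type*} [CommRing A] [Field B] [CommRing K]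
    [Nontrivial K] (ψ : A →+* B) (θ θ' : B →+* K) (h : θ.comp ψ = θ'.comp ψ)
    (hs : Function.Surjective (θ.comp ψ)) : θ = θ' := by
  ext b
  obtain ⟨a, ha⟩ := hs (θ b)
  have hinj : Function.Injective θ := θ.injective
  have hb : ψ a = b := hinj ha
  rw [← hb]
  exact congr($h a)

theorem exists_desc {K : Type u} [Field K] {T' : Scheme.{u}} (c : Spec (.of K) ⟶ T') (η : T')
    (hη : c (IsLocalRing.closedPoint K) = η) :
    ∃ θ : T'.residueField η ⟶ .of K, c = Spec.map θ ≫ T'.fromSpecResidueField η := by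
  subst hη
  exact ⟨_, (Scheme.descResidueField_stalkClosedPointTo_fromSpecResidueField K T' c).symm⟩

theorem specHom_ext {K : Type u} [Field K] {T' X : Scheme.{u}} (g : T' ⟶ X)
    (c c' : Spec (.of K) ⟶ T') (h : c ≫ g = c' ≫ g)
    (hpt : c (IsLocalRing.closedPoint K) = c' (IsLocalRing.closedPoint K))
    (x : X) (ε : X.residueField x ⟶ .of K) (hε : Function.Surjective ε.hom)
    (hc : c ≫ g = Spec.map ε ≫ X.fromSpecResidueField x) : c = c' := by
  obtain ⟨η, hη⟩ : ∃ η : T', c (IsLocalRing.closedPoint K) = η := ⟨_, rfl⟩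
  obtain ⟨θ, hθ⟩ := exists_desc c η hη
  obtain ⟨θ', hθ'⟩ := exists_desc c' η (hpt.symm.trans hη)
  have e1 : Spec.map (g.residueFieldMap η ≫ θ) ≫ X.fromSpecResidueField (g η) = c ≫ g := by
    rw [Spec.map_comp, Category.assoc, Scheme.Hom.SpecMap_residueFieldMap_fromSpecResidueField,
      ← Category.assoc, ← hθ]
  have e2 : Spec.map (g.residueFieldMap η ≫ θ') ≫ X.fromSpecResidueField (g η) = c' ≫ g := by
    rw [Spec.map_comp, Category.assoc, Scheme.Hom.SpecMap_residueFieldMap_fromSpecResidueField,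
      ← Category.assoc, ← hθ']
  have e3 : g.residueFieldMap η ≫ θ = g.residueFieldMap η ≫ θ' := by
    apply Spec.map_injective
    rw [← cancel_mono (X.fromSpecResidueField (g η)), e1, e2, h]
  have e4 : (⟨g η, g.residueFieldMap η ≫ θ⟩ : Σ x : X, X.residueField x ⟶ .of K) = ⟨x, ε⟩ := by
    apply (Scheme.SpecToEquivOfField K X).symm.injective
    simp only [Scheme.SpecToEquivOfField_symm_apply]
    exact e1.trans hc
  obtain ⟨e, he⟩ := Scheme.SpecToEquivOfField_eq_iff.1 e4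
  have hsurj : Function.Surjective ((g.residueFieldMap η ≫ θ).hom) := by
    have he' : g.residueFieldMap η ≫ θ = (X.residueFieldCongr e).hom ≫ ε := he
    rw [he', CommRingCat.hom_comp, RingHom.coe_comp]
    exact hε.comp (ConcreteCategory.bijective_of_isIso (X.residueFieldCongr e).hom).2
  have hθθ' : θ = θ' := by
    apply CommRingCat.hom_ext
    refine ringHom_ext_of_surjective_comp (g.residueFieldMap η).hom θ.hom θ'.hom ?_ ?_
    · have := congrArg CommRingCat.Hom.hom e3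
      simpa only [CommRingCat.hom_comp] using this
    · simpa only [CommRingCat.hom_comp] using hsurj
  rw [hθ, hθ', hθθ']

theorem fromSpecResidueField_comp_eq {P T' X : Scheme.{u}} (a b : P ⟶ T') (g : T' ⟶ X)
    (hab : a ≫ g = b ≫ g) [IsOpenImmersion (a ≫ g)] (ξ : P) (hpt : a ξ = b ξ) :
    P.fromSpecResidueField ξ ≫ a = P.fromSpecResidueField ξ ≫ b := by
  refine specHom_ext (K := P.residueField ξ) g _ _
    (by rw [Category.assoc, Category.assoc, hab]) ?_ ((a ≫ g) ξ)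
    ((a ≫ g).residueFieldMap ξ) ?_ ?_
  · have e0 : ∀ s, P.fromSpecResidueField ξ s = ξ :=
      fun s => Scheme.fromSpecResidueField_apply ξ s
    rw [Scheme.Hom.comp_apply, Scheme.Hom.comp_apply]
    exact (congrArg a (e0 _)).trans (hpt.trans (congrArg b (e0 _)).symm)
  · exact (ConcreteCategory.bijective_of_isIso ((a ≫ g).residueFieldMap ξ)).2
  · rw [Category.assoc, Scheme.Hom.SpecMap_residueFieldMap_fromSpecResidueField]

end FieldTrick

/-- The data of compatible lifts of the local schemes `Spec O_{X,x_j}` to `T`. -/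
structure LiftData {T X : Scheme.{u}} (f : T ⟶ X) {m : Type*} (x : m → X) where
  lam : ∀ j, Spec (X.presheaf.stalk (x j)) ⟶ T
  comp : ∀ j, lam j ≫ f = X.fromSpecStalk (x j)
  LF : ∀ j, ∃ N : X.Opens, x j ∈ N ∧ ∀ ξ ∈ N, IsMaxPt ξ → ξ ⤳ x j
  PC : ∀ j j' (p : Spec (X.presheaf.stalk (x j))) (p' : Spec (X.presheaf.stalk (x j'))),
    X.fromSpecStalk (x j) p = X.fromSpecStalk (x j') p' →
      IsMaxPt (X.fromSpecStalk (x j) p) → lam j p = lam j' p'

/-- Post-composition with an `X`-morphism. -/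
noncomputable def LiftData.postcomp {T T' X : Scheme.{u}} {f : T ⟶ X} {m : Type*} {x : m → X}
    (d : LiftData f x) (π : T ⟶ T') (g : T' ⟶ X) (h : π ≫ g = f) : LiftData g x where
  lam j := d.lam j ≫ π
  comp j := by rw [Category.assoc, h, d.comp]
  LF := d.LF
  PC j j' p p' h1 h2 := by
    rw [Scheme.Hom.comp_apply, Scheme.Hom.comp_apply, d.PC j j' p p' h1 h2]

/-- Base change along a morphism which is inducing with generalization-stable range. -/
theorem LiftData.transfer {T X X' : Scheme.{u}} (f : T ⟶ X) (i : X' ⟶ X) {m : Type*}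
    (x' : m → X') (hind : Topology.IsInducing i)
    (hgenz : ∀ (ξ' : X') (y : X), y ⤳ i ξ' → y ∈ Set.range i)
    (hinj : Function.Injective (pullback.fst f i))
    (d : LiftData f (fun j => i (x' j))) : Nonempty (LiftData (pullback.snd f i) x') := by
  have hsq : ∀ j, (Spec.map (i.stalkMap (x' j)) ≫ d.lam j) ≫ f =
      X'.fromSpecStalk (x' j) ≫ i := fun j => by
    rw [Category.assoc, d.comp j, Scheme.SpecMap_stalkMap_fromSpecStalk]
  have key : ∀ j (p : Spec (X'.presheaf.stalk (x' j))),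
      X.fromSpecStalk (i (x' j)) (Spec.map (i.stalkMap (x' j)) p) =
        i (X'.fromSpecStalk (x' j) p) := fun j p => by
    rw [← Scheme.Hom.comp_apply, ← Scheme.Hom.comp_apply, Scheme.SpecMap_stalkMap_fromSpecStalk]
  refine ⟨{ lam := fun j => pullback.lift _ _ (hsq j)
            comp := fun j => pullback.lift_snd _ _ _
            LF := ?_
            PC := ?_ }⟩
  · intro j
    obtain ⟨N, hxN, hN⟩ := d.LF j
    refine ⟨i ⁻¹ᵁ N, hxN, fun ξ' hξ' hmax => ?_⟩
    exact hind.specializes_iff.1 (hN (i ξ') hξ' (hmax.map hind hgenz))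
  · intro j j' p p' hpp hmax
    apply hinj
    rw [← Scheme.Hom.comp_apply, ← Scheme.Hom.comp_apply, pullback.lift_fst, pullback.lift_fst,
      Scheme.Hom.comp_apply, Scheme.Hom.comp_apply]
    refine d.PC j j' _ _ ?_ ?_
    · rw [key, key, hpp]
    · rw [key]; exact hmax.map hind hgenz

section Core

theorem exists_local_section {X T' : Scheme.{u}} (g : T' ⟶ X) [LocallyOfFinitePresentation g]
    (x : X) (μ : Spec (X.presheaf.stalk x) ⟶ T') (hμ : μ ≫ g = X.fromSpecStalk x)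
    (N : X.Opens) (hxN : x ∈ N) :
    ∃ (V : X.Opens) (hxV : x ∈ V) (σ : V.toScheme ⟶ T'), V ≤ N ∧
      μ = V.fromSpecStalkOfMem x hxV ≫ σ ∧ σ ≫ g = V.ι := by
  obtain ⟨U, hxU, f, hf1, hf2⟩ := BiratMor2H7.spread_out_of_lfp' (𝟙 X) g (x := x) μ
    (by rw [hμ, Category.comp_id])
  refine ⟨U ⊓ N, ⟨hxU, hxN⟩, X.homOfLE inf_le_left ≫ f, inf_le_right, ?_, ?_⟩
  · rw [hf1, ← Category.assoc]
    congr 1
    rw [← cancel_mono U.ι, Category.assoc, Scheme.homOfLE_ι, Scheme.Opens.fromSpecStalkOfMem_ι,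
      Scheme.Opens.fromSpecStalkOfMem_ι]
  · rw [Category.assoc, hf2, Category.comp_id, Scheme.homOfLE_ι]

theorem core {X T' : Scheme.{u}} [IsReduced X] [IsAffine T'] (g : T' ⟶ X)
    [LocallyOfFinitePresentation g] {m : Type*} [Finite m] (x : m → X) (d : LiftData g x) :
    ∃ U : X.Opens, IsAffineOpen U ∧ ∀ j, x j ∈ U := by
  classical
  choose N hxN hNmax using d.LF
  have hloc := fun j => exists_local_section g (x j) (d.lam j) (d.comp j) (N j) (hxN j)
  choose V hxV σ hVN hσμ hσg using hloc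
  have hxV' : ∀ j, ∃ a : (V j).toScheme, (V j).ι a = x j := fun j => by
    have : x j ∈ Set.range (V j).ι := by rw [Scheme.Opens.range_ι]; exact hxV j
    exact this
  choose xV hxVι using hxV'
  have hmemV : ∀ j (a : (V j).toScheme), (V j).ι a ∈ V j := fun j a => by
    have : (V j).ι a ∈ Set.range (V j).ι := ⟨a, rfl⟩
    rwa [Scheme.Opens.range_ι] at this
  have hval : ∀ j (ξ' : (V j).toScheme) (p : Spec (X.presheaf.stalk (x j))),
      X.fromSpecStalk (x j) p = (V j).ι ξ' → σ j ξ' = d.lam j p := by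
    intro j ξ' p hp
    have h1 : (V j).fromSpecStalkOfMem (x j) (hxV j) p = ξ' := by
      apply (V j).ι.isOpenEmbedding.injective
      rw [← Scheme.Hom.comp_apply, Scheme.Opens.fromSpecStalkOfMem_ι]
      exact hp
    rw [hσμ j, Scheme.Hom.comp_apply, h1]
  let 𝒰 := Scheme.Opens.iSupOpenCover V
  let W : X.Opens := ⨆ j, V j
  have hfι : ∀ j, 𝒰.f j ≫ W.ι = (V j).ι := fun j => X.homOfLE_ι (le_iSup V j)
  have hcompat : ∀ j j', pullback.fst (𝒰.f j) (𝒰.f j') ≫ σ j =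
      pullback.snd (𝒰.f j) (𝒰.f j') ≫ σ j' := by
    intro j j'
    have hcond : pullback.fst (𝒰.f j) (𝒰.f j') ≫ (V j).ι =
        pullback.snd (𝒰.f j) (𝒰.f j') ≫ (V j').ι := by
      rw [← hfι, ← hfι, ← Category.assoc, ← Category.assoc, pullback.condition]
    have H' : (pullback.fst (𝒰.f j) (𝒰.f j') ≫ σ j) ≫ g =
        (pullback.snd (𝒰.f j) (𝒰.f j') ≫ σ j') ≫ g := by
      rw [Category.assoc, Category.assoc, hσg, hσg, hcond]
    have hρ : (pullback.fst (𝒰.f j) (𝒰.f j') ≫ σ j) ≫ g =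
        pullback.fst (𝒰.f j) (𝒰.f j') ≫ (V j).ι := by
      rw [Category.assoc, hσg]
    haveI : IsOpenImmersion ((pullback.fst (𝒰.f j) (𝒰.f j') ≫ σ j) ≫ g) := by
      rw [hρ]; infer_instance
    haveI : IsReduced (pullback (𝒰.f j) (𝒰.f j')) :=
      isReduced_of_isOpenImmersion (pullback.fst (𝒰.f j) (𝒰.f j') ≫ (V j).ι)
    refine ext_of_fromSpecResidueField_eq _ _ g {ξ | IsMaxPt ξ} (dense_isMaxPt _)
      (fun ξ hξ => ?_) H'
    refine fromSpecResidueField_comp_eq _ _ g H' ξ ?_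
    rw [Scheme.Hom.comp_apply, Scheme.Hom.comp_apply]
    obtain ⟨ξ₁, hξ₁⟩ : ∃ ξ₁ : (V j).toScheme, ξ₁ = pullback.fst (𝒰.f j) (𝒰.f j') ξ := ⟨_, rfl⟩
    obtain ⟨ξ₂, hξ₂⟩ : ∃ ξ₂ : (V j').toScheme, ξ₂ = pullback.snd (𝒰.f j) (𝒰.f j') ξ := ⟨_, rfl⟩
    rw [← hξ₁, ← hξ₂]
    have hξ12 : (V j).ι ξ₁ = (V j').ι ξ₂ := by
      have e := congrArg (fun φ : pullback (𝒰.f j) (𝒰.f j') ⟶ X => φ ξ) hcond
      simp only [Scheme.Hom.comp_apply] at e
      rw [hξ₁, hξ₂]; exact e
    have hmaxX : IsMaxPt ((V j).ι ξ₁) := by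
      have h1 : IsMaxPt ((pullback.fst (𝒰.f j) (𝒰.f j') ≫ (V j).ι) ξ) :=
        IsMaxPt.map (pullback.fst (𝒰.f j) (𝒰.f j') ≫ (V j).ι).isOpenEmbedding.isInducing
          (fun ξ' y hy => hy.mem_open
            (pullback.fst (𝒰.f j) (𝒰.f j') ≫ (V j).ι).isOpenEmbedding.isOpen_range ⟨ξ', rfl⟩) hξ
      rw [Scheme.Hom.comp_apply, ← hξ₁] at h1
      exact h1
    have hs1 : (V j).ι ξ₁ ⤳ x j := hNmax j _ (hVN j (hmemV j ξ₁)) hmaxX
    have hs2 : (V j').ι ξ₂ ⤳ x j' := hNmax j' _ (hVN j' (hmemV j' ξ₂)) (hξ12 ▸ hmaxX)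
    obtain ⟨p, hp⟩ : (V j).ι ξ₁ ∈ Set.range (X.fromSpecStalk (x j)) := by
      rw [Scheme.range_fromSpecStalk]; exact hs1
    obtain ⟨p', hp'⟩ : (V j').ι ξ₂ ∈ Set.range (X.fromSpecStalk (x j')) := by
      rw [Scheme.range_fromSpecStalk]; exact hs2
    exact (hval j ξ₁ p hp).trans ((d.PC j j' p p' (hp.trans (hξ12.trans hp'.symm))
      (by rw [hp]; exact hmaxX)).trans (hval j' ξ₂ p' hp').symm)
  let σW : W.toScheme ⟶ T' := 𝒰.glueMorphisms σ hcompat
  have hσW : ∀ j, 𝒰.f j ≫ σW = σ j := fun j => 𝒰.ι_glueMorphisms σ hcompat j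
  have hσWg : σW ≫ g = W.ι := by
    refine 𝒰.hom_ext _ _ (fun j => ?_)
    rw [← Category.assoc, hσW, hσg, hfι]
  have hmemW : ∀ w : W.toScheme, W.ι w ∈ W := fun w => by
    have : W.ι w ∈ Set.range W.ι := ⟨w, rfl⟩
    rwa [Scheme.Opens.range_ι] at this
  have hrange : Set.range σW ⊆ Set.range (g ⁻¹ᵁ W).ι := by
    rintro _ ⟨w, rfl⟩
    rw [Scheme.Opens.range_ι]
    show g (σW w) ∈ W
    rw [← Scheme.Hom.comp_apply, hσWg]
    exact hmemW w
  let σ' : W.toScheme ⟶ (g ⁻¹ᵁ W).toScheme := IsOpenImmersion.lift (g ⁻¹ᵁ W).ι σW hrange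
  have hσ' : σ' ≫ (g ⁻¹ᵁ W).ι = σW := IsOpenImmersion.lift_fac _ _ _
  have hsec : σ' ≫ (g ∣_ W) = 𝟙 _ := by
    rw [← cancel_mono W.ι, Category.assoc, morphismRestrict_ι, ← Category.assoc, hσ', hσWg,
      Category.id_comp]
  haveI : IsClosedImmersion (σ' ≫ (g ∣_ W)) := by rw [hsec]; infer_instance
  haveI : IsClosedImmersion σ' := IsClosedImmersion.of_comp σ' (g ∣_ W)
  have hmemgW : ∀ j, σ j (xV j) ∈ (g ⁻¹ᵁ W : T'.Opens) := by
    intro j
    show g (σ j (xV j)) ∈ W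
    rw [← Scheme.Hom.comp_apply, hσg, hxVι]
    exact (le_iSup V j) (hxV j)
  obtain ⟨b, hb1, hb2⟩ := AffNbhdH7.exists_basicOpen_avoid T'
    (((g ⁻¹ᵁ W : T'.Opens) : Set T')ᶜ) (g ⁻¹ᵁ W).isOpen.isClosed_compl
    (Set.range fun j => σ j (xV j)) (Set.finite_range _)
    (by rintro _ ⟨j, rfl⟩ h; exact h (hmemgW j))
  have hble : T'.basicOpen b ≤ g ⁻¹ᵁ W := fun y hy => by
    by_contra h; exact hb2 y hy h
  have hW' : IsAffineOpen ((g ⁻¹ᵁ W).ι ⁻¹ᵁ (T'.basicOpen b)) :=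
    ((isAffineOpen_top T').basicOpen b).preimage_of_isOpenImmersion (g ⁻¹ᵁ W).ι
      (by rw [Scheme.Opens.opensRange_ι]; exact hble)
  have hU' : IsAffineOpen (σ' ⁻¹ᵁ ((g ⁻¹ᵁ W).ι ⁻¹ᵁ (T'.basicOpen b))) := hW'.preimage σ'
  refine ⟨W.ι ''ᵁ (σ' ⁻¹ᵁ ((g ⁻¹ᵁ W).ι ⁻¹ᵁ (T'.basicOpen b))),
    hU'.image_of_isOpenImmersion W.ι, fun j => ?_⟩
  refine ⟨𝒰.f j (xV j), ?_, ?_⟩
  · show (g ⁻¹ᵁ W).ι (σ' (𝒰.f j (xV j))) ∈ T'.basicOpen b
    rw [← Scheme.Hom.comp_apply, hσ', ← Scheme.Hom.comp_apply, hσW]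
    exact hb1 _ ⟨j, rfl⟩
  · show W.ι ((X.homOfLE (le_iSup V j)) (xV j)) = x j
    rw [← Scheme.Hom.comp_apply, X.homOfLE_ι (le_iSup V j), hxVι]

end Core

end Groth.Agent.Lib.AffPtsH7
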