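import Mathlib
import Groth.Agent.Lib.AffPts1_helper7
import Groth.Agent.Lib.NApxK_helper7

/-!
# Affine opens containing finitely many points with prescribed local rings, II (helper7)

Reduction of S7660 to the core lemma of part I.
-/

set_option autoImplicit false
set_option backward.isDefEq.respectTransparency false
universe u
open CategoryTheory CategoryTheory.Limits AlgebraicGeometry

namespace Groth.Agent.Lib.AffPtsH7

open Groth.Agent.Lib

theorem isReduced_subscheme_vanishingIdeal {X : Scheme.{u}} (C : TopologicalSpace.Closeds X) :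
    IsReduced (Scheme.IdealSheafData.vanishingIdeal C).subscheme := by
  rw [IsReduced.iff_of_openCover (X := (Scheme.IdealSheafData.vanishingIdeal C).subscheme)
    (Scheme.IdealSheafData.vanishingIdeal C).subschemeCover.openCover]
  intro V'
  let V : X.affineOpens := V'
  change IsReduced (Spec (.of (Γ(X, V) ⧸ (Scheme.IdealSheafData.vanishingIdeal C).ideal V)))
  rw [affine_isReduced_iff]
  apply (Ideal.isRadical_iff_quotient_reduced _).1
  rw [Scheme.IdealSheafData.vanishingIdeal_ideal]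
  exact PrimeSpectrum.isRadical_vanishingIdeal _

theorem liftData_of_isIso {T X : Scheme.{u}} (f : T ⟶ X)
    (hX : (irreducibleComponents (X : Type u)).Finite)
    (hgen : ∀ η : T, IsMaxPt η → IsMaxPt (f η))
    (hinj : ∀ η η' : T, IsMaxPt η → IsMaxPt η' → f η = f η' → η = η')
    {m : Type*} (t : m → T) (ht : ∀ j, IsIso (f.stalkMap (t j))) :
    Nonempty (LiftData f (fun j => f (t j))) := by
  classical
  let lam : ∀ j, Spec (X.presheaf.stalk (f (t j))) ⟶ T := fun j =>
    haveI := ht j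
    Spec.map (inv (f.stalkMap (t j))) ≫ T.fromSpecStalk (t j)
  have hcomp : ∀ j, lam j ≫ f = X.fromSpecStalk (f (t j)) := fun j => by
    haveI := ht j
    have := BiratMor2H7.comp_aux f (t j)
    rw [Category.comp_id] at this
    exact this
  have hmaxT : ∀ j (p : Spec (X.presheaf.stalk (f (t j)))),
      IsMaxPt (X.fromSpecStalk (f (t j)) p) → IsMaxPt (lam j p) := by
    intro j p hmax
    haveI := ht j
    have hp : ∀ z', z' ⤳ p → p ⤳ z' :=
      (SchIrredComp2H7.fromSpecStalk_maximal_iff X (f (t j)) p).2 hmax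
    have e1 : ∀ p, Spec.map (f.stalkMap (t j)) (Spec.map (inv (f.stalkMap (t j))) p) = p := by
      intro p
      rw [← Scheme.Hom.comp_apply, ← Spec.map_comp, IsIso.hom_inv_id, Spec.map_id]
      rfl
    have e2 : ∀ w, Spec.map (inv (f.stalkMap (t j))) (Spec.map (f.stalkMap (t j)) w) = w := by
      intro w
      rw [← Scheme.Hom.comp_apply, ← Spec.map_comp, IsIso.inv_hom_id, Spec.map_id]
      rfl
    have hq : ∀ w, w ⤳ Spec.map (inv (f.stalkMap (t j))) p →
        Spec.map (inv (f.stalkMap (t j))) p ⤳ w := by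
      intro w hw
      have h1 : Spec.map (f.stalkMap (t j)) w ⤳ p := by
        have := hw.map (Spec.map (f.stalkMap (t j))).continuous
        rwa [e1] at this
      have h2 := (hp _ h1).map (Spec.map (inv (f.stalkMap (t j)))).continuous
      rwa [e2] at h2
    have := (SchIrredComp2H7.fromSpecStalk_maximal_iff T (t j) _).1 hq
    show IsMaxPt ((Spec.map (inv (f.stalkMap (t j))) ≫ T.fromSpecStalk (t j)) p)
    rw [Scheme.Hom.comp_apply]
    exact this
  have hLF : ∀ j, ∃ N : X.Opens, f (t j) ∈ N ∧ ∀ ξ ∈ N, IsMaxPt ξ → ξ ⤳ f (t j) := by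
    intro j
    have hfin : {Z | Z ∈ irreducibleComponents (X : Type u) ∧ f (t j) ∉ Z}.Finite :=
      hX.subset (fun Z hZ => hZ.1)
    have hcl : IsClosed (⋃ Z ∈ {Z | Z ∈ irreducibleComponents (X : Type u) ∧ f (t j) ∉ Z}, Z) :=
      hfin.isClosed_biUnion (fun Z hZ => isClosed_of_mem_irreducibleComponents Z hZ.1)
    refine ⟨⟨_, hcl.isOpen_compl⟩, ?_, ?_⟩
    · show f (t j) ∉ ⋃ Z ∈ {Z | Z ∈ irreducibleComponents (X : Type u) ∧ f (t j) ∉ Z}, Z
      intro hmem
      obtain ⟨Z, hZ, hmemZ⟩ := Set.mem_iUnion₂.1 hmem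
      exact hZ.2 hmemZ
    · intro ξ hξ hmax
      have hξ' : ξ ∉ ⋃ Z ∈ {Z | Z ∈ irreducibleComponents (X : Type u) ∧ f (t j) ∉ Z}, Z := hξ
      rw [specializes_iff_mem_closure]
      by_contra hnot
      apply hξ'
      exact Set.mem_iUnion₂.2 ⟨closure {ξ}, ⟨(isMaxPt_iff ξ).1 hmax, hnot⟩, subset_closure rfl⟩
  refine ⟨⟨lam, hcomp, hLF, ?_⟩⟩
  intro j j' p p' hpp hmax
  have hf : ∀ j (p : Spec (X.presheaf.stalk (f (t j)))),
      f (lam j p) = X.fromSpecStalk (f (t j)) p := fun j p => by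
    rw [← Scheme.Hom.comp_apply, hcomp]
  refine hinj _ _ (hmaxT j p hmax) (hmaxT j' p' (hpp ▸ hmax)) ?_
  rw [hf, hf, hpp]

theorem exists_compact_opens {X : Scheme.{u}} (K : Set X) (hK : IsCompact K) :
    ∃ W : X.Opens, IsCompact (W : Set X) ∧ K ⊆ W := by
  classical
  have hcov : ∀ y : X, ∃ W : X.Opens, IsAffineOpen W ∧ y ∈ W := fun y => by
    obtain ⟨_, ⟨(W : X.Opens), hW, rfl⟩, hyW, -⟩ :=
      X.isBasis_affineOpens.exists_subset_of_mem_open (Set.mem_univ y) isOpen_univ
    exact ⟨W, hW, hyW⟩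
  choose W hWaff hyW using hcov
  obtain ⟨t, ht⟩ := hK.elim_finite_subcover (fun y => (W y : Set X)) (fun y => (W y).isOpen)
    (fun y _ => Set.mem_iUnion.mpr ⟨y, hyW y⟩)
  have hcoe : ((⨆ y ∈ t, W y : X.Opens) : Set X) = ⋃ y ∈ t, (W y : Set X) := by simp
  refine ⟨⨆ y ∈ t, W y, ?_, ?_⟩
  · rw [hcoe]
    exact t.isCompact_biUnion (fun y _ => (hWaff y).isCompact)
  · intro y hy
    rw [hcoe]; exact ht hy

attribute [local instance] IsCofiltered.isConnected in
theorem exists_affine_fp_factor {T X : Scheme.{u}} (f : T ⟶ X) [IsAffine T] [CompactSpace X]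
    [QuasiSeparatedSpace X] :
    ∃ (T' : Scheme.{u}) (g : T' ⟶ X) (π : T ⟶ T'),
      IsAffine T' ∧ LocallyOfFinitePresentation g ∧ π ≫ g = f := by
  obtain ⟨I, iP, iD, iN, D, c, hc, h1, h2, ⟨e⟩⟩ := NApxJ_helper7.main7383_qc f
  have hc1 : IsLimit ((Over.forget X).mapCone c) := isLimitOfPreserves (Over.forget X) hc
  haveI hAff : ∀ {i j : Iᵒᵖ} (a : i ⟶ j), IsAffineHom ((D ⋙ Over.forget X).map a) :=
    fun a => h2 _ _ a
  haveI : ∀ i, CompactSpace ((D ⋙ Over.forget X).obj i) := fun i => by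
    have hS : CompactSpace X := inferInstance
    exact @QuasiCompact.compactSpace_of_compactSpace _ _ (D.obj i).hom (h1 i).2.1 hS
  haveI : ∀ i, QuasiSeparatedSpace ((D ⋙ Over.forget X).obj i) := fun i => by
    have hS : QuasiSeparatedSpace X := inferInstance
    exact @quasiSeparatedSpace_of_quasiSeparated _ _ (D.obj i).hom hS (h1 i).2.2
  haveI : IsAffine ((Over.forget X).mapCone c).pt := by
    show IsAffine c.pt.left
    haveI : IsIso e.hom.left := inferInstance
    haveI : IsAffine (Over.mk f).left := (inferInstance : IsAffine T)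
    exact IsAffine.of_isIso e.hom.left
  obtain ⟨i, hi⟩ := Scheme.exists_isAffine_of_isLimit (D ⋙ Over.forget X) _ hc1
  refine ⟨(D.obj i).left, (D.obj i).hom, e.inv.left ≫ (c.π.app i).left, hi, (h1 i).1, ?_⟩
  rw [Category.assoc, Over.w (c.π.app i)]
  exact Over.w e.inv

theorem main7660 {T X : Scheme.{u}} (f : T ⟶ X) [IsAffine T] [QuasiSeparatedSpace X]
    (hX : (irreducibleComponents (X : Type u)).Finite)
    (hgen : ∀ η : T, closure ({η} : Set T) ∈ irreducibleComponents (T : Type u) →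
      closure ({(f.base η)} : Set X) ∈ irreducibleComponents (X : Type u))
    (hinj : ∀ η η' : T, closure ({η} : Set T) ∈ irreducibleComponents (T : Type u) →
      closure ({η'} : Set T) ∈ irreducibleComponents (T : Type u) → f.base η = f.base η' → η = η')
    (s : Finset T) (hs : ∀ t ∈ s, IsIso (f.stalkMap t)) :
    ∃ U : X.Opens, IsAffineOpen U ∧ ∀ t ∈ s, f.base t ∈ U := by
  classical
  -- Step 0
  obtain ⟨d₀⟩ := liftData_of_isIso f hX
    (fun η h => (isMaxPt_iff (f η)).2 (hgen η ((isMaxPt_iff η).1 h)))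
    (fun η η' h h' e => hinj η η' ((isMaxPt_iff η).1 h) ((isMaxPt_iff η').1 h') e)
    (fun j : s => j.1) (fun j => hs j.1 j.2)
  -- Step A: pass to the reduction of X
  obtain ⟨I₀, hI₀⟩ : ∃ I₀ : X.IdealSheafData, I₀ = Scheme.IdealSheafData.vanishingIdeal ⊤ :=
    ⟨_, rfl⟩
  haveI : IsReduced I₀.subscheme := by rw [hI₀]; exact isReduced_subscheme_vanishingIdeal ⊤
  have hi₀surj : Function.Surjective I₀.subschemeι := by
    rw [← Set.range_eq_univ, Scheme.IdealSheafData.range_subschemeι, hI₀,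
      Scheme.IdealSheafData.coe_support_vanishingIdeal]
    rfl
  haveI : Surjective I₀.subschemeι := ⟨hi₀surj⟩
  haveI : QuasiSeparatedSpace I₀.subscheme := quasiSeparatedSpace_of_quasiSeparated I₀.subschemeι
  haveI : IsAffine (pullback f I₀.subschemeι) :=
    isAffine_of_isAffineHom (pullback.fst f I₀.subschemeι)
  have hpr₀ : Function.Surjective (pullback.fst f I₀.subschemeι) :=
    (pullback.fst f I₀.subschemeι).surjective
  choose tA htA using fun j : s => hpr₀ j.1
  have hxA : ∀ j, I₀.subschemeι (pullback.snd f I₀.subschemeι (tA j)) = f j.1 := fun j => by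
    have := congrArg (fun φ : pullback f I₀.subschemeι ⟶ X => φ (tA j))
      (pullback.condition (f := f) (g := I₀.subschemeι))
    simp only [Scheme.Hom.comp_apply] at this
    rw [← htA j]; exact this.symm
  have d₀' : LiftData f (fun j : s => I₀.subschemeι (pullback.snd f I₀.subschemeι (tA j))) := by
    have : (fun j : s => f j.1) =
        fun j : s => I₀.subschemeι (pullback.snd f I₀.subschemeι (tA j)) :=
      funext fun j => (hxA j).symm
    rw [← this]; exact d₀
  obtain ⟨d₁⟩ := LiftData.transfer f I₀.subschemeι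
    (fun j : s => pullback.snd f I₀.subschemeι (tA j))
    I₀.subschemeι.isClosedEmbedding.isInducing
    (fun ξ' y _ => hi₀surj y) (pullback.fst f I₀.subschemeι).isClosedEmbedding.injective d₀'
  -- Step B: pass to a quasi-compact open
  obtain ⟨W₁, hW₁c, hW₁⟩ := exists_compact_opens (Set.range (pullback.snd f I₀.subschemeι))
    (isCompact_range (pullback.snd f I₀.subschemeι).continuous)
  haveI : CompactSpace ↥(W₁ : Scheme.{u}) := isCompact_iff_compactSpace.mp hW₁c
  haveI : QuasiSeparatedSpace ↥(W₁ : Scheme.{u}) := quasiSeparatedSpace_of_quasiSeparated W₁.ι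
  haveI : IsReduced (W₁ : Scheme.{u}) := isReduced_of_isOpenImmersion W₁.ι
  have hpr₁surj : Function.Surjective (pullback.fst (pullback.snd f I₀.subschemeι) W₁.ι) := by
    intro t
    have hmem : pullback.snd f I₀.subschemeι t ∈ Set.range W₁.ι := by
      rw [Scheme.Opens.range_ι]; exact hW₁ ⟨t, rfl⟩
    obtain ⟨w, hw⟩ := hmem
    obtain ⟨z, hz, -⟩ := Scheme.Pullback.exists_preimage_pullback
      (f := pullback.snd f I₀.subschemeι) (g := W₁.ι) t w hw.symm
    exact ⟨z, hz⟩
  haveI : IsIso (pullback.fst (pullback.snd f I₀.subschemeι) W₁.ι) :=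
    isIso_of_isOpenImmersion_of_opensRange_eq_top _ (by
      apply TopologicalSpace.Opens.ext
      rw [Scheme.Hom.coe_opensRange, Set.range_eq_univ.2 hpr₁surj]
      rfl)
  haveI : IsAffine (pullback (pullback.snd f I₀.subschemeι) W₁.ι) :=
    IsAffine.of_isIso (pullback.fst (pullback.snd f I₀.subschemeι) W₁.ι)
  choose tB htB using fun j : s => hpr₁surj (tA j)
  have hxB : ∀ j, W₁.ι (pullback.snd (pullback.snd f I₀.subschemeι) W₁.ι (tB j)) =
      pullback.snd f I₀.subschemeι (tA j) := fun j => by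
    have := congrArg (fun φ : pullback (pullback.snd f I₀.subschemeι) W₁.ι ⟶ I₀.subscheme =>
      φ (tB j)) (pullback.condition (f := pullback.snd f I₀.subschemeι) (g := W₁.ι))
    simp only [Scheme.Hom.comp_apply] at this
    rw [← htB j]; exact this.symm
  have d₁' : LiftData (pullback.snd f I₀.subschemeι)
      (fun j : s => W₁.ι (pullback.snd (pullback.snd f I₀.subschemeι) W₁.ι (tB j))) := by
    have : (fun j : s => pullback.snd f I₀.subschemeι (tA j)) =
        fun j : s => W₁.ι (pullback.snd (pullback.snd f I₀.subschemeι) W₁.ι (tB j)) :=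
      funext fun j => (hxB j).symm
    rw [← this]; exact d₁
  obtain ⟨d₂⟩ := LiftData.transfer (pullback.snd f I₀.subschemeι) W₁.ι
    (fun j : s => pullback.snd (pullback.snd f I₀.subschemeι) W₁.ι (tB j))
    W₁.ι.isOpenEmbedding.isInducing
    (fun ξ' y hy => hy.mem_open W₁.ι.isOpenEmbedding.isOpen_range ⟨ξ', rfl⟩)
    (pullback.fst (pullback.snd f I₀.subschemeι) W₁.ι).isOpenEmbedding.injective d₁'
  -- Step C: finite presentation approximation
  obtain ⟨T', g, π, hT'aff, hgfp, hπg⟩ :=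
    exists_affine_fp_factor (pullback.snd (pullback.snd f I₀.subschemeι) W₁.ι)
  haveI := hT'aff
  haveI := hgfp
  -- Step D: the core lemma
  obtain ⟨U₁, hU₁, hxU₁⟩ := core g _ (d₂.postcomp π g hπg)
  -- Step E: back to X
  have hU₀ : IsAffineOpen (W₁.ι ''ᵁ U₁) := hU₁.image_of_isOpenImmersion W₁.ι
  let U : X.Opens := ⟨(I₀.subschemeι '' ((W₁.ι ''ᵁ U₁ : I₀.subscheme.Opens) : Set I₀.subscheme)ᶜ)ᶜ,
    (I₀.subschemeι.isClosedEmbedding.isClosedMap _
      (W₁.ι ''ᵁ U₁).isOpen.isClosed_compl).isOpen_compl⟩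
  have hpre : I₀.subschemeι ⁻¹ᵁ U = W₁.ι ''ᵁ U₁ := by
    apply TopologicalSpace.Opens.ext
    ext y
    show I₀.subschemeι y ∉ I₀.subschemeι '' _ ↔ _
    constructor
    · intro h
      by_contra hy
      exact h ⟨y, hy, rfl⟩
    · rintro hy ⟨y', hy', e⟩
      exact hy' ((I₀.subschemeι.isClosedEmbedding.injective e) ▸ hy)
  haveI : IsAffine ((I₀.subschemeι ⁻¹ᵁ U : I₀.subscheme.Opens) : Scheme.{u}) := by
    rw [hpre]; exact hU₀
  haveI : Surjective (I₀.subschemeι ∣_ U) :=
    IsZariskiLocalAtTarget.restrict (P := @Surjective) inferInstance U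
  haveI : UniversallyClosed (I₀.subschemeι ∣_ U) :=
    IsZariskiLocalAtTarget.restrict (P := @UniversallyClosed) inferInstance U
  refine ⟨U, ChevGenH7.isAffine_of_surjective_universallyClosed (I₀.subschemeι ∣_ U),
    fun t ht => ?_⟩
  have h1 : pullback.snd f I₀.subschemeι (tA ⟨t, ht⟩) ∈ (W₁.ι ''ᵁ U₁ : I₀.subscheme.Opens) :=
    ⟨_, hxU₁ ⟨t, ht⟩, hxB ⟨t, ht⟩⟩
  rw [← hpre] at h1
  have h2 : I₀.subschemeι (pullback.snd f I₀.subschemeι (tA ⟨t, ht⟩)) ∈ U := h1
  rw [hxA] at h2
  exact h2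

end Groth.Agent.Lib.AffPtsH7
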