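import Mathlib

/-!
# Glueing one-dimensional semi-local rings, part 3 (helper6)

* `exists_pow_mul_eq`: in a domain `B` of dimension `≤ 1` with fraction field `K`, an element
  `f` of the Jacobson radical multiplies any `w : K` into `B` after raising to a power.
* `isLocalization_of_forall_exists`: a criterion for an injective algebra map to be a localization.
* `glue`: the formal glueing statement for two subrings `A`, `B` of a field `K` and `f + g = 1`.
-/

set_option autoImplicit false
universe u

namespace Groth.Agent.Lib.GlueDimOne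

theorem exists_pow_mul_eq (B : Type u) [CommRing B] [IsDomain B]
    (K : Type u) [Field K] [Algebra B K] [IsFractionRing B K] (hdim : ringKrullDim B ≤ 1)
    (f : B) (hf : f ∈ (⊥ : Ideal B).jacobson) (w : K) :
    ∃ n : ℕ, ∃ b : B, algebraMap B K b = algebraMap B K f ^ n * w := by
  haveI hKD : Ring.KrullDimLE 1 B := Ring.krullDimLE_iff.2 hdim
  haveI hdimB : Ring.DimensionLEOne B :=
    ⟨fun {p} hp hprime => Ring.krullDimLE_one_iff_of_noZeroDivisors.1 hKD p hp hprime⟩
  obtain ⟨c, d, hd, rfl⟩ := IsFractionRing.div_surjective (A := B) w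
  have hd0 : d ≠ 0 := nonZeroDivisors.ne_zero hd
  have hnil : IsNilpotent (Ideal.Quotient.mk (Ideal.span ({d} : Set B)) f) := by
    rw [nilpotent_iff_mem_prime]
    intro J hJ
    obtain ⟨P, hP⟩ : ∃ P : Ideal B, P = J.comap (Ideal.Quotient.mk (Ideal.span ({d} : Set B))) :=
      ⟨_, rfl⟩
    haveI hPprime : P.IsPrime := by rw [hP]; exact Ideal.comap_isPrime _ J
    have hdP : d ∈ P := by
      rw [hP, Ideal.mem_comap]
      have : Ideal.Quotient.mk (Ideal.span ({d} : Set B)) d = 0 :=
        Ideal.Quotient.eq_zero_iff_mem.2 (Ideal.mem_span_singleton_self _)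
      rw [this]; exact J.zero_mem
    have hP0 : P ≠ ⊥ := by
      intro h
      rw [h, Ideal.mem_bot] at hdP
      exact hd0 hdP
    have hPmax : P.IsMaximal := Ring.DimensionLEOne.maximalOfPrime hP0 hPprime
    have hfP : f ∈ P := by
      rw [Ideal.jacobson, Ideal.mem_sInf] at hf
      exact hf ⟨bot_le, hPmax⟩
    rw [hP, Ideal.mem_comap] at hfP
    exact hfP
  obtain ⟨n, hn⟩ := hnil
  rw [← map_pow, Ideal.Quotient.eq_zero_iff_mem, Ideal.mem_span_singleton'] at hn
  obtain ⟨e, he⟩ := hn
  refine ⟨n, e * c, ?_⟩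
  have hdK : algebraMap B K d ≠ 0 := by
    rw [Ne, map_eq_zero_iff _ (IsFractionRing.injective B K)]
    exact hd0
  rw [← map_pow, ← he, map_mul, map_mul]
  field_simp

theorem isLocalization_of_forall_exists {R S : Type*} [CommRing R] [CommRing S] [Algebra R S]
    (hinj : Function.Injective (algebraMap R S)) (M : Submonoid R)
    (hunit : ∀ m ∈ M, IsUnit (algebraMap R S m))
    (hsurj : ∀ s : S, ∃ m ∈ M, ∃ r : R, algebraMap R S r = algebraMap R S m * s) :
    IsLocalization M S where
  map_units y := hunit y y.2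
  surj z := by
    obtain ⟨m, hm, r, hr⟩ := hsurj z
    exact ⟨(r, ⟨m, hm⟩), by rw [hr, mul_comm]⟩
  exists_of_eq {x y} h := ⟨1, by rw [hinj h]⟩

end Groth.Agent.Lib.GlueDimOne
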