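import Mathlib
import Groth.Agent.Lib.GlueDimOne3_helper6

/-!
# Glueing one-dimensional semi-local rings, part 5 (helper6)

Subring versions of the auxiliary lemmas.
-/

set_option autoImplicit false
universe u

namespace Groth.Agent.Lib.GlueDimOne

/-- If `p` lies in the radical of `A` and `q = p⁻¹` lies in the radical of `B`, then
`f = (1 + p)⁻¹` is a unit of `A` lying in the radical of `B`. -/
theorem inv_one_add_mem (K : Type u) [Field K] (A B : Subring K) (p q : K) (hpq : p * q = 1)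
    (hpA : p ∈ A) (hpJ : (⟨p, hpA⟩ : A) ∈ (⊥ : Ideal A).jacobson)
    (hqB : q ∈ B) (hqJ : (⟨q, hqB⟩ : B) ∈ (⊥ : Ideal B).jacobson) :
    1 + p ≠ 0 ∧ (1 + p)⁻¹ ∈ A ∧ ((1 + p)⁻¹)⁻¹ ∈ A ∧
      ∃ h : (1 + p)⁻¹ ∈ B, (⟨(1 + p)⁻¹, h⟩ : B) ∈ (⊥ : Ideal B).jacobson := by
  have hp0 : p ≠ 0 := left_ne_zero_of_mul_eq_one hpq
  have hq0 : q ≠ 0 := right_ne_zero_of_mul_eq_one hpq
  have hq : q = p⁻¹ := eq_inv_of_mul_eq_one_right hpq
  -- units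
  obtain ⟨u, hu⟩ := (Ideal.mem_jacobson_bot.1 hpJ) 1
  obtain ⟨v, hv⟩ := (Ideal.mem_jacobson_bot.1 hqJ) 1
  have huK : ((u : A) : K) = 1 + p := by
    rw [hu]; show p * 1 + 1 = 1 + p; ring
  have hvK : ((v : B) : K) = 1 + q := by
    rw [hv]; show q * 1 + 1 = 1 + q; ring
  have hu1 : ((u : A) : K) * ((u⁻¹ : Aˣ) : A) = 1 := by
    have : (u : A) * ((u⁻¹ : Aˣ) : A) = 1 := u.mul_inv
    exact congrArg Subtype.val this
  have hv1 : ((v : B) : K) * ((v⁻¹ : Bˣ) : B) = 1 := by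
    have : (v : B) * ((v⁻¹ : Bˣ) : B) = 1 := v.mul_inv
    exact congrArg Subtype.val this
  have h1p : 1 + p ≠ 0 := by
    rw [← huK]; exact left_ne_zero_of_mul_eq_one hu1
  have h1q : 1 + q ≠ 0 := by
    rw [← hvK]; exact left_ne_zero_of_mul_eq_one hv1
  have huinv : (((u⁻¹ : Aˣ) : A) : K) = (1 + p)⁻¹ := by
    rw [← huK]; exact eq_inv_of_mul_eq_one_right hu1
  have hvinv : (((v⁻¹ : Bˣ) : B) : K) = (1 + q)⁻¹ := by
    rw [← hvK]; exact eq_inv_of_mul_eq_one_right hv1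
  refine ⟨h1p, ?_, ?_, ?_⟩
  · rw [← huinv]; exact ((u⁻¹ : Aˣ) : A).2
  · rw [inv_inv]; exact A.add_mem A.one_mem hpA
  · have hval : (1 + p)⁻¹ = q * (1 + q)⁻¹ := by
      have h2 : 1 + q = (1 + p) * q := by
        rw [add_mul, hpq, one_mul, add_comm]
      rw [h2, mul_inv, mul_comm (1 + p)⁻¹, ← mul_assoc, mul_inv_cancel₀ hq0, one_mul]
    have hmem : (⟨q, hqB⟩ : B) * ((v⁻¹ : Bˣ) : B) ∈ (⊥ : Ideal B).jacobson :=
      Ideal.mul_mem_right _ _ hqJ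
    have hval' : (((⟨q, hqB⟩ : B) * ((v⁻¹ : Bˣ) : B) : B) : K) = (1 + p)⁻¹ := by
      rw [hval, ← hvinv]; rfl
    refine ⟨hval' ▸ ((⟨q, hqB⟩ : B) * ((v⁻¹ : Bˣ) : B)).2, ?_⟩
    have : (⟨(1 + p)⁻¹, hval' ▸ ((⟨q, hqB⟩ : B) * ((v⁻¹ : Bˣ) : B)).2⟩ : B) =
        (⟨q, hqB⟩ : B) * ((v⁻¹ : Bˣ) : B) := Subtype.ext hval'.symm
    rw [this]
    exact hmem

/-- Subring version of `exists_pow_mul_eq`. -/
theorem exists_pow_mul_mem (K : Type u) [Field K] (B : Subring K) [IsFractionRing B K]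
    (hdim : ringKrullDim B ≤ 1) (f : K) (hfB : f ∈ B)
    (hfJ : (⟨f, hfB⟩ : B) ∈ (⊥ : Ideal B).jacobson) (w : K) :
    ∃ n : ℕ, f ^ n * w ∈ B := by
  obtain ⟨n, b, hb⟩ := exists_pow_mul_eq B K hdim ⟨f, hfB⟩ hfJ w
  refine ⟨n, ?_⟩
  have : (b : K) = f ^ n * w := hb
  rw [← this]
  exact b.2

end Groth.Agent.Lib.GlueDimOne
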