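import Mathlib

/-!
# Glueing one-dimensional semi-local rings, part 7 (helper6)

The predicate `InRad A y` (`y` lies in the Jacobson radical of the subring `A` of a field) and the
partition of unity `exists_partition` used to glue finitely many subrings.
-/

set_option autoImplicit false
universe u

namespace Groth.Agent.Lib.GlueDimOne

/-- `y : K` lies in the Jacobson radical of the subring `A`. -/
def InRad {K : Type u} [Field K] (A : Subring K) (y : K) : Prop :=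
  ∃ h : y ∈ A, (⟨y, h⟩ : A) ∈ (⊥ : Ideal A).jacobson

namespace InRad

variable {K : Type u} [Field K] {A : Subring K}

theorem mem {y : K} (hy : InRad A y) : y ∈ A := hy.1

theorem zero : InRad A 0 := ⟨A.zero_mem, Ideal.zero_mem _⟩

theorem add {y z : K} (hy : InRad A y) (hz : InRad A z) : InRad A (y + z) := by
  obtain ⟨hy1, hy2⟩ := hy
  obtain ⟨hz1, hz2⟩ := hz
  exact ⟨A.add_mem hy1 hz1, Ideal.add_mem _ hy2 hz2⟩

theorem mul_mem {y z : K} (hy : InRad A y) (hz : z ∈ A) : InRad A (y * z) := by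
  obtain ⟨hy1, hy2⟩ := hy
  exact ⟨A.mul_mem hy1 hz, Ideal.mul_mem_right (⟨z, hz⟩ : A) _ hy2⟩

theorem sum {ι : Type*} (s : Finset ι) (g : ι → K) (hg : ∀ k ∈ s, InRad A (g k)) :
    InRad A (∑ k ∈ s, g k) := by
  classical
  induction s using Finset.induction_on with
  | empty => simpa using zero
  | insert a s ha ih =>
    rw [Finset.sum_insert ha]
    exact add (hg a (Finset.mem_insert_self a s))
      (ih fun k hk => hg k (Finset.mem_insert_of_mem hk))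

theorem inv_one_add {y : K} (hy : InRad A y) : 1 + y ≠ 0 ∧ (1 + y)⁻¹ ∈ A := by
  obtain ⟨hy1, hy2⟩ := hy
  obtain ⟨u, hu⟩ := (Ideal.mem_jacobson_bot.1 hy2) 1
  have huK : ((u : A) : K) = 1 + y := by
    rw [hu]; show y * 1 + 1 = 1 + y; ring
  have hu1 : ((u : A) : K) * ((u⁻¹ : Aˣ) : A) = 1 := by
    have : (u : A) * ((u⁻¹ : Aˣ) : A) = 1 := u.mul_inv
    exact congrArg Subtype.val this
  have h1 : 1 + y ≠ 0 := by
    rw [← huK]; exact left_ne_zero_of_mul_eq_one hu1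
  have huinv : (((u⁻¹ : Aˣ) : A) : K) = (1 + y)⁻¹ := by
    rw [← huK]; exact eq_inv_of_mul_eq_one_right hu1
  refine ⟨h1, ?_⟩
  rw [← huinv]; exact ((u⁻¹ : Aˣ) : A).2

end InRad

/-- Partition of unity adapted to a finite family of subrings. -/
theorem exists_partition (K : Type u) [Field K] {ι : Type*} [Fintype ι] [Nonempty ι]
    (A : ι → Subring K) (x : ι → K) (hxA : ∀ i, x i ∈ A i) (hx0 : ∀ i, x i ≠ 0)
    (hx : ∀ i j, j ≠ i → InRad (A j) (x i)⁻¹) :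
    ∃ f : ι → K, ∑ i, f i = 1 ∧ ∀ i, f i ≠ 0 ∧ f i ∈ A i ∧ (f i)⁻¹ ∈ A i ∧
      ∀ j, j ≠ i → InRad (A j) (f i) := by
  classical
  obtain ⟨s, hs⟩ : ∃ s : K, s = ∑ k, (x k)⁻¹ := ⟨_, rfl⟩
  obtain ⟨T, hT⟩ : ∃ T : ι → K, T = fun i => ∑ k ∈ Finset.univ.erase i, (x k)⁻¹ * x i := ⟨_, rfl⟩
  have hTrad : ∀ i, InRad (A i) (T i) := by
    intro i
    rw [hT]
    apply InRad.sum
    intro k hk
    exact (hx k i (Finset.ne_of_mem_erase hk).symm).mul_mem (hxA i)
  have hxs : ∀ i, x i * s = 1 + T i := by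
    intro i
    rw [hs, hT, ← Finset.add_sum_erase Finset.univ _ (Finset.mem_univ i), mul_add,
      mul_inv_cancel₀ (hx0 i), Finset.mul_sum]
    congr 1
    apply Finset.sum_congr rfl
    intro k _
    rw [mul_comm]
  have hunit : ∀ i, 1 + T i ≠ 0 ∧ (1 + T i)⁻¹ ∈ A i := fun i => (hTrad i).inv_one_add
  have hs0 : s ≠ 0 := by
    obtain ⟨i⟩ := ‹Nonempty ι›
    intro h
    apply (hunit i).1
    rw [← hxs i, h, mul_zero]
  have hf : ∀ i, (x i)⁻¹ * s⁻¹ = (1 + T i)⁻¹ := by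
    intro i
    rw [← hxs i, mul_inv]
  refine ⟨fun i => (x i)⁻¹ * s⁻¹, ?_, fun i => ⟨?_, ?_, ?_, ?_⟩⟩
  · rw [← Finset.sum_mul, ← hs, mul_inv_cancel₀ hs0]
  · exact mul_ne_zero (inv_ne_zero (hx0 i)) (inv_ne_zero hs0)
  · show (x i)⁻¹ * s⁻¹ ∈ A i
    rw [hf i]; exact (hunit i).2
  · show ((x i)⁻¹ * s⁻¹)⁻¹ ∈ A i
    rw [hf i, inv_inv]
    exact (A i).add_mem (A i).one_mem (hTrad i).mem
  · intro j hj
    show InRad (A j) ((x i)⁻¹ * s⁻¹)
    have : (x i)⁻¹ * s⁻¹ = (x i)⁻¹ * (x j * (1 + T j)⁻¹) := by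
      rw [← hf j, ← mul_assoc (x j), mul_inv_cancel₀ (hx0 j), one_mul]
    rw [this]
    exact (hx i j hj).mul_mem ((A j).mul_mem (hxA j) (hunit j).2)

end Groth.Agent.Lib.GlueDimOne
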