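import Mathlib
import Groth.Agent.Lib.KrullAkizuki4_helper6

/-!
# Consequences of Krull–Akizuki (helper6), part 5
-/

set_option autoImplicit false
universe u

namespace Groth.Agent.Lib.KA

open scoped nonZeroDivisors

section

variable {R : Type u} [CommRing R] [IsDomain R] [IsNoetherianRing R]
  (K L : Type u) [Field K] [Field L] [Algebra R K] [IsFractionRing R K] [Algebra K L]
  [FiniteDimensional K L] [Algebra R L] [IsScalarTower R K L]
  {A : Type u} [CommRing A] [Algebra R A] [Algebra A L] [IsScalarTower R A L]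

include K

/-- `A/(x)` is an Artinian ring. -/
theorem isArtinianRing_quotient (hdim : ringKrullDim R ≤ 1)
    (hA : Function.Injective (algebraMap A L)) (x : R) (hx : x ≠ 0) :
    IsArtinianRing (A ⧸ Ideal.span ({algebraMap R A x} : Set A)) := by
  obtain ⟨-, hAr⟩ := isNoetherian_quotient_ideal K L hdim hA x hx
  have h1 : IsArtinian A (A ⧸ Ideal.span ({algebraMap R A x} : Set A)) :=
    isArtinian_of_tower R hAr
  exact isArtinian_of_tower A h1

/-- primes of `A` containing `x ≠ 0` are maximal. -/
theorem isMaximal_of_mem (hdim : ringKrullDim R ≤ 1)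
    (hA : Function.Injective (algebraMap A L)) (x : R) (hx : x ≠ 0) (n : Ideal A) [n.IsPrime]
    (hxn : algebraMap R A x ∈ n) : n.IsMaximal := by
  haveI := isArtinianRing_quotient K L hdim hA x hx
  have hle : Ideal.span ({algebraMap R A x} : Set A) ≤ n := by
    rw [Ideal.span_le, Set.singleton_subset_iff]; exact hxn
  have hker : RingHom.ker (Ideal.Quotient.mk (Ideal.span ({algebraMap R A x} : Set A))) ≤ n := by
    rw [Ideal.mk_ker]; exact hle
  haveI hprime : (n.map (Ideal.Quotient.mk (Ideal.span ({algebraMap R A x} : Set A)))).IsPrime :=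
    Ideal.map_isPrime_of_surjective Ideal.Quotient.mk_surjective hker
  have hmax : (n.map (Ideal.Quotient.mk (Ideal.span ({algebraMap R A x} : Set A)))).IsMaximal :=
    inferInstance
  have hcomap : (n.map (Ideal.Quotient.mk (Ideal.span ({algebraMap R A x} : Set A)))).comap
      (Ideal.Quotient.mk (Ideal.span ({algebraMap R A x} : Set A))) = n := by
    rw [Ideal.comap_map_of_surjective _ Ideal.Quotient.mk_surjective, ← RingHom.ker_eq_comap_bot]
    exact sup_eq_left.2 hker
  rw [← hcomap]
  exact Ideal.comap_isMaximal_of_surjective _ Ideal.Quotient.mk_surjective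

/-- only finitely many primes of `A` contain `x ≠ 0`. -/
theorem finite_primes_of_mem (hdim : ringKrullDim R ≤ 1)
    (hA : Function.Injective (algebraMap A L)) (x : R) (hx : x ≠ 0) :
    {n : Ideal A | n.IsPrime ∧ algebraMap R A x ∈ n}.Finite := by
  haveI := isArtinianRing_quotient K L hdim hA x hx
  have hfin := IsArtinianRing.setOfPred_isPrime_finite
    (A ⧸ Ideal.span ({algebraMap R A x} : Set A))
  refine (hfin.image (Ideal.comap (Ideal.Quotient.mk
    (Ideal.span ({algebraMap R A x} : Set A))))).subset ?_
  rintro n ⟨hn, hxn⟩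
  have hle : Ideal.span ({algebraMap R A x} : Set A) ≤ n := by
    rw [Ideal.span_le, Set.singleton_subset_iff]; exact hxn
  have hker : RingHom.ker (Ideal.Quotient.mk (Ideal.span ({algebraMap R A x} : Set A))) ≤ n := by
    rw [Ideal.mk_ker]; exact hle
  refine ⟨n.map (Ideal.Quotient.mk (Ideal.span ({algebraMap R A x} : Set A))),
    Ideal.map_isPrime_of_surjective Ideal.Quotient.mk_surjective hker, ?_⟩
  rw [Ideal.comap_map_of_surjective _ Ideal.Quotient.mk_surjective, ← RingHom.ker_eq_comap_bot]
  exact sup_eq_left.2 hker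

/-- `A/n` is a finite `R`-module if `n` contains `x ≠ 0`. -/
theorem finite_quotient_of_mem (hdim : ringKrullDim R ≤ 1)
    (hA : Function.Injective (algebraMap A L)) (x : R) (hx : x ≠ 0) (n : Ideal A)
    (hxn : algebraMap R A x ∈ n) : Module.Finite R (A ⧸ n) := by
  obtain ⟨hN, -⟩ := isNoetherian_quotient_ideal K L hdim hA x hx
  have hle : Ideal.span ({algebraMap R A x} : Set A) ≤ n := by
    rw [Ideal.span_le, Set.singleton_subset_iff]; exact hxn
  let g : (A ⧸ Ideal.span ({algebraMap R A x} : Set A)) →ₗ[R] (A ⧸ n) :=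
    (Submodule.mapQ _ _ (LinearMap.id : A →ₗ[A] A) hle).restrictScalars R
  have hg : Function.Surjective g := by
    intro y
    obtain ⟨a, rfl⟩ := Submodule.mkQ_surjective _ y
    exact ⟨Submodule.Quotient.mk a, rfl⟩
  exact Module.Finite.of_surjective g hg

end

end Groth.Agent.Lib.KA
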