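import Mathlib
import Groth.Agent.Lib.KrullAkizuki6_helper6

/-!
# Conductor-type lemma, uniform version (helper6)
-/

set_option autoImplicit false
universe u

namespace Groth.Agent.Lib.KA

open scoped nonZeroDivisors

/-- If `x` lies in every nonzero prime of the normalization `B'` of a one-dimensional Noetherian
domain `B`, then every `y ∈ B'` is multiplied into `B` by a power of `x`. -/
theorem exists_forall_pow_mul_mem_range {B : Type u} [CommRing B] [IsDomain B] [IsNoetherianRing B]
    (K : Type u) [Field K] [Algebra B K] [IsFractionRing B K] (hdim : ringKrullDim B ≤ 1)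
    (x y : integralClosure B K)
    (hx : ∀ P : Ideal (integralClosure B K), P.IsPrime → P ≠ ⊥ → x ∈ P) :
    ∃ N : ℕ, ∀ n ≥ N, ((x ^ n * y : integralClosure B K) : K) ∈ (algebraMap B K).range := by
  classical
  obtain ⟨C, hC⟩ : ∃ C : Subalgebra B K, C = Algebra.adjoin B {(x : K), (y : K)} := ⟨_, rfl⟩
  have hxC : (x : K) ∈ C := by rw [hC]; exact Algebra.subset_adjoin (by simp)
  have hyC : (y : K) ∈ C := by rw [hC]; exact Algebra.subset_adjoin (by simp)
  have hCle : C ≤ integralClosure B K := by
    rw [hC]
    apply Algebra.adjoin_le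
    intro z hz
    rcases hz with rfl | rfl
    · exact x.2
    · exact y.2
  have hfg : C.toSubmodule.FG := by
    rw [hC]
    apply fg_adjoin_of_finite (Set.toFinite _)
    intro z hz
    rcases hz with rfl | rfl
    · exact x.2
    · exact y.2
  obtain ⟨c, hc, hcint⟩ : IsFractional B⁰ C.toSubmodule := FractionalIdeal.isFractional_of_fg hfg
  have hc0 : c ≠ 0 := nonZeroDivisors.ne_zero hc
  have hCK : Function.Injective (algebraMap C K) := Subtype.val_injective
  haveI hArt := isArtinianRing_quotient K K hdim hCK c hc0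
  -- the inclusion `C → B'`
  let ι : C →ₐ[B] integralClosure B K := Subalgebra.inclusion hCle
  have hιinj : Function.Injective ι := Subalgebra.inclusion_injective hCle
  letI : Algebra C (integralClosure B K) := ι.toRingHom.toAlgebra
  haveI : IsScalarTower B C (integralClosure B K) :=
    IsScalarTower.of_algebraMap_eq (fun b => (ι.commutes b).symm)
  haveI : Algebra.IsIntegral C (integralClosure B K) :=
    ⟨fun z => (Algebra.IsIntegral.isIntegral (R := B) z).tower_top⟩
  have hnil : IsNilpotent (Ideal.Quotient.mk (Ideal.span ({algebraMap B C c} : Set C))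
      (⟨(x : K), hxC⟩ : C)) := by
    rw [nilpotent_iff_mem_prime]
    intro J hJ
    obtain ⟨p, hp⟩ : ∃ p : Ideal C, p = J.comap (Ideal.Quotient.mk
        (Ideal.span ({algebraMap B C c} : Set C))) := ⟨_, rfl⟩
    haveI hpprime : p.IsPrime := by rw [hp]; exact Ideal.comap_isPrime _ J
    have hcp : algebraMap B C c ∈ p := by
      rw [hp, Ideal.mem_comap]
      have : Ideal.Quotient.mk (Ideal.span ({algebraMap B C c} : Set C)) (algebraMap B C c) = 0 :=
        Ideal.Quotient.eq_zero_iff_mem.2 (Ideal.mem_span_singleton_self _)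
      rw [this]; exact J.zero_mem
    have hker : RingHom.ker (algebraMap C (integralClosure B K)) ≤ p := by
      intro z hz
      have : z = 0 := hιinj (by rw [map_zero]; exact hz)
      rw [this]; exact p.zero_mem
    obtain ⟨P, hPprime, hPp⟩ :=
      Ideal.exists_ideal_over_prime_of_isIntegral_of_isDomain (S := integralClosure B K) p hker
    have hP0 : P ≠ ⊥ := by
      intro h
      rw [h] at hPp
      have h1 : algebraMap B C c ∈ Ideal.comap (algebraMap C (integralClosure B K)) ⊥ := by
        rw [hPp]; exact hcp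
      rw [Ideal.mem_comap, Ideal.mem_bot] at h1
      have h2 : algebraMap B C c = 0 := hιinj (by rw [map_zero]; exact h1)
      have h3 : algebraMap B K c = 0 := by
        have := congrArg (algebraMap C K) h2
        rwa [map_zero, ← IsScalarTower.algebraMap_apply] at this
      exact hc0 ((map_eq_zero_iff _ (IsFractionRing.injective B K)).1 h3)
    have hxP : x ∈ P := hx P hPprime hP0
    have hxp : (⟨(x : K), hxC⟩ : C) ∈ p := by
      rw [← hPp, Ideal.mem_comap]
      have : algebraMap C (integralClosure B K) ⟨(x : K), hxC⟩ = x := Subtype.ext rfl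
      rw [this]; exact hxP
    rw [hp, Ideal.mem_comap] at hxp
    exact hxp
  obtain ⟨N, hN⟩ := hnil
  rw [← map_pow, Ideal.Quotient.eq_zero_iff_mem, Ideal.mem_span_singleton'] at hN
  obtain ⟨z0, hz0⟩ := hN
  refine ⟨N, fun n hn => ?_⟩
  obtain ⟨k, rfl⟩ : ∃ k, n = N + k := ⟨n - N, by omega⟩
  obtain ⟨z, hz⟩ : ∃ z : C, z * algebraMap B C c = (⟨(x : K), hxC⟩ : C) ^ (N + k) :=
    ⟨(⟨(x : K), hxC⟩ : C) ^ k * z0, by rw [pow_add, ← hz0]; ring⟩
  -- x^n = z * c in C
  have hz' : (z : K) * algebraMap B K c = (x : K) ^ (N + k) := by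
    have := congrArg (fun w : C => (w : K)) hz
    simpa using this
  have hzy : (z : K) * (y : K) ∈ C.toSubmodule := C.mul_mem z.2 hyC
  obtain ⟨b, hb⟩ := hcint _ hzy
  refine ⟨b, ?_⟩
  rw [hb, Algebra.smul_def]
  push_cast
  rw [← hz']
  ring

end Groth.Agent.Lib.KA
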