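import Mathlib

/-!
# Simultaneous poles for finitely many discrete valuations (helper6)
-/

set_option autoImplicit false
universe u

namespace Groth.Agent.Lib.ValAvoid

open WithZero

/-- Archimedean property of `ℤᵐ⁰`. -/
theorem exists_forall_lt_pow (a b : ℤᵐ⁰) (ha : 1 < a) : ∃ N : ℕ, ∀ n ≥ N, b < a ^ n := by
  have ha0 : a ≠ 0 := (zero_lt_one.trans ha).ne'
  obtain ⟨α, rfl⟩ : ∃ α : ℤ, a = exp α := ⟨log a, (exp_log ha0).symm⟩
  have hα : 0 < α := by
    rw [← exp_zero, exp_lt_exp] at ha; exact ha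
  induction b using WithZero.expRecOn with
  | zero =>
    refine ⟨0, fun n _ => ?_⟩
    exact pow_pos (zero_lt_one.trans ha) n
  | exp β =>
    refine ⟨β.toNat + 1, fun n hn => ?_⟩
    rw [← exp_nsmul, exp_lt_exp]
    have h1 : β ≤ β.toNat := Int.self_le_toNat β
    have h2 : ((β.toNat + 1 : ℕ) : ℤ) ≤ n := by exact_mod_cast hn
    have h3 : (n : ℤ) ≤ n • α := by
      rw [nsmul_eq_mul]
      nlinarith
    push_cast at h2
    omega

theorem exists_mem_forall_one_lt {K : Type u} [Field K] (A : Subring K) {ι : Type*}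
    (v : ι → Valuation K ℤᵐ⁰) (s : Finset ι) (h : ∀ j ∈ s, ∃ y ∈ A, 1 < v j y) :
    ∃ x ∈ A, ∀ j ∈ s, 1 < v j x := by
  classical
  induction s using Finset.induction_on with
  | empty => exact ⟨1, A.one_mem, fun j hj => absurd hj (Finset.notMem_empty j)⟩
  | insert j₀ s hj₀ ih =>
    obtain ⟨x, hxA, hx⟩ := ih (fun j hj => h j (Finset.mem_insert_of_mem hj))
    obtain ⟨y, hyA, hy⟩ := h j₀ (Finset.mem_insert_self j₀ s)
    by_cases hx0 : 1 < v j₀ x
    · refine ⟨x, hxA, fun j hj => ?_⟩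
      rcases Finset.mem_insert.1 hj with rfl | hj
      · exact hx0
      · exact hx j hj
    · have hx0' : v j₀ x ≤ 1 := not_lt.1 hx0
      have hN : ∀ j ∈ s, ∃ N : ℕ, ∀ n ≥ N, v j y < (v j x) ^ n :=
        fun j hj => exists_forall_lt_pow _ _ (hx j hj)
      choose! N hN using hN
      obtain ⟨n, hn1, hn⟩ : ∃ n : ℕ, 1 ≤ n ∧ ∀ j ∈ s, N j ≤ n :=
        ⟨s.sup N + 1, by omega, fun j hj => (Finset.le_sup hj).trans (Nat.le_succ _)⟩
      refine ⟨x ^ n + y, A.add_mem (A.pow_mem hxA n) hyA, fun j hj => ?_⟩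
      rcases Finset.mem_insert.1 hj with rfl | hj
      · have h1 : v j (x ^ n) < v j y := by
          rw [map_pow]
          exact lt_of_le_of_lt (pow_le_one₀ (zero_le') hx0') hy
        rw [Valuation.map_add_eq_of_lt_right _ h1]
        exact hy
      · have h1 : v j y < v j (x ^ n) := by
          rw [map_pow]; exact hN j hj n (hn j hj)
        rw [Valuation.map_add_eq_of_lt_left _ h1, map_pow]
        exact one_lt_pow₀ (hx j hj) (by omega)

end Groth.Agent.Lib.ValAvoid
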