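import Mathlib
import Groth.Agent.Lib.KrullAkizuki7_helper6
import Groth.Agent.Lib.ValAvoid_helper6
import Groth.Agent.S6370

/-!
# Glueing one-dimensional semi-local rings, part 1 (helper6)

For a one-dimensional Noetherian semi-local domain `B` with fraction field `K` and normalization
`B' = integralClosure B K`:
* `isDedekindDomain_integralClosure`, `finite_maximalSpectrum_integralClosure`,
  `finite_heightOneSpectrum_integralClosure`;
* `exists_mem_one_lt_valuation`: a subring `A ⊆ K` generating `K` together with `B` has an element
  with a pole at any given point of `B'`;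
* `exists_forall_inv_pow_mem_jacobson`: an element of `K` with poles at all points of `B'` has
  all large powers of its inverse in the Jacobson radical of `B`.
-/

set_option autoImplicit false
universe u

namespace Groth.Agent.Lib.GlueDimOne

open IsDedekindDomain

variable (B : Type u) [CommRing B] [IsDomain B] [IsNoetherianRing B]
  (K : Type u) [Field K] [Algebra B K] [IsFractionRing B K]

theorem isDedekindDomain_integralClosure (hdim : ringKrullDim B = 1) :
    IsDedekindDomain (integralClosure B K) :=
  (Groth.Agent.S6370.result B K K (integralClosure B K) hdim).1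

theorem finite_maximalSpectrum_integralClosure (hdim : ringKrullDim B = 1)
    (hsl : Finite (MaximalSpectrum B)) : Finite (MaximalSpectrum (integralClosure B K)) := by
  obtain ⟨hDed, hsurj, hfib, -⟩ := Groth.Agent.S6370.result B K K (integralClosure B K) hdim
  haveI := hDed
  haveI := hsl
  have hfin : (⋃ m : MaximalSpectrum B, PrimeSpectrum.comap (algebraMap B
      (integralClosure B K)) ⁻¹' {m.toPrimeSpectrum}).Finite :=
    Set.finite_iUnion fun m => hfib m.toPrimeSpectrum
  haveI := hfin.to_subtype
  let φ : MaximalSpectrum (integralClosure B K) →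
      ↥(⋃ m : MaximalSpectrum B, PrimeSpectrum.comap (algebraMap B
        (integralClosure B K)) ⁻¹' {m.toPrimeSpectrum}) := fun Q =>
    ⟨Q.toPrimeSpectrum, by
      rw [Set.mem_iUnion]
      haveI : Q.asIdeal.IsMaximal := Q.isMaximal
      have hmax : (Q.asIdeal.comap (algebraMap B (integralClosure B K))).IsMaximal :=
        Ideal.isMaximal_comap_of_isIntegral_of_isMaximal Q.asIdeal
      refine ⟨⟨_, hmax⟩, ?_⟩
      rw [Set.mem_preimage, Set.mem_singleton_iff]
      rfl⟩
  have hφ : Function.Injective φ := by
    intro Q Q' h
    have h1 : Q.toPrimeSpectrum = Q'.toPrimeSpectrum := congrArg Subtype.val h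
    have h2 : Q.asIdeal = Q'.asIdeal := congrArg PrimeSpectrum.asIdeal h1
    exact MaximalSpectrum.ext h2
  exact Finite.of_injective φ hφ

theorem finite_heightOneSpectrum_integralClosure (hdim : ringKrullDim B = 1)
    (hsl : Finite (MaximalSpectrum B)) :
    Finite (HeightOneSpectrum (integralClosure B K)) := by
  haveI := isDedekindDomain_integralClosure B K hdim
  haveI := finite_maximalSpectrum_integralClosure B K hdim hsl
  let φ : HeightOneSpectrum (integralClosure B K) → MaximalSpectrum (integralClosure B K) :=
    fun w => ⟨w.asIdeal, w.isPrime.isMaximal w.ne_bot⟩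
  have hφ : Function.Injective φ := by
    intro w w' h
    have : w.asIdeal = w'.asIdeal := congrArg MaximalSpectrum.asIdeal h
    exact HeightOneSpectrum.ext this
  exact Finite.of_injective φ hφ

/-- A subring generating `K` together with `B` has a pole at every point of the normalization. -/
theorem exists_mem_one_lt_valuation (hdim : ringKrullDim B = 1) (A : Subring K)
    (hgen : A ⊔ (algebraMap B K).range = ⊤)
    (hDed : IsDedekindDomain (integralClosure B K))
    (hfrac : IsFractionRing (integralClosure B K) K)
    (w : HeightOneSpectrum (integralClosure B K)) :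
    ∃ y ∈ A, 1 < w.valuation K y := by
  by_contra hcon
  push_neg at hcon
  have hAle : A ≤ (w.valuation K).integer := fun y hy => hcon y hy
  have hBle : (algebraMap B K).range ≤ (w.valuation K).integer := by
    rintro _ ⟨b, rfl⟩
    have h1 : algebraMap B K b = algebraMap (integralClosure B K) K
        (algebraMap B (integralClosure B K) b) := IsScalarTower.algebraMap_apply _ _ _ _
    show w.valuation K (algebraMap B K b) ≤ 1
    rw [h1]
    exact w.valuation_le_one _
  have htop : (⊤ : Subring K) ≤ (w.valuation K).integer := by
    rw [← hgen]; exact sup_le hAle hBle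
  obtain ⟨π, hπ⟩ := w.valuation_exists_uniformizer K
  have hπ0 : π ≠ 0 := by
    intro h
    rw [h, map_zero] at hπ
    exact WithZero.exp_ne_zero hπ.symm
  have h1 : w.valuation K π⁻¹ ≤ 1 := htop (Subring.mem_top π⁻¹)
  rw [map_inv₀, hπ, ← WithZero.exp_neg, neg_neg, ← WithZero.exp_zero, WithZero.exp_le_exp] at h1
  omega

end Groth.Agent.Lib.GlueDimOne
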