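import Mathlib
import Groth.Agent.Lib.GlueDimOne1_helper6

/-!
# Glueing one-dimensional semi-local rings, part 2 (helper6)

* `exists_forall_inv_pow_mem_jacobson`: an element of `K` with poles at all points of the
  normalization `B'` of a one-dimensional Noetherian domain `B` has all large powers of its inverse
  in the Jacobson radical of `B`.
-/

set_option autoImplicit false
universe u

namespace Groth.Agent.Lib.GlueDimOne

open IsDedekindDomain

variable (B : Type u) [CommRing B] [IsDomain B] [IsNoetherianRing B]
  (K : Type u) [Field K] [Algebra B K] [IsFractionRing B K]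

theorem isFractionRing_integralClosure : IsFractionRing (integralClosure B K) K :=
  IsIntegralClosure.isFractionRing_of_finite_extension B K K _

theorem not_isField_of_dim_one (hdim : ringKrullDim B = 1) : ¬ IsField B := by
  intro hf
  rw [ringKrullDim_eq_zero_of_isField hf] at hdim
  exact zero_ne_one hdim

/-- An element of `K` with poles at all points of the normalization has all large powers of its
inverse in the Jacobson radical of `B`. -/
theorem exists_forall_inv_pow_mem_jacobson (hdim : ringKrullDim B = 1)
    (hDed : IsDedekindDomain (integralClosure B K))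
    (hfrac : IsFractionRing (integralClosure B K) K)
    (x : K) (hx : ∀ w : HeightOneSpectrum (integralClosure B K), 1 < w.valuation K x) :
    ∃ N : ℕ, ∀ n ≥ N, ∃ b : B, algebraMap B K b = (x⁻¹) ^ n ∧ b ∈ (⊥ : Ideal B).jacobson := by
  have hval : ∀ w : HeightOneSpectrum (integralClosure B K), w.valuation K x⁻¹ < 1 := by
    intro w
    have h1 := hx w
    have hx0 : x ≠ 0 := by
      intro h
      rw [h, map_zero] at h1
      exact not_lt_of_ge zero_le h1
    rw [map_inv₀]
    exact inv_lt_one_of_one_lt₀ h1
  obtain ⟨z, hz⟩ : x⁻¹ ∈ (algebraMap (integralClosure B K) K).range :=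
    HeightOneSpectrum.mem_integers_of_valuation_le_one K x⁻¹ fun w => (hval w).le
  have hzP : ∀ P : Ideal (integralClosure B K), P.IsPrime → P ≠ ⊥ → z ∈ P := by
    intro P hP hP0
    let w : HeightOneSpectrum (integralClosure B K) := ⟨P, hP, hP0⟩
    have := hval w
    rw [← hz, HeightOneSpectrum.valuation_lt_one_iff_mem] at this
    exact this
  obtain ⟨N, hN⟩ := Groth.Agent.Lib.KA.exists_forall_pow_mul_mem_range K (le_of_eq hdim) z 1 hzP
  refine ⟨max N 1, fun n hn => ?_⟩
  obtain ⟨b, hb⟩ := hN n (le_trans (le_max_left _ _) hn)
  have hn1 : n ≠ 0 := by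
    have : 1 ≤ n := le_trans (le_max_right _ _) hn
    omega
  have hzK : ((z : integralClosure B K) : K) = x⁻¹ := hz
  have hbK : algebraMap B K b = (x⁻¹) ^ n := by
    rw [hb, mul_one]
    push_cast
    rw [hzK]
  refine ⟨b, hbK, ?_⟩
  have hbz : algebraMap B (integralClosure B K) b = z ^ n := by
    apply Subtype.ext
    show algebraMap B K b = ((z ^ n : integralClosure B K) : K)
    rw [hbK]
    push_cast
    rw [hzK]
  rw [Ideal.jacobson, Ideal.mem_sInf]
  rintro m ⟨-, hm⟩
  haveI := hm
  have hinj : Function.Injective (algebraMap B (integralClosure B K)) := by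
    intro a a' h
    apply IsFractionRing.injective B K
    have := congrArg (fun t : integralClosure B K => (t : K)) h
    exact this
  have hker : RingHom.ker (algebraMap B (integralClosure B K)) ≤ m := by
    rw [(RingHom.injective_iff_ker_eq_bot _).1 hinj]; exact bot_le
  obtain ⟨P, hPprime, hPm⟩ :=
    Ideal.exists_ideal_over_prime_of_isIntegral_of_isDomain (S := integralClosure B K) m hker
  have hm0 : m ≠ ⊥ := by
    intro h
    rw [h] at hm
    exact not_isField_of_dim_one B hdim (Ring.isField_iff_maximal_bot.2 hm)
  have hP0 : P ≠ ⊥ := by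
    intro h
    apply hm0
    rw [← hPm, h]
    exact (RingHom.injective_iff_ker_eq_bot _).1 hinj
  have hzn : z ^ n ∈ P := Ideal.pow_mem_of_mem P (hzP P hPprime hP0) n (Nat.pos_of_ne_zero hn1)
  rw [← hPm, Ideal.mem_comap, hbz]
  exact hzn

end Groth.Agent.Lib.GlueDimOne
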