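import Mathlib
import Groth.Agent.S1640
import Groth.Agent.Lib.GlueDimOne3_helper6
import Groth.Agent.Lib.GlueDimOne5_helper6
import Groth.Agent.Lib.GlueDimOne7_helper6

/-!
# Glueing one-dimensional semi-local rings, part 8 (helper6)

* `exists_poles`: for a finite family of one-dimensional Noetherian semi-local subrings of `K`
  which pairwise generate `K`, elements `x i ∈ A i` with `(x i)⁻¹` in the radical of all other `A j`.
* `isLocalization_away_iInf`: `A i = (⨅ j, A j)[1/f]`.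
* `false_of_two_charts`: a nonzero prime of the intersection cannot lie in two charts.
-/

set_option autoImplicit false
universe u

namespace Groth.Agent.Lib.GlueDimOne

theorem exists_poles (K : Type u) [Field K] (r : ℕ)
    (A : Fin r → Subring K) [∀ i, IsNoetherianRing (A i)] [∀ i, IsFractionRing (A i) K]
    (hdim : ∀ i, ringKrullDim (A i) = 1) (hsl : ∀ i, Finite (MaximalSpectrum (A i)))
    (hgen : ∀ i j, i ≠ j → A i ⊔ A j = ⊤) (i : Fin r) :
    ∃ x : K, x ∈ A i ∧ x ≠ 0 ∧ ∀ j, j ≠ i → InRad (A j) x⁻¹ := by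
  classical
  by_cases h : ∃ i' : Fin r, i' ≠ i
  · obtain ⟨i', hi'⟩ := h
    obtain ⟨σ, hσdef⟩ : ∃ σ : Fin r → Fin r, σ = fun j => if j = i then i' else j := ⟨_, rfl⟩
    have hσ : ∀ j, σ j ≠ i := by
      intro j
      rw [hσdef]
      by_cases hj : j = i
      · simp only [hj, if_true]; exact hi'
      · simp only [hj, if_false]; exact hj
    haveI : ∀ j, IsNoetherianRing ((fun j => A (σ j) : Fin r → Subring K) j) :=
      fun j => inferInstanceAs (IsNoetherianRing (A (σ j)))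
    haveI : ∀ j, IsFractionRing ((fun j => A (σ j) : Fin r → Subring K) j) K :=
      fun j => inferInstanceAs (IsFractionRing (A (σ j)) K)
    obtain ⟨x, hxA, hx0, hx⟩ := Groth.Agent.S1640.result K (A i) r (fun j => A (σ j))
      (fun j => hdim (σ j)) (fun j => hsl (σ j)) (fun j => hgen i (σ j) (hσ j).symm)
    refine ⟨x, hxA, hx0, fun j hj => ?_⟩
    have h1 : InRad (A (σ j)) x⁻¹ := hx j
    have hσj : σ j = j := by rw [hσdef]; exact if_neg hj
    rw [hσj] at h1
    exact h1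
  · push_neg at h
    exact ⟨1, (A i).one_mem, one_ne_zero, fun j hj => absurd (h j) hj⟩

theorem isLocalization_away_iInf (K : Type u) [Field K] {ι : Type*} [Finite ι]
    (A : ι → Subring K) (i : ι) (f : K) (hf : ∀ j, f ∈ A j) (hfi : f⁻¹ ∈ A i) (hf0 : f ≠ 0)
    (hA : ∀ a ∈ A i, ∀ j, ∃ n : ℕ, f ^ n * a ∈ A j) :
    letI : Algebra ↥(⨅ i, A i) (A i) := (Subring.inclusion (iInf_le A i)).toAlgebra
    IsLocalization.Away (⟨f, Subring.mem_iInf.2 hf⟩ : ↥(⨅ i, A i)) (A i) := by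
  classical
  haveI : Fintype ι := Fintype.ofFinite ι
  letI : Algebra ↥(⨅ i, A i) (A i) := (Subring.inclusion (iInf_le A i)).toAlgebra
  apply isLocalization_of_forall_exists
  · exact Subring.inclusion_injective _
  · rintro _ ⟨n, rfl⟩
    rw [map_pow]
    apply IsUnit.pow
    refine IsUnit.of_mul_eq_one (⟨f⁻¹, hfi⟩ : A i) ?_
    apply Subtype.ext
    show f * f⁻¹ = 1
    exact mul_inv_cancel₀ hf0
  · intro a
    choose n hn using hA a a.2
    have hN : ∀ j, f ^ (Finset.univ.sup n) * (a : K) ∈ A j := by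
      intro j
      have hle : n j ≤ Finset.univ.sup n := Finset.le_sup (Finset.mem_univ j)
      obtain ⟨d, hd⟩ := Nat.exists_eq_add_of_le hle
      rw [hd, add_comm, pow_add, mul_assoc]
      exact (A j).mul_mem ((A j).pow_mem (hf j) d) (hn j)
    refine ⟨(⟨f, Subring.mem_iInf.2 hf⟩ : ↥(⨅ i, A i)) ^ (Finset.univ.sup n), ⟨_, rfl⟩,
      ⟨f ^ (Finset.univ.sup n) * a, Subring.mem_iInf.2 hN⟩, ?_⟩
    apply Subtype.ext
    show f ^ (Finset.univ.sup n) * (a : K) = _
    rw [map_pow]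
    rfl

theorem false_of_two_charts (K : Type u) [Field K] (R A₁ A₂ : Subring K)
    (hgen : A₁ ⊔ A₂ = ⊤) (m : Ideal R) (hm : m.IsPrime) (hm0 : m ≠ ⊥) (f₁ f₂ : R)
    (h₁ : f₁ ∉ m) (h₂ : f₂ ∉ m)
    (hA₁ : ∀ a ∈ A₁, ∃ n : ℕ, (f₁ : K) ^ n * a ∈ R)
    (hA₂ : ∀ a ∈ A₂, ∃ n : ℕ, (f₂ : K) ^ n * a ∈ R) : False := by
  let C : Subring K :=
    { carrier := {z | ∃ s : R, s ∉ m ∧ (s : K) * z ∈ R}
      one_mem' := ⟨1, fun h => hm.ne_top ((Ideal.eq_top_iff_one _).2 h), by
        simpa using R.one_mem⟩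
      zero_mem' := ⟨1, fun h => hm.ne_top ((Ideal.eq_top_iff_one _).2 h), by
        simpa using R.zero_mem⟩
      mul_mem' := by
        rintro z z' ⟨s, hs, hsz⟩ ⟨s', hs', hsz'⟩
        refine ⟨s * s', fun h => (hm.mem_or_mem h).elim hs hs', ?_⟩
        have : ((s * s' : R) : K) * (z * z') = ((s : K) * z) * ((s' : K) * z') := by
          push_cast; ring
        rw [this]
        exact R.mul_mem hsz hsz'
      add_mem' := by
        rintro z z' ⟨s, hs, hsz⟩ ⟨s', hs', hsz'⟩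
        refine ⟨s * s', fun h => (hm.mem_or_mem h).elim hs hs', ?_⟩
        have : ((s * s' : R) : K) * (z + z') =
            (s' : K) * ((s : K) * z) + (s : K) * ((s' : K) * z') := by
          push_cast; ring
        rw [this]
        exact R.add_mem (R.mul_mem s'.2 hsz) (R.mul_mem s.2 hsz')
      neg_mem' := by
        rintro z ⟨s, hs, hsz⟩
        refine ⟨s, hs, ?_⟩
        rw [mul_neg]
        exact R.neg_mem hsz }
  have hC₁ : A₁ ≤ C := by
    intro a ha
    obtain ⟨n, hn⟩ := hA₁ a ha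
    exact ⟨f₁ ^ n, fun h => h₁ (hm.mem_of_pow_mem n h), by push_cast; exact hn⟩
  have hC₂ : A₂ ≤ C := by
    intro a ha
    obtain ⟨n, hn⟩ := hA₂ a ha
    exact ⟨f₂ ^ n, fun h => h₂ (hm.mem_of_pow_mem n h), by push_cast; exact hn⟩
  have hCtop : (⊤ : Subring K) ≤ C := by
    rw [← hgen]; exact sup_le hC₁ hC₂
  obtain ⟨t, htm, ht0⟩ := Submodule.exists_mem_ne_zero_of_ne_bot hm0
  obtain ⟨s, hs, hst⟩ : ((t : K))⁻¹ ∈ C := hCtop (Subring.mem_top _)
  apply hs
  have htK : (t : K) ≠ 0 := fun h => ht0 (Subtype.ext h)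
  have : s = (⟨(s : K) * (t : K)⁻¹, hst⟩ : R) * t := by
    apply Subtype.ext
    show (s : K) = (s : K) * (t : K)⁻¹ * (t : K)
    rw [mul_assoc, inv_mul_cancel₀ htK, mul_one]
  rw [this]
  exact Ideal.mul_mem_left _ _ htm

end Groth.Agent.Lib.GlueDimOne
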