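import Mathlib
import Groth.Agent.Lib.GlueDimOne3_helper6

/-!
# Glueing one-dimensional semi-local rings, part 9 (helper6)

`isFractionRing_of_le`: a subring `R ≤ S` of a field `K = Frac S` such that every element of `S`
has a nonzero multiple in `R` (with multiplier in `R`) has fraction field `K`.
-/

set_option autoImplicit false
universe u

namespace Groth.Agent.Lib.GlueDimOne

theorem isFractionRing_of_le (K : Type u) [Field K] (R S : Subring K) [IsFractionRing S K]
    (h : ∀ a ∈ S, ∃ m ∈ R, m ≠ 0 ∧ m * a ∈ R) : IsFractionRing R K := by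
  apply isLocalization_of_forall_exists
  · exact Subtype.val_injective
  · intro m hm
    have hm0 : m ≠ 0 := nonZeroDivisors.ne_zero hm
    refine isUnit_iff_ne_zero.2 ?_
    intro h0
    exact hm0 (Subtype.ext h0)
  · intro w
    obtain ⟨a, b, hb, rfl⟩ := IsFractionRing.div_surjective (A := S) w
    have hb0 : (b : K) ≠ 0 := by
      intro h0
      exact nonZeroDivisors.ne_zero hb (Subtype.ext h0)
    obtain ⟨ma, hmaR, hma0, hma⟩ := h a a.2
    obtain ⟨mb, hmbR, hmb0, hmb⟩ := h b b.2
    have hd0 : mb * (b : K) * ma ≠ 0 := mul_ne_zero (mul_ne_zero hmb0 hb0) hma0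
    refine ⟨⟨mb * (b : K) * ma, R.mul_mem hmb hmaR⟩, ?_, ⟨ma * (a : K) * mb, R.mul_mem hma hmbR⟩, ?_⟩
    · rw [mem_nonZeroDivisors_iff_ne_zero]
      intro h0
      exact hd0 (congrArg Subtype.val h0)
    · show ma * (a : K) * mb = mb * (b : K) * ma * ((a : K) / (b : K))
      field_simp

end Groth.Agent.Lib.GlueDimOne
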