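import Mathlib
import Groth.Agent.Lib.AffDim1A_helper7
import Groth.Agent.Lib.AffPts2_helper7
import Groth.Agent.S7665

/-!
# Finitely many points of dimension `≤ 1` on an integral separated scheme lie in an affine open
(helper7)
-/

set_option backward.isDefEq.respectTransparency false
set_option backward.isDefEq.respectTransparency.types false
set_option linter.style.haveILetI false
set_option linter.unusedSectionVars false
set_option linter.unusedVariables false
set_option autoImplicit false
set_option maxHeartbeats 1600000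

universe u

open CategoryTheory CategoryTheory.Limits AlgebraicGeometry TopologicalSpace

namespace Groth.Agent.Lib.AffDim1H7

variable (X : Scheme.{u}) [IsIntegral X]

/-- A point whose local ring is a field is the generic point. -/
theorem eq_genericPoint_of_isField (x : X) (hf : IsField (X.presheaf.stalk x)) :
    x = genericPoint X := by
  have hg : genericPoint X ⤳ x := (genericPoint_spec X).specializes trivial
  have hmem : genericPoint X ∈ Set.range (X.fromSpecStalk x) := by
    rw [Scheme.range_fromSpecStalk]; exact hg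
  obtain ⟨p, hp⟩ := hmem
  have hmax : IsLocalRing.maximalIdeal (X.presheaf.stalk x) = ⊥ :=
    IsLocalRing.isField_iff_maximalIdeal_eq.mp hf
  have hpc : p = IsLocalRing.closedPoint (X.presheaf.stalk x) := by
    apply PrimeSpectrum.ext
    show p.asIdeal = IsLocalRing.maximalIdeal (X.presheaf.stalk x)
    rw [hmax, eq_bot_iff, ← hmax]
    exact IsLocalRing.le_maximalIdeal p.2.ne_top
  rw [← hp, hpc]
  exact Scheme.fromSpecStalk_closedPoint.symm

theorem ringKrullDim_stalk_eq_one (x : X) (hx : x ≠ genericPoint X)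
    (hdim : ringKrullDim (X.presheaf.stalk x) ≤ 1) : ringKrullDim (X.presheaf.stalk x) = 1 := by
  apply le_antisymm hdim
  by_contra hlt
  apply hx
  apply eq_genericPoint_of_isField X x
  haveI : Ring.KrullDimLE 0 (X.presheaf.stalk x) := by
    rw [Ring.krullDimLE_iff]
    have h0 : (0 : WithBot ℕ∞) ≤ ringKrullDim (X.presheaf.stalk x) :=
      ringKrullDim_nonneg_of_nontrivial
    obtain ⟨n, hn⟩ : ∃ n : ℕ∞, ringKrullDim (X.presheaf.stalk x) = (n : WithBot ℕ∞) := by
      have hne : ringKrullDim (X.presheaf.stalk x) ≠ ⊥ := by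
        intro hbot
        rw [hbot] at h0
        exact absurd h0 (by simp)
      exact ⟨_, (WithBot.coe_unbot _ hne).symm⟩
    rw [hn] at hlt ⊢
    have h1 : ¬ ((1 : ℕ∞) ≤ n) := by
      intro h
      apply hlt
      exact_mod_cast h
    have h2 : n = 0 := by
      rw [Order.one_le_iff_ne_zero, not_not] at h1
      exact h1
    rw [h2]
    rfl
  exact Ring.KrullDimLE.isField_of_isDomain

variable [X.IsSeparated]

/-- The key case: finitely many distinct non-generic points. -/
theorem exists_affine_of_fin (r : ℕ) (hr : 1 ≤ r) (x : Fin r → X)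
    (hgen : ∀ i, x i ≠ genericPoint X) (hinj : Function.Injective x)
    (hN : ∀ i, IsNoetherianRing (X.presheaf.stalk (x i)))
    (hdim : ∀ i, ringKrullDim (X.presheaf.stalk (x i)) ≤ 1) :
    ∃ U : X.Opens, IsAffineOpen U ∧ ∀ i, x i ∈ U := by
  classical
  obtain ⟨A, hA⟩ : ∃ A : Fin r → Subring X.functionField, A = fun i => stalkSub X (x i) :=
    ⟨_, rfl⟩
  have hA' : ∀ i, A i = stalkSub X (x i) := fun i => congrFun hA i
  haveI hAN : ∀ i, IsNoetherianRing (A i) := fun i => by
    rw [hA' i]; haveI := hN i; exact isNoetherianRing_stalkSub X (x i)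
  haveI hAF : ∀ i, IsFractionRing (A i) X.functionField := fun i => by
    rw [hA' i]; infer_instance
  have hAdim : ∀ i, ringKrullDim (A i) = 1 := fun i => by
    rw [hA' i, ringKrullDim_stalkSub]
    exact ringKrullDim_stalk_eq_one X (x i) (hgen i) (hdim i)
  have hAsl : ∀ i, Finite (MaximalSpectrum (A i)) := fun i => by
    rw [hA' i]
    exact finite_maximalSpectrum_of_isLocalRing (stalkSub X (x i))
  have hAgen : ∀ i j, i ≠ j → A i ⊔ A j = ⊤ := fun i j hij => by
    rw [hA' i, hA' j]
    exact stalkSub_sup_eq_top X (x i) (x j) (fun h => hij (hinj h)) (hdim i) (hdim j)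
  obtain ⟨-, -, -, -, hOI, hcov, -⟩ :=
    Groth.Agent.S7665.result X.functionField r hr A hAdim hAsl hAgen
  -- the ring isomorphisms `A i ≃ 𝒪_{X, x i}`
  obtain ⟨E, hE⟩ : ∃ E : ∀ i, A i ≃+* X.presheaf.stalk (x i),
      ∀ i (b : A i), algebraMap (X.presheaf.stalk (x i)) X.functionField (E i b) =
        (b : X.functionField) := by
    refine ⟨fun i => (RingEquiv.subringCongr (hA' i)).trans (stalkEquiv X (x i)).symm,
      fun i b => ?_⟩
    have h1 := coe_stalkEquiv X (x i) ((stalkEquiv X (x i)).symm
      (RingEquiv.subringCongr (hA' i) b))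
    rw [RingEquiv.apply_symm_apply] at h1
    exact h1.symm
  obtain ⟨incl, hincl⟩ : ∃ incl : ∀ i, (↥(⨅ i, A i) : Type u) →+* A i,
      ∀ i b, ((incl i b : A i) : X.functionField) = (b : X.functionField) :=
    ⟨fun i => Subring.inclusion (iInf_le A i), fun i b => rfl⟩
  have hOI' : ∀ i, IsOpenImmersion (Spec.map (CommRingCat.ofHom (incl i))) := by
    intro i
    have h1 : incl i = Subring.inclusion (iInf_le A i) := by
      ext b
      exact hincl i b
    rw [h1]
    exact hOI i
  have hcov' : ∀ p : Spec (CommRingCat.of ↥(⨅ i, A i)),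
      ∃ i q, Spec.map (CommRingCat.ofHom (incl i)) q = p := by
    intro p
    have hp : p ∈ (⋃ i, Set.range (Spec.map (CommRingCat.ofHom
        (Subring.inclusion (iInf_le A i)))).base) := by
      rw [hcov]; trivial
    obtain ⟨i, q, hq⟩ := Set.mem_iUnion.mp hp
    refine ⟨i, q, ?_⟩
    have h1 : incl i = Subring.inclusion (iInf_le A i) := by
      ext b
      exact hincl i b
    rw [h1]
    exact hq
  -- the open cover of `Spec B` by the local schemes
  obtain ⟨eI, heI⟩ : ∃ eI : ∀ i, CommRingCat.of (A i) ≅ X.presheaf.stalk (x i),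
      ∀ i, (eI i).hom = CommRingCat.ofHom (E i).toRingHom :=
    ⟨fun i => (E i).toCommRingCatIso, fun i => rfl⟩
  obtain ⟨c, hc⟩ : ∃ c : ∀ i, Spec (X.presheaf.stalk (x i)) ⟶ Spec (CommRingCat.of ↥(⨅ i, A i)),
      c = fun i => Spec.map (eI i).hom ≫ Spec.map (CommRingCat.ofHom (incl i)) := ⟨_, rfl⟩
  have hcOI : ∀ i, IsOpenImmersion (c i) := by
    intro i
    rw [hc]
    haveI := hOI' i
    infer_instance
  have hccov : ∀ p : Spec (CommRingCat.of ↥(⨅ i, A i)), ∃ i y, c i y = p := by
    intro p
    obtain ⟨i, q, hq⟩ := hcov' p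
    refine ⟨i, Spec.map (eI i).inv q, ?_⟩
    rw [hc]
    show (Spec.map (eI i).hom ≫ Spec.map (CommRingCat.ofHom (incl i))) (Spec.map (eI i).inv q) = p
    rw [Scheme.Hom.comp_apply, ← Scheme.Hom.comp_apply (Spec.map (eI i).inv), ← Spec.map_comp,
      Iso.hom_inv_id, Spec.map_id]
    exact hq
  -- the generic point
  obtain ⟨a, ha⟩ : ∃ a : ∀ i, Spec X.functionField ⟶ Spec (X.presheaf.stalk (x i)),
      a = fun i => Spec.map (CommRingCat.ofHom
        (algebraMap (X.presheaf.stalk (x i)) X.functionField)) := ⟨_, rfl⟩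
  obtain ⟨κ, hκ⟩ : ∃ κ : Spec X.functionField ⟶ Spec (CommRingCat.of ↥(⨅ i, A i)),
      κ = Spec.map (CommRingCat.ofHom (⨅ i, A i).subtype) := ⟨_, rfl⟩
  have hac : ∀ i, a i ≫ c i = κ := by
    intro i
    rw [ha, hc, hκ]
    show Spec.map (CommRingCat.ofHom (algebraMap (X.presheaf.stalk (x i)) X.functionField)) ≫
      Spec.map (eI i).hom ≫ Spec.map (CommRingCat.ofHom (incl i)) = _
    rw [← Spec.map_comp, ← Spec.map_comp, heI, ← CommRingCat.ofHom_comp, ← CommRingCat.ofHom_comp]
    congr 2
    ext b
    show algebraMap (X.presheaf.stalk (x i)) X.functionField (E i (incl i b)) = (b : X.functionField)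
    rw [hE, hincl]
  have hgi : ∀ i, genericPoint X ⤳ x i := fun i => (genericPoint_spec X).specializes trivial
  have haf : ∀ i, a i ≫ X.fromSpecStalk (x i) = X.fromSpecStalk (genericPoint X) := by
    intro i
    rw [ha]
    exact Scheme.SpecMap_stalkSpecializes_fromSpecStalk (hgi i)
  haveI hdomA : ∀ i, IsDominant (a i) := by
    intro i
    rw [ha]
    exact isDominant_SpecMap_of_injective _ (algebraMap_stalk_injective X (x i))
  -- compatibility on overlaps
  have hcompat : ∀ i j, pullback.fst (c i) (c j) ≫ X.fromSpecStalk (x i) =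
      pullback.snd (c i) (c j) ≫ X.fromSpecStalk (x j) := by
    intro i j
    haveI := hcOI i
    haveI := hcOI j
    haveI : IsReduced (pullback (c i) (c j)) :=
      isReduced_of_isOpenImmersion (pullback.fst (c i) (c j))
    obtain ⟨ι, hι⟩ : ∃ ι : Spec X.functionField ⟶ pullback (c i) (c j),
        ι = pullback.lift (a i) (a j) ((hac i).trans (hac j).symm) := ⟨_, rfl⟩
    have hι1 : ι ≫ pullback.fst (c i) (c j) = a i := by rw [hι, pullback.lift_fst]
    have hι2 : ι ≫ pullback.snd (c i) (c j) = a j := by rw [hι, pullback.lift_snd]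
    haveI : IsDominant (ι ≫ pullback.fst (c i) (c j)) := by rw [hι1]; exact hdomA i
    haveI : IsDominant ι := IsDominant.of_comp_of_isOpenImmersion ι (pullback.fst (c i) (c j))
    apply ext_of_isDominant ι
    rw [← Category.assoc, ← Category.assoc, hι1, hι2, haf, haf]
  -- glue
  obtain ⟨𝒰, h𝒰⟩ : ∃ 𝒰 : (Spec (CommRingCat.of ↥(⨅ i, A i))).OpenCover,
      𝒰 = Scheme.Cover.mkOfCovers (Fin r) (fun i => Spec (X.presheaf.stalk (x i))) c hccov hcOI :=
    ⟨_, rfl⟩
  subst h𝒰
  obtain ⟨f, hf⟩ : ∃ f : Spec (CommRingCat.of ↥(⨅ i, A i)) ⟶ X,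
      ∀ i, c i ≫ f = X.fromSpecStalk (x i) :=
    ⟨(Scheme.Cover.mkOfCovers (Fin r) (fun i => Spec (X.presheaf.stalk (x i))) c hccov
        hcOI).glueMorphisms (fun i => X.fromSpecStalk (x i)) hcompat,
      fun i => (Scheme.Cover.mkOfCovers (Fin r) (fun i => Spec (X.presheaf.stalk (x i))) c hccov
        hcOI).ι_glueMorphisms (fun i => X.fromSpecStalk (x i)) hcompat i⟩
  -- the image of the generic point
  obtain ⟨pt, hpt⟩ : ∃ pt : Spec X.functionField, pt = IsLocalRing.closedPoint X.functionField :=
    ⟨_, rfl⟩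
  have hfκ : f (κ pt) = genericPoint X := by
    have i₀ : Fin r := ⟨0, hr⟩
    rw [← hac i₀, Scheme.Hom.comp_apply, ← Scheme.Hom.comp_apply (c i₀), hf,
      ← Scheme.Hom.comp_apply, haf]
    have h1 : X.fromSpecStalk (genericPoint X) pt ∈ Set.range (X.fromSpecStalk (genericPoint X)) :=
      ⟨pt, rfl⟩
    rw [Scheme.range_fromSpecStalk] at h1
    exact (h1.antisymm ((genericPoint_spec X).specializes trivial)).eq
  haveI : IsDomain (CommRingCat.of ↥(⨅ i, A i) : Type u) :=
    inferInstanceAs (IsDomain ↥(⨅ i, A i))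
  have hirrT : irreducibleComponents (Spec (CommRingCat.of ↥(⨅ i, A i)) : Type u) = {Set.univ} :=
    irreducibleComponents_eq_singleton
  have hirrX : irreducibleComponents (X : Type u) = {Set.univ} := irreducibleComponents_eq_singleton
  have hgenT : ∀ η : Spec (CommRingCat.of ↥(⨅ i, A i)),
      closure ({η} : Set (Spec (CommRingCat.of ↥(⨅ i, A i)))) ∈
        irreducibleComponents (Spec (CommRingCat.of ↥(⨅ i, A i)) : Type u) →
      closure ({η} : Set (Spec (CommRingCat.of ↥(⨅ i, A i)))) = Set.univ := by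
    intro η hη
    rw [hirrT] at hη
    exact hη
  obtain ⟨sT, hsT⟩ : ∃ sT : Finset (Spec (CommRingCat.of ↥(⨅ i, A i))),
      sT = Finset.univ.image (fun i => c i (IsLocalRing.closedPoint (X.presheaf.stalk (x i)))) :=
    ⟨_, rfl⟩
  obtain ⟨U, hU, hUs⟩ := Groth.Agent.Lib.AffPtsH7.main7660 f
    (by rw [hirrX]; exact Set.finite_singleton _)
    (by
      intro η hη
      have h1 := hgenT η hη
      have h2 : η ⤳ κ pt := by
        rw [specializes_iff_mem_closure, h1]; trivial
      have h3 : f η ⤳ f (κ pt) := h2.map f.continuous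
      rw [hfκ] at h3
      have h4 : f η = genericPoint X :=
        (h3.antisymm ((genericPoint_spec X).specializes trivial)).eq
      show closure ({f η} : Set X) ∈ irreducibleComponents (X : Type u)
      rw [h4, hirrX, (genericPoint_spec X).def]
      rfl)
    (by
      intro η η' hη hη' _
      have h1 : IsGenericPoint η (Set.univ : Set (Spec (CommRingCat.of ↥(⨅ i, A i)))) :=
        hgenT η hη
      have h2 : IsGenericPoint η' (Set.univ : Set (Spec (CommRingCat.of ↥(⨅ i, A i)))) :=
        hgenT η' hη'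
      exact h1.eq h2)
    sT
    (by
      intro t ht
      rw [hsT] at ht
      obtain ⟨i, -, rfl⟩ := Finset.mem_image.mp ht
      haveI := hcOI i
      have h1 : ∀ g : Spec (X.presheaf.stalk (x i)) ⟶ X, g = X.fromSpecStalk (x i) →
          IsIso (g.stalkMap (IsLocalRing.closedPoint (X.presheaf.stalk (x i)))) := by
        intro g hg
        subst hg
        have h2 : IsIso (Scheme.stalkClosedPointTo (X.fromSpecStalk (x i))) := by
          rw [Scheme.stalkClosedPointTo_fromSpecStalk]
          infer_instance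
        unfold Scheme.stalkClosedPointTo at h2
        exact IsIso.of_isIso_comp_right _ (stalkClosedPointIso _).hom
      have h3 := h1 (c i ≫ f) (hf i)
      rw [Scheme.Hom.stalkMap_comp] at h3
      exact IsIso.of_isIso_comp_right _
        ((c i).stalkMap (IsLocalRing.closedPoint (X.presheaf.stalk (x i)))))
  refine ⟨U, hU, fun i => ?_⟩
  have h1 := hUs (c i (IsLocalRing.closedPoint (X.presheaf.stalk (x i))))
    (by rw [hsT]; exact Finset.mem_image.mpr ⟨i, Finset.mem_univ _, rfl⟩)
  have h2 : f (c i (IsLocalRing.closedPoint (X.presheaf.stalk (x i)))) = x i := by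
    rw [← Scheme.Hom.comp_apply, hf]
    exact Scheme.fromSpecStalk_closedPoint
  rw [← h2]
  exact h1

end Groth.Agent.Lib.AffDim1H7
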