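import Mathlib
import Groth.Agent.Lib.AffDim1B_helper7
import Groth.Agent.Lib.AffNbhd_helper7

/-!
# Finitely many points of dimension `≤ 1` on a separated scheme lie in an affine open (helper7)
-/

set_option backward.isDefEq.respectTransparency false
set_option backward.isDefEq.respectTransparency.types false
set_option linter.style.haveILetI false
set_option linter.unusedSectionVars false
set_option linter.unusedVariables false
set_option autoImplicit false
set_option maxHeartbeats 1600000

universe u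

open CategoryTheory CategoryTheory.Limits AlgebraicGeometry TopologicalSpace

namespace Groth.Agent.Lib.AffDim1H7

/-- The integral separated case. -/
theorem exists_affine_of_integral (X : Scheme.{u}) [IsIntegral X] [X.IsSeparated] (s : Finset X)
    (hs : ∀ x ∈ s, IsNoetherianRing (X.presheaf.stalk x) ∧
      ringKrullDim (X.presheaf.stalk x) ≤ 1) :
    ∃ U : X.Opens, IsAffineOpen U ∧ ∀ x ∈ s, x ∈ U := by
  classical
  obtain ⟨s₁, hs₁⟩ : ∃ s₁ : Finset X, s₁ = s.filter (fun x => x ≠ genericPoint X) := ⟨_, rfl⟩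
  have hmem₁ : ∀ x, x ∈ s₁ ↔ x ∈ s ∧ x ≠ genericPoint X := by
    intro x; rw [hs₁, Finset.mem_filter]
  by_cases hr : 1 ≤ s₁.card
  · obtain ⟨e, -⟩ : ∃ e : Fin s₁.card ≃ s₁, True := ⟨s₁.equivFin.symm, trivial⟩
    obtain ⟨U, hU, hxU⟩ := exists_affine_of_fin X s₁.card hr (fun i => (e i).1)
      (fun i => ((hmem₁ _).mp (e i).2).2)
      (fun i j hij => e.injective (Subtype.ext hij))
      (fun i => (hs _ ((hmem₁ _).mp (e i).2).1).1)
      (fun i => (hs _ ((hmem₁ _).mp (e i).2).1).2)
    refine ⟨U, hU, fun x hx => ?_⟩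
    by_cases hxg : x = genericPoint X
    · rw [hxg]
      show genericPoint X ∈ (U : Set X)
      rw [(genericPoint_spec X).mem_open_set_iff U.isOpen]
      exact ⟨(e ⟨0, hr⟩).1, trivial, hxU ⟨0, hr⟩⟩
    · have h1 : x ∈ s₁ := (hmem₁ x).mpr ⟨hx, hxg⟩
      have h2 := hxU (e.symm ⟨x, h1⟩)
      rw [Equiv.apply_symm_apply] at h2
      exact h2
  · have hcard : s₁.card = 0 := by omega
    have hempty : s₁ = ∅ := Finset.card_eq_zero.mp hcard
    obtain ⟨_, ⟨(U : X.Opens), hU, rfl⟩, hgU, -⟩ :=
      X.isBasis_affineOpens.exists_subset_of_mem_open (Set.mem_univ (genericPoint X)) isOpen_univ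
    refine ⟨U, hU, fun x hx => ?_⟩
    by_cases hxg : x = genericPoint X
    · rw [hxg]; exact hgU
    · have h1 : x ∈ s₁ := (hmem₁ x).mpr ⟨hx, hxg⟩
      rw [hempty] at h1
      exact absurd h1 (Finset.notMem_empty x)

/-- Transfer of the hypotheses along a morphism which is surjective on stalks. -/
theorem stalk_transfer {Y X : Scheme.{u}} (f : Y ⟶ X) (y : Y)
    (hsurj : Function.Surjective (f.stalkMap y).hom)
    (h : IsNoetherianRing (X.presheaf.stalk (f y)) ∧
      ringKrullDim (X.presheaf.stalk (f y)) ≤ 1) :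
    IsNoetherianRing (Y.presheaf.stalk y) ∧ ringKrullDim (Y.presheaf.stalk y) ≤ 1 := by
  obtain ⟨h1, h2⟩ := h
  refine ⟨isNoetherianRing_of_surjective _ _ (f.stalkMap y).hom hsurj, ?_⟩
  exact (ringKrullDim_le_of_surjective (f.stalkMap y).hom hsurj).trans h2

theorem isSeparated_of_mono {Y X : Scheme.{u}} (f : Y ⟶ X) [Mono f] [X.IsSeparated] :
    Y.IsSeparated := by
  constructor
  have h1 : terminal.from Y = f ≫ terminal.from X := terminal.hom_ext _ _
  rw [h1]
  infer_instance

/-- The case of finitely many irreducible components. -/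
theorem exists_affine_of_finite_irreducibleComponents (X : Scheme.{u}) [X.IsSeparated]
    (hX : (irreducibleComponents (X : Type u)).Finite) (s : Finset X)
    (hs : ∀ x ∈ s, IsNoetherianRing (X.presheaf.stalk x) ∧
      ringKrullDim (X.presheaf.stalk x) ≤ 1) :
    ∃ U : X.Opens, IsAffineOpen U ∧ ∀ x ∈ s, x ∈ U := by
  classical
  refine Groth.Agent.Lib.AffNbhdH7.main7662 X hX s ?_
  intro Z hZ
  obtain ⟨I, hI⟩ : ∃ I : X.IdealSheafData, I = Scheme.IdealSheafData.vanishingIdeal
      (⟨Z, isClosed_of_mem_irreducibleComponents Z hZ⟩ : TopologicalSpace.Closeds X) := ⟨_, rfl⟩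
  rw [← hI]
  have hrange : Set.range I.subschemeι = Z := by
    rw [Scheme.IdealSheafData.range_subschemeι, hI]
    exact Scheme.IdealSheafData.coe_support_vanishingIdeal _
  haveI : IsReduced I.subscheme := by
    rw [hI]; exact Groth.Agent.Lib.AffPtsH7.isReduced_subscheme_vanishingIdeal _
  haveI : IrreducibleSpace I.subscheme := by
    have hirr : IsIrreducible (Set.range I.subschemeι) := by rw [hrange]; exact hZ.1
    haveI : IrreducibleSpace ↥(Set.range I.subschemeι) := Subtype.irreducibleSpace hirr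
    exact (I.subschemeι.isClosedEmbedding.isEmbedding.toHomeomorph).irreducibleSpace_iff.mpr
      inferInstance
  haveI : IsIntegral I.subscheme := isIntegral_of_irreducibleSpace_of_isReduced _
  haveI : I.subscheme.IsSeparated := isSeparated_of_mono I.subschemeι
  have hinj : Function.Injective I.subschemeι := I.subschemeι.isClosedEmbedding.injective
  obtain ⟨sY, hsY⟩ : ∃ sY : Finset I.subscheme, ∀ y, y ∈ sY ↔ I.subschemeι y ∈ s :=
    ⟨s.preimage I.subschemeι hinj.injOn, fun y => Finset.mem_preimage⟩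
  obtain ⟨V, hV, hVs⟩ := exists_affine_of_integral I.subscheme sY (fun y hy =>
    stalk_transfer I.subschemeι y (I.subschemeι.stalkMap_surjective y)
      (hs _ ((hsY y).mp hy)))
  refine ⟨V, hV, fun t ht htZ => ?_⟩
  have h1 : t ∈ Set.range I.subschemeι := by rw [hrange]; exact htZ
  obtain ⟨y, rfl⟩ := h1
  exact ⟨y, hVs y ((hsY y).mpr ht), rfl⟩

/-- Finitely many points with Noetherian local rings of dimension `≤ 1` on a separated scheme
whose quasi-compact opens have finitely many irreducible components lie in an affine open. -/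
theorem main217 (X : Scheme.{u}) [X.IsSeparated]
    (hirr : ∀ U : X.Opens, IsCompact (U : Set X) → (irreducibleComponents (U : Set X)).Finite)
    (s : Finset X) (hs : ∀ x ∈ s, IsNoetherianRing (X.presheaf.stalk x) ∧
      ringKrullDim (X.presheaf.stalk x) ≤ 1) :
    ∃ U : X.Opens, IsAffineOpen U ∧ ∀ x ∈ s, x ∈ U := by
  classical
  obtain ⟨W, hWc, hsW⟩ := Groth.Agent.Lib.AffPtsH7.exists_compact_opens (s : Set X)
    s.finite_toSet.isCompact
  haveI : W.toScheme.IsSeparated := isSeparated_of_mono W.ι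
  have hfin : (irreducibleComponents (W.toScheme : Type u)).Finite := hirr W hWc
  have hinj : Function.Injective W.ι := W.ι.isOpenEmbedding.injective
  obtain ⟨sY, hsY⟩ : ∃ sY : Finset W.toScheme, ∀ y, y ∈ sY ↔ W.ι y ∈ s :=
    ⟨s.preimage W.ι hinj.injOn, fun y => Finset.mem_preimage⟩
  obtain ⟨V, hV, hVs⟩ := exists_affine_of_finite_irreducibleComponents W.toScheme hfin sY
    (fun y hy => stalk_transfer W.ι y (ConcreteCategory.bijective_of_isIso (W.ι.stalkMap y)).2
      (hs _ ((hsY y).mp hy)))
  refine ⟨W.ι ''ᵁ V, hV.image_of_isOpenImmersion W.ι, fun x hx => ?_⟩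
  have h1 : x ∈ Set.range W.ι := by
    rw [Scheme.Opens.range_ι]; exact hsW hx
  obtain ⟨y, rfl⟩ := h1
  exact ⟨y, hVs y ((hsY y).mpr hx), rfl⟩

end Groth.Agent.Lib.AffDim1H7
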