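import Groth.Agent.Lib.KPtsOrbit_lead
import Groth.Agent.Lib.GrpPtIrr_helper4
import Groth.Statements.S1864

/-! # Finitely many closed points of a group scheme lie in an affine open (lead) -/

set_option backward.isDefEq.respectTransparency false
set_option backward.isDefEq.respectTransparency.types false
set_option linter.unusedSimpArgs false
set_option linter.unusedVariables false
set_option linter.unusedSectionVars false
set_option linter.style.longLine false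
set_option linter.style.haveILetI false
set_option maxHeartbeats 800000

universe u

open CategoryTheory CategoryTheory.Limits MonoidalCategory CartesianMonoidalCategory MonObj GrpObj
  AlgebraicGeometry Opposite Topology TopologicalSpace

namespace Groth.Agent.Lib.AffFin

/-- in a locally Noetherian scheme whose irreducible components are pairwise disjoint, every
irreducible component is open -/
theorem isOpen_irrComp {X : Scheme.{u}} [IsLocallyNoetherian X]
    (huniq : ∀ (x : X) (Z1 Z2 : Set X), Z1 ∈ irreducibleComponents X →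
      Z2 ∈ irreducibleComponents X → x ∈ Z1 → x ∈ Z2 → Z1 = Z2)
    (Z : Set X) (hZ : Z ∈ irreducibleComponents X) : IsOpen Z := by
  rw [isOpen_iff_mem_nhds]
  intro y hy
  obtain ⟨U, hU, hyU, -⟩ := exists_isAffineOpen_mem_and_subset (U := ⊤) (x := y)
    (TopologicalSpace.Opens.mem_top y)
  haveI : IsNoetherianRing Γ(X, U) := IsLocallyNoetherian.component_noetherian ⟨U, hU⟩
  haveI : NoetherianSpace ↥(U : Scheme) := noetherianSpace_of_isAffineOpen U hU
  have hfin : (irreducibleComponents ↥(U : Scheme)).Finite :=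
    NoetherianSpace.finite_irreducibleComponents
  obtain ⟨y', hy'⟩ : ∃ y' : ↥(U : Scheme), U.ι y' = y := by
    have : y ∈ Set.range U.ι := by rw [Scheme.Opens.range_ι]; exact hyU
    exact this
  obtain ⟨T, hT⟩ : ∃ T : Set ↥(U : Scheme),
      T = ⋃ c ∈ {c ∈ irreducibleComponents ↥(U : Scheme) | y' ∉ c}, c :=
    ⟨_, rfl⟩
  have hTcl : IsClosed T := by
    rw [hT]
    apply Set.Finite.isClosed_biUnion (hfin.subset (fun c hc => hc.1))
    intro c hc
    exact isClosed_of_mem_irreducibleComponents c hc.1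
  have hV : IsOpen (U.ι '' Tᶜ) :=
    U.ι.isOpenEmbedding.isOpenMap _ hTcl.isOpen_compl
  have hyV : y ∈ U.ι '' Tᶜ := by
    refine ⟨y', ?_, hy'⟩
    intro hyT
    rw [hT] at hyT
    simp only [Set.mem_iUnion, Set.mem_ofPred_eq] at hyT
    obtain ⟨c, ⟨-, hc2⟩, hc3⟩ := hyT
    exact hc2 hc3
  refine Filter.mem_of_superset (hV.mem_nhds hyV) ?_
  rintro _ ⟨v, hv, rfl⟩
  have hc : irreducibleComponent v ∈ irreducibleComponents ↥(U : Scheme) :=
    irreducibleComponent_mem_irreducibleComponents v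
  have hyc : y' ∈ irreducibleComponent v := by
    by_contra hne
    apply hv
    rw [hT]
    simp only [Set.mem_iUnion, Set.mem_ofPred_eq]
    exact ⟨irreducibleComponent v, ⟨hc, hne⟩, mem_irreducibleComponent⟩
  have hirr : IsIrreducible (U.ι '' irreducibleComponent v) :=
    hc.1.image _ U.ι.continuous.continuousOn
  obtain ⟨Z', hZ', hsub⟩ := exists_mem_irreducibleComponents_subset_of_isIrreducible _ hirr
  have hyZ' : y ∈ Z' := hsub ⟨y', hyc, hy'⟩
  have hZZ : Z' = Z := huniq y Z' Z hZ' hZ hyZ' hy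
  rw [← hZZ]
  exact hsub ⟨v, mem_irreducibleComponent, rfl⟩

theorem comp_pt {S : Scheme.{u}} {A B C : Over S} (φ : A ⟶ B) (ψ : B ⟶ C) (p : A.left) :
    (φ ≫ ψ).left p = ψ.left (φ.left p) := rfl

/-- one irreducible component at a time -/
theorem lemmaA (K : Type u) [Field K] [IsAlgClosed K] (G : Over (Spec (CommRingCat.of K)))
    [GrpObj G] [LocallyOfFiniteType G.hom] (n : ℕ) (g : Fin n → G.left)
    (hg : ∀ i, IsClosed ({g i} : Set G.left)) (Z : Set G.left)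
    (hZ : Z ∈ irreducibleComponents G.left) :
    ∃ U : G.left.Opens, IsAffineOpen U ∧ (U : Set G.left) ⊆ Z ∧ ∀ i, g i ∈ Z → g i ∈ U := by
  classical
  haveI hsub : Subsingleton ↥(Spec (CommRingCat.of K)) :=
    inferInstanceAs (Subsingleton (PrimeSpectrum K))
  haveI : IsLocallyNoetherian G.left := LocallyOfFiniteType.isLocallyNoetherian G.hom
  haveI : JacobsonSpace ↥G.left := LocallyOfFiniteType.jacobsonSpace G.hom
  have huniq : ∀ (x : G.left) (Z1 Z2 : Set G.left), Z1 ∈ irreducibleComponents G.left →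
      Z2 ∈ irreducibleComponents G.left → x ∈ Z1 → x ∈ Z2 → Z1 = Z2 :=
    fun x Z1 Z2 h1 h2 hx1 hx2 => GrpPtIrrH4.unique_comp_through G x Z1 Z2 h1 h2 hx1 hx2
  by_cases hex : ∃ i, g i ∈ Z
  swap
  · exact ⟨⊥, isAffineOpen_bot _, fun x hx => hx.elim, fun i hi => (hex ⟨i, hi⟩).elim⟩
  obtain ⟨i₀, hi₀⟩ := hex
  have hZo : IsOpen Z := isOpen_irrComp huniq Z hZ
  obtain ⟨U₀, hU₀, hgU₀, hU₀Z⟩ :=
    exists_isAffineOpen_mem_and_subset (U := ⟨Z, hZo⟩) (x := g i₀) hi₀
  have hU₀Z' : (U₀ : Set G.left) ⊆ Z := hU₀Z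
  obtain ⟨pt⟩ : Nonempty ↥(𝟙_ (Over (Spec (CommRingCat.of K)))).left :=
    (inferInstance : Nonempty (PrimeSpectrum K))
  haveI hsub' : Subsingleton ↥(𝟙_ (Over (Spec (CommRingCat.of K)))).left :=
    (inferInstance : Subsingleton (PrimeSpectrum K))
  obtain ⟨e, he⟩ : ∃ e : G.left, e = (η[G]).left pt := ⟨_, rfl⟩
  obtain ⟨Z₀, hZ₀, heZ₀⟩ : ∃ Z₀ ∈ irreducibleComponents G.left, e ∈ Z₀ :=
    ⟨irreducibleComponent e, irreducibleComponent_mem_irreducibleComponents e,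
      mem_irreducibleComponent⟩
  -- rational points
  have hpts : ∀ i, ∃ x : 𝟙_ (Over (Spec (CommRingCat.of K))) ⟶ G, ∀ t, x.left t = g i := fun i =>
    ⟨Over.homMk (pointOfClosedPoint G.hom (g i) (hg i))
      (by simpa using pointOfClosedPoint_comp G.hom (g i) (hg i)),
      fun t => pointOfClosedPoint_apply G.hom (g i) (hg i) t⟩
  choose x hx using hpts
  obtain ⟨φ, hφ⟩ : ∃ φ : Fin n → (G ⟶ G), ∀ i, φ i = (𝟙 G)⁻¹ * (toUnit G ≫ x i) :=
    ⟨_, fun i => rfl⟩
  obtain ⟨ψ, hψ⟩ : ∃ ψ : Fin n → (G ⟶ G), ∀ i, ψ i = (toUnit G ≫ x i) * (𝟙 G)⁻¹ :=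
    ⟨_, fun i => rfl⟩
  have hconst : ∀ (y : 𝟙_ (Over (Spec (CommRingCat.of K))) ⟶ G) {A : Over (Spec (CommRingCat.of K))}
      (f : A ⟶ G), f ≫ (toUnit G ≫ y) = toUnit A ≫ y := by
    intro y A f
    rw [← Category.assoc, toUnit_unique (f ≫ toUnit G) (toUnit A)]
  have hψφ : ∀ i, ψ i ≫ φ i = 𝟙 G := by
    intro i
    rw [hφ, MonObj.comp_mul, GrpObj.comp_inv, Category.comp_id, hconst, hψ,
      _root_.mul_inv_rev, _root_.inv_inv, _root_.inv_mul_cancel_right]
  have hφψ : ∀ i, φ i ≫ ψ i = 𝟙 G := by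
    intro i
    rw [hψ, MonObj.comp_mul, GrpObj.comp_inv, Category.comp_id, hconst, hφ,
      _root_.mul_inv_rev, _root_.inv_inv, _root_.mul_inv_cancel_left]
  -- `ψ i` maps `Z` into `Z₀` when `g i ∈ Z`
  have hψZ : ∀ i, g i ∈ Z → ∀ z ∈ Z, (ψ i).left z ∈ Z₀ := by
    intro i hi z hz
    have hirr : IsIrreducible ((ψ i).left '' Z) :=
      hZ.1.image _ (ψ i).left.continuous.continuousOn
    obtain ⟨Z', hZ', hsubZ⟩ := exists_mem_irreducibleComponents_subset_of_isIrreducible _ hirr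
    have hxi : x i ≫ ψ i = η[G] := by
      rw [hψ, MonObj.comp_mul, GrpObj.comp_inv, Category.comp_id, hconst,
        toUnit_unique (toUnit (𝟙_ (Over (Spec (CommRingCat.of K))))) (𝟙 _), Category.id_comp,
        _root_.mul_inv_cancel, Hom.one_def,
        toUnit_unique (toUnit (𝟙_ (Over (Spec (CommRingCat.of K))))) (𝟙 _), Category.id_comp]
    have heq : (ψ i).left (g i) = e := by
      rw [he, ← hx i pt, ← comp_pt, hxi]
    have heZ' : e ∈ Z' := hsubZ ⟨g i, hi, heq⟩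
    have : Z' = Z₀ := huniq e Z' Z₀ hZ' hZ₀ heZ' heZ₀
    rw [← this]
    exact hsubZ ⟨z, hz, rfl⟩
  -- the open sets
  obtain ⟨Uf, hUf⟩ : ∃ Uf : Finset (Set G.left),
      Uf = (Finset.univ.filter (fun i => g i ∈ Z)).image (fun i => (φ i).left ⁻¹' (U₀ : Set G.left)) :=
    ⟨_, rfl⟩
  have hUfo : ∀ u ∈ Uf, IsOpen u := by
    intro u hu
    rw [hUf, Finset.mem_image] at hu
    obtain ⟨i, -, rfl⟩ := hu
    exact U₀.2.preimage (φ i).left.continuous
  have hUfne : ∀ u ∈ Uf, (Z₀ ∩ u).Nonempty := by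
    intro u hu
    rw [hUf, Finset.mem_image] at hu
    obtain ⟨i, hi, rfl⟩ := hu
    rw [Finset.mem_filter] at hi
    refine ⟨(ψ i).left (g i₀), hψZ i hi.2 (g i₀) hi₀, ?_⟩
    show (φ i).left ((ψ i).left (g i₀)) ∈ (U₀ : Set G.left)
    rw [← comp_pt, hψφ]
    exact hgU₀
  obtain ⟨w, -, hw⟩ := isIrreducible_iff_sInter.mp hZ₀.1 Uf hUfo hUfne
  have hWo : IsOpen (⋂₀ (↑Uf : Set (Set G.left))) :=
    Set.Finite.isOpen_sInter (Finset.finite_toSet Uf) hUfo
  obtain ⟨h₁, hh₁W, hh₁cl⟩ := nonempty_inter_closedPoints ⟨w, hw⟩ hWo.isLocallyClosed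
  obtain ⟨h, hh⟩ : ∃ h : 𝟙_ (Over (Spec (CommRingCat.of K))) ⟶ G,
      ∀ t : (𝟙_ (Over (Spec (CommRingCat.of K)))).left, h.left t = h₁ :=
    ⟨Over.homMk (pointOfClosedPoint G.hom h₁ hh₁cl)
      (by simpa using pointOfClosedPoint_comp G.hom h₁ hh₁cl),
      fun t => pointOfClosedPoint_apply G.hom h₁ hh₁cl t⟩
  have hh₁V : ∀ i, g i ∈ Z → (φ i).left h₁ ∈ (U₀ : Set G.left) := by
    intro i hi
    have : (φ i).left ⁻¹' (U₀ : Set G.left) ∈ (↑Uf : Set (Set G.left)) := by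
      rw [hUf, Finset.mem_coe, Finset.mem_image]
      exact ⟨i, Finset.mem_filter.mpr ⟨Finset.mem_univ _, hi⟩, rfl⟩
    exact hh₁W _ this
  -- translation
  obtain ⟨L, hL⟩ : ∃ L : G ⟶ G, L = (toUnit G ≫ h) * 𝟙 G := ⟨_, rfl⟩
  obtain ⟨L', hL'⟩ : ∃ L' : G ⟶ G, L' = (toUnit G ≫ h)⁻¹ * 𝟙 G := ⟨_, rfl⟩
  have hLL' : L ≫ L' = 𝟙 G := by
    rw [hL', MonObj.comp_mul, Category.comp_id, GrpObj.comp_inv, hconst, hL,
      _root_.inv_mul_cancel_left]
  have hL'L : L' ≫ L = 𝟙 G := by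
    rw [hL, MonObj.comp_mul, Category.comp_id, hconst, hL', _root_.mul_inv_cancel_left]
  haveI : IsIso L.left :=
    ⟨⟨L'.left, by rw [← Over.comp_left, hLL']; rfl, by rw [← Over.comp_left, hL'L]; rfl⟩⟩
  have hmem : ∀ i, g i ∈ Z → g i ∈ (L.left ''ᵁ U₀ : G.left.Opens) := by
    intro i hi
    have hcalc : h ≫ φ i ≫ L = x i := by
      rw [← Category.assoc, hL, MonObj.comp_mul, Category.comp_id, hconst, hφ, MonObj.comp_mul, GrpObj.comp_inv,
        Category.comp_id, hconst,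
        toUnit_unique (toUnit (𝟙_ (Over (Spec (CommRingCat.of K))))) (𝟙 _), Category.id_comp,
        Category.id_comp, _root_.mul_inv_cancel_left]
    have heq : L.left ((φ i).left h₁) = g i := by
      rw [← hh pt, ← comp_pt, ← comp_pt, hcalc, hx i pt]
    have : g i ∈ ((L.left ''ᵁ U₀ : G.left.Opens) : Set G.left) := by
      rw [Scheme.Hom.coe_image]
      exact ⟨(φ i).left h₁, hh₁V i hi, heq⟩
    exact this
  refine ⟨L.left ''ᵁ U₀, hU₀.image_of_isOpenImmersion L.left, ?_, hmem⟩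
  -- the translate is inside `Z`
  have hU₀irr : IsIrreducible (U₀ : Set G.left) :=
    ⟨⟨g i₀, hgU₀⟩, hZ.1.2.open_subset U₀.2 hU₀Z'⟩
  have hirr : IsIrreducible (L.left '' (U₀ : Set G.left)) :=
    hU₀irr.image _ L.left.continuous.continuousOn
  obtain ⟨Z', hZ', hsubZ⟩ := exists_mem_irreducibleComponents_subset_of_isIrreducible _ hirr
  have h0 : g i₀ ∈ ((L.left ''ᵁ U₀ : G.left.Opens) : Set G.left) := hmem i₀ hi₀
  rw [Scheme.Hom.coe_image] at h0
  have hZZ : Z' = Z := huniq (g i₀) Z' Z hZ' hZ (hsubZ h0) hi₀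
  rw [Scheme.Hom.coe_image, ← hZZ]
  exact hsubZ

theorem main1864 (K : Type u) [Field K] [IsAlgClosed K] (G : Over (Spec (CommRingCat.of K)))
    [GrpObj G] [LocallyOfFiniteType G.hom] (n : ℕ) (g : Fin n → G.left)
    (hg : ∀ i, IsClosed ({g i} : Set G.left)) :
    ∃ U : G.left.Opens, IsAffineOpen U ∧ ∀ i, g i ∈ U := by
  classical
  have hA := lemmaA K G n g hg
  obtain ⟨Uc, hUcdef⟩ : ∃ Uc : Set G.left → G.left.Opens, ∀ Z, Uc Z =
      if hZ : Z ∈ irreducibleComponents G.left then Classical.choose (hA Z hZ) else ⊥ :=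
    ⟨_, fun Z => rfl⟩
  have hUc : ∀ Z (hZ : Z ∈ irreducibleComponents G.left), IsAffineOpen (Uc Z) ∧
      ((Uc Z : G.left.Opens) : Set G.left) ⊆ Z ∧ ∀ i, g i ∈ Z → g i ∈ Uc Z := by
    intro Z hZ
    rw [hUcdef, dif_pos hZ]
    exact Classical.choose_spec (hA Z hZ)
  obtain ⟨s, hs'⟩ : ∃ s : Set (Set G.left), s = Set.range (fun i => irreducibleComponent (g i)) :=
    ⟨_, rfl⟩
  have hs : s.Finite := by rw [hs']; exact Set.finite_range _
  have hsub : ∀ Z ∈ s, Z ∈ irreducibleComponents G.left := by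
    intro Z hZ
    rw [hs'] at hZ
    obtain ⟨i, rfl⟩ := hZ
    exact irreducibleComponent_mem_irreducibleComponents _
  refine ⟨⨆ Z ∈ s, Uc Z,
    IsAffineOpen.biSup_of_disjoint hs (fun Z hZ => (hUc Z (hsub Z hZ)).1) ?_, ?_⟩
  · intro Z1 h1 Z2 h2 hne
    show Disjoint (Uc Z1) (Uc Z2)
    rw [← TopologicalSpace.Opens.coe_disjoint, Set.disjoint_left]
    intro y hy1 hy2
    exact hne (GrpPtIrrH4.unique_comp_through G y Z1 Z2 (hsub Z1 h1) (hsub Z2 h2)
      ((hUc Z1 (hsub Z1 h1)).2.1 hy1) ((hUc Z2 (hsub Z2 h2)).2.1 hy2))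
  · intro i
    have h1 : g i ∈ Uc (irreducibleComponent (g i)) :=
      (hUc _ (irreducibleComponent_mem_irreducibleComponents _)).2.2 i mem_irreducibleComponent
    have h2 : irreducibleComponent (g i) ∈ s := by rw [hs']; exact ⟨i, rfl⟩
    exact TopologicalSpace.Opens.mem_iSup.mpr ⟨irreducibleComponent (g i),
      TopologicalSpace.Opens.mem_iSup.mpr ⟨h2, h1⟩⟩

end Groth.Agent.Lib.AffFin
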