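import Groth.Agent.Lib.Reynolds_helper9

/-!
# The antipode of a commutative Hopf algebra reverses the comultiplication

`Δ (S a) = Σ S a₂ ⊗ S a₁`.
-/

set_option autoImplicit false
universe u v w w'
open TensorProduct WithConv

namespace Groth.Agent.Lib.Antipode_helper9

open Groth.Agent.Lib.Reynolds_helper9

variable (k : Type u) [CommRing k] (A : Type v) [CommRing A] [HopfAlgebra k A]

theorem incR_antipode_mul_incR :
    toConv ((incR k A).toLinearMap ∘ₗ HopfAlgebraStruct.antipode k (A := A)) *
      toConv (incR k A).toLinearMap = 1 := by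
  have h := LinearMap.algHom_comp_convMul_distrib (incR k A)
    (toConv (HopfAlgebraStruct.antipode k (A := A))) (toConv (LinearMap.id : A →ₗ[k] A))
  rw [LinearMap.antipode_mul_id] at h
  apply WithConv.ext
  simp only [ofConv_toConv, LinearMap.comp_id] at h
  rw [← h]
  apply LinearMap.ext
  intro a
  simp [LinearMap.convOne_def, Algebra.algebraMap_eq_smul_one]

/-- `Δ ∘ S = (ι₂ ∘ S) * (ι₁ ∘ S)` in the convolution monoid -/
theorem comul_antipode_eq :
    toConv (CoalgebraStruct.comul (R := k) (A := A) ∘ₗ HopfAlgebraStruct.antipode k (A := A)) =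
      toConv ((incR k A).toLinearMap ∘ₗ HopfAlgebraStruct.antipode k (A := A)) *
        toConv ((incL k A).toLinearMap ∘ₗ HopfAlgebraStruct.antipode k (A := A)) := by
  rw [← incR_mul_comul_antipode k A, ← mul_assoc, incR_antipode_mul_incR, one_mul]

theorem mul'_map_incR_incL_antipode (t : A ⊗[k] A) :
    LinearMap.mul' k (A ⊗[k] A) (TensorProduct.map
      ((incR k A).toLinearMap ∘ₗ HopfAlgebraStruct.antipode k (A := A))
      ((incL k A).toLinearMap ∘ₗ HopfAlgebraStruct.antipode k (A := A)) t) =
    TensorProduct.map (HopfAlgebraStruct.antipode k (A := A)) (HopfAlgebraStruct.antipode k (A := A))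
      (TensorProduct.comm k A A t) := by
  induction t using TensorProduct.induction_on with
  | zero => simp
  | add x y hx hy => simp only [map_add, hx, hy]
  | tmul x y => simp [incL, incR]

/-- the antipode reverses the comultiplication: `Δ (S a) = (S ⊗ S) (τ (Δ a))` -/
theorem comul_antipode (a : A) :
    CoalgebraStruct.comul (R := k) (HopfAlgebraStruct.antipode k a) =
      TensorProduct.map (HopfAlgebraStruct.antipode k (A := A)) (HopfAlgebraStruct.antipode k (A := A))
        (TensorProduct.comm k A A (CoalgebraStruct.comul (R := k) a)) := by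
  have h := congrArg (fun f => f.ofConv a) (comul_antipode_eq k A)
  simp only [LinearMap.convMul_def, ofConv_toConv, LinearMap.comp_apply] at h
  rw [h, mul'_map_incR_incL_antipode]

end Groth.Agent.Lib.Antipode_helper9
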