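import Groth.Agent.Lib.CoeffIso_helper9

/-!
# Cosemisimple coalgebras over a field

* the isotypic component of a simple comodule `E` in the regular comodule is the coefficient space
  of `E`;
* if the regular comodule is semisimple then every comodule is semisimple;
* a direct sum of simple subcoalgebras has a semisimple regular comodule, and conversely.
-/

set_option autoImplicit false
universe u v w w'
open TensorProduct

namespace Groth.Agent.Lib.Cosemisimple_helper9

open Groth.Agent.Lib.Comod_helper9 Groth.Agent.Lib.ComodDual_helper9 Groth.Agent.Lib.Subcoalg_helper9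
  Groth.Agent.Lib.CoeffSpace_helper9 Groth.Agent.Lib.ComodFlag_helper9 Groth.Agent.Lib.CoeffIso_helper9

/-- independence of submodules is preserved by restriction of scalars -/
theorem iSupIndep_restrictScalars (S : Type*) {R M : Type*} [Semiring S] [Semiring R] [AddCommMonoid M]
    [Module R M] [Module S M] [SMul S R] [IsScalarTower S R M] {ι : Type*} (t : ι → Submodule R M)
    (ht : iSupIndep t) : iSupIndep (fun i => (t i).restrictScalars S) := by
  intro i
  rw [disjoint_iff]
  have h := (ht i).eq_bot
  have : (t i).restrictScalars S ⊓ (⨆ j, ⨆ (_ : j ≠ i), (t j).restrictScalars S) =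
      ((t i) ⊓ ⨆ j, ⨆ (_ : j ≠ i), t j).restrictScalars S := by
    simp only [Submodule.restrictScalars_inf, Submodule.restrictScalars_iSup]
  rw [this, h, Submodule.restrictScalars_bot]

variable {k : Type u} [Field k] {C : Type v} [AddCommGroup C] [Module k C] [Coalgebra k C]

section Isotypic

variable {E : Type w} [AddCommGroup E] [Module k E]

/-- the isotypic component of a simple comodule in the regular comodule is its coefficient space -/
theorem ofDualSubmodule_isotypicComponent_eq_coeffSpace [cE : HopfRep.Comod k C E]
    (hE : HopfRep.IsSimpleComod k C E) :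
    ofDualSubmodule (HopfRep.Comod.regular k C)
      (letI := dualModule (HopfRep.Comod.regular k C); letI := dualModule cE
       isotypicComponent (Dual k C) C E) = coeffSpace k C E := by
  apply le_antisymm _ (coeffSpace_le_isotypicComponent hE)
  letI := dualModule (HopfRep.Comod.regular k C)
  letI := dualModule cE
  haveI : IsSimpleModule (Dual k C) E := isSimpleModule_of_isSimpleComod cE hE
  rw [← iSup_range_eq_isotypicComponent, ← iSup_range_comodHom_eq]
  apply iSup_le
  rintro ⟨f, hf⟩
  exact range_le_coeffSpace f hf

end Isotypic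

section Cofree

variable {V : Type w} [AddCommGroup V] [Module k V]

/-- the coaction as a map into the induced (cofree) comodule -/
noncomputable def coactInd (c : HopfRep.Comod k C V) : V →ₗ[k] Hoch.Ind k C V :=
  (Hoch.Ind.equiv k C V).toLinearMap ∘ₗ c.coact

theorem coactInd_apply (c : HopfRep.Comod k C V) (v : V) :
    coactInd c v = Hoch.Ind.equiv k C V (c.coact v) := rfl

theorem isComodHom_coactInd (c : HopfRep.Comod k C V) : Hoch.IsComodHom C (coactInd c) := by
  apply LinearMap.ext
  intro v
  have hc := LinearMap.congr_fun c.coassoc v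
  simp only [LinearMap.coe_comp, Function.comp_apply, LinearEquiv.coe_coe] at hc
  show Hoch.Ind.coactAux k C V (c.coact v) = c.coact.rTensor C (c.coact v)
  unfold Hoch.Ind.coactAux
  rw [LinearMap.comp_apply, ← hc]
  simp

theorem injective_coactInd (c : HopfRep.Comod k C V) : Function.Injective (coactInd c) := by
  rw [← LinearMap.ker_eq_bot, LinearMap.ker_eq_bot']
  intro v hv
  exact eq_zero_of_coact_eq_zero (k := k) (C := C) v hv

/-- `a ↦ p ⊗ a` as a map into the induced comodule -/
noncomputable def mkInd (p : V) : C →ₗ[k] Hoch.Ind k C V :=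
  (Hoch.Ind.equiv k C V).toLinearMap ∘ₗ TensorProduct.mk k V C p

theorem isComodHom_mkInd (p : V) : Hoch.IsComodHom C (mkInd (k := k) (C := C) p) := by
  apply LinearMap.ext
  intro a
  show Hoch.Ind.coactAux k C V (p ⊗ₜ[k] a) = (TensorProduct.mk k V C p).rTensor C
    (CoalgebraStruct.comul (R := k) a)
  rw [Hoch.Ind.coactAux_tmul]
  generalize CoalgebraStruct.comul (R := k) a = x
  induction x using TensorProduct.induction_on with
  | zero => simp
  | add x y hx hy => simp only [TensorProduct.tmul_add, map_add, hx, hy]
  | tmul a b => simp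

omit [Coalgebra k C] in
theorem iSup_range_mkInd : (⨆ p : V, LinearMap.range (mkInd (k := k) (C := C) p)) = ⊤ := by
  rw [eq_top_iff]
  intro x _
  induction x using TensorProduct.induction_on with
  | zero => exact Submodule.zero_mem _
  | add x y hx hy => exact Submodule.add_mem _ (hx trivial) (hy trivial)
  | tmul p a => exact Submodule.mem_iSup_of_mem p ⟨a, rfl⟩

/-- if the regular comodule is semisimple, so is every comodule -/
theorem isSemisimpleModule_of_regular
    (h : letI := dualModule (HopfRep.Comod.regular k C); IsSemisimpleModule (Dual k C) C)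
    (c : HopfRep.Comod k C V) :
    letI := dualModule c
    IsSemisimpleModule (Dual k C) V := by
  letI mC := dualModule (HopfRep.Comod.regular k C)
  letI mV := dualModule c
  letI mI := dualModule (Hoch.Ind.comod k C V)
  haveI := h
  have hI : IsSemisimpleModule (Dual k C) (Hoch.Ind k C V) := by
    apply isSemisimpleModule_of_isSemisimpleModule_submodule'
      (p := fun p : V => LinearMap.range (toDualLinear (HopfRep.Comod.regular k C) (Hoch.Ind.comod k C V)
        (mkInd (k := k) (C := C) p) (isComodHom_mkInd p)))
    · intro p
      exact IsSemisimpleModule.range _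
    · rw [eq_top_iff]
      intro x _
      have hx : x ∈ (⨆ p : V, LinearMap.range (mkInd (k := k) (C := C) p)) := by
        rw [iSup_range_mkInd]; trivial
      refine Submodule.iSup_induction (fun p : V => LinearMap.range (mkInd (k := k) (C := C) p))
        (motive := fun x => x ∈ ⨆ p : V, LinearMap.range (toDualLinear (HopfRep.Comod.regular k C)
          (Hoch.Ind.comod k C V) (mkInd (k := k) (C := C) p) (isComodHom_mkInd p))) hx ?_ ?_ ?_
      · rintro p _ ⟨a, rfl⟩
        exact Submodule.mem_iSup_of_mem p ⟨a, rfl⟩
      · exact Submodule.zero_mem _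
      · intro x y hx hy
        exact Submodule.add_mem _ hx hy
  exact IsSemisimpleModule.of_injective
    (toDualLinear c (Hoch.Ind.comod k C V) (coactInd c) (isComodHom_coactInd c)) (injective_coactInd c)

/-- if the regular comodule is semisimple, so is every comodule -/
theorem isSemisimpleComod_of_regular
    (h : HopfRep.IsSemisimpleComod k C C) [c : HopfRep.Comod k C V] :
    HopfRep.IsSemisimpleComod k C V := by
  apply isSemisimpleComod_of_isSemisimpleModule c
  apply isSemisimpleModule_of_regular
  exact isSemisimpleModule_of_isSemisimpleComod (HopfRep.Comod.regular k C) h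

end Cofree

section Restr

variable {V : Type w} [AddCommGroup V] [Module k V]

/-- the action of functionals on a subcomodule with its induced structure is the restricted action -/
theorem act_restr_coe (c : HopfRep.Comod k C V) (U : Submodule k V)
    (hU : HopfRep.IsSubcomod (k := k) (A := C) U) (φ : C →ₗ[k] k) (x : U) :
    ((@act k _ C _ _ _ U _ _ (ComodSub.Comod.restr c U hU) φ x : U) : V) = act φ (x : V) := by
  have h := ComodSub.restr_coact_coe c U hU x
  rw [@act_apply k _ C _ _ _ U _ _ (ComodSub.Comod.restr c U hU), act_apply]
  have h' : c.coact (x : V) = U.subtype.rTensor C ((ComodSub.Comod.restr c U hU).coact x) := h.symm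
  rw [h', ev_rTensor]
  rfl

/-- a subcomodule with its induced structure, as a `C^*`-module, is the corresponding submodule -/
noncomputable def restrDualEquiv (c : HopfRep.Comod k C V) (U : Submodule k V)
    (hU : HopfRep.IsSubcomod (k := k) (A := C) U) :
    letI := dualModule c
    letI := dualModule (ComodSub.Comod.restr c U hU)
    (toDualSubmodule c U hU) ≃ₗ[Dual k C] U :=
  letI := dualModule c
  letI := dualModule (ComodSub.Comod.restr c U hU)
  { toFun := fun x => ⟨x.1, x.2⟩
    invFun := fun x => ⟨x.1, x.2⟩
    left_inv := fun _ => rfl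
    right_inv := fun _ => rfl
    map_add' := fun _ _ => rfl
    map_smul' := fun φ x => by
      apply Subtype.ext
      exact (act_restr_coe c U hU φ.ofConv ⟨x.1, x.2⟩).symm }

end Restr

section Decomp

/-- a simple subcoalgebra is the coefficient space of a simple subcomodule of `C` -/
theorem exists_simple_subcomod_of_isSimpleSubcoalg (D : Submodule k C) (hD : IsSimpleSubcoalg D) :
    ∃ (E : Submodule k C) (hE : HopfRep.IsSubcomod (k := k) (A := C) E), E ≤ D ∧ E ≠ ⊥ ∧
      (∀ E' : Submodule k C, HopfRep.IsSubcomod (k := k) (A := C) E' → E' ≤ E → E' = ⊥ ∨ E' = E) ∧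
      coeffSpaceSub E hE = D := by
  obtain ⟨hD0, hDsub, hDs⟩ := hD
  have hDcomod : HopfRep.IsSubcomod (k := k) (A := C) D := isSubcomod_of_isSubcoalg D hDsub
  obtain ⟨E, hED, hE, hEne, hEfin, hmin⟩ := exists_minimal_subcomod_le (C := C) D hDcomod hD0
  refine ⟨E, hE, hED, hEne, hmin, ?_⟩
  haveI : Nontrivial E := Submodule.nontrivial_iff_ne_bot.mpr hEne
  letI cE : HopfRep.Comod k C E := ComodSub.Comod.restr (HopfRep.Comod.regular k C) E hE
  have hsub : IsSubcoalg (coeffSpaceSub E hE) := isSubcoalg_coeffSpace
  have hne : coeffSpaceSub E hE ≠ ⊥ := coeffSpace_ne_bot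
  have hle : coeffSpaceSub E hE ≤ D := coeffSpaceSub_le_of_le_isSubcoalg E hE D hDsub hED
  rcases hDs _ hle hsub with h | h
  · exact absurd h hne
  · exact h

/-- a sum of simple subcoalgebras has a semisimple regular comodule -/
theorem isSemisimpleModule_regular_of_iSup_simple {ι : Type*} (D : ι → Submodule k C)
    (htop : iSup D = ⊤) (hD : ∀ i, IsSimpleSubcoalg (D i)) :
    letI := dualModule (HopfRep.Comod.regular k C)
    IsSemisimpleModule (Dual k C) C := by
  letI mC := dualModule (HopfRep.Comod.regular k C)
  haveI := isScalarTower_dual (HopfRep.Comod.regular k C)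
  choose E hE hED hEne hmin hcoeff using fun i => exists_simple_subcomod_of_isSimpleSubcoalg (D i) (hD i)
  have hs : ∀ i, @HopfRep.IsSimpleComod k C _ _ _ _ (E i) _ _
      (ComodSub.Comod.restr (HopfRep.Comod.regular k C) (E i) (hE i)) :=
    fun i => isSimpleComod_restr_of_minimal (HopfRep.Comod.regular k C) (E i) (hE i) (hEne i) (hmin i)
  let N : ι → Submodule (Dual k C) C := fun i =>
    letI := dualModule (ComodSub.Comod.restr (HopfRep.Comod.regular k C) (E i) (hE i))
    isotypicComponent (Dual k C) C (E i)
  have hN : ∀ i, ofDualSubmodule (HopfRep.Comod.regular k C) (N i) = D i := by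
    intro i
    rw [← hcoeff i]
    exact @ofDualSubmodule_isotypicComponent_eq_coeffSpace k _ C _ _ _ (E i) _ _
      (ComodSub.Comod.restr (HopfRep.Comod.regular k C) (E i) (hE i)) (hs i)
  apply isSemisimpleModule_of_isSemisimpleModule_submodule' (p := N)
  · intro i
    letI := dualModule (ComodSub.Comod.restr (HopfRep.Comod.regular k C) (E i) (hE i))
    haveI : IsSimpleModule (Dual k C) (E i) := isSimpleModule_of_isSimpleComod _ (hs i)
    show IsSemisimpleModule (Dual k C) (isotypicComponent (Dual k C) C (E i))
    infer_instance
  · rw [← Submodule.restrictScalars_eq_top_iff k, Submodule.restrictScalars_iSup, ← htop]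
    congr 1
    funext i
    exact hN i

/-- a coalgebra whose regular comodule is semisimple is a direct sum of simple subcoalgebras -/
theorem exists_simpleSubcoalg_decomposition
    (h : letI := dualModule (HopfRep.Comod.regular k C); IsSemisimpleModule (Dual k C) C) :
    ∃ (ι : Type v) (D : ι → Submodule k C), iSupIndep D ∧ iSup D = ⊤ ∧ ∀ i, IsSimpleSubcoalg (D i) := by
  letI mC := dualModule (HopfRep.Comod.regular k C)
  haveI := isScalarTower_dual (HopfRep.Comod.regular k C)
  haveI := h
  refine ⟨↥(isotypicComponents (Dual k C) C),
    fun c => ofDualSubmodule (HopfRep.Comod.regular k C) c.1, ?_, ?_, ?_⟩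
  · have h1 := (sSupIndep_iff _).mp (sSupIndep_isotypicComponents (Dual k C) C)
    exact iSupIndep_restrictScalars k _ h1
  · have h2 := sSup_isotypicComponents (Dual k C) C
    rw [sSup_eq_iSup'] at h2
    unfold ofDualSubmodule
    rw [← Submodule.restrictScalars_iSup, h2, Submodule.restrictScalars_top]
  · rintro ⟨c, S, hS, rfl⟩
    haveI := hS
    -- the subcomodule underlying `S`
    have hU : HopfRep.IsSubcomod (k := k) (A := C) (ofDualSubmodule (HopfRep.Comod.regular k C) S) :=
      isSubcomod_ofDualSubmodule (HopfRep.Comod.regular k C) S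
    letI cU : HopfRep.Comod k C (ofDualSubmodule (HopfRep.Comod.regular k C) S) :=
      ComodSub.Comod.restr (HopfRep.Comod.regular k C) _ hU
    letI mU := dualModule cU
    have e0 := restrDualEquiv (HopfRep.Comod.regular k C) (ofDualSubmodule (HopfRep.Comod.regular k C) S) hU
    rw [toDualSubmodule_ofDualSubmodule] at e0
    haveI : IsSimpleModule (Dual k C) (ofDualSubmodule (HopfRep.Comod.regular k C) S) :=
      (LinearEquiv.isSimpleModule_iff e0).mp hS
    have hUs : HopfRep.IsSimpleComod k C (ofDualSubmodule (HopfRep.Comod.regular k C) S) :=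
      isSimpleComod_of_isSimpleModule cU inferInstance
    have heq : isotypicComponent (Dual k C) C S =
        isotypicComponent (Dual k C) C (ofDualSubmodule (HopfRep.Comod.regular k C) S) :=
      e0.isotypicComponent_eq
    show IsSimpleSubcoalg (ofDualSubmodule (HopfRep.Comod.regular k C) (isotypicComponent (Dual k C) C S))
    rw [heq, ofDualSubmodule_isotypicComponent_eq_coeffSpace hUs]
    exact isSimpleSubcoalg_coeffSpace hUs

end Decomp

end Groth.Agent.Lib.Cosemisimple_helper9
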