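import Groth.Agent.Lib.Integral_helper9
import Groth.Agent.Lib.Cosemisimple_helper9
import Groth.Agent.Lib.Antipode_helper9

/-!
# Linearly reductive Hopf algebras and total integrals (helper9)

* if every finite-dimensional comodule of a coalgebra over a field is semisimple, the regular
  comodule is semisimple;
* a semisimple regular comodule of a Hopf algebra gives a total (right) integral `α : A → k`;
* `S ∘ S = id` for a commutative Hopf algebra, and `α ∘ S` is a left integral;
* a left integral contracts the Hochschild complex in positive degrees and gives a Reynolds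
  operator on every comodule;
* base change and descent of integrals along a field extension.
-/

set_option autoImplicit false
universe u u' v w w'

open TensorProduct WithConv

namespace Groth.Agent.Lib.LinRed_helper9

open Groth.Agent.Lib.ComodDual_helper9 Groth.Agent.Lib.Reynolds_helper9 Groth.Agent.Lib.Comod_helper9
  Groth.Agent.Lib.Integral_helper9 Groth.Agent.Lib.Cosemisimple_helper9
  Groth.Agent.Lib.Antipode_helper9

section Regular

variable {k : Type u} [Field k] {C : Type v} [AddCommGroup C] [Module k C] [Coalgebra k C]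

/-- if every finite-dimensional comodule is semisimple, so is the regular comodule -/
theorem isSemisimpleModule_regular_of_finite
    (h : ∀ (V : Type v) [AddCommGroup V] [Module k V] [HopfRep.Comod k C V],
      Module.Finite k V → HopfRep.IsSemisimpleComod k C V) :
    letI := dualModule (HopfRep.Comod.regular k C)
    IsSemisimpleModule (Dual k C) C := by
  letI mC := dualModule (HopfRep.Comod.regular k C)
  have hU : ∀ a : C, HopfRep.IsSubcomod (k := k) (A := C) (cyclicSub (k := k) (C := C) a) :=
    fun a => isSubcomod_cyclicSub a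
  apply isSemisimpleModule_of_isSemisimpleModule_submodule'
    (p := fun a : C => toDualSubmodule (HopfRep.Comod.regular k C)
      (cyclicSub (k := k) (C := C) a) (hU a))
  · intro a
    letI cU : HopfRep.Comod k C (cyclicSub (k := k) (C := C) a) :=
      ComodSub.Comod.restr (HopfRep.Comod.regular k C) _ (hU a)
    letI mU := dualModule cU
    haveI : Module.Finite k (cyclicSub (k := k) (C := C) a) := finite_cyclicSub a
    have hs : HopfRep.IsSemisimpleComod k C (cyclicSub (k := k) (C := C) a) := h _ inferInstance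
    haveI : IsSemisimpleModule (Dual k C) (cyclicSub (k := k) (C := C) a) :=
      isSemisimpleModule_of_isSemisimpleComod cU hs
    exact IsSemisimpleModule.congr (restrDualEquiv (HopfRep.Comod.regular k C) _ (hU a))
  · rw [eq_top_iff]
    intro x _
    exact Submodule.mem_iSup_of_mem x (self_mem_cyclicSub x)

end Regular

section Integral

variable (k : Type u) [Field k] (A : Type v) [CommRing A] [HopfAlgebra k A]

theorem isSubcomod_span_one :
    HopfRep.IsSubcomod (k := k) (A := A) (Submodule.span k {(1 : A)}) := by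
  intro w hw
  obtain ⟨c, rfl⟩ := Submodule.mem_span_singleton.mp hw
  refine ⟨(c • (⟨1, Submodule.mem_span_singleton_self 1⟩ : Submodule.span k {(1 : A)})) ⊗ₜ[k]
    (1 : A), ?_⟩
  rw [LinearMap.rTensor_tmul]
  show (c • (1 : A)) ⊗ₜ[k] (1 : A) = CoalgebraStruct.comul (R := k) (c • (1 : A))
  rw [map_smul, Bialgebra.comul_one, Algebra.TensorProduct.one_def, TensorProduct.smul_tmul']

/-- a semisimple regular comodule gives a total integral -/
theorem exists_totalIntegral (h : HopfRep.IsSemisimpleComod k A A) :
    ∃ α : A →ₗ[k] k,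
      (∀ a : A, Theta k A α (CoalgebraStruct.comul (R := k) a) = α a • (1 : A)) ∧ α 1 = 1 := by
  obtain ⟨W, hW, hc⟩ := h _ (isSubcomod_span_one k A)
  let p : A →ₗ[k] (Submodule.span k {(1 : A)}) :=
    Submodule.linearProjOfIsCompl (Submodule.span k {(1 : A)}) W hc
  let α : A →ₗ[k] k := CoalgebraStruct.counit (R := k) (A := A) ∘ₗ
    (Submodule.span k {(1 : A)}).subtype ∘ₗ p
  have hαdef : ∀ a, α a = CoalgebraStruct.counit (R := k) ((p a : Submodule.span k {(1 : A)}) : A) :=
    fun _ => rfl
  have h1mem : (1 : A) ∈ Submodule.span k {(1 : A)} := Submodule.mem_span_singleton_self 1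
  have hα1 : α 1 = 1 := by
    rw [hαdef]
    have : p 1 = ⟨1, h1mem⟩ := Submodule.linearProjOfIsCompl_apply_left hc ⟨1, h1mem⟩
    rw [this]
    exact Bialgebra.counit_one
  have hαW : ∀ w ∈ W, α w = 0 := by
    intro w hw
    rw [hαdef]
    have : p w = 0 := Submodule.linearProjOfIsCompl_apply_right hc ⟨w, hw⟩
    rw [this]
    simp
  have hz : ∀ y : W ⊗[k] A, Theta k A α (W.subtype.rTensor A y) = 0 := by
    intro y
    induction y using TensorProduct.induction_on with
    | zero => simp
    | add x y hx hy => rw [map_add, map_add, hx, hy, add_zero]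
    | tmul w' b =>
      rw [LinearMap.rTensor_tmul, Theta_tmul, Submodule.subtype_apply, hαW _ w'.2, zero_smul]
  refine ⟨α, ?_, hα1⟩
  intro a
  have ha : a ∈ Submodule.span k {(1 : A)} ⊔ W := by rw [hc.sup_eq_top]; trivial
  obtain ⟨u, hu, w, hw, rfl⟩ := Submodule.mem_sup.mp ha
  obtain ⟨c, rfl⟩ := Submodule.mem_span_singleton.mp hu
  rw [map_add, map_add, map_add, add_smul]
  congr 1
  · have e1 : CoalgebraStruct.comul (R := k) (c • (1 : A)) = c • ((1 : A) ⊗ₜ[k] (1 : A)) := by
      rw [map_smul, Bialgebra.comul_one, Algebra.TensorProduct.one_def]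
    rw [e1, map_smul, Theta_tmul, map_smul, hα1, smul_eq_mul, mul_one, one_smul]
  · obtain ⟨y, hy⟩ := hW w hw
    rw [hαW w hw, zero_smul]
    have : CoalgebraStruct.comul (R := k) w = W.subtype.rTensor A y := hy.symm
    rw [this]
    exact hz y

/-- a linearly reductive Hopf algebra has a total integral -/
theorem exists_totalIntegral_of_isLinearlyReductive (h : HopfRep.IsLinearlyReductive k A) :
    ∃ α : A →ₗ[k] k,
      (∀ a : A, Theta k A α (CoalgebraStruct.comul (R := k) a) = α a • (1 : A)) ∧ α 1 = 1 := by
  apply exists_totalIntegral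
  apply isSemisimpleComod_of_isSemisimpleModule (HopfRep.Comod.regular k A)
  exact isSemisimpleModule_regular_of_finite (fun V _ _ _ hfin => h V hfin)

/-- over a linearly reductive Hopf algebra every comodule (of any dimension) is semisimple -/
theorem isSemisimpleComod_of_isLinearlyReductive (h : HopfRep.IsLinearlyReductive k A)
    (V : Type w) [AddCommGroup V] [Module k V] [HopfRep.Comod k A V] :
    HopfRep.IsSemisimpleComod k A V := by
  obtain ⟨α, hint, h1⟩ := exists_totalIntegral_of_isLinearlyReductive k A h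
  exact isSemisimpleComod_of_integral k A α V hint h1

end Integral

section Antipode

variable (k : Type u) [CommRing k] (A : Type v) [CommRing A] [HopfAlgebra k A]

/-- the antipode of a commutative Hopf algebra is an involution -/
theorem antipode_antipode (a : A) :
    HopfAlgebraStruct.antipode k (HopfAlgebraStruct.antipode k a) = a := by
  have h := inv_inv (toConv (AlgHom.id k A))
  have h3 := congrArg (fun f : WithConv (A →ₐ[k] A) => f.ofConv a) h
  exact h3

theorem antipode_injective :
    Function.Injective (HopfAlgebraStruct.antipode k (A := A)) :=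
  Function.LeftInverse.injective (antipode_antipode k A)

variable (β : A →ₗ[k] k)

/-- `m ⊗ a ↦ β(a) • m` -/
noncomputable def hB (M : Type w) [AddCommGroup M] [Module k M] : M ⊗[k] A →ₗ[k] M :=
  (TensorProduct.rid k M).toLinearMap ∘ₗ β.lTensor M

theorem hB_tmul (M : Type w) [AddCommGroup M] [Module k M] (m : M) (a : A) :
    hB k A β M (m ⊗ₜ[k] a) = β a • m := by
  simp [hB]

theorem hB_natural {M : Type w} [AddCommGroup M] [Module k M] {N : Type w'} [AddCommGroup N]
    [Module k N] (f : M →ₗ[k] N) (x : M ⊗[k] A) :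
    hB k A β N (f.rTensor A x) = f (hB k A β M x) := by
  induction x using TensorProduct.induction_on with
  | zero => simp
  | add x y hx hy => simp only [map_add, hx, hy]
  | tmul m a => rw [LinearMap.rTensor_tmul, hB_tmul, hB_tmul, map_smul]

theorem hB_assoc_symm (M : Type w) [AddCommGroup M] [Module k M] (m : M) (t : A ⊗[k] A) :
    hB k A β (M ⊗[k] A) ((TensorProduct.assoc k M A A).symm (m ⊗ₜ[k] t)) =
      m ⊗ₜ[k] hB k A β A t := by
  induction t using TensorProduct.induction_on with
  | zero => simp
  | add x y hx hy => simp only [TensorProduct.tmul_add, map_add, hx, hy]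
  | tmul y z =>
    rw [TensorProduct.assoc_symm_tmul, hB_tmul, hB_tmul, TensorProduct.tmul_smul]

theorem antipode_hB (α : A →ₗ[k] k) (t : A ⊗[k] A) :
    HopfAlgebraStruct.antipode k
        (hB k A (α ∘ₗ HopfAlgebraStruct.antipode k (A := A)) A t) =
      Theta k A α (TensorProduct.map (HopfAlgebraStruct.antipode k (A := A))
        (HopfAlgebraStruct.antipode k (A := A)) (TensorProduct.comm k A A t)) := by
  induction t using TensorProduct.induction_on with
  | zero => simp
  | add x y hx hy => simp only [map_add, hx, hy]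
  | tmul y z =>
    rw [hB_tmul, TensorProduct.comm_tmul, TensorProduct.map_tmul, Theta_tmul, map_smul,
      LinearMap.comp_apply]

/-- if `α` is a right integral then `α ∘ S` is a left integral -/
theorem leftIntegral (α : A →ₗ[k] k)
    (hint : ∀ a : A, Theta k A α (CoalgebraStruct.comul (R := k) a) = α a • (1 : A)) (a : A) :
    hB k A (α ∘ₗ HopfAlgebraStruct.antipode k (A := A)) A (CoalgebraStruct.comul (R := k) a) =
      (α ∘ₗ HopfAlgebraStruct.antipode k (A := A)) a • (1 : A) := by
  apply antipode_injective k A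
  rw [antipode_hB, ← comul_antipode k A a, hint, map_smul, HopfAlgebra.antipode_one,
    LinearMap.comp_apply]

end Antipode

section Hochschild

variable (k : Type u) [CommRing k] (A : Type v) [CommRing A] [HopfAlgebra k A] (β : A →ₗ[k] k)

theorem homotopy_aux
    (hβ : ∀ a : A, hB k A β A (CoalgebraStruct.comul (R := k) a) = β a • (1 : A)) (h1 : β 1 = 1)
    (M : Type v) [AddCommGroup M] [Module k M] (δ : M →ₗ[k] M ⊗[k] A) (s : k) (x : M ⊗[k] A) :
    hB k A β (M ⊗[k] A) ((δ.rTensor A + s • Hoch.tail k A M) x) - δ (hB k A β M x) = (-s) • x := by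
  induction x using TensorProduct.induction_on with
  | zero => simp
  | add x y hx hy =>
    rw [map_add, map_add, map_add, map_add, smul_add, ← hx, ← hy]
    abel
  | tmul m a =>
    have e1 : hB k A β A (CoalgebraStruct.comul (R := k) a - a ⊗ₜ[k] (1 : A) - (1 : A) ⊗ₜ[k] a) =
        -a := by
      rw [map_sub, map_sub, hβ, hB_tmul, hB_tmul, h1, one_smul]
      abel
    rw [LinearMap.add_apply, LinearMap.smul_apply, LinearMap.rTensor_tmul, Hoch.tail_tmul, map_add,
      map_smul, hB_tmul, hB_assoc_symm, e1, hB_tmul, map_smul, TensorProduct.tmul_neg, smul_neg,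
      neg_smul]
    abel

/-- a left integral kills Hochschild cohomology in positive degrees -/
theorem cocycles_le_coboundaries
    (hβ : ∀ a : A, hB k A β A (CoalgebraStruct.comul (R := k) a) = β a • (1 : A)) (h1 : β 1 = 1)
    (V : Type v) [AddCommGroup V] [Module k V] [HopfRep.Comod k A V] (n : ℕ) :
    Hoch.cocycles k A V (n + 1) ≤ Hoch.coboundaries k A V (n + 1) := by
  intro x hx
  have hx0 : Hoch.d k A V (n + 1) x = 0 := hx
  have key := homotopy_aux k A β hβ h1 (Hoch.cochain k A V n : Type v) (Hoch.d k A V n)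
    ((-1 : k) ^ (n + 1)) x
  have hd : (Hoch.d k A V n).rTensor A + ((-1 : k) ^ (n + 1)) • Hoch.tail k A (Hoch.cochain k A V n) =
      Hoch.d k A V (n + 1) := rfl
  rw [hd, hx0, map_zero, zero_sub] at key
  show x ∈ LinearMap.range (Hoch.d k A V n)
  refine ⟨((-1 : k) ^ (n + 1)) • hB k A β (Hoch.cochain k A V n : Type v) x, ?_⟩
  have h2 : Hoch.d k A V n (hB k A β (Hoch.cochain k A V n : Type v) x) =
      ((-1 : k) ^ (n + 1)) • x := by
    rw [← neg_inj, key, neg_smul]
  rw [map_smul, h2, smul_smul, ← mul_pow, neg_one_mul, neg_neg, one_pow, one_smul]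

end Hochschild

section Reynolds

variable (k : Type u) [CommRing k] (A : Type v) [CommRing A] [HopfAlgebra k A] (β : A →ₗ[k] k)
variable (V : Type w) [AddCommGroup V] [Module k V] [HopfRep.Comod k A V]

/-- the Reynolds operator of a left integral -/
noncomputable def rey : V →ₗ[k] V := hB k A β V ∘ₗ HopfRep.Comod.coact (k := k) (A := A)

theorem rey_apply (v : V) :
    rey k A β V v = hB k A β V (HopfRep.Comod.coact (k := k) (A := A) v) := rfl

theorem hB_lTensor_comul
    (hβ : ∀ a : A, hB k A β A (CoalgebraStruct.comul (R := k) a) = β a • (1 : A))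
    (M : Type w) [AddCommGroup M] [Module k M] (x : M ⊗[k] A) :
    hB k A β (M ⊗[k] A) ((TensorProduct.assoc k M A A).symm
      ((CoalgebraStruct.comul (R := k) (A := A)).lTensor M x)) = hB k A β M x ⊗ₜ[k] (1 : A) := by
  induction x using TensorProduct.induction_on with
  | zero => simp
  | add x y hx hy => simp only [map_add, hx, hy, TensorProduct.add_tmul]
  | tmul m a =>
    rw [LinearMap.lTensor_tmul, hB_assoc_symm, hβ, hB_tmul, TensorProduct.tmul_smul,
      TensorProduct.smul_tmul']

theorem coact_rey
    (hβ : ∀ a : A, hB k A β A (CoalgebraStruct.comul (R := k) a) = β a • (1 : A)) (v : V) :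
    HopfRep.Comod.coact (k := k) (A := A) (rey k A β V v) = rey k A β V v ⊗ₜ[k] (1 : A) := by
  rw [rey_apply, ← hB_natural, ← coassoc_apply k A V v]
  exact hB_lTensor_comul k A β hβ V _

theorem rey_mem_fixedPts
    (hβ : ∀ a : A, hB k A β A (CoalgebraStruct.comul (R := k) a) = β a • (1 : A)) (v : V) :
    rey k A β V v ∈ HopfRep.fixedPts k A V := coact_rey k A β V hβ v

theorem rey_of_mem_fixedPts (h1 : β 1 = 1) (v : V) (hv : v ∈ HopfRep.fixedPts k A V) :
    rey k A β V v = v := by
  have hv' : HopfRep.Comod.coact (k := k) (A := A) v = v ⊗ₜ[k] (1 : A) := hv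
  rw [rey_apply, hv', hB_tmul, h1, one_smul]

theorem rey_natural {W : Type w'} [AddCommGroup W] [Module k W] [HopfRep.Comod k A W]
    (f : V →ₗ[k] W) (hf : Hoch.IsComodHom A f) (v : V) :
    f (rey k A β V v) = rey k A β W (f v) := by
  rw [rey_apply, rey_apply, ← hB_natural, ← isComodHom_apply hf]

end Reynolds

section BaseChange

variable (k : Type u) [CommRing k] (K : Type u') [CommRing K] [Algebra k K]
variable (A : Type v) [CommRing A] [HopfAlgebra k A]

/-- base change of a functional: `c ⊗ a ↦ α(a) • c` -/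
noncomputable def bcFun (α : A →ₗ[k] k) : K ⊗[k] A →ₗ[K] K :=
  (TensorProduct.AlgebraTensorModule.rid k K K).toLinearMap ∘ₗ α.baseChange K

theorem bcFun_tmul (α : A →ₗ[k] k) (c : K) (a : A) :
    bcFun k K A α (c ⊗ₜ[k] a) = α a • c := by
  simp [bcFun]

/-- `a ↦ γ(1 ⊗ a) * c` -/
noncomputable def gFun (γ : K ⊗[k] A →ₗ[K] K) (c : K) : A →ₗ[k] K :=
  LinearMap.mulRight k c ∘ₗ (γ.restrictScalars k) ∘ₗ TensorProduct.mk k K A 1

theorem gFun_apply (γ : K ⊗[k] A →ₗ[K] K) (c : K) (a : A) :
    gFun k K A γ c a = γ ((1 : K) ⊗ₜ[k] a) * c := rfl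

theorem Theta_tttc (γ : K ⊗[k] A →ₗ[K] K) (c : K) (t : A ⊗[k] A) :
    Theta K (K ⊗[k] A) γ
      (TensorProduct.AlgebraTensorModule.tensorTensorTensorComm k K k K K K A A
        (((1 : K) ⊗ₜ[K] c) ⊗ₜ[k] t)) =
      TensorProduct.map (gFun k K A γ c) (LinearMap.id : A →ₗ[k] A) t := by
  induction t using TensorProduct.induction_on with
  | zero => simp
  | add x y hx hy => simp only [TensorProduct.tmul_add, map_add, hx, hy]
  | tmul a₁ a₂ =>
    rw [TensorProduct.AlgebraTensorModule.tensorTensorTensorComm_tmul, Theta_tmul,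
      TensorProduct.map_tmul, gFun_apply, LinearMap.id_apply, TensorProduct.smul_tmul', smul_eq_mul]

theorem comul_tmul_eq (c : K) (a : A) :
    CoalgebraStruct.comul (R := K) (A := K ⊗[k] A) (c ⊗ₜ[k] a) =
      TensorProduct.AlgebraTensorModule.tensorTensorTensorComm k K k K K K A A
        (((1 : K) ⊗ₜ[K] c) ⊗ₜ[k] CoalgebraStruct.comul (R := k) a) := rfl

theorem map_gFun_bcFun (α : A →ₗ[k] k) (c : K) (t : A ⊗[k] A) :
    TensorProduct.map (gFun k K A (bcFun k K A α) c) (LinearMap.id : A →ₗ[k] A) t =
      c ⊗ₜ[k] Theta k A α t := by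
  induction t using TensorProduct.induction_on with
  | zero => simp
  | add x y hx hy => simp only [TensorProduct.tmul_add, map_add, hx, hy]
  | tmul a₁ a₂ =>
    rw [TensorProduct.map_tmul, gFun_apply, bcFun_tmul, LinearMap.id_apply, Theta_tmul,
      TensorProduct.tmul_smul, TensorProduct.smul_tmul', smul_mul_assoc, one_mul]

/-- the base change of a total integral is a total integral -/
theorem bcFun_integral (α : A →ₗ[k] k)
    (hint : ∀ a : A, Theta k A α (CoalgebraStruct.comul (R := k) a) = α a • (1 : A)) (x : K ⊗[k] A) :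
    Theta K (K ⊗[k] A) (bcFun k K A α) (CoalgebraStruct.comul (R := K) x) =
      bcFun k K A α x • (1 : K ⊗[k] A) := by
  induction x using TensorProduct.induction_on with
  | zero => simp
  | add x y hx hy => rw [map_add, map_add, map_add, add_smul, hx, hy]
  | tmul c a =>
    rw [comul_tmul_eq, Theta_tttc, map_gFun_bcFun, hint, bcFun_tmul, Algebra.TensorProduct.one_def,
      TensorProduct.smul_tmul', TensorProduct.tmul_smul, TensorProduct.smul_tmul', smul_eq_mul,
      mul_one]

theorem bcFun_one (α : A →ₗ[k] k) (h1 : α 1 = 1) : bcFun k K A α 1 = 1 := by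
  rw [Algebra.TensorProduct.one_def, bcFun_tmul, h1, one_smul]

/-- descent of a functional along a retraction `r : K → k` -/
noncomputable def descFun (r : K →ₗ[k] k) (γ : K ⊗[k] A →ₗ[K] K) : A →ₗ[k] k :=
  r ∘ₗ (γ.restrictScalars k) ∘ₗ TensorProduct.mk k K A 1

theorem descFun_apply (r : K →ₗ[k] k) (γ : K ⊗[k] A →ₗ[K] K) (a : A) :
    descFun k K A r γ a = r (γ ((1 : K) ⊗ₜ[k] a)) := rfl

theorem lid_rTensor_map_gFun (r : K →ₗ[k] k) (γ : K ⊗[k] A →ₗ[K] K) (t : A ⊗[k] A) :
    TensorProduct.lid k A (r.rTensor A
      (TensorProduct.map (gFun k K A γ 1) (LinearMap.id : A →ₗ[k] A) t)) =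
      Theta k A (descFun k K A r γ) t := by
  induction t using TensorProduct.induction_on with
  | zero => simp
  | add x y hx hy => simp only [map_add, hx, hy]
  | tmul a₁ a₂ =>
    rw [TensorProduct.map_tmul, gFun_apply, mul_one, LinearMap.id_apply, LinearMap.rTensor_tmul,
      TensorProduct.lid_tmul, Theta_tmul, descFun_apply]

/-- a total integral descends along a retraction -/
theorem descFun_integral (r : K →ₗ[k] k) (γ : K ⊗[k] A →ₗ[K] K)
    (hint : ∀ x : K ⊗[k] A, Theta K (K ⊗[k] A) γ (CoalgebraStruct.comul (R := K) x) =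
      γ x • (1 : K ⊗[k] A)) (a : A) :
    Theta k A (descFun k K A r γ) (CoalgebraStruct.comul (R := k) a) =
      descFun k K A r γ a • (1 : A) := by
  have h := hint ((1 : K) ⊗ₜ[k] a)
  rw [comul_tmul_eq, Theta_tttc] at h
  rw [← lid_rTensor_map_gFun, h, Algebra.TensorProduct.one_def, TensorProduct.smul_tmul',
    smul_eq_mul, mul_one, LinearMap.rTensor_tmul, TensorProduct.lid_tmul, descFun_apply]

theorem descFun_one (r : K →ₗ[k] k) (hr : r 1 = 1) (γ : K ⊗[k] A →ₗ[K] K) (h1 : γ 1 = 1) :
    descFun k K A r γ 1 = 1 := by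
  rw [descFun_apply, ← Algebra.TensorProduct.one_def, h1, hr]

end BaseChange

section Transport

variable (K : Type u) [CommRing K] {B : Type v} [CommRing B] [HopfAlgebra K B]
  {B' : Type w} [CommRing B'] [HopfAlgebra K B']

/-- transport of a total integral along an injective unital map compatible with comultiplication -/
theorem integral_comp (f : B →ₗ[K] B') (hf : Function.Injective f) (hf1 : f 1 = 1)
    (hcomul : ∀ b : B, TensorProduct.map f f (CoalgebraStruct.comul (R := K) b) =
      CoalgebraStruct.comul (R := K) (f b))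
    (α' : B' →ₗ[K] K)
    (hint' : ∀ b' : B', Theta K B' α' (CoalgebraStruct.comul (R := K) b') = α' b' • (1 : B'))
    (b : B) :
    Theta K B (α' ∘ₗ f) (CoalgebraStruct.comul (R := K) b) = (α' ∘ₗ f) b • (1 : B) := by
  have key : ∀ t : B ⊗[K] B, f (Theta K B (α' ∘ₗ f) t) = Theta K B' α' (TensorProduct.map f f t) := by
    intro t
    induction t using TensorProduct.induction_on with
    | zero => simp
    | add x y hx hy => simp only [map_add, hx, hy]
    | tmul y z => rw [Theta_tmul, TensorProduct.map_tmul, Theta_tmul, map_smul, LinearMap.comp_apply]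
  apply hf
  rw [key, hcomul, hint', map_smul, hf1, LinearMap.comp_apply]

end Transport

end Groth.Agent.Lib.LinRed_helper9
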