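import Groth.Agent.Lib.CoeffSpace_helper9
import Groth.Agent.Lib.Antipode_helper9
import Groth.Agent.Lib.LinRed_helper9
import Groth.Prelude.Def_SGA3

/-!
# Finitely generated sub-Hopf-algebras (helper9)

Every element of a commutative Hopf algebra over a field lies in a finitely generated
sub-Hopf-algebra.

APPEND-ONLY once landed.
-/

set_option autoImplicit false
universe u v w

open TensorProduct

namespace Groth.Agent.Lib.HopfSub_helper9

open Groth.Agent.Lib.ComodDual_helper9 Groth.Agent.Lib.Comod_helper9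
  Groth.Agent.Lib.Subcoalg_helper9 Groth.Agent.Lib.CoeffSpace_helper9
  Groth.Agent.Lib.Antipode_helper9

section

variable {k : Type u} [Field k] {A : Type v} [CommRing A] [HopfAlgebra k A]

theorem map_mem_range_val (B : Subalgebra k A) {V : Type*} {W : Type*} [AddCommGroup V] [Module k V]
    [AddCommGroup W] [Module k W] (f : V →ₗ[k] A) (g : W →ₗ[k] A) (hf : ∀ v, f v ∈ B)
    (hg : ∀ w, g w ∈ B) (y : V ⊗[k] W) :
    TensorProduct.map f g y ∈
      LinearMap.range (TensorProduct.map B.val.toLinearMap B.val.toLinearMap) := by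
  induction y using TensorProduct.induction_on with
  | zero => rw [map_zero]; exact Submodule.zero_mem _
  | tmul v w => exact ⟨(⟨f v, hf v⟩ : B) ⊗ₜ[k] (⟨g w, hg w⟩ : B), rfl⟩
  | add a b ha hb => rw [map_add]; exact Submodule.add_mem _ ha hb

theorem mem_algRange_iff (B : Subalgebra k A) (z : A ⊗[k] A) :
    z ∈ (Algebra.TensorProduct.map B.val B.val).range ↔
      z ∈ LinearMap.range (TensorProduct.map B.val.toLinearMap B.val.toLinearMap) :=
  ⟨fun ⟨y, hy⟩ => ⟨y, hy⟩, fun ⟨y, hy⟩ => ⟨y, hy⟩⟩

theorem evl_counit_comul (x : A) :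
    evl A (CoalgebraStruct.counit (R := k) (A := A)) (CoalgebraStruct.comul (R := k) x) = x := by
  simp only [evl, LinearMap.comp_apply, LinearEquiv.coe_coe, Coalgebra.rTensor_counit_comul,
    TensorProduct.lid_tmul, one_smul]

end

section

variable {k : Type u} [Field k] {A : Type u} [CommRing A] [HopfAlgebra k A]

theorem exists_fg_hopfSubalgebra (x : A) :
    ∃ B : Subalgebra k A, x ∈ B ∧ B.FG ∧ SGA3.IsHopfSubalgebra k A B := by
  classical
  obtain ⟨E, hEfin, hxE, hE⟩ := exists_finite_subcomod_mem (k := k) (C := A)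
    (c := HopfRep.Comod.regular k A) x
  let cE : HopfRep.Comod k A E := ComodSub.Comod.restr (HopfRep.Comod.regular k A) E hE
  let D : Submodule k A := coeffSpaceSub E hE
  have hDsub : IsSubcoalg D := @isSubcoalg_coeffSpace k _ A _ _ _ E _ _ cE
  have hDfin : Module.Finite k D := @finite_coeffSpace k _ A _ _ _ E _ _ cE hEfin
  have hxD : x ∈ D := by
    have h := evl_comul_mem_coeffSpaceSub E hE (CoalgebraStruct.counit (R := k) (A := A)) x hxE
    rwa [evl_counit_comul] at h
  let S : A →ₗ[k] A := HopfAlgebraStruct.antipode k (A := A)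
  have hSS : ∀ a, S (S a) = a := Groth.Agent.Lib.LinRed_helper9.antipode_antipode k A
  let D' : Submodule k A := D ⊔ D.map S
  haveI : Module.Finite k (D.map S) := Module.Finite.map D S
  haveI : Module.Finite k D' := Submodule.finite_sup D (D.map S)
  let B : Subalgebra k A := Algebra.adjoin k (D' : Set A)
  have hD'B : ∀ d ∈ D', d ∈ B := fun d hd => Algebra.subset_adjoin hd
  have hDB : ∀ d ∈ D, d ∈ B := fun d hd => hD'B d (Submodule.mem_sup_left hd)
  have hSDB : ∀ d ∈ D, S d ∈ B := fun d hd =>
    hD'B _ (Submodule.mem_sup_right (Submodule.mem_map_of_mem hd))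
  refine ⟨B, hDB x hxD, ?_, ?_, ?_⟩
  · -- finitely generated
    obtain ⟨s, hs⟩ := (Module.Finite.iff_fg (N := D')).mp inferInstance
    refine ⟨s, ?_⟩
    show Algebra.adjoin k (s : Set A) = Algebra.adjoin k (D' : Set A)
    rw [← hs, Algebra.adjoin_span]
  · -- closed under comultiplication
    let T : Subalgebra k (A ⊗[k] A) := (Algebra.TensorProduct.map B.val B.val).range
    let B₁ : Subalgebra k A := T.comap (Bialgebra.comulAlgHom k A)
    have hle : B ≤ B₁ := by
      apply Algebra.adjoin_le
      intro d hd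
      obtain ⟨d1, hd1, d2', hd2', rfl⟩ := Submodule.mem_sup.mp hd
      obtain ⟨d2, hd2, rfl⟩ := hd2'
      show Bialgebra.comulAlgHom k A (d1 + S d2) ∈ T
      rw [map_add]
      refine T.add_mem ?_ ?_
      · rw [mem_algRange_iff]
        obtain ⟨y, hy⟩ := hDsub d1 hd1
        show CoalgebraStruct.comul (R := k) d1 ∈ _
        rw [← hy]
        exact map_mem_range_val B _ _ (fun v => hDB _ v.2) (fun v => hDB _ v.2) y
      · rw [mem_algRange_iff]
        obtain ⟨y, hy⟩ := hDsub d2 hd2
        show CoalgebraStruct.comul (R := k) (HopfAlgebraStruct.antipode k d2) ∈ _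
        rw [comul_antipode, ← hy, ← TensorProduct.map_comm, ← LinearMap.comp_apply,
          ← TensorProduct.map_comp]
        refine map_mem_range_val B _ _ ?_ ?_ _
        · intro v
          exact hSDB _ v.2
        · intro v
          exact hSDB _ v.2
    intro b hb
    have := hle hb
    exact (mem_algRange_iff B _).mp this
  · -- closed under the antipode
    let B₂ : Subalgebra k A := B.comap (HopfAlgebra.antipodeAlgHom k A)
    have hle : B ≤ B₂ := by
      apply Algebra.adjoin_le
      intro d hd
      obtain ⟨d1, hd1, d2', hd2', rfl⟩ := Submodule.mem_sup.mp hd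
      obtain ⟨d2, hd2, rfl⟩ := hd2'
      show S (d1 + S d2) ∈ B
      rw [map_add, hSS]
      exact B.add_mem (hSDB d1 hd1) (hDB d2 hd2)
    intro b hb
    exact hle hb

end

end Groth.Agent.Lib.HopfSub_helper9
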