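import Groth.Agent.Lib.HopfFFMain_helper1
import Groth.Agent.Lib.HopfSub_helper9

/-!
# Faithful flatness of arbitrary commutative Hopf algebras over Hopf subalgebras
-/

set_option autoImplicit false
set_option maxHeartbeats 1000000

namespace Groth.Agent.Lib.HopfFFH1

open TensorProduct WithConv

universe u v w

section Range

variable {k : Type*} [Field k] {A B : Type*} [CommRing A] [CommRing B]
  [HopfAlgebra k A] [HopfAlgebra k B]

instance isHopfSub_range (f : A →ₐc[k] B) : IsHopfSub (f : A →ₐ[k] B).range where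
  comul_mem := by
    intro b hb
    obtain ⟨a, rfl⟩ := (AlgHom.mem_range _).mp hb
    refine ⟨Algebra.TensorProduct.map (f : A →ₐ[k] B).rangeRestrict
      (f : A →ₐ[k] B).rangeRestrict (Coalgebra.comul (R := k) a), ?_⟩
    have h1 : (Algebra.TensorProduct.map ((f : A →ₐ[k] B).range.val)
        ((f : A →ₐ[k] B).range.val)).comp
        (Algebra.TensorProduct.map (f : A →ₐ[k] B).rangeRestrict
          (f : A →ₐ[k] B).rangeRestrict) =
        Algebra.TensorProduct.map (f : A →ₐ[k] B) (f : A →ₐ[k] B) := by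
      rw [← Algebra.TensorProduct.map_comp]
      rfl
    have h2 := AlgHom.congr_fun h1 (Coalgebra.comul (R := k) a)
    rw [AlgHom.comp_apply] at h2
    exact h2.trans (AlgHom.congr_fun (BialgHom.map_comp_comulAlgHom f) a)
  antipode_mem := by
    intro b hb
    obtain ⟨a, rfl⟩ := (AlgHom.mem_range _).mp hb
    exact (AlgHom.mem_range _).mpr ⟨HopfAlgebra.antipode k a, (antipode_bialgHom_apply f a).symm⟩

theorem range_mono {S S' : Subalgebra k A} (hle : S ≤ S') :
    (Algebra.TensorProduct.map S.val S.val : ↥S ⊗[k] ↥S →ₐ[k] A ⊗[k] A).range ≤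
      (Algebra.TensorProduct.map S'.val S'.val : ↥S' ⊗[k] ↥S' →ₐ[k] A ⊗[k] A).range := by
  rintro _ ⟨y, rfl⟩
  refine ⟨Algebra.TensorProduct.map (Subalgebra.inclusion hle) (Subalgebra.inclusion hle) y, ?_⟩
  have h1 : (Algebra.TensorProduct.map S'.val S'.val).comp
      (Algebra.TensorProduct.map (Subalgebra.inclusion hle) (Subalgebra.inclusion hle)) =
      Algebra.TensorProduct.map S.val S.val := by
    rw [← Algebra.TensorProduct.map_comp]
    rfl
  exact AlgHom.congr_fun h1 y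

theorem IsHopfSub.sup {S₁ S₂ : Subalgebra k A} (h₁ : IsHopfSub S₁) (h₂ : IsHopfSub S₂) :
    IsHopfSub (S₁ ⊔ S₂) where
  comul_mem := by
    have h : S₁ ⊔ S₂ ≤ Subalgebra.comap (Bialgebra.comulAlgHom k A)
        (Algebra.TensorProduct.map (S₁ ⊔ S₂).val (S₁ ⊔ S₂).val :
          ↥(S₁ ⊔ S₂) ⊗[k] ↥(S₁ ⊔ S₂) →ₐ[k] A ⊗[k] A).range :=
      sup_le (fun b hb => range_mono le_sup_left (h₁.comul_mem b hb))
        (fun b hb => range_mono le_sup_right (h₂.comul_mem b hb))
    exact fun b hb => h hb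
  antipode_mem := by
    have h : S₁ ⊔ S₂ ≤ Subalgebra.comap (HopfAlgebra.antipodeAlgHom k A) (S₁ ⊔ S₂) :=
      sup_le (fun b hb => (le_sup_left : S₁ ≤ S₁ ⊔ S₂) (h₁.antipode_mem b hb))
        (fun b hb => (le_sup_right : S₂ ≤ S₁ ⊔ S₂) (h₂.antipode_mem b hb))
    exact fun b hb => h hb

end Range

section Fin

theorem isHopfSub_of_sga3 {k : Type u} [Field k] {X : Type u} [CommRing X] [HopfAlgebra k X]
    {S : Subalgebra k X} (h : SGA3.IsHopfSubalgebra k X S) : IsHopfSub S where
  comul_mem := fun b hb => (Groth.Agent.Lib.HopfSub_helper9.mem_algRange_iff S _).mpr (h.1 b hb)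
  antipode_mem := h.2

theorem exists_fg_hopfSub_finset {k : Type u} [Field k] {X : Type u} [CommRing X]
    [HopfAlgebra k X] (s : Finset X) :
    ∃ S₀ : Subalgebra k X, IsHopfSub S₀ ∧ S₀.FG ∧ ∀ x ∈ s, x ∈ S₀ := by
  classical
  induction s using Finset.induction_on with
  | empty =>
    obtain ⟨S, -, hfg, hS⟩ :=
      Groth.Agent.Lib.HopfSub_helper9.exists_fg_hopfSubalgebra (k := k) (0 : X)
    exact ⟨S, isHopfSub_of_sga3 hS, hfg, by simp⟩
  | insert x s hx ih =>
    obtain ⟨S₁, h1, hfg1, hs⟩ := ih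
    obtain ⟨S₂, hx2, hfg2, h2⟩ :=
      Groth.Agent.Lib.HopfSub_helper9.exists_fg_hopfSubalgebra (k := k) x
    refine ⟨S₁ ⊔ S₂, h1.sup (isHopfSub_of_sga3 h2), hfg1.sup hfg2, ?_⟩
    intro y hy
    rcases Finset.mem_insert.mp hy with rfl | hy
    · exact (le_sup_right : S₂ ≤ S₁ ⊔ S₂) hx2
    · exact (le_sup_left : S₁ ≤ S₁ ⊔ S₂) (hs y hy)

theorem flat_of_forall_fin {R : Type v} {M : Type w} [CommRing R] [CommRing M] (φ : R →+* M)
    (h : ∀ (l : ℕ) (f : Fin l → R), ∃ (R₀ : Type u) (_ : CommRing R₀) (j : R₀ →+* R),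
      (φ.comp j).Flat ∧ ∀ i, f i ∈ Set.range j) : φ.Flat := by
  letI := φ.toAlgebra
  show Module.Flat R M
  apply Module.Flat.of_forall_isTrivialRelation
  intro l f x hfx
  obtain ⟨R₀, _, j, hflat, hf⟩ := h l f
  choose f₀ hf₀ using hf
  letI : Algebra R₀ M := (φ.comp j).toAlgebra
  haveI : Module.Flat R₀ M := hflat
  have h0 : ∑ i, f₀ i • x i = 0 := by
    rw [← hfx]
    refine Finset.sum_congr rfl fun i _ => ?_
    rw [Algebra.smul_def, Algebra.smul_def]
    show φ (j (f₀ i)) * x i = φ (f i) * x i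
    rw [hf₀]
  obtain ⟨κ, a₀, y, hxy, ha⟩ := Module.Flat.isTrivialRelation_of_sum_smul_eq_zero (R := R₀) (M := M) (f := f₀) (x := x) h0
  refine ⟨κ, fun i t => j (a₀ i t), y, fun i => ?_, fun t => ?_⟩
  · rw [hxy i]
    refine Finset.sum_congr rfl fun t _ => ?_
    rw [Algebra.smul_def, Algebra.smul_def]
    rfl
  · have := congrArg j (ha t)
    rw [map_sum, map_zero] at this
    rw [← this]
    refine Finset.sum_congr rfl fun i _ => ?_
    rw [map_mul, hf₀]

end Fin

section Gen

variable {k : Type u} [Field k] {A : Type u} {B : Type v} [CommRing A] [CommRing B]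
  [HopfAlgebra k A] [HopfAlgebra k B]

/-- **Takeuchi's theorem**: an injective bialgebra map of commutative Hopf algebras over a field
is flat (no finiteness assumption). -/
theorem flat_of_injective (f : A →ₐc[k] B) (hf : Function.Injective f) :
    (f : A →ₐ[k] B).toRingHom.Flat := by
  apply flat_of_forall_fin.{u}
  intro l x
  classical
  obtain ⟨S₀, hS₀, hfg, hmem⟩ := exists_fg_hopfSub_finset (k := k) (Finset.univ.image x)
  haveI := hS₀
  haveI : Algebra.FiniteType k ↥S₀ := (Subalgebra.fg_iff_finiteType S₀).mp hfg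
  refine ⟨↥S₀, inferInstance, (S₀.val : ↥S₀ →+* A), ?_, fun i =>
    ⟨⟨x i, hmem _ (Finset.mem_image_of_mem _ (Finset.mem_univ i))⟩, rfl⟩⟩
  have := flat_of_finiteType (f.comp (subVal S₀)) (hf.comp Subtype.val_injective)
  exact this

theorem faithfullyFlat_of_injective (f : A →ₐc[k] B) (hf : Function.Injective f) :
    (f : A →ₐ[k] B).toRingHom.FaithfullyFlat :=
  faithfullyFlat_of_flat f hf (flat_of_injective f hf)

end Gen

end Groth.Agent.Lib.HopfFFH1
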