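import Groth.Agent.Lib.Comod_helper9
import Mathlib.RingTheory.Coalgebra.Convolution
import Mathlib.LinearAlgebra.TensorProduct.Basis
import Mathlib.LinearAlgebra.FreeModule.Basic
import Mathlib.RingTheory.SimpleModule.Basic
import Mathlib.RingTheory.SimpleModule.Isotypic

/-!
# Right comodules over a coalgebra `C` as left modules over the convolution algebra `C^* = WithConv (C →ₗ[k] k)`

`φ • v = Σ φ(v₁) v₀`.  Over a field (more generally when `C` is free) subcomodules are exactly the
`C^*`-stable subspaces and comodule maps are exactly the `C^*`-linear maps.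
-/

set_option autoImplicit false
universe u v w w'
open TensorProduct

namespace Groth.Agent.Lib.ComodDual_helper9

open Groth.Agent.Lib.Comod_helper9

section Ev

variable {k : Type u} [CommRing k] {C : Type v} [AddCommGroup C] [Module k C]

/-- `v ⊗ c ↦ φ c • v`. -/
noncomputable def ev (V : Type w) [AddCommGroup V] [Module k V] (φ : C →ₗ[k] k) : V ⊗[k] C →ₗ[k] V :=
  (TensorProduct.rid k V).toLinearMap ∘ₗ φ.lTensor V

@[simp] theorem ev_tmul {V : Type w} [AddCommGroup V] [Module k V] (φ : C →ₗ[k] k) (v : V) (c : C) :
    ev V φ (v ⊗ₜ[k] c) = φ c • v := by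
  simp [ev]

theorem ev_rTensor {V : Type w} [AddCommGroup V] [Module k V] {W : Type w'} [AddCommGroup W] [Module k W]
    (φ : C →ₗ[k] k) (f : V →ₗ[k] W) (x : V ⊗[k] C) :
    ev W φ (f.rTensor C x) = f (ev V φ x) := by
  induction x using TensorProduct.induction_on with
  | zero => simp
  | add x y hx hy => simp only [map_add, hx, hy]
  | tmul v c => simp

theorem ev_add (V : Type w) [AddCommGroup V] [Module k V] (φ ψ : C →ₗ[k] k) :
    ev V (φ + ψ) = ev V φ + ev V ψ := by
  apply TensorProduct.ext'
  intro v c
  simp [add_smul]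

theorem ev_zero (V : Type w) [AddCommGroup V] [Module k V] :
    ev V (0 : C →ₗ[k] k) = 0 := by
  apply TensorProduct.ext'
  intro v c
  simp

theorem ev_smul (V : Type w) [AddCommGroup V] [Module k V] (a : k) (φ : C →ₗ[k] k) :
    ev V (a • φ) = a • ev V φ := by
  apply TensorProduct.ext'
  intro v c
  simp [mul_smul]

/-- functionals separate the points of `M ⊗ C` when `C` is free. -/
theorem eq_zero_of_forall_ev [Module.Free k C] {M : Type w} [AddCommGroup M] [Module k M]
    (x : M ⊗[k] C) (h : ∀ φ : C →ₗ[k] k, ev M φ x = 0) : x = 0 := by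
  classical
  let b := Module.Free.chooseBasis k C
  have key : ∀ (y : M ⊗[k] C) i, (TensorProduct.equivFinsuppOfBasisRight b y) i = ev M (b.coord i) y := by
    intro y i
    induction y using TensorProduct.induction_on with
    | zero => simp
    | add x y hx hy => simp only [map_add, Finsupp.add_apply, hx, hy]
    | tmul m c =>
      rw [TensorProduct.equivFinsuppOfBasisRight_apply_tmul_apply, ev_tmul, Module.Basis.coord_apply]
  apply (TensorProduct.equivFinsuppOfBasisRight (M := M) b).injective
  rw [map_zero]
  ext i
  rw [key, h, Finsupp.zero_apply]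

end Ev

section Act

variable {k : Type u} [CommRing k] {C : Type v} [AddCommGroup C] [Module k C] [Coalgebra k C]
variable {V : Type w} [AddCommGroup V] [Module k V]

/-- The action of a functional on `C` on a right `C`-comodule. -/
noncomputable def act [c : HopfRep.Comod k C V] (φ : C →ₗ[k] k) : V →ₗ[k] V := ev V φ ∘ₗ c.coact

theorem act_apply [c : HopfRep.Comod k C V] (φ : C →ₗ[k] k) (v : V) :
    act φ v = ev V φ (c.coact v) := rfl

theorem ev_ev_assoc_symm (φ ψ : C →ₗ[k] k) (v : V) (t : C ⊗[k] C) :
    ev V φ (ev (V ⊗[k] C) ψ ((TensorProduct.assoc k V C C).symm (v ⊗ₜ[k] t))) =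
      LinearMap.mul' k k (TensorProduct.map φ ψ t) • v := by
  induction t using TensorProduct.induction_on with
  | zero => simp
  | add x y hx hy => simp only [TensorProduct.tmul_add, map_add, hx, hy, add_smul]
  | tmul a b =>
    simp only [TensorProduct.assoc_symm_tmul, ev_tmul, map_smul, TensorProduct.map_tmul,
      LinearMap.mul'_apply, mul_smul]
    rw [smul_comm]

theorem ev_convMul (φ ψ : WithConv (C →ₗ[k] k)) (x : V ⊗[k] C) :
    ev V (φ * ψ).ofConv x =
      ev V φ.ofConv (ev (V ⊗[k] C) ψ.ofConv ((TensorProduct.assoc k V C C).symm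
        ((CoalgebraStruct.comul (R := k) (A := C)).lTensor V x))) := by
  induction x using TensorProduct.induction_on with
  | zero => simp
  | add x y hx hy => simp only [map_add, hx, hy]
  | tmul v c =>
    rw [LinearMap.lTensor_tmul, ev_ev_assoc_symm, ev_tmul]
    rfl

theorem act_mul [c : HopfRep.Comod k C V] (φ ψ : WithConv (C →ₗ[k] k)) (v : V) :
    act (φ * ψ).ofConv v = act φ.ofConv (act ψ.ofConv v) := by
  have hc := LinearMap.congr_fun c.coassoc v
  simp only [LinearMap.coe_comp, Function.comp_apply, LinearEquiv.coe_coe] at hc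
  rw [act_apply, ev_convMul, ← hc, LinearEquiv.symm_apply_apply, ev_rTensor]
  rfl

theorem act_one [c : HopfRep.Comod k C V] (v : V) :
    act (1 : WithConv (C →ₗ[k] k)).ofConv v = v := by
  have hc := LinearMap.congr_fun c.counit_comp v
  simp only [LinearMap.coe_comp, Function.comp_apply, LinearMap.flip_apply, TensorProduct.mk_apply] at hc
  have h1 : ∀ x : V ⊗[k] C, ev V (1 : WithConv (C →ₗ[k] k)).ofConv x =
      TensorProduct.rid k V ((CoalgebraStruct.counit (R := k) (A := C)).lTensor V x) := by
    intro x
    induction x using TensorProduct.induction_on with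
    | zero => simp
    | add x y hx hy => simp only [map_add, hx, hy]
    | tmul v c => simp [LinearMap.convOne_def]
  rw [act_apply, h1, hc, TensorProduct.rid_tmul, one_smul]

/-- A right `C`-comodule as a left module over the convolution algebra `C^*`. -/
@[reducible] noncomputable def dualModule (c : HopfRep.Comod k C V) : Module (WithConv (C →ₗ[k] k)) V where
  smul φ v := act φ.ofConv v
  one_smul := act_one
  mul_smul := act_mul
  smul_zero φ := map_zero _
  smul_add φ := map_add _
  add_smul φ ψ v := by
    show act (φ + ψ).ofConv v = act φ.ofConv v + act ψ.ofConv v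
    simp only [act_apply, WithConv.ofConv_add, ev_add, LinearMap.add_apply]
  zero_smul v := by
    show act (0 : WithConv (C →ₗ[k] k)).ofConv v = 0
    simp only [act_apply, WithConv.ofConv_zero, ev_zero, LinearMap.zero_apply]

end Act

end Groth.Agent.Lib.ComodDual_helper9

namespace Groth.Agent.Lib.ComodDual_helper9

open Groth.Agent.Lib.Comod_helper9

noncomputable section Bridge

variable {k : Type u} [CommRing k] {C : Type v} [AddCommGroup C] [Module k C] [Coalgebra k C]
variable {V : Type w} [AddCommGroup V] [Module k V]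

/-- the convolution dual algebra -/
abbrev Dual (k : Type u) [CommRing k] (C : Type v) [AddCommGroup C] [Module k C] [Coalgebra k C] :=
  WithConv (C →ₗ[k] k)

theorem dual_smul_def (c : HopfRep.Comod k C V) (φ : Dual k C) (v : V) :
    (letI := dualModule c; φ • v) = act φ.ofConv v := rfl

theorem isScalarTower_dual (c : HopfRep.Comod k C V) :
    letI := dualModule c
    IsScalarTower k (Dual k C) V := by
  letI := dualModule c
  refine ⟨fun a φ v => ?_⟩
  show act (a • φ).ofConv v = a • act φ.ofConv v
  simp only [act_apply, WithConv.ofConv_smul, ev_smul, LinearMap.smul_apply]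

/-- A subcomodule is stable under the action of functionals. -/
theorem act_mem_of_isSubcomod [c : HopfRep.Comod k C V] (W : Submodule k V)
    (hW : HopfRep.IsSubcomod (k := k) (A := C) W) (φ : C →ₗ[k] k) {w : V} (hw : w ∈ W) :
    act φ w ∈ W := by
  obtain ⟨y, hy⟩ := hW w hw
  rw [act_apply, ← hy, ev_rTensor]
  exact (ev W φ y).2

/-- Over a free coalgebra a subspace stable under all functionals is a subcomodule. -/
theorem isSubcomod_of_act_mem [Module.Free k C] [c : HopfRep.Comod k C V] (W : Submodule k V)
    (h : ∀ (φ : C →ₗ[k] k), ∀ w ∈ W, act φ w ∈ W) :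
    HopfRep.IsSubcomod (k := k) (A := C) W := by
  intro w hw
  rw [mem_range_subtype_rTensor_iff]
  apply eq_zero_of_forall_ev
  intro φ
  rw [ev_rTensor, Submodule.mkQ_apply, Submodule.Quotient.mk_eq_zero]
  exact h φ w hw

theorem isSubcomod_iff_act_mem [Module.Free k C] [c : HopfRep.Comod k C V] (W : Submodule k V) :
    HopfRep.IsSubcomod (k := k) (A := C) W ↔ ∀ (φ : C →ₗ[k] k), ∀ w ∈ W, act φ w ∈ W :=
  ⟨fun hW φ _ hw => act_mem_of_isSubcomod W hW φ hw, isSubcomod_of_act_mem W⟩

variable {W : Type w'} [AddCommGroup W] [Module k W]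

theorem act_comm_of_isComodHom [HopfRep.Comod k C V] [HopfRep.Comod k C W] (f : V →ₗ[k] W)
    (hf : Hoch.IsComodHom C f) (φ : C →ₗ[k] k) (v : V) : f (act φ v) = act φ (f v) := by
  rw [act_apply, act_apply, isComodHom_apply hf, ev_rTensor]

theorem isComodHom_of_act_comm [Module.Free k C] [HopfRep.Comod k C V] [HopfRep.Comod k C W]
    (f : V →ₗ[k] W) (h : ∀ (φ : C →ₗ[k] k) (v : V), f (act φ v) = act φ (f v)) :
    Hoch.IsComodHom C f := by
  apply LinearMap.ext
  intro v
  rw [← sub_eq_zero]
  apply eq_zero_of_forall_ev
  intro φ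
  simp only [LinearMap.comp_apply, map_sub, ev_rTensor]
  rw [sub_eq_zero]
  exact (h φ v).symm

theorem isComodHom_iff_act_comm [Module.Free k C] [HopfRep.Comod k C V] [HopfRep.Comod k C W]
    (f : V →ₗ[k] W) :
    Hoch.IsComodHom C f ↔ ∀ (φ : C →ₗ[k] k) (v : V), f (act φ v) = act φ (f v) :=
  ⟨act_comm_of_isComodHom f, isComodHom_of_act_comm f⟩

/-- A subcomodule as a `C^*`-submodule. -/
def toDualSubmodule (c : HopfRep.Comod k C V) (U : Submodule k V)
    (hU : HopfRep.IsSubcomod (k := k) (A := C) U) :
    letI := dualModule c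
    Submodule (Dual k C) V :=
  letI := dualModule c
  { carrier := U
    add_mem' := U.add_mem
    zero_mem' := U.zero_mem
    smul_mem' := fun φ _ hw => act_mem_of_isSubcomod U hU φ.ofConv hw }

theorem mem_toDualSubmodule (c : HopfRep.Comod k C V) (U : Submodule k V)
    (hU : HopfRep.IsSubcomod (k := k) (A := C) U) (v : V) :
    v ∈ toDualSubmodule c U hU ↔ v ∈ U := Iff.rfl

/-- The underlying `k`-subspace of a `C^*`-submodule. -/
def ofDualSubmodule (c : HopfRep.Comod k C V)
    (N : letI := dualModule c; Submodule (Dual k C) V) : Submodule k V :=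
  letI := dualModule c
  haveI := isScalarTower_dual c
  N.restrictScalars k

theorem mem_ofDualSubmodule (c : HopfRep.Comod k C V)
    (N : letI := dualModule c; Submodule (Dual k C) V) (v : V) :
    v ∈ ofDualSubmodule c N ↔ v ∈ N := Iff.rfl

theorem isSubcomod_ofDualSubmodule [Module.Free k C] (c : HopfRep.Comod k C V)
    (N : letI := dualModule c; Submodule (Dual k C) V) :
    HopfRep.IsSubcomod (k := k) (A := C) (ofDualSubmodule c N) := by
  letI := dualModule c
  apply isSubcomod_of_act_mem
  intro φ w hw
  exact N.smul_mem (WithConv.toConv φ) hw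

theorem ofDualSubmodule_toDualSubmodule (c : HopfRep.Comod k C V) (U : Submodule k V)
    (hU : HopfRep.IsSubcomod (k := k) (A := C) U) :
    ofDualSubmodule c (toDualSubmodule c U hU) = U := by
  ext v; rfl

theorem toDualSubmodule_ofDualSubmodule [Module.Free k C] (c : HopfRep.Comod k C V)
    (N : letI := dualModule c; Submodule (Dual k C) V) :
    toDualSubmodule c (ofDualSubmodule c N) (isSubcomod_ofDualSubmodule c N) = N := by
  letI := dualModule c
  ext v; rfl

/-- A comodule map as a `C^*`-linear map. -/
def toDualLinear (c : HopfRep.Comod k C V) (d : HopfRep.Comod k C W) (f : V →ₗ[k] W)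
    (hf : Hoch.IsComodHom C f) :
    letI := dualModule c
    letI := dualModule d
    V →ₗ[Dual k C] W :=
  letI := dualModule c
  letI := dualModule d
  { toFun := f
    map_add' := f.map_add
    map_smul' := fun φ v => act_comm_of_isComodHom f hf φ.ofConv v }

theorem toDualLinear_apply (c : HopfRep.Comod k C V) (d : HopfRep.Comod k C W) (f : V →ₗ[k] W)
    (hf : Hoch.IsComodHom C f) (v : V) : toDualLinear c d f hf v = f v := rfl

/-- The underlying `k`-linear map of a `C^*`-linear map. -/
def ofDualLinear (c : HopfRep.Comod k C V) (d : HopfRep.Comod k C W)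
    (g : letI := dualModule c; letI := dualModule d; V →ₗ[Dual k C] W) : V →ₗ[k] W :=
  letI := dualModule c
  letI := dualModule d
  haveI := isScalarTower_dual c
  haveI := isScalarTower_dual d
  g.restrictScalars k

theorem ofDualLinear_apply (c : HopfRep.Comod k C V) (d : HopfRep.Comod k C W)
    (g : letI := dualModule c; letI := dualModule d; V →ₗ[Dual k C] W) (v : V) :
    ofDualLinear c d g v = g v := rfl

theorem isComodHom_ofDualLinear [Module.Free k C] (c : HopfRep.Comod k C V) (d : HopfRep.Comod k C W)
    (g : letI := dualModule c; letI := dualModule d; V →ₗ[Dual k C] W) :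
    Hoch.IsComodHom C (ofDualLinear c d g) := by
  letI := dualModule c
  letI := dualModule d
  apply isComodHom_of_act_comm
  intro φ v
  exact g.map_smul (WithConv.toConv φ) v

end Bridge

end Groth.Agent.Lib.ComodDual_helper9

namespace Groth.Agent.Lib.ComodDual_helper9

open Groth.Agent.Lib.Comod_helper9

noncomputable section Simple

variable {k : Type u} [CommRing k] {C : Type v} [AddCommGroup C] [Module k C] [Coalgebra k C]
variable [Module.Free k C]
variable {V : Type w} [AddCommGroup V] [Module k V]

theorem toDualSubmodule_le_iff (c : HopfRep.Comod k C V) (U : Submodule k V)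
    (hU : HopfRep.IsSubcomod (k := k) (A := C) U)
    (N : letI := dualModule c; Submodule (Dual k C) V) :
    toDualSubmodule c U hU ≤ N ↔ U ≤ ofDualSubmodule c N := Iff.rfl

theorem toDualSubmodule_eq_bot_iff (c : HopfRep.Comod k C V) (U : Submodule k V)
    (hU : HopfRep.IsSubcomod (k := k) (A := C) U) :
    toDualSubmodule c U hU = ⊥ ↔ U = ⊥ := by
  letI := dualModule c
  rw [Submodule.eq_bot_iff, Submodule.eq_bot_iff]
  rfl

theorem toDualSubmodule_eq_top_iff (c : HopfRep.Comod k C V) (U : Submodule k V)
    (hU : HopfRep.IsSubcomod (k := k) (A := C) U) :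
    toDualSubmodule c U hU = ⊤ ↔ U = ⊤ := by
  letI := dualModule c
  rw [Submodule.eq_top_iff', Submodule.eq_top_iff']
  rfl

theorem ofDualSubmodule_eq_bot_iff (c : HopfRep.Comod k C V)
    (N : letI := dualModule c; Submodule (Dual k C) V) :
    ofDualSubmodule c N = ⊥ ↔ N = ⊥ := by
  letI := dualModule c
  rw [Submodule.eq_bot_iff, Submodule.eq_bot_iff]
  rfl

theorem ofDualSubmodule_eq_top_iff (c : HopfRep.Comod k C V)
    (N : letI := dualModule c; Submodule (Dual k C) V) :
    ofDualSubmodule c N = ⊤ ↔ N = ⊤ := by
  letI := dualModule c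
  rw [Submodule.eq_top_iff', Submodule.eq_top_iff']
  rfl

theorem isSimpleModule_of_isSimpleComod (c : HopfRep.Comod k C V) (h : HopfRep.IsSimpleComod k C V) :
    letI := dualModule c
    IsSimpleModule (Dual k C) V := by
  letI := dualModule c
  haveI := h.1
  rw [isSimpleModule_iff]
  refine ⟨fun N => ?_⟩
  rcases h.2 _ (isSubcomod_ofDualSubmodule c N) with h' | h'
  · left; exact (ofDualSubmodule_eq_bot_iff c N).mp h'
  · right; exact (ofDualSubmodule_eq_top_iff c N).mp h'

theorem isSimpleComod_of_isSimpleModule (c : HopfRep.Comod k C V)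
    (h : letI := dualModule c; IsSimpleModule (Dual k C) V) : HopfRep.IsSimpleComod k C V := by
  letI := dualModule c
  refine ⟨IsSimpleModule.nontrivial (Dual k C) V, fun U hU => ?_⟩
  rcases eq_bot_or_eq_top (toDualSubmodule c U hU) with h' | h'
  · left; exact (toDualSubmodule_eq_bot_iff c U hU).mp h'
  · right; exact (toDualSubmodule_eq_top_iff c U hU).mp h'

theorem isCompl_ofDualSubmodule_iff (c : HopfRep.Comod k C V)
    (N N' : letI := dualModule c; Submodule (Dual k C) V) :
    IsCompl (ofDualSubmodule c N) (ofDualSubmodule c N') ↔ IsCompl N N' := by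
  letI := dualModule c
  haveI := isScalarTower_dual c
  rw [isCompl_iff, isCompl_iff]
  unfold ofDualSubmodule
  rw [Submodule.disjoint_restrictScalars_iff, Submodule.codisjoint_restrictScalars_iff]

theorem isSemisimpleModule_of_isSemisimpleComod (c : HopfRep.Comod k C V)
    (h : HopfRep.IsSemisimpleComod k C V) :
    letI := dualModule c
    IsSemisimpleModule (Dual k C) V := by
  letI := dualModule c
  rw [isSemisimpleModule_iff]
  refine ⟨fun N => ?_⟩
  obtain ⟨U', hU', hc⟩ := h _ (isSubcomod_ofDualSubmodule c N)
  refine ⟨toDualSubmodule c U' hU', ?_⟩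
  rw [← isCompl_ofDualSubmodule_iff, ofDualSubmodule_toDualSubmodule]
  exact hc

theorem isSemisimpleComod_of_isSemisimpleModule (c : HopfRep.Comod k C V)
    (h : letI := dualModule c; IsSemisimpleModule (Dual k C) V) :
    HopfRep.IsSemisimpleComod k C V := by
  letI := dualModule c
  intro U hU
  obtain ⟨N', hN'⟩ := exists_isCompl (toDualSubmodule c U hU)
  refine ⟨ofDualSubmodule c N', isSubcomod_ofDualSubmodule c N', ?_⟩
  rw [← isCompl_ofDualSubmodule_iff, ofDualSubmodule_toDualSubmodule] at hN'
  exact hN'

end Simple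

end Groth.Agent.Lib.ComodDual_helper9

namespace Groth.Agent.Lib.ComodDual_helper9

open Groth.Agent.Lib.Comod_helper9

noncomputable section Transfer

variable {k : Type u} [CommRing k] {C : Type v} [AddCommGroup C] [Module k C] [Coalgebra k C]
variable [Module.Free k C]
variable {V : Type w} [AddCommGroup V] [Module k V]
variable {W : Type w'} [AddCommGroup W] [Module k W]

/-- semisimplicity descends along an injective comodule map. -/
theorem isSemisimpleComod_of_injective (c : HopfRep.Comod k C V) (d : HopfRep.Comod k C W)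
    (f : V →ₗ[k] W) (hf : Hoch.IsComodHom C f) (hinj : Function.Injective f)
    (hW : HopfRep.IsSemisimpleComod k C W) : HopfRep.IsSemisimpleComod k C V := by
  letI := dualModule c
  letI := dualModule d
  haveI := isSemisimpleModule_of_isSemisimpleComod d hW
  apply isSemisimpleComod_of_isSemisimpleModule c
  exact IsSemisimpleModule.of_injective (toDualLinear c d f hf) hinj

/-- semisimplicity passes to the image of a surjective comodule map. -/
theorem isSemisimpleComod_of_surjective (c : HopfRep.Comod k C V) (d : HopfRep.Comod k C W)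
    (f : V →ₗ[k] W) (hf : Hoch.IsComodHom C f) (hsurj : Function.Surjective f)
    (hV : HopfRep.IsSemisimpleComod k C V) : HopfRep.IsSemisimpleComod k C W := by
  letI := dualModule c
  letI := dualModule d
  haveI := isSemisimpleModule_of_isSemisimpleComod c hV
  apply isSemisimpleComod_of_isSemisimpleModule d
  exact IsSemisimpleModule.of_surjective (toDualLinear c d f hf) hsurj

end Transfer

end Groth.Agent.Lib.ComodDual_helper9

namespace Groth.Agent.Lib.ComodDual_helper9

section ModuleIsotypic

variable {R : Type*} [Ring R] {M : Type*} [AddCommGroup M] [Module R M]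

/-- The sum of the images of all maps from a simple module `S` is the `S`-isotypic component. -/
theorem iSup_range_eq_isotypicComponent (S : Type*) [AddCommGroup S] [Module R S] [IsSimpleModule R S] :
    (⨆ F : S →ₗ[R] M, LinearMap.range F) = isotypicComponent R M S := by
  apply le_antisymm
  · apply iSup_le
    intro F
    by_cases hF : F = 0
    · rw [hF, LinearMap.range_zero]; exact bot_le
    · have hinj : Function.Injective F := by
        rcases eq_bot_or_eq_top (LinearMap.ker F) with h | h
        · exact LinearMap.ker_eq_bot.mp h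
        · exact absurd (LinearMap.ker_eq_top.mp h) hF
      exact le_sSup ⟨(LinearEquiv.ofInjective F hinj).symm⟩
  · apply sSup_le
    rintro m ⟨e⟩
    refine le_trans ?_ (le_iSup _ (m.subtype ∘ₗ e.symm.toLinearMap))
    intro x hx
    exact ⟨e ⟨x, hx⟩, by simp⟩

theorem iSupIndep_isotypicComponent {ι : Type*} (S : ι → Type*) [∀ j, AddCommGroup (S j)]
    [∀ j, Module R (S j)] [∀ j, IsSimpleModule R (S j)]
    (hne : ∀ j j', j ≠ j' → IsEmpty (S j ≃ₗ[R] S j')) :
    iSupIndep (fun j => isotypicComponent R M (S j)) := by
  classical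
  -- a nonzero isotypic component contains a submodule isomorphic to `S j`
  have hex : ∀ j, isotypicComponent R M (S j) ≠ ⊥ → ∃ m : Submodule R M, Nonempty (m ≃ₗ[R] S j) := by
    intro j hj
    by_contra hcon
    apply hj
    have : {m : Submodule R M | Nonempty (m ≃ₗ[R] S j)} = ∅ := by
      ext m
      simp only [Set.mem_setOf_eq, Set.mem_empty_iff_false, iff_false]
      intro hm
      exact hcon ⟨m, hm⟩
    rw [isotypicComponent, this, sSup_empty]
  have hmem : ∀ j, isotypicComponent R M (S j) ≠ ⊥ →
      isotypicComponent R M (S j) ∈ isotypicComponents R M := by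
    intro j hj
    obtain ⟨m, ⟨e⟩⟩ := hex j hj
    exact ⟨m, IsSimpleModule.congr e, (e.isotypicComponent_eq (M := M)).symm⟩
  intro j
  by_cases hj : isotypicComponent R M (S j) = ⊥
  · show Disjoint (isotypicComponent R M (S j)) _
    rw [hj]; exact disjoint_bot_left
  · refine ((sSupIndep_isotypicComponents R M) (hmem j hj)).mono_right ?_
    apply iSup₂_le
    intro j' hj'
    show isotypicComponent R M (S j') ≤ _
    by_cases hj2 : isotypicComponent R M (S j') = ⊥
    · rw [hj2]; exact bot_le
    · apply le_sSup
      refine ⟨hmem j' hj2, ?_⟩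
      intro heq
      have heq' : isotypicComponent R M (S j') = isotypicComponent R M (S j) := heq
      obtain ⟨m', ⟨e'⟩⟩ := hex j' hj2
      haveI : IsSimpleModule R m' := IsSimpleModule.congr e'
      have hle : m' ≤ isotypicComponent R M (S j) := by
        rw [← heq']
        exact le_sSup ⟨e'⟩
      obtain ⟨e⟩ := isIsotypicOfType_submodule_iff.mp (IsIsotypicOfType.isotypicComponent R M (S j)) m' hle
      exact (hne j' j hj').false (e'.symm.trans e)

end ModuleIsotypic

end Groth.Agent.Lib.ComodDual_helper9

namespace Groth.Agent.Lib.ComodDual_helper9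

noncomputable section IsotypicComod

variable {k : Type u} [CommRing k] {C : Type v} [AddCommGroup C] [Module k C] [Coalgebra k C]
variable [Module.Free k C]
variable {V : Type w} [AddCommGroup V] [Module k V]
variable {S : Type w'} [AddCommGroup S] [Module k S]

/-- The sum of the images of all comodule maps `S → V` is the underlying subspace of the sum of the
images of all `C^*`-linear maps. -/
theorem iSup_range_comodHom_eq [c : HopfRep.Comod k C V] [d : HopfRep.Comod k C S] :
    (⨆ f : {f : S →ₗ[k] V // Hoch.IsComodHom C f}, LinearMap.range f.1) =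
      ofDualSubmodule c (letI := dualModule c; letI := dualModule d;
        ⨆ F : S →ₗ[Dual k C] V, LinearMap.range F) := by
  letI := dualModule c
  letI := dualModule d
  haveI := isScalarTower_dual c
  haveI := isScalarTower_dual d
  unfold ofDualSubmodule
  rw [Submodule.restrictScalars_iSup]
  apply le_antisymm
  · apply iSup_le
    rintro ⟨f, hf⟩
    refine le_trans ?_ (le_iSup _ (toDualLinear d c f hf))
    rintro _ ⟨x, rfl⟩
    exact ⟨x, rfl⟩
  · apply iSup_le
    intro F
    refine le_trans ?_ (le_iSup _ ⟨ofDualLinear d c F, isComodHom_ofDualLinear d c F⟩)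
    rintro _ ⟨x, rfl⟩
    exact ⟨x, rfl⟩

end IsotypicComod

end Groth.Agent.Lib.ComodDual_helper9

namespace Groth.Agent.Lib.ComodDual_helper9

noncomputable section LocallyFinite

variable {k : Type u} [Field k] {C : Type v} [AddCommGroup C] [Module k C]
variable {V : Type w} [AddCommGroup V] [Module k V]

/-- `φ ↦ (id ⊗ φ) x` as a linear map in `φ`. -/
def evL (x : V ⊗[k] C) : (C →ₗ[k] k) →ₗ[k] V where
  toFun φ := ev V φ x
  map_add' φ ψ := by rw [ev_add, LinearMap.add_apply]
  map_smul' a φ := by rw [ev_smul, LinearMap.smul_apply, RingHom.id_apply]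

theorem evL_apply (x : V ⊗[k] C) (φ : C →ₗ[k] k) : evL x φ = ev V φ x := rfl

/-- the space of "coefficients" `(id ⊗ φ) x` of a tensor is finite-dimensional. -/
theorem finite_range_evL (x : V ⊗[k] C) : Module.Finite k (LinearMap.range (evL x)) := by
  induction x using TensorProduct.induction_on with
  | zero =>
    have : LinearMap.range (evL (0 : V ⊗[k] C)) = ⊥ := by
      rw [eq_bot_iff]; rintro _ ⟨φ, rfl⟩; simp [evL_apply]
    rw [this]; infer_instance
  | tmul v c =>
    have hle : LinearMap.range (evL (v ⊗ₜ[k] c)) ≤ Submodule.span k {v} := by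
      rintro _ ⟨φ, rfl⟩
      rw [evL_apply, ev_tmul]
      exact Submodule.smul_mem _ _ (Submodule.mem_span_singleton_self v)
    haveI : Module.Finite k (Submodule.span k {v}) := Module.Finite.span_singleton k v
    exact Submodule.finiteDimensional_of_le hle
  | add x y hx hy =>
    have hle : LinearMap.range (evL (x + y)) ≤ LinearMap.range (evL x) ⊔ LinearMap.range (evL y) := by
      rintro _ ⟨φ, rfl⟩
      rw [evL_apply, map_add]
      exact Submodule.add_mem_sup ⟨φ, rfl⟩ ⟨φ, rfl⟩
    haveI := hx
    haveI := hy
    exact Submodule.finiteDimensional_of_le hle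

variable [Coalgebra k C]

/-- the cyclic `C^*`-submodule generated by `v`, as a `k`-subspace: all `φ • v`. -/
def cyclicSub [c : HopfRep.Comod k C V] (v : V) : Submodule k V :=
  LinearMap.range (evL (c.coact v))

theorem mem_cyclicSub [c : HopfRep.Comod k C V] (v w : V) :
    w ∈ cyclicSub (k := k) (C := C) v ↔ ∃ φ : C →ₗ[k] k, act φ v = w := Iff.rfl

theorem self_mem_cyclicSub [c : HopfRep.Comod k C V] (v : V) : v ∈ cyclicSub (k := k) (C := C) v :=
  ⟨(1 : WithConv (C →ₗ[k] k)).ofConv, act_one v⟩

theorem finite_cyclicSub [c : HopfRep.Comod k C V] (v : V) : Module.Finite k (cyclicSub (k := k) (C := C) v) :=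
  finite_range_evL _

theorem isSubcomod_cyclicSub [c : HopfRep.Comod k C V] (v : V) :
    HopfRep.IsSubcomod (k := k) (A := C) (cyclicSub (k := k) (C := C) v) := by
  apply isSubcomod_of_act_mem
  rintro ψ _ ⟨φ, rfl⟩
  exact ⟨(WithConv.toConv ψ * WithConv.toConv φ).ofConv,
    (act_mul (WithConv.toConv ψ) (WithConv.toConv φ) v)⟩

/-- Fundamental theorem of comodules: every vector lies in a finite-dimensional subcomodule. -/
theorem exists_finite_subcomod_mem [c : HopfRep.Comod k C V] (v : V) :
    ∃ W : Submodule k V, Module.Finite k W ∧ v ∈ W ∧ HopfRep.IsSubcomod (k := k) (A := C) W :=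
  ⟨cyclicSub (k := k) (C := C) v, finite_cyclicSub v, self_mem_cyclicSub v, isSubcomod_cyclicSub v⟩

/-- a simple comodule over a field is finite-dimensional. -/
theorem finite_of_isSimpleComod [c : HopfRep.Comod k C V] (hV : HopfRep.IsSimpleComod k C V) :
    Module.Finite k V := by
  haveI := hV.1
  obtain ⟨v, hv⟩ := exists_ne (0 : V)
  obtain ⟨W, hfin, hvW, hW⟩ := exists_finite_subcomod_mem (k := k) (C := C) v
  rcases hV.2 W hW with h | h
  · exact absurd ((Submodule.mem_bot k).mp (h ▸ hvW)) hv
  · haveI := hfin
    rw [h] at hfin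
    exact Module.Finite.equiv (Submodule.topEquiv (R := k) (M := V))

end LocallyFinite

end Groth.Agent.Lib.ComodDual_helper9
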