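import Groth.Prelude.Def_SGA3
import Groth.Agent.Lib.LinRed_helper9
import Groth.Agent.Lib.ComodDual_helper9

/-!
# Action of `C`-valued points on a comodule; invariants of a normal subgroup (helper9)
-/

set_option autoImplicit false
universe u v w w'
open TensorProduct WithConv

namespace PointAct9

open Groth.Agent.Lib.Comod_helper9 Groth.Agent.Lib.ComodDual_helper9

section General

variable {k : Type u} [Field k] {A : Type v} [CommRing A] [HopfAlgebra k A]
variable {V : Type w} [AddCommGroup V] [Module k V] [HopfRep.Comod k A V]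
variable {C : Type w'} [CommRing C] [Algebra k C]

/-- the action of a `C`-valued point: `v ↦ Σ v₀ ⊗ x(v₁)` -/
noncomputable def actR (x : A →ₐ[k] C) : V →ₗ[k] V ⊗[k] C :=
  LinearMap.lTensor V x.toLinearMap ∘ₗ HopfRep.Comod.coact (k := k) (A := A)

theorem actR_apply (x : A →ₐ[k] C) (v : V) :
    actR x v = LinearMap.lTensor V x.toLinearMap (HopfRep.Comod.coact (k := k) (A := A) v) := rfl

theorem mul_toLinearMap (x y : A →ₐ[k] C) :
    (toConv x * toConv y).ofConv.toLinearMap =
      LinearMap.mul' k C ∘ₗ TensorProduct.map x.toLinearMap y.toLinearMap ∘ₗ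
        Coalgebra.comul (R := k) := by
  have h := AlgHom.toLinearMap_convMul (toConv x) (toConv y)
  have h2 := congrArg WithConv.ofConv h
  simp only at h2
  rw [h2, LinearMap.convMul_def]

omit [HopfRep.Comod k A V] in
theorem aux1 (x y : A →ₐ[k] C) (ρ : V →ₗ[k] V ⊗[k] A) (z : V ⊗[k] A) :
    LinearMap.lTensor V (LinearMap.mul' k C ∘ₗ TensorProduct.map x.toLinearMap y.toLinearMap)
        (TensorProduct.assoc k V A A (ρ.rTensor A z)) =
      LinearMap.lTensor V (LinearMap.mul' k C) (TensorProduct.assoc k V C C
        ((LinearMap.lTensor V x.toLinearMap ∘ₗ ρ).rTensor C (LinearMap.lTensor V y.toLinearMap z))) := by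
  induction z using TensorProduct.induction_on with
  | zero => simp
  | add a b ha hb => simp only [map_add, ha, hb]
  | tmul v' a =>
    simp only [LinearMap.rTensor_tmul, LinearMap.lTensor_tmul, LinearMap.comp_apply]
    generalize ρ v' = w
    induction w using TensorProduct.induction_on with
    | zero => simp
    | add a b ha hb => simp only [TensorProduct.add_tmul, map_add, ha, hb]
    | tmul v'' b => simp

theorem actR_mul (x y : A →ₐ[k] C) (v : V) :
    actR (toConv x * toConv y).ofConv v =
      LinearMap.lTensor V (LinearMap.mul' k C) (TensorProduct.assoc k V C C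
        ((actR (V := V) x).rTensor C (actR y v))) := by
  rw [actR_apply, mul_toLinearMap, ← LinearMap.comp_assoc, LinearMap.lTensor_comp, LinearMap.comp_apply]
  have hc := LinearMap.congr_fun (HopfRep.Comod.coassoc (k := k) (A := A) (V := V)) v
  simp only [LinearMap.coe_comp, Function.comp_apply, LinearEquiv.coe_coe] at hc
  rw [← hc]
  exact aux1 x y _ _

omit [HopfRep.Comod k A V] in
theorem aux2 (w : V ⊗[k] C) :
    LinearMap.lTensor V (LinearMap.mul' k C) (TensorProduct.assoc k V C C (w ⊗ₜ[k] (1 : C))) = w := by
  induction w using TensorProduct.induction_on with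
  | zero => simp
  | add a b ha hb => simp only [TensorProduct.add_tmul, map_add, ha, hb]
  | tmul v c => simp

theorem actR_mul_of_fixed (x y : A →ₐ[k] C) (v : V) (hy : actR y v = v ⊗ₜ[k] (1 : C)) :
    actR (toConv x * toConv y).ofConv v = actR x v := by
  rw [actR_mul, hy, LinearMap.rTensor_tmul, aux2]

/-- a point killing `I` fixes the invariants of `I` -/
theorem actR_of_mem_fixed (I : Ideal A) (n : A →ₐ[k] C) (hn : ∀ a ∈ I, n a = 0) (v : V)
    (hv : LinearMap.lTensor V (Ideal.Quotient.mkₐ k I).toLinearMap
      (HopfRep.Comod.coact (k := k) (A := A) v) = v ⊗ₜ[k] (1 : A ⧸ I)) :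
    actR n v = v ⊗ₜ[k] (1 : C) := by
  have hfac : n.toLinearMap = (Ideal.Quotient.liftₐ I n hn).toLinearMap ∘ₗ
      (Ideal.Quotient.mkₐ k I).toLinearMap := by
    apply LinearMap.ext
    intro a
    simp
  rw [actR_apply, hfac, LinearMap.lTensor_comp, LinearMap.comp_apply, hv, LinearMap.lTensor_tmul,
    AlgHom.toLinearMap_apply, map_one]

theorem mul_comp_antipode (g : A →ₐ[k] C) :
    toConv g * toConv (g.comp (HopfAlgebra.antipodeAlgHom k A)) = 1 := by
  apply WithConv.ofConv_injective
  apply AlgHom.toLinearMap_injective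
  rw [mul_toLinearMap]
  apply LinearMap.ext
  intro a
  have h1 : ∀ t : A ⊗[k] A, LinearMap.mul' k C (TensorProduct.map g.toLinearMap
      (g.comp (HopfAlgebra.antipodeAlgHom k A)).toLinearMap t) =
      g (LinearMap.mul' k A ((HopfAlgebra.antipode k (A := A)).lTensor A t)) := by
    intro t
    induction t using TensorProduct.induction_on with
    | zero => simp
    | add x y hx hy => simp only [map_add, hx, hy]
    | tmul x y => simp
  rw [LinearMap.comp_apply, LinearMap.comp_apply, h1, HopfAlgebra.mul_antipode_lTensor_comul_apply,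
    AlgHom.commutes]
  rfl

theorem comp_antipode_mul (g : A →ₐ[k] C) :
    toConv (g.comp (HopfAlgebra.antipodeAlgHom k A)) * toConv g = 1 := by
  apply WithConv.ofConv_injective
  apply AlgHom.toLinearMap_injective
  rw [mul_toLinearMap]
  apply LinearMap.ext
  intro a
  have h1 : ∀ t : A ⊗[k] A, LinearMap.mul' k C (TensorProduct.map
      (g.comp (HopfAlgebra.antipodeAlgHom k A)).toLinearMap g.toLinearMap t) =
      g (LinearMap.mul' k A ((HopfAlgebra.antipode k (A := A)).rTensor A t)) := by
    intro t
    induction t using TensorProduct.induction_on with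
    | zero => simp
    | add x y hx hy => simp only [map_add, hx, hy]
    | tmul x y => simp
  rw [LinearMap.comp_apply, LinearMap.comp_apply, h1, HopfAlgebra.mul_antipode_rTensor_comul_apply,
    AlgHom.commutes]
  rfl

end General

theorem monoid_aux {M : Type*} [Monoid M] (g gS h : M) (hg : g * gS = 1) :
    h * g = g * (gS * h * g) := by
  rw [← mul_assoc, ← mul_assoc, hg, one_mul]

section Normal

variable {k : Type u} [Field k] {A : Type u} [CommRing A] [HopfAlgebra k A]
variable {V : Type w} [AddCommGroup V] [Module k V] [HopfRep.Comod k A V]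

theorem conv3_eq {C : Type u} [CommRing C] [Algebra k C] (f g h : A →ₐ[k] C) :
    Dyn.conv3 k A f g h = (toConv f * toConv g * toConv h).ofConv := by
  unfold Dyn.conv3
  rw [AlgHom.convMul_def, AlgHom.convMul_def]
  apply AlgHom.ext
  intro a
  simp only [AlgHom.comp_apply]
  congr 1
  generalize (Bialgebra.comulAlgHom k A) a = t
  induction t using TensorProduct.induction_on with
  | zero => simp
  | add x y hx hy => simp only [map_add, hx, hy]
  | tmul x y => simp

omit [HopfRep.Comod k A V] in
theorem aux3 (J : Ideal A) (φ : A →ₗ[k] k) (w : V ⊗[k] A) :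
    LinearMap.lTensor V (ev (A ⧸ J) φ)
      (LinearMap.lTensor V (Algebra.TensorProduct.includeRight : A →ₐ[k] (A ⧸ J) ⊗[k] A).toLinearMap w) =
      (ev V φ w) ⊗ₜ[k] (1 : A ⧸ J) := by
  induction w using TensorProduct.induction_on with
  | zero => simp
  | add a b ha hb => simp only [map_add, TensorProduct.add_tmul, ha, hb]
  | tmul v a => simp [TensorProduct.smul_tmul]

omit [HopfRep.Comod k A V] in
theorem aux4 (J : Ideal A) (φ : A →ₗ[k] k) (z : (V ⊗[k] A) ⊗[k] A) :
    LinearMap.lTensor V (ev (A ⧸ J) φ)
      (LinearMap.lTensor V (TensorProduct.map (Ideal.Quotient.mkₐ k J).toLinearMap LinearMap.id)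
        (TensorProduct.assoc k V A A z)) =
      LinearMap.lTensor V (Ideal.Quotient.mkₐ k J).toLinearMap (ev (V ⊗[k] A) φ z) := by
  induction z using TensorProduct.induction_on with
  | zero => simp
  | add a b ha hb => simp only [map_add, ha, hb]
  | tmul w b =>
    induction w using TensorProduct.induction_on with
    | zero => simp
    | add a b ha hb => simp only [TensorProduct.add_tmul, map_add, ha, hb]
    | tmul v a => simp

theorem isSubcomod_fixed_of_normal (I : Ideal A) (hI : SGA3.IsNormalHopfIdeal k A I)
    (W : Submodule k V)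
    (hW : ∀ v : V, v ∈ W ↔
      LinearMap.lTensor V (Ideal.Quotient.mkₐ k I).toLinearMap (HopfRep.Comod.coact (k := k) (A := A) v) =
        v ⊗ₜ[k] (1 : A ⧸ I)) :
    HopfRep.IsSubcomod (k := k) (A := A) W := by
  apply isSubcomod_of_act_mem
  intro φ v hv
  rw [hW] at hv ⊢
  set π := Ideal.Quotient.mkₐ k I with hπ
  -- the universal points
  let g : A →ₐ[k] (A ⧸ I) ⊗[k] A := Algebra.TensorProduct.includeRight
  let h : A →ₐ[k] (A ⧸ I) ⊗[k] A := (Algebra.TensorProduct.includeLeft).comp π
  -- n = g⁻¹ h g kills I
  set gS : A →ₐ[k] (A ⧸ I) ⊗[k] A := g.comp (HopfAlgebra.antipodeAlgHom k A) with hgS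
  have hn : ∀ a ∈ I, (toConv gS * toConv h * toConv g).ofConv a = 0 := by
    intro a ha
    have h1 := hI ((A ⧸ I) ⊗[k] A) gS h (by
      intro a ha
      show (Algebra.TensorProduct.includeLeft : (A ⧸ I) →ₐ[k] (A ⧸ I) ⊗[k] A) (π a) = 0
      have : π a = 0 := by rw [hπ, Ideal.Quotient.mkₐ_eq_mk]; exact Ideal.Quotient.eq_zero_iff_mem.mpr ha
      rw [this, map_zero]) a ha
    rw [conv3_eq] at h1
    have h2 : gS.comp (HopfAlgebra.antipodeAlgHom k A) = g := by
      apply AlgHom.ext
      intro b
      simp only [hgS, AlgHom.comp_apply]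
      congr 1
      exact Groth.Agent.Lib.LinRed_helper9.antipode_antipode k A b
    rw [h2] at h1
    exact h1
  have hfix : actR (toConv gS * toConv h * toConv g).ofConv v =
      v ⊗ₜ[k] (1 : (A ⧸ I) ⊗[k] A) := actR_of_mem_fixed I _ hn v hv
  have hgrp : toConv h * toConv g = toConv g * toConv (toConv gS * toConv h * toConv g).ofConv := by
    rw [toConv_ofConv (toConv gS * toConv h * toConv g)]
    exact monoid_aux (toConv g) (toConv gS) (toConv h) (mul_comp_antipode g)
  have hact : actR (toConv h * toConv g).ofConv v = actR g v := by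
    rw [hgrp]
    exact actR_mul_of_fixed g _ v hfix
  -- compute `h * g`
  have hhg : (toConv h * toConv g).ofConv.toLinearMap =
      TensorProduct.map π.toLinearMap LinearMap.id ∘ₗ Coalgebra.comul (R := k) := by
    rw [mul_toLinearMap, ← LinearMap.comp_assoc]
    congr 1
    apply TensorProduct.ext'
    intro a b
    simp [g, h]
  have hc := LinearMap.congr_fun (HopfRep.Comod.coassoc (k := k) (A := A) (V := V)) v
  simp only [LinearMap.coe_comp, Function.comp_apply, LinearEquiv.coe_coe] at hc
  have e1 : HopfRep.Comod.coact (k := k) (A := A) (act φ v) =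
      ev (V ⊗[k] A) φ ((HopfRep.Comod.coact (k := k) (A := A)).rTensor A
        (HopfRep.Comod.coact (k := k) (A := A) v)) := by
    rw [ev_rTensor]; rfl
  rw [e1, ← aux4, hc]
  have e2 : LinearMap.lTensor V (TensorProduct.map π.toLinearMap LinearMap.id)
      (LinearMap.lTensor V (Coalgebra.comul (R := k)) (HopfRep.Comod.coact (k := k) (A := A) v)) =
      actR (toConv h * toConv g).ofConv v := by
    rw [actR_apply, hhg, LinearMap.lTensor_comp, LinearMap.comp_apply]
  rw [e2, hact, actR_apply]
  exact aux3 I φ _

end Normal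

end PointAct9

namespace PointAct9

section Ring

variable {k : Type u} [CommRing k] {A : Type u} [CommRing A] [HopfAlgebra k A]

/-- `conv3_eq` over a commutative base ring. -/
theorem conv3_eq' {C : Type u} [CommRing C] [Algebra k C] (f g h : A →ₐ[k] C) :
    Dyn.conv3 k A f g h = (toConv f * toConv g * toConv h).ofConv := by
  unfold Dyn.conv3
  rw [AlgHom.convMul_def, AlgHom.convMul_def]
  apply AlgHom.ext
  intro a
  simp only [AlgHom.comp_apply]
  congr 1
  generalize (Bialgebra.comulAlgHom k A) a = t
  induction t using TensorProduct.induction_on with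
  | zero => simp
  | add x y hx hy => simp only [map_add, hx, hy]
  | tmul x y => simp

/-- `g * (g ∘ S) = 1` in the convolution monoid, over a commutative base ring. -/
theorem mul_comp_antipode' {C : Type u} [CommRing C] [Algebra k C] (g : A →ₐ[k] C) :
    toConv g * toConv (g.comp (HopfAlgebra.antipodeAlgHom k A)) = 1 := by
  apply WithConv.ofConv_injective
  apply AlgHom.ext
  intro a
  have h1 : (toConv g * toConv (g.comp (HopfAlgebra.antipodeAlgHom k A))).ofConv a =
      Algebra.TensorProduct.lmul' (S := C) k
        (Algebra.TensorProduct.map g (g.comp (HopfAlgebra.antipodeAlgHom k A))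
          (Coalgebra.comul (R := k) a)) := by
    rw [AlgHom.convMul_def]; rfl
  have h2 : ∀ t : A ⊗[k] A, Algebra.TensorProduct.lmul' (S := C) k
        (Algebra.TensorProduct.map g (g.comp (HopfAlgebra.antipodeAlgHom k A)) t) =
      g (LinearMap.mul' k A ((HopfAlgebra.antipode k (A := A)).lTensor A t)) := by
    intro t
    induction t using TensorProduct.induction_on with
    | zero => simp
    | add x y hx hy => simp only [map_add, hx, hy]
    | tmul x y => simp
  rw [h1, h2, HopfAlgebra.mul_antipode_lTensor_comul_apply]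
  simp [Algebra.algebraMap_eq_smul_one]

theorem comp_antipode_mul' {C : Type u} [CommRing C] [Algebra k C] (g : A →ₐ[k] C) :
    toConv (g.comp (HopfAlgebra.antipodeAlgHom k A)) * toConv g = 1 := by
  apply WithConv.ofConv_injective
  apply AlgHom.ext
  intro a
  have h1 : (toConv (g.comp (HopfAlgebra.antipodeAlgHom k A)) * toConv g).ofConv a =
      Algebra.TensorProduct.lmul' (S := C) k
        (Algebra.TensorProduct.map (g.comp (HopfAlgebra.antipodeAlgHom k A)) g
          (Coalgebra.comul (R := k) a)) := by
    rw [AlgHom.convMul_def]; rfl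
  have h2 : ∀ t : A ⊗[k] A, Algebra.TensorProduct.lmul' (S := C) k
        (Algebra.TensorProduct.map (g.comp (HopfAlgebra.antipodeAlgHom k A)) g t) =
      g (LinearMap.mul' k A ((HopfAlgebra.antipode k (A := A)).rTensor A t)) := by
    intro t
    induction t using TensorProduct.induction_on with
    | zero => simp
    | add x y hx hy => simp only [map_add, hx, hy]
    | tmul x y => simp
  rw [h1, h2, HopfAlgebra.mul_antipode_rTensor_comul_apply]
  simp [Algebra.algebraMap_eq_smul_one]

end Ring

end PointAct9
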