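import Groth.Agent.Lib.Comod_helper9

/-!
# Induced comodules over a commutative ring: functoriality, and finitely generated subcomodules
-/

set_option autoImplicit false
universe u v w w'
open TensorProduct

namespace Groth.Agent.Lib.IndHom_helper9

open Groth.Agent.Lib.Comod_helper9

variable {k : Type u} [CommRing k] {C : Type v} [AddCommGroup C] [Module k C] [Coalgebra k C]

/-- the coaction `V → Ind V` is a comodule map (over any commutative ring). -/
theorem isComodHom_toInd (V : Type w) [AddCommGroup V] [Module k V] [c : HopfRep.Comod k C V] :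
    Hoch.IsComodHom C (Hoch.toInd k C V) := by
  apply LinearMap.ext
  intro v
  have hc := LinearMap.congr_fun c.coassoc v
  simp only [LinearMap.coe_comp, Function.comp_apply, LinearEquiv.coe_coe] at hc
  show Hoch.Ind.coactAux k C V (c.coact v) = c.coact.rTensor C (c.coact v)
  unfold Hoch.Ind.coactAux
  rw [LinearMap.comp_apply, ← hc]
  simp

/-- `g ⊗ id : Ind P → Ind Q`. -/
noncomputable def indMap {P : Type w} {Q : Type w'} [AddCommGroup P] [Module k P] [AddCommGroup Q] [Module k Q]
    (g : P →ₗ[k] Q) : Hoch.Ind k C P →ₗ[k] Hoch.Ind k C Q :=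
  (Hoch.Ind.equiv k C Q).toLinearMap ∘ₗ g.rTensor C ∘ₗ (Hoch.Ind.equiv k C P).symm.toLinearMap

theorem isComodHom_indMap {P : Type w} {Q : Type w'} [AddCommGroup P] [Module k P] [AddCommGroup Q] [Module k Q]
    (g : P →ₗ[k] Q) : Hoch.IsComodHom C (indMap (C := C) g) := by
  show Hoch.Ind.coactAux k C Q ∘ₗ g.rTensor C = (g.rTensor C).rTensor C ∘ₗ Hoch.Ind.coactAux k C P
  apply TensorProduct.ext'
  intro p a
  simp only [LinearMap.comp_apply, LinearMap.rTensor_tmul, Hoch.Ind.coactAux_tmul]
  have h := LinearMap.rTensor_tensor (R := k) (M := C) (N := C) g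
  have h2 := LinearMap.congr_fun h (p ⊗ₜ[k] Coalgebra.comul (R := k) a)
  simp only [LinearMap.comp_apply, LinearEquiv.coe_coe, LinearMap.rTensor_tmul] at h2
  rw [h2, LinearEquiv.symm_apply_apply]

/-- Over a Noetherian ring with a flat coalgebra, every finitely generated submodule of a comodule
lies in a finitely generated subcomodule. -/
theorem exists_fg_subcomod [IsNoetherianRing k] [Module.Flat k C] (V : Type w) [AddCommGroup V] [Module k V]
    [c : HopfRep.Comod k C V] (M : Submodule k V) (hM : M.FG) :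
    ∃ W : Submodule k V, HopfRep.IsSubcomod (k := k) (A := C) W ∧ M ≤ W ∧ W.FG := by
  classical
  obtain ⟨s, rfl⟩ := hM
  choose S hS using fun v : V => TensorProduct.exists_finset (c.coact v)
  let T : Finset V := s.biUnion fun v => (S v).image Prod.fst
  let N : Submodule k V := Submodule.span k (T : Set V)
  have hN : N.FG := ⟨T, rfl⟩
  let f : V →ₗ[k] Hoch.Ind k C (V ⧸ N) := indMap (C := C) N.mkQ ∘ₗ Hoch.toInd k C V
  have hf : Hoch.IsComodHom C f := isComodHom_comp _ _ (isComodHom_indMap _) (isComodHom_toInd V)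
  have hfv : ∀ v, f v = N.mkQ.rTensor C (c.coact v) := fun v => rfl
  refine ⟨LinearMap.ker f, isSubcomod_ker f hf, ?_, ?_⟩
  · rw [Submodule.span_le]
    intro v hv
    rw [SetLike.mem_coe, LinearMap.mem_ker, hfv, hS v, map_sum]
    apply Finset.sum_eq_zero
    intro i hi
    rw [LinearMap.rTensor_tmul]
    have : i.1 ∈ N := by
      apply Submodule.subset_span
      rw [Finset.mem_coe, Finset.mem_biUnion]
      exact ⟨v, hv, Finset.mem_image_of_mem _ hi⟩
    rw [Submodule.mkQ_apply, (Submodule.Quotient.mk_eq_zero N).mpr this, zero_tmul]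
    rfl
  · apply Submodule.FG.of_le hN
    intro v hv
    rw [LinearMap.mem_ker, hfv] at hv
    have hv' : N.mkQ.rTensor C (c.coact v) = (0 : (V ⧸ N) ⊗[k] C) := hv
    have h1 := LinearMap.congr_fun c.counit_comp v
    simp only [LinearMap.comp_apply, LinearMap.flip_apply, TensorProduct.mk_apply] at h1
    have e : (Coalgebra.counit (R := k) (A := C)).lTensor (V ⧸ N) ∘ₗ N.mkQ.rTensor C =
        N.mkQ.rTensor k ∘ₗ (Coalgebra.counit (R := k) (A := C)).lTensor V := by
      rw [LinearMap.lTensor_comp_rTensor, LinearMap.rTensor_comp_lTensor]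
    have h2 : (Coalgebra.counit (R := k) (A := C)).lTensor (V ⧸ N) (N.mkQ.rTensor C (c.coact v)) =
        N.mkQ.rTensor k ((Coalgebra.counit (R := k) (A := C)).lTensor V (c.coact v)) :=
      LinearMap.congr_fun e (c.coact v)
    rw [hv', map_zero, h1, LinearMap.rTensor_tmul] at h2
    have h3 := congrArg (TensorProduct.rid k (V ⧸ N)) h2
    rw [map_zero, TensorProduct.rid_tmul, one_smul] at h3
    exact (Submodule.Quotient.mk_eq_zero N).mp h3.symm

end Groth.Agent.Lib.IndHom_helper9
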