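import Groth.Agent.Lib.CoeffIso_helper9
import Groth.Agent.Lib.IndHom_helper9

/-!
# Flags with steps of dimension ≤ 1 and trigonalizable coalgebras (helper9)
-/

set_option autoImplicit false
universe u v w w'
open TensorProduct

namespace TrigFlag9

open Groth.Agent.Lib.Comod_helper9 Groth.Agent.Lib.ComodFlag_helper9 Groth.Agent.Lib.CoeffSpace_helper9
  Groth.Agent.Lib.CoeffIso_helper9

variable {k : Type u} [Field k] {C : Type v} [AddCommGroup C] [Module k C] [Coalgebra k C]

/-- "every simple finite-dimensional comodule is one-dimensional" for a coalgebra -/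
def Trig (k : Type u) [Field k] (C : Type v) [AddCommGroup C] [Module k C] [Coalgebra k C] : Prop :=
  ∀ (V : Type v) [AddCommGroup V] [Module k V] [HopfRep.Comod k C V],
    Module.Finite k V → HopfRep.IsSimpleComod k C V → Module.finrank k V = 1

/-- a submodule reachable from `⊥` by subcomodules, adding one vector at a time -/
inductive Flag {V : Type w} [AddCommGroup V] [Module k V] (c : HopfRep.Comod k C V) : Submodule k V → Prop
  | bot : Flag c ⊥
  | step (P : Submodule k V) (q : V) : Flag c P →
      @HopfRep.IsSubcomod k C _ _ _ _ V _ _ c (P ⊔ Submodule.span k {q}) → Flag c (P ⊔ Submodule.span k {q})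

section Basic

variable {V : Type w} [AddCommGroup V] [Module k V]

theorem Flag.isSubcomod {c : HopfRep.Comod k C V} {Q : Submodule k V} (h : Flag c Q) :
    @HopfRep.IsSubcomod k C _ _ _ _ V _ _ c Q := by
  cases h with
  | bot => exact isSubcomod_bot
  | step P q hP hs => exact hs

theorem Flag.finite {c : HopfRep.Comod k C V} {Q : Submodule k V} (h : Flag c Q) :
    Module.Finite k Q := by
  induction h with
  | bot => infer_instance
  | step P q hP hs ih =>
    haveI := ih
    infer_instance

theorem finrank_sup_span_le (P : Submodule k V) [Module.Finite k P] (q : V) :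
    Module.finrank k ↥(P ⊔ Submodule.span k {q}) ≤ Module.finrank k P + 1 := by
  have h1 := Submodule.finrank_add_le_finrank_add_finrank P (Submodule.span k {q})
  have h2 : Module.finrank k (Submodule.span k ({q} : Set V)) ≤ 1 := by
    have := finrank_span_le_card (R := k) ({q} : Set V)
    simpa using this
  omega

/-- a simple subcomodule inside a flagged subcomodule is one-dimensional -/
theorem Flag.finrank_simple {c : HopfRep.Comod k C V} {Q : Submodule k V} (h : Flag c Q) :
    ∀ S : Submodule k V, S ≤ Q → @HopfRep.IsSubcomod k C _ _ _ _ V _ _ c S → S ≠ ⊥ →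
      (∀ U : Submodule k V, @HopfRep.IsSubcomod k C _ _ _ _ V _ _ c U → U ≤ S → U = ⊥ ∨ U = S) →
      Module.finrank k S = 1 := by
  induction h with
  | bot =>
    intro S hS _ hne _
    exact absurd (le_bot_iff.mp hS) hne
  | step P q hP hs ih =>
    intro S hS hsub hne hmin
    letI := c
    haveI := hP.finite
    haveI : Module.Finite k ↥(P ⊔ Submodule.span k {q}) := (Flag.step P q hP hs).finite
    haveI : Module.Finite k S := Submodule.finiteDimensional_of_le hS
    rcases hmin (S ⊓ P) (isSubcomod_inf S P hsub hP.isSubcomod) inf_le_left with h0 | h1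
    · have e1 := Submodule.finrank_sup_add_finrank_inf_eq S P
      rw [h0, finrank_bot, add_zero] at e1
      have e2 : Module.finrank k ↥(S ⊔ P) ≤ Module.finrank k ↥(P ⊔ Submodule.span k {q}) :=
        Submodule.finrank_mono (sup_le hS le_sup_left)
      have e3 := finrank_sup_span_le P q
      have e4 : 0 < Module.finrank k S := by
        rw [Module.finrank_pos_iff]
        exact Submodule.nontrivial_iff_ne_bot.mpr hne
      omega
    · exact ih S (inf_eq_left.mp h1) hsub hne hmin

theorem Flag.map {W : Type w'} [AddCommGroup W] [Module k W] {c : HopfRep.Comod k C V}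
    {d : HopfRep.Comod k C W} (g : V →ₗ[k] W)
    (hg : @Hoch.IsComodHom k _ C _ _ _ V _ _ c W _ _ d g) {Q : Submodule k V} (h : Flag c Q) :
    Flag d (Q.map g) := by
  induction h with
  | bot => rw [Submodule.map_bot]; exact Flag.bot
  | step P q hP hs ih =>
    have e : (P ⊔ Submodule.span k {q}).map g = P.map g ⊔ Submodule.span k {g q} := by
      rw [Submodule.map_sup, Submodule.map_span, Set.image_singleton]
    rw [e]
    refine Flag.step _ _ ih ?_
    rw [← e]
    exact @isSubcomod_map k _ C _ _ _ _ V _ _ W _ _ c d g hg _ hs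

theorem Flag.push {D : Type w'} [AddCommGroup D] [Module k D] [Coalgebra k D] (i : C →ₗc[k] D)
    {c : HopfRep.Comod k C V} {Q : Submodule k V} (h : Flag c Q) : Flag (comodPush i c) Q := by
  induction h with
  | bot => exact Flag.bot
  | step P q hP hs ih => exact Flag.step P q ih (isSubcomod_push i c _ hs)

theorem comap_mkQ_sup_span (L : Submodule k V) (P : Submodule k (V ⧸ L)) (q : V) :
    (P ⊔ Submodule.span k {L.mkQ q}).comap L.mkQ = P.comap L.mkQ ⊔ Submodule.span k {q} := by
  apply le_antisymm
  · intro x hx
    rw [Submodule.mem_comap, Submodule.mem_sup] at hx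
    obtain ⟨p, hp, z, hz, hpz⟩ := hx
    obtain ⟨a, rfl⟩ := Submodule.mem_span_singleton.mp hz
    rw [Submodule.mem_sup]
    refine ⟨x - a • q, ?_, a • q, Submodule.smul_mem _ _ (Submodule.mem_span_singleton_self q), by abel⟩
    rw [Submodule.mem_comap, map_sub, map_smul, ← hpz, add_sub_cancel_right]
    exact hp
  · apply sup_le (Submodule.comap_mono le_sup_left)
    rw [Submodule.span_le, Set.singleton_subset_iff]
    show L.mkQ q ∈ P ⊔ Submodule.span k {L.mkQ q}
    exact Submodule.mem_sup_right (Submodule.mem_span_singleton_self _)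

theorem Flag.comap_mkQ (c : HopfRep.Comod k C V) (q₀ : V)
    (hL : @HopfRep.IsSubcomod k C _ _ _ _ V _ _ c (Submodule.span k {q₀}))
    {N : Submodule k (V ⧸ Submodule.span k {q₀})}
    (h : Flag (ComodSub.Comod.quot c (Submodule.span k {q₀}) hL) N) :
    Flag c (N.comap (Submodule.span k {q₀}).mkQ) := by
  induction h with
  | bot =>
    have e : (⊥ : Submodule k (V ⧸ Submodule.span k {q₀})).comap (Submodule.span k {q₀}).mkQ =
        ⊥ ⊔ Submodule.span k {q₀} := by
      rw [Submodule.comap_bot, Submodule.ker_mkQ, bot_sup_eq]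
    rw [e]
    refine Flag.step ⊥ q₀ Flag.bot ?_
    rw [bot_sup_eq]
    exact hL
  | step P q hP hs ih =>
    obtain ⟨q', rfl⟩ := (Submodule.span k {q₀}).mkQ_surjective q
    rw [comap_mkQ_sup_span]
    refine Flag.step _ q' ih ?_
    rw [← comap_mkQ_sup_span]
    exact @isSubcomod_comap k _ C _ _ _ _ V _ _ _ _ _ c
      (ComodSub.Comod.quot c (Submodule.span k {q₀}) hL) (Submodule.span k {q₀}).mkQ
      (ComodSub.isComodHom_mkQ c _ hL) _ hs

end Basic

/-- over a trigonalizable coalgebra every finite-dimensional comodule has a full flag -/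
theorem flag_top (hT : Trig k C) :
    ∀ (n : ℕ) (V : Type v) [AddCommGroup V] [Module k V] (c : HopfRep.Comod k C V),
      Module.Finite k V → Module.finrank k V = n → Flag c ⊤ := by
  intro n
  induction n using Nat.strong_induction_on with
  | _ n ih =>
    intro V _ _ c hfin hn
    by_cases hnt : Nontrivial V
    · letI := c
      obtain ⟨L, hL, hne, hmin⟩ := exists_minimal_subcomod (k := k) (C := C) (V := V)
      have hsimple := isSimpleComod_restr_of_minimal c L hL hne hmin
      have h1 : Module.finrank k L = 1 :=
        @hT L _ _ (ComodSub.Comod.restr c L hL) inferInstance hsimple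
      obtain ⟨⟨q₀, hq₀L⟩, hq₀ne, hq₀⟩ := finrank_eq_one_iff'.mp h1
      have hLspan : L = Submodule.span k {q₀} := by
        apply le_antisymm
        · intro x hx
          obtain ⟨a, ha⟩ := hq₀ ⟨x, hx⟩
          rw [Submodule.mem_span_singleton]
          exact ⟨a, congrArg Subtype.val ha⟩
        · rw [Submodule.span_le, Set.singleton_subset_iff]
          exact hq₀L
      subst hLspan
      have hlt : Module.finrank k (V ⧸ Submodule.span k {q₀}) < n := by
        have h2 := Submodule.finrank_quotient_add_finrank (Submodule.span k {q₀})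
        omega
      have hQ := ih _ hlt (V ⧸ Submodule.span k {q₀})
        (ComodSub.Comod.quot c (Submodule.span k {q₀}) hL) inferInstance rfl
      have := Flag.comap_mkQ c q₀ hL hQ
      rwa [Submodule.comap_top] at this
    · have hss : Subsingleton V := not_nontrivial_iff_subsingleton.mp hnt
      have : (⊤ : Submodule k V) = ⊥ := Subsingleton.elim _ _
      rw [this]
      exact Flag.bot

/-- trigonalizability passes to quotient coalgebras -/
theorem trig_of_surjective {D : Type v} [AddCommGroup D] [Module k D] [Coalgebra k D]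
    (π : C →ₗc[k] D) (hπ : Function.Surjective π) (hT : Trig k C) : Trig k D := by
  classical
  intro V _ _ cV hfin hsimple
  haveI := hsimple.1
  obtain ⟨ψ, hinj⟩ := exists_injective_coeffMap (k := k) (C := D) hsimple
  set j : V →ₗ[k] D := coeffMap (C := D) ψ with hj
  have hjhom : Hoch.IsComodHom D j := isComodHom_coeffMap ψ
  -- lift a spanning set
  obtain ⟨s, hs⟩ := (Module.finite_def.mp hfin)
  choose a ha using fun v : V => hπ (j v)
  obtain ⟨W, hW, hMW, hWfg⟩ := Groth.Agent.Lib.IndHom_helper9.exists_fg_subcomod (k := k) (C := C) C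
    (Submodule.span k (a '' (s : Set V))) (Submodule.fg_span (Set.Finite.image _ s.finite_toSet))
  haveI : Module.Finite k W := Module.Finite.iff_fg.mpr hWfg
  let cW : HopfRep.Comod k C W := ComodSub.Comod.restr (HopfRep.Comod.regular k C) W hW
  have hflagW : Flag cW ⊤ := flag_top hT _ W cW inferInstance rfl
  have hflagW' : Flag (comodPush π cW) ⊤ := hflagW.push π
  let g : W →ₗ[k] D := (π : C →ₗ[k] D) ∘ₗ W.subtype
  have hg : @Hoch.IsComodHom k _ D _ _ _ W _ _ (comodPush π cW) D _ _ (HopfRep.Comod.regular k D) g := by
    apply LinearMap.ext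
    intro w
    have h1 := LinearMap.congr_fun (ComodSub.isComodHom_subtype (HopfRep.Comod.regular k C) W hW) w
    simp only [LinearMap.comp_apply] at h1
    show Coalgebra.comul (R := k) (π (w : C)) =
      g.rTensor D ((π : C →ₗ[k] D).lTensor W (cW.coact w))
    have h2 : Coalgebra.comul (R := k) (π (w : C)) =
        TensorProduct.map (π : C →ₗ[k] D) (π : C →ₗ[k] D) (Coalgebra.comul (R := k) (w : C)) :=
      (CoalgHomClass.map_comp_comul_apply π (w : C)).symm
    rw [h2]
    have h3 : Coalgebra.comul (R := k) (w : C) = W.subtype.rTensor C (cW.coact w) := h1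
    have h4 : ∀ y : W ⊗[k] C, TensorProduct.map (π : C →ₗ[k] D) (π : C →ₗ[k] D) (W.subtype.rTensor C y) =
        g.rTensor D ((π : C →ₗ[k] D).lTensor W y) := by
      intro y
      induction y using TensorProduct.induction_on with
      | zero => simp
      | add x y hx hy => simp only [map_add, hx, hy]
      | tmul x c => simp [g]
    rw [h3, h4]
  have hflagD := hflagW'.map g hg
  rw [Submodule.map_top] at hflagD
  have hle : LinearMap.range j ≤ LinearMap.range g := by
    rw [LinearMap.range_eq_map, ← hs, Submodule.map_span, Submodule.span_le]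
    rintro _ ⟨v, hv, rfl⟩
    have hav : a v ∈ W := hMW (Submodule.subset_span ⟨v, hv, rfl⟩)
    exact ⟨⟨a v, hav⟩, ha v⟩
  have hone := hflagD.finrank_simple (LinearMap.range j) hle (isSubcomod_range j hjhom)
    (by
      rw [Ne, LinearMap.range_eq_bot]
      intro h0
      obtain ⟨x, y, hxy⟩ := ‹Nontrivial V›
      apply hxy
      apply hinj
      rw [h0]; rfl)
    (by
      intro U hU hUle
      rcases hsimple.2 (U.comap j) (isSubcomod_comap j hjhom U hU) with h | h
      · left
        rw [← Submodule.map_comap_eq_of_le hUle, h, Submodule.map_bot]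
      · right
        rw [← Submodule.map_comap_eq_of_le hUle, h, Submodule.map_top])
  rw [← hone]
  exact (LinearEquiv.ofInjective j hinj).finrank_eq

end TrigFlag9
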