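import Groth.Agent.Lib.HopfNormalGen_helper1
import Groth.Agent.Lib.PointAct_helper9
import Groth.Agent.Lib.TrigFlag_helper9

/-!
# Trigonalizable groups: unipotent normal subgroup with diagonalizable quotient (helper1)
-/

set_option autoImplicit false
set_option maxHeartbeats 1000000

universe u

open TensorProduct

namespace TrigStrH1

open HopfNrmH1 Groth.Agent.Lib.HopfFFH1 Groth.Agent.Lib.Comod_helper9
  Groth.Agent.Lib.ComodFlag_helper9 Groth.Agent.Lib.ComodDual_helper9 ChevH1

section Normal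

variable {k : Type u} [Field k] {A B : Type u} [CommRing A] [HopfAlgebra k A] [CommRing B]
  [HopfAlgebra k B]

theorem normal_augIdeal (ψ : B →ₐc[k] A) : SGA3.IsNormalHopfIdeal k A (augIdeal ψ) := by
  intro R _ _ g h hh a ha
  rw [PointAct9.conv3_eq]
  have h1 : (cm (cm g h) (ci g)).comp (ψ : B →ₐ[k] A) = c1 := by
    rw [cm_comp, cm_comp, ci_comp]
    have h2 : h.comp (ψ : B →ₐ[k] A) = c1 := by
      rw [comp_eq_c1_iff]
      intro x hx
      exact RingHom.mem_ker.mpr (hh x hx)
    rw [h2, cm_c1, cm_ci]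
  have h3 := (comp_eq_c1_iff ψ _).mp h1
  have h4 : (cm (cm g h) (ci g)) a = 0 := RingHom.mem_ker.mp (h3 ha)
  simpa only [cm, ci, WithConv.toConv_ofConv] using h4

theorem isHopfSubalgebra_range (ψ : B →ₐc[k] A) :
    SGA3.IsHopfSubalgebra k A (ψ : B →ₐ[k] A).range := by
  refine ⟨?_, ?_⟩
  · intro x hx
    obtain ⟨b, rfl⟩ := (AlgHom.mem_range _).mp hx
    have h1 : CoalgebraStruct.comul (R := k) ((ψ : B →ₐ[k] A) b) =
        TensorProduct.map (ψ : B →ₐ[k] A).toLinearMap (ψ : B →ₐ[k] A).toLinearMap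
          (CoalgebraStruct.comul (R := k) b) :=
      (CoalgHomClass.map_comp_comul_apply ψ b).symm
    rw [h1]
    have h2 : (ψ : B →ₐ[k] A).toLinearMap =
        (ψ : B →ₐ[k] A).range.val.toLinearMap ∘ₗ
          ((ψ : B →ₐ[k] A).rangeRestrict).toLinearMap := by
      ext y
      rfl
    rw [h2, TensorProduct.map_comp]
    exact ⟨_, rfl⟩
  · intro x hx
    obtain ⟨b, rfl⟩ := (AlgHom.mem_range _).mp hx
    exact (AlgHom.mem_range _).mpr ⟨HopfAlgebra.antipode k b, (antipode_bialgHom_apply ψ b).symm⟩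

theorem augIdeal_eq_span (ψ : B →ₐc[k] A) :
    augIdeal ψ = SGA3.augIdealSpan k A (ψ : B →ₐ[k] A).range := by
  have h0 : ∀ b : B, Coalgebra.counit (R := k) ((ψ : B →ₐ[k] A) b) = Coalgebra.counit (R := k) b :=
    fun b => CoalgHomClass.counit_comp_apply ψ b
  apply le_antisymm
  · rw [augIdeal, Ideal.map_le_iff_le_comap]
    intro b hb
    rw [Ideal.mem_comap]
    apply Ideal.subset_span
    refine ⟨(AlgHom.mem_range _).mpr ⟨b, rfl⟩, ?_⟩
    have hb'' : Bialgebra.counitAlgHom k B b = 0 := RingHom.mem_ker.mp hb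
    have hb' : Coalgebra.counit (R := k) b = 0 := hb''
    show Coalgebra.counit (R := k) ((ψ : B →ₐ[k] A) b) = 0
    rw [h0, hb']
  · rw [SGA3.augIdealSpan, Ideal.span_le]
    rintro a ⟨haB, ha0⟩
    obtain ⟨b, rfl⟩ := (AlgHom.mem_range _).mp haB
    have hb : b ∈ RingHom.ker (Bialgebra.counitAlgHom k B) := by
      rw [RingHom.mem_ker]
      have := h0 b
      exact this.symm.trans ha0
    exact Ideal.mem_map_of_mem (ψ : B →ₐ[k] A) hb

theorem mem_range_of_coinv (ψ : B →ₐc[k] A) (a : A)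
    (ha : LinearMap.lTensor A (Ideal.Quotient.mkₐ k (augIdeal ψ)).toLinearMap
      (CoalgebraStruct.comul (R := k) a) = a ⊗ₜ[k] (1 : A ⧸ augIdeal ψ)) :
    a ∈ (ψ : B →ₐ[k] A).range := by
  have h1 := (s4105 k A (ψ : B →ₐ[k] A).range (isHopfSubalgebra_range ψ) (augIdeal ψ)
    (normal_augIdeal ψ)).mp (augIdeal_eq_span ψ)
  have hex0 : Function.Exact ((augIdeal ψ).restrictScalars k).subtype
      (Ideal.Quotient.mkₐ k (augIdeal ψ)).toLinearMap := by
    intro x
    constructor
    · intro h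
      exact ⟨⟨x, (Ideal.Quotient.eq_zero_iff_mem).mp h⟩, rfl⟩
    · rintro ⟨b, rfl⟩
      exact (Ideal.Quotient.eq_zero_iff_mem).mpr b.2
  have hex := lTensor_exact A hex0 (Ideal.Quotient.mkₐ_surjective k (augIdeal ψ))
  have h2 := hex (CoalgebraStruct.comul (R := k) (A := A) a - a ⊗ₜ[k] (1 : A))
  rw [map_sub, sub_eq_zero, LinearMap.lTensor_tmul, AlgHom.toLinearMap_apply, map_one] at h2
  have h3 : a ∈ ((ψ : B →ₐ[k] A).range : Set A) := by
    rw [h1]
    exact h2.mp ha
  exact h3

end Normal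

section Eigen

variable {k : Type u} [Field k] {A : Type u} [CommRing A] [HopfAlgebra k A]
  {V : Type u} [AddCommGroup V] [Module k V]

/-- span of the group-like elements -/
abbrev GLspan (k : Type u) [Field k] (A : Type u) [CommRing A] [HopfAlgebra k A] : Submodule k A :=
  Submodule.span k (Set.range (GroupLike.val : GroupLike k A → A))

theorem coact_ev (cV : HopfRep.Comod k A V) (f : A →ₗ[k] k) (v : V) :
    cV.coact (ev V f (cV.coact v)) =
      ev (V ⊗[k] A) f ((TensorProduct.assoc k V A A).symm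
        ((CoalgebraStruct.comul (R := k) (A := A)).lTensor V (cV.coact v))) := by
  have hc := LinearMap.congr_fun cV.coassoc v
  simp only [LinearMap.coe_comp, Function.comp_apply, LinearEquiv.coe_coe] at hc
  rw [← hc, LinearEquiv.symm_apply_apply, ev_rTensor]

theorem exists_dual_groupLike (χ₀ : GroupLike k A) :
    ∃ f : A →ₗ[k] k, f χ₀.val = 1 ∧ ∀ χ : GroupLike k A, χ ≠ χ₀ → f χ.val = 0 := by
  classical
  obtain ⟨f, hf⟩ := LinearMap.exists_extend
    ((Module.Basis.span (linearIndep_groupLikeVal (R := k) (A := A))).coord χ₀)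
  have h1 : ∀ χ : GroupLike k A, f χ.val =
      (Module.Basis.span (linearIndep_groupLikeVal (R := k) (A := A))).coord χ₀
      (Module.Basis.span (linearIndep_groupLikeVal (R := k) (A := A)) χ) := by
    intro χ
    rw [← hf, LinearMap.comp_apply, Submodule.subtype_apply, Module.Basis.span_apply]
  refine ⟨f, ?_, fun χ hχ => ?_⟩
  · rw [h1, Module.Basis.coord_apply, Module.Basis.repr_self, Finsupp.single_eq_same]
  · rw [h1, Module.Basis.coord_apply, Module.Basis.repr_self, Finsupp.single_eq_of_ne hχ.symm]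

theorem exists_finsupp_coact (cV : HopfRep.Comod k A V) [Module.Finite k V]
    (h : ∀ (l : Module.Dual k V) (v : V), cf cV l v ∈ GLspan k A) (v₀ : V) :
    ∃ w : GroupLike k A →₀ V, cV.coact v₀ = w.sum fun χ x => x ⊗ₜ[k] (χ.val : A) := by
  classical
  have ht : cV.coact v₀ ∈ LinearMap.range (LinearMap.lTensor V (GLspan k A).subtype) := by
    refine ⟨∑ i, (Module.finBasis k V) i ⊗ₜ[k]
      (⟨coef (Module.finBasis k V) i (cV.coact v₀), h ((Module.finBasis k V).coord i) v₀⟩ :
        GLspan k A), ?_⟩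
    rw [map_sum]
    simp only [LinearMap.lTensor_tmul, Submodule.subtype_apply]
    exact sum_coef (Module.finBasis k V) (cV.coact v₀)
  obtain ⟨t', ht'⟩ := ht
  refine ⟨TensorProduct.equivFinsuppOfBasisRight
    (Module.Basis.span (linearIndep_groupLikeVal (R := k) (A := A))) t', ?_⟩
  have e1 : t' = (TensorProduct.equivFinsuppOfBasisRight
      (Module.Basis.span (linearIndep_groupLikeVal (R := k) (A := A))) t').sum
      fun χ x => x ⊗ₜ[k] (Module.Basis.span (linearIndep_groupLikeVal (R := k) (A := A))) χ := by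
    rw [← TensorProduct.equivFinsuppOfBasisRight_symm_apply, LinearEquiv.symm_apply_apply]
  rw [← ht']
  conv_lhs => rw [e1]
  rw [Finsupp.sum, map_sum, Finsupp.sum]
  refine Finset.sum_congr rfl fun χ _ => ?_
  rw [LinearMap.lTensor_tmul, Submodule.subtype_apply, Module.Basis.span_apply]

theorem exists_eigen (cV : HopfRep.Comod k A V) [Module.Finite k V] [Nontrivial V]
    (h : ∀ (l : Module.Dual k V) (v : V), cf cV l v ∈ GLspan k A) :
    ∃ (v : V) (χ : A), v ≠ 0 ∧ cV.coact v = v ⊗ₜ[k] χ := by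
  classical
  obtain ⟨v₀, hv₀⟩ := exists_ne (0 : V)
  obtain ⟨w, hw⟩ := exists_finsupp_coact cV h v₀
  have hw0 : w ≠ 0 := by
    intro h0
    rw [h0, Finsupp.sum_zero_index] at hw
    have hc := LinearMap.congr_fun cV.counit_comp v₀
    simp only [LinearMap.coe_comp, Function.comp_apply, LinearMap.flip_apply,
      TensorProduct.mk_apply] at hc
    rw [hw, map_zero] at hc
    apply hv₀
    have := congrArg (TensorProduct.rid k V) hc
    rw [map_zero, TensorProduct.rid_tmul, one_smul] at this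
    exact this.symm
  obtain ⟨χ₀, hχ₀⟩ := Finsupp.support_nonempty_iff.mpr hw0
  obtain ⟨f, hf⟩ := exists_dual_groupLike (k := k) (A := A) χ₀
  refine ⟨w χ₀, χ₀.val, Finsupp.mem_support_iff.mp hχ₀, ?_⟩
  have ha : ev V f (cV.coact v₀) = w χ₀ := by
    rw [hw, Finsupp.sum, map_sum, Finset.sum_eq_single χ₀]
    · rw [ev_tmul, hf.1, one_smul]
    · intro χ _ hne
      rw [ev_tmul, hf.2 χ hne, zero_smul]
    · intro hn
      exact absurd hχ₀ hn
  have hb := coact_ev cV f v₀
  rw [ha] at hb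
  rw [hb, hw, Finsupp.sum, map_sum, map_sum, map_sum, Finset.sum_eq_single χ₀]
  · rw [LinearMap.lTensor_tmul, χ₀.isGroupLikeElem_val.comul_eq_tmul_self,
      TensorProduct.assoc_symm_tmul, ev_tmul, hf.1, one_smul]
  · intro χ _ hne
    rw [LinearMap.lTensor_tmul, χ.isGroupLikeElem_val.comul_eq_tmul_self,
      TensorProduct.assoc_symm_tmul, ev_tmul, hf.2 χ hne, zero_smul]
  · intro hn
    exact absurd hχ₀ hn

end Eigen

section Backward

variable {k : Type u} [Field k] {A B : Type u} [CommRing A] [HopfAlgebra k A] [CommRing B]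
  [HopfAlgebra k B]

theorem range_le_GLspan (ψ : B →ₐc[k] A) (hB : HopfRep.IsDiagonalizable k B) (a : A)
    (ha : a ∈ (ψ : B →ₐ[k] A).range) : a ∈ GLspan k A := by
  obtain ⟨b, rfl⟩ := (AlgHom.mem_range _).mp ha
  clear ha
  have hB' : Submodule.span k {x : B | IsGroupLikeElem k x} = ⊤ := hB
  have hb : b ∈ Submodule.span k {x : B | IsGroupLikeElem k x} := by
    rw [hB']
    trivial
  induction hb using Submodule.span_induction with
  | mem x hx =>
    exact Submodule.subset_span ⟨⟨(ψ : B →ₐ[k] A) x, IsGroupLikeElem.map ψ hx⟩, rfl⟩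
  | zero => rw [map_zero]; exact Submodule.zero_mem _
  | add x y _ _ hx hy => rw [map_add]; exact Submodule.add_mem _ hx hy
  | smul c x _ hx => rw [map_smul]; exact Submodule.smul_mem _ _ hx

theorem isSubcomod_span_eigen {V : Type u} [AddCommGroup V] [Module k V]
    (cV : HopfRep.Comod k A V) (v : V) (χ : A) (h : cV.coact v = v ⊗ₜ[k] χ) :
    @HopfRep.IsSubcomod k A _ _ _ _ V _ _ cV (Submodule.span k {v}) := by
  intro w hw
  obtain ⟨c, rfl⟩ := Submodule.mem_span_singleton.mp hw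
  refine ⟨(c • (⟨v, Submodule.mem_span_singleton_self v⟩ : Submodule.span k {v})) ⊗ₜ[k] χ, ?_⟩
  rw [LinearMap.rTensor_tmul, Submodule.subtype_apply]
  show (c • v) ⊗ₜ[k] χ = cV.coact (c • v)
  rw [map_smul, h, TensorProduct.smul_tmul']

theorem trig_of_exists (ψ : B →ₐc[k] A) (hB : HopfRep.IsDiagonalizable k B)
    (hU : HopfRep.IsUnipotent k (A ⧸ augIdeal ψ)) : HopfRep.IsTrigonalizable k A := by
  intro V _ _ cV hfin hsimple
  haveI := hfin
  haveI : Nontrivial V := hsimple.1
  have hfix := @hU V _ _ (comodPush ((Bialgebra.Quotient.mkBialgHom (augIdeal ψ) :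
    A →ₐc[k] A ⧸ augIdeal ψ) : A →ₗc[k] A ⧸ augIdeal ψ) cV) hfin inferInstance
  have hsub : HopfRep.IsSubcomod (k := k) (A := A)
      (@HopfRep.fixedPts k (A ⧸ augIdeal ψ) _ _ _ V _ _
        (comodPush ((Bialgebra.Quotient.mkBialgHom (augIdeal ψ) :
          A →ₐc[k] A ⧸ augIdeal ψ) : A →ₗc[k] A ⧸ augIdeal ψ) cV)) :=
    PointAct9.isSubcomod_fixed_of_normal (augIdeal ψ) (normal_augIdeal ψ) _ (fun v => Iff.rfl)
  have hall : ∀ v : V, LinearMap.lTensor V (Ideal.Quotient.mkₐ k (augIdeal ψ)).toLinearMap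
      (cV.coact v) = v ⊗ₜ[k] (1 : A ⧸ augIdeal ψ) := by
    intro v
    rcases hsimple.2 _ hsub with h0 | h1
    · exact absurd h0 hfix
    · have hv : v ∈ (@HopfRep.fixedPts k (A ⧸ augIdeal ψ) _ _ _ V _ _
        (comodPush ((Bialgebra.Quotient.mkBialgHom (augIdeal ψ) :
          A →ₐc[k] A ⧸ augIdeal ψ) : A →ₗc[k] A ⧸ augIdeal ψ) cV)) := by
        rw [h1]
        trivial
      exact hv
  have hcoef : ∀ (l : Module.Dual k V) (v : V), cf cV l v ∈ GLspan k A := by
    intro l v
    apply range_le_GLspan ψ hB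
    apply mem_range_of_coinv ψ
    rw [comul_cf, ComodTens.lTensor_rTensor_comm, hall v, LinearMap.rTensor_tmul]
  obtain ⟨v, χ, hv, hρ⟩ := exists_eigen cV hcoef
  rcases hsimple.2 _ (isSubcomod_span_eigen cV v χ hρ) with h0 | h1
  · exact absurd (Submodule.span_singleton_eq_bot.mp h0) hv
  · have h2 := finrank_span_singleton (K := k) hv
    rw [h1, finrank_top] at h2
    exact h2

end Backward

end TrigStrH1
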