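import Groth.Agent.Lib.PtSep_helper1
import Groth.Agent.Lib.TrigStruct_helper1
import Groth.Agent.Lib.HopfFFGen_helper1

/-!
# Affine group schemes over a field and Hopf algebras: rational points (helper1)

A bridge between `Over (Spec k)` group objects with affine total space and commutative Hopf algebras
(via Mathlib's `hopfSpec`), and two applications over an algebraically closed field: surjective
homomorphisms are surjective on rational points, and rational points are dense.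
-/

set_option autoImplicit false
set_option maxHeartbeats 1000000

universe u

open CategoryTheory AlgebraicGeometry MonoidalCategory CartesianMonoidalCategory MonObj Opposite
  Limits

namespace AffGrpHopfH1

section Bridge

variable {k : Type u} [Field k]

/-- `Spec A` as an object over `Spec k` -/
noncomputable abbrev specOver (k : Type u) [Field k] (A : Type u) [CommRing A] [Algebra k A] :
    Over (Spec (CommRingCat.of k)) :=
  Over.mk (Spec.map (CommRingCat.ofHom (algebraMap k A)))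

/-- the rational point of `Spec A` given by an algebra map `A → k` -/
noncomputable def ptOf {A : Type u} [CommRing A] [Algebra k A] (α : A →ₐ[k] k) :
    𝟙_ (Over (Spec (CommRingCat.of k))) ⟶ specOver k A :=
  Over.homMk (Spec.map (CommRingCat.ofHom α.toRingHom)) (by
    show Spec.map (CommRingCat.ofHom α.toRingHom) ≫
      Spec.map (CommRingCat.ofHom (algebraMap k A)) = 𝟙 _
    rw [← Spec.map_comp, ← CommRingCat.ofHom_comp]
    have h : α.toRingHom.comp (algebraMap k A) = RingHom.id k := by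
      ext r
      simp
    rw [h]
    exact Spec.map_id _)

theorem ptOf_left {A : Type u} [CommRing A] [Algebra k A] (α : A →ₐ[k] k) :
    (ptOf α).left = Spec.map (CommRingCat.ofHom α.toRingHom) := rfl

theorem exists_algHom_of_pt {A : Type u} [CommRing A] [Algebra k A]
    (p : 𝟙_ (Over (Spec (CommRingCat.of k))) ⟶ specOver k A) :
    ∃ α : A →ₐ[k] k, ptOf α = p := by
  obtain ⟨ψ, hψ⟩ : ∃ ψ : CommRingCat.of A ⟶ CommRingCat.of k, Spec.map ψ = p.left :=
    ⟨Spec.preimage p.left, Spec.map_preimage p.left⟩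
  have hw : p.left ≫ Spec.map (CommRingCat.ofHom (algebraMap k A)) =
      𝟙 (Spec (CommRingCat.of k)) := Over.w p
  have hcomp : CommRingCat.ofHom (algebraMap k A) ≫ ψ = 𝟙 _ := by
    apply Spec.map_injective
    rw [Spec.map_comp, hψ, hw, Spec.map_id]
  have hcomm : ∀ r : k, ψ.hom (algebraMap k A r) = r := by
    intro r
    have := congrArg (fun f => f.hom r) hcomp
    exact this
  refine ⟨{ ψ.hom with commutes' := hcomm }, ?_⟩
  apply Over.OverMorphism.ext
  show Spec.map (CommRingCat.ofHom _) = p.left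
  rw [← hψ]
  rfl

theorem exists_hopf_model (G : Over (Spec (CommRingCat.of k))) [GrpObj G] [IsAffine G.left] :
    ∃ (A : Type u) (_ : CommRing A) (_ : HopfAlgebra k A),
      Nonempty ((hopfSpec (CommRingCat.of k)).obj (op (CommHopfAlgCat.of k A)) ≅ Grp.mk G) := by
  obtain ⟨H, ⟨e⟩⟩ := (essImage_hopfSpec (R := CommRingCat.of k) (G := Grp.mk G)).mpr ‹_›
  exact ⟨H.unop.X, H.unop.commRing, H.unop.hopfAlgebra, ⟨e⟩⟩

end Bridge

section HopfSide

variable {k : Type u} [Field k] [IsAlgClosed k] {A A' : Type u} [CommRing A] [HopfAlgebra k A]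
  [CommRing A'] [HopfAlgebra k A']

open Groth.Agent.Lib.HopfFFH1

/-- rational points lift along a bialgebra map which is surjective on spectra -/
theorem exists_point_lift (φ : A' →ₐc[k] A)
    (hsurj : ∀ p : PrimeSpectrum A', ∃ q : PrimeSpectrum A,
      PrimeSpectrum.comap (φ : A' →ₐ[k] A).toRingHom q = p) (α' : A' →ₐ[k] k) :
    ∃ α : A →ₐ[k] k, α.comp (φ : A' →ₐ[k] A) = α' := by
  have hS : IsHopfSub (φ : A' →ₐ[k] A).range :=
    isHopfSub_of_sga3 (TrigStrH1.isHopfSubalgebra_range φ)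
  haveI := hS
  have hker : RingHom.ker (φ : A' →ₐ[k] A).rangeRestrict ≤ RingHom.ker α' := by
    intro a ha
    have ha0 : (φ : A' →ₐ[k] A) a = 0 := by
      have := RingHom.mem_ker.mp ha
      exact congrArg Subtype.val this
    have hnil : IsNilpotent a := by
      rw [← mem_nilradical, nilradical_eq_sInf, Ideal.mem_sInf]
      intro p hp
      obtain ⟨q, hq⟩ := hsurj ⟨p, hp⟩
      have hmem : a ∈ (PrimeSpectrum.comap (φ : A' →ₐ[k] A).toRingHom q).asIdeal := by
        show (φ : A' →ₐ[k] A).toRingHom a ∈ q.asIdeal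
        rw [show (φ : A' →ₐ[k] A).toRingHom a = 0 from ha0]
        exact zero_mem _
      rw [hq] at hmem
      exact hmem
    rw [RingHom.mem_ker]
    exact (hnil.map α').eq_zero
  obtain ⟨g, hg⟩ : ∃ g : ↥(φ : A' →ₐ[k] A).range →ₐ[k] k,
      g.comp (φ : A' →ₐ[k] A).rangeRestrict = α' :=
    ⟨liftSurj _ (AlgHom.rangeRestrict_surjective _) α' hker, liftSurj_comp _ _ _ hker⟩
  obtain ⟨G, hG⟩ := PtSepH1.exists_extension (φ : A' →ₐ[k] A).range g
  refine ⟨G, AlgHom.ext fun a' => ?_⟩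
  have h1 := hG ((φ : A' →ₐ[k] A).rangeRestrict a')
  rw [AlgHom.comp_apply]
  exact h1.trans (AlgHom.congr_fun hg a')

/-- Nullstellensatz for non-nilpotent elements -/
theorem exists_point_of_not_nilpotent_fg {S : Type u} [CommRing S] [Algebra k S]
    [Algebra.FiniteType k S] (s : S) (hs : ¬ IsNilpotent s) : ∃ y : S →ₐ[k] k, y s ≠ 0 := by
  haveI : IsJacobsonRing S := isJacobsonRing_of_finiteType (A := k) (B := S)
  have hj : (nilradical S).jacobson = nilradical S :=
    IsJacobsonRing.out inferInstance (Ideal.radical_isRadical ⊥)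
  have hs' : s ∉ (nilradical S).jacobson := by
    rw [hj, mem_nilradical]
    exact hs
  rw [Ideal.jacobson, Ideal.mem_sInf] at hs'
  push Not at hs'
  obtain ⟨n, ⟨-, hn⟩, hsn⟩ := hs'
  haveI := hn
  letI : Field (S ⧸ n) := Ideal.Quotient.field n
  haveI : Algebra.FiniteType k (S ⧸ n) :=
    Algebra.FiniteType.of_surjective (Ideal.Quotient.mkₐ k n) (Ideal.Quotient.mkₐ_surjective k n)
  haveI : Module.Finite k (S ⧸ n) := finite_of_finite_type_of_isJacobsonRing k (S ⧸ n)
  haveI : Algebra.IsAlgebraic k (S ⧸ n) := Algebra.IsAlgebraic.of_finite k (S ⧸ n)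
  let φ : (S ⧸ n) →ₐ[k] k := IsAlgClosed.lift
  refine ⟨φ.comp (Ideal.Quotient.mkₐ k n), fun h => hsn ?_⟩
  have h1 : φ (Ideal.Quotient.mkₐ k n s) = 0 := h
  rw [map_eq_zero φ, Ideal.Quotient.mkₐ_eq_mk, Ideal.Quotient.eq_zero_iff_mem] at h1
  exact h1

/-- over an algebraically closed field, a non-nilpotent element of a commutative Hopf algebra is
nonzero at some rational point -/
theorem exists_point_ne_zero_of_not_nilpotent (f : A) (hf : ¬ IsNilpotent f) :
    ∃ α : A →ₐ[k] k, α f ≠ 0 := by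
  obtain ⟨B, hfB, hfg, hHopf⟩ := PtSepH1.exists_fg_hopfSub (k := k) f
  haveI := hHopf
  haveI : Algebra.FiniteType k ↥B := B.fg_iff_finiteType.mp hfg
  have hf' : ¬ IsNilpotent (⟨f, hfB⟩ : ↥B) := fun h => hf (h.map B.val)
  obtain ⟨y, hy⟩ := exists_point_of_not_nilpotent_fg (k := k) (⟨f, hfB⟩ : ↥B) hf'
  obtain ⟨G, hG⟩ := PtSepH1.exists_extension B y
  exact ⟨G, fun h => hy ((hG ⟨f, hfB⟩).symm.trans h)⟩

end HopfSide

section Main

variable (k : Type u) [Field k] [IsAlgClosed k]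

theorem s14536 (G G' : Over (Spec (CommRingCat.of k))) [GrpObj G] [GrpObj G'] [IsAffine G.left]
    [IsAffine G'.left] (h : G ⟶ G') [IsMonHom h] (hs : Surjective h.left)
    (x : 𝟙_ (Over (Spec (CommRingCat.of k))) ⟶ G') :
    ∃ g : 𝟙_ (Over (Spec (CommRingCat.of k))) ⟶ G, g ≫ h = x := by
  obtain ⟨A, _, _, ⟨e⟩⟩ := exists_hopf_model G
  obtain ⟨A', _, _, ⟨e'⟩⟩ := exists_hopf_model G'
  haveI : (hopfSpec (CommRingCat.of k)).Full := hopfSpec.instFull
  obtain ⟨φ, hφ⟩ : ∃ φ : op (CommHopfAlgCat.of k A) ⟶ op (CommHopfAlgCat.of k A'),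
      (hopfSpec (CommRingCat.of k)).map φ = e.hom ≫ Grp.ofHom h ≫ e'.inv :=
    (hopfSpec (CommRingCat.of k)).map_surjective (e.hom ≫ Grp.ofHom h ≫ e'.inv)
  have hφ1 : ((hopfSpec (CommRingCat.of k)).map φ).hom.hom =
      e.hom.hom.hom ≫ h ≫ e'.inv.hom.hom := by
    rw [hφ]
    rfl
  have hφ2 : Spec.map (CommRingCat.ofHom (φ.unop.hom : A' →ₐ[k] A).toRingHom) =
      e.hom.hom.hom.left ≫ h.left ≫ e'.inv.hom.hom.left := by
    have := congrArg (fun t => t.left) hφ1
    exact this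
  haveI i1 : IsIso e.hom.hom.hom.left := by
    show IsIso ((Grp.forget _ ⋙ Over.forget _).map e.hom)
    infer_instance
  haveI i2 : IsIso e'.inv.hom.hom.left := by
    show IsIso ((Grp.forget _ ⋙ Over.forget _).map e'.inv)
    infer_instance
  haveI := hs
  have hsurj : Surjective
      (Spec.map (CommRingCat.ofHom (φ.unop.hom : A' →ₐ[k] A).toRingHom)) := by
    rw [hφ2]
    have s1 : Surjective e.hom.hom.hom.left := inferInstance
    have s2 : Surjective e'.inv.hom.hom.left := inferInstance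
    refine ⟨fun z => ?_⟩
    obtain ⟨y2, hy2⟩ := s2.surj z
    obtain ⟨y1, hy1⟩ := hs.surj y2
    obtain ⟨y0, hy0⟩ := s1.surj y1
    refine ⟨y0, ?_⟩
    show e'.inv.hom.hom.left.base (h.left.base (e.hom.hom.hom.left.base y0)) = z
    rw [hy0, hy1, hy2]
  obtain ⟨x', hx'⟩ : ∃ x' : 𝟙_ (Over (Spec (CommRingCat.of k))) ⟶ specOver k A',
      x' = x ≫ e'.inv.hom.hom := ⟨_, rfl⟩
  obtain ⟨α', hα'⟩ := exists_algHom_of_pt x'
  obtain ⟨α, hα⟩ := exists_point_lift (φ.unop.hom) (fun p => by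
      obtain ⟨q, hq⟩ := hsurj.surj p
      exact ⟨q, hq⟩) α'
  obtain ⟨a, ha⟩ : ∃ a : Spec (CommRingCat.of A) ⟶ G.left, a = e.hom.hom.hom.left := ⟨_, rfl⟩
  obtain ⟨b, hb⟩ : ∃ b : G'.left ⟶ Spec (CommRingCat.of A'), b = e'.inv.hom.hom.left :=
    ⟨_, rfl⟩
  obtain ⟨b', hb'⟩ : ∃ b' : Spec (CommRingCat.of A') ⟶ G'.left, b' = e'.hom.hom.hom.left :=
    ⟨_, rfl⟩
  have h1 : Spec.map (CommRingCat.ofHom (φ.unop.hom : A' →ₐ[k] A).toRingHom) =
      a ≫ h.left ≫ b := by
    rw [ha, hb]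
    exact hφ2
  have h2 : b ≫ b' = 𝟙 _ := by
    rw [hb, hb']
    exact congrArg (fun t => t.hom.hom.left) e'.inv_hom_id
  have h3 : Spec.map (CommRingCat.ofHom α'.toRingHom) = x.left ≫ b := by
    rw [hb]
    have := congrArg (fun t => t.left) (hα'.trans hx')
    exact this
  have h4 : Spec.map (CommRingCat.ofHom α.toRingHom) ≫
      Spec.map (CommRingCat.ofHom (φ.unop.hom : A' →ₐ[k] A).toRingHom) =
      Spec.map (CommRingCat.ofHom α'.toRingHom) := by
    rw [← Spec.map_comp, ← CommRingCat.ofHom_comp, ← hα]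
    rfl
  refine ⟨ptOf α ≫ e.hom.hom.hom, ?_⟩
  apply Over.OverMorphism.ext
  show (Spec.map (CommRingCat.ofHom α.toRingHom) ≫ e.hom.hom.hom.left) ≫ h.left = x.left
  rw [← ha]
  calc (Spec.map (CommRingCat.ofHom α.toRingHom) ≫ a) ≫ h.left
      = Spec.map (CommRingCat.ofHom α.toRingHom) ≫ (a ≫ h.left ≫ b) ≫ b' := by
        simp only [Category.assoc, h2, Category.comp_id]
    _ = x.left := by
        rw [← h1, ← Category.assoc, h4, h3, Category.assoc, h2, Category.comp_id]

theorem s14537 (G : Over (Spec (CommRingCat.of k))) [GrpObj G] [IsAffine G.left] :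
    Dense {x : ↥G.left | ∃ g : 𝟙_ (Over (Spec (CommRingCat.of k))) ⟶ G,
      g.left.base (IsLocalRing.closedPoint k) = x} := by
  obtain ⟨A, _, _, ⟨e⟩⟩ := exists_hopf_model G
  rw [dense_iff_inter_open]
  intro U hU hne
  obtain ⟨y, hy⟩ := hne
  have h2 : e.inv.hom.hom ≫ e.hom.hom.hom = 𝟙 _ := congrArg (fun t => t.hom.hom) e.inv_hom_id
  have h2l : e.inv.hom.hom.left ≫ e.hom.hom.hom.left = 𝟙 _ := congrArg (fun t => t.left) h2
  obtain ⟨y', hy'⟩ : ∃ y' : PrimeSpectrum A, e.hom.hom.hom.left.base y' = y := by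
    refine ⟨e.inv.hom.hom.left.base y, ?_⟩
    have := congrArg (fun t => t.base y) h2l
    exact this
  have hV : IsOpen (e.hom.hom.hom.left.base ⁻¹' U) := hU.preimage e.hom.hom.hom.left.continuous
  obtain ⟨f, hfy, hfV⟩ : ∃ f : A, f ∉ y'.asIdeal ∧
      ∀ q : PrimeSpectrum A, f ∉ q.asIdeal → e.hom.hom.hom.left.base q ∈ U := by
    have hy'V : y' ∈ e.hom.hom.hom.left.base ⁻¹' U := by
      show e.hom.hom.hom.left.base y' ∈ U
      rw [hy']
      exact hy
    obtain ⟨_, ⟨f, rfl⟩, hyf, hfV⟩ :=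
      PrimeSpectrum.isTopologicalBasis_basic_opens.exists_subset_of_mem_open hy'V hV
    exact ⟨f, hyf, fun q hq => hfV hq⟩
  have hnil : ¬ IsNilpotent f := by
    rintro ⟨n, hn⟩
    exact hfy (y'.isPrime.mem_of_pow_mem n (hn ▸ zero_mem _))
  obtain ⟨α, hα⟩ := exists_point_ne_zero_of_not_nilpotent (k := k) f hnil
  refine ⟨e.hom.hom.hom.left.base ((Spec.map (CommRingCat.ofHom α.toRingHom)).base
    (IsLocalRing.closedPoint k)), hfV _ ?_, ptOf α ≫ e.hom.hom.hom, rfl⟩
  show α.toRingHom f ∉ (IsLocalRing.closedPoint k).asIdeal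
  intro hmem
  have h3 : α f ∈ nonunits k := (IsLocalRing.mem_maximalIdeal _).mp hmem
  exact (mem_nonunits_iff.mp h3) (isUnit_iff_ne_zero.mpr hα)

end Main

end AffGrpHopfH1
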