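import Groth.Agent.Lib.AlgSpTop_helper7
import Mathlib.CategoryTheory.Sites.LocallySurjective
import Mathlib.CategoryTheory.Sites.LeftExact

set_option autoImplicit false
universe u
open CategoryTheory CategoryTheory.Limits AlgebraicGeometry Opposite

namespace Groth.Agent.Lib.AlgSpEpi_helper7

open AlgSp Groth.Agent.Lib.AlgSpPoints_helper7 Groth.Agent.Lib.AlgSpTop_helper7

variable {S : Scheme.{u}}

/-- `h_φ` is an epimorphism of fppf sheaves when `φ` is an fppf covering. -/
theorem isLocallySurjective_yon_map {U T : Over S} (φ : U ⟶ T) (h1 : Surjective φ.left)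
    (h2 : Flat φ.left) (h3 : LocallyOfFinitePresentation φ.left) :
    Sheaf.IsLocallySurjective ((yon S).map φ) := by
  refine ⟨fun {X} s => ?_⟩
  let g : X ⟶ T := s.down
  have sq := (IsPullback.of_hasPullback g φ).map (Over.forget S)
  have hs : Surjective (pullback.fst g φ).left :=
    MorphismProperty.of_isPullback (P := @Surjective) sq.flip h1
  have hf : Flat (pullback.fst g φ).left :=
    MorphismProperty.of_isPullback (P := @Flat) sq.flip h2
  have hp : LocallyOfFinitePresentation (pullback.fst g φ).left :=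
    MorphismProperty.of_isPullback (P := @LocallyOfFinitePresentation) sq.flip h3
  have hmem : Sieve.generate (Presieve.singleton (pullback.fst g φ).left) ∈
      Scheme.fppfTopology X.left :=
    Precoverage.generate_mem_toGrothendieck (pullback.fst g φ).left.singleton_mem_fppfPrecoverage
  refine (J S).superset_covering ?_
    (GrothendieckTopology.overEquiv_symm_mem_over _ X _ hmem)
  intro Z f hf
  rw [Sieve.overEquiv_symm_iff] at hf
  obtain ⟨W, k, _, ⟨⟩, hk⟩ := hf
  have hk' : k ≫ (pullback.fst g φ).left = f.left := hk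
  let k' : Z ⟶ pullback g φ := Over.homMk k (by
    rw [← Over.w (pullback.fst g φ), ← Category.assoc, hk', Over.w])
  have : f = k' ≫ pullback.fst g φ := by
    ext
    exact hk'.symm
  rw [this]
  apply Sieve.downward_closed
  refine ⟨⟨pullback.snd g φ⟩, ?_⟩
  change ULift.up (pullback.snd g φ ≫ φ) = ULift.up (pullback.fst g φ ≫ g)
  rw [pullback.condition]

theorem epi_yon_map {U T : Over S} (φ : U ⟶ T) (h1 : Surjective φ.left)
    (h2 : Flat φ.left) (h3 : LocallyOfFinitePresentation φ.left) : Epi ((yon S).map φ) := by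
  have := isLocallySurjective_yon_map φ h1 h2 h3
  infer_instance

theorem exists_etale_of_mono_to_field {k : Type u} [Field k] (str : Spec (CommRingCat.of k) ⟶ S)
    {Z : Sp S} (hZ : IsAlgSpace Z) (f : Z ⟶ (yon S).obj (Over.mk str)) [Mono f]
    (hne : Nonempty (Points Z)) :
    ∃ (T : Over S) (a : (yon S).obj T ⟶ Z) (φ : T ⟶ Over.mk str), RepWith @Etale a ∧
      a ≫ f = (yon S).map φ ∧ Etale φ.left ∧ Surjective φ.left := by
  obtain ⟨z⟩ := hne
  obtain ⟨ι, T, r, hT, hr, hs⟩ := exists_affine_charts hZ
  obtain ⟨i, t, -⟩ := hs z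
  have hTa : IsAffine (T i).left := hT i
  let a := r i
  let φ : T i ⟶ Over.mk str := (yon S).preimage (a ≫ f)
  have hφ : a ≫ f = (yon S).map φ := ((yon S).map_preimage _).symm
  let ψ : (T i).left ⟶ Spec (CommRingCat.of k) := φ.left
  have hsurj : Surjective ψ := ⟨fun y => ⟨t, Subsingleton.elim _ _⟩⟩
  refine ⟨T i, a, φ, hr i, hφ, ?_, hsurj⟩
  have hae := hr i
  have sqR := hae.rep.isPullback' a
  have sqR' := (Groth.Agent.Lib.AlgSpBasic_helper7.isPullback_comp_mono_iff f).2 sqR
  rw [hφ] at sqR'
  have sq1 : IsPullback (hae.rep.fst' a) (hae.rep.snd a) φ φ := IsPullback.of_map (yon S) (by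
    apply (yon S).map_injective
    rw [Functor.map_comp, Functor.map_comp]
    exact sqR'.w) sqR'
  have sq2 := sq1.map (Over.forget S)
  have het : Etale (hae.rep.snd a).left := hae.property_snd a
  have hflat : Flat ψ := inferInstance
  have hqc : QuasiCompact ψ := inferInstance
  exact MorphismProperty.of_isPullback_of_descendsAlong (P := @Etale)
    (Q := @Surjective ⊓ @Flat ⊓ @QuasiCompact) sq2.flip ⟨⟨hsurj, hflat⟩, hqc⟩ het

/-- A monomorphism from a nonempty algebraic space to the spectrum of a field is an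
isomorphism. -/
theorem isIso_of_mono_to_field {k : Type u} [Field k] (str : Spec (CommRingCat.of k) ⟶ S)
    {Z : Sp S} (hZ : IsAlgSpace Z) (f : Z ⟶ (yon S).obj (Over.mk str)) [Mono f]
    (hne : Nonempty (Points Z)) : IsIso f := by
  obtain ⟨T, a, φ, _, hφ, het, hsurj⟩ := exists_etale_of_mono_to_field str hZ f hne
  have : Epi ((yon S).map φ) := epi_yon_map φ hsurj inferInstance inferInstance
  have : Epi (a ≫ f) := hφ ▸ this
  have : Epi f := epi_of_epi a f
  exact isIso_of_mono_of_epi f

end Groth.Agent.Lib.AlgSpEpi_helper7
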