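import Groth.Agent.Lib.SchSrcLocal_helper7
import Mathlib.RingTheory.FiniteStability
import Mathlib.AlgebraicGeometry.Morphisms.FlatMono
import Mathlib.AlgebraicGeometry.Morphisms.FormallyUnramified

/-!
# More properties of morphisms of schemes local on the source for smooth / étale coverings (helper7)

* `formallyUnramified_of_comp_etale_surjective`
* `locallyOfFinitePresentation_of_comp_smooth_surjective`
-/

set_option autoImplicit false
universe u
open CategoryTheory CategoryTheory.Limits AlgebraicGeometry Opposite MorphismProperty TensorProduct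

namespace Groth.Agent.Lib.SchSrcLocal2_helper7
open Groth.Agent.Lib.SchSrcLocal_helper7


theorem formallyUnramified_of_comp_etale_surjective {W U V : Scheme.{u}} (c : W ⟶ U) (h : U ⟶ V)
    [Etale c] [Surjective c] [LocallyOfFiniteType (c ≫ h)] [FormallyUnramified (c ≫ h)] :
    FormallyUnramified h := by
  have sq := pullback_map_diagonal_isPullback c c h
  have hcc : Etale (pullback.map (c ≫ h) (c ≫ h) h h c c (𝟙 _) (Category.comp_id _)
      (Category.comp_id _)) :=
    MorphismProperty.pullbackMap (P := @Etale) (f := c ≫ h) (g := c ≫ h) (f' := h) (g' := h)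
      (inferInstance : Etale c) (inferInstance : Etale c) rfl rfl
  have hccs : Surjective (pullback.map (c ≫ h) (c ≫ h) h h c c (𝟙 _) (Category.comp_id _)
      (Category.comp_id _)) :=
    MorphismProperty.pullbackMap (P := @Surjective) (f := c ≫ h) (g := c ≫ h) (f' := h) (g' := h)
      (inferInstance : Surjective c) (inferInstance : Surjective c) rfl rfl
  have e1 : pullback.map c c (c ≫ h) (c ≫ h) (𝟙 _) (𝟙 _) h (Category.id_comp _).symm
      (Category.id_comp _).symm ≫ pullback.fst (c ≫ h) (c ≫ h) = pullback.fst c c :=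
    (pullback.lift_fst _ _ _).trans (Category.comp_id _)
  have h1 : Etale (pullback.map c c (c ≫ h) (c ≫ h) (𝟙 _) (𝟙 _) h (Category.id_comp _).symm
      (Category.id_comp _).symm ≫ pullback.fst (c ≫ h) (c ≫ h)) := by
    rw [e1]; infer_instance
  have hu1 : FormallyUnramified (pullback.fst (c ≫ h) (c ≫ h)) :=
    MorphismProperty.pullback_fst (P := @FormallyUnramified) _ _ inferInstance
  have hι : Etale (pullback.map c c (c ≫ h) (c ≫ h) (𝟙 _) (𝟙 _) h (Category.id_comp _).symm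
      (Category.id_comp _).symm) := Etale.of_comp _ (pullback.fst (c ≫ h) (c ≫ h))
  have hm : Mono (pullback.map c c (c ≫ h) (c ≫ h) (𝟙 _) (𝟙 _) h (Category.id_comp _).symm
      (Category.id_comp _).symm) :=
    (MorphismProperty.monomorphisms Scheme).of_isPullback sq
      (inferInstance : Mono (pullback.diagonal h))
  have hoi : IsOpenImmersion (pullback.map c c (c ≫ h) (c ≫ h) (𝟙 _) (𝟙 _) h
      (Category.id_comp _).symm (Category.id_comp _).symm) := IsOpenImmersion.of_flat_of_mono _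
  have : IsOpenImmersion (pullback.diagonal h) :=
    MorphismProperty.of_isPullback_of_descendsAlong (P := @IsOpenImmersion)
      (Q := @Surjective ⊓ @Flat ⊓ @LocallyOfFinitePresentation) sq.flip
      ⟨⟨hccs, inferInstance⟩, inferInstance⟩ hoi
  infer_instance



theorem exists_finiteType' (N : Type) (A B : Type u) [CommRing N]
    [CommRing A] [CommRing B] [Algebra N A] [Algebra A B] [Algebra.Smooth A B] :
    ∃ (A₀ B₀ : Type u) (_ : CommRing A₀) (_ : CommRing B₀) (_ : Algebra N A₀) (_ : Algebra A₀ A)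
      (_ : IsScalarTower N A₀ A) (_ : Algebra A₀ B₀), Algebra.FiniteType N A₀ ∧
      Algebra.Smooth A₀ B₀ ∧ Nonempty (B ≃ₐ[A] A ⊗[A₀] B₀) := by
  obtain ⟨A₀, B₀, _, _, hfg, hsm, ⟨e₀⟩⟩ := Algebra.Smooth.exists_subalgebra_fg N A B
  exact ⟨A₀, B₀, inferInstance, inferInstance, inferInstance, inferInstance, inferInstance,
    inferInstance, (Subalgebra.fg_iff_finiteType A₀).mp hfg, hsm, ⟨e₀⟩⟩

theorem exists_model_fp_aux (N : Type) (R A B : Type u) [CommRing N] [IsNoetherianRing N]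
    [CommRing R] [CommRing A] [CommRing B] [Algebra N R] [Algebra N A]
    [Algebra R A] [IsScalarTower N R A] [Algebra A B] [Algebra.Smooth A B] :
    ∃ (A₁ : Type u) (_ : CommRing A₁) (_ : Algebra R A₁) (_ : Algebra A₁ A)
      (_ : IsScalarTower R A₁ A) (B₁ : Type u) (_ : CommRing B₁) (_ : Algebra A₁ B₁),
      Algebra.FinitePresentation R A₁ ∧ Algebra.Smooth A₁ B₁ ∧
      Nonempty (A ⊗[A₁] B₁ ≃ₐ[A] B) := by
  obtain ⟨A₀, B₀, _, _, _, _, _, _, hft, hsm, ⟨e₀⟩⟩ := exists_finiteType' N A B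
  have hfp : Algebra.FinitePresentation N A₀ := Algebra.FinitePresentation.of_finiteType.mp hft
  let φ : R ⊗[N] A₀ →ₐ[R] A :=
    Algebra.TensorProduct.lift (Algebra.ofId R A) (IsScalarTower.toAlgHom N A₀ A)
      (fun _ _ => Commute.all _ _)
  let _ : Algebra (R ⊗[N] A₀) A := φ.toRingHom.toAlgebra
  have : IsScalarTower R (R ⊗[N] A₀) A := IsScalarTower.of_algebraMap_eq' φ.comp_algebraMap.symm
  let _ : Algebra A₀ (R ⊗[N] A₀) := Algebra.TensorProduct.rightAlgebra
  have : IsScalarTower A₀ (R ⊗[N] A₀) A := IsScalarTower.of_algebraMap_eq' (by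
    ext a
    show algebraMap A₀ A a = φ (1 ⊗ₜ a)
    rw [Algebra.TensorProduct.lift_tmul, map_one, one_mul]
    rfl)
  have hsm₁ : Algebra.Smooth (R ⊗[N] A₀) ((R ⊗[N] A₀) ⊗[A₀] B₀) := inferInstance
  let e₁ : A ⊗[R ⊗[N] A₀] ((R ⊗[N] A₀) ⊗[A₀] B₀) ≃ₐ[A] A ⊗[A₀] B₀ :=
    Algebra.TensorProduct.cancelBaseChange A₀ (R ⊗[N] A₀) A A B₀
  exact ⟨R ⊗[N] A₀, inferInstance, inferInstance, inferInstance, inferInstance,
    (R ⊗[N] A₀) ⊗[A₀] B₀, inferInstance,
    inferInstance, inferInstance, hsm₁, ⟨e₁.trans e₀.symm⟩⟩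

/-- A smooth `A`-algebra `B`, with `A` an `R`-algebra, comes by base change from a smooth algebra
`B₁` over an `R`-algebra of finite presentation `A₁` mapping to `A`. -/
theorem exists_model_fp (R A B : Type u) [CommRing R] [CommRing A] [CommRing B]
    [Algebra R A] [Algebra A B] [Algebra.Smooth A B] :
    ∃ (A₁ : Type u) (_ : CommRing A₁) (_ : Algebra R A₁) (_ : Algebra A₁ A)
      (_ : IsScalarTower R A₁ A) (B₁ : Type u) (_ : CommRing B₁) (_ : Algebra A₁ B₁),
      Algebra.FinitePresentation R A₁ ∧ Algebra.Smooth A₁ B₁ ∧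
      Nonempty (A ⊗[A₁] B₁ ≃ₐ[A] B) :=
  exists_model_fp_aux ℤ R A B



/-- Generalized key lemma: if `P` descends along fppf coverings and the base change of `φ` along a
flat morphism `ψ` locally of finite presentation has `P`, then `φ` has `P` over the (open) image of
`ψ`. -/
theorem morphismRestrict_of_isPullback (P : MorphismProperty Scheme.{u})
    [P.DescendsAlong (@Surjective ⊓ @Flat ⊓ @LocallyOfFinitePresentation)]
    {X X' Y' T : Scheme.{u}} (φ : X ⟶ X') (ψ : Y' ⟶ X')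
    [Flat ψ] [LocallyOfFinitePresentation ψ] (fst : T ⟶ X) (snd : T ⟶ Y')
    (sq : IsPullback fst snd φ ψ) (hsnd : P snd) (U' : X'.Opens)
    (hU : (U' : Set X') = Set.range ψ) : P (φ ∣_ U') := by
  have hr : Set.range ψ ⊆ (U' : Set X') := hU.ge
  let ψ' : Y' ⟶ U' := IsOpenImmersion.lift U'.ι ψ (by simpa using hr)
  have hψ' : ψ' ≫ U'.ι = ψ := IsOpenImmersion.lift_fac _ _ _
  have h1 : Set.range fst ⊆ ((φ ⁻¹ᵁ U' : X.Opens) : Set X) := by
    rintro _ ⟨p, rfl⟩
    show φ (fst p) ∈ (U' : Set X')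
    rw [← Scheme.Hom.comp_apply, sq.w, Scheme.Hom.comp_apply, hU]
    exact ⟨_, rfl⟩
  let a : T ⟶ (φ ⁻¹ᵁ U' : X.Opens) := IsOpenImmersion.lift (φ ⁻¹ᵁ U').ι fst (by simpa using h1)
  have ha : a ≫ (φ ⁻¹ᵁ U').ι = fst := IsOpenImmersion.lift_fac _ _ _
  have sq2 := isPullback_morphismRestrict φ U'
  have sq3 : IsPullback a snd (φ ∣_ U') ψ' := by
    refine IsPullback.of_right (h₁₂ := (φ ⁻¹ᵁ U').ι) (h₂₂ := U'.ι) ?_ ?_ sq2.flip
    · rw [ha, hψ']; exact sq
    · rw [← cancel_mono U'.ι, Category.assoc, Category.assoc, hψ', morphismRestrict_ι,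
        ← Category.assoc, ha, sq.w]
  have hsurj : Surjective ψ' := ⟨fun ⟨x, hx⟩ => by
    rw [← SetLike.mem_coe, hU] at hx
    obtain ⟨y, rfl⟩ := hx
    refine ⟨y, ?_⟩
    apply U'.ι.injective
    rw [← Scheme.Hom.comp_apply, hψ']
    rfl⟩
  have hfl : Flat ψ' := of_comp_mono @Flat ψ' U'.ι (by rw [hψ']; infer_instance)
  have hfp : LocallyOfFinitePresentation ψ' :=
    of_comp_mono @LocallyOfFinitePresentation ψ' U'.ι (by rw [hψ']; infer_instance)
  exact MorphismProperty.of_isPullback_of_descendsAlong (P := P)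
    (Q := @Surjective ⊓ @Flat ⊓ @LocallyOfFinitePresentation) sq3.flip ⟨⟨hsurj, hfl⟩, hfp⟩ hsnd

theorem exists_opens_locallyOfFinitePresentation {R A B : CommRingCat.{u}} (f : R ⟶ A) (g : A ⟶ B)
    (hg : g.hom.Smooth) (hfg : (f ≫ g).hom.FinitePresentation) :
    ∃ U : (Spec A).Opens, Set.range (Spec.map g) ⊆ U ∧
      LocallyOfFinitePresentation (U.ι ≫ Spec.map f) := by
  algebraize [f.hom, g.hom]
  obtain ⟨A₁, _, _, _, _, B₁, _, _, hfp, hsm, ⟨E⟩⟩ := exists_model_fp R A B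
  let φ : Spec A ⟶ Spec (.of A₁) := Spec.map (CommRingCat.ofHom (algebraMap A₁ A))
  let ψ : Spec (.of B₁) ⟶ Spec (.of A₁) := Spec.map (CommRingCat.ofHom (algebraMap A₁ B₁))
  have sq := isPullback_SpecMap_of_isPushout _ _ _ _ (CommRingCat.isPushout_tensorProduct A₁ A B₁)
  have hψ : Smooth ψ := by
    rw [HasRingHomProperty.Spec_iff (P := @Smooth)]
    exact RingHom.smooth_algebraMap.mpr hsm
  -- the projection to `Spec B₁` is locally of finite presentation
  let incl : B₁ →+* A ⊗[A₁] B₁ :=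
    (Algebra.TensorProduct.includeRight : B₁ →ₐ[A₁] A ⊗[A₁] B₁).toRingHom
  let ρ : R →+* B₁ := (algebraMap A₁ B₁).comp (algebraMap R A₁)
  have hρ : ρ.FiniteType :=
    RingHom.FiniteType.comp (RingHom.finiteType_algebraMap.mpr inferInstance)
      (RingHom.finiteType_algebraMap.mpr inferInstance)
  have hcomp : incl.comp ρ = (E.symm : B ≃ₐ[A] A ⊗[A₁] B₁).toRingHom.comp (g.hom.comp f.hom) := by
    ext r
    show (1 : A) ⊗ₜ[A₁] (algebraMap A₁ B₁ (algebraMap R A₁ r)) =
      E.symm (algebraMap A B (algebraMap R A r))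
    rw [AlgEquiv.commutes, Algebra.TensorProduct.algebraMap_apply,
      IsScalarTower.algebraMap_apply R A₁ A, Algebra.algebraMap_eq_smul_one (A := B₁),
      TensorProduct.tmul_smul, Algebra.algebraMap_eq_smul_one (A := A), TensorProduct.smul_tmul']
    simp only [Algebra.smul_def, mul_one, Algebra.algebraMap_self, RingHom.id_apply]
  have hincl : incl.FinitePresentation := by
    refine RingHom.FinitePresentation.of_comp_finiteType ρ ?_ hρ
    rw [hcomp]
    exact RingHom.FinitePresentation.comp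
      (RingHom.FinitePresentation.of_bijective E.symm.bijective) hfg
  have hsnd : LocallyOfFinitePresentation (Spec.map (CommRingCat.ofHom (S := A ⊗[A₁] B₁)
      (Algebra.TensorProduct.includeRight : B₁ →ₐ[A₁] A ⊗[A₁] B₁).toRingHom)) := by
    rw [HasRingHomProperty.Spec_iff (P := @LocallyOfFinitePresentation)]
    exact hincl
  let U₁ : (Spec (.of A₁)).Opens := ⟨Set.range ψ, ψ.isOpenMap.isOpen_range⟩
  have key := morphismRestrict_of_isPullback @LocallyOfFinitePresentation φ ψ _ _ sq hsnd U₁ rfl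
  refine ⟨φ ⁻¹ᵁ U₁, ?_, ?_⟩
  · rintro _ ⟨q, rfl⟩
    have hg' : g = CommRingCat.ofHom (S := A ⊗[A₁] B₁) Algebra.TensorProduct.includeLeftRingHom ≫
        CommRingCat.ofHom E.toRingHom := by
      ext a
      exact (E.commutes a).symm
    show φ (Spec.map g q) ∈ Set.range ψ
    rw [hg', Spec.map_comp, Scheme.Hom.comp_apply, ← Scheme.Hom.comp_apply _ φ, sq.w,
      Scheme.Hom.comp_apply]
    exact ⟨_, rfl⟩
  · have hf' : f = CommRingCat.ofHom (algebraMap R A₁) ≫ CommRingCat.ofHom (algebraMap A₁ A) := by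
      ext r
      exact IsScalarTower.algebraMap_apply R A₁ A r
    have h1 : LocallyOfFinitePresentation (Spec.map (CommRingCat.ofHom (algebraMap R A₁))) := by
      rw [HasRingHomProperty.Spec_iff (P := @LocallyOfFinitePresentation)]
      exact RingHom.finitePresentation_algebraMap.mpr hfp
    have h2 : (φ ⁻¹ᵁ U₁).ι ≫ Spec.map f =
        (φ ∣_ U₁) ≫ U₁.ι ≫ Spec.map (CommRingCat.ofHom (algebraMap R A₁)) := by
      rw [hf', Spec.map_comp, ← Category.assoc, ← Category.assoc, morphismRestrict_ι]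
    rw [h2]
    infer_instance


theorem locallyOfFinitePresentation_of_comp_smooth_surjective {W U V : Scheme.{u}} (c : W ⟶ U)
    (h : U ⟶ V) [Smooth c] [Surjective c] [LocallyOfFinitePresentation (c ≫ h)] :
    LocallyOfFinitePresentation h := by
  have : RespectsRight @LocallyOfFinitePresentation @IsOpenImmersion :=
    ⟨fun i (_ : IsOpenImmersion i) f (_ : LocallyOfFinitePresentation f) =>
      (inferInstance : LocallyOfFinitePresentation (f ≫ i))⟩
  refine (IsZariskiLocalAtSource.iff_exists_resLE (P := @LocallyOfFinitePresentation)).mpr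
    fun u => ?_
  obtain ⟨w, rfl⟩ := c.surjective u
  obtain ⟨V₀, hV₀, hv, -⟩ := TopologicalSpace.Opens.isBasis_iff_nbhd.mp V.isBasis_affineOpens
    (TopologicalSpace.Opens.mem_top (h (c w)))
  obtain ⟨U₀, hU₀, hu, eU⟩ := TopologicalSpace.Opens.isBasis_iff_nbhd.mp U.isBasis_affineOpens
    (show c w ∈ h ⁻¹ᵁ V₀ from hv)
  obtain ⟨W₀, hW₀, hw, eW⟩ := TopologicalSpace.Opens.isBasis_iff_nbhd.mp W.isBasis_affineOpens
    (show w ∈ c ⁻¹ᵁ U₀ from hu)
  replace hV₀ : IsAffineOpen V₀ := hV₀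
  replace hU₀ : IsAffineOpen U₀ := hU₀
  replace hW₀ : IsAffineOpen W₀ := hW₀
  have hg : (c.appLE U₀ W₀ eW).hom.Smooth :=
    HasRingHomProperty.appLE (P := @Smooth) c inferInstance ⟨U₀, hU₀⟩ ⟨W₀, hW₀⟩ eW
  have hfg : (h.appLE V₀ U₀ eU ≫ c.appLE U₀ W₀ eW).hom.FinitePresentation := by
    rw [Scheme.Hom.appLE_comp_appLE]
    exact HasRingHomProperty.appLE (P := @LocallyOfFinitePresentation) (c ≫ h) inferInstance
      ⟨V₀, hV₀⟩ ⟨W₀, hW₀⟩ _
  obtain ⟨Ũ, hŨ1, hŨ2⟩ := exists_opens_locallyOfFinitePresentation _ _ hg hfg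
  let U' : U.Opens := hU₀.fromSpec ''ᵁ Ũ
  have hU'le : U' ≤ U₀ := by
    rintro _ ⟨x, -, rfl⟩
    show hU₀.fromSpec x ∈ (U₀ : Set U)
    rw [← hU₀.range_fromSpec]
    exact ⟨x, rfl⟩
  refine ⟨V₀, U', ?_, hU'le.trans eU, ?_⟩
  · obtain ⟨y, hy⟩ : w ∈ Set.range hW₀.fromSpec := by rw [hW₀.range_fromSpec]; exact hw
    refine ⟨Spec.map (c.appLE U₀ W₀ eW) y, hŨ1 ⟨y, rfl⟩, ?_⟩
    show hU₀.fromSpec (Spec.map (c.appLE U₀ W₀ eW) y) = c w
    rw [← Scheme.Hom.comp_apply, IsAffineOpen.SpecMap_appLE_fromSpec c hU₀ hW₀ eW,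
      Scheme.Hom.comp_apply, hy]
  · apply of_comp_mono @LocallyOfFinitePresentation _ (Scheme.Opens.ι V₀)
    rw [Scheme.Hom.resLE_comp_ι]
    have e1 : U'.ι ≫ h = (hU₀.fromSpec.isoImage Ũ).inv ≫
        (Ũ.ι ≫ Spec.map (h.appLE V₀ U₀ eU)) ≫ hV₀.fromSpec := by
      rw [Category.assoc, IsAffineOpen.SpecMap_appLE_fromSpec h hV₀ hU₀ eU, ← Category.assoc,
        ← Category.assoc, Category.assoc _ Ũ.ι, Scheme.Hom.isoImage_inv_ι]
    rw [e1]
    infer_instance

end Groth.Agent.Lib.SchSrcLocal2_helper7
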