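import Groth.Agent.Lib.AlgSpSrc_helper7
import Groth.Agent.Lib.SchSrcLocal2_helper7

/-!
# More classes étale local on the source-and-target: locally of finite presentation, unramified,
locally quasi-finite, étale (helper7)
-/

set_option autoImplicit false
universe u
open CategoryTheory CategoryTheory.Limits AlgebraicGeometry Opposite MorphismProperty
open AlgSp Groth.Agent.Lib.AlgSpQC2_helper7 Groth.Agent.Lib.AlgSpPoints_helper7
  Groth.Agent.Lib.AlgSpQC_helper7 Groth.Agent.Lib.AlgSpDiag_helper7 Groth.Agent.Lib.AlgSpTop_helper7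
  Groth.Agent.Lib.AlgSpPullback_helper7 Groth.Agent.Lib.AlgSpSep_helper7
  Groth.Agent.Lib.AlgSpLocP_helper7 Groth.Agent.Lib.AlgSpUniv_helper7
  Groth.Agent.Lib.AlgSpFpqc_helper7 Groth.Agent.Lib.AlgSpFpqc2_helper7
  Groth.Agent.Lib.AlgSpDescent_helper7 Groth.Agent.Lib.AlgSpEtale_helper7
  Groth.Agent.Lib.AlgSpLocP2_helper7 Groth.Agent.Lib.AlgSpEpi_helper7
  Groth.Agent.Lib.SchSrcLocal_helper7 Groth.Agent.Lib.AlgSpLocP4_helper7
  Groth.Agent.Lib.AlgSpLocP5_helper7 Groth.Agent.Lib.AlgSpLocP6_helper7
  Groth.Agent.Lib.SchSrcLocal2_helper7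

namespace Groth.Agent.Lib.AlgSpLocP7_helper7

variable {S : Scheme.{u}}

theorem etLocal_locallyOfFinitePresentation :
    EtLocal (@LocallyOfFinitePresentation : MorphismProperty Scheme.{u}) where
  precomp := fun _ _ _ c h (_ : Etale c) (_ : LocallyOfFinitePresentation h) =>
    (inferInstance : LocallyOfFinitePresentation (c ≫ h))
  postcomp := fun _ _ _ h e (_ : Etale e) (_ : LocallyOfFinitePresentation h) =>
    (inferInstance : LocallyOfFinitePresentation (h ≫ e))
  src := fun _ _ _ c h (_ : Etale c) (_ : Surjective c)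
      (_ : LocallyOfFinitePresentation (c ≫ h)) =>
    locallyOfFinitePresentation_of_comp_smooth_surjective c h

theorem etLocal_unramified :
    EtLocal (@LocallyOfFiniteType ⊓ @FormallyUnramified : MorphismProperty Scheme.{u}) where
  precomp := fun _ _ _ c h (_ : Etale c) ⟨(_ : LocallyOfFiniteType h), (_ : FormallyUnramified h)⟩ =>
    ⟨(inferInstance : LocallyOfFiniteType (c ≫ h)),
      MorphismProperty.comp_mem @FormallyUnramified c h inferInstance ‹_›⟩
  postcomp := fun _ _ _ h e (_ : Etale e)
      ⟨(_ : LocallyOfFiniteType h), (_ : FormallyUnramified h)⟩ =>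
    ⟨(inferInstance : LocallyOfFiniteType (h ≫ e)),
      MorphismProperty.comp_mem @FormallyUnramified h e ‹_› inferInstance⟩
  src := fun _ _ _ c h (_ : Etale c) (_ : Surjective c)
      ⟨(_ : LocallyOfFiniteType (c ≫ h)), (_ : FormallyUnramified (c ≫ h))⟩ =>
    ⟨locallyOfFiniteType_of_comp_smooth_surjective c h,
      formallyUnramified_of_comp_etale_surjective c h⟩

theorem etLocal_locallyQuasiFinite :
    EtLocal (@LocallyQuasiFinite ⊓ @LocallyOfFiniteType : MorphismProperty Scheme.{u}) where
  precomp := fun _ _ _ c h (_ : Etale c)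
      ⟨(_ : LocallyQuasiFinite h), (_ : LocallyOfFiniteType h)⟩ => by
    have : LocallyQuasiFinite c := locallyQuasiFinite_of_unramified c
    exact ⟨(inferInstance : LocallyQuasiFinite (c ≫ h)),
      (inferInstance : LocallyOfFiniteType (c ≫ h))⟩
  postcomp := fun _ _ _ h e (_ : Etale e)
      ⟨(_ : LocallyQuasiFinite h), (_ : LocallyOfFiniteType h)⟩ => by
    have : LocallyQuasiFinite e := locallyQuasiFinite_of_unramified e
    exact ⟨(inferInstance : LocallyQuasiFinite (h ≫ e)),
      (inferInstance : LocallyOfFiniteType (h ≫ e))⟩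
  src := fun _ _ _ c h (_ : Etale c) (_ : Surjective c)
      ⟨(_ : LocallyQuasiFinite (c ≫ h)), (_ : LocallyOfFiniteType (c ≫ h))⟩ => by
    have hlft : LocallyOfFiniteType h := locallyOfFiniteType_of_comp_smooth_surjective c h
    refine ⟨?_, hlft⟩
    rw [locallyQuasiFinite_iff_isDiscrete_preimage_singleton]
    intro y
    apply isDiscrete_of_preimage_of_isOpenMap c.isOpenMap c.surjective
    have e : c ⁻¹' (h ⁻¹' {y}) = (c ≫ h) ⁻¹' {y} := by
      ext x
      simp only [Set.mem_preimage, Set.mem_singleton_iff, Scheme.Hom.comp_apply]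
    rw [e]
    exact (c ≫ h).isDiscrete_preimage_singleton y

theorem etLocal_etale : EtLocal (@Etale : MorphismProperty Scheme.{u}) where
  precomp := fun _ _ _ c h (_ : Etale c) (_ : Etale h) => (inferInstance : Etale (c ≫ h))
  postcomp := fun _ _ _ h e (_ : Etale e) (_ : Etale h) => (inferInstance : Etale (h ≫ e))
  src := fun _ _ _ c h (_ : Etale c) (_ : Surjective c) (_ : Etale (c ≫ h)) => by
    rw [Etale.iff_flat_and_formallyUnramified]
    exact ⟨flat_of_comp_surjective c h, formallyUnramified_of_comp_etale_surjective c h,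
      locallyOfFinitePresentation_of_comp_smooth_surjective c h⟩

end Groth.Agent.Lib.AlgSpLocP7_helper7
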