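import Groth.Agent.Lib.AlgSpSrc_helper7
import Groth.Agent.Lib.AlgSpLocP7_helper7

/-!
# Morphisms to the spectrum of a field are flat (helper7)

The first few scheme-level lemmas are copied from helper6's libraries
(`AlgSpClosedPt_helper6`, `AlgSpClosedPt2_helper6`, `AlgSpPointSp2_helper6`) in order to avoid a
cross-seat dependency.
-/

set_option autoImplicit false
universe u
open CategoryTheory CategoryTheory.Limits AlgebraicGeometry Opposite

namespace Groth.Agent.Lib.AlgSpFieldFlat_helper7

open AlgSp Groth.Agent.Lib.AlgSpPoints_helper7 Groth.Agent.Lib.AlgSpTop_helper7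
  Groth.Agent.Lib.AlgSpPullback_helper7 Groth.Agent.Lib.AlgSpBasic_helper7
  Groth.Agent.Lib.AlgSpLocP_helper7 Groth.Agent.Lib.AlgSpLocP4_helper7
  Groth.Agent.Lib.AlgSpLocP6_helper7 Groth.Agent.Lib.AlgSpLocP7_helper7
  Groth.Agent.Lib.AlgSpEtale_helper7 Groth.Agent.Lib.AlgSpSrc_helper7

variable {S : Scheme.{u}}

/-- a scheme étale over the spectrum of a field is reduced -/
theorem isReduced_of_etale_field {V : Scheme.{u}} {K : Type u} [Field K]
    (ρ : V ⟶ Spec (CommRingCat.of K)) [Etale ρ] : IsReduced V := by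
  haveI : ∀ i, IsReduced (V.affineCover.X i) := fun i => by
    have hg : Etale ((V.affineCover.X i).isoSpec.inv ≫ V.affineCover.f i ≫ ρ) := inferInstance
    obtain ⟨φ, hφ⟩ := Spec.map_surjective ((V.affineCover.X i).isoSpec.inv ≫ V.affineCover.f i ≫ ρ)
    rw [← hφ, HasRingHomProperty.Spec_iff (P := @Etale)] at hg
    algebraize [φ.hom]
    haveI : _root_.IsReduced Γ(V.affineCover.X i, ⊤) :=
      Algebra.FormallyUnramified.isReduced_of_field K Γ(V.affineCover.X i, ⊤)
    exact isReduced_of_isAffine_isReduced _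
  exact IsReduced.of_openCover V V.affineCover

/-- a scheme étale over the spectrum of a field is discrete -/
theorem discreteTopology_of_etale_field {F : Scheme.{u}} {K : Type u} [Field K]
    (r : F ⟶ Spec (CommRingCat.of K)) [Etale r] : DiscreteTopology ↥F := by
  haveI : LocallyQuasiFinite r := locallyQuasiFinite_of_unramified r
  rcases isEmpty_or_nonempty ↥F with hF | ⟨⟨f⟩⟩
  · infer_instance
  have hd := r.isDiscrete_preimage_singleton (r f)
  have huniv : r ⁻¹' {r f} = Set.univ := by
    ext y
    simp only [Set.mem_preimage, Set.mem_singleton_iff, Set.mem_univ, iff_true]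
    exact Subsingleton.elim _ _
  rw [huniv] at hd
  exact isDiscrete_univ_iff.1 hd

theorem isField_stalk_of_no_specializations {U : Scheme.{u}} [IsReduced U]
    (h : ∀ u u' : ↥U, u' ⤳ u → u' = u) (u : ↥U) : IsField ↥(U.presheaf.stalk u) := by
  rw [IsLocalRing.isField_iff_maximalIdeal_eq]
  have hsub : ∀ P Q : PrimeSpectrum ↥(U.presheaf.stalk u), P = Q := by
    intro P Q
    have hP : (U.fromSpecStalk u) P ∈ {y | y ⤳ u} := by
      rw [← Scheme.range_fromSpecStalk]; exact ⟨P, rfl⟩
    have hQ : (U.fromSpecStalk u) Q ∈ {y | y ⤳ u} := by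
      rw [← Scheme.range_fromSpecStalk]; exact ⟨Q, rfl⟩
    have e : (U.fromSpecStalk u) P = (U.fromSpecStalk u) Q := (h u _ hP).trans (h u _ hQ).symm
    exact (U.fromSpecStalk u).isEmbedding.injective e
  rw [eq_bot_iff]
  intro r hr
  have hnil : IsNilpotent r := by
    rw [nilpotent_iff_mem_prime]
    intro J hJ
    have := hsub ⟨J, hJ⟩ ⟨IsLocalRing.maximalIdeal _, inferInstance⟩
    have hJ' : J = IsLocalRing.maximalIdeal _ := congrArg PrimeSpectrum.asIdeal this
    rw [hJ']; exact hr
  simpa using hnil.eq_zero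

/-- every morphism to such a scheme is flat -/
theorem flat_of_no_specializations {F U : Scheme.{u}} [IsReduced U]
    (h : ∀ u u' : ↥U, u' ⤳ u → u' = u) (f : F ⟶ U) : Flat f := by
  apply Flat.of_stalkMap
  intro y
  letI : Field ↥(U.presheaf.stalk (f y)) := (isField_stalk_of_no_specializations h (f y)).toField
  algebraize [(f.stalkMap y).hom]
  change Module.Flat _ _
  infer_instance

/-- every morphism to a scheme étale over a field is flat -/
theorem flat_to_etale_field {F V : Scheme.{u}} {K : Type u} [Field K]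
    (ρ : V ⟶ Spec (CommRingCat.of K)) [Etale ρ] (f : F ⟶ V) : Flat f := by
  haveI := isReduced_of_etale_field ρ
  haveI := discreteTopology_of_etale_field ρ
  exact flat_of_no_specializations (fun u u' h => h.eq) f

/-- Every morphism from a sheaf to the spectrum of a field is flat (chartwise). -/
theorem locP_flat_to_field {X : Sp S} {K : Type u} [Field K] (str : Spec (CommRingCat.of K) ⟶ S)
    (f : X ⟶ (yon S).obj (Over.mk str)) : LocP @Flat f := by
  intro U V a b h hae hbe hcomm
  obtain ⟨β, rfl⟩ := (yon S).map_surjective b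
  have hβ : Etale β.left := (repWith_yon_map_iff @Etale β).1 hbe
  exact flat_to_etale_field β.left h.left

/-- The points of the spectrum of a field form a subsingleton. -/
theorem subsingleton_points_field {K : Type u} [Field K] (str : Spec (CommRingCat.of K) ⟶ S) :
    Subsingleton (Points ((yon S).obj (Over.mk str))) := by
  refine ⟨fun x y => ?_⟩
  obtain ⟨x', rfl⟩ := (Points.schemeEquiv (Over.mk str)).surjective x
  obtain ⟨y', rfl⟩ := (Points.schemeEquiv (Over.mk str)).surjective y
  congr 1
  exact Subsingleton.elim (α := PrimeSpectrum K) x' y'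

/-- If `Z` admits a surjective flat morphism from the spectrum of a field, every morphism from
the spectrum of a field to `Z` is flat and surjective. -/
theorem flat_surjective_of_field {Z : Sp S} (hZ : IsAlgSpace Z) {k : Type u} [Field k]
    (str : Spec (CommRingCat.of k) ⟶ S) (p : (yon S).obj (Over.mk str) ⟶ Z)
    (hpf : LocP @Flat p) (hps : IsSurjectiveMor p)
    {k' : Type u} [Field k'] (str' : Spec (CommRingCat.of k') ⟶ S)
    (q : (yon S).obj (Over.mk str') ⟶ Z) : LocP @Flat q ∧ IsSurjectiveMor q := by
  have hsub := subsingleton_points_field str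
  have hsing : ∀ z z' : Points Z, z = z' := by
    intro z z'
    obtain ⟨x, rfl⟩ := hps z
    obtain ⟨x', rfl⟩ := hps z'
    rw [Subsingleton.elim x x']
  have hqs : IsSurjectiveMor q := by
    intro z
    exact ⟨Points.ofScheme _ (IsLocalRing.closedPoint k'), hsing _ _⟩
  refine ⟨?_, hqs⟩
  have sq := IsPullback.of_hasPullback p q
  have hW : IsAlgSpace (pullback p q) :=
    isAlgSpace_of_isPullback hZ.diag (IsAlgSpace.yon_obj _) (IsAlgSpace.yon_obj _) sq
  have h1 : LocP @Flat (pullback.snd p q) :=
    locP_baseChange etLocal_flat (IsAlgSpace.yon_obj _) hZ (IsAlgSpace.yon_obj _) p q _ _ sq hpf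
  have h2 : LocP @Flat (pullback.fst p q ≫ p) :=
    locP_comp etLocal_flat hW (IsAlgSpace.yon_obj _) hZ _ _ (locP_flat_to_field str _) hpf
  rw [pullback.condition] at h2
  refine locP_of_cover_source @Flat @Flat etLocal_flat
    (fun W c h hc hs hch => flat_of_family W c h hc hs hch) (IsAlgSpace.yon_obj _) q
    (fun _ : PUnit.{u+1} => pullback p q) (fun _ => pullback.snd p q) (fun _ => hW) (fun _ => h1)
    ?_ (fun _ => h2)
  intro y
  obtain ⟨x, hx⟩ := hps (Points.map q y)
  obtain ⟨w, -, hw⟩ := exists_of_isPullback sq x y hx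
  exact ⟨PUnit.unit, w, hw⟩

end Groth.Agent.Lib.AlgSpFieldFlat_helper7
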