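import Groth.Agent.Lib.AlgSpLargestOpen_helper7

/-!
# Open and universally open morphisms are fppf local on the source (helper7)
-/

set_option autoImplicit false
universe u
open CategoryTheory CategoryTheory.Limits AlgebraicGeometry Opposite TopologicalSpace

namespace Groth.Agent.Lib.AlgSpOpenSrc_helper7

open AlgSp Groth.Agent.Lib.AlgSpPoints_helper7 Groth.Agent.Lib.AlgSpTop_helper7
  Groth.Agent.Lib.AlgSpPullback_helper7 Groth.Agent.Lib.AlgSpBasic_helper7
  Groth.Agent.Lib.AlgSpLocP3_helper7 Groth.Agent.Lib.AlgSpLargestOpen_helper7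

variable {S : Scheme.{u}}

theorem isOpenMap_of_cover {X Y : Type*} [TopologicalSpace X] [TopologicalSpace Y] {ι : Type*}
    {Xi : ι → Type*} [∀ i, TopologicalSpace (Xi i)] (g : ∀ i, Xi i → X) (f : X → Y)
    (hg : ∀ i, Continuous (g i)) (hs : ∀ x, ∃ i, x ∈ Set.range (g i))
    (h : ∀ i, IsOpenMap (f ∘ g i)) : IsOpenMap f := by
  intro W hW
  have : f '' W = ⋃ i, (f ∘ g i) '' (g i ⁻¹' W) := by
    ext y
    constructor
    · rintro ⟨x, hx, rfl⟩
      obtain ⟨i, z, rfl⟩ := hs x
      exact Set.mem_iUnion.2 ⟨i, z, hx, rfl⟩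
    · intro hy
      obtain ⟨i, z, hz, rfl⟩ := Set.mem_iUnion.1 hy
      exact ⟨g i z, hz, rfl⟩
  rw [this]
  exact isOpen_iUnion fun i => h i _ (hW.preimage (hg i))

theorem map_comp_eq {F G H : Sp S} (f : F ⟶ G) (g : G ⟶ H) :
    Points.map (f ≫ g) = Points.map g ∘ Points.map f :=
  funext fun x => Points.map_comp f g x

/-- Openness on points is local on the source for jointly surjective families. -/
theorem isOpenMor_of_cover {X Y : Sp S} (f : X ⟶ Y) {ι : Type*} (Xi : ι → Sp S)
    (g : ∀ i, Xi i ⟶ X) (hs : ∀ x : Points X, ∃ i, x ∈ Set.range (Points.map (g i)))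
    (h : ∀ i, IsOpenMor (g i ≫ f)) : IsOpenMor f := by
  refine isOpenMap_of_cover (fun i => Points.map (g i)) (Points.map f)
    (fun i => Points.continuous_map (g i)) hs (fun i => ?_)
  rw [← map_comp_eq]
  exact h i

theorem isLocalOnSource_fppf_isOpenMor :
    IsLocalOnSource (IsFppfCover (S := S)) IsOpenMor := by
  intro ι X Xi g hX hXi hcov Y f hY
  constructor
  · intro hf i
    change IsOpenMap (Points.map (g i ≫ f))
    rw [map_comp_eq]
    exact IsOpenMap.comp hf
      (isOpenMap_of_flat_of_lfp (hXi i) hX (g i) (hcov.1 i).1 (hcov.1 i).2)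
  · intro h
    exact isOpenMor_of_cover f Xi g hcov.2 h

theorem isLocalOnSource_fppf_isUnivOpenMor :
    IsLocalOnSource (IsFppfCover (S := S)) IsUnivOpenMor := by
  intro ι X Xi g hX hXi hcov Y f hY
  constructor
  · intro hf i Z Z' hZ c fst snd sq
    have sqP := IsPullback.of_hasPullback f c
    have hP : IsAlgSpace (pullback f c) := isAlgSpace_of_isPullback hY.diag hX hZ sqP
    have hopen : IsOpenMap (Points.map (pullback.snd f c)) := hf hZ c _ _ sqP
    obtain ⟨k, hk1, hk2⟩ : ∃ k : Z' ⟶ pullback f c, k ≫ pullback.fst f c = fst ≫ g i ∧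
        k ≫ pullback.snd f c = snd :=
      ⟨pullback.lift (fst ≫ g i) snd (by rw [Category.assoc]; exact sq.w),
        pullback.lift_fst _ _ _, pullback.lift_snd _ _ _⟩
    have sqL : IsPullback fst k (g i) (pullback.fst f c) := by
      refine IsPullback.of_bot ?_ hk1.symm sqP
      rw [hk2]
      exact sq
    have hgi : IsUnivOpenMor (g i) :=
      isUnivOpenMor_of_flat_of_lfp (hXi i) hX (g i) (hcov.1 i).1 (hcov.1 i).2
    have hkopen : IsOpenMap (Points.map k) := hgi hP (pullback.fst f c) fst k sqL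
    change IsOpenMap (Points.map snd)
    rw [← hk2, map_comp_eq]
    exact hopen.comp hkopen
  · intro h Z Z' hZ c fst snd sq
    refine isOpenMor_of_cover snd (fun i => pullback (g i) fst) (fun i => pullback.snd (g i) fst)
      (fun z' => ?_) (fun i => ?_)
    · obtain ⟨i, xi, hxi⟩ := hcov.2 (Points.map fst z')
      obtain ⟨z, -, hz⟩ := exists_of_isPullback (IsPullback.of_hasPullback (g i) fst) xi z' hxi
      exact ⟨i, z, hz⟩
    · have sqi := (IsPullback.of_hasPullback (g i) fst).paste_vert sq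
      exact h i hZ c _ _ sqi

end Groth.Agent.Lib.AlgSpOpenSrc_helper7
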