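import Groth.Agent.Lib.AlgSpProper_helper7
import Groth.Agent.Lib.AlgSpOpenSrc_helper7
import Groth.Agent.Lib.AlgSpFieldFlat_helper7
import Mathlib.AlgebraicGeometry.Morphisms.Affine

/-!
# Permanence of affine / surjective / universally open morphisms of sheaves (helper7)
-/

set_option autoImplicit false
universe u
open CategoryTheory CategoryTheory.Limits AlgebraicGeometry Opposite

namespace Groth.Agent.Lib.AlgSpAffineMorH7

open AlgSp Groth.Agent.Lib.AlgSpQC2_helper7 Groth.Agent.Lib.AlgSpPoints_helper7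
  Groth.Agent.Lib.AlgSpPullback_helper7 Groth.Agent.Lib.AlgSpProper_helper7
  Groth.Agent.Lib.AlgSpFieldFlat_helper7

variable {S : Scheme.{u}}

theorem isAffineMor_of_isPullback {P X Y Z : Sp S} {fst : P ⟶ X} {snd : P ⟶ Z} {f : X ⟶ Y}
    {g : Z ⟶ Y} (sq : IsPullback fst snd f g) (hf : IsAffineMor f) : IsAffineMor snd := by
  intro Z₁ hZ₁ g₁
  obtain ⟨W, i, fst₁, sq₁, hW⟩ := hf hZ₁ (g₁ ≫ g)
  have hw : fst₁ ≫ f = ((yon S).map i ≫ g₁) ≫ g := by
    rw [Category.assoc]
    exact sq₁.w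
  refine ⟨W, i, sq.lift fst₁ ((yon S).map i ≫ g₁) hw, ?_, hW⟩
  refine IsPullback.of_right ?_ (sq.lift_snd _ _ _) sq
  rw [sq.lift_fst]
  exact sq₁

theorem isAffineMor_comp {X Y B : Sp S} (f : X ⟶ Y) (g : Y ⟶ B) (hf : IsAffineMor f)
    (hg : IsAffineMor g) : IsAffineMor (f ≫ g) := by
  intro Z hZ c
  obtain ⟨W, i, fstW, sq₂, hW⟩ := hg hZ c
  obtain ⟨W', i', fst', sq₁, hW'⟩ := hf hW fstW
  refine ⟨W', i' ≫ i, fst', ?_, hW'⟩
  rw [CategoryTheory.Functor.map_comp]
  exact sq₁.paste_vert sq₂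

theorem isAffineMor_of_isIso {X Y : Sp S} (e : X ⟶ Y) [IsIso e] : IsAffineMor e := by
  intro Z hZ g
  refine ⟨Z, 𝟙 Z, g ≫ inv e, ?_, hZ⟩
  rw [CategoryTheory.Functor.map_id]
  exact IsPullback.of_vert_isIso ⟨by simp⟩

theorem isAffineMor_of_repWith {F G : Sp S} (f : F ⟶ G) (hf : RepWith @IsAffineHom f) :
    IsAffineMor f := by
  intro Z hZ g
  refine ⟨hf.rep.pullback g, hf.rep.snd g, hf.rep.fst g, hf.rep.isPullback g, ?_⟩
  have h1 : IsAffineHom (hf.rep.snd g).left := hf.property_snd g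
  haveI := hZ
  exact isAffine_of_isAffineHom (hf.rep.snd g).left

theorem isAffineMor_yon_map {U V : Over S} (m : U ⟶ V) [h : IsAffineHom m.left] :
    IsAffineMor ((yon S).map m) :=
  isAffineMor_of_repWith _ ((repWith_yon_map_iff @IsAffineHom m).2 h)

instance : (IsOpenMor (S := S)).IsStableUnderComposition where
  comp_mem f g hf hg := by
    show IsOpenMap (Points.map (f ≫ g))
    have : Points.map (f ≫ g) = Points.map g ∘ Points.map f := by
      ext x; exact Points.map_comp f g x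
    rw [this]
    exact IsOpenMap.comp hg hf

theorem isUnivOpenMor_comp {X Y B : Sp S} (hY : IsAlgSpace Y) (hB : Representable (Limits.diag B))
    (f : X ⟶ Y) (g : Y ⟶ B) (hf : IsUnivOpenMor f) (hg : IsUnivOpenMor g) :
    IsUnivOpenMor (f ≫ g) :=
  univSp_comp IsOpenMor hY hB f g hf hg

theorem isSurjectiveMor_comp {X Y Z : Sp S} (f : X ⟶ Y) (g : Y ⟶ Z) (hf : IsSurjectiveMor f)
    (hg : IsSurjectiveMor g) : IsSurjectiveMor (f ≫ g) := by
  intro z
  obtain ⟨y, hy⟩ := hg z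
  obtain ⟨x, hx⟩ := hf y
  exact ⟨x, by rw [Points.map_comp, hx, hy]⟩

theorem isSurjectiveMor_of_section {X Y : Sp S} (f : X ⟶ Y) (e : Y ⟶ X) (h : e ≫ f = 𝟙 Y) :
    IsSurjectiveMor f := by
  intro y
  exact ⟨Points.map e y, by rw [← Points.map_comp, h, Points.map_id]⟩

theorem isSurjectiveMor_of_target_iso_field {X U : Sp S} {k : Type u} [Field k]
    (σ : Spec (CommRingCat.of k) ⟶ S) (eU : U ≅ (yon S).obj (Over.mk σ)) (f : X ⟶ U)
    (x : Points X) : IsSurjectiveMor f := by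
  intro y
  refine ⟨x, ?_⟩
  haveI := subsingleton_points_field σ
  have h1 : Points.map eU.hom (Points.map f x) = Points.map eU.hom y := Subsingleton.elim _ _
  have h2 := congrArg (Points.map eU.inv) h1
  rw [← Points.map_comp eU.hom eU.inv, ← Points.map_comp eU.hom eU.inv, eU.hom_inv_id,
    Points.map_id, Points.map_id] at h2
  exact h2

theorem nonempty_points_of_iso_field {U : Sp S} {k : Type u} [Field k]
    (σ : Spec (CommRingCat.of k) ⟶ S) (eU : U ≅ (yon S).obj (Over.mk σ)) : Nonempty (Points U) := by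
  obtain ⟨p⟩ : Nonempty (PrimeSpectrum k) := inferInstance
  exact ⟨Points.map eU.inv (Points.ofScheme (Over.mk σ) p)⟩

end Groth.Agent.Lib.AlgSpAffineMorH7
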