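import Groth.Agent.Lib.ImmFppf_helper7
import Groth.Agent.Lib.AffDesc8_helper7
import Groth.Agent.Lib.AlgSpAffineMor_helper7
import Groth.Agent.Lib.AlgSpGlue2_helper7

/-!
# Descent along étale charts from the fpqc/fppf locality theorems (helper7)
-/

set_option autoImplicit false
universe u
open CategoryTheory CategoryTheory.Limits AlgebraicGeometry Opposite TopologicalSpace

namespace Groth.Agent.Lib.EtChartsH7

open AlgSp Groth.Agent.Lib.AlgSpPoints_helper7 Groth.Agent.Lib.AlgSpTop_helper7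
  Groth.Agent.Lib.AlgSpPullback_helper7 Groth.Agent.Lib.AlgSpBasic_helper7
  Groth.Agent.Lib.AlgSpOpen_helper7 Groth.Agent.Lib.AlgSpOpenSub_helper7
  Groth.Agent.Lib.AlgSpSmST_helper7 Groth.Agent.Lib.AlgSpLocP4_helper7
  Groth.Agent.Lib.AlgSpLocP10_helper7 Groth.Agent.Lib.AlgSpLocP7_helper7
  Groth.Agent.Lib.AlgSpEtale_helper7 Groth.Agent.Lib.AlgSpLocP3_helper7
  Groth.Agent.Lib.AlgSpLargestOpen_helper7 Groth.Agent.Lib.AlgSpFpqc3_helper7
  Groth.Agent.Lib.AffDescH7 Groth.Agent.Lib.AlgSpQC_helper7 Groth.Agent.Lib.AlgSpGlue2H7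
  Groth.Agent.Lib.AlgSpAffineMorH7

variable {S : Scheme.{u}}

theorem isLocalOnBase_fppf_of_fpqc {Pm : MorphismProperty (Sp S)}
    (h : IsLocalOnBase (IsFpqcCover (S := S)) Pm) : IsLocalOnBase (IsFppfCover (S := S)) Pm := by
  intro ι Y Yi g hY hYi hcov X f hX Xi p q hXi sqs
  exact h Yi g hY hYi (isFpqcCover_of_isFppfCover hY Yi g hYi hcov) f hX Xi p q hXi sqs

theorem flat_lfp_of_repWith_etale {U : Over S} {B : Sp S} (a : (yon S).obj U ⟶ B)
    (hae : RepWith @Etale a) : LocP @Flat a ∧ LocP @LocallyOfFinitePresentation a := by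
  have hEt : IsEtaleMor a := fun _ φ hφ => repWith_comp @Etale hφ hae
  exact ⟨locP_of_isEtaleMor _ (fun _ _ k _ => (inferInstance : Flat k)) a hEt,
    locP_of_isEtaleMor _ (fun _ _ k _ => (inferInstance : LocallyOfFinitePresentation k)) a hEt⟩

theorem isFppfCover_of_etale_charts {Y : Sp S} {ι : Type u} (V : ι → Over S)
    (p : ∀ i, (yon S).obj (V i) ⟶ Y) (hp : ∀ i, RepWith @Etale (p i))
    (hs : ∀ y : Points Y, ∃ i, y ∈ Set.range (Points.map (p i))) :
    IsFppfCover (fun i => (yon S).obj (V i)) p :=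
  ⟨fun i => flat_lfp_of_repWith_etale (p i) (hp i), hs⟩

theorem isFppfCover_of_etale_chart {Y : Sp S} (V : Over S) (p : (yon S).obj V ⟶ Y)
    (hp : RepWith @Etale p) (hps : RepWith @Surjective p) :
    IsFppfCover (fun _ : PUnit.{u + 1} => (yon S).obj V) (fun _ => p) := by
  refine isFppfCover_of_etale_charts (fun _ => V) (fun _ => p) (fun _ => hp) (fun y => ?_)
  obtain ⟨u, hu⟩ := ofPt_surjective p hps y
  rw [Points.ofPt_eq_map_ofScheme] at hu
  exact ⟨PUnit.unit, _, hu⟩

/-- A property fppf local on the base descends along a surjective étale chart. -/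
theorem of_etale_chart {Pm : MorphismProperty (Sp S)}
    (hloc : IsLocalOnBase (IsFppfCover (S := S)) Pm) {X Y : Sp S} (hX : IsAlgSpace X)
    (hY : IsAlgSpace Y) (f : X ⟶ Y) (V : Over S) (p : (yon S).obj V ⟶ Y) (hp : RepWith @Etale p)
    (hps : RepWith @Surjective p) {P : Sp S} (fst : P ⟶ X) (snd : P ⟶ (yon S).obj V)
    (sq : IsPullback fst snd f p) (h : Pm snd) : Pm f :=
  (hloc (fun _ : PUnit.{u + 1} => (yon S).obj V) (fun _ => p) hY (fun _ => IsAlgSpace.yon_obj V)
    (isFppfCover_of_etale_chart V p hp hps) f hX (fun _ => P) (fun _ => snd) (fun _ => fst)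
    (fun _ => isAlgSpace_of_isPullback hY.diag hX (IsAlgSpace.yon_obj V) sq) (fun _ => sq)).2
    (fun _ => h)

theorem representable_of_isQuasiAffineMor {X Y : Sp S} (f : X ⟶ Y) (h : IsQuasiAffineMor f) :
    Representable f :=
  (repWith_of_affine_local (⊤ : MorphismProperty Scheme.{u}) f (fun Z hZ g => by
    obtain ⟨W, i, fst, sq, -⟩ := h hZ g
    exact ⟨W, i, fst, sq, trivial⟩)).rep

/-- If `X ×_Y V` is an affine scheme for every affine scheme `V` étale over `Y`, then `f` is affine. -/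
theorem isAffineMor_of_affine_etale_charts {X Y : Sp S} (hX : IsAlgSpace X) (hY : IsAlgSpace Y)
    (f : X ⟶ Y)
    (h : ∀ (V : Over S), IsAffine V.left → ∀ (b : (yon S).obj V ⟶ Y), RepWith @Etale b →
      ∀ (P : Sp S) (fst : P ⟶ X) (snd : P ⟶ (yon S).obj V), IsPullback fst snd f b →
      ∃ (W : Over S), IsAffine W.left ∧ Nonempty ((yon S).obj W ≅ P)) :
    IsAffineMor f := by
  obtain ⟨U, a, hae, has⟩ := hY.atlas
  let 𝒰 := U.left.affineCover
  let V : 𝒰.I₀ → Over S := fun l => Over.mk (𝒰.f l ≫ U.hom)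
  let ιl : ∀ l, V l ⟶ U := fun l => Over.homMk (𝒰.f l) rfl
  let b : ∀ l, (yon S).obj (V l) ⟶ Y := fun l => (yon S).map (ιl l) ≫ a
  have hVaff : ∀ l, IsAffine (V l).left := fun l => by
    change IsAffine (𝒰.X l)
    infer_instance
  have hbe : ∀ l, RepWith @Etale (b l) := fun l => by
    refine repWith_comp @Etale ((repWith_yon_map_iff @Etale (ιl l)).2 ?_) hae
    change Etale (𝒰.f l)
    infer_instance
  have hcov : IsFppfCover (fun l => (yon S).obj (V l)) b := by
    refine isFppfCover_of_etale_charts V b hbe (fun y => ?_)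
    obtain ⟨u, hu⟩ := ofPt_surjective a has y
    obtain ⟨l, u', hu'⟩ := 𝒰.exists_eq u
    refine ⟨l, Points.ofScheme (V l) u', ?_⟩
    rw [← Points.ofPt_eq_map_ofScheme, ofPt_comp, ← hu]
    congr 1
  refine (isLocalOnBase_fppf_of_fpqc isLocalOnBase_fpqc_isAffineMor
    (fun l => (yon S).obj (V l)) b hY (fun _ => IsAlgSpace.yon_obj _) hcov f hX
    (fun l => pullback f (b l)) (fun l => pullback.snd f (b l)) (fun l => pullback.fst f (b l))
    (fun l => isAlgSpace_of_isPullback hY.diag hX (IsAlgSpace.yon_obj _)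
      (IsPullback.of_hasPullback f (b l)))
    (fun l => IsPullback.of_hasPullback f (b l))).2 (fun l => ?_)
  obtain ⟨W, hW, ⟨e⟩⟩ := h (V l) (hVaff l) (b l) (hbe l) _ _ _ (IsPullback.of_hasPullback f (b l))
  obtain ⟨w, hw⟩ := (yon S).map_surjective (e.hom ≫ pullback.snd f (b l))
  haveI := hW
  haveI := hVaff l
  haveI : IsAffineHom w.left := inferInstance
  have h1 : IsAffineMor ((yon S).map w) := isAffineMor_yon_map w
  have h2 : pullback.snd f (b l) = e.inv ≫ (yon S).map w := by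
    rw [hw, Iso.inv_hom_id_assoc]
  rw [h2]
  exact isAffineMor_comp _ _ (isAffineMor_of_isIso e.inv) h1

end Groth.Agent.Lib.EtChartsH7
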