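import Groth.Agent.Lib.AlgSpFormal4_helper7

/-!
# Lifting along first order thickenings of algebraic spaces: existence (helper7)
-/

set_option autoImplicit false
universe u
open CategoryTheory CategoryTheory.Limits AlgebraicGeometry Opposite MorphismProperty
open AlgSp Groth.Agent.Lib.FormalEtale_helper7 Groth.Agent.Lib.AlgSpCov_helper7
  Groth.Agent.Lib.AlgSpOpenSub_helper7 Groth.Agent.Lib.AlgSpPullback_helper7
  Groth.Agent.Lib.AlgSpIso_helper7 Groth.Agent.Lib.AlgSpInfLift_helper6
  Groth.Agent.Lib.AlgSpQC_helper7 Groth.Agent.Lib.AlgSpPoints_helper7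
  Groth.Agent.Lib.AlgSpFormal_helper7 Groth.Agent.Lib.AlgSpFormal2_helper7
  Groth.Agent.Lib.AlgSpFormal3_helper7 Groth.Agent.Lib.AlgSpEpi_helper7

namespace Groth.Agent.Lib.AlgSpFormal5_helper7

variable {S : Scheme.{u}}

theorem effectiveEpi_of_epi {A B : Sp S} (p : A ⟶ B) [Epi p] : EffectiveEpi p := by
  rw [← isRegularEpi_iff_effectiveEpi]
  exact IsRegularEpiCategory.regularEpiOfEpi p

/-- maps out of a sheaf are determined on representable points -/
theorem hom_ext_yon {Z X : Sp S} (u v : Z ⟶ X)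
    (h : ∀ (V : Over S) (x : (yon S).obj V ⟶ Z), x ≫ u = x ≫ v) : u = v := by
  apply ObjectProperty.hom_ext
  ext V z
  have e := congrArg yE (h V.unop (yE.symm z))
  rw [yE_comp, yE_comp, Equiv.apply_symm_apply] at e
  exact e

/-- The affine étale chart data of a first order thickening, with the pullback square. -/
theorem exists_affine_thickening_chart' {T T' : Sp S} (j : T ⟶ T') (hj : IsFOThickMor j)
    {R : CommRingCat.{u}} (str : Spec R ⟶ S) (r : (yon S).obj (Over.mk str) ⟶ T')
    (hre : RepWith @Etale r) :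
    ∃ (K : Ideal R) (_ : K ^ 2 = ⊥)
      (t : (yon S).obj (Over.mk (thk K ≫ str)) ⟶ T),
      IsPullback t
        ((yon S).map (Over.homMk (thk K) rfl : Over.mk (thk K ≫ str) ⟶ Over.mk str)) j r := by
  let Wk := hj.1.rep.pullback r
  let snd : Wk ⟶ Over.mk str := hj.1.rep.snd r
  let fst : (yon S).obj Wk ⟶ T := hj.1.rep.fst r
  have hpb : IsPullback fst ((yon S).map snd) j r := hj.1.rep.isPullback r
  have hthick : thick snd.left := hj.1.property_snd r
  have haff : IsAffine (Over.mk str).left := by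
    change IsAffine (Spec R)
    infer_instance
  have hsq : sqZero snd.left := hj.2 r fst snd haff hre hpb
  haveI : IsClosedImmersion snd.left := hthick.1
  obtain ⟨K, e, he⟩ := IsClosedImmersion.Spec_iff.1 (inferInstance : IsClosedImmersion snd.left)
  have he' : snd.left = e.hom ≫ thk K := he
  have hK : K ^ 2 = ⊥ := by
    apply pow_zero_of_ker_thk
    have h1 : snd.left.ker ^ 2 = ⊥ := by rw [pow_two]; exact hsq
    rw [he', Scheme.Hom.ker_comp_of_isIso] at h1
    exact h1
  let e' : Over.mk (thk K ≫ str) ≅ Wk := Over.isoMk e.symm (by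
    have hw := Over.w snd
    change e.inv ≫ Wk.hom = thk K ≫ str
    rw [← hw, he', Category.assoc, Iso.inv_hom_id_assoc]
    rfl)
  have he's : e'.hom ≫ snd = (Over.homMk (thk K) rfl : Over.mk (thk K ≫ str) ⟶ Over.mk str) := by
    ext
    change e.inv ≫ snd.left = thk K
    rw [he', Iso.inv_hom_id_assoc]
  refine ⟨K, hK, (yon S).map e'.hom ≫ fst, ?_⟩
  have hleft : IsPullback ((yon S).map e'.hom)
      ((yon S).map (Over.homMk (thk K) rfl : Over.mk (thk K ≫ str) ⟶ Over.mk str))
      ((yon S).map snd) (𝟙 _) :=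
    IsPullback.of_horiz_isIso ⟨by rw [Category.comp_id, ← Functor.map_comp, he's]⟩
  have := hleft.paste_horiz hpb
  rwa [Category.id_comp] at this

section Lift

variable {X Y T T' : Sp S} (f : X ⟶ Y) (j : T ⟶ T') (a : T ⟶ X) (b : T' ⟶ Y)

/-- `m` is a solution of the lifting problem over the chart `r`. -/
structure IsLiftOn {V : Over S} (r : (yon S).obj V ⟶ T') (m : (yon S).obj V ⟶ X) : Prop where
  bot : m ≫ f = r ≫ b
  top : ∀ (Z : Over S) (g : (yon S).obj Z ⟶ T) (g' : Z ⟶ V), g ≫ j = (yon S).map g' ≫ r →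
    (yon S).map g' ≫ m = g ≫ a

variable {f j a b}

lemma IsLiftOn.restrict {V V' : Over S} {r : (yon S).obj V ⟶ T'} {m : (yon S).obj V ⟶ X}
    (h : IsLiftOn f j a b r m) (d : V' ⟶ V) :
    IsLiftOn f j a b ((yon S).map d ≫ r) ((yon S).map d ≫ m) := by
  constructor
  · rw [Category.assoc, h.bot, Category.assoc]
  · intro Z g g' hg
    rw [yon_comp_assoc]
    exact h.top Z g (g' ≫ d) (by rw [hg, yon_comp_assoc])

lemma IsLiftOn.congr {V : Over S} {r r' : (yon S).obj V ⟶ T'} {m : (yon S).obj V ⟶ X}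
    (h : IsLiftOn f j a b r m) (e : r = r') : IsLiftOn f j a b r' m := e ▸ h

/-- uniqueness of solutions over étale scheme charts -/
theorem IsLiftOn.unique (hf : IsFormallyUnramifiedMor f) (hj : IsFOThickMor j)
    (w : a ≫ f = j ≫ b) {V : Over S} {r : (yon S).obj V ⟶ T'} (hre : RepWith @Etale r)
    {m m' : (yon S).obj V ⟶ X} (h : IsLiftOn f j a b r m) (h' : IsLiftOn f j a b r m') :
    m = m' := by
  let 𝒲 := V.left.affineOpenCover
  let Tk : 𝒲.I₀ → Over S := fun k => Over.mk (𝒲.f k ≫ V.hom)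
  let c : ∀ k, Tk k ⟶ V := fun k => Over.homMk (𝒲.f k) rfl
  have hoi : ∀ k, IsOpenImmersion (c k).left := fun k => 𝒲.map_prop k
  refine hom_ext_of_fppf_family Tk c (fun k => ?_) (fun k => ?_) (fun t => ?_) m m' fun k => ?_
  · haveI := hoi k; infer_instance
  · haveI := hoi k; infer_instance
  · obtain ⟨k, y, rfl⟩ := 𝒲.openCover.exists_eq t
    exact ⟨k, y, rfl⟩
  let rk : (yon S).obj (Tk k) ⟶ T' := (yon S).map (c k) ≫ r
  have hrke : RepWith @Etale rk := by
    haveI := hoi k
    exact repWith_comp _ ((repWith_yon_map_iff _ _).2 (inferInstance : Etale (c k).left)) hre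
  obtain ⟨K, hK, t, ht⟩ := exists_affine_thickening_chart j hj (𝒲.f k ≫ V.hom) rk hrke
  let jK : Over.mk (thk K ≫ 𝒲.f k ≫ V.hom) ⟶ Tk k := Over.homMk (thk K) rfl
  have ht' : t ≫ j = (yon S).map (jK ≫ c k) ≫ r := by
    rw [ht, ← yon_comp_assoc]
  let sq : InfSq f :=
    { A := 𝒲.X k, I := K, sq_zero := hK, str := 𝒲.f k ≫ V.hom,
      top := t ≫ a,
      bot := rk ≫ b,
      comm := (Category.assoc _ _ _).trans ((congrArg (t ≫ ·) w).trans
        ((Category.assoc _ _ _).symm.trans ((congrArg (· ≫ b) ht).trans (Category.assoc _ _ _)))) }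
  have key := hf sq ((yon S).map (c k) ≫ m) ((yon S).map (c k) ≫ m')
    (by
      change (yon S).map jK ≫ (yon S).map (c k) ≫ m = t ≫ a
      rw [yon_comp_assoc]
      exact h.top _ t (jK ≫ c k) ht')
    (by
      change ((yon S).map (c k) ≫ m) ≫ f = ((yon S).map (c k) ≫ r) ≫ b
      rw [Category.assoc, h.bot, Category.assoc])
    (by
      change (yon S).map jK ≫ (yon S).map (c k) ≫ m' = t ≫ a
      rw [yon_comp_assoc]
      exact h'.top _ t (jK ≫ c k) ht')
    (by
      change ((yon S).map (c k) ≫ m') ≫ f = ((yon S).map (c k) ≫ r) ≫ b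
      rw [Category.assoc, h'.bot, Category.assoc])
  exact key

/-- existence of solutions over affine étale charts -/
theorem exists_isLiftOn_affine (hf : IsFormallySmoothMor f) (hj : IsFOThickMor j)
    (w : a ≫ f = j ≫ b) {R : CommRingCat.{u}} (str : Spec R ⟶ S)
    (r : (yon S).obj (Over.mk str) ⟶ T') (hre : RepWith @Etale r) :
    ∃ m, IsLiftOn f j a b r m := by
  obtain ⟨K, hK, t, hP⟩ := exists_affine_thickening_chart' j hj str r hre
  let jK : Over.mk (thk K ≫ str) ⟶ Over.mk str := Over.homMk (thk K) rfl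
  let sq : InfSq f :=
    { A := R, I := K, sq_zero := hK, str := str,
      top := t ≫ a,
      bot := r ≫ b,
      comm := (Category.assoc _ _ _).trans ((congrArg (t ≫ ·) w).trans
        ((Category.assoc _ _ _).symm.trans ((congrArg (· ≫ b) hP.w).trans
          (Category.assoc _ _ _)))) }
  obtain ⟨m, hm1, hm2⟩ := hf sq
  have hm1' : (yon S).map jK ≫ m = t ≫ a := hm1
  have hm2' : m ≫ f = r ≫ b := hm2
  refine ⟨m, hm2', fun Z g g' hg => ?_⟩
  have e1 : hP.lift g ((yon S).map g') hg ≫ t = g := hP.lift_fst _ _ _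
  have e2 : hP.lift g ((yon S).map g') hg ≫ (yon S).map jK = (yon S).map g' := hP.lift_snd _ _ _
  rw [← e2, Category.assoc, hm1', ← Category.assoc, e1]

/-- solutions can be checked Zariski locally on the chart -/
theorem isLiftOn_of_openCover {V : Over S} (r : (yon S).obj V ⟶ T') (m : (yon S).obj V ⟶ X)
    (𝒲 : Scheme.OpenCover.{u} V.left)
    (h : ∀ k, IsLiftOn f j a b
      ((yon S).map (Over.homMk (𝒲.f k) rfl : Over.mk (𝒲.f k ≫ V.hom) ⟶ V) ≫ r)
      ((yon S).map (Over.homMk (𝒲.f k) rfl : Over.mk (𝒲.f k ≫ V.hom) ⟶ V) ≫ m)) :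
    IsLiftOn f j a b r m := by
  let Tk : 𝒲.I₀ → Over S := fun k => Over.mk (𝒲.f k ≫ V.hom)
  let c : ∀ k, Tk k ⟶ V := fun k => Over.homMk (𝒲.f k) rfl
  have hoi : ∀ k, IsOpenImmersion (c k).left := fun k => 𝒲.map_prop k
  constructor
  · refine hom_ext_of_fppf_family Tk c (fun k => ?_) (fun k => ?_) (fun t => ?_) _ _ fun k => ?_
    · haveI := hoi k; infer_instance
    · haveI := hoi k; infer_instance
    · obtain ⟨k, y, rfl⟩ := 𝒲.exists_eq t
      exact ⟨k, y, rfl⟩
    have := (h k).bot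
    rw [Category.assoc, Category.assoc] at this
    exact this
  · intro Z g g' hg
    let 𝒵 := 𝒲.pullback₁ g'.left
    let Zk : 𝒲.I₀ → Over S := fun k => Over.mk (𝒵.f k ≫ Z.hom)
    let ck : ∀ k, Zk k ⟶ Z := fun k => Over.homMk (𝒵.f k) rfl
    have hoiZ : ∀ k, IsOpenImmersion (ck k).left := fun k => Scheme.Cover.map_prop 𝒵 k
    refine hom_ext_of_fppf_family Zk ck (fun k => ?_) (fun k => ?_) (fun t => ?_) _ _ fun k => ?_
    · haveI := hoiZ k; infer_instance
    · haveI := hoiZ k; infer_instance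
    · obtain ⟨k, y, rfl⟩ := Scheme.Cover.exists_eq 𝒵 t
      exact ⟨k, y, rfl⟩
    let dk : Zk k ⟶ Tk k := Over.homMk (pullback.snd g'.left (𝒲.f k)) (by
      change pullback.snd g'.left (𝒲.f k) ≫ 𝒲.f k ≫ V.hom = pullback.fst g'.left (𝒲.f k) ≫ Z.hom
      rw [← Over.w g', ← Category.assoc, ← pullback.condition, Category.assoc])
    have hcd : ck k ≫ g' = dk ≫ c k := by
      ext
      exact pullback.condition
    have h1 := (h k).top (Zk k) ((yon S).map (ck k) ≫ g) dk (by
      rw [Category.assoc, hg, yon_comp_assoc, yon_comp_assoc, hcd])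
    rw [yon_comp_assoc, hcd, ← yon_comp_assoc, h1, Category.assoc]

/-- existence of lifts along first order thickenings of algebraic spaces -/
theorem exists_lift_of_FOThick (hT' : IsAlgSpace T') (hf : IsFormallyEtaleMor f)
    (hj : IsFOThickMor j) (w : a ≫ f = j ≫ b) : ∃ l : T' ⟶ X, j ≫ l = a ∧ l ≫ f = b := by
  have hfs := ((isFormallyEtaleMor_iff f).1 hf).1
  have hfu := ((isFormallyEtaleMor_iff f).1 hf).2
  obtain ⟨U, p, hpe, hps⟩ := hT'.atlas
  haveI hpepi : Epi p := epi_of_atlas p hpe hps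
  let 𝒲 := U.left.affineOpenCover
  let Tk : 𝒲.I₀ → Over S := fun k => Over.mk (𝒲.f k ≫ U.hom)
  let c : ∀ k, Tk k ⟶ U := fun k => Over.homMk (𝒲.f k) rfl
  have hoi : ∀ k, IsOpenImmersion (c k).left := fun k => 𝒲.map_prop k
  have hrke : ∀ k, RepWith @Etale ((yon S).map (c k) ≫ p) := fun k => by
    haveI := hoi k
    exact repWith_comp _ ((repWith_yon_map_iff _ _).2 (inferInstance : Etale (c k).left)) hpe
  have hex : ∀ k, ∃ m, IsLiftOn f j a b ((yon S).map (c k) ≫ p) m := fun k =>
    exists_isLiftOn_affine hfs hj w (𝒲.f k ≫ U.hom) _ (hrke k)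
  choose lk hlk using hex
  have hcompat : ∀ (i k : 𝒲.I₀) (Z : Over S) (gi : Z ⟶ Tk i) (gk : Z ⟶ Tk k),
      gi ≫ c i = gk ≫ c k → (yon S).map gi ≫ lk i = (yon S).map gk ≫ lk k := by
    intro i k Z gi gk hgik
    let Vik : Over S := Over.mk (pullback.fst (c i).left (c k).left ≫ (Tk i).hom)
    let ei : Vik ⟶ Tk i := Over.homMk (pullback.fst (c i).left (c k).left) rfl
    let ek : Vik ⟶ Tk k := Over.homMk (pullback.snd (c i).left (c k).left) (by
      change pullback.snd (c i).left (c k).left ≫ (Tk k).hom =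
        pullback.fst (c i).left (c k).left ≫ (Tk i).hom
      rw [← Over.w (c i), ← Over.w (c k), ← Category.assoc, ← Category.assoc, pullback.condition])
    let z : Z ⟶ Vik := Over.homMk (pullback.lift gi.left gk.left (congrArg (fun q => q.left) hgik))
      (by
        change pullback.lift gi.left gk.left _ ≫ pullback.fst (c i).left (c k).left ≫ (Tk i).hom =
          Z.hom
        rw [← Category.assoc, pullback.lift_fst]
        exact Over.w gi)
    have hzi : gi = z ≫ ei := by
      ext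
      exact (pullback.lift_fst _ _ _).symm
    have hzk : gk = z ≫ ek := by
      ext
      exact (pullback.lift_snd _ _ _).symm
    have heik : ei ≫ c i = ek ≫ c k := by
      ext
      exact pullback.condition
    have hre : RepWith @Etale ((yon S).map ei ≫ (yon S).map (c i) ≫ p) := by
      haveI := hoi i
      haveI := hoi k
      have : Etale ei.left := by
        change Etale (pullback.fst (c i).left (c k).left)
        infer_instance
      exact repWith_comp _ ((repWith_yon_map_iff _ _).2 this) (hrke i)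
    have h1 := (hlk i).restrict ei
    have h2 : IsLiftOn f j a b ((yon S).map ei ≫ (yon S).map (c i) ≫ p)
        ((yon S).map ek ≫ lk k) :=
      ((hlk k).restrict ek).congr (by rw [yon_comp_assoc, yon_comp_assoc, heik])
    have := h1.unique hfu hj w hre h2
    rw [hzi, hzk, ← yon_comp_assoc, ← yon_comp_assoc, this]
  obtain ⟨m, hm⟩ := desc_of_cover Tk c (ofArrows_mem_J Tk c
    (fun k => by haveI := hoi k; infer_instance) (fun k => by haveI := hoi k; infer_instance)
    (fun t => by
      obtain ⟨k, y, rfl⟩ := 𝒲.openCover.exists_eq t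
      exact ⟨k, y, rfl⟩)) lk hcompat
  have hmL : IsLiftOn f j a b p m :=
    isLiftOn_of_openCover p m 𝒲.openCover fun k => by
      have := hlk k
      rw [← hm k] at this
      exact this
  -- descend along the atlas
  haveI : EffectiveEpi p := effectiveEpi_of_epi p
  let R := hpe.rep.pullback p
  let fstR : (yon S).obj R ⟶ (yon S).obj U := hpe.rep.fst p
  let sndR : R ⟶ U := hpe.rep.snd p
  have hR : IsPullback fstR ((yon S).map sndR) p p := hpe.rep.isPullback p
  obtain ⟨φ₁, hφ₁⟩ := (yon S).map_surjective fstR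
  have hsndE : RepWith @Etale ((yon S).map sndR ≫ p) :=
    repWith_comp _ ((repWith_yon_map_iff _ _).2 (hpe.property_snd p)) hpe
  have hRm : fstR ≫ m = (yon S).map sndR ≫ m := by
    have h1 : IsLiftOn f j a b ((yon S).map sndR ≫ p) (fstR ≫ m) := by
      have h0 : IsLiftOn f j a b ((yon S).map sndR ≫ p) ((yon S).map φ₁ ≫ m) :=
        (hmL.restrict φ₁).congr (by rw [hφ₁]; exact hR.w)
      rwa [hφ₁] at h0
    exact h1.unique hfu hj w hsndE (hmL.restrict sndR)
  have hdesc : ∀ {Z : Sp S} (g₁ g₂ : Z ⟶ (yon S).obj U), g₁ ≫ p = g₂ ≫ p → g₁ ≫ m = g₂ ≫ m := by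
    intro Z g₁ g₂ hg
    apply hom_ext_yon
    intro V x
    obtain ⟨γ₂, hγ₂⟩ := (yon S).map_surjective (x ≫ g₂)
    have hcond : (x ≫ g₁) ≫ p = (yon S).map γ₂ ≫ p := by
      rw [hγ₂, Category.assoc, Category.assoc, hg]
    have e1 : (yon S).map (hpe.rep.lift (x ≫ g₁) γ₂ hcond) ≫ fstR = x ≫ g₁ :=
      hpe.rep.lift_fst _ _ _
    have e2 : hpe.rep.lift (x ≫ g₁) γ₂ hcond ≫ sndR = γ₂ := hpe.rep.lift_snd _ _ _
    rw [← Category.assoc, ← e1, Category.assoc, hRm, yon_comp_assoc, e2, hγ₂, Category.assoc]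
  refine ⟨EffectiveEpi.desc p m hdesc, ?_, ?_⟩
  · apply hom_ext_yon
    intro V x
    let P' := hpe.rep.pullback (x ≫ j)
    let fst' : (yon S).obj P' ⟶ (yon S).obj U := hpe.rep.fst (x ≫ j)
    let snd' : P' ⟶ V := hpe.rep.snd (x ≫ j)
    have hP' : IsPullback fst' ((yon S).map snd') p (x ≫ j) := hpe.rep.isPullback (x ≫ j)
    have hse : Etale snd'.left := hpe.property_snd (x ≫ j)
    have hss : Surjective snd'.left := hps.property _ _ _ hP'
    haveI : Epi ((yon S).map snd') :=
      epi_yon_map snd' hss inferInstance inferInstance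
    rw [← cancel_epi ((yon S).map snd')]
    obtain ⟨φ, hφ⟩ := (yon S).map_surjective fst'
    have h1 := hmL.top P' ((yon S).map snd' ≫ x) φ (by
      rw [hφ, hP'.w, Category.assoc])
    rw [hφ] at h1
    calc (yon S).map snd' ≫ x ≫ j ≫ EffectiveEpi.desc p m hdesc
        = (fst' ≫ p) ≫ EffectiveEpi.desc p m hdesc := by
          rw [hP'.w, Category.assoc, Category.assoc]
      _ = fst' ≫ m := by rw [Category.assoc, EffectiveEpi.fac]
      _ = (yon S).map snd' ≫ x ≫ a := by rw [h1, Category.assoc]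
  · rw [← cancel_epi p, ← Category.assoc, EffectiveEpi.fac]
    exact hmL.bot

end Lift

end Groth.Agent.Lib.AlgSpFormal5_helper7
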