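import Mathlib
import Groth.Agent.Lib.AlgSpFormal5_helper7
import Groth.Agent.Lib.AlgSpSmST_helper7

/-!
# Gluing morphisms from an algebraic space into a sheaf along an fppf covering (helper7)
-/

set_option autoImplicit false
universe u
open CategoryTheory CategoryTheory.Limits AlgebraicGeometry Opposite
open AlgSp Groth.Agent.Lib.AlgSpPoints_helper7 Groth.Agent.Lib.AlgSpPullback_helper7
  Groth.Agent.Lib.AlgSpOpenSub_helper7 Groth.Agent.Lib.AlgSpCov_helper7
  Groth.Agent.Lib.AlgSpFormal_helper7 Groth.Agent.Lib.AlgSpFormal3_helper7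
  Groth.Agent.Lib.AlgSpFormal5_helper7

namespace Groth.Agent.Lib.FppfGlue_helper7

variable {S : Scheme.{u}}

/-- Maps out of `h_T` into a sheaf are determined on a covering sieve. -/
theorem hom_ext_of_sieve {T : Over S} (R : Sieve T) (hR : R ∈ J S T) {F : Sp S}
    (u v : (yon S).obj T ⟶ F)
    (h : ∀ ⦃T' : Over S⦄ (φ : T' ⟶ T), R φ → (yon S).map φ ≫ u = (yon S).map φ ≫ v) :
    u = v := by
  apply (yE (X := F) (T := T)).injective
  have hF : Presieve.IsSheaf (J S) F.obj := (isSheaf_iff_isSheaf_of_type _ _).1 F.property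
  refine (hF R hR).isSeparatedFor.ext ?_
  intro Y f hf
  have e1 := yE_symm_map f (yE u)
  have e2 := yE_symm_map f (yE v)
  rw [Equiv.symm_apply_apply] at e1 e2
  have := congrArg yE ((e1.symm.trans (h f hf)).trans e2)
  simpa using this

section Glue

variable {X : Sp S} (hX : IsAlgSpace X) {ι : Type u} (Xi : ι → Sp S)
  (hXi : ∀ i, IsAlgSpace (Xi i)) (g : ∀ i, Xi i ⟶ X) (hcov : IsFppfCover Xi g)

include hX hXi hcov in
/-- An fppf covering of an algebraic space by algebraic spaces is jointly epimorphic. -/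
theorem hom_ext_of_fppfCover {Z : Sp S} (m m' : X ⟶ Z) (hm : ∀ i, g i ≫ m = g i ≫ m') :
    m = m' := by
  apply hom_ext_yon
  intro T t
  obtain ⟨Tk, c, l, hc, -, -, -, hl⟩ := exists_fppf_local_lift hX Xi hXi g hcov T t
  apply hom_ext_of_cover Tk c hc
  intro k
  rw [← Category.assoc, ← Category.assoc, ← hl k, Category.assoc, Category.assoc, hm k]

variable {Z : Sp S} (a : ∀ i, Xi i ⟶ Z)

/-- `z` is the value at `t` of the glued map. -/
def IsVal {T : Over S} (t : (yon S).obj T ⟶ X) (z : (yon S).obj T ⟶ Z) : Prop :=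
  ∀ (T' : Over S) (ψ : T' ⟶ T) (i : ι) (x : (yon S).obj T' ⟶ Xi i),
    x ≫ g i = (yon S).map ψ ≫ t → (yon S).map ψ ≫ z = x ≫ a i

variable (hcompat : ∀ (i j : ι) (T : Over S) (x : (yon S).obj T ⟶ Xi i)
    (y : (yon S).obj T ⟶ Xi j), x ≫ g i = y ≫ g j → x ≫ a i = y ≫ a j)

include hX hXi hcov hcompat in
theorem exists_isVal {T : Over S} (t : (yon S).obj T ⟶ X) : ∃ z, IsVal Xi g a t z := by
  obtain ⟨Tk, c, l, hc, -, -, -, hl⟩ := exists_fppf_local_lift hX Xi hXi g hcov T t
  obtain ⟨z, hz⟩ := desc_of_cover Tk c hc (fun k => l k ≫ a k) (fun i j Z' gi gj hg => by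
    show (yon S).map gi ≫ l i ≫ a i = (yon S).map gj ≫ l j ≫ a j
    rw [← Category.assoc, ← Category.assoc]
    apply hcompat
    rw [Category.assoc, Category.assoc, hl i, hl j, ← Category.assoc, ← Category.assoc,
      ← Functor.map_comp, ← Functor.map_comp, hg])
  refine ⟨z, fun T' ψ i x hx => ?_⟩
  apply hom_ext_of_sieve ((Sieve.ofArrows Tk c).pullback ψ) ((J S).pullback_stable ψ hc)
  intro T'' χ hχ
  obtain ⟨k, ρ, hρ⟩ := (Sieve.mem_ofArrows_iff Tk c _).1 hχ
  have h1 : (yon S).map χ ≫ (yon S).map ψ ≫ z = (yon S).map ρ ≫ l k ≫ a k := by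
    rw [← Category.assoc, ← Functor.map_comp, hρ, Functor.map_comp, Category.assoc, hz k]
  have h2 : ((yon S).map χ ≫ x) ≫ a i = ((yon S).map ρ ≫ l k) ≫ a k := by
    apply hcompat
    rw [Category.assoc, hx, ← Category.assoc, ← Functor.map_comp, hρ, Functor.map_comp,
      Category.assoc, Category.assoc, hl k]
  rw [h1, ← Category.assoc, ← h2, Category.assoc]

include hX hXi hcov in
theorem isVal_unique {T : Over S} {t : (yon S).obj T ⟶ X} {z z' : (yon S).obj T ⟶ Z}
    (hz : IsVal Xi g a t z) (hz' : IsVal Xi g a t z') : z = z' := by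
  obtain ⟨Tk, c, l, hc, -, -, -, hl⟩ := exists_fppf_local_lift hX Xi hXi g hcov T t
  apply hom_ext_of_cover Tk c hc
  intro k
  rw [hz _ (c k) k (l k) (hl k), hz' _ (c k) k (l k) (hl k)]

theorem isVal_comp {T T' : Over S} (φ : T' ⟶ T) {t : (yon S).obj T ⟶ X}
    {z : (yon S).obj T ⟶ Z} (hz : IsVal Xi g a t z) :
    IsVal Xi g a ((yon S).map φ ≫ t) ((yon S).map φ ≫ z) := by
  intro T'' ψ i x hx
  rw [← Category.assoc, ← Functor.map_comp]
  apply hz
  rw [hx, ← Category.assoc, ← Functor.map_comp]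

include hX hXi hcov hcompat in
/-- Morphisms from the members of an fppf covering of an algebraic space into a sheaf which agree
on all pairs of points with the same image glue. -/
theorem desc_of_fppfCover : ∃ m : X ⟶ Z, ∀ i, g i ≫ m = a i := by
  choose val hval using fun (T : Over S) (t : (yon S).obj T ⟶ X) =>
    exists_isVal hX Xi hXi g hcov a hcompat t
  have hnat : ∀ {T T' : Over S} (φ : T' ⟶ T) (t : (yon S).obj T ⟶ X),
      val T' ((yon S).map φ ≫ t) = (yon S).map φ ≫ val T t := fun φ t =>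
    isVal_unique hX Xi hXi g hcov a (hval _ _) (isVal_comp Xi g a φ (hval _ t))
  obtain ⟨m, hm⟩ : ∃ m : X ⟶ Z, ∀ (T : Over S) (t : (yon S).obj T ⟶ X), t ≫ m = val T t := by
    refine ⟨ObjectProperty.homMk
      { app := fun T => ↾(fun s => yE (val T.unop (yE.symm s)))
        naturality := ?_ }, fun T t => ?_⟩
    · intro T T' φ
      ext s
      show yE (val T'.unop (yE.symm (X.obj.map φ s))) =
        Z.obj.map φ (yE (val T.unop (yE.symm s)))
      have e1 : yE.symm (X.obj.map φ s) = (yon S).map φ.unop ≫ yE.symm s :=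
        (yE_symm_map φ.unop s).symm
      have e2 : (yon S).map φ.unop ≫ val T.unop (yE.symm s) =
          yE.symm (Z.obj.map φ (yE (val T.unop (yE.symm s)))) := by
        have := yE_symm_map φ.unop (yE (val T.unop (yE.symm s)))
        rwa [Equiv.symm_apply_apply] at this
      rw [e1, hnat, e2, Equiv.apply_symm_apply]
    · apply (yE (X := Z) (T := T)).injective
      rw [yE_comp]
      show yE (val T (yE.symm (yE t))) = _
      rw [Equiv.symm_apply_apply]
  refine ⟨m, fun i => ?_⟩
  apply hom_ext_yon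
  intro T x
  rw [← Category.assoc, hm]
  have h2 := hval T (x ≫ g i) T (𝟙 T) i x (by rw [(yon S).map_id, Category.id_comp])
  rw [(yon S).map_id, Category.id_comp] at h2
  exact h2

end Glue

/-- Two jointly surjective open immersions separate maps into sheaves. -/
theorem hom_ext_of_two {T T₁ T₂ : Over S} (e₁ : T₁ ⟶ T) (e₂ : T₂ ⟶ T)
    [IsOpenImmersion e₁.left] [IsOpenImmersion e₂.left]
    (hs : ∀ t : ↥T.left, t ∈ Set.range e₁.left ∨ t ∈ Set.range e₂.left) {F : Sp S}
    (u v : (yon S).obj T ⟶ F) (h₁ : (yon S).map e₁ ≫ u = (yon S).map e₁ ≫ v)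
    (h₂ : (yon S).map e₂ ≫ u = (yon S).map e₂ ≫ v) : u = v := by
  let Tk : ULift.{u} Bool → Over S := fun k => match k with
    | ⟨true⟩ => T₁
    | ⟨false⟩ => T₂
  let c : ∀ k, Tk k ⟶ T := fun k => match k with
    | ⟨true⟩ => e₁
    | ⟨false⟩ => e₂
  refine hom_ext_of_fppf_family Tk c
    (fun k => match k with
      | ⟨true⟩ => (inferInstance : Flat e₁.left)
      | ⟨false⟩ => (inferInstance : Flat e₂.left))
    (fun k => match k with
      | ⟨true⟩ => (inferInstance : LocallyOfFinitePresentation e₁.left)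
      | ⟨false⟩ => (inferInstance : LocallyOfFinitePresentation e₂.left))
    (fun t => ?_) u v
    (fun k => match k with
      | ⟨true⟩ => h₁
      | ⟨false⟩ => h₂)
  rcases hs t with h | h
  · exact ⟨⟨true⟩, h⟩
  · exact ⟨⟨false⟩, h⟩

end Groth.Agent.Lib.FppfGlue_helper7
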