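import Mathlib
import Groth.Prelude.Def_AlgSpOX
import Groth.Agent.Lib.FppfGlue_helper7
import Groth.Agent.Lib.EtCharts_helper7
import Groth.Agent.Lib.AlgSpIso_helper7
import Groth.Agent.Lib.AlgSpEpi_helper7

/-!
# Morphisms from an algebraic space to an affine scheme are ring maps on global sections (helper7)
-/

set_option autoImplicit false
set_option backward.isDefEq.respectTransparency false
universe u
open CategoryTheory CategoryTheory.Limits AlgebraicGeometry Opposite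
open AlgSp Groth.Agent.Lib.AlgSpPoints_helper7 Groth.Agent.Lib.AlgSpPullback_helper7
  Groth.Agent.Lib.AlgSpSmST_helper7 Groth.Agent.Lib.FppfGlue_helper7 Groth.Agent.Lib.EtChartsH7
  Groth.Agent.Lib.AlgSpIso_helper7 Groth.Agent.Lib.AlgSpEpi_helper7

namespace Groth.Agent.Lib.AffGsect_helper7

theorem exists_hom_appTop {Y T : Scheme.{u}} [IsAffine T] (ψ : Γ(T, ⊤) ⟶ Γ(Y, ⊤)) :
    ∃ g : Y ⟶ T, g.appTop = ψ := by
  refine ⟨Y.toSpecΓ ≫ Spec.map ψ ≫ T.isoSpec.inv, ?_⟩
  have h1 : T.isoSpec.inv.appTop = (Scheme.ΓSpecIso Γ(T, ⊤)).inv := by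
    have h : T.isoSpec.hom.appTop = (Scheme.ΓSpecIso Γ(T, ⊤)).hom := Scheme.toSpecΓ_appTop T
    have h2 : T.isoSpec.hom.appTop ≫ T.isoSpec.inv.appTop = 𝟙 _ := by
      rw [← Scheme.Hom.comp_appTop, Iso.inv_hom_id]
      rfl
    rw [h] at h2
    exact ((Iso.eq_inv_comp _).2 h2).trans (Category.comp_id _)
  rw [Scheme.Hom.comp_appTop, Scheme.Hom.comp_appTop, Scheme.toSpecΓ_appTop, h1,
    ← Scheme.ΓSpecIso_inv_naturality, Category.assoc, Iso.inv_hom_id, Category.comp_id]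

variable {S : Scheme.{u}}

theorem over_hom_ext_appTop {Y T : Over S} [IsAffine T.left] (g g' : Y ⟶ T)
    (h : g.left.appTop = g'.left.appTop) : g = g' :=
  Over.OverMorphism.ext (ext_of_isAffine h)

variable (X : AlgSp.Space S) (T : Over S)
  (φ : Γ(T.left, ⊤) →+* ↥(AlgSp.gsectEt (AlgSp.OEt X.obj)))

/-- The ring map to the functions on an étale chart. -/
noncomputable def psi (E : AlgSp.EtOver X.obj) : Γ(T.left, ⊤) →+* Γ(E.obj.left.left, ⊤) :=
  (ULift.ringEquiv (R := Γ(E.obj.left.left, ⊤))).toRingHom.comp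
    (((limit.π (AlgSp.OEt X.obj).obj (op E)).hom :
      ↥(limit (AlgSp.OEt X.obj).obj) →+* ULift.{u + 1} Γ(E.obj.left.left, ⊤)).comp φ)

theorem psi_apply (E : AlgSp.EtOver X.obj) (r : Γ(T.left, ⊤)) :
    psi X T φ E r = ((limit.π (AlgSp.OEt X.obj).obj (op E)) (φ r)).down := rfl

theorem psi_nat {E E' : AlgSp.EtOver X.obj} (m : E ⟶ E') (r : Γ(T.left, ⊤)) :
    psi X T φ E r = m.hom.left.left.appTop.hom (psi X T φ E' r) := by
  have h := limit.w (AlgSp.OEt X.obj).obj m.op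
  have h2 : (limit.π (AlgSp.OEt X.obj).obj (op E)) (φ r) =
      (AlgSp.OEt X.obj).obj.map m.op ((limit.π (AlgSp.OEt X.obj).obj (op E')) (φ r)) := by
    rw [← h]
    rfl
  rw [psi_apply, h2, AlgSp.OEt_map]
  rfl

variable [IsAffine T.left] (hS : IsTerminal S)

include hS in
theorem exists_gO (E : AlgSp.EtOver X.obj) :
    ∃ g : E.obj.left ⟶ T, g.left.appTop = CommRingCat.ofHom (psi X T φ E) := by
  obtain ⟨g, hg⟩ := exists_hom_appTop (Y := E.obj.left.left) (T := T.left)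
    (CommRingCat.ofHom (psi X T φ E))
  exact ⟨Over.homMk g (hS.hom_ext _ _), hg⟩

include hS in
theorem main :
    ∃! f : X.obj ⟶ (AlgSp.yon S).obj T,
      ∀ (E : AlgSp.EtOver X.obj) (r : Γ(T.left, ⊤)),
        ((limit.π (AlgSp.OEt X.obj).obj (Opposite.op E)) (φ r)).down =
          ((AlgSp.yon S).preimage (E.obj.hom ≫ f)).left.appTop r := by
  obtain ⟨U, p, hpe, hps⟩ := X.property.atlas
  choose gO hgO using exists_gO X T φ hS
  have hnat : ∀ {E E' : AlgSp.EtOver X.obj} (m : E ⟶ E'), m.hom.left ≫ gO E' = gO E := by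
    intro E E' m
    apply over_hom_ext_appTop
    rw [Over.comp_left, Scheme.Hom.comp_appTop, hgO, hgO]
    ext r
    exact (psi_nat X T φ m r).symm
  -- the relation
  have sqR := hpe.rep.isPullback' p
  have hr1 : Etale (hpe.rep.fst' p).left := hpe.property p _ (hpe.rep.fst' p) sqR.flip
  have hER : RepWith @Etale ((yon S).map (hpe.rep.fst' p) ≫ p) :=
    repWith_comp @Etale ((repWith_yon_map_iff @Etale (hpe.rep.fst' p)).2 hr1) hpe
  let m1 : EtOver.mk ((yon S).map (hpe.rep.fst' p) ≫ p) hER ⟶ EtOver.mk p hpe :=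
    EtOver.homMk (hpe.rep.fst' p) rfl
  let m2 : EtOver.mk ((yon S).map (hpe.rep.fst' p) ≫ p) hER ⟶ EtOver.mk p hpe :=
    EtOver.homMk (hpe.rep.snd p) sqR.w.symm
  have hm1 : hpe.rep.fst' p ≫ gO (EtOver.mk p hpe) = gO (EtOver.mk _ hER) := hnat m1
  have hm2 : hpe.rep.snd p ≫ gO (EtOver.mk p hpe) = gO (EtOver.mk _ hER) := hnat m2
  have hcov := isFppfCover_of_etale_chart U p hpe hps
  obtain ⟨f, hf⟩ := desc_of_fppfCover X.property (fun _ : PUnit.{u + 1} => (yon S).obj U)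
    (fun _ => IsAlgSpace.yon_obj U) (fun _ => p) hcov
    (fun _ => (yon S).map (gO (EtOver.mk p hpe))) (by
      intro _ _ T' x y hxy
      obtain ⟨x', rfl⟩ := (yon S).map_surjective x
      obtain ⟨y', rfl⟩ := (yon S).map_surjective y
      have hτ1 : hpe.rep.lift' x' y' hxy ≫ hpe.rep.fst' p = x' := hpe.rep.lift'_fst _ _ _
      have hτ2 : hpe.rep.lift' x' y' hxy ≫ hpe.rep.snd p = y' := hpe.rep.lift'_snd _ _ _
      show (yon S).map x' ≫ (yon S).map (gO (EtOver.mk p hpe)) =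
        (yon S).map y' ≫ (yon S).map (gO (EtOver.mk p hpe))
      rw [← Functor.map_comp, ← Functor.map_comp]
      congr 1
      rw [← hτ1, Category.assoc, hm1, ← hm2, ← Category.assoc, hτ2])
  have hf' : p ≫ f = (yon S).map (gO (EtOver.mk p hpe)) := hf PUnit.unit
  have key : ∀ E : AlgSp.EtOver X.obj, E.obj.hom ≫ f = (yon S).map (gO E) := by
    intro E
    have sqW := hpe.rep.isPullback' E.obj.hom
    have hw2e : Etale (hpe.rep.snd E.obj.hom).left := hpe.property E.obj.hom _ _ sqW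
    have hw2s : Surjective (hpe.rep.snd E.obj.hom).left := hps.property E.obj.hom _ _ sqW
    have hEW : RepWith @Etale ((yon S).map (hpe.rep.snd E.obj.hom) ≫ E.obj.hom) :=
      repWith_comp @Etale ((repWith_yon_map_iff @Etale (hpe.rep.snd E.obj.hom)).2 hw2e) E.property
    let n1 : EtOver.mk _ hEW ⟶ EtOver.mk p hpe := EtOver.homMk (hpe.rep.fst' E.obj.hom) sqW.w
    let n2 : EtOver.mk _ hEW ⟶ E := EtOver.homMk (hpe.rep.snd E.obj.hom) rfl
    have hn1 : hpe.rep.fst' E.obj.hom ≫ gO (EtOver.mk p hpe) = gO (EtOver.mk _ hEW) := hnat n1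
    have hn2 : hpe.rep.snd E.obj.hom ≫ gO E = gO (EtOver.mk _ hEW) := hnat n2
    haveI : Epi ((yon S).map (hpe.rep.snd E.obj.hom)) :=
      epi_yon_map _ hw2s inferInstance inferInstance
    rw [← cancel_epi ((yon S).map (hpe.rep.snd E.obj.hom)), ← Category.assoc, ← sqW.w,
      Category.assoc, hf', ← Functor.map_comp, ← Functor.map_comp, hn1, hn2]
  refine ⟨f, fun E r => ?_, fun f₂ hf₂ => ?_⟩
  · rw [key E, Functor.preimage_map, hgO E]
    rfl
  · haveI := epi_of_atlas p hpe hps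
    rw [← cancel_epi p, hf']
    have h3 : (yon S).preimage (p ≫ f₂) = gO (EtOver.mk p hpe) := by
      apply over_hom_ext_appTop
      rw [hgO]
      ext r
      exact (hf₂ (EtOver.mk p hpe) r).symm
    rw [← h3, Functor.map_preimage]

end Groth.Agent.Lib.AffGsect_helper7
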