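import Mathlib
import Groth.Prelude
import Groth.Agent.Lib.ZClos1_helper8
import Groth.Agent.Lib.Desc1_helper8

set_option autoImplicit false
universe u

open CategoryTheory CategoryTheory.Limits AlgebraicGeometry TopologicalSpace Opposite

/-! The Z-closure functor is left exact. -/

namespace ZClosH8

variable {X : Scheme.{u}}

instance restrictFunctor_additive' {U : Scheme.{u}} (j : U ⟶ X) [IsOpenImmersion j] :
    (Scheme.Modules.restrictFunctor j).Additive :=
  (Scheme.Modules.restrictAdjunction j).left_adjoint_additive

/-- Restriction to an open subscheme preserves monomorphisms. -/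
theorem mono_restrict_map {U : Scheme.{u}} (j : U ⟶ X) [IsOpenImmersion j] {A B : X.Modules}
    (f : A ⟶ B) [Mono f] : Mono ((Scheme.Modules.restrictFunctor j).map f) := by
  apply DescH8.mono_of_app_injective
  intro W
  exact QCohExact.app_injective_of_mono f (j ''ᵁ W)

/-- Restriction to an open subscheme is exact. -/
instance preservesFiniteLimits_restrictFunctor {U : Scheme.{u}} (j : U ⟶ X) [IsOpenImmersion j] :
    PreservesFiniteLimits (Scheme.Modules.restrictFunctor j) := by
  rw [Functor.preservesFiniteLimits_iff_forall_exact_map_and_mono]
  intro S hS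
  haveI : PreservesFiniteColimits (Scheme.Modules.restrictFunctor j) := inferInstance
  have h0 : PreservesFiniteColimits (Scheme.Modules.restrictFunctor j) := inferInstance
  have h2 : ∀ (S : ShortComplex X.Modules), S.ShortExact →
      (S.map (Scheme.Modules.restrictFunctor j)).Exact ∧
        Epi ((Scheme.Modules.restrictFunctor j).map S.g) :=
    ((Functor.preservesFiniteColimits_tfae (Scheme.Modules.restrictFunctor j)).out 3 0).mp h0
  have h1 := h2 S hS
  haveI := hS.mono_f
  exact ⟨h1.1, mono_restrict_map j S.f⟩

instance preservesFiniteLimits_resPush (U : X.Opens) :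
    PreservesFiniteLimits (ZClos.resPush U) := by
  haveI : PreservesFiniteLimits (Scheme.Modules.pushforward U.ι) := inferInstance
  exact comp_preservesFiniteLimits _ _

instance preservesFiniteLimits_diagram (Z : Set X) : PreservesFiniteLimits (ZClos.diagram Z) := by
  constructor
  intro J _ _
  apply preservesLimitsOfShape_of_evaluation
  intro T
  have e : ZClos.diagram Z ⋙ (evaluation (ZClos.Cl Z) X.Modules).obj T ≅ ZClos.resPush T.U :=
    NatIso.ofComponents (fun F => Iso.refl _) (fun {F G} φ => by
      exact (Category.comp_id _).trans (Category.id_comp _).symm)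
  exact preservesLimitsOfShape_of_natIso e.symm

theorem preservesFiniteLimits_H0 (Z : Set X) : PreservesFiniteLimits (ZClos.H0 Z) := by
  haveI : HasExactColimitsOfShape (ZClos.Cl Z) X.Modules := inferInstance
  haveI : PreservesFiniteLimits (colim : (ZClos.Cl Z ⥤ X.Modules) ⥤ X.Modules) := inferInstance
  exact comp_preservesFiniteLimits _ _

end ZClosH8
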