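import Mathlib
import Groth.Prelude.Def_DCoh2
import Groth.Prelude.Def_FlatMod2
import Groth.Agent.Lib.FLF3_helper8
import Groth.Agent.Lib.FLF7_helper8
import Groth.Agent.Lib.SubExt_helper9
import Groth.Agent.Lib.QCohExact_helper9
import Groth.Agent.Lib.ZClos2_helper8

/-!
# Acyclic bounded above complexes of finite locally free modules on an affine scheme are
contractible (helper5)
APPEND-ONLY once landed.
-/

set_option autoImplicit false
set_option linter.style.haveILetI false

universe u

open CategoryTheory Limits AlgebraicGeometry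

namespace Groth.Agent.Lib.AffNull

section Generic

variable {C D : Type*} [Category C] [Category D] [Preadditive C] [Preadditive D]
  {ι : Type*} {c : ComplexShape ι}

/-- Reflect a homotopy along a fully faithful additive functor. -/
noncomputable def homotopyOfFullyFaithful (Φ : C ⥤ D) [Φ.Additive] (hΦ : Φ.FullyFaithful)
    {K L : HomologicalComplex C c} (f g : K ⟶ L)
    (h : Homotopy ((Φ.mapHomologicalComplex c).map f) ((Φ.mapHomologicalComplex c).map g)) :
    Homotopy f g where
  hom i j := hΦ.preimage (h.hom i j)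
  zero i j hij := hΦ.map_injective (by
    rw [hΦ.map_preimage, Φ.map_zero]
    exact h.zero i j hij)
  comm i := hΦ.map_injective (by
    have H := h.comm i
    show Φ.map (f.f i) = Φ.map ((K.d i (c.next i) ≫ hΦ.preimage (h.hom (c.next i) i)) +
      (hΦ.preimage (h.hom i (c.prev i)) ≫ L.d (c.prev i) i) + g.f i)
    rw [Φ.map_add, Φ.map_add, Φ.map_comp, Φ.map_comp, hΦ.map_preimage, hΦ.map_preimage]
    exact H)

/-- Transport a contraction along an isomorphism of complexes. -/
noncomputable def homotopyIdOfIso {K L : HomologicalComplex C c} (α : K ≅ L)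
    (h : Homotopy (𝟙 L) 0) : Homotopy (𝟙 K) 0 :=
  (Homotopy.ofEq (by simp)).trans
    (((h.compLeft α.hom).compRight α.inv).trans (Homotopy.ofEq (by simp)))

end Generic

section Restrict

variable {Y X : Scheme.{u}} (j : Y ⟶ X) [IsOpenImmersion j]

/-- The restriction of a free module along an open immersion is free (copied from
`DCohLoc3_lead` to avoid its import closure). -/
noncomputable def restrictFreeIso (n : ℕ) :
    (Scheme.Modules.restrictFunctor j).obj (FlatMod.freeMod X n) ≅ FlatMod.freeMod Y n :=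
  PreservesCoproduct.iso (Scheme.Modules.restrictFunctor j) _ ≪≫
    Sigma.mapIso (fun _ => Scheme.Modules.restrictUnitIso j)

theorem isFinLocFree_restrictFunctor {M : X.Modules} (hM : FlatMod.IsFinLocFree M) :
    FlatMod.IsFinLocFree ((Scheme.Modules.restrictFunctor j).obj M) := by
  intro y
  obtain ⟨U, n, hyU, ⟨α⟩⟩ := hM (j y)
  refine ⟨j ⁻¹ᵁ U, n, hyU, ⟨?_⟩⟩
  exact ((Scheme.Modules.restrictFunctorComp (j ⁻¹ᵁ U).ι j).app M).symm ≪≫
    (Scheme.Modules.restrictFunctorCongr (morphismRestrict_ι j U).symm).app M ≪≫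
    (Scheme.Modules.restrictFunctorComp (j ∣_ U) U.ι).app M ≪≫
    (Scheme.Modules.restrictFunctor (j ∣_ U)).mapIso α ≪≫ restrictFreeIso (j ∣_ U) n

end Restrict

section Spec

variable {R : CommRingCat.{u}}

instance : (moduleSpecΓFunctor (R := R)).Additive :=
  (tilde.adjunction (R := R)).right_adjoint_additive

/-- Global sections are exact on quasi-coherent modules over `Spec R`. -/
theorem Γ_exact (S : ShortComplex (Spec (.of R)).Modules) (hS : S.Exact)
    [S.X₁.IsQuasicoherent] [S.X₂.IsQuasicoherent] [S.X₃.IsQuasicoherent] :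
    (S.map (moduleSpecΓFunctor (R := R))).Exact := by
  rw [ShortComplex.exact_iff_epi_kernel_lift] at hS ⊢
  haveI := hS
  haveI : (kernel S.g).IsQuasicoherent := SubExt.isQuasicoherent_kernel S.g
  haveI : Epi ((moduleSpecΓFunctor (R := R)).map (kernel.lift S.g S.f S.zero)) := by
    rw [ModuleCat.epi_iff_surjective]
    exact QCohExact.spec_app_top_surjective _
  haveI : PreservesLimits (moduleSpecΓFunctor (R := R)) :=
    (tilde.adjunction (R := R)).rightAdjoint_preservesLimits
  have e := map_lift_kernelComparison S.g (moduleSpecΓFunctor (R := R)) S.zero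
  show Epi (kernel.lift ((moduleSpecΓFunctor (R := R)).map S.g)
    ((moduleSpecΓFunctor (R := R)).map S.f) _)
  rw [← e]
  infer_instance

/-- The main theorem over `Spec R`. -/
theorem spec_main (E : CochainComplex (Spec (.of R)).Modules ℤ) (b : ℤ)
    (hEb : ∀ i : ℤ, b < i → IsZero (E.X i)) (hE : ∀ i : ℤ, FlatMod.IsFinLocFree (E.X i))
    (hac : E.Acyclic) : Nonempty (Homotopy (𝟙 E) 0) := by
  haveI hq : ∀ i, (E.X i).IsQuasicoherent :=
    fun i => FLFH8.isQuasicoherent_of_finLocFree _ (hE i)
  let K : CochainComplex (ModuleCat.{u} R) ℤ :=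
    ((moduleSpecΓFunctor (R := R)).mapHomologicalComplex _).obj E
  have hproj : ∀ i, Projective (K.X i) := by
    intro i
    have h1 : FlatMod.IsFinLocFree (tilde (K.X i)) :=
      FLFH8.IsFinLocFree.of_iso (asIso (E.X i).fromTildeΓ).symm (hE i)
    have h2 := (FLFH8.tilde_finLocFree_iff (K.X i)).mp h1
    haveI := h2.2
    infer_instance
  haveI : K.IsStrictlyLE b := by
    rw [CochainComplex.isStrictlyLE_iff]
    intro i hi
    exact (moduleSpecΓFunctor (R := R)).map_isZero (hEb i hi)
  have hKac : K.Acyclic := fun i => @Γ_exact R (E.sc i) (hac i) (hq _) (hq _) (hq _)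
  haveI := CochainComplex.isKProjective_of_projective K b
  have h0 : Homotopy (𝟙 K) 0 := CochainComplex.IsKProjective.homotopyZero (𝟙 K) hKac
  have h1 := (tilde.functor R).mapHomotopy h0
  have h2 : Homotopy (𝟙 (((tilde.functor R).mapHomologicalComplex _).obj K)) 0 :=
    (Homotopy.ofEq (by simp)).trans (h1.trans (Homotopy.ofEq (by simp)))
  let α : ((tilde.functor R).mapHomologicalComplex _).obj K ≅ E :=
    HomologicalComplex.Hom.isoOfComponents
      (fun i => @asIso _ _ _ _ (E.X i).fromTildeΓ
        (Scheme.Modules.isIso_fromTildeΓ_of_isQuasicoherent (E.X i)))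
      (fun i j _ => ((Scheme.Modules.fromTildeΓNatTrans (R := R)).naturality (E.d i j)).symm)
  exact ⟨homotopyIdOfIso α.symm h2⟩

end Spec

section Affine

/-- Restriction along an isomorphism of schemes is an equivalence of module categories. -/
noncomputable def restrictEquiv {Y X : Scheme.{u}} (φ : Y ≅ X) : X.Modules ≌ Y.Modules :=
  CategoryTheory.Equivalence.mk (Scheme.Modules.restrictFunctor φ.hom)
    (Scheme.Modules.restrictFunctor φ.inv)
    (Scheme.Modules.restrictFunctorId.symm ≪≫
      Scheme.Modules.restrictFunctorCongr (φ.inv_hom_id).symm ≪≫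
      Scheme.Modules.restrictFunctorComp φ.inv φ.hom)
    ((Scheme.Modules.restrictFunctorComp φ.hom φ.inv).symm ≪≫
      Scheme.Modules.restrictFunctorCongr (φ.hom_inv_id) ≪≫
      Scheme.Modules.restrictFunctorId)

/-- The main theorem over an affine scheme. -/
theorem affine_main {X : Scheme.{u}} [IsAffine X] (E : CochainComplex X.Modules ℤ) (b : ℤ)
    (hEb : ∀ i : ℤ, b < i → IsZero (E.X i)) (hE : ∀ i : ℤ, FlatMod.IsFinLocFree (E.X i))
    (hac : E.Acyclic) : Nonempty (Homotopy (𝟙 E) 0) := by
  let φ : Spec Γ(X, ⊤) ≅ X := X.isoSpec.symm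
  let G := Scheme.Modules.restrictFunctor φ.hom
  haveI : G.Additive := ZClosH8.restrictFunctor_additive' φ.hom
  haveI : PreservesFiniteLimits G := ZClosH8.preservesFiniteLimits_restrictFunctor φ.hom
  haveI : PreservesFiniteColimits G := inferInstance
  have hG : G.FullyFaithful := (restrictEquiv φ).fullyFaithfulFunctor
  let E₁ : CochainComplex (Spec (.of Γ(X, ⊤))).Modules ℤ := (G.mapHomologicalComplex _).obj E
  have h1 : Nonempty (Homotopy (𝟙 E₁) 0) :=
    spec_main E₁ b (fun i hi => G.map_isZero (hEb i hi))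
      (fun i => isFinLocFree_restrictFunctor φ.hom (hE i))
      (fun i => (hac i).map G)
  obtain ⟨h⟩ := h1
  have e1 : (G.mapHomologicalComplex (ComplexShape.up ℤ)).map (𝟙 E) = 𝟙 E₁ :=
    (G.mapHomologicalComplex (ComplexShape.up ℤ)).map_id E
  have e2 : (0 : E₁ ⟶ E₁) = (G.mapHomologicalComplex (ComplexShape.up ℤ)).map (0 : E ⟶ E) :=
    ((G.mapHomologicalComplex (ComplexShape.up ℤ)).map_zero E E).symm
  exact ⟨homotopyOfFullyFaithful G hG (𝟙 E) 0
    ((Homotopy.ofEq e1).trans (h.trans (Homotopy.ofEq e2)))⟩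

end Affine

end Groth.Agent.Lib.AffNull
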