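import Mathlib
import Groth.Prelude

/-!
# Conjugating a Mayer–Vietoris short exact sequence of left adjoints (lead)

Given endofunctors `A₀ A₁ A₂` of an abelian category with right adjoints `B₀ B₁ B₂`, natural
transformations `τᵢ : A₀ ⟶ Aᵢ`, `εᵢ : Aᵢ ⟶ 𝟭` with `τ₁ ≫ ε₁ = τ₂ ≫ ε₂` such that
`0 → A₀ M → A₁ M ⊞ A₂ M → M → 0` is short exact for every `M`, the conjugate sequence
`0 → J → B₁ J ⊞ B₂ J → B₀ J → 0` is short exact for every injective object `J`.
-/

set_option autoImplicit false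
set_option linter.all false
set_option maxHeartbeats 1600000
set_option backward.isDefEq.respectTransparency false
set_option backward.isDefEq.respectTransparency.types false
set_option backward.defeqAttrib.useBackward true

open CategoryTheory CategoryTheory.Limits

namespace Groth.Agent.Lib.MVPushL

section Transpose

variable {C D : Type*} [Category C] [Category D] {L₁ L₂ : C ⥤ D} {R₁ R₂ : D ⥤ C}
  (adj₁ : L₁ ⊣ R₁) (adj₂ : L₂ ⊣ R₂) (α : L₂ ⟶ L₁)

theorem homEquiv_symm_comp_conj {M : C} {J : D} (g : M ⟶ R₁.obj J) :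
    (adj₂.homEquiv M J).symm (g ≫ (conjugateEquiv adj₁ adj₂ α).app J) =
      α.app M ≫ (adj₁.homEquiv M J).symm g := by
  rw [Adjunction.homEquiv_counit, Adjunction.homEquiv_counit, Functor.map_comp, Category.assoc,
    conjugateEquiv_counit, ← Category.assoc, α.naturality, Category.assoc]

theorem homEquiv_comp_conj {M : C} {J : D} (φ : L₁.obj M ⟶ J) :
    adj₂.homEquiv M J (α.app M ≫ φ) =
      adj₁.homEquiv M J φ ≫ (conjugateEquiv adj₁ adj₂ α).app J := by
  have h := homEquiv_symm_comp_conj adj₁ adj₂ α (adj₁.homEquiv M J φ)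
  rw [Equiv.symm_apply_apply] at h
  rw [← h, Equiv.apply_symm_apply]

end Transpose

section TransposeId

variable {C : Type*} [Category C] {L R : C ⥤ C} (adj : L ⊣ R) (ε : L ⟶ 𝟭 C)

theorem homEquiv_symm_comp_conj_id {M J : C} (g : M ⟶ J) :
    (adj.homEquiv M J).symm (g ≫ (conjugateEquiv Adjunction.id adj ε).app J) = ε.app M ≫ g := by
  have h := homEquiv_symm_comp_conj Adjunction.id adj ε (M := M) (J := J) g
  rw [h, Adjunction.homEquiv_counit]
  have h1 : (Adjunction.id (C := C)).counit.app J = 𝟙 J := rfl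
  rw [h1]
  erw [Category.comp_id]
  rfl

end TransposeId

section Abstract

variable {𝒜 : Type*} [Category 𝒜] [Abelian 𝒜]
  {A₀ A₁ A₂ B₀ B₁ B₂ : 𝒜 ⥤ 𝒜} (adj₀ : A₀ ⊣ B₀) (adj₁ : A₁ ⊣ B₁) (adj₂ : A₂ ⊣ B₂)
  (τ₁ : A₀ ⟶ A₁) (τ₂ : A₀ ⟶ A₂) (ε₁ : A₁ ⟶ 𝟭 𝒜) (ε₂ : A₂ ⟶ 𝟭 𝒜)
  (hsq : τ₁ ≫ ε₁ = τ₂ ≫ ε₂)

include hsq in
theorem eta_rho (J : 𝒜) :
    (conjugateEquiv Adjunction.id adj₁ ε₁).app J ≫ (conjugateEquiv adj₁ adj₀ τ₁).app J =
      (conjugateEquiv Adjunction.id adj₂ ε₂).app J ≫ (conjugateEquiv adj₂ adj₀ τ₂).app J := by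
  rw [← NatTrans.comp_app, ← NatTrans.comp_app, conjugateEquiv_comp, conjugateEquiv_comp, hsq]

/-- the conjugate short complex `J → B₁ J ⊞ B₂ J → B₀ J` -/
noncomputable def conjSC (J : 𝒜) : ShortComplex 𝒜 :=
  ShortComplex.mk
    (biprod.lift ((conjugateEquiv Adjunction.id adj₁ ε₁).app J)
      ((conjugateEquiv Adjunction.id adj₂ ε₂).app J))
    (biprod.desc ((conjugateEquiv adj₁ adj₀ τ₁).app J) (-(conjugateEquiv adj₂ adj₀ τ₂).app J))
    (by
      rw [biprod.lift_desc, Preadditive.comp_neg, ← sub_eq_add_neg, sub_eq_zero]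
      exact eta_rho adj₀ adj₁ adj₂ τ₁ τ₂ ε₁ ε₂ hsq J)

variable [A₀.Additive] [A₁.Additive] [A₂.Additive] [B₀.Additive] [B₁.Additive] [B₂.Additive]

theorem homEquiv_symm_zero {L R : 𝒜 ⥤ 𝒜} [L.Additive] (adj : L ⊣ R) (M J : 𝒜) :
    (adj.homEquiv M J).symm 0 = 0 := by
  rw [Adjunction.homEquiv_counit, Functor.map_zero, zero_comp]

theorem shortExact_conjSC (J : 𝒜) [Injective J]
    (hmono : ∀ M : 𝒜, Mono (biprod.lift (τ₁.app M) (τ₂.app M)))
    (hepi : ∀ M : 𝒜, Epi (biprod.desc (ε₁.app M) (-ε₂.app M)))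
    (hcok : ∀ (M Z : 𝒜) (φ : A₁.obj M ⊞ A₂.obj M ⟶ Z),
      biprod.lift (τ₁.app M) (τ₂.app M) ≫ φ = 0 →
        ∃ l : M ⟶ Z, biprod.desc (ε₁.app M) (-ε₂.app M) ≫ l = φ) :
    (conjSC adj₀ adj₁ adj₂ τ₁ τ₂ ε₁ ε₂ hsq J).ShortExact := by
  -- mono
  have hm : Mono (conjSC adj₀ adj₁ adj₂ τ₁ τ₂ ε₁ ε₂ hsq J).f := by
    show Mono (biprod.lift ((conjugateEquiv Adjunction.id adj₁ ε₁).app J)
      ((conjugateEquiv Adjunction.id adj₂ ε₂).app J))
    apply Preadditive.mono_of_cancel_zero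
    intro M k hk
    have h1 : k ≫ (conjugateEquiv Adjunction.id adj₁ ε₁).app J = 0 := by
      have := congrArg (· ≫ biprod.fst) hk
      simpa using this
    have h2 : k ≫ (conjugateEquiv Adjunction.id adj₂ ε₂).app J = 0 := by
      have := congrArg (· ≫ biprod.snd) hk
      simpa using this
    have e1 : ε₁.app M ≫ k = 0 :=
      (homEquiv_symm_comp_conj_id adj₁ ε₁ k).symm.trans
        ((congrArg (adj₁.homEquiv M J).symm h1).trans (homEquiv_symm_zero adj₁ M J))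
    have e2 : ε₂.app M ≫ k = 0 :=
      (homEquiv_symm_comp_conj_id adj₂ ε₂ k).symm.trans
        ((congrArg (adj₂.homEquiv M J).symm h2).trans (homEquiv_symm_zero adj₂ M J))
    have h3 : biprod.desc (ε₁.app M) (-ε₂.app M) ≫ k = 0 := by
      apply biprod.hom_ext'
      · rw [biprod.inl_desc_assoc, comp_zero, e1]
      · rw [biprod.inr_desc_assoc, comp_zero, Preadditive.neg_comp, e2, neg_zero]
    haveI := hepi M
    exact (cancel_epi (biprod.desc (ε₁.app M) (-ε₂.app M))).mp (h3.trans comp_zero.symm)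
  -- epi
  have he : Epi (conjSC adj₀ adj₁ adj₂ τ₁ τ₂ ε₁ ε₂ hsq J).g := by
    show Epi (biprod.desc ((conjugateEquiv adj₁ adj₀ τ₁).app J)
      (-(conjugateEquiv adj₂ adj₀ τ₂).app J))
    haveI := hmono (B₀.obj J)
    have hφ : biprod.lift (τ₁.app (B₀.obj J)) (τ₂.app (B₀.obj J)) ≫
        Injective.factorThru (adj₀.counit.app J)
          (biprod.lift (τ₁.app (B₀.obj J)) (τ₂.app (B₀.obj J))) = adj₀.counit.app J :=
      Injective.comp_factorThru _ _
    set φ := Injective.factorThru (adj₀.counit.app J)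
      (biprod.lift (τ₁.app (B₀.obj J)) (τ₂.app (B₀.obj J))) with hφdef
    have hs : biprod.lift (adj₁.homEquiv (B₀.obj J) J (biprod.inl ≫ φ))
        (-(adj₂.homEquiv (B₀.obj J) J (biprod.inr ≫ φ))) ≫
        biprod.desc ((conjugateEquiv adj₁ adj₀ τ₁).app J)
          (-(conjugateEquiv adj₂ adj₀ τ₂).app J) = 𝟙 (B₀.obj J) := by
      rw [biprod.lift_desc, Preadditive.neg_comp, Preadditive.comp_neg, neg_neg,
        ← homEquiv_comp_conj adj₁ adj₀ τ₁, ← homEquiv_comp_conj adj₂ adj₀ τ₂,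
        Adjunction.homEquiv_unit, Adjunction.homEquiv_unit, ← Preadditive.comp_add,
        ← Functor.map_add]
      have hsum : τ₁.app (B₀.obj J) ≫ biprod.inl ≫ φ + τ₂.app (B₀.obj J) ≫ biprod.inr ≫ φ =
          adj₀.counit.app J := by
        rw [← hφ, ← Category.assoc, ← Category.assoc, ← Preadditive.add_comp, ← biprod.lift_eq]
      rw [hsum]
      exact adj₀.right_triangle_components J
    exact epi_of_epi_fac hs
  -- exactness
  have key : ∀ {M : 𝒜} (k : M ⟶ B₁.obj J ⊞ B₂.obj J),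
      k ≫ biprod.desc ((conjugateEquiv adj₁ adj₀ τ₁).app J)
        (-(conjugateEquiv adj₂ adj₀ τ₂).app J) = 0 →
      ∃ l : M ⟶ J, l ≫ biprod.lift ((conjugateEquiv Adjunction.id adj₁ ε₁).app J)
        ((conjugateEquiv Adjunction.id adj₂ ε₂).app J) = k := by
    intro M k hk
    rw [biprod.desc_eq, Preadditive.comp_add, Preadditive.comp_neg, Preadditive.comp_neg,
      ← sub_eq_add_neg, sub_eq_zero, ← Category.assoc, ← Category.assoc] at hk
    have hψ : τ₁.app M ≫ (adj₁.homEquiv M J).symm (k ≫ biprod.fst) =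
        τ₂.app M ≫ (adj₂.homEquiv M J).symm (k ≫ biprod.snd) := by
      rw [← homEquiv_symm_comp_conj adj₁ adj₀ τ₁, ← homEquiv_symm_comp_conj adj₂ adj₀ τ₂, hk]
    have hφ0 : biprod.lift (τ₁.app M) (τ₂.app M) ≫
        biprod.desc ((adj₁.homEquiv M J).symm (k ≫ biprod.fst))
          (-(adj₂.homEquiv M J).symm (k ≫ biprod.snd)) = 0 := by
      rw [biprod.lift_desc, Preadditive.comp_neg, ← sub_eq_add_neg, sub_eq_zero]
      exact hψ
    obtain ⟨l, hl⟩ := hcok M J _ hφ0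
    have hl1 : ε₁.app M ≫ l = (adj₁.homEquiv M J).symm (k ≫ biprod.fst) := by
      have := congrArg (biprod.inl ≫ ·) hl
      simpa using this
    have hl2 : ε₂.app M ≫ l = (adj₂.homEquiv M J).symm (k ≫ biprod.snd) := by
      have := congrArg (biprod.inr ≫ ·) hl
      simpa using this
    refine ⟨l, ?_⟩
    apply biprod.hom_ext
    · rw [Category.assoc, biprod.lift_fst]
      apply (adj₁.homEquiv M J).symm.injective
      exact (homEquiv_symm_comp_conj_id adj₁ ε₁ l).trans hl1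
    · rw [Category.assoc, biprod.lift_snd]
      apply (adj₂.homEquiv M J).symm.injective
      exact (homEquiv_symm_comp_conj_id adj₂ ε₂ l).trans hl2
  have hex : (conjSC adj₀ adj₁ adj₂ τ₁ τ₂ ε₁ ε₂ hsq J).Exact := by
    haveI := hm
    apply ShortComplex.exact_of_f_is_kernel
    exact KernelFork.IsLimit.ofι' _ _ (fun {M} k hk =>
      ⟨(key k hk).choose, (key k hk).choose_spec⟩)
  exact { exact := hex, mono_f := hm, epi_g := he }

end Abstract

end Groth.Agent.Lib.MVPushL
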