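import Mathlib
import Groth.Prelude
import Groth.Agent.Lib.StalkSky4_lead

/-!
# The Mayer–Vietoris triangle for extension by zero, derived level (lead)
-/

set_option autoImplicit false
set_option linter.all false
set_option maxHeartbeats 1600000
set_option backward.isDefEq.respectTransparency false
set_option backward.isDefEq.respectTransparency.types false
set_option backward.defeqAttrib.useBackward true

universe u
open CategoryTheory CategoryTheory.Limits AlgebraicGeometry Opposite TopologicalSpace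
open CategoryTheory.Pretriangulated
attribute [local instance] HasDerivedCategory.standard

namespace Groth.Agent.Lib.StalkSkyL

open Groth.Agent.Lib.TorAmpPushL

noncomputable section

/-- transport a distinguished triangle along isomorphisms of its three vertices -/
theorem exists_distTriang_of_isos {C : Type*} [Category C] [Preadditive C] [HasZeroObject C]
    [HasShift C ℤ] [∀ n : ℤ, (shiftFunctor C n).Additive] [Pretriangulated C]
    (T : Triangle C) (hT : T ∈ distTriang C) {A B D : C}
    (i₁ : A ≅ T.obj₁) (i₂ : B ≅ T.obj₂) (i₃ : D ≅ T.obj₃) :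
    ∃ (a : A ⟶ B) (b : B ⟶ D) (c : D ⟶ A⟦(1 : ℤ)⟧),
      Triangle.mk a b c ∈ distTriang C := by
  refine ⟨i₁.hom ≫ T.mor₁ ≫ i₂.inv, i₂.hom ≫ T.mor₂ ≫ i₃.inv,
    i₃.hom ≫ T.mor₃ ≫ (shiftFunctor C (1 : ℤ)).map i₁.inv, ?_⟩
  refine isomorphic_distinguished _ hT _ (Triangle.isoMk _ _ i₁ i₂ i₃ ?_ ?_ ?_)
  · simp
  · simp
  · simp only [Triangle.mk_mor₃, Category.assoc, ← Functor.map_comp, Iso.inv_hom_id]
    erw [CategoryTheory.Functor.map_id, Category.comp_id]

variable {X : Scheme.{u}}

/-! ### complex level -/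

/-- restriction of complexes -/
abbrev RCx (W : X.Opens) : CochainComplex X.Modules ℤ ⥤ CochainComplex W.toScheme.Modules ℤ :=
  (Scheme.Modules.restrictFunctor W.ι).mapHomologicalComplex (ComplexShape.up ℤ)

/-- extension by zero of complexes -/
abbrev LCx (W : X.Opens) : CochainComplex W.toScheme.Modules ℤ ⥤ CochainComplex X.Modules ℤ :=
  (CxOX.extZero W.ι).mapHomologicalComplex (ComplexShape.up ℤ)

/-- `j_! j^* F` for a complex `F` -/
abbrev ACx (W : X.Opens) (F : CochainComplex X.Modules ℤ) : CochainComplex X.Modules ℤ :=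
  (LCx W).obj ((RCx W).obj F)

/-- the counit on complexes -/
def epsCx (W : X.Opens) (F : CochainComplex X.Modules ℤ) : ACx W F ⟶ F where
  f i := eps W (F.X i)
  comm' i k _ := ((CxOX.extZeroAdj W.ι).counit.naturality (F.d i k)).symm

/-- the transition map on complexes -/
def tauCx (W U : X.Opens) (hWU : W ≤ U) (F : CochainComplex X.Modules ℤ) : ACx W F ⟶ ACx U F where
  f i := tau W U hWU (F.X i)
  comm' i k _ := (tau_naturality W U hWU (F.d i k)).symm

section MVCx

variable (U V : X.Opens) (F : CochainComplex X.Modules ℤ)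

theorem sqCx_comm :
    tauCx (U ⊓ V) U inf_le_left F ≫ epsCx U F = tauCx (U ⊓ V) V inf_le_right F ≫ epsCx V F := by
  refine HomologicalComplex.hom_ext _ _ (fun i => ?_)
  exact sq_comm U V (F.X i)

variable (hUV : U ⊔ V = ⊤)

include hUV in
theorem shortExact_mvCx :
    (CommSq.shortComplex' (⟨sqCx_comm U V F⟩ : CommSq (tauCx (U ⊓ V) U inf_le_left F)
      (tauCx (U ⊓ V) V inf_le_right F) (epsCx U F) (epsCx V F))).ShortExact := by
  apply HomologicalComplex.shortExact_of_degreewise_shortExact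
  intro i
  haveI : PreservesBinaryBiproducts (HomologicalComplex.eval X.Modules (ComplexShape.up ℤ) i) :=
    preservesBinaryBiproducts_of_preservesBiproducts _
  have h0 := shortExact_mv U V (F.X i) hUV
  refine ShortComplex.shortExact_of_iso ?_ h0
  refine ShortComplex.isoMk (Iso.refl _)
    ((HomologicalComplex.eval X.Modules (ComplexShape.up ℤ) i).mapBiprod
      (ACx U F) (ACx V F)).symm (Iso.refl _) ?_ ?_
  · exact (Category.id_comp _).trans
      (biprod.lift_mapBiprod (HomologicalComplex.eval X.Modules (ComplexShape.up ℤ) i)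
        (ACx U F) (ACx V F) (tauCx (U ⊓ V) U inf_le_left F)
        (tauCx (U ⊓ V) V inf_le_right F)).symm
  · exact (biprod.mapBiprod_inv_map_desc
      (HomologicalComplex.eval X.Modules (ComplexShape.up ℤ) i)
        (ACx U F) (ACx V F) (epsCx U F) (-epsCx V F)).trans (Category.comp_id _).symm

end MVCx

/-! ### derived level -/

/-- `j_!(E|_W) ≅ Q(j_! j^* F)` for a representative `F` of `E` -/
def iA (W : X.Opens) (F : CochainComplex X.Modules ℤ) (E : DCoh.D X)
    (eE : DerivedCategory.Q.obj F ≅ E) :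
    (CxOX.extZeroD W.ι).obj ((DCoh.restrictD W.ι).obj E) ≅ DerivedCategory.Q.obj (ACx W F) :=
  (CxOX.extZeroD W.ι).mapIso ((DCoh.restrictD W.ι).mapIso eE.symm ≪≫
      (Scheme.Modules.restrictFunctor W.ι).mapDerivedCategoryFactors.app F) ≪≫
    (CxOX.extZero W.ι).mapDerivedCategoryFactors.app ((RCx W).obj F)

theorem main6513 (U V : X.Opens) (hUV : U ⊔ V = ⊤) (E : DCoh.D X) :
    ∃ (a : (CxOX.extZeroD (U ⊓ V).ι).obj ((DCoh.restrictD (U ⊓ V).ι).obj E) ⟶
        ((CxOX.extZeroD U.ι).obj ((DCoh.restrictD U.ι).obj E) ⊞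
          (CxOX.extZeroD V.ι).obj ((DCoh.restrictD V.ι).obj E)))
      (b : ((CxOX.extZeroD U.ι).obj ((DCoh.restrictD U.ι).obj E) ⊞
          (CxOX.extZeroD V.ι).obj ((DCoh.restrictD V.ι).obj E)) ⟶ E)
      (c : E ⟶ ((CxOX.extZeroD (U ⊓ V).ι).obj ((DCoh.restrictD (U ⊓ V).ι).obj E))⟦(1 : ℤ)⟧),
      Pretriangulated.Triangle.mk a b c ∈ Pretriangulated.distinguishedTriangles := by
  obtain ⟨F, ⟨eE⟩⟩ : ∃ F : CochainComplex X.Modules ℤ,
      Nonempty (DerivedCategory.Q.obj F ≅ E) :=
    ⟨_, ⟨DerivedCategory.Q.objObjPreimageIso E⟩⟩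
  have hS := shortExact_mvCx U V F hUV
  haveI : PreservesBinaryBiproducts (DerivedCategory.Q (C := X.Modules)) :=
    preservesBinaryBiproducts_of_preservesBiproducts _
  exact exists_distTriang_of_isos _ (DerivedCategory.triangleOfSES_distinguished hS)
    (iA (U ⊓ V) F E eE)
    (biprod.mapIso (iA U F E eE) (iA V F E eE) ≪≫
      ((DerivedCategory.Q (C := X.Modules)).mapBiprod (ACx U F) (ACx V F)).symm)
    eE.symm

end

end Groth.Agent.Lib.StalkSkyL
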