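import Mathlib
import Groth.Prelude
import Groth.Agent.Lib.StalkSky5_lead
import Groth.Agent.Lib.MVPush1_lead

/-!
# The Mayer–Vietoris short exact sequence `0 → J → j_{U*}J|_U ⊕ j_{V*}J|_V → j_{UV*}J|_{UV} → 0`
for injective `J`, and for complexes with injective terms (lead)
-/

set_option autoImplicit false
set_option linter.all false
set_option maxHeartbeats 1600000
set_option backward.isDefEq.respectTransparency false
set_option backward.isDefEq.respectTransparency.types false
set_option backward.defeqAttrib.useBackward true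

universe u
open CategoryTheory CategoryTheory.Limits AlgebraicGeometry Opposite TopologicalSpace

namespace Groth.Agent.Lib.MVPushL

open Groth.Agent.Lib.StalkSkyL

noncomputable section

variable {X : Scheme.{u}}

/-- `j_* j^*` -/
abbrev BP (W : X.Opens) : X.Modules ⥤ X.Modules :=
  Scheme.Modules.restrictFunctor W.ι ⋙ Scheme.Modules.pushforward W.ι

/-- `j_! j^* ⊣ j_* j^*` -/
def adjAB (W : X.Opens) : LR W ⊣ BP W :=
  (Scheme.Modules.restrictAdjunction W.ι).comp (CxOX.extZeroAdj W.ι)

/-- `tau` as a natural transformation -/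
def tauNat (W U : X.Opens) (hWU : W ≤ U) : LR W ⟶ LR U where
  app M := tau W U hWU M
  naturality _ _ φ := tau_naturality W U hWU φ

/-- the counit `j_! j^* ⟶ 𝟭` -/
abbrev epsNat (W : X.Opens) : LR W ⟶ 𝟭 X.Modules := (CxOX.extZeroAdj W.ι).counit

theorem tau_eps_nat (U V : X.Opens) :
    tauNat (U ⊓ V) U inf_le_left ≫ epsNat U = tauNat (U ⊓ V) V inf_le_right ≫ epsNat V :=
  NatTrans.ext (funext fun M => sq_comm U V M)

/-- restriction `j_{U*}j_U^* ⟶ j_{W*}j_W^*`, the conjugate of `tau` -/
def rhoNat (W U : X.Opens) (hWU : W ≤ U) : BP U ⟶ BP W :=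
  conjugateEquiv (adjAB U) (adjAB W) (tauNat W U hWU)

/-- `𝟭 ⟶ j_* j^*`, the conjugate of the counit -/
def etaNat (W : X.Opens) : 𝟭 X.Modules ⟶ BP W :=
  conjugateEquiv Adjunction.id (adjAB W) (epsNat W)

/-- the module-level short complex `J → j_{U*}J|_U ⊞ j_{V*}J|_V → j_{UV*}J|_{UV}` -/
def mvSC (U V : X.Opens) (J : X.Modules) : ShortComplex X.Modules :=
  conjSC (adjAB (U ⊓ V)) (adjAB U) (adjAB V) (tauNat (U ⊓ V) U inf_le_left)
    (tauNat (U ⊓ V) V inf_le_right) (epsNat U) (epsNat V) (tau_eps_nat U V) J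

theorem shortExact_mvSC (U V : X.Opens) (hUV : U ⊔ V = ⊤) (J : X.Modules) [Injective J] :
    (mvSC U V J).ShortExact := by
  apply shortExact_conjSC
  · intro M
    exact (shortExact_mv U V M hUV).mono_f
  · intro M
    exact (shortExact_mv U V M hUV).epi_g
  · intro M Z φ h
    haveI := (shortExact_mv U V M hUV).epi_g
    exact (shortExact_mv U V M hUV).exact.desc' φ h

/-! ### complexes -/

/-- pushforward of complexes -/
abbrev PCx (W : X.Opens) : CochainComplex W.toScheme.Modules ℤ ⥤ CochainComplex X.Modules ℤ :=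
  (Scheme.Modules.pushforward W.ι).mapHomologicalComplex (ComplexShape.up ℤ)

/-- `j_* j^* I` for a complex `I` -/
abbrev BCx (W : X.Opens) (I : CochainComplex X.Modules ℤ) : CochainComplex X.Modules ℤ :=
  (PCx W).obj ((RCx W).obj I)

/-- `I ⟶ j_* j^* I` -/
def etaCx (W : X.Opens) (I : CochainComplex X.Modules ℤ) : I ⟶ BCx W I where
  f i := (etaNat W).app (I.X i)
  comm' i k _ := ((etaNat W).naturality (I.d i k)).symm

/-- `j_{U*} j_U^* I ⟶ j_{W*} j_W^* I` -/
def rhoCx (W U : X.Opens) (hWU : W ≤ U) (I : CochainComplex X.Modules ℤ) :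
    BCx U I ⟶ BCx W I where
  f i := (rhoNat W U hWU).app (I.X i)
  comm' i k _ := ((rhoNat W U hWU).naturality (I.d i k)).symm

theorem etaCx_rhoCx (U V : X.Opens) (I : CochainComplex X.Modules ℤ) :
    etaCx U I ≫ rhoCx (U ⊓ V) U inf_le_left I = etaCx V I ≫ rhoCx (U ⊓ V) V inf_le_right I := by
  refine HomologicalComplex.hom_ext _ _ (fun i => ?_)
  exact eta_rho (adjAB (U ⊓ V)) (adjAB U) (adjAB V) (tauNat (U ⊓ V) U inf_le_left)
    (tauNat (U ⊓ V) V inf_le_right) (epsNat U) (epsNat V) (tau_eps_nat U V) (I.X i)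

/-- the short complex of complexes `I → j_{U*}I|_U ⊞ j_{V*}I|_V → j_{UV*}I|_{UV}` -/
def mvSCx (U V : X.Opens) (I : CochainComplex X.Modules ℤ) :
    ShortComplex (CochainComplex X.Modules ℤ) :=
  ShortComplex.mk (biprod.lift (etaCx U I) (etaCx V I))
    (biprod.desc (rhoCx (U ⊓ V) U inf_le_left I) (-(rhoCx (U ⊓ V) V inf_le_right I)))
    (by
      rw [biprod.lift_desc, Preadditive.comp_neg, ← sub_eq_add_neg, sub_eq_zero]
      exact etaCx_rhoCx U V I)

/-- degreewise, the short complex of complexes is the module-level one -/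
def mvSCxEvalIso (U V : X.Opens) (I : CochainComplex X.Modules ℤ) (i : ℤ) :
    mvSC U V (I.X i) ≅
      (mvSCx U V I).map (HomologicalComplex.eval X.Modules (ComplexShape.up ℤ) i) := by
  haveI : PreservesBinaryBiproducts (HomologicalComplex.eval X.Modules (ComplexShape.up ℤ) i) :=
    preservesBinaryBiproducts_of_preservesBiproducts _
  refine ShortComplex.isoMk (Iso.refl _)
    ((HomologicalComplex.eval X.Modules (ComplexShape.up ℤ) i).mapBiprod
      (BCx U I) (BCx V I)).symm (Iso.refl _) ?_ ?_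
  · exact (Category.id_comp _).trans
      (biprod.lift_mapBiprod (HomologicalComplex.eval X.Modules (ComplexShape.up ℤ) i)
        (BCx U I) (BCx V I) (etaCx U I) (etaCx V I)).symm
  · exact (biprod.mapBiprod_inv_map_desc
      (HomologicalComplex.eval X.Modules (ComplexShape.up ℤ) i)
        (BCx U I) (BCx V I) (rhoCx (U ⊓ V) U inf_le_left I)
        (-(rhoCx (U ⊓ V) V inf_le_right I))).trans (Category.comp_id _).symm

theorem shortExact_mvSCx_eval (U V : X.Opens) (hUV : U ⊔ V = ⊤)
    (I : CochainComplex X.Modules ℤ) (hI : ∀ n, Injective (I.X n)) (i : ℤ) :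
    ((mvSCx U V I).map
      (HomologicalComplex.eval X.Modules (ComplexShape.up ℤ) i)).ShortExact := by
  haveI := hI i
  exact ShortComplex.shortExact_of_iso (mvSCxEvalIso U V I i) (shortExact_mvSC U V hUV (I.X i))

theorem shortExact_mvSCx (U V : X.Opens) (hUV : U ⊔ V = ⊤)
    (I : CochainComplex X.Modules ℤ) (hI : ∀ n, Injective (I.X n)) :
    (mvSCx U V I).ShortExact :=
  HomologicalComplex.shortExact_of_degreewise_shortExact _
    (fun i => shortExact_mvSCx_eval U V hUV I hI i)

/-- the sequence stays short exact after applying any additive functor termwise (it is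
termwise split) -/
theorem shortExact_mvSCx_map {𝒟 : Type*} [Category 𝒟] [Abelian 𝒟] (G : X.Modules ⥤ 𝒟)
    [G.Additive] (U V : X.Opens) (hUV : U ⊔ V = ⊤)
    (I : CochainComplex X.Modules ℤ) (hI : ∀ n, Injective (I.X n)) :
    ((mvSCx U V I).map (G.mapHomologicalComplex (ComplexShape.up ℤ))).ShortExact := by
  apply HomologicalComplex.shortExact_of_degreewise_shortExact
  intro i
  have h1 := shortExact_mvSCx_eval U V hUV I hI i
  haveI : Injective ((mvSCx U V I).map
      (HomologicalComplex.eval X.Modules (ComplexShape.up ℤ) i)).X₁ := hI i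
  exact (h1.splittingOfInjective.map G).shortExact

end

end Groth.Agent.Lib.MVPushL
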