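import Mathlib
import Groth.Prelude
import Groth.Agent.Lib.MVPush2_lead
import Groth.Agent.Lib.RDerGE_helper7

/-!
# Mayer–Vietoris triangles for `Rj_*` and `Rf_*` (lead)
-/

set_option autoImplicit false
set_option linter.all false
set_option maxHeartbeats 1600000
set_option backward.isDefEq.respectTransparency false
set_option backward.isDefEq.respectTransparency.types false
set_option backward.defeqAttrib.useBackward true

universe u
open CategoryTheory CategoryTheory.Limits AlgebraicGeometry Opposite TopologicalSpace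
open CategoryTheory.Pretriangulated
attribute [local instance] HasDerivedCategory.standard

namespace Groth.Agent.Lib.MVPushL

open Groth.Agent.Lib.StalkSkyL

noncomputable section

theorem grothendieck_modules (Y : Scheme.{u}) : IsGrothendieckAbelian.{u} Y.Modules :=
  Groth.Agent.Lib.FunctorialInjective.isGrothendieckAbelian_sheafOfModules
    (Opens.grothendieckTopology Y) Y.ringCatSheaf

variable {X : Scheme.{u}}

theorem isKInjective_RCx (W : X.Opens) (I : CochainComplex X.Modules ℤ) [I.IsKInjective] :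
    ((RCx W).obj I).IsKInjective :=
  isKInjective_map_of_adjunction (CxOX.extZeroAdj W.ι) I

/-- `E|_W ≅ Q(I|_W)` for a representative `I` of `E` -/
def iR (W : X.Opens) (I : CochainComplex X.Modules ℤ) (E : DCoh.D X)
    (eE : DerivedCategory.Q.obj I ≅ E) :
    (DCoh.restrictD W.ι).obj E ≅ DerivedCategory.Q.obj ((RCx W).obj I) :=
  (DCoh.restrictD W.ι).mapIso eE.symm ≪≫
    (Scheme.Modules.restrictFunctor W.ι).mapDerivedCategoryFactors.app I

/-- `Rj_*(E|_W) ≅ Q(j_* j^* I)` for a K-injective representative `I` of `E` -/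
def iB (W : X.Opens) [DCoh.HasRpush W.ι] (I : CochainComplex X.Modules ℤ) [I.IsKInjective]
    (E : DCoh.D X) (eE : DerivedCategory.Q.obj I ≅ E) :
    (DCoh.Rpush W.ι).obj ((DCoh.restrictD W.ι).obj E) ≅ DerivedCategory.Q.obj (BCx W I) :=
  haveI := isKInjective_RCx W I
  haveI := grothendieck_modules W.toScheme
  (DCoh.Rpush W.ι).mapIso (iR W I E eE) ≪≫
    (Groth.Agent.Lib.RDerGE.unitIso (Scheme.Modules.pushforward W.ι) ((RCx W).obj I)).symm

theorem main6510 (U V : X.Opens) (hUV : U ⊔ V = ⊤)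
    [DCoh.HasRpush U.ι] [DCoh.HasRpush V.ι] [DCoh.HasRpush (U ⊓ V).ι] (E : DCoh.D X) :
    ∃ (a : E ⟶ ((DCoh.Rpush U.ι).obj ((DCoh.restrictD U.ι).obj E) ⊞
        (DCoh.Rpush V.ι).obj ((DCoh.restrictD V.ι).obj E)))
      (b : ((DCoh.Rpush U.ι).obj ((DCoh.restrictD U.ι).obj E) ⊞
        (DCoh.Rpush V.ι).obj ((DCoh.restrictD V.ι).obj E)) ⟶
          (DCoh.Rpush (U ⊓ V).ι).obj ((DCoh.restrictD (U ⊓ V).ι).obj E))
      (c : (DCoh.Rpush (U ⊓ V).ι).obj ((DCoh.restrictD (U ⊓ V).ι).obj E) ⟶ (E)⟦(1 : ℤ)⟧),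
      Pretriangulated.Triangle.mk a b c ∈ Pretriangulated.distinguishedTriangles := by
  haveI := grothendieck_modules X
  obtain ⟨I, hI, hinj, ⟨eE⟩⟩ := Groth.Agent.Lib.KInjGen8.exists_kInjective_rep E
  haveI := hI
  have hS : (mvSCx U V I).ShortExact := shortExact_mvSCx U V hUV I hinj
  haveI : PreservesBinaryBiproducts (DerivedCategory.Q (C := X.Modules)) :=
    preservesBinaryBiproducts_of_preservesBiproducts _
  exact exists_distTriang_of_isos _ (DerivedCategory.triangleOfSES_distinguished hS)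
    eE.symm
    (biprod.mapIso (iB U I E eE) (iB V I E eE) ≪≫
      ((DerivedCategory.Q (C := X.Modules)).mapBiprod (BCx U I) (BCx V I)).symm)
    (iB (U ⊓ V) I E eE)

/-! ### the relative version -/

section Rel

variable {Y : Scheme.{u}} (f : X ⟶ Y)

/-- `f_*` on complexes -/
abbrev FCx : CochainComplex X.Modules ℤ ⥤ CochainComplex Y.Modules ℤ :=
  (Scheme.Modules.pushforward f).mapHomologicalComplex (ComplexShape.up ℤ)

/-- `f_* j_* K ≅ (j ≫ f)_* K` on complexes -/
def pushCompCx (W : X.Opens) (K : CochainComplex W.toScheme.Modules ℤ) :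
    (FCx f).obj ((PCx W).obj K) ≅
      ((Scheme.Modules.pushforward (W.ι ≫ f)).mapHomologicalComplex (ComplexShape.up ℤ)).obj K :=
  HomologicalComplex.Hom.isoOfComponents
    (fun i => (Scheme.Modules.pushforwardComp W.ι f).app (K.X i))
    (fun i j _ => ((Scheme.Modules.pushforwardComp W.ι f).hom.naturality (K.d i j)).symm)

/-- `R(j ≫ f)_*(E|_W) ≅ Q(f_* j_* j^* I)` for a K-injective representative `I` of `E` -/
def iC (W : X.Opens) [DCoh.HasRpush (W.ι ≫ f)] (I : CochainComplex X.Modules ℤ)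
    [I.IsKInjective] (E : DCoh.D X) (eE : DerivedCategory.Q.obj I ≅ E) :
    (DCoh.Rpush (W.ι ≫ f)).obj ((DCoh.restrictD W.ι).obj E) ≅
      DerivedCategory.Q.obj ((FCx f).obj (BCx W I)) :=
  haveI := isKInjective_RCx W I
  haveI := grothendieck_modules W.toScheme
  (DCoh.Rpush (W.ι ≫ f)).mapIso (iR W I E eE) ≪≫
    (Groth.Agent.Lib.RDerGE.unitIso (Scheme.Modules.pushforward (W.ι ≫ f))
      ((RCx W).obj I)).symm ≪≫
    DerivedCategory.Q.mapIso (pushCompCx f W ((RCx W).obj I)).symm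

theorem main6511 (U V : X.Opens) (hUV : U ⊔ V = ⊤)
    [DCoh.HasRpush f] [DCoh.HasRpush (U.ι ≫ f)] [DCoh.HasRpush (V.ι ≫ f)]
    [DCoh.HasRpush ((U ⊓ V).ι ≫ f)] (E : DCoh.D X) :
    ∃ (a : (DCoh.Rpush f).obj E ⟶ ((DCoh.Rpush (U.ι ≫ f)).obj ((DCoh.restrictD U.ι).obj E) ⊞
        (DCoh.Rpush (V.ι ≫ f)).obj ((DCoh.restrictD V.ι).obj E)))
      (b : ((DCoh.Rpush (U.ι ≫ f)).obj ((DCoh.restrictD U.ι).obj E) ⊞
        (DCoh.Rpush (V.ι ≫ f)).obj ((DCoh.restrictD V.ι).obj E)) ⟶
          (DCoh.Rpush ((U ⊓ V).ι ≫ f)).obj ((DCoh.restrictD (U ⊓ V).ι).obj E))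
      (c : (DCoh.Rpush ((U ⊓ V).ι ≫ f)).obj ((DCoh.restrictD (U ⊓ V).ι).obj E) ⟶
        ((DCoh.Rpush f).obj E)⟦(1 : ℤ)⟧),
      Pretriangulated.Triangle.mk a b c ∈ Pretriangulated.distinguishedTriangles := by
  haveI := grothendieck_modules X
  obtain ⟨I, hI, hinj, ⟨eE⟩⟩ := Groth.Agent.Lib.KInjGen8.exists_kInjective_rep E
  haveI := hI
  have hS : ((mvSCx U V I).map (FCx f)).ShortExact :=
    shortExact_mvSCx_map (Scheme.Modules.pushforward f) U V hUV I hinj
  haveI : PreservesBinaryBiproducts (FCx f ⋙ DerivedCategory.Q (C := Y.Modules)) :=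
    preservesBinaryBiproducts_of_preservesBiproducts _
  exact exists_distTriang_of_isos _ (DerivedCategory.triangleOfSES_distinguished hS)
    ((DCoh.Rpush f).mapIso eE.symm ≪≫
      (Groth.Agent.Lib.RDerGE.unitIso (Scheme.Modules.pushforward f) I).symm)
    (biprod.mapIso (iC f U I E eE) (iC f V I E eE) ≪≫
      ((FCx f ⋙ DerivedCategory.Q (C := Y.Modules)).mapBiprod (BCx U I) (BCx V I)).symm)
    (iC f (U ⊓ V) I E eE)

end Rel

end

end Groth.Agent.Lib.MVPushL
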