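import Mathlib
import Groth.Prelude
import Groth.Agent.Lib.MVPush3_lead
import Groth.Agent.Lib.DCohLoc6_lead

/-!
# `E ≅ Rj_*(E|_U)` and `j_! F ≅ Rj_* F` for complexes supported on a closed subset of `U` (lead)
-/

set_option autoImplicit false
set_option linter.all false
set_option maxHeartbeats 1600000
set_option backward.isDefEq.respectTransparency false
set_option backward.isDefEq.respectTransparency.types false
set_option backward.defeqAttrib.useBackward true

universe u
open CategoryTheory CategoryTheory.Limits AlgebraicGeometry Opposite TopologicalSpace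
open CategoryTheory.Pretriangulated
attribute [local instance] HasDerivedCategory.standard

namespace Groth.Agent.Lib.MVPushL

open Groth.Agent.Lib.StalkSkyL

noncomputable section

/-! ### generalities on derived categories -/

section General

variable {C : Type*} [Category C] [Abelian C] [HasDerivedCategory C]

open ZeroObject in
theorem isZero_of_forall_isZero_homology (K : DerivedCategory C)
    (h : ∀ n : ℤ, IsZero ((DerivedCategory.homologyFunctor C n).obj K)) : IsZero K := by
  haveI : IsIso (0 : K ⟶ 0) := by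
    rw [DerivedCategory.isIso_iff]
    intro n
    exact isIso_of_source_target_iso_zero _ (h n).isoZero
      (((DerivedCategory.homologyFunctor C n).map_isZero (isZero_zero _)).isoZero)
  exact IsZero.of_iso (isZero_zero _) (asIso (0 : K ⟶ 0))

theorem isIso_Q_map_fst_of_isZero (A B : CochainComplex C ℤ)
    (hB : IsZero (DerivedCategory.Q.obj B)) :
    IsIso (DerivedCategory.Q.map (biprod.fst : A ⊞ B ⟶ A)) := by
  refine ⟨DerivedCategory.Q.map biprod.inl, ?_, ?_⟩
  · rw [← Functor.map_comp]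
    have h1 : (biprod.fst : A ⊞ B ⟶ A) ≫ biprod.inl = 𝟙 _ - biprod.snd ≫ biprod.inr := by
      rw [eq_sub_iff_add_eq, biprod.total]
    rw [h1, Functor.map_sub, CategoryTheory.Functor.map_id, Functor.map_comp,
      hB.eq_of_tgt (DerivedCategory.Q.map biprod.snd) 0, zero_comp, sub_zero]
  · rw [← Functor.map_comp, biprod.inl_fst, CategoryTheory.Functor.map_id]

theorem isZero_Q_obj_map_of_acyclic {D : Type*} [Category D] [Abelian D] [HasDerivedCategory D]
    (G : C ⥤ D) [G.Additive] (J : CochainComplex C ℤ) [J.IsKInjective] (hJ : J.Acyclic) :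
    IsZero (DerivedCategory.Q.obj ((G.mapHomologicalComplex (ComplexShape.up ℤ)).obj J)) := by
  have h : Homotopy (𝟙 J) 0 := CochainComplex.IsKInjective.homotopyZero (𝟙 J) hJ
  rw [IsZero.iff_id_eq_zero, ← CategoryTheory.Functor.map_id, ← CategoryTheory.Functor.map_id,
    DerivedCategory.Q_map_eq_of_homotopy _ (Functor.mapHomotopy G h), Functor.map_zero,
    Functor.map_zero]

end General

variable {X : Scheme.{u}}

theorem isZero_restrict_of_support (W : X.Opens) (M : X.Modules)
    (h : ∀ x : X, x ∈ W → x ∉ CohB1.support M) :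
    IsZero ((Scheme.Modules.restrictFunctor W.ι).obj M) := by
  apply isZero_of_forall_stalk
  intro y
  haveI : Subsingleton (M.presheaf.stalk (W.ι.base y)) := not_not.mp (h _ y.2)
  exact (RestrStalkH8.restrictStalkEquiv W.ι M y).toEquiv.subsingleton

/-- the restriction of a K-injective complex to an open where its cohomology vanishes is acyclic -/
theorem acyclic_RCx_of_support (W : X.Opens) (I : CochainComplex X.Modules ℤ) (E : DCoh.D X)
    (eE : DerivedCategory.Q.obj I ≅ E)
    (h : ∀ (i : ℤ) (x : X), x ∈ W → x ∉ CohB1.support (DCoh.HD E i)) :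
    ((RCx W).obj I).Acyclic := by
  intro i
  rw [HomologicalComplex.exactAt_iff_isZero_homology]
  let b : ((RCx W).obj I).homology i ≅ (Scheme.Modules.restrictFunctor W.ι).obj (I.homology i) :=
    (I.sc i).mapHomologyIso (Scheme.Modules.restrictFunctor W.ι)
  let c : I.homology i ≅ DCoh.HD E i :=
    ((DerivedCategory.homologyFunctorFactors X.Modules i).app I).symm ≪≫
      (DerivedCategory.homologyFunctor X.Modules i).mapIso eE
  exact IsZero.of_iso (isZero_restrict_of_support W _ (h i))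
    (b ≪≫ (Scheme.Modules.restrictFunctor W.ι).mapIso c)

theorem part1 (U : X.Opens) [DCoh.HasRpush U.ι] (T : Set X) (hT : IsClosed T)
    (hTU : T ⊆ (U : Set X)) (E : DCoh.D X)
    (hE : ∀ i : ℤ, CohB1.support (DCoh.HD E i) ⊆ T) :
    Nonempty (E ≅ (DCoh.Rpush U.ι).obj ((DCoh.restrictD U.ι).obj E)) := by
  let V : X.Opens := ⟨Tᶜ, hT.isOpen_compl⟩
  have hUV : U ⊔ V = ⊤ := by
    apply TopologicalSpace.Opens.ext
    ext x
    simp only [TopologicalSpace.Opens.coe_sup, TopologicalSpace.Opens.coe_top, Set.mem_union,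
      Set.mem_univ, iff_true]
    by_cases hx : x ∈ T
    · exact Or.inl (hTU hx)
    · exact Or.inr hx
  haveI := grothendieck_modules X
  obtain ⟨I, hI, hinj, ⟨eE⟩⟩ := Groth.Agent.Lib.KInjGen8.exists_kInjective_rep E
  haveI := hI
  have hS := shortExact_mvSCx U V hUV I hinj
  have hTri := DerivedCategory.triangleOfSES_distinguished hS
  have hV : ∀ (i : ℤ) (x : X), x ∈ V → x ∉ CohB1.support (DCoh.HD E i) := by
    intro i x hx hxs
    have hx' : x ∉ T := hx
    exact hx' (hE i hxs)
  have hUVs : ∀ (i : ℤ) (x : X), x ∈ U ⊓ V → x ∉ CohB1.support (DCoh.HD E i) :=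
    fun i x hx => hV i x hx.2
  haveI := isKInjective_RCx V I
  haveI := isKInjective_RCx (U ⊓ V) I
  have hz3 : IsZero (DerivedCategory.Q.obj (BCx (U ⊓ V) I)) :=
    isZero_Q_obj_map_of_acyclic (Scheme.Modules.pushforward (U ⊓ V).ι) _
      (acyclic_RCx_of_support (U ⊓ V) I E eE hUVs)
  have hzV : IsZero (DerivedCategory.Q.obj (BCx V I)) :=
    isZero_Q_obj_map_of_acyclic (Scheme.Modules.pushforward V.ι) _
      (acyclic_RCx_of_support V I E eE hV)
  haveI h1 : IsIso (DerivedCategory.Q.map (mvSCx U V I).f) :=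
    (Triangle.isZero₃_iff_isIso₁ _ hTri).mp hz3
  haveI h2 := isIso_Q_map_fst_of_isZero (BCx U I) (BCx V I) hzV
  haveI h3 : IsIso (DerivedCategory.Q.map (etaCx U I)) := by
    have : etaCx U I = (mvSCx U V I).f ≫ biprod.fst := (biprod.lift_fst _ _).symm
    rw [this, Functor.map_comp]
    infer_instance
  exact ⟨eE.symm ≪≫ asIso (DerivedCategory.Q.map (etaCx U I)) ≪≫ (iB U I E eE).symm⟩

/-! ### extension by zero -/

section ExtZero

variable (U : X.Opens)

/-- `(j_! F)|_U ≅ F` in the derived category -/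
theorem nonempty_restrictD_extZeroD_iso (F : DCoh.D (U : Scheme.{u})) :
    Nonempty ((DCoh.restrictD U.ι).obj ((CxOX.extZeroD U.ι).obj F) ≅ F) := by
  let K : CochainComplex (U : Scheme.{u}).Modules ℤ := DerivedCategory.Q.objPreimage F
  let eF : DerivedCategory.Q.obj K ≅ F := DerivedCategory.Q.objObjPreimageIso F
  haveI : ∀ n, IsIso (((unitC (CxOX.extZeroAdj U.ι) (ComplexShape.up ℤ)).app K).f n) := by
    intro n
    show IsIso ((CxOX.extZeroAdj U.ι).unit.app (K.X n))
    infer_instance
  haveI : IsIso ((unitC (CxOX.extZeroAdj U.ι) (ComplexShape.up ℤ)).app K) :=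
    HomologicalComplex.Hom.isIso_of_components _
  exact ⟨(DCoh.restrictD U.ι).mapIso ((CxOX.extZeroD U.ι).mapIso eF.symm ≪≫
      (CxOX.extZero U.ι).mapDerivedCategoryFactors.app K) ≪≫
    (Scheme.Modules.restrictFunctor U.ι).mapDerivedCategoryFactors.app ((LCx U).obj K) ≪≫
    (asIso (DerivedCategory.Q.map
      ((unitC (CxOX.extZeroAdj U.ι) (ComplexShape.up ℤ)).app K))).symm ≪≫ eF⟩

/-- cohomology sheaves commute with extension by zero -/
theorem nonempty_HD_extZeroD_iso (F : DCoh.D (U : Scheme.{u})) (i : ℤ) :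
    Nonempty (DCoh.HD ((CxOX.extZeroD U.ι).obj F) i ≅ (CxOX.extZero U.ι).obj (DCoh.HD F i)) := by
  let K : CochainComplex (U : Scheme.{u}).Modules ℤ := DerivedCategory.Q.objPreimage F
  let eF : DerivedCategory.Q.obj K ≅ F := DerivedCategory.Q.objObjPreimageIso F
  let a : DCoh.HD ((CxOX.extZeroD U.ι).obj F) i ≅ ((LCx U).obj K).homology i :=
    (DerivedCategory.homologyFunctor X.Modules i).mapIso
      ((CxOX.extZeroD U.ι).mapIso eF.symm ≪≫
        (CxOX.extZero U.ι).mapDerivedCategoryFactors.app K) ≪≫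
      (DerivedCategory.homologyFunctorFactors X.Modules i).app ((LCx U).obj K)
  let b : ((LCx U).obj K).homology i ≅ (CxOX.extZero U.ι).obj (K.homology i) :=
    (K.sc i).mapHomologyIso (CxOX.extZero U.ι)
  let c : K.homology i ≅ DCoh.HD F i :=
    ((DerivedCategory.homologyFunctorFactors (U : Scheme.{u}).Modules i).app K).symm ≪≫
      (DerivedCategory.homologyFunctor (U : Scheme.{u}).Modules i).mapIso eF
  exact ⟨a ≪≫ b ≪≫ (CxOX.extZero U.ι).mapIso c⟩

theorem support_eq_of_iso {M N : X.Modules} (e : M ≅ N) :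
    CohB1.support M = CohB1.support N := by
  ext x
  have e' := ((DerSch.stalkFunctor X x).mapIso e).toLinearEquiv.toEquiv
  show ¬ Subsingleton (M.presheaf.stalk x) ↔ ¬ Subsingleton (N.presheaf.stalk x)
  rw [not_iff_not]
  exact ⟨fun h => @Equiv.subsingleton _ _ e'.symm h, fun h => @Equiv.subsingleton _ _ e' h⟩

theorem support_extZero_subset (M : (U : Scheme.{u}).Modules) :
    CohB1.support ((CxOX.extZero U.ι).obj M) ⊆
      (fun x : (U : Scheme.{u}) => U.ι.base x) '' CohB1.support M := by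
  intro x hx
  by_cases hxU : x ∈ Set.range U.ι.base
  · obtain ⟨y, rfl⟩ := hxU
    refine ⟨y, ?_, rfl⟩
    intro hy
    apply hx
    haveI : Subsingleton (M.presheaf.stalk y) := hy
    have e1 := ((DerSch.stalkFunctor (U : Scheme.{u}) y).mapIso
      (asIso ((CxOX.extZeroAdj U.ι).unit.app M))).toLinearEquiv.toEquiv
    haveI : Subsingleton ((((CxOX.extZero U.ι).obj M).restrict U.ι).presheaf.stalk y) :=
      @Equiv.subsingleton _ _ e1.symm hy
    exact (RestrStalkH8.restrictStalkEquiv U.ι ((CxOX.extZero U.ι).obj M) y).symm.toEquiv.subsingleton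
  · exact absurd (subsingleton_stalk_extZero U.ι M x hxU) hx

theorem part2 [DCoh.HasRpush U.ι] (T : Set X) (hT : IsClosed T) (hTU : T ⊆ (U : Set X))
    (F : DCoh.D (U : Scheme.{u}))
    (hF : ∀ i : ℤ, (fun x : (U : Scheme.{u}) => U.ι.base x) '' CohB1.support (DCoh.HD F i) ⊆ T) :
    Nonempty ((CxOX.extZeroD U.ι).obj F ≅ (DCoh.Rpush U.ι).obj F) := by
  have hE : ∀ i : ℤ, CohB1.support (DCoh.HD ((CxOX.extZeroD U.ι).obj F) i) ⊆ T := by
    intro i
    obtain ⟨e⟩ := nonempty_HD_extZeroD_iso U F i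
    rw [support_eq_of_iso e]
    exact (support_extZero_subset U _).trans (hF i)
  obtain ⟨e1⟩ := part1 U T hT hTU ((CxOX.extZeroD U.ι).obj F) hE
  obtain ⟨e2⟩ := nonempty_restrictD_extZeroD_iso U F
  exact ⟨e1 ≪≫ (DCoh.Rpush U.ι).mapIso e2⟩

end ExtZero

theorem main6528 (U : X.Opens) [DCoh.HasRpush U.ι] (T : Set X) (hT : IsClosed T)
    (hTU : T ⊆ (U : Set X)) :
    (∀ E : DCoh.D X, (∀ i : ℤ, CohB1.support (DCoh.HD E i) ⊆ T) →
      Nonempty (E ≅ (DCoh.Rpush U.ι).obj ((DCoh.restrictD U.ι).obj E))) ∧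
    (∀ F : DCoh.D (U : Scheme.{u}),
      (∀ i : ℤ, (fun x : (U : Scheme.{u}) => U.ι.base x) '' CohB1.support (DCoh.HD F i) ⊆ T) →
      Nonempty ((CxOX.extZeroD U.ι).obj F ≅ (DCoh.Rpush U.ι).obj F)) :=
  ⟨fun E hE => part1 U T hT hTU E hE, fun F hF => part2 U T hT hTU F hF⟩

end

end Groth.Agent.Lib.MVPushL
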