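import Mathlib
import Groth.Prelude
import Groth.Agent.Lib.MVPush5_lead
import Groth.Agent.Lib.DerProd_helper9

/-!
# A morphism of `D(O_Y)` is an isomorphism iff `RΓ(U, -)` of it is, for all affine opens `U` (lead)
-/

set_option autoImplicit false
set_option linter.all false
set_option maxHeartbeats 1600000
set_option backward.isDefEq.respectTransparency false
set_option backward.isDefEq.respectTransparency.types false
set_option backward.defeqAttrib.useBackward true

universe u
open CategoryTheory CategoryTheory.Limits AlgebraicGeometry Opposite TopologicalSpace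
open CategoryTheory.Pretriangulated
attribute [local instance] HasDerivedCategory.standard

namespace Groth.Agent.Lib.AffIsoL

open Groth.Agent.Lib.StalkSkyL Groth.Agent.Lib.MVPushL Groth.Agent.Lib.DCohLocLead
open Groth.Agent.Lib.TorAmpPushL

noncomputable section

/-! ### generalities -/

theorem isIso_map_iff_of_natTrans {C D : Type*} [Category C] [Category D] {G G' : C ⥤ D}
    (β : G ⟶ G') {a b : C} (m : a ⟶ b) [IsIso (β.app a)] [IsIso (β.app b)] :
    IsIso (G.map m) ↔ IsIso (G'.map m) := by
  have nat := β.naturality m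
  constructor
  · intro h
    have e : G'.map m = inv (β.app a) ≫ G.map m ≫ β.app b := by
      rw [nat, IsIso.inv_hom_id_assoc]
    rw [e]
    infer_instance
  · intro h
    have e : G.map m = β.app a ≫ G'.map m ≫ inv (β.app b) := by
      rw [← Category.assoc, ← nat, Category.assoc, IsIso.hom_inv_id, Category.comp_id]
    rw [e]
    infer_instance

section General

universe w₁ w₂ v₁ v₂ u₁ u₂

variable {A : Type u₁} [Category.{v₁} A] [Abelian A] [IsGrothendieckAbelian.{v₁} A]
  [HasDerivedCategory.{w₁} A]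
  {B : Type u₂} [Category.{v₂} B] [Abelian B] [HasDerivedCategory.{w₂} B] (F : A ⥤ B) [F.Additive]
  [(F.mapHomotopyCategory (ComplexShape.up ℤ) ⋙ DerivedCategory.Qh).HasRightDerivedFunctor
    (HomotopyCategory.quasiIso A (ComplexShape.up ℤ))]

/-- on K-injective complexes, `RF` of a chain map is an isomorphism iff `F` of it is a
quasi-isomorphism -/
theorem isIso_RF_map_iff {I₁ I₂ : CochainComplex A ℤ} [I₁.IsKInjective] [I₂.IsKInjective]
    (ψ : I₁ ⟶ I₂) :
    IsIso ((Groth.Agent.Lib.RDerGE.RF F).map (DerivedCategory.Q.map ψ)) ↔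
      IsIso (DerivedCategory.Q.map ((F.mapHomologicalComplex (ComplexShape.up ℤ)).map ψ)) := by
  haveI := Groth.Agent.Lib.RDerGE.isIso_unit F I₁
  haveI := Groth.Agent.Lib.RDerGE.isIso_unit F I₂
  have h1 : IsIso ((Groth.Agent.Lib.RDerGE.RF F).map (DerivedCategory.Q.map ψ)) ↔
      IsIso ((DerivedCategory.Qh ⋙ Groth.Agent.Lib.RDerGE.RF F).map
        ((HomotopyCategory.quotient A (ComplexShape.up ℤ)).map ψ)) :=
    NatIso.isIso_map_iff (Functor.isoWhiskerRight (DerivedCategory.quotientCompQhIso A).symm
      (Groth.Agent.Lib.RDerGE.RF F) ≪≫ Functor.associator _ _ _) ψ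
  have h2 : IsIso ((F.mapHomotopyCategory (ComplexShape.up ℤ) ⋙ DerivedCategory.Qh).map
        ((HomotopyCategory.quotient A (ComplexShape.up ℤ)).map ψ)) ↔
      IsIso ((DerivedCategory.Qh ⋙ Groth.Agent.Lib.RDerGE.RF F).map
        ((HomotopyCategory.quotient A (ComplexShape.up ℤ)).map ψ)) :=
    isIso_map_iff_of_natTrans
      ((F.mapHomotopyCategory (ComplexShape.up ℤ) ⋙ DerivedCategory.Qh).totalRightDerivedUnit
        DerivedCategory.Qh (HomotopyCategory.quasiIso A (ComplexShape.up ℤ)))
      ((HomotopyCategory.quotient A (ComplexShape.up ℤ)).map ψ)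
  have h3 : IsIso ((F.mapHomotopyCategory (ComplexShape.up ℤ) ⋙ DerivedCategory.Qh).map
        ((HomotopyCategory.quotient A (ComplexShape.up ℤ)).map ψ)) ↔
      IsIso (DerivedCategory.Q.map ((F.mapHomologicalComplex (ComplexShape.up ℤ)).map ψ)) :=
    NatIso.isIso_map_iff ((Functor.associator _ _ _).symm ≪≫
      Functor.isoWhiskerRight (F.mapHomotopyCategoryFactors (ComplexShape.up ℤ))
        DerivedCategory.Qh ≪≫ Functor.associator _ _ _ ≪≫
      Functor.isoWhiskerLeft _ (DerivedCategory.quotientCompQhIso B)) ψ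
  exact h1.trans (h2.symm.trans h3)

end General

/-! ### exactness of a complex of modules from exactness of sections over a basis -/

theorem exactAt_of_forall_basis {Y : Scheme.{u}} (C : CochainComplex Y.Modules ℤ) (n : ℤ)
    (ℬ : Set Y.Opens) (hℬ : ∀ (y : Y) (W : Y.Opens), y ∈ W → ∃ V ∈ ℬ, y ∈ V ∧ V ≤ W)
    (h : ∀ V ∈ ℬ, ∀ s : (C.X n).presheaf.obj (op V), (C.d n (n + 1)).app V s = 0 →
        ∃ t : (C.X (n - 1)).presheaf.obj (op V), (C.d (n - 1) n).app V t = s) :
    C.ExactAt n := by
  rw [HomologicalComplex.exactAt_iff' C (n - 1) n (n + 1) (by simp) (by simp),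
    ShortComplex.exact_iff_isZero_homology]
  apply isZero_of_forall_stalk
  intro y
  have hex : ((C.sc' (n - 1) n (n + 1)).map (DerSch.stalkFunctor Y y)).Exact := by
    rw [ShortComplex.moduleCat_exact_iff]
    intro z hz
    obtain ⟨W, hyW, s, rfl⟩ := (C.X n).presheaf.exists_germ_eq (x := y) z
    have hz' : (C.X (n + 1)).presheaf.germ W y hyW ((C.d n (n + 1)).app W s) = 0 := by
      rw [← DerSch.stalkFunctor_map_germ]
      exact hz
    obtain ⟨W', hyW', iU, iV, hW'⟩ := (C.X (n + 1)).presheaf.germ_eq y hyW hyW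
      ((C.d n (n + 1)).app W s) 0 (hz'.trans (map_zero _).symm)
    obtain ⟨V, hV, hyV, hVW'⟩ := hℬ y W' hyW'
    have nat1 : (C.d n (n + 1)).app W' ((C.X n).presheaf.map iU.op s) =
        (C.X (n + 1)).presheaf.map iU.op ((C.d n (n + 1)).app W s) :=
      congr($((C.d n (n + 1)).mapPresheaf.naturality iU.op) s)
    have hs₁ : (C.d n (n + 1)).app W' ((C.X n).presheaf.map iU.op s) = 0 := by
      rw [nat1, hW', map_zero]
    have nat2 : (C.d n (n + 1)).app V ((C.X n).presheaf.map (homOfLE hVW').op
          ((C.X n).presheaf.map iU.op s)) =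
        (C.X (n + 1)).presheaf.map (homOfLE hVW').op
          ((C.d n (n + 1)).app W' ((C.X n).presheaf.map iU.op s)) :=
      congr($((C.d n (n + 1)).mapPresheaf.naturality (homOfLE hVW').op)
        ((C.X n).presheaf.map iU.op s))
    have hs₂ : (C.d n (n + 1)).app V ((C.X n).presheaf.map (homOfLE hVW').op
          ((C.X n).presheaf.map iU.op s)) = 0 := by
      rw [nat2, hs₁, map_zero]
    obtain ⟨t, ht⟩ := h V hV _ hs₂
    refine ⟨(C.X (n - 1)).presheaf.germ V y hyV t, ?_⟩
    show (DerSch.stalkFunctor Y y).map (C.d (n - 1) n)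
      ((C.X (n - 1)).presheaf.germ V y hyV t) = (C.X n).presheaf.germ W y hyW s
    rw [DerSch.stalkFunctor_map_germ, ht, TopCat.Presheaf.germ_res_apply,
      TopCat.Presheaf.germ_res_apply]
  have hz : IsZero ((C.sc' (n - 1) n (n + 1)).map (DerSch.stalkFunctor Y y)).homology :=
    (ShortComplex.exact_iff_isZero_homology _).1 hex
  exact ModuleCat.subsingleton_of_isZero (IsZero.of_iso hz
    ((C.sc' (n - 1) n (n + 1)).mapHomologyIso (DerSch.stalkFunctor Y y)).symm)

/-! ### the theorem -/

variable {Y : Scheme.{u}}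

/-- acyclicity from an isomorphism in the derived category -/
theorem exactAt_mappingCone_of_isIso_Q_map {A : Type*} [Category A] [Abelian A]
    [HasDerivedCategory A] {K L : CochainComplex A ℤ} (ψ : K ⟶ L)
    (h : IsIso (DerivedCategory.Q.map ψ)) (n : ℤ) :
    (CochainComplex.mappingCone ψ).ExactAt n := by
  have hT := DerivedCategory.mappingCone_triangle_distinguished ψ
  have hz : IsZero (DerivedCategory.Q.obj (CochainComplex.mappingCone ψ)) :=
    (Triangle.isZero₃_iff_isIso₁ _ hT).2 h
  rw [HomologicalComplex.exactAt_iff_isZero_homology]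
  exact IsZero.of_iso ((DerivedCategory.homologyFunctor A n).map_isZero hz)
    ((DerivedCategory.homologyFunctorFactors A n).app (CochainComplex.mappingCone ψ)).symm

theorem isIso_Q_map_of_exactAt_mappingCone {A : Type*} [Category A] [Abelian A]
    [HasDerivedCategory A] {K L : CochainComplex A ℤ} (ψ : K ⟶ L)
    (h : ∀ n, (CochainComplex.mappingCone ψ).ExactAt n) :
    IsIso (DerivedCategory.Q.map ψ) := by
  have hT := DerivedCategory.mappingCone_triangle_distinguished ψ
  refine (Triangle.isZero₃_iff_isIso₁ _ hT).1 ?_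
  apply isZero_of_forall_isZero_homology
  intro n
  refine IsZero.of_iso ?_
    ((DerivedCategory.homologyFunctorFactors A n).app (CochainComplex.mappingCone ψ))
  exact (HomologicalComplex.exactAt_iff_isZero_homology _ _).1 (h n)

theorem main11114 [hR : ∀ U : Y.Opens, DCoh.HasRΓ (U : Scheme.{u})] {G₁ G₂ : DCoh.D Y}
    (φ : G₁ ⟶ G₂) :
    IsIso φ ↔ ∀ U : Y.Opens, IsAffineOpen U →
      IsIso ((DCoh.RΓ (U : Scheme.{u})).map ((DCoh.restrictD U.ι).map φ)) := by
  constructor
  · intro h U _
    infer_instance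
  · intro h
    haveI := grothendieck_modules Y
    obtain ⟨I₁, hI₁, _, ⟨e₁⟩⟩ := Groth.Agent.Lib.KInjGen8.exists_kInjective_rep G₁
    obtain ⟨I₂, hI₂, _, ⟨e₂⟩⟩ := Groth.Agent.Lib.KInjGen8.exists_kInjective_rep G₂
    haveI := hI₁
    haveI := hI₂
    obtain ⟨ψ, hψ⟩ := DerProd.exists_lift_of_isKInjective I₁ I₂ (e₁.hom ≫ φ ≫ e₂.inv)
    suffices hq : IsIso (DerivedCategory.Q.map ψ) by
      have e : φ = e₁.inv ≫ DerivedCategory.Q.map ψ ≫ e₂.hom := by
        rw [hψ]
        simp
      rw [e]
      infer_instance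
    apply isIso_Q_map_of_exactAt_mappingCone
    intro n
    apply exactAt_of_forall_basis (CochainComplex.mappingCone ψ) n
      {V | ∃ U : Y.Opens, IsAffineOpen U ∧ V = U.ι ''ᵁ ⊤}
    · intro y W hyW
      obtain ⟨U, hU, hyU, hUW⟩ : ∃ U : Y.Opens, U ∈ Y.affineOpens ∧ y ∈ U ∧ U ≤ W :=
        (Opens.isBasis_iff_nbhd.1 Y.isBasis_affineOpens) hyW
      refine ⟨U.ι ''ᵁ ⊤, ⟨U, hU, rfl⟩, ?_, ?_⟩
      · rw [Scheme.Opens.ι_image_top]
        exact hyU
      · rw [Scheme.Opens.ι_image_top]
        exact hUW
    · rintro V ⟨U, hU, rfl⟩ s hs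
      haveI := grothendieck_modules (U : Scheme.{u})
      haveI := isKInjective_RCx U I₁
      haveI := isKInjective_RCx U I₂
      haveI := h U hU
      -- step a
      have ha : IsIso ((DCoh.RΓ (U : Scheme.{u})).map
          ((DCoh.restrictD U.ι).map (DerivedCategory.Q.map ψ))) := by
        rw [hψ, Functor.map_comp, Functor.map_comp, Functor.map_comp, Functor.map_comp]
        infer_instance
      -- step b
      have hb : IsIso ((DCoh.RΓ (U : Scheme.{u})).map
          (DerivedCategory.Q.map ((RCx U).map ψ))) :=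
        (NatIso.isIso_map_iff (Functor.isoWhiskerRight
          (Scheme.Modules.restrictFunctor U.ι).mapDerivedCategoryFactors
          (DCoh.RΓ (U : Scheme.{u}))) ψ).1 ha
      -- step c
      have hc : IsIso (DerivedCategory.Q.map
          (((DCoh.gammaAb (U : Scheme.{u})).mapHomologicalComplex (ComplexShape.up ℤ)).map
            ((RCx U).map ψ))) :=
        (isIso_RF_map_iff (DCoh.gammaAb (U : Scheme.{u})) ((RCx U).map ψ)).1 hb
      -- the cone
      have hex := exactAt_mappingCone_of_isIso_Q_map _ hc n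
      let e1 : ((DCoh.gammaAb (U : Scheme.{u})).mapHomologicalComplex (ComplexShape.up ℤ)).obj
          ((RCx U).obj (CochainComplex.mappingCone ψ)) ≅
          CochainComplex.mappingCone
            (((DCoh.gammaAb (U : Scheme.{u})).mapHomologicalComplex (ComplexShape.up ℤ)).map
              ((RCx U).map ψ)) :=
        ((DCoh.gammaAb (U : Scheme.{u})).mapHomologicalComplex (ComplexShape.up ℤ)).mapIso
          (CochainComplex.mappingCone.mapHomologicalComplexIso ψ
            (Scheme.Modules.restrictFunctor U.ι)) ≪≫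
        CochainComplex.mappingCone.mapHomologicalComplexIso ((RCx U).map ψ)
          (DCoh.gammaAb (U : Scheme.{u}))
      have hex' : (((DCoh.gammaAb (U : Scheme.{u})).mapHomologicalComplex
          (ComplexShape.up ℤ)).obj ((RCx U).obj (CochainComplex.mappingCone ψ))).ExactAt n := by
        rw [HomologicalComplex.exactAt_iff_isZero_homology] at hex ⊢
        exact IsZero.of_iso hex
          ((HomologicalComplex.homologyFunctor _ _ n).mapIso e1)
      rw [HomologicalComplex.exactAt_iff' _ (n - 1) n (n + 1) (by simp) (by simp),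
        ShortComplex.ab_exact_iff] at hex'
      exact hex' s hs

end

end Groth.Agent.Lib.AffIsoL
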