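import Mathlib
import Groth.Agent.Lib.ExtAdjPartial_helper7

/-!
# The derived adjunction map on `Ext¹`: an explicit formula (helper7)
-/

set_option autoImplicit false
universe w w' v u v' u'
open CategoryTheory CategoryTheory.Limits Abelian

namespace Groth.Agent.Lib.ExtAdj_helper7

open Groth.Agent.Lib

variable {C : Type u} [Category.{v} C] [Abelian C] {D : Type u'} [Category.{v'} D] [Abelian D]
  [HasExt.{w} C] [HasExt.{w'} D] [EnoughInjectives D]
  (L : C ⥤ D) (R : D ⥤ C) (adj : L ⊣ R) [L.Additive] [PreservesFiniteLimits L]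
  [PreservesFiniteColimits L] [R.Additive]

section One

variable (S : ShortComplex D) (hS : S.ShortExact)

/-- the short complex `0 → R X₁ → R X₂ → coker → 0` -/
noncomputable abbrev S1 : ShortComplex C :=
  ShortComplex.mk (R.map S.f) (cokernel.π (R.map S.f)) (cokernel.condition _)

/-- `coker (R f) → R X₃` -/
noncomputable def jS : cokernel (R.map S.f) ⟶ R.obj S.X₃ :=
  cokernel.desc (R.map S.f) (R.map S.g) (by rw [← R.map_comp, S.zero, R.map_zero])

lemma π_jS : cokernel.π (R.map S.f) ≫ jS R S = R.map S.g := cokernel.π_desc _ _ _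

include adj hS in
lemma hS1 : (S1 R S).ShortExact := by
  haveI : PreservesLimitsOfSize.{0, 0} R := adj.rightAdjoint_preservesLimits
  haveI : PreservesFiniteLimits R := PreservesLimitsOfSize.preservesFiniteLimits _
  haveI : Mono S.f := hS.mono_f
  haveI : Mono (R.map S.f) := inferInstance
  exact { exact := ShortComplex.exact_cokernel (R.map S.f) }

include adj hS in
lemma jS_mono : Mono (jS R S) := by
  haveI : PreservesLimitsOfSize.{0, 0} R := adj.rightAdjoint_preservesLimits
  haveI : PreservesFiniteLimits R := PreservesLimitsOfSize.preservesFiniteLimits _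
  have hex : (S.map R).Exact :=
    ((Functor.preservesFiniteLimits_iff_forall_exact_map_and_mono R).1 inferInstance S hS).1
  exact hex.mono_cokernelDesc

theorem Φ_one_formula (A : C) (y₀ : A ⟶ cokernel (R.map S.f)) (hS1' : (S1 R S).ShortExact) :
    Φ L R adj A S.X₁ 1 ((Ext.mk₀ y₀).comp hS1'.extClass (zero_add 1)) =
      (Ext.mk₀ (L.map y₀ ≫ L.map (jS R S) ≫ adj.counit.app S.X₃)).comp hS.extClass
        (zero_add 1) := by
  let φ : (S1 R S).map L ⟶ S :=
    { τ₁ := adj.counit.app _
      τ₂ := adj.counit.app _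
      τ₃ := L.map (jS R S) ≫ adj.counit.app _
      comm₁₂ := (adj.counit.naturality S.f).symm
      comm₂₃ := by
        show adj.counit.app _ ≫ S.g = L.map (S1 R S).g ≫ L.map (jS R S) ≫ adj.counit.app _
        rw [← L.map_comp_assoc]
        have : (S1 R S).g ≫ jS R S = R.map S.g := π_jS R S
        rw [this]
        exact (adj.counit.naturality S.g).symm }
  have hnat := ShortComplex.ShortExact.extClass_naturality (hS1'.map_of_exact L) hS φ
  have h2 : (hS1'.extClass.mapExactFunctor L).comp (Ext.mk₀ (adj.counit.app S.X₁)) (add_zero 1) =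
      (Ext.mk₀ (L.map (jS R S) ≫ adj.counit.app S.X₃)).comp hS.extClass (zero_add 1) := by
    rw [Ext.mapExactFunctor_extClass]; exact hnat
  rw [Φ_apply, Ext.mapExactFunctor_comp, Ext.mapExactFunctor_mk₀,
    Ext.comp_assoc_of_third_deg_zero, h2, ← Ext.comp_assoc_of_second_deg_zero,
    Ext.mk₀_comp_mk₀]

end One

end Groth.Agent.Lib.ExtAdj_helper7
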