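import Mathlib
import Groth.Prelude.Def_CohSite
import Groth.Prelude.Def_SiteCmp
import Groth.Agent.Lib.ExtAdjPartial_helper7
import Groth.Agent.Lib.RpushSite_helper9

/-!
# Comparing cohomology for two topologies `J' ≤ J` on a small category (helper7)

`ε_* : Sh_J ⥤ Sh_{J'}` with exact left adjoint `ε⁻¹`.  If `R^i ε_* F = 0` for `1 ≤ i ≤ n`, the
comparison map of presheaves `(T ↦ H^k_{J'}(T, ε_* F)) ⟶ (T ↦ H^k_J(T, F))` is an isomorphism for
`k ≤ n`.
-/

set_option autoImplicit false
universe u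
open CategoryTheory Limits Opposite Abelian

namespace Groth.Agent.Lib.SiteCmpC1_helper7

open Groth.Agent.Lib.ExtAdj_helper7

variable {D : Type u} [SmallCategory D] {J J' : GrothendieckTopology D} (h : J' ≤ J)

/-- `ε_*` -/
noncomputable abbrev eps : Sheaf J AddCommGrpCat.{u} ⥤ Sheaf J' AddCommGrpCat.{u} :=
  SiteCmp.epsSh h AddCommGrpCat.{u}

/-- `ε⁻¹` : sheafification of the underlying presheaf -/
noncomputable def epsInv (_h : J' ≤ J) :
    Sheaf J' AddCommGrpCat.{u} ⥤ Sheaf J AddCommGrpCat.{u} :=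
  sheafToPresheaf J' AddCommGrpCat.{u} ⋙ presheafToSheaf J AddCommGrpCat.{u}

/-- forgetting to presheaves factors through `ε_*` -/
noncomputable def forgetIso : sheafToPresheaf J AddCommGrpCat.{u} ≅
    eps h ⋙ sheafToPresheaf J' AddCommGrpCat.{u} :=
  NatIso.ofComponents (fun F => NatIso.ofComponents (fun X => Iso.refl _)
    (by intro X Y f; exact (Category.comp_id _).trans (Category.id_comp _).symm))
    (by intro F G φ; ext X x; rfl)

noncomputable def epsAdj : epsInv h ⊣ eps h :=
  (sheafificationAdjunction J AddCommGrpCat.{u}).restrictFullyFaithful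
    (fullyFaithfulSheafToPresheaf J' AddCommGrpCat.{u}) (Functor.FullyFaithful.id _)
    (Iso.refl _) (Functor.leftUnitor _ ≪≫ forgetIso h)

instance : PreservesFiniteLimits (epsInv h) := by
  unfold epsInv
  haveI : PreservesLimitsOfSize.{0, 0} (sheafToPresheaf J' AddCommGrpCat.{u}) :=
    (sheafificationAdjunction J' AddCommGrpCat.{u}).rightAdjoint_preservesLimits
  haveI : PreservesFiniteLimits (sheafToPresheaf J' AddCommGrpCat.{u}) :=
    PreservesLimitsOfSize.preservesFiniteLimits _
  exact comp_preservesFiniteLimits _ _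

instance : PreservesFiniteColimits (epsInv h) := by
  have : PreservesColimitsOfSize.{u, u} (epsInv h) := (epsAdj h).leftAdjoint_preservesColimits
  exact PreservesColimitsOfSize.preservesFiniteColimits _

instance : (eps h).Additive := inferInstance

instance : (epsInv h).Additive := (epsAdj h).left_adjoint_additive

instance eps_injective (I : Sheaf J AddCommGrpCat.{u}) [Injective I] : Injective ((eps h).obj I) :=
  Injective.injective_of_adjoint (epsAdj h) I

/-- `ε⁻¹` of the `J'`-sheafification is the `J`-sheafification -/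
noncomputable def shfCompIso : presheafToSheaf J' AddCommGrpCat.{u} ⋙ epsInv h ≅
    presheafToSheaf J AddCommGrpCat.{u} :=
  Adjunction.leftAdjointUniq
    ((sheafificationAdjunction J' AddCommGrpCat.{u}).comp (epsAdj h))
    ((sheafificationAdjunction J AddCommGrpCat.{u}).ofNatIsoRight (forgetIso h))

/-- `ε⁻¹ ℤ'_T ≅ ℤ_T` -/
noncomputable def lam : RpushSite.frF J' ⋙ epsInv h ≅ RpushSite.frF J :=
  Functor.isoWhiskerLeft (yoneda ⋙ (Functor.whiskeringRight _ _ _).obj AddCommGrpCat.free)
    (shfCompIso h)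

/-- the comparison map `H^k_{J'}(T, ε_* F) → H^k_J(T, F)` -/
noncomputable def cT (F : Sheaf J AddCommGrpCat.{u}) (k : ℕ) (T : D) :
    Ext.{u} ((RpushSite.frF J').obj T) ((eps h).obj F) k →+ Ext.{u} ((RpushSite.frF J).obj T) F k :=
  ((Ext.mk₀ ((lam h).inv.app T)).precomp F (zero_add k)).comp
    (Φ (epsInv h) (eps h) (epsAdj h) ((RpushSite.frF J').obj T) F k)

lemma cT_apply (F : Sheaf J AddCommGrpCat.{u}) (k : ℕ) (T : D)
    (θ : Ext.{u} ((RpushSite.frF J').obj T) ((eps h).obj F) k) :
    cT h F k T θ = (Ext.mk₀ ((lam h).inv.app T)).comp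
      (Φ (epsInv h) (eps h) (epsAdj h) ((RpushSite.frF J').obj T) F k θ) (zero_add k) := rfl

lemma cT_naturality (F : Sheaf J AddCommGrpCat.{u}) (k : ℕ) {T T' : D} (m : T' ⟶ T)
    (θ : Ext.{u} ((RpushSite.frF J').obj T) ((eps h).obj F) k) :
    cT h F k T' ((Ext.mk₀ ((RpushSite.frF J').map m)).comp θ (zero_add k)) =
      (Ext.mk₀ ((RpushSite.frF J).map m)).comp (cT h F k T θ) (zero_add k) := by
  rw [cT_apply, cT_apply, Φ_mk₀_comp, ← Ext.comp_assoc_of_second_deg_zero, Ext.mk₀_comp_mk₀,
    ← Ext.comp_assoc_of_second_deg_zero, Ext.mk₀_comp_mk₀]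
  congr 2
  exact ((lam h).inv.naturality m).symm

lemma cT_bijective (F : Sheaf J AddCommGrpCat.{u}) (k : ℕ) (T : D)
    (hF : ∀ i : ℕ, 1 ≤ i → i ≤ k → IsZero (((eps h).rightDerived i).obj F)) :
    Function.Bijective (cT h F k T) := by
  have h1 := ((Φ_partial (epsInv h) (eps h) (epsAdj h) ((RpushSite.frF J').obj T) k F).1 hF)
  have h2 : Function.Bijective
      ((Ext.mk₀ ((lam h).inv.app T)).precomp F (zero_add k)) := by
    have hinv : ∀ x : Ext.{u} ((RpushSite.frF J' ⋙ epsInv h).obj T) F k,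
        (Ext.mk₀ ((lam h).hom.app T)).comp
        ((Ext.mk₀ ((lam h).inv.app T)).comp x (zero_add k)) (zero_add k) = x := by
      intro x
      rw [← Ext.comp_assoc_of_second_deg_zero, Ext.mk₀_comp_mk₀, Iso.hom_inv_id_app,
        Ext.mk₀_id_comp]
    have hinv' : ∀ x : Ext.{u} ((RpushSite.frF J).obj T) F k,
        (Ext.mk₀ ((lam h).inv.app T)).comp
        ((Ext.mk₀ ((lam h).hom.app T)).comp x (zero_add k)) (zero_add k) = x := by
      intro x
      rw [← Ext.comp_assoc_of_second_deg_zero, Ext.mk₀_comp_mk₀, Iso.inv_hom_id_app,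
        Ext.mk₀_id_comp]
    constructor
    · intro x y hxy
      have hxy' : (Ext.mk₀ ((lam h).inv.app T)).comp x (zero_add k) =
          (Ext.mk₀ ((lam h).inv.app T)).comp y (zero_add k) := hxy
      calc x = (Ext.mk₀ ((lam h).hom.app T)).comp
            ((Ext.mk₀ ((lam h).inv.app T)).comp x (zero_add k)) (zero_add k) := (hinv x).symm
        _ = (Ext.mk₀ ((lam h).hom.app T)).comp
            ((Ext.mk₀ ((lam h).inv.app T)).comp y (zero_add k)) (zero_add k) := by rw [hxy']
        _ = y := hinv y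
    · intro y
      exact ⟨(Ext.mk₀ ((lam h).hom.app T)).comp y (zero_add k), hinv' y⟩
  exact h2.comp h1

/-- the comparison as a map of presheaves -/
noncomputable def cNat (F : Sheaf J AddCommGrpCat.{u}) (k : ℕ) :
    PreshExt.E (RpushSite.frF J') ((eps h).obj F) k ⟶ PreshExt.E (RpushSite.frF J) F k where
  app V := AddCommGrpCat.ofHom
    (X := AddCommGrpCat.of (Ext.{u} ((RpushSite.frF J').obj V.unop) ((eps h).obj F) k))
    (Y := AddCommGrpCat.of (Ext.{u} ((RpushSite.frF J).obj V.unop) F k)) (cT h F k V.unop)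
  naturality V V' m := by
    ext θ
    exact cT_naturality h F k m.unop θ

/-- the comparison is an isomorphism of presheaves in degrees `≤ n` -/
noncomputable def cIso (F : Sheaf J AddCommGrpCat.{u}) (k : ℕ)
    (hF : ∀ i : ℕ, 1 ≤ i → i ≤ k → IsZero (((eps h).rightDerived i).obj F)) :
    PreshExt.E (RpushSite.frF J') ((eps h).obj F) k ≅ PreshExt.E (RpushSite.frF J) F k :=
  haveI : ∀ V, IsIso ((cNat h F k).app V) := fun V =>
    (ConcreteCategory.isIso_iff_bijective _).2 (cT_bijective h F k V.unop hF)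
  haveI : IsIso (cNat h F k) := NatIso.isIso_of_isIso_app _
  asIso (cNat h F k)

end Groth.Agent.Lib.SiteCmpC1_helper7
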