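import Groth.Prelude.Def_CohSite
import Groth.Agent.Lib.FreeSheaf_helper2
import Mathlib.CategoryTheory.Sites.EpiMono
import Mathlib.Algebra.Homology.DerivedCategory.Ext.ExactSequences
import Mathlib.Algebra.Homology.DerivedCategory.Ext.EnoughInjectives

/-!
# Cohomology classes of positive degree die locally
-/

set_option autoImplicit false
universe u
open CategoryTheory Limits Opposite Abelian

namespace Groth.Agent.Lib.KillClass

open Groth.Agent.Lib.FreeSheaf

variable {C : Type u} [SmallCategory C] (J : GrothendieckTopology C)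

theorem exists_sieve_comp_eq_zero (n : ℕ) : ∀ (F : Sheaf J AddCommGrpCat.{u}) (U : C)
    (ξ : Ext (freeSheaf J U) F (n + 1)),
    ∃ S : Sieve U, S ∈ J U ∧ ∀ ⦃V : C⦄ (f : V ⟶ U), S f →
      (Ext.mk₀ (freeSheafMap J f)).comp ξ (zero_add (n + 1)) = 0 := by
  induction n with
  | zero =>
    intro F U ξ
    let S : ShortComplex (Sheaf J AddCommGrpCat.{u}) :=
      ShortComplex.mk (Injective.ι F) (cokernel.π (Injective.ι F)) (cokernel.condition _)
    have hS : S.ShortExact :=
      { exact := ShortComplex.exact_of_g_is_cokernel _ (cokernelIsCokernel _)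
        mono_f := inferInstanceAs (Mono (Injective.ι F))
        epi_g := inferInstanceAs (Epi (cokernel.π (Injective.ι F))) }
    obtain ⟨x₃, hx₃⟩ := Ext.covariant_sequence_exact₁ (freeSheaf J U) hS ξ
      (Ext.eq_zero_of_injective (I := Injective.under F) _) (zero_add 1)
    obtain ⟨φ, rfl⟩ := (Ext.mk₀_bijective _ S.X₃).2 x₃
    have hepi : Epi S.g := hS.epi_g
    have h1 : Sheaf.IsLocallySurjective S.g :=
      (Sheaf.isLocallySurjective_iff_epi' (φ := S.g)).2 inferInstance
    refine ⟨Presheaf.imageSieve S.g.hom (freeSheafHomEquiv J U S.X₃ φ),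
      Presheaf.imageSieve_mem J S.g.hom (U := op U) _, ?_⟩
    intro V f ⟨t, ht⟩
    have e1 : freeSheafMap J f ≫ φ = (freeSheafHomEquiv J V S.X₂).symm t ≫ S.g := by
      apply (freeSheafHomEquiv J V S.X₃).injective
      rw [freeSheafHomEquiv_map, freeSheafHomEquiv_comp, Equiv.apply_symm_apply]
      exact ht.symm
    rw [← hx₃, ← Ext.comp_assoc_of_second_deg_zero, Ext.mk₀_comp_mk₀, e1, ← Ext.mk₀_comp_mk₀,
      Ext.comp_assoc_of_second_deg_zero, hS.comp_extClass, Ext.comp_zero]
  | succ n ih =>
    intro F U ξ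
    let S : ShortComplex (Sheaf J AddCommGrpCat.{u}) :=
      ShortComplex.mk (Injective.ι F) (cokernel.π (Injective.ι F)) (cokernel.condition _)
    have hS : S.ShortExact :=
      { exact := ShortComplex.exact_of_g_is_cokernel _ (cokernelIsCokernel _)
        mono_f := inferInstanceAs (Mono (Injective.ι F))
        epi_g := inferInstanceAs (Epi (cokernel.π (Injective.ι F))) }
    obtain ⟨x₃, hx₃⟩ := Ext.covariant_sequence_exact₁ (freeSheaf J U) hS ξ
      (Ext.eq_zero_of_injective (I := Injective.under F) _) (rfl : n + 1 + 1 = n + 1 + 1)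
    obtain ⟨T, hT, hT'⟩ := ih S.X₃ U x₃
    refine ⟨T, hT, fun V f hf => ?_⟩
    rw [← hx₃, ← Ext.comp_assoc (Ext.mk₀ (freeSheafMap J f)) x₃ hS.extClass (zero_add (n + 1))
      rfl (by omega), hT' f hf, Ext.zero_comp]

/-- restriction of cohomology classes is precomposition -/
lemma res_eq (F : Sheaf J AddCommGrpCat.{u}) (n : ℕ) {U V : C} (f : V ⟶ U)
    (ξ : CohSite.HU F n U) :
    CohSite.res F n f ξ = (Ext.mk₀ (freeSheafMap J f)).comp ξ (zero_add n) := rfl

end Groth.Agent.Lib.KillClass
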