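import Mathlib
import Groth.Prelude.Def_CohSite
import Groth.Agent.Lib.OverShriek_helper2
import Groth.Agent.Lib.DerComp_helper9
import Groth.Agent.Lib.RpushSite_helper9
import Groth.Agent.Lib.KillClass_helper2

/-!
# Relocalisation `Over X → Over Y` for abelian sheaves (helper7)

For `f : X ⟶ Y` in a small category with a topology `K`: restriction `Lf : Sh(C/Y) ⥤ Sh(C/X)` is
exact and preserves injectives; its right adjoint `Rf` (the relocalisation pushforward) is, when
pullbacks along `f` exist, the pushforward along the pullback functor, and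
`R^k f_* (F|_X)` is the sheafification of `V ↦ H^k(V ×_Y X, F)`.

Lemma A of the comparison of two topologies: a class on `X` with equal pullbacks to `X ×_Y X`
dies locally on `Y` (for the coarse topology) when `R^k f_*` is a sheaf for the fine topology.
-/

set_option autoImplicit false
universe u
open CategoryTheory Limits Opposite

namespace Groth.Agent.Lib.SiteCmpRes_helper7

section General
variable {A B : Type*} [Category A] [Category B] [Abelian A] [Abelian B] [HasInjectiveResolutions A]

/-- isomorphic functors have isomorphic right derived functors (object-wise) -/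
noncomputable def rightDerivedObjIso {F G : A ⥤ B} [F.Additive] [G.Additive] (e : F ≅ G) (k : ℕ)
    (X : A) : (F.rightDerived k).obj X ≅ (G.rightDerived k).obj X :=
  (injectiveResolution X).isoRightDerivedObj F k ≪≫
    (HomologicalComplex.homologyFunctor B (ComplexShape.up ℕ) k).mapIso
      ((NatIso.mapHomologicalComplex e (ComplexShape.up ℕ)).app (injectiveResolution X).cocomplex) ≪≫
    ((injectiveResolution X).isoRightDerivedObj G k).symm

end General

section Sep

variable {D : Type u} [SmallCategory D] {J : GrothendieckTopology D}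

lemma res_comp (F : Sheaf J AddCommGrpCat.{u}) (n : ℕ) {U V W : D} (g : W ⟶ V) (h : V ⟶ U)
    (ξ : CohSite.HU F n U) :
    CohSite.res F n (g ≫ h) ξ = CohSite.res F n g (CohSite.res F n h ξ) := by
  show ((Sheaf.cohomologyPresheaf.{u} F n).map (g ≫ h).op).hom ξ = _
  rw [op_comp, Functor.map_comp]
  rfl

lemma sheaf_eq_zero {P : Dᵒᵖ ⥤ AddCommGrpCat.{u}} (hP : Presheaf.IsSheaf J P) {V : D}
    (S : Sieve V) (hS : S ∈ J V) (s : P.obj (op V))
    (h : ∀ ⦃W : D⦄ (g : W ⟶ V), S g → (P.map g.op).hom s = 0) : s = 0 := by
  have hQ : Presieve.IsSheaf J (P ⋙ forget AddCommGrpCat.{u}) :=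
    (isSheaf_iff_isSheaf_of_type _ _).1
      ((Presheaf.isSheaf_iff_isSheaf_forget _ P (forget AddCommGrpCat.{u})).1 hP)
  refine (hQ S hS).isSeparatedFor.ext ?_
  intro W g hg
  show (P.map g.op).hom s = (P.map g.op).hom 0
  rw [h g hg, map_zero]

end Sep

variable {C : Type u} [SmallCategory C] (K : GrothendieckTopology C) {X Y : C} (f : X ⟶ Y)

/-- restriction of abelian sheaves along `Over.map f` -/
noncomputable abbrev Lf : Sheaf (K.over Y) AddCommGrpCat.{u} ⥤ Sheaf (K.over X) AddCommGrpCat.{u} :=
  CohSite.push (K.over Y) (K.over X) (Over.map f)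

/-- the relocalisation pushforward -/
noncomputable abbrev Rf : Sheaf (K.over X) AddCommGrpCat.{u} ⥤ Sheaf (K.over Y) AddCommGrpCat.{u} :=
  (Over.map f).sheafPushforwardCocontinuous AddCommGrpCat.{u} (K.over X) (K.over Y)

noncomputable def adjLR : Lf K f ⊣ Rf K f :=
  (Over.map f).sheafAdjunctionCocontinuous AddCommGrpCat.{u} (K.over X) (K.over Y)

instance : (Rf K f).Additive := (adjLR K f).right_adjoint_additive

instance : (Over.mk f).iteratedSliceBackward.IsContinuous (K.over X) ((K.over Y).over (Over.mk f)) :=
  inferInstanceAs ((Over.mk f).iteratedSliceBackward.IsContinuous (K.over (Over.mk f).left)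
    ((K.over Y).over (Over.mk f)))

/-- the equivalence part -/
noncomputable abbrev Eq : Sheaf ((K.over Y).over (Over.mk f)) AddCommGrpCat.{u} ⥤
    Sheaf (K.over X) AddCommGrpCat.{u} :=
  (Over.mk f).iteratedSliceBackward.sheafPushforwardContinuous AddCommGrpCat.{u} (K.over X)
    ((K.over Y).over (Over.mk f))

instance : (Eq K f).IsEquivalence := by
  have : (Over.mk f).iteratedSliceBackward.IsDenseSubsite (K.over X) ((K.over Y).over (Over.mk f)) :=
    inferInstanceAs ((Over.mk f).iteratedSliceEquiv.inverse.IsDenseSubsite (K.over (Over.mk f).left)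
      ((K.over Y).over (Over.mk f)))
  infer_instance

open Groth.Agent.Lib.OverShriek in
instance Lf_injective (I : Sheaf (K.over Y) AddCommGrpCat.{u}) [Injective I] :
    Injective ((Lf K f).obj I) := by
  show Injective ((Eq K f).obj ((restr (Over.mk f) (K.over Y)).obj I))
  exact Injective.injective_of_adjoint (Eq K f).asEquivalence.symm.toAdjunction _

instance : PreservesFiniteLimits (Lf K f) := by
  have : (Lf K f).IsRightAdjoint := inferInstance
  infer_instance

instance : PreservesFiniteColimits (Lf K f) := by
  have : PreservesColimitsOfSize.{u, u} (Lf K f) := (adjLR K f).leftAdjoint_preservesColimits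
  exact PreservesColimitsOfSize.preservesFiniteColimits _

section Pull

variable [HasPullbacksAlong f]

instance pullback_continuous : (Over.pullback f).IsContinuous (K.over Y) (K.over X) :=
  (Over.mapPullbackAdj f).isContinuous_of_isCocontinuous (K.over X) (K.over Y)

/-- pushforward along the pullback functor -/
noncomputable abbrev Pf : Sheaf (K.over X) AddCommGrpCat.{u} ⥤ Sheaf (K.over Y) AddCommGrpCat.{u} :=
  CohSite.push (K.over X) (K.over Y) (Over.pullback f)

noncomputable def adjLP : Lf K f ⊣ Pf K f :=
  (Over.mapPullbackAdj f).sheafPushforwardContinuous (E := AddCommGrpCat.{u}) (K.over X) (K.over Y)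

noncomputable def RfIsoPf : Rf K f ≅ Pf K f := (adjLR K f).rightAdjointUniq (adjLP K f)

/-- the endofunctor `V ↦ V ×_Y X` of `Over Y` -/
noncomputable abbrev uf : Over Y ⥤ Over Y := Over.pullback f ⋙ Over.map f

instance uf_continuous : (uf f).IsContinuous (K.over Y) (K.over Y) :=
  Functor.isContinuous_comp (Over.pullback f) (Over.map f) (K.over Y) (K.over X) (K.over Y)

noncomputable def pushUfIso : CohSite.push (K.over Y) (K.over Y) (uf f) ≅ Lf K f ⋙ Rf K f :=
  (Functor.sheafPushforwardContinuousComp (Over.pullback f) (Over.map f) AddCommGrpCat.{u}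
    (K.over Y) (K.over X) (K.over Y)).symm ≪≫ Functor.isoWhiskerLeft (Lf K f) (RfIsoPf K f).symm

/-- `R^k f_* (F|_X)` is the sheafification of `V ↦ H^k(V ×_Y X, F)` -/
noncomputable def keyIso (F' : Sheaf (K.over Y) AddCommGrpCat.{u}) (k : ℕ) :
    ((Rf K f).rightDerived k).obj ((Lf K f).obj F') ≅
      (RpushSite.shf (K.over Y)).obj (PreshExt.E (uf f ⋙ RpushSite.frF (K.over Y)) F' k) :=
  (DerComp.objIso (Lf K f) (fun I hI => by haveI := hI; infer_instance) (Rf K f) k F').symm ≪≫
    (rightDerivedObjIso (pushUfIso K f) k F').symm ≪≫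
    RpushSite.rpushIso (K.over Y) (K.over Y) (uf f) F' k

/-- the projection `V ×_Y X → V` -/
noncomputable abbrev piV (V : Over Y) : (uf f).obj V ⟶ V := (Over.mapPullbackAdj f).counit.app V

lemma piV_naturality {V V' : Over Y} (h : V ⟶ V') : (uf f).map h ≫ piV f V' = piV f V ≫ h :=
  (Over.mapPullbackAdj f).counit.naturality h

/-- the projection `V ×_Y X → X` -/
noncomputable def sigV (V : Over Y) : (uf f).obj V ⟶ Over.mk f :=
  Over.homMk (pullback.snd V.hom f) (by simp)

lemma sigV_naturality {V V' : Over Y} (h : V ⟶ V') : (uf f).map h ≫ sigV f V' = sigV f V := by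
  ext
  simp only [sigV, Functor.comp_map, Over.comp_left, Over.map_map_left, Over.pullback_map_left,
    Over.homMk_left]
  exact pullback.lift_snd _ _ _

end Pull

end Groth.Agent.Lib.SiteCmpRes_helper7
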