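import Mathlib
import Groth.Agent.Lib.SiteCmpC1_helper7
import Groth.Agent.Lib.SiteCmpRes_helper7

/-!
# Cohomology classes dying locally for a coarser topology (helper7)
-/

set_option autoImplicit false
universe u
open CategoryTheory Limits Opposite Abelian

namespace Groth.Agent.Lib.SiteCmpLoc_helper7

open Groth.Agent.Lib.SiteCmpC1_helper7 Groth.Agent.Lib.SiteCmpRes_helper7

variable {D : Type u} [SmallCategory D] {J : GrothendieckTopology D}

/-- the free abelian sheaf on `T` -/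
noncomputable abbrev Z (J : GrothendieckTopology D) (T : D) : Sheaf J AddCommGrpCat.{u} :=
  (RpushSite.frF J).obj T

/-- restriction of classes -/
noncomputable def rs {M : Sheaf J AddCommGrpCat.{u}} {k : ℕ} {T' T : D} (g : T' ⟶ T)
    (ξ : Ext.{u} (Z J T) M k) : Ext.{u} (Z J T') M k :=
  (Ext.mk₀ ((RpushSite.frF J).map g)).comp ξ (zero_add k)

lemma rs_rs {M : Sheaf J AddCommGrpCat.{u}} {k : ℕ} {T'' T' T : D} (g' : T'' ⟶ T') (g : T' ⟶ T)
    (ξ : Ext.{u} (Z J T) M k) : rs g' (rs g ξ) = rs (g' ≫ g) ξ := by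
  unfold rs
  rw [← Ext.comp_assoc_of_second_deg_zero, Ext.mk₀_comp_mk₀, Functor.map_comp]

lemma rs_add {M : Sheaf J AddCommGrpCat.{u}} {k : ℕ} {T' T : D} (g : T' ⟶ T)
    (ξ ξ' : Ext.{u} (Z J T) M k) : rs g (ξ + ξ') = rs g ξ + rs g ξ' := by
  unfold rs
  rw [Ext.comp_add]

lemma rs_zero {M : Sheaf J AddCommGrpCat.{u}} {k : ℕ} {T' T : D} (g : T' ⟶ T) :
    rs g (0 : Ext.{u} (Z J T) M k) = 0 := by
  unfold rs
  rw [Ext.comp_zero]

lemma rs_post {M M' : Sheaf J AddCommGrpCat.{u}} {k j l : ℕ} {T' T : D} (g : T' ⟶ T)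
    (ξ : Ext.{u} (Z J T) M k) (y : Ext.{u} M M' j) (hkj : k + j = l) :
    rs g (ξ.comp y hkj) = (rs g ξ).comp y hkj := by
  unfold rs
  exact (Ext.comp_assoc (Ext.mk₀ ((RpushSite.frF J).map g)) ξ y (zero_add k) hkj
    (by omega)).symm

variable (J' : GrothendieckTopology D)

/-- a class dies locally for the topology `J'` -/
def LocZ {M : Sheaf J AddCommGrpCat.{u}} {k : ℕ} {T : D} (ξ : Ext.{u} (Z J T) M k) : Prop :=
  ∃ S : Sieve T, S ∈ J' T ∧ ∀ ⦃T' : D⦄ (g : T' ⟶ T), S g → rs g ξ = 0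

variable {J'}

lemma locZ_zero {M : Sheaf J AddCommGrpCat.{u}} {k : ℕ} {T : D} :
    LocZ J' (0 : Ext.{u} (Z J T) M k) :=
  ⟨⊤, J'.top_mem T, fun _ g _ => rs_zero g⟩

lemma locZ_of_eq_zero {M : Sheaf J AddCommGrpCat.{u}} {k : ℕ} {T : D} {ξ : Ext.{u} (Z J T) M k}
    (hξ : ξ = 0) : LocZ J' ξ := hξ ▸ locZ_zero

lemma LocZ.post {M M' : Sheaf J AddCommGrpCat.{u}} {k j l : ℕ} {T : D}
    {ξ : Ext.{u} (Z J T) M k} (hξ : LocZ J' ξ) (y : Ext.{u} M M' j) (hkj : k + j = l) :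
    LocZ J' (ξ.comp y hkj) := by
  obtain ⟨S, hS, hS'⟩ := hξ
  refine ⟨S, hS, fun T' g hg => ?_⟩
  rw [rs_post, hS' g hg, Ext.zero_comp]

lemma LocZ.rs {M : Sheaf J AddCommGrpCat.{u}} {k : ℕ} {T' T : D}
    {ξ : Ext.{u} (Z J T) M k} (hξ : LocZ J' ξ) (g : T' ⟶ T) : LocZ J' (rs g ξ) := by
  obtain ⟨S, hS, hS'⟩ := hξ
  refine ⟨S.pullback g, J'.pullback_stable g hS, fun T'' g' hg' => ?_⟩
  rw [rs_rs]
  exact hS' _ hg'

lemma locZ_of_local {M : Sheaf J AddCommGrpCat.{u}} {k : ℕ} {T : D}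
    (ξ : Ext.{u} (Z J T) M k) (S : Sieve T) (hS : S ∈ J' T)
    (h : ∀ ⦃T' : D⦄ (g : T' ⟶ T), S g → LocZ J' (rs g ξ)) : LocZ J' ξ := by
  classical
  refine ⟨Sieve.bind S (fun T' g hg => (h g hg).choose),
    J'.bind_covering hS (fun T' g hg => (h g hg).choose_spec.1), ?_⟩
  rintro T'' g' ⟨T', a, g, hg, ha, rfl⟩
  rw [← rs_rs]
  exact (h g hg).choose_spec.2 a ha

lemma LocZ.add {M : Sheaf J AddCommGrpCat.{u}} {k : ℕ} {T : D}
    {ξ ξ' : Ext.{u} (Z J T) M k} (hξ : LocZ J' ξ) (hξ' : LocZ J' ξ') : LocZ J' (ξ + ξ') := by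
  obtain ⟨S, hS, hS'⟩ := hξ
  obtain ⟨S₂, hS₂, hS₂'⟩ := hξ'
  refine ⟨S ⊓ S₂, J'.intersection_covering hS hS₂, fun T' g hg => ?_⟩
  rw [rs_add, hS' g hg.1, hS₂' g hg.2, add_zero]

section Vanishing

variable (h : J' ≤ J)

/-- `R^k ε_* M` is the sheafification of `T ↦ H^k_J(T, M)` -/
noncomputable def repsIso (M : Sheaf J AddCommGrpCat.{u}) (k : ℕ) :
    ((eps h).rightDerived k).obj M ≅
      (RpushSite.shf J').obj (PreshExt.E (RpushSite.frF J) M k) :=
  haveI := SiteCmp.idContinuous h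
  RpushSite.rpushIso J J' (𝟭 D) M k

lemma sheaf_sections_zero {G : Sheaf J' AddCommGrpCat.{u}} (hG : IsZero G) (T : D)
    (s : G.obj.obj (op T)) : s = 0 := by
  have h1 : 𝟙 G = 0 := hG.eq_of_src _ _
  have h2 := congrArg (fun φ : G ⟶ G => (φ.hom.app (op T)).hom s) h1
  exact h2

lemma isZero_of_sections_zero {G : Sheaf J' AddCommGrpCat.{u}}
    (hG : ∀ (T : D) (s : G.obj.obj (op T)), s = 0) : IsZero G := by
  rw [IsZero.iff_id_eq_zero]
  ext T s
  exact (hG T.unop _).trans (hG T.unop _).symm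

/-- vanishing of `R^k ε_*` gives local vanishing of classes -/
theorem locZ_of_isZero (M : Sheaf J AddCommGrpCat.{u}) (k : ℕ)
    (hM : IsZero (((eps h).rightDerived k).obj M)) {T : D} (ξ : Ext.{u} (Z J T) M k) :
    LocZ J' ξ := by
  let P := PreshExt.E (RpushSite.frF J) M k
  let η : P ⟶ ((RpushSite.shf J').obj P).obj := toSheafify J' P
  haveI : Presheaf.IsLocallyInjective J' η := inferInstance
  have hz : IsZero ((RpushSite.shf J').obj P) := hM.of_iso (repsIso h M k).symm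
  let x : P.obj (op T) := ξ
  have h0 : (η.app (op T)).hom x = (η.app (op T)).hom 0 :=
    (sheaf_sections_zero hz T _).trans (sheaf_sections_zero hz T _).symm
  refine ⟨Presheaf.equalizerSieve (F := P) (X := op T) x 0,
    Presheaf.equalizerSieve_mem J' η x 0 h0, fun T' g hg => ?_⟩
  have h2 : (P.map g.op).hom x = (P.map g.op).hom 0 := hg
  rw [map_zero] at h2
  exact h2

/-- local vanishing of classes gives vanishing of `R^k ε_*` -/
theorem isZero_of_locZ (M : Sheaf J AddCommGrpCat.{u}) (k : ℕ)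
    (hM : ∀ (T : D) (ξ : Ext.{u} (Z J T) M k), LocZ J' ξ) :
    IsZero (((eps h).rightDerived k).obj M) := by
  let P := PreshExt.E (RpushSite.frF J) M k
  let G := (RpushSite.shf J').obj P
  let η : P ⟶ G.obj := toSheafify J' P
  haveI : Presheaf.IsLocallySurjective J' η := inferInstance
  refine IsZero.of_iso ?_ (repsIso h M k)
  apply isZero_of_sections_zero
  intro T s
  refine sheaf_eq_zero G.2 (Presheaf.imageSieve η s) (Presheaf.imageSieve_mem J' η s) s ?_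
  rintro T' g ⟨t, ht⟩
  have ht' : (η.app (op T')).hom t = (G.obj.map g.op).hom s := ht
  rw [← ht']
  obtain ⟨S, hS, hS'⟩ := hM T' t
  refine sheaf_eq_zero G.2 S hS _ ?_
  intro T'' g' hg'
  have hnat : (G.obj.map g'.op).hom ((η.app (op T')).hom t) =
      (η.app (op T'')).hom ((P.map g'.op).hom t) :=
    (congrArg (fun φ => φ.hom t) (η.naturality g'.op)).symm
  rw [hnat]
  have h3 : (P.map g'.op).hom t = 0 := hS' g' hg'
  rw [h3, map_zero]

end Vanishing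

end Groth.Agent.Lib.SiteCmpLoc_helper7
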