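import Mathlib
import Groth.Agent.Lib.ExtAdjOne_helper7
import Groth.Agent.Lib.SiteCmpLoc_helper7

/-!
# Classes dying locally for the coarser topology come from the coarser topology (helper7)
-/

set_option autoImplicit false
universe u
open CategoryTheory Limits Opposite Abelian

namespace Groth.Agent.Lib.SiteCmpC1b_helper7

open Groth.Agent.Lib Groth.Agent.Lib.ExtAdj_helper7 Groth.Agent.Lib.SiteCmpC1_helper7
  Groth.Agent.Lib.SiteCmpLoc_helper7 Groth.Agent.Lib.SiteCmpRes_helper7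

variable {D : Type u} [SmallCategory D] {J J' : GrothendieckTopology D}

section Basic

lemma evalGen_comp {T : D} {M M' : Sheaf J AddCommGrpCat.{u}} (y : Z J T ⟶ M) (φ : M ⟶ M') :
    CohFree.evalGen J T M' (y ≫ φ) = (φ.hom.app (op T)).hom (CohFree.evalGen J T M y) := rfl

lemma hom_ext_evalGen {T : D} {M : Sheaf J AddCommGrpCat.{u}} (y y' : Z J T ⟶ M)
    (hy : CohFree.evalGen J T M y = CohFree.evalGen J T M y') : y = y' :=
  (CohFree.homEquivSect J T M).injective hy

lemma rs_id {M : Sheaf J AddCommGrpCat.{u}} {k : ℕ} {T : D} (ξ : Ext.{u} (Z J T) M k) :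
    rs (𝟙 T) ξ = ξ := by
  unfold rs
  rw [CategoryTheory.Functor.map_id, Ext.mk₀_id_comp]

lemma rs_mk₀ {M : Sheaf J AddCommGrpCat.{u}} {T' T : D} (g : T' ⟶ T) (y : Z J T ⟶ M) :
    rs g (Ext.mk₀ y) = Ext.mk₀ ((RpushSite.frF J).map g ≫ y) := by
  unfold rs
  rw [Ext.mk₀_comp_mk₀]

/-- local lifting of sections along a locally surjective map, in terms of morphisms from the
free sheaves -/
lemma locLift (K : GrothendieckTopology D) {B B' : Sheaf J AddCommGrpCat.{u}} (ψ : B ⟶ B')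
    [Presheaf.IsLocallySurjective K ψ.hom] {T : D} (q₀ : Z J T ⟶ B') :
    ∃ S : Sieve T, S ∈ K T ∧ ∀ ⦃T' : D⦄ (g : T' ⟶ T), S g →
      ∃ t : Z J T' ⟶ B, (RpushSite.frF J).map g ≫ q₀ = t ≫ ψ := by
  refine ⟨Presheaf.imageSieve ψ.hom (CohFree.evalGen J T B' q₀),
    Presheaf.imageSieve_mem K ψ.hom _, ?_⟩
  rintro T' g ⟨t, ht⟩
  have ht' : (ψ.hom.app (op T')).hom t = (B'.obj.map g.op).hom (CohFree.evalGen J T B' q₀) := ht
  refine ⟨CohFree.ofSect J T' B t, ?_⟩
  apply hom_ext_evalGen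
  refine (CohFree.evalGen_freeSheafMap_comp J g B' q₀).trans ?_
  rw [← ht']
  show _ = (ψ.hom.app (op T')).hom (CohFree.evalGen J T' B (CohFree.ofSect J T' B t))
  rw [CohFree.evalGen_ofSect]

end Basic

variable (h : J' ≤ J)

lemma cT_injective (F : Sheaf J AddCommGrpCat.{u}) (k : ℕ) (T : D)
    (hF : ∀ i : ℕ, 1 ≤ i → i + 1 ≤ k → IsZero (((eps h).rightDerived i).obj F)) :
    Function.Injective (cT h F k T) := by
  have h1 := ((Φ_partial (epsInv h) (eps h) (epsAdj h) ((RpushSite.frF J').obj T) k F).2 hF)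
  have hinv : ∀ x : Ext.{u} ((RpushSite.frF J' ⋙ epsInv h).obj T) F k,
      (Ext.mk₀ ((lam h).hom.app T)).comp
      ((Ext.mk₀ ((lam h).inv.app T)).comp x (zero_add k)) (zero_add k) = x := by
    intro x
    rw [← Ext.comp_assoc_of_second_deg_zero, Ext.mk₀_comp_mk₀, Iso.hom_inv_id_app,
      Ext.mk₀_id_comp]
  intro x y hxy
  apply h1
  have hxy' : (Ext.mk₀ ((lam h).inv.app T)).comp
      (Φ (epsInv h) (eps h) (epsAdj h) ((RpushSite.frF J').obj T) F k x) (zero_add k) =
      (Ext.mk₀ ((lam h).inv.app T)).comp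
      (Φ (epsInv h) (eps h) (epsAdj h) ((RpushSite.frF J').obj T) F k y) (zero_add k) := hxy
  calc Φ (epsInv h) (eps h) (epsAdj h) ((RpushSite.frF J').obj T) F k x
      = _ := (hinv _).symm
    _ = _ := by rw [hxy']
    _ = _ := hinv _

/-- a class in `H^{n+1}_J(T, F)` dying `J'`-locally comes from `H^{n+1}_{J'}(T, ε_* F)`, if
`R^i ε_* F = 0` for `1 ≤ i ≤ n` -/
theorem c1b (n : ℕ) : ∀ (F : Sheaf J AddCommGrpCat.{u}),
    (∀ i : ℕ, 1 ≤ i → i ≤ n → IsZero (((eps h).rightDerived i).obj F)) →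
    ∀ (T : D) (ξ : Ext.{u} (Z J T) F (n + 1)), LocZ J' ξ →
      ∃ θ : Ext.{u} ((RpushSite.frF J').obj T) ((eps h).obj F) (n + 1),
        cT h F (n + 1) T θ = ξ := by
  induction n with
  | zero =>
    intro F _ T ξ hξ
    obtain ⟨Sv, hSv, hSv'⟩ := hξ
    let I : InjectivePresentation F := Classical.arbitrary _
    let S := ShortComplex.mk _ _ (cokernel.condition I.f)
    have hS : S.ShortExact := { exact := ShortComplex.exact_cokernel I.f }
    haveI : Injective S.X₂ := I.injective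
    obtain ⟨y, hy⟩ : ∃ y : Ext.{u} (Z J T) S.X₃ 0, y.comp hS.extClass (zero_add 1) = ξ :=
      Ext.covariant_sequence_exact₁ _ hS ξ (Ext.eq_zero_of_injective _) (zero_add 1)
    obtain ⟨y₀, rfl⟩ := (Ext.mk₀_bijective _ _).2 y
    have hS1' : (S1 (eps h) S).ShortExact := hS1 (epsInv h) (eps h) (epsAdj h) S hS
    haveI : Mono (jS (eps h) S) := jS_mono (epsInv h) (eps h) (epsAdj h) S hS
    let y' : (RpushSite.frF J').obj T ⟶ (eps h).obj S.X₃ :=
      (epsAdj h).homEquiv _ _ ((lam h).hom.app T ≫ y₀)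
    have hσ : y' ≫ cokernel.π (jS (eps h) S) = 0 := by
      apply hom_ext_evalGen
      rw [map_zero]
      refine sheaf_eq_zero (cokernel (jS (eps h) S)).2 Sv hSv _ ?_
      intro T' g hg
      rw [← CohFree.evalGen_freeSheafMap_comp]
      have h0 := hSv' g hg
      rw [← hy, rs_post, rs_mk₀] at h0
      obtain ⟨x, hx⟩ := Ext.covariant_sequence_exact₃ _ hS _ (zero_add 1) h0
      obtain ⟨x₀, rfl⟩ := (Ext.mk₀_bijective _ _).2 x
      rw [Ext.mk₀_comp_mk₀] at hx
      have hx' : x₀ ≫ S.g = (RpushSite.frF J).map g ≫ y₀ := (Ext.mk₀_bijective _ _).1 hx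
      have e1 : (RpushSite.frF J').map g ≫ y' =
          (epsAdj h).homEquiv _ _ ((lam h).hom.app T' ≫ x₀) ≫ (eps h).map S.g := by
        rw [← Adjunction.homEquiv_naturality_right, ← Adjunction.homEquiv_naturality_left]
        congr 1
        rw [Category.assoc, hx', ← Category.assoc, ← Category.assoc]
        congr 1
        exact (lam h).hom.naturality g
      have e2 : CohCx.freeSheafMap J' g ≫ y' ≫ cokernel.π (jS (eps h) S) = 0 := by
        have e1' : CohCx.freeSheafMap J' g ≫ y' =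
          (epsAdj h).homEquiv _ _ ((lam h).hom.app T' ≫ x₀) ≫ (eps h).map S.g := e1
        rw [← Category.assoc, e1', ← π_jS (eps h) S, Category.assoc, Category.assoc,
          cokernel.condition, comp_zero, comp_zero]
      rw [e2, map_zero]
    let σ' : (RpushSite.frF J').obj T ⟶ cokernel ((eps h).map S.f) :=
      Abelian.monoLift (jS (eps h) S) y' hσ
    have hσ' : σ' ≫ jS (eps h) S = y' := Abelian.monoLift_comp _ _ _
    refine ⟨(Ext.mk₀ σ').comp hS1'.extClass (zero_add 1), ?_⟩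
    rw [cT_apply, Φ_one_formula (epsInv h) (eps h) (epsAdj h) S hS _ σ' hS1',
      ← Ext.comp_assoc_of_second_deg_zero, Ext.mk₀_comp_mk₀, ← hy]
    congr 2
    have e3 : (epsInv h).map y' ≫ (epsAdj h).counit.app S.X₃ = (lam h).hom.app T ≫ y₀ :=
      ((epsAdj h).homEquiv_counit _ _ y').symm.trans (Equiv.symm_apply_apply _ _)
    rw [← (epsInv h).map_comp_assoc, hσ', e3, Iso.inv_hom_id_app_assoc]
  | succ n ih =>
    intro F hF T ξ hξ
    obtain ⟨Sv, hSv, hSv'⟩ := hξ
    let I : InjectivePresentation F := Classical.arbitrary _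
    let S := ShortComplex.mk _ _ (cokernel.condition I.f)
    have hS : S.ShortExact := { exact := ShortComplex.exact_cokernel I.f }
    haveI : Injective S.X₂ := I.injective
    have hRS : (S.map (eps h)).ShortExact :=
      shortExact_map_of_acyc (epsInv h) (eps h) (epsAdj h) S hS (hF 1 le_rfl (by omega))
    obtain ⟨ξ', hξ'⟩ : ∃ y : Ext.{u} (Z J T) S.X₃ (n + 1), y.comp hS.extClass rfl = ξ :=
      Ext.covariant_sequence_exact₁ _ hS ξ (Ext.eq_zero_of_injective _) rfl
    have hloc : LocZ J' ξ' := by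
      refine ⟨Sv, hSv, fun T' g hg => ?_⟩
      have h0 := hSv' g hg
      rw [← hξ', rs_post] at h0
      obtain ⟨x, hx⟩ := Ext.covariant_sequence_exact₃ _ hS _ rfl h0
      rw [← hx, Ext.eq_zero_of_injective x, Ext.zero_comp]
    have hN : ∀ i : ℕ, 1 ≤ i → i ≤ n → IsZero (((eps h).rightDerived i).obj S.X₃) := by
      intro i hi hin
      obtain ⟨j, rfl⟩ : ∃ j, i = j + 1 := ⟨i - 1, by omega⟩
      exact FAcyc.isZero_X₃ (eps h) S hS (j + 1)
        (Functor.isZero_rightDerived_obj_injective_succ (eps h) j S.X₂)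
        (hF (j + 1 + 1) (by omega) (by omega))
    obtain ⟨θ', hθ'⟩ := ih S.X₃ hN T ξ' hloc
    refine ⟨θ'.comp hRS.extClass rfl, ?_⟩
    rw [cT_apply, Φ_comp_extClass (epsInv h) (eps h) (epsAdj h) _ S hS hRS]
    refine (Ext.comp_assoc (Ext.mk₀ ((lam h).inv.app T)) _ hS.extClass (zero_add (n + 1)) rfl
      (by omega)).symm.trans ?_
    have hθ'' := hθ'
    rw [cT_apply] at hθ''
    rw [hθ'', hξ']

end Groth.Agent.Lib.SiteCmpC1b_helper7
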