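import Mathlib
import Groth.Prelude.Def_CohCx
import Groth.Prelude.Def_FreeSh
import Groth.Agent.Lib.SiteCmpC1b_helper7

/-!
# The sheaf associated to `U ↦ Hom_D(ℤ_U[0], L)` is `H⁰(L)` (helper7)

For `L` in the derived category of abelian sheaves on a small site.
-/

set_option autoImplicit false
universe u
open CategoryTheory Limits Opposite

namespace Groth.Agent.Lib.HDSheaf_helper7

open Groth.Agent.Lib Groth.Agent.Lib.SiteCmpLoc_helper7 Groth.Agent.Lib.SiteCmpC1b_helper7

section Alg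

variable {𝒜 : Type*} [Category 𝒜] [Abelian 𝒜]

open HomologicalComplex

/-- the chain map from the single complex given by a cycle -/
noncomputable abbrev fromSingle {K : CochainComplex 𝒜 ℤ} {A : 𝒜} (c : A ⟶ K.X 0)
    (hc : c ≫ K.d 0 1 = 0) :
    (HomologicalComplex.single 𝒜 (ComplexShape.up ℤ) 0).obj A ⟶ K :=
  HomologicalComplex.mkHomFromSingle c (fun k hk => by
    obtain rfl : k = 1 := by simpa using hk.symm
    exact hc)

lemma homologyMap_fromSingle {K : CochainComplex 𝒜 ℤ} {A : 𝒜} (c : A ⟶ K.X 0)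
    (hc : c ≫ K.d 0 1 = 0) :
    (singleObjHomologySelfIso (ComplexShape.up ℤ) 0 A).inv ≫ homologyMap (fromSingle c hc) 0 =
      K.liftCycles c 1 (by simp) hc ≫ K.homologyπ 0 := by
  rw [← singleObjCyclesSelfIso_inv_homologyπ, Category.assoc, homologyπ_naturality,
    ← Category.assoc]
  congr 1
  rw [← cancel_mono (K.iCycles 0), Category.assoc, cyclesMap_i, liftCycles_i,
    singleObjCyclesSelfIso_inv_iCycles_assoc, mkHomFromSingle_f, Iso.inv_hom_id_assoc]

/-- a cycle which is a boundary gives a null-homotopic map -/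
noncomputable def nullHomotopyFromSingle {K : CochainComplex 𝒜 ℤ} {A : 𝒜} (w : A ⟶ K.X (-1)) :
    Homotopy (fromSingle (w ≫ K.d (-1) 0) (by simp)) 0 where
  hom i j := if h : i = 0 ∧ j = -1 then
      eqToHom (by rw [h.1]) ≫ (singleObjXSelf (ComplexShape.up ℤ) 0 A).hom ≫ w ≫
        eqToHom (by rw [h.2]) else 0
  zero i j hij := by
    rw [dif_neg]
    rintro ⟨rfl, rfl⟩
    exact hij (by simp)
  comm i := by
    by_cases hi : i = 0
    · subst hi
      rw [dNext_eq _ (show (ComplexShape.up ℤ).Rel 0 1 by simp),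
        prevD_eq _ (show (ComplexShape.up ℤ).Rel (-1) 0 by simp)]
      simp [mkHomFromSingle_f]
    · exact (isZero_single_obj_X _ _ _ _ hi).eq_of_src _ _

end Alg

section Der

variable {C : Type u} [SmallCategory C] {J : GrothendieckTopology C}
  [HasDerivedCategory.{u} (Sheaf J AddCommGrpCat.{u})]

open DerivedCategory

/-- `H⁰(A[0]) ≅ A` -/
noncomputable def sig (A : Sheaf J AddCommGrpCat.{u}) :
    (homologyFunctor (Sheaf J AddCommGrpCat.{u}) 0).obj
      ((singleFunctor (Sheaf J AddCommGrpCat.{u}) 0).obj A) ≅ A :=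
  (homologyFunctorFactors (Sheaf J AddCommGrpCat.{u}) 0).app
      ((CochainComplex.singleFunctor (Sheaf J AddCommGrpCat.{u}) 0).obj A) ≪≫
    HomologicalComplex.singleObjHomologySelfIso (ComplexShape.up ℤ) 0 A

lemma sig_hom_naturality {A B : Sheaf J AddCommGrpCat.{u}} (g : A ⟶ B) :
    (homologyFunctor (Sheaf J AddCommGrpCat.{u}) 0).map
      ((singleFunctor (Sheaf J AddCommGrpCat.{u}) 0).map g) ≫ (sig B).hom = (sig A).hom ≫ g := by
  have h1 := homologyFunctorFactors_hom_naturality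
    ((CochainComplex.singleFunctor (Sheaf J AddCommGrpCat.{u}) 0).map g) 0
  have h2 := HomologicalComplex.singleObjHomologySelfIso_hom_naturality (ComplexShape.up ℤ) 0 g
  simp only [sig, Iso.trans_hom, Iso.app_hom]
  refine (Category.assoc _ _ _).symm.trans ?_
  refine (congrArg (fun t => t ≫ _) h1).trans ?_
  exact (Category.assoc _ _ _).trans (congrArg (fun t => _ ≫ t) h2)

lemma sig_inv_factors (A : Sheaf J AddCommGrpCat.{u}) :
    (sig A).inv ≫ (homologyFunctorFactors (Sheaf J AddCommGrpCat.{u}) 0).hom.app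
      ((CochainComplex.singleFunctor (Sheaf J AddCommGrpCat.{u}) 0).obj A) =
    (HomologicalComplex.singleObjHomologySelfIso (ComplexShape.up ℤ) 0 A).inv := by
  show ((HomologicalComplex.singleObjHomologySelfIso (ComplexShape.up ℤ) 0 A).inv ≫
    ((homologyFunctorFactors (Sheaf J AddCommGrpCat.{u}) 0).app
      ((CochainComplex.singleFunctor (Sheaf J AddCommGrpCat.{u}) 0).obj A)).inv) ≫
    ((homologyFunctorFactors (Sheaf J AddCommGrpCat.{u}) 0).app
      ((CochainComplex.singleFunctor (Sheaf J AddCommGrpCat.{u}) 0).obj A)).hom = _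
  exact (Category.assoc _ _ _).trans ((congrArg
    (fun t => (HomologicalComplex.singleObjHomologySelfIso (ComplexShape.up ℤ) 0 A).inv ≫ t)
    (((homologyFunctorFactors (Sheaf J AddCommGrpCat.{u}) 0).app
      ((CochainComplex.singleFunctor (Sheaf J AddCommGrpCat.{u}) 0).obj A)).inv_hom_id)).trans
    (Category.comp_id _))

lemma sig_inv_naturality {A B : Sheaf J AddCommGrpCat.{u}} (g : A ⟶ B) :
    (sig A).inv ≫ (homologyFunctor (Sheaf J AddCommGrpCat.{u}) 0).map
      ((singleFunctor (Sheaf J AddCommGrpCat.{u}) 0).map g) = g ≫ (sig B).inv := by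
  rw [Iso.inv_comp_eq, ← Category.assoc, Iso.eq_comp_inv, sig_hom_naturality]

/-- the presheaf `U ↦ Hom_D(ℤ_U[0], L)` -/
noncomputable abbrev PP (L : DerivedCategory (Sheaf J AddCommGrpCat.{u})) :
    Cᵒᵖ ⥤ AddCommGrpCat.{u} :=
  (yoneda ⋙ (Functor.whiskeringRight _ _ _).obj AddCommGrpCat.free.{u} ⋙
      presheafToSheaf J AddCommGrpCat.{u} ⋙
      DerivedCategory.singleFunctor (Sheaf J AddCommGrpCat.{u}) 0).op ⋙
    preadditiveYoneda.obj L

noncomputable def etaApp (L : DerivedCategory (Sheaf J AddCommGrpCat.{u})) (U : C) :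
    ((singleFunctor (Sheaf J AddCommGrpCat.{u}) 0).obj (Z J U) ⟶ L) →+
      ((homologyFunctor (Sheaf J AddCommGrpCat.{u}) 0).obj L).obj.obj (op U) :=
  (CohFree.evalGen J U _).comp ((Preadditive.leftComp _ (sig (Z J U)).inv).comp
    ((homologyFunctor (Sheaf J AddCommGrpCat.{u}) 0).mapAddHom))

lemma etaApp_apply (L : DerivedCategory (Sheaf J AddCommGrpCat.{u})) (U : C)
    (φ : (singleFunctor (Sheaf J AddCommGrpCat.{u}) 0).obj (Z J U) ⟶ L) :
    etaApp L U φ = CohFree.evalGen J U _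
      ((sig (Z J U)).inv ≫ (homologyFunctor (Sheaf J AddCommGrpCat.{u}) 0).map φ) := rfl

lemma etaApp_naturality (L : DerivedCategory (Sheaf J AddCommGrpCat.{u})) {U V : C} (g : V ⟶ U)
    (φ : (singleFunctor (Sheaf J AddCommGrpCat.{u}) 0).obj (Z J U) ⟶ L) :
    etaApp L V ((singleFunctor (Sheaf J AddCommGrpCat.{u}) 0).map ((RpushSite.frF J).map g) ≫ φ) =
      (((homologyFunctor (Sheaf J AddCommGrpCat.{u}) 0).obj L).obj.map g.op).hom (etaApp L U φ) := by
  rw [etaApp_apply, etaApp_apply]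
  have h := sig_inv_naturality ((RpushSite.frF J).map g)
  have h' : (sig (Z J V)).inv ≫ (homologyFunctor (Sheaf J AddCommGrpCat.{u}) 0).map
      ((singleFunctor (Sheaf J AddCommGrpCat.{u}) 0).map ((RpushSite.frF J).map g) ≫ φ) =
      (RpushSite.frF J).map g ≫ ((sig (Z J U)).inv ≫
        (homologyFunctor (Sheaf J AddCommGrpCat.{u}) 0).map φ) :=
    (congrArg (fun t => (sig (Z J V)).inv ≫ t)
      ((homologyFunctor (Sheaf J AddCommGrpCat.{u}) 0).map_comp
        ((singleFunctor (Sheaf J AddCommGrpCat.{u}) 0).map ((RpushSite.frF J).map g)) φ)).trans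
      ((Category.assoc _ _ _).symm.trans ((congrArg (fun t => t ≫
        (homologyFunctor (Sheaf J AddCommGrpCat.{u}) 0).map φ) h).trans (Category.assoc _ _ _)))
  refine (congrArg (CohFree.evalGen J V _) h').trans ?_
  exact CohFree.evalGen_freeSheafMap_comp J g _ _

noncomputable def eta (L : DerivedCategory (Sheaf J AddCommGrpCat.{u})) :
    PP L ⟶ ((homologyFunctor (Sheaf J AddCommGrpCat.{u}) 0).obj L).obj where
  app X := AddCommGrpCat.ofHom (etaApp L X.unop)
  naturality X Y f := by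
    apply AddCommGrpCat.hom_ext
    apply AddMonoidHom.ext
    intro φ
    exact etaApp_naturality L f.unop φ

lemma eta_app_apply (L : DerivedCategory (Sheaf J AddCommGrpCat.{u})) (U : C)
    (φ : (singleFunctor (Sheaf J AddCommGrpCat.{u}) 0).obj (Z J U) ⟶ L) :
    ((eta L).app (op U)).hom φ = etaApp L U φ := rfl

theorem eta_locSurj (L' : CochainComplex (Sheaf J AddCommGrpCat.{u}) ℤ) :
    Presheaf.IsLocallySurjective J (eta (Q.obj L')) := by
  refine ⟨fun {U} s => ?_⟩
  obtain ⟨s₀, rfl⟩ : ∃ s₀ : Z J U ⟶ (homologyFunctor (Sheaf J AddCommGrpCat.{u}) 0).obj (Q.obj L'),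
      CohFree.evalGen J U _ s₀ = s := ⟨CohFree.ofSect J U _ s, CohFree.evalGen_ofSect J U _ s⟩
  let τ := (homologyFunctorFactors (Sheaf J AddCommGrpCat.{u}) 0).app L'
  haveI : Presheaf.IsLocallySurjective J (L'.homologyπ 0).hom :=
    (Sheaf.isLocallySurjective_iff_epi' _ _).2 inferInstance
  obtain ⟨S, hS, hS'⟩ := locLift J (L'.homologyπ 0) (s₀ ≫ τ.hom)
  refine J.superset_covering ?_ hS
  intro V i hi
  obtain ⟨t, ht⟩ := hS' i hi
  have hc : (t ≫ L'.iCycles 0) ≫ L'.d 0 1 = 0 := by simp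
  obtain ⟨gg, hgg⟩ : ∃ gg, gg = fromSingle (t ≫ L'.iCycles 0) hc := ⟨_, rfl⟩
  refine ⟨Q.map gg, ?_⟩
  refine (etaApp_apply _ V _).trans ?_
  refine Eq.trans ?_ (CohFree.evalGen_freeSheafMap_comp J i _ s₀)
  have h1 := homologyFunctorFactors_hom_naturality gg 0
  have h2 : (HomologicalComplex.singleObjHomologySelfIso (ComplexShape.up ℤ) 0 (Z J V)).inv ≫
      HomologicalComplex.homologyMap gg 0 = t ≫ L'.homologyπ 0 := by
    rw [hgg, homologyMap_fromSingle]
    congr 1
    rw [← cancel_mono (L'.iCycles 0), HomologicalComplex.liftCycles_i]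
  have key : ((sig (Z J V)).inv ≫
      (homologyFunctor (Sheaf J AddCommGrpCat.{u}) 0).map (Q.map gg)) ≫ τ.hom =
      ((RpushSite.frF J).map i ≫ s₀) ≫ τ.hom := by
    refine (Category.assoc _ _ _).trans ?_
    refine (congrArg (fun x => (sig (Z J V)).inv ≫ x) h1).trans ?_
    refine (Category.assoc _ _ _).symm.trans ?_
    refine (congrArg (fun x => x ≫ HomologicalComplex.homologyMap gg 0)
      (sig_inv_factors (Z J V))).trans ?_
    refine h2.trans ?_
    exact ht.symm.trans (Category.assoc _ _ _).symm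
  exact congrArg (CohFree.evalGen J V _) ((cancel_mono τ.hom).1 key)

theorem eta_ker (L' : CochainComplex (Sheaf J AddCommGrpCat.{u}) ℤ) (U : C)
    (φ : (singleFunctor (Sheaf J AddCommGrpCat.{u}) 0).obj (Z J U) ⟶ Q.obj L')
    (hφ : etaApp (Q.obj L') U φ = 0) :
    ∃ S ∈ J U, ∀ ⦃V : C⦄ (i : V ⟶ U), S i →
      (singleFunctor (Sheaf J AddCommGrpCat.{u}) 0).map ((RpushSite.frF J).map i) ≫ φ = 0 := by
  have h1 : (homologyFunctor (Sheaf J AddCommGrpCat.{u}) 0).map φ = 0 := by
    have h0 : (sig (Z J U)).inv ≫ (homologyFunctor (Sheaf J AddCommGrpCat.{u}) 0).map φ = 0 := by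
      apply hom_ext_evalGen
      rw [map_zero]
      exact hφ
    rw [← cancel_epi (sig (Z J U)).inv, h0, comp_zero]
  obtain ⟨L'', g, s, hs, rfl⟩ := DerivedCategory.left_fac
    (X := (CochainComplex.singleFunctor (Sheaf J AddCommGrpCat.{u}) 0).obj (Z J U)) (Y := L') φ
  haveI := hs
  have h2 : (homologyFunctor (Sheaf J AddCommGrpCat.{u}) 0).map (Q.map g) = 0 := by
    have h1' := ((homologyFunctor (Sheaf J AddCommGrpCat.{u}) 0).map_comp (Q.map g)
      (inv (Q.map s))).symm.trans h1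
    exact (cancel_mono ((homologyFunctor (Sheaf J AddCommGrpCat.{u}) 0).map (inv (Q.map s)))).1
      (h1'.trans zero_comp.symm)
  have h3 : HomologicalComplex.homologyMap g 0 = 0 := by
    have h := homologyFunctorFactors_hom_naturality g 0
    rw [h2, zero_comp] at h
    exact (cancel_epi ((homologyFunctorFactors (Sheaf J AddCommGrpCat.{u}) 0).hom.app
      ((CochainComplex.singleFunctor (Sheaf J AddCommGrpCat.{u}) 0).obj (Z J U)))).1
      (h.symm.trans comp_zero.symm)
  let c : Z J U ⟶ L''.X 0 :=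
    (HomologicalComplex.singleObjXSelf (ComplexShape.up ℤ) 0 (Z J U)).inv ≫ g.f 0
  have hc : c ≫ L''.d 0 1 = 0 := by
    have h : g.f 0 ≫ L''.d 0 1 = 0 :=
      (g.comm 0 1).trans ((congrArg (fun x => x ≫ g.f 1)
        (HomologicalComplex.single_obj_d (c := ComplexShape.up ℤ) 0 (Z J U) 0 1)).trans zero_comp)
    show ((HomologicalComplex.singleObjXSelf (ComplexShape.up ℤ) 0 (Z J U)).inv ≫ g.f 0) ≫
      L''.d 0 1 = 0
    exact (Category.assoc _ _ _).trans ((congrArg (fun t =>
      (HomologicalComplex.singleObjXSelf (ComplexShape.up ℤ) 0 (Z J U)).inv ≫ t) h).trans comp_zero)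
  have hg : g = fromSingle c hc := by
    apply HomologicalComplex.from_single_hom_ext
    rw [HomologicalComplex.mkHomFromSingle_f]
    simp [c]
  have h4 : L''.liftCycles c 1 (by simp) hc ≫ L''.homologyπ 0 = 0 := by
    refine (homologyMap_fromSingle c hc).symm.trans ?_
    rw [← hg]
    exact (congrArg (fun x => _ ≫ x) h3).trans comp_zero
  let T : ShortComplex (Sheaf J AddCommGrpCat.{u}) :=
    ShortComplex.mk (L''.toCycles (-1) 0) (L''.homologyπ 0) (by simp)
  have hT : T.Exact :=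
    ShortComplex.exact_of_g_is_cokernel _ (L''.homologyIsCokernel (-1) 0 (by simp))
  obtain ⟨A', π', hπ', x₁, fac⟩ :=
    hT.exact_up_to_refinements (L''.liftCycles c 1 (by simp) hc) h4
  haveI : Epi π' := hπ'
  haveI : Presheaf.IsLocallySurjective J π'.hom :=
    (Sheaf.isLocallySurjective_iff_epi' _ _).2 inferInstance
  obtain ⟨S, hS, hS'⟩ := locLift J π' (𝟙 (Z J U))
  refine ⟨S, hS, fun V i hi => ?_⟩
  obtain ⟨t, ht⟩ := hS' i hi
  rw [Category.comp_id] at ht
  have hw : (t ≫ x₁) ≫ L''.d (-1) 0 = (RpushSite.frF J).map i ≫ c := by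
    have fac' : π' ≫ L''.liftCycles c 1 (by simp) hc = x₁ ≫ L''.toCycles (-1) 0 := fac
    have e2 : x₁ ≫ L''.d (-1) 0 = π' ≫ c := by
      rw [← HomologicalComplex.toCycles_i L'' (-1) 0, ← Category.assoc]
      refine (congrArg (fun x => x ≫ L''.iCycles 0) fac'.symm).trans ?_
      rw [Category.assoc, HomologicalComplex.liftCycles_i]
    rw [Category.assoc, e2, ← Category.assoc, ← ht]
  have h5 : (CochainComplex.singleFunctor (Sheaf J AddCommGrpCat.{u}) 0).map
      ((RpushSite.frF J).map i) ≫ g = fromSingle ((t ≫ x₁) ≫ L''.d (-1) 0) (by simp) := by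
    apply HomologicalComplex.from_single_hom_ext
    rw [HomologicalComplex.mkHomFromSingle_f, hw, HomologicalComplex.comp_f]
    erw [HomologicalComplex.single_map_f_self]
    simp only [c]
    exact (Category.assoc _ _ _).trans (congrArg (fun t => _ ≫ t) (Category.assoc _ _ _))
  have h6 : Q.map (fromSingle ((t ≫ x₁) ≫ L''.d (-1) 0) (by simp)) = 0 :=
    (DerivedCategory.Q_map_eq_of_homotopy _ (nullHomotopyFromSingle (t ≫ x₁))).trans
      (Functor.map_zero _ _ _)
  show Q.map ((CochainComplex.singleFunctor (Sheaf J AddCommGrpCat.{u}) 0).map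
      ((RpushSite.frF J).map i)) ≫ Q.map g ≫ inv (Q.map s) = 0
  refine (Category.assoc _ _ _).symm.trans ?_
  exact (congrArg (fun x => x ≫ inv (Q.map s)) ((Q.map_comp _ _).symm.trans
    ((congrArg (fun x => Q.map x) h5).trans h6))).trans zero_comp

theorem eta_locInj (L' : CochainComplex (Sheaf J AddCommGrpCat.{u}) ℤ) :
    Presheaf.IsLocallyInjective J (eta (Q.obj L')) := by
  refine ⟨fun {X} x y h => ?_⟩
  let x' : (singleFunctor (Sheaf J AddCommGrpCat.{u}) 0).obj (Z J X.unop) ⟶ Q.obj L' := x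
  let y' : (singleFunctor (Sheaf J AddCommGrpCat.{u}) 0).obj (Z J X.unop) ⟶ Q.obj L' := y
  have h' : etaApp (Q.obj L') X.unop x' = etaApp (Q.obj L') X.unop y' := h
  obtain ⟨S, hS, hS'⟩ := eta_ker L' X.unop (x' - y') (by rw [map_sub, sub_eq_zero]; exact h')
  refine J.superset_covering ?_ hS
  intro V i hi
  have h0 := hS' i hi
  rw [Preadditive.comp_sub, sub_eq_zero] at h0
  exact h0

theorem core (L : DerivedCategory (Sheaf J AddCommGrpCat.{u})) :
    Nonempty ((presheafToSheaf J AddCommGrpCat.{u}).obj (PP L) ≅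
      (homologyFunctor (Sheaf J AddCommGrpCat.{u}) 0).obj L) := by
  let L' := (Q : CochainComplex (Sheaf J AddCommGrpCat.{u}) ℤ ⥤ _).objPreimage L
  let e : Q.obj L' ≅ L := Q.objObjPreimageIso L
  have hW : J.W (eta (Q.obj L')) := by
    haveI := eta_locInj L'
    haveI := eta_locSurj L'
    exact J.W_of_isLocallyBijective _
  haveI : IsIso ((presheafToSheaf J AddCommGrpCat.{u}).map (eta (Q.obj L'))) := (J.W_iff _).1 hW
  let i1 : PP L ≅ PP (Q.obj L') := Functor.isoWhiskerLeft _ (preadditiveYoneda.mapIso e.symm)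
  exact ⟨(presheafToSheaf J AddCommGrpCat.{u}).mapIso i1 ≪≫
    asIso ((presheafToSheaf J AddCommGrpCat.{u}).map (eta (Q.obj L'))) ≪≫
    asIso ((sheafificationAdjunction J AddCommGrpCat.{u}).counit.app _) ≪≫
    (homologyFunctor (Sheaf J AddCommGrpCat.{u}) 0).mapIso e⟩

theorem main (K : DerivedCategory (Sheaf J AddCommGrpCat.{u})) (q : ℤ) :
    Nonempty ((presheafToSheaf J AddCommGrpCat.{u}).obj (CohCx.HDUPresheaf K q) ≅ CohCx.HD K q) := by
  obtain ⟨i⟩ := core ((shiftFunctor (DerivedCategory (Sheaf J AddCommGrpCat.{u})) q).obj K)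
  exact ⟨i ≪≫ ((homologyFunctor (Sheaf J AddCommGrpCat.{u}) 0).shiftIso q 0 q (add_zero q)).app K⟩

end Der

end Groth.Agent.Lib.HDSheaf_helper7
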