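import Mathlib
import Groth.Prelude.Def_CohCx

/-!
# Maps into a derived limit in a pretriangulated category (Milnor sequence, two consequences)
-/

set_option autoImplicit false
universe v' u'
open CategoryTheory Limits Pretriangulated Opposite

namespace Groth.Agent.Lib.RlimHom

variable {T : Type u'} [Category.{v'} T] [Preadditive T] [HasZeroObject T] [HasShift T ℤ]
  [∀ n : ℤ, (shiftFunctor T n).Additive] [Pretriangulated T]
  (K : ℕ → T) (t : ∀ n, K (n + 1) ⟶ K n) [HasProduct K]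

/-- the shifted product fan is a limit -/
noncomputable def shiftFanIsLimit (m : ℤ) :
    IsLimit ((shiftFunctor T m).mapCone (Fan.mk (∏ᶜ K) (Pi.π K))) :=
  isLimitOfPreserves (shiftFunctor T m) (productIsProduct K)

lemma shift_pi_hom_ext {G : T} (m : ℤ) (f g : G ⟶ (∏ᶜ K)⟦m⟧)
    (h : ∀ n, f ≫ (Pi.π K n)⟦m⟧' = g ≫ (Pi.π K n)⟦m⟧') : f = g :=
  (shiftFanIsLimit K m).hom_ext (fun j => h j.as)

lemma shift_pi_lift {G : T} (m : ℤ) (x : ∀ n, G ⟶ (K n)⟦m⟧) :
    ∃ X : G ⟶ (∏ᶜ K)⟦m⟧, ∀ n, X ≫ (Pi.π K n)⟦m⟧' = x n := by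
  let c : Cone (Discrete.functor K ⋙ shiftFunctor T m) :=
    { pt := G
      π := Discrete.natTrans (fun j => x j.as) }
  exact ⟨(shiftFanIsLimit K m).lift c, fun n => (shiftFanIsLimit K m).fac c ⟨n⟩⟩

/-- the second map of the triangle defining a derived limit -/
noncomputable abbrev β : ∏ᶜ K ⟶ ∏ᶜ K := Pi.lift fun n => Pi.π K n - Pi.π K (n + 1) ≫ t n

lemma β_π_shift (m : ℤ) (n : ℕ) :
    (β K t)⟦m⟧' ≫ (Pi.π K n)⟦m⟧' = (Pi.π K n)⟦m⟧' - (Pi.π K (n + 1))⟦m⟧' ≫ (t n)⟦m⟧' := by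
  rw [← CategoryTheory.Functor.map_comp, Pi.lift_π, CategoryTheory.Functor.map_sub,
    CategoryTheory.Functor.map_comp]

variable (L : T) (a : ∀ n, L ⟶ K n)

theorem main (hL : CohCx.IsRlimVia K t L a) (G : T) (m : ℤ) :
    (∀ x : ∀ n, G ⟶ (K n)⟦m⟧, (∀ n, x (n + 1) ≫ (t n)⟦m⟧' = x n) →
      ∃ y : G ⟶ L⟦m⟧, ∀ n, y ≫ (a n)⟦m⟧' = x n) ∧
    (CohCx.LimOneIsZero (fun n => G ⟶ (K n)⟦m - 1⟧)
        (fun n => Preadditive.rightComp G ((t n)⟦m - 1⟧')) →
      ∀ y : G ⟶ L⟦m⟧, (∀ n, y ≫ (a n)⟦m⟧' = 0) → y = 0) := by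
  obtain ⟨c, hc⟩ := hL
  obtain ⟨Tri, hTri⟩ : ∃ Tri : Triangle T, Tri = Triangle.mk (Pi.lift a) (β K t) c := ⟨_, rfl⟩
  have hT : Tri ∈ distTriang T := by rw [hTri]; exact hc
  constructor
  · intro x hx
    obtain ⟨X, hX⟩ := shift_pi_lift K m x
    have hXβ : X ≫ (β K t)⟦m⟧' = 0 := by
      apply shift_pi_hom_ext K m
      intro n
      rw [Category.assoc, β_π_shift, Preadditive.comp_sub, ← Category.assoc, hX, hX, hx,
        sub_self, zero_comp]
    have hex := (preadditiveCoyoneda.obj (op G)).homologySequence_exact₂ Tri hT m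
    rw [ShortComplex.ab_exact_iff] at hex
    subst hTri
    obtain ⟨y, hy⟩ := hex X hXβ
    have hy' : y ≫ (Pi.lift a)⟦m⟧' = X := hy
    refine ⟨y, fun n => ?_⟩
    rw [← hX n, ← hy', Category.assoc, ← CategoryTheory.Functor.map_comp, Pi.lift_π]
    rfl
  · intro hlim y hy
    have hyα : y ≫ (Pi.lift a)⟦m⟧' = 0 := by
      apply shift_pi_hom_ext K m
      intro n
      rw [Category.assoc, ← CategoryTheory.Functor.map_comp, Pi.lift_π, hy n, zero_comp]
    have hex := (preadditiveCoyoneda.obj (op G)).homologySequence_exact₁ Tri hT (m - 1) m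
      (by omega)
    rw [ShortComplex.ab_exact_iff] at hex
    have hcomp := (preadditiveCoyoneda.obj (op G)).comp_homologySequenceδ Tri hT (m - 1) m
      (by omega)
    subst hTri
    obtain ⟨z, hz⟩ := hex y hyα
    obtain ⟨w, hw⟩ := hlim (fun n => z ≫ (Pi.π K n)⟦m - 1⟧')
    obtain ⟨W, hW⟩ := shift_pi_lift K (m - 1) w
    have hWz : W ≫ (β K t)⟦m - 1⟧' = z := by
      apply shift_pi_hom_ext K (m - 1)
      intro n
      rw [Category.assoc, β_π_shift, Preadditive.comp_sub, ← Category.assoc, hW, hW]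
      exact congrFun hw n
    rw [← hz, ← hWz]
    exact congrArg (fun f => f.hom W) hcomp

end Groth.Agent.Lib.RlimHom
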