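import Mathlib
import Groth.Prelude.Def_CohCx
import Groth.Prelude.Def_FreeSh
import Groth.Agent.Lib.HDSheaf_helper7
import Groth.Agent.Lib.RlimHom_helper2

/-!
# Injectivity of `H^m(R lim K_n) → H^m(K_{n₀})` on sections (helper7)
-/

set_option autoImplicit false
universe v' u' u
open CategoryTheory CategoryTheory.Limits Opposite DerivedCategory Pretriangulated

namespace Groth.Agent.Lib.RlimInj_helper7

open Groth.Agent.Lib Groth.Agent.Lib.HDSheaf_helper7 Groth.Agent.Lib.SiteCmpLoc_helper7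

/-! ### The core vanishing lemma in a pretriangulated category -/

section core

variable {T : Type u'} [Category.{v'} T] [Preadditive T] [HasZeroObject T] [HasShift T ℤ]
  [∀ n : ℤ, (shiftFunctor T n).Additive] [Pretriangulated T]
  (K : ℕ → T) (t : ∀ n, K (n + 1) ⟶ K n) [HasProduct K] (L : T) (a : ∀ n, L ⟶ K n)

include t in
lemma a_compat (hL : CohCx.IsRlimVia K t L a) (n : ℕ) : a (n + 1) ≫ t n = a n := by
  obtain ⟨c, hc⟩ := hL
  have h0 : Pi.lift a ≫ (Pi.lift fun n => Pi.π K n - Pi.π K (n + 1) ≫ t n) = 0 :=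
    comp_distTriang_mor_zero₁₂ _ hc
  have h1 := congrArg (fun φ => φ ≫ Pi.π K n) h0
  simp only [Category.assoc, Pi.lift_π, Preadditive.comp_sub, Pi.lift_π_assoc, zero_comp,
    sub_eq_zero] at h1
  exact h1.symm

lemma a_transition (hL : CohCx.IsRlimVia K t L a) (n₀ : ℕ) :
    ∀ k : ℕ, a (n₀ + k) ≫ CohCx.transition K t n₀ k = a n₀
  | 0 => by
    show a n₀ ≫ 𝟙 _ = a n₀
    exact Category.comp_id _
  | k + 1 => by
    show a (n₀ + k + 1) ≫ t (n₀ + k) ≫ CohCx.transition K t n₀ k = a n₀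
    rw [← Category.assoc, a_compat K t L a hL, a_transition hL n₀ k]

theorem core (hL : CohCx.IsRlimVia K t L a) (G : T) (m : ℤ) (n₀ : ℕ)
    (h1 : CohCx.LimOneIsZero (fun n => G ⟶ (K n)⟦m - 1⟧)
      (fun n => Preadditive.rightComp G ((t n)⟦m - 1⟧')))
    (h2 : ∀ k : ℕ, Function.Injective
      (Preadditive.rightComp G ((CohCx.transition K t n₀ k)⟦m⟧') :
        (G ⟶ (K (n₀ + k))⟦m⟧) → (G ⟶ (K n₀)⟦m⟧)))
    (σ : G ⟶ L⟦m⟧) (hσ : σ ≫ (a n₀)⟦m⟧' = 0) : σ = 0 := by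
  apply (Groth.Agent.Lib.RlimHom.main K t L a hL G m).2 h1 σ
  have hup : ∀ k : ℕ, σ ≫ (a (n₀ + k))⟦m⟧' = 0 := by
    intro k
    apply h2 k
    show (σ ≫ (a (n₀ + k))⟦m⟧') ≫ (CohCx.transition K t n₀ k)⟦m⟧' =
      0 ≫ (CohCx.transition K t n₀ k)⟦m⟧'
    rw [Category.assoc, ← Functor.map_comp, a_transition K t L a hL n₀ k, hσ, zero_comp]
  have hdown : ∀ d n : ℕ, n + d = n₀ → σ ≫ (a n)⟦m⟧' = 0 := by
    intro d
    induction d with
    | zero =>
      intro n hn
      obtain rfl : n = n₀ := by omega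
      exact hσ
    | succ d ih =>
      intro n hn
      have h3 := ih (n + 1) (by omega)
      rw [← a_compat K t L a hL n, Functor.map_comp, ← Category.assoc, h3, zero_comp]
  intro n
  rcases le_total n n₀ with h | h
  · exact hdown (n₀ - n) n (by omega)
  · obtain ⟨k, rfl⟩ := Nat.exists_eq_add_of_le h
    exact hup k

end core

/-! ### Sheaf-theoretic part -/

variable {C : Type u} [SmallCategory C] {J : GrothendieckTopology C}
  [HasDerivedCategory.{u} (Sheaf J AddCommGrpCat.{u})]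

lemma eq_zero_of_cover (F : Sheaf J AddCommGrpCat.{u}) {V : C} (S : Sieve V) (hS : S ∈ J V)
    (s : F.obj.obj (op V))
    (h : ∀ ⦃W : C⦄ (g : W ⟶ V), S g → (F.obj.map g.op).hom s = 0) : s = 0 := by
  have h1 : Presheaf.IsSheaf J (F.obj ⋙ forget AddCommGrpCat.{u}) :=
    (Presheaf.isSheaf_iff_isSheaf_forget J F.obj (forget AddCommGrpCat.{u})).1 F.property
  have h2 : Presieve.IsSheaf J (F.obj ⋙ forget AddCommGrpCat.{u}) :=
    (isSheaf_iff_isSheaf_of_type _ _).1 h1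
  refine (h2 S hS).isSeparatedFor.ext (fun W g hg => ?_)
  exact (h g hg).trans (map_zero (F.obj.map g.op).hom).symm

lemma etaApp_comp {M M' : DerivedCategory (Sheaf J AddCommGrpCat.{u})} (β : M ⟶ M') (U : C)
    (φ : (singleFunctor (Sheaf J AddCommGrpCat.{u}) 0).obj (Z J U) ⟶ M) :
    etaApp M' U (φ ≫ β) =
      (((homologyFunctor (Sheaf J AddCommGrpCat.{u}) 0).map β).hom.app (op U)).hom
        (etaApp M U φ) := by
  rw [etaApp_apply, etaApp_apply, Functor.map_comp, ← Category.assoc]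
  rfl

lemma locSurj (M : DerivedCategory (Sheaf J AddCommGrpCat.{u})) (U : C)
    (s : ((homologyFunctor (Sheaf J AddCommGrpCat.{u}) 0).obj M).obj.obj (op U)) :
    ∃ S ∈ J U, ∀ ⦃V : C⦄ (i : V ⟶ U), S i →
      ∃ σ : (singleFunctor (Sheaf J AddCommGrpCat.{u}) 0).obj (Z J V) ⟶ M,
        etaApp M V σ =
          (((homologyFunctor (Sheaf J AddCommGrpCat.{u}) 0).obj M).obj.map i.op).hom s := by
  let L' := (Q : CochainComplex (Sheaf J AddCommGrpCat.{u}) ℤ ⥤ _).objPreimage M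
  let e : Q.obj L' ≅ M := Q.objObjPreimageIso M
  let s₀ := (((homologyFunctor (Sheaf J AddCommGrpCat.{u}) 0).map e.inv).hom.app (op U)).hom s
  have hmem := (eta_locSurj L').imageSieve_mem s₀
  refine ⟨_, hmem, fun V i hi => ?_⟩
  obtain ⟨σ₀, hσ₀⟩ := hi
  have hσ₀' : etaApp (Q.obj L') V σ₀ =
      (((homologyFunctor (Sheaf J AddCommGrpCat.{u}) 0).obj (Q.obj L')).obj.map i.op).hom s₀ :=
    hσ₀
  refine ⟨σ₀ ≫ e.hom, ?_⟩
  rw [etaApp_comp, hσ₀']
  have hnat := ConcreteCategory.congr_hom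
    (((homologyFunctor (Sheaf J AddCommGrpCat.{u}) 0).map e.hom).hom.naturality i.op) s₀
  refine hnat.trans ?_
  have hid : (homologyFunctor (Sheaf J AddCommGrpCat.{u}) 0).map e.inv ≫
      (homologyFunctor (Sheaf J AddCommGrpCat.{u}) 0).map e.hom = 𝟙 _ := by
    rw [← CategoryTheory.Functor.map_comp, e.inv_hom_id, CategoryTheory.Functor.map_id]
  have hid' := congrArg (fun κ => (κ.hom.app (op U)).hom s) hid
  exact congrArg (((homologyFunctor (Sheaf J AddCommGrpCat.{u}) 0).obj M).obj.map i.op).hom hid'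

lemma locKer (M : DerivedCategory (Sheaf J AddCommGrpCat.{u})) (U : C)
    (σ : (singleFunctor (Sheaf J AddCommGrpCat.{u}) 0).obj (Z J U) ⟶ M)
    (h : etaApp M U σ = 0) :
    ∃ S ∈ J U, ∀ ⦃V : C⦄ (i : V ⟶ U), S i →
      (singleFunctor (Sheaf J AddCommGrpCat.{u}) 0).map ((RpushSite.frF J).map i) ≫ σ = 0 := by
  let L' := (Q : CochainComplex (Sheaf J AddCommGrpCat.{u}) ℤ ⥤ _).objPreimage M
  let e : Q.obj L' ≅ M := Q.objObjPreimageIso M
  have h0 : etaApp (Q.obj L') U (σ ≫ e.inv) = 0 := by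
    rw [etaApp_comp, h, map_zero]
  obtain ⟨S, hS, hS'⟩ := eta_ker L' U (σ ≫ e.inv) h0
  refine ⟨S, hS, fun V i hi => ?_⟩
  have h1 := hS' i hi
  have h2 : (singleFunctor (Sheaf J AddCommGrpCat.{u}) 0).map ((RpushSite.frF J).map i) ≫ σ =
      ((singleFunctor (Sheaf J AddCommGrpCat.{u}) 0).map ((RpushSite.frF J).map i) ≫
        σ ≫ e.inv) ≫ e.hom := by simp
  rw [h2, h1, zero_comp]

/-- the key statement for `H⁰` -/
theorem inj_H0 {M M' : DerivedCategory (Sheaf J AddCommGrpCat.{u})} (α : M ⟶ M') (V : C)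
    (hkey : ∀ T ∈ J V, ∃ (ι : Type u) (Y : ι → C) (f : ∀ i, Y i ⟶ V), (∀ i, T.arrows (f i)) ∧
      Sieve.ofArrows Y f ∈ J V ∧ ∀ i,
        ∀ σ : (singleFunctor (Sheaf J AddCommGrpCat.{u}) 0).obj (Z J (Y i)) ⟶ M,
          σ ≫ α = 0 → σ = 0)
    (s : ((homologyFunctor (Sheaf J AddCommGrpCat.{u}) 0).obj M).obj.obj (op V))
    (hs : (((homologyFunctor (Sheaf J AddCommGrpCat.{u}) 0).map α).hom.app (op V)).hom s = 0) :
    s = 0 := by
  let T : Sieve V :=
    { arrows := fun W g => ∃ σ : (singleFunctor (Sheaf J AddCommGrpCat.{u}) 0).obj (Z J W) ⟶ M,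
        etaApp M W σ =
          (((homologyFunctor (Sheaf J AddCommGrpCat.{u}) 0).obj M).obj.map g.op).hom s ∧
        σ ≫ α = 0
      downward_closed := by
        rintro W W' g ⟨σ, h1, h2⟩ g'
        refine ⟨(singleFunctor (Sheaf J AddCommGrpCat.{u}) 0).map ((RpushSite.frF J).map g') ≫ σ,
          ?_, ?_⟩
        · rw [etaApp_naturality, h1]
          exact (ConcreteCategory.congr_hom
            (((homologyFunctor (Sheaf J AddCommGrpCat.{u}) 0).obj M).obj.map_comp g.op g'.op)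
            s).symm
        · rw [Category.assoc, h2, comp_zero] }
  have hT : T ∈ J V := by
    obtain ⟨S₁, hS₁, hS₁'⟩ := locSurj M V s
    refine J.transitive hS₁ T (fun W g hg => ?_)
    obtain ⟨σ, hσ⟩ := hS₁' g hg
    have h0 : etaApp M' W (σ ≫ α) = 0 := by
      rw [etaApp_comp, hσ]
      have hnat := ConcreteCategory.congr_hom
        (((homologyFunctor (Sheaf J AddCommGrpCat.{u}) 0).map α).hom.naturality g.op) s
      refine hnat.trans ?_
      exact (congrArg (((homologyFunctor (Sheaf J AddCommGrpCat.{u}) 0).obj M').obj.map g.op).hom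
        hs).trans (map_zero _)
    obtain ⟨S₂, hS₂, hS₂'⟩ := locKer M' W (σ ≫ α) h0
    refine J.superset_covering ?_ hS₂
    intro W' g' hg'
    refine ⟨(singleFunctor (Sheaf J AddCommGrpCat.{u}) 0).map ((RpushSite.frF J).map g') ≫ σ,
      ?_, ?_⟩
    · rw [etaApp_naturality, hσ]
      exact (ConcreteCategory.congr_hom
        (((homologyFunctor (Sheaf J AddCommGrpCat.{u}) 0).obj M).obj.map_comp g.op g'.op)
        s).symm
    · rw [Category.assoc]
      exact hS₂' g' hg'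
  obtain ⟨ι, Y, f, hfT, hcov, hY⟩ := hkey T hT
  apply eq_zero_of_cover _ (Sieve.ofArrows Y f) hcov s
  intro W g hg
  obtain ⟨i, b, rfl⟩ := (Sieve.mem_ofArrows_iff _ _ g).1 hg
  obtain ⟨σ, hσ1, hσ2⟩ := hfT i
  have hσ0 : σ = 0 := hY i σ hσ2
  have h1 : (((homologyFunctor (Sheaf J AddCommGrpCat.{u}) 0).obj M).obj.map (f i).op).hom s
      = 0 := by
    rw [← hσ1, hσ0, map_zero]
  have h2 := ConcreteCategory.congr_hom
    (((homologyFunctor (Sheaf J AddCommGrpCat.{u}) 0).obj M).obj.map_comp (f i).op b.op) s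
  refine h2.trans ?_
  exact (congrArg (((homologyFunctor (Sheaf J AddCommGrpCat.{u}) 0).obj M).obj.map b.op).hom
    h1).trans (map_zero _)

theorem main0880
    (K : ℕ → DerivedCategory (Sheaf J AddCommGrpCat.{u})) (t : ∀ n, K (n + 1) ⟶ K n) [HasProduct K]
    (L : DerivedCategory (Sheaf J AddCommGrpCat.{u})) (a : ∀ n, L ⟶ K n)
    (hL : CohCx.IsRlimVia K t L a)
    (V : C) (m : ℤ) (nV : ℕ)
    (h : ∀ T ∈ J V, ∃ (ι : Type u) (Y : ι → C) (f : ∀ i, Y i ⟶ V), (∀ i, T.arrows (f i)) ∧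
      Sieve.ofArrows Y f ∈ J V ∧ ∀ i,
        CohCx.LimOneIsZero (fun n => CohCx.HDU (K n) (m - 1) (Y i))
          (fun n => Preadditive.rightComp _ ((shiftFunctor _ (m - 1)).map (t n))) ∧
        ∀ k : ℕ, Function.Injective
          (Preadditive.rightComp _ ((shiftFunctor _ m).map (CohCx.transition K t nV k)) :
            CohCx.HDU (K (nV + k)) m (Y i) → CohCx.HDU (K nV) m (Y i))) :
    Function.Injective (((DerivedCategory.homologyFunctor _ m).map (a nV)).hom.app (op V)) := by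
  let E := (homologyFunctor (Sheaf J AddCommGrpCat.{u}) 0).shiftIso m 0 m (add_zero m)
  have hkey : ∀ T ∈ J V, ∃ (ι : Type u) (Y : ι → C) (f : ∀ i, Y i ⟶ V), (∀ i, T.arrows (f i)) ∧
      Sieve.ofArrows Y f ∈ J V ∧ ∀ i,
        ∀ σ : (singleFunctor (Sheaf J AddCommGrpCat.{u}) 0).obj (Z J (Y i)) ⟶ L⟦m⟧,
          σ ≫ (a nV)⟦m⟧' = 0 → σ = 0 := by
    intro T hT
    obtain ⟨ι, Y, f, h1, h2, h3⟩ := h T hT
    exact ⟨ι, Y, f, h1, h2, fun i σ hσ => core K t L a hL _ m nV (h3 i).1 (h3 i).2 σ hσ⟩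
  have hnat : (homologyFunctor (Sheaf J AddCommGrpCat.{u}) 0).map ((a nV)⟦m⟧') ≫ E.hom.app (K nV) =
      E.hom.app L ≫ (homologyFunctor (Sheaf J AddCommGrpCat.{u}) m).map (a nV) :=
    E.hom.naturality (a nV)
  let φ := ((homologyFunctor (Sheaf J AddCommGrpCat.{u}) m).map (a nV)).hom.app (op V)
  let ψ := ((homologyFunctor (Sheaf J AddCommGrpCat.{u}) 0).map ((a nV)⟦m⟧')).hom.app (op V)
  have hcomm : ψ ≫ (E.hom.app (K nV)).hom.app (op V) = (E.hom.app L).hom.app (op V) ≫ φ :=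
    congrArg (fun κ => κ.hom.app (op V)) hnat
  haveI hψ : Mono ψ := by
    rw [AddCommGrpCat.mono_iff_injective]
    refine (injective_iff_map_eq_zero ψ.hom).2 ?_
    intro x hx
    exact inj_H0 ((a nV)⟦m⟧') V hkey x hx
  haveI hisoL : IsIso ((E.hom.app L).hom.app (op V)) := by
    refine ⟨(E.inv.app L).hom.app (op V), ?_, ?_⟩
    · exact congrArg (fun κ => κ.hom.app (op V)) (E.hom_inv_id_app L)
    · exact congrArg (fun κ => κ.hom.app (op V)) (E.inv_hom_id_app L)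
  haveI hisoK : IsIso ((E.hom.app (K nV)).hom.app (op V)) := by
    refine ⟨(E.inv.app (K nV)).hom.app (op V), ?_, ?_⟩
    · exact congrArg (fun κ => κ.hom.app (op V)) (E.hom_inv_id_app (K nV))
    · exact congrArg (fun κ => κ.hom.app (op V)) (E.inv_hom_id_app (K nV))
  haveI hmK : Mono ((E.hom.app (K nV)).hom.app (op V)) := @IsIso.mono_of_iso _ _ _ _ _ hisoK
  haveI hm1 : Mono (ψ ≫ (E.hom.app (K nV)).hom.app (op V)) := @mono_comp _ _ _ _ _ ψ hψ _ hmK
  rw [hcomm] at hm1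
  have hm2 : Mono φ := by
    have : φ = inv ((E.hom.app L).hom.app (op V)) ≫ ((E.hom.app L).hom.app (op V) ≫ φ) := by
      rw [IsIso.inv_hom_id_assoc]
    rw [this]
    haveI hmL : Mono (inv ((E.hom.app L).hom.app (op V))) := @IsIso.mono_of_iso _ _ _ _ _ inferInstance
    exact @mono_comp _ _ _ _ _ _ hmL _ hm1
  exact (AddCommGrpCat.mono_iff_injective φ).1 hm2

end Groth.Agent.Lib.RlimInj_helper7
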