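import Mathlib
import Groth.Prelude.Def_CohCx
import Groth.Prelude.Def_FreeSh
import Groth.Prelude.Def_CohTop
import Groth.Agent.Lib.RlimInj_helper7

/-!
# Injectivity of `H^m(R lim K_n)_x → H^m(K_{n₀})_x` on stalks (helper7)
-/

set_option autoImplicit false
universe u
open CategoryTheory CategoryTheory.Limits Opposite DerivedCategory Pretriangulated TopologicalSpace

namespace Groth.Agent.Lib.RlimInjTop_helper7

open Groth.Agent.Lib Groth.Agent.Lib.HDSheaf_helper7 Groth.Agent.Lib.SiteCmpLoc_helper7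
  Groth.Agent.Lib.RlimInj_helper7

section site

variable {C : Type u} [SmallCategory C] {J : GrothendieckTopology C}
  [HasDerivedCategory.{u} (Sheaf J AddCommGrpCat.{u})]

lemma exists_sieve {M M' : DerivedCategory (Sheaf J AddCommGrpCat.{u})} (α : M ⟶ M') (V : C)
    (s : ((homologyFunctor (Sheaf J AddCommGrpCat.{u}) 0).obj M).obj.obj (op V))
    (hs : (((homologyFunctor (Sheaf J AddCommGrpCat.{u}) 0).map α).hom.app (op V)).hom s = 0) :
    ∃ T ∈ J V, ∀ ⦃W : C⦄ (g : W ⟶ V), T g →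
      ∃ σ : (singleFunctor (Sheaf J AddCommGrpCat.{u}) 0).obj (Z J W) ⟶ M,
        etaApp M W σ =
          (((homologyFunctor (Sheaf J AddCommGrpCat.{u}) 0).obj M).obj.map g.op).hom s ∧
        σ ≫ α = 0 := by
  let T : Sieve V :=
    { arrows := fun W g => ∃ σ : (singleFunctor (Sheaf J AddCommGrpCat.{u}) 0).obj (Z J W) ⟶ M,
        etaApp M W σ =
          (((homologyFunctor (Sheaf J AddCommGrpCat.{u}) 0).obj M).obj.map g.op).hom s ∧
        σ ≫ α = 0
      downward_closed := by
        rintro W W' g ⟨σ, h1, h2⟩ g'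
        refine ⟨(singleFunctor (Sheaf J AddCommGrpCat.{u}) 0).map ((RpushSite.frF J).map g') ≫ σ,
          ?_, ?_⟩
        · rw [etaApp_naturality, h1]
          exact (ConcreteCategory.congr_hom
            (((homologyFunctor (Sheaf J AddCommGrpCat.{u}) 0).obj M).obj.map_comp g.op g'.op)
            s).symm
        · rw [Category.assoc, h2, comp_zero] }
  have hT : T ∈ J V := by
    obtain ⟨S₁, hS₁, hS₁'⟩ := locSurj M V s
    refine J.transitive hS₁ T (fun W g hg => ?_)
    obtain ⟨σ, hσ⟩ := hS₁' g hg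
    have h0 : etaApp M' W (σ ≫ α) = 0 := by
      rw [etaApp_comp, hσ]
      have hnat := ConcreteCategory.congr_hom
        (((homologyFunctor (Sheaf J AddCommGrpCat.{u}) 0).map α).hom.naturality g.op) s
      refine hnat.trans ?_
      exact (congrArg (((homologyFunctor (Sheaf J AddCommGrpCat.{u}) 0).obj M').obj.map g.op).hom
        hs).trans (map_zero _)
    obtain ⟨S₂, hS₂, hS₂'⟩ := locKer M' W (σ ≫ α) h0
    refine J.superset_covering ?_ hS₂
    intro W' g' hg'
    refine ⟨(singleFunctor (Sheaf J AddCommGrpCat.{u}) 0).map ((RpushSite.frF J).map g') ≫ σ,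
      ?_, ?_⟩
    · rw [etaApp_naturality, hσ]
      exact (ConcreteCategory.congr_hom
        (((homologyFunctor (Sheaf J AddCommGrpCat.{u}) 0).obj M).obj.map_comp g.op g'.op)
        s).symm
    · rw [Category.assoc]
      exact hS₂' g' hg'
  exact ⟨T, hT, fun W g hg => hg⟩

end site

section top

variable {X : TopCat.{u}}
  [HasDerivedCategory.{u} (Sheaf (Opens.grothendieckTopology X) AddCommGrpCat.{u})]

theorem stalk_inj_H0
    {M M' : DerivedCategory (Sheaf (Opens.grothendieckTopology X) AddCommGrpCat.{u})}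
    (α : M ⟶ M') (x : X)
    (hkey : ∀ V : Opens X, x ∈ V → ∃ U : Opens X, x ∈ U ∧ U ≤ V ∧
      ∀ σ : (singleFunctor (Sheaf (Opens.grothendieckTopology X) AddCommGrpCat.{u}) 0).obj
          (Z (Opens.grothendieckTopology X) U) ⟶ M, σ ≫ α = 0 → σ = 0) :
    Function.Injective ((TopCat.Presheaf.stalkFunctor AddCommGrpCat.{u} x).map
      ((homologyFunctor (Sheaf (Opens.grothendieckTopology X) AddCommGrpCat.{u}) 0).map α).hom) := by
  let A : TopCat.Presheaf AddCommGrpCat.{u} X :=
    ((homologyFunctor (Sheaf (Opens.grothendieckTopology X) AddCommGrpCat.{u}) 0).obj M).obj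
  let B : TopCat.Presheaf AddCommGrpCat.{u} X :=
    ((homologyFunctor (Sheaf (Opens.grothendieckTopology X) AddCommGrpCat.{u}) 0).obj M').obj
  let φ : A ⟶ B :=
    ((homologyFunctor (Sheaf (Opens.grothendieckTopology X) AddCommGrpCat.{u}) 0).map α).hom
  refine (injective_iff_map_eq_zero
    ((TopCat.Presheaf.stalkFunctor AddCommGrpCat.{u} x).map φ).hom).2 ?_
  intro g hg
  obtain ⟨V, hxV, s, rfl⟩ := TopCat.Presheaf.exists_germ_eq A g
  have h1 : (B.germ V x hxV).hom ((φ.app (op V)).hom s) = 0 :=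
    (TopCat.Presheaf.stalkFunctor_map_germ_apply V x hxV φ s).symm.trans hg
  have h1' : (B.germ V x hxV).hom ((φ.app (op V)).hom s) = (B.germ V x hxV).hom 0 :=
    h1.trans (map_zero (B.germ V x hxV).hom).symm
  obtain ⟨W, hxW, iU, iV, hW⟩ := TopCat.Presheaf.germ_eq B x hxV hxV _ _ h1'
  have hs' : ((φ.app (op W)).hom) ((A.map iU.op).hom s) = 0 := by
    have hnat := ConcreteCategory.congr_hom (φ.naturality iU.op) s
    exact hnat.trans (hW.trans (map_zero (B.map iV.op).hom))
  obtain ⟨T, hT, hT'⟩ := exists_sieve α W ((A.map iU.op).hom s) hs'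
  obtain ⟨W', g, hg', hxW'⟩ := hT x hxW
  obtain ⟨σ, hσ1, hσ2⟩ := hT' g hg'
  obtain ⟨U, hxU, hUW', hU⟩ := hkey W' hxW'
  have hσU : (singleFunctor (Sheaf (Opens.grothendieckTopology X) AddCommGrpCat.{u}) 0).map
      ((RpushSite.frF (Opens.grothendieckTopology X)).map (homOfLE hUW')) ≫ σ = 0 :=
    hU _ (by rw [Category.assoc, hσ2, comp_zero])
  have h2 : (A.map (homOfLE hUW').op).hom ((A.map g.op).hom ((A.map iU.op).hom s)) = 0 := by
    have h3 := etaApp_naturality M (homOfLE hUW') σ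
    rw [hσU, hσ1] at h3
    exact h3.symm.trans (map_zero _)
  have e1 := TopCat.Presheaf.germ_res_apply A iU x hxW s
  have e2 := TopCat.Presheaf.germ_res_apply A g x hxW' ((A.map iU.op).hom s)
  have e3 := TopCat.Presheaf.germ_res_apply A (homOfLE hUW') x hxU
    ((A.map g.op).hom ((A.map iU.op).hom s))
  refine e1.symm.trans (e2.symm.trans (e3.symm.trans ?_))
  exact (congrArg (A.germ U x hxU).hom h2).trans (map_zero (A.germ U x hxU).hom)

theorem main0874
    (K : ℕ → DerivedCategory (Sheaf (Opens.grothendieckTopology X) AddCommGrpCat.{u}))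
    (t : ∀ n, K (n + 1) ⟶ K n) [HasProduct K]
    (L : DerivedCategory (Sheaf (Opens.grothendieckTopology X) AddCommGrpCat.{u}))
    (a : ∀ n, L ⟶ K n) (hL : CohCx.IsRlimVia K t L a)
    (x : X) (m : ℤ) (nx : ℕ)
    (h : ∀ V : Opens X, x ∈ V → ∃ U : Opens X, x ∈ U ∧ U ≤ V ∧
      CohCx.LimOneIsZero (fun n => CohCx.HDU (K n) (m - 1) U)
        (fun n => Preadditive.rightComp _ ((shiftFunctor _ (m - 1)).map (t n))) ∧
      ∀ k : ℕ, Function.Injective
        (Preadditive.rightComp _ ((shiftFunctor _ m).map (CohCx.transition K t nx k)) :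
          CohCx.HDU (K (nx + k)) m U → CohCx.HDU (K nx) m U)) :
    Function.Injective ((TopCat.Presheaf.stalkFunctor AddCommGrpCat.{u} x).map
      ((DerivedCategory.homologyFunctor
        (Sheaf (Opens.grothendieckTopology X) AddCommGrpCat.{u}) m).map (a nx)).hom) := by
  let E := (homologyFunctor (Sheaf (Opens.grothendieckTopology X) AddCommGrpCat.{u}) 0).shiftIso
    m 0 m (add_zero m)
  have hkey : ∀ V : Opens X, x ∈ V → ∃ U : Opens X, x ∈ U ∧ U ≤ V ∧
      ∀ σ : (singleFunctor (Sheaf (Opens.grothendieckTopology X) AddCommGrpCat.{u}) 0).obj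
          (Z (Opens.grothendieckTopology X) U) ⟶ L⟦m⟧, σ ≫ (a nx)⟦m⟧' = 0 → σ = 0 := by
    intro V hV
    obtain ⟨U, h1, h2, h3, h4⟩ := h V hV
    exact ⟨U, h1, h2, fun σ hσ => core K t L a hL _ m nx h3 h4 σ hσ⟩
  have hψ := stalk_inj_H0 ((a nx)⟦m⟧') x hkey
  let S := TopCat.Presheaf.stalkFunctor AddCommGrpCat.{u} x
  have hnat : (homologyFunctor (Sheaf (Opens.grothendieckTopology X) AddCommGrpCat.{u}) 0).map
        ((a nx)⟦m⟧') ≫ E.hom.app (K nx) =
      E.hom.app L ≫
        (homologyFunctor (Sheaf (Opens.grothendieckTopology X) AddCommGrpCat.{u}) m).map (a nx) :=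
    E.hom.naturality (a nx)
  let ψ := S.map ((homologyFunctor (Sheaf (Opens.grothendieckTopology X) AddCommGrpCat.{u}) 0).map
        ((a nx)⟦m⟧')).hom
  let φ := S.map ((homologyFunctor (Sheaf (Opens.grothendieckTopology X)
        AddCommGrpCat.{u}) m).map (a nx)).hom
  let eK := S.map (E.hom.app (K nx)).hom
  let eKi := S.map (E.inv.app (K nx)).hom
  let eL := S.map (E.hom.app L).hom
  let eLi := S.map (E.inv.app L).hom
  have hcomm : ψ ≫ eK = eL ≫ φ :=
    (S.map_comp _ _).symm.trans ((congrArg (fun κ => S.map κ.hom) hnat).trans (S.map_comp _ _))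
  have hKinv : eK ≫ eKi = 𝟙 _ :=
    (S.map_comp _ _).symm.trans
      ((congrArg (fun κ => S.map κ.hom) (E.hom_inv_id_app (K nx))).trans (S.map_id _))
  have hLinv : eLi ≫ eL = 𝟙 _ :=
    (S.map_comp _ _).symm.trans
      ((congrArg (fun κ => S.map κ.hom) (E.inv_hom_id_app L)).trans (S.map_id _))
  haveI hmψ : Mono ψ := (AddCommGrpCat.mono_iff_injective ψ).2 hψ
  haveI hmK : Mono eK := mono_of_mono_fac (h := 𝟙 _) hKinv
  haveI hmLi : Mono eLi := mono_of_mono_fac (h := 𝟙 _) hLinv
  have hm1 : Mono (eL ≫ φ) := by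
    rw [← hcomm]
    exact @mono_comp _ _ _ _ _ ψ hmψ _ hmK
  have hφ : φ = eLi ≫ (eL ≫ φ) := by
    rw [← Category.assoc, hLinv, Category.id_comp]
  have hm2 : Mono φ := by
    rw [hφ]
    exact @mono_comp _ _ _ _ _ eLi hmLi _ hm1
  exact (AddCommGrpCat.mono_iff_injective φ).1 hm2

end top

end Groth.Agent.Lib.RlimInjTop_helper7
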