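import Mathlib
import Groth.Prelude.Def_CohCx

/-!
# The tower of truncations `τ_{≥ -n} E` in a derived category (helper7)

* `limOne_of_eventually_surj`: an inverse system of abelian groups with eventually surjective
  transition maps has vanishing `R¹lim`.
* `isIso_homology_truncGEπ`: `H^i(E) → H^i(τ_{≥a}E)` is an isomorphism for `i ≥ a`.
* `exists_fiber`: the fibre of `τ_{≥-n-1}E → τ_{≥-n}E` is `H^{-n-1}(E)[n+1]`.
* `tower_step`: consequences for `Hom(Z[0], -)`.
* `isRlimVia_of_forall_isIso`: formal reduction of `E ≅ R lim τ_{≥-n}E` to an isomorphism statement.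
-/

set_option autoImplicit false
universe w'' w u
open CategoryTheory CategoryTheory.Limits Opposite DerivedCategory Pretriangulated

namespace Groth.Agent.Lib.TruncTower_helper7

section limone

theorem limOne_of_eventually_surj : ∀ (n₀ : ℕ) (A : ℕ → Type u) [∀ n, AddCommGroup (A n)]
    (t : ∀ n, A (n + 1) →+ A n), (∀ n, n₀ ≤ n → Function.Surjective (t n)) →
    CohCx.LimOneIsZero A t := by
  intro n₀
  induction n₀ with
  | zero =>
    intro A _ t hs g
    choose pre hpre using fun n => hs n (Nat.zero_le n)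
    let a : ∀ n, A n := fun n =>
      Nat.rec (motive := fun n => A n) 0 (fun n an => pre n (an - g n)) n
    refine ⟨a, ?_⟩
    funext n
    show a n - t n (a (n + 1)) = g n
    have h1 : a (n + 1) = pre n (a n - g n) := rfl
    rw [h1, hpre]
    abel
  | succ n₀ ih =>
    intro A _ t hs g
    obtain ⟨a', ha'⟩ := ih (fun n => A (n + 1)) (fun n => t (n + 1))
      (fun n hn => hs (n + 1) (by omega)) (fun n => g (n + 1))
    let a : ∀ n, A n := fun n =>
      Nat.rec (motive := fun n => A n) (g 0 + t 0 (a' 0)) (fun n _ => a' n) n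
    refine ⟨a, ?_⟩
    funext n
    cases n with
    | zero =>
      show (g 0 + t 0 (a' 0)) - t 0 (a' 0) = g 0
      abel
    | succ n => exact congrFun ha' n

end limone

section trunc

variable {A : Type (u + 1)} [Category.{u} A] [Abelian A] [HasDerivedCategory.{w} A]

/-- the canonical t-structure -/
noncomputable abbrev tS : Triangulated.TStructure (DerivedCategory A) := DerivedCategory.TStructure.t

lemma isIso_homology_truncGEπ (X : DerivedCategory A) (a i : ℤ) (h : a ≤ i) :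
    IsIso ((homologyFunctor A i).map ((tS.truncGEπ a).app X)) := by
  have hT := (tS (A := A)).triangleLTGE_distinguished a X
  have hz : ∀ j, a ≤ j → IsZero ((homologyFunctor A j).obj ((tS.truncLT a).obj X)) := fun j hj =>
    haveI : (tS (A := A)).IsLE ((tS.truncLT a).obj X) (a - 1) := inferInstance
    DerivedCategory.isZero_of_isLE _ (a - 1) j (by omega)
  haveI : Mono ((homologyFunctor A i).map ((tS.truncGEπ a).app X)) :=
    (HomologySequence.mono_homologyMap_mor₂_iff _ hT i).2 ((hz i h).eq_of_src _ _)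
  haveI : Epi ((homologyFunctor A i).map ((tS.truncGEπ a).app X)) :=
    (HomologySequence.epi_homologyMap_mor₂_iff _ hT i (i + 1) rfl).2
      ((hz (i + 1) (by omega)).eq_of_tgt _ _)
  exact isIso_of_mono_of_epi _

lemma toTruncTower_comp (E : DerivedCategory A) (n : ℕ) :
    CohCx.toTruncTower E (n + 1) ≫ CohCx.truncTowerMap E n = CohCx.toTruncTower E n :=
  (tS (A := A)).π_natTransTruncGEOfLE_app _ _ _ E

lemma isIso_homology_truncTowerMap (E : DerivedCategory A) (n : ℕ) (i : ℤ) (h : -(n : ℤ) ≤ i) :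
    IsIso ((homologyFunctor A i).map (CohCx.truncTowerMap E n)) := by
  haveI h0 : IsIso ((homologyFunctor A i).map (CohCx.toTruncTower E (n + 1))) :=
    isIso_homology_truncGEπ E (-((n + 1 : ℕ) : ℤ)) i (by push_cast; omega)
  haveI h1 : IsIso ((homologyFunctor A i).map (CohCx.toTruncTower E n)) :=
    isIso_homology_truncGEπ E (-(n : ℤ)) i h
  have h2 : (homologyFunctor A i).map (CohCx.toTruncTower E (n + 1)) ≫
      (homologyFunctor A i).map (CohCx.truncTowerMap E n) =
      (homologyFunctor A i).map (CohCx.toTruncTower E n) := by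
    rw [← CategoryTheory.Functor.map_comp, toTruncTower_comp]
  exact IsIso.of_isIso_fac_left h2

theorem exists_fiber (E : DerivedCategory A) (n : ℕ) :
    ∃ (F : DerivedCategory A) (f : F ⟶ CohCx.truncTower E (n + 1))
      (δ : CohCx.truncTower E n ⟶ F⟦(1 : ℤ)⟧) (Y : A),
      Triangle.mk f (CohCx.truncTowerMap E n) δ ∈ distTriang _ ∧
      Nonempty (F ≅ (singleFunctor A (-(n : ℤ) - 1)).obj Y) ∧
      Nonempty (Y ≅ (homologyFunctor A (-(n : ℤ) - 1)).obj E) := by
  obtain ⟨F, f, δ, hT⟩ := distinguished_cocone_triangle₁ (CohCx.truncTowerMap E n)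
  have hz0 : ∀ i : ℤ, i < -(n : ℤ) →
      IsZero ((homologyFunctor A i).obj (CohCx.truncTower E n)) := fun i hi =>
    haveI : (tS (A := A)).IsGE ((tS.truncGE (-(n : ℤ))).obj E) (-(n : ℤ)) := inferInstance
    DerivedCategory.isZero_of_isGE _ (-(n : ℤ)) i hi
  have hz1 : ∀ i : ℤ, i < -(n : ℤ) - 1 →
      IsZero ((homologyFunctor A i).obj (CohCx.truncTower E (n + 1))) := fun i hi =>
    haveI : (tS (A := A)).IsGE ((tS.truncGE (-((n + 1 : ℕ) : ℤ))).obj E) (-((n + 1 : ℕ) : ℤ)) :=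
      inferInstance
    DerivedCategory.isZero_of_isGE _ (-((n + 1 : ℕ) : ℤ)) i (by push_cast; omega)
  have hiso : ∀ i : ℤ, -(n : ℤ) ≤ i →
      IsIso ((homologyFunctor A i).map (CohCx.truncTowerMap E n)) := fun i hi =>
    isIso_homology_truncTowerMap E n i hi
  have hmono : ∀ i : ℤ, Mono ((homologyFunctor A i).map f) := by
    intro i
    refine (HomologySequence.mono_homologyMap_mor₁_iff _ hT (i - 1) i (by omega)).2 ?_
    by_cases hi' : -(n : ℤ) ≤ i - 1
    · haveI := hiso (i - 1) hi'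
      exact (HomologySequence.epi_homologyMap_mor₂_iff _ hT (i - 1) i (by omega)).1
        (inferInstance : Epi ((homologyFunctor A (i - 1)).map (CohCx.truncTowerMap E n)))
    · exact (hz0 (i - 1) (by omega)).eq_of_src _ _
  haveI hGE : F.IsGE (-(n : ℤ) - 1) := by
    refine (DerivedCategory.isGE_iff F _).2 (fun i hi => ?_)
    haveI := hmono i
    exact IsZero.of_mono ((homologyFunctor A i).map f) (hz1 i hi)
  haveI hLE : F.IsLE (-(n : ℤ) - 1) := by
    refine (DerivedCategory.isLE_iff F _).2 (fun i hi => ?_)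
    haveI := hmono i
    haveI := hiso i (by omega)
    have hzero : (homologyFunctor A i).map f = 0 :=
      (HomologySequence.mono_homologyMap_mor₂_iff _ hT i).1
        (inferInstance : Mono ((homologyFunctor A i).map (CohCx.truncTowerMap E n)))
    exact IsZero.of_mono_eq_zero _ hzero
  obtain ⟨Y, ⟨eF⟩⟩ := DerivedCategory.exists_iso_singleFunctor_obj_of_isGE_of_isLE F (-(n : ℤ) - 1)
  refine ⟨F, f, δ, Y, hT, ⟨eF⟩, ⟨?_⟩⟩
  let e1 : (homologyFunctor A (-(n : ℤ) - 1)).obj ((singleFunctor A (-(n : ℤ) - 1)).obj Y) ≅ Y :=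
    (homologyFunctorFactors A (-(n : ℤ) - 1)).app
      ((HomologicalComplex.single A (ComplexShape.up ℤ) (-(n : ℤ) - 1)).obj Y) ≪≫
    HomologicalComplex.singleObjHomologySelfIso (ComplexShape.up ℤ) (-(n : ℤ) - 1) Y
  let e2 := (homologyFunctor A (-(n : ℤ) - 1)).mapIso eF
  haveI := hmono (-(n : ℤ) - 1)
  haveI : Epi ((homologyFunctor A (-(n : ℤ) - 1)).map f) :=
    (HomologySequence.epi_homologyMap_mor₁_iff _ hT (-(n : ℤ) - 1)).2
      ((hz0 (-(n : ℤ) - 1) (by omega)).eq_of_tgt _ _)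
  haveI : IsIso ((homologyFunctor A (-(n : ℤ) - 1)).map f) := isIso_of_mono_of_epi _
  let e3 := asIso ((homologyFunctor A (-(n : ℤ) - 1)).map f)
  haveI : IsIso ((homologyFunctor A (-(n : ℤ) - 1)).map (CohCx.toTruncTower E (n + 1))) :=
    isIso_homology_truncGEπ E (-((n + 1 : ℕ) : ℤ)) (-(n : ℤ) - 1) (by push_cast; omega)
  let e4 := asIso ((homologyFunctor A (-(n : ℤ) - 1)).map (CohCx.toTruncTower E (n + 1)))
  exact e1.symm ≪≫ e2.symm ≪≫ e3 ≪≫ e4.symm

lemma subsingleton_hom_of_iso {G X X' : DerivedCategory A} (e : X ≅ X')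
    (h : Subsingleton (G ⟶ X')) : Subsingleton (G ⟶ X) :=
  ⟨fun f g => by
    have h1 := h.elim (f ≫ e.hom) (g ≫ e.hom)
    calc f = (f ≫ e.hom) ≫ e.inv := by simp
      _ = (g ≫ e.hom) ≫ e.inv := by rw [h1]
      _ = g := by simp⟩

theorem subsingleton_hom_fiber [HasExt.{w''} A] (Z H Y : A) (e : Y ≅ H) (F : DerivedCategory A)
    (a s m : ℤ) (k : ℕ) (hs : s + a = 0) (hk : s + m = (k : ℤ))
    (eF : F ≅ (singleFunctor A a).obj Y) (hvan : Subsingleton (Abelian.Ext.{w''} Z H k)) :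
    Subsingleton ((singleFunctor A 0).obj Z ⟶ F⟦m⟧) := by
  haveI := hvan
  have h0 : Subsingleton ((singleFunctor A 0).obj Z ⟶ ((singleFunctor A 0).obj H)⟦(k : ℤ)⟧) :=
    (Abelian.Ext.homEquiv (X := Z) (Y := H) (n := k)).symm.subsingleton
  have h1 : Subsingleton ((singleFunctor A 0).obj Z ⟶ ((singleFunctor A 0).obj Y)⟦(k : ℤ)⟧) :=
    subsingleton_hom_of_iso
      ((shiftFunctor (DerivedCategory A) (k : ℤ)).mapIso ((singleFunctor A 0).mapIso e)) h0
  have h2 : Subsingleton ((singleFunctor A 0).obj Z ⟶ (((singleFunctor A 0).obj Y)⟦s⟧)⟦m⟧) :=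
    subsingleton_hom_of_iso
      ((shiftFunctorAdd' (DerivedCategory A) s m (k : ℤ) hk).app
        ((singleFunctor A 0).obj Y)).symm h1
  have h3 : Subsingleton ((singleFunctor A 0).obj Z ⟶ ((singleFunctor A a).obj Y)⟦m⟧) :=
    subsingleton_hom_of_iso
      ((shiftFunctor (DerivedCategory A) m).mapIso
        (((DerivedCategory.singleFunctors A).shiftIso s a 0 hs).app Y)).symm h2
  exact subsingleton_hom_of_iso ((shiftFunctor (DerivedCategory A) m).mapIso eF) h3

theorem tower_step [HasExt.{w''} A] (E : DerivedCategory A) (n : ℕ) (Z : A) (m : ℤ) (k : ℕ)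
    (hk : (k : ℤ) = n + 1 + m) (q : ℤ) (hq : q = -(n : ℤ) - 1)
    (hvan : Subsingleton (Abelian.Ext.{w''} Z ((homologyFunctor A q).obj E) k)) :
    Function.Injective (Preadditive.rightComp ((singleFunctor A 0).obj Z)
      ((CohCx.truncTowerMap E n)⟦m⟧')) ∧
    Function.Surjective (Preadditive.rightComp ((singleFunctor A 0).obj Z)
      ((CohCx.truncTowerMap E n)⟦m - 1⟧')) := by
  subst hq
  obtain ⟨F, f, δ, Y, hT, ⟨eF⟩, ⟨eY⟩⟩ := exists_fiber E n
  have hsub : Subsingleton ((singleFunctor A 0).obj Z ⟶ F⟦m⟧) :=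
    subsingleton_hom_fiber Z _ Y eY F (-(n : ℤ) - 1) ((n : ℤ) + 1) m k (by ring) (by omega) eF hvan
  constructor
  · intro σ σ' hσ
    have hσ' : σ ≫ (CohCx.truncTowerMap E n)⟦m⟧' = σ' ≫ (CohCx.truncTowerMap E n)⟦m⟧' := hσ
    have hd : (σ - σ') ≫ (CohCx.truncTowerMap E n)⟦m⟧' = 0 := by
      rw [Preadditive.sub_comp]
      exact sub_eq_zero.2 hσ'
    have hex := (preadditiveCoyoneda.obj (op ((singleFunctor A 0).obj Z))).homologySequence_exact₂
      _ hT m
    rw [ShortComplex.ab_exact_iff] at hex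
    obtain ⟨y, hy⟩ := hex (σ - σ') hd
    let y' : (singleFunctor A 0).obj Z ⟶ F⟦m⟧ := y
    have hy' : y' ≫ f⟦m⟧' = σ - σ' := hy
    have hy0 : y' = 0 := hsub.elim _ _
    have h3 : σ - σ' = 0 :=
      hy'.symm.trans ((congrArg (fun z => z ≫ f⟦m⟧') hy0).trans zero_comp)
    exact sub_eq_zero.1 h3
  · intro τ
    have hex := (preadditiveCoyoneda.obj (op ((singleFunctor A 0).obj Z))).homologySequence_exact₃
      _ hT (m - 1) m (by omega)
    rw [ShortComplex.ab_exact_iff] at hex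
    obtain ⟨y, hy⟩ := hex τ (hsub.elim _ _)
    exact ⟨y, hy⟩

theorem isRlimVia_of_forall_isIso (E : DerivedCategory A) [HasProduct (CohCx.truncTower E)]
    (hiso : ∀ (R : DerivedCategory A) (a' : ∀ n, R ⟶ CohCx.truncTower E n),
      CohCx.IsRlimVia (CohCx.truncTower E) (CohCx.truncTowerMap E) R a' →
      ∀ φ : E ⟶ R, (∀ n, φ ≫ a' n = CohCx.toTruncTower E n) → IsIso φ) :
    CohCx.IsRlimVia (CohCx.truncTower E) (CohCx.truncTowerMap E) E (CohCx.toTruncTower E) := by
  obtain ⟨R, f, c, hT⟩ := distinguished_cocone_triangle₁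
    (Pi.lift fun n => Pi.π (CohCx.truncTower E) n -
      Pi.π (CohCx.truncTower E) (n + 1) ≫ CohCx.truncTowerMap E n)
  have hf : Pi.lift (fun n => f ≫ Pi.π (CohCx.truncTower E) n) = f := by
    apply Limits.Pi.hom_ext
    intro n
    rw [Pi.lift_π]
  have hR : CohCx.IsRlimVia (CohCx.truncTower E) (CohCx.truncTowerMap E) R
      (fun n => f ≫ Pi.π (CohCx.truncTower E) n) :=
    ⟨c, by rw [hf]; exact hT⟩
  have hπD : Pi.lift (CohCx.toTruncTower E) ≫
      (Pi.lift fun n => Pi.π (CohCx.truncTower E) n -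
        Pi.π (CohCx.truncTower E) (n + 1) ≫ CohCx.truncTowerMap E n) = 0 := by
    apply Limits.Pi.hom_ext
    intro n
    rw [Category.assoc, Pi.lift_π, Preadditive.comp_sub, Pi.lift_π, ← Category.assoc, Pi.lift_π,
      zero_comp, sub_eq_zero]
    exact (toTruncTower_comp E n).symm
  obtain ⟨φ₀, hφ₀⟩ := Triangle.coyoneda_exact₂ _ hT (Pi.lift (CohCx.toTruncTower E)) hπD
  obtain ⟨φ, hφ⟩ : ∃ φ : E ⟶ R, Pi.lift (CohCx.toTruncTower E) = φ ≫ f := ⟨φ₀, hφ₀⟩
  have hφ' : φ ≫ f = Pi.lift (CohCx.toTruncTower E) := hφ.symm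
  have hφn : ∀ n, φ ≫ (f ≫ Pi.π (CohCx.truncTower E) n) = CohCx.toTruncTower E n := fun n => by
    rw [← Category.assoc, hφ', Pi.lift_π]
  haveI hφiso : IsIso φ := hiso R _ hR φ hφn
  refine ⟨c ≫ (@inv _ _ _ _ φ hφiso)⟦(1 : ℤ)⟧', ?_⟩
  refine isomorphic_distinguished _ hT _ ?_
  refine Triangle.isoMk _ _ (@asIso _ _ _ _ φ hφiso) (Iso.refl _) (Iso.refl _) ?_ ?_ ?_
  · show Pi.lift (CohCx.toTruncTower E) ≫ 𝟙 _ = φ ≫ f
    rw [Category.comp_id]
    exact hφ
  · show (Pi.lift fun n => Pi.π (CohCx.truncTower E) n -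
      Pi.π (CohCx.truncTower E) (n + 1) ≫ CohCx.truncTowerMap E n) ≫ 𝟙 _ = 𝟙 _ ≫
      (Pi.lift fun n => Pi.π (CohCx.truncTower E) n -
        Pi.π (CohCx.truncTower E) (n + 1) ≫ CohCx.truncTowerMap E n)
    rw [Category.comp_id, Category.id_comp]
  · show (c ≫ (inv φ)⟦(1 : ℤ)⟧') ≫ φ⟦(1 : ℤ)⟧' = 𝟙 _ ≫ c
    rw [Category.id_comp, Category.assoc, ← CategoryTheory.Functor.map_comp, IsIso.inv_hom_id,
      CategoryTheory.Functor.map_id, Category.comp_id]

end trunc

end Groth.Agent.Lib.TruncTower_helper7
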