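import Mathlib
import Groth.Prelude.Def_CohCx
import Groth.Prelude.Def_FreeSh
import Groth.Prelude.Def_CohSite
import Groth.Prelude.Def_CohTop
import Groth.Agent.Lib.TruncTower_helper7
import Groth.Agent.Lib.RlimInj_helper7
import Groth.Agent.Lib.RlimInjTop_helper7

/-!
# `E ≅ R lim τ_{≥ -n} E` under local boundedness of cohomological dimension (helper7)
-/

set_option autoImplicit false
universe u
open CategoryTheory CategoryTheory.Limits Opposite DerivedCategory Pretriangulated TopologicalSpace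

namespace Groth.Agent.Lib.TruncRlim_helper7

open Groth.Agent.Lib Groth.Agent.Lib.HDSheaf_helper7 Groth.Agent.Lib.SiteCmpLoc_helper7
  Groth.Agent.Lib.RlimInj_helper7 Groth.Agent.Lib.TruncTower_helper7

section site

variable {C : Type u} [SmallCategory C] {J : GrothendieckTopology C}
  [HasDerivedCategory.{u} (Sheaf J AddCommGrpCat.{u})]

lemma bijective_of_isIso {P Q : Sheaf J AddCommGrpCat.{u}} (θ : P ⟶ Q) [IsIso θ] (V : C) :
    Function.Bijective (θ.hom.app (op V)).hom := by
  refine Function.bijective_iff_has_inverse.2 ⟨((inv θ).hom.app (op V)).hom, fun x => ?_, fun x => ?_⟩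
  · exact congrArg (fun κ => (κ.hom.app (op V)).hom x) (IsIso.hom_inv_id θ)
  · exact congrArg (fun κ => (κ.hom.app (op V)).hom x) (IsIso.inv_hom_id θ)

theorem isIso_of_bijective_on {P Q : Sheaf J AddCommGrpCat.{u}} (ψ : P ⟶ Q) (B : Set C)
    (hB : ∀ U : C, ∃ (ι : Type u) (Y : ι → C) (f : ∀ i, Y i ⟶ U),
      Sieve.ofArrows Y f ∈ J U ∧ ∀ i, Y i ∈ B)
    (h : ∀ V ∈ B, Function.Bijective (ψ.hom.app (op V)).hom) : IsIso ψ := by
  have hinj : ∀ U : C, Function.Injective (ψ.hom.app (op U)).hom := by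
    intro U
    refine (injective_iff_map_eq_zero (ψ.hom.app (op U)).hom).2 (fun s hs => ?_)
    obtain ⟨ι, Y, f, hcov, hY⟩ := hB U
    apply eq_zero_of_cover P (Sieve.ofArrows Y f) hcov s
    intro W g hg
    obtain ⟨i, b, rfl⟩ := (Sieve.mem_ofArrows_iff _ _ g).1 hg
    have h1 : (P.obj.map (f i).op).hom s = 0 := by
      apply (h (Y i) (hY i)).1
      have hnat := ConcreteCategory.congr_hom (ψ.hom.naturality (f i).op) s
      refine hnat.trans ?_
      exact ((congrArg (Q.obj.map (f i).op).hom hs).trans (map_zero _)).trans (map_zero _).symm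
    have h2 := ConcreteCategory.congr_hom (P.obj.map_comp (f i).op b.op) s
    refine h2.trans ?_
    exact (congrArg (P.obj.map b.op).hom h1).trans (map_zero _)
  haveI : Mono ψ := by
    haveI : ∀ X : Cᵒᵖ, Mono (ψ.hom.app X) := fun X =>
      (AddCommGrpCat.mono_iff_injective _).2 (hinj X.unop)
    haveI : Mono ψ.hom := NatTrans.mono_of_mono_app _
    exact Sheaf.Hom.mono_of_presheaf_mono J _ ψ
  haveI : Presheaf.IsLocallySurjective J ψ.hom := by
    refine ⟨fun {U} s => ?_⟩
    obtain ⟨ι, Y, fY, hcov, hYB⟩ := hB U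
    refine J.superset_covering ?_ hcov
    intro V g hg
    obtain ⟨i, a, rfl⟩ := (Sieve.mem_ofArrows_iff _ _ g).1 hg
    refine Sieve.downward_closed _ ?_ a
    obtain ⟨x, hx⟩ := (h (Y i) (hYB i)).2 ((Q.obj.map (fY i).op).hom s)
    exact ⟨x, hx⟩
  haveI : Epi ψ := (Sheaf.isLocallySurjective_iff_epi' _ ψ).1 inferInstance
  exact isIso_of_mono_of_epi ψ

/-- the tower step on the site: consequences of vanishing of `H^k(W, H^{m-k}E)` -/
lemma site_step (E : DerivedCategory (Sheaf J AddCommGrpCat.{u})) (W : C) (m : ℤ) (p : ℤ → ℤ)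
    (hW : ∀ (m' : ℤ) (k : ℕ), p m' < k → Subsingleton (CohSite.HU (CohCx.HD E (m' - k)) k W))
    (nV : ℕ) (hn1 : -m ≤ (nV : ℤ)) (hn2 : p m - m ≤ (nV : ℤ)) (n : ℕ) (hn : nV ≤ n) :
    Function.Injective (Preadditive.rightComp
      ((singleFunctor (Sheaf J AddCommGrpCat.{u}) 0).obj (CohCx.freeSheaf J W))
      ((CohCx.truncTowerMap E n)⟦m⟧')) ∧
    Function.Surjective (Preadditive.rightComp
      ((singleFunctor (Sheaf J AddCommGrpCat.{u}) 0).obj (CohCx.freeSheaf J W))
      ((CohCx.truncTowerMap E n)⟦m - 1⟧')) := by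
  have hk : ((((n : ℤ) + 1 + m).toNat : ℕ) : ℤ) = n + 1 + m := Int.toNat_of_nonneg (by omega)
  exact tower_step E n (CohCx.freeSheaf J W) m ((n : ℤ) + 1 + m).toNat hk
    (m - ((((n : ℤ) + 1 + m).toNat : ℕ) : ℤ)) (by omega) (hW m _ (by omega))

/-- conditions (1), (2) of the injectivity lemma from the tower step -/
lemma site_conditions (E : DerivedCategory (Sheaf J AddCommGrpCat.{u})) (W : C) (m : ℤ) (nV : ℕ)
    (hstep : ∀ n, nV ≤ n →
      Function.Injective (Preadditive.rightComp
        ((singleFunctor (Sheaf J AddCommGrpCat.{u}) 0).obj (CohCx.freeSheaf J W))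
        ((CohCx.truncTowerMap E n)⟦m⟧')) ∧
      Function.Surjective (Preadditive.rightComp
        ((singleFunctor (Sheaf J AddCommGrpCat.{u}) 0).obj (CohCx.freeSheaf J W))
        ((CohCx.truncTowerMap E n)⟦m - 1⟧'))) :
    CohCx.LimOneIsZero (fun n => CohCx.HDU (CohCx.truncTower E n) (m - 1) W)
      (fun n => Preadditive.rightComp _ ((shiftFunctor _ (m - 1)).map (CohCx.truncTowerMap E n))) ∧
    ∀ k : ℕ, Function.Injective
      (Preadditive.rightComp _ ((shiftFunctor _ m).map
        (CohCx.transition (CohCx.truncTower E) (CohCx.truncTowerMap E) nV k)) :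
        CohCx.HDU (CohCx.truncTower E (nV + k)) m W → CohCx.HDU (CohCx.truncTower E nV) m W) := by
  constructor
  · apply limOne_of_eventually_surj nV
    intro n hn
    exact (hstep n hn).2
  · intro k
    induction k with
    | zero =>
      intro σ σ' hσ
      have h0 : ∀ ρ : CohCx.HDU (CohCx.truncTower E (nV + 0)) m W,
          (Preadditive.rightComp _ ((shiftFunctor _ m).map
            (CohCx.transition (CohCx.truncTower E) (CohCx.truncTowerMap E) nV 0))) ρ = ρ := by
        intro ρ
        have e : (𝟙 (CohCx.truncTower E nV))⟦m⟧' = 𝟙 _ := CategoryTheory.Functor.map_id _ _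
        show ρ ≫ (𝟙 (CohCx.truncTower E nV))⟦m⟧' = ρ
        exact (congrArg (fun z => ρ ≫ z) e).trans (Category.comp_id ρ)
      exact (h0 σ).symm.trans (hσ.trans (h0 σ'))
    | succ k ih =>
      intro σ σ' hσ
      have hcomp : ∀ ρ : CohCx.HDU (CohCx.truncTower E (nV + (k + 1))) m W,
          (Preadditive.rightComp _ ((shiftFunctor _ m).map
            (CohCx.transition (CohCx.truncTower E) (CohCx.truncTowerMap E) nV (k + 1)))) ρ =
          (Preadditive.rightComp _ ((shiftFunctor _ m).map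
            (CohCx.transition (CohCx.truncTower E) (CohCx.truncTowerMap E) nV k)))
            (ρ ≫ (CohCx.truncTowerMap E (nV + k))⟦m⟧') := by
        intro ρ
        show ρ ≫ (CohCx.truncTowerMap E (nV + k) ≫
          CohCx.transition (CohCx.truncTower E) (CohCx.truncTowerMap E) nV k)⟦m⟧' =
          (ρ ≫ (CohCx.truncTowerMap E (nV + k))⟦m⟧') ≫
            (CohCx.transition (CohCx.truncTower E) (CohCx.truncTowerMap E) nV k)⟦m⟧'
        rw [CategoryTheory.Functor.map_comp, Category.assoc]
      have h1 := (hcomp σ).symm.trans (hσ.trans (hcomp σ'))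
      exact (hstep (nV + k) (by omega)).1 (ih h1)

theorem main0881
    (E : DerivedCategory (Sheaf J AddCommGrpCat.{u})) [HasProduct (CohCx.truncTower E)] (B : Set C)
    (hB : ∀ U : C, ∃ (ι : Type u) (Y : ι → C) (f : ∀ i, Y i ⟶ U),
      Sieve.ofArrows Y f ∈ J U ∧ ∀ i, Y i ∈ B)
    (h : ∀ V ∈ B, ∃ p : ℤ → ℤ, ∀ T ∈ J V, ∃ (ι : Type u) (Y : ι → C) (f : ∀ i, Y i ⟶ V),
      (∀ i, T.arrows (f i)) ∧ Sieve.ofArrows Y f ∈ J V ∧
      ∀ (i : ι) (m : ℤ) (k : ℕ), p m < k →
        Subsingleton (CohSite.HU (CohCx.HD E (m - k)) k (Y i))) :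
    CohCx.IsRlimVia (CohCx.truncTower E) (CohCx.truncTowerMap E) E (CohCx.toTruncTower E) := by
  apply isRlimVia_of_forall_isIso
  intro R a' hR φ hφ
  rw [DerivedCategory.isIso_iff]
  intro m
  apply isIso_of_bijective_on _ B hB
  intro V hV
  obtain ⟨p, hp⟩ := h V hV
  obtain ⟨nV, hn1, hn2⟩ : ∃ nV : ℕ, -m ≤ (nV : ℤ) ∧ p m - m ≤ (nV : ℤ) :=
    ⟨(max (-m) (p m - m)).toNat, (le_max_left _ _).trans (Int.self_le_toNat _),
      (le_max_right _ _).trans (Int.self_le_toNat _)⟩
  have hinj : Function.Injective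
      (((homologyFunctor (Sheaf J AddCommGrpCat.{u}) m).map (a' nV)).hom.app (op V)) := by
    apply main0880 (CohCx.truncTower E) (CohCx.truncTowerMap E) R a' hR V m nV
    intro T hT
    obtain ⟨ι, Y, f, hf, hcov, hvan⟩ := hp T hT
    refine ⟨ι, Y, f, hf, hcov, fun i => ?_⟩
    exact site_conditions E (Y i) m nV (fun n hn =>
      site_step E (Y i) m p (fun m' k hk => hvan i m' k hk) nV hn1 hn2 n hn)
  have hcomp : (homologyFunctor (Sheaf J AddCommGrpCat.{u}) m).map φ ≫
      (homologyFunctor (Sheaf J AddCommGrpCat.{u}) m).map (a' nV) =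
      (homologyFunctor (Sheaf J AddCommGrpCat.{u}) m).map (CohCx.toTruncTower E nV) := by
    rw [← CategoryTheory.Functor.map_comp, hφ]
  haveI hisoπ : IsIso ((homologyFunctor (Sheaf J AddCommGrpCat.{u}) m).map
      (CohCx.toTruncTower E nV)) :=
    isIso_homology_truncGEπ E (-(nV : ℤ)) m (by omega)
  have hbij := bijective_of_isIso ((homologyFunctor (Sheaf J AddCommGrpCat.{u}) m).map
      (CohCx.toTruncTower E nV)) V
  have hcompV : ∀ x, (((homologyFunctor (Sheaf J AddCommGrpCat.{u}) m).map (a' nV)).hom.app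
      (op V)).hom ((((homologyFunctor (Sheaf J AddCommGrpCat.{u}) m).map φ).hom.app (op V)).hom x) =
      (((homologyFunctor (Sheaf J AddCommGrpCat.{u}) m).map (CohCx.toTruncTower E nV)).hom.app
        (op V)).hom x :=
    fun x => congrArg (fun κ => (κ.hom.app (op V)).hom x) hcomp
  constructor
  · intro x y hxy
    have h1 := congrArg (((homologyFunctor (Sheaf J AddCommGrpCat.{u}) m).map (a' nV)).hom.app
      (op V)).hom hxy
    exact hbij.1 ((hcompV x).symm.trans (h1.trans (hcompV y)))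
  · intro y
    obtain ⟨x, hx⟩ := hbij.2 ((((homologyFunctor (Sheaf J AddCommGrpCat.{u}) m).map
      (a' nV)).hom.app (op V)).hom y)
    refine ⟨x, hinj ?_⟩
    exact (hcompV x).trans hx

end site

section top

variable {X : TopCat.{u}}
  [HasDerivedCategory.{u} (Sheaf (Opens.grothendieckTopology X) AddCommGrpCat.{u})]

theorem main0875 (E : DerivedCategory (Sheaf (Opens.grothendieckTopology X) AddCommGrpCat.{u}))
    [HasProduct (CohCx.truncTower E)]
    (h : ∀ x : X, ∃ p : ℤ → ℤ, ∀ V : Opens X, x ∈ V → ∃ U : Opens X, x ∈ U ∧ U ≤ V ∧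
      ∀ (m : ℤ) (k : ℕ), p m < k → Subsingleton (CohTop.HU (CohCx.HD E (m - k)) k U)) :
    CohCx.IsRlimVia (CohCx.truncTower E) (CohCx.truncTowerMap E) E (CohCx.toTruncTower E) := by
  apply isRlimVia_of_forall_isIso
  intro R a' hR φ hφ
  rw [DerivedCategory.isIso_iff]
  intro m
  suffices hst : ∀ x : X, IsIso ((TopCat.Presheaf.stalkFunctor AddCommGrpCat.{u} x).map
      ((homologyFunctor (Sheaf (Opens.grothendieckTopology X) AddCommGrpCat.{u}) m).map φ).hom) by
    haveI := hst
    exact TopCat.Presheaf.isIso_of_stalkFunctor_map_iso _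
  intro x
  obtain ⟨p, hp⟩ := h x
  obtain ⟨nV, hn1, hn2⟩ : ∃ nV : ℕ, -m ≤ (nV : ℤ) ∧ p m - m ≤ (nV : ℤ) :=
    ⟨(max (-m) (p m - m)).toNat, (le_max_left _ _).trans (Int.self_le_toNat _),
      (le_max_right _ _).trans (Int.self_le_toNat _)⟩
  let S := TopCat.Presheaf.stalkFunctor AddCommGrpCat.{u} x
  have hinj : Function.Injective (S.map
      ((homologyFunctor (Sheaf (Opens.grothendieckTopology X) AddCommGrpCat.{u}) m).map
        (a' nV)).hom) := by
    apply RlimInjTop_helper7.main0874 (CohCx.truncTower E) (CohCx.truncTowerMap E) R a' hR x m nV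
    intro V hV
    obtain ⟨U, hxU, hUV, hvan⟩ := hp V hV
    refine ⟨U, hxU, hUV, ?_⟩
    exact site_conditions E U m nV (fun n hn =>
      site_step E U m p (fun m' k hk => hvan m' k hk) nV hn1 hn2 n hn)
  have hcomp : (homologyFunctor (Sheaf (Opens.grothendieckTopology X) AddCommGrpCat.{u}) m).map φ ≫
      (homologyFunctor (Sheaf (Opens.grothendieckTopology X) AddCommGrpCat.{u}) m).map (a' nV) =
      (homologyFunctor (Sheaf (Opens.grothendieckTopology X) AddCommGrpCat.{u}) m).map
        (CohCx.toTruncTower E nV) := by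
    rw [← CategoryTheory.Functor.map_comp, hφ]
  haveI hisoπ : IsIso ((homologyFunctor (Sheaf (Opens.grothendieckTopology X)
      AddCommGrpCat.{u}) m).map (CohCx.toTruncTower E nV)) :=
    isIso_homology_truncGEπ E (-(nV : ℤ)) m (by omega)
  have hcompS : S.map ((homologyFunctor (Sheaf (Opens.grothendieckTopology X)
        AddCommGrpCat.{u}) m).map φ).hom ≫
      S.map ((homologyFunctor (Sheaf (Opens.grothendieckTopology X)
        AddCommGrpCat.{u}) m).map (a' nV)).hom =
      S.map ((homologyFunctor (Sheaf (Opens.grothendieckTopology X)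
        AddCommGrpCat.{u}) m).map (CohCx.toTruncTower E nV)).hom :=
    (S.map_comp _ _).symm.trans (congrArg (fun κ => S.map κ.hom) hcomp)
  haveI hisoS : IsIso (S.map ((homologyFunctor (Sheaf (Opens.grothendieckTopology X)
        AddCommGrpCat.{u}) m).map (CohCx.toTruncTower E nV)).hom) := by
    have : IsIso ((sheafToPresheaf _ _).map ((homologyFunctor (Sheaf (Opens.grothendieckTopology X)
        AddCommGrpCat.{u}) m).map (CohCx.toTruncTower E nV))) := inferInstance
    exact Functor.map_isIso S ((sheafToPresheaf _ _).map ((homologyFunctor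
      (Sheaf (Opens.grothendieckTopology X) AddCommGrpCat.{u}) m).map (CohCx.toTruncTower E nV)))
  have hbij : Function.Bijective (S.map ((homologyFunctor (Sheaf (Opens.grothendieckTopology X)
        AddCommGrpCat.{u}) m).map (CohCx.toTruncTower E nV)).hom).hom :=
    (ConcreteCategory.isIso_iff_bijective _).1 hisoS
  have hcompV : ∀ z, (S.map ((homologyFunctor (Sheaf (Opens.grothendieckTopology X)
        AddCommGrpCat.{u}) m).map (a' nV)).hom).hom
      ((S.map ((homologyFunctor (Sheaf (Opens.grothendieckTopology X)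
        AddCommGrpCat.{u}) m).map φ).hom).hom z) =
      (S.map ((homologyFunctor (Sheaf (Opens.grothendieckTopology X)
        AddCommGrpCat.{u}) m).map (CohCx.toTruncTower E nV)).hom).hom z :=
    fun z => congrArg (fun κ => κ.hom z) hcompS
  refine (ConcreteCategory.isIso_iff_bijective _).2 ⟨?_, ?_⟩
  · intro z z' hzz
    have h1 := congrArg (S.map ((homologyFunctor (Sheaf (Opens.grothendieckTopology X)
        AddCommGrpCat.{u}) m).map (a' nV)).hom).hom hzz
    exact hbij.1 ((hcompV z).symm.trans (h1.trans (hcompV z')))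
  · intro y
    obtain ⟨z, hz⟩ := hbij.2 ((S.map ((homologyFunctor (Sheaf (Opens.grothendieckTopology X)
        AddCommGrpCat.{u}) m).map (a' nV)).hom).hom y)
    refine ⟨z, hinj ?_⟩
    exact (hcompV z).trans hz

end top

end Groth.Agent.Lib.TruncRlim_helper7
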