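import Mathlib
import Groth.Prelude.Def_CohCx
import Groth.Agent.Lib.HDSheaf_helper7
import Groth.Agent.Lib.RlimInj_helper7
import Groth.Agent.Lib.TruncRlim_helper7

/-!
# Sections of cohomology objects through test objects (lead)

Generic version (for an abelian category `A` equipped with a "sections" functor to abelian sheaves
on a small site and a family of test objects `P U` representing sections over `U`) of helper7's
development `HDSheaf` / `RlimInj` for abelian sheaves.

* `SD C J A`: the data.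
* `etaA D L U : Hom_{D(A)}(P_U[0], L) →+ Γ(U, H⁰(L))`.
* `locSurj`, `locKer`: every section of `H⁰(L)` is locally in the image of `etaA`, and a morphism
  killed by `etaA` is locally zero.
* `inj_Hm`: injectivity on sections of `H^m(R lim K_n) → H^m(K_{n₀})`.
-/

set_option autoImplicit false
set_option maxHeartbeats 1600000
universe w'' w u
open CategoryTheory CategoryTheory.Limits Opposite DerivedCategory Pretriangulated

namespace Groth.Agent.Lib.DSectL

open Groth.Agent.Lib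

section Sig

variable {A : Type (u + 1)} [Category.{u} A] [Abelian A] [HasDerivedCategory.{w} A]

/-- `H⁰(N[0]) ≅ N` -/
noncomputable def sigA (N : A) :
    (homologyFunctor A 0).obj ((singleFunctor A 0).obj N) ≅ N :=
  (homologyFunctorFactors A 0).app ((CochainComplex.singleFunctor A 0).obj N) ≪≫
    HomologicalComplex.singleObjHomologySelfIso (ComplexShape.up ℤ) 0 N

lemma sigA_hom_naturality {M N : A} (g : M ⟶ N) :
    (homologyFunctor A 0).map ((singleFunctor A 0).map g) ≫ (sigA N).hom = (sigA M).hom ≫ g := by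
  have h1 := homologyFunctorFactors_hom_naturality ((CochainComplex.singleFunctor A 0).map g) 0
  have h2 := HomologicalComplex.singleObjHomologySelfIso_hom_naturality (ComplexShape.up ℤ) 0 g
  show (homologyFunctor A 0).map (Q.map ((CochainComplex.singleFunctor A 0).map g)) ≫
    ((homologyFunctorFactors A 0).hom.app ((CochainComplex.singleFunctor A 0).obj N) ≫
      (HomologicalComplex.singleObjHomologySelfIso (ComplexShape.up ℤ) 0 N).hom) =
    ((homologyFunctorFactors A 0).hom.app ((CochainComplex.singleFunctor A 0).obj M) ≫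
      (HomologicalComplex.singleObjHomologySelfIso (ComplexShape.up ℤ) 0 M).hom) ≫ g
  refine (Category.assoc _ _ _).symm.trans ?_
  refine (congrArg (fun t => t ≫
    (HomologicalComplex.singleObjHomologySelfIso (ComplexShape.up ℤ) 0 N).hom) h1).trans ?_
  exact (Category.assoc _ _ _).trans ((congrArg (fun t =>
    (homologyFunctorFactors A 0).hom.app ((CochainComplex.singleFunctor A 0).obj M) ≫ t) h2).trans
    (Category.assoc _ _ _).symm)

lemma sigA_inv_factors (N : A) :
    (sigA N).inv ≫ (homologyFunctorFactors A 0).hom.app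
      ((CochainComplex.singleFunctor A 0).obj N) =
    (HomologicalComplex.singleObjHomologySelfIso (ComplexShape.up ℤ) 0 N).inv := by
  show ((HomologicalComplex.singleObjHomologySelfIso (ComplexShape.up ℤ) 0 N).inv ≫
    ((homologyFunctorFactors A 0).app ((CochainComplex.singleFunctor A 0).obj N)).inv) ≫
    ((homologyFunctorFactors A 0).app ((CochainComplex.singleFunctor A 0).obj N)).hom = _
  exact (Category.assoc _ _ _).trans ((congrArg
    (fun t => (HomologicalComplex.singleObjHomologySelfIso (ComplexShape.up ℤ) 0 N).inv ≫ t)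
    (((homologyFunctorFactors A 0).app
      ((CochainComplex.singleFunctor A 0).obj N)).inv_hom_id)).trans
    (Category.comp_id _))

lemma sigA_inv_naturality {M N : A} (g : M ⟶ N) :
    (sigA M).inv ≫ (homologyFunctor A 0).map ((singleFunctor A 0).map g) = g ≫ (sigA N).inv := by
  rw [Iso.inv_comp_eq, ← Category.assoc, Iso.eq_comp_inv, sigA_hom_naturality]

end Sig

/-- Section data: an abelian category with a functor `Γ` to abelian sheaves on a small site, and
test objects `P U` representing `N ↦ Γ(N)(U)`. -/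
structure SD (C : Type u) [SmallCategory C] (J : GrothendieckTopology C)
    (A : Type (u + 1)) [Category.{u} A] [Abelian A] where
  Γ : A ⥤ Sheaf J AddCommGrpCat.{u}
  epiΓ : ∀ {X Y : A} (f : X ⟶ Y), Epi f → Epi (Γ.map f)
  isoΓ : ∀ {X Y : A} (f : X ⟶ Y), IsIso (Γ.map f) → IsIso f
  P : C ⥤ A
  ev : ∀ (U : C) (N : A), (P.obj U ⟶ N) ≃+ (Γ.obj N).obj.obj (op U)
  ev_comp : ∀ (U : C) {N N' : A} (g : P.obj U ⟶ N) (k : N ⟶ N'),
    ev U N' (g ≫ k) = ((Γ.map k).hom.app (op U)).hom (ev U N g)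
  ev_map : ∀ {U V : C} (i : V ⟶ U) (N : A) (g : P.obj U ⟶ N),
    ev V N (P.map i ≫ g) = ((Γ.obj N).obj.map i.op).hom (ev U N g)

section Apply

variable {C : Type u} [SmallCategory C] {J : GrothendieckTopology C}
  {A : Type (u + 1)} [Category.{u} A] [Abelian A] (D : SD C J A)

lemma tri_apply {X Y Z : A} (f : X ⟶ Y) (g : Y ⟶ Z) (k : X ⟶ Z) (h : f ≫ g = k) (U : C)
    (z : (D.Γ.obj X).obj.obj (op U)) :
    ((D.Γ.map g).hom.app (op U)).hom (((D.Γ.map f).hom.app (op U)).hom z) =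
      ((D.Γ.map k).hom.app (op U)).hom z := by
  have h' : D.Γ.map f ≫ D.Γ.map g = D.Γ.map k := by
    rw [← CategoryTheory.Functor.map_comp, h]
  exact congrArg (fun κ => (κ.hom.app (op U)).hom z) h'

lemma id_apply' {X Y : A} (f : X ⟶ Y) (g : Y ⟶ X) (h : f ≫ g = 𝟙 X) (U : C)
    (z : (D.Γ.obj X).obj.obj (op U)) :
    ((D.Γ.map g).hom.app (op U)).hom (((D.Γ.map f).hom.app (op U)).hom z) = z := by
  have h' : D.Γ.map f ≫ D.Γ.map g = 𝟙 _ := by
    rw [← CategoryTheory.Functor.map_comp, h, CategoryTheory.Functor.map_id]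
  exact congrArg (fun κ => (κ.hom.app (op U)).hom z) h'

lemma sq_apply {W X Y Z : A} (f : W ⟶ X) (g : X ⟶ Z) (f' : W ⟶ Y) (g' : Y ⟶ Z)
    (h : f ≫ g = f' ≫ g') (U : C) (z : (D.Γ.obj W).obj.obj (op U)) :
    ((D.Γ.map g).hom.app (op U)).hom (((D.Γ.map f).hom.app (op U)).hom z) =
      ((D.Γ.map g').hom.app (op U)).hom (((D.Γ.map f').hom.app (op U)).hom z) := by
  have h' : D.Γ.map f ≫ D.Γ.map g = D.Γ.map f' ≫ D.Γ.map g' := by
    rw [← CategoryTheory.Functor.map_comp, ← CategoryTheory.Functor.map_comp, h]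
  exact congrArg (fun κ => (κ.hom.app (op U)).hom z) h'

lemma bijective_Γ_of_isIso {X Y : A} (θ : X ⟶ Y) [IsIso θ] (U : C) :
    Function.Bijective ((D.Γ.map θ).hom.app (op U)).hom := by
  refine Function.bijective_iff_has_inverse.2
    ⟨((D.Γ.map (inv θ)).hom.app (op U)).hom, fun x => ?_, fun x => ?_⟩
  · exact id_apply' D θ (inv θ) (IsIso.hom_inv_id θ) U x
  · exact id_apply' D (inv θ) θ (IsIso.inv_hom_id θ) U x

/-- local lifting of test morphisms along an epimorphism -/
lemma locLift {A₁ B₁ : A} (π : A₁ ⟶ B₁) [Epi π] {U : C} (s : D.P.obj U ⟶ B₁) :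
    ∃ S : Sieve U, S ∈ J U ∧ ∀ ⦃V : C⦄ (i : V ⟶ U), S i →
      ∃ t : D.P.obj V ⟶ A₁, t ≫ π = D.P.map i ≫ s := by
  haveI : Epi (D.Γ.map π) := D.epiΓ π inferInstance
  haveI : Presheaf.IsLocallySurjective J (D.Γ.map π).hom :=
    (Sheaf.isLocallySurjective_iff_epi' _ _).2 inferInstance
  refine ⟨Presheaf.imageSieve (D.Γ.map π).hom (D.ev U B₁ s),
    Presheaf.imageSieve_mem J (D.Γ.map π).hom _, ?_⟩
  rintro V i ⟨y, hy⟩
  have hy' : ((D.Γ.map π).hom.app (op V)).hom y =
      ((D.Γ.obj B₁).obj.map i.op).hom (D.ev U B₁ s) := hy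
  refine ⟨(D.ev V A₁).symm y, ?_⟩
  apply (D.ev V B₁).injective
  rw [D.ev_comp, D.ev_map, AddEquiv.apply_symm_apply]
  exact hy'

lemma eq_zero_of_cover' (F : Sheaf J AddCommGrpCat.{u}) {V : C} (S : Sieve V) (hS : S ∈ J V)
    (s : F.obj.obj (op V))
    (h : ∀ ⦃W : C⦄ (g : W ⟶ V), S g → (F.obj.map g.op).hom s = 0) : s = 0 := by
  have h1 : Presheaf.IsSheaf J (F.obj ⋙ forget AddCommGrpCat.{u}) :=
    (Presheaf.isSheaf_iff_isSheaf_forget J F.obj (forget AddCommGrpCat.{u})).1 F.property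
  have h2 : Presieve.IsSheaf J (F.obj ⋙ forget AddCommGrpCat.{u}) :=
    (isSheaf_iff_isSheaf_of_type _ _).1 h1
  refine (h2 S hS).isSeparatedFor.ext (fun W g hg => ?_)
  exact (h g hg).trans (map_zero (F.obj.map g.op).hom).symm

end Apply

section Eta

variable {C : Type u} [SmallCategory C] {J : GrothendieckTopology C}
  {A : Type (u + 1)} [Category.{u} A] [Abelian A] [HasDerivedCategory.{w} A] (D : SD C J A)

/-- `Hom_{D(A)}(P_U[0], L) → Γ(U, H⁰(L))` -/
noncomputable def etaA (L : DerivedCategory A) (U : C) :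
    ((singleFunctor A 0).obj (D.P.obj U) ⟶ L) →+
      (D.Γ.obj ((homologyFunctor A 0).obj L)).obj.obj (op U) :=
  (D.ev U _).toAddMonoidHom.comp ((Preadditive.leftComp _ (sigA (D.P.obj U)).inv).comp
    ((homologyFunctor A 0).mapAddHom))

lemma etaA_apply (L : DerivedCategory A) (U : C)
    (φ : (singleFunctor A 0).obj (D.P.obj U) ⟶ L) :
    etaA D L U φ = D.ev U _ ((sigA (D.P.obj U)).inv ≫ (homologyFunctor A 0).map φ) := rfl

lemma etaA_naturality (L : DerivedCategory A) {U V : C} (g : V ⟶ U)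
    (φ : (singleFunctor A 0).obj (D.P.obj U) ⟶ L) :
    etaA D L V ((singleFunctor A 0).map (D.P.map g) ≫ φ) =
      ((D.Γ.obj ((homologyFunctor A 0).obj L)).obj.map g.op).hom (etaA D L U φ) := by
  rw [etaA_apply, etaA_apply]
  have h := sigA_inv_naturality (D.P.map g)
  have h' : (sigA (D.P.obj V)).inv ≫ (homologyFunctor A 0).map
      ((singleFunctor A 0).map (D.P.map g) ≫ φ) =
      D.P.map g ≫ ((sigA (D.P.obj U)).inv ≫ (homologyFunctor A 0).map φ) :=
    (congrArg (fun t => (sigA (D.P.obj V)).inv ≫ t)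
      ((homologyFunctor A 0).map_comp ((singleFunctor A 0).map (D.P.map g)) φ)).trans
      ((Category.assoc _ _ _).symm.trans ((congrArg (fun t => t ≫
        (homologyFunctor A 0).map φ) h).trans (Category.assoc _ _ _)))
  refine (congrArg (D.ev V _) h').trans ?_
  exact D.ev_map g _ _

lemma etaA_comp {M M' : DerivedCategory A} (β : M ⟶ M') (U : C)
    (φ : (singleFunctor A 0).obj (D.P.obj U) ⟶ M) :
    etaA D M' U (φ ≫ β) =
      ((D.Γ.map ((homologyFunctor A 0).map β)).hom.app (op U)).hom (etaA D M U φ) := by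
  rw [etaA_apply, etaA_apply, CategoryTheory.Functor.map_comp, ← Category.assoc]
  exact D.ev_comp U _ _

theorem eta_locSurj (L' : CochainComplex A ℤ) (U : C)
    (s : (D.Γ.obj ((homologyFunctor A 0).obj (Q.obj L'))).obj.obj (op U)) :
    ∃ S : Sieve U, S ∈ J U ∧ ∀ ⦃V : C⦄ (i : V ⟶ U), S i →
      ∃ σ : (singleFunctor A 0).obj (D.P.obj V) ⟶ Q.obj L',
        etaA D (Q.obj L') V σ =
          ((D.Γ.obj ((homologyFunctor A 0).obj (Q.obj L'))).obj.map i.op).hom s := by
  obtain ⟨s₀, rfl⟩ : ∃ s₀ : D.P.obj U ⟶ (homologyFunctor A 0).obj (Q.obj L'),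
      D.ev U _ s₀ = s := ⟨(D.ev U _).symm s, AddEquiv.apply_symm_apply _ _⟩
  let τ := (homologyFunctorFactors A 0).app L'
  obtain ⟨S, hS, hS'⟩ := locLift D (L'.homologyπ 0) (s₀ ≫ τ.hom)
  refine ⟨S, hS, fun V i hi => ?_⟩
  obtain ⟨t, ht⟩ := hS' i hi
  have hc : (t ≫ L'.iCycles 0) ≫ L'.d 0 1 = 0 := by simp
  obtain ⟨gg, hgg⟩ : ∃ gg, gg = HDSheaf_helper7.fromSingle (t ≫ L'.iCycles 0) hc := ⟨_, rfl⟩
  refine ⟨Q.map gg, ?_⟩
  refine (etaA_apply D _ V _).trans ?_
  refine Eq.trans ?_ (D.ev_map i _ s₀)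
  have h1 := homologyFunctorFactors_hom_naturality gg 0
  have h2 : (HomologicalComplex.singleObjHomologySelfIso (ComplexShape.up ℤ) 0 (D.P.obj V)).inv ≫
      HomologicalComplex.homologyMap gg 0 = t ≫ L'.homologyπ 0 := by
    rw [hgg, HDSheaf_helper7.homologyMap_fromSingle]
    congr 1
    rw [← cancel_mono (L'.iCycles 0), HomologicalComplex.liftCycles_i]
  have key : ((sigA (D.P.obj V)).inv ≫
      (homologyFunctor A 0).map (Q.map gg)) ≫ τ.hom =
      (D.P.map i ≫ s₀) ≫ τ.hom := by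
    refine (Category.assoc _ _ _).trans ?_
    refine (congrArg (fun x => (sigA (D.P.obj V)).inv ≫ x) h1).trans ?_
    refine (Category.assoc _ _ _).symm.trans ?_
    refine (congrArg (fun x => x ≫ HomologicalComplex.homologyMap gg 0)
      (sigA_inv_factors (D.P.obj V))).trans ?_
    refine h2.trans ?_
    exact ht.trans (Category.assoc _ _ _).symm
  exact congrArg (D.ev V _) ((cancel_mono τ.hom).1 key)

theorem eta_ker (L' : CochainComplex A ℤ) (U : C)
    (φ : (singleFunctor A 0).obj (D.P.obj U) ⟶ Q.obj L')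
    (hφ : etaA D (Q.obj L') U φ = 0) :
    ∃ S : Sieve U, S ∈ J U ∧ ∀ ⦃V : C⦄ (i : V ⟶ U), S i →
      (singleFunctor A 0).map (D.P.map i) ≫ φ = 0 := by
  have h1 : (homologyFunctor A 0).map φ = 0 := by
    have h0 : (sigA (D.P.obj U)).inv ≫ (homologyFunctor A 0).map φ = 0 := by
      apply (D.ev U _).injective
      rw [map_zero]
      exact hφ
    rw [← cancel_epi (sigA (D.P.obj U)).inv, h0, comp_zero]
  obtain ⟨L'', g, s, hs, rfl⟩ := DerivedCategory.left_fac
    (X := (CochainComplex.singleFunctor A 0).obj (D.P.obj U)) (Y := L') φ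
  haveI := hs
  have h2 : (homologyFunctor A 0).map (Q.map g) = 0 := by
    have h1' := ((homologyFunctor A 0).map_comp (Q.map g) (inv (Q.map s))).symm.trans h1
    exact (cancel_mono ((homologyFunctor A 0).map (inv (Q.map s)))).1
      (h1'.trans zero_comp.symm)
  have h3 : HomologicalComplex.homologyMap g 0 = 0 := by
    have h := homologyFunctorFactors_hom_naturality g 0
    rw [h2, zero_comp] at h
    exact (cancel_epi ((homologyFunctorFactors A 0).hom.app
      ((CochainComplex.singleFunctor A 0).obj (D.P.obj U)))).1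
      (h.symm.trans comp_zero.symm)
  let c : D.P.obj U ⟶ L''.X 0 :=
    (HomologicalComplex.singleObjXSelf (ComplexShape.up ℤ) 0 (D.P.obj U)).inv ≫ g.f 0
  have hc : c ≫ L''.d 0 1 = 0 := by
    have h : g.f 0 ≫ L''.d 0 1 = 0 :=
      (g.comm 0 1).trans ((congrArg (fun x => x ≫ g.f 1)
        (HomologicalComplex.single_obj_d (c := ComplexShape.up ℤ) 0 (D.P.obj U) 0 1)).trans zero_comp)
    show ((HomologicalComplex.singleObjXSelf (ComplexShape.up ℤ) 0 (D.P.obj U)).inv ≫ g.f 0) ≫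
      L''.d 0 1 = 0
    exact (Category.assoc _ _ _).trans ((congrArg (fun t =>
      (HomologicalComplex.singleObjXSelf (ComplexShape.up ℤ) 0 (D.P.obj U)).inv ≫ t) h).trans comp_zero)
  have hg : g = HDSheaf_helper7.fromSingle c hc := by
    apply HomologicalComplex.from_single_hom_ext
    rw [HomologicalComplex.mkHomFromSingle_f]
    exact (Iso.hom_inv_id_assoc
      (HomologicalComplex.singleObjXSelf (ComplexShape.up ℤ) 0 (D.P.obj U)) (g.f 0)).symm
  have h4 : L''.liftCycles c 1 (by simp) hc ≫ L''.homologyπ 0 = 0 := by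
    refine (HDSheaf_helper7.homologyMap_fromSingle c hc).symm.trans ?_
    rw [← hg]
    exact (congrArg (fun x => _ ≫ x) h3).trans comp_zero
  let T : ShortComplex A :=
    ShortComplex.mk (L''.toCycles (-1) 0) (L''.homologyπ 0) (by simp)
  have hT : T.Exact :=
    ShortComplex.exact_of_g_is_cokernel _ (L''.homologyIsCokernel (-1) 0 (by simp))
  obtain ⟨A', π', hπ', x₁, fac⟩ :=
    hT.exact_up_to_refinements (L''.liftCycles c 1 (by simp) hc) h4
  haveI : Epi π' := hπ'
  obtain ⟨S, hS, hS'⟩ := locLift D π' (𝟙 (D.P.obj U))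
  refine ⟨S, hS, fun V i hi => ?_⟩
  obtain ⟨t, ht⟩ := hS' i hi
  rw [Category.comp_id] at ht
  have hw : (t ≫ x₁) ≫ L''.d (-1) 0 = D.P.map i ≫ c := by
    have fac' : π' ≫ L''.liftCycles c 1 (by simp) hc = x₁ ≫ L''.toCycles (-1) 0 := fac
    have e2 : x₁ ≫ L''.d (-1) 0 = π' ≫ c := by
      rw [← HomologicalComplex.toCycles_i L'' (-1) 0, ← Category.assoc]
      refine (congrArg (fun x => x ≫ L''.iCycles 0) fac'.symm).trans ?_
      rw [Category.assoc, HomologicalComplex.liftCycles_i]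
    rw [Category.assoc, e2, ← Category.assoc, ht]
  have h5 : (CochainComplex.singleFunctor A 0).map (D.P.map i) ≫ g =
      HDSheaf_helper7.fromSingle ((t ≫ x₁) ≫ L''.d (-1) 0) (by simp) := by
    apply HomologicalComplex.from_single_hom_ext
    rw [HomologicalComplex.mkHomFromSingle_f, hw, HomologicalComplex.comp_f]
    erw [HomologicalComplex.single_map_f_self]
    simp only [c]
    exact (Category.assoc _ _ _).trans (congrArg (fun t => _ ≫ t) (Category.assoc _ _ _))
  have h6 : Q.map (HDSheaf_helper7.fromSingle ((t ≫ x₁) ≫ L''.d (-1) 0) (by simp)) = 0 :=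
    (DerivedCategory.Q_map_eq_of_homotopy _
      (HDSheaf_helper7.nullHomotopyFromSingle (t ≫ x₁))).trans (Functor.map_zero _ _ _)
  show Q.map ((CochainComplex.singleFunctor A 0).map (D.P.map i)) ≫ Q.map g ≫ inv (Q.map s) = 0
  refine (Category.assoc _ _ _).symm.trans ?_
  exact (congrArg (fun x => x ≫ inv (Q.map s)) ((Q.map_comp _ _).symm.trans
    ((congrArg (fun x => Q.map x) h5).trans h6))).trans zero_comp

lemma locSurj (M : DerivedCategory A) (U : C)
    (s : (D.Γ.obj ((homologyFunctor A 0).obj M)).obj.obj (op U)) :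
    ∃ S : Sieve U, S ∈ J U ∧ ∀ ⦃V : C⦄ (i : V ⟶ U), S i →
      ∃ σ : (singleFunctor A 0).obj (D.P.obj V) ⟶ M,
        etaA D M V σ = ((D.Γ.obj ((homologyFunctor A 0).obj M)).obj.map i.op).hom s := by
  let L' := (Q : CochainComplex A ℤ ⥤ _).objPreimage M
  let e : Q.obj L' ≅ M := Q.objObjPreimageIso M
  let s₀ := ((D.Γ.map ((homologyFunctor A 0).map e.inv)).hom.app (op U)).hom s
  obtain ⟨S, hmem, hS⟩ := eta_locSurj D L' U s₀
  refine ⟨S, hmem, fun V i hi => ?_⟩
  obtain ⟨σ₀, hσ₀⟩ := hS i hi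
  refine ⟨σ₀ ≫ e.hom, ?_⟩
  rw [etaA_comp, hσ₀]
  have hnat := ConcreteCategory.congr_hom
    ((D.Γ.map ((homologyFunctor A 0).map e.hom)).hom.naturality i.op) s₀
  refine hnat.trans ?_
  have hid : (homologyFunctor A 0).map e.inv ≫ (homologyFunctor A 0).map e.hom = 𝟙 _ := by
    rw [← CategoryTheory.Functor.map_comp, e.inv_hom_id, CategoryTheory.Functor.map_id]
  have hid' : ((D.Γ.map ((homologyFunctor A 0).map e.hom)).hom.app (op U)).hom s₀ = s :=
    id_apply' D _ _ hid U s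
  exact congrArg ((D.Γ.obj ((homologyFunctor A 0).obj M)).obj.map i.op).hom hid'

lemma locKer (M : DerivedCategory A) (U : C)
    (σ : (singleFunctor A 0).obj (D.P.obj U) ⟶ M) (h : etaA D M U σ = 0) :
    ∃ S : Sieve U, S ∈ J U ∧ ∀ ⦃V : C⦄ (i : V ⟶ U), S i →
      (singleFunctor A 0).map (D.P.map i) ≫ σ = 0 := by
  let L' := (Q : CochainComplex A ℤ ⥤ _).objPreimage M
  let e : Q.obj L' ≅ M := Q.objObjPreimageIso M
  have h0 : etaA D (Q.obj L') U (σ ≫ e.inv) = 0 := by
    rw [etaA_comp, h, map_zero]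
  obtain ⟨S, hS, hS'⟩ := eta_ker D L' U (σ ≫ e.inv) h0
  refine ⟨S, hS, fun V i hi => ?_⟩
  have h1 := hS' i hi
  have h2 : (singleFunctor A 0).map (D.P.map i) ≫ σ =
      ((singleFunctor A 0).map (D.P.map i) ≫ σ ≫ e.inv) ≫ e.hom := by simp
  rw [h2, h1, zero_comp]

/-- the key statement for `H⁰` -/
theorem inj_H0 {M M' : DerivedCategory A} (α : M ⟶ M') (V : C)
    (hkey : ∀ T ∈ J V, ∃ (ι : Type u) (Y : ι → C) (f : ∀ i, Y i ⟶ V), (∀ i, T.arrows (f i)) ∧
      Sieve.ofArrows Y f ∈ J V ∧ ∀ i,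
        ∀ σ : (singleFunctor A 0).obj (D.P.obj (Y i)) ⟶ M, σ ≫ α = 0 → σ = 0)
    (s : (D.Γ.obj ((homologyFunctor A 0).obj M)).obj.obj (op V))
    (hs : ((D.Γ.map ((homologyFunctor A 0).map α)).hom.app (op V)).hom s = 0) :
    s = 0 := by
  let T : Sieve V :=
    { arrows := fun W g => ∃ σ : (singleFunctor A 0).obj (D.P.obj W) ⟶ M,
        etaA D M W σ = ((D.Γ.obj ((homologyFunctor A 0).obj M)).obj.map g.op).hom s ∧
        σ ≫ α = 0
      downward_closed := by
        rintro W W' g ⟨σ, h1, h2⟩ g'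
        refine ⟨(singleFunctor A 0).map (D.P.map g') ≫ σ, ?_, ?_⟩
        · rw [etaA_naturality, h1]
          exact (ConcreteCategory.congr_hom
            ((D.Γ.obj ((homologyFunctor A 0).obj M)).obj.map_comp g.op g'.op) s).symm
        · rw [Category.assoc, h2, comp_zero] }
  have hT : T ∈ J V := by
    obtain ⟨S₁, hS₁, hS₁'⟩ := locSurj D M V s
    refine J.transitive hS₁ T (fun W g hg => ?_)
    obtain ⟨σ, hσ⟩ := hS₁' g hg
    have h0 : etaA D M' W (σ ≫ α) = 0 := by
      rw [etaA_comp, hσ]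
      have hnat := ConcreteCategory.congr_hom
        ((D.Γ.map ((homologyFunctor A 0).map α)).hom.naturality g.op) s
      refine hnat.trans ?_
      exact (congrArg ((D.Γ.obj ((homologyFunctor A 0).obj M')).obj.map g.op).hom
        hs).trans (map_zero _)
    obtain ⟨S₂, hS₂, hS₂'⟩ := locKer D M' W (σ ≫ α) h0
    refine J.superset_covering ?_ hS₂
    intro W' g' hg'
    refine ⟨(singleFunctor A 0).map (D.P.map g') ≫ σ, ?_, ?_⟩
    · rw [etaA_naturality, hσ]
      exact (ConcreteCategory.congr_hom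
        ((D.Γ.obj ((homologyFunctor A 0).obj M)).obj.map_comp g.op g'.op) s).symm
    · rw [Category.assoc]
      exact hS₂' g' hg'
  obtain ⟨ι, Y, f, hfT, hcov, hY⟩ := hkey T hT
  apply eq_zero_of_cover' _ (Sieve.ofArrows Y f) hcov s
  intro W g hg
  obtain ⟨i, b, rfl⟩ := (Sieve.mem_ofArrows_iff _ _ g).1 hg
  obtain ⟨σ, hσ1, hσ2⟩ := hfT i
  have hσ0 : σ = 0 := hY i σ hσ2
  have h1 : ((D.Γ.obj ((homologyFunctor A 0).obj M)).obj.map (f i).op).hom s = 0 := by
    rw [← hσ1, hσ0, map_zero]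
  have h2 := ConcreteCategory.congr_hom
    ((D.Γ.obj ((homologyFunctor A 0).obj M)).obj.map_comp (f i).op b.op) s
  refine h2.trans ?_
  exact (congrArg ((D.Γ.obj ((homologyFunctor A 0).obj M)).obj.map b.op).hom h1).trans (map_zero _)

theorem inj_Hm
    (K : ℕ → DerivedCategory A) (t : ∀ n, K (n + 1) ⟶ K n) [HasProduct K]
    (L : DerivedCategory A) (a : ∀ n, L ⟶ K n) (hL : CohCx.IsRlimVia K t L a)
    (V : C) (m : ℤ) (nV : ℕ)
    (h : ∀ T ∈ J V, ∃ (ι : Type u) (Y : ι → C) (f : ∀ i, Y i ⟶ V), (∀ i, T.arrows (f i)) ∧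
      Sieve.ofArrows Y f ∈ J V ∧ ∀ i,
        CohCx.LimOneIsZero
          (fun n => ((singleFunctor A 0).obj (D.P.obj (Y i)) ⟶ (K n)⟦m - 1⟧))
          (fun n => Preadditive.rightComp ((singleFunctor A 0).obj (D.P.obj (Y i)))
            ((t n)⟦m - 1⟧')) ∧
        ∀ k : ℕ, Function.Injective
          (Preadditive.rightComp ((singleFunctor A 0).obj (D.P.obj (Y i)))
            ((CohCx.transition K t nV k)⟦m⟧') :
            ((singleFunctor A 0).obj (D.P.obj (Y i)) ⟶ (K (nV + k))⟦m⟧) →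
              ((singleFunctor A 0).obj (D.P.obj (Y i)) ⟶ (K nV)⟦m⟧))) :
    Function.Injective
      ((D.Γ.map ((homologyFunctor A m).map (a nV))).hom.app (op V)).hom := by
  let E := (homologyFunctor A 0).shiftIso m 0 m (add_zero m)
  have hkey : ∀ T ∈ J V, ∃ (ι : Type u) (Y : ι → C) (f : ∀ i, Y i ⟶ V), (∀ i, T.arrows (f i)) ∧
      Sieve.ofArrows Y f ∈ J V ∧ ∀ i,
        ∀ σ : (singleFunctor A 0).obj (D.P.obj (Y i)) ⟶ L⟦m⟧,
          σ ≫ (a nV)⟦m⟧' = 0 → σ = 0 := by
    intro T hT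
    obtain ⟨ι, Y, f, h1, h2, h3⟩ := h T hT
    exact ⟨ι, Y, f, h1, h2, fun i σ hσ =>
      RlimInj_helper7.core K t L a hL _ m nV (h3 i).1 (h3 i).2 σ hσ⟩
  have hnat : (homologyFunctor A 0).map ((a nV)⟦m⟧') ≫ E.hom.app (K nV) =
      E.hom.app L ≫ (homologyFunctor A m).map (a nV) :=
    E.hom.naturality (a nV)
  refine (injective_iff_map_eq_zero _).2 (fun y hy => ?_)
  obtain ⟨x, hx⟩ : ∃ x, x = ((D.Γ.map (E.inv.app L)).hom.app (op V)).hom y := ⟨_, rfl⟩
  have hy' : ((D.Γ.map (E.hom.app L)).hom.app (op V)).hom x = y := by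
    rw [hx]
    exact id_apply' D _ _ (E.inv_hom_id_app L) V y
  have h1 : ((D.Γ.map (E.hom.app (K nV))).hom.app (op V)).hom
      (((D.Γ.map ((homologyFunctor A 0).map ((a nV)⟦m⟧'))).hom.app (op V)).hom x) = 0 :=
    (sq_apply D _ _ _ _ hnat V x).trans
      ((congrArg ((D.Γ.map ((homologyFunctor A m).map (a nV))).hom.app (op V)).hom hy').trans hy)
  have h2 : ((D.Γ.map ((homologyFunctor A 0).map ((a nV)⟦m⟧'))).hom.app (op V)).hom x = 0 := by
    have h3 := congrArg ((D.Γ.map (E.inv.app (K nV))).hom.app (op V)).hom h1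
    exact (id_apply' D _ _ (E.hom_inv_id_app (K nV)) V _).symm.trans (h3.trans (map_zero _))
  have h3 : x = 0 := inj_H0 D ((a nV)⟦m⟧') V hkey x h2
  exact hy'.symm.trans ((congrArg ((D.Γ.map (E.hom.app L)).hom.app (op V)).hom h3).trans
    (map_zero _))

end Eta

end Groth.Agent.Lib.DSectL
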