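import Mathlib
import Groth.Prelude.Def_CohCx
import Groth.Agent.Lib.TruncTower_helper7
import Groth.Agent.Lib.RlimHom_helper2
import Groth.Agent.Lib.DerProd_helper9

/-!
# Maps from `Z[0]` into an object with acyclic cohomology (generic part) (helper7)
-/

set_option autoImplicit false
universe w'' w u
open CategoryTheory CategoryTheory.Limits Opposite DerivedCategory Pretriangulated

namespace Groth.Agent.Lib.TruncSect_helper7

open Groth.Agent.Lib.TruncTower_helper7

variable {A : Type (u + 1)} [Category.{u} A] [Abelian A] [HasDerivedCategory.{w} A]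

/-! ### countable products of bounded below objects -/

lemma exists_kinj_of_isGE [EnoughInjectives A] (X : DerivedCategory A) (b : ℤ) [X.IsGE b] :
    ∃ (L : CochainComplex A ℤ), L.IsKInjective ∧ Nonempty (Q.obj L ≅ X) := by
  obtain ⟨K, hK, ⟨e⟩⟩ := X.exists_iso_Q_obj_of_isGE b
  haveI := hK
  obtain ⟨L, i, hi, hL, hL'⟩ :=
    CochainComplex.Plus.modelCategoryQuillen.exists_quasiIso_injective K b
  haveI := hL
  haveI := hL'
  haveI := hi
  exact ⟨L, CochainComplex.isKInjective_of_injective L b, ⟨(asIso (Q.map i)).symm ≪≫ e.symm⟩⟩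

lemma hasProduct_of_isGE [EnoughInjectives A] [HasProductsOfShape ℕ A]
    (X : ℕ → DerivedCategory A) (b : ℕ → ℤ) (hX : ∀ j, (X j).IsGE (b j)) : HasProduct X := by
  have hex : ∀ j, ∃ (L : CochainComplex A ℤ), L.IsKInjective ∧ Nonempty (Q.obj L ≅ X j) :=
    fun j => by
      haveI := hX j
      exact exists_kinj_of_isGE (X j) (b j)
  choose L hL e using hex
  haveI := hL
  haveI := DerProd.hasProduct_Q L
  exact hasLimit_of_iso (F := Discrete.functor fun j => Q.obj (L j))
    (Discrete.natIso (fun j => (e j.as).some))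

lemma hasProduct_truncTower [EnoughInjectives A] [HasProductsOfShape ℕ A]
    (E : DerivedCategory A) : HasProduct (CohCx.truncTower E) :=
  hasProduct_of_isGE _ (fun n => -(n : ℤ)) (fun n => by
    show (tS (A := A)).IsGE ((tS.truncGE (-(n : ℤ))).obj E) (-(n : ℤ))
    infer_instance)

/-! ### `Ext` and isomorphisms -/

lemma ext_subsingleton_of_iso [HasExt.{w''} A] {Z F F' : A} (e : F ≅ F') (k : ℕ)
    (h : Subsingleton (Abelian.Ext.{w''} Z F k)) : Subsingleton (Abelian.Ext.{w''} Z F' k) := by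
  haveI := h
  have h0 : Subsingleton ((singleFunctor A 0).obj Z ⟶ ((singleFunctor A 0).obj F)⟦(k : ℤ)⟧) :=
    (Abelian.Ext.homEquiv (X := Z) (Y := F) (n := k)).symm.subsingleton
  have h1 : Subsingleton ((singleFunctor A 0).obj Z ⟶ ((singleFunctor A 0).obj F')⟦(k : ℤ)⟧) :=
    subsingleton_hom_of_iso
      ((shiftFunctor (DerivedCategory A) (k : ℤ)).mapIso ((singleFunctor A 0).mapIso e.symm)) h0
  exact @Equiv.subsingleton _ _ (Abelian.Ext.homEquiv (X := Z) (Y := F') (n := k)) h1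

lemma ext_subsingleton_of_isZero [HasExt.{w''} A] (Z : A) {F : A} (hF : IsZero F) (k : ℕ) :
    Subsingleton (Abelian.Ext.{w''} Z F k) := by
  have hz : IsZero (((singleFunctor A 0).obj F)⟦(k : ℤ)⟧) :=
    (shiftFunctor (DerivedCategory A) (k : ℤ)).map_isZero ((singleFunctor A 0).map_isZero hF)
  have h1 : Subsingleton ((singleFunctor A 0).obj Z ⟶ ((singleFunctor A 0).obj F)⟦(k : ℤ)⟧) :=
    ⟨fun f g => hz.eq_of_tgt f g⟩
  exact @Equiv.subsingleton _ _ (Abelian.Ext.homEquiv (X := Z) (Y := F) (n := k)) h1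

/-! ### homology of `τ_{<a}` -/

lemma isIso_homology_truncLTι (M : DerivedCategory A) (a j : ℤ) (h : j < a) :
    IsIso ((homologyFunctor A j).map ((tS.truncLTι a).app M)) := by
  have hT := (tS (A := A)).triangleLTGE_distinguished a M
  have hz : ∀ i, i < a → IsZero ((homologyFunctor A i).obj ((tS.truncGE a).obj M)) := fun i hi =>
    haveI : (tS (A := A)).IsGE ((tS.truncGE a).obj M) a := inferInstance
    DerivedCategory.isZero_of_isGE _ a i hi
  haveI : Mono ((homologyFunctor A j).map ((tS.truncLTι a).app M)) :=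
    (HomologySequence.mono_homologyMap_mor₁_iff _ hT (j - 1) j (by omega)).2
      ((hz (j - 1) (by omega)).eq_of_src _ _)
  haveI : Epi ((homologyFunctor A j).map ((tS.truncLTι a).app M)) :=
    (HomologySequence.epi_homologyMap_mor₁_iff _ hT j).2 ((hz j h).eq_of_tgt _ _)
  exact isIso_of_mono_of_epi _

lemma isZero_homology_truncLT (M : DerivedCategory A) (a j : ℤ) (h : a ≤ j) :
    IsZero ((homologyFunctor A j).obj ((tS.truncLT a).obj M)) :=
  haveI : (tS (A := A)).IsLE ((tS.truncLT a).obj M) (a - 1) := inferInstance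
  DerivedCategory.isZero_of_isLE _ (a - 1) j (by omega)

/-! ### vanishing of maps into an object concentrated in negative degrees -/

theorem hom_vanish [HasExt.{w''} A] (Z : A) (N : DerivedCategory A)
    [HasProduct (CohCx.truncTower N)]
    (hN : CohCx.IsRlimVia (CohCx.truncTower N) (CohCx.truncTowerMap N) N (CohCx.toTruncTower N))
    (hLE : N.IsLE (-1))
    (hvan : ∀ (n k : ℕ), 1 ≤ k →
      Subsingleton (Abelian.Ext.{w''} Z ((homologyFunctor A (-(n : ℤ) - 1)).obj N) k)) :
    Subsingleton ((singleFunctor A 0).obj Z ⟶ N) ∧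
    Subsingleton ((singleFunctor A 0).obj Z ⟶ N⟦(1 : ℤ)⟧) := by
  have hstep : ∀ (n : ℕ) (m : ℤ), 0 ≤ m →
      Function.Injective (Preadditive.rightComp ((singleFunctor A 0).obj Z)
        ((CohCx.truncTowerMap N n)⟦m⟧')) ∧
      Function.Surjective (Preadditive.rightComp ((singleFunctor A 0).obj Z)
        ((CohCx.truncTowerMap N n)⟦m - 1⟧')) := by
    intro n m hm
    have hk : ((((n : ℤ) + 1 + m).toNat : ℕ) : ℤ) = n + 1 + m := Int.toNat_of_nonneg (by omega)
    have hk1 : 1 ≤ ((n : ℤ) + 1 + m).toNat := by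
      have : (1 : ℤ) ≤ ((((n : ℤ) + 1 + m).toNat : ℕ) : ℤ) := by rw [hk]; omega
      exact_mod_cast this
    exact tower_step N n Z m _ hk (-(n : ℤ) - 1) rfl (hvan n _ hk1)
  have hvz : ∀ (m : ℤ), 0 ≤ m → ∀ n : ℕ,
      Subsingleton ((singleFunctor A 0).obj Z ⟶ (CohCx.truncTower N n)⟦m⟧) := by
    intro m hm n
    induction n with
    | zero =>
      haveI := hLE
      have hz : IsZero (CohCx.truncTower N 0) :=
        (tS (A := A)).isZero_truncGE_obj_of_isLE (-1) (-((0 : ℕ) : ℤ)) (by simp) N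
      have hz' : IsZero ((CohCx.truncTower N 0)⟦m⟧) :=
        (shiftFunctor (DerivedCategory A) m).map_isZero hz
      exact ⟨fun f g => hz'.eq_of_tgt f g⟩
    | succ n ih =>
      haveI := ih
      exact (hstep n m hm).1.subsingleton
  have key : ∀ m : ℤ, 0 ≤ m →
      CohCx.LimOneIsZero (fun n => (singleFunctor A 0).obj Z ⟶ (CohCx.truncTower N n)⟦m - 1⟧)
        (fun n => Preadditive.rightComp ((singleFunctor A 0).obj Z)
          ((CohCx.truncTowerMap N n)⟦m - 1⟧')) →
      Subsingleton ((singleFunctor A 0).obj Z ⟶ N⟦m⟧) := by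
    intro m hm hl
    refine ⟨fun f g => ?_⟩
    have h1 := (Groth.Agent.Lib.RlimHom.main (CohCx.truncTower N) (CohCx.truncTowerMap N) N
      (CohCx.toTruncTower N) hN ((singleFunctor A 0).obj Z) m).2 hl (f - g)
      (fun n => (hvz m hm n).elim _ _)
    exact sub_eq_zero.1 h1
  constructor
  · have h0 := key 0 le_rfl (limOne_of_eventually_surj 0 _ _ (fun n _ => (hstep n 0 le_rfl).2))
    exact subsingleton_hom_of_iso ((shiftFunctorZero (DerivedCategory A) ℤ).app N).symm h0
  · refine key 1 (by norm_num) (limOne_of_eventually_surj 0 _ _ (fun n _ y => ⟨0, ?_⟩))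
    exact (hvz (1 - 1) (by norm_num) n).elim _ _

/-! ### Step A: passing to `τ_{≥0}` -/

theorem bijective_comp_truncGEπ (G M : DerivedCategory A)
    (h0 : Subsingleton (G ⟶ (tS.truncLT 0).obj M))
    (h1 : Subsingleton (G ⟶ ((tS.truncLT 0).obj M)⟦(1 : ℤ)⟧)) :
    Function.Bijective (fun φ : G ⟶ M => φ ≫ (tS.truncGEπ 0).app M) := by
  have hT := (tS (A := A)).triangleLTGE_distinguished 0 M
  constructor
  · intro φ φ' hφ
    have hφ' : φ ≫ (tS.truncGEπ 0).app M = φ' ≫ (tS.truncGEπ 0).app M := hφ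
    have hd : (φ - φ') ≫ (tS.truncGEπ 0).app M = 0 := by
      rw [Preadditive.sub_comp]
      exact sub_eq_zero.2 hφ'
    obtain ⟨g, hg⟩ := Triangle.coyoneda_exact₂ _ hT (φ - φ') hd
    let g' : G ⟶ (tS.truncLT 0).obj M := g
    have hg' : φ - φ' = g' ≫ (tS.truncLTι 0).app M := hg
    have hg0 : g' = 0 := h0.elim _ _
    have h3 : φ - φ' = 0 :=
      hg'.trans ((congrArg (fun z => z ≫ (tS.truncLTι 0).app M) hg0).trans zero_comp)
    exact sub_eq_zero.1 h3
  · intro ψ
    have hz : ψ ≫ (tS.truncGEδLT 0).app M = 0 := h1.elim _ _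
    obtain ⟨g, hg⟩ := Triangle.coyoneda_exact₃ _ hT ψ hz
    exact ⟨g, hg.symm⟩

/-! ### Step B: passing to the heart -/

theorem heart_step (G M' : DerivedCategory A) (hG : G.IsLE 0) (hM' : M'.IsGE 0) :
    Function.Bijective (fun φ : G ⟶ (tS.truncLT 1).obj M' => φ ≫ (tS.truncLTι 1).app M') ∧
    IsIso ((homologyFunctor A 0).map ((tS.truncLTι 1).app M')) ∧
    ∃ Y : A, Nonempty ((tS.truncLT 1).obj M' ≅ (singleFunctor A 0).obj Y) := by
  have hT := (tS (A := A)).triangleLTGE_distinguished 1 M'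
  haveI hGE1 : (tS (A := A)).IsGE ((tS.truncGE 1).obj M') 1 := inferInstance
  have hz1 : ∀ i : ℤ, i < 1 → IsZero ((homologyFunctor A i).obj ((tS.truncGE 1).obj M')) :=
    fun i hi => DerivedCategory.isZero_of_isGE _ 1 i hi
  have hz0 : ∀ i : ℤ, i < 0 → IsZero ((homologyFunctor A i).obj M') := fun i hi =>
    haveI := hM'
    DerivedCategory.isZero_of_isGE _ 0 i hi
  have hmono : ∀ i : ℤ, i < 2 → Mono ((homologyFunctor A i).map ((tS.truncLTι 1).app M')) :=
    fun i hi => (HomologySequence.mono_homologyMap_mor₁_iff _ hT (i - 1) i (by omega)).2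
      ((hz1 (i - 1) (by omega)).eq_of_src _ _)
  refine ⟨⟨?_, ?_⟩, ?_, ?_⟩
  · -- injective
    intro φ φ' hφ
    have hφ' : φ ≫ (tS.truncLTι 1).app M' = φ' ≫ (tS.truncLTι 1).app M' := hφ
    have hd : (φ - φ') ≫ (tS.truncLTι 1).app M' = 0 := by
      rw [Preadditive.sub_comp]
      exact sub_eq_zero.2 hφ'
    have hT' := inv_rot_of_distTriang _ hT
    obtain ⟨g, hg⟩ := Triangle.coyoneda_exact₂ _ hT' (φ - φ') hd
    let g' : G ⟶ ((tS.truncGE 1).obj M')⟦(-1 : ℤ)⟧ := g
    have hg0 : g' = 0 :=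
      (tS (A := A)).zero_of_isLE_of_isGE g' 0 2 (by norm_num) hG
        ((tS (A := A)).isGE_shift ((tS.truncGE 1).obj M') 1 (-1) 2 (by norm_num))
    have h3 : φ - φ' = 0 :=
      hg.trans ((congrArg (fun z => z ≫ (((tS (A := A)).triangleLTGE 1).obj M').invRotate.mor₁)
        hg0).trans zero_comp)
    exact sub_eq_zero.1 h3
  · -- surjective
    intro ψ
    have hz : ψ ≫ (tS.truncGEπ 1).app M' = 0 :=
      (tS (A := A)).zero_of_isLE_of_isGE _ 0 1 (by norm_num) hG hGE1
    obtain ⟨g, hg⟩ := Triangle.coyoneda_exact₂ _ hT ψ hz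
    exact ⟨g, hg.symm⟩
  · haveI := hmono 0 (by norm_num)
    haveI : Epi ((homologyFunctor A 0).map ((tS.truncLTι 1).app M')) :=
      (HomologySequence.epi_homologyMap_mor₁_iff _ hT 0).2 ((hz1 0 (by norm_num)).eq_of_tgt _ _)
    exact isIso_of_mono_of_epi _
  · haveI hLE : ((tS.truncLT 1).obj M').IsLE 0 :=
      (tS (A := A)).isLE_truncLT_obj M' 1 0 (by norm_num)
    haveI hGE : ((tS.truncLT 1).obj M').IsGE 0 := by
      refine (DerivedCategory.isGE_iff _ _).2 (fun i hi => ?_)
      haveI := hmono i (by omega)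
      exact IsZero.of_mono ((homologyFunctor A i).map ((tS.truncLTι 1).app M')) (hz0 i hi)
    exact DerivedCategory.exists_iso_singleFunctor_obj_of_isGE_of_isLE _ 0

end Groth.Agent.Lib.TruncSect_helper7
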