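import Mathlib
import Groth.Prelude.Def_CohCx
import Groth.Prelude.Def_FreeSh
import Groth.Prelude.Def_CohSite
import Groth.Prelude.Def_CohTop
import Groth.Agent.Lib.TruncSect_helper7
import Groth.Agent.Lib.TruncRlim_helper7

/-!
# `H^q(U, K) = H^q(K)(U)` when the cohomology sheaves of `K` are acyclic on a covering class (helper7)
-/

set_option autoImplicit false
universe u
open CategoryTheory CategoryTheory.Limits Opposite DerivedCategory Pretriangulated TopologicalSpace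

namespace Groth.Agent.Lib.TruncSectSh_helper7

open Groth.Agent.Lib Groth.Agent.Lib.HDSheaf_helper7 Groth.Agent.Lib.SiteCmpLoc_helper7
  Groth.Agent.Lib.RlimInj_helper7 Groth.Agent.Lib.TruncTower_helper7
  Groth.Agent.Lib.TruncSect_helper7 Groth.Agent.Lib.TruncRlim_helper7

section site

variable {C : Type u} [SmallCategory C] {J : GrothendieckTopology C}
  [HasDerivedCategory.{u} (Sheaf J AddCommGrpCat.{u})]

lemma cover_in_B (B : Set C)
    (hB : ∀ U : C, ∃ (ι : Type u) (Y : ι → C) (f : ∀ i, Y i ⟶ U),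
      Sieve.ofArrows Y f ∈ J U ∧ ∀ i, Y i ∈ B)
    (V : C) (T : Sieve V) (hT : T ∈ J V) :
    ∃ (ι : Type u) (Y : ι → C) (f : ∀ i, Y i ⟶ V), (∀ i, T.arrows (f i)) ∧
      Sieve.ofArrows Y f ∈ J V ∧ ∀ i, Y i ∈ B := by
  choose ιW YW fW hcovW hYW using hB
  refine ⟨Σ (W : C) (_ : {g : W ⟶ V // T g}), ιW W, fun x => YW x.1 x.2.2,
    fun x => fW x.1 x.2.2 ≫ x.2.1.1, ?_, ?_, ?_⟩
  · intro x
    exact T.downward_closed x.2.1.2 _
  · refine J.transitive hT _ (fun W g hg => ?_)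
    refine J.superset_covering ?_ (hcovW W)
    intro W' a ha
    obtain ⟨i, b, rfl⟩ := (Sieve.mem_ofArrows_iff _ _ a).1 ha
    show (Sieve.ofArrows (fun x : Σ (W : C) (_ : {g : W ⟶ V // T g}), ιW W => YW x.1 x.2.2)
      (fun x => fW x.1 x.2.2 ≫ x.2.1.1)) ((b ≫ fW W i) ≫ g)
    rw [Category.assoc]
    exact Sieve.downward_closed _ (Sieve.ofArrows_mk
      (fun x : Σ (W : C) (_ : {g : W ⟶ V // T g}), ιW W => YW x.1 x.2.2)
      (fun x => fW x.1 x.2.2 ≫ x.2.1.1) ⟨W, ⟨g, hg⟩, i⟩) b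
  · intro x
    exact hYW _ _

/-- `etaApp` for a sheaf in degree `0` is bijective -/
lemma etaApp_single_bijective (Y : Sheaf J AddCommGrpCat.{u}) (U : C) :
    Function.Bijective (etaApp ((singleFunctor (Sheaf J AddCommGrpCat.{u}) 0).obj Y) U) := by
  have hcalc : ∀ g : Z J U ⟶ Y,
      etaApp ((singleFunctor (Sheaf J AddCommGrpCat.{u}) 0).obj Y) U
        ((singleFunctor (Sheaf J AddCommGrpCat.{u}) 0).map g) =
      (((sig Y).inv).hom.app (op U)).hom (CohFree.evalGen J U Y g) := by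
    intro g
    refine (etaApp_apply _ U _).trans ?_
    refine (congrArg (CohFree.evalGen J U _) (sig_inv_naturality g)).trans ?_
    rfl
  have hsig := bijective_of_isIso (sig Y).inv U
  constructor
  · intro φ φ' h
    have e1 := ((singleFunctor (Sheaf J AddCommGrpCat.{u}) 0).map_preimage φ)
    have e2 := ((singleFunctor (Sheaf J AddCommGrpCat.{u}) 0).map_preimage φ')
    rw [← e1, ← e2] at h ⊢
    rw [hcalc, hcalc] at h
    have h2 := (CohFree.homEquivSect J U Y).injective (hsig.1 h)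
    rw [h2]
  · intro y
    obtain ⟨s, hs⟩ := hsig.2 y
    refine ⟨(singleFunctor (Sheaf J AddCommGrpCat.{u}) 0).map (CohFree.ofSect J U Y s), ?_⟩
    rw [hcalc, CohFree.evalGen_ofSect]
    exact hs

lemma etaApp_bij_iff {M M' : DerivedCategory (Sheaf J AddCommGrpCat.{u})} (β : M ⟶ M') (U : C)
    (hβ : Function.Bijective
      (fun φ : (singleFunctor (Sheaf J AddCommGrpCat.{u}) 0).obj (Z J U) ⟶ M => φ ≫ β))
    (hiso : IsIso ((homologyFunctor (Sheaf J AddCommGrpCat.{u}) 0).map β)) :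
    Function.Bijective (etaApp M U) ↔ Function.Bijective (etaApp M' U) := by
  have hsq : ⇑(etaApp M' U) ∘
      (fun φ : (singleFunctor (Sheaf J AddCommGrpCat.{u}) 0).obj (Z J U) ⟶ M => φ ≫ β) =
      ⇑(((homologyFunctor (Sheaf J AddCommGrpCat.{u}) 0).map β).hom.app (op U)).hom ∘
        ⇑(etaApp M U) := by
    funext φ
    exact etaApp_comp β U φ
  have hU := bijective_of_isIso ((homologyFunctor (Sheaf J AddCommGrpCat.{u}) 0).map β) U
  constructor
  · intro h
    have h1 : Function.Bijective (⇑(etaApp M' U) ∘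
        (fun φ : (singleFunctor (Sheaf J AddCommGrpCat.{u}) 0).obj (Z J U) ⟶ M => φ ≫ β)) := by
      rw [hsq]
      exact hU.comp h
    exact (Function.Bijective.of_comp_iff _ hβ).1 h1
  · intro h
    have h1 : Function.Bijective
        (⇑(((homologyFunctor (Sheaf J AddCommGrpCat.{u}) 0).map β).hom.app (op U)).hom ∘
          ⇑(etaApp M U)) := by
      rw [← hsq]
      exact h.comp hβ
    exact (Function.Bijective.of_comp_iff' hU _).1 h1

theorem etaApp_bijective (M : DerivedCategory (Sheaf J AddCommGrpCat.{u})) (B : Set C)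
    (hB : ∀ U : C, ∃ (ι : Type u) (Y : ι → C) (f : ∀ i, Y i ⟶ U),
      Sieve.ofArrows Y f ∈ J U ∧ ∀ i, Y i ∈ B)
    (hM : ∀ W ∈ B, ∀ (k : ℕ) (j : ℤ), j < 0 →
      Subsingleton (CohSite.HU (CohCx.HD M j) (k + 1) W))
    (U : C) (hU : U ∈ B) : Function.Bijective (etaApp M U) := by
  haveI : HasProduct (CohCx.truncTower ((tS.truncLT 0).obj M)) :=
    hasProduct_truncTower ((tS.truncLT 0).obj M)
  have hNvan : ∀ W ∈ B, ∀ (j : ℤ) (k : ℕ), 1 ≤ k →
      Subsingleton (CohSite.HU (CohCx.HD ((tS.truncLT 0).obj M) j) k W) := by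
    intro W hW j k hk
    obtain ⟨k', rfl⟩ : ∃ k', k = k' + 1 := ⟨k - 1, by omega⟩
    by_cases hj : j < 0
    · haveI := isIso_homology_truncLTι M 0 j hj
      exact ext_subsingleton_of_iso
        (asIso ((homologyFunctor (Sheaf J AddCommGrpCat.{u}) j).map
          ((tS.truncLTι 0).app M))).symm (k' + 1) (hM W hW k' j hj)
    · exact ext_subsingleton_of_isZero _ (isZero_homology_truncLT M 0 j (by omega)) (k' + 1)
  have hN : CohCx.IsRlimVia (CohCx.truncTower ((tS.truncLT 0).obj M))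
      (CohCx.truncTowerMap ((tS.truncLT 0).obj M)) ((tS.truncLT 0).obj M)
      (CohCx.toTruncTower ((tS.truncLT 0).obj M)) := by
    apply main0881 ((tS.truncLT 0).obj M) B hB
    intro V hV
    refine ⟨fun _ => 0, fun T hT => ?_⟩
    obtain ⟨ι, Y, f, hf, hcov, hYB⟩ := cover_in_B B hB V T hT
    refine ⟨ι, Y, f, hf, hcov, fun i m k hk => ?_⟩
    have hk' : (0 : ℤ) < (k : ℤ) := hk
    exact hNvan (Y i) (hYB i) (m - k) k (by omega)
  have hLE : ((tS.truncLT 0).obj M).IsLE (-1) :=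
    (tS (A := Sheaf J AddCommGrpCat.{u})).isLE_truncLT_obj M 0 (-1) (by norm_num)
  obtain ⟨h0, h1⟩ := hom_vanish (Z J U) ((tS.truncLT 0).obj M) hN hLE
    (fun n k hk => hNvan U hU _ k hk)
  -- Step A
  have hA := bijective_comp_truncGEπ ((singleFunctor (Sheaf J AddCommGrpCat.{u}) 0).obj (Z J U)) M
    h0 h1
  have hisoA : IsIso ((homologyFunctor (Sheaf J AddCommGrpCat.{u}) 0).map
      ((tS.truncGEπ 0).app M)) := isIso_homology_truncGEπ M 0 0 le_rfl
  refine (etaApp_bij_iff (M := M) (M' := (tS.truncGE 0).obj M)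
    ((tS.truncGEπ 0).app M) U hA hisoA).2 ?_
  -- Step B
  have hG : ((singleFunctor (Sheaf J AddCommGrpCat.{u}) 0).obj (Z J U)).IsLE 0 := inferInstance
  have hM' : ((tS.truncGE 0).obj M).IsGE 0 := by
    show (tS (A := Sheaf J AddCommGrpCat.{u})).IsGE ((tS.truncGE 0).obj M) 0
    infer_instance
  obtain ⟨hB1, hB2, Y, ⟨eY⟩⟩ := heart_step
    ((singleFunctor (Sheaf J AddCommGrpCat.{u}) 0).obj (Z J U)) ((tS.truncGE 0).obj M) hG hM'
  refine (etaApp_bij_iff (M := (tS.truncLT 1).obj ((tS.truncGE 0).obj M))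
    (M' := (tS.truncGE 0).obj M) ((tS.truncLTι 1).app ((tS.truncGE 0).obj M)) U hB1 hB2).1 ?_
  -- heart
  have hC : Function.Bijective
      (fun φ : (singleFunctor (Sheaf J AddCommGrpCat.{u}) 0).obj (Z J U) ⟶
        (tS.truncLT 1).obj ((tS.truncGE 0).obj M) => φ ≫ eY.hom) := by
    refine Function.bijective_iff_has_inverse.2 ⟨fun ψ => ψ ≫ eY.inv, fun φ => ?_, fun ψ => ?_⟩
    · show (φ ≫ eY.hom) ≫ eY.inv = φ
      rw [Category.assoc, Iso.hom_inv_id, Category.comp_id]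
    · show (ψ ≫ eY.inv) ≫ eY.hom = ψ
      rw [Category.assoc, Iso.inv_hom_id, Category.comp_id]
  exact (etaApp_bij_iff eY.hom U hC inferInstance).2 (etaApp_single_bijective Y U)

theorem main0877
    (K : DerivedCategory (Sheaf J AddCommGrpCat.{u})) (B : Set C)
    (hB : ∀ U : C, ∃ (ι : Type u) (Y : ι → C) (f : ∀ i, Y i ⟶ U),
      Sieve.ofArrows Y f ∈ J U ∧ ∀ i, Y i ∈ B)
    (h : ∀ U ∈ B, ∀ (p : ℕ) (q : ℤ), Subsingleton (CohSite.HU (CohCx.HD K q) (p + 1) U))
    (U : C) (hU : U ∈ B) (q : ℤ) :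
    Nonempty (CohCx.HDU K q U ≃+ (CohCx.HD K q).obj.obj (op U)) := by
  have hM : ∀ W ∈ B, ∀ (k : ℕ) (j : ℤ), j < 0 →
      Subsingleton (CohSite.HU (CohCx.HD (K⟦q⟧) j) (k + 1) W) := by
    intro W hW k j _
    exact ext_subsingleton_of_iso
      (((homologyFunctor (Sheaf J AddCommGrpCat.{u}) 0).shiftIso q j (q + j) rfl).app K).symm
      (k + 1) (h W hW k (q + j))
  have hbij := etaApp_bijective (K⟦q⟧) B hB hM U hU
  have hE := bijective_of_isIso
    (((homologyFunctor (Sheaf J AddCommGrpCat.{u}) 0).shiftIso q 0 q (add_zero q)).app K).hom U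
  let e1 : CohCx.HDU K q U ≃+
      ((homologyFunctor (Sheaf J AddCommGrpCat.{u}) 0).obj (K⟦q⟧)).obj.obj (op U) :=
    AddEquiv.ofBijective (etaApp (K⟦q⟧) U) hbij
  let e2 : ((homologyFunctor (Sheaf J AddCommGrpCat.{u}) 0).obj (K⟦q⟧)).obj.obj (op U) ≃+
      (CohCx.HD K q).obj.obj (op U) :=
    AddEquiv.ofBijective
      ((((homologyFunctor (Sheaf J AddCommGrpCat.{u}) 0).shiftIso q 0 q
        (add_zero q)).app K).hom.hom.app (op U)).hom hE
  exact ⟨e1.trans e2⟩

end site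

section top

variable {X : TopCat.{u}}
  [HasDerivedCategory.{u} (Sheaf (Opens.grothendieckTopology X) AddCommGrpCat.{u})]

lemma basis_cover (B : Set (Opens X)) (hB : Opens.IsBasis B) :
    ∀ U : Opens X, ∃ (ι : Type u) (Y : ι → Opens X) (f : ∀ i, Y i ⟶ U),
      Sieve.ofArrows Y f ∈ Opens.grothendieckTopology X U ∧ ∀ i, Y i ∈ B := by
  intro U
  refine ⟨{V : Opens X // V ∈ B ∧ V ≤ U}, fun i => i.1, fun i => homOfLE i.2.2, ?_,
    fun i => i.2.1⟩
  intro x hx
  obtain ⟨V, hVB, hxV, hVU⟩ := Opens.isBasis_iff_nbhd.1 hB hx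
  exact ⟨V, homOfLE hVU, Sieve.ofArrows_mk (fun i : {V : Opens X // V ∈ B ∧ V ≤ U} => i.1)
    (fun i => homOfLE i.2.2) ⟨V, hVB, hVU⟩, hxV⟩

theorem main0868 (K : DerivedCategory (Sheaf (Opens.grothendieckTopology X) AddCommGrpCat.{u}))
    (B : Set (Opens X)) (hB : Opens.IsBasis B)
    (h : ∀ U ∈ B, ∀ (p : ℕ) (q : ℤ), Subsingleton (CohTop.HU (CohCx.HD K q) (p + 1) U))
    (U : Opens X) (hU : U ∈ B) (q : ℤ) :
    Nonempty (CohCx.HDU K q U ≃+ (CohCx.HD K q).obj.obj (op U)) :=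
  main0877 K B (basis_cover B hB) h U hU q

end top

end Groth.Agent.Lib.TruncSectSh_helper7
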