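import Mathlib
import Groth.Prelude.Def_CohCx
import Groth.Agent.Lib.DSect1_lead
import Groth.Agent.Lib.TruncSect_helper7
import Groth.Agent.Lib.TruncSectSh_helper7

/-!
# `E ≅ R lim τ_{≥ -n} E` and `Hom(P_U[0], K⟦q⟧) ≃ Γ(U, H^q K)` for section data (lead)

Generic version of helper7's `TruncRlim` / `TruncSectSh`.
-/

set_option autoImplicit false
set_option maxHeartbeats 1600000
universe w'' w u
open CategoryTheory CategoryTheory.Limits Opposite DerivedCategory Pretriangulated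

namespace Groth.Agent.Lib.DSectL

open Groth.Agent.Lib Groth.Agent.Lib.TruncTower_helper7 Groth.Agent.Lib.TruncSect_helper7

section Site

lemma cover_in_B' {C : Type u} [SmallCategory C] {J : GrothendieckTopology C} (B : Set C)
    (hB : ∀ U : C, ∃ (ι : Type u) (Y : ι → C) (f : ∀ i, Y i ⟶ U),
      Sieve.ofArrows Y f ∈ J U ∧ ∀ i, Y i ∈ B)
    (V : C) (T : Sieve V) (hT : T ∈ J V) :
    ∃ (ι : Type u) (Y : ι → C) (f : ∀ i, Y i ⟶ V), (∀ i, T.arrows (f i)) ∧
      Sieve.ofArrows Y f ∈ J V ∧ ∀ i, Y i ∈ B := by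
  choose ιW YW fW hcovW hYW using hB
  refine ⟨Σ (W : C) (_ : {g : W ⟶ V // T g}), ιW W, fun x => YW x.1 x.2.2,
    fun x => fW x.1 x.2.2 ≫ x.2.1.1, ?_, ?_, ?_⟩
  · intro x
    exact T.downward_closed x.2.1.2 _
  · refine J.transitive hT _ (fun W g hg => ?_)
    refine J.superset_covering ?_ (hcovW W)
    intro W' a ha
    obtain ⟨i, b, rfl⟩ := (Sieve.mem_ofArrows_iff _ _ a).1 ha
    show (Sieve.ofArrows (fun x : Σ (W : C) (_ : {g : W ⟶ V // T g}), ιW W => YW x.1 x.2.2)
      (fun x => fW x.1 x.2.2 ≫ x.2.1.1)) ((b ≫ fW W i) ≫ g)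
    rw [Category.assoc]
    exact Sieve.downward_closed _ (Sieve.ofArrows_mk
      (fun x : Σ (W : C) (_ : {g : W ⟶ V // T g}), ιW W => YW x.1 x.2.2)
      (fun x => fW x.1 x.2.2 ≫ x.2.1.1) ⟨W, ⟨g, hg⟩, i⟩) b
  · intro x
    exact hYW _ _

lemma bijective_of_isIso' {C : Type u} [SmallCategory C] {J : GrothendieckTopology C}
    {P Q : Sheaf J AddCommGrpCat.{u}} (θ : P ⟶ Q) [IsIso θ] (V : C) :
    Function.Bijective (θ.hom.app (op V)).hom := by
  refine Function.bijective_iff_has_inverse.2 ⟨((inv θ).hom.app (op V)).hom, fun x => ?_, fun x => ?_⟩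
  · exact congrArg (fun κ => (κ.hom.app (op V)).hom x) (IsIso.hom_inv_id θ)
  · exact congrArg (fun κ => (κ.hom.app (op V)).hom x) (IsIso.inv_hom_id θ)

theorem isIso_of_bijective_on' {C : Type u} [SmallCategory C] {J : GrothendieckTopology C}
    {P Q : Sheaf J AddCommGrpCat.{u}} (ψ : P ⟶ Q) (B : Set C)
    (hB : ∀ U : C, ∃ (ι : Type u) (Y : ι → C) (f : ∀ i, Y i ⟶ U),
      Sieve.ofArrows Y f ∈ J U ∧ ∀ i, Y i ∈ B)
    (h : ∀ V ∈ B, Function.Bijective (ψ.hom.app (op V)).hom) : IsIso ψ := by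
  have hinj : ∀ U : C, Function.Injective (ψ.hom.app (op U)).hom := by
    intro U
    refine (injective_iff_map_eq_zero (ψ.hom.app (op U)).hom).2 (fun s hs => ?_)
    obtain ⟨ι, Y, f, hcov, hY⟩ := hB U
    apply eq_zero_of_cover' P (Sieve.ofArrows Y f) hcov s
    intro W g hg
    obtain ⟨i, b, rfl⟩ := (Sieve.mem_ofArrows_iff _ _ g).1 hg
    have h1 : (P.obj.map (f i).op).hom s = 0 := by
      apply (h (Y i) (hY i)).1
      have hnat := ConcreteCategory.congr_hom (ψ.hom.naturality (f i).op) s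
      refine hnat.trans ?_
      exact ((congrArg (Q.obj.map (f i).op).hom hs).trans (map_zero _)).trans (map_zero _).symm
    have h2 := ConcreteCategory.congr_hom (P.obj.map_comp (f i).op b.op) s
    refine h2.trans ?_
    exact (congrArg (P.obj.map b.op).hom h1).trans (map_zero _)
  haveI : Mono ψ := by
    haveI : ∀ X : Cᵒᵖ, Mono (ψ.hom.app X) := fun X =>
      (AddCommGrpCat.mono_iff_injective _).2 (hinj X.unop)
    haveI : Mono ψ.hom := NatTrans.mono_of_mono_app _
    exact Sheaf.Hom.mono_of_presheaf_mono J _ ψ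
  haveI : Presheaf.IsLocallySurjective J ψ.hom := by
    refine ⟨fun {U} s => ?_⟩
    obtain ⟨ι, Y, fY, hcov, hYB⟩ := hB U
    refine J.superset_covering ?_ hcov
    intro V g hg
    obtain ⟨i, a, rfl⟩ := (Sieve.mem_ofArrows_iff _ _ g).1 hg
    refine Sieve.downward_closed _ ?_ a
    obtain ⟨x, hx⟩ := (h (Y i) (hYB i)).2 ((Q.obj.map (fY i).op).hom s)
    exact ⟨x, hx⟩
  haveI : Epi ψ := (Sheaf.isLocallySurjective_iff_epi' _ ψ).1 inferInstance
  exact isIso_of_mono_of_epi ψ

end Site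

section Main

variable {C : Type u} [SmallCategory C] {J : GrothendieckTopology C}
  {A : Type (u + 1)} [Category.{u} A] [Abelian A] [HasDerivedCategory.{w} A] (D : SD C J A)

/-- the tower step: consequences of vanishing of `Ext^k(P_W, H^{m-k}E)` -/
lemma site_step [HasExt.{w''} A] (E : DerivedCategory A) (W : C) (m : ℤ) (p : ℤ → ℤ)
    (hW : ∀ (m' : ℤ) (k : ℕ), p m' < k →
      Subsingleton (Abelian.Ext.{w''} (D.P.obj W) ((homologyFunctor A (m' - k)).obj E) k))
    (nV : ℕ) (hn1 : -m ≤ (nV : ℤ)) (hn2 : p m - m ≤ (nV : ℤ)) (n : ℕ) (hn : nV ≤ n) :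
    Function.Injective (Preadditive.rightComp ((singleFunctor A 0).obj (D.P.obj W))
      ((CohCx.truncTowerMap E n)⟦m⟧')) ∧
    Function.Surjective (Preadditive.rightComp ((singleFunctor A 0).obj (D.P.obj W))
      ((CohCx.truncTowerMap E n)⟦m - 1⟧')) := by
  have hk : ((((n : ℤ) + 1 + m).toNat : ℕ) : ℤ) = n + 1 + m := Int.toNat_of_nonneg (by omega)
  exact tower_step E n (D.P.obj W) m ((n : ℤ) + 1 + m).toNat hk
    (m - ((((n : ℤ) + 1 + m).toNat : ℕ) : ℤ)) (by omega) (hW m _ (by omega))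

/-- conditions (1), (2) of the injectivity lemma from the tower step -/
lemma site_conditions (E : DerivedCategory A) (G : DerivedCategory A) (m : ℤ) (nV : ℕ)
    (hstep : ∀ n, nV ≤ n →
      Function.Injective (Preadditive.rightComp G ((CohCx.truncTowerMap E n)⟦m⟧')) ∧
      Function.Surjective (Preadditive.rightComp G ((CohCx.truncTowerMap E n)⟦m - 1⟧'))) :
    CohCx.LimOneIsZero (fun n => (G ⟶ (CohCx.truncTower E n)⟦m - 1⟧))
      (fun n => Preadditive.rightComp G ((CohCx.truncTowerMap E n)⟦m - 1⟧')) ∧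
    ∀ k : ℕ, Function.Injective
      (Preadditive.rightComp G
        ((CohCx.transition (CohCx.truncTower E) (CohCx.truncTowerMap E) nV k)⟦m⟧') :
        (G ⟶ (CohCx.truncTower E (nV + k))⟦m⟧) → (G ⟶ (CohCx.truncTower E nV)⟦m⟧)) := by
  constructor
  · apply limOne_of_eventually_surj nV
    intro n hn
    exact (hstep n hn).2
  · intro k
    induction k with
    | zero =>
      intro σ σ' hσ
      have h0 : ∀ ρ : (G ⟶ (CohCx.truncTower E (nV + 0))⟦m⟧),
          (Preadditive.rightComp G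
            ((CohCx.transition (CohCx.truncTower E) (CohCx.truncTowerMap E) nV 0)⟦m⟧')) ρ = ρ := by
        intro ρ
        have e : (𝟙 (CohCx.truncTower E nV))⟦m⟧' = 𝟙 _ := CategoryTheory.Functor.map_id _ _
        show ρ ≫ (𝟙 (CohCx.truncTower E nV))⟦m⟧' = ρ
        exact (congrArg (fun z => ρ ≫ z) e).trans (Category.comp_id ρ)
      exact (h0 σ).symm.trans (hσ.trans (h0 σ'))
    | succ k ih =>
      intro σ σ' hσ
      have hcomp : ∀ ρ : (G ⟶ (CohCx.truncTower E (nV + (k + 1)))⟦m⟧),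
          (Preadditive.rightComp G
            ((CohCx.transition (CohCx.truncTower E) (CohCx.truncTowerMap E) nV (k + 1))⟦m⟧')) ρ =
          (Preadditive.rightComp G
            ((CohCx.transition (CohCx.truncTower E) (CohCx.truncTowerMap E) nV k)⟦m⟧'))
            (ρ ≫ (CohCx.truncTowerMap E (nV + k))⟦m⟧') := by
        intro ρ
        show ρ ≫ (CohCx.truncTowerMap E (nV + k) ≫
          CohCx.transition (CohCx.truncTower E) (CohCx.truncTowerMap E) nV k)⟦m⟧' =
          (ρ ≫ (CohCx.truncTowerMap E (nV + k))⟦m⟧') ≫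
            (CohCx.transition (CohCx.truncTower E) (CohCx.truncTowerMap E) nV k)⟦m⟧'
        rw [CategoryTheory.Functor.map_comp, Category.assoc]
      have h1 := (hcomp σ).symm.trans (hσ.trans (hcomp σ'))
      exact (hstep (nV + k) (by omega)).1 (ih h1)

theorem rlim_trunc [HasExt.{w''} A]
    (E : DerivedCategory A) [HasProduct (CohCx.truncTower E)] (B : Set C)
    (hB : ∀ U : C, ∃ (ι : Type u) (Y : ι → C) (f : ∀ i, Y i ⟶ U),
      Sieve.ofArrows Y f ∈ J U ∧ ∀ i, Y i ∈ B)
    (h : ∀ V ∈ B, ∃ p : ℤ → ℤ, ∀ T ∈ J V, ∃ (ι : Type u) (Y : ι → C) (f : ∀ i, Y i ⟶ V),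
      (∀ i, T.arrows (f i)) ∧ Sieve.ofArrows Y f ∈ J V ∧
      ∀ (i : ι) (m : ℤ) (k : ℕ), p m < k →
        Subsingleton (Abelian.Ext.{w''} (D.P.obj (Y i)) ((homologyFunctor A (m - k)).obj E) k)) :
    CohCx.IsRlimVia (CohCx.truncTower E) (CohCx.truncTowerMap E) E (CohCx.toTruncTower E) := by
  apply isRlimVia_of_forall_isIso
  intro R a' hR φ hφ
  rw [DerivedCategory.isIso_iff]
  intro m
  apply D.isoΓ
  apply isIso_of_bijective_on' _ B hB
  intro V hV
  obtain ⟨p, hp⟩ := h V hV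
  obtain ⟨nV, hn1, hn2⟩ : ∃ nV : ℕ, -m ≤ (nV : ℤ) ∧ p m - m ≤ (nV : ℤ) :=
    ⟨(max (-m) (p m - m)).toNat, (le_max_left _ _).trans (Int.self_le_toNat _),
      (le_max_right _ _).trans (Int.self_le_toNat _)⟩
  have hinj : Function.Injective
      ((D.Γ.map ((homologyFunctor A m).map (a' nV))).hom.app (op V)).hom := by
    apply inj_Hm D (CohCx.truncTower E) (CohCx.truncTowerMap E) R a' hR V m nV
    intro T hT
    obtain ⟨ι, Y, f, hf, hcov, hvan⟩ := hp T hT
    refine ⟨ι, Y, f, hf, hcov, fun i => ?_⟩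
    exact site_conditions E _ m nV (fun n hn =>
      site_step D E (Y i) m p (fun m' k hk => hvan i m' k hk) nV hn1 hn2 n hn)
  have hcomp : (homologyFunctor A m).map φ ≫ (homologyFunctor A m).map (a' nV) =
      (homologyFunctor A m).map (CohCx.toTruncTower E nV) := by
    rw [← CategoryTheory.Functor.map_comp, hφ]
  haveI hisoπ : IsIso ((homologyFunctor A m).map (CohCx.toTruncTower E nV)) :=
    isIso_homology_truncGEπ E (-(nV : ℤ)) m (by omega)
  have hbij := bijective_Γ_of_isIso D ((homologyFunctor A m).map (CohCx.toTruncTower E nV)) V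
  have hcompV : ∀ x, ((D.Γ.map ((homologyFunctor A m).map (a' nV))).hom.app (op V)).hom
      (((D.Γ.map ((homologyFunctor A m).map φ)).hom.app (op V)).hom x) =
      ((D.Γ.map ((homologyFunctor A m).map (CohCx.toTruncTower E nV))).hom.app (op V)).hom x :=
    fun x => tri_apply D _ _ _ hcomp V x
  constructor
  · intro x y hxy
    have h1 := congrArg ((D.Γ.map ((homologyFunctor A m).map (a' nV))).hom.app (op V)).hom hxy
    exact hbij.1 ((hcompV x).symm.trans (h1.trans (hcompV y)))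
  · intro y
    obtain ⟨x, hx⟩ := hbij.2 (((D.Γ.map ((homologyFunctor A m).map (a' nV))).hom.app (op V)).hom y)
    refine ⟨x, hinj ?_⟩
    exact (hcompV x).trans hx

/-- `etaA` for an object in degree `0` is bijective -/
lemma etaA_single_bijective (Y : A) (U : C) :
    Function.Bijective (etaA D ((singleFunctor A 0).obj Y) U) := by
  have hcalc : ∀ g : D.P.obj U ⟶ Y,
      etaA D ((singleFunctor A 0).obj Y) U ((singleFunctor A 0).map g) =
      ((D.Γ.map (sigA Y).inv).hom.app (op U)).hom (D.ev U Y g) := by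
    intro g
    refine (etaA_apply D _ U _).trans ?_
    refine (congrArg (D.ev U _) (sigA_inv_naturality g)).trans ?_
    exact D.ev_comp U g (sigA Y).inv
  have hsig := bijective_Γ_of_isIso D (sigA Y).inv U
  constructor
  · intro φ φ' h
    have e1 := ((singleFunctor A 0).map_preimage φ)
    have e2 := ((singleFunctor A 0).map_preimage φ')
    rw [← e1, ← e2] at h ⊢
    rw [hcalc, hcalc] at h
    have h2 := (D.ev U Y).injective (hsig.1 h)
    rw [h2]
  · intro y
    obtain ⟨s, hs⟩ := hsig.2 y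
    refine ⟨(singleFunctor A 0).map ((D.ev U Y).symm s), ?_⟩
    rw [hcalc, AddEquiv.apply_symm_apply]
    exact hs

lemma etaA_bij_iff {M M' : DerivedCategory A} (β : M ⟶ M') (U : C)
    (hβ : Function.Bijective
      (fun φ : (singleFunctor A 0).obj (D.P.obj U) ⟶ M => φ ≫ β))
    (hiso : IsIso ((homologyFunctor A 0).map β)) :
    Function.Bijective (etaA D M U) ↔ Function.Bijective (etaA D M' U) := by
  have hsq : ⇑(etaA D M' U) ∘
      (fun φ : (singleFunctor A 0).obj (D.P.obj U) ⟶ M => φ ≫ β) =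
      ⇑((D.Γ.map ((homologyFunctor A 0).map β)).hom.app (op U)).hom ∘ ⇑(etaA D M U) := by
    funext φ
    exact etaA_comp D β U φ
  have hU := bijective_Γ_of_isIso D ((homologyFunctor A 0).map β) U
  constructor
  · intro h
    have h1 : Function.Bijective (⇑(etaA D M' U) ∘
        (fun φ : (singleFunctor A 0).obj (D.P.obj U) ⟶ M => φ ≫ β)) := by
      rw [hsq]
      exact hU.comp h
    exact (Function.Bijective.of_comp_iff _ hβ).1 h1
  · intro h
    have h1 : Function.Bijective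
        (⇑((D.Γ.map ((homologyFunctor A 0).map β)).hom.app (op U)).hom ∘ ⇑(etaA D M U)) := by
      rw [← hsq]
      exact h.comp hβ
    exact (Function.Bijective.of_comp_iff' hU _).1 h1

theorem etaA_bijective [HasExt.{w''} A] [EnoughInjectives A] [HasProductsOfShape ℕ A]
    (M : DerivedCategory A) (B : Set C)
    (hB : ∀ U : C, ∃ (ι : Type u) (Y : ι → C) (f : ∀ i, Y i ⟶ U),
      Sieve.ofArrows Y f ∈ J U ∧ ∀ i, Y i ∈ B)
    (hM : ∀ W ∈ B, ∀ (k : ℕ) (j : ℤ), j < 0 →
      Subsingleton (Abelian.Ext.{w''} (D.P.obj W) ((homologyFunctor A j).obj M) (k + 1)))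
    (U : C) (hU : U ∈ B) : Function.Bijective (etaA D M U) := by
  haveI : HasProduct (CohCx.truncTower ((tS.truncLT 0).obj M)) :=
    hasProduct_truncTower ((tS.truncLT 0).obj M)
  have hNvan : ∀ W ∈ B, ∀ (j : ℤ) (k : ℕ), 1 ≤ k →
      Subsingleton (Abelian.Ext.{w''} (D.P.obj W)
        ((homologyFunctor A j).obj ((tS.truncLT 0).obj M)) k) := by
    intro W hW j k hk
    obtain ⟨k', rfl⟩ : ∃ k', k = k' + 1 := ⟨k - 1, by omega⟩
    by_cases hj : j < 0
    · haveI := isIso_homology_truncLTι M 0 j hj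
      exact ext_subsingleton_of_iso
        (asIso ((homologyFunctor A j).map ((tS.truncLTι 0).app M))).symm (k' + 1)
        (hM W hW k' j hj)
    · exact ext_subsingleton_of_isZero _ (isZero_homology_truncLT M 0 j (by omega)) (k' + 1)
  have hN : CohCx.IsRlimVia (CohCx.truncTower ((tS.truncLT 0).obj M))
      (CohCx.truncTowerMap ((tS.truncLT 0).obj M)) ((tS.truncLT 0).obj M)
      (CohCx.toTruncTower ((tS.truncLT 0).obj M)) := by
    apply rlim_trunc D ((tS.truncLT 0).obj M) B hB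
    intro V hV
    refine ⟨fun _ => 0, fun T hT => ?_⟩
    obtain ⟨ι, Y, f, hf, hcov, hYB⟩ := cover_in_B' B hB V T hT
    refine ⟨ι, Y, f, hf, hcov, fun i m k hk => ?_⟩
    have hk' : (0 : ℤ) < (k : ℤ) := hk
    exact hNvan (Y i) (hYB i) (m - k) k (by omega)
  have hLE : ((tS.truncLT 0).obj M).IsLE (-1) :=
    (tS (A := A)).isLE_truncLT_obj M 0 (-1) (by norm_num)
  obtain ⟨h0, h1⟩ := hom_vanish (D.P.obj U) ((tS.truncLT 0).obj M) hN hLE
    (fun n k hk => hNvan U hU _ k hk)
  -- Step A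
  have hA := bijective_comp_truncGEπ ((singleFunctor A 0).obj (D.P.obj U)) M h0 h1
  have hisoA : IsIso ((homologyFunctor A 0).map ((tS.truncGEπ 0).app M)) :=
    isIso_homology_truncGEπ M 0 0 le_rfl
  refine (etaA_bij_iff D (M := M) (M' := (tS.truncGE 0).obj M)
    ((tS.truncGEπ 0).app M) U hA hisoA).2 ?_
  -- Step B
  have hG : ((singleFunctor A 0).obj (D.P.obj U)).IsLE 0 := inferInstance
  have hM' : ((tS.truncGE 0).obj M).IsGE 0 := by
    show (tS (A := A)).IsGE ((tS.truncGE 0).obj M) 0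
    infer_instance
  obtain ⟨hB1, hB2, Y, ⟨eY⟩⟩ := heart_step
    ((singleFunctor A 0).obj (D.P.obj U)) ((tS.truncGE 0).obj M) hG hM'
  refine (etaA_bij_iff D (M := (tS.truncLT 1).obj ((tS.truncGE 0).obj M))
    (M' := (tS.truncGE 0).obj M) ((tS.truncLTι 1).app ((tS.truncGE 0).obj M)) U hB1 hB2).1 ?_
  -- heart
  have hC : Function.Bijective
      (fun φ : (singleFunctor A 0).obj (D.P.obj U) ⟶
        (tS.truncLT 1).obj ((tS.truncGE 0).obj M) => φ ≫ eY.hom) := by
    refine Function.bijective_iff_has_inverse.2 ⟨fun ψ => ψ ≫ eY.inv, fun φ => ?_, fun ψ => ?_⟩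
    · show (φ ≫ eY.hom) ≫ eY.inv = φ
      rw [Category.assoc, Iso.hom_inv_id, Category.comp_id]
    · show (ψ ≫ eY.inv) ≫ eY.hom = ψ
      rw [Category.assoc, Iso.inv_hom_id, Category.comp_id]
  exact (etaA_bij_iff D eY.hom U hC inferInstance).2 (etaA_single_bijective D Y U)

/-- `Hom_{D(A)}(P_U[0], K⟦q⟧) ≃ Γ(U, H⁰(K⟦q⟧))` when the cohomology objects of `K` are acyclic for
the test objects of a covering class. -/
theorem etaA_shift_bijective [HasExt.{w''} A] [EnoughInjectives A] [HasProductsOfShape ℕ A]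
    (K : DerivedCategory A) (B : Set C)
    (hB : ∀ U : C, ∃ (ι : Type u) (Y : ι → C) (f : ∀ i, Y i ⟶ U),
      Sieve.ofArrows Y f ∈ J U ∧ ∀ i, Y i ∈ B)
    (h : ∀ U ∈ B, ∀ (p : ℕ) (q : ℤ),
      Subsingleton (Abelian.Ext.{w''} (D.P.obj U) ((homologyFunctor A q).obj K) (p + 1)))
    (U : C) (hU : U ∈ B) (q : ℤ) : Function.Bijective (etaA D (K⟦q⟧) U) := by
  have hM : ∀ W ∈ B, ∀ (k : ℕ) (j : ℤ), j < 0 →
      Subsingleton (Abelian.Ext.{w''} (D.P.obj W) ((homologyFunctor A j).obj (K⟦q⟧)) (k + 1)) := by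
    intro W hW k j _
    exact ext_subsingleton_of_iso
      (((homologyFunctor A 0).shiftIso q j (q + j) rfl).app K).symm
      (k + 1) (h W hW k (q + j))
  exact etaA_bijective D (K⟦q⟧) B hB hM U hU

end Main

end Groth.Agent.Lib.DSectL
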