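import Mathlib
import Groth.Prelude
import Groth.Agent.Lib.DSect2_lead
import Groth.Agent.Lib.ModFreeMono_helper2
import Groth.Agent.Lib.ModSite1_helper8
import Groth.Agent.Lib.AffVanish_helper9
import Groth.Agent.Lib.ExtAcyclicClass_helper2
import Groth.Agent.Lib.SheafOfModulesGrothendieck_helper2

/-!
# Section data for `O_X`-modules on a scheme; Serre vanishing in `Ext` form; consequences (lead)

* `sdX X : SD (Opens X) _ X.Modules`: test objects `PX X U` (free module on the representable
  presheaf of `U`, i.e. `j_! O_U`), with `Hom(PX U, N) ≃+ Γ(U, N)`.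
* `ext_PX_subsingleton`: `Ext^{n+1}(PX U, F) = 0` for `U` affine and `F` quasi-coherent.
* `etaX_bijective`: for `M ∈ D(O_X)` with `H^j(M)` quasi-coherent for `j < 0` and `U` affine,
  `Hom_{D(O_X)}(PX U [0], M) → Γ(U, H⁰(M))` is bijective.
* `isRlimVia_truncTower`: for `E ∈ D_QCoh(O_X)`, `E ≅ R lim τ_{≥ -n} E`.
-/

set_option autoImplicit false
set_option linter.all false
set_option maxHeartbeats 1600000
set_option backward.isDefEq.respectTransparency false
set_option backward.isDefEq.respectTransparency.types false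
set_option backward.defeqAttrib.useBackward true

universe w'' u
open CategoryTheory CategoryTheory.Limits AlgebraicGeometry TopologicalSpace Opposite
open DerivedCategory CategoryTheory.Pretriangulated
attribute [local instance] HasDerivedCategory.standard

namespace Groth.Agent.Lib.DSectX

open Groth.Agent.Lib.DSectL Groth.Agent.Lib

variable (X : Scheme.{u})

/-- the underlying abelian sheaf functor -/
noncomputable abbrev ΓX : X.Modules ⥤ Sheaf (Opens.grothendieckTopology X) AddCommGrpCat.{u} :=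
  SheafOfModules.toSheaf X.ringCatSheaf

/-- the test objects: free modules on representable presheaves (`j_! O_U`) -/
noncomputable def PX : X.Opens ⥤ X.Modules :=
  yoneda ⋙ ModFree.L₁ X.ringCatSheaf

/-- `Hom(PX U, N) ≃+ Γ(U, N)` -/
noncomputable def evX (U : X.Opens) (N : X.Modules) :
    ((PX X).obj U ⟶ N) ≃+ ((ΓX X).obj N).obj.obj (op U) :=
  (ModFree.E X.ringCatSheaf (yoneda.obj U) N).trans
    (CohFree.homEquivSect (Opens.grothendieckTopology X) U ((ΓX X).obj N))

lemma evX_apply (U : X.Opens) (N : X.Modules) (g : (PX X).obj U ⟶ N) :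
    evX X U N g = CohFree.evalGen (Opens.grothendieckTopology X) U ((ΓX X).obj N)
      (ModFree.E₀ X.ringCatSheaf (yoneda.obj U) N g) := rfl

lemma evX_comp (U : X.Opens) {N N' : X.Modules} (g : (PX X).obj U ⟶ N) (k : N ⟶ N') :
    evX X U N' (g ≫ k) = (((ΓX X).map k).hom.app (op U)).hom (evX X U N g) := by
  rw [evX_apply, evX_apply]
  have h := ModFree.E₀_comp X.ringCatSheaf (yoneda.obj U) g k
  exact congrArg (CohFree.evalGen (Opens.grothendieckTopology X) U ((ΓX X).obj N')) h

lemma evX_map {U V : X.Opens} (i : V ⟶ U) (N : X.Modules) (g : (PX X).obj U ⟶ N) :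
    evX X V N ((PX X).map i ≫ g) = (((ΓX X).obj N).obj.map i.op).hom (evX X U N g) := by
  rw [evX_apply, evX_apply]
  have h := ModFree.E₀_map_comp X.ringCatSheaf (yoneda.map i) N g
  exact (congrArg (CohFree.evalGen (Opens.grothendieckTopology X) V ((ΓX X).obj N)) h).trans
    (CohFree.evalGen_freeSheafMap_comp (Opens.grothendieckTopology X) i ((ΓX X).obj N) _)

instance : (ΓX X).Additive :=
  inferInstanceAs (SheafOfModules.toSheaf.{u} X.ringCatSheaf).Additive

instance : (ΓX X).PreservesZeroMorphisms where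
  map_zero := fun A B => rfl

instance : PreservesFiniteLimits (ΓX X) :=
  inferInstanceAs (PreservesFiniteLimits (SheafOfModules.toSheaf.{u} X.ringCatSheaf))

instance : (ΓX X).ReflectsIsomorphisms :=
  inferInstanceAs (SheafOfModules.toSheaf.{u} X.ringCatSheaf).ReflectsIsomorphisms

instance : PreservesFiniteColimits (ΓX X) := by
  haveI := ModSiteH8.toSheaf_preservesColimitsOfSize X.ringCatSheaf
  exact ⟨fun _ _ _ => inferInstance⟩

/-- the section data of a scheme -/
noncomputable def sdX : SD X.Opens (Opens.grothendieckTopology X) X.Modules where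
  Γ := ΓX X
  epiΓ := fun f hf => by
    haveI := hf
    exact (ΓX X).map_epi f
  isoΓ := fun f hf => by
    haveI := hf
    exact isIso_of_reflects_iso f (ΓX X)
  P := PX X
  ev := evX X
  ev_comp := fun U _ _ g k => evX_comp X U g k
  ev_map := fun i N g => evX_map X i N g

/-! ### Serre vanishing -/

variable {X}

lemma mv_of_injective (I : X.Modules) [Injective I] : AffVanish.MV ((ΓX X).obj I) := by
  intro W hW f g hfg s
  haveI hmono : Mono (homOfLE
      (inf_le_left : X.basicOpen f ⊓ X.basicOpen g ≤ X.basicOpen f)) :=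
    ⟨fun _ _ _ => Subsingleton.elim _ _⟩
  obtain ⟨a, ha⟩ := ModFree.surjective_map_of_mono X.ringCatSheaf I
    (homOfLE (inf_le_left : X.basicOpen f ⊓ X.basicOpen g ≤ X.basicOpen f)) s
  refine ⟨a, 0, ?_⟩
  rw [map_zero, sub_zero]
  exact ha

theorem ext_PX_eq_zero [HasExt.{w''} X.Modules] (U : X.Opens) (hU : IsAffineOpen U)
    (F : X.Modules) (hF : AffVanish.MV ((ΓX X).obj F)) (n : ℕ)
    (ξ : Abelian.Ext.{w''} ((PX X).obj U) F (n + 1)) : ξ = 0 := by
  haveI := FunctorialInjective.isGrothendieckAbelian_sheafOfModules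
    (Opens.grothendieckTopology X) X.ringCatSheaf
  haveI : IsGrothendieckAbelian.{u} X.Modules :=
    FunctorialInjective.isGrothendieckAbelian_sheafOfModules
      (Opens.grothendieckTopology X) X.ringCatSheaf
  refine ExtAcyclic.ext_eq_zero_of_class ((PX X).obj U)
    (fun M : X.Modules => AffVanish.MV ((ΓX X).obj M)) ?_ ?_ ?_ n F hF ξ
  · intro I hI
    haveI := hI
    exact mv_of_injective I
  · intro S hS h1 h2
    let S' : ShortComplex (Sheaf (Opens.grothendieckTopology X) AddCommGrpCat.{u}) :=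
      S.map (ΓX X)
    have hS' : S'.ShortExact := hS.map_of_exact (ΓX X)
    exact AffVanish.MV_X₃ (S := S') hS' h1 h2
  · intro S hS h1 φ
    let S' : ShortComplex (Sheaf (Opens.grothendieckTopology X) AddCommGrpCat.{u}) :=
      S.map (ΓX X)
    have hS' : S'.ShortExact := hS.map_of_exact (ΓX X)
    obtain ⟨y, hy⟩ := AffVanish.surj_of_MV (S := S') hS' h1 hU (evX X U S.X₃ φ)
    refine ⟨(evX X U S.X₂).symm y, ?_⟩
    apply (evX X U S.X₃).injective
    rw [evX_comp, AddEquiv.apply_symm_apply]
    exact hy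

theorem ext_PX_subsingleton [HasExt.{w''} X.Modules] (U : X.Opens) (hU : IsAffineOpen U)
    (F : X.Modules) (hF : Coh.IsQCoh F) (n : ℕ) :
    Subsingleton (Abelian.Ext.{w''} ((PX X).obj U) F (n + 1)) := by
  haveI : F.IsQuasicoherent := hF
  have h : ∀ ξ : Abelian.Ext.{w''} ((PX X).obj U) F (n + 1), ξ = 0 := fun ξ =>
    ext_PX_eq_zero U hU F (AffVanish.MV_toAb F) n ξ
  exact ⟨fun a b => (h a).trans (h b).symm⟩

/-! ### The covering class of affine opens -/

lemma affine_cover (U : X.Opens) :
    ∃ (ι : Type u) (Y : ι → X.Opens) (f : ∀ i, Y i ⟶ U),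
      Sieve.ofArrows Y f ∈ Opens.grothendieckTopology X U ∧ ∀ i, Y i ∈ {V : X.Opens | IsAffineOpen V} := by
  refine ⟨{V : X.Opens // IsAffineOpen V ∧ V ≤ U}, fun i => i.1, fun i => homOfLE i.2.2, ?_,
    fun i => i.2.1⟩
  intro x hx
  obtain ⟨V, hVB, hxV, hVU⟩ := Opens.isBasis_iff_nbhd.1 (X.isBasis_affineOpens) hx
  exact ⟨V, homOfLE hVU, Sieve.ofArrows_mk (fun i : {V : X.Opens // IsAffineOpen V ∧ V ≤ U} => i.1)
    (fun i => homOfLE i.2.2) ⟨V, hVB, hVU⟩, hxV⟩

variable (X)

theorem etaX_bijective (M : DCoh.D X) (hM : ∀ j : ℤ, j < 0 → Coh.IsQCoh (DCoh.HD M j))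
    (U : X.Opens) (hU : IsAffineOpen U) : Function.Bijective (etaA (sdX X) M U) := by
  haveI : IsGrothendieckAbelian.{u} X.Modules :=
    FunctorialInjective.isGrothendieckAbelian_sheafOfModules
      (Opens.grothendieckTopology X) X.ringCatSheaf
  refine etaA_bijective.{u, u + 1, u} (sdX X) M {V : X.Opens | IsAffineOpen V} affine_cover ?_ U hU
  intro W hW k j hj
  exact ext_PX_subsingleton W hW _ (hM j hj) k

theorem isRlimVia_truncTower (E : DCoh.D X) (hE : DCoh.IsQCohD E)
    [HasProduct (CohCx.truncTower E)] :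
    CohCx.IsRlimVia (CohCx.truncTower E) (CohCx.truncTowerMap E) E (CohCx.toTruncTower E) := by
  haveI : IsGrothendieckAbelian.{u} X.Modules :=
    FunctorialInjective.isGrothendieckAbelian_sheafOfModules
      (Opens.grothendieckTopology X) X.ringCatSheaf
  refine rlim_trunc.{u, u + 1, u} (sdX X) E {V : X.Opens | IsAffineOpen V} affine_cover ?_
  intro V hV
  refine ⟨fun _ => 0, fun T hT => ?_⟩
  obtain ⟨ι, Y, f, hf, hcov, hYB⟩ := cover_in_B' {V : X.Opens | IsAffineOpen V} affine_cover V T hT
  refine ⟨ι, Y, f, hf, hcov, fun i m k hk => ?_⟩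
  have hk' : (0 : ℤ) < (k : ℤ) := hk
  obtain ⟨k', rfl⟩ : ∃ k', k = k' + 1 := ⟨k - 1, by omega⟩
  exact ext_PX_subsingleton (Y i) (hYB i) _ (hE _) k'

end Groth.Agent.Lib.DSectX
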