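import Mathlib
import Groth.Prelude.Def_CohCx
import Groth.Agent.Lib.DSect2_lead

/-!
# Chain level refinements for section data (lead)

* `sig_comp_map_fromSingle`, `eta_fromSingle`: the value of `etaA` on the class of a chain map
  `P_V[0] ⟶ L'` given by a cycle.
* `eta_locSurj'`, `eta_ker'`: chain level versions of local surjectivity / injectivity.
* `eq_fromSingle`, `fromSingle_comp`, `exists_boundary_of_homotopy`,
  `exists_cycle_of_isKInjective`, `boundary_of_isKInjective`: chain maps from `P[0]`.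
* `isIso_H0_of_cycles`: a chain map is an isomorphism on `H⁰` if, on a covering class, it is
  bijective on "cycles modulo boundaries" of the complexes `Hom(P_V, -)`.
* `isIso_Q_map_of_shifts`.
-/

set_option autoImplicit false
set_option maxHeartbeats 1600000
universe w'' w u
open CategoryTheory CategoryTheory.Limits Opposite DerivedCategory Pretriangulated

namespace Groth.Agent.Lib.DSectL

open Groth.Agent.Lib

section Generic

variable {A : Type (u + 1)} [Category.{u} A] [Abelian A] [HasDerivedCategory.{w} A]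

lemma sig_comp_map_fromSingle (L' : CochainComplex A ℤ) {P : A} (c : P ⟶ L'.X 0)
    (hc : c ≫ L'.d 0 1 = 0) :
    (sigA P).inv ≫ (homologyFunctor A 0).map (Q.map (HDSheaf_helper7.fromSingle c hc)) =
      (L'.liftCycles c 1 (by simp) hc ≫ L'.homologyπ 0) ≫
        ((homologyFunctorFactors A 0).app L').inv := by
  refine (Iso.eq_comp_inv ((homologyFunctorFactors A 0).app L')).2 ?_
  have h1 := homologyFunctorFactors_hom_naturality (HDSheaf_helper7.fromSingle c hc) 0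
  refine (Category.assoc _ _ _).trans ?_
  refine (congrArg (fun x => (sigA P).inv ≫ x) h1).trans ?_
  refine (Category.assoc _ _ _).symm.trans ?_
  refine (congrArg (fun x => x ≫ HomologicalComplex.homologyMap
    (HDSheaf_helper7.fromSingle c hc) 0) (sigA_inv_factors P)).trans ?_
  exact HDSheaf_helper7.homologyMap_fromSingle c hc

lemma eq_fromSingle {P : A} {K : CochainComplex A ℤ}
    (γ : (CochainComplex.singleFunctor A 0).obj P ⟶ K) :
    ∃ (c : P ⟶ K.X 0) (hc : c ≫ K.d 0 1 = 0), γ = HDSheaf_helper7.fromSingle c hc := by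
  let c : P ⟶ K.X 0 :=
    (HomologicalComplex.singleObjXSelf (ComplexShape.up ℤ) 0 P).inv ≫ γ.f 0
  have hc : c ≫ K.d 0 1 = 0 := by
    have h : γ.f 0 ≫ K.d 0 1 = 0 :=
      (γ.comm 0 1).trans ((congrArg (fun x => x ≫ γ.f 1)
        (HomologicalComplex.single_obj_d (c := ComplexShape.up ℤ) 0 P 0 1)).trans zero_comp)
    show ((HomologicalComplex.singleObjXSelf (ComplexShape.up ℤ) 0 P).inv ≫ γ.f 0) ≫
      K.d 0 1 = 0
    exact (Category.assoc _ _ _).trans ((congrArg (fun t =>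
      (HomologicalComplex.singleObjXSelf (ComplexShape.up ℤ) 0 P).inv ≫ t) h).trans comp_zero)
  refine ⟨c, hc, ?_⟩
  apply HomologicalComplex.from_single_hom_ext
  rw [HomologicalComplex.mkHomFromSingle_f]
  exact (Iso.hom_inv_id_assoc
    (HomologicalComplex.singleObjXSelf (ComplexShape.up ℤ) 0 P) (γ.f 0)).symm

lemma fromSingle_comp {P : A} {K L : CochainComplex A ℤ} (c : P ⟶ K.X 0)
    (hc : c ≫ K.d 0 1 = 0) (ψ : K ⟶ L) (hc' : (c ≫ ψ.f 0) ≫ L.d 0 1 = 0) :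
    HDSheaf_helper7.fromSingle c hc ≫ ψ = HDSheaf_helper7.fromSingle (c ≫ ψ.f 0) hc' := by
  apply HomologicalComplex.from_single_hom_ext
  rw [HomologicalComplex.comp_f, HomologicalComplex.mkHomFromSingle_f,
    HomologicalComplex.mkHomFromSingle_f, Category.assoc]

lemma comp_cycle {P : A} {K L : CochainComplex A ℤ} (c : P ⟶ K.X 0)
    (hc : c ≫ K.d 0 1 = 0) (ψ : K ⟶ L) : (c ≫ ψ.f 0) ≫ L.d 0 1 = 0 := by
  rw [Category.assoc, ψ.comm 0 1, ← Category.assoc, hc, zero_comp]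

lemma map_comp_fromSingle {P P' : A} {K : CochainComplex A ℤ} (g : P' ⟶ P) (c : P ⟶ K.X 0)
    (hc : c ≫ K.d 0 1 = 0) (hc' : (g ≫ c) ≫ K.d 0 1 = 0) :
    (HomologicalComplex.single A (ComplexShape.up ℤ) 0).map g ≫
      HDSheaf_helper7.fromSingle c hc = HDSheaf_helper7.fromSingle (g ≫ c) hc' := by
  apply HomologicalComplex.from_single_hom_ext
  rw [HomologicalComplex.mkHomFromSingle_f, HomologicalComplex.comp_f,
    HomologicalComplex.mkHomFromSingle_f, HomologicalComplex.single_map_f_self]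
  simp only [Category.assoc, Iso.inv_hom_id_assoc]

lemma fromSingle_add {P : A} {K : CochainComplex A ℤ} (c c' : P ⟶ K.X 0)
    (hc : c ≫ K.d 0 1 = 0) (hc' : c' ≫ K.d 0 1 = 0) (h : (c + c') ≫ K.d 0 1 = 0) :
    HDSheaf_helper7.fromSingle (c + c') h =
      HDSheaf_helper7.fromSingle c hc + HDSheaf_helper7.fromSingle c' hc' := by
  apply HomologicalComplex.from_single_hom_ext
  rw [HomologicalComplex.add_f_apply, HomologicalComplex.mkHomFromSingle_f,
    HomologicalComplex.mkHomFromSingle_f, HomologicalComplex.mkHomFromSingle_f,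
    Preadditive.comp_add]

/-- the morphism `P[0] ⟶ K` in the derived category attached to a cycle `c : P ⟶ K⁰` -/
noncomputable def thetaC {P : A} (K : CochainComplex A ℤ) (c : P ⟶ K.X 0)
    (hc : c ≫ K.d 0 1 = 0) : (singleFunctor A 0).obj P ⟶ Q.obj K :=
  Q.map (HDSheaf_helper7.fromSingle c hc)

lemma thetaC_congr {P : A} (K : CochainComplex A ℤ) {c c' : P ⟶ K.X 0} (h : c = c')
    (hc : c ≫ K.d 0 1 = 0) (hc' : c' ≫ K.d 0 1 = 0) : thetaC K c hc = thetaC K c' hc' := by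
  subst h
  rfl

lemma thetaC_comp {P : A} {K L : CochainComplex A ℤ} (c : P ⟶ K.X 0)
    (hc : c ≫ K.d 0 1 = 0) (ψ : K ⟶ L) :
    thetaC K c hc ≫ Q.map ψ = thetaC L (c ≫ ψ.f 0) (comp_cycle c hc ψ) := by
  show Q.map (HDSheaf_helper7.fromSingle c hc) ≫ Q.map ψ =
    Q.map (HDSheaf_helper7.fromSingle (c ≫ ψ.f 0) (comp_cycle c hc ψ))
  rw [← CategoryTheory.Functor.map_comp, fromSingle_comp c hc ψ (comp_cycle c hc ψ)]

lemma thetaC_map {P P' : A} {K : CochainComplex A ℤ} (g : P' ⟶ P) (c : P ⟶ K.X 0)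
    (hc : c ≫ K.d 0 1 = 0) (hc' : (g ≫ c) ≫ K.d 0 1 = 0) :
    (singleFunctor A 0).map g ≫ thetaC K c hc = thetaC K (g ≫ c) hc' := by
  show Q.map ((HomologicalComplex.single A (ComplexShape.up ℤ) 0).map g) ≫
    Q.map (HDSheaf_helper7.fromSingle c hc) = Q.map (HDSheaf_helper7.fromSingle (g ≫ c) hc')
  rw [← CategoryTheory.Functor.map_comp, map_comp_fromSingle g c hc hc']

lemma thetaC_add {P : A} {K : CochainComplex A ℤ} (c c' : P ⟶ K.X 0)
    (hc : c ≫ K.d 0 1 = 0) (hc' : c' ≫ K.d 0 1 = 0) (h : (c + c') ≫ K.d 0 1 = 0) :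
    thetaC K (c + c') h = thetaC K c hc + thetaC K c' hc' := by
  show Q.map (HDSheaf_helper7.fromSingle (c + c') h) =
    Q.map (HDSheaf_helper7.fromSingle c hc) + Q.map (HDSheaf_helper7.fromSingle c' hc')
  rw [fromSingle_add c c' hc hc' h, CategoryTheory.Functor.map_add]

lemma thetaC_boundary {P : A} {K : CochainComplex A ℤ} (w : P ⟶ K.X (-1))
    (h : (w ≫ K.d (-1) 0) ≫ K.d 0 1 = 0) : thetaC K (w ≫ K.d (-1) 0) h = 0 :=
  (DerivedCategory.Q_map_eq_of_homotopy _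
    (HDSheaf_helper7.nullHomotopyFromSingle w)).trans (Functor.map_zero _ _ _)

lemma thetaC_eq_zero_of_boundary {P : A} {K : CochainComplex A ℤ} (c : P ⟶ K.X 0)
    (hc : c ≫ K.d 0 1 = 0) (w : P ⟶ K.X (-1)) (hw : w ≫ K.d (-1) 0 = c) :
    thetaC K c hc = 0 := by
  subst hw
  exact thetaC_boundary w hc

lemma exists_boundary_of_homotopy {P : A} {K : CochainComplex A ℤ} (c : P ⟶ K.X 0)
    (hc : c ≫ K.d 0 1 = 0) (h : Homotopy (HDSheaf_helper7.fromSingle c hc) 0) :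
    ∃ w : P ⟶ K.X (-1), w ≫ K.d (-1) 0 = c := by
  have h0 := h.comm 0
  rw [dNext_eq h.hom (show (ComplexShape.up ℤ).Rel 0 1 by simp),
    prevD_eq h.hom (show (ComplexShape.up ℤ).Rel (-1) 0 by simp)] at h0
  have e1 : (HDSheaf_helper7.fromSingle c hc).f 0 =
      (HomologicalComplex.singleObjXSelf (ComplexShape.up ℤ) 0 P).hom ≫ c :=
    HomologicalComplex.mkHomFromSingle_f _ _
  have e2 : ((HomologicalComplex.single A (ComplexShape.up ℤ) 0).obj P).d 0 1 = 0 :=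
    HomologicalComplex.single_obj_d (c := ComplexShape.up ℤ) 0 P 0 1
  rw [e1, e2, zero_comp, zero_add, HomologicalComplex.zero_f, add_zero] at h0
  refine ⟨(HomologicalComplex.singleObjXSelf (ComplexShape.up ℤ) 0 P).inv ≫ h.hom 0 (-1), ?_⟩
  rw [Category.assoc, ← h0, Iso.inv_hom_id_assoc]

lemma exists_cycle_of_isKInjective {P : A} (I : CochainComplex A ℤ) [I.IsKInjective]
    (σ : (singleFunctor A 0).obj P ⟶ Q.obj I) :
    ∃ (c : P ⟶ I.X 0) (hc : c ≫ I.d 0 1 = 0), thetaC I c hc = σ := by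
  obtain ⟨g, hg⟩ := (CochainComplex.IsKInjective.Qh_map_bijective
    ((HomotopyCategory.quotient A (ComplexShape.up ℤ)).obj
      ((CochainComplex.singleFunctor A 0).obj P)) I).2 σ
  obtain ⟨γ, rfl⟩ := (HomotopyCategory.quotient A (ComplexShape.up ℤ)).map_surjective g
  obtain ⟨c, hc, rfl⟩ := eq_fromSingle γ
  exact ⟨c, hc, hg⟩

lemma boundary_of_isKInjective {P : A} (I : CochainComplex A ℤ) [I.IsKInjective]
    (c : P ⟶ I.X 0) (hc : c ≫ I.d 0 1 = 0) (h : thetaC I c hc = 0) :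
    ∃ w : P ⟶ I.X (-1), w ≫ I.d (-1) 0 = c := by
  have h0 : (HomotopyCategory.quotient A (ComplexShape.up ℤ)).map
      (HDSheaf_helper7.fromSingle c hc) = 0 := by
    apply (CochainComplex.IsKInjective.Qh_map_bijective _ I).1
    exact h.trans (Functor.map_zero DerivedCategory.Qh _ _).symm
  have h1 : (HomotopyCategory.quotient A (ComplexShape.up ℤ)).map
      (HDSheaf_helper7.fromSingle c hc) =
      (HomotopyCategory.quotient A (ComplexShape.up ℤ)).map 0 :=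
    h0.trans (Functor.map_zero _ _ _).symm
  exact exists_boundary_of_homotopy c hc (HomotopyCategory.homotopyOfEq _ _ h1)

theorem isIso_Q_map_of_shifts {K L : CochainComplex A ℤ} (φ : K ⟶ L)
    (h : ∀ n : ℤ, IsIso ((homologyFunctor A 0).map (Q.map (φ⟦n⟧')))) : IsIso (Q.map φ) := by
  rw [DerivedCategory.isIso_Q_map_iff_quasiIso, quasiIso_iff]
  intro n
  rw [← CochainComplex.quasiIsoAt_shift_iff φ n 0 n (add_zero n),
    quasiIsoAt_iff_isIso_homologyMap]
  have h1 := h n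
  exact (NatIso.isIso_map_iff (homologyFunctorFactors A 0) (φ⟦n⟧')).1 h1

end Generic

section Theta

variable {C : Type u} [SmallCategory C] {J : GrothendieckTopology C}
  {A : Type (u + 1)} [Category.{u} A] [Abelian A] [HasDerivedCategory.{w} A] (D : SD C J A)

lemma eta_thetaC (L' : CochainComplex A ℤ) (V : C) (c : D.P.obj V ⟶ L'.X 0)
    (hc : c ≫ L'.d 0 1 = 0) :
    etaA D (Q.obj L') V (thetaC L' c hc) =
      D.ev V _ ((L'.liftCycles c 1 (by simp) hc ≫ L'.homologyπ 0) ≫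
        ((homologyFunctorFactors A 0).app L').inv) :=
  (etaA_apply D _ V _).trans (congrArg (D.ev V _) (sig_comp_map_fromSingle L' c hc))

theorem eta_locSurj' (L' : CochainComplex A ℤ) (U : C)
    (s : (D.Γ.obj ((homologyFunctor A 0).obj (Q.obj L'))).obj.obj (op U)) :
    ∃ S : Sieve U, S ∈ J U ∧ ∀ ⦃V : C⦄ (i : V ⟶ U), S i →
      ∃ (c : D.P.obj V ⟶ L'.X 0) (hc : c ≫ L'.d 0 1 = 0),
        etaA D (Q.obj L') V (thetaC L' c hc) =
          ((D.Γ.obj ((homologyFunctor A 0).obj (Q.obj L'))).obj.map i.op).hom s := by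
  obtain ⟨s₀, rfl⟩ : ∃ s₀ : D.P.obj U ⟶ (homologyFunctor A 0).obj (Q.obj L'),
      D.ev U _ s₀ = s := ⟨(D.ev U _).symm s, AddEquiv.apply_symm_apply _ _⟩
  let τ := (homologyFunctorFactors A 0).app L'
  obtain ⟨S, hS, hS'⟩ := locLift D (L'.homologyπ 0) (s₀ ≫ τ.hom)
  refine ⟨S, hS, fun V i hi => ?_⟩
  obtain ⟨t, ht⟩ := hS' i hi
  have hc : (t ≫ L'.iCycles 0) ≫ L'.d 0 1 = 0 := by simp
  refine ⟨t ≫ L'.iCycles 0, hc, ?_⟩
  refine (eta_thetaC D L' V _ hc).trans ?_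
  refine Eq.trans ?_ (D.ev_map i _ s₀)
  have h2 : L'.liftCycles (t ≫ L'.iCycles 0) 1 (by simp) hc = t := by
    rw [← cancel_mono (L'.iCycles 0), HomologicalComplex.liftCycles_i]
  have key : (L'.liftCycles (t ≫ L'.iCycles 0) 1 (by simp) hc ≫ L'.homologyπ 0) ≫ τ.inv =
      D.P.map i ≫ s₀ :=
    (congrArg (fun x => (x ≫ L'.homologyπ 0) ≫ τ.inv) h2).trans
      ((congrArg (fun x => x ≫ τ.inv) ht).trans
        ((Category.assoc _ _ _).trans (congrArg (fun x => D.P.map i ≫ x)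
          ((Category.assoc _ _ _).trans ((congrArg (fun x => s₀ ≫ x) τ.hom_inv_id).trans
            (Category.comp_id _))))))
  exact congrArg (D.ev V _) key

theorem eta_ker' (L'' : CochainComplex A ℤ) (U : C) (c : D.P.obj U ⟶ L''.X 0)
    (hc : c ≫ L''.d 0 1 = 0)
    (h : etaA D (Q.obj L'') U (thetaC L'' c hc) = 0) :
    ∃ S : Sieve U, S ∈ J U ∧ ∀ ⦃V : C⦄ (i : V ⟶ U), S i →
      ∃ w : D.P.obj V ⟶ L''.X (-1), w ≫ L''.d (-1) 0 = D.P.map i ≫ c := by
  have h4 : L''.liftCycles c 1 (by simp) hc ≫ L''.homologyπ 0 = 0 := by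
    have h0 : (L''.liftCycles c 1 (by simp) hc ≫ L''.homologyπ 0) ≫
        ((homologyFunctorFactors A 0).app L'').inv = 0 := by
      apply (D.ev U _).injective
      refine (eta_thetaC D L'' U c hc).symm.trans ?_
      exact h.trans (map_zero _).symm
    exact (cancel_mono ((homologyFunctorFactors A 0).app L'').inv).1 (h0.trans zero_comp.symm)
  let T : ShortComplex A :=
    ShortComplex.mk (L''.toCycles (-1) 0) (L''.homologyπ 0) (by simp)
  have hT : T.Exact :=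
    ShortComplex.exact_of_g_is_cokernel _ (L''.homologyIsCokernel (-1) 0 (by simp))
  obtain ⟨A', π', hπ', x₁, fac⟩ :=
    hT.exact_up_to_refinements (L''.liftCycles c 1 (by simp) hc) h4
  haveI : Epi π' := hπ'
  obtain ⟨S, hS, hS'⟩ := locLift D π' (𝟙 (D.P.obj U))
  refine ⟨S, hS, fun V i hi => ?_⟩
  obtain ⟨t, ht⟩ := hS' i hi
  rw [Category.comp_id] at ht
  refine ⟨t ≫ x₁, ?_⟩
  have fac' : π' ≫ L''.liftCycles c 1 (by simp) hc = x₁ ≫ L''.toCycles (-1) 0 := fac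
  have e2 : x₁ ≫ L''.d (-1) 0 = π' ≫ c := by
    rw [← HomologicalComplex.toCycles_i L'' (-1) 0, ← Category.assoc]
    refine (congrArg (fun x => x ≫ L''.iCycles 0) fac'.symm).trans ?_
    rw [Category.assoc, HomologicalComplex.liftCycles_i]
  rw [Category.assoc, e2, ← Category.assoc, ht]

/-- B-refined version of `eta_locSurj'` -/
theorem eta_locSurj_B (B : Set C)
    (hB : ∀ U : C, ∃ (ι : Type u) (Y : ι → C) (f : ∀ i, Y i ⟶ U),
      Sieve.ofArrows Y f ∈ J U ∧ ∀ i, Y i ∈ B)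
    (L' : CochainComplex A ℤ) (U : C)
    (s : (D.Γ.obj ((homologyFunctor A 0).obj (Q.obj L'))).obj.obj (op U)) :
    ∃ (ι : Type u) (Y : ι → C) (g : ∀ i, Y i ⟶ U), Sieve.ofArrows Y g ∈ J U ∧
      (∀ i, Y i ∈ B) ∧ ∀ i, ∃ (c : D.P.obj (Y i) ⟶ L'.X 0) (hc : c ≫ L'.d 0 1 = 0),
        etaA D (Q.obj L') (Y i) (thetaC L' c hc) =
          ((D.Γ.obj ((homologyFunctor A 0).obj (Q.obj L'))).obj.map (g i).op).hom s := by
  obtain ⟨S, hS, hS'⟩ := eta_locSurj' D L' U s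
  obtain ⟨ι, Y, g, hg, hcov, hYB⟩ := cover_in_B' B hB U S hS
  exact ⟨ι, Y, g, hcov, hYB, fun i => hS' (g i) (hg i)⟩

/-- B-refined version of `eta_ker'` -/
theorem eta_ker_B (B : Set C)
    (hB : ∀ U : C, ∃ (ι : Type u) (Y : ι → C) (f : ∀ i, Y i ⟶ U),
      Sieve.ofArrows Y f ∈ J U ∧ ∀ i, Y i ∈ B)
    (L'' : CochainComplex A ℤ) (U : C) (c : D.P.obj U ⟶ L''.X 0)
    (hc : c ≫ L''.d 0 1 = 0)
    (h : etaA D (Q.obj L'') U (thetaC L'' c hc) = 0) :
    ∃ (ι : Type u) (Y : ι → C) (g : ∀ i, Y i ⟶ U), Sieve.ofArrows Y g ∈ J U ∧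
      (∀ i, Y i ∈ B) ∧ ∀ i, ∃ w : D.P.obj (Y i) ⟶ L''.X (-1),
        w ≫ L''.d (-1) 0 = D.P.map (g i) ≫ c := by
  obtain ⟨S, hS, hS'⟩ := eta_ker' D L'' U c hc h
  obtain ⟨ι, Y, g, hg, hcov, hYB⟩ := cover_in_B' B hB U S hS
  exact ⟨ι, Y, g, hcov, hYB, fun i => hS' (g i) (hg i)⟩

lemma eta_thetaC_res (L' : CochainComplex A ℤ) {U V : C} (i : V ⟶ U)
    (c : D.P.obj U ⟶ L'.X 0) (hc : c ≫ L'.d 0 1 = 0) (hc' : (D.P.map i ≫ c) ≫ L'.d 0 1 = 0) :
    etaA D (Q.obj L') V (thetaC L' (D.P.map i ≫ c) hc') =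
      ((D.Γ.obj ((homologyFunctor A 0).obj (Q.obj L'))).obj.map i.op).hom
        (etaA D (Q.obj L') U (thetaC L' c hc)) := by
  rw [← thetaC_map (D.P.map i) c hc hc']
  exact etaA_naturality D (Q.obj L') i (thetaC L' c hc)

theorem isIso_H0_of_cycles (B : Set C)
    (hB : ∀ U : C, ∃ (ι : Type u) (Y : ι → C) (f : ∀ i, Y i ⟶ U),
      Sieve.ofArrows Y f ∈ J U ∧ ∀ i, Y i ∈ B)
    {K L : CochainComplex A ℤ} (φ : K ⟶ L)
    (hinj : ∀ V ∈ B, ∀ (c : D.P.obj V ⟶ K.X 0) (_ : c ≫ K.d 0 1 = 0)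
      (w : D.P.obj V ⟶ L.X (-1)), c ≫ φ.f 0 = w ≫ L.d (-1) 0 →
        ∃ w' : D.P.obj V ⟶ K.X (-1), w' ≫ K.d (-1) 0 = c)
    (hsurj : ∀ V ∈ B, ∀ (c' : D.P.obj V ⟶ L.X 0) (_ : c' ≫ L.d 0 1 = 0),
      ∃ (c : D.P.obj V ⟶ K.X 0) (_ : c ≫ K.d 0 1 = 0) (w : D.P.obj V ⟶ L.X (-1)),
        c' = c ≫ φ.f 0 + w ≫ L.d (-1) 0) :
    IsIso ((homologyFunctor A 0).map (Q.map φ)) := by
  apply D.isoΓ
  obtain ⟨θ, hθ⟩ : ∃ θ, θ = D.Γ.map ((homologyFunctor A 0).map (Q.map φ)) := ⟨_, rfl⟩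
  rw [← hθ]
  -- the value of θ on classes of cycles
  have hθc : ∀ (V : C) (c : D.P.obj V ⟶ K.X 0) (hc : c ≫ K.d 0 1 = 0),
      (θ.hom.app (op V)).hom (etaA D (Q.obj K) V (thetaC K c hc)) =
        etaA D (Q.obj L) V (thetaC L (c ≫ φ.f 0) (comp_cycle c hc φ)) := by
    intro V c hc
    rw [hθ, ← thetaC_comp c hc φ]
    exact (etaA_comp D (Q.map φ) V (thetaC K c hc)).symm
  -- injectivity on all sections
  have hinjW : ∀ (W : C) (s : (D.Γ.obj ((homologyFunctor A 0).obj (Q.obj K))).obj.obj (op W)),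
      (θ.hom.app (op W)).hom s = 0 → s = 0 := by
    intro W s hs
    obtain ⟨ι, Y, g, hcov, hYB, hY⟩ := eta_locSurj_B D B hB K W s
    apply eq_zero_of_cover' _ (Sieve.ofArrows Y g) hcov s
    intro W' a ha
    obtain ⟨j, b, rfl⟩ := (Sieve.mem_ofArrows_iff _ _ a).1 ha
    obtain ⟨c, hc, hcs⟩ := hY j
    have hz : etaA D (Q.obj L) (Y j) (thetaC L (c ≫ φ.f 0) (comp_cycle c hc φ)) = 0 := by
      rw [← hθc (Y j) c hc, hcs]
      have hnat := ConcreteCategory.congr_hom (θ.hom.naturality (g j).op) s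
      refine hnat.trans ?_
      exact (congrArg ((D.Γ.obj ((homologyFunctor A 0).obj (Q.obj L))).obj.map (g j).op).hom
        hs).trans (map_zero _)
    obtain ⟨ι', Y', g', hcov', hYB', hY'⟩ := eta_ker_B D B hB L (Y j) _ (comp_cycle c hc φ) hz
    have hsj : ((D.Γ.obj ((homologyFunctor A 0).obj (Q.obj K))).obj.map (g j).op).hom s = 0 := by
      apply eq_zero_of_cover' _ (Sieve.ofArrows Y' g') hcov'
      intro W'' a' ha'
      obtain ⟨k, b', rfl⟩ := (Sieve.mem_ofArrows_iff _ _ a').1 ha'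
      obtain ⟨w, hw⟩ := hY' k
      have hck : (D.P.map (g' k) ≫ c) ≫ K.d 0 1 = 0 := by
        rw [Category.assoc, hc, comp_zero]
      obtain ⟨w', hw'⟩ := hinj (Y' k) (hYB' k) (D.P.map (g' k) ≫ c) hck w
        (by rw [Category.assoc]; exact hw.symm)
      have h0 : ((D.Γ.obj ((homologyFunctor A 0).obj (Q.obj K))).obj.map (g' k).op).hom
          (((D.Γ.obj ((homologyFunctor A 0).obj (Q.obj K))).obj.map (g j).op).hom s) = 0 := by
        rw [← hcs, ← eta_thetaC_res D K (g' k) c hc hck,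
          thetaC_eq_zero_of_boundary _ hck w' hw', map_zero]
      have h2 := ConcreteCategory.congr_hom
        ((D.Γ.obj ((homologyFunctor A 0).obj (Q.obj K))).obj.map_comp (g' k).op b'.op)
        (((D.Γ.obj ((homologyFunctor A 0).obj (Q.obj K))).obj.map (g j).op).hom s)
      refine h2.trans ?_
      exact (congrArg ((D.Γ.obj ((homologyFunctor A 0).obj (Q.obj K))).obj.map b'.op).hom
        h0).trans (map_zero _)
    have h2 := ConcreteCategory.congr_hom
      ((D.Γ.obj ((homologyFunctor A 0).obj (Q.obj K))).obj.map_comp (g j).op b.op) s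
    refine h2.trans ?_
    exact (congrArg ((D.Γ.obj ((homologyFunctor A 0).obj (Q.obj K))).obj.map b.op).hom
      hsj).trans (map_zero _)
  haveI : Mono θ := by
    haveI : ∀ X : Cᵒᵖ, Mono (θ.hom.app X) := fun X =>
      (AddCommGrpCat.mono_iff_injective _).2
        ((injective_iff_map_eq_zero (θ.hom.app X).hom).2 (fun s hs => hinjW X.unop s hs))
    haveI : Mono θ.hom := NatTrans.mono_of_mono_app _
    exact Sheaf.Hom.mono_of_presheaf_mono J _ θ
  haveI : Presheaf.IsLocallySurjective J θ.hom := by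
    refine ⟨fun {U} y => ?_⟩
    obtain ⟨ι, Y, g, hcov, hYB, hY⟩ := eta_locSurj_B D B hB L U y
    refine J.superset_covering ?_ hcov
    intro V a ha
    obtain ⟨j, b, rfl⟩ := (Sieve.mem_ofArrows_iff _ _ a).1 ha
    refine Sieve.downward_closed _ ?_ b
    obtain ⟨c', hc', hcs⟩ := hY j
    obtain ⟨c, hc, w, hcw⟩ := hsurj (Y j) (hYB j) c' hc'
    refine ⟨etaA D (Q.obj K) (Y j) (thetaC K c hc), ?_⟩
    show (θ.hom.app (op (Y j))).hom _ = _
    rw [hθc, ← hcs]
    have hwc : (w ≫ L.d (-1) 0) ≫ L.d 0 1 = 0 := by simp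
    have hsum : ((c ≫ φ.f 0) + (w ≫ L.d (-1) 0)) ≫ L.d 0 1 = 0 := by
      rw [← hcw]; exact hc'
    rw [thetaC_congr L hcw hc' hsum, thetaC_add _ _ (comp_cycle c hc φ) hwc hsum,
      thetaC_boundary w hwc, add_zero]
  haveI : Epi θ := (Sheaf.isLocallySurjective_iff_epi' _ θ).1 inferInstance
  exact isIso_of_mono_of_epi θ

end Theta

end Groth.Agent.Lib.DSectL
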