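import Mathlib
import Groth.Prelude
import Groth.Agent.Lib.DSect3_lead
import Groth.Agent.Lib.DSect4_lead
import Groth.Agent.Lib.SubExt_helper9
import Groth.Agent.Lib.BMod2_helper6
import Groth.Agent.Lib.RDerGE_helper7
import Groth.Agent.Lib.AffIso1_lead

/-!
# Complexes of quasi-coherent modules and affine opens (lead)

* `lift_of_qcoh_kernel`: morphisms from `PX U` (`U` affine) lift along epimorphisms with
  quasi-coherent kernel.
* `exists_cycle_of_qcoh`, `boundary_of_qcoh`: for a complex `K` of quasi-coherent modules and `U`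
  affine, `Hom_{D(O_X)}(PX U [0], K)` is computed by cycles modulo boundaries of `Hom(PX U, K)`.
* `dagger_inj`, `dagger_surj`: comparison with a K-injective resolution.
* `trEquiv`: `Hom(PX V, f_* N) ≃ Hom(PX (f⁻¹ V), N)`.
* `isIso_Q_push`: for `f` affine, `f_*` of a K-injective resolution of a complex of
  quasi-coherent modules is a quasi-isomorphism.
* `main7245`.
-/

set_option autoImplicit false
set_option linter.all false
set_option maxHeartbeats 1600000
set_option backward.isDefEq.respectTransparency false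
set_option backward.isDefEq.respectTransparency.types false
set_option backward.defeqAttrib.useBackward true

universe u
open CategoryTheory CategoryTheory.Limits AlgebraicGeometry TopologicalSpace Opposite
open DerivedCategory CategoryTheory.Pretriangulated
attribute [local instance] HasDerivedCategory.standard

namespace Groth.Agent.Lib.DSectX

open Groth.Agent.Lib.DSectL Groth.Agent.Lib

section OnX

variable {X : Scheme.{u}}

/-! ### lifting -/

theorem lift_of_qcoh_kernel {M N : X.Modules} (π : M ⟶ N) [Epi π]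
    (hK : Coh.IsQCoh (kernel π)) (U : X.Opens) (hU : IsAffineOpen U)
    (φ : (PX X).obj U ⟶ N) : ∃ ψ : (PX X).obj U ⟶ M, ψ ≫ π = φ := by
  haveI : (kernel π).IsQuasicoherent := hK
  let S : ShortComplex X.Modules := ShortComplex.mk (kernel.ι π) π (kernel.condition π)
  have hS : S.ShortExact := ShortComplex.ShortExact.mk' (ShortComplex.exact_kernel π)
    (inferInstanceAs (Mono (kernel.ι π))) (inferInstanceAs (Epi π))
  let S' : ShortComplex (Sheaf (Opens.grothendieckTopology X) AddCommGrpCat.{u}) :=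
    S.map (ΓX X)
  have hS' : S'.ShortExact := hS.map_of_exact (ΓX X)
  have h1 : AffVanish.MV ((ΓX X).obj (kernel π)) := AffVanish.MV_toAb (kernel π)
  obtain ⟨y, hy⟩ := AffVanish.surj_of_MV (S := S') hS' h1 hU (evX X U N φ)
  refine ⟨(evX X U M).symm y, ?_⟩
  apply (evX X U N).injective
  rw [evX_comp, AddEquiv.apply_symm_apply]
  exact hy

/-! ### complexes with quasi-coherent terms -/

section QCohCx

variable (K : CochainComplex X.Modules ℤ) (hq : ∀ n : ℤ, Coh.IsQCoh (K.X n))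
include hq

theorem qcoh_cycles (n : ℤ) : Coh.IsQCoh (K.cycles n) := by
  haveI : (K.X n).IsQuasicoherent := hq n
  haveI : (K.X (n + 1)).IsQuasicoherent := hq (n + 1)
  have e : K.cycles n ≅ kernel (K.d n (n + 1)) :=
    IsLimit.conePointUniqueUpToIso (K.cyclesIsKernel n (n + 1) (by simp))
      (limit.isLimit (parallelPair (K.d n (n + 1)) 0))
  exact (SheafOfModules.isQuasicoherent X.ringCatSheaf).prop_of_iso e.symm
    (SubExt.isQuasicoherent_kernel (K.d n (n + 1)))

theorem qcoh_homology (n : ℤ) : Coh.IsQCoh (K.homology n) := by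
  haveI : (K.X (n - 1)).IsQuasicoherent := hq (n - 1)
  haveI : (K.cycles n).IsQuasicoherent := qcoh_cycles K hq n
  have e : K.homology n ≅ cokernel (K.toCycles (n - 1) n) :=
    IsColimit.coconePointUniqueUpToIso (K.homologyIsCokernel (n - 1) n (by simp))
      (colimit.isColimit (parallelPair (K.toCycles (n - 1) n) 0))
  exact (SheafOfModules.isQuasicoherent X.ringCatSheaf).prop_of_iso e.symm
    (BModH6.isQuasicoherent_cokernel (K.toCycles (n - 1) n))

theorem qcohD_Q : DCoh.IsQCohD (Q.obj K) := by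
  intro i
  exact (SheafOfModules.isQuasicoherent X.ringCatSheaf).prop_of_iso
    ((homologyFunctorFactors X.Modules i).app K).symm (qcoh_homology K hq i)

theorem qcoh_kernel_homologyπ : Coh.IsQCoh (kernel (K.homologyπ 0)) := by
  haveI : (K.cycles 0).IsQuasicoherent := qcoh_cycles K hq 0
  haveI : (K.homology 0).IsQuasicoherent := qcoh_homology K hq 0
  exact SubExt.isQuasicoherent_kernel (K.homologyπ 0)

/-- every morphism `PX U [0] ⟶ K` in the derived category comes from a cycle -/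
theorem exists_cycle_of_qcoh (U : X.Opens) (hU : IsAffineOpen U)
    (σ : (singleFunctor X.Modules 0).obj ((PX X).obj U) ⟶ Q.obj K) :
    ∃ (c : (PX X).obj U ⟶ K.X 0) (hc : c ≫ K.d 0 1 = 0), thetaC K c hc = σ := by
  have hQ := qcohD_Q K hq
  have hbij := etaX_bijective X (Q.obj K) (fun j _ => hQ j) U hU
  let τ := (homologyFunctorFactors X.Modules 0).app K
  let s₀ : (PX X).obj U ⟶ (homologyFunctor X.Modules 0).obj (Q.obj K) :=
    ((sdX X).ev U _).symm (etaA (sdX X) (Q.obj K) U σ)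
  obtain ⟨t, ht⟩ := lift_of_qcoh_kernel (K.homologyπ 0) (qcoh_kernel_homologyπ K hq) U hU
    (s₀ ≫ τ.hom)
  have hc : (t ≫ K.iCycles 0) ≫ K.d 0 1 = 0 := by simp
  refine ⟨t ≫ K.iCycles 0, hc, hbij.1 ?_⟩
  refine (eta_thetaC (sdX X) K U _ hc).trans ?_
  have h2 : K.liftCycles (t ≫ K.iCycles 0) 1 (by simp) hc = t := by
    rw [← cancel_mono (K.iCycles 0), HomologicalComplex.liftCycles_i]
  have key : (K.liftCycles (t ≫ K.iCycles 0) 1 (by simp) hc ≫ K.homologyπ 0) ≫ τ.inv = s₀ :=
    (congrArg (fun x => (x ≫ K.homologyπ 0) ≫ τ.inv) h2).trans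
      ((congrArg (fun x => x ≫ τ.inv) ht).trans
        ((Category.assoc _ _ _).trans ((congrArg (fun x => s₀ ≫ x) τ.hom_inv_id).trans
            (Category.comp_id _))))
  exact (congrArg ((sdX X).ev U _) key).trans (AddEquiv.apply_symm_apply _ _)

/-- a cycle whose class in the derived category vanishes is a boundary -/
theorem boundary_of_qcoh (U : X.Opens) (hU : IsAffineOpen U)
    (c : (PX X).obj U ⟶ K.X 0) (hc : c ≫ K.d 0 1 = 0) (h : thetaC K c hc = 0) :
    ∃ w : (PX X).obj U ⟶ K.X (-1), w ≫ K.d (-1) 0 = c := by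
  have h4 : K.liftCycles c 1 (by simp) hc ≫ K.homologyπ 0 = 0 := by
    have h0 : (K.liftCycles c 1 (by simp) hc ≫ K.homologyπ 0) ≫
        ((homologyFunctorFactors X.Modules 0).app K).inv = 0 := by
      apply ((sdX X).ev U _).injective
      refine (eta_thetaC (sdX X) K U c hc).symm.trans ?_
      rw [h, map_zero, map_zero]
    exact (cancel_mono ((homologyFunctorFactors X.Modules 0).app K).inv).1
      (h0.trans zero_comp.symm)
  let T : ShortComplex X.Modules :=
    ShortComplex.mk (K.toCycles (-1) 0) (K.homologyπ 0) (by simp)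
  have hT : T.Exact :=
    ShortComplex.exact_of_g_is_cokernel _ (K.homologyIsCokernel (-1) 0 (by simp))
  let q : K.X (-1) ⟶ kernel (K.homologyπ 0) :=
    kernel.lift (K.homologyπ 0) (K.toCycles (-1) 0) (by simp)
  haveI hq' : Epi q := (ShortComplex.exact_iff_epi_kernel_lift T).1 hT
  haveI : (K.X (-1)).IsQuasicoherent := hq (-1)
  haveI : (kernel (K.homologyπ 0)).IsQuasicoherent := qcoh_kernel_homologyπ K hq
  have hkq : Coh.IsQCoh (kernel q) := SubExt.isQuasicoherent_kernel q
  let z : (PX X).obj U ⟶ kernel (K.homologyπ 0) :=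
    kernel.lift (K.homologyπ 0) (K.liftCycles c 1 (by simp) hc) h4
  obtain ⟨w, hw⟩ := lift_of_qcoh_kernel q hkq U hU z
  refine ⟨w, ?_⟩
  have e1 : q ≫ kernel.ι (K.homologyπ 0) = K.toCycles (-1) 0 := kernel.lift_ι _ _ _
  have e2 : z ≫ kernel.ι (K.homologyπ 0) = K.liftCycles c 1 (by simp) hc := kernel.lift_ι _ _ _
  calc w ≫ K.d (-1) 0 = w ≫ (K.toCycles (-1) 0 ≫ K.iCycles 0) := by
        rw [HomologicalComplex.toCycles_i]
    _ = ((w ≫ q) ≫ kernel.ι (K.homologyπ 0)) ≫ K.iCycles 0 := by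
        rw [← e1]; simp only [Category.assoc]
    _ = c := by rw [hw, e2, HomologicalComplex.liftCycles_i]

end QCohCx

/-! ### comparison with a K-injective resolution -/

section Dagger

variable {F I : CochainComplex X.Modules ℤ} (ψ : F ⟶ I) [IsIso (Q.map ψ)] [I.IsKInjective]
  (hq : ∀ n : ℤ, Coh.IsQCoh (F.X n)) (U : X.Opens) (hU : IsAffineOpen U)
include hq hU

theorem dagger_inj (c : (PX X).obj U ⟶ F.X 0) (hc : c ≫ F.d 0 1 = 0)
    (w : (PX X).obj U ⟶ I.X (-1)) (h : c ≫ ψ.f 0 = w ≫ I.d (-1) 0) :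
    ∃ w' : (PX X).obj U ⟶ F.X (-1), w' ≫ F.d (-1) 0 = c := by
  apply boundary_of_qcoh F hq U hU c hc
  have h1 : thetaC F c hc ≫ Q.map ψ = 0 := by
    rw [thetaC_comp c hc ψ]
    exact thetaC_eq_zero_of_boundary _ _ w h.symm
  exact (cancel_mono (Q.map ψ)).1 (h1.trans zero_comp.symm)

theorem dagger_surj (c' : (PX X).obj U ⟶ I.X 0) (hc' : c' ≫ I.d 0 1 = 0) :
    ∃ (c : (PX X).obj U ⟶ F.X 0) (_ : c ≫ F.d 0 1 = 0) (w : (PX X).obj U ⟶ I.X (-1)),
      c' = c ≫ ψ.f 0 + w ≫ I.d (-1) 0 := by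
  obtain ⟨c, hc, hcσ⟩ := exists_cycle_of_qcoh F hq U hU (thetaC I c' hc' ≫ inv (Q.map ψ))
  have hd' : (c' - c ≫ ψ.f 0) ≫ I.d 0 1 = 0 := by
    rw [Preadditive.sub_comp, hc', comp_cycle c hc ψ, sub_zero]
  have e : c' = c ≫ ψ.f 0 + (c' - c ≫ ψ.f 0) := by abel
  have hsum : (c ≫ ψ.f 0 + (c' - c ≫ ψ.f 0)) ≫ I.d 0 1 = 0 := by rw [← e]; exact hc'
  have h1 : thetaC I c' hc' = thetaC I (c ≫ ψ.f 0) (comp_cycle c hc ψ) +
      thetaC I (c' - c ≫ ψ.f 0) hd' :=
    (thetaC_congr I e hc' hsum).trans (thetaC_add _ _ _ hd' hsum)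
  have h2 : thetaC I (c ≫ ψ.f 0) (comp_cycle c hc ψ) = thetaC I c' hc' := by
    rw [← thetaC_comp c hc ψ, hcσ, Category.assoc, IsIso.inv_hom_id, Category.comp_id]
  have h3 : thetaC I (c' - c ≫ ψ.f 0) hd' = 0 := by
    rw [h2] at h1
    exact add_left_cancel (h1.symm.trans (add_zero _).symm)
  obtain ⟨w, hw⟩ := boundary_of_isKInjective I _ hd' h3
  exact ⟨c, hc, w, by rw [hw]; exact e⟩

end Dagger

end OnX

/-! ### transfer along a morphism -/

section Transfer

variable {X S : Scheme.{u}} (f : X ⟶ S)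

/-- `Hom(PX V, f_* N) ≃ Hom(PX (f⁻¹ V), N)` -/
noncomputable def trEquiv (V : S.Opens) (N : X.Modules) :
    ((PX S).obj V ⟶ (Scheme.Modules.pushforward f).obj N) ≃+ ((PX X).obj (f ⁻¹ᵁ V) ⟶ N) :=
  (evX S V ((Scheme.Modules.pushforward f).obj N)).trans (evX X (f ⁻¹ᵁ V) N).symm

lemma trEquiv_comp (V : S.Opens) {N N' : X.Modules}
    (g : (PX S).obj V ⟶ (Scheme.Modules.pushforward f).obj N) (k : N ⟶ N') :
    trEquiv f V N' (g ≫ (Scheme.Modules.pushforward f).map k) = trEquiv f V N g ≫ k := by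
  apply (evX X (f ⁻¹ᵁ V) N').injective
  rw [evX_comp]
  show evX X (f ⁻¹ᵁ V) N' ((evX X (f ⁻¹ᵁ V) N').symm
      (evX S V _ (g ≫ (Scheme.Modules.pushforward f).map k))) =
    (((ΓX X).map k).hom.app (op (f ⁻¹ᵁ V))).hom
      (evX X (f ⁻¹ᵁ V) N ((evX X (f ⁻¹ᵁ V) N).symm (evX S V _ g)))
  rw [AddEquiv.apply_symm_apply, AddEquiv.apply_symm_apply, evX_comp]
  rfl

variable [IsAffineHom f]

theorem isIso_H0_push {F I : CochainComplex X.Modules ℤ} (ψ : F ⟶ I)
    [IsIso (Q.map ψ)] [I.IsKInjective] (hq : ∀ n : ℤ, Coh.IsQCoh (F.X n)) :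
    IsIso ((homologyFunctor S.Modules 0).map (Q.map
      (((Scheme.Modules.pushforward f).mapHomologicalComplex (ComplexShape.up ℤ)).map ψ))) := by
  refine isIso_H0_of_cycles (sdX S) {V : S.Opens | IsAffineOpen V} affine_cover _ ?_ ?_
  · intro V hV c hc w h
    have hU : IsAffineOpen (f ⁻¹ᵁ V) := IsAffineHom.isAffine_preimage V hV
    have hc' : trEquiv f V (F.X 0) c ≫ F.d 0 1 = 0 := by
      rw [← trEquiv_comp]
      exact (congrArg (trEquiv f V (F.X 1)) hc).trans (map_zero _)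
    have h' : trEquiv f V (F.X 0) c ≫ ψ.f 0 = trEquiv f V (I.X (-1)) w ≫ I.d (-1) 0 := by
      rw [← trEquiv_comp, ← trEquiv_comp]
      exact congrArg (trEquiv f V (I.X 0)) h
    obtain ⟨w', hw'⟩ := dagger_inj ψ hq (f ⁻¹ᵁ V) hU _ hc' _ h'
    refine ⟨(trEquiv f V (F.X (-1))).symm w', ?_⟩
    apply (trEquiv f V (F.X 0)).injective
    show trEquiv f V (F.X 0) ((trEquiv f V (F.X (-1))).symm w' ≫
      (Scheme.Modules.pushforward f).map (F.d (-1) 0)) = _
    rw [trEquiv_comp, AddEquiv.apply_symm_apply]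
    exact hw'
  · intro V hV c' hc'
    have hU : IsAffineOpen (f ⁻¹ᵁ V) := IsAffineHom.isAffine_preimage V hV
    have hc'' : trEquiv f V (I.X 0) c' ≫ I.d 0 1 = 0 := by
      rw [← trEquiv_comp]
      exact (congrArg (trEquiv f V (I.X 1)) hc').trans (map_zero _)
    obtain ⟨c, hc, w, e⟩ := dagger_surj ψ hq (f ⁻¹ᵁ V) hU _ hc''
    refine ⟨(trEquiv f V (F.X 0)).symm c, ?_, (trEquiv f V (I.X (-1))).symm w, ?_⟩
    · apply (trEquiv f V (F.X 1)).injective
      show trEquiv f V (F.X 1) ((trEquiv f V (F.X 0)).symm c ≫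
        (Scheme.Modules.pushforward f).map (F.d 0 1)) = _
      rw [trEquiv_comp, AddEquiv.apply_symm_apply, hc, map_zero]
    · apply (trEquiv f V (I.X 0)).injective
      show trEquiv f V (I.X 0) c' = trEquiv f V (I.X 0)
        ((trEquiv f V (F.X 0)).symm c ≫ (Scheme.Modules.pushforward f).map (ψ.f 0) +
          (trEquiv f V (I.X (-1))).symm w ≫ (Scheme.Modules.pushforward f).map (I.d (-1) 0))
      rw [map_add, trEquiv_comp, trEquiv_comp, AddEquiv.apply_symm_apply,
        AddEquiv.apply_symm_apply]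
      exact e

theorem isIso_Q_push {F I : CochainComplex X.Modules ℤ} (ψ : F ⟶ I)
    [QuasiIso ψ] [I.IsKInjective] (hq : ∀ n : ℤ, Coh.IsQCoh (F.X n)) :
    IsIso (Q.map
      (((Scheme.Modules.pushforward f).mapHomologicalComplex (ComplexShape.up ℤ)).map ψ)) := by
  apply isIso_Q_map_of_shifts
  intro n
  haveI : IsIso (Q.map (ψ⟦n⟧')) := (DerivedCategory.isIso_Q_map_iff_quasiIso _ _).2 inferInstance
  have h := isIso_H0_push f (ψ⟦n⟧') (fun m => hq (m + n))
  exact (NatIso.isIso_map_iff (Functor.isoWhiskerRight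
    ((Scheme.Modules.pushforward f).mapCochainComplexShiftIso n)
    (Q ⋙ homologyFunctor S.Modules 0)) ψ).1 h

theorem main7245 [DCoh.HasRpush f]
    (F : CochainComplex X.Modules ℤ) (hq : ∀ n : ℤ, Coh.IsQCoh (F.X n)) :
    IsIso (((DCoh.pushKh f).totalRightDerivedUnit DerivedCategory.Qh
      (HomotopyCategory.quasiIso X.Modules (ComplexShape.up ℤ))).app
      ((HomotopyCategory.quotient X.Modules (ComplexShape.up ℤ)).obj F)) := by
  haveI := MVPushL.grothendieck_modules X
  obtain ⟨I, ψ, hI, hψ, _, _⟩ := KInjGen5.exists_resolution F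
  haveI := hI
  haveI := hψ
  have hΦ := isIso_Q_push f ψ hq
  let η := (DCoh.pushKh f).totalRightDerivedUnit DerivedCategory.Qh
    (HomotopyCategory.quasiIso X.Modules (ComplexShape.up ℤ))
  let q := (HomotopyCategory.quotient X.Modules (ComplexShape.up ℤ)).map ψ
  have nat := η.naturality q
  haveI h1 : IsIso (η.app ((HomotopyCategory.quotient X.Modules (ComplexShape.up ℤ)).obj I)) :=
    RDerGE.isIso_unit (Scheme.Modules.pushforward f) I
  haveI h2 : IsIso ((DCoh.pushKh f).map q) :=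
    (NatIso.isIso_map_iff ((Functor.associator _ _ _).symm ≪≫
      Functor.isoWhiskerRight ((Scheme.Modules.pushforward f).mapHomotopyCategoryFactors
        (ComplexShape.up ℤ)) DerivedCategory.Qh ≪≫ Functor.associator _ _ _ ≪≫
      Functor.isoWhiskerLeft _ (DerivedCategory.quotientCompQhIso S.Modules)) ψ).2 hΦ
  haveI h3 : IsIso ((DerivedCategory.Qh ⋙ DCoh.Rpush f).map q) := by
    haveI : IsIso (DerivedCategory.Qh.map q) :=
      (NatIso.isIso_map_iff (DerivedCategory.quotientCompQhIso X.Modules) ψ).2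
        ((DerivedCategory.isIso_Q_map_iff_quasiIso _ ψ).2 hψ)
    show IsIso ((DCoh.Rpush f).map (DerivedCategory.Qh.map q))
    infer_instance
  have e : η.app ((HomotopyCategory.quotient X.Modules (ComplexShape.up ℤ)).obj F) =
      ((DCoh.pushKh f).map q ≫
        η.app ((HomotopyCategory.quotient X.Modules (ComplexShape.up ℤ)).obj I)) ≫
        inv ((DerivedCategory.Qh ⋙ DCoh.Rpush f).map q) := by
    rw [nat, Category.assoc, IsIso.hom_inv_id, Category.comp_id]
  exact e ▸ inferInstance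

end Transfer

end Groth.Agent.Lib.DSectX
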