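import Mathlib
import Groth.Prelude
import Groth.Agent.Lib.MVPush3_lead

/-!
# `Rf_*` commutes with restriction to an open subscheme (lead)
-/

set_option autoImplicit false
set_option linter.all false
set_option maxHeartbeats 1600000
set_option backward.isDefEq.respectTransparency false
set_option backward.isDefEq.respectTransparency.types false
set_option backward.defeqAttrib.useBackward true

universe u
open CategoryTheory CategoryTheory.Limits AlgebraicGeometry Opposite TopologicalSpace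
open CategoryTheory.Pretriangulated
attribute [local instance] HasDerivedCategory.standard

namespace Groth.Agent.Lib.BCOpenL

open Groth.Agent.Lib.StalkSkyL Groth.Agent.Lib.MVPushL

noncomputable section

section Criterion

universe v' u'

variable {C : Type u'} [Category.{v'} C] [HasZeroObject C] [HasShift C ℤ] [Preadditive C]
  [∀ n : ℤ, (shiftFunctor C n).Additive] [Pretriangulated C] [IsTriangulated C]
  {P : ObjectProperty C} [P.IsTriangulated]

/-- (helper2's criterion, copied from `RestrictRightAdj_helper2` to avoid its imports) -/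
theorem isRightDerivedFunctor_of_isIso_on (W : MorphismProperty C) (hW : W = P.trW)
    (hP : ∀ X : C, ∃ (Y : C) (f : X ⟶ Y), P.trW f ∧ P.rightOrthogonal Y)
    {D : Type*} [Category D] (L : C ⥤ D) [L.IsLocalization W]
    {H : Type*} [Category H] (F : C ⥤ H) (RF : D ⥤ H) (α : F ⟶ L ⋙ RF)
    (hα : ∀ Y : C, P.rightOrthogonal Y → IsIso (α.app Y)) : RF.IsRightDerivedFunctor α W := by
  subst hW
  haveI := OrthDeriv.isRightDerivabilityStructure hP
  have h : (OrthDeriv.Φ P).Derives F := by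
    intro X Y f hf
    haveI : IsIso f := hf
    infer_instance
  exact h.isRightDerivedFunctor_of_isIso α (fun X₁ => hα X₁.obj X₁.property)

end Criterion

variable {X Y : Scheme.{u}}

/-- `(f_* M)|_V ≅ (f|_V)_* (M|_{f⁻¹V})` for modules -/
def baseChangeIso (f : X ⟶ Y) (V : Y.Opens) :
    Scheme.Modules.pushforward f ⋙ Scheme.Modules.restrictFunctor V.ι ≅
      Scheme.Modules.restrictFunctor (f ⁻¹ᵁ V).ι ⋙ Scheme.Modules.pushforward (f ∣_ V) := by
  haveI : (V.ι.opensFunctor ⋙ Opens.map f.base).IsContinuous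
      (Opens.grothendieckTopology V.toScheme) (Opens.grothendieckTopology X) :=
    Functor.isContinuous_comp _ _ _ (Opens.grothendieckTopology Y) _
  haveI : (Opens.map (f ∣_ V).base ⋙ (f ⁻¹ᵁ V).ι.opensFunctor).IsContinuous
      (Opens.grothendieckTopology V.toScheme) (Opens.grothendieckTopology X) :=
    Functor.isContinuous_comp _ _ _ (Opens.grothendieckTopology (f ⁻¹ᵁ V).toScheme) _
  refine (SheafOfModules.pushforwardComp _ _) ≪≫ ?_ ≪≫ (SheafOfModules.pushforwardComp _ _).symm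
  refine SheafOfModules.pushforwardCongr₂ _
    (NatIso.ofComponents (fun W => eqToIso (image_morphismRestrict_preimage f V W))
      (fun _ => Subsingleton.elim _ _)) ?_
  simp only [Scheme.Opens.ι_appIso, Iso.refl_inv]
  ext W x
  have h := morphismRestrict_app f V W.unop
  exact congr($(h.symm) x)

/-- restriction to an open preserves K-injectivity, on homotopy categories -/
theorem rightOrthogonal_restrict (U : X.Opens)
    (K : HomotopyCategory X.Modules (ComplexShape.up ℤ))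
    (hK : (HomotopyCategory.subcategoryAcyclic X.Modules).rightOrthogonal K) :
    (HomotopyCategory.subcategoryAcyclic U.toScheme.Modules).rightOrthogonal
      (((Scheme.Modules.restrictFunctor U.ι).mapHomotopyCategory (ComplexShape.up ℤ)).obj K) := by
  obtain ⟨I, rfl⟩ := HomotopyCategory.quotient_obj_surjective K
  haveI : CochainComplex.IsKInjective I := (CochainComplex.isKInjective_iff_rightOrthogonal I).2 hK
  haveI := isKInjective_RCx U I
  exact (CochainComplex.isKInjective_iff_rightOrthogonal ((RCx U).obj I)).1 inferInstance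

open DerivedCategory in
theorem main6508 (f : X ⟶ Y) (V : Y.Opens) [DCoh.HasRpush f] [DCoh.HasRpush (f ∣_ V)] :
    Nonempty (DCoh.Rpush f ⋙ DCoh.restrictD V.ι ≅
      DCoh.restrictD (f ⁻¹ᵁ V).ι ⋙ DCoh.Rpush (f ∣_ V)) := by
  haveI := grothendieck_modules X
  haveI := grothendieck_modules (f ⁻¹ᵁ V).toScheme
  let WX := HomotopyCategory.quasiIso X.Modules (ComplexShape.up ℤ)
  let WU := HomotopyCategory.quasiIso (f ⁻¹ᵁ V).toScheme.Modules (ComplexShape.up ℤ)
  let RU := (Scheme.Modules.restrictFunctor (f ⁻¹ᵁ V).ι).mapHomotopyCategory (ComplexShape.up ℤ)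
  let RV := (Scheme.Modules.restrictFunctor V.ι).mapHomotopyCategory (ComplexShape.up ℤ)
  let facU : Qh ⋙ DCoh.restrictD (f ⁻¹ᵁ V).ι ≅ RU ⋙ Qh :=
    (Scheme.Modules.restrictFunctor (f ⁻¹ᵁ V).ι).mapDerivedCategoryFactorsh
  let facV : Qh ⋙ DCoh.restrictD V.ι ≅ RV ⋙ Qh :=
    (Scheme.Modules.restrictFunctor V.ι).mapDerivedCategoryFactorsh
  let β₁ : DCoh.pushKh f ⟶ (Qh : _ ⥤ DCoh.D X) ⋙ DCoh.Rpush f :=
    (DCoh.pushKh f).totalRightDerivedUnit Qh WX
  let β₂ : DCoh.pushKh (f ∣_ V) ⟶ (Qh : _ ⥤ DCoh.D (f ⁻¹ᵁ V).toScheme) ⋙ DCoh.Rpush (f ∣_ V) :=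
    (DCoh.pushKh (f ∣_ V)).totalRightDerivedUnit Qh WU
  have hβ₁ : ∀ K, (HomotopyCategory.subcategoryAcyclic X.Modules).rightOrthogonal K →
      IsIso (β₁.app K) := fun K hK =>
    (OrthDeriv.main (P := HomotopyCategory.subcategoryAcyclic X.Modules) WX
      (HomotopyCategory.quasiIso_eq_trW_subcategoryAcyclic _)
      Groth.Agent.Lib.KInjGen8.hP (Qh : _ ⥤ DCoh.D X) (DCoh.pushKh f)).2 K hK
  have hβ₂ : ∀ K, (HomotopyCategory.subcategoryAcyclic
      (f ⁻¹ᵁ V).toScheme.Modules).rightOrthogonal K → IsIso (β₂.app K) := fun K hK =>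
    (OrthDeriv.main (P := HomotopyCategory.subcategoryAcyclic (f ⁻¹ᵁ V).toScheme.Modules) WU
      (HomotopyCategory.quasiIso_eq_trW_subcategoryAcyclic _)
      Groth.Agent.Lib.KInjGen8.hP (Qh : _ ⥤ DCoh.D (f ⁻¹ᵁ V).toScheme)
      (DCoh.pushKh (f ∣_ V))).2 K hK
  let α₁ : DCoh.pushKh f ⋙ DCoh.restrictD V.ι ⟶
      (Qh : _ ⥤ DCoh.D X) ⋙ (DCoh.Rpush f ⋙ DCoh.restrictD V.ι) :=
    Functor.whiskerRight β₁ (DCoh.restrictD V.ι) ≫ (Functor.associator _ _ _).hom
  let α₂ : RU ⋙ DCoh.pushKh (f ∣_ V) ⟶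
      (Qh : _ ⥤ DCoh.D X) ⋙ (DCoh.restrictD (f ⁻¹ᵁ V).ι ⋙ DCoh.Rpush (f ∣_ V)) :=
    Functor.whiskerLeft RU β₂ ≫ (Functor.associator _ _ _).inv ≫
      Functor.whiskerRight facU.inv (DCoh.Rpush (f ∣_ V)) ≫ (Functor.associator _ _ _).hom
  haveI h1 : (DCoh.Rpush f ⋙ DCoh.restrictD V.ι).IsRightDerivedFunctor α₁ WX := by
    refine isRightDerivedFunctor_of_isIso_on
      (P := HomotopyCategory.subcategoryAcyclic X.Modules) WX
      (HomotopyCategory.quasiIso_eq_trW_subcategoryAcyclic _)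
      Groth.Agent.Lib.KInjGen8.hP Qh _ _ _ (fun K hK => ?_)
    haveI : IsIso (β₁.app K) := hβ₁ K hK
    rw [NatTrans.comp_app]
    dsimp
    infer_instance
  haveI h2 : (DCoh.restrictD (f ⁻¹ᵁ V).ι ⋙ DCoh.Rpush (f ∣_ V)).IsRightDerivedFunctor α₂ WX := by
    refine isRightDerivedFunctor_of_isIso_on
      (P := HomotopyCategory.subcategoryAcyclic X.Modules) WX
      (HomotopyCategory.quasiIso_eq_trW_subcategoryAcyclic _)
      Groth.Agent.Lib.KInjGen8.hP Qh _ _ _ (fun K hK => ?_)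
    haveI : IsIso (β₂.app (RU.obj K)) := hβ₂ _ (rightOrthogonal_restrict _ K hK)
    simp only [α₂, NatTrans.comp_app]
    dsimp
    infer_instance
  let κ : (Scheme.Modules.pushforward f).mapHomotopyCategory (ComplexShape.up ℤ) ⋙ RV ≅
      RU ⋙ (Scheme.Modules.pushforward (f ∣_ V)).mapHomotopyCategory (ComplexShape.up ℤ) :=
    Functor.mapHomotopyCategoryCompIso (baseChangeIso f V) (ComplexShape.up ℤ) ≪≫
      (Functor.mapHomotopyCategoryCompIso
        (Iso.refl (Scheme.Modules.restrictFunctor (f ⁻¹ᵁ V).ι ⋙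
          Scheme.Modules.pushforward (f ∣_ V))) (ComplexShape.up ℤ)).symm
  let ι : DCoh.pushKh f ⋙ DCoh.restrictD V.ι ≅ RU ⋙ DCoh.pushKh (f ∣_ V) :=
    Functor.associator _ _ _ ≪≫ Functor.isoWhiskerLeft _ facV ≪≫
      (Functor.associator _ _ _).symm ≪≫ Functor.isoWhiskerRight κ Qh ≪≫
      Functor.associator _ _ _
  exact ⟨Functor.rightDerivedNatIso _ _ α₁ α₂ WX ι⟩

end

end Groth.Agent.Lib.BCOpenL
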