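import Groth.Agent.Lib.KFlatGen1_helper2

/-!
# K-flat complexes with respect to a bifunctor (helper2), part III:
homotopy invariance and distinguished triangles of the homotopy category
-/

set_option autoImplicit false
universe v u
open CategoryTheory Limits

namespace Groth.Agent.Lib.BifCone

open CochainComplex HomComplex

variable {A B : Type*} [Category A] [Category B] [Preadditive A] [Preadditive B]
  {Φ : CochainComplex A ℤ ⥤ CochainComplex B ℤ} (T : CochainAction Φ)

/-- a cochain action preserves homotopies -/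
noncomputable def CochainAction.mapHomotopy {K L : CochainComplex A ℤ} {f g : K ⟶ L}
    (h : Homotopy f g) : Homotopy (Φ.map f) (Φ.map g) :=
  (Cochain.equivHomotopy (Φ.map f) (Φ.map g)).symm
    ⟨T.map (Cochain.equivHomotopy f g h).1, by
      have hz := (Cochain.equivHomotopy f g h).2
      generalize (Cochain.equivHomotopy f g h).1 = z at hz
      rw [← T.map_ofHom, hz, T.map_add, T.map_ofHom, T.map_δ]⟩

/-- a cochain action preserves homotopy equivalences -/
noncomputable def CochainAction.mapHomotopyEquiv {K L : CochainComplex A ℤ}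
    (e : HomotopyEquiv K L) : HomotopyEquiv (Φ.obj K) (Φ.obj L) where
  hom := Φ.map e.hom
  inv := Φ.map e.inv
  homotopyHomInvId :=
    (Homotopy.ofEq (Φ.map_comp e.hom e.inv).symm).trans
      ((T.mapHomotopy e.homotopyHomInvId).trans (Homotopy.ofEq (Φ.map_id K)))
  homotopyInvHomId :=
    (Homotopy.ofEq (Φ.map_comp e.inv e.hom).symm).trans
      ((T.mapHomotopy e.homotopyInvHomId).trans (Homotopy.ofEq (Φ.map_id L)))

end Groth.Agent.Lib.BifCone

namespace Groth.Agent.Lib.KFlatGen

open Groth.Agent.Lib.BifCone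

variable {𝒜 : Type u} [Category.{v} 𝒜] [Abelian 𝒜]
  {F : 𝒜 ⥤ 𝒜 ⥤ 𝒜} [F.Additive] [∀ X, (F.obj X).Additive]
  [∀ (K₁ K₂ : CochainComplex 𝒜 ℤ), CochainComplex.HasMapBifunctor K₁ K₂ F]

lemma acyclic_of_homotopyEquiv {K K' : CochainComplex 𝒜 ℤ} (e : HomotopyEquiv K K')
    (h : K.Acyclic) : K'.Acyclic := by
  intro i
  rw [HomologicalComplex.exactAt_iff_isZero_homology]
  exact IsZero.of_iso ((HomologicalComplex.exactAt_iff_isZero_homology _ _).1 (h i))
    (e.toHomologyIso i).symm

theorem isKFlat_of_homotopyEquiv {K K' : CochainComplex 𝒜 ℤ} (e : HomotopyEquiv K K')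
    (h : IsKFlat F K) : IsKFlat F K' := fun L hL =>
  acyclic_of_homotopyEquiv ((action₂ F L).mapHomotopyEquiv e) (h L hL)

/-- two out of three for distinguished triangles of the homotopy category -/
theorem isKFlat_distTriang
    (T : Pretriangulated.Triangle (HomotopyCategory 𝒜 (ComplexShape.up ℤ)))
    (hT : T ∈ Pretriangulated.distinguishedTriangles) :
    (IsKFlat F T.obj₁.as → IsKFlat F T.obj₂.as → IsKFlat F T.obj₃.as) ∧
    (IsKFlat F T.obj₁.as → IsKFlat F T.obj₃.as → IsKFlat F T.obj₂.as) ∧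
    (IsKFlat F T.obj₂.as → IsKFlat F T.obj₃.as → IsKFlat F T.obj₁.as) := by
  obtain ⟨K, L, φ, ⟨e⟩⟩ := hT
  have e₁ : HomotopyEquiv T.obj₁.as K :=
    HomotopyCategory.homotopyEquivOfIso (Pretriangulated.Triangle.π₁.mapIso e)
  have e₂ : HomotopyEquiv T.obj₂.as L :=
    HomotopyCategory.homotopyEquivOfIso (Pretriangulated.Triangle.π₂.mapIso e)
  have e₃ : HomotopyEquiv T.obj₃.as (CochainComplex.mappingCone φ) :=
    HomotopyCategory.homotopyEquivOfIso (Pretriangulated.Triangle.π₃.mapIso e)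
  obtain ⟨h1, h2, h3⟩ := isKFlat_mappingCone (F := F) φ
  refine ⟨?_, ?_, ?_⟩
  · intro a b
    exact isKFlat_of_homotopyEquiv e₃.symm
      (h1 (isKFlat_of_homotopyEquiv e₁ a) (isKFlat_of_homotopyEquiv e₂ b))
  · intro a c
    exact isKFlat_of_homotopyEquiv e₂.symm
      (h2 (isKFlat_of_homotopyEquiv e₁ a) (isKFlat_of_homotopyEquiv e₃ c))
  · intro b c
    exact isKFlat_of_homotopyEquiv e₁.symm
      (h3 (isKFlat_of_homotopyEquiv e₂ b) (isKFlat_of_homotopyEquiv e₃ c))

end Groth.Agent.Lib.KFlatGen
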