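import Mathlib

/-!
# Left derived functors from a left-adapted triangulated class with resolutions (helper3)

Pure Mathlib.

* `isLeftDerivedFunctor_unop`: a right derived functor of `F.op` (w.r.t. `L.op`, `W.op`) gives a
  left derived functor of `F`.
* `Der.hasLeftDerivedFunctor`, `Der.isIso_counit_app`: a left derivability structure `Φ` such that
  `Φ.functor ⋙ F` inverts `W₁` derives `F` on the left, and the counit of any left derived functor
  is an isomorphism on the image of `Φ.functor`.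
* `Tri.isLeftDerivabilityStructure`: for triangulated subcategories `A`, `B` of a triangulated
  category such that every object receives a `B.trW`-morphism from an object of `A`, the inclusion
  of `A` is a left derivability structure for `B.trW`.
* `main_has`, `main_isIso`: the combination.
* `isTriangulated_of_two_of_three`: constructor of triangulated subcategories.
-/

set_option autoImplicit false
set_option linter.all false
set_option maxHeartbeats 1600000
set_option backward.isDefEq.respectTransparency false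
set_option backward.isDefEq.respectTransparency.types false
set_option backward.defeqAttrib.useBackward true

open CategoryTheory CategoryTheory.Limits Pretriangulated Opposite

namespace Groth.Agent.Lib.LDerResH3

universe v₁ v₂ v₃ v₄ u₁ u₂ u₃ u₄

section Op

variable {C : Type u₁} {D : Type u₂} {H : Type u₃} [Category.{v₁} C] [Category.{v₂} D]
  [Category.{v₃} H] (L : C ⥤ D) (W : MorphismProperty C) [L.IsLocalization W] (F : C ⥤ H)

/-- the counit `L ⋙ RF.unop ⟶ F` attached to a unit `F.op ⟶ L.op ⋙ RF` -/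
def unopCounit (RF : Dᵒᵖ ⥤ Hᵒᵖ) (α : F.op ⟶ L.op ⋙ RF) : L ⋙ RF.unop ⟶ F where
  app X := (α.app (op X)).unop
  naturality X Y f := Quiver.Hom.op_inj (α.naturality f.op).symm

/-- the unit `F.op ⟶ L.op ⋙ G.op` attached to `L ⋙ G ⟶ F` -/
def opUnit (G : D ⥤ H) (γ : L ⋙ G ⟶ F) : F.op ⟶ L.op ⋙ G.op where
  app X := (γ.app X.unop).op
  naturality X Y f := Quiver.Hom.unop_inj (γ.naturality f.unop).symm

/-- `RF ⟶ G.op` gives `G ⟶ RF.unop` -/
def unopNat (RF : Dᵒᵖ ⥤ Hᵒᵖ) (G : D ⥤ H) (δ : RF ⟶ G.op) : G ⟶ RF.unop where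
  app Y := (δ.app (op Y)).unop
  naturality X Y f := Quiver.Hom.op_inj (δ.naturality f.op).symm

/-- `G ⟶ RF.unop` gives `RF ⟶ G.op` -/
def opNat (RF : Dᵒᵖ ⥤ Hᵒᵖ) (G : D ⥤ H) (m : G ⟶ RF.unop) : RF ⟶ G.op where
  app Z := (m.app Z.unop).op
  naturality X Y f := Quiver.Hom.unop_inj (m.naturality f.unop).symm

omit [L.IsLocalization W] in
lemma unopNat_opNat (RF : Dᵒᵖ ⥤ Hᵒᵖ) (G : D ⥤ H) (m : G ⟶ RF.unop) :
    unopNat RF G (opNat RF G m) = m := rfl

/-- **a right derived functor of `F.op` gives a left derived functor of `F`** -/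
theorem isLeftDerivedFunctor_unop (RF : Dᵒᵖ ⥤ Hᵒᵖ) (α : F.op ⟶ L.op ⋙ RF)
    [RF.IsRightDerivedFunctor α W.op] :
    RF.unop.IsLeftDerivedFunctor (unopCounit L F RF α) W := by
  refine ⟨⟨⟨Limits.IsTerminal.ofUniqueHom (fun E => CostructuredArrow.homMk
    (unopNat RF E.left (RF.rightDerivedDesc α W.op E.left.op (opUnit L F E.left E.hom))) ?_)
    (fun E m => ?_)⟩⟩⟩
  · refine NatTrans.ext (funext fun X => ?_)
    have h := congrArg (fun t => (t.app (op X)).unop)
      (RF.rightDerived_fac α W.op E.left.op (opUnit L F E.left E.hom))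
    exact h
  · apply CostructuredArrow.hom_ext
    have hw : Functor.whiskerLeft L m.left ≫ unopCounit L F RF α = E.hom := CostructuredArrow.w m
    have h1 : opNat RF E.left m.left =
        RF.rightDerivedDesc α W.op E.left.op (opUnit L F E.left E.hom) := by
      apply RF.rightDerived_ext α W.op
      rw [RF.rightDerived_fac α W.op]
      refine NatTrans.ext (funext fun Z => ?_)
      have h2 := congrArg (fun t => (t.app Z.unop).op) hw
      exact h2
    show m.left = unopNat RF E.left _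
    rw [← h1]
    rfl

end Op

section Der

variable {C₁ : Type u₁} {C₂ : Type u₂} {H : Type u₃} {D₂ : Type u₄}
  [Category.{v₁} C₁] [Category.{v₂} C₂] [Category.{v₃} H] [Category.{v₄} D₂]
  {W₁ : MorphismProperty C₁} {W₂ : MorphismProperty C₂}
  (Φ : LocalizerMorphism W₁ W₂) (F : C₂ ⥤ H) (h : Φ.Derives F)

include h in
lemma derives_op : Φ.op.Derives F.op := by
  intro X Y f hf
  haveI : IsIso ((Φ.functor ⋙ F).map f.unop) := h _ hf
  show IsIso ((F.map (Φ.functor.map f.unop)).op)
  haveI : IsIso (F.map (Φ.functor.map f.unop)) := ‹IsIso ((Φ.functor ⋙ F).map f.unop)›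
  infer_instance

variable [Φ.IsLeftDerivabilityStructure]

include h in
/-- a left derivability structure deriving `F` gives a left derived functor -/
theorem Der.hasLeftDerivedFunctor : F.HasLeftDerivedFunctor W₂ := by
  have hop := derives_op Φ F h
  haveI := hop.hasPointwiseRightDerivedFunctor
  haveI := isLeftDerivedFunctor_unop W₂.Q W₂ F (F.op.totalRightDerived W₂.Q.op W₂.op)
    (F.op.totalRightDerivedUnit W₂.Q.op W₂.op)
  exact Functor.HasLeftDerivedFunctor.mk' (F.op.totalRightDerived W₂.Q.op W₂.op).unop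
    (unopCounit W₂.Q F _ (F.op.totalRightDerivedUnit W₂.Q.op W₂.op))

include h in
/-- the counit of a left derived functor is an isomorphism on the image of `Φ.functor` -/
theorem Der.isIso_counit_app (L₂ : C₂ ⥤ D₂) [L₂.IsLocalization W₂] (LF : D₂ ⥤ H)
    (β : L₂ ⋙ LF ⟶ F) [LF.IsLeftDerivedFunctor β W₂] (X₁ : C₁) :
    IsIso (β.app (Φ.functor.obj X₁)) := by
  have hop := derives_op Φ F h
  haveI := hop.hasPointwiseRightDerivedFunctor
  let RF := F.op.totalRightDerived L₂.op W₂.op
  let α := F.op.totalRightDerivedUnit L₂.op W₂.op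
  haveI : RF.unop.IsLeftDerivedFunctor (unopCounit L₂ F RF α) W₂ :=
    isLeftDerivedFunctor_unop L₂ W₂ F RF α
  have h1 : IsIso (α.app (Φ.op.functor.obj (op X₁))) :=
    hop.isIso_of_isRightDerivedFunctor α (op X₁)
  have h2 : IsIso ((unopCounit L₂ F RF α).app (Φ.functor.obj X₁)) := by
    show IsIso (α.app (op (Φ.functor.obj X₁))).unop
    haveI : IsIso (α.app (op (Φ.functor.obj X₁))) := h1
    infer_instance
  let e : LF ≅ RF.unop := Functor.leftDerivedUnique RF.unop LF β (unopCounit L₂ F RF α) W₂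
  have he : e.hom.app (L₂.obj (Φ.functor.obj X₁)) ≫
      (unopCounit L₂ F RF α).app (Φ.functor.obj X₁) = β.app (Φ.functor.obj X₁) := by
    have := Functor.leftDerivedNatTrans_app LF RF.unop β (unopCounit L₂ F RF α) W₂ (𝟙 F)
      (Φ.functor.obj X₁)
    exact this.trans (Category.comp_id _)
  rw [← he]
  infer_instance

end Der

section Tri

variable {C : Type u₁} [Category.{v₁} C] [HasZeroObject C] [HasShift C ℤ] [Preadditive C]
  [∀ n : ℤ, (shiftFunctor C n).Additive] [Pretriangulated C] [IsTriangulated C]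
  (A B : ObjectProperty C) [A.IsTriangulated] [B.IsTriangulated] [B.IsClosedUnderIsomorphisms]

/-- the localizer morphism -/
abbrev Φ : LocalizerMorphism (B.inverseImage A.ι).trW B.trW := A.triangulatedLocalizerMorphism B

variable (hres : ∀ X : C, ∃ (P : C) (s : P ⟶ X), A P ∧ B.trW s)

include hres

lemma Tri.isVerdierLeftLocalizing : A.IsVerdierLeftLocalizing B := by
  rw [ObjectProperty.isVerdierLeftLocalizing_iff]
  intro X Y s hY hs
  obtain ⟨Z, a, hZ, ha⟩ := hres X
  refine ⟨Z, a ≫ s, a, hZ, ?_, rfl⟩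
  have h1 : B.trW (a ≫ s) := B.trW.comp_mem _ _ ha hs
  obtain ⟨U, hU, e, f, hT⟩ := A.distinguished_cocone_triangle (a ≫ s) hZ hY
  have hBU : B U := (B.trW_iff_of_distinguished _ hT).1 h1
  exact ⟨U, e, f, hT, ⟨hU, hBU⟩⟩

lemma Tri.hasLeftResolutions : (Φ A B).HasLeftResolutions := fun X => by
  obtain ⟨P, s, hP, hs⟩ := hres X
  exact ⟨{ X₁ := ⟨P, hP⟩, w := s, hw := hs }⟩

lemma Tri.isLocalizedEquivalence : (Φ A B).IsLocalizedEquivalence := by
  haveI := Tri.isVerdierLeftLocalizing A B hres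
  haveI := Tri.hasLeftResolutions A B hres
  let G := (Φ A B).localizedFunctor (B.inverseImage A.ι).trW.Q B.trW.Q
  haveI : G.EssSurj := ⟨fun Y => by
    haveI := (Φ A B).essSurj_of_hasLeftResolutions B.trW.Q
    let e : (Φ A B).functor ⋙ B.trW.Q ≅ (B.inverseImage A.ι).trW.Q ⋙ G :=
      CatCommSq.iso (Φ A B).functor (B.inverseImage A.ι).trW.Q B.trW.Q G
    exact ⟨(B.inverseImage A.ι).trW.Q.obj (((Φ A B).functor ⋙ B.trW.Q).objPreimage Y),
      ⟨(e.app _).symm ≪≫ ((Φ A B).functor ⋙ B.trW.Q).objObjPreimageIso Y⟩⟩⟩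
  haveI : G.IsEquivalence := { }
  exact LocalizerMorphism.IsLocalizedEquivalence.mk' (Φ A B) (B.inverseImage A.ι).trW.Q B.trW.Q G

/-- roofs -/
lemma Tri.roof {X Y P' : C} (f : X ⟶ Y) (w' : P' ⟶ Y) (hw' : B.trW w') :
    ∃ (Q : C) (t : Q ⟶ X) (g : Q ⟶ P'), A Q ∧ B.trW t ∧ t ≫ f = g ≫ w' := by
  obtain ⟨ψ, hψ⟩ := (MorphismProperty.LeftFraction.mk f w' hw').exists_rightFraction
  obtain ⟨Q, q, hQ, hq⟩ := hres ψ.X'
  refine ⟨Q, q ≫ ψ.s, q ≫ ψ.f, hQ, B.trW.comp_mem _ _ hq ψ.hs, ?_⟩
  have hψ' : ψ.s ≫ f = ψ.f ≫ w' := hψ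
  rw [Category.assoc, hψ', Category.assoc]

lemma Tri.isConnected_leftResolution (X : C) : IsConnected ((Φ A B).LeftResolution X) := by
  haveI : Nonempty ((Φ A B).LeftResolution X) := Tri.hasLeftResolutions A B hres X
  apply zigzag_isConnected
  intro R R'
  obtain ⟨Q, t, g, hQ, ht, fac⟩ := Tri.roof A B hres R.w R'.w R'.hw
  let R'' : (Φ A B).LeftResolution X :=
    { X₁ := ⟨Q, hQ⟩, w := t ≫ R.w, hw := B.trW.comp_mem _ _ ht R.hw }
  have z1 : Zigzag R'' R := Zigzag.of_hom { f := ObjectProperty.homMk t, comm := rfl }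
  have z2 : Zigzag R'' R' := Zigzag.of_hom { f := ObjectProperty.homMk g, comm := fac.symm }
  exact z1.symm.trans z2

lemma Tri.hasLeftResolutions_arrow : (Φ A B).arrow.HasLeftResolutions := by
  intro f
  obtain ⟨P', w', hP', hw'⟩ := hres f.right
  obtain ⟨Q, t, g, hQ, ht, fac⟩ := Tri.roof A B hres f.hom w' hw'
  exact ⟨{ X₁ := Arrow.mk (ObjectProperty.homMk g :
              (⟨Q, hQ⟩ : A.FullSubcategory) ⟶ ⟨P', hP'⟩)
           w := Arrow.homMk t w' fac
           hw := ⟨ht, hw'⟩ }⟩

theorem Tri.isLeftDerivabilityStructure : (Φ A B).IsLeftDerivabilityStructure := by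
  haveI := Tri.isConnected_leftResolution A B hres
  haveI := Tri.hasLeftResolutions_arrow A B hres
  haveI := Tri.isLocalizedEquivalence A B hres
  exact LocalizerMorphism.IsLeftDerivabilityStructure.mk' (Φ A B)

omit hres in
/-- **existence of left derived functors from an adapted class with resolutions** -/
theorem main_has (hres : ∀ X : C, ∃ (P : C) (s : P ⟶ X), A P ∧ B.trW s)
    (W : MorphismProperty C) (hW : W = B.trW)
    {H : Type u₃} [Category.{v₃} H] (F : C ⥤ H)
    (hF : ∀ ⦃X Y : C⦄ (f : X ⟶ Y), A X → A Y → B.trW f → IsIso (F.map f)) :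
    F.HasLeftDerivedFunctor W := by
  subst hW
  haveI := Tri.isLeftDerivabilityStructure A B hres
  have h : (Φ A B).Derives F := by
    intro X Y f hf
    exact hF _ X.property Y.property ((Φ A B).map _ hf)
  exact Der.hasLeftDerivedFunctor (Φ A B) F h

omit hres in
/-- **the counit of a left derived functor is an isomorphism on the adapted class** -/
theorem main_isIso (hres : ∀ X : C, ∃ (P : C) (s : P ⟶ X), A P ∧ B.trW s)
    (W : MorphismProperty C) (hW : W = B.trW)
    {H : Type u₃} [Category.{v₃} H] (F : C ⥤ H)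
    (hF : ∀ ⦃X Y : C⦄ (f : X ⟶ Y), A X → A Y → B.trW f → IsIso (F.map f))
    {D : Type u₄} [Category.{v₄} D] (L : C ⥤ D) [L.IsLocalization W] (LF : D ⥤ H)
    (β : L ⋙ LF ⟶ F) [LF.IsLeftDerivedFunctor β W] (X : C) (hX : A X) : IsIso (β.app X) := by
  subst hW
  haveI := Tri.isLeftDerivabilityStructure A B hres
  have h : (Φ A B).Derives F := by
    intro X Y f hf
    exact hF _ X.property Y.property ((Φ A B).map _ hf)
  exact Der.isIso_counit_app (Φ A B) F h L LF β ⟨X, hX⟩

end Tri

section TwoOfThree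

variable {C : Type u₁} [Category.{v₁} C] [HasZeroObject C] [HasShift C ℤ] [Preadditive C]
  [∀ n : ℤ, (shiftFunctor C n).Additive] [Pretriangulated C]

/-- a class of objects closed under isomorphisms, containing a zero object and satisfying two out
of three in distinguished triangles is a triangulated subcategory -/
theorem isTriangulated_of_two_of_three (P : ObjectProperty C) [P.IsClosedUnderIsomorphisms]
    (h0 : ∃ Z : C, IsZero Z ∧ P Z)
    (h : ∀ T ∈ distTriang C, (P T.obj₁ → P T.obj₂ → P T.obj₃) ∧ (P T.obj₁ → P T.obj₃ → P T.obj₂) ∧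
      (P T.obj₂ → P T.obj₃ → P T.obj₁)) : P.IsTriangulated := by
  have hz : ∀ Z : C, IsZero Z → P Z := by
    intro Z hZ
    obtain ⟨Z', hZ', hP⟩ := h0
    exact P.prop_of_iso (hZ'.iso hZ) hP
  have h1 : P ≤ P.shift (1 : ℤ) := by
    intro X hX
    have hT := contractible_distinguished₂ X
    exact (h _ hT).1 hX (hz _ (isZero_zero C))
  have hm1 : P ≤ P.shift (-1 : ℤ) := by
    intro X hX
    have hT := contractible_distinguished₂ (X⟦(-1 : ℤ)⟧)
    refine (h _ hT).2.2 (hz _ (isZero_zero C)) ?_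
    exact P.prop_of_iso (shiftNegShift X (1 : ℤ)).symm hX
  have hn : ∀ n : ℤ, P ≤ P.shift n := by
    intro n
    induction n using Int.induction_on with
    | zero => rw [P.shift_zero]
    | succ n ih =>
      intro X hX
      have := ih _ (h1 _ hX)
      rw [← P.shift_shift (1 : ℤ) (n : ℤ) ((n : ℤ) + 1) (by ring)]
      exact this
    | pred n ih =>
      intro X hX
      have := ih _ (hm1 _ hX)
      rw [← P.shift_shift (-1 : ℤ) (-(n : ℤ)) (-(n : ℤ) - 1) (by ring)]
      exact this
  exact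
    { exists_zero := h0
      isStableUnderShiftBy := fun n => ⟨hn n⟩
      toIsTriangulatedClosed₂ := .mk' (fun T hT h₁ h₃ => (h T hT).2.1 h₁ h₃) }

end TwoOfThree

end Groth.Agent.Lib.LDerResH3
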