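import Groth.Agent.Lib.BifSES_helper2
import Groth.Agent.Lib.ModSite20_helper8
import Groth.Prelude.Def_KFlatSite

/-!
# K-flat complexes on ringed sites (helper2)
-/

open CategoryTheory Limits ModSite

namespace Groth.Agent.Lib.KFlatSite

universe u

variable {C : Type u} [SmallCategory C] {J : GrothendieckTopology C} (O : Sheaf J CommRingCat.{u})

open Groth.Agent.Lib.ModSiteH8

/-- coproducts indexed by a type in universe `0` are exact in `Mod O`. -/
instance hasExactColimitsOfShape_discrete (I : Type) :
    HasExactColimitsOfShape (Discrete I) (Mod O) := by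
  haveI := hasExactColimitsOfShape_sheafOfModules (ringSh O) (Finset (Discrete (ULift.{u} I)))
  haveI : HasFiniteBiproducts (Mod O) := HasFiniteBiproducts.of_hasFiniteProducts
  haveI : HasExactColimitsOfShape (Discrete (ULift.{u} I)) (Mod O) :=
    hasExactColimitsOfShape_discrete_of_hasExactColimitsOfShape_finset_discrete _ _
  exact HasExactColimitsOfShape.of_domain_equivalence (Mod O)
    (Discrete.equivalence (Equiv.ulift.{u} (α := I)))

variable {O}

lemma isKFlat_iff (E : CochainComplex (Mod O) ℤ) :
    ModSite.IsKFlat E ↔ ∀ L : CochainComplex (Mod O) ℤ, L.Acyclic →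
      (HomologicalComplex.mapBifunctor L E (tensorBi O) (ComplexShape.up ℤ)).Acyclic := by
  constructor
  · intro hE L hL i
    rw [HomologicalComplex.exactAt_iff_isZero_homology]
    exact hE L (fun j => (HomologicalComplex.exactAt_iff_isZero_homology _ _).1 (hL j)) i
  · intro hE L hL i
    have hL' : L.Acyclic := fun j => (HomologicalComplex.exactAt_iff_isZero_homology _ _).2 (hL j)
    exact (HomologicalComplex.exactAt_iff_isZero_homology _ _).1 (hE L hL' i)

/-- tensoring a short exact sequence with flat third term (on the left) is short exact. -/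
theorem shortExact_tensor_left (G : Mod O) (S : ShortComplex (Mod O)) (hS : S.ShortExact)
    (h3 : ModSite.IsFlat S.X₃) : (S.map ((tensorBi O).obj G)).ShortExact :=
  ShortComplex.shortExact_of_iso (ShortComplex.mapNatIso S (sigmaIso O G).symm)
    (tensor_shortExact_of_isFlat O S hS h3 G)

/-- `Tot(L ⊗ -)` applied to a short exact sequence of complexes whose third complex has flat terms. -/
theorem shortExact_tensorCx (L : CochainComplex (Mod O) ℤ)
    (S : ShortComplex (CochainComplex (Mod O) ℤ)) (hS : S.ShortExact)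
    (h3 : ∀ n : ℤ, ModSite.IsFlat (S.X₃.X n)) :
    (S.map ((tensorCx O).obj L)).ShortExact := by
  apply BifSES.shortExact_mapBifunctor₂ (tensorBi O) L S
  intro p q
  have hq : (S.map (HomologicalComplex.eval (Mod O) (ComplexShape.up ℤ) q)).ShortExact :=
    (HomologicalComplex.shortExact_iff_degreewise_shortExact S).1 hS q
  exact shortExact_tensor_left (L.X p) _ hq (h3 q)

theorem isKFlat_shortExact (S : ShortComplex (CochainComplex (Mod O) ℤ)) (hS : S.ShortExact)
    (h3 : ∀ n : ℤ, ModSite.IsFlat (S.X₃.X n)) :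
    (ModSite.IsKFlat S.X₁ → ModSite.IsKFlat S.X₂ → ModSite.IsKFlat S.X₃) ∧
    (ModSite.IsKFlat S.X₁ → ModSite.IsKFlat S.X₃ → ModSite.IsKFlat S.X₂) ∧
    (ModSite.IsKFlat S.X₂ → ModSite.IsKFlat S.X₃ → ModSite.IsKFlat S.X₁) := by
  have key := fun L => shortExact_tensorCx L S hS h3
  refine ⟨?_, ?_, ?_⟩
  · intro h1 h2
    rw [isKFlat_iff] at h1 h2 ⊢
    intro L hL i
    have e1 := fun j => (HomologicalComplex.exactAt_iff_isZero_homology _ _).1 (h1 L hL j)
    have e2 := fun j => (HomologicalComplex.exactAt_iff_isZero_homology _ _).1 (h2 L hL j)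
    exact (key L).exactAt_X₃ i ((e2 i).epi _) (fun j _ => (e1 j).mono _)
  · intro h1 h3'
    rw [isKFlat_iff] at h1 h3' ⊢
    intro L hL i
    exact (key L).exactAt_X₂ i (h1 L hL i) (h3' L hL i)
  · intro h2 h3'
    rw [isKFlat_iff] at h2 h3' ⊢
    intro L hL i
    have e2 := fun j => (HomologicalComplex.exactAt_iff_isZero_homology _ _).1 (h2 L hL j)
    have e3 := fun j => (HomologicalComplex.exactAt_iff_isZero_homology _ _).1 (h3' L hL j)
    exact (key L).exactAt_X₁ i ((e2 i).mono _) (fun j _ => (e3 j).epi _)

end Groth.Agent.Lib.KFlatSite
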