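import Mathlib
import Groth.Prelude
import Groth.Agent.Lib.StalkSky2_lead
import Groth.Agent.Lib.Tens1_helper8

/-!
# The stalk of a tensor product of `O_X`-modules, I: tools (helper3)

* `mkToSky`: a morphism `M ⟶ sky x E` from a compatible family of maps `Γ(M, U) → E`.
* `descStalk`: a morphism `M_x ⟶ E` from such a family, with its formula on germs.
* `pair`: the germ at `x` of `m|_{U ∩ V} ⊗ n|_{U ∩ V}`.
-/

set_option autoImplicit false
set_option linter.all false
set_option maxHeartbeats 1600000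
set_option backward.isDefEq.respectTransparency false
set_option backward.isDefEq.respectTransparency.types false
set_option backward.defeqAttrib.useBackward true

universe u
open CategoryTheory CategoryTheory.Limits AlgebraicGeometry Opposite TopologicalSpace TensorProduct

namespace Groth.Agent.Lib.StalkTensH3

open Groth.Agent.Lib.StalkSkyL QcqsLoc

noncomputable section

variable {X : Scheme.{u}} (x : X)

/-! ### germs -/

/-- the germ of a section, as an element of the stalk module -/
def gmM (M : X.Modules) (U : X.Opens) (hx : x ∈ U) (s : Γ(M, U)) :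
    ↑((DerSch.stalkFunctor X x).obj M) :=
  M.presheaf.germ U x hx s

lemma gmM_add (M : X.Modules) (U : X.Opens) (hx : x ∈ U) (s t : Γ(M, U)) :
    gmM x M U hx (s + t) = gmM x M U hx s + gmM x M U hx t :=
  map_add (M.presheaf.germ U x hx).hom s t

lemma gmM_zero (M : X.Modules) (U : X.Opens) (hx : x ∈ U) :
    gmM x M U hx (0 : Γ(M, U)) = 0 :=
  map_zero (M.presheaf.germ U x hx).hom

lemma gmM_smul (M : X.Modules) (U : X.Opens) (hx : x ∈ U) (r : Γ(X, U)) (s : Γ(M, U)) :
    gmM x M U hx (r • s) = gm x U hx r • gmM x M U hx s :=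
  PresheafOfModules.germ_smul (R := X.presheaf)
    (show PresheafOfModules (X.presheaf ⋙ forget₂ CommRingCat RingCat) from M.val) x U hx r s

lemma gmM_res (M : X.Modules) {U V : X.Opens} (h : V ≤ U) (hx : x ∈ V) (s : Γ(M, U)) :
    gmM x M V hx (rF M h s) = gmM x M U (h hx) s :=
  M.presheaf.germ_res_apply (homOfLE h) x hx s

lemma exists_gmM (M : X.Modules) (a : ↑((DerSch.stalkFunctor X x).obj M)) :
    ∃ (U : X.Opens) (hx : x ∈ U) (s : Γ(M, U)), gmM x M U hx s = a := by
  obtain ⟨U, hxU, s, rfl⟩ := M.presheaf.exists_germ_eq (x := x) a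
  exact ⟨U, hxU, s, rfl⟩

lemma gm_rX {U V : X.Opens} (h : V ≤ U) (hx : x ∈ V) (r : Γ(X, U)) :
    gm x V hx (rX h r) = gm x U (h hx) r :=
  gm_res x (homOfLE h) hx r

lemma stalkFunctor_map_gmM {M N : X.Modules} (φ : M ⟶ N) (U : X.Opens) (hx : x ∈ U)
    (s : Γ(M, U)) :
    ((DerSch.stalkFunctor X x).map φ).hom (gmM x M U hx s) = gmM x N U hx (φ.app U s) :=
  DerSch.stalkFunctor_map_germ x φ U hx s

/-- two linear maps out of a stalk agreeing on germs are equal -/
lemma linearMap_ext_gmM (M : X.Modules) {Q : Type*} [AddCommGroup Q]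
    [Module (X.presheaf.stalk x) Q]
    (f g : ↑((DerSch.stalkFunctor X x).obj M) →ₗ[X.presheaf.stalk x] Q)
    (h : ∀ (U : X.Opens) (hx : x ∈ U) (s : Γ(M, U)), f (gmM x M U hx s) = g (gmM x M U hx s)) :
    f = g := by
  apply LinearMap.ext
  intro a
  obtain ⟨U, hx, s, rfl⟩ := exists_gmM x M a
  exact h U hx s

lemma hom_ext_gmM (M : X.Modules) {E : ModuleCat.{u} (X.presheaf.stalk x)}
    (f g : (DerSch.stalkFunctor X x).obj M ⟶ E)
    (h : ∀ (U : X.Opens) (hx : x ∈ U) (s : Γ(M, U)),
      f.hom (gmM x M U hx s) = g.hom (gmM x M U hx s)) :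
    f = g := by
  apply ModuleCat.hom_ext
  exact linearMap_ext_gmM x M _ _ h

/-! ### morphisms to a skyscraper -/

variable (M : X.Modules) (E : ModuleCat.{u} (X.presheaf.stalk x))

/-- a morphism to a skyscraper from a compatible family of linear maps -/
def mkToSky (φ : ∀ (U : X.Opens), x ∈ U → Γ(M, U) → E)
    (hadd : ∀ (U : X.Opens) (hx : x ∈ U) (s t : Γ(M, U)), φ U hx (s + t) = φ U hx s + φ U hx t)
    (hsmul : ∀ (U : X.Opens) (hx : x ∈ U) (r : Γ(X, U)) (s : Γ(M, U)),
      φ U hx (r • s) = gm x U hx r • φ U hx s)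
    (hres : ∀ (U V : X.Opens) (h : V ≤ U) (hx : x ∈ V) (s : Γ(M, U)),
      φ V hx (rF M h s) = φ U (h hx) s) :
    M ⟶ sky x E :=
  (⟨PresheafOfModules.homMk (M₁ := M.val) (M₂ := skyPre x E)
    { app := fun V => AddCommGrpCat.ofHom
        { toFun := fun (s : Γ(M, V.unop)) => (show SkySec x E V.unop from
            fun h => φ V.unop h.down s)
          map_zero' := by
            funext h
            have h0 := hadd V.unop h.down 0 0
            rw [add_zero] at h0
            exact left_eq_add.mp h0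
          map_add' := fun s t => by funext h; exact hadd V.unop h.down s t }
      naturality := fun V W f => by
        ext s
        funext h
        exact hres V.unop W.unop (leOfHom f.unop) h.down s }
    (fun V r m => by
      funext h
      exact hsmul V.unop h.down r m)⟩ : SheafOfModules.Hom M (sky x E))

lemma mkToSky_app (φ : ∀ (U : X.Opens), x ∈ U → Γ(M, U) → E) (hadd) (hsmul) (hres)
    (U : X.Opens) (s : Γ(M, U)) (h : PLift (x ∈ U)) :
    skyFun x E ((mkToSky x M E φ hadd hsmul hres).app U s) h = φ U h.down s := rfl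

/-- the adjoint of a morphism to a skyscraper, on germs -/
lemma homEquiv_symm_gmM (g : M ⟶ sky x E) (U : X.Opens) (hx : x ∈ U) (s : Γ(M, U)) :
    (((stalkSkyAdj x).homEquiv M E).symm g).hom (gmM x M U hx s) =
      skyFun x E (g.app U s) ⟨hx⟩ := by
  rw [Adjunction.homEquiv_counit]
  show (skyCounit x E).hom (((DerSch.stalkFunctor X x).map g).hom (gmM x M U hx s)) = _
  rw [stalkFunctor_map_gmM]
  exact skyCounit_germ x E U hx (g.app U s)

/-- a morphism out of a stalk from a compatible family of linear maps -/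
def descStalk (φ : ∀ (U : X.Opens), x ∈ U → Γ(M, U) → E)
    (hadd : ∀ (U : X.Opens) (hx : x ∈ U) (s t : Γ(M, U)), φ U hx (s + t) = φ U hx s + φ U hx t)
    (hsmul : ∀ (U : X.Opens) (hx : x ∈ U) (r : Γ(X, U)) (s : Γ(M, U)),
      φ U hx (r • s) = gm x U hx r • φ U hx s)
    (hres : ∀ (U V : X.Opens) (h : V ≤ U) (hx : x ∈ V) (s : Γ(M, U)),
      φ V hx (rF M h s) = φ U (h hx) s) :
    (DerSch.stalkFunctor X x).obj M ⟶ E :=
  ((stalkSkyAdj x).homEquiv M E).symm (mkToSky x M E φ hadd hsmul hres)

lemma descStalk_gmM (φ : ∀ (U : X.Opens), x ∈ U → Γ(M, U) → E) (hadd) (hsmul) (hres)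
    (U : X.Opens) (hx : x ∈ U) (s : Γ(M, U)) :
    (descStalk x M E φ hadd hsmul hres).hom (gmM x M U hx s) = φ U hx s := by
  unfold descStalk
  rw [homEquiv_symm_gmM]
  rfl

end

end Groth.Agent.Lib.StalkTensH3
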