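import Mathlib
import Groth.Prelude
import Groth.Agent.Lib.StalkTens1_helper3

/-!
# The stalk of a tensor product of `O_X`-modules, II: the comparison maps (helper3)

`theta : M_x ⊗ N_x ⟶ (M ⊗ N)_x` and `rho : (M ⊗ N)_x ⟶ M_x ⊗ N_x`, mutually inverse.
-/

set_option autoImplicit false
set_option linter.all false
set_option maxHeartbeats 1600000
set_option backward.isDefEq.respectTransparency false
set_option backward.isDefEq.respectTransparency.types false
set_option backward.defeqAttrib.useBackward true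

universe u
open CategoryTheory CategoryTheory.Limits AlgebraicGeometry Opposite TopologicalSpace TensorProduct

namespace Groth.Agent.Lib.StalkTensH3

open Groth.Agent.Lib.StalkSkyL QcqsLoc MonoidalCategory

noncomputable section

variable {X : Scheme.{u}} (x : X) (M N : X.Modules)

/-- the stalk functor, abbreviated -/
abbrev stk := DerSch.stalkFunctor X x

/-- the section `m ⊗ n` of `M ⊗ N` -/
def tm (U : X.Opens) (m : Γ(M, U)) (n : Γ(N, U)) : Γ(CohB1.tensorMod M N, U) :=
  SecTwist.tmul M N U m n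

lemma tm_add_left (U : X.Opens) (m m' : Γ(M, U)) (n : Γ(N, U)) :
    tm M N U (m + m') n = tm M N U m n + tm M N U m' n :=
  TensH8.tmul_add_left M N U m m' n

lemma tm_add_right (U : X.Opens) (m : Γ(M, U)) (n n' : Γ(N, U)) :
    tm M N U m (n + n') = tm M N U m n + tm M N U m n' :=
  TensH8.tmul_add_right M N U m n n'

lemma tm_smul_left (U : X.Opens) (r : Γ(X, U)) (m : Γ(M, U)) (n : Γ(N, U)) :
    tm M N U (r • m) n = r • tm M N U m n :=
  TensH8.tmul_smul_left M N U r m n

lemma tm_smul_right (U : X.Opens) (r : Γ(X, U)) (m : Γ(M, U)) (n : Γ(N, U)) :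
    tm M N U m (r • n) = r • tm M N U m n :=
  TensH8.tmul_smul_right M N U r m n

lemma rF_tm {U V : X.Opens} (h : V ≤ U) (m : Γ(M, U)) (n : Γ(N, U)) :
    rF (CohB1.tensorMod M N) h (tm M N U m n) = tm M N V (rF M h m) (rF N h n) :=
  SecTwist.map_tmul M N (homOfLE h) m n

/-- the germ of `m ⊗ n` -/
def gT (U : X.Opens) (hx : x ∈ U) (m : Γ(M, U)) (n : Γ(N, U)) :
    ↑((stk x).obj (CohB1.tensorMod M N)) :=
  gmM x (CohB1.tensorMod M N) U hx (tm M N U m n)

lemma gT_add_left (U : X.Opens) (hx : x ∈ U) (m m' : Γ(M, U)) (n : Γ(N, U)) :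
    gT x M N U hx (m + m') n = gT x M N U hx m n + gT x M N U hx m' n := by
  unfold gT
  rw [tm_add_left, gmM_add]

lemma gT_add_right (U : X.Opens) (hx : x ∈ U) (m : Γ(M, U)) (n n' : Γ(N, U)) :
    gT x M N U hx m (n + n') = gT x M N U hx m n + gT x M N U hx m n' := by
  unfold gT
  rw [tm_add_right, gmM_add]

lemma gT_smul_left (U : X.Opens) (hx : x ∈ U) (r : Γ(X, U)) (m : Γ(M, U)) (n : Γ(N, U)) :
    gT x M N U hx (r • m) n = gm x U hx r • gT x M N U hx m n := by
  unfold gT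
  rw [tm_smul_left, gmM_smul]

lemma gT_smul_right (U : X.Opens) (hx : x ∈ U) (r : Γ(X, U)) (m : Γ(M, U)) (n : Γ(N, U)) :
    gT x M N U hx m (r • n) = gm x U hx r • gT x M N U hx m n := by
  unfold gT
  rw [tm_smul_right, gmM_smul]

lemma gT_res {U V : X.Opens} (h : V ≤ U) (hx : x ∈ V) (m : Γ(M, U)) (n : Γ(N, U)) :
    gT x M N V hx (rF M h m) (rF N h n) = gT x M N U (h hx) m n := by
  unfold gT
  rw [← rF_tm, gmM_res]

/-- the germ of `m|_{U ∩ V} ⊗ n|_{U ∩ V}` -/
def pair (U V : X.Opens) (hxU : x ∈ U) (hxV : x ∈ V) (m : Γ(M, U)) (n : Γ(N, V)) :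
    ↑((stk x).obj (CohB1.tensorMod M N)) :=
  gT x M N (U ⊓ V) ⟨hxU, hxV⟩ (rF M inf_le_left m) (rF N inf_le_right n)

lemma pair_add_left (U V : X.Opens) (hxU : x ∈ U) (hxV : x ∈ V) (m m' : Γ(M, U)) (n : Γ(N, V)) :
    pair x M N U V hxU hxV (m + m') n =
      pair x M N U V hxU hxV m n + pair x M N U V hxU hxV m' n := by
  unfold pair
  rw [map_add, gT_add_left]

lemma pair_add_right (U V : X.Opens) (hxU : x ∈ U) (hxV : x ∈ V) (m : Γ(M, U)) (n n' : Γ(N, V)) :
    pair x M N U V hxU hxV m (n + n') =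
      pair x M N U V hxU hxV m n + pair x M N U V hxU hxV m n' := by
  unfold pair
  rw [map_add, gT_add_right]

lemma pair_smul_left (U V : X.Opens) (hxU : x ∈ U) (hxV : x ∈ V) (r : Γ(X, U)) (m : Γ(M, U))
    (n : Γ(N, V)) :
    pair x M N U V hxU hxV (r • m) n = gm x U hxU r • pair x M N U V hxU hxV m n := by
  unfold pair
  rw [rF_smul, gT_smul_left, gm_rX]

lemma pair_smul_right (U V : X.Opens) (hxU : x ∈ U) (hxV : x ∈ V) (r : Γ(X, V)) (m : Γ(M, U))
    (n : Γ(N, V)) :
    pair x M N U V hxU hxV m (r • n) = gm x V hxV r • pair x M N U V hxU hxV m n := by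
  unfold pair
  rw [rF_smul, gT_smul_right, gm_rX]

lemma pair_res_left {U U' : X.Opens} (V : X.Opens) (h : U' ≤ U) (hxU : x ∈ U') (hxV : x ∈ V)
    (m : Γ(M, U)) (n : Γ(N, V)) :
    pair x M N U' V hxU hxV (rF M h m) n = pair x M N U V (h hxU) hxV m n := by
  unfold pair
  have hle : U' ⊓ V ≤ U ⊓ V := inf_le_inf_right V h
  rw [← gT_res x M N hle ⟨hxU, hxV⟩, rF_rF, rF_rF, rF_rF]

lemma pair_res_right (U : X.Opens) {V V' : X.Opens} (h : V' ≤ V) (hxU : x ∈ U) (hxV : x ∈ V')
    (m : Γ(M, U)) (n : Γ(N, V)) :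
    pair x M N U V' hxU hxV m (rF N h n) = pair x M N U V hxU (h hxV) m n := by
  unfold pair
  have hle : U ⊓ V' ≤ U ⊓ V := inf_le_inf_left U h
  rw [← gT_res x M N hle ⟨hxU, hxV⟩, rF_rF, rF_rF, rF_rF]

lemma pair_self (U : X.Opens) (hx : x ∈ U) (m : Γ(M, U)) (n : Γ(N, U)) :
    pair x M N U U hx hx m n = gT x M N U hx m n := by
  unfold pair
  have hle : U ⊓ U ≤ U := inf_le_left
  exact gT_res x M N hle ⟨hx, hx⟩ m n

/-! ### the map `theta` -/

/-- for a section `m`, the map `b ↦ m_x ⊗ b` -/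
def inner (U : X.Opens) (hxU : x ∈ U) (m : Γ(M, U)) :
    (stk x).obj N ⟶ (stk x).obj (CohB1.tensorMod M N) :=
  descStalk x N _ (fun V hxV n => pair x M N U V hxU hxV m n)
    (fun V hxV n n' => pair_add_right x M N U V hxU hxV m n n')
    (fun V hxV r n => pair_smul_right x M N U V hxU hxV r m n)
    (fun V V' h hxV n => pair_res_right x M N U h hxU hxV m n)

lemma inner_gmM (U : X.Opens) (hxU : x ∈ U) (m : Γ(M, U)) (V : X.Opens) (hxV : x ∈ V)
    (n : Γ(N, V)) :
    (inner x M N U hxU m).hom (gmM x N V hxV n) = pair x M N U V hxU hxV m n :=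
  descStalk_gmM x N _ _ _ _ _ V hxV n

/-- the module of linear maps `N_x → (M ⊗ N)_x` -/
abbrev HomE : ModuleCat.{u} (X.presheaf.stalk x) :=
  ModuleCat.of (X.presheaf.stalk x)
    (↑((stk x).obj N) →ₗ[X.presheaf.stalk x] ↑((stk x).obj (CohB1.tensorMod M N)))

/-- the curried form of `theta` -/
def outer : (stk x).obj M ⟶ HomE x M N :=
  descStalk x M (HomE x M N) (fun U hxU m => (inner x M N U hxU m).hom)
    (fun U hxU m m' => by
      refine linearMap_ext_gmM x N _ _ (fun V hxV n => ?_)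
      rw [LinearMap.add_apply, inner_gmM, inner_gmM, inner_gmM]
      exact pair_add_left x M N U V hxU hxV m m' n)
    (fun U hxU r m => by
      refine linearMap_ext_gmM x N _ _ (fun V hxV n => ?_)
      rw [LinearMap.smul_apply, inner_gmM, inner_gmM]
      exact pair_smul_left x M N U V hxU hxV r m n)
    (fun U U' h hxU m => by
      refine linearMap_ext_gmM x N _ _ (fun V hxV n => ?_)
      rw [inner_gmM, inner_gmM]
      exact pair_res_left x M N V h hxU hxV m n)

lemma outer_gmM (U : X.Opens) (hxU : x ∈ U) (m : Γ(M, U)) :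
    (outer x M N).hom (gmM x M U hxU m) = (inner x M N U hxU m).hom :=
  descStalk_gmM x M (HomE x M N) _ _ _ _ U hxU m

/-- `M_x ⊗ N_x ⟶ (M ⊗ N)_x` -/
def theta : (stk x).obj M ⊗ (stk x).obj N ⟶ (stk x).obj (CohB1.tensorMod M N) :=
  ModuleCat.ofHom (TensorProduct.lift (outer x M N).hom)

lemma theta_tmul (U V : X.Opens) (hxU : x ∈ U) (hxV : x ∈ V) (m : Γ(M, U)) (n : Γ(N, V)) :
    (theta x M N).hom (gmM x M U hxU m ⊗ₜ gmM x N V hxV n) = pair x M N U V hxU hxV m n := by
  show TensorProduct.lift (outer x M N).hom (gmM x M U hxU m ⊗ₜ gmM x N V hxV n) = _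
  rw [TensorProduct.lift.tmul, outer_gmM, inner_gmM]

/-! ### the map `rho` -/

/-- the bilinear pairing `(m, n) ↦ m_x ⊗ n_x` with values in the skyscraper -/
def bil : FLFH8.BilinData M N (sky x ((stk x).obj M ⊗ (stk x).obj N)) where
  β U m n := skyMk x _ (fun h => gmM x M U h.down m ⊗ₜ gmM x N U h.down n)
  add_left U m m' n := by
    apply sky_ext
    intro k
    rw [skyFun_add, skyFun_skyMk, skyFun_skyMk, skyFun_skyMk, gmM_add, TensorProduct.add_tmul]
  smul_left U r m n := by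
    apply sky_ext
    intro k
    rw [skyFun_smul, skyFun_skyMk, skyFun_skyMk, gmM_smul, TensorProduct.smul_tmul']
  add_right U m n n' := by
    apply sky_ext
    intro k
    rw [skyFun_add, skyFun_skyMk, skyFun_skyMk, skyFun_skyMk, gmM_add, TensorProduct.tmul_add]
  smul_right U r m n := by
    apply sky_ext
    intro k
    rw [skyFun_smul, skyFun_skyMk, skyFun_skyMk, gmM_smul, TensorProduct.tmul_smul]
  natural {U V} h m n := by
    apply sky_ext
    intro k
    rw [skyFun_skyMk]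
    refine (skyFun_map x _ (homOfLE h) _ k).trans ?_
    rw [skyFun_skyMk, gmM_res, gmM_res]

/-- `(M ⊗ N)_x ⟶ M_x ⊗ N_x` -/
def rho : (stk x).obj (CohB1.tensorMod M N) ⟶ (stk x).obj M ⊗ (stk x).obj N :=
  ((stalkSkyAdj x).homEquiv _ _).symm (bil x M N).toHom

lemma rho_gT (U : X.Opens) (hx : x ∈ U) (m : Γ(M, U)) (n : Γ(N, U)) :
    (rho x M N).hom (gT x M N U hx m n) = gmM x M U hx m ⊗ₜ gmM x N U hx n := by
  unfold rho gT
  rw [homEquiv_symm_gmM]
  have h := (bil x M N).toHom_tmul U m n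
  show skyFun x _ (((bil x M N).toHom.val.app (op U)).hom (SecTwist.tmul M N U m n)) ⟨hx⟩ = _
  rw [h]
  rfl

/-! ### they are mutually inverse -/

/-- two morphisms out of `(M ⊗ N)_x` agreeing on germs of pure tensors are equal -/
lemma hom_ext_gT {E : ModuleCat.{u} (X.presheaf.stalk x)}
    (f g : (stk x).obj (CohB1.tensorMod M N) ⟶ E)
    (h : ∀ (U : X.Opens) (hx : x ∈ U) (m : Γ(M, U)) (n : Γ(N, U)),
      f.hom (gT x M N U hx m n) = g.hom (gT x M N U hx m n)) : f = g := by
  have key : ∀ (V : X.Opens) (hxV : x ∈ V) (p : ↥((CohB1.tensorPre M N).obj (op V))),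
      f.hom (gmM x (CohB1.tensorMod M N) V hxV (TensH8.eta M N V p)) =
        g.hom (gmM x (CohB1.tensorMod M N) V hxV (TensH8.eta M N V p)) := by
    intro V hxV p
    induction p using TensorProduct.induction_on with
    | zero => rw [map_zero, gmM_zero, map_zero, map_zero]
    | tmul m n => exact h V hxV m n
    | add p q hp hq => rw [map_add, gmM_add, map_add, map_add, hp, hq]
  apply hom_ext_gmM
  intro U hx t
  obtain ⟨V, hV, hxV, p, hp⟩ := TensH8.eta_locally_surjective M N t x hx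
  have h1 : gmM x (CohB1.tensorMod M N) U hx t =
      gmM x (CohB1.tensorMod M N) V hxV (TensH8.eta M N V p) := by
    rw [hp]
    exact (gmM_res x (CohB1.tensorMod M N) hV hxV t).symm
  rw [h1]
  exact key V hxV p

lemma rho_theta : theta x M N ≫ rho x M N = 𝟙 _ := by
  apply ModuleCat.hom_ext
  apply TensorProduct.ext'
  intro a b
  obtain ⟨U, hxU, m, rfl⟩ := exists_gmM x M a
  obtain ⟨V, hxV, n, rfl⟩ := exists_gmM x N b
  show (rho x M N).hom ((theta x M N).hom (gmM x M U hxU m ⊗ₜ gmM x N V hxV n)) =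
    gmM x M U hxU m ⊗ₜ gmM x N V hxV n
  rw [theta_tmul]
  unfold pair
  rw [rho_gT, gmM_res, gmM_res]

lemma theta_rho : rho x M N ≫ theta x M N = 𝟙 _ := by
  apply hom_ext_gT
  intro U hx m n
  show (theta x M N).hom ((rho x M N).hom (gT x M N U hx m n)) = gT x M N U hx m n
  rw [rho_gT, theta_tmul, pair_self]

/-- **the stalk of a tensor product** -/
def stalkTensorIso :
    (stk x).obj (CohB1.tensorMod M N) ≅ (stk x).obj M ⊗ (stk x).obj N where
  hom := rho x M N
  inv := theta x M N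
  hom_inv_id := theta_rho x M N
  inv_hom_id := rho_theta x M N

end

end Groth.Agent.Lib.StalkTensH3
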