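import Mathlib
import Groth.Prelude
import Groth.Agent.Lib.StalkTens2_helper3

/-!
# The stalk of a tensor product of `O_X`-modules, III: naturality (helper3)

`stalkTensorNatIso x : tensorBi ⋙ (- ⋙ stalk_x) ≅ stalk_x ⋙ curriedTensor ⋙ (stalk_x ⋙ -)`.
-/

set_option autoImplicit false
set_option linter.all false
set_option maxHeartbeats 1600000
set_option backward.isDefEq.respectTransparency false
set_option backward.isDefEq.respectTransparency.types false
set_option backward.defeqAttrib.useBackward true

universe u
open CategoryTheory CategoryTheory.Limits AlgebraicGeometry Opposite TopologicalSpace TensorProduct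

namespace Groth.Agent.Lib.StalkTensH3

open Groth.Agent.Lib.StalkSkyL QcqsLoc MonoidalCategory

noncomputable section

variable {X : Scheme.{u}} (x : X)

/-- sheafification of a map of presheaf tensor products, on sections coming from the presheaf -/
lemma shP_map_eta {M N M' N' : X.Modules}
    (φ : (CohB1.tensorPre M N : X.PresheafOfModules) ⟶ (CohB1.tensorPre M' N' : X.PresheafOfModules))
    (U : X.Opens) (p : ↥((CohB1.tensorPre M N).obj (op U))) :
    (((CohB1.sheafifyMod X).map φ).val.app (op U)).hom (TensH8.eta M N U p) =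
      TensH8.eta M' N' U ((φ.app (op U)).hom p) := by
  have h := (PresheafOfModules.sheafificationAdjunction (𝟙 X.ringCatSheaf.obj)).unit.naturality φ
  have h2 := congrArg (fun ψ => (PresheafOfModules.Hom.app ψ (op U)).hom p) h
  exact h2.symm

lemma tensorBi_obj_map_tm (M : X.Modules) {N N' : X.Modules} (g : N ⟶ N') (U : X.Opens)
    (m : Γ(M, U)) (n : Γ(N, U)) :
    ((DCoh.tensorBi.obj M).map g).app U (tm M N U m n) = tm M N' U m (g.app U n) := by
  have h := shP_map_eta (M := M) (N := N) (M' := M) (N' := N')
    (DCoh.toP.obj M ◁ DCoh.toP.map g) U (m ⊗ₜ n)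
  exact h

lemma tensorBi_map_app_tm {M M' : X.Modules} (f : M ⟶ M') (N : X.Modules) (U : X.Opens)
    (m : Γ(M, U)) (n : Γ(N, U)) :
    ((DCoh.tensorBi.map f).app N).app U (tm M N U m n) = tm M' N U (f.app U m) n := by
  have h := shP_map_eta (M := M) (N := N) (M' := M') (N' := N)
    (DCoh.toP.map f ▷ DCoh.toP.obj N) U (m ⊗ₜ n)
  exact h

lemma rho_natural_right (M : X.Modules) {N N' : X.Modules} (g : N ⟶ N') :
    (stk x).map ((DCoh.tensorBi.obj M).map g) ≫ rho x M N' =
      rho x M N ≫ ((stk x).obj M ◁ (stk x).map g) := by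
  apply hom_ext_gT
  intro U hx m n
  show (rho x M N').hom (((stk x).map ((DCoh.tensorBi.obj M).map g)).hom (gT x M N U hx m n)) =
    ((stk x).obj M ◁ (stk x).map g).hom ((rho x M N).hom (gT x M N U hx m n))
  rw [rho_gT]
  have h1 : ((stk x).map ((DCoh.tensorBi.obj M).map g)).hom (gT x M N U hx m n) =
      gT x M N' U hx m (g.app U n) :=
    (stalkFunctor_map_gmM x ((DCoh.tensorBi.obj M).map g) U hx (tm M N U m n)).trans
      (congrArg (gmM x (CohB1.tensorMod M N') U hx) (tensorBi_obj_map_tm M g U m n))
  rw [h1, rho_gT, ModuleCat.MonoidalCategory.whiskerLeft_apply, stalkFunctor_map_gmM]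

lemma rho_natural_left {M M' : X.Modules} (f : M ⟶ M') (N : X.Modules) :
    (stk x).map ((DCoh.tensorBi.map f).app N) ≫ rho x M' N =
      rho x M N ≫ ((stk x).map f ▷ (stk x).obj N) := by
  apply hom_ext_gT
  intro U hx m n
  show (rho x M' N).hom (((stk x).map ((DCoh.tensorBi.map f).app N)).hom (gT x M N U hx m n)) =
    ((stk x).map f ▷ (stk x).obj N).hom ((rho x M N).hom (gT x M N U hx m n))
  rw [rho_gT]
  have h1 : ((stk x).map ((DCoh.tensorBi.map f).app N)).hom (gT x M N U hx m n) =
      gT x M' N U hx (f.app U m) n :=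
    (stalkFunctor_map_gmM x ((DCoh.tensorBi.map f).app N) U hx (tm M N U m n)).trans
      (congrArg (gmM x (CohB1.tensorMod M' N) U hx) (tensorBi_map_app_tm f N U m n))
  rw [h1, rho_gT, ModuleCat.MonoidalCategory.whiskerRight_apply, stalkFunctor_map_gmM]

/-- **the stalk of a tensor product**, as an isomorphism of bifunctors -/
def stalkTensorNatIso :
    DCoh.tensorBi (X := X) ⋙ (Functor.whiskeringRight X.Modules X.Modules _).obj (stk x) ≅
      stk x ⋙ curriedTensor (ModuleCat.{u} (X.presheaf.stalk x)) ⋙
        (Functor.whiskeringLeft X.Modules _ _).obj (stk x) :=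
  NatIso.ofComponents (fun M => NatIso.ofComponents (fun N => stalkTensorIso x M N)
    (fun g => rho_natural_right x M g)) (fun f => by
      refine NatTrans.ext (funext fun N => ?_)
      exact rho_natural_left x f N)

end

end Groth.Agent.Lib.StalkTensH3
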