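import Mathlib
import Groth.Prelude
import Groth.Agent.Lib.StalkTens3_helper3
import Groth.Agent.Lib.ExtKFlat_helper2
import Groth.Agent.Lib.KFlatSite_helper2
import Groth.Agent.Lib.TorAmpPush_lead
import Groth.Agent.Lib.GlobGen_helper9

/-!
# K-flatness is stalkwise (helper3)

* `skyFunctor x` is exact and `stalk ∘ sky ≅ id`.
* a complex of `O_X`-modules is acyclic iff all its complexes of stalks are.
* `stalkTotIso`: `(Tot (L ⊗ F))_x ≅ Tot (L_x ⊗ F_x)`.
* `isKFlat_iff_stalk`: `F` is K-flat iff all `F_x` are K-flat.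
-/

set_option autoImplicit false
set_option linter.all false
set_option maxHeartbeats 1600000
set_option backward.isDefEq.respectTransparency false
set_option backward.isDefEq.respectTransparency.types false
set_option backward.defeqAttrib.useBackward true

universe u
open CategoryTheory CategoryTheory.Limits AlgebraicGeometry Opposite TopologicalSpace TensorProduct

namespace Groth.Agent.Lib.StalkTensH3

open Groth.Agent.Lib.StalkSkyL QcqsLoc MonoidalCategory Groth.Agent.Lib.TorAmpPushL

noncomputable section

variable {X : Scheme.{u}} (x : X)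

/-! ### the skyscraper functor is exact, and `stalk ∘ sky ≅ id` -/

instance preservesLimits_skyFunctor : PreservesLimits (skyFunctor x) :=
  (stalkSkyAdj x).rightAdjoint_preservesLimits

instance additive_skyFunctor : (skyFunctor x).Additive where
  map_add {E E' f g} := by
    apply Scheme.Modules.hom_ext
    intro U
    ext φ
    rfl

lemma isBasis_univ : Opens.IsBasis (Set.univ : Set X.Opens) := by
  rw [Opens.isBasis_iff_nbhd]
  intro U y hy
  exact ⟨U, Set.mem_univ _, hy, le_rfl⟩

lemma epi_skyMap {E E' : ModuleCat.{u} (X.presheaf.stalk x)} (g : E ⟶ E') [Epi g] :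
    Epi (skyMap x g) := by
  have hg : Function.Surjective g.hom := (ModuleCat.epi_iff_surjective g).1 inferInstance
  apply GlobGen.epi_of_surjective_on_basis (skyMap x g) Set.univ isBasis_univ
  intro U _ ψ
  refine ⟨skyMk x E (fun h => (hg (skyFun x E' ψ h)).choose), ?_⟩
  apply sky_ext
  intro k
  rw [skyMap_app, skyFun_skyMk]
  exact (hg (skyFun x E' ψ k)).choose_spec

instance preservesFiniteColimits_skyFunctor : PreservesFiniteColimits (skyFunctor x) := by
  rw [Functor.preservesFiniteColimits_iff_forall_exact_map_and_epi]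
  intro S hS
  have h1 := (Functor.preservesFiniteLimits_iff_forall_exact_map_and_mono
    (skyFunctor x)).mp inferInstance S hS
  haveI := hS.epi_g
  exact ⟨h1.1, epi_skyMap x S.g⟩

lemma skyCounit_bijective (E : ModuleCat.{u} (X.presheaf.stalk x)) :
    Function.Bijective (skyCounit x E).hom := by
  constructor
  · rw [injective_iff_map_eq_zero]
    intro a ha
    obtain ⟨U, hxU, φ, rfl⟩ := exists_gmM x (sky x E) a
    have h1 : skyFun x E φ ⟨hxU⟩ = 0 := (skyCounit_germ x E U hxU φ).symm.trans ha
    have h2 : φ = 0 := by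
      apply sky_ext
      intro k
      exact h1
    rw [h2]
    exact gmM_zero x (sky x E) U hxU
  · intro e
    refine ⟨gmM x (sky x E) ⊤ trivial (skyMk x E (fun _ => e)), ?_⟩
    exact skyCounit_germ x E ⊤ trivial _

instance isIso_skyCounit (E : ModuleCat.{u} (X.presheaf.stalk x)) : IsIso (skyCounit x E) :=
  (ConcreteCategory.isIso_iff_bijective _).2 (skyCounit_bijective x E)

instance isIso_stalkSkyAdj_counit : IsIso (stalkSkyAdj x).counit := by
  haveI : ∀ E, IsIso ((stalkSkyAdj x).counit.app E) := fun E => isIso_skyCounit x E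
  exact NatIso.isIso_of_isIso_app _

/-- `stalk ∘ sky ≅ id` -/
def skyStalkIso : skyFunctor x ⋙ stk x ≅ 𝟭 _ := asIso (stalkSkyAdj x).counit

/-! ### acyclicity is stalkwise -/

lemma acyclic_of_forall_stalk (K : CochainComplex X.Modules ℤ)
    (h : ∀ x : X, (((stk x).mapHomologicalComplex (ComplexShape.up ℤ)).obj K).Acyclic) :
    K.Acyclic := by
  intro n
  rw [HomologicalComplex.exactAt_iff, ShortComplex.exact_iff_isZero_homology]
  apply isZero_of_forall_stalk
  intro x
  have h1 : ((K.sc n).map (stk x)).Exact := (HomologicalComplex.exactAt_iff _ _).1 (h x n)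
  have h2 : IsZero ((K.sc n).map (stk x)).homology :=
    (ShortComplex.exact_iff_isZero_homology _).1 h1
  have h3 : IsZero ((stk x).obj (K.sc n).homology) :=
    IsZero.of_iso h2 ((K.sc n).mapHomologyIso (stk x)).symm
  exact ModuleCat.subsingleton_of_isZero h3

/-! ### the stalk of the total tensor product -/

instance preservesColimits_stk : PreservesColimitsOfSize.{0, 0} (stk x) :=
  (stalkSkyAdj x).leftAdjoint_preservesColimits

/-- `(Tot (L ⊗ F))_x ≅ Tot (L_x ⊗ F_x)` -/
def stalkTotIso (L F : CochainComplex X.Modules ℤ) :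
    ((stk x).mapHomologicalComplex (ComplexShape.up ℤ)).obj
        (CochainComplex.mapBifunctor L F (DCoh.tensorBi (X := X))) ≅
      CochainComplex.mapBifunctor
        (((stk x).mapHomologicalComplex (ComplexShape.up ℤ)).obj L)
        (((stk x).mapHomologicalComplex (ComplexShape.up ℤ)).obj F)
        (curriedTensor (ModuleCat.{u} (X.presheaf.stalk x))) :=
  Groth.Agent.Lib.TotalMap.mapIso (DCoh.tensorBi (X := X)) (stk x) (stk x) (stk x)
    (curriedTensor (ModuleCat.{u} (X.presheaf.stalk x))) L F (stalkTensorNatIso x)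

/-! ### K-flatness is stalkwise -/

lemma dcoh_isKFlat_iff (E : CochainComplex X.Modules ℤ) :
    DCoh.IsKFlat E ↔ ∀ L : CochainComplex X.Modules ℤ, L.Acyclic →
      (CochainComplex.mapBifunctor L E (DCoh.tensorBi (X := X))).Acyclic := by
  constructor
  · intro hE L hL i
    rw [HomologicalComplex.exactAt_iff_isZero_homology]
    exact hE L (fun j => (HomologicalComplex.exactAt_iff_isZero_homology _ _).1 (hL j)) i
  · intro hE L hL i
    have hL' : L.Acyclic := fun j => (HomologicalComplex.exactAt_iff_isZero_homology _ _).2 (hL j)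
    exact (HomologicalComplex.exactAt_iff_isZero_homology _ _).1 (hE L hL' i)

open Groth.Agent.Lib.KFlatMod Groth.Agent.Lib.KFlatGen Groth.Agent.Lib.ExtKFlat
  Groth.Agent.Lib.BifCone in
/-- the complex of stalks of a K-flat complex is K-flat -/
theorem kf_stalk_of_isKFlat (F : CochainComplex X.Modules ℤ) (hF : DCoh.IsKFlat F) :
    KF (X.presheaf.stalk x) (((stk x).mapHomologicalComplex (ComplexShape.up ℤ)).obj F) := by
  rw [kf_iff]
  intro L' hL'
  have hLac : (((skyFunctor x).mapHomologicalComplex (ComplexShape.up ℤ)).obj L').Acyclic :=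
    acyclic_map (skyFunctor x) L' hL'
  have h1 := (dcoh_isKFlat_iff F).1 hF _ hLac
  have h2 := acyclic_map (stk x) _ h1
  have h3 := acyclic_of_iso (stalkTotIso x _ F) h2
  let e : ((stk x).mapHomologicalComplex (ComplexShape.up ℤ)).obj
      (((skyFunctor x).mapHomologicalComplex (ComplexShape.up ℤ)).obj L') ≅ L' :=
    HomologicalComplex.Hom.isoOfComponents (fun i => (skyStalkIso x).app (L'.X i))
      (fun i j _ => ((skyStalkIso x).hom.naturality (L'.d i j)).symm)
  exact acyclic_of_iso (((T (X.presheaf.stalk x)).map₂CochainComplex.mapIso e).app _) h3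

open Groth.Agent.Lib.KFlatMod Groth.Agent.Lib.KFlatGen Groth.Agent.Lib.ExtKFlat
  Groth.Agent.Lib.BifCone in
/-- a complex all of whose complexes of stalks are K-flat is K-flat -/
theorem isKFlat_of_kf_stalk (F : CochainComplex X.Modules ℤ)
    (h : ∀ x : X, KF (X.presheaf.stalk x)
      (((stk x).mapHomologicalComplex (ComplexShape.up ℤ)).obj F)) : DCoh.IsKFlat F := by
  rw [dcoh_isKFlat_iff]
  intro L hL
  apply acyclic_of_forall_stalk
  intro x
  have hx := (kf_iff _).1 (h x)
  have h1 := hx _ (acyclic_map (stk x) L hL)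
  exact acyclic_of_iso (stalkTotIso x L F).symm h1

/-- **K-flatness is stalkwise** -/
theorem isKFlat_iff_stalk (F : CochainComplex X.Modules ℤ) :
    DCoh.IsKFlat F ↔ ∀ x : X, DRing.IsKFlat (X.presheaf.stalk x)
      (((DerSch.stalkFunctor X x).mapHomologicalComplex (ComplexShape.up ℤ)).obj F) :=
  ⟨fun hF x => kf_stalk_of_isKFlat x F hF, fun h => isKFlat_of_kf_stalk F h⟩

end

end Groth.Agent.Lib.StalkTensH3
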