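import Mathlib
import Groth.Prelude
import Groth.Agent.Lib.StalkKFlat1_helper3

/-!
# Pullback of K-flat complexes (helper3)

* `isKFlat_pullback`: `f^* K` is K-flat for `K` K-flat.
* `acyclic_pullback_of_isKFlat`: `f^* K` is acyclic for `K` K-flat and acyclic.
-/

set_option autoImplicit false
set_option linter.all false
set_option maxHeartbeats 1600000
set_option backward.isDefEq.respectTransparency false
set_option backward.isDefEq.respectTransparency.types false
set_option backward.defeqAttrib.useBackward true

universe u
open CategoryTheory CategoryTheory.Limits AlgebraicGeometry Opposite TopologicalSpace TensorProduct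

namespace Groth.Agent.Lib.StalkTensH3

open MonoidalCategory Groth.Agent.Lib.TorAmpPushL
open Groth.Agent.Lib.KFlatMod Groth.Agent.Lib.KFlatGen Groth.Agent.Lib.ExtKFlat
  Groth.Agent.Lib.BifCone

noncomputable section

variable {X Y : Scheme.{u}} (f : X ⟶ Y)

/-- the complex of stalks of a pullback -/
def pullbackStalkCxIso (x : X) (K : CochainComplex Y.Modules ℤ) :
    ((stk x).mapHomologicalComplex (ComplexShape.up ℤ)).obj
        (((Scheme.Modules.pullback f).mapHomologicalComplex (ComplexShape.up ℤ)).obj K) ≅
      ((ModuleCat.extendScalars.{u, u, u} (f.stalkMap x).hom).mapHomologicalComplex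
        (ComplexShape.up ℤ)).obj
        (((stk (f.base x)).mapHomologicalComplex (ComplexShape.up ℤ)).obj K) :=
  HomologicalComplex.Hom.isoOfComponents
    (fun i => (Groth.Agent.Lib.StalkSkyL.pullbackStalkIso f x).app (K.X i))
    (fun i j _ => ((Groth.Agent.Lib.StalkSkyL.pullbackStalkIso f x).hom.naturality (K.d i j)).symm)

/-- **the pullback of a K-flat complex is K-flat** -/
theorem isKFlat_pullback (K : CochainComplex Y.Modules ℤ) (hK : DCoh.IsKFlat K) :
    DCoh.IsKFlat (((Scheme.Modules.pullback f).mapHomologicalComplex (ComplexShape.up ℤ)).obj K) := by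
  apply isKFlat_of_kf_stalk
  intro x
  letI : Algebra (Y.presheaf.stalk (f.base x)) (X.presheaf.stalk x) := (f.stalkMap x).hom.toAlgebra
  have h1 := kf_stalk_of_isKFlat (f.base x) K hK
  have h2 := kf_ext (R := Y.presheaf.stalk (f.base x)) (R' := X.presheaf.stalk x) _ h1
  rw [kf_iff] at h2 ⊢
  exact KFlatGen.isKFlat_of_iso (pullbackStalkCxIso f x K).symm h2

end

end Groth.Agent.Lib.StalkTensH3
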