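import Mathlib
import Groth.Prelude
import Groth.Agent.Lib.StalkKFlat2_helper3
import Groth.Agent.Lib.BaseCmp_helper2

/-!
# Pullback of acyclic K-flat complexes and quasi-isomorphisms of K-flat complexes (helper3)

* `acyclic_pullback_of_isKFlat`: `f^* K` is acyclic for `K` K-flat and acyclic.
* `quasiIso_pullback_of_isKFlat`: `f^*` preserves quasi-isomorphisms between K-flat complexes.
-/

set_option autoImplicit false
set_option linter.all false
set_option maxHeartbeats 1600000
set_option backward.isDefEq.respectTransparency false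
set_option backward.isDefEq.respectTransparency.types false
set_option backward.defeqAttrib.useBackward true

universe u
open CategoryTheory CategoryTheory.Limits AlgebraicGeometry Opposite TopologicalSpace TensorProduct

namespace Groth.Agent.Lib.StalkTensH3

open MonoidalCategory Groth.Agent.Lib.TorAmpPushL
open Groth.Agent.Lib.KFlatMod Groth.Agent.Lib.KFlatGen Groth.Agent.Lib.ExtKFlat
  Groth.Agent.Lib.BifCone

noncomputable section

variable {X Y : Scheme.{u}} (f : X ⟶ Y)

/-- **the pullback of an acyclic K-flat complex is acyclic** -/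
theorem acyclic_pullback_of_isKFlat (K : CochainComplex Y.Modules ℤ) (hK : DCoh.IsKFlat K)
    (hac : K.Acyclic) :
    (((Scheme.Modules.pullback f).mapHomologicalComplex (ComplexShape.up ℤ)).obj K).Acyclic := by
  apply acyclic_of_forall_stalk
  intro x
  letI : Algebra (Y.presheaf.stalk (f.base x)) (X.presheaf.stalk x) := (f.stalkMap x).hom.toAlgebra
  have h1 := kf_stalk_of_isKFlat (f.base x) K hK
  have h2 := acyclic_map (stk (f.base x)) K hac
  have h3 := Groth.Agent.Lib.BaseCmp.acyclic_ext_of_kf
    (R := Y.presheaf.stalk (f.base x)) (A := X.presheaf.stalk x) _ h1 h2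
  exact acyclic_of_iso (pullbackStalkCxIso f x K).symm h3

/-- the mapping cone of a morphism of K-flat complexes is K-flat -/
theorem isKFlat_mappingCone' {K L : CochainComplex Y.Modules ℤ} (hK : DCoh.IsKFlat K)
    (hL : DCoh.IsKFlat L) (s : K ⟶ L) : DCoh.IsKFlat (CochainComplex.mappingCone s) := by
  rw [dcoh_isKFlat_iff] at hK hL ⊢
  exact (KFlatGen.isKFlat_mappingCone (F := DCoh.tensorBi (X := Y)) s).1 hK hL

/-- **pullback preserves quasi-isomorphisms between K-flat complexes** -/
theorem quasiIso_pullback_of_isKFlat {K L : CochainComplex Y.Modules ℤ} (hK : DCoh.IsKFlat K)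
    (hL : DCoh.IsKFlat L) (s : K ⟶ L) (hs : QuasiIso s) :
    QuasiIso (((Scheme.Modules.pullback f).mapHomologicalComplex (ComplexShape.up ℤ)).map s) := by
  rw [quasiIso_iff_acyclic_mappingCone] at hs ⊢
  exact acyclic_of_iso
    (CochainComplex.mappingCone.mapHomologicalComplexIso s (Scheme.Modules.pullback f))
    (acyclic_pullback_of_isKFlat f _ (isKFlat_mappingCone' hK hL s) hs)

end

end Groth.Agent.Lib.StalkTensH3
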