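import Mathlib
import Groth.Prelude
import Groth.Agent.Lib.StalkKFlat3_helper3
import Groth.Agent.Lib.LDerRes_helper3
import Groth.Agent.Lib.KFlatSite5_helper2
import Groth.Agent.Lib.KFlatGen3_helper2

/-!
# The derived pullback exists and is computed by K-flat complexes (helper3)

* `hasLpull g : DCoh.HasLpull g`.
* `isIso_counit_of_isKFlat`: the counit of any left derived functor of `pullKh g` is an isomorphism
  at K-flat complexes.
-/

set_option autoImplicit false
set_option linter.all false
set_option maxHeartbeats 1600000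
set_option backward.isDefEq.respectTransparency false
set_option backward.isDefEq.respectTransparency.types false
set_option backward.defeqAttrib.useBackward true

universe u
open CategoryTheory CategoryTheory.Limits AlgebraicGeometry Opposite Pretriangulated ZeroObject

attribute [local instance] HasDerivedCategory.standard

namespace Groth.Agent.Lib.LpullExH3

open Groth.Agent.Lib.StalkTensH3 Groth.Agent.Lib.KFlatGen Groth.Agent.Lib.BifCone

noncomputable section

variable (Y : Scheme.{u})

/-- K-flat objects of the homotopy category -/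
def kflat : ObjectProperty (HomotopyCategory Y.Modules (ComplexShape.up ℤ)) :=
  fun K => DCoh.IsKFlat K.as

lemma kflat_iff (K : HomotopyCategory Y.Modules (ComplexShape.up ℤ)) :
    kflat Y K ↔ KFlatGen.IsKFlat (DCoh.tensorBi (X := Y)) K.as := dcoh_isKFlat_iff K.as

lemma kflat_quotient_obj (K : CochainComplex Y.Modules ℤ) :
    kflat Y ((HomotopyCategory.quotient _ _).obj K) ↔ DCoh.IsKFlat K := Iff.rfl

instance : (kflat Y).IsClosedUnderIsomorphisms where
  of_iso {K L} e hK := by
    rw [kflat_iff] at hK ⊢
    exact isKFlat_of_homotopyEquiv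
      (HomotopyCategory.homotopyEquivOfIso (C := K.as) (D := L.as) e) hK

lemma kflat_zero : ∃ Z : HomotopyCategory Y.Modules (ComplexShape.up ℤ), IsZero Z ∧ kflat Y Z := by
  refine ⟨(HomotopyCategory.quotient _ _).obj 0,
    (HomotopyCategory.quotient _ _).map_isZero (isZero_zero _), ?_⟩
  rw [kflat_iff]
  exact isKFlat_of_isZero_X _ (fun n =>
    (HomologicalComplex.eval _ _ n).map_isZero (isZero_zero _))

instance : (kflat Y).IsTriangulated :=
  Groth.Agent.Lib.LDerResH3.isTriangulated_of_two_of_three (kflat Y) (kflat_zero Y)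
    (fun T hT => by
      simp only [kflat_iff]
      exact isKFlat_distTriang (F := DCoh.tensorBi (X := Y)) T hT)

/-- K-flat resolutions in the homotopy category -/
lemma kflat_res (K : HomotopyCategory Y.Modules (ComplexShape.up ℤ)) :
    ∃ (P : HomotopyCategory Y.Modules (ComplexShape.up ℤ)) (s : P ⟶ K), kflat Y P ∧
      (HomotopyCategory.subcategoryAcyclic Y.Modules).trW s := by
  obtain ⟨P, q, hP, _, hq, _⟩ :=
    @Groth.Agent.Lib.KFlatSite.exists_kflat_resolution _ _ _ Y.sheaf K.as
  refine ⟨(HomotopyCategory.quotient _ _).obj P, (HomotopyCategory.quotient _ _).map q, hP, ?_⟩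
  rw [← HomotopyCategory.quasiIso_eq_trW_subcategoryAcyclic,
    HomotopyCategory.quotient_map_mem_quasiIso_iff]
  exact (HomologicalComplex.mem_quasiIso_iff q).2 hq

variable {Y}
variable {X : Scheme.{u}} (g : X ⟶ Y)

/-- `quotient ⋙ pullKh g ≅ g^* ⋙ Q` -/
def quotientPullKhIso :
    HomotopyCategory.quotient Y.Modules (ComplexShape.up ℤ) ⋙ DCoh.pullKh g ≅
      (Scheme.Modules.pullback g).mapHomologicalComplex (ComplexShape.up ℤ) ⋙
        DerivedCategory.Q :=
  (Functor.associator _ _ _).symm ≪≫
    Functor.isoWhiskerRight ((Scheme.Modules.pullback g).mapHomotopyCategoryFactors _)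
      DerivedCategory.Qh ≪≫ Functor.associator _ _ _ ≪≫
    Functor.isoWhiskerLeft _ (DerivedCategory.quotientCompQhIso _)

lemma isIso_pullKh_map ⦃K L : HomotopyCategory Y.Modules (ComplexShape.up ℤ)⦄ (f : K ⟶ L)
    (hK : kflat Y K) (hL : kflat Y L)
    (hf : (HomotopyCategory.subcategoryAcyclic Y.Modules).trW f) :
    IsIso ((DCoh.pullKh g).map f) := by
  obtain ⟨φ, hφ⟩ := (HomotopyCategory.quotient Y.Modules (ComplexShape.up ℤ)).map_surjective
    (X := K.as) (Y := L.as) f
  rw [← HomotopyCategory.quasiIso_eq_trW_subcategoryAcyclic] at hf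
  have hf' : HomotopyCategory.quasiIso _ _
      ((HomotopyCategory.quotient Y.Modules (ComplexShape.up ℤ)).map φ) := by
    rw [hφ]; exact hf
  rw [HomotopyCategory.quotient_map_mem_quasiIso_iff] at hf'
  have hq : QuasiIso φ := (HomologicalComplex.mem_quasiIso_iff φ).1 hf'
  have h1 := quasiIso_pullback_of_isKFlat g hK hL φ hq
  have h2 : IsIso ((HomotopyCategory.quotient Y.Modules (ComplexShape.up ℤ) ⋙
      DCoh.pullKh g).map φ) := by
    rw [NatIso.isIso_map_iff (quotientPullKhIso g) φ]
    show IsIso (DerivedCategory.Q.map _)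
    infer_instance
  rw [← hφ]
  exact h2

/-- **the derived pullback exists** -/
theorem hasLpull : DCoh.HasLpull g :=
  Groth.Agent.Lib.LDerResH3.main_has (kflat Y) (HomotopyCategory.subcategoryAcyclic Y.Modules)
    (kflat_res Y) (HomotopyCategory.quasiIso _ _)
    (HomotopyCategory.quasiIso_eq_trW_subcategoryAcyclic _) (DCoh.pullKh g)
    (isIso_pullKh_map g)

/-- the counit of a left derived functor of `pullKh g` is an isomorphism at K-flat complexes -/
theorem isIso_counit_of_isKFlat (LF : DCoh.D Y ⥤ DCoh.D X)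
    (β : DerivedCategory.Qh ⋙ LF ⟶ DCoh.pullKh g)
    [LF.IsLeftDerivedFunctor β (HomotopyCategory.quasiIso Y.Modules (ComplexShape.up ℤ))]
    (K : HomotopyCategory Y.Modules (ComplexShape.up ℤ)) (hK : kflat Y K) :
    IsIso (β.app K) :=
  Groth.Agent.Lib.LDerResH3.main_isIso (kflat Y) (HomotopyCategory.subcategoryAcyclic Y.Modules)
    (kflat_res Y) (HomotopyCategory.quasiIso _ _)
    (HomotopyCategory.quasiIso_eq_trW_subcategoryAcyclic _) (DCoh.pullKh g)
    (isIso_pullKh_map g) DerivedCategory.Qh LF β K hK

end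

end Groth.Agent.Lib.LpullExH3
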