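import Mathlib
import Groth.Prelude
import Groth.Agent.Lib.LpullEx_helper3
import Groth.Agent.Lib.BCOpen1_lead
import Groth.Agent.Lib.StalkSky3_lead

/-!
# The derived adjunction `Lf^* ⊣ Rf_*` on `D(O_X)` (lead)
-/

set_option autoImplicit false
set_option linter.all false
set_option maxHeartbeats 1600000
set_option backward.isDefEq.respectTransparency false
set_option backward.isDefEq.respectTransparency.types false
set_option backward.defeqAttrib.useBackward true

universe u
open CategoryTheory CategoryTheory.Limits AlgebraicGeometry Opposite TopologicalSpace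
open CategoryTheory.Pretriangulated
attribute [local instance] HasDerivedCategory.standard

namespace Groth.Agent.Lib.DerAdjL

open Groth.Agent.Lib.StalkSkyL Groth.Agent.Lib.MVPushL

noncomputable section

/-! ### adjunctions on homotopy categories -/

section Homotopy

variable {C D : Type*} [Category C] [Category D] [Abelian C] [Abelian D]
  {L : C ⥤ D} {R : D ⥤ C} [L.Additive] [R.Additive] (adj : L ⊣ R)
  {ι : Type*} (c : ComplexShape ι)

/-- the unit on homotopy categories -/
def unitH : 𝟭 (HomotopyCategory C c) ⟶
    L.mapHomotopyCategory c ⋙ R.mapHomotopyCategory c where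
  app K := (HomotopyCategory.quotient C c).map ((unitC adj c).app K.as)
  naturality K K' f := by
    obtain ⟨φ, hφ⟩ := (HomotopyCategory.quotient C c).map_surjective (X := K.as) (Y := K'.as) f
    subst hφ
    have h := congrArg (HomotopyCategory.quotient C c).map ((unitC adj c).naturality φ)
    rw [Functor.map_comp, Functor.map_comp] at h
    exact h

/-- the counit on homotopy categories -/
def counitH : R.mapHomotopyCategory c ⋙ L.mapHomotopyCategory c ⟶
    𝟭 (HomotopyCategory D c) where
  app K := (HomotopyCategory.quotient D c).map ((counitC adj c).app K.as)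
  naturality K K' f := by
    obtain ⟨φ, hφ⟩ := (HomotopyCategory.quotient D c).map_surjective (X := K.as) (Y := K'.as) f
    subst hφ
    have h := congrArg (HomotopyCategory.quotient D c).map ((counitC adj c).naturality φ)
    rw [Functor.map_comp, Functor.map_comp] at h
    exact h

/-- the adjunction on homotopy categories -/
def adjH : L.mapHomotopyCategory c ⊣ R.mapHomotopyCategory c where
  unit := unitH adj c
  counit := counitH adj c
  left_triangle_components K := by
    have h := congrArg (HomotopyCategory.quotient D c).map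
      ((adjC adj c).left_triangle_components K.as)
    rw [Functor.map_comp, CategoryTheory.Functor.map_id] at h
    exact h
  right_triangle_components K := by
    have h := congrArg (HomotopyCategory.quotient C c).map
      ((adjC adj c).right_triangle_components K.as)
    rw [Functor.map_comp, CategoryTheory.Functor.map_id] at h
    exact h

end Homotopy

/-! ### a criterion for left derived functors -/

section Crit

universe v₁ v₃ v₄ u₁ u₃ u₄

variable {C : Type u₁} [Category.{v₁} C] [HasZeroObject C] [HasShift C ℤ] [Preadditive C]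
  [∀ n : ℤ, (shiftFunctor C n).Additive] [Pretriangulated C] [IsTriangulated C]
  (A B : ObjectProperty C) [A.IsTriangulated] [B.IsTriangulated] [B.IsClosedUnderIsomorphisms]

theorem isLeftDerivedFunctor_of_isIso_on
    (hres : ∀ X : C, ∃ (P : C) (s : P ⟶ X), A P ∧ B.trW s)
    (W : MorphismProperty C) (hW : W = B.trW)
    {H : Type u₃} [Category.{v₃} H] (F : C ⥤ H)
    (hF : ∀ ⦃X Y : C⦄ (f : X ⟶ Y), A X → A Y → B.trW f → IsIso (F.map f))
    {D : Type u₄} [Category.{v₄} D] (L : C ⥤ D) [L.IsLocalization W] (LF : D ⥤ H)
    (β : L ⋙ LF ⟶ F) (hβ : ∀ X : C, A X → IsIso (β.app X)) :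
    LF.IsLeftDerivedFunctor β W := by
  haveI : F.HasLeftDerivedFunctor W := LDerResH3.main_has A B hres W hW F hF
  rw [Functor.isLeftDerivedFunctor_iff_isIso_leftDerivedLift (F.totalLeftDerived L W)
    (F.totalLeftDerivedCounit L W) W LF β]
  apply (config := { allowSynthFailures := true }) NatIso.isIso_of_isIso_app
  intro Y
  haveI : L.EssSurj := Localization.essSurj L W
  obtain ⟨P, s, hP, hs⟩ := hres (L.objPreimage Y)
  haveI : IsIso (L.map s) := Localization.inverts L W s (by rw [hW]; exact hs)
  let e : L.obj P ≅ Y := asIso (L.map s) ≪≫ L.objObjPreimageIso Y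
  rw [← NatTrans.isIso_app_iff_of_iso _ e]
  haveI h0 : IsIso ((F.totalLeftDerivedCounit L W).app P) :=
    LDerResH3.main_isIso A B hres W hW F hF L (F.totalLeftDerived L W)
      (F.totalLeftDerivedCounit L W) P hP
  haveI h1 : IsIso (β.app P) := hβ P hP
  exact IsIso.of_isIso_fac_right
    (Functor.leftDerived_fac_app (F.totalLeftDerived L W) (F.totalLeftDerivedCounit L W) W LF β P)

end Crit

/-! ### the derived adjunction -/

section Derived

variable {X Y : Scheme.{u}} (f : X ⟶ Y)

/-- the adjunction `f^* ⊣ f_*` on homotopy categories -/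
def adjKh : (Scheme.Modules.pullback f).mapHomotopyCategory (ComplexShape.up ℤ) ⊣
    (Scheme.Modules.pushforward f).mapHomotopyCategory (ComplexShape.up ℤ) :=
  adjH (Scheme.Modules.pullbackPushforwardAdjunction f) (ComplexShape.up ℤ)

theorem isIso_unit_of_rightOrthogonal [DCoh.HasRpush f]
    (K : HomotopyCategory X.Modules (ComplexShape.up ℤ))
    (hK : (HomotopyCategory.subcategoryAcyclic X.Modules).rightOrthogonal K) :
    IsIso (((DCoh.pushKh f).totalRightDerivedUnit DerivedCategory.Qh
      (HomotopyCategory.quasiIso X.Modules (ComplexShape.up ℤ))).app K) := by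
  haveI := grothendieck_modules X
  exact (OrthDeriv.main (P := HomotopyCategory.subcategoryAcyclic X.Modules)
    (HomotopyCategory.quasiIso X.Modules (ComplexShape.up ℤ))
    (HomotopyCategory.quasiIso_eq_trW_subcategoryAcyclic X.Modules)
    Groth.Agent.Lib.KInjGen8.hP DerivedCategory.Qh (DCoh.pushKh f)).2 K hK

/-- **the derived adjunction `Lf^* ⊣ Rf_*`** -/
theorem nonempty_adj [DCoh.HasRpush f] [DCoh.HasLpull f] :
    Nonempty (DCoh.Lpull f ⊣ DCoh.Rpush f) := by
  haveI := grothendieck_modules X
  let W₁ := HomotopyCategory.quasiIso Y.Modules (ComplexShape.up ℤ)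
  let W₂ := HomotopyCategory.quasiIso X.Modules (ComplexShape.up ℤ)
  let α := (DCoh.pullKh f).totalLeftDerivedCounit DerivedCategory.Qh W₁
  let β := (DCoh.pushKh f).totalRightDerivedUnit DerivedCategory.Qh W₂
  haveI h3 : (DCoh.Rpush f ⋙ DCoh.Lpull f).IsRightDerivedFunctor
      (Functor.whiskerRight β (DCoh.Lpull f) ≫ (Functor.associator _ _ _).hom) W₂ := by
    refine BCOpenL.isRightDerivedFunctor_of_isIso_on
      (P := HomotopyCategory.subcategoryAcyclic X.Modules) W₂
      (HomotopyCategory.quasiIso_eq_trW_subcategoryAcyclic X.Modules)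
      Groth.Agent.Lib.KInjGen8.hP DerivedCategory.Qh _ _ _ ?_
    intro K hK
    haveI := isIso_unit_of_rightOrthogonal f K hK
    have e : (Functor.whiskerRight β (DCoh.Lpull f) ≫ (Functor.associator _ _ _).hom).app K =
        (DCoh.Lpull f).map (β.app K) := by
      rw [NatTrans.comp_app, Functor.whiskerRight_app, Functor.associator_hom_app]
      exact Category.comp_id _
    rw [e]
    infer_instance
  haveI h2 : (DCoh.Lpull f ⋙ DCoh.Rpush f).IsLeftDerivedFunctor
      ((Functor.associator _ _ _).inv ≫ Functor.whiskerRight α (DCoh.Rpush f)) W₁ := by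
    refine isLeftDerivedFunctor_of_isIso_on (LpullExH3.kflat Y)
      (HomotopyCategory.subcategoryAcyclic Y.Modules) (LpullExH3.kflat_res Y) W₁
      (HomotopyCategory.quasiIso_eq_trW_subcategoryAcyclic _) _ ?_ DerivedCategory.Qh _ _ ?_
    · intro K L s hK hL hs
      haveI := LpullExH3.isIso_pullKh_map f s hK hL hs
      show IsIso ((DCoh.Rpush f).map ((DCoh.pullKh f).map s))
      infer_instance
    · intro K hK
      haveI := LpullExH3.isIso_counit_of_isKFlat f (DCoh.Lpull f) α K hK
      have e : ((Functor.associator _ _ _).inv ≫ Functor.whiskerRight α (DCoh.Rpush f)).app K =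
          (DCoh.Rpush f).map (α.app K) := by
        rw [NatTrans.comp_app, Functor.whiskerRight_app, Functor.associator_inv_app]
        exact Category.id_comp _
      rw [e]
      infer_instance
  exact ⟨(adjKh f).derived W₁ W₂ α β⟩

end Derived

end

end Groth.Agent.Lib.DerAdjL
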