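import Mathlib
import Groth.Agent.Lib.DerProd_helper9

/-!
# Coproducts of complexes give coproducts in the derived category (lead)
(dual of helper9's `DerProd`; test objects are K-injective complexes)
-/

set_option autoImplicit false
set_option linter.all false
set_option maxHeartbeats 1600000
set_option backward.isDefEq.respectTransparency false
set_option backward.isDefEq.respectTransparency.types false
set_option backward.defeqAttrib.useBackward true

open CategoryTheory CategoryTheory.Limits

namespace DerCoprod

universe w' w v u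

variable {A : Type u} [Category.{v} A] [Abelian A] {J : Type w}

section Model

variable [HasColimitsOfShape (Discrete J) A] (K : J → CochainComplex A ℤ)

/-- the coproduct complex -/
noncomputable def sigma : CochainComplex A ℤ where
  X i := ∐ fun j => (K j).X i
  d i i' := Limits.Sigma.map (fun j => (K j).d i i')
  shape i i' h := by
    apply Limits.Sigma.hom_ext
    intro j
    rw [Limits.Sigma.ι_map, (K j).shape i i' h, zero_comp, comp_zero]
  d_comp_d' i i' i'' _ _ := by
    apply Limits.Sigma.hom_ext
    intro j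
    rw [Limits.Sigma.ι_map_assoc, Limits.Sigma.ι_map, HomologicalComplex.d_comp_d_assoc,
      zero_comp, comp_zero]

/-- degreewise inclusion -/
noncomputable def ιX (i : ℤ) (j : J) : (K j).X i ⟶ (sigma K).X i :=
  Sigma.ι (fun j => (K j).X i) j

/-- degreewise universal property -/
noncomputable def descX (i : ℤ) {Z : A} (p : ∀ j, (K j).X i ⟶ Z) : (sigma K).X i ⟶ Z :=
  Sigma.desc p

@[reassoc (attr := simp)]
lemma ιX_descX (i : ℤ) {Z : A} (p : ∀ j, (K j).X i ⟶ Z) (j : J) :
    ιX K i j ≫ descX K i p = p j :=
  Sigma.ι_desc p j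

variable {K} in
lemma homX_ext {i : ℤ} {Z : A} {a b : (sigma K).X i ⟶ Z}
    (h : ∀ j, ιX K i j ≫ a = ιX K i j ≫ b) : a = b :=
  Limits.Sigma.hom_ext _ _ h

@[reassoc]
lemma ιX_d (i i' : ℤ) (j : J) :
    ιX K i j ≫ (sigma K).d i i' = (K j).d i i' ≫ ιX K i' j :=
  Limits.Sigma.ι_map (fun j => (K j).d i i') j

/-- the inclusions -/
noncomputable def ι (j : J) : K j ⟶ sigma K where
  f i := ιX K i j
  comm' i i' _ := ιX_d K i i' j

@[simp]
lemma ι_f (j : J) (i : ℤ) : (ι K j).f i = ιX K i j := rfl

variable {K} in
/-- the universal property at the level of complexes -/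
noncomputable def desc {L : CochainComplex A ℤ} (g : ∀ j, K j ⟶ L) : sigma K ⟶ L where
  f i := descX K i (fun j => (g j).f i)
  comm' i i' _ := by
    apply homX_ext
    intro j
    rw [ιX_descX_assoc, ιX_d_assoc, ιX_descX, (g j).comm]

variable {K} in
@[reassoc (attr := simp)]
lemma ι_desc {L : CochainComplex A ℤ} (g : ∀ j, K j ⟶ L) (j : J) : ι K j ≫ desc g = g j := by
  ext i
  exact ιX_descX K i _ j

variable {K} in
lemma hom_ext {L : CochainComplex A ℤ} {a b : sigma K ⟶ L} (h : ∀ j, ι K j ≫ a = ι K j ≫ b) :
    a = b := by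
  ext i
  apply homX_ext
  intro j
  exact congrArg (fun φ => φ.f i) (h j)

variable {K} in
/-- a morphism from the coproduct complex all of whose components are null-homotopic is
null-homotopic -/
noncomputable def homotopyZero {L : CochainComplex A ℤ} (φ : sigma K ⟶ L)
    (h : ∀ j, Homotopy (ι K j ≫ φ) 0) : Homotopy φ 0 where
  hom i i' := descX K i (fun j => (h j).hom i i')
  zero i i' hii' := by
    apply homX_ext
    intro j
    rw [ιX_descX, (h j).zero i i' hii', comp_zero]
  comm i := by
    apply homX_ext
    intro j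
    have hj := (h j).comm i
    rw [dNext_eq _ (show (ComplexShape.up ℤ).Rel i (i + 1) from rfl),
      prevD_eq _ (show (ComplexShape.up ℤ).Rel (i - 1) i by simp)] at hj ⊢
    rw [HomologicalComplex.comp_f, ι_f, HomologicalComplex.zero_f, add_zero] at hj
    rw [HomologicalComplex.zero_f, add_zero, Preadditive.comp_add, ιX_d_assoc, ιX_descX,
      ιX_descX_assoc]
    exact hj

end Model

section Derived

variable [HasDerivedCategory.{w'} A]

open DerivedCategory

variable [HasColimitsOfShape (Discrete J) A] (K : J → CochainComplex A ℤ)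
  (hE : ∀ Y : DerivedCategory A, ∃ (I : CochainComplex A ℤ),
    CochainComplex.IsKInjective I ∧ Nonempty (DerivedCategory.Q.obj I ≅ Y))

include hE in
lemma exists_desc (Y : DerivedCategory A) (f : ∀ j, DerivedCategory.Q.obj (K j) ⟶ Y) :
    ∃ φ : DerivedCategory.Q.obj (sigma K) ⟶ Y, ∀ j, DerivedCategory.Q.map (ι K j) ≫ φ = f j := by
  obtain ⟨I, hI, ⟨e⟩⟩ := hE Y
  haveI := hI
  choose γ hγ using fun j => DerProd.exists_lift_of_isKInjective (K j) I (f j ≫ e.inv)
  refine ⟨DerivedCategory.Q.map (desc γ) ≫ e.hom, ?_⟩
  intro j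
  rw [← Category.assoc, ← Functor.map_comp, ι_desc, hγ, Category.assoc, Iso.inv_hom_id,
    Category.comp_id]

include hE in
lemma eq_zero_of_comp (Y : DerivedCategory A) (φ : DerivedCategory.Q.obj (sigma K) ⟶ Y)
    (hφ : ∀ j, DerivedCategory.Q.map (ι K j) ≫ φ = 0) : φ = 0 := by
  obtain ⟨I, hI, ⟨e⟩⟩ := hE Y
  haveI := hI
  obtain ⟨γ, hγ⟩ := DerProd.exists_lift_of_isKInjective (sigma K) I (φ ≫ e.inv)
  have h0 : ∀ j, DerivedCategory.Q.map (ι K j ≫ γ) = 0 := by
    intro j
    rw [Functor.map_comp, hγ, ← Category.assoc, hφ j, zero_comp]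
  have hH : Homotopy γ 0 :=
    homotopyZero γ (fun j => (DerProd.homotopy_of_isKInjective (K j) I _ (h0 j)).some)
  have h1 : DerivedCategory.Q.map γ = 0 := by
    rw [DerivedCategory.Q_map_eq_of_homotopy A hH, Functor.map_zero]
  rw [← cancel_mono e.inv, ← hγ, h1, zero_comp]

/-- the coproduct complex gives a coproduct in the derived category -/
noncomputable def isColimitCofan :
    IsColimit (Cofan.mk (DerivedCategory.Q.obj (sigma K))
      (fun j => DerivedCategory.Q.map (ι K j))) :=
  Cofan.IsColimit.mk _ (fun t => (exists_desc K hE t.pt t.inj).choose)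
    (fun t j => (exists_desc K hE t.pt t.inj).choose_spec j)
    (fun t m hm => by
      rw [← sub_eq_zero]
      apply eq_zero_of_comp K hE
      intro j
      rw [Preadditive.comp_sub, sub_eq_zero]
      exact (hm j).trans ((exists_desc K hE t.pt t.inj).choose_spec j).symm)

end Derived

section Homology

variable [HasColimitsOfShape (Discrete J) A] (K : J → CochainComplex A ℤ)

/-- the short complex in the functor category `Discrete J ⥤ A` -/
noncomputable def scF (i : ℤ) : ShortComplex (Discrete J ⥤ A) :=
  ShortComplex.mk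
    (Discrete.natTrans (F := Discrete.functor fun j => (K j).X ((ComplexShape.up ℤ).prev i))
      (G := Discrete.functor fun j => (K j).X i)
      (fun j => (K j.as).d ((ComplexShape.up ℤ).prev i) i))
    (Discrete.natTrans (F := Discrete.functor fun j => (K j).X i)
      (G := Discrete.functor fun j => (K j).X ((ComplexShape.up ℤ).next i))
      (fun j => (K j.as).d i ((ComplexShape.up ℤ).next i)))
    (by
      ext j
      exact (K j.as).d_comp_d _ _ _)

variable [HasExactColimitsOfShape (Discrete J) A]

/-- homology commutes with coproducts when coproducts are exact -/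
noncomputable def homologyIso (i : ℤ) :
    (sigma K).homology i ≅ ∐ fun j => (K j).homology i := by
  haveI : (colim (J := Discrete J) (C := A)).IsLeftAdjoint := colimConstAdj.isLeftAdjoint
  haveI : PreservesFiniteColimits (colim (J := Discrete J) (C := A)) :=
    ⟨fun _ _ _ => inferInstance⟩
  haveI : ∀ j : Discrete J, PreservesFiniteLimits ((evaluation (Discrete J) A).obj j) :=
    fun j => ⟨fun _ _ _ => inferInstance⟩
  haveI : ∀ j : Discrete J, PreservesFiniteColimits ((evaluation (Discrete J) A).obj j) :=
    fun j => ⟨fun _ _ _ => inferInstance⟩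
  let G : Discrete J ⥤ A := (scF K i).homology
  let e₁ : (sigma K).homology i ≅ ((scF K i).map colim).homology := Iso.refl _
  let e₂ : ((scF K i).map colim).homology ≅ colimit G := (scF K i).mapHomologyIso colim
  let e₃ : colimit G ≅ ∐ fun j => G.obj ⟨j⟩ :=
    HasColimit.isoOfNatIso (Discrete.natIsoFunctor (F := G))
  let e₄ : ∀ j, G.obj ⟨j⟩ ≅ (K j).homology i := fun j =>
    ((scF K i).mapHomologyIso ((evaluation (Discrete J) A).obj ⟨j⟩)).symm
  exact e₁ ≪≫ e₂ ≪≫ e₃ ≪≫ Sigma.mapIso e₄

end Homology

end DerCoprod
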