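import Mathlib
import Groth.Prelude
import Groth.Agent.Lib.DerCoprod_lead
import Groth.Agent.Lib.KInjGen8_helper7
import Groth.Agent.Lib.BMod1_helper6
import Groth.Agent.Lib.MVPush3_lead

set_option autoImplicit false
set_option linter.all false
set_option maxHeartbeats 1600000
set_option backward.isDefEq.respectTransparency false
set_option backward.isDefEq.respectTransparency.types false
set_option backward.defeqAttrib.useBackward true

universe u

open CategoryTheory CategoryTheory.Limits AlgebraicGeometry TopologicalSpace Opposite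
open CategoryTheory.Pretriangulated

attribute [local instance] HasDerivedCategory.standard

namespace Groth.Agent.Lib.QCohSigmaL

open Groth.Agent.Lib

theorem hasExactCoproducts (X : Scheme.{u}) (ι : Type u) :
    HasExactColimitsOfShape (Discrete ι) X.Modules := by
  haveI := MVPushL.grothendieck_modules X
  haveI : AB4OfSize.{u} X.Modules := AB4.of_AB5 X.Modules
  exact AB4OfSize.ofShape ι

theorem exists_kInj (X : Scheme.{u}) (Y : DerivedCategory X.Modules) :
    ∃ (I : CochainComplex X.Modules ℤ),
      CochainComplex.IsKInjective I ∧ Nonempty (DerivedCategory.Q.obj I ≅ Y) := by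
  haveI := MVPushL.grothendieck_modules X
  obtain ⟨I, hI, _, hIY⟩ := Groth.Agent.Lib.KInjGen8.exists_kInjective_rep Y
  exact ⟨I, hI, hIY⟩

theorem main1040 (X : Scheme.{u}) {ι : Type u} (K : ι → DCoh.D X)
    (hK : ∀ i, DCoh.IsQCohD (K i)) [HasCoproduct K] :
    DCoh.IsQCohD (∐ K) := by
  haveI := hasExactCoproducts X ι
  let F : ι → CochainComplex X.Modules ℤ := fun i => DerivedCategory.Q.objPreimage (K i)
  let e : ∀ i, DerivedCategory.Q.obj (F i) ≅ K i :=
    fun i => DerivedCategory.Q.objObjPreimageIso (K i)
  have hcolim := DerCoprod.isColimitCofan F (exists_kInj X)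
  haveI : HasCoproduct (fun i => DerivedCategory.Q.obj (F i)) := ⟨⟨⟨_, hcolim⟩⟩⟩
  let φ : ∐ K ≅ DerivedCategory.Q.obj (DerCoprod.sigma F) :=
    IsColimit.coconePointsIsoOfNatIso (coproductIsCoproduct K) hcolim
      (Discrete.natIso (fun i => (e i.as).symm))
  intro n
  have h1 : DCoh.HD (∐ K) n ≅ ∐ fun i => DCoh.HD (K i) n :=
    (DerivedCategory.homologyFunctor X.Modules n).mapIso φ ≪≫
      ((DerivedCategory.homologyFunctorFactors X.Modules n).app (DerCoprod.sigma F)) ≪≫
      DerCoprod.homologyIso F n ≪≫
      Sigma.mapIso (fun i =>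
        ((DerivedCategory.homologyFunctorFactors X.Modules n).app (F i)).symm ≪≫
        (DerivedCategory.homologyFunctor X.Modules n).mapIso (e i))
  haveI : ∀ i, (DCoh.HD (K i) n).IsQuasicoherent := fun i => hK i n
  exact (SheafOfModules.isQuasicoherent X.ringCatSheaf).prop_of_iso h1.symm
    (Groth.Agent.Lib.BModH6.isQuasicoherent_sigma (fun i => DCoh.HD (K i) n))

end Groth.Agent.Lib.QCohSigmaL
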