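import Mathlib
import Groth.Prelude
import Groth.Agent.Lib.DSect5_lead
import Groth.Agent.Lib.QCohSigma1_lead
import Groth.Agent.Lib.DerAdj1_lead

/-!
# `D(R) ≃ D_QCoh(Spec R)` (lead)

* `bijective_sections_H0`: a criterion for `Γ(U, H⁰(φ))` to be bijective.
* `isIso_of_bijective_top`: a morphism of quasi-coherent modules on `Spec R` which is bijective on
  global sections is an isomorphism.
* `isIso_Q_counit`: for a K-injective complex `J` on `Spec R` with quasi-coherent cohomology, the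
  counit `Γ(J)^~ ⟶ J` is a quasi-isomorphism.
* `tildeD_map_bijective`, `main0997`.
-/

set_option autoImplicit false
set_option linter.all false
set_option maxHeartbeats 1600000
set_option backward.isDefEq.respectTransparency false
set_option backward.isDefEq.respectTransparency.types false
set_option backward.defeqAttrib.useBackward true

universe u
open CategoryTheory CategoryTheory.Limits AlgebraicGeometry TopologicalSpace Opposite
open DerivedCategory CategoryTheory.Pretriangulated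
attribute [local instance] HasDerivedCategory.standard

namespace Groth.Agent.Lib.DSectX

open Groth.Agent.Lib.DSectL Groth.Agent.Lib

section Rep

variable {X : Scheme.{u}}

/-- maps `PX U [0] ⟶ K` in the derived category are computed by cycles modulo boundaries -/
def Rep (K : CochainComplex X.Modules ℤ) (U : X.Opens) : Prop :=
  (∀ σ : (singleFunctor X.Modules 0).obj ((PX X).obj U) ⟶ Q.obj K,
      ∃ (c : (PX X).obj U ⟶ K.X 0) (hc : c ≫ K.d 0 1 = 0), thetaC K c hc = σ) ∧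
  (∀ (c : (PX X).obj U ⟶ K.X 0) (hc : c ≫ K.d 0 1 = 0), thetaC K c hc = 0 →
      ∃ w : (PX X).obj U ⟶ K.X (-1), w ≫ K.d (-1) 0 = c)

theorem rep_of_qcoh (K : CochainComplex X.Modules ℤ) (hq : ∀ n : ℤ, Coh.IsQCoh (K.X n))
    (U : X.Opens) (hU : IsAffineOpen U) : Rep K U :=
  ⟨exists_cycle_of_qcoh K hq U hU, boundary_of_qcoh K hq U hU⟩

theorem rep_of_isKInjective (I : CochainComplex X.Modules ℤ) [I.IsKInjective] (U : X.Opens) :
    Rep I U :=
  ⟨exists_cycle_of_isKInjective I, boundary_of_isKInjective I⟩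

theorem isQCohD_of_iso {E E' : DCoh.D X} (e : E ≅ E') (h : DCoh.IsQCohD E) : DCoh.IsQCohD E' :=
  fun i => (SheafOfModules.isQuasicoherent X.ringCatSheaf).prop_of_iso
    ((homologyFunctor X.Modules i).mapIso e) (h i)

theorem qcohD_Q_shift (J : CochainComplex X.Modules ℤ) (hJ : DCoh.IsQCohD (Q.obj J)) (n : ℤ) :
    DCoh.IsQCohD (Q.obj (J⟦n⟧)) := by
  intro i
  have e1 : (homologyFunctor X.Modules i).obj (Q.obj (J⟦n⟧)) ≅ (J⟦n⟧).homology i :=
    (homologyFunctorFactors X.Modules i).app (J⟦n⟧)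
  have e2 : (J⟦n⟧).homology i ≅ J.homology (n + i) :=
    ((HomologicalComplex.homologyFunctor X.Modules (ComplexShape.up ℤ) 0).shiftIso n i (n + i)
      rfl).app J
  have e3 : (homologyFunctor X.Modules (n + i)).obj (Q.obj J) ≅ J.homology (n + i) :=
    (homologyFunctorFactors X.Modules (n + i)).app J
  exact (SheafOfModules.isQuasicoherent X.ringCatSheaf).prop_of_iso
    (e3 ≪≫ e2.symm ≪≫ e1.symm) (hJ (n + i))

theorem bijective_sections_H0 {K L : CochainComplex X.Modules ℤ} (φ : K ⟶ L) (U : X.Opens)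
    (hK : Rep K U) (hL : Rep L U)
    (hbK : Function.Bijective (etaA (sdX X) (Q.obj K) U))
    (hbL : Function.Bijective (etaA (sdX X) (Q.obj L) U))
    (hinj : ∀ (c : (PX X).obj U ⟶ K.X 0) (_ : c ≫ K.d 0 1 = 0) (w : (PX X).obj U ⟶ L.X (-1)),
      c ≫ φ.f 0 = w ≫ L.d (-1) 0 → ∃ w' : (PX X).obj U ⟶ K.X (-1), w' ≫ K.d (-1) 0 = c)
    (hsurj : ∀ (c' : (PX X).obj U ⟶ L.X 0) (_ : c' ≫ L.d 0 1 = 0),
      ∃ (c : (PX X).obj U ⟶ K.X 0) (_ : c ≫ K.d 0 1 = 0) (w : (PX X).obj U ⟶ L.X (-1)),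
        c' = c ≫ φ.f 0 + w ≫ L.d (-1) 0) :
    Function.Bijective
      ((((ΓX X).map ((homologyFunctor X.Modules 0).map (Q.map φ))).hom.app (op U)).hom) := by
  obtain ⟨θ, hθ⟩ : ∃ θ, θ = (sdX X).Γ.map ((homologyFunctor X.Modules 0).map (Q.map φ)) :=
    ⟨_, rfl⟩
  have hθc : ∀ (c : (PX X).obj U ⟶ K.X 0) (hc : c ≫ K.d 0 1 = 0),
      (θ.hom.app (op U)).hom (etaA (sdX X) (Q.obj K) U (thetaC K c hc)) =
        etaA (sdX X) (Q.obj L) U (thetaC L (c ≫ φ.f 0) (comp_cycle c hc φ)) := by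
    intro c hc
    rw [hθ, ← thetaC_comp c hc φ]
    exact (etaA_comp (sdX X) (Q.map φ) U (thetaC K c hc)).symm
  suffices h : Function.Bijective (θ.hom.app (op U)).hom by
    rw [hθ] at h
    exact h
  constructor
  · refine (injective_iff_map_eq_zero (θ.hom.app (op U)).hom).2 (fun s hs => ?_)
    obtain ⟨σ, rfl⟩ := hbK.2 s
    obtain ⟨c, hc, rfl⟩ := hK.1 σ
    rw [hθc] at hs
    have h0 : thetaC L (c ≫ φ.f 0) (comp_cycle c hc φ) = 0 :=
      hbL.1 (hs.trans (map_zero _).symm)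
    obtain ⟨w, hw⟩ := hL.2 _ _ h0
    obtain ⟨w', hw'⟩ := hinj c hc w hw.symm
    rw [thetaC_eq_zero_of_boundary c hc w' hw', map_zero]
  · intro s'
    obtain ⟨σ', rfl⟩ := hbL.2 s'
    obtain ⟨c', hc', rfl⟩ := hL.1 σ'
    obtain ⟨c, hc, w, hcw⟩ := hsurj c' hc'
    refine ⟨etaA (sdX X) (Q.obj K) U (thetaC K c hc), ?_⟩
    rw [hθc]
    have hwc : (w ≫ L.d (-1) 0) ≫ L.d 0 1 = 0 := by simp
    have hsum : ((c ≫ φ.f 0) + (w ≫ L.d (-1) 0)) ≫ L.d 0 1 = 0 := by
      rw [← hcw]; exact hc'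
    rw [thetaC_congr L hcw hc' hsum, thetaC_add _ _ (comp_cycle c hc φ) hwc hsum,
      thetaC_boundary w hwc, add_zero]

theorem hinj_hsurj_of_bijective {K L : CochainComplex X.Modules ℤ} (φ : K ⟶ L) (P : X.Modules)
    (hb : ∀ m : ℤ, Function.Bijective (fun g : P ⟶ K.X m => g ≫ φ.f m)) :
    (∀ (c : P ⟶ K.X 0) (_ : c ≫ K.d 0 1 = 0) (w : P ⟶ L.X (-1)),
      c ≫ φ.f 0 = w ≫ L.d (-1) 0 → ∃ w' : P ⟶ K.X (-1), w' ≫ K.d (-1) 0 = c) ∧
    (∀ (c' : P ⟶ L.X 0) (_ : c' ≫ L.d 0 1 = 0),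
      ∃ (c : P ⟶ K.X 0) (_ : c ≫ K.d 0 1 = 0) (w : P ⟶ L.X (-1)),
        c' = c ≫ φ.f 0 + w ≫ L.d (-1) 0) := by
  constructor
  · intro c hc w h
    obtain ⟨w', hw'⟩ := (hb (-1)).2 w
    have hw'' : w' ≫ φ.f (-1) = w := hw'
    refine ⟨w', (hb 0).1 ?_⟩
    show (w' ≫ K.d (-1) 0) ≫ φ.f 0 = c ≫ φ.f 0
    rw [Category.assoc, ← φ.comm (-1) 0, ← Category.assoc, hw'', h]
  · intro c' hc'
    obtain ⟨c, hc⟩ := (hb 0).2 c'
    have hc'' : c ≫ φ.f 0 = c' := hc
    refine ⟨c, (hb 1).1 ?_, 0, ?_⟩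
    · show (c ≫ K.d 0 1) ≫ φ.f 1 = 0 ≫ φ.f 1
      rw [Category.assoc, ← φ.comm 0 1, ← Category.assoc, hc'', hc', zero_comp]
    · rw [zero_comp, add_zero, hc'']

end Rep

section SpecR

variable (R : CommRingCat.{u})

instance : (moduleSpecΓFunctor (R := R)).Additive :=
  (tilde.adjunction (R := R)).right_adjoint_additive

/-- `Γ` of the counit is an isomorphism -/
lemma isIso_Γ_counit (N : (Spec (CommRingCat.of R)).Modules) :
    IsIso ((moduleSpecΓFunctor (R := R)).map ((tilde.adjunction (R := R)).counit.app N)) := by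
  have h1 := (tilde.adjunction (R := R)).right_triangle_components N
  haveI : IsIso ((tilde.adjunction (R := R)).unit.app
    ((moduleSpecΓFunctor (R := R)).obj N)) := inferInstance
  rw [IsIso.eq_inv_of_hom_inv_id h1]
  infer_instance

lemma bijective_top_iff {A B : (Spec (CommRingCat.of R)).Modules} (g : A ⟶ B) :
    IsIso ((moduleSpecΓFunctor (R := R)).map g) ↔
      Function.Bijective ((((ΓX (Spec (CommRingCat.of R))).map g).hom.app (op ⊤)).hom) :=
  ConcreteCategory.isIso_iff_bijective ((moduleSpecΓFunctor (R := R)).map g)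

theorem isIso_of_bijective_top {A B : (Spec (CommRingCat.of R)).Modules}
    (hA : Coh.IsQCoh A) (hB : Coh.IsQCoh B) (g : A ⟶ B)
    (h : Function.Bijective ((((ΓX (Spec (CommRingCat.of R))).map g).hom.app (op ⊤)).hom)) :
    IsIso g := by
  haveI : A.IsQuasicoherent := hA
  haveI : B.IsQuasicoherent := hB
  haveI : IsIso ((moduleSpecΓFunctor (R := R)).map g) := (bijective_top_iff R g).2 h
  have nat := (tilde.adjunction (R := R)).counit.naturality g
  haveI : IsIso ((tilde.adjunction (R := R)).counit.app A) :=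
    inferInstanceAs (IsIso A.fromTildeΓ)
  haveI : IsIso ((tilde.adjunction (R := R)).counit.app B) :=
    inferInstanceAs (IsIso B.fromTildeΓ)
  have e : g = inv ((tilde.adjunction (R := R)).counit.app A) ≫
      (tilde.functor R).map ((moduleSpecΓFunctor (R := R)).map g) ≫
        (tilde.adjunction (R := R)).counit.app B := by
    rw [IsIso.eq_inv_comp]
    exact nat.symm
  rw [e]
  infer_instance

lemma comp_counit_bijective (N : (Spec (CommRingCat.of R)).Modules) :
    Function.Bijective (fun g : (PX (Spec (CommRingCat.of R))).obj ⊤ ⟶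
        (tilde.functor R).obj ((moduleSpecΓFunctor (R := R)).obj N) =>
      g ≫ (tilde.adjunction (R := R)).counit.app N) := by
  have hb := (bijective_top_iff R ((tilde.adjunction (R := R)).counit.app N)).1
    (isIso_Γ_counit R N)
  constructor
  · intro g₁ g₂ h
    have h' : g₁ ≫ (tilde.adjunction (R := R)).counit.app N =
      g₂ ≫ (tilde.adjunction (R := R)).counit.app N := h
    apply (evX _ ⊤ _).injective
    apply hb.1
    exact (evX_comp _ ⊤ g₁ _).symm.trans ((congrArg (evX _ ⊤ N) h').trans (evX_comp _ ⊤ g₂ _))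
  · intro k
    obtain ⟨x, hx⟩ := hb.2 (evX _ ⊤ N k)
    refine ⟨(evX _ ⊤ _).symm x, ?_⟩
    apply (evX _ ⊤ N).injective
    show evX _ ⊤ N ((evX _ ⊤ _).symm x ≫ (tilde.adjunction (R := R)).counit.app N) = _
    refine (evX_comp _ ⊤ _ _).trans ?_
    rw [AddEquiv.apply_symm_apply]
    exact hx

/-- **key lemma**: the counit `Γ(J)^~ ⟶ J` is a quasi-isomorphism for `J` K-injective with
quasi-coherent cohomology -/
theorem isIso_Q_counit (J : CochainComplex (Spec (CommRingCat.of R)).Modules ℤ) [J.IsKInjective]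
    (hJ : DCoh.IsQCohD (Q.obj J)) :
    IsIso (Q.map ((StalkSkyL.counitC (tilde.adjunction (R := R)) (ComplexShape.up ℤ)).app J)) := by
  let K : CochainComplex (Spec (CommRingCat.of R)).Modules ℤ :=
    ((tilde.functor R).mapHomologicalComplex (ComplexShape.up ℤ)).obj
      (((moduleSpecΓFunctor (R := R)).mapHomologicalComplex (ComplexShape.up ℤ)).obj J)
  let φ : K ⟶ J := (StalkSkyL.counitC (tilde.adjunction (R := R)) (ComplexShape.up ℤ)).app J
  show IsIso (Q.map φ)
  apply isIso_Q_map_of_shifts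
  intro n
  have hqK : ∀ m : ℤ, Coh.IsQCoh ((K⟦n⟧).X m) := fun m =>
    inferInstanceAs (((tilde.functor R).obj
      ((moduleSpecΓFunctor (R := R)).obj (J.X (m + n)))).IsQuasicoherent)
  have hU : IsAffineOpen (⊤ : (Spec (CommRingCat.of R)).Opens) := isAffineOpen_top _
  have hb : ∀ m : ℤ, Function.Bijective
      (fun g : (PX (Spec (CommRingCat.of R))).obj ⊤ ⟶ K.X m => g ≫ φ.f m) :=
    fun m => comp_counit_bijective R (J.X m)
  obtain ⟨hinj, hsurj⟩ := hinj_hsurj_of_bijective (φ⟦n⟧') ((PX _).obj ⊤) (fun m => hb (m + n))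
  have hbij := bijective_sections_H0 (φ⟦n⟧') ⊤ (rep_of_qcoh _ hqK ⊤ hU)
    (rep_of_isKInjective _ ⊤)
    (etaX_bijective _ _ (fun j _ => qcohD_Q _ hqK j) ⊤ hU)
    (etaX_bijective _ _ (fun j _ => qcohD_Q_shift J hJ n j) ⊤ hU) hinj hsurj
  exact isIso_of_bijective_top R (qcohD_Q _ hqK 0) (qcohD_Q_shift J hJ n 0) _ hbij

end SpecR

end Groth.Agent.Lib.DSectX
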