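import Mathlib
import Groth.Prelude
import Groth.Agent.Lib.DSect6_lead

/-!
# `D(R) ⥤ D(O_{Spec R})` is fully faithful with essential image `D_QCoh` (lead)
-/

set_option autoImplicit false
set_option linter.all false
set_option maxHeartbeats 1600000
set_option backward.isDefEq.respectTransparency false
set_option backward.isDefEq.respectTransparency.types false
set_option backward.defeqAttrib.useBackward true

universe u
open CategoryTheory CategoryTheory.Limits AlgebraicGeometry TopologicalSpace Opposite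
open DerivedCategory CategoryTheory.Pretriangulated
attribute [local instance] HasDerivedCategory.standard

namespace Groth.Agent.Lib.DSectX

open Groth.Agent.Lib.DSectL Groth.Agent.Lib

section FF

variable (R : CommRingCat.{u})

/-- `M ↦ M~` on homotopy categories -/
noncomputable abbrev TK : HomotopyCategory (ModuleCat.{u} R) (ComplexShape.up ℤ) ⥤
    HomotopyCategory (Spec (CommRingCat.of R)).Modules (ComplexShape.up ℤ) :=
  (tilde.functor R).mapHomotopyCategory (ComplexShape.up ℤ)

/-- global sections on homotopy categories -/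
noncomputable abbrev GK :
    HomotopyCategory (Spec (CommRingCat.of R)).Modules (ComplexShape.up ℤ) ⥤
      HomotopyCategory (ModuleCat.{u} R) (ComplexShape.up ℤ) :=
  (moduleSpecΓFunctor (R := R)).mapHomotopyCategory (ComplexShape.up ℤ)

/-- the adjunction on homotopy categories -/
noncomputable def adjTK : TK R ⊣ GK R :=
  DerAdjL.adjH (tilde.adjunction (R := R)) (ComplexShape.up ℤ)

variable [PreservesFiniteLimits (tilde.functor R)]

theorem isIso_Q_adjunct {I : CochainComplex (ModuleCat.{u} R) ℤ}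
    {J : CochainComplex (Spec (CommRingCat.of R)).Modules ℤ} [J.IsKInjective]
    (j : ((tilde.functor R).mapHomologicalComplex (ComplexShape.up ℤ)).obj I ⟶ J) [QuasiIso j] :
    IsIso (Q.map ((StalkSkyL.unitC (tilde.adjunction (R := R)) (ComplexShape.up ℤ)).app I ≫
      ((moduleSpecΓFunctor (R := R)).mapHomologicalComplex (ComplexShape.up ℤ)).map j)) := by
  let A := StalkSkyL.adjC (tilde.adjunction (R := R)) (ComplexShape.up ℤ)
  let u : I ⟶ ((moduleSpecΓFunctor (R := R)).mapHomologicalComplex (ComplexShape.up ℤ)).obj J :=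
    (StalkSkyL.unitC (tilde.adjunction (R := R)) (ComplexShape.up ℤ)).app I ≫
      ((moduleSpecΓFunctor (R := R)).mapHomologicalComplex (ComplexShape.up ℤ)).map j
  show IsIso (Q.map u)
  have hu : u = A.homEquiv I J j := (A.homEquiv_unit (X := I) (Y := J) (f := j)).symm
  have h1 : ((tilde.functor R).mapHomologicalComplex (ComplexShape.up ℤ)).map u ≫
      (StalkSkyL.counitC (tilde.adjunction (R := R)) (ComplexShape.up ℤ)).app J = j := by
    rw [hu]
    exact (A.homEquiv_counit (X := I) (Y := J) (g := A.homEquiv I J j)).symm.trans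
      ((A.homEquiv I J).symm_apply_apply j)
  haveI hj : IsIso (Q.map j) := (DerivedCategory.isIso_Q_map_iff_quasiIso _ j).2 inferInstance
  have hJq : DCoh.IsQCohD (Q.obj J) := isQCohD_of_iso (asIso (Q.map j))
    (qcohD_Q _ (fun n => inferInstanceAs (((tilde.functor R).obj (I.X n)).IsQuasicoherent)))
  haveI := isIso_Q_counit R J hJq
  have h2 : Q.map (((tilde.functor R).mapHomologicalComplex (ComplexShape.up ℤ)).map u) ≫
      Q.map ((StalkSkyL.counitC (tilde.adjunction (R := R)) (ComplexShape.up ℤ)).app J) =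
        Q.map j := by
    rw [← CategoryTheory.Functor.map_comp, h1]
  haveI h3 : IsIso (Q.map (((tilde.functor R).mapHomologicalComplex
      (ComplexShape.up ℤ)).map u)) := by
    haveI : IsIso (Q.map (((tilde.functor R).mapHomologicalComplex (ComplexShape.up ℤ)).map u) ≫
        Q.map ((StalkSkyL.counitC (tilde.adjunction (R := R)) (ComplexShape.up ℤ)).app J)) := by
      rw [h2]
      infer_instance
    exact IsIso.of_isIso_comp_right _
      (Q.map ((StalkSkyL.counitC (tilde.adjunction (R := R)) (ComplexShape.up ℤ)).app J))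
  have h4 : QuasiIso (((tilde.functor R).mapHomologicalComplex (ComplexShape.up ℤ)).map u) :=
    (DerivedCategory.isIso_Q_map_iff_quasiIso _ _).1 h3
  have h5 : QuasiIso u :=
    (HomologicalComplex.quasiIso_map_iff_of_preservesHomology u (tilde.functor R)).1 h4
  exact (DerivedCategory.isIso_Q_map_iff_quasiIso _ u).2 h5

theorem tildeD_map_bijective (M : HomotopyCategory (ModuleCat.{u} R) (ComplexShape.up ℤ))
    (I : CochainComplex (ModuleCat.{u} R) ℤ) [I.IsKInjective] :
    Function.Bijective (fun g : Qh.obj M ⟶ Qh.obj ((HomotopyCategory.quotient _ _).obj I) =>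
      (DCoh.tildeD R).map g) := by
  haveI := MVPushL.grothendieck_modules (Spec (CommRingCat.of R))
  obtain ⟨J, j, hJ, hj, _, _⟩ := KInjGen5.exists_resolution
    (((tilde.functor R).mapHomologicalComplex (ComplexShape.up ℤ)).obj I)
  haveI := hJ
  haveI := hj
  let qR := HomotopyCategory.quotient (ModuleCat.{u} R) (ComplexShape.up ℤ)
  let qX := HomotopyCategory.quotient (Spec (CommRingCat.of R)).Modules (ComplexShape.up ℤ)
  let GJ : CochainComplex (ModuleCat.{u} R) ℤ :=
    ((moduleSpecΓFunctor (R := R)).mapHomologicalComplex (ComplexShape.up ℤ)).obj J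
  let u : I ⟶ GJ := (StalkSkyL.unitC (tilde.adjunction (R := R)) (ComplexShape.up ℤ)).app I ≫
      ((moduleSpecΓFunctor (R := R)).mapHomologicalComplex (ComplexShape.up ℤ)).map j
  let ĵ : (TK R).obj (qR.obj I) ⟶ qX.obj J := qX.map j
  let û : qR.obj I ⟶ (GK R).obj (qX.obj J) := qR.map u
  have hadj : (adjTK R).homEquiv (qR.obj I) (qX.obj J) ĵ = û := by
    rw [Adjunction.homEquiv_unit]
    show qR.map ((StalkSkyL.unitC (tilde.adjunction (R := R)) (ComplexShape.up ℤ)).app I) ≫
      qR.map (((moduleSpecΓFunctor (R := R)).mapHomologicalComplex (ComplexShape.up ℤ)).map j) =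
        qR.map u
    exact (qR.map_comp _ _).symm
  haveI hû : IsIso (Qh.map û) :=
    (NatIso.isIso_map_iff (quotientCompQhIso (ModuleCat.{u} R)) u).2 (isIso_Q_adjunct R j)
  haveI hĵ : IsIso (Qh.map ĵ) :=
    (NatIso.isIso_map_iff (quotientCompQhIso (Spec (CommRingCat.of R)).Modules) j).2
      ((DerivedCategory.isIso_Q_map_iff_quasiIso _ j).2 hj)
  let e := (tilde.functor R).mapDerivedCategoryFactorsh
  have hQ1 := CochainComplex.IsKInjective.Qh_map_bijective M I
  have hQ2 := CochainComplex.IsKInjective.Qh_map_bijective ((TK R).obj M) J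
  haveI hGJ : CochainComplex.IsKInjective GJ :=
    StalkSkyL.isKInjective_map_of_adjunction (tilde.adjunction (R := R)) J
  have hQ3 := CochainComplex.IsKInjective.Qh_map_bijective M GJ
  have key : ∀ a : M ⟶ qR.obj I, (DCoh.tildeD R).map (Qh.map a) =
      e.hom.app M ≫ Qh.map ((TK R).map a) ≫ e.inv.app (qR.obj I) := by
    intro a
    have nat : (DCoh.tildeD R).map (Qh.map a) ≫ e.hom.app (qR.obj I) =
        e.hom.app M ≫ Qh.map ((TK R).map a) := e.hom.naturality a
    have h := congrArg (fun t => t ≫ e.inv.app (qR.obj I)) nat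
    refine Eq.trans ?_ (h.trans (Category.assoc _ _ _))
    exact ((Category.assoc _ _ _).trans ((congrArg (fun t => (DCoh.tildeD R).map (Qh.map a) ≫ t)
      (e.hom_inv_id_app (qR.obj I))).trans (Category.comp_id _))).symm
  have hnat : ∀ a : M ⟶ qR.obj I, (TK R).map a ≫ ĵ =
      ((adjTK R).homEquiv M (qX.obj J)).symm (a ≫ û) := by
    intro a
    rw [← hadj, Adjunction.homEquiv_naturality_left_symm, Equiv.symm_apply_apply]
  constructor
  · intro g₁ g₂ hg
    obtain ⟨a₁, rfl⟩ := hQ1.2 g₁
    obtain ⟨a₂, rfl⟩ := hQ1.2 g₂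
    have hg' : (DCoh.tildeD R).map (Qh.map a₁) = (DCoh.tildeD R).map (Qh.map a₂) := hg
    rw [key, key] at hg'
    have h1 : Qh.map ((TK R).map a₁) = Qh.map ((TK R).map a₂) :=
      (cancel_mono (e.inv.app (qR.obj I))).1 ((cancel_epi (e.hom.app M)).1 hg')
    have h2 : (TK R).map a₁ ≫ ĵ = (TK R).map a₂ ≫ ĵ := by
      apply hQ2.1
      show Qh.map ((TK R).map a₁ ≫ ĵ) = Qh.map ((TK R).map a₂ ≫ ĵ)
      rw [Functor.map_comp, Functor.map_comp, h1]
    rw [hnat, hnat] at h2
    have h3 : a₁ ≫ û = a₂ ≫ û := ((adjTK R).homEquiv M (qX.obj J)).symm.injective h2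
    have h4 : Qh.map a₁ ≫ Qh.map û = Qh.map a₂ ≫ Qh.map û := by
      rw [← Functor.map_comp, ← Functor.map_comp, h3]
    exact (cancel_mono (Qh.map û)).1 h4
  · intro k
    let k' : Qh.obj ((TK R).obj M) ⟶ Qh.obj (qX.obj J) :=
      e.inv.app M ≫ k ≫ e.hom.app (qR.obj I) ≫ Qh.map ĵ
    obtain ⟨b, hb⟩ := hQ2.2 k'
    let b' : M ⟶ (GK R).obj (qX.obj J) := (adjTK R).homEquiv M (qX.obj J) b
    obtain ⟨a, ha⟩ := hQ1.2 (Qh.map b' ≫ inv (Qh.map û))
    have h3 : a ≫ û = b' := by
      apply hQ3.1
      show Qh.map (a ≫ û) = Qh.map b'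
      rw [Functor.map_comp, ha, Category.assoc, IsIso.inv_hom_id, Category.comp_id]
    have h4 : (TK R).map a ≫ ĵ = b := by
      rw [hnat, h3]
      exact Equiv.symm_apply_apply _ _
    refine ⟨Qh.map a, ?_⟩
    show (DCoh.tildeD R).map (Qh.map a) = k
    rw [key]
    have h5 : Qh.map ((TK R).map a) ≫ Qh.map ĵ = k' := by
      rw [← Functor.map_comp, h4]
      exact hb
    haveI hmono : Mono (Qh.map ĵ) := @IsIso.mono_of_iso _ _ _ _ _ hĵ
    have h6 : Qh.map ((TK R).map a) = e.inv.app M ≫ k ≫ e.hom.app (qR.obj I) := by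
      have h7 : Qh.map ((TK R).map a) ≫ Qh.map ĵ =
          (e.inv.app M ≫ k ≫ e.hom.app (qR.obj I)) ≫ Qh.map ĵ := by
        rw [h5]
        simp only [k', Category.assoc]
      exact (cancel_mono (Qh.map ĵ)).1 h7
    rw [h6]
    have e1 := e.hom_inv_id_app M
    have e2 := e.hom_inv_id_app (qR.obj I)
    calc e.hom.app M ≫ (e.inv.app M ≫ k ≫ e.hom.app (qR.obj I)) ≫ e.inv.app (qR.obj I)
        = (e.hom.app M ≫ e.inv.app M) ≫ k ≫
            (e.hom.app (qR.obj I) ≫ e.inv.app (qR.obj I)) := by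
          simp only [Category.assoc]
      _ = k := by
          rw [e1, e2]
          exact (Category.id_comp _).trans (Category.comp_id _)

theorem main0997 : (DCoh.tildeD R).Full ∧ (DCoh.tildeD R).Faithful ∧
    ∀ K : DCoh.D (Spec (CommRingCat.of R)),
      DCoh.IsQCohD K ↔ ∃ M, Nonempty ((DCoh.tildeD R).obj M ≅ K) := by
  have hbij : ∀ A B : DerivedCategory (ModuleCat.{u} R),
      Function.Bijective (fun g : A ⟶ B => (DCoh.tildeD R).map g) := by
    intro A B
    obtain ⟨I, hI, _, ⟨b⟩⟩ := KInjGen8.exists_kInjective_rep B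
    haveI := hI
    let M := Qh.objPreimage A
    let a : Qh.obj M ≅ A := Qh.objObjPreimageIso A
    have h := tildeD_map_bijective R M I
    let a' := (DCoh.tildeD R).mapIso a
    let b' := (DCoh.tildeD R).mapIso b
    constructor
    · intro g₁ g₂ hg
      have hg' : (DCoh.tildeD R).map g₁ = (DCoh.tildeD R).map g₂ := hg
      have h1 : a.hom ≫ g₁ ≫ b.inv = a.hom ≫ g₂ ≫ b.inv := by
        apply h.1
        show (DCoh.tildeD R).map (a.hom ≫ g₁ ≫ b.inv) =
          (DCoh.tildeD R).map (a.hom ≫ g₂ ≫ b.inv)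
        simp only [Functor.map_comp]
        rw [hg']
      exact (cancel_mono b.inv).1 ((cancel_epi a.hom).1 h1)
    · intro k
      obtain ⟨g, hg⟩ := h.2 (a'.hom ≫ k ≫ b'.inv)
      have hg' : (DCoh.tildeD R).map g = a'.hom ≫ k ≫ b'.inv := hg
      refine ⟨a.inv ≫ g ≫ b.hom, ?_⟩
      show (DCoh.tildeD R).map (a.inv ≫ g ≫ b.hom) = k
      rw [Functor.map_comp, Functor.map_comp, hg']
      show a'.inv ≫ (a'.hom ≫ k ≫ b'.inv) ≫ b'.hom = k
      simp only [Category.assoc, Iso.inv_hom_id, Category.comp_id, Iso.inv_hom_id_assoc]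
  refine ⟨⟨fun {A B} => (hbij A B).2⟩, ⟨fun {A B} => (hbij A B).1⟩, ?_⟩
  intro K
  constructor
  · intro hK
    obtain ⟨J, hJ, ⟨e⟩⟩ := QCohSigmaL.exists_kInj _ K
    haveI := hJ
    have hJq : DCoh.IsQCohD (Q.obj J) := isQCohD_of_iso e.symm hK
    haveI := isIso_Q_counit R J hJq
    refine ⟨Q.obj (((moduleSpecΓFunctor (R := R)).mapHomologicalComplex
      (ComplexShape.up ℤ)).obj J), ⟨?_⟩⟩
    exact ((tilde.functor R).mapDerivedCategoryFactors.app _) ≪≫
      asIso (Q.map ((StalkSkyL.counitC (tilde.adjunction (R := R))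
        (ComplexShape.up ℤ)).app J)) ≪≫ e
  · rintro ⟨M, ⟨e⟩⟩
    let N := Q.objPreimage M
    let eN : Q.obj N ≅ M := Q.objObjPreimageIso M
    have h1 : DCoh.IsQCohD (Q.obj (((tilde.functor R).mapHomologicalComplex
        (ComplexShape.up ℤ)).obj N)) :=
      qcohD_Q _ (fun n => inferInstanceAs (((tilde.functor R).obj (N.X n)).IsQuasicoherent))
    exact isQCohD_of_iso (((tilde.functor R).mapDerivedCategoryFactors.app N).symm ≪≫
      (DCoh.tildeD R).mapIso eN ≪≫ e) h1

end FF

end Groth.Agent.Lib.DSectX
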