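import Mathlib
import Groth.Prelude.Def_DRing2
import Groth.Prelude.Def_DDual2
import Groth.Prelude.Def_Wider

/-!
# Flat base change for `RHom` (helper6), part 1: generalities on derived categories.

* `homologyFunctor_linear`: the homology functors on a derived category are linear.
* `exactHomologyIso F n`: an exact functor commutes with homology, on derived categories.
* `mapDerivedCategory_map_smul`: semilinearity of the functor induced by a semilinear exact
  functor.
-/

set_option autoImplicit false
universe w₁ w₂ v₁ v₂ u₁ u₂ u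
open CategoryTheory CategoryTheory.Limits DerivedCategory

namespace Groth.Agent.Lib.FlatBCH6

section General

variable {C₁ : Type u₁} [Category.{v₁} C₁] [Abelian C₁] [HasDerivedCategory.{w₁} C₁]
  {C₂ : Type u₂} [Category.{v₂} C₂] [Abelian C₂] [HasDerivedCategory.{w₂} C₂]

instance homologyFunctor_linear (R : Type*) [Ring R] [Linear R C₁] (n : ℤ) :
    (DerivedCategory.homologyFunctor C₁ n).Linear R := by
  haveI : (HomologicalComplex.homologyFunctor C₁ (ComplexShape.up ℤ) n).Linear R :=
    { map_smul := fun {K L} f r => by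
        show ShortComplex.homologyMap ((HomologicalComplex.shortComplexFunctor C₁ _ n).map (r • f)) = _
        have : (HomologicalComplex.shortComplexFunctor C₁ (ComplexShape.up ℤ) n).map (r • f) =
            r • (HomologicalComplex.shortComplexFunctor C₁ (ComplexShape.up ℤ) n).map f := by
          ext <;> rfl
        rw [this, ShortComplex.homologyMap_smul]
        rfl }
  letI : Localization.Lifting (DerivedCategory.Q (C := C₁))
      (HomologicalComplex.quasiIso C₁ (ComplexShape.up ℤ))
      (HomologicalComplex.homologyFunctor C₁ (ComplexShape.up ℤ) n)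
      (DerivedCategory.homologyFunctor C₁ n) := ⟨homologyFunctorFactors C₁ n⟩
  exact (Localization.functor_linear_iff (DerivedCategory.Q (C := C₁))
    (HomologicalComplex.quasiIso C₁ (ComplexShape.up ℤ)) R
    (HomologicalComplex.homologyFunctor C₁ (ComplexShape.up ℤ) n)
    (DerivedCategory.homologyFunctor C₁ n)).1 inferInstance

variable (F : C₁ ⥤ C₂) [F.Additive] [PreservesFiniteLimits F] [PreservesFiniteColimits F]

/-- an exact functor commutes with homology, on complexes -/
noncomputable def exactHomologyIsoCx (n : ℤ) :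
    F.mapHomologicalComplex (ComplexShape.up ℤ) ⋙
        HomologicalComplex.homologyFunctor C₂ (ComplexShape.up ℤ) n ≅
      HomologicalComplex.homologyFunctor C₁ (ComplexShape.up ℤ) n ⋙ F :=
  NatIso.ofComponents (fun K => (K.sc n).mapHomologyIso F) (fun {K L} f =>
    ShortComplex.mapHomologyIso_hom_naturality
      ((HomologicalComplex.shortComplexFunctor C₁ (ComplexShape.up ℤ) n).map f) F)

/-- an exact functor commutes with homology, on derived categories -/
noncomputable def exactHomologyIso (n : ℤ) :
    F.mapDerivedCategory ⋙ DerivedCategory.homologyFunctor C₂ n ≅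
      DerivedCategory.homologyFunctor C₁ n ⋙ F :=
  letI h₁ : Localization.Lifting (DerivedCategory.Q (C := C₁))
      (HomologicalComplex.quasiIso C₁ (ComplexShape.up ℤ))
      (F.mapHomologicalComplex (ComplexShape.up ℤ) ⋙
        HomologicalComplex.homologyFunctor C₂ (ComplexShape.up ℤ) n)
      (F.mapDerivedCategory ⋙ DerivedCategory.homologyFunctor C₂ n) :=
    ⟨(Functor.associator _ _ _).symm ≪≫
      Functor.isoWhiskerRight F.mapDerivedCategoryFactors _ ≪≫ Functor.associator _ _ _ ≪≫
        Functor.isoWhiskerLeft _ (homologyFunctorFactors C₂ n)⟩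
  letI h₂ : Localization.Lifting (DerivedCategory.Q (C := C₁))
      (HomologicalComplex.quasiIso C₁ (ComplexShape.up ℤ))
      (HomologicalComplex.homologyFunctor C₁ (ComplexShape.up ℤ) n ⋙ F)
      (DerivedCategory.homologyFunctor C₁ n ⋙ F) :=
    ⟨(Functor.associator _ _ _).symm ≪≫
      Functor.isoWhiskerRight (homologyFunctorFactors C₁ n) F⟩
  Localization.liftNatIso (DerivedCategory.Q (C := C₁))
    (HomologicalComplex.quasiIso C₁ (ComplexShape.up ℤ)) _ _ _ _ (exactHomologyIsoCx F n)

/-- semilinearity of the functor induced on derived categories by a semilinear exact functor -/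
lemma mapDerivedCategory_map_smul {R₁ R₂ : Type*} [Ring R₁] [Ring R₂] [Linear R₁ C₁]
    [Linear R₂ C₂] (r₁ : R₁) (r₂ : R₂)
    (h : ∀ N : C₁, F.map (r₁ • 𝟙 N) = r₂ • 𝟙 (F.obj N))
    {K L : DerivedCategory C₁} (f : K ⟶ L) :
    F.mapDerivedCategory.map (r₁ • f) = r₂ • F.mapDerivedCategory.map f := by
  have key : ∀ X : CochainComplex C₁ ℤ, F.mapDerivedCategory.map (r₁ • 𝟙 (Q.obj X)) =
      r₂ • 𝟙 (F.mapDerivedCategory.obj (Q.obj X)) := by
    intro X
    have h1 : r₁ • 𝟙 (Q.obj X) = Q.map (r₁ • 𝟙 X) := by
      rw [Functor.map_smul, CategoryTheory.Functor.map_id]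
    have h2 : (F.mapHomologicalComplex (ComplexShape.up ℤ)).map (r₁ • 𝟙 X) =
        r₂ • 𝟙 ((F.mapHomologicalComplex (ComplexShape.up ℤ)).obj X) := by
      apply HomologicalComplex.hom_ext
      intro i
      show F.map ((r₁ • 𝟙 X : X ⟶ X).f i) = _
      rw [HomologicalComplex.smul_f_apply, HomologicalComplex.id_f, h]
      rfl
    have h3 := F.mapDerivedCategoryFactors_hom_naturality (r₁ • 𝟙 X)
    rw [h1, ← cancel_mono (F.mapDerivedCategoryFactors.hom.app X), h3, h2, Functor.map_smul,
      CategoryTheory.Functor.map_id, Linear.comp_smul, Linear.smul_comp]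
    congr 1
    exact (Category.comp_id _).trans (Category.id_comp _).symm
  have hK : F.mapDerivedCategory.map (r₁ • 𝟙 K) = r₂ • 𝟙 (F.mapDerivedCategory.obj K) := by
    let e : Q.obj (Q.objPreimage K) ≅ K := Q.objObjPreimageIso K
    have h1 : r₁ • 𝟙 K = e.inv ≫ (r₁ • 𝟙 (Q.obj (Q.objPreimage K))) ≫ e.hom := by
      rw [Linear.smul_comp, Linear.comp_smul, Category.id_comp, Iso.inv_hom_id]
    rw [h1, Functor.map_comp, Functor.map_comp, key, Linear.smul_comp, Linear.comp_smul,
      Category.id_comp, ← Functor.map_comp, Iso.inv_hom_id, CategoryTheory.Functor.map_id]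
  have h0 : r₁ • f = (r₁ • 𝟙 K) ≫ f := by rw [Linear.smul_comp, Category.id_comp]
  rw [h0, Functor.map_comp, hK, Linear.smul_comp, Category.id_comp]

end General

section CompIso

variable {C₁ : Type u₁} [Category.{v₁} C₁] [Abelian C₁] [HasDerivedCategory.{w₁} C₁]
  {C₂ : Type u₂} [Category.{v₂} C₂] [Abelian C₂] [HasDerivedCategory.{w₂} C₂]
  {C₂' : Type u₂} [Category.{v₂} C₂'] [Abelian C₂'] [HasDerivedCategory.{w₂} C₂']
  {C₃ : Type u₂} [Category.{v₂} C₃] [Abelian C₃] [HasDerivedCategory.{w₂} C₃]
  (F : C₁ ⥤ C₂) [F.Additive] [PreservesFiniteLimits F] [PreservesFiniteColimits F]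
  (G : C₂ ⥤ C₃) [G.Additive] [PreservesFiniteLimits G] [PreservesFiniteColimits G]
  (F' : C₁ ⥤ C₂') [F'.Additive] [PreservesFiniteLimits F'] [PreservesFiniteColimits F']
  (G' : C₂' ⥤ C₃) [G'.Additive] [PreservesFiniteLimits G'] [PreservesFiniteColimits G']

/-- lifting datum for a composite of functors induced by exact functors -/
noncomputable def liftingComp :
    Localization.Lifting (DerivedCategory.Q (C := C₁))
      (HomologicalComplex.quasiIso C₁ (ComplexShape.up ℤ))
      (F.mapHomologicalComplex (ComplexShape.up ℤ) ⋙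
        G.mapHomologicalComplex (ComplexShape.up ℤ) ⋙ DerivedCategory.Q)
      (F.mapDerivedCategory ⋙ G.mapDerivedCategory) :=
  ⟨(Functor.associator _ _ _).symm ≪≫
    Functor.isoWhiskerRight F.mapDerivedCategoryFactors _ ≪≫
      Functor.associator _ _ _ ≪≫
        Functor.isoWhiskerLeft _ G.mapDerivedCategoryFactors⟩

/-- a natural isomorphism between composites of exact functors induces a natural isomorphism
between the composites of the induced functors on derived categories -/
noncomputable def compIsoD (e : F ⋙ G ≅ F' ⋙ G') :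
    F.mapDerivedCategory ⋙ G.mapDerivedCategory ≅
      F'.mapDerivedCategory ⋙ G'.mapDerivedCategory :=
  Localization.liftNatIso (DerivedCategory.Q (C := C₁))
    (HomologicalComplex.quasiIso C₁ (ComplexShape.up ℤ)) _ _ _ _
    (h₁ := liftingComp F G) (h₂ := liftingComp F' G')
    ((Functor.associator _ _ _).symm ≪≫
      Functor.isoWhiskerRight
        (Functor.mapHomologicalComplexCompIso e (ComplexShape.up ℤ) ≪≫
          (Functor.mapHomologicalComplexCompIso (Iso.refl (F' ⋙ G'))
            (ComplexShape.up ℤ)).symm) _ ≪≫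
      Functor.associator _ _ _)

end CompIso

end Groth.Agent.Lib.FlatBCH6
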