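import Mathlib
import Groth.Prelude
import Groth.Agent.Lib.TorAmpId_lead
import Groth.Agent.Lib.DMod56_helper6
import Groth.Agent.Lib.DMod54_helper6
import Groth.Agent.Lib.DMod49_helper6
import Groth.Agent.Lib.DMod48_helper6
import Groth.Agent.Lib.ExtendScalars_helper2

/-!
# Tor amplitude of `M~` on `Spec A` versus tor amplitude of `M` (lead; S7243)
-/

set_option autoImplicit false
set_option linter.all false
set_option maxHeartbeats 1600000
set_option backward.isDefEq.respectTransparency false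
set_option backward.isDefEq.respectTransparency.types false
set_option backward.defeqAttrib.useBackward true

universe u
open CategoryTheory CategoryTheory.Limits AlgebraicGeometry Opposite TopologicalSpace
open scoped TensorProduct ChangeOfRings
attribute [local instance] HasDerivedCategory.standard

namespace Groth.Agent.Lib.TildeAmpL

open DRing DerSch Groth.Agent.Lib.DMod_helper6 Groth.Agent.Lib.TorAmpIdL
  Groth.Agent.Lib.TorAmpCompL Groth.Agent.ExtendScalarsLib

noncomputable section

variable (A : Type u) [CommRing A]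

/-- the local ring of `Spec A` at `q` -/
abbrev Bq (q : PrimeSpectrum A) : Type u := (Spec (CommRingCat.of A)).presheaf.stalk q

instance algBq (q : PrimeSpectrum A) : Algebra A (Bq A q) :=
  StructureSheaf.stalkAlgebra A q

instance locBq (q : PrimeSpectrum A) : IsLocalization.AtPrime (Bq A q) q.asIdeal :=
  StructureSheaf.IsLocalization.to_stalk A q

instance flatBq (q : PrimeSpectrum A) : Module.Flat A (Bq A q) :=
  IsLocalization.flat (Bq A q) q.asIdeal.primeCompl

variable {A}

lemma isLocMk (P : Ideal A) [hP : P.IsMaximal] (N : ModuleCat.{u} A) :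
    IsLocalizedModule P.primeCompl (TensorProduct.mk A (Bq A ⟨P, hP.isPrime⟩) N 1) := by
  haveI : IsLocalization.AtPrime (Bq A ⟨P, hP.isPrime⟩) P := locBq A ⟨P, hP.isPrime⟩
  exact IsLocalization.tensorProduct_isLocalizedModule P.primeCompl (Bq A ⟨P, hP.isPrime⟩)

/-- exactness descends along the family of all local rings -/
lemma stalk_descendsExact : DescendsExact A (fun q : PrimeSpectrum A => Bq A q) := by
  intro M₁ M₂ M₃ F G h
  refine @exact_of_isLocalized_maximal A M₁ M₂ M₃ _ _ _ _ _ _ _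
    (fun P hP => Bq A ⟨P, hP.isPrime⟩ ⊗[A] M₁) _ _
    (fun P hP => TensorProduct.mk A (Bq A ⟨P, hP.isPrime⟩) M₁ 1) (fun P hP => isLocMk P M₁)
    (fun P hP => Bq A ⟨P, hP.isPrime⟩ ⊗[A] M₂) _ _
    (fun P hP => TensorProduct.mk A (Bq A ⟨P, hP.isPrime⟩) M₂ 1) (fun P hP => isLocMk P M₂)
    (fun P hP => Bq A ⟨P, hP.isPrime⟩ ⊗[A] M₃) _ _
    (fun P hP => TensorProduct.mk A (Bq A ⟨P, hP.isPrime⟩) M₃ 1) (fun P hP => isLocMk P M₃)
    F.hom G.hom ?_
  intro J hJ
  haveI : IsLocalization.AtPrime (Bq A ⟨J, hJ.isPrime⟩) J := locBq A ⟨J, hJ.isPrime⟩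
  rw [isLocalizedModule_map_mk_eq_baseChange, isLocalizedModule_map_mk_eq_baseChange]
  exact (exact_ES_map_iff (A := A) (B := Bq A ⟨J, hJ.isPrime⟩) F G).1 (h ⟨J, hJ.isPrime⟩)

/-- tor amplitude can be checked at all local rings of `Spec A` -/
theorem hasTorAmplitudeIn_of_stalks (C : Cx A) (a b : ℤ)
    (h : ∀ q : PrimeSpectrum A, HasTorAmplitudeIn (Bq A q) a b
      (toD ((EScA (fun q : PrimeSpectrum A => Bq A q) q).obj C))) :
    HasTorAmplitudeIn A a b (toD C) :=
  hasTorAmplitudeIn_descent (B := fun q : PrimeSpectrum A => Bq A q) stalk_descendsExact C a b h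

/-! ### the stalk of `N~` is the base change of `N` -/

abbrev XA (A : Type u) [CommRing A] : Scheme.{u} := Spec (CommRingCat.of A)

instance modStalk (q : PrimeSpectrum A) (N : ModuleCat.{u} A) :
    Module A ((tilde (R := CommRingCat.of A) N).presheaf.stalk q) :=
  tilde.instModuleCarrierCarrierStalkAbPresheaf (R := CommRingCat.of A) N q

/-- the canonical map `N → (N~)_q` -/
abbrev tS (q : PrimeSpectrum A) (N : ModuleCat.{u} A) :
    N →ₗ[A] ((tilde (R := CommRingCat.of A) N).presheaf.stalk q) :=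
  (tilde.toStalk (R := CommRingCat.of A) N q).hom

instance locStalk (q : PrimeSpectrum A) (N : ModuleCat.{u} A) :
    IsLocalizedModule q.asIdeal.primeCompl (tS q N) :=
  tilde.instIsLocalizedModuleCarrierCarrierOfCarrierStalkAbPresheafPrimeComplAsIdealHomToStalk
    (R := CommRingCat.of A) N q

instance towerStalk (q : PrimeSpectrum A) (N : ModuleCat.{u} A) :
    IsScalarTower A (Bq A q) ((tilde (R := CommRingCat.of A) N).presheaf.stalk q) :=
  IsScalarTower.of_algebraMap_smul fun _ _ => rfl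

def stalkEquiv (q : PrimeSpectrum A) (N : ModuleCat.{u} A) :
    (ES A (Bq A q)).obj N ≃ₗ[Bq A q] ((tilde (R := CommRingCat.of A) N).presheaf.stalk q) :=
  (extendScalarsEquivTensor (S := Bq A q) N).trans
    (IsLocalizedModule.isBaseChange q.asIdeal.primeCompl (Bq A q) (tS q N)).equiv

lemma stalkEquiv_one_tmul (q : PrimeSpectrum A) (N : ModuleCat.{u} A) (m : N) :
    stalkEquiv q N ((1 : Bq A q) ⊗ₜ[A,algebraMap A (Bq A q)] m) = tS q N m := by
  show (IsLocalizedModule.isBaseChange q.asIdeal.primeCompl (Bq A q) (tS q N)).equiv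
    (extendScalarsEquivTensor (S := Bq A q) N ((1 : Bq A q) ⊗ₜ[A,algebraMap A (Bq A q)] m)) = _
  rw [extendScalarsEquivTensor_tmul, IsBaseChange.equiv_tmul, one_smul]

def modIso (q : PrimeSpectrum A) (N : ModuleCat.{u} A) :
    (ES A (Bq A q)).obj N ≅
      (stalkFunctor (XA A) q).obj ((tilde.functor (CommRingCat.of A)).obj N) :=
  isoOfLinearEquiv' (N1 := (ES A (Bq A q)).obj N)
    (N2 := (stalkFunctor (XA A) q).obj ((tilde.functor (CommRingCat.of A)).obj N))
    (stalkEquiv q N)

lemma tS_eq_germ (q : PrimeSpectrum A) (N : ModuleCat.{u} A) (m : N) :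
    tS q N m = (tilde (R := CommRingCat.of A) N).presheaf.germ ⊤ q trivial
      (StructureSheaf.toOpenₗ A N ⊤ m) := rfl

lemma app_toOpen (q : PrimeSpectrum A) {N N' : ModuleCat.{u} A} (g : N ⟶ N') (m : N) :
    (tilde.map (R := CommRingCat.of A) g).app ⊤ (StructureSheaf.toOpenₗ A N ⊤ m) =
      StructureSheaf.toOpenₗ A N' ⊤ (g.hom m) := by
  have h2 := congrArg (fun k => k.hom m) (tilde.toOpen_map_app (R := CommRingCat.of A) g ⊤)
  exact h2

lemma tS_natural (q : PrimeSpectrum A) {N N' : ModuleCat.{u} A} (g : N ⟶ N') (m : N) :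
    ((stalkFunctor (XA A) q).map ((tilde.functor (CommRingCat.of A)).map g)).hom (tS q N m) =
      tS q N' (g.hom m) := by
  rw [tS_eq_germ, tS_eq_germ]
  have h1 := stalkFunctor_map_germ (X := XA A) q ((tilde.functor (CommRingCat.of A)).map g) ⊤ trivial
    (StructureSheaf.toOpenₗ A N ⊤ m)
  refine h1.trans ?_
  exact congrArg (fun z => (tilde (R := CommRingCat.of A) N').presheaf.germ ⊤ q trivial z)
    (app_toOpen q g m)

lemma modIso_natural (q : PrimeSpectrum A) {N N' : ModuleCat.{u} A} (g : N ⟶ N') :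
    (ES A (Bq A q)).map g ≫ (modIso q N').hom =
      (modIso q N).hom ≫
        (stalkFunctor (XA A) q).map ((tilde.functor (CommRingCat.of A)).map g) := by
  refine ModuleCat.ExtendScalars.hom_ext (fun m => ?_)
  show stalkEquiv q N' (((ES A (Bq A q)).map g).hom ((1 : Bq A q) ⊗ₜ[A,algebraMap A (Bq A q)] m)) =
    ((stalkFunctor (XA A) q).map ((tilde.functor (CommRingCat.of A)).map g)).hom
      (stalkEquiv q N ((1 : Bq A q) ⊗ₜ[A,algebraMap A (Bq A q)] m))
  rw [stalkEquiv_one_tmul, tS_natural]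
  exact stalkEquiv_one_tmul q N' (g.hom m)

/-! ### complexes -/

instance pfcTilde : PreservesFiniteColimits (tilde.functor (CommRingCat.of A)) := by
  haveI : (tilde.functor (CommRingCat.of A)).IsLeftAdjoint :=
    (tilde.adjunction (R := CommRingCat.of A)).isLeftAdjoint
  infer_instance

abbrev tildeCx (A : Type u) [CommRing A] : Cx A ⥤ CochainComplex (XA A).Modules ℤ :=
  (tilde.functor (CommRingCat.of A)).mapHomologicalComplex (ComplexShape.up ℤ)

def cxIso (q : PrimeSpectrum A) (C : Cx A) :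
    (EScA (fun q : PrimeSpectrum A => Bq A q) q).obj C ≅
      (stalkCx (X := XA A) q).obj ((tildeCx A).obj C) :=
  HomologicalComplex.Hom.isoOfComponents (fun i => modIso q (C.X i)) (by
    intro i j _
    exact (modIso_natural q (C.d i j)).symm)

variable (A) in
/-- S7243 -/
theorem main7243 [PreservesFiniteLimits (tilde.functor (CommRingCat.of A))] (M : Dual.D A)
    (a b : ℤ) :
    DCoh.HasFlatAmplitudeIn a b ((DCoh.tildeD (CommRingCat.of A)).obj M) ↔
      DRing.HasTorAmplitudeIn A a b M := by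
  constructor
  · rintro ⟨𝓔, h𝓔, h𝓔f, ⟨e⟩⟩
    let C : Cx A := DerivedCategory.Q.objPreimage M
    let eC : toD C ≅ M := DerivedCategory.Q.objObjPreimageIso M
    let e' : DCoh.toD (XA A) 𝓔 ≅ DCoh.toD (XA A) ((tildeCx A).obj C) :=
      e ≪≫ (DCoh.tildeD (CommRingCat.of A)).mapIso eC.symm ≪≫
        (tilde.functor (CommRingCat.of A)).mapDerivedCategoryFactors.app C
    refine hasTorAmplitudeIn_of_iso eC a b (hasTorAmplitudeIn_of_stalks C a b (fun q => ?_))
    refine hasTorAmplitudeIn_of_iso (DerivedCategory.Q.mapIso (cxIso q C)).symm a b ?_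
    refine ⟨(stalkCx (X := XA A) q).obj 𝓔, ?_, ?_, ⟨stalkDIso0 (X := XA A) q e'⟩⟩
    · intro i hi
      exact (stalkFunctor (XA A) q).map_isZero (h𝓔 i hi)
    · intro i
      exact h𝓔f i q
  · rintro ⟨E, hE, hEf, ⟨e⟩⟩
    refine ⟨(tildeCx A).obj E, ?_, ?_,
      ⟨((tilde.functor (CommRingCat.of A)).mapDerivedCategoryFactors.app E).symm ≪≫
        (DCoh.tildeD (CommRingCat.of A)).mapIso e⟩⟩
    · intro i hi
      exact (tilde.functor (CommRingCat.of A)).map_isZero (hE i hi)
    · intro i q
      show Module.Flat ((XA A).presheaf.stalk q)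
        ((tilde (R := CommRingCat.of A) (E.X i)).presheaf.stalk q)
      haveI : Module.Flat (Bq A q) ((ES A (Bq A q)).obj (E.X i)) := flat_ES (E.X i) (hEf i)
      exact Module.Flat.of_linearEquiv (stalkEquiv q (E.X i)).symm

end

end Groth.Agent.Lib.TildeAmpL
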