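import Mathlib
import Groth.Prelude
import Groth.Agent.Lib.TildeAmp_lead
import Groth.Agent.Lib.StalkKFlat1_helper3
import Groth.Agent.Lib.ExtKFlat_helper2

/-!
# `K~` is K-flat if `K` is (lead; S1121)
-/

set_option autoImplicit false
set_option linter.all false
set_option maxHeartbeats 1600000
set_option backward.isDefEq.respectTransparency false
set_option backward.isDefEq.respectTransparency.types false
set_option backward.defeqAttrib.useBackward true

universe u
open CategoryTheory CategoryTheory.Limits AlgebraicGeometry Opposite TopologicalSpace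
open MonoidalCategory
attribute [local instance] HasDerivedCategory.standard

namespace Groth.Agent.Lib.KFTildeL

open Groth.Agent.Lib.TildeAmpL Groth.Agent.Lib.KFlatMod Groth.Agent.Lib.KFlatGen
  Groth.Agent.Lib.ExtKFlat

theorem isKFlat_tilde (A : Type u) [CommRing A] (K : DRing.Cx A) (hK : KF A K) :
    DCoh.IsKFlat ((tildeCx A).obj K) := by
  rw [Groth.Agent.Lib.StalkTensH3.isKFlat_iff_stalk]
  intro x
  have h1 : KF (Bq A x) (((ext A (Bq A x)).mapHomologicalComplex (ComplexShape.up ℤ)).obj K) :=
    kf_ext A (Bq A x) K hK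
  have h2 := (kf_iff _).1 h1
  have h3 := isKFlat_of_iso (F := T (Bq A x)) (cxIso x K) h2
  exact (kf_iff _).2 h3

theorem main1121 (R : CommRingCat.{u}) (K : DRing.Cx R)
    (hK : ∀ L : DRing.Cx R, (∀ i : ℤ, IsZero (L.homology i)) →
      ∀ i : ℤ, IsZero (((tensorRight K).obj L).homology i)) :
    DCoh.IsKFlat (((tilde.functor R).mapHomologicalComplex (ComplexShape.up ℤ)).obj K) :=
  isKFlat_tilde R K hK

end Groth.Agent.Lib.KFTildeL
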