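import Mathlib
set_option autoImplicit false
open CategoryTheory AlgebraicGeometry Opposite TopologicalSpace
universe u
namespace PBH8

variable {R S : CommRingCat.{u}} (φ : R ⟶ S)

/-- The two right adjoints agree. -/
noncomputable def pushΓIso :
    Scheme.Modules.pushforward (Spec.map φ) ⋙ moduleSpecΓFunctor (R := R) ≅
      moduleSpecΓFunctor (R := S) ⋙ ModuleCat.restrictScalars φ.hom :=
  Functor.isoWhiskerRight (pushforwardCompModulesSpecToSheafIso φ)
    (TopCat.Sheaf.forget _ _ ⋙ (evaluation _ _).obj (.op ⊤)) ≪≫ (Iso.refl _)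

noncomputable def adjL : tilde.functor R ⋙ Scheme.Modules.pullback (Spec.map φ) ⊣
    Scheme.Modules.pushforward (Spec.map φ) ⋙ moduleSpecΓFunctor (R := R) :=
  (tilde.adjunction (R := R)).comp (Scheme.Modules.pullbackPushforwardAdjunction (Spec.map φ))

noncomputable def adjR : ModuleCat.extendScalars φ.hom ⋙ tilde.functor S ⊣
    moduleSpecΓFunctor (R := S) ⋙ ModuleCat.restrictScalars φ.hom :=
  (ModuleCat.extendRestrictScalarsAdj φ.hom).comp (tilde.adjunction (R := S))

/-- Pullback of `tilde M` along `Spec.map φ` is `tilde (S ⊗ M)`. -/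
noncomputable def pullbackTildeIso :
    tilde.functor R ⋙ Scheme.Modules.pullback (Spec.map φ) ≅
      ModuleCat.extendScalars φ.hom ⋙ tilde.functor S :=
  (conjugateIsoEquiv (adjR φ) (adjL φ)).symm (pushΓIso φ).symm

end PBH8
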