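import Mathlib
import Groth.Prelude
import Groth.Agent.Lib.KFTilde_lead
import Groth.Agent.Lib.LpullEx_helper3
import Groth.Agent.Lib.DerivedAdj_helper2
import Groth.Agent.Lib.PB1_helper8

/-!
# `Lf^* (M~) ≅ (M ⊗^L_A B)~` for `f : Spec B ⟶ Spec A` (lead; S1055)
-/

set_option autoImplicit false
set_option linter.all false
set_option maxHeartbeats 1600000
set_option backward.isDefEq.respectTransparency false
set_option backward.isDefEq.respectTransparency.types false
set_option backward.defeqAttrib.useBackward true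

universe u
open CategoryTheory CategoryTheory.Limits AlgebraicGeometry Opposite TopologicalSpace
open DerivedCategory
attribute [local instance] HasDerivedCategory.standard

namespace Groth.Agent.Lib.KFTildeL

open Groth.Agent.Lib.TildeAmpL Groth.Agent.Lib.KFlatMod Groth.Agent.Lib.KFlatGen

variable {A B : Type u} [CommRing A] [CommRing B] (φ : A →+* B)

/-- enough K-projective and K-flat resolutions in the homotopy category -/
lemma exists_kproj_kf_res (X : HomotopyCategory (ModuleCat.{u} A) (ComplexShape.up ℤ)) :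
    ∃ (X' : HomotopyCategory (ModuleCat.{u} A) (ComplexShape.up ℤ)) (s : X' ⟶ X),
      HomotopyCategory.quasiIso (ModuleCat.{u} A) (ComplexShape.up ℤ) s ∧
        (CochainComplex.IsKProjective X'.as ∧ KF A X'.as) := by
  obtain ⟨K⟩ := X
  obtain ⟨P, π, hπ, hPkp, hkf, -⟩ := Groth.Agent.Lib.KProjRes.exists_kproj_resolution K
  refine ⟨(HomotopyCategory.quotient _ _).obj P, (HomotopyCategory.quotient _ _).map π, ?_,
    hPkp, hkf⟩
  exact (HomotopyCategory.quotient_map_mem_quasiIso_iff π).2
    ((HomologicalComplex.mem_quasiIso_iff π).2 hπ)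

theorem nonempty_iso_1055 [PreservesFiniteLimits (tilde.functor (CommRingCat.of A))]
    [PreservesFiniteLimits (tilde.functor (CommRingCat.of B))]
    [DRing.HasLBaseChange φ] [DCoh.HasLpull (Spec.map (CommRingCat.ofHom φ))] :
    Nonempty (DRing.LBaseChange φ ⋙ DCoh.tildeD (CommRingCat.of B) ≅
      DCoh.tildeD (CommRingCat.of A) ⋙ DCoh.Lpull (Spec.map (CommRingCat.ofHom φ))) := by
  let W := HomotopyCategory.quasiIso (ModuleCat.{u} A) (ComplexShape.up ℤ)
  let TA := tilde.functor (CommRingCat.of A)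
  let TB := tilde.functor (CommRingCat.of B)
  let TAh := TA.mapHomotopyCategory (ComplexShape.up ℤ)
  let TBh := TB.mapHomotopyCategory (ComplexShape.up ℤ)
  let exth := (ModuleCat.extendScalars.{u, u, u} φ).mapHomotopyCategory (ComplexShape.up ℤ)
  let pbh := (Scheme.Modules.pullback (Spec.map (CommRingCat.ofHom φ))).mapHomotopyCategory
    (ComplexShape.up ℤ)
  let G₁ := DRing.LBaseChange φ ⋙ DCoh.tildeD (CommRingCat.of B)
  let G₂ := DCoh.tildeD (CommRingCat.of A) ⋙ DCoh.Lpull (Spec.map (CommRingCat.ofHom φ))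
  let F₁ : HomotopyCategory (ModuleCat.{u} A) (ComplexShape.up ℤ) ⥤
      DCoh.D (Spec (CommRingCat.of B)) :=
    DRing.baseChangeKh φ ⋙ DCoh.tildeD (CommRingCat.of B)
  let F₂ : HomotopyCategory (ModuleCat.{u} A) (ComplexShape.up ℤ) ⥤
      DCoh.D (Spec (CommRingCat.of B)) :=
    TAh ⋙ DCoh.pullKh (Spec.map (CommRingCat.ofHom φ))
  let c₁ := (DRing.baseChangeKh φ).totalLeftDerivedCounit Qh W
  let c₂ := (DCoh.pullKh (Spec.map (CommRingCat.ofHom φ))).totalLeftDerivedCounit Qh
    (HomotopyCategory.quasiIso (Spec (CommRingCat.of A)).Modules (ComplexShape.up ℤ))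
  let α₁ : Qh ⋙ G₁ ⟶ F₁ :=
    (Functor.associator _ _ _).inv ≫ Functor.whiskerRight c₁ (DCoh.tildeD (CommRingCat.of B))
  let α₂ : Qh ⋙ G₂ ⟶ F₂ :=
    (Functor.associator _ _ _).inv ≫
      Functor.whiskerRight TA.mapDerivedCategoryFactorsh.hom
        (DCoh.Lpull (Spec.map (CommRingCat.ofHom φ))) ≫
      (Functor.associator _ _ _).hom ≫ Functor.whiskerLeft TAh c₂
  haveI h₁ : G₁.IsLeftDerivedFunctor α₁ W := by
    refine Groth.Agent.Lib.DerivedAdj.isLeftDerivedFunctor_of_isIso_on Qh W G₁ α₁
      (fun X => CochainComplex.IsKProjective X.as ∧ KF A X.as) (fun X hX => ?_)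
      exists_kproj_kf_res
    haveI : CochainComplex.IsKProjective X.as := hX.1
    haveI : IsIso (c₁.app X) :=
      Groth.Agent.Lib.DMod_helper6.isIso_leftDerived_counit_of_isKProjective
        (DRing.baseChangeKh φ) (DRing.LBaseChange φ) c₁ X.as
    have e : α₁.app X = (DCoh.tildeD (CommRingCat.of B)).map (c₁.app X) := by
      rw [NatTrans.comp_app, Functor.whiskerRight_app, Functor.associator_inv_app]
      exact Category.id_comp _
    rw [e]
    infer_instance
  haveI h₂ : G₂.IsLeftDerivedFunctor α₂ W := by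
    refine Groth.Agent.Lib.DerivedAdj.isLeftDerivedFunctor_of_isIso_on Qh W G₂ α₂
      (fun X => CochainComplex.IsKProjective X.as ∧ KF A X.as) (fun X hX => ?_)
      exists_kproj_kf_res
    have hkflat : LpullExH3.kflat (Spec (CommRingCat.of A)) (TAh.obj X) :=
      isKFlat_tilde A X.as hX.2
    haveI hc₂ : IsIso (c₂.app (TAh.obj X)) :=
      LpullExH3.isIso_counit_of_isKFlat (Spec.map (CommRingCat.ofHom φ))
        (DCoh.Lpull (Spec.map (CommRingCat.ofHom φ))) c₂ (TAh.obj X) hkflat
    have e : α₂.app X = (DCoh.Lpull (Spec.map (CommRingCat.ofHom φ))).map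
        (TA.mapDerivedCategoryFactorsh.hom.app X) ≫ c₂.app (TAh.obj X) := by
      rw [NatTrans.comp_app, NatTrans.comp_app, NatTrans.comp_app, Functor.whiskerRight_app,
        Functor.whiskerLeft_app, Functor.associator_inv_app, Functor.associator_hom_app]
      exact (Category.id_comp _).trans (congrArg (fun t =>
        (DCoh.Lpull (Spec.map (CommRingCat.ofHom φ))).map
          (TA.mapDerivedCategoryFactorsh.hom.app X) ≫ t) (Category.id_comp _))
    rw [e]
    infer_instance
  let e₂ : ModuleCat.extendScalars.{u, u, u} φ ⋙ TB ≅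
      TA ⋙ Scheme.Modules.pullback (Spec.map (CommRingCat.ofHom φ)) :=
    (PBH8.pullbackTildeIso (CommRingCat.ofHom φ)).symm
  let κ : exth ⋙ TBh ≅ TAh ⋙ pbh :=
    Functor.mapHomotopyCategoryCompIso e₂ (ComplexShape.up ℤ) ≪≫
      (Functor.mapHomotopyCategoryCompIso
        (Iso.refl (TA ⋙ Scheme.Modules.pullback (Spec.map (CommRingCat.ofHom φ))))
        (ComplexShape.up ℤ)).symm
  let τ : F₁ ≅ F₂ :=
    Functor.associator _ _ _ ≪≫ Functor.isoWhiskerLeft exth TB.mapDerivedCategoryFactorsh ≪≫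
      (Functor.associator _ _ _).symm ≪≫ Functor.isoWhiskerRight κ Qh ≪≫
      Functor.associator _ _ _
  exact ⟨Functor.leftDerivedNatIso G₁ G₂ α₁ α₂ W τ⟩

end Groth.Agent.Lib.KFTildeL
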