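import Groth.Agent.Lib.KFlatSite3_helper2
import Groth.Agent.Lib.BrutalTrunc_helper2
import Mathlib.Algebra.Homology.Embedding.CochainComplex

/-!
# K-flat complexes on ringed sites, IV: bounded above complexes of flat modules (helper2)
-/

open CategoryTheory Limits ModSite ZeroObject

namespace Groth.Agent.Lib.KFlatSite

universe u

variable {C : Type u} [SmallCategory C] {J : GrothendieckTopology C} {O : Sheaf J CommRingCat.{u}}

open Groth.Agent.Lib.ModSiteH8 Groth.Agent.Lib.BrutalTrunc

/-- a zero module is flat -/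
theorem isFlat_of_isZero (M : Mod O) (hM : IsZero M) : ModSite.IsFlat M := by
  rw [isFlat_iff]
  have hZ : IsZero ((tensorBi O).flip.obj M) := by
    rw [Functor.isZero_iff]
    intro X
    exact Functor.map_isZero ((tensorBi O).obj X) hM
  exact ⟨fun _ _ _ => Functor.preservesLimitsOfShape_of_isZero _ hZ _⟩

theorem isKFlat_of_iso {K K' : CochainComplex (Mod O) ℤ} (e : K ≅ K') (h : ModSite.IsKFlat K) :
    ModSite.IsKFlat K' := fun L hL i =>
  (h L hL i).of_iso ((HomologicalComplex.homologyFunctor _ _ i).mapIso
    (((tensorCx O).obj L).mapIso e.symm))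

/-- a complex all of whose terms are zero is K-flat -/
theorem isKFlat_of_isZero_X (K : CochainComplex (Mod O) ℤ) (hK : ∀ n, IsZero (K.X n)) :
    ModSite.IsKFlat K := by
  have hK' : IsZero K := by
    rw [IsZero.iff_id_eq_zero]
    refine HomologicalComplex.hom_ext _ _ (fun n => ?_)
    exact (hK n).eq_of_src _ _
  have h0 : IsZero ((HomologicalComplex.single (Mod O) (ComplexShape.up ℤ) 0).obj (0 : Mod O)) :=
    Functor.map_isZero _ (isZero_zero _)
  exact isKFlat_of_iso (h0.iso hK') (isKFlat_single _ (isFlat_of_isZero _ (isZero_zero _)) 0)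

/-- brutal truncations of a bounded above complex of flat modules are K-flat -/
theorem isKFlat_sigmaGE (K : CochainComplex (Mod O) ℤ) (b : ℤ) [K.IsStrictlyLE b]
    (hflat : ∀ n : ℤ, ModSite.IsFlat (K.X n)) (m : ℤ) : ModSite.IsKFlat (sigmaGE K m) := by
  suffices H : ∀ (k : ℕ) (m : ℤ), b + 1 - m ≤ k → ModSite.IsKFlat (sigmaGE K m) from
    H (b + 1 - m).toNat m (by omega)
  intro k
  induction k with
  | zero =>
    intro m hm
    apply isKFlat_of_isZero_X
    intro n
    by_cases hn : m ≤ n
    · exact isZero_sigmaGE_X' K m n (K.isZero_of_isStrictlyLE b n (by omega))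
    · exact isZero_sigmaGE_X K hn
  | succ k ih =>
    intro m hm
    by_cases hm' : b + 1 - m ≤ k
    · exact ih m hm'
    · have h1 : ModSite.IsKFlat (sigmaGE K (m + 1)) := ih (m + 1) (by omega)
      have hS := sc_shortExact K m (m + 1) rfl
      refine (isKFlat_shortExact (sc K m (m + 1) rfl) hS ?_).2.1 h1 ?_
      · intro n
        by_cases hn : n = m
        · subst hn
          exact isFlat_of_iso O
            (HomologicalComplex.singleObjXSelf (ComplexShape.up ℤ) n (K.X n)).symm (hflat n)
        · exact isFlat_of_isZero _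
            (HomologicalComplex.isZero_single_obj_X (ComplexShape.up ℤ) _ _ _ hn)
      · exact isKFlat_single (K.X m) (hflat m) m

/-- a bounded above complex of flat modules is K-flat -/
theorem isKFlat_of_isStrictlyLE (K : CochainComplex (Mod O) ℤ) (b : ℤ) [K.IsStrictlyLE b]
    (hflat : ∀ n : ℤ, ModSite.IsFlat (K.X n)) : ModSite.IsKFlat K :=
  isKFlat_of_isColimit (tower K b) (fun k => isKFlat_sigmaGE K b hflat (b - k))
    (c := towerCocone K b) (isColimitTowerCocone K b)

end Groth.Agent.Lib.KFlatSite
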