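import Mathlib

/-!
# Algebraic core for "stalkwise flat ⟹ tensor exact"

`vanishesTrivially_of_semilinear`: transport of a vanishing tensor along semilinear maps to a situation
where the second module is flat and the first map is injective; the output is a trivial vanishing
(equational criterion) downstairs.
-/

namespace Groth.Agent.Lib.StalkFlatAlg

open TensorProduct

section

variable {R Rx : Type*} [CommRing R] [CommRing Rx] (φ : R →+* Rx)
variable {M P : Type*} [AddCommGroup M] [AddCommGroup P] [Module R M] [Module R P]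
variable {Mx Px : Type*} [AddCommGroup Mx] [AddCommGroup Px] [Module Rx Mx] [Module Rx Px]

/-- the additive map `M ⊗[R] P → Mx ⊗[Rx] Px` induced by `φ`-semilinear maps -/
noncomputable def semiMap (gM : M →+ Mx) (gP : P →+ Px)
    (hM : ∀ (r : R) (m : M), gM (r • m) = φ r • gM m)
    (hP : ∀ (r : R) (p : P), gP (r • p) = φ r • gP p) : M ⊗[R] P →+ Mx ⊗[Rx] Px :=
  TensorProduct.liftAddHom
    { toFun := fun m =>
        { toFun := fun p => gM m ⊗ₜ[Rx] gP p
          map_zero' := by simp
          map_add' := fun p q => by simp [TensorProduct.tmul_add] }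
      map_zero' := by ext p; simp
      map_add' := fun m m' => by ext p; simp [TensorProduct.add_tmul] }
    (fun r m p => by
      change gM (r • m) ⊗ₜ[Rx] gP p = gM m ⊗ₜ[Rx] gP (r • p)
      rw [hM, hP, TensorProduct.smul_tmul])

@[simp]
lemma semiMap_tmul (gM : M →+ Mx) (gP : P →+ Px)
    (hM : ∀ (r : R) (m : M), gM (r • m) = φ r • gM m)
    (hP : ∀ (r : R) (p : P), gP (r • p) = φ r • gP p) (m : M) (p : P) :
    semiMap φ gM gP hM hP (m ⊗ₜ p) = gM m ⊗ₜ gP p := rfl

end

section

variable {R Rx : Type*} [CommRing R] [CommRing Rx] (φ : R →+* Rx)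
variable {N' N F : Type*} [AddCommGroup N'] [AddCommGroup N] [AddCommGroup F]
  [Module R N'] [Module R N] [Module R F]
variable {N'x Nx Fx : Type*} [AddCommGroup N'x] [AddCommGroup Nx] [AddCommGroup Fx]
  [Module Rx N'x] [Module Rx Nx] [Module Rx Fx]

/-- core lemma: a tensor `∑ n'ᵢ ⊗ fᵢ` dying in `N ⊗ F` vanishes trivially after passing to
`N'x ⊗ Fx`, if `Fx` is flat and `N'x → Nx` is injective. -/
theorem vanishesTrivially_of_semilinear [Module.Flat Rx Fx]
    (gN' : N' →+ N'x) (gN : N →+ Nx) (gF : F →+ Fx)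
    (hN' : ∀ (r : R) (m : N'), gN' (r • m) = φ r • gN' m)
    (hN : ∀ (r : R) (m : N), gN (r • m) = φ r • gN m)
    (hF : ∀ (r : R) (m : F), gF (r • m) = φ r • gF m)
    (α : N' →ₗ[R] N) (αx : N'x →ₗ[Rx] Nx) (hαx : Function.Injective αx)
    (hcomm : ∀ n, gN (α n) = αx (gN' n))
    {ι : Type*} [Fintype ι] (n' : ι → N') (f : ι → F)
    (h0 : ∑ i, α (n' i) ⊗ₜ[R] f i = 0) :
    TensorProduct.VanishesTrivially Rx (fun i => gN' (n' i)) (fun i => gF (f i)) := by
  have h1 : ∑ i, gN (α (n' i)) ⊗ₜ[Rx] gF (f i) = 0 := by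
    have := congrArg (semiMap φ gN gF hN hF) h0
    simpa [map_sum] using this
  have h2 : (LinearMap.rTensor Fx αx) (∑ i, gN' (n' i) ⊗ₜ[Rx] gF (f i)) = 0 := by
    rw [map_sum]
    simpa [hcomm] using h1
  have h3 : ∑ i, gN' (n' i) ⊗ₜ[Rx] gF (f i) = 0 := by
    have hinj : Function.Injective (LinearMap.rTensor Fx αx) :=
      Module.Flat.rTensor_preserves_injective_linearMap αx hαx
    exact hinj (h2.trans (map_zero _).symm)
  refine TensorProduct.vanishesTrivially_of_sum_tmul_eq_zero_of_rTensor_injective Rx ?_ h3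
  exact Module.Flat.rTensor_preserves_injective_linearMap _ (Submodule.injective_subtype _)

end

end Groth.Agent.Lib.StalkFlatAlg
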