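import Mathlib
import Groth.Agent.Lib.StalkFlatAlg_helper2

/-!
# Germs of sections of presheaves of modules on a topological space; spreading out a trivial vanishing
-/

namespace Groth.Agent.Lib.StalkFlatTop

open CategoryTheory TopologicalSpace Opposite TopCat

universe u

variable {X : TopCat.{u}}

/-- finitely many "local" properties hold on a common neighbourhood -/
theorem common_nhd {κ : Type*} [Finite κ] (x : X) (P : κ → Opens X → Prop)
    (hmono : ∀ k (V W : Opens X), W ≤ V → P k V → P k W)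
    (hex : ∀ k, ∃ V : Opens X, x ∈ V ∧ P k V) : ∃ V : Opens X, x ∈ V ∧ ∀ k, P k V := by
  classical
  cases nonempty_fintype κ
  choose V hxV hPV using hex
  refine ⟨Finset.univ.inf V, ?_,
    fun k => hmono k _ _ (Finset.inf_le (Finset.mem_univ k)) (hPV k)⟩
  exact Finset.inf_induction (p := fun W : Opens X => x ∈ W) (Opens.mem_top x)
    (fun a ha b hb => ⟨ha, hb⟩) (fun k _ => hxV k)

abbrev PMod (R : X.Presheaf CommRingCat.{u}) :=
  PresheafOfModules.{u} (R ⋙ forget₂ CommRingCat.{u} RingCat.{u})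

variable {R : X.Presheaf CommRingCat.{u}}

/-- germ of a section of the presheaf of rings -/
noncomputable def gR (x : X) (U : Opens X) (hx : x ∈ U) : R.obj (op U) →+* R.stalk x :=
  (R.germ U x hx).hom

/-- restriction of sections of the presheaf of rings -/
noncomputable def resR {V W : Opens X} (h : W ≤ V) : R.obj (op V) →+* R.obj (op W) :=
  (R.map (homOfLE h).op).hom

lemma gR_resR (x : X) {V W : Opens X} (h : W ≤ V) (hx : x ∈ W) (r : R.obj (op V)) :
    gR x W hx (resR h r) = gR x V (h hx) r :=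
  TopCat.Presheaf.germ_res_apply R (homOfLE h) x hx r

lemma exists_gR_eq (x : X) (t : R.stalk x) :
    ∃ (U : Opens X) (hx : x ∈ U) (r : R.obj (op U)), gR x U hx r = t :=
  TopCat.Presheaf.exists_germ_eq R t

/-- the stalk of a presheaf of modules, as a type -/
abbrev St (M : PMod R) (x : X) : Type u := ↑(TopCat.Presheaf.stalk (C := Ab.{u}) M.presheaf x)

variable (M : PMod R)

/-- germ of a section of a presheaf of modules -/
noncomputable def gM (x : X) (U : Opens X) (hx : x ∈ U) :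
    M.obj (op U) →+ (St M x) where
  toFun m := TopCat.Presheaf.germ M.presheaf U x hx m
  map_zero' := (TopCat.Presheaf.germ M.presheaf U x hx).hom.map_zero
  map_add' := (TopCat.Presheaf.germ M.presheaf U x hx).hom.map_add

/-- restriction of sections of a presheaf of modules -/
noncomputable def res {V W : Opens X} (h : W ≤ V) : M.obj (op V) →+ M.obj (op W) where
  toFun m := M.map (homOfLE h).op m
  map_zero' := (M.map (homOfLE h).op).hom.map_zero
  map_add' := (M.map (homOfLE h).op).hom.map_add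

lemma res_apply {V W : Opens X} (h : W ≤ V) (m : M.obj (op V)) :
    res M h m = M.map (homOfLE h).op m := rfl

lemma gM_res (x : X) {V W : Opens X} (h : W ≤ V) (hx : x ∈ W) (m : M.obj (op V)) :
    gM M x W hx (res M h m) = gM M x V (h hx) m :=
  TopCat.Presheaf.germ_res_apply M.presheaf (homOfLE h) x hx m

lemma res_smul {V W : Opens X} (h : W ≤ V) (r : R.obj (op V)) (m : M.obj (op V)) :
    res M h (r • m) = resR h r • res M h m :=
  M.map_smul _ _ _

lemma gM_smul (x : X) (U : Opens X) (hx : x ∈ U) (r : R.obj (op U)) (m : M.obj (op U)) :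
    gM M x U hx (r • m) = gR x U hx r • gM M x U hx m :=
  PresheafOfModules.germ_smul M x U hx r m

lemma res_res {V W W' : Opens X} (h : W ≤ V) (h' : W' ≤ W) (m : M.obj (op V)) :
    res M h' (res M h m) = res M (h'.trans h) m := by
  change (M.presheaf.map (homOfLE h).op ≫ M.presheaf.map (homOfLE h').op) m = _
  rw [← M.presheaf.map_comp]
  rfl

lemma resR_resR {V W W' : Opens X} (h : W ≤ V) (h' : W' ≤ W) (r : R.obj (op V)) :
    resR h' (resR h r) = resR (h'.trans h) r := by
  change (R.map (homOfLE h).op ≫ R.map (homOfLE h').op) r = _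
  rw [← R.map_comp]
  rfl

lemma exists_gM_eq (x : X) (t : St M x) :
    ∃ (U : Opens X) (hx : x ∈ U) (m : M.obj (op U)), gM M x U hx m = t :=
  TopCat.Presheaf.exists_germ_eq M.presheaf t

lemma exists_res_eq_zero (x : X) (V : Opens X) (hx : x ∈ V) (m : M.obj (op V))
    (h : gM M x V hx m = 0) : ∃ (W : Opens X) (hW : W ≤ V), x ∈ W ∧ res M hW m = 0 := by
  have h' : TopCat.Presheaf.germ M.presheaf V x hx m =
      TopCat.Presheaf.germ M.presheaf V x hx (0 : M.obj (op V)) :=
    h.trans (gM M x V hx).map_zero.symm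
  obtain ⟨W, hxW, iU, iV, e⟩ := TopCat.Presheaf.germ_eq M.presheaf x hx hx _ _ h'
  refine ⟨W, iU.le, hxW, ?_⟩
  have e0 : M.presheaf.map iV.op (0 : M.obj (op V)) = 0 := (M.presheaf.map iV.op).hom.map_zero
  exact e.trans e0

theorem exists_lift_family {κ : Type*} [Finite κ] (x : X) (t : κ → St M x) :
    ∃ (V : Opens X) (hx : x ∈ V) (s : κ → M.obj (op V)), ∀ k, gM M x V hx (s k) = t k := by
  obtain ⟨V, hxV, hP⟩ := common_nhd x
    (fun k V => ∀ hx : x ∈ V, ∃ s : M.obj (op V), gM M x V hx s = t k)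
    (fun k V W h hV hxW => by
      obtain ⟨s, hs⟩ := hV (h hxW)
      exact ⟨res M h s, (gM_res M x h hxW s).trans hs⟩)
    (fun k => by
      obtain ⟨U, hx, m, hm⟩ := exists_gM_eq M x (t k)
      exact ⟨U, hx, fun _ => ⟨m, hm⟩⟩)
  choose s hs using fun k => hP k hxV
  exact ⟨V, hxV, s, hs⟩

theorem exists_lift_family_ring {κ : Type*} [Finite κ] (x : X) (t : κ → R.stalk x) :
    ∃ (V : Opens X) (hx : x ∈ V) (s : κ → R.obj (op V)), ∀ k, gR x V hx (s k) = t k := by
  obtain ⟨V, hxV, hP⟩ := common_nhd x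
    (fun k V => ∀ hx : x ∈ V, ∃ s : R.obj (op V), gR x V hx s = t k)
    (fun k V W h hV hxW => by
      obtain ⟨s, hs⟩ := hV (h hxW)
      exact ⟨resR h s, (gR_resR x h hxW s).trans hs⟩)
    (fun k => by
      obtain ⟨U, hx, m, hm⟩ := exists_gR_eq x (t k)
      exact ⟨U, hx, fun _ => ⟨m, hm⟩⟩)
  choose s hs using fun k => hP k hxV
  exact ⟨V, hxV, s, hs⟩

theorem exists_nhd_zero_family {κ : Type*} [Finite κ] (x : X) (V₀ : Opens X) (hx₀ : x ∈ V₀)
    (s : κ → M.obj (op V₀)) (hs : ∀ k, gM M x V₀ hx₀ (s k) = 0) :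
    ∃ (V : Opens X) (hV : V ≤ V₀), x ∈ V ∧ ∀ k, res M hV (s k) = 0 := by
  obtain ⟨W, hxW, hP⟩ := common_nhd x
    (fun k W => res M (inf_le_right : W ⊓ V₀ ≤ V₀) (s k) = 0)
    (fun k V W h hV => by
      have h' : W ⊓ V₀ ≤ V ⊓ V₀ := inf_le_inf_right _ h
      have := congrArg (res M h') hV
      rw [res_res, map_zero] at this
      exact this)
    (fun k => by
      obtain ⟨W, hW, hxW, e⟩ := exists_res_eq_zero M x V₀ hx₀ (s k) (hs k)
      refine ⟨W, hxW, ?_⟩
      have h' : W ⊓ V₀ ≤ W := inf_le_left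
      have := congrArg (res M h') e
      rw [res_res, map_zero] at this
      exact this)
  exact ⟨W ⊓ V₀, inf_le_right, ⟨hxW, hx₀⟩, hP⟩

open TensorProduct in
/-- spreading out a trivial vanishing from the stalk to a neighbourhood -/
theorem exists_nhd_vanishesTrivially (N' F : PMod R) (x : X) (U : Opens X) (hx : x ∈ U)
    {ι : Type*} [Fintype ι] (n' : ι → N'.obj (op U)) (f : ι → F.obj (op U))
    (h : TensorProduct.VanishesTrivially (R.stalk x) (fun i => gM N' x U hx (n' i))
      (fun i => gM F x U hx (f i))) :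
    ∃ (V : Opens X) (hV : V ≤ U), x ∈ V ∧
      TensorProduct.VanishesTrivially (R.obj (op V)) (fun i => res N' hV (n' i))
        (fun i => res F hV (f i)) := by
  obtain ⟨k, a, y, h1, h2⟩ := h
  replace h1 : ∀ i, gM F x U hx (f i) = ∑ j, a i j • y j := h1
  replace h2 : ∀ j, ∑ i, a i j • gM N' x U hx (n' i) = 0 := h2
  obtain ⟨Va, hxa, a', ha'⟩ := exists_lift_family_ring (R := R) x (fun p : ι × Fin k => a p.1 p.2)
  obtain ⟨Vy, hxy, y', hy'⟩ := exists_lift_family F x y
  have h0U : U ⊓ Va ⊓ Vy ≤ U := inf_le_left.trans inf_le_left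
  have h0a : U ⊓ Va ⊓ Vy ≤ Va := inf_le_left.trans inf_le_right
  have h0y : U ⊓ Va ⊓ Vy ≤ Vy := inf_le_right
  have hx₀ : x ∈ U ⊓ Va ⊓ Vy := ⟨⟨hx, hxa⟩, hxy⟩
  -- the two families of sections with zero germs
  obtain ⟨V1, hV1, hxV1, e1⟩ := exists_nhd_zero_family F x (U ⊓ Va ⊓ Vy) hx₀
    (fun i => res F h0U (f i) - ∑ j, resR h0a (a' (i, j)) • res F h0y (y' j)) (fun i => by
      rw [map_sub, map_sum, gM_res, h1 i, sub_eq_zero]
      refine Finset.sum_congr rfl (fun j _ => ?_)
      rw [gM_smul, gR_resR, gM_res, ha' (i, j), hy' j])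
  obtain ⟨V2, hV2, hxV2, e2⟩ := exists_nhd_zero_family N' x (U ⊓ Va ⊓ Vy) hx₀
    (fun j => ∑ i, resR h0a (a' (i, j)) • res N' h0U (n' i)) (fun j => by
      rw [map_sum, ← h2 j]
      refine Finset.sum_congr rfl (fun i _ => ?_)
      rw [gM_smul, gR_resR, gM_res, ha' (i, j)])
  have hV : V1 ⊓ V2 ≤ U ⊓ Va ⊓ Vy := inf_le_left.trans hV1
  refine ⟨V1 ⊓ V2, hV.trans h0U, ⟨hxV1, hxV2⟩, k,
    fun i j => resR (hV.trans h0a) (a' (i, j)), fun j => res F (hV.trans h0y) (y' j), ?_, ?_⟩
  · intro i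
    have := congrArg (res F (inf_le_left : V1 ⊓ V2 ≤ V1)) (e1 i)
    rw [res_res, map_zero, map_sub, sub_eq_zero, res_res, map_sum] at this
    refine this.trans (Finset.sum_congr rfl (fun j _ => ?_))
    rw [res_smul, resR_resR, res_res]
  · intro j
    have := congrArg (res N' (inf_le_right : V1 ⊓ V2 ≤ V2)) (e2 j)
    rw [res_res, map_zero, map_sum] at this
    refine (Finset.sum_congr rfl (fun i _ => ?_)).trans this
    rw [res_smul, resR_resR, res_res]

end Groth.Agent.Lib.StalkFlatTop
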