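import Mathlib
import Groth.Prelude.Def_ModSite
import Groth.Agent.Lib.StalkFlatTop_helper2
import Groth.Agent.Lib.ModSite9_helper8

/-!
# Stalkwise flat ⟹ tensor exact, on a ringed space
-/

namespace Groth.Agent.Lib.StalkFlatA

open CategoryTheory Limits TopologicalSpace Opposite TopCat MonoidalCategory
open Groth.Agent.Lib.StalkFlatTop Groth.Agent.Lib.ModSiteH8

universe u

section General

/-- a right exact additive functor between abelian categories preserving monomorphisms is exact -/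
theorem preservesFiniteLimits_of_preservesMono {𝒜 ℬ : Type*} [Category 𝒜] [Category ℬ]
    [Abelian 𝒜] [Abelian ℬ] (T : 𝒜 ⥤ ℬ) [T.Additive] [PreservesFiniteColimits T]
    (h : ∀ {X Y : 𝒜} (f : X ⟶ Y), Mono f → Mono (T.map f)) : PreservesFiniteLimits T := by
  rw [Functor.preservesFiniteLimits_iff_forall_exact_map_and_mono]
  intro S hS
  have h3 : PreservesFiniteColimits T := inferInstance
  have h4 : ∀ (S : ShortComplex 𝒜), S.ShortExact → (S.map T).Exact ∧ Epi (T.map S.g) :=
    ((Functor.preservesFiniteColimits_tfae T).out 3 0).1 h3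
  exact ⟨(h4 S hS).1, h S.f hS.mono_f⟩

end General

section Top

variable {X : TopCat.{u}} {R : X.Presheaf CommRingCat.{u}}

/-- the additive map on stalks induced by a morphism of presheaves of modules -/
noncomputable def stalkMapAdd {N' N : PMod R} (α : N' ⟶ N) (x : X) : St N' x →+ St N x :=
  ((TopCat.Presheaf.stalkFunctor Ab.{u} x).map ((PresheafOfModules.toPresheaf _).map α)).hom

lemma stalkMapAdd_gM {N' N : PMod R} (α : N' ⟶ N) (x : X) (U : Opens X) (hx : x ∈ U)
    (m : N'.obj (op U)) :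
    stalkMapAdd α x (gM N' x U hx m) = gM N x U hx (α.app (op U) m) :=
  TopCat.Presheaf.stalkFunctor_map_germ_apply U x hx ((PresheafOfModules.toPresheaf _).map α) m

lemma app_res {N' N : PMod R} (α : N' ⟶ N) {V W : Opens X} (h : W ≤ V) (m : N'.obj (op V)) :
    α.app (op W) (res N' h m) = res N h (α.app (op V) m) :=
  PresheafOfModules.naturality_apply α (homOfLE h).op m

lemma stalkMapAdd_smul {N' N : PMod R} (α : N' ⟶ N) (x : X) (r : R.stalk x) (m : St N' x) :
    stalkMapAdd α x (r • m) = r • stalkMapAdd α x m := by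
  obtain ⟨U₁, h₁, r₀, rfl⟩ := exists_gR_eq x r
  obtain ⟨U₂, h₂, m₀, rfl⟩ := exists_gM_eq N' x m
  have hW₁ : U₁ ⊓ U₂ ≤ U₁ := inf_le_left
  have hW₂ : U₁ ⊓ U₂ ≤ U₂ := inf_le_right
  have hxW : x ∈ U₁ ⊓ U₂ := ⟨h₁, h₂⟩
  rw [← gR_resR x hW₁ hxW r₀, ← gM_res N' x hW₂ hxW m₀, ← gM_smul, stalkMapAdd_gM,
    stalkMapAdd_gM, ← gM_smul]
  congr 1
  exact (α.app (op (U₁ ⊓ U₂))).hom.map_smul _ _

/-- the linear map on stalks induced by a morphism of presheaves of modules -/
noncomputable def stalkMapLin {N' N : PMod R} (α : N' ⟶ N) (x : X) :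
    St N' x →ₗ[R.stalk x] St N x where
  toFun := stalkMapAdd α x
  map_add' := (stalkMapAdd α x).map_add
  map_smul' := stalkMapAdd_smul α x

lemma stalkMapLin_injective {N' N : PMod R} (α : N' ⟶ N)
    (hα : ∀ U : Opens X, Function.Injective (α.app (op U))) (x : X) :
    Function.Injective (stalkMapLin α x) :=
  TopCat.Presheaf.stalkFunctor_map_injective_of_app_injective
    (f := (PresheafOfModules.toPresheaf _).map α) (fun U => hα U) x

section Sums

variable {C : Type u} [SmallCategory C] {R' : Cᵒᵖ ⥤ CommRingCat.{u}}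

open TensorProduct in
lemma whiskerRight_app_sum {P P' : PM R'} (α : P ⟶ P') (Q : PM R') (X : Cᵒᵖ) {ι : Type*}
    (s : Finset ι) (p : ι → P.obj X) (q : ι → Q.obj X) :
    (α ▷ Q).app X (∑ i ∈ s, p i ⊗ₜ[R'.obj X] q i) = ∑ i ∈ s, α.app X (p i) ⊗ₜ[R'.obj X] q i := by
  classical
  induction s using Finset.induction_on with
  | empty =>
    rw [Finset.sum_empty, Finset.sum_empty]
    exact map_zero ((α ▷ Q).app X).hom
  | insert a s ha ih =>
    rw [Finset.sum_insert ha, Finset.sum_insert ha]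
    refine (map_add ((α ▷ Q).app X).hom _ _).trans ?_
    exact congrArg₂ (· + ·) rfl ih

open TensorProduct in
lemma tensor_map_sum (P Q : PM R') {X Y : Cᵒᵖ} (f : X ⟶ Y) {ι : Type*}
    (s : Finset ι) (p : ι → P.obj X) (q : ι → Q.obj X) :
    (P ⊗ Q).map f (∑ i ∈ s, p i ⊗ₜ[R'.obj X] q i) =
      ∑ i ∈ s, P.map f (p i) ⊗ₜ[R'.obj Y] Q.map f (q i) := by
  classical
  induction s using Finset.induction_on with
  | empty =>
    rw [Finset.sum_empty, Finset.sum_empty]
    exact map_zero ((P ⊗ Q).map f).hom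
  | insert a s ha ih =>
    rw [Finset.sum_insert ha, Finset.sum_insert ha]
    refine (map_add ((P ⊗ Q).map f).hom _ _).trans ?_
    exact congrArg₂ (· + ·) rfl ih

end Sums

open TensorProduct in
/-- the key local injectivity statement -/
theorem ELI_whiskerRight_of_stalkwise_flat {N' N : PMod R} (Q : PMod R) (α : N' ⟶ N)
    (hα : ∀ U : Opens X, Function.Injective (α.app (op U)))
    (hQ : ∀ x : X, Module.Flat (R.stalk x) (St Q x)) :
    ELI (Opens.grothendieckTopology X) (α ▷ Q) := by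
  intro V t ht
  refine ⟨zeroSieve (N' ⊗ Q) t, ?_, fun {W} f hf => hf⟩
  intro x hx
  obtain ⟨S, hS⟩ := TensorProduct.exists_finset (R := R.obj V) (M := N'.obj V) (N := Q.obj V) t
  haveI := hQ x
  have ht2 : (α ▷ Q).app V (∑ i ∈ S, i.1 ⊗ₜ[R.obj V] i.2) = 0 := hS ▸ ht
  have h0' : ∑ i ∈ S, (α.app V) i.1 ⊗ₜ[R.obj V] i.2 = 0 :=
    (whiskerRight_app_sum α Q V S (fun i => i.1) (fun i => i.2)).symm.trans ht2
  have h0 : ∑ i : S, (α.app V).hom i.1.1 ⊗ₜ[R.obj V] i.1.2 = 0 :=
    (Finset.sum_coe_sort S (fun i => (α.app V).hom i.1 ⊗ₜ[R.obj V] i.2)).trans h0'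
  have hvt := Groth.Agent.Lib.StalkFlatAlg.vanishesTrivially_of_semilinear
    (gR (R := R) x V.unop hx) (gM N' x V.unop hx) (gM N x V.unop hx) (gM Q x V.unop hx)
    (fun r m => gM_smul N' x V.unop hx r m) (fun r m => gM_smul N x V.unop hx r m)
    (fun r m => gM_smul Q x V.unop hx r m)
    (α.app V).hom (stalkMapLin α x) (stalkMapLin_injective α hα x)
    (fun n => (stalkMapAdd_gM α x V.unop hx n).symm)
    (fun i : S => i.1.1) (fun i : S => i.1.2) h0
  obtain ⟨W, hW, hxW, hvW⟩ := exists_nhd_vanishesTrivially N' Q x V.unop hx _ _ hvt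
  refine ⟨W, homOfLE hW, ?_, hxW⟩
  change (N' ⊗ Q).map (homOfLE hW).op t = 0
  have h1 : (N' ⊗ Q).map (homOfLE hW).op (∑ i ∈ S, i.1 ⊗ₜ[R.obj V] i.2) = 0 := by
    refine (tensor_map_sum N' Q (homOfLE hW).op S (fun i => i.1) (fun i => i.2)).trans ?_
    have h2 := TensorProduct.sum_tmul_eq_zero_of_vanishesTrivially _ hvW
    exact (Finset.sum_coe_sort S (fun i => res N' hW i.1 ⊗ₜ[R.obj (op W)] res Q hW i.2)).symm.trans h2
  exact hS ▸ h1

end Top

section Sheaf

open ModSite

variable {X : TopCat.{u}} (O : Sheaf (Opens.grothendieckTopology X) CommRingCat.{u})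

theorem mono_sheafify_map_of_ELI {C : Type u} [SmallCategory C] {J : GrothendieckTopology C}
    (O : Sheaf J CommRingCat.{u}) {P P' : PM O.obj} (β : P ⟶ P')
    (hLI : ELI J β) : Mono ((ModSite.sheafify O).map β) := by
  haveI := isLocallyInjective_of_ELI β hLI
  have h1 : Sheaf.IsLocallyInjective
      ((presheafToSheaf J AddCommGrpCat.{u}).map ((PresheafOfModules.toPresheaf _).map β)) :=
    (Presheaf.isLocallyInjective_presheafToSheaf_map_iff J _).2 inferInstance
  have h2 : Mono ((presheafToSheaf J AddCommGrpCat.{u}).map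
      ((PresheafOfModules.toPresheaf _).map β)) := Sheaf.mono_of_isLocallyInjective _
  have h3 : Mono ((SheafOfModules.toSheaf _).map ((ModSite.sheafify O).map β)) := h2
  exact Functor.mono_of_mono_map (SheafOfModules.toSheaf _) h3

lemma app_injective_of_mono {C : Type u} [SmallCategory C] {J : GrothendieckTopology C}
    (O : Sheaf J CommRingCat.{u}) {N' N : Mod O} (f : N' ⟶ N) [Mono f] (U : Cᵒᵖ) :
    Function.Injective (((iF O).map f).app U) := by
  haveI : Mono ((iF O).map f) := inferInstance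
  haveI : Mono ((PresheafOfModules.evaluation _ U).map ((iF O).map f)) := inferInstance
  exact (ModuleCat.mono_iff_injective _).1 this

/-- **Stalkwise flat implies tensor-exact** on a ringed space. -/
theorem isFlat_of_stalkwise_flat (F : Mod O)
    (hF : ∀ x : X, Module.Flat (TopCat.Presheaf.stalk (C := CommRingCat.{u}) O.obj x) (St ((iF O).obj F) x)) : ModSite.IsFlat F := by
  rw [isFlat_iff]
  haveI : PreservesFiniteColimits (iF O ⋙ tensorRight ((iF O).obj F) ⋙ Lf O) :=
    preservesFiniteColimits_of_natIso (flipIso O F)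
  haveI : (iF O ⋙ tensorRight ((iF O).obj F) ⋙ Lf O).Additive :=
    Functor.additive_of_iso (flipIso O F)
  haveI : PreservesFiniteLimits (iF O ⋙ tensorRight ((iF O).obj F) ⋙ Lf O) := by
    apply preservesFiniteLimits_of_preservesMono
    intro N' N f hf
    haveI := hf
    exact mono_sheafify_map_of_ELI O _
      (ELI_whiskerRight_of_stalkwise_flat ((iF O).obj F) ((iF O).map f)
        (fun U => app_injective_of_mono O f (op U)) hF)
  exact preservesFiniteLimits_of_natIso (flipIso O F).symm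

end Sheaf

end Groth.Agent.Lib.StalkFlatA
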