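import Mathlib
import Groth.Prelude.Def_FlatMod2
import Groth.Prelude.Def_ModSite
import Groth.Agent.Lib.StalkFlatA_helper2

/-!
# Stalkwise flat O_X-modules on a scheme are tensor-exact
-/

namespace Groth.Agent.Lib.StalkFlatSch

open CategoryTheory Limits TopologicalSpace Opposite AlgebraicGeometry

universe u

/-- **Stalkwise flat implies tensor-exact** on a scheme. -/
theorem isFlat_of_flatMod {X : Scheme.{u}} (M : X.Modules) (hM : FlatMod.IsFlat M) :
    ModSite.IsFlat (O := X.sheaf) M := by
  apply Groth.Agent.Lib.StalkFlatA.isFlat_of_stalkwise_flat (X := X.toTopCat) X.sheaf M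
  intro x
  exact hM x

end Groth.Agent.Lib.StalkFlatSch
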