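import Groth.Prelude.Def_DTor2
import Groth.Agent.Lib.KFlatSite8_helper2
import Groth.Agent.Lib.KFlatSite4_helper2
import Groth.Agent.Lib.StalkFlatSch_helper2

/-!
# The derived tensor product `- ⊗^L M` on a scheme is computed by K-flat complexes (helper2)
-/

set_option autoImplicit false
universe u
open CategoryTheory Limits AlgebraicGeometry
attribute [local instance] HasDerivedCategory.standard

namespace Groth.Agent.Lib.DTorCmp

variable {X : Scheme.{u}}

/-- `- ⊗ M` in the two phrasings -/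
noncomputable def eT (M : X.Modules) :
    DCoh.tensorRightMod M ≅ (ModSite.tensorBi X.sheaf).flip.obj M :=
  NatIso.ofComponents (fun _ => Iso.refl _) (by
    intro A B f
    refine (Category.comp_id _).trans ?_
    refine Eq.trans ?_ (Category.id_comp _).symm
    rfl)

/-- termwise tensor product with `M` -/
noncomputable abbrev tw (M : X.Modules) :
    CochainComplex X.Modules ℤ ⥤ CochainComplex X.Modules ℤ :=
  (DCoh.tensorRightMod M).mapHomologicalComplex (ComplexShape.up ℤ)

theorem isIso_counit (M : X.Modules) [DCoh.HasLTensorMod M] (E : CochainComplex X.Modules ℤ)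
    (hE : ModSite.IsKFlat (O := X.sheaf) E) :
    IsIso (((DCoh.tensorModKh M).totalLeftDerivedCounit DerivedCategory.Qh
      (HomotopyCategory.quasiIso X.Modules (ComplexShape.up ℤ))).app
        ((HomotopyCategory.quotient X.Modules (ComplexShape.up ℤ)).obj E)) :=
  @Groth.Agent.Lib.KFlatSite.isIso_counit_of_isKFlat _ _ _ X.sheaf _ M (DCoh.tensorRightMod M)
    (DCoh.additive_tensorRightMod M) (eT M) (DCoh.LTensorMod M)
    ((DCoh.tensorModKh M).totalLeftDerivedCounit DerivedCategory.Qh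
      (HomotopyCategory.quasiIso X.Modules (ComplexShape.up ℤ)))
    (inferInstanceAs ((DCoh.LTensorMod M).IsLeftDerivedFunctor
      ((DCoh.tensorModKh M).totalLeftDerivedCounit DerivedCategory.Qh
        (HomotopyCategory.quasiIso X.Modules (ComplexShape.up ℤ)))
      (HomotopyCategory.quasiIso X.Modules (ComplexShape.up ℤ)))) E hE

/-- for K-flat `E`: `Q(E) ⊗^L M ≅ Q(E ⊗ M)` (termwise tensor product) -/
noncomputable def ltensorIso (M : X.Modules) [DCoh.HasLTensorMod M]
    (E : CochainComplex X.Modules ℤ) (hE : ModSite.IsKFlat (O := X.sheaf) E) :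
    (DCoh.LTensorMod M).obj (DCoh.toD X E) ≅ DCoh.toD X ((tw M).obj E) :=
  (DCoh.LTensorMod M).mapIso ((DerivedCategory.quotientCompQhIso X.Modules).symm.app E) ≪≫
    (haveI := isIso_counit M E hE
     asIso (((DCoh.tensorModKh M).totalLeftDerivedCounit DerivedCategory.Qh
      (HomotopyCategory.quasiIso X.Modules (ComplexShape.up ℤ))).app
        ((HomotopyCategory.quotient X.Modules (ComplexShape.up ℤ)).obj E))) ≪≫
    DerivedCategory.Qh.mapIso
      (((DCoh.tensorRightMod M).mapHomotopyCategoryFactors (ComplexShape.up ℤ)).app E) ≪≫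
    (DerivedCategory.quotientCompQhIso X.Modules).app ((tw M).obj E)

/-- for K-flat `E`: `H^i(Q(E) ⊗^L M) ≅ H^i(E ⊗ M)` -/
noncomputable def hdIso (M : X.Modules) [DCoh.HasLTensorMod M]
    (E : CochainComplex X.Modules ℤ) (hE : ModSite.IsKFlat (O := X.sheaf) E) (i : ℤ) :
    DCoh.HD ((DCoh.LTensorMod M).obj (DCoh.toD X E)) i ≅ ((tw M).obj E).homology i :=
  (DerivedCategory.homologyFunctor X.Modules i).mapIso (ltensorIso M E hE) ≪≫
    (DerivedCategory.homologyFunctorFactors X.Modules i).app ((tw M).obj E)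

theorem torAmp_of_iso {a b : ℤ} {K K' : DCoh.D X} (e : K ≅ K')
    (h : DCoh.HasTorAmplitudeIn a b K) : DCoh.HasTorAmplitudeIn a b K' := by
  intro F _ i hi
  exact IsZero.of_iso (h F i hi)
    ((DerivedCategory.homologyFunctor X.Modules i).mapIso ((DCoh.LTensorMod F).mapIso e.symm))

lemma isZero_homology_of_isZero_X {𝒜 : Type*} [Category 𝒜] [Abelian 𝒜]
    (K : CochainComplex 𝒜 ℤ) (i : ℤ) (h : IsZero (K.X i)) : IsZero (K.homology i) := by
  rw [← HomologicalComplex.exactAt_iff_isZero_homology]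
  exact HomologicalComplex.ExactAt.of_isZero h

/-- a complex of flat modules placed in `[a, b]` has tor amplitude in `[a, b]` -/
theorem torAmp_of_flat_rep (E : CochainComplex X.Modules ℤ) (a b : ℤ)
    (hv : DCoh.VanishesOutside E a b) (hfl : ∀ i : ℤ, FlatMod.IsFlat (E.X i)) :
    DCoh.HasTorAmplitudeIn a b (DCoh.toD X E) := by
  haveI hb : E.IsStrictlyLE b := by
    rw [CochainComplex.isStrictlyLE_iff]
    exact fun i hi => hv i (Or.inr hi)
  have hK : ModSite.IsKFlat (O := X.sheaf) E :=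
    @Groth.Agent.Lib.KFlatSite.isKFlat_of_isStrictlyLE _ _ _ X.sheaf E b hb
      (fun n => Groth.Agent.Lib.StalkFlatSch.isFlat_of_flatMod (E.X n) (hfl n))
  intro F _ i hi
  refine IsZero.of_iso ?_ (hdIso F E hK i)
  apply isZero_homology_of_isZero_X
  exact Functor.map_isZero (DCoh.tensorRightMod F) (hv i hi)

theorem torAmp_of_flatAmp {a b : ℤ} {K : DCoh.D X} (h : DCoh.HasFlatAmplitudeIn a b K) :
    DCoh.HasTorAmplitudeIn a b K := by
  obtain ⟨E, hv, hfl, ⟨e⟩⟩ := h
  exact torAmp_of_iso e (torAmp_of_flat_rep E a b hv hfl)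

theorem torAmp_of_retract {a b : ℤ} {A B : DCoh.D X} (i : A ⟶ B) (r : B ⟶ A) (hir : i ≫ r = 𝟙 A)
    (hB : DCoh.HasTorAmplitudeIn a b B) : DCoh.HasTorAmplitudeIn a b A := by
  intro F _ n hn
  have hz := hB F n hn
  rw [IsZero.iff_id_eq_zero]
  let Φ := DCoh.LTensorMod F ⋙ DerivedCategory.homologyFunctor X.Modules n
  have h1 : 𝟙 (Φ.obj A) = Φ.map i ≫ Φ.map r := by
    rw [← Φ.map_comp, hir, Φ.map_id]
  change 𝟙 (Φ.obj A) = 0
  rw [h1, hz.eq_of_src (Φ.map r) 0, comp_zero]

end Groth.Agent.Lib.DTorCmp
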