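import Mathlib
import Groth.Prelude
import Groth.Agent.Lib.LpullEx_helper3
import Groth.Agent.Lib.DerivedCmp_helper2

/-!
# Composition of derived pullbacks (helper3)

`Lf^* ∘ Lg^* ≅ L(g ∘ f)^*`.
-/

set_option autoImplicit false
set_option linter.all false
set_option maxHeartbeats 1600000
set_option backward.isDefEq.respectTransparency false
set_option backward.isDefEq.respectTransparency.types false
set_option backward.defeqAttrib.useBackward true

universe u
open CategoryTheory CategoryTheory.Limits AlgebraicGeometry Opposite Pretriangulated ZeroObject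

attribute [local instance] HasDerivedCategory.standard

namespace Groth.Agent.Lib.LpullCompH3

open Groth.Agent.Lib.StalkTensH3 Groth.Agent.Lib.LpullExH3

noncomputable section

variable {X Y Z : Scheme.{u}}

/-- the counit of the derived pullback -/
abbrev eps (g : Y ⟶ Z) [DCoh.HasLpull g] : DerivedCategory.Qh ⋙ DCoh.Lpull g ⟶ DCoh.pullKh g :=
  (DCoh.pullKh g).totalLeftDerivedCounit DerivedCategory.Qh
    (HomotopyCategory.quasiIso Z.Modules (ComplexShape.up ℤ))

variable (f : X ⟶ Y) (g : Y ⟶ Z)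

/-- `K(g^*) ⋙ pullKh f ≅ pullKh (f ≫ g)` -/
def compIso :
    (Scheme.Modules.pullback g).mapHomotopyCategory (ComplexShape.up ℤ) ⋙ DCoh.pullKh f ≅
      DCoh.pullKh (f ≫ g) :=
  (Functor.associator _ _ _).symm ≪≫
    Functor.isoWhiskerRight
      (Functor.mapHomotopyCategoryCompIso (Scheme.Modules.pullbackComp f g) (ComplexShape.up ℤ))
      DerivedCategory.Qh

variable [DCoh.HasLpull f] [DCoh.HasLpull g]

/-- the candidate counit -/
def beta : DerivedCategory.Qh ⋙ (DCoh.Lpull g ⋙ DCoh.Lpull f) ⟶ DCoh.pullKh (f ≫ g) :=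
  (Functor.associator _ _ _).inv ≫ Functor.whiskerRight (eps g) (DCoh.Lpull f) ≫
    (Functor.associator _ _ _).hom ≫
      Functor.whiskerLeft ((Scheme.Modules.pullback g).mapHomotopyCategory (ComplexShape.up ℤ))
        (eps f) ≫ (compIso f g).hom

lemma beta_app (K : HomotopyCategory Z.Modules (ComplexShape.up ℤ)) :
    (beta f g).app K = (DCoh.Lpull f).map ((eps g).app K) ≫
      (eps f).app (((Scheme.Modules.pullback g).mapHomotopyCategory (ComplexShape.up ℤ)).obj K) ≫
        (compIso f g).hom.app K := by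
  dsimp only [beta]
  simp only [NatTrans.comp_app, Functor.associator_inv_app, Functor.associator_hom_app,
    Functor.whiskerRight_app, Functor.whiskerLeft_app, Category.id_comp]

lemma kflat_pullback_obj (K : HomotopyCategory Z.Modules (ComplexShape.up ℤ)) (hK : kflat Z K) :
    kflat Y (((Scheme.Modules.pullback g).mapHomotopyCategory (ComplexShape.up ℤ)).obj K) :=
  isKFlat_pullback g K.as hK

lemma isIso_beta_app (K : HomotopyCategory Z.Modules (ComplexShape.up ℤ)) (hK : kflat Z K) :
    IsIso ((beta f g).app K) := by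
  haveI h1 : IsIso ((eps g).app K) := isIso_counit_of_isKFlat g _ _ K hK
  haveI h2 : IsIso ((eps f).app
      (((Scheme.Modules.pullback g).mapHomotopyCategory (ComplexShape.up ℤ)).obj K)) :=
    isIso_counit_of_isKFlat f _ _ _ (kflat_pullback_obj g K hK)
  rw [beta_app]
  infer_instance

lemma resData : Groth.Agent.Lib.DerivedCmp.ResData
    (HomotopyCategory.quasiIso Z.Modules (ComplexShape.up ℤ)) (beta f g) (kflat Z) where
  iso K hK := isIso_beta_app f g K hK
  res K := by
    obtain ⟨P, s, hP, hs⟩ := kflat_res Z K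
    rw [← HomotopyCategory.quasiIso_eq_trW_subcategoryAcyclic] at hs
    exact ⟨P, s, hs, hP⟩

/-- `Lg^* ⋙ Lf^*` is a left derived functor of `pullKh (f ≫ g)` -/
theorem isLeftDerivedFunctor_comp :
    (DCoh.Lpull g ⋙ DCoh.Lpull f).IsLeftDerivedFunctor
      ((Iso.refl (DerivedCategory.Qh ⋙ (DCoh.Lpull g ⋙ DCoh.Lpull f))).hom ≫ beta f g)
      (HomotopyCategory.quasiIso Z.Modules (ComplexShape.up ℤ)) :=
  Groth.Agent.Lib.DerivedCmp.isLeftDerivedFunctor DerivedCategory.Qh
    (HomotopyCategory.quasiIso Z.Modules (ComplexShape.up ℤ)) (resData f g)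
    (DCoh.Lpull g ⋙ DCoh.Lpull f) (Iso.refl _)

/-- **composition of derived pullbacks** -/
theorem nonempty_comp_iso [DCoh.HasLpull (f ≫ g)] :
    Nonempty (DCoh.Lpull g ⋙ DCoh.Lpull f ≅ DCoh.Lpull (f ≫ g)) := by
  haveI := isLeftDerivedFunctor_comp f g
  exact ⟨Functor.leftDerivedUnique (DCoh.Lpull (f ≫ g)) (DCoh.Lpull g ⋙ DCoh.Lpull f)
    ((Iso.refl (DerivedCategory.Qh ⋙ (DCoh.Lpull g ⋙ DCoh.Lpull f))).hom ≫ beta f g)
    ((DCoh.pullKh (f ≫ g)).totalLeftDerivedCounit DerivedCategory.Qh
      (HomotopyCategory.quasiIso Z.Modules (ComplexShape.up ℤ)))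
    (HomotopyCategory.quasiIso Z.Modules (ComplexShape.up ℤ))⟩

end

end Groth.Agent.Lib.LpullCompH3
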