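import Mathlib
import Groth.Prelude
import Groth.Agent.Lib.LpullComp_helper3
import Groth.Agent.Lib.DerivedAdj_helper2
import Groth.Agent.Lib.KInjGen8_helper7
import Groth.Agent.Lib.MVPush3_lead

/-!
# The adjunction `Lf^* ⊣ Rf_*` and the composition of derived direct images (helper3)

* `exists_derived_adj`: generic derived adjunction (left adjoint derived through an adapted class with
  resolutions, right adjoint derived through right-orthogonal resolutions).
* `nonempty_adj f : Nonempty (DCoh.Lpull f ⊣ DCoh.Rpush f)`.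
* `nonempty_Rpush_comp_iso`: `Rg_* ∘ Rf_* ≅ R(g ∘ f)_*`.
-/

set_option autoImplicit false
set_option linter.all false
set_option maxHeartbeats 1600000
set_option backward.isDefEq.respectTransparency false
set_option backward.isDefEq.respectTransparency.types false
set_option backward.defeqAttrib.useBackward true

universe u
open CategoryTheory CategoryTheory.Limits AlgebraicGeometry Opposite Pretriangulated ZeroObject

attribute [local instance] HasDerivedCategory.standard

namespace Groth.Agent.Lib.LpullAdjH3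

open Groth.Agent.Lib.StalkTensH3 Groth.Agent.Lib.LpullExH3 Groth.Agent.Lib.LpullCompH3

section general

universe v₁ v₂ u₁ u₂

variable {C₁ : Type*} [Category C₁] {C₂ : Type u₂} [Category.{v₂} C₂] [HasZeroObject C₂]
  [HasShift C₂ ℤ] [Preadditive C₂]
  [∀ n : ℤ, (shiftFunctor C₂ n).Additive] [Pretriangulated C₂] [IsTriangulated C₂]
  (P : ObjectProperty C₂) [P.IsTriangulated]
  {D₁ D₂ : Type*} [Category D₁] [Category D₂]

/-- generic derived adjunction -/
theorem exists_derived_adj {Gl : C₁ ⥤ C₂} {Fr : C₂ ⥤ C₁} (adj : Gl ⊣ Fr)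
    {L₁ : C₁ ⥤ D₁} {L₂ : C₂ ⥤ D₂} (W₁ : MorphismProperty C₁) (W₂ : MorphismProperty C₂)
    [L₁.IsLocalization W₁] [L₂.IsLocalization W₂] [W₁.HasRightCalculusOfFractions]
    {G' : D₁ ⥤ D₂} {F' : D₂ ⥤ D₁} (α : L₁ ⋙ G' ⟶ Gl ⋙ L₂) (β : Fr ⋙ L₁ ⟶ L₂ ⋙ F')
    [G'.IsLeftDerivedFunctor α W₁] [F'.IsRightDerivedFunctor β W₂] (hW : W₂ = P.trW)
    (hP : ∀ X : C₂, ∃ (Y : C₂) (f : X ⟶ Y), P.trW f ∧ P.rightOrthogonal Y)
    (A : C₁ → Prop) (hA : ∀ X, A X → IsIso (α.app X))
    (hres : ∀ X, ∃ (X' : C₁) (s : X' ⟶ X), W₁ s ∧ A X') :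
    Nonempty (G' ⊣ F') := by
  subst hW
  haveI := OrthDeriv.isRightDerivabilityStructure hP
  haveI h2 : (G' ⋙ F').IsLeftDerivedFunctor
      ((Functor.associator _ _ _).inv ≫ Functor.whiskerRight α F') W₁ := by
    refine Groth.Agent.Lib.DerivedAdj.isLeftDerivedFunctor_of_isIso_on L₁ W₁ _ _ A
      (fun X hX => ?_) hres
    haveI := hA X hX
    rw [NatTrans.comp_app, Functor.whiskerRight_app, Functor.associator_inv_app,
      Category.id_comp]
    show IsIso (F'.map (α.app X))
    infer_instance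
  have hβ : ∀ Y : P.rightOrthogonal.FullSubcategory, IsIso (β.app Y.obj) :=
    fun Y => (Groth.Agent.Lib.KInjGen8.derives_any P _).isIso_of_isRightDerivedFunctor β Y
  haveI h3 : (F' ⋙ G').IsRightDerivedFunctor
      (Functor.whiskerRight β G' ≫ (Functor.associator _ _ _).hom) P.trW := by
    apply (Groth.Agent.Lib.KInjGen8.derives_any P _).isRightDerivedFunctor_of_isIso
    intro Y
    haveI := hβ Y
    rw [NatTrans.comp_app, Functor.whiskerRight_app, Functor.associator_hom_app,
      Category.comp_id]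
    show IsIso (G'.map (β.app Y.obj))
    infer_instance
  exact ⟨adj.derived W₁ P.trW α β⟩

end general

noncomputable section

variable {X Y Z : Scheme.{u}}

/-- **the adjunction `Lf^* ⊣ Rf_*`** -/
theorem nonempty_adj (f : X ⟶ Y) [DCoh.HasLpull f] [DCoh.HasRpush f] :
    Nonempty (DCoh.Lpull f ⊣ DCoh.Rpush f) := by
  haveI := Groth.Agent.Lib.MVPushL.grothendieck_modules X
  exact exists_derived_adj (HomotopyCategory.subcategoryAcyclic X.Modules)
    (Groth.Agent.Lib.DerivedAdj.adjK (Scheme.Modules.pullbackPushforwardAdjunction f)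
      (ComplexShape.up ℤ))
    (HomotopyCategory.quasiIso Y.Modules (ComplexShape.up ℤ))
    (HomotopyCategory.quasiIso X.Modules (ComplexShape.up ℤ))
    ((DCoh.pullKh f).totalLeftDerivedCounit DerivedCategory.Qh
      (HomotopyCategory.quasiIso Y.Modules (ComplexShape.up ℤ)))
    ((DCoh.pushKh f).totalRightDerivedUnit DerivedCategory.Qh
      (HomotopyCategory.quasiIso X.Modules (ComplexShape.up ℤ)))
    (HomotopyCategory.quasiIso_eq_trW_subcategoryAcyclic _)
    Groth.Agent.Lib.KInjGen8.hP (kflat Y)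
    (fun K hK => isIso_counit_of_isKFlat f _ _ K hK)
    (fun K => by
      obtain ⟨P, s, hP, hs⟩ := kflat_res Y K
      rw [← HomotopyCategory.quasiIso_eq_trW_subcategoryAcyclic] at hs
      exact ⟨P, s, hs, hP⟩)

/-- **composition of derived direct images** -/
theorem nonempty_Rpush_comp_iso (f : X ⟶ Y) (g : Y ⟶ Z)
    [DCoh.HasRpush f] [DCoh.HasRpush g] [DCoh.HasRpush (f ≫ g)] :
    Nonempty (DCoh.Rpush f ⋙ DCoh.Rpush g ≅ DCoh.Rpush (f ≫ g)) := by
  haveI := hasLpull f
  haveI := hasLpull g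
  haveI := hasLpull (f ≫ g)
  obtain ⟨a₁⟩ := nonempty_adj f
  obtain ⟨a₂⟩ := nonempty_adj g
  obtain ⟨a₃⟩ := nonempty_adj (f ≫ g)
  obtain ⟨e⟩ := nonempty_comp_iso f g
  exact ⟨((a₂.comp a₁).ofNatIsoLeft e).rightAdjointUniq a₃⟩

end

end Groth.Agent.Lib.LpullAdjH3
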