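import Mathlib
import Groth.Prelude
import Groth.Agent.Lib.LpullAdj_helper3
import Groth.Agent.Lib.PerfFlat2_lead
import Groth.Agent.Lib.PB9_helper8
import Groth.Agent.Lib.DTorCmp_helper2
import Groth.Agent.Lib.ExtendScalars_helper2

/-!
# The derived pullback: computation on K-flat complexes, localisation on the base, perfect complexes
and tor amplitude (helper3)

* `LpullQIso f K hK : Lf^*(Q K) ≅ Q (f^* K)` for `K` K-flat, natural (`LpullQIso_naturality`).
* `isKFlat_of_flat_bounded`, `isFlat_pullback`.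
* `restrictDIsoLpull j : restrictD j ≅ Lpull j` for an open immersion.
* `nonempty_restrict_Lpull_iso`: `(Lf^* -)|_{f⁻¹V} ≅ L(f|_V)^*(-|_V)`.
* `isPerfect_Lpull`, `flatAmp_Lpull`, `torAmp_Lpull`.
-/

set_option autoImplicit false
set_option linter.all false
set_option maxHeartbeats 1600000
set_option backward.isDefEq.respectTransparency false
set_option backward.isDefEq.respectTransparency.types false
set_option backward.defeqAttrib.useBackward true

universe u
open CategoryTheory CategoryTheory.Limits AlgebraicGeometry Opposite Pretriangulated ZeroObject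

attribute [local instance] HasDerivedCategory.standard

namespace Groth.Agent.Lib.LpullLocH3

open Groth.Agent.Lib.StalkTensH3 Groth.Agent.Lib.LpullExH3 Groth.Agent.Lib.LpullCompH3
  Groth.Agent.Lib.DCohLocLead Groth.Agent.Lib.StalkSkyL

noncomputable section

variable {X Y : Scheme.{u}} (f : X ⟶ Y)

/-- termwise pullback of complexes -/
abbrev pullCx : CochainComplex Y.Modules ℤ ⥤ CochainComplex X.Modules ℤ :=
  (Scheme.Modules.pullback f).mapHomologicalComplex (ComplexShape.up ℤ)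

section Compute

variable [DCoh.HasLpull f]

/-- `Lf^*(Q K) ≅ Q (f^* K)` for `K` K-flat -/
def LpullQIso (K : CochainComplex Y.Modules ℤ) (hK : DCoh.IsKFlat K) :
    (DCoh.Lpull f).obj (DerivedCategory.Q.obj K) ≅ DerivedCategory.Q.obj ((pullCx f).obj K) :=
  (DCoh.Lpull f).mapIso ((DerivedCategory.quotientCompQhIso _).app K).symm ≪≫
    (@asIso _ _ _ _ ((eps f).app ((HomotopyCategory.quotient _ _).obj K))
      (isIso_counit_of_isKFlat f _ _ _ hK)) ≪≫ (quotientPullKhIso f).app K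

lemma LpullQIso_hom (K : CochainComplex Y.Modules ℤ) (hK : DCoh.IsKFlat K) :
    (LpullQIso f K hK).hom =
      (DCoh.Lpull f).map ((DerivedCategory.quotientCompQhIso _).inv.app K) ≫
        (eps f).app ((HomotopyCategory.quotient _ _).obj K) ≫
          (quotientPullKhIso f).hom.app K := rfl

lemma LpullQIso_naturality {K L : CochainComplex Y.Modules ℤ} (hK : DCoh.IsKFlat K)
    (hL : DCoh.IsKFlat L) (a : K ⟶ L) :
    (DCoh.Lpull f).map (DerivedCategory.Q.map a) ≫ (LpullQIso f L hL).hom =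
      (LpullQIso f K hK).hom ≫ DerivedCategory.Q.map ((pullCx f).map a) := by
  rw [LpullQIso_hom, LpullQIso_hom]
  have h1 := (DerivedCategory.quotientCompQhIso Y.Modules).inv.naturality a
  have h2 := (eps f).naturality ((HomotopyCategory.quotient _ _).map a)
  have h3 := (quotientPullKhIso f).hom.naturality a
  simp only [Functor.comp_map] at h1 h2 h3
  rw [← Category.assoc, ← Functor.map_comp, h1, Functor.map_comp, Category.assoc,
    ← Category.assoc ((DCoh.Lpull f).map _) ((eps f).app _), h2, Category.assoc, h3]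
  simp only [Category.assoc]

end Compute

/-! ### flatness -/

theorem isKFlat_of_flat_bounded (E : CochainComplex Y.Modules ℤ) (b : ℤ)
    (hv : ∀ i : ℤ, b < i → IsZero (E.X i)) (hfl : ∀ i : ℤ, FlatMod.IsFlat (E.X i)) :
    DCoh.IsKFlat E := by
  haveI hb : E.IsStrictlyLE b := by
    rw [CochainComplex.isStrictlyLE_iff]
    exact hv
  exact @Groth.Agent.Lib.KFlatSite.isKFlat_of_isStrictlyLE _ _ _ Y.sheaf E b hb
    (fun n => Groth.Agent.Lib.StalkFlatSch.isFlat_of_flatMod (E.X n) (hfl n))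

theorem isFlat_pullback {M : Y.Modules} (hM : FlatMod.IsFlat M) :
    FlatMod.IsFlat ((Scheme.Modules.pullback f).obj M) := by
  intro x
  letI : Algebra (Y.presheaf.stalk (f.base x)) (X.presheaf.stalk x) :=
    (f.stalkMap x).hom.toAlgebra
  haveI : Module.Flat (Y.presheaf.stalk (f.base x)) (M.presheaf.stalk (f.base x)) :=
    hM (f.base x)
  have e := (pullbackStalkIso f x).app M
  haveI h0 : Module.Flat (Y.presheaf.stalk (f.base x))
      ((DerSch.stalkFunctor Y (f.base x)).obj M) := hM (f.base x)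
  haveI h1 : Module.Flat (X.presheaf.stalk x)
      ((ModuleCat.extendScalars.{u, u, u} (algebraMap (Y.presheaf.stalk (f.base x))
        (X.presheaf.stalk x))).obj ((DerSch.stalkFunctor Y (f.base x)).obj M)) :=
    Module.Flat.of_linearEquiv (Groth.Agent.ExtendScalarsLib.extendScalarsEquivTensor
      (S := X.presheaf.stalk x) ((DerSch.stalkFunctor Y (f.base x)).obj M))
  exact Module.Flat.of_linearEquiv (M := ((ModuleCat.extendScalars.{u, u, u}
      (algebraMap (Y.presheaf.stalk (f.base x)) (X.presheaf.stalk x))).obj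
        ((DerSch.stalkFunctor Y (f.base x)).obj M))) e.toLinearEquiv

lemma vanishesOutside_pullCx {E : CochainComplex Y.Modules ℤ} {a b : ℤ}
    (hv : DCoh.VanishesOutside E a b) : DCoh.VanishesOutside ((pullCx f).obj E) a b :=
  fun i hi => (Scheme.Modules.pullback f).map_isZero (hv i hi)

theorem isStrictlyPerfect_pullCx {E : CochainComplex Y.Modules ℤ}
    (hE : DCoh.IsStrictlyPerfect E) : DCoh.IsStrictlyPerfect ((pullCx f).obj E) := by
  obtain ⟨⟨a, b, hv⟩, hfl⟩ := hE
  exact ⟨⟨a, b, vanishesOutside_pullCx f hv⟩, fun i => PBH8.isFinLocFree_pullback f (hfl i)⟩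

theorem isKFlat_of_isStrictlyPerfect {E : CochainComplex Y.Modules ℤ}
    (hE : DCoh.IsStrictlyPerfect E) : DCoh.IsKFlat E := by
  obtain ⟨⟨a, b, hv⟩, hfl⟩ := hE
  exact isKFlat_of_flat_bounded E b (fun i hi => hv i (Or.inr hi))
    (fun i => isFlat_of_isFinLocFree (hfl i))

/-! ### tor amplitude -/

theorem flatAmp_Lpull [DCoh.HasLpull f] (E : DCoh.D Y) (a b : ℤ)
    (hE : DCoh.HasFlatAmplitudeIn a b E) :
    DCoh.HasFlatAmplitudeIn a b ((DCoh.Lpull f).obj E) := by
  obtain ⟨E₀, hv, hfl, ⟨e⟩⟩ := hE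
  have hK : DCoh.IsKFlat E₀ :=
    isKFlat_of_flat_bounded E₀ b (fun i hi => hv i (Or.inr hi)) hfl
  exact ⟨(pullCx f).obj E₀, vanishesOutside_pullCx f hv, fun i => isFlat_pullback f (hfl i),
    ⟨(LpullQIso f E₀ hK).symm ≪≫ (DCoh.Lpull f).mapIso e⟩⟩

theorem torAmp_Lpull [DCoh.HasLpull f] (E : DCoh.D Y) (a b : ℤ)
    (hE : DCoh.HasFlatAmplitudeIn a b E) :
    DCoh.HasTorAmplitudeIn a b ((DCoh.Lpull f).obj E) :=
  Groth.Agent.Lib.DTorCmp.torAmp_of_flatAmp (flatAmp_Lpull f E a b hE)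

/-! ### open immersions -/

section Open

/-- iso of functors on homotopy categories -/
def mapHomotopyCategoryIso {V W : Type*} [Category V] [Category W] [Preadditive V] [Preadditive W]
    {F G : V ⥤ W} [F.Additive] [G.Additive] (e : F ≅ G) :
    F.mapHomotopyCategory (ComplexShape.up ℤ) ≅ G.mapHomotopyCategory (ComplexShape.up ℤ) where
  hom := NatTrans.mapHomotopyCategory e.hom _
  inv := NatTrans.mapHomotopyCategory e.inv _
  hom_inv_id := by
    rw [← NatTrans.mapHomotopyCategory_comp, e.hom_inv_id, NatTrans.mapHomotopyCategory_id]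
  inv_hom_id := by
    rw [← NatTrans.mapHomotopyCategory_comp, e.inv_hom_id, NatTrans.mapHomotopyCategory_id]

variable {U : Scheme.{u}} (j : U ⟶ Y) [IsOpenImmersion j]

/-- `Qh ⋙ restrictD j ≅ pullKh j` -/
def restrictDFac : DerivedCategory.Qh ⋙ DCoh.restrictD j ≅ DCoh.pullKh j :=
  (Scheme.Modules.restrictFunctor j).mapDerivedCategoryFactorsh ≪≫
    Functor.isoWhiskerRight
      (mapHomotopyCategoryIso (Scheme.Modules.restrictFunctorIsoPullback j)) DerivedCategory.Qh

/-- **restriction to an open is the derived pullback** -/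
def restrictDIsoLpull [DCoh.HasLpull j] : DCoh.restrictD j ≅ DCoh.Lpull j := by
  haveI : (DCoh.restrictD j).IsLeftDerivedFunctor (restrictDFac j).hom
      (HomotopyCategory.quasiIso Y.Modules (ComplexShape.up ℤ)) :=
    Functor.isLeftDerivedFunctor_of_inverts _ _ (restrictDFac j)
  exact Functor.leftDerivedUnique (DCoh.Lpull j) (DCoh.restrictD j) (restrictDFac j).hom
    ((DCoh.pullKh j).totalLeftDerivedCounit DerivedCategory.Qh
      (HomotopyCategory.quasiIso Y.Modules (ComplexShape.up ℤ)))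
    (HomotopyCategory.quasiIso Y.Modules (ComplexShape.up ℤ))

end Open

/-! ### localisation on the base -/

lemma nonempty_Lpull_congr {g g' : X ⟶ Y} (h : g = g') [DCoh.HasLpull g] [DCoh.HasLpull g'] :
    Nonempty (DCoh.Lpull g ≅ DCoh.Lpull g') := by
  subst h
  exact ⟨Iso.refl _⟩

/-- `(Lf^* -)|_{f⁻¹V} ≅ L(f|_V)^*(-|_V)` -/
theorem nonempty_restrict_Lpull_iso [DCoh.HasLpull f] (V : Y.Opens) [DCoh.HasLpull (f ∣_ V)] :
    Nonempty (DCoh.Lpull f ⋙ DCoh.restrictD (f ⁻¹ᵁ V).ι ≅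
      DCoh.restrictD V.ι ⋙ DCoh.Lpull (f ∣_ V)) := by
  haveI := hasLpull (f ⁻¹ᵁ V).ι
  haveI := hasLpull V.ι
  haveI := hasLpull ((f ⁻¹ᵁ V).ι ≫ f)
  haveI := hasLpull ((f ∣_ V) ≫ V.ι)
  obtain ⟨e1⟩ := nonempty_comp_iso (f ⁻¹ᵁ V).ι f
  obtain ⟨e2⟩ := nonempty_comp_iso (f ∣_ V) V.ι
  obtain ⟨e3⟩ := nonempty_Lpull_congr (morphismRestrict_ι f V).symm
  exact ⟨Functor.isoWhiskerLeft _ (restrictDIsoLpull (f ⁻¹ᵁ V).ι) ≪≫ e1 ≪≫ e3 ≪≫ e2.symm ≪≫
    Functor.isoWhiskerRight (restrictDIsoLpull V.ι).symm _⟩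

/-! ### perfect complexes -/

/-- **the derived pullback of a perfect complex is perfect** -/
theorem isPerfect_Lpull [DCoh.HasLpull f] (E : DCoh.D Y) (hE : DCoh.IsPerfect E) :
    DCoh.IsPerfect ((DCoh.Lpull f).obj E) := by
  rw [isPerfect_iff] at hE ⊢
  intro x
  obtain ⟨V, hyV, P, hP, ⟨e⟩⟩ := hE (f.base x)
  haveI := hasLpull (f ∣_ V)
  obtain ⟨θ⟩ := nonempty_restrict_Lpull_iso f V
  refine ⟨f ⁻¹ᵁ V, hyV, (pullCx (f ∣_ V)).obj P, isStrictlyPerfect_pullCx _ hP, ⟨?_⟩⟩
  exact θ.app E ≪≫ (DCoh.Lpull (f ∣_ V)).mapIso e ≪≫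
    LpullQIso (f ∣_ V) P (isKFlat_of_isStrictlyPerfect hP)

end

end Groth.Agent.Lib.LpullLocH3
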