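import Mathlib
import Groth.Prelude
import Groth.Agent.Lib.KFTilde2_lead
import Groth.Agent.Lib.DSect7_lead
import Groth.Agent.Lib.LpullLoc_helper3
import Groth.Agent.Lib.BMod5_helper6
import Groth.Agent.Lib.SubExt_helper9
import Groth.Agent.Lib.PCohStalk1_lead

/-!
# `Lf^*` preserves `D_QCoh` (lead; S1054)

* `preservesFiniteLimits_tilde` : the tilde functor is exact;
* `isQCohD_restrictD`, `isQCohD_of_cover` : `D_QCoh` is local;
* `hasLBaseChange` : derived base change exists (copied from helper6's `TrivBC14`);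
* `main1054`.
-/

set_option autoImplicit false
set_option linter.all false
set_option maxHeartbeats 1600000
set_option backward.isDefEq.respectTransparency false
set_option backward.isDefEq.respectTransparency.types false
set_option backward.defeqAttrib.useBackward true

universe u
open CategoryTheory CategoryTheory.Limits AlgebraicGeometry Opposite TopologicalSpace
open DerivedCategory
attribute [local instance] HasDerivedCategory.standard

namespace Groth.Agent.Lib.LpullQCL

open Groth.Agent.Lib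

/- copied from helper2's `AlgzExt7_helper2` (to keep the import closure small) -/
/-- the tilde functor preserves monomorphisms -/
theorem mono_tilde_map (A : Type u) [CommRing A] {N N' : ModuleCat.{u} A} (f : N ⟶ N') [Mono f] :
    Mono ((tilde.functor (CommRingCat.of A)).map f) := by
  haveI : (tilde.functor (CommRingCat.of A)).IsLeftAdjoint :=
    (tilde.adjunction (R := CommRingCat.of A)).isLeftAdjoint
  haveI : (tilde.functor (CommRingCat.of A)).PreservesZeroMorphisms :=
    Functor.preservesZeroMorphisms_of_isLeftAdjoint _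
  haveI : (moduleSpecΓFunctor (R := CommRingCat.of A)).IsRightAdjoint :=
    (tilde.adjunction (R := CommRingCat.of A)).isRightAdjoint
  haveI : (moduleSpecΓFunctor (R := CommRingCat.of A)).PreservesZeroMorphisms :=
    Functor.preservesZeroMorphisms_of_isRightAdjoint _
  obtain ⟨φ, hφ⟩ : ∃ φ : (tilde.functor (CommRingCat.of A)).obj N ⟶
      (tilde.functor (CommRingCat.of A)).obj N', φ = (tilde.functor (CommRingCat.of A)).map f :=
    ⟨_, rfl⟩
  rw [← hφ]
  apply Preadditive.mono_of_kernel_zero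
  haveI h1q : ((tilde.functor (CommRingCat.of A)).obj N).IsQuasicoherent :=
    inferInstanceAs (tilde (R := CommRingCat.of A) N).IsQuasicoherent
  haveI h2q : ((tilde.functor (CommRingCat.of A)).obj N').IsQuasicoherent :=
    inferInstanceAs (tilde (R := CommRingCat.of A) N').IsQuasicoherent
  haveI : (kernel φ).IsQuasicoherent := SubExt.isQuasicoherent_kernel φ
  haveI : IsIso ((Scheme.Modules.fromTildeΓNatTrans (R := CommRingCat.of A)).app (kernel φ)) := by
    show IsIso (Scheme.Modules.fromTildeΓ (R := CommRingCat.of A) (kernel φ))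
    exact Scheme.Modules.isIso_fromTildeΓ_of_isQuasicoherent (R := CommRingCat.of A) (kernel φ)
  have hnat := (Scheme.Modules.fromTildeΓNatTrans (R := CommRingCat.of A)).naturality
    (kernel.ι φ)
  have hΓ : (moduleSpecΓFunctor (R := CommRingCat.of A)).map (kernel.ι φ) = 0 := by
    haveI : Mono ((moduleSpecΓFunctor (R := CommRingCat.of A)).map φ) := by
      have h1 := (tilde.toTildeΓNatIso (R := CommRingCat.of A)).hom.naturality f
      have h3 : f ≫ (tilde.toTildeΓNatIso (R := CommRingCat.of A)).hom.app N' =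
          (tilde.toTildeΓNatIso (R := CommRingCat.of A)).hom.app N ≫
            (moduleSpecΓFunctor (R := CommRingCat.of A)).map
              ((tilde.functor (CommRingCat.of A)).map f) := h1
      have h2 : (moduleSpecΓFunctor (R := CommRingCat.of A)).map φ =
          (tilde.toTildeΓNatIso (R := CommRingCat.of A)).inv.app N ≫ f ≫
            (tilde.toTildeΓNatIso (R := CommRingCat.of A)).hom.app N' := by
        rw [hφ, h3, Iso.inv_hom_id_app_assoc]
      rw [h2]
      have i1 : IsIso ((tilde.toTildeΓNatIso (R := CommRingCat.of A)).hom.app N') :=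
        ⟨⟨(tilde.toTildeΓNatIso (R := CommRingCat.of A)).inv.app N',
          Iso.hom_inv_id_app _ _, Iso.inv_hom_id_app _ _⟩⟩
      have i2 : IsIso ((tilde.toTildeΓNatIso (R := CommRingCat.of A)).inv.app N) :=
        ⟨⟨(tilde.toTildeΓNatIso (R := CommRingCat.of A)).hom.app N,
          Iso.inv_hom_id_app _ _, Iso.hom_inv_id_app _ _⟩⟩
      have m1 : Mono ((tilde.toTildeΓNatIso (R := CommRingCat.of A)).hom.app N') :=
        @IsIso.mono_of_iso _ _ _ _ _ i1
      have m2 : Mono ((tilde.toTildeΓNatIso (R := CommRingCat.of A)).inv.app N) :=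
        @IsIso.mono_of_iso _ _ _ _ _ i2
      have m3 : Mono (f ≫ (tilde.toTildeΓNatIso (R := CommRingCat.of A)).hom.app N') :=
        @mono_comp _ _ _ _ _ f _ _ m1
      exact @mono_comp _ _ _ _ _ _ m2 _ m3
    rw [← cancel_mono ((moduleSpecΓFunctor (R := CommRingCat.of A)).map φ), ← Functor.map_comp,
      kernel.condition, Functor.map_zero, zero_comp]
  rw [← cancel_epi ((Scheme.Modules.fromTildeΓNatTrans (R := CommRingCat.of A)).app (kernel φ)),
    comp_zero]
  rw [Functor.id_map] at hnat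
  rw [← hnat, Functor.comp_map, hΓ, Functor.map_zero, zero_comp]


/-- the tilde functor is exact -/
theorem preservesFiniteLimits_tilde (A : Type u) [CommRing A] :
    PreservesFiniteLimits (tilde.functor (CommRingCat.of A)) := by
  haveI : (tilde.functor (CommRingCat.of A)).IsLeftAdjoint :=
    (tilde.adjunction (R := CommRingCat.of A)).isLeftAdjoint
  have hc : PreservesFiniteColimits (tilde.functor (CommRingCat.of A)) := inferInstance
  rw [Functor.preservesFiniteLimits_iff_forall_exact_map_and_mono]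
  intro S hS
  have h1 := (Functor.preservesFiniteColimits_iff_forall_exact_map_and_epi
    (tilde.functor (CommRingCat.of A))).1 hc S hS
  haveI := hS.mono_f
  exact ⟨h1.1, mono_tilde_map A S.f⟩

/-- restriction to an open preserves `D_QCoh` -/
theorem isQCohD_restrictD {U X : Scheme.{u}} (j : U ⟶ X) [IsOpenImmersion j] (K : DCoh.D X)
    (hK : DCoh.IsQCohD K) : DCoh.IsQCohD ((DCoh.restrictD j).obj K) := by
  intro i
  obtain ⟨e⟩ := DCohLocLead.nonempty_homology_mapExact_iso
    (Scheme.Modules.restrictFunctor j) K i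
  haveI : (DCoh.HD K i).IsQuasicoherent := hK i
  have hq : ((Scheme.Modules.restrictFunctor j).obj (DCoh.HD K i)).IsQuasicoherent :=
    Scheme.Modules.isQuasicoherent_restrictFunctor j _
  exact (SheafOfModules.isQuasicoherent U.ringCatSheaf).prop_of_iso e.symm hq

/-- `D_QCoh` is local -/
theorem isQCohD_of_cover {X : Scheme.{u}} (K : DCoh.D X) {ι : Type u} (𝒰 : ι → X.Opens)
    (hcov : ⨆ i, 𝒰 i = ⊤) (H : ∀ i, DCoh.IsQCohD ((DCoh.restrictD (𝒰 i).ι).obj K)) :
    DCoh.IsQCohD K := by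
  intro n
  refine BModH6.isQuasicoherent_of_restrict_ι _ 𝒰 hcov (fun i => ?_)
  obtain ⟨e⟩ := DCohLocLead.nonempty_homology_mapExact_iso
    (Scheme.Modules.restrictFunctor (𝒰 i).ι) K n
  exact (SheafOfModules.isQuasicoherent (𝒰 i : Scheme.{u}).ringCatSheaf).prop_of_iso e (H i n)

section LDer

variable {R : Type u} [CommRing R] {H : Type*} [Category H]

/-- every functor on `K(R)` has a left derived functor (copied from helper6's `TrivBC14`) -/
theorem hasLeftDerivedFunctor_of_kproj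
    (F : HomotopyCategory (ModuleCat.{u} R) (ComplexShape.up ℤ) ⥤ H) :
    F.HasLeftDerivedFunctor
      (HomotopyCategory.quasiIso (ModuleCat.{u} R) (ComplexShape.up ℤ)) := by
  have : F.HasPointwiseLeftDerivedFunctor
      (HomotopyCategory.quasiIso (ModuleCat.{u} R) (ComplexShape.up ℤ)) := fun X => by
    obtain ⟨X', s, hw, hP, -⟩ := KFTildeL.exists_kproj_kf_res X
    haveI := hP
    rw [← Functor.hasPointwiseLeftDerivedFunctorAt_iff_of_mem F _ _ hw]
    rw [Functor.hasPointwiseLeftDerivedFunctorAt_iff F DerivedCategory.Qh]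
    have hbij := CochainComplex.IsKProjective.Qh_map_bijective X'.as
    haveI : HasInitial (StructuredArrow
        (DerivedCategory.Qh.obj X') DerivedCategory.Qh) := by
      refine IsInitial.hasInitial (X := StructuredArrow.mk (𝟙 _)) ?_
      refine IsInitial.ofUniqueHom
        (fun Y => StructuredArrow.homMk ((hbij Y.right).2 Y.hom).choose ?_) (fun Y m => ?_)
      · have := ((hbij Y.right).2 Y.hom).choose_spec
        simp only [StructuredArrow.mk_hom_eq_self, Functor.id_obj, Category.id_comp]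
        exact this
      · apply StructuredArrow.hom_ext
        apply (hbij Y.right).1
        have h1 := ((hbij Y.right).2 Y.hom).choose_spec
        have h2 := StructuredArrow.w m
        simp only [StructuredArrow.mk_hom_eq_self, Category.id_comp] at h2
        exact h2.trans h1.symm
    show HasLimit _
    infer_instance
  infer_instance

end LDer

theorem hasLBaseChange {A B : Type u} [CommRing A] [CommRing B] (φ : A →+* B) :
    DRing.HasLBaseChange φ :=
  hasLeftDerivedFunctor_of_kproj _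

/-- the case of `Spec.map` -/
theorem lpull_qcoh_specMap {A B : Type u} [CommRing A] [CommRing B] (φ : A →+* B)
    [DCoh.HasLpull (Spec.map (CommRingCat.ofHom φ))]
    (K : DCoh.D (Spec (CommRingCat.of A))) (hK : DCoh.IsQCohD K) :
    DCoh.IsQCohD ((DCoh.Lpull (Spec.map (CommRingCat.ofHom φ))).obj K) := by
  haveI := preservesFiniteLimits_tilde A
  haveI := preservesFiniteLimits_tilde B
  haveI := hasLBaseChange φ
  obtain ⟨M, ⟨e⟩⟩ := ((DSectX.main0997 (CommRingCat.of A)).2.2 K).1 hK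
  obtain ⟨α⟩ := KFTildeL.nonempty_iso_1055 φ
  have h2 : DCoh.IsQCohD ((DCoh.tildeD (CommRingCat.of B)).obj
      ((DRing.LBaseChange φ).obj M)) :=
    ((DSectX.main0997 (CommRingCat.of B)).2.2 _).2 ⟨_, ⟨Iso.refl _⟩⟩
  exact DSectX.isQCohD_of_iso (α.app M ≪≫ (DCoh.Lpull _).mapIso e) h2

/-- the case of a morphism of spectra -/
theorem lpull_qcoh_spec {A B : Type u} [CommRing A] [CommRing B]
    (g : Spec (CommRingCat.of B) ⟶ Spec (CommRingCat.of A)) [DCoh.HasLpull g]
    (K : DCoh.D (Spec (CommRingCat.of A))) (hK : DCoh.IsQCohD K) :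
    DCoh.IsQCohD ((DCoh.Lpull g).obj K) := by
  obtain ⟨ψ, rfl⟩ : ∃ ψ : A →+* B, g = Spec.map (CommRingCat.ofHom ψ) :=
    ⟨(Spec.preimage g).hom, by simp⟩
  exact lpull_qcoh_specMap ψ K hK

/-- derived pullback along an open immersion preserves `D_QCoh` -/
theorem lpull_qcoh_of_isOpenImmersion {U X : Scheme.{u}} (j : U ⟶ X) [IsOpenImmersion j]
    [DCoh.HasLpull j] (K : DCoh.D X) (hK : DCoh.IsQCohD K) :
    DCoh.IsQCohD ((DCoh.Lpull j).obj K) :=
  DSectX.isQCohD_of_iso ((LpullLocH3.restrictDIsoLpull j).app K) (isQCohD_restrictD j K hK)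

theorem lpull_comp_obj_iso {X Y Z : Scheme.{u}} (f : X ⟶ Y) (g : Y ⟶ Z) [DCoh.HasLpull f]
    [DCoh.HasLpull g] [DCoh.HasLpull (f ≫ g)] (K : DCoh.D Z) :
    Nonempty ((DCoh.Lpull (f ≫ g)).obj K ≅ (DCoh.Lpull f).obj ((DCoh.Lpull g).obj K)) := by
  obtain ⟨e⟩ := LpullCompH3.nonempty_comp_iso f g
  exact ⟨(e.app K).symm⟩

/-- the case of affine schemes -/
theorem lpull_qcoh_affine {V U : Scheme.{u}} [IsAffine V] [IsAffine U] (g : V ⟶ U)
    [DCoh.HasLpull g] (K : DCoh.D U) (hK : DCoh.IsQCohD K) :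
    DCoh.IsQCohD ((DCoh.Lpull g).obj K) := by
  let b : V ⟶ Spec Γ(V, ⊤) := V.isoSpec.hom
  let g' : Spec Γ(V, ⊤) ⟶ Spec Γ(U, ⊤) := V.isoSpec.inv ≫ g ≫ U.isoSpec.hom
  have hg : g = b ≫ g' ≫ U.isoSpec.inv := by simp [b, g']
  haveI := LpullExH3.hasLpull b
  haveI := LpullExH3.hasLpull g'
  haveI := LpullExH3.hasLpull U.isoSpec.inv
  haveI := LpullExH3.hasLpull (g' ≫ U.isoSpec.inv)
  haveI := LpullExH3.hasLpull (b ≫ g' ≫ U.isoSpec.inv)
  obtain ⟨e0⟩ := LpullLocH3.nonempty_Lpull_congr hg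
  obtain ⟨e1⟩ := lpull_comp_obj_iso b (g' ≫ U.isoSpec.inv) K
  obtain ⟨e2⟩ := lpull_comp_obj_iso g' U.isoSpec.inv K
  have h1 : DCoh.IsQCohD ((DCoh.Lpull U.isoSpec.inv).obj K) :=
    lpull_qcoh_of_isOpenImmersion _ K hK
  have h2 : DCoh.IsQCohD ((DCoh.Lpull g').obj ((DCoh.Lpull U.isoSpec.inv).obj K)) :=
    lpull_qcoh_spec (A := Γ(U, ⊤)) (B := Γ(V, ⊤)) g' _ h1
  have h3 : DCoh.IsQCohD ((DCoh.Lpull b).obj
      ((DCoh.Lpull g').obj ((DCoh.Lpull U.isoSpec.inv).obj K))) :=
    lpull_qcoh_of_isOpenImmersion b _ h2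
  exact DSectX.isQCohD_of_iso
    ((DCoh.Lpull b).mapIso e2.symm ≪≫ e1.symm ≪≫ (e0.app K).symm) h3

/-- **S1054**: `Lf^*` preserves `D_QCoh` -/
theorem main1054 {Y X : Scheme.{u}} (f : Y ⟶ X) [DCoh.HasLpull f] (K : DCoh.D X)
    (hK : DCoh.IsQCohD K) : DCoh.IsQCohD ((DCoh.Lpull f).obj K) := by
  let J := {V : Y.affineOpens // ∃ U : X.affineOpens, V.1 ≤ f ⁻¹ᵁ U.1}
  refine isQCohD_of_cover _ (fun V : J => V.1.1) ?_ ?_
  · rw [eq_top_iff]
    intro y _
    obtain ⟨U, hU, hyU, -⟩ := Opens.isBasis_iff_nbhd.mp X.isBasis_affineOpens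
      (show f y ∈ (⊤ : X.Opens) from trivial)
    have hy : y ∈ f ⁻¹ᵁ U := hyU
    obtain ⟨V, hV, hyV, hVU⟩ := Opens.isBasis_iff_nbhd.mp Y.isBasis_affineOpens hy
    exact Opens.mem_iSup.mpr ⟨⟨⟨V, hV⟩, ⟨U, hU⟩, hVU⟩, hyV⟩
  · rintro ⟨⟨V, hV⟩, ⟨U, hU⟩, hVU⟩
    have hr : Set.range (V.ι ≫ f) ⊆ Set.range U.ι := by
      rw [Scheme.Opens.range_ι]
      rintro _ ⟨v, rfl⟩
      exact hVU v.2
    let g : (V : Scheme.{u}) ⟶ (U : Scheme.{u}) := IsOpenImmersion.lift U.ι (V.ι ≫ f) hr
    have hg : g ≫ U.ι = V.ι ≫ f := IsOpenImmersion.lift_fac _ _ _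
    haveI : IsAffine (V : Scheme.{u}) := hV
    haveI : IsAffine (U : Scheme.{u}) := hU
    haveI := LpullExH3.hasLpull g
    haveI := LpullExH3.hasLpull U.ι
    haveI := LpullExH3.hasLpull V.ι
    haveI := LpullExH3.hasLpull (V.ι ≫ f)
    haveI := LpullExH3.hasLpull (g ≫ U.ι)
    obtain ⟨e1⟩ := lpull_comp_obj_iso V.ι f K
    obtain ⟨e2⟩ := lpull_comp_obj_iso g U.ι K
    obtain ⟨e3⟩ := LpullLocH3.nonempty_Lpull_congr hg
    have h1 : DCoh.IsQCohD ((DCoh.Lpull U.ι).obj K) :=
      lpull_qcoh_of_isOpenImmersion U.ι K hK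
    have h2 : DCoh.IsQCohD ((DCoh.Lpull g).obj ((DCoh.Lpull U.ι).obj K)) :=
      lpull_qcoh_affine g _ h1
    exact DSectX.isQCohD_of_iso
      (e2.symm ≪≫ e3.app K ≪≫ e1 ≪≫ ((LpullLocH3.restrictDIsoLpull V.ι).app _).symm) h2

end Groth.Agent.Lib.LpullQCL
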