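import Mathlib
import Groth.Prelude
import Groth.Agent.Lib.AffNull1_helper5
import Groth.Agent.Lib.DSect7_lead
import Groth.Agent.Lib.LpullQC_lead
import Groth.Agent.Lib.FlatBC1_helper6

/-!
# Homotopy classes versus derived-category morphisms on an affine scheme (lead; S14112, S14114)

For a bounded above complex `E` of finite locally free modules and a complex `F` of quasi-coherent
modules on an affine scheme, `Hom_K(E, F) → Hom_D(E, F)` is bijective.

APPEND-ONLY once landed.
-/

set_option autoImplicit false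
set_option linter.all false
set_option maxHeartbeats 1600000
set_option backward.isDefEq.respectTransparency false
set_option backward.isDefEq.respectTransparency.types false
set_option backward.defeqAttrib.useBackward true

universe u
open CategoryTheory CategoryTheory.Limits AlgebraicGeometry Opposite TopologicalSpace
open DerivedCategory
attribute [local instance] HasDerivedCategory.standard

namespace Groth.Agent.Lib.AffHomL

open Groth.Agent.Lib

section Generic

variable {C₁ C₂ D₁ D₂ : Type*} [Category C₁] [Category C₂] [Category D₁] [Category D₂]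

/-- transfer of bijectivity along isomorphisms -/
theorem map_bijective_of_iso (F : C₁ ⥤ D₁) {X X' Y Y' : C₁} (e : X ≅ X') (e' : Y ≅ Y')
    (h : Function.Bijective (fun φ : X' ⟶ Y' => F.map φ)) :
    Function.Bijective (fun φ : X ⟶ Y => F.map φ) := by
  constructor
  · intro φ φ' hφ
    have hφ' : F.map φ = F.map φ' := hφ
    have h1 : F.map (e.inv ≫ φ ≫ e'.hom) = F.map (e.inv ≫ φ' ≫ e'.hom) := by
      rw [CategoryTheory.Functor.map_comp, CategoryTheory.Functor.map_comp,
        CategoryTheory.Functor.map_comp, CategoryTheory.Functor.map_comp, hφ']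
    have h2 : e.inv ≫ φ ≫ e'.hom = e.inv ≫ φ' ≫ e'.hom := h.1 h1
    have h3 : φ ≫ e'.hom = φ' ≫ e'.hom := (cancel_epi e.inv).1 h2
    exact (cancel_mono e'.hom).1 h3
  · intro g
    obtain ⟨ψ, hψ⟩ := h.2 (F.map e.inv ≫ g ≫ F.map e'.hom)
    have hψ' : F.map ψ = F.map e.inv ≫ g ≫ F.map e'.hom := hψ
    refine ⟨e.hom ≫ ψ ≫ e'.inv, ?_⟩
    have a1 : F.map e.hom ≫ F.map e.inv = 𝟙 _ := by
      rw [← CategoryTheory.Functor.map_comp, e.hom_inv_id, CategoryTheory.Functor.map_id]
    have a2 : F.map e'.hom ≫ F.map e'.inv = 𝟙 _ := by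
      rw [← CategoryTheory.Functor.map_comp, e'.hom_inv_id, CategoryTheory.Functor.map_id]
    show F.map (e.hom ≫ ψ ≫ e'.inv) = g
    calc F.map (e.hom ≫ ψ ≫ e'.inv)
        = (F.map e.hom ≫ F.map e.inv) ≫ g ≫ (F.map e'.hom ≫ F.map e'.inv) := by
          rw [CategoryTheory.Functor.map_comp, CategoryTheory.Functor.map_comp, hψ']
          simp only [Category.assoc]
      _ = g := by rw [a1, a2, Category.id_comp, Category.comp_id]

variable (Q₁ : C₁ ⥤ D₁) (Q₂ : C₂ ⥤ D₂) (GK : C₁ ⥤ C₂) (GD : D₁ ⥤ D₂)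
  (fac : Q₁ ⋙ GD ≅ GK ⋙ Q₂)

include fac in
theorem square_nat {X Y : C₁} (φ : X ⟶ Y) :
    GD.map (Q₁.map φ) = fac.hom.app X ≫ Q₂.map (GK.map φ) ≫ fac.inv.app Y := by
  have h := fac.hom.naturality φ
  have h' : GD.map (Q₁.map φ) ≫ fac.hom.app Y = fac.hom.app X ≫ Q₂.map (GK.map φ) := h
  calc GD.map (Q₁.map φ) = (GD.map (Q₁.map φ) ≫ fac.hom.app Y) ≫ fac.inv.app Y := by
        rw [Category.assoc, Iso.hom_inv_id_app]
        exact (Category.comp_id _).symm
    _ = (fac.hom.app X ≫ Q₂.map (GK.map φ)) ≫ fac.inv.app Y := by rw [h']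
    _ = _ := Category.assoc _ _ _

include fac in
/-- bijectivity downstairs implies bijectivity upstairs -/
theorem bijective_of_square [GK.Full] [GK.Faithful] [GD.Faithful] (X Y : C₁)
    (h : Function.Bijective (fun ψ : GK.obj X ⟶ GK.obj Y => Q₂.map ψ)) :
    Function.Bijective (fun φ : X ⟶ Y => Q₁.map φ) := by
  constructor
  · intro φ φ' hφ
    have hφ' : Q₁.map φ = Q₁.map φ' := hφ
    have e1 := square_nat Q₁ Q₂ GK GD fac φ
    have e2 := square_nat Q₁ Q₂ GK GD fac φ'
    rw [hφ'] at e1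
    have e3 : fac.hom.app X ≫ Q₂.map (GK.map φ) ≫ fac.inv.app Y =
        fac.hom.app X ≫ Q₂.map (GK.map φ') ≫ fac.inv.app Y := e1.symm.trans e2
    have e4 : Q₂.map (GK.map φ) ≫ fac.inv.app Y = Q₂.map (GK.map φ') ≫ fac.inv.app Y :=
      (cancel_epi (fac.hom.app X)).1 e3
    have e5 : Q₂.map (GK.map φ) = Q₂.map (GK.map φ') := (cancel_mono (fac.inv.app Y)).1 e4
    exact GK.map_injective (h.1 e5)
  · intro g
    obtain ⟨ψ, hψ⟩ := h.2 (fac.inv.app X ≫ GD.map g ≫ fac.hom.app Y)
    obtain ⟨φ, rfl⟩ := GK.map_surjective ψ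
    have hψ' : Q₂.map (GK.map φ) = fac.inv.app X ≫ GD.map g ≫ fac.hom.app Y := hψ
    refine ⟨φ, GD.map_injective ?_⟩
    show GD.map (Q₁.map φ) = GD.map g
    rw [square_nat Q₁ Q₂ GK GD fac φ, hψ']
    simp

include fac in
/-- bijectivity upstairs implies bijectivity downstairs -/
theorem bijective_of_square' [GK.Full] [GK.Faithful] [GD.Full] [GD.Faithful] (X Y : C₁)
    (h : Function.Bijective (fun φ : X ⟶ Y => Q₁.map φ)) :
    Function.Bijective (fun ψ : GK.obj X ⟶ GK.obj Y => Q₂.map ψ) := by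
  constructor
  · intro ψ ψ' hψ
    obtain ⟨φ, rfl⟩ := GK.map_surjective ψ
    obtain ⟨φ', rfl⟩ := GK.map_surjective ψ'
    have hψ' : Q₂.map (GK.map φ) = Q₂.map (GK.map φ') := hψ
    have e1 := square_nat Q₁ Q₂ GK GD fac φ
    have e2 := square_nat Q₁ Q₂ GK GD fac φ'
    rw [hψ'] at e1
    have e3 : Q₁.map φ = Q₁.map φ' := GD.map_injective (e1.trans e2.symm)
    rw [h.1 e3]
  · intro g
    obtain ⟨k, hk⟩ := GD.map_surjective (fac.hom.app X ≫ g ≫ fac.inv.app Y)
    obtain ⟨φ, hφ⟩ := h.2 k
    have hφ' : Q₁.map φ = k := hφ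
    refine ⟨GK.map φ, ?_⟩
    show Q₂.map (GK.map φ) = g
    have e1 := square_nat Q₁ Q₂ GK GD fac φ
    rw [hφ', hk] at e1
    have e2 : g ≫ fac.inv.app Y = Q₂.map (GK.map φ) ≫ fac.inv.app Y :=
      (cancel_epi (fac.hom.app X)).1 e1
    exact ((cancel_mono (fac.inv.app Y)).1 e2).symm

end Generic

section Spec

variable (R : CommRingCat.{u}) [PreservesFiniteLimits (tilde.functor R)]

theorem spec_bijective (E F : CochainComplex (Spec (CommRingCat.of R)).Modules ℤ) (b : ℤ)
    (hEb : ∀ i : ℤ, b < i → IsZero (E.X i)) (hE : ∀ i : ℤ, FlatMod.IsFinLocFree (E.X i))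
    (hF : ∀ i : ℤ, (F.X i).IsQuasicoherent) :
    Function.Bijective (fun φ :
        (HomotopyCategory.quotient (Spec (CommRingCat.of R)).Modules (ComplexShape.up ℤ)).obj E ⟶
        (HomotopyCategory.quotient (Spec (CommRingCat.of R)).Modules (ComplexShape.up ℤ)).obj F =>
      (DerivedCategory.Qh (C := (Spec (CommRingCat.of R)).Modules)).map φ) := by
  haveI hq : ∀ i, (E.X i).IsQuasicoherent :=
    fun i => FLFH8.isQuasicoherent_of_finLocFree _ (hE i)
  let K : CochainComplex (ModuleCat.{u} R) ℤ :=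
    ((moduleSpecΓFunctor (R := R)).mapHomologicalComplex _).obj E
  let N : CochainComplex (ModuleCat.{u} R) ℤ :=
    ((moduleSpecΓFunctor (R := R)).mapHomologicalComplex _).obj F
  have hproj : ∀ i, Projective (K.X i) := by
    intro i
    have h1 : FlatMod.IsFinLocFree (tilde (K.X i)) :=
      FLFH8.IsFinLocFree.of_iso (asIso (E.X i).fromTildeΓ).symm (hE i)
    have h2 := (FLFH8.tilde_finLocFree_iff (K.X i)).mp h1
    haveI := h2.2
    infer_instance
  haveI : K.IsStrictlyLE b := by
    rw [CochainComplex.isStrictlyLE_iff]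
    intro i hi
    exact (moduleSpecΓFunctor (R := R)).map_isZero (hEb i hi)
  haveI := CochainComplex.isKProjective_of_projective K b
  let αE : ((tilde.functor R).mapHomologicalComplex _).obj K ≅ E :=
    HomologicalComplex.Hom.isoOfComponents
      (fun i => @asIso _ _ _ _ (E.X i).fromTildeΓ
        (Scheme.Modules.isIso_fromTildeΓ_of_isQuasicoherent (E.X i)))
      (fun i j _ => ((Scheme.Modules.fromTildeΓNatTrans (R := R)).naturality (E.d i j)).symm)
  let αF : ((tilde.functor R).mapHomologicalComplex _).obj N ≅ F :=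
    HomologicalComplex.Hom.isoOfComponents
      (fun i => @asIso _ _ _ _ (F.X i).fromTildeΓ
        (@Scheme.Modules.isIso_fromTildeΓ_of_isQuasicoherent _ (F.X i) (hF i)))
      (fun i j _ => ((Scheme.Modules.fromTildeΓNatTrans (R := R)).naturality (F.d i j)).symm)
  refine map_bijective_of_iso _
    ((HomotopyCategory.quotient _ _).mapIso αE.symm)
    ((HomotopyCategory.quotient _ _).mapIso αF.symm) ?_
  obtain ⟨hfull, hfaith, -⟩ := DSectX.main0997 R
  haveI := hfull
  haveI := hfaith
  exact bijective_of_square' (DerivedCategory.Qh (C := ModuleCat.{u} R))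
    (DerivedCategory.Qh (C := (Spec (CommRingCat.of R)).Modules))
    ((tilde.functor R).mapHomotopyCategory (ComplexShape.up ℤ)) (DCoh.tildeD R)
    (tilde.functor R).mapDerivedCategoryFactorsh
    ((HomotopyCategory.quotient _ _).obj K) ((HomotopyCategory.quotient _ _).obj N)
    (CochainComplex.IsKProjective.Qh_map_bijective K ((HomotopyCategory.quotient _ _).obj N))

end Spec

section Affine

variable {X : Scheme.{u}} [IsAffine X]

/-- **S14112** -/
theorem affine_bijective (E F : CochainComplex X.Modules ℤ) (b : ℤ)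
    (hEb : ∀ i : ℤ, b < i → IsZero (E.X i)) (hE : ∀ i : ℤ, FlatMod.IsFinLocFree (E.X i))
    (hF : ∀ i : ℤ, Coh.IsQCoh (F.X i)) :
    Function.Bijective (fun φ : (HomotopyCategory.quotient X.Modules (ComplexShape.up ℤ)).obj E ⟶
        (HomotopyCategory.quotient X.Modules (ComplexShape.up ℤ)).obj F =>
      (DerivedCategory.Qh (C := X.Modules)).map φ) := by
  let φ : Spec Γ(X, ⊤) ≅ X := X.isoSpec.symm
  let G := Scheme.Modules.restrictFunctor φ.hom
  let G' := Scheme.Modules.restrictFunctor φ.inv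
  have hG : G.FullyFaithful := (AffNull.restrictEquiv φ).fullyFaithfulFunctor
  haveI : G.Full := hG.full
  haveI : G.Faithful := hG.faithful
  haveI := LpullQCL.preservesFiniteLimits_tilde Γ(X, ⊤)
  let e₁ : G ⋙ G' ≅ 𝟭 X.Modules := (AffNull.restrictEquiv φ).unitIso.symm
  let eQ : G.mapHomologicalComplex (ComplexShape.up ℤ) ⋙
      G'.mapHomologicalComplex (ComplexShape.up ℤ) ⋙ (DerivedCategory.Q (C := X.Modules)) ≅
      DerivedCategory.Q :=
    (Functor.associator _ _ _).symm ≪≫
      Functor.isoWhiskerRight (Functor.mapHomologicalComplexCompIso e₁ (ComplexShape.up ℤ) ≪≫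
        Functor.mapHomologicalComplexIdIso _ _) DerivedCategory.Q ≪≫ Functor.leftUnitor _
  let ν : G.mapDerivedCategory ⋙ G'.mapDerivedCategory ≅ 𝟭 (DerivedCategory X.Modules) :=
    Localization.liftNatIso (DerivedCategory.Q (C := X.Modules))
      (HomologicalComplex.quasiIso X.Modules (ComplexShape.up ℤ)) _ _ _ _
      (h₁ := FlatBCH6.liftingComp G G') (h₂ := ⟨Functor.rightUnitor _⟩) eQ
  haveI : G.mapDerivedCategory.Faithful := Functor.Faithful.of_comp_iso ν
  refine bijective_of_square (DerivedCategory.Qh (C := X.Modules))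
    (DerivedCategory.Qh (C := (Spec Γ(X, ⊤)).Modules))
    (G.mapHomotopyCategory (ComplexShape.up ℤ)) G.mapDerivedCategory
    G.mapDerivedCategoryFactorsh _ _ ?_
  exact spec_bijective Γ(X, ⊤) ((G.mapHomologicalComplex _).obj E)
    ((G.mapHomologicalComplex _).obj F) b (fun i hi => G.map_isZero (hEb i hi))
    (fun i => AffNull.isFinLocFree_restrictFunctor φ.hom (hE i))
    (fun i => by
      haveI : (F.X i).IsQuasicoherent := hF i
      exact Scheme.Modules.isQuasicoherent_restrictFunctor φ.hom _)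

/-- **S14114** -/
theorem null_of_comp_quasiIso (E F G : CochainComplex X.Modules ℤ) (b : ℤ)
    (hEb : ∀ i : ℤ, b < i → IsZero (E.X i)) (hE : ∀ i : ℤ, FlatMod.IsFinLocFree (E.X i))
    (hF : ∀ i : ℤ, Coh.IsQCoh (F.X i)) (f : E ⟶ F) (g : F ⟶ G) [QuasiIso g]
    (hgf : Nonempty (Homotopy (f ≫ g) 0)) : Nonempty (Homotopy f 0) := by
  obtain ⟨H⟩ := hgf
  have h1 : (HomotopyCategory.quotient X.Modules (ComplexShape.up ℤ)).map (f ≫ g) = 0 :=
    (HomotopyCategory.eq_of_homotopy _ _ H).trans (Functor.map_zero _ _ _)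
  haveI hiso : IsIso ((DerivedCategory.Qh (C := X.Modules)).map
      ((HomotopyCategory.quotient X.Modules (ComplexShape.up ℤ)).map g)) :=
    inferInstanceAs (IsIso ((DerivedCategory.Q (C := X.Modules)).map g))
  have h2 : (DerivedCategory.Qh (C := X.Modules)).map
      ((HomotopyCategory.quotient X.Modules (ComplexShape.up ℤ)).map f) = 0 := by
    have h3 : (DerivedCategory.Qh (C := X.Modules)).map
        ((HomotopyCategory.quotient X.Modules (ComplexShape.up ℤ)).map f) ≫
        (DerivedCategory.Qh (C := X.Modules)).map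
          ((HomotopyCategory.quotient X.Modules (ComplexShape.up ℤ)).map g) = 0 := by
      rw [← CategoryTheory.Functor.map_comp, ← CategoryTheory.Functor.map_comp, h1,
        Functor.map_zero]
    exact (cancel_mono ((DerivedCategory.Qh (C := X.Modules)).map
      ((HomotopyCategory.quotient X.Modules (ComplexShape.up ℤ)).map g))).1
      (h3.trans zero_comp.symm)
  have h4 : (HomotopyCategory.quotient X.Modules (ComplexShape.up ℤ)).map f = 0 :=
    (affine_bijective E F b hEb hE hF).1 (h2.trans (Functor.map_zero _ _ _).symm)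
  exact ⟨HomotopyCategory.homotopyOfEq _ _ (h4.trans (Functor.map_zero _ _ _).symm)⟩

end Affine

end Groth.Agent.Lib.AffHomL
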