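import Mathlib
set_option autoImplicit false
universe u
set_option linter.style.haveILetI false
open CategoryTheory Limits AlgebraicGeometry

namespace AffImmH4

theorem main1890 (A : Type u) [CommRing A] (V : Scheme.{u}) (j : V ⟶ Spec (CommRingCat.of A))
    [IsImmersion j] [QuasiCompact j] (f : A)
    (haff : IsAffineOpen (j ⁻¹ᵁ PrimeSpectrum.basicOpen f))
    (hcl : IsClosed (Set.range ⇑j ∩ PrimeSpectrum.zeroLocus {f})) : IsAffine V := by
  haveI : CompactSpace V := QuasiCompact.compactSpace_of_compactSpace j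
  haveI : QuasiSeparatedSpace V := quasiSeparatedSpace_of_quasiSeparated j
  haveI : V.IsQuasiAffine := Scheme.IsQuasiAffine.of_isImmersion j
  -- the closed subscheme `V(f)`
  let i0 : Spec (CommRingCat.of (A ⧸ Ideal.span {f})) ⟶ Spec (CommRingCat.of A) :=
    Spec.map (CommRingCat.ofHom (Ideal.Quotient.mk (Ideal.span {f})))
  haveI : IsClosedImmersion i0 :=
    IsClosedImmersion.spec_of_surjective _ Ideal.Quotient.mk_surjective
  have hrange_i0 : Set.range i0 = PrimeSpectrum.zeroLocus {f} := by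
    have h1 := range_comap_of_surjective (A ⧸ Ideal.span {f})
      (Ideal.Quotient.mk (Ideal.span {f})) Ideal.Quotient.mk_surjective
    rw [Ideal.mk_ker, PrimeSpectrum.zeroLocus_span] at h1
    exact h1
  have hz_range : Set.range (pullback.fst j i0) = j ⁻¹' (PrimeSpectrum.zeroLocus {f}) := by
    rw [Scheme.Pullback.range_fst, hrange_i0]
  haveI : IsClosedImmersion (pullback.fst j i0 ≫ j) := by
    apply IsClosedImmersion.of_isPreimmersion
    rw [Scheme.Pullback.range_fst_comp, hrange_i0]; exact hcl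
  -- `j` factors through `Spec Γ(V, ⊤)`
  have hj : V.toSpecΓ ≫ (Spec.map j.appTop ≫
      Spec.map (Scheme.ΓSpecIso (CommRingCat.of A)).inv) = j := by
    rw [← Scheme.toSpecΓ_naturality_assoc, toSpecΓ_SpecMap_ΓSpecIso_inv, Category.comp_id]
  haveI : IsClosedImmersion ((pullback.fst j i0 ≫ V.toSpecΓ) ≫ (Spec.map j.appTop ≫
      Spec.map (Scheme.ΓSpecIso (CommRingCat.of A)).inv)) := by
    rw [Category.assoc, hj]; infer_instance
  haveI : IsClosedImmersion (pullback.fst j i0 ≫ V.toSpecΓ) :=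
    IsClosedImmersion.of_comp (pullback.fst j i0 ≫ V.toSpecΓ) (Spec.map j.appTop ≫
      Spec.map (Scheme.ΓSpecIso (CommRingCat.of A)).inv)
  have hT' : IsClosed (V.toSpecΓ '' (j ⁻¹' PrimeSpectrum.zeroLocus {f})) := by
    rw [← hz_range, ← Set.range_comp]
    have := (pullback.fst j i0 ≫ V.toSpecΓ).isClosedEmbedding.isClosed_range
    simpa [Scheme.Hom.comp_base] using this
  -- surjectivity of `V.toSpecΓ`
  refine ⟨(isIso_iff_isOpenImmersion_and_surjective V.toSpecΓ).mpr ⟨inferInstance, ⟨fun x => ?_⟩⟩⟩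
  by_contra hx
  have hxT : x ∈ (V.toSpecΓ '' (j ⁻¹' PrimeSpectrum.zeroLocus {f}))ᶜ :=
    fun ⟨v, _, hv⟩ => hx ⟨v, hv⟩
  obtain ⟨_, ⟨g, rfl⟩, hxg, hg⟩ :=
    PrimeSpectrum.isTopologicalBasis_basic_opens.exists_subset_of_mem_open hxT hT'.isOpen_compl
  have hle : V.basicOpen g ≤ j ⁻¹ᵁ PrimeSpectrum.basicOpen f := by
    intro v hv
    rw [← Scheme.toSpecΓ_preimage_basicOpen] at hv
    have h2 := hg hv
    by_contra h3
    refine h2 ⟨v, ?_, rfl⟩
    have h5 : ∀ q : PrimeSpectrum A, q ∉ PrimeSpectrum.basicOpen f →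
        q ∈ PrimeSpectrum.zeroLocus {f} := by
      intro q hq
      rw [PrimeSpectrum.mem_zeroLocus, Set.singleton_subset_iff]
      by_contra h4
      exact hq h4
    exact h5 (j v) h3
  have haffg : IsAffineOpen (V.basicOpen g) := by
    have := haff.basicOpen (V.presheaf.map (homOfLE le_top).op g)
    rw [Scheme.basicOpen_res] at this
    rwa [inf_eq_right.mpr hle] at this
  haveI := isLocalization_basicOpen_of_qcqs (X := V) (U := ⊤) isCompact_univ
    isQuasiSeparated_univ g
  have hrange : Set.range ⇑(haffg.fromSpec ≫ V.toSpecΓ) =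
      ((PrimeSpectrum.basicOpen g : TopologicalSpace.Opens _) : Set (PrimeSpectrum Γ(V, ⊤))) := by
    rw [haffg.fromSpec_toSpecΓ]
    exact PrimeSpectrum.localization_away_comap_range Γ(V, V.basicOpen g) g
  have hmem : x ∈ Set.range ⇑(haffg.fromSpec ≫ V.toSpecΓ) := by rw [hrange]; exact hxg
  obtain ⟨y, hy⟩ := hmem
  exact hx ⟨haffg.fromSpec y, hy⟩

end AffImmH4
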