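import Mathlib
import Groth.Prelude.Def_RegImm
import Groth.Agent.Lib.RegImmComp_helper2
import Groth.Agent.Lib.RegKindFlat_helper2

set_option autoImplicit false

universe u

open CategoryTheory CategoryTheory.Limits AlgebraicGeometry TopologicalSpace

namespace Groth.Agent.Lib.DiagRegH8

/-- local data of a regular immersion of kind `κ` and codimension `d` on an open `U`. -/
def DataOn (κ : RegImm.Kind) (d : ℕ) {Z X : Scheme.{u}} (i : Z ⟶ X) (U : X.Opens) : Prop :=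
  IsAffineOpen U ∧ IsClosedImmersion (i ∣_ U) ∧
    ∃ rs : List Γ(X, U), rs.length = d ∧ κ.Seq Γ(X, U) rs ∧
      RingHom.ker (i.app U).hom = Ideal.ofList rs

theorem isRegularImmersionOfCodim_iff (κ : RegImm.Kind) (d : ℕ) {Z X : Scheme.{u}} (i : Z ⟶ X) :
    RegImm.IsRegularImmersionOfCodim κ d i ↔
      IsImmersion i ∧ ∀ z : Z, ∃ U : X.Opens, i z ∈ U ∧ DataOn κ d i U := by
  constructor
  · rintro ⟨h1, h2⟩
    refine ⟨h1, fun z => ?_⟩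
    obtain ⟨U, hz, hc, rs, hl, hs, hk⟩ := h2 z
    exact ⟨U.1, hz, U.2, hc, rs, hl, hs, hk⟩
  · rintro ⟨h1, h2⟩
    refine ⟨h1, fun z => ?_⟩
    obtain ⟨U, hz, hU, hc, rs, hl, hs, hk⟩ := h2 z
    exact ⟨⟨U, hU⟩, hz, hc, rs, hl, hs, hk⟩

/-- transport of sequences of kind `κ` along a ring isomorphism -/
theorem seq_map_ringEquiv (κ : RegImm.Kind) {R C : Type u} [CommRing R] [CommRing C]
    (e : R ≃+* C) (rs : List R) (h : κ.Seq R rs) (hne : Ideal.ofList rs ≠ ⊤) :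
    κ.Seq C (rs.map e) := by
  have hflat : (e : R →+* C).Flat := RingHom.Flat.of_bijective e.bijective
  refine Groth.Agent.Lib.RegKindFlat.seq_map_of_flat κ (e : R →+* C) hflat rs h ?_
  intro htop
  apply hne
  have : Ideal.map (e : R →+* C) (Ideal.ofList rs) = ⊤ := by
    rw [Ideal.map_ofList]; exact htop
  have h2 := congrArg (Ideal.comap (e : R →+* C)) this
  rw [Ideal.comap_map_of_bijective (e : R →+* C) e.bijective, Ideal.comap_top] at h2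
  exact h2

variable {Z X Z₁ X₁ : Scheme.{u}}

theorem isIso_restrict_of_le (β : X₁ ⟶ X) [IsOpenImmersion β] (V : X.Opens)
    (hV : V ≤ β.opensRange) : IsIso (β ∣_ V) := by
  haveI : IsOpenImmersion (β ∣_ V) := inferInstance
  haveI : Epi (β ∣_ V).base := by
    rw [TopCat.epi_iff_surjective]
    rintro ⟨x, hx⟩
    obtain ⟨y, hy⟩ := hV hx
    refine ⟨⟨y, by show β y ∈ V; rw [hy]; exact hx⟩, ?_⟩
    apply Subtype.ext
    have := congrArg (fun t => t.base ⟨y, by show β y ∈ V; rw [hy]; exact hx⟩)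
      (morphismRestrict_ι β V)
    simpa using this.trans hy
  exact IsOpenImmersion.isIso _

theorem closedImm_iff (i : Z ⟶ X) (i₁ : Z₁ ⟶ X₁) (α : Z₁ ⟶ Z) (β : X₁ ⟶ X)
    [IsOpenImmersion α] [IsOpenImmersion β] (comm : α ≫ i = i₁ ≫ β) (V : X.Opens)
    (hV : V ≤ β.opensRange) (hZ : i ⁻¹ᵁ V ≤ α.opensRange) :
    IsClosedImmersion (i ∣_ V) ↔ IsClosedImmersion (i₁ ∣_ (β ⁻¹ᵁ V)) := by
  haveI := isIso_restrict_of_le β V hV
  haveI := isIso_restrict_of_le α (i ⁻¹ᵁ V) hZ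
  have h1 : (α ≫ i) ∣_ V = α ∣_ (i ⁻¹ᵁ V) ≫ i ∣_ V := morphismRestrict_comp _ _ _
  have h2 : (i₁ ≫ β) ∣_ V = i₁ ∣_ (β ⁻¹ᵁ V) ≫ β ∣_ V := morphismRestrict_comp _ _ _
  rw [← MorphismProperty.cancel_left_of_respectsIso @IsClosedImmersion (α ∣_ (i ⁻¹ᵁ V)) (i ∣_ V),
    ← h1, ← MorphismProperty.cancel_right_of_respectsIso @IsClosedImmersion
      (i₁ ∣_ (β ⁻¹ᵁ V)) (β ∣_ V), ← h2]
  have : ∀ (c c' : Z₁ ⟶ X), c = c' → (IsClosedImmersion (c ∣_ V) ↔ IsClosedImmersion (c' ∣_ V)) := by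
    rintro c c' rfl; exact Iff.rfl
  exact this _ _ comm

theorem ker_eq_comap (i : Z ⟶ X) (i₁ : Z₁ ⟶ X₁) (α : Z₁ ⟶ Z) (β : X₁ ⟶ X)
    [IsOpenImmersion α] [IsOpenImmersion β] (comm : α ≫ i = i₁ ≫ β) (V : X.Opens)
    (hZ : i ⁻¹ᵁ V ≤ α.opensRange) :
    RingHom.ker (i.app V).hom =
      Ideal.comap (β.app V).hom (RingHom.ker (i₁.app (β ⁻¹ᵁ V)).hom) := by
  haveI : IsIso (α.app (i ⁻¹ᵁ V)) := Scheme.Hom.isIso_app α _ hZ
  have h1 : RingHom.ker ((α ≫ i).app V).hom = RingHom.ker (i.app V).hom := by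
    have : ((α ≫ i).app V).hom = (α.app (i ⁻¹ᵁ V)).hom.comp (i.app V).hom := by
      rw [Scheme.Hom.comp_app]; rfl
    rw [this]
    exact RingHom.ker_comp_of_injective _
      (ConcreteCategory.bijective_of_isIso (α.app (i ⁻¹ᵁ V))).1
  have h2 : RingHom.ker ((i₁ ≫ β).app V).hom =
      Ideal.comap (β.app V).hom (RingHom.ker (i₁.app (β ⁻¹ᵁ V)).hom) := by
    have : ((i₁ ≫ β).app V).hom = (i₁.app (β ⁻¹ᵁ V)).hom.comp (β.app V).hom := by
      rw [Scheme.Hom.comp_app]; rfl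
    rw [this]
    rfl
  rw [← h1, ← h2]
  have : ∀ (c c' : Z₁ ⟶ X), c = c' → RingHom.ker (c.app V).hom = RingHom.ker (c'.app V).hom := by
    rintro c c' rfl; rfl
  exact this _ _ comm

/-- **Open transfer.** -/
theorem dataOn_iff (κ : RegImm.Kind) (d : ℕ) (i : Z ⟶ X) (i₁ : Z₁ ⟶ X₁) (α : Z₁ ⟶ Z)
    (β : X₁ ⟶ X) [IsOpenImmersion α] [IsOpenImmersion β] (comm : α ≫ i = i₁ ≫ β) (V : X.Opens)
    (hV : V ≤ β.opensRange) (hZ : i ⁻¹ᵁ V ≤ α.opensRange) (z : Z) (hz : i z ∈ V) :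
    DataOn κ d i V ↔ DataOn κ d i₁ (β ⁻¹ᵁ V) := by
  haveI : IsIso (β.app V) := Scheme.Hom.isIso_app β _ hV
  let e : Γ(X, V) ≃+* Γ(X₁, β ⁻¹ᵁ V) := (asIso (β.app V)).commRingCatIsoToRingEquiv
  have hker := ker_eq_comap i i₁ α β comm V hZ
  have hker' : RingHom.ker (i.app V).hom =
      Ideal.comap (e : Γ(X, V) →+* Γ(X₁, β ⁻¹ᵁ V)) (RingHom.ker (i₁.app (β ⁻¹ᵁ V)).hom) := hker
  have hmap : Ideal.map (e : Γ(X, V) →+* Γ(X₁, β ⁻¹ᵁ V)) (RingHom.ker (i.app V).hom) =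
      RingHom.ker (i₁.app (β ⁻¹ᵁ V)).hom := by
    rw [hker', Ideal.map_comap_of_surjective (e : Γ(X, V) →+* Γ(X₁, β ⁻¹ᵁ V)) e.surjective]
  haveI : Nonempty ↥(i ⁻¹ᵁ V) := ⟨⟨z, hz⟩⟩
  have hne1 : RingHom.ker (i.app V).hom ≠ ⊤ := RingHom.ker_ne_top _
  have hne2 : RingHom.ker (i₁.app (β ⁻¹ᵁ V)).hom ≠ ⊤ := by
    intro h
    apply hne1
    rw [hker', h, Ideal.comap_top]
  constructor
  · rintro ⟨hVa, hc, rs, hl, hs, hk⟩
    refine ⟨hVa.preimage_of_isOpenImmersion β hV,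
      (closedImm_iff i i₁ α β comm V hV hZ).mp hc, rs.map e, by simp [hl], ?_, ?_⟩
    · exact seq_map_ringEquiv κ e rs hs (hk ▸ hne1)
    · rw [← hmap, hk, Ideal.map_ofList]
      rfl
  · rintro ⟨hVa, hc, rs, hl, hs, hk⟩
    have hVa' : IsAffineOpen V := by
      have h1 := hVa.image_of_isOpenImmersion β
      rwa [β.image_preimage_eq_opensRange_inf, inf_eq_right.mpr hV] at h1
    refine ⟨hVa', (closedImm_iff i i₁ α β comm V hV hZ).mpr hc, rs.map e.symm, by simp [hl], ?_, ?_⟩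
    · exact seq_map_ringEquiv κ e.symm rs hs (hk ▸ hne2)
    · rw [hker', hk]
      have : Ideal.comap (e : Γ(X, V) →+* Γ(X₁, β ⁻¹ᵁ V)) (Ideal.ofList rs) =
          Ideal.map (e.symm : Γ(X₁, β ⁻¹ᵁ V) →+* Γ(X, V)) (Ideal.ofList rs) :=
        (Ideal.map_symm (I := Ideal.ofList rs) (f := e)).symm
      rw [this, Ideal.map_ofList]
      rfl

end Groth.Agent.Lib.DiagRegH8
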