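import Mathlib
import Groth.Prelude.Def_RegImm
import Groth.Agent.Lib.DiagReg2_helper8

set_option autoImplicit false

universe u

open CategoryTheory CategoryTheory.Limits AlgebraicGeometry TopologicalSpace

namespace Groth.Agent.Lib.DiagRegH8

open Groth.Agent.Lib.RegImmComp

variable {Z X Y : Scheme.{u}}

/-- shrinking the data of a regular immersion of any kind to a basic open meeting the image -/
theorem dataOn_basicOpen (κ : RegImm.Kind) (d : ℕ) (i : Z ⟶ X) (U : X.Opens)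
    (hD : DataOn κ d i U) (a : Γ(X, U)) (z : Z) (hz : i z ∈ X.basicOpen a) :
    DataOn κ d i (X.basicOpen a) := by
  obtain ⟨hU, hcU, rs, hl, hrs, hkU⟩ := hD
  have hWU : X.basicOpen a ≤ U := X.basicOpen_le a
  have hWaff : IsAffineOpen (X.basicOpen a) := hU.basicOpen a
  obtain ⟨hZU, -⟩ := affine_and_surjective i hU hcU
  have hk := ker_app_basicOpen i hU hZU a (X.basicOpen a) rfl hWU
  haveI : Nonempty ↥(i ⁻¹ᵁ X.basicOpen a) := ⟨⟨z, hz⟩⟩
  have hne : RingHom.ker (i.app (X.basicOpen a)).hom ≠ ⊤ := RingHom.ker_ne_top _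
  refine ⟨hWaff, isClosedImmersion_restrict_of_le i hWU hcU,
    rs.map (X.presheaf.map (homOfLE hWU).op).hom, by simp [hl], ?_, ?_⟩
  · have hflat : (X.presheaf.map (homOfLE hWU).op).hom.Flat := by
      letI := (X.presheaf.map (homOfLE hWU).op).hom.toAlgebra
      haveI : IsLocalization (Submonoid.powers a) Γ(X, X.basicOpen a) :=
        hU.isLocalization_of_eq_basicOpen a (homOfLE hWU) rfl
      exact IsLocalization.flat _ (Submonoid.powers a)
    refine Groth.Agent.Lib.RegKindFlat.seq_map_of_flat κ _ hflat rs hrs ?_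
    rw [← Ideal.map_ofList, ← hkU, ← hk]
    exact hne
  · rw [hk, hkU, Ideal.map_ofList]

/-- precomposing with an open immersion -/
theorem dataOn_comp_openImmersion (κ : RegImm.Kind) (d : ℕ) (i : Y ⟶ X) (j : Z ⟶ Y)
    [IsOpenImmersion j] (z : Z) (U : X.Opens) (hzU : i (j z) ∈ U) (hD : DataOn κ d i U) :
    ∃ W : X.Opens, (j ≫ i) z ∈ W ∧ DataOn κ d (j ≫ i) W := by
  obtain ⟨hU, hcU, -⟩ := id hD
  obtain ⟨hYU, hsurjU⟩ := affine_and_surjective i hU hcU
  have hmem : j z ∈ j.opensRange ⊓ i ⁻¹ᵁ U := ⟨⟨z, rfl⟩, hzU⟩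
  obtain ⟨b, hb1, hb2⟩ := hYU.exists_basicOpen_le
    (V := j.opensRange ⊓ i ⁻¹ᵁ U) ⟨j z, hmem⟩ hzU
  obtain ⟨a, ha⟩ := hsurjU b
  have hW' : i ⁻¹ᵁ X.basicOpen a = Y.basicOpen b := by
    rw [Scheme.preimage_basicOpen]
    exact congrArg Y.basicOpen ha
  have hza : i (j z) ∈ X.basicOpen a := by
    show j z ∈ i ⁻¹ᵁ X.basicOpen a
    rw [hW']; exact hb2
  have hD' := dataOn_basicOpen κ d i U hD a (j z) hza
  refine ⟨X.basicOpen a, hza, ?_⟩
  have key := (dataOn_iff κ d i (j ≫ i) j (𝟙 X) (by simp) (X.basicOpen a)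
    (by intro x _; exact ⟨x, rfl⟩) (by rw [hW']; exact hb1.trans inf_le_left) (j z) hza).mp hD'
  exact key

/-- Spec-level data -/
theorem dataOn_Spec (κ : RegImm.Kind) (d : ℕ) {B A : CommRingCat.{u}} (φ : B ⟶ A)
    (hφ : Function.Surjective φ.hom) [Nontrivial A] (rs : List B) (hl : rs.length = d)
    (hrs : κ.Seq B rs) (hk : RingHom.ker φ.hom = Ideal.ofList rs) :
    DataOn κ d (Spec.map φ) ⊤ := by
  haveI : IsClosedImmersion (Spec.map φ) := IsClosedImmersion.spec_of_surjective φ hφ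
  let e : B ≃+* Γ(Spec B, ⊤) := (Scheme.ΓSpecIso B).symm.commRingCatIsoToRingEquiv
  have he : ∀ x, e x = (Scheme.ΓSpecIso B).inv.hom x := fun _ => rfl
  have hnat : ∀ x : B, ((Spec.map φ).app ⊤).hom (e x) = (Scheme.ΓSpecIso A).inv.hom (φ.hom x) := by
    intro x
    have := congrArg (fun t => t.hom x) (Scheme.ΓSpecIso_inv_naturality φ)
    exact this.symm
  have hinjA : Function.Injective (Scheme.ΓSpecIso A).inv.hom :=
    (ConcreteCategory.bijective_of_isIso (Scheme.ΓSpecIso A).inv).1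
  have hker : RingHom.ker ((Spec.map φ).app ⊤).hom =
      Ideal.map (e : B →+* Γ(Spec B, ⊤)) (RingHom.ker φ.hom) := by
    ext y
    obtain ⟨x, rfl⟩ := e.surjective y
    rw [RingHom.mem_ker, hnat]
    constructor
    · intro h
      have hx : φ.hom x = 0 := hinjA (h.trans (map_zero _).symm)
      exact Ideal.mem_map_of_mem _ hx
    · intro h
      have h2 : x ∈ RingHom.ker φ.hom := by
        obtain ⟨y, hy, hyx⟩ := (Ideal.mem_map_iff_of_surjective (e : B →+* Γ(Spec B, ⊤))
          e.surjective).mp h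
        have : y = x := e.injective hyx
        exact this ▸ hy
      have h3 : φ.hom x = 0 := h2
      exact (congrArg (Scheme.ΓSpecIso A).inv.hom h3).trans (map_zero _)
  have hne : Ideal.ofList rs ≠ ⊤ := by
    rw [← hk]; exact RingHom.ker_ne_top _
  refine ⟨isAffineOpen_top (Spec B), inferInstance, rs.map e, by simp [hl],
    seq_map_ringEquiv κ e rs hrs hne, ?_⟩
  rw [hker, hk, Ideal.map_ofList]
  rfl

end Groth.Agent.Lib.DiagRegH8
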