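import Mathlib
import Groth.Prelude.Def_RegImm
import Groth.Agent.Lib.DiagReg3_helper8
import Groth.Agent.Lib.RegImmBC_helper2

set_option autoImplicit false

universe u

open CategoryTheory CategoryTheory.Limits AlgebraicGeometry TopologicalSpace

namespace Groth.Agent.Lib.DiagRegH8

variable {W P S : Scheme.{u}}

/-- flat base change of data, in `DataOn` form (helper2's `bc_at`). -/
theorem dataOn_baseChange (κ : RegImm.Kind) (d : ℕ) {X Y X' Y' : Scheme.{u}} (i : Y ⟶ X)
    (g : X' ⟶ X) [Flat g] (i' : Y' ⟶ X') (g' : Y' ⟶ Y) (hsq : IsPullback g' i' i g) (y' : Y')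
    (U : X.Opens) (hxU : i (g' y') ∈ U) (hD : DataOn κ d i U) :
    ∃ U' : X'.Opens, i' y' ∈ U' ∧ DataOn κ d i' U' := by
  obtain ⟨hU, hc, rs, hl, hs, hk⟩ := hD
  obtain ⟨U', h1, h2, rs', h3, h4, h5⟩ :=
    Groth.Agent.Lib.RegImmBC.bc_at κ i g i' g' hsq y' ⟨U, hU⟩ hxU hc rs hs hk
  exact ⟨U'.1, h1, U'.2, h2, rs', h3.trans hl, h4, h5⟩

/-- If the diagonal of `p : P ⟶ S` is everywhere a regular immersion of kind `κ` and codimension
`d`, then so is the diagonal of `g ≫ p` for every étale `g : W ⟶ P`. -/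
theorem dataOn_diagonal_of_etale (κ : RegImm.Kind) (d : ℕ) (g : W ⟶ P) (p : P ⟶ S) [Etale g]
    (hP : ∀ x : P, ∃ U : (pullback p p).Opens, pullback.diagonal p x ∈ U ∧
      DataOn κ d (pullback.diagonal p) U) (w : W) :
    ∃ U : (pullback (g ≫ p) (g ≫ p)).Opens, pullback.diagonal (g ≫ p) w ∈ U ∧
      DataOn κ d (pullback.diagonal (g ≫ p)) U := by
  have hsq := pullback_map_diagonal_isPullback g g p
  set i' := pullback.map g g (g ≫ p) (g ≫ p) (𝟙 W) (𝟙 W) p (Category.id_comp _).symm
    (Category.id_comp _).symm with hi'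
  set G := pullback.map (g ≫ p) (g ≫ p) p p g g (𝟙 S) (Category.comp_id _) (Category.comp_id _)
    with hG
  haveI : Flat g := inferInstance
  haveI : Flat G := by
    have := MorphismProperty.pullbackMap (P := @Flat) (f := g ≫ p) (g := g ≫ p) (f' := p) (g' := p)
      (i₁ := g) (i₂ := g) inferInstance inferInstance rfl rfl
    exact this
  have hdiag : pullback.diagonal (g ≫ p) = pullback.diagonal g ≫ i' := by
    apply pullback.hom_ext
    · rw [pullback.diagonal_fst, Category.assoc, hi']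
      have : pullback.map g g (g ≫ p) (g ≫ p) (𝟙 W) (𝟙 W) p (Category.id_comp _).symm
          (Category.id_comp _).symm ≫ pullback.fst (g ≫ p) (g ≫ p) = pullback.fst g g ≫ 𝟙 W :=
        pullback.lift_fst _ _ _
      rw [this]; simp
    · rw [pullback.diagonal_snd, Category.assoc, hi']
      have : pullback.map g g (g ≫ p) (g ≫ p) (𝟙 W) (𝟙 W) p (Category.id_comp _).symm
          (Category.id_comp _).symm ≫ pullback.snd (g ≫ p) (g ≫ p) = pullback.snd g g ≫ 𝟙 W :=
        pullback.lift_snd _ _ _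
      rw [this]; simp
  let y' := pullback.diagonal g w
  have hgy : (pullback.fst g g ≫ g) y' = g w := by
    have : pullback.diagonal g ≫ pullback.fst g g ≫ g = g := by simp
    exact congrArg (fun t : W ⟶ P => t w) this
  obtain ⟨U, hU1, hU2⟩ := hP (g w)
  obtain ⟨U', hU'1, hU'2⟩ := dataOn_baseChange κ d (pullback.diagonal p) G i'
    (pullback.fst g g ≫ g) hsq y' U (by rw [hgy]; exact hU1) hU2
  obtain ⟨V, hV1, hV2⟩ := dataOn_comp_openImmersion κ d i' (pullback.diagonal g) w U' hU'1 hU'2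
  rw [hdiag]
  exact ⟨V, hV1, hV2⟩

end Groth.Agent.Lib.DiagRegH8
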