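import Mathlib

set_option autoImplicit false

universe u

open MvPolynomial RingTheory.Sequence

namespace Groth.Agent.Lib.DiagRegH8

variable (k : Type u) [Field k] (m : ℕ)

/-- the generators `X_{inl i} - X_{inr i}` of the diagonal ideal -/
noncomputable def dgen (i : Fin m) : MvPolynomial (Fin m ⊕ Fin m) k :=
  X (Sum.inl i) - X (Sum.inr i)

/-- partial evaluation: `X_{inl i} ↦ X_{inr i}` for `i < j`. -/
noncomputable def ev (j : ℕ) : MvPolynomial (Fin m ⊕ Fin m) k →ₐ[k] MvPolynomial (Fin m ⊕ Fin m) k :=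
  aeval (fun s : Fin m ⊕ Fin m => Sum.elim (fun i : Fin m => if i.val < j then
    (X (Sum.inr i) : MvPolynomial (Fin m ⊕ Fin m) k) else X (Sum.inl i)) (fun i => X (Sum.inr i)) s)

/-- the codiagonal map -/
noncomputable def codiag : MvPolynomial (Fin m ⊕ Fin m) k →ₐ[k] MvPolynomial (Fin m) k :=
  aeval (fun s : Fin m ⊕ Fin m => Sum.elim (fun i => (X i : MvPolynomial (Fin m) k)) (fun i => X i) s)

noncomputable def dlist : List (MvPolynomial (Fin m ⊕ Fin m) k) := List.ofFn (dgen k m)

theorem length_dlist : (dlist k m).length = m := by simp [dlist]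

theorem mem_take_iff (j : ℕ) (x : MvPolynomial (Fin m ⊕ Fin m) k) :
    x ∈ (dlist k m).take j ↔ ∃ i : Fin m, i.val < j ∧ dgen k m i = x := by
  rw [List.mem_take_iff_getElem]
  constructor
  · rintro ⟨i, hi, rfl⟩
    have hi' : i < m := by
      have := (lt_min_iff.mp hi).2
      simpa [dlist] using this
    refine ⟨⟨i, hi'⟩, (lt_min_iff.mp hi).1, ?_⟩
    simp [dlist]
  · rintro ⟨i, hij, rfl⟩
    refine ⟨i.val, lt_min_iff.mpr ⟨hij, by simp [dlist]⟩, ?_⟩
    simp [dlist]

theorem dgen_mem (j : ℕ) (i : Fin m) (hi : i.val < j) :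
    dgen k m i ∈ Ideal.ofList ((dlist k m).take j) :=
  Ideal.subset_span ((mem_take_iff k m j _).mpr ⟨i, hi, rfl⟩)

theorem sub_ev_mem (j : ℕ) (f : MvPolynomial (Fin m ⊕ Fin m) k) :
    f - ev k m j f ∈ Ideal.ofList ((dlist k m).take j) := by
  induction f using MvPolynomial.induction_on with
  | C a => simp [ev]
  | add p q hp hq =>
    have : p + q - ev k m j (p + q) = (p - ev k m j p) + (q - ev k m j q) := by
      rw [map_add]; ring
    rw [this]
    exact Ideal.add_mem _ hp hq
  | mul_X p s hp =>
    have : p * X s - ev k m j (p * X s) =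
        (p - ev k m j p) * X s + ev k m j p * (X s - ev k m j (X s)) := by
      rw [map_mul]; ring
    rw [this]
    refine Ideal.add_mem _ (Ideal.mul_mem_right _ _ hp) (Ideal.mul_mem_left _ _ ?_)
    rcases s with i | i
    · by_cases hi : i.val < j
      · have : (X (Sum.inl i) : MvPolynomial (Fin m ⊕ Fin m) k) - ev k m j (X (Sum.inl i)) =
            dgen k m i := by simp [ev, hi, dgen]
        rw [this]
        exact dgen_mem k m j i hi
      · have : (X (Sum.inl i) : MvPolynomial (Fin m ⊕ Fin m) k) - ev k m j (X (Sum.inl i)) = 0 := by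
          simp [ev, hi]
        rw [this]
        exact Ideal.zero_mem _
    · have : (X (Sum.inr i) : MvPolynomial (Fin m ⊕ Fin m) k) - ev k m j (X (Sum.inr i)) = 0 := by
        simp [ev]
      rw [this]
      exact Ideal.zero_mem _

theorem ev_eq_zero_of_mem (j : ℕ) (f : MvPolynomial (Fin m ⊕ Fin m) k)
    (hf : f ∈ Ideal.ofList ((dlist k m).take j)) : ev k m j f = 0 := by
  have hle : Ideal.ofList ((dlist k m).take j) ≤ RingHom.ker (ev k m j).toRingHom := by
    apply Ideal.span_le.mpr
    intro x hx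
    obtain ⟨i, hi, rfl⟩ := (mem_take_iff k m j x).mp hx
    simp [ev, hi, dgen]
  exact hle hf

theorem mem_iff_ev (j : ℕ) (f : MvPolynomial (Fin m ⊕ Fin m) k) :
    f ∈ Ideal.ofList ((dlist k m).take j) ↔ ev k m j f = 0 := by
  refine ⟨ev_eq_zero_of_mem k m j f, fun h => ?_⟩
  have := sub_ev_mem k m j f
  rwa [h, sub_zero] at this

theorem dgen_ne_zero (i : Fin m) : dgen k m i ≠ 0 := by
  intro h
  have h1 : (X (Sum.inl i) : MvPolynomial (Fin m ⊕ Fin m) k) = X (Sum.inr i) := sub_eq_zero.mp h
  have := MvPolynomial.X_injective h1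
  exact Sum.inl_ne_inr this

theorem isWeaklyRegular_dlist : IsWeaklyRegular (MvPolynomial (Fin m ⊕ Fin m) k) (dlist k m) := by
  rw [isWeaklyRegular_iff_Fin]
  intro i
  have him : i.val < m := by
    have := i.isLt
    simpa [dlist] using this
  have hget : (dlist k m)[i] = dgen k m ⟨i.val, him⟩ := by
    rw [Fin.getElem_fin]
    simp only [dlist, List.getElem_ofFn]
  rw [hget]
  intro a b hab
  induction a using Submodule.Quotient.induction_on with | _ a =>
  induction b using Submodule.Quotient.induction_on with | _ b =>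
  simp only [← Submodule.Quotient.mk_smul] at hab
  rw [Submodule.Quotient.eq] at hab ⊢
  rw [smul_eq_mul, Ideal.mul_top] at hab ⊢
  rw [mem_iff_ev] at hab ⊢
  rw [smul_eq_mul, smul_eq_mul, ← mul_sub, map_mul] at hab
  have hev : ev k m i.val (dgen k m ⟨i.val, him⟩) = dgen k m ⟨i.val, him⟩ := by
    simp [ev, dgen]
  rw [hev] at hab
  exact (mul_eq_zero.mp hab).resolve_left (dgen_ne_zero k m _)

theorem take_all : (dlist k m).take m = dlist k m := by
  apply List.take_of_length_le
  simp [dlist]

theorem ker_codiag : RingHom.ker (codiag k m).toRingHom = Ideal.ofList (dlist k m) := by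
  have hev : ∀ f, ev k m m f = rename Sum.inr (codiag k m f) := by
    intro f
    have : ev k m m = (rename Sum.inr : MvPolynomial (Fin m) k →ₐ[k] _).comp (codiag k m) := by
      apply MvPolynomial.algHom_ext
      intro s
      rcases s with i | i <;> simp [ev, codiag]
    rw [this]; rfl
  apply le_antisymm
  · intro f hf
    rw [← take_all, mem_iff_ev, hev]
    have : codiag k m f = 0 := hf
    rw [this, map_zero]
  · apply Ideal.span_le.mpr
    intro x hx
    rw [← take_all] at hx
    obtain ⟨i, -, rfl⟩ := (mem_take_iff k m m x).mp hx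
    simp [codiag, dgen]

theorem codiag_surjective : Function.Surjective (codiag k m) := by
  intro p
  refine ⟨rename Sum.inl p, ?_⟩
  have : (codiag k m).comp (rename Sum.inl : MvPolynomial (Fin m) k →ₐ[k] _) = AlgHom.id k _ := by
    apply MvPolynomial.algHom_ext
    intro i
    simp [codiag]
  exact DFunLike.congr_fun this p

theorem isRegular_dlist : IsRegular (MvPolynomial (Fin m ⊕ Fin m) k) (dlist k m) := by
  refine ⟨isWeaklyRegular_dlist k m, ?_⟩
  rw [smul_eq_mul, Ideal.mul_top, ← ker_codiag]
  intro h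
  exact RingHom.ker_ne_top _ h.symm

end Groth.Agent.Lib.DiagRegH8
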