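import Mathlib
import Groth.Prelude.Def_RegImm
import Groth.Agent.Lib.DiagReg1_helper8
import Groth.Agent.Lib.DiagReg3_helper8

set_option autoImplicit false

universe u

open CategoryTheory CategoryTheory.Limits AlgebraicGeometry TopologicalSpace TensorProduct

namespace Groth.Agent.Lib.DiagRegH8

variable (k : Type u) [Field k] (m : ℕ)

theorem codiag_comp_tensorEquivSum :
    (codiag k m).comp (MvPolynomial.tensorEquivSum k (Fin m) (Fin m) k).toAlgHom =
      Algebra.TensorProduct.lmul' k := by
  apply Algebra.TensorProduct.ext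
  · apply MvPolynomial.algHom_ext
    intro i
    simp [codiag]
  · apply MvPolynomial.algHom_ext
    intro i
    simp [codiag]

/-- the diagonal of affine space over a field is a regular immersion of codimension `m`. -/
theorem dataOn_diagonal_affineSpace (x : Spec (CommRingCat.of (MvPolynomial (Fin m) k))) :
    ∃ U : (pullback (Spec.map (CommRingCat.ofHom (algebraMap k (MvPolynomial (Fin m) k))))
        (Spec.map (CommRingCat.ofHom (algebraMap k (MvPolynomial (Fin m) k))))).Opens,
      pullback.diagonal (Spec.map (CommRingCat.ofHom (algebraMap k (MvPolynomial (Fin m) k)))) x ∈ U ∧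
      DataOn RegImm.Kind.regular m
        (pullback.diagonal (Spec.map (CommRingCat.ofHom (algebraMap k (MvPolynomial (Fin m) k))))) U := by
  refine ⟨⊤, trivial, ?_⟩
  set Pol := MvPolynomial (Fin m) k with hPol
  set T := MvPolynomial (Fin m ⊕ Fin m) k with hT
  let e : Pol ⊗[k] Pol ≃ₐ[k] T := MvPolynomial.tensorEquivSum k (Fin m) (Fin m) k
  let φ : CommRingCat.of T ⟶ CommRingCat.of Pol := CommRingCat.ofHom (codiag k m).toRingHom
  let ε : CommRingCat.of (Pol ⊗[k] Pol) ≅ CommRingCat.of T := e.toRingEquiv.toCommRingCatIso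
  let β : Spec (CommRingCat.of T) ⟶ pullback (Spec.map (CommRingCat.ofHom (algebraMap k Pol)))
      (Spec.map (CommRingCat.ofHom (algebraMap k Pol))) :=
    Spec.map ε.hom ≫ (pullbackSpecIso k Pol Pol).inv
  haveI : IsIso β := inferInstance
  have hcomm : 𝟙 _ ≫ pullback.diagonal (Spec.map (CommRingCat.ofHom (algebraMap k Pol))) =
      Spec.map φ ≫ β := by
    rw [Category.id_comp, diagonal_SpecMap k Pol]
    have h1 : CommRingCat.ofHom (Algebra.TensorProduct.lmul' k : Pol ⊗[k] Pol →ₐ[k] Pol).toRingHom =
        ε.hom ≫ φ := by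
      apply CommRingCat.hom_ext
      apply RingHom.ext
      intro t
      exact (DFunLike.congr_fun (codiag_comp_tensorEquivSum k m) t).symm
    rw [h1, Spec.map_comp, Category.assoc]
  have hdata : DataOn RegImm.Kind.regular m (Spec.map φ) ⊤ := by
    refine dataOn_Spec RegImm.Kind.regular m φ (codiag_surjective k m) (dlist k m)
      (length_dlist k m) (isRegular_dlist k m) (ker_codiag k m)
  have key := (dataOn_iff RegImm.Kind.regular m
    (pullback.diagonal (Spec.map (CommRingCat.ofHom (algebraMap k Pol)))) (Spec.map φ)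
    (𝟙 _) β hcomm ⊤ (by rw [Scheme.Hom.opensRange_of_isIso]) (by intro y _; exact ⟨y, rfl⟩)
    x trivial).mpr hdata
  exact key

end Groth.Agent.Lib.DiagRegH8
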