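import Mathlib

set_option autoImplicit false

universe u

open TensorProduct KaehlerDifferential

namespace Groth.Agent.Lib.DiagRegH8

/-- **Étale coordinates**: a (nontrivial) standard smooth algebra over `k` is étale over a
polynomial ring. -/
theorem exists_etale_coordinates (k A : Type u) [CommRing k] [CommRing A] [Algebra k A]
    [Nontrivial A] [Algebra.IsStandardSmooth k A] :
    ∃ (m : ℕ) (φ : MvPolynomial (Fin m) k →ₐ[k] A), φ.toRingHom.Etale := by
  classical
  haveI : Algebra.FinitePresentation k A := inferInstance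
  obtain ⟨hH1, I, b, hb⟩ :=
    (Algebra.IsStandardSmooth.iff_exists_basis_kaehlerDifferential (R := k) (S := A)).mp inferInstance
  haveI : Module.Finite A Ω[A⁄k] := inferInstance
  haveI : Finite I := Module.Finite.finite_basis b
  let m := Nat.card I
  let b' : Module.Basis (Fin m) A Ω[A⁄k] := b.reindex (Finite.equivFin I)
  have hb' : ∀ i : Fin m, ∃ a : A, D k A a = b' i := by
    intro i
    have : b' i ∈ Set.range b := by
      simp only [b', Module.Basis.reindex_apply]
      exact ⟨_, rfl⟩
    exact hb this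
  choose a ha using hb'
  let φ : MvPolynomial (Fin m) k →ₐ[k] A := MvPolynomial.aeval a
  refine ⟨m, φ, ?_⟩
  letI : Algebra (MvPolynomial (Fin m) k) A := φ.toRingHom.toAlgebra
  haveI : IsScalarTower k (MvPolynomial (Fin m) k) A :=
    IsScalarTower.of_algebraMap_eq (fun r => (φ.commutes r).symm)
  have halg : ∀ p : MvPolynomial (Fin m) k, algebraMap (MvPolynomial (Fin m) k) A p = φ p :=
    fun _ => rfl
  -- the base-changed basis
  let bP : Module.Basis (Fin m) (MvPolynomial (Fin m) k) Ω[MvPolynomial (Fin m) k⁄k] :=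
    KaehlerDifferential.mvPolynomialBasis k (Fin m)
  let bA : Module.Basis (Fin m) A (A ⊗[MvPolynomial (Fin m) k] Ω[MvPolynomial (Fin m) k⁄k]) :=
    bP.baseChange A
  have hbP : ∀ i, bP i = D k _ (MvPolynomial.X i) := by
    intro i
    apply bP.repr.injective
    rw [Module.Basis.repr_self]
    exact (KaehlerDifferential.mvPolynomialBasis_repr_D_X k (Fin m) i).symm
  have hmbc : ∀ i, KaehlerDifferential.mapBaseChange k (MvPolynomial (Fin m) k) A (bA i) = b' i := by
    intro i
    simp only [bA, Module.Basis.baseChange_apply, KaehlerDifferential.mapBaseChange_tmul, one_smul,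
      hbP, KaehlerDifferential.map_D, halg]
    rw [← ha i]
    simp [φ]
  have hmbc_eq : KaehlerDifferential.mapBaseChange k (MvPolynomial (Fin m) k) A =
      (bA.equiv b' (Equiv.refl _)).toLinearMap := by
    apply bA.ext
    intro i
    rw [hmbc]
    simp
  have hbij : Function.Bijective (KaehlerDifferential.mapBaseChange k (MvPolynomial (Fin m) k) A) := by
    rw [hmbc_eq]
    exact (bA.equiv b' (Equiv.refl _)).bijective
  -- Claim 1: Ω[A/Pol] = 0
  haveI hΩ : Subsingleton Ω[A⁄MvPolynomial (Fin m) k] := by
    have hex := KaehlerDifferential.exact_mapBaseChange_map k (MvPolynomial (Fin m) k) A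
    have hsurj := KaehlerDifferential.map_surjective k (MvPolynomial (Fin m) k) A
    refine ⟨fun x y => ?_⟩
    obtain ⟨x', rfl⟩ := hsurj x
    obtain ⟨y', rfl⟩ := hsurj y
    obtain ⟨x'', rfl⟩ := hbij.2 x'
    obtain ⟨y'', rfl⟩ := hbij.2 y'
    rw [hex.apply_apply_eq_zero, hex.apply_apply_eq_zero]
  -- Claim 3: H1 = 0
  haveI hH : Subsingleton (Algebra.H1Cotangent (MvPolynomial (Fin m) k) A) := by
    have hex1 := Algebra.H1Cotangent.exact_map_δ k (MvPolynomial (Fin m) k) A
    have hex2 := Algebra.H1Cotangent.exact_δ_mapBaseChange k (MvPolynomial (Fin m) k) A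
    refine subsingleton_of_forall_eq 0 (fun x => ?_)
    have h1 : Algebra.H1Cotangent.δ k (MvPolynomial (Fin m) k) A x = 0 := by
      apply hbij.1
      rw [hex2.apply_apply_eq_zero, map_zero]
    obtain ⟨y, rfl⟩ := (hex1 x).mp h1
    rw [Subsingleton.elim y 0, map_zero]
  haveI : Algebra.FormallySmooth (MvPolynomial (Fin m) k) A := ⟨inferInstance, hH⟩
  haveI : Algebra.FormallyUnramified (MvPolynomial (Fin m) k) A := ⟨hΩ⟩
  haveI : Algebra.FormallyEtale (MvPolynomial (Fin m) k) A :=
    Algebra.FormallyEtale.iff_formallyUnramified_and_formallySmooth.mpr ⟨inferInstance, inferInstance⟩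
  haveI : Algebra.FinitePresentation (MvPolynomial (Fin m) k) A :=
    Algebra.FinitePresentation.of_restrict_scalars_finitePresentation k _ A
  exact (⟨inferInstance, inferInstance⟩ : Algebra.Etale (MvPolynomial (Fin m) k) A)

end Groth.Agent.Lib.DiagRegH8
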