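import Mathlib
import Groth.Agent.Lib.DiagReg6_helper8

set_option autoImplicit false

universe u

open CategoryTheory CategoryTheory.Limits AlgebraicGeometry TopologicalSpace

namespace Groth.Agent.Lib.DiagRegH8

/-- standard smooth chart around a point of a scheme smooth over an affine base. -/
theorem exists_standardSmooth_chart (k : Type u) [CommRing k] {X : Scheme.{u}}
    (f : X ⟶ Spec (CommRingCat.of k)) [Smooth f] (x : X) :
    ∃ (A' : Type u) (_ : CommRing A') (_ : Algebra k A') (_ : Algebra.IsStandardSmooth k A')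
      (j : Spec (CommRingCat.of A') ⟶ X), IsOpenImmersion j ∧
        j ≫ f = Spec.map (CommRingCat.ofHom (algebraMap k A')) ∧ x ∈ Set.range j := by
  obtain ⟨_, ⟨V, hV, rfl⟩, hxV, -⟩ :=
    X.isBasis_affineOpens.exists_subset_of_mem_open (Set.mem_univ x) isOpen_univ
  have hV' : IsAffineOpen V := hV
  let ψ : CommRingCat.of k ⟶ Γ(X, V) := Spec.preimage (hV'.fromSpec ≫ f)
  have hψ : Spec.map ψ = hV'.fromSpec ≫ f := Spec.map_preimage _
  letI : Algebra k Γ(X, V) := ψ.hom.toAlgebra
  have hsm : Smooth (Spec.map ψ) := by rw [hψ]; infer_instance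
  have hsm' : ψ.hom.Smooth := (HasRingHomProperty.Spec_iff (P := @Smooth)).mp hsm
  haveI : Algebra.Smooth k Γ(X, V) := hsm'
  haveI : Algebra.FinitePresentation k Γ(X, V) := inferInstance
  let p : PrimeSpectrum Γ(X, V) := hV'.primeIdealOf ⟨x, hxV⟩
  have hp : hV'.fromSpec p = x := hV'.fromSpec_primeIdealOf ⟨x, hxV⟩
  haveI : Algebra.IsSmoothAt k p.asIdeal :=
    inferInstanceAs (Algebra.FormallySmooth k (Localization p.asIdeal.primeCompl))
  obtain ⟨s, hs, hstd⟩ := Algebra.IsSmoothAt.exists_notMem_isStandardSmooth k p.asIdeal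
  refine ⟨Localization.Away s, inferInstance, inferInstance, hstd,
    Spec.map (CommRingCat.ofHom (algebraMap Γ(X, V) (Localization.Away s))) ≫ hV'.fromSpec,
    inferInstance, ?_, ?_⟩
  · rw [Category.assoc, ← hψ, ← Spec.map_comp]
    congr 1
  · have hrange : p ∈ Set.range (PrimeSpectrum.comap (algebraMap Γ(X, V) (Localization.Away s))) := by
      rw [PrimeSpectrum.localization_away_comap_range (Localization.Away s) s]
      exact hs
    obtain ⟨q, hq⟩ := hrange
    refine ⟨q, ?_⟩
    rw [Scheme.Hom.comp_apply]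
    have : (Spec.map (CommRingCat.ofHom (algebraMap Γ(X, V) (Localization.Away s)))) q = p := hq
    rw [this, hp]

/-- **Étale chart** around a point of a scheme smooth over a field (or any base ring). -/
theorem exists_etale_chart (k : Type u) [CommRing k] {X : Scheme.{u}}
    (f : X ⟶ Spec (CommRingCat.of k)) [Smooth f] (x : X) :
    ∃ (m : ℕ) (W : Scheme.{u}) (j : W ⟶ X)
      (g : W ⟶ Spec (CommRingCat.of (MvPolynomial (Fin m) k))), IsOpenImmersion j ∧ Etale g ∧
        j ≫ f = g ≫ Spec.map (CommRingCat.ofHom (algebraMap k (MvPolynomial (Fin m) k))) ∧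
        x ∈ Set.range j := by
  obtain ⟨A', _, _, hstd, j, hj, hjf, hx⟩ := exists_standardSmooth_chart k f x
  haveI : Nontrivial A' := by
    obtain ⟨q, -⟩ := hx
    exact (PrimeSpectrum.nonempty_iff_nontrivial).mp ⟨q⟩
  obtain ⟨m, φ, hφ⟩ := exists_etale_coordinates k A'
  refine ⟨m, Spec (CommRingCat.of A'), j, Spec.map (CommRingCat.ofHom φ.toRingHom), hj,
    (HasRingHomProperty.Spec_iff (P := @Etale)).mpr hφ, ?_, hx⟩
  rw [hjf, ← Spec.map_comp]
  congr 1
  apply CommRingCat.hom_ext
  apply RingHom.ext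
  intro r
  exact (φ.commutes r).symm

end Groth.Agent.Lib.DiagRegH8
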