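import Mathlib
import Groth.Prelude.Def_RegImm
import Groth.Agent.Lib.DiagReg4_helper8
import Groth.Agent.Lib.DiagReg5_helper8
import Groth.Agent.Lib.DiagReg7_helper8

set_option autoImplicit false

universe u

open CategoryTheory CategoryTheory.Limits AlgebraicGeometry TopologicalSpace

namespace Groth.Agent.Lib.DiagRegH8

/-- transfer of diagonal data along an open immersion of the source. -/
theorem dataOn_diagonal_of_openImmersion (κ : RegImm.Kind) (d : ℕ) {W X S : Scheme.{u}}
    (j : W ⟶ X) [IsOpenImmersion j] (f : X ⟶ S) (w : W)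
    (U₁ : (pullback (j ≫ f) (j ≫ f)).Opens) (hw : pullback.diagonal (j ≫ f) w ∈ U₁)
    (hD : DataOn κ d (pullback.diagonal (j ≫ f)) U₁) :
    ∃ U : (pullback f f).Opens, pullback.diagonal f (j w) ∈ U ∧
      DataOn κ d (pullback.diagonal f) U := by
  set β := pullback.map (j ≫ f) (j ≫ f) f f j j (𝟙 S) (by simp) (by simp) with hβ
  haveI : IsOpenImmersion β := inferInstance
  have hcomm : j ≫ pullback.diagonal f = pullback.diagonal (j ≫ f) ≫ β :=
    pullback.comp_diagonal j f
  have hpt : pullback.diagonal f (j w) = β (pullback.diagonal (j ≫ f) w) := by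
    have := congrArg (fun t : W ⟶ pullback f f => t w) hcomm
    simpa using this
  have hmem : pullback.diagonal f (j w) ∈ β ''ᵁ U₁ := by
    rw [hpt]; exact ⟨_, hw, rfl⟩
  refine ⟨β ''ᵁ U₁, hmem, ?_⟩
  have hpre : β ⁻¹ᵁ (β ''ᵁ U₁) = U₁ := β.preimage_image_eq U₁
  have hV : β ''ᵁ U₁ ≤ β.opensRange := by
    rintro _ ⟨u, -, rfl⟩; exact ⟨u, rfl⟩
  have hZ : pullback.diagonal f ⁻¹ᵁ (β ''ᵁ U₁) ≤ j.opensRange := by
    intro z hz
    obtain ⟨u, -, hu⟩ := hz
    refine ⟨pullback.fst (j ≫ f) (j ≫ f) u, ?_⟩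
    have h1 : β ≫ pullback.fst f f = pullback.fst (j ≫ f) (j ≫ f) ≫ j := pullback.lift_fst _ _ _
    have h2 := congrArg (fun t : pullback (j ≫ f) (j ≫ f) ⟶ X => t u) h1
    have h3 : pullback.fst f f (pullback.diagonal f z) = z := by
      have := congrArg (fun t : X ⟶ X => t z) (pullback.diagonal_fst f)
      rw [Scheme.Hom.comp_apply] at this
      exact this
    have h2' : pullback.fst f f (β u) = j (pullback.fst (j ≫ f) (j ≫ f) u) := by simpa using h2
    have hu' : β u = pullback.diagonal f z := hu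
    rw [← h2', hu']
    exact h3
  have key := (dataOn_iff κ d (pullback.diagonal f) (pullback.diagonal (j ≫ f)) j β hcomm
    (β ''ᵁ U₁) hV hZ (j w) hmem).mpr (by rw [hpre]; exact hD)
  exact key

/-- **The diagonal of a scheme smooth over a field** has, at each point, the local structure of a
regular immersion whose codimension is the number of étale coordinates of a chart. -/
theorem dataOn_diagonal_of_chart (k : Type u) [Field k] {X W : Scheme.{u}}
    (f : X ⟶ Spec (CommRingCat.of k)) (m : ℕ) (j : W ⟶ X)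
    (g : W ⟶ Spec (CommRingCat.of (MvPolynomial (Fin m) k))) [IsOpenImmersion j] [Etale g]
    (hjf : j ≫ f = g ≫ Spec.map (CommRingCat.ofHom (algebraMap k (MvPolynomial (Fin m) k))))
    (w : W) :
    ∃ U : (pullback f f).Opens, pullback.diagonal f (j w) ∈ U ∧
      DataOn RegImm.Kind.regular m (pullback.diagonal f) U := by
  obtain ⟨U₁, hU₁, hD₁⟩ := dataOn_diagonal_of_etale RegImm.Kind.regular m g
    (Spec.map (CommRingCat.ofHom (algebraMap k (MvPolynomial (Fin m) k))))
    (dataOn_diagonal_affineSpace k m) w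
  have : ∀ (c c' : W ⟶ Spec (CommRingCat.of k)), c = c' →
      (∃ U₁ : (pullback c c).Opens, pullback.diagonal c w ∈ U₁ ∧
        DataOn RegImm.Kind.regular m (pullback.diagonal c) U₁) →
      (∃ U₁ : (pullback c' c').Opens, pullback.diagonal c' w ∈ U₁ ∧
        DataOn RegImm.Kind.regular m (pullback.diagonal c') U₁) := by
    rintro c c' rfl h; exact h
  obtain ⟨U₂, hU₂, hD₂⟩ := this _ _ hjf.symm ⟨U₁, hU₁, hD₁⟩
  exact dataOn_diagonal_of_openImmersion RegImm.Kind.regular m j f w U₂ hU₂ hD₂

end Groth.Agent.Lib.DiagRegH8
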