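import Mathlib
import Groth.Agent.Lib.AffDim16_helper8
import Groth.Agent.Lib.IrrDim_helper8

set_option autoImplicit false

universe u

open CategoryTheory CategoryTheory.Limits AlgebraicGeometry TopologicalSpace

namespace Groth.Agent.Lib.DiagRegH8

theorem locallyQuasiFinite_of_etale {X Y : Scheme.{u}} (g : X ⟶ Y) [Etale g] :
    LocallyQuasiFinite g := by
  rw [HasRingHomProperty.iff_appLE (P := @LocallyQuasiFinite)]
  intro U V e
  have h1 : (g.appLE U.1 V.1 e).hom.FormallyUnramified :=
    HasRingHomProperty.appLE @FormallyUnramified g inferInstance U V e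
  have h2 : (g.appLE U.1 V.1 e).hom.FiniteType :=
    HasRingHomProperty.appLE @LocallyOfFiniteType g inferInstance U V e
  algebraize [(g.appLE U.1 V.1 e).hom]
  exact (inferInstance : Algebra.QuasiFinite Γ(Y, U.1) Γ(X, V.1))

/-- the number of étale coordinates of a chart of an integral scheme of finite type over a field
is its dimension. -/
theorem chart_dim_eq (k : Type u) [Field k] {X W : Scheme.{u}} [IsIntegral X]
    (f : X ⟶ Spec (CommRingCat.of k)) [LocallyOfFiniteType f] (m : ℕ) (j : W ⟶ X)
    (g : W ⟶ Spec (CommRingCat.of (MvPolynomial (Fin m) k))) [IsOpenImmersion j] [Etale g]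
    [Nonempty W] (n : ℕ) (hn : topologicalKrullDim X = n) : m = n := by
  classical
  let P := Spec (CommRingCat.of (MvPolynomial (Fin m) k))
  let c : P ⟶ Spec (CommRingCat.of k) :=
    Spec.map (CommRingCat.ofHom (algebraMap k (MvPolynomial (Fin m) k)))
  haveI : LocallyOfFiniteType c := by
    rw [HasRingHomProperty.Spec_iff (P := @LocallyOfFiniteType)]
    exact RingHom.finiteType_algebraMap.mpr inferInstance
  haveI : LocallyQuasiFinite g := locallyQuasiFinite_of_etale g
  haveI : LocallyOfFiniteType g := inferInstance
  -- generic point of X lies in the image of j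
  have hη : genericPoint X ∈ Set.range j := by
    obtain ⟨w⟩ := ‹Nonempty W›
    exact (genericPoint_specializes (j w)).mem_open j.isOpenEmbedding.isOpen_range ⟨w, rfl⟩
  obtain ⟨ηW, hηW⟩ := hη
  have hηWgen : ∀ w : W, ηW ⤳ w := by
    intro w
    rw [← j.isEmbedding.specializes_iff]
    rw [hηW]
    exact genericPoint_specializes _
  -- g maps it to the generic point of affine space
  haveI : IsIntegral P := by
    show IsIntegral (Spec (CommRingCat.of (MvPolynomial (Fin m) k))); infer_instance
  have hgη : g ηW = genericPoint P := by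
    haveI : Flat g := inferInstance
    obtain ⟨w', hw', hgw'⟩ := Flat.generalizingMap g (genericPoint_specializes (g ηW))
    have : w' = ηW := (hw'.antisymm (hηWgen w')).eq
    rw [← this]; exact hgw'
  -- heights
  have h1 : Order.height ηW = Order.height (g ηW) :=
    Groth.Agent.Lib.AffDimH8.height_eq_of_lqf k c g ηW
  have h2 : Order.height ηW = Order.height (j ηW) :=
    Groth.Agent.Lib.AffDimH8.height_eq_of_lqf k f j ηW
  have h3 : topologicalKrullDim X = ((Order.height (genericPoint X) : ℕ∞) : WithBot ℕ∞) :=
    Groth.Agent.IrrDimH8.topDim_eq_height_generic X _ (fun x' => genericPoint_specializes x')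
  have h4 : topologicalKrullDim P = ((Order.height (genericPoint P) : ℕ∞) : WithBot ℕ∞) :=
    Groth.Agent.IrrDimH8.topDim_eq_height_generic P _ (fun x' => genericPoint_specializes x')
  have h5 : topologicalKrullDim P = (m : WithBot ℕ∞) := by
    have : topologicalKrullDim P = ringKrullDim (MvPolynomial (Fin m) k) :=
      PrimeSpectrum.topologicalKrullDim_eq_ringKrullDim _
    rw [this, MvPolynomial.ringKrullDim_of_isNoetherianRing, ringKrullDim_eq_zero_of_field]
    simp
  rw [hηW] at h2
  rw [hgη] at h1
  rw [← h2, h1] at h3
  rw [← h4, h5, hn] at h3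
  exact_mod_cast h3.symm

end Groth.Agent.Lib.DiagRegH8
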