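import Mathlib
import Groth.Prelude.Def_RegImm
import Groth.Agent.Lib.DiagReg8_helper8
import Groth.Agent.Lib.DiagReg9_helper8

set_option autoImplicit false

universe u

open CategoryTheory CategoryTheory.Limits AlgebraicGeometry TopologicalSpace

namespace Groth.Agent.Lib.DiagRegH8

/-- **The diagonal of an integral scheme of dimension `n` smooth over a field is a regular
immersion of codimension `n`.** -/
theorem diagonal_isRegularImmersionOfCodim (k : Type u) [Field k] (X : Scheme.{u})
    (f : X ⟶ Spec (CommRingCat.of k)) [Smooth f] [IsIntegral X] (n : ℕ)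
    (hn : topologicalKrullDim X = n) :
    RegImm.IsRegularImmersionOfCodim RegImm.Kind.regular n (pullback.diagonal f) := by
  rw [isRegularImmersionOfCodim_iff]
  refine ⟨inferInstance, fun x => ?_⟩
  obtain ⟨m, W, j, g, hj, hg, hjf, w, rfl⟩ := exists_etale_chart k f x
  haveI : Nonempty W := ⟨w⟩
  haveI : LocallyOfFiniteType f := inferInstance
  have hmn : m = n := chart_dim_eq k f m j g n hn
  subst hmn
  exact dataOn_diagonal_of_chart k f m j g hjf w

end Groth.Agent.Lib.DiagRegH8
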