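import Mathlib
import Groth.Prelude
import Groth.Agent.Lib.SuppStalk2_helper8

/-!
# Quasi-flat morphisms, I: generizations lift (helper8).  APPEND-ONLY once landed.
-/

set_option autoImplicit false
universe u

open CategoryTheory AlgebraicGeometry TopologicalSpace Opposite

namespace QFlatH8

section Alg

variable {A B M : Type*} [CommRing A] [CommRing B] [Algebra A B] [AddCommGroup M]
  [Module A M] [Module B M] [IsScalarTower A B M]

/-- If a `B`-module `M` is faithfully flat over `A`, ideals of `A` are contracted from `B`. -/
theorem comap_map_eq_of_faithfullyFlat_module [Module.FaithfullyFlat A M] (I : Ideal A) :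
    (I.map (algebraMap A B)).comap (algebraMap A B) = I := by
  refine le_antisymm ?_ Ideal.le_comap_map
  intro a ha
  rw [Ideal.mem_comap] at ha
  -- the map `A → A/I`, `r ↦ [a r]`
  let g : A →ₗ[A] A ⧸ I := (Submodule.mkQ I).comp (LinearMap.lsmul A A a)
  have hg : g = 0 := by
    rw [Module.FaithfullyFlat.zero_iff_lTensor_zero A M]
    apply TensorProduct.ext'
    intro m r
    simp only [LinearMap.lTensor_tmul, LinearMap.zero_apply]
    have hgr : g r = r • (Submodule.mkQ I) a := by
      simp only [g, LinearMap.comp_apply, LinearMap.lsmul_apply, smul_eq_mul]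
      rw [mul_comm, ← smul_eq_mul, map_smul]
    rw [hgr, TensorProduct.tmul_smul]
    -- `m ⊗ [a] = (a • m) ⊗ [1]`, and `a • m ∈ I M`
    have h1 : (Submodule.mkQ I) a = a • (Submodule.mkQ I) (1 : A) := by
      rw [← map_smul, smul_eq_mul, mul_one]
    rw [h1, TensorProduct.tmul_smul, TensorProduct.smul_tmul']
    have h2 : ∀ b ∈ I.map (algebraMap A B), ∀ m : M,
        (b • m) ⊗ₜ[A] ((Submodule.mkQ I) (1 : A)) = 0 := by
      intro b hb
      induction hb using Submodule.span_induction with
      | mem x hx =>
        obtain ⟨i, hi, rfl⟩ := hx
        intro m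
        rw [algebraMap_smul, TensorProduct.smul_tmul, ← map_smul, smul_eq_mul, mul_one]
        have : (Submodule.mkQ I) i = 0 := (Submodule.Quotient.mk_eq_zero I).mpr hi
        rw [this, TensorProduct.tmul_zero]
      | zero => intro m; rw [zero_smul, TensorProduct.zero_tmul]
      | add x y _ _ hx hy => intro m; rw [add_smul, TensorProduct.add_tmul, hx, hy, add_zero]
      | smul c x _ hx =>
        intro m
        rw [smul_eq_mul, mul_comm, mul_smul]
        exact hx (c • m)
    have h3 := h2 _ ha m
    rw [algebraMap_smul] at h3
    rw [h3, smul_zero]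
  have : g 1 = 0 := by rw [hg]; rfl
  simp only [g, LinearMap.comp_apply, LinearMap.lsmul_apply, smul_eq_mul, mul_one] at this
  exact (Submodule.Quotient.mk_eq_zero I).mp this

theorem comap_surjective_of_faithfullyFlat_module [Module.FaithfullyFlat A M] :
    Function.Surjective (PrimeSpectrum.comap (algebraMap A B)) := fun p =>
  (PrimeSpectrum.mem_range_comap_iff (algebraMap A B)).mpr
    (comap_map_eq_of_faithfullyFlat_module (M := M) p.asIdeal)

end Alg

/-- Local version: a local homomorphism `φ : A → B` of local rings such that some nonzero finite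
`B`-module is flat over `A` induces a surjection on spectra. -/
theorem comap_surjective_of_flat_compHom {A B M : Type*} [CommRing A] [CommRing B]
    [IsLocalRing A] [IsLocalRing B] (φ : A →+* B) [IsLocalHom φ] [AddCommGroup M] [Module B M]
    [Module.Finite B M] [Nontrivial M]
    (hflat : letI := Module.compHom M φ; Module.Flat A M) :
    Function.Surjective (PrimeSpectrum.comap φ) := by
  letI : Algebra A B := φ.toAlgebra
  letI : Module A M := Module.compHom M φ
  haveI : IsScalarTower A B M := IsScalarTower.of_algebraMap_smul fun _ _ => rfl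
  haveI : Module.Flat A M := hflat
  haveI : Module.FaithfullyFlat A M := by
    refine ⟨fun m hm htop => ?_⟩
    rw [IsLocalRing.eq_maximalIdeal hm] at htop
    have hle : (⊤ : Submodule B M) ≤ IsLocalRing.maximalIdeal B • (⊤ : Submodule B M) := by
      intro x _
      have hx : x ∈ IsLocalRing.maximalIdeal A • (⊤ : Submodule A M) := by rw [htop]; trivial
      refine Submodule.smul_induction_on hx ?_ ?_
      · intro r hr n _
        have : r • n = φ r • n := rfl
        rw [this]
        exact Submodule.smul_mem_smul
          ((IsLocalRing.map_maximalIdeal_le φ) (Ideal.mem_map_of_mem φ hr)) trivial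
      · intro x y hx hy
        exact add_mem hx hy
    have hbot := Submodule.eq_bot_of_le_smul_of_le_jacobson_bot (IsLocalRing.maximalIdeal B)
      (⊤ : Submodule B M) Module.Finite.fg_top hle
      (by rw [IsLocalRing.jacobson_eq_maximalIdeal _ bot_ne_top])
    exact top_ne_bot hbot
  exact comap_surjective_of_faithfullyFlat_module (M := M)

end QFlatH8
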