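import Mathlib
import Groth.Prelude
import Groth.Agent.Lib.QFlat1_helper8

/-!
# Quasi-flat morphisms, II: generizations lift, geometric form (helper8).
APPEND-ONLY once landed.
-/

set_option autoImplicit false
universe u

open CategoryTheory AlgebraicGeometry TopologicalSpace Opposite

namespace QFlatH8

variable {X Y : Scheme.{u}} (f : X ⟶ Y)

/-- The map on spectra of local rings is compatible with `fromSpecStalk`. -/
theorem map_fromSpecStalk (x : X) (P : Spec (X.presheaf.stalk x)) :
    f ((X.fromSpecStalk x) P) = (Y.fromSpecStalk (f x)) (Spec.map (f.stalkMap x) P) := by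
  have h1 := Scheme.SpecMap_stalkMap_fromSpecStalk f (x := x)
  have h2 : (X.fromSpecStalk x ≫ f) P = (Spec.map (f.stalkMap x) ≫ Y.fromSpecStalk (f x)) P := by
    rw [h1]
  rw [Scheme.Hom.comp_apply, Scheme.Hom.comp_apply] at h2
  exact h2

/-- If the map on spectra of local rings at `x` is surjective, generizations of `f x` lift to
generizations of `x`. -/
theorem exists_generization_of_surjective (x : X)
    (hsurj : Function.Surjective (PrimeSpectrum.comap (f.stalkMap x).hom)) (y : Y)
    (hy : y ⤳ f x) : ∃ x' : X, x' ⤳ x ∧ f x' = y := by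
  have hy' : y ∈ Set.range (Y.fromSpecStalk (f x)) := by
    rw [Scheme.range_fromSpecStalk]; exact hy
  obtain ⟨Q, rfl⟩ := hy'
  obtain ⟨P, hP⟩ := hsurj Q
  refine ⟨(X.fromSpecStalk x) P, ?_, ?_⟩
  · have : (X.fromSpecStalk x) P ∈ Set.range (X.fromSpecStalk x) := ⟨P, rfl⟩
    rw [Scheme.range_fromSpecStalk] at this
    exact this
  · rw [map_fromSpecStalk]
    congr 1

/-- Quasi-flat morphisms lift generizations. -/
theorem generalizingMap_of_isQuasiFlat (hf : FDesc.IsQuasiFlat f) : GeneralizingMap f.base := by
  obtain ⟨M, ⟨hqc, hft⟩, hflat, hnt⟩ := hf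
  intro x y hy
  haveI : M.IsQuasicoherent := hqc
  haveI : SheafOfModules.IsFiniteType (R := X.ringCatSheaf) M := hft
  haveI := SuppStalkH8.finite_stalk M x
  haveI := hnt x
  haveI : IsLocalHom (f.stalkMap x).hom := inferInstance
  exact exists_generization_of_surjective f x
    (comap_surjective_of_flat_compHom (M := M.presheaf.stalk x) (f.stalkMap x).hom (hflat x)) y hy

end QFlatH8
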