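import Mathlib
import Groth.Prelude
import Groth.Agent.Lib.QFlat2_helper8

/-!
# Quasi-flat morphisms, III: images of quasi-compact morphisms (helper8).
APPEND-ONLY once landed.
-/

set_option autoImplicit false
universe u

open CategoryTheory AlgebraicGeometry TopologicalSpace Opposite

namespace QFlatH8

/-- Affine-local uniformization of a quasi-compact morphism: over an affine open immersion
`j : Spec A ⟶ Y`, the preimage `g⁻¹(range j)` is the image of an affine scheme mapping compatibly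
to `Spec A`. -/
theorem exists_affine_chart {Y' Y : Scheme.{u}} (g : Y' ⟶ Y) [QuasiCompact g] {A : CommRingCat.{u}}
    (j : Spec A ⟶ Y) [IsOpenImmersion j] :
    ∃ (R : CommRingCat.{u}) (k : Spec R ⟶ Y') (φ : A ⟶ R),
      Set.range k = g ⁻¹' Set.range j ∧ Spec.map φ ≫ j = k ≫ g := by
  have hcomp : IsCompact (g ⁻¹' Set.range j) :=
    QuasiCompact.isCompact_preimage _ j.isOpenEmbedding.isOpen_range (isCompact_range j.continuous)
  let U : Y'.Opens := ⟨g ⁻¹' Set.range j, j.isOpenEmbedding.isOpen_range.preimage g.continuous⟩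
  obtain ⟨R, k, hk⟩ := (isCompact_iff_exists (U := U)).mp hcomp
  have hsub : Set.range (k ≫ g) ⊆ Set.range j := by
    rintro _ ⟨p, rfl⟩
    have : k p ∈ (U : Set Y') := by rw [← hk]; exact ⟨p, rfl⟩
    rw [Scheme.Hom.comp_apply]
    exact this
  obtain ⟨φ, hφ⟩ := Spec.map_surjective (IsOpenImmersion.lift j (k ≫ g) hsub)
  refine ⟨R, k, φ, hk, ?_⟩
  rw [hφ, IsOpenImmersion.lift_fac]

/-- In the situation of `exists_affine_chart`, images pull back to images. -/
theorem preimage_image_chart {Y' Y : Scheme.{u}} (g : Y' ⟶ Y) {A R : CommRingCat.{u}}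
    (j : Spec A ⟶ Y) [IsOpenImmersion j] (k : Spec R ⟶ Y') (φ : A ⟶ R)
    (hk : Set.range k = g ⁻¹' Set.range j) (hφ : Spec.map φ ≫ j = k ≫ g) (Z : Set Y') :
    j ⁻¹' (g '' Z) = (Spec.map φ) '' (k ⁻¹' Z) := by
  have hcomm : ∀ p : Spec R, j ((Spec.map φ) p) = g (k p) := by
    intro p
    have := congrArg (fun h : Spec R ⟶ Y => h p) hφ
    simpa only [Scheme.Hom.comp_apply] using this
  ext q
  constructor
  · rintro ⟨z, hz, hzq⟩
    have : z ∈ Set.range k := by
      rw [hk]; exact ⟨q, hzq.symm⟩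
    obtain ⟨p, rfl⟩ := this
    refine ⟨p, hz, ?_⟩
    apply j.isOpenEmbedding.injective
    rw [hcomm, hzq]
  · rintro ⟨p, hp, rfl⟩
    exact ⟨k p, hp, (hcomm p).symm⟩

/-- The image of a closed set under a quasi-compact morphism is closed as soon as it is stable under
specialization. -/
theorem isClosed_image_of_stableUnderSpecialization {Y' Y : Scheme.{u}} (g : Y' ⟶ Y)
    [QuasiCompact g] (Z : Set Y') (hZ : IsClosed Z) (hsp : StableUnderSpecialization (g '' Z)) :
    IsClosed (g '' Z) := by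
  rw [← isOpen_compl_iff]
  let 𝒰 := Y.affineOpenCover
  have hcov : (g '' Z)ᶜ = ⋃ i : 𝒰.I₀, (𝒰.f i) '' ((𝒰.f i) ⁻¹' (g '' Z)ᶜ) := by
    ext y
    simp only [Set.mem_iUnion, Set.mem_image, Set.mem_preimage]
    constructor
    · intro hy
      obtain ⟨q, hq⟩ := 𝒰.covers y
      exact ⟨_, q, by rw [hq]; exact hy, hq⟩
    · rintro ⟨i, q, hq, rfl⟩
      exact hq
  rw [hcov]
  refine isOpen_iUnion fun i => ?_
  apply (𝒰.f i).isOpenEmbedding.isOpenMap
  rw [Set.preimage_compl, isOpen_compl_iff]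
  obtain ⟨R, k, φ, hk, hφ⟩ := exists_affine_chart g (𝒰.f i)
  have hpre := preimage_image_chart g (𝒰.f i) k φ hk hφ Z
  rw [hpre]
  refine PrimeSpectrum.isClosed_image_of_stableUnderSpecialization φ.hom (k ⁻¹' Z)
    (hZ.preimage k.continuous) ?_
  have : StableUnderSpecialization ((𝒰.f i) ⁻¹' (g '' Z)) :=
    hsp.preimage (𝒰.f i).continuous
  rw [hpre] at this
  exact this

/-- Points in the closure of the image of a quasi-compact morphism are specializations of points of
the image. -/
theorem exists_specializes_of_mem_closure_range {Y' Y : Scheme.{u}} (g : Y' ⟶ Y)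
    [QuasiCompact g] (y : Y) (hy : y ∈ closure (Set.range g)) :
    ∃ y' ∈ Set.range g, y' ⤳ y := by
  let 𝒰 := Y.affineOpenCover
  obtain ⟨q, hqy⟩ := 𝒰.covers y
  generalize 𝒰.idx y = i at q hqy
  subst hqy
  obtain ⟨R, k, φ, hk, hφ⟩ := exists_affine_chart g (𝒰.f i)
  have hpre := preimage_image_chart g (𝒰.f i) k φ hk hφ Set.univ
  rw [Set.image_univ, Set.preimage_univ, Set.image_univ] at hpre
  have hq : q ∈ closure (Set.range (Spec.map φ)) := by
    rw [← hpre, ← (𝒰.f i).isOpenEmbedding.isOpenMap.preimage_closure_eq_closure_preimage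
      (𝒰.f i).continuous]
    exact hy
  have hq' : (show PrimeSpectrum (𝒰.X i) from q) ∈
      closure (Set.range (PrimeSpectrum.comap φ.hom)) := hq
  rw [PrimeSpectrum.closure_range_comap] at hq'
  have hle : RingHom.ker φ.hom ≤ q.asIdeal := (PrimeSpectrum.mem_zeroLocus _ _).mp hq'
  obtain ⟨p₀, hp₀, hp₀q⟩ := Ideal.exists_minimalPrimes_le hle
  rw [RingHom.ker_eq_comap_bot] at hp₀
  obtain ⟨P, hP, -, hPp⟩ := Ideal.exists_comap_eq_of_mem_minimalPrimes φ.hom p₀ hp₀
  let Pt : Spec R := (⟨P, hP⟩ : PrimeSpectrum R)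
  have hcomm : (𝒰.f i) ((Spec.map φ) Pt) = g (k Pt) := by
    have := congrArg (fun h : Spec R ⟶ Y => h Pt) hφ
    simpa only [Scheme.Hom.comp_apply] using this
  refine ⟨g (k Pt), ⟨_, rfl⟩, ?_⟩
  rw [← hcomm]
  apply Specializes.map _ (𝒰.f i).continuous
  have : (Spec.map φ) Pt = (⟨p₀, hp₀.1.1⟩ : PrimeSpectrum (𝒰.X i)) :=
    PrimeSpectrum.ext (show Ideal.comap φ.hom P = p₀ from hPp)
  rw [this]
  exact (PrimeSpectrum.le_iff_specializes (⟨p₀, hp₀.1.1⟩ : PrimeSpectrum (𝒰.X i)) q).mp hp₀q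

/-- A surjective quasi-compact generalizing morphism is a quotient map. -/
theorem isQuotientMap_of_generalizingMap {X Y : Scheme.{u}} (f : X ⟶ Y) [QuasiCompact f]
    [Surjective f] (hgen : GeneralizingMap f.base) : Topology.IsQuotientMap f.base := by
  rw [Topology.isQuotientMap_iff]
  refine ⟨.of_isOpen_preimage_iff_isOpen fun s =>
    ⟨fun hs => ?_, fun hs => hs.preimage f.continuous⟩, f.surjective⟩
  rw [← isClosed_compl_iff]
  have himg : f '' (f ⁻¹' sᶜ) = sᶜ := Set.image_preimage_eq _ f.surjective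
  rw [← himg]
  apply isClosed_image_of_stableUnderSpecialization f _
    (by rw [Set.preimage_compl]; exact isClosed_compl_iff.mpr hs)
  rw [himg]
  intro y y₁ hyy₁ hy hy₁
  obtain ⟨x₁, rfl⟩ := f.surjective y₁
  obtain ⟨x, hx, rfl⟩ := hgen hyy₁
  exact hy (hs.stableUnderGeneralization hx hy₁)

/-- For a generalizing morphism `f` and a quasi-compact morphism `g` to the same target,
`f⁻¹(closure (range g)) = closure (f⁻¹ (range g))`. -/
theorem preimage_closure_range {X Y Y' : Scheme.{u}} (f : X ⟶ Y) (hgen : GeneralizingMap f.base)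
    (g : Y' ⟶ Y) [QuasiCompact g] :
    f.base ⁻¹' closure (Set.range g.base) = closure (f.base ⁻¹' Set.range g.base) := by
  apply Set.Subset.antisymm
  · intro x hx
    obtain ⟨y', hy', hsp⟩ := exists_specializes_of_mem_closure_range g (f x) hx
    obtain ⟨x', hx', rfl⟩ := hgen hsp
    have h1 : x ∈ closure {x'} := specializes_iff_mem_closure.mp hx'
    exact closure_mono
      (Set.singleton_subset_iff.mpr (show x' ∈ f.base ⁻¹' Set.range g.base from hy')) h1
  · exact closure_minimal (Set.preimage_mono subset_closure) (isClosed_closure.preimage f.continuous)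

end QFlatH8
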