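import Mathlib
import Groth.Prelude
import Groth.Agent.Lib.QFlat3_helper8
import Groth.Agent.Lib.FlatBC3_helper8
import Groth.Agent.Lib.SuppTens2_helper8

/-!
# Quasi-flat morphisms, IV: base change, universal openness (helper8).
APPEND-ONLY once landed.
-/

set_option autoImplicit false
universe u

open CategoryTheory AlgebraicGeometry TopologicalSpace Opposite CategoryTheory.Limits

namespace QFlatH8

/-- Quasi-flatness is stable under base change. -/
theorem isQuasiFlat_of_isPullback {X S X' S' : Scheme.{u}} {f : X ⟶ S} {f' : X' ⟶ S'}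
    {g' : X' ⟶ X} {g : S' ⟶ S} (hc : IsPullback g' f' f g) (hf : FDesc.IsQuasiFlat f) :
    FDesc.IsQuasiFlat f' := by
  obtain ⟨M, ⟨hqc, hft⟩, hflat, hnt⟩ := hf
  haveI : M.IsQuasicoherent := hqc
  haveI : SheafOfModules.IsFiniteType (R := X.ringCatSheaf) M := hft
  refine ⟨(Scheme.Modules.pullback g').obj M,
    ⟨PBH8.isQuasicoherent_pullback g' M, FpqcH8.isFiniteType_pullback g' M⟩, ?_, ?_⟩
  · intro x'
    exact FlatBC2H8.isFlatOverAt_pullback hc M x' (hflat (g' x'))
  · intro x'
    have h1 : x' ∈ CohB1.support ((Scheme.Modules.pullback g').obj M) := by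
      rw [SuppTensH8.support_pullback g' M]
      show ¬ Subsingleton (M.presheaf.stalk (g' x'))
      rw [not_subsingleton_iff_nontrivial]
      exact hnt (g' x')
    exact not_subsingleton_iff_nontrivial.mp h1

/-- A quasi-flat morphism locally of finite presentation is universally open. -/
theorem universallyOpen_of_isQuasiFlat {X Y : Scheme.{u}} (f : X ⟶ Y)
    (hf : FDesc.IsQuasiFlat f) [LocallyOfFinitePresentation f] : UniversallyOpen f := by
  refine ⟨MorphismProperty.universally_mk' _ _ fun t _ => ?_⟩
  apply isOpenMap_of_generalizingMap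
  apply generalizingMap_of_isQuasiFlat
  exact isQuasiFlat_of_isPullback (IsPullback.of_hasPullback t f).flip hf

end QFlatH8
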