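import Mathlib
import Groth.Prelude
import Groth.Agent.Lib.QFlat4_helper8

/-!
# Quasi-flat morphisms, V: lifting generizations inside the support of a flat module (helper8).
APPEND-ONLY once landed.
-/

set_option autoImplicit false
universe u

open CategoryTheory AlgebraicGeometry TopologicalSpace Opposite CategoryTheory.Limits

namespace QFlatH8

section Alg

variable {A B M : Type*} [CommRing A] [CommRing B] [Algebra A B] [AddCommGroup M]
  [Module A M] [Module B M] [IsScalarTower A B M]

/-- If a `B`-module `M` is faithfully flat over `A`, ideals of `A` are contracted from ideals of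
`B` containing the annihilator of `M`. -/
theorem comap_map_sup_annihilator_le [Module.FaithfullyFlat A M] (I : Ideal A) :
    (I.map (algebraMap A B) ⊔ Module.annihilator B M).comap (algebraMap A B) ≤ I := by
  intro a ha
  rw [Ideal.mem_comap] at ha
  let g : A →ₗ[A] A ⧸ I := (Submodule.mkQ I).comp (LinearMap.lsmul A A a)
  have hg : g = 0 := by
    rw [Module.FaithfullyFlat.zero_iff_lTensor_zero A M]
    apply TensorProduct.ext'
    intro m r
    simp only [LinearMap.lTensor_tmul, LinearMap.zero_apply]
    have hgr : g r = r • (Submodule.mkQ I) a := by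
      simp only [g, LinearMap.comp_apply, LinearMap.lsmul_apply, smul_eq_mul]
      rw [mul_comm, ← smul_eq_mul, map_smul]
    rw [hgr, TensorProduct.tmul_smul]
    have h1 : (Submodule.mkQ I) a = a • (Submodule.mkQ I) (1 : A) := by
      rw [← map_smul, smul_eq_mul, mul_one]
    rw [h1, TensorProduct.tmul_smul, TensorProduct.smul_tmul']
    have h2 : ∀ b ∈ I.map (algebraMap A B), ∀ m : M,
        (b • m) ⊗ₜ[A] ((Submodule.mkQ I) (1 : A)) = 0 := by
      intro b hb
      induction hb using Submodule.span_induction with
      | mem x hx =>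
        obtain ⟨i, hi, rfl⟩ := hx
        intro m
        rw [algebraMap_smul, TensorProduct.smul_tmul, ← map_smul, smul_eq_mul, mul_one]
        have : (Submodule.mkQ I) i = 0 := (Submodule.Quotient.mk_eq_zero I).mpr hi
        rw [this, TensorProduct.tmul_zero]
      | zero => intro m; rw [zero_smul, TensorProduct.zero_tmul]
      | add x y _ _ hx hy => intro m; rw [add_smul, TensorProduct.add_tmul, hx, hy, add_zero]
      | smul c x _ hx =>
        intro m
        rw [smul_eq_mul, mul_comm, mul_smul]
        exact hx (c • m)
    obtain ⟨b₁, hb₁, b₂, hb₂, hsum⟩ := Submodule.mem_sup.mp ha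
    have h3 : ((algebraMap A B a) • m) ⊗ₜ[A] ((Submodule.mkQ I) (1 : A)) = 0 := by
      rw [← hsum, add_smul, TensorProduct.add_tmul, h2 b₁ hb₁ m,
        Module.mem_annihilator.mp hb₂ m, TensorProduct.zero_tmul, add_zero]
    rw [algebraMap_smul] at h3
    rw [h3, smul_zero]
  have : g 1 = 0 := by rw [hg]; rfl
  simp only [g, LinearMap.comp_apply, LinearMap.lsmul_apply, smul_eq_mul, mul_one] at this
  exact (Submodule.Quotient.mk_eq_zero I).mp this

/-- Primes of `A` lift to primes in the support of a faithfully flat module. -/
theorem exists_prime_annihilator_le_of_faithfullyFlat [Module.FaithfullyFlat A M]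
    (p : PrimeSpectrum A) :
    ∃ q : PrimeSpectrum B, PrimeSpectrum.comap (algebraMap A B) q = p ∧
      Module.annihilator B M ≤ q.asIdeal := by
  obtain ⟨q, hqle, hq, hcomap⟩ := Ideal.exists_ideal_comap_le_prime p.asIdeal
    (p.asIdeal.map (algebraMap A B) ⊔ Module.annihilator B M)
    (comap_map_sup_annihilator_le (M := M) p.asIdeal)
  refine ⟨⟨q, hq⟩, PrimeSpectrum.ext (le_antisymm hcomap ?_), le_sup_right.trans hqle⟩
  exact (Ideal.le_comap_map).trans (Ideal.comap_mono (le_sup_left.trans hqle))

end Alg

/-- Local version: for a local homomorphism `φ : A → B` of local rings and a nonzero finite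
`B`-module `M` flat over `A`, every prime of `A` lifts to a prime in the support of `M`. -/
theorem exists_prime_support_of_flat_compHom {A B M : Type*} [CommRing A] [CommRing B]
    [IsLocalRing A] [IsLocalRing B] (φ : A →+* B) [IsLocalHom φ] [AddCommGroup M] [Module B M]
    [Module.Finite B M] [Nontrivial M]
    (hflat : letI := Module.compHom M φ; Module.Flat A M) (p : PrimeSpectrum A) :
    ∃ q : PrimeSpectrum B, PrimeSpectrum.comap φ q = p ∧ q ∈ Module.support B M := by
  letI : Algebra A B := φ.toAlgebra
  letI : Module A M := Module.compHom M φ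
  haveI : IsScalarTower A B M := IsScalarTower.of_algebraMap_smul fun _ _ => rfl
  haveI : Module.Flat A M := hflat
  haveI : Module.FaithfullyFlat A M := by
    refine ⟨fun m hm htop => ?_⟩
    rw [IsLocalRing.eq_maximalIdeal hm] at htop
    have hle : (⊤ : Submodule B M) ≤ IsLocalRing.maximalIdeal B • (⊤ : Submodule B M) := by
      intro x _
      have hx : x ∈ IsLocalRing.maximalIdeal A • (⊤ : Submodule A M) := by rw [htop]; trivial
      refine Submodule.smul_induction_on hx ?_ ?_
      · intro r hr n _
        have : r • n = φ r • n := rfl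
        rw [this]
        exact Submodule.smul_mem_smul
          ((IsLocalRing.map_maximalIdeal_le φ) (Ideal.mem_map_of_mem φ hr)) trivial
      · intro x y hx hy
        exact add_mem hx hy
    have hbot := Submodule.eq_bot_of_le_smul_of_le_jacobson_bot (IsLocalRing.maximalIdeal B)
      (⊤ : Submodule B M) Module.Finite.fg_top hle
      (by rw [IsLocalRing.jacobson_eq_maximalIdeal _ bot_ne_top])
    exact top_ne_bot hbot
  obtain ⟨q, hq, hann⟩ := exists_prime_annihilator_le_of_faithfullyFlat (B := B) (M := M) p
  exact ⟨q, hq, (Module.mem_support_iff_of_finite).mpr hann⟩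

/-- Generizations of `f x` lift to generizations of `x` inside the support of a quasi-coherent
module of finite type which is flat over the base at `x`. -/
theorem exists_generization_mem_support {X Y : Scheme.{u}} (f : X ⟶ Y) (F : X.Modules)
    [F.IsQuasicoherent] [SheafOfModules.IsFiniteType (R := X.ringCatSheaf) F] (x : X)
    (hfl : FlatMod.IsFlatOverAt f F x) (hx : x ∈ CohB1.support F) (y : Y) (hy : y ⤳ f x) :
    ∃ x' : X, x' ⤳ x ∧ x' ∈ CohB1.support F ∧ f x' = y := by
  haveI := SuppStalkH8.finite_stalk F x
  haveI : Nontrivial (F.presheaf.stalk x) := not_subsingleton_iff_nontrivial.mp hx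
  have hy' : y ∈ Set.range (Y.fromSpecStalk (f x)) := by
    rw [Scheme.range_fromSpecStalk]; exact hy
  obtain ⟨Q, rfl⟩ := hy'
  obtain ⟨P, hP, hPs⟩ := exists_prime_support_of_flat_compHom (M := F.presheaf.stalk x)
    (f.stalkMap x).hom hfl Q
  refine ⟨(X.fromSpecStalk x) P, ?_, ?_, ?_⟩
  · have : (X.fromSpecStalk x) P ∈ Set.range (X.fromSpecStalk x) := ⟨P, rfl⟩
    rw [Scheme.range_fromSpecStalk] at this
    exact this
  · exact (SuppStalkH8.mem_support_iff F x P).mp hPs
  · rw [map_fromSpecStalk]
    congr 1

end QFlatH8
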