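import Mathlib
import Groth.Prelude
import Groth.Agent.Lib.QFlat5_helper8

/-!
# Quasi-flat morphisms, VI: maximal points and irreducible components under base change (helper8).
APPEND-ONLY once landed.
-/

set_option autoImplicit false
universe u

open CategoryTheory AlgebraicGeometry TopologicalSpace Opposite CategoryTheory.Limits

namespace QFlatH8

section Top

variable {T : Type*} [TopologicalSpace T]

/-- The generic point of an irreducible component is a maximal point. -/
theorem eq_of_specializes_genericPoint [T0Space T] {Z : Set T} (hZ : Z ∈ irreducibleComponents T)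
    {ξ : T} (hξ : IsGenericPoint ξ Z) {z : T} (hz : z ⤳ ξ) : z = ξ := by
  have h1 : Z ⊆ closure {z} := by
    rw [← hξ.def]
    exact closure_minimal (Set.singleton_subset_iff.mpr (specializes_iff_mem_closure.mp hz))
      isClosed_closure
  have h2 : closure {z} ⊆ Z := hZ.2 isIrreducible_singleton.closure h1
  have h3 : IsGenericPoint z Z := Set.Subset.antisymm h2 h1
  exact h3.eq hξ

/-- The closure of a maximal point is an irreducible component. -/
theorem closure_singleton_mem_irreducibleComponents [QuasiSober T] {y : T}
    (hy : ∀ z : T, z ⤳ y → z = y) : closure {y} ∈ irreducibleComponents T := by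
  refine ⟨isIrreducible_singleton.closure, fun T' hT' hle => ?_⟩
  have hgen := hT'.isGenericPoint_genericPoint_closure
  have h1 : hT'.genericPoint ⤳ y := by
    rw [specializes_iff_mem_closure, hgen.def]
    exact subset_closure (hle (subset_closure rfl))
  have h2 := hy _ h1
  rw [h2] at hgen
  rw [hgen.def]
  exact subset_closure

theorem closure_image_closure_singleton {T' : Type*} [TopologicalSpace T'] {f : T → T'}
    (hf : Continuous f) (x : T) : closure (f '' closure {x}) = closure {f x} := by
  apply Set.Subset.antisymm
  · apply closure_minimal _ isClosed_closure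
    have := image_closure_subset_closure_image hf (s := {x})
    rwa [Set.image_singleton] at this
  · apply closure_mono
    rw [Set.singleton_subset_iff]
    exact ⟨x, subset_closure rfl, rfl⟩

end Top

section Fibre

variable {X Y Y' : Scheme.{u}} (f : X ⟶ Y) (g : Y' ⟶ Y)

/-- The base change of `f` to a fibre of `g` is flat, hence generizations *inside a fibre of `g`*
lift along the base change of `f`. -/
theorem exists_generization_in_fibre (η : Y) (x' : ↥(pullback f g))
    (hx' : g (pullback.snd f g x') = η) (t' : Y') (ht' : t' ⤳ pullback.snd f g x')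
    (htη : g t' = η) :
    ∃ τ' : ↥(pullback f g), τ' ⤳ x' ∧ pullback.snd f g τ' = t' := by
  set f' := pullback.snd f g with hf'
  set g' := pullback.fst f g with hg'
  set ι := g.fiberι η with hι
  set a := pullback.fst f' ι with ha
  set q := pullback.snd f' ι with hq
  -- the big pullback rectangle
  have sqL : IsPullback a q f' ι := IsPullback.of_hasPullback f' ι
  have sqR : IsPullback g' f' f g := IsPullback.of_hasPullback f g
  have outer : IsPullback (a ≫ g') q f (ι ≫ g) := sqL.paste_horiz sqR
  have hfac : ι ≫ g = g.fiberToSpecResidueField η ≫ Y.fromSpecResidueField η := g.fiber_fac η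
  rw [hfac] at outer
  have sqX : IsPullback (f.fiberι η) (f.fiberToSpecResidueField η) f (Y.fromSpecResidueField η) :=
    IsPullback.of_hasPullback f (Y.fromSpecResidueField η)
  have sqB := IsPullback.of_right' outer sqX
  haveI : Flat (f.fiberToSpecResidueField η) := inferInstance
  haveI : Flat q := MorphismProperty.of_isPullback (P := @Flat) sqB inferInstance
  have hgen : GeneralizingMap q := Flat.generalizingMap q
  -- points
  have hy'r : f' x' ∈ Set.range ι := by
    rw [hι, Scheme.Hom.range_fiberι]; exact hx'
  obtain ⟨y₀, hy₀⟩ := hy'r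
  have ht'r : t' ∈ Set.range ι := by
    rw [hι, Scheme.Hom.range_fiberι]; exact htη
  obtain ⟨t₀, ht₀⟩ := ht'r
  obtain ⟨π, hπa, hπq⟩ := Scheme.Pullback.exists_preimage_pullback (f := f') (g := ι) x' y₀ hy₀.symm
  have hsp : t₀ ⤳ q π := by
    have hemb := (g.fiberι η).isEmbedding
    rw [← hemb.isInducing.specializes_iff, hπq]
    show ι t₀ ⤳ ι y₀
    rw [ht₀, hy₀]
    exact ht'
  obtain ⟨τ, hτπ, hτq⟩ := hgen hsp
  refine ⟨a τ, ?_, ?_⟩
  · have := hτπ.map a.continuous
    rwa [hπa] at this
  · have hw : f' (a τ) = ι (q τ) := by
      have := congrArg (fun h : pullback f' ι ⟶ Y' => h τ) sqL.w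
      simpa only [Scheme.Hom.comp_apply] using this
    rw [hw, hτq, ht₀]

end Fibre

/-- Irreducible components and quasi-flat base change. -/
theorem closure_image_mem_irreducibleComponents {X Y Y' : Scheme.{u}} (f : X ⟶ Y) (g : Y' ⟶ Y)
    (hf : ∀ Z ∈ irreducibleComponents ↥X, closure (⇑f '' Z) ∈ irreducibleComponents ↥Y)
    (hg : FDesc.IsQuasiFlat g) (Z' : Set ↥(pullback f g))
    (hZ' : Z' ∈ irreducibleComponents ↥(pullback f g)) :
    closure (⇑(pullback.snd f g) '' Z') ∈ irreducibleComponents ↥Y' := by
  have hg' : FDesc.IsQuasiFlat (pullback.fst f g) :=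
    isQuasiFlat_of_isPullback (IsPullback.of_hasPullback f g).flip hg
  have hgen' := generalizingMap_of_isQuasiFlat _ hg'
  have hZcl : IsClosed Z' := isClosed_of_mem_irreducibleComponents _ hZ'
  have hξ' : IsGenericPoint hZ'.1.genericPoint Z' := hZ'.1.isGenericPoint_genericPoint hZcl
  set ξ' := hZ'.1.genericPoint with hξ'def
  have hmax' : ∀ z : ↥(pullback f g), z ⤳ ξ' → z = ξ' :=
    fun z hz => eq_of_specializes_genericPoint hZ' hξ' hz
  -- the image in `X` is a maximal point
  have hmaxξ : ∀ z : X, z ⤳ pullback.fst f g ξ' → z = pullback.fst f g ξ' := by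
    intro z hz
    obtain ⟨z', hz', rfl⟩ := hgen' hz
    rw [hmax' z' hz']
  have hcomp := closure_singleton_mem_irreducibleComponents hmaxξ
  have hηcomp := hf _ hcomp
  rw [closure_image_closure_singleton f.continuous] at hηcomp
  have hmaxη : ∀ z : Y, z ⤳ f (pullback.fst f g ξ') → z = f (pullback.fst f g ξ') :=
    fun z hz => eq_of_specializes_genericPoint hηcomp isGenericPoint_closure hz
  have hcond : g (pullback.snd f g ξ') = f (pullback.fst f g ξ') := by
    have := congrArg (fun h : pullback f g ⟶ Y => h ξ') (pullback.condition (f := f) (g := g))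
    simpa only [Scheme.Hom.comp_apply] using this.symm
  have hmaxy : ∀ t : Y', t ⤳ pullback.snd f g ξ' → t = pullback.snd f g ξ' := by
    intro t ht
    have h1 : g t = f (pullback.fst f g ξ') := by
      apply hmaxη
      rw [← hcond]
      exact ht.map g.continuous
    obtain ⟨τ', hτ', rfl⟩ := exists_generization_in_fibre f g _ ξ' hcond t ht h1
    rw [hmax' τ' hτ']
  have := closure_singleton_mem_irreducibleComponents hmaxy
  rw [← hξ'.def, closure_image_closure_singleton (pullback.snd f g).continuous]
  exact this

end QFlatH8
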