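import Mathlib
import Groth.Prelude
import Groth.Agent.Lib.QFlat6_helper8
import Groth.Agent.Lib.FieldGen_helper8
import Groth.Agent.Lib.FibRes2_helper8

/-!
# Dimension functions under flat base change: maximal points (helper8).
APPEND-ONLY once landed.
-/

set_option autoImplicit false
universe u

open CategoryTheory AlgebraicGeometry TopologicalSpace Opposite CategoryTheory.Limits

namespace CycBCH8

/-- Bridge: the transcendence degree of the residue field of a point of a fibre, over the residue
field of the base point, is the residue transcendence degree of the morphism at the image. -/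
theorem trdeg_fiber_point {X Y : Scheme.{u}} (f : X ⟶ Y) (s : Y) (z : ↥(f.fiber s)) (x : X)
    (hz : f.fiberι s z = x) :
    (letI : (f.fiber s).Over (Spec (CommRingCat.of (Y.residueField s))) :=
      ⟨f.fiberToSpecResidueField s⟩
     @Algebra.trdeg (Y.residueField s) ((f.fiber s).residueField z) _ _
      (Curv2.resAlgebra (Y.residueField s) (f.fiber s) z)) = Dual3.resTrdeg f x := by
  have hs : f x = s := by rw [← hz]; exact Groth.Agent.FibRes2H8.fiberι_mem f s z
  subst hs
  have hz' : z = f.asFiber x := by
    apply (f.fiberι (f x)).isEmbedding.injective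
    rw [hz, Scheme.Hom.fiberι_asFiber]
  subst hz'
  exact Groth.Agent.FibResH8.trdeg_asFiber f x

/-- In a flat base change `X' = X ×_S S'` of an integral scheme locally of finite type over `S`,
a maximal point `x'` of `X'` maps to the generic point of `X`, its image in `S'` is maximal in
its fibre over `S`, and the residue transcendence degrees of `X'/S'` at `x'` and of `X/S` at
the generic point agree. -/
theorem maximal_point_baseChange {S S' X : Scheme.{u}} (g : S' ⟶ S) [Flat g] (a : X ⟶ S)
    [LocallyOfFiniteType a] [IsIntegral X] (x' : ↥(pullback a g))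
    (hx' : ∀ y : ↥(pullback a g), y ⤳ x' → y = x') :
    pullback.fst a g x' = genericPoint X ∧
      (∀ y : S', g y = g (pullback.snd a g x') → y ⤳ pullback.snd a g x' →
        y = pullback.snd a g x') ∧
      Dual3.resTrdeg (pullback.snd a g) x' = Dual3.resTrdeg a (pullback.fst a g x') := by
  set p := pullback.fst a g with hp
  set q := pullback.snd a g with hq
  have hsq : IsPullback p q a g := IsPullback.of_hasPullback a g
  haveI : Flat p := MorphismProperty.of_isPullback (P := @Flat) hsq.flip inferInstance
  refine ⟨?_, ?_, ?_⟩
  · obtain ⟨y, hy, hpy⟩ := Flat.generalizingMap p (genericPoint_specializes (p x'))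
    rw [hx' y hy] at hpy
    exact hpy
  · intro y hy hyq
    obtain ⟨τ', hτ', hqτ'⟩ := QFlatH8.exists_generization_in_fibre a g (g (q x')) x' rfl y hyq hy
    rw [hx' τ' hτ'] at hqτ'
    exact hqτ'.symm
  · have sq := isPullback_fiberToSpecResidueField_of_isPullback hsq (q x')
    set θ := pullback.map q (S'.fromSpecResidueField (q x')) a (S.fromSpecResidueField (g (q x')))
      p (Spec.map (g.residueFieldMap (q x'))) g hsq.w.symm (by simp) with hθ
    have hlft : LocallyOfFiniteType (a.fiberToSpecResidueField (g (q x'))) :=
      Groth.Agent.FibRes2H8.lft_fiber a _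
    have hι : θ ≫ a.fiberι (g (q x')) = q.fiberι (q x') ≫ p := pullback.lift_fst _ _ _
    have hmaxz : ∀ w : ↥(q.fiber (q x')), w ⤳ q.asFiber x' → θ w = θ (q.asFiber x') →
        w = q.asFiber x' := by
      intro w hw _
      apply (q.fiberι (q x')).isEmbedding.injective
      rw [Scheme.Hom.fiberι_asFiber]
      apply hx'
      have := hw.map (q.fiberι (q x')).continuous
      rwa [Scheme.Hom.fiberι_asFiber] at this
    obtain ⟨m, hm1, hm2, -, -⟩ := @FieldGenH8.trdeg_eq_of_isMax_fibre
      (S.residueField (g (q x'))) (S'.residueField (q x')) _ _ _ _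
      θ (q.fiberToSpecResidueField (q x')) (a.fiberToSpecResidueField (g (q x')))
      (g.residueFieldMap (q x')) sq hlft (q.asFiber x') hmaxz
    have hθz : a.fiberι (g (q x')) (θ (q.asFiber x')) = p x' := by
      have := congrArg (fun k : q.fiber (q x') ⟶ X => k (q.asFiber x')) hι
      refine Eq.trans this ?_
      change p (q.fiberι (q x') (q.asFiber x')) = p x'
      rw [Scheme.Hom.fiberι_asFiber]
    have e1 := trdeg_fiber_point a (g (q x')) (θ (q.asFiber x')) (p x') hθz
    have e2 := trdeg_fiber_point q (q x') (q.asFiber x') x' (Scheme.Hom.fiberι_asFiber q x')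
    rw [← e1, ← e2]
    exact hm2.trans hm1.symm

end CycBCH8
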