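import Mathlib
import Groth.Agent.Lib.CycBC1_helper8
import Groth.Agent.Lib.AffDim16_helper8
import Groth.Agent.Lib.IrrDim_helper8

set_option autoImplicit false

universe u

open CategoryTheory CategoryTheory.Limits AlgebraicGeometry TopologicalSpace

namespace Groth.Agent.Lib.ProdDimH8

/-- a maximal point of a product of schemes locally of finite type over a field has height the
sum of the heights of its projections. -/
theorem height_maximal_prod (k : Type u) [Field k] {V W : Scheme.{u}}
    (a : V ⟶ Spec (CommRingCat.of k)) (g : W ⟶ Spec (CommRingCat.of k))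
    [LocallyOfFiniteType a] [LocallyOfFiniteType g] (p : ↥(pullback a g))
    (hp : ∀ y : ↥(pullback a g), y ⤳ p → y = p) :
    Order.height p = Order.height (pullback.fst a g p) + Order.height (pullback.snd a g p) := by
  set fs := pullback.fst a g with hfs
  set q := pullback.snd a g with hq
  have hsq : IsPullback fs q a g := IsPullback.of_hasPullback a g
  haveI : LocallyOfFiniteType q := MorphismProperty.of_isPullback hsq inferInstance
  have sq := isPullback_fiberToSpecResidueField_of_isPullback hsq (q p)
  set θ := pullback.map q (W.fromSpecResidueField (q p)) a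
      ((Spec (CommRingCat.of k)).fromSpecResidueField (g (q p)))
      fs (Spec.map (g.residueFieldMap (q p))) g hsq.w.symm (by simp) with hθ
  have hlft : LocallyOfFiniteType (a.fiberToSpecResidueField (g (q p))) :=
    Groth.Agent.FibRes2H8.lft_fiber a _
  have hι : θ ≫ a.fiberι (g (q p)) = q.fiberι (q p) ≫ fs := pullback.lift_fst _ _ _
  have hmaxz : ∀ w : ↥(q.fiber (q p)), w ⤳ q.asFiber p → θ w = θ (q.asFiber p) →
      w = q.asFiber p := by
    intro w hw _
    apply (q.fiberι (q p)).isEmbedding.injective
    rw [Scheme.Hom.fiberι_asFiber]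
    apply hp
    have := hw.map (q.fiberι (q p)).continuous
    rwa [Scheme.Hom.fiberι_asFiber] at this
  obtain ⟨m, -, -, hm3, hm4⟩ := @FieldGenH8.trdeg_eq_of_isMax_fibre
    ((Spec (CommRingCat.of k)).residueField (g (q p))) (W.residueField (q p)) _ _ _ _
    θ (q.fiberToSpecResidueField (q p)) (a.fiberToSpecResidueField (g (q p)))
    (g.residueFieldMap (q p)) sq hlft (q.asFiber p) hmaxz
  have hθz : a.fiberι (g (q p)) (θ (q.asFiber p)) = fs p := by
    have := congrArg (fun t : q.fiber (q p) ⟶ V => t (q.asFiber p)) hι
    refine Eq.trans this ?_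
    change fs (q.fiberι (q p) (q.asFiber p)) = fs p
    rw [Scheme.Hom.fiberι_asFiber]
  have h1 := Groth.Agent.Lib.AffDimH8.height_fiberι k g q (q p) (q.asFiber p)
  rw [Scheme.Hom.fiberι_asFiber] at h1
  have h2 := Groth.Agent.Lib.AffDimH8.height_fiberι k (𝟙 (Spec (CommRingCat.of k))) a (g (q p))
    (θ (q.asFiber p))
  rw [hθz] at h2
  have h0 : Order.height (g (q p)) = 0 := by
    rw [Order.height_eq_zero]
    intro b _
    have : b = g (q p) := Subsingleton.elim _ _
    rw [this]
  rw [h0, zero_add] at h2
  have h2' : Order.height (fs p) = (m : ℕ∞) := h2.trans hm3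
  have h1' : Order.height p = Order.height (q p) + (m : ℕ∞) := h1.trans (congrArg _ hm4)
  rw [h1', h2', add_comm]

/-- every maximal point of a product of integral schemes locally of finite type over a field has
height the sum of the dimensions. -/
theorem height_maximal_prod_integral (k : Type u) [Field k] {V W : Scheme.{u}}
    (a : V ⟶ Spec (CommRingCat.of k)) (g : W ⟶ Spec (CommRingCat.of k))
    [LocallyOfFiniteType a] [LocallyOfFiniteType g] [IsIntegral V] [IsIntegral W] (r s : ℕ)
    (hr : topologicalKrullDim V = r) (hs : topologicalKrullDim W = s) (p : ↥(pullback a g))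
    (hp : ∀ y : ↥(pullback a g), y ⤳ p → y = p) :
    Order.height p = ((r + s : ℕ) : ℕ∞) := by
  have hsq : IsPullback (pullback.fst a g) (pullback.snd a g) a g := IsPullback.of_hasPullback a g
  haveI : Flat a := inferInstance
  haveI : Flat g := inferInstance
  haveI : Flat (pullback.fst a g) := MorphismProperty.of_isPullback hsq.flip inferInstance
  haveI : Flat (pullback.snd a g) := MorphismProperty.of_isPullback hsq inferInstance
  have h1 : pullback.fst a g p = genericPoint V := by
    obtain ⟨y, hy, hpy⟩ := Flat.generalizingMap (pullback.fst a g)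
      (genericPoint_specializes (pullback.fst a g p))
    rw [hp y hy] at hpy
    exact hpy
  have h2 : pullback.snd a g p = genericPoint W := by
    obtain ⟨y, hy, hpy⟩ := Flat.generalizingMap (pullback.snd a g)
      (genericPoint_specializes (pullback.snd a g p))
    rw [hp y hy] at hpy
    exact hpy
  have h3 := Groth.Agent.IrrDimH8.topDim_eq_height_generic V _
    (fun x' => genericPoint_specializes x')
  have h4 := Groth.Agent.IrrDimH8.topDim_eq_height_generic W _
    (fun x' => genericPoint_specializes x')
  rw [hr] at h3
  rw [hs] at h4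
  have h3' : Order.height (genericPoint V) = (r : ℕ∞) := by exact_mod_cast h3.symm
  have h4' : Order.height (genericPoint W) = (s : ℕ∞) := by exact_mod_cast h4.symm
  rw [height_maximal_prod k a g p hp, h1, h2, h3', h4']
  push_cast
  rfl

end Groth.Agent.Lib.ProdDimH8
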