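import Mathlib

set_option autoImplicit false

universe u

open CategoryTheory CategoryTheory.Limits AlgebraicGeometry TopologicalSpace

namespace Groth.Agent.Lib.ProdDimH8

/-- range of a product morphism -/
theorem mem_range_pullback_map {X Y S X' Y' : Scheme.{u}} (f : X ⟶ S) (g : Y ⟶ S)
    (f' : X' ⟶ S) (g' : Y' ⟶ S) (i₁ : X ⟶ X') (i₂ : Y ⟶ Y')
    (e₁ : f ≫ 𝟙 S = i₁ ≫ f') (e₂ : g ≫ 𝟙 S = i₂ ≫ g') (t : ↥(pullback f' g')) (v : X) (w : Y)
    (hv : pullback.fst f' g' t = i₁ v) (hw : pullback.snd f' g' t = i₂ w) :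
    t ∈ Set.range (pullback.map f g f' g' i₁ i₂ (𝟙 S) e₁ e₂) := by
  have hsq := pullback_lift_map_isPullback f g f' g' i₁ i₂ (𝟙 S) e₁ e₂
  obtain ⟨t₁, ht₁, -⟩ := Scheme.Pullback.exists_preimage_pullback (f := pullback.fst f' g')
    (g := i₁) t v hv
  obtain ⟨t₂, ht₂, -⟩ := Scheme.Pullback.exists_preimage_pullback (f := pullback.snd f' g')
    (g := i₂) t w hw
  obtain ⟨c, hc1, -⟩ := Scheme.exists_preimage_of_isPullback hsq t₁ t₂
    (ht₁.trans ht₂.symm)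
  refine ⟨c, ?_⟩
  have h1 : pullback.lift (pullback.map f g f' g' i₁ i₂ (𝟙 S) e₁ e₂) (pullback.fst f g)
      (pullback.lift_fst _ _ _) ≫ pullback.fst (pullback.fst f' g') i₁ =
      pullback.map f g f' g' i₁ i₂ (𝟙 S) e₁ e₂ := pullback.lift_fst _ _ _
  have h2 := congrArg (fun m : pullback f g ⟶ pullback f' g' => m c) h1
  have h3 : pullback.map f g f' g' i₁ i₂ (𝟙 S) e₁ e₂ c =
      pullback.fst (pullback.fst f' g') i₁ (pullback.lift (pullback.map f g f' g' i₁ i₂ (𝟙 S) e₁ e₂)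
        (pullback.fst f g) (pullback.lift_fst _ _ _) c) := by
    rw [← Scheme.Hom.comp_apply]; exact h2.symm
  rw [h3]
  have hc1' : pullback.lift (pullback.map f g f' g' i₁ i₂ (𝟙 S) e₁ e₂) (pullback.fst f g)
      (pullback.lift_fst _ _ _) c = t₁ := hc1
  rw [hc1', ht₁]

end Groth.Agent.Lib.ProdDimH8
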