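import Mathlib
import Groth.Prelude.Def_RegImm
import Groth.Agent.Lib.ProdDim1_helper8
import Groth.Agent.Lib.ProdDim2_helper8
import Groth.Agent.Lib.RegMeet3_helper8
import Groth.Agent.Lib.DiagReg10_helper8
import Groth.Agent.Lib.ClosHt_helper8

set_option autoImplicit false

universe u

open CategoryTheory CategoryTheory.Limits AlgebraicGeometry TopologicalSpace

namespace Groth.Agent.Lib.ProdDimH8

/-- an irreducible component of a product of integral schemes of dimensions `r`, `s` locally of
finite type over a field has dimension `r + s`. -/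
theorem topDim_component_prod (k : Type u) [Field k] {V W : Scheme.{u}}
    (a : V ⟶ Spec (CommRingCat.of k)) (g : W ⟶ Spec (CommRingCat.of k))
    [LocallyOfFiniteType a] [LocallyOfFiniteType g] [IsIntegral V] [IsIntegral W] (r s : ℕ)
    (hr : topologicalKrullDim V = r) (hs : topologicalKrullDim W = s)
    (P : Set ↥(pullback a g)) (hP : P ∈ irreducibleComponents ↥(pullback a g)) :
    topologicalKrullDim ↥P = ((r + s : ℕ) : WithBot ℕ∞) := by
  have hPcl : IsClosed P := isClosed_of_mem_irreducibleComponents P hP
  obtain ⟨p, hp⟩ := QuasiSober.sober hP.1 hPcl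
  have hPeq : P = closure {p} := hp.symm
  have hmax : ∀ y : ↥(pullback a g), y ⤳ p → y = p := by
    intro y hy
    have hsub : P ⊆ closure {y} := by
      rw [hPeq]
      exact closure_minimal (Set.singleton_subset_iff.mpr hy.mem_closure) isClosed_closure
    have hle : closure {y} ⊆ P := hP.2 isIrreducible_singleton.closure hsub
    have hyP : y ∈ P := hle (subset_closure rfl)
    have hpy : p ⤳ y := by
      rw [specializes_iff_mem_closure, ← hPeq]
      exact hyP
    exact (hy.antisymm hpy).eq
  rw [hPeq, Groth.Agent.ClosHtH8.topologicalKrullDim_closure_singleton,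
    height_maximal_prod_integral k a g r s hr hs p hmax]
  rfl

end Groth.Agent.Lib.ProdDimH8
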