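import Mathlib
import Groth.Prelude.Def_RegImm
import Groth.Agent.Lib.ProdDim3_helper8
import Groth.Agent.Lib.CohDev6_helper8

set_option autoImplicit false

universe u

open CategoryTheory CategoryTheory.Limits AlgebraicGeometry TopologicalSpace

namespace Groth.Agent.Lib.ProdDimH8

theorem main19416 (k : Type u) [Field k] (X : Scheme.{u})
    (f : X ⟶ Spec (CommRingCat.of k)) [Smooth f] [IsIntegral X]
    (n r s : ℕ) (hn : topologicalKrullDim X = n) (V W : Set X) (hVc : IsClosed V)
    (hVi : IsIrreducible V) (hWc : IsClosed W) (hWi : IsIrreducible W)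
    (hr : topologicalKrullDim ↥V = r) (hs : topologicalKrullDim ↥W = s) (Z : Set ↥(V ∩ W))
    (hZ : Z ∈ irreducibleComponents ↥(V ∩ W)) :
    ((r + s : ℕ) : WithBot ℕ∞) ≤ topologicalKrullDim ↥Z + n := by
  classical
  haveI : LocallyOfFiniteType f := inferInstance
  -- integral models of `V` and `W`
  obtain ⟨yV, hyV⟩ := QuasiSober.sober hVi hVc
  obtain ⟨yW, hyW⟩ := QuasiSober.sober hWi hWc
  obtain ⟨V', iV, hiV, hintV, hrV, -⟩ := CohDevH8.exists_integral_subscheme V hVc yV hyV
  obtain ⟨W', iW, hiW, hintW, hrW, -⟩ := CohDevH8.exists_integral_subscheme W hWc yW hyW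
  have hdimV : topologicalKrullDim V' = r := by
    rw [IsHomeomorph.topologicalKrullDim_eq _ iV.isEmbedding.toHomeomorph.isHomeomorph, hrV, hr]
  have hdimW : topologicalKrullDim W' = s := by
    rw [IsHomeomorph.topologicalKrullDim_eq _ iW.isEmbedding.toHomeomorph.isHomeomorph, hrW, hs]
  haveI : LocallyOfFiniteType (iV ≫ f) := inferInstance
  haveI : LocallyOfFiniteType (iW ≫ f) := inferInstance
  -- the product and its map to `X × X`
  set π := pullback.map (iV ≫ f) (iW ≫ f) f f iV iW (𝟙 _) (by simp) (by simp) with hπ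
  haveI hπc : IsClosedImmersion π :=
    MorphismProperty.pullbackMap (P := @IsClosedImmersion) hiV hiW rfl rfl
  haveI : LocallyOfFiniteType π := inferInstance
  let qXX : pullback f f ⟶ Spec (CommRingCat.of k) := pullback.fst f f ≫ f
  haveI : LocallyOfFiniteType qXX := inferInstance
  -- the component `Z` as a closed irreducible subset of `X`
  have hTc : IsClosed (V ∩ W) := hVc.inter hWc
  have hZc : IsClosed Z := isClosed_of_mem_irreducibleComponents Z hZ
  set Z' : Set X := Subtype.val '' Z with hZ'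
  have hZ'c : IsClosed Z' := (hTc.isClosedEmbedding_subtypeVal).isClosedMap _ hZc
  have hZ'i : IsIrreducible Z' := hZ.1.image _ continuous_subtype_val.continuousOn
  obtain ⟨ζ, hζ⟩ := QuasiSober.sober hZ'i hZ'c
  have hζZ' : ζ ∈ Z' := hζ.mem
  obtain ⟨⟨ζ₀, hζ₀VW⟩, hζ₀Z, hζ₀⟩ := hζZ'
  have hζVW : ζ ∈ V ∩ W := by
    have : ζ₀ = ζ := hζ₀
    rw [← this]; exact hζ₀VW
  have hdimZ : topologicalKrullDim ↥Z = ((Order.height ζ : ℕ∞) : WithBot ℕ∞) := by
    rw [IsHomeomorph.topologicalKrullDim_eq _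
      (Topology.IsEmbedding.subtypeVal.homeomorphImage Z).isHomeomorph]
    have : Subtype.val '' Z = closure {ζ} := hζ.symm
    rw [this]
    exact Groth.Agent.ClosHtH8.topologicalKrullDim_closure_singleton X ζ
  -- maximality of `ζ` in `V ∩ W`
  have hζmax : ∀ x : X, x ∈ V ∩ W → x ⤳ ζ → x = ζ := by
    intro x hx hxζ
    -- the closure of `x` in `V ∩ W` is irreducible and contains `Z`
    let x₀ : ↥(V ∩ W) := ⟨x, hx⟩
    have hsub : Z ⊆ closure {x₀} := by
      intro z hz
      rw [← specializes_iff_mem_closure, subtype_specializes_iff]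
      show x ⤳ (z : X)
      have hzZ' : (z : X) ∈ closure {ζ} := by
        rw [hζ]; exact ⟨z, hz, rfl⟩
      exact hxζ.trans (specializes_iff_mem_closure.mpr hzZ')
    have hle : closure {x₀} ⊆ Z := hZ.2 isIrreducible_singleton.closure hsub
    have hxZ : x₀ ∈ Z := hle (subset_closure rfl)
    have hxZ' : x ∈ closure {ζ} := by
      rw [hζ]; exact ⟨x₀, hxZ, rfl⟩
    exact (hxζ.antisymm (specializes_iff_mem_closure.mpr hxZ')).eq
  -- the point of the product over the diagonal point
  obtain ⟨v, hv⟩ : ζ ∈ Set.range iV := hrV ▸ hζVW.1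
  obtain ⟨w, hw⟩ : ζ ∈ Set.range iW := hrW ▸ hζVW.2
  have hfst : ∀ z : X, pullback.fst f f (pullback.diagonal f z) = z := by
    intro z
    have := congrArg (fun t : X ⟶ X => t z) (pullback.diagonal_fst f)
    rw [Scheme.Hom.comp_apply] at this
    exact this
  have hsnd : ∀ z : X, pullback.snd f f (pullback.diagonal f z) = z := by
    intro z
    have := congrArg (fun t : X ⟶ X => t z) (pullback.diagonal_snd f)
    rw [Scheme.Hom.comp_apply] at this
    exact this
  obtain ⟨ξ, hξ⟩ := mem_range_pullback_map (iV ≫ f) (iW ≫ f) f f iV iW (by simp) (by simp)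
    (pullback.diagonal f ζ) v w ((hfst ζ).trans hv.symm) ((hsnd ζ).trans hw.symm)
  have hξ' : π ξ = pullback.diagonal f ζ := hξ
  -- projections of points of the product
  have hπfst : ∀ c, pullback.fst f f (π c) = iV (pullback.fst (iV ≫ f) (iW ≫ f) c) := by
    intro c
    have h1 : π ≫ pullback.fst f f = pullback.fst (iV ≫ f) (iW ≫ f) ≫ iV := pullback.lift_fst _ _ _
    have := congrArg (fun t : pullback (iV ≫ f) (iW ≫ f) ⟶ X => t c) h1
    simpa using this
  have hπsnd : ∀ c, pullback.snd f f (π c) = iW (pullback.snd (iV ≫ f) (iW ≫ f) c) := by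
    intro c
    have h1 : π ≫ pullback.snd f f = pullback.snd (iV ≫ f) (iW ≫ f) ≫ iW := pullback.lift_snd _ _ _
    have := congrArg (fun t : pullback (iV ≫ f) (iW ≫ f) ⟶ X => t c) h1
    simpa using this
  -- the component through `ξ`
  set P := irreducibleComponent ξ with hPdef
  have hP : P ∈ irreducibleComponents ↥(pullback (iV ≫ f) (iW ≫ f)) :=
    irreducibleComponent_mem_irreducibleComponents ξ
  have hξP : ξ ∈ P := mem_irreducibleComponent
  have hdimP := topDim_component_prod k (iV ≫ f) (iW ≫ f) r s hdimV hdimW P hP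
  have hreg := Groth.Agent.Lib.DiagRegH8.diagonal_isRegularImmersionOfCodim k X f n hn
  have key := Groth.Agent.Lib.RegMeetH8.le_height_add_of_regImm k qXX π (pullback.diagonal f)
    RegImm.Kind.regular (r + s) n hreg P hP hdimP ξ hξP ⟨ζ, hξ'.symm⟩ (by
      intro a _ ha hsp
      obtain ⟨x, hx⟩ := ha
      have hxV : x ∈ V := by
        rw [← hrV]
        refine ⟨pullback.fst (iV ≫ f) (iW ≫ f) a, ?_⟩
        rw [← hπfst, ← hx, hfst]
      have hxW : x ∈ W := by
        rw [← hrW]
        refine ⟨pullback.snd (iV ≫ f) (iW ≫ f) a, ?_⟩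
        rw [← hπsnd, ← hx, hsnd]
      have hsp' : π a ⤳ π ξ := hsp.map π.continuous
      rw [← hx, hξ'] at hsp'
      have hsp'' : x ⤳ ζ := by
        have := hsp'.map (pullback.fst f f).continuous
        rwa [hfst, hfst] at this
      have hxζ : x = ζ := hζmax x ⟨hxV, hxW⟩ hsp''
      apply π.isEmbedding.injective
      rw [hξ', ← hx, hxζ])
  -- heights
  have h1 : Order.height ξ = Order.height (π ξ) :=
    Groth.Agent.Lib.AffDimH8.height_eq_of_lqf k qXX π ξ
  have h2 : Order.height ζ = Order.height (pullback.diagonal f ζ) :=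
    Groth.Agent.Lib.AffDimH8.height_eq_of_lqf k qXX (pullback.diagonal f) ζ
  rw [h1, hξ', ← h2] at key
  rw [hdimZ]
  have : (((r + s : ℕ) : ℕ∞) : WithBot ℕ∞) ≤ ((Order.height ζ + (n : ℕ∞) : ℕ∞) : WithBot ℕ∞) :=
    WithBot.coe_le_coe.mpr key
  simpa using this

end Groth.Agent.Lib.ProdDimH8
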