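import Mathlib
import Groth.Prelude.Def_CohB1
import Groth.Agent.Lib.DimFT3_helper8

set_option autoImplicit false

universe u

namespace Groth.Agent.Lib.ProjDimH8

/-- dimension of a quotient of a finitely generated algebra over a field by a prime is a natural
number equal to the transcendence degree. -/
theorem exists_dim_quotient (k A : Type u) [Field k] [CommRing A] [Algebra k A]
    [Algebra.FiniteType k A] (P : Ideal A) [P.IsPrime] :
    ∃ r : ℕ, ringKrullDim (A ⧸ P) = r ∧ Algebra.trdeg k (A ⧸ P) = r := by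
  haveI : Algebra.FiniteType k (A ⧸ P) :=
    Algebra.FiniteType.of_surjective (Ideal.Quotient.mkₐ k P) (Ideal.Quotient.mkₐ_surjective k P)
  obtain ⟨r, -, hr, hdim, -⟩ := Groth.Agent.DimFTH8.exists_dim_eq k (A ⧸ P)
  exact ⟨r, hdim, hr⟩

/-- **Hauptidealsatz + dimension formula**: cutting an integral affine variety by one equation
drops the dimension of every component by exactly one. -/
theorem dim_quotient_of_mem_minimalPrimes (k A : Type u) [Field k] [CommRing A] [Algebra k A]
    [Algebra.FiniteType k A] (P : Ideal A) [P.IsPrime] (f : A) (hf : f ∉ P) (Q : Ideal A)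
    (hQ : Q ∈ (P ⊔ Ideal.span {f}).minimalPrimes) :
    ringKrullDim (A ⧸ Q) + 1 = ringKrullDim (A ⧸ P) := by
  haveI hQp : Q.IsPrime := hQ.1.1
  have hPQ : P ≤ Q := le_sup_left.trans hQ.1.2
  have hfQ : f ∈ Q := hQ.1.2 (Ideal.mem_sup_right (Ideal.subset_span rfl))
  let B := A ⧸ P
  haveI : Algebra.FiniteType k B :=
    Algebra.FiniteType.of_surjective (Ideal.Quotient.mkₐ k P) (Ideal.Quotient.mkₐ_surjective k P)
  haveI : IsNoetherianRing A := Algebra.FiniteType.isNoetherianRing k A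
  haveI : IsNoetherianRing B := Algebra.FiniteType.isNoetherianRing k B
  let Qb : Ideal B := Q.map (Ideal.Quotient.mk P)
  haveI hQb : Qb.IsPrime := Ideal.map_isPrime_of_surjective Ideal.Quotient.mk_surjective
    (by rw [Ideal.mk_ker]; exact hPQ)
  have h1 : Qb.height ≤ 1 := Ideal.map_height_le_one_of_mem_minimalPrimes hQ
  have h2 : Qb.height ≠ 0 := by
    intro h0
    rw [Ideal.height_eq_zero_iff] at h0
    have hbot : Qb = ⊥ := by
      rw [IsDomain.minimalPrimes_eq_singleton_bot] at h0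
      exact h0
    have hfb : Ideal.Quotient.mk P f ∈ Qb := Ideal.mem_map_of_mem _ hfQ
    rw [hbot, Ideal.mem_bot, Ideal.Quotient.eq_zero_iff_mem] at hfb
    exact hf hfb
  have h3 : Qb.height = 1 := le_antisymm h1 (Order.one_le_iff_pos.mpr (pos_iff_ne_zero.mpr h2))
  have h4 := Groth.Agent.DimFT3H8.trdeg_quotient_of_height_eq_one k B Qb h3
  -- B ⧸ Qb ≃ A ⧸ Q
  let e : (B ⧸ Qb) ≃ₐ[k] A ⧸ Q := DoubleQuot.quotQuotEquivQuotOfLEₐ k hPQ
  obtain ⟨r, hr1, hr2⟩ := exists_dim_quotient k A P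
  obtain ⟨s, hs1, hs2⟩ := exists_dim_quotient k A Q
  have h5 : Algebra.trdeg k (B ⧸ Qb) = Algebra.trdeg k (A ⧸ Q) := e.trdeg_eq
  rw [h5, hs2, hr2] at h4
  rw [hr1, hs1]
  have : s + 1 = r := by exact_mod_cast h4
  rw [← this]
  rfl

end Groth.Agent.Lib.ProjDimH8
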