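import Mathlib
import Groth.Agent.Lib.ProdDim4_helper8
import Groth.Agent.Lib.SubComp_helper8
import Groth.Agent.Lib.ProjDim2_helper8

set_option autoImplicit false

universe u

open AlgebraicGeometry CategoryTheory

namespace Groth.Agent.Lib.AffIntH8

/-- dimension of a closed subset `V(I)` of `Spec R`. -/
theorem topologicalKrullDim_zeroLocus {R : Type u} [CommRing R] (I : Ideal R) :
    topologicalKrullDim ↥(PrimeSpectrum.zeroLocus (I : Set R)) = ringKrullDim (R ⧸ I) := by
  rw [← PrimeSpectrum.topologicalKrullDim_eq_ringKrullDim]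
  have hemb := PrimeSpectrum.isClosedEmbedding_comap_of_surjective (R ⧸ I) (Ideal.Quotient.mk I)
    Ideal.Quotient.mk_surjective
  have hrange : Set.range (PrimeSpectrum.comap (Ideal.Quotient.mk I)) =
      PrimeSpectrum.zeroLocus (I : Set R) := by
    rw [range_comap_of_surjective _ _ Ideal.Quotient.mk_surjective, Ideal.mk_ker]
  rw [← hrange]
  exact (hemb.isEmbedding.toHomeomorph).isHomeomorph.topologicalKrullDim_eq.symm

/-- **Affine dimension theorem**: components of `V(P) ∩ V(P')` in affine `N`-space have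
dimension at least `dim V(P) + dim V(P') - N`. -/
theorem affine_dimension_theorem (k : Type u) [Field k] (N : ℕ)
    (P P' Q : Ideal (MvPolynomial (Fin N) k)) [hP : P.IsPrime] [hP' : P'.IsPrime]
    (hQ : Q ∈ (P ⊔ P').minimalPrimes) :
    ringKrullDim (MvPolynomial (Fin N) k ⧸ P) + ringKrullDim (MvPolynomial (Fin N) k ⧸ P') ≤
      ringKrullDim (MvPolynomial (Fin N) k ⧸ Q) + N := by
  let A := MvPolynomial (Fin N) k
  haveI hQp : Q.IsPrime := hQ.1.1
  obtain ⟨r, hr, -⟩ := Groth.Agent.Lib.ProjDimH8.exists_dim_quotient k A P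
  obtain ⟨s, hs, -⟩ := Groth.Agent.Lib.ProjDimH8.exists_dim_quotient k A P'
  let X : Scheme.{u} := Spec (CommRingCat.of A)
  let f : X ⟶ Spec (CommRingCat.of k) := Spec.map (CommRingCat.ofHom (algebraMap k A))
  haveI : Smooth f := by
    rw [HasRingHomProperty.Spec_iff (P := @Smooth)]
    exact RingHom.smooth_algebraMap.mpr ⟨inferInstance, inferInstance⟩
  haveI : IsIntegral X := inferInstanceAs (IsIntegral (Spec (CommRingCat.of A)))
  have hn : topologicalKrullDim X = (N : ℕ) := by
    change topologicalKrullDim (PrimeSpectrum A) = _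
    rw [PrimeSpectrum.topologicalKrullDim_eq_ringKrullDim,
      MvPolynomial.ringKrullDim_of_isNoetherianRing, ringKrullDim_eq_zero_of_field]
    simp
  let V : Set X := PrimeSpectrum.zeroLocus (P : Set A)
  let W : Set X := PrimeSpectrum.zeroLocus (P' : Set A)
  have hVc : IsClosed V := PrimeSpectrum.isClosed_zeroLocus _
  have hWc : IsClosed W := PrimeSpectrum.isClosed_zeroLocus _
  have hVi : IsIrreducible V := (PrimeSpectrum.isIrreducible_zeroLocus_iff_of_radical _
    hP.isRadical).mpr hP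
  have hWi : IsIrreducible W := (PrimeSpectrum.isIrreducible_zeroLocus_iff_of_radical _
    hP'.isRadical).mpr hP'
  have hrV : topologicalKrullDim ↥V = r := by
    rw [← hr]; exact topologicalKrullDim_zeroLocus P
  have hsW : topologicalKrullDim ↥W = s := by
    rw [← hs]; exact topologicalKrullDim_zeroLocus P'
  have hVW : V ∩ W = PrimeSpectrum.zeroLocus ((P ⊔ P' : Ideal A) : Set A) := by
    change PrimeSpectrum.zeroLocus (P : Set A) ∩ PrimeSpectrum.zeroLocus (P' : Set A) = _
    rw [PrimeSpectrum.zeroLocus_sup]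
  let q : X := (⟨Q, hQp⟩ : PrimeSpectrum A)
  have hqVW : q ∈ V ∩ W := by
    rw [hVW]
    change (⟨Q, hQp⟩ : PrimeSpectrum A) ∈ PrimeSpectrum.zeroLocus _
    rw [PrimeSpectrum.mem_zeroLocus]
    exact hQ.1.2
  have hmax : ∀ w₁ ∈ V ∩ W, w₁ ⤳ q → w₁ = q := by
    intro w₁ hw₁ hsp
    rw [hVW] at hw₁
    have hw₁ : ((P ⊔ P' : Ideal A) : Set A) ⊆ (w₁ : PrimeSpectrum A).asIdeal := hw₁
    have hle : (w₁ : PrimeSpectrum A).asIdeal ≤ Q :=
      (PrimeSpectrum.le_iff_specializes (w₁ : PrimeSpectrum A) ⟨Q, hQp⟩).mpr hsp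
    have hge : Q ≤ (w₁ : PrimeSpectrum A).asIdeal := hQ.2 ⟨(w₁ : PrimeSpectrum A).isPrime, hw₁⟩ hle
    exact PrimeSpectrum.ext (le_antisymm hle hge)
  obtain ⟨hZ, hZimg⟩ := SubCompH8.component_of_isMax_closed (V ∩ W) (hVc.inter hWc) q hqVW hmax
  have key := Groth.Agent.Lib.ProdDimH8.main19416 k X f N r s hn V W hVc hVi hWc hWi hrV hsW _ hZ
  rw [← SubCompH8.dim_image_val, hZimg] at key
  have hcl : closure ({q} : Set X) = PrimeSpectrum.zeroLocus (Q : Set A) := by
    change closure ({(⟨Q, hQp⟩ : PrimeSpectrum A)} : Set (PrimeSpectrum A)) = _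
    rw [PrimeSpectrum.closure_singleton]
  have h5 : topologicalKrullDim ↥(closure ({q} : Set X)) = ringKrullDim (A ⧸ Q) := by
    rw [hcl]
    exact topologicalKrullDim_zeroLocus Q
  rw [h5] at key
  rw [hr, hs]
  exact_mod_cast key

end Groth.Agent.Lib.AffIntH8
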