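import Groth.Prelude.Def_AffAlg
import Groth.Agent.Lib.QCohCrit2_helper9
import Mathlib
set_option autoImplicit false
open CategoryTheory AlgebraicGeometry Opposite TopologicalSpace
universe u
namespace AffIsoH8

section
variable {X Y S : Scheme.{u}} (gX : X ⟶ S) (h : Y ⟶ X)

theorem isIso_app_of_isIso_algHom (hiso : IsIso (AffAlg.algHom gX (h ≫ gX) h rfl))
    (U : S.Opens) : IsIso (h.app (gX ⁻¹ᵁ U)) := by
  have h1 : IsIso ((AffAlg.algHom gX (h ≫ gX) h rfl).app (op U)) := inferInstance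
  have h2 : (AffAlg.algHom gX (h ≫ gX) h rfl).app (op U) = h.app (gX ⁻¹ᵁ U) := by
    unfold AffAlg.algHom
    simp
    rfl
  rw [h2] at h1
  exact h1


variable [IsAffineHom gX] [IsAffineHom (h ≫ gX)]

theorem isIso_of_isIso_app (happ : ∀ U : S.Opens, IsIso (h.app (gX ⁻¹ᵁ U))) : IsIso h := by
  have hcov : ⨆ U : S.affineOpens, (gX ⁻¹ᵁ (U : S.Opens)) = ⊤ := by
    rw [eq_top_iff]
    intro x _
    obtain ⟨_, ⟨U, hU : IsAffineOpen U, rfl⟩, hxU, -⟩ :=
      (S.isBasis_affineOpens).exists_subset_of_mem_open (Set.mem_univ (gX x)) isOpen_univ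
    exact Opens.mem_iSup.mpr ⟨⟨U, hU⟩, hxU⟩
  let 𝒰 : S.affineOpens → X.affineOpens := fun U => ⟨gX ⁻¹ᵁ (U : S.Opens), U.2.preimage gX⟩
  have hcov' : ⨆ U : S.affineOpens, ((𝒰 U : X.affineOpens) : X.Opens) = ⊤ := hcov
  have := (HasAffineProperty.iff_of_iSup_eq_top (P := MorphismProperty.isomorphisms Scheme)
    (f := h) 𝒰 hcov').mpr ?_
  · exact this
  intro U
  constructor
  · have haff : IsAffineOpen ((h ≫ gX) ⁻¹ᵁ (U : S.Opens)) := U.2.preimage (h ≫ gX)
    exact haff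
  · rw [morphismRestrict_appTop]
    have : ∀ V' : X.Opens, V' = gX ⁻¹ᵁ (U : S.Opens) → IsIso (h.app V') := by
      rintro V' rfl
      exact happ _
    have i1 := this ((𝒰 U : X.Opens).ι ''ᵁ ⊤) (Scheme.Opens.ι_image_top _)
    have i2 : IsIso (Y.presheaf.map
        (eqToHom (image_morphismRestrict_preimage h (𝒰 U : X.Opens) ⊤)).op) := by
      rw [eqToHom_op, eqToHom_map]
      infer_instance
    exact @IsIso.comp_isIso _ _ _ _ _ _ _ i1 i2

end
end AffIsoH8
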