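import Mathlib
import Groth.Prelude

set_option autoImplicit false
set_option linter.style.haveILetI false
set_option linter.unusedVariables false

universe u

open CategoryTheory CategoryTheory.Limits AlgebraicGeometry

namespace Groth.Agent.Lib.MorSOpenH4

variable {X Y U S : Scheme.{u}} (gX : X ⟶ S) (gY : Y ⟶ S)

noncomputable abbrev PX (T : Over S) : Over S := (Over.map gX).obj ((Over.pullback gX).obj T)

noncomputable abbrev PXmap {T' T : Over S} (φ : T' ⟶ T) : PX gX T' ⟶ PX gX T :=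
  (Over.map gX).map ((Over.pullback gX).map φ)

theorem PXmap_left_fst {T' T : Over S} (φ : T' ⟶ T) :
    (PXmap gX φ).left ≫ pullback.fst T.hom gX = pullback.fst T'.hom gX ≫ φ.left :=
  pullback.lift_fst _ _ _

theorem PXmap_left_snd {T' T : Over S} (φ : T' ⟶ T) :
    (PXmap gX φ).left ≫ pullback.snd T.hom gX = pullback.snd T'.hom gX :=
  pullback.lift_snd _ _ _

theorem isPullback_PXmap {T' T : Over S} (φ : T' ⟶ T) :
    IsPullback (PXmap gX φ).left (pullback.fst T'.hom gX) (pullback.fst T.hom gX) φ.left := by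
  refine IsPullback.of_right ?_ (PXmap_left_fst gX φ) (IsPullback.of_hasPullback T.hom gX).flip
  rw [PXmap_left_snd, Over.w φ]
  exact (IsPullback.of_hasPullback T'.hom gX).flip

theorem exists_point {T' T : Over S} (φ : T' ⟶ T) (z : (pullback T.hom gX : Scheme.{u}))
    (t : T'.left) (h : (pullback.fst T.hom gX) z = φ.left t) :
    ∃ w : (pullback T'.hom gX : Scheme.{u}),
      (PXmap gX φ).left w = z ∧ (pullback.fst T'.hom gX) w = t := by
  have hP := isPullback_PXmap gX φ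
  obtain ⟨q, hq1, hq2⟩ := Scheme.Pullback.exists_preimage_pullback
    (f := pullback.fst T.hom gX) (g := φ.left) z t h
  refine ⟨hP.isoPullback.inv q, ?_, ?_⟩
  · rw [← Scheme.Hom.comp_apply, hP.isoPullback_inv_fst]
    exact hq1
  · rw [← Scheme.Hom.comp_apply, hP.isoPullback_inv_snd]
    exact hq2

variable (j : U ⟶ Y) [IsOpenImmersion j] (M : Over S)
  (e : (Flatn.morS gX gY).RepresentableBy M)

theorem homEquiv_eq {T' T : Over S} (f : T' ⟶ T) (φ' : T ⟶ M) :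
    e.homEquiv (f ≫ φ') = PXmap gX f ≫ e.homEquiv φ' :=
  (e.homEquiv_comp f φ').trans (Flatn.morS_map gX gY f _)

theorem homEquiv_left {T : Over S} (φ' : T ⟶ M) :
    (e.homEquiv φ').left = (PXmap gX φ').left ≫ (e.homEquiv (𝟙 M)).left := by
  have h := homEquiv_eq gX gY M e φ' (𝟙 M)
  rw [Category.comp_id] at h
  rw [h]
  rfl

theorem exists_open [IsProper gX] : ∃ M₀ : M.left.Opens, ∀ (T : Over S) (φ' : T ⟶ M),
    (∀ t : T.left, φ'.left t ∈ M₀) ↔ Set.range ⇑(e.homEquiv φ').left ⊆ Set.range ⇑j := by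
  have hZc : IsOpen (⇑(e.homEquiv (𝟙 M)).left ⁻¹' (Set.range ⇑j)) :=
    j.isOpenEmbedding.isOpen_range.preimage (e.homEquiv (𝟙 M)).left.continuous
  have hC : IsClosed (⇑(pullback.fst M.hom gX) ''
      (⇑(e.homEquiv (𝟙 M)).left ⁻¹' (Set.range ⇑j))ᶜ) :=
    (pullback.fst M.hom gX).isClosedMap _ hZc.isClosed_compl
  refine ⟨⟨(⇑(pullback.fst M.hom gX) ''
      (⇑(e.homEquiv (𝟙 M)).left ⁻¹' (Set.range ⇑j))ᶜ)ᶜ, hC.isOpen_compl⟩, fun T φ' => ?_⟩
  have hl := homEquiv_left gX gY M e φ'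
  constructor
  · intro h
    rintro _ ⟨w, rfl⟩
    by_contra hn
    refine h ((pullback.fst T.hom gX) w) ⟨(PXmap gX φ').left w, ?_, ?_⟩
    · intro hmem
      apply hn
      rw [hl]
      exact hmem
    · rw [← Scheme.Hom.comp_apply, ← Scheme.Hom.comp_apply, PXmap_left_fst]
  · intro h t ht
    obtain ⟨z, hz, hpz⟩ := ht
    obtain ⟨w, hw1, hw2⟩ := exists_point gX φ' z t hpz
    apply hz
    show (e.homEquiv (𝟙 M)).left z ∈ Set.range ⇑j
    rw [← hw1]
    have hw := h ⟨w, rfl⟩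
    rw [hl] at hw
    exact hw

section build

variable (M₀ : M.left.Opens)
  (hM₀ : ∀ (T : Over S) (φ' : T ⟶ M),
    (∀ t : T.left, φ'.left t ∈ M₀) ↔ Set.range ⇑(e.homEquiv φ').left ⊆ Set.range ⇑j)

noncomputable abbrev incl : Over.mk (M₀.ι ≫ M.hom) ⟶ M := Over.homMk M₀.ι rfl

noncomputable abbrev jO : Over.mk (j ≫ gY) ⟶ Over.mk gY := Over.homMk j rfl

theorem mem_of_incl {T : Over S} (φ : T ⟶ Over.mk (M₀.ι ≫ M.hom)) (t : T.left) :
    (φ ≫ incl M M₀).left t ∈ M₀ :=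
  (Scheme.Opens.range_ι M₀).subset ⟨φ.left t, rfl⟩

include hM₀ in
theorem range_fwd {T : Over S} (φ : T ⟶ Over.mk (M₀.ι ≫ M.hom)) :
    Set.range ⇑(e.homEquiv (φ ≫ incl M M₀)).left ⊆ Set.range ⇑j :=
  (hM₀ T _).mp (mem_of_incl M M₀ φ)

noncomputable def fwd {T : Over S} (φ : T ⟶ Over.mk (M₀.ι ≫ M.hom)) :
    PX gX T ⟶ Over.mk (j ≫ gY) :=
  Over.homMk (IsOpenImmersion.lift j (e.homEquiv (φ ≫ incl M M₀)).left
    (range_fwd gX gY j M e M₀ hM₀ φ)) (by
      show IsOpenImmersion.lift j _ _ ≫ (j ≫ gY) = (PX gX T).hom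
      rw [← Category.assoc, IsOpenImmersion.lift_fac]
      exact Over.w (e.homEquiv (φ ≫ incl M M₀)))

theorem fwd_j {T : Over S} (φ : T ⟶ Over.mk (M₀.ι ≫ M.hom)) :
    fwd gX gY j M e M₀ hM₀ φ ≫ jO gY j = e.homEquiv (φ ≫ incl M M₀) :=
  Over.OverMorphism.ext (IsOpenImmersion.lift_fac _ _ _)

theorem range_bwd {T : Over S} (b : PX gX T ⟶ Over.mk (j ≫ gY)) :
    Set.range ⇑(e.homEquiv (e.homEquiv.symm (b ≫ jO gY j))).left ⊆ Set.range ⇑j := by
  rw [Equiv.apply_symm_apply]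
  rintro _ ⟨w, rfl⟩
  exact ⟨b.left w, rfl⟩

include hM₀ in
theorem mem_bwd {T : Over S} (b : PX gX T ⟶ Over.mk (j ≫ gY)) (t : T.left) :
    (e.homEquiv.symm (b ≫ jO gY j)).left t ∈ M₀ :=
  (hM₀ T _).mpr (range_bwd gX gY j M e b) t

noncomputable def bwd {T : Over S} (b : PX gX T ⟶ Over.mk (j ≫ gY)) :
    T ⟶ Over.mk (M₀.ι ≫ M.hom) :=
  Over.homMk (IsOpenImmersion.lift M₀.ι (e.homEquiv.symm (b ≫ jO gY j)).left (by
      rw [Scheme.Opens.range_ι]
      rintro _ ⟨t, rfl⟩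
      exact mem_bwd gX gY j M e M₀ hM₀ b t)) (by
      show IsOpenImmersion.lift M₀.ι _ _ ≫ (M₀.ι ≫ M.hom) = T.hom
      rw [← Category.assoc, IsOpenImmersion.lift_fac]
      exact Over.w (e.homEquiv.symm (b ≫ jO gY j)))

theorem bwd_incl {T : Over S} (b : PX gX T ⟶ Over.mk (j ≫ gY)) :
    bwd gX gY j M e M₀ hM₀ b ≫ incl M M₀ = e.homEquiv.symm (b ≫ jO gY j) :=
  Over.OverMorphism.ext (IsOpenImmersion.lift_fac _ _ _)

theorem cancel_incl {T : Over S} (a b : T ⟶ Over.mk (M₀.ι ≫ M.hom))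
    (h : a ≫ incl M M₀ = b ≫ incl M M₀) : a = b :=
  Over.OverMorphism.ext ((cancel_mono M₀.ι).mp (congrArg (fun k => k.left) h))

theorem cancel_jO {T : Over S} (a b : T ⟶ Over.mk (j ≫ gY))
    (h : a ≫ jO gY j = b ≫ jO gY j) : a = b :=
  Over.OverMorphism.ext ((cancel_mono j).mp (congrArg (fun k => k.left) h))

include hM₀ in
theorem build :
    ∃ (e₀ : (Flatn.morS gX (j ≫ gY)).RepresentableBy (Over.mk (M₀.ι ≫ M.hom))),
      ∀ (T : Over S) (φ : T ⟶ Over.mk (M₀.ι ≫ M.hom)),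
        (e.homEquiv (φ ≫ Over.homMk M₀.ι rfl) :
            (Over.map gX).obj ((Over.pullback gX).obj T) ⟶ Over.mk gY) =
          (e₀.homEquiv φ : (Over.map gX).obj ((Over.pullback gX).obj T) ⟶ Over.mk (j ≫ gY)) ≫
            (Over.homMk j rfl : Over.mk (j ≫ gY) ⟶ Over.mk gY) := by
  refine ⟨{ homEquiv := fun {T} =>
              { toFun := fun φ => fwd gX gY j M e M₀ hM₀ φ
                invFun := fun b => bwd gX gY j M e M₀ hM₀ b
                left_inv := fun φ => ?_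
                right_inv := fun b => ?_ }
            homEquiv_comp := fun {T T'} f φ => ?_ }, fun T φ => ?_⟩
  · apply cancel_incl M M₀
    rw [bwd_incl, fwd_j, Equiv.symm_apply_apply]
  · apply cancel_jO gY j
    rw [fwd_j, bwd_incl, Equiv.apply_symm_apply]
  · show fwd gX gY j M e M₀ hM₀ (f ≫ φ) = PXmap gX f ≫ fwd gX gY j M e M₀ hM₀ φ
    apply cancel_jO gY j
    rw [fwd_j, Category.assoc, homEquiv_eq, Category.assoc, fwd_j]
  · exact (fwd_j gX gY j M e M₀ hM₀ φ).symm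

end build

theorem main [IsProper gX] :
    ∃ (M₀ : M.left.Opens)
      (e₀ : (Flatn.morS gX (j ≫ gY)).RepresentableBy (Over.mk (M₀.ι ≫ M.hom))),
      ∀ (T : Over S) (φ : T ⟶ Over.mk (M₀.ι ≫ M.hom)),
        (e.homEquiv (φ ≫ Over.homMk M₀.ι rfl) :
            (Over.map gX).obj ((Over.pullback gX).obj T) ⟶ Over.mk gY) =
          (e₀.homEquiv φ : (Over.map gX).obj ((Over.pullback gX).obj T) ⟶ Over.mk (j ≫ gY)) ≫
            (Over.homMk j rfl : Over.mk (j ≫ gY) ⟶ Over.mk gY) := by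
  obtain ⟨M₀, hM₀⟩ := exists_open gX gY j M e
  exact ⟨M₀, build gX gY j M e M₀ hM₀⟩

end Groth.Agent.Lib.MorSOpenH4
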