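import Mathlib

/-!
# The Weil restriction algebra (helper7)

For a finite free `R`-algebra `B` with basis `b` and an `R`-algebra `C` presented as a quotient
`π : R[σ] ↠ C`, we construct an `R`-algebra `WR` and `univ : C →ₐ[R] WR ⊗[R] B` such that for every
`R`-algebra `A`, `ρ ↦ (ρ ⊗ id) ∘ univ` is a bijection `(WR →ₐ[R] A) ≃ (C →ₐ[R] A ⊗[R] B)`.
-/

set_option autoImplicit false
universe u
open TensorProduct

namespace Groth.Agent.Lib.WeilAlgH7

section Content

variable {R : Type u} [CommRing R] {B : Type u} [CommRing B] [Algebra R B]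
  {ι : Type u} (b : Module.Basis ι R B)

lemma repr_tmul (A : Type u) [CommRing A] [Algebra R A] (a : A) (x : B) (i : ι) :
    (Algebra.TensorProduct.basis A b).repr (a ⊗ₜ[R] x) i = a * algebraMap R A (b.repr x i) := by
  rw [Algebra.TensorProduct.basis_repr_tmul]
  simp

lemma repr_map {A A' : Type u} [CommRing A] [Algebra R A] [CommRing A'] [Algebra R A']
    (ρ : A →ₐ[R] A') (n : A ⊗[R] B) (i : ι) :
    (Algebra.TensorProduct.basis A' b).repr (Algebra.TensorProduct.map ρ (AlgHom.id R B) n) i =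
      ρ ((Algebra.TensorProduct.basis A b).repr n i) := by
  induction n using TensorProduct.induction_on with
  | zero => simp
  | tmul a x =>
    rw [Algebra.TensorProduct.map_tmul, repr_tmul, repr_tmul]
    simp
  | add x y hx hy => simp only [map_add, Finsupp.add_apply, hx, hy]

lemma eq_zero_iff_repr {A : Type u} [CommRing A] [Algebra R A] (t : A ⊗[R] B) :
    t = 0 ↔ ∀ i, (Algebra.TensorProduct.basis A b).repr t i = 0 := by
  constructor
  · intro h i
    rw [h]
    simp
  · intro h
    apply (Algebra.TensorProduct.basis A b).repr.injective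
    ext i
    rw [h i]
    simp

lemma tmap_eq_zero_iff {A A' : Type u} [CommRing A] [Algebra R A] [CommRing A'] [Algebra R A']
    (ρ : A →ₐ[R] A') (n : A ⊗[R] B) :
    Algebra.TensorProduct.map ρ (AlgHom.id R B) n = 0 ↔
      ∀ i, ρ ((Algebra.TensorProduct.basis A b).repr n i) = 0 := by
  rw [eq_zero_iff_repr b]
  exact forall_congr' fun i => by rw [repr_map]

/-- The content ideal of an ideal of `A ⊗[R] B`: generated by all coordinates of all elements. -/
def content {A : Type u} [CommRing A] [Algebra R A] (N : Ideal (A ⊗[R] B)) : Ideal A :=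
  Ideal.span {a | ∃ n ∈ N, ∃ i, (Algebra.TensorProduct.basis A b).repr n i = a}

lemma content_le_ker_iff {A A' : Type u} [CommRing A] [Algebra R A] [CommRing A'] [Algebra R A']
    (ρ : A →ₐ[R] A') (N : Ideal (A ⊗[R] B)) :
    content b N ≤ RingHom.ker (ρ : A →+* A') ↔
      ∀ n ∈ N, Algebra.TensorProduct.map ρ (AlgHom.id R B) n = 0 := by
  rw [content, Ideal.span_le]
  constructor
  · intro h n hn
    exact (tmap_eq_zero_iff b ρ n).mpr fun i => RingHom.mem_ker.mp (h ⟨n, hn, i, rfl⟩)
  · rintro h _ ⟨n, hn, i, rfl⟩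
    exact RingHom.mem_ker.mpr ((tmap_eq_zero_iff b ρ n).mp (h n hn) i)

end Content

section WR

variable (R : Type u) [CommRing R] (B : Type u) [CommRing B] [Algebra R B]
  {ι : Type u} [Fintype ι] (b : Module.Basis ι R B)
  {C : Type u} [CommRing C] [Algebra R C] {σ : Type u} (π : MvPolynomial σ R →ₐ[R] C)

/-- The generic element `∑ i, X (s, i) ⊗ b i`. -/
noncomputable def gen (s : σ) : MvPolynomial (σ × ι) R ⊗[R] B :=
  ∑ i, (MvPolynomial.X (s, i) : MvPolynomial (σ × ι) R) ⊗ₜ[R] b i

lemma repr_gen [DecidableEq ι] (s : σ) (i : ι) :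
    (Algebra.TensorProduct.basis (MvPolynomial (σ × ι) R) b).repr (gen R B b s) i =
      MvPolynomial.X (s, i) := by
  unfold gen
  rw [map_sum, Finsupp.finsetSum_apply]
  simp_rw [repr_tmul, Module.Basis.repr_self, Finsupp.single_apply]
  simp

/-- The generic map `R[σ] → R[σ × ι] ⊗ B`. -/
noncomputable def u₀ : MvPolynomial σ R →ₐ[R] MvPolynomial (σ × ι) R ⊗[R] B :=
  MvPolynomial.aeval (gen R B b)

lemma u₀_X (s : σ) : u₀ R B b (MvPolynomial.X s) = gen R B b s := by
  simp [u₀]

/-- The ideal generated by the image of the relations. -/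
noncomputable def NN : Ideal (MvPolynomial (σ × ι) R ⊗[R] B) :=
  Ideal.map (u₀ R B b) (RingHom.ker (π : MvPolynomial σ R →+* C))

/-- The ideal of relations of the Weil restriction algebra. -/
noncomputable def II : Ideal (MvPolynomial (σ × ι) R) := content b (NN R B b π)

/-- The Weil restriction algebra. -/
def WR : Type u := MvPolynomial (σ × ι) R ⧸ II R B b π

noncomputable instance : CommRing (WR R B b π) :=
  inferInstanceAs (CommRing (MvPolynomial (σ × ι) R ⧸ II R B b π))

noncomputable instance : Algebra R (WR R B b π) :=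
  inferInstanceAs (Algebra R (MvPolynomial (σ × ι) R ⧸ II R B b π))

/-- The quotient map. -/
noncomputable def q : MvPolynomial (σ × ι) R →ₐ[R] WR R B b π := Ideal.Quotient.mkₐ R (II R B b π)

lemma q_eq_zero_iff (x : MvPolynomial (σ × ι) R) : q R B b π x = 0 ↔ x ∈ II R B b π := by
  show Ideal.Quotient.mk (II R B b π) x = 0 ↔ _
  exact Ideal.Quotient.eq_zero_iff_mem

lemma q_surjective : Function.Surjective (q R B b π) := by
  intro w
  obtain ⟨x, hx⟩ := Ideal.Quotient.mk_surjective (I := II R B b π) w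
  exact ⟨x, hx⟩

lemma WR_hom_ext {A : Type u} [CommRing A] [Algebra R A] {f g : WR R B b π →ₐ[R] A}
    (h : ∀ x, f (q R B b π x) = g (q R B b π x)) : f = g := by
  apply AlgHom.ext
  intro w
  obtain ⟨x, rfl⟩ := q_surjective R B b π w
  exact h x

/-- Descend an algebra map killing `II` to `WR`. -/
noncomputable def WRlift {A : Type u} [CommRing A] [Algebra R A]
    (ρ₀ : MvPolynomial (σ × ι) R →ₐ[R] A) (h : ∀ a ∈ II R B b π, ρ₀ a = 0) :
    WR R B b π →ₐ[R] A :=
  Ideal.Quotient.liftₐ (II R B b π) ρ₀ h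

lemma WRlift_q {A : Type u} [CommRing A] [Algebra R A]
    (ρ₀ : MvPolynomial (σ × ι) R →ₐ[R] A) (h : ∀ a ∈ II R B b π, ρ₀ a = 0)
    (x : MvPolynomial (σ × ι) R) : WRlift R B b π ρ₀ h (q R B b π x) = ρ₀ x := by
  show Ideal.Quotient.liftₐ (II R B b π) ρ₀ h (Ideal.Quotient.mk _ x) = ρ₀ x
  simp

lemma content_le_ker_q :
    content b (NN R B b π) ≤ RingHom.ker (q R B b π : MvPolynomial (σ × ι) R →+* WR R B b π) := by
  intro x hx
  rw [RingHom.mem_ker]
  exact (q_eq_zero_iff R B b π x).mpr hx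

/-- The composite `R[σ] → R[σ × ι] ⊗ B → WR ⊗ B`. -/
noncomputable def vv : MvPolynomial σ R →ₐ[R] WR R B b π ⊗[R] B :=
  (Algebra.TensorProduct.map (q R B b π) (AlgHom.id R B)).comp (u₀ R B b)

lemma ker_le_ker_vv :
    RingHom.ker π.toRingHom ≤ RingHom.ker (vv R B b π).toRingHom := by
  intro p hp
  rw [RingHom.mem_ker]
  have hN : u₀ R B b p ∈ NN R B b π := Ideal.mem_map_of_mem _ hp
  exact (content_le_ker_iff b (q R B b π) (NN R B b π)).mp (content_le_ker_q R B b π) _ hN

variable (hπ : Function.Surjective π)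

/-- The universal map. -/
noncomputable def univ : C →ₐ[R] WR R B b π ⊗[R] B :=
  AlgHom.liftOfSurjective π hπ (vv R B b π) (ker_le_ker_vv R B b π)

lemma univ_apply (p : MvPolynomial σ R) :
    univ R B b π hπ (π p) =
      Algebra.TensorProduct.map (q R B b π) (AlgHom.id R B) (u₀ R B b p) :=
  AlgHom.liftOfSurjective_apply π hπ (vv R B b π) (ker_le_ker_vv R B b π) p

/-- The comparison map. -/
noncomputable def Φ (A : Type u) [CommRing A] [Algebra R A] (ρ : WR R B b π →ₐ[R] A) :
    C →ₐ[R] A ⊗[R] B :=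
  (Algebra.TensorProduct.map ρ (AlgHom.id R B)).comp (univ R B b π hπ)

lemma map_map {A₁ A₂ A₃ : Type u} [CommRing A₁] [Algebra R A₁] [CommRing A₂] [Algebra R A₂]
    [CommRing A₃] [Algebra R A₃] (ρ₁ : A₁ →ₐ[R] A₂) (ρ₂ : A₂ →ₐ[R] A₃) (n : A₁ ⊗[R] B) :
    Algebra.TensorProduct.map ρ₂ (AlgHom.id R B) (Algebra.TensorProduct.map ρ₁ (AlgHom.id R B) n) =
      Algebra.TensorProduct.map (ρ₂.comp ρ₁) (AlgHom.id R B) n := by
  induction n using TensorProduct.induction_on with
  | zero => simp
  | tmul a x => simp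
  | add x y hx hy => simp only [map_add, hx, hy]

lemma Φ_apply (A : Type u) [CommRing A] [Algebra R A] (ρ : WR R B b π →ₐ[R] A)
    (p : MvPolynomial σ R) :
    Φ R B b π hπ A ρ (π p) =
      Algebra.TensorProduct.map (ρ.comp (q R B b π)) (AlgHom.id R B) (u₀ R B b p) := by
  show Algebra.TensorProduct.map ρ (AlgHom.id R B) (univ R B b π hπ (π p)) = _
  rw [univ_apply, map_map]

lemma repr_Φ [DecidableEq ι] (A : Type u) [CommRing A] [Algebra R A] (ρ : WR R B b π →ₐ[R] A)
    (s : σ) (i : ι) :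
    (Algebra.TensorProduct.basis A b).repr (Φ R B b π hπ A ρ (π (MvPolynomial.X s))) i =
      ρ (q R B b π (MvPolynomial.X (s, i))) := by
  rw [Φ_apply, u₀_X, repr_map, repr_gen]
  rfl

theorem Φ_injective (A : Type u) [CommRing A] [Algebra R A] :
    Function.Injective (Φ R B b π hπ A) := by
  classical
  intro ρ ρ' h
  have hc : ρ.comp (q R B b π) = ρ'.comp (q R B b π) := by
    apply MvPolynomial.algHom_ext
    rintro ⟨s, i⟩
    have h1 := repr_Φ R B b π hπ A ρ s i
    have h2 := repr_Φ R B b π hπ A ρ' s i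
    rw [h] at h1
    exact (h1.symm.trans h2)
  exact WR_hom_ext R B b π (fun x => AlgHom.congr_fun hc x)

theorem Φ_surjective (A : Type u) [CommRing A] [Algebra R A] :
    Function.Surjective (Φ R B b π hπ A) := by
  classical
  intro ψ
  let ρ₀ : MvPolynomial (σ × ι) R →ₐ[R] A :=
    MvPolynomial.aeval (fun si : σ × ι =>
      (Algebra.TensorProduct.basis A b).repr (ψ (π (MvPolynomial.X si.1))) si.2)
  have h1 : (Algebra.TensorProduct.map ρ₀ (AlgHom.id R B)).comp (u₀ R B b) = ψ.comp π := by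
    apply MvPolynomial.algHom_ext
    intro s
    show Algebra.TensorProduct.map ρ₀ (AlgHom.id R B) (u₀ R B b (MvPolynomial.X s)) =
      ψ (π (MvPolynomial.X s))
    rw [u₀_X]
    apply (Algebra.TensorProduct.basis A b).repr.injective
    ext i
    rw [repr_map, repr_gen]
    simp [ρ₀]
  have h2 : ∀ n ∈ NN R B b π, Algebra.TensorProduct.map ρ₀ (AlgHom.id R B) n = 0 := by
    have hle : NN R B b π ≤
        RingHom.ker (Algebra.TensorProduct.map ρ₀ (AlgHom.id R B) :
          MvPolynomial (σ × ι) R ⊗[R] B →+* A ⊗[R] B) := by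
      unfold NN
      rw [Ideal.map_le_iff_le_comap]
      intro p hp
      rw [Ideal.mem_comap, RingHom.mem_ker]
      have := AlgHom.congr_fun h1 p
      simp only [AlgHom.comp_apply] at this
      show Algebra.TensorProduct.map ρ₀ (AlgHom.id R B) (u₀ R B b p) = 0
      rw [this]
      have hp' : π p = 0 := RingHom.mem_ker.mp hp
      rw [hp', map_zero]
    intro n hn
    exact RingHom.mem_ker.mp (hle hn)
  have h3 : content b (NN R B b π) ≤ RingHom.ker (ρ₀ : MvPolynomial (σ × ι) R →+* A) :=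
    (content_le_ker_iff b ρ₀ (NN R B b π)).mpr h2
  have h4 : ∀ a ∈ II R B b π, ρ₀ a = 0 := fun a ha => RingHom.mem_ker.mp (h3 ha)
  let ρ : WR R B b π →ₐ[R] A := WRlift R B b π ρ₀ h4
  have hρ : ρ.comp (q R B b π) = ρ₀ :=
    AlgHom.ext fun x => WRlift_q R B b π ρ₀ h4 x
  refine ⟨ρ, ?_⟩
  apply AlgHom.ext
  intro c
  obtain ⟨p, rfl⟩ := hπ c
  rw [Φ_apply, hρ]
  exact AlgHom.congr_fun h1 p

theorem Φ_bijective (A : Type u) [CommRing A] [Algebra R A] :
    Function.Bijective (Φ R B b π hπ A) :=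
  ⟨Φ_injective R B b π hπ A, Φ_surjective R B b π hπ A⟩

end WR

/-- Packaged existence of the Weil restriction algebra. -/
theorem exists_weilAlg (R : Type u) [CommRing R] (B : Type u) [CommRing B] [Algebra R B]
    [Module.Finite R B] [Module.Free R B] (C : Type u) [CommRing C] [Algebra R C] :
    ∃ (W : Type u) (_ : CommRing W) (_ : Algebra R W) (univ : C →ₐ[R] W ⊗[R] B),
      ∀ (A : Type u) [CommRing A] [Algebra R A],
        Function.Bijective (fun ρ : W →ₐ[R] A =>
          (Algebra.TensorProduct.map ρ (AlgHom.id R B)).comp univ) := by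
  let b := Module.Free.chooseBasis R B
  let π : MvPolynomial C R →ₐ[R] C := MvPolynomial.aeval id
  have hπ : Function.Surjective π := fun c => ⟨MvPolynomial.X c, by simp [π]⟩
  exact ⟨WR R B b π, inferInstance, inferInstance, univ R B b π hπ,
    fun A _ _ => Φ_bijective R B b π hπ A⟩

end Groth.Agent.Lib.WeilAlgH7
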