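import Mathlib
import Groth.Prelude
import Groth.Agent.Lib.WeilAlg_helper7
import Groth.Agent.Lib.MorSOpen_helper4

/-!
# Weil restriction of affine schemes along a finite free affine morphism (helper7)

`Z, X, S` affine, `Γ(Z)` finite free over `Γ(S)`: the functor `T ↦ Hom_S(T ×_S Z, X)` on `Over S`
is representable by an affine scheme.
-/

set_option autoImplicit false
universe u
open CategoryTheory CategoryTheory.Limits AlgebraicGeometry Opposite TensorProduct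

namespace Groth.Agent.Lib.WeilSchH7

open Groth.Agent.Lib.MorSOpenH4 Groth.Agent.Lib.WeilAlgH7

/-! ## Morphisms to affine schemes -/

theorem isoSpec_inv_appTop (T : Scheme.{u}) [IsAffine T] :
    T.isoSpec.inv.appTop = (Scheme.ΓSpecIso Γ(T, ⊤)).inv := by
  have h : T.isoSpec.hom.appTop = (Scheme.ΓSpecIso Γ(T, ⊤)).hom := Scheme.toSpecΓ_appTop T
  have h2 : T.isoSpec.hom.appTop ≫ T.isoSpec.inv.appTop = 𝟙 _ := by
    rw [← Scheme.Hom.comp_appTop, Iso.inv_hom_id]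
    rfl
  rw [h] at h2
  exact ((Iso.eq_inv_comp _).2 h2).trans (Category.comp_id _)

theorem exists_hom_appTop {Y T : Scheme.{u}} [IsAffine T] (ψ : Γ(T, ⊤) ⟶ Γ(Y, ⊤)) :
    ∃ g : Y ⟶ T, g.appTop = ψ := by
  refine ⟨Y.toSpecΓ ≫ Spec.map ψ ≫ T.isoSpec.inv, ?_⟩
  rw [Scheme.Hom.comp_appTop, Scheme.Hom.comp_appTop, Scheme.toSpecΓ_appTop, isoSpec_inv_appTop,
    ← Scheme.ΓSpecIso_inv_naturality, Category.assoc, Iso.inv_hom_id, Category.comp_id]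

/-! ## Algebra structures on global sections of `S`-schemes -/

variable {S : Scheme.{u}}

/-- The `Γ(S)`-algebra structure on the global sections of an `S`-scheme. -/
noncomputable abbrev algOver (T : Over S) : Algebra Γ(S, ⊤) Γ(T.left, ⊤) :=
  (T.hom.appTop).hom.toAlgebra

attribute [local instance] algOver

/-- Pullback of global sections along a morphism of `S`-schemes, as an algebra map. -/
noncomputable def appTopAlg {T' T : Over S} (φ : T' ⟶ T) :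
    Γ(T.left, ⊤) →ₐ[Γ(S, ⊤)] Γ(T'.left, ⊤) :=
  { φ.left.appTop.hom with
    commutes' := fun r => by
      show φ.left.appTop.hom (T.hom.appTop.hom r) = T'.hom.appTop.hom r
      rw [← Over.w φ, Scheme.Hom.comp_appTop]
      rfl }

lemma appTopAlg_apply {T' T : Over S} (φ : T' ⟶ T) (x : Γ(T.left, ⊤)) :
    appTopAlg φ x = φ.left.appTop.hom x := rfl

lemma appTopAlg_comp {T'' T' T : Over S} (φ : T'' ⟶ T') (ψ : T' ⟶ T) :
    appTopAlg (φ ≫ ψ) = (appTopAlg φ).comp (appTopAlg ψ) := by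
  apply AlgHom.ext
  intro x
  show (φ ≫ ψ).left.appTop.hom x = φ.left.appTop.hom (ψ.left.appTop.hom x)
  rw [Over.comp_left, Scheme.Hom.comp_appTop]
  rfl

lemma over_hom_ext {T' T : Over S} (hT : IsAffine T.left) {φ φ' : T' ⟶ T}
    (h : appTopAlg φ = appTopAlg φ') : φ = φ' :=
  Over.OverMorphism.ext (ext_of_isAffine
    (CommRingCat.hom_ext (RingHom.ext fun x => AlgHom.congr_fun h x)))

lemma exists_over_hom [IsAffine S] {T' T : Over S} (hT : IsAffine T.left)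
    (ρ : Γ(T.left, ⊤) →ₐ[Γ(S, ⊤)] Γ(T'.left, ⊤)) : ∃ φ : T' ⟶ T, appTopAlg φ = ρ := by
  obtain ⟨φ₀, h₀⟩ := exists_hom_appTop (Y := T'.left) (T := T.left)
    (CommRingCat.ofHom ρ.toRingHom)
  have hw : φ₀ ≫ T.hom = T'.hom := by
    apply ext_of_isAffine
    rw [Scheme.Hom.comp_appTop, h₀]
    apply CommRingCat.hom_ext
    apply RingHom.ext
    intro r
    exact ρ.commutes r
  refine ⟨Over.homMk φ₀ hw, ?_⟩
  apply AlgHom.ext
  intro x
  show φ₀.appTop.hom x = ρ x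
  rw [h₀]
  rfl

/-! ## The pullback objects -/

variable (ZO : Over S)

/-- First projection `T ×_S Z ⟶ T` over `S`. -/
noncomputable def p₁O (T : Over S) : PX ZO.hom T ⟶ T :=
  Over.homMk (pullback.fst T.hom ZO.hom) (by
    show pullback.fst T.hom ZO.hom ≫ T.hom = pullback.snd T.hom ZO.hom ≫ ZO.hom
    exact pullback.condition)

/-- Second projection `T ×_S Z ⟶ Z` over `S`. -/
noncomputable def p₂O (T : Over S) : PX ZO.hom T ⟶ ZO :=
  Over.homMk (pullback.snd T.hom ZO.hom) rfl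

lemma PXmap_p₁ {T' T : Over S} (φ : T' ⟶ T) :
    PXmap ZO.hom φ ≫ p₁O ZO T = p₁O ZO T' ≫ φ :=
  Over.OverMorphism.ext (PXmap_left_fst ZO.hom φ)

lemma PXmap_p₂ {T' T : Over S} (φ : T' ⟶ T) :
    PXmap ZO.hom φ ≫ p₂O ZO T = p₂O ZO T' :=
  Over.OverMorphism.ext (PXmap_left_snd ZO.hom φ)

lemma PXmap_comp {T'' T' T : Over S} (φ : T'' ⟶ T') (ψ : T' ⟶ T) :
    PXmap ZO.hom (φ ≫ ψ) = PXmap ZO.hom φ ≫ PXmap ZO.hom ψ := by
  simp only [PXmap, Functor.map_comp]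

/-- The comparison map `Γ(T) ⊗ Γ(Z) → Γ(T ×_S Z)`. -/
noncomputable def θ (T : Over S) :
    Γ(T.left, ⊤) ⊗[Γ(S, ⊤)] Γ(ZO.left, ⊤) →ₐ[Γ(S, ⊤)] Γ((PX ZO.hom T).left, ⊤) :=
  Algebra.TensorProduct.productMap (appTopAlg (p₁O ZO T)) (appTopAlg (p₂O ZO T))

lemma θ_tmul (T : Over S) (a : Γ(T.left, ⊤)) (b : Γ(ZO.left, ⊤)) :
    θ ZO T (a ⊗ₜ b) = appTopAlg (p₁O ZO T) a * appTopAlg (p₂O ZO T) b := rfl

lemma θ_nat {T' T : Over S} (φ : T' ⟶ T) :
    (appTopAlg (PXmap ZO.hom φ)).comp (θ ZO T) =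
      (θ ZO T').comp (Algebra.TensorProduct.map (appTopAlg φ)
        (AlgHom.id Γ(S, ⊤) Γ(ZO.left, ⊤))) := by
  apply Algebra.TensorProduct.ext'
  intro a b
  have e1 : appTopAlg (PXmap ZO.hom φ) (appTopAlg (p₁O ZO T) a) =
      appTopAlg (p₁O ZO T') (appTopAlg φ a) := by
    rw [← AlgHom.comp_apply, ← appTopAlg_comp, PXmap_p₁, appTopAlg_comp]
    rfl
  have e2 : appTopAlg (PXmap ZO.hom φ) (appTopAlg (p₂O ZO T) b) = appTopAlg (p₂O ZO T') b := by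
    rw [← AlgHom.comp_apply, ← appTopAlg_comp, PXmap_p₂]
  show appTopAlg (PXmap ZO.hom φ) (θ ZO T (a ⊗ₜ b)) =
    θ ZO T' (Algebra.TensorProduct.map (appTopAlg φ) (AlgHom.id _ _) (a ⊗ₜ b))
  rw [θ_tmul, map_mul, e1, e2, Algebra.TensorProduct.map_tmul, θ_tmul]
  rfl

theorem θ_bijective [IsAffine S] (hZ : IsAffine ZO.left) (T : Over S) (hT : IsAffine T.left) :
    Function.Bijective (θ ZO T) := by
  have H1 : IsPushout (CommRingCat.ofHom (algebraMap Γ(S, ⊤) Γ(T.left, ⊤)))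
      (CommRingCat.ofHom (algebraMap Γ(S, ⊤) Γ(ZO.left, ⊤)))
      (pullback.fst T.hom ZO.hom).appTop (pullback.snd T.hom ZO.hom).appTop :=
    isPushout_appTop_of_isPullback (IsPullback.of_hasPullback T.hom ZO.hom)
  let e := (CommRingCat.isPushout_tensorProduct Γ(S, ⊤) Γ(T.left, ⊤) Γ(ZO.left, ⊤)).isoIsPushout
    _ _ H1
  have hl : CommRingCat.ofHom (S := Γ(T.left, ⊤) ⊗[Γ(S, ⊤)] Γ(ZO.left, ⊤))
      Algebra.TensorProduct.includeLeftRingHom ≫ e.hom = (pullback.fst T.hom ZO.hom).appTop :=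
    IsPushout.inl_isoIsPushout_hom _ _ _ _
  have hr : CommRingCat.ofHom (S := Γ(T.left, ⊤) ⊗[Γ(S, ⊤)] Γ(ZO.left, ⊤))
      Algebra.TensorProduct.includeRight.toRingHom ≫ e.hom = (pullback.snd T.hom ZO.hom).appTop :=
    IsPushout.inr_isoIsPushout_hom _ _ _ _
  have he : ∀ x, θ ZO T x = e.hom.hom x := by
    intro x
    induction x using TensorProduct.induction_on with
    | zero => simp
    | tmul a b =>
      have h1 : e.hom.hom (a ⊗ₜ 1) = (pullback.fst T.hom ZO.hom).appTop.hom a :=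
        congrArg (fun k => k.hom a) hl
      have h2 : e.hom.hom (1 ⊗ₜ b) = (pullback.snd T.hom ZO.hom).appTop.hom b :=
        congrArg (fun k => k.hom b) hr
      have h3 : (a ⊗ₜ[Γ(S, ⊤)] b : Γ(T.left, ⊤) ⊗[Γ(S, ⊤)] Γ(ZO.left, ⊤)) =
          (a ⊗ₜ 1) * (1 ⊗ₜ b) := by simp
      rw [θ_tmul, h3, map_mul, h1, h2]
      rfl
    | add x y hx hy => rw [map_add, map_add, hx, hy]
  have hb : Function.Bijective e.hom.hom := ConcreteCategory.bijective_of_isIso e.hom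
  have hfun : ⇑(θ ZO T) = ⇑e.hom.hom := funext he
  rw [hfun]
  exact hb

/-! ## The universal element and the affine case -/

variable (XO W : Over S)
  (univ : Γ(XO.left, ⊤) →ₐ[Γ(S, ⊤)] Γ(W.left, ⊤) ⊗[Γ(S, ⊤)] Γ(ZO.left, ⊤))

lemma key (ξ : PX ZO.hom W ⟶ XO) (hξ : appTopAlg ξ = (θ ZO W).comp univ) {T : Over S}
    (φ : T ⟶ W) :
    appTopAlg (PXmap ZO.hom φ ≫ ξ) =
      (θ ZO T).comp ((Algebra.TensorProduct.map (appTopAlg φ)
        (AlgHom.id Γ(S, ⊤) Γ(ZO.left, ⊤))).comp univ) := by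
  rw [appTopAlg_comp, hξ, ← AlgHom.comp_assoc, θ_nat, AlgHom.comp_assoc]

variable (hbij : ∀ (A : Type u) [CommRing A] [Algebra Γ(S, ⊤) A],
  Function.Bijective (fun ρ : Γ(W.left, ⊤) →ₐ[Γ(S, ⊤)] A =>
    (Algebra.TensorProduct.map ρ (AlgHom.id Γ(S, ⊤) Γ(ZO.left, ⊤))).comp univ))

include hbij in
theorem bij_affine [IsAffine S] (hZ : IsAffine ZO.left) (hX : IsAffine XO.left)
    (hW : IsAffine W.left) (ξ : PX ZO.hom W ⟶ XO) (hξ : appTopAlg ξ = (θ ZO W).comp univ)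
    (T : Over S) (hT : IsAffine T.left) :
    Function.Bijective (fun φ : T ⟶ W => PXmap ZO.hom φ ≫ ξ) := by
  have hθ := θ_bijective ZO hZ T hT
  constructor
  · intro φ φ' h
    have h' : appTopAlg (PXmap ZO.hom φ ≫ ξ) = appTopAlg (PXmap ZO.hom φ' ≫ ξ) :=
      congrArg appTopAlg h
    rw [key ZO XO W univ ξ hξ, key ZO XO W univ ξ hξ] at h'
    have h'' : (Algebra.TensorProduct.map (appTopAlg φ)
        (AlgHom.id Γ(S, ⊤) Γ(ZO.left, ⊤))).comp univ =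
        (Algebra.TensorProduct.map (appTopAlg φ') (AlgHom.id Γ(S, ⊤) Γ(ZO.left, ⊤))).comp univ := by
      apply AlgHom.ext
      intro c
      apply hθ.1
      exact AlgHom.congr_fun h' c
    exact over_hom_ext hW ((hbij Γ(T.left, ⊤)).1 h'')
  · intro a
    let θe := AlgEquiv.ofBijective (θ ZO T) hθ
    let ψ : Γ(XO.left, ⊤) →ₐ[Γ(S, ⊤)] Γ(T.left, ⊤) ⊗[Γ(S, ⊤)] Γ(ZO.left, ⊤) :=
      (θe.symm : _ →ₐ[Γ(S, ⊤)] _).comp (appTopAlg a)
    obtain ⟨ρ, hρ⟩ := (hbij Γ(T.left, ⊤)).2 ψ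
    obtain ⟨φ, hφ⟩ := exists_over_hom (T' := T) (T := W) hW ρ
    refine ⟨φ, over_hom_ext hX ?_⟩
    show appTopAlg (PXmap ZO.hom φ ≫ ξ) = appTopAlg a
    rw [key ZO XO W univ ξ hξ, hφ]
    have hρ' : (Algebra.TensorProduct.map ρ (AlgHom.id Γ(S, ⊤) Γ(ZO.left, ⊤))).comp univ = ψ := hρ
    rw [hρ']
    apply AlgHom.ext
    intro c
    show θ ZO T (θe.symm (appTopAlg a c)) = appTopAlg a c
    exact θe.apply_symm_apply _

/-! ## Reduction of the general case to the affine case -/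

section Glue

variable {ZO XO W}

/-- The members of an open cover of `T`, as `S`-schemes. -/
noncomputable abbrev Tι {T : Over S} (𝒰 : Scheme.OpenCover.{u} T.left) (i : 𝒰.I₀) : Over S :=
  Over.mk (𝒰.f i ≫ T.hom)

/-- The inclusions of the members of an open cover. -/
noncomputable abbrev ιO {T : Over S} (𝒰 : Scheme.OpenCover.{u} T.left) (i : 𝒰.I₀) : Tι 𝒰 i ⟶ T :=
  Over.homMk (𝒰.f i) rfl

lemma sep {T : Over S} (𝒰 : Scheme.OpenCover.{u} T.left) (a a' : PX ZO.hom T ⟶ XO)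
    (h : ∀ i, PXmap ZO.hom (ιO 𝒰 i) ≫ a = PXmap ZO.hom (ιO 𝒰 i) ≫ a') : a = a' := by
  apply Over.OverMorphism.ext
  refine Scheme.Cover.hom_ext (𝒰.pullback₁ (pullback.fst T.hom ZO.hom)) _ _ ?_
  intro (i : 𝒰.I₀)
  have H : IsPullback (PXmap ZO.hom (ιO 𝒰 i)).left (pullback.fst (Tι 𝒰 i).hom ZO.hom)
      (pullback.fst T.hom ZO.hom) (𝒰.f i) := isPullback_PXmap ZO.hom (ιO 𝒰 i)
  show pullback.fst (pullback.fst T.hom ZO.hom) (𝒰.f i) ≫ a.left =
    pullback.fst (pullback.fst T.hom ZO.hom) (𝒰.f i) ≫ a'.left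
  refine (cancel_epi H.isoPullback.hom).mp ?_
  have hk : (PXmap ZO.hom (ιO 𝒰 i)).left ≫ a.left = (PXmap ZO.hom (ιO 𝒰 i)).left ≫ a'.left :=
    congrArg (fun k => k.left) (h i)
  exact (H.isoPullback_hom_fst_assoc a.left).trans
    (hk.trans (H.isoPullback_hom_fst_assoc a'.left).symm)

variable (ξ : PX ZO.hom W ⟶ XO)
  (haff : ∀ (T : Over S), IsAffine T.left →
    Function.Bijective (fun φ : T ⟶ W => PXmap ZO.hom φ ≫ ξ))

include haff in
lemma inj_general (T : Over S) : Function.Injective (fun φ : T ⟶ W => PXmap ZO.hom φ ≫ ξ) := by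
  intro φ φ' h
  have h0 : PXmap ZO.hom φ ≫ ξ = PXmap ZO.hom φ' ≫ ξ := h
  let 𝒰 : Scheme.OpenCover.{u} T.left := T.left.affineCover
  apply Over.OverMorphism.ext
  refine Scheme.Cover.hom_ext 𝒰 _ _ (fun i => ?_)
  have hTi : IsAffine (Tι 𝒰 i).left := (inferInstance : IsAffine (𝒰.X i))
  have h1 : ιO 𝒰 i ≫ φ = ιO 𝒰 i ≫ φ' := by
    apply (haff (Tι 𝒰 i) hTi).1
    show PXmap ZO.hom (ιO 𝒰 i ≫ φ) ≫ ξ = PXmap ZO.hom (ιO 𝒰 i ≫ φ') ≫ ξ
    rw [PXmap_comp, PXmap_comp, Category.assoc, Category.assoc, h0]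
  exact congrArg (fun k => k.left) h1

include haff in
lemma surj_general (T : Over S) : Function.Surjective (fun φ : T ⟶ W => PXmap ZO.hom φ ≫ ξ) := by
  intro a
  let 𝒰 : Scheme.OpenCover.{u} T.left := T.left.affineCover
  have hTi : ∀ i, IsAffine (Tι 𝒰 i).left := fun i => (inferInstance : IsAffine (𝒰.X i))
  choose φi hφi using fun i => (haff (Tι 𝒰 i) (hTi i)).2 (PXmap ZO.hom (ιO 𝒰 i) ≫ a)
  have hφi' : ∀ i, PXmap ZO.hom (φi i) ≫ ξ = PXmap ZO.hom (ιO 𝒰 i) ≫ a := hφi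
  have hcompat : ∀ i j, pullback.fst (𝒰.f i) (𝒰.f j) ≫ (φi i).left =
      pullback.snd (𝒰.f i) (𝒰.f j) ≫ (φi j).left := by
    intro i j
    let Tij : Over S := Over.mk (pullback.fst (𝒰.f i) (𝒰.f j) ≫ 𝒰.f i ≫ T.hom)
    let π₁ : Tij ⟶ Tι 𝒰 i := Over.homMk (pullback.fst (𝒰.f i) (𝒰.f j)) rfl
    let π₂ : Tij ⟶ Tι 𝒰 j := Over.homMk (pullback.snd (𝒰.f i) (𝒰.f j)) (by
      show pullback.snd (𝒰.f i) (𝒰.f j) ≫ 𝒰.f j ≫ T.hom =
        pullback.fst (𝒰.f i) (𝒰.f j) ≫ 𝒰.f i ≫ T.hom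
      rw [← Category.assoc, ← pullback.condition, Category.assoc])
    have hπ : π₁ ≫ ιO 𝒰 i = π₂ ≫ ιO 𝒰 j := Over.OverMorphism.ext pullback.condition
    have h2 : π₁ ≫ φi i = π₂ ≫ φi j := by
      apply inj_general ξ haff Tij
      show PXmap ZO.hom (π₁ ≫ φi i) ≫ ξ = PXmap ZO.hom (π₂ ≫ φi j) ≫ ξ
      rw [PXmap_comp, PXmap_comp, Category.assoc, Category.assoc, hφi' i, hφi' j,
        ← Category.assoc, ← Category.assoc, ← PXmap_comp, ← PXmap_comp, hπ]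
    exact congrArg (fun k => k.left) h2
  let φ₀ : T.left ⟶ W.left := 𝒰.glueMorphisms (fun i => (φi i).left) hcompat
  have hφ₀ : ∀ i, 𝒰.f i ≫ φ₀ = (φi i).left := fun i => 𝒰.ι_glueMorphisms _ _ i
  have hw : φ₀ ≫ W.hom = T.hom := by
    refine Scheme.Cover.hom_ext 𝒰 _ _ (fun i => ?_)
    rw [← Category.assoc, hφ₀]
    exact Over.w (φi i)
  let φ : T ⟶ W := Over.homMk φ₀ hw
  have hιφ : ∀ i, ιO 𝒰 i ≫ φ = φi i := fun i => Over.OverMorphism.ext (hφ₀ i)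
  refine ⟨φ, sep 𝒰 _ _ (fun i => ?_)⟩
  show PXmap ZO.hom (ιO 𝒰 i) ≫ (PXmap ZO.hom φ ≫ ξ) = PXmap ZO.hom (ιO 𝒰 i) ≫ a
  rw [← Category.assoc, ← PXmap_comp, hιφ, hφi']

end Glue

/-! ## Representability -/

/-- The functor `T ↦ Hom_S(T ×_S Z, X)`. -/
noncomputable abbrev FF (ZO XO : Over S) : (Over S)ᵒᵖ ⥤ Type u :=
  (Over.pullback ZO.hom ⋙ Over.map ZO.hom).op ⋙ yoneda.obj XO

include hbij in
theorem representable [IsAffine S] (hZ : IsAffine ZO.left) (hX : IsAffine XO.left)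
    (hW : IsAffine W.left) : Nonempty ((FF ZO XO).RepresentableBy W) := by
  obtain ⟨ξ, hξ⟩ := exists_over_hom (T' := PX ZO.hom W) (T := XO) hX ((θ ZO W).comp univ)
  have haff := bij_affine ZO XO W univ hbij hZ hX hW ξ hξ
  have hb : ∀ T : Over S, Function.Bijective (fun φ : T ⟶ W => PXmap ZO.hom φ ≫ ξ) :=
    fun T => ⟨inj_general ξ haff T, surj_general ξ haff T⟩
  exact ⟨{ homEquiv := fun {T} => Equiv.ofBijective _ (hb T)
           homEquiv_comp := fun {T T'} φ ψ => by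
             show PXmap ZO.hom (φ ≫ ψ) ≫ ξ = PXmap ZO.hom φ ≫ (PXmap ZO.hom ψ ≫ ξ)
             rw [PXmap_comp, Category.assoc] }⟩

omit univ hbij in
theorem main7193 [IsAffine S] (ZO XO : Over S) (hZ : IsAffine ZO.left) (hX : IsAffine XO.left)
    (hfin : Module.Finite Γ(S, ⊤) Γ(ZO.left, ⊤)) (hfree : Module.Free Γ(S, ⊤) Γ(ZO.left, ⊤)) :
    ∃ W : Over S, IsAffine W.left ∧ Nonempty ((FF ZO XO).RepresentableBy W) := by
  obtain ⟨WA, iR, iA, univ, hbij⟩ := exists_weilAlg Γ(S, ⊤) Γ(ZO.left, ⊤) Γ(XO.left, ⊤)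
  let α : Γ(S, ⊤) ⟶ CommRingCat.of WA := CommRingCat.ofHom (algebraMap Γ(S, ⊤) WA)
  let W : Over S := Over.mk (Spec.map α ≫ S.isoSpec.inv)
  have hW : IsAffine W.left := (inferInstance : IsAffine (Spec (CommRingCat.of WA)))
  have hWtop : W.hom.appTop = α ≫ (Scheme.ΓSpecIso (CommRingCat.of WA)).inv := by
    show (Spec.map α ≫ S.isoSpec.inv).appTop = _
    rw [Scheme.Hom.comp_appTop, isoSpec_inv_appTop, ← Scheme.ΓSpecIso_inv_naturality]
  let e₀ : WA ≃+* Γ(W.left, ⊤) :=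
    (Scheme.ΓSpecIso (CommRingCat.of WA)).symm.commRingCatIsoToRingEquiv
  have he₀ : ∀ r, e₀ (algebraMap Γ(S, ⊤) WA r) = algebraMap Γ(S, ⊤) Γ(W.left, ⊤) r := by
    intro r
    show _ = W.hom.appTop.hom r
    rw [hWtop]
    rfl
  let e : WA ≃ₐ[Γ(S, ⊤)] Γ(W.left, ⊤) := AlgEquiv.ofRingEquiv (f := e₀) he₀
  let univ' : Γ(XO.left, ⊤) →ₐ[Γ(S, ⊤)] Γ(W.left, ⊤) ⊗[Γ(S, ⊤)] Γ(ZO.left, ⊤) :=
    (Algebra.TensorProduct.map e.toAlgHom (AlgHom.id Γ(S, ⊤) Γ(ZO.left, ⊤))).comp univ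
  have hcomp : ∀ (A : Type u) [CommRing A] [Algebra Γ(S, ⊤) A]
      (ρ' : Γ(W.left, ⊤) →ₐ[Γ(S, ⊤)] A),
      (Algebra.TensorProduct.map ρ' (AlgHom.id Γ(S, ⊤) Γ(ZO.left, ⊤))).comp univ' =
        (Algebra.TensorProduct.map (ρ'.comp e.toAlgHom)
          (AlgHom.id Γ(S, ⊤) Γ(ZO.left, ⊤))).comp univ := by
    intro A _ _ ρ'
    apply AlgHom.ext
    intro c
    exact WeilAlgH7.map_map Γ(S, ⊤) Γ(ZO.left, ⊤) e.toAlgHom ρ' (univ c)
  have hbij' : ∀ (A : Type u) [CommRing A] [Algebra Γ(S, ⊤) A],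
      Function.Bijective (fun ρ' : Γ(W.left, ⊤) →ₐ[Γ(S, ⊤)] A =>
        (Algebra.TensorProduct.map ρ' (AlgHom.id Γ(S, ⊤) Γ(ZO.left, ⊤))).comp univ') := by
    intro A _ _
    constructor
    · intro ρ₁ ρ₂ h
      have h' : (Algebra.TensorProduct.map (ρ₁.comp e.toAlgHom)
          (AlgHom.id Γ(S, ⊤) Γ(ZO.left, ⊤))).comp univ =
          (Algebra.TensorProduct.map (ρ₂.comp e.toAlgHom)
            (AlgHom.id Γ(S, ⊤) Γ(ZO.left, ⊤))).comp univ := by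
        rw [← hcomp A ρ₁, ← hcomp A ρ₂]
        exact h
      have h2 : ρ₁.comp e.toAlgHom = ρ₂.comp e.toAlgHom := (hbij A).1 h'
      apply AlgHom.ext
      intro x
      have h3 := AlgHom.congr_fun h2 (e.symm x)
      simpa using h3
    · intro ψ
      obtain ⟨ρ, hρ⟩ := (hbij A).2 ψ
      refine ⟨ρ.comp e.symm.toAlgHom, ?_⟩
      show (Algebra.TensorProduct.map (ρ.comp e.symm.toAlgHom)
        (AlgHom.id Γ(S, ⊤) Γ(ZO.left, ⊤))).comp univ' = ψ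
      rw [hcomp A]
      have h4 : (ρ.comp e.symm.toAlgHom).comp e.toAlgHom = ρ := by
        apply AlgHom.ext
        intro x
        simp
      rw [h4]
      exact hρ
  exact ⟨W, hW, representable ZO XO W univ' hbij' hZ hX hW⟩

end Groth.Agent.Lib.WeilSchH7
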