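import Mathlib
import Groth.Agent.Lib.WeilSch_helper7

/-!
# Infinitesimal lifting for smooth morphisms of affine schemes (helper7)

* `ring_lift`: formally smooth ring maps lift along a square-zero thickening, with a second
  prescribed restriction (glueing along a "pushout" thickening).
* `IsThick`, `HasLift`: thickenings of affine schemes and the lifting property.
* `exists_lift_pair`, `hasLift_of_smooth`: smooth morphisms of affine schemes lift.
* `smooth_of_lift`: a morphism of affine schemes, locally of finite presentation, with the lifting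
  property is smooth.
* `lfp_of_noetherian`: cancellation for finite presentation over a Noetherian base.
-/

set_option autoImplicit false
set_option linter.style.haveILetI false
set_option linter.unusedVariables false
universe u
open CategoryTheory CategoryTheory.Limits AlgebraicGeometry Opposite

namespace Groth.Agent.Lib.AffLiftH7

open Groth.Agent.Lib.WeilSchH7

/-! ## Ring level -/

theorem ring_lift {R P C C₁ C₂ : Type u} [CommRing R] [CommRing P] [CommRing C] [CommRing C₁]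
    [CommRing C₂] (f : R →+* P) (hf : f.FormallySmooth)
    (b : R →+* C) (i₁ : C →+* C₁) (i₂ : C →+* C₂)
    (hsq : ∀ x y, i₁ x = 0 → i₁ y = 0 → x * y = 0)
    (a₁ : P →+* C₁) (a₂ : P →+* C₂)
    (h1 : ∀ r, a₁ (f r) = i₁ (b r)) (h2 : ∀ r, a₂ (f r) = i₂ (b r))
    (H : ∀ p, ∃ x, i₁ x = a₁ p ∧ i₂ x = a₂ p) :
    ∃ c : P →+* C, (∀ p, i₁ (c p) = a₁ p) ∧ (∀ p, i₂ (c p) = a₂ p) ∧ ∀ r, c (f r) = b r := by
  classical
  let K : Ideal C := RingHom.ker i₁ ⊓ RingHom.ker i₂
  have hK : K ^ 2 = ⊥ := by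
    rw [pow_two, ← le_bot_iff, Ideal.mul_le]
    intro x hx y hy
    rw [Ideal.mem_bot]
    exact hsq x y ((RingHom.mem_ker).mp hx.1) ((RingHom.mem_ker).mp hy.1)
  let ψ₀ : C →+* C₁ × C₂ := i₁.prod i₂
  have hψ₀ : ∀ x ∈ K, ψ₀ x = 0 := by
    intro x hx
    exact Prod.ext ((RingHom.mem_ker).mp hx.1) ((RingHom.mem_ker).mp hx.2)
  let ψ : C ⧸ K →+* C₁ × C₂ := Ideal.Quotient.lift K ψ₀ hψ₀
  have hψmk : ∀ x, ψ (Ideal.Quotient.mk K x) = (i₁ x, i₂ x) := fun x => rfl
  have hψinj : Function.Injective ψ := by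
    rw [injective_iff_map_eq_zero]
    intro z hz
    obtain ⟨x, rfl⟩ := Ideal.Quotient.mk_surjective z
    rw [hψmk] at hz
    rw [Ideal.Quotient.eq_zero_iff_mem]
    exact ⟨(RingHom.mem_ker).mpr (congrArg Prod.fst hz),
      (RingHom.mem_ker).mpr (congrArg Prod.snd hz)⟩
  have hex : ∀ p, ∃ z : C ⧸ K, ψ z = (a₁ p, a₂ p) := by
    intro p
    obtain ⟨x, hx1, hx2⟩ := H p
    exact ⟨Ideal.Quotient.mk K x, by rw [hψmk, hx1, hx2]⟩
  choose v₀ hv₀ using hex
  let v : P →+* C ⧸ K :=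
    { toFun := v₀
      map_one' := hψinj ((hv₀ 1).trans (Prod.ext (by simp) (by simp)))
      map_mul' := fun p q => hψinj ((hv₀ _).trans (by
        rw [map_mul ψ, hv₀, hv₀]
        exact Prod.ext (map_mul a₁ p q) (map_mul a₂ p q)))
      map_zero' := hψinj ((hv₀ 0).trans (Prod.ext (by simp) (by simp)))
      map_add' := fun p q => hψinj ((hv₀ _).trans (by
        rw [map_add ψ, hv₀, hv₀]
        exact Prod.ext (map_add a₁ p q) (map_add a₂ p q))) }
  have hv : ∀ p, ψ (v p) = (a₁ p, a₂ p) := hv₀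
  letI algP : Algebra R P := f.toAlgebra
  letI algC : Algebra R C := b.toAlgebra
  haveI : Algebra.FormallySmooth R P := hf
  let vA : P →ₐ[R] C ⧸ K :=
    { v with
      commutes' := fun r => hψinj (by
        show ψ (v (f r)) = ψ (Ideal.Quotient.mk K (b r))
        rw [hv, hψmk, h1, h2]) }
  have hnil : IsNilpotent K := ⟨2, hK⟩
  let cA : P →ₐ[R] C := Algebra.FormallySmooth.lift K hnil vA
  have hcA : ∀ p, Ideal.Quotient.mk K (cA p) = v p := fun p =>
    Algebra.FormallySmooth.mk_lift K hnil vA p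
  have hboth : ∀ p, (i₁ (cA p), i₂ (cA p)) = (a₁ p, a₂ p) := fun p =>
    (hψmk (cA p)).symm.trans ((congrArg ψ (hcA p)).trans (hv p))
  refine ⟨cA.toRingHom, fun p => congrArg Prod.fst (hboth p), fun p => congrArg Prod.snd (hboth p),
    fun r => ?_⟩
  exact cA.commutes r

/-! ## Scheme level -/

/-- A square-zero thickening (on global sections). -/
def IsThick {T₀ T : Scheme.{u}} (ι : T₀ ⟶ T) : Prop :=
  Function.Surjective ι.appTop.hom ∧
    ∀ x y, ι.appTop.hom x = 0 → ι.appTop.hom y = 0 → x * y = 0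

/-- The lifting property with respect to square-zero thickenings of affine schemes. -/
def HasLift {X Y : Scheme.{u}} (f : X ⟶ Y) : Prop :=
  ∀ (T₀ T : Scheme.{u}), IsAffine T₀ → IsAffine T → ∀ (ι : T₀ ⟶ T), IsThick ι →
    ∀ (a : T₀ ⟶ X) (b : T ⟶ Y), a ≫ f = ι ≫ b → ∃ c : T ⟶ X, ι ≫ c = a ∧ c ≫ f = b

lemma appTop_comp_apply {X Y Z : Scheme.{u}} (f : X ⟶ Y) (g : Y ⟶ Z) (x : Γ(Z, ⊤)) :
    (f ≫ g).appTop.hom x = f.appTop.hom (g.appTop.hom x) := by
  rw [Scheme.Hom.comp_appTop]; rfl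

theorem exists_lift_pair {X Y : Scheme.{u}} [IsAffine X] [IsAffine Y] (f : X ⟶ Y) [Smooth f]
    {T₁ T₂ T : Scheme.{u}} (ι₁ : T₁ ⟶ T) (ι₂ : T₂ ⟶ T)
    (hsq : ∀ x y, ι₁.appTop.hom x = 0 → ι₁.appTop.hom y = 0 → x * y = 0)
    (a₁ : T₁ ⟶ X) (a₂ : T₂ ⟶ X) (b : T ⟶ Y)
    (h1 : a₁ ≫ f = ι₁ ≫ b) (h2 : a₂ ≫ f = ι₂ ≫ b)
    (H : ∀ p, ∃ x, ι₁.appTop.hom x = a₁.appTop.hom p ∧ ι₂.appTop.hom x = a₂.appTop.hom p) :
    ∃ c : T ⟶ X, ι₁ ≫ c = a₁ ∧ ι₂ ≫ c = a₂ ∧ c ≫ f = b := by
  have hsm : RingHom.Smooth f.appTop.hom :=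
    (HasRingHomProperty.iff_of_isAffine (P := @Smooth)).mp inferInstance
  obtain ⟨c₀, hc1, hc2, hc3⟩ := ring_lift f.appTop.hom hsm.formallySmooth b.appTop.hom
    ι₁.appTop.hom ι₂.appTop.hom hsq a₁.appTop.hom a₂.appTop.hom
    (fun r => by rw [← appTop_comp_apply, ← appTop_comp_apply, h1])
    (fun r => by rw [← appTop_comp_apply, ← appTop_comp_apply, h2]) H
  obtain ⟨c, hc⟩ := exists_hom_appTop (Y := T) (T := X) (CommRingCat.ofHom c₀)
  have hcapp : ∀ p, c.appTop.hom p = c₀ p := fun p => by rw [hc]; rfl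
  refine ⟨c, ?_, ?_, ?_⟩
  · apply ext_of_isAffine
    apply CommRingCat.hom_ext
    apply RingHom.ext
    intro p
    rw [appTop_comp_apply, hcapp, hc1]
  · apply ext_of_isAffine
    apply CommRingCat.hom_ext
    apply RingHom.ext
    intro p
    rw [appTop_comp_apply, hcapp, hc2]
  · apply ext_of_isAffine
    apply CommRingCat.hom_ext
    apply RingHom.ext
    intro r
    rw [appTop_comp_apply, hcapp, hc3]

theorem hasLift_of_smooth {X Y : Scheme.{u}} [IsAffine X] [IsAffine Y] (f : X ⟶ Y) [Smooth f] :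
    HasLift f := by
  intro T₀ T _ _ ι hι a b hab
  obtain ⟨c, hc1, -, hc3⟩ := exists_lift_pair f ι ι hι.2 a a b hab hab (fun p => by
    obtain ⟨x, hx⟩ := hι.1 (a.appTop.hom p)
    exact ⟨x, hx, hx⟩)
  exact ⟨c, hc1, hc3⟩

theorem smooth_of_lift {X Y : Scheme.{u}} [IsAffine X] [IsAffine Y] (f : X ⟶ Y)
    [LocallyOfFinitePresentation f] (H : HasLift f) : Smooth f := by
  rw [HasRingHomProperty.iff_of_isAffine (P := @Smooth)]
  have hfp : RingHom.FinitePresentation f.appTop.hom :=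
    (HasRingHomProperty.iff_of_isAffine (P := @LocallyOfFinitePresentation)).mp inferInstance
  rw [RingHom.smooth_def]
  refine ⟨?_, hfp⟩
  letI algX : Algebra Γ(Y, ⊤) Γ(X, ⊤) := f.appTop.hom.toAlgebra
  show Algebra.FormallySmooth Γ(Y, ⊤) Γ(X, ⊤)
  apply Algebra.FormallySmooth.of_comp_surjective
  intro C _ _ I hI g
  let eC : Γ(Spec (CommRingCat.of C), ⊤) ≃+* C :=
    (Scheme.ΓSpecIso (CommRingCat.of C)).commRingCatIsoToRingEquiv
  let eC₀ : Γ(Spec (CommRingCat.of (C ⧸ I)), ⊤) ≃+* (C ⧸ I) :=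
    (Scheme.ΓSpecIso (CommRingCat.of (C ⧸ I))).commRingCatIsoToRingEquiv
  let ι : Spec (CommRingCat.of (C ⧸ I)) ⟶ Spec (CommRingCat.of C) :=
    Spec.map (CommRingCat.ofHom (Ideal.Quotient.mk I))
  have hι : ∀ x, eC₀ (ι.appTop.hom x) = Ideal.Quotient.mk I (eC x) := by
    intro x
    have h1 := Scheme.ΓSpecIso_naturality (CommRingCat.ofHom (Ideal.Quotient.mk I))
    exact congrArg (fun k => k.hom x) h1
  obtain ⟨a, ha⟩ := exists_hom_appTop (Y := Spec (CommRingCat.of (C ⧸ I))) (T := X)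
    (CommRingCat.ofHom (eC₀.symm.toRingHom.comp g.toRingHom))
  have haapp : ∀ p, a.appTop.hom p = eC₀.symm (g p) := fun p => by rw [ha]; rfl
  obtain ⟨b, hb⟩ := exists_hom_appTop (Y := Spec (CommRingCat.of C)) (T := Y)
    (CommRingCat.ofHom (eC.symm.toRingHom.comp (algebraMap Γ(Y, ⊤) C)))
  have hbapp : ∀ r, b.appTop.hom r = eC.symm (algebraMap Γ(Y, ⊤) C r) := fun r => by
    rw [hb]; rfl
  have hab : a ≫ f = ι ≫ b := by
    apply ext_of_isAffine
    apply CommRingCat.hom_ext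
    apply RingHom.ext
    intro r
    rw [appTop_comp_apply, appTop_comp_apply]
    apply eC₀.injective
    rw [hι, haapp, hbapp, RingEquiv.apply_symm_apply, RingEquiv.apply_symm_apply]
    exact g.commutes r
  have hthick : IsThick ι := by
    refine ⟨fun y => ?_, fun x y hx hy => ?_⟩
    · obtain ⟨c, hc⟩ := Ideal.Quotient.mk_surjective (eC₀ y)
      refine ⟨eC.symm c, eC₀.injective ?_⟩
      rw [hι, RingEquiv.apply_symm_apply, hc]
    · have hx' : eC x ∈ I := by
        rw [← Ideal.Quotient.eq_zero_iff_mem, ← hι, hx, map_zero]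
      have hy' : eC y ∈ I := by
        rw [← Ideal.Quotient.eq_zero_iff_mem, ← hι, hy, map_zero]
      have hxy : eC x * eC y ∈ I ^ 2 := by
        rw [pow_two]; exact Ideal.mul_mem_mul hx' hy'
      rw [hI, Ideal.mem_bot, ← map_mul] at hxy
      exact eC.injective (hxy.trans (map_zero _).symm)
  obtain ⟨c, hc1, hc2⟩ := H _ _ inferInstance inferInstance ι hthick a b hab
  let g' : Γ(X, ⊤) →ₐ[Γ(Y, ⊤)] C :=
    { eC.toRingHom.comp c.appTop.hom with
      commutes' := fun r => by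
        show eC (c.appTop.hom (f.appTop.hom r)) = algebraMap Γ(Y, ⊤) C r
        rw [← appTop_comp_apply, hc2, hbapp, RingEquiv.apply_symm_apply] }
  refine ⟨g', AlgHom.ext fun p => ?_⟩
  show Ideal.Quotient.mk I (eC (c.appTop.hom p)) = g p
  rw [← hι, ← appTop_comp_apply, hc1, haapp, RingEquiv.apply_symm_apply]

/-! ## Cancellation for finite presentation over a Noetherian base -/

theorem lfp_of_noetherian {X Y Z : Scheme.{u}} [IsAffine X] [IsAffine Y] [IsAffine Z]
    (f : X ⟶ Y) (g : Y ⟶ Z) [LocallyOfFiniteType g] (hfg : LocallyOfFiniteType (f ≫ g))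
    (hZ : IsNoetherianRing Γ(Z, ⊤)) : LocallyOfFinitePresentation f := by
  have h1 : RingHom.FiniteType (f ≫ g).appTop.hom :=
    (HasRingHomProperty.iff_of_isAffine (P := @LocallyOfFiniteType)).mp hfg
  have h2 : RingHom.FiniteType g.appTop.hom :=
    (HasRingHomProperty.iff_of_isAffine (P := @LocallyOfFiniteType)).mp inferInstance
  have h3 : (f ≫ g).appTop.hom = f.appTop.hom.comp g.appTop.hom := by
    rw [Scheme.Hom.comp_appTop]; rfl
  rw [h3] at h1
  have h4 : RingHom.FiniteType f.appTop.hom := RingHom.FiniteType.of_comp_finiteType h1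
  haveI : IsNoetherianRing Γ(Y, ⊤) := by
    letI := g.appTop.hom.toAlgebra
    haveI : Algebra.FiniteType Γ(Z, ⊤) Γ(Y, ⊤) := h2
    exact Algebra.FiniteType.isNoetherianRing Γ(Z, ⊤) Γ(Y, ⊤)
  rw [HasRingHomProperty.iff_of_isAffine (P := @LocallyOfFinitePresentation)]
  exact RingHom.FinitePresentation.of_finiteType.mp h4

end Groth.Agent.Lib.AffLiftH7
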