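import Mathlib

set_option autoImplicit false
set_option backward.isDefEq.respectTransparency false

universe u

open CategoryTheory CategoryTheory.Limits AlgebraicGeometry Opposite

namespace Groth.Agent.Lib.AffLimExists_helper7

/-! ### A diagram of affine schemes has a limit -/

theorem hasLimit_of_isAffine {J : Type u} [Category.{u} J] (E : J ⥤ Scheme.{u})
    [∀ j, IsAffine (E.obj j)] : HasLimit E := by
  let e : E ≅ (E ⋙ Scheme.Γ.rightOp) ⋙ Scheme.Spec :=
    NatIso.ofComponents (fun j => (E.obj j).isoSpec) (fun f => by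
      simp [Scheme.isoSpec_hom_naturality])
  haveI : HasLimit ((E ⋙ Scheme.Γ.rightOp) ⋙ Scheme.Spec) :=
    ⟨⟨⟨Scheme.Spec.mapCone (limit.cone _), isLimitOfPreserves Scheme.Spec (limit.isLimit _)⟩⟩⟩
  exact hasLimit_of_iso e.symm

/-! ### The functor of cones is a Zariski sheaf -/

theorem isSheaf_cones {J : Type u} [Category.{u} J] (D : J ⥤ Scheme.{u}) :
    Presheaf.IsSheaf Scheme.zariskiTopology.{u} D.cones := by
  rw [isSheaf_iff_isSheaf_of_type]
  intro T S hS x hx
  have hj : ∀ j, Presieve.IsSheafFor (yoneda.obj (D.obj j)) (S : Presieve T) := fun j =>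
    GrothendieckTopology.Subcanonical.isSheaf_of_isRepresentable
      (J := Scheme.zariskiTopology.{u}) _ S hS
  let xj : ∀ j, Presieve.FamilyOfElements (yoneda.obj (D.obj j)) (S : Presieve T) :=
    fun j V f hf => NatTrans.app (x f hf) j
  have hxj : ∀ j, (xj j).Compatible := by
    intro j V₁ V₂ W g₁ g₂ f₁ f₂ h₁ h₂ comm
    exact congrArg (fun t => NatTrans.app t j) (hx g₁ g₂ h₁ h₂ comm)
  let a : ∀ j, T ⟶ D.obj j := fun j => (hj j).amalgamate (xj j) (hxj j)
  have ha : ∀ j (V : Scheme.{u}) (f : V ⟶ T) (hf : S f), f ≫ a j = NatTrans.app (x f hf) j :=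
    fun j V f hf => (hj j).valid_glue (hxj j) f hf
  have hnat : ∀ j k (φ : j ⟶ k), a j ≫ D.map φ = a k := by
    intro j k φ
    refine (hj k).isSeparatedFor.ext fun V f hf => ?_
    show f ≫ a j ≫ D.map φ = f ≫ a k
    rw [← Category.assoc, ha j V f hf, ha k V f hf]
    have := NatTrans.naturality (x f hf) φ
    simpa using this.symm
  refine ⟨(show (Functor.const J).obj T ⟶ D from
    { app := a, naturality := fun j k φ => by simp [hnat j k φ] }), ?_, ?_⟩
  · intro V f hf
    apply NatTrans.ext; funext j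
    exact ha j V f hf
  · intro t' ht'
    apply NatTrans.ext; funext j
    refine (hj j).isSeparatedFor.ext fun V f hf => ?_
    show f ≫ NatTrans.app t' j = f ≫ a j
    rw [ha j V f hf]
    exact congrArg (fun t => NatTrans.app t j) (ht' f hf)

/-! ### The comparison map from the limit of an open subdiagram -/

section PartC

variable {J : Type u} [Category.{u} J] {D E : J ⥤ Scheme.{u}} (ι : E ⟶ D) [HasLimit E]

/-- The cone over `D` with apex `limit E`. -/
noncomputable def coneElt : D.cones.obj (op (limit E)) :=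
  (show (Functor.const J).obj (limit E) ⟶ D from (limit.cone E).π ≫ ι)

/-- The induced map of presheaves. -/
noncomputable def phi : yoneda.obj (limit E) ⟶ D.cones := yonedaEquiv.symm (coneElt ι)

lemma phi_app_app (T : Scheme.{u}ᵒᵖ) (a : T.unop ⟶ limit E) (j : J) :
    NatTrans.app ((phi ι).app T a) j = a ≫ limit.π E j ≫ ι.app j := rfl

/-- Evaluation of cones at an object. -/
noncomputable def evAt (D : J ⥤ Scheme.{u}) (top : J) : D.cones ⟶ yoneda.obj (D.obj top) where
  app T := ↾ (fun t => NatTrans.app t top)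
  naturality := by
    intro T V f
    ext t
    simp

theorem exists_lift (top : J) (τ : ∀ j, j ⟶ top) [∀ j, Mono (ι.app j)]
    (hpb : ∀ j, IsPullback (E.map (τ j)) (ι.app j) (ι.app top) (D.map (τ j)))
    (T : Scheme.{u}) (b : T ⟶ E.obj top) (t : (Functor.const J).obj T ⟶ D)
    (h : b ≫ ι.app top = t.app top) :
    ∃ a : T ⟶ limit E, (∀ j, a ≫ limit.π E j ≫ ι.app j = t.app j) ∧ a ≫ limit.π E top = b := by
  have ht : ∀ j k (f : j ⟶ k), t.app j ≫ D.map f = t.app k := by
    intro j k f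
    have := t.naturality f
    simpa using this.symm
  let s : ∀ j, T ⟶ E.obj j := fun j => (hpb j).lift b (t.app j) (by rw [h, ht])
  have hs : ∀ j, s j ≫ ι.app j = t.app j := fun j => (hpb j).lift_snd _ _ _
  have hsn : ∀ j k (f : j ⟶ k), s j ≫ E.map f = s k := by
    intro j k f
    rw [← cancel_mono (ι.app k), Category.assoc, ι.naturality, ← Category.assoc, hs, hs, ht]
  let c : Cone E := ⟨T, { app := s, naturality := fun j k f => by simp [hsn j k f] }⟩
  refine ⟨limit.lift E c, fun j => ?_, ?_⟩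
  · rw [← Category.assoc, limit.lift_π]; exact hs j
  · rw [limit.lift_π, ← cancel_mono (ι.app top)]
    exact (hs top).trans h.symm

theorem isPullback_phi (top : J) (τ : ∀ j, j ⟶ top) [∀ j, Mono (ι.app j)]
    (hpb : ∀ j, IsPullback (E.map (τ j)) (ι.app j) (ι.app top) (D.map (τ j))) :
    IsPullback (yoneda.map (limit.π E top)) (phi ι) (yoneda.map (ι.app top)) (evAt D top) := by
  refine IsPullback.of_forall_isPullback_app fun T => ?_
  rw [Types.isPullback_iff]
  refine ⟨?_, ?_, ?_⟩
  · ext a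
    show (a ≫ limit.π E top) ≫ ι.app top = a ≫ limit.π E top ≫ ι.app top
    rw [Category.assoc]
  · rintro a a' ⟨-, h⟩
    refine limit.hom_ext fun j => ?_
    rw [← cancel_mono (ι.app j)]
    simp only [Category.assoc]
    exact congrArg (fun t => NatTrans.app t j) h
  · intro b t h
    obtain ⟨a, ha, hab⟩ := exists_lift ι top τ hpb T.unop b t h
    exact ⟨a, hab, NatTrans.ext (funext ha)⟩

theorem phi_isOpenImmersion (top : J) (τ : ∀ j, j ⟶ top) [∀ j, IsOpenImmersion (ι.app j)]
    (hpb : ∀ j, IsPullback (E.map (τ j)) (ι.app j) (ι.app top) (D.map (τ j))) :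
    IsOpenImmersion.presheaf (phi ι) := by
  haveI : ∀ j, Mono (ι.app j) := fun j => inferInstance
  have h1 : IsOpenImmersion.presheaf (yoneda.map (ι.app top)) :=
    MorphismProperty.relative_map (inferInstance : IsOpenImmersion (ι.app top))
  haveI := MorphismProperty.relative_isStableUnderBaseChange
    (F := (yoneda : Scheme.{u} ⥤ _)) @IsOpenImmersion
  exact MorphismProperty.of_isPullback (isPullback_phi ι top τ hpb) h1

end PartC

/-! ### Representability of the functor of cones -/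

theorem cones_isRepresentable {J : Type u} [Category.{u} J] (D : J ⥤ Scheme.{u}) (top : J)
    (τ : ∀ j, j ⟶ top) (𝒰 : Scheme.OpenCover.{u} (D.obj top))
    (E : 𝒰.I₀ → (J ⥤ Scheme.{u})) (ι : ∀ x, E x ⟶ D)
    [∀ x, HasLimit (E x)] [∀ x j, IsOpenImmersion ((ι x).app j)]
    (hpb : ∀ x j, IsPullback ((E x).map (τ j)) ((ι x).app j) ((ι x).app top) (D.map (τ j)))
    (hl : ∀ x, ∃ l : 𝒰.X x ⟶ (E x).obj top, l ≫ (ι x).app top = 𝒰.f x) :
    D.cones.IsRepresentable := by
  let F : Sheaf Scheme.zariskiTopology.{u} (Type u) := ⟨D.cones, isSheaf_cones D⟩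
  let f : ∀ x : 𝒰.I₀, yoneda.obj (limit (E x)) ⟶ F.obj := fun x => phi (ι x)
  have hf : ∀ x, IsOpenImmersion.presheaf (f x) := fun x =>
    phi_isOpenImmersion (ι x) top τ (hpb x)
  haveI : ∀ x j, Mono ((ι x).app j) := fun x j => inferInstance
  haveI : Presheaf.IsLocallySurjective Scheme.zariskiTopology (Sigma.desc f) := by
    refine ⟨fun {T} s => ?_⟩
    let s' : (Functor.const J).obj T ⟶ D := s
    rw [Scheme.mem_grothendieckTopology_iff]
    refine ⟨𝒰.pullback₁ (s'.app top), ?_⟩
    rintro V g ⟨x⟩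
    obtain ⟨l, hl'⟩ := hl x
    obtain ⟨a, ha, -⟩ := exists_lift (ι x) top τ (hpb x) _
      (pullback.snd (s'.app top) (𝒰.f x) ≫ l)
      (show (Functor.const J).obj _ ⟶ D from
        D.cones.map (pullback.fst (s'.app top) (𝒰.f x)).op s) (by
        rw [Category.assoc, hl', ← pullback.condition]; rfl)
    refine ⟨(Sigma.ι (fun x => yoneda.obj (limit (E x))) x).app _ a, ?_⟩
    have h1 : Sigma.ι (fun x => yoneda.obj (limit (E x))) x ≫ Sigma.desc f = f x :=
      Sigma.ι_desc _ _
    refine (ConcreteCategory.congr_hom (NatTrans.congr_app h1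
      (op (pullback (s'.app top) (𝒰.f x)))) a).trans ?_
    exact NatTrans.ext (funext ha)
  exact Scheme.LocalRepresentability.isRepresentable (F := F) hf

theorem hasLimit_of_cones_isRepresentable {J : Type u} [Category.{u} J] (D : J ⥤ Scheme.{u})
    [D.cones.IsRepresentable] : HasLimit D :=
  ⟨⟨⟨_, IsLimit.ofRepresentableBy (Functor.representableBy D.cones)⟩⟩⟩

/-! ### Specialisation to the diagrams of preimages of affine opens -/

theorem hasLimit_opensDiagram {I : Type u} [SmallCategory I] (D : I ⥤ Scheme.{u})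
    [∀ {i j : I} (f : i ⟶ j), IsAffineHom (D.map f)] (i : I) (U : (D.obj i).Opens)
    (hU : IsAffineOpen U) : HasLimit (opensDiagram D i U) := by
  haveI : ∀ j, IsAffine ((opensDiagram D i U).obj j) := fun j => hU.preimage (D.map j.hom)
  exact hasLimit_of_isAffine _

theorem hpb_opens {I : Type u} [SmallCategory I] (D : I ⥤ Scheme.{u}) (i₀ : I)
    (U : (D.obj i₀).Opens) (j : Over i₀) :
    IsPullback ((opensDiagram D i₀ U).map (Over.homMk j.hom (by simp) : j ⟶ Over.mk (𝟙 i₀)))
      ((opensDiagramι D i₀ U).app j) ((opensDiagramι D i₀ U).app (Over.mk (𝟙 i₀)))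
      ((Over.forget i₀ ⋙ D).map (Over.homMk j.hom (by simp) : j ⟶ Over.mk (𝟙 i₀))) :=
  IsOpenImmersion.isPullback _ _ _ _ (by simp) (by simp [← Scheme.Hom.comp_preimage])

theorem hl_opens {I : Type u} [SmallCategory I] (D : I ⥤ Scheme.{u}) (i₀ : I)
    {Y : Scheme.{u}} (g : Y ⟶ D.obj i₀) [IsOpenImmersion g] :
    ∃ l : Y ⟶ (opensDiagram D i₀ g.opensRange).obj (Over.mk (𝟙 i₀)),
      l ≫ (opensDiagramι D i₀ g.opensRange).app (Over.mk (𝟙 i₀)) = g := by
  refine ⟨IsOpenImmersion.lift ((opensDiagramι D i₀ g.opensRange).app (Over.mk (𝟙 i₀))) g ?_,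
    IsOpenImmersion.lift_fac _ _ _⟩
  simp only [opensDiagramι_app, Scheme.Opens.range_ι]
  rintro _ ⟨y, rfl⟩
  refine ⟨⟨g y, ?_⟩, rfl⟩
  show g y ∈ D.map (𝟙 i₀) ⁻¹ᵁ g.opensRange
  rw [D.map_id]
  exact ⟨y, rfl⟩

theorem hasLimit_of_affine_transitions {I : Type u} [SmallCategory I] [IsCofiltered I]
    (D : I ⥤ Scheme.{u}) [∀ {i j : I} (f : i ⟶ j), IsAffineHom (D.map f)] : HasLimit D := by
  obtain ⟨i₀⟩ := IsCofiltered.nonempty (C := I)
  haveI : HasLimit (Over.forget i₀ ⋙ D) := by
    let 𝒰 : Scheme.OpenCover.{u} ((Over.forget i₀ ⋙ D).obj (Over.mk (𝟙 i₀))) :=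
      (D.obj i₀).affineCover
    haveI : ∀ x : 𝒰.I₀, HasLimit (opensDiagram D i₀ (𝒰.f x).opensRange) := fun x =>
      hasLimit_opensDiagram D i₀ _ (isAffineOpen_opensRange _)
    haveI : (Over.forget i₀ ⋙ D).cones.IsRepresentable :=
      cones_isRepresentable (Over.forget i₀ ⋙ D) (Over.mk (𝟙 i₀))
        (fun j => Over.homMk j.hom (by simp)) 𝒰
        (fun x => opensDiagram D i₀ (𝒰.f x).opensRange)
        (fun x => opensDiagramι D i₀ (𝒰.f x).opensRange)
        (fun x j => hpb_opens D i₀ _ j) (fun x => hl_opens D i₀ (𝒰.f x))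
    exact hasLimit_of_cones_isRepresentable _
  exact Functor.Initial.hasLimit_of_comp (Over.forget i₀)

theorem main {I : Type u} [SmallCategory I] [IsCofiltered I] (D : I ⥤ Scheme.{u})
    [∀ (i j : I) (f : i ⟶ j), IsAffineHom (D.map f)] :
    ∃ (c : Limits.Cone D) (_ : Limits.IsLimit c), ∀ i, IsAffineHom (c.π.app i) := by
  haveI : ∀ {i j : I} (f : i ⟶ j), IsAffineHom (D.map f) := fun f => inferInstance
  haveI := hasLimit_of_affine_transitions D
  exact ⟨limit.cone D, limit.isLimit D, fun i => isAffineHom_π_app D _ (limit.isLimit D) i⟩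

end Groth.Agent.Lib.AffLimExists_helper7
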