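import Groth.Agent.Lib.AffStalk2_helper3

/-!
# Complement of a principal closed subscheme on an affine open (helper3)
-/

set_option autoImplicit false
universe u
open CategoryTheory AlgebraicGeometry TopologicalSpace IsLocalRing

namespace Groth.Agent.Lib.AffStalk_helper3

variable {X : Scheme.{u}}

lemma mem_basicOpen_iff {U : X.Opens} (hU : IsAffineOpen U) (f : Γ(X, U)) (x : U) :
    (x : X) ∈ X.basicOpen f ↔ f ∉ (hU.primeIdealOf x).asIdeal := by
  have h := hU.fromSpec_preimage_basicOpen f
  have h3 : hU.fromSpec (hU.primeIdealOf x) ∈ X.basicOpen f ↔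
      (hU.primeIdealOf x) ∈ PrimeSpectrum.basicOpen f := by
    rw [← h]; exact Iff.rfl
  rw [hU.fromSpec_primeIdealOf x] at h3
  exact h3.trans (PrimeSpectrum.mem_basicOpen _ _)

/-- On an affine open where the ideal is principal, the complement of the support is the basic
open of the generator. -/
lemma compl_support_inf_eq_basicOpen (D : X.IdealSheafData) (U : X.affineOpens) (f : Γ(X, U.1))
    (hf : D.ideal U = Ideal.span {f}) : D.support.compl ⊓ U.1 = X.basicOpen f := by
  ext x
  constructor
  · rintro ⟨hxV, hxU⟩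
    have h1 : x ∉ D.support := hxV
    have h2 : ¬ D.ideal U ≤ (IsAffineOpen.primeIdealOf U.2 ⟨x, hxU⟩).asIdeal :=
      (mem_support_iff U.2 D ⟨x, hxU⟩).not.mp h1
    rw [hf, Ideal.span_singleton_le_iff_mem] at h2
    exact (mem_basicOpen_iff U.2 f ⟨x, hxU⟩).mpr h2
  · intro hx
    have hxU : x ∈ U.1 := X.basicOpen_le f hx
    refine ⟨?_, hxU⟩
    have h2 := (mem_basicOpen_iff U.2 f ⟨x, hxU⟩).mp hx
    have h3 : ¬ D.ideal U ≤ (IsAffineOpen.primeIdealOf U.2 ⟨x, hxU⟩).asIdeal := by
      rw [hf, Ideal.span_singleton_le_iff_mem]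
      exact h2
    have h1 : x ∉ D.support := (mem_support_iff U.2 D ⟨x, hxU⟩).not.mpr h3
    exact h1

lemma res_injective_of_eq_basicOpen {U : X.Opens} (hU : IsAffineOpen U) (f : Γ(X, U))
    (hf : f ∈ nonZeroDivisors Γ(X, U)) (W : X.Opens) (hW : W = X.basicOpen f) (h : W ≤ U) :
    Function.Injective (X.presheaf.map (homOfLE h).op) := by
  subst hW
  have := hU.isLocalization_basicOpen f
  exact IsLocalization.injective (M := Submonoid.powers f) Γ(X, X.basicOpen f)
    (Submonoid.powers_le.mpr hf)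

end Groth.Agent.Lib.AffStalk_helper3
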