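import Mathlib
import Groth.Prelude.Def_Found
import Groth.Agent.Lib.AnUnram_helper3

/-!
# Algebra behind "affine punctured spectrum implies dimension at most one" (helper4)
APPEND-ONLY once landed.

* `hartogs`: in a Noetherian normal local domain of dimension at least two, an element of the
  fraction field whose denominator ideal is primary to the maximal ideal lies in the ring.
* `FibClosed φ`: the only prime over the closed point is the closed point.
* `exists_prime_not_height_le_one`, `exists_normal_local`: reduction steps (quotient by a minimal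
  prime, normalisation followed by localisation at a maximal ideal of height at least two).
* `exists_mem_forall_prime_not_mem`: prime avoidance in dimension at most one.
-/

set_option autoImplicit false
set_option linter.unusedVariables false
set_option linter.unusedTactic false
set_option linter.unreachableTactic false
set_option linter.unusedSectionVars false
set_option maxHeartbeats 800000
universe u

namespace Groth.Agent.Lib.PuncAlgH4

open IsLocalRing

/-- In a domain, a prime has height at most one iff every strictly smaller prime is zero. -/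
theorem height_le_one_iff {R : Type*} [CommRing R] [IsDomain R] (p : Ideal R) [p.IsPrime] :
    p.height ≤ 1 ↔ ∀ q : Ideal R, q.IsPrime → q < p → q = ⊥ := by
  have h := Ideal.height_le_iff (p := p) (n := 1)
  rw [Nat.cast_one] at h
  rw [h]
  refine forall_congr' fun q => forall_congr' fun hq => forall_congr' fun hlt => ?_
  rw [ENat.lt_one_iff_eq_zero, Ideal.height_eq_zero_iff_eq_bot]

theorem dim_le_one_iff (A : Type*) [CommRing A] [IsLocalRing A] :
    ringKrullDim A ≤ 1 ↔ (maximalIdeal A).height ≤ 1 := by
  rw [← IsLocalRing.maximalIdeal_height_eq_ringKrullDim]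
  constructor
  · intro h
    exact_mod_cast h
  · intro h
    exact_mod_cast h

section Hartogs

variable {C : Type*} [CommRing C] [IsDomain C] [IsLocalRing C] [IsNoetherianRing C]
  [IsIntegrallyClosed C] {K : Type*} [CommRing K] [Algebra C K] [IsFractionRing C K]

/-- Key step: if the maximal ideal multiplies `β` into the ring then `β` is in the ring. -/
theorem hartogs_step (hht : ¬ (maximalIdeal C).height ≤ 1) (β : K)
    (h : ∀ a ∈ maximalIdeal C, ∃ c : C, algebraMap C K a * β = algebraMap C K c) :
    ∃ c : C, algebraMap C K c = β := by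
  classical
  haveI : IsDomain K := IsFractionRing.isDomain C
  have hinj : Function.Injective (algebraMap C K) := IsFractionRing.injective C K
  have hMne : maximalIdeal C ≠ ⊥ := by
    intro h0
    apply hht
    rw [h0, Ideal.height_bot]
    exact zero_le
  by_cases hJ : ∃ a ∈ maximalIdeal C, algebraMap C K a * β = 1
  · obtain ⟨a0, ha0, h0⟩ := hJ
    exfalso
    apply hht
    have hle : maximalIdeal C ≤ Ideal.span {a0} := by
      intro a ha
      obtain ⟨c, hc⟩ := h a ha
      rw [Ideal.mem_span_singleton']
      refine ⟨c, hinj ?_⟩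
      rw [map_mul, ← hc, mul_assoc, mul_comm β, h0, mul_one]
    have heq : maximalIdeal C = Ideal.span {a0} :=
      le_antisymm hle ((Ideal.span_singleton_le_iff_mem _).mpr ha0)
    rw [heq]
    exact Ideal.height_span_singleton_le_one ((IsLocalRing.mem_maximalIdeal a0).mp ha0)
  · push Not at hJ
    have hmem : ∀ a ∈ maximalIdeal C, ∀ c : C,
        algebraMap C K a * β = algebraMap C K c → c ∈ maximalIdeal C := by
      intro a ha c hc
      by_contra hcM
      have hu : IsUnit c := by
        by_contra hnu
        exact hcM ((IsLocalRing.mem_maximalIdeal c).mpr hnu)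
      obtain ⟨u, rfl⟩ := hu
      apply hJ (↑u⁻¹ * a) (Ideal.mul_mem_left _ _ ha)
      rw [map_mul, mul_assoc, hc, ← map_mul, Units.inv_mul, map_one]
    have hint : IsIntegral C β := by
      refine isIntegral_of_smul_mem_submodule (M := K)
        (Submodule.map (Algebra.linearMap C K) (maximalIdeal C)) ?_ ?_ β ?_
      · intro hbot
        obtain ⟨a, ha, ha0⟩ := Submodule.exists_mem_ne_zero_of_ne_bot hMne
        have hmem' : algebraMap C K a ∈
            Submodule.map (Algebra.linearMap C K) (maximalIdeal C) :=
          Submodule.mem_map.mpr ⟨a, ha, rfl⟩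
        rw [hbot, Submodule.mem_bot] at hmem'
        exact ha0 (hinj (by rw [hmem', map_zero]))
      · exact (IsNoetherian.noetherian (maximalIdeal C)).map _
      · intro n hn
        obtain ⟨a, ha, rfl⟩ := Submodule.mem_map.mp hn
        obtain ⟨c, hc⟩ := h a ha
        refine Submodule.mem_map.mpr ⟨c, hmem a ha c hc, ?_⟩
        rw [Algebra.linearMap_apply, Algebra.linearMap_apply, smul_eq_mul, mul_comm, hc]
    exact IsIntegrallyClosed.isIntegral_iff.mp hint

/-- Algebraic Hartogs lemma. -/
theorem hartogs (hht : ¬ (maximalIdeal C).height ≤ 1) (β : K)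
    (h : ∀ s ∈ maximalIdeal C, ∃ (n : ℕ) (c : C),
      algebraMap C K s ^ n * β = algebraMap C K c) :
    ∃ c : C, algebraMap C K c = β := by
  classical
  let J : Ideal C :=
    { carrier := {a | ∃ c : C, algebraMap C K a * β = algebraMap C K c}
      add_mem' := by
        rintro a1 a2 ⟨c1, h1⟩ ⟨c2, h2⟩
        exact ⟨c1 + c2, by rw [map_add, map_add, add_mul, h1, h2]⟩
      zero_mem' := ⟨0, by rw [map_zero, zero_mul]⟩
      smul_mem' := by
        rintro r a ⟨c, h1⟩
        exact ⟨r * c, by rw [smul_eq_mul, map_mul, map_mul, mul_assoc, h1]⟩ }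
  have hJmem : ∀ a, a ∈ J ↔ ∃ c : C, algebraMap C K a * β = algebraMap C K c :=
    fun a => Iff.rfl
  have hrad : maximalIdeal C ≤ J.radical := by
    intro s hs
    obtain ⟨n, c, hc⟩ := h s hs
    exact ⟨n, (hJmem _).mpr ⟨c, by rw [map_pow]; exact hc⟩⟩
  obtain ⟨N, hN⟩ := Ideal.exists_pow_le_of_le_radical_of_fg hrad (IsNoetherian.noetherian _)
  have key : ∀ (n : ℕ) (γ : K),
      (∀ a ∈ maximalIdeal C ^ n, ∃ c : C, algebraMap C K a * γ = algebraMap C K c) →
      ∃ c : C, algebraMap C K c = γ := by
    intro n
    induction n with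
    | zero =>
      intro γ hγ
      obtain ⟨c, hc⟩ := hγ 1 (by rw [pow_zero, Ideal.one_eq_top]; trivial)
      exact ⟨c, by rw [← hc, map_one, one_mul]⟩
    | succ n ih =>
      intro γ hγ
      apply ih
      intro t ht
      obtain ⟨c, hc⟩ := hartogs_step hht (algebraMap C K t * γ) (by
        intro a ha
        obtain ⟨c, hc⟩ := hγ (a * t) (by rw [pow_succ']; exact Ideal.mul_mem_mul ha ht)
        exact ⟨c, by rw [← mul_assoc, ← map_mul]; exact hc⟩)
      exact ⟨c, hc.symm⟩
  exact key N β (fun a ha => (hJmem a).mp (hN ha))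

end Hartogs

/-- The fibre of `Spec φ` over the closed point consists of the closed point only. -/
def FibClosed {A A' : Type*} [CommRing A] [CommRing A'] [IsLocalRing A] [IsLocalRing A']
    (φ : A →+* A') : Prop :=
  ∀ q : Ideal A', q.IsPrime → (q.comap φ = maximalIdeal A ↔ q = maximalIdeal A')

theorem fibClosed_of_map_le {A A' : Type*} [CommRing A] [CommRing A'] [IsLocalRing A]
    [IsLocalRing A'] (φ : A →+* A') [IsLocalHom φ]
    (h : maximalIdeal A' ≤ (maximalIdeal A).map φ) : FibClosed φ := by
  unfold FibClosed
  intro q hq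
  constructor
  · intro hc
    have h1 : (maximalIdeal A).map φ ≤ q := Ideal.map_le_iff_le_comap.mpr hc.ge
    exact ((maximalIdeal.isMaximal A').eq_of_le hq.ne_top (h.trans h1)).symm
  · rintro rfl
    exact IsLocalRing.maximalIdeal_comap φ

theorem fibClosed_quotient (A : Type*) [CommRing A] [IsLocalRing A] (p : Ideal A)
    [IsLocalRing (A ⧸ p)] : FibClosed (Ideal.Quotient.mk p) := by
  have hmax : (maximalIdeal (A ⧸ p)).comap (Ideal.Quotient.mk p) = maximalIdeal A :=
    IsLocalRing.eq_maximalIdeal
      (Ideal.comap_isMaximal_of_surjective _ Ideal.Quotient.mk_surjective)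
  unfold FibClosed
  intro q hq
  constructor
  · intro hc
    exact Ideal.comap_injective_of_surjective _ Ideal.Quotient.mk_surjective
      (hc.trans hmax.symm)
  · rintro rfl
    exact hmax

/-- Passing to the quotient by a suitable minimal prime keeps the dimension at least two. -/
theorem exists_prime_not_height_le_one (A : Type u) [CommRing A] [IsLocalRing A]
    (h : ¬ (maximalIdeal A).height ≤ 1) :
    ∃ (p : Ideal A) (_ : p.IsPrime) (_ : IsLocalRing (A ⧸ p)),
      ¬ (maximalIdeal (A ⧸ p)).height ≤ 1 := by
  have h1 := Ideal.height_le_iff (p := maximalIdeal A) (n := 1)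
  rw [Nat.cast_one] at h1
  rw [h1] at h
  push Not at h
  obtain ⟨q, hq, hqm, hqh⟩ := h
  haveI := hq
  have hqmin : q ∉ minimalPrimes A := by
    intro hm
    have h0 : q.height = 0 := Ideal.height_eq_zero_iff.mpr hm
    rw [h0] at hqh
    exact absurd hqh (not_le.mpr zero_lt_one)
  obtain ⟨p, hpmin, hpq⟩ := Ideal.exists_minimalPrimes_le (bot_le : (⊥ : Ideal A) ≤ q)
  have hp : p.IsPrime := hpmin.1.1
  have hpq' : p < q := lt_of_le_of_ne hpq (fun e => hqmin (e ▸ hpmin))
  haveI := hp
  haveI : Nontrivial (A ⧸ p) := Ideal.Quotient.nontrivial_iff.2 hp.ne_top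
  haveI : IsLocalRing (A ⧸ p) :=
    IsLocalRing.of_surjective' (Ideal.Quotient.mk p) Ideal.Quotient.mk_surjective
  refine ⟨p, hp, inferInstance, ?_⟩
  haveI : IsDomain (A ⧸ p) := Ideal.Quotient.isDomain p
  have hsurj : Function.Surjective (Ideal.Quotient.mk p) := Ideal.Quotient.mk_surjective
  have hker : RingHom.ker (Ideal.Quotient.mk p) ≤ q := by
    rw [Ideal.mk_ker]
    exact hpq
  have hqprime : (q.map (Ideal.Quotient.mk p)).IsPrime :=
    Ideal.map_isPrime_of_surjective hsurj hker
  have hcm : (q.map (Ideal.Quotient.mk p)).comap (Ideal.Quotient.mk p) = q := by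
    rw [Ideal.comap_map_of_surjective _ hsurj, ← RingHom.ker_eq_comap_bot, Ideal.mk_ker]
    exact sup_eq_left.mpr hpq
  have hmax : (maximalIdeal (A ⧸ p)).comap (Ideal.Quotient.mk p) = maximalIdeal A :=
    IsLocalRing.eq_maximalIdeal (Ideal.comap_isMaximal_of_surjective _ hsurj)
  rw [height_le_one_iff]
  push Not
  refine ⟨q.map (Ideal.Quotient.mk p), hqprime, ?_, ?_⟩
  · refine lt_of_le_of_ne (IsLocalRing.le_maximalIdeal hqprime.ne_top) ?_
    intro e
    rw [e, hmax] at hcm
    exact hqm.ne hcm.symm
  · intro e
    rw [Ideal.map_eq_bot_iff_le_ker, Ideal.mk_ker] at e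
    exact hpq'.not_ge e

/-- Normalisation step, abstract form. -/
theorem exists_normal_local_aux (D E : Type u) [CommRing D] [IsDomain D] [IsLocalRing D]
    [IsNoetherianRing D] [CommRing E] [IsDomain E] [Algebra D E] [Module.Finite D E]
    [IsIntegrallyClosed E] (hinj : Function.Injective (algebraMap D E))
    (h : ¬ (maximalIdeal D).height ≤ 1) :
    ∃ (C : Type u) (_ : CommRing C) (_ : IsDomain C) (_ : IsLocalRing C)
      (_ : IsNoetherianRing C) (_ : IsIntegrallyClosed C) (φ : D →+* C),
      FibClosed φ ∧ ¬ (maximalIdeal C).height ≤ 1 := by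
  classical
  haveI : IsNoetherianRing E := IsNoetherianRing.of_finite D E
  haveI : Algebra.IsIntegral D E := Algebra.IsIntegral.of_finite D E
  rw [height_le_one_iff] at h
  push Not at h
  obtain ⟨q, hq, hqm, hq0⟩ := h
  haveI := hq
  haveI : (⊥ : Ideal E).IsPrime := Ideal.isPrime_bot
  haveI : (⊥ : Ideal E).LiesOver (⊥ : Ideal D) :=
    ⟨(Ideal.comap_bot_of_injective _ hinj).symm⟩
  obtain ⟨Q, hQ0, hQ, hQq⟩ := Ideal.exists_ideal_gt_liesOver_of_lt (⊥ : Ideal E)
    (p := (⊥ : Ideal D)) (q := q) (bot_lt_iff_ne_bot.mpr hq0)
  haveI := hQ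
  haveI := hQq
  obtain ⟨M, hQM, hM, hMm⟩ := Ideal.exists_ideal_gt_liesOver_of_lt Q
    (p := q) (q := maximalIdeal D) hqm
  haveI := hM
  have hMcomap : M.comap (algebraMap D E) = maximalIdeal D := hMm.over.symm
  have hMmax : M.IsMaximal :=
    Ideal.isMaximal_of_isIntegral_of_isMaximal_comap (R := D) M
      (by rw [hMcomap]; exact maximalIdeal.isMaximal D)
  have hMht : ¬ M.height ≤ 1 := by
    rw [height_le_one_iff]
    push Not
    exact ⟨Q, hQ, hQM, hQ0.ne'⟩
  haveI : IsNoetherianRing (Localization.AtPrime M) :=
    IsLocalization.isNoetherianRing M.primeCompl _ inferInstance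
  haveI : IsIntegrallyClosed (Localization.AtPrime M) :=
    isIntegrallyClosed_of_isLocalization (Localization.AtPrime M) M.primeCompl
      M.primeCompl_le_nonZeroDivisors
  have hunder : (maximalIdeal (Localization.AtPrime M)).comap
      (algebraMap E (Localization.AtPrime M)) = M :=
    IsLocalization.AtPrime.under_maximalIdeal (Localization.AtPrime M) M
  refine ⟨Localization.AtPrime M, inferInstance, inferInstance, inferInstance, inferInstance,
    inferInstance, (algebraMap E (Localization.AtPrime M)).comp (algebraMap D E), ?_, ?_⟩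
  · unfold FibClosed
    intro P hP
    rw [← Ideal.comap_comap]
    constructor
    · intro hc
      haveI : (P.comap (algebraMap E (Localization.AtPrime M))).IsPrime :=
        Ideal.comap_isPrime _ P
      have hmax'' : (P.comap (algebraMap E (Localization.AtPrime M))).IsMaximal :=
        Ideal.isMaximal_of_isIntegral_of_isMaximal_comap (R := D) _
          (by rw [hc]; exact maximalIdeal.isMaximal D)
      have hle : P.comap (algebraMap E (Localization.AtPrime M)) ≤ M :=
        (Ideal.comap_mono (IsLocalRing.le_maximalIdeal hP.ne_top)).trans hunder.le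
      have heq : P.comap (algebraMap E (Localization.AtPrime M)) = M :=
        hmax''.eq_of_le hMmax.ne_top hle
      have h1 := IsLocalization.map_under M.primeCompl (Localization.AtPrime M) P
      have h2 := IsLocalization.map_under M.primeCompl (Localization.AtPrime M)
        (maximalIdeal (Localization.AtPrime M))
      exact h1.symm.trans ((congrArg (Ideal.map (algebraMap E (Localization.AtPrime M)))
        (heq.trans hunder.symm)).trans h2)
    · rintro rfl
      rw [hunder]
      exact hMcomap
  · rw [← IsLocalization.height_under M.primeCompl (maximalIdeal (Localization.AtPrime M))]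
    change ¬ ((maximalIdeal (Localization.AtPrime M)).comap
      (algebraMap E (Localization.AtPrime M))).height ≤ 1
    rw [hunder]
    exact hMht

/-- Normalisation step: a Noetherian local domain of dimension at least two with finite
normalisation maps, with closed fibre over the closed point, to a Noetherian normal local domain
of dimension at least two. -/
theorem exists_normal_local (D : Type u) [CommRing D] [IsDomain D] [IsLocalRing D]
    [IsNoetherianRing D] (hfin : Module.Finite D (integralClosure D (FractionRing D)))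
    (h : ¬ (maximalIdeal D).height ≤ 1) :
    ∃ (C : Type u) (_ : CommRing C) (_ : IsDomain C) (_ : IsLocalRing C)
      (_ : IsNoetherianRing C) (_ : IsIntegrallyClosed C) (φ : D →+* C),
      FibClosed φ ∧ ¬ (maximalIdeal C).height ≤ 1 := by
  haveI := hfin
  haveI : IsIntegrallyClosed (integralClosure D (FractionRing D)) :=
    integralClosure.isIntegrallyClosedOfFiniteExtension (FractionRing D)
  refine exists_normal_local_aux D (integralClosure D (FractionRing D)) ?_ h
  intro a b hab
  apply IsFractionRing.injective D (FractionRing D)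
  have := congrArg (algebraMap (integralClosure D (FractionRing D)) (FractionRing D)) hab
  rwa [← IsScalarTower.algebraMap_apply, ← IsScalarTower.algebraMap_apply] at this

/-- Prime avoidance in dimension at most one: some element of the maximal ideal avoids every
other prime. -/
theorem exists_mem_forall_prime_not_mem (A : Type*) [CommRing A] [IsLocalRing A]
    [IsNoetherianRing A] (h : (maximalIdeal A).height ≤ 1) :
    ∃ f ∈ maximalIdeal A, ∀ q : Ideal A, q.IsPrime → q ≠ maximalIdeal A → f ∉ q := by
  classical
  by_contra hcon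
  push Not at hcon
  have hfin : (minimalPrimes A).Finite := minimalPrimes.finite_of_isNoetherianRing A
  let s : Finset (Ideal A) := hfin.toFinset.filter (fun p => p ≠ maximalIdeal A)
  have h1 := Ideal.height_le_iff (p := maximalIdeal A) (n := 1)
  rw [Nat.cast_one] at h1
  have hmin : ∀ q : Ideal A, q.IsPrime → q ≠ maximalIdeal A → q ∈ s := by
    intro q hq hqm
    have hlt : q < maximalIdeal A :=
      lt_of_le_of_ne (IsLocalRing.le_maximalIdeal hq.ne_top) hqm
    have h0 : q.height = 0 := ENat.lt_one_iff_eq_zero.mp (h1.mp h q hq hlt)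
    haveI := hq
    have hqmin : q ∈ minimalPrimes A := Ideal.height_eq_zero_iff.mp h0
    exact Finset.mem_filter.mpr ⟨hfin.mem_toFinset.mpr hqmin, hqm⟩
  have hsub : ((maximalIdeal A : Ideal A) : Set A) ⊆
      ⋃ i ∈ (↑s : Set (Ideal A)), ((fun i : Ideal A => i) i : Set A) := by
    intro f hf
    obtain ⟨q, hq, hqm, hfq⟩ := hcon f hf
    exact Set.mem_biUnion (Finset.mem_coe.mpr (hmin q hq hqm)) hfq
  obtain ⟨p, hps, hle⟩ := (Ideal.subset_union_prime (s := s) (f := fun i => i)
    (maximalIdeal A) (maximalIdeal A)
    (fun i hi _ _ => ((hfin.mem_toFinset.mp (Finset.mem_filter.mp hi).1)).1.1)).mp hsub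
  have hpm : p ≠ maximalIdeal A := (Finset.mem_filter.mp hps).2
  have hpprime : p.IsPrime := ((hfin.mem_toFinset.mp (Finset.mem_filter.mp hps).1)).1.1
  exact hpm ((maximalIdeal.isMaximal A).eq_of_le hpprime.ne_top hle).symm

end Groth.Agent.Lib.PuncAlgH4
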