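import Mathlib
import Groth.Prelude.Def_FEt
import Groth.Agent.Lib.PuncAlg_helper4

/-!
# The punctured spectrum of a Noetherian local ring is affine iff the dimension is at most one
(helper4).  APPEND-ONLY once landed.

Main results:
* `height_le_one_of_affine`: affine punctured spectrum implies `dim ≤ 1`.
* `affine_of_height_le_one`: the converse.
* `punctured_affine_iff`.
* `stalk_dim_le_one`, `stalk_height_ne_zero`: the scheme-level consequences.
-/

set_option autoImplicit false
set_option linter.unusedVariables false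
set_option linter.unusedTactic false
set_option linter.unreachableTactic false
set_option linter.unusedSectionVars false
set_option maxHeartbeats 800000
set_option backward.isDefEq.respectTransparency false
universe u

namespace Groth.Agent.Lib.PuncAffH4

open CategoryTheory AlgebraicGeometry TopologicalSpace IsLocalRing Groth.Agent.Lib.PuncAlgH4

/-- Preimage of the punctured spectrum under a map with closed fibre over the closed point. -/
theorem punctured_preimage {A A' : Type u} [CommRing A] [CommRing A'] [IsLocalRing A]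
    [IsLocalRing A'] (φ : A →+* A') (h : FibClosed φ) :
    (Spec.map (CommRingCat.ofHom φ)) ⁻¹ᵁ (FEt.puncturedSpec A) = FEt.puncturedSpec A' := by
  ext x
  change (Spec.map (CommRingCat.ofHom φ)) x ∈ ({closedPoint A}ᶜ : Set (PrimeSpectrum A)) ↔
    x ∈ ({closedPoint A'}ᶜ : Set (PrimeSpectrum A'))
  rw [Spec.map_apply]
  simp only [Set.mem_compl_iff, Set.mem_singleton_iff]
  refine not_congr ?_
  rw [PrimeSpectrum.ext_iff, PrimeSpectrum.ext_iff]
  exact h x.asIdeal x.isPrime

theorem affine_of_fibClosed {A A' : Type u} [CommRing A] [CommRing A'] [IsLocalRing A]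
    [IsLocalRing A'] (φ : A →+* A') (h : FibClosed φ)
    (hA : IsAffineOpen (FEt.puncturedSpec A)) : IsAffineOpen (FEt.puncturedSpec A') := by
  rw [← punctured_preimage φ h]
  exact hA.preimage _

section Core

variable (C : Type u) [CommRing C] [IsDomain C]

/-- The generic point of the spectrum of a domain. -/
noncomputable def eta : (Spec (CommRingCat.of C)) := (⟨⊥, Ideal.isPrime_bot⟩ : PrimeSpectrum C)

noncomputable instance stalkAlg :
    Algebra C ((Spec (CommRingCat.of C)).presheaf.stalk (eta C)) :=
  StructureSheaf.stalkAlgebra C (eta C)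

theorem algebraMap_eq_germ (c : C) :
    algebraMap C ((Spec (CommRingCat.of C)).presheaf.stalk (eta C)) c =
      (Spec (CommRingCat.of C)).presheaf.germ ⊤ (eta C) trivial
        ((Scheme.ΓSpecIso (CommRingCat.of C)).inv c) := rfl

theorem germ_top_eq (y : Γ(Spec (CommRingCat.of C), ⊤)) :
    (Spec (CommRingCat.of C)).presheaf.germ ⊤ (eta C) trivial y =
      algebraMap C ((Spec (CommRingCat.of C)).presheaf.stalk (eta C))
        ((Scheme.ΓSpecIso (CommRingCat.of C)).hom y) := by
  rw [algebraMap_eq_germ, Iso.hom_inv_id_apply]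

instance isFractionRing_stalk :
    IsFractionRing C ((Spec (CommRingCat.of C)).presheaf.stalk (eta C)) := by
  have h : IsLocalization.AtPrime ((Spec (CommRingCat.of C)).presheaf.stalk (eta C))
      (⊥ : Ideal C) := StructureSheaf.IsLocalization.to_stalk C (eta C)
  have hcompl : (⊥ : Ideal C).primeCompl = nonZeroDivisors C := by
    ext c
    rw [mem_nonZeroDivisors_iff_ne_zero]
    exact Iff.rfl
  unfold IsLocalization.AtPrime at h
  rw [hcompl] at h
  exact h

end Core

/-- Core: the punctured spectrum of a Noetherian normal local domain of dimension at least two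
is not affine. -/
theorem core_normal (C : Type u) [CommRing C] [IsDomain C] [IsLocalRing C] [IsNoetherianRing C]
    [IsIntegrallyClosed C] (hht : ¬ (maximalIdeal C).height ≤ 1)
    (hV : IsAffineOpen (FEt.puncturedSpec C)) : False := by
  classical
  have hMne : maximalIdeal C ≠ ⊥ := by
    intro h0
    apply hht
    rw [h0, Ideal.height_bot]
    exact zero_le
  have hηV : eta C ∈ FEt.puncturedSpec C := by
    change (eta C) ∈ ({closedPoint C}ᶜ : Set (PrimeSpectrum C))
    rw [Set.mem_compl_iff, Set.mem_singleton_iff, PrimeSpectrum.ext_iff]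
    exact fun h => hMne h.symm
  -- membership in the punctured spectrum
  have hmemV : ∀ x : Spec (CommRingCat.of C), x ∈ FEt.puncturedSpec C ↔
      x.asIdeal ≠ maximalIdeal C := by
    intro x
    change x ∈ ({closedPoint C}ᶜ : Set (PrimeSpectrum C)) ↔ _
    rw [Set.mem_compl_iff, Set.mem_singleton_iff, PrimeSpectrum.ext_iff]
    exact Iff.rfl
  -- membership in basic opens
  have hmemD : ∀ (s : C) (x : Spec (CommRingCat.of C)),
      x ∈ (Spec (CommRingCat.of C)).basicOpen ((Scheme.ΓSpecIso (CommRingCat.of C)).inv s) ↔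
        s ∉ x.asIdeal := by
    intro s x
    rw [basicOpen_eq_of_affine]
    exact Iff.rfl
  have hDV : ∀ s ∈ maximalIdeal C,
      (Spec (CommRingCat.of C)).basicOpen ((Scheme.ΓSpecIso (CommRingCat.of C)).inv s) ≤
        FEt.puncturedSpec C := by
    intro s hs x hx
    rw [hmemD] at hx
    rw [hmemV]
    intro h
    exact hx (h ▸ hs)
  -- the key extension property
  have key : ∀ b : Γ(Spec (CommRingCat.of C), FEt.puncturedSpec C),
      ∃ c : C, algebraMap C ((Spec (CommRingCat.of C)).presheaf.stalk (eta C)) c =
        (Spec (CommRingCat.of C)).presheaf.germ (FEt.puncturedSpec C) (eta C) hηV b := by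
    intro b
    apply hartogs hht
    intro s hs
    by_cases hs0 : s = 0
    · exact ⟨1, 0, by rw [hs0, map_zero, pow_one, zero_mul]⟩
    · have hηD : eta C ∈ (Spec (CommRingCat.of C)).basicOpen
          ((Scheme.ΓSpecIso (CommRingCat.of C)).inv s) := by
        rw [hmemD]
        exact hs0
      obtain ⟨n, y, hy⟩ := exists_eq_pow_mul_of_isAffineOpen (Spec (CommRingCat.of C)) ⊤
        (isAffineOpen_top _) ((Scheme.ΓSpecIso (CommRingCat.of C)).inv s)
        ((Spec (CommRingCat.of C)).presheaf.map (homOfLE (hDV s hs)).op b)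
      refine ⟨n, (Scheme.ΓSpecIso (CommRingCat.of C)).hom y, ?_⟩
      have h1 := congrArg ((Spec (CommRingCat.of C)).presheaf.germ _ (eta C) hηD) hy
      simp only [TopCat.Presheaf.restrictOpenCommRingCat_apply] at h1
      rw [map_mul, map_pow, TopCat.Presheaf.germ_res_apply, TopCat.Presheaf.germ_res_apply,
        TopCat.Presheaf.germ_res_apply] at h1
      rw [← germ_top_eq, algebraMap_eq_germ]
      exact h1.symm
  -- the restrictions of elements of the maximal ideal span the unit ideal
  let S : Set Γ(Spec (CommRingCat.of C), FEt.puncturedSpec C) :=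
    (fun s : C => (Spec (CommRingCat.of C)).presheaf.map
      (homOfLE (le_top : FEt.puncturedSpec C ≤ ⊤)).op
      ((Scheme.ΓSpecIso (CommRingCat.of C)).inv s)) '' (maximalIdeal C : Set C)
  have hspan : Ideal.span S = ⊤ := by
    rw [← hV.self_le_iSup_basicOpen_iff]
    intro x hx
    rw [hmemV] at hx
    have hlt : x.asIdeal < maximalIdeal C :=
      lt_of_le_of_ne (IsLocalRing.le_maximalIdeal x.isPrime.ne_top) hx
    obtain ⟨s, hsM, hsx⟩ := SetLike.exists_of_lt hlt
    rw [Opens.mem_iSup]
    refine ⟨⟨_, ⟨s, hsM, rfl⟩⟩, ?_⟩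
    rw [Scheme.basicOpen_res]
    exact ⟨(hmemV x).mpr hx, (hmemD s x).mpr hsx⟩
  have hall : ∀ z ∈ Ideal.span S, ∃ a ∈ maximalIdeal C,
      (Spec (CommRingCat.of C)).presheaf.germ (FEt.puncturedSpec C) (eta C) hηV z =
        algebraMap C ((Spec (CommRingCat.of C)).presheaf.stalk (eta C)) a := by
    intro z hz
    induction hz using Submodule.span_induction with
    | mem z hz =>
      obtain ⟨s, hs, rfl⟩ := hz
      refine ⟨s, hs, ?_⟩
      rw [TopCat.Presheaf.germ_res_apply, algebraMap_eq_germ]
    | zero => exact ⟨0, zero_mem _, by rw [map_zero, map_zero]⟩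
    | add z w _ _ hz hw =>
      obtain ⟨a, ha, h1⟩ := hz
      obtain ⟨a', ha', h2⟩ := hw
      exact ⟨a + a', add_mem ha ha', by rw [map_add, map_add, h1, h2]⟩
    | smul b z _ hz =>
      obtain ⟨a, ha, h1⟩ := hz
      obtain ⟨c, hc⟩ := key b
      exact ⟨c * a, Ideal.mul_mem_left _ _ ha, by rw [smul_eq_mul, map_mul, map_mul, h1, hc]⟩
  obtain ⟨a, ha, h1⟩ := hall 1 (by rw [hspan]; trivial)
  rw [map_one] at h1
  have ha1 : a = 1 := IsFractionRing.injective C
    ((Spec (CommRingCat.of C)).presheaf.stalk (eta C)) (by rw [← h1, map_one])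
  rw [ha1] at ha
  exact (Ideal.ne_top_iff_one _).mp (maximalIdeal.isMaximal C).ne_top ha

/-- Normalisation step. -/
theorem step_normal (D : Type u) [CommRing D] [IsDomain D] [IsLocalRing D] [IsNoetherianRing D]
    (hfin : Module.Finite D (integralClosure D (FractionRing D)))
    (h : ¬ (maximalIdeal D).height ≤ 1) (hV : IsAffineOpen (FEt.puncturedSpec D)) : False := by
  obtain ⟨C, i1, i2, i3, i4, i5, φ, hφ, hC⟩ := exists_normal_local D hfin h
  exact core_normal C hC (affine_of_fibClosed φ hφ hV)

/-- Complete case. -/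
theorem step_complete (A : Type u) [CommRing A] [IsLocalRing A] [IsNoetherianRing A]
    [IsAdicComplete (maximalIdeal A) A] (h : ¬ (maximalIdeal A).height ≤ 1)
    (hV : IsAffineOpen (FEt.puncturedSpec A)) : False := by
  obtain ⟨p, hp, hloc, hht⟩ := exists_prime_not_height_le_one A h
  haveI := hp
  haveI := hloc
  haveI : IsDomain (A ⧸ p) := Ideal.Quotient.isDomain p
  have hNag := Groth.Agent.Lib.CompleteNagataH3.isNagata_of_complete_local A
  have hN2 : CAlg.IsN2 (A ⧸ p) := hNag.2 p
  have hN1 := Groth.Agent.Lib.AnUnramH3.isN1_of_isN2 (A ⧸ p) hN2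
  exact step_normal (A ⧸ p) hN1 hht (affine_of_fibClosed _ (fibClosed_quotient A p) hV)

/-- **Main theorem.** If the punctured spectrum of a Noetherian local ring is affine then the
ring has dimension at most one. -/
theorem height_le_one_of_affine (A : Type u) [CommRing A] [IsLocalRing A] [IsNoetherianRing A]
    (hV : IsAffineOpen (FEt.puncturedSpec A)) : (maximalIdeal A).height ≤ 1 := by
  by_contra h
  obtain ⟨i1, i2, hc, hff, hloc, hmap⟩ := Groth.Agent.Lib.AnUnramH3.completion_facts A
  haveI := i1
  haveI := i2
  haveI := hc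
  haveI := hloc
  have hht : ¬ (maximalIdeal (AdicCompletion (maximalIdeal A) A)).height ≤ 1 := by
    intro h'
    apply h
    have e := Groth.Agent.RegularLib.ringKrullDim_adicCompletion A (maximalIdeal A)
      (Groth.Agent.Lib.AnUnramH3.maximalIdeal_ne_top A)
    rw [← maximalIdeal_height_eq_ringKrullDim, ← maximalIdeal_height_eq_ringKrullDim] at e
    have e' := WithBot.coe_injective e
    rw [← e']
    exact h'
  exact step_complete _ hht
    (affine_of_fibClosed (algebraMap A _) (fibClosed_of_map_le _ hmap.ge) hV)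

/-- The converse: in dimension at most one the punctured spectrum is a basic open. -/
theorem affine_of_height_le_one (A : Type u) [CommRing A] [IsLocalRing A] [IsNoetherianRing A]
    (h : (maximalIdeal A).height ≤ 1) : IsAffineOpen (FEt.puncturedSpec A) := by
  obtain ⟨f, hf, hq⟩ := exists_mem_forall_prime_not_mem A h
  have heq : FEt.puncturedSpec A = (Spec (CommRingCat.of A)).basicOpen
      ((Scheme.ΓSpecIso (CommRingCat.of A)).inv f) := by
    rw [basicOpen_eq_of_affine]
    ext x
    change x ∈ ({closedPoint A}ᶜ : Set (PrimeSpectrum A)) ↔ f ∉ x.asIdeal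
    rw [Set.mem_compl_iff, Set.mem_singleton_iff, PrimeSpectrum.ext_iff]
    constructor
    · intro hx
      exact hq x.asIdeal x.isPrime hx
    · intro hfx hx
      exact hfx (hx ▸ hf)
  rw [heq]
  exact (isAffineOpen_top _).basicOpen _

theorem punctured_affine_iff (A : Type u) [CommRing A] [IsLocalRing A] [IsNoetherianRing A] :
    IsAffineOpen (FEt.puncturedSpec A) ↔ ringKrullDim A ≤ 1 := by
  rw [dim_le_one_iff]
  exact ⟨height_le_one_of_affine A, affine_of_height_le_one A⟩

end Groth.Agent.Lib.PuncAffH4
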