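import Mathlib
import Groth.Prelude.Def_FEt
import Groth.Agent.Lib.PuncAff_helper4
import Groth.Agent.Lib.AffStalk3_helper3

/-!
# Complements of affine open immersions have codimension at most one (helper4)
APPEND-ONLY once landed.
-/

set_option autoImplicit false
set_option linter.unusedVariables false
set_option linter.unusedTactic false
set_option linter.unreachableTactic false
set_option linter.unusedSectionVars false
set_option maxHeartbeats 800000
set_option backward.isDefEq.respectTransparency false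
universe u

namespace Groth.Agent.Lib.PuncAffSchH4

open CategoryTheory AlgebraicGeometry TopologicalSpace IsLocalRing Groth.Agent.Lib.PuncAlgH4
  Groth.Agent.Lib.PuncAffH4

/-- If the inclusion of `U` is affine, the local ring at a maximal point of the complement has
dimension at most one. -/
theorem stalk_dim_le_one (X : Scheme.{u}) [IsLocallyNoetherian X] (U : X.Opens)
    [IsAffineHom U.ι] (ξ : X) (hξ : ξ ∉ U) (hmax : ∀ η : X, η ∉ U → η ⤳ ξ → η = ξ) :
    ringKrullDim (X.presheaf.stalk ξ) ≤ 1 := by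
  haveI : IsAffineHom ((X.fromSpecStalk ξ) ⁻¹ᵁ U).ι :=
    MorphismProperty.of_isPullback (P := @IsAffineHom)
      (isPullback_morphismRestrict (X.fromSpecStalk ξ) U) inferInstance
  have haff : IsAffineOpen ((X.fromSpecStalk ξ) ⁻¹ᵁ U) :=
    isAffine_of_isAffineHom ((X.fromSpecStalk ξ) ⁻¹ᵁ U).ι
  have heq : (X.fromSpecStalk ξ) ⁻¹ᵁ U = FEt.puncturedSpec (X.presheaf.stalk ξ) := by
    ext x
    change (X.fromSpecStalk ξ) x ∈ U ↔
      x ∈ ({closedPoint (X.presheaf.stalk ξ)}ᶜ : Set (PrimeSpectrum (X.presheaf.stalk ξ)))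
    rw [Set.mem_compl_iff, Set.mem_singleton_iff]
    constructor
    · intro h hx
      rw [hx, Scheme.fromSpecStalk_closedPoint] at h
      exact hξ h
    · intro hx
      by_contra hnU
      have hspec : (X.fromSpecStalk ξ) x ⤳ ξ := by
        have hr : (X.fromSpecStalk ξ) x ∈ Set.range (X.fromSpecStalk ξ) := ⟨x, rfl⟩
        rw [Scheme.range_fromSpecStalk] at hr
        exact hr
      have h1 := hmax _ hnU hspec
      exact hx ((X.fromSpecStalk ξ).isEmbedding.injective
        (h1.trans Scheme.fromSpecStalk_closedPoint.symm))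
  rw [dim_le_one_iff]
  apply height_le_one_of_affine
  rw [← heq]
  exact haff

/-- In a locally Noetherian scheme, a point of the closure of an open `U` not in `U` has a local
ring of positive dimension; together with `dim ≤ 1` the dimension is one. -/
theorem stalk_dim_eq_one_of_le (X : Scheme.{u}) [IsLocallyNoetherian X] (U : X.Opens) (ξ : X)
    (hξ : ξ ∉ U) (hcl : ξ ∈ closure (U : Set X))
    (hle : ringKrullDim (X.presheaf.stalk ξ) ≤ 1) :
    ringKrullDim (X.presheaf.stalk ξ) = 1 := by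
  classical
  obtain ⟨_, ⟨W, hW, rfl⟩, hξW, -⟩ :=
    X.isBasis_affineOpens.exists_subset_of_mem_open (Set.mem_univ ξ) isOpen_univ
  haveI : IsNoetherianRing Γ(X, W) := IsLocallyNoetherian.component_noetherian ⟨W, hW⟩
  have hdim := Groth.Agent.Lib.AffStalk_helper3.ringKrullDim_stalk hW ⟨ξ, hξW⟩
  obtain ⟨p, hpdef⟩ : ∃ p : Ideal Γ(X, W), p = (hW.primeIdealOf ⟨ξ, hξW⟩).asIdeal := ⟨_, rfl⟩
  have hpprime : p.IsPrime := hpdef ▸ (hW.primeIdealOf ⟨ξ, hξW⟩).isPrime
  haveI := hpprime
  rw [← hpdef] at hdim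
  have hdim' : ringKrullDim (X.presheaf.stalk ξ) = (p.height : WithBot ℕ∞) := hdim
  rw [hdim'] at hle ⊢
  have hle' : p.height ≤ 1 := by exact_mod_cast hle
  have hne : p.height ≠ 0 := by
    intro h0
    have hpmin : p ∈ minimalPrimes Γ(X, W) := Ideal.height_eq_zero_iff.mp h0
    have hfin : (minimalPrimes Γ(X, W)).Finite := minimalPrimes.finite_of_isNoetherianRing _
    have hJ : ¬ ((hfin.toFinset.erase p).inf (fun i => i)) ≤ p := by
      intro hle2
      obtain ⟨p', hp'F, hp'p⟩ := (Ideal.IsPrime.inf_le' hpprime).mp hle2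
      have hp'ne : p' ≠ p := (Finset.mem_erase.mp hp'F).1
      have hp'min : p' ∈ minimalPrimes Γ(X, W) :=
        hfin.mem_toFinset.mp (Finset.mem_erase.mp hp'F).2
      exact hp'ne (le_antisymm hp'p (hpmin.2 hp'min.1 hp'p))
    obtain ⟨g, hgJ, hgp⟩ := SetLike.not_le_iff_exists.mp hJ
    have hξD : ξ ∈ X.basicOpen g :=
      (Groth.Agent.Lib.AffStalk_helper3.mem_basicOpen_iff hW g ⟨ξ, hξW⟩).mpr (hpdef ▸ hgp)
    obtain ⟨y, hyD, hyU⟩ := mem_closure_iff.mp hcl (X.basicOpen g) (X.basicOpen g).isOpen hξD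
    have hyW : y ∈ W := X.basicOpen_le g hyD
    have hgq : g ∉ (hW.primeIdealOf ⟨y, hyW⟩).asIdeal :=
      (Groth.Agent.Lib.AffStalk_helper3.mem_basicOpen_iff hW g ⟨y, hyW⟩).mp hyD
    haveI : (hW.primeIdealOf ⟨y, hyW⟩).asIdeal.IsPrime := (hW.primeIdealOf ⟨y, hyW⟩).isPrime
    obtain ⟨p'', hp''min, hp''q⟩ := Ideal.exists_minimalPrimes_le
      (bot_le : (⊥ : Ideal Γ(X, W)) ≤ (hW.primeIdealOf ⟨y, hyW⟩).asIdeal)
    have hp''eq : p'' = p := by
      by_contra hne
      have hmem : p'' ∈ hfin.toFinset.erase p :=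
        Finset.mem_erase.mpr ⟨hne, hfin.mem_toFinset.mpr hp''min⟩
      have hle3 : (hfin.toFinset.erase p).inf (fun i => i) ≤ p'' :=
        Finset.inf_le (f := fun i : Ideal Γ(X, W) => i) hmem
      exact hgq (hp''q (hle3 hgJ))
    have hspec : ξ ⤳ y :=
      (Groth.Agent.Lib.AffStalk_helper3.specializes_iff hW ⟨y, hyW⟩ ⟨ξ, hξW⟩).mpr
        (hpdef ▸ hp''eq ▸ hp''q)
    exact hξ (hspec.mem_open U.isOpen hyU)
  have h1 : p.height = 1 := le_antisymm hle' (Order.one_le_iff_ne_zero.mpr hne)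
  rw [h1]
  rfl

end Groth.Agent.Lib.PuncAffSchH4
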