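import Mathlib
import Groth.Agent.Lib.PuncAffSch_helper4
import Groth.Agent.Lib.AffStalk3_helper3

/-!
# Opens with affine inclusion containing a fixed dense open of a Noetherian scheme (helper4)
APPEND-ONLY once landed.
-/

set_option autoImplicit false
set_option linter.unusedVariables false
set_option linter.unusedTactic false
set_option linter.unreachableTactic false
set_option linter.unusedSectionVars false
set_option maxHeartbeats 800000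
set_option backward.isDefEq.respectTransparency false
universe u

namespace Groth.Agent.Lib.AffOpensFinH4

open CategoryTheory AlgebraicGeometry TopologicalSpace Groth.Agent.Lib.AffStalk_helper3
  Groth.Agent.Lib.PuncAffSchH4

/-- Every point outside an open `U` is a specialization of a maximal point of the complement. -/
theorem exists_maximal_generization (X : Scheme.{u}) (U : X.Opens) (y : X) (hy : y ∉ U) :
    ∃ ξ : X, ξ ∉ U ∧ ξ ⤳ y ∧ ∀ η : X, η ∉ U → η ⤳ ξ → η = ξ := by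
  obtain ⟨_, ⟨W₀, hW₀, rfl⟩, hyW₀, -⟩ :=
    X.isBasis_affineOpens.exists_subset_of_mem_open (Set.mem_univ y) isOpen_univ
  obtain ⟨Z, hZ⟩ : ∃ Z : Closeds X, (Z : Set X) = (U : Set X)ᶜ :=
    ⟨⟨(U : Set X)ᶜ, U.isOpen.isClosed_compl⟩, rfl⟩
  obtain ⟨D, hD⟩ : ∃ D : X.IdealSheafData, D = Scheme.IdealSheafData.vanishingIdeal Z :=
    ⟨_, rfl⟩
  have hDsupp : (D.support : Set X) = (U : Set X)ᶜ := by
    rw [hD, Scheme.IdealSheafData.coe_support_vanishingIdeal, hZ]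
  have hsupp : ∀ y : X, y ∈ D.support ↔ y ∉ U := by
    intro y
    rw [← SetLike.mem_coe, hDsupp]
    exact Iff.rfl
  have hIp : D.ideal ⟨W₀, hW₀⟩ ≤ (hW₀.primeIdealOf ⟨y, hyW₀⟩).asIdeal :=
    (mem_support_iff hW₀ D ⟨y, hyW₀⟩).mp ((hsupp y).mpr hy)
  haveI := (hW₀.primeIdealOf ⟨y, hyW₀⟩).isPrime
  obtain ⟨P, hPmin, hPp⟩ := Ideal.exists_minimalPrimes_le hIp
  have hPprime : P.IsPrime := hPmin.1.1
  obtain ⟨ξ, hξ⟩ : ∃ ξ : X, ξ = hW₀.fromSpec ⟨P, hPprime⟩ := ⟨_, rfl⟩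
  have hξW : ξ ∈ W₀ := hξ ▸ fromSpec_mem hW₀ _
  have hpξ : hW₀.primeIdealOf ⟨ξ, hξW⟩ = ⟨P, hPprime⟩ := by
    subst hξ
    exact primeIdealOf_fromSpec hW₀ _
  have hξZ : ξ ∉ U := (hsupp ξ).mp ((mem_support_iff hW₀ D ⟨ξ, hξW⟩).mpr
    (by rw [hpξ]; exact hPmin.1.2))
  refine ⟨ξ, hξZ, ?_, ?_⟩
  · exact (specializes_iff hW₀ ⟨y, hyW₀⟩ ⟨ξ, hξW⟩).mpr (by rw [hpξ]; exact hPp)
  · intro η hηU hηξ
    have hηW : η ∈ W₀ := hηξ.mem_open W₀.isOpen hξW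
    have h1 : (hW₀.primeIdealOf ⟨η, hηW⟩).asIdeal ≤ P := by
      have h := (specializes_iff hW₀ ⟨ξ, hξW⟩ ⟨η, hηW⟩).mp hηξ
      rw [hpξ] at h
      exact h
    have h2 : D.ideal ⟨W₀, hW₀⟩ ≤ (hW₀.primeIdealOf ⟨η, hηW⟩).asIdeal :=
      (mem_support_iff hW₀ D ⟨η, hηW⟩).mp ((hsupp η).mpr hηU)
    have h3 : P ≤ (hW₀.primeIdealOf ⟨η, hηW⟩).asIdeal :=
      hPmin.2 ⟨(hW₀.primeIdealOf ⟨η, hηW⟩).isPrime, h2⟩ h1
    have h4 : hW₀.primeIdealOf ⟨η, hηW⟩ = hW₀.primeIdealOf ⟨ξ, hξW⟩ := by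
      rw [hpξ]
      exact PrimeSpectrum.ext (le_antisymm h1 h3)
    exact congrArg Subtype.val (primeIdealOf_injective hW₀ h4)

/-- A strict generization of a point with one-dimensional local ring has a zero-dimensional
local ring. -/
theorem stalk_dim_zero_of_generization (X : Scheme.{u}) (ξ η : X) (h : η ⤳ ξ) (hne : η ≠ ξ)
    (hdim : ringKrullDim (X.presheaf.stalk ξ) = 1) : ringKrullDim (X.presheaf.stalk η) = 0 := by
  obtain ⟨_, ⟨W₀, hW₀, rfl⟩, hξW, -⟩ :=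
    X.isBasis_affineOpens.exists_subset_of_mem_open (Set.mem_univ ξ) isOpen_univ
  have hηW : η ∈ W₀ := h.mem_open W₀.isOpen hξW
  have hle : (hW₀.primeIdealOf ⟨η, hηW⟩).asIdeal ≤ (hW₀.primeIdealOf ⟨ξ, hξW⟩).asIdeal :=
    (specializes_iff hW₀ ⟨ξ, hξW⟩ ⟨η, hηW⟩).mp h
  have hlt : (hW₀.primeIdealOf ⟨η, hηW⟩).asIdeal < (hW₀.primeIdealOf ⟨ξ, hξW⟩).asIdeal := by
    refine lt_of_le_of_ne hle ?_
    intro e
    apply hne
    have h4 : hW₀.primeIdealOf ⟨η, hηW⟩ = hW₀.primeIdealOf ⟨ξ, hξW⟩ := PrimeSpectrum.ext e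
    exact congrArg Subtype.val (primeIdealOf_injective hW₀ h4)
  have hdξ := ringKrullDim_stalk hW₀ ⟨ξ, hξW⟩
  have hdη := ringKrullDim_stalk hW₀ ⟨η, hηW⟩
  have hdξ' : ringKrullDim (X.presheaf.stalk ξ) =
      ((hW₀.primeIdealOf ⟨ξ, hξW⟩).asIdeal.height : WithBot ℕ∞) := hdξ
  have hdη' : ringKrullDim (X.presheaf.stalk η) =
      ((hW₀.primeIdealOf ⟨η, hηW⟩).asIdeal.height : WithBot ℕ∞) := hdη
  rw [hdim] at hdξ'
  have hht : (hW₀.primeIdealOf ⟨ξ, hξW⟩).asIdeal.height ≤ 1 := by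
    have : ((hW₀.primeIdealOf ⟨ξ, hξW⟩).asIdeal.height : WithBot ℕ∞) ≤ 1 := hdξ'.ge
    exact_mod_cast this
  haveI := (hW₀.primeIdealOf ⟨ξ, hξW⟩).isPrime
  have h1 := Ideal.height_le_iff (p := (hW₀.primeIdealOf ⟨ξ, hξW⟩).asIdeal) (n := 1)
  rw [Nat.cast_one] at h1
  have h0 : (hW₀.primeIdealOf ⟨η, hηW⟩).asIdeal.height = 0 :=
    ENat.lt_one_iff_eq_zero.mp (h1.mp hht _ (hW₀.primeIdealOf ⟨η, hηW⟩).isPrime hlt)
  rw [hdη', h0]
  rfl

theorem finite_maximal_points (X : Scheme.{u}) [IsNoetherian X] (U : X.Opens) :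
    {ξ : X | ξ ∉ U ∧ ∀ η : X, η ∉ U → η ⤳ ξ → η = ξ}.Finite := by
  obtain ⟨F, hFfin, hFcl, hFirr, hFU⟩ :=
    NoetherianSpace.exists_finite_set_isClosed_irreducible (U.isOpen.isClosed_compl)
  refine (hFfin.biUnion (t := fun t => {ξ : X | IsGenericPoint ξ t}) (fun t _ => ?_)).subset ?_
  · apply Set.Subsingleton.finite
    intro a ha b hb
    exact IsGenericPoint.eq ha hb
  · rintro ξ ⟨hξU, hmax⟩
    have hξZ : ξ ∈ (U : Set X)ᶜ := hξU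
    rw [hFU] at hξZ
    obtain ⟨t, htF, hξt⟩ := hξZ
    obtain ⟨γ, hγ⟩ := QuasiSober.sober (hFirr t htF) (hFcl t htF)
    have hγt : γ ∈ t := hγ.mem
    have hγU : γ ∉ U := by
      have h : γ ∈ (U : Set X)ᶜ := by
        rw [hFU]
        exact ⟨t, htF, hγt⟩
      exact h
    have hγξ : γ ⤳ ξ := hγ.specializes hξt
    have heq := hmax γ hγU hγξ
    exact Set.mem_biUnion htF (heq ▸ hγ)

theorem maximal_point_mem (S : Scheme.{u}) [IsNoetherian S] (U : S.Opens)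
    (hU : Dense (U : Set S)) (V : S.Opens) (hUV : U ≤ V) [IsAffineHom V.ι]
    (ξ : S) (hξV : ξ ∉ V) (hmaxV : ∀ η : S, η ∉ V → η ⤳ ξ → η = ξ) :
    ξ ∉ U ∧ ∀ η : S, η ∉ U → η ⤳ ξ → η = ξ := by
  have hVdense : Dense (V : Set S) := hU.mono hUV
  have hdim1 := stalk_dim_eq_one_of_le S V ξ hξV (hVdense ξ)
    (stalk_dim_le_one S V ξ hξV hmaxV)
  refine ⟨fun h => hξV (hUV h), ?_⟩
  intro η hηU hηξ
  by_contra hne
  have h0 := stalk_dim_zero_of_generization S ξ η hηξ hne hdim1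
  have h1 := stalk_dim_eq_one_of_le S U η hηU (hU η) (by rw [h0]; exact zero_le_one)
  rw [h0] at h1
  exact zero_ne_one h1

theorem finite_and_least (S : Scheme.{u}) [IsNoetherian S] (U : S.Opens)
    (hU : Dense (U : Set S)) :
    Set.Finite {V : S.Opens | U ≤ V ∧ IsAffineHom V.ι} ∧
      ∃ V₀ : S.Opens, (U ≤ V₀ ∧ IsAffineHom V₀.ι) ∧
        ∀ V : S.Opens, U ≤ V → IsAffineHom V.ι → V₀ ≤ V := by
  classical
  have hM := finite_maximal_points S U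
  have hfin : {V : S.Opens | U ≤ V ∧ IsAffineHom V.ι}.Finite := by
    apply Set.Finite.of_finite_image
      (f := fun V : S.Opens =>
        {ξ : S | (ξ ∉ U ∧ ∀ η : S, η ∉ U → η ⤳ ξ → η = ξ) ∧ ξ ∉ V})
    · refine hM.finite_subsets.subset ?_
      rintro _ ⟨V, -, rfl⟩
      exact fun ξ hξ => hξ.1
    · have key : ∀ (V₁ V₂ : S.Opens), U ≤ V₁ → IsAffineHom V₁.ι →
          {ξ : S | (ξ ∉ U ∧ ∀ η : S, η ∉ U → η ⤳ ξ → η = ξ) ∧ ξ ∉ V₁} =
            {ξ : S | (ξ ∉ U ∧ ∀ η : S, η ∉ U → η ⤳ ξ → η = ξ) ∧ ξ ∉ V₂} → V₂ ≤ V₁ := by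
        intro V₁ V₂ h1 h1a he y hy2
        by_contra hy1
        obtain ⟨ξ, hξ1, hξy, hξmax⟩ := exists_maximal_generization S V₁ y hy1
        haveI := h1a
        have hξM := maximal_point_mem S U hU V₁ h1 ξ hξ1 hξmax
        have hmem : ξ ∈ {ξ : S | (ξ ∉ U ∧ ∀ η : S, η ∉ U → η ⤳ ξ → η = ξ) ∧ ξ ∉ V₁} :=
          ⟨hξM, hξ1⟩
        rw [he] at hmem
        exact hmem.2 (hξy.mem_open V₂.isOpen hy2)
      rintro V ⟨hUV, hV⟩ V' ⟨hUV', hV'⟩ heq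
      exact le_antisymm (key V' V hUV' hV' heq.symm) (key V V' hUV hV heq)
  refine ⟨hfin, hfin.toFinset.inf id, ?_, ?_⟩
  · refine Finset.inf_induction (p := fun V : S.Opens => U ≤ V ∧ IsAffineHom V.ι)
      ⟨le_top, ?_⟩ ?_ ?_
    · haveI : IsIso (⊤ : S.Opens).ι := (inferInstance : IsIso S.topIso.hom)
      infer_instance
    · rintro V₁ ⟨h1, h1a⟩ V₂ ⟨h2, h2a⟩
      refine ⟨le_inf h1 h2, ?_⟩
      haveI := h1a
      haveI := h2a
      haveI : IsAffineHom (S.homOfLE (inf_le_right : V₁ ⊓ V₂ ≤ V₂)) :=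
        MorphismProperty.of_isPullback (P := @IsAffineHom) (isPullback_opens_inf V₁ V₂) h1a
      rw [← S.homOfLE_ι (inf_le_right : V₁ ⊓ V₂ ≤ V₂)]
      infer_instance
    · intro V hV
      exact hfin.mem_toFinset.mp hV
  · intro V hUV hV
    exact Finset.inf_le (f := id) (hfin.mem_toFinset.mpr ⟨hUV, hV⟩)

end Groth.Agent.Lib.AffOpensFinH4
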