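import Mathlib

/-!
# An affineness criterion for complements (helper6)

`isAffineOpen_of_clopen`: inside an affine open `Z`, if `V ≤ U ≤ Z` are opens with `V` affine and
`U \ V` relatively closed in `Z`, then `U` is affine.
-/

set_option autoImplicit false
set_option linter.all false
set_option backward.isDefEq.respectTransparency false
universe u
open TopologicalSpace CategoryTheory CategoryTheory.Limits AlgebraicGeometry

namespace Groth.Agent.Lib.AffQF1_helper6

theorem exists_separating_section {X : Scheme.{u}} (Z U V : X.Opens) (hZ : IsAffineOpen Z)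
    (hUZ : U ≤ Z) (hVU : V ≤ U)
    (hcl : IsOpen (((Z : Set X) \ U) ∪ V)) :
    ∃ e : Γ(X, Z), X.basicOpen e ≤ U ∧ U ⊓ X.basicOpen (1 - e) ≤ V := by
  let φ := hZ.fromSpec
  let F₁ : Set (PrimeSpectrum Γ(X, Z)) := φ ⁻¹' (U : Set X)ᶜ
  let F₂ : Set (PrimeSpectrum Γ(X, Z)) := φ ⁻¹' (((Z : Set X) \ U) ∪ V)ᶜ
  have hF₁ : IsClosed F₁ := (U.isOpen.isClosed_compl).preimage φ.continuous
  have hF₂ : IsClosed F₂ := (hcl.isClosed_compl).preimage φ.continuous
  have hφZ : ∀ x : PrimeSpectrum Γ(X, Z), φ x ∈ (Z : Set X) := by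
    intro x
    have : φ x ∈ Set.range φ := ⟨x, rfl⟩
    rwa [hZ.range_fromSpec] at this
  have hdisj : F₁ ∩ F₂ = ∅ := by
    ext x
    simp only [Set.mem_inter_iff, Set.mem_empty_iff_false, iff_false, not_and]
    intro h₁ h₂
    apply h₂
    exact Or.inl ⟨hφZ x, h₁⟩
  have h₁ : PrimeSpectrum.zeroLocus (PrimeSpectrum.vanishingIdeal F₁ : Set Γ(X, Z)) = F₁ := by
    rw [PrimeSpectrum.zeroLocus_vanishingIdeal_eq_closure, hF₁.closure_eq]
  have h₂ : PrimeSpectrum.zeroLocus (PrimeSpectrum.vanishingIdeal F₂ : Set Γ(X, Z)) = F₂ := by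
    rw [PrimeSpectrum.zeroLocus_vanishingIdeal_eq_closure, hF₂.closure_eq]
  have htop : PrimeSpectrum.vanishingIdeal F₁ ⊔ PrimeSpectrum.vanishingIdeal F₂ = ⊤ := by
    rw [← PrimeSpectrum.zeroLocus_empty_iff_eq_top, PrimeSpectrum.zeroLocus_sup, h₁, h₂, hdisj]
  obtain ⟨e, he, e', he', hee'⟩ := Submodule.mem_sup.mp ((Ideal.eq_top_iff_one _).mp htop)
  have he'' : e' = 1 - e := by rw [← hee']; ring
  have hpre : ∀ (f : Γ(X, Z)) (x : PrimeSpectrum Γ(X, Z)), φ x ∈ X.basicOpen f ↔ f ∉ x.asIdeal := by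
    intro f x
    have := hZ.fromSpec_preimage_basicOpen f
    have h2 : x ∈ (hZ.fromSpec ⁻¹ᵁ X.basicOpen f) ↔ x ∈ PrimeSpectrum.basicOpen f := by
      rw [this]
    exact h2
  refine ⟨e, ?_, ?_⟩
  · intro x hx
    have hxZ : x ∈ (Z : Set X) := X.basicOpen_le e hx
    rw [← hZ.range_fromSpec] at hxZ
    obtain ⟨x', rfl⟩ := hxZ
    have hx' : e ∉ x'.asIdeal := (hpre e x').mp hx
    by_contra hU
    have : x' ∈ F₁ := hU
    rw [← h₁] at this
    exact hx' (this he)
  · rintro x ⟨hxU, hx⟩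
    have hxZ : x ∈ (Z : Set X) := hUZ hxU
    rw [← hZ.range_fromSpec] at hxZ
    obtain ⟨x', rfl⟩ := hxZ
    have hx' : (1 - e) ∉ x'.asIdeal := (hpre (1 - e) x').mp hx
    by_contra hV
    have : x' ∈ F₂ := by
      show φ x' ∈ (((Z : Set X) \ U) ∪ V)ᶜ
      rintro (h | h)
      · exact h.2 hxU
      · exact hV h
    rw [← h₂] at this
    exact hx' (he'' ▸ this he')

theorem isAffineOpen_of_clopen {X : Scheme.{u}} (Z U V : X.Opens) (hZ : IsAffineOpen Z)
    (hUZ : U ≤ Z) (hVU : V ≤ U) (hV : IsAffineOpen V)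
    (hcl : IsOpen (((Z : Set X) \ U) ∪ V)) : IsAffineOpen U := by
  obtain ⟨e, he₁, he₂⟩ := exists_separating_section Z U V hZ hUZ hVU hcl
  let f₁ : Γ(X, U) := X.presheaf.map (homOfLE hUZ).op e
  refine isAffineOpen_of_isAffineOpen_basicOpen U {f₁, 1 - f₁} ?_ ?_
  · rw [Ideal.eq_top_iff_one]
    have : (1 : Γ(X, U)) = f₁ + (1 - f₁) := by ring
    rw [this]
    exact Ideal.add_mem _ (Ideal.subset_span (by simp)) (Ideal.subset_span (by simp))
  · intro i hi
    rcases hi with rfl | hi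
    · have : X.basicOpen f₁ = X.basicOpen e := by
        rw [Scheme.basicOpen_res]
        exact inf_eq_right.mpr he₁
      rw [this]
      exact hZ.basicOpen e
    · rw [Set.mem_singleton_iff] at hi
      subst hi
      have h1 : (1 - f₁ : Γ(X, U)) = X.presheaf.map (homOfLE hUZ).op (1 - e) := by
        rw [map_sub, map_one]
      have : X.basicOpen (1 - f₁) =
          X.basicOpen (X.presheaf.map (homOfLE (hVU.trans hUZ)).op (1 - e)) := by
        rw [h1, Scheme.basicOpen_res, Scheme.basicOpen_res]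
        apply le_antisymm
        · exact le_inf he₂ inf_le_right
        · exact le_inf (inf_le_left.trans hVU) inf_le_right
      rw [this]
      exact hV.basicOpen _

end Groth.Agent.Lib.AffQF1_helper6
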