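import Mathlib

/-!
# Topological lemmas for the affineness criterion over a one-dimensional base (helper6)
-/

set_option autoImplicit false
set_option linter.all false
set_option backward.isDefEq.respectTransparency false
universe u
open TopologicalSpace Topology

namespace Groth.Agent.Lib.AffQF2_helper6

/-- in a Noetherian quasi-sober space every point is a specialization of a point of any given
dense open -/
theorem exists_generic_mem_of_dense {T : Type*} [TopologicalSpace T] [NoetherianSpace T]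
    [QuasiSober T] (G : Set T) (hG : IsOpen G) (hd : Dense G) (ξ : T) : ∃ ζ ∈ G, ζ ⤳ ξ := by
  have hZ := irreducibleComponent_mem_irreducibleComponents ξ
  have hirr : IsIrreducible (irreducibleComponent ξ) := hZ.1
  have hcl : IsClosed (irreducibleComponent ξ) := isClosed_of_mem_irreducibleComponents _ hZ
  obtain ⟨ζ, hζ⟩ := QuasiSober.sober hirr hcl
  have hfin := NoetherianSpace.finite_irreducibleComponents (α := T)
  have hclo := closure_sUnion_irreducibleComponents_sdiff_singleton hfin _ hZ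
  set O : Set T := (⋃₀ (irreducibleComponents T \ {irreducibleComponent ξ}))ᶜ with hO
  have hOo : IsOpen O := by
    rw [hO, Set.sUnion_eq_biUnion, isOpen_compl_iff]
    exact hfin.sdiff.isClosed_biUnion fun W hW ↦ isClosed_of_mem_irreducibleComponents W hW.1
  have hOne : O.Nonempty := by
    by_contra h
    rw [Set.not_nonempty_iff_eq_empty] at h
    rw [h, closure_empty] at hclo
    exact hirr.1.ne_empty hclo.symm
  obtain ⟨w, hwO, hwG⟩ := hd.inter_open_nonempty O hOo hOne
  have hwZ : w ∈ irreducibleComponent ξ := by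
    rw [← hclo]; exact subset_closure hwO
  have h1 : ζ ⤳ w := hζ.specializes hwZ
  exact ⟨ζ, h1.mem_open hG hwG, hζ.specializes mem_irreducibleComponent⟩

theorem exists_generization_ne {T S : Type*} [TopologicalSpace T] [TopologicalSpace S]
    [NoetherianSpace T] [QuasiSober T]
    (q : T → S) (hq : Continuous q) (G : Set T) (hG : IsOpen G) (hd : Dense G)
    (Hcl : ∀ τ : T, τ ∈ closure (G ∩ q ⁻¹' {q τ}) → τ ∈ G) (ξ : T) (hξ : ξ ∉ G) :
    ∃ t : S, t ⤳ q ξ ∧ t ≠ q ξ := by
  obtain ⟨ζ, hζG, hζξ⟩ := exists_generic_mem_of_dense G hG hd ξ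
  refine ⟨q ζ, hζξ.map hq, ?_⟩
  intro h
  apply hξ
  apply Hcl
  have : ζ ∈ G ∩ q ⁻¹' {q ξ} := ⟨hζG, h⟩
  exact (specializes_iff_mem_closure.mp hζξ) |> fun h' =>
    closure_mono (Set.singleton_subset_iff.mpr this) h'

theorem eq_of_specializes_of_dim_le_one {S : Type*} [TopologicalSpace S] [T0Space S]
    (h : topologicalKrullDim S ≤ 1) {t s r : S} (h₁ : t ⤳ s) (h₂ : s ⤳ r) (hne : t ≠ s) :
    r = s := by
  rw [topologicalKrullDim, Order.krullDim_le_one_iff] at h
  let cl : S → IrreducibleCloseds S := fun x =>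
    ⟨closure {x}, isIrreducible_singleton.closure, isClosed_closure⟩
  have hle : ∀ {a b : S}, a ⤳ b → cl b ≤ cl a := by
    intro a b hab
    show closure {b} ⊆ closure {a}
    exact specializes_iff_closure_subset.mp hab
  have heq : ∀ {a b : S}, cl a ≤ cl b → b ⤳ a := by
    intro a b hab
    exact specializes_iff_closure_subset.mpr hab
  rcases h (cl s) with hmin | hmax
  · have : cl s ≤ cl r := hmin (hle h₂)
    have h3 : r ⤳ s := heq this
    exact (h3.antisymm h₂).eq
  · have : cl t ≤ cl s := hmax (hle h₁)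
    have h3 : s ⤳ t := heq this
    exact absurd (h₁.antisymm h3).eq hne

theorem finite_image_of_closed_points {T S : Type*} [TopologicalSpace T] [TopologicalSpace S]
    [NoetherianSpace T] [QuasiSober T]
    (q : T → S) (hq : Continuous q) (F : Set T) (hF : IsClosed F)
    (hcl : ∀ ξ ∈ F, ∀ τ : T, q ξ ⤳ q τ → q τ = q ξ) : (q '' F).Finite := by
  rcases isEmpty_or_nonempty T with hT | hT
  · have : F = ∅ := Set.eq_empty_of_isEmpty _
    rw [this, Set.image_empty]
    exact Set.finite_empty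
  obtain ⟨𝒮, hfin, hclosed, hirr, rfl⟩ := NoetherianSpace.exists_finite_set_isClosed_irreducible hF
  have hgen : ∀ Z ∈ 𝒮, ∃ ξ, IsGenericPoint ξ Z := fun Z hZ =>
    QuasiSober.sober (hirr Z hZ) (hclosed Z hZ)
  choose! gen hgen using hgen
  apply (hfin.image (fun Z => q (gen Z))).subset
  rintro _ ⟨τ, ⟨Z, hZ, hτZ⟩, rfl⟩
  refine ⟨Z, hZ, ?_⟩
  have h1 : gen Z ⤳ τ := (hgen Z hZ).specializes hτZ
  have h2 : gen Z ∈ ⋃₀ 𝒮 := ⟨Z, hZ, (hgen Z hZ).mem⟩
  exact (hcl (gen Z) h2 τ (h1.map hq)).symm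

/-- avoid finitely many points none of which specializes to `s₀` -/
theorem exists_open_avoiding {S : Type*} [TopologicalSpace S] (Sg : Set S) (hSg : Sg.Finite) (s₀ : S)
    (h : ∀ σ ∈ Sg, σ ⤳ s₀ → σ = s₀) :
    ∃ O : Set S, IsOpen O ∧ s₀ ∈ O ∧ ∀ σ ∈ Sg, σ ∈ O → σ = s₀ := by
  have : ∀ σ ∈ Sg, ∃ O : Set S, IsOpen O ∧ s₀ ∈ O ∧ (σ ∈ O → σ = s₀) := by
    intro σ hσ
    by_cases hs : σ ⤳ s₀
    · exact ⟨Set.univ, isOpen_univ, trivial, fun _ => h σ hσ hs⟩
    · obtain ⟨O, hO, h1, h2⟩ := not_specializes_iff_exists_open.mp hs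
      exact ⟨O, hO, h1, fun h3 => absurd h3 h2⟩
  choose! O hO using this
  refine ⟨⋂ σ ∈ Sg, O σ, hSg.isOpen_biInter fun σ hσ => (hO σ hσ).1, ?_, ?_⟩
  · simp only [Set.mem_iInter]
    exact fun σ hσ => (hO σ hσ).2.1
  · intro σ hσ hσO
    simp only [Set.mem_iInter] at hσO
    exact (hO σ hσ).2.2 (hσO σ hσ)

end Groth.Agent.Lib.AffQF2_helper6
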