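import Mathlib
import Groth.Agent.Lib.AffQF2_helper6

/-!
# Isolating a closed point of a one-dimensional Noetherian affine open by one equation (helper6)
-/

set_option autoImplicit false
set_option linter.all false
set_option backward.isDefEq.respectTransparency false
universe u
open TopologicalSpace Topology CategoryTheory AlgebraicGeometry

namespace Groth.Agent.Lib.AffQF3_helper6

open Groth.Agent.Lib.AffQF2_helper6

theorem exists_param {A : Type*} [CommRing A] [IsNoetherianRing A]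
    (hdim : ∀ p₀ p₁ p₂ : PrimeSpectrum A, p₀ < p₁ → p₁ ≤ p₂ → p₂ = p₁)
    (m p₀ : PrimeSpectrum A) (hlt : p₀ < m) :
    ∃ t ∈ m.asIdeal, (PrimeSpectrum.zeroLocus ({t} : Set A)).Finite ∧
      ∀ p ∈ PrimeSpectrum.zeroLocus ({t} : Set A), ∀ p' : PrimeSpectrum A, p ≤ p' → p' = p := by
  classical
  have hfin : (minimalPrimes A).Finite := minimalPrimes.finite_of_isNoetherianRing A
  obtain ⟨t, htm, ht⟩ : ∃ t ∈ m.asIdeal, ∀ P ∈ minimalPrimes A, t ∉ P := by
    by_contra hcon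
    push Not at hcon
    have hsub : (m.asIdeal : Set A) ⊆ ⋃ P ∈ (hfin.toFinset : Set (Ideal A)), (id P : Ideal A) := by
      intro x hx
      obtain ⟨P, hP, hxP⟩ := hcon x hx
      simp only [Set.mem_iUnion]
      exact ⟨P, by simpa using hP, hxP⟩
    obtain ⟨P, hP, hmP⟩ := (Ideal.subset_union_prime (R := A) (s := hfin.toFinset) (f := id)
      (⊥ : Ideal A) (⊥ : Ideal A) (fun i hi _ _ => by
        have : i ∈ minimalPrimes A := by simpa using hi
        exact this.1.1)).mp hsub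
    have hP' : P ∈ minimalPrimes A := by simpa using hP
    have h1 : P ≤ p₀.asIdeal := hP'.2 ⟨p₀.isPrime, bot_le⟩ ((show p₀.asIdeal ≤ m.asIdeal from hlt.le).trans hmP)
    have : m ≤ p₀ := (show m.asIdeal ≤ p₀.asIdeal from hmP.trans h1)
    exact absurd (lt_of_lt_of_le hlt this) (lt_irrefl _)
  have hmax : ∀ p ∈ PrimeSpectrum.zeroLocus ({t} : Set A), ∀ p' : PrimeSpectrum A,
      p ≤ p' → p' = p := by
    intro p hp p' hpp'
    obtain ⟨P, hP, hPp⟩ := Ideal.exists_minimalPrimes_le (I := (⊥ : Ideal A)) (J := p.asIdeal) bot_le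
    have hPprime : P.IsPrime := hP.1.1
    have htp : t ∈ p.asIdeal := hp (Set.mem_singleton t)
    have hlt' : (⟨P, hPprime⟩ : PrimeSpectrum A) < p := by
      refine lt_of_le_of_ne hPp ?_
      intro h
      apply ht P hP
      have : P = p.asIdeal := congrArg PrimeSpectrum.asIdeal h
      rw [this]; exact htp
    exact hdim _ _ _ hlt' hpp'
  refine ⟨t, htm, ?_, hmax⟩
  have hfin2 := Ideal.finite_minimalPrimes_of_isNoetherianRing A (Ideal.span {t})
  refine (hfin2.preimage (f := PrimeSpectrum.asIdeal) ?_).subset ?_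
  · intro a _ b _ hab
    exact PrimeSpectrum.ext hab
  · intro p hp
    have htp : t ∈ p.asIdeal := hp (Set.mem_singleton t)
    have hle : Ideal.span {t} ≤ p.asIdeal := (Ideal.span_singleton_le_iff_mem _).mpr htp
    obtain ⟨Q, hQ, hQp⟩ := Ideal.exists_minimalPrimes_le hle
    have hQprime : Q.IsPrime := hQ.1.1
    have htQ : t ∈ Q := hQ.1.2 (Ideal.subset_span (Set.mem_singleton t))
    have hQz : (⟨Q, hQprime⟩ : PrimeSpectrum A) ∈ PrimeSpectrum.zeroLocus ({t} : Set A) := by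
      intro x hx
      rw [Set.mem_singleton_iff] at hx
      subst hx
      exact htQ
    have := hmax ⟨Q, hQprime⟩ hQz p hQp
    show p.asIdeal ∈ (Ideal.span {t}).minimalPrimes
    rw [this]
    exact hQ

theorem exists_basicOpen_isolating {S : Scheme.{u}} [IsLocallyNoetherian S]
    (hdim : topologicalKrullDim S ≤ 1)
    (V : S.Opens) (hV : IsAffineOpen V) (s₀ : S) (hs₀ : s₀ ∈ V)
    (t₀ : S) (ht₀ : t₀ ⤳ s₀) (hne : t₀ ≠ s₀) :
    ∃ t a : Γ(S, V), s₀ ∈ S.basicOpen a ∧ s₀ ∉ S.basicOpen t ∧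
      ∀ r ∈ S.basicOpen a, r ∉ S.basicOpen t → r = s₀ := by
  haveI : IsNoetherianRing Γ(S, V) := IsLocallyNoetherian.component_noetherian ⟨V, hV⟩
  let φ := hV.fromSpec
  have hemb : IsOpenEmbedding φ := φ.isOpenEmbedding
  have hrange : ∀ r : S, r ∈ V → ∃ p : PrimeSpectrum Γ(S, V), φ p = r := by
    intro r hr
    have : r ∈ Set.range φ := by rw [hV.range_fromSpec]; exact hr
    exact this
  have hspec : ∀ p p' : PrimeSpectrum Γ(S, V), p ≤ p' ↔ φ p ⤳ φ p' := by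
    intro p p'
    rw [PrimeSpectrum.le_iff_specializes]
    exact (hemb.isInducing.specializes_iff).symm
  have hpre : ∀ (f : Γ(S, V)) (x : PrimeSpectrum Γ(S, V)), φ x ∈ S.basicOpen f ↔ f ∉ x.asIdeal := by
    intro f x
    have := hV.fromSpec_preimage_basicOpen f
    have h2 : x ∈ (hV.fromSpec ⁻¹ᵁ S.basicOpen f) ↔ x ∈ PrimeSpectrum.basicOpen f := by
      rw [this]
    exact h2
  have hdimA : ∀ p₀ p₁ p₂ : PrimeSpectrum Γ(S, V), p₀ < p₁ → p₁ ≤ p₂ → p₂ = p₁ := by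
    intro p₀ p₁ p₂ h01 h12
    have h1 : φ p₀ ⤳ φ p₁ := (hspec _ _).mp h01.le
    have h2 : φ p₁ ⤳ φ p₂ := (hspec _ _).mp h12
    have hne' : φ p₀ ≠ φ p₁ := fun h => h01.ne (hemb.injective h)
    exact hemb.injective (eq_of_specializes_of_dim_le_one hdim h1 h2 hne')
  obtain ⟨m, hm⟩ := hrange s₀ hs₀
  have ht₀V : t₀ ∈ V := ht₀.mem_open V.isOpen hs₀
  obtain ⟨p₀, hp₀⟩ := hrange t₀ ht₀V
  have hlt : p₀ < m := by
    refine lt_of_le_of_ne ?_ ?_
    · rw [hspec, hp₀, hm]; exact ht₀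
    · intro h; apply hne; rw [← hp₀, ← hm, h]
  obtain ⟨t, htm, hfin, hmax⟩ := exists_param hdimA m p₀ hlt
  obtain ⟨O, hO, hs₀O, hOavoid⟩ := exists_open_avoiding (φ '' PrimeSpectrum.zeroLocus ({t} : Set _))
    (hfin.image _) s₀ (by
      rintro _ ⟨(p : PrimeSpectrum Γ(S, V)), hp, rfl⟩ hsp
      rw [← hm] at hsp ⊢
      have : p ≤ m := (hspec _ _).mpr hsp
      rw [hmax p hp m this])
  obtain ⟨a, ha, hs₀a⟩ := hV.exists_basicOpen_le (V := V ⊓ ⟨O, hO⟩) ⟨s₀, ⟨hs₀, hs₀O⟩⟩ hs₀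
  refine ⟨t, a, hs₀a, ?_, ?_⟩
  · rw [← hm, hpre]
    exact fun h => h htm
  · intro r hra hrt
    have hrV : r ∈ V := (ha hra).1
    have hrO : r ∈ O := (ha hra).2
    obtain ⟨p, rfl⟩ := hrange r hrV
    rw [hpre, not_not] at hrt
    apply hOavoid _ ⟨p, ?_, rfl⟩ hrO
    intro x hx
    rw [Set.mem_singleton_iff] at hx
    subst hx
    exact hrt

end Groth.Agent.Lib.AffQF3_helper6
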