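import Mathlib
import Groth.Agent.Lib.AffQF1_helper6
import Groth.Agent.Lib.AffQF3_helper6

/-!
# Affineness of a dense open of an affine Noetherian scheme over a one-dimensional base,
whose trace on every fibre is closed (helper6)
-/

set_option autoImplicit false
set_option linter.all false
set_option backward.isDefEq.respectTransparency false
universe u
open TopologicalSpace Topology CategoryTheory AlgebraicGeometry

namespace Groth.Agent.Lib.AffQF4_helper6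

open Groth.Agent.Lib.AffQF1_helper6 Groth.Agent.Lib.AffQF2_helper6 Groth.Agent.Lib.AffQF3_helper6

theorem isAffineOpen_preimage_basicOpen {S T : Scheme.{u}} [IsAffine T] (q : T ⟶ S) (V : S.Opens)
    (hqV : ∀ τ : T, q τ ∈ V) (f : Γ(S, V)) : IsAffineOpen (q ⁻¹ᵁ S.basicOpen f) := by
  rw [Scheme.preimage_basicOpen]
  have htop : q ⁻¹ᵁ V = ⊤ := by
    ext τ
    simpa using hqV τ
  have : IsAffineOpen (q ⁻¹ᵁ V) := by rw [htop]; exact isAffineOpen_top T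
  exact this.basicOpen _

theorem exists_basicOpen_affine {S T : Scheme.{u}} [IsLocallyNoetherian S]
    (hdim : topologicalKrullDim S ≤ 1)
    [IsAffine T] [IsNoetherian T] (q : T ⟶ S) (V : S.Opens) (hV : IsAffineOpen V)
    (hqV : ∀ τ : T, q τ ∈ V)
    (G : T.Opens) (hGd : Dense (G : Set T))
    (Hcl : ∀ τ : T, τ ∈ closure ((G : Set T) ∩ q ⁻¹' {q τ}) → τ ∈ G)
    (s₀ : S) (hs₀ : s₀ ∈ V) :
    ∃ a : Γ(S, V), s₀ ∈ S.basicOpen a ∧ IsAffineOpen (G ⊓ q ⁻¹ᵁ S.basicOpen a) := by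
  have hgen : ∀ ξ : T, ξ ∉ G → ∃ t : S, t ⤳ q ξ ∧ t ≠ q ξ := fun ξ hξ =>
    exists_generization_ne (fun τ => q τ) q.continuous (G : Set T) G.isOpen hGd Hcl ξ hξ
  have hclosed : ∀ ξ : T, ξ ∉ G → ∀ r : S, q ξ ⤳ r → r = q ξ := by
    intro ξ hξ r hr
    obtain ⟨t, ht, hne⟩ := hgen ξ hξ
    exact eq_of_specializes_of_dim_le_one hdim ht hr hne
  have hfin : ((fun τ => q τ) '' (G : Set T)ᶜ).Finite :=
    finite_image_of_closed_points (fun τ => q τ) q.continuous _ G.isOpen.isClosed_compl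
      (fun ξ hξ τ h => hclosed ξ hξ _ h)
  obtain ⟨O, hO, hs₀O, hOavoid⟩ := exists_open_avoiding _ hfin s₀ (by
    rintro _ ⟨ξ, hξ, rfl⟩ hsp
    exact (hclosed ξ hξ s₀ hsp).symm)
  obtain ⟨a₁, ha₁, hs₀a₁⟩ := hV.exists_basicOpen_le (V := V ⊓ ⟨O, hO⟩) ⟨s₀, ⟨hs₀, hs₀O⟩⟩ hs₀
  -- points outside `G` over `D(a₁)` lie over `s₀`
  have hkey : ∀ τ : T, q τ ∈ S.basicOpen a₁ → τ ∉ G → q τ = s₀ := by
    intro τ hτ hτG
    exact hOavoid _ ⟨τ, hτG, rfl⟩ (ha₁ hτ).2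
  by_cases hs₀Sg : ∃ ξ : T, ξ ∉ G ∧ q ξ = s₀
  · obtain ⟨ξ₀, hξ₀G, hξ₀⟩ := hs₀Sg
    obtain ⟨t₀, ht₀, hne⟩ := hgen ξ₀ hξ₀G
    rw [hξ₀] at ht₀ hne
    obtain ⟨t, a₂, hs₀a₂, hs₀t, hiso⟩ := exists_basicOpen_isolating hdim V hV s₀ hs₀ t₀ ht₀ hne
    refine ⟨a₁ * a₂, ?_, ?_⟩
    · rw [Scheme.basicOpen_mul]; exact ⟨hs₀a₁, hs₀a₂⟩
    have hZ : IsAffineOpen (q ⁻¹ᵁ S.basicOpen (a₁ * a₂)) :=
      isAffineOpen_preimage_basicOpen q V hqV _
    have hVaff : IsAffineOpen (q ⁻¹ᵁ S.basicOpen (a₁ * a₂ * t)) :=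
      isAffineOpen_preimage_basicOpen q V hqV _
    have hmem : ∀ τ : T, τ ∈ q ⁻¹ᵁ S.basicOpen (a₁ * a₂) ↔
        q τ ∈ S.basicOpen a₁ ∧ q τ ∈ S.basicOpen a₂ := by
      intro τ
      show q τ ∈ S.basicOpen (a₁ * a₂) ↔ _
      rw [Scheme.basicOpen_mul]; rfl
    have hmem' : ∀ τ : T, τ ∈ q ⁻¹ᵁ S.basicOpen (a₁ * a₂ * t) ↔
        (q τ ∈ S.basicOpen a₁ ∧ q τ ∈ S.basicOpen a₂) ∧ q τ ∈ S.basicOpen t := by
      intro τ
      show q τ ∈ S.basicOpen (a₁ * a₂ * t) ↔ _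
      rw [Scheme.basicOpen_mul, Scheme.basicOpen_mul]; rfl
    have hVU : q ⁻¹ᵁ S.basicOpen (a₁ * a₂ * t) ≤ G ⊓ q ⁻¹ᵁ S.basicOpen (a₁ * a₂) := by
      intro τ hτ
      rw [hmem'] at hτ
      refine ⟨?_, (hmem τ).mpr hτ.1⟩
      by_contra hτG
      have := hkey τ hτ.1.1 hτG
      rw [this] at hτ
      exact hs₀t hτ.2
    have hsp : ∀ τ : T, τ ∈ closure ((G : Set T) ∩ q ⁻¹' {s₀}) → s₀ ⤳ q τ := by
      intro τ hτ
      rw [specializes_iff_mem_closure]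
      have h1 : q τ ∈ closure ((fun τ => q τ) '' ((G : Set T) ∩ q ⁻¹' {s₀})) :=
        image_closure_subset_closure_image q.continuous ⟨τ, hτ, rfl⟩
      refine closure_mono ?_ h1
      rintro _ ⟨x, ⟨-, hx⟩, rfl⟩
      exact hx
    have hcl : ((q ⁻¹ᵁ S.basicOpen (a₁ * a₂) : Set T) \ (G ⊓ q ⁻¹ᵁ S.basicOpen (a₁ * a₂) : T.Opens)) ∪
        (q ⁻¹ᵁ S.basicOpen (a₁ * a₂ * t) : T.Opens) =
        (q ⁻¹ᵁ S.basicOpen (a₁ * a₂) : Set T) ∩ (closure ((G : Set T) ∩ q ⁻¹' {s₀}))ᶜ := by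
      ext τ
      constructor
      · rintro (⟨hτZ, hτU⟩ | hτV)
        · refine ⟨hτZ, ?_⟩
          intro hτc
          have hτG : τ ∉ G := fun h => hτU ⟨h, hτZ⟩
          have h1 : s₀ ⤳ q τ := hsp τ hτc
          have h2 := (hmem τ).mp hτZ
          have h3 : q τ ∉ S.basicOpen t := fun h => hs₀t (h1.mem_open (S.basicOpen t).isOpen h)
          have h4 : q τ = s₀ := hiso _ h2.2 h3
          apply hτG
          apply Hcl
          rw [h4]; exact hτc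
        · have h2 := (hmem' τ).mp hτV
          refine ⟨(hmem τ).mpr h2.1, ?_⟩
          intro hτc
          have h1 : s₀ ⤳ q τ := hsp τ hτc
          exact hs₀t (h1.mem_open (S.basicOpen t).isOpen h2.2)
      · rintro ⟨hτZ, hτc⟩
        by_cases hτG : τ ∈ G
        · right
          have h2 := (hmem τ).mp hτZ
          refine (hmem' τ).mpr ⟨h2, ?_⟩
          by_contra h3
          have h4 : q τ = s₀ := hiso _ h2.2 h3
          exact hτc (subset_closure ⟨hτG, h4⟩)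
        · left
          exact ⟨hτZ, fun h => hτG h.1⟩
    refine isAffineOpen_of_clopen (q ⁻¹ᵁ S.basicOpen (a₁ * a₂)) _ _ hZ inf_le_right hVU hVaff ?_
    rw [hcl]
    exact (q ⁻¹ᵁ S.basicOpen (a₁ * a₂)).isOpen.inter isClosed_closure.isOpen_compl
  · refine ⟨a₁, hs₀a₁, ?_⟩
    have : G ⊓ q ⁻¹ᵁ S.basicOpen a₁ = q ⁻¹ᵁ S.basicOpen a₁ := by
      apply inf_eq_right.mpr
      intro τ hτ
      by_contra hτG
      exact hs₀Sg ⟨τ, hτG, hkey τ hτ hτG⟩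
    rw [this]
    exact isAffineOpen_preimage_basicOpen q V hqV _

end Groth.Agent.Lib.AffQF4_helper6
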