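import Mathlib
import Groth.Prelude
import Groth.Agent.Lib.NApxF_helper7

/-!
# A limit of finite type over the base is a closed subscheme of a stage (helper7)

`X = lim X_k` cofiltered with affine transition maps, quasi-compact stages, all over a scheme `S`.
If `X ⟶ S` is locally of finite type, then `X ⟶ X_k` is a closed immersion for some `k`.
-/

set_option autoImplicit false
set_option linter.style.haveILetI false
universe u
open CategoryTheory CategoryTheory.Limits AlgebraicGeometry TopologicalSpace Opposite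

namespace Groth.Agent.Lib.LimCIStageH7
open Groth.Agent.Lib.NApxF_helper7

variable {K : Type u} [SmallCategory K] [IsCofiltered K] (D : K ⥤ Scheme.{u})
  [∀ {i j : K} (f : i ⟶ j), IsAffineHom (D.map f)] (c : Cone D) (hc : IsLimit c)
  {S : Scheme.{u}} (s : ∀ k, D.obj k ⟶ S) (hs : ∀ {i j : K} (a : i ⟶ j), D.map a ≫ s j = s i)
  (f : c.pt ⟶ S) (hf : ∀ k, c.π.app k ≫ s k = f)

include hc hs hf in
theorem step [LocallyOfFiniteType f] (k₀ : K) (U₀ : (D.obj k₀).Opens) (hU₀ : IsAffineOpen U₀)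
    (V : S.Opens) (hV : IsAffineOpen V) (hUV : U₀ ≤ s k₀ ⁻¹ᵁ V) :
    ∃ j₁ : Over k₀, ∀ (j : Over k₀) (_ : j ⟶ j₁),
      IsClosedImmersion (c.π.app j.left ∣_ (D.map j.hom ⁻¹ᵁ U₀)) := by
  have hUV' : c.π.app k₀ ⁻¹ᵁ U₀ ≤ f ⁻¹ᵁ V := by
    rw [← hf k₀, Scheme.Hom.comp_preimage]
    exact (c.π.app k₀).preimage_mono hUV
  obtain ⟨j₁, hj₁⟩ := exists_generation D c hc f k₀ U₀ hU₀ V hV hUV'
  refine ⟨j₁, fun j g => ?_⟩
  have hgen := hj₁ j g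
  haveI := isAffineHom_π_app D c hc k₀
  have hΩ : IsAffineOpen (c.π.app k₀ ⁻¹ᵁ U₀) := hU₀.preimage _
  haveI : IsAffine ((c.π.app k₀ ⁻¹ᵁ U₀ : c.pt.Opens) : Scheme.{u}) := hΩ
  have h' : D.map j.hom ⁻¹ᵁ U₀ ≤ s j.left ⁻¹ᵁ V := by
    rw [← hs j.hom, Scheme.Hom.comp_preimage]
    exact (D.map j.hom).preimage_mono hUV
  have hle' : c.π.app k₀ ⁻¹ᵁ U₀ ≤ c.π.app j.left ⁻¹ᵁ (D.map j.hom ⁻¹ᵁ U₀) := by
    rw [← Scheme.Hom.comp_preimage, c.w]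
  obtain ⟨δ, hδ⟩ : ∃ δ : ((c.π.app k₀ ⁻¹ᵁ U₀ : c.pt.Opens) : Scheme.{u}) ⟶
      ((D.map j.hom ⁻¹ᵁ U₀ : (D.obj j.left).Opens) : Scheme.{u}),
      δ = (c.π.app j.left).resLE (D.map j.hom ⁻¹ᵁ U₀) (c.π.app k₀ ⁻¹ᵁ U₀) hle' := ⟨_, rfl⟩
  have hδι : δ ≫ (D.map j.hom ⁻¹ᵁ U₀).ι = (c.π.app k₀ ⁻¹ᵁ U₀).ι ≫ c.π.app j.left := by
    rw [hδ, Scheme.Hom.resLE_comp_ι]
  have hgen' : δ.appTop.hom.range ⊔
      (f.resLE V (c.π.app k₀ ⁻¹ᵁ U₀) hUV').appTop.hom.range = ⊤ := by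
    rw [hδ]
    exact hgen
  haveI : IsAffine ((D.map j.hom ⁻¹ᵁ U₀ : (D.obj j.left).Opens) : Scheme.{u}) :=
    hU₀.preimage (D.map j.hom)
  have hfac : f.resLE V (c.π.app k₀ ⁻¹ᵁ U₀) hUV' =
      δ ≫ (s j.left).resLE V (D.map j.hom ⁻¹ᵁ U₀) h' := by
    rw [← cancel_mono V.ι, Category.assoc, Scheme.Hom.resLE_comp_ι, Scheme.Hom.resLE_comp_ι,
      ← Category.assoc, hδι, Category.assoc, hf]
  have hsurj : Function.Surjective δ.appTop := by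
    intro x
    have hle : (f.resLE V (c.π.app k₀ ⁻¹ᵁ U₀) hUV').appTop.hom.range ≤ δ.appTop.hom.range := by
      rintro _ ⟨y, rfl⟩
      refine ⟨((s j.left).resLE V (D.map j.hom ⁻¹ᵁ U₀) h').appTop.hom y, ?_⟩
      have h3 := congrArg (fun φ => φ.appTop) hfac
      simp only [Scheme.Hom.comp_appTop] at h3
      exact (ConcreteCategory.congr_hom h3 y).symm
    exact (sup_le le_rfl hle) (hgen'.ge (Subring.mem_top x))
  haveI hcl : IsClosedImmersion δ := IsClosedImmersion.of_surjective_of_isAffine _ hsurj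
  have hpre : c.π.app j.left ⁻¹ᵁ (D.map j.hom ⁻¹ᵁ U₀).ι.opensRange = c.π.app k₀ ⁻¹ᵁ U₀ := by
    rw [Scheme.Opens.opensRange_ι, ← Scheme.Hom.comp_preimage, c.w]
  have key := closedImm_restrict_of_factor (c.π.app j.left) (D.map j.hom ⁻¹ᵁ U₀).ι
    (c.π.app k₀ ⁻¹ᵁ U₀) δ hδι hpre
  rwa [Scheme.Opens.opensRange_ι] at key

include hc hs hf in
/-- If the limit is locally of finite type over `S`, the projection to some stage is a closed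
immersion. -/
theorem exists_isClosedImmersion_π [LocallyOfFiniteType f] [∀ k, CompactSpace (D.obj k)] :
    ∃ k : K, IsClosedImmersion (c.π.app k) := by
  classical
  obtain ⟨k₀⟩ := IsCofiltered.nonempty (C := K)
  have hcov : ∀ x : D.obj k₀, ∃ (U₀ : (D.obj k₀).Opens) (V : S.Opens), IsAffineOpen U₀ ∧
      IsAffineOpen V ∧ x ∈ U₀ ∧ U₀ ≤ s k₀ ⁻¹ᵁ V := by
    intro x
    obtain ⟨_, ⟨(V : S.Opens), hV, rfl⟩, hxV, -⟩ :=
      S.isBasis_affineOpens.exists_subset_of_mem_open (Set.mem_univ (s k₀ x)) isOpen_univ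
    obtain ⟨_, ⟨(U₀ : (D.obj k₀).Opens), hU₀, rfl⟩, hxU₀, hU₀V⟩ :=
      (D.obj k₀).isBasis_affineOpens.exists_subset_of_mem_open
        (show x ∈ ((s k₀ ⁻¹ᵁ V : (D.obj k₀).Opens) : Set (D.obj k₀)) from hxV) (s k₀ ⁻¹ᵁ V).2
    exact ⟨U₀, V, hU₀, hV, hxU₀, hU₀V⟩
  choose U₀ V hU₀ hV hxU₀ hU₀V using hcov
  obtain ⟨t, ht⟩ := isCompact_univ.elim_finite_subcover (fun x => (U₀ x : Set (D.obj k₀)))
    (fun x => (U₀ x).isOpen) (fun x _ => Set.mem_iUnion.mpr ⟨x, hxU₀ x⟩)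
  choose j₁ hj₁ using fun x => step D c hc s hs f hf k₀ (U₀ x) (hU₀ x) (V x) (hV x) (hU₀V x)
  obtain ⟨k, hk⟩ := IsCofiltered.inf_objs_exists (t.image j₁)
  refine ⟨k.left, ?_⟩
  refine IsZariskiLocalAtTarget.of_forall_exists_morphismRestrict (P := @IsClosedImmersion)
    fun y => ?_
  obtain ⟨x, hx⟩ := Set.mem_iUnion.mp (ht (Set.mem_univ (D.map k.hom y)))
  obtain ⟨hxt, hyx⟩ := Set.mem_iUnion.mp hx
  obtain ⟨m⟩ := hk (Finset.mem_image_of_mem j₁ hxt)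
  exact ⟨D.map k.hom ⁻¹ᵁ U₀ x, hyx, hj₁ x k m⟩

end Groth.Agent.Lib.LimCIStageH7
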