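import Mathlib
import Groth.Prelude
import Groth.Agent.Lib.IntegralImage_helper7
import Groth.Agent.Lib.LimCIStage_helper7
import Groth.Agent.Lib.IdealFT2_helper7
import Groth.Agent.Lib.NApxN_helper7

/-!
# Zariski's main theorem: immersion into a finite scheme of finite presentation (helper7)

`exists_immersion_finite_fp`: a quasi-finite separated morphism `f : X ⟶ S` of finite type over a
qcqs scheme factors as `X ⟶ Z ⟶ S` with `Z ⟶ S` finite and of finite presentation, and `X ⟶ Z` a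
closed immersion into a quasi-compact open subscheme `W` of `Z`.
-/

set_option autoImplicit false
set_option linter.style.haveILetI false
universe u
open CategoryTheory CategoryTheory.Limits AlgebraicGeometry TopologicalSpace Opposite

namespace Groth.Agent.Lib.ZMTFinH7
open Groth.Agent.Lib.IdealFTH7 Groth.Agent.Lib.IntegralImageH7 Groth.Agent.Lib.LimCIStageH7

/-- The core limit argument. -/
theorem core' {X S : Scheme.{u}} [CompactSpace S] [QuasiSeparatedSpace S] (f : X ⟶ S)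
    [LocallyOfFiniteType f] [QuasiCompact f]
    {K : Type u} [SmallCategory K] [IsCofiltered K] (E : K ⥤ Scheme.{u})
    [∀ {i j : K} (a : i ⟶ j), IsAffineHom (E.map a)] (cE : Cone E) (hcE : IsLimit cE)
    (j₀ : X ⟶ cE.pt) [IsOpenImmersion j₀] (ν : cE.pt ⟶ S) [IsIntegralHom ν] (hfac : j₀ ≫ ν = f)
    (g : ∀ k, E.obj k ⟶ S) (hg : ∀ {i j : K} (a : i ⟶ j), E.map a ≫ g j = g i)
    (hgc : ∀ k, cE.π.app k ≫ g k = ν) [∀ k, IsAffineHom (g k)]
    [∀ k, LocallyOfFinitePresentation (g k)] :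
    ∃ (Z : Scheme.{u}) (i : X ⟶ Z) (p : Z ⟶ S) (W : Z.Opens) (a : X ⟶ (W : Scheme.{u})),
      IsCompact (W : Set Z) ∧ IsClosedImmersion a ∧ a ≫ W.ι = i ∧ IsFinite p ∧
      LocallyOfFinitePresentation p ∧ i ≫ p = f := by
  haveI : CompactSpace X := QuasiCompact.compactSpace_of_compactSpace f
  haveI : ∀ k, CompactSpace (E.obj k) := fun k =>
    QuasiCompact.compactSpace_of_compactSpace (g k)
  have hUc : IsCompact (j₀.opensRange : Set cE.pt) := by
    rw [Scheme.Hom.coe_opensRange]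
    exact isCompact_range j₀.continuous
  obtain ⟨i, V, hVc, hVU⟩ := exists_preimage_eq E cE hcE j₀.opensRange hUc
  haveI : ∀ k : Over i, CompactSpace ((opensDiagram E i V).obj k) := fun k =>
    isCompact_iff_compactSpace.mp ((E.map k.hom).isCompact_preimage hVc)
  obtain ⟨s, hsdef⟩ : ∃ s : ∀ k : Over i, (opensDiagram E i V).obj k ⟶ S,
      s = fun k : Over i => (E.map k.hom ⁻¹ᵁ V).ι ≫ g k.left := ⟨_, rfl⟩
  have hs : ∀ {k k' : Over i} (a : k ⟶ k'), (opensDiagram E i V).map a ≫ s k' = s k := by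
    intro k k' a
    rw [hsdef]
    show (E.map a.left).resLE _ _ _ ≫ (E.map k'.hom ⁻¹ᵁ V).ι ≫ g k'.left = _
    rw [Scheme.Hom.resLE_comp_ι_assoc, hg]
  obtain ⟨f', hf'def⟩ : ∃ f' : (opensCone E cE i V).pt ⟶ S, f' = (cE.π.app i ⁻¹ᵁ V).ι ≫ ν :=
    ⟨_, rfl⟩
  have hf' : ∀ k, (opensCone E cE i V).π.app k ≫ s k = f' := by
    intro k
    rw [hsdef, hf'def]
    show (cE.π.app k.left).resLE _ _ _ ≫ (E.map k.hom ⁻¹ᵁ V).ι ≫ g k.left = _
    rw [Scheme.Hom.resLE_comp_ι_assoc, hgc]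
  obtain ⟨iso, hiso⟩ : ∃ iso : X ≅ ((cE.π.app i ⁻¹ᵁ V : cE.pt.Opens) : Scheme.{u}),
      iso.hom ≫ (cE.π.app i ⁻¹ᵁ V).ι = j₀ :=
    ⟨j₀.isoOpensRange ≪≫ cE.pt.isoOfEq hVU.symm, by
      have h1 := Scheme.isoOfEq_hom_ι cE.pt hVU.symm
      rw [Iso.trans_hom, Category.assoc]
      exact (congrArg (j₀.isoOpensRange.hom ≫ ·) h1).trans j₀.isoOpensRange_hom_ι⟩
  haveI : LocallyOfFiniteType f' := by
    have e : f' = iso.inv ≫ f := by
      rw [hf'def, ← hfac, ← hiso, Category.assoc, Iso.inv_hom_id_assoc]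
    rw [e]
    haveI : LocallyOfFiniteType iso.inv := inferInstance
    exact MorphismProperty.comp_mem _ iso.inv f inferInstance inferInstance
  obtain ⟨k, hk⟩ := exists_isClosedImmersion_π (opensDiagram E i V) (opensCone E cE i V)
    (isLimitOpensCone E cE hcE i V) s hs f' hf'
  -- the closed immersion `δ`
  have hle' : cE.π.app i ⁻¹ᵁ V ≤ cE.π.app k.left ⁻¹ᵁ (E.map k.hom ⁻¹ᵁ V) := by
    rw [← Scheme.Hom.comp_preimage, cE.w]
  obtain ⟨δ, hδ⟩ : ∃ δ : ((cE.π.app i ⁻¹ᵁ V : cE.pt.Opens) : Scheme.{u}) ⟶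
      ((E.map k.hom ⁻¹ᵁ V : (E.obj k.left).Opens) : Scheme.{u}),
      δ = (cE.π.app k.left).resLE (E.map k.hom ⁻¹ᵁ V) (cE.π.app i ⁻¹ᵁ V) hle' := ⟨_, rfl⟩
  haveI hδcl : IsClosedImmersion δ := by
    rw [hδ]
    exact hk
  have hδι : δ ≫ (E.map k.hom ⁻¹ᵁ V).ι = (cE.π.app i ⁻¹ᵁ V).ι ≫ cE.π.app k.left := by
    rw [hδ, Scheme.Hom.resLE_comp_ι]
  -- the finite scheme
  haveI : IsIntegralHom (cE.π.app k.left ≫ g k.left) := by
    rw [hgc]
    infer_instance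
  obtain ⟨J, -, hJK, hJft, hJfin⟩ :=
    exists_finite_ft (cE.π.app k.left) (g k.left) ⊥ bot_le ft_bot
  haveI := lfp_of_ft J hJft
  have hm : j₀ ≫ cE.π.app k.left = iso.hom ≫ δ ≫ (E.map k.hom ⁻¹ᵁ V).ι := by
    rw [hδι, ← Category.assoc, hiso]
  have hker : J.subschemeι.ker ≤ (j₀ ≫ cE.π.app k.left).ker := by
    rw [Scheme.IdealSheafData.ker_subschemeι]
    exact hJK.trans (Scheme.Hom.le_ker_comp j₀ (cE.π.app k.left))
  obtain ⟨m₁, hm₁⟩ : ∃ m₁ : X ⟶ J.subscheme, m₁ ≫ J.subschemeι = j₀ ≫ cE.π.app k.left :=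
    ⟨IsClosedImmersion.lift J.subschemeι _ hker, IsClosedImmersion.lift_fac _ _ _⟩
  have hVk : IsCompact ((E.map k.hom ⁻¹ᵁ V : (E.obj k.left).Opens) : Set (E.obj k.left)) :=
    (E.map k.hom).isCompact_preimage hVc
  have hrange : Set.range m₁ ⊆ Set.range (J.subschemeι ⁻¹ᵁ (E.map k.hom ⁻¹ᵁ V)).ι := by
    rw [Scheme.Opens.range_ι]
    rintro _ ⟨x, rfl⟩
    show J.subschemeι (m₁ x) ∈ (E.map k.hom ⁻¹ᵁ V : (E.obj k.left).Opens)
    rw [← Scheme.Hom.comp_apply, hm₁, hm, Scheme.Hom.comp_apply, Scheme.Hom.comp_apply]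
    exact (δ (iso.hom x)).2
  obtain ⟨a₁, ha₁⟩ : ∃ a₁ : X ⟶ ((J.subschemeι ⁻¹ᵁ (E.map k.hom ⁻¹ᵁ V) :
      J.subscheme.Opens) : Scheme.{u}),
      a₁ ≫ (J.subschemeι ⁻¹ᵁ (E.map k.hom ⁻¹ᵁ V)).ι = m₁ :=
    ⟨IsOpenImmersion.lift _ m₁ hrange, IsOpenImmersion.lift_fac _ _ _⟩
  have hcomp : a₁ ≫ (J.subschemeι ∣_ (E.map k.hom ⁻¹ᵁ V)) = iso.hom ≫ δ := by
    rw [← cancel_mono (E.map k.hom ⁻¹ᵁ V).ι, Category.assoc, morphismRestrict_ι,
      ← Category.assoc, ha₁, hm₁, hm, Category.assoc]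
  haveI : IsClosedImmersion (a₁ ≫ (J.subschemeι ∣_ (E.map k.hom ⁻¹ᵁ V))) := by
    rw [hcomp]
    infer_instance
  have ha₁cl : IsClosedImmersion a₁ :=
    IsClosedImmersion.of_comp a₁ (J.subschemeι ∣_ (E.map k.hom ⁻¹ᵁ V))
  refine ⟨J.subscheme, m₁, J.subschemeι ≫ g k.left, J.subschemeι ⁻¹ᵁ (E.map k.hom ⁻¹ᵁ V), a₁,
    J.subschemeι.isCompact_preimage hVk, ha₁cl, ha₁, hJfin, inferInstance, ?_⟩
  rw [← Category.assoc, hm₁, Category.assoc, hgc, hfac]

/-- The core limit argument, with the limit identified up to isomorphism. -/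
theorem core {X S N : Scheme.{u}} [CompactSpace S] [QuasiSeparatedSpace S] (f : X ⟶ S)
    [LocallyOfFiniteType f] [QuasiCompact f]
    {K : Type u} [SmallCategory K] [IsCofiltered K] (E : K ⥤ Scheme.{u})
    [∀ {i j : K} (a : i ⟶ j), IsAffineHom (E.map a)] (cE : Cone E) (hcE : IsLimit cE)
    (j₀ : X ⟶ N) [IsOpenImmersion j₀] (ν : N ⟶ S) [IsIntegralHom ν] (hfac : j₀ ≫ ν = f)
    (eN : cE.pt ≅ N)
    (g : ∀ k, E.obj k ⟶ S) (hg : ∀ {i j : K} (a : i ⟶ j), E.map a ≫ g j = g i)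
    (hgc : ∀ k, cE.π.app k ≫ g k = eN.hom ≫ ν) [∀ k, IsAffineHom (g k)]
    [∀ k, LocallyOfFinitePresentation (g k)] :
    ∃ (Z : Scheme.{u}) (i : X ⟶ Z) (p : Z ⟶ S) (W : Z.Opens) (a : X ⟶ (W : Scheme.{u})),
      IsCompact (W : Set Z) ∧ IsClosedImmersion a ∧ a ≫ W.ι = i ∧ IsFinite p ∧
      LocallyOfFinitePresentation p ∧ i ≫ p = f := by
  haveI : IsOpenImmersion (j₀ ≫ eN.inv) := inferInstance
  haveI : IsIntegralHom (eN.hom ≫ ν) := inferInstance
  exact core' f E cE hcE (j₀ ≫ eN.inv) (eN.hom ≫ ν)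
    (by rw [Category.assoc, Iso.inv_hom_id_assoc, hfac]) g hg hgc


attribute [local instance] IsCofiltered.isConnected in
/-- **Zariski's main theorem**, finite presentation form with an explicit open. -/
theorem exists_immersion_finite_fp {X S : Scheme.{u}} (f : X ⟶ S) [CompactSpace S]
    [QuasiSeparatedSpace S] [LocallyQuasiFinite f] [LocallyOfFiniteType f] [QuasiCompact f]
    [IsSeparated f] :
    ∃ (Z : Scheme.{u}) (i : X ⟶ Z) (p : Z ⟶ S) (W : Z.Opens) (a : X ⟶ (W : Scheme.{u})),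
      IsCompact (W : Set Z) ∧ IsClosedImmersion a ∧ a ≫ W.ι = i ∧ IsFinite p ∧
      LocallyOfFinitePresentation p ∧ i ≫ p = f := by
  obtain ⟨N, j₀, ν, hj₀, hν, hfac⟩ : ∃ (N : Scheme.{u}) (j₀ : X ⟶ N) (ν : N ⟶ S),
      IsOpenImmersion j₀ ∧ IsIntegralHom ν ∧ j₀ ≫ ν = f :=
    ⟨f.normalization, f.toNormalization, f.fromNormalization, inferInstance, inferInstance,
      f.toNormalization_fromNormalization⟩
  haveI := hj₀
  haveI := hν
  haveI : CompactSpace N := QuasiCompact.compactSpace_of_compactSpace ν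
  haveI : QuasiSeparatedSpace N := quasiSeparatedSpace_of_quasiSeparated ν
  obtain ⟨I, iC, iF, D, c, hc, h1, ⟨e⟩⟩ :=
    (Groth.Agent.Lib.NApxN_helper7.main17885 ν).1 inferInstance
  have hc1 : IsLimit ((Over.forget S).mapCone c) := isLimitOfPreserves (Over.forget S) hc
  have hsep : ∀ i, IsSeparated (D.obj i).hom := fun i => by
    haveI := (h1 i).1
    infer_instance
  haveI hAff : ∀ {i j : Iᵒᵖ} (a : i ⟶ j), IsAffineHom ((D ⋙ Over.forget S).map a) := by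
    intro i j a
    have h3 : (D.map a).left ≫ (D.obj j).hom = (D.obj i).hom := Over.w (D.map a)
    have h4 : IsAffineHom ((D.map a).left ≫ (D.obj j).hom) := by
      rw [h3]
      exact (h1 i).1
    exact @IsAffineHom.of_comp _ _ _ (D.map a).left (D.obj j).hom h4 (hsep j)
  haveI : ∀ k : Iᵒᵖ, @IsAffineHom ((D ⋙ Over.forget S).obj k) S (D.obj k).hom :=
    fun k => (h1 k).1
  haveI : ∀ k : Iᵒᵖ, @LocallyOfFinitePresentation ((D ⋙ Over.forget S).obj k) S (D.obj k).hom :=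
    fun k => (h1 k).2
  exact core f (D ⋙ Over.forget S) ((Over.forget S).mapCone c) hc1 j₀ ν hfac
    ((Over.forget S).mapIso e) (fun k => (D.obj k).hom) (fun a => Over.w (D.map a))
    (fun k => (Over.w (c.π.app k)).trans (Over.w e.hom).symm)

end Groth.Agent.Lib.ZMTFinH7
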