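import Mathlib
import Groth.Prelude
import Groth.Agent.Lib.ZMTFin_helper7

/-!
# Zariski's main theorem, finite factorisation forms (helper7)

* `main0385`: quasi-finite separated `f` over a qcqs base = quasi-compact open immersion followed
  by a finite morphism.
* `main1477`: if moreover `f` is locally of finite presentation, the finite morphism can be taken
  of finite presentation.
-/

set_option autoImplicit false
set_option linter.style.haveILetI false
universe u
open CategoryTheory CategoryTheory.Limits AlgebraicGeometry TopologicalSpace Opposite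

namespace Groth.Agent.Lib.ZMTFinH7
open Groth.Agent.Lib.IdealFTH7

theorem lfp_of_comp {X Y Z : Scheme.{u}} (f : X ⟶ Y) (g : Y ⟶ Z)
    [LocallyOfFinitePresentation (f ≫ g)] [LocallyOfFiniteType g] :
    LocallyOfFinitePresentation f := by
  rw [HasRingHomProperty.iff_exists_appLE (P := @LocallyOfFinitePresentation)
    (RingHom.finitePresentation_stableUnderComposition.stableUnderCompositionWithLocalizationAway
      RingHom.finitePresentation_holdsForLocalizationAway).left]
  intro x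
  obtain ⟨_, ⟨W, hW, rfl⟩, hxW, -⟩ := Z.isBasis_affineOpens.exists_subset_of_mem_open
    (Set.mem_univ (g (f x))) isOpen_univ
  obtain ⟨_, ⟨U, hU, rfl⟩, hxU, hUW⟩ := Y.isBasis_affineOpens.exists_subset_of_mem_open
    (show f x ∈ g ⁻¹ᵁ W from hxW) (g ⁻¹ᵁ W).isOpen
  obtain ⟨_, ⟨V, hV, rfl⟩, hxV, hVU⟩ := X.isBasis_affineOpens.exists_subset_of_mem_open
    (show x ∈ f ⁻¹ᵁ U from hxU) (f ⁻¹ᵁ U).isOpen
  refine ⟨⟨U, hU⟩, ⟨V, hV⟩, hxV, hVU, ?_⟩
  have hVW : V ≤ (f ≫ g) ⁻¹ᵁ W := fun y hy => hUW (hVU hy)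
  have h1 := HasRingHomProperty.appLE (P := @LocallyOfFinitePresentation) (f := f ≫ g)
    inferInstance ⟨W, hW⟩ ⟨V, hV⟩ hVW
  have h2 := HasRingHomProperty.appLE (P := @LocallyOfFiniteType) (f := g)
    inferInstance ⟨W, hW⟩ ⟨U, hU⟩ hUW
  have h3 : (f ≫ g).appLE W V hVW = g.appLE W U hUW ≫ f.appLE U V hVU :=
    (Scheme.Hom.appLE_comp_appLE f g W U V hUW hVU).symm
  rw [h3, CommRingCat.hom_comp] at h1
  exact RingHom.FinitePresentation.of_comp_finiteType _ h1 h2

theorem quasiCompact_of_comp {X Y Z : Scheme.{u}} (f : X ⟶ Y) (g : Y ⟶ Z) [QuasiCompact (f ≫ g)]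
    [QuasiSeparated g] : QuasiCompact f :=
  MorphismProperty.of_postcomp (W := @QuasiCompact) (W' := @QuasiSeparated) f g inferInstance
    inferInstance

/-- **S0385**. -/
theorem main0385 {X S : Scheme.{u}} (f : X ⟶ S) [CompactSpace S] [QuasiSeparatedSpace S]
    [LocallyQuasiFinite f] [LocallyOfFiniteType f] [QuasiCompact f] [IsSeparated f] :
    ∃ (T : Scheme.{u}) (j : X ⟶ T) (π : T ⟶ S), IsOpenImmersion j ∧ QuasiCompact j ∧ IsFinite π ∧
      j ≫ π = f := by
  obtain ⟨Z, i, p, W, a, hWc, ha, hai, hp, -, hip⟩ := exists_immersion_finite_fp f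
  haveI := ha
  haveI := hp
  haveI : IsImmersion i := by
    rw [← hai]
    infer_instance
  haveI : QuasiCompact i := by
    haveI : QuasiCompact (i ≫ p) := by
      rw [hip]
      infer_instance
    exact quasiCompact_of_comp i p
  refine ⟨i.image, i.toImage, i.imageι ≫ p, inferInstance, inferInstance, inferInstance, ?_⟩
  rw [← Category.assoc, i.toImage_imageι, hip]

lemma ftloc_of_ft_comap {Z : Scheme.{u}} {K : Z.IdealSheafData} {U : Z.Opens}
    (h : ∀ W : (U : Scheme.{u}).affineOpens, ((K.comap U.ι).ideal W).FG) : FTloc K U := by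
  intro x hx
  obtain ⟨_, ⟨W'', hW'', rfl⟩, hxW'', hle⟩ :=
    Z.isBasis_affineOpens.exists_subset_of_mem_open hx U.2
  have hD : IsAffineOpen (U.ι ⁻¹ᵁ W'') :=
    IsAffineOpen.preimage_of_isOpenImmersion hW'' U.ι (by
      rw [Scheme.Opens.opensRange_ι]
      exact hle)
  have h1 := h ⟨U.ι ⁻¹ᵁ W'', hD⟩
  rw [Scheme.IdealSheafData.ideal_comap_of_isOpenImmersion] at h1
  exact ⟨⟨U.ι ''ᵁ (U.ι ⁻¹ᵁ W''), hD.image_of_isOpenImmersion U.ι⟩, ⟨⟨x, hx⟩, hxW'', rfl⟩,
    fg_of_fg_comap_inv _ h1⟩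

/-- **S1477**. -/
theorem main1477 {X S : Scheme.{u}} (f : X ⟶ S) [CompactSpace S] [QuasiSeparatedSpace S]
    [IsSeparated f] [QuasiCompact f] [LocallyQuasiFinite f] [LocallyOfFinitePresentation f] :
    ∃ (T : Scheme.{u}) (j : X ⟶ T) (π : T ⟶ S), IsOpenImmersion j ∧ QuasiCompact j ∧ IsFinite π ∧
      LocallyOfFinitePresentation π ∧ j ≫ π = f := by
  classical
  obtain ⟨Z, i, p, W, a, hWc, ha, hai, hp, hpfp, hip⟩ := exists_immersion_finite_fp f
  haveI := ha
  haveI := hp
  haveI := hpfp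
  haveI : CompactSpace Z := QuasiCompact.compactSpace_of_compactSpace p
  haveI : QuasiSeparatedSpace Z := quasiSeparatedSpace_of_quasiSeparated p
  haveI : IsImmersion i := by
    rw [← hai]
    infer_instance
  haveI : QuasiCompact i := by
    haveI : QuasiCompact (i ≫ p) := by
      rw [hip]
      infer_instance
    exact quasiCompact_of_comp i p
  haveI : LocallyOfFinitePresentation i := by
    haveI : LocallyOfFinitePresentation (i ≫ p) := by
      rw [hip]
      infer_instance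
    exact lfp_of_comp i p
  haveI : LocallyOfFinitePresentation a := by
    haveI : LocallyOfFinitePresentation (a ≫ W.ι) := by
      rw [hai]
      infer_instance
    exact lfp_of_comp a W.ι
  -- the kernel of `a`
  have hpb : IsPullback a (𝟙 X) W.ι i := by
    refine ⟨⟨by rw [hai, Category.id_comp]⟩, ⟨PullbackCone.IsLimit.mk _ (fun s => s.snd) ?_ ?_ ?_⟩⟩
    · intro s
      rw [← cancel_mono W.ι, Category.assoc, hai, s.condition]
    · intro s
      simp
    · intro s m _ h2
      simpa using h2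
  have hker : a.ker = i.ker.comap W.ι := ker_eq_comap_of_isPullback i a (𝟙 X) W.ι hpb
  haveI : LocallyOfFinitePresentation a.ker.subschemeι := by
    have e : a.ker.subschemeι = inv a.toImage ≫ a := by
      rw [IsIso.eq_inv_comp]
      exact a.toImage_imageι
    rw [e]
    infer_instance
  have hft : ∀ U : (W : Scheme.{u}).affineOpens, ((i.ker.comap W.ι).ideal U).FG := by
    rw [← hker]
    exact ideal_fg_of_lfp a.ker
  have hftloc : FTloc i.ker W := ftloc_of_ft_comap hft
  obtain ⟨s, hs⟩ := isCompact_univ.elim_finite_subcover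
    (fun V : Z.affineOpens => ((V : Z.Opens) : Set Z)) (fun V => V.1.2) (by
      intro x _
      obtain ⟨_, ⟨W', hW', rfl⟩, hxW', -⟩ := Z.isBasis_affineOpens.exists_subset_of_mem_open
        (Set.mem_univ x) isOpen_univ
      exact Set.mem_iUnion.mpr ⟨⟨W', hW'⟩, hxW'⟩)
  obtain ⟨J, hJK, hJW, hJft⟩ := exists_ft_extension s W hWc i.ker hftloc
  have hJft' : ∀ U : Z.affineOpens, (J.ideal U).FG := by
    refine ft_of_ftloc J (fun x _ => hJft x ?_)
    have hx : x ∈ ((⨆ V ∈ s, (V : Z.Opens) : Z.Opens) : Set Z) := by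
      simp only [TopologicalSpace.Opens.coe_iSup]
      exact hs (Set.mem_univ x)
    exact (le_sup_right : (⨆ V ∈ s, (V : Z.Opens)) ≤ W ⊔ ⨆ V ∈ s, (V : Z.Opens)) hx
  haveI := lfp_of_ft J hJft'
  obtain ⟨j, hj⟩ : ∃ j : X ⟶ J.subscheme, j ≫ J.subschemeι = i :=
    ⟨IsClosedImmersion.lift J.subschemeι i (by
      rw [Scheme.IdealSheafData.ker_subschemeι]
      exact hJK), IsClosedImmersion.lift_fac _ _ _⟩
  have hrange : Set.range j ⊆ Set.range (J.subschemeι ⁻¹ᵁ W).ι := by
    rw [Scheme.Opens.range_ι]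
    rintro _ ⟨x, rfl⟩
    show J.subschemeι (j x) ∈ W
    rw [← Scheme.Hom.comp_apply, hj, ← hai, Scheme.Hom.comp_apply]
    exact (a x).2
  obtain ⟨j', hj'⟩ : ∃ j' : X ⟶ ((J.subschemeι ⁻¹ᵁ W : J.subscheme.Opens) : Scheme.{u}),
      j' ≫ (J.subschemeι ⁻¹ᵁ W).ι = j :=
    ⟨IsOpenImmersion.lift _ j hrange, IsOpenImmersion.lift_fac _ _ _⟩
  have hb : j' ≫ (J.subschemeι ∣_ W) = a := by
    rw [← cancel_mono W.ι, Category.assoc, morphismRestrict_ι, ← Category.assoc, hj', hj, hai]
  have hkerb : (J.subschemeι ∣_ W).ker = J.comap W.ι := by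
    rw [ker_eq_comap_of_isPullback J.subschemeι (J.subschemeι ∣_ W) (J.subschemeι ⁻¹ᵁ W).ι W.ι
      (isPullback_morphismRestrict _ _), Scheme.IdealSheafData.ker_subschemeι]
  haveI : IsIso j' := IsClosedImmersion.isIso_of_ker_eq a (J.subschemeι ∣_ W) j' hb (by
    rw [hker, hkerb, hJW])
  have hjf : j ≫ J.subschemeι ≫ p = f := by
    rw [← Category.assoc, hj, hip]
  refine ⟨J.subscheme, j, J.subschemeι ≫ p, ?_, ?_, inferInstance, inferInstance, hjf⟩
  · rw [← hj']
    infer_instance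
  · haveI : QuasiCompact (j ≫ J.subschemeι ≫ p) := by
      rw [hjf]
      infer_instance
    exact quasiCompact_of_comp j (J.subschemeι ≫ p)

end Groth.Agent.Lib.ZMTFinH7
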