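import Mathlib
import Groth.Agent.S0385

/-!
# Zariski's main theorem with dense image; closedness of traces on fibres (helper6)
-/

set_option autoImplicit false
set_option linter.all false
set_option backward.isDefEq.respectTransparency false
universe u
open TopologicalSpace Topology CategoryTheory CategoryTheory.Limits AlgebraicGeometry

namespace Groth.Agent.Lib.AffQF5_helper6

theorem zmt_dense {X Y : Scheme.{u}} (f : X ⟶ Y) [CompactSpace Y] [QuasiSeparatedSpace Y]
    [LocallyQuasiFinite f] [LocallyOfFiniteType f] [QuasiCompact f] [IsSeparated f] :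
    ∃ (T : Scheme.{u}) (j : X ⟶ T) (π : T ⟶ Y), IsOpenImmersion j ∧ IsDominant j ∧ IsFinite π ∧
      j ≫ π = f := by
  obtain ⟨T, j, π, hj, hjq, hπ, hfac⟩ := Groth.Agent.S0385.result f
  refine ⟨j.image, j.toImage, j.imageι ≫ π, inferInstance, inferInstance, inferInstance, ?_⟩
  rw [← Category.assoc, j.toImage_imageι, hfac]

/-- the trace of the open `range j` on the fibre over `s` is closed in the fibre, if `u` becomes
finite over the fibre `Y_s` -/
theorem fibre_closed {X Y S X₀ W T Xs : Scheme.{u}} (u : X ⟶ Y) (p : Y ⟶ S) (s : S)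
    (fstX : Xs ⟶ X) (us : Xs ⟶ pullback p (S.fromSpecResidueField s)) [IsFinite us]
    (h₁ : IsPullback fstX us u (pullback.fst p (S.fromSpecResidueField s)))
    (w : W ⟶ Y) (x₀ : X₀ ⟶ X) (u₀ : X₀ ⟶ W) (h₃ : IsPullback x₀ u₀ u w)
    (j : X₀ ⟶ T) (π : T ⟶ W) [IsSeparated π] (hfac : j ≫ π = u₀)
    (τ : T) (hτ : (π ≫ w ≫ p) τ = s)
    (hcl : τ ∈ closure (Set.range j ∩ (π ≫ w ≫ p) ⁻¹' {s})) : τ ∈ Set.range j := by
  let g := S.fromSpecResidueField s
  let c := pullback.fst p g
  let c' := pullback.fst w c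
  let ιs := pullback.snd w c
  let b := pullback.snd u₀ c'
  let fst₂ := pullback.fst u₀ c'
  -- `b` is finite
  have h₂ : IsPullback fst₂ b u₀ c' := IsPullback.of_hasPullback u₀ c'
  have h₂₃ : IsPullback (fst₂ ≫ x₀) b u (c' ≫ w) := h₂.paste_horiz h₃
  have hc'w : c' ≫ w = ιs ≫ c := pullback.condition
  rw [hc'w] at h₂₃
  let ℓ : pullback u₀ c' ⟶ Xs := h₁.lift (fst₂ ≫ x₀) (b ≫ ιs) (by
    rw [Category.assoc]; exact h₂₃.w)
  have hℓ₁ : ℓ ≫ fstX = fst₂ ≫ x₀ := h₁.lift_fst _ _ _
  have hℓ₂ : ℓ ≫ us = b ≫ ιs := h₁.lift_snd _ _ _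
  have h₅ : IsPullback ℓ b us ιs := by
    refine IsPullback.of_right ?_ hℓ₂ h₁
    rw [hℓ₁]; exact h₂₃
  haveI : IsFinite b := MorphismProperty.of_isPullback (P := @IsFinite) h₅ inferInstance
  -- the base change of `j`
  let φ := pullback.fst π c'
  let ψ := pullback.snd π c'
  let js : pullback u₀ c' ⟶ pullback π c' := pullback.lift (fst₂ ≫ j) b (by
    rw [Category.assoc, hfac]; exact h₂.w)
  have hjs₁ : js ≫ φ = fst₂ ≫ j := pullback.lift_fst _ _ _
  have hjs₂ : js ≫ ψ = b := pullback.lift_snd _ _ _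
  haveI : IsProper (js ≫ ψ) := by rw [hjs₂]; infer_instance
  haveI : IsProper js := IsProper.of_comp js ψ
  have hclosed : IsClosed (Set.range js) := js.isClosedMap.isClosed_range
  have h₄ : IsPullback fst₂ js j φ := by
    refine IsPullback.of_bot ?_ hjs₁.symm (IsPullback.of_hasPullback π c')
    rw [hjs₂, hfac]; exact h₂
  have hrange : Set.range js = φ ⁻¹' Set.range j := by
    have := Scheme.image_preimage_eq_of_isPullback h₄ Set.univ
    simpa [Set.image_univ] using this
  -- range of `φ`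
  have hφrange : Set.range φ = (π ≫ w ≫ p) ⁻¹' {s} := by
    have e1 : Set.range φ = π ⁻¹' Set.range c' := Scheme.Pullback.range_fst π c'
    have e2 : Set.range c' = w ⁻¹' Set.range c := Scheme.Pullback.range_fst w c
    have e3 : Set.range c = p ⁻¹' Set.range g := Scheme.Pullback.range_fst p g
    have e4 : Set.range g = {s} := Scheme.range_fromSpecResidueField s
    rw [e1, e2, e3, e4]
    rfl
  have hτφ : τ ∈ Set.range φ := by rw [hφrange]; exact hτ
  obtain ⟨τ', rfl⟩ := hτφ
  have hemb : IsEmbedding φ := φ.isEmbedding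
  have h6 : Set.range j ∩ (π ≫ w ≫ p) ⁻¹' {s} = φ '' Set.range js := by
    rw [hrange, Set.image_preimage_eq_inter_range, hφrange]
  rw [h6] at hcl
  have h7 : τ' ∈ closure (Set.range js) := by
    rw [hemb.isInducing.closure_eq_preimage_closure_image]
    exact hcl
  rw [hclosed.closure_eq] at h7
  obtain ⟨z, rfl⟩ := h7
  refine ⟨fst₂ z, ?_⟩
  rw [← Scheme.Hom.comp_apply, ← hjs₁, Scheme.Hom.comp_apply]

end Groth.Agent.Lib.AffQF5_helper6
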