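import Groth.Agent.Lib.LocImm_helper6

set_option autoImplicit false
universe u
open CategoryTheory CategoryTheory.Limits AlgebraicGeometry TopologicalSpace

namespace Groth.Agent.Lib.LocImm5_helper6

open LocImm Groth.Agent.Lib.LocImm_helper6

theorem ker_toImage_eq_bot {X Y : Scheme.{u}} (f : X ⟶ Y) [QuasiCompact f] :
    f.toImage.ker = ⊥ := by
  refine Scheme.IdealSheafData.ext_of_iSup_eq_top
    (fun U : Y.affineOpens => ⟨f.imageι ⁻¹ᵁ U.1, U.2.preimage f.imageι⟩) ?_ ?_
  · apply top_unique
    intro x _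
    have hx : f.imageι x ∈ (⨆ U : Y.affineOpens, U.1 : Y.Opens) := by
      rw [iSup_affineOpens_eq_top]; trivial
    obtain ⟨U, hU⟩ := Opens.mem_iSup.mp hx
    exact Opens.mem_iSup.mpr ⟨U, hU⟩
  · intro U
    rw [Scheme.Hom.ker_apply, Scheme.IdealSheafData.ideal_bot]
    exact (RingHom.injective_iff_ker_eq_bot _).mp (f.toImage_app_injective U)

theorem comap_map_eq_of_flat_mono {X Y : Scheme.{u}} (f : X ⟶ Y) [Flat f] [Mono f]
    [QuasiCompact f] (I : X.IdealSheafData) : (I.map f).comap f = I := by
  let g := I.subschemeι ≫ f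
  let ι' := g.imageι
  have hw : I.subschemeι ≫ f = g.toImage ≫ ι' := g.toImage_imageι.symm
  let t : I.subscheme ⟶ pullback f ι' := pullback.lift I.subschemeι g.toImage hw
  have ht1 : t ≫ pullback.fst f ι' = I.subschemeι := pullback.lift_fst _ _ _
  have ht2 : t ≫ pullback.snd f ι' = g.toImage := pullback.lift_snd _ _ _
  haveI : IsSchemeTheoreticallyDominant g.toImage := ⟨ker_toImage_eq_bot g⟩
  have H : IsPullback (𝟙 I.subscheme) t g.toImage (pullback.snd f ι') := by
    refine IsPullback.of_isLimit' ⟨by rw [Category.id_comp, ht2]⟩ ?_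
    refine PullbackCone.IsLimit.mk _ (fun s => s.fst) (fun s => by simp) (fun s => ?_)
      (fun s m h1 _ => by simpa using h1)
    rw [← cancel_mono (pullback.snd f ι'), Category.assoc, ht2, s.condition]
  haveI : IsSchemeTheoreticallyDominant t := IsSchemeTheoreticallyDominant.of_isPullback H
  haveI : IsClosedImmersion t := by
    haveI : IsClosedImmersion (t ≫ pullback.fst f ι') := by rw [ht1]; infer_instance
    exact IsClosedImmersion.of_comp t (pullback.fst f ι')
  haveI : IsIso t := IsClosedImmersion.isIso_of_ker_eq t (𝟙 _) t (Category.comp_id _)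
    (by rw [t.ker_eq_bot]; simp)
  show (pullback.fst f ι').ker = I
  calc (pullback.fst f ι').ker = (t ≫ pullback.fst f ι').ker :=
        (Scheme.Hom.ker_comp_of_isIso t _).symm
    _ = I.subschemeι.ker := by rw [ht1]
    _ = I := I.ker_subschemeι

theorem exists_comap_eq {X Y : Scheme.{u}} [IsNoetherian X]
    (f : X ⟶ Y) (hf : IsLocImmersion f) (I : X.IdealSheafData) :
    ∃ J : Y.IdealSheafData, J.comap f = I := by
  haveI := flat_of_isLocalizing f hf.1
  haveI := mono_of_isLocImmersion f hf
  exact ⟨I.map f, comap_map_eq_of_flat_mono f I⟩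

end Groth.Agent.Lib.LocImm5_helper6
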