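import Groth.Agent.Lib.LocImm3_helper6

set_option autoImplicit false
universe u
open CategoryTheory CategoryTheory.Limits AlgebraicGeometry TopologicalSpace

namespace Groth.Agent.Lib.LocImm6_helper6

open LocImm Groth.Agent.Lib.LocImm_helper6 Groth.Agent.Lib.LocImm2_helper6
  Groth.Agent.Lib.LocImm3_helper6

theorem isLocHom_of_comp_of_injective {C B E : Type u} [CommRing C] [CommRing B] [CommRing E]
    (γ : C →+* B) (φ : B →+* E) (hinj : Function.Injective φ) (hloc : IsLocHom (φ.comp γ)) :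
    IsLocHom φ := by
  letI a1 : Algebra C E := (φ.comp γ).toAlgebra
  letI a2 : Algebra B E := φ.toAlgebra
  obtain ⟨T, hT⟩ := hloc
  refine ⟨T.map γ, ?_⟩
  obtain ⟨h1, h2, h3⟩ := (isLocalization_iff T E).mp hT
  refine (isLocalization_iff (T.map γ) E).mpr ⟨?_, ?_, ?_⟩
  · rintro ⟨_, ⟨t, ht, rfl⟩⟩
    exact h1 ⟨t, ht⟩
  · intro e
    obtain ⟨⟨c, t⟩, hct⟩ := h2 e
    exact ⟨⟨γ c, ⟨γ t, ⟨t, t.2, rfl⟩⟩⟩, hct⟩
  · intro b1 b2 hb
    exact ⟨1, by rw [hinj hb]⟩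

theorem isLocImmersion_of_comp {X Y Z : Scheme.{u}} [IsNoetherian X]
    (f : X ⟶ Y) (g : Y ⟶ Z) (hfg : IsLocImmersion (f ≫ g))
    (hd : ∀ U : Y.Opens, Function.Injective (f.app U).hom) : IsLocImmersion f := by
  refine ⟨?_, ?_⟩
  swap
  · intro x x' hxx'
    apply hfg.2
    show g (f x) = g (f x')
    have : f x = f x' := hxx'
    rw [this]
  intro x
  let h := f ≫ g
  obtain ⟨W, hxW, hW, hX', hloc⟩ := exists_affine_nhd_of_isLocImmersion h hfg x
  have hfxW : f x ∈ g ⁻¹ᵁ W := hxW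
  obtain ⟨_, ⟨U, hU, rfl⟩, hfxU, hUW⟩ :=
    Y.isBasis_affineOpens.exists_subset_of_mem_open hfxW (g ⁻¹ᵁ W).2
  have hemb := (locImmersion_props h hfg).1
  obtain ⟨O, hO, hOeq⟩ := hemb.isInducing.isOpen_iff.mp (f ⁻¹ᵁ U).2
  let O' : Z.Opens := ⟨O, hO⟩
  have hxO : h x ∈ O' := by
    have : x ∈ (fun x => h x) ⁻¹' O := by rw [hOeq]; exact hfxU
    exact this
  obtain ⟨c, hc1, hc2⟩ := hW.exists_basicOpen_le (V := W ⊓ O') ⟨h x, ⟨hxW, hxO⟩⟩ hxW
  have hWcW : Z.basicOpen c ≤ W := Z.basicOpen_le c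
  have hWcO : Z.basicOpen c ≤ O' := hc1.trans inf_le_right
  let V : X.Opens := h ⁻¹ᵁ (Z.basicOpen c)
  have hVeq : V = X.basicOpen ((h.app W).hom c) := Scheme.preimage_basicOpen h c
  have hVaff : IsAffineOpen V := by rw [hVeq]; exact hX'.basicOpen _
  have hVU : V ≤ f ⁻¹ᵁ U := by
    intro x' hx'
    have : x' ∈ (fun x => h x) ⁻¹' O := hWcO hx'
    rw [hOeq] at this; exact this
  let b : Γ(Y, U) := (g.appLE W U hUW).hom c
  have hUb : Y.basicOpen b = U ⊓ g ⁻¹ᵁ (Z.basicOpen c) := by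
    have h1 : Y.basicOpen b = U ⊓ Y.basicOpen ((g.app W).hom c) := Scheme.basicOpen_res _ _ _
    rw [h1, ← Scheme.preimage_basicOpen]
  have hUbaff : IsAffineOpen (Y.basicOpen b) := hU.basicOpen b
  have hVUb : V ≤ f ⁻¹ᵁ (Y.basicOpen b) := by
    rw [hUb]; intro x' hx'; exact ⟨hVU hx', hx'⟩
  have hUbV : f ⁻¹ᵁ (Y.basicOpen b) ≤ V := by
    rw [hUb]; intro x' hx'; exact hx'.2
  have hUbWc : Y.basicOpen b ≤ g ⁻¹ᵁ (Z.basicOpen c) := by rw [hUb]; exact inf_le_right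
  have hVX' : V ≤ h ⁻¹ᵁ W := h.preimage_mono hWcW
  refine ⟨⟨Y.basicOpen b, hUbaff⟩, ⟨V, hVaff⟩, hc2, hVUb, ?_⟩
  apply isLocHom_of_comp_of_injective (g.appLE (Z.basicOpen c) (Y.basicOpen b) hUbWc).hom
  · -- injectivity
    have e1 : f.appLE (Y.basicOpen b) V hVUb =
        f.app (Y.basicOpen b) ≫ X.presheaf.map (homOfLE hVUb).op := rfl
    haveI : IsIso (homOfLE hVUb) := ⟨homOfLE hUbV, rfl, rfl⟩
    show Function.Injective (f.appLE (Y.basicOpen b) V hVUb).hom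
    rw [e1, CommRingCat.hom_comp]
    exact (ConcreteCategory.bijective_of_isIso
      (X.presheaf.map (homOfLE hVUb).op)).1.comp (hd _)
  · have hcomp : g.appLE (Z.basicOpen c) (Y.basicOpen b) hUbWc ≫
        f.appLE (Y.basicOpen b) V hVUb = h.app (Z.basicOpen c) := by
      rw [Scheme.Hom.appLE_comp_appLE, Scheme.Hom.appLE_eq_app]
    show IsLocHom ((f.appLE (Y.basicOpen b) V hVUb).hom.comp
      (g.appLE (Z.basicOpen c) (Y.basicOpen b) hUbWc).hom)
    rw [← CommRingCat.hom_comp, hcomp]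
    refine isLocHom_of_localization_away (h.app W).hom
      (Z.presheaf.map (homOfLE hWcW).op).hom
      (X.presheaf.map (homOfLE hVX').op).hom (h.app (Z.basicOpen c)).hom ?_ hloc c ?_ ?_
    · have : Z.presheaf.map (homOfLE hWcW).op ≫ h.app (Z.basicOpen c) =
          h.app W ≫ X.presheaf.map (homOfLE hVX').op := by
        rw [Scheme.Hom.app_eq_appLE, Scheme.Hom.map_appLE, Scheme.Hom.app_eq_appLE,
          Scheme.Hom.appLE_map]
      have h2 := congrArg CommRingCat.Hom.hom this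
      simpa only [CommRingCat.hom_comp] using h2
    · exact hW.isLocalization_of_eq_basicOpen c (homOfLE hWcW) rfl
    · exact hX'.isLocalization_of_eq_basicOpen ((h.app W).hom c) (homOfLE hVX') hVeq

end Groth.Agent.Lib.LocImm6_helper6
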