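import Groth.Agent.Lib.LocImm2_helper6

set_option autoImplicit false
universe u
open CategoryTheory CategoryTheory.Limits AlgebraicGeometry TopologicalSpace IsLocalRing

namespace Groth.Agent.Lib.LocImm7_helper6

open LocImm Groth.Agent.Lib.LocImm_helper6 Groth.Agent.Lib.LocImm2_helper6

theorem exists_maximal_generization {X : Scheme.{u}} (x : X) :
    ∃ ξ : X, ξ ⤳ x ∧ ∀ ξ' : X, ξ' ⤳ ξ → ξ' = ξ := by
  obtain ⟨ξ, hξ⟩ := QuasiSober.sober (isIrreducible_irreducibleComponent (x := x))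
    isClosed_irreducibleComponent
  refine ⟨ξ, ?_, ?_⟩
  · rw [specializes_iff_mem_closure, hξ.def]; exact mem_irreducibleComponent
  · intro ξ' h
    have h1 : irreducibleComponent x ⊆ closure {ξ'} := by
      rw [← hξ.def]
      exact closure_minimal (Set.singleton_subset_iff.mpr (specializes_iff_mem_closure.mp h))
        isClosed_closure
    have h2 : closure {ξ'} ⊆ irreducibleComponent x :=
      (irreducibleComponent_mem_irreducibleComponents x).2 isIrreducible_singleton.closure h1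
    have h3 : IsGenericPoint ξ' (irreducibleComponent x) := Set.Subset.antisymm h2 h1
    exact h3.eq hξ

theorem eq_of_specializes_of_map_eq {X Y : Scheme.{u}} (f : X ⟶ Y) (hf : IsLocalizing f)
    {x ξ ξ' : X} (h : ξ ⤳ x) (h' : ξ' ⤳ x) (he : f ξ = f ξ') : ξ = ξ' := by
  obtain ⟨U, V, hxV, e, hloc⟩ := hf x
  haveI := mono_ι_comp_of_isLocHom f U V e hloc
  have hξ : ξ ∈ V.1 := h.mem_open V.1.2 hxV
  have hξ' : ξ' ∈ V.1 := h'.mem_open V.1.2 hxV
  have key : (V.1.ι ≫ f) ⟨ξ, hξ⟩ = (V.1.ι ≫ f) ⟨ξ', hξ'⟩ := he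
  exact congrArg Subtype.val ((V.1.ι ≫ f).injective key)

theorem exists_common_generization {X Y : Scheme.{u}} (f : X ⟶ Y) (hf : IsLocalizing f)
    (hinj : Set.InjOn (fun x => f x) {x : X | ∀ x' : X, x' ⤳ x → x' = x}) {x₁ x₂ : X}
    (h12 : f x₁ = f x₂) : ∃ ξ : X, ξ ⤳ x₁ ∧ ξ ⤳ x₂ := by
  haveI := flat_of_isLocalizing f hf
  have hgen := Flat.generalizingMap f
  obtain ⟨ξ₁, hξ₁, hmax₁⟩ := exists_maximal_generization x₁
  have h1 : f ξ₁ ⤳ f x₂ := by rw [← h12]; exact hξ₁.map f.continuous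
  obtain ⟨ξ₂, hξ₂, hfξ₂⟩ := hgen h1
  have hmax₂ : ∀ ξ' : X, ξ' ⤳ ξ₂ → ξ' = ξ₂ := by
    intro ξ' hξ'
    have h2 : f ξ' ⤳ f ξ₁ := by rw [← hfξ₂]; exact hξ'.map f.continuous
    obtain ⟨ξ₁', hξ₁', hfξ₁'⟩ := hgen h2
    have h3 : ξ₁' = ξ₁ := hmax₁ _ hξ₁'
    rw [h3] at hfξ₁'
    exact eq_of_specializes_of_map_eq f hf hξ' specializes_rfl (hfξ₁'.symm.trans hfξ₂.symm)
  have h4 : ξ₂ = ξ₁ := hinj hmax₂ hmax₁ hfξ₂
  rw [h4] at hξ₂
  exact ⟨ξ₁, hξ₁, hξ₂⟩

theorem eq_of_common_generization {X Y : Scheme.{u}} (f : X ⟶ Y) (hf : IsLocalizing f)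
    [IsSeparated f] {x₁ x₂ ξ : X} (hξ₁ : ξ ⤳ x₁) (hξ₂ : ξ ⤳ x₂) (h12 : f x₁ = f x₂) :
    x₁ = x₂ := by
  haveI hflat := flat_of_isLocalizing f hf
  obtain ⟨U₂, V₂, hx₂V, e₂, hloc₂⟩ := hf x₂
  let m₂ := V₂.1.ι ≫ f
  haveI hm₂ : Mono m₂ := mono_ι_comp_of_isLocHom f U₂ V₂ e₂ hloc₂
  haveI : Flat m₂ := inferInstance
  let x₂' : V₂.1.toScheme := ⟨x₂, hx₂V⟩
  let α₀ : X.presheaf.stalk x₁ ⟶ X.residueField ξ :=
    X.presheaf.stalkSpecializes hξ₁ ≫ X.residue ξ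
  obtain ⟨A, hA, hAloc⟩ := IsLocalRing.exists_factor_valuationRing α₀.hom
  let α : X.presheaf.stalk x₁ ⟶ CommRingCat.of A :=
    CommRingCat.ofHom (α₀.hom.codRestrict _ hA)
  let l₁ : Spec (CommRingCat.of A) ⟶ X := Spec.map α ≫ X.fromSpecStalk x₁
  let ιK : Spec (X.residueField ξ) ⟶ Spec (CommRingCat.of A) :=
    Spec.map (CommRingCat.ofHom (algebraMap A (X.residueField ξ)))
  have fact1 : ιK ≫ l₁ = X.fromSpecResidueField ξ := by
    rw [Scheme.fromSpecResidueField, ← Scheme.SpecMap_stalkSpecializes_fromSpecStalk hξ₁]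
    simp only [ιK, l₁, ← Spec.map_comp_assoc]
    rfl
  have fact2 : l₁ (closedPoint A) = x₁ := by
    have : Spec.map α (closedPoint A) = closedPoint (X.presheaf.stalk x₁) :=
      comap_closedPoint (S := A) (α₀.hom.codRestrict A.toSubring hA)
    show X.fromSpecStalk x₁ (Spec.map α (closedPoint A)) = x₁
    rw [this, Scheme.fromSpecStalk_closedPoint]
  let i₂ := l₁ ≫ f
  have e : i₂ (closedPoint A) = m₂ x₂' := by
    show f (l₁ (closedPoint A)) = f x₂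
    rw [fact2, h12]
  let β := Scheme.stalkClosedPointTo i₂
  let β' : Y.presheaf.stalk (m₂ x₂') ⟶ CommRingCat.of A :=
    Y.presheaf.stalkSpecializes (specializes_of_eq e) ≫ β
  haveI := isIso_stalkMap_of_flat_of_mono m₂ x₂'
  let l₂' : Spec (CommRingCat.of A) ⟶ V₂.1.toScheme :=
    Spec.map (inv (m₂.stalkMap x₂') ≫ β') ≫ V₂.1.toScheme.fromSpecStalk x₂'
  have fact3 : l₂' ≫ m₂ = i₂ := by
    have h1 : V₂.1.toScheme.fromSpecStalk x₂' ≫ m₂ =
        Spec.map (m₂.stalkMap x₂') ≫ Y.fromSpecStalk (m₂ x₂') :=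
      (Scheme.SpecMap_stalkMap_fromSpecStalk m₂ (x := x₂')).symm
    have h2 : Spec.map (Y.presheaf.stalkSpecializes (specializes_of_eq e)) ≫
        Y.fromSpecStalk (m₂ x₂') = Y.fromSpecStalk (i₂ (closedPoint A)) :=
      Scheme.SpecMap_stalkSpecializes_fromSpecStalk (specializes_of_eq e)
    have h3 : Spec.map β ≫ Y.fromSpecStalk (i₂ (closedPoint A)) = i₂ :=
      Scheme.Spec_stalkClosedPointTo_fromSpecStalk i₂
    calc l₂' ≫ m₂ = Spec.map (inv (m₂.stalkMap x₂') ≫ β') ≫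
          (V₂.1.toScheme.fromSpecStalk x₂' ≫ m₂) := Category.assoc _ _ _
      _ = Spec.map (inv (m₂.stalkMap x₂') ≫ β') ≫ Spec.map (m₂.stalkMap x₂') ≫
          Y.fromSpecStalk (m₂ x₂') := by rw [h1]
      _ = Spec.map (m₂.stalkMap x₂' ≫ inv (m₂.stalkMap x₂') ≫ β') ≫
          Y.fromSpecStalk (m₂ x₂') := by rw [Spec.map_comp (m₂.stalkMap x₂'), Category.assoc]
      _ = Spec.map β' ≫ Y.fromSpecStalk (m₂ x₂') := by rw [IsIso.hom_inv_id_assoc]
      _ = Spec.map β ≫ Spec.map (Y.presheaf.stalkSpecializes (specializes_of_eq e)) ≫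
          Y.fromSpecStalk (m₂ x₂') := by rw [Spec.map_comp, Category.assoc]
      _ = i₂ := by rw [h2, h3]
  let l₂ : Spec (CommRingCat.of A) ⟶ X := l₂' ≫ V₂.1.ι
  have fact3' : l₂ ≫ f = i₂ := by
    show (l₂' ≫ V₂.1.ι) ≫ f = i₂
    rw [Category.assoc]; exact fact3
  have hξV : ξ ∈ V₂.1 := hξ₂.mem_open V₂.1.2 hx₂V
  let k : Spec (X.residueField ξ) ⟶ V₂.1.toScheme :=
    IsOpenImmersion.lift V₂.1.ι (X.fromSpecResidueField ξ) (by
      rw [Scheme.range_fromSpecResidueField, Scheme.Opens.range_ι]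
      exact Set.singleton_subset_iff.mpr hξV)
  have hk : k ≫ V₂.1.ι = X.fromSpecResidueField ξ := IsOpenImmersion.lift_fac _ _ _
  have fact4' : ιK ≫ l₂' = k := by
    rw [← cancel_mono m₂, Category.assoc, fact3]
    show ιK ≫ l₁ ≫ f = k ≫ V₂.1.ι ≫ f
    rw [← Category.assoc, fact1, ← Category.assoc, hk]
  have fact4 : ιK ≫ l₂ = ιK ≫ l₁ := by
    show ιK ≫ l₂' ≫ V₂.1.ι = _
    rw [← Category.assoc, fact4', hk, fact1]
  have huniq := IsSeparated.valuativeCriterion f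
  let S : ValuativeCommSq f :=
    { R := A, K := X.residueField ξ, i₁ := ιK ≫ l₁, i₂ := i₂,
      commSq := ⟨Category.assoc _ _ _⟩, .. }
  haveI hsub : Subsingleton S.commSq.LiftStruct := huniq S
  let L₁ : S.commSq.LiftStruct := ⟨l₁, rfl, rfl⟩
  let L₂ : S.commSq.LiftStruct := ⟨l₂, fact4, fact3'⟩
  have hL : L₁ = L₂ := Subsingleton.elim _ _
  have hl : l₁ = l₂ := congrArg CommSq.LiftStruct.l hL
  have h5 : l₂' (closedPoint A) = x₂' := by
    apply m₂.injective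
    show (l₂' ≫ m₂) (closedPoint A) = m₂ x₂'
    rw [fact3]; exact e
  calc x₁ = l₁ (closedPoint A) := fact2.symm
    _ = l₂ (closedPoint A) := by rw [hl]
    _ = V₂.1.ι (l₂' (closedPoint A)) := rfl
    _ = x₂ := by rw [h5]; rfl

theorem injective_iff {X Y : Scheme.{u}} (f : X ⟶ Y) (hf : IsLocalizing f) :
    Function.Injective f.base ↔ (IsSeparated f ∧
      Set.InjOn (fun x => f x) {x : X | ∀ x' : X, x' ⤳ x → x' = x}) := by
  constructor
  · intro hinj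
    haveI := mono_of_isLocImmersion f ⟨hf, hinj⟩
    exact ⟨inferInstance, fun a _ b _ hab => hinj hab⟩
  · rintro ⟨hsep, hinj⟩ x₁ x₂ h12
    obtain ⟨ξ, h1, h2⟩ := exists_common_generization f hf hinj h12
    exact eq_of_common_generization f hf h1 h2 h12

end Groth.Agent.Lib.LocImm7_helper6
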