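import Mathlib
import Groth.Prelude.Def_W4c5cptfessfintypeLocImm

/-!
# An essentially finite-type algebra inducing an isomorphism on one local ring is a localization
near that point (helper6)
-/

set_option autoImplicit false
set_option linter.all false
universe u
open TopologicalSpace

namespace Groth.Agent.Lib.LocImm8_helper6

open LocImm

section Alg

variable {A B : Type u} [CommRing A] [CommRing B] [Algebra A B]

/-- a uniform annihilator of the kernel of `A → A_p` -/
theorem exists_uniform_annihilator [IsNoetherianRing A] (p : Ideal A) [p.IsPrime] :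
    ∃ s ∈ p.primeCompl, ∀ a : A, (∃ t ∈ p.primeCompl, t * a = 0) → s * a = 0 := by
  classical
  let J : Ideal A :=
    { carrier := {a | ∃ t ∈ p.primeCompl, t * a = 0}
      add_mem' := by
        rintro a b ⟨t, ht, hta⟩ ⟨t', ht', htb⟩
        refine ⟨t * t', p.primeCompl.mul_mem ht ht', ?_⟩
        rw [mul_add, mul_right_comm, hta, zero_mul, mul_assoc, htb, mul_zero, add_zero]
      zero_mem' := ⟨1, p.primeCompl.one_mem, by simp⟩
      smul_mem' := by
        rintro c a ⟨t, ht, hta⟩
        refine ⟨t, ht, ?_⟩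
        rw [smul_eq_mul, mul_left_comm, hta, mul_zero] }
  obtain ⟨σ, hσ⟩ := (isNoetherianRing_iff_ideal_fg A).mp inferInstance J
  have hmem : ∀ a ∈ σ, ∃ t ∈ p.primeCompl, t * a = 0 := by
    intro a ha
    have : a ∈ J := hσ ▸ Ideal.subset_span ha
    exact this
  choose! t ht hta using hmem
  refine ⟨∏ a ∈ σ, t a, ?_, ?_⟩
  · exact p.primeCompl.prod_mem (fun a ha => ht a ha)
  · intro a ha
    have haJ : a ∈ Ideal.span (σ : Set A) := by
      rw [hσ]
      exact ha
    refine Submodule.span_induction (p := fun a _ => (∏ a ∈ σ, t a) * a = 0) ?_ ?_ ?_ ?_ haJ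
    · intro x hx
      obtain ⟨c, hc⟩ := Finset.dvd_prod_of_mem t hx
      rw [hc, mul_right_comm, hta x hx, zero_mul]
    · simp
    · intro x y _ _ hx hy
      rw [mul_add, hx, hy, add_zero]
    · intro c x _ hx
      rw [smul_eq_mul, mul_left_comm, hx, mul_zero]

variable (q : Ideal B) [q.IsPrime] {A' B' : Type u} [CommRing A'] [CommRing B'] [Algebra A A']
  [Algebra B B'] [IsLocalization.AtPrime A' (q.comap (algebraMap A B))] [IsLocalization.AtPrime B' q]
  (ψ : A' →+* B') (hψ : ψ.comp (algebraMap A A') = (algebraMap B B').comp (algebraMap A B))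

include hψ in
/-- from surjectivity of `ψ`: elements of `B` are fractions near `q` -/
theorem exists_fraction (hsurj : Function.Surjective ψ) (x : B) :
    ∃ (a : A) (s : A) (u : B), s ∈ (q.comap (algebraMap A B)).primeCompl ∧ u ∈ q.primeCompl ∧
      u * (algebraMap A B s * x - algebraMap A B a) = 0 := by
  obtain ⟨z, hz⟩ := hsurj (algebraMap B B' x)
  obtain ⟨⟨a, s⟩, has⟩ := IsLocalization.surj (q.comap (algebraMap A B)).primeCompl z
  -- z * s = a in A'
  have h1 : algebraMap B B' x * algebraMap B B' (algebraMap A B s) =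
      algebraMap B B' (algebraMap A B a) := by
    have e1 : ψ (algebraMap A A' s) = algebraMap B B' (algebraMap A B s) :=
      RingHom.congr_fun hψ s
    have e2 : ψ (algebraMap A A' a) = algebraMap B B' (algebraMap A B a) :=
      RingHom.congr_fun hψ a
    rw [← hz, ← e1, ← e2, ← map_mul, has]
  rw [← map_mul] at h1
  obtain ⟨u, hu⟩ := (IsLocalization.eq_iff_exists q.primeCompl B').mp h1
  refine ⟨a, s, u, s.2, u.2, ?_⟩
  rw [mul_sub, sub_eq_zero, mul_comm (algebraMap A B s) x]
  exact hu

include hψ in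
/-- from injectivity of `ψ`: the kernel of `A → B_c` consists of elements killed near `p` -/
theorem exists_annihilator_of_map_eq_zero (hinj : Function.Injective ψ) (a : A) (u : B)
    (hu : u ∈ q.primeCompl) (h : u * algebraMap A B a = 0) :
    ∃ t ∈ (q.comap (algebraMap A B)).primeCompl, t * a = 0 := by
  have h1 : algebraMap B B' (algebraMap A B a) = 0 := by
    have := congrArg (algebraMap B B') h
    rw [map_mul, map_zero] at this
    exact ((IsLocalization.map_units B' ⟨u, hu⟩).mul_right_eq_zero).mp this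
  have h2 : ψ (algebraMap A A' a) = 0 := (RingHom.congr_fun hψ a).trans h1
  have h3 : algebraMap A A' a = 0 := hinj (h2.trans (map_zero ψ).symm)
  obtain ⟨t, ht⟩ := (IsLocalization.map_eq_zero_iff (q.comap (algebraMap A B)).primeCompl A' a).mp h3
  exact ⟨t, t.2, ht⟩

include hψ in
theorem exists_isLocHom_away [IsNoetherianRing A] [Algebra.EssFiniteType A B]
    (hbij : Function.Bijective ψ) :
    ∃ b : B, b ∉ q ∧ ∀ c : B, b ∣ c → c ∉ q → ∀ (C : Type u) [CommRing C] [Algebra B C]
      [IsLocalization.Away c C], IsLocHom ((algebraMap B C).comp (algebraMap A B)) := by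
  classical
  obtain ⟨σ, hσ⟩ := (Algebra.essFiniteType_iff A B).mp ‹Algebra.EssFiniteType A B›
  obtain ⟨s'', hs'', hann⟩ := exists_uniform_annihilator (q.comap (algebraMap A B))
  have hfr := fun x : B => exists_fraction q ψ hψ hbij.2 x
  choose a s u hs hu hfrac using hfr
  have hs₀ : (∏ x ∈ σ, s x) ∈ (q.comap (algebraMap A B)).primeCompl :=
    Submonoid.prod_mem _ (fun x _ => hs x)
  have hu₀ : (∏ x ∈ σ, u x) ∈ q.primeCompl := Submonoid.prod_mem _ (fun x _ => hu x)
  refine ⟨algebraMap A B (∏ x ∈ σ, s x) * algebraMap A B s'' * ∏ x ∈ σ, u x, ?_, ?_⟩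
  · exact q.primeCompl.mul_mem (q.primeCompl.mul_mem hs₀ hs'') hu₀
  · intro c hbc hcq C _ _ _
    letI : Algebra A C := ((algebraMap B C).comp (algebraMap A B)).toAlgebra
    haveI : IsScalarTower A B C := IsScalarTower.of_algebraMap_eq' rfl
    have hχ : ∀ r : A, algebraMap A C r = algebraMap B C (algebraMap A B r) := fun r => rfl
    have hcunit : IsUnit (algebraMap B C c) := IsLocalization.Away.algebraMap_isUnit c
    have hdvd_unit : ∀ d : B, d ∣ c → IsUnit (algebraMap B C d) := fun d hd =>
      isUnit_of_dvd_unit (map_dvd _ hd) hcunit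
    have hsM : ∀ x ∈ σ, IsUnit (algebraMap A C (s x)) := by
      intro x hx
      rw [hχ]
      apply hdvd_unit
      refine dvd_trans ?_ hbc
      refine Dvd.dvd.mul_right (Dvd.dvd.mul_right (map_dvd _ (Finset.dvd_prod_of_mem s hx)) _) _
    have huM : ∀ x ∈ σ, IsUnit (algebraMap B C (u x)) := by
      intro x hx
      apply hdvd_unit
      refine dvd_trans ?_ hbc
      exact Dvd.dvd.mul_left (Finset.dvd_prod_of_mem u hx) _
    have hs''M : IsUnit (algebraMap A C s'') := by
      rw [hχ]
      apply hdvd_unit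
      refine dvd_trans ?_ hbc
      exact Dvd.dvd.mul_right (Dvd.intro_left _ rfl) _
    -- the subalgebra of fractions
    let R : Subalgebra A C :=
      { carrier := {z | ∃ (r : A) (m : A), IsUnit (algebraMap A C m) ∧
          z * algebraMap A C m = algebraMap A C r}
        mul_mem' := by
          rintro z z' ⟨r, m, hm, h⟩ ⟨r', m', hm', h'⟩
          refine ⟨r * r', m * m', ?_, ?_⟩
          · rw [map_mul]; exact hm.mul hm'
          · rw [map_mul, map_mul, ← h, ← h']; ring
        add_mem' := by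
          rintro z z' ⟨r, m, hm, h⟩ ⟨r', m', hm', h'⟩
          refine ⟨r * m' + r' * m, m * m', ?_, ?_⟩
          · rw [map_mul]; exact hm.mul hm'
          · rw [map_mul, map_add, map_mul, map_mul, ← h, ← h']; ring
        algebraMap_mem' := by
          intro r
          exact ⟨r, 1, by rw [map_one]; exact isUnit_one, by rw [map_one, mul_one]⟩ }
    have hRmem : ∀ z : C, z ∈ R ↔ ∃ (r : A) (m : A), IsUnit (algebraMap A C m) ∧
        z * algebraMap A C m = algebraMap A C r := fun z => Iff.rfl
    have hinv : ∀ z ∈ R, IsUnit z → ∃ z' ∈ R, z * z' = 1 := by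
      rintro z ⟨r, m, hm, h⟩ hz
      have hr : IsUnit (algebraMap A C r) := by rw [← h]; exact hz.mul hm
      obtain ⟨w, hw⟩ := hz
      refine ⟨↑w⁻¹, ⟨m, r, hr, ?_⟩, ?_⟩
      · rw [← h, ← hw]
        rw [mul_comm (w : C), ← mul_assoc, mul_right_comm, Units.inv_mul, one_mul]
      · rw [← hw, Units.mul_inv]
    have hσR : ∀ x ∈ σ, algebraMap B C x ∈ R := by
      intro x hx
      refine ⟨a x, s x, hsM x hx, ?_⟩
      have h1 := congrArg (algebraMap B C) (hfrac x)
      rw [map_mul, map_zero, map_sub, map_mul] at h1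
      have h2 := ((huM x hx).mul_right_eq_zero).mp h1
      rw [sub_eq_zero] at h2
      rw [hχ, hχ, mul_comm]
      exact h2
    have hadj : ∀ y ∈ Algebra.adjoin A (σ : Set B), algebraMap B C y ∈ R := by
      have hle : Algebra.adjoin A (σ : Set B) ≤ R.comap (IsScalarTower.toAlgHom A B C) :=
        Algebra.adjoin_le (fun x hx => hσR x hx)
      intro y hy
      exact hle hy
    have hB : ∀ y : B, algebraMap B C y ∈ R := by
      intro y
      obtain ⟨t, ht, htu, hyt⟩ := hσ y
      obtain ⟨t', ht'R, ht'⟩ := hinv _ (hadj t ht) (htu.map (algebraMap B C))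
      have h1 : algebraMap B C y = algebraMap B C (y * t) * t' := by
        rw [map_mul, mul_assoc, ht', mul_one]
      rw [h1]
      exact R.mul_mem (hadj _ hyt) ht'R
    have hC : ∀ z : C, z ∈ R := by
      intro z
      obtain ⟨c', hc'R, hc'⟩ := hinv _ (hB c) hcunit
      obtain ⟨⟨y, ⟨_, n, rfl⟩⟩, h⟩ := IsLocalization.surj (Submonoid.powers c) z
      have h' : z * algebraMap B C (c ^ n) = algebraMap B C y := h
      have h1 : z = algebraMap B C y * c' ^ n := by
        rw [← h', map_pow, mul_assoc, ← mul_pow, hc', one_pow, mul_one]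
      rw [h1]
      exact R.mul_mem (hB y) (R.pow_mem hc'R n)
    refine ⟨(IsUnit.submonoid C).comap (algebraMap A C), ?_⟩
    refine ⟨⟨?_, ?_, ?_⟩⟩
    · rintro ⟨m, hm⟩
      exact hm
    · intro z
      obtain ⟨r, m, hm, h⟩ := hC z
      exact ⟨⟨r, ⟨m, hm⟩⟩, h⟩
    · intro a₁ a₂ h12
      have h0 : algebraMap B C (algebraMap A B (a₁ - a₂)) = 0 := by
        rw [← hχ, map_sub, h12, sub_self]
      obtain ⟨⟨_, n, rfl⟩, hn⟩ := (IsLocalization.map_eq_zero_iff (Submonoid.powers c) C _).mp h0
      have hcn : c ^ n ∈ q.primeCompl := q.primeCompl.pow_mem hcq n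
      obtain ⟨t, ht, htd⟩ := exists_annihilator_of_map_eq_zero q ψ hψ hbij.1 (a₁ - a₂) (c ^ n)
        hcn hn
      have h1 := hann (a₁ - a₂) ⟨t, ht, htd⟩
      refine ⟨⟨s'', hs''M⟩, ?_⟩
      show s'' * a₁ = s'' * a₂
      rw [mul_sub, sub_eq_zero] at h1
      exact h1

end Alg

end Groth.Agent.Lib.LocImm8_helper6
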