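import Mathlib

/-!
# `Spec A_p` is the cofiltered limit of the `Spec A_f`, `f ∉ p` (helper7)

* `Idx A p`: the elements outside the prime `p`, preordered by divisibility.
* `G A p : Idx A p ⥤ CommRingCat`: `f ↦ A_f`; `cocone`, `isColimit`: its colimit is `A_p`.
* `DS A p : (Idx A p)ᵒᵖ ⥤ Scheme`, `coneS`, `isLimitConeS`, `toBase`, `coneS_π_toBase`.
-/

set_option autoImplicit false
set_option linter.style.haveILetI false
universe u
open CategoryTheory CategoryTheory.Limits AlgebraicGeometry

namespace Groth.Agent.Lib.LocAwayLimH7

section Ring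

variable {A : Type u} [CommRing A]

/-- `A_f → A_g` for `f ∣ g`. -/
noncomputable def awayLift {f g : A} (h : f ∣ g) : Localization.Away f →+* Localization.Away g :=
  IsLocalization.Away.lift (S := Localization.Away f) f
    (g := algebraMap A (Localization.Away g))
    (isUnit_of_dvd_unit (map_dvd (algebraMap A (Localization.Away g)) h)
      (IsLocalization.Away.algebraMap_isUnit g))

lemma awayLift_comp {f g : A} (h : f ∣ g) :
    (awayLift h).comp (algebraMap A (Localization.Away f)) =
      algebraMap A (Localization.Away g) :=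
  IsLocalization.Away.lift_comp _ _

lemma away_hom_ext {f : A} {B : Type*} [CommRing B] (φ ψ : Localization.Away f →+* B)
    (h : φ.comp (algebraMap A (Localization.Away f)) =
      ψ.comp (algebraMap A (Localization.Away f))) : φ = ψ :=
  IsLocalization.ringHom_ext (Submonoid.powers f) h

end Ring

variable (A : Type u) [CommRing A] (p : Ideal A) [p.IsPrime]

/-- Elements outside `p`, preordered by divisibility. -/
structure Idx : Type u where
  /-- the element -/
  val : A
  /-- it lies outside `p` -/
  mem : val ∈ p.primeCompl

instance : Preorder (Idx A p) where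
  le f g := f.val ∣ g.val
  le_refl f := dvd_refl _
  le_trans _ _ _ h1 h2 := dvd_trans h1 h2

/-- the index `1` -/
def one : Idx A p := ⟨1, p.primeCompl.one_mem⟩

lemma one_le (f : Idx A p) : one A p ≤ f := one_dvd _

instance : Nonempty (Idx A p) := ⟨one A p⟩

instance : IsDirectedOrder (Idx A p) :=
  ⟨fun a b => ⟨⟨a.val * b.val, p.primeCompl.mul_mem a.mem b.mem⟩,
    Dvd.intro _ rfl, Dvd.intro_left _ rfl⟩⟩

instance : IsFiltered (Idx A p) := isFiltered_of_directed_le_nonempty _

/-- `f ↦ A_f`. -/
noncomputable def G : Idx A p ⥤ CommRingCat.{u} where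
  obj f := CommRingCat.of (Localization.Away f.val)
  map {f g} h := CommRingCat.ofHom (awayLift (leOfHom h))
  map_id f := by
    refine CommRingCat.hom_ext (away_hom_ext _ _ ?_)
    rw [CommRingCat.hom_ofHom, awayLift_comp, CommRingCat.hom_id, RingHom.id_comp]
  map_comp h1 h2 := by
    refine CommRingCat.hom_ext (away_hom_ext _ _ ?_)
    rw [CommRingCat.hom_ofHom, awayLift_comp, CommRingCat.hom_comp, CommRingCat.hom_ofHom,
      CommRingCat.hom_ofHom, RingHom.comp_assoc, awayLift_comp, awayLift_comp]

/-- `A_f → A_p`. -/
noncomputable def toAtPrime (f : Idx A p) : Localization.Away f.val →+* Localization.AtPrime p :=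
  IsLocalization.Away.lift (S := Localization.Away f.val) f.val
    (g := algebraMap A (Localization.AtPrime p))
    (IsLocalization.map_units (Localization.AtPrime p) (⟨f.val, f.mem⟩ : p.primeCompl))

lemma toAtPrime_comp (f : Idx A p) :
    (toAtPrime A p f).comp (algebraMap A (Localization.Away f.val)) =
      algebraMap A (Localization.AtPrime p) :=
  IsLocalization.Away.lift_comp _ _

/-- The cocone with vertex `A_p`. -/
noncomputable def cocone : Cocone (G A p) where
  pt := CommRingCat.of (Localization.AtPrime p)
  ι :=
    { app := fun f => CommRingCat.ofHom (toAtPrime A p f)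
      naturality := fun f g h => by
        refine CommRingCat.hom_ext (away_hom_ext _ _ ?_)
        show ((CommRingCat.ofHom (awayLift (leOfHom h)) ≫
          CommRingCat.ofHom (toAtPrime A p g)).hom).comp (algebraMap A _) =
          ((CommRingCat.ofHom (toAtPrime A p f) ≫ 𝟙 _).hom).comp (algebraMap A _)
        rw [Category.comp_id, CommRingCat.hom_comp, CommRingCat.hom_ofHom, CommRingCat.hom_ofHom,
          CommRingCat.hom_ofHom, RingHom.comp_assoc, awayLift_comp, toAtPrime_comp,
          toAtPrime_comp] }

variable {A p}

lemma cocone_comp_alg_of_le (s : Cocone (G A p)) {f g : Idx A p} (h : f ≤ g) :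
    (s.ι.app f).hom.comp (algebraMap A (Localization.Away f.val)) =
      (s.ι.app g).hom.comp (algebraMap A (Localization.Away g.val)) := by
  have hw := s.w (homOfLE h)
  rw [← hw]
  show ((CommRingCat.ofHom (awayLift h) ≫ s.ι.app g).hom).comp _ = _
  rw [CommRingCat.hom_comp, CommRingCat.hom_ofHom, RingHom.comp_assoc, awayLift_comp]
  rfl

variable (A p)

/-- The map out of `A_p` induced by a cocone. -/
noncomputable def descHom (s : Cocone (G A p)) : Localization.AtPrime p →+* s.pt :=
  IsLocalization.lift (M := p.primeCompl) (S := Localization.AtPrime p)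
    (g := (s.ι.app (one A p)).hom.comp (algebraMap A (Localization.Away (one A p).val)))
    (fun y => by
      rw [cocone_comp_alg_of_le s (one_le A p ⟨y.1, y.2⟩)]
      exact (IsLocalization.Away.algebraMap_isUnit (S := Localization.Away y.1) y.1).map
        (s.ι.app ⟨y.1, y.2⟩).hom)

lemma descHom_comp (s : Cocone (G A p)) :
    (descHom A p s).comp (algebraMap A (Localization.AtPrime p)) =
      (s.ι.app (one A p)).hom.comp (algebraMap A (Localization.Away (one A p).val)) :=
  IsLocalization.lift_comp _

/-- `A_p` is the colimit of the `A_f`. -/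
noncomputable def isColimit : IsColimit (cocone A p) where
  desc s := CommRingCat.ofHom (descHom A p s)
  fac s f := by
    refine CommRingCat.hom_ext (away_hom_ext _ _ ?_)
    show ((CommRingCat.ofHom (toAtPrime A p f) ≫ CommRingCat.ofHom (descHom A p s)).hom).comp
      (algebraMap A _) = _
    rw [CommRingCat.hom_comp, CommRingCat.hom_ofHom, CommRingCat.hom_ofHom, RingHom.comp_assoc,
      toAtPrime_comp, descHom_comp, cocone_comp_alg_of_le s (one_le A p f)]
    rfl
  uniq s m hm := by
    have hm1 : CommRingCat.ofHom (toAtPrime A p (one A p)) ≫ m = s.ι.app (one A p) :=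
      hm (one A p)
    obtain ⟨m', rfl⟩ : ∃ m' : Localization.AtPrime p →+* s.pt, m = CommRingCat.ofHom m' :=
      ⟨m.hom, rfl⟩
    congr 1
    refine IsLocalization.ringHom_ext p.primeCompl ?_
    have h2 : m'.comp (toAtPrime A p (one A p)) = (s.ι.app (one A p)).hom :=
      congrArg CommRingCat.Hom.hom hm1
    calc m'.comp (algebraMap A (Localization.AtPrime p))
        = m'.comp ((toAtPrime A p (one A p)).comp
            (algebraMap A (Localization.Away (one A p).val))) := by rw [toAtPrime_comp]
      _ = (m'.comp (toAtPrime A p (one A p))).comp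
            (algebraMap A (Localization.Away (one A p).val)) := (RingHom.comp_assoc _ _ _).symm
      _ = (s.ι.app (one A p)).hom.comp (algebraMap A (Localization.Away (one A p).val)) :=
          congrArg (fun φ => φ.comp (algebraMap A (Localization.Away (one A p).val))) h2
      _ = (descHom A p s).comp (algebraMap A (Localization.AtPrime p)) :=
          (descHom_comp A p s).symm

/-- the diagram of affine schemes `Spec A_f` -/
noncomputable def DS : (Idx A p)ᵒᵖ ⥤ Scheme.{u} := (G A p).op ⋙ Scheme.Spec

/-- the cone with vertex `Spec A_p` -/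
noncomputable def coneS : Cone (DS A p) := Scheme.Spec.mapCone (cocone A p).op

/-- it is a limit cone -/
noncomputable def isLimitConeS : IsLimit (coneS A p) :=
  isLimitOfPreserves Scheme.Spec (isColimit A p).op

instance (i j : (Idx A p)ᵒᵖ) (f : i ⟶ j) : IsAffineHom ((DS A p).map f) :=
  show IsAffineHom (Spec.map _) from inferInstance

instance (i : (Idx A p)ᵒᵖ) : IsAffine ((DS A p).obj i) :=
  show IsAffine (Spec _) from inferInstance

/-- The structure maps `Spec A_f ⟶ Spec A`. -/
noncomputable def toBase : DS A p ⟶ (Functor.const _).obj (Spec (CommRingCat.of A)) where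
  app f := Spec.map (CommRingCat.ofHom (algebraMap A (Localization.Away f.unop.val)))
  naturality f g h := by
    show Spec.map (CommRingCat.ofHom (awayLift (leOfHom h.unop))) ≫ Spec.map _ = Spec.map _ ≫ 𝟙 _
    rw [Category.comp_id, ← Spec.map_comp, ← CommRingCat.ofHom_comp, awayLift_comp]

lemma coneS_π_toBase (f : (Idx A p)ᵒᵖ) :
    (coneS A p).π.app f ≫ (toBase A p).app f =
      Spec.map (CommRingCat.ofHom (algebraMap A (Localization.AtPrime p))) := by
  show Spec.map (CommRingCat.ofHom (toAtPrime A p f.unop)) ≫ Spec.map _ = _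
  rw [← Spec.map_comp, ← CommRingCat.ofHom_comp, toAtPrime_comp]

lemma toBase_app (f : (Idx A p)ᵒᵖ) :
    (toBase A p).app f =
      Spec.map (CommRingCat.ofHom (algebraMap A (Localization.Away f.unop.val))) := rfl

lemma DS_obj (f : (Idx A p)ᵒᵖ) :
    (DS A p).obj f = Spec (CommRingCat.of (Localization.Away f.unop.val)) := rfl

lemma coneS_pt : (coneS A p).pt = Spec (CommRingCat.of (Localization.AtPrime p)) := rfl

end Groth.Agent.Lib.LocAwayLimH7
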