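import Mathlib
import Groth.Agent.Lib.LocAwayLim_helper7

/-!
# `Spec L` for any localization `L` of `A` at `p` is the limit of the `Spec A_f`, `f ∉ p` (helper7)

Generalizes `LocAwayLim_helper7` from `Localization.AtPrime p` to any `L` with
`IsLocalization.AtPrime L p`.
-/

set_option autoImplicit false
set_option linter.style.haveILetI false
universe u
open CategoryTheory CategoryTheory.Limits AlgebraicGeometry

namespace Groth.Agent.Lib.LocAwayLimH7

variable (A : Type u) [CommRing A] (p : Ideal A) [p.IsPrime]
  (L : Type u) [CommRing L] [Algebra A L] [IsLocalization.AtPrime L p]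

/-- `A_f → L`. -/
noncomputable def toLoc (f : Idx A p) : Localization.Away f.val →+* L :=
  IsLocalization.Away.lift (S := Localization.Away f.val) f.val
    (g := algebraMap A L)
    (IsLocalization.map_units L (⟨f.val, f.mem⟩ : p.primeCompl))

lemma toLoc_comp (f : Idx A p) :
    (toLoc A p L f).comp (algebraMap A (Localization.Away f.val)) = algebraMap A L :=
  IsLocalization.Away.lift_comp _ _

/-- The cocone with vertex `L`. -/
noncomputable def coconeL : Cocone (G A p) where
  pt := CommRingCat.of L
  ι :=
    { app := fun f => CommRingCat.ofHom (toLoc A p L f)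
      naturality := fun f g h => by
        refine CommRingCat.hom_ext (away_hom_ext _ _ ?_)
        show ((CommRingCat.ofHom (awayLift (leOfHom h)) ≫
          CommRingCat.ofHom (toLoc A p L g)).hom).comp (algebraMap A _) =
          ((CommRingCat.ofHom (toLoc A p L f) ≫ 𝟙 _).hom).comp (algebraMap A _)
        rw [Category.comp_id, CommRingCat.hom_comp, CommRingCat.hom_ofHom, CommRingCat.hom_ofHom,
          CommRingCat.hom_ofHom, RingHom.comp_assoc, awayLift_comp, toLoc_comp,
          toLoc_comp] }

/-- The map out of `L` induced by a cocone. -/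
noncomputable def descHomL (s : Cocone (G A p)) : L →+* s.pt :=
  IsLocalization.lift (M := p.primeCompl) (S := L)
    (g := (s.ι.app (one A p)).hom.comp (algebraMap A (Localization.Away (one A p).val)))
    (fun y => by
      rw [cocone_comp_alg_of_le s (one_le A p ⟨y.1, y.2⟩)]
      exact (IsLocalization.Away.algebraMap_isUnit (S := Localization.Away y.1) y.1).map
        (s.ι.app ⟨y.1, y.2⟩).hom)

lemma descHomL_comp (s : Cocone (G A p)) :
    (descHomL A p L s).comp (algebraMap A L) =
      (s.ι.app (one A p)).hom.comp (algebraMap A (Localization.Away (one A p).val)) :=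
  IsLocalization.lift_comp _

/-- `L` is the colimit of the `A_f`. -/
noncomputable def isColimitL : IsColimit (coconeL A p L) where
  desc s := CommRingCat.ofHom (descHomL A p L s)
  fac s f := by
    refine CommRingCat.hom_ext (away_hom_ext _ _ ?_)
    show ((CommRingCat.ofHom (toLoc A p L f) ≫ CommRingCat.ofHom (descHomL A p L s)).hom).comp
      (algebraMap A _) = _
    rw [CommRingCat.hom_comp, CommRingCat.hom_ofHom, CommRingCat.hom_ofHom, RingHom.comp_assoc,
      toLoc_comp, descHomL_comp, cocone_comp_alg_of_le s (one_le A p f)]
    rfl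
  uniq s m hm := by
    have hm1 : CommRingCat.ofHom (toLoc A p L (one A p)) ≫ m = s.ι.app (one A p) :=
      hm (one A p)
    obtain ⟨m', rfl⟩ : ∃ m' : L →+* s.pt, m = CommRingCat.ofHom m' :=
      ⟨m.hom, rfl⟩
    congr 1
    refine IsLocalization.ringHom_ext p.primeCompl ?_
    have h2 : m'.comp (toLoc A p L (one A p)) = (s.ι.app (one A p)).hom :=
      congrArg CommRingCat.Hom.hom hm1
    calc m'.comp (algebraMap A L)
        = m'.comp ((toLoc A p L (one A p)).comp
            (algebraMap A (Localization.Away (one A p).val))) := by rw [toLoc_comp]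
      _ = (m'.comp (toLoc A p L (one A p))).comp
            (algebraMap A (Localization.Away (one A p).val)) := (RingHom.comp_assoc _ _ _).symm
      _ = (s.ι.app (one A p)).hom.comp (algebraMap A (Localization.Away (one A p).val)) :=
          congrArg (fun φ => φ.comp (algebraMap A (Localization.Away (one A p).val))) h2
      _ = (descHomL A p L s).comp (algebraMap A L) :=
          (descHomL_comp A p L s).symm

/-- the cone with vertex `Spec L` -/
noncomputable def coneSL : Cone (DS A p) := Scheme.Spec.mapCone (coconeL A p L).op

/-- it is a limit cone -/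
noncomputable def isLimitConeSL : IsLimit (coneSL A p L) :=
  isLimitOfPreserves Scheme.Spec (isColimitL A p L).op

lemma coneSL_π_toBase (f : (Idx A p)ᵒᵖ) :
    (coneSL A p L).π.app f ≫ (toBase A p).app f =
      Spec.map (CommRingCat.ofHom (algebraMap A L)) := by
  show Spec.map (CommRingCat.ofHom (toLoc A p L f.unop)) ≫ Spec.map _ = _
  rw [← Spec.map_comp, ← CommRingCat.ofHom_comp, toLoc_comp]

lemma coneSL_pt : (coneSL A p L).pt = Spec (CommRingCat.of L) := rfl

end Groth.Agent.Lib.LocAwayLimH7
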