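import Mathlib
import Groth.Agent.Lib.LocAwayLim2_helper7
import Groth.Agent.Lib.GlueOpenPushout_helper7

/-!
# Glueing morphisms near a closed point (helper7)

`X ⊇ U = X - {x}` with quasi-compact inclusion, `Y` locally of finite presentation over `S`:
`S`-morphisms `X ⟶ Y` are the same as compatible pairs of `S`-morphisms `U ⟶ Y`,
`Spec 𝒪_{X,x} ⟶ Y`.
-/

set_option autoImplicit false
set_option linter.style.haveILetI false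
universe u
open CategoryTheory CategoryTheory.Limits AlgebraicGeometry Opposite

namespace Groth.Agent.Lib.HomGlueH7

open Groth.Agent.Lib.LocAwayLimH7

section Uniq
variable {X Y : Scheme.{u}}

lemma appLE_eq_of_ι_comp_eq (g₁ g₂ : X ⟶ Y) (V : Y.Opens) (O : X.Opens)
    (e₁ : O ≤ g₁ ⁻¹ᵁ V) (e₂ : O ≤ g₂ ⁻¹ᵁ V) (h : O.ι ≫ g₁ = O.ι ≫ g₂) :
    g₁.appLE V O e₁ = g₂.appLE V O e₂ := by
  have h1 : g₁.resLE V O e₁ = g₂.resLE V O e₂ := by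
    rw [← cancel_mono V.ι, Scheme.Hom.resLE_comp_ι, Scheme.Hom.resLE_comp_ι, h]
  have h2 : (g₁.resLE V O e₁).appTop = (g₂.resLE V O e₂).appTop := by rw [h1]
  have h4 : V.topIso.hom ≫ g₁.appLE V O e₁ ≫ O.topIso.inv =
      V.topIso.hom ≫ g₂.appLE V O e₂ ≫ O.topIso.inv :=
    (Scheme.Hom.resLE_app_top g₁ e₁).symm.trans (h2.trans (Scheme.Hom.resLE_app_top g₂ e₂))
  exact (cancel_mono O.topIso.inv).mp ((cancel_epi V.topIso.hom).mp h4)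

lemma ι_comp_eq_of_appLE_eq (g₁ g₂ : X ⟶ Y) (V : Y.Opens) (hV : IsAffineOpen V) (W : X.Opens)
    (e₁ : W ≤ g₁ ⁻¹ᵁ V) (e₂ : W ≤ g₂ ⁻¹ᵁ V) (h : g₁.appLE V W e₁ = g₂.appLE V W e₂) :
    W.ι ≫ g₁ = W.ι ≫ g₂ := by
  haveI : IsAffine (V : Scheme.{u}) := hV
  have h1 : g₁.resLE V W e₁ = g₂.resLE V W e₂ := by
    apply ext_of_isAffine
    calc (g₁.resLE V W e₁).appTop
        = V.topIso.hom ≫ g₁.appLE V W e₁ ≫ W.topIso.inv := Scheme.Hom.resLE_app_top g₁ e₁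
      _ = V.topIso.hom ≫ g₂.appLE V W e₂ ≫ W.topIso.inv := by rw [h]
      _ = (g₂.resLE V W e₂).appTop := (Scheme.Hom.resLE_app_top g₂ e₂).symm
  rw [← Scheme.Hom.resLE_comp_ι g₁ e₁, ← Scheme.Hom.resLE_comp_ι g₂ e₂, h1]

lemma fromSpecStalk_appLE (X : Scheme.{u}) (x : X) (W : X.Opens) (hxW : x ∈ W)
    (e₀ : (⊤ : (Spec (X.presheaf.stalk x)).Opens) ≤ X.fromSpecStalk x ⁻¹ᵁ W) :
    (X.fromSpecStalk x).appLE W ⊤ e₀ =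
      X.presheaf.germ W x hxW ≫ (Scheme.ΓSpecIso (X.presheaf.stalk x)).inv := by
  have hid : ∀ (m : op (⊤ : (Spec (X.presheaf.stalk x)).Opens) ⟶ op ⊤),
      (Spec (X.presheaf.stalk x)).presheaf.map m = 𝟙 _ := by
    intro m
    rw [Subsingleton.elim m (𝟙 _), CategoryTheory.Functor.map_id]
  rw [Scheme.Hom.appLE, Scheme.fromSpecStalk_app hxW, Category.assoc, Category.assoc,
    ← Functor.map_comp, hid, Category.comp_id]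

theorem uniq (x : X) (U : X.Opens) (hU : (U : Set X) = {x}ᶜ)
    (g₁ g₂ : X ⟶ Y) (h1 : U.ι ≫ g₁ = U.ι ≫ g₂)
    (h2 : X.fromSpecStalk x ≫ g₁ = X.fromSpecStalk x ≫ g₂) : g₁ = g₂ := by
  have hpt : g₁ x = g₂ x := by
    have h3 := congrArg (fun f : Spec (X.presheaf.stalk x) ⟶ Y =>
      f (IsLocalRing.closedPoint _)) h2
    simp only [Scheme.Hom.comp_apply, Scheme.fromSpecStalk_closedPoint] at h3
    exact h3
  obtain ⟨_, ⟨V, hV, rfl⟩, hyV, -⟩ := Y.isBasis_affineOpens.exists_subset_of_mem_open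
    (Set.mem_univ (g₁ x)) isOpen_univ
  have hyV2 : g₂ x ∈ V := by rw [← hpt]; exact hyV
  obtain ⟨W, hWdef⟩ : ∃ W : X.Opens, W = g₁ ⁻¹ᵁ V ⊓ g₂ ⁻¹ᵁ V := ⟨_, rfl⟩
  have e₁ : W ≤ g₁ ⁻¹ᵁ V := hWdef ▸ inf_le_left
  have e₂ : W ≤ g₂ ⁻¹ᵁ V := hWdef ▸ inf_le_right
  have hxW : x ∈ W := by rw [hWdef]; exact ⟨hyV, hyV2⟩
  have keyx : g₁.appLE V W e₁ ≫ X.presheaf.germ W x hxW =
      g₂.appLE V W e₂ ≫ X.presheaf.germ W x hxW := by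
    have e₀ : (⊤ : (Spec (X.presheaf.stalk x)).Opens) ≤ X.fromSpecStalk x ⁻¹ᵁ W := by
      intro z _
      have hz : (X.fromSpecStalk x) z ⤳ x := by
        have hz' : (X.fromSpecStalk x) z ∈ Set.range (X.fromSpecStalk x) := ⟨z, rfl⟩
        rw [Scheme.range_fromSpecStalk] at hz'
        exact hz'
      exact hz.mem_open W.2 hxW
    have hcomp : ∀ (h h' : Spec (X.presheaf.stalk x) ⟶ Y) (_ : h = h')
        (l : ⊤ ≤ h ⁻¹ᵁ V) (l' : ⊤ ≤ h' ⁻¹ᵁ V), h.appLE V ⊤ l = h'.appLE V ⊤ l' := by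
      rintro h _ rfl _ _; rfl
    have c1 := Scheme.Hom.appLE_comp_appLE (X.fromSpecStalk x) g₁ V W ⊤ e₁ e₀
    have c2 := Scheme.Hom.appLE_comp_appLE (X.fromSpecStalk x) g₂ V W ⊤ e₂ e₀
    have c3 : g₁.appLE V W e₁ ≫ (X.fromSpecStalk x).appLE W ⊤ e₀ =
        g₂.appLE V W e₂ ≫ (X.fromSpecStalk x).appLE W ⊤ e₀ :=
      c1.trans ((hcomp _ _ h2 _ _).trans c2.symm)
    rw [fromSpecStalk_appLE X x W hxW e₀, ← Category.assoc, ← Category.assoc, cancel_mono] at c3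
    exact c3
  have hW : W.ι ≫ g₁ = W.ι ≫ g₂ := by
    apply ι_comp_eq_of_appLE_eq g₁ g₂ V hV W e₁ e₂
    refine CommRingCat.hom_ext (RingHom.ext fun s => ?_)
    refine TopCat.Presheaf.section_ext X.sheaf W _ _ (fun w hw => ?_)
    have key : g₁.appLE V W e₁ ≫ X.presheaf.germ W w hw =
        g₂.appLE V W e₂ ≫ X.presheaf.germ W w hw := by
      by_cases hwx : w = x
      · subst hwx
        exact keyx
      · have hwU : w ∈ U := by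
          have : w ∈ (U : Set X) := by rw [hU]; exact hwx
          exact this
        have hO : (W ⊓ U).ι ≫ g₁ = (W ⊓ U).ι ≫ g₂ := by
          rw [← X.homOfLE_ι (inf_le_right : W ⊓ U ≤ U), Category.assoc, Category.assoc, h1]
        have k1 := appLE_eq_of_ι_comp_eq g₁ g₂ V (W ⊓ U) (inf_le_left.trans e₁)
          (inf_le_left.trans e₂) hO
        have r1 := Scheme.Hom.appLE_map g₁ e₁ (homOfLE (inf_le_left : W ⊓ U ≤ W)).op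
        have r2 := Scheme.Hom.appLE_map g₂ e₂ (homOfLE (inf_le_left : W ⊓ U ≤ W)).op
        have hg : X.presheaf.germ W w hw =
            X.presheaf.map (homOfLE (inf_le_left : W ⊓ U ≤ W)).op ≫
              X.presheaf.germ (W ⊓ U) w ⟨hw, hwU⟩ :=
          (X.presheaf.germ_res (homOfLE inf_le_left) w ⟨hw, hwU⟩).symm
        rw [hg, ← Category.assoc, ← Category.assoc, r1, r2, k1]
    exact congrArg (fun φ : Γ(Y, V) ⟶ X.presheaf.stalk w => φ.hom s) key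
  have hcov : ∀ z : X, z ∈ Set.range U.ι ∨ z ∈ Set.range W.ι := by
    intro z
    by_cases hz : z = x
    · right
      rw [Scheme.Opens.range_ι, hz]
      exact hxW
    · left
      rw [Scheme.Opens.range_ι, hU]
      exact hz
  refine (GlueOpenPushoutH7.twoCover U.ι W.ι hcov).hom_ext g₁ g₂ ?_
  rintro (_ | _)
  · exact h1
  · exact hW

end Uniq

section Cat
variable {𝒞 : Type*} [Category 𝒞]

lemma catA {P O D₁ Y U' X C : 𝒞} (r₀ : P ⟶ O) (ι₀ : O ⟶ D₁) (g₁ : D₁ ⟶ Y) (ρ : O ⟶ U')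
    (a : U' ⟶ Y) (ιU : U' ⟶ X) [Mono ιU] (τ : D₁ ⟶ X) (ιP : P ⟶ C) (π₁ : C ⟶ D₁) (b : C ⟶ Y)
    (m : P ⟶ U') (hρ : ρ ≫ ιU = ι₀ ≫ τ) (hr₀ : r₀ ≫ ι₀ = ιP ≫ π₁) (hg₁ : π₁ ≫ g₁ = b)
    (hm : m ≫ ιU = ιP ≫ π₁ ≫ τ) (hab : ιP ≫ b = m ≫ a) :
    r₀ ≫ ι₀ ≫ g₁ = r₀ ≫ ρ ≫ a := by
  have h1 : r₀ ≫ ρ = m := by
    rw [← cancel_mono ιU, Category.assoc, hρ, ← Category.assoc, hr₀, Category.assoc, hm]
  rw [← Category.assoc, hr₀, Category.assoc, hg₁, hab, ← h1, Category.assoc]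

lemma catB {Ok O₀ D₁ D₂ Y U' X : 𝒞} (mk : Ok ⟶ O₀) (ι₀ : O₀ ⟶ D₁) (ιk : Ok ⟶ D₂) (dk : D₂ ⟶ D₁)
    (g₁ : D₁ ⟶ Y) (ρ : O₀ ⟶ U') (a : U' ⟶ Y) (ιU : U' ⟶ X) [Mono ιU] (τ : D₁ ⟶ X)
    (mr : Ok ⟶ U') (hm : mk ≫ ι₀ = ιk ≫ dk) (hρ : ρ ≫ ιU = ι₀ ≫ τ)
    (hmr : mr ≫ ιU = ιk ≫ dk ≫ τ) (hkeq : mk ≫ ι₀ ≫ g₁ = mk ≫ ρ ≫ a) :
    mr ≫ a = ιk ≫ dk ≫ g₁ := by
  have h1 : mk ≫ ρ = mr := by
    rw [← cancel_mono ιU, Category.assoc, hρ, ← Category.assoc, hm, Category.assoc, hmr]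
  rw [← h1, Category.assoc, ← hkeq, ← Category.assoc, hm, Category.assoc]

end Cat

section Exist

theorem exists_glue_of_limit {I : Type u} [Category.{u} I] [IsCofiltered I]
    {X Y S : Scheme.{u}} (p : X ⟶ S) (q : Y ⟶ S) [LocallyOfFinitePresentation q]
    (D : I ⥤ Scheme.{u}) [∀ {i j : I} (f : i ⟶ j), IsAffineHom (D.map f)]
    [∀ i, IsAffine (D.obj i)]
    (tX : D ⟶ (Functor.const I).obj X) [∀ i, IsOpenImmersion (tX.app i)]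
    (c : Cone D) (hc : IsLimit c)
    (σ : c.pt ⟶ X) (hσ : ∀ i, c.π.app i ≫ tX.app i = σ)
    (x : X) (hx : x ∈ Set.range σ)
    (U : X.Opens) (hU : (U : Set X) = {x}ᶜ) [QuasiCompact U.ι]
    (a : (U : Scheme.{u}) ⟶ Y) (b : c.pt ⟶ Y) (ha : a ≫ q = U.ι ≫ p) (hb : b ≫ q = σ ≫ p)
    (hab : (σ ⁻¹ᵁ U).ι ≫ b = (σ ∣_ U) ≫ a) :
    ∃ g : X ⟶ Y, g ≫ q = p ∧ U.ι ≫ g = a ∧ σ ≫ g = b := by
  classical
  let t : D ⟶ (Functor.const I).obj S := tX ≫ (Functor.const I).map p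
  have ht : ∀ i, t.app i = tX.app i ≫ p := fun i => rfl
  have hbt : c.π ≫ t = (Functor.const I).map (b ≫ q) := by
    ext i
    rw [NatTrans.comp_app, ht, ← Category.assoc, hσ i, hb]
    rfl
  obtain ⟨i₁, g₁, hg₁, hg₁q⟩ :=
    Scheme.exists_π_app_comp_eq_of_locallyOfFinitePresentation D t q c hc b hbt
  -- quasi-compactness of the preimages of `U`
  have hqc : ∀ {Z : Scheme.{u}} (f : Z ⟶ X), QuasiCompact (f ⁻¹ᵁ U).ι := fun f =>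
    MorphismProperty.of_isPullback (P := @QuasiCompact)
      (isPullback_morphismRestrict f U) inferInstance
  haveI hcpt : ∀ j : Over i₁, CompactSpace ((opensDiagram D i₁ (tX.app i₁ ⁻¹ᵁ U)).obj j) := by
    intro j
    exact @QuasiCompact.compactSpace_of_compactSpace _ _
      (D.map j.hom ⁻¹ᵁ (tX.app i₁ ⁻¹ᵁ U)).ι (hqc (D.map j.hom ≫ tX.app i₁)) inferInstance
  let t' : opensDiagram D i₁ (tX.app i₁ ⁻¹ᵁ U) ⟶ (Functor.const (Over i₁)).obj S :=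
    { app := fun j => (D.map j.hom ⁻¹ᵁ (tX.app i₁ ⁻¹ᵁ U)).ι ≫ t.app j.left
      naturality := fun j k f => by
        have hn : D.map f.left ≫ t.app k.left = t.app j.left :=
          (t.naturality f.left).trans (Category.comp_id _)
        refine Eq.trans ?_ (Category.comp_id _).symm
        show (D.map f.left).resLE _ _ _ ≫ (D.map k.hom ⁻¹ᵁ (tX.app i₁ ⁻¹ᵁ U)).ι ≫ t.app k.left =
          (D.map j.hom ⁻¹ᵁ (tX.app i₁ ⁻¹ᵁ U)).ι ≫ t.app j.left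
        rw [Scheme.Hom.resLE_comp_ι_assoc, hn] }
  have e₀ : D.map (Over.mk (𝟙 i₁)).hom ⁻¹ᵁ (tX.app i₁ ⁻¹ᵁ U) ≤ tX.app i₁ ⁻¹ᵁ U := by
    intro z hz
    have hz' : (D.map (𝟙 i₁)) z ∈ tX.app i₁ ⁻¹ᵁ U := hz
    rw [D.map_id] at hz'
    exact hz'
  have hρ : (tX.app i₁).resLE U _ e₀ ≫ U.ι =
      (D.map (Over.mk (𝟙 i₁)).hom ⁻¹ᵁ (tX.app i₁ ⁻¹ᵁ U)).ι ≫ tX.app i₁ :=
    Scheme.Hom.resLE_comp_ι _ e₀
  have ha' : t'.app (Over.mk (𝟙 i₁)) =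
      ((D.map (Over.mk (𝟙 i₁)).hom ⁻¹ᵁ (tX.app i₁ ⁻¹ᵁ U)).ι ≫ g₁) ≫ q := by
    show (D.map (Over.mk (𝟙 i₁)).hom ⁻¹ᵁ (tX.app i₁ ⁻¹ᵁ U)).ι ≫ t.app i₁ = _
    rw [Category.assoc, hg₁q]
  have hb' : t'.app (Over.mk (𝟙 i₁)) = ((tX.app i₁).resLE U _ e₀ ≫ a) ≫ q := by
    show (D.map (Over.mk (𝟙 i₁)).hom ⁻¹ᵁ (tX.app i₁ ⁻¹ᵁ U)).ι ≫ t.app i₁ = _
    rw [Category.assoc, ha, ← Category.assoc, hρ, Category.assoc, ht]
  have hab₁ : ((c.π.app i₁ ≫ tX.app i₁) ⁻¹ᵁ U).ι ≫ b =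
      ((c.π.app i₁ ≫ tX.app i₁) ∣_ U) ≫ a := by
    rw [hσ i₁]; exact hab
  have hab' : (opensCone D c i₁ (tX.app i₁ ⁻¹ᵁ U)).π.app (Over.mk (𝟙 i₁)) ≫
        ((D.map (Over.mk (𝟙 i₁)).hom ⁻¹ᵁ (tX.app i₁ ⁻¹ᵁ U)).ι ≫ g₁) =
      (opensCone D c i₁ (tX.app i₁ ⁻¹ᵁ U)).π.app (Over.mk (𝟙 i₁)) ≫
        ((tX.app i₁).resLE U _ e₀ ≫ a) := by
    have hr₀ : (opensCone D c i₁ (tX.app i₁ ⁻¹ᵁ U)).π.app (Over.mk (𝟙 i₁)) ≫
        (D.map (Over.mk (𝟙 i₁)).hom ⁻¹ᵁ (tX.app i₁ ⁻¹ᵁ U)).ι =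
        (c.π.app i₁ ⁻¹ᵁ (tX.app i₁ ⁻¹ᵁ U)).ι ≫ c.π.app i₁ :=
      Scheme.Hom.resLE_comp_ι _ _
    exact catA ((opensCone D c i₁ (tX.app i₁ ⁻¹ᵁ U)).π.app (Over.mk (𝟙 i₁)))
      (D.map (Over.mk (𝟙 i₁)).hom ⁻¹ᵁ (tX.app i₁ ⁻¹ᵁ U)).ι g₁ ((tX.app i₁).resLE U _ e₀) a U.ι
      (tX.app i₁) ((c.π.app i₁ ≫ tX.app i₁) ⁻¹ᵁ U).ι (c.π.app i₁) b
      ((c.π.app i₁ ≫ tX.app i₁) ∣_ U) hρ hr₀ hg₁ (morphismRestrict_ι _ _) hab₁
  obtain ⟨k, hk, hkeq⟩ := Scheme.exists_hom_comp_eq_comp_of_locallyOfFiniteType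
    (opensDiagram D i₁ (tX.app i₁ ⁻¹ᵁ U)) t' q
    (opensCone D c i₁ (tX.app i₁ ⁻¹ᵁ U)) (isLimitOpensCone D c hc i₁ (tX.app i₁ ⁻¹ᵁ U))
    (i := Over.mk (𝟙 i₁))
    ((D.map (Over.mk (𝟙 i₁)).hom ⁻¹ᵁ (tX.app i₁ ⁻¹ᵁ U)).ι ≫ g₁)
    ((tX.app i₁).resLE U _ e₀ ≫ a) ha' hb' hab'
  have hkl : hk.left = k.hom := by
    have := Over.w hk
    exact (Category.comp_id _).symm.trans this
  have hjk' : D.map k.hom ≫ tX.app i₁ = tX.app k.left :=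
    (tX.naturality k.hom).trans (Category.comp_id _)
  haveI : IsOpenImmersion (D.map k.hom ≫ tX.app i₁) := by rw [hjk']; infer_instance
  have hcov : ∀ z : X, z ∈ Set.range U.ι ∨ z ∈ Set.range (D.map k.hom ≫ tX.app i₁) := by
    intro z
    by_cases hz : z = x
    · right
      obtain ⟨w, hw⟩ := hx
      refine ⟨c.π.app k.left w, ?_⟩
      rw [hz, ← hw, hjk', ← Scheme.Hom.comp_apply, hσ k.left]
    · left
      rw [Scheme.Opens.range_ι, hU]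
      exact hz
  have hm : (opensDiagram D i₁ (tX.app i₁ ⁻¹ᵁ U)).map hk ≫
      (D.map (Over.mk (𝟙 i₁)).hom ⁻¹ᵁ (tX.app i₁ ⁻¹ᵁ U)).ι =
      (D.map k.hom ⁻¹ᵁ (tX.app i₁ ⁻¹ᵁ U)).ι ≫ D.map k.hom :=
    (Scheme.Hom.resLE_comp_ι _ _).trans
      (congrArg (fun f : k.left ⟶ i₁ => (D.map k.hom ⁻¹ᵁ (tX.app i₁ ⁻¹ᵁ U)).ι ≫ D.map f) hkl)
  have hglue : ((D.map k.hom ≫ tX.app i₁) ∣_ U) ≫ a =
      ((D.map k.hom ≫ tX.app i₁) ⁻¹ᵁ U).ι ≫ (D.map k.hom ≫ g₁) :=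
    catB ((opensDiagram D i₁ (tX.app i₁ ⁻¹ᵁ U)).map hk)
      (D.map (Over.mk (𝟙 i₁)).hom ⁻¹ᵁ (tX.app i₁ ⁻¹ᵁ U)).ι
      ((D.map k.hom ≫ tX.app i₁) ⁻¹ᵁ U).ι (D.map k.hom) g₁ ((tX.app i₁).resLE U _ e₀) a U.ι
      (tX.app i₁) ((D.map k.hom ≫ tX.app i₁) ∣_ U) hm hρ (morphismRestrict_ι _ _) hkeq
  obtain ⟨g, hgU, hgk⟩ := GlueOpenPushoutH7.exists_glue U.ι (D.map k.hom ≫ tX.app i₁) hcov
    ((D.map k.hom ≫ tX.app i₁) ∣_ U) ((D.map k.hom ≫ tX.app i₁) ⁻¹ᵁ U).ι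
    (isPullback_morphismRestrict (D.map k.hom ≫ tX.app i₁) U) a (D.map k.hom ≫ g₁) hglue
  refine ⟨g, ?_, hgU, ?_⟩
  · refine (GlueOpenPushoutH7.twoCover U.ι (D.map k.hom ≫ tX.app i₁) hcov).hom_ext _ _ ?_
    rintro (_ | _)
    · show U.ι ≫ g ≫ q = U.ι ≫ p
      rw [← Category.assoc, hgU, ha]
    · show (D.map k.hom ≫ tX.app i₁) ≫ g ≫ q = (D.map k.hom ≫ tX.app i₁) ≫ p
      rw [← Category.assoc, hgk, Category.assoc, hg₁q, ht, Category.assoc]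
  · rw [← hσ k.left, ← hjk', Category.assoc, hgk, ← Category.assoc, ← hg₁]
    congr 1
    exact c.w k.hom

theorem exists_of_loc {X Y S : Scheme.{u}} (p : X ⟶ S) (q : Y ⟶ S)
    [LocallyOfFinitePresentation q]
    (A : Type u) [CommRing A] (𝔭 : Ideal A) [𝔭.IsPrime] (L : Type u) [CommRing L] [Algebra A L]
    [IsLocalization.AtPrime L 𝔭]
    (φ₀ : Spec (CommRingCat.of A) ⟶ X) [IsOpenImmersion φ₀]
    (x : X) (hx : x ∈ Set.range (Spec.map (CommRingCat.ofHom (algebraMap A L)) ≫ φ₀))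
    (U : X.Opens) (hU : (U : Set X) = {x}ᶜ) [QuasiCompact U.ι]
    (a : (U : Scheme.{u}) ⟶ Y) (b : Spec (CommRingCat.of L) ⟶ Y)
    (ha : a ≫ q = U.ι ≫ p)
    (hb : b ≫ q = (Spec.map (CommRingCat.ofHom (algebraMap A L)) ≫ φ₀) ≫ p)
    (hab : ((Spec.map (CommRingCat.ofHom (algebraMap A L)) ≫ φ₀) ⁻¹ᵁ U).ι ≫ b =
      ((Spec.map (CommRingCat.ofHom (algebraMap A L)) ≫ φ₀) ∣_ U) ≫ a) :
    ∃ g : X ⟶ Y, g ≫ q = p ∧ U.ι ≫ g = a ∧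
      (Spec.map (CommRingCat.ofHom (algebraMap A L)) ≫ φ₀) ≫ g = b := by
  haveI : ∀ i, IsOpenImmersion ((toBase A 𝔭 ≫ (Functor.const _).map φ₀).app i) := fun i => by
    show IsOpenImmersion (Spec.map (CommRingCat.ofHom
      (algebraMap A (Localization.Away i.unop.val))) ≫ φ₀)
    infer_instance
  exact exists_glue_of_limit p q (DS A 𝔭) (toBase A 𝔭 ≫ (Functor.const _).map φ₀)
    (coneSL A 𝔭 L) (isLimitConeSL A 𝔭 L)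
    (Spec.map (CommRingCat.ofHom (algebraMap A L)) ≫ φ₀)
    (fun i => by
      show (coneSL A 𝔭 L).π.app i ≫ (toBase A 𝔭).app i ≫ φ₀ = _
      rw [← Category.assoc, coneSL_π_toBase]
      rfl)
    x hx U hU a b ha hb hab

end Exist

theorem main9217 {X Y S : Scheme.{u}} (p : X ⟶ S) (q : Y ⟶ S) [LocallyOfFinitePresentation q]
    (x : X) (U : X.Opens) (hU : (U : Set X) = {x}ᶜ) [QuasiCompact U.ι] :
    (∀ g₁ g₂ : X ⟶ Y, U.ι ≫ g₁ = U.ι ≫ g₂ →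
      X.fromSpecStalk x ≫ g₁ = X.fromSpecStalk x ≫ g₂ → g₁ = g₂) ∧
    (∀ (a : (U : Scheme.{u}) ⟶ Y) (b : Spec (X.presheaf.stalk x) ⟶ Y), a ≫ q = U.ι ≫ p →
      b ≫ q = X.fromSpecStalk x ≫ p →
      ((X.fromSpecStalk x) ⁻¹ᵁ U).ι ≫ b = ((X.fromSpecStalk x) ∣_ U) ≫ a →
        ∃ g : X ⟶ Y, g ≫ q = p ∧ U.ι ≫ g = a ∧ X.fromSpecStalk x ≫ g = b) := by
  refine ⟨fun g₁ g₂ h1 h2 => uniq x U hU g₁ g₂ h1 h2, fun a b ha hb hab => ?_⟩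
  obtain ⟨_, ⟨W₀, hW₀, rfl⟩, hxW₀, -⟩ := X.isBasis_affineOpens.exists_subset_of_mem_open
    (Set.mem_univ x) isOpen_univ
  letI : Algebra ↑Γ(X, W₀) ↑(X.presheaf.stalk x) :=
    TopCat.Presheaf.algebra_section_stalk X.presheaf ⟨x, hxW₀⟩
  haveI : IsLocalization.AtPrime ↑(X.presheaf.stalk x) (hW₀.primeIdealOf ⟨x, hxW₀⟩).asIdeal :=
    hW₀.isLocalization_stalk ⟨x, hxW₀⟩
  have hσeq : Spec.map (CommRingCat.ofHom (algebraMap ↑Γ(X, W₀) ↑(X.presheaf.stalk x))) ≫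
      hW₀.fromSpec = X.fromSpecStalk x := hW₀.fromSpecStalk_eq_fromSpecStalk hxW₀
  have hx : x ∈ Set.range (Spec.map (CommRingCat.ofHom
      (algebraMap ↑Γ(X, W₀) ↑(X.presheaf.stalk x))) ≫ hW₀.fromSpec) := by
    rw [hσeq]
    exact ⟨IsLocalRing.closedPoint _, Scheme.fromSpecStalk_closedPoint⟩
  rw [← hσeq] at hb hab ⊢
  exact exists_of_loc p q ↑Γ(X, W₀) (hW₀.primeIdealOf ⟨x, hxW₀⟩).asIdeal ↑(X.presheaf.stalk x)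
    hW₀.fromSpec x hx U hU a b ha hb hab

end Groth.Agent.Lib.HomGlueH7
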