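import Mathlib
import Groth.Agent.Lib.HomGlueClosedPt_helper7

/-!
# Extending a pseudo-morphism at a point: abstract limit lemmas (helper6)
-/

set_option autoImplicit false
set_option linter.all false
set_option backward.isDefEq.respectTransparency false
universe u
open CategoryTheory CategoryTheory.Limits AlgebraicGeometry Opposite TopologicalSpace

namespace Groth.Agent.Lib.RatExtH6

open Groth.Agent.Lib.HomGlueH7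

/-- Spreading out a morphism from the limit to a stage. -/
theorem exists_stage {I : Type u} [Category.{u} I] [IsCofiltered I]
    {X Y S : Scheme.{u}} (p : X ⟶ S) (q : Y ⟶ S) [LocallyOfFinitePresentation q]
    (D : I ⥤ Scheme.{u}) [∀ {i j : I} (f : i ⟶ j), IsAffineHom (D.map f)]
    [∀ i, IsAffine (D.obj i)]
    (tX : D ⟶ (Functor.const I).obj X)
    (c : Cone D) (hc : IsLimit c)
    (σ : c.pt ⟶ X) (hσ : ∀ i, c.π.app i ≫ tX.app i = σ)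
    (b : c.pt ⟶ Y) (hb : b ≫ q = σ ≫ p) :
    ∃ (k : I) (g : D.obj k ⟶ Y), c.π.app k ≫ g = b ∧ g ≫ q = tX.app k ≫ p := by
  let t : D ⟶ (Functor.const I).obj S := tX ≫ (Functor.const I).map p
  have ht : ∀ i, t.app i = tX.app i ≫ p := fun i => rfl
  have hbt : c.π ≫ t = (Functor.const I).map (b ≫ q) := by
    ext i
    rw [NatTrans.comp_app, ht, ← Category.assoc, hσ i, hb]
    rfl
  obtain ⟨i₁, g₁, hg₁, hg₁q⟩ :=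
    Scheme.exists_π_app_comp_eq_of_locallyOfFinitePresentation D t q c hc b hbt
  exact ⟨i₁, g₁, hg₁, hg₁q⟩

/-- Spreading out a morphism from the limit to a stage, together with the agreement with a given
morphism on an open, when all opens of the stages are quasi-compact. -/
theorem exists_stage_agree {I : Type u} [Category.{u} I] [IsCofiltered I]
    {X Y S : Scheme.{u}} (p : X ⟶ S) (q : Y ⟶ S) [LocallyOfFinitePresentation q]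
    (D : I ⥤ Scheme.{u}) [∀ {i j : I} (f : i ⟶ j), IsAffineHom (D.map f)]
    [∀ i, IsAffine (D.obj i)]
    (tX : D ⟶ (Functor.const I).obj X)
    (c : Cone D) (hc : IsLimit c)
    (σ : c.pt ⟶ X) (hσ : ∀ i, c.π.app i ≫ tX.app i = σ)
    (U : X.Opens) (hcpt : ∀ (i : I) (O : (D.obj i).Opens), CompactSpace O)
    (a : (U : Scheme.{u}) ⟶ Y) (b : c.pt ⟶ Y) (ha : a ≫ q = U.ι ≫ p) (hb : b ≫ q = σ ≫ p)
    (hab : (σ ⁻¹ᵁ U).ι ≫ b = (σ ∣_ U) ≫ a) :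
    ∃ (k : I) (g : D.obj k ⟶ Y), c.π.app k ≫ g = b ∧ g ≫ q = tX.app k ≫ p ∧
      ((tX.app k) ⁻¹ᵁ U).ι ≫ g = ((tX.app k) ∣_ U) ≫ a := by
  classical
  let t : D ⟶ (Functor.const I).obj S := tX ≫ (Functor.const I).map p
  have ht : ∀ i, t.app i = tX.app i ≫ p := fun i => rfl
  obtain ⟨i₁, g₁, hg₁, hg₁q⟩ := exists_stage p q D tX c hc σ hσ b hb
  haveI hcpt' : ∀ j : Over i₁, CompactSpace ((opensDiagram D i₁ (tX.app i₁ ⁻¹ᵁ U)).obj j) := by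
    intro j
    exact hcpt j.left (D.map j.hom ⁻¹ᵁ (tX.app i₁ ⁻¹ᵁ U))
  let t' : opensDiagram D i₁ (tX.app i₁ ⁻¹ᵁ U) ⟶ (Functor.const (Over i₁)).obj S :=
    { app := fun j => (D.map j.hom ⁻¹ᵁ (tX.app i₁ ⁻¹ᵁ U)).ι ≫ t.app j.left
      naturality := fun j k f => by
        have hn : D.map f.left ≫ t.app k.left = t.app j.left :=
          (t.naturality f.left).trans (Category.comp_id _)
        refine Eq.trans ?_ (Category.comp_id _).symm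
        show (D.map f.left).resLE _ _ _ ≫ (D.map k.hom ⁻¹ᵁ (tX.app i₁ ⁻¹ᵁ U)).ι ≫ t.app k.left =
          (D.map j.hom ⁻¹ᵁ (tX.app i₁ ⁻¹ᵁ U)).ι ≫ t.app j.left
        rw [Scheme.Hom.resLE_comp_ι_assoc, hn] }
  have e₀ : D.map (Over.mk (𝟙 i₁)).hom ⁻¹ᵁ (tX.app i₁ ⁻¹ᵁ U) ≤ tX.app i₁ ⁻¹ᵁ U := by
    intro z hz
    have hz' : (D.map (𝟙 i₁)) z ∈ tX.app i₁ ⁻¹ᵁ U := hz
    rw [D.map_id] at hz'
    exact hz'
  have hρ : (tX.app i₁).resLE U _ e₀ ≫ U.ι =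
      (D.map (Over.mk (𝟙 i₁)).hom ⁻¹ᵁ (tX.app i₁ ⁻¹ᵁ U)).ι ≫ tX.app i₁ :=
    Scheme.Hom.resLE_comp_ι _ e₀
  have ha' : t'.app (Over.mk (𝟙 i₁)) =
      ((D.map (Over.mk (𝟙 i₁)).hom ⁻¹ᵁ (tX.app i₁ ⁻¹ᵁ U)).ι ≫ g₁) ≫ q := by
    show (D.map (Over.mk (𝟙 i₁)).hom ⁻¹ᵁ (tX.app i₁ ⁻¹ᵁ U)).ι ≫ t.app i₁ = _
    rw [Category.assoc, hg₁q, ht]
  have hb' : t'.app (Over.mk (𝟙 i₁)) = ((tX.app i₁).resLE U _ e₀ ≫ a) ≫ q := by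
    show (D.map (Over.mk (𝟙 i₁)).hom ⁻¹ᵁ (tX.app i₁ ⁻¹ᵁ U)).ι ≫ t.app i₁ = _
    rw [Category.assoc, ha, ← Category.assoc, hρ, Category.assoc, ht]
  have hab₁ : ((c.π.app i₁ ≫ tX.app i₁) ⁻¹ᵁ U).ι ≫ b =
      ((c.π.app i₁ ≫ tX.app i₁) ∣_ U) ≫ a := by
    rw [hσ i₁]; exact hab
  have hab' : (opensCone D c i₁ (tX.app i₁ ⁻¹ᵁ U)).π.app (Over.mk (𝟙 i₁)) ≫
        ((D.map (Over.mk (𝟙 i₁)).hom ⁻¹ᵁ (tX.app i₁ ⁻¹ᵁ U)).ι ≫ g₁) =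
      (opensCone D c i₁ (tX.app i₁ ⁻¹ᵁ U)).π.app (Over.mk (𝟙 i₁)) ≫
        ((tX.app i₁).resLE U _ e₀ ≫ a) := by
    have hr₀ : (opensCone D c i₁ (tX.app i₁ ⁻¹ᵁ U)).π.app (Over.mk (𝟙 i₁)) ≫
        (D.map (Over.mk (𝟙 i₁)).hom ⁻¹ᵁ (tX.app i₁ ⁻¹ᵁ U)).ι =
        (c.π.app i₁ ⁻¹ᵁ (tX.app i₁ ⁻¹ᵁ U)).ι ≫ c.π.app i₁ :=
      Scheme.Hom.resLE_comp_ι _ _
    exact catA ((opensCone D c i₁ (tX.app i₁ ⁻¹ᵁ U)).π.app (Over.mk (𝟙 i₁)))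
      (D.map (Over.mk (𝟙 i₁)).hom ⁻¹ᵁ (tX.app i₁ ⁻¹ᵁ U)).ι g₁ ((tX.app i₁).resLE U _ e₀) a U.ι
      (tX.app i₁) ((c.π.app i₁ ≫ tX.app i₁) ⁻¹ᵁ U).ι (c.π.app i₁) b
      ((c.π.app i₁ ≫ tX.app i₁) ∣_ U) hρ hr₀ hg₁ (morphismRestrict_ι _ _) hab₁
  obtain ⟨k, hk, hkeq⟩ := Scheme.exists_hom_comp_eq_comp_of_locallyOfFiniteType
    (opensDiagram D i₁ (tX.app i₁ ⁻¹ᵁ U)) t' q
    (opensCone D c i₁ (tX.app i₁ ⁻¹ᵁ U)) (isLimitOpensCone D c hc i₁ (tX.app i₁ ⁻¹ᵁ U))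
    (i := Over.mk (𝟙 i₁))
    ((D.map (Over.mk (𝟙 i₁)).hom ⁻¹ᵁ (tX.app i₁ ⁻¹ᵁ U)).ι ≫ g₁)
    ((tX.app i₁).resLE U _ e₀ ≫ a) ha' hb' hab'
  have hkl : hk.left = k.hom := by
    have := Over.w hk
    exact (Category.comp_id _).symm.trans this
  have hjk' : D.map k.hom ≫ tX.app i₁ = tX.app k.left :=
    (tX.naturality k.hom).trans (Category.comp_id _)
  have hm : (opensDiagram D i₁ (tX.app i₁ ⁻¹ᵁ U)).map hk ≫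
      (D.map (Over.mk (𝟙 i₁)).hom ⁻¹ᵁ (tX.app i₁ ⁻¹ᵁ U)).ι =
      (D.map k.hom ⁻¹ᵁ (tX.app i₁ ⁻¹ᵁ U)).ι ≫ D.map k.hom :=
    (Scheme.Hom.resLE_comp_ι _ _).trans
      (congrArg (fun f : k.left ⟶ i₁ => (D.map k.hom ⁻¹ᵁ (tX.app i₁ ⁻¹ᵁ U)).ι ≫ D.map f) hkl)
  have hglue : ((D.map k.hom ≫ tX.app i₁) ∣_ U) ≫ a =
      ((D.map k.hom ≫ tX.app i₁) ⁻¹ᵁ U).ι ≫ (D.map k.hom ≫ g₁) :=
    catB ((opensDiagram D i₁ (tX.app i₁ ⁻¹ᵁ U)).map hk)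
      (D.map (Over.mk (𝟙 i₁)).hom ⁻¹ᵁ (tX.app i₁ ⁻¹ᵁ U)).ι
      ((D.map k.hom ≫ tX.app i₁) ⁻¹ᵁ U).ι (D.map k.hom) g₁ ((tX.app i₁).resLE U _ e₀) a U.ι
      (tX.app i₁) ((D.map k.hom ≫ tX.app i₁) ∣_ U) hm hρ (morphismRestrict_ι _ _) hkeq
  rw [hjk'] at hglue
  refine ⟨k.left, D.map k.hom ≫ g₁, ?_, ?_, hglue.symm⟩
  · rw [← hg₁, ← Category.assoc]
    congr 1
    exact c.w k.hom
  · rw [Category.assoc, hg₁q, ← Category.assoc, hjk']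

end Groth.Agent.Lib.RatExtH6
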