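import Mathlib
import Groth.Agent.Lib.RatExt1_helper6

/-!
# Extending a pseudo-morphism at a point: agreement on a reduced scheme, conversions (helper6)
-/

set_option autoImplicit false
set_option linter.all false
set_option backward.isDefEq.respectTransparency false
universe u
open CategoryTheory CategoryTheory.Limits AlgebraicGeometry Opposite TopologicalSpace

namespace Groth.Agent.Lib.RatExtH6

/-- On a reduced scheme, agreement on the (dense part of the) image of `σ` implies agreement. -/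
theorem agree_of_dense {X Y S Z P : Scheme.{u}} [IsReduced X] (p : X ⟶ S) (q : Y ⟶ S)
    [IsSeparated q]
    (j : Z ⟶ X) [IsOpenImmersion j] (σ : P ⟶ X) (π : P ⟶ Z) (hπ : π ≫ j = σ)
    (U : X.Opens) (g : Z ⟶ Y) (a : (U : Scheme.{u}) ⟶ Y)
    (hg : g ≫ q = j ≫ p) (ha : a ≫ q = U.ι ≫ p)
    (hab : (σ ⁻¹ᵁ U).ι ≫ π ≫ g = (σ ∣_ U) ≫ a)
    (hdense : ∀ O : Z.Opens, O ≤ j ⁻¹ᵁ U → (O : Set Z).Nonempty →
      ∃ z ∈ O, j z ∈ Set.range σ) :
    (j ⁻¹ᵁ U).ι ≫ g = (j ∣_ U) ≫ a := by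
  haveI : IsReduced Z := isReduced_of_isOpenImmersion j
  haveI : IsReduced (j ⁻¹ᵁ U : Scheme.{u}) := isReduced_of_isOpenImmersion (j ⁻¹ᵁ U).ι
  have e : σ ⁻¹ᵁ U ≤ π ⁻¹ᵁ (j ⁻¹ᵁ U) := by
    rw [← Scheme.Hom.comp_preimage, hπ]
  have hι : π.resLE (j ⁻¹ᵁ U) (σ ⁻¹ᵁ U) e ≫ (j ⁻¹ᵁ U).ι = (σ ⁻¹ᵁ U).ι ≫ π :=
    Scheme.Hom.resLE_comp_ι _ e
  haveI : IsDominant (π.resLE (j ⁻¹ᵁ U) (σ ⁻¹ᵁ U) e) := by
    constructor
    rw [DenseRange, dense_iff_inter_open]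
    intro O' hO' hne
    obtain ⟨z, hzO, y, hy⟩ := hdense ((j ⁻¹ᵁ U).ι ''ᵁ (⟨O', hO'⟩ : (j ⁻¹ᵁ U : Scheme.{u}).Opens))
      (by
        refine (Scheme.Hom.image_le_opensRange _ _).trans ?_
        rw [Scheme.Opens.opensRange_ι])
      (by
        obtain ⟨o, ho⟩ := hne
        exact ⟨(j ⁻¹ᵁ U).ι o, o, ho, rfl⟩)
    obtain ⟨o, ho, rfl⟩ := hzO
    have hyU : y ∈ σ ⁻¹ᵁ U := by
      show σ y ∈ U
      rw [hy]
      exact o.2
    refine ⟨o, ho, ⟨y, hyU⟩, ?_⟩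
    apply (j ⁻¹ᵁ U).ι.isOpenEmbedding.injective
    rw [← Scheme.Hom.comp_apply, hι, Scheme.Hom.comp_apply]
    apply j.isOpenEmbedding.injective
    rw [← Scheme.Hom.comp_apply, hπ]
    exact hy
  refine ext_of_isDominant_of_isSeparated q ?_ (π.resLE (j ⁻¹ᵁ U) (σ ⁻¹ᵁ U) e) ?_
  · rw [Category.assoc, hg, Category.assoc, ha, morphismRestrict_ι_assoc]
  · rw [← Category.assoc, hι, Category.assoc, hab, ← Category.assoc]
    congr 1
    rw [← cancel_mono U.ι, morphismRestrict_ι, Category.assoc, morphismRestrict_ι,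
      ← Category.assoc, hι, Category.assoc, hπ]

/-- From a stage to an open neighbourhood. -/
theorem exists_nhd_of_stage {X Y S Z : Scheme.{u}} (p : X ⟶ S) (q : Y ⟶ S)
    (j : Z ⟶ X) [IsOpenImmersion j] (x : X) (hx : x ∈ Set.range j)
    (U : X.Opens) (g : Z ⟶ Y) (a : (U : Scheme.{u}) ⟶ Y) (hg : g ≫ q = j ≫ p)
    (hagree : (j ⁻¹ᵁ U).ι ≫ g = (j ∣_ U) ≫ a) :
    ∃ (V : X.Opens) (v : (V : Scheme.{u}) ⟶ Y), x ∈ V ∧ v ≫ q = V.ι ≫ p ∧
      X.homOfLE (inf_le_right : U ⊓ V ≤ V) ≫ v = X.homOfLE (inf_le_left : U ⊓ V ≤ U) ≫ a := by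
  refine ⟨j.opensRange, j.isoOpensRange.inv ≫ g, hx, ?_, ?_⟩
  · rw [Category.assoc, hg, ← Category.assoc, Scheme.Hom.isoOpensRange_inv_comp]
  · have heq : Set.range ((j ⁻¹ᵁ U).ι ≫ j) = Set.range (U ⊓ j.opensRange).ι := by
      rw [Scheme.Opens.range_ι]
      ext z
      constructor
      · rintro ⟨o, rfl⟩
        exact ⟨o.2, (j ⁻¹ᵁ U).ι o, rfl⟩
      · rintro ⟨hzU, y, rfl⟩
        exact ⟨⟨y, hzU⟩, rfl⟩
    have hfac := IsOpenImmersion.isoOfRangeEq_hom_fac ((j ⁻¹ᵁ U).ι ≫ j) (U ⊓ j.opensRange).ι heq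
    rw [← cancel_epi (IsOpenImmersion.isoOfRangeEq ((j ⁻¹ᵁ U).ι ≫ j)
      (U ⊓ j.opensRange).ι heq).hom]
    have h1 : (IsOpenImmersion.isoOfRangeEq ((j ⁻¹ᵁ U).ι ≫ j) (U ⊓ j.opensRange).ι heq).hom ≫
        X.homOfLE (inf_le_right : U ⊓ j.opensRange ≤ j.opensRange) ≫ j.isoOpensRange.inv =
        (j ⁻¹ᵁ U).ι := by
      rw [← cancel_mono j, Category.assoc, Category.assoc, Scheme.Hom.isoOpensRange_inv_comp,
        Scheme.homOfLE_ι, hfac]
    have h2 : (IsOpenImmersion.isoOfRangeEq ((j ⁻¹ᵁ U).ι ≫ j) (U ⊓ j.opensRange).ι heq).hom ≫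
        X.homOfLE (inf_le_left : U ⊓ j.opensRange ≤ U) = j ∣_ U := by
      rw [← cancel_mono U.ι, Category.assoc, Scheme.homOfLE_ι, hfac, morphismRestrict_ι]
    calc _ = ((IsOpenImmersion.isoOfRangeEq ((j ⁻¹ᵁ U).ι ≫ j) (U ⊓ j.opensRange).ι heq).hom ≫
          X.homOfLE (inf_le_right : U ⊓ j.opensRange ≤ j.opensRange) ≫ j.isoOpensRange.inv) ≫ g := by
            simp only [Category.assoc]
      _ = (j ⁻¹ᵁ U).ι ≫ g := by rw [h1]
      _ = (j ∣_ U) ≫ a := hagree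
      _ = _ := by rw [← h2, Category.assoc]

/-- The easy direction: a morphism on a neighbourhood restricts to the local scheme. -/
theorem stalk_of_nhd {X Y S : Scheme.{u}} (p : X ⟶ S) (q : Y ⟶ S) (U : X.Opens)
    (a : (U : Scheme.{u}) ⟶ Y)
    (x : X) (V : X.Opens) (v : (V : Scheme.{u}) ⟶ Y) (hxV : x ∈ V) (hv : v ≫ q = V.ι ≫ p)
    (hva : X.homOfLE (inf_le_right : U ⊓ V ≤ V) ≫ v = X.homOfLE (inf_le_left : U ⊓ V ≤ U) ≫ a) :
    ∃ w : Spec (X.presheaf.stalk x) ⟶ Y, w ≫ q = X.fromSpecStalk x ≫ p ∧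
      pullback.fst (X.fromSpecStalk x) U.ι ≫ w = pullback.snd (X.fromSpecStalk x) U.ι ≫ a := by
  refine ⟨V.fromSpecStalkOfMem x hxV ≫ v, ?_, ?_⟩
  · rw [Category.assoc, hv, ← Category.assoc, Scheme.Opens.fromSpecStalkOfMem_ι]
  · have hrange : Set.range (pullback.snd (X.fromSpecStalk x) U.ι ≫ U.ι) ⊆
        Set.range (U ⊓ V).ι := by
      rw [Scheme.Opens.range_ι]
      rintro _ ⟨y, rfl⟩
      refine ⟨?_, ?_⟩
      · rw [Scheme.Hom.comp_apply]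
        exact (pullback.snd (X.fromSpecStalk x) U.ι y).2
      · have hc : pullback.snd (X.fromSpecStalk x) U.ι ≫ U.ι =
            (pullback.fst (X.fromSpecStalk x) U.ι ≫ V.fromSpecStalkOfMem x hxV) ≫ V.ι := by
          rw [Category.assoc, Scheme.Opens.fromSpecStalkOfMem_ι, pullback.condition]
        rw [hc, Scheme.Hom.comp_apply]
        exact ((pullback.fst (X.fromSpecStalk x) U.ι ≫ V.fromSpecStalkOfMem x hxV) y).2
    have hfac := IsOpenImmersion.lift_fac (U ⊓ V).ι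
      (pullback.snd (X.fromSpecStalk x) U.ι ≫ U.ι) hrange
    have h1 : IsOpenImmersion.lift (U ⊓ V).ι (pullback.snd (X.fromSpecStalk x) U.ι ≫ U.ι) hrange ≫
        X.homOfLE (inf_le_left : U ⊓ V ≤ U) = pullback.snd (X.fromSpecStalk x) U.ι := by
      rw [← cancel_mono U.ι, Category.assoc, Scheme.homOfLE_ι, hfac]
    have h2 : IsOpenImmersion.lift (U ⊓ V).ι (pullback.snd (X.fromSpecStalk x) U.ι ≫ U.ι) hrange ≫
        X.homOfLE (inf_le_right : U ⊓ V ≤ V) =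
        pullback.fst (X.fromSpecStalk x) U.ι ≫ V.fromSpecStalkOfMem x hxV := by
      rw [← cancel_mono V.ι, Category.assoc, Scheme.homOfLE_ι, hfac, Category.assoc,
        Scheme.Opens.fromSpecStalkOfMem_ι, pullback.condition]
    rw [← Category.assoc, ← h2, Category.assoc, hva, ← Category.assoc, h1]

end Groth.Agent.Lib.RatExtH6
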