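import Mathlib
import Groth.Agent.Lib.RatExt2_helper6

/-!
# Extending a pseudo-morphism at a point: the local system of basic opens, main theorem (helper6)
-/

set_option autoImplicit false
set_option linter.all false
set_option backward.isDefEq.respectTransparency false
universe u
open CategoryTheory CategoryTheory.Limits AlgebraicGeometry Opposite TopologicalSpace

namespace Groth.Agent.Lib.RatExtH6

open Groth.Agent.Lib.LocAwayLimH7

section Loc


theorem exists_nhd_loc_noeth {X Y S : Scheme.{u}} (p : X ⟶ S) (q : Y ⟶ S) [LocallyOfFinitePresentation q]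
    (A : Type u) [CommRing A] (𝔭 : Ideal A) [𝔭.IsPrime] (L : Type u) [CommRing L] [Algebra A L]
    [IsLocalization.AtPrime L 𝔭]
    (φ₀ : Spec (CommRingCat.of A) ⟶ X) [IsOpenImmersion φ₀] [IsNoetherianRing A]
    (x : X) (hx : x ∈ Set.range (Spec.map (CommRingCat.ofHom (algebraMap A L)) ≫ φ₀))
    (U : X.Opens)
    (a : (U : Scheme.{u}) ⟶ Y) (b : Spec (CommRingCat.of L) ⟶ Y)
    (ha : a ≫ q = U.ι ≫ p)
    (hb : b ≫ q = (Spec.map (CommRingCat.ofHom (algebraMap A L)) ≫ φ₀) ≫ p)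
    (hab : ((Spec.map (CommRingCat.ofHom (algebraMap A L)) ≫ φ₀) ⁻¹ᵁ U).ι ≫ b =
      ((Spec.map (CommRingCat.ofHom (algebraMap A L)) ≫ φ₀) ∣_ U) ≫ a) :
    ∃ (V : X.Opens) (v : (V : Scheme.{u}) ⟶ Y), x ∈ V ∧ v ≫ q = V.ι ≫ p ∧
      X.homOfLE (inf_le_right : U ⊓ V ≤ V) ≫ v = X.homOfLE (inf_le_left : U ⊓ V ≤ U) ≫ a := by
  haveI : ∀ i, IsOpenImmersion ((toBase A 𝔭 ≫ (Functor.const _).map φ₀).app i) := fun i => by
    show IsOpenImmersion (Spec.map (CommRingCat.ofHom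
      (algebraMap A (Localization.Away i.unop.val))) ≫ φ₀)
    infer_instance
  have hσ : ∀ i, (coneSL A 𝔭 L).π.app i ≫ (toBase A 𝔭 ≫ (Functor.const _).map φ₀).app i =
      Spec.map (CommRingCat.ofHom (algebraMap A L)) ≫ φ₀ := fun i => by
    show (coneSL A 𝔭 L).π.app i ≫ (toBase A 𝔭).app i ≫ φ₀ = _
    rw [← Category.assoc, coneSL_π_toBase]
  have hcpt : ∀ (i : (Idx A 𝔭)ᵒᵖ) (O : ((DS A 𝔭).obj i).Opens), CompactSpace O := by
    intro i O
    haveI : IsNoetherianRing (Localization.Away i.unop.val) :=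
      IsLocalization.isNoetherianRing (Submonoid.powers i.unop.val) _ inferInstance
    haveI : NoetherianSpace ↥((DS A 𝔭).obj i) := by
      show NoetherianSpace (PrimeSpectrum (Localization.Away i.unop.val))
      infer_instance
    exact isCompact_iff_compactSpace.mp
      (NoetherianSpace.isCompact (O : Set ↥((DS A 𝔭).obj i)))
  obtain ⟨k, g, hg1, hgq, hagree⟩ := exists_stage_agree p q (DS A 𝔭)
    (toBase A 𝔭 ≫ (Functor.const _).map φ₀) (coneSL A 𝔭 L) (isLimitConeSL A 𝔭 L)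
    (Spec.map (CommRingCat.ofHom (algebraMap A L)) ≫ φ₀) hσ U hcpt a b ha hb hab
  refine exists_nhd_of_stage p q ((toBase A 𝔭 ≫ (Functor.const _).map φ₀).app k) x ?_ U g a
    hgq hagree
  obtain ⟨y, rfl⟩ := hx
  refine ⟨(coneSL A 𝔭 L).π.app k y, ?_⟩
  rw [← Scheme.Hom.comp_apply, hσ k]
  rfl

theorem exists_nhd_loc_red {X Y S : Scheme.{u}} (p : X ⟶ S) (q : Y ⟶ S) [LocallyOfFinitePresentation q]
    (A : Type u) [CommRing A] (𝔭 : Ideal A) [𝔭.IsPrime] (L : Type u) [CommRing L] [Algebra A L]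
    [IsLocalization.AtPrime L 𝔭]
    (φ₀ : Spec (CommRingCat.of A) ⟶ X) [IsOpenImmersion φ₀] [IsReduced X] [IsSeparated q]
    (x : X) (hx : x ∈ Set.range (Spec.map (CommRingCat.ofHom (algebraMap A L)) ≫ φ₀))
    (U : X.Opens)
    (a : (U : Scheme.{u}) ⟶ Y) (b : Spec (CommRingCat.of L) ⟶ Y)
    (ha : a ≫ q = U.ι ≫ p)
    (hb : b ≫ q = (Spec.map (CommRingCat.ofHom (algebraMap A L)) ≫ φ₀) ≫ p)
    (hab : ((Spec.map (CommRingCat.ofHom (algebraMap A L)) ≫ φ₀) ⁻¹ᵁ U).ι ≫ b =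
      ((Spec.map (CommRingCat.ofHom (algebraMap A L)) ≫ φ₀) ∣_ U) ≫ a)
    (hdense : ∀ O : X.Opens, O ≤ U → O ≤ φ₀.opensRange → (O : Set X).Nonempty →
      ∃ z ∈ O, z ∈ Set.range (Spec.map (CommRingCat.ofHom (algebraMap A L)) ≫ φ₀)) :
    ∃ (V : X.Opens) (v : (V : Scheme.{u}) ⟶ Y), x ∈ V ∧ v ≫ q = V.ι ≫ p ∧
      X.homOfLE (inf_le_right : U ⊓ V ≤ V) ≫ v = X.homOfLE (inf_le_left : U ⊓ V ≤ U) ≫ a := by
  haveI : ∀ i, IsOpenImmersion ((toBase A 𝔭 ≫ (Functor.const _).map φ₀).app i) := fun i => by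
    show IsOpenImmersion (Spec.map (CommRingCat.ofHom
      (algebraMap A (Localization.Away i.unop.val))) ≫ φ₀)
    infer_instance
  have hσ : ∀ i, (coneSL A 𝔭 L).π.app i ≫ (toBase A 𝔭 ≫ (Functor.const _).map φ₀).app i =
      Spec.map (CommRingCat.ofHom (algebraMap A L)) ≫ φ₀ := fun i => by
    show (coneSL A 𝔭 L).π.app i ≫ (toBase A 𝔭).app i ≫ φ₀ = _
    rw [← Category.assoc, coneSL_π_toBase]
  obtain ⟨k, g, hg1, hgq⟩ := exists_stage p q (DS A 𝔭)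
    (toBase A 𝔭 ≫ (Functor.const _).map φ₀) (coneSL A 𝔭 L) (isLimitConeSL A 𝔭 L)
    (Spec.map (CommRingCat.ofHom (algebraMap A L)) ≫ φ₀) hσ b hb
  have hagree := agree_of_dense p q ((toBase A 𝔭 ≫ (Functor.const _).map φ₀).app k)
    (Spec.map (CommRingCat.ofHom (algebraMap A L)) ≫ φ₀) ((coneSL A 𝔭 L).π.app k) (hσ k) U g a
    hgq ha (by rw [hg1]; exact hab)
    (by
      intro O hOU hne
      obtain ⟨z', hz'O, hz'σ⟩ := hdense
        (((toBase A 𝔭 ≫ (Functor.const _).map φ₀).app k) ''ᵁ O)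
        ((Scheme.Hom.image_mono _ hOU).trans (Scheme.Hom.image_preimage_le _ _))
        (by
          rintro _ ⟨z, -, rfl⟩
          show ((toBase A 𝔭).app k ≫ φ₀) z ∈ Set.range φ₀
          rw [Scheme.Hom.comp_apply]
          exact ⟨_, rfl⟩)
        (by
          obtain ⟨o, ho⟩ := hne
          exact ⟨_, o, ho, rfl⟩)
      obtain ⟨z, hzO, rfl⟩ := hz'O
      exact ⟨z, hzO, hz'σ⟩)
  refine exists_nhd_of_stage p q ((toBase A 𝔭 ≫ (Functor.const _).map φ₀).app k) x ?_ U g a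
    hgq hagree
  obtain ⟨y, rfl⟩ := hx
  refine ⟨(coneSL A 𝔭 L).π.app k y, ?_⟩
  rw [← Scheme.Hom.comp_apply, hσ k]
  rfl

end Loc

end Groth.Agent.Lib.RatExtH6
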