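import Mathlib
import Groth.Agent.Lib.RatExt3_helper6

/-!
# Extending a pseudo-morphism at a point: main theorem (helper6)
-/

set_option autoImplicit false
set_option linter.all false
set_option backward.isDefEq.respectTransparency false
universe u
open CategoryTheory CategoryTheory.Limits AlgebraicGeometry Opposite TopologicalSpace

namespace Groth.Agent.Lib.RatExtH6

/-- An open neighbourhood of `x` all of whose irreducible components pass through `x`. -/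
theorem exists_nhd_components {X : Type*} [TopologicalSpace X] (x : X) (W : Set X) (hW : IsOpen W)
    (hxW : x ∈ W)
    (hfin : {Z : Set X | Z ∈ irreducibleComponents X ∧ (Z ∩ W).Nonempty}.Finite) :
    ∃ N : Set X, IsOpen N ∧ x ∈ N ∧
      ∀ Z ∈ irreducibleComponents X, (Z ∩ N).Nonempty → x ∈ Z := by
  have hfin' : {Z : Set X | (Z ∈ irreducibleComponents X ∧ (Z ∩ W).Nonempty) ∧ x ∉ Z}.Finite :=
    hfin.subset (fun Z hZ => hZ.1)
  have hT : IsClosed (⋃ Z ∈ {Z : Set X | (Z ∈ irreducibleComponents X ∧ (Z ∩ W).Nonempty) ∧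
      x ∉ Z}, (Z : Set X)) :=
    hfin'.isClosed_biUnion (fun Z hZ => isClosed_of_mem_irreducibleComponents Z hZ.1.1)
  refine ⟨W ∩ (⋃ Z ∈ {Z : Set X | (Z ∈ irreducibleComponents X ∧ (Z ∩ W).Nonempty) ∧
      x ∉ Z}, (Z : Set X))ᶜ, hW.inter hT.isOpen_compl, ⟨hxW, ?_⟩, ?_⟩
  · intro hx
    simp only [Set.mem_iUnion, Set.mem_setOf_eq] at hx
    obtain ⟨Z, hZ, hxZ⟩ := hx
    exact hZ.2 hxZ
  · rintro Z hZ ⟨z, hzZ, hzW, hzT⟩
    by_contra hxZ
    apply hzT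
    simp only [Set.mem_iUnion, Set.mem_setOf_eq]
    exact ⟨Z, ⟨⟨hZ, ⟨z, hzZ, hzW⟩⟩, hxZ⟩, hzZ⟩

theorem main5104 {X Y S : Scheme.{u}} (pX : X ⟶ S) (pY : Y ⟶ S)
    [IsSeparated pY] [LocallyOfFinitePresentation pY]
    (hX : IsLocallyNoetherian X ∨ (IsReduced X ∧ ∀ x : ↥X, ∃ W : X.Opens, x ∈ W ∧
      {Z : Set ↥X | Z ∈ irreducibleComponents ↥X ∧ (Z ∩ (W : Set ↥X)).Nonempty}.Finite))
    (U : X.Opens) (h : (U : Scheme.{u}) ⟶ Y) (hh : h ≫ pY = U.ι ≫ pX)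
    (x : ↥X) :
    (∃ (V : X.Opens) (v : (V : Scheme.{u}) ⟶ Y), x ∈ V ∧ v ≫ pY = V.ι ≫ pX ∧
        X.homOfLE (inf_le_right : U ⊓ V ≤ V) ≫ v = X.homOfLE (inf_le_left : U ⊓ V ≤ U) ≫ h) ↔
      ∃ w : Spec (X.presheaf.stalk x) ⟶ Y, w ≫ pY = X.fromSpecStalk x ≫ pX ∧
        pullback.fst (X.fromSpecStalk x) U.ι ≫ w = pullback.snd (X.fromSpecStalk x) U.ι ≫ h := by
  constructor
  · rintro ⟨V, v, hxV, hv, hva⟩
    exact stalk_of_nhd pX pY U h x V v hxV hv hva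
  · rintro ⟨w, hw, hwh⟩
    have hab : ((X.fromSpecStalk x) ⁻¹ᵁ U).ι ≫ w = ((X.fromSpecStalk x) ∣_ U) ≫ h := by
      have hcomm : ((X.fromSpecStalk x) ⁻¹ᵁ U).ι ≫ X.fromSpecStalk x =
          ((X.fromSpecStalk x) ∣_ U) ≫ U.ι := (morphismRestrict_ι _ _).symm
      have h1 : pullback.lift _ _ hcomm ≫ pullback.fst (X.fromSpecStalk x) U.ι =
          ((X.fromSpecStalk x) ⁻¹ᵁ U).ι := pullback.lift_fst _ _ _
      have h2 : pullback.lift _ _ hcomm ≫ pullback.snd (X.fromSpecStalk x) U.ι =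
          ((X.fromSpecStalk x) ∣_ U) := pullback.lift_snd _ _ _
      rw [← h1, Category.assoc, hwh, ← Category.assoc, h2]
    rcases hX with hN | ⟨hR, hfin⟩
    · obtain ⟨_, ⟨W₀, hW₀, rfl⟩, hxW₀, -⟩ := X.isBasis_affineOpens.exists_subset_of_mem_open
        (Set.mem_univ x) isOpen_univ
      letI : Algebra ↑Γ(X, W₀) ↑(X.presheaf.stalk x) :=
        TopCat.Presheaf.algebra_section_stalk X.presheaf ⟨x, hxW₀⟩
      haveI : IsLocalization.AtPrime ↑(X.presheaf.stalk x)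
          (hW₀.primeIdealOf ⟨x, hxW₀⟩).asIdeal := hW₀.isLocalization_stalk ⟨x, hxW₀⟩
      have hσeq : Spec.map (CommRingCat.ofHom (algebraMap ↑Γ(X, W₀) ↑(X.presheaf.stalk x))) ≫
          hW₀.fromSpec = X.fromSpecStalk x := hW₀.fromSpecStalk_eq_fromSpecStalk hxW₀
      have hx : x ∈ Set.range (Spec.map (CommRingCat.ofHom
          (algebraMap ↑Γ(X, W₀) ↑(X.presheaf.stalk x))) ≫ hW₀.fromSpec) := by
        rw [hσeq]
        exact ⟨IsLocalRing.closedPoint _, Scheme.fromSpecStalk_closedPoint⟩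
      haveI : IsNoetherianRing ↑Γ(X, W₀) := hN.component_noetherian ⟨W₀, hW₀⟩
      rw [← hσeq] at hw hab
      exact exists_nhd_loc_noeth pX pY ↑Γ(X, W₀) (hW₀.primeIdealOf ⟨x, hxW₀⟩).asIdeal
        ↑(X.presheaf.stalk x) hW₀.fromSpec x hx U h w hh hw hab
    · obtain ⟨W, hxW, hWfin⟩ := hfin x
      obtain ⟨N, hNo, hxN, hNcomp⟩ := exists_nhd_components x (W : Set X) W.2 hxW hWfin
      obtain ⟨_, ⟨W₀, hW₀, rfl⟩, hxW₀, hW₀N⟩ := X.isBasis_affineOpens.exists_subset_of_mem_open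
        hxN hNo
      letI : Algebra ↑Γ(X, W₀) ↑(X.presheaf.stalk x) :=
        TopCat.Presheaf.algebra_section_stalk X.presheaf ⟨x, hxW₀⟩
      haveI : IsLocalization.AtPrime ↑(X.presheaf.stalk x)
          (hW₀.primeIdealOf ⟨x, hxW₀⟩).asIdeal := hW₀.isLocalization_stalk ⟨x, hxW₀⟩
      have hσeq : Spec.map (CommRingCat.ofHom (algebraMap ↑Γ(X, W₀) ↑(X.presheaf.stalk x))) ≫
          hW₀.fromSpec = X.fromSpecStalk x := hW₀.fromSpecStalk_eq_fromSpecStalk hxW₀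
      have hx : x ∈ Set.range (Spec.map (CommRingCat.ofHom
          (algebraMap ↑Γ(X, W₀) ↑(X.presheaf.stalk x))) ≫ hW₀.fromSpec) := by
        rw [hσeq]
        exact ⟨IsLocalRing.closedPoint _, Scheme.fromSpecStalk_closedPoint⟩
      have hdense : ∀ O : X.Opens, O ≤ U → O ≤ hW₀.fromSpec.opensRange → (O : Set X).Nonempty →
          ∃ z ∈ O, z ∈ Set.range (Spec.map (CommRingCat.ofHom
            (algebraMap ↑Γ(X, W₀) ↑(X.presheaf.stalk x))) ≫ hW₀.fromSpec) := by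
        intro O hOU hOW ⟨z₀, hz₀⟩
        rw [hσeq]
        rw [hW₀.opensRange_fromSpec] at hOW
        have hxC : x ∈ irreducibleComponent z₀ :=
          hNcomp _ (irreducibleComponent_mem_irreducibleComponents z₀)
            ⟨z₀, mem_irreducibleComponent, hW₀N (hOW hz₀)⟩
        obtain ⟨ξ, hξ⟩ := QuasiSober.sober (isIrreducible_irreducibleComponent (x := z₀))
          isClosed_irreducibleComponent
        refine ⟨ξ, (hξ.mem_open_set_iff O.2).mpr ⟨z₀, mem_irreducibleComponent, hz₀⟩, ?_⟩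
        have hmem : ξ ∈ {y : X | y ⤳ x} := hξ.specializes hxC
        rw [← Scheme.range_fromSpecStalk] at hmem
        exact hmem
      haveI := hR
      rw [← hσeq] at hw hab
      exact exists_nhd_loc_red pX pY ↑Γ(X, W₀) (hW₀.primeIdealOf ⟨x, hxW₀⟩).asIdeal
        ↑(X.presheaf.stalk x) hW₀.fromSpec x hx U h w hh hw hab hdense

end Groth.Agent.Lib.RatExtH6
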