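import Mathlib
import Groth.Prelude.Def_W4c5cptfessfintypeLocImm
import Groth.Prelude.Def_EssFT
import Groth.Agent.Lib.LocImm8_helper6
import Groth.Agent.Lib.LocImm7_helper6
import Groth.Agent.Lib.RatExt4_helper6

/-!
# A locally essentially finite-type morphism inducing an isomorphism on one local ring is
localizing near that point (helper6)
-/

set_option autoImplicit false
set_option linter.all false
set_option backward.isDefEq.respectTransparency false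
universe u
open TopologicalSpace CategoryTheory AlgebraicGeometry

namespace Groth.Agent.Lib.LocImm9_helper6

open LocImm Groth.Agent.Lib.LocImm8_helper6

theorem exists_isLocHom_basicOpen {Y₁ Y₂ : Scheme.{u}} [IsLocallyNoetherian Y₂] (g : Y₁ ⟶ Y₂)
    [EssFT.LocallyEssFiniteType g] (y : Y₁) [IsIso (g.stalkMap y)] :
    ∃ (U : Y₂.affineOpens) (W : Y₁.affineOpens) (hyW : y ∈ W.1) (e : W.1 ≤ g ⁻¹ᵁ U.1)
      (b : Γ(Y₁, W.1)), y ∈ Y₁.basicOpen b ∧ ∀ c : Γ(Y₁, W.1), b ∣ c → y ∈ Y₁.basicOpen c →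
        IsLocHom (g.appLE U.1 (Y₁.basicOpen c) ((Y₁.basicOpen_le c).trans e)).hom := by
  obtain ⟨U, W, hyW, e, hess⟩ := EssFT.LocallyEssFiniteType.exists_appLE_essFiniteType (f := g) y
  refine ⟨U, W, hyW, e, ?_⟩
  letI : Algebra Γ(Y₂, U.1) Γ(Y₁, W.1) := (g.appLE U.1 W.1 e).hom.toAlgebra
  haveI : Algebra.EssFiniteType Γ(Y₂, U.1) Γ(Y₁, W.1) := hess
  haveI : IsNoetherianRing Γ(Y₂, U.1) := IsLocallyNoetherian.component_noetherian U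
  let q : Ideal Γ(Y₁, W.1) := (W.2.primeIdealOf ⟨y, hyW⟩).asIdeal
  have hq : q.comap (algebraMap Γ(Y₂, U.1) Γ(Y₁, W.1)) =
      (U.2.primeIdealOf ⟨g y, e hyW⟩).asIdeal :=
    congrArg PrimeSpectrum.asIdeal (IsAffineOpen.comap_primeIdealOf_appLE U.1 U.2 W.1 W.2 e hyW)
  letI : Algebra Γ(Y₂, U.1) (Y₂.presheaf.stalk (g y)) :=
    TopCat.Presheaf.algebra_section_stalk Y₂.presheaf ⟨g y, e hyW⟩
  letI : Algebra Γ(Y₁, W.1) (Y₁.presheaf.stalk y) :=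
    TopCat.Presheaf.algebra_section_stalk Y₁.presheaf ⟨y, hyW⟩
  haveI h1 : IsLocalization.AtPrime (Y₂.presheaf.stalk (g y))
      (U.2.primeIdealOf ⟨g y, e hyW⟩).asIdeal := U.2.isLocalization_stalk ⟨g y, e hyW⟩
  haveI h2 : IsLocalization.AtPrime (Y₁.presheaf.stalk y) q := W.2.isLocalization_stalk ⟨y, hyW⟩
  have hM : (q.comap (algebraMap Γ(Y₂, U.1) Γ(Y₁, W.1))).primeCompl =
      (U.2.primeIdealOf ⟨g y, e hyW⟩).asIdeal.primeCompl := by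
    ext a
    show a ∉ q.comap (algebraMap Γ(Y₂, U.1) Γ(Y₁, W.1)) ↔
      a ∉ (U.2.primeIdealOf ⟨g y, e hyW⟩).asIdeal
    rw [hq]
  haveI h3 : IsLocalization.AtPrime (Y₂.presheaf.stalk (g y))
      (q.comap (algebraMap Γ(Y₂, U.1) Γ(Y₁, W.1))) := by
    show IsLocalization _ _
    rw [hM]; exact h1
  have hsq : (g.stalkMap y).hom.comp (algebraMap Γ(Y₂, U.1) (Y₂.presheaf.stalk (g y))) =
      (algebraMap Γ(Y₁, W.1) (Y₁.presheaf.stalk y)).comp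
        (algebraMap Γ(Y₂, U.1) Γ(Y₁, W.1)) := by
    have hcat : Y₂.presheaf.germ U.1 (g y) (e hyW) ≫ g.stalkMap y =
        g.appLE U.1 W.1 e ≫ Y₁.presheaf.germ W.1 y hyW := by
      rw [Scheme.Hom.germ_stalkMap, Scheme.Hom.appLE, Category.assoc, TopCat.Presheaf.germ_res]
    exact congrArg CommRingCat.Hom.hom hcat
  obtain ⟨b, hbq, hb⟩ := exists_isLocHom_away q (A' := Y₂.presheaf.stalk (g y))
    (B' := Y₁.presheaf.stalk y) (g.stalkMap y).hom hsq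
    (ConcreteCategory.bijective_of_isIso (g.stalkMap y))
  have hmem : ∀ c : Γ(Y₁, W.1), y ∈ Y₁.basicOpen c ↔ c ∉ q := by
    intro c
    rw [Scheme.mem_basicOpen _ _ y hyW]
    exact IsLocalization.AtPrime.isUnit_to_map_iff (Y₁.presheaf.stalk y) q c
  refine ⟨b, (hmem b).mpr hbq, ?_⟩
  intro c hbc hyc
  haveI := W.2.isLocalization_basicOpen c
  have hloc := hb c hbc ((hmem c).mp hyc) Γ(Y₁, Y₁.basicOpen c)
  have heq : (algebraMap Γ(Y₁, W.1) Γ(Y₁, Y₁.basicOpen c)).comp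
      (algebraMap Γ(Y₂, U.1) Γ(Y₁, W.1)) =
      (g.appLE U.1 (Y₁.basicOpen c) ((Y₁.basicOpen_le c).trans e)).hom := by
    have := Scheme.Hom.appLE_map g e (homOfLE (Y₁.basicOpen_le c)).op
    exact congrArg CommRingCat.Hom.hom this
  rw [← heq]
  exact hloc

theorem isLocHom_comp_of_bijective {A B C : Type u} [CommRing A] [CommRing B] [CommRing C]
    (φ : A →+* B) (ψ : B →+* C) (hψ : Function.Bijective ψ) (hφ : IsLocHom φ) :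
    IsLocHom (ψ.comp φ) := by
  letI := φ.toAlgebra
  letI := (ψ.comp φ).toAlgebra
  obtain ⟨S, hS⟩ := hφ
  haveI := hS
  refine ⟨S, ?_⟩
  let e : B ≃ₐ[A] C := AlgEquiv.ofBijective { toRingHom := ψ, commutes' := fun a => rfl } hψ
  exact IsLocalization.isLocalization_of_algEquiv S e

theorem isLocalizing_ι_comp {Y₁ Y₂ : Scheme.{u}} (g : Y₁ ⟶ Y₂) (𝒰 : Y₁.Opens)
    (H : ∀ y ∈ 𝒰, ∃ (U : Y₂.affineOpens) (D : Y₁.affineOpens) (_ : y ∈ D.1) (_ : D.1 ≤ 𝒰)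
      (e : D.1 ≤ g ⁻¹ᵁ U.1), IsLocHom (g.appLE U.1 D.1 e).hom) :
    IsLocalizing (𝒰.ι ≫ g) := by
  intro u
  obtain ⟨U, D, hyD, hD𝒰, e, hloc⟩ := H u.1 u.2
  have hDr : D.1 ≤ 𝒰.ι.opensRange := by rw [Scheme.Opens.opensRange_ι]; exact hD𝒰
  have e' : 𝒰.ι ⁻¹ᵁ D.1 ≤ (𝒰.ι ≫ g) ⁻¹ᵁ U.1 := fun v hv => e hv
  refine ⟨U, ⟨𝒰.ι ⁻¹ᵁ D.1, D.2.preimage_of_isOpenImmersion 𝒰.ι hDr⟩, hyD, e', ?_⟩
  have h1 : (𝒰.ι ≫ g).appLE U.1 (𝒰.ι ⁻¹ᵁ D.1) e' = g.appLE U.1 D.1 e ≫ 𝒰.ι.app D.1 := by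
    rw [Scheme.Hom.app_eq_appLE, Scheme.Hom.appLE_comp_appLE]
  show IsLocHom ((𝒰.ι ≫ g).appLE U.1 (𝒰.ι ⁻¹ᵁ D.1) e').hom
  rw [h1, CommRingCat.hom_comp]
  haveI : IsIso (𝒰.ι.app D.1) := Scheme.Hom.isIso_app 𝒰.ι D.1 hDr
  exact isLocHom_comp_of_bijective _ _ (ConcreteCategory.bijective_of_isIso (𝒰.ι.app D.1)) hloc

theorem specializes_of_maximal {Y : Type*} [TopologicalSpace Y] [QuasiSober Y] {η y : Y}
    (hη : ∀ η' : Y, η' ⤳ η → η' = η) (hy : y ∈ irreducibleComponent η) : η ⤳ y := by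
  obtain ⟨ξ, hξ⟩ := QuasiSober.sober (isIrreducible_irreducibleComponent (x := η))
    isClosed_irreducibleComponent
  have h1 : ξ ⤳ η := by
    rw [specializes_iff_mem_closure, hξ.def]; exact mem_irreducibleComponent
  have h2 := hη ξ h1
  subst h2
  rw [specializes_iff_mem_closure, hξ.def]; exact hy

theorem exists_nhd_maximal {Y : Type*} [TopologicalSpace Y] [QuasiSober Y] [NoetherianSpace Y]
    (y : Y) : ∃ N : Set Y, IsOpen N ∧ y ∈ N ∧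
      ∀ η ∈ N, (∀ η' : Y, η' ⤳ η → η' = η) → η ⤳ y := by
  obtain ⟨N, hN, hyN, H⟩ := RatExtH6.exists_nhd_components y Set.univ isOpen_univ trivial
    (NoetherianSpace.finite_irreducibleComponents.subset (fun Z hZ => hZ.1))
  exact ⟨N, hN, hyN, fun η hηN hη => specializes_of_maximal hη
    (H _ (irreducibleComponent_mem_irreducibleComponents η) ⟨η, mem_irreducibleComponent, hηN⟩)⟩

theorem main18194 {X Y₁ Y₂ : Scheme.{u}} [IsNoetherian X] [IsNoetherian Y₁] [IsNoetherian Y₂]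
    (f₁ : X ⟶ Y₁) (f₂ : X ⟶ Y₂) (g : Y₁ ⟶ Y₂) (hf₁ : IsLocImmersion f₁)
    (hf₂ : IsLocImmersion f₂) [IsSeparated g] [EssFT.LocallyEssFiniteType g]
    (h : f₁ ≫ g = f₂) :
    ∃ U : Y₁.Opens, Set.range (fun x => f₁ x) ⊆ (U : Set Y₁) ∧ IsLocImmersion (U.ι ≫ g) := by
  subst h
  obtain ⟨-, hgen₁, hiso₁⟩ := LocImm2_helper6.locImmersion_props f₁ hf₁
  obtain ⟨-, -, hiso₂⟩ := LocImm2_helper6.locImmersion_props (f₁ ≫ g) hf₂
  have hiso : ∀ x : X, IsIso (g.stalkMap (f₁ x)) := by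
    intro x
    haveI := hiso₁ x
    haveI : IsIso (g.stalkMap (f₁ x) ≫ f₁.stalkMap x) := by
      rw [← Scheme.Hom.stalkMap_comp]; exact hiso₂ x
    exact IsIso.of_isIso_comp_right _ (f₁.stalkMap x)
  have key : ∀ x : X, ∃ (U : Y₂.affineOpens) (D : Y₁.affineOpens) (_ : f₁ x ∈ D.1)
      (e : D.1 ≤ g ⁻¹ᵁ U.1), IsLocHom (g.appLE U.1 D.1 e).hom ∧
        ∀ η ∈ D.1, (∀ η' : Y₁, η' ⤳ η → η' = η) → η ⤳ f₁ x := by
    intro x
    haveI := hiso x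
    obtain ⟨U, W, hyW, e, b, hyb, H⟩ := exists_isLocHom_basicOpen g (f₁ x)
    obtain ⟨N, hN, hyN, HN⟩ := exists_nhd_maximal (f₁ x)
    obtain ⟨a, ha1, ha2⟩ := W.2.exists_basicOpen_le (V := (⟨N, hN⟩ : Y₁.Opens) ⊓ Y₁.basicOpen b)
      ⟨f₁ x, ⟨hyN, hyb⟩⟩ hyW
    have hmem : f₁ x ∈ Y₁.basicOpen (b * a) := by
      rw [Scheme.basicOpen_mul]; exact ⟨hyb, ha2⟩
    refine ⟨U, ⟨Y₁.basicOpen (b * a), W.2.basicOpen _⟩, hmem, (Y₁.basicOpen_le _).trans e,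
      H (b * a) (dvd_mul_right b a) hmem, ?_⟩
    intro η hη hmax
    have hη' : η ∈ Y₁.basicOpen (b * a) := hη
    rw [Scheme.basicOpen_mul] at hη'
    exact HN η (ha1 hη'.2).1 hmax
  choose U D hD e hloc hmax using key
  let 𝒰 : Y₁.Opens := ⨆ x, (D x).1
  have hD𝒰 : ∀ x, (D x).1 ≤ 𝒰 := fun x => le_iSup (fun x => (D x).1) x
  have hlocz : IsLocalizing (𝒰.ι ≫ g) := by
    apply isLocalizing_ι_comp
    intro y hy
    obtain ⟨x, hx⟩ := Opens.mem_iSup.mp hy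
    exact ⟨U x, D x, hx, hD𝒰 x, e x, hloc x⟩
  refine ⟨𝒰, ?_, hlocz, ?_⟩
  · rintro _ ⟨x, rfl⟩; exact hD𝒰 x (hD x)
  · rw [LocImm7_helper6.injective_iff _ hlocz]
    refine ⟨inferInstance, ?_⟩
    have hmaxY : ∀ u : 𝒰, (∀ u' : 𝒰, u' ⤳ u → u' = u) → ∀ η' : Y₁, η' ⤳ u.1 → η' = u.1 := by
      intro u hu η' hη'
      have hη'𝒰 : η' ∈ 𝒰 := hη'.mem_open 𝒰.2 u.2
      have : (⟨η', hη'𝒰⟩ : 𝒰) ⤳ u := by
        exact (Topology.IsInducing.subtypeVal.specializes_iff (x := (⟨η', hη'𝒰⟩ : 𝒰)) (y := u)).mp hη'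
      exact congrArg Subtype.val (hu _ this)
    have hrange : ∀ u : 𝒰, (∀ u' : 𝒰, u' ⤳ u → u' = u) →
        u.1 ∈ Set.range (fun x => f₁ x) := by
      intro u hu
      obtain ⟨x, hx⟩ := Opens.mem_iSup.mp u.2
      exact hgen₁ (hmax x u.1 hx (hmaxY u hu)) ⟨x, rfl⟩
    intro u₁ hu₁ u₂ hu₂ h12
    obtain ⟨x₁, hx₁⟩ := hrange u₁ hu₁
    obtain ⟨x₂, hx₂⟩ := hrange u₂ hu₂
    have h3 : (f₁ ≫ g) x₁ = (f₁ ≫ g) x₂ := by
      show g (f₁ x₁) = g (f₁ x₂)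
      have h4 : f₁ x₁ = u₁.1 := hx₁
      have h5 : f₁ x₂ = u₂.1 := hx₂
      rw [h4, h5]; exact h12
    have h6 := hf₂.2 h3
    apply Subtype.ext
    rw [← hx₁, ← hx₂, h6]

end Groth.Agent.Lib.LocImm9_helper6
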