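import Mathlib
import Groth.Agent.Lib.LocImm9_helper6
import Groth.Agent.Lib.LocImm6_helper6
import Groth.Agent.Lib.LocImm5_helper6

/-!
# Two finite-type compactifications of a localizing immersion share a common open (helper6)
-/

set_option autoImplicit false
set_option linter.all false
set_option backward.isDefEq.respectTransparency false
universe u
open TopologicalSpace CategoryTheory CategoryTheory.Limits AlgebraicGeometry

namespace Groth.Agent.Lib.LocImm10_helper6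

open LocImm Groth.Agent.Lib.LocImm9_helper6

theorem isNoetherian_of_lft_qc {X Y : Scheme.{u}} (f : X ⟶ Y) [LocallyOfFiniteType f]
    [QuasiCompact f] [IsNoetherian Y] : IsNoetherian X :=
  { toIsLocallyNoetherian := LocallyOfFiniteType.isLocallyNoetherian f
    toCompactSpace := QuasiCompact.compactSpace_of_compactSpace f }

theorem isNoetherian_opens {X : Scheme.{u}} [IsNoetherian X] (U : X.Opens) :
    IsNoetherian (U : Scheme.{u}) :=
  { toIsLocallyNoetherian := inferInstance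
    toCompactSpace := isCompact_iff_compactSpace.mp (NoetherianSpace.isCompact (U : Set X)) }

theorem locallyEssFiniteType_of_lft {X Y : Scheme.{u}} (f : X ⟶ Y) [LocallyOfFiniteType f] :
    EssFT.LocallyEssFiniteType f := by
  constructor
  intro x
  obtain ⟨_, ⟨U, hU, rfl⟩, hxU, -⟩ :=
    Y.isBasis_affineOpens.exists_subset_of_mem_open (Set.mem_univ (f x)) isOpen_univ
  obtain ⟨_, ⟨V, hV, rfl⟩, hxV, hVU⟩ :=
    X.isBasis_affineOpens.exists_subset_of_mem_open (show x ∈ f ⁻¹ᵁ U from hxU) (f ⁻¹ᵁ U).2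
  exact ⟨⟨U, hU⟩, ⟨V, hV⟩, hxV, hVU,
    (LocallyOfFiniteType.finiteType_appLE f hU hV hVU).essFiniteType⟩

theorem main18193 {X Y₁ Y₂ S : Scheme.{u}} [IsNoetherian X] [IsNoetherian Y₁] [IsNoetherian Y₂]
    [IsNoetherian S] (f₁ : X ⟶ Y₁) (f₂ : X ⟶ Y₂) (π₁ : Y₁ ⟶ S) (π₂ : Y₂ ⟶ S)
    (hf₁ : IsLocImmersion f₁) (hf₂ : IsLocImmersion f₂)
    [IsSeparated π₁] [IsSeparated π₂] [LocallyOfFiniteType π₁] [LocallyOfFiniteType π₂]
    (h : f₁ ≫ π₁ = f₂ ≫ π₂) :
    ∃ (W : Scheme.{u}) (k : X ⟶ W) (g₁ : W ⟶ Y₁) (g₂ : W ⟶ Y₂), IsLocImmersion k ∧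
      IsOpenImmersion g₁ ∧ IsOpenImmersion g₂ ∧ g₁ ≫ π₁ = g₂ ≫ π₂ ∧ k ≫ g₁ = f₁ ∧ k ≫ g₂ = f₂ := by
  haveI : QuasiCompact π₁ := inferInstance
  haveI : QuasiCompact π₂ := inferInstance
  haveI : IsNoetherian (pullback π₁ π₂) := isNoetherian_of_lft_qc (pullback.snd π₁ π₂)
  let φ : X ⟶ pullback π₁ π₂ := pullback.lift f₁ f₂ h
  haveI : QuasiCompact φ := inferInstance
  haveI : IsNoetherian φ.image := isNoetherian_of_lft_qc φ.imageι
  let k' : X ⟶ φ.image := φ.toImage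
  have hk'ι : k' ≫ φ.imageι = φ := φ.toImage_imageι
  let q₁ : φ.image ⟶ Y₁ := φ.imageι ≫ pullback.fst π₁ π₂
  let q₂ : φ.image ⟶ Y₂ := φ.imageι ≫ pullback.snd π₁ π₂
  have hq₁ : k' ≫ q₁ = f₁ := by
    show k' ≫ φ.imageι ≫ pullback.fst π₁ π₂ = f₁
    rw [reassoc_of% hk'ι]; exact pullback.lift_fst _ _ _
  have hq₂ : k' ≫ q₂ = f₂ := by
    show k' ≫ φ.imageι ≫ pullback.snd π₁ π₂ = f₂
    rw [reassoc_of% hk'ι]; exact pullback.lift_snd _ _ _
  have hq12 : q₁ ≫ π₁ = q₂ ≫ π₂ := by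
    show (φ.imageι ≫ pullback.fst π₁ π₂) ≫ π₁ = (φ.imageι ≫ pullback.snd π₁ π₂) ≫ π₂
    rw [Category.assoc, Category.assoc, pullback.condition]
  haveI : IsSchemeTheoreticallyDominant k' := ⟨LocImm5_helper6.ker_toImage_eq_bot φ⟩
  haveI : QuasiCompact k' := inferInstance
  have hk' : IsLocImmersion k' :=
    LocImm6_helper6.isLocImmersion_of_comp k' q₁ (by rw [hq₁]; exact hf₁)
      (fun U => k'.app_injective U)
  haveI : IsSeparated q₁ := inferInstance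
  haveI : IsSeparated q₂ := inferInstance
  haveI : LocallyOfFiniteType q₁ := inferInstance
  haveI : LocallyOfFiniteType q₂ := inferInstance
  haveI : EssFT.LocallyEssFiniteType q₁ := locallyEssFiniteType_of_lft q₁
  haveI : EssFT.LocallyEssFiniteType q₂ := locallyEssFiniteType_of_lft q₂
  obtain ⟨U₁, hU₁, hloc₁⟩ := main18194 k' f₁ q₁ hk' hf₁ hq₁
  obtain ⟨U₂, hU₂, hloc₂⟩ := main18194 k' f₂ q₂ hk' hf₂ hq₂
  haveI : IsOpenImmersion (U₁.ι ≫ q₁) := LocImm_helper6.isOpenImmersion_of_lft _ hloc₁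
  haveI : IsOpenImmersion (U₂.ι ≫ q₂) := LocImm_helper6.isOpenImmersion_of_lft _ hloc₂
  let W : φ.image.Opens := U₁ ⊓ U₂
  have hW : Set.range k' ⊆ Set.range W.ι := by
    rw [Scheme.Opens.range_ι]
    rintro _ ⟨x, rfl⟩
    exact ⟨hU₁ ⟨x, rfl⟩, hU₂ ⟨x, rfl⟩⟩
  let k : X ⟶ W := IsOpenImmersion.lift W.ι k' hW
  have hk : k ≫ W.ι = k' := IsOpenImmersion.lift_fac _ _ _
  haveI := isNoetherian_opens W
  refine ⟨W, k, W.ι ≫ q₁, W.ι ≫ q₂, ?_, ?_, ?_, ?_, ?_, ?_⟩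
  · have hpb : IsPullback (𝟙 X) k k' W.ι := IsPullback.of_horiz_isIso_mono ⟨by rw [Category.id_comp, hk]⟩
    haveI : IsSchemeTheoreticallyDominant k := IsSchemeTheoreticallyDominant.of_isPullback hpb
    haveI : QuasiCompact k := inferInstance
    exact LocImm6_helper6.isLocImmersion_of_comp k W.ι (by rw [hk]; exact hk')
      (fun U => k.app_injective U)
  · have : W.ι ≫ q₁ = φ.image.homOfLE (inf_le_left : W ≤ U₁) ≫ (U₁.ι ≫ q₁) := by
      rw [Scheme.homOfLE_ι_assoc]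
    rw [this]; infer_instance
  · have : W.ι ≫ q₂ = φ.image.homOfLE (inf_le_right : W ≤ U₂) ≫ (U₂.ι ≫ q₂) := by
      rw [Scheme.homOfLE_ι_assoc]
    rw [this]; infer_instance
  · exact (Category.assoc _ _ _).trans ((congrArg (W.ι ≫ ·) hq12).trans (Category.assoc _ _ _).symm)
  · rw [reassoc_of% hk, hq₁]
  · rw [reassoc_of% hk, hq₂]

end Groth.Agent.Lib.LocImm10_helper6
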