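import Mathlib
import Groth.Agent.Lib.AffQF4_helper6
import Groth.Agent.Lib.AffQF5_helper6
import Groth.Agent.Lib.LocImm10_helper6

/-!
# A quasi-finite separated morphism over a one-dimensional base which is finite on fibres is
affine (helper6)
-/

set_option autoImplicit false
set_option linter.all false
set_option backward.isDefEq.respectTransparency false
universe u
open TopologicalSpace Topology CategoryTheory CategoryTheory.Limits AlgebraicGeometry

namespace Groth.Agent.Lib.AffQF6_helper6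

open Groth.Agent.Lib.AffQF4_helper6 Groth.Agent.Lib.AffQF5_helper6

theorem main5414 (S : Scheme.{u}) [IsLocallyNoetherian S] (hdim : topologicalKrullDim ↥S ≤ 1)
    (X Y : Over S) [LocallyOfFiniteType X.hom] [LocallyOfFiniteType Y.hom] (u : X ⟶ Y)
    [QuasiCompact u.left] [LocallyQuasiFinite u.left] [IsSeparated u.left]
    (hfin : ∀ s : S, IsFinite ((Over.pullback (S.fromSpecResidueField s)).map u).left) :
    IsAffineHom u.left := by
  haveI : LocallyOfFiniteType (u.left ≫ Y.hom) := by rw [Over.w]; infer_instance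
  haveI : LocallyOfFiniteType u.left := locallyOfFiniteType_of_comp u.left Y.hom
  haveI : IsLocallyNoetherian Y.left := LocallyOfFiniteType.isLocallyNoetherian Y.hom
  apply isAffineHom_of_forall_exists_isAffineOpen
  intro y
  obtain ⟨_, ⟨(V : S.Opens), hV, rfl⟩, hyV, -⟩ :=
    S.isBasis_affineOpens.exists_subset_of_mem_open (Set.mem_univ (Y.hom y)) isOpen_univ
  obtain ⟨_, ⟨(W₀ : Y.left.Opens), hW₀, rfl⟩, hyW₀, hW₀V⟩ :=
    Y.left.isBasis_affineOpens.exists_subset_of_mem_open (show y ∈ Y.hom ⁻¹ᵁ V from hyV)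
      (Y.hom ⁻¹ᵁ V).2
  haveI : IsAffine (W₀ : Scheme.{u}) := hW₀
  let u₀ : (u.left ⁻¹ᵁ W₀ : Scheme.{u}) ⟶ W₀ := u.left ∣_ W₀
  haveI : LocallyQuasiFinite u₀ := IsZariskiLocalAtTarget.restrict ‹_› W₀
  haveI : LocallyOfFiniteType u₀ := IsZariskiLocalAtTarget.restrict ‹_› W₀
  haveI : QuasiCompact u₀ := IsZariskiLocalAtTarget.restrict ‹_› W₀
  haveI : IsSeparated u₀ := IsZariskiLocalAtTarget.restrict ‹_› W₀
  obtain ⟨T, j, π, hj, hjd, hπ, hfac⟩ := zmt_dense u₀
  haveI : IsNoetherian (W₀ : Scheme.{u}) :=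
    { toIsLocallyNoetherian := inferInstance
      toCompactSpace := inferInstance }
  haveI : IsNoetherian T := LocImm10_helper6.isNoetherian_of_lft_qc π
  haveI : IsAffine T := isAffine_of_isAffineHom π
  let q : T ⟶ S := π ≫ W₀.ι ≫ Y.hom
  have hπW₀ : ∀ τ : T, W₀.ι (π τ) ∈ W₀ := fun τ => (π τ).2
  have hqV : ∀ τ : T, q τ ∈ V := fun τ => hW₀V (hπW₀ τ)
  have hdense : Dense (j.opensRange : Set T) := j.denseRange
  have Hcl : ∀ τ : T, τ ∈ closure ((j.opensRange : Set T) ∩ q ⁻¹' {q τ}) → τ ∈ j.opensRange := by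
    intro τ hτ
    let g := S.fromSpecResidueField (q τ)
    let us : pullback X.hom g ⟶ pullback Y.hom g := ((Over.pullback g).map u).left
    haveI : IsFinite us := hfin (q τ)
    have hus₁ : us ≫ pullback.fst Y.hom g = pullback.fst X.hom g ≫ u.left := by
      simp only [us, Over.pullback_map_left, pullback.lift_fst]
    have hus₂ : us ≫ pullback.snd Y.hom g = pullback.snd X.hom g := by
      simp only [us, Over.pullback_map_left, pullback.lift_snd]
    have h₁ : IsPullback (pullback.fst X.hom g) us u.left (pullback.fst Y.hom g) := by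
      refine IsPullback.of_bot ?_ hus₁.symm (IsPullback.of_hasPullback Y.hom g)
      rw [hus₂, Over.w u]
      exact IsPullback.of_hasPullback X.hom g
    exact fibre_closed u.left Y.hom (q τ) (pullback.fst X.hom g) us h₁ W₀.ι (u.left ⁻¹ᵁ W₀).ι u₀
      (isPullback_morphismRestrict u.left W₀).flip j π hfac τ rfl hτ
  obtain ⟨a, hs₀a, haff⟩ :=
    exists_basicOpen_affine hdim q V hV hqV j.opensRange hdense Hcl (Y.hom y) hyV
  refine ⟨W₀ ⊓ Y.hom ⁻¹ᵁ S.basicOpen a, ⟨hyW₀, hs₀a⟩, ?_, ?_⟩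
  · rw [← Scheme.basicOpen_appLE Y.hom W₀ V hW₀V a]
    exact hW₀.basicOpen _
  · set W := W₀ ⊓ Y.hom ⁻¹ᵁ S.basicOpen a with hW
    have hP : π ⁻¹ᵁ (W₀.ι ⁻¹ᵁ W) = q ⁻¹ᵁ S.basicOpen a := by
      ext τ
      constructor
      · intro h; exact h.2
      · intro h; exact ⟨hπW₀ τ, h⟩
    have h1 : IsAffineOpen (j ⁻¹ᵁ (π ⁻¹ᵁ (W₀.ι ⁻¹ᵁ W))) := by
      rw [← j.isAffineOpen_iff_of_isOpenImmersion, j.image_preimage_eq_opensRange_inf, hP]
      exact haff
    have h2 : (u.left ⁻¹ᵁ W₀).ι ⁻¹ᵁ (u.left ⁻¹ᵁ W) = j ⁻¹ᵁ (π ⁻¹ᵁ (W₀.ι ⁻¹ᵁ W)) := by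
      rw [← Scheme.Hom.comp_preimage, ← Scheme.Hom.comp_preimage, ← Scheme.Hom.comp_preimage,
        hfac, morphismRestrict_ι]
    rw [← h2] at h1
    have h3 : (u.left ⁻¹ᵁ W₀).ι ''ᵁ ((u.left ⁻¹ᵁ W₀).ι ⁻¹ᵁ (u.left ⁻¹ᵁ W)) = u.left ⁻¹ᵁ W := by
      rw [Scheme.Hom.image_preimage_eq_opensRange_inf, Scheme.Opens.opensRange_ι]
      apply inf_eq_right.mpr
      intro x hx
      exact hx.1
    rw [← h3]
    exact h1.image_of_isOpenImmersion _

end Groth.Agent.Lib.AffQF6_helper6
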