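import Mathlib

/-!
# Étale maps to affine space (helper7, for S3713)
-/

namespace Groth.Agent.Lib.AffSpEtH7

open AlgebraicGeometry CategoryTheory Limits MvPolynomial

universe u

variable {n : Type u} {S : Scheme.{u}}

set_option backward.isDefEq.respectTransparency.types false in
instance smooth_over [Finite n] : Smooth (𝔸(n; S) ↘ S) :=
  MorphismProperty.pullback_fst _ _ <| by
  have := isIso_of_isTerminal specULiftZIsTerminal.{u} terminalIsTerminal (terminal.from _)
  rw [← terminal.comp_from (Spec.map (CommRingCat.ofHom C)),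
    MorphismProperty.cancel_right_of_respectsIso (P := @Smooth),
    HasRingHomProperty.Spec_iff (P := @Smooth), RingHom.Smooth]
  convert! ({} : Algebra.Smooth (ULift ℤ) (MvPolynomial n (ULift ℤ)))
  exact Algebra.algebra_ext _ _ fun _ ↦ rfl

/-- Étaleness of `homOfVector` can be checked on the ring map, in the affine case. -/
theorem etale_homOfVector {U V : Scheme.{u}} [IsAffine U] [IsAffine V] (p : V ⟶ U)
    (v : n → Γ(V, ⊤))
    (h : (eval₂Hom p.appTop.hom v : MvPolynomial n Γ(U, ⊤) →+* Γ(V, ⊤)).Etale) :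
    Etale (AffineSpace.homOfVector p v) := by
  have key : AffineSpace.homOfVector p v ≫ (AffineSpace.isoOfIsAffine n U).hom =
      V.toSpecΓ ≫ Spec.map (CommRingCat.ofHom (eval₂Hom p.appTop.hom v)) := by
    apply ext_of_isAffine
    simp only [Scheme.Hom.comp_appTop, AffineSpace.isoOfIsAffine_hom_appTop,
      Scheme.toSpecΓ_appTop, Category.assoc]
    rw [Scheme.ΓSpecIso_naturality]
    congr 1
    ext : 1
    apply MvPolynomial.ringHom_ext
    · intro a
      simp only [CommRingCat.hom_comp, CommRingCat.hom_ofHom, RingHom.comp_apply, coe_eval₂Hom,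
        eval₂_C]
      rw [← CommRingCat.comp_apply, ← Scheme.Hom.comp_appTop, AffineSpace.homOfVector_over]
    · intro i
      simp only [CommRingCat.hom_comp, CommRingCat.hom_ofHom, RingHom.comp_apply, coe_eval₂Hom,
        eval₂_X]
      exact AffineSpace.homOfVector_appTop_coord _ _ _
  rw [← MorphismProperty.cancel_right_of_respectsIso (P := @Etale) _
    (AffineSpace.isoOfIsAffine n U).hom, key]
  have : Etale (Spec.map (CommRingCat.ofHom (eval₂Hom p.appTop.hom v))) :=
    (HasRingHomProperty.Spec_iff (P := @Etale)).2 h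
  infer_instance

/-- Translating an étale chart so that it carries a given section to the zero section. -/
theorem exists_translate {U V : Scheme.{u}} (p : V ⟶ U) (s : U ⟶ V) (hs : s ≫ p = 𝟙 U)
    (π : V ⟶ 𝔸(n; U)) (hπ : π ≫ 𝔸(n; U) ↘ U = p) [Etale π] :
    ∃ v : n → Γ(V, ⊤), Etale (AffineSpace.homOfVector p v) ∧ ∀ j, s.appTop (v j) = 0 := by
  let w : n → Γ(V, ⊤) := fun j => π.appTop (AffineSpace.coord U j)
  let c : n → Γ(U, ⊤) := fun j => s.appTop (w j)
  let v : n → Γ(V, ⊤) := fun j => w j - p.appTop (c j)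
  let τ : 𝔸(n; U) ⟶ 𝔸(n; U) := AffineSpace.homOfVector (𝔸(n; U) ↘ U)
    (fun j => AffineSpace.coord U j - (𝔸(n; U) ↘ U).appTop (c j))
  let τ' : 𝔸(n; U) ⟶ 𝔸(n; U) := AffineSpace.homOfVector (𝔸(n; U) ↘ U)
    (fun j => AffineSpace.coord U j + (𝔸(n; U) ↘ U).appTop (c j))
  have hτo : τ ≫ 𝔸(n; U) ↘ U = 𝔸(n; U) ↘ U := AffineSpace.homOfVector_over _ _
  have hτ'o : τ' ≫ 𝔸(n; U) ↘ U = 𝔸(n; U) ↘ U := AffineSpace.homOfVector_over _ _
  have hτc : ∀ j, τ.appTop (AffineSpace.coord U j) =
      AffineSpace.coord U j - (𝔸(n; U) ↘ U).appTop (c j) :=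
    fun j => AffineSpace.homOfVector_appTop_coord _ _ j
  have hτ'c : ∀ j, τ'.appTop (AffineSpace.coord U j) =
      AffineSpace.coord U j + (𝔸(n; U) ↘ U).appTop (c j) :=
    fun j => AffineSpace.homOfVector_appTop_coord _ _ j
  have hτq : ∀ a, τ.appTop ((𝔸(n; U) ↘ U).appTop a) = (𝔸(n; U) ↘ U).appTop a := by
    intro a
    rw [← CommRingCat.comp_apply, ← Scheme.Hom.comp_appTop, hτo]
  have hτ'q : ∀ a, τ'.appTop ((𝔸(n; U) ↘ U).appTop a) = (𝔸(n; U) ↘ U).appTop a := by
    intro a
    rw [← CommRingCat.comp_apply, ← Scheme.Hom.comp_appTop, hτ'o]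
  have h1 : τ ≫ τ' = 𝟙 _ := by
    apply AffineSpace.hom_ext
    · rw [Category.assoc, hτ'o, hτo, Category.id_comp]
    · intro j
      rw [Scheme.Hom.comp_appTop, CommRingCat.comp_apply, hτ'c, map_add, hτc, hτq,
        Scheme.Hom.id_appTop, CommRingCat.id_apply, sub_add_cancel]
  have h2 : τ' ≫ τ = 𝟙 _ := by
    apply AffineSpace.hom_ext
    · rw [Category.assoc, hτo, hτ'o, Category.id_comp]
    · intro j
      rw [Scheme.Hom.comp_appTop, CommRingCat.comp_apply, hτc, map_sub, hτ'c, hτ'q,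
        Scheme.Hom.id_appTop, CommRingCat.id_apply, add_sub_cancel_right]
  have hiso : IsIso τ := ⟨τ', h1, h2⟩
  have hv : AffineSpace.homOfVector p v = π ≫ τ := by
    apply AffineSpace.hom_ext
    · rw [AffineSpace.homOfVector_over, Category.assoc, hτo, hπ]
    · intro j
      rw [AffineSpace.homOfVector_appTop_coord, Scheme.Hom.comp_appTop, CommRingCat.comp_apply,
        hτc, map_sub]
      have : π.appTop ((𝔸(n; U) ↘ U).appTop (c j)) = p.appTop (c j) := by
        rw [← CommRingCat.comp_apply, ← Scheme.Hom.comp_appTop, hπ]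
      rw [this]
  refine ⟨v, ?_, ?_⟩
  · rw [hv]
    infer_instance
  · intro j
    show s.appTop (w j - p.appTop (c j)) = 0
    rw [map_sub]
    have : s.appTop (p.appTop (c j)) = c j := by
      rw [← CommRingCat.comp_apply, ← Scheme.Hom.comp_appTop, hs, Scheme.Hom.id_appTop,
        CommRingCat.id_apply]
    rw [this]
    exact sub_self _

end Groth.Agent.Lib.AffSpEtH7
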