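import Mathlib
import Groth.Prelude.Def_RelSpec
import Groth.Agent.Lib.RelSpecBC_helper5
import Groth.Agent.Lib.SpecChart_helper5

/-!
# An affine morphism is the relative spectrum of its direct-image algebra  (helper5)

For `f : X ⟶ Y` affine, `toX f : Spec(f_* O_X) ⟶ X` is an isomorphism over `Y`.
-/

set_option autoImplicit false
universe u

noncomputable section

namespace Groth.Agent.AffSpec

open CategoryTheory Limits AlgebraicGeometry TopologicalSpace Opposite RelSpec
open Groth.Agent.PullbackLocal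

variable {X Y : Scheme.{u}} (f : X ⟶ Y) [IsAffineHom f]

/-- The canonical morphism `Spec(f_* O_X) ⟶ X`, glued from the charts `Spec Γ(X, f⁻¹U) ⟶ X`. -/
def toX : (QCAlg.directImage f).spec ⟶ X :=
  colimit.desc (QCAlg.directImage f).glueData.functor
    { pt := X
      ι :=
        { app := fun U => (U.2.preimage f).fromSpec
          naturality := fun V U i => by
            refine Eq.trans ?_ (Category.comp_id _).symm
            exact IsAffineOpen.map_fromSpec (U.2.preimage f) (V.2.preimage f)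
              (homOfLE (f.preimage_mono (Scheme.AffineZariskiSite.toOpens_mono i.le))).op } }

theorem ι_toX (U : Y.Opens) (hU : IsAffineOpen U) :
    (QCAlg.directImage f).ι U hU ≫ toX f = (hU.preimage f).fromSpec :=
  colimit.ι_desc _ _

theorem toX_comp : toX f ≫ f = (QCAlg.directImage f).π := by
  apply colimit.hom_ext
  intro U
  change (QCAlg.directImage f).ι U.1 U.2 ≫ toX f ≫ f =
    (QCAlg.directImage f).ι U.1 U.2 ≫ (QCAlg.directImage f).π
  rw [reassoc_of% (ι_toX f U.1 U.2), (QCAlg.directImage f).ι_π]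
  have h1 := IsAffineOpen.SpecMap_appLE_fromSpec f U.2 (U.2.preimage f) le_rfl
  rw [← Scheme.Hom.app_eq_appLE] at h1
  exact h1.symm

theorem toX_appLE_gammaAff (U : Y.Opens) (hU : IsAffineOpen U)
    (e : (QCAlg.directImage f).π ⁻¹ᵁ U ≤ toX f ⁻¹ᵁ (f ⁻¹ᵁ U)) :
    (toX f).appLE (f ⁻¹ᵁ U) ((QCAlg.directImage f).π ⁻¹ᵁ U) e ≫
      (QCAlg.directImage f).gammaAff U hU = 𝟙 _ := by
  have e0 : (⊤ : (Spec Γ(X, f ⁻¹ᵁ U)).Opens) ≤ (hU.preimage f).fromSpec ⁻¹ᵁ (f ⁻¹ᵁ U) :=
    (hU.preimage f).fromSpec_preimage_self.ge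
  have h3 : (toX f).appLE (f ⁻¹ᵁ U) ((QCAlg.directImage f).π ⁻¹ᵁ U) e ≫
      ((QCAlg.directImage f).ι U hU).appLE ((QCAlg.directImage f).π ⁻¹ᵁ U) ⊤
        ((QCAlg.directImage f).top_le_preimage U hU) =
      (hU.preimage f).fromSpec.appLE (f ⁻¹ᵁ U) ⊤ e0 := by
    rw [Scheme.Hom.appLE_comp_appLE]
    exact appLE_congr (ι_toX f U hU) _ _ _ _
  rw [QCAlg.gammaAff, ← Category.assoc]
  refine (congrArg (fun t => t ≫ (Scheme.ΓSpecIso _).hom) h3).trans ?_
  exact SpecChart.fromSpec_appLE_top (hU.preimage f) e0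

instance isIso_toX : IsIso (toX f) := by
  refine isIso_of_cover (toX f) (fun x => ?_)
  obtain ⟨U, hU0, hx, -⟩ := Opens.isBasis_iff_nbhd.mp Y.isBasis_affineOpens
    (Opens.mem_top (f x))
  have hU : IsAffineOpen U := hU0
  have e : (QCAlg.directImage f).π ⁻¹ᵁ U = toX f ⁻¹ᵁ (f ⁻¹ᵁ U) := by
    rw [← Scheme.Hom.comp_preimage, toX_comp]
  refine ⟨f ⁻¹ᵁ U, (QCAlg.directImage f).π ⁻¹ᵁ U, e, hx, hU.preimage f,
    hU.preimage (QCAlg.directImage f).π, ?_⟩
  haveI := RelSpecBC.isIso_gammaAff (QCAlg.directImage f) U hU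
  have h1 := toX_appLE_gammaAff f U hU e.le
  rw [ConcreteCategory.isIso_iff_bijective]
  have hb : Function.Bijective ((QCAlg.directImage f).gammaAff U hU) :=
    (ConcreteCategory.isIso_iff_bijective _).mp inferInstance
  have hc : ∀ a : Γ(X, f ⁻¹ᵁ U), ((QCAlg.directImage f).gammaAff U hU).hom
      (((toX f).appLE (f ⁻¹ᵁ U) ((QCAlg.directImage f).π ⁻¹ᵁ U) e.le).hom a) = a :=
    fun a => congrArg (fun t => t.hom a) h1
  refine ⟨fun a b hab => ?_, fun y => ?_⟩
  · have := congrArg ((QCAlg.directImage f).gammaAff U hU).hom hab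
    exact (hc a).symm.trans (this.trans (hc b))
  · refine ⟨((QCAlg.directImage f).gammaAff U hU).hom y, hb.1 ?_⟩
    exact hc _

/-- The isomorphism `X ≅ Spec(f_* O_X)` over `Y`. -/
def fromX : X ⟶ (QCAlg.directImage f).spec := inv (toX f)

instance : IsIso (fromX f) := by unfold fromX; infer_instance

theorem fromX_π : fromX f ≫ (QCAlg.directImage f).π = f := by
  rw [fromX, IsIso.inv_comp_eq, toX_comp]

end Groth.Agent.AffSpec
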