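import Mathlib
import Groth.Prelude.Def_RelSpec
import Groth.Prelude.Def_Coh
import Groth.Agent.Lib.AffSpec1_helper5
import Groth.Agent.Lib.SymAlg7_helper5
import Groth.Agent.Lib.QCAlgMod_helper9

/-!
# Affine morphisms of finite type embed into vector bundles  (helper5)
-/

set_option autoImplicit false
universe u

noncomputable section

namespace Groth.Agent.AffSpec

open CategoryTheory Limits AlgebraicGeometry TopologicalSpace Opposite RelSpec

theorem exists_closedImmersion {X Y : Scheme.{u}} [CompactSpace Y] [QuasiSeparatedSpace Y]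
    (f : X ⟶ Y) [IsAffineHom f] [LocallyOfFiniteType f] :
    ∃ (E : Y.Modules) (_ : Coh.IsCoh E) (A : RelSpec.QCAlg Y) (j : E ⟶ A.toModule)
      (_ : RelSpec.IsSymAlg E A j) (i : X ⟶ A.spec), IsClosedImmersion i ∧ i ≫ A.π = f := by
  have hB : ∀ U : Y.affineOpens,
      ((QCAlg.directImage f).str.app (op (U : Y.Opens))).hom.FiniteType := by
    intro U
    have h1 := HasRingHomProperty.appLE @LocallyOfFiniteType f inferInstance U
      ⟨f ⁻¹ᵁ U.1, U.2.preimage f⟩ le_rfl
    rw [← Scheme.Hom.app_eq_appLE] at h1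
    exact h1
  obtain ⟨E, u, -, hE, hft, hgen⟩ := QCAlgMod.main (QCAlg.directImage f) hB
  haveI : E.IsQuasicoherent := hE
  obtain ⟨A, j, hA, hloc⟩ := SymAlg.exists_symAlg E
  obtain ⟨ψ, hψ, -⟩ := hA (QCAlg.directImage f) u
  have hcl : IsClosedImmersion (QCAlg.specMap ψ) := by
    refine SymAlg.of_chart_specMap @IsClosedImmersion ψ (fun U hU => ?_)
    refine IsClosedImmersion.spec_of_surjective _ ?_
    rw [← RingHom.range_eq_top, eq_top_iff, ← hgen ⟨U, hU⟩, Subring.closure_le]
    rintro x (⟨r, rfl⟩ | ⟨e, rfl⟩)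
    · exact ⟨(A.str.app (op U)).hom r, congrArg (fun t => (t.app (op U)).hom r) ψ.comm⟩
    · exact ⟨(j.app U e : A.presheaf.obj (op U)),
        congrArg (fun t => (Scheme.Modules.Hom.app t U) e) hψ⟩
  refine ⟨E, ⟨hE, hft⟩, A, j, hA, fromX f ≫ QCAlg.specMap ψ, inferInstance, ?_⟩
  rw [Category.assoc, QCAlg.specMap_π, fromX_π]

end Groth.Agent.AffSpec
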