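import Groth.Agent.Lib.AffStalk_helper3

/-!
# Local rings with principal maximal ideal generated by a nonzerodivisor; ideal sheaves of reduced
closed subschemes (helper3)
-/

set_option autoImplicit false
universe u
open CategoryTheory AlgebraicGeometry TopologicalSpace IsLocalRing

namespace Groth.Agent.Lib.AffStalk_helper3

section Algebra

variable {A : Type*} [CommRing A] [IsLocalRing A] [IsNoetherianRing A]

/-- In a Noetherian local ring whose maximal ideal is `(t)`, every nonzero element is a unit times
a power of `t`. -/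
lemma exists_unit_mul_pow (t : A) (hm : maximalIdeal A = Ideal.span {t}) (x : A) (hx : x ≠ 0) :
    ∃ (n : ℕ) (u : A), IsUnit u ∧ x = u * t ^ n := by
  have hK : ⨅ i : ℕ, (maximalIdeal A) ^ i = ⊥ :=
    Ideal.iInf_pow_eq_bot_of_isLocalRing _ (Ideal.IsPrime.ne_top inferInstance)
  have hex : ∃ n : ℕ, x ∉ (maximalIdeal A) ^ n := by
    by_contra h
    push_neg at h
    have : x ∈ ⨅ i : ℕ, (maximalIdeal A) ^ i := (Ideal.mem_iInf).mpr h
    rw [hK] at this
    exact hx this
  classical
  have hn0 : Nat.find hex ≠ 0 := by
    intro h0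
    have := Nat.find_spec hex
    rw [h0, pow_zero] at this
    exact this (by rw [Ideal.one_eq_top]; exact Submodule.mem_top)
  obtain ⟨n, hn⟩ := Nat.exists_eq_succ_of_ne_zero hn0
  have h1 : x ∈ (maximalIdeal A) ^ n := by
    by_contra h
    have := Nat.find_min' hex h
    omega
  have h2 : x ∉ (maximalIdeal A) ^ (n + 1) := by
    have := Nat.find_spec hex
    rwa [hn] at this
  rw [hm, Ideal.span_singleton_pow, Ideal.mem_span_singleton'] at h1
  obtain ⟨a, ha⟩ := h1
  refine ⟨n, a, ?_, ha.symm⟩
  by_contra hau
  have ham : a ∈ maximalIdeal A := (IsLocalRing.mem_maximalIdeal a).mpr hau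
  apply h2
  have h3 : a * t ^ n ∈ (maximalIdeal A) ^ (n + 1) := by
    rw [pow_succ, mul_comm a]
    exact Ideal.mul_mem_mul (by
      rw [hm, Ideal.span_singleton_pow]; exact Ideal.mem_span_singleton_self _) ham
  rw [ha] at h3
  exact h3

theorem isDomain_of_maximalIdeal_span_nzd (t : A) (ht : t ∈ nonZeroDivisors A)
    (hm : maximalIdeal A = Ideal.span {t}) : IsDomain A := by
  have : NoZeroDivisors A := by
    refine ⟨fun {x y} hxy => ?_⟩
    by_contra h
    push_neg at h
    obtain ⟨n, u, hu, rfl⟩ := exists_unit_mul_pow t hm x h.1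
    have h1 : t ^ n * y = 0 := by
      have : u * (t ^ n * y) = 0 := by rw [← mul_assoc]; exact hxy
      exact (hu.mul_right_eq_zero).mp this
    have h2 : t ^ n ∈ nonZeroDivisors A := pow_mem ht n
    have h3 : y = 0 := (mem_nonZeroDivisors_iff_left.mp h2) y h1
    exact h.2 h3
  exact NoZeroDivisors.to_isDomain A

theorem isDVR_of_maximalIdeal_span_nzd (t : A) (ht : t ∈ nonZeroDivisors A)
    (hm : maximalIdeal A = Ideal.span {t}) :
    ∃ _ : IsDomain A, IsDiscreteValuationRing A := by
  haveI hd : IsDomain A := isDomain_of_maximalIdeal_span_nzd t ht hm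
  refine ⟨hd, ?_⟩
  have hnf : ¬ IsField A := by
    rw [IsLocalRing.isField_iff_maximalIdeal_eq, hm]
    intro h
    have : t = 0 := by
      have := Ideal.span_singleton_eq_bot.mp h
      exact this
    exact nonZeroDivisors.ne_zero ht this
  have hT : IsDiscreteValuationRing A ↔ (maximalIdeal A).IsPrincipal :=
    (IsDiscreteValuationRing.TFAE A hnf).out 0 4
  exact hT.mpr ⟨t, by rw [hm]⟩

end Algebra

section Scheme

variable {X : Scheme.{u}}

/-- The ideal of a reduced closed subscheme on an affine open is radical. -/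
lemma isRadical_ideal_of_isReduced (D : X.IdealSheafData) [IsReduced D.subscheme]
    (U : X.affineOpens) : (D.ideal U).IsRadical := by
  rw [Ideal.isRadical_iff_quotient_reduced]
  have h : _root_.IsReduced Γ(D.subscheme, D.subschemeι ⁻¹ᵁ U) := inferInstance
  exact isReduced_of_injective (D.subschemeObjIso U).commRingCatIsoToRingEquiv.symm.toRingHom
    (D.subschemeObjIso U).commRingCatIsoToRingEquiv.symm.injective

/-- The maximal ideal of the stalk at a point of an affine open is generated by the image of the
corresponding prime ideal. -/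
lemma maximalIdeal_stalk {U : X.Opens} (hU : IsAffineOpen U) (x : U) :
    maximalIdeal (X.presheaf.stalk (x : X)) =
      (hU.primeIdealOf x).asIdeal.map (X.presheaf.germ U x x.2).hom := by
  let _ := TopCat.Presheaf.algebra_section_stalk X.presheaf x
  have := hU.isLocalization_stalk x
  exact (IsLocalization.AtPrime.map_eq_maximalIdeal (hU.primeIdealOf x).asIdeal
    (X.presheaf.stalk (x : X))).symm

lemma germ_mem_nonZeroDivisors {U : X.Opens} (hU : IsAffineOpen U) (x : U) (f : Γ(X, U))
    (hf : f ∈ nonZeroDivisors Γ(X, U)) :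
    (X.presheaf.germ U x x.2).hom f ∈ nonZeroDivisors (X.presheaf.stalk (x : X)) := by
  let _ := TopCat.Presheaf.algebra_section_stalk X.presheaf x
  have := hU.isLocalization_stalk x
  exact IsLocalization.map_nonZeroDivisors_le (hU.primeIdealOf x).asIdeal.primeCompl
    (X.presheaf.stalk (x : X)) (Submonoid.mem_map_of_mem _ hf)

end Scheme

end Groth.Agent.Lib.AffStalk_helper3
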