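import Mathlib
import Groth.Prelude
import Groth.Agent.Lib.AffStrat2_helper4

set_option autoImplicit false
set_option linter.style.haveILetI false
set_option linter.unusedVariables false

universe u v

open CategoryTheory CategoryTheory.Limits AlgebraicGeometry TopologicalSpace Opposite Topology

namespace Groth.Agent.Lib.AffStratH4

/-- Affine stratification indexed by `Fin d` (so `HasAffineStratification X n = HASf X (n+1)`). -/
def HASf (X : Scheme.{u}) (d : ℕ) : Prop :=
  ∃ s : X → Fin d, (∀ i : Fin d, IsClosed {x : X | s x ≤ i}) ∧ ∀ i : Fin d, Good X {x : X | s x = i}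

/-- In a Noetherian scheme there is an affine open, with affine inclusion, meeting every irreducible
component. -/
theorem exists_affine_open_dense (X : Scheme.{u}) [IsNoetherian X] :
    ∃ U : X.Opens, IsAffineOpen U ∧ IsAffineHom U.ι ∧
      ∀ C ∈ irreducibleComponents X, (C ∩ (U : Set X)).Nonempty := by
  classical
  obtain ⟨m, W, hW, hWcov⟩ := exists_fin_affine_cover X
  haveI : Finite ↥(irreducibleComponents X) :=
    (finite_irreducibleComponents_of_isNoetherian (X := X)).to_subtype
  have hη : ∀ C : ↥(irreducibleComponents X), ∃ η : X, IsGenericPoint η C.1 := fun C =>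
    ⟨_, C.2.1.isGenericPoint_genericPoint (isClosed_of_mem_irreducibleComponents C.1 C.2)⟩
  choose η hη using hη
  have hηne : ∀ C C' : ↥(irreducibleComponents X), C' ≠ C → η C ∉ C'.1 := by
    intro C C' hne hmem
    have h1 : C.1 ⊆ C'.1 := by
      rw [← (hη C).def]
      exact closure_minimal (Set.singleton_subset_iff.mpr hmem)
        (isClosed_of_mem_irreducibleComponents C'.1 C'.2)
    have h2 : C'.1 ⊆ C.1 := C.2.2 C'.2.1 h1
    exact hne (Subtype.ext (Set.Subset.antisymm h2 h1))
  have hP : ∀ C : ↥(irreducibleComponents X), ∃ P : X.Opens, IsAffineOpen P ∧ η C ∈ P ∧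
      ((P : Set X) ⊆ C.1) ∧
      (∀ C' : ↥(irreducibleComponents X), C' ≠ C → Disjoint (P : Set X) C'.1) ∧
      ∀ l, η C ∈ W l → P ≤ W l := by
    intro C
    have hF : IsClosed (⋃ C' ∈ {C' : ↥(irreducibleComponents X) | C' ≠ C}, C'.1) :=
      (Set.toFinite _).isClosed_biUnion
        (fun C' _ => isClosed_of_mem_irreducibleComponents C'.1 C'.2)
    have hO : IsOpen ((⋃ C' ∈ {C' : ↥(irreducibleComponents X) | C' ≠ C}, C'.1)ᶜ ∩
        ⋂ l ∈ {l | η C ∈ W l}, (W l : Set X)) :=
      hF.isOpen_compl.inter ((Set.toFinite _).isOpen_biInter (fun l _ => (W l).isOpen))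
    have hηO : η C ∈ (⋃ C' ∈ {C' : ↥(irreducibleComponents X) | C' ≠ C}, C'.1)ᶜ ∩
        ⋂ l ∈ {l | η C ∈ W l}, (W l : Set X) := by
      refine ⟨?_, Set.mem_iInter₂.mpr fun l hl => hl⟩
      intro hmem
      obtain ⟨C', hC', hx⟩ := Set.mem_iUnion₂.mp hmem
      exact hηne C C' hC' hx
    obtain ⟨_, ⟨P, hP, rfl⟩, hηP, hPO⟩ :=
      X.isBasis_affineOpens.exists_subset_of_mem_open hηO hO
    refine ⟨P, hP, hηP, ?_, ?_, ?_⟩
    · intro x hx
      have hx1 := (hPO hx).1
      by_contra hxC
      apply hx1
      refine Set.mem_iUnion₂.mpr ⟨⟨irreducibleComponent x,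
        irreducibleComponent_mem_irreducibleComponents x⟩, ?_, mem_irreducibleComponent⟩
      intro heq
      apply hxC
      rw [← heq]
      exact mem_irreducibleComponent
    · intro C' hne
      rw [Set.disjoint_left]
      intro x hx hxC'
      exact (hPO hx).1 (Set.mem_iUnion₂.mpr ⟨C', hne, hxC'⟩)
    · intro l hl x hx
      exact Set.mem_iInter₂.mp (hPO hx).2 l hl
  choose P hPaff hηP hPC hPdisj hPW using hP
  have hdisj : Pairwise (Function.onFun Disjoint P) := by
    intro C C' hne
    show Disjoint (P C) (P C')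
    rw [← Opens.coe_disjoint]
    exact (hPdisj C C' hne.symm).mono_right (hPC C')
  refine ⟨⨆ C, P C, IsAffineOpen.iSup_of_disjoint hPaff hdisj, ?_, ?_⟩
  · refine isAffineHom_of_forall_exists_isAffineOpen _ (fun x => ?_)
    obtain ⟨l, hl⟩ := hWcov x
    refine ⟨W l, hl, hW l, ?_⟩
    rw [← Scheme.Hom.isAffineOpen_iff_of_isOpenImmersion (⨆ C, P C).ι,
      Scheme.Hom.image_preimage_eq_opensRange_inf, Scheme.Opens.opensRange_ι, iSup_inf_eq]
    refine IsAffineOpen.iSup_of_disjoint (fun C => ?_) (fun C C' hne => ?_)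
    · by_cases h : η C ∈ W l
      · rw [inf_eq_left.mpr (hPW C l h)]
        exact hPaff C
      · have : P C ⊓ W l = ⊥ := by
          rw [eq_bot_iff]
          rintro x ⟨hx1, hx2⟩
          exact (h (((hη C).mem_open_set_iff (W l).isOpen).mpr ⟨x, hPC C hx1, hx2⟩)).elim
        rw [this]
        exact isAffineOpen_bot X
    · exact (hdisj hne).mono inf_le_left inf_le_left
  · intro C hC
    exact ⟨η ⟨C, hC⟩, (hη ⟨C, hC⟩).mem, Opens.mem_iSup.mpr ⟨⟨C, hC⟩, hηP ⟨C, hC⟩⟩⟩

/-- Chains of irreducible closed subsets in a closed subscheme missing an open set which meets all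
irreducible components are strictly shorter. -/
theorem ltSeries_length_lt (X Z : Scheme.{u}) (ι : Z ⟶ X) [IsClosedImmersion ι] (U : X.Opens)
    (hr : Set.range ι = ((U : Set X))ᶜ)
    (hU : ∀ C ∈ irreducibleComponents X, (C ∩ (U : Set X)).Nonempty)
    (d : ℕ) (hX : ∀ p : LTSeries (IrreducibleCloseds X), p.length < d + 1)
    (p : LTSeries (IrreducibleCloseds Z)) : p.length < d := by
  have hemb : IsClosedEmbedding ι := ι.isClosedEmbedding
  have hmono : StrictMono (IrreducibleCloseds.map ι hemb.continuous) :=
    IrreducibleCloseds.map_strictMono_of_isInducing hemb.isInducing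
  obtain ⟨T, hT⟩ : ∃ T : IrreducibleCloseds X,
      T = IrreducibleCloseds.map ι hemb.continuous p.last := ⟨_, rfl⟩
  have hTsub : (T : Set X) ⊆ ((U : Set X))ᶜ := by
    rw [hT, IrreducibleCloseds.coe_map, ← hr]
    exact closure_minimal (Set.image_subset_range _ _) hemb.isClosed_range
  obtain ⟨C, hC, hTC⟩ :=
    exists_mem_irreducibleComponents_subset_of_isIrreducible (T : Set X) T.isIrreducible
  have hlt : T < ⟨C, hC.1, isClosed_of_mem_irreducibleComponents C hC⟩ := by
    refine lt_of_le_of_ne (show T ≤ _ from fun x hx => hTC hx) ?_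
    intro heq
    obtain ⟨x, hxC, hxU⟩ := hU C hC
    have : x ∈ (T : Set X) := by
      rw [heq]
      exact hxC
    exact hTsub this hxU
  have := hX ((p.map _ hmono).snoc ⟨C, hC.1, isClosed_of_mem_irreducibleComponents C hC⟩
    (by rw [LTSeries.last_map, ← hT]; exact hlt))
  simp only [RelSeries.snoc_length, LTSeries.map_length] at this
  omega

/-- Assemble a stratification of `X` from one of a closed subscheme `Z` and an affine open
complement `U` with affine inclusion. -/
theorem hasf_assemble (X : Scheme.{u}) (U : X.Opens) (hU : IsAffineOpen U)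
    (hUι : IsAffineHom U.ι) (Z : Scheme.{u}) (ι : Z ⟶ X) [IsClosedImmersion ι]
    (hr : Set.range ι = ((U : Set X))ᶜ) (d : ℕ) (hZ : HASf Z d) : HASf X (d + 1) := by
  classical
  obtain ⟨sZ, hcl, hgood⟩ := hZ
  have hinj : Function.Injective ι := ι.isClosedEmbedding.injective
  have hex : ∀ x : X, x ∉ U → ∃ z : Z, ι z = x := fun x hx => by
    have : x ∈ Set.range ι := by
      rw [hr]
      exact hx
    exact this
  have hnotU : ∀ z : Z, ι z ∉ U := fun z => by
    have : ι z ∈ Set.range ι := ⟨z, rfl⟩
    rw [hr] at this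
    exact this
  obtain ⟨s, hs1, hs2⟩ : ∃ s : X → Fin (d + 1), (∀ x, x ∈ U → s x = Fin.last d) ∧
      (∀ z : Z, s (ι z) = Fin.castSucc (sZ z)) := by
    refine ⟨fun x => if h : x ∈ U then Fin.last d
      else Fin.castSucc (sZ (Classical.choose (hex x h))), fun x hx => dif_pos hx, fun z => ?_⟩
    show (if h : ι z ∈ U then Fin.last d
      else Fin.castSucc (sZ (Classical.choose (hex (ι z) h)))) = _
    rw [dif_neg (hnotU z), hinj (Classical.choose_spec (hex (ι z) (hnotU z)))]
  refine ⟨s, fun i => ?_, fun i => ?_⟩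
  · induction i using Fin.lastCases with
    | last =>
      have : {x : X | s x ≤ Fin.last d} = Set.univ := by
        ext x
        simp [Fin.le_last]
      rw [this]
      exact isClosed_univ
    | cast j =>
      have : {x : X | s x ≤ Fin.castSucc j} = ι '' {z : Z | sZ z ≤ j} := by
        ext x
        constructor
        · intro hx
          by_cases hxU : x ∈ U
          · exfalso
            rw [Set.mem_setOf_eq, hs1 x hxU] at hx
            exact absurd (lt_of_le_of_lt hx (Fin.castSucc_lt_last j)) (lt_irrefl _)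
          · obtain ⟨z, rfl⟩ := hex x hxU
            refine ⟨z, ?_, rfl⟩
            rw [Set.mem_setOf_eq, hs2 z, Fin.castSucc_le_castSucc_iff] at hx
            exact hx
        · rintro ⟨z, hz, rfl⟩
          rw [Set.mem_setOf_eq, hs2 z, Fin.castSucc_le_castSucc_iff]
          exact hz
      rw [this]
      exact ι.isClosedEmbedding.isClosedMap _ (hcl j)
  · induction i using Fin.lastCases with
    | last =>
      have : {x : X | s x = Fin.last d} = (U : Set X) := by
        ext x
        constructor
        · intro hx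
          by_contra hxU
          obtain ⟨z, rfl⟩ := hex x hxU
          rw [Set.mem_setOf_eq, hs2 z] at hx
          exact absurd hx (Fin.castSucc_lt_last _).ne
        · intro hxU
          exact hs1 x hxU
      rw [this]
      exact ⟨U.toScheme, U.ι, inferInstance, hU, hUι, Scheme.Opens.range_ι U⟩
    | cast j =>
      have : {x : X | s x = Fin.castSucc j} = ι '' {z : Z | sZ z = j} := by
        ext x
        constructor
        · intro hx
          by_cases hxU : x ∈ U
          · exfalso
            rw [Set.mem_setOf_eq, hs1 x hxU] at hx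
            exact absurd hx.symm (Fin.castSucc_lt_last _).ne
          · obtain ⟨z, rfl⟩ := hex x hxU
            refine ⟨z, ?_, rfl⟩
            rw [Set.mem_setOf_eq, hs2 z] at hx
            exact Fin.castSucc_injective _ hx
        · rintro ⟨z, hz, rfl⟩
          rw [Set.mem_setOf_eq, hs2 z]
          exact congrArg Fin.castSucc hz
      rw [this]
      obtain ⟨T, τ, h1, h2, h3, h4⟩ := hgood j
      haveI := h1
      haveI := h3
      refine ⟨T, τ ≫ ι, inferInstance, h2, inferInstance, ?_⟩
      rw [← h4]
      ext x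
      constructor
      · rintro ⟨t, rfl⟩
        exact ⟨τ t, ⟨t, rfl⟩, rfl⟩
      · rintro ⟨_, ⟨t, rfl⟩, rfl⟩
        exact ⟨t, rfl⟩

theorem hasf_of_noeth (d : ℕ) : ∀ (X : Scheme.{u}) [IsNoetherian X],
    (∀ p : LTSeries (IrreducibleCloseds X), p.length < d) → HASf X d := by
  induction d with
  | zero =>
    intro X _ h
    haveI : IsEmpty X := ⟨fun x => absurd
      (h (RelSeries.singleton _ ⟨closure {x}, isIrreducible_singleton.closure, isClosed_closure⟩))
      (Nat.not_lt_zero _)⟩
    exact ⟨fun x => isEmptyElim x, fun i => i.elim0, fun i => i.elim0⟩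
  | succ d ih =>
    intro X _ h
    obtain ⟨U, hU, hUι, hUC⟩ := exists_affine_open_dense X
    obtain ⟨I, hI⟩ : ∃ I : X.IdealSheafData, Set.range I.subschemeι = ((U : Set X))ᶜ :=
      ⟨Scheme.IdealSheafData.vanishingIdeal ⟨((U : Set X))ᶜ, U.isOpen.isClosed_compl⟩, by
        rw [Scheme.IdealSheafData.range_subschemeι,
          Scheme.IdealSheafData.coe_support_vanishingIdeal]; rfl⟩
    haveI : CompactSpace I.subscheme := QuasiCompact.compactSpace_of_compactSpace I.subschemeι
    haveI : IsNoetherian I.subscheme :=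
      { __ := LocallyOfFiniteType.isLocallyNoetherian I.subschemeι }
    have hZ := ih I.subscheme (ltSeries_length_lt X I.subscheme I.subschemeι U hI hUC d h)
    exact hasf_assemble X U hU hUι I.subscheme I.subschemeι hI d hZ

theorem main1437 (X : Scheme.{u}) [IsNoetherian X] (d : ℕ) (hd : topologicalKrullDim ↑X = d) :
    MoreMor.HasAffineStratification X d := by
  have h : ∀ p : LTSeries (IrreducibleCloseds X), p.length < d + 1 := by
    intro p
    have h1 : (p.length : WithBot ℕ∞) ≤ topologicalKrullDim X := Order.LTSeries.length_le_krullDim p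
    rw [hd] at h1
    have h2 : p.length ≤ d := by exact_mod_cast h1
    omega
  exact hasf_of_noeth (d + 1) X h

end Groth.Agent.Lib.AffStratH4
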