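import Mathlib
import Groth.Prelude
import Groth.Agent.Lib.SubExt4_helper9
import Groth.Agent.Lib.SubExt_helper9
import Groth.Agent.Lib.FormalFn3_helper2
import Groth.Agent.Lib.CohDev2_helper8
import Groth.Agent.Lib.Exist4_helper2
import Groth.Agent.Lib.SheafOfModulesGrothendieck_helper2

/-!
# A quasi-coherent module on a locally Noetherian scheme is the filtered colimit of its coherent
submodules (helper4)

`exists_colimit_coherent`: for `F` quasi-coherent on a locally Noetherian scheme there are a
directed preorder `J : Type u`, a functor `D : J ⥤ X.Modules` with coherent values and a colimit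
cocone on `D` with point `F`.
APPEND-ONLY once landed.
-/

set_option autoImplicit false
set_option linter.style.haveILetI false
set_option linter.unusedSectionVars false
set_option backward.isDefEq.respectTransparency.types false
set_option maxHeartbeats 1600000
universe u
open CategoryTheory CategoryTheory.Limits AlgebraicGeometry Opposite TopologicalSpace

namespace Groth.Agent.Lib.QCohColimH4

variable {X : Scheme.{u}}

/-- the image of a morphism from a coherent module to a quasi-coherent module is coherent -/
theorem isCoh_image {A F : X.Modules} (hA : Coh.IsCoh A) [F.IsQuasicoherent] (φ : A ⟶ F) :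
    Coh.IsCoh (Limits.image φ) := by
  haveI : A.IsQuasicoherent := hA.1
  haveI : SheafOfModules.IsFiniteType (R := X.ringCatSheaf) A := hA.2
  haveI h1 : (Abelian.coimage φ).IsQuasicoherent := SubExt.isQuasicoherent_coimage φ
  haveI h2 : (Abelian.image φ).IsQuasicoherent :=
    (SheafOfModules.isQuasicoherent X.ringCatSheaf).prop_of_iso (Abelian.coimageIsoImage φ) h1
  haveI hq : (Limits.image φ).IsQuasicoherent :=
    (SheafOfModules.isQuasicoherent X.ringCatSheaf).prop_of_iso (Abelian.imageIsoImage φ) h2
  exact ⟨hq, Groth.Agent.Lib.FormalFnH2.isFiniteType_of_epi (factorThruImage φ)⟩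

variable [IsNoetherian X] (F : X.Modules)

/-- `X.Modules` is a Grothendieck abelian category -/
theorem isGrothendieckAbelian_modules : IsGrothendieckAbelian.{u} X.Modules :=
  Groth.Agent.Lib.FunctorialInjective.isGrothendieckAbelian_sheafOfModules
    (Opens.grothendieckTopology X) X.ringCatSheaf

attribute [local instance] isGrothendieckAbelian_modules

/-- coherent subobjects, in a small type -/
def CohSub : Type u :=
  {a : Shrink.{u} (Subobject F) //
    Coh.IsCoh (((equivShrink (Subobject F)).symm a : Subobject F) : X.Modules)}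

namespace CohSub

variable {F}

/-- the underlying subobject -/
noncomputable def sub (a : CohSub F) : Subobject F := (equivShrink (Subobject F)).symm a.1

noncomputable instance : Preorder (CohSub F) := Preorder.lift sub

theorem isCoh (a : CohSub F) : Coh.IsCoh ((sub a : Subobject F) : X.Modules) := a.2

/-- constructor -/
noncomputable def mk' (S : Subobject F) (h : Coh.IsCoh (S : X.Modules)) : CohSub F :=
  ⟨equivShrink _ S, by rw [Equiv.symm_apply_apply]; exact h⟩

theorem sub_mk' (S : Subobject F) (h : Coh.IsCoh (S : X.Modules)) : sub (mk' S h) = S :=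
  Equiv.symm_apply_apply _ _

theorem le_iff (a b : CohSub F) : a ≤ b ↔ sub a ≤ sub b := Iff.rfl

/-- the subobject of a coherent module mapping monomorphically to `F` -/
noncomputable def ofMono {G : X.Modules} (i : G ⟶ F) [Mono i] (hG : Coh.IsCoh G) : CohSub F :=
  mk' (Subobject.mk i) (CohDevH8.isCoh_of_iso (Subobject.underlyingIso i) hG)

theorem sub_ofMono {G : X.Modules} (i : G ⟶ F) [Mono i] (hG : Coh.IsCoh G) :
    sub (ofMono i hG) = Subobject.mk i := sub_mk' _ _

/-- the image of a morphism from a coherent module -/
noncomputable def ofImage [F.IsQuasicoherent] {A : X.Modules} (φ : A ⟶ F) (hA : Coh.IsCoh A) :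
    CohSub F :=
  mk' (imageSubobject φ) (CohDevH8.isCoh_of_iso (imageSubobjectIso φ) (isCoh_image hA φ))

theorem sub_ofImage [F.IsQuasicoherent] {A : X.Modules} (φ : A ⟶ F) (hA : Coh.IsCoh A) :
    sub (ofImage φ hA) = imageSubobject φ := sub_mk' _ _

instance [F.IsQuasicoherent] : IsDirected (CohSub F) (· ≤ ·) where
  directed a b := by
    refine ⟨ofImage (biprod.desc (sub a).arrow (sub b).arrow)
      (CohDevH8.isCoh_biprod a.isCoh b.isCoh), ?_, ?_⟩
    · rw [le_iff, sub_ofImage]
      refine Subobject.le_of_comm (biprod.inl ≫ factorThruImageSubobject _) ?_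
      rw [Category.assoc, imageSubobject_arrow_comp, biprod.inl_desc]
    · rw [le_iff, sub_ofImage]
      refine Subobject.le_of_comm (biprod.inr ≫ factorThruImageSubobject _) ?_
      rw [Category.assoc, imageSubobject_arrow_comp, biprod.inr_desc]

instance : Nonempty (CohSub F) :=
  ⟨mk' ⊥ (CohDevH8.isCoh_of_isZero ((isZero_zero _).of_iso Subobject.botCoeIsoZero))⟩

end CohSub

open CohSub

/-- the diagram of coherent subobjects -/
noncomputable def cohDiag : CohSub F ⥤ MonoOver F :=
  (show Monotone (sub (F := F)) from fun _ _ h => h).functor ⋙ Subobject.representative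

/-- the underlying diagram of modules -/
noncomputable abbrev cohDiagObj : CohSub F ⥤ X.Modules :=
  cohDiag F ⋙ MonoOver.forget _ ⋙ Over.forget _

theorem isCoh_cohDiagObj (a : CohSub F) : Coh.IsCoh ((cohDiagObj F).obj a) := a.isCoh

/-- the cocone of inclusions -/
noncomputable def cohCocone : Cocone (cohDiagObj F) where
  pt := F
  ι :=
    { app := fun a => ((cohDiag F).obj a).obj.hom
      naturality := fun a b f => by
        have := MonoOver.w ((cohDiag F).map f)
        simp [this] }

theorem cohCocone_ι_app (a : CohSub F) : (cohCocone F).ι.app a = (sub a).arrow := rfl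

open QcqsLoc QCohExtn in
/-- sections of `F` over affine opens lie in coherent subobjects -/
theorem exists_section_of_eq_mk {G : X.Modules} (i : G ⟶ F) [Mono i] (S : Subobject F)
    (h : S = Subobject.mk i) (U : X.Opens) (g : Γ(G, U)) :
    ∃ g' : Γ((S : X.Modules), U), ap S.arrow U g' = ap i U g := by
  subst h
  refine ⟨ap (Subobject.underlyingIso i).inv U g, ?_⟩
  have h1 : (Subobject.underlyingIso i).inv ≫ (Subobject.mk i).arrow = i :=
    Subobject.underlyingIso_arrow i
  calc ap (Subobject.mk i).arrow U (ap (Subobject.underlyingIso i).inv U g)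
      = ap ((Subobject.underlyingIso i).inv ≫ (Subobject.mk i).arrow) U g := rfl
    _ = ap i U g := by rw [h1]

open QcqsLoc QCohExtn in
/-- **a quasi-coherent module on a Noetherian scheme is the filtered colimit of its coherent
submodules.** -/
theorem isColimit_cohCocone [F.IsQuasicoherent] :
    Nonempty (IsColimit (cohCocone F)) := by
  let f : colimit (cohDiagObj F) ⟶ F := colimit.desc _ (cohCocone F)
  have hf : ∀ a, colimit.ι (cohDiagObj F) a ≫ f = ((cohDiag F).obj a).obj.hom :=
    fun a => colimit.ι_desc _ _
  haveI : Mono f :=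
    IsGrothendieckAbelian.mono_of_isColimit_monoOver (cohDiag F) (colimit.isColimit _) f hf
  haveI : Epi f := by
    refine Groth.Agent.Lib.FormalQuotH2.epi_of_app_surjective_affine f (fun U hU s => ?_)
    have hX : ∀ x : X, ∃ V : X.Opens, x ∈ V ∧ NoetherianSpace (V : Set X) :=
      fun x => ⟨⊤, trivial, inferInstance⟩
    obtain ⟨G, i, hmono, hq, hft, g, hg⟩ := SubExt.exists_ft_sub_section_locNoeth hX F hU s
    haveI := hmono
    obtain ⟨g', hg'⟩ := exists_section_of_eq_mk F i (sub (ofMono i ⟨hq, hft⟩))
      (sub_ofMono i ⟨hq, hft⟩) U g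
    refine ⟨ap (colimit.ι (cohDiagObj F) (ofMono i ⟨hq, hft⟩)) U g', ?_⟩
    have h2 : ap f U (ap (colimit.ι (cohDiagObj F) (ofMono i ⟨hq, hft⟩)) U g') =
        ap (colimit.ι (cohDiagObj F) (ofMono i ⟨hq, hft⟩) ≫ f) U g' := rfl
    rw [← hg, ← hg']
    refine h2.trans ?_
    rw [hf]
    rfl
  have hiso : IsIso f := isIso_of_mono_of_epi f
  exact ⟨IsColimit.ofIsoColimit (colimit.isColimit _)
    (Cocone.ext (@asIso _ _ _ _ f hiso) (fun a => hf a))⟩

end Groth.Agent.Lib.QCohColimH4
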