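import Mathlib
import Groth.Prelude
import Groth.Agent.Lib.QCohColim1_helper4
import Groth.Agent.Lib.ColimCoh4_helper9
import Groth.Agent.Lib.BCCech1_helper2
import Groth.Agent.Lib.ModSite1_helper8

/-!
# Cohomology classes of a quasi-coherent module come from coherent submodules (helper4)
APPEND-ONLY once landed.
-/

set_option autoImplicit false
set_option linter.style.haveILetI false
set_option linter.unusedSectionVars false
set_option backward.isDefEq.respectTransparency.types false
set_option maxHeartbeats 1600000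
universe u
open CategoryTheory CategoryTheory.Limits AlgebraicGeometry Opposite TopologicalSpace

namespace Groth.Agent.Lib.QCohColimH4

variable {X : Scheme.{u}} [IsNoetherian X] (F : X.Modules)

open CohSub

/-- every class in `H^r(X, F)`, `F` quasi-coherent on a Noetherian scheme, comes from a coherent
submodule. -/
theorem exists_rep_HH [F.IsQuasicoherent] (r : ℕ) (x : Coh.HH X F r) :
    ∃ (a : CohSub F) (y : Coh.HH X ((cohDiagObj F).obj a) r),
      Sheaf.H.map ((SheafOfModules.toSheaf X.ringCatSheaf).map ((cohCocone F).ι.app a)) r y = x := by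
  obtain ⟨hc⟩ := isColimit_cohCocone F
  haveI := Groth.Agent.Lib.ModSiteH8.toSheaf_preservesColimitsOfSize X.ringCatSheaf
  have hc1 : IsColimit ((SheafOfModules.toSheaf X.ringCatSheaf).mapCocone (cohCocone F)) :=
    isColimitOfPreserves _ hc
  have hqs : IsQuasiSeparated (((⊤ : X.Opens) : Set X)) := by
    intro U V _ _ _ _ _ _
    exact NoetherianSpace.isCompact _
  have hcpt : IsCompact (((⊤ : X.Opens) : Set X)) := NoetherianSpace.isCompact _
  have hpres := ColimCoh.preservesColimit_cohomology (X := X.toTopCat)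
    (ColimCoh.qcqs_of_scheme (⊤ : X.Opens) hqs) hcpt
    (cohDiagObj F ⋙ SheafOfModules.toSheaf X.ringCatSheaf) r
  obtain ⟨hc2⟩ := hpres.preserves hc1
  obtain ⟨e, he⟩ : ∃ e : CohSite.HU (Coh.toAb F) r (⊤ : X.Opens) ≃+ Coh.HH X F r,
      e = Groth.Agent.Lib.BCCechH2.topEquiv (X := X.toTopCat) (Coh.toAb F) r := ⟨_, rfl⟩
  obtain ⟨a, y, hy⟩ := Concrete.isColimit_exists_rep _ hc2 (e.symm x)
  refine ⟨a, Groth.Agent.Lib.BCCechH2.topEquiv (X := X.toTopCat)
    (Coh.toAb ((cohDiagObj F).obj a)) r y, ?_⟩
  have h1 := Groth.Agent.Lib.BCCechH2.topEquiv_natural (X := X.toTopCat)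
    ((SheafOfModules.toSheaf X.ringCatSheaf).map ((cohCocone F).ι.app a)) r y
  have h2 : e (CechEdge.HUmap
      ((SheafOfModules.toSheaf X.ringCatSheaf).map ((cohCocone F).ι.app a)) r (⊤ : X.Opens) y) =
      Sheaf.H.map ((SheafOfModules.toSheaf X.ringCatSheaf).map ((cohCocone F).ι.app a)) r
        (Groth.Agent.Lib.BCCechH2.topEquiv (X := X.toTopCat)
          (Coh.toAb ((cohDiagObj F).obj a)) r y) := by
    rw [he]
    exact h1
  have h3 : CechEdge.HUmap
      ((SheafOfModules.toSheaf X.ringCatSheaf).map ((cohCocone F).ι.app a)) r (⊤ : X.Opens) y =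
      e.symm x := hy
  rw [← h2, h3, AddEquiv.apply_symm_apply]

end Groth.Agent.Lib.QCohColimH4
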