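import Mathlib
import Groth.Prelude
import Groth.Agent.Lib.QCohColim2_helper4
import Groth.Agent.Lib.SubExt3_helper9
import Groth.Agent.Lib.CohDev8_helper8

/-!
# A quasi-coherent module on a qcqs scheme is the directed colimit of its quasi-coherent
submodules of finite type; cohomology classes come from such submodules (helper2)

Generalises helper4's `QCohColim1/2_helper4` from Noetherian to quasi-compact quasi-separated
schemes (using helper9's `SubExt.exists_ft_sub_section`).

* `FtSub F`: the (small) directed preorder of quasi-coherent finite-type subobjects of `F`;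
* `ftDiagObj F`, `ftCocone F`, `isColimit_ftCocone`;
* `exists_rep_HH`, `subsingleton_HH_of_ftSub`.
APPEND-ONLY once landed.
-/

set_option autoImplicit false
set_option linter.style.haveILetI false
set_option linter.unusedSectionVars false
set_option backward.isDefEq.respectTransparency.types false
set_option maxHeartbeats 1600000
universe u
open CategoryTheory CategoryTheory.Limits AlgebraicGeometry Opposite TopologicalSpace

namespace Groth.Agent.Lib.QcqsColimH2

variable {X : Scheme.{u}}

/-- `X.Modules` is a Grothendieck abelian category -/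
theorem isGrothendieckAbelian_modules : IsGrothendieckAbelian.{u} X.Modules :=
  Groth.Agent.Lib.FunctorialInjective.isGrothendieckAbelian_sheafOfModules
    (Opens.grothendieckTopology X) X.ringCatSheaf

attribute [local instance] isGrothendieckAbelian_modules

/-- `Coh.IsCoh` (quasi-coherent of finite type) is invariant under isomorphism, on any scheme -/
theorem isCoh_of_iso {M N : X.Modules} (e : M ≅ N) (hN : Coh.IsCoh N) : Coh.IsCoh M := by
  haveI := hN.1
  haveI hMq : M.IsQuasicoherent := CohOpenH8.isQuasicoherent_of_iso e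
  exact ⟨hMq, CohOpenH8.isFiniteType_of_iso e hN.2⟩

variable (F : X.Modules)

/-- quasi-coherent finite-type subobjects, in a small type -/
def FtSub : Type u :=
  {a : Shrink.{u} (Subobject F) //
    Coh.IsCoh (((equivShrink (Subobject F)).symm a : Subobject F) : X.Modules)}

namespace FtSub

variable {F}

/-- the underlying subobject -/
noncomputable def sub (a : FtSub F) : Subobject F := (equivShrink (Subobject F)).symm a.1

noncomputable instance : Preorder (FtSub F) := Preorder.lift sub

theorem isCoh (a : FtSub F) : Coh.IsCoh ((sub a : Subobject F) : X.Modules) := a.2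

/-- constructor -/
noncomputable def mk' (S : Subobject F) (h : Coh.IsCoh (S : X.Modules)) : FtSub F :=
  ⟨equivShrink _ S, by rw [Equiv.symm_apply_apply]; exact h⟩

theorem sub_mk' (S : Subobject F) (h : Coh.IsCoh (S : X.Modules)) : sub (mk' S h) = S :=
  Equiv.symm_apply_apply _ _

theorem le_iff (a b : FtSub F) : a ≤ b ↔ sub a ≤ sub b := Iff.rfl

/-- the subobject of a qcoh f.t. module mapping monomorphically to `F` -/
noncomputable def ofMono {G : X.Modules} (i : G ⟶ F) [Mono i] (hG : Coh.IsCoh G) : FtSub F :=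
  mk' (Subobject.mk i) (isCoh_of_iso (Subobject.underlyingIso i) hG)

theorem sub_ofMono {G : X.Modules} (i : G ⟶ F) [Mono i] (hG : Coh.IsCoh G) :
    sub (ofMono i hG) = Subobject.mk i := sub_mk' _ _

/-- the image of a morphism from a qcoh f.t. module -/
noncomputable def ofImage [F.IsQuasicoherent] {A : X.Modules} (φ : A ⟶ F) (hA : Coh.IsCoh A) :
    FtSub F :=
  mk' (imageSubobject φ) (isCoh_of_iso (imageSubobjectIso φ)
    (Groth.Agent.Lib.QCohColimH4.isCoh_image hA φ))

theorem sub_ofImage [F.IsQuasicoherent] {A : X.Modules} (φ : A ⟶ F) (hA : Coh.IsCoh A) :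
    sub (ofImage φ hA) = imageSubobject φ := sub_mk' _ _

instance [F.IsQuasicoherent] : IsDirected (FtSub F) (· ≤ ·) where
  directed a b := by
    refine ⟨ofImage (biprod.desc (sub a).arrow (sub b).arrow)
      (CohDevH8.isCoh_biprod a.isCoh b.isCoh), ?_, ?_⟩
    · rw [le_iff, sub_ofImage]
      refine Subobject.le_of_comm (biprod.inl ≫ factorThruImageSubobject _) ?_
      rw [Category.assoc, imageSubobject_arrow_comp, biprod.inl_desc]
    · rw [le_iff, sub_ofImage]
      refine Subobject.le_of_comm (biprod.inr ≫ factorThruImageSubobject _) ?_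
      rw [Category.assoc, imageSubobject_arrow_comp, biprod.inr_desc]

instance [F.IsQuasicoherent] : Nonempty (FtSub F) :=
  ⟨ofImage (0 : Coh.structureModule X ⟶ F) (CohDevH8.isCoh_structureModule X)⟩

end FtSub

open FtSub

/-- the diagram of qcoh f.t. subobjects -/
noncomputable def ftDiag : FtSub F ⥤ MonoOver F :=
  (show Monotone (sub (F := F)) from fun _ _ h => h).functor ⋙ Subobject.representative

/-- the underlying diagram of modules -/
noncomputable abbrev ftDiagObj : FtSub F ⥤ X.Modules :=
  ftDiag F ⋙ MonoOver.forget _ ⋙ Over.forget _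

theorem isCoh_ftDiagObj (a : FtSub F) : Coh.IsCoh ((ftDiagObj F).obj a) := a.isCoh

/-- the cocone of inclusions -/
noncomputable def ftCocone : Cocone (ftDiagObj F) where
  pt := F
  ι :=
    { app := fun a => ((ftDiag F).obj a).obj.hom
      naturality := fun a b f => by
        have := MonoOver.w ((ftDiag F).map f)
        simp [this] }

theorem ftCocone_ι_app (a : FtSub F) : (ftCocone F).ι.app a = (sub a).arrow := rfl

instance mono_ftCocone_ι_app (a : FtSub F) : Mono ((ftCocone F).ι.app a) := by
  rw [ftCocone_ι_app]; exact Subobject.arrow_mono _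

open QcqsLoc QCohExtn in
/-- sections of `F` over affine opens lie in qcoh f.t. subobjects -/
theorem exists_section_of_eq_mk {G : X.Modules} (i : G ⟶ F) [Mono i] (S : Subobject F)
    (h : S = Subobject.mk i) (U : X.Opens) (g : Γ(G, U)) :
    ∃ g' : Γ((S : X.Modules), U), ap S.arrow U g' = ap i U g := by
  subst h
  refine ⟨ap (Subobject.underlyingIso i).inv U g, ?_⟩
  have h1 : (Subobject.underlyingIso i).inv ≫ (Subobject.mk i).arrow = i :=
    Subobject.underlyingIso_arrow i
  calc ap (Subobject.mk i).arrow U (ap (Subobject.underlyingIso i).inv U g)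
      = ap ((Subobject.underlyingIso i).inv ≫ (Subobject.mk i).arrow) U g := rfl
    _ = ap i U g := by rw [h1]

open QcqsLoc QCohExtn in
/-- **a quasi-coherent module on a qcqs scheme is the directed colimit of its quasi-coherent
submodules of finite type.** -/
theorem isColimit_ftCocone [CompactSpace X] [QuasiSeparatedSpace X] [F.IsQuasicoherent] :
    Nonempty (IsColimit (ftCocone F)) := by
  let f : colimit (ftDiagObj F) ⟶ F := colimit.desc _ (ftCocone F)
  have hf : ∀ a, colimit.ι (ftDiagObj F) a ≫ f = ((ftDiag F).obj a).obj.hom :=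
    fun a => colimit.ι_desc _ _
  haveI : Mono f :=
    IsGrothendieckAbelian.mono_of_isColimit_monoOver (ftDiag F) (colimit.isColimit _) f hf
  haveI : Epi f := by
    refine Groth.Agent.Lib.FormalQuotH2.epi_of_app_surjective_affine f (fun U hU s => ?_)
    obtain ⟨G, i, hmono, hq, hft, g, hg⟩ := SubExt.exists_ft_sub_section F hU s
    haveI := hmono
    obtain ⟨g', hg'⟩ := exists_section_of_eq_mk F i (sub (ofMono i ⟨hq, hft⟩))
      (sub_ofMono i ⟨hq, hft⟩) U g
    refine ⟨ap (colimit.ι (ftDiagObj F) (ofMono i ⟨hq, hft⟩)) U g', ?_⟩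
    have h2 : ap f U (ap (colimit.ι (ftDiagObj F) (ofMono i ⟨hq, hft⟩)) U g') =
        ap (colimit.ι (ftDiagObj F) (ofMono i ⟨hq, hft⟩) ≫ f) U g' := rfl
    rw [← hg, ← hg']
    refine h2.trans ?_
    rw [hf]
    rfl
  have hiso : IsIso f := isIso_of_mono_of_epi f
  exact ⟨IsColimit.ofIsoColimit (colimit.isColimit _)
    (Cocone.ext (@asIso _ _ _ _ f hiso) (fun a => hf a))⟩

/-- every class in `H^r(X, F)`, `F` quasi-coherent on a qcqs scheme, comes from a
quasi-coherent submodule of finite type. -/
theorem exists_rep_HH [CompactSpace X] [QuasiSeparatedSpace X] [F.IsQuasicoherent] (r : ℕ)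
    (x : Coh.HH X F r) :
    ∃ (a : FtSub F) (y : Coh.HH X ((ftDiagObj F).obj a) r),
      Sheaf.H.map ((SheafOfModules.toSheaf X.ringCatSheaf).map ((ftCocone F).ι.app a)) r y = x := by
  obtain ⟨hc⟩ := isColimit_ftCocone F
  haveI := Groth.Agent.Lib.ModSiteH8.toSheaf_preservesColimitsOfSize X.ringCatSheaf
  have hc1 : IsColimit ((SheafOfModules.toSheaf X.ringCatSheaf).mapCocone (ftCocone F)) :=
    isColimitOfPreserves _ hc
  have hqs : IsQuasiSeparated (((⊤ : X.Opens) : Set X)) := by
    intro U V _ hU hUc _ hV hVc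
    exact QuasiSeparatedSpace.inter_isCompact U V hU hUc hV hVc
  have hcpt : IsCompact (((⊤ : X.Opens) : Set X)) := by
    simpa using (isCompact_univ : IsCompact (Set.univ : Set X))
  have hpres := ColimCoh.preservesColimit_cohomology (X := X.toTopCat)
    (ColimCoh.qcqs_of_scheme (⊤ : X.Opens) hqs) hcpt
    (ftDiagObj F ⋙ SheafOfModules.toSheaf X.ringCatSheaf) r
  obtain ⟨hc2⟩ := hpres.preserves hc1
  obtain ⟨e, he⟩ : ∃ e : CohSite.HU (Coh.toAb F) r (⊤ : X.Opens) ≃+ Coh.HH X F r,
      e = Groth.Agent.Lib.BCCechH2.topEquiv (X := X.toTopCat) (Coh.toAb F) r := ⟨_, rfl⟩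
  obtain ⟨a, y, hy⟩ := Concrete.isColimit_exists_rep _ hc2 (e.symm x)
  refine ⟨a, Groth.Agent.Lib.BCCechH2.topEquiv (X := X.toTopCat)
    (Coh.toAb ((ftDiagObj F).obj a)) r y, ?_⟩
  have h1 := Groth.Agent.Lib.BCCechH2.topEquiv_natural (X := X.toTopCat)
    ((SheafOfModules.toSheaf X.ringCatSheaf).map ((ftCocone F).ι.app a)) r y
  have h2 : e (CechEdge.HUmap
      ((SheafOfModules.toSheaf X.ringCatSheaf).map ((ftCocone F).ι.app a)) r (⊤ : X.Opens) y) =
      Sheaf.H.map ((SheafOfModules.toSheaf X.ringCatSheaf).map ((ftCocone F).ι.app a)) r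
        (Groth.Agent.Lib.BCCechH2.topEquiv (X := X.toTopCat)
          (Coh.toAb ((ftDiagObj F).obj a)) r y) := by
    rw [he]
    exact h1
  have h3 : CechEdge.HUmap
      ((SheafOfModules.toSheaf X.ringCatSheaf).map ((ftCocone F).ι.app a)) r (⊤ : X.Opens) y =
      e.symm x := hy
  rw [← h2, h3, AddEquiv.apply_symm_apply]

/-- cohomology of a quasi-coherent module on a qcqs scheme vanishes if it vanishes on all its
quasi-coherent submodules of finite type. -/
theorem subsingleton_HH_of_ftSub [CompactSpace X] [QuasiSeparatedSpace X] [F.IsQuasicoherent]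
    (r : ℕ) (h : ∀ a : FtSub F, Subsingleton (Coh.HH X ((ftDiagObj F).obj a) r)) :
    Subsingleton (Coh.HH X F r) := by
  have key : ∀ x : Coh.HH X F r, x = 0 := by
    intro x
    obtain ⟨a, y, rfl⟩ := exists_rep_HH F r x
    haveI := h a
    rw [Subsingleton.elim y 0, map_zero]
    rfl
  exact ⟨fun x y => by rw [key x, key y]⟩

end Groth.Agent.Lib.QcqsColimH2
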