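import Mathlib
import Groth.Prelude
import Groth.Agent.Lib.QcqsColim1_helper2
import Groth.Agent.Lib.CurveVan1_helper9
import Groth.Agent.Lib.ThickAff5_helper6
import Groth.Agent.Lib.AffStrat2_helper4
import Groth.Agent.Lib.ClPush1_helper8
import Groth.Agent.Lib.CohDev3_helper8
import Groth.Agent.Lib.Leray_helper9
import Groth.Agent.Lib.FCompl1_helper8

/-!
# Cohomology vanishes above the affine stratification number (helper2; Stacks 0F2Z)

* `isAffineOpen_of_immersion_range`, `isAffineHom_ι_of_immersion_range`: an open which is the range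
  of an (affine) immersion from an affine scheme is affine (with affine inclusion);
* `hasAffineStratification_pullback`: affine stratifications pull back along affine morphisms
  missing the top stratum;
* `HH_subsingleton_of_affine_open`: dévissage along `F → j_* j^* F` for an affine open with affine
  inclusion;
* `subsingleton_HH_push`: `H^q(Z, G) = 0 ⇒ H^q(X, i_* G) = 0` for a closed immersion;
* `main`: the theorem.
APPEND-ONLY once landed.
-/

set_option autoImplicit false
universe u
open CategoryTheory CategoryTheory.Limits AlgebraicGeometry Opposite TopologicalSpace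

namespace Groth.Agent.Lib.AffStratVanH2

open QcqsLoc QCohExtn

section Geom

/-- An open of `X` which is the range of an immersion from an affine scheme is affine. -/
theorem isAffineOpen_of_immersion_range {Z X : Scheme.{u}} (ι : Z ⟶ X) [IsImmersion ι] [IsAffine Z]
    (W : X.Opens) (h : Set.range ι = (W : Set X)) : IsAffineOpen W := by
  have hsub : Set.range ι ⊆ Set.range W.ι := by rw [Scheme.Opens.range_ι, h]
  let ι' : Z ⟶ W.toScheme := IsOpenImmersion.lift W.ι ι hsub
  have hfac : ι' ≫ W.ι = ι := IsOpenImmersion.lift_fac _ _ _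
  haveI : IsPreimmersion (ι' ≫ W.ι) := by rw [hfac]; infer_instance
  haveI : IsPreimmersion ι' := .of_comp ι' W.ι
  have hsurj : Function.Surjective ι' := by
    intro w
    have hw : W.ι w ∈ Set.range ι := by
      rw [h]
      have := Set.mem_range_self (f := W.ι) w
      rwa [Scheme.Opens.range_ι] at this
    obtain ⟨z, hz⟩ := hw
    refine ⟨z, W.ι.isEmbedding.injective ?_⟩
    rw [← hz, ← hfac]
    rfl
  haveI : IsClosedImmersion ι' :=
    .of_isPreimmersion ι' (by rw [hsurj.range_eq]; exact isClosed_univ)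
  haveI : Surjective ι' := ⟨hsurj⟩
  exact Groth.Agent.Lib.ThickAffH6.isAffine_of_thickening ι'

/-- The inclusion of an open which is the range of an affine immersion from an affine scheme is
an affine morphism. -/
theorem isAffineHom_ι_of_immersion_range {Z X : Scheme.{u}} (ι : Z ⟶ X) [IsImmersion ι]
    [IsAffineHom ι] (U : X.Opens) (h : Set.range ι = (U : Set X)) : IsAffineHom U.ι := by
  refine ⟨fun V hV => ?_⟩
  have hZV : IsAffineOpen (ι ⁻¹ᵁ V) := hV.preimage ι
  haveI : IsAffine (ι ⁻¹ᵁ V).toScheme := hZV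
  have hrange : Set.range ((ι ⁻¹ᵁ V).ι ≫ ι) = ((U ⊓ V : X.Opens) : Set X) := by
    ext x
    constructor
    · rintro ⟨z, rfl⟩
      refine ⟨?_, ?_⟩
      · have : ((ι ⁻¹ᵁ V).ι ≫ ι) z ∈ Set.range ι := ⟨(ι ⁻¹ᵁ V).ι z, rfl⟩
        rwa [h] at this
      · have hz := Set.mem_range_self (f := (ι ⁻¹ᵁ V).ι) z
        rw [Scheme.Opens.range_ι] at hz
        exact hz
    · rintro ⟨hxU, hxV⟩
      have hx : x ∈ Set.range ι := by rw [h]; exact hxU
      obtain ⟨z, rfl⟩ := hx
      have hz : z ∈ Set.range (ι ⁻¹ᵁ V).ι := by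
        rw [Scheme.Opens.range_ι]; exact hxV
      obtain ⟨z', rfl⟩ := hz
      exact ⟨z', rfl⟩
  have h1 : IsAffineOpen (U ⊓ V) :=
    isAffineOpen_of_immersion_range ((ι ⁻¹ᵁ V).ι ≫ ι) (U ⊓ V) hrange
  have h2 : U.ι ''ᵁ (U.ι ⁻¹ᵁ V) = U ⊓ V := by
    rw [Scheme.Hom.image_preimage_eq_opensRange_inf, Scheme.Opens.opensRange_ι]
  rw [← U.ι.isAffineOpen_iff_of_isOpenImmersion, h2]
  exact h1

/-- An affine stratification with `n + 2` strata pulls back, along an affine morphism missing the
top stratum, to an affine stratification with `n + 1` strata. -/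
theorem hasAffineStratification_pullback {T X : Scheme.{u}} (g : T ⟶ X) [IsAffineHom g] (n : ℕ)
    (s : X → Fin (n + 2)) (hs : ∀ i : Fin (n + 2), IsClosed {x : X | s x ≤ i})
    (hstr : ∀ i : Fin (n + 2), ∃ (Z : Scheme.{u}) (ι : Z ⟶ X),
      IsImmersion ι ∧ IsAffine Z ∧ IsAffineHom ι ∧ Set.range ι = {x : X | s x = i})
    (hg : ∀ t : T, s (g t) ≠ Fin.last (n + 1)) :
    MoreMor.HasAffineStratification T n := by
  refine ⟨fun t => (s (g t)).castPred (hg t), fun i => ?_, fun i => ?_⟩
  · have hset : {t : T | (s (g t)).castPred (hg t) ≤ i} = g ⁻¹' {x | s x ≤ i.castSucc} := by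
      ext t
      simp only [Set.mem_setOf_eq, Set.mem_preimage]
      rw [Fin.le_def, Fin.le_def]
      simp
    rw [hset]
    exact (hs _).preimage g.continuous
  · obtain ⟨Z, ι, hι, hZ, hιa, hr⟩ := hstr i.castSucc
    haveI := hι
    haveI := hZ
    haveI := hιa
    have hfst : IsAffineHom (pullback.fst g ι) :=
      MorphismProperty.pullback_fst (P := @IsAffineHom) g ι hιa
    refine ⟨pullback g ι, pullback.fst g ι, inferInstance, ?_, hfst, ?_⟩
    · haveI : IsAffineHom (pullback.snd g ι) :=
        MorphismProperty.pullback_snd (P := @IsAffineHom) g ι inferInstance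
      exact isAffine_of_isAffineHom (pullback.snd g ι)
    · rw [Scheme.Pullback.range_fst, hr]
      ext t
      simp only [Set.mem_preimage, Set.mem_setOf_eq]
      constructor
      · intro h
        apply Fin.ext
        simp [h]
      · intro h
        rw [← h]
        simp

end Geom

section Coh

variable {X : Scheme.{u}}

/-- `K` has no stalks on `U`. -/
def NullOn (K : X.Modules) (U : X.Opens) : Prop :=
  ∀ x, x ∈ U → Subsingleton (K.presheaf.stalk x)

/-- stalks of a subobject vanish where those of the ambient module do -/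
theorem subsingleton_stalk_of_mono {A B : X.Modules} (i : A ⟶ B) [Mono i] (x : X)
    (h : Subsingleton (B.presheaf.stalk x)) : Subsingleton (A.presheaf.stalk x) := by
  refine CurveVan.subsingleton_stalk_of_locally_zero A x (fun V hxV s => ?_)
  have hg : B.presheaf.germ V x hxV (ap i V s) = B.presheaf.germ V x hxV 0 :=
    Subsingleton.elim _ _
  obtain ⟨W, hxW, iU, iV, hW⟩ := TopCat.Presheaf.germ_eq B.presheaf x hxV hxV _ _ hg
  refine ⟨W, iU.le, hxW, ?_⟩
  apply QCohExact.app_injective_of_mono i W
  have h1 : ap i W (rF A iU.le s) = rF B iU.le (ap i V s) := ap_rF i iU.le s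
  have h2 : rF B iU.le (ap i V s) = 0 := by
    have h3 : rF B iU.le (ap i V s) = B.presheaf.map iU.op (ap i V s) := rfl
    rw [h3, hW, map_zero]
  show ap i W (rF A iU.le s) = ap i W 0
  rw [h1, h2, map_zero]

theorem nullOn_of_mono {A B : X.Modules} (i : A ⟶ B) [Mono i] {U : X.Opens} (h : NullOn B U) :
    NullOn A U := fun x hx => subsingleton_stalk_of_mono i x (h x hx)

/-- `H^q(Z, G) = 0 ⇒ H^q(X, i_* G) = 0` for a closed immersion `i`. -/
theorem subsingleton_HH_push {Z : Scheme.{u}} (i : Z ⟶ X) [IsClosedImmersion i] (G : Z.Modules)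
    (j : ℕ) (h : Subsingleton (Coh.HH Z G j)) :
    Subsingleton (Coh.HH X ((Scheme.Modules.pushforward i).obj G) j) := by
  obtain ⟨e⟩ := _root_.Leray.nonempty_H_addEquiv_push i.base (Coh.toAb G)
    (fun q => _root_.RpushVanish.isZero_Rpush_succ_of_isClosedEmbedding i.base
      i.isClosedEmbedding (Coh.toAb G) q) j
  haveI : Subsingleton (CohTop.H (Coh.toAb G) j) := h
  have h2 : Subsingleton (CohTop.H ((CohTop.push i.base).obj (Coh.toAb G)) j) :=
    e.symm.toEquiv.subsingleton
  exact h2

/-- Dévissage along `F → j_* j^* F` for an affine open `U` with affine inclusion: if quasi-coherent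
modules without stalks on `U` have no cohomology above degree `n`, then quasi-coherent modules
have no cohomology above degree `n + 1`. -/
theorem HH_subsingleton_of_affine_open (U : X.Opens) (hU : IsAffineOpen U) [IsAffineHom U.ι] (n : ℕ)
    (hZ : ∀ K : X.Modules, K.IsQuasicoherent → NullOn K U → ∀ q : ℕ, n < q →
      Subsingleton (Coh.HH X K q))
    (F : X.Modules) [F.IsQuasicoherent] (q : ℕ) (hq : n + 1 < q) :
    Subsingleton (Coh.HH X F q) := by
  obtain ⟨m, rfl⟩ : ∃ m, q = m + 1 := ⟨q - 1, by omega⟩
  have hm : n < m := by omega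
  haveI : IsAffine (U : Scheme.{u}) := hU
  haveI hG : (F.restrict U.ι).IsQuasicoherent := inferInstance
  haveI hPq : ((Scheme.Modules.pushforward U.ι).obj (F.restrict U.ι)).IsQuasicoherent :=
    QcqsLoc.isQuasicoherent_pushforward_qcqs U.ι (F.restrict U.ι)
  have hP : ∀ p : ℕ, Subsingleton (Coh.HH X ((Scheme.Modules.pushforward U.ι).obj
      (F.restrict U.ι)) (p + 1)) := by
    intro p
    have hbij := Groth.Agent.Lib.PushEdge2_helper7.pushEdge_bijective_of_isAffineHom U.ι
      (F.restrict U.ι) (p + 1)
    haveI := AffVanish.HH_subsingleton_of_isAffine (U : Scheme.{u}) (F.restrict U.ι) p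
    exact ⟨fun a b => hbij.1 (Subsingleton.elim _ _)⟩
  haveI hKq : (kernel (CurveVan.η U F)).IsQuasicoherent :=
    SubExt.isQuasicoherent_kernel (CurveVan.η U F)
  haveI hQq : (cokernel (CurveVan.η U F)).IsQuasicoherent :=
    FComplH8.isQuasicoherent_cokernel (CurveVan.η U F)
  have hK : ∀ p : ℕ, n < p → Subsingleton (Coh.HH X (kernel (CurveVan.η U F)) p) := fun p hp =>
    hZ _ hKq (fun x hx => CurveVan.subsingleton_stalk_kernel U F hx) p hp
  have hQ : ∀ p : ℕ, n < p → Subsingleton (Coh.HH X (cokernel (CurveVan.η U F)) p) := fun p hp =>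
    hZ _ hQq (fun x hx => CurveVan.subsingleton_stalk_cokernel U F hx) p hp
  let S₁ : ShortComplex X.Modules :=
    ShortComplex.mk (kernel.ι (CurveVan.η U F)) (cokernel.π (kernel.ι (CurveVan.η U F)))
      (cokernel.condition _)
  have hS₁ : S₁.ShortExact := ShortComplex.ShortExact.mk' (ShortComplex.exact_cokernel _)
    (inferInstanceAs (Mono (kernel.ι (CurveVan.η U F))))
    (inferInstanceAs (Epi (cokernel.π (kernel.ι (CurveVan.η U F)))))
  let S₂ : ShortComplex X.Modules :=
    ShortComplex.mk (kernel.ι (cokernel.π (CurveVan.η U F))) (cokernel.π (CurveVan.η U F))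
      (kernel.condition _)
  have hS₂ : S₂.ShortExact := ShortComplex.ShortExact.mk' (ShortComplex.exact_kernel _)
    (inferInstanceAs (Mono (kernel.ι (cokernel.π (CurveVan.η U F)))))
    (inferInstanceAs (Epi (cokernel.π (CurveVan.η U F))))
  have hI : Subsingleton (Coh.HH X (Abelian.image (CurveVan.η U F)) (m + 1)) :=
    CurveVan.HH_sub S₂ hS₂ m (hQ m hm) (hP m)
  have hI' : Subsingleton (Coh.HH X (Abelian.coimage (CurveVan.η U F)) (m + 1)) :=
    Groth.Agent.HHVan.subsingleton_of_iso (Abelian.coimageIsoImage (CurveVan.η U F)).symm (m + 1) hI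
  exact CurveVan.HH_mid S₁ hS₁ (m + 1) (hK (m + 1) (by omega)) hI'

/-- Quasi-coherent modules without stalks on the top stratum have no cohomology above the number of
remaining strata (given the theorem for schemes with fewer strata). -/
theorem HH_subsingleton_of_nullOn (n : ℕ)
    (IH : ∀ T : Scheme.{u}, MoreMor.HasAffineStratification T n → ∀ G : T.Modules,
      G.IsQuasicoherent → ∀ q : ℕ, n < q → Subsingleton (Coh.HH T G q))
    [CompactSpace X] [QuasiSeparatedSpace X]
    (s : X → Fin (n + 2)) (hs : ∀ i : Fin (n + 2), IsClosed {x : X | s x ≤ i})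
    (hstr : ∀ i : Fin (n + 2), ∃ (Z : Scheme.{u}) (ι : Z ⟶ X),
      IsImmersion ι ∧ IsAffine Z ∧ IsAffineHom ι ∧ Set.range ι = {x : X | s x = i})
    (U : X.Opens) (hU : (U : Set X) = {x : X | s x = Fin.last (n + 1)})
    (K : X.Modules) [K.IsQuasicoherent] (hK : NullOn K U) (q : ℕ) (hq : n < q) :
    Subsingleton (Coh.HH X K q) := by
  refine Groth.Agent.Lib.QcqsColimH2.subsingleton_HH_of_ftSub K q (fun a => ?_)
  have hcoh : Coh.IsCoh ((Groth.Agent.Lib.QcqsColimH2.ftDiagObj K).obj a) :=
    Groth.Agent.Lib.QcqsColimH2.isCoh_ftDiagObj K a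
  set Ka := (Groth.Agent.Lib.QcqsColimH2.ftDiagObj K).obj a with hKa
  haveI : Ka.IsQuasicoherent := hcoh.1
  haveI : SheafOfModules.IsFiniteType (R := X.ringCatSheaf) Ka := hcoh.2
  haveI : Mono ((Groth.Agent.Lib.QcqsColimH2.ftCocone K).ι.app a) :=
    Groth.Agent.Lib.QcqsColimH2.mono_ftCocone_ι_app K a
  have hKa0 : NullOn Ka U :=
    nullOn_of_mono ((Groth.Agent.Lib.QcqsColimH2.ftCocone K).ι.app a) hK
  set J := AnnShH8.annIdeal Ka with hJ
  have hk : ClSub.KilledByIdeal J.subschemeι.ker Ka := by
    rw [Scheme.IdealSheafData.ker_subschemeι]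
    exact (CohDevH8.killedByIdeal_iff_le_annIdeal J Ka).mpr le_rfl
  obtain ⟨G, hGq, -, ⟨e⟩⟩ := ClPushH8.exists_pushforward_iso J.subschemeι Ka hk
  have hrange : ∀ t : J.subscheme, s (J.subschemeι t) ≠ Fin.last (n + 1) := by
    intro t ht
    have h1 : J.subschemeι t ∈ Set.range J.subschemeι := ⟨t, rfl⟩
    rw [Scheme.IdealSheafData.range_subschemeι, AnnShH8.support_annIdeal] at h1
    have h2 : J.subschemeι t ∈ (U : Set X) := by rw [hU]; exact ht
    exact h1 (hKa0 _ h2)
  have hT : MoreMor.HasAffineStratification J.subscheme n :=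
    hasAffineStratification_pullback J.subschemeι n s hs hstr hrange
  have h3 : Subsingleton (Coh.HH J.subscheme G q) := IH _ hT G hGq q hq
  exact Groth.Agent.HHVan.subsingleton_of_iso e q (subsingleton_HH_push J.subschemeι G q h3)

end Coh

section Main

/-- **Stacks 0F2Z**: on a scheme with an affine stratification indexed by `{0, …, n}`, quasi-coherent
modules have no cohomology above degree `n`. -/
theorem main : ∀ (n : ℕ) (X : Scheme.{u}), MoreMor.HasAffineStratification X n →
    ∀ F : X.Modules, F.IsQuasicoherent → ∀ p : ℕ, n < p → Subsingleton (Coh.HH X F p) := by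
  intro n
  induction n with
  | zero =>
    intro X hX F hF p hp
    obtain ⟨s, hs, hstr⟩ := hX
    obtain ⟨Z, ι, hι, hZ, hιa, hr⟩ := hstr 0
    haveI := hι
    haveI := hZ
    haveI := hF
    have hr' : Set.range ι = Set.univ := by
      rw [hr]
      ext x
      simp only [Set.mem_setOf_eq, Set.mem_univ, iff_true]
      apply Fin.ext
      have h1 := (s x).isLt
      rw [Fin.val_zero]
      omega
    haveI : IsClosedImmersion ι := .of_isPreimmersion ι (by rw [hr']; exact isClosed_univ)
    haveI : Surjective ι := ⟨Set.range_eq_univ.mp hr'⟩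
    haveI : IsAffine X := Groth.Agent.Lib.ThickAffH6.isAffine_of_thickening ι
    obtain ⟨p', rfl⟩ : ∃ p', p = p' + 1 := ⟨p - 1, by omega⟩
    exact AffVanish.HH_subsingleton_of_isAffine X F p'
  | succ n ih =>
    intro X hX F hF p hp
    obtain ⟨hcpt, hqs⟩ := Groth.Agent.Lib.AffStratH4.qcqs_of_strat X (n + 1) hX
    obtain ⟨s, hs, hstr⟩ := hX
    obtain ⟨Z, ι, hι, hZ, hιa, hr⟩ := hstr (Fin.last (n + 1))
    haveI := hι
    haveI := hZ
    haveI := hιa
    haveI := hF
    have hopen : IsOpen {x : X | s x = Fin.last (n + 1)} := by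
      have hset : {x : X | s x = Fin.last (n + 1)} =
          {x : X | s x ≤ (Fin.last n).castSucc}ᶜ := by
        ext x
        simp only [Set.mem_setOf_eq, Set.mem_compl_iff]
        constructor
        · intro h hle
          rw [h, Fin.le_def] at hle
          simp at hle
        · intro h
          apply Fin.ext
          have h1 : ¬ (s x).val ≤ n := by
            intro hle
            apply h
            rw [Fin.le_def]
            simpa using hle
          have h2 := (s x).isLt
          simp only [Fin.val_last]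
          omega
      rw [hset]
      exact (hs _).isOpen_compl
    let U : X.Opens := ⟨{x : X | s x = Fin.last (n + 1)}, hopen⟩
    have hUaff : IsAffineOpen U := isAffineOpen_of_immersion_range ι U hr
    haveI : IsAffineHom U.ι := isAffineHom_ι_of_immersion_range ι U hr
    exact HH_subsingleton_of_affine_open U hUaff n
      (fun K hKq hK q hq => by
        haveI := hKq
        exact HH_subsingleton_of_nullOn n ih s hs hstr U rfl K hK q hq) F p hp

end Main

end Groth.Agent.Lib.AffStratVanH2
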