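import Mathlib

/-!
# Descent along a jointly faithfully flat family of algebras (helper9)
-/

set_option autoImplicit false

open TensorProduct

namespace Groth.Agent.Lib.FlatFamDesc

universe u

/-- If `N ⊗ C = 0` for a family of flat `A`-algebras `C` jointly surjective on spectra, then
`N = 0`. -/
theorem subsingleton_of_forall_prime {A : Type u} [CommRing A] (N : Type u) [AddCommGroup N]
    [Module A N]
    (h : ∀ p : Ideal A, p.IsPrime → ∃ (C : Type u) (_ : CommRing C) (_ : Algebra A C)
      (_ : Module.Flat A C) (q : Ideal C), q.IsPrime ∧ q.comap (algebraMap A C) = p ∧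
        Subsingleton (N ⊗[A] C)) :
    Subsingleton N := by
  suffices H : ∀ x : N, x = 0 from ⟨fun x y => by rw [H x, H y]⟩
  intro x
  by_contra hx
  set I : Ideal A := LinearMap.ker (LinearMap.toSpanSingleton A N x) with hI
  have hItop : I ≠ ⊤ := by
    intro htop
    have h1 : (1 : A) ∈ I := htop ▸ Submodule.mem_top
    rw [hI, LinearMap.mem_ker, LinearMap.toSpanSingleton_apply, one_smul] at h1
    exact hx h1
  obtain ⟨p, hp, hIp⟩ := Ideal.exists_le_maximal I hItop
  obtain ⟨C, _, _, _, q, hq, hqp, hsub⟩ := h p hp.isPrime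
  let ι : (A ⧸ I) →ₗ[A] N := Submodule.liftQ I (LinearMap.toSpanSingleton A N x) le_rfl
  have hι : Function.Injective ι := by
    rw [← LinearMap.ker_eq_bot]
    exact Submodule.ker_liftQ_eq_bot _ _ _ le_rfl
  have hinj := Module.Flat.rTensor_preserves_injective_linearMap (M := C) ι hι
  have h1 : (1 : (A ⧸ I) ⊗[A] C) = 0 := hinj (Subsingleton.elim _ _)
  let g₂ : C →ₐ[A] C ⧸ q := Ideal.Quotient.mkₐ A q
  let g₁ : (A ⧸ I) →ₐ[A] C ⧸ q :=
    Ideal.Quotient.liftₐ I ((Ideal.Quotient.mkₐ A q).comp (Algebra.ofId A C)) (by
      intro a ha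
      have hap : a ∈ p := hIp ha
      rw [← hqp] at hap
      simp only [AlgHom.coe_comp, Function.comp_apply, Algebra.ofId_apply, Ideal.Quotient.mkₐ_eq_mk]
      exact Ideal.Quotient.eq_zero_iff_mem.mpr hap)
  let m := Algebra.TensorProduct.productMap g₁ g₂
  haveI : Nontrivial (C ⧸ q) := Ideal.Quotient.nontrivial_iff.mpr hq.ne_top
  have : (1 : C ⧸ q) = 0 := by rw [← map_one m, h1, map_zero]
  exact one_ne_zero this

/-- Descent of bijectivity along a jointly faithfully flat family. -/
theorem bijective_of_includeRight {A B : Type u} [CommRing A] [CommRing B] [Algebra A B]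
    (h : ∀ p : Ideal A, p.IsPrime → ∃ (C : Type u) (_ : CommRing C) (_ : Algebra A C)
      (_ : Module.Flat A C) (q : Ideal C), q.IsPrime ∧ q.comap (algebraMap A C) = p ∧
        Function.Bijective (Algebra.TensorProduct.includeRight : C →ₐ[A] B ⊗[A] C)) :
    Function.Bijective (algebraMap A B) := by
  set φ : A →ₗ[A] B := Algebra.linearMap A B with hφ
  have key : ∀ (C : Type u) [CommRing C] [Algebra A C],
      Function.Bijective (Algebra.TensorProduct.includeRight : C →ₐ[A] B ⊗[A] C) →
      Function.Bijective (LinearMap.rTensor C φ) := by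
    intro C _ _ hb
    have hrt : ∀ z, LinearMap.rTensor C φ z =
        (Algebra.TensorProduct.includeRight : C →ₐ[A] B ⊗[A] C) (TensorProduct.lid A C z) := by
      intro z
      induction z using TensorProduct.induction_on with
      | zero => simp
      | tmul a c =>
        simp only [LinearMap.rTensor_tmul, TensorProduct.lid_tmul,
          Algebra.TensorProduct.includeRight_apply, hφ, Algebra.linearMap_apply]
        rw [Algebra.algebraMap_eq_smul_one, TensorProduct.smul_tmul]
      | add x y hx hy => simp only [map_add, hx, hy]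
    have : (LinearMap.rTensor C φ : A ⊗[A] C → B ⊗[A] C) =
        (Algebra.TensorProduct.includeRight : C →ₐ[A] B ⊗[A] C) ∘ (TensorProduct.lid A C) :=
      funext hrt
    rw [this]
    exact hb.comp (TensorProduct.lid A C).bijective
  constructor
  · -- injective
    have hsub : Subsingleton (LinearMap.ker φ) := by
      apply subsingleton_of_forall_prime (A := A)
      intro p hp
      obtain ⟨C, i1, i2, i3, q, hq, hqp, hb⟩ := h p hp
      refine ⟨C, i1, i2, i3, q, hq, hqp, ?_⟩
      have hbij := key C hb
      have hi := Module.Flat.rTensor_preserves_injective_linearMap (M := C)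
        (LinearMap.ker φ).subtype (Submodule.injective_subtype _)
      refine ⟨fun z w => hi (hbij.1 ?_)⟩
      have hz : ∀ z, LinearMap.rTensor C φ (LinearMap.rTensor C (LinearMap.ker φ).subtype z) = 0 := by
        intro z
        rw [← LinearMap.comp_apply, ← LinearMap.rTensor_comp]
        have : φ ∘ₗ (LinearMap.ker φ).subtype = 0 := by
          ext ⟨a, ha⟩
          exact ha
        rw [this, LinearMap.rTensor_zero, LinearMap.zero_apply]
      rw [hz, hz]
    intro a b hab
    have hmem : a - b ∈ LinearMap.ker φ := by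
      rw [LinearMap.mem_ker, map_sub, sub_eq_zero]
      exact hab
    have := Subsingleton.elim (⟨a - b, hmem⟩ : LinearMap.ker φ) 0
    have h0 : a - b = 0 := congrArg Subtype.val this
    exact sub_eq_zero.mp h0
  · -- surjective
    have hsub : Subsingleton (B ⧸ LinearMap.range φ) := by
      apply subsingleton_of_forall_prime (A := A)
      intro p hp
      obtain ⟨C, i1, i2, i3, q, hq, hqp, hb⟩ := h p hp
      refine ⟨C, i1, i2, i3, q, hq, hqp, ?_⟩
      have hbij := key C hb
      have hsurj : Function.Surjective (LinearMap.rTensor C (LinearMap.range φ).mkQ) :=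
        LinearMap.rTensor_surjective C (Submodule.mkQ_surjective _)
      have hz : ∀ w, LinearMap.rTensor C (LinearMap.range φ).mkQ w = 0 := by
        intro w
        obtain ⟨z, rfl⟩ := hbij.2 w
        rw [← LinearMap.comp_apply, ← LinearMap.rTensor_comp]
        have : (LinearMap.range φ).mkQ ∘ₗ φ = 0 := by
          refine LinearMap.ext fun a => ?_
          simp only [LinearMap.comp_apply, Submodule.mkQ_apply, LinearMap.zero_apply]
          exact (Submodule.Quotient.mk_eq_zero _).mpr ⟨a, rfl⟩
        rw [this, LinearMap.rTensor_zero, LinearMap.zero_apply]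
      refine ⟨fun z w => ?_⟩
      obtain ⟨z', rfl⟩ := hsurj z
      obtain ⟨w', rfl⟩ := hsurj w
      rw [hz, hz]
    have htop : LinearMap.range φ = ⊤ := Submodule.Quotient.subsingleton_iff.mp hsub
    intro b
    have : b ∈ LinearMap.range φ := htop ▸ Submodule.mem_top
    obtain ⟨a, ha⟩ := this
    exact ⟨a, ha⟩

end Groth.Agent.Lib.FlatFamDesc
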