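import Mathlib
import Groth.Agent.Lib.FlatFamDesc_helper9

/-!
# Descent of isomorphisms along flat surjective (not nec. quasi-compact) morphisms (helper9)
-/

set_option autoImplicit false

open AlgebraicGeometry CategoryTheory Limits TopologicalSpace TensorProduct

namespace Groth.Agent.Lib.FlatFamDescSch

universe u

/-- A homeomorphism inducing bijections on sections over affine opens is an isomorphism. -/
theorem isIso_of_isHomeomorph_of_app_bijective {X Y : Scheme.{u}} (f : X ⟶ Y)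
    (hf : IsHomeomorph f.base)
    (h : ∀ V : Y.Opens, IsAffineOpen V → Function.Bijective (f.app V)) : IsIso f := by
  have hoe : Topology.IsOpenEmbedding f := hf.isOpenEmbedding
  have hinj : Function.Injective f := hf.injective
  -- shrinking lemma: for an open `O ∋ x` of `X` and open `U ∋ f x`, there's an affine `V ∋ f x`
  -- with `V ≤ U` and `f ⁻¹ V ≤ O`
  have shrink : ∀ (x : X) (O : X.Opens) (U : Y.Opens), x ∈ O → f x ∈ U →
      ∃ V : Y.Opens, IsAffineOpen V ∧ f x ∈ V ∧ V ≤ U ∧ f ⁻¹ᵁ V ≤ O := by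
    intro x O U hxO hxU
    have hopen : IsOpen ((f '' (O : Set X)) ∩ (U : Set Y)) :=
      (hf.isOpenMap _ O.2).inter U.2
    obtain ⟨_, ⟨V, hV : IsAffineOpen V, rfl⟩, hxV, hVsub⟩ :=
      Y.isBasis_affineOpens.exists_subset_of_mem_open
        (show f x ∈ (f '' (O : Set X)) ∩ (U : Set Y) from ⟨⟨x, hxO, rfl⟩, hxU⟩) hopen
    refine ⟨V, hV, hxV, fun z hz => (hVsub hz).2, fun z hz => ?_⟩
    obtain ⟨w, hwO, hwz⟩ := (hVsub (show f z ∈ (V : Set Y) from hz)).1
    rw [← hinj hwz]
    exact hwO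
  have hst : ∀ x, IsIso (f.stalkMap x) := by
    intro x
    rw [ConcreteCategory.isIso_iff_bijective]
    constructor
    · obtain ⟨_, ⟨U, hU : IsAffineOpen U, rfl⟩, hxU, -⟩ :=
        Y.isBasis_affineOpens.exists_subset_of_mem_open (Set.mem_univ (f x)) isOpen_univ
      apply hU.stalkMap_injective f x hxU
      intro r hr
      rw [Scheme.Hom.germ_stalkMap_apply] at hr
      have hr' : X.presheaf.germ (f ⁻¹ᵁ U) x hxU (f.app U r) =
          X.presheaf.germ (f ⁻¹ᵁ U) x hxU 0 := by rw [hr, map_zero]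
      obtain ⟨O, hxO, iU, iV, hres⟩ := X.presheaf.germ_eq x hxU hxU _ _ hr'
      obtain ⟨V, hV, hxV, hVU, hVO⟩ := shrink x O U hxO hxU
      have h1 : f.app V (Y.presheaf.map (homOfLE hVU).op r) = 0 := by
        have hnat := congr($(f.naturality (homOfLE hVU).op) r)
        simp only [CommRingCat.comp_apply] at hnat
        rw [hnat]
        have hfac : ((Opens.map f.base).map (homOfLE hVU).op.unop).op =
            iU.op ≫ (homOfLE hVO).op := Subsingleton.elim _ _
        rw [hfac, X.presheaf.map_comp, CommRingCat.comp_apply, hres, map_zero, map_zero]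
      have h2 : Y.presheaf.map (homOfLE hVU).op r = 0 := by
        apply (h V hV).1
        rw [h1, map_zero]
      rw [← Y.presheaf.germ_res_apply (homOfLE hVU) (f x) hxV r, h2, map_zero]
    · intro t
      obtain ⟨O, hxO, s, rfl⟩ := X.presheaf.exists_germ_eq t
      obtain ⟨V, hV, hxV, -, hVO⟩ := shrink x O ⊤ hxO trivial
      obtain ⟨r, hr⟩ := (h V hV).2 (X.presheaf.map (homOfLE hVO).op s)
      refine ⟨Y.presheaf.germ V (f x) hxV r, ?_⟩
      rw [Scheme.Hom.germ_stalkMap_apply, hr]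
      exact X.presheaf.germ_res_apply (homOfLE hVO) x hxV s
  haveI := IsOpenImmersion.of_isIso_stalkMap f hoe
  haveI : Surjective f := ⟨hf.surjective⟩
  exact (isIso_iff_isOpenImmersion_and_surjective f).mpr ⟨inferInstance, inferInstance⟩

set_option backward.isDefEq.respectTransparency false in
/-- Flat base change for sections along a jointly surjective flat family: if `f ⁻¹ V` is qcqs and the
base change of `f` along `g` (flat, surjective) induces isomorphisms on sections over affine opens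
`W ≤ g ⁻¹ V`, then `Γ(Y, V) → Γ(X, f ⁻¹ V)` is bijective. -/
theorem app_bijective_of_isIso_pullback {X Y Y' : Scheme.{u}} (f : X ⟶ Y) (g : Y' ⟶ Y) [Flat g]
    [Surjective g] (V : Y.Opens) (hV : IsAffineOpen V) (hc : IsCompact (f ⁻¹ᵁ V : Set X))
    (hqs : IsQuasiSeparated (f ⁻¹ᵁ V : Set X))
    (hiso : ∀ W : Y'.Opens, IsAffineOpen W → W ≤ g ⁻¹ᵁ V → IsIso ((pullback.snd f g).app W)) :
    Function.Bijective (f.app V) := by
  letI : Algebra Γ(Y, V) Γ(X, f ⁻¹ᵁ V) := (f.appLE V (f ⁻¹ᵁ V) le_rfl).hom.toAlgebra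
  have hb : Function.Bijective (algebraMap Γ(Y, V) Γ(X, f ⁻¹ᵁ V)) := by
    apply Groth.Agent.Lib.FlatFamDesc.bijective_of_includeRight
    intro p hp
    set y : Y := hV.fromSpec ⟨p, hp⟩ with hy
    have hyV : y ∈ V := by
      have : y ∈ Set.range hV.fromSpec := ⟨_, rfl⟩
      rwa [hV.range_fromSpec] at this
    obtain ⟨y', hy'⟩ := g.surjective y
    have hy'V : y' ∈ g ⁻¹ᵁ V := by
      show g y' ∈ V
      rw [hy']; exact hyV
    obtain ⟨_, ⟨W, hW : IsAffineOpen W, rfl⟩, hy'W, hWV⟩ :=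
      Y'.isBasis_affineOpens.exists_subset_of_mem_open hy'V (g ⁻¹ᵁ V).2
    have hWV' : W ≤ g ⁻¹ᵁ V := hWV
    letI : Algebra Γ(Y, V) Γ(Y', W) := (g.appLE V W hWV').hom.toAlgebra
    haveI : Module.Flat Γ(Y, V) Γ(Y', W) := g.flat_appLE hV hW hWV'
    refine ⟨Γ(Y', W), inferInstance, inferInstance, inferInstance,
      (hW.primeIdealOf ⟨y', hy'W⟩).asIdeal, (hW.primeIdealOf ⟨y', hy'W⟩).2, ?_, ?_⟩
    · have hcomm := IsAffineOpen.SpecMap_appLE_fromSpec g hV hW hWV'
      have : Spec.map (g.appLE V W hWV') (hW.primeIdealOf ⟨y', hy'W⟩) = ⟨p, hp⟩ := by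
        apply hV.fromSpec.isOpenEmbedding.injective
        rw [← Scheme.Hom.comp_apply, hcomm, Scheme.Hom.comp_apply, hW.fromSpec_primeIdealOf]
        exact hy'
      exact congrArg PrimeSpectrum.asIdeal this
    · have H : IsPullback (pullback.fst f g) (pullback.snd f g) f g := .of_hasPullback f g
      have hUY : (pullback.snd f g) ⁻¹ᵁ W =
          (pullback.fst f g) ⁻¹ᵁ (f ⁻¹ᵁ V) ⊓ (pullback.snd f g) ⁻¹ᵁ W := by
        refine (inf_eq_right.mpr ?_).symm
        intro z hz
        show f (pullback.fst f g z) ∈ V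
        rw [← Scheme.Hom.comp_apply, pullback.condition, Scheme.Hom.comp_apply]
        exact hWV' hz
      have hps := isIso_pushoutSection_of_isQuasiSeparated_of_flat_right H hWV'
        (le_refl (f ⁻¹ᵁ V)) hUY hV hW hc hqs
      have hinr : pushout.inr _ _ ≫ pushoutSection H hWV' (le_refl (f ⁻¹ᵁ V)) hUY =
          (pullback.snd f g).appLE W ((pullback.snd f g) ⁻¹ᵁ W) le_rfl :=
        pushout.inr_desc _ _ _
      haveI h1 : IsIso ((pullback.snd f g).appLE W ((pullback.snd f g) ⁻¹ᵁ W) le_rfl) := by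
        rw [← Scheme.Hom.app_eq_appLE]; exact hiso W hW hWV'
      haveI hinr_iso : IsIso (pushout.inr (f.appLE V (f ⁻¹ᵁ V) le_rfl) (g.appLE V W hWV')) := by
        have : IsIso (pushout.inr _ _ ≫ pushoutSection H hWV' (le_refl (f ⁻¹ᵁ V)) hUY) := by
          rw [hinr]; exact h1
        exact IsIso.of_isIso_comp_right _ (pushoutSection H hWV' (le_refl (f ⁻¹ᵁ V)) hUY)
      have hpo := CommRingCat.isPushout_tensorProduct Γ(Y, V) Γ(X, f ⁻¹ᵁ V) Γ(Y', W)
      have e := hpo.inr_isoPushout_inv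
      haveI : IsIso (pushout.inr (CommRingCat.ofHom (algebraMap Γ(Y, V) Γ(X, f ⁻¹ᵁ V)))
          (CommRingCat.ofHom (algebraMap Γ(Y, V) Γ(Y', W)))) := hinr_iso
      have h2 : IsIso (CommRingCat.ofHom (Algebra.TensorProduct.includeRight.toRingHom :
          Γ(Y', W) →+* Γ(X, f ⁻¹ᵁ V) ⊗[Γ(Y, V)] Γ(Y', W))) := by
        rw [← e]; infer_instance
      exact (ConcreteCategory.isIso_iff_bijective _).mp h2
  have : f.app V = f.appLE V (f ⁻¹ᵁ V) le_rfl := Scheme.Hom.app_eq_appLE f
  rw [this]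
  exact hb

/-- Descent of isomorphisms along a flat surjective morphism (no quasi-compactness on `g`). -/
theorem isIso_of_isIso_pullback_snd {X Y Y' : Scheme.{u}} (f : X ⟶ Y) (g : Y' ⟶ Y) [Flat g]
    [Surjective g] [QuasiCompact f] (hhom : IsHomeomorph f.base)
    [IsIso (pullback.snd f g)] : IsIso f := by
  apply isIso_of_isHomeomorph_of_app_bijective f hhom
  intro V hV
  have hc : IsCompact (f ⁻¹ᵁ V : Set X) := QuasiCompact.isCompact_preimage (f := f) _ V.2 hV.isCompact
  have hqs : IsQuasiSeparated (f ⁻¹ᵁ V : Set X) := by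
    rw [hhom.isOpenEmbedding.isQuasiSeparated_iff]
    have : f '' (f ⁻¹ᵁ V : Set X) = V := Set.image_preimage_eq _ hhom.surjective
    rw [this]
    exact hV.isQuasiSeparated
  exact app_bijective_of_isIso_pullback f g V hV hc hqs (fun W _ _ => inferInstance)

end Groth.Agent.Lib.FlatFamDescSch
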