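import Mathlib
import Groth.Agent.S13710

set_option autoImplicit false
universe u
open CategoryTheory CategoryTheory.Limits AlgebraicGeometry TopologicalSpace

namespace Groth.Agent.Lib.AffineDescent

set_option backward.isDefEq.respectTransparency false in
/-- Flat base change of global sections, in the form: for `f : X ⟶ Spec R` flat and `Y` qcqs over
`Spec R` such that `X ×_R Y ⟶ X` is affine, the comparison `X ×_R Y ⟶ X ×_R Spec Γ(Y)` is an
isomorphism. -/
theorem isIso_pullback_map_toSpecΓ {R : CommRingCat.{u}} {X Y : Scheme.{u}} (f : X ⟶ Spec R)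
    (g : Y ⟶ Spec R) [Flat f] [CompactSpace Y] [QuasiSeparatedSpace Y]
    (φ : Spec Γ(Y, ⊤) ⟶ Spec R) (hφ : Y.toSpecΓ ≫ φ = g)
    [IsAffineHom (pullback.fst f g)] :
    IsIso (pullback.map f g f φ (𝟙 X) Y.toSpecΓ (𝟙 _) (by simp) (by simp [hφ])) := by
  set θ := pullback.map f g f φ (𝟙 X) Y.toSpecΓ (𝟙 _) (by simp) (by simp [hφ]) with hθ
  have hfst : θ ≫ pullback.fst f φ = pullback.fst f g := by simp [hθ]
  have hsnd : θ ≫ pullback.snd f φ = pullback.snd f g ≫ Y.toSpecΓ := by simp [hθ]
  have hφa : IsAffineHom (pullback.fst f φ) :=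
    MorphismProperty.pullback_fst f φ (inferInstance : IsAffineHom φ)
  have hθa' : IsAffineHom (θ ≫ pullback.fst f φ) := by rw [hfst]; infer_instance
  have hθa : IsAffineHom θ := IsAffineHom.of_comp θ (pullback.fst f φ)
  apply IsZariskiLocalAtTarget.of_forall_exists_morphismRestrict (P := .isomorphisms _) fun x ↦ ?_
  obtain ⟨_, ⟨V, hV, rfl⟩, hxV, -⟩ := X.isBasis_affineOpens.exists_subset_of_mem_open
    (Set.mem_univ ((pullback.fst f φ) x)) isOpen_univ
  let W := pullback.fst f φ ⁻¹ᵁ V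
  refine ⟨W, hxV, (isIso_morphismRestrict_iff_isIso_app _ (U := W) (hV.preimage _)).mpr ?_⟩
  have H : IsPullback (pullback.snd f g) (pullback.fst f g) g f :=
    (IsPullback.of_hasPullback f g).flip
  have H' : IsPullback (pullback.snd f φ) (pullback.fst f φ) φ f :=
    (IsPullback.of_hasPullback f φ).flip
  have hUST : V ≤ f ⁻¹ᵁ ⊤ := by simp
  have hUSX : (⊤ : Y.Opens) ≤ g ⁻¹ᵁ ⊤ := by simp
  have hUSX' : (⊤ : (Spec Γ(Y, ⊤)).Opens) ≤ φ ⁻¹ᵁ ⊤ := by simp
  have hUY : θ ⁻¹ᵁ W = pullback.snd f g ⁻¹ᵁ ⊤ ⊓ pullback.fst f g ⁻¹ᵁ V := by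
    simp only [W, ← Scheme.Hom.comp_preimage, hfst, Scheme.Hom.preimage_top, top_inf_eq]
  have hUY' : W = pullback.snd f φ ⁻¹ᵁ ⊤ ⊓ pullback.fst f φ ⁻¹ᵁ V := by
    simp [W]
  have h1 : IsIso (pushoutSection H hUST hUSX hUY) :=
    isIso_pushoutSection_of_isQuasiSeparated_of_flat_right H hUST hUSX hUY (isAffineOpen_top _) hV
      isCompact_univ (isQuasiSeparated_univ_iff.mpr inferInstance)
  have h2 : IsIso (pushoutSection H' hUST hUSX' hUY') :=
    isIso_pushoutSection_of_isAffineOpen H' hUST hUSX' hUY' (isAffineOpen_top _) hV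
      (isAffineOpen_top _)
  have hle : (⊤ : Y.Opens) ≤ Y.toSpecΓ ⁻¹ᵁ ⊤ := by simp
  have hc : IsIso (Y.toSpecΓ.appLE ⊤ ⊤ hle) := by
    have : Y.toSpecΓ.appLE ⊤ ⊤ hle = Y.toSpecΓ.appTop := by
      simp [Scheme.Hom.appTop, Scheme.Hom.appLE]
    rw [this, Scheme.toSpecΓ_appTop]; infer_instance
  let m : pushout (φ.appLE ⊤ ⊤ hUSX') (f.appLE ⊤ V hUST) ⟶
      pushout (g.appLE ⊤ ⊤ hUSX) (f.appLE ⊤ V hUST) :=
    pushout.map _ _ _ _ (Y.toSpecΓ.appLE ⊤ ⊤ hle) (𝟙 _) (𝟙 _)
      (by simp [Scheme.Hom.appLE_comp_appLE, hφ]) (by simp)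
  have hm : IsIso m := by dsimp only [m]; infer_instance
  have key : pushoutSection H' hUST hUSX' hUY' ≫ θ.app W =
      m ≫ pushoutSection H hUST hUSX hUY := by
    apply pushout.hom_ext
    · simp only [m, Scheme.Hom.app_eq_appLE, pushout.inl_desc_assoc, pushout.map,
        Category.assoc, pushout.inl_desc, Scheme.Hom.appLE_comp_appLE, hsnd]
    · simp only [m, Scheme.Hom.app_eq_appLE, pushout.inr_desc_assoc, pushout.map,
        Category.assoc, pushout.inr_desc, Scheme.Hom.appLE_comp_appLE, hfst, Category.id_comp]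
  have : IsIso (pushoutSection H' hUST hUSX' hUY' ≫ θ.app W) := by rw [key]; infer_instance
  exact IsIso.of_isIso_comp_left (pushoutSection H' hUST hUSX' hUY') _

set_option backward.isDefEq.respectTransparency false in
/-- Affine base: if `f : X ⟶ Spec R` is flat and surjective, `Y` is qcqs over `Spec R` and
`X ×_R Y ⟶ X` is affine, then `Y` is affine. -/
theorem isAffine_of_isAffineHom_pullback_fst {R : CommRingCat.{u}} {X Y : Scheme.{u}}
    (f : X ⟶ Spec R) (g : Y ⟶ Spec R) [Flat f] [Surjective f] [QuasiCompact g] [QuasiSeparated g]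
    [IsAffineHom (pullback.fst f g)] : IsAffine Y := by
  haveI : CompactSpace Y := (HasAffineProperty.iff_of_isAffine (P := @QuasiCompact)).mp ‹_›
  haveI : QuasiSeparatedSpace Y :=
    (HasAffineProperty.iff_of_isAffine (P := @QuasiSeparated)).mp ‹_›
  let φ : Spec Γ(Y, ⊤) ⟶ Spec R := Spec.map g.appTop ≫ (Spec R).isoSpec.inv
  have hφ : Y.toSpecΓ ≫ φ = g := by
    simp only [φ]
    rw [← Scheme.toSpecΓ_naturality_assoc]
    simp
  have hθ := isIso_pullback_map_toSpecΓ f g φ hφ
  set θ := pullback.map f g f φ (𝟙 X) Y.toSpecΓ (𝟙 _) (by simp) (by simp [hφ]) with hθdef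
  have hsnd : θ ≫ pullback.snd f φ = pullback.snd f g ≫ Y.toSpecΓ := by simp [hθdef]
  have hfst : θ ≫ pullback.fst f φ = pullback.fst f g := by simp [hθdef]
  have hpb : IsPullback θ (pullback.snd f g) (pullback.snd f φ) Y.toSpecΓ := by
    refine IsPullback.of_right ?_ hsnd (IsPullback.of_hasPullback f φ)
    rw [hfst, hφ]
    exact IsPullback.of_hasPullback f g
  refine ⟨(Groth.Agent.S13710.result Y.toSpecΓ (pullback.snd f φ)).mpr ⟨inferInstance, ?_⟩⟩
  have h3 : hpb.flip.isoPullback.hom ≫ pullback.snd Y.toSpecΓ (pullback.snd f φ) = θ :=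
    hpb.flip.isoPullback_hom_snd
  have h4 : IsIso (hpb.flip.isoPullback.hom ≫ pullback.snd Y.toSpecΓ (pullback.snd f φ)) := by
    rw [h3]; exact hθ
  exact IsIso.of_isIso_comp_left hpb.flip.isoPullback.hom _

set_option backward.isDefEq.respectTransparency false in
/-- Affine morphisms descend along flat surjective morphisms (no quasi-compactness of the cover),
provided the morphism is quasi-compact and quasi-separated. -/
theorem isAffineHom_of_isAffineHom_pullback_fst {X Y Z : Scheme.{u}} (f : X ⟶ Z) (g : Y ⟶ Z)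
    [Flat f] [Surjective f] [QuasiCompact g] [QuasiSeparated g]
    (h : IsAffineHom (pullback.fst f g)) : IsAffineHom g := by
  wlog hZ : ∃ R, Z = Spec R generalizing X Y Z
  · rw [IsZariskiLocalAtTarget.iff_of_openCover (P := @IsAffineHom) Z.affineCover]
    intro i
    let ι := Z.affineCover.f i
    let e : pullback (pullback.snd f ι) (pullback.snd g ι) ≅
        pullback (pullback.fst f g) (pullback.fst f ι) :=
      pullbackLeftPullbackSndIso f ι (pullback.snd g ι) ≪≫
        pullback.congrHom rfl pullback.condition.symm ≪≫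
        (pullbackAssoc f g g ι).symm ≪≫ pullback.congrHom pullback.condition.symm rfl ≪≫
        (pullbackRightPullbackFstIso f ι (pullback.fst f g)).symm
    have heq : e.hom ≫ pullback.snd (pullback.fst f g) (pullback.fst f ι) =
        pullback.fst (pullback.snd f ι) (pullback.snd g ι) := by
      apply pullback.hom_ext <;> simp [e, pullback.condition]
    refine this (f := pullback.snd f ι) (g := pullback.snd g ι) ?_ ⟨_, rfl⟩
    rw [← heq, MorphismProperty.cancel_left_of_respectsIso (P := @IsAffineHom)]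
    exact MorphismProperty.pullback_snd _ _ h
  obtain ⟨R, rfl⟩ := hZ
  haveI := h
  haveI : IsAffine Y := isAffine_of_isAffineHom_pullback_fst f g
  infer_instance

/-- The statement of S13711. -/
theorem isAffineHom_iff {X Y Y' : Scheme.{u}} (f : X ⟶ Y) (g : Y' ⟶ Y) [Flat g] [Surjective g] :
    IsAffineHom f ↔ QuasiCompact f ∧ QuasiSeparated f ∧ IsAffineHom (pullback.snd f g) := by
  constructor
  · intro h
    exact ⟨inferInstance, inferInstance, MorphismProperty.pullback_snd _ _ h⟩
  · rintro ⟨h1, h2, h3⟩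
    apply isAffineHom_of_isAffineHom_pullback_fst g f
    rw [← pullbackSymmetry_hom_comp_snd, MorphismProperty.cancel_left_of_respectsIso (P := @IsAffineHom)]
    exact h3

end Groth.Agent.Lib.AffineDescent
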