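import Groth.Statements.S14830
import Groth.Agent.Lib.AbVarRigid_lead

/-! # The Albanese morphism of a product (lead) -/

set_option backward.isDefEq.respectTransparency false
set_option backward.isDefEq.respectTransparency.types false
set_option linter.unusedSimpArgs false
set_option linter.unusedVariables false
set_option linter.unusedSectionVars false
set_option linter.style.longLine false
set_option linter.style.haveILetI false
set_option maxHeartbeats 800000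

universe u

open CategoryTheory CategoryTheory.Limits MonoidalCategory CartesianMonoidalCategory MonObj GrpObj
  AlgebraicGeometry Opposite Topology

namespace Groth.Agent.Lib.Rigidity

open Groth.Agent.Lib.AssocBundle Groth.Agent.Lib.IsogKernel Groth.Agent.Lib.AntiAffine

variable {k : Type u} [Field k]

/-- a morphism from a product to a separated group scheme, trivial at the base point, is the product
of its restrictions to the two axes -/
theorem prod_decomp (V W A : Over (Spec (CommRingCat.of k))) [GrpObj A] [IsSeparated A.hom]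
    (hAV : AA V) [CompactSpace V.left] [QuasiSeparatedSpace V.left] [IsLocallyNoetherian W.left]
    [CompactSpace W.left] [ConnectedSpace ↥W.left]
    (v₀ : 𝟙_ (Over (Spec (CommRingCat.of k))) ⟶ V) (w₀ : 𝟙_ (Over (Spec (CommRingCat.of k))) ⟶ W)
    (h : V ⊗ W ⟶ A) (h0 : lift v₀ w₀ ≫ h = η[A]) :
    h = (fst V W ≫ lift (𝟙 V) (toUnit V ≫ w₀) ≫ h) *
      (snd V W ≫ lift (toUnit W ≫ v₀) (𝟙 W) ≫ h) := by
  obtain ⟨pt₀⟩ : Nonempty ↥(𝟙_ (Over (Spec (CommRingCat.of k)))).left :=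
    (inferInstance : Nonempty (PrimeSpectrum k))
  haveI hsub' : Subsingleton ↥(𝟙_ (Over (Spec (CommRingCat.of k)))).left :=
    (inferInstance : Subsingleton (PrimeSpectrum k))
  obtain ⟨a, ha⟩ : ∃ a : V ⊗ W ⟶ A, a = fst V W ≫ lift (𝟙 V) (toUnit V ≫ w₀) ≫ h := ⟨_, rfl⟩
  obtain ⟨b, hb⟩ : ∃ b : V ⊗ W ⟶ A, b = snd V W ≫ lift (toUnit W ≫ v₀) (𝟙 W) ≫ h := ⟨_, rfl⟩
  obtain ⟨F, hF⟩ : ∃ F : V ⊗ W ⟶ A, F = a⁻¹ * h * b⁻¹ := ⟨_, rfl⟩
  have hpt : ∀ {T : Over (Spec (CommRingCat.of k))} (v : T ⟶ V) (w : T ⟶ W),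
      lift v w ≫ F = (lift v (toUnit T ≫ w₀) ≫ h)⁻¹ * (lift v w ≫ h) *
        (lift (toUnit T ≫ v₀) w ≫ h)⁻¹ := by
    intro T v w
    have ea : lift v w ≫ a = lift v (toUnit T ≫ w₀) ≫ h := by
      rw [ha, lift_fst_assoc, ← Category.assoc]
      congr 1
      apply CartesianMonoidalCategory.hom_ext
      · rw [Category.assoc, lift_fst, lift_fst, Category.comp_id]
      · rw [Category.assoc, lift_snd, lift_snd, ← Category.assoc, comp_toUnit]
    have eb : lift v w ≫ b = lift (toUnit T ≫ v₀) w ≫ h := by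
      rw [hb, lift_snd_assoc, ← Category.assoc]
      congr 1
      apply CartesianMonoidalCategory.hom_ext
      · rw [Category.assoc, lift_fst, lift_fst, ← Category.assoc, comp_toUnit]
      · rw [Category.assoc, lift_snd, lift_snd, Category.comp_id]
    rw [hF, MonObj.comp_mul, MonObj.comp_mul, GrpObj.comp_inv, GrpObj.comp_inv, ea, eb]
  have ew : V ◁ w₀ = lift (fst V (𝟙_ _)) (toUnit (V ⊗ 𝟙_ _) ≫ w₀) := by
    apply CartesianMonoidalCategory.hom_ext
    · rw [whiskerLeft_fst, lift_fst]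
    · rw [whiskerLeft_snd, lift_snd]
      congr 1
      exact toUnit_unique _ _
  have h00 : ∀ (T : Over (Spec (CommRingCat.of k))),
      lift (toUnit T ≫ v₀) (toUnit T ≫ w₀) ≫ h = 1 := by
    intro T
    have e : lift (toUnit T ≫ v₀) (toUnit T ≫ w₀) = toUnit T ≫ lift v₀ w₀ := by rw [comp_lift]
    rw [e, Category.assoc, h0, ← Hom.one_def]
  have h1 : (V ◁ w₀) ≫ F = 1 := by
    rw [ew, hpt, h00, _root_.inv_mul_cancel, _root_.inv_one, _root_.mul_one]
  have hfp : ∀ p, ((V ◁ w₀) ≫ F).left p = (η[A]).left pt₀ := by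
    intro p
    rw [h1, Hom.one_def]
    exact congrArg (fun t => (η[A]).left t)
      (Subsingleton.elim ((toUnit (V ⊗ 𝟙_ (Over (Spec (CommRingCat.of k))))).left p) pt₀)
  have key := rigid_rat V W A hAV v₀ w₀ F ((η[A]).left pt₀) hfp
  have h2 : lift (toUnit W ≫ v₀) (𝟙 W) ≫ F = 1 := by
    rw [hpt, h00, _root_.inv_one, _root_.one_mul, _root_.mul_inv_cancel]
  have h3 : F = 1 := by
    rw [key, h2, MonObj.comp_one]
  have h4 : a⁻¹ * h * b⁻¹ = 1 := by rw [← hF]; exact h3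
  have h5 : a⁻¹ * h = b := _root_.mul_inv_eq_one.mp h4
  have h6 : h = a * b := _root_.inv_mul_eq_iff_eq_mul.mp h5
  rw [← ha, ← hb]; exact h6

/-- the product of two homomorphisms into a commutative group is a homomorphism -/
theorem isMonHom_prod {A B C : Over (Spec (CommRingCat.of k))} [GrpObj A] [GrpObj B] [GrpObj C]
    [IsCommMonObj C] (h₁ : A ⟶ C) (h₂ : B ⟶ C) [IsMonHom h₁] [IsMonHom h₂] :
    IsMonHom ((fst A B ≫ h₁) * (snd A B ≫ h₂)) := by
  obtain ⟨h, hh⟩ : ∃ h : A ⊗ B ⟶ C, h = (fst A B ≫ h₁) * (snd A B ≫ h₂) := ⟨_, rfl⟩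
  rw [← hh]
  have hpt : ∀ {T : Over (Spec (CommRingCat.of k))} (P : T ⟶ A ⊗ B),
      P ≫ h = (P ≫ fst A B ≫ h₁) * (P ≫ snd A B ≫ h₂) := by
    intro T P
    rw [hh, MonObj.comp_mul]
  refine ⟨?_, ?_⟩
  · have e : (η[C] : 𝟙_ (Over (Spec (CommRingCat.of k))) ⟶ C) = 1 := by
      rw [Hom.one_def, toUnit_unit, Category.id_comp]
    rw [hpt, ← Category.assoc, ← Category.assoc, IsMonHom.one_hom (fst A B),
      IsMonHom.one_hom (snd A B), IsMonHom.one_hom h₁, IsMonHom.one_hom h₂, e, _root_.mul_one]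
  · have e1 : μ[A ⊗ B] = fst (A ⊗ B) (A ⊗ B) * snd (A ⊗ B) (A ⊗ B) := by
      rw [Hom.mul_def, lift_fst_snd, Category.id_comp]
    have e2 : (h ⊗ₘ h) ≫ μ[C] = (fst (A ⊗ B) (A ⊗ B) ≫ h) * (snd (A ⊗ B) (A ⊗ B) ≫ h) := by
      rw [Hom.mul_def]
      congr 1
    rw [e1, e2, hpt (fst (A ⊗ B) (A ⊗ B) * snd (A ⊗ B) (A ⊗ B)), hpt (fst (A ⊗ B) (A ⊗ B)),
      hpt (snd (A ⊗ B) (A ⊗ B)),
      MonObj.mul_comp (fst (A ⊗ B) (A ⊗ B)) (snd (A ⊗ B) (A ⊗ B)) (fst A B ≫ h₁),
      MonObj.mul_comp (fst (A ⊗ B) (A ⊗ B)) (snd (A ⊗ B) (A ⊗ B)) (snd A B ≫ h₂)]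
    exact mul_mul_mul_comm _ _ _ _

theorem main14830 (XO YO A B C : Over (Spec (CommRingCat.of k)))
    [IsProper XO.hom] [IsProper YO.hom] [GeometricallyIntegral XO.hom]
    [GeometricallyIntegral YO.hom]
    (x₀ : 𝟙_ (Over (Spec (CommRingCat.of k))) ⟶ XO) (y₀ : 𝟙_ (Over (Spec (CommRingCat.of k))) ⟶ YO)
    [GrpObj A] [IsProper A.hom] [GeometricallyIntegral A.hom]
    (albX : XO ⟶ A) (halbX : x₀ ≫ albX = η[A])
    [GrpObj B] [IsProper B.hom] [GeometricallyIntegral B.hom]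
    (albY : YO ⟶ B) (halbY : y₀ ≫ albY = η[B])
    [GrpObj C] [IsProper C.hom] [GeometricallyReduced C.hom] [ConnectedSpace ↥C.left]
    (hunivA : ∀ g : XO ⟶ C, x₀ ≫ g = η[C] → ∃! h : A ⟶ C, IsMonHom h ∧ albX ≫ h = g)
    (hunivB : ∀ g : YO ⟶ C, y₀ ≫ g = η[C] → ∃! h : B ⟶ C, IsMonHom h ∧ albY ≫ h = g)
    (g : XO ⊗ YO ⟶ C) (hg : lift x₀ y₀ ≫ g = η[C]) :
    ∃! h : A ⊗ B ⟶ C, IsMonHom h ∧ (albX ⊗ₘ albY) ≫ h = g := by
  haveI hsub : Subsingleton ↥(Spec (CommRingCat.of k)) :=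
    inferInstanceAs (Subsingleton (PrimeSpectrum k))
  haveI : IsIntegral XO.left := integral_of_geomIntegral XO
  haveI : IsIntegral YO.left := integral_of_geomIntegral YO
  haveI : IsIntegral A.left := integral_of_geomIntegral A
  haveI : IsIntegral B.left := integral_of_geomIntegral B
  have hAX : AA XO := aa_of_proper_rat XO x₀
  have hAA : AA A := aa_of_proper_rat A η[A]
  have hAB : AA B := aa_of_proper_rat B η[B]
  haveI : IsNoetherianRing (CommRingCat.of k) := inferInstanceAs (IsNoetherianRing k)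
  haveI : IsDomain (CommRingCat.of k) := inferInstanceAs (IsDomain k)
  haveI : IsIntegral (Spec (CommRingCat.of k)) := inferInstance
  haveI : IsReduced (Spec (CommRingCat.of k)) := inferInstance
  haveI : Flat C.hom := inferInstance
  haveI : IsReduced C.left := GeometricallyReduced.isReduced_of_flat_of_isLocallyNoetherian C.hom
  haveI : IrreducibleSpace C.left := GrpConnIrrH4.main0348 k C
  haveI : IsIntegral C.left := isIntegral_of_irreducibleSpace_of_isReduced C.left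
  have hAC : AA C := aa_of_proper_rat C η[C]
  haveI hcomm : IsCommMonObj C := (main3293 k C ((aa_iff C).mpr hAC)).2
  obtain ⟨hcX, hqX⟩ := qcqs XO
  obtain ⟨hcY, hqY⟩ := qcqs YO
  haveI := hcX
  haveI := hqX
  haveI := hcY
  haveI : IsLocallyNoetherian YO.left := LocallyOfFiniteType.isLocallyNoetherian YO.hom
  haveI : ConnectedSpace YO.left := inferInstance
  haveI : IsSeparated C.hom := inferInstance
  obtain ⟨g₁, hg₁⟩ : ∃ g₁ : XO ⟶ C, g₁ = lift (𝟙 XO) (toUnit XO ≫ y₀) ≫ g := ⟨_, rfl⟩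
  obtain ⟨g₂, hg₂⟩ : ∃ g₂ : YO ⟶ C, g₂ = lift (toUnit YO ≫ x₀) (𝟙 YO) ≫ g := ⟨_, rfl⟩
  have hdec : g = (fst XO YO ≫ g₁) * (snd XO YO ≫ g₂) := by
    rw [hg₁, hg₂]
    exact prod_decomp XO YO C hAX x₀ y₀ g hg
  have hp₁ : x₀ ≫ g₁ = η[C] := by
    have e : x₀ ≫ lift (𝟙 XO) (toUnit XO ≫ y₀) = lift x₀ y₀ := by
      apply CartesianMonoidalCategory.hom_ext
      · rw [Category.assoc, lift_fst, lift_fst, Category.comp_id]
      · rw [Category.assoc, lift_snd, lift_snd, ← Category.assoc, comp_toUnit, toUnit_unit,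
          Category.id_comp]
    rw [hg₁, ← Category.assoc, e, hg]
  have hp₂ : y₀ ≫ g₂ = η[C] := by
    have e : y₀ ≫ lift (toUnit YO ≫ x₀) (𝟙 YO) = lift x₀ y₀ := by
      apply CartesianMonoidalCategory.hom_ext
      · rw [Category.assoc, lift_fst, lift_fst, ← Category.assoc, comp_toUnit, toUnit_unit,
          Category.id_comp]
      · rw [Category.assoc, lift_snd, lift_snd, Category.comp_id]
    rw [hg₂, ← Category.assoc, e, hg]
  obtain ⟨h₁, ⟨hm₁, hh₁⟩, huq₁⟩ := hunivA g₁ hp₁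
  obtain ⟨h₂, ⟨hm₂, hh₂⟩, huq₂⟩ := hunivB g₂ hp₂
  haveI := hm₁
  haveI := hm₂
  obtain ⟨iA, hiA⟩ : ∃ iA : A ⟶ A ⊗ B, iA = lift (𝟙 A) (toUnit A ≫ η[B]) := ⟨_, rfl⟩
  obtain ⟨iB, hiB⟩ : ∃ iB : B ⟶ A ⊗ B, iB = lift (toUnit B ≫ η[A]) (𝟙 B) := ⟨_, rfl⟩
  have hId : (fst A B ≫ iA) * (snd A B ≫ iB) = 𝟙 (A ⊗ B) := by
    apply CartesianMonoidalCategory.hom_ext
    · rw [MonObj.mul_comp, Category.assoc, Category.assoc, hiA, hiB, lift_fst, lift_fst,
        Category.comp_id, Category.id_comp, ← Category.assoc, comp_toUnit, ← Hom.one_def,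
        _root_.mul_one]
    · rw [MonObj.mul_comp, Category.assoc, Category.assoc, hiA, hiB, lift_snd, lift_snd,
        Category.comp_id, Category.id_comp, ← Category.assoc, comp_toUnit, ← Hom.one_def,
        _root_.one_mul]
  have eA : η[A] ≫ iA = η[A ⊗ B] := by
    apply CartesianMonoidalCategory.hom_ext
    · rw [Category.assoc, hiA, lift_fst, Category.comp_id, IsMonHom.one_hom (fst A B)]
    · rw [Category.assoc, hiA, lift_snd, ← Category.assoc, comp_toUnit, toUnit_unit,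
        Category.id_comp, IsMonHom.one_hom (snd A B)]
  have eB : η[B] ≫ iB = η[A ⊗ B] := by
    apply CartesianMonoidalCategory.hom_ext
    · rw [Category.assoc, hiB, lift_fst, ← Category.assoc, comp_toUnit, toUnit_unit,
        Category.id_comp, IsMonHom.one_hom (fst A B)]
    · rw [Category.assoc, hiB, lift_snd, Category.comp_id, IsMonHom.one_hom (snd A B)]
  have e6 : albX ≫ iA = lift (𝟙 XO) (toUnit XO ≫ y₀) ≫ (albX ⊗ₘ albY) := by
    apply CartesianMonoidalCategory.hom_ext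
    · rw [Category.assoc, hiA, lift_fst, Category.comp_id, Category.assoc, tensorHom_fst,
        lift_fst_assoc, Category.id_comp]
    · rw [Category.assoc, hiA, lift_snd, ← Category.assoc, comp_toUnit, Category.assoc,
        tensorHom_snd, lift_snd_assoc, Category.assoc, halbY]
  have e7 : albY ≫ iB = lift (toUnit YO ≫ x₀) (𝟙 YO) ≫ (albX ⊗ₘ albY) := by
    apply CartesianMonoidalCategory.hom_ext
    · rw [Category.assoc, hiB, lift_fst, ← Category.assoc, comp_toUnit, Category.assoc,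
        tensorHom_fst, lift_fst_assoc, Category.assoc, halbX]
    · rw [Category.assoc, hiB, lift_snd, Category.comp_id, Category.assoc, tensorHom_snd,
        lift_snd_assoc, Category.id_comp]
  haveI hmon : IsMonHom ((fst A B ≫ h₁) * (snd A B ≫ h₂)) := isMonHom_prod h₁ h₂
  refine ⟨(fst A B ≫ h₁) * (snd A B ≫ h₂), ⟨hmon, ?_⟩, ?_⟩
  · rw [MonObj.comp_mul, tensorHom_fst_assoc, tensorHom_snd_assoc, hh₁, hh₂]
    exact hdec.symm
  · rintro h' ⟨hm', hh'⟩
    haveI := hm'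
    have e5 : h' = (fst A B ≫ iA ≫ h') * (snd A B ≫ iB ≫ h') := by
      calc h' = ((fst A B ≫ iA) * (snd A B ≫ iB)) ≫ h' := by rw [hId, Category.id_comp]
        _ = (fst A B ≫ iA ≫ h') * (snd A B ≫ iB ≫ h') := by
          rw [MonObj.mul_comp, Category.assoc, Category.assoc]
    have p1 : η[A] ≫ iA ≫ h' = η[C] := by
      rw [← Category.assoc, eA, IsMonHom.one_hom h']
    have p2 : η[B] ≫ iB ≫ h' = η[C] := by
      rw [← Category.assoc, eB, IsMonHom.one_hom h']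
    haveI m1 : IsMonHom (iA ≫ h') := hom_of_pointed2 A C hAA (iA ≫ h') p1
    haveI m2 : IsMonHom (iB ≫ h') := hom_of_pointed2 B C hAB (iB ≫ h') p2
    have q1 : albX ≫ iA ≫ h' = g₁ := by
      rw [← Category.assoc, e6, Category.assoc, hh', hg₁]
    have q2 : albY ≫ iB ≫ h' = g₂ := by
      rw [← Category.assoc, e7, Category.assoc, hh', hg₂]
    have r1 : iA ≫ h' = h₁ := huq₁ _ ⟨m1, q1⟩
    have r2 : iB ≫ h' = h₂ := huq₂ _ ⟨m2, q2⟩
    rw [e5, r1, r2]

end Groth.Agent.Lib.Rigidity
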