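import Groth.Statements.S14834
import Groth.Agent.Lib.AMonDense_lead

/-! # The Stein factorisation of the Albanese morphism (lead) -/

set_option backward.isDefEq.respectTransparency false
set_option backward.isDefEq.respectTransparency.types false
set_option linter.unusedSimpArgs false
set_option linter.unusedVariables false
set_option linter.unusedSectionVars false
set_option linter.style.longLine false
set_option linter.style.haveILetI false
set_option maxHeartbeats 800000

universe u

open CategoryTheory CategoryTheory.Limits MonoidalCategory CartesianMonoidalCategory MonObj GrpObj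
  AlgebraicGeometry Opposite Topology

namespace Groth.Agent.Lib.AlbStein

theorem std_of_app_inj {X Y : Scheme.{u}} (f : X ⟶ Y) [QuasiCompact f]
    (hf : ∀ U : Y.Opens, Function.Injective (f.app U).hom) :
    IsSchemeTheoreticallyDominant f := by
  refine ⟨?_⟩
  apply Scheme.IdealSheafData.ext
  funext U
  rw [Scheme.Hom.ker_apply, Scheme.IdealSheafData.ideal_bot, Pi.bot_apply]
  exact (RingHom.injective_iff_ker_eq_bot _).mp (hf U.1)

theorem main14834 (k : Type u) [Field k] (X Y : Over (Spec (CommRingCat.of k)))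
    [IsProper X.hom] [IsProper Y.hom] (h0 : Function.Bijective (X.hom.appTop).hom)
    (x₀ : 𝟙_ (Over (Spec (CommRingCat.of k))) ⟶ X)
    (A : Over (Spec (CommRingCat.of k))) [GrpObj A] [IsProper A.hom] [GeometricallyIntegral A.hom]
    (alb : X ⟶ A) (halb : x₀ ≫ alb = η[A])
    (huniv : ∀ (B : Over (Spec (CommRingCat.of k))) [GrpObj B] [IsProper B.hom]
      [GeometricallyReduced B.hom] [ConnectedSpace ↥B.left]
      (g : X ⟶ B), x₀ ≫ g = η[B] → ∃! h : A ⟶ B, IsMonHom h ∧ alb ≫ h = g)
    (r : X ⟶ Y) (hr : ∀ U : Y.left.Opens, IsIso (r.left.app U)) (s : Y ⟶ A) [IsFinite s.left]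
    (hrs : r ≫ s = alb)
    (B : Over (Spec (CommRingCat.of k))) [GrpObj B] [IsProper B.hom] [GeometricallyReduced B.hom]
    [ConnectedSpace ↥B.left]
    (g : Y ⟶ B) (hg : x₀ ≫ r ≫ g = η[B]) :
    ∃! h : A ⟶ B, IsMonHom h ∧ s ≫ h = g := by
  haveI : QuasiCompact (r.left ≫ Y.hom) := by rw [Over.w r]; infer_instance
  haveI : QuasiCompact r.left := QuasiCompact.of_comp r.left Y.hom
  haveI : IsSchemeTheoreticallyDominant r.left :=
    std_of_app_inj r.left (fun U => ((ConcreteCategory.isIso_iff_bijective _).mp (hr U)).1)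
  haveI : IsSeparated B.hom := inferInstance
  obtain ⟨h, ⟨hmon, hh⟩, huq⟩ := huniv B (r ≫ g) hg
  refine ⟨h, ⟨hmon, ?_⟩, ?_⟩
  · apply Groth.Agent.Lib.AMonDense.eq_of_dense r
    rw [← Category.assoc, hrs, hh]
  · rintro h' ⟨hmon', hh'⟩
    apply huq
    refine ⟨hmon', ?_⟩
    rw [← hrs, Category.assoc, hh']

end Groth.Agent.Lib.AlbStein
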