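import Groth.Statements.S14825
import Groth.Agent.Lib.AbVarRigid_lead
import Groth.Agent.Lib.AntiAffineRigid_lead

/-! # Albanese dimension zero iff trivial Albanese variety; `H^0` as global sections (lead) -/

set_option backward.isDefEq.respectTransparency false
set_option backward.isDefEq.respectTransparency.types false
set_option linter.unusedSimpArgs false
set_option linter.unusedVariables false
set_option linter.unusedSectionVars false
set_option linter.style.longLine false
set_option linter.style.haveILetI false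
set_option maxHeartbeats 800000

universe u

open CategoryTheory CategoryTheory.Limits MonoidalCategory CartesianMonoidalCategory MonObj GrpObj
  AlgebraicGeometry Opposite Topology TopologicalSpace

namespace Groth.Agent.Lib.AlbTriv

open Groth.Agent.Lib.AntiAffine

section H0

variable (X : Scheme.{u})

/-- `H^0(X, O_X)` evaluated at global sections -/
noncomputable def ev (x : Coh.HH X (Coh.structureModule X) 0) : Coh.Γtop X :=
  Sheaf.H.equiv₀ (Coh.toAb (Coh.structureModule X)) Limits.isTerminalTop x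

theorem ev_injective : Function.Injective (ev X) :=
  (Sheaf.H.equiv₀ (Coh.toAb (Coh.structureModule X)) Limits.isTerminalTop).injective

theorem ev_surjective : Function.Surjective (ev X) :=
  (Sheaf.H.equiv₀ (Coh.toAb (Coh.structureModule X)) Limits.isTerminalTop).surjective

theorem ev_zero : ev X 0 = 0 :=
  map_zero (Sheaf.H.equiv₀ (Coh.toAb (Coh.structureModule X)) Limits.isTerminalTop)

theorem resTop_top (r : Coh.Γtop X) : Coh.resTop X (op ⊤) r = r := by
  show (X.ringCatSheaf.obj.map (𝟙 (op ⊤))).hom r = r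
  rw [CategoryTheory.Functor.map_id]
  rfl

theorem ev_smul (r : Coh.Γtop X) (x : Coh.HH X (Coh.structureModule X) 0) :
    ev X (r • x) = r * ev X x := by
  have h := Sheaf.H.equiv₀_naturality (hT := Limits.isTerminalTop)
    (Coh.smulAb (Coh.structureModule X) r) x
  refine h.symm.trans ?_
  show Coh.resTop X (op ⊤) r * ev X x = r * ev X x
  rw [resTop_top]

end H0

theorem toGlobal_bijective (k : Type u) [Field k] (X : Scheme.{u})
    [X.Over (Spec (CommRingCat.of k))]
    (h0 : Module.finrank k (Coh.HH X (Coh.structureModule X) 0) = 1) :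
    Function.Bijective (Coh.toGlobal (X ↘ Spec (CommRingCat.of k))) := by
  obtain ⟨x₁, hx₁, hgen⟩ := finrank_eq_one_iff'.1 h0
  have hsm : ∀ (a : k) (x : Coh.HH X (Coh.structureModule X) 0),
      ev X (a • x) = Coh.toGlobal (X ↘ Spec (CommRingCat.of k)) a * ev X x := by
    intro a x
    exact ev_smul X (Coh.toGlobal (X ↘ Spec (CommRingCat.of k)) a) x
  have hne : ev X x₁ ≠ 0 := fun h => hx₁ (ev_injective X (h.trans (ev_zero X).symm))
  haveI : Nontrivial (Coh.Γtop X) := ⟨⟨ev X x₁, 0, hne⟩⟩
  refine ⟨RingHom.injective _, ?_⟩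
  obtain ⟨y₁, hy₁⟩ := ev_surjective X (1 : Coh.Γtop X)
  obtain ⟨a₁, ha₁⟩ := hgen y₁
  have e1 : Coh.toGlobal (X ↘ Spec (CommRingCat.of k)) a₁ * ev X x₁ = 1 := by
    rw [← hsm, ha₁, hy₁]
  have ha₁ne : a₁ ≠ 0 := by
    rintro rfl
    rw [map_zero, MulZeroClass.zero_mul] at e1
    exact zero_ne_one e1
  have e2 : ev X x₁ = Coh.toGlobal (X ↘ Spec (CommRingCat.of k)) a₁⁻¹ := by
    calc ev X x₁ = Coh.toGlobal (X ↘ Spec (CommRingCat.of k)) (a₁⁻¹ * a₁) * ev X x₁ := by
          rw [inv_mul_cancel₀ ha₁ne, map_one, _root_.one_mul]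
      _ = Coh.toGlobal (X ↘ Spec (CommRingCat.of k)) a₁⁻¹ *
            (Coh.toGlobal (X ↘ Spec (CommRingCat.of k)) a₁ * ev X x₁) := by
          rw [map_mul, _root_.mul_assoc]
      _ = _ := by rw [e1, _root_.mul_one]
  intro s
  obtain ⟨y, hy⟩ := ev_surjective X s
  obtain ⟨a, ha⟩ := hgen y
  refine ⟨a * a₁⁻¹, ?_⟩
  rw [map_mul, ← e2, ← hsm, ha, hy]

variable {k : Type u} [Field k]

theorem main14825 (XO A : Over (Spec (CommRingCat.of k))) (hAA : AA XO)
    (x₀ : 𝟙_ (Over (Spec (CommRingCat.of k))) ⟶ XO)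
    [GrpObj A] [IsProper A.hom] [GeometricallyIntegral A.hom]
    (alb : XO ⟶ A) (halb : x₀ ≫ alb = η[A])
    (huniv : ∀ (B : Over (Spec (CommRingCat.of k))) [GrpObj B] [IsProper B.hom]
      [GeometricallyReduced B.hom] [ConnectedSpace ↥B.left]
      (g : XO ⟶ B), x₀ ≫ g = η[B] → ∃! h : A ⟶ B, IsMonHom h ∧ alb ≫ h = g) :
    (Set.range alb.left.base).Subsingleton ↔ IsIso A.hom := by
  haveI hsub : Subsingleton ↥(Spec (CommRingCat.of k)) :=
    inferInstanceAs (Subsingleton (PrimeSpectrum k))
  constructor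
  · intro hss
    obtain ⟨pt⟩ : Nonempty ↥((𝟙_ (Over (Spec (CommRingCat.of k)))).left) :=
      (inferInstance : Nonempty (PrimeSpectrum k))
    -- an affine open neighbourhood of the unit point
    obtain ⟨e, he⟩ : ∃ e : A.left, e = alb.left (x₀.left pt) := ⟨_, rfl⟩
    obtain ⟨U, hU, heU, -⟩ :=
      exists_isAffineOpen_mem_and_subset (U := ⊤) (x := e) (TopologicalSpace.Opens.mem_top e)
    haveI : IsAffine U.toScheme := hU
    have hrange : Set.range alb.left ⊆ Set.range U.ι := by
      rw [Scheme.Opens.range_ι]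
      rintro _ ⟨x, rfl⟩
      have : alb.left x = e := by
        rw [he]
        exact hss ⟨x, rfl⟩ ⟨x₀.left pt, rfl⟩
      rw [this]
      exact heU
    obtain ⟨n, hn⟩ : ∃ n : XO.left ⟶ ↑U, n ≫ U.ι = alb.left :=
      ⟨IsOpenImmersion.lift U.ι alb.left hrange, IsOpenImmersion.lift_fac _ _ _⟩
    haveI : IsIso XO.hom.appTop := hAA
    obtain ⟨c, hc⟩ := factor_affine XO.hom n
    have hd : alb.left = XO.hom ≫ (c ≫ U.ι) := by rw [← hn, hc, Category.assoc]
    have hx₀ : x₀.left ≫ XO.hom = 𝟙 _ := Over.w x₀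
    have hη : c ≫ U.ι = η[A].left := by
      rw [← halb, Over.comp_left, hd, ← Category.assoc, hx₀, Category.id_comp]
    have halb' : alb = toUnit XO ≫ η[A] := by
      apply Over.OverMorphism.ext
      rw [Over.comp_left, Over.toUnit_left, hd, hη]
    haveI : IsIntegral A.left := Groth.Agent.Lib.Rigidity.integral_of_geomIntegral A
    obtain ⟨h, -, huniq⟩ := huniv A alb halb
    have h1 : 𝟙 A = h := huniq (𝟙 A) ⟨inferInstance, Category.comp_id alb⟩
    have h2 : toUnit A ≫ η[A] = h := by
      refine huniq _ ⟨inferInstance, ?_⟩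
      rw [← Category.assoc, toUnit_unique (alb ≫ toUnit A) (toUnit XO)]
      exact halb'.symm
    have h3 : toUnit A ≫ η[A] = 𝟙 A := h2.trans h1.symm
    haveI : IsIso (toUnit A) := ⟨⟨η[A], h3, toUnit_unique _ _⟩⟩
    have h4 : IsIso ((Over.forget (Spec (CommRingCat.of k))).map (toUnit A)) := inferInstance
    have h5 : (Over.forget (Spec (CommRingCat.of k))).map (toUnit A) = A.hom := Over.toUnit_left
    rwa [h5] at h4
  · intro hiso
    haveI : Subsingleton ↥A.left := A.hom.homeomorph.subsingleton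
    exact Set.subsingleton_of_subsingleton

end Groth.Agent.Lib.AlbTriv
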