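import Mathlib

set_option autoImplicit false

namespace Groth.Agent.Lib.AlgClosedCoverH8

universe u
open Polynomial

/-- every monic polynomial of positive degree has a root -/
def HasRoots (R : Type*) [CommRing R] : Prop :=
  ∀ p : R[X], p.Monic → p.natDegree ≠ 0 → ∃ r, p.eval r = 0

theorem hasRoots_pi {ι : Type*} (K : ι → Type*) [∀ i, Field (K i)] [∀ i, IsAlgClosed (K i)] :
    HasRoots (Π i, K i) := by
  intro p hp hd
  have h : ∀ i, ∃ r : K i, (p.map (Pi.evalRingHom K i)).eval r = 0 := by
    intro i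
    apply IsAlgClosed.exists_root
    rw [Polynomial.degree_eq_natDegree (hp.map _).ne_zero, (hp.natDegree_map _)]
    exact_mod_cast hd
  choose r hr using h
  refine ⟨r, ?_⟩
  funext i
  have := Polynomial.eval_map_apply (p := p) (f := Pi.evalRingHom K i) r
  simp only [Pi.evalRingHom_apply] at this
  rw [Pi.zero_apply, ← this]
  exact hr i

theorem hasRoots_integralClosure (A B : Type*) [CommRing A] [CommRing B] [Algebra A B]
    (hB : HasRoots B) : HasRoots (integralClosure A B) := by
  intro p hp hd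
  have hinj : Function.Injective (algebraMap (integralClosure A B) B) := Subtype.val_injective
  obtain ⟨r, hr⟩ := hB (p.map (algebraMap (integralClosure A B) B)) (hp.map _)
    (by rwa [Polynomial.natDegree_map_eq_of_injective hinj])
  have h1 : IsIntegral (integralClosure A B) r := ⟨p, hp, by rwa [← Polynomial.eval_map]⟩
  have h2 : IsIntegral A r := isIntegral_trans r h1
  refine ⟨⟨r, h2⟩, ?_⟩
  apply hinj
  rw [map_zero, ← Polynomial.eval_map_apply]
  exact hr

theorem hasRoots_of_surjective {R S : Type*} [CommRing R] [CommRing S] (f : R →+* S)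
    (hf : Function.Surjective f) (hR : HasRoots R) : HasRoots S := by
  intro p hp hd
  obtain ⟨q, hq, hdq, hqm⟩ := Polynomial.lifts_and_natDegree_eq_and_monic
    (p := p) (f := f) (by
      rw [Polynomial.lifts_iff_coeff_lifts]; intro n; exact hf _) hp
  obtain ⟨r, hr⟩ := hR q hqm (by rwa [hdq])
  refine ⟨f r, ?_⟩
  rw [← hq, Polynomial.eval_map_apply, hr, map_zero]

theorem isAlgClosed_of_hasRoots (D K : Type*) [CommRing D] [IsDomain D] [Field K] [Algebra D K]
    [IsFractionRing D K] (hD : HasRoots D) : IsAlgClosed K := by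
  classical
  apply IsAlgClosed.of_exists_root
  intro p hp hirr
  have hd : p.natDegree ≠ 0 := by
    intro h0
    have := Polynomial.natDegree_pos_iff_degree_pos.mpr (Polynomial.degree_pos_of_irreducible hirr)
    omega
  obtain ⟨b, hb⟩ := IsLocalization.exist_integer_multiples_of_finset (nonZeroDivisors D)
    (p.support.image p.coeff)
  have hb0 : algebraMap D K (b : D) ≠ 0 := by
    intro h
    have := (IsFractionRing.injective D K) (h.trans (map_zero _).symm)
    exact nonZeroDivisors.coe_ne_zero b this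
  have hcoef : ∀ i, ∃ c : D, algebraMap D K c = algebraMap D K (b : D) * p.coeff i := by
    intro i
    by_cases hi : i ∈ p.support
    · obtain ⟨c, hc⟩ := hb (p.coeff i) (Finset.mem_image_of_mem _ hi)
      exact ⟨c, by rw [hc, Algebra.smul_def]⟩
    · rw [Polynomial.notMem_support_iff] at hi
      exact ⟨0, by rw [hi, mul_zero, map_zero]⟩
  have hlift : p.scaleRoots (algebraMap D K (b : D)) ∈ Polynomial.lifts (algebraMap D K) := by
    rw [Polynomial.lifts_iff_coeff_lifts]
    intro i
    rw [Polynomial.coeff_scaleRoots]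
    rcases lt_trichotomy i p.natDegree with hlt | heq | hgt
    · obtain ⟨c, hc⟩ := hcoef i
      obtain ⟨m, hm⟩ : ∃ m, p.natDegree - i = m + 1 := ⟨p.natDegree - i - 1, by omega⟩
      refine ⟨c * (b : D) ^ m, ?_⟩
      rw [map_mul, map_pow, hc, hm, pow_succ]
      ring
    · subst heq
      refine ⟨1, ?_⟩
      rw [map_one, Nat.sub_self, pow_zero, mul_one]
      exact hp.coeff_natDegree.symm
    · refine ⟨0, ?_⟩
      rw [map_zero, Polynomial.coeff_eq_zero_of_natDegree_lt hgt, zero_mul]
  have hmon : (p.scaleRoots (algebraMap D K (b : D))).Monic :=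
    (Polynomial.monic_scaleRoots_iff _).mpr hp
  obtain ⟨q, hq, hdq, hqm⟩ := Polynomial.lifts_and_natDegree_eq_and_monic hlift hmon
  obtain ⟨β, hβ⟩ := hD q hqm (by rw [hdq, Polynomial.natDegree_scaleRoots]; exact hd)
  refine ⟨algebraMap D K β / algebraMap D K (b : D), ?_⟩
  have h1 : (p.scaleRoots (algebraMap D K (b : D))).eval (algebraMap D K β) = 0 := by
    rw [← hq, Polynomial.eval_map_apply, hβ, map_zero]
  have h2 : algebraMap D K β =
      algebraMap D K (b : D) * (algebraMap D K β / algebraMap D K (b : D)) := by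
    field_simp
  rw [h2, Polynomial.scaleRoots_eval_mul] at h1
  rcases mul_eq_zero.mp h1 with h | h
  · exact absurd (pow_eq_zero_iff (hd) |>.mp h) hb0
  · exact h

/-- The main ring-level construction. -/
theorem exists_integral_algClosed (A : Type u) [CommRing A] :
    ∃ (B : Type u) (_ : CommRing B) (_ : Algebra A B), Algebra.IsIntegral A B ∧
      (∀ P : Ideal A, P.IsPrime → ∃ Q : Ideal B, Q.IsPrime ∧ Q.comap (algebraMap A B) = P) ∧
      (∀ (Q : Ideal B) [Q.IsPrime], IsAlgClosed Q.ResidueField) := by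
  let K : PrimeSpectrum A → Type u := fun p => AlgebraicClosure p.asIdeal.ResidueField
  let B0 := Π p, K p
  let B := integralClosure A B0
  refine ⟨B, inferInstance, inferInstance, inferInstance, ?_, ?_⟩
  · intro P hP
    have hker : (⊥ : Ideal B).comap (algebraMap A B) ≤ P := by
      intro a ha
      rw [Ideal.mem_comap, Ideal.mem_bot] at ha
      have h1 : algebraMap A B0 a = 0 := by
        have := congrArg (algebraMap B B0) ha
        rwa [map_zero, ← IsScalarTower.algebraMap_apply] at this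
      have h2 : algebraMap A (K ⟨P, hP⟩) a = 0 := congrFun h1 ⟨P, hP⟩
      rw [IsScalarTower.algebraMap_apply A P.ResidueField (K ⟨P, hP⟩)] at h2
      have h3 : algebraMap A P.ResidueField a = 0 :=
        (algebraMap P.ResidueField (K ⟨P, hP⟩)).injective (h2.trans (map_zero _).symm)
      exact (Ideal.algebraMap_residueField_eq_zero).mp h3
    obtain ⟨Q, -, hQ, hQP⟩ := Ideal.exists_ideal_over_prime_of_isIntegral P (⊥ : Ideal B) hker
    exact ⟨Q, hQ, hQP⟩
  · intro Q hQ
    have h0 : HasRoots B0 := hasRoots_pi K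
    have h1 : HasRoots B := hasRoots_integralClosure A B0 h0
    have h2 : HasRoots (B ⧸ Q) :=
      hasRoots_of_surjective (Ideal.Quotient.mk Q) Ideal.Quotient.mk_surjective h1
    exact isAlgClosed_of_hasRoots (B ⧸ Q) Q.ResidueField h2

open AlgebraicGeometry CategoryTheory CategoryTheory.Limits

theorem isAlgClosed_residueField_Spec (B : CommRingCat.{u}) (x : Spec B)
    [IsAlgClosed x.asIdeal.ResidueField] : IsAlgClosed ((Spec B).residueField x) :=
  IsAlgClosed.of_ringEquiv _ _ (Scheme.Spec.residueFieldIso B x).symm.commRingCatIsoToRingEquiv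

/-- evaluation `B → κ(x')` -/
noncomputable def ev (B : CommRingCat.{u}) (x' : Spec B) : B ⟶ (Spec B).residueField x' :=
  (Scheme.ΓSpecIso B).inv ≫ (Spec B).Γevaluation x'

theorem ev_eq (B : CommRingCat.{u}) (x' : Spec B) :
    ev B x' = CommRingCat.ofHom (algebraMap B x'.asIdeal.ResidueField) ≫
      (Scheme.Spec.residueFieldIso B x').inv := by
  rw [Scheme.Spec.algebraMap_residueFieldIso_inv]; rfl

theorem exists_ev_div (B : CommRingCat.{u}) (x' : Spec B) (z : (Spec B).residueField x') :
    ∃ b s : B, z = (ev B x').hom b * ((ev B x').hom s)⁻¹ := by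
  obtain ⟨w, rfl⟩ : ∃ w, (Scheme.Spec.residueFieldIso B x').inv.hom w = z :=
    ⟨(Scheme.Spec.residueFieldIso B x').hom.hom z, by
      rw [← CommRingCat.comp_apply, Iso.hom_inv_id]; rfl⟩
  obtain ⟨a, c, -, rfl⟩ := IsFractionRing.div_surjective (A := B ⧸ x'.asIdeal) w
  obtain ⟨b, rfl⟩ := Ideal.Quotient.mk_surjective a
  obtain ⟨s, rfl⟩ := Ideal.Quotient.mk_surjective c
  refine ⟨b, s, ?_⟩
  rw [ev_eq, map_div₀, div_eq_mul_inv]
  rfl

theorem ev_naturality {A B : CommRingCat.{u}} (φ : A ⟶ B) (x' : Spec B) :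
    φ ≫ ev B x' = ev A ((Spec.map φ) x') ≫ (Spec.map φ).residueFieldMap x' := by
  unfold ev
  rw [Category.assoc, Scheme.Γevaluation_naturality, ← Category.assoc, ← Category.assoc,
    Scheme.ΓSpecIso_inv_naturality]

theorem residueFieldMap_isIntegral {A B : CommRingCat.{u}} (φ : A ⟶ B) (hφ : φ.hom.IsIntegral)
    (x' : Spec B) : ((Spec.map φ).residueFieldMap x').hom.IsIntegral := by
  set ρ := ((Spec.map φ).residueFieldMap x').hom with hρ
  have hnat : ∀ a, (ev B x').hom (φ.hom a) = ρ ((ev A ((Spec.map φ) x')).hom a) := by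
    intro a
    have := congrArg (fun t => t.hom a) (ev_naturality φ x')
    exact this
  have h1 : ∀ b : B, ρ.IsIntegralElem ((ev B x').hom b) := by
    intro b
    obtain ⟨P, hP, hPb⟩ := hφ b
    refine ⟨P.map (ev A ((Spec.map φ) x')).hom, hP.map _, ?_⟩
    rw [Polynomial.eval₂_map]
    have : ρ.comp (ev A ((Spec.map φ) x')).hom = (ev B x').hom.comp φ.hom := by
      ext a; exact (hnat a).symm
    rw [this, ← Polynomial.hom_eval₂, hPb, map_zero]
  intro z
  obtain ⟨b, s, rfl⟩ := exists_ev_div B x' z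
  letI := ρ.toAlgebra
  have hb : IsIntegral ((Spec A).residueField ((Spec.map φ) x')) ((ev B x').hom b) := h1 b
  have hs : IsIntegral ((Spec A).residueField ((Spec.map φ) x')) ((ev B x').hom s) := h1 s
  exact hb.mul hs.inv

section
variable {ι : Type u} (g : ι → Scheme.{u}) {X : Scheme.{u}} (α : ∀ i, g i ⟶ X)
  [∀ i, IsOpenImmersion (α i)]

theorem isIso_residueFieldMap_sigmaDesc (z : (∐ g : Scheme.{u})) :
    IsIso ((Sigma.desc α).residueFieldMap z) := by
  obtain ⟨⟨j, w⟩, rfl⟩ := (sigmaMk g).surjective z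
  rw [sigmaMk_mk]
  have h1 := Scheme.Hom.residueFieldMap_congr (Sigma.ι_desc α j) w
  rw [Scheme.residueFieldMap_comp] at h1
  have h2 : IsIso ((Sigma.desc α).residueFieldMap ((Sigma.ι g j) w) ≫
      (Sigma.ι g j).residueFieldMap w) := by
    rw [h1]; exact IsIso.comp_isIso
  exact IsIso.of_isIso_comp_right _ ((Sigma.ι g j).residueFieldMap w)

end

theorem isIso_residueFieldMap_comp_sigmaDesc {ι : Type u} (g : ι → Scheme.{u}) {X : Scheme.{u}}
    (α : ∀ i, g i ⟶ X) [∀ i, IsOpenImmersion (α i)] {Z : Scheme.{u}} (e : Z ⟶ (∐ g : Scheme.{u}))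
    [IsIso e] (z : Z) : IsIso ((e ≫ Sigma.desc α).residueFieldMap z) := by
  rw [Scheme.residueFieldMap_comp]
  exact IsIso.comp_isIso' (isIso_residueFieldMap_sigmaDesc g α (e z)) inferInstance

theorem isIntegral_residueFieldMap_comp {X Y Z : Scheme.{u}} (f : X ⟶ Y) (g : Y ⟶ Z) (x : X)
    (h1 : (f.residueFieldMap x).hom.IsIntegral) (h2 : IsIso (g.residueFieldMap (f x))) :
    ((f ≫ g).residueFieldMap x).hom.IsIntegral := by
  rw [Scheme.residueFieldMap_comp]
  have h3 : (g.residueFieldMap (f x)).hom.IsIntegral := by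
    apply RingHom.isIntegral_of_surjective
    exact ((ConcreteCategory.isIso_iff_bijective _).mp h2).2
  exact RingHom.IsIntegral.trans (g.residueFieldMap (f x)).hom (f.residueFieldMap x).hom h3 h1

theorem exists_algClosed_cover (X : Scheme.{u}) [CompactSpace X] [QuasiSeparatedSpace X] :
    ∃ (X' : Scheme.{u}) (f : X' ⟶ X), IsAffine X' ∧ QuasiCompact f ∧ Surjective f ∧
      ∀ x' : X', IsAlgClosed (X'.residueField x') ∧ (f.residueFieldMap x').hom.IsIntegral := by
  obtain ⟨B, _, _, hint, hsurj, hac⟩ :=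
    exists_integral_algClosed Γ((∐ X.affineCover.finiteSubcover.X : Scheme.{u}), ⊤)
  haveI : Surjective (Spec.map (CommRingCat.ofHom (algebraMap
      Γ((∐ X.affineCover.finiteSubcover.X : Scheme.{u}), ⊤) B))) := by
    refine ⟨fun y => ?_⟩
    obtain ⟨Q, hQ, hQP⟩ := hsurj y.asIdeal y.isPrime
    refine ⟨⟨Q, hQ⟩, ?_⟩
    apply PrimeSpectrum.ext
    exact hQP
  refine ⟨Spec (.of B), Spec.map (CommRingCat.ofHom (algebraMap
      Γ((∐ X.affineCover.finiteSubcover.X : Scheme.{u}), ⊤) B)) ≫
      ((∐ X.affineCover.finiteSubcover.X : Scheme.{u}).isoSpec.inv ≫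
        Sigma.desc X.affineCover.finiteSubcover.f), inferInstance, inferInstance, inferInstance, ?_⟩
  intro x'
  haveI : IsAlgClosed x'.asIdeal.ResidueField := hac x'.asIdeal
  refine ⟨isAlgClosed_residueField_Spec _ x', ?_⟩
  apply isIntegral_residueFieldMap_comp
  · exact residueFieldMap_isIntegral (CommRingCat.ofHom (algebraMap
      Γ((∐ X.affineCover.finiteSubcover.X : Scheme.{u}), ⊤) B)) (fun b => hint.isIntegral b) x'
  · exact isIso_residueFieldMap_comp_sigmaDesc _ _ _ _

end Groth.Agent.Lib.AlgClosedCoverH8
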