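import Mathlib

/-!
# Birational schemes and stalks at generic points (helper7)
-/

set_option autoImplicit false
universe u
open AlgebraicGeometry CategoryTheory

namespace Groth.Agent.Lib.BiratStalkH7

theorem exists_stalkHom {X : Scheme.{u}} {R : CommRingCat.{u}} [IsLocalRing R] (ψ : Spec R ⟶ X)
    (x : X) (hx : ψ (IsLocalRing.closedPoint R) = x) :
    ∃ θ : X.presheaf.stalk x ⟶ R, Spec.map θ ≫ X.fromSpecStalk x = ψ := by
  subst hx
  exact ⟨Scheme.stalkClosedPointTo ψ, Scheme.Spec_stalkClosedPointTo_fromSpecStalk ψ⟩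

theorem eqToHom_eq_stalkSpecializes {S : Scheme.{u}} {a b : S} (h : a = b) :
    eqToHom (congrArg S.presheaf.stalk h) =
      S.presheaf.stalkSpecializes (Inseparable.of_eq h.symm).specializes := by
  subst h; simp

theorem fromSpecStalkOfMem_closedPoint {X : Scheme.{u}} (U : X.Opens) (x : X) (hx : x ∈ U) :
    U.fromSpecStalkOfMem x hx (IsLocalRing.closedPoint _) = ⟨x, hx⟩ := by
  apply Subtype.ext
  have := congr($(U.fromSpecStalkOfMem_ι x hx) (IsLocalRing.closedPoint _))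
  rw [Scheme.Hom.comp_apply, Scheme.fromSpecStalk_closedPoint] at this
  exact this

/-- An isomorphism between open subschemes, compatible with structure maps, matching `x` and `y`,
induces a compatible isomorphism of local rings. -/
theorem exists_stalkIso_of_iso {X Y S : Scheme.{u}} (sX : X ⟶ S) (sY : Y ⟶ S)
    (U : X.Opens) (V : Y.Opens) (i : U.toScheme ≅ V.toScheme)
    (hi : i.hom ≫ V.ι ≫ sY = U.ι ≫ sX) (x : X) (hxU : x ∈ U) (y : Y) (hyV : y ∈ V)
    (hxy : i.hom ⟨x, hxU⟩ = ⟨y, hyV⟩) :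
    ∃ (hs : sX x = sY y) (e : X.presheaf.stalk x ≅ Y.presheaf.stalk y),
      sX.stalkMap x ≫ e.hom = eqToHom (congrArg S.presheaf.stalk hs) ≫ sY.stalkMap y ∧
      Spec.map e.hom ≫ X.fromSpecStalk x = V.fromSpecStalkOfMem y hyV ≫ i.inv ≫ U.ι ∧
      Spec.map e.inv ≫ Y.fromSpecStalk y = U.fromSpecStalkOfMem x hxU ≫ i.hom ≫ V.ι := by
  have hyx : i.inv ⟨y, hyV⟩ = ⟨x, hxU⟩ := by
    rw [← hxy]
    show (i.hom ≫ i.inv) ⟨x, hxU⟩ = _
    rw [Iso.hom_inv_id]; rfl
  have hs : sX x = sY y := by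
    have h1 := congr($hi ⟨x, hxU⟩)
    simp only [Scheme.Hom.comp_apply] at h1
    rw [hxy] at h1
    exact h1.symm
  obtain ⟨θ₁, hθ₁⟩ := exists_stalkHom (U.fromSpecStalkOfMem x hxU ≫ i.hom ≫ V.ι) y (by
    simp only [Scheme.Hom.comp_apply]
    rw [fromSpecStalkOfMem_closedPoint, hxy]; rfl)
  obtain ⟨θ₂, hθ₂⟩ := exists_stalkHom (V.fromSpecStalkOfMem y hyV ≫ i.inv ≫ U.ι) x (by
    simp only [Scheme.Hom.comp_apply]
    rw [fromSpecStalkOfMem_closedPoint, hyx]; rfl)
  have h1 : Spec.map θ₁ ≫ V.fromSpecStalkOfMem y hyV = U.fromSpecStalkOfMem x hxU ≫ i.hom := by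
    rw [← cancel_mono V.ι, Category.assoc, Scheme.Opens.fromSpecStalkOfMem_ι, hθ₁, Category.assoc]
  have h2 : Spec.map θ₂ ≫ U.fromSpecStalkOfMem x hxU = V.fromSpecStalkOfMem y hyV ≫ i.inv := by
    rw [← cancel_mono U.ι, Category.assoc, Scheme.Opens.fromSpecStalkOfMem_ι, hθ₂, Category.assoc]
  have h12 : θ₂ ≫ θ₁ = 𝟙 _ := by
    apply Spec.map_injective
    rw [← cancel_mono (X.fromSpecStalk x), Spec.map_comp, Category.assoc, hθ₂, ← Category.assoc,
      h1, Category.assoc, Iso.hom_inv_id_assoc, Scheme.Opens.fromSpecStalkOfMem_ι, Spec.map_id,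
      Category.id_comp]
  have h21 : θ₁ ≫ θ₂ = 𝟙 _ := by
    apply Spec.map_injective
    rw [← cancel_mono (Y.fromSpecStalk y), Spec.map_comp, Category.assoc, hθ₁, ← Category.assoc,
      h2, Category.assoc, Iso.inv_hom_id_assoc, Scheme.Opens.fromSpecStalkOfMem_ι, Spec.map_id,
      Category.id_comp]
  refine ⟨hs, ⟨θ₂, θ₁, h12, h21⟩, ?_, hθ₂, hθ₁⟩
  rw [eqToHom_eq_stalkSpecializes hs]
  apply Spec.map_injective
  rw [← cancel_mono (S.fromSpecStalk (sX x))]
  simp only [Spec.map_comp, Category.assoc]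
  rw [Scheme.SpecMap_stalkMap_fromSpecStalk, reassoc_of% hθ₂,
    Scheme.SpecMap_stalkSpecializes_fromSpecStalk, Scheme.SpecMap_stalkMap_fromSpecStalk]
  rw [← hi, Iso.inv_hom_id_assoc, Scheme.Opens.fromSpecStalkOfMem_ι_assoc]

/-- A partial isomorphism between irreducible schemes matches the generic points. -/
theorem partialIso_generic {X Y : Scheme.{u}} [IrreducibleSpace X] [IrreducibleSpace Y]
    (p : X.PartialIso Y) :
    ∃ (hξU : genericPoint X ∈ p.source) (hξV : genericPoint Y ∈ p.target),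
      p.iso.hom ⟨genericPoint X, hξU⟩ = ⟨genericPoint Y, hξV⟩ := by
  obtain ⟨u, hu⟩ := p.dense_source.nonempty
  have hξU : genericPoint X ∈ p.source := (genericPoint_specializes u).mem_open p.source.2 hu
  obtain ⟨v, hv⟩ := p.dense_target.nonempty
  have hξV : genericPoint Y ∈ p.target := (genericPoint_specializes v).mem_open p.target.2 hv
  refine ⟨hξU, hξV, ?_⟩
  obtain ⟨η, hηdef⟩ : ∃ η : p.source.toScheme, η = ⟨genericPoint X, hξU⟩ := ⟨_, rfl⟩
  rw [← hηdef]
  have hη : ∀ w : p.source.toScheme, η ⤳ w := by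
    intro w
    rw [← p.source.ι.isOpenEmbedding.isInducing.specializes_iff, hηdef]
    exact genericPoint_specializes _
  have hq : ∀ y : Y, (p.iso.hom ≫ p.target.ι) η ⤳ y := by
    intro y
    rw [specializes_iff_mem_closure]
    have hsub : (p.target : Set Y) ⊆ closure {(p.iso.hom ≫ p.target.ι) η} := by
      intro v hv
      have hv' : (p.iso.hom ≫ p.target.ι) (p.iso.inv ⟨v, hv⟩) = v := by
        show (p.iso.inv ≫ p.iso.hom ≫ p.target.ι) ⟨v, hv⟩ = v
        rw [Iso.inv_hom_id_assoc]; rfl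
      rw [← hv']
      exact specializes_iff_mem_closure.mp
        ((hη _).map (p.iso.hom ≫ p.target.ι).continuous)
    exact (closure_minimal hsub isClosed_closure) (p.dense_target y)
  have := ((hq (genericPoint Y)).antisymm (genericPoint_specializes _)).eq
  apply Subtype.ext
  exact this

theorem exists_stalkIso_of_partialIso {X Y S : Scheme.{u}} [IrreducibleSpace X]
    [IrreducibleSpace Y] (sX : X ⟶ S) (sY : Y ⟶ S) (p : X.PartialIso Y) (hp : p.IsOver sX sY) :
    ∃ (hs : sX (genericPoint X) = sY (genericPoint Y))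
      (e : X.presheaf.stalk (genericPoint X) ≅ Y.presheaf.stalk (genericPoint Y)),
      sX.stalkMap (genericPoint X) ≫ e.hom =
        eqToHom (congrArg S.presheaf.stalk hs) ≫ sY.stalkMap (genericPoint Y) := by
  obtain ⟨hξU, hξV, h⟩ := partialIso_generic p
  obtain ⟨hs, e, he, -, -⟩ := exists_stalkIso_of_iso sX sY p.source p.target p.iso hp
    (genericPoint X) hξU (genericPoint Y) hξV h
  exact ⟨hs, e, he⟩

end Groth.Agent.Lib.BiratStalkH7
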