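import Mathlib

set_option autoImplicit false
universe u
open CategoryTheory CategoryTheory.Limits AlgebraicGeometry TopologicalSpace

namespace Groth.Agent.Lib.NormalBiratH7

/-- In an integral scheme, cospecialization maps to the stalk at the generic point are injective. -/
theorem stalkSpecializes_injective {Z : Scheme.{u}} [IsIntegral Z] (z₀ z : Z)
    (h₀ : z₀ = genericPoint Z) (h' : z₀ ⤳ z) :
    Function.Injective (Z.presheaf.stalkSpecializes h').hom := by
  subst h₀
  exact IsFractionRing.injective (Z.presheaf.stalk z) Z.functionField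

/-- Elements of the function field integral over an integrally closed local ring lie in it. -/
theorem exists_of_isIntegralElem {Y : Scheme.{u}} [IsIntegral Y] (y : Y)
    (hy : IsIntegrallyClosed (Y.presheaf.stalk y)) (y₀ : Y) (h : y₀ = genericPoint Y)
    (sp : y₀ ⤳ y) (k : Y.presheaf.stalk y₀)
    (hk : (Y.presheaf.stalkSpecializes sp).hom.IsIntegralElem k) :
    ∃ a, (Y.presheaf.stalkSpecializes sp).hom a = k := by
  subst h
  exact (IsIntegrallyClosed.isIntegral_iff (R := Y.presheaf.stalk y) (K := Y.functionField)).mp hk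

/-- Key step: for an integral birational morphism, germs of sections over the preimage of an
affine open lie in the image of the stalk map at a point over a normal point. -/
theorem germ_mem_range_stalkMap {Z Y : Scheme.{u}} [IsIntegral Z] [IsIntegral Y]
    (g : Z ⟶ Y) [IsIntegralHom g] (z₀ : Z) (hz₀ : z₀ = genericPoint Z)
    (hgen : g z₀ = genericPoint Y) (hbir : IsIso (g.stalkMap z₀))
    (z : Z) (hy : IsIntegrallyClosed (Y.presheaf.stalk (g z)))
    (V : Y.Opens) (hV : IsAffineOpen V) (hzV : g z ∈ V) (b : Γ(Z, g ⁻¹ᵁ V)) :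
    ∃ a : Y.presheaf.stalk (g z),
      (g.stalkMap z).hom a = (Z.presheaf.germ (g ⁻¹ᵁ V) z hzV).hom b := by
  have spZ : z₀ ⤳ z := by rw [hz₀]; exact genericPoint_specializes z
  have spY : g z₀ ⤳ g z := spZ.map g.continuous
  have hz₀V : g z₀ ∈ V := spY.mem_open V.2 hzV
  have hσ : Function.Bijective (g.stalkMap z₀).hom := ConcreteCategory.bijective_of_isIso _
  obtain ⟨k, hk⟩ := hσ.2 ((Z.presheaf.germ (g ⁻¹ᵁ V) z₀ hz₀V).hom b)
  have hcomp : (g.stalkMap z₀).hom.comp ((Y.presheaf.stalkSpecializes spY).hom.comp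
      (Y.presheaf.germ V (g z) hzV).hom) =
      (Z.presheaf.germ (g ⁻¹ᵁ V) z₀ hz₀V).hom.comp (g.app V).hom := by
    ext a
    simp only [RingHom.comp_apply]
    have h1 : (Y.presheaf.stalkSpecializes spY).hom ((Y.presheaf.germ V (g z) hzV).hom a) =
        (Y.presheaf.germ V (g z₀) hz₀V).hom a := by
      rw [← CommRingCat.comp_apply, TopCat.Presheaf.germ_stalkSpecializes]
    rw [h1]
    exact Scheme.Hom.germ_stalkMap_apply g V z₀ hz₀V a
  have hint : (Y.presheaf.stalkSpecializes spY).hom.IsIntegralElem k := by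
    obtain ⟨p, hp, hpb⟩ := g.isIntegral_app V hV b
    refine ⟨p.map (Y.presheaf.germ V (g z) hzV).hom, hp.map _, ?_⟩
    apply hσ.1
    rw [map_zero, Polynomial.eval₂_map, Polynomial.hom_eval₂, hk, hcomp, ← Polynomial.hom_eval₂,
      hpb, map_zero]
  obtain ⟨a, ha⟩ := exists_of_isIntegralElem (g z) hy (g z₀) hgen spY k hint
  refine ⟨a, ?_⟩
  apply stalkSpecializes_injective z₀ z hz₀ spZ
  have h2 := Scheme.Hom.stalkSpecializes_stalkMap_apply g z₀ z spZ a
  have h3 : (Z.presheaf.stalkSpecializes spZ).hom ((Z.presheaf.germ (g ⁻¹ᵁ V) z hzV).hom b) =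
      (Z.presheaf.germ (g ⁻¹ᵁ V) z₀ hz₀V).hom b := by
    rw [← CommRingCat.comp_apply, TopCat.Presheaf.germ_stalkSpecializes]
  rw [h3, ← hk, ← ha]
  exact h2.symm

/-- **Local form**: an integral birational morphism of integral schemes induces an isomorphism
on stalks at every point lying over a normal point. -/
theorem isIso_stalkMap_of_isIntegrallyClosed {Z Y : Scheme.{u}} [IsIntegral Z] [IsIntegral Y]
    (g : Z ⟶ Y) [IsIntegralHom g] (z₀ : Z) (hz₀ : z₀ = genericPoint Z)
    (hgen : g z₀ = genericPoint Y) (hbir : IsIso (g.stalkMap z₀))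
    (z : Z) (hy : IsIntegrallyClosed (Y.presheaf.stalk (g z))) :
    IsIso (g.stalkMap z) := by
  have spZ : z₀ ⤳ z := by rw [hz₀]; exact genericPoint_specializes z
  have spY : g z₀ ⤳ g z := spZ.map g.continuous
  have hσ : Function.Bijective (g.stalkMap z₀).hom := ConcreteCategory.bijective_of_isIso _
  rw [ConcreteCategory.isIso_iff_bijective]
  constructor
  · intro a a' haa'
    apply stalkSpecializes_injective (g z₀) (g z) hgen spY
    apply hσ.1
    have h2 := Scheme.Hom.stalkSpecializes_stalkMap_apply g z₀ z spZ a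
    have h2' := Scheme.Hom.stalkSpecializes_stalkMap_apply g z₀ z spZ a'
    exact h2.trans ((congrArg _ haa').trans h2'.symm)
  · intro w
    obtain ⟨_, ⟨V, hV, rfl⟩, hzV, -⟩ :=
      Y.isBasis_affineOpens.exists_subset_of_mem_open (Set.mem_univ (g z)) isOpen_univ
    have hW : IsAffineOpen (g ⁻¹ᵁ V) := hV.preimage g
    have hzW : z ∈ g ⁻¹ᵁ V := hzV
    letI := Z.presheaf.algebra_section_stalk (U := g ⁻¹ᵁ V) ⟨z, hzW⟩
    haveI := hW.isLocalization_stalk ⟨z, hzW⟩
    obtain ⟨⟨b, c⟩, hbc⟩ := IsLocalization.surj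
      (hW.primeIdealOf ⟨z, hzW⟩).asIdeal.primeCompl w
    have hc : IsUnit (algebraMap Γ(Z, g ⁻¹ᵁ V) (Z.presheaf.stalk z) c) :=
      IsLocalization.map_units _ c
    obtain ⟨ab, hab⟩ := germ_mem_range_stalkMap g z₀ hz₀ hgen hbir z hy V hV hzV b
    obtain ⟨ac, hac⟩ := germ_mem_range_stalkMap g z₀ hz₀ hgen hbir z hy V hV hzV c
    have hc' : IsUnit ((g.stalkMap z).hom ac) := by rw [hac]; exact hc
    have huc : IsUnit ac := isUnit_of_map_unit (g.stalkMap z).hom ac hc'
    obtain ⟨uc, rfl⟩ := huc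
    refine ⟨ab * ↑uc⁻¹, ?_⟩
    apply hc'.mul_left_injective
    change (g.stalkMap z).hom (ab * ↑uc⁻¹) * (g.stalkMap z).hom ↑uc = w * (g.stalkMap z).hom ↑uc
    rw [← map_mul, mul_assoc, Units.inv_mul, mul_one, hab, hac]
    exact hbc.symm

/-- **Local form, fibres**: an integral birational morphism of integral schemes has at most one
point over a normal point. -/
theorem eq_of_isIntegrallyClosed {Z Y : Scheme.{u}} [IsIntegral Z] [IsIntegral Y]
    (g : Z ⟶ Y) [IsIntegralHom g] (z₀ : Z) (hz₀ : z₀ = genericPoint Z)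
    (hgen : g z₀ = genericPoint Y) (hbir : IsIso (g.stalkMap z₀))
    (z z' : Z) (hy : IsIntegrallyClosed (Y.presheaf.stalk (g z))) (hzz' : g z = g z') :
    z = z' := by
  have hσ : Function.Bijective (g.stalkMap z₀).hom := ConcreteCategory.bijective_of_isIso _
  -- a characterization of membership in basic opens that only depends on the image point
  have key : ∀ (y : Y) (hyy : IsIntegrallyClosed (Y.presheaf.stalk y)) (sp : g z₀ ⤳ y)
      (V : Y.Opens) (hV : IsAffineOpen V) (hyV : y ∈ V) (b : Γ(Z, g ⁻¹ᵁ V))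
      (k : Y.presheaf.stalk (g z₀))
      (hk : (g.stalkMap z₀).hom k =
        (Z.presheaf.germ (g ⁻¹ᵁ V) z₀ (sp.mem_open V.2 hyV)).hom b)
      (t : Z) (ht : g t = y),
      (t ∈ Z.basicOpen b ↔ ∃ a : Y.presheaf.stalk y, IsUnit a ∧
        (Y.presheaf.stalkSpecializes sp).hom a = k) := by
    intro y hyy sp V hV hyV b k hk t ht
    subst ht
    have spZ : z₀ ⤳ t := by rw [hz₀]; exact genericPoint_specializes t
    haveI := isIso_stalkMap_of_isIntegrallyClosed g z₀ hz₀ hgen hbir t hyy
    obtain ⟨a, ha⟩ := germ_mem_range_stalkMap g z₀ hz₀ hgen hbir t hyy V hV hyV b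
    have hak : (Y.presheaf.stalkSpecializes sp).hom a = k := by
      apply hσ.1
      have h2 := Scheme.Hom.stalkSpecializes_stalkMap_apply g z₀ t spZ a
      have h3 : (Z.presheaf.stalkSpecializes spZ).hom
          ((Z.presheaf.germ (g ⁻¹ᵁ V) t hyV).hom b) =
          (Z.presheaf.germ (g ⁻¹ᵁ V) z₀ (sp.mem_open V.2 hyV)).hom b := by
        rw [← CommRingCat.comp_apply, TopCat.Presheaf.germ_stalkSpecializes]
      rw [hk, ← h3, ← ha]
      exact h2
    rw [Scheme.mem_basicOpen Z b t hyV]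
    constructor
    · intro hu
      have hu' : IsUnit ((g.stalkMap t).hom a) := by rw [ha]; exact hu
      exact ⟨a, isUnit_of_map_unit (g.stalkMap t).hom a hu', hak⟩
    · rintro ⟨a', ha'u, ha'k⟩
      have : a' = a := by
        apply stalkSpecializes_injective (g z₀) (g t) hgen sp
        rw [ha'k, hak]
      subst this
      have := ha'u.map (g.stalkMap t).hom
      rw [ha] at this
      exact this
  have spZ : z₀ ⤳ z := by rw [hz₀]; exact genericPoint_specializes z
  have spY : g z₀ ⤳ g z := spZ.map g.continuous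
  obtain ⟨_, ⟨V, hV, rfl⟩, hzV, -⟩ :=
    Y.isBasis_affineOpens.exists_subset_of_mem_open (Set.mem_univ (g z)) isOpen_univ
  have hW : IsAffineOpen (g ⁻¹ᵁ V) := hV.preimage g
  have hz'V : z' ∈ g ⁻¹ᵁ V := by
    change g z' ∈ V
    rw [← hzz']; exact hzV
  have hiff : ∀ b : Γ(Z, g ⁻¹ᵁ V), z ∈ Z.basicOpen b ↔ z' ∈ Z.basicOpen b := by
    intro b
    obtain ⟨k, hk⟩ := hσ.2 ((Z.presheaf.germ (g ⁻¹ᵁ V) z₀ (spY.mem_open V.2 hzV)).hom b)
    rw [key (g z) hy spY V hV hzV b k hk z rfl, key (g z) hy spY V hV hzV b k hk z' hzz'.symm]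
  apply Inseparable.eq
  rw [inseparable_iff_forall_isOpen]
  intro O hO
  constructor
  · intro hzO
    obtain ⟨b, hbO, hzb⟩ := hW.exists_basicOpen_le (V := ⟨O, hO⟩) ⟨z, hzO⟩ hzV
    exact hbO ((hiff b).mp hzb)
  · intro hz'O
    obtain ⟨b, hbO, hzb⟩ := hW.exists_basicOpen_le (V := ⟨O, hO⟩) ⟨z', hz'O⟩ hz'V
    exact hbO ((hiff b).mpr hzb)

/-- **Global form**: an integral birational morphism from an integral scheme onto a normal
integral scheme is an isomorphism. -/
theorem isIso_of_isIntegralHom_of_birational {Z Y : Scheme.{u}} [IsIntegral Z] [IsIntegral Y]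
    (hN : ∀ y : Y, IsIntegrallyClosed (Y.presheaf.stalk y))
    (g : Z ⟶ Y) [IsIntegralHom g] (z₀ : Z) (hz₀ : z₀ = genericPoint Z)
    (hgen : g z₀ = genericPoint Y) (hbir : IsIso (g.stalkMap z₀)) : IsIso g := by
  have hstalk : ∀ z : Z, IsIso (g.stalkMap z) := fun z =>
    isIso_stalkMap_of_isIntegrallyClosed g z₀ hz₀ hgen hbir z (hN _)
  have hinj : Function.Injective g := fun z z' h =>
    eq_of_isIntegrallyClosed g z₀ hz₀ hgen hbir z z' (hN _) h
  have hclosed : IsClosedMap g := g.isClosedMap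
  have hsurj : Function.Surjective g := by
    have hr : IsClosed (Set.range g) := hclosed.isClosed_range
    have hmem : genericPoint Y ∈ Set.range g := ⟨z₀, hgen⟩
    intro y
    have : genericPoint Y ⤳ y := genericPoint_specializes y
    exact this.mem_closed hr hmem
  have hhomeo : IsHomeomorph g :=
    isHomeomorph_iff_continuous_isClosedMap_bijective.mpr ⟨g.continuous, hclosed, hinj, hsurj⟩
  haveI : IsOpenImmersion g := IsOpenImmersion.of_isIso_stalkMap g hhomeo.isOpenEmbedding
  haveI : Surjective g := ⟨hsurj⟩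
  exact (isIso_iff_isOpenImmersion_and_surjective g).mpr ⟨inferInstance, inferInstance⟩

end Groth.Agent.Lib.NormalBiratH7
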