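import Mathlib
import Groth.Agent.Lib.NormalBirat_helper7
import Groth.Agent.Lib.BiratStalk_helper7

set_option autoImplicit false
universe u
open CategoryTheory CategoryTheory.Limits AlgebraicGeometry TopologicalSpace

namespace Groth.Agent.Lib.PushforwardNormalH7

/-- An element integral over the range of a ring hom is integral for that ring hom. -/
theorem isIntegralElem_of_isIntegral_range {A K : Type*} [CommRing A] [CommRing K] [Nontrivial K]
    (φ : A →+* K) (x : K) (hx : IsIntegral φ.range x) : φ.IsIntegralElem x := by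
  obtain ⟨p, hp, hpx⟩ := hx
  have hlifts : p ∈ Polynomial.lifts φ.rangeRestrict := by
    rw [Polynomial.lifts_iff_coeff_lifts]
    intro n
    obtain ⟨a, ha⟩ := (p.coeff n).2
    exact ⟨a, Subtype.ext ha⟩
  obtain ⟨q, hq, -, hqm⟩ := Polynomial.lifts_and_degree_eq_and_monic hlifts hp
  refine ⟨q, hqm, ?_⟩
  have h1 : φ = (φ.range.subtype).comp φ.rangeRestrict := rfl
  rw [h1, ← Polynomial.eval₂_map, hq]
  exact hpx

theorem isIntegral_subring_congr {K : Type*} [CommRing K] {T T' : Subring K} (h : T = T') (x : K)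
    (hx : IsIntegral T x) : IsIntegral T' x := by
  subst h; exact hx

/-- Sections over a nonempty affine open of an integral scheme with integrally closed stalks form
an integrally closed domain. -/
theorem isIntegrallyClosed_of_stalks {Y : Scheme.{u}} [IsIntegral Y]
    (hN : ∀ y : Y, IsIntegrallyClosed (Y.presheaf.stalk y)) {V : Y.Opens} (hV : IsAffineOpen V)
    [Nonempty V] : IsIntegrallyClosed Γ(Y, V) := by
  apply IsIntegrallyClosed.of_localization_maximal
  intro P _ hP
  have hy : hV.fromSpec ⟨P, hP.isPrime⟩ ∈ V := by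
    have := hV.range_fromSpec
    rw [← SetLike.mem_coe, ← this]
    exact ⟨_, rfl⟩
  letI := TopCat.Presheaf.algebra_section_stalk Y.presheaf ⟨hV.fromSpec ⟨P, hP.isPrime⟩, hy⟩
  haveI hloc : IsLocalization P.primeCompl (Y.presheaf.stalk (hV.fromSpec ⟨P, hP.isPrime⟩)) :=
    hV.isLocalization_stalk' ⟨P, hP.isPrime⟩ hy
  haveI := hN (hV.fromSpec ⟨P, hP.isPrime⟩)
  exact IsIntegrallyClosed.of_equiv (IsLocalization.algEquiv P.primeCompl
    (Y.presheaf.stalk (hV.fromSpec ⟨P, hP.isPrime⟩)) (Localization.AtPrime P)).toRingEquiv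

/-- Valuative step: if `f` satisfies the existence part of the valuative criterion, then sections
of `X` over the preimage of an affine open `V` lie in every valuation ring of the function field
of `X` which contains the image of `Γ(Y, V)`. -/
theorem germ_mem_valuationSubring {X Y : Scheme.{u}} [IsIntegral X] (f : X ⟶ Y)
    (hex : ValuativeCriterion.Existence f) (V : Y.Opens) (hV : IsAffineOpen V)
    (hξV : f (genericPoint X) ∈ V) (W : ValuationSubring X.functionField)
    (hW : ∀ a : Γ(Y, V),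
      (X.presheaf.germ (f ⁻¹ᵁ V) (genericPoint X) hξV).hom ((f.app V).hom a) ∈ W)
    (b : Γ(X, f ⁻¹ᵁ V)) :
    (X.presheaf.germ (f ⁻¹ᵁ V) (genericPoint X) hξV).hom b ∈ W := by
  obtain ⟨ρ, hρ⟩ : ∃ ρ : Γ(Y, V) →+* W,
      ρ = ((X.presheaf.germ (f ⁻¹ᵁ V) (genericPoint X) hξV).hom.comp
        (f.app V).hom).codRestrict W hW := ⟨_, rfl⟩
  have hρval : ∀ a, ((ρ a : W) : X.functionField) =
      (X.presheaf.germ (f ⁻¹ᵁ V) (genericPoint X) hξV).hom ((f.app V).hom a) := fun a => by
    rw [hρ]; rfl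
  have hsq : X.fromSpecStalk (genericPoint X) ≫ f =
      Spec.map (CommRingCat.ofHom (algebraMap W X.functionField)) ≫
        (Spec.map (CommRingCat.ofHom ρ) ≫ hV.fromSpec) := by
    have e1 : CommRingCat.ofHom ρ ≫ CommRingCat.ofHom (algebraMap W X.functionField) =
        Y.presheaf.germ V (f (genericPoint X)) hξV ≫ f.stalkMap (genericPoint X) := by
      rw [Scheme.Hom.germ_stalkMap]
      ext a
      exact hρval a
    rw [← Scheme.SpecMap_stalkMap_fromSpecStalk, ← hV.fromSpecStalk_eq_fromSpecStalk hξV,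
      IsAffineOpen.fromSpecStalk, ← Category.assoc, ← Spec.map_comp, ← Category.assoc,
      ← Spec.map_comp, e1]
  let S : ValuativeCommSq f :=
    { R := W
      K := X.functionField
      i₁ := X.fromSpecStalk (genericPoint X)
      i₂ := Spec.map (CommRingCat.ofHom ρ) ≫ hV.fromSpec
      commSq := ⟨hsq⟩ }
  obtain ⟨⟨ℓ, hℓ₁, hℓ₂⟩⟩ := (hex S).exists_lift
  change Spec.map (CommRingCat.ofHom (algebraMap W X.functionField)) ≫ ℓ =
    X.fromSpecStalk (genericPoint X) at hℓ₁
  change ℓ ≫ f = Spec.map (CommRingCat.ofHom ρ) ≫ hV.fromSpec at hℓ₂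
  obtain ⟨x, hx⟩ : ∃ x : X, ℓ (IsLocalRing.closedPoint W) = x := ⟨_, rfl⟩
  have hxV : x ∈ f ⁻¹ᵁ V := by
    change f x ∈ V
    rw [← hx, ← Scheme.Hom.comp_apply, hℓ₂, Scheme.Hom.comp_apply, ← SetLike.mem_coe,
      ← hV.range_fromSpec]
    exact ⟨_, rfl⟩
  obtain ⟨θ, hθ⟩ := Groth.Agent.Lib.BiratStalkH7.exists_stalkHom (R := .of W) ℓ x hx
  have spX : genericPoint X ⤳ x := genericPoint_specializes x
  have e2 : θ ≫ CommRingCat.ofHom (algebraMap W X.functionField) =
      X.presheaf.stalkSpecializes spX := by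
    apply Spec.map_injective
    rw [← cancel_mono (X.fromSpecStalk x), Spec.map_comp, Category.assoc, hθ, hℓ₁,
      Scheme.SpecMap_stalkSpecializes_fromSpecStalk]
  have e3 : ((θ.hom ((X.presheaf.germ (f ⁻¹ᵁ V) x hxV).hom b) : W) : X.functionField) =
      (X.presheaf.germ (f ⁻¹ᵁ V) (genericPoint X) hξV).hom b := by
    have h1 := congrArg (fun m => m.hom ((X.presheaf.germ (f ⁻¹ᵁ V) x hxV).hom b)) e2
    refine h1.trans ?_
    change (X.presheaf.stalkSpecializes spX).hom ((X.presheaf.germ (f ⁻¹ᵁ V) x hxV).hom b) = _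
    rw [← CommRingCat.comp_apply, TopCat.Presheaf.germ_stalkSpecializes]
  rw [← e3]
  exact (θ.hom _).2

/-- Sections over the preimage of an affine open are integral over the sections of the base, for a
morphism from an integral scheme satisfying the existence part of the valuative criterion. -/
theorem isIntegralElem_germ {X Y : Scheme.{u}} [IsIntegral X] (f : X ⟶ Y)
    (hex : ValuativeCriterion.Existence f) (V : Y.Opens) (hV : IsAffineOpen V)
    (hξV : f (genericPoint X) ∈ V) (b : Γ(X, f ⁻¹ᵁ V)) :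
    ((X.presheaf.germ (f ⁻¹ᵁ V) (genericPoint X) hξV).hom.comp (f.app V).hom).IsIntegralElem
      ((X.presheaf.germ (f ⁻¹ᵁ V) (genericPoint X) hξV).hom b) := by
  obtain ⟨φ, hφ⟩ : ∃ φ : Γ(Y, V) →+* X.functionField,
      φ = (X.presheaf.germ (f ⁻¹ᵁ V) (genericPoint X) hξV).hom.comp (f.app V).hom := ⟨_, rfl⟩
  rw [← hφ]
  apply isIntegralElem_of_isIntegral_range
  have hmem : (X.presheaf.germ (f ⁻¹ᵁ V) (genericPoint X) hξV).hom b ∈
      (⨅ W : {W : ValuationSubring X.functionField // Set.range φ ⊆ W.toSubring},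
        W.1.toSubring) := by
    rw [Subring.mem_iInf]
    rintro ⟨W, hW⟩
    apply germ_mem_valuationSubring f hex V hV hξV W
    intro a
    exact hW ⟨a, by rw [hφ]; rfl⟩
  rw [iInf_valuationSubring_superset] at hmem
  have hcl : Subring.closure (Set.range φ) = φ.range := by
    rw [← RingHom.coe_range, Subring.closure_eq]
  exact isIntegral_subring_congr hcl _ hmem

theorem res_res {X : Scheme.{u}} {U V W : X.Opens} (h₁ : V ≤ U) (h₂ : W ≤ V) (s : Γ(X, U)) :
    (X.presheaf.map (homOfLE h₂).op).hom ((X.presheaf.map (homOfLE h₁).op).hom s) =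
      (X.presheaf.map (homOfLE (h₂.trans h₁)).op).hom s := by
  rw [← CommRingCat.comp_apply, ← Functor.map_comp]; rfl

theorem app_res {X Y : Scheme.{u}} (f : X ⟶ Y) {O O' : Y.Opens} (h : O' ≤ O) (a : Γ(Y, O)) :
    (f.app O').hom ((Y.presheaf.map (homOfLE h).op).hom a) =
      (X.presheaf.map (homOfLE (f.preimage_mono h)).op).hom ((f.app O).hom a) := by
  have := f.naturality (homOfLE h).op
  exact congrArg (fun m => m.hom a) this

/-- Key identity relating germs at the generic points. -/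
theorem germ_app_eq {X Y : Scheme.{u}} [IsIntegral X] [IsIntegral Y] (f : X ⟶ Y)
    (hdom : f (genericPoint X) ⤳ genericPoint Y)
    (ι : Y.functionField →+* X.functionField)
    (hι : ι = (f.stalkMap (genericPoint X)).hom.comp (Y.presheaf.stalkSpecializes hdom).hom)
    (O : Y.Opens) (hξO : f (genericPoint X) ∈ O) (hηO : genericPoint Y ∈ O) (a : Γ(Y, O)) :
    (X.presheaf.germ (f ⁻¹ᵁ O) (genericPoint X) hξO).hom ((f.app O).hom a) =
      ι ((Y.presheaf.germ O (genericPoint Y) hηO).hom a) := by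
  rw [hι]
  simp only [RingHom.comp_apply]
  have h1 : (Y.presheaf.stalkSpecializes hdom).hom ((Y.presheaf.germ O (genericPoint Y) hηO).hom a) =
      (Y.presheaf.germ O (f (genericPoint X)) hξO).hom a := by
    rw [← CommRingCat.comp_apply, TopCat.Presheaf.germ_stalkSpecializes]
  rw [h1]
  exact (Scheme.Hom.germ_stalkMap_apply f O (genericPoint X) hξO a).symm

theorem app_injective {X Y : Scheme.{u}} [IsIntegral X] [IsIntegral Y] (f : X ⟶ Y)
    (hdom : f (genericPoint X) ⤳ genericPoint Y) (O : Y.Opens) (hO : (O : Set Y).Nonempty) :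
    Function.Injective (f.app O).hom := by
  obtain ⟨v, hv⟩ := hO
  have hηO : genericPoint Y ∈ O := (genericPoint_specializes v).mem_open O.2 hv
  have hξO : f (genericPoint X) ∈ O := hdom.mem_open O.2 hηO
  intro a a' haa'
  apply germ_injective_of_isIntegral Y (genericPoint Y) hηO
  apply ((f.stalkMap (genericPoint X)).hom.comp
    (Y.presheaf.stalkSpecializes hdom).hom).injective
  rw [← germ_app_eq f hdom _ rfl O hξO hηO a, ← germ_app_eq f hdom _ rfl O hξO hηO a', haa']

theorem app_surjective_of_isAffineOpen {X Y : Scheme.{u}} [IsIntegral X] [IsIntegral Y]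
    (hN : ∀ y : Y, IsIntegrallyClosed (Y.presheaf.stalk y)) (f : X ⟶ Y)
    (hex : ValuativeCriterion.Existence f)
    (hdom : f (genericPoint X) ⤳ genericPoint Y)
    (ι : Y.functionField →+* X.functionField)
    (hι : ι = (f.stalkMap (genericPoint X)).hom.comp (Y.presheaf.stalkSpecializes hdom).hom)
    (halg : ∀ x : X.functionField,
      (∃ p : Polynomial Y.functionField, p ≠ 0 ∧ Polynomial.eval₂ ι x p = 0) → x ∈ Set.range ι)
    (V : Y.Opens) (hV : IsAffineOpen V) (hVne : (V : Set Y).Nonempty) :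
    Function.Surjective (f.app V).hom := by
  intro b
  obtain ⟨v, hv⟩ := hVne
  have hηV : genericPoint Y ∈ V := (genericPoint_specializes v).mem_open V.2 hv
  have hξV : f (genericPoint X) ∈ V := hdom.mem_open V.2 hηV
  haveI : Nonempty V := ⟨⟨v, hv⟩⟩
  obtain ⟨p, hp, hpb⟩ := isIntegralElem_germ f hex V hV hξV b
  have hcomp : (X.presheaf.germ (f ⁻¹ᵁ V) (genericPoint X) hξV).hom.comp (f.app V).hom =
      ι.comp (Y.presheaf.germ V (genericPoint Y) hηV).hom := by
    ext a; exact germ_app_eq f hdom ι hι V hξV hηV a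
  rw [hcomp] at hpb
  obtain ⟨c, hc⟩ := halg _ ⟨p.map (Y.presheaf.germ V (genericPoint Y) hηV).hom,
    (hp.map _).ne_zero, by rw [Polynomial.eval₂_map]; exact hpb⟩
  have hcint : (Y.presheaf.germ V (genericPoint Y) hηV).hom.IsIntegralElem c := by
    refine ⟨p, hp, ?_⟩
    apply ι.injective
    rw [map_zero, Polynomial.hom_eval₂, hc]; exact hpb
  haveI := isIntegrallyClosed_of_stalks hN hV
  haveI := functionField_isFractionRing_of_isAffineOpen Y V hV
  obtain ⟨a, ha⟩ :=
    (IsIntegrallyClosed.isIntegral_iff (R := Γ(Y, V)) (K := Y.functionField)).mp hcint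
  refine ⟨a, ?_⟩
  apply germ_injective_of_isIntegral X (genericPoint X) hξV
  refine (germ_app_eq f hdom ι hι V hξV hηV a).trans ?_
  rw [← hc]
  exact congrArg ι ha

/-- **Main theorem**: for a morphism `f : X ⟶ Y` of integral schemes with `Y` normal, satisfying
the existence part of the valuative criterion, dominant and with the function field of `Y`
algebraically closed in that of `X`, the map `O_Y(V) → O_X(f⁻¹ V)` is an isomorphism for every
open `V`. -/
theorem isIso_app {X Y : Scheme.{u}} [IsIntegral X] [IsIntegral Y]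
    (hN : ∀ y : Y, IsIntegrallyClosed (Y.presheaf.stalk y)) (f : X ⟶ Y)
    (hex : ValuativeCriterion.Existence f)
    (hdom : f (genericPoint X) ⤳ genericPoint Y)
    (ι : Y.functionField →+* X.functionField)
    (hι : ι = (f.stalkMap (genericPoint X)).hom.comp (Y.presheaf.stalkSpecializes hdom).hom)
    (halg : ∀ x : X.functionField,
      (∃ p : Polynomial Y.functionField, p ≠ 0 ∧ Polynomial.eval₂ ι x p = 0) → x ∈ Set.range ι)
    (V : Y.Opens) : IsIso (f.app V) := by
  rw [ConcreteCategory.isIso_iff_bijective]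
  by_cases hVne : (V : Set Y).Nonempty
  swap
  · have hV : V = ⊥ :=
      Opens.ext (by rw [Opens.coe_bot]; exact Set.not_nonempty_iff_eq_empty.mp hVne)
    subst hV
    haveI : Subsingleton Γ(X, f ⁻¹ᵁ ⊥) := inferInstanceAs (Subsingleton Γ(X, ⊥))
    exact ⟨fun a a' _ => Subsingleton.elim _ _, fun b => ⟨0, Subsingleton.elim _ _⟩⟩
  refine ⟨app_injective f hdom V hVne, ?_⟩
  intro b
  obtain ⟨I, hI⟩ : ∃ I : Type u,
      I = {V' : Y.Opens // IsAffineOpen V' ∧ V' ≤ V ∧ (V' : Set Y).Nonempty} := ⟨_, rfl⟩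
  subst hI
  have hcover : V ≤ ⨆ i : {V' : Y.Opens // IsAffineOpen V' ∧ V' ≤ V ∧ (V' : Set Y).Nonempty},
      i.1 := by
    intro y hy
    obtain ⟨_, ⟨(V' : Y.Opens), hV', rfl⟩, hyV', hV'V⟩ :=
      Y.isBasis_affineOpens.exists_subset_of_mem_open hy V.2
    exact Opens.mem_iSup.mpr ⟨⟨V', hV', hV'V, ⟨y, hyV'⟩⟩, hyV'⟩
  have hsurj : ∀ i : {V' : Y.Opens // IsAffineOpen V' ∧ V' ≤ V ∧ (V' : Set Y).Nonempty},
      ∃ a : Γ(Y, i.1), (f.app i.1).hom a =
        (X.presheaf.map (homOfLE (f.preimage_mono i.2.2.1)).op).hom b := fun i =>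
    app_surjective_of_isAffineOpen hN f hex hdom ι hι halg i.1 i.2.1 i.2.2.2 _
  choose sf hsf using hsurj
  have hcompat : TopCat.Presheaf.IsCompatible Y.sheaf.1
      (fun i : {V' : Y.Opens // IsAffineOpen V' ∧ V' ≤ V ∧ (V' : Set Y).Nonempty} => i.1)
      sf := by
    intro i j
    by_cases hne : ((i.1 ⊓ j.1 : Y.Opens) : Set Y).Nonempty
    · apply app_injective f hdom (i.1 ⊓ j.1) hne
      have e1 := app_res f (inf_le_left : i.1 ⊓ j.1 ≤ i.1) (sf i)
      have e2 := app_res f (inf_le_right : i.1 ⊓ j.1 ≤ j.1) (sf j)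
      rw [hsf i, res_res] at e1
      rw [hsf j, res_res] at e2
      exact e1.trans e2.symm
    · have h0 : i.1 ⊓ j.1 = ⊥ :=
        Opens.ext (by rw [Opens.coe_bot]; exact Set.not_nonempty_iff_eq_empty.mp hne)
      have hss : Subsingleton Γ(Y, i.1 ⊓ j.1) := by rw [h0]; infer_instance
      exact @Subsingleton.elim _ hss _ _
  obtain ⟨a, ha, -⟩ := Y.sheaf.existsUnique_gluing'
    (fun i : {V' : Y.Opens // IsAffineOpen V' ∧ V' ≤ V ∧ (V' : Set Y).Nonempty} => i.1) V
    (fun i => homOfLE i.2.2.1) hcover sf hcompat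
  refine ⟨a, ?_⟩
  apply X.sheaf.eq_of_locally_eq'
    (fun i : {V' : Y.Opens // IsAffineOpen V' ∧ V' ≤ V ∧ (V' : Set Y).Nonempty} => f ⁻¹ᵁ i.1)
    (f ⁻¹ᵁ V) (fun i => homOfLE (f.preimage_mono i.2.2.1))
  · intro x hx
    have hx' : f x ∈ V := hx
    obtain ⟨i, hi⟩ := Opens.mem_iSup.mp (hcover hx')
    exact Opens.mem_iSup.mpr ⟨i, hi⟩
  · intro i
    have e1 := app_res f i.2.2.1 a
    have e2 : (Y.presheaf.map (homOfLE i.2.2.1).op).hom a = sf i := ha i
    rw [e2, hsf i] at e1
    exact e1.symm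

end Groth.Agent.Lib.PushforwardNormalH7
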