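import Mathlib

/-!
# Operations on Henselian pairs (Mathlib's `HenselianRing A I`)
smaller ideals, quotients, extensions, radicals, sums, largest Henselian ideal.
-/

namespace Groth.Agent.Lib.HenselPairOpsLead

open Polynomial

variable {A : Type*} [CommRing A]

lemma isUnit_mk_iff (I : Ideal A) (x : A) :
    IsUnit (Ideal.Quotient.mk I x) ↔ ∃ y, x * y - 1 ∈ I := by
  constructor
  · intro h
    obtain ⟨z, hz⟩ := h.exists_right_inv
    obtain ⟨y, rfl⟩ := Ideal.Quotient.mk_surjective z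
    refine ⟨y, ?_⟩
    rw [← Ideal.Quotient.eq_zero_iff_mem, map_sub, map_mul, hz, map_one, sub_self]
  · rintro ⟨y, hy⟩
    refine isUnit_iff_exists_inv.2 ⟨Ideal.Quotient.mk I y, ?_⟩
    rw [← map_mul, ← sub_eq_zero, ← map_one (Ideal.Quotient.mk I), ← map_sub]
    exact Ideal.Quotient.eq_zero_iff_mem.2 hy

lemma isUnit_of_isUnit_mk (I : Ideal A) (hI : I ≤ Ideal.jacobson ⊥) {x : A}
    (h : IsUnit (Ideal.Quotient.mk I x)) : IsUnit x := by
  obtain ⟨y, hy⟩ := (isUnit_mk_iff I x).1 h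
  have hj : x * y - 1 ∈ Ideal.jacobson (⊥ : Ideal A) := hI hy
  have hu : IsUnit ((x * y - 1) * 1 + 1) := Ideal.mem_jacobson_bot.1 hj 1
  have : (x * y - 1) * 1 + 1 = x * y := by ring
  rw [this] at hu
  exact isUnit_of_mul_isUnit_left hu

lemma isUnit_mk_of_sub_mem (I : Ideal A) {x x' : A} (h : x - x' ∈ I)
    (hx : IsUnit (Ideal.Quotient.mk I x)) : IsUnit (Ideal.Quotient.mk I x') := by
  have : Ideal.Quotient.mk I x = Ideal.Quotient.mk I x' := Ideal.Quotient.eq.2 h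
  rwa [← this]

lemma eval_sub_mem (I : Ideal A) (p : A[X]) {a b : A} (h : a - b ∈ I) :
    p.eval a - p.eval b ∈ I := by
  obtain ⟨c, hc⟩ := Polynomial.sub_dvd_eval_sub a b p
  rw [hc]; exact Ideal.mul_mem_right _ _ h

/-- Henselian at `J` implies Henselian at every smaller ideal. -/
theorem henselian_of_le {I J : Ideal A} (hIJ : I ≤ J) (hJ : HenselianRing A J) :
    HenselianRing A I := by
  refine ⟨hIJ.trans hJ.jac, ?_⟩
  intro f hf a₀ h₁ h₂
  have h₂J : IsUnit (Ideal.Quotient.mk J (f.derivative.eval a₀)) := by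
    obtain ⟨y, hy⟩ := (isUnit_mk_iff I _).1 h₂
    exact (isUnit_mk_iff J _).2 ⟨y, hIJ hy⟩
  obtain ⟨a, ha, haJ⟩ := hJ.is_henselian f hf a₀ (hIJ h₁) h₂J
  refine ⟨a, ha, ?_⟩
  have ha' : f.eval a = 0 := ha
  obtain ⟨k, hk⟩ := Polynomial.exists_mul_sq_add_linear_part_eq_eval_add f a (a₀ - a)
  rw [ha', add_zero, add_sub_cancel] at hk
  obtain ⟨w, hw⟩ : ∃ w, w = k * (a₀ - a) + f.derivative.eval a := ⟨_, rfl⟩
  have hfw : f.eval a₀ = (a₀ - a) * w := by rw [← hk, hw]; ring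
  have hwu : IsUnit w := by
    apply isUnit_of_isUnit_mk J hJ.jac
    refine isUnit_mk_of_sub_mem J (x := f.derivative.eval a₀) ?_ h₂J
    have h1 : f.derivative.eval a - f.derivative.eval a₀ ∈ J := eval_sub_mem J _ haJ
    have h2 : f.derivative.eval a₀ - w =
        -(f.derivative.eval a - f.derivative.eval a₀) + k * (a - a₀) := by rw [hw]; ring
    rw [h2]
    exact J.add_mem (neg_mem h1) (J.mul_mem_left _ haJ)
  obtain ⟨w', hw'⟩ := hwu.exists_right_inv
  have h3 : a - a₀ = -(f.eval a₀ * w') := by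
    rw [hfw]
    calc a - a₀ = -((a₀ - a) * (w * w')) := by rw [hw']; ring
      _ = -((a₀ - a) * w * w') := by ring
  rw [h3]
  exact neg_mem (I.mul_mem_right _ h₁)

lemma mem_of_mk_mem_map {I J : Ideal A} (hIJ : I ≤ J) {x : A}
    (hx : Ideal.Quotient.mk I x ∈ J.map (Ideal.Quotient.mk I)) : x ∈ J := by
  obtain ⟨j, hj, hjx⟩ := (Ideal.mem_map_iff_of_surjective _ Ideal.Quotient.mk_surjective).1 hx
  have h1 : x - j ∈ I := Ideal.Quotient.eq.1 hjx.symm
  have : x = j + (x - j) := by ring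
  rw [this]; exact J.add_mem hj (hIJ h1)

lemma map_mk_le_jacobson (I J : Ideal A) (hJ : J ≤ Ideal.jacobson ⊥) :
    J.map (Ideal.Quotient.mk I) ≤ Ideal.jacobson ⊥ := by
  intro z hz
  obtain ⟨x, hx, rfl⟩ := (Ideal.mem_map_iff_of_surjective _ Ideal.Quotient.mk_surjective).1 hz
  rw [Ideal.mem_jacobson_bot]
  intro y
  obtain ⟨y, rfl⟩ := Ideal.Quotient.mk_surjective y
  have := Ideal.mem_jacobson_bot.1 (hJ hx) y
  rw [← map_mul, ← map_one (Ideal.Quotient.mk I), ← map_add]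
  exact this.map _

/-- If `I ≤ J` and `A` is Henselian at `J`, then `A/I` is Henselian at `J/I`. -/
theorem henselian_quotient {I J : Ideal A} (hIJ : I ≤ J) (hJ : HenselianRing A J) :
    HenselianRing (A ⧸ I) (J.map (Ideal.Quotient.mk I)) := by
  refine ⟨map_mk_le_jacobson I J hJ.jac, ?_⟩
  intro f hf a₀ h₁ h₂
  obtain ⟨F, hFmap, -, hFm⟩ := Polynomial.lifts_and_natDegree_eq_and_monic
    (Polynomial.mem_lifts_of_surjective Ideal.Quotient.mk_surjective f) hf
  obtain ⟨A₀, rfl⟩ := Ideal.Quotient.mk_surjective a₀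
  have e1 : Ideal.Quotient.mk I (F.eval A₀) = f.eval (Ideal.Quotient.mk I A₀) := by
    rw [← hFmap, Polynomial.eval_map_apply]
  have e2 : Ideal.Quotient.mk I (F.derivative.eval A₀) =
      f.derivative.eval (Ideal.Quotient.mk I A₀) := by
    rw [← hFmap, Polynomial.derivative_map, Polynomial.eval_map_apply]
  have hF0 : F.eval A₀ ∈ J := mem_of_mk_mem_map hIJ (by rw [e1]; exact h₁)
  have hFu : IsUnit (Ideal.Quotient.mk J (F.derivative.eval A₀)) := by
    obtain ⟨y, hy⟩ := (isUnit_mk_iff _ _).1 h₂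
    obtain ⟨Y, rfl⟩ := Ideal.Quotient.mk_surjective y
    rw [← e2, ← map_mul, ← map_one (Ideal.Quotient.mk I), ← map_sub] at hy
    exact (isUnit_mk_iff J _).2 ⟨Y, mem_of_mk_mem_map hIJ hy⟩
  obtain ⟨a, ha, haJ⟩ := hJ.is_henselian F hFm A₀ hF0 hFu
  have ha' : F.eval a = 0 := ha
  refine ⟨Ideal.Quotient.mk I a, ?_, ?_⟩
  · show f.eval (Ideal.Quotient.mk I a) = 0
    rw [← hFmap, Polynomial.eval_map_apply, ha', map_zero]
  · rw [← map_sub]; exact Ideal.mem_map_of_mem _ haJ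

/-- If `I ≤ J`, `A` is Henselian at `I` and `A/I` is Henselian at `J/I`, then `A` is Henselian at
`J`. -/
theorem henselian_of_quotient {I J : Ideal A} (hIJ : I ≤ J) (hI : HenselianRing A I)
    (hQ : HenselianRing (A ⧸ I) (J.map (Ideal.Quotient.mk I))) : HenselianRing A J := by
  have hjac : J ≤ Ideal.jacobson ⊥ := by
    intro x hx
    rw [Ideal.mem_jacobson_bot]
    intro y
    apply isUnit_of_isUnit_mk I hI.jac
    rw [map_add, map_mul, map_one]
    exact Ideal.mem_jacobson_bot.1 (hQ.jac (Ideal.mem_map_of_mem _ hx)) _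
  refine ⟨hjac, ?_⟩
  intro f hf a₀ h₁ h₂
  have hu0 : IsUnit (f.derivative.eval a₀) := isUnit_of_isUnit_mk J hjac h₂
  have hfm : (f.map (Ideal.Quotient.mk I)).Monic := hf.map _
  obtain ⟨abar, habar, hab0⟩ := hQ.is_henselian (f.map (Ideal.Quotient.mk I)) hfm
    (Ideal.Quotient.mk I a₀)
    (by rw [Polynomial.eval_map_apply]; exact Ideal.mem_map_of_mem _ h₁)
    (by rw [Polynomial.derivative_map, Polynomial.eval_map_apply]; exact (hu0.map _).map _)
  obtain ⟨a₁, rfl⟩ := Ideal.Quotient.mk_surjective abar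
  have ha10 : a₁ - a₀ ∈ J := mem_of_mk_mem_map hIJ (by rw [map_sub]; exact hab0)
  have hfa1 : f.eval a₁ ∈ I := by
    rw [← Ideal.Quotient.eq_zero_iff_mem, ← Polynomial.eval_map_apply]; exact habar
  have hu1 : IsUnit (f.derivative.eval a₁) := by
    apply isUnit_of_isUnit_mk J hjac
    refine isUnit_mk_of_sub_mem J (x := f.derivative.eval a₀) ?_ h₂
    have := eval_sub_mem J f.derivative ha10
    rw [← neg_sub]; exact neg_mem this
  obtain ⟨a, ha, haa1⟩ := hI.is_henselian f hf a₁ hfa1 (hu1.map _)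
  refine ⟨a, ha, ?_⟩
  have : a - a₀ = (a - a₁) + (a₁ - a₀) := by ring
  rw [this]; exact J.add_mem (hIJ haa1) ha10

/-- Henselian at `I` implies Henselian at the radical of `I` (Newton iteration). -/
theorem henselian_radical {I : Ideal A} (hI : HenselianRing A I) : HenselianRing A I.radical := by
  have hjac : I.radical ≤ Ideal.jacobson ⊥ := by
    calc I.radical ≤ I.jacobson := Ideal.radical_le_jacobson
      _ ≤ (Ideal.jacobson ⊥).jacobson := Ideal.jacobson_mono hI.jac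
      _ = Ideal.jacobson ⊥ := Ideal.jacobson_idem
  refine ⟨hjac, ?_⟩
  intro f hf a₀ h₁ h₂
  obtain ⟨N, hN⟩ := h₁
  obtain ⟨e, he⟩ : ∃ e, e = f.eval a₀ := ⟨_, rfl⟩
  rw [← he] at hN
  have hspan_le : Ideal.span {e} ≤ I.radical :=
    (Ideal.span_singleton_le_iff_mem _).2 ⟨N, hN⟩
  have hunit : ∀ a, a - a₀ ∈ Ideal.span {e} → IsUnit (f.derivative.eval a) := by
    intro a ha0
    apply isUnit_of_isUnit_mk _ hjac
    refine isUnit_mk_of_sub_mem _ (x := f.derivative.eval a₀) ?_ h₂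
    have := eval_sub_mem I.radical f.derivative (hspan_le ha0)
    rw [← neg_sub]; exact neg_mem this
  have newton : ∀ m : ℕ, ∃ a, a - a₀ ∈ Ideal.span {e} ∧ f.eval a ∈ Ideal.span {e ^ (m + 1)} := by
    intro m
    induction m with
    | zero =>
      refine ⟨a₀, by simp, ?_⟩
      rw [zero_add, pow_one, ← he]
      exact Ideal.subset_span rfl
    | succ m ih =>
      obtain ⟨a, ha0, ham⟩ := ih
      obtain ⟨u, hu⟩ := (hunit a ha0).exists_right_inv
      obtain ⟨c, hc⟩ := Ideal.mem_span_singleton'.1 ham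
      obtain ⟨k, hk⟩ := Polynomial.exists_mul_sq_add_linear_part_eq_eval_add f a
        (-(f.eval a * u))
      refine ⟨a + -(f.eval a * u), ?_, ?_⟩
      · have h1 : f.eval a ∈ Ideal.span {e} := by
          rw [← hc]
          apply Ideal.mem_span_singleton'.2
          exact ⟨c * e ^ m, by ring⟩
        have h2 : a + -(f.eval a * u) - a₀ = (a - a₀) - f.eval a * u := by ring
        rw [h2]
        exact (Ideal.span {e}).sub_mem ha0 (Ideal.mul_mem_right _ _ h1)
      · rw [← hk]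
        have h1 : k * (-(f.eval a * u)) ^ 2 + f.derivative.eval a * -(f.eval a * u) + f.eval a =
            k * u ^ 2 * (f.eval a) ^ 2 := by
          have h2 : f.derivative.eval a * -(f.eval a * u) =
              -(f.eval a) * (f.derivative.eval a * u) := by ring
          rw [h2, hu]; ring
        rw [h1, ← hc]
        apply Ideal.mem_span_singleton'.2
        exact ⟨k * u ^ 2 * c ^ 2 * e ^ m, by ring⟩
  obtain ⟨a, ha0, haN⟩ := newton N
  have haI : f.eval a ∈ I := by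
    obtain ⟨c, hc⟩ := Ideal.mem_span_singleton'.1 haN
    have h5 : c * e ^ (N + 1) = (c * e) * e ^ N := by ring
    rw [← hc, h5]
    exact I.mul_mem_left _ hN
  obtain ⟨b, hb, hba⟩ := hI.is_henselian f hf a haI ((hunit a ha0).map _)
  refine ⟨b, hb, ?_⟩
  have : b - a₀ = (b - a) + (a - a₀) := by ring
  rw [this]
  exact I.radical.add_mem (Ideal.le_radical hba) (hspan_le ha0)

theorem henselian_bot : HenselianRing A ⊥ :=
  ⟨bot_le, fun _ _ a₀ h₁ _ => ⟨a₀, Ideal.mem_bot.1 h₁, by simp⟩⟩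

/-- The sum of two Henselian ideals is Henselian. -/
theorem henselian_sup {I₁ I₂ : Ideal A} (h₁ : HenselianRing A I₁) (h₂ : HenselianRing A I₂) :
    HenselianRing A (I₁ ⊔ I₂) := by
  have hjac : I₁ ⊔ I₂ ≤ Ideal.jacobson ⊥ := sup_le h₁.jac h₂.jac
  refine ⟨hjac, ?_⟩
  intro f hf a₀ hf0 hfu
  rcases subsingleton_or_nontrivial A with hsub | hnt
  · exact ⟨a₀, Subsingleton.elim _ _, by rw [sub_self]; exact Ideal.zero_mem _⟩
  have hu0 : IsUnit (f.derivative.eval a₀) := isUnit_of_isUnit_mk _ hjac hfu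
  obtain ⟨i₁, hi₁, i₂, hi₂, hi⟩ := Submodule.mem_sup.1 hf0
  have hdeg : (0 : WithBot ℕ) < f.degree := by
    rw [← Polynomial.natDegree_pos_iff_degree_pos]
    by_contra h0
    have h00 : f.natDegree = 0 := by omega
    have hf1 : f = 1 := (Polynomial.Monic.natDegree_eq_zero hf).1 h00
    rw [hf1, eval_one] at hf0
    have h1 : (1 : A) ∈ Ideal.jacobson (⊥ : Ideal A) := hjac hf0
    have h2 : Ideal.jacobson (⊥ : Ideal A) = ⊤ := (Ideal.eq_top_iff_one _).2 h1
    exact bot_ne_top (Ideal.jacobson_eq_top_iff.1 h2)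
  have hgm : (f - C i₂).Monic := hf.sub_of_left (lt_of_le_of_lt Polynomial.degree_C_le hdeg)
  have hg0 : (f - C i₂).eval a₀ = i₁ := by
    simp only [eval_sub, eval_C]; rw [← hi]; ring
  have hgd : (f - C i₂).derivative = f.derivative := by simp
  obtain ⟨a₁, ha₁, ha₁0⟩ := h₁.is_henselian (f - C i₂) hgm a₀ (by rw [hg0]; exact hi₁)
    (by rw [hgd]; exact hu0.map _)
  have hfa₁ : f.eval a₁ = i₂ := by
    have h3 : (f - C i₂).eval a₁ = 0 := ha₁
    simp only [eval_sub, eval_C] at h3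
    exact sub_eq_zero.1 h3
  have hu1 : IsUnit (f.derivative.eval a₁) := by
    apply isUnit_of_isUnit_mk _ hjac
    refine isUnit_mk_of_sub_mem _ (x := f.derivative.eval a₀) ?_ hfu
    have h4 : a₁ - a₀ ∈ I₁ ⊔ I₂ := (le_sup_left : I₁ ≤ I₁ ⊔ I₂) ha₁0
    have := eval_sub_mem (I₁ ⊔ I₂) f.derivative h4
    rw [← neg_sub]; exact neg_mem this
  obtain ⟨a, ha, haa₁⟩ := h₂.is_henselian f hf a₁ (by rw [hfa₁]; exact hi₂) (hu1.map _)
  refine ⟨a, ha, ?_⟩
  have : a - a₀ = (a₁ - a₀) + (a - a₁) := by ring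
  rw [this]; exact Submodule.add_mem_sup ha₁0 haa₁

theorem henselian_finset_iSup (s : Finset (Ideal A)) (hs : ∀ I ∈ s, HenselianRing A I) :
    HenselianRing A (⨆ i ∈ s, i) := by
  classical
  induction s using Finset.induction_on with
  | empty => simpa using (henselian_bot : HenselianRing A ⊥)
  | insert a s ha ih =>
    rw [Finset.iSup_insert]
    exact henselian_sup (hs a (Finset.mem_insert_self a s))
      (ih fun I hI => hs I (Finset.mem_insert_of_mem hI))

/-- Every ring has a largest Henselian ideal. -/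
theorem exists_largest : ∃ I : Ideal A, HenselianRing A I ∧
    ∀ J : Ideal A, HenselianRing A J → J ≤ I := by
  refine ⟨sSup {I | HenselianRing A I}, ⟨sSup_le fun I hI => hI.jac, ?_⟩,
    fun J hJ => le_sSup hJ⟩
  intro f hf a₀ h₁ h₂
  obtain ⟨y, hy⟩ := (isUnit_mk_iff _ _).1 h₂
  obtain ⟨s₁, hs₁, h₁'⟩ := Submodule.mem_sSup_iff_exists_finset.1 h₁
  obtain ⟨s₂, hs₂, hy'⟩ := Submodule.mem_sSup_iff_exists_finset.1 hy
  have hK : HenselianRing A ((⨆ i ∈ s₁, i) ⊔ (⨆ i ∈ s₂, i)) :=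
    henselian_sup (henselian_finset_iSup s₁ fun I hI => hs₁ hI)
      (henselian_finset_iSup s₂ fun I hI => hs₂ hI)
  obtain ⟨a, ha, haK⟩ := hK.is_henselian f hf a₀
    ((le_sup_left : (⨆ i ∈ s₁, i) ≤ (⨆ i ∈ s₁, i) ⊔ (⨆ i ∈ s₂, i)) h₁')
    ((isUnit_mk_iff _ _).2
      ⟨y, (le_sup_right : (⨆ i ∈ s₂, i) ≤ (⨆ i ∈ s₁, i) ⊔ (⨆ i ∈ s₂, i)) hy'⟩)
  refine ⟨a, ha, ?_⟩
  have hle : (⨆ i ∈ s₁, i) ⊔ (⨆ i ∈ s₂, i) ≤ sSup {I | HenselianRing A I} :=
    sup_le (iSup₂_le fun I hI => le_sSup (hs₁ hI)) (iSup₂_le fun I hI => le_sSup (hs₂ hI))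
  exact hle haK

end Groth.Agent.Lib.HenselPairOpsLead
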