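import Mathlib
import Groth.Agent.Lib.HenselPairOps_lead

/-!
# Gabber's criterion for Henselian pairs (Mathlib's `HenselianRing`)
-/

namespace Groth.Agent.Lib.HenselGabberLead

open Polynomial Groth.Agent.Lib.HenselPairOpsLead

variable {A : Type*} [CommRing A]

/-- The computational core: a unit root `τ` of Gabber's polynomial gives a root of `f`. -/
lemma core (f : A[X]) (a₀ w τ σ : A) (m : ℕ) (hm : f.natDegree = m + 1)
    (huw : f.derivative.eval a₀ * w = -1) (hts : τ * σ = 1)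
    (hτ : τ ^ (m + 1) - τ ^ m + ∑ i ∈ Finset.range m,
      ((taylor a₀ f).coeff (i + 2) * f.eval a₀ ^ (i + 1) * w ^ (i + 2)) * τ ^ (m - 1 - i) = 0) :
    f.eval (f.eval a₀ * w * σ + a₀) = 0 := by
  set g := taylor a₀ f with hg
  have hgdeg : g.natDegree = m + 1 := by rw [hg, natDegree_taylor, hm]
  set c₀ := f.eval a₀ with hc₀
  set u := f.derivative.eval a₀ with hu
  have hg0 : g.coeff 0 = c₀ := taylor_coeff_zero _ _
  have hg1 : g.coeff 1 = u := taylor_coeff_one _ _
  set t := τ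
  set s := σ
  have hE3 : 1 - s +
      ∑ i ∈ Finset.range m, (g.coeff (i + 2) * c₀ ^ (i + 1) * w ^ (i + 2)) * s ^ (i + 2) = 0 := by
    have h2 : s ^ (m + 1) * (t ^ (m + 1) - t ^ m +
        ∑ i ∈ Finset.range m, (g.coeff (i + 2) * c₀ ^ (i + 1) * w ^ (i + 2)) * t ^ (m - 1 - i)) = 0 := by
      rw [hτ, mul_zero]
    rw [← h2, mul_add, mul_sub, Finset.mul_sum]
    have e1 : s ^ (m + 1) * t ^ (m + 1) = 1 := by rw [← mul_pow, mul_comm, hts, one_pow]
    have e2 : s ^ (m + 1) * t ^ m = s := by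
      rw [pow_succ, mul_assoc, mul_comm s, ← mul_assoc, ← mul_pow, mul_comm s t, hts, one_pow, one_mul]
    rw [e1, e2]
    congr 1
    refine Finset.sum_congr rfl fun i hi => ?_
    have him : i < m := Finset.mem_range.1 hi
    have e3 : s ^ (m + 1) = s ^ (i + 2) * s ^ (m - 1 - i) := by
      rw [← pow_add]; congr 1; omega
    have e4 : s ^ (m - 1 - i) * t ^ (m - 1 - i) = 1 := by rw [← mul_pow, mul_comm, hts, one_pow]
    calc g.coeff (i + 2) * c₀ ^ (i + 1) * w ^ (i + 2) * s ^ (i + 2)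
        = g.coeff (i + 2) * c₀ ^ (i + 1) * w ^ (i + 2) * s ^ (i + 2) *
            (s ^ (m - 1 - i) * t ^ (m - 1 - i)) := by rw [e4, mul_one]
      _ = s ^ (m + 1) * (g.coeff (i + 2) * c₀ ^ (i + 1) * w ^ (i + 2) * t ^ (m - 1 - i)) := by
          rw [e3]; ring
  set x := c₀ * w * s with hx
  have hE1 : g.eval x = c₀ * (1 - s +
      ∑ i ∈ Finset.range m, (g.coeff (i + 2) * c₀ ^ (i + 1) * w ^ (i + 2)) * s ^ (i + 2)) := by
    rw [eval_eq_sum_range, hgdeg, Finset.sum_range_succ', Finset.sum_range_succ', hg0, hg1]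
    rw [mul_add, mul_sub, Finset.mul_sum]
    have e1 : u * x ^ (0 + 1) = -(c₀ * s) := by
      rw [zero_add, pow_one, hx]
      have : u * (c₀ * w * s) = (u * w) * (c₀ * s) := by ring
      rw [this, huw]; ring
    rw [e1]
    have e2 : ∀ i ∈ Finset.range m, g.coeff (i + 1 + 1) * x ^ (i + 1 + 1) =
        c₀ * (g.coeff (i + 2) * c₀ ^ (i + 1) * w ^ (i + 2) * s ^ (i + 2)) := by
      intro i _
      rw [hx]
      have : i + 1 + 1 = i + 2 := rfl
      rw [this, mul_pow, mul_pow, pow_succ c₀ (i + 1)]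
      ring
    rw [Finset.sum_congr rfl e2]
    ring
  rw [← taylor_eval, ← hg, hE1, hE3, mul_zero]

lemma eval_mem_of_coeff_mem {I : Ideal A} {p : A[X]} (hp : ∀ i, p.coeff i ∈ I) (x : A) :
    p.eval x ∈ I := by
  rw [eval_eq_sum_range]
  exact Ideal.sum_mem _ fun i _ => Ideal.mul_mem_right _ _ (hp i)

lemma derivative_eval_mem_of_coeff_mem {I : Ideal A} {p : A[X]} (hp : ∀ i, p.coeff i ∈ I)
    (x : A) : p.derivative.eval x ∈ I := by
  apply eval_mem_of_coeff_mem
  intro i
  rw [coeff_derivative]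
  exact Ideal.mul_mem_right _ _ (hp _)

/-- Gabber's criterion (existence part suffices) implies Henselian. -/
theorem henselian_of_gabber {I : Ideal A} (hrad : I ≤ Ideal.jacobson ⊥)
    (hgab : ∀ n : ℕ, 0 < n → ∀ p : A[X], p.natDegree ≤ n → (∀ i, p.coeff i ∈ I) →
      ∃ α : A, α - 1 ∈ I ∧ (X ^ n * (X - 1) + p).IsRoot α) : HenselianRing A I := by
  classical
  refine ⟨hrad, ?_⟩
  intro f hf a₀ h₁ h₂
  by_cases hd : f.natDegree = 0
  · have hf1 : f = 1 := (Polynomial.Monic.natDegree_eq_zero hf).1 hd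
    rw [hf1, Polynomial.eval_one] at h₁
    have h3 := Ideal.mem_jacobson_bot.1 (hrad h₁) (-1)
    have h0 : IsUnit (0 : A) := by simpa using h3
    have hss : Subsingleton A := by
      rw [isUnit_zero_iff] at h0
      exact subsingleton_of_zero_eq_one h0
    exact ⟨a₀, Subsingleton.elim _ _, by rw [Subsingleton.elim (a₀ - a₀) 0]; exact zero_mem _⟩
  obtain ⟨m, hm⟩ : ∃ m, f.natDegree = m + 1 := Nat.exists_eq_succ_of_ne_zero hd
  have huu : IsUnit (f.derivative.eval a₀) := isUnit_of_isUnit_mk I hrad h₂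
  obtain ⟨w₀, hw₀⟩ := huu.exists_right_inv
  have huw : f.derivative.eval a₀ * (-w₀) = -1 := by rw [mul_neg, hw₀]
  have hdI : ∀ i : ℕ, (taylor a₀ f).coeff (i + 2) * f.eval a₀ ^ (i + 1) * (-w₀) ^ (i + 2) ∈ I := by
    intro i
    rw [pow_succ]
    have : (taylor a₀ f).coeff (i + 2) * (f.eval a₀ ^ i * f.eval a₀) * (-w₀) ^ (i + 2) =
        ((taylor a₀ f).coeff (i + 2) * f.eval a₀ ^ i * (-w₀) ^ (i + 2)) * f.eval a₀ := by ring
    rw [this]
    exact Ideal.mul_mem_left _ _ h₁
  have hτ : ∃ τ : A, τ - 1 ∈ I ∧ τ ^ (m + 1) - τ ^ m + ∑ i ∈ Finset.range m,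
      ((taylor a₀ f).coeff (i + 2) * f.eval a₀ ^ (i + 1) * (-w₀) ^ (i + 2)) * τ ^ (m - 1 - i) = 0 := by
    rcases Nat.eq_zero_or_pos m with rfl | hmpos
    · exact ⟨1, by simp, by simp⟩
    · set p : A[X] := ∑ i ∈ Finset.range m,
        C ((taylor a₀ f).coeff (i + 2) * f.eval a₀ ^ (i + 1) * (-w₀) ^ (i + 2)) * X ^ (m - 1 - i)
        with hp
      have hpdeg : p.natDegree ≤ m :=
        natDegree_sum_le_of_forall_le _ _ (fun i _ => (natDegree_C_mul_X_pow_le _ _).trans (by omega))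
      have hpI : ∀ j, p.coeff j ∈ I := by
        intro j
        simp only [hp, finset_sum_coeff, coeff_C_mul, coeff_X_pow]
        exact Ideal.sum_mem _ fun i _ => Ideal.mul_mem_right _ _ (hdI i)
      obtain ⟨α, hαI, hα⟩ := hgab m hmpos p hpdeg hpI
      refine ⟨α, hαI, ?_⟩
      have h0 : (X ^ m * (X - 1) + p).eval α = 0 := hα
      simp only [hp, eval_add, eval_mul, eval_pow, eval_X, eval_sub, eval_one, eval_finset_sum,
        eval_C] at h0
      rw [← h0]; ring
  obtain ⟨τ, hτI, hτeq⟩ := hτ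
  have hτunit : IsUnit τ := by
    have := Ideal.mem_jacobson_bot.1 (hrad hτI) 1
    have e : (τ - 1) * 1 + 1 = τ := by ring
    rwa [e] at this
  obtain ⟨σ, hσ⟩ := hτunit.exists_right_inv
  refine ⟨f.eval a₀ * (-w₀) * σ + a₀, core f a₀ (-w₀) τ σ m hm huw hσ hτeq, ?_⟩
  rw [add_sub_cancel_right, mul_assoc]; exact Ideal.mul_mem_right _ _ h₁

/-- Henselian implies Gabber's criterion, with uniqueness. -/
theorem gabber_of_henselian {I : Ideal A} (hI : HenselianRing A I) (n : ℕ) (p : A[X])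
    (hpn : p.natDegree ≤ n) (hpI : ∀ i, p.coeff i ∈ I) :
    ∃! α : A, α - 1 ∈ I ∧ (X ^ n * (X - 1) + p).IsRoot α := by
  set F : A[X] := X ^ n * (X - 1) + p with hF
  have hFmonic : F.Monic := by
    apply monic_of_natDegree_le_of_coeff_eq_one (n + 1)
    · refine (natDegree_add_le _ _).trans (max_le ?_ (hpn.trans (Nat.le_succ n)))
      refine natDegree_mul_le.trans ?_
      have h5 : (X ^ n : A[X]).natDegree ≤ n := natDegree_X_pow_le _
      have h6 : (X - 1 : A[X]).natDegree ≤ 1 := by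
        have := natDegree_X_sub_C_le (1 : A)
        simpa using this
      omega
    · rw [hF, coeff_add, coeff_eq_zero_of_natDegree_lt (lt_of_le_of_lt hpn (Nat.lt_succ_self n)),
        add_zero, add_comm n 1, coeff_X_pow_mul]
      simp [coeff_sub, coeff_X_one, coeff_one]
  have hF1 : F.eval 1 = p.eval 1 := by simp [hF]
  have hF'1 : F.derivative.eval 1 = 1 + p.derivative.eval 1 := by
    simp [hF, derivative_mul]
  have hex : ∃ α : A, F.IsRoot α ∧ α - 1 ∈ I := by
    apply hI.is_henselian F hFmonic 1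
    · rw [hF1]; exact eval_mem_of_coeff_mem hpI 1
    · rw [isUnit_mk_iff]
      refine ⟨1, ?_⟩
      rw [hF'1, mul_one, add_sub_cancel_left]
      exact derivative_eval_mem_of_coeff_mem hpI 1
  obtain ⟨α, hα, hαI⟩ := hex
  refine ⟨α, ⟨hαI, hα⟩, ?_⟩
  rintro β ⟨hβI, hβ⟩
  obtain ⟨c, hc⟩ := exists_mul_sq_add_linear_part_eq_eval_add F α (β - α)
  have hα0 : F.eval α = 0 := hα
  have hβ0 : F.eval β = 0 := hβ
  rw [add_sub_cancel, hα0, hβ0, add_zero] at hc
  have hyI : β - α ∈ I := by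
    have : β - α = (β - 1) - (α - 1) := by ring
    rw [this]; exact Ideal.sub_mem _ hβI hαI
  have hunit : IsUnit (c * (β - α) + F.derivative.eval α) := by
    have hmem : c * (β - α) + F.derivative.eval α - 1 ∈ I := by
      have e : c * (β - α) + F.derivative.eval α - 1 =
          c * (β - α) + (F.derivative.eval α - F.derivative.eval 1) + p.derivative.eval 1 := by
        rw [hF'1]; ring
      rw [e]
      exact Ideal.add_mem _ (Ideal.add_mem _ (Ideal.mul_mem_left _ _ hyI)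
        (eval_sub_mem I _ hαI)) (derivative_eval_mem_of_coeff_mem hpI 1)
    have := Ideal.mem_jacobson_bot.1 (hI.jac hmem) 1
    have e : (c * (β - α) + F.derivative.eval α - 1) * 1 + 1 =
        c * (β - α) + F.derivative.eval α := by ring
    rwa [e] at this
  have hz : (c * (β - α) + F.derivative.eval α) * (β - α) = 0 := by
    rw [← hc]; ring
  have := (hunit.mul_right_eq_zero).1 hz
  exact sub_eq_zero.1 this

end Groth.Agent.Lib.HenselGabberLead
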