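import Mathlib

/-!
# Henselian pairs from idempotent lifting in monogenic algebras
-/

namespace Groth.Agent.Lib.HenselPair
open Polynomial

universe u
variable {A : Type u} [CommRing A]

theorem smul_top_mul {B : Type*} [CommRing B] [Algebra A B] (I : Ideal A) {y : B}
    (hy : y ∈ I • (⊤ : Submodule A B)) (s : B) : y * s ∈ I • (⊤ : Submodule A B) := by
  refine Submodule.smul_induction_on hy ?_ ?_
  · intro r hr t _
    rw [smul_mul_assoc]
    exact Submodule.smul_mem_smul hr Submodule.mem_top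
  · intro y z hy hz
    rw [add_mul]; exact Submodule.add_mem _ hy hz

theorem aeval_mem_smul_top {B : Type*} [CommRing B] [Algebra A B] (I : Ideal A) (x : B) (D : A[X])
    (hD : ∀ n, D.coeff n ∈ I) : aeval x D ∈ I • (⊤ : Submodule A B) := by
  rw [Polynomial.aeval_eq_sum_range]
  apply Submodule.sum_mem
  intro n _
  exact Submodule.smul_mem_smul (hD n) Submodule.mem_top

theorem mem_map_iff_mem_smul_top {B : Type*} [CommRing B] [Algebra A B] (I : Ideal A) (x : B) :
    x ∈ Ideal.map (algebraMap A B) I ↔ x ∈ I • (⊤ : Submodule A B) := by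
  rw [Ideal.smul_top_eq_map]; exact Iff.rfl

theorem algHom_mem_smul_top {B C : Type*} [CommRing B] [Algebra A B] [CommRing C] [Algebra A C]
    (I : Ideal A) (θ : B →ₐ[A] C) {y : B} (hy : y ∈ I • (⊤ : Submodule A B)) :
    θ y ∈ I • (⊤ : Submodule A C) := by
  refine Submodule.smul_induction_on hy ?_ ?_
  · intro r hr t _
    rw [map_smul]
    exact Submodule.smul_mem_smul hr Submodule.mem_top
  · intro y z hy hz
    rw [map_add]; exact Submodule.add_mem _ hy hz

/-- root from an idempotent -/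
theorem root_of_idem (I : Ideal A) (hI : I ≤ Ideal.jacobson ⊥) (f : A[X]) (hf : f.Monic)
    (a₀ c : A) (h : A[X]) (c₀ : A) (hfh : f = (X - C a₀) * h + C c₀) (hc₀ : c₀ ∈ I)
    (hc : c * h.eval a₀ - 1 ∈ I)
    (e : AdjoinRoot f) (he : IsIdempotentElem e)
    (heb : e - c • aeval (AdjoinRoot.root f) h ∈ I • (⊤ : Submodule A (AdjoinRoot f))) :
    ∃ a : A, f.IsRoot a ∧ a - a₀ ∈ I := by
  classical
  haveI : Module.Finite A (AdjoinRoot f) := hf.finite_adjoinRoot
  have haevf : aeval (AdjoinRoot.root f) f = 0 := by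
    rw [AdjoinRoot.aeval_eq, AdjoinRoot.mk_self]
  have hfeval : f.eval a₀ = c₀ := by
    conv_lhs => rw [hfh]
    simp
  have hsurj : ∀ s : AdjoinRoot f, ∃ T : A[X], aeval (AdjoinRoot.root f) T = s := by
    intro s
    obtain ⟨T, rfl⟩ := AdjoinRoot.mk_surjective s
    exact ⟨T, AdjoinRoot.aeval_eq T⟩
  have h2 : (AdjoinRoot.root f - algebraMap A (AdjoinRoot f) a₀) * aeval (AdjoinRoot.root f) h =
      -algebraMap A (AdjoinRoot f) c₀ := by
    have h1 := congrArg (aeval (AdjoinRoot.root f)) hfh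
    rw [haevf, map_add, map_mul, map_sub, aeval_X, aeval_C, aeval_C] at h1
    rw [eq_neg_iff_add_eq_zero]; exact h1.symm
  have hbt : (c • aeval (AdjoinRoot.root f) h) *
      (AdjoinRoot.root f - algebraMap A (AdjoinRoot f) a₀) ∈
      I • (⊤ : Submodule A (AdjoinRoot f)) := by
    have h3 : (c • aeval (AdjoinRoot.root f) h) *
        (AdjoinRoot.root f - algebraMap A (AdjoinRoot f) a₀) =
        (-(c * c₀)) • (1 : AdjoinRoot f) := by
      rw [smul_mul_assoc, mul_comm, h2, Algebra.smul_def, Algebra.smul_def, mul_one, map_neg,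
        map_mul]
      ring
    rw [h3]
    exact Submodule.smul_mem_smul (I.neg_mem (I.mul_mem_left _ hc₀)) Submodule.mem_top
  have hy : e * (AdjoinRoot.root f - algebraMap A (AdjoinRoot f) a₀) ∈
      I • (⊤ : Submodule A (AdjoinRoot f)) := by
    have h4 : e * (AdjoinRoot.root f - algebraMap A (AdjoinRoot f) a₀) =
        (e - c • aeval (AdjoinRoot.root f) h) *
          (AdjoinRoot.root f - algebraMap A (AdjoinRoot f) a₀) +
        (c • aeval (AdjoinRoot.root f) h) *
          (AdjoinRoot.root f - algebraMap A (AdjoinRoot f) a₀) := by ring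
    rw [h4]
    exact Submodule.add_mem _ (smul_top_mul I heb _) hbt
  have hPfg : (LinearMap.range (LinearMap.mulLeft A e)).FG := by
    rw [LinearMap.range_eq_map]
    exact Module.Finite.fg_top.map _
  have hPmem : ∀ s, e * s ∈ LinearMap.range (LinearMap.mulLeft A e) := fun s => ⟨s, rfl⟩
  have hC : ∀ y ∈ I • LinearMap.range (LinearMap.mulLeft A e),
      ∀ s : AdjoinRoot f, y * s ∈ I • LinearMap.range (LinearMap.mulLeft A e) := by
    intro y hy s
    refine Submodule.smul_induction_on hy ?_ ?_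
    · intro r hr p hp
      obtain ⟨t, rfl⟩ := hp
      rw [smul_mul_assoc]
      refine Submodule.smul_mem_smul hr ?_
      exact ⟨t * s, by simp [mul_assoc]⟩
    · intro y z hy hz
      rw [add_mul]; exact Submodule.add_mem _ hy hz
  have h1' : ∀ μ ∈ I • (⊤ : Submodule A (AdjoinRoot f)),
      e * μ ∈ I • LinearMap.range (LinearMap.mulLeft A e) := by
    intro μ hμ
    refine Submodule.smul_induction_on hμ ?_ ?_
    · intro r hr t _
      rw [mul_smul_comm]
      exact Submodule.smul_mem_smul hr (hPmem t)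
    · intro y z hy hz
      rw [mul_add]; exact Submodule.add_mem _ hy hz
  have hkey : e * (AdjoinRoot.root f - algebraMap A (AdjoinRoot f) a₀) ∈
      I • LinearMap.range (LinearMap.mulLeft A e) := by
    have h5 := h1' _ hy
    rwa [← mul_assoc, he.eq] at h5
  have hNak : LinearMap.range (LinearMap.mulLeft A e) ≤ Submodule.span A {e} := by
    apply Submodule.le_of_le_smul_of_le_jacobson_bot (I := I) hPfg hI
    rintro _ ⟨s, rfl⟩
    obtain ⟨T, rfl⟩ := hsurj s
    obtain ⟨Q, hQ⟩ := Polynomial.X_sub_C_dvd_sub_C_eval (a := a₀) (p := T)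
    have h9 : (LinearMap.mulLeft A e) (aeval (AdjoinRoot.root f) T) =
        (T.eval a₀) • e + (e * (AdjoinRoot.root f - algebraMap A (AdjoinRoot f) a₀)) *
          aeval (AdjoinRoot.root f) Q := by
      have h10 := congrArg (aeval (AdjoinRoot.root f)) hQ
      rw [map_sub, map_mul, map_sub, aeval_X, aeval_C, aeval_C] at h10
      rw [LinearMap.mulLeft_apply, Algebra.smul_def]
      have h11 : aeval (AdjoinRoot.root f) T = algebraMap A (AdjoinRoot f) (T.eval a₀) +
          (AdjoinRoot.root f - algebraMap A (AdjoinRoot f) a₀) * aeval (AdjoinRoot.root f) Q := by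
        rw [← h10]; ring
      rw [h11]; ring
    rw [h9]
    exact Submodule.add_mem _
      (Submodule.mem_sup_left (Submodule.smul_mem _ _ (Submodule.mem_span_singleton_self e)))
      (Submodule.mem_sup_right (hC _ hkey _))
  obtain ⟨a, ha⟩ := Submodule.mem_span_singleton.mp (hNak (hPmem (AdjoinRoot.root f)))
  -- injectivity
  have hinj : ∀ r : A, r • e = 0 → r = 0 := by
    intro r hr
    have hrep : ∀ k, r * (AdjoinRoot.powerBasis' hf).basis.repr e k = 0 := by
      intro k
      have h6 := congrArg (fun y => (AdjoinRoot.powerBasis' hf).basis.repr y k) hr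
      simpa [map_smul] using h6
    have hJ : Ideal.span (Set.range fun k => (AdjoinRoot.powerBasis' hf).basis.repr e k) = ⊤ := by
      by_contra hne
      obtain ⟨𝔪, h𝔪, hle⟩ := Ideal.exists_le_maximal _ hne
      have hI𝔪 : I ≤ 𝔪 := hI.trans (sInf_le ⟨bot_le, h𝔪⟩)
      have hroot' : f.eval₂ (Ideal.Quotient.mk 𝔪) (Ideal.Quotient.mk 𝔪 a₀) = 0 := by
        rw [Polynomial.eval₂_at_apply, Ideal.Quotient.eq_zero_iff_mem, hfeval]
        exact hI𝔪 hc₀
      have hev_smul : ∀ (r' : A) (s : AdjoinRoot f),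
          AdjoinRoot.lift (Ideal.Quotient.mk 𝔪) _ hroot' (r' • s) =
            Ideal.Quotient.mk 𝔪 r' * AdjoinRoot.lift (Ideal.Quotient.mk 𝔪) _ hroot' s := by
        intro r' s
        rw [Algebra.smul_def, map_mul, AdjoinRoot.algebraMap_eq, AdjoinRoot.lift_of]
      have hev_m : ∀ μ ∈ 𝔪 • (⊤ : Submodule A (AdjoinRoot f)),
          AdjoinRoot.lift (Ideal.Quotient.mk 𝔪) _ hroot' μ = 0 := by
        intro μ hμ
        refine Submodule.smul_induction_on hμ ?_ ?_
        · intro r' hr' s _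
          rw [hev_smul, Ideal.Quotient.eq_zero_iff_mem.mpr hr', zero_mul]
        · intro y z hy hz
          rw [map_add, hy, hz, add_zero]
      have he𝔪 : e ∈ 𝔪 • (⊤ : Submodule A (AdjoinRoot f)) := by
        rw [← (AdjoinRoot.powerBasis' hf).basis.sum_repr e]
        apply Submodule.sum_mem
        intro k _
        exact Submodule.smul_mem_smul (hle (Ideal.subset_span ⟨k, rfl⟩)) Submodule.mem_top
      have h0 := hev_m e he𝔪
      have h1 : AdjoinRoot.lift (Ideal.Quotient.mk 𝔪) _ hroot' e = 1 := by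
        have hsplit : e = (e - c • aeval (AdjoinRoot.root f) h) +
            c • aeval (AdjoinRoot.root f) h := by ring
        rw [hsplit, map_add, hev_m _ (Submodule.smul_mono_left hI𝔪 heb), zero_add, hev_smul,
          AdjoinRoot.aeval_eq, AdjoinRoot.lift_mk, Polynomial.eval₂_at_apply, ← map_mul,
          ← sub_eq_zero, ← map_one (Ideal.Quotient.mk 𝔪), ← map_sub,
          Ideal.Quotient.eq_zero_iff_mem]
        exact hI𝔪 hc
      rw [h1] at h0
      exact h𝔪.ne_top ((Ideal.eq_top_iff_one _).mpr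
        (Ideal.Quotient.eq_zero_iff_mem.mp (by rw [map_one]; exact h0)))
    have h1mem : (1 : A) ∈
        Ideal.span (Set.range fun k => (AdjoinRoot.powerBasis' hf).basis.repr e k) := by
      rw [hJ]; trivial
    have hall : ∀ x ∈ Ideal.span (Set.range fun k => (AdjoinRoot.powerBasis' hf).basis.repr e k),
        r * x = 0 := by
      intro x hx
      refine Submodule.span_induction ?_ ?_ ?_ ?_ hx
      · rintro _ ⟨k, rfl⟩; exact hrep k
      · exact mul_zero r
      · intro y z _ _ hy hz; rw [mul_add, hy, hz, add_zero]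
      · intro s y _ hy; rw [smul_eq_mul, mul_left_comm, hy, mul_zero]
    simpa using hall 1 h1mem
  have h0' : e * (AdjoinRoot.root f - algebraMap A (AdjoinRoot f) a) = 0 := by
    rw [mul_sub, ← ha, Algebra.smul_def, mul_comm, sub_self]
  refine ⟨a, ?_, ?_⟩
  · apply hinj
    obtain ⟨Qf, hQf⟩ := Polynomial.X_sub_C_dvd_sub_C_eval (a := a) (p := f)
    have h10 := congrArg (fun T => e * aeval (AdjoinRoot.root f) T) hQf
    simp only [map_sub, map_mul, aeval_X, aeval_C, haevf] at h10
    rw [← mul_assoc, h0', zero_mul, zero_sub, mul_neg, neg_eq_zero] at h10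
    rw [Algebra.smul_def, mul_comm]; exact h10
  · have h11 : (a - a₀) • e ∈ I • Submodule.span A {e} := by
      have h12 : (a - a₀) • e = e * (AdjoinRoot.root f - algebraMap A (AdjoinRoot f) a₀) := by
        rw [sub_smul, ha, mul_sub, Algebra.smul_def, mul_comm (algebraMap A (AdjoinRoot f) a₀)]
      rw [h12]
      exact Submodule.smul_mono le_rfl hNak hkey
    obtain ⟨i, hi, hie⟩ := Submodule.mem_smul_span_singleton.mp h11
    have h13 : (a - a₀ - i) • e = 0 := by rw [sub_smul, hie, sub_self]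
    have h14 := hinj _ h13
    rw [sub_eq_zero] at h14
    rw [h14]; exact hi

/-- idempotent lifting from the hypothesis -/
theorem exists_idem_lift (I : Ideal A)
    (H : ∀ (m : ℕ) (p : A[X]), p.Monic →
      Polynomial.map (Ideal.Quotient.mk I) p =
        Polynomial.map (Ideal.Quotient.mk I) ((X ^ 2 - X) ^ m) →
      Set.SurjOn (Ideal.Quotient.mk (Ideal.map (algebraMap A (AdjoinRoot p)) I))
        {e : AdjoinRoot p | IsIdempotentElem e} {e | IsIdempotentElem e})
    (f : A[X]) (hf : f.Monic) (b : AdjoinRoot f)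
    (hb : b * b - b ∈ I • (⊤ : Submodule A (AdjoinRoot f))) :
    ∃ e : AdjoinRoot f, IsIdempotentElem e ∧
      e - b ∈ I • (⊤ : Submodule A (AdjoinRoot f)) := by
  classical
  rcases subsingleton_or_nontrivial A with hsub | hnt
  · haveI : Subsingleton (AdjoinRoot f) := Module.subsingleton A _
    exact ⟨b, Subsingleton.elim _ _, by rw [sub_self]; exact Submodule.zero_mem _⟩
  haveI : Module.Finite A (AdjoinRoot f) := hf.finite_adjoinRoot
  have hrange : LinearMap.range (LinearMap.mulLeft A (b * b - b)) ≤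
      I • (⊤ : Submodule A (AdjoinRoot f)) := by
    rintro _ ⟨s, rfl⟩
    exact smul_top_mul I hb s
  obtain ⟨P, hPm, -, hPc, hPa⟩ :=
    LinearMap.exists_monic_and_natDegree_eq_and_coeff_mem_pow_and_aeval_eq_zero A
      (LinearMap.mulLeft A (b * b - b)) I hrange
  have hPb : aeval (b * b - b) P = 0 := by
    have h1 : aeval (Algebra.lmul A (AdjoinRoot f) (b * b - b)) P =
        Algebra.lmul A (AdjoinRoot f) (aeval (b * b - b) P) :=
      Polynomial.aeval_algHom_apply _ _ _
    have h2 : (Algebra.lmul A (AdjoinRoot f) (b * b - b) : Module.End A (AdjoinRoot f)) =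
        LinearMap.mulLeft A (b * b - b) := rfl
    rw [h2, hPa] at h1
    have h3 := congrArg (fun φ : Module.End A (AdjoinRoot f) => φ 1) h1
    simpa using h3.symm
  obtain ⟨d, hd⟩ : ∃ d, d = P.natDegree := ⟨_, rfl⟩
  rcases Nat.eq_zero_or_pos d with hd0 | hdpos
  · have hP1 : P = 1 := by
      have hPm' : P.Monic := hPm
      rw [← hPm'.natDegree_eq_zero, ← hd]; exact hd0
    rw [hP1, map_one] at hPb
    have hall : ∀ x : AdjoinRoot f, x = 0 := fun x => by rw [← mul_one x, hPb, mul_zero]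
    refine ⟨b, ?_, by rw [sub_self]; exact Submodule.zero_mem _⟩
    rw [IsIdempotentElem, hall (b * b), hall b]
  have hq2 : (X ^ 2 - X : A[X]).Monic :=
    Polynomial.monic_X_pow_sub (by rw [degree_X]; exact_mod_cast (by norm_num : (1 : ℕ) < 2))
  have hnd2 : (X ^ 2 - X : A[X]).natDegree = 2 := by
    rw [natDegree_sub_eq_left_of_natDegree_lt, natDegree_X_pow]
    rw [natDegree_X_pow, natDegree_X]; norm_num
  have hp₂m : (P.comp (X ^ 2 - X)).Monic := hPm.comp hq2 (by rw [hnd2]; norm_num)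
  have hPmap : P.map (Ideal.Quotient.mk I) = X ^ d := by
    ext k
    rw [coeff_map, coeff_X_pow]
    rcases lt_trichotomy k d with hk | hk | hk
    · rw [if_neg (ne_of_lt hk), Ideal.Quotient.eq_zero_iff_mem]
      have h4 := hPc k
      rw [← hd] at h4
      exact Ideal.pow_le_self (Nat.sub_ne_zero_of_lt hk) h4
    · rw [if_pos hk, hk, hd, coeff_natDegree, hPm.leadingCoeff, map_one]
    · rw [if_neg (ne_of_gt hk), coeff_eq_zero_of_natDegree_lt (hd ▸ hk), map_zero]
  have hp₂map : (P.comp (X ^ 2 - X)).map (Ideal.Quotient.mk I) =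
      ((X ^ 2 - X : A[X]) ^ d).map (Ideal.Quotient.mk I) := by
    rw [Polynomial.map_comp, hPmap, X_pow_comp, Polynomial.map_pow]
  have hsurjOn := H d _ hp₂m hp₂map
  have hp₂b : (P.comp (X ^ 2 - X)).eval₂ (algebraMap A (AdjoinRoot f)) b = 0 := by
    rw [← aeval_def, aeval_comp]
    have h5 : aeval b (X ^ 2 - X : A[X]) = b * b - b := by
      rw [map_sub, map_pow, aeval_X, sq]
    rw [h5]; exact hPb
  have hθroot : AdjoinRoot.liftAlgHom (P.comp (X ^ 2 - X)) (Algebra.ofId A (AdjoinRoot f)) b hp₂b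
      (AdjoinRoot.root _) = b := AdjoinRoot.liftAlgHom_root _ _ _ _
  have haev₂ : aeval (AdjoinRoot.root (P.comp (X ^ 2 - X))) (P.comp (X ^ 2 - X)) = 0 := by
    rw [AdjoinRoot.aeval_eq, AdjoinRoot.mk_self]
  -- (X^2 - X)^d evaluates into I • ⊤
  have hqd : aeval (AdjoinRoot.root (P.comp (X ^ 2 - X))) ((X ^ 2 - X : A[X]) ^ d) ∈
      I • (⊤ : Submodule A (AdjoinRoot (P.comp (X ^ 2 - X)))) := by
    have hD : ∀ n, ((X ^ 2 - X : A[X]) ^ d - P.comp (X ^ 2 - X)).coeff n ∈ I := by
      intro n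
      rw [← Ideal.Quotient.eq_zero_iff_mem, ← coeff_map, Polynomial.map_sub, hp₂map, sub_self,
        coeff_zero]
    have h6 := aeval_mem_smul_top I (AdjoinRoot.root (P.comp (X ^ 2 - X))) _ hD
    rwa [map_sub, haev₂, sub_zero] at h6
  -- u
  have hu1 : (1 - (1 - X ^ d) ^ d : A[X]) = X ^ d * ∑ i ∈ Finset.range d, (1 - X ^ d : A[X]) ^ i := by
    have h7 := mul_neg_geom_sum (1 - X ^ d : A[X]) d
    rw [sub_sub_cancel] at h7
    exact h7.symm
  have hu2 : (1 - X ^ d : A[X]) = (1 - X) * ∑ i ∈ Finset.range d, (X : A[X]) ^ i :=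
    (mul_neg_geom_sum (X : A[X]) d).symm
  have hu3 : (1 - (1 - X ^ d) ^ d : A[X]) * (1 - (1 - (1 - X ^ d) ^ d)) =
      (X ^ 2 - X) ^ d * ((-1) ^ d * (∑ i ∈ Finset.range d, (1 - X ^ d : A[X]) ^ i) *
        (∑ i ∈ Finset.range d, (X : A[X]) ^ i) ^ d) := by
    rw [sub_sub_cancel]
    have hA : ((1 - X ^ d : A[X])) ^ d = (1 - X) ^ d * (∑ i ∈ Finset.range d, (X : A[X]) ^ i) ^ d := by
      rw [← mul_pow, ← hu2]
    have h8 : (X ^ 2 - X : A[X]) ^ d = (-1) ^ d * (X ^ d * (1 - X) ^ d) := by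
      rw [← mul_pow, ← mul_pow]; congr 1; ring
    rw [hu1, h8, hA]
    have hsq : ((-1 : A[X]) ^ d) * ((-1) ^ d) = 1 := by
      rw [← mul_pow]; norm_num
    linear_combination (X ^ d * (1 - X) ^ d * (∑ i ∈ Finset.range d, (1 - X ^ d : A[X]) ^ i) *
        (∑ i ∈ Finset.range d, (X : A[X]) ^ i) ^ d) * (-hsq)
  have hu_idem : IsIdempotentElem
      (Ideal.Quotient.mk (Ideal.map (algebraMap A (AdjoinRoot (P.comp (X ^ 2 - X)))) I)
        (aeval (AdjoinRoot.root (P.comp (X ^ 2 - X))) (1 - (1 - X ^ d) ^ d : A[X]))) := by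
    rw [IsIdempotentElem, ← map_mul, Ideal.Quotient.eq, mem_map_iff_mem_smul_top]
    have h9 : aeval (AdjoinRoot.root (P.comp (X ^ 2 - X))) (1 - (1 - X ^ d) ^ d : A[X]) *
        aeval (AdjoinRoot.root (P.comp (X ^ 2 - X))) (1 - (1 - X ^ d) ^ d : A[X]) -
        aeval (AdjoinRoot.root (P.comp (X ^ 2 - X))) (1 - (1 - X ^ d) ^ d : A[X]) =
        aeval (AdjoinRoot.root (P.comp (X ^ 2 - X))) ((X ^ 2 - X : A[X]) ^ d) *
          (-aeval (AdjoinRoot.root (P.comp (X ^ 2 - X)))
            ((-1) ^ d * (∑ i ∈ Finset.range d, (1 - X ^ d : A[X]) ^ i) *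
              (∑ i ∈ Finset.range d, (X : A[X]) ^ i) ^ d)) := by
      have h10 := congrArg (aeval (AdjoinRoot.root (P.comp (X ^ 2 - X)))) hu3
      simp only [map_mul, map_sub, map_one] at h10 ⊢
      linear_combination (-1 : AdjoinRoot (P.comp (X ^ 2 - X))) * h10
    rw [h9]
    exact smul_top_mul I hqd _
  obtain ⟨ε, hε, hεu⟩ := hsurjOn hu_idem
  have hεu' : ε - aeval (AdjoinRoot.root (P.comp (X ^ 2 - X))) (1 - (1 - X ^ d) ^ d : A[X]) ∈
      I • (⊤ : Submodule A (AdjoinRoot (P.comp (X ^ 2 - X)))) := by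
    rw [← mem_map_iff_mem_smul_top, ← Ideal.Quotient.eq]; exact hεu
  have h8 : aeval b (1 - (1 - X ^ d) ^ d : A[X]) - b ∈ I • (⊤ : Submodule A (AdjoinRoot f)) := by
    rw [← mem_map_iff_mem_smul_top, ← Ideal.Quotient.eq_zero_iff_mem, map_sub, sub_eq_zero]
    have hbbar : IsIdempotentElem
        (Ideal.Quotient.mk (Ideal.map (algebraMap A (AdjoinRoot f)) I) b) := by
      rw [IsIdempotentElem, ← map_mul, Ideal.Quotient.eq, mem_map_iff_mem_smul_top]; exact hb
    have hae : Ideal.Quotient.mk (Ideal.map (algebraMap A (AdjoinRoot f)) I)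
        (aeval b (1 - (1 - X ^ d) ^ d : A[X])) =
        aeval (Ideal.Quotient.mk (Ideal.map (algebraMap A (AdjoinRoot f)) I) b)
          (1 - (1 - X ^ d) ^ d : A[X]) :=
      (Polynomial.aeval_algHom_apply
        (Ideal.Quotient.mkₐ A (Ideal.map (algebraMap A (AdjoinRoot f)) I)) b _).symm
    rw [hae]
    obtain ⟨d', hd'⟩ : ∃ d', d = d' + 1 := ⟨d - 1, by omega⟩
    rw [map_sub, map_one, map_pow, map_sub, map_one, map_pow, aeval_X, hd', hbbar.pow_succ_eq,
      hbbar.one_sub.pow_succ_eq, sub_sub_cancel]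
  refine ⟨AdjoinRoot.liftAlgHom (P.comp (X ^ 2 - X)) (Algebra.ofId A (AdjoinRoot f)) b hp₂b ε,
    hε.map _, ?_⟩
  have h11 := algHom_mem_smul_top I
    (AdjoinRoot.liftAlgHom (P.comp (X ^ 2 - X)) (Algebra.ofId A (AdjoinRoot f)) b hp₂b) hεu'
  rw [map_sub, ← Polynomial.aeval_algHom_apply, hθroot] at h11
  have h12 : AdjoinRoot.liftAlgHom (P.comp (X ^ 2 - X)) (Algebra.ofId A (AdjoinRoot f)) b hp₂b ε - b =
      (AdjoinRoot.liftAlgHom (P.comp (X ^ 2 - X)) (Algebra.ofId A (AdjoinRoot f)) b hp₂b ε -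
        aeval b (1 - (1 - X ^ d) ^ d : A[X])) + (aeval b (1 - (1 - X ^ d) ^ d : A[X]) - b) := by
    ring
  rw [h12]
  exact Submodule.add_mem _ h11 h8

theorem henselian_of_idem_lift (I : Ideal A) (hI : I ≤ Ideal.jacobson ⊥)
    (H : ∀ (m : ℕ) (p : A[X]), p.Monic →
      Polynomial.map (Ideal.Quotient.mk I) p =
        Polynomial.map (Ideal.Quotient.mk I) ((X ^ 2 - X) ^ m) →
      Set.SurjOn (Ideal.Quotient.mk (Ideal.map (algebraMap A (AdjoinRoot p)) I))
        {e : AdjoinRoot p | IsIdempotentElem e} {e | IsIdempotentElem e}) :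
    HenselianRing A I := by
  refine ⟨hI, ?_⟩
  intro f hf a₀ hfa hunit
  obtain ⟨h, hh⟩ := Polynomial.X_sub_C_dvd_sub_C_eval (a := a₀) (p := f)
  have hfh : f = (X - C a₀) * h + C (f.eval a₀) := by rw [← hh]; ring
  have hder : f.derivative.eval a₀ = h.eval a₀ := by
    conv_lhs => rw [hfh]
    simp
  obtain ⟨cbar, hcbar⟩ := hunit.exists_left_inv
  obtain ⟨c, rfl⟩ := Ideal.Quotient.mk_surjective cbar
  have hc : c * h.eval a₀ - 1 ∈ I := by
    rw [← hder, ← Ideal.Quotient.eq, map_mul, map_one]; exact hcbar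
  have haevf : aeval (AdjoinRoot.root f) f = 0 := by
    rw [AdjoinRoot.aeval_eq, AdjoinRoot.mk_self]
  have h2 : (AdjoinRoot.root f - algebraMap A (AdjoinRoot f) a₀) * aeval (AdjoinRoot.root f) h =
      -algebraMap A (AdjoinRoot f) (f.eval a₀) := by
    have h1 := congrArg (aeval (AdjoinRoot.root f)) hfh
    rw [haevf, map_add, map_mul, map_sub, aeval_X, aeval_C, aeval_C] at h1
    rw [eq_neg_iff_add_eq_zero]; exact h1.symm
  have hb : (c • aeval (AdjoinRoot.root f) h) * (c • aeval (AdjoinRoot.root f) h) -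
      c • aeval (AdjoinRoot.root f) h ∈ I • (⊤ : Submodule A (AdjoinRoot f)) := by
    obtain ⟨q, hq⟩ := Polynomial.X_sub_C_dvd_sub_C_eval (a := a₀) (p := (1 - C c * h : A[X]))
    have h3 := congrArg (aeval (AdjoinRoot.root f)) hq
    rw [map_sub, map_sub, map_one, map_mul, aeval_C, aeval_C, map_mul, map_sub, aeval_X,
      aeval_C] at h3
    have h4 : (1 - C c * h : A[X]).eval a₀ = -(c * h.eval a₀ - 1) := by
      rw [eval_sub, eval_one, eval_mul, eval_C]; ring
    rw [h4] at h3
    -- 1 - alg c * h(t) = (t - a₀) q(t) + alg (-(c h(a₀) - 1))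
    have h5 : (c • aeval (AdjoinRoot.root f) h) * (c • aeval (AdjoinRoot.root f) h) -
        c • aeval (AdjoinRoot.root f) h =
        (c * f.eval a₀) • aeval (AdjoinRoot.root f) q +
          (c * h.eval a₀ - 1) • (c • aeval (AdjoinRoot.root f) h) := by
      simp only [Algebra.smul_def, map_mul, map_sub, map_one, map_neg] at h3 ⊢
      linear_combination (-(algebraMap A (AdjoinRoot f) c * aeval (AdjoinRoot.root f) h)) * h3 -
        (algebraMap A (AdjoinRoot f) c * aeval (AdjoinRoot.root f) q) * h2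
    rw [h5]
    exact Submodule.add_mem _
      (Submodule.smul_mem_smul (I.mul_mem_left _ hfa) Submodule.mem_top)
      (Submodule.smul_mem_smul hc Submodule.mem_top)
  obtain ⟨e, he, heb⟩ := exists_idem_lift I H f hf _ hb
  exact root_of_idem I hI f hf a₀ c h (f.eval a₀) hfh hfa hc e he heb

end Groth.Agent.Lib.HenselPair
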