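import Mathlib
import Groth.Agent.Lib.HenselPair_lead
import Groth.Agent.Lib.HenselGabber_lead

/-!
# Gabber's trick: lifting "rank one" idempotents in finite algebras over a henselian pair
-/

namespace Groth.Agent.Lib.GabberRankOne
open Polynomial Groth.Agent.Lib.HenselPair

universe u v
variable {A : Type u} [CommRing A]

theorem pow_sub_mem {B : Type*} [CommRing B] [Algebra A B] (I : Ideal A) (b : B)
    (hb : b * b - b ∈ I • (⊤ : Submodule A B)) (m : ℕ) :
    b ^ (m + 1) - b ∈ I • (⊤ : Submodule A B) := by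
  induction m with
  | zero => simp
  | succ m ih =>
    have : b ^ (m + 1 + 1) - b = (b ^ (m + 1) - b) * b + (b * b - b) := by ring
    rw [this]
    exact Submodule.add_mem _ (smul_top_mul I ih b) hb

theorem exists_idem_of_rankOne {I : Ideal A} (hI : HenselianRing A I)
    {B : Type v} [CommRing B] [Algebra A B] [Module.Finite A B] (b : B)
    (hb : b * b - b ∈ I • (⊤ : Submodule A B))
    (hrk : ∀ x : B, ∃ a : A, b * x - a • b ∈ I • (⊤ : Submodule A B)) :
    ∃ e : B, IsIdempotentElem e ∧ e - b ∈ I • (⊤ : Submodule A B) := by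
  classical
  rcases subsingleton_or_nontrivial A with hsub | hnt
  · haveI : Subsingleton B := Module.subsingleton A _
    exact ⟨b, Subsingleton.elim _ _, by rw [sub_self]; exact Submodule.zero_mem _⟩
  obtain ⟨n₀, s₀, hs₀⟩ := Module.Finite.exists_fin (R := A) (M := B)
  -- pad the generators so that there is at least one
  obtain ⟨n, hn⟩ : ∃ n, n = n₀ + 1 := ⟨_, rfl⟩
  let s : Fin (n₀ + 1) → B := Fin.cons 0 s₀
  have hs : Submodule.span A (Set.range s) = ⊤ := by
    rw [eq_top_iff, ← hs₀]
    apply Submodule.span_mono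
    rintro _ ⟨i, rfl⟩
    exact ⟨i.succ, by simp [s]⟩
  let t : Fin (n₀ + 1 + 1) → B := Fin.cons b (fun i => (1 - b) * s i)
  have ht0 : t 0 = b := rfl
  have hts : ∀ i : Fin (n₀ + 1), t i.succ = (1 - b) * s i := fun i => by simp [t]
  have hmul : ∀ x : B, (1 - b) * x ∈ Submodule.span A (Set.range t) := by
    intro x
    have hx : x ∈ Submodule.span A (Set.range s) := by rw [hs]; trivial
    induction hx using Submodule.span_induction with
    | mem y hy =>
      obtain ⟨i, rfl⟩ := hy
      exact Submodule.subset_span ⟨i.succ, hts i⟩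
    | zero => simp
    | add y z _ _ hy hz => rw [mul_add]; exact Submodule.add_mem _ hy hz
    | smul r y _ hy => rw [mul_smul_comm]; exact Submodule.smul_mem _ r hy
  have hspan : Submodule.span A (Set.range t) = ⊤ := by
    rw [eq_top_iff]
    apply Submodule.le_of_le_smul_of_le_jacobson_bot Module.Finite.fg_top hI.jac
    intro x _
    obtain ⟨a, ha⟩ := hrk x
    have h1 : (1 - b) * x ∈ Submodule.span A (Set.range t) := hmul x
    have h2 : a • b ∈ Submodule.span A (Set.range t) :=
      Submodule.smul_mem _ a (Submodule.subset_span ⟨0, rfl⟩)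
    have : x = ((1 - b) * x + a • b) + (b * x - a • b) := by ring
    rw [this]
    exact Submodule.add_mem_sup (Submodule.add_mem _ h1 h2) ha
  -- the matrix of multiplication by b
  have hd : ∀ j : Fin (n₀ + 1 + 1), b * t j - (if j = 0 then b else 0) ∈
      I • (⊤ : Submodule A B) := by
    intro j
    refine Fin.cases ?_ (fun i => ?_) j
    · simpa [ht0] using hb
    · have : b * t i.succ - (if i.succ = 0 then b else 0) = -((b * b - b) * s i) := by
        rw [if_neg (Fin.succ_ne_zero i), hts]; ring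
      rw [this]; exact Submodule.neg_mem _ (smul_top_mul I hb _)
  have hrange : ∀ j, b * t j - (if j = 0 then b else 0) ∈
      LinearMap.range (Ideal.finsuppTotal (Fin (n₀ + 1 + 1)) B I t) := by
    intro j; rw [Ideal.range_finsuppTotal, hspan]; exact hd j
  choose c hc using hrange
  let N : Matrix (Fin (n₀ + 1 + 1)) (Fin (n₀ + 1 + 1)) A :=
    fun i j => (if i = 0 ∧ j = 0 then 1 else 0) + ((c j i : I) : A)
  have hrep : N.Represents t (LinearMap.mulLeft A b) := by
    rw [Matrix.represents_iff']
    intro j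
    have h1 := hc j
    rw [Ideal.finsuppTotal_apply_eq_of_fintype] at h1
    simp only [N, add_smul, Finset.sum_add_distrib, LinearMap.mulLeft_apply]
    rw [h1]
    have h2 : ∑ i : Fin (n₀ + 1 + 1), (if i = 0 ∧ j = 0 then (1 : A) else 0) • t i =
        if j = 0 then b else 0 := by
      by_cases hj : j = 0
      · subst hj
        simp [ht0]
      · simp [hj]
    rw [h2]; abel
  set P : A[X] := N.charpoly with hPdef
  have hPb : aeval b P = 0 := by
    let N' : Matrix.isRepresentation A t := ⟨N, LinearMap.mulLeft A b, hrep⟩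
    have h1 : Matrix.isRepresentation.toEnd A t hspan N' = LinearMap.mulLeft A b :=
      Matrix.isRepresentation.eq_toEnd_of_represents A t hspan N' hrep
    have h2 : aeval (LinearMap.mulLeft A b) P = 0 := by
      rw [← h1, Polynomial.aeval_algHom_apply,
        ← map_zero (Matrix.isRepresentation.toEnd A t hspan)]
      congr 1
      ext1
      rw [Polynomial.aeval_subalgebra_coe, Matrix.aeval_self_charpoly, Subalgebra.coe_zero]
    have h4 : LinearMap.mulLeft A b = Algebra.lmul A B b := by
      ext y; simp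
    rw [h4, Polynomial.aeval_algHom_apply] at h2
    have h5 := LinearMap.congr_fun h2 1
    simpa using h5
  have hPmap : P.map (Ideal.Quotient.mk I) = X ^ (n₀ + 1) * (X - 1) := by
    rw [hPdef, ← Matrix.charpoly_map]
    have hNmap : N.map (Ideal.Quotient.mk I) =
        Matrix.diagonal (fun i : Fin (n₀ + 1 + 1) => if i = 0 then (1 : A ⧸ I) else 0) := by
      ext i j
      have h0 : Ideal.Quotient.mk I ((c j i : I) : A) = 0 :=
        Ideal.Quotient.eq_zero_iff_mem.mpr (c j i).2
      simp only [Matrix.map_apply, N, map_add, h0, add_zero, Matrix.diagonal_apply]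
      by_cases hi : i = 0
      · by_cases hj : j = 0
        · simp [hi, hj]
        · have h1 : ¬ (0 : Fin (n₀ + 1 + 1)) = j := fun h => hj h.symm
          simp [hi, hj, h1]
      · by_cases hij : i = j
        · have : ¬ j = 0 := by rw [← hij]; exact hi
          simp [hi, hij, this]
        · simp [hi, hij]
    rw [hNmap, Matrix.charpoly_diagonal, Fin.prod_univ_succ]
    simp [Fin.succ_ne_zero, mul_comm]
  -- the Gabber polynomial
  have hPmonic : P.Monic := Matrix.charpoly_monic N
  have hPdeg : P.natDegree = n₀ + 1 + 1 := by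
    rw [hPdef, Matrix.charpoly_natDegree_eq_dim]; simp
  set F0 : A[X] := X ^ (n₀ + 1) * (X - 1) with hF0
  have hF0monic : F0.Monic := by
    have := (monic_X_pow (R := A) (n₀ + 1)).mul (monic_X_sub_C (1 : A))
    simpa using this
  have hF0deg : F0.natDegree = n₀ + 1 + 1 := by
    have h1 : (X - 1 : A[X]) = X - C 1 := by simp
    rw [hF0, h1, (monic_X_pow (R := A) (n₀ + 1)).natDegree_mul (monic_X_sub_C (1 : A)),
      natDegree_X_pow, natDegree_X_sub_C]
  set p : A[X] := P - F0 with hp
  have hpdeg : p.natDegree ≤ n₀ + 1 := by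
    rw [Polynomial.natDegree_le_iff_coeff_eq_zero]
    intro k hk
    rw [hp, coeff_sub]
    rcases Nat.lt_or_ge (n₀ + 1 + 1) k with h | h
    · rw [coeff_eq_zero_of_natDegree_lt (by rw [hPdeg]; exact h),
        coeff_eq_zero_of_natDegree_lt (by rw [hF0deg]; exact h), sub_zero]
    · have hk' : k = n₀ + 1 + 1 := by omega
      have h1 := hPmonic.coeff_natDegree
      have h2 := hF0monic.coeff_natDegree
      rw [hPdeg] at h1; rw [hF0deg] at h2
      rw [hk', h1, h2, sub_self]
  have hpI : ∀ i, p.coeff i ∈ I := by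
    intro i
    rw [← Ideal.Quotient.eq_zero_iff_mem, ← Polynomial.coeff_map]
    have : p.map (Ideal.Quotient.mk I) = 0 := by
      rw [hp, Polynomial.map_sub, hPmap, hF0]; simp
    rw [this]; simp
  have hFP : X ^ (n₀ + 1) * (X - 1) + p = P := by rw [hp, hF0]; ring
  obtain ⟨α, ⟨hα1, hαroot⟩, -⟩ := Groth.Agent.Lib.HenselGabberLead.gabber_of_henselian hI (n₀ + 1) p hpdeg hpI
  rw [hFP] at hαroot
  set G : A[X] := P /ₘ (X - C α) with hGdef
  have hG : (X - C α) * G = P := Polynomial.mul_divByMonic_eq_iff_isRoot.mpr hαroot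
  have hα' : Ideal.Quotient.mk I α = 1 := by
    rw [← sub_eq_zero, ← map_one (Ideal.Quotient.mk I), ← map_sub]
    exact Ideal.Quotient.eq_zero_iff_mem.mpr hα1
  have hGmap : G.map (Ideal.Quotient.mk I) = X ^ (n₀ + 1) := by
    have h1 := congrArg (Polynomial.map (Ideal.Quotient.mk I)) hG
    rw [Polynomial.map_mul, Polynomial.map_sub, map_X, map_C, hα', hPmap] at h1
    have h2 : (X - C (1 : A ⧸ I)) * G.map (Ideal.Quotient.mk I) =
        (X - C (1 : A ⧸ I)) * X ^ (n₀ + 1) := by
      rw [h1]; simp [mul_comm]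
    exact (monic_X_sub_C (1 : A ⧸ I)).isRegular.left h2
  have hGI : ∀ i, (G - X ^ (n₀ + 1)).coeff i ∈ I := by
    intro i
    rw [← Ideal.Quotient.eq_zero_iff_mem, ← Polynomial.coeff_map]
    have : (G - X ^ (n₀ + 1)).map (Ideal.Quotient.mk I) = 0 := by
      rw [Polynomial.map_sub, hGmap]; simp
    rw [this]; simp
  have hGα : G.eval α - 1 ∈ I := by
    have : Ideal.Quotient.mk I (G.eval α) = 1 := by
      rw [← Polynomial.eval₂_at_apply, ← Polynomial.eval_map, hGmap, hα']; simp
    rw [← Ideal.Quotient.eq_zero_iff_mem, map_sub, this, map_one, sub_self]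
  have hu : IsUnit (G.eval α) := by
    have := (Ideal.mem_jacobson_bot.mp (hI.jac hGα)) 1
    simpa using this
  obtain ⟨u, hu⟩ := hu
  set Gb : B := aeval b G with hGb
  have hbG : (b - algebraMap A B α) * Gb = 0 := by
    have := hPb
    rw [← hG, map_mul, map_sub, aeval_X, aeval_C] at this
    exact this
  have hq : ∀ q : A[X], aeval b q * Gb = q.eval α • Gb := by
    intro q
    obtain ⟨h, hh⟩ := Polynomial.X_sub_C_dvd_sub_C_eval (a := α) (p := q)
    have hq' : q = (X - C α) * h + C (q.eval α) := by rw [← hh]; ring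
    conv_lhs => rw [hq']
    rw [map_add, map_mul, map_sub, aeval_X, aeval_C, aeval_C, add_mul,
      mul_right_comm, hbG, zero_mul, zero_add, Algebra.smul_def]
  refine ⟨(↑u⁻¹ : A) • Gb, ?_, ?_⟩
  · show (↑u⁻¹ : A) • Gb * ((↑u⁻¹ : A) • Gb) = (↑u⁻¹ : A) • Gb
    rw [smul_mul_smul_comm, hq G, ← hu, smul_smul, mul_assoc, Units.inv_mul, mul_one]
  · have h1 : Gb - b ∈ I • (⊤ : Submodule A B) := by
      have : Gb - b = aeval b (G - X ^ (n₀ + 1)) + (b ^ (n₀ + 1) - b) := by
        rw [map_sub, map_pow, aeval_X]; ring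
      rw [this]
      exact Submodule.add_mem _ (aeval_mem_smul_top I b _ hGI) (pow_sub_mem I b hb n₀)
    have h2 : (↑u⁻¹ : A) - 1 ∈ I := by
      have : (↑u⁻¹ : A) - 1 = -(↑u⁻¹ : A) * (G.eval α - 1) := by
        rw [← hu]; ring_nf; rw [Units.inv_mul]; ring
      rw [this]; exact I.mul_mem_left _ hGα
    have : (↑u⁻¹ : A) • Gb - b = (↑u⁻¹ : A) • (Gb - b) + ((↑u⁻¹ : A) - 1) • b := by
      rw [smul_sub, sub_smul, one_smul]; abel
    rw [this]
    exact Submodule.add_mem _ (Submodule.smul_mem _ _ h1)
      (Submodule.smul_mem_smul h2 Submodule.mem_top)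

end Groth.Agent.Lib.GabberRankOne
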