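import Mathlib

/-!
# A global form of Zariski's main theorem for quasi-finite algebras of finite type
-/

namespace Groth.Agent.Lib.GabberZMT

universe u
variable {R : Type u} {S : Type u} [CommRing R] [CommRing S] [Algebra R S]

/-- If `S` is quasi-finite and of finite type over `R`, there is a finite subalgebra `B ⊆ S` and finitely
many `r ∈ B` generating the unit ideal of `S` with `B[1/r] = S[1/r]`. -/
theorem exists_finite_subalgebra [Algebra.FiniteType R S] [Algebra.QuasiFinite R S] :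
    ∃ (B : Subalgebra R S) (T : Finset S), B.toSubmodule.FG ∧ (↑T : Set S) ⊆ B ∧
      Ideal.span (↑T : Set S) = ⊤ ∧ ∀ w : S, ∀ r ∈ T, ∃ N : ℕ, r ^ N * w ∈ B := by
  classical
  let Good : Set S := {r | IsIntegral R r ∧ ∀ x, ∃ m : ℕ, IsIntegral R (r ^ m * x)}
  have hspan : Ideal.span Good = ⊤ := by
    by_contra h
    obtain ⟨q, hq, hle⟩ := Ideal.exists_le_maximal _ h
    haveI : q.IsPrime := hq.isPrime
    obtain ⟨r, hrq, hr1, hr2⟩ := Algebra.zariskisMainProperty_iff.mp
      (Algebra.ZariskisMainProperty.of_finiteType (R := R) q)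
    exact hrq (hle (Ideal.subset_span ⟨hr1, hr2⟩))
  have h1 : (1 : S) ∈ Ideal.span Good := by rw [hspan]; trivial
  obtain ⟨T, hTG, hT1⟩ := Submodule.mem_span_finite_of_mem_span h1
  have hTspan : Ideal.span (↑T : Set S) = ⊤ := (Ideal.eq_top_iff_one _).mpr hT1
  obtain ⟨s, hs⟩ := Algebra.FiniteType.out (R := R) (A := S)
  have hm : ∀ r ∈ T, ∀ x : S, ∃ m : ℕ, IsIntegral R (r ^ m * x) := fun r hr x => (hTG hr).2 x
  choose! m hm using hm
  let gens : Set S := (↑T : Set S) ∪ ⋃ r ∈ (↑T : Set S), (fun x => r ^ m r x * x) '' (↑s : Set S)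
  have hgfin : gens.Finite := by
    refine T.finite_toSet.union ?_
    exact Set.Finite.biUnion T.finite_toSet (fun r _ => s.finite_toSet.image _)
  have hgint : ∀ x ∈ gens, IsIntegral R x := by
    rintro x (hx | hx)
    · exact (hTG hx).1
    · simp only [Set.mem_iUnion, Set.mem_image] at hx
      obtain ⟨r, hr, y, hy, rfl⟩ := hx
      exact hm r hr y
  refine ⟨Algebra.adjoin R gens, T, fg_adjoin_of_finite hgfin hgint, ?_, hTspan, ?_⟩
  · intro r hr; exact Algebra.subset_adjoin (Or.inl hr)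
  · intro w r hr
    have hrB : r ∈ Algebra.adjoin R gens := Algebra.subset_adjoin (Or.inl hr)
    have hw : w ∈ Algebra.adjoin R (↑s : Set S) := by rw [hs]; trivial
    induction hw using Algebra.adjoin_induction with
    | mem x hx =>
      exact ⟨m r x, Algebra.subset_adjoin (Or.inr (Set.mem_biUnion hr ⟨x, hx, rfl⟩))⟩
    | algebraMap a => exact ⟨0, by simpa using Subalgebra.algebraMap_mem _ a⟩
    | add x y _ _ hx hy =>
      obtain ⟨N, hN⟩ := hx; obtain ⟨M, hM⟩ := hy
      refine ⟨N + M, ?_⟩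
      have : r ^ (N + M) * (x + y) = r ^ M * (r ^ N * x) + r ^ N * (r ^ M * y) := by ring
      rw [this]
      exact Subalgebra.add_mem _ (Subalgebra.mul_mem _ (Subalgebra.pow_mem _ hrB _) hN)
        (Subalgebra.mul_mem _ (Subalgebra.pow_mem _ hrB _) hM)
    | mul x y _ _ hx hy =>
      obtain ⟨N, hN⟩ := hx; obtain ⟨M, hM⟩ := hy
      refine ⟨N + M, ?_⟩
      have : r ^ (N + M) * (x * y) = (r ^ N * x) * (r ^ M * y) := by ring
      rw [this]; exact Subalgebra.mul_mem _ hN hM

end Groth.Agent.Lib.GabberZMT
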