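import Mathlib
import Groth.Agent.Lib.GabberRankOne_lead
import Groth.Agent.Lib.GabberZMT_lead

/-!
# Henselian pairs: lifting sections of étale algebras (Gabber's argument)
-/

namespace Groth.Agent.Lib.GabberEtale
open Polynomial Groth.Agent.Lib.HenselPair

universe u
variable {A : Type u} [CommRing A]

/-- For a formally unramified algebra with a section modulo `I`, the kernel `J` of the section satisfies
`J = J² + I A'`. -/
theorem ker_le_sq_sup {I : Ideal A} (A' : Type u) [CommRing A'] [Algebra A A']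
    [Algebra.FormallyUnramified A A'] (σ : A' →ₐ[A] A ⧸ I) :
    RingHom.ker σ ≤ RingHom.ker σ * RingHom.ker σ ⊔ I.map (algebraMap A A') := by
  set J : Ideal A' := RingHom.ker σ with hJ
  set L : Ideal A' := J * J ⊔ I.map (algebraMap A A') with hL
  let N : Ideal (A' ⧸ L) := J.map (Ideal.Quotient.mk L)
  have hN : IsNilpotent N := by
    refine ⟨2, ?_⟩
    rw [pow_two, ← Ideal.map_mul, Ideal.zero_eq_bot, Ideal.map_eq_bot_iff_le_ker, Ideal.mk_ker]
    exact le_sup_left
  let g₁ : A' →ₐ[A] A' ⧸ L := Ideal.Quotient.mkₐ A L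
  let ρ : A ⧸ I →ₐ[A] A' ⧸ L := Ideal.Quotient.liftₐ I (Algebra.ofId A (A' ⧸ L)) (by
    intro a ha
    show algebraMap A (A' ⧸ L) a = 0
    rw [IsScalarTower.algebraMap_apply A A' (A' ⧸ L)]
    exact Ideal.Quotient.eq_zero_iff_mem.mpr (Ideal.mem_sup_right (Ideal.mem_map_of_mem _ ha)))
  have hρ : ∀ a : A, ρ (Ideal.Quotient.mk I a) = algebraMap A (A' ⧸ L) a := fun a => rfl
  let g₂ : A' →ₐ[A] A' ⧸ L := ρ.comp σ
  have H : ∀ x, Ideal.Quotient.mk N (g₁ x) = Ideal.Quotient.mk N (g₂ x) := by
    intro x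
    obtain ⟨a, ha⟩ := Ideal.Quotient.mk_surjective (σ x)
    rw [Ideal.Quotient.eq]
    have h1 : g₂ x = algebraMap A (A' ⧸ L) a := by
      show ρ (σ x) = _
      rw [← ha, hρ]
    have h2 : x - algebraMap A A' a ∈ J := by
      rw [hJ, RingHom.mem_ker, map_sub, AlgHom.commutes, ← ha]
      exact sub_self _
    have h3 : g₁ x - g₂ x = Ideal.Quotient.mk L (x - algebraMap A A' a) := by
      rw [h1, map_sub, IsScalarTower.algebraMap_apply A A' (A' ⧸ L)]; rfl
    rw [h3]
    exact Ideal.mem_map_of_mem _ h2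
  have hg : g₁ = g₂ := Algebra.FormallyUnramified.ext N hN H
  intro w hw
  have h1 : g₁ w = g₂ w := by rw [hg]
  have h2 : g₂ w = 0 := by
    show ρ (σ w) = 0
    rw [(RingHom.mem_ker).mp hw, map_zero]
  rw [h2] at h1
  exact Ideal.Quotient.eq_zero_iff_mem.mp h1

theorem exists_almost_idem {B : Type*} [CommRing B] (Y IB : Ideal B) (hY : Y.FG)
    (h : Y ≤ Y * Y ⊔ IB) : ∃ b : B, b - 1 ∈ Y ∧ ∀ y ∈ Y, b * y ∈ IB := by
  let N : Submodule B (B ⧸ IB) := Submodule.map (Submodule.mkQ IB) Y
  have hN : N.FG := Submodule.FG.map (Submodule.mkQ IB) hY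
  have hin : N ≤ Y • N := by
    rw [Submodule.map_le_iff_le_comap]
    intro y hy
    obtain ⟨p, hp, z, hz, rfl⟩ := Submodule.mem_sup.mp (h hy)
    rw [Submodule.mem_comap, map_add]
    have hz0 : Submodule.mkQ IB z = 0 := by
      rw [Submodule.mkQ_apply, Submodule.Quotient.mk_eq_zero]; exact hz
    rw [hz0, add_zero]
    have hp' : p ∈ Y • (Y : Submodule B B) := by rw [Ideal.smul_eq_mul]; exact hp
    have : Submodule.mkQ IB p ∈ Submodule.map (Submodule.mkQ IB) (Y • (Y : Submodule B B)) :=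
      Submodule.mem_map_of_mem hp'
    rwa [Submodule.map_smul''] at this
  obtain ⟨r, hr1, hr2⟩ :=
    Submodule.exists_sub_one_mem_and_smul_eq_zero_of_fg_of_le_smul Y N hN hin
  refine ⟨r, hr1, fun y hy => ?_⟩
  have := hr2 (Submodule.mkQ IB y) (Submodule.mem_map_of_mem hy)
  rw [← map_smul, Submodule.mkQ_apply, Submodule.Quotient.mk_eq_zero, smul_eq_mul] at this
  exact this

theorem exists_partition {I : Ideal A} {A' : Type u} [CommRing A'] [Algebra A A']
    (σ : A' →ₐ[A] A ⧸ I) (T : Finset A') (hTspan : Ideal.span (↑T : Set A') = ⊤) (M : ℕ) :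
    ∃ a : T → A, σ ((1 : A') - ∑ i : T, a i • (i : A') ^ M) = 0 := by
  have h1 : Ideal.span (Set.range fun i : T => (i : A') ^ M) = ⊤ := by
    have := Ideal.span_pow_eq_top (↑T : Set A') hTspan M
    convert this using 2
    ext x
    simp [Set.mem_image, Set.mem_range]
  have h2 : (1 : A') ∈ Ideal.span (Set.range fun i : T => (i : A') ^ M) := by rw [h1]; trivial
  obtain ⟨c, hc⟩ := Ideal.mem_span_range_iff_exists_fun.mp h2
  have hc' : ∑ i : T, c i * (i : A') ^ M = 1 := hc
  have hsurj : ∀ i : T, ∃ a : A, Ideal.Quotient.mk I a = σ (c i) :=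
    fun i => Ideal.Quotient.mk_surjective _
  choose a ha using hsurj
  refine ⟨a, ?_⟩
  have key : σ (∑ i : T, a i • (i : A') ^ M) = 1 := by
    rw [← map_one σ, ← hc', map_sum, map_sum]
    refine Finset.sum_congr rfl fun i _ => ?_
    rw [map_smul, map_mul, Algebra.smul_def, ← ha i]; rfl
  rw [map_sub, map_one, key, sub_self]

/-- **Étale sections lift over a henselian pair.** -/
theorem exists_lift {I : Ideal A} (hI : HenselianRing A I)
    (A' : Type u) [CommRing A'] [Algebra A A'] [Algebra.Etale A A'] (σ : A' →ₐ[A] A ⧸ I) :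
    ∃ τ : A' →ₐ[A] A, (Ideal.Quotient.mkₐ A I).comp τ = σ := by
  classical
  haveI : Algebra.FiniteType A A' := inferInstance
  haveI : Algebra.QuasiFinite A A' := inferInstance
  haveI : Module.Flat A A' := inferInstance
  obtain ⟨B, T, hBfg, hTB, hTspan, hP⟩ := GabberZMT.exists_finite_subalgebra (R := A) (S := A')
  haveI : Module.Finite A B := ⟨(Submodule.fg_top _).mpr hBfg⟩
  have hmk : ∀ a : A, algebraMap A (A ⧸ I) a = Ideal.Quotient.mk I a := fun _ => rfl
  have hunit : ∀ a : A, a ∈ I → IsUnit (1 - a) := by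
    intro a ha
    have := (Ideal.mem_jacobson_bot.mp (hI.jac (I.neg_mem ha))) 1
    have h2 : -a * 1 + 1 = 1 - a := by ring
    rwa [h2] at this
  have hJsq := ker_le_sq_sup A' σ
  let σB : B →ₐ[A] A ⧸ I := σ.comp B.val
  have hσB : ∀ x : B, σB x = σ (x : A') := fun _ => rfl
  set JB : Ideal B := RingHom.ker σB.toRingHom with hJBdef
  have hmemJB : ∀ x : B, x ∈ JB ↔ σB x = 0 := fun x => by
    rw [hJBdef, RingHom.mem_ker]; rfl
  set IB : Ideal B := I.map (algebraMap A B) with hIBdef
  have hIBJB : IB ≤ JB := by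
    rw [hIBdef, Ideal.map_le_iff_le_comap]
    intro a ha
    rw [Ideal.mem_comap, hmemJB, AlgHom.commutes, hmk]
    exact Ideal.Quotient.eq_zero_iff_mem.mpr ha
  have hIBtop : ∀ x : B, x ∈ IB ↔ x ∈ I • (⊤ : Submodule A B) :=
    fun x => mem_map_iff_mem_smul_top I x
  let rB : T → B := fun i => ⟨i, hTB i.2⟩
  have hrB : ∀ i : T, ((rB i : B) : A') = i := fun _ => rfl
  -- partition of unity modulo `JB`
  have hPU : ∀ M : ℕ, ∃ a : T → A, (1 - ∑ i : T, a i • rB i ^ M : B) ∈ JB := by
    intro M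
    obtain ⟨a, ha⟩ := exists_partition σ T hTspan M
    refine ⟨a, ?_⟩
    rw [hmemJB, hσB]
    have : ((1 - ∑ i : T, a i • rB i ^ M : B) : A') = 1 - ∑ i : T, a i • (i : A') ^ M := by
      simp [rB]
    rw [this]; exact ha
  -- uniform exponents
  have hPM : ∀ w : A', ∃ M : ℕ, ∀ i : T, (i : A') ^ M * w ∈ B := by
    intro w
    have h := fun i : T => hP w i i.2
    choose Nf hNf using h
    refine ⟨Finset.univ.sup Nf, fun i => ?_⟩
    have hle : Nf i ≤ Finset.univ.sup Nf := Finset.le_sup (Finset.mem_univ i)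
    obtain ⟨k, hk⟩ := Nat.exists_eq_add_of_le hle
    rw [hk, pow_add, mul_right_comm]
    exact B.mul_mem (hNf i) (B.pow_mem (hTB i.2) k)
  -- Step 3
  have hclaim3 : JB ≤ JB * JB ⊔ IB := by
    let LB : Ideal B := JB * JB ⊔ IB
    let Q : Ideal A' :=
      { carrier := {w | ∀ i : T, ∃ M : ℕ, ∃ y : B, y ∈ LB ∧ (y : A') = (i : A') ^ M * w}
        add_mem' := by
          intro w w' hw hw' i
          obtain ⟨M, y, hy, hyw⟩ := hw i
          obtain ⟨M', y', hy', hyw'⟩ := hw' i
          refine ⟨M + M', rB i ^ M' * y + rB i ^ M * y',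
            LB.add_mem (LB.mul_mem_left _ hy) (LB.mul_mem_left _ hy'), ?_⟩
          simp only [Subalgebra.coe_add, Subalgebra.coe_mul, Subalgebra.coe_pow, hyw, hyw', hrB]
          ring
        zero_mem' := fun i => ⟨0, 0, LB.zero_mem, by simp⟩
        smul_mem' := by
          intro c w hw i
          obtain ⟨M, y, hy, hyw⟩ := hw i
          obtain ⟨M', hM'⟩ := hPM c
          refine ⟨M' + M, ⟨(i : A') ^ M' * c, hM' i⟩ * y, LB.mul_mem_left _ hy, ?_⟩
          simp only [Subalgebra.coe_mul, hyw, smul_eq_mul]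
          ring }
    have hmemQ : ∀ w : A', w ∈ Q ↔
        ∀ i : T, ∃ M : ℕ, ∃ y : B, y ∈ LB ∧ (y : A') = (i : A') ^ M * w := fun _ => Iff.rfl
    have hJJQ : RingHom.ker σ * RingHom.ker σ ≤ Q := by
      rw [Ideal.mul_le]
      intro j₁ h₁ j₂ h₂
      rw [hmemQ]
      intro i
      obtain ⟨M₁, hM₁⟩ := hPM j₁
      obtain ⟨M₂, hM₂⟩ := hPM j₂
      have hy₁ : (⟨(i : A') ^ M₁ * j₁, hM₁ i⟩ : B) ∈ JB := by
        rw [hmemJB, hσB]
        show σ ((i : A') ^ M₁ * j₁) = 0
        rw [map_mul, (RingHom.mem_ker).mp h₁, mul_zero]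
      have hy₂ : (⟨(i : A') ^ M₂ * j₂, hM₂ i⟩ : B) ∈ JB := by
        rw [hmemJB, hσB]
        show σ ((i : A') ^ M₂ * j₂) = 0
        rw [map_mul, (RingHom.mem_ker).mp h₂, mul_zero]
      refine ⟨M₁ + M₂, ⟨_, hM₁ i⟩ * ⟨_, hM₂ i⟩, Ideal.mem_sup_left (Ideal.mul_mem_mul hy₁ hy₂), ?_⟩
      simp only [Subalgebra.coe_mul]
      ring
    have hIQ : I.map (algebraMap A A') ≤ Q := by
      rw [Ideal.map_le_iff_le_comap]
      intro a ha
      rw [Ideal.mem_comap, hmemQ]
      intro i
      refine ⟨0, algebraMap A B a, Ideal.mem_sup_right (Ideal.mem_map_of_mem _ ha), ?_⟩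
      simp
    intro x hx
    have hxJ : (x : A') ∈ RingHom.ker σ := by
      rw [RingHom.mem_ker]; exact (hmemJB x).mp hx
    have hxQ : (x : A') ∈ Q := (sup_le hJJQ hIQ) (hJsq hxJ)
    rw [hmemQ] at hxQ
    choose Mf yf hyf hyfw using hxQ
    have hrx : ∀ i : T, rB i ^ (Finset.univ.sup Mf) * x ∈ LB := by
      intro i
      obtain ⟨k, hk⟩ := Nat.exists_eq_add_of_le (Finset.le_sup (f := Mf) (Finset.mem_univ i))
      have : rB i ^ Mf i * x = yf i := Subtype.ext (by
        rw [hyfw i]; simp [hrB])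
      rw [hk, pow_add, mul_right_comm, this]
      exact LB.mul_mem_right _ (hyf i)
    obtain ⟨a, ha⟩ := hPU (Finset.univ.sup Mf)
    have hx_eq : x = (1 - ∑ i : T, a i • rB i ^ (Finset.univ.sup Mf)) * x +
        ∑ i : T, a i • (rB i ^ (Finset.univ.sup Mf) * x) := by
      rw [sub_mul, one_mul, Finset.sum_mul]
      simp only [smul_mul_assoc]
      abel
    rw [hx_eq]
    refine LB.add_mem (Ideal.mem_sup_left (Ideal.mul_mem_mul ha hx)) (LB.sum_mem fun i _ => ?_)
    rw [Algebra.smul_def]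
    exact LB.mul_mem_left _ (hrx i)
  -- generators of `JB` modulo `IB`
  obtain ⟨n, s, hs⟩ := Module.Finite.exists_fin (R := A) (M := B)
  have hsa : ∀ l : Fin n, ∃ a : A, Ideal.Quotient.mk I a = σB (s l) :=
    fun l => Ideal.Quotient.mk_surjective _
  choose as has using hsa
  let y : Fin n → B := fun l => s l - as l • 1
  have hyJB : ∀ l, y l ∈ JB := by
    intro l
    rw [hmemJB, map_sub, map_smul, map_one, ← has l, Algebra.smul_def, mul_one, hmk, sub_self]
  let Y : Ideal B := Ideal.span (Set.range y)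
  have hYfg : Y.FG := Submodule.fg_span (Set.finite_range y)
  have hYJB : Y ≤ JB := Ideal.span_le.mpr (by rintro _ ⟨l, rfl⟩; exact hyJB l)
  have hJBY : JB ≤ Y ⊔ IB := by
    intro x hx
    have hx' : x ∈ Submodule.span A (Set.range s) := by rw [hs]; trivial
    obtain ⟨c, hc⟩ := (Submodule.mem_span_range_iff_exists_fun A).mp hx'
    have hdecomp : x = ∑ l, c l • y l + (∑ l, c l * as l) • (1 : B) := by
      rw [← hc, Finset.sum_smul, ← Finset.sum_add_distrib]
      refine Finset.sum_congr rfl fun l _ => ?_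
      simp only [y, smul_sub, mul_smul]; abel
    have hY1 : ∑ l, c l • y l ∈ Y := Y.sum_mem fun l _ => by
      rw [Algebra.smul_def]; exact Y.mul_mem_left _ (Ideal.subset_span ⟨l, rfl⟩)
    have h2 : (∑ l, c l * as l) • (1 : B) ∈ JB := by
      have : (∑ l, c l * as l) • (1 : B) = x - ∑ l, c l • y l := by
        rw [hdecomp]; abel
      rw [this]; exact JB.sub_mem hx (hYJB hY1)
    have hsumI : (∑ l, c l * as l) ∈ I := by
      rw [hmemJB, map_smul, map_one, Algebra.smul_def, mul_one, hmk] at h2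
      exact Ideal.Quotient.eq_zero_iff_mem.mp h2
    rw [hdecomp]
    refine Submodule.add_mem_sup hY1 ?_
    rw [Algebra.smul_def, mul_one]
    exact Ideal.mem_map_of_mem _ hsumI
  have hY2 : Y ≤ Y * Y ⊔ IB := by
    intro v hv
    have h1 := hclaim3 (hYJB hv)
    obtain ⟨p, hp, z, hz, rfl⟩ := Submodule.mem_sup.mp h1
    have hle : JB * JB ≤ Y * Y ⊔ IB := by
      rw [Ideal.mul_le]
      intro u hu w hw
      obtain ⟨u₁, hu₁, u₂, hu₂, rfl⟩ := Submodule.mem_sup.mp (hJBY hu)
      obtain ⟨w₁, hw₁, w₂, hw₂, rfl⟩ := Submodule.mem_sup.mp (hJBY hw)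
      have : (u₁ + u₂) * (w₁ + w₂) = u₁ * w₁ + (u₁ * w₂ + u₂ * (w₁ + w₂)) := by ring
      rw [this]
      exact Submodule.add_mem_sup (Ideal.mul_mem_mul hu₁ hw₁)
        (IB.add_mem (IB.mul_mem_left _ hw₂) (IB.mul_mem_right _ hu₂))
    exact (Y * Y ⊔ IB).add_mem (hle hp) (Ideal.mem_sup_right hz)
  obtain ⟨b, hb1, hb2⟩ := exists_almost_idem Y IB hYfg hY2
  have hbJB : ∀ x ∈ JB, b * x ∈ IB := by
    intro x hx
    obtain ⟨u₁, hu₁, u₂, hu₂, rfl⟩ := Submodule.mem_sup.mp (hJBY hx)
    rw [mul_add]; exact IB.add_mem (hb2 _ hu₁) (IB.mul_mem_left _ hu₂)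
  have hσb : σB b = 1 := by
    have : σB (b - 1) = 0 := (hmemJB _).mp (hYJB hb1)
    rw [map_sub, map_one, sub_eq_zero] at this; exact this
  have hb : b * b - b ∈ I • (⊤ : Submodule A B) := by
    rw [← hIBtop]
    have : b * b - b = b * (b - 1) := by ring
    rw [this]; exact hb2 _ hb1
  have hxa : ∀ x : B, ∃ a : A, x - a • (1 : B) ∈ JB := by
    intro x
    obtain ⟨a, ha⟩ := Ideal.Quotient.mk_surjective (σB x)
    refine ⟨a, ?_⟩
    rw [hmemJB, map_sub, map_smul, map_one, Algebra.smul_def, mul_one, hmk, ha, sub_self]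
  have hrk : ∀ x : B, ∃ a : A, b * x - a • b ∈ I • (⊤ : Submodule A B) := by
    intro x
    obtain ⟨a, ha⟩ := hxa x
    refine ⟨a, ?_⟩
    rw [← hIBtop]
    have : b * x - a • b = b * (x - a • 1) := by rw [mul_sub, mul_smul_comm, mul_one]
    rw [this]; exact hbJB _ ha
  obtain ⟨e, he, heb⟩ := GabberRankOne.exists_idem_of_rankOne hI b hb hrk
  have hee : e * e = e := he
  have hebIB : e - b ∈ IB := (hIBtop _).mpr heb
  have hσe : σB e = 1 := by
    have : σB (e - b) = 0 := (hmemJB _).mp (hIBJB hebIB)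
    rw [map_sub, hσb, sub_eq_zero] at this; exact this
  -- Step 5: `B e = A e`
  let Be : Submodule A B := LinearMap.range (LinearMap.mulRight A e)
  have hBemem : ∀ x : B, x * e ∈ Be := fun x => ⟨x, by simp⟩
  have hBefg : Be.FG := by
    have := (Module.Finite.fg_top (R := A) (M := B)).map (LinearMap.mulRight A e)
    rwa [← LinearMap.range_eq_map] at this
  have hIe : ∀ u : B, u ∈ I • (⊤ : Submodule A B) → u * e ∈ I • Be := by
    intro u hu
    refine Submodule.smul_induction_on hu ?_ ?_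
    · intro r hr t _
      rw [smul_mul_assoc]
      exact Submodule.smul_mem_smul hr (hBemem t)
    · intro u v hu hv; rw [add_mul]; exact Submodule.add_mem _ hu hv
  have hstep5 : ∀ x : B, ∃ a : A, x * e = a • e := by
    have hle : Be ≤ Submodule.span A {e} ⊔ I • Be := by
      rintro _ ⟨x, rfl⟩
      rw [LinearMap.mulRight_apply]
      obtain ⟨a, ha⟩ := hxa x
      have hv : (x - a • 1) * e ∈ IB := by
        have h1 : (x - a • 1) * e = b * (x - a • 1) + (x - a • 1) * (e - b) := by ring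
        rw [h1]; exact IB.add_mem (hbJB _ ha) (IB.mul_mem_left _ hebIB)
      have hv2 : (x - a • 1) * e ∈ I • Be := by
        have : (x - a • 1) * e = ((x - a • 1) * e) * e := by rw [mul_assoc, hee]
        rw [this]; exact hIe _ ((hIBtop _).mp hv)
      have : x * e = a • e + (x - a • 1) * e := by
        rw [sub_mul, smul_mul_assoc, one_mul]; abel
      rw [this]
      exact Submodule.add_mem_sup (Submodule.smul_mem _ a (Submodule.subset_span rfl)) hv2
    have hle' := Submodule.le_of_le_smul_of_le_jacobson_bot hBefg hI.jac hle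
    intro x
    obtain ⟨a, ha⟩ := Submodule.mem_span_singleton.mp (hle' (hBemem x))
    exact ⟨a, ha.symm⟩
  -- Step 6: in `A'`
  set e' : A' := (e : A') with he'
  have he'e' : e' * e' = e' := by
    have := congrArg (fun z : B => (z : A')) hee
    simpa using this
  have hσe' : σ e' = 1 := hσe
  have hstep6 : ∀ w : A', ∃ a : A, w * e' = a • e' := by
    intro w
    obtain ⟨M, hM⟩ := hPM w
    obtain ⟨a, ha⟩ := hPU M
    set d : B := 1 - ∑ i : T, a i • rB i ^ M with hd
    obtain ⟨ad, had⟩ := hstep5 d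
    have hadI : ad ∈ I := by
      have h1 : σB (d * e) = 0 := by rw [map_mul, (hmemJB d).mp ha, zero_mul]
      rw [had, map_smul, hσe, Algebra.smul_def, mul_one, hmk] at h1
      exact Ideal.Quotient.eq_zero_iff_mem.mp h1
    obtain ⟨u, hu⟩ := hunit ad hadI
    have hα : ∀ i : T, ∃ α : A, (⟨(i : A') ^ M * w, hM i⟩ : B) * e = α • e := fun i => hstep5 _
    choose α hα using hα
    have h1 : (1 - ad) • e = ∑ i : T, a i • (rB i ^ M * e) := by
      have : e = d * e + ∑ i : T, a i • (rB i ^ M * e) := by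
        rw [hd, sub_mul, one_mul, Finset.sum_mul]
        simp only [smul_mul_assoc]
        abel
      rw [sub_smul, one_smul, ← had]
      exact sub_eq_of_eq_add' this
    have h2 : (1 - ad) • (w * e') = (∑ i : T, a i * α i) • e' := by
      have h1' := congrArg (fun z : B => w * B.val z) h1
      simp only [map_smul, map_sum, map_mul, map_pow, Subalgebra.coe_val, hrB] at h1'
      rw [mul_smul_comm] at h1'
      rw [h1', Finset.mul_sum, Finset.sum_smul]
      refine Finset.sum_congr rfl fun i _ => ?_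
      have h3 := congrArg (fun z : B => (z : A')) (hα i)
      simp only [Subalgebra.coe_mul, Subalgebra.coe_smul] at h3
      rw [mul_smul_comm, mul_smul, ← h3]
      congr 1
      show w * ((i : A') ^ M * e') = (i : A') ^ M * w * e'
      ring
    refine ⟨(↑u⁻¹ : A) * ∑ i : T, a i * α i, ?_⟩
    rw [mul_smul, ← h2, ← mul_smul, ← hu, Units.inv_mul, one_smul]
  -- annihilators of `e'`
  have hannI : ∀ a : A, a • e' = 0 → a ∈ I := by
    intro a ha
    have := congrArg σ ha
    rw [map_smul, hσe', map_zero, Algebra.smul_def, mul_one, hmk] at this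
    exact Ideal.Quotient.eq_zero_iff_mem.mp this
  have hinj0 : ∀ a : A, a • e' = 0 → a = 0 := by
    intro a ha
    have htriv : Module.IsTrivialRelation (fun _ : Fin 1 => a) (fun _ : Fin 1 => e') := by
      apply Module.Flat.isTrivialRelation_of_sum_smul_eq_zero
      simp only [Finset.univ_unique, Finset.sum_singleton]
      exact ha
    obtain ⟨k, c, yy, h1, h2⟩ := htriv
    have hβ : ∀ j : Fin k, ∃ β : A, yy j * e' = β • e' := fun j => hstep6 _
    choose β hβ using hβ
    set D : A := ∑ j, c 0 j * β j with hD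
    have hDe : D • e' = e' := by
      have h3 : e' = ∑ j, c 0 j • yy j := h1 0
      calc D • e' = ∑ j, (c 0 j * β j) • e' := by rw [hD, Finset.sum_smul]
        _ = ∑ j, c 0 j • (yy j * e') := by
            refine Finset.sum_congr rfl fun j _ => ?_
            rw [hβ j, mul_smul]
        _ = (∑ j, c 0 j • yy j) * e' := by
            rw [Finset.sum_mul]; simp only [smul_mul_assoc]
        _ = e' := by rw [← h3, he'e']
    have haD : a * D = 0 := by
      rw [hD, Finset.mul_sum]
      refine Finset.sum_eq_zero fun j _ => ?_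
      have := h2 j
      simp only [Finset.univ_unique, Finset.sum_singleton] at this
      rw [← mul_assoc]
      have h0 : (default : Fin 1) = 0 := rfl
      rw [h0] at this
      rw [this, zero_mul]
    have h1D : (1 - D) ∈ I := hannI _ (by rw [sub_smul, one_smul, hDe, sub_self])
    obtain ⟨u, hu⟩ := hunit (1 - D) h1D
    have huD : (u : A) = D := by rw [hu]; ring
    have hDu : IsUnit D := huD ▸ u.isUnit
    exact (hDu.mul_left_eq_zero).mp haD
  have hinj : ∀ a a' : A, a • e' = a' • e' → a = a' := by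
    intro a a' h
    have : (a - a') • e' = 0 := by rw [sub_smul, h, sub_self]
    exact sub_eq_zero.mp (hinj0 _ this)
  choose τf hτf using hstep6
  let τ : A' →ₐ[A] A :=
    { toFun := τf
      map_one' := hinj _ _ (by rw [← hτf, one_mul, one_smul])
      map_mul' := fun w w' => hinj _ _ (by
        calc τf (w * w') • e' = (w * w') * e' := (hτf _).symm
          _ = w * (w' * e') := mul_assoc _ _ _
          _ = w * (τf w' • e') := by rw [hτf w']
          _ = τf w' • (w * e') := by rw [mul_smul_comm]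
          _ = τf w' • τf w • e' := by rw [hτf w]
          _ = (τf w * τf w') • e' := by rw [mul_comm, mul_smul])
      map_zero' := hinj _ _ (by rw [← hτf, zero_mul, zero_smul])
      map_add' := fun w w' => hinj _ _ (by rw [← hτf, add_mul, hτf w, hτf w', add_smul])
      commutes' := fun a => hinj _ _ (by
        rw [← hτf, Algebra.smul_def]; rfl) }
  refine ⟨τ, AlgHom.ext fun w => ?_⟩
  show Ideal.Quotient.mk I (τf w) = σ w
  have := congrArg σ (hτf w)
  rw [map_mul, hσe', mul_one, map_smul, hσe', Algebra.smul_def, mul_one, hmk] at this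
  exact this.symm

/-- Conversely, lifting of étale sections implies henselian. -/
theorem henselian_of_lift {I : Ideal A}
    (H : ∀ (A' : Type u) [CommRing A'] [Algebra A A'] [Algebra.Etale A A'] (σ : A' →ₐ[A] A ⧸ I),
      ∃ τ : A' →ₐ[A] A, (Ideal.Quotient.mkₐ A I).comp τ = σ) : HenselianRing A I := by
  have hmk : ∀ a : A, algebraMap A (A ⧸ I) a = Ideal.Quotient.mk I a := fun _ => rfl
  refine ⟨?_, ?_⟩
  · intro x hx
    rw [Ideal.mem_jacobson_bot]
    intro y
    set g : A := x * y + 1 with hg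
    have hg1 : Ideal.Quotient.mk I g = 1 := by
      rw [hg, map_add, map_mul, Ideal.Quotient.eq_zero_iff_mem.mpr hx, zero_mul, zero_add, map_one]
    let σ : Localization.Away g →ₐ[A] A ⧸ I :=
      IsLocalization.liftAlgHom (M := Submonoid.powers g) (f := Ideal.Quotient.mkₐ A I) (by
        rintro ⟨_, n, rfl⟩
        show IsUnit (Ideal.Quotient.mk I (g ^ n))
        rw [map_pow, hg1, one_pow]; exact isUnit_one)
    obtain ⟨τ, -⟩ := H (Localization.Away g) σ
    have h1 : IsUnit (algebraMap A (Localization.Away g) g) :=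
      IsLocalization.Away.algebraMap_isUnit g
    have h2 := h1.map τ
    rwa [AlgHom.commutes] at h2
  · intro f hf a₀ h₁ h₂
    let P : StandardEtalePair A := ⟨f, hf, derivative f, ⟨1, 0, 1, by simp⟩⟩
    have hev : ∀ q : A[X], aeval (Ideal.Quotient.mk I a₀) q = Ideal.Quotient.mk I (q.eval a₀) := by
      intro q
      rw [aeval_def]
      exact Polynomial.eval₂_at_apply (Ideal.Quotient.mk I) a₀
    have hmap : P.HasMap (Ideal.Quotient.mk I a₀) := by
      refine ⟨?_, ?_⟩
      · show aeval (Ideal.Quotient.mk I a₀) f = 0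
        rw [hev]; exact Ideal.Quotient.eq_zero_iff_mem.mpr h₁
      · show IsUnit (aeval (Ideal.Quotient.mk I a₀) (derivative f))
        rw [hev]; exact h₂
    let σ : P.Ring →ₐ[A] A ⧸ I := P.lift _ hmap
    obtain ⟨τ, hτ⟩ := H P.Ring σ
    refine ⟨τ P.X, ?_, ?_⟩
    · have h := (StandardEtalePair.hasMap_X (P := P)).1
      have h3 : aeval (τ P.X) f = 0 := by
        rw [Polynomial.aeval_algHom_apply]
        show τ (aeval P.X P.f) = 0
        rw [h, map_zero]
      rw [IsRoot.def]
      simpa using h3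
    · have h := AlgHom.congr_fun hτ P.X
      have h2 : σ P.X = Ideal.Quotient.mk I a₀ := StandardEtalePair.lift_X _ _ hmap
      rw [← Ideal.Quotient.eq_zero_iff_mem, map_sub, sub_eq_zero, ← h2, ← h]
      rfl

end Groth.Agent.Lib.GabberEtale
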