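import Mathlib

/-!
# The Jacobian locus of a square system is étale
-/

namespace Groth.Agent.Lib.JacEtale

open Algebra MvPolynomial

universe u

/-- For a square system `V` of polynomial equations, the localization of the quotient at the Jacobian
determinant is étale. -/
theorem etale_away_jacobian {R : Type u} [CommRing R] {ι σ : Type} [Finite ι] [Finite σ]
    (V : σ → MvPolynomial ι R) (m : σ → ι) (hm : Function.Injective m)
    (hcard : Nat.card ι = Nat.card σ) :
    Algebra.Etale R
      (Localization.Away (PreSubmersivePresentation.naive (v := V) m hm).jacobian) := by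
  classical
  let P₀ : PreSubmersivePresentation R (MvPolynomial ι R ⧸ Ideal.span (Set.range V)) ι σ :=
    PreSubmersivePresentation.naive (v := V) m hm
  let Δ : MvPolynomial ι R ⧸ Ideal.span (Set.range V) := P₀.jacobian
  let Q : SubmersivePresentation (MvPolynomial ι R ⧸ Ideal.span (Set.range V))
      (Localization.Away Δ) Unit Unit :=
    SubmersivePresentation.localizationAway (Localization.Away Δ) Δ
  let QP : PreSubmersivePresentation R (Localization.Away Δ) (Unit ⊕ ι) (Unit ⊕ σ) :=
    Q.toPreSubmersivePresentation.comp P₀
  have hjac : IsUnit QP.jacobian := by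
    show IsUnit (Q.toPreSubmersivePresentation.comp P₀).jacobian
    rw [PreSubmersivePresentation.comp_jacobian_eq_jacobian_smul_jacobian, Algebra.smul_def,
      IsUnit.mul_iff]
    refine ⟨?_, Q.jacobian_isUnit⟩
    exact IsLocalization.map_units _ (⟨Δ, 1, by simp⟩ : Submonoid.powers Δ)
  let SP : SubmersivePresentation R (Localization.Away Δ) (Unit ⊕ ι) (Unit ⊕ σ) := ⟨QP, hjac⟩
  have hSPdim : SP.dimension = 0 := by
    show (Q.toPreSubmersivePresentation.comp P₀).dimension = 0
    rw [PreSubmersivePresentation.dimension_comp_eq_dimension_add_dimension]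
    have h1 : Q.dimension = 0 := by simp [Presentation.dimension]
    have h2 : P₀.dimension = 0 := by
      show Nat.card ι - Nat.card σ = 0
      rw [hcard, Nat.sub_self]
    rw [h1, h2]
  haveI : Algebra.IsStandardSmoothOfRelativeDimension 0 R (Localization.Away Δ) :=
    SP.isStandardSmoothOfRelativeDimension hSPdim
  exact Algebra.Etale.iff_isStandardSmoothOfRelativeDimension_zero.mpr inferInstance

end Groth.Agent.Lib.JacEtale
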