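import Mathlib
import Groth.Agent.Lib.GabberEtale_lead
import Groth.Agent.Lib.JacEtale_lead

/-!
# Multi-variable Hensel lemma for henselian pairs, and lifting idempotents of finite free algebras
-/

namespace Groth.Agent.Lib.GabberMultiHensel
open MvPolynomial Groth.Agent.Lib.HenselPair

universe u
variable {A : Type u} [CommRing A]

/-- Multi-variable Hensel lemma for henselian pairs. -/
theorem exists_solution {I : Ideal A} (hI : HenselianRing A I) {d : ℕ}
    (V : Fin d → MvPolynomial (Fin d) A) (x₀ : Fin d → A)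
    (h0 : ∀ k, eval x₀ (V k) ∈ I)
    (hJ : IsUnit (Ideal.Quotient.mk I
      (Matrix.det (Matrix.of fun i j : Fin d => eval x₀ (pderiv i (V j)))))) :
    ∃ x : Fin d → A, (∀ k, eval x (V k) = 0) ∧ ∀ i, x i - x₀ i ∈ I := by
  classical
  let P₀ : Algebra.PreSubmersivePresentation A
      (MvPolynomial (Fin d) A ⧸ Ideal.span (Set.range V)) (Fin d) (Fin d) :=
    Algebra.PreSubmersivePresentation.naive (v := V) (id : Fin d → Fin d) Function.injective_id
  set Δ : MvPolynomial (Fin d) A ⧸ Ideal.span (Set.range V) := P₀.jacobian with hΔdef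
  haveI : Algebra.Etale A (Localization.Away Δ) :=
    JacEtale.etale_away_jacobian V id Function.injective_id rfl
  let xb : Fin d → A ⧸ I := fun i => Ideal.Quotient.mk I (x₀ i)
  have hxb : ∀ p : MvPolynomial (Fin d) A, aeval xb p = Ideal.Quotient.mk I (eval x₀ p) := by
    intro p
    show eval₂ (algebraMap A (A ⧸ I)) xb p = Ideal.Quotient.mk I (eval₂ (RingHom.id A) x₀ p)
    rw [MvPolynomial.eval₂_comp_left (Ideal.Quotient.mk I) (RingHom.id A) x₀ p]
    rfl
  have hkill : ∀ p ∈ Ideal.span (Set.range V), aeval xb p = 0 := by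
    intro p hp
    refine Submodule.span_induction ?_ ?_ ?_ ?_ hp
    · rintro _ ⟨k, rfl⟩
      rw [hxb]; exact Ideal.Quotient.eq_zero_iff_mem.mpr (h0 k)
    · exact map_zero _
    · intro a b _ _ ha hb; rw [map_add, ha, hb, add_zero]
    · intro c a _ ha; rw [smul_eq_mul, map_mul, ha, mul_zero]
  let σ₀ : (MvPolynomial (Fin d) A ⧸ Ideal.span (Set.range V)) →ₐ[A] A ⧸ I :=
    Ideal.Quotient.liftₐ _ (aeval xb) hkill
  have hσ₀ : ∀ p, σ₀ (Ideal.Quotient.mk _ p) = aeval xb p := fun p => rfl
  have hΔ : σ₀ Δ = Ideal.Quotient.mk I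
      (Matrix.det (Matrix.of fun i j : Fin d => eval x₀ (pderiv i (V j)))) := by
    rw [hΔdef, Algebra.PreSubmersivePresentation.jacobian_eq_jacobiMatrix_det]
    show σ₀ (Ideal.Quotient.mk _ P₀.jacobiMatrix.det) = _
    rw [hσ₀, AlgHom.map_det, RingHom.map_det]
    congr 1
    ext i j
    simp only [AlgHom.mapMatrix_apply, Matrix.map_apply, RingHom.mapMatrix_apply, Matrix.of_apply]
    rw [show P₀.jacobiMatrix i j = (V j).pderiv (id i) from
      Algebra.PreSubmersivePresentation.jacobiMatrix_naive _ _ _ _ i j, hxb]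
    rfl
  let σ : Localization.Away Δ →ₐ[A] A ⧸ I :=
    IsLocalization.liftAlgHom (M := Submonoid.powers Δ) (f := σ₀) (by
      rintro ⟨_, n, rfl⟩
      show IsUnit (σ₀ (Δ ^ n))
      rw [map_pow, hΔ]; exact hJ.pow n)
  have hσ : ∀ q, σ (algebraMap _ (Localization.Away Δ) q) = σ₀ q := fun q =>
    IsLocalization.lift_eq _ q
  obtain ⟨τ, hτ⟩ := GabberEtale.exists_lift hI (Localization.Away Δ) σ
  let ψ : MvPolynomial (Fin d) A →ₐ[A] A :=
    τ.comp ((IsScalarTower.toAlgHom A (MvPolynomial (Fin d) A ⧸ Ideal.span (Set.range V))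
      (Localization.Away Δ)).comp (Ideal.Quotient.mkₐ A _))
  let x : Fin d → A := fun i => ψ (X i)
  have hψ : ψ = aeval x := by
    apply MvPolynomial.algHom_ext
    intro i
    rw [aeval_X]
  refine ⟨x, fun k => ?_, fun i => ?_⟩
  · have h1 : eval x (V k) = ψ (V k) := by rw [hψ]; rfl
    have h2 : ψ (V k) = τ (algebraMap (MvPolynomial (Fin d) A ⧸ Ideal.span (Set.range V))
        (Localization.Away Δ) (Ideal.Quotient.mk (Ideal.span (Set.range V)) (V k))) := rfl
    have h3 : Ideal.Quotient.mk (Ideal.span (Set.range V)) (V k) = 0 :=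
      Ideal.Quotient.eq_zero_iff_mem.mpr (Ideal.subset_span (Set.mem_range_self k))
    rw [h1, h2, h3, map_zero, map_zero]
  · rw [← Ideal.Quotient.eq_zero_iff_mem, map_sub, sub_eq_zero]
    have h2 := AlgHom.congr_fun hτ (algebraMap (MvPolynomial (Fin d) A ⧸ Ideal.span (Set.range V))
      (Localization.Away Δ) (Ideal.Quotient.mk (Ideal.span (Set.range V)) (X i)))
    have h3 : Ideal.Quotient.mk I (x i) = σ (algebraMap
        (MvPolynomial (Fin d) A ⧸ Ideal.span (Set.range V)) (Localization.Away Δ)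
        (Ideal.Quotient.mk (Ideal.span (Set.range V)) (X i))) := h2
    rw [h3, hσ, hσ₀, aeval_X]

/-- partial derivatives of a quadratic form, evaluated -/
theorem eval_pderiv_quad {d : ℕ} (a : Fin d → Fin d → A) (x : Fin d → A) (l : Fin d) :
    eval x (pderiv l (∑ i, ∑ j, C (a i j) * X i * X j)) = ∑ j, (a l j + a j l) * x j := by
  classical
  simp only [map_sum, pderiv_mul, pderiv_C, pderiv_X, zero_mul, zero_add, map_add, map_mul,
    eval_C, eval_X, Pi.single_apply]
  simp only [apply_ite (eval x), map_one, map_zero, mul_ite, ite_mul, mul_one, mul_zero, zero_mul,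
    Finset.sum_add_distrib]
  rw [Finset.sum_comm]
  simp only [Finset.sum_ite_eq', Finset.mem_univ, if_true, ← Finset.sum_add_distrib]
  refine Finset.sum_congr rfl fun j _ => by ring

/-- Idempotents lift in finite free algebras over a henselian pair. -/
theorem exists_idem_lift_of_basis {I : Ideal A} (hI : HenselianRing A I) {B : Type*} [CommRing B]
    [Algebra A B] {d : ℕ} (β : Module.Basis (Fin d) A B) (b₀ : B)
    (hb₀ : b₀ * b₀ - b₀ ∈ I • (⊤ : Submodule A B)) :
    ∃ e : B, IsIdempotentElem e ∧ e - b₀ ∈ I • (⊤ : Submodule A B) := by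
  classical
  let c : Fin d → Fin d → Fin d → A := fun i j k => β.repr (β i * β j) k
  have hcsymm : ∀ i j k, c i j k = c j i k := fun i j k => by
    show β.repr (β i * β j) k = β.repr (β j * β i) k
    rw [mul_comm]
  have mulrepr : ∀ (x y : Fin d → A) (k : Fin d),
      β.repr ((∑ i, x i • β i) * (∑ j, y j • β j)) k = ∑ i, ∑ j, x i * y j * c i j k := by
    intro x y k
    rw [Finset.sum_mul_sum]
    simp only [smul_mul_smul_comm, map_sum, map_smul, Finsupp.finsetSum_apply, Finsupp.smul_apply,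
      smul_eq_mul, c]
  have hreprI : ∀ z : B, z ∈ I • (⊤ : Submodule A B) → ∀ k, β.repr z k ∈ I := by
    intro z hz k
    refine Submodule.smul_induction_on hz ?_ ?_
    · intro r hr t _
      rw [map_smul, Finsupp.smul_apply, smul_eq_mul]
      exact I.mul_mem_right _ hr
    · intro u v hu hv
      rw [map_add, Finsupp.add_apply]; exact I.add_mem hu hv
  let V : Fin d → MvPolynomial (Fin d) A :=
    fun k => (∑ i, ∑ j, C (c i j k) * X i * X j) - X k
  have heval : ∀ (x : Fin d → A) (k : Fin d),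
      eval x (V k) = β.repr ((∑ i, x i • β i) * (∑ i, x i • β i) - ∑ i, x i • β i) k := by
    intro x k
    have hR : β.repr ((∑ i, x i • β i) * (∑ i, x i • β i) - ∑ i, x i • β i) k =
        (∑ i, ∑ j, x i * x j * c i j k) - x k := by
      rw [map_sub, Finsupp.sub_apply, mulrepr, β.repr_sum_self]
    rw [hR]
    simp only [V, map_sub, map_sum, map_mul, eval_C, eval_X]
    congr 1
    refine Finset.sum_congr rfl fun i _ => Finset.sum_congr rfl fun j _ => by ring
  let x₀ : Fin d → A := fun i => β.repr b₀ i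
  have hx₀ : ∑ i, x₀ i • β i = b₀ := β.sum_repr b₀
  have h0 : ∀ k, eval x₀ (V k) ∈ I := by
    intro k
    rw [heval, hx₀]
    exact hreprI _ hb₀ k
  -- the Jacobian
  have hmulβ : ∀ (l k : Fin d), β.repr (b₀ * β l) k = ∑ j, x₀ j * c j l k := by
    intro l k
    conv_lhs => rw [← hx₀, Finset.sum_mul]
    simp only [smul_mul_assoc, map_sum, map_smul, Finsupp.finsetSum_apply, Finsupp.smul_apply,
      smul_eq_mul, c]
  have hJentry : ∀ l k : Fin d, eval x₀ (pderiv l (V k)) =
      Algebra.leftMulMatrix β (2 • b₀ - 1) k l := by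
    intro l k
    rw [Algebra.leftMulMatrix_eq_repr_mul]
    have h1 : (2 • b₀ - 1) * β l = 2 • (b₀ * β l) - β l := by
      rw [sub_mul, one_mul, smul_mul_assoc]
    have hR : β.repr (2 • (b₀ * β l) - β l) k =
        2 • (∑ j, x₀ j * c j l k) - (if l = k then 1 else 0) := by
      rw [map_sub, map_nsmul, Finsupp.sub_apply, Finsupp.smul_apply, hmulβ,
        Module.Basis.repr_self_apply]
    rw [h1, hR]
    show eval x₀ (pderiv l ((∑ i, ∑ j, C (c i j k) * X i * X j) - X k)) = _
    rw [map_sub, map_sub, eval_pderiv_quad, pderiv_X, Pi.single_apply]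
    have h2 : ∑ j, (c l j k + c j l k) * x₀ j = 2 • ∑ j, x₀ j * c j l k := by
      rw [Finset.smul_sum]
      refine Finset.sum_congr rfl fun j _ => ?_
      rw [hcsymm l j k]; simp only [nsmul_eq_mul]; ring
    rw [h2]
    congr 1
    by_cases hkl : k = l
    · subst hkl; simp
    · have : ¬ l = k := fun h => hkl h.symm
      simp [hkl, this]
  have hJmat : (Matrix.of fun l k : Fin d => eval x₀ (pderiv l (V k))) =
      (Algebra.leftMulMatrix β (2 • b₀ - 1)).transpose := by
    ext l k
    rw [Matrix.of_apply, Matrix.transpose_apply, hJentry]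
  have hJ : IsUnit (Ideal.Quotient.mk I
      (Matrix.det (Matrix.of fun l k : Fin d => eval x₀ (pderiv l (V k))))) := by
    rw [hJmat, Matrix.det_transpose]
    set y : B := 2 • b₀ - 1 with hy
    set z : B := 4 • (b₀ * b₀ - b₀) with hz
    have hyy : y * y = 1 + z := by rw [hy, hz]; simp only [nsmul_eq_mul]; push_cast; ring
    have hzI : z ∈ I • (⊤ : Submodule A B) := by
      rw [hz]; exact Submodule.smul_of_tower_mem _ 4 hb₀
    have hLz : (Ideal.Quotient.mk I).mapMatrix (Algebra.leftMulMatrix β z) = 0 := by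
      ext i j
      rw [RingHom.mapMatrix_apply, Matrix.map_apply, Algebra.leftMulMatrix_eq_repr_mul,
        Matrix.zero_apply, Ideal.Quotient.eq_zero_iff_mem]
      exact hreprI _ (smul_top_mul I hzI _) i
    have h1 : Ideal.Quotient.mk I (Algebra.leftMulMatrix β y).det *
        Ideal.Quotient.mk I (Algebra.leftMulMatrix β y).det = 1 := by
      rw [← map_mul, ← Matrix.det_mul, ← map_mul, hyy, map_add, map_one, RingHom.map_det,
        map_add, map_one, hLz, add_zero, Matrix.det_one]
    exact IsUnit.of_mul_eq_one _ h1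
  obtain ⟨x, hxV, hxI⟩ := exists_solution hI V x₀ h0 hJ
  refine ⟨∑ i, x i • β i, ?_, ?_⟩
  · show (∑ i, x i • β i) * (∑ i, x i • β i) = ∑ i, x i • β i
    rw [← sub_eq_zero]
    apply β.repr.injective
    ext k
    rw [← heval, hxV k, map_zero, Finsupp.zero_apply]
  · rw [← hx₀, ← Finset.sum_sub_distrib]
    refine Submodule.sum_mem _ fun i _ => ?_
    rw [← sub_smul]
    exact Submodule.smul_mem_smul (hxI i) Submodule.mem_top

end Groth.Agent.Lib.GabberMultiHensel
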