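import Mathlib
import Groth.Agent.Lib.GabberMultiHensel_lead

/-!
# Lifting idempotents in finite and integral algebras over a henselian pair
-/

namespace Groth.Agent.Lib.GabberIdem
open Polynomial Groth.Agent.Lib.HenselPair

universe u
variable {A : Type u} [CommRing A]

theorem surjOn_adjoinRoot {I : Ideal A} (hI : HenselianRing A I) (p : A[X]) (hp : p.Monic) :
    Set.SurjOn (Ideal.Quotient.mk (Ideal.map (algebraMap A (AdjoinRoot p)) I))
      {e : AdjoinRoot p | IsIdempotentElem e} {e | IsIdempotentElem e} := by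
  intro ebar hebar
  obtain ⟨b, rfl⟩ := Ideal.Quotient.mk_surjective ebar
  have hb : b * b - b ∈ I • (⊤ : Submodule A (AdjoinRoot p)) := by
    rw [← mem_map_iff_mem_smul_top, ← Ideal.Quotient.eq, map_mul]; exact hebar
  obtain ⟨e, he, heb⟩ := GabberMultiHensel.exists_idem_lift_of_basis hI
    (AdjoinRoot.powerBasis' hp).basis b hb
  refine ⟨e, he, ?_⟩
  rw [Ideal.Quotient.eq, mem_map_iff_mem_smul_top]; exact heb

/-- Idempotents lift in finite algebras over a henselian pair. -/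
theorem exists_idem_lift_finite {I : Ideal A} (hI : HenselianRing A I) {B : Type*} [CommRing B]
    [Algebra A B] [Module.Finite A B] (b : B) (hb : b * b - b ∈ I • (⊤ : Submodule A B)) :
    ∃ e : B, IsIdempotentElem e ∧ e - b ∈ I • (⊤ : Submodule A B) := by
  classical
  rcases subsingleton_or_nontrivial A with hsub | hnt
  · haveI : Subsingleton B := Module.subsingleton A _
    exact ⟨b, Subsingleton.elim _ _, by rw [sub_self]; exact Submodule.zero_mem _⟩
  have hrange : LinearMap.range (LinearMap.mulLeft A (b * b - b)) ≤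
      I • (⊤ : Submodule A B) := by
    rintro _ ⟨s, rfl⟩
    exact smul_top_mul I hb s
  obtain ⟨P, hPm, -, hPc, hPa⟩ :=
    LinearMap.exists_monic_and_natDegree_eq_and_coeff_mem_pow_and_aeval_eq_zero A
      (LinearMap.mulLeft A (b * b - b)) I hrange
  have hPb : aeval (b * b - b) P = 0 := by
    have h1 : aeval (Algebra.lmul A B (b * b - b)) P =
        Algebra.lmul A B (aeval (b * b - b) P) :=
      Polynomial.aeval_algHom_apply _ _ _
    have h2 : (Algebra.lmul A B (b * b - b) : Module.End A B) =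
        LinearMap.mulLeft A (b * b - b) := rfl
    rw [h2, hPa] at h1
    have h3 := congrArg (fun φ : Module.End A B => φ 1) h1
    simpa using h3.symm
  obtain ⟨d, hd⟩ : ∃ d, d = P.natDegree := ⟨_, rfl⟩
  rcases Nat.eq_zero_or_pos d with hd0 | hdpos
  · have hP1 : P = 1 := by
      have hPm' : P.Monic := hPm
      rw [← hPm'.natDegree_eq_zero, ← hd]; exact hd0
    rw [hP1, map_one] at hPb
    have hall : ∀ x : B, x = 0 := fun x => by rw [← mul_one x, hPb, mul_zero]
    refine ⟨b, ?_, by rw [sub_self]; exact Submodule.zero_mem _⟩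
    rw [IsIdempotentElem, hall (b * b), hall b]
  have hq2 : (X ^ 2 - X : A[X]).Monic :=
    Polynomial.monic_X_pow_sub (by rw [degree_X]; exact_mod_cast (by norm_num : (1 : ℕ) < 2))
  have hnd2 : (X ^ 2 - X : A[X]).natDegree = 2 := by
    rw [natDegree_sub_eq_left_of_natDegree_lt, natDegree_X_pow]
    rw [natDegree_X_pow, natDegree_X]; norm_num
  have hp₂m : (P.comp (X ^ 2 - X)).Monic := hPm.comp hq2 (by rw [hnd2]; norm_num)
  have hPmap : P.map (Ideal.Quotient.mk I) = X ^ d := by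
    ext k
    rw [coeff_map, coeff_X_pow]
    rcases lt_trichotomy k d with hk | hk | hk
    · rw [if_neg (ne_of_lt hk), Ideal.Quotient.eq_zero_iff_mem]
      have h4 := hPc k
      rw [← hd] at h4
      exact Ideal.pow_le_self (Nat.sub_ne_zero_of_lt hk) h4
    · rw [if_pos hk, hk, hd, coeff_natDegree, hPm.leadingCoeff, map_one]
    · rw [if_neg (ne_of_gt hk), coeff_eq_zero_of_natDegree_lt (hd ▸ hk), map_zero]
  have hp₂map : (P.comp (X ^ 2 - X)).map (Ideal.Quotient.mk I) =
      ((X ^ 2 - X : A[X]) ^ d).map (Ideal.Quotient.mk I) := by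
    rw [Polynomial.map_comp, hPmap, X_pow_comp, Polynomial.map_pow]
  have hsurjOn := surjOn_adjoinRoot hI _ hp₂m
  have hp₂b : (P.comp (X ^ 2 - X)).eval₂ (algebraMap A B) b = 0 := by
    rw [← aeval_def, aeval_comp]
    have h5 : aeval b (X ^ 2 - X : A[X]) = b * b - b := by
      rw [map_sub, map_pow, aeval_X, sq]
    rw [h5]; exact hPb
  have hθroot : AdjoinRoot.liftAlgHom (P.comp (X ^ 2 - X)) (Algebra.ofId A B) b hp₂b
      (AdjoinRoot.root _) = b := AdjoinRoot.liftAlgHom_root _ _ _ _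
  have haev₂ : aeval (AdjoinRoot.root (P.comp (X ^ 2 - X))) (P.comp (X ^ 2 - X)) = 0 := by
    rw [AdjoinRoot.aeval_eq, AdjoinRoot.mk_self]
  -- (X^2 - X)^d evaluates into I • ⊤
  have hqd : aeval (AdjoinRoot.root (P.comp (X ^ 2 - X))) ((X ^ 2 - X : A[X]) ^ d) ∈
      I • (⊤ : Submodule A (AdjoinRoot (P.comp (X ^ 2 - X)))) := by
    have hD : ∀ n, ((X ^ 2 - X : A[X]) ^ d - P.comp (X ^ 2 - X)).coeff n ∈ I := by
      intro n
      rw [← Ideal.Quotient.eq_zero_iff_mem, ← coeff_map, Polynomial.map_sub, hp₂map, sub_self,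
        coeff_zero]
    have h6 := aeval_mem_smul_top I (AdjoinRoot.root (P.comp (X ^ 2 - X))) _ hD
    rwa [map_sub, haev₂, sub_zero] at h6
  -- u
  have hu1 : (1 - (1 - X ^ d) ^ d : A[X]) = X ^ d * ∑ i ∈ Finset.range d, (1 - X ^ d : A[X]) ^ i := by
    have h7 := mul_neg_geom_sum (1 - X ^ d : A[X]) d
    rw [sub_sub_cancel] at h7
    exact h7.symm
  have hu2 : (1 - X ^ d : A[X]) = (1 - X) * ∑ i ∈ Finset.range d, (X : A[X]) ^ i :=
    (mul_neg_geom_sum (X : A[X]) d).symm
  have hu3 : (1 - (1 - X ^ d) ^ d : A[X]) * (1 - (1 - (1 - X ^ d) ^ d)) =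
      (X ^ 2 - X) ^ d * ((-1) ^ d * (∑ i ∈ Finset.range d, (1 - X ^ d : A[X]) ^ i) *
        (∑ i ∈ Finset.range d, (X : A[X]) ^ i) ^ d) := by
    rw [sub_sub_cancel]
    have hA : ((1 - X ^ d : A[X])) ^ d = (1 - X) ^ d * (∑ i ∈ Finset.range d, (X : A[X]) ^ i) ^ d := by
      rw [← mul_pow, ← hu2]
    have h8 : (X ^ 2 - X : A[X]) ^ d = (-1) ^ d * (X ^ d * (1 - X) ^ d) := by
      rw [← mul_pow, ← mul_pow]; congr 1; ring
    rw [hu1, h8, hA]
    have hsq : ((-1 : A[X]) ^ d) * ((-1) ^ d) = 1 := by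
      rw [← mul_pow]; norm_num
    linear_combination (X ^ d * (1 - X) ^ d * (∑ i ∈ Finset.range d, (1 - X ^ d : A[X]) ^ i) *
        (∑ i ∈ Finset.range d, (X : A[X]) ^ i) ^ d) * (-hsq)
  have hu_idem : IsIdempotentElem
      (Ideal.Quotient.mk (Ideal.map (algebraMap A (AdjoinRoot (P.comp (X ^ 2 - X)))) I)
        (aeval (AdjoinRoot.root (P.comp (X ^ 2 - X))) (1 - (1 - X ^ d) ^ d : A[X]))) := by
    rw [IsIdempotentElem, ← map_mul, Ideal.Quotient.eq, mem_map_iff_mem_smul_top]
    have h9 : aeval (AdjoinRoot.root (P.comp (X ^ 2 - X))) (1 - (1 - X ^ d) ^ d : A[X]) *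
        aeval (AdjoinRoot.root (P.comp (X ^ 2 - X))) (1 - (1 - X ^ d) ^ d : A[X]) -
        aeval (AdjoinRoot.root (P.comp (X ^ 2 - X))) (1 - (1 - X ^ d) ^ d : A[X]) =
        aeval (AdjoinRoot.root (P.comp (X ^ 2 - X))) ((X ^ 2 - X : A[X]) ^ d) *
          (-aeval (AdjoinRoot.root (P.comp (X ^ 2 - X)))
            ((-1) ^ d * (∑ i ∈ Finset.range d, (1 - X ^ d : A[X]) ^ i) *
              (∑ i ∈ Finset.range d, (X : A[X]) ^ i) ^ d)) := by
      have h10 := congrArg (aeval (AdjoinRoot.root (P.comp (X ^ 2 - X)))) hu3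
      simp only [map_mul, map_sub, map_one] at h10 ⊢
      linear_combination (-1 : AdjoinRoot (P.comp (X ^ 2 - X))) * h10
    rw [h9]
    exact smul_top_mul I hqd _
  obtain ⟨ε, hε, hεu⟩ := hsurjOn hu_idem
  have hεu' : ε - aeval (AdjoinRoot.root (P.comp (X ^ 2 - X))) (1 - (1 - X ^ d) ^ d : A[X]) ∈
      I • (⊤ : Submodule A (AdjoinRoot (P.comp (X ^ 2 - X)))) := by
    rw [← mem_map_iff_mem_smul_top, ← Ideal.Quotient.eq]; exact hεu
  have h8 : aeval b (1 - (1 - X ^ d) ^ d : A[X]) - b ∈ I • (⊤ : Submodule A B) := by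
    rw [← mem_map_iff_mem_smul_top, ← Ideal.Quotient.eq_zero_iff_mem, map_sub, sub_eq_zero]
    have hbbar : IsIdempotentElem
        (Ideal.Quotient.mk (Ideal.map (algebraMap A B) I) b) := by
      rw [IsIdempotentElem, ← map_mul, Ideal.Quotient.eq, mem_map_iff_mem_smul_top]; exact hb
    have hae : Ideal.Quotient.mk (Ideal.map (algebraMap A B) I)
        (aeval b (1 - (1 - X ^ d) ^ d : A[X])) =
        aeval (Ideal.Quotient.mk (Ideal.map (algebraMap A B) I) b)
          (1 - (1 - X ^ d) ^ d : A[X]) :=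
      (Polynomial.aeval_algHom_apply
        (Ideal.Quotient.mkₐ A (Ideal.map (algebraMap A B) I)) b _).symm
    rw [hae]
    obtain ⟨d', hd'⟩ : ∃ d', d = d' + 1 := ⟨d - 1, by omega⟩
    rw [map_sub, map_one, map_pow, map_sub, map_one, map_pow, aeval_X, hd', hbbar.pow_succ_eq,
      hbbar.one_sub.pow_succ_eq, sub_sub_cancel]
  refine ⟨AdjoinRoot.liftAlgHom (P.comp (X ^ 2 - X)) (Algebra.ofId A B) b hp₂b ε,
    hε.map _, ?_⟩
  have h11 := algHom_mem_smul_top I
    (AdjoinRoot.liftAlgHom (P.comp (X ^ 2 - X)) (Algebra.ofId A B) b hp₂b) hεu'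
  rw [map_sub, ← Polynomial.aeval_algHom_apply, hθroot] at h11
  have h12 : AdjoinRoot.liftAlgHom (P.comp (X ^ 2 - X)) (Algebra.ofId A B) b hp₂b ε - b =
      (AdjoinRoot.liftAlgHom (P.comp (X ^ 2 - X)) (Algebra.ofId A B) b hp₂b ε -
        aeval b (1 - (1 - X ^ d) ^ d : A[X])) + (aeval b (1 - (1 - X ^ d) ^ d : A[X]) - b) := by
    ring
  rw [h12]
  exact Submodule.add_mem _ h11 h8

/-- Nakayama: `1 - y` is a unit for `y ∈ I B`, `B` finite, `I ⊆ rad A`. -/
theorem isUnit_one_sub_finite {I : Ideal A} (hI : I ≤ Ideal.jacobson ⊥) {B : Type*} [CommRing B]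
    [Algebra A B] [Module.Finite A B] {y : B} (hy : y ∈ I • (⊤ : Submodule A B)) :
    IsUnit (1 - y) := by
  have h1 : (⊤ : Submodule A B) ≤
      (Ideal.span {1 - y} : Ideal B).restrictScalars A ⊔ I • (⊤ : Submodule A B) := by
    intro x _
    have hx : x = (1 - y) * x + y * x := by ring
    rw [hx]
    refine Submodule.add_mem_sup ?_ (smul_top_mul I hy x)
    show (1 - y) * x ∈ (Ideal.span {1 - y} : Ideal B)
    exact Ideal.mul_mem_right _ _ (Ideal.subset_span rfl)
  have h2 := Submodule.le_of_le_smul_of_le_jacobson_bot (Module.Finite.fg_top) hI h1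
  have h3 : (1 : B) ∈ (Ideal.span {1 - y} : Ideal B) := h2 Submodule.mem_top
  rw [Ideal.mem_span_singleton'] at h3
  obtain ⟨c, hc⟩ := h3
  exact IsUnit.of_mul_eq_one c (by rw [mul_comm]; exact hc)

theorem idem_eq_of_isUnit {B : Type*} [CommRing B] {e e' : B} (he : IsIdempotentElem e)
    (he' : IsIdempotentElem e') (hu : IsUnit (1 - (e - e') * (e - e'))) : e = e' := by
  have h1 : e * e = e := he
  have h2 : e' * e' = e' := he'
  have h3 : (e - e') * (1 - (e - e') * (e - e')) = 0 := by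
    linear_combination (-(e + 1 - 3 * e')) * h1 + (-(3 * e - e' - 1)) * h2
  have h4 := (hu.mul_left_eq_zero).mp h3
  exact sub_eq_zero.mp h4

theorem exists_finset_of_mem_smul_top {B : Type*} [CommRing B] [Algebra A B] (I : Ideal A) {z : B}
    (hz : z ∈ I • (⊤ : Submodule A B)) :
    ∃ S : Finset B, ∀ B₀ : Subalgebra A B, (↑S : Set B) ⊆ (B₀ : Set B) →
      ∃ z₀ : B₀, z₀ ∈ I • (⊤ : Submodule A B₀) ∧ (z₀ : B) = z := by
  classical
  refine Submodule.smul_induction_on hz ?_ ?_
  · intro r hr t _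
    refine ⟨{t}, fun B₀ hS => ⟨r • ⟨t, hS (by simp)⟩,
      Submodule.smul_mem_smul hr Submodule.mem_top, rfl⟩⟩
  · rintro x y ⟨S, hS⟩ ⟨T, hT⟩
    refine ⟨S ∪ T, fun B₀ hST => ?_⟩
    obtain ⟨x₀, hx₀, rfl⟩ := hS B₀ (fun s hs => hST
      (Finset.mem_coe.mpr (Finset.mem_union_left T (Finset.mem_coe.mp hs))))
    obtain ⟨y₀, hy₀, rfl⟩ := hT B₀ (fun s hs => hST
      (Finset.mem_coe.mpr (Finset.mem_union_right S (Finset.mem_coe.mp hs))))
    exact ⟨x₀ + y₀, Submodule.add_mem _ hx₀ hy₀, rfl⟩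

theorem finite_adjoin_of_integral {B : Type*} [CommRing B] [Algebra A B] [Algebra.IsIntegral A B]
    (S : Finset B) : Module.Finite A (Algebra.adjoin A (S : Set B)) :=
  Algebra.finite_adjoin_of_finite_of_isIntegral S.finite_toSet
    fun x _ => Algebra.IsIntegral.isIntegral x

/-- Idempotents lift in integral algebras over a henselian pair. -/
theorem exists_idem_lift_integral {I : Ideal A} (hI : HenselianRing A I) {B : Type*} [CommRing B]
    [Algebra A B] [Algebra.IsIntegral A B] (b : B) (hb : b * b - b ∈ I • (⊤ : Submodule A B)) :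
    ∃ e : B, IsIdempotentElem e ∧ e - b ∈ I • (⊤ : Submodule A B) := by
  classical
  obtain ⟨S, hS⟩ := exists_finset_of_mem_smul_top I hb
  let B₀ : Subalgebra A B := Algebra.adjoin A ((insert b S : Finset B) : Set B)
  haveI : Module.Finite A B₀ := finite_adjoin_of_integral _
  have hsub : ((insert b S : Finset B) : Set B) ⊆ (B₀ : Set B) := Algebra.subset_adjoin
  obtain ⟨z₀, hz₀, hz₀b⟩ := hS B₀ (fun s hs => hsub
    (Finset.mem_coe.mpr (Finset.mem_insert_of_mem (Finset.mem_coe.mp hs))))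
  let b₀ : B₀ := ⟨b, hsub (Finset.mem_coe.mpr (Finset.mem_insert_self b S))⟩
  have hb₀ : b₀ * b₀ - b₀ = z₀ := Subtype.ext hz₀b.symm
  obtain ⟨e₀, he₀, heb₀⟩ := exists_idem_lift_finite hI b₀ (by rw [hb₀]; exact hz₀)
  refine ⟨(e₀ : B), ?_, ?_⟩
  · exact congrArg Subtype.val he₀
  · exact algHom_mem_smul_top I B₀.val heb₀

theorem isUnit_one_sub_integral {I : Ideal A} (hI : I ≤ Ideal.jacobson ⊥) {B : Type*} [CommRing B]
    [Algebra A B] [Algebra.IsIntegral A B] {y : B} (hy : y ∈ I • (⊤ : Submodule A B)) :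
    IsUnit (1 - y) := by
  classical
  obtain ⟨S, hS⟩ := exists_finset_of_mem_smul_top I hy
  let B₀ : Subalgebra A B := Algebra.adjoin A (S : Set B)
  haveI : Module.Finite A B₀ := finite_adjoin_of_integral _
  obtain ⟨y₀, hy₀, hy₀y⟩ := hS B₀ Algebra.subset_adjoin
  have h := (isUnit_one_sub_finite hI hy₀).map B₀.val
  rw [map_sub, map_one] at h
  rw [← hy₀y]
  exact h

theorem map_le_jacobson_of_integral {I : Ideal A} (hI : I ≤ Ideal.jacobson ⊥) (B : Type*)
    [CommRing B] [Algebra A B] [Algebra.IsIntegral A B] :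
    I.map (algebraMap A B) ≤ Ideal.jacobson ⊥ := by
  intro x hx
  rw [Ideal.mem_jacobson_bot]
  intro y
  have h1 : -(x * y) ∈ I • (⊤ : Submodule A B) := by
    rw [← mem_map_iff_mem_smul_top]
    exact neg_mem (Ideal.mul_mem_right _ _ hx)
  have h2 := isUnit_one_sub_integral hI h1
  rwa [sub_neg_eq_add, add_comm] at h2

theorem bijOn_of_integral {I : Ideal A} (hI : HenselianRing A I) (B : Type*) [CommRing B]
    [Algebra A B] [Algebra.IsIntegral A B] :
    Set.BijOn (Ideal.Quotient.mk (Ideal.map (algebraMap A B) I))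
      {e : B | IsIdempotentElem e} {e | IsIdempotentElem e} := by
  refine ⟨fun e he => he.map _, ?_, ?_⟩
  · intro e he e' he' hee'
    have h1 : e - e' ∈ I • (⊤ : Submodule A B) := by
      rw [← mem_map_iff_mem_smul_top, ← Ideal.Quotient.eq]; exact hee'
    have h2 := isUnit_one_sub_integral hI.jac (smul_top_mul I h1 (e - e'))
    exact idem_eq_of_isUnit he he' h2
  · intro ebar hebar
    obtain ⟨b, rfl⟩ := Ideal.Quotient.mk_surjective ebar
    have hb : b * b - b ∈ I • (⊤ : Submodule A B) := by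
      rw [← mem_map_iff_mem_smul_top, ← Ideal.Quotient.eq, map_mul]; exact hebar
    obtain ⟨e, he, heb⟩ := exists_idem_lift_integral hI b hb
    refine ⟨e, he, ?_⟩
    rw [Ideal.Quotient.eq, mem_map_iff_mem_smul_top]; exact heb

theorem henselian_of_bijOn (I : Ideal A)
    (H : ∀ (B : Type u) [CommRing B] [Algebra A B], Module.Finite A B →
      Set.BijOn (Ideal.Quotient.mk (Ideal.map (algebraMap A B) I))
        {e : B | IsIdempotentElem e} {e | IsIdempotentElem e}) : HenselianRing A I := by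
  have hjac : I ≤ Ideal.jacobson ⊥ := by
    intro t ht
    rw [Ideal.mem_jacobson_bot]
    intro y
    obtain ⟨s, hs⟩ : ∃ s : A, s = t * y + 1 := ⟨_, rfl⟩
    rw [← hs]
    have hsI : 1 - s ∈ I := by
      have h : 1 - s = -(t * y) := by rw [hs]; ring
      rw [h]; exact I.neg_mem (I.mul_mem_right _ ht)
    have hfin : Module.Finite A (A ⧸ Ideal.span {s * (1 - s)}) :=
      Module.Finite.of_surjective (Ideal.Quotient.mkₐ A (Ideal.span {s * (1 - s)})).toLinearMap
        (Ideal.Quotient.mkₐ_surjective A _)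
    have hB := H (A ⧸ Ideal.span {s * (1 - s)}) hfin
    have he : IsIdempotentElem (Ideal.Quotient.mk (Ideal.span {s * (1 - s)}) (1 - s)) := by
      rw [IsIdempotentElem, ← map_mul, Ideal.Quotient.eq]
      have h : (1 - s) * (1 - s) - (1 - s) = -(s * (1 - s)) := by ring
      rw [h]; exact neg_mem (Ideal.subset_span rfl)
    have h0 : IsIdempotentElem (0 : A ⧸ Ideal.span {s * (1 - s)}) := IsIdempotentElem.zero
    have heq : Ideal.Quotient.mk (Ideal.map (algebraMap A (A ⧸ Ideal.span {s * (1 - s)})) I)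
        (Ideal.Quotient.mk (Ideal.span {s * (1 - s)}) (1 - s)) =
        Ideal.Quotient.mk (Ideal.map (algebraMap A (A ⧸ Ideal.span {s * (1 - s)})) I) 0 := by
      rw [map_zero, Ideal.Quotient.eq_zero_iff_mem]
      exact Ideal.mem_map_of_mem (algebraMap A (A ⧸ Ideal.span {s * (1 - s)})) hsI
    have h1 := hB.injOn he h0 heq
    rw [Ideal.Quotient.eq_zero_iff_mem, Ideal.mem_span_singleton] at h1
    obtain ⟨c, hc⟩ := h1
    exact IsUnit.of_mul_eq_one (1 + c - c * s) (by linear_combination (-1 : A) * hc)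
  exact henselian_of_idem_lift I hjac
    (fun m p hp _ => (H (AdjoinRoot p) hp.finite_adjoinRoot).surjOn)

theorem henselian_of_integral {I : Ideal A} (hI : HenselianRing A I) (B : Type u) [CommRing B]
    [Algebra A B] [Algebra.IsIntegral A B] :
    HenselianRing B (Ideal.map (algebraMap A B) I) := by
  refine henselian_of_idem_lift _ (map_le_jacobson_of_integral hI.jac B) (fun m p hp _ => ?_)
  haveI : Module.Finite B (AdjoinRoot p) := hp.finite_adjoinRoot
  haveI : Algebra.IsIntegral B (AdjoinRoot p) := Algebra.IsIntegral.of_finite B _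
  haveI : Algebra.IsIntegral A (AdjoinRoot p) := Algebra.IsIntegral.trans B
  have hmap : Ideal.map (algebraMap B (AdjoinRoot p)) (Ideal.map (algebraMap A B) I) =
      Ideal.map (algebraMap A (AdjoinRoot p)) I := by
    rw [Ideal.map_map, ← IsScalarTower.algebraMap_eq]
  intro ebar hebar
  obtain ⟨b, rfl⟩ := Ideal.Quotient.mk_surjective ebar
  have hb : b * b - b ∈ I • (⊤ : Submodule A (AdjoinRoot p)) := by
    rw [← mem_map_iff_mem_smul_top, ← hmap, ← Ideal.Quotient.eq, map_mul]; exact hebar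
  obtain ⟨e, he, heb⟩ := exists_idem_lift_integral hI b hb
  refine ⟨e, he, ?_⟩
  rw [Ideal.Quotient.eq, hmap, mem_map_iff_mem_smul_top]; exact heb

end Groth.Agent.Lib.GabberIdem
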