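import Mathlib
import Groth.Agent.Lib.GabberIdem_lead

/-!
# Henselian pairs and henselian couples `(Spec A, Spec A/I)` (helper3)

Translation between "idempotents of finite `A`-algebras lift uniquely modulo `I`" and
"clopen subsets of `Y ×_{Spec A} Spec (A/I)` lift uniquely to `Y` for `Y` finite over `Spec A`".
-/

set_option autoImplicit false
universe u

namespace Groth.Agent.Lib.ClopenLiftH3

open Topology

section Top

variable {P Q Y Y₁ Y₂ : Type*} [TopologicalSpace P] [TopologicalSpace Q] [TopologicalSpace Y]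
  [TopologicalSpace Y₁] [TopologicalSpace Y₂]

/-- every clopen of the source is the preimage of exactly one clopen of the target -/
def ClopenLift (j : P → Y) : Prop :=
  ∀ V : Set P, IsClopen V → ∃! U : Set Y, IsClopen U ∧ j ⁻¹' U = V

theorem clopenLift_comp_homeomorph_of (e : P ≃ₜ Q) (j : Q → Y) (h : ClopenLift j) :
    ClopenLift (j ∘ e) := by
  intro V hV
  obtain ⟨U, ⟨hU, hUV⟩, huniq⟩ := h (e '' V) ⟨e.isClosed_image.2 hV.1, e.isOpen_image.2 hV.2⟩
  refine ⟨U, ⟨hU, ?_⟩, ?_⟩
  · rw [Set.preimage_comp, hUV, e.preimage_image]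
  · rintro U' ⟨hU', hU'V⟩
    refine huniq U' ⟨hU', ?_⟩
    rw [← hU'V, Set.preimage_comp, e.image_preimage]

theorem clopenLift_comp_homeomorph (e : P ≃ₜ Q) (j : Q → Y) :
    ClopenLift (j ∘ e) ↔ ClopenLift j := by
  refine ⟨fun h => ?_, clopenLift_comp_homeomorph_of e j⟩
  have := clopenLift_comp_homeomorph_of e.symm (j ∘ e) h
  have h2 : (j ∘ e) ∘ e.symm = j := by
    funext x; simp
  rwa [h2] at this

theorem clopenLift_homeomorph_comp_of (h : Y₁ ≃ₜ Y₂) (j : P → Y₁) (H : ClopenLift j) :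
    ClopenLift (h ∘ j) := by
  intro V hV
  obtain ⟨U, ⟨hU, hUV⟩, huniq⟩ := H V hV
  refine ⟨h '' U, ⟨⟨h.isClosed_image.2 hU.1, h.isOpen_image.2 hU.2⟩, ?_⟩, ?_⟩
  · rw [Set.preimage_comp, h.preimage_image, hUV]
  · rintro U' ⟨hU', hU'V⟩
    have h1 := huniq (h ⁻¹' U') ⟨hU'.preimage h.continuous, by rw [← hU'V, Set.preimage_comp]⟩
    rw [← h1, h.image_preimage]

theorem clopenLift_homeomorph_comp (h : Y₁ ≃ₜ Y₂) (j : P → Y₁) :
    ClopenLift (h ∘ j) ↔ ClopenLift j := by
  refine ⟨fun H => ?_, clopenLift_homeomorph_comp_of h j⟩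
  have := clopenLift_homeomorph_comp_of h.symm (h ∘ j) H
  have h2 : h.symm ∘ (h ∘ j) = j := by
    funext x; simp
  rwa [h2] at this

/-- embeddings with corresponding ranges have the same lifting property -/
theorem clopenLift_iff_of_range {j₁ : P → Y₁} {j₂ : Q → Y₂} (hj₁ : IsEmbedding j₁)
    (hj₂ : IsEmbedding j₂) (h : Y₁ ≃ₜ Y₂) (hr : h '' Set.range j₁ = Set.range j₂) :
    ClopenLift j₁ ↔ ClopenLift j₂ := by
  let e : P ≃ₜ Q := hj₁.toHomeomorph.trans ((h.image _).trans
    ((Homeomorph.setCongr hr).trans hj₂.toHomeomorph.symm))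
  have he : j₂ ∘ e = h ∘ j₁ := by
    funext p
    have h1 : ∀ x : Set.range j₂, j₂ (hj₂.toHomeomorph.symm x) = x.1 := by
      intro x
      have := hj₂.toHomeomorph.apply_symm_apply x
      exact congrArg Subtype.val this
    simp only [Function.comp_apply, e, Homeomorph.trans_apply, h1]
    rfl
  rw [← clopenLift_comp_homeomorph e j₂, he, clopenLift_homeomorph_comp]

end Top

section Spec

open PrimeSpectrum

theorem clopenLift_comap_mk_iff {B : Type*} [CommRing B] (J : Ideal B) :
    ClopenLift (PrimeSpectrum.comap (Ideal.Quotient.mk J)) ↔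
    Set.BijOn (Ideal.Quotient.mk J) {e : B | IsIdempotentElem e} {e | IsIdempotentElem e} := by
  have hpre : ∀ e : B, PrimeSpectrum.comap (Ideal.Quotient.mk J) ⁻¹' (basicOpen e : Set _)
      = (basicOpen (Ideal.Quotient.mk J e) : Set _) := fun e => rfl
  have hclopen : ∀ {R : Type _} [CommRing R] (e : R), IsIdempotentElem e →
      IsClopen (basicOpen e : Set (PrimeSpectrum R)) := by
    intro R _ e he
    exact isClopen_basicOpen_of_mul_add e (1 - e) (by rw [mul_sub, mul_one, he.eq, sub_self])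
      (by ring)
  constructor
  · intro H
    refine ⟨fun e he => he.map _, ?_, ?_⟩
    · intro e he e' he' hee'
      obtain ⟨U, -, huniq⟩ := H _ (hclopen _ (he.map (Ideal.Quotient.mk J)))
      have h1 := huniq _ ⟨hclopen e he, hpre e⟩
      have h2 := huniq _ ⟨hclopen e' he', by rw [hpre e', hee']⟩
      exact basicOpen_injOn_isIdempotentElem he he' (SetLike.ext' (h1.trans h2.symm))
    · intro ebar hebar
      obtain ⟨U, ⟨hU, hUV⟩, -⟩ := H _ (hclopen ebar hebar)
      obtain ⟨e, he, rfl⟩ := exists_idempotent_basicOpen_eq_of_isClopen hU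
      refine ⟨e, he, ?_⟩
      rw [hpre e] at hUV
      exact basicOpen_injOn_isIdempotentElem (he.map (Ideal.Quotient.mk J)) hebar
        (SetLike.ext' hUV)
  · intro H V hV
    obtain ⟨ebar, hebar, rfl⟩ := exists_idempotent_basicOpen_eq_of_isClopen hV
    obtain ⟨e, he, rfl⟩ := H.surjOn hebar
    refine ⟨basicOpen e, ⟨hclopen e he, hpre e⟩, ?_⟩
    rintro U' ⟨hU', hU'V⟩
    obtain ⟨e', he', rfl⟩ := exists_idempotent_basicOpen_eq_of_isClopen hU'
    rw [hpre e'] at hU'V
    have h1 := basicOpen_injOn_isIdempotentElem (he'.map (Ideal.Quotient.mk J))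
      (he.map (Ideal.Quotient.mk J)) (SetLike.ext' hU'V)
    rw [H.injOn he' he h1]

end Spec

section Sch

open AlgebraicGeometry CategoryTheory CategoryTheory.Limits PrimeSpectrum

variable {A : Type u} [CommRing A] (I : Ideal A)

theorem eq_isoSpec_comp {Y : Scheme.{u}} [IsAffine Y] (g : Y ⟶ Spec (CommRingCat.of A)) :
    g = Y.isoSpec.hom ≫ Spec.map ((Scheme.ΓSpecIso (CommRingCat.of A)).inv ≫ g.appTop) := by
  rw [Spec.map_comp, ← Category.assoc, Scheme.isoSpec_hom_naturality,
    Scheme.isoSpec_Spec_hom, Category.assoc, ← Spec.map_comp, Iso.inv_hom_id, Spec.map_id,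
    Category.comp_id]

theorem clopenLift_fst_iff {Y : Scheme.{u}} (g : Y ⟶ Spec (CommRingCat.of A))
    (B : Type u) [CommRing B] (φ : A →+* B) (h : Y ≃ₜ PrimeSpectrum B)
    (hg : ∀ y : Y, g.base y = PrimeSpectrum.comap φ (h y)) :
    ClopenLift (pullback.fst g (Spec.map (CommRingCat.ofHom (Ideal.Quotient.mk I)))).base ↔
    Set.BijOn (Ideal.Quotient.mk (I.map φ)) {e : B | IsIdempotentElem e}
      {e | IsIdempotentElem e} := by
  rw [← clopenLift_comap_mk_iff]
  haveI : IsClosedImmersion (Spec.map (CommRingCat.ofHom (Ideal.Quotient.mk I))) :=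
    IsClosedImmersion.spec_of_surjective _ Ideal.Quotient.mk_surjective
  refine clopenLift_iff_of_range
    (pullback.fst g (Spec.map (CommRingCat.ofHom (Ideal.Quotient.mk I)))).isEmbedding
    (isEmbedding_comap_of_surjective _ _ Ideal.Quotient.mk_surjective) h ?_
  rw [Scheme.Pullback.range_fst, range_comap_of_surjective _ _ Ideal.Quotient.mk_surjective,
    Ideal.mk_ker]
  have h1 : Set.range (Spec.map (CommRingCat.ofHom (Ideal.Quotient.mk I))).base
      = zeroLocus (I : Set A) := by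
    have := range_comap_of_surjective _ (Ideal.Quotient.mk I) Ideal.Quotient.mk_surjective
    rw [Ideal.mk_ker] at this
    exact this
  rw [h1]
  ext q
  constructor
  · rintro ⟨y, hy, rfl⟩
    have hy' : PrimeSpectrum.comap φ (h y) ∈ zeroLocus (I : Set A) := by
      have h2 : g.base y ∈ zeroLocus (I : Set A) := hy
      rwa [hg y] at h2
    rw [mem_zeroLocus, SetLike.coe_subset_coe] at hy' ⊢
    exact Ideal.map_le_iff_le_comap.2 hy'
  · intro hq
    refine ⟨h.symm q, ?_, h.apply_symm_apply q⟩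
    have h2 : PrimeSpectrum.comap φ q ∈ zeroLocus (I : Set A) := by
      rw [mem_zeroLocus, SetLike.coe_subset_coe] at hq ⊢
      exact Ideal.map_le_iff_le_comap.1 hq
    have h3 : g.base (h.symm q) ∈ zeroLocus (I : Set A) := by
      rw [hg, h.apply_symm_apply]; exact h2
    exact h3

end Sch

end Groth.Agent.Lib.ClopenLiftH3
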