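import Mathlib
import Groth.Prelude
import Groth.Agent.Lib.FormalFn4_helper2
import Groth.Agent.Lib.ThickSq1_helper2
import Groth.Agent.Lib.PB9_helper8
import Groth.Agent.Lib.CohDev8_helper8

/-!
# Γ-level comparison for `O_X / I^n O_X` and closed immersions (helper8)

For a closed immersion `i : Z ⟶ X` over `Spec A` whose ideal is generated by `I^n`:
`Psi : O_X / I^n O_X ≅ i_* O_Z` (compatible with the projections from `O_X`),
`phi : H^0(X, O_X / I^n O_X) → Γ(Z, O_Z)` bijective, compatible with `H^0(X, O_X) = Γ(X, O_X)`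
and with transition maps.
APPEND-ONLY once landed.
-/

set_option autoImplicit false
universe u
open CategoryTheory CategoryTheory.Limits AlgebraicGeometry TopologicalSpace Opposite

namespace Groth.Agent.Lib.FFGammaH8

open Formal Groth.Agent.Lib.ThickH2 Groth.Agent.HHVan

section UHom

variable {X Z : Scheme.{u}} (i : Z ⟶ X)

/-- the canonical map `O_X ⟶ i_* O_Z` -/
noncomputable def uHom : Coh.structureModule X ⟶
    (Scheme.Modules.pushforward i).obj (Coh.structureModule Z) :=
  SheafOfModules.unitToPushforwardObjUnit i.toRingCatSheafHom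

theorem uHom_app (U : X.Opens) (x : Γ(X, U)) :
    (uHom i).app U x = (i.app U).hom x := rfl

set_option backward.isDefEq.respectTransparency false in
theorem unit_pullbackUnitIso :
    (Scheme.Modules.pullbackPushforwardAdjunction i).unit.app (Coh.structureModule X) ≫
      (Scheme.Modules.pushforward i).map (PBH8.pullbackUnitIso i).hom = uHom i := by
  have h := SheafOfModules.pullbackPushforwardAdjunction_homEquiv_pullbackObjUnitToUnit
    i.toRingCatSheafHom
  rw [Adjunction.homEquiv_unit] at h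
  exact h

variable {Z' : Scheme.{u}} (t : Z' ⟶ Z)

theorem uHom_comp :
    uHom i ≫ (Scheme.Modules.pushforward i).map (uHom t) ≫
      (Scheme.Modules.pushforwardComp t i).hom.app (Coh.structureModule Z') = uHom (t ≫ i) := by
  refine Scheme.Modules.hom_ext _ _ (fun U => ?_)
  ext x
  rfl

end UHom

section H0

variable {X : Scheme.{u}}

/-- `H^0` is the group of global sections -/
noncomputable def h0 (M : X.Modules) : Coh.HH X M 0 ≃+ Γ(M, ⊤) :=
  Sheaf.H.equiv₀ (Coh.toAb M) Limits.isTerminalTop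

theorem h0_hmap {M N : X.Modules} (φ : M ⟶ N) (x : Coh.HH X M 0) :
    h0 N (hmap φ 0 x) = φ.app ⊤ (h0 M x) :=
  (Sheaf.H.equiv₀_naturality (hT := Limits.isTerminalTop)
    (f := (SerreCrit.TT X).map φ) x).symm

end H0

section Psi

variable {A : Type u} [CommRing A] {X Z : Scheme.{u}} [X.Over (Spec (CommRingCat.of A))]
  [Z.Over (Spec (CommRingCat.of A))] (i : Z ⟶ X) [IsClosedImmersion i]
  (hi : i ≫ (X ↘ Spec (CommRingCat.of A)) = (Z ↘ Spec (CommRingCat.of A)))
  (I : Ideal A) (n : ℕ)
  (hker : ∀ N : X.Modules, Formal.KilledBy (I ^ n) N → ClSub.KilledByIdeal i.ker N)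
  (hZ : ∀ N' : Z.Modules, Formal.KilledBy (I ^ n) N')

include hi hker hZ in
theorem exists_Psi : ∃ Ψ : Formal.modPow I n (Coh.structureModule X) ≅
    (Scheme.Modules.pushforward i).obj (Coh.structureModule Z),
    Formal.modPowπ I n (Coh.structureModule X) ≫ Ψ.hom = uHom i := by
  haveI : (Coh.structureModule X).IsQuasicoherent := SerreCrit.isQuasicoherent_OO
  obtain ⟨c, hc⟩ := exists_modPow_iso i hi I n hker hZ (Coh.structureModule X)
  refine ⟨c ≪≫ (Scheme.Modules.pushforward i).mapIso (PBH8.pullbackUnitIso i), ?_⟩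
  rw [Iso.trans_hom, Functor.mapIso_hom, ← Category.assoc, hc]
  exact unit_pullbackUnitIso i

end Psi

section Phi

variable {A : Type u} [CommRing A] {X Z : Scheme.{u}} [X.Over (Spec (CommRingCat.of A))]
  (i : Z ⟶ X) (I : Ideal A) (n : ℕ)
  (Ψ : Formal.modPow I n (Coh.structureModule X) ≅
    (Scheme.Modules.pushforward i).obj (Coh.structureModule Z))
  (hΨ : Formal.modPowπ I n (Coh.structureModule X) ≫ Ψ.hom = uHom i)

/-- `H^0(X, O_X/I^n O_X) → Γ(Z, O_Z)` -/
noncomputable def phi (z : Coh.HH X (Formal.modPow I n (Coh.structureModule X)) 0) : Γ(Z, ⊤) :=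
  Ψ.hom.app ⊤ (h0 _ z)

theorem phi_injective : Function.Injective (phi i I n Ψ) := by
  intro z z' h
  apply (h0 _).injective
  have h1 : Ψ.inv.app ⊤ (Ψ.hom.app ⊤ (h0 _ z)) = Ψ.inv.app ⊤ (Ψ.hom.app ⊤ (h0 _ z')) :=
    congrArg (Ψ.inv.app ⊤) h
  have h2 : ∀ y, Ψ.inv.app ⊤ (Ψ.hom.app ⊤ y) = y := fun y => by
    have := congrArg (fun θ : Formal.modPow I n (Coh.structureModule X) ⟶ _ => θ.app ⊤ y)
      Ψ.hom_inv_id
    exact this
  rw [h2, h2] at h1
  exact h1

theorem phi_surjective : Function.Surjective (phi i I n Ψ) := by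
  intro s
  refine ⟨(h0 _).symm (Ψ.inv.app ⊤ s), ?_⟩
  unfold phi
  rw [AddEquiv.apply_symm_apply]
  have := congrArg (fun θ : (Scheme.Modules.pushforward i).obj (Coh.structureModule Z) ⟶ _ =>
    θ.app ⊤ s) Ψ.inv_hom_id
  exact this

theorem phi_zero : phi i I n Ψ 0 = 0 := by
  unfold phi
  rw [map_zero, map_zero]
  rfl

include hΨ in
theorem phi_toHH (x : Coh.HH X (Coh.structureModule X) 0) :
    phi i I n Ψ (hmap (Formal.modPowπ I n (Coh.structureModule X)) 0 x) =
      i.appTop.hom (h0 (Coh.structureModule X) x) := by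
  unfold phi
  rw [h0_hmap]
  have := congrArg (fun θ : Coh.structureModule X ⟶ _ => θ.app ⊤ (h0 _ x)) hΨ
  exact this

end Phi

section Trans

variable {A : Type u} [CommRing A] {X Z Z' : Scheme.{u}} [X.Over (Spec (CommRingCat.of A))]
  (i : Z ⟶ X) (t : Z' ⟶ Z) (I : Ideal A) {m n : ℕ} (hmn : m ≤ n)
  (Ψ : Formal.modPow I n (Coh.structureModule X) ≅
    (Scheme.Modules.pushforward i).obj (Coh.structureModule Z))
  (hΨ : Formal.modPowπ I n (Coh.structureModule X) ≫ Ψ.hom = uHom i)
  (Ψ' : Formal.modPow I m (Coh.structureModule X) ≅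
    (Scheme.Modules.pushforward (t ≫ i)).obj (Coh.structureModule Z'))
  (hΨ' : Formal.modPowπ I m (Coh.structureModule X) ≫ Ψ'.hom = uHom (t ≫ i))

include hΨ hΨ' in
theorem Psi_trans :
    Ψ.hom ≫ (Scheme.Modules.pushforward i).map (uHom t) ≫
      (Scheme.Modules.pushforwardComp t i).hom.app (Coh.structureModule Z') =
    Formal2.modPowLE I hmn (Coh.structureModule X) ≫ Ψ'.hom := by
  haveI : Epi (Formal.modPowπ I n (Coh.structureModule X)) := by
    unfold Formal.modPowπ; exact coequalizer.π_epi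
  rw [← cancel_epi (Formal.modPowπ I n (Coh.structureModule X)), ← Category.assoc, hΨ,
    ← Category.assoc (Formal.modPowπ I n _), Formal2.modPowπ_modPowLE, hΨ']
  exact uHom_comp i t

include hΨ hΨ' in
theorem phi_trans (z : Coh.HH X (Formal.modPow I n (Coh.structureModule X)) 0) :
    t.appTop.hom (phi i I n Ψ z) =
      phi (t ≫ i) I m Ψ' (hmap (Formal2.modPowLE I hmn (Coh.structureModule X)) 0 z) := by
  unfold phi
  rw [h0_hmap]
  have := congrArg (fun θ : Formal.modPow I n (Coh.structureModule X) ⟶ _ => θ.app ⊤ (h0 _ z))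
    (Psi_trans i t I hmn Ψ hΨ Ψ' hΨ')
  exact this

include hΨ in
theorem phi_trans' (i' : Z' ⟶ X) (hti : t ≫ i = i')
    (Ψ'' : Formal.modPow I m (Coh.structureModule X) ≅
      (Scheme.Modules.pushforward i').obj (Coh.structureModule Z'))
    (hΨ'' : Formal.modPowπ I m (Coh.structureModule X) ≫ Ψ''.hom = uHom i')
    (z : Coh.HH X (Formal.modPow I n (Coh.structureModule X)) 0) :
    t.appTop.hom (phi i I n Ψ z) =
      phi i' I m Ψ'' (hmap (Formal2.modPowLE I hmn (Coh.structureModule X)) 0 z) := by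
  subst hti
  exact phi_trans i t I hmn Ψ hΨ Ψ'' hΨ'' z

end Trans

end Groth.Agent.Lib.FFGammaH8
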