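import Mathlib
import Groth.Prelude
import Groth.Agent.Lib.ProperFin9_helper9
import Groth.Agent.Lib.CohDev8_helper8

/-!
# Finiteness of the normalisation of `S` in a proper `S`-scheme (helper3)

`X` proper over a Noetherian ring `A` ⇒ `Γ(X, O_X)` is a finite `A`-module (from helper9's coherent finiteness
theorem in degree `0`), hence for `f : X ⟶ S` proper with `S` locally Noetherian every `f.app U` (`U` affine)
is finite and `f.fromNormalization` is finite.
-/

set_option autoImplicit false
set_option maxHeartbeats 800000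
universe u
open CategoryTheory CategoryTheory.Limits AlgebraicGeometry TopologicalSpace Opposite

namespace SteinFinH3

open Groth.Agent.Lib

/-- `H^0(X, O_X) ≃+ Γ(X, ⊤)` (copied from helper4's `H0Const_helper4` to keep the import closure small). -/
noncomputable def e0 (X : Scheme.{u}) : Coh.HH X (Coh.structureModule X) 0 ≃+ Coh.Γtop X :=
  Sheaf.H.equiv₀ (Coh.toAb (Coh.structureModule X)) (isTerminalTop : IsTerminal (⊤ : X.Opens))

theorem resTop_top (X : Scheme.{u}) (r : Coh.Γtop X) : Coh.resTop X (op ⊤) r = r := by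
  have h : (homOfLE (le_top (a := (⊤ : X.Opens)))) = 𝟙 _ := Subsingleton.elim _ _
  have h2 : X.ringCatSheaf.obj.map (𝟙 (op (⊤ : X.Opens))) = 𝟙 _ := X.ringCatSheaf.obj.map_id _
  show (X.ringCatSheaf.obj.map (homOfLE (le_top (a := (⊤ : X.Opens)))).op).hom r = r
  rw [h, op_id]
  exact congrArg (fun φ => (RingCat.Hom.hom φ) r) h2

theorem e0_smul (X : Scheme.{u}) (r : Coh.Γtop X) (x : Coh.HH X (Coh.structureModule X) 0) :
    e0 X (r • x) = r * e0 X x := by
  have h := Sheaf.H.equiv₀_naturality (hT := (isTerminalTop : IsTerminal (⊤ : X.Opens)))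
    (f := Coh.smulAb (Coh.structureModule X) r) x
  show Sheaf.H.equiv₀ _ _ (Sheaf.H.map (Coh.smulAb _ r) 0 x) = _
  rw [← h, Coh.smulAb_app, resTop_top]
  rfl

/-- `A → Γ(X, ⊤)` is finite for `g : X ⟶ Spec A` proper and `A` Noetherian. -/
theorem finite_comp_of_isProper (A : Type u) [CommRing A] [IsNoetherianRing A] {X : Scheme.{u}}
    (g : X ⟶ Spec (CommRingCat.of A)) [IsProper g] :
    (g.appTop.hom.comp (Scheme.ΓSpecIso (CommRingCat.of A)).inv.hom).Finite := by
  letI : X.Over (Spec (CommRingCat.of A)) := ⟨g⟩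
  haveI : IsProper (X ↘ Spec (CommRingCat.of A)) := ‹IsProper g›
  haveI h0 := ProperFinH9.finite_HH_of_proper A X (Coh.structureModule X)
    (CohDevH8.isCoh_structureModule X) 0
  letI := (g.appTop.hom.comp (Scheme.ΓSpecIso (CommRingCat.of A)).inv.hom).toAlgebra
  show Module.Finite A Γ(X, ⊤)
  let e : Coh.HH X (Coh.structureModule X) 0 →ₗ[A] Γ(X, ⊤) :=
    { toFun := fun x => e0 X x
      map_add' := fun x y => map_add (e0 X) x y
      map_smul' := fun a x => e0_smul X (Coh.toGlobal g a) x }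
  exact Module.Finite.of_surjective e (e0 X).surjective

/-- `g.appTop` is finite for `g : X ⟶ Spec R` proper and `R` Noetherian. -/
theorem finite_appTop_of_isProper (R : CommRingCat.{u}) [IsNoetherianRing R] {X : Scheme.{u}}
    (g : X ⟶ Spec R) [IsProper g] : g.appTop.hom.Finite :=
  RingHom.Finite.of_comp_finite (finite_comp_of_isProper (A := R) (g := g))

/-- For `f : X ⟶ S` proper, `S` locally Noetherian, `Γ(X, f⁻¹U)` is finite over `Γ(S, U)` for affine `U`. -/
theorem finite_app_of_isProper {X S : Scheme.{u}} (f : X ⟶ S) [IsProper f] [IsLocallyNoetherian S]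
    (U : S.Opens) (hU : IsAffineOpen U) : (f.app U).hom.Finite := by
  haveI : IsNoetherianRing Γ(S, U) := IsLocallyNoetherian.component_noetherian ⟨U, hU⟩
  let g : (f ⁻¹ᵁ U : Scheme) ⟶ Spec Γ(S, U) := (f ∣_ U) ≫ hU.isoSpec.hom
  haveI : IsProper (f ∣_ U) := IsZariskiLocalAtTarget.restrict ‹IsProper f› U
  haveI : IsProper g := inferInstanceAs (IsProper ((f ∣_ U) ≫ hU.isoSpec.hom))
  have hg := finite_appTop_of_isProper Γ(S, U) g
  have h2 : (f ∣_ U).appTop.hom.Finite := by
    have hc : g.appTop.hom = (f ∣_ U).appTop.hom.comp hU.isoSpec.hom.appTop.hom := by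
      show ((f ∣_ U) ≫ hU.isoSpec.hom).appTop.hom = _
      rw [Scheme.Hom.comp_appTop, CommRingCat.hom_comp]
    rw [hc] at hg
    exact RingHom.Finite.of_comp_finite hg
  rw [morphismRestrict_appTop] at h2
  have h3 : (Scheme.Hom.app f (U.ι ''ᵁ ⊤)).hom.Finite :=
    (RingHom.finite_respectsIso.cancel_right_isIso _ _).mp h2
  rwa [Scheme.Opens.ι_image_top] at h3

theorem main1297 {X S : Scheme.{u}} (f : X ⟶ S) [IsProper f] [IsLocallyNoetherian S] :
    IsFinite f.fromNormalization := by
  refine { finite_app := ?_ }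
  intro U hU
  rw [Scheme.Hom.fromNormalization_app f hU, CommRingCat.hom_comp,
    RingHom.finite_respectsIso.cancel_right_isIso]
  letI := (f.app U).hom.toAlgebra
  haveI : IsNoetherianRing Γ(S, U) := IsLocallyNoetherian.component_noetherian ⟨U, hU⟩
  haveI : Module.Finite Γ(S, U) Γ(X, f ⁻¹ᵁ U) := finite_app_of_isProper f U hU
  haveI : IsNoetherian Γ(S, U) Γ(X, f ⁻¹ᵁ U) := isNoetherian_of_isNoetherianRing_of_finite _ _
  have hfin : Module.Finite Γ(S, U) (integralClosure Γ(S, U) Γ(X, f ⁻¹ᵁ U)) :=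
    Module.Finite.of_injective (integralClosure Γ(S, U) Γ(X, f ⁻¹ᵁ U)).val.toLinearMap
      Subtype.val_injective
  exact RingHom.finite_algebraMap.mpr hfin

end SteinFinH3
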