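import Mathlib
import Groth.Prelude
import Groth.Agent.Lib.FFGamma1_helper8
import Groth.Agent.Lib.SteinFin_helper3

/-!
# Γ-level formal functions for `X ×_A A/K` (helper8)
APPEND-ONLY once landed.
-/

set_option autoImplicit false
universe u
open CategoryTheory CategoryTheory.Limits AlgebraicGeometry TopologicalSpace Opposite

namespace Groth.Agent.Lib.FFGammaH8

open Formal Groth.Agent.Lib.ThickH2 Groth.Agent.HHVan Groth.Agent.Lib.FormalFnH2
  Groth.Agent.Lib.FormalModPowH4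

section KerPull

variable {A : Type u} [CommRing A] {X Z : Scheme.{u}} [X.Over (Spec (CommRingCat.of A))]
  (K : Ideal A) (i : Z ⟶ X) (pZ : Z ⟶ Spec (CommRingCat.of (A ⧸ K)))
  (hsq : IsPullback i pZ (X ↘ Spec (CommRingCat.of A))
    (Spec.map (CommRingCat.ofHom (Ideal.Quotient.mk K))))

include hsq in
theorem killedByIdeal_of_pullback (N : X.Modules) (hN : Formal.KilledBy K N) :
    ClSub.KilledByIdeal i.ker N := by
  haveI : IsClosedImmersion (Spec.map (CommRingCat.ofHom (Ideal.Quotient.mk K))) :=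
    IsClosedImmersion.spec_of_surjective _ Ideal.Quotient.mk_surjective
  have hker : i.ker = (Spec.map (CommRingCat.ofHom (Ideal.Quotient.mk K))).ker.comap
      (X ↘ Spec (CommRingCat.of A)) := by
    have e : i = hsq.isoPullback.hom ≫ pullback.fst _ _ := (hsq.isoPullback_hom_fst).symm
    rw [e, Scheme.Hom.ker_comp_of_isIso]
    exact Scheme.IdealSheafData.ker_fst_of_isClosedImmersion _ _
  intro U s hs m
  have hle : U.1 ≤ (X ↘ Spec (CommRingCat.of A)) ⁻¹ᵁ
      (⊤ : (Spec (CommRingCat.of A)).Opens) := fun _ _ => trivial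
  rw [hker, ChevAH8.ideal_comap_eq_map_ideal _ _ ⟨⊤, isAffineOpen_top _⟩ U hle,
    Scheme.Hom.ker_apply] at hs
  have key : Ideal.map ((X ↘ Spec (CommRingCat.of A)).appLE ⊤ U.1 hle).hom
      (RingHom.ker ((Spec.map (CommRingCat.ofHom (Ideal.Quotient.mk K))).app ⊤).hom) ≤
      Module.annihilator Γ(X, U.1) (N.val.obj (op U.1)) := by
    rw [Ideal.map_le_iff_le_comap]
    intro t ht
    rw [Ideal.mem_comap, Module.mem_annihilator]
    intro m'
    obtain ⟨a, rfl⟩ : ∃ a : A, (Scheme.ΓSpecIso (CommRingCat.of A)).inv.hom a = t :=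
      ⟨(Scheme.ΓSpecIso (CommRingCat.of A)).hom.hom t, by simp⟩
    have ha : a ∈ K := by
      rw [RingHom.mem_ker] at ht
      have h2 := congrArg (fun ψ => ψ.hom a)
        (Scheme.ΓSpecIso_inv_naturality (CommRingCat.ofHom (Ideal.Quotient.mk K)))
      have h3 : (Scheme.ΓSpecIso (CommRingCat.of (A ⧸ K))).inv.hom
          (Ideal.Quotient.mk K a) = 0 := h2.trans ht
      have h4 := congrArg (Scheme.ΓSpecIso (CommRingCat.of (A ⧸ K))).hom.hom h3
      have h5 : Ideal.Quotient.mk K a = 0 := by simpa using h4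
      exact Ideal.Quotient.eq_zero_iff_mem.mp h5
    have hr : ((X ↘ Spec (CommRingCat.of A)).appLE ⊤ U.1 hle).hom
        ((Scheme.ΓSpecIso (CommRingCat.of A)).inv.hom a) = rU a U.1 := by
      unfold rU
      rfl
    rw [hr]
    have h5 := congrArg (fun θ => θ.app U.1 m') (hN a ha)
    exact h5
  exact Module.mem_annihilator.mp (key hs) m

end KerPull

section Pull

variable {A : Type u} [CommRing A] {X : Scheme.{u}} (f : X ⟶ Spec (CommRingCat.of A))

/-- the closed subscheme `X ×_A A/K` -/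
noncomputable abbrev ZK (K : Ideal A) : Scheme.{u} :=
  pullback f (Spec.map (CommRingCat.ofHom (Ideal.Quotient.mk K)))

/-- the closed immersion `X ×_A A/K ⟶ X` -/
noncomputable abbrev iK (K : Ideal A) : ZK f K ⟶ X :=
  pullback.fst f (Spec.map (CommRingCat.ofHom (Ideal.Quotient.mk K)))

instance isClosedImmersion_spec_mk (K : Ideal A) :
    IsClosedImmersion (Spec.map (CommRingCat.ofHom (Ideal.Quotient.mk K))) :=
  IsClosedImmersion.spec_of_surjective _ Ideal.Quotient.mk_surjective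

instance isClosedImmersion_iK (K : Ideal A) : IsClosedImmersion (iK f K) := by
  unfold iK; infer_instance

/-- the transition maps -/
noncomputable def tr {K K' : Ideal A} (h : K' ≤ K) : ZK f K ⟶ ZK f K' :=
  pullback.lift (iK f K)
    (pullback.snd f _ ≫ Spec.map (CommRingCat.ofHom (Ideal.Quotient.factor h)))
    (by
      rw [Category.assoc, ← Spec.map_comp, ← CommRingCat.ofHom_comp,
        Ideal.Quotient.factor_comp_mk]
      exact pullback.condition)

@[reassoc]
theorem tr_fst {K K' : Ideal A} (h : K' ≤ K) : tr f h ≫ iK f K' = iK f K :=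
  pullback.lift_fst _ _ _

@[reassoc]
theorem tr_snd {K K' : Ideal A} (h : K' ≤ K) :
    tr f h ≫ pullback.snd f _ =
      pullback.snd f _ ≫ Spec.map (CommRingCat.ofHom (Ideal.Quotient.factor h)) :=
  pullback.lift_snd _ _ _

theorem tr_tr {K K' K'' : Ideal A} (h : K' ≤ K) (h' : K'' ≤ K') :
    tr f h ≫ tr f h' = tr f (h'.trans h) := by
  rw [← cancel_mono (iK f K''), Category.assoc, tr_fst, tr_fst, tr_fst]

instance isClosedImmersion_tr {K K' : Ideal A} (h : K' ≤ K) : IsClosedImmersion (tr f h) := by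
  haveI : IsClosedImmersion (tr f h ≫ iK f K') := by rw [tr_fst]; infer_instance
  exact IsClosedImmersion.of_comp (tr f h) (iK f K')

end Pull



section Main

variable (A : Type u) [CommRing A] [IsNoetherianRing A] (I : Ideal A) {X : Scheme.{u}}
  (f : X ⟶ Spec (CommRingCat.of A)) [IsProper f]

/-- the hypotheses of `exists_Psi` for `X ×_A A/I^n ⟶ X` -/
theorem exists_Psi_pull (n : ℕ) :
    letI : X.Over (Spec (CommRingCat.of A)) := ⟨f⟩
    ∃ Ψ : Formal.modPow I n (Coh.structureModule X) ≅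
      (Scheme.Modules.pushforward (iK f (I ^ n))).obj (Coh.structureModule (ZK f (I ^ n))),
      Formal.modPowπ I n (Coh.structureModule X) ≫ Ψ.hom = uHom (iK f (I ^ n)) := by
  letI : X.Over (Spec (CommRingCat.of A)) := ⟨f⟩
  letI : (ZK f (I ^ n)).Over (Spec (CommRingCat.of A)) := ⟨iK f (I ^ n) ≫ f⟩
  refine exists_Psi (iK f (I ^ n)) rfl I n ?_ ?_
  · intro N hN
    exact killedByIdeal_of_pullback (I ^ n) (iK f (I ^ n)) (pullback.snd f _)
      (IsPullback.of_hasPullback f _) N hN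
  · intro N'
    exact killedBy_of_sq (pullback.snd f _) pullback.condition N'

/-- the structure map `A → Γ(X, O_X)` (commutative-ring version of `Coh.toGlobal`) -/
noncomputable def tG : A →+* Γ(X, ⊤) :=
  f.appTop.hom.comp (Scheme.ΓSpecIso (CommRingCat.of A)).inv.hom

theorem tG_eq (a : A) : tG A f a = Coh.toGlobal f a := rfl

theorem toGlobal_mem_of_mem_smul (x : Coh.HH X (Coh.structureModule X) 0) :
    letI : X.Over (Spec (CommRingCat.of A)) := ⟨f⟩
    x ∈ (I • ⊤ : Submodule A (Coh.HH X (Coh.structureModule X) 0)) →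
      (show Γ(X, ⊤) from SteinFinH3.e0 X x) ∈ Ideal.map (tG A f) I := by
  letI : X.Over (Spec (CommRingCat.of A)) := ⟨f⟩
  intro hx
  refine Submodule.smul_induction_on hx ?_ ?_
  · intro a ha y _
    have h1 : (show Γ(X, ⊤) from SteinFinH3.e0 X (a • y)) = tG A f a * (show Γ(X, ⊤) from SteinFinH3.e0 X y) :=
      SteinFinH3.e0_smul X (Coh.toGlobal f a) y
    rw [h1]
    exact Ideal.mul_mem_right _ _ (Ideal.mem_map_of_mem _ ha)
  · intro y z hy hz
    have h2 : (show Γ(X, ⊤) from SteinFinH3.e0 X (y + z)) =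
        (show Γ(X, ⊤) from SteinFinH3.e0 X y) + (show Γ(X, ⊤) from SteinFinH3.e0 X z) := map_add _ y z
    rw [h2]
    exact Ideal.add_mem _ hy hz

/-- Γ-level consequences of the theorem on formal functions for `O_X` -/
theorem exists_levels :
    ∃ (m m' : ℕ) (hmm' : m ≤ m') (_ : 1 ≤ m),
      (∀ c : Γ(X, ⊤), (iK f (I ^ m)).appTop.hom c = 0 → c ∈ Ideal.map (tG A f) I) ∧
      (∀ z : Γ(ZK f (I ^ m'), ⊤), ∃ c : Γ(X, ⊤),
        (iK f (I ^ m)).appTop.hom c =
          (tr f (Ideal.pow_le_pow_right (I := I) hmm')).appTop.hom z) := by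
  letI : X.Over (Spec (CommRingCat.of A)) := ⟨f⟩
  haveI : IsProper (X ↘ Spec (CommRingCat.of A)) := ‹IsProper f›
  obtain ⟨σ, _, a, ha, hspan⟩ := exists_generators A I
  have hF := CohDevH8.isCoh_structureModule X
  obtain ⟨c₁, h₁⟩ := exists_ker_le A I X (Coh.structureModule X) hF σ a ha hspan 0
  obtain ⟨c₂, h₂⟩ := exists_range_le A I X (Coh.structureModule X) hF σ a ha hspan 0
  have hnk : c₁ + 1 ≤ c₁ + 1 + c₂ := Nat.le_add_right _ _
  obtain ⟨Ψ, hΨ⟩ := exists_Psi_pull A I f (c₁ + 1 + 1)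
  obtain ⟨Ψ', hΨ'⟩ := exists_Psi_pull A I f (c₁ + 1 + c₂ + 1)
  refine ⟨c₁ + 1 + 1, c₁ + 1 + c₂ + 1, Nat.succ_le_succ hnk, by omega, ?_, ?_⟩
  · intro c hc
    obtain ⟨x, rfl⟩ : ∃ x, SteinFinH3.e0 X x = c := (SteinFinH3.e0 X).surjective c
    apply toGlobal_mem_of_mem_smul A I f x
    have h3 : Formal.toHHmodPow I (Coh.structureModule X) 0 (c₁ + 1) x = 0 := by
      apply phi_injective (iK f (I ^ (c₁ + 1 + 1))) I (c₁ + 1 + 1) Ψ
      rw [phi_zero]
      exact (phi_toHH (iK f (I ^ (c₁ + 1 + 1))) I (c₁ + 1 + 1) Ψ hΨ x).trans hc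
    have h4 := h₁ (c₁ + 1) (Nat.le_succ _) x h3
    have h5 : c₁ + 1 - c₁ = 1 := by omega
    rw [h5, pow_one] at h4
    exact h4
  · intro z
    obtain ⟨z', rfl⟩ := phi_surjective (iK f (I ^ (c₁ + 1 + c₂ + 1))) I (c₁ + 1 + c₂ + 1) Ψ' z
    obtain ⟨x, hx⟩ := h₂ (c₁ + 1) (c₁ + 1 + c₂) hnk le_rfl z'
    refine ⟨SteinFinH3.e0 X x, ?_⟩
    have h6 := phi_toHH (iK f (I ^ (c₁ + 1 + 1))) I (c₁ + 1 + 1) Ψ hΨ x
    refine h6.symm.trans ?_
    have h7 := phi_trans' (iK f (I ^ (c₁ + 1 + c₂ + 1)))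
      (tr f (Ideal.pow_le_pow_right (I := I) (Nat.succ_le_succ hnk))) I (Nat.succ_le_succ hnk)
      Ψ' hΨ' (iK f (I ^ (c₁ + 1 + 1))) (tr_fst f _) Ψ hΨ z'
    rw [h7]
    exact congrArg (phi (iK f (I ^ (c₁ + 1 + 1))) I (c₁ + 1 + 1) Ψ) hx

end Main

end Groth.Agent.Lib.FFGammaH8
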