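import Mathlib

/-!
# Clopen subsets of a scheme and idempotent global sections (helper3)
-/

universe u

open AlgebraicGeometry CategoryTheory TopologicalSpace Opposite

namespace Groth.Agent.Lib.SchemeIdemH3

variable (Y : Scheme.{u})

theorem basicOpen_inf_eq_bot {e : Γ(Y, ⊤)} (he : IsIdempotentElem e) :
    Y.basicOpen e ⊓ Y.basicOpen (1 - e) = ⊥ := by
  rw [← Scheme.basicOpen_mul, mul_sub, mul_one, he.eq, sub_self, Scheme.basicOpen_zero]

theorem basicOpen_sup_eq_top (e : Γ(Y, ⊤)) :
    Y.basicOpen e ⊔ Y.basicOpen (1 - e) = ⊤ := by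
  rw [eq_top_iff]
  refine le_trans ?_ (Y.basicOpen_add_le e (1 - e))
  rw [add_sub_cancel, Scheme.basicOpen_one]

theorem isClopen_basicOpen {e : Γ(Y, ⊤)} (he : IsIdempotentElem e) :
    IsClopen (Y.basicOpen e : Set Y) := by
  refine ⟨?_, (Y.basicOpen e).2⟩
  have h1 : (Y.basicOpen e : Set Y)ᶜ = (Y.basicOpen (1 - e) : Set Y) := by
    have hinf := congrArg (fun U : Y.Opens => (U : Set Y)) (basicOpen_inf_eq_bot Y he)
    have hsup := congrArg (fun U : Y.Opens => (U : Set Y)) (basicOpen_sup_eq_top Y e)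
    simp only [Opens.coe_inf, Opens.coe_bot, Opens.coe_sup, Opens.coe_top] at hinf hsup
    ext y
    constructor
    · intro hy
      have : y ∈ (Y.basicOpen e : Set Y) ∪ (Y.basicOpen (1 - e) : Set Y) := by
        rw [hsup]; trivial
      rcases this with h | h
      · exact absurd h hy
      · exact h
    · intro hy hy'
      have : y ∈ (Y.basicOpen e : Set Y) ∩ (Y.basicOpen (1 - e) : Set Y) := ⟨hy', hy⟩
      rw [hinf] at this
      exact this
  rw [← isOpen_compl_iff, h1]
  exact (Y.basicOpen (1 - e)).2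

/-- The restriction of an idempotent to its basic open is `1`. -/
theorem res_basicOpen_eq_one {e : Γ(Y, ⊤)} (he : IsIdempotentElem e) :
    Y.presheaf.map (homOfLE (le_top : Y.basicOpen e ≤ ⊤)).op e = 1 := by
  have hu : IsUnit (Y.presheaf.map (homOfLE (le_top : Y.basicOpen e ≤ ⊤)).op e) :=
    Y.toRingedSpace.isUnit_res_basicOpen e
  have hi : IsIdempotentElem (Y.presheaf.map (homOfLE (le_top : Y.basicOpen e ≤ ⊤)).op e) :=
    he.map (Y.presheaf.map (homOfLE (le_top : Y.basicOpen e ≤ ⊤)).op).hom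
  exact (IsIdempotentElem.iff_eq_one_of_isUnit hu).1 hi

theorem eq_of_basicOpen_eq {e e' : Γ(Y, ⊤)} (he : IsIdempotentElem e)
    (he' : IsIdempotentElem e') (h : Y.basicOpen e = Y.basicOpen e') : e = e' := by
  have h' : Y.basicOpen (1 - e) = Y.basicOpen (1 - e') := by
    have h1 := isClopen_basicOpen Y he
    apply Opens.ext
    have hc : ∀ {f : Γ(Y, ⊤)}, IsIdempotentElem f →
        (Y.basicOpen (1 - f) : Set Y) = (Y.basicOpen f : Set Y)ᶜ := by
      intro f hf
      have hinf := congrArg (fun U : Y.Opens => (U : Set Y)) (basicOpen_inf_eq_bot Y hf)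
      have hsup := congrArg (fun U : Y.Opens => (U : Set Y)) (basicOpen_sup_eq_top Y f)
      simp only [Opens.coe_inf, Opens.coe_bot, Opens.coe_sup, Opens.coe_top] at hinf hsup
      ext y
      constructor
      · intro hy hy'
        have : y ∈ (Y.basicOpen f : Set Y) ∩ (Y.basicOpen (1 - f) : Set Y) := ⟨hy', hy⟩
        rw [hinf] at this
        exact this
      · intro hy
        have : y ∈ (Y.basicOpen f : Set Y) ∪ (Y.basicOpen (1 - f) : Set Y) := by
          rw [hsup]; trivial
        rcases this with h | h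
        · exact absurd h hy
        · exact h
    rw [hc he, hc he', h]
  apply Y.IsSheaf.section_ext
  intro y _
  have hy : y ∈ Y.basicOpen e ⊔ Y.basicOpen (1 - e) := by
    rw [basicOpen_sup_eq_top]; trivial
  rcases hy with hy | hy
  · refine ⟨Y.basicOpen e, le_top, hy, ?_⟩
    have h1 := res_basicOpen_eq_one Y he
    have h2 := res_basicOpen_eq_one Y he'
    have h3 : Y.presheaf.map (homOfLE (le_top : Y.basicOpen e ≤ ⊤)).op e' = 1 := by
      have : Y.presheaf.map (homOfLE (le_top : Y.basicOpen e ≤ ⊤)).op e' =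
          Y.presheaf.map (eqToHom h).op
            (Y.presheaf.map (homOfLE (le_top : Y.basicOpen e' ≤ ⊤)).op e') := by
        rw [← CommRingCat.comp_apply, ← Functor.map_comp]
        rfl
      rw [this, h2, map_one]
    exact h1.trans h3.symm
  · refine ⟨Y.basicOpen (1 - e), le_top, hy, ?_⟩
    have h1 := res_basicOpen_eq_one Y he.one_sub
    have h2 := res_basicOpen_eq_one Y he'.one_sub
    have h3 : Y.presheaf.map (homOfLE (le_top : Y.basicOpen (1 - e) ≤ ⊤)).op (1 - e') = 1 := by
      have : Y.presheaf.map (homOfLE (le_top : Y.basicOpen (1 - e) ≤ ⊤)).op (1 - e') =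
          Y.presheaf.map (eqToHom h').op
            (Y.presheaf.map (homOfLE (le_top : Y.basicOpen (1 - e') ≤ ⊤)).op (1 - e')) := by
        rw [← CommRingCat.comp_apply, ← Functor.map_comp]
        rfl
      rw [this, h2, map_one]
    have h4 := h1.trans h3.symm
    rw [map_sub, map_sub, map_one] at h4
    exact sub_right_injective h4

theorem exists_idem_of_isClopen (U : Set Y) (hU : IsClopen U) :
    ∃ e : Γ(Y, ⊤), IsIdempotentElem e ∧ (Y.basicOpen e : Set Y) = U := by
  let U' : Y.Opens := ⟨U, hU.isOpen⟩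
  let V' : Y.Opens := ⟨Uᶜ, hU.compl.isOpen⟩
  let W : Bool → Y.Opens := fun b => if b then U' else V'
  have hcover : (⊤ : Y.Opens) ≤ iSup W := by
    intro y _
    rw [Opens.mem_iSup]
    by_cases hy : y ∈ U
    · exact ⟨true, hy⟩
    · exact ⟨false, hy⟩
  let sf : ∀ b : Bool, Γ(Y, W b) := fun b => if b then 1 else 0
  have hcompat : TopCat.Presheaf.IsCompatible Y.presheaf W sf := by
    intro i j
    by_cases hij : i = j
    · subst hij
      rfl
    · have hbot : W i ⊓ W j = ⊥ := by
        apply Opens.ext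
        ext y
        simp only [Opens.coe_inf, Opens.coe_bot, Set.mem_inter_iff, Set.mem_empty_iff_false,
          iff_false, not_and]
        cases i <;> cases j <;> simp_all [W, U', V']
      haveI : Subsingleton Γ(Y, W i ⊓ W j) := by rw [hbot]; infer_instance
      exact Subsingleton.elim _ _
  obtain ⟨e, he, -⟩ : ∃! s : Γ(Y, ⊤), ∀ b : Bool,
      Y.presheaf.map (homOfLE (le_top : W b ≤ ⊤)).op s = sf b :=
    Y.sheaf.existsUnique_gluing' W ⊤ (fun b => homOfLE le_top) hcover sf hcompat
  have heU : Y.presheaf.map (homOfLE (le_top : U' ≤ ⊤)).op e = 1 := he true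
  have heV : Y.presheaf.map (homOfLE (le_top : V' ≤ ⊤)).op e = 0 := he false
  have hidem : IsIdempotentElem e := by
    apply Y.IsSheaf.section_ext
    intro y _
    by_cases hy : y ∈ U
    · refine ⟨U', le_top, hy, ?_⟩
      rw [map_mul, heU, mul_one]
    · refine ⟨V', le_top, hy, ?_⟩
      rw [map_mul, heV, mul_zero]
  refine ⟨e, hidem, ?_⟩
  ext y
  rw [SetLike.mem_coe, Scheme.mem_basicOpen_top]
  constructor
  · intro hu
    by_contra hy
    have h1 : Y.presheaf.germ ⊤ y trivial e = Y.presheaf.germ V' y hy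
        (Y.presheaf.map (homOfLE (le_top : V' ≤ ⊤)).op e) :=
      (Y.presheaf.germ_res_apply (homOfLE (le_top : V' ≤ ⊤)) y hy e).symm
    rw [h1, heV, map_zero] at hu
    exact not_isUnit_zero hu
  · intro hy
    have h1 : Y.presheaf.germ ⊤ y trivial e = Y.presheaf.germ U' y hy
        (Y.presheaf.map (homOfLE (le_top : U' ≤ ⊤)).op e) :=
      (Y.presheaf.germ_res_apply (homOfLE (le_top : U' ≤ ⊤)) y hy e).symm
    rw [h1, heU, map_one]
    exact isUnit_one

end Groth.Agent.Lib.SchemeIdemH3
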