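import Mathlib
import Groth.Prelude
import Groth.Agent.Lib.FFGamma2_helper8
import Groth.Agent.Lib.SchemeIdem_helper3
import Groth.Agent.Lib.ClopenLift_helper3
import Groth.Agent.Lib.GabberIdem_lead

/-!
# Proper schemes over Noetherian henselian pairs are henselian couples (helper8)
APPEND-ONLY once landed.
-/

set_option autoImplicit false
universe u
open CategoryTheory CategoryTheory.Limits AlgebraicGeometry TopologicalSpace Opposite

namespace Groth.Agent.Lib.HensProperH8

open Groth.Agent.Lib.FFGammaH8 Groth.Agent.Lib.ClopenLiftH3 Groth.Agent.Lib.SchemeIdemH3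

section Top

variable {A : Type u} [CommRing A] (I : Ideal A) {X : Scheme.{u}}
  (f : X ⟶ Spec (CommRingCat.of A))

/-- the range of `X ×_A A/K ⟶ X` is the preimage of `V(K)` -/
theorem range_iK (K : Ideal A) :
    Set.range (iK f K).base = f.base ⁻¹' (PrimeSpectrum.zeroLocus (K : Set A)) := by
  rw [Scheme.Pullback.range_fst]
  congr 1
  have h := _root_.range_comap_of_surjective _ (Ideal.Quotient.mk K)
    Ideal.Quotient.mk_surjective
  rw [Ideal.mk_ker] at h
  exact h

/-- a closed subset of `X` missing `X ×_A A/I` is empty when `X` is proper over `A` and `I` lies in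
the Jacobson radical -/
theorem eq_empty_of_disjoint [IsProper f] (hI : I ≤ Ideal.jacobson ⊥) (D : Set X)
    (hD : IsClosed D) (hdisj : (iK f I).base ⁻¹' D = ∅) : D = ∅ := by
  by_contra hne
  have hne' : D.Nonempty := Set.nonempty_iff_ne_empty.mpr hne
  have hcl : IsClosed (f.base '' D) := f.isClosedMap D hD
  obtain ⟨x, hxD⟩ := hne'
  -- a maximal ideal containing the prime `f x`
  obtain ⟨J, hJ⟩ := (PrimeSpectrum.isClosed_iff_zeroLocus_ideal _).mp hcl
  have hJne : J ≠ ⊤ := by
    intro hJt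
    rw [hJt] at hJ
    have : f.base x ∈ f.base '' D := ⟨x, hxD, rfl⟩
    rw [hJ] at this
    simp at this
    exact (Set.mem_empty_iff_false _).mp this
  obtain ⟨M, hM, hJM⟩ := Ideal.exists_le_maximal J hJne
  have hMmem : (⟨M, hM.isPrime⟩ : PrimeSpectrum A) ∈ f.base '' D := by
    rw [hJ]
    exact hJM
  obtain ⟨y, hyD, hy⟩ := hMmem
  have hIM : I ≤ M := hI.trans (by
    rw [Ideal.jacobson_bot]
    exact Ring.jacobson_le_of_isMaximal M) 
  have hyr : y ∈ Set.range (iK f I).base := by
    rw [range_iK]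
    show f.base y ∈ PrimeSpectrum.zeroLocus (I : Set A)
    rw [hy]
    exact hIM
  obtain ⟨z, hz⟩ := hyr
  have : z ∈ (iK f I).base ⁻¹' D := by
    show (iK f I).base z ∈ D
    rw [hz]; exact hyD
  rw [hdisj] at this
  exact this

theorem unique_lift [IsProper f] (hI : I ≤ Ideal.jacobson ⊥) (U U' : Set X)
    (hU : IsClopen U) (hU' : IsClopen U')
    (h : (iK f I).base ⁻¹' U = (iK f I).base ⁻¹' U') : U = U' := by
  have h1 := eq_empty_of_disjoint I f hI (U \ U') (hU.1.sdiff hU'.2) (by
    rw [Set.preimage_sdiff, h, Set.sdiff_self])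
  have h2 := eq_empty_of_disjoint I f hI (U' \ U) (hU'.1.sdiff hU.2) (by
    rw [Set.preimage_sdiff, h, Set.sdiff_self])
  exact Set.Subset.antisymm (Set.sdiff_eq_empty.mp h1) (Set.sdiff_eq_empty.mp h2)

/-- `X ×_A A/K ⟶ X ×_A A/K'` is surjective when `K^n ≤ K'` -/
theorem tr_surjective {K K' : Ideal A} (h : K' ≤ K) (n : ℕ) (hn : K ^ n ≤ K') :
    Function.Surjective (tr f h).base := by
  intro z
  have hz : (iK f K').base z ∈ Set.range (iK f K).base := by
    rw [range_iK]
    have h1 : (iK f K').base z ∈ Set.range (iK f K').base := ⟨z, rfl⟩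
    rw [range_iK] at h1
    show f.base ((iK f K').base z) ∈ PrimeSpectrum.zeroLocus (K : Set A)
    let q : PrimeSpectrum A := f.base ((iK f K').base z)
    have h2 : (K' : Set A) ⊆ q.asIdeal := h1
    show (K : Set A) ⊆ q.asIdeal
    have h3 : K ^ n ≤ q.asIdeal := hn.trans h2
    exact q.isPrime.le_of_pow_le h3
  obtain ⟨w, hw⟩ := hz
  refine ⟨w, ?_⟩
  apply (iK f K').isClosedEmbedding.injective
  rw [← hw]
  show ((tr f h) ≫ iK f K').base w = _
  rw [tr_fst]

end Top

section Main

variable (A : Type u) [CommRing A] [IsNoetherianRing A] (I : Ideal A) {X : Scheme.{u}}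
  (f : X ⟶ Spec (CommRingCat.of A)) [IsProper f]

/-- elements of `I` vanish on `X ×_A A/I` -/
theorem appTop_toGlobal_eq_zero (a : A) (ha : a ∈ I) :
    (iK f I).appTop.hom (Coh.toGlobal f a) = 0 := by
  have h1 : (iK f I).appTop.hom (Coh.toGlobal f a) = Coh.toGlobal (iK f I ≫ f) a := by
    unfold Coh.toGlobal
    rw [Scheme.Hom.comp_appTop]
    rfl
  rw [h1]
  have h2 : iK f I ≫ f = pullback.snd f _ ≫ Spec.map (CommRingCat.ofHom (Ideal.Quotient.mk I)) :=
    pullback.condition
  rw [h2, Groth.Agent.Lib.ThickH2.toGlobal_of_comp, Ideal.Quotient.eq_zero_iff_mem.mpr ha,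
    map_zero]
  rfl

theorem appTop_eq_zero_of_mem_map (c : Γ(X, ⊤)) (hc : c ∈ Ideal.map (tG A f) I) :
    (iK f I).appTop.hom c = 0 := by
  have hle : Ideal.map (tG A f) I ≤ RingHom.ker (iK f I).appTop.hom := by
    rw [Ideal.map_le_iff_le_comap]
    intro a ha
    rw [Ideal.mem_comap, RingHom.mem_ker]
    exact appTop_toGlobal_eq_zero A I f a ha
  exact RingHom.mem_ker.mp (hle hc)

/-- existence of clopen lifts -/
theorem exists_lift (hI : HenselianRing A I) (V : Set ↥(ZK f I)) (hV : IsClopen V) :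
    ∃ U : Set X, IsClopen U ∧ (iK f I).base ⁻¹' U = V := by
  obtain ⟨m, m', hmm', hm, hker, hml⟩ := exists_levels A I f
  obtain ⟨e₀, he₀, he₀V⟩ := exists_idem_of_isClopen (ZK f I) V hV
  have hm'1 : 1 ≤ m' := hm.trans hmm'
  have hle' : I ^ m' ≤ I := Ideal.pow_le_self (by omega)
  have hle : I ^ m ≤ I := Ideal.pow_le_self (by omega)
  let s := tr f hle'
  have hs_surj : Function.Surjective s.base := tr_surjective f hle' m' le_rfl
  have hs_emb := s.isClosedEmbedding
  -- the image of `V` is clopen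
  have hV' : IsClopen (s.base '' V) := by
    refine ⟨hs_emb.isClosedMap V hV.1, ?_⟩
    have hcompl : (s.base '' V)ᶜ = s.base '' Vᶜ :=
      (Set.image_compl_eq ⟨hs_emb.injective, hs_surj⟩).symm
    rw [← isClosed_compl_iff, hcompl]
    exact hs_emb.isClosedMap _ hV.compl.1
  obtain ⟨e', he', he'V⟩ := exists_idem_of_isClopen (ZK f (I ^ m')) _ hV'
  have hse' : s.appTop.hom e' = e₀ := by
    apply eq_of_basicOpen_eq (ZK f I) (he'.map s.appTop.hom) he₀
    apply Opens.ext
    rw [he₀V, ← Scheme.preimage_basicOpen_top]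
    show s.base ⁻¹' ((ZK f (I ^ m')).basicOpen e' : Set _) = V
    rw [he'V]
    exact Set.preimage_image_eq V hs_emb.injective
  obtain ⟨c, hc⟩ := hml e'
  have hcc : c * c - c ∈ Ideal.map (tG A f) I := by
    apply hker
    rw [map_sub, map_mul, hc, ← map_mul, he'.eq, sub_self]
  -- lift to an idempotent
  letI : Algebra A Γ(X, ⊤) := (tG A f).toAlgebra
  haveI : Module.Finite A Γ(X, ⊤) := SteinFinH3.finite_comp_of_isProper A f
  haveI : Algebra.IsIntegral A Γ(X, ⊤) := Algebra.IsIntegral.of_finite A _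
  have hcc' : c * c - c ∈ I • (⊤ : Submodule A Γ(X, ⊤)) :=
    (Groth.Agent.Lib.HenselPair.mem_map_iff_mem_smul_top I _).mp hcc
  obtain ⟨e, he, hec⟩ := Groth.Agent.Lib.GabberIdem.exists_idem_lift_integral hI c hcc'
  have hec' : e - c ∈ Ideal.map (tG A f) I :=
    (Groth.Agent.Lib.HenselPair.mem_map_iff_mem_smul_top I _).mpr hec
  refine ⟨(X.basicOpen e : Set X), isClopen_basicOpen X he, ?_⟩
  have h1 : (iK f I).appTop.hom e = (iK f I).appTop.hom c := by
    have := appTop_eq_zero_of_mem_map A I f _ hec'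
    rw [map_sub, sub_eq_zero] at this
    exact this
  have h2 : (iK f I).appTop.hom c = e₀ := by
    have h3 : iK f I = tr f hle ≫ iK f (I ^ m) := (tr_fst f hle).symm
    have h4 : (iK f I).appTop.hom c = (tr f hle).appTop.hom ((iK f (I ^ m)).appTop.hom c) := by
      rw [h3, Scheme.Hom.comp_appTop]
      rfl
    rw [h4, hc, ← hse']
    have h5 : s = tr f hle ≫ tr f (Ideal.pow_le_pow_right hmm') := (tr_tr f hle _).symm
    rw [h5, Scheme.Hom.comp_appTop]
    rfl
  rw [← he₀V, ← h2, ← h1]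
  have := congrArg (fun W : (ZK f I).Opens => (W : Set ↥(ZK f I)))
    (Scheme.preimage_basicOpen_top (iK f I) e)
  exact this

/-- `(X, X ×_A A/I)` lifts clopen subsets uniquely -/
theorem clopenLift_proper (hI : HenselianRing A I) : ClopenLift (iK f I).base := by
  intro V hV
  obtain ⟨U, hU, hUV⟩ := exists_lift A I f hI V hV
  refine ⟨U, ⟨hU, hUV⟩, ?_⟩
  rintro U' ⟨hU', hU'V⟩
  exact unique_lift I f hI.jac U' U hU' hU (hU'V.trans hUV.symm)

end Main

end Groth.Agent.Lib.HensProperH8
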