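import Mathlib

namespace Groth.Agent.Lib.SpectralClosedH8

open Topology TopologicalSpace

variable {X : Type*} [TopologicalSpace X]

theorem quasiSeparatedSpace_of_isClosed [PrespectralSpace X] [QuasiSeparatedSpace X]
    (Y : Set X) (hY : IsClosed Y) : QuasiSeparatedSpace ↥Y := by
  have hemb : IsClosedEmbedding (Subtype.val : Y → X) := hY.isClosedEmbedding_subtypeVal
  let b : {U : Set X | IsOpen U ∧ IsCompact U} → Set Y := fun U => Subtype.val ⁻¹' U.1
  have hb : IsTopologicalBasis (Set.range b) := by
    have := (PrespectralSpace.isTopologicalBasis (X := X)).isInducing hemb.isInducing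
    convert this using 1
    ext s
    simp [b]
  refine QuasiSeparatedSpace.of_isTopologicalBasis hb ?_
  intro U V
  have : b U ∩ b V = Subtype.val ⁻¹' (U.1 ∩ V.1) := rfl
  rw [this]
  exact hemb.isCompact_preimage (U.2.2.inter_of_isOpen V.2.2 U.2.1 V.2.1)

theorem spectralSpace_of_isClosed [SpectralSpace X] (Y : Set X) (hY : IsClosed Y) :
    SpectralSpace ↥Y :=
  have hemb : IsClosedEmbedding (Subtype.val : Y → X) := hY.isClosedEmbedding_subtypeVal
  { toT0Space := inferInstance
    toCompactSpace := isCompact_iff_compactSpace.mp hY.isCompact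
    toQuasiSober := hemb.quasiSober
    toQuasiSeparatedSpace := quasiSeparatedSpace_of_isClosed Y hY
    toPrespectralSpace := PrespectralSpace.of_isClosedEmbedding _ hemb }

end Groth.Agent.Lib.SpectralClosedH8
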