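import Mathlib
import Groth.Agent.Lib.SpectralClosed_helper8

namespace Groth.Agent.Lib.SpectralProdH8

open Topology TopologicalSpace Set

section Prod

variable {X T : Type*} [TopologicalSpace X] [TopologicalSpace T]

theorem quasiSober_prod_of_t2 [QuasiSober X] [T2Space T] : QuasiSober (X × T) := by
  refine ⟨fun {S} hS hSc => ?_⟩
  obtain ⟨⟨x0, t⟩, h0⟩ := hS.nonempty
  have hsnd : ∀ p ∈ S, p.2 = t := by
    intro p hp
    have hirr : IsPreirreducible (Prod.snd '' S) :=
      hS.isPreirreducible.image _ continuous_snd.continuousOn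
    exact hirr.subsingleton ⟨p, hp, rfl⟩ ⟨(x0, t), h0, rfl⟩
  have hS'c : IsClosed ((fun x => (x, t)) ⁻¹' S : Set X) :=
    hSc.preimage (Continuous.prodMk_left t)
  have hSeq : S = ((fun x => (x, t)) ⁻¹' S : Set X) ×ˢ ({t} : Set T) := by
    ext ⟨x, s⟩
    constructor
    · intro h
      have := hsnd _ h
      simp only at this
      subst this
      exact ⟨h, rfl⟩
    · rintro ⟨h1, h2⟩
      simp only [mem_singleton_iff] at h2
      subst h2
      exact h1
  have hS'irr : IsIrreducible ((fun x => (x, t)) ⁻¹' S : Set X) := by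
    have : ((fun x => (x, t)) ⁻¹' S : Set X) = Prod.fst '' S := by
      ext x
      constructor
      · intro hx
        exact ⟨(x, t), hx, rfl⟩
      · rintro ⟨⟨x', s⟩, hp, rfl⟩
        have := hsnd _ hp
        simp only at this
        subst this
        exact hp
    rw [this]
    exact hS.image _ continuous_fst.continuousOn
  obtain ⟨x, hx⟩ := QuasiSober.sober hS'irr hS'c
  refine ⟨(x, t), ?_⟩
  rw [isGenericPoint_def, ← Set.singleton_prod_singleton, closure_prod_eq, hx.def,
    closure_singleton]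
  exact hSeq.symm

theorem spectralSpace_prod_profinite [SpectralSpace X] [CompactSpace T] [T2Space T]
    [TotallyDisconnectedSpace T] : SpectralSpace (X × T) := by
  let b : {U : Set X | IsOpen U ∧ IsCompact U} × {V : Set T | IsClopen V} → Set (X × T) :=
    fun i => i.1.1 ×ˢ i.2.1
  have hb : IsTopologicalBasis (Set.range b) := by
    have := (PrespectralSpace.isTopologicalBasis (X := X)).prod
      (isTopologicalBasis_isClopen (X := T))
    convert this using 1
    ext s
    constructor
    · rintro ⟨i, rfl⟩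
      exact ⟨i.1.1, i.1.2, i.2.1, i.2.2, rfl⟩
    · rintro ⟨U, hU, V, hV, rfl⟩
      exact ⟨(⟨U, hU⟩, ⟨V, hV⟩), rfl⟩
  have hbc : ∀ i j, IsCompact (b i ∩ b j) := by
    intro i j
    have : b i ∩ b j = (i.1.1 ∩ j.1.1) ×ˢ (i.2.1 ∩ j.2.1) := Set.prod_inter_prod
    rw [this]
    exact (i.1.2.2.inter_of_isOpen j.1.2.2 i.1.2.1 j.1.2.1).prod
      ((i.2.2.1.inter j.2.2.1).isCompact)
  exact
    { toT0Space := inferInstance
      toCompactSpace := inferInstance
      toQuasiSober := quasiSober_prod_of_t2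
      toQuasiSeparatedSpace := .of_isTopologicalBasis hb hbc
      toPrespectralSpace := .of_isTopologicalBasis' hb (fun i => by simpa using hbc i i) }

end Prod

section Components

variable {X : Type*} [TopologicalSpace X]

lemma exists_clopen_disjoint {x : X} {K : Set X} (hK : IsCompact K)
    (h : K ∩ ⋂ s : { s : Set X // IsClopen s ∧ x ∈ s }, (s : Set X) = ∅) :
    ∃ Z, IsClopen Z ∧ x ∈ Z ∧ K ∩ Z = ∅ := by
  obtain ⟨fin_a, ha⟩ := hK.elim_finite_subfamily_closed _
    (fun s : { s : Set X // IsClopen s ∧ x ∈ s } => s.2.1.1) h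
  refine ⟨⋂ (i : { s // IsClopen s ∧ x ∈ s }) (_ : i ∈ fin_a), (i : Set X),
    isClopen_biInter_finset fun i _ => i.2.1, ?_, ha⟩
  exact mem_iInter₂.2 fun s _ => s.2.2

/-- In a compact prespectral quasi-separated space (e.g. a spectral space), the connected component
of a point is the intersection of its clopen neighbourhoods. -/
theorem connectedComponent_eq_iInter_isClopen' [CompactSpace X] [PrespectralSpace X]
    [QuasiSeparatedSpace X] (x : X) :
    connectedComponent x = ⋂ s : { s : Set X // IsClopen s ∧ x ∈ s }, (s : Set X) := by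
  apply Subset.antisymm connectedComponent_subset_iInter_isClopen
  refine IsPreconnected.subset_connectedComponent ?_ (mem_iInter.2 fun s => s.2.2)
  have hSc : @IsClosed X _ (⋂ s : { s : Set X // IsClopen s ∧ x ∈ s }, s) :=
    isClosed_iInter fun s => s.2.1.1
  have hSsub : ∀ Z : Set X, IsClopen Z → x ∈ Z →
      (⋂ s : { s : Set X // IsClopen s ∧ x ∈ s }, (s : Set X)) ⊆ Z := fun Z hZ hxZ =>
    iInter_subset (fun s : { s : Set X // IsClopen s ∧ x ∈ s } => s.1) ⟨Z, hZ, hxZ⟩
  rw [isPreconnected_iff_subset_of_fully_disjoint_closed hSc]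
  intro a b ha hb hab hdis
  set S : Set X := ⋂ s : { s : Set X // IsClopen s ∧ x ∈ s }, (s : Set X) with hSdef
  obtain ⟨U, hUc, hUo, haU, hUb⟩ := PrespectralSpace.exists_isCompact_and_isOpen_between
    (K := a ∩ S) (U := (b ∩ S)ᶜ) ((ha.inter hSc).isCompact) (hb.inter hSc).isOpen_compl
    (fun z hz hz' => Set.disjoint_left.mp hdis hz.1 hz'.1)
  obtain ⟨U', hU'c, hU'o, hbU', hU'a⟩ := PrespectralSpace.exists_isCompact_and_isOpen_between
    (K := b ∩ S) (U := (a ∩ S)ᶜ) ((hb.inter hSc).isCompact) (ha.inter hSc).isOpen_compl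
    (fun z hz hz' => Set.disjoint_left.mp hdis hz'.1 hz.1)
  have h1 : (U ∩ U') ∩ S = ∅ := by
    ext z
    simp only [Set.mem_inter_iff, Set.mem_empty_iff_false, iff_false]
    rintro ⟨⟨hzU, hzU'⟩, hzS⟩
    rcases hab hzS with hza | hzb
    · exact hU'a hzU' ⟨hza, hzS⟩
    · exact hUb hzU ⟨hzb, hzS⟩
  have h2 : (U ∪ U')ᶜ ∩ S = ∅ := by
    ext z
    simp only [Set.mem_inter_iff, Set.mem_compl_iff, Set.mem_union, Set.mem_empty_iff_false,
      iff_false]
    rintro ⟨hz, hzS⟩
    rcases hab hzS with hza | hzb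
    · exact hz (Or.inl (haU ⟨hza, hzS⟩))
    · exact hz (Or.inr (hbU' ⟨hzb, hzS⟩))
  obtain ⟨Z1, hZ1, hxZ1, hZ1e⟩ :=
    exists_clopen_disjoint (x := x) (hUc.inter_of_isOpen hU'c hUo hU'o) h1
  obtain ⟨Z2, hZ2, hxZ2, hZ2e⟩ :=
    exists_clopen_disjoint (x := x) ((hUo.union hU'o).isClosed_compl.isCompact) h2
  have hZ1e' : ∀ z, z ∈ U → z ∈ U' → z ∈ Z1 → False := fun z h1 h2 h3 =>
    (Set.eq_empty_iff_forall_notMem.mp hZ1e z) ⟨⟨h1, h2⟩, h3⟩
  have hZ2e' : ∀ z, z ∈ Z2 → z ∈ U ∨ z ∈ U' := fun z h3 => by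
    by_contra hcon
    exact (Set.eq_empty_iff_forall_notMem.mp hZ2e z) ⟨hcon, h3⟩
  rcases hZ2e' x hxZ2 with hxU | hxU'
  · left
    have hcl : IsClopen (Z1 ∩ Z2 ∩ U) := by
      refine ⟨?_, (hZ1.2.inter hZ2.2).inter hUo⟩
      have : Z1 ∩ Z2 ∩ U = Z1 ∩ Z2 ∩ U'ᶜ := by
        ext z
        constructor
        · rintro ⟨⟨hz1, hz2⟩, hzU⟩
          exact ⟨⟨hz1, hz2⟩, fun hzU' => hZ1e' z hzU hzU' hz1⟩
        · rintro ⟨⟨hz1, hz2⟩, hzU'⟩
          exact ⟨⟨hz1, hz2⟩, (hZ2e' z hz2).resolve_right hzU'⟩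
      rw [this]
      exact (hZ1.1.inter hZ2.1).inter hU'o.isClosed_compl
    have hS2 : S ⊆ Z1 ∩ Z2 ∩ U := hSsub _ hcl ⟨⟨hxZ1, hxZ2⟩, hxU⟩
    intro z hzS
    rcases hab hzS with hza | hzb
    · exact hza
    · exact absurd ⟨hzb, hzS⟩ (hUb (hS2 hzS).2)
  · right
    have hcl : IsClopen (Z1 ∩ Z2 ∩ U') := by
      refine ⟨?_, (hZ1.2.inter hZ2.2).inter hU'o⟩
      have : Z1 ∩ Z2 ∩ U' = Z1 ∩ Z2 ∩ Uᶜ := by
        ext z
        constructor
        · rintro ⟨⟨hz1, hz2⟩, hzU'⟩
          exact ⟨⟨hz1, hz2⟩, fun hzU => hZ1e' z hzU hzU' hz1⟩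
        · rintro ⟨⟨hz1, hz2⟩, hzU⟩
          exact ⟨⟨hz1, hz2⟩, (hZ2e' z hz2).resolve_left hzU⟩
      rw [this]
      exact (hZ1.1.inter hZ2.1).inter hUo.isClosed_compl
    have hS2 : S ⊆ Z1 ∩ Z2 ∩ U' := hSsub _ hcl ⟨⟨hxZ1, hxZ2⟩, hxU'⟩
    intro z hzS
    rcases hab hzS with hza | hzb
    · exact absurd ⟨hza, hzS⟩ (hU'a (hS2 hzS).2)
    · exact hzb

/-- `ConnectedComponents X` is Hausdorff for a spectral space `X`. -/
theorem t2Space_connectedComponents [CompactSpace X] [PrespectralSpace X]
    [QuasiSeparatedSpace X] : T2Space (ConnectedComponents X) := by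
  refine ⟨ConnectedComponents.surjective_coe.forall₂.2 fun a b ne => ?_⟩
  rw [ConnectedComponents.coe_ne_coe] at ne
  have h := connectedComponent_disjoint ne
  rw [connectedComponent_eq_iInter_isClopen' b, disjoint_iff_inter_eq_empty] at h
  obtain ⟨U, V, hU, ha, hb, rfl⟩ : ∃ (U : Set X) (V : Set (ConnectedComponents X)),
      IsClopen U ∧ connectedComponent a ∩ U = ∅ ∧ connectedComponent b ⊆ U ∧ (↑) ⁻¹' V = U := by
    have h :=
      (isClosed_connectedComponent (α := X)).isCompact.elim_finite_subfamily_closed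
        _ (fun s : { s : Set X // IsClopen s ∧ b ∈ s } => s.2.1.1) h
    obtain ⟨fin_a, ha⟩ := h
    set U : Set X := ⋂ (i : { s // IsClopen s ∧ b ∈ s }) (_ : i ∈ fin_a), i
    have hU : IsClopen U := isClopen_biInter_finset fun i _ => i.2.1
    exact ⟨U, (↑) '' U, hU, ha, subset_iInter₂ fun s _ => s.2.1.connectedComponent_subset s.2.2,
      (connectedComponents_preimage_image U).symm ▸ hU.biUnion_connectedComponent_eq⟩
  rw [ConnectedComponents.isQuotientMap_coe.isClopen_preimage] at hU
  refine ⟨Vᶜ, V, hU.compl.isOpen, hU.isOpen, ?_, hb mem_connectedComponent, disjoint_compl_left⟩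
  exact fun h => flip Set.Nonempty.ne_empty ha ⟨a, mem_connectedComponent, h⟩

end Components

section Fibre

variable {X T : Type*} [TopologicalSpace X] [TopologicalSpace T]

theorem isClosed_fib [SpectralSpace X] (g : C(T, ConnectedComponents X)) :
    IsClosed {p : X × T | ConnectedComponents.mk p.1 = g p.2} := by
  haveI : T2Space (ConnectedComponents X) := t2Space_connectedComponents
  exact isClosed_eq (ConnectedComponents.continuous_coe.comp continuous_fst)
    (g.continuous.comp continuous_snd)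

theorem spectralSpace_fib [SpectralSpace X] [CompactSpace T] [T2Space T]
    [TotallyDisconnectedSpace T] (g : C(T, ConnectedComponents X)) :
    SpectralSpace {p : X × T // ConnectedComponents.mk p.1 = g p.2} := by
  haveI : SpectralSpace (X × T) := spectralSpace_prod_profinite
  exact Groth.Agent.Lib.SpectralClosedH8.spectralSpace_of_isClosed
    {p : X × T | ConnectedComponents.mk p.1 = g p.2} (isClosed_fib g)

theorem isPreconnected_fibre (g : C(T, ConnectedComponents X)) (t : T) :
    IsPreconnected {y : {p : X × T // ConnectedComponents.mk p.1 = g p.2} | y.1.2 = t} := by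
  obtain ⟨x, hx⟩ := ConnectedComponents.surjective_coe (g t)
  have : (Subtype.val '' {y : {p : X × T // ConnectedComponents.mk p.1 = g p.2} | y.1.2 = t}) =
      connectedComponent x ×ˢ ({t} : Set T) := by
    ext ⟨z, s⟩
    constructor
    · rintro ⟨y, hy, hyz⟩
      have h1 : y.1.1 = z := congrArg Prod.fst hyz
      have h2 : y.1.2 = s := congrArg Prod.snd hyz
      have hy' : y.1.2 = t := hy
      refine ⟨?_, ?_⟩
      · show z ∈ connectedComponent x
        rw [← h1, ← ConnectedComponents.coe_eq_coe']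
        exact y.2.trans (by rw [hy', hx])
      · show s = t
        rw [← h2, hy']
    · rintro ⟨hz, hs⟩
      have hs' : s = t := hs
      subst hs'
      have hz' : z ∈ connectedComponent x := hz
      rw [← ConnectedComponents.coe_eq_coe'] at hz'
      exact ⟨⟨(z, s), hz'.trans hx⟩, rfl, rfl⟩
  have key : IsPreconnected
      (Subtype.val '' {y : {p : X × T // ConnectedComponents.mk p.1 = g p.2} | y.1.2 = t}) := by
    rw [this]
    exact isPreconnected_connectedComponent.prod isPreconnected_singleton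
  exact (IsInducing.subtypeVal.isPreconnected_image).mp key

theorem exists_homeomorph_fib [SpectralSpace X] [CompactSpace T] [T2Space T]
    [TotallyDisconnectedSpace T] (g : C(T, ConnectedComponents X)) :
    ∃ e : ConnectedComponents {p : X × T // ConnectedComponents.mk p.1 = g p.2} ≃ₜ T,
      ∀ y : {p : X × T // ConnectedComponents.mk p.1 = g p.2},
        e (ConnectedComponents.mk y) = y.1.2 := by
  haveI := spectralSpace_fib g
  have hp : Continuous (fun y : {p : X × T // ConnectedComponents.mk p.1 = g p.2} => y.1.2) :=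
    continuous_snd.comp continuous_subtype_val
  have hinj : Function.Injective hp.connectedComponentsLift := by
    intro a b
    obtain ⟨y, rfl⟩ := ConnectedComponents.surjective_coe a
    obtain ⟨y', rfl⟩ := ConnectedComponents.surjective_coe b
    intro h
    rw [hp.connectedComponentsLift_apply_coe, hp.connectedComponentsLift_apply_coe] at h
    rw [ConnectedComponents.coe_eq_coe']
    exact (isPreconnected_fibre g y'.1.2).subset_connectedComponent (x := y') rfl h
  have hsurj : Function.Surjective hp.connectedComponentsLift := by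
    intro t
    obtain ⟨x, hx⟩ := ConnectedComponents.surjective_coe (g t)
    refine ⟨ConnectedComponents.mk ⟨(x, t), hx⟩, ?_⟩
    exact hp.connectedComponentsLift_apply_coe _
  refine ⟨Continuous.homeoOfEquivCompactToT2 (f := Equiv.ofBijective _ ⟨hinj, hsurj⟩)
    hp.connectedComponentsLift_continuous, fun y => ?_⟩
  exact hp.connectedComponentsLift_apply_coe y

end Fibre

end Groth.Agent.Lib.SpectralProdH8
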