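import Mathlib
import Groth.Prelude
import Groth.Agent.Lib.HensProper1_helper8
import Groth.Agent.Lib.SpectralProd_helper8

/-!
# Henselian couples from proper schemes over henselian pairs: the statements (helper8)
APPEND-ONLY once landed.
-/

set_option autoImplicit false
universe u
open CategoryTheory CategoryTheory.Limits AlgebraicGeometry TopologicalSpace Opposite

namespace Groth.Agent.Lib.HensProperH8

open Groth.Agent.Lib.FFGammaH8 Groth.Agent.Lib.ClopenLiftH3 Groth.Agent.Lib.SchemeIdemH3

section S17961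

variable (A : Type u) [CommRing A] [IsNoetherianRing A] (I : Ideal A) {X : Scheme.{u}}
  (f : X ⟶ Spec (CommRingCat.of A)) [IsProper f]

theorem main17961 (hI : HenselianRing A I) (Y : Scheme.{u}) (g : Y ⟶ X) (hg : IsFinite g) :
    ClopenLift (pullback.fst g (iK f I)).base := by
  haveI := hg
  haveI : IsProper (g ≫ f) := inferInstance
  have h := clopenLift_proper A I (g ≫ f) hI
  let e := pullbackRightPullbackFstIso f (Spec.map (CommRingCat.ofHom (Ideal.Quotient.mk I))) g
  have he : e.hom ≫ iK (g ≫ f) I = pullback.fst g (iK f I) :=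
    pullbackRightPullbackFstIso_hom_fst _ _ _
  have h2 : ⇑(pullback.fst g (iK f I)).base =
      ⇑(iK (g ≫ f) I).base ∘ ⇑(Scheme.homeoOfIso e) := by
    rw [← he]
    rfl
  rw [h2]
  exact clopenLift_comp_homeomorph_of (Scheme.homeoOfIso e) _ h

end S17961

section S17960

variable (A : Type u) [CommRing A] [IsNoetherianRing A] (I : Ideal A) {X : Scheme.{u}}
  (f : X ⟶ Spec (CommRingCat.of A)) [IsProper f]

theorem mem_toSpecΓ_asIdeal_iff (x : X) (b : Γ(X, ⊤)) :
    b ∈ (show PrimeSpectrum Γ(X, ⊤) from X.toSpecΓ.base x).asIdeal ↔ x ∉ X.basicOpen b := by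
  have h := X.toSpecΓ_preimage_basicOpen b
  have h2 : x ∈ X.toSpecΓ ⁻¹ᵁ PrimeSpectrum.basicOpen b ↔ x ∈ X.basicOpen b := by rw [h]
  rw [← h2]
  let q : PrimeSpectrum Γ(X, ⊤) := X.toSpecΓ.base x
  show b ∈ q.asIdeal ↔ ¬ (q ∈ PrimeSpectrum.basicOpen b)
  rw [PrimeSpectrum.mem_basicOpen, not_not]

theorem preimage_zeroLocus_eq :
    X.toSpecΓ.base ⁻¹' (PrimeSpectrum.zeroLocus
      ((RingHom.ker (iK f I).appTop.hom : Ideal Γ(X, ⊤)) : Set Γ(X, ⊤))) =
    f.base ⁻¹' (PrimeSpectrum.zeroLocus (I : Set A)) := by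
  ext x
  constructor
  · intro hx a ha
    have hx' : ∀ b ∈ RingHom.ker (iK f I).appTop.hom,
        b ∈ (show PrimeSpectrum Γ(X, ⊤) from X.toSpecΓ.base x).asIdeal := hx
    have hb := hx' (Coh.toGlobal f a) (RingHom.mem_ker.mpr (appTop_toGlobal_eq_zero A I f a ha))
    rw [mem_toSpecΓ_asIdeal_iff] at hb
    by_contra hcon
    apply hb
    have h1 : f ⁻¹ᵁ (Spec (CommRingCat.of A)).basicOpen
        ((Scheme.ΓSpecIso (CommRingCat.of A)).inv.hom a) = X.basicOpen (Coh.toGlobal f a) :=
      Scheme.preimage_basicOpen_top f _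
    rw [← h1, basicOpen_eq_of_affine']
    show (show PrimeSpectrum A from f.base x) ∈ PrimeSpectrum.basicOpen _
    rw [PrimeSpectrum.mem_basicOpen]
    have h3 : (Scheme.ΓSpecIso (CommRingCat.of A)).hom.hom
        ((Scheme.ΓSpecIso (CommRingCat.of A)).inv.hom a) = a := by simp
    rw [h3]
    exact hcon
  · intro hx b hb
    have hx' : x ∈ Set.range (iK f I).base := by rw [range_iK]; exact hx
    obtain ⟨z, rfl⟩ := hx'
    show b ∈ (show PrimeSpectrum Γ(X, ⊤) from X.toSpecΓ.base ((iK f I).base z)).asIdeal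
    rw [mem_toSpecΓ_asIdeal_iff]
    intro hz
    have h1 : z ∈ (iK f I) ⁻¹ᵁ X.basicOpen b := hz
    rw [Scheme.preimage_basicOpen_top, RingHom.mem_ker.mp hb, Scheme.basicOpen_zero] at h1
    exact h1

theorem main17960
    (h : HenselianRing (Γ(X, ⊤) : Type u) (RingHom.ker (iK f I).appTop.hom))
    (Y : Scheme.{u}) (g : Y ⟶ X) (hg : IsFinite g) :
    ClopenLift (pullback.fst g (iK f I)).base := by
  haveI := hg
  letI : Algebra A Γ(X, ⊤) := (tG A f).toAlgebra
  haveI : Module.Finite A Γ(X, ⊤) := SteinFinH3.finite_comp_of_isProper A f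
  haveI : IsNoetherianRing Γ(X, ⊤) := Algebra.FiniteType.isNoetherianRing A _
  have hnat : X.toSpecΓ ≫ Spec.map f.appTop = f ≫ (Spec (CommRingCat.of A)).toSpecΓ :=
    (Scheme.toSpecΓ_naturality f).symm
  haveI : IsProper (X.toSpecΓ ≫ Spec.map f.appTop) := by rw [hnat]; infer_instance
  haveI : IsProper X.toSpecΓ := IsProper.of_comp X.toSpecΓ (Spec.map f.appTop)
  have h1 := main17961 (Γ(X, ⊤) : Type u) (RingHom.ker (iK f I).appTop.hom) X.toSpecΓ h Y g hg
  -- compare the two closed subschemes of `Y`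
  refine (clopenLift_iff_of_range (Scheme.Hom.isClosedEmbedding _).isEmbedding
    (Scheme.Hom.isClosedEmbedding _).isEmbedding (Homeomorph.refl Y) ?_).mp h1
  have hid : ⇑(Homeomorph.refl ↥Y) = id := rfl
  rw [hid, Set.image_id]
  have r1 := Scheme.Pullback.range_fst g (iK X.toSpecΓ (RingHom.ker (iK f I).appTop.hom))
  have r2 := Scheme.Pullback.range_fst g (iK f I)
  have r3 := range_iK X.toSpecΓ (RingHom.ker (iK f I).appTop.hom)
  have r4 := range_iK f I
  refine r1.trans (Eq.trans ?_ r2.symm)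
  congr 1
  exact r3.trans ((preimage_zeroLocus_eq A I f).trans r4.symm)

end S17960

section S13506

variable (A : Type u) [CommRing A] [IsNoetherianRing A] (I : Ideal A) {X : Scheme.{u}}
  (f : X ⟶ Spec (CommRingCat.of A)) [IsProper f]

theorem main13506 (hI : HenselianRing A I) :
    Function.Bijective (Continuous.connectedComponentsMap (iK f I).continuous) := by
  have hL := clopenLift_proper A I f hI
  haveI : CompactSpace ↥(ZK f I) := by
    haveI : QuasiCompact (iK f I ≫ f) := inferInstance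
    exact QuasiCompact.compactSpace_of_compactSpace (iK f I ≫ f)
  haveI : QuasiSeparatedSpace ↥(ZK f I) := by
    haveI : QuasiSeparated (iK f I ≫ f) := inferInstance
    exact quasiSeparatedSpace_of_quasiSeparated (iK f I ≫ f)
  constructor
  · intro c c' hcc
    obtain ⟨z, rfl⟩ := ConnectedComponents.surjective_coe c
    obtain ⟨z', rfl⟩ := ConnectedComponents.surjective_coe c'
    have h1 : ((iK f I).base z : _root_.ConnectedComponents X) = ((iK f I).base z' : _root_.ConnectedComponents X) :=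
      hcc
    rw [ConnectedComponents.coe_eq_coe'] at h1 ⊢
    by_contra hz
    rw [Groth.Agent.Lib.SpectralProdH8.connectedComponent_eq_iInter_isClopen' z'] at hz
    simp only [Set.mem_iInter, not_forall] at hz
    obtain ⟨⟨V, hV, hz'V⟩, hzV⟩ := hz
    obtain ⟨U, ⟨hU, hUV⟩, -⟩ := hL V hV
    have h2 : (iK f I).base z' ∈ U := by
      have : z' ∈ (iK f I).base ⁻¹' U := by rw [hUV]; exact hz'V
      exact this
    have h3 : (iK f I).base z ∈ U := hU.connectedComponent_subset h2 h1
    apply hzV
    show z ∈ V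
    rw [← hUV]
    exact h3
  · intro c
    obtain ⟨x, rfl⟩ := ConnectedComponents.surjective_coe c
    have hne : (iK f I).base ⁻¹' (connectedComponent x) ≠ ∅ := by
      intro hemp
      have := eq_empty_of_disjoint I f hI.jac (connectedComponent x)
        isClosed_connectedComponent hemp
      exact (Set.nonempty_iff_ne_empty.mp ⟨x, mem_connectedComponent⟩) this
    obtain ⟨z, hz⟩ := Set.nonempty_iff_ne_empty.mpr hne
    refine ⟨(z : _root_.ConnectedComponents _), ?_⟩
    show ((iK f I).base z : _root_.ConnectedComponents X) = x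
    rw [ConnectedComponents.coe_eq_coe']
    exact hz

end S13506

end Groth.Agent.Lib.HensProperH8
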