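import Mathlib
import Groth.Agent.Lib.FlatLocalExt5_helper3
import Groth.Agent.Lib.AnUnram_helper3

/-!
# Flat complete local algebras with a residue field containing a given field (helper8)

For a Noetherian ring `A` and a ring map `φ : A → K` to a field there are a complete Noetherian
local ring `C`, a flat ring map `γ : A → C` and a ring map `κ : K → C/𝔪_C` with
`κ ∘ φ = (C → C/𝔪_C) ∘ γ`.
APPEND-ONLY once landed.
-/

set_option autoImplicit false
universe u

namespace Groth.Agent.Lib.ZConnH8

open IsLocalRing

theorem exists_complete_local {A K : Type u} [CommRing A] [IsNoetherianRing A] [Field K]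
    (φ : A →+* K) :
    ∃ (C : Type u) (_ : CommRing C) (_ : IsLocalRing C) (_ : IsNoetherianRing C)
      (_ : IsAdicComplete (maximalIdeal C) C) (γ : A →+* C) (_ : γ.Flat)
      (κ : K →+* C ⧸ maximalIdeal C),
      κ.comp φ = (Ideal.Quotient.mk (maximalIdeal C)).comp γ := by
  classical
  let p : Ideal A := RingHom.ker φ
  haveI hp : p.IsPrime := RingHom.ker_isPrime φ
  let R := Localization.AtPrime p
  have hunit : ∀ s : p.primeCompl, IsUnit (φ s) := by
    intro s
    have : φ s ≠ 0 := fun h0 => s.2 (RingHom.mem_ker.mpr h0)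
    exact isUnit_iff_ne_zero.mpr this
  let φR : R →+* K := IsLocalization.lift (M := p.primeCompl) (g := φ) hunit
  have hφR : ∀ a : A, φR (algebraMap A R a) = φ a := fun a => IsLocalization.lift_eq _ a
  haveI hloc : IsLocalHom φR := by
    constructor
    intro r hr
    obtain ⟨a, s, rfl⟩ := IsLocalization.exists_mk'_eq p.primeCompl r
    have h1 : φR (IsLocalization.mk' R a s) * φ s = φ a := by
      rw [← hφR s, ← map_mul, IsLocalization.mk'_spec, hφR]
    have h2 : φ a ≠ 0 := by
      rw [← h1]
      exact mul_ne_zero hr.ne_zero (hunit s).ne_zero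
    have h3 : a ∈ p.primeCompl := fun ha => h2 (RingHom.mem_ker.mp ha)
    have h4 : IsUnit (algebraMap A R a) := IsLocalization.map_units R ⟨a, h3⟩
    have h5 : IsLocalization.mk' R a s * algebraMap A R s = algebraMap A R a :=
      IsLocalization.mk'_spec R a s
    rw [← h5] at h4
    exact isUnit_of_mul_isUnit_left h4
  obtain ⟨R', _, _, ψ, hψsurj, hgood⟩ := Groth.Agent.Lib.FlatLocalExtH3.exists_good φR
  haveI : IsLocalRing R' := hgood.isLocalRing
  haveI : IsLocalHom ψ := hgood.isLocalHom
  haveI : IsNoetherianRing R' := hgood.noeth inferInstance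
  haveI : Module.Flat R R' := hgood.flat
  have hkerψ : RingHom.ker ψ = maximalIdeal R' := IsLocalRing.ker_eq_maximalIdeal ψ hψsurj
  let C := AdicCompletion (maximalIdeal R') R'
  obtain ⟨hCloc, hCnoeth, hCcompl, hCff, hClocal, hCmap⟩ :=
    Groth.Agent.Lib.AnUnramH3.completion_facts R'
  haveI := hCloc
  haveI := hCnoeth
  haveI : Module.Flat R' C := hCff.toFlat
  haveI : Module.Flat A R := IsLocalization.flat R p.primeCompl
  let γ : A →+* C := (algebraMap R' C).comp ((algebraMap R R').comp (algebraMap A R))
  have hγflat : γ.Flat := by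
    refine RingHom.Flat.comp (RingHom.Flat.comp ?_ ?_) ?_
    · exact RingHom.flat_algebraMap_iff.mpr inferInstance
    · exact RingHom.flat_algebraMap_iff.mpr inferInstance
    · exact RingHom.flat_algebraMap_iff.mpr inferInstance
  have hle : RingHom.ker ψ ≤ (maximalIdeal C).comap (algebraMap R' C) := by
    rw [hkerψ, ← Ideal.map_le_iff_le_comap, hCmap]
  let κ : K →+* C ⧸ maximalIdeal C :=
    (Ideal.quotientMap (maximalIdeal C) (algebraMap R' C) hle).comp
      (RingHom.quotientKerEquivOfSurjective hψsurj).symm.toRingHom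
  refine ⟨C, inferInstance, hCloc, hCnoeth, hCcompl, γ, hγflat, κ, ?_⟩
  ext a
  have h1 : φ a = ψ (algebraMap R R' (algebraMap A R a)) := by
    rw [← hφR]
    exact (congrArg (fun θ : R →+* K => θ (algebraMap A R a)) hgood.comp).symm
  show (Ideal.quotientMap (maximalIdeal C) (algebraMap R' C) hle)
    ((RingHom.quotientKerEquivOfSurjective hψsurj).symm (φ a)) = Ideal.Quotient.mk _ (γ a)
  have h2 : (RingHom.quotientKerEquivOfSurjective hψsurj).symm (φ a) =
      Ideal.Quotient.mk _ (algebraMap R R' (algebraMap A R a)) := by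
    rw [RingEquiv.symm_apply_eq, h1]
    rfl
  rw [h2, Ideal.quotientMap_mk]
  rfl

end Groth.Agent.Lib.ZConnH8
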