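import Mathlib
import Groth.Prelude
import Groth.Agent.Lib.ZConn1_helper8
import Groth.Agent.Lib.HensProper2_helper8

/-!
# Zariski's connectedness theorem (helper8)
APPEND-ONLY once landed.
-/

set_option autoImplicit false
universe u
open CategoryTheory CategoryTheory.Limits AlgebraicGeometry TopologicalSpace Opposite

namespace Groth.Agent.Lib.ZConnH8

open Groth.Agent.Lib.FFGammaH8 Groth.Agent.Lib.HensProperH8 Groth.Agent.Lib.SchemeIdemH3

section Local

theorem idem_eq_zero_or_one {R : Type*} [CommRing R] [IsLocalRing R] {e : R}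
    (he : IsIdempotentElem e) : e = 0 ∨ e = 1 := by
  have h0 : e * (1 - e) = 0 := by rw [mul_sub, mul_one, he.eq, sub_self]
  rcases IsLocalRing.isUnit_or_isUnit_one_sub_self e with h | h
  · right
    have := h.mul_right_eq_zero.mp h0
    exact (sub_eq_zero.mp this).symm
  · left
    exact h.mul_left_eq_zero.mp h0

/-- a scheme whose ring of global functions is local is connected -/
theorem connectedSpace_of_isLocalRing (X : Scheme.{u}) [IsLocalRing Γ(X, ⊤)] :
    ConnectedSpace ↥X := by
  haveI : PreconnectedSpace ↥X := by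
    rw [preconnectedSpace_iff_clopen]
    intro s hs
    obtain ⟨e, he, hes⟩ := exists_idem_of_isClopen X s hs
    rcases idem_eq_zero_or_one he with h | h
    · left
      rw [← hes, h, Scheme.basicOpen_zero]
      rfl
    · right
      rw [← hes, h, Scheme.basicOpen_one]
      rfl
  haveI : Nonempty ↥X := by
    by_contra hne
    rw [not_nonempty_iff] at hne
    have h1 : (1 : Γ(X, ⊤)) = 0 := by
      have htop : (⊤ : X.Opens) = ⊥ := by
        ext x
        exact (hne.false x).elim
      have hsub : Subsingleton Γ(X, ⊥) := inferInstance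
      have : Subsingleton Γ(X, ⊤) := by rw [htop]; exact hsub
      exact Subsingleton.elim _ _
    exact one_ne_zero h1
  exact { toPreconnectedSpace := inferInstance, toNonempty := inferInstance }

end Local

section Fibre

/-- the closed fibre of a connected proper scheme over a Noetherian henselian local ring is
connected -/
theorem connectedSpace_closedFibre (C : Type u) [CommRing C] [IsNoetherianRing C] [IsLocalRing C]
    (hH : HenselianRing C (IsLocalRing.maximalIdeal C)) {X : Scheme.{u}}
    (p : X ⟶ Spec (CommRingCat.of C)) [IsProper p] [ConnectedSpace ↥X] :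
    ConnectedSpace ↥(ZK p (IsLocalRing.maximalIdeal C)) := by
  have hL := clopenLift_proper C (IsLocalRing.maximalIdeal C) p hH
  haveI : PreconnectedSpace ↥(ZK p (IsLocalRing.maximalIdeal C)) := by
    rw [preconnectedSpace_iff_clopen]
    intro V hV
    obtain ⟨U, ⟨hU, hUV⟩, -⟩ := hL V hV
    rcases isClopen_iff.mp hU with h | h
    · left
      rw [← hUV, h, Set.preimage_empty]
    · right
      rw [← hUV, h, Set.preimage_univ]
  haveI : Nonempty ↥(ZK p (IsLocalRing.maximalIdeal C)) := by
    by_contra hne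
    rw [not_nonempty_iff] at hne
    have h1 := eq_empty_of_disjoint (IsLocalRing.maximalIdeal C) p hH.jac Set.univ isClosed_univ
      (Set.eq_empty_of_isEmpty _)
    exact Set.univ_nonempty.ne_empty h1
  exact { toPreconnectedSpace := inferInstance, toNonempty := inferInstance }

end Fibre


section Main

variable {X Y : Scheme.{u}} (f : X ⟶ Y) [IsProper f] [IsLocallyNoetherian Y]
  (hf : ∀ U : Y.Opens, IsIso (f.app U))

/-- flat base change: if `O_Y(U) → O_X(f⁻¹U)` is an isomorphism and `η : Spec C ⟶ Y` is flat and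
factors through the affine open `U`, then `X ×_Y Spec C` has `C` as its ring of global functions -/
theorem isIso_appTop_snd {U : Y.Opens} (hU : IsAffineOpen U) (hfU : IsIso (f.app U))
    {C : CommRingCat.{u}} (η : Spec C ⟶ Y) [Flat η] (hη : η ⁻¹ᵁ U = ⊤) :
    IsIso (pullback.snd f η).appTop := by
  have H : IsPullback (pullback.fst f η) (pullback.snd f η) f η := IsPullback.of_hasPullback f η
  have hUST : (⊤ : (Spec C).Opens) ≤ η ⁻¹ᵁ U := by rw [hη]
  have hUSX : f ⁻¹ᵁ U ≤ f ⁻¹ᵁ U := le_rfl
  have hUY : (⊤ : (pullback f η).Opens) =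
      (pullback.fst f η) ⁻¹ᵁ (f ⁻¹ᵁ U) ⊓ (pullback.snd f η) ⁻¹ᵁ ⊤ := by
    have h1 : (pullback.fst f η) ⁻¹ᵁ (f ⁻¹ᵁ U) = (pullback.snd f η) ⁻¹ᵁ (η ⁻¹ᵁ U) := by
      rw [← Scheme.Hom.comp_preimage, ← Scheme.Hom.comp_preimage, pullback.condition]
    rw [h1, hη]
    ext x
    simp
  have hcomp : IsCompact (X := X) (f ⁻¹ᵁ U) := f.isCompact_preimage hU.isCompact
  have hqs : IsQuasiSeparated (α := X) (f ⁻¹ᵁ U) := f.isQuasiSeparated_preimage hU.isQuasiSeparated
  have h1 := isIso_pushoutSection_of_isQuasiSeparated_of_flat_right H hUST hUSX hUY hU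
    (isAffineOpen_top _) hcomp hqs
  have h2 := (isIso_pushoutSection_iff H hUST hUSX hUY).1 h1
  haveI : IsIso (f.appLE U (f ⁻¹ᵁ U) hUSX) := by
    rw [← Scheme.Hom.app_eq_appLE]; exact hfU
  have h3 := h2.isIso_inr_of_isIso
  have h4 : (pullback.snd f η).appLE ⊤ ⊤ (fun _ _ => trivial) = (pullback.snd f η).appTop :=
    (Scheme.Hom.app_eq_appLE (f := pullback.snd f η) (U := ⊤)).symm
  rw [h4] at h3
  exact h3

/-- connectedness of `X ×_Y Spec K` when `O_Y(U) → O_X(f⁻¹U)` is an isomorphism for one affine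
open neighbourhood `U` of the image point -/
theorem connectedSpace_pullback_of_affine (K : Type u) [Field K]
    (ξ : Spec (CommRingCat.of K) ⟶ Y) {U : Y.Opens} (hU : IsAffineOpen U)
    (hfU : IsIso (f.app U)) (hyU : ξ.base (⊥ : PrimeSpectrum K) ∈ U) :
    ConnectedSpace ↥(pullback f ξ) := by
  let pt : Spec (CommRingCat.of K) := (⊥ : PrimeSpectrum K)
  have hrange : Set.range ξ.base ⊆ Set.range hU.fromSpec.base := by
    rw [hU.range_fromSpec]
    rintro _ ⟨z, rfl⟩
    have : z = pt := Subsingleton.elim (α := PrimeSpectrum K) _ _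
    rw [this]
    exact hyU
  let ξ' : Spec (CommRingCat.of K) ⟶ Spec Γ(Y, U) := IsOpenImmersion.lift hU.fromSpec ξ hrange
  have hξ' : ξ' ≫ hU.fromSpec = ξ := IsOpenImmersion.lift_fac _ _ _
  haveI : IsNoetherianRing Γ(Y, U) := IsLocallyNoetherian.component_noetherian ⟨U, hU⟩
  let φ : Γ(Y, U) →+* K := (Spec.preimage ξ').hom
  have hφ : Spec.map (CommRingCat.ofHom φ) = ξ' := Spec.map_preimage ξ'
  obtain ⟨C, _, _, _, hCc, γ, hγ, κ, hκ⟩ := exists_complete_local φ
  let η : Spec (CommRingCat.of C) ⟶ Y := Spec.map (CommRingCat.ofHom γ) ≫ hU.fromSpec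
  haveI : Flat (Spec.map (CommRingCat.ofHom γ)) := Flat.SpecMap_iff.mpr hγ
  haveI : Flat η := inferInstance
  have hη : η ⁻¹ᵁ U = ⊤ := by
    show (Spec.map (CommRingCat.ofHom γ) ≫ hU.fromSpec) ⁻¹ᵁ U = ⊤
    rw [Scheme.Hom.comp_preimage, hU.fromSpec_preimage_self]
    rfl
  haveI hiso : IsIso (pullback.snd f η).appTop := isIso_appTop_snd f hU hfU η hη
  -- the ring of functions of `X ×_Y Spec C` is local
  let e1 : C ≃+* Γ(Spec (CommRingCat.of C), ⊤) :=
    (Scheme.ΓSpecIso (CommRingCat.of C)).symm.commRingCatIsoToRingEquiv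
  let e2 : Γ(Spec (CommRingCat.of C), ⊤) ≃+* Γ(pullback f η, ⊤) :=
    (asIso (pullback.snd f η).appTop).commRingCatIsoToRingEquiv
  haveI : IsLocalRing Γ(pullback f η, ⊤) := (e1.trans e2).isLocalRing
  haveI : ConnectedSpace ↥(pullback f η) := connectedSpace_of_isLocalRing _
  haveI hH : HenselianRing C (IsLocalRing.maximalIdeal C) := inferInstance
  haveI hconn := connectedSpace_closedFibre C hH (pullback.snd f η)
  -- transfer
  let mk := Spec.map (CommRingCat.ofHom (Ideal.Quotient.mk (IsLocalRing.maximalIdeal C)))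
  let e := pullbackLeftPullbackSndIso f η mk
  have hξ'' : mk ≫ η = Spec.map (CommRingCat.ofHom κ) ≫ ξ := by
    rw [← hξ', ← hφ]
    show mk ≫ Spec.map (CommRingCat.ofHom γ) ≫ hU.fromSpec = _
    rw [← Category.assoc, ← Category.assoc, ← Spec.map_comp, ← Spec.map_comp,
      ← CommRingCat.ofHom_comp, ← CommRingCat.ofHom_comp, hκ]
  haveI : ConnectedSpace ↥(pullback f (mk ≫ η)) :=
    Function.Surjective.connectedSpace (Scheme.homeoOfIso e).surjective
      (Scheme.homeoOfIso e).continuous
  haveI : ConnectedSpace ↥(pullback f (Spec.map (CommRingCat.ofHom κ) ≫ ξ)) := by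
    rw [← hξ'']; infer_instance
  let e' := pullbackLeftPullbackSndIso f ξ (Spec.map (CommRingCat.ofHom κ))
  haveI : Surjective (Spec.map (CommRingCat.ofHom κ)) := by
    constructor
    intro y
    haveI : Nontrivial (C ⧸ IsLocalRing.maximalIdeal C) :=
      Ideal.Quotient.nontrivial_iff.mpr (IsLocalRing.maximalIdeal.isMaximal C).ne_top
    obtain ⟨x⟩ : Nonempty (PrimeSpectrum (C ⧸ IsLocalRing.maximalIdeal C)) := inferInstance
    exact ⟨x, Subsingleton.elim (α := PrimeSpectrum K) _ _⟩
  haveI : Surjective (pullback.fst (pullback.snd f ξ) (Spec.map (CommRingCat.ofHom κ))) :=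
    MorphismProperty.pullback_fst _ _ inferInstance
  have hsurj : Function.Surjective
      (e'.inv ≫ pullback.fst (pullback.snd f ξ) (Spec.map (CommRingCat.ofHom κ))).base := by
    rw [Scheme.Hom.comp_base]
    exact (Scheme.Hom.surjective
      (pullback.fst (pullback.snd f ξ) (Spec.map (CommRingCat.ofHom κ)))).comp
      (Scheme.homeoOfIso e'.symm).surjective
  exact Function.Surjective.connectedSpace hsurj (Scheme.Hom.continuous _)

include hf in
theorem connectedSpace_pullback (K : Type u) [Field K] (ξ : Spec (CommRingCat.of K) ⟶ Y) :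
    ConnectedSpace ↥(pullback f ξ) := by
  obtain ⟨_, ⟨U, hU, rfl⟩, hyU, -⟩ := Y.isBasis_affineOpens.exists_subset_of_mem_open
    (Set.mem_univ (ξ.base (⊥ : PrimeSpectrum K))) isOpen_univ
  exact connectedSpace_pullback_of_affine f K ξ hU (hf U) hyU

end Main

end Groth.Agent.Lib.ZConnH8
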