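import Mathlib
import Groth.Prelude
import Groth.Agent.Lib.ZConn2_helper8

/-!
# Connectedness of the fibres of proper birational morphisms to normal schemes (helper8)
APPEND-ONLY once landed.
-/

set_option autoImplicit false
universe u
open CategoryTheory CategoryTheory.Limits AlgebraicGeometry TopologicalSpace Opposite

namespace Groth.Agent.Lib.ZConnH8

section Normal

variable {Y : Scheme.{u}} [IsIntegral Y]

/-- sections of a normal integral scheme over a nonempty affine open are integrally closed -/
theorem isIntegrallyClosed_sections (hY : Pi1.IsNormalScheme Y) {V : Y.Opens}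
    (hV : IsAffineOpen V) [Nonempty V] : IsIntegrallyClosed Γ(Y, V) := by
  apply IsIntegrallyClosed.of_localization_maximal
  intro p _ hp
  let y : PrimeSpectrum Γ(Y, V) := ⟨p, hp.isPrime⟩
  have hx : hV.fromSpec y ∈ V := by
    have : hV.fromSpec y ∈ Set.range hV.fromSpec := ⟨y, rfl⟩
    rw [hV.range_fromSpec] at this
    exact this
  letI := TopCat.Presheaf.algebra_section_stalk Y.presheaf ⟨hV.fromSpec y, hx⟩
  haveI hloc : IsLocalization.AtPrime (Y.presheaf.stalk (hV.fromSpec y)) p :=
    hV.isLocalization_stalk' y hx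
  haveI : IsIntegrallyClosed (Y.presheaf.stalk (hV.fromSpec y)) := (hY (hV.fromSpec y)).2
  let e : Y.presheaf.stalk (hV.fromSpec y) ≃ₐ[Γ(Y, V)] Localization.AtPrime p :=
    IsLocalization.algEquiv p.primeCompl _ _
  exact IsIntegrallyClosed.of_equiv e.toRingEquiv

end Normal

section Birational

variable {X Y : Scheme.{u}} [IsIntegral X] [IsIntegral Y] [IsLocallyNoetherian Y]
  (hY : Pi1.IsNormalScheme Y) (f : X ⟶ Y) [IsProper f]

include hY in
/-- key step: `O_Y(V) → O_X(f⁻¹V)` is bijective for affine `V` -/
theorem app_bijective_of_birational (η' : Y) (hη' : η' = genericPoint Y)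
    (θ : Y.presheaf.stalk η' ⟶ X.presheaf.stalk (genericPoint X)) (hθ : IsIso θ)
    {V : Y.Opens} (hV : IsAffineOpen V) (hηV : η' ∈ V) (hηX : genericPoint X ∈ f ⁻¹ᵁ V)
    (hcomm : ∀ r : Γ(Y, V), θ.hom (Y.presheaf.germ V η' hηV r) =
      X.presheaf.germ (f ⁻¹ᵁ V) (genericPoint X) hηX ((f.app V).hom r)) :
    Function.Bijective (f.app V).hom := by
  subst hη'
  haveI : Nonempty V := ⟨⟨genericPoint Y, hηV⟩⟩
  haveI : Nonempty (f ⁻¹ᵁ V) := ⟨⟨genericPoint X, hηX⟩⟩
  have hθinj : Function.Injective θ.hom := (ConcreteCategory.bijective_of_isIso θ).1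
  have hgY : Function.Injective (Y.presheaf.germ V (genericPoint Y) hηV).hom :=
    germ_injective_of_isIntegral Y (genericPoint Y) hηV
  have hgX : Function.Injective (X.presheaf.germ (f ⁻¹ᵁ V) (genericPoint X) hηX).hom :=
    germ_injective_of_isIntegral X (genericPoint X) hηX
  constructor
  · intro r r' hrr
    apply hgY
    apply hθinj
    rw [hcomm, hcomm, hrr]
  · intro b
    haveI : IsIntegrallyClosed Γ(Y, V) := isIntegrallyClosed_sections hY hV
    haveI : IsFractionRing Γ(Y, V) Y.functionField :=
      functionField_isFractionRing_of_isAffineOpen Y V hV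
    have hfin : (f.app V).hom.Finite := SteinFinH3.finite_app_of_isProper f V hV
    obtain ⟨p, hp, hpb⟩ := hfin.to_isIntegral b
    obtain ⟨s, hs⟩ := (ConcreteCategory.bijective_of_isIso θ).2
      (X.presheaf.germ (f ⁻¹ᵁ V) (genericPoint X) hηX b)
    have halg : ∀ r : Γ(Y, V), algebraMap Γ(Y, V) Y.functionField r =
        (Y.presheaf.germ V (genericPoint Y) hηV).hom r := fun r => rfl
    have hint : IsIntegral Γ(Y, V) (s : Y.functionField) := by
      refine ⟨p, hp, ?_⟩
      apply hθinj
      rw [map_zero, Polynomial.hom_eval₂, hs]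
      have h1 : (θ.hom.comp (algebraMap Γ(Y, V) Y.functionField)) =
          ((X.presheaf.germ (f ⁻¹ᵁ V) (genericPoint X) hηX).hom).comp (f.app V).hom := by
        ext r
        exact hcomm r
      rw [h1, ← Polynomial.hom_eval₂, hpb, map_zero]
    obtain ⟨r, hr⟩ := IsIntegrallyClosed.algebraMap_eq_of_integral hint
    refine ⟨r, ?_⟩
    apply hgX
    rw [← hcomm, ← hs]
    congr 1

include hY in
theorem connectedSpace_fiber_of_birational
    (hgen : f.base (genericPoint X) = genericPoint Y) (hbir : IsIso (f.stalkMap (genericPoint X)))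
    (y : Y) : ConnectedSpace ↥(f.fiber y) := by
  obtain ⟨_, ⟨V, hV, rfl⟩, hyV, -⟩ := Y.isBasis_affineOpens.exists_subset_of_mem_open
    (Set.mem_univ y) isOpen_univ
  have hηV : f.base (genericPoint X) ∈ V := by
    rw [hgen]
    exact ((genericPoint_spec Y).mem_open_set_iff V.isOpen).mpr ⟨y, trivial, hyV⟩
  have hbij := app_bijective_of_birational hY f (f.base (genericPoint X)) hgen
    (f.stalkMap (genericPoint X)) hbir hV hηV hηV
    (fun r => Scheme.Hom.germ_stalkMap_apply f V (genericPoint X) hηV r)
  haveI : IsIso (f.app V) := by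
    rw [ConcreteCategory.isIso_iff_bijective]
    exact hbij
  refine connectedSpace_pullback_of_affine f (Y.residueField y) (Y.fromSpecResidueField y) hV
    inferInstance ?_
  have h1 : (Y.fromSpecResidueField y).base (⊥ : PrimeSpectrum (Y.residueField y)) = y := by
    have := Scheme.range_fromSpecResidueField y
    have h2 : (Y.fromSpecResidueField y).base (⊥ : PrimeSpectrum (Y.residueField y)) ∈
        Set.range (Y.fromSpecResidueField y).base := ⟨_, rfl⟩
    rw [this] at h2
    exact h2
  rw [h1]
  exact hyV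

end Birational

end Groth.Agent.Lib.ZConnH8
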