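import Mathlib
import Groth.Prelude
import Groth.Agent.Lib.ZConn3_helper8
import Groth.Agent.Lib.PushforwardNormal_helper7

/-!
# Proper dominant morphisms with `R(Y)` algebraically closed in `R(X)`, near a normal point (helper8)
APPEND-ONLY once landed.
-/

set_option autoImplicit false
universe u
open CategoryTheory CategoryTheory.Limits AlgebraicGeometry TopologicalSpace Opposite

namespace Groth.Agent.Lib.AlgClosedFFH8

open Groth.Agent.Lib.PushforwardNormalH7

section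

variable {X Y : Scheme.{u}} [IsIntegral X] [IsIntegral Y] [IsLocallyNoetherian Y]
  (f : X ⟶ Y) [IsProper f]
  (hdom : f (genericPoint X) ⤳ genericPoint Y)
  (ι : Y.functionField →+* X.functionField)
  (hι : ι = (f.stalkMap (genericPoint X)).hom.comp (Y.presheaf.stalkSpecializes hdom).hom)
  (halg : ∀ x : X.functionField,
      (∃ p : Polynomial Y.functionField, p ≠ 0 ∧ Polynomial.eval₂ ι x p = 0) → x ∈ Set.range ι)
  (y : Y) (hy : IsIntegrallyClosed (Y.presheaf.stalk y))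

include hι halg hy in
/-- step 1: each section over `f⁻¹V` comes from `O_Y` near the normal point `y` -/
theorem exists_local_preimage {V : Y.Opens} (hV : IsAffineOpen V) (hyV : y ∈ V)
    (b : Γ(X, f ⁻¹ᵁ V)) :
    ∃ (W : Y.Opens) (hWV : W ≤ V), y ∈ W ∧ ∃ a : Γ(Y, W),
      (f.app W).hom a = (X.presheaf.map (homOfLE (f.preimage_mono hWV)).op).hom b := by
  have hηV : genericPoint Y ∈ V := (genericPoint_specializes y).mem_open V.2 hyV
  have hξV : f (genericPoint X) ∈ V := hdom.mem_open V.2 hηV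
  haveI : Nonempty V := ⟨⟨y, hyV⟩⟩
  have hfin : (f.app V).hom.Finite := SteinFinH3.finite_app_of_isProper f V hV
  obtain ⟨p, hp, hpb⟩ := hfin.to_isIntegral b
  obtain ⟨β, hβdef⟩ : ∃ β : X.functionField,
      β = (X.presheaf.germ (f ⁻¹ᵁ V) (genericPoint X) hξV).hom b := ⟨_, rfl⟩
  have hcomp : (X.presheaf.germ (f ⁻¹ᵁ V) (genericPoint X) hξV).hom.comp (f.app V).hom =
      ι.comp (Y.presheaf.germ V (genericPoint Y) hηV).hom := by
    ext a; exact germ_app_eq f hdom ι hι V hξV hηV a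
  have hβ : Polynomial.eval₂ (ι.comp (Y.presheaf.germ V (genericPoint Y) hηV).hom) β p = 0 := by
    rw [← hcomp, hβdef, ← Polynomial.hom_eval₂, hpb, map_zero]
  obtain ⟨c, hc⟩ := halg β ⟨p.map (Y.presheaf.germ V (genericPoint Y) hηV).hom,
    (hp.map _).ne_zero, by rw [Polynomial.eval₂_map]; exact hβ⟩
  have hgerm : (algebraMap (Y.presheaf.stalk y) Y.functionField).comp
      (Y.presheaf.germ V y hyV).hom = (Y.presheaf.germ V (genericPoint Y) hηV).hom := by
    ext a
    simp only [RingHom.comp_apply, RingHom.algebraMap_toAlgebra]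
    rw [← CommRingCat.comp_apply, TopCat.Presheaf.germ_stalkSpecializes]
  have hcint : IsIntegral (Y.presheaf.stalk y) c := by
    refine ⟨p.map (Y.presheaf.germ V y hyV).hom, hp.map _, ?_⟩
    rw [Polynomial.eval₂_map, hgerm]
    apply ι.injective
    rw [map_zero, Polynomial.hom_eval₂, hc]
    exact hβ
  obtain ⟨τ, hτ⟩ := IsIntegrallyClosed.algebraMap_eq_of_integral hcint
  obtain ⟨W₀, hyW₀, a₀, ha₀⟩ := Y.presheaf.exists_germ_eq τ
  have hηW : genericPoint Y ∈ V ⊓ W₀ :=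
    (genericPoint_specializes y).mem_open (V ⊓ W₀).2 ⟨hyV, hyW₀⟩
  have hξW : f (genericPoint X) ∈ V ⊓ W₀ := hdom.mem_open (V ⊓ W₀).2 hηW
  refine ⟨V ⊓ W₀, inf_le_left, ⟨hyV, hyW₀⟩, (Y.presheaf.map (homOfLE inf_le_right).op).hom a₀, ?_⟩
  apply germ_injective_of_isIntegral X (genericPoint X) hξW
  rw [germ_app_eq f hdom ι hι (V ⊓ W₀) hξW hηW]
  have h1 : (Y.presheaf.germ (V ⊓ W₀) (genericPoint Y) hηW).hom
      ((Y.presheaf.map (homOfLE inf_le_right).op).hom a₀) = c := by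
    rw [← hτ, ← ha₀]
    have h2 := TopCat.Presheaf.germ_res_apply Y.presheaf (homOfLE (inf_le_right : V ⊓ W₀ ≤ W₀))
      (genericPoint Y) hηW a₀
    rw [h2]
    simp only [RingHom.algebraMap_toAlgebra]
    rw [← CommRingCat.comp_apply, TopCat.Presheaf.germ_stalkSpecializes]
  rw [h1, hc, hβdef]
  exact (TopCat.Presheaf.germ_res_apply X.presheaf
    (homOfLE (f.preimage_mono (inf_le_left : V ⊓ W₀ ≤ V))) (genericPoint X) hξW b).symm

/-- the sections over `f⁻¹V` whose restriction to `f⁻¹D` comes from `O_Y(D)` -/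
def inRange {V : Y.Opens} (D : Y.Opens) (hDV : D ≤ V) (b : Γ(X, f ⁻¹ᵁ V)) : Prop :=
  (X.presheaf.map (homOfLE (f.preimage_mono hDV)).op).hom b ∈ Set.range (f.app D).hom

omit [IsIntegral X] [IsIntegral Y] [IsLocallyNoetherian Y] [IsProper f] in
theorem inRange_mono {V : Y.Opens} {D D' : Y.Opens} (hDV : D ≤ V) (hD'D : D' ≤ D)
    (b : Γ(X, f ⁻¹ᵁ V)) (h : inRange f D hDV b) : inRange f D' (hD'D.trans hDV) b := by
  obtain ⟨a, ha⟩ := h
  refine ⟨(Y.presheaf.map (homOfLE hD'D).op).hom a, ?_⟩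
  rw [app_res f hD'D a, ha, res_res]

omit [IsIntegral X] [IsIntegral Y] [IsLocallyNoetherian Y] [IsProper f] in
theorem inRange_add {V : Y.Opens} {D : Y.Opens} (hDV : D ≤ V)
    (b b' : Γ(X, f ⁻¹ᵁ V)) (h : inRange f D hDV b) (h' : inRange f D hDV b') :
    inRange f D hDV (b + b') := by
  obtain ⟨a, ha⟩ := h
  obtain ⟨a', ha'⟩ := h'
  refine ⟨a + a', ?_⟩
  rw [map_add, map_add, ha, ha']

omit [IsIntegral X] [IsIntegral Y] [IsLocallyNoetherian Y] [IsProper f] in
theorem inRange_zero {V : Y.Opens} {D : Y.Opens} (hDV : D ≤ V) :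
    inRange f D hDV (0 : Γ(X, f ⁻¹ᵁ V)) :=
  ⟨0, by rw [map_zero, map_zero]⟩

omit [IsIntegral X] [IsIntegral Y] [IsLocallyNoetherian Y] [IsProper f] in
theorem inRange_mul {V : Y.Opens} {D : Y.Opens} (hDV : D ≤ V)
    (b b' : Γ(X, f ⁻¹ᵁ V)) (h : inRange f D hDV b) (h' : inRange f D hDV b') :
    inRange f D hDV (b * b') := by
  obtain ⟨a, ha⟩ := h
  obtain ⟨a', ha'⟩ := h'
  refine ⟨a * a', ?_⟩
  rw [map_mul, map_mul, ha, ha']

omit [IsIntegral X] [IsIntegral Y] [IsLocallyNoetherian Y] [IsProper f] in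
theorem inRange_app {V : Y.Opens} {D : Y.Opens} (hDV : D ≤ V) (a : Γ(Y, V)) :
    inRange f D hDV ((f.app V).hom a) :=
  ⟨(Y.presheaf.map (homOfLE hDV).op).hom a, app_res f hDV a⟩

include hι halg hy in
/-- step 2: an open neighbourhood `U` of `y` in `V` over which all sections come from `O_Y` -/
theorem exists_open_inRange {V : Y.Opens} (hV : IsAffineOpen V) (hyV : y ∈ V) :
    ∃ (U : Y.Opens) (hUV : U ≤ V), y ∈ U ∧ ∀ b : Γ(X, f ⁻¹ᵁ V), inRange f U hUV b := by
  have hfin : (f.app V).hom.Finite := SteinFinH3.finite_app_of_isProper f V hV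
  letI := (f.app V).hom.toAlgebra
  obtain ⟨S, hS⟩ := (show Module.Finite Γ(Y, V) Γ(X, f ⁻¹ᵁ V) from hfin).fg_top
  have key : ∀ T : Finset Γ(X, f ⁻¹ᵁ V), ∃ (U : Y.Opens) (hUV : U ≤ V), y ∈ U ∧
      ∀ b ∈ T, inRange f U hUV b := by
    intro T
    classical
    induction T using Finset.induction_on with
    | empty => exact ⟨V, le_rfl, hyV, fun b hb => absurd hb (Finset.notMem_empty b)⟩
    | insert s T hsT ih =>
      obtain ⟨U, hUV, hyU, hU⟩ := ih
      obtain ⟨W, hWV, hyW, a, ha⟩ := exists_local_preimage f hdom ι hι halg y hy hV hyV s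
      refine ⟨U ⊓ W, inf_le_left.trans hUV, ⟨hyU, hyW⟩, fun b hb => ?_⟩
      rcases Finset.mem_insert.mp hb with rfl | hb
      · exact inRange_mono f hWV inf_le_right _ ⟨a, ha⟩
      · exact inRange_mono f hUV inf_le_left _ (hU b hb)
  obtain ⟨U, hUV, hyU, hU⟩ := key S
  refine ⟨U, hUV, hyU, fun b => ?_⟩
  have hb : b ∈ Submodule.span Γ(Y, V) (S : Set Γ(X, f ⁻¹ᵁ V)) := by rw [hS]; trivial
  induction hb using Submodule.span_induction with
  | mem x hx => exact hU x hx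
  | zero => exact inRange_zero f hUV
  | add x x' _ _ hx hx' => exact inRange_add f hUV x x' hx hx'
  | smul a x _ hx =>
    have : a • x = (f.app V).hom a * x := rfl
    rw [this]
    exact inRange_mul f hUV _ _ (inRange_app f hUV a) hx

omit [IsIntegral X] [IsIntegral Y] [IsLocallyNoetherian Y] in
/-- step 3: surjectivity over basic opens of `V` contained in `U` -/
theorem app_surjective_basicOpen {V U : Y.Opens} (hV : IsAffineOpen V) (hUV : U ≤ V)
    (hU : ∀ b : Γ(X, f ⁻¹ᵁ V), inRange f U hUV b) (h : Γ(Y, V)) (hh : Y.basicOpen h ≤ U) :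
    Function.Surjective (f.app (Y.basicOpen h)).hom := by
  intro x
  have hcomp : IsCompact (X := X) (f ⁻¹ᵁ V) := f.isCompact_preimage hV.isCompact
  have hqs : IsQuasiSeparated (α := X) (f ⁻¹ᵁ V) :=
    f.isQuasiSeparated_preimage hV.isQuasiSeparated
  have he : f ⁻¹ᵁ Y.basicOpen h = X.basicOpen ((f.app V).hom h) := Scheme.preimage_basicOpen f h
  obtain ⟨x', hx'⟩ : ∃ x' : Γ(X, X.basicOpen ((f.app V).hom h)),
      x' = (X.presheaf.map (homOfLE (le_of_eq he.symm)).op).hom x := ⟨_, rfl⟩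
  obtain ⟨n, b, hb⟩ := exists_eq_pow_mul_of_isCompact_of_isQuasiSeparated X (f ⁻¹ᵁ V) hcomp hqs
    ((f.app V).hom h) x'
  dsimp only [TopCat.Presheaf.restrictOpenCommRingCat_apply] at hb
  have hb2 := congrArg (X.presheaf.map (homOfLE (le_of_eq he)).op).hom hb
  rw [map_mul, map_pow, hx'] at hb2
  have hle : f ⁻¹ᵁ Y.basicOpen h ≤ f ⁻¹ᵁ V := f.preimage_mono (Y.basicOpen_le h)
  have e1 : (X.presheaf.map (homOfLE (le_of_eq he)).op).hom
      ((X.presheaf.map (homOfLE (X.basicOpen_le ((f.app V).hom h))).op).hom b) =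
      (X.presheaf.map (homOfLE hle).op).hom b := res_res _ _ b
  have e2 : (X.presheaf.map (homOfLE (le_of_eq he)).op).hom
      ((X.presheaf.map (homOfLE (X.basicOpen_le ((f.app V).hom h))).op).hom ((f.app V).hom h)) =
      (X.presheaf.map (homOfLE hle).op).hom ((f.app V).hom h) := res_res _ _ _
  have e3 : (X.presheaf.map (homOfLE (le_of_eq he)).op).hom
      ((X.presheaf.map (homOfLE (le_of_eq he.symm)).op).hom x) = x := by
    rw [res_res]
    have : homOfLE ((le_of_eq he).trans (le_of_eq he.symm)) = 𝟙 (f ⁻¹ᵁ Y.basicOpen h) := rfl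
    rw [this, op_id, X.presheaf.map_id]
    rfl
  obtain ⟨a, ha⟩ := inRange_mono f hUV hh b (hU b)
  have hunit : IsUnit ((Y.presheaf.map (homOfLE (Y.basicOpen_le h)).op).hom h) :=
    RingedSpace.isUnit_res_basicOpen _ h
  obtain ⟨u, hu⟩ := hunit
  have e4 : (f.app (Y.basicOpen h)).hom (u : Γ(Y, Y.basicOpen h)) =
      (X.presheaf.map (homOfLE hle).op).hom ((f.app V).hom h) := by
    rw [hu]
    exact app_res f (Y.basicOpen_le h) h
  refine ⟨((u⁻¹ : (Γ(Y, Y.basicOpen h))ˣ) : Γ(Y, Y.basicOpen h)) ^ n * a, ?_⟩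
  rw [map_mul, map_pow, ha]
  have e5 : (X.presheaf.map (homOfLE hle).op).hom b =
      ((f.app (Y.basicOpen h)).hom (u : Γ(Y, Y.basicOpen h))) ^ n * x := by
    rw [e4, ← e1, ← e2, ← e3]
    convert hb2 using 2
  rw [e5, ← mul_assoc, ← mul_pow, ← map_mul, Units.inv_mul, map_one, one_pow, one_mul]

omit [IsLocallyNoetherian Y] in
include hdom in
/-- step 4: surjectivity over every open contained in `U` (gluing) -/
theorem app_surjective_of_le {V U : Y.Opens} (hV : IsAffineOpen V) (hUV : U ≤ V)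
    (hU : ∀ b : Γ(X, f ⁻¹ᵁ V), inRange f U hUV b) (W : Y.Opens) (hWU : W ≤ U) :
    Function.Surjective (f.app W).hom := by
  intro b
  have hcover : W ≤ ⨆ i : {h : Γ(Y, V) // Y.basicOpen h ≤ W ∧
      ((Y.basicOpen h : Y.Opens) : Set Y).Nonempty}, Y.basicOpen i.1 := by
    intro y' hy'
    obtain ⟨h, hhW, hyh⟩ := hV.exists_basicOpen_le (V := W) ⟨y', hy'⟩ (hUV (hWU hy'))
    exact Opens.mem_iSup.mpr ⟨⟨h, hhW, ⟨y', hyh⟩⟩, hyh⟩
  have hsurj : ∀ i : {h : Γ(Y, V) // Y.basicOpen h ≤ W ∧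
      ((Y.basicOpen h : Y.Opens) : Set Y).Nonempty},
      ∃ a : Γ(Y, Y.basicOpen i.1), (f.app (Y.basicOpen i.1)).hom a =
        (X.presheaf.map (homOfLE (f.preimage_mono i.2.1)).op).hom b := fun i =>
    app_surjective_basicOpen f hV hUV hU i.1 (i.2.1.trans hWU) _
  choose sf hsf using hsurj
  have hcompat : TopCat.Presheaf.IsCompatible Y.sheaf.1
      (fun i : {h : Γ(Y, V) // Y.basicOpen h ≤ W ∧
        ((Y.basicOpen h : Y.Opens) : Set Y).Nonempty} => Y.basicOpen i.1) sf := by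
    intro i j
    by_cases hne : ((Y.basicOpen i.1 ⊓ Y.basicOpen j.1 : Y.Opens) : Set Y).Nonempty
    · apply app_injective f hdom (Y.basicOpen i.1 ⊓ Y.basicOpen j.1) hne
      have e1 := app_res f (inf_le_left : Y.basicOpen i.1 ⊓ Y.basicOpen j.1 ≤ Y.basicOpen i.1)
        (sf i)
      have e2 := app_res f (inf_le_right : Y.basicOpen i.1 ⊓ Y.basicOpen j.1 ≤ Y.basicOpen j.1)
        (sf j)
      rw [hsf i, res_res] at e1
      rw [hsf j, res_res] at e2
      exact e1.trans e2.symm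
    · have h0 : Y.basicOpen i.1 ⊓ Y.basicOpen j.1 = ⊥ :=
        Opens.ext (by rw [Opens.coe_bot]; exact Set.not_nonempty_iff_eq_empty.mp hne)
      have hss : Subsingleton Γ(Y, Y.basicOpen i.1 ⊓ Y.basicOpen j.1) := by
        rw [h0]; infer_instance
      exact @Subsingleton.elim _ hss _ _
  obtain ⟨a, ha, -⟩ := Y.sheaf.existsUnique_gluing'
    (fun i : {h : Γ(Y, V) // Y.basicOpen h ≤ W ∧
      ((Y.basicOpen h : Y.Opens) : Set Y).Nonempty} => Y.basicOpen i.1) W
    (fun i => homOfLE i.2.1) hcover sf hcompat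
  refine ⟨a, ?_⟩
  apply X.sheaf.eq_of_locally_eq'
    (fun i : {h : Γ(Y, V) // Y.basicOpen h ≤ W ∧
      ((Y.basicOpen h : Y.Opens) : Set Y).Nonempty} => f ⁻¹ᵁ Y.basicOpen i.1)
    (f ⁻¹ᵁ W) (fun i => homOfLE (f.preimage_mono i.2.1))
  · intro x hx
    have hx' : f x ∈ W := hx
    obtain ⟨i, hi⟩ := Opens.mem_iSup.mp (hcover hx')
    exact Opens.mem_iSup.mpr ⟨i, hi⟩
  · intro i
    have e1 := app_res f i.2.1 a
    have e2 : (Y.presheaf.map (homOfLE i.2.1).op).hom a = sf i := ha i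
    rw [e2, hsf i] at e1
    exact e1.symm

include hι halg hy in
/-- **Main**: near a normal point `y`, `O_Y(W) → O_X(f⁻¹W)` is an isomorphism for all small opens -/
theorem exists_open_isIso_app :
    ∃ U : Y.Opens, y ∈ U ∧ ∀ W : Y.Opens, W ≤ U → IsIso (f.app W) := by
  obtain ⟨_, ⟨V, hV, rfl⟩, hyV, -⟩ := Y.isBasis_affineOpens.exists_subset_of_mem_open
    (Set.mem_univ y) isOpen_univ
  obtain ⟨U, hUV, hyU, hU⟩ := exists_open_inRange f hdom ι hι halg y hy hV hyV
  refine ⟨U, hyU, fun W hWU => ?_⟩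
  rw [ConcreteCategory.isIso_iff_bijective]
  by_cases hWne : (W : Set Y).Nonempty
  swap
  · have hW : W = ⊥ :=
      Opens.ext (by rw [Opens.coe_bot]; exact Set.not_nonempty_iff_eq_empty.mp hWne)
    subst hW
    haveI : Subsingleton Γ(X, f ⁻¹ᵁ ⊥) := inferInstanceAs (Subsingleton Γ(X, ⊥))
    exact ⟨fun a a' _ => Subsingleton.elim _ _, fun b => ⟨0, Subsingleton.elim _ _⟩⟩
  exact ⟨app_injective f hdom W hWne, app_surjective_of_le f hdom hV hUV hU W hWU⟩

include hι halg hy in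
/-- the fibre at the normal point `y` is geometrically connected -/
theorem geometricallyConnected_fiber :
    GeometricallyConnected (f.fiberToSpecResidueField y) := by
  obtain ⟨U, hyU, hU⟩ := exists_open_isIso_app f hdom ι hι halg y hy
  obtain ⟨_, ⟨U₀, hU₀, rfl⟩, hyU₀, hU₀U⟩ := Y.isBasis_affineOpens.exists_subset_of_mem_open
    hyU U.2
  haveI : IsIso (f.app U₀) := hU U₀ hU₀U
  refine ⟨?_⟩
  intro K _ ξ Z fst snd h
  have hpb : IsPullback (f.fiberι y) (f.fiberToSpecResidueField y) f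
      (Y.fromSpecResidueField y) := IsPullback.of_hasPullback f (Y.fromSpecResidueField y)
  have hbig : IsPullback (fst ≫ f.fiberι y) snd f (ξ ≫ Y.fromSpecResidueField y) :=
    h.paste_horiz hpb
  have hpt : (ξ ≫ Y.fromSpecResidueField y).base (⊥ : PrimeSpectrum K) ∈ U₀ := by
    have h2 : (Y.fromSpecResidueField y).base (ξ.base (⊥ : PrimeSpectrum K)) ∈
        Set.range (Y.fromSpecResidueField y).base := ⟨_, rfl⟩
    rw [Scheme.range_fromSpecResidueField y] at h2
    have h3 : (ξ ≫ Y.fromSpecResidueField y).base (⊥ : PrimeSpectrum K) = y := h2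
    rw [h3]
    exact hyU₀
  haveI := ZConnH8.connectedSpace_pullback_of_affine f K (ξ ≫ Y.fromSpecResidueField y) hU₀
    inferInstance hpt
  exact Function.Surjective.connectedSpace (Scheme.homeoOfIso hbig.isoPullback.symm).surjective
    (Scheme.homeoOfIso hbig.isoPullback.symm).continuous

end

end Groth.Agent.Lib.AlgClosedFFH8
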