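import Mathlib

/-!
# Isomorphisms of algebraically closed fields over a common base via transcendence degree
-/

namespace Groth.Agent.Lib.AlgClosedIso

open Cardinal Algebra

universe u

/-- Two algebraically closed fields over a common base domain `B` (embedded in both) with the same
transcendence degree over `B` are isomorphic over `B`. -/
theorem exists_ringEquiv_of_trdeg_eq (B : Type u) (K L : Type u) [CommRing B] [IsDomain B]
    [Field K] [Field L] [Algebra B K] [Algebra B L] [IsAlgClosed K] [IsAlgClosed L]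
    [FaithfulSMul B K] [FaithfulSMul B L]
    (h : trdeg B K = trdeg B L) :
    ∃ e : K ≃+* L, ∀ b : B, e (algebraMap B K b) = algebraMap B L b := by
  obtain ⟨ι, v, hv⟩ := exists_isTranscendenceBasis' B K
  obtain ⟨κ, w, hw⟩ := exists_isTranscendenceBasis' B L
  have hcard : #ι = #κ := by rw [hv.cardinalMk_eq_trdeg, hw.cardinalMk_eq_trdeg, h]
  obtain ⟨e⟩ := Cardinal.eq.mp hcard
  letI := IsAlgClosed.isAlgClosure_of_transcendence_basis v hv
  letI := IsAlgClosed.isAlgClosure_of_transcendence_basis w hw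
  let e₁ : Algebra.adjoin B (Set.range v) ≃ₐ[B] Algebra.adjoin B (Set.range w) :=
    hv.1.aevalEquiv.symm.trans ((MvPolynomial.renameEquiv B e).trans hw.1.aevalEquiv)
  refine ⟨IsAlgClosure.equivOfEquiv K L e₁.toRingEquiv, fun b => ?_⟩
  have h1 : algebraMap B K b =
      algebraMap (Algebra.adjoin B (Set.range v)) K (algebraMap B _ b) := rfl
  rw [h1, IsAlgClosure.equivOfEquiv_algebraMap]
  show algebraMap (Algebra.adjoin B (Set.range w)) L (e₁ (algebraMap B _ b)) = _
  rw [e₁.commutes]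
  rfl

theorem trdeg_eq_of_finiteType (k₀ S K : Type u) [Field k₀] [CommRing S] [IsDomain S]
    [Algebra k₀ S] [Algebra.FiniteType k₀ S] [Field K] [Algebra S K] [Algebra k₀ K]
    [IsScalarTower k₀ S K] [FaithfulSMul S K] (hK : ℵ₀ ≤ trdeg k₀ K) :
    trdeg S K = trdeg k₀ K := by
  have h1 := trdeg_add_eq k₀ S (A := K)
  have h2 : trdeg k₀ S < ℵ₀ := trdeg_lt_aleph0_of_finiteType
  exact Cardinal.eq_of_add_eq_of_aleph0_le h1 (h2.trans_le hK) hK

theorem trdeg_eq_of_finite_top (k₀ k Ω : Type u) [Field k₀] [Field k] [Field Ω] [Algebra k₀ k]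
    [Algebra k Ω] [Algebra k₀ Ω] [IsScalarTower k₀ k Ω] (hk : ℵ₀ ≤ trdeg k₀ k)
    (hfin : trdeg k Ω < ℵ₀) : trdeg k₀ Ω = trdeg k₀ k := by
  have h1 := trdeg_add_eq k₀ k (A := Ω)
  rw [← h1]
  exact Cardinal.add_eq_left hk (hfin.le.trans hk)

/-- Abstract form: `k` and `Ω` algebraically closed, `Ω/k` of finite transcendence degree, `k/k₀` of
infinite transcendence degree, `S` a finitely generated `k₀`-algebra embedded in both `Ω` and `k`.
Then there is a field isomorphism `Ω ≃ k` compatible with the two embeddings of `S`. -/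
theorem exists_ringEquiv_extending (k₀ k Ω S : Type u) [Field k₀] [Field k] [Field Ω]
    [IsAlgClosed k] [IsAlgClosed Ω] [Algebra k₀ k]
    [Algebra k Ω] [Algebra k₀ Ω] [IsScalarTower k₀ k Ω] (hk : ℵ₀ ≤ trdeg k₀ k)
    (hfin : trdeg k Ω < ℵ₀) [CommRing S] [Algebra k₀ S] [Algebra.FiniteType k₀ S]
    (j : S →ₐ[k₀] Ω) (hj : Function.Injective j) (φ : S →ₐ[k₀] k) (hφ : Function.Injective φ) :
    ∃ e : Ω ≃+* k, ∀ s : S, e (j s) = φ s := by
  have hΩ : trdeg k₀ Ω = trdeg k₀ k := trdeg_eq_of_finite_top k₀ k Ω hk hfin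
  haveI : IsDomain S := hφ.isDomain φ.toRingHom
  letI : Algebra S Ω := j.toRingHom.toAlgebra
  letI : Algebra S k := φ.toRingHom.toAlgebra
  haveI : IsScalarTower k₀ S Ω := IsScalarTower.of_algebraMap_eq (fun x => (j.commutes x).symm)
  haveI : IsScalarTower k₀ S k := IsScalarTower.of_algebraMap_eq (fun x => (φ.commutes x).symm)
  haveI : FaithfulSMul S Ω := (faithfulSMul_iff_algebraMap_injective _ _).mpr hj
  haveI : FaithfulSMul S k := (faithfulSMul_iff_algebraMap_injective _ _).mpr hφ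
  have h1 : trdeg S Ω = trdeg k₀ Ω := trdeg_eq_of_finiteType k₀ S Ω (hΩ ▸ hk)
  have h2 : trdeg S k = trdeg k₀ k := trdeg_eq_of_finiteType k₀ S k hk
  obtain ⟨e, he⟩ := exists_ringEquiv_of_trdeg_eq S Ω k (by rw [h1, h2, hΩ])
  exact ⟨e, fun s => he s⟩

end Groth.Agent.Lib.AlgClosedIso
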