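import Mathlib
import Groth.Prelude.Def_W4bk4goldsch45p2

/-! Linear algebra of jump sequences, order sequences and Hasse families (helper2). -/

open Module Matrix

namespace FunFld

section JumpLA

variable {F : Type*} [Field F] {M : Type*} [AddCommGroup M] [Module F M]

/-- The span of the columns `c 0, …, c (m-1)`. -/
def spanLt (F : Type*) [Field F] {M : Type*} [AddCommGroup M] [Module F M] (c : ℕ → M) (m : ℕ) :
    Submodule F M :=
  Submodule.span F (c '' Set.Iio m)

theorem isJump_iff_spanLt (c : ℕ → M) (j : ℕ) : IsJump F c j ↔ c j ∉ spanLt F c j := Iff.rfl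

theorem spanLt_zero (c : ℕ → M) : spanLt F c 0 = ⊥ := by
  unfold spanLt
  have h : Set.Iio (0 : ℕ) = ∅ := by
    ext x; simp
  rw [h, Set.image_empty, Submodule.span_empty]

theorem spanLt_succ (c : ℕ → M) (m : ℕ) :
    spanLt F c (m + 1) = spanLt F c m ⊔ Submodule.span F {c m} := by
  unfold spanLt
  have h : Set.Iio (m + 1) = insert m (Set.Iio m) := by
    ext x
    simp only [Set.mem_Iio, Set.mem_insert_iff]
    omega
  rw [h, Set.image_insert_eq, Submodule.span_insert, sup_comm]

theorem spanLt_one (c : ℕ → M) : spanLt F c 1 = Submodule.span F {c 0} := by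
  rw [show (1 : ℕ) = 0 + 1 from rfl, spanLt_succ, spanLt_zero, bot_sup_eq]

theorem spanLt_mono (c : ℕ → M) {a b : ℕ} (h : a ≤ b) : spanLt F c a ≤ spanLt F c b :=
  Submodule.span_mono (Set.image_mono (Set.Iio_subset_Iio h))

theorem mem_spanLt (c : ℕ → M) {a b : ℕ} (h : a < b) : c a ∈ spanLt F c b :=
  Submodule.subset_span ⟨a, h, rfl⟩

theorem finrank_spanLt_succ [FiniteDimensional F M] (c : ℕ → M) (m : ℕ)
    [Decidable (IsJump F c m)] :
    finrank F (spanLt F c (m + 1)) =
      finrank F (spanLt F c m) + if IsJump F c m then 1 else 0 := by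
  rw [spanLt_succ]
  by_cases h : IsJump F c m
  · rw [if_pos h]
    have h' : c m ∉ spanLt F c m := h
    have hdisj : spanLt F c m ⊓ Submodule.span F {c m} = ⊥ := by
      rw [eq_bot_iff]
      intro x hx
      obtain ⟨hx1, hx2⟩ := Submodule.mem_inf.mp hx
      obtain ⟨a, rfl⟩ := Submodule.mem_span_singleton.mp hx2
      by_cases ha : a = 0
      · rw [ha, zero_smul]; exact Submodule.zero_mem _
      · exfalso
        apply h'
        have := Submodule.smul_mem _ a⁻¹ hx1
        rwa [smul_smul, inv_mul_cancel₀ ha, one_smul] at this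
    have hc0 : c m ≠ 0 := by
      intro h0
      apply h'
      rw [h0]
      exact Submodule.zero_mem _
    have h1 := Submodule.finrank_sup_add_finrank_inf_eq (spanLt F c m) (Submodule.span F {c m})
    rw [hdisj, finrank_bot, add_zero, finrank_span_singleton hc0] at h1
    exact h1
  · rw [if_neg h, add_zero]
    have hmem : c m ∈ spanLt F c m := not_not.mp h
    have hle : Submodule.span F {c m} ≤ spanLt F c m := by
      rw [Submodule.span_le, Set.singleton_subset_iff]
      exact hmem
    rw [sup_eq_left.mpr hle]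

open Classical in
theorem card_jumps_eq_finrank [FiniteDimensional F M] (c : ℕ → M) (m : ℕ) :
    ((Finset.range m).filter (fun j => IsJump F c j)).card = finrank F (spanLt F c m) := by
  induction m with
  | zero =>
    rw [Finset.range_zero, Finset.filter_empty, Finset.card_empty, spanLt_zero, finrank_bot]
  | succ m ih =>
    rw [Finset.range_add_one, Finset.filter_insert, finrank_spanLt_succ]
    by_cases h : IsJump F c m
    · rw [if_pos h, if_pos h, Finset.card_insert_of_notMem (by simp), ih]
    · rw [if_neg h, if_neg h, ih, add_zero]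

open Classical in
theorem jumps_filter_eq {n : ℕ} (c : ℕ → M) (J : Fin n → ℕ) (hJ : IsOrders F c J)
    (h0 : c 0 ≠ 0) (x : ℕ) :
    (Finset.range (x + 2)).filter (fun j => IsJump F c j) =
      insert 0 ((Finset.univ.filter (fun a : Fin n => J a ≤ x)).image (fun a => J a + 1)) := by
  ext j
  simp only [Finset.mem_filter, Finset.mem_range, Finset.mem_insert, Finset.mem_image,
    Finset.mem_univ, true_and]
  constructor
  · rintro ⟨hj, hjump⟩
    rcases j with _ | i
    · left; rfl
    · right
      obtain ⟨a, ha⟩ := (hJ.2 i).mpr hjump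
      exact ⟨a, by omega, by omega⟩
  · rintro (rfl | ⟨a, ha, rfl⟩)
    · refine ⟨by omega, ?_⟩
      rw [isJump_iff_spanLt, spanLt_zero, Submodule.mem_bot]
      exact h0
    · exact ⟨by omega, (hJ.2 (J a)).mp ⟨a, rfl⟩⟩

open Classical in
theorem finrank_spanLt_of_isOrders [FiniteDimensional F M] {n : ℕ} (c : ℕ → M) (J : Fin n → ℕ)
    (hJ : IsOrders F c J) (h0 : c 0 ≠ 0) (x : ℕ) :
    finrank F (spanLt F c (x + 2)) =
      1 + (Finset.univ.filter (fun a : Fin n => J a ≤ x)).card := by
  rw [← card_jumps_eq_finrank, jumps_filter_eq c J hJ h0 x, Finset.card_insert_of_notMem,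
    Finset.card_image_of_injective, add_comm]
  · intro a b hab
    apply hJ.1.injective
    simpa using hab
  · simp

theorem le_of_lt_card_filter {n : ℕ} (J : Fin n → ℕ) (hJ : StrictMono J) (l : Fin n) (x : ℕ)
    (h : (l : ℕ) < (Finset.univ.filter (fun a : Fin n => J a ≤ x)).card) : J l ≤ x := by
  by_contra hlt
  push Not at hlt
  have hsub : Finset.univ.filter (fun a : Fin n => J a ≤ x) ⊆ Finset.Iio l := by
    intro a ha
    rw [Finset.mem_filter] at ha
    rw [Finset.mem_Iio]
    exact hJ.lt_iff_lt.mp (lt_of_le_of_lt ha.2 hlt)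
  have := Finset.card_le_card hsub
  rw [Fin.card_Iio] at this
  omega

theorem spanLt_eq_span_jumps (c : ℕ → M) (m : ℕ) :
    spanLt F c m = Submodule.span F (c '' {j | j < m ∧ IsJump F c j}) := by
  induction m with
  | zero =>
    rw [spanLt_zero]
    have : {j | j < 0 ∧ IsJump F c j} = (∅ : Set ℕ) := by
      ext j; simp
    rw [this, Set.image_empty, Submodule.span_empty]
  | succ m ih =>
    rw [spanLt_succ]
    by_cases h : IsJump F c m
    · have : {j | j < m + 1 ∧ IsJump F c j} = insert m {j | j < m ∧ IsJump F c j} := by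
        ext j
        constructor
        · rintro ⟨h1, h2⟩
          by_cases hj : j = m
          · left; exact hj
          · right; exact ⟨by omega, h2⟩
        · rintro (rfl | ⟨h1, h2⟩)
          · exact ⟨by omega, h⟩
          · exact ⟨by omega, h2⟩
      rw [this, Set.image_insert_eq, Submodule.span_insert, ih, sup_comm]
    · have hmem : c m ∈ spanLt F c m := not_not.mp h
      have : {j | j < m + 1 ∧ IsJump F c j} = {j | j < m ∧ IsJump F c j} := by
        ext j
        constructor
        · rintro ⟨h1, h2⟩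
          refine ⟨?_, h2⟩
          by_contra hlt
          have hjm : j = m := by omega
          subst hjm
          exact h h2
        · rintro ⟨h1, h2⟩
          exact ⟨by omega, h2⟩
      rw [this, ← ih, sup_eq_left, Submodule.span_le, Set.singleton_subset_iff]
      exact hmem

theorem isJump_comp_injective {M' : Type*} [AddCommGroup M'] [Module F M'] (f : M →ₗ[F] M')
    (hf : Function.Injective f) (c : ℕ → M) (j : ℕ) :
    IsJump F (fun m => f (c m)) j ↔ IsJump F c j := by
  unfold IsJump
  have h1 : (fun m => f (c m)) '' Set.Iio j = f '' (c '' Set.Iio j) := by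
    rw [Set.image_image]
  rw [h1, ← Submodule.map_span, not_iff_not]
  constructor
  · intro h
    obtain ⟨y, hy, hfy⟩ := Submodule.mem_map.mp h
    rwa [← hf hfy]
  · intro h
    exact Submodule.mem_map_of_mem h

theorem spanLt_congr_of_triangular (c c' : ℕ → M)
    (h : ∀ m, ∃ u : F, u ≠ 0 ∧ c' m - u • c m ∈ spanLt F c m) (m : ℕ) :
    spanLt F c' m = spanLt F c m := by
  induction m with
  | zero => rw [spanLt_zero, spanLt_zero]
  | succ m ih =>
    rw [spanLt_succ c' m, spanLt_succ c m, ih]
    obtain ⟨u, hu, hs⟩ := h m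
    apply le_antisymm
    · apply sup_le le_sup_left
      rw [Submodule.span_le, Set.singleton_subset_iff]
      have hmem : (c' m - u • c m) + u • c m ∈ spanLt F c m ⊔ Submodule.span F {c m} :=
        Submodule.add_mem _ (Submodule.mem_sup_left hs)
          (Submodule.mem_sup_right (Submodule.smul_mem _ _ (Submodule.mem_span_singleton_self _)))
      rwa [sub_add_cancel] at hmem
    · apply sup_le le_sup_left
      rw [Submodule.span_le, Set.singleton_subset_iff]
      have hmem : u⁻¹ • (c' m - (c' m - u • c m)) ∈ spanLt F c m ⊔ Submodule.span F {c' m} :=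
        Submodule.smul_mem _ _ (Submodule.sub_mem _
          (Submodule.mem_sup_right (Submodule.mem_span_singleton_self _))
          (Submodule.mem_sup_left hs))
      rwa [sub_sub_cancel, smul_smul, inv_mul_cancel₀ hu, one_smul] at hmem

theorem isJump_congr_of_triangular (c c' : ℕ → M)
    (h : ∀ m, ∃ u : F, u ≠ 0 ∧ c' m - u • c m ∈ spanLt F c m) (m : ℕ) :
    IsJump F c' m ↔ IsJump F c m := by
  rw [isJump_iff_spanLt, isJump_iff_spanLt, spanLt_congr_of_triangular c c' h m]
  obtain ⟨u, hu, hs⟩ := h m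
  constructor
  · intro h1 h2
    apply h1
    have := Submodule.add_mem _ hs (Submodule.smul_mem _ u h2)
    rwa [sub_add_cancel] at this
  · intro h1 h2
    apply h1
    have := Submodule.smul_mem _ u⁻¹ (Submodule.sub_mem _ h2 hs)
    rwa [sub_sub_cancel, smul_smul, inv_mul_cancel₀ hu, one_smul] at this

theorem spanLt_shift (c d : ℕ → M) (y : M) (h0 : c 0 = y) (hs : ∀ j, c (j + 1) = d j) (j : ℕ) :
    spanLt F c (j + 1) = Submodule.span F {y} ⊔ spanLt F d j := by
  induction j with
  | zero => rw [spanLt_one, spanLt_zero, h0, sup_bot_eq]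
  | succ j ih => rw [spanLt_succ c (j + 1), ih, hs, spanLt_succ d j, sup_assoc]

theorem jumps_replace_leading [FiniteDimensional F M] {n : ℕ} (hdim : finrank F M = n + 1)
    (d : ℕ → M) (x : M) (hd0 : d 0 ≠ 0) (hx : x ∉ Submodule.span F {d 0})
    (c c' : ℕ → M) (hc0 : c 0 = d 0) (hc : ∀ j, c (j + 1) = d j) (hc'0 : c' 0 = x)
    (hc' : ∀ j, c' (j + 1) = d j) (J : Fin n → ℕ) (hJ : IsOrders F c J) :
    ∃ m : Fin n, ∀ j : ℕ, IsJump F c' (j + 1) ↔ (j = 0 ∨ ∃ l, l ≠ m ∧ J l = j) := by
  classical
  have hd0W : ∀ j, 1 ≤ j → Submodule.span F {d 0} ≤ spanLt F d j := fun j hj => by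
    rw [← spanLt_one]
    exact spanLt_mono d hj
  have hcj : ∀ j, 1 ≤ j → (IsJump F c (j + 1) ↔ d j ∉ spanLt F d j) := by
    intro j hj
    rw [isJump_iff_spanLt, spanLt_shift c d (d 0) hc0 hc j, hc j, sup_eq_right.mpr (hd0W j hj)]
  have hc'j : ∀ j, IsJump F c' (j + 1) ↔ d j ∉ Submodule.span F {x} ⊔ spanLt F d j := by
    intro j
    rw [isJump_iff_spanLt, spanLt_shift c' d x hc'0 hc' j, hc' j]
  have hc0' : c 0 ≠ 0 := by rw [hc0]; exact hd0
  obtain ⟨N, hN⟩ : ∃ N, ∀ a, J a ≤ N :=
    ⟨∑ a, J a, fun a => Finset.single_le_sum (fun _ _ => Nat.zero_le _) (Finset.mem_univ a)⟩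
  have hfull : spanLt F c (N + 2) = ⊤ := by
    apply Submodule.eq_top_of_finrank_eq
    rw [finrank_spanLt_of_isOrders c J hJ hc0' N, hdim]
    have : Finset.univ.filter (fun a : Fin n => J a ≤ N) = Finset.univ := by
      apply Finset.filter_true_of_mem
      intro a _
      exact hN a
    rw [this, Finset.card_univ, Fintype.card_fin, add_comm]
  have hxN : x ∈ spanLt F d (N + 1) := by
    have h1 : x ∈ spanLt F c (N + 2) := by rw [hfull]; exact Submodule.mem_top
    rw [spanLt_shift c d (d 0) hc0 hc (N + 1), sup_eq_right.mpr (hd0W (N + 1) (by omega))] at h1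
    exact h1
  have hex : ∃ j, x ∈ spanLt F d j := ⟨N + 1, hxN⟩
  obtain ⟨m₀, hm₀x, hmin⟩ : ∃ m₀, x ∈ spanLt F d m₀ ∧ ∀ j, j < m₀ → x ∉ spanLt F d j :=
    ⟨Nat.find hex, Nat.find_spec hex, fun j hj => Nat.find_min hex hj⟩
  have hm₀2 : 2 ≤ m₀ := by
    by_contra hlt
    push Not at hlt
    apply hx
    have h1 := spanLt_mono d (show m₀ ≤ 1 by omega) hm₀x
    rw [spanLt_one] at h1
    exact h1
  obtain ⟨js, hjs⟩ : ∃ js, m₀ = js + 1 := ⟨m₀ - 1, by omega⟩
  have hjs1 : 1 ≤ js := by omega
  have hxjs : x ∉ spanLt F d js := hmin js (by omega)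
  have hxjs1 : x ∈ spanLt F d js ⊔ Submodule.span F {d js} := by
    rw [← spanLt_succ, ← hjs]
    exact hm₀x
  obtain ⟨w, hw, z, hz, hwz⟩ := Submodule.mem_sup.mp hxjs1
  obtain ⟨lam, rfl⟩ := Submodule.mem_span_singleton.mp hz
  have hlam : lam ≠ 0 := by
    rintro rfl
    apply hxjs
    rw [← hwz, zero_smul, add_zero]
    exact hw
  have hdjs : d js ∉ spanLt F d js := by
    intro h
    apply hxjs
    rw [← hwz]
    exact Submodule.add_mem _ hw (Submodule.smul_mem _ _ h)
  obtain ⟨m, hm⟩ : ∃ m, J m = js := (hJ.2 js).mpr ((hcj js hjs1).mpr hdjs)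
  refine ⟨m, fun j => ?_⟩
  rw [hc'j j]
  have hrange : ∀ j, 1 ≤ j → ((∃ l, J l = j) ↔ d j ∉ spanLt F d j) := fun j hj =>
    (hJ.2 j).trans (hcj j hj)
  rcases Nat.eq_zero_or_pos j with rfl | hjpos
  · constructor
    · intro _
      left; rfl
    · intro _ hmem
      rw [spanLt_zero, sup_bot_eq] at hmem
      obtain ⟨a, ha⟩ := Submodule.mem_span_singleton.mp hmem
      have ha0 : a ≠ 0 := by
        rintro rfl
        apply hd0
        rw [← ha, zero_smul]
      apply hx
      rw [Submodule.mem_span_singleton]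
      exact ⟨a⁻¹, by rw [← ha, smul_smul, inv_mul_cancel₀ ha0, one_smul]⟩
  · rcases lt_trichotomy j js with hlt | heq | hgt
    · have hxj1 : x ∉ spanLt F d (j + 1) := hmin (j + 1) (by omega)
      constructor
      · intro h
        right
        have hdj : d j ∉ spanLt F d j := fun h' => h (Submodule.mem_sup_right h')
        obtain ⟨l, hl⟩ := (hrange j hjpos).mpr hdj
        exact ⟨l, fun hlm => by rw [hlm, hm] at hl; omega, hl⟩
      · rintro (h0 | ⟨l, -, hl⟩)
        · omega
        · have hdj : d j ∉ spanLt F d j := (hrange j hjpos).mp ⟨l, hl⟩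
          intro hmem
          obtain ⟨z, hz, w', hw', hzw⟩ := Submodule.mem_sup.mp hmem
          obtain ⟨b, rfl⟩ := Submodule.mem_span_singleton.mp hz
          by_cases hb : b = 0
          · apply hdj
            rw [← hzw, hb, zero_smul, zero_add]
            exact hw'
          · apply hxj1
            have hmem2 : b⁻¹ • (b • x + w' - w') ∈ spanLt F d (j + 1) := by
              rw [hzw]
              exact Submodule.smul_mem _ _ (Submodule.sub_mem _ (mem_spanLt d (by omega))
                (spanLt_mono d (by omega) hw'))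
            rwa [add_sub_cancel_right, smul_smul, inv_mul_cancel₀ hb, one_smul] at hmem2
    · subst heq
      constructor
      · intro h
        exfalso
        apply h
        have hmem2 : lam⁻¹ • (w + lam • d j - w) ∈ Submodule.span F {x} ⊔ spanLt F d j := by
          rw [hwz]
          exact Submodule.smul_mem _ _ (Submodule.sub_mem _
            (Submodule.mem_sup_left (Submodule.mem_span_singleton_self x))
            (Submodule.mem_sup_right hw))
        rwa [add_sub_cancel_left, smul_smul, inv_mul_cancel₀ hlam, one_smul] at hmem2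
      · rintro (h0 | ⟨l, hlm, hl⟩)
        · omega
        · exfalso
          apply hlm
          apply hJ.1.injective
          rw [hl, hm]
    · have hxj : x ∈ spanLt F d j := spanLt_mono d (by omega) hm₀x
      have hsup : Submodule.span F {x} ⊔ spanLt F d j = spanLt F d j := by
        rw [sup_eq_right, Submodule.span_le, Set.singleton_subset_iff]
        exact hxj
      rw [hsup, ← hrange j hjpos]
      constructor
      · rintro ⟨l, hl⟩
        right
        exact ⟨l, fun hlm => by rw [hlm, hm] at hl; omega, hl⟩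
      · rintro (h0 | ⟨l, -, hl⟩)
        · omega
        · exact ⟨l, hl⟩

/-- Vectors supported on the indices `< q`. -/
def lowVec (F : Type*) [Field F] {N : ℕ} (q : Fin N) : Submodule F (Fin N → F) where
  carrier := {v | ∀ r, q ≤ r → v r = 0}
  add_mem' := by
    intro a b ha hb r hr
    rw [Pi.add_apply, ha r hr, hb r hr, add_zero]
  zero_mem' := by
    intro r _
    rfl
  smul_mem' := by
    intro a v hv r hr
    rw [Pi.smul_apply, hv r hr, smul_zero]

theorem mem_lowVec {N : ℕ} (q : Fin N) (v : Fin N → F) :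
    v ∈ lowVec F q ↔ ∀ r, q ≤ r → v r = 0 := Iff.rfl

theorem mulVec_add_single {N : ℕ} (A : Matrix (Fin N) (Fin N) F) (w : Fin N → F) (q : Fin N)
    (a : F) : A *ᵥ (w + Pi.single q a) = A *ᵥ w + a • A.col q := by
  rw [Matrix.mulVec_add, Matrix.mulVec_single]
  congr 1
  ext i
  simp [mul_comm]

theorem det_of_cols_triangular {N : ℕ} (A A' : Matrix (Fin N) (Fin N) F) (u : Fin N → F)
    (h : ∀ q : Fin N, ∃ v : Fin N → F, (∀ r, q < r → v r = 0) ∧ v q = u q ∧ A'.col q = A *ᵥ v) :
    A'.det = A.det * ∏ q, u q := by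
  choose v hv1 hv2 hv3 using h
  have hmul : A' = A * Matrix.of (fun r q => v q r) := by
    ext i q
    have h1 := congrFun (hv3 q) i
    rw [Matrix.col_apply] at h1
    rw [h1, Matrix.mul_apply]
    rfl
  have htri : (Matrix.of (fun r q => v q r)).IsUpperTriangular := by
    intro i j hij
    exact hv1 j i hij
  rw [hmul, Matrix.det_mul, Matrix.det_of_isUpperTriangular htri]
  congr 1
  exact Finset.prod_congr rfl (fun q _ => hv2 q)

end JumpLA

section Hasse

variable {k K : Type*} [Field k] [Field K] [Algebra k K]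

theorem hasseD_zero_apply {s : K} {H : K →ₐ[k] PowerSeries K} (hH : LocRes.IsHasseFamily s H)
    (y : K) : LocRes.hasseD H 0 y = y := by
  rw [LocRes.hasseD_apply, PowerSeries.coeff_zero_eq_constantCoeff_apply]
  exact hH.2 y

theorem hasseD_mul (H : K →ₐ[k] PowerSeries K) (j : ℕ) (x y : K) :
    LocRes.hasseD H j (x * y) =
      ∑ p ∈ Finset.HasAntidiagonal.antidiagonal j, LocRes.hasseD H p.1 x * LocRes.hasseD H p.2 y := by
  simp only [LocRes.hasseD_apply, map_mul, PowerSeries.coeff_mul]

theorem hasseD_add (H : K →ₐ[k] PowerSeries K) (j : ℕ) (x y : K) :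
    LocRes.hasseD H j (x + y) = LocRes.hasseD H j x + LocRes.hasseD H j y := by
  simp only [LocRes.hasseD_apply, map_add]

theorem hasseD_algebraMap (H : K →ₐ[k] PowerSeries K) (j : ℕ) (a : k) :
    LocRes.hasseD H j (algebraMap k K a) = if j = 0 then algebraMap k K a else 0 := by
  rw [LocRes.hasseD_apply, H.commutes, PowerSeries.algebraMap_apply, PowerSeries.coeff_C]

theorem hasseD_smul (H : K →ₐ[k] PowerSeries K) (j : ℕ) (a : k) (y : K) :
    LocRes.hasseD H j (a • y) = a • LocRes.hasseD H j y := by
  rw [Algebra.smul_def, LocRes.hasseD_apply, map_mul, H.commutes, PowerSeries.algebraMap_apply,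
    PowerSeries.coeff_C_mul, Algebra.smul_def, LocRes.hasseD_apply]

/-- The `j`-th Hasse derivative as a `k`-linear map. -/
noncomputable def hasseDL (H : K →ₐ[k] PowerSeries K) (j : ℕ) : K →ₗ[k] K where
  toFun := LocRes.hasseD H j
  map_add' := hasseD_add H j
  map_smul' := hasseD_smul H j

theorem hasseDL_apply (H : K →ₐ[k] PowerSeries K) (j : ℕ) (y : K) :
    hasseDL H j y = LocRes.hasseD H j y := rfl

theorem eq_id_of_smul_eq {n : ℕ} (φ : Fin (n + 1) → K) (h0 : φ 0 ≠ 0)
    (hbir : IntermediateField.adjoin k (Set.range fun i => φ i / φ 0) = ⊤) (τ : K →ₐ[k] K)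
    (a : K) (ha : ∀ i, a * τ (φ i) = φ i) : τ = AlgHom.id k K := by
  have ha0 : a ≠ 0 := by
    rintro rfl
    apply h0
    rw [← ha 0, zero_mul]
  have hfix : ∀ i, τ (φ i / φ 0) = φ i / φ 0 := by
    intro i
    rw [map_div₀, ← mul_div_mul_left _ _ ha0, ha i, ha 0]
  let E : IntermediateField k K :=
    Subalgebra.toIntermediateField (AlgHom.equalizer τ (AlgHom.id k K))
      (fun x hx => by
        rw [AlgHom.mem_equalizer] at hx ⊢
        rw [map_inv₀, map_inv₀, hx])
  have hE : IntermediateField.adjoin k (Set.range fun i => φ i / φ 0) ≤ E := by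
    rw [IntermediateField.adjoin_le_iff]
    rintro _ ⟨i, rfl⟩
    show φ i / φ 0 ∈ AlgHom.equalizer τ (AlgHom.id k K)
    rw [AlgHom.mem_equalizer]
    exact hfix i
  rw [hbir] at hE
  ext x
  have hx : x ∈ E := hE IntermediateField.mem_top
  have hx' : x ∈ AlgHom.equalizer τ (AlgHom.id k K) := hx
  rw [AlgHom.mem_equalizer] at hx'
  exact hx'

end Hasse

end FunFld
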