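import Mathlib
import Groth.Agent.Lib.FunFldK_helper2
import Groth.Prelude.Def_W4bk4goldsch45

/-! Function fields of one variable, part L (helper2): gap numbers, Clifford for multiples of a
point, and some small statements. -/

open WithZero Polynomial IntermediateField

namespace FunFld

variable {k K : Type*} [Field k] [Field K] [Algebra k K]

/-- S11015. -/
theorem mul_mem_L_iff (hK : IsFunctionField k K) (D : Divisor k K) (x y : K) (hx : x ≠ 0) :
    x * y ∈ L D ↔ y ∈ L (D + div k x) := by
  by_cases hy : y = 0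
  · subst hy
    rw [mul_zero]
    exact ⟨fun _ => Submodule.zero_mem _, fun _ => Submodule.zero_mem _⟩
  · rw [mem_L_iff_div hK (mul_ne_zero hx hy), mem_L_iff_div hK hy, div_mul hK hx hy]
    have e : div k x + div k y + D = div k y + (D + div k x) := by abel
    rw [e]

/-- S11016. -/
theorem L_ne_bot_iff (hK : IsFunctionField k K) (D : Divisor k K) :
    L D ≠ ⊥ ↔ ∃ x : K, x ≠ 0 ∧ 0 ≤ D + div k x := by
  rw [Submodule.ne_bot_iff]
  constructor
  · rintro ⟨x, hx, hx0⟩
    refine ⟨x, hx0, ?_⟩
    rw [add_comm]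
    exact (mem_L_iff_div hK hx0 D).mp hx
  · rintro ⟨x, hx0, h⟩
    exact ⟨x, (mem_L_iff_div hK hx0 D).mpr (by rw [add_comm]; exact h), hx0⟩

/-- S11031. -/
theorem exists_weil_of_effective (hK : IsFunctionField k K) (D : Divisor k K) (hD : 0 ≤ D)
    (hdeg : Divisor.deg D < genus k K) :
    ∃ ω : Module.Dual k (adele k K), ω ≠ 0 ∧ ω ∈ WD D := by
  obtain ⟨hfd, hfr⟩ := finrank_WD hK D
  have h1 : 1 ≤ ell D := by
    have h2 := ell_mono hK hD
    rwa [ell_zero hK] at h2
  have hpos : 0 < Module.finrank k (WD D) := by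
    have h3 : (0 : ℤ) < (Module.finrank k (WD D) : ℤ) := by
      rw [hfr]
      have h4 : (1 : ℤ) ≤ ell D := by exact_mod_cast h1
      linarith
    exact_mod_cast h3
  haveI := hfd
  obtain ⟨ω, hω⟩ := (Module.finrank_pos_iff_exists_ne_zero (R := k) (M := ↥(WD D))).mp hpos
  exact ⟨ω.1, fun h => hω (Subtype.ext h), ω.2⟩

theorem Place.deg_eq_one [IsAlgClosed k] (hK : IsFunctionField k K) (P : Place k K) :
    P.deg = 1 := by
  have hfd := finiteDimensional_residueField hK P
  let alg : Algebra k (IsLocalRing.ResidueField P.O) := IsLocalRing.ResidueField.algebra (↥P.O)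
  have hfin : @Module.Finite k (IsLocalRing.ResidueField P.O) _ _
      (@Algebra.toModule _ _ _ _ alg) := hfd
  have hint : @Algebra.IsIntegral k (IsLocalRing.ResidueField P.O) _ _ alg :=
    @Algebra.IsIntegral.of_finite k _ _ _ alg hfin
  have hbij : Function.Bijective (@algebraMap k (IsLocalRing.ResidueField P.O) _ _ alg) :=
    @IsAlgClosed.algebraMap_bijective_of_isIntegral k _ _ _ _ _ alg hint
  have h1 : @Module.finrank k (IsLocalRing.ResidueField P.O) _ _
      (@Algebra.toModule _ _ _ _ alg) = 1 := by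
    have hbij' : Function.Bijective
        (@Algebra.linearMap k (IsLocalRing.ResidueField P.O) _ _ alg) := hbij
    exact ((LinearEquiv.ofBijective
      (@Algebra.linearMap k (IsLocalRing.ResidueField P.O) _ _ alg) hbij').finrank_eq).symm.trans
      (Module.finrank_self k)
  exact h1

theorem ell_single_one_of_genus_pos (hK : IsFunctionField k K) (hg : 0 < genus k K)
    (P : Place k K) (hP1 : P.deg = 1) : ell (Finsupp.single P 1 : Divisor k K) = 1 := by
  have h1 : 1 ≤ ell (Finsupp.single P 1 : Divisor k K) := by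
    have h2 := ell_mono hK (show (0 : Divisor k K) ≤ Finsupp.single P 1 from
      Finsupp.single_nonneg.mpr zero_le_one)
    rwa [ell_zero hK] at h2
  by_contra hne
  have h2 : ell (Finsupp.single P 0 : Divisor k K) < ell (Finsupp.single P 1 : Divisor k K) := by
    rw [Finsupp.single_zero, ell_zero hK]
    omega
  obtain ⟨x, hxL, hxn⟩ := exists_mem_L_not_mem hK h2
  obtain ⟨hx0, hxo, hxQ⟩ := ord_of_mem_L_single hK (n := 1) (n' := 0) (by norm_num) hxL hxn
  have h3 := (adjoin_eq_top_of_simple_pole hK hP1 hxo hxQ).2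
  omega

/-- S11044. -/
theorem ell_sub_single_lt [IsAlgClosed k] (hK : IsFunctionField k K) (hg : 0 < genus k K)
    (D : Divisor k K) (hD : 2 * (genus k K : ℤ) ≤ Divisor.deg D ∨ IsCanonical k K D)
    (P : Place k K) : ell (D - Finsupp.single P 1) < ell D := by
  have hP1 := Place.deg_eq_one hK P
  have hdeg : Divisor.deg (D - Finsupp.single P 1) = Divisor.deg D - 1 := by
    rw [deg_sub, deg_single, hP1]
    norm_num
  rcases hD with hD | hD
  · have h1 := ell_eq_of_deg_ge hK D (by linarith)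
    have h2 := ell_eq_of_deg_ge hK (D - Finsupp.single P 1) (by rw [hdeg]; linarith)
    rw [hdeg] at h2
    have h3 : (ell (D - Finsupp.single P 1) : ℤ) < ell D := by
      rw [h1, h2]
      linarith
    exact_mod_cast h3
  · have h1 := ell_of_isCanonical hK hD
    have h2 := deg_of_isCanonical hK hD
    have h3 := riemann_roch hK D hD (D - Finsupp.single P 1)
    rw [hdeg, h2, sub_sub_cancel, ell_single_one_of_genus_pos hK hg P hP1] at h3
    rw [h1]
    push_cast at h3
    omega

/-- `m` is a gap number at `P`. -/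
def IsGapAt (P : Place k K) (m : ℕ) : Prop :=
  L (Finsupp.single P (m : ℤ) : Divisor k K) = L (Finsupp.single P ((m : ℤ) - 1) : Divisor k K)

theorem exists_mem_of_nongap {P : Place k K} {a : ℕ} (ha : ¬ IsGapAt P a) :
    ∃ x ∈ L (Finsupp.single P (a : ℤ) : Divisor k K),
      x ∉ L (Finsupp.single P ((a : ℤ) - 1) : Divisor k K) := by
  by_contra hall
  push Not at hall
  exact ha (le_antisymm hall (L_single_mono P (by omega)))

theorem nongap_add (hK : IsFunctionField k K) {P : Place k K} {a b : ℕ}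
    (ha : ¬ IsGapAt P a) (hb : ¬ IsGapAt P b) : ¬ IsGapAt P (a + b) := by
  obtain ⟨x, hxL, hxn⟩ := exists_mem_of_nongap ha
  obtain ⟨y, hyL, hyn⟩ := exists_mem_of_nongap hb
  obtain ⟨hx0, hxo, hxQ⟩ :=
    ord_of_mem_L_single hK (n := (a : ℤ)) (n' := (a : ℤ) - 1) (by ring) hxL hxn
  obtain ⟨hy0, hyo, hyQ⟩ :=
    ord_of_mem_L_single hK (n := (b : ℤ)) (n' := (b : ℤ) - 1) (by ring) hyL hyn
  intro hgap
  have hxy : x * y ∈ L (Finsupp.single P (((a + b : ℕ) : ℤ)) : Divisor k K) := by
    push_cast
    exact mul_mem_L_single P hxL hyL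
  unfold IsGapAt at hgap
  rw [hgap, mem_L] at hxy
  have h1 := hxy P
  rw [Finsupp.single_eq_same, P.val_le_exp_iff (mul_ne_zero hx0 hy0), P.ord_mul hx0 hy0,
    hxo, hyo] at h1
  push_cast at h1
  omega

open scoped Classical in
/-- The gap numbers at `P` in `[1, n]`. -/
noncomputable def gapsUpTo (P : Place k K) (n : ℕ) : Finset ℕ :=
  (Finset.Icc 1 n).filter (IsGapAt P)

open scoped Classical in
theorem mem_gapsUpTo {P : Place k K} {n m : ℕ} :
    m ∈ gapsUpTo P n ↔ (1 ≤ m ∧ m ≤ n) ∧ IsGapAt P m := by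
  unfold gapsUpTo
  rw [Finset.mem_filter, Finset.mem_Icc]

theorem gapsUpTo_zero (P : Place k K) : gapsUpTo P 0 = ∅ := by
  ext m
  rw [mem_gapsUpTo]
  simp only [Finset.notMem_empty, iff_false]
  omega

theorem card_gapsUpTo_mono {P : Place k K} {a b : ℕ} (h : a ≤ b) :
    (gapsUpTo P a).card ≤ (gapsUpTo P b).card := by
  apply Finset.card_le_card
  intro m hm
  rw [mem_gapsUpTo] at hm ⊢
  exact ⟨⟨hm.1.1, hm.1.2.trans h⟩, hm.2⟩

open scoped Classical in
theorem card_gapsUpTo_succ (P : Place k K) (n : ℕ) :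
    (gapsUpTo P (n + 1)).card = (gapsUpTo P n).card + if IsGapAt P (n + 1) then 1 else 0 := by
  have hnot : n + 1 ∉ gapsUpTo P n := by
    rw [mem_gapsUpTo]
    omega
  by_cases hg : IsGapAt P (n + 1)
  · rw [if_pos hg]
    have e : gapsUpTo P (n + 1) = insert (n + 1) (gapsUpTo P n) := by
      ext m
      rw [Finset.mem_insert, mem_gapsUpTo, mem_gapsUpTo]
      constructor
      · rintro ⟨⟨h1, h2⟩, h3⟩
        by_cases hm : m = n + 1
        · exact Or.inl hm
        · exact Or.inr ⟨⟨h1, by omega⟩, h3⟩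
      · rintro (rfl | ⟨⟨h1, h2⟩, h3⟩)
        · exact ⟨⟨by omega, le_rfl⟩, hg⟩
        · exact ⟨⟨h1, by omega⟩, h3⟩
    rw [e, Finset.card_insert_of_notMem hnot]
  · rw [if_neg hg, add_zero]
    congr 1
    ext m
    rw [mem_gapsUpTo, mem_gapsUpTo]
    constructor
    · rintro ⟨⟨h1, h2⟩, h3⟩
      have hm : m ≠ n + 1 := by
        rintro rfl
        exact hg h3
      exact ⟨⟨h1, by omega⟩, h3⟩
    · rintro ⟨⟨h1, h2⟩, h3⟩
      exact ⟨⟨h1, by omega⟩, h3⟩

theorem ell_add_card_gaps (hK : IsFunctionField k K) {P : Place k K} (hP1 : P.deg = 1) :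
    ∀ n : ℕ, ell (Finsupp.single P (n : ℤ) : Divisor k K) + (gapsUpTo P n).card = n + 1 := by
  classical
  intro n
  induction n with
  | zero =>
    rw [gapsUpTo_zero, Finset.card_empty, Nat.cast_zero, Finsupp.single_zero, ell_zero hK]
  | succ n ih =>
    rw [card_gapsUpTo_succ]
    have e2 : (((n + 1 : ℕ) : ℤ) - 1) = (n : ℤ) := by
      push_cast
      ring
    have e1 : (Finsupp.single P (((n + 1 : ℕ)) : ℤ) : Divisor k K) =
        Finsupp.single P (n : ℤ) + Finsupp.single P 1 := by
      rw [← Finsupp.single_add]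
      push_cast
      rfl
    haveI := finiteDimensional_L hK (Finsupp.single P (n : ℤ) : Divisor k K)
    haveI := finiteDimensional_L hK (Finsupp.single P (((n + 1 : ℕ)) : ℤ) : Divisor k K)
    have hle := (L_step hK (Finsupp.single P (n : ℤ)) P).2
    rw [← e1, hP1] at hle
    have hLle : L (Finsupp.single P (n : ℤ) : Divisor k K) ≤
        L (Finsupp.single P (((n + 1 : ℕ)) : ℤ) : Divisor k K) :=
      L_single_mono P (by push_cast; omega)
    by_cases hg : IsGapAt P (n + 1)
    · rw [if_pos hg]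
      have hg' := hg
      unfold IsGapAt at hg'
      rw [e2] at hg'
      have h5 : ell (Finsupp.single P (((n + 1 : ℕ)) : ℤ) : Divisor k K) =
          ell (Finsupp.single P (n : ℤ) : Divisor k K) := by
        unfold ell
        rw [hg']
      omega
    · rw [if_neg hg]
      have hlt : L (Finsupp.single P (n : ℤ) : Divisor k K) <
          L (Finsupp.single P (((n + 1 : ℕ)) : ℤ) : Divisor k K) := by
        refine lt_of_le_of_ne hLle (fun h => hg ?_)
        unfold IsGapAt
        rw [e2]
        exact h.symm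
      have h5 : ell (Finsupp.single P (n : ℤ) : Divisor k K) <
          ell (Finsupp.single P (((n + 1 : ℕ)) : ℤ) : Divisor k K) :=
        Submodule.finrank_lt_finrank_of_lt hlt
      omega

/-- S11045 in `Finset` form. -/
theorem gap_pairing (hK : IsFunctionField k K) (P : Place k K) (n : ℕ) (hn : 1 ≤ n)
    (hgap : IsGapAt P n) : n - 1 ≤ 2 * (gapsUpTo P (n - 1)).card := by
  classical
  have hcard : (gapsUpTo P (n - 1)).card +
      ((Finset.Icc 1 (n - 1)).filter (fun m => ¬ IsGapAt P m)).card = n - 1 := by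
    have h3 := Finset.card_filter_add_card_filter_not (s := Finset.Icc 1 (n - 1))
      (IsGapAt P)
    rw [Nat.card_Icc] at h3
    unfold gapsUpTo
    omega
  have hle : ((Finset.Icc 1 (n - 1)).filter (fun m => ¬ IsGapAt P m)).card ≤
      (gapsUpTo P (n - 1)).card := by
    apply Finset.card_le_card_of_injOn (fun m => n - m)
    · intro m hm
      rw [Finset.mem_coe, Finset.mem_filter, Finset.mem_Icc] at hm
      show n - m ∈ (gapsUpTo P (n - 1) : Set ℕ)
      rw [Finset.mem_coe, mem_gapsUpTo]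
      refine ⟨⟨by omega, by omega⟩, ?_⟩
      by_contra hng
      have h4 := nongap_add hK hm.2 hng
      rw [show m + (n - m) = n by omega] at h4
      exact h4 hgap
    · intro a ha b hb hab
      rw [Finset.mem_coe, Finset.mem_filter, Finset.mem_Icc] at ha hb
      simp only at hab
      omega
  omega

theorem card_gapsUpTo_two_genus [IsAlgClosed k] (hK : IsFunctionField k K) (P : Place k K) :
    (gapsUpTo P (2 * genus k K)).card = genus k K := by
  have hP1 := Place.deg_eq_one hK P
  have h1 := ell_add_card_gaps hK hP1 (2 * genus k K)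
  have h2 := ell_eq_of_deg_ge hK (Finsupp.single P ((2 * genus k K : ℕ) : ℤ)) (by
    rw [deg_single, hP1]
    push_cast
    linarith)
  rw [deg_single, hP1] at h2
  push_cast at h2 h1
  omega

/-- S11063 in `Finset` form. -/
theorem le_card_gapsUpTo [IsAlgClosed k] (hK : IsFunctionField k K) (P : Place k K) (l : ℕ)
    (hl : 1 ≤ l) (hlg : l ≤ genus k K) : l ≤ (gapsUpTo P (2 * l - 1)).card := by
  classical
  have hex : ∃ n, l ≤ (gapsUpTo P n).card :=
    ⟨2 * genus k K, by rw [card_gapsUpTo_two_genus hK P]; exact hlg⟩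
  obtain ⟨n₀, h1, hmin⟩ : ∃ n₀, l ≤ (gapsUpTo P n₀).card ∧
      ∀ m < n₀, ¬ l ≤ (gapsUpTo P m).card :=
    ⟨Nat.find hex, Nat.find_spec hex, fun m hm => Nat.find_min hex hm⟩
  have hn₀ : n₀ ≠ 0 := by
    intro h0
    rw [h0, gapsUpTo_zero, Finset.card_empty] at h1
    omega
  obtain ⟨n₁, rfl⟩ := Nat.exists_eq_add_one_of_ne_zero hn₀
  have h2 := hmin n₁ (by omega)
  have h1' := h1
  rw [card_gapsUpTo_succ] at h1'
  have hgap : IsGapAt P (n₁ + 1) := by
    by_contra hng
    rw [if_neg hng] at h1'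
    omega
  have h3 := gap_pairing hK P (n₁ + 1) (by omega) hgap
  rw [Nat.add_sub_cancel] at h3
  have h4 : n₁ + 1 ≤ 2 * l - 1 := by omega
  exact h1.trans (card_gapsUpTo_mono h4)

/-- S11046. -/
theorem two_mul_ell_single_le [IsAlgClosed k] (hK : IsFunctionField k K) (P : Place k K) (n : ℕ)
    (hn : (n : ℤ) ≤ 2 * (genus k K : ℤ) - 2) :
    2 * ell (Finsupp.single P (n : ℤ) : Divisor k K) ≤ n + 2 := by
  have hP1 := Place.deg_eq_one hK P
  have h1 := ell_add_card_gaps hK hP1 n
  by_cases h0 : n = 0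
  · subst h0
    omega
  · have hl := le_card_gapsUpTo hK P ((n + 1) / 2) (by omega) (by omega)
    have hmono := card_gapsUpTo_mono (P := P) (show 2 * ((n + 1) / 2) - 1 ≤ n by omega)
    omega

/-- S11064. -/
theorem adjoin_ratios_eq_top {n : ℕ} (φ : Fin (n + 1) → K) (h0 : φ 0 ≠ 0) (P : Place k K)
    (h : IsNonsingularAt φ P) :
    IntermediateField.adjoin k (Set.range fun i => φ i / φ 0) = ⊤ := by
  have hloc : ∀ z : K, InLocRing φ P z →
      z ∈ IntermediateField.adjoin k (Set.range fun i => φ i / φ 0) := by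
    rintro z ⟨j, hj0, _, u, hu, w, hw, hw1, hzw⟩
    have hsub : Algebra.adjoin k (Set.range fun i => φ i / φ j) ≤
        (IntermediateField.adjoin k (Set.range fun i => φ i / φ 0)).toSubalgebra := by
      apply Algebra.adjoin_le
      rintro _ ⟨i, rfl⟩
      have e : φ i / φ j = (φ i / φ 0) / (φ j / φ 0) := by field_simp
      show φ i / φ j ∈ IntermediateField.adjoin k (Set.range fun i => φ i / φ 0)
      rw [e]
      exact div_mem (IntermediateField.subset_adjoin k _ ⟨i, rfl⟩)
        (IntermediateField.subset_adjoin k _ ⟨j, rfl⟩)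
    have hw0 : w ≠ 0 := by
      rintro rfl
      rw [map_zero] at hw1
      exact zero_ne_one hw1
    have e2 : z = u / w := by
      rw [← hzw]
      field_simp
    rw [e2]
    exact div_mem (hsub hu) (hsub hw)
  rw [eq_top_iff]
  intro z _
  by_cases hz : P.1 z ≤ 1
  · exact hloc z (h z hz)
  · have hz0 : z ≠ 0 := by
      rintro rfl
      exact hz (by rw [map_zero]; exact zero_le_one)
    have h3 : P.1 z⁻¹ ≤ 1 := by
      rw [map_inv₀]
      exact inv_le_one_of_one_le₀ (le_of_not_ge hz)
    have h4 := inv_mem (hloc z⁻¹ (h z⁻¹ h3))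
    rwa [inv_inv] at h4

end FunFld
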