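import Mathlib
import Groth.Agent.Lib.FunFldL_helper2

/-! Function fields of one variable, part M (helper2): automorphisms fixing many places. -/

open WithZero Polynomial IntermediateField

namespace FunFld

variable {k K : Type*} [Field k] [Field K] [Algebra k K]

theorem exists_sub_algebraMap_lt_one [IsAlgClosed k] (hK : IsFunctionField k K) (P : Place k K)
    {x : K} (hx : P.1 x ≤ 1) : ∃ c : k, P.1 (x - algebraMap k K c) < 1 := by
  have hfd := finiteDimensional_residueField hK P
  let alg : Algebra k (IsLocalRing.ResidueField P.O) := IsLocalRing.ResidueField.algebra (↥P.O)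
  have hfin : @Module.Finite k (IsLocalRing.ResidueField P.O) _ _
      (@Algebra.toModule _ _ _ _ alg) := hfd
  have hint : @Algebra.IsIntegral k (IsLocalRing.ResidueField P.O) _ _ alg :=
    @Algebra.IsIntegral.of_finite k _ _ _ alg hfin
  have hbij : Function.Bijective (@algebraMap k (IsLocalRing.ResidueField P.O) _ _ alg) :=
    @IsAlgClosed.algebraMap_bijective_of_isIntegral k _ _ _ _ _ alg hint
  have hxO : x ∈ P.O := (Valuation.mem_valuationSubring_iff _ _).mpr hx
  obtain ⟨c, hc⟩ := hbij.2 (IsLocalRing.residue P.O ⟨x, hxO⟩)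
  refine ⟨c, ?_⟩
  have h0 : IsLocalRing.residue P.O (algebraMap k P.O c) =
      @algebraMap k (IsLocalRing.ResidueField P.O) _ _ alg c := rfl
  have h1 : IsLocalRing.residue P.O (⟨x, hxO⟩ - algebraMap k P.O c) = 0 := by
    rw [map_sub, sub_eq_zero, h0]
    exact hc.symm
  have h2 := (P.residue_eq_zero_iff _).mp h1
  have h3 : ((⟨x, hxO⟩ - algebraMap k P.O c : P.O) : K) = x - algebraMap k K c := rfl
  rw [h3] at h2
  exact h2

/-- Pull back a place along a `k`-automorphism. -/
noncomputable def Place.comapEquiv (σ : K ≃ₐ[k] K) (P : Place k K) : Place k K :=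
  ⟨P.1.comap (σ : K →+* K), fun c => by
    rw [Valuation.comap_apply]
    have h1 : (σ : K →+* K) (algebraMap k K c) = algebraMap k K c := σ.commutes c
    rw [h1]
    exact P.2.1 c, fun γ => by
    obtain ⟨y, hy⟩ := P.2.2 γ
    refine ⟨σ.symm y, ?_⟩
    rw [Valuation.comap_apply]
    have h1 : (σ : K →+* K) (σ.symm y) = y := σ.apply_symm_apply y
    rw [h1]
    exact hy⟩

theorem Place.comapEquiv_apply (σ : K ≃ₐ[k] K) (P : Place k K) (y : K) :
    (P.comapEquiv σ).1 y = P.1 (σ y) := rfl

theorem Place.eq_of_maximalIdeal_le {P Q : Place k K} (h : ∀ x, P.1 x < 1 → Q.1 x < 1) :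
    P = Q := by
  symm
  apply Place.eq_of_forall_le_one
  intro a ha
  by_contra hna
  have ha0 : a ≠ 0 := by
    rintro rfl
    exact hna (by rw [map_zero]; exact zero_le_one)
  have hai : a⁻¹ ≠ 0 := inv_ne_zero ha0
  have h1 : 1 < P.1 a := not_le.mp hna
  have h2 : P.1 a⁻¹ < 1 := by
    rw [← P.ord_pos_iff hai, P.ord_inv]
    have := (P.ord_neg_iff ha0).mpr h1
    omega
  have h3 := h _ h2
  rw [← Q.ord_pos_iff hai, Q.ord_inv] at h3
  have h4 : 1 < Q.1 a := (Q.ord_neg_iff ha0).mp (by omega)
  exact absurd ha (not_le.mpr h4)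

theorem val_algEquiv_of_fixed (σ : K ≃ₐ[k] K) (P : Place k K)
    (h : ∀ x : K, P.1 x < 1 → P.1 (σ x) < 1) (y : K) : P.1 (σ y) = P.1 y := by
  have h1 : P = P.comapEquiv σ := Place.eq_of_maximalIdeal_le (fun x hx => by
    rw [Place.comapEquiv_apply]
    exact h x hx)
  have h2 := congrArg (fun R : Place k K => R.1 y) h1
  simp only [Place.comapEquiv_apply] at h2
  exact h2.symm

theorem deg_sum_single [IsAlgClosed k] (hK : IsFunctionField k K) (F : Finset (Place k K)) :
    Divisor.deg (∑ Q ∈ F, (Finsupp.single Q 1 : Divisor k K)) = F.card := by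
  rw [deg_eq_degAddHomH, map_sum]
  have h1 : ∀ Q ∈ F, degAddHomH (Finsupp.single Q 1 : Divisor k K) = 1 := fun Q _ => by
    rw [← deg_eq_degAddHomH, deg_single, Place.deg_eq_one hK Q]
    norm_num
  rw [Finset.sum_congr rfl h1]
  simp

open scoped Classical in
theorem sum_single_apply (F : Finset (Place k K)) (Q : Place k K) :
    (∑ R ∈ F, (Finsupp.single R 1 : Divisor k K)) Q = if Q ∈ F then 1 else 0 := by
  classical
  rw [Finsupp.finsetSum_apply]
  simp only [Finsupp.single_apply]
  rw [Finset.sum_ite_eq' F Q]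

/-- S11047. -/
theorem algEquiv_eq_one_of_fixed [IsAlgClosed k] (hK : IsFunctionField k K) (σ : K ≃ₐ[k] K)
    (h : ((2 * genus k K + 2 : ℕ) : ℕ∞) <
      Set.encard {P : Place k K | ∀ x : K, P.1 x < 1 → P.1 (σ x) < 1}) : σ = 1 := by
  classical
  by_contra hne
  by_cases hall : ∀ P : Place k K, ∀ x : K, P.1 x < 1 → P.1 (σ x) < 1
  · -- every place is fixed
    apply hne
    have hconst : ∀ c : k, σ (algebraMap k K c) = algebraMap k K c := σ.commutes
    have hsmul : ∀ x : K, x ≠ 0 → ∃ c : k, σ x = c • x := fun x hx0 => by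
      have hsx0 : σ x ≠ 0 := fun h0 => hx0 (by
        have := σ.injective (h0.trans (map_zero σ).symm)
        exact this)
      apply exists_eq_smul_of_ord_eq hK (σ x) x hsx0 hx0
      intro P
      unfold Place.ord
      rw [val_algEquiv_of_fixed σ P (hall P) x]
    ext x
    show σ x = x
    by_cases hx : x ∈ Set.range (algebraMap k K)
    · obtain ⟨c, rfl⟩ := hx
      exact hconst c
    · have hx0 : x ≠ 0 := by
        rintro rfl
        exact hx ⟨0, map_zero _⟩
      have hx1 : x + 1 ≠ 0 := by
        intro h1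
        apply hx
        refine ⟨-1, ?_⟩
        rw [map_neg, map_one]
        exact (eq_neg_of_add_eq_zero_left h1).symm
      obtain ⟨c, hc⟩ := hsmul x hx0
      obtain ⟨c', hc'⟩ := hsmul (x + 1) hx1
      rw [map_add, map_one, hc, Algebra.smul_def, Algebra.smul_def] at hc'
      -- hc' : algebraMap c * x + 1 = algebraMap c' * (x + 1)
      have hcc : c' = c := by
        by_contra hcc
        apply hx
        refine ⟨(1 - c') / (c' - c), ?_⟩
        have hd : algebraMap k K (c' - c) ≠ 0 := by
          rw [Ne, map_eq_zero_iff _ (algebraMap k K).injective, sub_eq_zero]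
          exact hcc
        rw [map_div₀, div_eq_iff hd, map_sub, map_sub, map_one]
        linear_combination hc'
      rw [hcc] at hc'
      have hc1 : algebraMap k K c = 1 := by linear_combination -hc'
      rw [hc, Algebra.smul_def, hc1, one_mul]
  · push Not at hall
    obtain ⟨P, x₀, hx₀, hx₀'⟩ := hall
    have hPnot : ¬ ∀ x : K, P.1 x < 1 → P.1 (σ x) < 1 := fun h' => absurd (h' x₀ hx₀) (not_lt.mpr hx₀')
    -- places
    obtain ⟨P', hP'⟩ : ∃ P' : Place k K, P' = P.comapEquiv σ.symm := ⟨_, rfl⟩
    have hP'val : ∀ y, P'.1 y = P.1 (σ.symm y) := fun y => by rw [hP']; rfl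
    have hP'ne : P' ≠ P := by
      intro heq
      apply hPnot
      intro y hy
      have h1 := hP'val (σ y)
      rw [heq, σ.symm_apply_apply] at h1
      rw [h1]
      exact hy
    have hPσ : P.comapEquiv σ ≠ P := by
      intro heq
      apply hPnot
      intro y hy
      have h1 := Place.comapEquiv_apply σ P y
      rw [heq] at h1
      rw [← h1]
      exact hy
    have hQσ : ∀ Q : Place k K, Q ≠ P' → Q.comapEquiv σ ≠ P := by
      intro Q hQ heq
      apply hQ
      apply Place.eq_of_maximalIdeal_le
      intro y hy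
      rw [hP'val, ← heq, Place.comapEquiv_apply, σ.apply_symm_apply]
      exact hy
    -- the function x
    have hP1 := Place.deg_eq_one hK P
    have hP'1 := Place.deg_eq_one hK P'
    have hl : ell (0 : Divisor k K) <
        ell (Finsupp.single P ((genus k K : ℤ) + 1) : Divisor k K) := by
      have h1 := delta_le_genus hK (Finsupp.single P ((genus k K : ℤ) + 1) : Divisor k K)
      rw [deg_single, hP1] at h1
      rw [ell_zero hK]
      push_cast at h1
      omega
    obtain ⟨x, hxL, hxn⟩ := exists_mem_L_not_mem hK hl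
    rw [mem_L] at hxL hxn
    push Not at hxn
    obtain ⟨R, hR⟩ := hxn
    rw [Finsupp.coe_zero, Pi.zero_apply, exp_zero] at hR
    have hxQ : ∀ Q : Place k K, Q ≠ P → Q.1 x ≤ 1 := fun Q hQ => by
      have h1 := hxL Q
      rwa [Finsupp.single_eq_of_ne hQ, exp_zero] at h1
    have hRP : R = P := by
      by_contra hRP
      exact absurd (hxQ R hRP) (not_le.mpr hR)
    rw [hRP] at hR
    have hxP : P.1 x ≤ exp ((genus k K : ℤ) + 1) := by
      have h1 := hxL P
      rwa [Finsupp.single_eq_same] at h1
    -- valuations of σ x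
    have hσx : ∀ Q : Place k K, Q ≠ P' → Q.1 (σ x) ≤ 1 := fun Q hQ => by
      rw [← Place.comapEquiv_apply]
      exact hxQ _ (hQσ Q hQ)
    have hσxP' : P'.1 (σ x) = P.1 x := by rw [hP'val, σ.symm_apply_apply]
    -- y
    obtain ⟨y, hy⟩ : ∃ y : K, y = σ x - x := ⟨_, rfl⟩
    have hyP : P.1 y = P.1 x := by
      rw [hy]
      exact Valuation.map_sub_eq_of_lt_right _
        (lt_of_le_of_lt (hσx P (Ne.symm hP'ne)) hR)
    have hy0 : y ≠ 0 := by
      rintro h0
      rw [h0, map_zero] at hyP
      rw [← hyP] at hR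
      exact absurd hR (by simp)
    have hyt : Transcendental k y :=
      transcendental_of_val_ne_one hK P.1 P.2.1 hy0 (by rw [hyP]; exact ne_of_gt hR)
    have hyL : ∀ Q : Place k K, Q.1 y ≤ exp ((Finsupp.single P ((genus k K : ℤ) + 1) +
        Finsupp.single P' ((genus k K : ℤ) + 1) : Divisor k K) Q) := by
      intro Q
      rw [Finsupp.add_apply]
      by_cases hQP : Q = P
      · rw [hQP, Finsupp.single_eq_same, Finsupp.single_eq_of_ne (Ne.symm hP'ne), add_zero, hyP]
        exact hxP
      · by_cases hQP' : Q = P'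
        · rw [hQP', Finsupp.single_eq_same, Finsupp.single_eq_of_ne hP'ne, zero_add, hy]
          refine (Valuation.map_sub _ _ _).trans (max_le ?_ ?_)
          · rw [hσxP']
            exact hxP
          · exact (hxQ P' hP'ne).trans (by
              rw [← exp_zero, exp_le_exp]
              omega)
        · rw [Finsupp.single_eq_of_ne hQP, Finsupp.single_eq_of_ne hQP', add_zero, exp_zero, hy]
          exact (Valuation.map_sub _ _ _).trans (max_le (hσx Q hQP') (hxQ Q hQP))
    have hpole : poleDiv k y ≤ Finsupp.single P ((genus k K : ℤ) + 1) +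
        Finsupp.single P' ((genus k K : ℤ) + 1) := by
      intro Q
      rw [poleDiv_apply hK]
      have h1 := (Q.val_le_exp_iff hy0 _).mp (hyL Q)
      have h2 : (0 : ℤ) ≤ (Finsupp.single P ((genus k K : ℤ) + 1) +
          Finsupp.single P' ((genus k K : ℤ) + 1) : Divisor k K) Q := by
        rw [Finsupp.add_apply]
        apply add_nonneg
        · by_cases hQP : Q = P
          · rw [hQP, Finsupp.single_eq_same]
            omega
          · rw [Finsupp.single_eq_of_ne hQP]
        · by_cases hQP' : Q = P'
          · rw [hQP', Finsupp.single_eq_same]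
            omega
          · rw [Finsupp.single_eq_of_ne hQP']
      exact max_le (by omega) h2
    have hdegpole : Divisor.deg (poleDiv k y) ≤ 2 * (genus k K : ℤ) + 2 := by
      have h1 := deg_mono hpole
      rw [deg_add, deg_single, deg_single, hP1, hP'1] at h1
      push_cast at h1
      linarith
    have hdegzero : Divisor.deg (zeroDiv k y) ≤ 2 * (genus k K : ℤ) + 2 := by
      rw [deg_zeroDiv_eq hK hyt, ← deg_poleDiv_eq hK hyt]
      exact hdegpole
    -- zeros at fixed places
    have hzero : ∀ Q : Place k K, (∀ z : K, Q.1 z < 1 → Q.1 (σ z) < 1) → Q.1 y < 1 := by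
      intro Q hQ
      have hQP : Q ≠ P := by
        rintro rfl
        exact hPnot hQ
      have hQP' : Q ≠ P' := by
        intro hQP'
        rw [hQP'] at hQ
        apply hPnot
        intro z hz
        have h4 := val_algEquiv_of_fixed σ P' hQ (σ z)
        rw [hP'val, hP'val, σ.symm_apply_apply, σ.symm_apply_apply] at h4
        rw [h4]
        exact hz
      obtain ⟨c, hc⟩ := exists_sub_algebraMap_lt_one hK Q (hxQ Q hQP)
      have h1 := hQ _ hc
      rw [map_sub, σ.commutes] at h1
      have h2 : y = (σ x - algebraMap k K c) - (x - algebraMap k K c) := by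
        rw [hy]
        ring
      rw [h2]
      exact lt_of_le_of_lt (Valuation.map_sub _ _ _) (max_lt h1 hc)
    -- extract a finite set of fixed places
    have hle : ((2 * genus k K + 3 : ℕ) : ℕ∞) ≤
        Set.encard {P : Place k K | ∀ x : K, P.1 x < 1 → P.1 (σ x) < 1} := by
      have h1 := Order.add_one_le_of_lt h
      have e : ((2 * genus k K + 2 : ℕ) : ℕ∞) + 1 = ((2 * genus k K + 3 : ℕ) : ℕ∞) := by
        norm_cast
      rwa [e] at h1
    obtain ⟨t, hts, htc⟩ := Set.exists_subset_encard_eq hle
    have htf : t.Finite := Set.finite_of_encard_eq_coe htc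
    have hcard : htf.toFinset.card = 2 * genus k K + 3 := by
      rw [htf.encard_eq_coe_toFinset_card] at htc
      exact_mod_cast htc
    have hE : (∑ Q ∈ htf.toFinset, (Finsupp.single Q 1 : Divisor k K)) ≤ zeroDiv k y := by
      intro Q
      rw [sum_single_apply, zeroDiv_apply hK]
      split_ifs with hQ
      · have hQfix := hts (htf.mem_toFinset.mp hQ)
        have h1 := (Q.ord_pos_iff hy0).mpr (hzero Q hQfix)
        exact le_max_of_le_left (by omega)
      · exact le_max_right _ _
    have h5 := deg_mono hE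
    rw [deg_sum_single hK, hcard] at h5
    push_cast at h5
    linarith

end FunFld
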