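import Mathlib
import Groth.Agent.Lib.FunFldM_helper2

/-! Function fields of one variable, part N (helper2): local rings of projective maps. -/

open WithZero Polynomial IntermediateField

namespace FunFld

variable {k K : Type*} [Field k] [Field K] [Algebra k K]

/-- `u` has a common residue constant at `P` and `Q`. -/
def CommonRes (P Q : Place k K) (u : K) : Prop :=
  ∃ c : k, P.1 (u - algebraMap k K c) < 1 ∧ Q.1 (u - algebraMap k K c) < 1

theorem val_le_one_of_sub_lt (P : Place k K) {u : K} {c : k}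
    (h : P.1 (u - algebraMap k K c) < 1) : P.1 u ≤ 1 := by
  have e : u = (u - algebraMap k K c) + algebraMap k K c := by ring
  rw [e]
  exact (P.1.map_add _ _).trans (max_le h.le (P.2.1 c))

theorem val_lt_one_iff_of_sub_lt (P : Place k K) {u : K} {c : k}
    (h : P.1 (u - algebraMap k K c) < 1) : P.1 u < 1 ↔ c = 0 := by
  constructor
  · intro hu
    by_contra hc
    have h1 : P.1 (algebraMap k K c) = 1 := P.val_algebraMap hc
    have e : algebraMap k K c = u - (u - algebraMap k K c) := by ring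
    rw [e] at h1
    have h2 := (P.1.map_sub u (u - algebraMap k K c)).trans_lt (max_lt hu h)
    rw [h1] at h2
    exact lt_irrefl _ h2
  · rintro rfl
    rwa [map_zero, sub_zero] at h

theorem commonRes_algebraMap (P Q : Place k K) (c : k) : CommonRes P Q (algebraMap k K c) :=
  ⟨c, by rw [sub_self, map_zero]; exact zero_lt_one, by rw [sub_self, map_zero]; exact zero_lt_one⟩

theorem commonRes_add {P Q : Place k K} {u u' : K} (h : CommonRes P Q u)
    (h' : CommonRes P Q u') : CommonRes P Q (u + u') := by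
  obtain ⟨c, hP, hQ⟩ := h
  obtain ⟨c', hP', hQ'⟩ := h'
  refine ⟨c + c', ?_, ?_⟩
  · have e : u + u' - algebraMap k K (c + c') =
        (u - algebraMap k K c) + (u' - algebraMap k K c') := by rw [map_add]; ring
    rw [e]
    exact (P.1.map_add _ _).trans_lt (max_lt hP hP')
  · have e : u + u' - algebraMap k K (c + c') =
        (u - algebraMap k K c) + (u' - algebraMap k K c') := by rw [map_add]; ring
    rw [e]
    exact (Q.1.map_add _ _).trans_lt (max_lt hQ hQ')

theorem val_mul_sub_lt (P : Place k K) {u u' : K} {c c' : k}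
    (h : P.1 (u - algebraMap k K c) < 1) (h' : P.1 (u' - algebraMap k K c') < 1) :
    P.1 (u * u' - algebraMap k K (c * c')) < 1 := by
  have e : u * u' - algebraMap k K (c * c') =
      (u - algebraMap k K c) * u' + algebraMap k K c * (u' - algebraMap k K c') := by
    rw [map_mul]; ring
  rw [e]
  refine (P.1.map_add _ _).trans_lt (max_lt ?_ ?_)
  · rw [map_mul]
    calc P.1 (u - algebraMap k K c) * P.1 u' ≤ P.1 (u - algebraMap k K c) * 1 :=
          mul_le_mul_right (val_le_one_of_sub_lt P h') _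
      _ < 1 := by rw [mul_one]; exact h
  · rw [map_mul]
    calc P.1 (algebraMap k K c) * P.1 (u' - algebraMap k K c') ≤
          1 * P.1 (u' - algebraMap k K c') := mul_le_mul_left (P.2.1 c) _
      _ < 1 := by rw [one_mul]; exact h'

theorem commonRes_mul {P Q : Place k K} {u u' : K} (h : CommonRes P Q u)
    (h' : CommonRes P Q u') : CommonRes P Q (u * u') := by
  obtain ⟨c, hP, hQ⟩ := h
  obtain ⟨c', hP', hQ'⟩ := h'
  exact ⟨c * c', val_mul_sub_lt P hP hP', val_mul_sub_lt Q hQ hQ'⟩

theorem val_eq_one_of_sub_lt (P : Place k K) {u : K} {c : k} (hc : c ≠ 0)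
    (h : P.1 (u - algebraMap k K c) < 1) : P.1 u = 1 := by
  have e : u = algebraMap k K c + (u - algebraMap k K c) := by ring
  rw [e, Valuation.map_add_eq_of_lt_left _ (by rw [P.val_algebraMap hc]; exact h),
    P.val_algebraMap hc]

theorem val_inv_sub_lt (P : Place k K) {u : K} {c : k} (hc : c ≠ 0)
    (h : P.1 (u - algebraMap k K c) < 1) : P.1 (u⁻¹ - algebraMap k K c⁻¹) < 1 := by
  have hu1 := val_eq_one_of_sub_lt P hc h
  have hu0 : u ≠ 0 := by
    rintro rfl
    rw [map_zero] at hu1
    exact zero_ne_one hu1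
  have hc0 : algebraMap k K c ≠ 0 := (_root_.map_ne_zero _).mpr hc
  have e : u⁻¹ - algebraMap k K c⁻¹ = -(u - algebraMap k K c) * (u⁻¹ * (algebraMap k K c)⁻¹) := by
    rw [map_inv₀]
    field_simp
    ring
  rw [e, map_mul, map_mul, Valuation.map_neg, map_inv₀, map_inv₀, hu1, P.val_algebraMap hc,
    inv_one, one_mul, mul_one]
  exact h

theorem commonRes_inv {P Q : Place k K} {u : K} (h : CommonRes P Q u) (hu : P.1 u = 1) :
    CommonRes P Q u⁻¹ := by
  obtain ⟨c, hP, hQ⟩ := h
  have hc : c ≠ 0 := by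
    intro hc
    have h1 := (val_lt_one_iff_of_sub_lt P hP).mpr hc
    rw [hu] at h1
    exact lt_irrefl _ h1
  exact ⟨c⁻¹, val_inv_sub_lt P hc hP, val_inv_sub_lt Q hc hQ⟩

theorem commonRes_of_mem_adjoin {P Q : Place k K} {s : Set K} (hs : ∀ u ∈ s, CommonRes P Q u)
    {u : K} (hu : u ∈ Algebra.adjoin k s) : CommonRes P Q u := by
  induction hu using Algebra.adjoin_induction with
  | mem x hx => exact hs x hx
  | algebraMap r => exact commonRes_algebraMap P Q r
  | add x y _ _ hx hy => exact commonRes_add hx hy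
  | mul x y _ _ hx hy => exact commonRes_mul hx hy

theorem commonRes_val_eq_one {P Q : Place k K} {u : K} (h : CommonRes P Q u) (hu : P.1 u = 1) :
    Q.1 u = 1 := by
  obtain ⟨c, hP, hQ⟩ := h
  have hc : c ≠ 0 := by
    intro hc
    have h1 := (val_lt_one_iff_of_sub_lt P hP).mpr hc
    rw [hu] at h1
    exact lt_irrefl _ h1
  exact val_eq_one_of_sub_lt Q hc hQ

theorem commonRes_val_lt_one_iff {P Q : Place k K} {u : K} (h : CommonRes P Q u) :
    Q.1 u < 1 ↔ P.1 u < 1 := by
  obtain ⟨c, hP, hQ⟩ := h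
  rw [val_lt_one_iff_of_sub_lt P hP, val_lt_one_iff_of_sub_lt Q hQ]

theorem commonRes_val_le_one {P Q : Place k K} {u : K} (h : CommonRes P Q u) : Q.1 u ≤ 1 := by
  obtain ⟨c, _, hQ⟩ := h
  exact val_le_one_of_sub_lt Q hQ

theorem val_div_le_one (P : Place k K) {a b : K} (hb : b ≠ 0) (h : P.1 a ≤ P.1 b) :
    P.1 (a / b) ≤ 1 := by
  rw [map_div₀]
  exact div_le_one_of_le₀ h zero_le

theorem val_le_of_val_div_le_one (P : Place k K) {a b : K} (hb : b ≠ 0) (h : P.1 (a / b) ≤ 1) :
    P.1 a ≤ P.1 b := by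
  rw [map_div₀] at h
  have hpos : 0 < P.1 b := zero_lt_iff.mpr ((P.1.ne_zero_iff).mpr hb)
  exact (div_le_one₀ hpos).mp h

/-- S11078. -/
theorem sameImage_iff [IsAlgClosed k] (hK : IsFunctionField k K) {n : ℕ}
    (φ : Fin (n + 1) → K) (hφ : LinearIndependent k φ) (P Q : Place k K) :
    SameImage φ P Q ↔
      ∀ z : K, InLocRing φ P z → (Q.1 z ≤ 1 ∧ (Q.1 z < 1 ↔ P.1 z < 1)) := by
  constructor
  · rintro ⟨j, hj0, hjP, hjQ, hc⟩ z ⟨j', hj'0, hj'P, u, hu, w, hw, hw1, hzw⟩
    have hgen : ∀ i, CommonRes P Q (φ i / φ j) := fun i => hc i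
    -- φ j' / φ j is a unit at `P`
    have hjj' : P.1 (φ j' / φ j) = 1 := by
      rw [map_div₀, le_antisymm (hjP j') (hj'P j)]
      exact div_self ((P.1.ne_zero_iff).mpr hj0)
    have hgen' : ∀ u ∈ Set.range (fun i => φ i / φ j'), CommonRes P Q u := by
      rintro _ ⟨i, rfl⟩
      have e : φ i / φ j' = (φ i / φ j) * (φ j' / φ j)⁻¹ := by
        field_simp
      show CommonRes P Q (φ i / φ j')
      rw [e]
      exact commonRes_mul (hgen i) (commonRes_inv (hgen j') hjj')
    have hu' := commonRes_of_mem_adjoin hgen' hu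
    have hw' := commonRes_of_mem_adjoin hgen' hw
    have hwQ : Q.1 w = 1 := commonRes_val_eq_one hw' hw1
    have hzP : P.1 z = P.1 u := by rw [← hzw, map_mul, hw1, mul_one]
    have hzQ : Q.1 z = Q.1 u := by rw [← hzw, map_mul, hwQ, mul_one]
    rw [hzP, hzQ]
    exact ⟨commonRes_val_le_one hu', commonRes_val_lt_one_iff hu'⟩
  · intro H
    obtain ⟨j, _, hj⟩ := Finset.exists_max_image Finset.univ (fun i => P.1 (φ i))
      ⟨0, Finset.mem_univ 0⟩
    have hjP : ∀ i, P.1 (φ i) ≤ P.1 (φ j) := fun i => hj i (Finset.mem_univ i)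
    have hj0 : φ j ≠ 0 := hφ.ne_zero j
    have hloc : ∀ i (c : k), InLocRing φ P (φ i / φ j - algebraMap k K c) := fun i c =>
      ⟨j, hj0, hjP, φ i / φ j - algebraMap k K c,
        sub_mem (Algebra.subset_adjoin ⟨i, rfl⟩) (Subalgebra.algebraMap_mem _ c), 1,
        one_mem _, map_one _, mul_one _⟩
    refine ⟨j, hj0, hjP, fun i => ?_, fun i => ?_⟩
    · have h1 := (H _ (hloc i 0)).1
      rw [map_zero, sub_zero] at h1
      exact val_le_of_val_div_le_one Q hj0 h1
    · obtain ⟨c, hc⟩ := exists_sub_algebraMap_lt_one hK P (val_div_le_one P hj0 (hjP i))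
      exact ⟨c, hc, (H _ (hloc i c)).2.mpr hc⟩

theorem val_le_one_of_mem_adjoin (P : Place k K) {s : Set K} (hs : ∀ u ∈ s, P.1 u ≤ 1) {u : K}
    (hu : u ∈ Algebra.adjoin k s) : P.1 u ≤ 1 := by
  induction hu using Algebra.adjoin_induction with
  | mem x hx => exact hs x hx
  | algebraMap r => exact P.2.1 r
  | add x y _ _ hx hy => exact (P.1.map_add _ _).trans (max_le hx hy)
  | mul x y _ _ hx hy =>
    rw [map_mul]
    exact mul_le_one' hx hy

theorem val_le_of_mem_span (P : Place k K) {s : Set K} {γ : ℤᵐ⁰} (hs : ∀ u ∈ s, P.1 u ≤ γ) {u : K}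
    (hu : u ∈ Submodule.span k s) : P.1 u ≤ γ := by
  induction hu using Submodule.span_induction with
  | mem x hx => exact hs x hx
  | zero => rw [map_zero]; exact zero_le
  | add x y _ _ hx hy => exact (P.1.map_add _ _).trans (max_le hx hy)
  | smul c x _ hx =>
    rw [Algebra.smul_def, map_mul]
    calc P.1 (algebraMap k K c) * P.1 x ≤ 1 * P.1 x := mul_le_mul_left (P.2.1 c) _
      _ = P.1 x := one_mul _
      _ ≤ γ := hx

theorem taylor_one (P : Place k K) {ι : Type*} (y : ι → K) (hy : ∀ i, P.1 (y i) < 1) (c₀ : ι → k)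
    {u : K} (hu : u ∈ Algebra.adjoin k (Set.range fun i => y i + algebraMap k K (c₀ i))) :
    ∃ c : k, ∃ l ∈ Submodule.span k (Set.range y),
      P.1 (u - algebraMap k K c - l) ≤ exp (-2 : ℤ) := by
  have hspan : ∀ l ∈ Submodule.span k (Set.range y), P.1 l ≤ exp (-1 : ℤ) := fun l hl =>
    val_le_of_mem_span P (by
      rintro _ ⟨i, rfl⟩
      exact (lt_one_iff_le_exp_neg_one _).mp (hy i)) hl
  have hgen1 : ∀ u ∈ Set.range (fun i => y i + algebraMap k K (c₀ i)), P.1 u ≤ 1 := by
    rintro _ ⟨i, rfl⟩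
    exact (P.1.map_add _ _).trans (max_le (hy i).le (P.2.1 _))
  have h12 : exp (-2 : ℤ) ≤ (1 : ℤᵐ⁰) := by
    rw [← exp_zero, exp_le_exp]
    norm_num
  have h11 : exp (-1 : ℤ) ≤ (1 : ℤᵐ⁰) := exp_neg_one_lt_one.le
  induction hu using Algebra.adjoin_induction with
  | mem x hx =>
    obtain ⟨i, rfl⟩ := hx
    refine ⟨c₀ i, y i, Submodule.subset_span ⟨i, rfl⟩, ?_⟩
    have e : y i + algebraMap k K (c₀ i) - algebraMap k K (c₀ i) - y i = 0 := by ring
    rw [e, map_zero]
    exact zero_le
  | algebraMap r =>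
    refine ⟨r, 0, Submodule.zero_mem _, ?_⟩
    rw [sub_self, sub_zero, map_zero]
    exact zero_le
  | add x x' hx hx' ih ih' =>
    obtain ⟨c, l, hl, hε⟩ := ih
    obtain ⟨c', l', hl', hε'⟩ := ih'
    refine ⟨c + c', l + l', Submodule.add_mem _ hl hl', ?_⟩
    have e : x + x' - algebraMap k K (c + c') - (l + l') =
        (x - algebraMap k K c - l) + (x' - algebraMap k K c' - l') := by
      rw [map_add]; ring
    rw [e]
    exact (P.1.map_add _ _).trans (max_le hε hε')
  | mul x x' hx hx' ih ih' =>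
    obtain ⟨c, l, hl, hε⟩ := ih
    obtain ⟨c', l', hl', hε'⟩ := ih'
    have hx'1 : P.1 x' ≤ 1 := val_le_one_of_mem_adjoin P hgen1 hx'
    refine ⟨c * c', c • l' + c' • l,
      Submodule.add_mem _ (Submodule.smul_mem _ _ hl') (Submodule.smul_mem _ _ hl), ?_⟩
    have e : x * x' - algebraMap k K (c * c') - (c • l' + c' • l) =
        l * l' + ((x - algebraMap k K c - l) * x' +
          (algebraMap k K c + l) * (x' - algebraMap k K c' - l')) := by
      rw [map_mul, Algebra.smul_def, Algebra.smul_def]; ring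
    rw [e]
    refine (P.1.map_add _ _).trans (max_le ?_ ((P.1.map_add _ _).trans (max_le ?_ ?_)))
    · rw [map_mul]
      calc P.1 l * P.1 l' ≤ exp (-1 : ℤ) * exp (-1 : ℤ) := mul_le_mul' (hspan l hl) (hspan l' hl')
        _ = exp (-2 : ℤ) := by rw [← exp_add]; norm_num
    · rw [map_mul]
      calc P.1 (x - algebraMap k K c - l) * P.1 x' ≤ exp (-2 : ℤ) * 1 := mul_le_mul' hε hx'1
        _ = exp (-2 : ℤ) := mul_one _
    · rw [map_mul]
      have h5 : P.1 (algebraMap k K c + l) ≤ 1 :=
        (P.1.map_add _ _).trans (max_le (P.2.1 c) ((hspan l hl).trans h11))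
      calc P.1 (algebraMap k K c + l) * P.1 (x' - algebraMap k K c' - l') ≤
            1 * exp (-2 : ℤ) := mul_le_mul' h5 hε'
        _ = exp (-2 : ℤ) := one_mul _

/-- S11066. -/
theorem exists_uniformizer_inLocRing_iff [IsAlgClosed k] (hK : IsFunctionField k K) {n : ℕ}
    (φ : Fin (n + 1) → K) (P : Place k K) (heff : (1 : K) ∈ Submodule.span k (Set.range φ))
    (hnorm : ∀ i, P.1 (φ i) ≤ 1) :
    (∃ t : K, InLocRing φ P t ∧ P.1 t = exp (-1 : ℤ)) ↔
      ∃ t ∈ Submodule.span k (Set.range φ), P.1 t = exp (-1 : ℤ) := by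
  -- some entry is a unit
  have hunit : ∃ j₀, P.1 (φ j₀) = 1 := by
    by_contra hno
    push Not at hno
    have hlt : ∀ i, P.1 (φ i) ≤ exp (-1 : ℤ) := fun i =>
      (lt_one_iff_le_exp_neg_one _).mp (lt_of_le_of_ne (hnorm i) (hno i))
    have h1 := val_le_of_mem_span P (s := Set.range φ) (γ := exp (-1 : ℤ)) (by
      rintro _ ⟨i, rfl⟩
      exact hlt i) heff
    rw [map_one] at h1
    exact absurd h1 (not_le.mpr exp_neg_one_lt_one)
  obtain ⟨j₀, hj₀⟩ := hunit
  have hleast : ∀ j, (∀ i, P.1 (φ i) ≤ P.1 (φ j)) → P.1 (φ j) = 1 := fun j hj =>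
    le_antisymm (hnorm j) (by have h5 := hj j₀; rwa [hj₀] at h5)
  constructor
  · rintro ⟨t, ⟨j, hj0, hjP, u, hu, w, hw, hw1, htw⟩, ht⟩
    have hφj : P.1 (φ j) = 1 := hleast j hjP
    have hvu : P.1 u = exp (-1 : ℤ) := by rw [← htw, map_mul, hw1, mul_one, ht]
    -- residues of the ratios
    have hr : ∀ i, ∃ c : k, P.1 (φ i / φ j - algebraMap k K c) < 1 := fun i =>
      exists_sub_algebraMap_lt_one hK P (val_div_le_one P hj0 (hjP i))
    choose c₀ hc₀ using hr
    have hset : (Set.range fun i => φ i / φ j) =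
        Set.range fun i => (φ i / φ j - algebraMap k K (c₀ i)) + algebraMap k K (c₀ i) := by
      congr 1
      ext i
      ring
    rw [hset] at hu
    obtain ⟨c, l, hl, hε⟩ := taylor_one P (fun i => φ i / φ j - algebraMap k K (c₀ i)) hc₀ c₀ hu
    have hl1 : P.1 l ≤ exp (-1 : ℤ) := val_le_of_mem_span P (by
      rintro _ ⟨i, rfl⟩
      exact (lt_one_iff_le_exp_neg_one _).mp (hc₀ i)) hl
    have h21 : exp (-2 : ℤ) < exp (-1 : ℤ) := by
      rw [exp_lt_exp]
      norm_num
    have hc : c = 0 := by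
      by_contra hc
      have h1 : P.1 (u - algebraMap k K c) < 1 := by
        have e : u - algebraMap k K c = (u - algebraMap k K c - l) + l := by ring
        rw [e]
        exact (P.1.map_add _ _).trans_lt (max_lt
          (hε.trans_lt (h21.trans exp_neg_one_lt_one)) (hl1.trans_lt exp_neg_one_lt_one))
      have h2 := val_eq_one_of_sub_lt P hc h1
      rw [hvu] at h2
      exact absurd h2 (ne_of_lt exp_neg_one_lt_one)
    rw [hc, map_zero, sub_zero] at hε
    have hvl : P.1 l = exp (-1 : ℤ) := by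
      have e : l = u - (u - l) := by ring
      rw [e, Valuation.map_sub_eq_of_lt_left _ (by rw [hvu]; exact hε.trans_lt h21), hvu]
    refine ⟨l * φ j, ?_, by rw [map_mul, hvl, hφj, mul_one]⟩
    -- `l * φ j` lies in the span of `φ`
    have hmem : ∀ l' ∈ Submodule.span k
        (Set.range fun i => φ i / φ j - algebraMap k K (c₀ i)),
        l' * φ j ∈ Submodule.span k (Set.range φ) := by
      intro l' hl'
      induction hl' using Submodule.span_induction with
      | mem x hx =>
        obtain ⟨i, rfl⟩ := hx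
        have e : (φ i / φ j - algebraMap k K (c₀ i)) * φ j = φ i - c₀ i • φ j := by
          rw [Algebra.smul_def]
          field_simp
        rw [e]
        exact Submodule.sub_mem _ (Submodule.subset_span ⟨i, rfl⟩)
          (Submodule.smul_mem _ _ (Submodule.subset_span ⟨j, rfl⟩))
      | zero => rw [zero_mul]; exact Submodule.zero_mem _
      | add x x' _ _ hx hx' => rw [add_mul]; exact Submodule.add_mem _ hx hx'
      | smul a x _ hx => rw [smul_mul_assoc]; exact Submodule.smul_mem _ _ hx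
    exact hmem l hl
  · rintro ⟨t, ht, hvt⟩
    have hj0 : φ j₀ ≠ 0 := by
      intro h0
      rw [h0, map_zero] at hj₀
      exact zero_ne_one hj₀
    have hjP : ∀ i, P.1 (φ i) ≤ P.1 (φ j₀) := fun i => by rw [hj₀]; exact hnorm i
    have hmem : ∀ x ∈ Submodule.span k (Set.range φ),
        x / φ j₀ ∈ Algebra.adjoin k (Set.range fun i => φ i / φ j₀) := by
      intro x hx
      induction hx using Submodule.span_induction with
      | mem x hx =>
        obtain ⟨i, rfl⟩ := hx
        exact Algebra.subset_adjoin ⟨i, rfl⟩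
      | zero => rw [zero_div]; exact zero_mem _
      | add x x' _ _ hx hx' => rw [add_div]; exact add_mem hx hx'
      | smul a x _ hx => rw [smul_div_assoc]; exact Subalgebra.smul_mem _ hx a
    refine ⟨t / φ j₀, ⟨j₀, hj0, hjP, t / φ j₀, hmem t ht, 1, one_mem _, map_one _, mul_one _⟩, ?_⟩
    rw [map_div₀, hj₀, div_one, hvt]

theorem finite_zeros' (hK : IsFunctionField k K) {x : K} (hx : x ≠ 0) :
    {P : Place k K | P.1 x < 1}.Finite := by
  by_cases hxt : Transcendental k x
  · exact finite_zeros hK hxt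
  · have halg : IsAlgebraic k x := by
      by_contra h
      exact hxt h
    obtain ⟨c, rfl⟩ := hK.2 x halg
    have hc : c ≠ 0 := by
      rintro rfl
      exact hx (map_zero _)
    convert Set.finite_empty
    ext P
    simp only [Set.mem_ofPred_eq, Set.mem_empty_iff_false, iff_false, not_lt]
    rw [P.val_algebraMap hc]

theorem aeval_mul_of_isHomogeneous {ι : Type*} {g : MvPolynomial ι k} {d : ℕ}
    (hg : g.IsHomogeneous d) (c : K) (f : ι → K) :
    MvPolynomial.aeval (fun i => c * f i) g = c ^ d * MvPolynomial.aeval f g := by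
  rw [MvPolynomial.aeval_def, MvPolynomial.aeval_def, MvPolynomial.eval₂_eq,
    MvPolynomial.eval₂_eq, Finset.mul_sum]
  apply Finset.sum_congr rfl
  intro m hm
  have hdeg := hg.degree_eq_sum_deg_support hm
  simp only [mul_pow, Finset.prod_mul_distrib, Finset.prod_pow_eq_pow_sum, ← hdeg]
  ring

/-- S11075. -/
theorem finite_zeroPlaces_and_fibre [IsAlgClosed k] (hK : IsFunctionField k K) {n : ℕ}
    (hn : 1 ≤ n) (φ : Fin (n + 1) → K) (hφ : LinearIndependent k φ) :
    (∀ g : MvPolynomial (Fin (n + 1)) k, g.IsHomogeneous g.totalDegree →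
      MvPolynomial.aeval φ g ≠ 0 →
        {P : Place k K | ∃ j, φ j ≠ 0 ∧ (∀ i, P.1 (φ i) ≤ P.1 (φ j)) ∧
          P.1 (MvPolynomial.aeval (fun i => φ i / φ j) g) < 1}.Finite) ∧
    ∀ P : Place k K, {Q : Place k K | SameImage φ P Q}.Finite := by
  constructor
  · intro g hg hne
    have hsub : {P : Place k K | ∃ j, φ j ≠ 0 ∧ (∀ i, P.1 (φ i) ≤ P.1 (φ j)) ∧
          P.1 (MvPolynomial.aeval (fun i => φ i / φ j) g) < 1} ⊆
        ⋃ j : Fin (n + 1), {P : Place k K |
          P.1 ((φ j)⁻¹ ^ g.totalDegree * MvPolynomial.aeval φ g) < 1} := by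
      rintro P ⟨j, hj0, _, hP⟩
      rw [Set.mem_iUnion]
      refine ⟨j, ?_⟩
      have e : (fun i => φ i / φ j) = fun i => (φ j)⁻¹ * φ i := by
        ext i
        rw [div_eq_inv_mul]
      rw [e, aeval_mul_of_isHomogeneous hg] at hP
      exact hP
    refine (Set.finite_iUnion fun j => ?_).subset hsub
    apply finite_zeros' hK
    exact mul_ne_zero (pow_ne_zero _ (inv_ne_zero (hφ.ne_zero j))) hne
  · intro P
    -- an index different from `j`
    have hother : ∀ j : Fin (n + 1), ∃ i : Fin (n + 1), i ≠ j := by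
      intro j
      by_cases hj : j = 0
      · refine ⟨⟨1, by omega⟩, ?_⟩
        rw [hj]
        intro h
        have := congrArg Fin.val h
        simp at this
      · exact ⟨0, fun h => hj h.symm⟩
    have hnc : ∀ i j : Fin (n + 1), i ≠ j → ∀ c : k, φ i / φ j - algebraMap k K c ≠ 0 := by
      intro i j hij c h0
      have hj0 : φ j ≠ 0 := hφ.ne_zero j
      have h1 : φ i = c • φ j := by
        rw [Algebra.smul_def]
        have h2 := sub_eq_zero.mp h0
        field_simp at h2
        rw [h2]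
        ring
      have h2 := Fintype.linearIndependent_iff.mp hφ
        (fun l => (if l = i then (1 : k) else 0) - (if l = j then c else 0)) (by
          simp only [sub_smul, Finset.sum_sub_distrib, ite_smul, one_smul, zero_smul,
            Finset.sum_ite_eq', Finset.mem_univ, if_true]
          rw [h1, sub_self]) i
      simp only [if_true, if_neg hij] at h2
      rw [sub_zero] at h2
      exact one_ne_zero h2
    have hsub : {Q : Place k K | SameImage φ P Q} ⊆
        ⋃ j : Fin (n + 1), ⋃ i : Fin (n + 1), {Q : Place k K | i ≠ j ∧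
          ∃ c : k, P.1 (φ i / φ j - algebraMap k K c) < 1 ∧
            Q.1 (φ i / φ j - algebraMap k K c) < 1} := by
      rintro Q ⟨j, _, _, _, hc⟩
      obtain ⟨i, hij⟩ := hother j
      rw [Set.mem_iUnion]
      refine ⟨j, ?_⟩
      rw [Set.mem_iUnion]
      exact ⟨i, hij, hc i⟩
    refine (Set.finite_iUnion fun j => Set.finite_iUnion fun i => ?_).subset hsub
    by_cases hne : ({Q : Place k K | i ≠ j ∧
          ∃ c : k, P.1 (φ i / φ j - algebraMap k K c) < 1 ∧
            Q.1 (φ i / φ j - algebraMap k K c) < 1}).Nonempty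
    · obtain ⟨Q₀, hij, c₀, hc₀P, _⟩ := hne
      refine (finite_zeros' hK (hnc i j hij c₀)).subset ?_
      rintro Q ⟨_, c, hcP, hcQ⟩
      have hcc : c = c₀ := by
        by_contra hcc
        have h1 : P.1 (algebraMap k K (c₀ - c)) = 1 :=
          P.val_algebraMap (sub_ne_zero.mpr (Ne.symm hcc))
        have e : algebraMap k K (c₀ - c) =
            (φ i / φ j - algebraMap k K c) - (φ i / φ j - algebraMap k K c₀) := by
          rw [map_sub]; ring
        rw [e] at h1
        have h2 := (P.1.map_sub _ _).trans_lt (max_lt hcP hc₀P)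
        rw [h1] at h2
        exact lt_irrefl _ h2
      rw [hcc] at hcQ
      exact hcQ
    · rw [Set.not_nonempty_iff_eq_empty] at hne
      rw [hne]
      exact Set.finite_empty

end FunFld
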