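import Mathlib
import Groth.Agent.Lib.FunFldO_helper2

/-! Function fields of one variable, part P (helper2): the canonical embedding. -/

open WithZero Polynomial IntermediateField

namespace FunFld

variable {k K : Type*} [Field k] [Field K] [Algebra k K]

theorem exists_mem_L_ord_eq' [IsAlgClosed k] (hK : IsFunctionField k K) {G : Divisor k K}
    (hG : ∀ Q : Place k K, ell (G - Finsupp.single Q 1) < ell G) (Z : Finset (Place k K)) :
    ∃ s ∈ L G, s ≠ 0 ∧ ∀ Q ∈ Z, Q.ord s = -G Q := by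
  classical
  obtain ⟨Q₀⟩ := exists_place hK
  have hne : ∀ Q : ↥(insert Q₀ Z),
      Submodule.comap (L G).subtype (L (G - Finsupp.single (Q : Place k K) 1)) ≠ ⊤ := by
    intro Q htop
    have hle : L G ≤ L (G - Finsupp.single (Q : Place k K) 1) := fun x hx => by
      have h3 : (⟨x, hx⟩ : L G) ∈
          Submodule.comap (L G).subtype (L (G - Finsupp.single (Q : Place k K) 1)) := by
        rw [htop]
        trivial
      exact h3
    haveI := finiteDimensional_L hK (G - Finsupp.single (Q : Place k K) 1)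
    have h3 := LinearMap.finrank_le_finrank_of_injective (Submodule.inclusion_injective hle)
    have h4 := hG Q
    unfold ell at h4
    omega
  obtain ⟨x, hx⟩ := Submodule.exists_forall_notMem_of_forall_ne_top _ hne
  refine ⟨x.1, x.2, ?_, fun Q hQ => ?_⟩
  · exact (ord_eq_of_mem_L_not_mem x.2 (hx ⟨Q₀, Finset.mem_insert_self _ _⟩)).1
  · exact (ord_eq_of_mem_L_not_mem x.2 (hx ⟨Q, Finset.mem_insert_of_mem hQ⟩)).2

/-- General form of the local-ring computation via two base-point-free pencils. -/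
theorem locRing_of_pencils [IsAlgClosed k] (hK : IsFunctionField k K) (D' : Divisor k K)
    (hD'nn : 0 ≤ D') (hd1 : 1 ≤ Divisor.deg D') (P : Place k K) (hP : D' P = 0)
    (m₀ : ℕ) (hm₀ : 1 ≤ m₀)
    (H1 : ∀ Q : Place k K, ell (D' - Finsupp.single Q 1) < ell D')
    (H2 : ∀ Q : Place k K, ell (D' - Finsupp.single P 1 - Finsupp.single Q 1) <
      ell (D' - Finsupp.single P 1))
    (H3 : ∀ m : ℕ, m₀ ≤ m →
      (ell ((m + 1) • D') : ℤ) = 2 * ell (m • D') - ell ((m - 1) • D'))
    (H4 : (ell (m₀ • D' + (D' - Finsupp.single P 1)) : ℤ) =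
      2 * ell (m₀ • D') - ell (m₀ • D' - (D' - Finsupp.single P 1)))
    (z : K) (hz : P.1 z ≤ 1) :
    ∃ u ∈ Algebra.adjoin k (L D' : Set K), ∃ w ∈ Algebra.adjoin k (L D' : Set K),
      P.1 w = 1 ∧ z * w = u := by
  classical
  have hdegn : ∀ m : ℕ, Divisor.deg (m • D') = m * Divisor.deg D' := fun m => deg_nsmul m D'
  have hg0 : (0 : ℤ) ≤ genus k K := Int.natCast_nonneg _
  -- (I) first pencil
  obtain ⟨s₂, hs₂L, hs₂0, hs₂⟩ := exists_mem_L_ord_eq' hK (G := D') H1 D'.support
  have h1L : (1 : K) ∈ L D' := L_mono hD'nn (by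
    rw [L_zero_eq_one hK]
    exact Submodule.one_le.mp le_rfl)
  have hbpf1 : ∀ Q : Place k K, Q.ord (1 : K) = -D' Q ∨ Q.ord s₂ = -D' Q := fun Q => by
    by_cases hQ : Q ∈ D'.support
    · exact Or.inr (hs₂ Q hQ)
    · left
      rw [ord_one, Finsupp.notMem_support_iff.mp hQ, neg_zero]
  have hstep1 : ∀ m : ℕ, m₀ ≤ m → ∀ r ∈ L ((m + 1) • D'),
      ∃ a ∈ L (m • D'), ∃ b ∈ L (m • D'), r = 1 * a + s₂ * b := by
    intro m hm r hr
    have e1 : (m + 1) • D' = m • D' + D' := succ_nsmul D' m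
    rw [e1] at hr
    refine pencil hK h1L hs₂L one_ne_zero hs₂0 hbpf1 ?_ hr
    have e2 : m • D' - D' = (m - 1) • D' := by
      obtain ⟨m', rfl⟩ : ∃ m', m = m' + 1 := ⟨m - 1, by omega⟩
      rw [succ_nsmul, add_sub_cancel_right, Nat.add_sub_cancel]
    rw [e2, ← e1]
    exact H3 m hm
  -- (II) second pencil
  obtain ⟨G', hG'⟩ : ∃ G' : Divisor k K, G' = D' - Finsupp.single P 1 := ⟨_, rfl⟩
  have hG'le : G' ≤ D' := by
    rw [hG']
    exact sub_le_self _ (Finsupp.single_nonneg.mpr zero_le_one)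
  have H2' : ∀ Q : Place k K, ell (G' - Finsupp.single Q 1) < ell G' := by
    intro Q
    rw [hG']
    exact H2 Q
  obtain ⟨t₁, ht₁L, ht₁0, _⟩ := exists_mem_L_ord_eq' hK (G := G') H2' ∅
  obtain ⟨t₂, ht₂L, ht₂0, ht₂⟩ := exists_mem_L_ord_eq' hK (G := G') H2' (div k t₁ + G').support
  have hbpf2 : ∀ Q : Place k K, Q.ord t₁ = -G' Q ∨ Q.ord t₂ = -G' Q := fun Q => by
    by_cases hQ : Q ∈ (div k t₁ + G').support
    · exact Or.inr (ht₂ Q hQ)
    · left
      have h3 := Finsupp.notMem_support_iff.mp hQ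
      rw [Finsupp.add_apply, div_apply hK] at h3
      omega
  have hstep2 : ∀ r ∈ L (m₀ • D' - Finsupp.single P 1),
      ∃ a ∈ L (m₀ • D'), ∃ b ∈ L (m₀ • D'), r = t₁ * a + t₂ * b := by
    intro r hr
    have hr' : r ∈ L (m₀ • D' + G') := L_mono (by
      rw [hG']
      have e : m₀ • D' + (D' - Finsupp.single P 1) = (m₀ • D' - Finsupp.single P 1) + D' := by
        abel
      rw [e]
      exact le_add_of_nonneg_right hD'nn) hr
    refine pencil hK ht₁L ht₂L ht₁0 ht₂0 hbpf2 ?_ hr'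
    rw [hG']
    exact H4
  -- (III) the algebra and the module
  obtain ⟨A, hA⟩ : ∃ A : Subalgebra k K, A = Algebra.adjoin k (L D' : Set K) := ⟨_, rfl⟩
  have hLA : ∀ x ∈ L D', x ∈ A := fun x hx => by
    rw [hA]
    exact Algebra.subset_adjoin hx
  have hAval : ∀ a ∈ A, P.1 a ≤ 1 := fun a ha => by
    rw [hA] at ha
    exact val_le_one_of_mem_adjoin P (fun u hu => by
      have h3 := (mem_L.mp hu) P
      rwa [hP, exp_zero] at h3) ha
  haveI := finiteDimensional_L hK (m₀ • D')
  obtain ⟨b, hb⟩ : ∃ b : Finset K, Submodule.span k (b : Set K) = L (m₀ • D') :=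
    (Submodule.fg_iff_finiteDimensional _).mpr inferInstance
  obtain ⟨M, hM⟩ : ∃ M : Submodule A K, M = Submodule.span A (b : Set K) := ⟨_, rfl⟩
  have hL2M : ∀ x ∈ L (m₀ • D'), x ∈ M := fun x hx => by
    rw [← hb] at hx
    rw [hM]
    exact Submodule.span_le_restrictScalars k A (b : Set K) hx
  have hmono : ∀ m₁ m₂ : ℕ, m₁ ≤ m₂ → L (m₁ • D') ≤ L (m₂ • D') := fun m₁ m₂ h => L_mono (by
    obtain ⟨c, rfl⟩ := Nat.exists_eq_add_of_le h
    rw [add_nsmul]
    exact le_add_of_nonneg_right (nsmul_nonneg hD'nn c))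
  have hs₂A : s₂ ∈ A := hLA s₂ hs₂L
  have hLM : ∀ m : ℕ, ∀ x ∈ L (m • D'), x ∈ M := by
    intro m
    induction m with
    | zero =>
      intro x hx
      exact hL2M x (hmono 0 m₀ (by omega) hx)
    | succ m ih =>
      intro x hx
      by_cases hm : m₀ ≤ m
      · obtain ⟨a, ha, b', hb', rfl⟩ := hstep1 m hm x hx
        rw [one_mul]
        refine M.add_mem (ih a ha) ?_
        have e : s₂ * b' = (⟨s₂, hs₂A⟩ : A) • b' := rfl
        rw [e]
        exact M.smul_mem _ (ih b' hb')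
      · exact hL2M x (hmono (m + 1) m₀ (by omega) hx)
  -- (IV) Nakayama
  obtain ⟨I, hI⟩ : ∃ I : Ideal A, I = Ideal.span {a : A | (a : K) ∈ L G'} := ⟨_, rfl⟩
  have hIval : ∀ a ∈ I, P.1 (a : K) < 1 := by
    intro a ha
    rw [hI] at ha
    induction ha using Submodule.span_induction with
    | mem x hx =>
      have h3 := (mem_L.mp hx) P
      rw [hG', Finsupp.sub_apply, hP, Finsupp.single_eq_same, zero_sub] at h3
      exact (lt_one_iff_le_exp_neg_one _).mpr h3
    | zero =>
      show P.1 ((0 : A) : K) < 1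
      rw [ZeroMemClass.coe_zero, map_zero]
      exact zero_lt_one
    | add x y _ _ hx hy =>
      show P.1 ((x : K) + (y : K)) < 1
      exact (P.1.map_add _ _).trans_lt (max_lt hx hy)
    | smul c x _ hx =>
      show P.1 ((c : K) * (x : K)) < 1
      rw [map_mul]
      exact mul_lt_one_of_nonneg_of_lt_one_right (hAval c c.2) zero_le hx
  obtain ⟨A₁, hA₁⟩ : ∃ A₁ : Submodule A K, A₁ = Submodule.span A {(1 : K)} := ⟨_, rfl⟩
  have hA₁mem : ∀ x : K, x ∈ A₁ ↔ x ∈ A := by
    intro x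
    rw [hA₁, Submodule.mem_span_singleton]
    constructor
    · rintro ⟨a, rfl⟩
      show (a : K) * 1 ∈ A
      rw [mul_one]
      exact a.2
    · intro hx
      exact ⟨⟨x, hx⟩, mul_one x⟩
  have hNfg : (M.map A₁.mkQ).FG := by
    rw [hM]
    exact (Submodule.fg_span (Finset.finite_toSet b)).map _
  have ht₁A : t₁ ∈ A := hLA t₁ (L_mono hG'le ht₁L)
  have ht₂A : t₂ ∈ A := hLA t₂ (L_mono hG'le ht₂L)
  have ht₁I : (⟨t₁, ht₁A⟩ : A) ∈ I := by
    rw [hI]
    exact Ideal.subset_span ht₁L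
  have ht₂I : (⟨t₂, ht₂A⟩ : A) ∈ I := by
    rw [hI]
    exact Ideal.subset_span ht₂L
  have hin : M.map A₁.mkQ ≤ I • M.map A₁.mkQ := by
    have hgen : ∀ r ∈ (b : Set K), A₁.mkQ r ∈ I • M.map A₁.mkQ := by
      intro r hr
      have hrL : r ∈ L (m₀ • D') := by
        rw [← hb]
        exact Submodule.subset_span hr
      have hrP : P.1 r ≤ 1 := by
        have h3 := (mem_L.mp hrL) P
        rwa [Finsupp.smul_apply, hP, smul_zero, exp_zero] at h3
      obtain ⟨c, hc⟩ := exists_sub_algebraMap_lt_one hK P hrP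
      have hcL : algebraMap k K c ∈ L (m₀ • D') := L_mono (nsmul_nonneg hD'nn m₀) (by
        rw [L_zero_eq_one hK]
        exact Submodule.algebraMap_mem c)
      have hrc : r - algebraMap k K c ∈ L (m₀ • D' - Finsupp.single P 1) := by
        rw [mem_L]
        intro Q
        by_cases hQ : Q = P
        · rw [hQ, Finsupp.sub_apply, Finsupp.smul_apply, hP, smul_zero, Finsupp.single_eq_same,
            zero_sub]
          exact (lt_one_iff_le_exp_neg_one _).mp hc
        · rw [Finsupp.sub_apply, Finsupp.single_eq_of_ne hQ, sub_zero]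
          exact (mem_L.mp (Submodule.sub_mem _ hrL hcL)) Q
      obtain ⟨a, ha, b', hb', hab⟩ := hstep2 _ hrc
      have e : A₁.mkQ r = (⟨t₁, ht₁A⟩ : A) • A₁.mkQ a + (⟨t₂, ht₂A⟩ : A) • A₁.mkQ b' := by
        rw [← map_smul, ← map_smul, ← map_add, ← sub_eq_zero, ← map_sub, Submodule.mkQ_apply,
          Submodule.Quotient.mk_eq_zero, hA₁mem]
        have e2 : r - ((⟨t₁, ht₁A⟩ : A) • a + (⟨t₂, ht₂A⟩ : A) • b') = algebraMap k K c := by
          show r - (t₁ * a + t₂ * b') = _
          rw [← hab]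
          ring
        rw [e2]
        exact A.algebraMap_mem c
      rw [e]
      exact Submodule.add_mem _
        (Submodule.smul_mem_smul ht₁I (Submodule.mem_map_of_mem (hLM m₀ a ha)))
        (Submodule.smul_mem_smul ht₂I (Submodule.mem_map_of_mem (hLM m₀ b' hb')))
    have e3 : M.map A₁.mkQ = Submodule.span A (A₁.mkQ '' (b : Set K)) := by
      rw [hM, Submodule.map_span]
    rw [e3, Submodule.span_le, ← e3]
    rintro _ ⟨r, hr, rfl⟩
    exact hgen r hr
  obtain ⟨α, hα1, hαN⟩ :=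
    Submodule.exists_sub_one_mem_and_smul_eq_zero_of_fg_of_le_smul I _ hNfg hin
  have hαM : ∀ x ∈ M, (α : K) * x ∈ A := by
    intro x hx
    have h3 := hαN _ (Submodule.mem_map_of_mem hx)
    rw [← map_smul, Submodule.mkQ_apply, Submodule.Quotient.mk_eq_zero, hA₁mem] at h3
    exact h3
  have hαval : P.1 (α : K) = 1 := by
    have h1 := hIval _ hα1
    have e : (α : K) = 1 + ((α - 1 : A) : K) := by
      push_cast
      ring
    rw [e, Valuation.map_add_eq_of_lt_left _ (by rw [map_one]; exact h1), map_one]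
  -- (V) conclusion
  by_cases hz0 : z = 0
  · exact ⟨0, zero_mem _, 1, one_mem _, map_one _, by rw [hz0, zero_mul]⟩
  obtain ⟨E, hE⟩ : ∃ E : Divisor k K, E = poleDiv k z := ⟨_, rfl⟩
  have hEnn : 0 ≤ E := by
    rw [hE]
    exact poleDiv_nonneg z
  have hEP : E P = 0 := by
    rw [hE, poleDiv_apply hK]
    have h3 := (P.ord_nonneg_iff hz0).mpr hz
    exact max_eq_right (by omega)
  obtain ⟨m, hm⟩ : ∃ m : ℕ, Divisor.deg E + 2 * genus k K ≤ m :=
    ⟨(Divisor.deg E + 2 * genus k K).toNat, Int.self_le_toNat _⟩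
  obtain ⟨X, hX⟩ : ∃ X : Divisor k K, X = m • D' - E := ⟨_, rfl⟩
  have hXP : X P = 0 := by
    rw [hX, Finsupp.sub_apply, Finsupp.smul_apply, hP, hEP, smul_zero, sub_zero]
  have hdegX : 2 * (genus k K : ℤ) ≤ Divisor.deg X := by
    rw [hX, deg_sub, hdegn]
    have hE0 := deg_nonneg_of_nonneg hEnn
    have hm0 : (0 : ℤ) ≤ m := Int.natCast_nonneg _
    nlinarith
  have hlt : ell (X - Finsupp.single P 1) < ell X := by
    have h3 := ell_sub_single_eq hK X hdegX P
    omega
  obtain ⟨w₀, hw₀L, hw₀n⟩ := exists_mem_L_not_mem hK hlt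
  obtain ⟨hw₀0, hw₀o⟩ := ord_eq_of_mem_L_not_mem hw₀L hw₀n
  have hw₀P : P.1 w₀ = 1 := by
    rw [hXP, neg_zero] at hw₀o
    exact (P.ord_eq_zero_iff hw₀0).mp hw₀o
  have hzw : z * w₀ ∈ L (m • D') := by
    have h3 := mul_mem_L (mem_L_poleDiv hK z) hw₀L
    rw [← hE, hX] at h3
    have e : E + (m • D' - E) = m • D' := by abel
    rwa [e] at h3
  have hw₀M : w₀ ∈ L (m • D') := L_mono (by
    rw [hX]
    exact sub_le_self _ hEnn) hw₀L
  refine ⟨α * (z * w₀), ?_, α * w₀, ?_, ?_, by ring⟩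
  · rw [← hA]
    exact hαM _ (hLM m _ hzw)
  · rw [← hA]
    exact hαM _ (hLM m _ hw₀M)
  · rw [map_mul, hαval, hw₀P, one_mul]

theorem ell_eq_one_of_deg_le_two (hK : IsFunctionField k K)
    (h2 : ∀ x : K, Transcendental k x → 2 < Module.finrank k⟮x⟯ K)
    {E : Divisor k K} (hE : 0 ≤ E) (hdeg : Divisor.deg E ≤ 2) : ell E = 1 := by
  have h1 : 1 ≤ ell E := by
    have h3 := ell_mono hK hE
    rwa [ell_zero hK] at h3
  by_contra hne
  have hlt : ell (0 : Divisor k K) < ell E := by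
    rw [ell_zero hK]
    omega
  obtain ⟨x, hxL, hxn⟩ := exists_mem_L_not_mem hK hlt
  have hx0 : x ≠ 0 := by
    rintro rfl
    exact hxn (Submodule.zero_mem _)
  have hxt : Transcendental k x := by
    intro halg
    obtain ⟨c, rfl⟩ := hK.2 x halg
    apply hxn
    rw [L_zero_eq_one hK]
    exact Submodule.algebraMap_mem c
  have hpole : poleDiv k x ≤ E := by
    intro Q
    rw [poleDiv_apply hK]
    have h3 := (Q.val_le_exp_iff hx0 _).mp ((mem_L.mp hxL) Q)
    exact max_le (by omega) (hE Q)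
  have h4 := deg_mono hpole
  rw [deg_poleDiv_eq hK hxt] at h4
  have h5 := h2 x hxt
  have h6 : (Module.finrank k⟮x⟯ K : ℤ) ≤ 2 := h4.trans hdeg
  omega

theorem two_le_genus_of_not_hyperelliptic [IsAlgClosed k] (hK : IsFunctionField k K)
    (h2 : ∀ x : K, Transcendental k x → 2 < Module.finrank k⟮x⟯ K) : 2 ≤ genus k K := by
  obtain ⟨P₀⟩ := exists_place hK
  have hP1 := Place.deg_eq_one hK P₀
  have h1 := delta_le_genus hK (Finsupp.single P₀ 2 : Divisor k K)
  rw [deg_single, hP1] at h1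
  have h3 := ell_eq_one_of_deg_le_two hK h2 (E := Finsupp.single P₀ 2)
    (Finsupp.single_nonneg.mpr (by norm_num)) (by rw [deg_single, hP1]; norm_num)
  rw [h3] at h1
  push_cast at h1
  omega

/-- S11057. -/
theorem isNonsingularAt_of_canonical [IsAlgClosed k] (hK : IsFunctionField k K)
    (h2 : ∀ x : K, Transcendental k x → 2 < Module.finrank k⟮x⟯ K)
    (D : Divisor k K) (hD : IsCanonical k K D) {n : ℕ} (φ : Fin (n + 1) → K)
    (hφ : LinearIndependent k φ) (hspan : Submodule.span k (Set.range φ) = L D)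
    (P : Place k K) : IsNonsingularAt φ P := by
  intro z hz
  have hg2 := two_le_genus_of_not_hyperelliptic hK h2
  have hg : 0 < genus k K := by omega
  have hg2' : (2 : ℤ) ≤ genus k K := by exact_mod_cast hg2
  have hP1 : ∀ Q : Place k K, Q.deg = 1 := fun Q => Place.deg_eq_one hK Q
  obtain ⟨j, _, hj⟩ := Finset.exists_max_image Finset.univ (fun i => P.1 (φ i))
    ⟨0, Finset.mem_univ 0⟩
  have hjP : ∀ i, P.1 (φ i) ≤ P.1 (φ j) := fun i => hj i (Finset.mem_univ i)
  have hj0 : φ j ≠ 0 := hφ.ne_zero j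
  have hφL : ∀ i, φ i ∈ L D := fun i => by
    rw [← hspan]
    exact Submodule.subset_span ⟨i, rfl⟩
  have hordj : P.ord (φ j) = -D P := by
    have hex : ∃ i, φ i ∉ L (D - Finsupp.single P 1) := by
      by_contra hall
      push Not at hall
      have hle : L D ≤ L (D - Finsupp.single P 1) := by
        rw [← hspan, Submodule.span_le]
        rintro _ ⟨i, rfl⟩
        exact hall i
      haveI := finiteDimensional_L hK (D - Finsupp.single P 1)
      have h3 := LinearMap.finrank_le_finrank_of_injective (Submodule.inclusion_injective hle)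
      have h4 := ell_sub_single_lt hK hg D (Or.inr hD) P
      unfold ell at h4
      omega
    obtain ⟨i, hi⟩ := hex
    obtain ⟨hi0, hio⟩ := ord_eq_of_mem_L_not_mem (hφL i) hi
    have h1 : P.1 (φ i) = exp (D P) := P_val_eq hK P hi0 hio
    have h2' := (mem_L.mp (hφL j)) P
    have h3 : P.1 (φ j) = exp (D P) := le_antisymm h2' (by rw [← h1]; exact hjP i)
    rw [P.val_eq_exp_neg_ord hj0, exp_inj] at h3
    omega
  obtain ⟨D', hD'⟩ : ∃ D' : Divisor k K, D' = D + div k (φ j) := ⟨_, rfl⟩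
  have hD'nn : 0 ≤ D' := by
    rw [hD', add_comm]
    exact (mem_L_iff_div hK hj0 D).mp (hφL j)
  have hdegD' : Divisor.deg D' = 2 * (genus k K : ℤ) - 2 := by
    rw [hD', deg_add, deg_div_eq_zero hK, add_zero]
    exact deg_of_isCanonical hK hD
  have hD'P : D' P = 0 := by
    rw [hD', Finsupp.add_apply, div_apply hK, hordj]
    ring
  have hD'can : IsCanonical k K D' := (isCanonical_iff hK D').mpr ⟨by
    rw [hD', ell_add_div hK D hj0]
    exact ell_of_isCanonical hK hD, hdegD'⟩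
  have hell : ∀ X : Divisor k K, 2 * (genus k K : ℤ) - 1 ≤ Divisor.deg X →
      (ell X : ℤ) = Divisor.deg X + 1 - genus k K := fun X hX => ell_eq_of_deg_ge hK X hX
  have hdegn : ∀ m : ℕ, Divisor.deg (m • D') = m * Divisor.deg D' := fun m => deg_nsmul m D'
  have hlP : ∀ Q : Place k K, ell (Finsupp.single Q 1 : Divisor k K) = 1 := fun Q =>
    ell_eq_one_of_deg_le_two hK h2 (Finsupp.single_nonneg.mpr zero_le_one)
      (by rw [deg_single, hP1]; norm_num)
  have hlPQ : ∀ Q R : Place k K,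
      ell (Finsupp.single Q 1 + Finsupp.single R 1 : Divisor k K) = 1 := fun Q R =>
    ell_eq_one_of_deg_le_two hK h2
      (add_nonneg (Finsupp.single_nonneg.mpr zero_le_one) (Finsupp.single_nonneg.mpr zero_le_one))
      (by rw [deg_add, deg_single, deg_single, hP1, hP1]; norm_num)
  have H1 : ∀ Q : Place k K, ell (D' - Finsupp.single Q 1) < ell D' := fun Q =>
    ell_sub_single_lt hK hg D' (Or.inr hD'can) Q
  have hl1 : ∀ Q : Place k K, (ell (D' - Finsupp.single Q 1) : ℤ) = genus k K - 1 := by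
    intro Q
    have h3 := riemann_roch hK D' hD'can (D' - Finsupp.single Q 1)
    rw [sub_sub_cancel, hlP, deg_sub, deg_single, hP1, hdegD'] at h3
    push_cast at h3
    linarith
  have hl2 : ∀ Q R : Place k K,
      (ell (D' - Finsupp.single Q 1 - Finsupp.single R 1) : ℤ) = genus k K - 2 := by
    intro Q R
    have h3 := riemann_roch hK D' hD'can (D' - Finsupp.single Q 1 - Finsupp.single R 1)
    have e : D' - (D' - Finsupp.single Q 1 - Finsupp.single R 1) =
        Finsupp.single Q 1 + Finsupp.single R 1 := by abel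
    rw [e, hlPQ, deg_sub, deg_sub, deg_single, deg_single, hP1, hP1, hdegD'] at h3
    push_cast at h3
    linarith
  have H2 : ∀ Q : Place k K, ell (D' - Finsupp.single P 1 - Finsupp.single Q 1) <
      ell (D' - Finsupp.single P 1) := fun Q => by
    have h3 := hl1 P
    have h4 := hl2 P Q
    omega
  have hlm : ∀ m : ℕ, 2 ≤ m →
      (ell (m • D') : ℤ) = m * (2 * (genus k K : ℤ) - 2) + 1 - genus k K := fun m hm => by
    have hm' : (2 : ℤ) ≤ m := by exact_mod_cast hm
    rw [hell (m • D') (by rw [hdegn, hdegD']; nlinarith), hdegn, hdegD']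
  have H3 : ∀ m : ℕ, 3 ≤ m →
      (ell ((m + 1) • D') : ℤ) = 2 * ell (m • D') - ell ((m - 1) • D') := fun m hm => by
    rw [hlm (m + 1) (by omega), hlm m (by omega), hlm (m - 1) (by omega)]
    have hc : ((m - 1 : ℕ) : ℤ) = (m : ℤ) - 1 := by omega
    rw [hc]
    push_cast
    ring
  have H4 : (ell (3 • D' + (D' - Finsupp.single P 1)) : ℤ) =
      2 * ell (3 • D') - ell (3 • D' - (D' - Finsupp.single P 1)) := by
    rw [hell (3 • D' + (D' - Finsupp.single P 1)) (by
        rw [deg_add, hdegn, deg_sub, deg_single, hP1, hdegD']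
        push_cast
        linarith),
      hlm 3 (by norm_num),
      hell (3 • D' - (D' - Finsupp.single P 1)) (by
        rw [deg_sub, hdegn, deg_sub, deg_single, hP1, hdegD']
        push_cast
        linarith)]
    simp only [deg_add, deg_sub, hdegn, deg_single, hP1, hdegD']
    push_cast
    ring
  obtain ⟨u, hu, w, hw, hw1, hzw⟩ := locRing_of_pencils hK D' hD'nn
    (by rw [hdegD']; linarith) P hD'P 3 (by norm_num) H1 H2 H3 H4 z hz
  have hsub : Algebra.adjoin k (L D' : Set K) ≤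
      Algebra.adjoin k (Set.range fun i => φ i / φ j) := by
    apply Algebra.adjoin_le
    intro x hx
    have h1 : φ j * x ∈ L D := (mul_mem_L_iff hK D (φ j) x hj0).mpr (by rw [← hD']; exact hx)
    rw [← hspan] at h1
    have h3 := div_mem_adjoin_of_mem_span φ j h1
    rwa [mul_div_cancel_left₀ x hj0] at h3
  exact ⟨j, hj0, hjP, u, hsub hu, w, hsub hw, hw1, hzw⟩

end FunFld
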