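import Mathlib
import Groth.Agent.Lib.FunFldP_helper2

/-! Function fields of one variable, part Q (helper2): linear series `V ⊆ L(D)`,
vanishing dimensions `dim V(-nP)`, two-point bounds. -/

open WithZero Polynomial IntermediateField

namespace FunFld

variable {k K : Type*} [Field k] [Field K] [Algebra k K]

theorem le_sub_single_of_nonpos (D : Divisor k K) (P : Place k K) {n : ℤ} (hn : n ≤ 0) :
    D ≤ D - Finsupp.single P n := by
  classical
  intro Q
  rw [Finsupp.sub_apply, Finsupp.single_apply]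
  split_ifs <;> omega

theorem sub_single_le_sub_single (D : Divisor k K) (P : Place k K) {m n : ℤ} (h : m ≤ n) :
    D - Finsupp.single P n ≤ D - Finsupp.single P m := by
  classical
  intro Q
  rw [Finsupp.sub_apply, Finsupp.sub_apply, Finsupp.single_apply, Finsupp.single_apply]
  split_ifs <;> omega

theorem finrank_inf_L_mono (hK : IsFunctionField k K) (V : Submodule k K) {E E' : Divisor k K}
    (h : E ≤ E') : Module.finrank k ↥(V ⊓ L E) ≤ Module.finrank k ↥(V ⊓ L E') := by
  haveI := finiteDimensional_L hK E'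
  exact LinearMap.finrank_le_finrank_of_injective
    (Submodule.inclusion_injective (inf_le_inf_left V (L_mono h)))

theorem finrank_inf_L_step [IsAlgClosed k] (hK : IsFunctionField k K) (V : Submodule k K)
    (E : Divisor k K) (P : Place k K) :
    Module.finrank k ↥(V ⊓ L E) ≤ Module.finrank k ↥(V ⊓ L (E - Finsupp.single P 1)) + 1 := by
  haveI := finiteDimensional_L hK E
  haveI := finiteDimensional_L hK (E - Finsupp.single P 1)
  have hle : L (E - Finsupp.single P 1) ≤ L E := L_mono (by simp)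
  have h1 := Submodule.finrank_sup_add_finrank_inf_eq (V ⊓ L E) (L (E - Finsupp.single P 1))
  have h2 : (V ⊓ L E) ⊓ L (E - Finsupp.single P 1) = V ⊓ L (E - Finsupp.single P 1) := by
    rw [inf_assoc, inf_eq_right.mpr hle]
  have h3 : (V ⊓ L E) ⊔ L (E - Finsupp.single P 1) ≤ L E := sup_le inf_le_right hle
  have h4 := LinearMap.finrank_le_finrank_of_injective (Submodule.inclusion_injective h3)
  have h5 := (L_step hK (E - Finsupp.single P 1) P).2
  rw [sub_add_cancel, Place.deg_eq_one hK P] at h5
  rw [h2] at h1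
  unfold ell at h5
  omega

/-- `dim V(-nP)`. -/
noncomputable def vdim (V : Submodule k K) (D : Divisor k K) (P : Place k K) (n : ℤ) : ℕ :=
  Module.finrank k ↥(V ⊓ L (D - Finsupp.single P n))

/-- `∑_{n=1}^{d} dim V(-nP)`. -/
noncomputable def wsum (V : Submodule k K) (D : Divisor k K) (P : Place k K) (d : ℕ) : ℕ :=
  ∑ n ∈ Finset.range d, vdim V D P ((n : ℤ) + 1)

theorem vdim_anti (hK : IsFunctionField k K) (V : Submodule k K) (D : Divisor k K)
    (P : Place k K) {m n : ℤ} (h : m ≤ n) : vdim V D P n ≤ vdim V D P m :=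
  finrank_inf_L_mono hK V (sub_single_le_sub_single D P h)

theorem vdim_step [IsAlgClosed k] (hK : IsFunctionField k K) (V : Submodule k K)
    (D : Divisor k K) (P : Place k K) (n : ℤ) : vdim V D P n ≤ vdim V D P (n + 1) + 1 := by
  have := finrank_inf_L_step hK V (D - Finsupp.single P n) P
  rw [sub_sub, ← Finsupp.single_add] at this
  exact this

theorem vdim_le_add [IsAlgClosed k] (hK : IsFunctionField k K) (V : Submodule k K)
    (D : Divisor k K) (P : Place k K) (n : ℤ) (j : ℕ) :
    vdim V D P n ≤ vdim V D P (n + j) + j := by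
  induction j with
  | zero => simp
  | succ j ih =>
    have := vdim_step hK V D P (n + j)
    have e : n + ((j + 1 : ℕ) : ℤ) = n + j + 1 := by push_cast; ring
    rw [e]
    omega

theorem vdim_of_nonpos (V : Submodule k K) (D : Divisor k K) (P : Place k K) (hV : V ≤ L D)
    {n : ℤ} (hn : n ≤ 0) : vdim V D P n = Module.finrank k ↥V := by
  unfold vdim
  rw [inf_eq_left.mpr (hV.trans (L_mono (le_sub_single_of_nonpos D P hn)))]

theorem vdim_of_deg_lt [IsAlgClosed k] (hK : IsFunctionField k K) (V : Submodule k K)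
    (D : Divisor k K) (P : Place k K) {n : ℤ} (hn : Divisor.deg D < n) : vdim V D P n = 0 := by
  unfold vdim
  rw [L_eq_bot_of_deg_neg hK _ (by
    rw [deg_sub, deg_single, Place.deg_eq_one hK P]; push_cast; linarith), inf_bot_eq]
  exact finrank_bot k K

theorem le_vdim_add [IsAlgClosed k] (hK : IsFunctionField k K) (V : Submodule k K)
    (D : Divisor k K) (P : Place k K) (hV : V ≤ L D) (n : ℕ) :
    Module.finrank k ↥V ≤ vdim V D P n + n := by
  have h1 := vdim_le_add hK V D P 0 n
  rw [vdim_of_nonpos V D P hV le_rfl, zero_add] at h1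
  exact h1

theorem finrank_le_deg_add_one [IsAlgClosed k] (hK : IsFunctionField k K) (V : Submodule k K)
    (D : Divisor k K) (hV : V ≤ L D) {d : ℕ} (hD : Divisor.deg D = d) :
    Module.finrank k ↥V ≤ d + 1 := by
  obtain ⟨P⟩ := exists_place hK
  have h1 := le_vdim_add hK V D P hV (d + 1)
  rw [vdim_of_deg_lt hK V D P (by rw [hD]; push_cast; linarith)] at h1
  omega

theorem L_inf_L (D : Divisor k K) {P Q : Place k K} (hPQ : P ≠ Q) {m n : ℤ} (hm : 0 ≤ m)
    (hn : 0 ≤ n) :
    L (D - Finsupp.single P m) ⊓ L (D - Finsupp.single Q n) =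
      L (D - Finsupp.single P m - Finsupp.single Q n) := by
  classical
  ext x
  simp only [Submodule.mem_inf, mem_L]
  constructor
  · rintro ⟨h1, h2⟩ R
    have ha := h1 R
    have hb := h2 R
    rw [Finsupp.sub_apply, Finsupp.single_apply] at ha hb
    rw [Finsupp.sub_apply, Finsupp.sub_apply, Finsupp.single_apply, Finsupp.single_apply]
    by_cases hP : P = R
    · have hQ : ¬ Q = R := fun h => hPQ (hP.trans h.symm)
      rw [if_pos hP] at ha
      rw [if_pos hP, if_neg hQ, sub_zero]
      exact ha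
    · rw [if_neg hP, sub_zero]
      exact hb
  · intro h
    refine ⟨fun R => ?_, fun R => ?_⟩
    · have hc := h R
      rw [Finsupp.sub_apply, Finsupp.sub_apply, Finsupp.single_apply, Finsupp.single_apply] at hc
      rw [Finsupp.sub_apply, Finsupp.single_apply]
      refine hc.trans (exp_le_exp.mpr ?_)
      split_ifs <;> omega
    · have hc := h R
      rw [Finsupp.sub_apply, Finsupp.sub_apply, Finsupp.single_apply, Finsupp.single_apply] at hc
      rw [Finsupp.sub_apply, Finsupp.single_apply]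
      refine hc.trans (exp_le_exp.mpr ?_)
      split_ifs <;> omega

theorem deg_sub_sub_single [IsAlgClosed k] (hK : IsFunctionField k K) (D : Divisor k K)
    (P Q : Place k K) (m n : ℤ) :
    Divisor.deg (D - Finsupp.single P m - Finsupp.single Q n) = Divisor.deg D - m - n := by
  rw [deg_sub, deg_sub, deg_single, deg_single, Place.deg_eq_one hK P, Place.deg_eq_one hK Q]
  push_cast
  ring

theorem inf_inf_L_eq (V : Submodule k K) (D : Divisor k K) {P Q : Place k K} (hPQ : P ≠ Q)
    {m n : ℤ} (hm : 0 ≤ m) (hn : 0 ≤ n) :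
    (V ⊓ L (D - Finsupp.single P m)) ⊓ (V ⊓ L (D - Finsupp.single Q n)) =
      V ⊓ L (D - Finsupp.single P m - Finsupp.single Q n) := by
  rw [inf_inf_inf_comm, inf_idem, L_inf_L D hPQ hm hn]

/-- Two-point bound. -/
theorem vdim_add_vdim_le [IsAlgClosed k] (hK : IsFunctionField k K) (V : Submodule k K)
    (D : Divisor k K) (hV : V ≤ L D) {P Q : Place k K} (hPQ : P ≠ Q) {m n : ℤ} (hm : 0 ≤ m)
    (hn : 0 ≤ n) (hd : Divisor.deg D < m + n) :
    vdim V D P m + vdim V D Q n ≤ Module.finrank k ↥V := by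
  haveI := finiteDimensional_L hK D
  haveI : FiniteDimensional k ↥V := Submodule.finiteDimensional_of_le hV
  unfold vdim
  have h1 := Submodule.finrank_sup_add_finrank_inf_eq (V ⊓ L (D - Finsupp.single P m))
    (V ⊓ L (D - Finsupp.single Q n))
  have h2 : (V ⊓ L (D - Finsupp.single P m)) ⊓ (V ⊓ L (D - Finsupp.single Q n)) = ⊥ := by
    rw [inf_inf_L_eq V D hPQ hm hn, L_eq_bot_of_deg_neg hK _ (by
      rw [deg_sub_sub_single hK]; linarith), inf_bot_eq]
  have h3 : (V ⊓ L (D - Finsupp.single P m)) ⊔ (V ⊓ L (D - Finsupp.single Q n)) ≤ V :=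
    sup_le inf_le_left inf_le_left
  have h4 := LinearMap.finrank_le_finrank_of_injective (Submodule.inclusion_injective h3)
  rw [h2, finrank_bot, add_zero] at h1
  omega

/-- Existence of a section with prescribed vanishing at two points. -/
theorem exists_ne_zero_of_lt_vdim_add (hK : IsFunctionField k K) (V : Submodule k K)
    (D : Divisor k K) (hV : V ≤ L D) {P Q : Place k K} (hPQ : P ≠ Q) {m n : ℤ} (hm : 0 ≤ m)
    (hn : 0 ≤ n) (h : Module.finrank k ↥V < vdim V D P m + vdim V D Q n) :
    ∃ f ∈ V, f ≠ 0 ∧ f ∈ L (D - Finsupp.single P m - Finsupp.single Q n) := by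
  haveI := finiteDimensional_L hK D
  haveI : FiniteDimensional k ↥V := Submodule.finiteDimensional_of_le hV
  unfold vdim at h
  have h1 := Submodule.finrank_sup_add_finrank_inf_eq (V ⊓ L (D - Finsupp.single P m))
    (V ⊓ L (D - Finsupp.single Q n))
  have h3 : (V ⊓ L (D - Finsupp.single P m)) ⊔ (V ⊓ L (D - Finsupp.single Q n)) ≤ V :=
    sup_le inf_le_left inf_le_left
  have h4 := LinearMap.finrank_le_finrank_of_injective (Submodule.inclusion_injective h3)
  rw [inf_inf_L_eq V D hPQ hm hn] at h1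
  have h5 : 0 < Module.finrank k
      ↥(V ⊓ L (D - Finsupp.single P m - Finsupp.single Q n)) := by omega
  obtain ⟨x, hx⟩ := (Module.finrank_pos_iff_exists_ne_zero (R := k)
    (M := ↥(V ⊓ L (D - Finsupp.single P m - Finsupp.single Q n)))).mp h5
  refine ⟨x.1, x.2.1, ?_, x.2.2⟩
  intro h0
  exact hx (Subtype.ext h0)

theorem div_add_eq_of_mem_L (hK : IsFunctionField k K) {D E : Divisor k K} {f : K}
    (hf0 : f ≠ 0) (hf : f ∈ L (D - E)) (hdeg : Divisor.deg D = Divisor.deg E) :
    div k f + D = E := by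
  have h1 := (mem_L_iff_div hK hf0 (D - E)).mp hf
  have h2 : Divisor.deg (div k f + (D - E)) = 0 := by
    rw [deg_add, deg_div_eq_zero hK, deg_sub, hdeg]; ring
  have h3 := eq_zero_of_nonneg_of_deg_le_zero hK h1 h2.le
  have h4 : div k f + D = (div k f + (D - E)) + E := by abel
  rw [h4, h3, zero_add]

/-! ### Abstract sums -/

theorem sum_pair_le (d M : ℕ) (f g : ℤ → ℕ)
    (h : ∀ m n : ℤ, 0 ≤ m → 0 ≤ n → (d : ℤ) < m + n → f m + g n ≤ M) :
    (∑ n ∈ Finset.range d, f ((n : ℤ) + 1)) + (∑ n ∈ Finset.range d, g ((n : ℤ) + 1)) ≤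
      M * d := by
  rw [← Finset.sum_range_reflect (fun n => g ((n : ℤ) + 1)) d, ← Finset.sum_add_distrib]
  calc ∑ n ∈ Finset.range d, (f ((n : ℤ) + 1) + g (((d - 1 - n : ℕ) : ℤ) + 1))
      ≤ ∑ n ∈ Finset.range d, M := Finset.sum_le_sum (fun n hn => by
        rw [Finset.mem_range] at hn
        apply h
        · omega
        · omega
        · omega)
    _ = M * d := by rw [Finset.sum_const, Finset.card_range, smul_eq_mul, mul_comm]

theorem sum_pair_eq (d M : ℕ) (f g : ℤ → ℕ)
    (h : ∀ m : ℕ, m ≤ d + 1 → f m + g ((d : ℤ) + 1 - m) = M) :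
    (∑ n ∈ Finset.range d, f ((n : ℤ) + 1)) + (∑ n ∈ Finset.range d, g ((n : ℤ) + 1)) =
      M * d := by
  rw [← Finset.sum_range_reflect (fun n => g ((n : ℤ) + 1)) d, ← Finset.sum_add_distrib]
  calc ∑ n ∈ Finset.range d, (f ((n : ℤ) + 1) + g (((d - 1 - n : ℕ) : ℤ) + 1))
      = ∑ n ∈ Finset.range d, M := Finset.sum_congr rfl (fun n hn => by
        rw [Finset.mem_range] at hn
        have e : ((d - 1 - n : ℕ) : ℤ) + 1 = (d : ℤ) + 1 - ((n + 1 : ℕ) : ℤ) := by omega
        have e2 : (n : ℤ) + 1 = ((n + 1 : ℕ) : ℤ) := by push_cast; ring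
        rw [e, e2]
        exact h (n + 1) (by omega))
    _ = M * d := by rw [Finset.sum_const, Finset.card_range, smul_eq_mul, mul_comm]

theorem sum_le_of_atmost_one (N M : ℕ) (e : ℕ → ℕ) (hle : ∀ n < N, e n ≤ M + 1)
    (huniq : ∀ n₁ < N, ∀ n₂ < N, M + 1 ≤ e n₁ → M + 1 ≤ e n₂ → n₁ = n₂) :
    ∑ n ∈ Finset.range N, e n ≤ N * M + 1 := by
  classical
  by_cases hex : ∃ n₀ < N, M + 1 ≤ e n₀
  · obtain ⟨n₀, hn₀, he⟩ := hex
    calc ∑ n ∈ Finset.range N, e n
        ≤ ∑ n ∈ Finset.range N, (M + if n = n₀ then 1 else 0) := by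
          apply Finset.sum_le_sum
          intro n hn
          rw [Finset.mem_range] at hn
          by_cases hnn : n = n₀
          · rw [if_pos hnn]; exact hle n hn
          · rw [if_neg hnn, add_zero]
            by_contra hlt
            exact hnn (huniq n hn n₀ hn₀ (by omega) he)
      _ = N * M + 1 := by
          rw [Finset.sum_add_distrib, Finset.sum_const, Finset.card_range, smul_eq_mul,
            Finset.sum_ite_eq', if_pos (Finset.mem_range.mpr hn₀)]
  · push Not at hex
    calc ∑ n ∈ Finset.range N, e n ≤ ∑ n ∈ Finset.range N, M :=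
          Finset.sum_le_sum (fun n hn => by
            have := hex n (Finset.mem_range.mp hn); omega)
      _ ≤ N * M + 1 := by rw [Finset.sum_const, Finset.card_range, smul_eq_mul]; omega

theorem two_mul_sum_range_sub (r : ℕ) : 2 * ∑ n ∈ Finset.range r, (r - n) = r * (r + 1) := by
  induction r with
  | zero => simp
  | succ r ih =>
    rw [Finset.sum_range_succ']
    have : ∑ n ∈ Finset.range r, (r + 1 - (n + 1)) = ∑ n ∈ Finset.range r, (r - n) :=
      Finset.sum_congr rfl (fun n _ => by omega)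
    rw [this, mul_add, ih]
    simp only [Nat.sub_zero]
    ring

theorem two_mul_tri (r : ℕ) : 2 * (r * (r + 1) / 2) = r * (r + 1) :=
  Nat.two_mul_div_two_of_even (Nat.even_mul_succ_self r)

theorem sum_range_sub_eq (r : ℕ) : ∑ n ∈ Finset.range r, (r - n) = r * (r + 1) / 2 := by
  have h1 := two_mul_sum_range_sub r
  have h2 := two_mul_tri r
  omega

/-! ### Weights -/

theorem wsum_add_wsum_le [IsAlgClosed k] (hK : IsFunctionField k K) (V : Submodule k K)
    (D : Divisor k K) (hV : V ≤ L D) {d : ℕ} (hD : Divisor.deg D = d) {P Q : Place k K}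
    (hPQ : P ≠ Q) : wsum V D P d + wsum V D Q d ≤ Module.finrank k ↥V * d := by
  unfold wsum
  apply sum_pair_le d _ (fun n => vdim V D P n) (fun n => vdim V D Q n)
  intro m n hm hn hmn
  exact vdim_add_vdim_le hK V D hV hPQ hm hn (by rw [hD]; exact hmn)

theorem tri_le_wsum [IsAlgClosed k] (hK : IsFunctionField k K) (V : Submodule k K)
    (D : Divisor k K) (P : Place k K) (hV : V ≤ L D) {d r : ℕ} (hD : Divisor.deg D = d)
    (hr : Module.finrank k ↥V = r + 1) : r * (r + 1) / 2 ≤ wsum V D P d := by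
  have hrd : r ≤ d := by
    have := finrank_le_deg_add_one hK V D hV hD
    omega
  rw [← sum_range_sub_eq r]
  calc ∑ n ∈ Finset.range r, (r - n) ≤ ∑ n ∈ Finset.range d, (r - n) :=
        Finset.sum_le_sum_of_subset (Finset.range_mono hrd)
    _ ≤ wsum V D P d := by
        unfold wsum
        apply Finset.sum_le_sum
        intro n _
        have h1 := le_vdim_add hK V D P hV (n + 1)
        have e : ((n + 1 : ℕ) : ℤ) = (n : ℤ) + 1 := by push_cast; ring
        rw [e] at h1
        omega

theorem cusp_le_wsum [IsAlgClosed k] (hK : IsFunctionField k K) (V : Submodule k K)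
    (D : Divisor k K) (Q : Place k K) (hV : V ≤ L D) {d r : ℕ} (hD : Divisor.deg D = d)
    (hr : Module.finrank k ↥V = r + 1) (hc : r ≤ vdim V D Q 2) :
    r + r * (r + 1) / 2 ≤ wsum V D Q d := by
  rcases Nat.eq_zero_or_pos r with h0 | hpos
  · subst h0; simp
  have hlb : ∀ n : ℕ, (if n = 0 then r else r + 1 - n) ≤ vdim V D Q ((n : ℤ) + 1) := by
    intro n
    split_ifs with hn
    · subst hn
      have := vdim_anti hK V D Q (show ((0 : ℕ) : ℤ) + 1 ≤ 2 by norm_num)
      omega
    · have h1 := vdim_le_add hK V D Q 2 (n - 1)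
      have e : (2 : ℤ) + ((n - 1 : ℕ) : ℤ) = (n : ℤ) + 1 := by omega
      rw [e] at h1
      omega
  have hrd : r + 1 ≤ d := by
    by_contra hlt
    have h1 := hlb d
    rw [vdim_of_deg_lt hK V D Q (by rw [hD]; linarith)] at h1
    split_ifs at h1 with hd0 <;> omega
  calc r + r * (r + 1) / 2 = ∑ n ∈ Finset.range (r + 1), (if n = 0 then r else r + 1 - n) := by
        rw [Finset.sum_range_succ', ← sum_range_sub_eq r]
        simp only [if_true]
        rw [add_comm]
        congr 1
        apply Finset.sum_congr rfl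
        intro n _
        rw [if_neg (Nat.succ_ne_zero n)]
        omega
    _ ≤ ∑ n ∈ Finset.range d, (if n = 0 then r else r + 1 - n) :=
        Finset.sum_le_sum_of_subset (Finset.range_mono hrd)
    _ ≤ wsum V D Q d := by
        unfold wsum
        exact Finset.sum_le_sum (fun n _ => hlb n)

end FunFld
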