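import Mathlib
import Groth.Agent.Lib.FunFldQ_helper2

/-! Function fields of one variable, part R (helper2): compatibility of aspects, sections with
prescribed divisors, cusps on rational curves. -/

open WithZero Polynomial IntermediateField

namespace FunFld

variable {k K : Type*} [Field k] [Field K] [Algebra k K]

/-- S18173 in `vdim` form. -/
theorem vdim_le_of_compat [IsAlgClosed k] {KY KZ : Type*} [Field KY] [Algebra k KY] [Field KZ]
    [Algebra k KZ] (hKY : IsFunctionField k KY) {d r : ℕ} {DY : Divisor k KY}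
    (hDY : Divisor.deg DY = d) {DZ : Divisor k KZ} {VY : Submodule k KY} (hVY : VY ≤ L DY)
    (hVYr : Module.finrank k ↥VY = r + 1) {VZ : Submodule k KZ} {P : Place k KY}
    {Q : Place k KZ}
    (hcomp : ∀ n : ℕ, n ≤ d + 1 → vdim VY DY P n + vdim VZ DZ Q ((d : ℤ) + 1 - n) = r + 1)
    {P' : Place k KY} (hP' : P' ≠ P) (n : ℕ) : vdim VY DY P' n ≤ vdim VZ DZ Q n := by
  by_cases hn : n ≤ d + 1
  · have h1 := vdim_add_vdim_le hKY VY DY hVY hP' (m := (n : ℤ)) (n := (d : ℤ) + 1 - n)
      (by positivity) (by omega) (by rw [hDY]; omega)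
    have h2 := hcomp (d + 1 - n) (by omega)
    have e1 : (((d + 1 - n : ℕ)) : ℤ) = (d : ℤ) + 1 - n := by omega
    have e2 : (d : ℤ) + 1 - ((d + 1 - n : ℕ) : ℤ) = n := by omega
    rw [e2, e1] at h2
    rw [hVYr] at h1
    omega
  · rw [vdim_of_deg_lt hKY VY DY P' (by rw [hDY]; omega)]
    exact Nat.zero_le _

theorem ell_le_one_of_deg_one (hK : IsFunctionField k K) (hg : 0 < genus k K)
    (E : Divisor k K) (hE : Divisor.deg E = 1) : ell E ≤ 1 := by
  by_contra hlt
  obtain ⟨f, hfL, hf0⟩ := exists_ne_zero_mem_L_of_ell_pos hK (D := E) (by omega)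
  have h1 := (mem_L_iff_div hK hf0 E).mp hfL
  have h2 : Divisor.deg (div k f + E) = 1 := by
    rw [deg_add, deg_div_eq_zero hK, hE]; ring
  obtain ⟨P, hP1, hP⟩ := exists_eq_single_of_deg_eq_one hK h1 h2
  have h3 := ell_add_div hK E hf0
  rw [add_comm, hP, ell_single_one_of_genus_pos hK hg P hP1] at h3
  omega

theorem vdim_le_one_of_genus_pos [IsAlgClosed k] (hK : IsFunctionField k K)
    (hg : 0 < genus k K) (V : Submodule k K) (D : Divisor k K) (A : Place k K) {d : ℕ}
    (hD : Divisor.deg D = d) : vdim V D A ((d : ℤ) - 1) ≤ 1 := by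
  unfold vdim
  haveI := finiteDimensional_L hK (D - Finsupp.single A ((d : ℤ) - 1))
  have h1 : Module.finrank k ↥(V ⊓ L (D - Finsupp.single A ((d : ℤ) - 1))) ≤
      ell (D - Finsupp.single A ((d : ℤ) - 1)) :=
    LinearMap.finrank_le_finrank_of_injective (Submodule.inclusion_injective inf_le_right)
  have h2 := ell_le_one_of_deg_one hK hg (D - Finsupp.single A ((d : ℤ) - 1)) (by
    rw [deg_sub, deg_single, Place.deg_eq_one hK A, hD]; push_cast; ring)
  exact h1.trans h2

theorem mem_L_of_min {E1 E2 E3 : Divisor k K} (h : ∀ R, E1 R ≤ E3 R ∨ E2 R ≤ E3 R) {x : K}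
    (h1 : x ∈ L E1) (h2 : x ∈ L E2) : x ∈ L E3 := by
  rw [mem_L] at h1 h2 ⊢
  intro R
  rcases h R with h' | h'
  · exact (h1 R).trans (exp_le_exp.mpr h')
  · exact (h2 R).trans (exp_le_exp.mpr h')

/-! ### Two-point vanishing dimensions -/

/-- `dim V(-mP-nQ)`. -/
noncomputable def vdim2 (V : Submodule k K) (D : Divisor k K) (P Q : Place k K) (m n : ℤ) : ℕ :=
  Module.finrank k ↥(V ⊓ L (D - Finsupp.single P m - Finsupp.single Q n))

theorem vdim2_stepQ [IsAlgClosed k] (hK : IsFunctionField k K) (V : Submodule k K)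
    (D : Divisor k K) (P Q : Place k K) (m : ℤ) {n n' : ℤ} (hn : n' = n + 1) :
    vdim2 V D P Q m n ≤ vdim2 V D P Q m n' + 1 := by
  have := finrank_inf_L_step hK V (D - Finsupp.single P m - Finsupp.single Q n) Q
  rw [sub_sub _ (Finsupp.single Q n), ← Finsupp.single_add, ← hn] at this
  exact this

theorem vdim2_stepP [IsAlgClosed k] (hK : IsFunctionField k K) (V : Submodule k K)
    (D : Divisor k K) (P Q : Place k K) {m m' : ℤ} (hm : m' = m + 1) (n : ℤ) :
    vdim2 V D P Q m n ≤ vdim2 V D P Q m' n + 1 := by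
  have := finrank_inf_L_step hK V (D - Finsupp.single P m - Finsupp.single Q n) P
  have e : D - Finsupp.single P m - Finsupp.single Q n - Finsupp.single P 1 =
      D - Finsupp.single P m' - Finsupp.single Q n := by
    rw [hm, Finsupp.single_add]; abel
  rw [e] at this
  exact this

theorem vdim2_monoQ (hK : IsFunctionField k K) (V : Submodule k K)
    (D : Divisor k K) (P Q : Place k K) (m : ℤ) {n n' : ℤ} (hn : n ≤ n') :
    vdim2 V D P Q m n' ≤ vdim2 V D P Q m n :=
  finrank_inf_L_mono hK V (sub_single_le_sub_single _ Q hn)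

theorem vdim2_monoP (hK : IsFunctionField k K) (V : Submodule k K)
    (D : Divisor k K) (P Q : Place k K) {m m' : ℤ} (hm : m ≤ m') (n : ℤ) :
    vdim2 V D P Q m' n ≤ vdim2 V D P Q m n := by
  apply finrank_inf_L_mono hK V
  exact sub_le_sub_right (sub_single_le_sub_single D P hm) _

theorem vdim2_submod (hK : IsFunctionField k K) (V : Submodule k K)
    (D : Divisor k K) {P Q : Place k K} (hPQ : P ≠ Q) {m m' n n' : ℤ} (hm : m' = m + 1)
    (hn : n' = n + 1) :
    vdim2 V D P Q m' n + vdim2 V D P Q m n' ≤ vdim2 V D P Q m n + vdim2 V D P Q m' n' := by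
  unfold vdim2
  set E : Divisor k K := D - Finsupp.single P m - Finsupp.single Q n with hE
  have e1 : D - Finsupp.single P m' - Finsupp.single Q n = E - Finsupp.single P 1 := by
    rw [hE, hm, Finsupp.single_add]; abel
  have e2 : D - Finsupp.single P m - Finsupp.single Q n' = E - Finsupp.single Q 1 := by
    rw [hE, hn, Finsupp.single_add]; abel
  have e3 : D - Finsupp.single P m' - Finsupp.single Q n' =
      E - Finsupp.single P 1 - Finsupp.single Q 1 := by
    rw [hE, hn, hm, Finsupp.single_add, Finsupp.single_add]; abel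
  rw [e1, e2, e3]
  haveI := finiteDimensional_L hK E
  haveI := finiteDimensional_L hK (E - Finsupp.single P 1)
  haveI := finiteDimensional_L hK (E - Finsupp.single Q 1)
  have h1 := Submodule.finrank_sup_add_finrank_inf_eq (V ⊓ L (E - Finsupp.single P 1))
    (V ⊓ L (E - Finsupp.single Q 1))
  rw [inf_inf_L_eq V E hPQ zero_le_one zero_le_one] at h1
  have h3 : (V ⊓ L (E - Finsupp.single P 1)) ⊔ (V ⊓ L (E - Finsupp.single Q 1)) ≤ V ⊓ L E :=
    sup_le (inf_le_inf_left V (L_mono (by simp))) (inf_le_inf_left V (L_mono (by simp)))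
  have h4 := LinearMap.finrank_le_finrank_of_injective (Submodule.inclusion_injective h3)
  omega

/-! ### Abstract chain arithmetic -/

theorem sum_diag_eq (d : ℕ) (f g : ℤ → ℕ) :
    ∑ a ∈ Finset.range (d + 1), (f a + g ((d : ℤ) - a)) =
      f 0 + g 0 + (∑ n ∈ Finset.range d, f ((n : ℤ) + 1)) +
        ∑ n ∈ Finset.range d, g ((n : ℤ) + 1) := by
  rw [Finset.sum_add_distrib]
  have h1 : ∑ a ∈ Finset.range (d + 1), f (a : ℤ) =
      f 0 + ∑ n ∈ Finset.range d, f ((n : ℤ) + 1) := by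
    rw [Finset.sum_range_succ', add_comm]
    simp only [Nat.cast_add, Nat.cast_one, Nat.cast_zero]
  have h2 : ∑ a ∈ Finset.range (d + 1), g ((d : ℤ) - a) =
      g 0 + ∑ n ∈ Finset.range d, g ((n : ℤ) + 1) := by
    have : ∑ a ∈ Finset.range (d + 1), g ((d : ℤ) - a) =
        ∑ a ∈ Finset.range (d + 1), g ((a : ℕ) : ℤ) := by
      rw [← Finset.sum_range_reflect (fun a : ℕ => g (a : ℤ)) (d + 1)]
      apply Finset.sum_congr rfl
      intro a ha
      rw [Finset.mem_range] at ha
      show g ((d : ℤ) - a) = g ((d + 1 - 1 - a : ℕ) : ℤ)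
      congr 1
      omega
    rw [this, Finset.sum_range_succ', add_comm]
    simp only [Nat.cast_add, Nat.cast_one, Nat.cast_zero]
  rw [h1, h2]; ring

theorem chain_lower (n : ℕ) (a b : Fin (n + 1) → ℕ) (M c h : ℕ)
    (hcompat : ∀ l : Fin n, b l.castSucc + a l.succ = M)
    (hinner : ∀ l : Fin (n + 1), 0 < (l : ℕ) → (l : ℕ) < n → a l + b l ≤ M)
    (hc : b 0 + c + 2 * h ≤ M + h) :
    ∀ l : Fin (n + 1), 0 < (l : ℕ) → c + h ≤ a l := by
  intro l
  induction l using Fin.induction with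
  | zero => intro h0; exact absurd h0 (lt_irrefl _)
  | succ i ih =>
    intro _
    have h1 := hcompat i
    by_cases hi : (i : ℕ) = 0
    · have h0 : i.castSucc = 0 := Fin.ext (by simpa using hi)
      rw [h0] at h1
      omega
    · have h2 := ih (by simpa using Nat.pos_of_ne_zero hi)
      have h3 := hinner i.castSucc (by simpa using Nat.pos_of_ne_zero hi) (by simp)
      omega

/-! ### Sections with prescribed divisors -/

theorem div_div (hK : IsFunctionField k K) {s t : K} (hs : s ≠ 0) (ht : t ≠ 0) :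
    div k (s / t) = div k s - div k t := by
  rw [div_eq_mul_inv, div_mul hK hs (inv_ne_zero ht), div_inv hK, sub_eq_add_neg]

theorem exists_two_sections [IsAlgClosed k] (hK : IsFunctionField k K) (V : Submodule k K)
    (D : Divisor k K) (hV : V ≤ L D) {d r : ℕ} (hD : Divisor.deg D = d)
    (hVr : Module.finrank k ↥V = r + 1) {P Q : Place k K} (hPQ : P ≠ Q)
    (hw : (r + 1) * d + 1 ≤ wsum V D P d + wsum V D Q d + r) :
    ∃ a₁ a₂ : ℕ, a₁ < a₂ ∧ a₂ ≤ d ∧ ∃ s t : K, s ∈ V ∧ t ∈ V ∧ s ≠ 0 ∧ t ≠ 0 ∧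
      div k s + D = Finsupp.single P (a₁ : ℤ) + Finsupp.single Q ((d : ℤ) - a₁) ∧
      div k t + D = Finsupp.single P (a₂ : ℤ) + Finsupp.single Q ((d : ℤ) - a₂) := by
  classical
  have hP1 : ∀ R : Place k K, R.deg = 1 := fun R => Place.deg_eq_one hK R
  -- sections from large dimension
  have hsec : ∀ a : ℕ, a < d + 1 → r + 1 + 1 ≤ vdim V D P a + vdim V D Q ((d : ℤ) - a) →
      ∃ s : K, s ∈ V ∧ s ≠ 0 ∧
        div k s + D = Finsupp.single P (a : ℤ) + Finsupp.single Q ((d : ℤ) - a) := by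
    intro a ha h1
    obtain ⟨s, hsV, hs0, hsL⟩ := exists_ne_zero_of_lt_vdim_add hK V D hV hPQ (m := (a : ℤ))
      (n := (d : ℤ) - a) (by positivity) (by omega) (by rw [hVr]; omega)
    refine ⟨s, hsV, hs0, ?_⟩
    rw [sub_sub] at hsL
    apply div_add_eq_of_mem_L hK hs0 hsL
    rw [hD, deg_add, deg_single, deg_single, hP1, hP1]
    push_cast
    ring
  by_contra hcon
  have key : ∑ a ∈ Finset.range (d + 1), (vdim V D P a + vdim V D Q ((d : ℤ) - a)) ≤
      (d + 1) * (r + 1) + 1 := by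
    apply sum_le_of_atmost_one
    · intro a ha
      have h1 := vdim_add_vdim_le hK V D hV hPQ (m := (a : ℤ)) (n := (d : ℤ) - a + 1)
        (by positivity) (by omega) (by rw [hD]; omega)
      have h2 := vdim_step hK V D Q ((d : ℤ) - a)
      rw [hVr] at h1
      omega
    · intro a₁ ha₁ a₂ ha₂ h1 h2
      by_contra hne
      obtain ⟨s, hsV, hs0, hs⟩ := hsec a₁ ha₁ h1
      obtain ⟨t, htV, ht0, ht⟩ := hsec a₂ ha₂ h2
      rcases lt_or_gt_of_ne hne with hlt | hlt
      · exact hcon ⟨a₁, a₂, hlt, by omega, s, t, hsV, htV, hs0, ht0, hs, ht⟩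
      · exact hcon ⟨a₂, a₁, hlt, by omega, t, s, htV, hsV, ht0, hs0, ht, hs⟩
  rw [sum_diag_eq d (fun n => vdim V D P n) (fun n => vdim V D Q n)] at key
  have h0P := vdim_of_nonpos V D P hV (le_refl (0 : ℤ))
  have h0Q := vdim_of_nonpos V D Q hV (le_refl (0 : ℤ))
  rw [h0P, h0Q, hVr] at key
  unfold wsum at hw
  have e : (d + 1) * (r + 1) = (r + 1) * d + (r + 1) := by ring
  rw [e] at key
  omega

/-- Core of S18177. -/
theorem exists_div_eq_of_wsum_large [IsAlgClosed k] (hK : IsFunctionField k K)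
    (V : Submodule k K) (D : Divisor k K) (hV : V ≤ L D) {d r : ℕ} (hD : Divisor.deg D = d)
    (hVr : Module.finrank k ↥V = r + 1) {P Q : Place k K} (hPQ : P ≠ Q)
    (hw : (r + 1) * d + 1 ≤ wsum V D P d + wsum V D Q d + r) :
    ∃ m : ℕ, 1 ≤ m ∧ m ≤ d ∧ ∃ h : K, h ≠ 0 ∧
      div k h = Finsupp.single Q (m : ℤ) - Finsupp.single P (m : ℤ) := by
  classical
  obtain ⟨a₁, a₂, hlt, hle, s, t, -, -, hs0, ht0, hs, ht⟩ :=
    exists_two_sections hK V D hV hD hVr hPQ hw
  refine ⟨a₂ - a₁, by omega, by omega, s / t, div_ne_zero hs0 ht0, ?_⟩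
  rw [div_div hK hs0 ht0]
  have e : div k s - div k t = (div k s + D) - (div k t + D) := by abel
  rw [e, hs, ht]
  ext R
  simp only [Finsupp.sub_apply, Finsupp.add_apply, Finsupp.single_apply]
  split_ifs <;> omega

end FunFld
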