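import Mathlib
import Groth.Agent.Lib.FunFldR_helper2

/-! Function fields of one variable, part S (helper2): cusps of linear series on rational
function fields in characteristic zero. -/

open WithZero Polynomial IntermediateField

namespace FunFld

variable {k K : Type*} [Field k] [Field K] [Algebra k K]

theorem val_pow_sub_lt (Q : Place k K) {u : K} {c : k} (h : Q.1 (u - algebraMap k K c) < 1)
    (n : ℕ) : Q.1 (u ^ n - algebraMap k K (c ^ n)) < 1 := by
  induction n with
  | zero => simp
  | succ n ih =>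
    rw [pow_succ, pow_succ]
    exact val_mul_sub_lt Q ih h

theorem val_sum_sub_lt (Q : Place k K) {ι : Type*} (s : Finset ι) (u : ι → K) (c : ι → k)
    (h : ∀ i ∈ s, Q.1 (u i - algebraMap k K (c i)) < 1) :
    Q.1 (∑ i ∈ s, u i - algebraMap k K (∑ i ∈ s, c i)) < 1 := by
  rw [map_sum, ← Finset.sum_sub_distrib]
  exact Q.1.map_sum_lt one_ne_zero h

/-- On a rational function field in characteristic zero, a function with divisor `n(P - P')`
takes each of its values at a third place `Q` with multiplicity one. -/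
theorem ord_sub_const_eq_one [IsAlgClosed k] [CharZero k] (hK : IsFunctionField k K)
    (hg0 : genus k K = 0) {P P' Q : Place k K} (hPP' : P ≠ P') (hQP : Q ≠ P) (hQP' : Q ≠ P')
    {h : K} (hh : h ≠ 0) {n : ℕ} (hn : 1 ≤ n)
    (hdiv : div k h = Finsupp.single P (n : ℤ) - Finsupp.single P' (n : ℤ)) :
    ∃ c : k, h - algebraMap k K c ≠ 0 ∧ Q.ord (h - algebraMap k K c) = 1 := by
  classical
  have hP1 : ∀ R : Place k K, R.deg = 1 := fun R => Place.deg_eq_one hK R
  set E : Divisor k K := Finsupp.single P' 1 - Finsupp.single P 1 with hE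
  have hdegE : Divisor.deg E = 0 := by
    rw [hE, deg_sub, deg_single, deg_single, hP1, hP1]; simp
  have hell : (ell E : ℤ) = 1 := by
    have := ell_eq_of_deg_ge hK E (by rw [hg0, hdegE]; norm_num)
    rw [this, hdegE, hg0]; norm_num
  obtain ⟨x, hxL, hx0⟩ := exists_ne_zero_mem_L_of_ell_pos hK (D := E) (by omega)
  have hdivx : div k x = Finsupp.single P 1 - Finsupp.single P' 1 := by
    have h1 := div_add_eq_of_mem_L hK (D := E) (E := 0) hx0 (by rwa [sub_zero])
      (by rw [hdegE, deg_zero])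
    have h2 : div k x = -E := eq_neg_of_add_eq_zero_left h1
    rw [h2, hE, neg_sub]
  have hxord : ∀ R : Place k K,
      R.ord x = (if P = R then 1 else 0) - (if P' = R then 1 else 0) := fun R => by
    rw [← div_apply hK x R, hdivx, Finsupp.sub_apply, Finsupp.single_apply,
      Finsupp.single_apply]
  have hxQ : Q.ord x = 0 := by rw [hxord, if_neg hQP.symm, if_neg hQP'.symm]; norm_num
  have hxP' : P'.ord x = -1 := by rw [hxord, if_neg hPP', if_pos rfl]; norm_num
  have hxR : ∀ R : Place k K, R ≠ P' → 0 ≤ R.ord x := fun R hR => by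
    rw [hxord, if_neg (Ne.symm hR)]; split_ifs <;> norm_num
  have hxn0 : x ^ n ≠ 0 := pow_ne_zero _ hx0
  obtain ⟨u, hu⟩ := exists_eq_smul_of_ord_eq hK h (x ^ n) hh hxn0 (fun R => by
    rw [← div_apply hK h R, hdiv, Place.ord_pow, hxord R, Finsupp.sub_apply,
      Finsupp.single_apply, Finsupp.single_apply]
    split_ifs <;> ring)
  have hu0 : u ≠ 0 := by
    rintro rfl
    rw [zero_smul] at hu
    exact hh hu
  have hQx1 : Q.1 x = 1 := (Q.ord_eq_zero_iff hx0).mp hxQ
  obtain ⟨q, hq⟩ := exists_sub_algebraMap_lt_one hK Q (x := x) hQx1.le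
  have hq0 : q ≠ 0 := by
    rintro rfl
    rw [map_zero, sub_zero, hQx1] at hq
    exact lt_irrefl _ hq
  set t : K := x - algebraMap k K q with ht
  have hP'x : P'.1 x = exp (1 : ℤ) := P_val_eq hK P' hx0 hxP'
  have hP't : P'.1 t = exp (1 : ℤ) := by
    rw [ht, Valuation.map_sub_eq_of_lt_left, hP'x]
    rw [hP'x, P'.val_algebraMap hq0]
    exact (one_lt_iff_exp_one_le _).mpr le_rfl
  have ht0 : t ≠ 0 := by
    intro h0
    rw [h0, map_zero] at hP't
    exact exp_ne_zero hP't.symm
  have htP' : P'.ord t = -1 := by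
    have h1 := P'.val_eq_exp_neg_ord ht0
    rw [hP't, exp_inj] at h1
    omega
  have htR : ∀ R : Place k K, R ≠ P' → 0 ≤ R.ord t := fun R hR => by
    rw [R.ord_nonneg_iff ht0, ht]
    exact Valuation.map_sub_le _ ((R.ord_nonneg_iff hx0).mp (hxR R hR)) (R.2.1 q)
  have hpole : poleDiv k t = Finsupp.single P' 1 :=
    poleDiv_eq_single hK (n := 1) (by norm_num) htP' htR
  have httr : Transcendental k t :=
    transcendental_of_ord_ne_zero hK (P := P') (by rw [htP']; norm_num)
  have hdz : Divisor.deg (zeroDiv k t) = 1 := by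
    rw [deg_zeroDiv_eq hK httr, ← deg_poleDiv_eq hK httr, hpole, deg_single, hP1]; simp
  obtain ⟨Q', -, hQ'⟩ := exists_eq_single_of_deg_eq_one hK (zeroDiv_nonneg t) hdz
  have hpos : 0 < Q.ord t := (Q.ord_pos_iff ht0).mpr hq
  have htQ : Q.ord t = 1 := by
    have hzQ : (zeroDiv k t) Q = Q.ord t := by rw [zeroDiv_apply hK, max_eq_left hpos.le]
    rw [hQ', Finsupp.single_apply] at hzQ
    split_ifs at hzQ with hQQ'
    · exact hzQ.symm
    · omega
  -- the cofactor
  set w : K := ∑ i ∈ Finset.range n, x ^ i * (algebraMap k K q) ^ (n - 1 - i) with hw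
  have hwres : Q.1 (w - algebraMap k K (∑ i ∈ Finset.range n, q ^ i * q ^ (n - 1 - i))) < 1 := by
    apply val_sum_sub_lt
    intro i _
    have h1 := val_pow_sub_lt Q hq i
    have h2 : Q.1 ((algebraMap k K q) ^ (n - 1 - i) - algebraMap k K (q ^ (n - 1 - i))) < 1 := by
      rw [map_pow, sub_self, map_zero]; exact zero_lt_one
    exact val_mul_sub_lt Q h1 h2
  have hsum : ∑ i ∈ Finset.range n, q ^ i * q ^ (n - 1 - i) = (n : k) * q ^ (n - 1) := by
    rw [Finset.sum_congr rfl (fun i hi => show q ^ i * q ^ (n - 1 - i) = q ^ (n - 1) by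
      rw [← pow_add]; congr 1; have := Finset.mem_range.mp hi; omega)]
    rw [Finset.sum_const, Finset.card_range, nsmul_eq_mul]
  have hnq : (n : k) * q ^ (n - 1) ≠ 0 :=
    mul_ne_zero (Nat.cast_ne_zero.mpr (by omega)) (pow_ne_zero _ hq0)
  rw [hsum] at hwres
  have hw1 : Q.1 w = 1 := val_eq_one_of_sub_lt Q hnq hwres
  have hw0 : w ≠ 0 := by
    intro h0
    rw [h0, map_zero] at hw1
    exact zero_ne_one hw1
  have hfact : h - algebraMap k K (u * q ^ n) = algebraMap k K u * (w * t) := by
    rw [hu, Algebra.smul_def, map_mul, map_pow, hw, ht, geom_sum₂_mul]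
    ring
  have hau0 : algebraMap k K u ≠ 0 := (_root_.map_ne_zero _).mpr hu0
  refine ⟨u * q ^ n, ?_, ?_⟩
  · rw [hfact]
    exact mul_ne_zero hau0 (mul_ne_zero hw0 ht0)
  · rw [hfact, Q.ord_mul hau0 (mul_ne_zero hw0 ht0), Q.ord_mul hw0 ht0, Q.ord_algebraMap,
      (Q.ord_eq_zero_iff hw0).mpr hw1, htQ]
    norm_num

theorem cusp_unique_aux [IsAlgClosed k] [CharZero k] (hK : IsFunctionField k K)
    (hg0 : genus k K = 0) (V : Submodule k K) (D : Divisor k K) (hV : V ≤ L D) {r : ℕ}
    (hVr : Module.finrank k ↥V = r + 1) {Q : Place k K} (hcusp : r ≤ vdim V D Q 2)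
    {P P' : Place k K} (hPP' : P ≠ P') (hP : P ≠ Q) (hP' : P' ≠ Q) {f g : K} (hf : f ∈ V)
    (hg : g ∈ V) (hf0 : f ≠ 0) (hg0' : g ≠ 0) (hfQ : Q.ord f = -D Q) {n : ℕ} (hn : 1 ≤ n)
    (hdiv : div k (g / f) = Finsupp.single P (n : ℤ) - Finsupp.single P' (n : ℤ)) : False := by
  classical
  obtain ⟨c, hc0, hc1⟩ := ord_sub_const_eq_one hK hg0 hPP' hP.symm hP'.symm
    (div_ne_zero hg0' hf0) hn hdiv
  set s : K := g - c • f with hs
  have hsV : s ∈ V := Submodule.sub_mem _ hg (Submodule.smul_mem _ _ hf)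
  have hsf : s = f * (g / f - algebraMap k K c) := by
    rw [hs, Algebra.smul_def, mul_sub, mul_div_cancel₀ _ hf0]; ring
  have hs0 : s ≠ 0 := by rw [hsf]; exact mul_ne_zero hf0 hc0
  have hsQ : Q.ord s = -D Q + 1 := by
    rw [hsf, Q.ord_mul hf0 hc0, hfQ, hc1]
  have hsL : s ∈ L D := hV hsV
  have hs1 : s ∈ L (D - Finsupp.single Q 1) := by
    rw [mem_L] at hsL ⊢
    intro R
    rw [Finsupp.sub_apply, Finsupp.single_apply]
    split_ifs with hQR
    · subst hQR
      rw [Q.val_le_exp_iff hs0, hsQ]; omega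
    · rw [sub_zero]; exact hsL R
  have hf1 : f ∉ L (D - Finsupp.single Q 1) := by
    intro hfL
    rw [mem_L] at hfL
    have := hfL Q
    rw [Finsupp.sub_apply, Finsupp.single_eq_same, Q.val_le_exp_iff hf0, hfQ] at this
    omega
  haveI := finiteDimensional_L hK D
  haveI : FiniteDimensional k ↥V := Submodule.finiteDimensional_of_le hV
  have hlt : V ⊓ L (D - Finsupp.single Q 1) < V := by
    refine lt_of_le_of_ne inf_le_left (fun heq => hf1 ?_)
    have : f ∈ V ⊓ L (D - Finsupp.single Q 1) := by rw [heq]; exact hf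
    exact this.2
  have h1 := Submodule.finrank_lt_finrank_of_lt hlt
  have hle : V ⊓ L (D - Finsupp.single Q 2) ≤ V ⊓ L (D - Finsupp.single Q 1) :=
    inf_le_inf_left V (L_mono (sub_single_le_sub_single D Q (by norm_num)))
  haveI := finiteDimensional_L hK (D - Finsupp.single Q 1)
  have heq : V ⊓ L (D - Finsupp.single Q 2) = V ⊓ L (D - Finsupp.single Q 1) :=
    Submodule.eq_of_le_of_finrank_le hle (by unfold vdim at hcusp; omega)
  have hs2 : s ∈ V ⊓ L (D - Finsupp.single Q 2) := by rw [heq]; exact ⟨hsV, hs1⟩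
  have hs2' : s ∈ L (D - Finsupp.single Q 2) := hs2.2
  rw [mem_L] at hs2'
  have := hs2' Q
  rw [Finsupp.sub_apply, Finsupp.single_eq_same, Q.val_le_exp_iff hs0, hsQ] at this
  omega

/-- S18175. -/
theorem cusp_unique [IsAlgClosed k] [CharZero k] (hK : IsFunctionField k K)
    (hg0 : genus k K = 0) (V : Submodule k K) (D : Divisor k K) (hV : V ≤ L D) {r : ℕ}
    (hVr : Module.finrank k ↥V = r + 1) {Q : Place k K} (hcusp : r ≤ vdim V D Q 2)
    {P P' : Place k K} (hP : P ≠ Q) (hP' : P' ≠ Q) {f g : K} (hf : f ∈ V) (hg : g ∈ V)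
    (hf0 : f ≠ 0) (hg0' : g ≠ 0)
    (hfs : ∀ R : Place k K, R ≠ P → R ≠ P' → (div k f + D) R = 0)
    (hgs : ∀ R : Place k K, R ≠ P → R ≠ P' → (div k g + D) R = 0) : ∃ c : k, g = c • f := by
  classical
  have hP1 : ∀ R : Place k K, R.deg = 1 := fun R => Place.deg_eq_one hK R
  by_contra hno
  have hfQ : Q.ord f = -D Q := by
    have := hfs Q hP.symm hP'.symm
    rw [Finsupp.add_apply, div_apply hK] at this
    omega
  have hgQ : Q.ord g = -D Q := by
    have := hgs Q hP.symm hP'.symm
    rw [Finsupp.add_apply, div_apply hK] at this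
    omega
  have hdivh : div k (g / f) = div k g - div k f := div_div hK hg0' hf0
  have hoff : ∀ R : Place k K, R ≠ P → R ≠ P' → (div k (g / f)) R = 0 := by
    intro R h1 h2
    have e1 := hfs R h1 h2
    have e2 := hgs R h1 h2
    rw [Finsupp.add_apply] at e1 e2
    rw [hdivh, Finsupp.sub_apply]
    omega
  have hdeg : Divisor.deg (div k (g / f)) = 0 := deg_div_eq_zero hK _
  have hzero : div k (g / f) = 0 → False := by
    intro h0
    apply hno
    apply exists_eq_smul_of_ord_eq hK g f hg0' hf0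
    intro R
    have : (div k (g / f)) R = 0 := by rw [h0]; rfl
    rw [hdivh, Finsupp.sub_apply, div_apply hK, div_apply hK] at this
    omega
  by_cases hPP' : P = P'
  · subst hPP'
    have hform : div k (g / f) = Finsupp.single P ((div k (g / f)) P) := by
      ext R
      rw [Finsupp.single_apply]
      split_ifs with hPR
      · rw [hPR]
      · exact hoff R (Ne.symm hPR) (Ne.symm hPR)
    rw [hform, deg_single, hP1] at hdeg
    have h0 : (div k (g / f)) P = 0 := by simpa using hdeg
    rw [h0, Finsupp.single_zero] at hform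
    exact hzero hform
  · set a : ℤ := (div k (g / f)) P with ha
    set a' : ℤ := (div k (g / f)) P' with ha'
    have hform : div k (g / f) = Finsupp.single P a + Finsupp.single P' a' := by
      ext R
      rw [Finsupp.add_apply, Finsupp.single_apply, Finsupp.single_apply]
      by_cases hPR : P = R
      · have hP'R : ¬ P' = R := fun h => hPP' (hPR.trans h.symm)
        rw [if_pos hPR, if_neg hP'R, add_zero, ha, hPR]
      · by_cases hP'R : P' = R
        · rw [if_neg hPR, if_pos hP'R, zero_add, ha', hP'R]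
        · rw [if_neg hPR, if_neg hP'R, add_zero]
          exact hoff R (Ne.symm hPR) (Ne.symm hP'R)
    have hsum : a + a' = 0 := by
      have h2 := hdeg
      rw [hform, deg_add, deg_single, deg_single, hP1, hP1] at h2
      simpa using h2
    rcases lt_trichotomy a 0 with hneg | h0 | hpos
    · -- swap the roles of `f` and `g`
      have hdiv' : div k (f / g) =
          Finsupp.single P ((-a).toNat : ℤ) - Finsupp.single P' ((-a).toNat : ℤ) := by
        rw [div_div hK hf0 hg0', ← neg_sub, ← hdivh, hform]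
        have e : ((-a).toNat : ℤ) = -a := Int.toNat_of_nonneg (by omega)
        rw [e]
        have e' : a' = -a := by omega
        rw [e', Finsupp.single_neg, Finsupp.single_neg]
        abel
      exact cusp_unique_aux hK hg0 V D hV hVr hcusp hPP' hP hP' hg hf hg0' hf0 hgQ
        (n := (-a).toNat) (by omega) hdiv'
    · apply hzero
      rw [hform]
      have e' : a' = 0 := by omega
      rw [h0, e', Finsupp.single_zero, Finsupp.single_zero, add_zero]
    · have hdiv' : div k (g / f) =
          Finsupp.single P (a.toNat : ℤ) - Finsupp.single P' (a.toNat : ℤ) := by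
        rw [hform]
        have e : (a.toNat : ℤ) = a := Int.toNat_of_nonneg (by omega)
        rw [e]
        have e' : a' = -a := by omega
        rw [e', Finsupp.single_neg]
        abel
      exact cusp_unique_aux hK hg0 V D hV hVr hcusp hPP' hP hP' hf hg hf0 hg0' hfQ
        (n := a.toNat) (by omega) hdiv'

/-- Two nodes and a cusp on a rational component. -/
theorem wsum_add_wsum_cusp_le [IsAlgClosed k] [CharZero k] (hK : IsFunctionField k K)
    (hg0 : genus k K = 0) (V : Submodule k K) (D : Divisor k K) (hV : V ≤ L D) {d r : ℕ}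
    (hD : Divisor.deg D = d) (hVr : Module.finrank k ↥V = r + 1) {Q : Place k K}
    (hcusp : r ≤ vdim V D Q 2) {A B : Place k K} (hAB : A ≠ B) (hA : A ≠ Q) (hB : B ≠ Q) :
    wsum V D A d + wsum V D B d + r ≤ (r + 1) * d := by
  classical
  by_contra hlt
  obtain ⟨a₁, a₂, hlt12, hle, s, t, hsV, htV, hs0, ht0, hs, ht⟩ :=
    exists_two_sections hK V D hV hD hVr hAB (by omega)
  have hoff : ∀ (a : ℕ) (R : Place k K), R ≠ A → R ≠ B →
      (Finsupp.single A (a : ℤ) + Finsupp.single B ((d : ℤ) - a) : Divisor k K) R = 0 := by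
    intro a R h1 h2
    rw [Finsupp.add_apply, Finsupp.single_apply, Finsupp.single_apply, if_neg (Ne.symm h1),
      if_neg (Ne.symm h2), add_zero]
  obtain ⟨c, hc⟩ := cusp_unique hK hg0 V D hV hVr hcusp hA hB hsV htV hs0 ht0
    (fun R h1 h2 => by rw [hs]; exact hoff a₁ R h1 h2)
    (fun R h1 h2 => by rw [ht]; exact hoff a₂ R h1 h2)
  have hc0 : c ≠ 0 := by
    rintro rfl
    rw [zero_smul] at hc
    exact ht0 hc
  have h1 : (div k s + D) A = a₁ := by
    rw [hs, Finsupp.add_apply, Finsupp.single_eq_same, Finsupp.single_apply, if_neg hAB.symm,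
      add_zero]
  have h2 : (div k t + D) A = a₂ := by
    rw [ht, Finsupp.add_apply, Finsupp.single_eq_same, Finsupp.single_apply, if_neg hAB.symm,
      add_zero]
  rw [Finsupp.add_apply, div_apply hK] at h1 h2
  rw [hc, Algebra.smul_def, A.ord_mul ((_root_.map_ne_zero _).mpr hc0) hs0,
    A.ord_algebraMap] at h2
  omega

end FunFld
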