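import Mathlib
import Groth.Agent.Lib.FunFldS_helper2

/-! Function fields of one variable, part T (helper2): chains of components (limit linear
series bookkeeping). -/

open WithZero Polynomial IntermediateField

namespace FunFld

variable {k K : Type*} [Field k] [Field K] [Algebra k K]

theorem exists_place_ne (hK : IsFunctionField k K) (X : Place k K) : ∃ Y : Place k K, Y ≠ X := by
  obtain ⟨x, hx, -⟩ := hK.1
  have hx' : x ∉ Set.range (algebraMap k K) := by
    rintro ⟨c, rfl⟩
    exact hx (isAlgebraic_algebraMap c)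
  obtain ⟨⟨P, hP⟩, Q, hQ⟩ := exists_zero_and_pole hK hx'
  by_cases h : P = X
  · refine ⟨Q, fun hQX => ?_⟩
    rw [hQX, ← h] at hQ
    omega
  · exact ⟨P, h⟩

/-! ### Chain arithmetic on `ℕ`-indexed sequences -/

theorem chain_acc (N : ℕ) (a b t : ℕ → ℕ) (M h : ℕ)
    (H1 : ∀ l, l < N → b l + a (l + 1) = M)
    (H2 : ∀ i, 0 < i → i < N → a i + b i + t i ≤ M)
    (H3 : 0 < N → b 0 + t 0 + h ≤ M) :
    ∀ i, 0 < i → i ≤ N → h + ∑ j ∈ Finset.range i, t j ≤ a i := by
  intro i
  induction i with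
  | zero => intro h0; omega
  | succ i ih =>
    intro _ hiN
    rcases Nat.eq_zero_or_pos i with rfl | hipos
    · have h1 := H1 0 (by omega)
      have h3 := H3 (by omega)
      simp only [zero_add, Finset.range_one, Finset.sum_singleton] at h1 ⊢
      omega
    · have h1 := ih hipos (by omega)
      have h2 := H1 i (by omega)
      have h3 := H2 i hipos (by omega)
      rw [Finset.sum_range_succ]
      omega

/-- Extension of a `Fin (N+1)`-indexed sequence to `ℕ`. -/
def extFin {N : ℕ} (f : Fin (N + 1) → ℕ) : ℕ → ℕ :=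
  fun j => if hj : j < N + 1 then f ⟨j, hj⟩ else 0

theorem extFin_val {N : ℕ} (f : Fin (N + 1) → ℕ) (i : Fin (N + 1)) : extFin f i = f i := by
  unfold extFin
  rw [dif_pos i.2]

theorem extFin_of_lt {N : ℕ} (f : Fin (N + 1) → ℕ) {j : ℕ} (hj : j < N + 1) :
    extFin f j = f ⟨j, hj⟩ := by
  unfold extFin
  rw [dif_pos hj]

theorem sum_extFin {N : ℕ} (f : Fin (N + 1) → ℕ) :
    ∑ j ∈ Finset.range (N + 1), extFin f j = ∑ j, f j := by
  rw [← Fin.sum_univ_eq_sum_range (fun j => extFin f j) (N + 1)]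
  exact Finset.sum_congr rfl (fun i _ => extFin_val f i)

theorem chain_total_fin (N : ℕ) (a b t : Fin (N + 1) → ℕ) (M h : ℕ)
    (H1 : ∀ l : Fin N, b l.castSucc + a l.succ = M)
    (H2 : ∀ i : Fin (N + 1), 0 < (i : ℕ) → (i : ℕ) < N → a i + b i + t i ≤ M)
    (H3 : 0 < N → b 0 + t 0 + h ≤ M)
    (H4 : 0 < N → a (Fin.last N) + t (Fin.last N) + h ≤ M)
    (H5 : N = 0 → t 0 + 2 * h ≤ M) :
    ∑ j, t j + 2 * h ≤ M := by
  rw [← sum_extFin t]
  rcases Nat.eq_zero_or_pos N with hN0 | hN
  · subst hN0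
    have := H5 rfl
    simp only [zero_add, Finset.range_one, Finset.sum_singleton]
    rw [extFin_of_lt t (by omega)]
    exact this
  · have H1' : ∀ l, l < N → extFin b l + extFin a (l + 1) = M := by
      intro l hl
      rw [extFin_of_lt b (by omega), extFin_of_lt a (by omega)]
      exact H1 ⟨l, hl⟩
    have H2' : ∀ i, 0 < i → i < N → extFin a i + extFin b i + extFin t i ≤ M := by
      intro i hi0 hiN
      rw [extFin_of_lt a (by omega), extFin_of_lt b (by omega), extFin_of_lt t (by omega)]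
      exact H2 ⟨i, by omega⟩ hi0 hiN
    have H3' : 0 < N → extFin b 0 + extFin t 0 + h ≤ M := by
      intro h0
      rw [extFin_of_lt b (by omega), extFin_of_lt t (by omega)]
      exact H3 h0
    have hacc := chain_acc N (extFin a) (extFin b) (extFin t) M h H1' H2' H3' N hN le_rfl
    have h4 := H4 hN
    rw [extFin_of_lt a (by omega)] at hacc
    rw [Finset.sum_range_succ, extFin_of_lt t (by omega)]
    have e : (⟨N, by omega⟩ : Fin (N + 1)) = Fin.last N := rfl
    rw [e] at hacc ⊢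
    omega

theorem chain_inner_fin (N : ℕ) (a b t : Fin (N + 1) → ℕ) (M h : ℕ)
    (H1 : ∀ l : Fin N, b l.castSucc + a l.succ = M)
    (H2 : ∀ i : Fin (N + 1), 0 < (i : ℕ) → (i : ℕ) < N → a i + b i + t i ≤ M)
    (H3 : 0 < N → b 0 + t 0 + h ≤ M)
    (H4 : 0 < N → a (Fin.last N) + t (Fin.last N) + h ≤ M)
    (i : Fin (N + 1)) (hi0 : 0 < (i : ℕ)) (hiN : (i : ℕ) < N) :
    ∑ j ∈ Finset.univ.erase i, t j + 2 * h ≤ a i + b i := by
  have hN : 0 < N := by omega
  have H1' : ∀ l, l < N → extFin b l + extFin a (l + 1) = M := by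
    intro l hl
    rw [extFin_of_lt b (by omega), extFin_of_lt a (by omega)]
    exact H1 ⟨l, hl⟩
  have H2' : ∀ i, 0 < i → i < N → extFin a i + extFin b i + extFin t i ≤ M := by
    intro i hi0 hiN
    rw [extFin_of_lt a (by omega), extFin_of_lt b (by omega), extFin_of_lt t (by omega)]
    exact H2 ⟨i, by omega⟩ hi0 hiN
  have H3' : 0 < N → extFin b 0 + extFin t 0 + h ≤ M := by
    intro h0
    rw [extFin_of_lt b (by omega), extFin_of_lt t (by omega)]
    exact H3 h0
  have hleft := chain_acc N (extFin a) (extFin b) (extFin t) M h H1' H2' H3' i hi0 (by omega)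
  rw [extFin_val a i] at hleft
  -- reversed chain
  have R1 : ∀ l, l < N → (fun j => extFin a (N - j)) l + (fun j => extFin b (N - j)) (l + 1) = M := by
    intro l hl
    have := H1' (N - (l + 1)) (by omega)
    have e : N - (l + 1) + 1 = N - l := by omega
    rw [e] at this
    show extFin a (N - l) + extFin b (N - (l + 1)) = M
    omega
  have R2 : ∀ j, 0 < j → j < N → (fun j => extFin b (N - j)) j + (fun j => extFin a (N - j)) j +
      (fun j => extFin t (N - j)) j ≤ M := by
    intro j hj0 hjN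
    have := H2' (N - j) (by omega) (by omega)
    show extFin b (N - j) + extFin a (N - j) + extFin t (N - j) ≤ M
    omega
  have R3 : 0 < N → (fun j => extFin a (N - j)) 0 + (fun j => extFin t (N - j)) 0 + h ≤ M := by
    intro h0
    show extFin a (N - 0) + extFin t (N - 0) + h ≤ M
    rw [Nat.sub_zero, extFin_of_lt a (by omega), extFin_of_lt t (by omega)]
    exact H4 h0
  have hright := chain_acc N (fun j => extFin b (N - j)) (fun j => extFin a (N - j))
    (fun j => extFin t (N - j)) M h R1 R2 R3 (N - i) (by omega) (by omega)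
  have e1 : N - (N - (i : ℕ)) = i := by omega
  rw [e1, extFin_val b i] at hright
  -- total sum decomposition
  have htot : ∑ j, t j = t i + ∑ j ∈ Finset.univ.erase i, t j :=
    (Finset.add_sum_erase Finset.univ t (Finset.mem_univ i)).symm
  have hsplit : ∑ j ∈ Finset.range (N + 1), extFin t j =
      ∑ j ∈ Finset.range i, extFin t j + extFin t i +
        ∑ j ∈ Finset.range (N - i), extFin t (N - j) := by
    rw [← Finset.sum_range_add_sum_Ico (extFin t) (show (i : ℕ) + 1 ≤ N + 1 by omega),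
      Finset.sum_range_succ, Finset.sum_Ico_eq_sum_range]
    congr 1
    have e2 : N + 1 - ((i : ℕ) + 1) = N - i := by omega
    rw [e2, ← Finset.sum_range_reflect (fun j => extFin t ((i : ℕ) + 1 + j)) (N - i)]
    apply Finset.sum_congr rfl
    intro j hj
    rw [Finset.mem_range] at hj
    show extFin t ((i : ℕ) + 1 + (N - i - 1 - j)) = extFin t (N - j)
    congr 1
    omega
  rw [sum_extFin t, htot, extFin_val t i] at hsplit
  omega

/-! ### The backbone -/

theorem backbone_facts [IsAlgClosed k] [CharZero k] (N : ℕ) (Z : Fin (N + 1) → Type*)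
    [∀ i, Field (Z i)] [∀ i, Algebra k (Z i)]
    (hZ : ∀ i, IsFunctionField k (Z i)) (hrat : ∀ i, genus k (Z i) = 0)
    (d r : ℕ) (D : ∀ i, Divisor k (Z i)) (hD : ∀ i, Divisor.deg (D i) = d)
    (V : ∀ i, Submodule k (Z i)) (hV : ∀ i, V i ≤ L (D i))
    (hVr : ∀ i, Module.finrank k ↥(V i) = r + 1)
    (A B : ∀ i, Place k (Z i))
    (hAB : ∀ i : Fin (N + 1), 0 < (i : ℕ) → (i : ℕ) < N → A i ≠ B i)
    (hcomp : ∀ (l : Fin N) (m : ℕ), m ≤ d + 1 →
      vdim (V l.castSucc) (D l.castSucc) (B l.castSucc) m +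
        vdim (V l.succ) (D l.succ) (A l.succ) ((d : ℤ) + 1 - m) = r + 1)
    (T : Finset (Fin (N + 1))) (Q : ∀ i, Place k (Z i))
    (hQA : ∀ i ∈ T, 0 < (i : ℕ) → Q i ≠ A i) (hQB : ∀ i ∈ T, (i : ℕ) < N → Q i ≠ B i)
    (hcusp : ∀ i ∈ T, r ≤ vdim (V i) (D i) (Q i) 2) :
    (∀ l : Fin N, wsum (V l.castSucc) (D l.castSucc) (B l.castSucc) d +
        wsum (V l.succ) (D l.succ) (A l.succ) d = (r + 1) * d) ∧
    (∀ i : Fin (N + 1), 0 < (i : ℕ) → (i : ℕ) < N →
        wsum (V i) (D i) (A i) d + wsum (V i) (D i) (B i) d + (if i ∈ T then r else 0) ≤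
          (r + 1) * d) ∧
    (∀ (i : Fin (N + 1)) (X : Place k (Z i)), (i ∈ T → Q i ≠ X) →
        wsum (V i) (D i) X d + (if i ∈ T then r else 0) + r * (r + 1) / 2 ≤ (r + 1) * d) := by
  refine ⟨fun l => ?_, fun i hi0 hiN => ?_, fun i X hX => ?_⟩
  · exact sum_pair_eq d (r + 1) (fun m => vdim (V l.castSucc) (D l.castSucc) (B l.castSucc) m)
      (fun m => vdim (V l.succ) (D l.succ) (A l.succ) m) (fun m hm => hcomp l m hm)
  · by_cases hiT : i ∈ T
    · rw [if_pos hiT]
      exact wsum_add_wsum_cusp_le (hZ i) (hrat i) (V i) (D i) (hV i) (hD i) (hVr i)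
        (hcusp i hiT) (hAB i hi0 hiN) (hQA i hiT hi0).symm (hQB i hiT hiN).symm
    · rw [if_neg hiT, add_zero]
      have := wsum_add_wsum_le (hZ i) (V i) (D i) (hV i) (hD i) (hAB i hi0 hiN)
      rw [hVr i] at this
      exact this
  · by_cases hiT : i ∈ T
    · rw [if_pos hiT]
      have h1 := wsum_add_wsum_le (hZ i) (V i) (D i) (hV i) (hD i) (hX hiT)
      have h3 := cusp_le_wsum (hZ i) (V i) (D i) (Q i) (hV i) (hD i) (hVr i) (hcusp i hiT)
      rw [hVr i] at h1
      omega
    · rw [if_neg hiT, add_zero]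
      obtain ⟨Y, hY⟩ := exists_place_ne (hZ i) X
      have h1 := wsum_add_wsum_le (hZ i) (V i) (D i) (hV i) (hD i) hY
      have h3 := tri_le_wsum (hZ i) (V i) (D i) Y (hV i) (hD i) (hVr i)
      rw [hVr i] at h1
      omega

end FunFld
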