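import Mathlib

/-! Wronskians of polynomials and the Plücker inequality for spaces of polynomials (helper2). -/

open Polynomial

namespace FunFld.PolyWr

variable {k : Type*} [Field k]

/-- The Wronskian matrix. -/
noncomputable def wmat {n : ℕ} (f : Fin n → k[X]) : Matrix (Fin n) (Fin n) k[X] :=
  Matrix.of fun i j => derivative^[(i : ℕ)] (f j)

theorem wmat_apply {n : ℕ} (f : Fin n → k[X]) (i j : Fin n) :
    wmat f i j = derivative^[(i : ℕ)] (f j) := rfl

/-- The Wronskian. -/
noncomputable def wr {n : ℕ} (f : Fin n → k[X]) : k[X] := (wmat f).det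

theorem wr_mul {n : ℕ} (f : Fin n → k[X]) (A : Matrix (Fin n) (Fin n) k) :
    wr (fun j => ∑ l, A l j • f l) = C A.det * wr f := by
  have h : wmat (fun j => ∑ l, A l j • f l) = wmat f * A.map C := by
    apply Matrix.ext
    intro i j
    rw [wmat_apply, Matrix.mul_apply, iterate_derivative_sum]
    apply Finset.sum_congr rfl
    intro l _
    rw [iterate_derivative_smul, wmat_apply, Matrix.map_apply, smul_eq_C_mul, mul_comm]
  unfold wr
  rw [h, Matrix.det_mul, mul_comm]
  congr 1
  exact (RingHom.map_det C A).symm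

theorem dvd_wr_of_span {n : ℕ} (f g : Fin n → k[X])
    (hg : ∀ j, g j ∈ Submodule.span k (Set.range f)) {q : k[X]} (hq : q ∣ wr f) : q ∣ wr g := by
  choose B hB using fun j => (Submodule.mem_span_range_iff_exists_fun k).mp (hg j)
  have h : g = fun j => ∑ l, (Matrix.of fun l j => B j l) l j • f l := by
    funext j
    exact (hB j).symm
  rw [h, wr_mul]
  exact Dvd.dvd.mul_left hq _

theorem pow_dvd_wr {n : ℕ} (f : Fin n → k[X]) (a : k) (m : Fin n → ℕ)
    (h : ∀ j, (X - C a) ^ m j ∣ f j) :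
    (X - C a) ^ (∑ j, m j - ∑ j : Fin n, (j : ℕ)) ∣ wr f := by
  unfold wr
  rw [Matrix.det_apply']
  apply Finset.dvd_sum
  intro σ _
  apply Dvd.dvd.mul_left
  have h1 : ∀ i, (X - C a) ^ (m i - (σ i : ℕ)) ∣ wmat f (σ i) i := fun i =>
    pow_sub_dvd_iterate_derivative_of_pow_dvd _ (h i)
  have h2 : (∏ i, (X - C a) ^ (m i - (σ i : ℕ))) ∣ ∏ i, wmat f (σ i) i :=
    Finset.prod_dvd_prod_of_dvd _ _ (fun i _ => h1 i)
  rw [Finset.prod_pow_eq_pow_sum] at h2
  refine (pow_dvd_pow _ ?_).trans h2
  have h3 : ∑ i, (σ i : ℕ) = ∑ j : Fin n, (j : ℕ) := Equiv.sum_comp σ (fun j => (j : ℕ))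
  have h4 : ∑ i, m i ≤ ∑ i, (m i - (σ i : ℕ)) + ∑ i, (σ i : ℕ) := by
    rw [← Finset.sum_add_distrib]
    exact Finset.sum_le_sum (fun i _ => le_tsub_add)
  omega

theorem natDegree_wr_le {n : ℕ} (f : Fin n → k[X]) (e : Fin n → ℕ)
    (h : ∀ j, (f j).natDegree ≤ e j) :
    (wr f).natDegree ≤ ∑ j, e j - ∑ j : Fin n, (j : ℕ) := by
  unfold wr
  rw [Matrix.det_apply']
  apply natDegree_sum_le_of_forall_le
  intro σ _
  by_cases hσ : ∀ j, (σ j : ℕ) ≤ e j
  · have h3 : ∑ j, (σ j : ℕ) = ∑ j : Fin n, (j : ℕ) := Equiv.sum_comp σ (fun j => (j : ℕ))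
    refine natDegree_mul_le.trans ?_
    rw [natDegree_intCast, zero_add]
    refine (natDegree_prod_le _ _).trans ?_
    rw [← h3, ← Finset.sum_tsub_distrib _ (fun i _ => hσ i)]
    apply Finset.sum_le_sum
    intro i _
    rw [wmat_apply]
    exact (natDegree_iterate_derivative _ _).trans (Nat.sub_le_sub_right (h i) _)
  · push Not at hσ
    obtain ⟨j, hj⟩ := hσ
    have : wmat f (σ j) j = 0 := by
      rw [wmat_apply]
      exact iterate_derivative_eq_zero (lt_of_le_of_lt (h j) hj)
    rw [Finset.prod_eq_zero (f := fun i => wmat f (σ i) i) (Finset.mem_univ j) this, mul_zero,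
      natDegree_zero]
    exact Nat.zero_le _

theorem coeff_prod_of_le {ι : Type*} (s : Finset ι) (p : ι → k[X]) (d : ι → ℕ)
    (h : ∀ i ∈ s, (p i).natDegree ≤ d i) :
    (∏ i ∈ s, p i).coeff (∑ i ∈ s, d i) = ∏ i ∈ s, (p i).coeff (d i) := by
  classical
  induction s using Finset.induction_on with
  | empty => simp
  | insert a s ha ih =>
    have h1 : (p a).natDegree ≤ d a := h a (Finset.mem_insert_self a s)
    have h' : ∀ i ∈ s, (p i).natDegree ≤ d i := fun i hi => h i (Finset.mem_insert_of_mem hi)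
    have h2 : (∏ i ∈ s, p i).natDegree ≤ ∑ i ∈ s, d i :=
      (natDegree_prod_le s p).trans (Finset.sum_le_sum h')
    rw [Finset.prod_insert ha, Finset.sum_insert ha, Finset.prod_insert ha,
      coeff_mul_add_eq_of_natDegree_le h1 h2, ih h']

theorem coeff_prod_iterate_derivative {n : ℕ} (g : Fin n → k[X]) (σ : Equiv.Perm (Fin n)) :
    (∏ j, derivative^[(σ j : ℕ)] (g j)).coeff (∑ j, (g j).natDegree - ∑ j : Fin n, (j : ℕ)) =
      ∏ j, ((((g j).natDegree.descFactorial (σ j : ℕ) : ℕ) : k) * (g j).leadingCoeff) := by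
  by_cases hσ : ∀ j, (σ j : ℕ) ≤ (g j).natDegree
  · have h3 : ∑ j, (σ j : ℕ) = ∑ j : Fin n, (j : ℕ) := Equiv.sum_comp σ (fun j => (j : ℕ))
    have h4 : ∑ j, (g j).natDegree - ∑ j : Fin n, (j : ℕ) =
        ∑ j, ((g j).natDegree - (σ j : ℕ)) := by
      rw [Finset.sum_tsub_distrib _ (fun j _ => hσ j), h3]
    rw [h4, coeff_prod_of_le _ _ _ (fun j _ => natDegree_iterate_derivative _ _)]
    apply Finset.prod_congr rfl
    intro j _
    rw [coeff_iterate_derivative, Nat.sub_add_cancel (hσ j), nsmul_eq_mul]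
    rfl
  · push Not at hσ
    obtain ⟨j, hj⟩ := hσ
    rw [Finset.prod_eq_zero (Finset.mem_univ j) (iterate_derivative_eq_zero hj), coeff_zero]
    symm
    apply Finset.prod_eq_zero (Finset.mem_univ j)
    rw [Nat.descFactorial_eq_zero_iff_lt.mpr hj, Nat.cast_zero, zero_mul]

theorem wr_ne_zero [CharZero k] {n : ℕ} (g : Fin n → k[X]) (hg : ∀ j, g j ≠ 0)
    (hinj : Function.Injective fun j => (g j).natDegree) :
    wr g ≠ 0 ∧ ∑ j : Fin n, (j : ℕ) ≤ ∑ j, (g j).natDegree := by
  classical
  set M' : Matrix (Fin n) (Fin n) k :=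
    Matrix.of fun i j => (((g j).natDegree.descFactorial (i : ℕ) : ℕ) : k) with hM'
  have hdet : M'.det ≠ 0 := by
    have h1 := Matrix.det_eval_matrixOfPolynomials_eq_det_vandermonde
      (fun j : Fin n => ((g j).natDegree : k)) (fun i : Fin n => descPochhammer k (i : ℕ))
      (fun i => descPochhammer_natDegree k i) (fun i => monic_descPochhammer k i)
    have h2 : (Matrix.of fun i j : Fin n =>
        ((fun i : Fin n => descPochhammer k (i : ℕ)) j).eval
          ((fun j : Fin n => ((g j).natDegree : k)) i)) = M'.transpose := by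
      ext i j
      rw [Matrix.of_apply, Matrix.transpose_apply, hM', Matrix.of_apply]
      exact descPochhammer_eval_eq_descFactorial k _ _
    rw [h2, Matrix.det_transpose] at h1
    rw [← h1]
    exact Matrix.det_vandermonde_ne_zero_iff.mpr (fun a b hab => hinj (Nat.cast_injective hab))
  have hh : ∑ j : Fin n, (j : ℕ) ≤ ∑ j, (g j).natDegree := by
    by_contra hlt
    apply hdet
    rw [Matrix.det_apply']
    apply Finset.sum_eq_zero
    intro σ _
    have hex : ∃ j, (g j).natDegree < (σ j : ℕ) := by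
      by_contra hall
      push Not at hall
      have h3 : ∑ j, (σ j : ℕ) = ∑ j : Fin n, (j : ℕ) := Equiv.sum_comp σ (fun j => (j : ℕ))
      have h4 : ∑ j, (σ j : ℕ) ≤ ∑ j, (g j).natDegree := Finset.sum_le_sum (fun j _ => hall j)
      omega
    obtain ⟨j, hj⟩ := hex
    have hz : M' (σ j) j = 0 := by
      rw [hM', Matrix.of_apply, Nat.descFactorial_eq_zero_iff_lt.mpr hj, Nat.cast_zero]
    rw [Finset.prod_eq_zero (f := fun i => M' (σ i) i) (Finset.mem_univ j) hz, mul_zero]
  have hcoeff : (wr g).coeff (∑ j, (g j).natDegree - ∑ j : Fin n, (j : ℕ)) =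
      (∏ j, (g j).leadingCoeff) * M'.det := by
    unfold wr
    rw [Matrix.det_apply', Matrix.det_apply', Finset.mul_sum, finsetSum_coeff]
    apply Finset.sum_congr rfl
    intro σ _
    have e1 : (∏ i, wmat g (σ i) i) = ∏ j, derivative^[(σ j : ℕ)] (g j) := rfl
    have e2 : ∏ i, M' (σ i) i = ∏ j, (((g j).natDegree.descFactorial (σ j : ℕ) : ℕ) : k) := rfl
    rw [e1, e2, ← C_eq_intCast, coeff_C_mul, coeff_prod_iterate_derivative,
      Finset.prod_mul_distrib]
    ring
  refine ⟨fun h0 => ?_, hh⟩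
  rw [h0, coeff_zero] at hcoeff
  have hlc : ∏ j, (g j).leadingCoeff ≠ 0 :=
    Finset.prod_ne_zero_iff.mpr (fun j _ => leadingCoeff_ne_zero.mpr (hg j))
  exact mul_ne_zero hlc hdet hcoeff.symm

/-! ### Adapted families for filtrations -/

theorem sum_ite_lt (B c : ℕ) :
    ∑ i ∈ Finset.range B, (if i < c then 1 else 0) = min c B := by
  induction B with
  | zero => simp
  | succ B ih =>
    rw [Finset.sum_range_succ, ih]
    split_ifs <;> omega

theorem exists_adapted {M : Type*} [AddCommGroup M] [Module k M] (Φ : ℕ → Submodule k M)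
    (hΦ : Antitone Φ) (B : ℕ) :
    ∀ (n : ℕ) (W : Submodule k M), FiniteDimensional k ↥W → Module.finrank k ↥W = n → W ≤ Φ 0 →
      W ⊓ Φ (B + 1) = ⊥ →
      (∀ i, Module.finrank k ↥(W ⊓ Φ i) ≤ Module.finrank k ↥(W ⊓ Φ (i + 1)) + 1) →
      ∃ (f : Fin n → M) (m : Fin n → ℕ), (∀ j, f j ∈ W) ∧ (∀ j, f j ∈ Φ (m j)) ∧
        (∀ j, f j ∉ Φ (m j + 1)) ∧ Function.Injective m ∧
        W ≤ Submodule.span k (Set.range f) ∧
        ∑ j, m j = ∑ i ∈ Finset.range B, Module.finrank k ↥(W ⊓ Φ (i + 1)) := by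
  classical
  intro n
  induction n with
  | zero =>
    intro W hfd hW _ _ _
    haveI := hfd
    have hbot : W = ⊥ := Submodule.finrank_eq_zero.mp hW
    refine ⟨Fin.elim0, Fin.elim0, fun j => j.elim0, fun j => j.elim0, fun j => j.elim0,
      fun a => a.elim0, ?_, ?_⟩
    · rw [hbot]; exact bot_le
    · rw [Finset.univ_eq_empty, Finset.sum_empty]
      symm
      apply Finset.sum_eq_zero
      intro i _
      rw [hbot, bot_inf_eq]
      exact finrank_bot k M
  | succ n ih =>
    intro W hfd hW hW0 hWB hstep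
    haveI := hfd
    have hWne : W ≠ ⊥ := by
      intro h
      rw [h, finrank_bot] at hW
      omega
    have hnB : ¬ W ≤ Φ (B + 1) := fun h => hWne (by
      rw [← hWB]; exact (inf_eq_left.mpr h).symm)
    obtain ⟨i₀, hi₀B, hWi₀, hnW⟩ : ∃ i₀, i₀ ≤ B ∧ W ≤ Φ i₀ ∧ ¬ W ≤ Φ (i₀ + 1) := by
      refine ⟨Nat.findGreatest (fun i => W ≤ Φ i) B, Nat.findGreatest_le B,
        Nat.findGreatest_spec (P := fun i => W ≤ Φ i) (Nat.zero_le B) hW0, ?_⟩
      by_cases hlt : Nat.findGreatest (fun i => W ≤ Φ i) B + 1 ≤ B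
      · exact Nat.findGreatest_is_greatest (P := fun i => W ≤ Φ i) (Nat.lt_succ_self _) hlt
      · have h1 := Nat.findGreatest_le (P := fun i => W ≤ Φ i) B
        have : Nat.findGreatest (fun i => W ≤ Φ i) B = B := by omega
        rw [this]; exact hnB
    obtain ⟨W', hW'⟩ : ∃ W' : Submodule k M, W' = W ⊓ Φ (i₀ + 1) := ⟨_, rfl⟩
    have hW'le : W' ≤ W := by rw [hW']; exact inf_le_left
    have hW'Φ : W' ≤ Φ (i₀ + 1) := by rw [hW']; exact inf_le_right
    have hW'lt : W' < W := lt_of_le_of_ne hW'le (fun h => hnW (by rw [← h]; exact hW'Φ))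
    have hfin' : Module.finrank k ↥W' = n := by
      have h1 := Submodule.finrank_lt_finrank_of_lt hW'lt
      have h2 := hstep i₀
      rw [inf_eq_left.mpr hWi₀, ← hW'] at h2
      omega
    have hW'i : ∀ i, i₀ + 1 ≤ i → W' ⊓ Φ i = W ⊓ Φ i := by
      intro i hi
      rw [hW', inf_assoc, inf_eq_right.mpr (hΦ hi)]
    have hW'i' : ∀ i, i ≤ i₀ + 1 → W' ⊓ Φ i = W' := by
      intro i hi
      exact inf_eq_left.mpr (hW'Φ.trans (hΦ hi))
    have hWi' : ∀ i, i ≤ i₀ → W ⊓ Φ i = W := fun i hi => inf_eq_left.mpr (hWi₀.trans (hΦ hi))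
    obtain ⟨f', m', hf'W, hf'Φ, hf'n, hm'inj, hspan', hsum'⟩ :=
      ih W' (Submodule.finiteDimensional_of_le hW'le) hfin' (hW'le.trans hW0)
        (by rw [hW'i (B + 1) (by omega)]; exact hWB)
        (by
          intro i
          by_cases hi : i₀ + 1 ≤ i
          · rw [hW'i i hi, hW'i (i + 1) (by omega)]; exact hstep i
          · rw [hW'i' i (by omega), hW'i' (i + 1) (by omega)]; omega)
    obtain ⟨p, hpW, hpn⟩ := SetLike.not_le_iff_exists.mp hnW
    have hm'ge : ∀ j, i₀ + 1 ≤ m' j := by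
      intro j
      by_contra hlt
      apply hf'n j
      exact hΦ (show m' j + 1 ≤ i₀ + 1 by omega) (hW'Φ (hf'W j))
    refine ⟨(Fin.cons p f' : Fin (n + 1) → M), (Fin.cons i₀ m' : Fin (n + 1) → ℕ),
      ?_, ?_, ?_, ?_, ?_, ?_⟩
    · intro j
      refine Fin.cases ?_ (fun j => ?_) j
      · rw [Fin.cons_zero]; exact hpW
      · rw [Fin.cons_succ]; exact hW'le (hf'W j)
    · intro j
      refine Fin.cases ?_ (fun j => ?_) j
      · rw [Fin.cons_zero, Fin.cons_zero]; exact hWi₀ hpW
      · rw [Fin.cons_succ, Fin.cons_succ]; exact hf'Φ j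
    · intro j
      refine Fin.cases ?_ (fun j => ?_) j
      · rw [Fin.cons_zero, Fin.cons_zero]; exact hpn
      · rw [Fin.cons_succ, Fin.cons_succ]; exact hf'n j
    · rw [Fin.cons_injective_iff]
      refine ⟨?_, hm'inj⟩
      rintro ⟨j, hj⟩
      have := hm'ge j
      omega
    · have hpsp : Submodule.span k {p} ≤ W := (Submodule.span_singleton_le_iff_mem p W).mpr hpW
      have hsup : W' ⊔ Submodule.span k {p} = W := by
        apply Submodule.eq_of_le_of_finrank_le (sup_le hW'le hpsp)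
        have hlt : W' < W' ⊔ Submodule.span k {p} := by
          refine lt_of_le_of_ne le_sup_left (fun h => hpn ?_)
          have : p ∈ W' := by
            rw [h]; exact Submodule.mem_sup_right (Submodule.mem_span_singleton_self p)
          exact hW'Φ this
        haveI : FiniteDimensional k ↥(W' ⊔ Submodule.span k {p}) :=
          Submodule.finiteDimensional_of_le (sup_le hW'le hpsp)
        have := Submodule.finrank_lt_finrank_of_lt hlt
        omega
      rw [Fin.range_cons, Submodule.span_insert, ← hsup, sup_comm W' (Submodule.span k {p})]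
      exact sup_le_sup_left hspan' _
    · rw [Fin.sum_univ_succ, Fin.cons_zero]
      simp only [Fin.cons_succ]
      rw [hsum']
      have key : ∀ i ∈ Finset.range B, Module.finrank k ↥(W ⊓ Φ (i + 1)) =
          Module.finrank k ↥(W' ⊓ Φ (i + 1)) + (if i < i₀ then 1 else 0) := by
        intro i _
        by_cases hi : i < i₀
        · rw [if_pos hi, hWi' (i + 1) (by omega), hW'i' (i + 1) (by omega), hW, hfin']
        · rw [if_neg hi, add_zero, hW'i (i + 1) (by omega)]
      rw [Finset.sum_congr rfl key, Finset.sum_add_distrib, sum_ite_lt, min_eq_left hi₀B]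
      omega

/-! ### The filtrations -/

/-- Polynomials divisible by `(X - a)^i`, as a `k`-subspace. -/
noncomputable def rootFil (a : k) (i : ℕ) : Submodule k k[X] :=
  (Ideal.span {(X - C a) ^ i}).restrictScalars k

theorem mem_rootFil {a : k} {i : ℕ} {p : k[X]} : p ∈ rootFil a i ↔ (X - C a) ^ i ∣ p := by
  unfold rootFil
  rw [Submodule.restrictScalars_mem, Ideal.mem_span_singleton]

theorem rootFil_antitone (a : k) : Antitone (rootFil a) := by
  intro i j hij p hp
  rw [mem_rootFil] at hp ⊢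
  exact (pow_dvd_pow _ hij).trans hp

/-- Order of vanishing at infinity at least `i`, as a section of `O(N)`. -/
noncomputable def degFil (N : ℕ) (i : ℕ) : Submodule k k[X] := degreeLT k (N + 1 - i)

theorem degFil_antitone (N : ℕ) : Antitone (degFil (k := k) N) := by
  intro i j hij
  exact degreeLT_mono (by omega)

theorem degreeLT_zero_eq_bot : degreeLT k 0 = ⊥ := by
  rw [eq_bot_iff]
  intro p hp
  rw [mem_degreeLT] at hp
  rw [Submodule.mem_bot]
  exact degree_eq_bot.mp (Nat.WithBot.lt_zero_iff.mp (by simpa using hp))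

/-- The Plücker inequality for a space of polynomials of degree at most `N`. -/
theorem poly_plucker [CharZero k] (N n : ℕ) (W : Submodule k k[X])
    (hWN : W ≤ degreeLT k (N + 1)) (hn : Module.finrank k ↥W = n) (F : Finset k)
    (hstepF : ∀ a ∈ F, ∀ i, Module.finrank k ↥(W ⊓ rootFil a i) ≤
      Module.finrank k ↥(W ⊓ rootFil a (i + 1)) + 1)
    (hstepI : ∀ i, Module.finrank k ↥(W ⊓ degFil N i) ≤
      Module.finrank k ↥(W ⊓ degFil N (i + 1)) + 1) :
    ∑ a ∈ F, (∑ i ∈ Finset.range N, Module.finrank k ↥(W ⊓ rootFil a (i + 1)) -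
        ∑ j : Fin n, (j : ℕ)) +
      ∑ i ∈ Finset.range N, Module.finrank k ↥(W ⊓ degFil N (i + 1)) +
      ∑ j : Fin n, (j : ℕ) ≤ n * N := by
  classical
  haveI : FiniteDimensional k ↥(degreeLT k (N + 1)) :=
    (degreeLTEquiv k (N + 1)).symm.finiteDimensional
  haveI : FiniteDimensional k ↥W := Submodule.finiteDimensional_of_le hWN
  obtain ⟨g, m, hgW, hgΦ, hgn, hminj, hgspan, hmsum⟩ :=
    exists_adapted (degFil N) (degFil_antitone N) N n W inferInstance hn hWN
      (by
        have : degFil (k := k) N (N + 1) = ⊥ := by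
          unfold degFil
          rw [Nat.sub_self]
          exact degreeLT_zero_eq_bot
        rw [this, inf_bot_eq])
      hstepI
  have hg0 : ∀ j, g j ≠ 0 := fun j h0 => hgn j (by rw [h0]; exact Submodule.zero_mem _)
  have hmN : ∀ j, m j ≤ N := by
    intro j
    by_contra hlt
    apply hg0 j
    have h1 := hgΦ j
    unfold degFil at h1
    have e : N + 1 - m j = 0 := by omega
    rw [e, degreeLT_zero_eq_bot] at h1
    exact (Submodule.mem_bot k).mp h1
  have hdeg : ∀ j, (g j).natDegree = N - m j := by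
    intro j
    have h1 := hgΦ j
    have h2 := hgn j
    unfold degFil at h1 h2
    rw [mem_degreeLT, ← natDegree_lt_iff_degree_lt (hg0 j)] at h1 h2
    have := hmN j
    omega
  have hinj : Function.Injective fun j => (g j).natDegree := by
    intro a b hab
    apply hminj
    have h1 := hdeg a
    have h2 := hdeg b
    have h3 := hmN a
    have h4 := hmN b
    have hab' : (g a).natDegree = (g b).natDegree := hab
    omega
  obtain ⟨hwr0, hhle⟩ := wr_ne_zero g hg0 hinj
  have hsumdeg : ∑ j, (g j).natDegree +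
      ∑ i ∈ Finset.range N, Module.finrank k ↥(W ⊓ degFil N (i + 1)) = n * N := by
    rw [← hmsum, ← Finset.sum_add_distrib,
      Finset.sum_congr rfl (fun j _ => show (g j).natDegree + m j = N by
        rw [hdeg j]; have := hmN j; omega),
      Finset.sum_const, Finset.card_univ, Fintype.card_fin, smul_eq_mul]
  have hdegwr := natDegree_wr_le g (fun j => (g j).natDegree) (fun j => le_rfl)
  have hdvd : ∀ a ∈ F, (X - C a) ^ (∑ i ∈ Finset.range N,
      Module.finrank k ↥(W ⊓ rootFil a (i + 1)) - ∑ j : Fin n, (j : ℕ)) ∣ wr g := by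
    intro a ha
    obtain ⟨f, ma, hfW, hfΦ, -, -, hfspan, hmasum⟩ :=
      exists_adapted (rootFil a) (rootFil_antitone a) N n W inferInstance hn
        (by intro p _; rw [mem_rootFil, pow_zero]; exact one_dvd _)
        (by
          rw [eq_bot_iff]
          rintro p ⟨hpW, hpΦ⟩
          rw [Submodule.mem_bot]
          by_contra hp0
          have hpΦ' : p ∈ rootFil a (N + 1) := hpΦ
          rw [mem_rootFil] at hpΦ'
          have h1 := natDegree_le_of_dvd hpΦ' hp0
          rw [natDegree_pow, natDegree_X_sub_C, mul_one] at h1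
          have h2 := hWN hpW
          rw [mem_degreeLT, ← natDegree_lt_iff_degree_lt hp0] at h2
          omega)
        (hstepF a ha)
    have h1 := pow_dvd_wr f a ma (fun j => mem_rootFil.mp (hfΦ j))
    rw [hmasum] at h1
    exact dvd_wr_of_span f g (fun j => hfspan (hgW j)) h1
  have hprod : (∏ a ∈ F, (X - C a) ^ (∑ i ∈ Finset.range N,
      Module.finrank k ↥(W ⊓ rootFil a (i + 1)) - ∑ j : Fin n, (j : ℕ))) ∣ wr g := by
    apply Finset.prod_dvd_of_coprime ?_ hdvd
    intro a _ b _ hab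
    exact (isCoprime_X_sub_C_of_isUnit_sub (sub_ne_zero.mpr hab).isUnit).pow
  have hnd := natDegree_le_of_dvd hprod hwr0
  rw [natDegree_prod_of_monic _ _ (fun a _ => (monic_X_sub_C a).pow _)] at hnd
  simp only [natDegree_pow, natDegree_X_sub_C, mul_one] at hnd
  omega

end FunFld.PolyWr
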