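import Mathlib
import Groth.Agent.Lib.FunFldT_helper2
import Groth.Agent.Lib.PolyWr_helper2

/-! Function fields of one variable, part U (helper2): rational function fields, coordinates,
and the Plücker inequality in genus zero. -/

open WithZero Polynomial IntermediateField

namespace FunFld

variable {k K : Type*} [Field k] [Field K] [Algebra k K]

theorem exists_div_eq_of_deg_zero (hK : IsFunctionField k K) (hg0 : genus k K = 0)
    (E : Divisor k K) (hE : Divisor.deg E = 0) : ∃ u : K, u ≠ 0 ∧ div k u = E := by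
  have hdeg : Divisor.deg (-E) = 0 := by rw [deg_neg, hE, neg_zero]
  have hell : (ell (-E) : ℤ) = 1 := by
    have := ell_eq_of_deg_ge hK (-E) (by rw [hg0, hdeg]; norm_num)
    rw [this, hdeg, hg0]; norm_num
  obtain ⟨u, huL, hu0⟩ := exists_ne_zero_mem_L_of_ell_pos hK (D := -E) (by omega)
  refine ⟨u, hu0, ?_⟩
  have h1 := div_add_eq_of_mem_L hK (D := -E) (E := 0) hu0 (by rwa [sub_zero])
    (by rw [hdeg, deg_zero])
  have h2 := eq_neg_of_add_eq_zero_left h1
  rw [h2, neg_neg]

theorem val_aeval_of_one_lt (P : Place k K) {x : K} (hx : 1 < P.1 x) {p : k[X]} (hp : p ≠ 0) :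
    P.1 (aeval x p) = P.1 x ^ p.natDegree := by
  have hlc : P.1 (algebraMap k K p.leadingCoeff) = 1 :=
    P.val_algebraMap (leadingCoeff_ne_zero.mpr hp)
  have hmain : P.1 (aeval x (C p.leadingCoeff * X ^ p.natDegree)) = P.1 x ^ p.natDegree := by
    rw [map_mul, aeval_C, map_pow, aeval_X, map_mul, hlc, one_mul, map_pow]
  have hsplit : aeval x p =
      aeval x (C p.leadingCoeff * X ^ p.natDegree) + aeval x p.eraseLead := by
    rw [← map_add, add_comm, eraseLead_add_C_mul_X_pow]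
  rw [hsplit]
  rcases eraseLead_natDegree_lt_or_eraseLead_eq_zero p with hlt | h0
  · rw [Valuation.map_add_eq_of_lt_left, hmain]
    rw [hmain]
    exact lt_of_le_of_lt (val_aeval_le_pow hx.le _ le_rfl) (pow_lt_pow_right₀ hx hlt)
  · rw [h0, map_zero, add_zero, hmain]

theorem val_aeval_sub_eval_lt (P : Place k K) {x : K} {a : k}
    (ha : P.1 (x - algebraMap k K a) < 1) (q : k[X]) :
    P.1 (aeval x q - algebraMap k K (q.eval a)) < 1 := by
  obtain ⟨s, hs⟩ := X_sub_C_dvd_sub_C_eval (p := q) (a := a)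
  have h1 : aeval x q - algebraMap k K (q.eval a) = (x - algebraMap k K a) * aeval x s := by
    have := congrArg (aeval x) hs
    rw [map_sub, map_mul, map_sub, aeval_C, aeval_X, aeval_C] at this
    exact this
  rw [h1, map_mul]
  have hx1 : P.1 x ≤ 1 := val_le_one_of_sub_lt P ha
  have h2 : P.1 (aeval x s) ≤ 1 := val_aeval_le_one P.1 P.2.1 hx1 s
  calc P.1 (x - algebraMap k K a) * P.1 (aeval x s)
      ≤ P.1 (x - algebraMap k K a) * 1 := mul_le_mul' le_rfl h2
    _ < 1 := by rw [mul_one]; exact ha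

/-- `x` is a coordinate on a rational function field: its divisor is `P₀ - Pinf`. -/
structure IsCoord (x : K) (P₀ Pinf : Place k K) : Prop where
  ne : P₀ ≠ Pinf
  x0 : x ≠ 0
  hdiv : div k x = Finsupp.single P₀ 1 - Finsupp.single Pinf 1

namespace IsCoord

variable {x : K} {P₀ Pinf : Place k K}

theorem ord_inf (hK : IsFunctionField k K) (h : IsCoord x P₀ Pinf) : Pinf.ord x = -1 := by
  classical
  rw [← div_apply hK x Pinf, h.hdiv, Finsupp.sub_apply, Finsupp.single_apply,
    Finsupp.single_apply, if_neg h.ne, if_pos rfl]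
  norm_num

theorem ord_nonneg (hK : IsFunctionField k K) (h : IsCoord x P₀ Pinf) {R : Place k K}
    (hR : R ≠ Pinf) : 0 ≤ R.ord x := by
  classical
  rw [← div_apply hK x R, h.hdiv, Finsupp.sub_apply, Finsupp.single_apply,
    Finsupp.single_apply, if_neg (Ne.symm hR)]
  split_ifs <;> norm_num

theorem val_inf (hK : IsFunctionField k K) (h : IsCoord x P₀ Pinf) :
    Pinf.1 x = exp (1 : ℤ) := P_val_eq hK Pinf h.x0 (h.ord_inf hK)

theorem val_le_one (hK : IsFunctionField k K) (h : IsCoord x P₀ Pinf) {R : Place k K}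
    (hR : R ≠ Pinf) : R.1 x ≤ 1 := (R.ord_nonneg_iff h.x0).mp (h.ord_nonneg hK hR)

theorem transcendental (hK : IsFunctionField k K) (h : IsCoord x P₀ Pinf) :
    Transcendental k x :=
  transcendental_of_ord_ne_zero hK (P := Pinf) (by rw [h.ord_inf hK]; norm_num)

theorem aeval_ne_zero (hK : IsFunctionField k K) (h : IsCoord x P₀ Pinf) {p : k[X]}
    (hp : p ≠ 0) : aeval x p ≠ 0 := fun h0 =>
  hp (transcendental_iff_injective.mp (h.transcendental hK) (h0.trans (map_zero _).symm))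

theorem val_inf_aeval (hK : IsFunctionField k K) (h : IsCoord x P₀ Pinf) {p : k[X]}
    (hp : p ≠ 0) : Pinf.1 (aeval x p) = exp (p.natDegree : ℤ) := by
  rw [val_aeval_of_one_lt Pinf (by
    rw [h.val_inf hK]; exact (one_lt_iff_exp_one_le _).mpr le_rfl) hp, h.val_inf hK,
    ← exp_nsmul, nsmul_eq_mul, mul_one]

theorem div_sub_const [IsAlgClosed k] (hK : IsFunctionField k K) (h : IsCoord x P₀ Pinf)
    {Q : Place k K} (hQ : Q ≠ Pinf) {a : k} (ha : Q.1 (x - algebraMap k K a) < 1) :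
    x - algebraMap k K a ≠ 0 ∧
      div k (x - algebraMap k K a) = Finsupp.single Q 1 - Finsupp.single Pinf 1 := by
  classical
  have hP1 : ∀ R : Place k K, R.deg = 1 := fun R => Place.deg_eq_one hK R
  have hx0 := h.x0
  set t : K := x - algebraMap k K a with ht
  have hPt : Pinf.1 t = exp (1 : ℤ) := by
    rw [ht, Valuation.map_sub_eq_of_lt_left, h.val_inf hK]
    rw [h.val_inf hK]
    exact lt_of_le_of_lt (Pinf.2.1 a) ((one_lt_iff_exp_one_le _).mpr le_rfl)
  have ht0 : t ≠ 0 := by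
    intro h0
    rw [h0, map_zero] at hPt
    exact exp_ne_zero hPt.symm
  have htP : Pinf.ord t = -1 := by
    have h1 := Pinf.val_eq_exp_neg_ord ht0
    rw [hPt, exp_inj] at h1
    omega
  have htR : ∀ R : Place k K, R ≠ Pinf → 0 ≤ R.ord t := fun R hR => by
    rw [R.ord_nonneg_iff ht0, ht]
    exact Valuation.map_sub_le _ (h.val_le_one hK hR) (R.2.1 a)
  have hpole : poleDiv k t = Finsupp.single Pinf 1 :=
    poleDiv_eq_single hK (n := 1) (by norm_num) htP htR
  have httr : Transcendental k t :=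
    transcendental_of_ord_ne_zero hK (P := Pinf) (by rw [htP]; norm_num)
  have hdz : Divisor.deg (zeroDiv k t) = 1 := by
    rw [deg_zeroDiv_eq hK httr, ← deg_poleDiv_eq hK httr, hpole, deg_single, hP1]; simp
  obtain ⟨Q', -, hQ'⟩ := exists_eq_single_of_deg_eq_one hK (zeroDiv_nonneg t) hdz
  have hpos : 0 < Q.ord t := (Q.ord_pos_iff ht0).mpr ha
  have hQQ' : Q' = Q := by
    have hzQ : (zeroDiv k t) Q = Q.ord t := by rw [zeroDiv_apply hK, max_eq_left hpos.le]
    rw [hQ', Finsupp.single_apply] at hzQ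
    split_ifs at hzQ with hQQ'
    · exact hQQ'
    · omega
  refine ⟨ht0, ?_⟩
  rw [← zeroDiv_sub_poleDiv hK t, hpole, hQ', hQQ']

theorem ord_aeval [IsAlgClosed k] (hK : IsFunctionField k K) (h : IsCoord x P₀ Pinf)
    {Q : Place k K} (hQ : Q ≠ Pinf) {a : k} (ha : Q.1 (x - algebraMap k K a) < 1) {p : k[X]}
    (hp : p ≠ 0) : Q.ord (aeval x p) = (p.rootMultiplicity a : ℤ) := by
  classical
  obtain ⟨ht0, hdivt⟩ := h.div_sub_const hK hQ ha
  have hQt : Q.ord (x - algebraMap k K a) = 1 := by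
    rw [← div_apply hK _ Q, hdivt, Finsupp.sub_apply, Finsupp.single_eq_same,
      Finsupp.single_apply, if_neg (Ne.symm hQ)]
    norm_num
  obtain ⟨q, hpq, hq⟩ := exists_eq_pow_rootMultiplicity_mul_and_not_dvd p hp a
  have hqa : q.eval a ≠ 0 := fun h0 => hq (dvd_iff_isRoot.mpr h0)
  have hqres := val_aeval_sub_eval_lt Q ha q
  have hq1 : Q.1 (aeval x q) = 1 := val_eq_one_of_sub_lt Q hqa hqres
  have hq0 : aeval x q ≠ 0 := by
    intro h0
    rw [h0, map_zero] at hq1
    exact zero_ne_one hq1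
  have e : aeval x p = (x - algebraMap k K a) ^ p.rootMultiplicity a * aeval x q := by
    conv_lhs => rw [hpq]
    rw [map_mul, map_pow, map_sub, aeval_X, aeval_C]
  rw [e, Q.ord_mul (pow_ne_zero _ ht0) hq0, Q.ord_pow, hQt, (Q.ord_eq_zero_iff hq0).mpr hq1]
  ring

theorem aeval_mem_L_fin [IsAlgClosed k] (hK : IsFunctionField k K) (h : IsCoord x P₀ Pinf)
    {Q : Place k K} (hQ : Q ≠ Pinf) {a : k} (ha : Q.1 (x - algebraMap k K a) < 1) {p : k[X]}
    (hp : p ≠ 0) (N i : ℕ) :
    aeval x p ∈ L (Finsupp.single Pinf (N : ℤ) - Finsupp.single Q (i : ℤ)) ↔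
      p.natDegree ≤ N ∧ (X - C a) ^ i ∣ p := by
  classical
  have hne := h.aeval_ne_zero hK hp
  rw [mem_L]
  constructor
  · intro hm
    constructor
    · have := hm Pinf
      rw [Finsupp.sub_apply, Finsupp.single_eq_same, Finsupp.single_apply, if_neg hQ, sub_zero,
        h.val_inf_aeval hK hp, exp_le_exp] at this
      exact_mod_cast this
    · have := hm Q
      rw [Finsupp.sub_apply, Finsupp.single_eq_same, Finsupp.single_apply,
        if_neg (Ne.symm hQ), zero_sub, Q.val_le_exp_iff hne, neg_neg,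
        h.ord_aeval hK hQ ha hp] at this
      rw [← le_rootMultiplicity_iff hp]
      exact_mod_cast this
  · rintro ⟨hdeg, hdvd⟩ R
    rw [Finsupp.sub_apply, Finsupp.single_apply, Finsupp.single_apply]
    by_cases hR : Pinf = R
    · subst hR
      rw [if_pos rfl, if_neg hQ, sub_zero, h.val_inf_aeval hK hp, exp_le_exp]
      exact_mod_cast hdeg
    · rw [if_neg hR, zero_sub]
      by_cases hRQ : Q = R
      · subst hRQ
        rw [if_pos rfl, Q.val_le_exp_iff hne, neg_neg, h.ord_aeval hK hQ ha hp]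
        exact_mod_cast (le_rootMultiplicity_iff hp).mpr hdvd
      · rw [if_neg hRQ, neg_zero, exp_zero]
        exact val_aeval_le_one R.1 R.2.1 (h.val_le_one hK (Ne.symm hR)) p

theorem aeval_mem_L_inf (hK : IsFunctionField k K) (h : IsCoord x P₀ Pinf) {p : k[X]}
    (hp : p ≠ 0) (j : ℤ) :
    aeval x p ∈ L (Finsupp.single Pinf j : Divisor k K) ↔ (p.natDegree : ℤ) ≤ j := by
  classical
  rw [mem_L]
  constructor
  · intro hm
    have := hm Pinf
    rwa [Finsupp.single_eq_same, h.val_inf_aeval hK hp, exp_le_exp] at this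
  · intro hj R
    rw [Finsupp.single_apply]
    by_cases hR : Pinf = R
    · subst hR
      rw [if_pos rfl, h.val_inf_aeval hK hp, exp_le_exp]
      exact hj
    · rw [if_neg hR, exp_zero]
      exact val_aeval_le_one R.1 R.2.1 (h.val_le_one hK (Ne.symm hR)) p

theorem exists_poly_of_mem_L [IsAlgClosed k] (hK : IsFunctionField k K) (hg0 : genus k K = 0)
    (h : IsCoord x P₀ Pinf) (N : ℕ) {f : K}
    (hf : f ∈ L (Finsupp.single Pinf (N : ℤ) : Divisor k K)) : ∃ p : k[X], aeval x p = f := by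
  have htr := h.transcendental hK
  have hinj : Function.Injective (aeval (R := k) x) := transcendental_iff_injective.mp htr
  set φ : k[X] →ₗ[k] K := (aeval (R := k) x).toLinearMap with hφ
  have hle : (degreeLT k (N + 1)).map φ ≤ L (Finsupp.single Pinf (N : ℤ) : Divisor k K) := by
    rintro _ ⟨p, hp, rfl⟩
    show aeval x p ∈ L (Finsupp.single Pinf (N : ℤ) : Divisor k K)
    by_cases hp0 : p = 0
    · rw [hp0, map_zero]; exact Submodule.zero_mem _
    · have hp' : p ∈ degreeLT k (N + 1) := hp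
      rw [mem_degreeLT, ← natDegree_lt_iff_degree_lt hp0] at hp'
      exact (h.aeval_mem_L_inf hK hp0 N).mpr (by exact_mod_cast Nat.lt_succ_iff.mp hp')
  haveI := finiteDimensional_L hK (Finsupp.single Pinf (N : ℤ) : Divisor k K)
  have hfr1 : Module.finrank k ↥((degreeLT k (N + 1)).map φ) = N + 1 := by
    rw [← LinearEquiv.finrank_eq (Submodule.equivMapOfInjective φ hinj (degreeLT k (N + 1))),
      LinearEquiv.finrank_eq (degreeLTEquiv k (N + 1)), Module.finrank_fin_fun]
  have hfr2 : (ell (Finsupp.single Pinf (N : ℤ) : Divisor k K) : ℤ) = N + 1 := by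
    have hd : Divisor.deg (Finsupp.single Pinf (N : ℤ) : Divisor k K) = N := by
      rw [deg_single, Place.deg_eq_one hK]; simp
    have := ell_eq_of_deg_ge hK (Finsupp.single Pinf (N : ℤ)) (by rw [hg0, hd]; push_cast; omega)
    rw [this, hd, hg0]; simp
  have heq := Submodule.eq_of_le_of_finrank_eq hle (by unfold ell at hfr2; omega)
  rw [← heq] at hf
  obtain ⟨p, _, hp⟩ := hf
  exact ⟨p, hp⟩

end IsCoord

theorem finrank_comap_inf {A B : Type*} [AddCommGroup A] [Module k A] [AddCommGroup B]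
    [Module k B] (ψ : A →ₗ[k] B) (hψ : Function.Injective ψ) (V X : Submodule k B)
    (hV : V ≤ LinearMap.range ψ) :
    Module.finrank k ↥(V.comap ψ ⊓ X.comap ψ) = Module.finrank k ↥(V ⊓ X) := by
  rw [← Submodule.comap_inf]
  have h1 : (Submodule.comap ψ (V ⊓ X)).map ψ = V ⊓ X := by
    rw [Submodule.map_comap_eq, inf_eq_right.mpr (inf_le_left.trans hV)]
  conv_rhs => rw [← h1]
  exact LinearEquiv.finrank_eq (Submodule.equivMapOfInjective ψ hψ _)

/-- The Plücker inequality on a rational function field. -/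
theorem plucker_genus_zero [IsAlgClosed k] [CharZero k] (hK : IsFunctionField k K)
    (hg0 : genus k K = 0) (V : Submodule k K) (D : Divisor k K) (hV : V ≤ L D) {d r : ℕ}
    (hD : Divisor.deg D = d) (hVr : Module.finrank k ↥V = r + 1) (F : Finset (Place k K)) :
    ∑ Q ∈ F, wsum V D Q d + 2 * (r * (r + 1) / 2) ≤
      (r + 1) * d + F.card * (r * (r + 1) / 2) := by
  classical
  have h2 := two_mul_tri r
  have hrd : r ≤ d := by
    have := finrank_le_deg_add_one hK V D hV hD
    omega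
  rcases F.eq_empty_or_nonempty with rfl | ⟨Pinf, hPinf⟩
  · simp only [Finset.sum_empty, Finset.card_empty, zero_mul, add_zero, zero_add]
    rw [h2]
    calc r * (r + 1) = (r + 1) * r := mul_comm _ _
      _ ≤ (r + 1) * d := Nat.mul_le_mul_left _ hrd
  obtain ⟨P₀, hP₀⟩ := exists_place_ne hK Pinf
  obtain ⟨x, hx0, hdivx⟩ := exists_div_eq_of_deg_zero hK hg0
    (Finsupp.single P₀ 1 - Finsupp.single Pinf 1) (by
      rw [deg_sub, deg_single, deg_single, Place.deg_eq_one hK, Place.deg_eq_one hK]; simp)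
  have hco : IsCoord x P₀ Pinf := ⟨hP₀, hx0, hdivx⟩
  obtain ⟨c, hc0, hdivc⟩ := exists_div_eq_of_deg_zero hK hg0
    (D - Finsupp.single Pinf (d : ℤ)) (by
      rw [deg_sub, deg_single, Place.deg_eq_one hK, hD]; simp)
  have hres : ∀ Q : Place k K, Q ≠ Pinf → ∃ a : k, Q.1 (x - algebraMap k K a) < 1 :=
    fun Q hQ => exists_sub_algebraMap_lt_one hK Q (hco.val_le_one hK hQ)
  let a : Place k K → k := fun Q => if hQ : Q = Pinf then 0 else Classical.choose (hres Q hQ)
  have ha : ∀ Q : Place k K, Q ≠ Pinf → Q.1 (x - algebraMap k K (a Q)) < 1 := by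
    intro Q hQ
    simp only [a, dif_neg hQ]
    exact Classical.choose_spec (hres Q hQ)
  have hainj : ∀ Q ∈ F.erase Pinf, ∀ Q' ∈ F.erase Pinf, a Q = a Q' → Q = Q' := by
    intro Q hQ Q' hQ' hQQ'
    have hQ1 := Finset.ne_of_mem_erase hQ
    have hQ'1 := Finset.ne_of_mem_erase hQ'
    have e1 := (hco.div_sub_const hK hQ1 (ha Q hQ1)).2
    have e2 := (hco.div_sub_const hK hQ'1 (ha Q' hQ'1)).2
    rw [hQQ', e2] at e1
    have e3 : (Finsupp.single Q' 1 : Divisor k K) = Finsupp.single Q 1 := sub_left_inj.mp e1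
    have e4 := congrArg (fun E : Divisor k K => E Q) e3
    simp only [Finsupp.single_eq_same, Finsupp.single_apply] at e4
    by_contra hne
    rw [if_neg (Ne.symm hne)] at e4
    exact zero_ne_one e4
  have htr := hco.transcendental hK
  have hinjA : Function.Injective (aeval (R := k) x) := transcendental_iff_injective.mp htr
  set ψ : k[X] →ₗ[k] K :=
    (LinearMap.mulLeft k c⁻¹).comp (aeval (R := k) x).toLinearMap with hψ
  have hψa : ∀ p, ψ p = c⁻¹ * aeval x p := fun p => rfl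
  have hψinj : Function.Injective ψ := by
    intro p q hpq
    rw [hψa, hψa] at hpq
    exact hinjA (mul_left_cancel₀ (inv_ne_zero hc0) hpq)
  have hmem : ∀ (p : k[X]) (E : Divisor k K),
      ψ p ∈ L (D - E) ↔ aeval x p ∈ L (Finsupp.single Pinf (d : ℤ) - E) := by
    intro p E
    rw [hψa, mul_mem_L_iff hK _ _ _ (inv_ne_zero hc0), div_inv hK, hdivc]
    have : D - E + -(D - Finsupp.single Pinf (d : ℤ)) = Finsupp.single Pinf (d : ℤ) - E := by
      abel
    rw [this]
  have hVrange : V ≤ LinearMap.range ψ := by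
    intro f hf
    have hcf : c * f ∈ L (Finsupp.single Pinf (d : ℤ) : Divisor k K) := by
      rw [mul_mem_L_iff hK _ _ _ hc0, hdivc]
      have : Finsupp.single Pinf (d : ℤ) + (D - Finsupp.single Pinf (d : ℤ)) = D := by abel
      rw [this]; exact hV hf
    obtain ⟨p, hp⟩ := hco.exists_poly_of_mem_L hK hg0 d hcf
    refine ⟨p, ?_⟩
    rw [hψa, hp, ← mul_assoc, inv_mul_cancel₀ hc0, one_mul]
  obtain ⟨W, hW⟩ : ∃ W : Submodule k k[X], W = V.comap ψ := ⟨_, rfl⟩
  have hWmem : ∀ p, p ∈ W ↔ ψ p ∈ V := fun p => by rw [hW, Submodule.mem_comap]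
  have hWfin : Module.finrank k ↥W = r + 1 := by
    have := finrank_comap_inf ψ hψinj V V hVrange
    rw [inf_idem, inf_idem] at this
    rw [hW, this, hVr]
  have hWdeg : ∀ p ∈ W, p ≠ 0 → p.natDegree ≤ d := by
    intro p hp hp0
    have h1 : ψ p ∈ L (D - 0) := by rw [sub_zero]; exact hV ((hWmem p).mp hp)
    rw [hmem, sub_zero, hco.aeval_mem_L_inf hK hp0] at h1
    exact_mod_cast h1
  have hWN : W ≤ degreeLT k (d + 1) := by
    intro p hp
    by_cases hp0 : p = 0
    · rw [hp0]; exact Submodule.zero_mem _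
    · rw [mem_degreeLT, ← natDegree_lt_iff_degree_lt hp0]
      exact Nat.lt_succ_of_le (hWdeg p hp hp0)
  have hfin : ∀ Q : Place k K, Q ≠ Pinf → ∀ i : ℕ,
      W ⊓ (L (D - Finsupp.single Q (i : ℤ))).comap ψ = W ⊓ PolyWr.rootFil (a Q) i := by
    intro Q hQ i
    ext p
    rw [Submodule.mem_inf, Submodule.mem_inf, Submodule.mem_comap, PolyWr.mem_rootFil]
    constructor
    · rintro ⟨hpW, hpL⟩
      refine ⟨hpW, ?_⟩
      by_cases hp0 : p = 0
      · rw [hp0]; exact dvd_zero _
      · rw [hmem, hco.aeval_mem_L_fin hK hQ (ha Q hQ) hp0] at hpL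
        exact hpL.2
    · rintro ⟨hpW, hdvd⟩
      refine ⟨hpW, ?_⟩
      by_cases hp0 : p = 0
      · rw [hp0, map_zero]; exact Submodule.zero_mem _
      · rw [hmem, hco.aeval_mem_L_fin hK hQ (ha Q hQ) hp0]
        exact ⟨hWdeg p hpW hp0, hdvd⟩
  have hinf : ∀ i : ℕ,
      W ⊓ (L (D - Finsupp.single Pinf (i : ℤ))).comap ψ = W ⊓ PolyWr.degFil d i := by
    intro i
    have key : ∀ p : k[X], p ≠ 0 →
        (ψ p ∈ L (D - Finsupp.single Pinf (i : ℤ)) ↔ p ∈ PolyWr.degFil d i) := by
      intro p hp0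
      rw [hmem, ← Finsupp.single_sub, hco.aeval_mem_L_inf hK hp0]
      unfold PolyWr.degFil
      rw [mem_degreeLT, ← natDegree_lt_iff_degree_lt hp0]
      omega
    ext p
    rw [Submodule.mem_inf, Submodule.mem_inf, Submodule.mem_comap]
    constructor
    · rintro ⟨hpW, hpL⟩
      refine ⟨hpW, ?_⟩
      by_cases hp0 : p = 0
      · rw [hp0]; exact Submodule.zero_mem _
      · exact (key p hp0).mp hpL
    · rintro ⟨hpW, hpd⟩
      refine ⟨hpW, ?_⟩
      by_cases hp0 : p = 0
      · rw [hp0, map_zero]; exact Submodule.zero_mem _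
      · exact (key p hp0).mpr hpd
  have hvf : ∀ Q : Place k K, Q ≠ Pinf → ∀ i : ℕ,
      Module.finrank k ↥(W ⊓ PolyWr.rootFil (a Q) i) = vdim V D Q (i : ℤ) := by
    intro Q hQ i
    rw [← hfin Q hQ i, hW]
    exact finrank_comap_inf ψ hψinj V _ hVrange
  have hvi : ∀ i : ℕ, Module.finrank k ↥(W ⊓ PolyWr.degFil d i) = vdim V D Pinf (i : ℤ) := by
    intro i
    rw [← hinf i, hW]
    exact finrank_comap_inf ψ hψinj V _ hVrange
  have hcast : ∀ i : ℕ, ((i + 1 : ℕ) : ℤ) = (i : ℤ) + 1 := fun i => by push_cast; ring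
  have key := PolyWr.poly_plucker d (r + 1) W hWN hWfin ((F.erase Pinf).image a)
    (by
      intro b hb i
      obtain ⟨Q, hQ, rfl⟩ := Finset.mem_image.mp hb
      have hQ1 := Finset.ne_of_mem_erase hQ
      rw [hvf Q hQ1 i, hvf Q hQ1 (i + 1), hcast]
      exact vdim_step hK V D Q i)
    (by
      intro i
      rw [hvi i, hvi (i + 1), hcast]
      exact vdim_step hK V D Pinf i)
  rw [Finset.sum_image hainj] at key
  have hw : ∀ Q : Place k K, Q ≠ Pinf →
      ∑ i ∈ Finset.range d, Module.finrank k ↥(W ⊓ PolyWr.rootFil (a Q) (i + 1)) =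
        wsum V D Q d := by
    intro Q hQ
    unfold wsum
    apply Finset.sum_congr rfl
    intro i _
    rw [hvf Q hQ (i + 1), hcast]
  have hwi : ∑ i ∈ Finset.range d, Module.finrank k ↥(W ⊓ PolyWr.degFil d (i + 1)) =
      wsum V D Pinf d := by
    unfold wsum
    apply Finset.sum_congr rfl
    intro i _
    rw [hvi (i + 1), hcast]
  have hh : ∑ j : Fin (r + 1), (j : ℕ) = r * (r + 1) / 2 := by
    rw [Fin.sum_univ_eq_sum_range (fun j => j) (r + 1), Finset.sum_range_id,
      Nat.add_sub_cancel, mul_comm]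
  have key2 : ∑ Q ∈ F.erase Pinf, (wsum V D Q d - r * (r + 1) / 2) + wsum V D Pinf d +
      r * (r + 1) / 2 ≤ (r + 1) * d := by
    have e : ∑ Q ∈ F.erase Pinf, (wsum V D Q d - r * (r + 1) / 2) =
        ∑ Q ∈ F.erase Pinf, (∑ i ∈ Finset.range d,
          Module.finrank k ↥(W ⊓ PolyWr.rootFil (a Q) (i + 1)) - ∑ j : Fin (r + 1), (j : ℕ)) :=
      Finset.sum_congr rfl (fun Q hQ => by rw [hw Q (Finset.ne_of_mem_erase hQ), hh])
    rw [e, ← hwi, ← hh]
    exact key
  obtain ⟨h, hhdef⟩ : ∃ h : ℕ, h = r * (r + 1) / 2 := ⟨_, rfl⟩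
  rw [← hhdef] at key2 h2 ⊢
  have hge : ∀ Q ∈ F.erase Pinf, h ≤ wsum V D Q d := fun Q _ => by
    rw [hhdef]; exact tri_le_wsum hK V D Q hV hD hVr
  have e1 : ∑ Q ∈ F.erase Pinf, wsum V D Q d =
      ∑ Q ∈ F.erase Pinf, (wsum V D Q d - h) + (F.erase Pinf).card * h := by
    rw [← smul_eq_mul, ← Finset.sum_const, ← Finset.sum_add_distrib]
    exact Finset.sum_congr rfl (fun Q hQ => (Nat.sub_add_cancel (hge Q hQ)).symm)
  have e2 : ∑ Q ∈ F, wsum V D Q d = wsum V D Pinf d + ∑ Q ∈ F.erase Pinf, wsum V D Q d :=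
    (Finset.add_sum_erase F _ hPinf).symm
  have e3 : (F.erase Pinf).card + 1 = F.card := Finset.card_erase_add_one hPinf
  have e4 : F.card * h = (F.erase Pinf).card * h + h := by rw [← e3]; ring
  rw [e2, e1, e4]
  omega

end FunFld
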