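import Mathlib
import Groth.Agent.Lib.FunFldU_helper2

/-! Function fields of one variable, part V (helper2): consequences of the Plücker inequality
on a rational function field; chain bookkeeping on both sides of a component. -/

open WithZero Polynomial IntermediateField

namespace FunFld

variable {k K : Type*} [Field k] [Field K] [Algebra k K]

/-- Weight form of the Plücker inequality. -/
theorem plucker_weight [IsAlgClosed k] [CharZero k] (hK : IsFunctionField k K)
    (hg0 : genus k K = 0) (V : Submodule k K) (D : Divisor k K) (hV : V ≤ L D) {d r : ℕ}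
    (hD : Divisor.deg D = d) (hVr : Module.finrank k ↥V = r + 1) (F : Finset (Place k K)) :
    ∑ Q ∈ F, (wsum V D Q d - r * (r + 1) / 2) + 2 * (r * (r + 1) / 2) ≤ (r + 1) * d := by
  classical
  have key := plucker_genus_zero hK hg0 V D hV hD hVr F
  obtain ⟨h, hh⟩ : ∃ h : ℕ, h = r * (r + 1) / 2 := ⟨_, rfl⟩
  rw [← hh] at key ⊢
  have hge : ∀ Q ∈ F, h ≤ wsum V D Q d := fun Q _ => by
    rw [hh]; exact tri_le_wsum hK V D Q hV hD hVr
  have e1 : ∑ Q ∈ F, wsum V D Q d = ∑ Q ∈ F, (wsum V D Q d - h) + F.card * h := by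
    rw [← smul_eq_mul, ← Finset.sum_const, ← Finset.sum_add_distrib]
    exact Finset.sum_congr rfl (fun Q hQ => (Nat.sub_add_cancel (hge Q hQ)).symm)
  rw [e1] at key
  omega

/-- Three-point Plücker inequality. -/
theorem plucker_three [IsAlgClosed k] [CharZero k] (hK : IsFunctionField k K)
    (hg0 : genus k K = 0) (V : Submodule k K) (D : Divisor k K) (hV : V ≤ L D) {d r : ℕ}
    (hD : Divisor.deg D = d) (hVr : Module.finrank k ↥V = r + 1) {X Y W : Place k K}
    (hXY : X ≠ Y) (hXW : X ≠ W) (hYW : Y ≠ W) :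
    wsum V D X d + wsum V D Y d + wsum V D W d ≤ (r + 1) * d + r * (r + 1) / 2 := by
  classical
  have key := plucker_genus_zero hK hg0 V D hV hD hVr {X, Y, W}
  have hX : X ∉ ({Y, W} : Finset (Place k K)) := by
    simp only [Finset.mem_insert, Finset.mem_singleton, not_or]
    exact ⟨hXY, hXW⟩
  rw [Finset.sum_insert hX, Finset.sum_pair hYW, Finset.card_insert_of_notMem hX,
    Finset.card_pair hYW] at key
  omega

/-- Conditionally adjoin a point to a finite set, keeping track of a lower bound for a sum. -/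
theorem sum_step {ι : Type*} [DecidableEq ι] {F : Finset ι} {w : ι → ℕ} {c : ℕ}
    (hc : c ≤ ∑ Q ∈ F, w Q) (cond : Prop) (X : ι) (x : ℕ)
    (hX : cond → X ∉ F ∧ x ≤ w X) (hx : ¬cond → x = 0) :
    ∃ F' : Finset ι, (∀ Y ∈ F', (cond ∧ Y = X) ∨ Y ∈ F) ∧ c + x ≤ ∑ Q ∈ F', w Q := by
  by_cases h : cond
  · obtain ⟨h1, h2⟩ := hX h
    refine ⟨insert X F, fun Y hY => ?_, ?_⟩
    · rcases Finset.mem_insert.mp hY with rfl | hY
      · exact Or.inl ⟨h, rfl⟩
      · exact Or.inr hY
    · rw [Finset.sum_insert h1]; omega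
  · refine ⟨F, fun Y hY => Or.inr hY, ?_⟩
    rw [hx h]; omega

theorem chain_sides_fin (N : ℕ) (a b t : Fin (N + 1) → ℕ) (M h : ℕ)
    (H1 : ∀ l : Fin N, b l.castSucc + a l.succ = M)
    (H2 : ∀ i : Fin (N + 1), 0 < (i : ℕ) → (i : ℕ) < N → a i + b i + t i ≤ M)
    (H3 : 0 < N → b 0 + t 0 + h ≤ M)
    (H4 : 0 < N → a (Fin.last N) + t (Fin.last N) + h ≤ M)
    (i : Fin (N + 1)) :
    ∃ Lf Rt : ℕ, ∑ j, t j = Lf + t i + Rt ∧ (0 < (i : ℕ) → h + Lf ≤ a i) ∧
      ((i : ℕ) < N → h + Rt ≤ b i) ∧ ((i : ℕ) = 0 → Lf = 0) ∧ ((i : ℕ) = N → Rt = 0) := by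
  have hi2 := i.2
  have H1' : ∀ l, l < N → extFin b l + extFin a (l + 1) = M := by
    intro l hl
    rw [extFin_of_lt b (by omega), extFin_of_lt a (by omega)]
    exact H1 ⟨l, hl⟩
  have H2' : ∀ i, 0 < i → i < N → extFin a i + extFin b i + extFin t i ≤ M := by
    intro i hi0 hiN
    rw [extFin_of_lt a (by omega), extFin_of_lt b (by omega), extFin_of_lt t (by omega)]
    exact H2 ⟨i, by omega⟩ hi0 hiN
  have H3' : 0 < N → extFin b 0 + extFin t 0 + h ≤ M := by
    intro h0
    rw [extFin_of_lt b (by omega), extFin_of_lt t (by omega)]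
    exact H3 h0
  have R1 : ∀ l, l < N → (fun j => extFin a (N - j)) l + (fun j => extFin b (N - j)) (l + 1) = M := by
    intro l hl
    have := H1' (N - (l + 1)) (by omega)
    have e : N - (l + 1) + 1 = N - l := by omega
    rw [e] at this
    show extFin a (N - l) + extFin b (N - (l + 1)) = M
    omega
  have R2 : ∀ j, 0 < j → j < N → (fun j => extFin b (N - j)) j + (fun j => extFin a (N - j)) j +
      (fun j => extFin t (N - j)) j ≤ M := by
    intro j hj0 hjN
    have := H2' (N - j) (by omega) (by omega)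
    show extFin b (N - j) + extFin a (N - j) + extFin t (N - j) ≤ M
    omega
  have R3 : 0 < N → (fun j => extFin a (N - j)) 0 + (fun j => extFin t (N - j)) 0 + h ≤ M := by
    intro h0
    show extFin a (N - 0) + extFin t (N - 0) + h ≤ M
    rw [Nat.sub_zero, extFin_of_lt a (by omega), extFin_of_lt t (by omega)]
    exact H4 h0
  refine ⟨∑ j ∈ Finset.range i, extFin t j, ∑ j ∈ Finset.range (N - i), extFin t (N - j),
    ?_, ?_, ?_, ?_, ?_⟩
  · have hsplit : ∑ j ∈ Finset.range (N + 1), extFin t j =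
        ∑ j ∈ Finset.range i, extFin t j + extFin t i +
          ∑ j ∈ Finset.range (N - i), extFin t (N - j) := by
      rw [← Finset.sum_range_add_sum_Ico (extFin t) (show (i : ℕ) + 1 ≤ N + 1 by omega),
        Finset.sum_range_succ, Finset.sum_Ico_eq_sum_range]
      congr 1
      have e2 : N + 1 - ((i : ℕ) + 1) = N - i := by omega
      rw [e2, ← Finset.sum_range_reflect (fun j => extFin t ((i : ℕ) + 1 + j)) (N - i)]
      apply Finset.sum_congr rfl
      intro j hj
      rw [Finset.mem_range] at hj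
      show extFin t ((i : ℕ) + 1 + (N - i - 1 - j)) = extFin t (N - j)
      congr 1
      omega
    rw [sum_extFin t, extFin_val t i] at hsplit
    exact hsplit
  · intro hi0
    have hleft := chain_acc N (extFin a) (extFin b) (extFin t) M h H1' H2' H3' i hi0 (by omega)
    rw [extFin_val a i] at hleft
    exact hleft
  · intro hiN
    have hright := chain_acc N (fun j => extFin b (N - j)) (fun j => extFin a (N - j))
      (fun j => extFin t (N - j)) M h R1 R2 R3 (N - i) (by omega) (by omega)
    have e1 : N - (N - (i : ℕ)) = i := by omega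
    rw [e1, extFin_val b i] at hright
    exact hright
  · intro hi
    rw [hi]
    simp
  · intro hi
    rw [hi]
    simp

end FunFld
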