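import Mathlib
import Groth.Agent.Lib.FunFldV_helper2

/-! Function fields of one variable, part W (helper2): small tools for explicit Riemann–Roch
arguments (principal divisors of degree zero classes, constants, pointwise divisor facts). -/

open WithZero Polynomial IntermediateField

namespace FunFld

variable {k K : Type*} [Field k] [Field K] [Algebra k K]

theorem single_apply_self (P : Place k K) (n : ℤ) : (Finsupp.single P n : Divisor k K) P = n :=
  Finsupp.single_eq_same

theorem single_apply_ne {P Q : Place k K} (h : P ≠ Q) (n : ℤ) :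
    (Finsupp.single P n : Divisor k K) Q = 0 := by
  classical
  rw [Finsupp.single_apply, if_neg h]

theorem single_apply_nonneg {n : ℤ} (hn : 0 ≤ n) (P Q : Place k K) :
    0 ≤ (Finsupp.single P n : Divisor k K) Q := by
  classical
  rw [Finsupp.single_apply]
  split_ifs
  · exact hn
  · exact le_rfl

theorem exists_div_eq_neg (hK : IsFunctionField k K) {D : Divisor k K}
    (hd : Divisor.deg D = 0) (hl : 0 < ell D) : ∃ z : K, z ≠ 0 ∧ div k z = -D := by
  obtain ⟨z, hz, hz0⟩ := exists_ne_zero_mem_L_of_ell_pos hK hl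
  refine ⟨z, hz0, ?_⟩
  have h1 := (mem_L_iff_div hK hz0 D).mp hz
  have h2 := eq_zero_of_nonneg_of_deg_le_zero hK h1 (by
    rw [deg_add, deg_div_eq_zero hK, hd]; norm_num)
  exact eq_neg_of_add_eq_zero_left h2

theorem ell_pos_of_mem (hK : IsFunctionField k K) {D : Divisor k K} {z : K} (hz : z ≠ 0)
    (hmem : z ∈ L D) : 0 < ell D := by
  haveI := finiteDimensional_L hK D
  unfold ell
  rw [Module.finrank_pos_iff_exists_ne_zero]
  exact ⟨⟨z, hmem⟩, fun h0 => hz (congrArg Subtype.val h0)⟩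

theorem ell_pos_of_div (hK : IsFunctionField k K) {D : Divisor k K} {z : K} (hz : z ≠ 0)
    (h : 0 ≤ div k z + D) : 0 < ell D :=
  ell_pos_of_mem hK hz ((mem_L_iff_div hK hz D).mpr h)

theorem one_mem_L {D : Divisor k K} (hD : 0 ≤ D) : (1 : K) ∈ L D := by
  intro P
  rw [map_one, ← exp_zero]
  exact exp_le_exp.mpr (hD P)

theorem exists_algebraMap_eq_of_ell_eq_one (hK : IsFunctionField k K) {D : Divisor k K}
    (hD : 0 ≤ D) (hl : ell D = 1) {z : K} (hz : z ∈ L D) : ∃ c : k, z = algebraMap k K c := by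
  have h1 : (1 : K) ∈ L D := one_mem_L hD
  obtain ⟨c, hc⟩ := (finrank_eq_one_iff_of_nonzero' (⟨1, h1⟩ : L D)
    (fun h0 => one_ne_zero (congrArg Subtype.val h0))).mp hl ⟨z, hz⟩
  refine ⟨c, ?_⟩
  have h2 := congrArg Subtype.val hc
  simp only [Submodule.coe_smul] at h2
  rw [← h2, Algebra.algebraMap_eq_smul_one]

theorem nonneg_of_algebraMap_mem_L {E : Divisor k K} {c : k} (hc : c ≠ 0)
    (h : algebraMap k K c ∈ L E) : 0 ≤ E := by
  intro P
  have h1 := h P
  rw [P.val_algebraMap hc, ← exp_zero, exp_le_exp] at h1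
  exact h1

theorem div_algebraMap (hK : IsFunctionField k K) (c : k) : div k (algebraMap k K c) = 0 := by
  ext R
  rw [div_apply hK, Place.ord_algebraMap]
  rfl

theorem neg_le_ord_of_mem_L {D : Divisor k K} {z : K} (hz0 : z ≠ 0) (hz : z ∈ L D)
    (P : Place k K) : -D P ≤ P.ord z :=
  (P.val_le_exp_iff hz0 _).mp (hz P)

theorem mem_L_of_neg_le_ord {D : Divisor k K} {z : K} (hz0 : z ≠ 0)
    (h : ∀ P : Place k K, -D P ≤ P.ord z) : z ∈ L D :=
  fun P => (P.val_le_exp_iff hz0 _).mpr (h P)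

theorem finrank_le_of_le {U W : Submodule k K} [FiniteDimensional k W] (h : U ≤ W) :
    Module.finrank k ↥U ≤ Module.finrank k ↥W :=
  LinearMap.finrank_le_finrank_of_injective (Submodule.inclusion_injective h)

/-- Replacing the divisor in `V ⊓ L E` when `V ≤ L E₀`. -/
theorem inf_L_congr {V : Submodule k K} {E₀ E E' : Divisor k K} (hV : V ≤ L E₀) (h1 : E' ≤ E)
    (h2 : ∀ R : Place k K, E' R = E R ∨ E' R = E₀ R) : V ⊓ L E = V ⊓ L E' := by
  apply le_antisymm
  · rintro x ⟨hxV, hxE⟩
    refine ⟨hxV, fun R => ?_⟩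
    rcases h2 R with h | h
    · rw [h]; exact hxE R
    · rw [h]; exact hV hxV R
  · exact inf_le_inf_left _ (L_mono h1)

/-- If `W` has codimension one in `V₁`, intersecting with `U` loses at most one dimension more. -/
theorem finrank_inf_le_add_one {V₁ W U : Submodule k K} [FiniteDimensional k V₁] (hW : W ≤ V₁)
    (hcodim : Module.finrank k ↥V₁ = Module.finrank k ↥W + 1) :
    Module.finrank k ↥(V₁ ⊓ U) ≤ Module.finrank k ↥(W ⊓ U) + 1 := by
  haveI : FiniteDimensional k ↥W := Submodule.finiteDimensional_of_le hW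
  haveI : FiniteDimensional k ↥(V₁ ⊓ U) := Submodule.finiteDimensional_of_le inf_le_left
  have h1 := Submodule.finrank_sup_add_finrank_inf_eq (V₁ ⊓ U) W
  have h2 : (V₁ ⊓ U) ⊓ W = W ⊓ U := by
    rw [inf_comm, ← inf_assoc, inf_eq_left.mpr hW]
  have h3 : Module.finrank k ↥((V₁ ⊓ U) ⊔ W) ≤ Module.finrank k ↥V₁ :=
    finrank_le_of_le (sup_le inf_le_left hW)
  rw [h2] at h1
  omega

end FunFld
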