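import Mathlib
import Groth.Agent.Lib.FunFldW_helper2
import Groth.Agent.S19396

/-! Function fields of one variable, part X (helper2): derivations in characteristic zero,
the Wronskian lemma, and finiteness of torsion on a genus-one function field. -/

open WithZero Polynomial IntermediateField Matrix

namespace FunFld

variable {k K : Type*} [Field k] [Field K] [Algebra k K]

open scoped KaehlerDifferential in
/-- A function field in characteristic zero carries a `k`-derivation whose constants are `k`. -/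
theorem exists_derivation [CharZero k] (hK : IsFunctionField k K)
    (hfg : (⊤ : IntermediateField k K).FG) :
    ∃ D : Derivation k K K, ∀ z : K, D z = 0 → z ∈ Set.range (algebraMap k K) := by
  classical
  haveI : Algebra.EssFiniteType k K := IntermediateField.fg_top_iff.mp hfg
  obtain ⟨x, hx, -⟩ := hK.1
  have hΩ : ¬ Subsingleton (Ω[K⁄k]) := by
    intro hs
    haveI : Algebra.FormallyUnramified k K := ⟨hs⟩
    haveI := Algebra.FormallyUnramified.isSeparable k K
    exact hx (Algebra.IsSeparable.isIntegral k x).isAlgebraic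
  rw [not_subsingleton_iff_nontrivial] at hΩ
  obtain ⟨ω, hω⟩ := exists_ne (0 : Ω[K⁄k])
  obtain ⟨φ, hφ⟩ : ∃ φ : Module.Dual K (Ω[K⁄k]), φ ω ≠ 0 := by
    by_contra h
    push Not at h
    exact hω ((Module.forall_dual_apply_eq_zero_iff K ω).mp h)
  obtain ⟨D, hDdef⟩ : ∃ D : Derivation k K K, ∀ w, D w = φ (KaehlerDifferential.D k K w) :=
    ⟨φ.compDer (KaehlerDifferential.D k K), fun w => rfl⟩
  have hDne : ∃ w, D w ≠ 0 := by
    by_contra h
    push Not at h
    apply hφ
    have h0 : φ = 0 := LinearMap.ext_on (KaehlerDifferential.span_range_derivation k K) (by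
      rintro _ ⟨w, rfl⟩
      rw [← hDdef, h w]
      rfl)
    rw [h0]
    rfl
  refine ⟨D, fun z hz => ?_⟩
  by_contra hzr
  have hzt : Transcendental k z := fun halg => hzr (hK.2 z halg)
  obtain ⟨w, hw⟩ := hDne
  apply hw
  have hF : ∀ c ∈ k⟮z⟯, D c = 0 := by
    intro c hc
    obtain ⟨r, s, rfl⟩ := (IntermediateField.mem_adjoin_simple_iff k c).mp hc
    rw [Derivation.leibniz_div, Derivation.map_aeval, Derivation.map_aeval, hz]
    simp
  haveI : FiniteDimensional k⟮z⟯ K := finiteDimensional_of_transcendental hK hzt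
  haveI : CharZero k⟮z⟯ := charZero_of_injective_algebraMap (algebraMap k k⟮z⟯).injective
  let DF : Derivation k⟮z⟯ K K := Derivation.mk'
    { toFun := D
      map_add' := map_add D
      map_smul' := fun c v => by
        simp only [Algebra.smul_def, RingHom.id_apply]
        have hc0 : D ((algebraMap k⟮z⟯ K) c) = 0 := hF _ c.2
        rw [Derivation.leibniz, hc0]
        simp }
    (fun a b => D.leibniz a b)
  have hint : IsIntegral k⟮z⟯ w := IsIntegral.of_finite _ _
  have hsep : (minpoly k⟮z⟯ w).Separable := (minpoly.irreducible hint).separable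
  have h0 := DF.map_aeval (minpoly k⟮z⟯ w) w
  rw [minpoly.aeval, map_zero] at h0
  have hne := hsep.aeval_derivative_ne_zero (minpoly.aeval k⟮z⟯ w)
  rcases smul_eq_zero.mp h0.symm with h | h
  · exact absurd h hne
  · exact h

/-- Kernel vectors of the Wronskian matrix of a `k`-independent family vanish. -/
theorem wronskian_aux (D : Derivation k K K)
    (hD : ∀ z : K, D z = 0 → z ∈ Set.range (algebraMap k K)) :
    ∀ (n : ℕ) (f : Fin n → K), LinearIndependent k f → ∀ c : Fin n → K,
      (∀ i : ℕ, i < n → ∑ j, c j * D^[i] (f j) = 0) → c = 0 := by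
  intro n
  induction n with
  | zero =>
    intro f _ c _
    funext j
    exact j.elim0
  | succ n ih =>
    intro f hf c hc
    have hf' : LinearIndependent k (fun j : Fin n => f j.castSucc) :=
      hf.comp Fin.castSucc (Fin.castSucc_injective n)
    by_cases hlast : c (Fin.last n) = 0
    · have h1 := ih (fun j => f j.castSucc) hf' (fun j => c j.castSucc) (fun i hi => by
        have := hc i (by omega)
        rw [Fin.sum_univ_castSucc, hlast, zero_mul, add_zero] at this
        exact this)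
      funext j
      refine Fin.lastCases ?_ (fun j => ?_) j
      · exact hlast
      · exact congrFun h1 j
    · exfalso
      obtain ⟨e, he⟩ : ∃ e : Fin (n + 1) → K, e = fun j => c j / c (Fin.last n) := ⟨_, rfl⟩
      have he_last : e (Fin.last n) = 1 := by rw [he]; exact div_self hlast
      have hec : ∀ i, i < n + 1 → ∑ j, e j * D^[i] (f j) = 0 := by
        intro i hi
        have h0 := hc i hi
        calc ∑ j, e j * D^[i] (f j) = (c (Fin.last n))⁻¹ * ∑ j, c j * D^[i] (f j) := by
              rw [Finset.mul_sum]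
              apply Finset.sum_congr rfl
              intro j _
              rw [he]
              ring
          _ = 0 := by rw [h0, mul_zero]
      have hde : ∀ i, i < n → ∑ j : Fin n, D (e j.castSucc) * D^[i] (f j.castSucc) = 0 := by
        intro i hi
        have h1 := hec i (by omega)
        have h2 := hec (i + 1) (by omega)
        have h3 := congrArg D h1
        rw [map_zero, map_sum] at h3
        simp only [Derivation.leibniz, smul_eq_mul] at h3
        rw [Finset.sum_add_distrib] at h3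
        have h4 : ∑ j, e j * D (D^[i] (f j)) = 0 := by
          simpa only [Function.iterate_succ_apply'] using h2
        rw [h4, zero_add, Fin.sum_univ_castSucc, he_last, Derivation.map_one_eq_zero, mul_zero,
          add_zero] at h3
        rw [← h3]
        apply Finset.sum_congr rfl
        intro j _
        ring
      have h5 := ih (fun j => f j.castSucc) hf' (fun j => D (e j.castSucc)) hde
      have h6 : ∀ j : Fin n, ∃ a : k, e j.castSucc = algebraMap k K a := by
        intro j
        obtain ⟨a, ha⟩ := hD _ (congrFun h5 j)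
        exact ⟨a, ha.symm⟩
      choose a ha using h6
      have h7 := hec 0 (by omega)
      simp only [Function.iterate_zero, id_eq] at h7
      rw [Fin.sum_univ_castSucc, he_last, one_mul] at h7
      have h8 := Fintype.linearIndependent_iff.mp hf (Fin.lastCases 1 a) (by
        rw [Fin.sum_univ_castSucc]
        simp only [Fin.lastCases_last, Fin.lastCases_castSucc, one_smul]
        rw [← h7]
        congr 1
        apply Finset.sum_congr rfl
        intro j _
        rw [ha j, Algebra.smul_def]) (Fin.last n)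
      simp only [Fin.lastCases_last] at h8
      exact one_ne_zero h8

theorem wronskian_ne_zero (D : Derivation k K K)
    (hD : ∀ z : K, D z = 0 → z ∈ Set.range (algebraMap k K)) {n : ℕ} (f : Fin n → K)
    (hf : LinearIndependent k f) :
    (Matrix.of fun i j : Fin n => D^[(i : ℕ)] (f j)).det ≠ 0 := by
  intro hdet
  obtain ⟨v, hv0, hv⟩ := Matrix.exists_mulVec_eq_zero_iff.mpr hdet
  apply hv0
  apply wronskian_aux D hD n f hf v
  intro i hi
  have h1 := congrFun hv ⟨i, hi⟩
  simp only [Matrix.mulVec, dotProduct, Matrix.of_apply, Pi.zero_apply] at h1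
  rw [← h1]
  apply Finset.sum_congr rfl
  intro j _
  ring

/-! ### Local behaviour of a derivation -/

/-- The valuation ring of `Q` is stable under `D`. -/
def IsDStable (D : Derivation k K K) (Q : Place k K) : Prop :=
  ∀ z : K, Q.1 z ≤ 1 → Q.1 (D z) ≤ 1

theorem val_natCast_le_one (Q : Place k K) (m : ℕ) : Q.1 (m : K) ≤ 1 := by
  rw [← map_natCast (algebraMap k K) m]
  exact Q.2.1 _

theorem val_D_le (D : Derivation k K K) (Q : Place k K) (hQ : IsDStable D Q) (m : ℕ) {g : K}
    (hg : Q.1 g ≤ exp (-(m : ℤ))) : Q.1 (D g) ≤ exp (1 - (m : ℤ)) := by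
  rcases Nat.eq_zero_or_pos m with rfl | hm
  · have h1 : Q.1 g ≤ 1 := by simpa using hg
    calc Q.1 (D g) ≤ 1 := hQ g h1
      _ ≤ exp (1 - ((0 : ℕ) : ℤ)) := by
          rw [← exp_zero (M := ℤ)]; exact exp_le_exp.mpr (by norm_num)
  obtain ⟨t, ht⟩ := Q.exists_uniformizer
  have ht0 := uniformizer_ne_zero Q ht
  obtain ⟨u, hu⟩ : ∃ u : K, u = g * (t ^ m)⁻¹ := ⟨_, rfl⟩
  have hgu : g = t ^ m * u := by
    rw [hu]; field_simp
  have htm : Q.1 (t ^ m) = exp (-(m : ℤ)) := by
    have := val_uniformizer_zpow Q ht (m : ℤ)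
    rwa [zpow_natCast] at this
  have hu1 : Q.1 u ≤ 1 := by
    rw [hu, map_mul, map_inv₀, htm]
    calc Q.1 g * (exp (-(m : ℤ)))⁻¹ ≤ exp (-(m : ℤ)) * (exp (-(m : ℤ)))⁻¹ :=
          mul_le_mul' hg le_rfl
      _ = 1 := mul_inv_cancel₀ exp_ne_zero
  have htm1 : Q.1 (t ^ (m - 1)) = exp (1 - (m : ℤ)) := by
    have := val_uniformizer_zpow Q ht ((m - 1 : ℕ) : ℤ)
    rw [zpow_natCast] at this
    rw [this]
    congr 1
    omega
  have hDt : Q.1 (D t) ≤ 1 := hQ t (by
    rw [ht, ← exp_zero (M := ℤ)]; exact exp_le_exp.mpr (by norm_num))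
  have hDu : Q.1 (D u) ≤ 1 := hQ u hu1
  rw [hgu, Derivation.leibniz, Derivation.leibniz_pow]
  simp only [smul_eq_mul, nsmul_eq_mul]
  refine (Q.1.map_add _ _).trans (max_le ?_ ?_)
  · rw [map_mul, htm]
    calc exp (-(m : ℤ)) * Q.1 (D u) ≤ exp (-(m : ℤ)) * 1 := mul_le_mul' le_rfl hDu
      _ = exp (-(m : ℤ)) := mul_one _
      _ ≤ exp (1 - (m : ℤ)) := exp_le_exp.mpr (by omega)
  · rw [map_mul, map_mul, map_mul, htm1]
    calc Q.1 u * (Q.1 (m : K) * (exp (1 - (m : ℤ)) * Q.1 (D t)))
        ≤ 1 * (1 * (exp (1 - (m : ℤ)) * 1)) :=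
          mul_le_mul' hu1 (mul_le_mul' (val_natCast_le_one Q m) (mul_le_mul' le_rfl hDt))
      _ = exp (1 - (m : ℤ)) := by rw [one_mul, one_mul, mul_one]

theorem val_iterate_le_one (D : Derivation k K K) (Q : Place k K) (hQ : IsDStable D Q) (i : ℕ)
    {z : K} (hz : Q.1 z ≤ 1) : Q.1 (D^[i] z) ≤ 1 := by
  induction i with
  | zero => exact hz
  | succ i ih =>
    rw [Function.iterate_succ_apply']
    exact hQ _ ih

theorem val_iterate_le (D : Derivation k K K) (Q : Place k K) (hQ : IsDStable D Q) (n : ℕ)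
    {h : K} (hh : Q.1 h ≤ exp (-(n : ℤ))) :
    ∀ i : ℕ, i ≤ n → Q.1 (D^[i] h) ≤ exp ((i : ℤ) - n) := by
  intro i
  induction i with
  | zero =>
    intro _
    have e : ((0 : ℕ) : ℤ) - (n : ℤ) = -(n : ℤ) := by push_cast; ring
    rw [e]
    exact hh
  | succ i ih =>
    intro hi
    have h1 := ih (by omega)
    rw [Function.iterate_succ_apply']
    have e : ((i : ℤ) - n) = -(((n - i : ℕ)) : ℤ) := by omega
    rw [e] at h1
    have h2 := val_D_le D Q hQ (n - i) h1
    have e2 : (1 - ((n - i : ℕ) : ℤ)) = ((i + 1 : ℕ) : ℤ) - n := by omega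
    rwa [e2] at h2

theorem iterate_sum_algebraMap (D : Derivation k K K) {ι : Type*} (s : Finset ι) (c : ι → k)
    (f : ι → K) (i : ℕ) :
    D^[i] (∑ j ∈ s, algebraMap k K (c j) * f j) =
      ∑ j ∈ s, algebraMap k K (c j) * D^[i] (f j) := by
  induction i with
  | zero => rfl
  | succ i ih =>
    rw [Function.iterate_succ_apply', ih, map_sum]
    apply Finset.sum_congr rfl
    intro j _
    rw [Function.iterate_succ_apply', Derivation.leibniz, Derivation.map_algebraMap]
    simp

theorem val_wronskian_lt_one (D : Derivation k K K) (Q : Place k K) (hQ : IsDStable D Q)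
    {N n : ℕ} (hNn : N ≤ n) (f : Fin N → K) (hf : ∀ j, Q.1 (f j) ≤ 1) (c : Fin N → k)
    (hc : c ≠ 0) (hh : Q.1 (∑ j, algebraMap k K (c j) * f j) ≤ exp (-(n : ℤ))) :
    Q.1 (Matrix.of fun i j : Fin N => D^[(i : ℕ)] (f j)).det < 1 := by
  classical
  obtain ⟨M, hM⟩ : ∃ M : Matrix (Fin N) (Fin N) K,
      M = Matrix.of fun i j : Fin N => D^[(i : ℕ)] (f j) := ⟨_, rfl⟩
  rw [← hM]
  have hMij : ∀ i j, Q.1 (M i j) ≤ 1 := by
    intro i j
    rw [hM]
    exact val_iterate_le_one D Q hQ i (hf j)
  let M₀ : Matrix (Fin N) (Fin N) Q.O :=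
    fun i j => ⟨M i j, (Valuation.mem_valuationSubring_iff _ _).mpr (hMij i j)⟩
  have hM₀ : Q.O.subtype.mapMatrix M₀ = M := by
    ext i j
    rfl
  have hadj : ∀ i j, Q.1 (M.adjugate i j) ≤ 1 := by
    intro i j
    rw [← hM₀, ← RingHom.map_adjugate]
    exact (Valuation.mem_valuationSubring_iff _ _).mp (M₀.adjugate i j).2
  obtain ⟨j₀, hj₀⟩ : ∃ j₀, c j₀ ≠ 0 := by
    by_contra h
    push Not at h
    exact hc (funext h)
  obtain ⟨v, hv⟩ : ∃ v : Fin N → K, v = fun j => algebraMap k K (c j) := ⟨_, rfl⟩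
  have hMv : ∀ i : Fin N, (M *ᵥ v) i = D^[(i : ℕ)] (∑ j, algebraMap k K (c j) * f j) := by
    intro i
    rw [iterate_sum_algebraMap]
    show ∑ j, M i j * v j = _
    apply Finset.sum_congr rfl
    intro j _
    rw [hM, hv, Matrix.of_apply]
    ring
  have hMv1 : ∀ i : Fin N, Q.1 ((M *ᵥ v) i) < 1 := by
    intro i
    rw [hMv]
    have hi := i.2
    have h1 := val_iterate_le D Q hQ n hh i (by omega)
    refine h1.trans_lt ?_
    rw [← exp_zero (M := ℤ)]
    exact exp_lt_exp.mpr (by omega)
  have hkey : M.adjugate *ᵥ (M *ᵥ v) = M.det • v := by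
    rw [Matrix.mulVec_mulVec, Matrix.adjugate_mul, Matrix.smul_mulVec, Matrix.one_mulVec]
  have h1 := congrFun hkey j₀
  have h2 : Q.1 ((M.adjugate *ᵥ (M *ᵥ v)) j₀) < 1 := by
    show Q.1 (∑ i, M.adjugate j₀ i * (M *ᵥ v) i) < 1
    apply Valuation.map_sum_lt _ one_ne_zero
    intro i _
    rw [map_mul]
    calc Q.1 (M.adjugate j₀ i) * Q.1 ((M *ᵥ v) i) ≤ 1 * Q.1 ((M *ᵥ v) i) :=
          mul_le_mul' (hadj _ _) le_rfl
      _ < 1 := by rw [one_mul]; exact hMv1 i
  rw [h1, Pi.smul_apply, smul_eq_mul, map_mul, hv, Q.val_algebraMap hj₀, mul_one] at h2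
  exact h2

theorem val_D_le_one_of_mem_adjoin (D : Derivation k K K) (Q : Place k K) {S : Set K}
    (hS : ∀ s ∈ S, Q.1 s ≤ 1 ∧ Q.1 (D s) ≤ 1) {a : K} (ha : a ∈ Algebra.adjoin k S) :
    Q.1 a ≤ 1 ∧ Q.1 (D a) ≤ 1 := by
  induction ha using Algebra.adjoin_induction with
  | mem s hs => exact hS s hs
  | algebraMap c =>
    refine ⟨Q.2.1 c, ?_⟩
    rw [Derivation.map_algebraMap, map_zero]
    exact zero_le
  | add a b _ _ ha hb =>
    refine ⟨(Q.1.map_add _ _).trans (max_le ha.1 hb.1), ?_⟩
    rw [map_add]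
    exact (Q.1.map_add _ _).trans (max_le ha.2 hb.2)
  | mul a b _ _ ha hb =>
    refine ⟨by rw [map_mul]; exact mul_le_one' ha.1 hb.1, ?_⟩
    rw [Derivation.leibniz]
    simp only [smul_eq_mul]
    refine (Q.1.map_add _ _).trans (max_le ?_ ?_)
    · rw [map_mul]; exact mul_le_one' ha.1 hb.2
    · rw [map_mul]; exact mul_le_one' hb.1 ha.2

theorem finite_poles (hK : IsFunctionField k K) (z : K) : {Q : Place k K | 1 < Q.1 z}.Finite := by
  apply (finite_support_ord hK z).subset
  intro Q hQ
  have hz0 : z ≠ 0 := by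
    rintro rfl
    rw [Set.mem_ofPred_eq, map_zero] at hQ
    exact not_lt_zero hQ
  have := (Q.ord_neg_iff hz0).mpr hQ
  rw [Function.mem_support]
  omega

/-- Clearing denominators away from `P` while staying a unit at `Q`. -/
theorem exists_regular_denominator [IsAlgClosed k] (hK : IsFunctionField k K) (P Q : Place k K)
    (hQP : Q ≠ P) {z : K} (hz : Q.1 z ≤ 1) :
    ∃ s : K, s ≠ 0 ∧ Q.1 s = 1 ∧ (∀ R : Place k K, R ≠ P → R.1 s ≤ 1) ∧
      ∀ R : Place k K, R ≠ P → R.1 (z * s) ≤ 1 := by
  classical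
  by_cases hz0 : z = 0
  · refine ⟨1, one_ne_zero, map_one _, fun R _ => (map_one _).le, fun R _ => ?_⟩
    rw [hz0, zero_mul, map_zero]
    exact zero_le
  obtain ⟨B, hB⟩ : ∃ B : Divisor k K, B = poleDiv k z - Finsupp.single P (poleDiv k z P) :=
    ⟨_, rfl⟩
  have hBR : ∀ R : Place k K, R ≠ P → B R = max (-(R.ord z)) 0 := by
    intro R hR
    rw [hB, Finsupp.sub_apply, single_apply_ne (Ne.symm hR), sub_zero, poleDiv_apply hK]
  have hBQ : B Q = 0 := by
    rw [hBR Q hQP]
    have := (Q.ord_nonneg_iff hz0).mpr hz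
    omega
  have hdP := Place.deg_eq_one hK P
  obtain ⟨G, hG⟩ : ∃ G : Divisor k K,
      G = Finsupp.single P (Divisor.deg B + 2 * (genus k K : ℤ)) - B := ⟨_, rfl⟩
  have hdegG : Divisor.deg G = 2 * (genus k K : ℤ) := by
    rw [hG, deg_sub, deg_single, hdP]
    push_cast; ring
  have h1 := ell_sub_single_eq hK G (by rw [hdegG]) Q
  have hlt : ell (G - Finsupp.single Q 1) < ell G := by omega
  obtain ⟨s, hs, hns⟩ := exists_mem_L_not_mem hK hlt
  obtain ⟨hs0, hsQ⟩ := ord_eq_of_mem_L_not_mem hs hns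
  have hGQ : G Q = 0 := by
    rw [hG, Finsupp.sub_apply, single_apply_ne (Ne.symm hQP), hBQ, sub_zero]
  have hGR : ∀ R : Place k K, R ≠ P → G R = -B R := by
    intro R hR
    rw [hG, Finsupp.sub_apply, single_apply_ne (Ne.symm hR), zero_sub]
  refine ⟨s, hs0, ?_, fun R hR => ?_, fun R hR => ?_⟩
  · rw [hGQ, neg_zero] at hsQ
    exact (Q.ord_eq_zero_iff hs0).mp hsQ
  · have h2 := neg_le_ord_of_mem_L hs0 hs R
    rw [hGR R hR, hBR R hR] at h2
    apply (R.ord_nonneg_iff hs0).mp
    have : (0 : ℤ) ≤ max (-(R.ord z)) 0 := le_max_right _ _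
    omega
  · have h2 := neg_le_ord_of_mem_L hs0 hs R
    rw [hGR R hR, hBR R hR] at h2
    apply (R.ord_nonneg_iff (mul_ne_zero hz0 hs0)).mp
    rw [R.ord_mul hz0 hs0]
    have : -(R.ord z) ≤ max (-(R.ord z)) 0 := le_max_left _ _
    omega

/-- On a genus-one function field with Weierstrass coordinates `x, y` at `P`, elements regular away
from `P` are polynomials in `x, y`. -/
theorem mem_adjoin_of_regular_off (hK : IsFunctionField k K) (hgen : genus k K = 1)
    (P : Place k K) (hP : P.deg = 1) (x y : K)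
    (hx : x ∈ L (Finsupp.single P 2 : Divisor k K)) (hx2 : P.ord x = -2)
    (hy : y ∈ L (Finsupp.single P 3 : Divisor k K)) (hy3 : P.ord y = -3) {a : K}
    (ha : ∀ R : Place k K, R ≠ P → R.1 a ≤ 1) : a ∈ Algebra.adjoin k ({x, y} : Set K) := by
  classical
  by_cases ha0 : a = 0
  · rw [ha0]; exact Subalgebra.zero_mem _
  obtain ⟨n, hn⟩ : ∃ n : ℕ, n = (-(P.ord a)).toNat + 2 := ⟨_, rfl⟩
  have hmem : a ∈ L (Finsupp.single P (n : ℤ) : Divisor k K) := by
    intro R
    by_cases hR : R = P
    · rw [hR, single_apply_self]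
      apply (P.val_le_exp_iff ha0 _).mpr
      omega
    · rw [single_apply_ne (Ne.symm hR), exp_zero]
      exact ha R hR
  obtain ⟨-, hspan⟩ := Groth.Agent.S19396.result k K hK hgen P hP x y hx hx2 hy hy3 n (by omega)
  rw [← hspan] at hmem
  have hle : Submodule.span k (Set.range
      (Sum.elim (fun i : Fin (n / 2 + 1) => x ^ (i : ℕ))
        (fun i : Fin ((n - 1) / 2) => x ^ (i : ℕ) * y))) ≤
      Subalgebra.toSubmodule (Algebra.adjoin k ({x, y} : Set K)) := by
    rw [Submodule.span_le]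
    rintro _ ⟨i, rfl⟩
    have hxm : x ∈ Algebra.adjoin k ({x, y} : Set K) :=
      Algebra.subset_adjoin (Set.mem_insert _ _)
    have hym : y ∈ Algebra.adjoin k ({x, y} : Set K) :=
      Algebra.subset_adjoin (Set.mem_insert_of_mem _ rfl)
    rcases i with i | i
    · exact Subalgebra.pow_mem _ hxm _
    · exact Subalgebra.mul_mem _ (Subalgebra.pow_mem _ hxm _) hym
  exact hle hmem

theorem isDStable_of_good [IsAlgClosed k] (hK : IsFunctionField k K) (hgen : genus k K = 1)
    (P : Place k K) (x y : K)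
    (hx : x ∈ L (Finsupp.single P 2 : Divisor k K)) (hx2 : P.ord x = -2)
    (hy : y ∈ L (Finsupp.single P 3 : Divisor k K)) (hy3 : P.ord y = -3)
    (D : Derivation k K K) (Q : Place k K) (hQP : Q ≠ P) (hDx : Q.1 (D x) ≤ 1)
    (hDy : Q.1 (D y) ≤ 1) : IsDStable D Q := by
  intro z hz
  have hP := Place.deg_eq_one hK P
  obtain ⟨s, hs0, hsQ, hsreg, hzsreg⟩ := exists_regular_denominator hK P Q hQP hz
  have hsm := mem_adjoin_of_regular_off hK hgen P hP x y hx hx2 hy hy3 hsreg
  have hzsm := mem_adjoin_of_regular_off hK hgen P hP x y hx hx2 hy hy3 hzsreg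
  have hS : ∀ t ∈ ({x, y} : Set K), Q.1 t ≤ 1 ∧ Q.1 (D t) ≤ 1 := by
    intro t ht
    rcases ht with rfl | rfl
    · refine ⟨?_, hDx⟩
      have := hx Q
      rwa [single_apply_ne (Ne.symm hQP), exp_zero] at this
    · refine ⟨?_, hDy⟩
      have := hy Q
      rwa [single_apply_ne (Ne.symm hQP), exp_zero] at this
  obtain ⟨-, hDs⟩ := val_D_le_one_of_mem_adjoin D Q hS hsm
  obtain ⟨hzs1, hDzs⟩ := val_D_le_one_of_mem_adjoin D Q hS hzsm
  have hzeq : z = (z * s) / s := by field_simp
  rw [hzeq, Derivation.leibniz_div]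
  simp only [smul_eq_mul]
  rw [map_mul, map_pow, map_inv₀, hsQ, inv_one, one_pow, one_mul]
  refine (Q.1.map_sub _ _).trans (max_le ?_ ?_)
  · rw [map_mul, hsQ, one_mul]; exact hDzs
  · rw [map_mul]; exact mul_le_one' hzs1 hDs

/-- Finiteness of `n`-torsion (relative to `P`) on a genus-one function field in
characteristic zero. -/
theorem finite_torsion_genus_one [IsAlgClosed k] [CharZero k] (hK : IsFunctionField k K)
    (hgen : genus k K = 1) (P : Place k K) (n : ℕ) (hn : 1 ≤ n) :
    {Q : Place k K | ∃ h : K, h ≠ 0 ∧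
      div k h = Finsupp.single Q (n : ℤ) - Finsupp.single P (n : ℤ)}.Finite := by
  classical
  have hP := Place.deg_eq_one hK P
  obtain ⟨x, y, hxL, hyL, hx2, hy3, hxy, -⟩ := weierstrass hK hgen P hP
  have hfg : (⊤ : IntermediateField k K).FG :=
    ⟨{x, y}, by rw [Finset.coe_insert, Finset.coe_singleton]; exact hxy⟩
  obtain ⟨D, hD⟩ := exists_derivation hK hfg
  haveI := finiteDimensional_L hK (Finsupp.single P (n : ℤ) : Divisor k K)
  have hN : Module.finrank k ↥(L (Finsupp.single P (n : ℤ) : Divisor k K)) = n := by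
    have := ell_single_of_genus_one hK hgen P hP (n : ℤ) (by exact_mod_cast hn)
    have h2 : Module.finrank k ↥(L (Finsupp.single P (n : ℤ) : Divisor k K)) =
        ell (Finsupp.single P (n : ℤ) : Divisor k K) := rfl
    omega
  obtain ⟨b⟩ : Nonempty (Module.Basis (Fin (Module.finrank k
      ↥(L (Finsupp.single P (n : ℤ) : Divisor k K)))) k
      ↥(L (Finsupp.single P (n : ℤ) : Divisor k K))) := ⟨Module.finBasis k _⟩
  obtain ⟨f, hf⟩ : ∃ f : Fin (Module.finrank k
      ↥(L (Finsupp.single P (n : ℤ) : Divisor k K))) → K, f = fun j => (b j : K) := ⟨_, rfl⟩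
  have hfli : LinearIndependent k f := by
    rw [hf]
    exact b.linearIndependent.map' (Submodule.subtype _) (Submodule.ker_subtype _)
  have hW := wronskian_ne_zero D hD f hfli
  apply Set.Finite.subset (((finite_poles hK (D x)).union (finite_poles hK (D y))).union
    ((Set.finite_singleton P).union (finite_zeros' hK hW)))
  rintro Q ⟨h, hh0, hdiv⟩
  by_cases hbad : 1 < Q.1 (D x) ∨ 1 < Q.1 (D y) ∨ Q = P
  · rcases hbad with h1 | h1 | h1
    · exact Or.inl (Or.inl h1)
    · exact Or.inl (Or.inr h1)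
    · exact Or.inr (Or.inl h1)
  · push Not at hbad
    obtain ⟨hDx, hDy, hQP⟩ := hbad
    refine Or.inr (Or.inr ?_)
    have hst := isDStable_of_good hK hgen P x y hxL hx2 hyL hy3 D Q hQP hDx hDy
    have hmem : h ∈ L (Finsupp.single P (n : ℤ) : Divisor k K) := by
      apply (mem_L_iff_div hK hh0 _).mpr
      rw [hdiv, sub_add_cancel]
      exact Finsupp.single_nonneg.mpr (by positivity)
    have hrepr := b.sum_repr ⟨h, hmem⟩
    have hrepr' : ∑ j, algebraMap k K (b.repr ⟨h, hmem⟩ j) * f j = h := by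
      have h9 : ((∑ i, (b.repr ⟨h, hmem⟩) i • b i :
          ↥(L (Finsupp.single P (n : ℤ) : Divisor k K))) : K) = h := congrArg Subtype.val hrepr
      refine Eq.trans ?_ h9
      rw [hf]
      simp only [AddSubmonoidClass.coe_finsetSum, Submodule.coe_smul, Algebra.smul_def]
    have hc : (fun j => b.repr ⟨h, hmem⟩ j) ≠ 0 := by
      intro h0
      apply hh0
      rw [← hrepr']
      apply Finset.sum_eq_zero
      intro j _
      rw [show b.repr ⟨h, hmem⟩ j = 0 from congrFun h0 j, map_zero, zero_mul]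
    have hord : Q.ord h = n := by
      rw [← div_apply hK h Q, hdiv, Finsupp.sub_apply, single_apply_self,
        single_apply_ne (Ne.symm hQP), sub_zero]
    have hval : Q.1 (∑ j, algebraMap k K (b.repr ⟨h, hmem⟩ j) * f j) ≤ exp (-(n : ℤ)) := by
      rw [hrepr', Q.val_eq_exp_neg_ord hh0, hord]
    have hfj : ∀ j, Q.1 (f j) ≤ 1 := by
      intro j
      rw [hf]
      have := (b j).2 Q
      rwa [single_apply_ne (Ne.symm hQP), exp_zero] at this
    exact val_wronskian_lt_one D Q hst (le_of_eq hN) f hfj _ hc hval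

end FunFld
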