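import Mathlib
import Groth.Agent.Lib.FunFldX_helper2
import Groth.Agent.Lib.FunFldJump_helper2

/-! Function fields of one variable (helper2): Hasse derivatives with respect to a local parameter
preserve the valuation ring; leading terms of Hasse derivatives. -/

open WithZero Polynomial IntermediateField Matrix

namespace FunFld

variable {k K : Type*} [Field k] [Field K] [Algebra k K]

section Bdd

/-- The coefficients of `ξ` up to degree `c` are bounded by `B ^ i`. -/
def IsBdd (P : Place k K) (B : ℤᵐ⁰) (c : ℕ) (ξ : PowerSeries K) : Prop :=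
  ∀ i, i ≤ c → P.1 (PowerSeries.coeff i ξ) ≤ B ^ i

variable {P : Place k K} {B : ℤᵐ⁰} {c : ℕ}

theorem IsBdd.add {ξ η : PowerSeries K} (h1 : IsBdd P B c ξ) (h2 : IsBdd P B c η) :
    IsBdd P B c (ξ + η) := by
  intro i hi
  rw [map_add]
  exact (P.1.map_add _ _).trans (max_le (h1 i hi) (h2 i hi))

theorem IsBdd.mul {ξ η : PowerSeries K} (h1 : IsBdd P B c ξ) (h2 : IsBdd P B c η) :
    IsBdd P B c (ξ * η) := by
  intro i hi
  rw [PowerSeries.coeff_mul]
  apply Valuation.map_sum_le
  intro p hp
  rw [Finset.HasAntidiagonal.mem_antidiagonal] at hp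
  rw [map_mul, ← hp, pow_add]
  exact mul_le_mul' (h1 p.1 (by omega)) (h2 p.2 (by omega))

theorem isBdd_C {a : K} (ha : P.1 a ≤ 1) : IsBdd P B c (PowerSeries.C a) := by
  intro i _
  rw [PowerSeries.coeff_C]
  split_ifs with h
  · rw [h, pow_zero]
    exact ha
  · rw [map_zero]
    exact zero_le

theorem IsBdd.of_mul_eq_one {ξ ζ : PowerSeries K} (h : ξ * ζ = 1)
    (hu : P.1 (PowerSeries.constantCoeff ξ) = 1) (h1 : IsBdd P B c ξ) : IsBdd P B c ζ := by
  intro i
  induction i using Nat.strong_induction_on with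
  | _ i ih =>
    intro hi
    have hco := congrArg (PowerSeries.coeff i) h
    rw [PowerSeries.coeff_mul, PowerSeries.coeff_one] at hco
    have hmem0 : ((0, i) : ℕ × ℕ) ∈ Finset.HasAntidiagonal.antidiagonal i := by simp
    rw [← Finset.add_sum_erase _ _ hmem0] at hco
    obtain ⟨u, hu0⟩ : ∃ u : K, u = PowerSeries.coeff 0 ξ := ⟨_, rfl⟩
    have hu' : P.1 u = 1 := by
      rw [hu0, PowerSeries.coeff_zero_eq_constantCoeff_apply]
      exact hu
    have hune : u ≠ 0 := by
      intro h0
      rw [h0, map_zero] at hu'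
      exact zero_ne_one hu'
    have hsum : P.1 (∑ p ∈ (Finset.HasAntidiagonal.antidiagonal i).erase (0, i),
        PowerSeries.coeff p.1 ξ * PowerSeries.coeff p.2 ζ) ≤ B ^ i := by
      apply Valuation.map_sum_le
      intro p hp
      rw [Finset.mem_erase, Finset.HasAntidiagonal.mem_antidiagonal] at hp
      have hne : p.2 ≠ i := fun h' =>
        hp.1 (Prod.ext (by simp only; omega) (by simp only; exact h'))
      rw [map_mul, ← hp.2, pow_add]
      exact mul_le_mul' (h1 p.1 (by omega)) (ih p.2 (by omega) (by omega))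
    have hrhs : P.1 (if i = 0 then (1 : K) else 0) ≤ B ^ i := by
      split_ifs with h0
      · rw [h0, pow_zero, map_one]
      · rw [map_zero]
        exact zero_le
    have heq : PowerSeries.coeff i ζ = u⁻¹ * ((if i = 0 then (1 : K) else 0) -
        ∑ p ∈ (Finset.HasAntidiagonal.antidiagonal i).erase (0, i),
          PowerSeries.coeff p.1 ξ * PowerSeries.coeff p.2 ζ) := by
      rw [← hco, add_sub_cancel_right, ← hu0, ← mul_assoc, inv_mul_cancel₀ hune, one_mul]
    rw [heq, map_mul, map_inv₀, hu', inv_one, one_mul]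
    exact (P.1.map_sub _ _).trans (max_le hrhs hsum)

theorem isBdd_of_mem_adjoin (P : Place k K) (B : ℤᵐ⁰) (c : ℕ) (H : K →ₐ[k] PowerSeries K)
    {S : Set K} (hS : ∀ s ∈ S, IsBdd P B c (H s)) {a : K} (ha : a ∈ Algebra.adjoin k S) :
    IsBdd P B c (H a) := by
  induction ha using Algebra.adjoin_induction with
  | mem s hs => exact hS s hs
  | algebraMap r =>
    rw [H.commutes, PowerSeries.algebraMap_apply]
    exact isBdd_C (P.2.1 r)
  | add a b _ _ ha hb =>
    rw [map_add]
    exact ha.add hb
  | mul a b _ _ ha hb =>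
    rw [map_mul]
    exact ha.mul hb

end Bdd

section Generators

/-- The ring of functions regular away from `Q₀` is a finitely generated `k`-algebra. -/
theorem exists_finite_generators [IsAlgClosed k] (hK : IsFunctionField k K) (Q₀ : Place k K) :
    ∃ G : Finset K, (∀ g ∈ G, ∀ R : Place k K, R ≠ Q₀ → R.1 g ≤ 1) ∧
      ∀ a : K, (∀ R : Place k K, R ≠ Q₀ → R.1 a ≤ 1) → a ∈ Algebra.adjoin k (G : Set K) := by
  classical
  obtain ⟨μ, hμ⟩ : ∃ μ : ℕ, μ = 2 * genus k K + 1 := ⟨_, rfl⟩
  have hdQ := Place.deg_eq_one hK Q₀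
  have hex : ∀ m : ℕ, ∃ b : K, μ ≤ m →
      (b ≠ 0 ∧ Q₀.1 b = exp (m : ℤ) ∧ ∀ R : Place k K, R ≠ Q₀ → R.1 b ≤ 1) := by
    intro m
    by_cases hm : μ ≤ m
    · have hG : 2 * (genus k K : ℤ) ≤
          Divisor.deg (Finsupp.single Q₀ (m : ℤ) : Divisor k K) := by
        rw [deg_single, hdQ]
        push_cast
        omega
      obtain ⟨s, hs, hs0, hsZ⟩ := exists_mem_L_ord_eq hK hG {Q₀}
      refine ⟨s, fun _ => ⟨hs0, ?_, fun R hR => ?_⟩⟩
      · rw [Q₀.val_eq_exp_neg_ord hs0, hsZ Q₀ (Finset.mem_singleton_self _), single_apply_self,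
          neg_neg]
      · have h1 := (mem_L.mp hs) R
        rwa [single_apply_ne (Ne.symm hR), exp_zero] at h1
    · exact ⟨0, fun h => absurd h hm⟩
  choose b hb using hex
  haveI := finiteDimensional_L hK (Finsupp.single Q₀ (μ : ℤ) : Divisor k K)
  obtain ⟨G₀, hG₀⟩ := (Submodule.fg_iff_finiteDimensional
    (L (Finsupp.single Q₀ (μ : ℤ) : Divisor k K))).mpr inferInstance
  obtain ⟨GG, hGG⟩ : ∃ GG : Finset K, GG = G₀ ∪ (Finset.Ico μ (2 * μ)).image b := ⟨_, rfl⟩
  have hsubG₀ : (↑G₀ : Set K) ⊆ (↑GG : Set K) := by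
    intro x hx
    rw [hGG]
    exact Finset.mem_coe.mpr (Finset.mem_union_left _ hx)
  have hbGG : ∀ m, μ ≤ m → m < 2 * μ → b m ∈ (↑GG : Set K) := by
    intro m h1 h2
    rw [hGG]
    exact Finset.mem_coe.mpr (Finset.mem_union_right _
      (Finset.mem_image.mpr ⟨m, Finset.mem_Ico.mpr ⟨h1, h2⟩, rfl⟩))
  have hμpos : 0 < μ := by omega
  have hmemL : ∀ m : ℕ, ∀ a : K, a ∈ L (Finsupp.single Q₀ (m : ℤ) : Divisor k K) →
      a ∈ Algebra.adjoin k (↑GG : Set K) := by
    intro m
    induction m using Nat.strong_induction_on with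
    | _ m ih =>
      intro a ha
      rcases le_or_gt m μ with hmμ | hmμ
      · have hle : (Finsupp.single Q₀ (m : ℤ) : Divisor k K) ≤ Finsupp.single Q₀ (μ : ℤ) := by
          intro R
          by_cases hR : R = Q₀
          · subst hR
            rw [single_apply_self, single_apply_self]
            exact_mod_cast hmμ
          · rw [single_apply_ne (Ne.symm hR), single_apply_ne (Ne.symm hR)]
        have h1 : a ∈ L (Finsupp.single Q₀ (μ : ℤ) : Divisor k K) := L_mono hle ha
        rw [← hG₀] at h1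
        exact Algebra.adjoin_mono hsubG₀ (Algebra.span_le_adjoin k _ h1)
      · by_cases ha0 : a = 0
        · rw [ha0]
          exact Subalgebra.zero_mem _
        obtain ⟨q', hq'⟩ : ∃ q' : ℕ, q' = (m - μ) / μ := ⟨_, rfl⟩
        obtain ⟨r', hr'⟩ : ∃ r' : ℕ, r' = (m - μ) % μ := ⟨_, rfl⟩
        have hdiv : m - μ = μ * q' + r' := by
          rw [hq', hr']
          exact (Nat.div_add_mod _ _).symm
        have hr'lt : r' < μ := by
          rw [hr']
          exact Nat.mod_lt _ hμpos
        have hbμ := hb μ le_rfl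
        have hby := hb (μ + r') (by omega)
        obtain ⟨e, he⟩ : ∃ e : K, e = b μ ^ q' * b (μ + r') := ⟨_, rfl⟩
        have he0 : e ≠ 0 := by
          rw [he]
          exact mul_ne_zero (pow_ne_zero _ hbμ.1) hby.1
        have hemem : e ∈ Algebra.adjoin k (↑GG : Set K) := by
          rw [he]
          exact Subalgebra.mul_mem _
            (Subalgebra.pow_mem _ (Algebra.subset_adjoin (hbGG μ le_rfl (by omega))) _)
            (Algebra.subset_adjoin (hbGG (μ + r') (by omega) (by omega)))
        have heQ : Q₀.1 e = exp (m : ℤ) := by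
          rw [he, map_mul, map_pow, hbμ.2.1, hby.2.1, ← WithZero.exp_nsmul, ← exp_add]
          congr 1
          have h3 : (m : ℤ) = μ + (μ * q' + r') := by
            have : m = μ + (μ * q' + r') := by omega
            exact_mod_cast this
          rw [h3]
          push_cast
          simp only [nsmul_eq_mul]
          ring
        have heR : ∀ R : Place k K, R ≠ Q₀ → R.1 e ≤ 1 := by
          intro R hR
          rw [he, map_mul, map_pow]
          exact mul_le_one' (pow_le_one' (hbμ.2.2 R hR) _) (hby.2.2 R hR)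
        have haQ : Q₀.1 a ≤ exp (m : ℤ) := by
          have h1 := (mem_L.mp ha) Q₀
          rwa [single_apply_self] at h1
        have haR : ∀ R : Place k K, R ≠ Q₀ → R.1 a ≤ 1 := by
          intro R hR
          have h1 := (mem_L.mp ha) R
          rwa [single_apply_ne (Ne.symm hR), exp_zero] at h1
        have hz : Q₀.1 (a * e⁻¹) ≤ 1 := by
          rw [map_mul, map_inv₀, heQ]
          calc Q₀.1 a * (exp (m : ℤ))⁻¹ ≤ exp (m : ℤ) * (exp (m : ℤ))⁻¹ :=
                mul_le_mul' haQ le_rfl
            _ = 1 := mul_inv_cancel₀ exp_ne_zero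
        obtain ⟨cc, hcc⟩ := exists_sub_algebraMap_lt_one hK Q₀ hz
        have hm1 : ((m - 1 : ℕ) : ℤ) = (m : ℤ) - 1 := by omega
        have ha' : a - algebraMap k K cc * e ∈
            L (Finsupp.single Q₀ ((m - 1 : ℕ) : ℤ) : Divisor k K) := by
          rw [mem_L]
          intro R
          by_cases hR : R = Q₀
          · subst hR
            rw [single_apply_self, hm1]
            have heq : a - algebraMap k K cc * e = (a * e⁻¹ - algebraMap k K cc) * e := by
              field_simp
            rw [heq, map_mul, heQ]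
            have h2 := (lt_one_iff_le_exp_neg_one _).mp hcc
            calc R.1 (a * e⁻¹ - algebraMap k K cc) * exp (m : ℤ)
                ≤ exp (-1 : ℤ) * exp (m : ℤ) := mul_le_mul' h2 le_rfl
              _ = exp ((m : ℤ) - 1) := by
                  rw [← exp_add]
                  congr 1
          · rw [single_apply_ne (Ne.symm hR), exp_zero]
            refine (R.1.map_sub _ _).trans (max_le (haR R hR) ?_)
            rw [map_mul]
            exact mul_le_one' (R.2.1 cc) (heR R hR)
        have h5 := ih (m - 1) (by omega) _ ha'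
        have h6 : a = (a - algebraMap k K cc * e) + algebraMap k K cc * e := by ring
        rw [h6]
        exact Subalgebra.add_mem _ h5
          (Subalgebra.mul_mem _ (Subalgebra.algebraMap_mem _ _) hemem)
  refine ⟨GG, ?_, ?_⟩
  · intro g hg R hR
    rw [hGG, Finset.mem_union] at hg
    rcases hg with hg | hg
    · have h1 : g ∈ L (Finsupp.single Q₀ (μ : ℤ) : Divisor k K) := by
        rw [← hG₀]
        exact Submodule.subset_span hg
      have h2 := (mem_L.mp h1) R
      rwa [single_apply_ne (Ne.symm hR), exp_zero] at h2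
    · obtain ⟨m, hm, rfl⟩ := Finset.mem_image.mp hg
      rw [Finset.mem_Ico] at hm
      exact (hb m hm.1).2.2 R hR
  · intro a ha
    by_cases ha0 : a = 0
    · rw [ha0]
      exact Subalgebra.zero_mem _
    apply hmemL ((-(Q₀.ord a)).toNat) a
    rw [mem_L]
    intro R
    by_cases hR : R = Q₀
    · subst hR
      rw [single_apply_self]
      apply (R.val_le_exp_iff ha0 _).mpr
      omega
    · rw [single_apply_ne (Ne.symm hR), exp_zero]
      exact ha R hR

end Generators

section Stable

theorem exists_isBdd [IsAlgClosed k] (hK : IsFunctionField k K) (P : Place k K) {s : K}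
    {H : K →ₐ[k] PowerSeries K} (hH : LocRes.IsHasseFamily s H) (c : ℕ) :
    ∃ B : ℤᵐ⁰, 1 ≤ B ∧ ∀ f : K, P.1 f ≤ 1 → IsBdd P B c (H f) := by
  classical
  obtain ⟨Q₀, hQ₀⟩ := exists_place_ne hK P
  obtain ⟨G, hG1, hG2⟩ := exists_finite_generators hK Q₀
  obtain ⟨B, hB⟩ := Finset.exists_le (insert (1 : ℤᵐ⁰)
    ((G ×ˢ Finset.range (c + 1)).image (fun p => P.1 (PowerSeries.coeff p.2 (H p.1)))))
  have hB1 : 1 ≤ B := hB 1 (Finset.mem_insert_self _ _)
  have hBg : ∀ g ∈ (G : Set K), IsBdd P B c (H g) := by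
    intro g hg i hi
    rcases Nat.eq_zero_or_pos i with rfl | hipos
    · rw [pow_zero, PowerSeries.coeff_zero_eq_constantCoeff_apply, hH.2]
      exact hG1 g hg P (Ne.symm hQ₀)
    · have h1 : P.1 (PowerSeries.coeff i (H g)) ≤ B :=
        hB _ (Finset.mem_insert_of_mem (Finset.mem_image.mpr
          ⟨(g, i), Finset.mem_product.mpr ⟨hg, Finset.mem_range.mpr (by omega)⟩, rfl⟩))
      exact h1.trans (le_self_pow₀ hB1 (by omega))
  refine ⟨B, hB1, fun f hf => ?_⟩
  obtain ⟨s', hs0, hsP, hsreg, hfsreg⟩ := exists_regular_denominator hK Q₀ P (Ne.symm hQ₀) hf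
  have h1 := isBdd_of_mem_adjoin P B c H hBg (hG2 s' hsreg)
  have h2 := isBdd_of_mem_adjoin P B c H hBg (hG2 (f * s') hfsreg)
  have h3 : IsBdd P B c (H s'⁻¹) := by
    refine IsBdd.of_mul_eq_one (ξ := H s') ?_ ?_ h1
    · rw [← map_mul, mul_inv_cancel₀ hs0, map_one]
    · rw [hH.2]
      exact hsP
  have h4 : f = (f * s') * s'⁻¹ := by field_simp
  rw [h4, map_mul]
  exact h2.mul h3

theorem hasseD_uniformizer_mul {t : K} {H : K →ₐ[k] PowerSeries K}
    (hH : LocRes.IsHasseFamily t H) (j : ℕ) (f : K) :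
    LocRes.hasseD H (j + 1) (t * f) =
      t * LocRes.hasseD H (j + 1) f + LocRes.hasseD H j f := by
  simp only [LocRes.hasseD_apply, map_mul, hH.1, add_mul, map_add, PowerSeries.coeff_C_mul,
    PowerSeries.coeff_succ_X_mul]

/-- Hasse derivatives with respect to a local parameter at `P` preserve the valuation ring. -/
theorem val_hasseD_le_one [IsAlgClosed k] (hK : IsFunctionField k K) (P : Place k K) {t : K}
    (ht : P.1 t = exp (-1 : ℤ)) {H : K →ₐ[k] PowerSeries K} (hH : LocRes.IsHasseFamily t H) :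
    ∀ (j : ℕ) (f : K), P.1 f ≤ 1 → P.1 (LocRes.hasseD H j f) ≤ 1 := by
  intro j
  induction j using Nat.strong_induction_on with
  | _ j ih =>
    intro f hf
    rcases Nat.eq_zero_or_pos j with rfl | hjpos
    · rw [hasseD_zero_apply hH]
      exact hf
    obtain ⟨j', rfl⟩ : ∃ j', j = j' + 1 := ⟨j - 1, by omega⟩
    obtain ⟨B, hB1, hB⟩ := exists_isBdd hK P hH (j' + 1)
    obtain ⟨b, hb⟩ : ∃ b : ℤᵐ⁰, b = B ^ (j' + 1) := ⟨_, rfl⟩
    have hb1 : 1 ≤ b := by
      rw [hb]
      exact one_le_pow₀ hB1
    have hbound : ∀ f, P.1 f ≤ 1 → P.1 (LocRes.hasseD H (j' + 1) f) ≤ b := fun f hf => by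
      rw [hb]
      exact hB f hf (j' + 1) le_rfl
    have ht0 := uniformizer_ne_zero P ht
    have hclaim : ∀ N : ℕ, ∀ f, P.1 f ≤ 1 →
        P.1 (LocRes.hasseD H (j' + 1) f) ≤ max 1 (b * exp (-(N : ℤ))) := by
      intro N
      induction N with
      | zero =>
        intro f hf
        refine (hbound f hf).trans ?_
        rw [Nat.cast_zero, neg_zero, exp_zero, mul_one]
        exact le_max_right _ _
      | succ N ihN =>
        intro f hf
        obtain ⟨cc, hcc⟩ := exists_sub_algebraMap_lt_one hK P hf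
        obtain ⟨f₁, hf₁⟩ : ∃ f₁ : K, f₁ = (f - algebraMap k K cc) * t⁻¹ := ⟨_, rfl⟩
        have hf₁1 : P.1 f₁ ≤ 1 := by
          rw [hf₁, map_mul, map_inv₀, ht]
          have h2 := (lt_one_iff_le_exp_neg_one _).mp hcc
          calc P.1 (f - algebraMap k K cc) * (exp (-1 : ℤ))⁻¹
              ≤ exp (-1 : ℤ) * (exp (-1 : ℤ))⁻¹ := mul_le_mul' h2 le_rfl
            _ = 1 := mul_inv_cancel₀ exp_ne_zero
        have hfeq : f = algebraMap k K cc + t * f₁ := by
          rw [hf₁]
          field_simp
          ring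
        have hD : LocRes.hasseD H (j' + 1) f =
            t * LocRes.hasseD H (j' + 1) f₁ + LocRes.hasseD H j' f₁ := by
          rw [hfeq, hasseD_add, hasseD_algebraMap, if_neg (by omega), zero_add,
            hasseD_uniformizer_mul hH]
        rw [hD]
        refine (P.1.map_add _ _).trans (max_le ?_ ?_)
        · rw [map_mul, ht]
          rcases le_max_iff.mp (ihN f₁ hf₁1) with h1 | h1
          · refine le_trans ?_ (le_max_left _ _)
            calc exp (-1 : ℤ) * P.1 (LocRes.hasseD H (j' + 1) f₁) ≤ 1 * 1 :=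
                  mul_le_mul' exp_neg_one_lt_one.le h1
              _ = 1 := one_mul 1
          · refine le_trans ?_ (le_max_right _ _)
            calc exp (-1 : ℤ) * P.1 (LocRes.hasseD H (j' + 1) f₁)
                ≤ exp (-1 : ℤ) * (b * exp (-(N : ℤ))) := mul_le_mul' le_rfl h1
              _ = b * exp (-((N + 1 : ℕ) : ℤ)) := by
                  rw [mul_left_comm, ← exp_add]
                  congr 2
                  push_cast
                  ring
        · exact (ih j' (by omega) f₁ hf₁1).trans (le_max_left _ _)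
    have hb0 : b ≠ 0 := (lt_of_lt_of_le zero_lt_one hb1).ne'
    obtain ⟨M, hM⟩ : ∃ M : ℤ, b = exp M := ⟨log b, (exp_log hb0).symm⟩
    refine (hclaim M.toNat f hf).trans (max_le le_rfl ?_)
    rw [hM, ← exp_add, ← exp_zero (M := ℤ), exp_le_exp]
    omega

end Stable

end FunFld
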