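import Mathlib
import Groth.Agent.Lib.FunFldHasseA_helper2

/-! Function fields of one variable (helper2): values at a place, leading terms of Hasse
derivatives, orders at a place and adapted bases. -/

open WithZero Polynomial IntermediateField Matrix

namespace FunFld

variable {k K : Type*} [Field k] [Field K] [Algebra k K]

section EvalP

variable (P : Place k K)

theorem mem_O_iff (z : K) : z ∈ P.O ↔ P.1 z ≤ 1 := Valuation.mem_valuationSubring_iff P.1 z

theorem evalP_coe (x : P.O) : evalP P (x : K) = IsLocalRing.residue P.O x := by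
  have hx : P.1 (x : K) ≤ 1 := (Valuation.mem_valuationSubring_iff P.1 _).mp x.2
  unfold evalP
  rw [dif_pos hx]

theorem exists_coe_eq {z : K} (hz : P.1 z ≤ 1) : ∃ x : P.O, (x : K) = z :=
  ⟨⟨z, (mem_O_iff P z).mpr hz⟩, rfl⟩

theorem evalP_add {z w : K} (hz : P.1 z ≤ 1) (hw : P.1 w ≤ 1) :
    evalP P (z + w) = evalP P z + evalP P w := by
  obtain ⟨x, rfl⟩ := exists_coe_eq P hz
  obtain ⟨y, rfl⟩ := exists_coe_eq P hw
  have h : (x : K) + (y : K) = ((x + y : P.O) : K) := rfl
  rw [h, evalP_coe, evalP_coe, evalP_coe, map_add]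

theorem evalP_mul {z w : K} (hz : P.1 z ≤ 1) (hw : P.1 w ≤ 1) :
    evalP P (z * w) = evalP P z * evalP P w := by
  obtain ⟨x, rfl⟩ := exists_coe_eq P hz
  obtain ⟨y, rfl⟩ := exists_coe_eq P hw
  have h : (x : K) * (y : K) = ((x * y : P.O) : K) := rfl
  rw [h, evalP_coe, evalP_coe, evalP_coe, map_mul]

theorem evalP_sub {z w : K} (hz : P.1 z ≤ 1) (hw : P.1 w ≤ 1) :
    evalP P (z - w) = evalP P z - evalP P w := by
  obtain ⟨x, rfl⟩ := exists_coe_eq P hz
  obtain ⟨y, rfl⟩ := exists_coe_eq P hw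
  have h : (x : K) - (y : K) = ((x - y : P.O) : K) := rfl
  rw [h, evalP_coe, evalP_coe, evalP_coe, map_sub]

theorem evalP_zero : evalP P (0 : K) = 0 := by
  have h : (0 : K) = ((0 : P.O) : K) := rfl
  rw [h, evalP_coe, map_zero]

theorem evalP_one : evalP P (1 : K) = 1 := by
  have h : (1 : K) = ((1 : P.O) : K) := rfl
  rw [h, evalP_coe, map_one]

theorem evalP_natCast (m : ℕ) : evalP P (m : K) = (m : IsLocalRing.ResidueField P.O) := by
  have h : (m : K) = ((m : P.O) : K) := rfl
  rw [h, evalP_coe, map_natCast]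

theorem evalP_eq_zero_iff {z : K} (hz : P.1 z ≤ 1) : evalP P z = 0 ↔ P.1 z < 1 := by
  obtain ⟨x, rfl⟩ := exists_coe_eq P hz
  rw [evalP_coe]
  exact P.residue_eq_zero_iff x

theorem evalP_ne_zero_iff {z : K} (hz : P.1 z ≤ 1) : evalP P z ≠ 0 ↔ P.1 z = 1 := by
  rw [Ne, evalP_eq_zero_iff P hz, not_lt]
  exact ⟨fun h => le_antisymm hz h, fun h => h.ge⟩

theorem evalP_sum {ι : Type*} (s : Finset ι) (f : ι → K) (hf : ∀ i ∈ s, P.1 (f i) ≤ 1) :
    P.1 (∑ i ∈ s, f i) ≤ 1 ∧ evalP P (∑ i ∈ s, f i) = ∑ i ∈ s, evalP P (f i) := by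
  classical
  induction s using Finset.induction_on with
  | empty =>
    refine ⟨?_, ?_⟩
    · rw [Finset.sum_empty, map_zero]
      exact zero_le_one
    · rw [Finset.sum_empty, Finset.sum_empty, evalP_zero]
  | insert a s ha ih =>
    have h1 := ih (fun i hi => hf i (Finset.mem_insert_of_mem hi))
    have h2 := hf a (Finset.mem_insert_self _ _)
    rw [Finset.sum_insert ha, Finset.sum_insert ha]
    refine ⟨(P.1.map_add _ _).trans (max_le h2 h1.1), ?_⟩
    rw [evalP_add P h2 h1.1, h1.2]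

/-- The constant field inside the residue field. -/
noncomputable def resk : k →+* IsLocalRing.ResidueField P.O :=
  (IsLocalRing.residue P.O).comp (algebraMap k P.O)

theorem resk_apply (c : k) : resk P c = evalP P (algebraMap k K c) := by
  have h : algebraMap k K c = ((algebraMap k P.O c : P.O) : K) := rfl
  rw [h, evalP_coe]
  rfl

theorem resk_injective : Function.Injective (resk P) := (resk P).injective

theorem resk_surjective [IsAlgClosed k] (hK : IsFunctionField k K) :
    Function.Surjective (resk P) := by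
  intro y
  obtain ⟨x, rfl⟩ := IsLocalRing.residue_surjective y
  have hx : P.1 (x : K) ≤ 1 := (mem_O_iff P _).mp x.2
  obtain ⟨c, hc⟩ := exists_sub_algebraMap_lt_one hK P hx
  refine ⟨c, ?_⟩
  have h1 := (evalP_eq_zero_iff P ((P.1.map_sub _ _).trans (max_le hx (P.2.1 c)))).mpr hc
  rw [evalP_sub P hx (P.2.1 c), sub_eq_zero, evalP_coe] at h1
  rw [resk_apply, h1]

theorem evalP_smul (c : k) {z : K} (hz : P.1 z ≤ 1) : evalP P (c • z) = resk P c * evalP P z := by
  rw [Algebra.smul_def, evalP_mul P (P.2.1 c) hz, resk_apply]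

theorem val_smul_le_one (c : k) {z : K} (hz : P.1 z ≤ 1) : P.1 (c • z) ≤ 1 := by
  rw [Algebra.smul_def, map_mul]
  exact mul_le_one' (P.2.1 c) hz

theorem evalP_det {N : ℕ} (W : Matrix (Fin N) (Fin N) K) (hW : ∀ r q, P.1 (W r q) ≤ 1) :
    P.1 W.det ≤ 1 ∧ evalP P W.det = (Matrix.of fun r q => evalP P (W r q)).det := by
  let W₀ : Matrix (Fin N) (Fin N) P.O :=
    Matrix.of fun r q => ⟨W r q, (mem_O_iff P _).mpr (hW r q)⟩
  have hW₀ : W = W₀.map P.O.subtype := by
    ext r q
    rfl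
  have hdet : W.det = ((W₀.det : P.O) : K) := by
    rw [hW₀, ← RingHom.mapMatrix_apply, ← RingHom.map_det]
    rfl
  refine ⟨?_, ?_⟩
  · rw [hdet]
    exact (mem_O_iff P _).mp W₀.det.2
  · rw [hdet, evalP_coe, RingHom.map_det, RingHom.mapMatrix_apply]
    congr 1
    ext r q
    simp only [Matrix.map_apply, Matrix.of_apply]
    exact (evalP_coe P _).symm

theorem val_uniformizer_pow {t : K} (ht : P.1 t = exp (-1 : ℤ)) (b : ℕ) :
    P.1 (t ^ b) = exp (-(b : ℤ)) := by
  have h := val_uniformizer_zpow P ht (b : ℤ)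
  rwa [zpow_natCast] at h

end EvalP

section Leading

theorem hasseD_pow_self {t : K} {H : K →ₐ[k] PowerSeries K} (hH : LocRes.IsHasseFamily t H)
    (m a : ℕ) : LocRes.hasseD H a (t ^ m) = (m.choose a : K) * t ^ (m - a) := by
  have h1 : H (t ^ m) = (((Polynomial.X + Polynomial.C t) ^ m : K[X]) : PowerSeries K) := by
    rw [map_pow, hH.1, Polynomial.coe_pow, Polynomial.coe_add, Polynomial.coe_X,
      Polynomial.coe_C, add_comm]
  rw [LocRes.hasseD_apply, h1, Polynomial.coeff_coe, Polynomial.coeff_X_add_C_pow, mul_comm]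

/-- The normalised `i`-th Hasse derivative of `t ^ m * u`. -/
noncomputable def wlead (t : K) (H : K →ₐ[k] PowerSeries K) (m i : ℕ) (u : K) : K :=
  ∑ p ∈ Finset.HasAntidiagonal.antidiagonal i,
    (m.choose p.1 : K) * (t ^ p.2 * LocRes.hasseD H p.2 u)

theorem pow_mul_hasseD_pow_mul {t : K} {H : K →ₐ[k] PowerSeries K}
    (hH : LocRes.IsHasseFamily t H) (m i : ℕ) (u : K) :
    t ^ i * LocRes.hasseD H i (t ^ m * u) = t ^ m * wlead t H m i u := by
  unfold wlead
  rw [hasseD_mul, Finset.mul_sum, Finset.mul_sum]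
  apply Finset.sum_congr rfl
  intro p hp
  rw [Finset.HasAntidiagonal.mem_antidiagonal] at hp
  rw [hasseD_pow_self hH]
  rcases le_or_gt p.1 m with h | h
  · have e1 : t ^ i * t ^ (m - p.1) = t ^ m * t ^ p.2 := by
      rw [← pow_add, ← pow_add]
      congr 1
      omega
    calc t ^ i * ((m.choose p.1 : K) * t ^ (m - p.1) * LocRes.hasseD H p.2 u)
        = (m.choose p.1 : K) * (t ^ i * t ^ (m - p.1)) * LocRes.hasseD H p.2 u := by ring
      _ = t ^ m * ((m.choose p.1 : K) * (t ^ p.2 * LocRes.hasseD H p.2 u)) := by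
          rw [e1]
          ring
  · rw [Nat.choose_eq_zero_of_lt h]
    simp

variable [IsAlgClosed k]

theorem val_wlead_term_le (hK : IsFunctionField k K) (P : Place k K) {t : K}
    (ht : P.1 t = exp (-1 : ℤ)) {H : K →ₐ[k] PowerSeries K} (hH : LocRes.IsHasseFamily t H)
    (m : ℕ) {u : K} (hu : P.1 u ≤ 1) (p : ℕ × ℕ) :
    P.1 ((m.choose p.1 : K) * (t ^ p.2 * LocRes.hasseD H p.2 u)) ≤ exp (-(p.2 : ℤ)) := by
  rw [map_mul, map_mul, val_uniformizer_pow P ht]
  calc P.1 (m.choose p.1 : K) * (exp (-(p.2 : ℤ)) * P.1 (LocRes.hasseD H p.2 u))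
      ≤ 1 * (exp (-(p.2 : ℤ)) * 1) :=
        mul_le_mul' (val_natCast_le_one P _)
          (mul_le_mul' le_rfl (val_hasseD_le_one hK P ht hH _ _ hu))
    _ = exp (-(p.2 : ℤ)) := by rw [one_mul, mul_one]

theorem exp_neg_natCast_le_one (b : ℕ) : exp (-(b : ℤ)) ≤ (1 : ℤᵐ⁰) := by
  rw [← exp_zero (M := ℤ), exp_le_exp]
  omega

theorem val_wlead_le_one (hK : IsFunctionField k K) (P : Place k K) {t : K}
    (ht : P.1 t = exp (-1 : ℤ)) {H : K →ₐ[k] PowerSeries K} (hH : LocRes.IsHasseFamily t H)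
    (m i : ℕ) {u : K} (hu : P.1 u ≤ 1) : P.1 (wlead t H m i u) ≤ 1 := by
  unfold wlead
  apply Valuation.map_sum_le
  intro p _
  exact (val_wlead_term_le hK P ht hH m hu p).trans (exp_neg_natCast_le_one _)

theorem evalP_wlead (hK : IsFunctionField k K) (P : Place k K) {t : K}
    (ht : P.1 t = exp (-1 : ℤ)) {H : K →ₐ[k] PowerSeries K} (hH : LocRes.IsHasseFamily t H)
    (m i : ℕ) {u : K} (hu : P.1 u ≤ 1) :
    evalP P (wlead t H m i u) = (m.choose i : IsLocalRing.ResidueField P.O) * evalP P u := by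
  unfold wlead
  have hterm : ∀ p ∈ Finset.HasAntidiagonal.antidiagonal i,
      P.1 ((m.choose p.1 : K) * (t ^ p.2 * LocRes.hasseD H p.2 u)) ≤ 1 := fun p _ =>
    (val_wlead_term_le hK P ht hH m hu p).trans (exp_neg_natCast_le_one _)
  rw [(evalP_sum P _ _ hterm).2]
  rw [Finset.sum_eq_single (i, 0)]
  · simp only [pow_zero, one_mul, hasseD_zero_apply hH]
    rw [evalP_mul P (val_natCast_le_one P _) hu, evalP_natCast]
  · intro p hp hne
    rw [Finset.HasAntidiagonal.mem_antidiagonal] at hp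
    rw [evalP_eq_zero_iff P (hterm p (Finset.HasAntidiagonal.mem_antidiagonal.mpr hp))]
    refine lt_of_le_of_lt (val_wlead_term_le hK P ht hH m hu p) ?_
    have hp2 : p.2 ≠ 0 := by
      intro h0
      apply hne
      exact Prod.ext (by simp only; omega) (by simp only; exact h0)
    rw [← exp_zero (M := ℤ), exp_lt_exp]
    omega
  · intro h
    exact absurd (Finset.HasAntidiagonal.mem_antidiagonal.mpr (by simp)) h

/-- Hasse derivatives of an element of order at least `m`. -/
theorem hasseD_of_val_le (hK : IsFunctionField k K) (P : Place k K) {t : K}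
    (ht : P.1 t = exp (-1 : ℤ)) {H : K →ₐ[k] PowerSeries K} (hH : LocRes.IsHasseFamily t H)
    {f : K} {m : ℕ} (hf : P.1 f ≤ exp (-(m : ℤ))) :
    (∀ i, i < m → P.1 (LocRes.hasseD H i f) < 1) ∧
      evalP P (LocRes.hasseD H m f) = evalP P (f * (t ^ m)⁻¹) := by
  have ht0 := uniformizer_ne_zero P ht
  obtain ⟨u, hu⟩ : ∃ u : K, u = f * (t ^ m)⁻¹ := ⟨_, rfl⟩
  have hu1 : P.1 u ≤ 1 := by
    rw [hu, map_mul, map_inv₀, val_uniformizer_pow P ht]
    calc P.1 f * (exp (-(m : ℤ)))⁻¹ ≤ exp (-(m : ℤ)) * (exp (-(m : ℤ)))⁻¹ :=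
          mul_le_mul' hf le_rfl
      _ = 1 := mul_inv_cancel₀ exp_ne_zero
  have hfu : f = t ^ m * u := by
    rw [hu]
    field_simp
  have hkey : ∀ i, i ≤ m → LocRes.hasseD H i f = t ^ (m - i) * wlead t H m i u := by
    intro i hi
    have h1 := pow_mul_hasseD_pow_mul hH m i u
    rw [← hfu] at h1
    have h2 : t ^ m = t ^ i * t ^ (m - i) := by
      rw [← pow_add]
      congr 1
      omega
    rw [h2, mul_assoc] at h1
    exact mul_left_cancel₀ (pow_ne_zero i ht0) h1
  refine ⟨fun i hi => ?_, ?_⟩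
  · rw [hkey i hi.le, map_mul, val_uniformizer_pow P ht]
    calc exp (-((m - i : ℕ) : ℤ)) * P.1 (wlead t H m i u)
        ≤ exp (-((m - i : ℕ) : ℤ)) * 1 :=
          mul_le_mul' le_rfl (val_wlead_le_one hK P ht hH m i hu1)
      _ = exp (-((m - i : ℕ) : ℤ)) := mul_one _
      _ < 1 := by
          rw [← exp_zero (M := ℤ), exp_lt_exp]
          omega
  · rw [hkey m le_rfl, Nat.sub_self, pow_zero, one_mul, evalP_wlead hK P ht hH m m hu1,
      Nat.choose_self, Nat.cast_one, one_mul, hu]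

/-- Leading term of a generalised Wronskian determinant. -/
theorem det_leading (hK : IsFunctionField k K) (P : Place k K) {t : K}
    (ht : P.1 t = exp (-1 : ℤ)) {H : K →ₐ[k] PowerSeries K} (hH : LocRes.IsHasseFamily t H)
    {N : ℕ} (j : Fin (N + 1) → ℕ) (u γ : Fin (N + 1) → K) (hu : ∀ r, P.1 (u r) ≤ 1)
    (hγ : ∀ r, P.1 (γ r) ≤ 1) (I : Fin N → ℕ) :
    ∃ W : Matrix (Fin (N + 1)) (Fin (N + 1)) K, (∀ r q, P.1 (W r q) ≤ 1) ∧
      (Matrix.of fun r q => Fin.cases (motive := fun _ => K) (t ^ j r * γ r)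
        (fun l => LocRes.hasseD H (I l) (t ^ j r * u r)) q).det * t ^ (∑ l, I l) =
        t ^ (∑ r, j r) * W.det ∧
      (∀ r, W r 0 = γ r) ∧
      ∀ r l, evalP P (W r l.succ) =
        ((j r).choose (I l) : IsLocalRing.ResidueField P.O) * evalP P (u r) := by
  classical
  refine ⟨Matrix.of fun r q => Fin.cases (motive := fun _ => K) (γ r)
    (fun l => wlead t H (j r) (I l) (u r)) q, ?_, ?_, ?_, ?_⟩
  · intro r q
    induction q using Fin.cases with
    | zero => simpa using hγ r
    | succ l => simpa using val_wlead_le_one hK P ht hH (j r) (I l) (hu r)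
  · have hmat : (Matrix.of fun r q => Fin.cases (motive := fun _ => K) (t ^ j r * γ r)
          (fun l => LocRes.hasseD H (I l) (t ^ j r * u r)) q) *
        Matrix.diagonal (Fin.cases (motive := fun _ => K) 1 (fun l => t ^ I l)) =
        Matrix.diagonal (fun r => t ^ j r) *
          (Matrix.of fun r q => Fin.cases (motive := fun _ => K) (γ r)
            (fun l => wlead t H (j r) (I l) (u r)) q) := by
      ext r q
      rw [Matrix.mul_diagonal, Matrix.diagonal_mul]
      induction q using Fin.cases with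
      | zero => simp
      | succ l =>
        simp only [Matrix.of_apply, Fin.cases_succ]
        rw [mul_comm, pow_mul_hasseD_pow_mul hH]
    have hdet := congrArg Matrix.det hmat
    rw [Matrix.det_mul, Matrix.det_mul, Matrix.det_diagonal, Matrix.det_diagonal,
      Fin.prod_univ_succ] at hdet
    simp only [Fin.cases_zero, Fin.cases_succ, one_mul, Finset.prod_pow_eq_pow_sum] at hdet
    exact hdet
  · intro r
    simp
  · intro r l
    simp only [Matrix.of_apply, Fin.cases_succ]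
    exact evalP_wlead hK P ht hH (j r) (I l) (hu r)

end Leading

end FunFld
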