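import Mathlib
import Groth.Agent.Lib.FunFldHasseB_helper2

/-! Function fields of one variable (helper2): orders at a place versus orders of functions,
adapted bases, fixed points, independence of binomial rows. -/

open WithZero Polynomial IntermediateField Matrix

namespace FunFld

variable {k K : Type*} [Field k] [Field K] [Algebra k K]

section Binom

/-- Truncated rows of binomial coefficients are linearly independent. -/
theorem binom_rows_indep {F : Type*} [Field F] {N : ℕ} (j : Fin N → ℕ) (hj : StrictMono j)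
    (j₀ m : ℕ) (hj₀ : ∀ r, j₀ ≤ j r) (hjm : ∀ r, j r ≤ j₀ + m) (x : Fin N → F)
    (hx : ∀ b, b ≤ m → ∑ r, x r * ((j r).choose b : F) = 0) : x = 0 := by
  classical
  obtain ⟨q, hq⟩ : ∃ q : F[X], q = ∑ r, C (x r) * (1 + X) ^ (j r - j₀) := ⟨_, rfl⟩
  have hp : (1 + X : F[X]) ^ j₀ * q = ∑ r, C (x r) * (1 + X) ^ (j r) := by
    rw [hq, Finset.mul_sum]
    apply Finset.sum_congr rfl
    intro r _
    rw [mul_left_comm, ← pow_add]
    congr 2
    have := hj₀ r
    omega
  have hdvd : (X : F[X]) ^ (m + 1) ∣ (1 + X : F[X]) ^ j₀ * q := by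
    rw [hp, X_pow_dvd_iff]
    intro b hb
    rw [finsetSum_coeff]
    rw [← hx b (by omega)]
    apply Finset.sum_congr rfl
    intro r _
    rw [coeff_C_mul, coeff_one_add_X_pow]
  have hcop : IsCoprime ((X : F[X]) ^ (m + 1)) ((1 + X : F[X]) ^ j₀) := by
    apply IsCoprime.pow
    exact ⟨-1, 1, by ring⟩
  have hdvdq : (X : F[X]) ^ (m + 1) ∣ q := hcop.dvd_of_dvd_mul_left hdvd
  have hdeg : q.natDegree < (X ^ (m + 1) : F[X]).natDegree := by
    rw [natDegree_X_pow, hq]
    refine lt_of_le_of_lt (natDegree_sum_le_of_forall_le _ _ (n := m) ?_) (Nat.lt_succ_self m)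
    intro r _
    refine (natDegree_C_mul_le _ _).trans ?_
    refine natDegree_pow_le.trans ?_
    have h1 : (1 + X : F[X]).natDegree ≤ 1 := by
      rw [add_comm, ← C_1, natDegree_X_add_C]
    have h2 := hjm r
    calc (j r - j₀) * (1 + X : F[X]).natDegree ≤ (j r - j₀) * 1 := Nat.mul_le_mul_left _ h1
      _ ≤ m := by omega
  have hq0 : q = 0 := eq_zero_of_dvd_of_natDegree_lt hdvdq hdeg
  have hcomp : q.comp (X - 1) = ∑ r, C (x r) * X ^ (j r - j₀) := by
    rw [hq, sum_comp]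
    apply Finset.sum_congr rfl
    intro r _
    simp only [mul_comp, C_comp, pow_comp, add_comp, one_comp, X_comp]
    congr 2
    ring
  rw [hq0, zero_comp] at hcomp
  funext r₀
  have h1 := congrArg (fun p : F[X] => p.coeff (j r₀ - j₀)) hcomp
  simp only [coeff_zero, finsetSum_coeff, coeff_C_mul, coeff_X_pow] at h1
  rw [Finset.sum_eq_single r₀] at h1
  · simpa using h1.symm
  · intro r _ hr
    have hne : j r₀ - j₀ ≠ j r - j₀ := by
      intro h
      apply hr
      apply hj.injective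
      have := hj₀ r
      have := hj₀ r₀
      omega
    rw [if_neg hne, mul_zero]
  · intro h
    exact absurd (Finset.mem_univ _) h

end Binom

section Fixed

theorem IsStrongFixedPt.isFixedPt {τ : K →ₐ[k] K} {P : Place k K} (h : IsStrongFixedPt τ P) :
    IsFixedPt τ P := fun z hz =>
  lt_of_le_of_lt (h z hz) (by
    rw [← exp_zero (M := ℤ), exp_lt_exp]
    norm_num)

variable [IsAlgClosed k]

theorem val_map_le_one_of_isFixedPt (hK : IsFunctionField k K) {τ : K →ₐ[k] K} {P : Place k K}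
    (h : IsFixedPt τ P) {u : K} (hu : P.1 u ≤ 1) : P.1 (τ u) ≤ 1 := by
  obtain ⟨c, hc⟩ := exists_sub_algebraMap_lt_one hK P hu
  have h1 := h _ hc
  have h2 : τ u = τ (u - algebraMap k K c) + algebraMap k K c := by
    rw [map_sub, τ.commutes]
    ring
  rw [h2]
  exact (P.1.map_add _ _).trans (max_le h1.le (P.2.1 c))

theorem val_map_le_of_isFixedPt (hK : IsFunctionField k K) {τ : K →ₐ[k] K} {P : Place k K}
    (h : IsFixedPt τ P) {t : K} (ht : P.1 t = exp (-1 : ℤ)) {z : K} {m : ℕ}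
    (hz : P.1 z ≤ exp (-(m : ℤ))) : P.1 (τ z) ≤ exp (-(m : ℤ)) := by
  have ht0 := uniformizer_ne_zero P ht
  obtain ⟨u, hu⟩ : ∃ u : K, u = z * (t ^ m)⁻¹ := ⟨_, rfl⟩
  have hu1 : P.1 u ≤ 1 := by
    rw [hu, map_mul, map_inv₀, val_uniformizer_pow P ht]
    calc P.1 z * (exp (-(m : ℤ)))⁻¹ ≤ exp (-(m : ℤ)) * (exp (-(m : ℤ)))⁻¹ :=
          mul_le_mul' hz le_rfl
      _ = 1 := mul_inv_cancel₀ exp_ne_zero
  have hz' : z = t ^ m * u := by
    rw [hu]
    field_simp
  have htt : P.1 (τ t) ≤ exp (-1 : ℤ) :=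
    (lt_one_iff_le_exp_neg_one _).mp (h t (by rw [ht]; exact exp_neg_one_lt_one))
  rw [hz', map_mul, map_pow, map_mul, map_pow]
  calc P.1 (τ t) ^ m * P.1 (τ u) ≤ exp (-1 : ℤ) ^ m * 1 :=
        mul_le_mul' (pow_le_pow_left' htt m) (val_map_le_one_of_isFixedPt hK h hu1)
    _ = exp (-(m : ℤ)) := by
        rw [mul_one, ← WithZero.exp_nsmul]
        congr 1
        simp

theorem val_map_le_of_isStrongFixedPt (hK : IsFunctionField k K) {τ : K →ₐ[k] K}
    {P : Place k K} (h : IsStrongFixedPt τ P) {t : K} (ht : P.1 t = exp (-1 : ℤ)) {z : K}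
    {m : ℕ} (hz : P.1 z ≤ exp (-(m : ℤ))) : P.1 (τ z) ≤ exp (-(2 * m : ℤ)) := by
  have ht0 := uniformizer_ne_zero P ht
  obtain ⟨u, hu⟩ : ∃ u : K, u = z * (t ^ m)⁻¹ := ⟨_, rfl⟩
  have hu1 : P.1 u ≤ 1 := by
    rw [hu, map_mul, map_inv₀, val_uniformizer_pow P ht]
    calc P.1 z * (exp (-(m : ℤ)))⁻¹ ≤ exp (-(m : ℤ)) * (exp (-(m : ℤ)))⁻¹ :=
          mul_le_mul' hz le_rfl
      _ = 1 := mul_inv_cancel₀ exp_ne_zero
  have hz' : z = t ^ m * u := by
    rw [hu]
    field_simp
  have htt : P.1 (τ t) ≤ exp (-2 : ℤ) := h t (by rw [ht]; exact exp_neg_one_lt_one)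
  rw [hz', map_mul, map_pow, map_mul, map_pow]
  calc P.1 (τ t) ^ m * P.1 (τ u) ≤ exp (-2 : ℤ) ^ m * 1 :=
        mul_le_mul' (pow_le_pow_left' htt m) (val_map_le_one_of_isFixedPt hK h.isFixedPt hu1)
    _ = exp (-(2 * m : ℤ)) := by
        rw [mul_one, ← WithZero.exp_nsmul]
        congr 1
        simp
        ring

end Fixed

section OrdersAt

/-- The linear functional `v ↦ ∑ w i * v i`. -/
def dotL {R : Type*} [CommRing R] {N : ℕ} (w : Fin N → R) : (Fin N → R) →ₗ[R] R where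
  toFun v := ∑ i, w i * v i
  map_add' x y := by
    simp only [Pi.add_apply, mul_add, Finset.sum_add_distrib]
  map_smul' c x := by
    simp only [Pi.smul_apply, smul_eq_mul, RingHom.id_apply, Finset.mul_sum]
    apply Finset.sum_congr rfl
    intro i _
    ring

theorem dotL_apply {R : Type*} [CommRing R] {N : ℕ} (w v : Fin N → R) :
    dotL w v = ∑ i, w i * v i := rfl

theorem hcolAt_one_eq_zero (P : Place k K) {s : K} {H : K →ₐ[k] PowerSeries K}
    (hH : LocRes.IsHasseFamily s H) {ι : Type*} (φ : ι → K) :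
    hcolAt P H φ 1 = hcolAt P H φ 0 := by
  funext i
  show evalP P (LocRes.hasseD H 0 (φ i)) = evalP P (φ i)
  rw [hasseD_zero_apply hH]

theorem isOrders_at_pos (P : Place k K) {s : K} {H : K →ₐ[k] PowerSeries K}
    (hH : LocRes.IsHasseFamily s H) {ι : Type*} (φ : ι → K) {n : ℕ} {J' : Fin n → ℕ}
    (hJ' : IsOrders (IsLocalRing.ResidueField P.O) (hcolAt P H φ) J') (l : Fin n) :
    1 ≤ J' l := by
  by_contra h
  have h0 : J' l = 0 := by omega
  have hj := (hJ'.2 (J' l)).mp ⟨l, rfl⟩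
  rw [h0, Nat.zero_add, isJump_iff_spanLt, spanLt_one] at hj
  apply hj
  rw [hcolAt_one_eq_zero P hH φ]
  exact Submodule.mem_span_singleton_self _

variable [IsAlgClosed k]

theorem evalP_hasseD_sum (hK : IsFunctionField k K) (P : Place k K) {t : K}
    (ht : P.1 t = exp (-1 : ℤ)) {H : K →ₐ[k] PowerSeries K} (hH : LocRes.IsHasseFamily t H)
    {n : ℕ} (φ : Fin (n + 1) → K) (hnorm : ∀ i, P.1 (φ i) ≤ 1) (a : Fin (n + 1) → k) (b : ℕ) :
    P.1 (∑ i, a i • φ i) ≤ 1 ∧
      evalP P (LocRes.hasseD H b (∑ i, a i • φ i)) =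
        ∑ i, resk P (a i) * evalP P (LocRes.hasseD H b (φ i)) := by
  refine ⟨?_, ?_⟩
  · apply Valuation.map_sum_le
    intro i _
    exact val_smul_le_one P _ (hnorm i)
  · have h1 : LocRes.hasseD H b (∑ i, a i • φ i) = ∑ i, a i • LocRes.hasseD H b (φ i) := by
      rw [← hasseDL_apply, map_sum]
      apply Finset.sum_congr rfl
      intro i _
      rw [map_smul, hasseDL_apply]
    rw [h1, (evalP_sum P _ _ (fun i _ =>
      val_smul_le_one P _ (val_hasseD_le_one hK P ht hH b _ (hnorm i)))).2]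
    apply Finset.sum_congr rfl
    intro i _
    exact evalP_smul P _ (val_hasseD_le_one hK P ht hH b _ (hnorm i))

/-- A nonzero integral function has a nonvanishing value of some Hasse derivative. -/
theorem exists_evalP_hasseD_ne_zero (hK : IsFunctionField k K) (P : Place k K) {t : K}
    (ht : P.1 t = exp (-1 : ℤ)) {H : K →ₐ[k] PowerSeries K} (hH : LocRes.IsHasseFamily t H)
    {f : K} (hf1 : P.1 f ≤ 1) (hf0 : f ≠ 0) :
    ∃ m : ℕ, P.1 f = exp (-(m : ℤ)) ∧ (∀ i, i < m → P.1 (LocRes.hasseD H i f) < 1) ∧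
      evalP P (LocRes.hasseD H m f) ≠ 0 := by
  have hordnn : 0 ≤ P.ord f := (P.ord_nonneg_iff hf0).mpr hf1
  obtain ⟨m, hm⟩ : ∃ m : ℕ, (m : ℤ) = P.ord f := ⟨(P.ord f).toNat, by omega⟩
  have hfv : P.1 f = exp (-(m : ℤ)) := by rw [P.val_eq_exp_neg_ord hf0, hm]
  have hord := hasseD_of_val_le hK P ht hH hfv.le
  have hv1 : P.1 (f * (t ^ m)⁻¹) = 1 := by
    rw [map_mul, map_inv₀, val_uniformizer_pow P ht, hfv]
    exact mul_inv_cancel₀ exp_ne_zero
  refine ⟨m, hfv, hord.1, ?_⟩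
  rw [hord.2]
  exact (evalP_ne_zero_iff P hv1.le).mpr hv1

theorem isJump_of_val_eq (hK : IsFunctionField k K) (P : Place k K) {t : K}
    (ht : P.1 t = exp (-1 : ℤ)) {H : K →ₐ[k] PowerSeries K} (hH : LocRes.IsHasseFamily t H)
    {n : ℕ} (φ : Fin (n + 1) → K) (hnorm : ∀ i, P.1 (φ i) ≤ 1) {j : ℕ} (hj : 1 ≤ j) {f : K}
    (hf : f ∈ Submodule.span k (Set.range φ)) (hfv : P.1 f = exp (-(j : ℤ))) :
    IsJump (IsLocalRing.ResidueField P.O) (hcolAt P H φ) (j + 1) := by
  obtain ⟨a, rfl⟩ := (Submodule.mem_span_range_iff_exists_fun k).mp hf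
  have hΛb : ∀ b, dotL (fun i => resk P (a i)) (hcolAt P H φ (b + 1)) =
      evalP P (LocRes.hasseD H b (∑ i, a i • φ i)) := by
    intro b
    rw [(evalP_hasseD_sum hK P ht hH φ hnorm a b).2]
    rfl
  have hf1 := (evalP_hasseD_sum hK P ht hH φ hnorm a 0).1
  have hord := hasseD_of_val_le hK P ht hH hfv.le
  rw [isJump_iff_spanLt]
  intro hmem
  have hker : spanLt (IsLocalRing.ResidueField P.O) (hcolAt P H φ) (j + 1) ≤
      LinearMap.ker (dotL (fun i => resk P (a i))) := by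
    unfold spanLt
    rw [Submodule.span_le]
    rintro _ ⟨b', hb', rfl⟩
    rw [SetLike.mem_coe, LinearMap.mem_ker]
    have hb'' : b' < j + 1 := hb'
    rcases b' with _ | b
    · rw [← hcolAt_one_eq_zero P hH φ, hΛb 0]
      exact (evalP_eq_zero_iff P (val_hasseD_le_one hK P ht hH 0 _ hf1)).mpr
        (hord.1 0 (by omega))
    · rw [hΛb b]
      exact (evalP_eq_zero_iff P (val_hasseD_le_one hK P ht hH b _ hf1)).mpr
        (hord.1 b (by omega))
  have h0 := LinearMap.mem_ker.mp (hker hmem)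
  rw [hΛb j, hord.2] at h0
  have hv1 : P.1 ((∑ i, a i • φ i) * (t ^ j)⁻¹) = 1 := by
    rw [map_mul, map_inv₀, val_uniformizer_pow P ht, hfv]
    exact mul_inv_cancel₀ exp_ne_zero
  exact (evalP_ne_zero_iff P hv1.le).mpr hv1 h0

theorem exists_val_eq_of_isJump (hK : IsFunctionField k K) (P : Place k K) {t : K}
    (ht : P.1 t = exp (-1 : ℤ)) {H : K →ₐ[k] PowerSeries K} (hH : LocRes.IsHasseFamily t H)
    {n : ℕ} (φ : Fin (n + 1) → K) (hnorm : ∀ i, P.1 (φ i) ≤ 1) {j : ℕ}
    (hjump : IsJump (IsLocalRing.ResidueField P.O) (hcolAt P H φ) (j + 1)) :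
    ∃ f ∈ Submodule.span k (Set.range φ), P.1 f = exp (-(j : ℤ)) := by
  classical
  rw [isJump_iff_spanLt] at hjump
  obtain ⟨Λ, hΛx, hΛp⟩ := Submodule.exists_dual_map_eq_bot_of_notMem hjump inferInstance
  have hΛ0 : ∀ y ∈ spanLt (IsLocalRing.ResidueField P.O) (hcolAt P H φ) (j + 1), Λ y = 0 :=
    fun y hy => (Submodule.eq_bot_iff _).mp hΛp _ (Submodule.mem_map_of_mem hy)
  choose a ha using fun i : Fin (n + 1) =>
    resk_surjective P hK (Λ (fun j' => if i = j' then 1 else 0))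
  obtain ⟨f, hfdef⟩ : ∃ f : K, f = ∑ i, a i • φ i := ⟨_, rfl⟩
  have hfb : ∀ b, evalP P (LocRes.hasseD H b f) = Λ (hcolAt P H φ (b + 1)) := by
    intro b
    rw [hfdef, (evalP_hasseD_sum hK P ht hH φ hnorm a b).2, LinearMap.pi_apply_eq_sum_univ Λ]
    apply Finset.sum_congr rfl
    intro i _
    rw [ha i, smul_eq_mul, mul_comm]
    rfl
  have hf1 : P.1 f ≤ 1 := by
    rw [hfdef]
    exact (evalP_hasseD_sum hK P ht hH φ hnorm a 0).1
  have hfj : evalP P (LocRes.hasseD H j f) ≠ 0 := by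
    rw [hfb j]
    exact hΛx
  have hfi : ∀ b, b < j → evalP P (LocRes.hasseD H b f) = 0 := fun b hb => by
    rw [hfb b]
    exact hΛ0 _ (mem_spanLt _ (by omega))
  have hf0 : f ≠ 0 := by
    intro h0
    apply hfj
    rw [h0, ← hasseDL_apply, map_zero, evalP_zero]
  obtain ⟨m, hfv, hlt, hne⟩ := exists_evalP_hasseD_ne_zero hK P ht hH hf1 hf0
  have hmj : m = j := by
    rcases lt_trichotomy m j with h | h | h
    · exact absurd (hfi m h) hne
    · exact h
    · exfalso
      apply hfj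
      exact (evalP_eq_zero_iff P (val_hasseD_le_one hK P ht hH j f hf1)).mpr (hlt j h)
  refine ⟨f, ?_, by rw [hfv, hmj]⟩
  rw [hfdef]
  exact Submodule.sum_mem _ (fun i _ => Submodule.smul_mem _ _ (Submodule.subset_span ⟨i, rfl⟩))

omit [IsAlgClosed k] in
theorem eq_zero_of_sum_smul_eq_zero_of_val (P : Place k K) {N : ℕ} (ψ : Fin N → K)
    (o : Fin N → ℤ) (ho : Function.Injective o) (hψ : ∀ i, P.1 (ψ i) = exp (-(o i)))
    (b : Fin N → k) (hsum : ∑ i, b i • ψ i = 0) : b = 0 := by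
  classical
  by_contra hb
  have hne : (Finset.univ.filter (fun i => b i ≠ 0)).Nonempty := by
    by_contra he
    rw [Finset.not_nonempty_iff_eq_empty] at he
    apply hb
    funext i
    by_contra hi
    have hmem : i ∈ Finset.univ.filter (fun i => b i ≠ 0) := by
      rw [Finset.mem_filter]
      exact ⟨Finset.mem_univ _, hi⟩
    rw [he] at hmem
    exact absurd hmem (Finset.notMem_empty _)
  obtain ⟨i₀, hi₀, hmin⟩ := Finset.exists_min_image _ o hne
  rw [Finset.mem_filter] at hi₀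
  have hv0 : P.1 (b i₀ • ψ i₀) = exp (-(o i₀)) := by
    rw [Algebra.smul_def, map_mul, P.val_algebraMap hi₀.2, one_mul, hψ]
  have hval : P.1 (∑ i, b i • ψ i) = P.1 (b i₀ • ψ i₀) := by
    apply P.1.map_sum_eq_of_lt (Finset.mem_univ i₀)
    intro i hi
    rw [Finset.mem_sdiff, Finset.mem_singleton] at hi
    rw [hv0]
    by_cases hbi : b i = 0
    · rw [hbi, zero_smul, map_zero]
      exact lt_of_le_of_ne zero_le (Ne.symm exp_ne_zero)
    · rw [Algebra.smul_def, map_mul, P.val_algebraMap hbi, one_mul, hψ, exp_lt_exp]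
      have h1 := hmin i (Finset.mem_filter.mpr ⟨Finset.mem_univ _, hbi⟩)
      have h2 : o i ≠ o i₀ := fun h => hi.2 (ho h)
      omega
  rw [hsum, map_zero, hv0] at hval
  exact exp_ne_zero hval.symm

/-- A basis of the span of `φ` adapted to the order sequence at `P`. -/
theorem exists_adapted_basis (hK : IsFunctionField k K) (P : Place k K) {t : K}
    (ht : P.1 t = exp (-1 : ℤ)) {H : K →ₐ[k] PowerSeries K} (hH : LocRes.IsHasseFamily t H)
    {n : ℕ} (φ : Fin (n + 1) → K) (heff : (1 : K) ∈ Submodule.span k (Set.range φ))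
    (hnorm : ∀ i, P.1 (φ i) ≤ 1) (J' : Fin n → ℕ)
    (hJ' : IsOrders (IsLocalRing.ResidueField P.O) (hcolAt P H φ) J') :
    ∃ (ψ : Fin (n + 1) → K) (A : Matrix (Fin (n + 1)) (Fin (n + 1)) k),
      A.det ≠ 0 ∧ LinearIndependent k ψ ∧ (∀ i, ψ i = ∑ j, A i j • φ j) ∧ ψ 0 = 1 ∧
      ∀ l, P.1 (ψ l.succ) = exp (-(J' l : ℤ)) ∧ evalP P (ψ l.succ * (t ^ J' l)⁻¹) = 1 := by
  classical
  have hex : ∀ l : Fin n, ∃ f ∈ Submodule.span k (Set.range φ),
      P.1 f = exp (-(J' l : ℤ)) ∧ evalP P (f * (t ^ J' l)⁻¹) = 1 := by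
    intro l
    obtain ⟨f, hf, hfv⟩ :=
      exists_val_eq_of_isJump hK P ht hH φ hnorm ((hJ'.2 (J' l)).mp ⟨l, rfl⟩)
    have hv1 : P.1 (f * (t ^ J' l)⁻¹) = 1 := by
      rw [map_mul, map_inv₀, val_uniformizer_pow P ht, hfv]
      exact mul_inv_cancel₀ exp_ne_zero
    obtain ⟨c, hc⟩ := resk_surjective P hK (evalP P (f * (t ^ J' l)⁻¹))
    have hc0 : c ≠ 0 := by
      rintro rfl
      rw [map_zero] at hc
      exact (evalP_ne_zero_iff P hv1.le).mpr hv1 hc.symm
    refine ⟨c⁻¹ • f, Submodule.smul_mem _ _ hf, ?_, ?_⟩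
    · rw [Algebra.smul_def, map_mul, P.val_algebraMap (inv_ne_zero hc0), one_mul, hfv]
    · rw [smul_mul_assoc, evalP_smul P _ hv1.le, ← hc, ← map_mul, inv_mul_cancel₀ hc0, map_one]
  choose f hf hfv hfe using hex
  obtain ⟨ψ, hψdef⟩ : ∃ ψ : Fin (n + 1) → K, ψ = Fin.cases 1 f := ⟨_, rfl⟩
  have hψ0 : ψ 0 = 1 := by rw [hψdef]; rfl
  have hψs : ∀ l : Fin n, ψ l.succ = f l := fun l => by rw [hψdef]; rfl
  have hψmem : ∀ i, ψ i ∈ Submodule.span k (Set.range φ) := by
    intro i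
    induction i using Fin.cases with
    | zero => rw [hψ0]; exact heff
    | succ l => rw [hψs]; exact hf l
  choose A' hA' using fun i => (Submodule.mem_span_range_iff_exists_fun k).mp (hψmem i)
  obtain ⟨o, hodef⟩ : ∃ o : Fin (n + 1) → ℤ, o = Fin.cases 0 (fun l => (J' l : ℤ)) := ⟨_, rfl⟩
  have ho0 : o 0 = 0 := by rw [hodef]; rfl
  have hos : ∀ l : Fin n, o l.succ = (J' l : ℤ) := fun l => by rw [hodef]; rfl
  have hoψ : ∀ i, P.1 (ψ i) = exp (-(o i)) := by
    intro i
    induction i using Fin.cases with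
    | zero => rw [hψ0, ho0, map_one, neg_zero, exp_zero]
    | succ l => rw [hψs, hos, hfv]
  have hoinj : Function.Injective o := by
    intro x y hxy
    induction x using Fin.cases with
    | zero =>
      induction y using Fin.cases with
      | zero => rfl
      | succ l =>
        exfalso
        have := isOrders_at_pos P hH φ hJ' l
        rw [ho0, hos] at hxy
        omega
    | succ l =>
      induction y using Fin.cases with
      | zero =>
        exfalso
        have := isOrders_at_pos P hH φ hJ' l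
        rw [ho0, hos] at hxy
        omega
      | succ l' =>
        rw [hos, hos] at hxy
        have h2 : J' l = J' l' := by exact_mod_cast hxy
        rw [hJ'.1.injective h2]
  have hindep : LinearIndependent k ψ := by
    rw [Fintype.linearIndependent_iff]
    intro b hb i
    have h1 := eq_zero_of_sum_smul_eq_zero_of_val P ψ o hoinj hoψ b hb
    rw [h1]
    rfl
  refine ⟨ψ, Matrix.of A', ?_, hindep, fun i => (hA' i).symm, hψ0,
    fun l => ⟨by rw [hψs]; exact hfv l, by rw [hψs]; exact hfe l⟩⟩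
  intro hdet
  obtain ⟨v, hv0, hvA⟩ := Matrix.exists_vecMul_eq_zero_iff.mpr hdet
  apply hv0
  apply eq_zero_of_sum_smul_eq_zero_of_val P ψ o hoinj hoψ v
  calc ∑ i, v i • ψ i = ∑ i, v i • ∑ j, A' i j • φ j := by simp only [hA']
    _ = ∑ j, (∑ i, v i * A' i j) • φ j := by
        simp only [Finset.smul_sum, smul_smul, Finset.sum_smul]
        exact Finset.sum_comm
    _ = 0 := by
        apply Finset.sum_eq_zero
        intro j _
        have h1 := congrFun hvA j
        have h2 : (∑ i, v i * A' i j) = (v ᵥ* Matrix.of A') j := rfl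
        rw [h2, h1]
        simp

end OrdersAt

end FunFld
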