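import Mathlib
import Groth.Agent.Lib.FunFldHasseC_helper2

/-! Function fields, Hasse part D (helper2): nonvanishing of the Wronskian at the order sequence,
existence of order sequences, vanishing of the auxiliary divisors at a normalized place. -/

open Module

namespace FunFld

open WithZero

variable {k K : Type*} [Field k] [Field K] [Algebra k K]

section LinAlg

variable {F M : Type*} [Field F] [AddCommGroup M] [Module F M]

/-- Jump columns are linearly independent. -/
theorem linearIndependent_jumps (c : ℕ → M) (N : ℕ) (g : Fin N → ℕ) (hg : StrictMono g)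
    (hj : ∀ q, IsJump F c (g q)) : LinearIndependent F (fun q => c (g q)) := by
  induction N with
  | zero => exact linearIndependent_empty_type
  | succ N ih =>
    have h1 : LinearIndependent F (fun q : Fin N => c (g q.castSucc)) :=
      ih (fun q => g q.castSucc) (hg.comp Fin.strictMono_castSucc) (fun q => hj _)
    have h2 : c (g (Fin.last N)) ∉
        Submodule.span F (Set.range fun q : Fin N => c (g q.castSucc)) := by
      intro hmem
      apply hj (Fin.last N)
      refine Submodule.span_mono ?_ hmem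
      rintro _ ⟨q, rfl⟩
      exact ⟨g q.castSucc, hg (Fin.castSucc_lt_last q), rfl⟩
    have h3 := (linearIndependent_finSnoc (K := F) (v := fun q : Fin N => c (g q.castSucc))
      (x := c (g (Fin.last N)))).2 ⟨h1, h2⟩
    have h4 : (fun q => c (g q)) =
        (Fin.snoc (α := fun _ => M) (fun q : Fin N => c (g q.castSucc))
          (c (g (Fin.last N)))) := by
      funext q
      refine Fin.lastCases ?_ (fun q => ?_) q
      · rw [Fin.snoc_last]
      · rw [Fin.snoc_castSucc]
    rw [h4]
    exact h3

open Classical in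
/-- If the columns span a space of dimension `n + 1` and the leading column is nonzero, an order
sequence of length `n` exists. -/
theorem exists_isOrders_of_span_eq_top [FiniteDimensional F M] {n : ℕ}
    (hdim : finrank F M = n + 1) (c : ℕ → M) (h0 : c 0 ≠ 0)
    (htop : Submodule.span F (Set.range c) = ⊤) : ∃ J : Fin n → ℕ, IsOrders F c J := by
  have hfg : (Submodule.span F (Set.range c)).FG := by
    rw [htop]; exact Module.Finite.fg_top
  obtain ⟨s', hs', hspan⟩ := (Submodule.fg_span_iff_fg_span_finset_subset _).1 hfg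
  have hex : ∀ x : M, ∃ b : ℕ, x ∈ s' → c b = x := by
    intro x
    by_cases hx : x ∈ s'
    · obtain ⟨b, hb⟩ := hs' hx
      exact ⟨b, fun _ => hb⟩
    · exact ⟨0, fun h => absurd h hx⟩
  choose b hb using hex
  obtain ⟨m', hm'⟩ : ∃ m', spanLt F c (m' + 1) = ⊤ := by
    refine ⟨s'.sup b, ?_⟩
    rw [eq_top_iff, ← htop, hspan]
    apply Submodule.span_mono
    intro x hx
    exact ⟨b x, Nat.lt_succ_of_le (Finset.le_sup hx), hb x hx⟩
  have hcard := card_jumps_eq_finrank (F := F) c (m' + 1)
  rw [hm', finrank_top, hdim] at hcard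
  have hj0 : IsJump F c 0 := by
    rw [isJump_iff_spanLt, spanLt_zero, Submodule.mem_bot]; exact h0
  have hcard' : ((Finset.range m').filter (fun j => IsJump F c (j + 1))).card = n := by
    rw [Finset.card_filter] at hcard ⊢
    rw [Finset.sum_range_succ', if_pos hj0] at hcard
    omega
  have hnojump : ∀ j, IsJump F c (j + 1) → j < m' := by
    intro j hj
    by_contra hlt
    push Not at hlt
    apply hj
    have h1 : spanLt F c (m' + 1) ≤ spanLt F c (j + 1) := spanLt_mono c (by omega)
    rw [hm'] at h1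
    exact h1 Submodule.mem_top
  refine ⟨fun l => ((Finset.range m').filter (fun j => IsJump F c (j + 1))).orderEmbOfFin
    hcard' l, ?_, ?_⟩
  · exact (Finset.orderEmbOfFin _ hcard').strictMono
  · intro j
    have h1 := Finset.range_orderEmbOfFin
      ((Finset.range m').filter (fun j => IsJump F c (j + 1))) hcard'
    have h2 : (j ∈ Set.range fun l => ((Finset.range m').filter
        (fun j => IsJump F c (j + 1))).orderEmbOfFin hcard' l) ↔
        j ∈ ((Finset.range m').filter (fun j => IsJump F c (j + 1)) : Set ℕ) := by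
      rw [← h1]
    rw [h2, Finset.mem_coe, Finset.mem_filter, Finset.mem_range]
    exact ⟨fun h => h.2, fun h => ⟨hnojump j h, h⟩⟩

theorem det_binomMat_self (R : Type*) [CommRing R] {n : ℕ} (J : Fin n → ℕ) (hJ : StrictMono J) :
    (binomMat R J J).det = 1 := by
  rw [Matrix.det_of_isLowerTriangular]
  · apply Finset.prod_eq_one
    intro i _
    simp [binomMat]
  · intro i j hij
    have hij' : i < j := hij
    show ((((J i).choose (J j) : ℕ)) : R) = 0
    rw [Nat.choose_eq_zero_of_lt (hJ hij'), Nat.cast_zero]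

end LinAlg

section Wr

/-- The Wronskian at the order sequence is nonzero. -/
theorem det_wrMat_ne_zero_of_isOrders {n : ℕ} (τ : K →ₐ[k] K) (H : K →ₐ[k] PowerSeries K)
    (φ : Fin (n + 1) → K) (h0 : ∃ i, φ i ≠ 0) (J : Fin n → ℕ)
    (hJ : IsOrders K (hcol τ H φ) J) : (wrMat τ H φ J).det ≠ 0 := by
  classical
  obtain ⟨g, hgdef⟩ : ∃ g : Fin (n + 1) → ℕ,
      g = Fin.cases (motive := fun _ => ℕ) 0 (fun l => J l + 1) := ⟨_, rfl⟩
  have hg0 : g 0 = 0 := by rw [hgdef]; rfl
  have hgs : ∀ l : Fin n, g l.succ = J l + 1 := fun l => by rw [hgdef]; rfl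
  have hgm : StrictMono g := by
    intro a b hab
    induction a using Fin.cases with
    | zero =>
      induction b using Fin.cases with
      | zero => exact absurd hab (lt_irrefl _)
      | succ b => rw [hg0, hgs]; omega
    | succ a =>
      induction b using Fin.cases with
      | zero => exact absurd hab (Fin.not_lt_zero _)
      | succ b =>
        rw [hgs, hgs]
        have := hJ.1 (Fin.succ_lt_succ_iff.mp hab)
        omega
  have hjump : ∀ q, IsJump K (hcol τ H φ) (g q) := by
    intro q
    induction q using Fin.cases with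
    | zero =>
      rw [hg0, isJump_iff_spanLt, spanLt_zero, Submodule.mem_bot]
      obtain ⟨i, hi⟩ := h0
      intro h
      apply hi
      have h1 : τ (φ i) = 0 := congrFun h i
      exact (map_eq_zero_iff τ τ.toRingHom.injective).1 h1
    | succ l =>
      rw [hgs]
      exact (hJ.2 (J l)).1 ⟨l, rfl⟩
  have hLI := linearIndependent_jumps (F := K) (hcol τ H φ) (n + 1) g hgm hjump
  have hcols : (wrMat τ H φ J).col = fun q => hcol τ H φ (g q) := by
    funext q i
    induction q using Fin.cases with
    | zero => rw [hg0]; rfl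
    | succ l => rw [hgs]; rfl
  rw [← hcols] at hLI
  have hU := Matrix.linearIndependent_cols_iff_isUnit.1 hLI
  exact ((Matrix.isUnit_iff_isUnit_det _).1 hU).ne_zero

/-- For `τ = id`, all orders are positive. -/
theorem isOrders_id_pos {s : K} {H : K →ₐ[k] PowerSeries K} (hH : LocRes.IsHasseFamily s H)
    {ι : Type*} (φ : ι → K) {n : ℕ} {J : Fin n → ℕ}
    (hJ : IsOrders K (hcol (AlgHom.id k K) H φ) J) (l : Fin n) : 0 < J l := by
  by_contra h
  have h0 : J l = 0 := by omega
  have hj := (hJ.2 (J l)).mp ⟨l, rfl⟩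
  rw [h0, Nat.zero_add, isJump_iff_spanLt, spanLt_one] at hj
  apply hj
  have h1 : hcol (AlgHom.id k K) H φ 1 = hcol (AlgHom.id k K) H φ 0 := by
    funext i
    show LocRes.hasseD H 0 (φ i) = φ i
    rw [hasseD_zero_apply hH]
  rw [h1]
  exact Submodule.mem_span_singleton_self _

end Wr

section Local

theorem exists_val_eq_one_of_one_mem_span {ι : Type*} [Fintype ι] (P : Place k K) (φ : ι → K)
    (hnorm : ∀ i, P.1 (φ i) ≤ 1) (heff : (1 : K) ∈ Submodule.span k (Set.range φ)) :
    ∃ i, P.1 (φ i) = 1 := by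
  by_contra h
  push Not at h
  have hlt : ∀ i, P.1 (φ i) < 1 := fun i => lt_of_le_of_ne (hnorm i) (h i)
  obtain ⟨a, ha⟩ := (Submodule.mem_span_range_iff_exists_fun k).1 heff
  have h1 : P.1 (∑ i, a i • φ i) < 1 := by
    apply P.1.map_sum_lt one_ne_zero
    intro i _
    rw [Algebra.smul_def, map_mul]
    calc P.1 (algebraMap k K (a i)) * P.1 (φ i) ≤ 1 * P.1 (φ i) := mul_le_mul' (P.2.1 _) le_rfl
      _ = P.1 (φ i) := one_mul _
      _ < 1 := hlt i
  rw [ha, map_one] at h1
  exact lt_irrefl _ h1

theorem mapDiv_apply_eq_zero {ι : Type*} [Fintype ι] [Nonempty ι] (P : Place k K) (φ : ι → K)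
    (hnorm : ∀ i, P.1 (φ i) ≤ 1) (h1 : ∃ i, P.1 (φ i) = 1) : mapDiv k φ P = 0 := by
  classical
  unfold mapDiv
  split_ifs with h
  · show -Finset.univ.inf' Finset.univ_nonempty (fun i => P.ord (φ i)) = 0
    rw [neg_eq_zero]
    apply le_antisymm
    · obtain ⟨i, hi⟩ := h1
      have hi0 : φ i ≠ 0 := by
        rintro h0
        rw [h0, map_zero] at hi
        exact zero_ne_one hi
      calc Finset.univ.inf' Finset.univ_nonempty (fun i => P.ord (φ i)) ≤ P.ord (φ i) :=
            Finset.inf'_le _ (Finset.mem_univ i)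
        _ = 0 := (P.ord_eq_zero_iff hi0).2 hi
    · apply Finset.le_inf'
      intro i _
      by_cases hi0 : φ i = 0
      · rw [hi0, P.ord_zero]
      · exact (P.ord_nonneg_iff hi0).2 (hnorm i)
  · rfl

theorem mapDiv_comp_apply_eq_zero [IsAlgClosed k] (hK : IsFunctionField k K) {τ : K →ₐ[k] K}
    {P : Place k K} (hP : IsFixedPt τ P) {n : ℕ} (φ : Fin (n + 1) → K)
    (hnorm : ∀ i, P.1 (φ i) ≤ 1) (heff : (1 : K) ∈ Submodule.span k (Set.range φ)) :
    mapDiv k (⇑τ ∘ φ) P = 0 := by
  have hnorm' : ∀ i, P.1 ((⇑τ ∘ φ) i) ≤ 1 := fun i =>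
    val_map_le_one_of_isFixedPt hK hP (hnorm i)
  apply mapDiv_apply_eq_zero P _ hnorm'
  apply exists_val_eq_one_of_one_mem_span P _ hnorm'
  obtain ⟨a, ha⟩ := (Submodule.mem_span_range_iff_exists_fun k).1 heff
  have h1 : (1 : K) = ∑ i, a i • (⇑τ ∘ φ) i := by
    have h2 := congrArg τ ha
    rw [map_one, map_sum] at h2
    rw [← h2]
    apply Finset.sum_congr rfl
    intro i _
    rw [map_smul]
    rfl
  rw [h1]
  exact Submodule.sum_mem _ (fun i _ => Submodule.smul_mem _ _ (Submodule.subset_span ⟨i, rfl⟩))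

/-- The derivative of a Laurent series of order one is a unit. -/
theorem val_D_of_val_eq {F : Type*} [Field F] (g : LaurentSeries F)
    (hg : Valued.v g = exp (-1 : ℤ)) : Valued.v (LocRes.D F g) = 1 := by
  have h1 : ∀ n : ℤ, n < 1 → g.coeff n = 0 :=
    (LaurentSeries.valuation_le_iff_coeff_lt_eq_zero F (D := 1)).1 hg.le
  have hle : Valued.v (LocRes.D F g) ≤ 1 := by
    have := (LaurentSeries.valuation_le_iff_coeff_lt_eq_zero F (D := 0) (f := LocRes.D F g)).2
      (fun n hn => by
        rw [LocRes.D_coeff, h1 (n + 1) (by omega), smul_zero])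
    simpa using this
  apply le_antisymm hle
  by_contra hlt
  push Not at hlt
  have h2 := (lt_one_iff_le_exp_neg_one _).1 hlt
  have h3 := (LaurentSeries.valuation_le_iff_coeff_lt_eq_zero F (D := 1)).1 h2 0 (by norm_num)
  rw [LocRes.D_coeff] at h3
  have h4 : g.coeff 1 = 0 := by simpa using h3
  have h5 : Valued.v g ≤ exp (-2 : ℤ) :=
    (LaurentSeries.valuation_le_iff_coeff_lt_eq_zero F (D := 2)).2 (fun n hn => by
      rcases lt_or_eq_of_le (show n ≤ 1 by omega) with h | h
      · exact h1 n h
      · rw [h]; exact h4)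
  rw [hg, exp_le_exp] at h5
  omega

theorem divDiff_apply_uniformizer (Φ : Place k K → (K →ₐ[k] LaurentSeries k)) (P : Place k K)
    (hΦ : LocRes.IsExpansionAt P.1 (Φ P)) {t : K} (ht : P.1 t = exp (-1 : ℤ)) :
    divDiff Φ 1 t P = 0 := by
  classical
  unfold divDiff
  split_ifs with h
  · show LocRes.ordDiff (Φ P) 1 t = 0
    unfold LocRes.ordDiff LocRes.vDiff
    rw [map_one, one_mul, val_D_of_val_eq _ (by rw [hΦ.1 t, ht]), log_one, neg_zero]
  · rfl

end Local

end FunFld
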