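import Mathlib
import Groth.Agent.Lib.FunFldHasseD_helper2

/-! Function fields, Hasse part E (helper2): the first Hasse derivative as a derivation, good
places for an arbitrary total Hasse derivative, existence of the order sequence. -/

open Module

namespace FunFld

open WithZero

variable {k K : Type*} [Field k] [Field K] [Algebra k K]

section Der

/-- The first Hasse derivative, as a derivation. -/
noncomputable def hasseDer {s : K} {H : K →ₐ[k] PowerSeries K} (hH : LocRes.IsHasseFamily s H) :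
    Derivation k K K where
  toLinearMap := hasseDL H 1
  map_one_eq_zero' := by
    show LocRes.hasseD H 1 1 = 0
    rw [LocRes.hasseD_apply, map_one, PowerSeries.coeff_one]
    simp
  leibniz' x y := by
    show LocRes.hasseD H 1 (x * y) = x • LocRes.hasseD H 1 y + y • LocRes.hasseD H 1 x
    have hanti : Finset.HasAntidiagonal.antidiagonal 1 = ({(0, 1), (1, 0)} : Finset (ℕ × ℕ)) := by
      decide
    rw [hasseD_mul, hanti, Finset.sum_pair (by decide), hasseD_zero_apply hH,
      hasseD_zero_apply hH, smul_eq_mul, smul_eq_mul]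
    ring

theorem hasseDer_apply {s : K} {H : K →ₐ[k] PowerSeries K} (hH : LocRes.IsHasseFamily s H)
    (x : K) : hasseDer hH x = LocRes.hasseD H 1 x := rfl

theorem hasseDer_self {s : K} {H : K →ₐ[k] PowerSeries K} (hH : LocRes.IsHasseFamily s H) :
    hasseDer hH s = 1 := by
  rw [hasseDer_apply, LocRes.hasseD_apply, hH.1, map_add, PowerSeries.coeff_C,
    PowerSeries.coeff_one_X]
  simp

theorem isHasseFamily_sub_algebraMap {s : K} {H : K →ₐ[k] PowerSeries K}
    (hH : LocRes.IsHasseFamily s H) (c : k) : LocRes.IsHasseFamily (s - algebraMap k K c) H := by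
  refine ⟨?_, hH.2⟩
  rw [map_sub, hH.1, AlgHom.commutes, map_sub, PowerSeries.algebraMap_apply]
  ring

end Der

section Good

variable [IsAlgClosed k]

theorem isDStable_of_generators (hK : IsFunctionField k K) (Q₀ : Place k K)
    (G : Finset K) (hG1 : ∀ g ∈ G, ∀ R : Place k K, R ≠ Q₀ → R.1 g ≤ 1)
    (hG2 : ∀ a : K, (∀ R : Place k K, R ≠ Q₀ → R.1 a ≤ 1) → a ∈ Algebra.adjoin k (G : Set K))
    (D : Derivation k K K) (Q : Place k K) (hQ : Q ≠ Q₀) (hDG : ∀ g ∈ G, Q.1 (D g) ≤ 1) :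
    IsDStable D Q := by
  intro z hz
  obtain ⟨s, hs0, hsQ, hsreg, hzsreg⟩ := exists_regular_denominator hK Q₀ Q hQ hz
  have hS : ∀ t ∈ (G : Set K), Q.1 t ≤ 1 ∧ Q.1 (D t) ≤ 1 := fun t ht =>
    ⟨hG1 t ht Q hQ, hDG t ht⟩
  obtain ⟨-, hDs⟩ := val_D_le_one_of_mem_adjoin D Q hS (hG2 s hsreg)
  obtain ⟨hzs1, hDzs⟩ := val_D_le_one_of_mem_adjoin D Q hS (hG2 (z * s) hzsreg)
  have hzeq : z = (z * s) / s := by field_simp
  rw [hzeq, Derivation.leibniz_div]
  simp only [smul_eq_mul]
  rw [map_mul, map_pow, map_inv₀, hsQ, inv_one, one_pow, one_mul]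
  refine (Q.1.map_sub _ _).trans (max_le ?_ ?_)
  · rw [map_mul, hsQ, one_mul]; exact hDzs
  · rw [map_mul]; exact mul_le_one' hzs1 hDs

theorem infinite_place (hK : IsFunctionField k K) : Infinite (Place k K) := by
  obtain ⟨x, hx, -⟩ := hK.1
  have hxc : ∀ c : k, Transcendental k (x - algebraMap k K c) := by
    intro c halg
    apply hx
    have := halg.add (isAlgebraic_algebraMap (R := k) (A := K) c)
    rwa [sub_add_cancel] at this
  choose Pc hPc using fun c => exists_place_val_lt_one hK (hxc c)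
  apply Infinite.of_injective Pc
  intro c c' hcc
  by_contra hne
  have h1 := hPc c
  have h2 := hPc c'
  rw [← hcc] at h2
  have h3 : (Pc c).1 (algebraMap k K (c - c')) < 1 := by
    have : algebraMap k K (c - c') = (x - algebraMap k K c') - (x - algebraMap k K c) := by
      rw [map_sub]; ring
    rw [this]
    exact lt_of_le_of_lt ((Pc c).1.map_sub _ _) (max_lt h2 h1)
  rw [(Pc c).val_algebraMap (sub_ne_zero.2 hne)] at h3
  exact lt_irrefl _ h3

/-- A place, outside a given finite set, where `s - c` is a local parameter for a constant `c`. -/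
theorem exists_good_place (hK : IsFunctionField k K) {s : K}
    {H : K →ₐ[k] PowerSeries K} (hH : LocRes.IsHasseFamily s H) (Z : Set (Place k K))
    (hZ : Z.Finite) :
    ∃ P : Place k K, P ∉ Z ∧ ∃ c : k, P.1 (s - algebraMap k K c) = exp (-1 : ℤ) := by
  classical
  haveI := infinite_place hK
  obtain ⟨Q₀⟩ := exists_place hK
  obtain ⟨G, hG1, hG2⟩ := exists_finite_generators hK Q₀
  have hbad : (Z ∪ {Q₀} ∪ (⋃ g ∈ (G : Set K), {Q : Place k K | 1 < Q.1 (hasseDer hH g)}) ∪
      {Q : Place k K | 1 < Q.1 s}).Finite := by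
    refine ((hZ.union (Set.finite_singleton _)).union ?_).union (finite_poles hK s)
    exact Set.Finite.biUnion G.finite_toSet (fun g _ => finite_poles hK _)
  obtain ⟨P, hP⟩ := hbad.exists_notMem
  have hPZ : P ∉ Z := fun h => hP (Or.inl (Or.inl (Or.inl h)))
  have hPQ : P ≠ Q₀ := fun h => hP (Or.inl (Or.inl (Or.inr h)))
  have hPG : ∀ g ∈ G, P.1 (hasseDer hH g) ≤ 1 := by
    intro g hg
    by_contra hlt
    push Not at hlt
    exact hP (Or.inl (Or.inr (Set.mem_biUnion (Finset.mem_coe.2 hg) hlt)))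
  have hPs : P.1 s ≤ 1 := by
    by_contra hlt
    push Not at hlt
    exact hP (Or.inr hlt)
  have hst : IsDStable (hasseDer hH) P :=
    isDStable_of_generators hK Q₀ G hG1 hG2 _ P hPQ hPG
  obtain ⟨c, hc⟩ := exists_sub_algebraMap_lt_one hK P hPs
  refine ⟨P, hPZ, c, ?_⟩
  obtain ⟨t, htdef⟩ : ∃ t : K, t = s - algebraMap k K c := ⟨_, rfl⟩
  rw [← htdef] at hc ⊢
  have hDt : hasseDer hH t = 1 := by
    rw [htdef, map_sub, hasseDer_self, Derivation.map_algebraMap, sub_zero]
  have ht0 : t ≠ 0 := by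
    rintro rfl
    rw [map_zero] at hDt
    exact zero_ne_one hDt
  have h1 : 1 ≤ P.ord t := by
    have := (P.ord_pos_iff ht0).2 hc
    omega
  have h2 : ¬ 2 ≤ P.ord t := by
    intro h2
    have h3 : P.1 t ≤ exp (-((2 : ℕ) : ℤ)) := (P.val_le_exp_iff ht0 _).2 (by push_cast; omega)
    have h4 := val_D_le (hasseDer hH) P hst 2 h3
    rw [hDt, map_one, ← exp_zero, exp_le_exp] at h4
    norm_num at h4
  rw [P.val_eq_exp_neg_ord ht0]
  congr 1
  omega

/-- No nonzero `K`-linear relation among the rows of all Hasse derivatives of a `k`-linearly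
independent tuple. -/
theorem eq_zero_of_forall_sum_hasseD_eq_zero (hK : IsFunctionField k K) {n : ℕ}
    (φ : Fin (n + 1) → K) (hφ : LinearIndependent k φ) {s : K} {H : K →ₐ[k] PowerSeries K}
    (hH : LocRes.IsHasseFamily s H) (w : Fin (n + 1) → K)
    (hw : ∀ b, ∑ i, w i * LocRes.hasseD H b (φ i) = 0) : w = 0 := by
  classical
  by_contra hw0
  have hZ : (⋃ i : Fin (n + 1), {Q : Place k K | 1 < Q.1 (φ i)}).Finite :=
    Set.finite_iUnion (fun i => finite_poles hK (φ i))
  obtain ⟨P, hPZ, c, hPc⟩ := exists_good_place hK hH _ hZ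
  have hnorm : ∀ i, P.1 (φ i) ≤ 1 := by
    intro i
    by_contra hlt
    push Not at hlt
    exact hPZ (Set.mem_iUnion.2 ⟨i, hlt⟩)
  have hHt := isHasseFamily_sub_algebraMap hH c
  obtain ⟨t, htdef⟩ : ∃ t : K, t = s - algebraMap k K c := ⟨_, rfl⟩
  rw [← htdef] at hPc hHt
  obtain ⟨i₀, -, hi₀⟩ := Finset.exists_max_image Finset.univ (fun i => P.1 (w i))
    Finset.univ_nonempty
  have hwi₀ : w i₀ ≠ 0 := by
    intro h0
    apply hw0
    funext i
    have h1 := hi₀ i (Finset.mem_univ i)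
    rw [h0, map_zero] at h1
    exact (map_eq_zero P.1).1 (le_antisymm h1 zero_le)
  obtain ⟨w', hw'def⟩ : ∃ w' : Fin (n + 1) → K, w' = fun i => w i * (w i₀)⁻¹ := ⟨_, rfl⟩
  have hw'i : ∀ i, w' i = w i * (w i₀)⁻¹ := fun i => by rw [hw'def]
  have hw'1 : ∀ i, P.1 (w' i) ≤ 1 := by
    intro i
    rw [hw'i, map_mul, map_inv₀]
    have hne : P.1 (w i₀) ≠ 0 := (map_ne_zero P.1).2 hwi₀
    calc P.1 (w i) * (P.1 (w i₀))⁻¹ ≤ P.1 (w i₀) * (P.1 (w i₀))⁻¹ :=
          mul_le_mul' (hi₀ i (Finset.mem_univ i)) le_rfl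
      _ = 1 := mul_inv_cancel₀ hne
  have hw'i₀ : w' i₀ = 1 := by rw [hw'i]; exact mul_inv_cancel₀ hwi₀
  have hw' : ∀ b, ∑ i, w' i * LocRes.hasseD H b (φ i) = 0 := by
    intro b
    have h1 : ∑ i, w' i * LocRes.hasseD H b (φ i) =
        (w i₀)⁻¹ * ∑ i, w i * LocRes.hasseD H b (φ i) := by
      rw [Finset.mul_sum]
      apply Finset.sum_congr rfl
      intro i _
      rw [hw'i]
      ring
    rw [h1, hw b, mul_zero]
  choose a ha using fun i => resk_surjective P hK (evalP P (w' i))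
  have hai₀ : a i₀ ≠ 0 := by
    intro h0
    have h1 := ha i₀
    rw [h0, map_zero, hw'i₀, evalP_one] at h1
    exact zero_ne_one h1
  obtain ⟨f, hfdef⟩ : ∃ f : K, f = ∑ i, a i • φ i := ⟨_, rfl⟩
  have hf0 : f ≠ 0 := by
    intro h0
    rw [hfdef] at h0
    exact hai₀ (Fintype.linearIndependent_iff.1 hφ a h0 i₀)
  have hf1 : P.1 f ≤ 1 := by
    rw [hfdef]; exact (evalP_hasseD_sum hK P hPc hHt φ hnorm a 0).1
  obtain ⟨m, -, -, hne⟩ := exists_evalP_hasseD_ne_zero hK P hPc hHt hf1 hf0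
  apply hne
  rw [hfdef, (evalP_hasseD_sum hK P hPc hHt φ hnorm a m).2]
  have hsum := (evalP_sum P Finset.univ (fun i => w' i * LocRes.hasseD H m (φ i)) (fun i _ => by
      rw [map_mul]
      exact mul_le_one' (hw'1 i) (val_hasseD_le_one hK P hPc hHt m _ (hnorm i)))).2
  rw [hw' m, evalP_zero] at hsum
  refine Eq.trans ?_ hsum.symm
  apply Finset.sum_congr rfl
  intro i _
  rw [ha i, evalP_mul P (hw'1 i) (val_hasseD_le_one hK P hPc hHt m _ (hnorm i))]

theorem span_hcol_eq_top (hK : IsFunctionField k K) {n : ℕ} (φ : Fin (n + 1) → K)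
    (hφ : LinearIndependent k φ) (τ : K →ₐ[k] K) {s : K} {H : K →ₐ[k] PowerSeries K}
    (hH : LocRes.IsHasseFamily s H) :
    Submodule.span K (Set.range (hcol τ H φ)) = ⊤ := by
  classical
  by_contra hne
  obtain ⟨f, hf0, hfmap⟩ :=
    Submodule.exists_dual_map_eq_bot_of_lt_top (lt_top_iff_ne_top.2 hne) inferInstance
  apply hf0
  have hfz : ∀ y ∈ Submodule.span K (Set.range (hcol τ H φ)), f y = 0 := fun y hy =>
    (Submodule.eq_bot_iff _).mp hfmap _ (Submodule.mem_map_of_mem hy)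
  obtain ⟨w, hwdef⟩ : ∃ w : Fin (n + 1) → K,
      w = fun i => f (fun j => if i = j then 1 else 0) := ⟨_, rfl⟩
  have hfw : ∀ v : Fin (n + 1) → K, f v = ∑ i, w i * v i := by
    intro v
    rw [LinearMap.pi_apply_eq_sum_univ f v, hwdef]
    apply Finset.sum_congr rfl
    intro i _
    rw [smul_eq_mul, mul_comm]
  have hw : w = 0 := by
    apply eq_zero_of_forall_sum_hasseD_eq_zero hK φ hφ hH w
    intro b
    have h1 := hfz (hcol τ H φ (b + 1)) (Submodule.subset_span ⟨b + 1, rfl⟩)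
    rw [hfw] at h1
    exact h1
  apply LinearMap.ext
  intro v
  rw [hfw v, hw]
  simp

theorem exists_isOrders_hcol (hK : IsFunctionField k K) {n : ℕ} (φ : Fin (n + 1) → K)
    (hφ : LinearIndependent k φ) (τ : K →ₐ[k] K) {s : K} {H : K →ₐ[k] PowerSeries K}
    (hH : LocRes.IsHasseFamily s H) : ∃ J : Fin n → ℕ, IsOrders K (hcol τ H φ) J := by
  apply exists_isOrders_of_span_eq_top (F := K)
    (by rw [Module.finrank_fintype_fun_eq_card, Fintype.card_fin]) (hcol τ H φ) ?_
    (span_hcol_eq_top hK φ hφ τ hH)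
  intro h
  have h1 : τ (φ 0) = 0 := congrFun h 0
  exact hφ.ne_zero 0 ((map_eq_zero_iff τ τ.toRingHom.injective).1 h1)

end Good

end FunFld
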