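import Mathlib
import Groth.Agent.Lib.FunFldHasseE_helper2

/-! Function fields, Hasse part F (helper2): uniqueness of derivations and of Hasse families,
change of the separating variable. -/

open Module

namespace FunFld

open WithZero

variable {k K : Type*} [Field k] [Field K] [Algebra k K]

section Zero

variable [IsAlgClosed k]

theorem exists_finite_unstable (hK : IsFunctionField k K) (D : Derivation k K K) :
    ∃ Z : Set (Place k K), Z.Finite ∧ ∀ P : Place k K, P ∉ Z → IsDStable D P := by
  classical
  obtain ⟨Q₀⟩ := exists_place hK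
  obtain ⟨G, hG1, hG2⟩ := exists_finite_generators hK Q₀
  refine ⟨{Q₀} ∪ (⋃ g ∈ (G : Set K), {Q : Place k K | 1 < Q.1 (D g)}), ?_, ?_⟩
  · refine (Set.finite_singleton _).union ?_
    exact Set.Finite.biUnion G.finite_toSet (fun g _ => finite_poles hK _)
  · intro P hP
    have hPQ : P ≠ Q₀ := fun h => hP (Or.inl h)
    have hPG : ∀ g ∈ G, P.1 (D g) ≤ 1 := by
      intro g hg
      by_contra hlt
      push Not at hlt
      exact hP (Or.inr (Set.mem_biUnion (Finset.mem_coe.2 hg) hlt))
    exact isDStable_of_generators hK Q₀ G hG1 hG2 D P hPQ hPG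

/-- Outside a finite set of places, `D` is stable and `s - c` is a local parameter for some
constant `c`, when `D s = 1`. -/
theorem exists_finite_bad (hK : IsFunctionField k K) (D : Derivation k K K) {s : K}
    (hs : D s = 1) :
    ∃ Z : Set (Place k K), Z.Finite ∧ ∀ P : Place k K, P ∉ Z →
      IsDStable D P ∧ ∃ c : k, P.1 (s - algebraMap k K c) = exp (-1 : ℤ) := by
  classical
  obtain ⟨Z0, hZ0, h0⟩ := exists_finite_unstable hK D
  refine ⟨Z0 ∪ {Q : Place k K | 1 < Q.1 s}, hZ0.union (finite_poles hK s), ?_⟩
  intro P hP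
  have hst : IsDStable D P := h0 P (fun h => hP (Or.inl h))
  have hPs : P.1 s ≤ 1 := by
    by_contra hlt
    push Not at hlt
    exact hP (Or.inr hlt)
  refine ⟨hst, ?_⟩
  obtain ⟨c, hc⟩ := exists_sub_algebraMap_lt_one hK P hPs
  refine ⟨c, ?_⟩
  obtain ⟨t, htdef⟩ : ∃ t : K, t = s - algebraMap k K c := ⟨_, rfl⟩
  rw [← htdef] at hc ⊢
  have hDt : D t = 1 := by
    rw [htdef, map_sub, hs, Derivation.map_algebraMap, sub_zero]
  have ht0 : t ≠ 0 := by
    rintro rfl
    rw [map_zero] at hDt
    exact zero_ne_one hDt
  have h1 : 1 ≤ P.ord t := by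
    have := (P.ord_pos_iff ht0).2 hc
    omega
  have h2 : ¬ 2 ≤ P.ord t := by
    intro h2
    have h3 : P.1 t ≤ exp (-((2 : ℕ) : ℤ)) := (P.val_le_exp_iff ht0 _).2 (by push_cast; omega)
    have h4 := val_D_le D P hst 2 h3
    rw [hDt, map_one, ← exp_zero, exp_le_exp] at h4
    norm_num at h4
  rw [P.val_eq_exp_neg_ord ht0]
  congr 1
  omega

/-- A derivation killing a separating element (one with a derivation `D`, `D s = 1`) is zero. -/
theorem derivation_eq_zero_of_apply_eq_zero (hK : IsFunctionField k K) (D : Derivation k K K)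
    {s : K} (hs : D s = 1) (δ : Derivation k K K) (hδ : δ s = 0) : δ = 0 := by
  classical
  haveI := infinite_place hK
  obtain ⟨Z1, hZ1, h1⟩ := exists_finite_bad hK D hs
  obtain ⟨Z2, hZ2, h2⟩ := exists_finite_unstable hK δ
  obtain ⟨P, hP⟩ := (hZ1.union hZ2).exists_notMem
  obtain ⟨-, c, hc⟩ := h1 P (fun h => hP (Or.inl h))
  have hst : IsDStable δ P := h2 P (fun h => hP (Or.inr h))
  obtain ⟨t, htdef⟩ : ∃ t : K, t = s - algebraMap k K c := ⟨_, rfl⟩
  rw [← htdef] at hc
  have hδt : δ t = 0 := by rw [htdef, map_sub, hδ, Derivation.map_algebraMap, sub_zero]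
  have ht0 := uniformizer_ne_zero P hc
  have hclaim : ∀ N : ℕ, ∀ f : K, P.1 f ≤ 1 → P.1 (δ f) ≤ exp (-(N : ℤ)) := by
    intro N
    induction N with
    | zero =>
      intro f hf
      simpa using hst f hf
    | succ N ih =>
      intro f hf
      obtain ⟨a, ha⟩ := exists_sub_algebraMap_lt_one hK P hf
      obtain ⟨g, hgdef⟩ : ∃ g : K, g = (f - algebraMap k K a) * t⁻¹ := ⟨_, rfl⟩
      have hg1 : P.1 g ≤ 1 := by
        rw [hgdef, map_mul, map_inv₀, hc]
        have h3 := (lt_one_iff_le_exp_neg_one _).1 ha
        calc P.1 (f - algebraMap k K a) * (exp (-1 : ℤ))⁻¹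
            ≤ exp (-1 : ℤ) * (exp (-1 : ℤ))⁻¹ := mul_le_mul' h3 le_rfl
          _ = 1 := mul_inv_cancel₀ exp_ne_zero
      have hf' : f = algebraMap k K a + t * g := by
        rw [hgdef]
        field_simp
        ring
      have hδf : δ f = t * δ g := by
        rw [hf', map_add, Derivation.map_algebraMap, zero_add, Derivation.leibniz, hδt,
          smul_zero, add_zero, smul_eq_mul]
      rw [hδf, map_mul, hc]
      calc exp (-1 : ℤ) * P.1 (δ g) ≤ exp (-1 : ℤ) * exp (-(N : ℤ)) :=
            mul_le_mul' le_rfl (ih g hg1)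
        _ = exp (-((N + 1 : ℕ) : ℤ)) := by
            rw [← exp_add]
            congr 1
            push_cast
            ring
  have hzero : ∀ f : K, P.1 f ≤ 1 → δ f = 0 := by
    intro f hf
    by_contra hne
    have h3 := hclaim ((P.ord (δ f)).toNat + 1) f hf
    have h4 := (P.val_le_exp_iff hne _).1 h3
    push_cast at h4
    omega
  ext z
  show δ z = 0
  by_cases hz : P.1 z ≤ 1
  · exact hzero z hz
  · push Not at hz
    have hz0 : z ≠ 0 := by
      rintro rfl
      rw [map_zero] at hz
      exact not_lt_zero hz
    have h5 : P.1 z⁻¹ ≤ 1 := by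
      rw [map_inv₀]
      exact inv_le_one_of_one_le₀ hz.le
    have h6 := hzero z⁻¹ h5
    rw [Derivation.leibniz_inv] at h6
    rcases smul_eq_zero.1 h6 with h7 | h7
    · exfalso
      have h8 : z⁻¹ ^ 2 = 0 := neg_eq_zero.1 h7
      exact inv_ne_zero hz0 ((pow_eq_zero_iff (two_ne_zero)).1 h8)
    · exact h7

/-- Two expansions with identity constant terms agreeing on a separating element are equal. -/
theorem hasse_ext (hK : IsFunctionField k K) (D : Derivation k K K) {s : K} (hs : D s = 1)
    (H₁ H₂ : K →ₐ[k] PowerSeries K) (h1 : ∀ y, PowerSeries.constantCoeff (H₁ y) = y)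
    (h2 : ∀ y, PowerSeries.constantCoeff (H₂ y) = y) (hs12 : H₁ s = H₂ s) : H₁ = H₂ := by
  classical
  have h10 : ∀ y, LocRes.hasseD H₁ 0 y = y := fun y => by
    rw [LocRes.hasseD_apply, PowerSeries.coeff_zero_eq_constantCoeff_apply, h1]
  have h20 : ∀ y, LocRes.hasseD H₂ 0 y = y := fun y => by
    rw [LocRes.hasseD_apply, PowerSeries.coeff_zero_eq_constantCoeff_apply, h2]
  have key : ∀ j : ℕ, ∀ y : K, LocRes.hasseD H₁ j y = LocRes.hasseD H₂ j y := by
    intro j
    induction j using Nat.strong_induction_on with
    | _ j ih =>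
      rcases Nat.eq_zero_or_pos j with rfl | hj
      · intro y
        rw [h10, h20]
      · have hleib : ∀ x y : K,
            LocRes.hasseD H₁ j (x * y) - LocRes.hasseD H₂ j (x * y) =
              x * (LocRes.hasseD H₁ j y - LocRes.hasseD H₂ j y) +
                y * (LocRes.hasseD H₁ j x - LocRes.hasseD H₂ j x) := by
          intro x y
          rw [hasseD_mul, hasseD_mul, ← Finset.sum_sub_distrib]
          have hterm : ∀ p ∈ Finset.HasAntidiagonal.antidiagonal j,
              LocRes.hasseD H₁ p.1 x * LocRes.hasseD H₁ p.2 y -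
                LocRes.hasseD H₂ p.1 x * LocRes.hasseD H₂ p.2 y =
              (if p = (0, j) then x * (LocRes.hasseD H₁ j y - LocRes.hasseD H₂ j y) else 0) +
              (if p = (j, 0) then y * (LocRes.hasseD H₁ j x - LocRes.hasseD H₂ j x) else 0) := by
            rintro ⟨a, b⟩ hp
            rw [Finset.HasAntidiagonal.mem_antidiagonal] at hp
            simp only at hp
            by_cases ha0 : a = 0
            · have hb : b = j := by omega
              subst ha0
              subst hb
              rw [if_pos rfl, if_neg (by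
                intro h
                have := (Prod.mk.inj h).1
                omega), h10, h20, add_zero]
              ring
            · by_cases haj : a = j
              · have hb : b = 0 := by omega
                subst haj
                subst hb
                rw [if_neg (by
                  intro h
                  have := (Prod.mk.inj h).1
                  omega), if_pos rfl, h10, h20, zero_add]
                ring
              · have halt : a < j := by omega
                have hblt : b < j := by omega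
                rw [if_neg (by
                  intro h
                  exact ha0 (Prod.mk.inj h).1), if_neg (by
                  intro h
                  exact haj (Prod.mk.inj h).1), ih a halt x, ih b hblt y, sub_self, add_zero]
          rw [Finset.sum_congr rfl hterm, Finset.sum_add_distrib, Finset.sum_ite_eq',
            Finset.sum_ite_eq', if_pos (by simp), if_pos (by simp)]
        let δ : Derivation k K K :=
          { toLinearMap := hasseDL H₁ j - hasseDL H₂ j
            map_one_eq_zero' := by
              show LocRes.hasseD H₁ j 1 - LocRes.hasseD H₂ j 1 = 0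
              rw [LocRes.hasseD_apply, LocRes.hasseD_apply, map_one H₁, map_one H₂, sub_self]
            leibniz' := fun x y => by
              show LocRes.hasseD H₁ j (x * y) - LocRes.hasseD H₂ j (x * y) =
                x • (LocRes.hasseD H₁ j y - LocRes.hasseD H₂ j y) +
                  y • (LocRes.hasseD H₁ j x - LocRes.hasseD H₂ j x)
              rw [hleib x y, smul_eq_mul, smul_eq_mul] }
        have hδs : δ s = 0 := by
          show LocRes.hasseD H₁ j s - LocRes.hasseD H₂ j s = 0
          rw [LocRes.hasseD_apply, LocRes.hasseD_apply, hs12, sub_self]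
        have hδ0 := derivation_eq_zero_of_apply_eq_zero hK D hs δ hδs
        intro y
        have h3 : δ y = 0 := by rw [hδ0]; rfl
        exact sub_eq_zero.1 h3
  apply AlgHom.ext
  intro y
  ext j
  exact key j y

end Zero

section Subst

/-- An expansion followed by the substitution `X ↦ g`. -/
noncomputable def substHom (g : PowerSeries K) (hg : PowerSeries.constantCoeff g = 0)
    (H : K →ₐ[k] PowerSeries K) : K →ₐ[k] PowerSeries K :=
  ((PowerSeries.substAlgHom (R := K)
    (PowerSeries.HasSubst.of_constantCoeff_zero' hg)).restrictScalars k).comp H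

theorem substHom_apply (g : PowerSeries K) (hg : PowerSeries.constantCoeff g = 0)
    (H : K →ₐ[k] PowerSeries K) (y : K) :
    substHom g hg H y = (H y).subst g := by
  show PowerSeries.substAlgHom (R := K) (PowerSeries.HasSubst.of_constantCoeff_zero' hg) (H y) = _
  rw [PowerSeries.coe_substAlgHom]

theorem coeff_pow_of_constantCoeff_eq_zero (g : PowerSeries K)
    (hg : PowerSeries.constantCoeff g = 0) (j d : ℕ) :
    PowerSeries.coeff j (g ^ d) =
      if d ≤ j then PowerSeries.coeff (j - d)
        ((PowerSeries.mk fun p => PowerSeries.coeff (p + 1) g) ^ d) else 0 := by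
  have h1 : g = PowerSeries.X * PowerSeries.mk fun p => PowerSeries.coeff (p + 1) g := by
    have := PowerSeries.eq_X_mul_shift_add_const g
    rw [hg, map_zero, add_zero] at this
    exact this
  conv_lhs => rw [h1, mul_pow, PowerSeries.coeff_X_pow_mul']

theorem coeff_pow_of_lt (g : PowerSeries K) (hg : PowerSeries.constantCoeff g = 0) {j d : ℕ}
    (h : j < d) : PowerSeries.coeff j (g ^ d) = 0 := by
  rw [coeff_pow_of_constantCoeff_eq_zero g hg, if_neg (by omega)]

theorem coeff_pow_self (g : PowerSeries K) (hg : PowerSeries.constantCoeff g = 0) (j : ℕ) :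
    PowerSeries.coeff j (g ^ j) = PowerSeries.coeff 1 g ^ j := by
  rw [coeff_pow_of_constantCoeff_eq_zero g hg, if_pos le_rfl, Nat.sub_self,
    PowerSeries.coeff_zero_eq_constantCoeff_apply, map_pow,
    ← PowerSeries.coeff_zero_eq_constantCoeff_apply, PowerSeries.coeff_mk]

theorem hasseD_substHom (g : PowerSeries K) (hg : PowerSeries.constantCoeff g = 0)
    (H : K →ₐ[k] PowerSeries K) (j : ℕ) (y : K) :
    LocRes.hasseD (substHom g hg H) j y =
      ∑ d ∈ Finset.range (j + 1), LocRes.hasseD H d y * PowerSeries.coeff j (g ^ d) := by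
  rw [LocRes.hasseD_apply, substHom_apply,
    PowerSeries.coeff_subst' (PowerSeries.HasSubst.of_constantCoeff_zero' hg)]
  rw [finsum_eq_sum_of_support_subset (s := Finset.range (j + 1))]
  · apply Finset.sum_congr rfl
    intro d _
    rw [smul_eq_mul, LocRes.hasseD_apply]
  · intro d hd
    rw [Function.mem_support] at hd
    rw [Finset.coe_range, Set.mem_Iio]
    by_contra hlt
    apply hd
    rw [coeff_pow_of_lt g hg (by omega), smul_zero]

end Subst

section Change

variable [IsAlgClosed k]

/-- The chain rule for Hasse derivatives: change of the separating variable. -/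
theorem hasseD_change (hK : IsFunctionField k K) {s t : K} {Hs Ht : K →ₐ[k] PowerSeries K}
    (hHs : LocRes.IsHasseFamily s Hs) (hHt : LocRes.IsHasseFamily t Ht) (j : ℕ) (y : K) :
    LocRes.hasseD Ht j y =
      ∑ d ∈ Finset.range (j + 1),
        LocRes.hasseD Hs d y * PowerSeries.coeff j ((Ht s - PowerSeries.C s) ^ d) := by
  have hg : PowerSeries.constantCoeff (Ht s - PowerSeries.C s) = 0 := by
    rw [map_sub, hHt.2, PowerSeries.constantCoeff_C, sub_self]
  have hH' : substHom (Ht s - PowerSeries.C s) hg Hs = Ht := by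
    apply hasse_ext hK (hasseDer hHs) (hasseDer_self hHs)
    · intro y
      have := hasseD_substHom (Ht s - PowerSeries.C s) hg Hs 0 y
      rw [LocRes.hasseD_apply, PowerSeries.coeff_zero_eq_constantCoeff_apply] at this
      rw [this, zero_add, Finset.sum_range_one, pow_zero, hasseD_zero_apply hHs,
        PowerSeries.coeff_zero_eq_constantCoeff_apply, map_one, mul_one]
    · exact hHt.2
    · rw [substHom_apply, hHs.1]
      have h1 : (PowerSeries.C s + PowerSeries.X : PowerSeries K).subst (Ht s - PowerSeries.C s) =
          PowerSeries.C s + (Ht s - PowerSeries.C s) := by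
        rw [PowerSeries.subst_add (PowerSeries.HasSubst.of_constantCoeff_zero' hg),
          PowerSeries.subst_X (PowerSeries.HasSubst.of_constantCoeff_zero' hg),
          PowerSeries.subst_C]
        rfl
      rw [h1]
      ring
  rw [← hH', hasseD_substHom]
  rw [hH']

/-- The first Hasse derivatives of two separating variables with respect to each other are
inverse to each other. -/
theorem hasseD_one_mul_hasseD_one (hK : IsFunctionField k K) {s t : K}
    {Hs Ht : K →ₐ[k] PowerSeries K} (hHs : LocRes.IsHasseFamily s Hs)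
    (hHt : LocRes.IsHasseFamily t Ht) :
    LocRes.hasseD Ht 1 s * LocRes.hasseD Hs 1 t = 1 := by
  have hδ : hasseDer hHt - LocRes.hasseD Ht 1 s • hasseDer hHs = 0 := by
    apply derivation_eq_zero_of_apply_eq_zero hK (hasseDer hHs) (hasseDer_self hHs)
    rw [Derivation.sub_apply, Derivation.smul_apply, hasseDer_self, hasseDer_apply, smul_eq_mul,
      mul_one, sub_self]
  have h1 : (hasseDer hHt - LocRes.hasseD Ht 1 s • hasseDer hHs) t = 0 := by rw [hδ]; rfl
  rw [Derivation.sub_apply, Derivation.smul_apply, hasseDer_self, hasseDer_apply, smul_eq_mul]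
    at h1
  exact (sub_eq_zero.1 h1).symm

/-- Diagonal factors in the change of variable. -/
def chgU (a : K) : ℕ → K
  | 0 => 1
  | j + 1 => a ^ j

@[simp] theorem chgU_zero (a : K) : chgU a 0 = 1 := rfl

@[simp] theorem chgU_succ (a : K) (j : ℕ) : chgU a (j + 1) = a ^ j := rfl

theorem hcol_change (hK : IsFunctionField k K) {n : ℕ} (φ : Fin (n + 1) → K) (τ : K →ₐ[k] K)
    {s t : K} {Hs Ht : K →ₐ[k] PowerSeries K} (hHs : LocRes.IsHasseFamily s Hs)
    (hHt : LocRes.IsHasseFamily t Ht) (m : ℕ) :
    hcol τ Ht φ m - chgU (LocRes.hasseD Ht 1 s) m • hcol τ Hs φ m ∈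
      spanLt K (hcol τ Hs φ) m := by
  cases m with
  | zero =>
    have h1 : hcol τ Ht φ 0 = hcol τ Hs φ 0 := rfl
    show hcol τ Ht φ 0 - (1 : K) • hcol τ Hs φ 0 ∈ _
    rw [h1, one_smul, sub_self]
    exact Submodule.zero_mem _
  | succ j =>
    show hcol τ Ht φ (j + 1) - (LocRes.hasseD Ht 1 s ^ j) • hcol τ Hs φ (j + 1) ∈ _
    have hg : PowerSeries.constantCoeff (Ht s - PowerSeries.C s) = 0 := by
      rw [map_sub, hHt.2, PowerSeries.constantCoeff_C, sub_self]
    have ha : PowerSeries.coeff 1 (Ht s - PowerSeries.C s) = LocRes.hasseD Ht 1 s := by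
      rw [map_sub, PowerSeries.coeff_C, if_neg one_ne_zero, sub_zero, LocRes.hasseD_apply]
    have hexp : hcol τ Ht φ (j + 1) =
        ∑ d ∈ Finset.range (j + 1),
          PowerSeries.coeff j ((Ht s - PowerSeries.C s) ^ d) • hcol τ Hs φ (d + 1) := by
      funext i
      show LocRes.hasseD Ht j (φ i) = _
      rw [hasseD_change hK hHs hHt, Finset.sum_apply]
      apply Finset.sum_congr rfl
      intro d _
      show _ = PowerSeries.coeff j ((Ht s - PowerSeries.C s) ^ d) * LocRes.hasseD Hs d (φ i)
      ring
    rw [hexp, Finset.sum_range_succ, coeff_pow_self _ hg, ha, add_sub_cancel_right]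
    apply Submodule.sum_mem
    intro d hd
    apply Submodule.smul_mem
    apply mem_spanLt
    have := Finset.mem_range.1 hd
    omega

end Change

section DetTri

/-- Wronskian determinants of two column sequences related by a triangular substitution. -/
theorem det_wrMat_of_triangular {n : ℕ} (τ τ' : K →ₐ[k] K) (H H' : K →ₐ[k] PowerSeries K)
    (φ ψ : Fin (n + 1) → K) (u : ℕ → K)
    (hS : ∀ m, hcol τ' H' ψ m - u m • hcol τ H φ m ∈ spanLt K (hcol τ H φ) m)
    (J : Fin n → ℕ) (hJ : IsOrders K (hcol τ H φ) J) :
    (wrMat τ' H' ψ J).det = (wrMat τ H φ J).det * (u 0 * ∏ l, u (J l + 1)) := by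
  classical
  let g : Fin (n + 1) → ℕ := Fin.cases 0 (fun a => J a + 1)
  have hcolg : ∀ (τ₀ : K →ₐ[k] K) (H₀ : K →ₐ[k] PowerSeries K) (ψ₀ : Fin (n + 1) → K)
      (q : Fin (n + 1)), (wrMat τ₀ H₀ ψ₀ J).col q = hcol τ₀ H₀ ψ₀ (g q) := by
    intro τ₀ H₀ ψ₀ q
    funext i
    induction q using Fin.cases with
    | zero =>
      show wrMat τ₀ H₀ ψ₀ J i 0 = _
      simp [wrMat, g, hcol]
    | succ a =>
      show wrMat τ₀ H₀ ψ₀ J i a.succ = _
      simp [wrMat, g, hcol]
  have hkey := det_of_cols_triangular (wrMat τ H φ J) (wrMat τ' H' ψ J)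
    (Fin.cases (u 0) (fun l => u (J l + 1))) ?_
  · rw [hkey, Fin.prod_univ_succ]
    simp only [Fin.cases_zero, Fin.cases_succ]
  · intro q
    induction q using Fin.cases with
    | zero =>
      have h0c : hcol τ' H' ψ 0 = u 0 • hcol τ H φ 0 := by
        have := hS 0
        rw [spanLt_zero, Submodule.mem_bot] at this
        exact sub_eq_zero.1 this
      refine ⟨Pi.single 0 (u 0), fun r hr => ?_, ?_, ?_⟩
      · rw [Pi.single_apply, if_neg (ne_of_gt hr)]
      · simp
      · have h1 := mulVec_add_single (wrMat τ H φ J) 0 0 (u 0)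
        rw [zero_add, Matrix.mulVec_zero, zero_add] at h1
        rw [h1, hcolg, hcolg]
        exact h0c
    | succ l =>
      have hsub : spanLt K (hcol τ H φ) (J l + 1) ≤
          Submodule.map (wrMat τ H φ J).mulVecLin (lowVec K l.succ) := by
        rw [spanLt_eq_span_jumps, Submodule.span_le]
        rintro _ ⟨j, ⟨hj1, hj2⟩, rfl⟩
        rcases j with _ | i
        · refine ⟨Pi.single 0 1, ?_, ?_⟩
          · intro r hr
            rw [Pi.single_apply, if_neg]
            intro h
            rw [h] at hr
            exact absurd hr (by simp [Fin.le_def])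
          · rw [Matrix.mulVecLin_apply, Matrix.mulVec_single_one, hcolg]
            rfl
        · obtain ⟨a, ha⟩ := (hJ.2 i).mpr hj2
          have hal : a < l := by
            apply hJ.1.lt_iff_lt.mp
            omega
          refine ⟨Pi.single a.succ 1, ?_, ?_⟩
          · intro r hr
            rw [Pi.single_apply, if_neg]
            intro h
            rw [h] at hr
            have := Fin.succ_le_succ_iff.mp hr
            exact absurd hal (not_lt.mpr this)
          · rw [Matrix.mulVecLin_apply, Matrix.mulVec_single_one, hcolg]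
            simp only [g, Fin.cases_succ, ha]
      obtain ⟨w, hw, hws⟩ := hsub (hS (J l + 1))
      rw [Matrix.mulVecLin_apply] at hws
      refine ⟨w + Pi.single l.succ (u (J l + 1)), fun r hr => ?_, ?_, ?_⟩
      · rw [Pi.add_apply, hw r (le_of_lt hr), Pi.single_apply, if_neg (ne_of_gt hr), add_zero]
      · rw [Pi.add_apply, hw l.succ le_rfl, Pi.single_apply, if_pos rfl, zero_add]
        simp
      · rw [mulVec_add_single, hws, hcolg, hcolg]
        simp only [g, Fin.cases_succ]
        rw [sub_add_cancel]

end DetTri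

end FunFld
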