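import Mathlib
import Groth.Agent.Lib.FunFldHasseF_helper2

/-! Function fields, Hasse part G (helper2): the divisor of a tuple under equivalence, the chain
rule for Laurent expansions, divisors of differentials of separating elements. -/

open Module

namespace FunFld

open WithZero

variable {k K : Type*} [Field k] [Field K] [Algebra k K]

section MatrixSmul

theorem linearIndependent_matrix_smul {n : ℕ} {φ : Fin n → K} (hφ : LinearIndependent k φ)
    (A : Matrix (Fin n) (Fin n) k) (hA : A.det ≠ 0) :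
    LinearIndependent k (fun i => ∑ j, A i j • φ j) := by
  rw [Fintype.linearIndependent_iff]
  intro c hc
  have h1 : ∑ i, c i • ∑ j, A i j • φ j = ∑ j, (∑ i, c i * A i j) • φ j := by
    simp_rw [Finset.smul_sum, smul_smul, Finset.sum_smul]
    exact Finset.sum_comm
  rw [h1] at hc
  have h2 := Fintype.linearIndependent_iff.1 hφ _ hc
  have h3 : Matrix.vecMul c A = 0 := by
    funext j
    exact h2 j
  have h4 := Matrix.eq_zero_of_vecMul_eq_zero hA h3
  intro i
  exact congrFun h4 i

theorem span_matrix_smul_eq {n : ℕ} {φ : Fin n → K} (hφ : LinearIndependent k φ)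
    (A : Matrix (Fin n) (Fin n) k) (hA : A.det ≠ 0) :
    Submodule.span k (Set.range fun i => ∑ j, A i j • φ j) = Submodule.span k (Set.range φ) := by
  have hle : Submodule.span k (Set.range fun i => ∑ j, A i j • φ j) ≤
      Submodule.span k (Set.range φ) := by
    rw [Submodule.span_le]
    rintro _ ⟨i, rfl⟩
    exact Submodule.sum_mem _
      (fun j _ => Submodule.smul_mem _ _ (Submodule.subset_span ⟨j, rfl⟩))
  haveI : FiniteDimensional k (Submodule.span k (Set.range φ)) :=
    FiniteDimensional.span_of_finite k (Set.finite_range φ)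
  apply Submodule.eq_of_le_of_finrank_eq hle
  rw [finrank_span_eq_card hφ, finrank_span_eq_card (linearIndependent_matrix_smul hφ A hA)]

end MatrixSmul

section MinOrd

/-- The least order of the entries of a tuple at `P`. -/
noncomputable def minOrd {ι : Type*} [Fintype ι] [Nonempty ι] (P : Place k K) (φ : ι → K) : ℤ :=
  Finset.univ.inf' Finset.univ_nonempty (fun i => P.ord (φ i))

theorem mapDiv_apply (hK : IsFunctionField k K) {ι : Type*} [Fintype ι] [Nonempty ι] (φ : ι → K)
    (P : Place k K) : mapDiv k φ P = -minOrd P φ := by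
  classical
  have hfin : (Function.support fun P : Place k K =>
      -Finset.univ.inf' Finset.univ_nonempty (fun i => P.ord (φ i))).Finite := by
    apply (Set.finite_iUnion (fun i => finite_support_ord hK (φ i))).subset
    intro Q hQ
    rw [Function.mem_support] at hQ
    by_contra hno
    apply hQ
    rw [Set.mem_iUnion] at hno
    push Not at hno
    have h0 : ∀ i, Q.ord (φ i) = 0 := fun i => by
      have := hno i
      rwa [Function.mem_support, not_not] at this
    rw [neg_eq_zero]
    exact Finset.inf'_eq_of_forall _ _ (fun i _ => h0 i)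
  unfold mapDiv
  rw [dif_pos hfin]
  rfl

theorem minOrd_mul {ι : Type*} [Fintype ι] [Nonempty ι] (P : Place k K) {y : K} (hy : y ≠ 0)
    (φ : ι → K) (hφ0 : ∀ i, φ i ≠ 0) :
    minOrd P (fun i => y * φ i) = P.ord y + minOrd P φ := by
  unfold minOrd
  apply le_antisymm
  · obtain ⟨i, -, hi⟩ := Finset.exists_mem_eq_inf' Finset.univ_nonempty (fun i => P.ord (φ i))
    rw [hi, ← P.ord_mul hy (hφ0 i)]
    exact Finset.inf'_le (fun i => P.ord (y * φ i)) (Finset.mem_univ i)
  · apply Finset.le_inf'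
    intro i _
    rw [P.ord_mul hy (hφ0 i)]
    have h2 : Finset.univ.inf' Finset.univ_nonempty (fun i => P.ord (φ i)) ≤ P.ord (φ i) :=
      Finset.inf'_le _ (Finset.mem_univ i)
    omega

theorem le_minOrd_of_mem_span {ι ι' : Type*} [Fintype ι] [Nonempty ι] [Fintype ι'] [Nonempty ι']
    (P : Place k K) (φ : ι → K) (hφ0 : ∀ i, φ i ≠ 0) (ψ : ι' → K) (hψ0 : ∀ i, ψ i ≠ 0)
    (hmem : ∀ i, ψ i ∈ Submodule.span k (Set.range φ)) : minOrd P φ ≤ minOrd P ψ := by
  unfold minOrd
  apply Finset.le_inf'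
  intro i _
  have h1 : P.1 (ψ i) ≤
      exp (-(Finset.univ.inf' Finset.univ_nonempty (fun i => P.ord (φ i)))) := by
    apply val_le_of_mem_span P (s := Set.range φ) ?_ (hmem i)
    rintro _ ⟨j, rfl⟩
    rw [P.val_eq_exp_neg_ord (hφ0 j), exp_le_exp]
    have h2 : Finset.univ.inf' Finset.univ_nonempty (fun i => P.ord (φ i)) ≤ P.ord (φ j) :=
      Finset.inf'_le _ (Finset.mem_univ j)
    omega
  have h3 := (P.val_le_exp_iff (hψ0 i) _).1 h1
  omega

/-- The divisor of an equivalent tuple `y · Aφ`. -/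
theorem mapDiv_equiv (hK : IsFunctionField k K) (P : Place k K) {n : ℕ}
    (φ ψ' : Fin (n + 1) → K) (hφ : LinearIndependent k φ)
    (A : Matrix (Fin (n + 1)) (Fin (n + 1)) k) (hA : A.det ≠ 0) {y : K} (hy : y ≠ 0)
    (hψ' : ∀ i, ψ' i = y * ∑ j, A i j • φ j) :
    mapDiv k ψ' P = mapDiv k φ P - P.ord y := by
  have hψLI := linearIndependent_matrix_smul hφ A hA
  have hspan := span_matrix_smul_eq hφ A hA
  have hfun : ψ' = fun i => y * (fun i => ∑ j, A i j • φ j) i := funext hψ'
  rw [mapDiv_apply hK, mapDiv_apply hK, hfun, minOrd_mul P hy _ (fun i => hψLI.ne_zero i)]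
  have h1 : minOrd P (fun i => ∑ j, A i j • φ j) = minOrd P φ := by
    apply le_antisymm
    · apply le_minOrd_of_mem_span P _ (fun i => hψLI.ne_zero i) φ (fun i => hφ.ne_zero i)
      intro i
      rw [hspan]
      exact Submodule.subset_span ⟨i, rfl⟩
    · apply le_minOrd_of_mem_span P φ (fun i => hφ.ne_zero i) _ (fun i => hψLI.ne_zero i)
      intro i
      rw [← hspan]
      exact Submodule.subset_span ⟨i, rfl⟩
  rw [h1]
  ring

end MinOrd

section Laurent

variable [IsAlgClosed k]

/-- A derivation-like map into a field extension that kills a separating element is zero. -/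
theorem eq_zero_of_derivation_like (hK : IsFunctionField k K) (D : Derivation k K K) {s : K}
    (hs : D s = 1) {L : Type*} [Field L] (ι : K →+* L) (δ : K → L)
    (hadd : ∀ x y, δ (x + y) = δ x + δ y) (hconst : ∀ c : k, δ (algebraMap k K c) = 0)
    (hmul : ∀ x y, δ (x * y) = ι x * δ y + ι y * δ x) (hδs : δ s = 0) (f : K) : δ f = 0 := by
  classical
  by_contra hne
  letI : Algebra K L := ι.toAlgebra
  obtain ⟨Λ, hΛ, -⟩ := Submodule.exists_dual_map_eq_bot_of_notMem (R := K) (M := L)
    (p := ⊥) (x := δ f) (by rwa [Submodule.mem_bot]) inferInstance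
  have hsm : ∀ (r : K) (l : L), Λ (ι r * l) = r * Λ l := by
    intro r l
    have h1 : ι r * l = r • l := (Algebra.smul_def r l).symm
    rw [h1, map_smul, smul_eq_mul]
  let δ' : Derivation k K K :=
    { toFun := fun x => Λ (δ x)
      map_add' := fun x y => by
        show Λ (δ (x + y)) = Λ (δ x) + Λ (δ y)
        rw [hadd, map_add]
      map_smul' := fun c x => by
        show Λ (δ (c • x)) = c • Λ (δ x)
        rw [Algebra.smul_def, hmul, hconst, mul_zero, add_zero, hsm, Algebra.smul_def]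
      map_one_eq_zero' := by
        show Λ (δ 1) = 0
        rw [← map_one (algebraMap k K), hconst, map_zero]
      leibniz' := fun x y => by
        show Λ (δ (x * y)) = x • Λ (δ y) + y • Λ (δ x)
        rw [hmul, map_add, hsm, hsm, smul_eq_mul, smul_eq_mul] }
  have h0 : δ' = 0 := derivation_eq_zero_of_apply_eq_zero hK D hs δ' (by
    show Λ (δ s) = 0
    rw [hδs, map_zero])
  apply hΛ
  have h2 : δ' f = 0 := by rw [h0]; rfl
  exact h2

/-- The chain rule for a Laurent expansion: `(Φ f)' = Φ (df/ds) · (Φ s)'`. -/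
theorem laurent_chain_rule (hK : IsFunctionField k K) {s : K} {Hs : K →ₐ[k] PowerSeries K}
    (hHs : LocRes.IsHasseFamily s Hs) (Φ : K →ₐ[k] LaurentSeries k) (f : K) :
    LocRes.D k (Φ f) = Φ (LocRes.hasseD Hs 1 f) * LocRes.D k (Φ s) := by
  have h := eq_zero_of_derivation_like hK (hasseDer hHs) (hasseDer_self hHs)
    (Φ : K →+* LaurentSeries k)
    (fun x => LocRes.D k (Φ x) - Φ (hasseDer hHs x) * LocRes.D k (Φ s)) ?_ ?_ ?_ ?_ f
  · exact sub_eq_zero.1 h
  · intro x y
    show LocRes.D k (Φ (x + y)) - Φ (hasseDer hHs (x + y)) * LocRes.D k (Φ s) =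
      (LocRes.D k (Φ x) - Φ (hasseDer hHs x) * LocRes.D k (Φ s)) +
        (LocRes.D k (Φ y) - Φ (hasseDer hHs y) * LocRes.D k (Φ s))
    rw [map_add, map_add, map_add, map_add]
    ring
  · intro c
    show LocRes.D k (Φ (algebraMap k K c)) -
      Φ (hasseDer hHs (algebraMap k K c)) * LocRes.D k (Φ s) = 0
    have h2 : LocRes.D k (HahnSeries.C (algebraMap k k c) : LaurentSeries k) = 0 :=
      LocRes.derivative_C k _
    rw [LocRes.map_algebraMap, h2, Derivation.map_algebraMap, map_zero, zero_mul, sub_zero]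
  · intro x y
    show LocRes.D k (Φ (x * y)) - Φ (hasseDer hHs (x * y)) * LocRes.D k (Φ s) =
      Φ x * (LocRes.D k (Φ y) - Φ (hasseDer hHs y) * LocRes.D k (Φ s)) +
        Φ y * (LocRes.D k (Φ x) - Φ (hasseDer hHs x) * LocRes.D k (Φ s))
    rw [map_mul, Derivation.leibniz, Derivation.leibniz (hasseDer hHs), smul_eq_mul, smul_eq_mul,
      smul_eq_mul, smul_eq_mul, map_add, map_mul, map_mul]
    ring
  · show LocRes.D k (Φ s) - Φ (hasseDer hHs s) * LocRes.D k (Φ s) = 0
    rw [hasseDer_self, map_one, one_mul, sub_self]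

theorem D_expansion_ne_zero (hK : IsFunctionField k K) {s : K} {Hs : K →ₐ[k] PowerSeries K}
    (hHs : LocRes.IsHasseFamily s Hs) (P : Place k K) (Φ : K →ₐ[k] LaurentSeries k)
    (hΦ : LocRes.IsExpansionAt P.1 Φ) : LocRes.D k (Φ s) ≠ 0 := by
  obtain ⟨w, hw⟩ := P.exists_uniformizer
  intro h0
  have h1 := laurent_chain_rule hK hHs Φ w
  rw [h0, mul_zero] at h1
  have h2 := val_D_of_val_eq (Φ w) (by rw [hΦ.1 w, hw])
  rw [h1, map_zero] at h2
  exact zero_ne_one h2

theorem ordDiff_change (hK : IsFunctionField k K) {s t : K} {Hs Ht : K →ₐ[k] PowerSeries K}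
    (hHs : LocRes.IsHasseFamily s Hs) (hHt : LocRes.IsHasseFamily t Ht) (P : Place k K)
    (Φ : K →ₐ[k] LaurentSeries k) (hΦ : LocRes.IsExpansionAt P.1 Φ) :
    LocRes.ordDiff Φ 1 t = P.ord (LocRes.hasseD Hs 1 t) + LocRes.ordDiff Φ 1 s := by
  have hb0 : LocRes.hasseD Hs 1 t ≠ 0 := by
    intro h0
    have := hasseD_one_mul_hasseD_one hK hHs hHt
    rw [h0, mul_zero] at this
    exact zero_ne_one this
  unfold LocRes.ordDiff LocRes.vDiff
  rw [map_one, one_mul, one_mul, laurent_chain_rule hK hHs Φ t, map_mul, hΦ.1,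
    log_mul ((map_ne_zero P.1).2 hb0)
      ((map_ne_zero _).2 (D_expansion_ne_zero hK hHs P Φ hΦ))]
  unfold Place.ord
  ring

theorem divDiff_one_apply (hK : IsFunctionField k K) {s : K} {Hs : K →ₐ[k] PowerSeries K}
    (hHs : LocRes.IsHasseFamily s Hs) (Φ : Place k K → (K →ₐ[k] LaurentSeries k))
    (hΦ : ∀ P : Place k K, LocRes.IsExpansionAt P.1 (Φ P)) (P : Place k K) :
    divDiff Φ 1 s P = LocRes.ordDiff (Φ P) 1 s := by
  classical
  have hfin : (Function.support fun P : Place k K => LocRes.ordDiff (Φ P) 1 s).Finite := by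
    obtain ⟨Z, hZ, hgood⟩ := exists_finite_bad hK (hasseDer hHs) (hasseDer_self hHs)
    apply hZ.subset
    intro Q hQ
    by_contra hQZ
    obtain ⟨-, c, hc⟩ := hgood Q hQZ
    apply hQ
    show LocRes.ordDiff (Φ Q) 1 s = 0
    have h2 : LocRes.D k (HahnSeries.C (algebraMap k k c) : LaurentSeries k) = 0 :=
      LocRes.derivative_C k _
    have h1 : LocRes.D k (Φ Q s) = LocRes.D k (Φ Q (s - algebraMap k K c)) := by
      rw [map_sub, map_sub, LocRes.map_algebraMap, h2, sub_zero]
    unfold LocRes.ordDiff LocRes.vDiff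
    rw [map_one, one_mul, h1, val_D_of_val_eq _ (by rw [(hΦ Q).1, hc]), log_one, neg_zero]
  unfold divDiff
  rw [dif_pos hfin]
  rfl

end Laurent

end FunFld
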