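import Mathlib
import Groth.Agent.Lib.FunFldHasseG_helper2

/-! Function fields, Hasse part H (helper2): derivations killing a uniformizer, existence of the
total Hasse derivative with respect to a local parameter, values at a fixed point. -/

open Module

namespace FunFld

open WithZero

variable {k K : Type*} [Field k] [Field K] [Algebra k K]

section Bound

variable [IsAlgClosed k]

theorem val_D_le_of_mem_adjoin (D : Derivation k K K) (Q : Place k K) {B : ℤᵐ⁰} (hB : 1 ≤ B)
    {S : Set K} (hS : ∀ s ∈ S, Q.1 s ≤ 1 ∧ Q.1 (D s) ≤ B) {a : K}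
    (ha : a ∈ Algebra.adjoin k S) : Q.1 a ≤ 1 ∧ Q.1 (D a) ≤ B := by
  induction ha using Algebra.adjoin_induction with
  | mem s hs => exact hS s hs
  | algebraMap c =>
    refine ⟨Q.2.1 c, ?_⟩
    rw [Derivation.map_algebraMap, map_zero]
    exact zero_le
  | add a b _ _ ha hb =>
    refine ⟨(Q.1.map_add _ _).trans (max_le ha.1 hb.1), ?_⟩
    rw [map_add]
    exact (Q.1.map_add _ _).trans (max_le ha.2 hb.2)
  | mul a b _ _ ha hb =>
    refine ⟨by rw [map_mul]; exact mul_le_one' ha.1 hb.1, ?_⟩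
    rw [Derivation.leibniz, smul_eq_mul, smul_eq_mul]
    refine (Q.1.map_add _ _).trans (max_le ?_ ?_)
    · rw [map_mul]
      calc Q.1 a * Q.1 (D b) ≤ 1 * B := mul_le_mul' ha.1 hb.2
        _ = B := one_mul _
    · rw [map_mul]
      calc Q.1 b * Q.1 (D a) ≤ 1 * B := mul_le_mul' hb.1 ha.2
        _ = B := one_mul _

/-- A derivation is bounded on the valuation ring of a place. -/
theorem exists_bound_derivation (hK : IsFunctionField k K) (D : Derivation k K K)
    (P : Place k K) : ∃ B : ℤᵐ⁰, 1 ≤ B ∧ ∀ f : K, P.1 f ≤ 1 → P.1 (D f) ≤ B := by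
  classical
  obtain ⟨Q₀, hQ₀⟩ := exists_place_ne hK P
  obtain ⟨G, hG1, hG2⟩ := exists_finite_generators hK Q₀
  obtain ⟨B, hB⟩ := Finset.exists_le (insert (1 : ℤᵐ⁰) (G.image (fun g => P.1 (D g))))
  have hB1 : 1 ≤ B := hB 1 (Finset.mem_insert_self _ _)
  have hS : ∀ g ∈ (G : Set K), P.1 g ≤ 1 ∧ P.1 (D g) ≤ B := fun g hg =>
    ⟨hG1 g hg P (Ne.symm hQ₀),
      hB _ (Finset.mem_insert_of_mem (Finset.mem_image_of_mem _ hg))⟩
  refine ⟨B, hB1, fun f hf => ?_⟩
  obtain ⟨s', hs0, hsP, hsreg, hfsreg⟩ :=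
    exists_regular_denominator hK Q₀ P (Ne.symm hQ₀) hf
  obtain ⟨-, hDs⟩ := val_D_le_of_mem_adjoin D P hB1 hS (hG2 s' hsreg)
  obtain ⟨hfs1, hDfs⟩ := val_D_le_of_mem_adjoin D P hB1 hS (hG2 (f * s') hfsreg)
  have hfeq : f = (f * s') / s' := by field_simp
  rw [hfeq, Derivation.leibniz_div]
  simp only [smul_eq_mul]
  rw [map_mul, map_pow, map_inv₀, hsP, inv_one, one_pow, one_mul]
  refine (P.1.map_sub _ _).trans (max_le ?_ ?_)
  · rw [map_mul, hsP, one_mul]; exact hDfs
  · rw [map_mul]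
    calc P.1 (f * s') * P.1 (D s') ≤ 1 * B := mul_le_mul' hfs1 hDs
      _ = B := one_mul _

/-- A derivation killing a local parameter at some place is zero. -/
theorem derivation_eq_zero_of_uniformizer (hK : IsFunctionField k K) (δ : Derivation k K K)
    (P : Place k K) {t : K} (ht : P.1 t = exp (-1 : ℤ)) (hδt : δ t = 0) : δ = 0 := by
  classical
  obtain ⟨B, hB1, hB⟩ := exists_bound_derivation hK δ P
  have ht0 := uniformizer_ne_zero P ht
  have hclaim : ∀ N : ℕ, ∀ f : K, P.1 f ≤ 1 → P.1 (δ f) ≤ B * exp (-(N : ℤ)) := by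
    intro N
    induction N with
    | zero =>
      intro f hf
      simpa using hB f hf
    | succ N ih =>
      intro f hf
      obtain ⟨a, ha⟩ := exists_sub_algebraMap_lt_one hK P hf
      obtain ⟨g, hgdef⟩ : ∃ g : K, g = (f - algebraMap k K a) * t⁻¹ := ⟨_, rfl⟩
      have hg1 : P.1 g ≤ 1 := by
        rw [hgdef, map_mul, map_inv₀, ht]
        have h3 := (lt_one_iff_le_exp_neg_one _).1 ha
        calc P.1 (f - algebraMap k K a) * (exp (-1 : ℤ))⁻¹
            ≤ exp (-1 : ℤ) * (exp (-1 : ℤ))⁻¹ := mul_le_mul' h3 le_rfl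
          _ = 1 := mul_inv_cancel₀ exp_ne_zero
      have hf' : f = algebraMap k K a + t * g := by
        rw [hgdef]
        field_simp
        ring
      have hδf : δ f = t * δ g := by
        rw [hf', map_add, Derivation.map_algebraMap, zero_add, Derivation.leibniz, hδt,
          smul_zero, add_zero, smul_eq_mul]
      rw [hδf, map_mul, ht]
      calc exp (-1 : ℤ) * P.1 (δ g) ≤ exp (-1 : ℤ) * (B * exp (-(N : ℤ))) :=
            mul_le_mul' le_rfl (ih g hg1)
        _ = B * exp (-((N + 1 : ℕ) : ℤ)) := by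
            rw [mul_left_comm, ← exp_add]
            congr 2
            push_cast
            ring
  have hzero : ∀ f : K, P.1 f ≤ 1 → δ f = 0 := by
    intro f hf
    by_contra hne
    obtain ⟨β, hβ⟩ : ∃ β : ℤ, B = exp β :=
      ⟨log B, (exp_log (ne_of_gt (lt_of_lt_of_le zero_lt_one hB1))).symm⟩
    have h3 := hclaim ((β + P.ord (δ f)).toNat + 1) f hf
    rw [hβ, ← exp_add] at h3
    have h4 := (P.val_le_exp_iff hne _).1 h3
    push_cast at h4
    omega
  ext z
  show δ z = 0
  by_cases hz : P.1 z ≤ 1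
  · exact hzero z hz
  · push Not at hz
    have hz0 : z ≠ 0 := by
      rintro rfl
      rw [map_zero] at hz
      exact not_lt_zero hz
    have h5 : P.1 z⁻¹ ≤ 1 := by
      rw [map_inv₀]
      exact inv_le_one_of_one_le₀ hz.le
    have h6 := hzero z⁻¹ h5
    rw [Derivation.leibniz_inv] at h6
    rcases smul_eq_zero.1 h6 with h7 | h7
    · exfalso
      have h8 : z⁻¹ ^ 2 = 0 := neg_eq_zero.1 h7
      exact inv_ne_zero hz0 ((pow_eq_zero_iff (two_ne_zero)).1 h8)
    · exact h7

theorem hasseD_one_uniformizer_ne_zero (hK : IsFunctionField k K) {s : K}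
    {H : K →ₐ[k] PowerSeries K} (hH : LocRes.IsHasseFamily s H) (P : Place k K) {t : K}
    (ht : P.1 t = exp (-1 : ℤ)) : LocRes.hasseD H 1 t ≠ 0 := by
  intro h0
  have h1 := derivation_eq_zero_of_uniformizer hK (hasseDer hH) P ht h0
  have h2 := hasseDer_self hH
  rw [h1] at h2
  exact zero_ne_one h2

end Bound

section Exists

/-- A total Hasse derivative with respect to `t`, when `dt/ds ≠ 0`. -/
theorem exists_hasseFamily {s : K} {H : K →ₐ[k] PowerSeries K}
    (hH : LocRes.IsHasseFamily s H) {t : K} (hb : LocRes.hasseD H 1 t ≠ 0) :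
    ∃ Ht : K →ₐ[k] PowerSeries K, LocRes.IsHasseFamily t Ht := by
  obtain ⟨g, hgdef⟩ : ∃ g : PowerSeries K, g = H t - PowerSeries.C t := ⟨_, rfl⟩
  have hg : PowerSeries.constantCoeff g = 0 := by
    rw [hgdef, map_sub, hH.2, PowerSeries.constantCoeff_C, sub_self]
  have hg1 : PowerSeries.coeff 1 g = LocRes.hasseD H 1 t := by
    rw [hgdef, map_sub, PowerSeries.coeff_C, if_neg one_ne_zero, sub_zero, LocRes.hasseD_apply]
  have hunit : IsUnit (PowerSeries.coeff 1 g) := by
    rw [hg1]
    exact isUnit_iff_ne_zero.2 hb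
  have hh : PowerSeries.constantCoeff (g.substInvOfIsUnit hunit) = 0 :=
    PowerSeries.constantCoeff_substInvOfIsUnit g hunit
  refine ⟨substHom (g.substInvOfIsUnit hunit) hh H, ?_, ?_⟩
  · rw [substHom_apply]
    have h1 : H t = PowerSeries.C t + g := by
      rw [hgdef]
      ring
    rw [h1, PowerSeries.subst_add (PowerSeries.HasSubst.of_constantCoeff_zero' hh),
      PowerSeries.subst_C, PowerSeries.subst_substInvOfIsUnit_right g hg hunit]
    rfl
  · intro y
    have h2 := hasseD_substHom (g.substInvOfIsUnit hunit) hh H 0 y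
    rw [LocRes.hasseD_apply, PowerSeries.coeff_zero_eq_constantCoeff_apply] at h2
    rw [h2, zero_add, Finset.sum_range_one, pow_zero, hasseD_zero_apply hH,
      PowerSeries.coeff_zero_eq_constantCoeff_apply, map_one, mul_one]

end Exists

section FixedVal

variable [IsAlgClosed k]

theorem evalP_map_eq_of_isFixedPt (hK : IsFunctionField k K) {τ : K →ₐ[k] K} {P : Place k K}
    (hP : IsFixedPt τ P) {f : K} (hf : P.1 f ≤ 1) : evalP P (τ f) = evalP P f := by
  obtain ⟨c, hc⟩ := exists_sub_algebraMap_lt_one hK P hf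
  have h1 : P.1 (τ f) ≤ 1 := val_map_le_one_of_isFixedPt hK hP hf
  have h2 : P.1 (τ f - f) < 1 := by
    have h3 : τ f - f = τ (f - algebraMap k K c) - (f - algebraMap k K c) := by
      rw [map_sub, τ.commutes]
      ring
    rw [h3]
    exact lt_of_le_of_lt (P.1.map_sub _ _) (max_lt (hP _ hc) hc)
  have h3 := evalP_sub P h1 hf
  rw [(evalP_eq_zero_iff P (h2.le)).2 h2] at h3
  exact sub_eq_zero.1 h3.symm

end FixedVal

end FunFld
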