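import Mathlib
import Groth.Agent.Lib.FunFldHasseH_helper2

/-! Function fields, Hasse part I (helper2): existence and bounds of the orders at a place,
normalization of a tuple at a place, determinants of binomial matrices. -/

open Module

namespace FunFld

open WithZero

variable {k K : Type*} [Field k] [Field K] [Algebra k K]

section Normalize

/-- Any linearly independent tuple can be normalized at a place by a scalar of `K`. -/
theorem exists_normalization (P : Place k K) {n : ℕ} (φ : Fin (n + 1) → K)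
    (hφ : LinearIndependent k φ) :
    ∃ y : K, y ≠ 0 ∧ LinearIndependent k (y • φ) ∧
      (1 : K) ∈ Submodule.span k (Set.range (y • φ)) ∧ ∀ i, P.1 ((y • φ) i) ≤ 1 := by
  classical
  obtain ⟨i₀, -, hi₀⟩ := Finset.exists_max_image Finset.univ (fun i => P.1 (φ i))
    Finset.univ_nonempty
  have hφi₀ : φ i₀ ≠ 0 := hφ.ne_zero i₀
  have hy0 : (φ i₀)⁻¹ ≠ 0 := inv_ne_zero hφi₀
  have hφ'i : ∀ i, ((φ i₀)⁻¹ • φ) i = (φ i₀)⁻¹ * φ i := fun i => rfl
  refine ⟨(φ i₀)⁻¹, hy0, ?_, ?_, ?_⟩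
  · rw [Fintype.linearIndependent_iff]
    intro c hc
    have h1 : ∑ i, c i • ((φ i₀)⁻¹ • φ) i = (φ i₀)⁻¹ * ∑ i, c i • φ i := by
      rw [Finset.mul_sum]
      apply Finset.sum_congr rfl
      intro i _
      rw [hφ'i, mul_smul_comm]
    rw [h1] at hc
    have h2 := (mul_eq_zero.1 hc).resolve_left hy0
    exact Fintype.linearIndependent_iff.1 hφ c h2
  · have h1 : ((φ i₀)⁻¹ • φ) i₀ = 1 := by rw [hφ'i]; exact inv_mul_cancel₀ hφi₀
    rw [← h1]
    exact Submodule.subset_span ⟨i₀, rfl⟩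
  · intro i
    rw [hφ'i, map_mul, map_inv₀]
    have hne : P.1 (φ i₀) ≠ 0 := (map_ne_zero P.1).2 hφi₀
    calc (P.1 (φ i₀))⁻¹ * P.1 (φ i) ≤ (P.1 (φ i₀))⁻¹ * P.1 (φ i₀) :=
          mul_le_mul' le_rfl (hi₀ i (Finset.mem_univ i))
      _ = 1 := inv_mul_cancel₀ hne

end Normalize

section OrdersAtExist

variable [IsAlgClosed k]

theorem exists_isOrders_hcolAt (hK : IsFunctionField k K) (P : Place k K) {t : K}
    (ht : P.1 t = exp (-1 : ℤ)) {H : K →ₐ[k] PowerSeries K} (hH : LocRes.IsHasseFamily t H)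
    {n : ℕ} (φ : Fin (n + 1) → K) (hφ : LinearIndependent k φ)
    (heff : (1 : K) ∈ Submodule.span k (Set.range φ)) (hnorm : ∀ i, P.1 (φ i) ≤ 1) :
    ∃ J' : Fin n → ℕ, IsOrders (IsLocalRing.ResidueField P.O) (hcolAt P H φ) J' := by
  classical
  apply exists_isOrders_of_span_eq_top (F := IsLocalRing.ResidueField P.O)
    (by rw [Module.finrank_fintype_fun_eq_card, Fintype.card_fin]) (hcolAt P H φ)
  · obtain ⟨i, hi⟩ := exists_val_eq_one_of_one_mem_span P φ hnorm heff
    intro h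
    have h1 : evalP P (φ i) = 0 := congrFun h i
    exact (evalP_ne_zero_iff P hi.le).2 hi h1
  · by_contra hne
    obtain ⟨f, hf0, hfmap⟩ :=
      Submodule.exists_dual_map_eq_bot_of_lt_top (lt_top_iff_ne_top.2 hne) inferInstance
    apply hf0
    have hfz : ∀ y ∈ Submodule.span (IsLocalRing.ResidueField P.O)
        (Set.range (hcolAt P H φ)), f y = 0 := fun y hy =>
      (Submodule.eq_bot_iff _).mp hfmap _ (Submodule.mem_map_of_mem hy)
    obtain ⟨w, hwdef⟩ : ∃ w : Fin (n + 1) → IsLocalRing.ResidueField P.O,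
        w = fun i => f (fun j => if i = j then 1 else 0) := ⟨_, rfl⟩
    have hfw : ∀ v : Fin (n + 1) → IsLocalRing.ResidueField P.O, f v = ∑ i, w i * v i := by
      intro v
      rw [LinearMap.pi_apply_eq_sum_univ f v, hwdef]
      apply Finset.sum_congr rfl
      intro i _
      rw [smul_eq_mul, mul_comm]
    have hw : w = 0 := by
      by_contra hw0
      choose a ha using fun i => resk_surjective P hK (w i)
      have ha0 : a ≠ 0 := by
        intro h
        apply hw0
        funext i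
        rw [← ha i, h]
        simp
      obtain ⟨g, hgdef⟩ : ∃ g : K, g = ∑ i, a i • φ i := ⟨_, rfl⟩
      have hg0 : g ≠ 0 := by
        intro h0
        rw [hgdef] at h0
        exact ha0 (funext (Fintype.linearIndependent_iff.1 hφ a h0))
      have hg1 : P.1 g ≤ 1 := by
        rw [hgdef]
        exact (evalP_hasseD_sum hK P ht hH φ hnorm a 0).1
      obtain ⟨m, -, -, hne'⟩ := exists_evalP_hasseD_ne_zero hK P ht hH hg1 hg0
      apply hne'
      rw [hgdef, (evalP_hasseD_sum hK P ht hH φ hnorm a m).2]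
      have h1 := hfz (hcolAt P H φ (m + 1)) (Submodule.subset_span ⟨m + 1, rfl⟩)
      rw [hfw] at h1
      refine Eq.trans ?_ h1
      apply Finset.sum_congr rfl
      intro i _
      rw [ha i]
      rfl
    apply LinearMap.ext
    intro v
    rw [hfw v, hw]
    simp

theorem ord_le_deg_of_mem_L (hK : IsFunctionField k K) {D : Divisor k K} {f : K}
    (hf : f ∈ L D) (hf0 : f ≠ 0) (P : Place k K) : P.ord f + D P ≤ Divisor.deg D := by
  classical
  have h1 := (mem_L_iff_div hK hf0 D).1 hf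
  have h2 : Finsupp.single P ((div k f + D) P) ≤ div k f + D := by
    intro Q
    by_cases hQ : Q = P
    · rw [hQ, Finsupp.single_eq_same]
    · rw [single_apply_ne (Ne.symm hQ)]
      exact h1 Q
  have h3 := deg_mono h2
  rw [deg_single, Place.deg_eq_one hK P, deg_add, deg_div_eq_zero hK, Finsupp.add_apply,
    div_apply hK] at h3
  push_cast at h3
  linarith

omit [IsAlgClosed k] in
theorem mem_L_mapDiv_of_mem_span (hK : IsFunctionField k K) {ι : Type*} [Fintype ι] [Nonempty ι]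
    (φ : ι → K) (hφ0 : ∀ i, φ i ≠ 0) {f : K} (hf : f ∈ Submodule.span k (Set.range φ)) :
    f ∈ L (mapDiv k φ) := by
  rw [mem_L]
  intro Q
  rw [mapDiv_apply hK]
  apply val_le_of_mem_span Q (s := Set.range φ) ?_ hf
  rintro _ ⟨j, rfl⟩
  rw [Q.val_eq_exp_neg_ord (hφ0 j), exp_le_exp]
  have h2 : minOrd Q φ ≤ Q.ord (φ j) := Finset.inf'_le _ (Finset.mem_univ j)
  omega

theorem isOrders_at_le_deg (hK : IsFunctionField k K) (P : Place k K) {t : K}
    (ht : P.1 t = exp (-1 : ℤ)) {H : K →ₐ[k] PowerSeries K} (hH : LocRes.IsHasseFamily t H)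
    {n : ℕ} (φ : Fin (n + 1) → K) (hφ : LinearIndependent k φ)
    (heff : (1 : K) ∈ Submodule.span k (Set.range φ)) (hnorm : ∀ i, P.1 (φ i) ≤ 1)
    {J' : Fin n → ℕ} (hJ' : IsOrders (IsLocalRing.ResidueField P.O) (hcolAt P H φ) J')
    (l : Fin n) : (J' l : ℤ) ≤ Divisor.deg (mapDiv k φ) := by
  obtain ⟨f, hf, hfv⟩ :=
    exists_val_eq_of_isJump hK P ht hH φ hnorm ((hJ'.2 (J' l)).mp ⟨l, rfl⟩)
  have hf0 : f ≠ 0 := by
    rintro rfl
    rw [map_zero] at hfv
    exact exp_ne_zero hfv.symm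
  have h1 := ord_le_deg_of_mem_L hK
    (mem_L_mapDiv_of_mem_span hK φ (fun i => hφ.ne_zero i) hf) hf0 P
  rw [mapDiv_apply_eq_zero P φ hnorm (exists_val_eq_one_of_one_mem_span P φ hnorm heff),
    add_zero] at h1
  have h2 : P.ord f = J' l := by
    have h3 := P.val_eq_exp_neg_ord hf0
    rw [hfv] at h3
    have h4 := exp_injective h3
    omega
  omega

omit [IsAlgClosed k] in
theorem deg_mapDiv_smul (hK : IsFunctionField k K) {n : ℕ} (φ : Fin (n + 1) → K)
    (hφ : LinearIndependent k φ) {y : K} (hy : y ≠ 0) :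
    Divisor.deg (mapDiv k (y • φ)) = Divisor.deg (mapDiv k φ) := by
  have h : mapDiv k (y • φ) = mapDiv k φ - div k y := by
    ext P
    rw [Finsupp.sub_apply, div_apply hK]
    apply mapDiv_equiv hK P φ (y • φ) hφ 1 (by rw [Matrix.det_one]; exact one_ne_zero) hy
    intro i
    show y * φ i = y * ∑ j, (1 : Matrix (Fin (n + 1)) (Fin (n + 1)) k) i j • φ j
    congr 1
    simp [Matrix.one_apply]
  rw [h, deg_sub, deg_div_eq_zero hK, sub_zero]

end OrdersAtExist

section BinomDet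

theorem strictMono_add_le {n : ℕ} (J : Fin n → ℕ) (hJ : StrictMono J) (c : ℕ)
    (h0 : ∀ l, c ≤ J l) (l : Fin n) : (l : ℕ) + c ≤ J l := by
  obtain ⟨v, hv⟩ := l
  induction v with
  | zero =>
    have := h0 ⟨0, hv⟩
    show 0 + c ≤ _
    omega
  | succ v ih =>
    have h1 := ih (by omega)
    have h2 : J ⟨v, by omega⟩ < J ⟨v + 1, hv⟩ := hJ (by
      rw [Fin.lt_def]
      exact Nat.lt_succ_self v)
    show v + 1 + c ≤ J ⟨v + 1, hv⟩
    have h3 : v + c ≤ J ⟨v, by omega⟩ := h1
    omega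

theorem det_binomMat_id_ne_zero (F : Type*) [Field F] {N : ℕ} (J' : Fin N → ℕ)
    (hJ' : StrictMono J') (B : ℕ) (hcast : ∀ m : ℕ, 0 < m → m ≤ B → ((m : ℕ) : F) ≠ 0)
    (hJB : ∀ r, J' r ≤ B) :
    (binomMat F J' (fun s : Fin N => (s : ℕ))).det ≠ 0 := by
  have hsub : ∀ r r' : Fin N, r < r' → ((J' r : ℕ) : F) ≠ ((J' r' : ℕ) : F) := by
    intro r r' hlt h
    have h1 := hJ' hlt
    have h2 : ((J' r' - J' r : ℕ) : F) = 0 := by
      rw [Nat.cast_sub h1.le, h, sub_self]
    exact hcast _ (by omega) (by have := hJB r'; omega) h2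
  have hinj : Function.Injective (fun r => ((J' r : ℕ) : F)) := by
    intro r r' h
    by_contra hne
    rcases lt_or_gt_of_ne hne with hlt | hlt
    · exact hsub r r' hlt h
    · exact hsub r' r hlt h.symm
  have hv : (Matrix.vandermonde (fun r => ((J' r : ℕ) : F))).det ≠ 0 :=
    Matrix.det_vandermonde_ne_zero_iff.2 hinj
  rw [Matrix.det_eval_matrixOfPolynomials_eq_det_vandermonde _
    (fun s : Fin N => descPochhammer F (s : ℕ)) (fun s => descPochhammer_natDegree F s)
    (fun s => monic_descPochhammer F s)] at hv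
  have hmat : (Matrix.of fun r s : Fin N =>
      Polynomial.eval ((J' r : ℕ) : F) (descPochhammer F (s : ℕ))) =
      Matrix.of fun r s : Fin N => (((s : ℕ).factorial : ℕ) : F) *
        binomMat F J' (fun s : Fin N => (s : ℕ)) r s := by
    ext r s
    simp only [Matrix.of_apply]
    rw [descPochhammer_eval_eq_descFactorial, Nat.descFactorial_eq_factorial_mul_choose,
      Nat.cast_mul]
    rfl
  beta_reduce at hv
  rw [hmat, Matrix.det_mul_row] at hv
  exact right_ne_zero_of_mul hv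

theorem det_binomMat_succ_ne_zero (F : Type*) [Field F] {N : ℕ} (J' : Fin N → ℕ)
    (hJ' : StrictMono J') (hpos : ∀ r, 1 ≤ J' r) (B : ℕ)
    (hcast : ∀ m : ℕ, 0 < m → m ≤ B → ((m : ℕ) : F) ≠ 0) (hJB : ∀ r, J' r ≤ B) :
    (binomMat F J' (fun s : Fin N => (s : ℕ) + 1)).det ≠ 0 := by
  have hmono : StrictMono (fun r => J' r - 1) := by
    intro a b hab
    have h1 := hJ' hab
    have h2 := hpos a
    show J' a - 1 < J' b - 1
    omega
  have h0 := det_binomMat_id_ne_zero F (fun r => J' r - 1) hmono B hcast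
    (fun r => by have := hJB r; show J' r - 1 ≤ B; omega)
  have hmat : (Matrix.of fun r s : Fin N => ((((s : ℕ) + 1 : ℕ) : ℕ) : F) *
      binomMat F J' (fun s : Fin N => (s : ℕ) + 1) r s) =
      Matrix.of fun r s : Fin N => ((J' r : ℕ) : F) *
        binomMat F (fun r => J' r - 1) (fun s : Fin N => (s : ℕ)) r s := by
    ext r s
    simp only [Matrix.of_apply]
    show ((((s : ℕ) + 1 : ℕ) : ℕ) : F) * (((J' r).choose ((s : ℕ) + 1) : ℕ) : F) =
      ((J' r : ℕ) : F) * (((J' r - 1).choose (s : ℕ) : ℕ) : F)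
    obtain ⟨m, hm⟩ : ∃ m, J' r = m + 1 := ⟨J' r - 1, by have := hpos r; omega⟩
    rw [hm, Nat.add_sub_cancel, ← Nat.cast_mul, ← Nat.cast_mul, mul_comm,
      ← Nat.add_one_mul_choose_eq]
  have hdet := congrArg Matrix.det hmat
  rw [Matrix.det_mul_row, Matrix.det_mul_column] at hdet
  have hprod : (∏ r, ((J' r : ℕ) : F)) ≠ 0 :=
    Finset.prod_ne_zero_iff.2 (fun r _ => hcast _ (hpos r) (hJB r))
  have h3 : (∏ r, ((J' r : ℕ) : F)) *
      (binomMat F (fun r => J' r - 1) (fun s : Fin N => (s : ℕ))).det ≠ 0 :=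
    mul_ne_zero hprod h0
  rw [← hdet] at h3
  exact right_ne_zero_of_mul h3

end BinomDet

end FunFld
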