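import Mathlib
import Groth.Agent.Lib.FunFldHasseI_helper2

/-! Function fields, Hasse part J (helper2): divisors of differentials through a derivation,
transfer of identities of Kaehler differentials to Laurent expansions, the divisor of a tuple
containing `1` under a change of projective coordinates. -/

open Module

namespace FunFld

open WithZero

variable {k K : Type*} [Field k] [Field K] [Algebra k K]

section Kaehler

theorem exists_derivation_of_D_ne_zero {x : K} (hx : KaehlerDifferential.D k K x ≠ 0) :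
    ∃ D : Derivation k K K, D x = 1 := by
  have h1 : ¬ ∀ ℓ : Module.Dual K (Ω[K⁄k]), ℓ (KaehlerDifferential.D k K x) = 0 := by
    rw [Module.forall_dual_apply_eq_zero_iff K]
    exact hx
  push Not at h1
  obtain ⟨ℓ, hℓ⟩ := h1
  refine ⟨(ℓ (KaehlerDifferential.D k K x))⁻¹ • (ℓ.compDer (KaehlerDifferential.D k K)), ?_⟩
  show (ℓ (KaehlerDifferential.D k K x))⁻¹ • ℓ (KaehlerDifferential.D k K x) = 1
  rw [smul_eq_mul, inv_mul_cancel₀ hℓ]

theorem laurent_of_kaehler (Φ : K →ₐ[k] LaurentSeries k) {a b x x' : K}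
    (h : a • KaehlerDifferential.D k K x = b • KaehlerDifferential.D k K x') :
    Φ a * LocRes.D k (Φ x) = Φ b * LocRes.D k (Φ x') := by
  let _i := Φ.toRingHom.toAlgebra
  have _t : IsScalarTower k K (LaurentSeries k) := LocRes.isScalarTower_exp Φ
  have h1 := congrArg (LocRes.dExp Φ).liftKaehlerDifferential h
  simp only [map_smul, Derivation.liftKaehlerDifferential_comp_D] at h1
  exact h1

end Kaehler

section Val

theorem val_sum_algebraMap_mul_le (P : Place k K) {ι : Type*} [Fintype ι] (c : ι → k)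
    (χ : ι → K) {γ : ℤᵐ⁰} (h : ∀ j, P.1 (χ j) ≤ γ) :
    P.1 (∑ j, algebraMap k K (c j) * χ j) ≤ γ := by
  apply P.1.map_sum_le
  intro j _
  rw [map_mul]
  calc P.1 (algebraMap k K (c j)) * P.1 (χ j) ≤ 1 * P.1 (χ j) := mul_le_mul_left (P.2.1 _) _
    _ = P.1 (χ j) := one_mul _
    _ ≤ γ := h j

theorem inv_coord {ι : Type*} [Fintype ι] [DecidableEq ι] (A : Matrix ι ι k) (hA : A.det ≠ 0)
    (u φ : ι → K) (hu : ∀ i, ∑ j, algebraMap k K (A i j) * u j = φ i) (l : ι) :
    ∑ i, algebraMap k K (A⁻¹ l i) * φ i = u l := by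
  have hBA : A⁻¹ * A = 1 := Matrix.nonsing_inv_mul A (isUnit_iff_ne_zero.2 hA)
  calc ∑ i, algebraMap k K (A⁻¹ l i) * φ i
      = ∑ i, ∑ j, algebraMap k K (A⁻¹ l i * A i j) * u j := by
        apply Finset.sum_congr rfl
        intro i _
        rw [← hu i, Finset.mul_sum]
        apply Finset.sum_congr rfl
        intro j _
        rw [map_mul, mul_assoc]
    _ = ∑ j, ∑ i, algebraMap k K (A⁻¹ l i * A i j) * u j := Finset.sum_comm
    _ = ∑ j, algebraMap k K ((A⁻¹ * A) l j) * u j := by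
        apply Finset.sum_congr rfl
        intro j _
        rw [Matrix.mul_apply, map_sum, Finset.sum_mul]
    _ = u l := by
        rw [hBA]
        simp [Matrix.one_apply]

theorem le_minOrd_iff_of_one_mem {ι : Type*} [Fintype ι] [Nonempty ι] (P : Place k K)
    (φ : ι → K) (h1 : ∃ i, φ i = 1) (m : ℤ) :
    m ≤ minOrd P φ ↔ ∀ i, P.1 (φ i) ≤ exp (-m) := by
  unfold minOrd
  rw [Finset.le_inf'_iff]
  constructor
  · intro h i
    by_cases h0 : φ i = 0
    · rw [h0, map_zero]
      exact zero_le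
    · rw [P.val_le_exp_iff h0]
      have := h i (Finset.mem_univ i)
      omega
  · intro h i _
    by_cases h0 : φ i = 0
    · rw [h0, P.ord_zero]
      obtain ⟨j, hj⟩ := h1
      have := h j
      rw [hj, map_one, ← exp_zero, exp_le_exp] at this
      omega
    · have := (P.val_le_exp_iff h0 _).1 (h i)
      omega

/-- The least order of `(1, u₁/u₀, u₂/u₀)` where `(1, x, y) = A u`. -/
theorem minOrd_coord_change (P : Place k K) (x y : K) (A : Matrix (Fin 3) (Fin 3) k)
    (hA : A.det ≠ 0) (u : Fin 3 → K)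
    (hu : ∀ i, ∑ j, algebraMap k K (A i j) * u j = ![(1 : K), x, y] i) (hu0 : u 0 ≠ 0) :
    minOrd P ![(1 : K), u 1 / u 0, u 2 / u 0] = minOrd P ![(1 : K), x, y] - P.ord (u 0) := by
  have hv0 : P.1 (u 0) ≠ 0 := (P.1.ne_zero_iff).mpr hu0
  have hφ' : ∀ i, ![(1 : K), u 1 / u 0, u 2 / u 0] i = u i / u 0 := by
    intro i
    fin_cases i
    · show (1 : K) = u 0 / u 0
      rw [div_self hu0]
    · rfl
    · rfl
  have hinv := inv_coord A hA u ![(1 : K), x, y] hu
  have key : ∀ m : ℤ, m ≤ minOrd P ![(1 : K), u 1 / u 0, u 2 / u 0] ↔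
      m + P.ord (u 0) ≤ minOrd P ![(1 : K), x, y] := by
    intro m
    rw [le_minOrd_iff_of_one_mem P _ ⟨0, rfl⟩, le_minOrd_iff_of_one_mem P _ ⟨0, rfl⟩]
    have hexp : exp (-(m + P.ord (u 0))) = exp (-m) * P.1 (u 0) := by
      rw [P.val_eq_exp_neg_ord hu0, ← exp_add]
      congr 1
      ring
    rw [hexp]
    constructor
    · intro h i
      rw [← hu i]
      apply val_sum_algebraMap_mul_le
      intro j
      have := h j
      rw [hφ', map_div₀, div_le_iff₀ (zero_lt_iff.2 hv0)] at this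
      exact this
    · intro h i
      rw [hφ', map_div₀, div_le_iff₀ (zero_lt_iff.2 hv0), ← hinv i]
      apply val_sum_algebraMap_mul_le
      exact h
  apply le_antisymm
  · have := (key _).1 le_rfl
    omega
  · apply (key _).2
    omega

end Val

section Laurent

variable [IsAlgClosed k]

/-- The chain rule for a Laurent expansion, for a derivation with `D s = 1`:
`(Φ f)' = Φ (D f) · (Φ s)'`. -/
theorem laurent_chain_rule' (hK : IsFunctionField k K) (D : Derivation k K K) {s : K}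
    (hs : D s = 1) (Φ : K →ₐ[k] LaurentSeries k) (f : K) :
    LocRes.D k (Φ f) = Φ (D f) * LocRes.D k (Φ s) := by
  have h := eq_zero_of_derivation_like hK D hs
    (Φ : K →+* LaurentSeries k)
    (fun x => LocRes.D k (Φ x) - Φ (D x) * LocRes.D k (Φ s)) ?_ ?_ ?_ ?_ f
  · exact sub_eq_zero.1 h
  · intro x y
    show LocRes.D k (Φ (x + y)) - Φ (D (x + y)) * LocRes.D k (Φ s) =
      (LocRes.D k (Φ x) - Φ (D x) * LocRes.D k (Φ s)) +
        (LocRes.D k (Φ y) - Φ (D y) * LocRes.D k (Φ s))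
    rw [map_add, map_add, map_add, map_add]
    ring
  · intro c
    show LocRes.D k (Φ (algebraMap k K c)) -
      Φ (D (algebraMap k K c)) * LocRes.D k (Φ s) = 0
    have h2 : LocRes.D k (HahnSeries.C (algebraMap k k c) : LaurentSeries k) = 0 :=
      LocRes.derivative_C k _
    rw [LocRes.map_algebraMap, h2, Derivation.map_algebraMap, map_zero, zero_mul, sub_zero]
  · intro x y
    show LocRes.D k (Φ (x * y)) - Φ (D (x * y)) * LocRes.D k (Φ s) =
      Φ x * (LocRes.D k (Φ y) - Φ (D y) * LocRes.D k (Φ s)) +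
        Φ y * (LocRes.D k (Φ x) - Φ (D x) * LocRes.D k (Φ s))
    rw [map_mul, Derivation.leibniz, Derivation.leibniz D, smul_eq_mul, smul_eq_mul,
      smul_eq_mul, smul_eq_mul, map_add, map_mul, map_mul]
    ring
  · show LocRes.D k (Φ s) - Φ (D s) * LocRes.D k (Φ s) = 0
    rw [hs, map_one, one_mul, sub_self]

theorem D_expansion_ne_zero' (hK : IsFunctionField k K) (D : Derivation k K K) {s : K}
    (hs : D s = 1) (P : Place k K) (Φ : K →ₐ[k] LaurentSeries k)
    (hΦ : LocRes.IsExpansionAt P.1 Φ) : LocRes.D k (Φ s) ≠ 0 := by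
  obtain ⟨w, hw⟩ := P.exists_uniformizer
  intro h0
  have h1 := laurent_chain_rule' hK D hs Φ w
  rw [h0, mul_zero] at h1
  have h2 := val_D_of_val_eq (Φ w) (by rw [hΦ.1 w, hw])
  rw [h1, map_zero] at h2
  exact zero_ne_one h2

omit [IsAlgClosed k] in
theorem ordDiff_eq_ord_add (P : Place k K) (Φ : K →ₐ[k] LaurentSeries k)
    (hΦ : LocRes.IsExpansionAt P.1 Φ) {u s : K} (hu : u ≠ 0) (hs : LocRes.D k (Φ s) ≠ 0) :
    LocRes.ordDiff Φ u s = P.ord u + LocRes.ordDiff Φ 1 s := by
  unfold LocRes.ordDiff LocRes.vDiff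
  rw [map_one, one_mul, map_mul, hΦ.1,
    log_mul ((map_ne_zero P.1).2 hu) ((map_ne_zero _).2 hs)]
  unfold Place.ord
  ring

theorem finite_support_ordDiff (hK : IsFunctionField k K) (D : Derivation k K K) {s : K}
    (hs : D s = 1) (Φ : Place k K → (K →ₐ[k] LaurentSeries k))
    (hΦ : ∀ P : Place k K, LocRes.IsExpansionAt P.1 (Φ P)) (u : K) (hu : u ≠ 0) :
    (Function.support fun P : Place k K => LocRes.ordDiff (Φ P) u s).Finite := by
  classical
  obtain ⟨Z, hZ, hgood⟩ := exists_finite_bad hK D hs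
  apply (hZ.union (finite_support_ord hK u)).subset
  intro Q hQ
  by_contra hQZ
  rw [Set.mem_union, not_or] at hQZ
  obtain ⟨hQZ1, hQZ2⟩ := hQZ
  obtain ⟨-, c, hc⟩ := hgood Q hQZ1
  apply hQ
  show LocRes.ordDiff (Φ Q) u s = 0
  rw [ordDiff_eq_ord_add Q (Φ Q) (hΦ Q) hu (D_expansion_ne_zero' hK D hs Q (Φ Q) (hΦ Q))]
  have h0 : Q.ord u = 0 := by
    rwa [Function.mem_support, not_not] at hQZ2
  have h2 : LocRes.D k (HahnSeries.C (algebraMap k k c) : LaurentSeries k) = 0 :=
    LocRes.derivative_C k _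
  have h1 : LocRes.D k (Φ Q s) = LocRes.D k (Φ Q (s - algebraMap k K c)) := by
    rw [map_sub, map_sub, LocRes.map_algebraMap, h2, sub_zero]
  rw [h0, zero_add]
  unfold LocRes.ordDiff LocRes.vDiff
  rw [map_one, one_mul, h1, val_D_of_val_eq _ (by rw [(hΦ Q).1, hc]), log_one, neg_zero]

theorem divDiff_apply (hK : IsFunctionField k K) (D : Derivation k K K) {s : K}
    (hs : D s = 1) (Φ : Place k K → (K →ₐ[k] LaurentSeries k))
    (hΦ : ∀ P : Place k K, LocRes.IsExpansionAt P.1 (Φ P)) (u : K) (hu : u ≠ 0)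
    (P : Place k K) : divDiff Φ u s P = LocRes.ordDiff (Φ P) u s := by
  unfold divDiff
  rw [dif_pos (finite_support_ordDiff hK D hs Φ hΦ u hu)]
  rfl

end Laurent

end FunFld
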