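import Mathlib
import Groth.Agent.Lib.FunFldHasseJ_helper2

/-! Geometric function fields (helper2), part A: separating variables and Kaehler differentials.
`dim_K Ω[K/k] = 1`; `dx ≠ 0` iff `x` is a separating variable. -/

open Module

namespace FunFld

universe u v

section Geom

variable {k : Type u} {K : Type v} [Field k] [Field K] [Algebra k K]

open TensorProduct in
theorem linearIndepOn_pow_aux (k' : Type*) [Field k'] [Algebra k k'] (hT : IsField (k' ⊗[k] K))
    (p : ℕ) (hp : p.Prime) [CharP k p] (s : Finset K)
    (hs : LinearIndepOn k _root_.id (s : Set K)) (c : K → k) (b' : K → k')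
    (hb' : ∀ a ∈ s, (b' a) ^ p = algebraMap k k' (c a)) (hc : ∑ a ∈ s, c a • a ^ p = 0) :
    ∀ a ∈ s, c a = 0 := by
  classical
  haveI : Fact p.Prime := ⟨hp⟩
  haveI : Nontrivial (k' ⊗[k] K) := hT.nontrivial
  haveI : IsDomain (k' ⊗[k] K) := hT.isDomain
  haveI : CharP (k' ⊗[k] K) p :=
    charP_of_injective_algebraMap (algebraMap k (k' ⊗[k] K)).injective p
  haveI : ExpChar (k' ⊗[k] K) p := ExpChar.prime hp
  have hz : (∑ a ∈ s, (b' a) ⊗ₜ[k] a) ^ p = (0 : k' ⊗[k] K) := by
    rw [sum_pow_char p]
    have h1 : ∀ a ∈ s, ((b' a) ⊗ₜ[k] a) ^ p = (1 : k') ⊗ₜ[k] (c a • a ^ p) := by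
      intro a ha
      rw [Algebra.TensorProduct.tmul_pow, hb' a ha, Algebra.algebraMap_eq_smul_one,
        TensorProduct.smul_tmul]
    rw [Finset.sum_congr rfl h1, ← TensorProduct.tmul_sum, hc, TensorProduct.tmul_zero]
  have hz0 : (∑ a ∈ s, (b' a) ⊗ₜ[k] a) = (0 : k' ⊗[k] K) := by
    rwa [pow_eq_zero_iff hp.ne_zero] at hz
  have hli : LinearIndepOn k' (fun a : K => (1 : k') ⊗ₜ[k] a) (s : Set K) :=
    Module.Flat.linearIndependent_one_tmul (S := k') hs
  rw [linearIndepOn_finset_iff] at hli
  intro a₀ ha₀
  have h0 := hli b' (by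
    rw [← hz0]
    apply Finset.sum_congr rfl
    intro a _
    rw [TensorProduct.smul_tmul', smul_eq_mul, mul_one]) a₀ ha₀
  have h3 := hb' a₀ ha₀
  rw [h0, zero_pow hp.ne_zero] at h3
  exact (map_eq_zero (algebraMap k k')).1 h3.symm

/-- In a geometric extension, `p`-th powers of linearly independent elements stay linearly
independent. -/
theorem linearIndepOn_pow_of_isGeometric (hg : IsGeometric k K) (p : ℕ) (hp : p.Prime)
    [CharP k p] (s : Finset K) (hs : LinearIndepOn k _root_.id (s : Set K)) :
    LinearIndepOn k (· ^ p) (s : Set K) := by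
  classical
  rw [linearIndepOn_finset_iff]
  intro c hc
  have hroot : ∀ a : K, ∃ z : AlgebraicClosure k,
      z ^ p = algebraMap k (AlgebraicClosure k) (c a) :=
    fun a => IsAlgClosed.exists_pow_nat_eq _ hp.pos
  choose b hb using hroot
  obtain ⟨k', hk'⟩ : ∃ k' : IntermediateField k (AlgebraicClosure k), k' = IntermediateField.adjoin k
      ((s.image b : Finset (AlgebraicClosure k)) : Set (AlgebraicClosure k)) := ⟨_, rfl⟩
  haveI : FiniteDimensional k k' := by
    rw [hk']
    exact IntermediateField.finiteDimensional_adjoin (fun x _ => Algebra.IsIntegral.isIntegral x)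
  have hT : IsField (TensorProduct k k' K) := hg k' inferInstance
  have hmem : ∀ a ∈ s, b a ∈ k' := fun a ha => by
    rw [hk']
    exact IntermediateField.subset_adjoin k _ (by
      rw [Finset.mem_coe, Finset.mem_image]
      exact ⟨a, ha, rfl⟩)
  exact linearIndepOn_pow_aux k' hT p hp s hs c
    (fun a => if h : a ∈ s then ⟨b a, hmem a h⟩ else 0) (by
      intro a ha
      apply Subtype.ext
      simp only [dif_pos ha]
      exact hb a) hc

theorem essFiniteType_of_isFunctionField (hK : IsFunctionField k K) :
    Algebra.EssFiniteType k K := by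
  obtain ⟨⟨x, -, hfin⟩, -⟩ := hK
  haveI := hfin
  haveI : Algebra.EssFiniteType k (IntermediateField.adjoin k ({x} : Set K)) :=
    IntermediateField.essFiniteType_iff.2 ⟨{x}, by simp⟩
  exact Algebra.EssFiniteType.comp k (IntermediateField.adjoin k ({x} : Set K)) K

/-- A geometric function field of one variable has a separating variable. -/
theorem exists_separating (hK : IsFunctionField k K) (hg : IsGeometric k K) :
    ∃ t : K, Transcendental k t ∧
      Algebra.IsSeparable (IntermediateField.adjoin k ({t} : Set K)) K := by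
  classical
  haveI := essFiniteType_of_isFunctionField hK
  obtain ⟨s, hs, hsep⟩ : ∃ s : Finset K, IsTranscendenceBasis k ((↑) : s → K) ∧
      Algebra.IsSeparable (IntermediateField.adjoin k (s : Set K)) K := by
    obtain h0 | ⟨p, hp, hpk⟩ := CharP.exists' k
    · exact exists_isTranscendenceBasis_and_isSeparable_of_perfectField k K
    · haveI := hpk
      exact exists_isTranscendenceBasis_and_isSeparable_of_linearIndepOn_pow_of_essFiniteType
        p hp.out (fun s hs => linearIndepOn_pow_of_isGeometric hg p hp.out s hs)
  obtain ⟨⟨x, hx, hfin⟩, -⟩ := hK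
  haveI := hfin
  have hy : IsTranscendenceBasis k (fun _ : Unit => x) := by
    rw [isTranscendenceBasis_iff_algebraicIndependent_isAlgebraic]
    refine ⟨algebraicIndependent_unique_type_iff.2 hx, ?_⟩
    rw [← IntermediateField.isAlgebraic_adjoin_iff_top]
    have : Set.range (fun _ : Unit => x) = {x} := by
      ext z
      simp [eq_comm]
    rw [this]
    exact Algebra.IsAlgebraic.of_finite _ _
  have hcard := hs.lift_cardinalMk_eq hy
  have hcard' : s.card = 1 := by
    simpa using hcard
  obtain ⟨t, rfl⟩ := Finset.card_eq_one.1 hcard'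
  rw [Finset.coe_singleton] at hsep
  refine ⟨t, ?_, hsep⟩
  have := hs.1.transcendental ⟨t, Finset.mem_singleton_self t⟩
  exact this

end Geom

section Der

variable {k K : Type*} [Field k] [Field K] [Algebra k K]

/-- A `k`-derivation of `K` killing a separating variable is zero. -/
theorem derivation_eq_zero_of_separating {M : Type*} [AddCommGroup M] [Module k M] [Module K M]
    [IsScalarTower k K M] (t : K)
    [Algebra.IsSeparable (IntermediateField.adjoin k ({t} : Set K)) K]
    (δ : Derivation k K M) (ht : δ t = 0) : δ = 0 := by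
  have h1 : ∀ a ∈ Algebra.adjoin k ({t} : Set K), δ a = 0 := by
    intro a ha
    have := Derivation.eqOn_adjoin (D1 := δ) (D2 := 0) (s := ({t} : Set K)) (by
      intro z hz
      rw [Set.mem_singleton_iff] at hz
      rw [hz, ht]
      rfl) ha
    simpa using this
  have h2 : ∀ e ∈ IntermediateField.adjoin k ({t} : Set K), δ e = 0 := by
    intro e he
    obtain ⟨r, hr, s, hs, rfl⟩ := IntermediateField.mem_adjoin_iff_div.1 he
    rw [Derivation.leibniz_div, h1 r hr, h1 s hs, smul_zero, smul_zero, sub_zero, smul_zero]
  let δE : Derivation (IntermediateField.adjoin k ({t} : Set K)) K M :=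
    { toFun := fun x => δ x
      map_add' := fun x y => map_add δ x y
      map_smul' := fun e x => by
        show δ (e • x) = e • δ x
        have he : δ (algebraMap (IntermediateField.adjoin k ({t} : Set K)) K e) = 0 := h2 _ e.2
        rw [Algebra.smul_def, Derivation.leibniz, he, smul_zero, add_zero]
        rfl
      map_one_eq_zero' := δ.map_one_eq_zero
      leibniz' := fun x y => δ.leibniz x y }
  haveI : Algebra.FormallyUnramified (IntermediateField.adjoin k ({t} : Set K)) K :=
    Algebra.FormallyUnramified.of_isSeparable _ K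
  have h3 : δE = 0 := by
    have h4 : δE.liftKaehlerDifferential = 0 := Subsingleton.elim _ _
    have h5 := Derivation.liftKaehlerDifferential_comp δE
    rw [h4] at h5
    rw [← h5]
    ext x
    simp
  ext x
  have := congrArg (fun d : Derivation (IntermediateField.adjoin k ({t} : Set K)) K M => d x) h3
  exact this

/-- The differential of a separating variable spans the Kaehler differentials. -/
theorem span_D_eq_top_of_separating (t : K)
    [Algebra.IsSeparable (IntermediateField.adjoin k ({t} : Set K)) K] :
    Submodule.span K {KaehlerDifferential.D k K t} = ⊤ := by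
  set N := Submodule.span K {KaehlerDifferential.D k K t} with hN
  have h0 : (N.mkQ.compDer (KaehlerDifferential.D k K)) = 0 :=
    derivation_eq_zero_of_separating t _ (by
      show N.mkQ (KaehlerDifferential.D k K t) = 0
      rw [Submodule.mkQ_apply, Submodule.Quotient.mk_eq_zero]
      exact Submodule.subset_span rfl)
  rw [_root_.eq_top_iff, ← KaehlerDifferential.span_range_derivation k K, Submodule.span_le]
  rintro _ ⟨x, rfl⟩
  have := congrArg (fun d : Derivation k K (Ω[K⁄k] ⧸ N) => d x) h0
  have h1 : N.mkQ (KaehlerDifferential.D k K x) = 0 := this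
  rwa [Submodule.mkQ_apply, Submodule.Quotient.mk_eq_zero] at h1

theorem nontrivial_kaehler (hK : IsFunctionField k K) : Nontrivial (Ω[K⁄k]) := by
  by_contra hnt
  rw [not_nontrivial_iff_subsingleton] at hnt
  haveI := essFiniteType_of_isFunctionField hK
  haveI : Algebra.FormallyUnramified k K := ⟨hnt⟩
  haveI := Algebra.FormallyUnramified.isSeparable k K
  obtain ⟨⟨x, hx, -⟩, -⟩ := hK
  exact hx (Algebra.IsAlgebraic.isAlgebraic x)

theorem D_ne_zero_of_isSeparable (hK : IsFunctionField k K) (t : K)
    [Algebra.IsSeparable (IntermediateField.adjoin k ({t} : Set K)) K] :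
    KaehlerDifferential.D k K t ≠ 0 := by
  intro h0
  have h1 := span_D_eq_top_of_separating (k := k) t
  rw [h0, Submodule.span_singleton_eq_bot.2 rfl] at h1
  haveI := nontrivial_kaehler hK
  have : Subsingleton (Ω[K⁄k]) := by
    rw [← Submodule.subsingleton_iff K]
    exact subsingleton_of_bot_eq_top h1
  exact not_subsingleton _ this

end Der

section Dim

variable {k : Type u} {K : Type v} [Field k] [Field K] [Algebra k K]

/-- `dim_K Ω[K/k] = 1` for a geometric function field of one variable. -/
theorem finrank_kaehler_eq_one (hK : IsFunctionField k K) (hg : IsGeometric k K) :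
    Module.finrank K (Ω[K⁄k]) = 1 := by
  obtain ⟨t, -, hsep⟩ := exists_separating hK hg
  haveI := hsep
  rw [finrank_eq_one_iff_of_nonzero' _ (D_ne_zero_of_isSeparable hK t)]
  intro w
  have hw : w ∈ Submodule.span K {KaehlerDifferential.D k K t} := by
    rw [span_D_eq_top_of_separating t]
    trivial
  exact Submodule.mem_span_singleton.1 hw

/-- Every differential is a multiple of `dx` when `dx ≠ 0`. -/
theorem exists_smul_D_eq (hK : IsFunctionField k K) (hg : IsGeometric k K) {x : K}
    (hx : KaehlerDifferential.D k K x ≠ 0) (w : Ω[K⁄k]) :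
    ∃ c : K, c • KaehlerDifferential.D k K x = w :=
  (finrank_eq_one_iff_of_nonzero' _ hx).1 (finrank_kaehler_eq_one hK hg) w

/-- `dx ≠ 0` implies that `x` is a separating variable. -/
theorem isSeparable_of_D_ne_zero (hK : IsFunctionField k K) (hg : IsGeometric k K) {x : K}
    (hx : KaehlerDifferential.D k K x ≠ 0) :
    Algebra.IsSeparable (IntermediateField.adjoin k ({x} : Set K)) K := by
  haveI := essFiniteType_of_isFunctionField hK
  haveI : Algebra.EssFiniteType (IntermediateField.adjoin k ({x} : Set K)) K :=
    Algebra.EssFiniteType.of_comp k _ K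
  haveI : Algebra.FormallyUnramified (IntermediateField.adjoin k ({x} : Set K)) K := by
    constructor
    have hsurj := KaehlerDifferential.map_surjective k (IntermediateField.adjoin k ({x} : Set K)) K
    refine ⟨fun a b => ?_⟩
    obtain ⟨a', rfl⟩ := hsurj a
    obtain ⟨b', rfl⟩ := hsurj b
    have hz : ∀ w : Ω[K⁄k], KaehlerDifferential.map k (IntermediateField.adjoin k ({x} : Set K))
        K K w = 0 := by
      intro w
      obtain ⟨c, rfl⟩ := exists_smul_D_eq hK hg hx w
      rw [map_smul, KaehlerDifferential.map_D]
      have : (algebraMap K K x) = algebraMap (IntermediateField.adjoin k ({x} : Set K)) K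
          ⟨x, IntermediateField.mem_adjoin_simple_self k x⟩ := rfl
      rw [this, Derivation.map_algebraMap, smul_zero]
    rw [hz, hz]
  exact Algebra.FormallyUnramified.isSeparable _ K

end Dim

end FunFld
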