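import Mathlib
import Groth.Agent.Lib.FunFldGeomA_helper2

/-! Geometric function fields (helper2), part B: the subfield `k K^p`. -/

open Module

namespace FunFld

universe u v

section Basic

variable {k K : Type*} [Field k] [Field K] [Algebra k K]

/-- A derivation killing a set kills the field generated by it. -/
theorem derivation_eq_zero_on_adjoin {M : Type*} [AddCommGroup M] [Module k M] [Module K M]
    [IsScalarTower k K M] (δ : Derivation k K M) (S : Set K) (hS : ∀ z ∈ S, δ z = 0) :
    ∀ e ∈ IntermediateField.adjoin k S, δ e = 0 := by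
  have h1 : ∀ a ∈ Algebra.adjoin k S, δ a = 0 := by
    intro a ha
    have := Derivation.eqOn_adjoin (D1 := δ) (D2 := 0) (s := S) (fun z hz => by
      rw [hS z hz]
      rfl) ha
    simpa using this
  intro e he
  obtain ⟨r, hr, s, hs, rfl⟩ := IntermediateField.mem_adjoin_iff_div.1 he
  rw [Derivation.leibniz_div, h1 r hr, h1 s hs, smul_zero, smul_zero, sub_zero, smul_zero]

variable (k K) in
/-- The subfield `k K^p`. -/
def kKp (p : ℕ) : IntermediateField k K :=
  IntermediateField.adjoin k (Set.range fun y : K => y ^ p)

theorem pow_mem_kKp (p : ℕ) (y : K) : y ^ p ∈ kKp k K p :=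
  IntermediateField.subset_adjoin k _ ⟨y, rfl⟩

theorem derivation_kKp {M : Type*} [AddCommGroup M] [Module k M] [Module K M]
    [IsScalarTower k K M] (p : ℕ) [CharP K p] (δ : Derivation k K M) :
    ∀ e ∈ kKp k K p, δ e = 0 := by
  apply derivation_eq_zero_on_adjoin
  rintro _ ⟨y, rfl⟩
  show δ (y ^ p) = 0
  rw [Derivation.leibniz_pow, ← Nat.cast_smul_eq_nsmul K, CharP.cast_eq_zero, zero_smul]

variable (p : ℕ) [hp : Fact p.Prime] [CharP K p]

theorem isPurelyInseparable_kKp : IsPurelyInseparable (kKp k K p) K := by
  haveI : ExpChar K p := ExpChar.prime hp.out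
  rw [isPurelyInseparable_iff_pow_mem _ p]
  intro x
  refine ⟨1, ⟨⟨x ^ p, pow_mem_kKp p x⟩, ?_⟩⟩
  rw [pow_one]
  rfl

/-- `K = (k K^p)(t)` for a separating variable `t`. -/
theorem adjoin_kKp_separating_eq_top (t : K)
    [Algebra.IsSeparable (IntermediateField.adjoin k ({t} : Set K)) K] :
    IntermediateField.adjoin (kKp k K p) ({t} : Set K) = ⊤ := by
  haveI : ExpChar K p := ExpChar.prime hp.out
  have hle : ∀ e ∈ IntermediateField.adjoin k ({t} : Set K),
      e ∈ IntermediateField.adjoin (kKp k K p) ({t} : Set K) := by
    intro e he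
    have h1 : IntermediateField.adjoin k ({t} : Set K) ≤
        (IntermediateField.adjoin (kKp k K p) ({t} : Set K)).restrictScalars k := by
      rw [IntermediateField.adjoin_le_iff]
      intro z hz
      rw [Set.mem_singleton_iff] at hz
      rw [hz]
      exact IntermediateField.mem_adjoin_simple_self (kKp k K p) t
    exact h1 he
  let ι : (IntermediateField.adjoin k ({t} : Set K)) →+*
      (IntermediateField.adjoin (kKp k K p) ({t} : Set K)) :=
    RingHom.codRestrict (algebraMap (IntermediateField.adjoin k ({t} : Set K)) K)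
      (IntermediateField.adjoin (kKp k K p) ({t} : Set K)) (fun e => hle _ e.2)
  letI : Algebra (IntermediateField.adjoin k ({t} : Set K))
      (IntermediateField.adjoin (kKp k K p) ({t} : Set K)) := ι.toAlgebra
  haveI : IsScalarTower (IntermediateField.adjoin k ({t} : Set K))
      (IntermediateField.adjoin (kKp k K p) ({t} : Set K)) K :=
    IsScalarTower.of_algebraMap_eq (fun x => rfl)
  rw [_root_.eq_top_iff]
  intro x _
  have hx : IsSeparable (IntermediateField.adjoin (kKp k K p) ({t} : Set K)) x :=
    (Algebra.IsSeparable.isSeparable (IntermediateField.adjoin k ({t} : Set K)) x).tower_top _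
  have h2 := IntermediateField.adjoin_simple_eq_adjoin_pow_expChar_of_isSeparable
    (IntermediateField.adjoin (kKp k K p) ({t} : Set K)) K hx p
  have h3 : x ^ p ∈ IntermediateField.adjoin (kKp k K p) ({t} : Set K) :=
    (IntermediateField.adjoin (kKp k K p) ({t} : Set K)).algebraMap_mem ⟨x ^ p, pow_mem_kKp p x⟩
  have h4 : IntermediateField.adjoin (IntermediateField.adjoin (kKp k K p) ({t} : Set K))
      ({x ^ p} : Set K) = ⊥ := by
    rw [IntermediateField.adjoin_simple_eq_bot_iff, IntermediateField.mem_bot]
    exact ⟨⟨x ^ p, h3⟩, rfl⟩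
  have h5 : x ∈ IntermediateField.adjoin (IntermediateField.adjoin (kKp k K p) ({t} : Set K))
      ({x} : Set K) := IntermediateField.mem_adjoin_simple_self _ x
  rw [h2, h4, IntermediateField.mem_bot] at h5
  obtain ⟨m, rfl⟩ := h5
  exact m.2

end Basic

section Main

variable {k : Type u} {K : Type v} [Field k] [Field K] [Algebra k K]
variable (p : ℕ) [hp : Fact p.Prime] [CharP K p]

/-- `[K : k K^p] = p` for a geometric function field of characteristic `p`. -/
theorem finrank_kKp (hK : IsFunctionField k K) (hg : IsGeometric k K) :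
    Module.finrank (kKp k K p) K = p := by
  haveI : ExpChar K p := ExpChar.prime hp.out
  obtain ⟨t, -, hsep⟩ := exists_separating hK hg
  haveI := hsep
  have htop := adjoin_kKp_separating_eq_top (k := k) p t
  haveI : IsPurelyInseparable (kKp k K p) K := isPurelyInseparable_kKp p
  have htL : t ∉ kKp k K p := fun h =>
    D_ne_zero_of_isSeparable hK t (derivation_kKp p _ t h)
  have hint : IsIntegral (kKp k K p) t := IsPurelyInseparable.isIntegral' (kKp k K p) t
  have h1 := IntermediateField.adjoin.finrank hint
  rw [htop, IntermediateField.finrank_top'] at h1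
  rw [h1, IsPurelyInseparable.minpoly_natDegree_eq' (kKp k K p) p t]
  have hle : p ^ IsPurelyInseparable.elemExponent (kKp k K p) t ≤ p := by
    rw [← IsPurelyInseparable.minpoly_natDegree_eq' (kKp k K p) p t]
    have hdvd : minpoly (kKp k K p) t ∣
        (Polynomial.X ^ p - Polynomial.C (⟨t ^ p, pow_mem_kKp p t⟩ : kKp k K p)) :=
      minpoly.dvd (kKp k K p) t (by
        rw [map_sub, map_pow, Polynomial.aeval_X, Polynomial.aeval_C]
        exact sub_self _)
    have := Polynomial.natDegree_le_of_dvd hdvd (Polynomial.X_pow_sub_C_ne_zero hp.out.pos _)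
    rwa [Polynomial.natDegree_X_pow_sub_C] at this
  have hne : IsPurelyInseparable.elemExponent (kKp k K p) t ≠ 0 := by
    intro h0
    have h2 : (minpoly (kKp k K p) t).natDegree = 1 := by
      rw [IsPurelyInseparable.minpoly_natDegree_eq' (kKp k K p) p t, h0, pow_zero]
    rw [minpoly.natDegree_eq_one_iff] at h2
    obtain ⟨⟨z, hz⟩, rfl⟩ := h2
    exact htL hz
  have h1e : IsPurelyInseparable.elemExponent (kKp k K p) t = 1 := by
    by_contra hne1
    have h2 : 2 ≤ IsPurelyInseparable.elemExponent (kKp k K p) t := by omega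
    have h3 : p ^ 2 ≤ p ^ IsPurelyInseparable.elemExponent (kKp k K p) t :=
      Nat.pow_le_pow_right hp.out.pos h2
    have h4 : p < p ^ 2 := by nlinarith [hp.out.two_le]
    omega
  rw [h1e, pow_one]

/-- `x ∈ k K^p` iff `dx = 0`. -/
theorem mem_kKp_iff_D_eq_zero (hK : IsFunctionField k K) (hg : IsGeometric k K) (x : K) :
    x ∈ kKp k K p ↔ KaehlerDifferential.D k K x = 0 := by
  constructor
  · exact derivation_kKp p _ x
  · intro hx
    by_contra hxL
    have hfr := finrank_kKp p hK hg
    haveI : FiniteDimensional (kKp k K p) K :=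
      Module.finite_of_finrank_pos (by rw [hfr]; exact hp.out.pos)
    have hmul := Module.finrank_mul_finrank (kKp k K p)
      (IntermediateField.adjoin (kKp k K p) ({x} : Set K)) K
    rw [hfr] at hmul
    have hdvd : Module.finrank (kKp k K p)
        (IntermediateField.adjoin (kKp k K p) ({x} : Set K)) ∣ p := ⟨_, hmul.symm⟩
    have htop : IntermediateField.adjoin (kKp k K p) ({x} : Set K) = ⊤ := by
      rcases (Nat.dvd_prime hp.out).1 hdvd with h1 | h1
      · exfalso
        rw [IntermediateField.finrank_eq_one_iff, IntermediateField.adjoin_simple_eq_bot_iff,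
          IntermediateField.mem_bot] at h1
        obtain ⟨⟨z, hz⟩, rfl⟩ := h1
        exact hxL hz
      · apply IntermediateField.eq_of_le_of_finrank_eq le_top
        rw [h1, IntermediateField.finrank_top', hfr]
    obtain ⟨t, -, hsep⟩ := exists_separating hK hg
    haveI := hsep
    apply D_ne_zero_of_isSeparable hK t
    have ht : t ∈ (IntermediateField.adjoin (kKp k K p) ({x} : Set K)).restrictScalars k := by
      rw [IntermediateField.mem_restrictScalars, htop]
      trivial
    unfold kKp at ht
    rw [IntermediateField.adjoin_adjoin_left] at ht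
    apply derivation_eq_zero_on_adjoin _ _ _ t ht
    rintro z (⟨y, rfl⟩ | hz)
    · exact derivation_kKp p _ _ (pow_mem_kKp p y)
    · rw [Set.mem_singleton_iff] at hz
      rw [hz, hx]

/-- `x ∈ k K^p` iff `x` is not a separating variable. -/
theorem mem_kKp_iff_not_isSeparable (hK : IsFunctionField k K) (hg : IsGeometric k K) (x : K) :
    x ∈ kKp k K p ↔ ¬ Algebra.IsSeparable (IntermediateField.adjoin k ({x} : Set K)) K := by
  rw [mem_kKp_iff_D_eq_zero p hK hg]
  constructor
  · intro h0 hsep
    exact D_ne_zero_of_isSeparable hK x h0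
  · intro hns
    by_contra hne
    exact hns (isSeparable_of_D_ne_zero hK hg hne)

/-- The only subfield over which `K` is purely inseparable of degree `p` is `k K^p`. -/
theorem eq_kKp_iff (hK : IsFunctionField k K) (hg : IsGeometric k K)
    (K₀ : IntermediateField k K) :
    (IsPurelyInseparable K₀ K ∧ Module.finrank K₀ K = p) ↔ K₀ = kKp k K p := by
  haveI : ExpChar K p := ExpChar.prime hp.out
  constructor
  · rintro ⟨hpi, hfr⟩
    haveI := hpi
    haveI : FiniteDimensional K₀ K :=
      Module.finite_of_finrank_pos (by rw [hfr]; exact hp.out.pos)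
    have hle : kKp k K p ≤ K₀ := by
      unfold kKp
      rw [IntermediateField.adjoin_le_iff]
      rintro _ ⟨y, rfl⟩
      show y ^ p ∈ K₀
      have h1 := IsPurelyInseparable.algebraMap_elemReduct_eq' K₀ p y
      have h2 : p ^ IsPurelyInseparable.elemExponent K₀ y ≤ p := by
        rw [← IsPurelyInseparable.minpoly_natDegree_eq' K₀ p y, ← hfr]
        exact minpoly.natDegree_le y
      have h3 : IsPurelyInseparable.elemExponent K₀ y ≤ 1 := by
        by_contra hne1
        have h2' : 2 ≤ IsPurelyInseparable.elemExponent K₀ y := by omega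
        have h3' : p ^ 2 ≤ p ^ IsPurelyInseparable.elemExponent K₀ y :=
          Nat.pow_le_pow_right hp.out.pos h2'
        have h4 : p < p ^ 2 := by nlinarith [hp.out.two_le]
        omega
      interval_cases hE : IsPurelyInseparable.elemExponent K₀ y
      · rw [pow_zero, pow_one] at h1
        rw [← h1]
        exact _root_.pow_mem (IsPurelyInseparable.elemReduct K₀ y).2 p
      · rw [pow_one] at h1
        rw [← h1]
        exact (IsPurelyInseparable.elemReduct K₀ y).2
    have hfr' := finrank_kKp p hK hg
    haveI : FiniteDimensional (kKp k K p) K :=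
      Module.finite_of_finrank_pos (by rw [hfr']; exact hp.out.pos)
    exact (IntermediateField.eq_of_le_of_finrank_eq' hle (by rw [hfr', hfr])).symm
  · rintro rfl
    exact ⟨isPurelyInseparable_kKp p, finrank_kKp p hK hg⟩

end Main

end FunFld
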