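import Mathlib
import Groth.Agent.Lib.FunFldGeomB_helper2

/-! Geometric function fields (helper2), part C: perfect constant fields, intermediate fields. -/

open Module

namespace FunFld

universe u v

section Irr

variable {k K : Type*} [Field k] [Field K] [Algebra k K]

/-- A monic irreducible polynomial over `k` stays irreducible over `K` when `k` is algebraically
closed in `K`. -/
theorem irreducible_map_of_algClosedIn
    (hcl : ∀ y : K, IsAlgebraic k y → y ∈ Set.range (algebraMap k K))
    {f : Polynomial k} (hf : Irreducible f) (hm : f.Monic) :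
    Irreducible (f.map (algebraMap k K)) := by
  have hinj : Function.Injective (algebraMap k K) := (algebraMap k K).injective
  have hlift : ∀ g : Polynomial K, g.Monic → g ∣ f.map (algebraMap k K) →
      ∃ g₀ : Polynomial k, g₀.map (algebraMap k K) = g ∧ g₀.natDegree = g.natDegree ∧
        g₀.Monic := by
    intro g hg hd
    have h1 := integralClosure.mem_lifts_of_monic_of_dvd_map K hm hg hd
    rw [Polynomial.lifts_iff_coeff_lifts] at h1
    have h2 : g ∈ Polynomial.lifts (algebraMap k K) := by
      rw [Polynomial.lifts_iff_coeff_lifts]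
      intro n
      obtain ⟨⟨c, hc⟩, hc'⟩ := h1 n
      have hc'' : c = g.coeff n := hc'
      rw [← hc'']
      exact hcl c hc.isAlgebraic
    exact Polynomial.lifts_and_natDegree_eq_and_monic h2 hg
  rw [Polynomial.Monic.irreducible_iff_natDegree (hm.map _)]
  constructor
  · intro h1
    have h2 : f.natDegree = 0 := by
      rw [← Polynomial.natDegree_map (algebraMap k K), h1, Polynomial.natDegree_one]
    have h3 : f = 1 := by
      rw [Polynomial.eq_C_of_natDegree_eq_zero h2]
      have := hm.leadingCoeff
      rw [Polynomial.leadingCoeff, h2] at this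
      rw [this, Polynomial.C_1]
    exact hf.not_isUnit (h3 ▸ isUnit_one)
  · intro g h hg hh hgh
    obtain ⟨g₀, hg₀, hdg, hg₀m⟩ := hlift g hg ⟨h, hgh.symm⟩
    obtain ⟨h₀, hh₀, hdh, hh₀m⟩ := hlift h hh ⟨g, by rw [mul_comm]; exact hgh.symm⟩
    have hprod : g₀ * h₀ = f := by
      apply Polynomial.map_injective _ hinj
      rw [Polynomial.map_mul, hg₀, hh₀, hgh]
    rcases hf.isUnit_or_isUnit hprod.symm with hu | hu
    · left
      rw [← hdg]
      exact Polynomial.natDegree_eq_zero_of_isUnit hu
    · right
      rw [← hdh]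
      exact Polynomial.natDegree_eq_zero_of_isUnit hu

end Irr

section Perfect

variable {k : Type u} {K : Type v} [Field k] [Field K] [Algebra k K]

open TensorProduct in
/-- Over a perfect field every function field of one variable is geometric. -/
theorem isGeometric_of_perfectField [PerfectField k] (hK : IsFunctionField k K) :
    IsGeometric k K := by
  intro k' _ _ hfin
  haveI := hfin
  haveI : Algebra.IsAlgebraic k k' := Algebra.IsAlgebraic.of_finite k k'
  haveI : Algebra.IsSeparable k k' := Algebra.IsAlgebraic.isSeparable_of_perfectField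
  obtain ⟨pb, hpb⟩ : ∃ pb : PowerBasis k k', pb = Field.powerBasisOfFiniteOfSeparable k k' :=
    ⟨_, rfl⟩
  obtain ⟨fa, -⟩ : ∃ fa : k' →ₐ[k] AlgebraicClosure K, fa = IsAlgClosed.lift := ⟨_, rfl⟩
  obtain ⟨β, hβ⟩ : ∃ β : AlgebraicClosure K, β = fa pb.gen := ⟨_, rfl⟩
  have hirr : Irreducible ((minpoly k pb.gen).map (algebraMap k K)) :=
    irreducible_map_of_algClosedIn hK.2 (minpoly.irreducible pb.isIntegral_gen)
      (minpoly.monic pb.isIntegral_gen)
  have hroot : Polynomial.aeval β ((minpoly k pb.gen).map (algebraMap k K)) = 0 := by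
    rw [Polynomial.aeval_map_algebraMap, hβ, Polynomial.aeval_algHom_apply, minpoly.aeval,
      map_zero]
  have hmin : minpoly K β = (minpoly k pb.gen).map (algebraMap k K) :=
    (minpoly.eq_of_irreducible_of_monic hirr hroot ((minpoly.monic pb.isIntegral_gen).map _)).symm
  have hdeg : (minpoly K β).natDegree = pb.dim := by
    rw [hmin, Polynomial.natDegree_map, pb.natDegree_minpoly]
  have hLI : LinearIndependent K (fun i : Fin pb.dim => β ^ (i : ℕ)) := by
    have h1 := linearIndependent_pow (K := K) β
    have h2 := h1.comp (Fin.cast hdeg.symm) (Fin.cast_injective _)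
    exact h2
  have hLD : fa.fieldRange.LinearDisjoint K := by
    apply IntermediateField.LinearDisjoint.of_basis_left
      (pb.basis.map (AlgEquiv.ofInjectiveField fa).toLinearEquiv)
    convert hLI using 1
    funext i
    simp only [Function.comp_apply, Basis.map_apply, PowerBasis.basis_eq_pow]
    rw [hβ, ← map_pow]
    rfl
  haveI : Algebra.IsAlgebraic k fa.fieldRange :=
    ((AlgEquiv.ofInjectiveField fa).isAlgebraic_iff).1 inferInstance
  have hF : IsField (fa.fieldRange ⊗[k] K) :=
    hLD.isField_of_isAlgebraic (Or.inl inferInstance)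
  exact (Algebra.TensorProduct.congr (AlgEquiv.ofInjectiveField fa)
    (AlgEquiv.refl : K ≃ₐ[k] K)).toMulEquiv.isField hF

end Perfect

section Inter

variable {k : Type u} {K : Type v} [Field k] [Field K] [Algebra k K]

theorem isFunctionField_intermediateField (hK : IsFunctionField k K) (K₀ : IntermediateField k K)
    (h₀ : ∃ x ∈ K₀, Transcendental k x) : IsFunctionField k K₀ := by
  obtain ⟨x, hx, htr⟩ := h₀
  refine ⟨⟨⟨x, hx⟩, ?_, ?_⟩, ?_⟩
  · intro halg
    exact htr (halg.algebraMap (A := K))
  · haveI := finiteDimensional_of_transcendental hK htr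
    obtain ⟨L₀, hL₀⟩ : ∃ L₀ : IntermediateField k K₀,
        L₀ = IntermediateField.adjoin k ({(⟨x, hx⟩ : K₀)} : Set K₀) := ⟨_, rfl⟩
    rw [← hL₀]
    have hmap : L₀.map K₀.val = IntermediateField.adjoin k ({x} : Set K) := by
      rw [hL₀, IntermediateField.adjoin_map, Set.image_singleton]
      rfl
    let e₀ : L₀ ≃ₐ[k] IntermediateField.adjoin k ({x} : Set K) :=
      (IntermediateField.equivMap L₀ K₀.val).trans (IntermediateField.equivOfEq hmap)
    have he₀ : ∀ a : L₀, ((e₀ a : IntermediateField.adjoin k ({x} : Set K)) : K) =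
        ((a : K₀) : K) := fun a => rfl
    haveI : Module.Finite L₀ K := by
      refine Module.Finite.of_equiv_equiv (A₁ := IntermediateField.adjoin k ({x} : Set K))
        (B₁ := K) e₀.symm.toRingEquiv (RingEquiv.refl K) ?_
      apply RingHom.ext
      intro z
      obtain ⟨a, rfl⟩ := e₀.surjective z
      show algebraMap L₀ K (e₀.symm (e₀ a)) = ((e₀ a : IntermediateField.adjoin k ({x} : Set K)) : K)
      rw [e₀.symm_apply_apply, he₀]
      rfl
    exact Module.Finite.of_injective (IsScalarTower.toAlgHom L₀ K₀ K).toLinearMap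
      (algebraMap K₀ K).injective
  · intro y hy
    obtain ⟨c, hc⟩ := hK.2 (y : K) (hy.algebraMap (A := K))
    exact ⟨c, Subtype.ext hc⟩

open TensorProduct in
theorem isGeometric_intermediateField (hg : IsGeometric k K) (K₀ : IntermediateField k K) :
    IsGeometric k K₀ := by
  intro k' _ _ hfin
  haveI := hfin
  have hT : IsField (k' ⊗[k] K) := hg k' hfin
  haveI : IsDomain (k' ⊗[k] K) := hT.isDomain
  have hinj : Function.Injective (Algebra.TensorProduct.map (AlgHom.id k k') K₀.val) := by
    have := Module.Flat.lTensor_preserves_injective_linearMap (M := k') K₀.val.toLinearMap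
      K₀.val.injective
    exact this
  haveI : IsDomain (k' ⊗[k] K₀) :=
    hinj.isDomain (Algebra.TensorProduct.map (AlgHom.id k k') K₀.val).toRingHom
  haveI : Algebra.IsAlgebraic k k' := Algebra.IsAlgebraic.of_finite k k'
  exact Algebra.TensorProduct.isField_of_isAlgebraic k k' K₀ (Or.inl inferInstance)

end Inter

end FunFld
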