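import Mathlib
import Groth.Agent.Lib.FunFldGeomC_helper2

/-! `F₀ ⊗ K` is a field for `K/K₀` algebraic, `K₀` perfect and algebraically closed in `F₀`
(helper2). -/

open TensorProduct Module

namespace FunFld

universe u v

section

variable {k : Type u} {K : Type v} [Field k] [Field K] [Algebra k K]

/-- Finite case (copy of the proof of `isGeometric_of_perfectField`, using only that `k` is
algebraically closed in `K`). -/
theorem isField_tensor_of_algClosedIn [PerfectField k]
    (hcl : ∀ y : K, IsAlgebraic k y → y ∈ Set.range (algebraMap k K))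
    (k' : Type u) [Field k'] [Algebra k k'] [FiniteDimensional k k'] :
    IsField (k' ⊗[k] K) := by
  haveI : Algebra.IsAlgebraic k k' := Algebra.IsAlgebraic.of_finite k k'
  haveI : Algebra.IsSeparable k k' := Algebra.IsAlgebraic.isSeparable_of_perfectField
  obtain ⟨pb, hpb⟩ : ∃ pb : PowerBasis k k', pb = Field.powerBasisOfFiniteOfSeparable k k' :=
    ⟨_, rfl⟩
  obtain ⟨fa, -⟩ : ∃ fa : k' →ₐ[k] AlgebraicClosure K, fa = IsAlgClosed.lift := ⟨_, rfl⟩
  obtain ⟨β, hβ⟩ : ∃ β : AlgebraicClosure K, β = fa pb.gen := ⟨_, rfl⟩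
  have hirr : Irreducible ((minpoly k pb.gen).map (algebraMap k K)) :=
    irreducible_map_of_algClosedIn hcl (minpoly.irreducible pb.isIntegral_gen)
      (minpoly.monic pb.isIntegral_gen)
  have hroot : Polynomial.aeval β ((minpoly k pb.gen).map (algebraMap k K)) = 0 := by
    rw [Polynomial.aeval_map_algebraMap, hβ, Polynomial.aeval_algHom_apply, minpoly.aeval,
      map_zero]
  have hmin : minpoly K β = (minpoly k pb.gen).map (algebraMap k K) :=
    (minpoly.eq_of_irreducible_of_monic hirr hroot ((minpoly.monic pb.isIntegral_gen).map _)).symm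
  have hdeg : (minpoly K β).natDegree = pb.dim := by
    rw [hmin, Polynomial.natDegree_map, pb.natDegree_minpoly]
  have hLI : LinearIndependent K (fun i : Fin pb.dim => β ^ (i : ℕ)) := by
    have h1 := linearIndependent_pow (K := K) β
    have h2 := h1.comp (Fin.cast hdeg.symm) (Fin.cast_injective _)
    exact h2
  have hLD : fa.fieldRange.LinearDisjoint K := by
    apply IntermediateField.LinearDisjoint.of_basis_left
      (pb.basis.map (AlgEquiv.ofInjectiveField fa).toLinearEquiv)
    convert hLI using 1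
    funext i
    simp only [Function.comp_apply, Basis.map_apply, PowerBasis.basis_eq_pow]
    rw [hβ, ← map_pow]
    rfl
  haveI : Algebra.IsAlgebraic k fa.fieldRange :=
    ((AlgEquiv.ofInjectiveField fa).isAlgebraic_iff).1 inferInstance
  have hF : IsField (fa.fieldRange ⊗[k] K) :=
    hLD.isField_of_isAlgebraic (Or.inl inferInstance)
  exact (Algebra.TensorProduct.congr (AlgEquiv.ofInjectiveField fa)
    (AlgEquiv.refl : K ≃ₐ[k] K)).toMulEquiv.isField hF

end

section General

variable (K₀ F₀ K : Type u) [Field K₀] [Field F₀] [Algebra K₀ F₀] [Field K] [Algebra K₀ K]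

/-- The comparison map `F₀ ⊗ K₁ → F₀ ⊗ K` for an intermediate field `K₁`. -/
noncomputable def jmap (K₁ : IntermediateField K₀ K) : F₀ ⊗[K₀] K₁ →ₐ[K₀] F₀ ⊗[K₀] K :=
  Algebra.TensorProduct.map (AlgHom.id K₀ F₀) K₁.val

theorem jmap_injective (K₁ : IntermediateField K₀ K) : Function.Injective (jmap K₀ F₀ K K₁) := by
  have h1 : Function.Injective (K₁.val.toLinearMap.lTensor F₀) :=
    Module.Flat.lTensor_preserves_injective_linearMap _ K₁.val.injective
  intro a b hab
  apply h1
  have e : ∀ t, K₁.val.toLinearMap.lTensor F₀ t = jmap K₀ F₀ K K₁ t := by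
    intro t
    induction t using TensorProduct.induction_on with
    | zero => simp
    | tmul f y => rfl
    | add a b ha hb => rw [map_add, map_add, ha, hb]
  rw [e, e, hab]

theorem exists_jmap_eq [Algebra.IsAlgebraic K₀ K] (t : F₀ ⊗[K₀] K) :
    ∃ (K₁ : IntermediateField K₀ K) (_ : FiniteDimensional K₀ K₁) (t₁ : F₀ ⊗[K₀] K₁),
      jmap K₀ F₀ K K₁ t₁ = t := by
  induction t using TensorProduct.induction_on with
  | zero =>
    exact ⟨⊥, inferInstance, 0, map_zero _⟩
  | tmul f y =>
    refine ⟨IntermediateField.adjoin K₀ {y}, ?_, f ⊗ₜ ⟨y, IntermediateField.mem_adjoin_simple_self K₀ y⟩, rfl⟩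
    exact IntermediateField.adjoin.finiteDimensional (Algebra.IsIntegral.isIntegral y)
  | add a b ha hb =>
    obtain ⟨K₁, h₁, t₁, ht₁⟩ := ha
    obtain ⟨K₂, h₂, t₂, ht₂⟩ := hb
    haveI := h₁
    haveI := h₂
    refine ⟨K₁ ⊔ K₂, IntermediateField.finiteDimensional_sup K₁ K₂,
      Algebra.TensorProduct.map (AlgHom.id K₀ F₀) (IntermediateField.inclusion le_sup_left) t₁ +
      Algebra.TensorProduct.map (AlgHom.id K₀ F₀) (IntermediateField.inclusion le_sup_right) t₂, ?_⟩
    rw [map_add, ← ht₁, ← ht₂]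
    congr 1
    · have e : ∀ s : F₀ ⊗[K₀] K₁, jmap K₀ F₀ K (K₁ ⊔ K₂)
          (Algebra.TensorProduct.map (AlgHom.id K₀ F₀) (IntermediateField.inclusion le_sup_left) s) =
          jmap K₀ F₀ K K₁ s := by
        intro s
        induction s using TensorProduct.induction_on with
        | zero => simp
        | tmul f y => rfl
        | add a b ha hb => rw [map_add, map_add, ha, hb, map_add]
      exact e t₁
    · have e : ∀ s : F₀ ⊗[K₀] K₂, jmap K₀ F₀ K (K₁ ⊔ K₂)
          (Algebra.TensorProduct.map (AlgHom.id K₀ F₀) (IntermediateField.inclusion le_sup_right) s) =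
          jmap K₀ F₀ K K₂ s := by
        intro s
        induction s using TensorProduct.induction_on with
        | zero => simp
        | tmul f y => rfl
        | add a b ha hb => rw [map_add, map_add, ha, hb, map_add]
      exact e t₂

theorem isField_tensor_of_isAlgebraic [PerfectField K₀] [Algebra.IsAlgebraic K₀ K]
    (h : algebraicClosure K₀ F₀ = ⊥) : IsField (F₀ ⊗[K₀] K) := by
  have hcl : ∀ y : F₀, IsAlgebraic K₀ y → y ∈ Set.range (algebraMap K₀ F₀) := by
    intro y hy
    have h1 : y ∈ algebraicClosure K₀ F₀ := (mem_algebraicClosure_iff).mpr hy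
    rw [h] at h1
    exact IntermediateField.mem_bot.mp h1
  have hfin : ∀ (K₁ : IntermediateField K₀ K), FiniteDimensional K₀ K₁ → IsField (F₀ ⊗[K₀] K₁) := by
    intro K₁ hK₁
    haveI := hK₁
    have h1 := isField_tensor_of_algClosedIn hcl K₁
    exact (Algebra.TensorProduct.comm K₀ K₁ F₀).symm.toMulEquiv.isField h1
  refine ⟨⟨0, 1, ?_⟩, mul_comm, ?_⟩
  · intro h01
    have h2 := hfin ⊥ inferInstance
    haveI := h2.nontrivial
    have h3 : jmap K₀ F₀ K ⊥ 0 = jmap K₀ F₀ K ⊥ 1 := by
      rw [map_zero]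
      exact h01.trans ((jmap K₀ F₀ K ⊥).toRingHom.map_one).symm
    exact zero_ne_one (jmap_injective K₀ F₀ K ⊥ h3)
  · intro t ht
    obtain ⟨K₁, hK₁, t₁, rfl⟩ := exists_jmap_eq K₀ F₀ K t
    have ht₁ : t₁ ≠ 0 := by
      rintro rfl
      exact ht (map_zero _)
    obtain ⟨s, hs⟩ := (hfin K₁ hK₁).mul_inv_cancel ht₁
    exact ⟨jmap K₀ F₀ K K₁ s, by
      rw [← map_mul, hs]
      exact (jmap K₀ F₀ K K₁).toRingHom.map_one⟩

end General

end FunFld
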