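import Mathlib
import Groth.Agent.Lib.IndEtale1_helper3

/-!
# Algebras as filtered colimits of finitely presented algebras (helper7)
-/

set_option autoImplicit false
set_option maxSynthPendingDepth 3
universe u
open CategoryTheory Limits

namespace Groth.Agent.Lib.AlgColimH7

section FT

variable {R : Type u} [CommRing R] {P A : Type u} [CommRing P] [Algebra R P] [CommRing A]
  [Algebra R A] (f : P →ₐ[R] A)

/-- index: f.g. ideals inside the kernel -/
abbrev Idx : Type u := {J : Ideal P // J.FG ∧ J ≤ RingHom.ker f}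

instance : Nonempty (Idx f) := ⟨⟨⊥, Submodule.fg_bot, bot_le⟩⟩

instance : IsDirected (Idx f) (· ≤ ·) :=
  ⟨fun J K => ⟨⟨J.1 ⊔ K.1, Submodule.FG.sup J.2.1 K.2.1, sup_le J.2.2 K.2.2⟩,
    (show J.1 ≤ J.1 ⊔ K.1 from le_sup_left), (show K.1 ≤ J.1 ⊔ K.1 from le_sup_right)⟩⟩

/-- the diagram of quotients -/
noncomputable def D : Idx f ⥤ Under (CommRingCat.of R) where
  obj J := Under.mk (CommRingCat.ofHom (algebraMap R (P ⧸ J.1)))
  map {J K} h := Under.homMk (CommRingCat.ofHom (Ideal.Quotient.factor (leOfHom h))) (by
    apply CommRingCat.hom_ext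
    apply RingHom.ext
    intro r
    rfl)
  map_id J := by
    apply Under.UnderMorphism.ext
    apply CommRingCat.hom_ext
    apply RingHom.ext
    intro x
    obtain ⟨x, rfl⟩ := Ideal.Quotient.mk_surjective x
    rfl
  map_comp h k := by
    apply Under.UnderMorphism.ext
    apply CommRingCat.hom_ext
    apply RingHom.ext
    intro x
    obtain ⟨x, rfl⟩ := Ideal.Quotient.mk_surjective x
    rfl

/-- the cocone with vertex `A` -/
noncomputable def cocone : Cocone (D f) where
  pt := Under.mk (CommRingCat.ofHom (algebraMap R A))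
  ι :=
    { app := fun J => Under.homMk (CommRingCat.ofHom
        (Ideal.Quotient.lift J.1 f.toRingHom (fun x hx => J.2.2 hx))) (by
          apply CommRingCat.hom_ext
          apply RingHom.ext
          intro r
          exact f.commutes r)
      naturality := fun J K h => by
        apply Under.UnderMorphism.ext
        apply CommRingCat.hom_ext
        apply RingHom.ext
        intro x
        obtain ⟨x, rfl⟩ := Ideal.Quotient.mk_surjective x
        rfl }

theorem cocone_ι_mk (J : Idx f) (x : P) :
    ((cocone f).ι.app J).right.hom (Ideal.Quotient.mk J.1 x) = f x := rfl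

theorem D_map_mk {J K : Idx f} (h : J ⟶ K) (x : P) :
    ((D f).map h).right.hom (Ideal.Quotient.mk J.1 x) = Ideal.Quotient.mk K.1 x := rfl

/-- the cocone is colimiting when `f` is surjective -/
noncomputable def isColimit (hf : Function.Surjective f) : IsColimit (cocone f) := by
  refine Groth.Agent.Lib.IndEtaleH3.isColimitOfSurjInj (D f) (cocone f) ?_ ?_
  · intro x
    obtain ⟨p, rfl⟩ := hf x
    exact ⟨⟨⊥, Submodule.fg_bot, bot_le⟩, Ideal.Quotient.mk _ p, rfl⟩
  · intro J y hy
    obtain ⟨p, rfl⟩ := Ideal.Quotient.mk_surjective y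
    rw [cocone_ι_mk] at hy
    let K : Idx f := ⟨J.1 ⊔ Ideal.span {p}, Submodule.FG.sup J.2.1 (Submodule.fg_span_singleton p),
      sup_le J.2.2 ((Ideal.span_singleton_le_iff_mem _).mpr hy)⟩
    have hJK : J ≤ K := show J.1 ≤ J.1 ⊔ Ideal.span {p} from le_sup_left
    refine ⟨K, homOfLE hJK, ?_⟩
    rw [D_map_mk]
    exact Ideal.Quotient.eq_zero_iff_mem.mpr
      (Ideal.mem_sup_right (Ideal.mem_span_singleton_self p))

theorem D_fp [Algebra.FinitePresentation R P] (J : Idx f) :
    ((D f).obj J).hom.hom.FinitePresentation := by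
  have : Algebra.FinitePresentation R (P ⧸ J.1) := Algebra.FinitePresentation.quotient J.2.1
  exact RingHom.finitePresentation_algebraMap.mpr this

theorem D_map_surjective {J K : Idx f} (h : J ⟶ K) :
    Function.Surjective ((D f).map h).right.hom :=
  Ideal.Quotient.factor_surjective (leOfHom h)

end FT

end Groth.Agent.Lib.AlgColimH7
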