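import Mathlib
import Groth.Prelude.Def_FEt
import Groth.Agent.Lib.GeomConnFin_helper4

open AlgebraicGeometry CategoryTheory CategoryTheory.Limits

universe u

namespace Groth.Agent.Lib.ProdConnH4

/-- A geometrically connected closed morphism onto a connected scheme has connected source. -/
theorem connectedSpace_of_isClosedMap {X S : Scheme.{u}} (f : X ⟶ S) [GeometricallyConnected f]
    [ConnectedSpace S] (hf : IsClosedMap f) : ConnectedSpace X := by
  have h := Topology.IsCoinducing.isConnected_preimage_of_isClosed
    f.isConnected_preimage_singleton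
    (hf.isQuotientMap f.continuous f.surjective).isCoinducing isClosed_univ isConnected_univ
  rw [Set.preimage_univ] at h
  exact connectedSpace_iff_univ.mpr h

/-- A connected scheme over a separably closed field is geometrically connected. -/
theorem geomConn_of_sepClosed (k : Type u) [Field k] [IsSepClosed k] {X : Scheme.{u}}
    (f : X ⟶ Spec (CommRingCat.of k)) [ConnectedSpace X] : GeometricallyConnected f := by
  refine GeomConnFinH4.main2523 f (fun K _ _ _ _ => ?_)
  have hbij : Function.Bijective (algebraMap k K) :=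
    ⟨(algebraMap k K).injective, IsSepClosed.algebraMap_surjective k K⟩
  haveI : IsIso (CommRingCat.ofHom (algebraMap k K)) :=
    (ConcreteCategory.isIso_iff_bijective _).mpr hbij
  haveI : IsIso (Spec.map (CommRingCat.ofHom (algebraMap k K))) := inferInstance
  haveI : IsIso (pullback.fst f (Spec.map (CommRingCat.ofHom (algebraMap k K)))) := inferInstance
  exact Function.Surjective.connectedSpace
    (pullback.fst f (Spec.map (CommRingCat.ofHom (algebraMap k K)))).homeomorph.symm.surjective
    (pullback.fst f (Spec.map (CommRingCat.ofHom (algebraMap k K)))).homeomorph.symm.continuous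

theorem main3682 (k : Type u) [Field k] [IsAlgClosed k] {X Y : Scheme.{u}}
    (pX : X ⟶ Spec (CommRingCat.of k)) (pY : Y ⟶ Spec (CommRingCat.of k)) [IsProper pX]
    (X' : FEt.Cat X) [ConnectedSpace X'.left] (Y' : FEt.Cat Y) [ConnectedSpace Y'.left] :
    ConnectedSpace ↥(pullback (X'.hom ≫ pX) (Y'.hom ≫ pY)) := by
  haveI hX : ConnectedSpace ↥((𝟭 Scheme).obj X'.left) := ‹ConnectedSpace ↥X'.left›
  haveI hY : ConnectedSpace ↥((𝟭 Scheme).obj Y'.left) := ‹ConnectedSpace ↥Y'.left›
  haveI : IsFinite X'.hom := X'.prop.1
  haveI : IsProper (X'.hom ≫ pX) := inferInstance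
  haveI : GeometricallyConnected (X'.hom ≫ pX) := geomConn_of_sepClosed k (X'.hom ≫ pX)
  haveI : GeometricallyConnected (pullback.snd (X'.hom ≫ pX) (Y'.hom ≫ pY)) := inferInstance
  haveI : IsProper (pullback.snd (X'.hom ≫ pX) (Y'.hom ≫ pY)) :=
    MorphismProperty.pullback_snd (P := @IsProper) _ _ inferInstance
  exact connectedSpace_of_isClosedMap (pullback.snd (X'.hom ≫ pX) (Y'.hom ≫ pY))
    (pullback.snd (X'.hom ≫ pX) (Y'.hom ≫ pY)).isClosedMap

end Groth.Agent.Lib.ProdConnH4
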