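import Mathlib
import Groth.Prelude
import Groth.Agent.Lib.ProdConn_helper4
import Groth.Agent.Lib.PullTens1_helper9
import Groth.Agent.Lib.Tens18_helper8
import Groth.Agent.Lib.Tens5_helper8
import Groth.Agent.Lib.Tens14_helper8
import Groth.Agent.Lib.TensInv2_helper9

/-!
# Algebraic equivalence to zero, part A: closure properties (helper9)
The invertible modules algebraically equivalent to zero (`Pic13.IsAlgEquivZero`) contain the
structure sheaf, are closed under isomorphism and (over an algebraically closed field) under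
tensor products (product of the parameter schemes).
APPEND-ONLY once landed.
-/

set_option autoImplicit false
universe u
open AlgebraicGeometry CategoryTheory CategoryTheory.Limits TopologicalSpace

namespace AlgEq

open Groth.Agent.TensInv CohB1

section Gen

variable {A B C : Scheme.{u}}

/-- pullback along a composite, given as a third morphism -/
noncomputable def pullCompIso (f : A ⟶ B) (g : B ⟶ C) (h : A ⟶ C) (e : f ≫ g = h)
    (M : C.Modules) :
    (Scheme.Modules.pullback f).obj ((Scheme.Modules.pullback g).obj M) ≅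
      (Scheme.Modules.pullback h).obj M :=
  (Scheme.Modules.pullbackComp f g).app M ≪≫ (Scheme.Modules.pullbackCongr e).app M

end Gen

variable (k : Type u) [Field k] (X : Scheme.{u}) [X.Over (Spec (CommRingCat.of k))]

/-- invariance under isomorphism -/
theorem of_iso {L L' : X.Modules} (e : L ≅ L') (h : Pic13.IsAlgEquivZero k X L) :
    Pic13.IsAlgEquivZero k X L' := by
  obtain ⟨T, q, hconn, hlft, hqc, M, hM, t, t₀, ht, ht₀, ⟨e₁⟩, ⟨e₀⟩⟩ := h
  exact ⟨T, q, hconn, hlft, hqc, M, hM, t, t₀, ht, ht₀, ⟨e₁ ≪≫ e⟩, ⟨e₀⟩⟩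

/-- the structure sheaf is algebraically equivalent to zero -/
theorem unit : Pic13.IsAlgEquivZero k X (Coh.structureModule X) := by
  refine ⟨Spec (CommRingCat.of k), 𝟙 _, ?_, inferInstance, inferInstance,
    Coh.structureModule _, TensH8.isInvertible_structureModule, 𝟙 _, 𝟙 _, Category.id_comp _,
    Category.id_comp _, ⟨PBH8.pullbackUnitIso _⟩, ⟨PBH8.pullbackUnitIso _⟩⟩
  exact inferInstanceAs (ConnectedSpace (PrimeSpectrum k))

section Tensor

variable {T₁ T₂ : Scheme.{u}} (q₁ : T₁ ⟶ Spec (CommRingCat.of k))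
  (q₂ : T₂ ⟶ Spec (CommRingCat.of k))

/-- the structure morphism of the product of the parameter schemes -/
noncomputable abbrev qq : pullback q₁ q₂ ⟶ Spec (CommRingCat.of k) := pullback.fst q₁ q₂ ≫ q₁

/-- the projection `X × (T₁ × T₂) ⟶ X × T₁` -/
noncomputable def π₁ : Pic13.prodK k X (qq k q₁ q₂) ⟶ Pic13.prodK k X q₁ :=
  pullback.map _ _ _ _ (𝟙 X) (pullback.fst q₁ q₂) (𝟙 _) (by simp) (by simp)

/-- the projection `X × (T₁ × T₂) ⟶ X × T₂` -/
noncomputable def π₂ : Pic13.prodK k X (qq k q₁ q₂) ⟶ Pic13.prodK k X q₂ :=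
  pullback.map _ _ _ _ (𝟙 X) (pullback.snd q₁ q₂) (𝟙 _) (by simp)
    (by simp [pullback.condition])

variable {q₁ q₂}
variable (t₁ : Spec (CommRingCat.of k) ⟶ T₁) (t₂ : Spec (CommRingCat.of k) ⟶ T₂)
  (ht₁ : t₁ ≫ q₁ = 𝟙 _) (ht₂ : t₂ ≫ q₂ = 𝟙 _)

/-- the product point -/
noncomputable def tt : Spec (CommRingCat.of k) ⟶ pullback q₁ q₂ :=
  pullback.lift t₁ t₂ (by rw [ht₁, ht₂])

theorem tt_comp : tt k t₁ t₂ ht₁ ht₂ ≫ qq k q₁ q₂ = 𝟙 _ := by
  unfold tt qq
  rw [pullback.lift_fst_assoc, ht₁]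

theorem slice_π₁ :
    Pic13.sliceAt k X (qq k q₁ q₂) (tt k t₁ t₂ ht₁ ht₂) (tt_comp k t₁ t₂ ht₁ ht₂) ≫ π₁ k X q₁ q₂ =
      Pic13.sliceAt k X q₁ t₁ ht₁ := by
  unfold Pic13.sliceAt π₁ tt pullback.map
  apply pullback.hom_ext
  · rw [Category.assoc, pullback.lift_fst, pullback.lift_fst_assoc, pullback.lift_fst,
      Category.comp_id]
  · rw [Category.assoc, pullback.lift_snd, pullback.lift_snd_assoc, pullback.lift_snd,
      Category.assoc, pullback.lift_fst]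

theorem slice_π₂ :
    Pic13.sliceAt k X (qq k q₁ q₂) (tt k t₁ t₂ ht₁ ht₂) (tt_comp k t₁ t₂ ht₁ ht₂) ≫ π₂ k X q₁ q₂ =
      Pic13.sliceAt k X q₂ t₂ ht₂ := by
  unfold Pic13.sliceAt π₂ tt pullback.map
  apply pullback.hom_ext
  · rw [Category.assoc, pullback.lift_fst, pullback.lift_fst_assoc, pullback.lift_fst,
      Category.comp_id]
  · rw [Category.assoc, pullback.lift_snd, pullback.lift_snd_assoc, pullback.lift_snd,
      Category.assoc, pullback.lift_snd]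

variable (q₁ q₂)

/-- the exterior tensor product of two families -/
noncomputable def boxMod (M₁ : (Pic13.prodK k X q₁).Modules) (M₂ : (Pic13.prodK k X q₂).Modules) :
    (Pic13.prodK k X (qq k q₁ q₂)).Modules :=
  tensorMod ((Scheme.Modules.pullback (π₁ k X q₁ q₂)).obj M₁)
    ((Scheme.Modules.pullback (π₂ k X q₁ q₂)).obj M₂)

variable {q₁ q₂}

theorem isInvertible_boxMod {M₁ : (Pic13.prodK k X q₁).Modules}
    {M₂ : (Pic13.prodK k X q₂).Modules} (h₁ : PicF.IsInvertible M₁) (h₂ : PicF.IsInvertible M₂) :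
    PicF.IsInvertible (boxMod k X q₁ q₂ M₁ M₂) :=
  TensH8.isInvertible_tensorMod (TensH8.isInvertible_pullback _ h₁)
    (TensH8.isInvertible_pullback _ h₂)

/-- the fibre of the exterior tensor product is the tensor product of the fibres -/
noncomputable def fibreBoxIso {M₁ : (Pic13.prodK k X q₁).Modules}
    {M₂ : (Pic13.prodK k X q₂).Modules} (h₁ : PicF.IsInvertible M₁) (h₂ : PicF.IsInvertible M₂) :
    Pic13.fibreMod k X (qq k q₁ q₂) (tt k t₁ t₂ ht₁ ht₂) (tt_comp k t₁ t₂ ht₁ ht₂)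
        (boxMod k X q₁ q₂ M₁ M₂) ≅
      tensorMod (Pic13.fibreMod k X q₁ t₁ ht₁ M₁) (Pic13.fibreMod k X q₂ t₂ ht₂ M₂) :=
  PullTensH9.pullTensIso _ (TensH8.isInvertible_pullback _ h₁)
      (TensH8.isInvertible_pullback _ h₂) ≪≫
    mapR (pullCompIso _ _ _ (slice_π₁ k X t₁ t₂ ht₁ ht₂) M₁) _ ≪≫
    mapL _ (pullCompIso _ _ _ (slice_π₂ k X t₁ t₂ ht₁ ht₂) M₂)

/-- **closure under tensor products** -/
theorem tensor [IsAlgClosed k] {L₁ L₂ : X.Modules} (h₁ : Pic13.IsAlgEquivZero k X L₁)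
    (h₂ : Pic13.IsAlgEquivZero k X L₂) : Pic13.IsAlgEquivZero k X (tensorMod L₁ L₂) := by
  obtain ⟨T₁, q₁, hc₁, hl₁, hqc₁, M₁, hM₁, t₁, s₁, ht₁, hs₁, ⟨e₁⟩, ⟨d₁⟩⟩ := h₁
  obtain ⟨T₂, q₂, hc₂, hl₂, hqc₂, M₂, hM₂, t₂, s₂, ht₂, hs₂, ⟨e₂⟩, ⟨d₂⟩⟩ := h₂
  haveI := hc₁
  haveI := hc₂
  haveI := hl₁
  haveI := hl₂
  haveI := hqc₁
  haveI := hqc₂
  haveI : GeometricallyConnected q₁ := Groth.Agent.Lib.ProdConnH4.geomConn_of_sepClosed k q₁
  haveI : IsLocallyNoetherian (Spec (CommRingCat.of k)) := inferInstance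
  haveI : LocallyOfFinitePresentation q₁ := by
    rw [HasRingHomProperty.iff_appLE (P := @LocallyOfFinitePresentation)]
    intro U V e
    have h1 := HasRingHomProperty.appLE (P := @LocallyOfFiniteType) q₁ inferInstance U V e
    haveI : IsNoetherianRing Γ(Spec (CommRingCat.of k), U.1) :=
      IsLocallyNoetherian.component_noetherian U
    exact RingHom.FinitePresentation.of_finiteType.1 h1
  haveI : Flat q₁ := inferInstance
  haveI : UniversallyOpen q₁ := UniversallyOpen.of_flat q₁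
  refine ⟨pullback q₁ q₂, qq k q₁ q₂, inferInstance, inferInstance, inferInstance,
    boxMod k X q₁ q₂ M₁ M₂, isInvertible_boxMod k X hM₁ hM₂,
    tt k t₁ t₂ ht₁ ht₂, tt k s₁ s₂ hs₁ hs₂, tt_comp k t₁ t₂ ht₁ ht₂, tt_comp k s₁ s₂ hs₁ hs₂,
    ⟨fibreBoxIso k X t₁ t₂ ht₁ ht₂ hM₁ hM₂ ≪≫ mapR e₁ _ ≪≫ mapL _ e₂⟩,
    ⟨fibreBoxIso k X s₁ s₂ hs₁ hs₂ hM₁ hM₂ ≪≫ mapR d₁ _ ≪≫ mapL _ d₂ ≪≫
      rightUnit _⟩⟩

end Tensor

end AlgEq
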