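import Mathlib
import Groth.Prelude
import Groth.Agent.Lib.CurveIdeal1_helper9

/-!
# `H¹(I_Z ⊗ L)` on an integral proper curve (helper9).  APPEND-ONLY once landed.
-/

set_option autoImplicit false
universe u
open CategoryTheory CategoryTheory.Limits AlgebraicGeometry Opposite TopologicalSpace

namespace CurveIdeal

open QcqsLoc QCohExtn GenLocH8 TensH8 FLFH8 CohB1 Groth.Agent.HHVan CurveAmple

section Main

variable (k : Type u) [Field k] (X : Scheme.{u}) [X.Over (Spec (CommRingCat.of k))]
  [IsIntegral X] [IsProper (X ↘ Spec (CommRingCat.of k))]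

/-- `χ(O) = χ(I) + deg Z` -/
theorem euler_structureModule_eq (Z : X.IdealSheafData)
    (hZ : topologicalKrullDim (Z.support : Set X) ≤ 0) :
    Curv2.euler k X (Coh.structureModule X) = Curv2.euler k X (ClSub.idealMod Z) +
      (Module.finrank k (Coh.HH X (ClSub.quotMod Z) 0) : ℤ) := by
  haveI : IsLocallyNoetherian X :=
    LocallyOfFiniteType.isLocallyNoetherian (X ↘ Spec (CommRingCat.of k))
  have h := EulerField.euler_additive k X _ (Groth.Agent.HypSurf.ses_shortExact Z)
    (isCoh_idealMod Z) (CohDevH8.isCoh_structureModule X) (isCoh_quotMod Z)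
  rw [← CurveDeg.euler_eq_finrank_of_closed_support k X _ (isCoh_quotMod Z)
    (isClosed_of_mem_support Z (Iso.refl _) hZ)]
  exact h

/-- `χ(L) = χ(I ⊗ L) + deg Z` -/
theorem euler_eq_add (Z : X.IdealSheafData)
    (hZ : topologicalKrullDim (Z.support : Set X) ≤ 0) {L : X.Modules}
    (hL : PicF.IsInvertible L) :
    Curv2.euler k X L = Curv2.euler k X (CohB1.tensorMod (ClSub.idealMod Z) L) +
      (Module.finrank k (Coh.HH X (ClSub.quotMod Z) 0) : ℤ) := by
  haveI : IsLocallyNoetherian X :=
    LocallyOfFiniteType.isLocallyNoetherian (X ↘ Spec (CommRingCat.of k))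
  have h1 := CurveTens.euler_tensor_sub k X (isCoh_idealMod Z) (CohDevH8.isCoh_structureModule X) hL
    (ClSub.idealModι Z) (isClosed_of_mem_support Z (cokernelIso Z).symm hZ)
  have h2 := euler_structureModule_eq k X Z hZ
  have h3 := CurveTens.euler_of_iso k X (Groth.Agent.CMMul.unitorL L)
  rw [h3] at h1
  linarith

/-- **statement of S1531** -/
theorem deg_le_of_nontrivial (hdim : topologicalKrullDim X = 1)
    (h0 : Module.finrank k (Coh.HH X (Coh.structureModule X) 0) = 1)
    {L : X.Modules} (hL : PicF.IsInvertible L) (Z : X.IdealSheafData)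
    (hZ : topologicalKrullDim (Z.support : Set X) ≤ 0)
    (h1 : Nontrivial (Coh.HH X (CohB1.tensorMod (ClSub.idealMod Z) L) 1)) :
    Curv2.deg k X L 1 ≤ 2 * (Curv2.genus k X : ℤ) - 2 +
      Module.finrank k (Coh.HH X (ClSub.quotMod Z) 0) := by
  haveI : IsLocallyNoetherian X :=
    LocallyOfFiniteType.isLocallyNoetherian (X ↘ Spec (CommRingCat.of k))
  have hOc := CohDevH8.isCoh_structureModule X
  have hLc := ProperFinH9.isCoh_of_isInvertible hL
  have hIc := isCoh_idealMod Z
  haveI := hOc.1
  haveI := hLc.1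
  haveI := hIc.1
  have hg : Curv2.genus k X = Module.finrank k (Coh.HH X (Coh.structureModule X) 1) := rfl
  by_cases hz : ClSub.toSubscheme Z = 0
  · -- `I ≅ O`
    have hS := Groth.Agent.HypSurf.ses_shortExact Z
    haveI : Epi (ClSub.toSubscheme Z) := Groth.Agent.HypSurf.epi_toSubscheme Z
    haveI : IsIso (ClSub.idealModι Z) :=
      hS.isIso_f_iff.mpr (IsZero.of_epi_eq_zero (ClSub.toSubscheme Z) hz : IsZero (ClSub.quotMod Z))
    let e : CohB1.tensorMod (ClSub.idealMod Z) L ≅ L :=
      (Groth.Agent.TensInv.tR L).mapIso (asIso (ClSub.idealModι Z)) ≪≫ Groth.Agent.CMMul.unitorL L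
    by_contra hlt
    rw [not_le] at hlt
    have h2 : Subsingleton (Coh.HH X L 1) := by
      apply HH1_subsingleton_of_deg_ge k X hdim.le hL
      have : (0 : ℤ) ≤ (Module.finrank k (Coh.HH X (ClSub.quotMod Z) 0) : ℤ) := Int.natCast_nonneg _
      omega
    exact not_subsingleton_iff_nontrivial.mpr h1 (subsingleton_of_iso e.symm 1 h2)
  · have hI0 := HH0_idealMod_subsingleton k Z h0 hz
    have e1 := finrank_HH0_le_of_nontrivial k X hdim.le hIc hL h1
    have e2 := CurveRR.euler_eq_sub k X hdim.le L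
    have e3 := CurveRR.euler_eq_sub k X hdim.le (Coh.structureModule X)
    have e4 := CurveRR.euler_eq_sub k X hdim.le (ClSub.idealMod Z)
    have e5 := euler_structureModule_eq k X Z hZ
    have e6 : Module.finrank k (Coh.HH X (ClSub.idealMod Z) 0) = 0 :=
      Module.finrank_zero_of_subsingleton
    unfold Curv2.deg
    rw [hg]
    push_cast
    rw [e6] at e4
    rw [h0] at e3
    push_cast at e4 e3
    omega

/-- **statement of S1532** -/
theorem genus_zero_of_deg_gt (hdim : topologicalKrullDim X = 1)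
    (h0 : Module.finrank k (Coh.HH X (Coh.structureModule X) 0) = 1)
    {L : X.Modules} (hL : PicF.IsInvertible L) (Z : X.IdealSheafData)
    (hZ : topologicalKrullDim (Z.support : Set X) ≤ 0)
    (hdeg : 2 * (Curv2.genus k X : ℤ) - 2 +
      Module.finrank k (Coh.HH X (ClSub.quotMod Z) 0) < Curv2.deg k X L 1) :
    Subsingleton (Coh.HH X (CohB1.tensorMod (ClSub.idealMod Z) L) 1) ∧
      (Subsingleton (Coh.HH X (CohB1.tensorMod (ClSub.idealMod Z) L) 0) →
        Curv2.genus k X = 0 ∧ Curv2.deg k X L 1 =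
          Module.finrank k (Coh.HH X (ClSub.quotMod Z) 0) - 1) := by
  haveI : IsLocallyNoetherian X :=
    LocallyOfFiniteType.isLocallyNoetherian (X ↘ Spec (CommRingCat.of k))
  have hOc := CohDevH8.isCoh_structureModule X
  have hIc := isCoh_idealMod Z
  have hTc := isCoh_tensorMod X hIc hL
  haveI := hOc.1
  haveI := hTc.1
  have hg : Curv2.genus k X = Module.finrank k (Coh.HH X (Coh.structureModule X) 1) := rfl
  have hsub : Subsingleton (Coh.HH X (CohB1.tensorMod (ClSub.idealMod Z) L) 1) := by
    by_contra hns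
    rw [not_subsingleton_iff_nontrivial] at hns
    have := deg_le_of_nontrivial k X hdim h0 hL Z hZ hns
    omega
  refine ⟨hsub, fun hsub0 => ?_⟩
  have e1 := euler_eq_add k X Z hZ hL
  have e2 := CurveRR.euler_eq_sub k X hdim.le (CohB1.tensorMod (ClSub.idealMod Z) L)
  have e3 := CurveRR.euler_eq_sub k X hdim.le (Coh.structureModule X)
  have e4 : Module.finrank k (Coh.HH X (CohB1.tensorMod (ClSub.idealMod Z) L) 0) = 0 :=
    Module.finrank_zero_of_subsingleton
  have e5 : Module.finrank k (Coh.HH X (CohB1.tensorMod (ClSub.idealMod Z) L) 1) = 0 :=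
    Module.finrank_zero_of_subsingleton
  rw [e4, e5] at e2
  rw [h0] at e3
  unfold Curv2.deg at hdeg ⊢
  rw [hg] at hdeg ⊢
  push_cast at hdeg e2 e3 ⊢
  constructor
  · omega
  · omega

end Main

end CurveIdeal
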