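import Mathlib
import Groth.Prelude
import Groth.Agent.Lib.CurveIdeal2_helper9
import Groth.Agent.Lib.CurveLin3_helper9

/-!
# Special subsheaves of invertible modules on an integral proper curve (helper9).
`h⁰(F) ≤ g` for a coherent subsheaf `F` of an invertible module with `H¹(F) ≠ 0`.
APPEND-ONLY once landed.
-/

set_option autoImplicit false
universe u
open CategoryTheory CategoryTheory.Limits AlgebraicGeometry Opposite TopologicalSpace

namespace CurveGG

open QcqsLoc QCohExtn GenLocH8 TensH8 FLFH8 CohB1 Groth.Agent.HHVan CurveAmple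

variable {X : Scheme.{u}}

/-- a nonzero section of an invertible module on an integral scheme generates it over some nonempty
affine open -/
theorem exists_affine_isGen_section [IsIntegral X] {A : X.Modules} (hA : PicF.IsInvertible A)
    (u : Coh.structureModule X ⟶ A) (hu : u ≠ 0) :
    ∃ V : X.Opens, IsAffineOpen V ∧ (V : Set X).Nonempty ∧
      IsGen A V (ap u V (toM (1 : Γ(X, V)))) := by
  obtain ⟨W, hW, hξW, e, he⟩ := exists_isGen hA (genericPoint X)
  obtain ⟨f, hf⟩ := he.exists_coef (ap u W (toM (1 : Γ(X, W))))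
  have hWne : (W : Set X).Nonempty := ⟨_, hξW⟩
  have hf0 : f ≠ 0 := by
    intro h
    apply hu
    refine CurveDeg.hom_eq_zero_of_ap_gen isInvertible_structureModule hA u hWne (isGen_one W) ?_
    rw [hf, h, zero_smul]
  haveI : Nonempty W := hWne.to_subtype
  have hVne : ((X.basicOpen f : X.Opens) : Set X).Nonempty := by
    rw [Set.nonempty_iff_ne_empty]
    intro h
    have h1 : X.basicOpen f = ⊥ := by
      ext y
      simp only [Opens.coe_bot]
      rw [h]
    rw [AlgebraicGeometry.basicOpen_eq_bot_iff] at h1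
    exact hf0 h1
  have hVW : X.basicOpen f ≤ W := X.basicOpen_le f
  have hunit : IsUnit (rX hVW f) := X.toRingedSpace.isUnit_res_basicOpen f
  have hone : ∀ {O O' : X.Opens} (h : O' ≤ O),
      rF (Coh.structureModule X) h (toM (1 : Γ(X, O))) = toM (1 : Γ(X, O')) :=
    fun h => map_one (rX h)
  refine ⟨X.basicOpen f, hW.basicOpen f, hVne, ?_⟩
  have h1 : ap u (X.basicOpen f) (toM (1 : Γ(X, X.basicOpen f))) =
      rX hVW f • rF A hVW e := by
    rw [← hone hVW, ap_rF, hf, rF_smul]
  rw [h1]
  exact isGen_smul_of_isUnit (he.res hVW) hunit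

/-- a nonzero section of a subsheaf of an invertible module on an integral scheme generates the
subsheaf over some nonempty affine open -/
theorem exists_affine_surjective [IsIntegral X] {F L : X.Modules} (hL : PicF.IsInvertible L)
    (φ : F ⟶ L) [Mono φ] (s : Coh.structureModule X ⟶ F) (hs : s ≠ 0) :
    ∃ V : X.Opens, IsAffineOpen V ∧ (V : Set X).Nonempty ∧ Function.Surjective (ap s V) := by
  have hsφ : s ≫ φ ≠ 0 := by
    intro h
    apply hs
    rw [← cancel_mono φ, h, zero_comp]
  obtain ⟨V, hV, hVne, hgen⟩ := exists_affine_isGen_section hL (s ≫ φ) hsφ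
  refine ⟨V, hV, hVne, fun t => ?_⟩
  obtain ⟨c, hc⟩ := hgen.exists_coef (ap φ V t)
  refine ⟨c • toM (1 : Γ(X, V)), ?_⟩
  apply QCohExact.app_injective_of_mono φ V
  show ap φ V (ap s V (c • toM (1 : Γ(X, V)))) = ap φ V t
  rw [hc, ap_smul, ap_smul]
  rfl

section Curve

variable (k : Type u) [Field k] (X : Scheme.{u}) [X.Over (Spec (CommRingCat.of k))]
  [IsIntegral X] [IsProper (X ↘ Spec (CommRingCat.of k))]

/-- a nonzero section of a coherent subsheaf of an invertible module is surjective on `H¹` -/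
theorem HH1_section_surjective (hdim : topologicalKrullDim X ≤ 1) {F L : X.Modules}
    (hF : Coh.IsCoh F) (hL : PicF.IsInvertible L) (φ : F ⟶ L) [Mono φ]
    (s : Coh.structureModule X ⟶ F) (hs : s ≠ 0) :
    Function.Surjective (Canon.HHlin k s 1) := by
  haveI : IsLocallyNoetherian X :=
    LocallyOfFiniteType.isLocallyNoetherian (X ↘ Spec (CommRingCat.of k))
  haveI : CompactSpace X :=
    QuasiCompact.compactSpace_of_compactSpace (X ↘ Spec (CommRingCat.of k))
  haveI : IsNoetherian X := {}
  have hOc := CohDevH8.isCoh_structureModule X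
  haveI := hF.1
  haveI := hOc.1
  obtain ⟨V, hVaff, hVne, hsurj⟩ := exists_affine_surjective hL φ s hs
  have hCc : Coh.IsCoh (cokernel s) := CohKerH8.isCoh_cokernel hOc hF _
  have hsupp := CohDevH8.support_cokernel_subset_compl hOc hF s hVaff hsurj
  have hC : Subsingleton (Coh.HH X (cokernel s) 1) :=
    ZeroDimAcyc.HH_subsingleton_of_zero_dim X _ hCc
      (fun x hx => CurveVan.isClosed_singleton_of_notMem_open hdim V hVne x (hsupp hx)) 1
      Nat.one_pos
  haveI : (kernel s).IsQuasicoherent := SubExt.isQuasicoherent_kernel s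
  have hK : Subsingleton (Coh.HH X (kernel s) (1 + 1)) :=
    CurveRR.HH_subsingleton k X hdim _ 2 (by norm_num)
  exact hmap_surjective_of_kernel_cokernel s 1 hK hC

/-- **special subsheaves**: a coherent subsheaf `F` of an invertible module with `H¹(F) ≠ 0`
has `h⁰(F) ≤ g` -/
theorem finrank_HH0_le_genus_of_special (hdim : topologicalKrullDim X ≤ 1) {F L : X.Modules}
    (hF : Coh.IsCoh F) (hL : PicF.IsInvertible L) (φ : F ⟶ L) [Mono φ]
    (hne : Nontrivial (Coh.HH X F 1)) :
    Module.finrank k (Coh.HH X F 0) ≤ Curv2.genus k X := by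
  haveI : IsLocallyNoetherian X :=
    LocallyOfFiniteType.isLocallyNoetherian (X ↘ Spec (CommRingCat.of k))
  have hOc := CohDevH8.isCoh_structureModule X
  haveI := ProperFinH9.finite_HH_of_proper k X F hF 1
  haveI := ProperFinH9.finite_HH_of_proper k X _ hOc 1
  obtain ⟨v, hv⟩ := exists_ne (0 : Coh.HH X F 1)
  obtain ⟨lam, hlam⟩ := Module.Projective.exists_dual_ne_zero k hv
  let Ψ₀ : (Coh.structureModule X ⟶ F) →ₗ[k]
      (Coh.HH X (Coh.structureModule X) 1 →ₗ[k] Coh.HH X F 1) :=
    { toFun := fun s => Canon.HHlin k s 1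
      map_add' := fun s s' => HHlin_add k s s' 1
      map_smul' := fun c s => HHlin_smul k c s 1 }
  let Ψ : (Coh.structureModule X ⟶ F) →ₗ[k] Module.Dual k (Coh.HH X (Coh.structureModule X) 1) :=
    (LinearMap.llcomp k _ _ _ lam) ∘ₗ Ψ₀
  have hΨ : ∀ s, Ψ s = lam ∘ₗ (Canon.HHlin k s 1) := fun s => rfl
  have hinj : Function.Injective Ψ := by
    rw [← LinearMap.ker_eq_bot, LinearMap.ker_eq_bot']
    intro s hs
    by_contra hs0
    obtain ⟨w, hw⟩ := HH1_section_surjective k X hdim hF hL φ s hs0 v
    apply hlam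
    have h1 := congrArg (fun ψ : Module.Dual k (Coh.HH X (Coh.structureModule X) 1) => ψ w) hs
    rw [hΨ] at h1
    have h2 : lam (Canon.HHlin k s 1 w) = 0 := h1
    rw [hw] at h2
    exact h2
  have h1 := LinearMap.finrank_le_finrank_of_injective hinj
  rw [Subspace.dual_finrank_eq] at h1
  rw [← (CurveIdeal.thetaEquiv k F).finrank_eq]
  exact h1

end Curve

end CurveGG
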