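import Mathlib
import Groth.Prelude
import Groth.Agent.Lib.CurveAmple5_helper9
import Groth.Agent.Lib.CurveDegAdd1_helper9

/-!
# Degrees of submodules of a coherent module on an integral proper curve are bounded (helper9).
APPEND-ONLY once landed.
-/

set_option autoImplicit false
universe u
open CategoryTheory CategoryTheory.Limits AlgebraicGeometry Opposite TopologicalSpace

namespace CurveSub

open QcqsLoc QCohExtn GenLocH8 TensH8 FLFH8 CohB1 Groth.Agent.HHVan CurveAmple

section Gen

variable {X : Scheme.{u}}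

/-- `H⁰` is left exact: a monomorphism is injective on `H⁰` -/
theorem hmap_injective_of_mono {F E : X.Modules} (i : F ⟶ E) [Mono i] :
    Function.Injective (hmap i 0) := by
  let S : ShortComplex X.Modules := ShortComplex.mk i (cokernel.π i) (cokernel.condition i)
  have hS : S.ShortExact :=
    ShortComplex.ShortExact.mk' (S.exact_of_g_is_cokernel (cokernelIsCokernel i))
      (inferInstanceAs (Mono i)) (inferInstanceAs (Epi (cokernel.π i)))
  have hT := SerreCrit.shortExact_toSheaf S hS
  haveI := hT.mono_f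
  exact Abelian.Ext.postcomp_mk₀_injective_of_mono _ (S.map (SerreCrit.TT X)).f

/-- the rank of a locally free submodule is at most the rank of the ambient module -/
theorem rank_le_of_mono [Nonempty X] {F E : X.Modules} (i : F ⟶ E) [Mono i] {r' r : ℕ}
    (hF : FlatMod.IsFinLocFreeOfRank r' F) (hE : FlatMod.IsFinLocFreeOfRank r E) : r' ≤ r := by
  obtain ⟨x⟩ := ‹Nonempty X›
  obtain ⟨f1, r1⟩ := FLFH8.free_stalk_of_finLocFreeOfRank F hF x
  obtain ⟨f2, r2⟩ := FLFH8.free_stalk_of_finLocFreeOfRank E hE x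
  have c2 := KerFreeH8.isCoh_of_finLocFree (FLFH8.IsFinLocFreeOfRank.isFinLocFree E hE)
  haveI := c2.1
  haveI := c2.2
  haveI := SuppStalkH8.finite_stalk E x
  have h := LinearMap.finrank_le_finrank_of_injective (f := Algz.stalkMapₗ i x)
    (DescH8.stk_injective_of_mono i x)
  omega

end Gen

section Main

variable (k : Type u) [Field k] (X : Scheme.{u}) [X.Over (Spec (CommRingCat.of k))]
  [IsIntegral X] [IsProper (X ↘ Spec (CommRingCat.of k))]

theorem finrank_HH0_le_of_mono {F E : X.Modules} (i : F ⟶ E) [Mono i] (hE : Coh.IsCoh E) :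
    Module.finrank k (Coh.HH X F 0) ≤ Module.finrank k (Coh.HH X E 0) := by
  haveI := ProperFinH9.finite_HH_of_proper k X E hE 0
  exact LinearMap.finrank_le_finrank_of_injective (f := Canon.HHlin k i 0)
    (hmap_injective_of_mono i)

/-- the degree of a submodule is bounded in terms of `h⁰` of the ambient module -/
theorem deg_le_of_mono (hdim : topologicalKrullDim X ≤ 1) {F E : X.Modules} (i : F ⟶ E) [Mono i]
    [F.IsQuasicoherent] (hE : Coh.IsCoh E) (n : ℕ) :
    Curv2.deg k X F n ≤ (Module.finrank k (Coh.HH X E 0) : ℤ) -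
      n * Curv2.euler k X (Coh.structureModule X) := by
  have h1 := finrank_HH0_le_of_mono k X i hE
  have h2 := CurveRR.euler_eq_sub k X hdim F
  unfold Curv2.deg
  have h3 : (0 : ℤ) ≤ (Module.finrank k (Coh.HH X F 1) : ℤ) := Int.natCast_nonneg _
  have h4 : (Module.finrank k (Coh.HH X F 0) : ℤ) ≤ (Module.finrank k (Coh.HH X E 0) : ℤ) := by
    exact_mod_cast h1
  linarith

/-- statement of S11826 (valid over any field) -/
theorem bddAbove_deg_invertible_sub (hdim : topologicalKrullDim X ≤ 1) {r : ℕ} {E : X.Modules}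
    (hE : FlatMod.IsFinLocFreeOfRank r E) :
    ∃ N : ℤ, ∀ (M : X.Modules) (i : M ⟶ E), Mono i → PicF.IsInvertible M →
      Curv2.deg k X M 1 ≤ N := by
  have hEc := KerFreeH8.isCoh_of_finLocFree (FLFH8.IsFinLocFreeOfRank.isFinLocFree E hE)
  refine ⟨(Module.finrank k (Coh.HH X E 0) : ℤ) -
    ((1 : ℕ) : ℤ) * Curv2.euler k X (Coh.structureModule X), fun M i hi hM => ?_⟩
  haveI := hi
  haveI := (ProperFinH9.isCoh_of_isInvertible hM).1
  exact deg_le_of_mono k X hdim i hEc 1

/-- statement of S15331 (valid over any field) -/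
theorem bddAbove_deg_locFree_sub (hdim : topologicalKrullDim X ≤ 1) {r : ℕ} {E : X.Modules}
    (hE : FlatMod.IsFinLocFreeOfRank r E) :
    ∃ N : ℤ, ∀ (F : X.Modules) (r' : ℕ) (i : F ⟶ E), Mono i →
      FlatMod.IsFinLocFreeOfRank r' F → Curv2.deg k X F r' ≤ N := by
  have hEc := KerFreeH8.isCoh_of_finLocFree (FLFH8.IsFinLocFreeOfRank.isFinLocFree E hE)
  refine ⟨(Module.finrank k (Coh.HH X E 0) : ℤ) +
    (r : ℤ) * |Curv2.euler k X (Coh.structureModule X)|, fun F r' i hi hF => ?_⟩
  haveI := hi
  haveI := (KerFreeH8.isCoh_of_finLocFree (FLFH8.IsFinLocFreeOfRank.isFinLocFree F hF)).1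
  have h1 := deg_le_of_mono k X hdim i hEc r'
  have h2 : r' ≤ r := rank_le_of_mono i hF hE
  have h3 : -((r' : ℤ) * Curv2.euler k X (Coh.structureModule X)) ≤
      (r : ℤ) * |Curv2.euler k X (Coh.structureModule X)| := by
    have h4 : -((r' : ℤ) * Curv2.euler k X (Coh.structureModule X)) ≤
        (r' : ℤ) * |Curv2.euler k X (Coh.structureModule X)| := by
      rw [← mul_neg]
      exact mul_le_mul_of_nonneg_left (neg_le_abs _) (Int.natCast_nonneg _)
    have h5 : (r' : ℤ) * |Curv2.euler k X (Coh.structureModule X)| ≤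
        (r : ℤ) * |Curv2.euler k X (Coh.structureModule X)| :=
      mul_le_mul_of_nonneg_right (by exact_mod_cast h2) (abs_nonneg _)
    exact h4.trans h5
  linarith

/-- statement of S18774 (valid over any field) -/
theorem deg_sub_le (hdim : topologicalKrullDim X ≤ 1) {E : X.Modules}
    (hE : FlatMod.IsFinLocFree E) {F : X.Modules} {r' : ℕ} (hr' : 0 < r')
    (hF : FlatMod.IsFinLocFreeOfRank r' F) (i : F ⟶ E) [Mono i] :
    Curv2.deg k X F r' ≤ (r' : ℤ) * ((Module.finrank k (Coh.HH X E 0) : ℤ) +
      (Curv2.genus k X : ℤ) - 1) := by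
  have hEc := KerFreeH8.isCoh_of_finLocFree hE
  haveI := (KerFreeH8.isCoh_of_finLocFree (FLFH8.IsFinLocFreeOfRank.isFinLocFree F hF)).1
  haveI := (CohDevH8.isCoh_structureModule X).1
  have h1 := deg_le_of_mono k X hdim i hEc r'
  have h2 := CurveRR.euler_eq_sub k X hdim (Coh.structureModule X)
  have h3 := one_le_finrank_HH0_structureModule k X
  have hg : Curv2.genus k X = Module.finrank k (Coh.HH X (Coh.structureModule X) 1) := rfl
  rw [hg]
  rw [h2] at h1
  have h4 : (1 : ℤ) ≤ (Module.finrank k (Coh.HH X (Coh.structureModule X) 0) : ℤ) := by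
    exact_mod_cast h3
  have h5 : (1 : ℤ) ≤ (r' : ℤ) := by exact_mod_cast hr'
  have h6 : (0 : ℤ) ≤ (Module.finrank k (Coh.HH X E 0) : ℤ) := Int.natCast_nonneg _
  nlinarith

/-- statement of S11823 (valid over any field) -/
theorem HH1_subsingleton_of_genus_lt (hdim : topologicalKrullDim X ≤ 1) {L : X.Modules}
    (hL : PicF.IsInvertible L)
    (h0 : Curv2.genus k X < Module.finrank k (Coh.HH X L 0)) : Subsingleton (Coh.HH X L 1) := by
  by_contra hns
  rw [not_subsingleton_iff_nontrivial] at hns
  have hOc := CohDevH8.isCoh_structureModule X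
  have e := Groth.Agent.CMMul.unitorL L
  have hne : Nontrivial (Coh.HH X (CohB1.tensorMod (Coh.structureModule X) L) 1) := by
    rw [← not_subsingleton_iff_nontrivial]
    intro h
    exact not_subsingleton_iff_nontrivial.mpr hns (subsingleton_of_iso e 1 h)
  have h1 := finrank_HH0_le_of_nontrivial k X hdim hOc hL hne
  have hg : Curv2.genus k X = Module.finrank k (Coh.HH X (Coh.structureModule X) 1) := rfl
  omega

end Main

end CurveSub
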