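import Mathlib
import Groth.Agent.Lib.RpushCoh1_helper9
import Groth.Agent.Lib.RelAmpleVan_helper9
import Groth.Agent.Lib.SubExt4_helper9

/-!
# Cohomological criterion of relative ampleness (helper9)
APPEND-ONLY once landed.
-/

set_option autoImplicit false
universe u
open CategoryTheory CategoryTheory.Limits AlgebraicGeometry Opposite TopologicalSpace

namespace RelAmpleCrit

open CohB1 Groth.Agent.TensInv

/-- a module whose underlying abelian sheaf is zero is zero -/
theorem isZero_of_isZero_toAb {X : Scheme.{u}} (M : X.Modules) (h : IsZero (Coh.toAb M)) :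
    IsZero M := by
  rw [IsZero.iff_id_eq_zero]
  apply (SheafOfModules.toSheaf X.ringCatSheaf).map_injective
  have h1 : (SheafOfModules.toSheaf X.ringCatSheaf).map (𝟙 M) = 𝟙 _ :=
    (SheafOfModules.toSheaf X.ringCatSheaf).map_id M
  have h2 : (SheafOfModules.toSheaf X.ringCatSheaf).map (0 : M ⟶ M) = 0 :=
    (SheafOfModules.toSheaf X.ringCatSheaf).map_zero M M
  exact h1.trans (((IsZero.iff_id_eq_zero _).mp h).trans h2.symm)

theorem isZero_Rpush_iff {X Y : Scheme.{u}} (f : X ⟶ Y) [HasInjectiveResolutions X.Modules]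
    (q : ℕ) (M : X.Modules) :
    IsZero ((Coh.Rpush f q).obj M) ↔ IsZero ((Coh.RpushAb f q).obj (Coh.toAb M)) := by
  obtain ⟨e⟩ := RpushNat.nonempty_natIso f q
  constructor
  · intro h
    exact IsZero.of_iso ((SheafOfModules.toSheaf Y.ringCatSheaf).map_isZero h) (e.app M).symm
  · intro h
    exact isZero_of_isZero_toAb _ (IsZero.of_iso h (e.app M))

theorem subsingleton_sections_of_isZero {Y : Scheme.{u}} (F : Y.Modules) (h : IsZero F)
    (V : Y.Opens) : Subsingleton Γ(F, V) := by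
  refine ⟨fun x y => ?_⟩
  have h0 : (𝟙 F : F ⟶ F) = 0 := h.eq_of_src _ _
  have hx : ∀ z : Γ(F, V), z = 0 := fun z => by
    have h1 : (𝟙 F : F ⟶ F).app V z = z := rfl
    rw [← h1, h0]
    rfl
  rw [hx x, hx y]

section Vanish

variable {X Y : Scheme.{u}} (f : X ⟶ Y) [QuasiCompact f] [QuasiSeparated f]
  [HasInjectiveResolutions X.Modules]

/-- from vanishing of `R^q f_*` to vanishing of `H^q` over an affine open of the base -/
theorem subsingleton_HH_restrict_of_isZero_Rpush (M : X.Modules) [M.IsQuasicoherent] (q : ℕ)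
    (h : IsZero ((Coh.Rpush f q).obj M)) (V : Y.affineOpens) :
    Subsingleton (Coh.HH ((f ⁻¹ᵁ (V : Y.Opens) : X.Opens) : Scheme.{u})
      (M.restrict (f ⁻¹ᵁ (V : Y.Opens)).ι) q) := by
  haveI : HasInjectiveResolutions ((f ⁻¹ᵁ (V : Y.Opens) : X.Opens) : Scheme.{u}).Modules :=
    haveI := RpushQC.enoughInjectives_modules ((f ⁻¹ᵁ (V : Y.Opens) : X.Opens) : Scheme.{u})
    inferInstance
  obtain ⟨e⟩ := RpushQC.nonempty_restrict_Rpush_iso f (V : Y.Opens) M q
  haveI : IsAffine ((V : Y.Opens) : Scheme.{u}) := V.2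
  have hz : IsZero ((Coh.Rpush (f ∣_ (V : Y.Opens)) q).obj
      (M.restrict (f ⁻¹ᵁ (V : Y.Opens)).ι)) :=
    IsZero.of_iso ((Scheme.Modules.restrictFunctor (V : Y.Opens).ι).map_isZero h) e.symm
  obtain ⟨ε, -⟩ := RpushQC.exists_sections_equiv (f ∣_ (V : Y.Opens))
    (M.restrict (f ⁻¹ᵁ (V : Y.Opens)).ι) q
  haveI := subsingleton_sections_of_isZero _ hz ⊤
  exact ε.toEquiv.subsingleton

end Vanish

section Main

variable {X Y : Scheme.{u}} (f : X ⟶ Y) [IsNoetherian Y] [IsProper f]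
  [HasInjectiveResolutions X.Modules]

/-- **Cohomological criterion of relative ampleness** (statement of S2450). -/
theorem relAmple_iff (L : X.Modules) (hL : PicF.IsInvertible L) :
    RelAmple.IsRelAmple f L ↔
      ∀ (J : X.Modules) (ι : J ⟶ Coh.structureModule X), Mono ι → Coh.IsCoh J →
        ∃ N : ℕ, ∀ n : ℕ, N ≤ n →
          IsZero ((Coh.Rpush f 1).obj (CohB1.tensorMod J (CohB1.tensorPow L n))) := by
  constructor
  · intro hamp J ι _ hJ
    obtain ⟨n₀, hn₀⟩ := RelAmpleVanH9.relative_vanishing f L hL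
      (fun W hW => hamp.2 ⟨W, hW⟩) J hJ
    refine ⟨n₀, fun n hn => ?_⟩
    rw [isZero_Rpush_iff]
    exact hn₀ n hn 1 Nat.one_pos
  · intro h
    refine ⟨inferInstance, fun V => ?_⟩
    haveI : IsLocallyNoetherian X := LocallyOfFiniteType.isLocallyNoetherian f
    haveI : CompactSpace X := QuasiCompact.compactSpace_of_compactSpace f
    haveI : IsNoetherian X := { }
    have hX : ∀ x : X, ∃ W : X.Opens, x ∈ W ∧ NoetherianSpace (W : Set X) :=
      fun x => ⟨⊤, trivial, inferInstance⟩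
    haveI : IsAffine ((V : Y.Opens) : Scheme.{u}) := V.2
    haveI : CompactSpace ((f ⁻¹ᵁ (V : Y.Opens) : X.Opens) : Scheme.{u}) :=
      QuasiCompact.compactSpace_of_compactSpace (f ∣_ (V : Y.Opens))
    refine TensH8.isAmple_of_H1 (TensH8.isInvertible_restrict _ hL) (fun I i hi hI => ?_)
    haveI := hi
    haveI : I.IsQuasicoherent := hI
    have hIc : Coh.IsCoh I := RelAmpleVanH9.isCoh_of_mono_structureModule I i hI
    haveI : (Coh.structureModule X).IsQuasicoherent := (CohDevH8.isCoh_structureModule X).1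
    let i₁ : I ⟶ (Coh.structureModule X).restrict (f ⁻¹ᵁ (V : Y.Opens)).ι :=
      i ≫ (Scheme.Modules.restrictUnitIso (f ⁻¹ᵁ (V : Y.Opens)).ι).inv
    haveI : Mono i₁ := mono_comp _ _
    obtain ⟨J, i', e, hmono, hq, hft, -⟩ := SubExt.extend_ft_locNoeth hX (f ⁻¹ᵁ (V : Y.Opens))
      (Coh.structureModule X) I i₁ hIc.2
    obtain ⟨N, hN⟩ := h J i' hmono ⟨hq, hft⟩
    refine ⟨N, ?_⟩
    haveI : J.IsQuasicoherent := hq
    haveI : (tensorPow L (N + 1)).IsQuasicoherent :=
      (ProperFinH9.isCoh_of_isInvertible (TensH8.isInvertible_tensorPow hL (N + 1))).1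
    haveI : (tensorMod J (tensorPow L (N + 1))).IsQuasicoherent :=
      TensQCH8.isQuasicoherent_tensorMod _ _
    have h1 := subsingleton_HH_restrict_of_isZero_Rpush f (tensorMod J (tensorPow L (N + 1))) 1
      (hN (N + 1) (Nat.le_succ N)) V
    obtain ⟨e₂⟩ := TensPowH9.restrict_tensorMod_tensorPow (f ⁻¹ᵁ (V : Y.Opens)).ι J hL (N + 1)
    exact Groth.Agent.HHVan.subsingleton_of_iso (e₂ ≪≫ mapR e _) 1 h1

end Main

end RelAmpleCrit
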