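import Mathlib
import Groth.Prelude
import Groth.Agent.Lib.CurveVan1_helper9
import Groth.Agent.Lib.CurveDeg1_helper9
import Groth.Agent.Lib.RelAmpleCrit_helper9

/-!
# Degrees on integral proper curves: monomorphisms which are generically isomorphisms (helper9)
APPEND-ONLY once landed.
-/

set_option autoImplicit false
universe u
open CategoryTheory CategoryTheory.Limits AlgebraicGeometry Opposite TopologicalSpace

namespace CurveDeg

variable (k : Type u) [Field k] (X : Scheme.{u}) [X.Over (Spec (CommRingCat.of k))]
  [IsIntegral X] [IsProper (X ↘ Spec (CommRingCat.of k))]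

omit [X.Over (Spec (CommRingCat.of k))] [IsProper (X ↘ Spec (CommRingCat.of k))] in
/-- a coherent module on an integral curve with vanishing generic stalk is supported at closed
points -/
theorem isClosed_singleton_of_mem_support [IsLocallyNoetherian X]
    (hdim : topologicalKrullDim X ≤ 1) (Q : X.Modules) (hQ : Coh.IsCoh Q)
    (hgen : Subsingleton (Q.presheaf.stalk (genericPoint X))) :
    ∀ x ∈ CohB1.support Q, IsClosed ({x} : Set X) := by
  haveI : SheafOfModules.IsFiniteType (R := X.ringCatSheaf) Q := hQ.2
  have hcl : IsClosed (CohB1.support Q) := SuppFT.isClosed_support Q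
  intro x hx
  refine CurveVan.isClosed_singleton_of_notMem_open hdim ⟨(CohB1.support Q)ᶜ, hcl.isOpen_compl⟩
    ⟨genericPoint X, fun h => h hgen⟩ x (fun h => h hx)

/-- statement of S15028 (torsion-freeness is not needed) -/
theorem deg_le_of_mono_generic_iso (hdim : topologicalKrullDim X = 1) (E F : X.Modules)
    (hEc : Coh.IsCoh E) (hFc : Coh.IsCoh F) (n : ℕ) (f : E ⟶ F) [Mono f]
    (hgen : Subsingleton ((cokernel f).presheaf.stalk (genericPoint X))) :
    Curv2.deg k X E n ≤ Curv2.deg k X F n ∧
      (Curv2.deg k X E n = Curv2.deg k X F n ↔ IsIso f) := by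
  haveI : IsLocallyNoetherian X :=
    LocallyOfFiniteType.isLocallyNoetherian (X ↘ Spec (CommRingCat.of k))
  have hQc : Coh.IsCoh (cokernel f) := CohKerH8.isCoh_cokernel hEc hFc f
  have hpt := isClosed_singleton_of_mem_support X hdim.le (cokernel f) hQc hgen
  let S : ShortComplex X.Modules := ShortComplex.mk f (cokernel.π f) (cokernel.condition f)
  have hS : S.ShortExact :=
    ShortComplex.ShortExact.mk' (S.exact_of_g_is_cokernel (cokernelIsCokernel f))
      (inferInstanceAs (Mono f)) (inferInstanceAs (Epi (cokernel.π f)))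
  have h := EulerField.euler_additive k X S hS hEc hFc hQc
  rw [euler_eq_finrank_of_closed_support k X _ hQc hpt] at h
  have h' : Curv2.euler k X F =
      Curv2.euler k X E + (Module.finrank k (Coh.HH X (cokernel f) 0) : ℤ) := h
  unfold Curv2.deg
  refine ⟨?_, ?_, ?_⟩
  · have := Int.natCast_nonneg (Module.finrank k (Coh.HH X (cokernel f) 0))
    linarith
  · intro he
    have h0 : Module.finrank k (Coh.HH X (cokernel f) 0) = 0 := by
      have : (Module.finrank k (Coh.HH X (cokernel f) 0) : ℤ) = 0 := by linarith
      exact_mod_cast this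
    haveI := ProperFinH9.finite_HH_of_proper k X (cokernel f) hQc 0
    haveI : Subsingleton (Coh.HH X (cokernel f) 0) :=
      (Module.finrank_eq_zero_iff_of_free k _).mp h0
    have hΓ : Subsingleton Γ(cokernel f, ⊤) :=
      (Sheaf.H.equiv₀ (Coh.toAb (cokernel f)) isTerminalTop).symm.toEquiv.subsingleton
    have hz := isZero_of_closed_support X (cokernel f) hQc hpt hΓ
    haveI : Epi f := Preadditive.epi_of_isZero_cokernel f hz
    exact isIso_of_mono_of_epi f
  · intro hiso
    have hz : IsZero (cokernel f) := isZero_cokernel_of_epi f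
    have hsub : Subsingleton (Coh.HH X (cokernel f) 0) := by
      have hΓ : Subsingleton Γ(cokernel f, ⊤) :=
        RelAmpleCrit.subsingleton_sections_of_isZero _ hz ⊤
      have hΓ' : Subsingleton ((Coh.toAb (cokernel f)).obj.obj (op ⊤)) := hΓ
      exact (Sheaf.H.equiv₀ (Coh.toAb (cokernel f)) isTerminalTop).toEquiv.subsingleton
    have h0 : Module.finrank k (Coh.HH X (cokernel f) 0) = 0 :=
      Module.finrank_zero_of_subsingleton
    rw [h0] at h'
    push_cast at h'
    linarith

end CurveDeg
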