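import Mathlib
import Groth.Prelude
import Groth.Agent.Lib.CurveSub1_helper9
import Groth.Agent.Lib.CurveDeg2_helper9
import Groth.Agent.Lib.TFFree_helper8
import Groth.Agent.Lib.KerFree1_helper8

/-!
# Vector bundles on a regular integral proper curve: kernels, images, ranks and degrees (helper9).
APPEND-ONLY once landed.
-/

set_option autoImplicit false
universe u
open CategoryTheory CategoryTheory.Limits AlgebraicGeometry Opposite TopologicalSpace

namespace VBCurve

open QcqsLoc QCohExtn

section Gen

variable {X : Scheme.{u}}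

/-- a module which is finite locally free of rank zero is zero -/
theorem isZero_of_rank_zero {G : X.Modules} (hG : FlatMod.IsFinLocFreeOfRank 0 G) : IsZero G := by
  have hGc := KerFreeH8.isCoh_of_finLocFree (FLFH8.IsFinLocFreeOfRank.isFinLocFree G hG)
  haveI := hGc.1
  haveI := hGc.2
  have hempty : ∀ x : X, x ∉ CohB1.support G := by
    intro x hx
    apply hx
    obtain ⟨f1, r1⟩ := FLFH8.free_stalk_of_finLocFreeOfRank G hG x
    haveI := SuppStalkH8.finite_stalk G x
    exact (Module.finrank_eq_zero_iff_of_free _ _).mp r1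
  rw [IsZero.iff_id_eq_zero]
  apply Scheme.Modules.hom_ext
  intro O
  ext σ
  show σ = 0
  exact CycLenH8.eq_zero_of_disjoint_support G (fun y _ => hempty y) σ

/-- on an irreducible scheme a finite locally free module has constant rank -/
theorem exists_rank [IrreducibleSpace X] {G : X.Modules} (hG : FlatMod.IsFinLocFree G) :
    ∃ r : ℕ, FlatMod.IsFinLocFreeOfRank r G := by
  obtain ⟨x₀⟩ : Nonempty X := inferInstance
  obtain ⟨U₀, n₀, hx₀, ⟨α₀⟩⟩ := hG x₀
  refine ⟨n₀, fun x => ?_⟩
  obtain ⟨U, n, hxU, ⟨α⟩⟩ := hG x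
  refine ⟨U, hxU, ?_⟩
  have hne : ((U₀ ⊓ U : X.Opens) : Set X).Nonempty :=
    nonempty_preirreducible_inter U₀.isOpen U.isOpen ⟨x₀, hx₀⟩ ⟨x, hxU⟩
  obtain ⟨z, hz₀, hz⟩ := hne
  haveI := FLFH8.isQuasicoherent_of_finLocFree G hG
  have hrank : ∀ {m : ℕ} {V : X.Opens} (hzV : z ∈ V)
      (β : G.restrict V.ι ≅ FlatMod.freeMod (↑V) m),
      Module.finrank (X.presheaf.stalk z) (G.presheaf.stalk z) = m := by
    intro m V hzV β
    obtain ⟨W, hW, hzW, -, t, ht⟩ := FLFH8.exists_affine_bases G hzV β
    obtain ⟨h1, h2⟩ := FLFH8.BasisOn.self G t (ht W le_rfl)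
    exact (FLFH8.free_stalk_of_basis G hW hzW t h1 h2).2
  have h1 := hrank hz₀ α₀
  have h2 := hrank hz α
  have h3 : n₀ = n := h1.symm.trans h2
  subst h3
  exact ⟨α⟩

end Gen

section Reg

variable {X : Scheme.{u}} [IsIntegral X] [IsLocallyNoetherian X]

/-- on a regular integral scheme of dimension at most one, a coherent submodule of a finite
locally free module is finite locally free -/
theorem isFinLocFree_of_mono (hreg : ∀ x : X, IsRegularLocalRing (X.presheaf.stalk x))
    (hdim : topologicalKrullDim X ≤ 1) {G E : X.Modules} (i : G ⟶ E) [Mono i]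
    (hG : Coh.IsCoh G) (hE : FlatMod.IsFinLocFree E) : FlatMod.IsFinLocFree G := by
  refine (FLFH8.torsionFree_iff_finLocFree X hreg hdim G hG).mp (fun x => ?_)
  have h1 : Module.IsTorsionFree (X.presheaf.stalk x) (G.presheaf.stalk x) :=
    KerFreeH8.isTorsionFree_of_mono i (KerFreeH8.isTorsionFree_of_finLocFree hE) x
  haveI := hreg x
  rw [noZeroSMulDivisors_iff_right_eq_zero_of_smul]
  intro r hr m hm
  exact h1.isSMulRegular (isRegular_of_ne_zero hr) (hm.trans (smul_zero r).symm)

/-- the kernel–image short exact sequence `0 → ker → E → im → 0` of a morphism -/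
noncomputable def kerImSC {E F : X.Modules} (f : E ⟶ F) : ShortComplex X.Modules :=
  ShortComplex.mk (kernel.ι (Abelian.factorThruImage f)) (Abelian.factorThruImage f)
    (kernel.condition _)

theorem kerImSC_shortExact {E F : X.Modules} (f : E ⟶ F) : (kerImSC f).ShortExact :=
  ShortComplex.ShortExact.mk' ((kerImSC f).exact_of_f_is_kernel (kernelIsKernel _))
    (inferInstanceAs (Mono (kernel.ι (Abelian.factorThruImage f))))
    (inferInstanceAs (Epi (Abelian.factorThruImage f)))

theorem isCoh_image {E F : X.Modules} (f : E ⟶ F) (hE : Coh.IsCoh E) (hF : Coh.IsCoh F) :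
    Coh.IsCoh (Abelian.image f) :=
  CohKerH8.isCoh_kernel hF (CohKerH8.isCoh_cokernel hE hF f) _

theorem isCoh_kerIm {E F : X.Modules} (f : E ⟶ F) (hE : Coh.IsCoh E) (hF : Coh.IsCoh F) :
    Coh.IsCoh (kerImSC f).X₁ :=
  CohKerH8.isCoh_kernel hE (isCoh_image f hE hF) _

/-- kernel and image of a morphism of finite locally free modules on a regular integral curve are
finite locally free of constant ranks adding up to the rank of the source -/
theorem exists_ranks (hreg : ∀ x : X, IsRegularLocalRing (X.presheaf.stalk x))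
    (hdim : topologicalKrullDim X ≤ 1) {E F : X.Modules} (f : E ⟶ F) {r : ℕ}
    (hE : FlatMod.IsFinLocFreeOfRank r E) (hF : FlatMod.IsFinLocFree F) :
    ∃ rK rI : ℕ, FlatMod.IsFinLocFreeOfRank rK (kerImSC f).X₁ ∧
      FlatMod.IsFinLocFreeOfRank rI (Abelian.image f) ∧ r = rK + rI := by
  have hE' := FLFH8.IsFinLocFreeOfRank.isFinLocFree E hE
  have hEc := KerFreeH8.isCoh_of_finLocFree hE'
  have hFc := KerFreeH8.isCoh_of_finLocFree hF
  have hI : FlatMod.IsFinLocFree (Abelian.image f) :=
    isFinLocFree_of_mono hreg hdim (Abelian.image.ι f) (isCoh_image f hEc hFc) hF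
  haveI : Mono (kerImSC f).f := (kerImSC_shortExact f).mono_f
  have hK : FlatMod.IsFinLocFree (kerImSC f).X₁ :=
    isFinLocFree_of_mono hreg hdim (kerImSC f).f (isCoh_kerIm f hEc hFc) hE'
  obtain ⟨rI, hrI⟩ := exists_rank hI
  obtain ⟨rK, hrK⟩ := exists_rank hK
  refine ⟨rK, rI, hrK, hrI, ?_⟩
  exact CurveDegAdd.rank_add (kerImSC f) (kerImSC_shortExact f) hrK hE hrI

end Reg

section Generic

variable {X : Scheme.{u}} [IsIntegral X]

/-- a monomorphism of finite locally free modules of the same rank on an integral scheme is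
surjective on the stalks at the generic point -/
theorem stalk_surjective_of_mono_same_rank {G G' : X.Modules} (i : G ⟶ G') [Mono i] {r : ℕ}
    (hG : FlatMod.IsFinLocFreeOfRank r G) (hG' : FlatMod.IsFinLocFreeOfRank r G') :
    Function.Surjective (Algz.stalkMapₗ i (genericPoint X)) := by
  letI : Field (X.presheaf.stalk (genericPoint X)) := inferInstanceAs (Field X.functionField)
  obtain ⟨f1, r1⟩ := FLFH8.free_stalk_of_finLocFreeOfRank G hG (genericPoint X)
  obtain ⟨f2, r2⟩ := FLFH8.free_stalk_of_finLocFreeOfRank G' hG' (genericPoint X)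
  have c1 := KerFreeH8.isCoh_of_finLocFree (FLFH8.IsFinLocFreeOfRank.isFinLocFree G hG)
  have c2 := KerFreeH8.isCoh_of_finLocFree (FLFH8.IsFinLocFreeOfRank.isFinLocFree G' hG')
  haveI := c1.1
  haveI := c1.2
  haveI := c2.1
  haveI := c2.2
  haveI := SuppStalkH8.finite_stalk G (genericPoint X)
  haveI := SuppStalkH8.finite_stalk G' (genericPoint X)
  exact (LinearMap.injective_iff_surjective_of_finrank_eq_finrank (r1.trans r2.symm)).mp
    (DescH8.stk_injective_of_mono i (genericPoint X))

theorem subsingleton_stalk_cokernel_generic {G G' : X.Modules} (i : G ⟶ G') [Mono i] {r : ℕ}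
    (hG : FlatMod.IsFinLocFreeOfRank r G) (hG' : FlatMod.IsFinLocFreeOfRank r G') :
    Subsingleton ((cokernel i).presheaf.stalk (genericPoint X)) := by
  let S : ShortComplex X.Modules := ShortComplex.mk i (cokernel.π i) (cokernel.condition i)
  have hS : S.ShortExact :=
    ShortComplex.ShortExact.mk' (S.exact_of_g_is_cokernel (cokernelIsCokernel i))
      (inferInstanceAs (Mono i)) (inferInstanceAs (Epi (cokernel.π i)))
  have hex := CycLenH8.stalk_exact S hS (genericPoint X)
  have hsur := CycLenH8.stalk_surjective S hS (genericPoint X)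
  have hsur' := stalk_surjective_of_mono_same_rank i hG hG'
  have key : ∀ y : (cokernel i).presheaf.stalk (genericPoint X), y = 0 := by
    intro y
    obtain ⟨x, rfl⟩ := hsur y
    obtain ⟨w, rfl⟩ := hsur' x
    exact hex.apply_apply_eq_zero w
  exact ⟨fun a b => by rw [key a, key b]⟩

end Generic

end VBCurve
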