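import Mathlib
import Groth.Prelude
import Groth.Agent.Lib.VBCurve1_helper9

/-!
# Slope (semi)stability on a regular integral proper curve: basic consequences (helper9).
APPEND-ONLY once landed.
-/

set_option autoImplicit false
universe u
open CategoryTheory CategoryTheory.Limits AlgebraicGeometry Opposite TopologicalSpace

namespace VBCurve

open QcqsLoc QCohExtn

section Curve

variable (k : Type u) [Field k] (X : Scheme.{u}) [X.Over (Spec (CommRingCat.of k))]
  [IsIntegral X] [IsProper (X ↘ Spec (CommRingCat.of k))]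

/-- the Euler characteristic of a zero module vanishes -/
theorem deg_eq_zero_of_isZero {G : X.Modules} (hG : IsZero G) : Curv2.deg k X G 0 = 0 := by
  unfold Curv2.deg Curv2.euler
  have h : ∀ i : ℕ, Module.finrank k (Coh.HH X G i) = 0 := fun i => by
    haveI := CurveDegAdd.HH_subsingleton_of_isZero X hG i
    exact Module.finrank_zero_of_subsingleton
  simp [h]

/-- a monomorphism of finite locally free modules of the same rank: `deg ≤`, with equality iff
it is an isomorphism -/
theorem deg_le_of_mono_same_rank (hdim : topologicalKrullDim X = 1) {G G' : X.Modules}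
    (i : G ⟶ G') [Mono i] {r : ℕ} (hG : FlatMod.IsFinLocFreeOfRank r G)
    (hG' : FlatMod.IsFinLocFreeOfRank r G') :
    Curv2.deg k X G r ≤ Curv2.deg k X G' r ∧ (Curv2.deg k X G r = Curv2.deg k X G' r ↔ IsIso i) :=
  CurveDeg.deg_le_of_mono_generic_iso k X hdim G G'
    (KerFreeH8.isCoh_of_finLocFree (FLFH8.IsFinLocFreeOfRank.isFinLocFree G hG))
    (KerFreeH8.isCoh_of_finLocFree (FLFH8.IsFinLocFreeOfRank.isFinLocFree G' hG')) r i
    (subsingleton_stalk_cokernel_generic i hG hG')

/-- kernel/image data of a nonzero morphism of finite locally free modules -/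
theorem exists_kerIm_data (hreg : ∀ x : X, IsRegularLocalRing (X.presheaf.stalk x))
    (hdim : topologicalKrullDim X ≤ 1) {E F : X.Modules} (f : E ⟶ F) (hf : f ≠ 0) {r : ℕ}
    (hE : FlatMod.IsFinLocFreeOfRank r E) (hF : FlatMod.IsFinLocFree F) :
    ∃ rK rI : ℕ, FlatMod.IsFinLocFreeOfRank rK (kerImSC f).X₁ ∧
      FlatMod.IsFinLocFreeOfRank rI (Abelian.image f) ∧ r = rK + rI ∧ 0 < rI ∧
      Curv2.deg k X E r = Curv2.deg k X (kerImSC f).X₁ rK + Curv2.deg k X (Abelian.image f) rI ∧
      (rK = 0 → Curv2.deg k X (kerImSC f).X₁ rK = 0 ∧ Mono f) := by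
  haveI : IsLocallyNoetherian X :=
    LocallyOfFiniteType.isLocallyNoetherian (X ↘ Spec (CommRingCat.of k))
  obtain ⟨rK, rI, hK, hI, hr⟩ := exists_ranks hreg hdim f hE hF
  refine ⟨rK, rI, hK, hI, hr, ?_, ?_, ?_⟩
  · rw [Nat.pos_iff_ne_zero]
    rintro rfl
    apply hf
    have hz := isZero_of_rank_zero hI
    rw [← Abelian.image.fac f, hz.eq_of_tgt (Abelian.factorThruImage f) 0, zero_comp]
  · exact CurveDegAdd.deg_additive k X (kerImSC f) (kerImSC_shortExact f) rK r rI hK hE hI
  · rintro rfl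
    have hz := isZero_of_rank_zero hK
    refine ⟨deg_eq_zero_of_isZero k X hz, ?_⟩
    haveI : Mono (Abelian.factorThruImage f) :=
      Preadditive.mono_of_kernel_zero (hz.eq_of_src _ _)
    rw [← Abelian.image.fac f]
    infer_instance

end Curve

section Slope

variable (k : Type u) [Field k] (X : Scheme.{u}) [X.Over (Spec (CommRingCat.of k))]
  [IsIntegral X] [IsProper (X ↘ Spec (CommRingCat.of k))]

/-- the image of a nonzero morphism out of a semistable module has slope at least that of the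
source, with strict inequality if the source is stable and the morphism is not injective -/
theorem image_slope_ge (hreg : ∀ x : X, IsRegularLocalRing (X.presheaf.stalk x))
    (hdim : topologicalKrullDim X ≤ 1) {E F : X.Modules} (f : E ⟶ F) (hf : f ≠ 0) {r : ℕ}
    (hE : FlatMod.IsFinLocFreeOfRank r E) (hF : FlatMod.IsFinLocFree F)
    (hss : ModFun.IsSlopeSemistable k X E r) :
    ∃ rK rI : ℕ, FlatMod.IsFinLocFreeOfRank rI (Abelian.image f) ∧ r = rK + rI ∧ 0 < rI ∧
      Curv2.deg k X E r * (rI : ℤ) ≤ Curv2.deg k X (Abelian.image f) rI * (r : ℤ) ∧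
      (rK = 0 → Mono f ∧ Curv2.deg k X E r = Curv2.deg k X (Abelian.image f) rI) ∧
      (ModFun.IsSlopeStable k X E r → 0 < rK →
        Curv2.deg k X E r * (rI : ℤ) < Curv2.deg k X (Abelian.image f) rI * (r : ℤ)) := by
  haveI : IsLocallyNoetherian X :=
    LocallyOfFiniteType.isLocallyNoetherian (X ↘ Spec (CommRingCat.of k))
  obtain ⟨rK, rI, hK, hI, hr, hrI, hdeg, hK0⟩ := exists_kerIm_data k X hreg hdim f hf hE hF
  have hmono : Mono (kerImSC f).f := (kerImSC_shortExact f).mono_f
  refine ⟨rK, rI, hI, hr, hrI, ?_, ?_, ?_⟩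
  · rcases Nat.eq_zero_or_pos rK with h0 | hpos
    · obtain ⟨hd0, -⟩ := hK0 h0
      have h1 : r = rI := by omega
      rw [hdeg, hd0, zero_add, h1]
    · have h1 := hss (kerImSC f).X₁ rK (kerImSC f).f hmono hpos hK
      have h2 : (r : ℤ) = (rK : ℤ) + (rI : ℤ) := by exact_mod_cast hr
      rw [hdeg, h2] at h1
      rw [hdeg, h2]
      nlinarith [h1]
  · intro h0
    obtain ⟨hd0, hm⟩ := hK0 h0
    refine ⟨hm, ?_⟩
    rw [hdeg, hd0, zero_add]
  · intro hst hpos
    have hlt : rK < r := by omega
    have h1 := hst (kerImSC f).X₁ rK (kerImSC f).f hmono hpos hlt hK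
    have h2 : (r : ℤ) = (rK : ℤ) + (rI : ℤ) := by exact_mod_cast hr
    rw [hdeg, h2] at h1
    rw [hdeg, h2]
    nlinarith [h1]

end Slope

end VBCurve
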