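import Mathlib
import Groth.Prelude
import Groth.Agent.Lib.VBCurve2_helper9
import Groth.Agent.Lib.CurveSub1_helper9
import Groth.Agent.Lib.ConnIrr1_helper8
import Groth.Agent.Lib.Regular_helper5
import Groth.Agent.S1535

/-!
# Homomorphisms between (semi)stable bundles on a regular integral proper curve (helper9).
APPEND-ONLY once landed.
-/

set_option autoImplicit false
universe u
open CategoryTheory CategoryTheory.Limits AlgebraicGeometry Opposite TopologicalSpace

namespace VBCurve

section Smooth

variable (k : Type u) [Field k] (X : Scheme.{u}) [X.Over (Spec (CommRingCat.of k))]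

/-- local rings of a smooth `k`-scheme are regular -/
theorem hreg_of_smooth [Smooth (X ↘ Spec (CommRingCat.of k))] (x : X) :
    IsRegularLocalRing (X.presheaf.stalk x) :=
  Groth.Agent.S1535.result k X x

/-- a smooth geometrically connected `k`-scheme is integral -/
theorem isIntegral_of_smooth_geomConn [Smooth (X ↘ Spec (CommRingCat.of k))]
    [GeometricallyConnected (X ↘ Spec (CommRingCat.of k))] : IsIntegral X := by
  haveI : IsLocallyNoetherian X :=
    LocallyOfFiniteType.isLocallyNoetherian (X ↘ Spec (CommRingCat.of k))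
  haveI : ConnectedSpace X :=
    GeometricallyConnected.connectedSpace_of_subsingleton (f := X ↘ Spec (CommRingCat.of k))
  exact ConnIrrH8.isIntegral_of_connected X (fun x => by
    haveI := hreg_of_smooth k X x
    exact Groth.Agent.RegularLib.isDomain _)

end Smooth

section Core

variable (k : Type u) [Field k] (X : Scheme.{u}) [X.Over (Spec (CommRingCat.of k))]
  [IsIntegral X] [IsProper (X ↘ Spec (CommRingCat.of k))]

/-- the rank of a finite locally free module on a nonempty scheme is unique up to iso -/
theorem rank_eq_of_iso {G G' : X.Modules} (e : G ≅ G') {r r' : ℕ}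
    (hG : FlatMod.IsFinLocFreeOfRank r G) (hG' : FlatMod.IsFinLocFreeOfRank r' G') : r = r' :=
  le_antisymm (CurveSub.rank_le_of_mono e.hom hG hG') (CurveSub.rank_le_of_mono e.inv hG' hG)

/-- stable ⇒ semistable (for a finite locally free module of rank `r`) -/
theorem ss_of_stable (hdim : topologicalKrullDim X = 1) {E : X.Modules} {r : ℕ}
    (hE : FlatMod.IsFinLocFreeOfRank r E) (hst : ModFun.IsSlopeStable k X E r) :
    ModFun.IsSlopeSemistable k X E r := by
  intro G r' i hi hpos hG
  haveI := hi
  have hle : r' ≤ r := CurveSub.rank_le_of_mono i hG hE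
  rcases lt_or_eq_of_le hle with hlt | rfl
  · exact (hst G r' i hi hpos hlt hG).le
  · have h := (deg_le_of_mono_same_rank k X hdim i hG hE).1
    have : (0 : ℤ) ≤ (r' : ℤ) := by positivity
    nlinarith [h]

/-- no nonzero maps from a semistable module to one of smaller maximal slope (non-strict form
`deg G · s ≤ deg F · r'` on submodules of `F`, strict inequality of slopes) -/
theorem hom_eq_zero_of_slope_gt (hreg : ∀ x : X, IsRegularLocalRing (X.presheaf.stalk x))
    (hdim : topologicalKrullDim X = 1) {E F : X.Modules} {r s : ℕ} (hs : 0 < s)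
    (hE : FlatMod.IsFinLocFreeOfRank r E) (hF : FlatMod.IsFinLocFreeOfRank s F)
    (hEss : ModFun.IsSlopeSemistable k X E r) (hFss : ModFun.IsSlopeSemistable k X F s)
    (hslope : Curv2.deg k X F s * (r : ℤ) < Curv2.deg k X E r * (s : ℤ)) (f : E ⟶ F) : f = 0 := by
  by_contra hf
  obtain ⟨rK, rI, hI, hr, hrI, hle, -, -⟩ := image_slope_ge k X hreg hdim.le f hf hE
    (FLFH8.IsFinLocFreeOfRank.isFinLocFree F hF) hEss
  have h2 := hFss (Abelian.image f) rI (Abelian.image.ι f) inferInstance hrI hI
  have hrI' : (0 : ℤ) < (rI : ℤ) := by exact_mod_cast hrI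
  have hs' : (0 : ℤ) < (s : ℤ) := by exact_mod_cast hs
  have hr' : (0 : ℤ) ≤ (r : ℤ) := by positivity
  -- deg E * rI * s ≤ deg I * r * s ≤ deg F * rI * r
  have h3 : Curv2.deg k X E r * (s : ℤ) * (rI : ℤ) ≤ Curv2.deg k X F s * (r : ℤ) * (rI : ℤ) := by
    nlinarith [mul_le_mul_of_nonneg_right hle hs'.le, mul_le_mul_of_nonneg_right h2 hr']
  have h4 := le_of_mul_le_mul_right h3 hrI'
  linarith

/-- no nonzero maps from a semistable module to one all of whose submodules have smaller slope -/
theorem hom_eq_zero_of_max_slope_lt (hreg : ∀ x : X, IsRegularLocalRing (X.presheaf.stalk x))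
    (hdim : topologicalKrullDim X = 1) {E F : X.Modules} {r s : ℕ}
    (hE : FlatMod.IsFinLocFreeOfRank r E) (hF : FlatMod.IsFinLocFreeOfRank s F)
    (hEss : ModFun.IsSlopeSemistable k X E r)
    (hmax : ∀ (G : X.Modules) (r' : ℕ) (i : G ⟶ F), Mono i → 0 < r' →
      FlatMod.IsFinLocFreeOfRank r' G →
      Curv2.deg k X G r' * (r : ℤ) < Curv2.deg k X E r * (r' : ℤ)) (f : E ⟶ F) : f = 0 := by
  by_contra hf
  obtain ⟨rK, rI, hI, hr, hrI, hle, -, -⟩ := image_slope_ge k X hreg hdim.le f hf hE
    (FLFH8.IsFinLocFreeOfRank.isFinLocFree F hF) hEss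
  have h2 := hmax (Abelian.image f) rI (Abelian.image.ι f) inferInstance hrI hI
  linarith

/-- a nonzero map between semistable modules of the same slope, with the source stable, is
injective with image of the same rank and degree as the source; with the target stable, the image
has the rank of the target and the map is an epimorphism -/
theorem same_slope_core (hreg : ∀ x : X, IsRegularLocalRing (X.presheaf.stalk x))
    (hdim : topologicalKrullDim X = 1) {E F : X.Modules} {r s : ℕ} (hr0 : 0 < r) (hs : 0 < s)
    (hE : FlatMod.IsFinLocFreeOfRank r E) (hF : FlatMod.IsFinLocFreeOfRank s F)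
    (hEss : ModFun.IsSlopeSemistable k X E r) (hFss : ModFun.IsSlopeSemistable k X F s)
    (hμ : Curv2.deg k X E r * (s : ℤ) = Curv2.deg k X F s * (r : ℤ))
    (f : E ⟶ F) (hf : f ≠ 0) :
    (ModFun.IsSlopeStable k X E r → Mono f ∧ r ≤ s) ∧
    (ModFun.IsSlopeStable k X F s → Epi f ∧ s ≤ r) ∧
    (Mono f → r = s → IsIso f) := by
  obtain ⟨rK, rI, hI, hr, hrI, hle, hK0, hlt⟩ := image_slope_ge k X hreg hdim.le f hf hE
    (FLFH8.IsFinLocFreeOfRank.isFinLocFree F hF) hEss
  have h2 := hFss (Abelian.image f) rI (Abelian.image.ι f) inferInstance hrI hI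
  have hrI' : (0 : ℤ) < (rI : ℤ) := by exact_mod_cast hrI
  have hs' : (0 : ℤ) < (s : ℤ) := by exact_mod_cast hs
  have hr' : (0 : ℤ) < (r : ℤ) := by exact_mod_cast hr0
  have hrIs : rI ≤ s := CurveSub.rank_le_of_mono (Abelian.image.ι f) hI hF
  -- both inequalities are equalities
  have e1 : Curv2.deg k X E r * (rI : ℤ) = Curv2.deg k X (Abelian.image f) rI * (r : ℤ) := by
    apply le_antisymm hle
    have h3 : Curv2.deg k X (Abelian.image f) rI * (r : ℤ) * (s : ℤ) ≤
        Curv2.deg k X E r * (rI : ℤ) * (s : ℤ) := by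
      nlinarith [mul_le_mul_of_nonneg_right h2 hr'.le]
    exact le_of_mul_le_mul_right h3 hs'
  have e2 : Curv2.deg k X (Abelian.image f) rI * (s : ℤ) = Curv2.deg k X F s * (rI : ℤ) := by
    apply le_antisymm h2
    have h3 : Curv2.deg k X F s * (rI : ℤ) * (r : ℤ) ≤
        Curv2.deg k X (Abelian.image f) rI * (s : ℤ) * (r : ℤ) := by
      nlinarith [mul_le_mul_of_nonneg_right hle hs'.le]
    exact le_of_mul_le_mul_right h3 hr'
  refine ⟨?_, ?_, ?_⟩
  · intro hst
    have hrK : rK = 0 := by
      by_contra h
      have := hlt hst (Nat.pos_of_ne_zero h)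
      linarith
    exact ⟨(hK0 hrK).1, by omega⟩
  · intro hst
    have hrIeq : rI = s := by
      by_contra h
      have hlt' : rI < s := lt_of_le_of_ne hrIs h
      have := hst (Abelian.image f) rI (Abelian.image.ι f) inferInstance hrI hlt' hI
      linarith
    subst hrIeq
    have hd : Curv2.deg k X (Abelian.image f) rI = Curv2.deg k X F rI :=
      mul_right_cancel₀ hs'.ne' e2
    haveI : IsIso (Abelian.image.ι f) :=
      (deg_le_of_mono_same_rank k X hdim (Abelian.image.ι f) hI hF).2.1 hd
    refine ⟨?_, by omega⟩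
    rw [← Abelian.image.fac f]
    infer_instance
  · intro hm hrs
    subst hrs
    haveI := hm
    -- rK = 0 because E ≅ image has rank r
    haveI : Mono (Abelian.factorThruImage f) := by
      have : Mono (Abelian.factorThruImage f ≫ Abelian.image.ι f) := by
        rw [Abelian.image.fac f]; exact hm
      exact mono_of_mono _ (Abelian.image.ι f)
    haveI : IsIso (Abelian.factorThruImage f) := isIso_of_mono_of_epi _
    have hrr : r = rI := rank_eq_of_iso X (asIso (Abelian.factorThruImage f)) hE hI
    subst hrr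
    have hd : Curv2.deg k X (Abelian.image f) r = Curv2.deg k X F r := by
      have := mul_right_cancel₀ hr'.ne' (e1.symm.trans hμ)
      exact this
    haveI : IsIso (Abelian.image.ι f) :=
      (deg_le_of_mono_same_rank k X hdim (Abelian.image.ι f) hI hF).2.1 hd
    rw [← Abelian.image.fac f]
    infer_instance

end Core

end VBCurve
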