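import Mathlib
import Groth.Prelude
import Groth.Agent.Lib.VBCurve3_helper9
import Groth.Agent.Lib.CohDev2_helper8
import Groth.Agent.Lib.CohDev8_helper8

/-!
# Submodules of extensions on a regular integral proper curve (helper9).
APPEND-ONLY once landed.
-/

set_option autoImplicit false
universe u
open CategoryTheory CategoryTheory.Limits AlgebraicGeometry Opposite TopologicalSpace

namespace VBCurve

section Pull

variable {X : Scheme.{u}}

/-- the pullback of a short exact sequence along a morphism to its third term -/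
noncomputable def pullSC (T : ShortComplex X.Modules) {G : X.Modules} (j : G ⟶ T.X₃) :
    ShortComplex X.Modules :=
  ShortComplex.mk (pullback.lift T.f 0 (by rw [T.zero, zero_comp]) : T.X₁ ⟶ pullback T.g j)
    (pullback.snd T.g j) (by rw [pullback.lift_snd])

theorem pullSC_shortExact (T : ShortComplex X.Modules) (hT : T.ShortExact) {G : X.Modules}
    (j : G ⟶ T.X₃) : (pullSC T j).ShortExact := by
  have hmf : Mono T.f := hT.mono_f
  haveI : Epi T.g := hT.epi_g
  let ι : T.X₁ ⟶ pullback T.g j := pullback.lift T.f 0 (by rw [T.zero, zero_comp])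
  have hfst : ι ≫ pullback.fst T.g j = T.f := pullback.lift_fst _ _ _
  have hsnd : ι ≫ pullback.snd T.g j = 0 := pullback.lift_snd _ _ _
  have hmono : Mono ι := by
    have : Mono (ι ≫ pullback.fst T.g j) := by rw [hfst]; exact hmf
    exact mono_of_mono _ (pullback.fst T.g j)
  have hepi : Epi (pullback.snd T.g j) := inferInstance
  have hmono' : Mono (pullSC T j).f := hmono
  have hepi' : Epi (pullSC T j).g := hepi
  refine ShortComplex.ShortExact.mk' ?_ hmono' hepi'
  refine (pullSC T j).exact_of_f_is_kernel ?_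
  refine KernelFork.IsLimit.ofι' _ _ (fun {Z} s hs => ?_)
  let s' : Z ⟶ pullback T.g j := s
  have hs' : s' ≫ pullback.snd T.g j = 0 := hs
  have h0 : (s' ≫ pullback.fst T.g j) ≫ T.g = 0 := by
    rw [Category.assoc, pullback.condition, ← Category.assoc, hs', zero_comp]
  have hl : hT.fIsKernel.lift (KernelFork.ofι _ h0) ≫ T.f = s' ≫ pullback.fst T.g j :=
    hT.fIsKernel.fac (KernelFork.ofι _ h0) WalkingParallelPair.zero
  refine ⟨hT.fIsKernel.lift (KernelFork.ofι _ h0), ?_⟩
  show hT.fIsKernel.lift (KernelFork.ofι _ h0) ≫ ι = s'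
  apply pullback.hom_ext
  · rw [Category.assoc, hfst, hl]
  · rw [Category.assoc, hsnd, comp_zero, hs']

theorem isCoh_pullback [IsLocallyNoetherian X] {A B C : X.Modules} (f : A ⟶ C) (g : B ⟶ C)
    (hA : Coh.IsCoh A) (hB : Coh.IsCoh B) (hC : Coh.IsCoh C) : Coh.IsCoh (pullback f g) := by
  have e : pullback f g ≅ kernel (biprod.desc f (-g)) :=
    IsLimit.conePointUniqueUpToIso
      (Abelian.PullbackToBiproductIsKernel.isLimitPullbackToBiproduct f g)
      (limit.isLimit _)
  exact CohDevH8.isCoh_of_iso e (CohKerH8.isCoh_kernel (CohDevH8.isCoh_biprod hA hB) hC _)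

end Pull

section KerIm

variable {X : Scheme.{u}}

theorem kerImSC_f_comp {E F : X.Modules} (f : E ⟶ F) : (kerImSC f).f ≫ f = 0 := by
  have h : (kerImSC f).f ≫ (Abelian.factorThruImage f ≫ Abelian.image.ι f) = 0 := by
    rw [← Category.assoc]
    show ((kerImSC f).f ≫ (kerImSC f).g) ≫ _ = 0
    rw [(kerImSC f).zero, zero_comp]
  have h2 : Abelian.factorThruImage f ≫ Abelian.image.ι f = f := Abelian.image.fac f
  exact (congrArg (fun g => (kerImSC f).f ≫ g) h2).symm.trans h

end KerIm

section Sub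

variable (k : Type u) [Field k] (X : Scheme.{u}) [X.Over (Spec (CommRingCat.of k))]
  [IsIntegral X] [IsProper (X ↘ Spec (CommRingCat.of k))]

/-- a finite locally free submodule of the middle term of a short exact sequence either lies in
the first term or decomposes as an extension of a submodule of the third term by a submodule of
the first term -/
theorem sub_of_ses_cases (hreg : ∀ x : X, IsRegularLocalRing (X.presheaf.stalk x))
    (hdim : topologicalKrullDim X ≤ 1) (T : ShortComplex X.Modules) (hT : T.ShortExact)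
    (hX₃ : FlatMod.IsFinLocFree T.X₃) {G : X.Modules} (i : G ⟶ T.X₂) [Mono i] {r' : ℕ}
    (hG : FlatMod.IsFinLocFreeOfRank r' G) :
    (∃ j : G ⟶ T.X₁, Mono j) ∨
    (∃ (K I : X.Modules) (jK : K ⟶ T.X₁) (jI : I ⟶ T.X₃) (rK rI : ℕ), Mono jK ∧ Mono jI ∧
      FlatMod.IsFinLocFreeOfRank rK K ∧ FlatMod.IsFinLocFreeOfRank rI I ∧ r' = rK + rI ∧ 0 < rI ∧
      Curv2.deg k X G r' = Curv2.deg k X K rK + Curv2.deg k X I rI ∧
      (rK = 0 → Curv2.deg k X K rK = 0)) := by
  haveI : IsLocallyNoetherian X :=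
    LocallyOfFiniteType.isLocallyNoetherian (X ↘ Spec (CommRingCat.of k))
  haveI := hT.mono_f
  have hi : Mono i := inferInstance
  by_cases hf : i ≫ T.g = 0
  · left
    refine ⟨hT.fIsKernel.lift (KernelFork.ofι _ hf), ?_⟩
    have hl : hT.fIsKernel.lift (KernelFork.ofι _ hf) ≫ T.f = i :=
      hT.fIsKernel.fac (KernelFork.ofι _ hf) WalkingParallelPair.zero
    have : Mono (hT.fIsKernel.lift (KernelFork.ofι _ hf) ≫ T.f) := by rw [hl]; infer_instance
    exact mono_of_mono _ T.f
  · right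
    obtain ⟨rK, rI, hK, hI, hr, hrI, hdeg, hK0⟩ :=
      exists_kerIm_data k X hreg hdim (i ≫ T.g) hf hG hX₃
    have hmono : Mono (kerImSC (i ≫ T.g)).f := (kerImSC_shortExact (i ≫ T.g)).mono_f
    have h0 : ((kerImSC (i ≫ T.g)).f ≫ i) ≫ T.g = 0 := by
      rw [Category.assoc]; exact kerImSC_f_comp (i ≫ T.g)
    refine ⟨(kerImSC (i ≫ T.g)).X₁, Abelian.image (i ≫ T.g),
      hT.fIsKernel.lift (KernelFork.ofι _ h0), Abelian.image.ι (i ≫ T.g), rK, rI, ?_,
      inferInstance, hK, hI, hr, hrI, hdeg, fun h => (hK0 h).1⟩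
    have hl : hT.fIsKernel.lift (KernelFork.ofι _ h0) ≫ T.f = (kerImSC (i ≫ T.g)).f ≫ i :=
      hT.fIsKernel.fac (KernelFork.ofι _ h0) WalkingParallelPair.zero
    have : Mono (hT.fIsKernel.lift (KernelFork.ofι _ h0) ≫ T.f) := by
      rw [hl]; exact mono_comp' hmono hi
    exact mono_of_mono _ T.f

/-- the preimage in the middle term of a finite locally free submodule of the third term of a
short exact sequence of finite locally free modules -/
theorem exists_preimage (hreg : ∀ x : X, IsRegularLocalRing (X.presheaf.stalk x))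
    (hdim : topologicalKrullDim X ≤ 1) (T : ShortComplex X.Modules) (hT : T.ShortExact)
    {r₁ r r₃ : ℕ} (h₁ : FlatMod.IsFinLocFreeOfRank r₁ T.X₁) (h₂ : FlatMod.IsFinLocFreeOfRank r T.X₂)
    (h₃ : FlatMod.IsFinLocFreeOfRank r₃ T.X₃) {G : X.Modules} (j : G ⟶ T.X₃) [Mono j] {r' : ℕ}
    (hG : FlatMod.IsFinLocFreeOfRank r' G) :
    ∃ (P : X.Modules) (i : P ⟶ T.X₂), Mono i ∧ FlatMod.IsFinLocFreeOfRank (r₁ + r') P ∧
      Curv2.deg k X P (r₁ + r') = Curv2.deg k X T.X₁ r₁ + Curv2.deg k X G r' := by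
  haveI : IsLocallyNoetherian X :=
    LocallyOfFiniteType.isLocallyNoetherian (X ↘ Spec (CommRingCat.of k))
  have c₂ := KerFreeH8.isCoh_of_finLocFree (FLFH8.IsFinLocFreeOfRank.isFinLocFree _ h₂)
  have c₃ := KerFreeH8.isCoh_of_finLocFree (FLFH8.IsFinLocFreeOfRank.isFinLocFree _ h₃)
  have cG := KerFreeH8.isCoh_of_finLocFree (FLFH8.IsFinLocFreeOfRank.isFinLocFree _ hG)
  have hP : FlatMod.IsFinLocFree (pullback T.g j) :=
    isFinLocFree_of_mono hreg hdim (pullback.fst T.g j) (isCoh_pullback T.g j c₂ cG c₃)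
      (FLFH8.IsFinLocFreeOfRank.isFinLocFree _ h₂)
  obtain ⟨rP, hrP⟩ := exists_rank hP
  have hS := pullSC_shortExact T hT j
  have hadd : rP = r₁ + r' := CurveDegAdd.rank_add (pullSC T j) hS h₁ hrP hG
  subst hadd
  exact ⟨pullback T.g j, pullback.fst T.g j, inferInstance, hrP,
    CurveDegAdd.deg_additive k X (pullSC T j) hS r₁ (r₁ + r') r' h₁ hrP hG⟩

end Sub

end VBCurve
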