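import Mathlib
import Groth.Prelude
import Groth.Agent.Lib.VBCurve4_helper9
import Groth.Agent.Lib.CurveDeg1_helper9
import Groth.Agent.Lib.FinCov3_helper8
import Groth.Agent.Lib.SubExt_helper9

/-!
# Invertible submodules with invertible quotient on a regular integral proper curve (helper9).
APPEND-ONLY once landed.
-/

set_option autoImplicit false
universe u
open CategoryTheory CategoryTheory.Limits AlgebraicGeometry Opposite TopologicalSpace

namespace VBCurve

open QcqsLoc QCohExtn

section NonZero

variable {X : Scheme.{u}}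

/-- an invertible module on a nonempty scheme is not zero -/
theorem not_isZero_of_isInvertible [Nonempty X] {N : X.Modules} (hN : PicF.IsInvertible N) :
    ¬ IsZero N := by
  intro hz
  obtain ⟨x⟩ := ‹Nonempty X›
  obtain ⟨W, -, hxW, e, he⟩ := FLFH8.exists_affine_generator hN x
  obtain ⟨-, hli⟩ := he W le_rfl
  have h0 : e = 0 := by
    have h1 : ap (𝟙 N) W e = ap (0 : N ⟶ N) W e := by rw [hz.eq_of_src (𝟙 N) 0]
    exact h1
  have h1 : (1 : Γ(X, W)) = 0 := hli 1 (by rw [SubExt.rF_self, h0, smul_zero])
  have hsub : Subsingleton Γ(X, W) := subsingleton_of_zero_eq_one h1.symm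
  have hbot : W = ⊥ := by
    by_contra hne
    have hne' : (W : Set X).Nonempty := ⟨x, hxW⟩
    haveI : Nonempty W := hne'.to_subtype
    haveI : Nontrivial Γ(X, W) := by
      have : Nonempty (W : Scheme.{u}) := ‹Nonempty W›
      exact inferInstance
    exact not_subsingleton _ hsub
  rw [hbot] at hxW
  exact hxW

/-- a zero monomorphism has zero source -/
theorem isZero_of_mono_eq_zero {A B : X.Modules} (f : A ⟶ B) [Mono f] (h : f = 0) : IsZero A := by
  rw [IsZero.iff_id_eq_zero, ← cancel_mono f, h, comp_zero, comp_zero]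

end NonZero

section Line

variable (k : Type u) [Field k] (X : Scheme.{u}) [X.Over (Spec (CommRingCat.of k))]
  [IsIntegral X] [IsProper (X ↘ Spec (CommRingCat.of k))]

/-- the cokernel short exact sequence of a monomorphism -/
theorem cokernel_shortExact {N E : X.Modules} (i : N ⟶ E) [Mono i] :
    (ShortComplex.mk i (cokernel.π i) (cokernel.condition i)).ShortExact :=
  ShortComplex.ShortExact.mk' (ShortComplex.exact_cokernel i) ‹Mono i›
    (inferInstanceAs (Epi (cokernel.π i)))

/-- degrees of a submodule and its quotient add up -/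
theorem deg_cokernel {N E : X.Modules} (i : N ⟶ E) [Mono i] {n r q : ℕ}
    (hN : FlatMod.IsFinLocFreeOfRank n N) (hE : FlatMod.IsFinLocFreeOfRank r E)
    (hq : FlatMod.IsFinLocFreeOfRank q (cokernel i)) :
    Curv2.deg k X E r = Curv2.deg k X N n + Curv2.deg k X (cokernel i) q :=
  CurveDegAdd.deg_additive k X _ (cokernel_shortExact X i) n r q hN hE hq

/-- a morphism of invertible modules: zero, or injective with `deg ≤` (equality iff iso) -/
theorem line_hom_cases (hdim : topologicalKrullDim X = 1) {L M : X.Modules}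
    (hL : PicF.IsInvertible L) (hM : PicF.IsInvertible M) (c : L ⟶ M) :
    c = 0 ∨ (Mono c ∧ Curv2.deg k X L 1 ≤ Curv2.deg k X M 1 ∧
      (Curv2.deg k X L 1 = Curv2.deg k X M 1 → IsIso c)) := by
  by_cases h : c = 0
  · exact Or.inl h
  · right
    haveI : Mono c := CurveDeg.mono_of_ne_zero hL hM c h
    have h1 := deg_le_of_mono_same_rank k X hdim c
      (FLFH8.finLocFreeOfRank_one_of_isInvertible hL) (FLFH8.finLocFreeOfRank_one_of_isInvertible hM)
    exact ⟨inferInstance, h1.1, h1.2.1⟩

/-- an invertible module mapping to `E`, against an invertible submodule with invertible quotient: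
either the map factors through the submodule or it injects into the quotient -/
theorem line_sub_cases (hdim : topologicalKrullDim X = 1) {N E L : X.Modules} (i : N ⟶ E) [Mono i]
    (hq : PicF.IsInvertible (cokernel i)) (hL : PicF.IsInvertible L) (l : L ⟶ E) :
    (∃ φ : L ⟶ N, φ ≫ i = l) ∨
    (Mono (l ≫ cokernel.π i) ∧ Curv2.deg k X L 1 ≤ Curv2.deg k X (cokernel i) 1 ∧
      (Curv2.deg k X L 1 = Curv2.deg k X (cokernel i) 1 → IsIso (l ≫ cokernel.π i))) := by
  rcases line_hom_cases k X hdim hL hq (l ≫ cokernel.π i) with h | h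
  · exact Or.inl ⟨Abelian.monoLift i l h, Abelian.monoLift_comp i l h⟩
  · exact Or.inr h

/-- two submodules each factoring through the other are isomorphic compatibly -/
theorem iso_of_factor {N L E : X.Modules} (i : N ⟶ E) [Mono i] (l : L ⟶ E) [Mono l]
    (φ : L ⟶ N) (hφ : φ ≫ i = l) (ψ : N ⟶ L) (hψ : ψ ≫ l = i) :
    ∃ e : N ≅ L, e.hom ≫ l = i := by
  refine ⟨⟨ψ, φ, ?_, ?_⟩, hψ⟩
  · rw [← cancel_mono i, Category.assoc, hφ, hψ, Category.id_comp]
  · rw [← cancel_mono l, Category.assoc, hψ, hφ, Category.id_comp]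

/-- an invertible submodule with invertible quotient of an extension of invertible modules is the
sub line bundle of the extension or has degree at most that of the quotient -/
theorem line_sub_of_ses (hdim : topologicalKrullDim X = 1) (S : ShortComplex X.Modules)
    (hS : S.ShortExact) (hL : PicF.IsInvertible S.X₁) (hM : PicF.IsInvertible S.X₃)
    {N : X.Modules} (hN : PicF.IsInvertible N) (j : N ⟶ S.X₂) [Mono j]
    (hq : PicF.IsInvertible (cokernel j)) :
    (∃ φ : N ≅ S.X₁, φ.hom ≫ S.f = j) ∨ Curv2.deg k X N 1 ≤ Curv2.deg k X S.X₃ 1 := by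
  haveI : Mono S.f := hS.mono_f
  rcases line_hom_cases k X hdim hN hM (j ≫ S.g) with h0 | ⟨-, hle, -⟩
  · have hl : hS.fIsKernel.lift (KernelFork.ofι _ h0) ≫ S.f = j :=
      hS.fIsKernel.fac (KernelFork.ofι _ h0) WalkingParallelPair.zero
    rcases line_sub_cases k X hdim j hq hL S.f with ⟨φ, hφ⟩ | ⟨hm, -, -⟩
    · left
      exact iso_of_factor X j S.f φ hφ _ hl
    · exfalso
      haveI := hm
      have h1 : hS.fIsKernel.lift (KernelFork.ofι _ h0) ≫ (S.f ≫ cokernel.π j) = 0 := by
        rw [← Category.assoc, hl, cokernel.condition]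
      have h2 : hS.fIsKernel.lift (KernelFork.ofι _ h0) = 0 := by
        rw [← cancel_mono (S.f ≫ cokernel.π j), zero_comp]; exact h1
      have h3 : j = 0 := by rw [← hl, h2, zero_comp]
      haveI : Nonempty X := inferInstance
      exact not_isZero_of_isInvertible hN (isZero_of_mono_eq_zero j h3)
  · exact Or.inr hle

end Line

end VBCurve
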