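import Mathlib
import Groth.Prelude
import Groth.Agent.Lib.VBCurve5_helper9
import Groth.Agent.Lib.FLF6_helper8

/-!
# Stable bundles are indecomposable; the maximal destabilising submodule (helper9).
APPEND-ONLY once landed.
-/

set_option autoImplicit false
universe u
open CategoryTheory CategoryTheory.Limits AlgebraicGeometry Opposite TopologicalSpace

namespace VBCurve

open QcqsLoc QCohExtn

section NonZero

variable {X : Scheme.{u}}

/-- a finite locally free module of positive rank on a nonempty scheme is not zero -/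
theorem not_isZero_of_rank_pos [Nonempty X] {E : X.Modules} {r : ℕ} (hr : 0 < r)
    (hE : FlatMod.IsFinLocFreeOfRank r E) : ¬ IsZero E := by
  intro hz
  obtain ⟨x⟩ := ‹Nonempty X›
  obtain ⟨U, hxU, ⟨α⟩⟩ := hE x
  obtain ⟨W, -, hxW, -, t, ht⟩ := FLFH8.exists_affine_bases E hxU α
  obtain ⟨-, hli⟩ := ht W le_rfl
  have h0 : ∀ s : Γ(E, W), s = 0 := fun s => by
    have h1 : ap (𝟙 E) W s = ap (0 : E ⟶ E) W s := by rw [hz.eq_of_src (𝟙 E) 0]
    exact h1
  have hne' : (W : Set X).Nonempty := ⟨x, hxW⟩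
  haveI : Nonempty W := hne'.to_subtype
  haveI : Nontrivial Γ(X, W) := by
    have : Nonempty (W : Scheme.{u}) := ‹Nonempty W›
    exact inferInstance
  exact hli.ne_zero ⟨0, hr⟩ (h0 _)

end NonZero

section Stable

variable (k : Type u) [Field k] (X : Scheme.{u}) [X.Over (Spec (CommRingCat.of k))]
  [IsIntegral X] [IsProper (X ↘ Spec (CommRingCat.of k))]

/-- every nonzero endomorphism of a stable bundle is an isomorphism -/
theorem endo_isIso_of_stable (hreg : ∀ x : X, IsRegularLocalRing (X.presheaf.stalk x))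
    (hdim : topologicalKrullDim X = 1) {E : X.Modules} {r : ℕ} (hr : 0 < r)
    (hE : FlatMod.IsFinLocFreeOfRank r E) (hst : ModFun.IsSlopeStable k X E r)
    (f : E ⟶ E) (hf : f ≠ 0) : IsIso f := by
  have hss := ss_of_stable k X hdim hE hst
  obtain ⟨h1, -, h3⟩ := same_slope_core k X hreg hdim hr hr hE hE hss hss rfl f hf
  exact h3 (h1 hst).1 rfl

/-- a stable bundle is indecomposable -/
theorem indecomposable_of_stable (hreg : ∀ x : X, IsRegularLocalRing (X.presheaf.stalk x))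
    (hdim : topologicalKrullDim X = 1) {E : X.Modules} {r : ℕ} (hr : 0 < r)
    (hE : FlatMod.IsFinLocFreeOfRank r E) (hst : ModFun.IsSlopeStable k X E r)
    (E₁ E₂ : X.Modules) (e : E ≅ E₁ ⊞ E₂) : IsZero E₁ ∨ IsZero E₂ := by
  let q : E₁ ⊞ E₂ ⟶ E₁ ⊞ E₂ := biprod.fst ≫ biprod.inl
  let p : E ⟶ E := e.hom ≫ q ≫ e.inv
  have hqq : q ≫ q = q := by simp [q]
  have hpp : p ≫ p = p := by
    simp only [p, Category.assoc, Iso.inv_hom_id_assoc]
    rw [← Category.assoc q q, hqq]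
  have hq : q = e.inv ≫ p ≫ e.hom := by simp [p]
  by_cases hp : p = 0
  · left
    rw [IsZero.iff_id_eq_zero]
    have h1 : q = 0 := by rw [hq, hp, zero_comp, comp_zero]
    calc 𝟙 E₁ = biprod.inl ≫ q ≫ biprod.fst := by simp [q]
      _ = 0 := by rw [h1, zero_comp, comp_zero]
  · right
    haveI : IsIso p := endo_isIso_of_stable k X hreg hdim hr hE hst p hp
    have hp1 : p = 𝟙 E := by
      rw [← cancel_mono p, hpp, Category.id_comp]
    rw [IsZero.iff_id_eq_zero]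
    have h1 : q = 𝟙 _ := by rw [hq, hp1, Category.id_comp, Iso.inv_hom_id]
    calc 𝟙 E₂ = biprod.inr ≫ q ≫ biprod.snd := by rw [h1]; simp
      _ = 0 := by simp [q]

end Stable

section MaxDestab

variable (k : Type u) [Field k] (X : Scheme.{u}) [X.Over (Spec (CommRingCat.of k))]
  [IsIntegral X] [IsProper (X ↘ Spec (CommRingCat.of k))]

open Classical in
/-- existence of a submodule of maximal slope and, among those, of maximal rank -/
theorem exists_max_destab (hdim : topologicalKrullDim X ≤ 1) {E : X.Modules} {r : ℕ} (hr : 0 < r)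
    (hE : FlatMod.IsFinLocFreeOfRank r E) :
    ∃ (E₁ : X.Modules) (r₁ : ℕ) (i₁ : E₁ ⟶ E), Mono i₁ ∧ 0 < r₁ ∧
      FlatMod.IsFinLocFreeOfRank r₁ E₁ ∧
      (∀ (G : X.Modules) (r' : ℕ) (j : G ⟶ E), Mono j → 0 < r' →
        FlatMod.IsFinLocFreeOfRank r' G →
        Curv2.deg k X G r' * (r₁ : ℤ) ≤ Curv2.deg k X E₁ r₁ * (r' : ℤ)) ∧
      (∀ (G : X.Modules) (r' : ℕ) (j : G ⟶ E), Mono j → 0 < r' →
        FlatMod.IsFinLocFreeOfRank r' G →
        Curv2.deg k X G r' * (r₁ : ℤ) = Curv2.deg k X E₁ r₁ * (r' : ℤ) → r' ≤ r₁) := by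
  -- weights clearing denominators
  let w : ℕ → ℕ := fun n => r.factorial / n
  have hw : ∀ n : ℕ, 0 < n → n ≤ r → ((w n : ℕ) : ℤ) * (n : ℤ) = (r.factorial : ℤ) := by
    intro n hn hnr
    have h1 : w n * n = r.factorial := Nat.div_mul_cancel (Nat.dvd_factorial hn hnr)
    exact_mod_cast h1
  have hfac : (0 : ℤ) < (r.factorial : ℤ) := by exact_mod_cast r.factorial_pos
  have hwle : ∀ n : ℕ, ((w n : ℕ) : ℤ) ≤ (r.factorial : ℤ) := by
    intro n
    have : w n ≤ r.factorial := Nat.div_le_self _ _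
    exact_mod_cast this
  let P : ℤ → Prop := fun z => ∃ (G : X.Modules) (r' : ℕ) (j : G ⟶ E), Mono j ∧ 0 < r' ∧
    FlatMod.IsFinLocFreeOfRank r' G ∧ Curv2.deg k X G r' * ((w r' : ℕ) : ℤ) = z
  obtain ⟨B, hB⟩ := CurveSub.bddAbove_deg_locFree_sub k X hdim hE
  have hbdd : ∃ b : ℤ, ∀ z : ℤ, P z → z ≤ b := by
    refine ⟨|B| * (r.factorial : ℤ), ?_⟩
    rintro z ⟨G, r', j, hj, hpos, hG, rfl⟩
    have h1 : Curv2.deg k X G r' ≤ |B| := (hB G r' j hj hG).trans (le_abs_self B)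
    exact mul_le_mul h1 (hwle r') (by positivity) (abs_nonneg B)
  have hne : ∃ z : ℤ, P z := ⟨_, E, r, 𝟙 E, inferInstance, hr, hE, rfl⟩
  obtain ⟨ub, hPub, hmax⟩ := Int.exists_greatest_of_bdd hbdd hne
  let Q : ℕ → Prop := fun n => ∃ (G : X.Modules) (j : G ⟶ E), Mono j ∧ 0 < n ∧
    FlatMod.IsFinLocFreeOfRank n G ∧ Curv2.deg k X G n * ((w n : ℕ) : ℤ) = ub
  obtain ⟨G₀, r₀, j₀, hj₀, hpos₀, hG₀, hval₀⟩ := hPub
  have hr₀ : r₀ ≤ r := by
    haveI := hj₀
    exact CurveSub.rank_le_of_mono j₀ hG₀ hE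
  have hQ₀ : Q r₀ := ⟨G₀, j₀, hj₀, hpos₀, hG₀, hval₀⟩
  obtain ⟨E₁, i₁, hi₁, hpos₁, hE₁, hval₁⟩ := Nat.findGreatest_spec hr₀ hQ₀
  have hr₁ : Nat.findGreatest Q r ≤ r := Nat.findGreatest_le r
  refine ⟨E₁, Nat.findGreatest Q r, i₁, hi₁, hpos₁, hE₁, ?_, ?_⟩
  · intro G r' j hj hpos hG
    have hr' : r' ≤ r := by
      haveI := hj
      exact CurveSub.rank_le_of_mono j hG hE
    have h1 : Curv2.deg k X G r' * ((w r' : ℕ) : ℤ) ≤ ub := hmax _ ⟨G, r', j, hj, hpos, hG, rfl⟩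
    rw [← hval₁] at h1
    have hw1 := hw r' hpos hr'
    have hw2 := hw _ hpos₁ hr₁
    have hr'Z : (0 : ℤ) < (r' : ℤ) := by exact_mod_cast hpos
    have hr₁Z : (0 : ℤ) < ((Nat.findGreatest Q r : ℕ) : ℤ) := by exact_mod_cast hpos₁
    have h2 : Curv2.deg k X G r' * ((Nat.findGreatest Q r : ℕ) : ℤ) * (r.factorial : ℤ) ≤
        Curv2.deg k X E₁ (Nat.findGreatest Q r) * (r' : ℤ) * (r.factorial : ℤ) := by
      have h3 := mul_le_mul_of_nonneg_right h1 (mul_pos hr'Z hr₁Z).le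
      calc Curv2.deg k X G r' * ((Nat.findGreatest Q r : ℕ) : ℤ) * (r.factorial : ℤ)
          = Curv2.deg k X G r' * ((w r' : ℕ) : ℤ) *
              ((r' : ℤ) * ((Nat.findGreatest Q r : ℕ) : ℤ)) := by rw [← hw1]; ring
        _ ≤ Curv2.deg k X E₁ (Nat.findGreatest Q r) * ((w (Nat.findGreatest Q r) : ℕ) : ℤ) *
              ((r' : ℤ) * ((Nat.findGreatest Q r : ℕ) : ℤ)) := h3
        _ = Curv2.deg k X E₁ (Nat.findGreatest Q r) * (r' : ℤ) * (r.factorial : ℤ) := by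
              rw [← hw2]; ring
    exact le_of_mul_le_mul_right h2 hfac
  · intro G r' j hj hpos hG heq
    have hr' : r' ≤ r := by
      haveI := hj
      exact CurveSub.rank_le_of_mono j hG hE
    have hw1 := hw r' hpos hr'
    have hw2 := hw _ hpos₁ hr₁
    have hr'Z : (0 : ℤ) < (r' : ℤ) := by exact_mod_cast hpos
    have hr₁Z : (0 : ℤ) < ((Nat.findGreatest Q r : ℕ) : ℤ) := by exact_mod_cast hpos₁
    have h2 : Curv2.deg k X G r' * ((w r' : ℕ) : ℤ) *
        ((r' : ℤ) * ((Nat.findGreatest Q r : ℕ) : ℤ)) =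
        Curv2.deg k X E₁ (Nat.findGreatest Q r) * ((w (Nat.findGreatest Q r) : ℕ) : ℤ) *
        ((r' : ℤ) * ((Nat.findGreatest Q r : ℕ) : ℤ)) := by
      calc Curv2.deg k X G r' * ((w r' : ℕ) : ℤ) * ((r' : ℤ) * ((Nat.findGreatest Q r : ℕ) : ℤ))
          = Curv2.deg k X G r' * ((Nat.findGreatest Q r : ℕ) : ℤ) *
              (((w r' : ℕ) : ℤ) * (r' : ℤ)) := by ring
        _ = Curv2.deg k X E₁ (Nat.findGreatest Q r) * (r' : ℤ) *
              (((w (Nat.findGreatest Q r) : ℕ) : ℤ) * ((Nat.findGreatest Q r : ℕ) : ℤ)) := by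
              rw [hw1, hw2, heq]
        _ = _ := by ring
    have h3 := mul_right_cancel₀ (mul_pos hr'Z hr₁Z).ne' h2
    rw [hval₁] at h3
    exact Nat.le_findGreatest hr' ⟨G, j, hj, hpos, hG, h3⟩

end MaxDestab

end VBCurve
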