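import Mathlib
import Groth.Prelude
import Groth.Agent.Lib.VBCurve6_helper9
import Groth.Agent.Lib.RelFPAff4_helper9

/-!
# Endomorphisms of finite locally free modules over an algebraically closed field: an eigenvalue
at a closed point (helper9).
APPEND-ONLY once landed.
-/

set_option autoImplicit false
universe u
open CategoryTheory CategoryTheory.Limits AlgebraicGeometry Opposite TopologicalSpace

namespace VBCurve

open QcqsLoc QCohExtn

section Eigen

variable (k : Type u) [Field k] [IsAlgClosed k] (X : Scheme.{u}) [X.Over (Spec (CommRingCat.of k))]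
  [LocallyOfFiniteType (X ↘ Spec (CommRingCat.of k))]

/-- the structure ring map `k → Γ(X, W)` -/
noncomputable def strHom (W : X.Opens) : k →+* Γ(X, W) :=
  (X.presheaf.map (homOfLE (le_top : W ≤ ⊤)).op).hom.comp
    (Coh.toGlobal (X ↘ Spec (CommRingCat.of k)))

theorem strHom_finiteType {W : X.Opens} (hW : IsAffineOpen W) : (strHom k X W).FiniteType := by
  have e : W ≤ (X ↘ Spec (CommRingCat.of k)) ⁻¹ᵁ ⊤ := le_top
  have h1 := Scheme.Hom.finiteType_appLE (X ↘ Spec (CommRingCat.of k))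
    (isAffineOpen_top (Spec (CommRingCat.of k))) hW e
  have h2 : ((Scheme.ΓSpecIso (CommRingCat.of k)).inv.hom).FiniteType :=
    RingHom.FiniteType.of_surjective _
      ((ConcreteCategory.bijective_of_isIso (Scheme.ΓSpecIso (CommRingCat.of k)).inv).2)
  have h3 := h1.comp h2
  exact h3

/-- the quotient of `Γ(X, W)` (for `W` affine) by a maximal ideal is `k` -/
theorem strHom_quotient_bijective {W : X.Opens} (hW : IsAffineOpen W) (𝔪 : Ideal Γ(X, W))
    [h𝔪 : 𝔪.IsMaximal] :
    Function.Bijective ((Ideal.Quotient.mk 𝔪).comp (strHom k X W)) := by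
  letI := Ideal.Quotient.field 𝔪
  have h1 : ((Ideal.Quotient.mk 𝔪).comp (strHom k X W)).FiniteType :=
    (RingHom.FiniteType.of_surjective _ Ideal.Quotient.mk_surjective).comp
      (strHom_finiteType k X hW)
  have h2 : ((Ideal.Quotient.mk 𝔪).comp (strHom k X W)).Finite :=
    RingHom.finite_iff_finiteType_of_isJacobsonRing.2 h1
  exact IsAlgClosed.ringHom_bijective_of_isIntegral _ h2.to_isIntegral

/-- sections of an isomorphism are bijective -/
theorem ap_bijective_of_isIso {E F : X.Modules} (ψ : E ⟶ F) [IsIso ψ] (W : X.Opens) :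
    Function.Bijective (ap ψ W) := by
  have h1 : ∀ m, ap (inv ψ) W (ap ψ W m) = m := fun m => by
    have := congrArg (fun g => ap g W m) (IsIso.hom_inv_id ψ)
    exact this
  have h2 : ∀ m, ap ψ W (ap (inv ψ) W m) = m := fun m => by
    have := congrArg (fun g => ap g W m) (IsIso.inv_hom_id ψ)
    exact this
  exact ⟨Function.LeftInverse.injective h1, Function.RightInverse.surjective h2⟩

/-- an endomorphism of a finite locally free module of positive rank over an algebraically closed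
field has an "eigenvalue": some `φ - c` is not an isomorphism -/
theorem exists_not_isIso_sub_smul [Nonempty X] {E : X.Modules} {r : ℕ} (hr : 0 < r)
    (hE : FlatMod.IsFinLocFreeOfRank r E) (φ : E ⟶ E) :
    ∃ c : k, ¬ IsIso (φ - c • 𝟙 E) := by
  obtain ⟨x⟩ := ‹Nonempty X›
  obtain ⟨U, hxU, ⟨α⟩⟩ := hE x
  obtain ⟨W, hW, hxW, -, t, ht⟩ := FLFH8.exists_affine_bases E hxU α
  obtain ⟨hsp, hli⟩ := ht W le_rfl
  have hfun : (fun j => rF E (le_refl W) (t j)) = t := funext fun j => SubExt.rF_self E _ _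
  rw [hfun] at hsp hli
  let b : Module.Basis (Fin r) Γ(X, W) Γ(E, W) := Module.Basis.mk hli hsp.ge
  haveI : Module.Free Γ(X, W) Γ(E, W) := Module.Free.of_basis b
  haveI : Module.Finite Γ(X, W) Γ(E, W) := Module.Finite.of_basis b
  have hne' : (W : Set X).Nonempty := ⟨x, hxW⟩
  haveI : Nonempty W := hne'.to_subtype
  haveI : Nontrivial Γ(X, W) := by
    have : Nonempty (W : Scheme.{u}) := ‹Nonempty W›
    exact inferInstance
  obtain ⟨𝔪, h𝔪⟩ := Ideal.exists_maximal Γ(X, W)
  haveI := h𝔪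
  letI := Ideal.Quotient.field 𝔪
  have hbij := strHom_quotient_bijective k X hW 𝔪
  haveI : IsAlgClosed (Γ(X, W) ⧸ 𝔪) :=
    IsAlgClosed.of_ringEquiv k (Γ(X, W) ⧸ 𝔪) (RingEquiv.ofBijective _ hbij)
  let φW : Γ(E, W) →ₗ[Γ(X, W)] Γ(E, W) := RelFPAff.appₗ φ W
  have hdeg : (φW.charpoly.map (Ideal.Quotient.mk 𝔪)).degree ≠ 0 := by
    rw [Polynomial.degree_map_eq_of_leadingCoeff_ne_zero]
    · rw [Polynomial.degree_eq_natDegree φW.charpoly_monic.ne_zero, LinearMap.charpoly_natDegree,
        Module.finrank_eq_card_basis b]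
      simp only [Fintype.card_fin]
      exact_mod_cast hr.ne'
    · rw [φW.charpoly_monic.leadingCoeff, map_one]
      exact one_ne_zero
  obtain ⟨cb, hcb⟩ := IsAlgClosed.exists_root _ hdeg
  obtain ⟨c, hc⟩ := hbij.2 cb
  refine ⟨c, fun hiso => ?_⟩
  -- the evaluation of the characteristic polynomial at `c` lies in `𝔪`
  have hmem : φW.charpoly.eval (strHom k X W c) ∈ 𝔪 := by
    rw [← Ideal.Quotient.eq_zero_iff_mem]
    have h1 : (φW.charpoly.map (Ideal.Quotient.mk 𝔪)).eval cb = 0 := hcb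
    rw [← hc] at h1
    have h2 : (φW.charpoly.map (Ideal.Quotient.mk 𝔪)).eval
        ((Ideal.Quotient.mk 𝔪) (strHom k X W c)) =
        (Ideal.Quotient.mk 𝔪) (φW.charpoly.eval (strHom k X W c)) := by
      rw [Polynomial.eval_map, Polynomial.eval₂_at_apply]
    exact h2.symm.trans h1
  rw [LinearMap.eval_charpoly] at hmem
  -- the sections of `φ - c` over `W`
  have hψ : ∀ m : Γ(E, W), ap (φ - c • 𝟙 E) W m = φW m - strHom k X W c • m := by
    intro m
    have h1 : ap (φ - c • 𝟙 E) W m = ap φ W m - ap (c • 𝟙 E) W m := by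
      have := congrArg (fun g => ap g W m) (sub_eq_add_neg φ (c • 𝟙 E))
      rfl
    rw [h1]
    have h2 : ap (c • 𝟙 E) W m = strHom k X W c • m := KLin.smul_app_apply c (𝟙 E) W m
    rw [h2]
    rfl
  have hbijψ := ap_bijective_of_isIso X (φ - c • 𝟙 E) W
  let ψW : Γ(E, W) →ₗ[Γ(X, W)] Γ(E, W) :=
    φW - algebraMap Γ(X, W) (Module.End Γ(X, W) Γ(E, W)) (strHom k X W c)
  have hψW : ∀ m, ψW m = ap (φ - c • 𝟙 E) W m := fun m => by
    rw [hψ]
    rfl
  have hbijW : Function.Bijective ψW := by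
    have : (ψW : Γ(E, W) → Γ(E, W)) = ap (φ - c • 𝟙 E) W := funext hψW
    rw [this]
    exact hbijψ
  have hunit : IsUnit (LinearMap.det ψW) :=
    LinearEquiv.isUnit_det' (LinearEquiv.ofBijective ψW hbijW)
  have hneg : algebraMap Γ(X, W) (Module.End Γ(X, W) Γ(E, W)) (strHom k X W c) - φW =
      (-1 : Γ(X, W)) • ψW := by
    simp [ψW]
  rw [hneg, LinearMap.det_smul] at hmem
  have hunit' : IsUnit ((-1 : Γ(X, W)) ^ Module.finrank Γ(X, W) Γ(E, W) * LinearMap.det ψW) :=
    (IsUnit.pow _ isUnit_one.neg).mul hunit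
  exact h𝔪.ne_top (Ideal.eq_top_of_isUnit_mem _ hmem hunit')

end Eigen

section Simple

variable (k : Type u) [Field k] (X : Scheme.{u}) [X.Over (Spec (CommRingCat.of k))]

/-- the scalar `c • 𝟙 E` is multiplication by `c` on the underlying abelian sheaf -/
theorem toSheaf_map_smul (E : X.Modules) (c : k) :
    (SheafOfModules.toSheaf X.ringCatSheaf).map (c • 𝟙 E) =
      Coh.smulAb E (Coh.toGlobal (X ↘ Spec (CommRingCat.of k)) c) := by
  rw [KLin.smul_id]
  rfl

variable [IsAlgClosed k] [IsIntegral X] [IsProper (X ↘ Spec (CommRingCat.of k))]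

/-- endomorphisms of a stable bundle are scalars -/
theorem endo_eq_smul_of_stable (hreg : ∀ x : X, IsRegularLocalRing (X.presheaf.stalk x))
    (hdim : topologicalKrullDim X = 1) {E : X.Modules} {r : ℕ} (hr : 0 < r)
    (hE : FlatMod.IsFinLocFreeOfRank r E) (hst : ModFun.IsSlopeStable k X E r) (φ : E ⟶ E) :
    ∃ c : k, φ = c • 𝟙 E := by
  haveI : Nonempty X := inferInstance
  obtain ⟨c, hc⟩ := exists_not_isIso_sub_smul k X hr hE φ
  refine ⟨c, ?_⟩
  by_contra hne
  exact hc (endo_isIso_of_stable k X hreg hdim hr hE hst _ (sub_ne_zero.2 hne))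

/-- endomorphisms of an invertible module are scalars -/
theorem endo_eq_smul_of_isInvertible (hdim : topologicalKrullDim X = 1) {L : X.Modules}
    (hL : PicF.IsInvertible L) (φ : L ⟶ L) : ∃ c : k, φ = c • 𝟙 L := by
  haveI : Nonempty X := inferInstance
  obtain ⟨c, hc⟩ := exists_not_isIso_sub_smul k X one_pos
    (FLFH8.finLocFreeOfRank_one_of_isInvertible hL) φ
  refine ⟨c, ?_⟩
  by_contra hne
  rcases line_hom_cases k X hdim hL hL (φ - c • 𝟙 L) with h | ⟨-, -, h⟩
  · exact hne (sub_eq_zero.1 h)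
  · exact hc (h rfl)

end Simple

end VBCurve
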