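import Mathlib
import Groth.Prelude
import Groth.Agent.Lib.VBCurve7_helper9
import Groth.Agent.Lib.CurveIdeal2_helper9
import Groth.Agent.Lib.CurveAmple5_helper9
import Groth.Agent.Lib.CurveRR1_helper9

/-!
# Curves over an algebraically closed field: global functions, zero-dimensional subschemes
(helper9).  APPEND-ONLY once landed.
-/

set_option autoImplicit false
universe u
open CategoryTheory CategoryTheory.Limits AlgebraicGeometry Opposite TopologicalSpace

namespace CurveSpec

open QcqsLoc QCohExtn

section Top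

variable {X : Scheme.{u}}

/-- on a locally Noetherian scheme a closed set of closed points has dimension at most zero -/
theorem dim_le_zero_of_closed_points [IsLocallyNoetherian X] (S : Set X) (hcl : IsClosed S)
    (h0 : ∀ x ∈ S, IsClosed ({x} : Set X)) : topologicalKrullDim S ≤ 0 := by
  haveI : DiscreteTopology S := by
    rw [discreteTopology_iff_forall_isClosed]
    intro s
    have h := ZeroDimAcyc.isClosed_of_subset X S hcl h0 (Subtype.val '' s)
      (by rintro _ ⟨y, -, rfl⟩; exact y.2)
    have hs : s = Subtype.val ⁻¹' (Subtype.val '' s) :=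
      (Set.preimage_image_eq s Subtype.val_injective).symm
    rw [hs]
    exact h.preimage continuous_subtype_val
  exact topologicalKrullDim_zero_of_discreteTopology S

/-- the ideal module of the zero ideal sheaf is zero -/
theorem idealModι_bot_eq_zero : ClSub.idealModι (⊥ : X.IdealSheafData) = 0 := by
  apply Scheme.Modules.hom_ext
  intro O
  ext σ
  show ap (ClSub.idealModι (⊥ : X.IdealSheafData)) O σ = 0
  apply eq_zero_of_cover
  intro x hx
  obtain ⟨W, hW, hxW, hWO⟩ := Opens.isBasis_iff_nbhd.mp X.isBasis_affineOpens hx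
  refine ⟨W, hWO, hxW, ?_⟩
  rw [← ap_rF]
  have h1 : Groth.Agent.Lib.OmegaAffH4.idealModEquiv (⊥ : X.IdealSheafData) hW
      (rF (ClSub.idealMod ⊥) hWO σ) = 0 := by
    apply Subtype.ext
    have hmem := (Groth.Agent.Lib.OmegaAffH4.idealModEquiv (⊥ : X.IdealSheafData) hW
      (rF (ClSub.idealMod ⊥) hWO σ)).2
    have hmem' : (Groth.Agent.Lib.OmegaAffH4.idealModEquiv (⊥ : X.IdealSheafData) hW
      (rF (ClSub.idealMod ⊥) hWO σ)).1 ∈ (⊥ : Ideal Γ(X, W)) := hmem
    exact (Ideal.mem_bot.1 hmem')
  have h2 : rF (ClSub.idealMod ⊥) hWO σ = 0 :=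
    (Groth.Agent.Lib.OmegaAffH4.idealModEquiv (⊥ : X.IdealSheafData) hW).map_eq_zero_iff.1 h1
  rw [h2, map_zero]

/-- `O_X → O_X / 0` is an isomorphism -/
theorem isIso_toSubscheme_bot : IsIso (ClSub.toSubscheme (⊥ : X.IdealSheafData)) := by
  have hS := Groth.Agent.HypSurf.ses_shortExact (⊥ : X.IdealSheafData)
  haveI : Epi (ClSub.toSubscheme (⊥ : X.IdealSheafData)) := hS.epi_g
  haveI : Mono (ClSub.toSubscheme (⊥ : X.IdealSheafData)) :=
    Preadditive.mono_of_kernel_zero idealModι_bot_eq_zero
  exact isIso_of_mono_of_epi _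

end Top

section Curve

variable (k : Type u) [Field k] (X : Scheme.{u}) [X.Over (Spec (CommRingCat.of k))]
  [IsIntegral X] [IsProper (X ↘ Spec (CommRingCat.of k))]

/-- a closed subscheme of an integral proper curve whose `h⁰(O_Z)` differs from `h⁰(O_X)` has
dimension at most zero -/
theorem dim_support_le_zero (hdim : topologicalKrullDim X ≤ 1) (Z : X.IdealSheafData)
    (hne : Module.finrank k (Coh.HH X (ClSub.quotMod Z) 0) ≠
      Module.finrank k (Coh.HH X (Coh.structureModule X) 0)) :
    topologicalKrullDim (Z.support : Set X) ≤ 0 := by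
  haveI : IsLocallyNoetherian X :=
    LocallyOfFiniteType.isLocallyNoetherian (X ↘ Spec (CommRingCat.of k))
  by_cases htop : Z.support = ⊤
  · exfalso
    rw [Scheme.IdealSheafData.support_eq_top_iff] at htop
    subst htop
    haveI := isIso_toSubscheme_bot (X := X)
    exact hne (CurveAmple.finrank_HH_of_iso k X
      (asIso (ClSub.toSubscheme (⊥ : X.IdealSheafData))) 0).symm
  · have hUne : ((⟨(Z.support : Set X)ᶜ, Z.support.isClosed.isOpen_compl⟩ : X.Opens) :
        Set X).Nonempty := by
      by_contra hemp
      apply htop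
      rw [Set.not_nonempty_iff_eq_empty] at hemp
      apply TopologicalSpace.Closeds.ext
      have : (Z.support : Set X)ᶜ = ∅ := hemp
      rw [Set.compl_empty_iff] at this
      exact this
    exact dim_le_zero_of_closed_points _ Z.support.isClosed (fun x hx =>
      CurveVan.isClosed_singleton_of_notMem_open hdim _ hUne x (fun h => h hx))

variable [IsAlgClosed k]

/-- over an algebraically closed field, global functions on an integral proper curve are
constants -/
theorem finrank_HH0_structureModule (hdim : topologicalKrullDim X = 1) :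
    Module.finrank k (Coh.HH X (Coh.structureModule X) 0) = 1 := by
  rw [← (CurveIdeal.thetaEquiv k (Coh.structureModule X)).finrank_eq]
  haveI : Nonempty X := inferInstance
  have hne : 𝟙 (Coh.structureModule X) ≠ 0 := by
    intro h
    exact VBCurve.not_isZero_of_isInvertible (TensH8.isInvertible_structureModule (X := X))
      ((IsZero.iff_id_eq_zero _).2 h)
  refine finrank_eq_one (𝟙 (Coh.structureModule X)) hne (fun φ => ?_)
  obtain ⟨c, hc⟩ := VBCurve.endo_eq_smul_of_isInvertible k X hdim
    (TensH8.isInvertible_structureModule (X := X)) φ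
  exact ⟨c, hc.symm⟩

end Curve

section Impose

variable (k : Type u) [Field k] (X : Scheme.{u}) [X.Over (Spec (CommRingCat.of k))]
  [IsIntegral X] [IsProper (X ↘ Spec (CommRingCat.of k))]

/-- a zero-dimensional subscheme of small degree imposes independent conditions on `H⁰(L)` -/
theorem finrank_HH0_ideal_add (hdim : topologicalKrullDim X = 1)
    (h0 : Module.finrank k (Coh.HH X (Coh.structureModule X) 0) = 1)
    {L : X.Modules} (hL : PicF.IsInvertible L) (Z : X.IdealSheafData)
    (hne : Module.finrank k (Coh.HH X (ClSub.quotMod Z) 0) ≠ 1)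
    (hdeg : 2 * (Curv2.genus k X : ℤ) - 2 + Module.finrank k (Coh.HH X (ClSub.quotMod Z) 0) <
      Curv2.deg k X L 1) :
    Module.finrank k (Coh.HH X (CohB1.tensorMod (ClSub.idealMod Z) L) 0) +
      Module.finrank k (Coh.HH X (ClSub.quotMod Z) 0) = Module.finrank k (Coh.HH X L 0) := by
  haveI : IsLocallyNoetherian X :=
    LocallyOfFiniteType.isLocallyNoetherian (X ↘ Spec (CommRingCat.of k))
  have hZ := dim_support_le_zero k X hdim.le Z (by rw [h0]; exact hne)
  haveI h1 := (CurveIdeal.genus_zero_of_deg_gt k X hdim h0 hL Z hZ hdeg).1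
  haveI h2 : Subsingleton (Coh.HH X L 1) :=
    CurveAmple.HH1_subsingleton_of_deg_ge k X hdim.le hL (by
      have : (0 : ℤ) ≤ (Module.finrank k (Coh.HH X (ClSub.quotMod Z) 0) : ℤ) := by positivity
      linarith)
  have e := CurveIdeal.euler_eq_add k X Z hZ hL
  have hLc := ProperFinH9.isCoh_of_isInvertible hL
  haveI := hLc.1
  haveI := (CurveIdeal.isCoh_idealMod Z).1
  haveI : (CohB1.tensorMod (ClSub.idealMod Z) L).IsQuasicoherent :=
    TensQCH8.isQuasicoherent_tensorMod _ _
  rw [CurveRR.euler_eq_sub k X hdim.le L,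
    CurveRR.euler_eq_sub k X hdim.le (CohB1.tensorMod (ClSub.idealMod Z) L),
    Module.finrank_zero_of_subsingleton (M := Coh.HH X L 1),
    Module.finrank_zero_of_subsingleton
      (M := Coh.HH X (CohB1.tensorMod (ClSub.idealMod Z) L) 1)] at e
  have e' : (Module.finrank k (Coh.HH X L 0) : ℤ) =
      (Module.finrank k (Coh.HH X (CohB1.tensorMod (ClSub.idealMod Z) L) 0) : ℤ) +
        (Module.finrank k (Coh.HH X (ClSub.quotMod Z) 0) : ℤ) := by
    simpa using e
  exact_mod_cast e'.symm

end Impose

end CurveSpec
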