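import Mathlib
import Groth.Prelude
import Groth.Agent.Lib.CurveGG1_helper9
import Groth.Agent.Lib.CurveSpec1_helper9

/-!
# Invertible modules of degree `≥ 2g` on an integral proper curve are globally generated (helper9).
APPEND-ONLY once landed.
-/

set_option autoImplicit false
universe u
open CategoryTheory CategoryTheory.Limits AlgebraicGeometry Opposite TopologicalSpace

namespace CurveGG

open QcqsLoc QCohExtn GenLocH8 TensH8 FLFH8 CohB1 Groth.Agent.HHVan CurveAmple

section Ideal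

variable {X : Scheme.{u}}

/-- a function not invertible at the closed point `x` lies in the vanishing ideal of `x` -/
theorem mem_vanishingIdeal_of_notMem_basicOpen {x : X} (hx : IsClosed ({x} : Set X))
    {W : X.Opens} (hW : IsAffineOpen W) (f : Γ(X, W)) (hf : x ∉ X.basicOpen f) :
    f ∈ (Scheme.IdealSheafData.vanishingIdeal ⟨{x}, hx⟩).ideal ⟨W, hW⟩ := by
  rw [Scheme.IdealSheafData.vanishingIdeal_ideal, PrimeSpectrum.mem_vanishingIdeal]
  intro p hp
  by_contra hfp
  apply hf
  have h1 : p ∈ PrimeSpectrum.basicOpen f := hfp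
  rw [← hW.fromSpec_preimage_basicOpen f] at h1
  have h2 : hW.fromSpec p = x := hp
  rw [← h2]
  exact h1

/-- the quotient map `O → O/I` vanishes only for the unit ideal -/
theorem eq_top_of_toSubscheme_eq_zero (Z : X.IdealSheafData) (h : ClSub.toSubscheme Z = 0) :
    Z = ⊤ := by
  have hS := Groth.Agent.HypSurf.ses_shortExact Z
  haveI : Epi (ClSub.toSubscheme Z) := Groth.Agent.HypSurf.epi_toSubscheme Z
  haveI : IsIso (ClSub.idealModι Z) :=
    hS.isIso_f_iff.mpr (IsZero.of_epi_eq_zero (ClSub.toSubscheme Z) h : IsZero (ClSub.quotMod Z))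
  apply Scheme.IdealSheafData.ext
  rw [Scheme.IdealSheafData.ideal_top]
  funext U
  rw [Pi.top_apply, Ideal.eq_top_iff_one]
  have h2 : ap (ClSub.idealModι Z) U.1 (ap (inv (ClSub.idealModι Z)) U.1 (toM (1 : Γ(X, U.1)))) =
      toM (1 : Γ(X, U.1)) := by
    have := congrArg (fun g => ap g U.1 (toM (1 : Γ(X, U.1)))) (IsIso.inv_hom_id (ClSub.idealModι Z))
    exact this
  have h1 := TensH8.idealModι_mem Z U.2 (ap (inv (ClSub.idealModι Z)) U.1 (toM (1 : Γ(X, U.1))))
  rw [h2] at h1
  exact h1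

theorem toSubscheme_ne_zero {x : X} (hx : IsClosed ({x} : Set X)) :
    ClSub.toSubscheme (Scheme.IdealSheafData.vanishingIdeal ⟨{x}, hx⟩) ≠ 0 := by
  intro h
  have h1 := eq_top_of_toSubscheme_eq_zero _ h
  have h2 : ((Scheme.IdealSheafData.vanishingIdeal ⟨{x}, hx⟩).support : Set X) = {x} :=
    Scheme.IdealSheafData.coe_support_vanishingIdeal _
  rw [h1, Scheme.IdealSheafData.support_top] at h2
  have h3 : x ∈ ((⊥ : Closeds X) : Set X) := by rw [h2]; rfl
  exact h3

end Ideal

section Twist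

variable {X : Scheme.{u}}

/-- the inclusion `I ⊗ L → L` -/
noncomputable def twistι (Z : X.IdealSheafData) (L : X.Modules) :
    CohB1.tensorMod (ClSub.idealMod Z) L ⟶ L :=
  (Groth.Agent.TensInv.tR L).map (ClSub.idealModι Z) ≫ (Groth.Agent.CMMul.unitorL L).hom

theorem mono_twistι (Z : X.IdealSheafData) {L : X.Modules} (hL : PicF.IsInvertible L) :
    Mono (twistι Z L) := by
  haveI h1 : Mono ((Groth.Agent.TensInv.tR L).map (ClSub.idealModι Z)) :=
    CurveTens.mono_tR hL (ClSub.idealModι Z)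
  have h2 : Mono (Groth.Agent.CMMul.unitorL L).hom := inferInstance
  exact @mono_comp _ _ _ _ _ _ h1 _ h2

theorem ap_twistι_tmul (Z : X.IdealSheafData) (L : X.Modules) {W : X.Opens} (hW : IsAffineOpen W)
    (f : Γ(X, W)) (hf : f ∈ Z.ideal ⟨W, hW⟩) (e : Γ(L, W)) :
    ∃ m : Γ(CohB1.tensorMod (ClSub.idealMod Z) L, W), ap (twistι Z L) W m = f • e := by
  obtain ⟨t, ht⟩ := TensH8.exists_idealMod_section Z hW f hf
  refine ⟨SecTwist.tmul (ClSub.idealMod Z) L W t e, ?_⟩
  show ap (Groth.Agent.CMMul.unitorL L).hom W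
    (ap ((Groth.Agent.TensInv.tR L).map (ClSub.idealModι Z)) W
      (SecTwist.tmul (ClSub.idealMod Z) L W t e)) = f • e
  rw [Groth.Agent.CMMul.ap_tR_map_tmul]
  have h1 : ap (ClSub.idealModι Z) W t = SerreCrit.ofFn f := by
    rw [← ht]
  rw [h1, Groth.Agent.CMMul.unitorL_tmul']

/-- a section of `L` not generating `L` at the closed point `x` vanishes in `L / I_x L` -/
theorem comp_cokernel_eq_zero {x : X} (hx : IsClosed ({x} : Set X)) {L : X.Modules}
    (hL : PicF.IsInvertible L) (σ : Coh.structureModule X ⟶ L) (hσ : ¬ CurveLin.GenAt L σ x) :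
    σ ≫ cokernel.π (twistι (Scheme.IdealSheafData.vanishingIdeal ⟨{x}, hx⟩) L) = 0 := by
  set Z := Scheme.IdealSheafData.vanishingIdeal ⟨{x}, hx⟩ with hZ
  apply CurveIdeal.hom_eq_zero_of_ap_one
  show ap (cokernel.π (twistι Z L)) ⊤ (ap σ ⊤ (toM (1 : Γ(X, ⊤)))) = 0
  apply eq_zero_of_cover
  intro y _
  obtain ⟨W, hW, hyW, e, he⟩ := exists_isGen hL y
  refine ⟨W, le_top, hyW, ?_⟩
  rw [← ap_rF, CurveLin.ap_one_res σ le_top]
  obtain ⟨f, hf⟩ := he.exists_coef (ap σ W (toM (1 : Γ(X, W))))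
  have hxf : x ∉ X.basicOpen f := by
    intro hxf
    apply hσ
    refine ⟨X.basicOpen f, hxf, ?_⟩
    rw [← CurveLin.ap_one_res σ (X.basicOpen_le f), hf, rF_smul]
    exact isGen_smul_of_isUnit (he.res (X.basicOpen_le f))
      (X.toRingedSpace.isUnit_res_basicOpen f)
  have hfZ : f ∈ Z.ideal ⟨W, hW⟩ := mem_vanishingIdeal_of_notMem_basicOpen hx hW f hxf
  obtain ⟨m, hm⟩ := ap_twistι_tmul Z L hW f hfZ e
  rw [hf, ← hm]
  have h1 : ap (cokernel.π (twistι Z L)) W (ap (twistι Z L) W m) =
      ap (twistι Z L ≫ cokernel.π (twistι Z L)) W m := rfl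
  rw [h1, cokernel.condition]
  rfl

/-- a section of `L` not generating `L` at the closed point `x` comes from `I_x ⊗ L` -/
theorem exists_lift_of_not_genAt {x : X} (hx : IsClosed ({x} : Set X)) {L : X.Modules}
    (hL : PicF.IsInvertible L) (σ : Coh.structureModule X ⟶ L) (hσ : ¬ CurveLin.GenAt L σ x) :
    ∃ s : Coh.structureModule X ⟶
        CohB1.tensorMod (ClSub.idealMod (Scheme.IdealSheafData.vanishingIdeal ⟨{x}, hx⟩)) L,
      s ≫ twistι (Scheme.IdealSheafData.vanishingIdeal ⟨{x}, hx⟩) L = σ := by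
  haveI := mono_twistι (Scheme.IdealSheafData.vanishingIdeal ⟨{x}, hx⟩) hL
  exact ⟨Abelian.monoLift _ σ (comp_cokernel_eq_zero hx hL σ hσ), Abelian.monoLift_comp _ _ _⟩

end Twist

section Curve

variable (k : Type u) [Field k] (X : Scheme.{u}) [X.Over (Spec (CommRingCat.of k))]
  [IsIntegral X] [IsProper (X ↘ Spec (CommRingCat.of k))]

/-- **no base points in degree `≥ 2g`**, at closed points -/
theorem exists_section_genAt_of_closed (hdim : topologicalKrullDim X ≤ 1) {L : X.Modules}
    (hL : PicF.IsInvertible L) (hdeg : 2 * (Curv2.genus k X : ℤ) ≤ Curv2.deg k X L 1)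
    {x : X} (hx : IsClosed ({x} : Set X)) :
    ∃ σ : Coh.structureModule X ⟶ L, CurveLin.GenAt L σ x := by
  haveI : IsLocallyNoetherian X :=
    LocallyOfFiniteType.isLocallyNoetherian (X ↘ Spec (CommRingCat.of k))
  by_contra hno
  push_neg at hno
  set Z := Scheme.IdealSheafData.vanishingIdeal ⟨{x}, hx⟩ with hZdef
  haveI := mono_twistι Z hL
  have hOc := CohDevH8.isCoh_structureModule X
  have hLc := ProperFinH9.isCoh_of_isInvertible hL
  have hIc := CurveIdeal.isCoh_idealMod Z
  have hFc := isCoh_tensorMod X hIc hL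
  haveI := hOc.1
  haveI := hLc.1
  haveI := hFc.1
  -- `h⁰(L) ≤ h⁰(I ⊗ L)`
  have hsurj : Function.Surjective
      (Linear.rightComp k (Coh.structureModule X) (twistι Z L)) := by
    intro σ
    obtain ⟨s, hs⟩ := exists_lift_of_not_genAt hx hL σ (hno σ)
    exact ⟨s, hs⟩
  haveI := ProperFinH9.finite_HH_of_proper k X _ hFc 0
  haveI : Module.Finite k (Coh.structureModule X ⟶ CohB1.tensorMod (ClSub.idealMod Z) L) :=
    Module.Finite.equiv (CurveIdeal.thetaEquiv k _).symm
  have h1 := LinearMap.finrank_le_finrank_of_surjective hsurj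
  rw [(CurveIdeal.thetaEquiv k L).finrank_eq, (CurveIdeal.thetaEquiv k _).finrank_eq] at h1
  -- `Z` is zero-dimensional
  have hZ : topologicalKrullDim (Z.support : Set X) ≤ 0 := by
    have h2 : (Z.support : Set X) = {x} := Scheme.IdealSheafData.coe_support_vanishingIdeal _
    rw [h2]
    exact CurveSpec.dim_le_zero_of_closed_points {x} hx
      (fun y hy => by rw [Set.mem_singleton_iff.mp hy]; exact hx)
  -- `deg Z ≥ 1`
  have hz : 1 ≤ Module.finrank k (Coh.HH X (ClSub.quotMod Z) 0) := by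
    haveI := ProperFinH9.finite_HH_of_proper k X _ (CurveIdeal.isCoh_quotMod Z) 0
    rw [Nat.one_le_iff_ne_zero, Ne, Module.finrank_eq_zero_iff_of_free]
    intro hsub
    apply toSubscheme_ne_zero hx
    apply (CurveIdeal.thetaEquiv k (ClSub.quotMod Z)).injective
    exact Subsingleton.elim _ _
  have hH1L : Subsingleton (Coh.HH X L 1) :=
    HH1_subsingleton_of_deg_ge k X hdim hL (by omega)
  have e2 := CurveRR.euler_eq_sub k X hdim L
  have e3 := CurveRR.euler_eq_sub k X hdim (Coh.structureModule X)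
  have e4 := CurveRR.euler_eq_sub k X hdim (CohB1.tensorMod (ClSub.idealMod Z) L)
  have e5 := CurveIdeal.euler_eq_add k X Z hZ hL
  have e6 := one_le_finrank_HH0_structureModule k X
  have e7 : Module.finrank k (Coh.HH X L 1) = 0 := Module.finrank_zero_of_subsingleton
  have hg : Curv2.genus k X = Module.finrank k (Coh.HH X (Coh.structureModule X) 1) := rfl
  unfold Curv2.deg at hdeg
  rw [hg] at hdeg
  by_cases hF1 : Subsingleton (Coh.HH X (CohB1.tensorMod (ClSub.idealMod Z) L) 1)
  · have e8 : Module.finrank k (Coh.HH X (CohB1.tensorMod (ClSub.idealMod Z) L) 1) = 0 :=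
      Module.finrank_zero_of_subsingleton
    rw [e7] at e2
    rw [e8] at e4
    push_cast at e2 e4 hdeg
    omega
  · rw [not_subsingleton_iff_nontrivial] at hF1
    have e9 := finrank_HH0_le_genus_of_special k X hdim hFc hL (twistι Z L) hF1
    rw [hg] at e9
    rw [e7] at e2
    push_cast at e2 hdeg
    omega

end Curve

end CurveGG
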