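import Mathlib
import Groth.Prelude
import Groth.Agent.Lib.CurveGG2_helper9
import Groth.Agent.Lib.GlobGen_helper9

/-!
# Global generation in degree `≥ 2g` on an integral proper curve (helper9).
APPEND-ONLY once landed.
-/

set_option autoImplicit false
universe u
open CategoryTheory CategoryTheory.Limits AlgebraicGeometry Opposite TopologicalSpace

namespace CurveGG

open QcqsLoc QCohExtn GenLocH8 TensH8 FLFH8 CohB1 Groth.Agent.HHVan CurveAmple

section General

variable {X : Scheme.{u}}

/-- a section generating `L` near `x` has `x` in its generating locus -/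
theorem mem_genLocus_of_genAt {L : X.Modules} (σ : Coh.structureModule X ⟶ L) {x : X}
    (h : CurveLin.GenAt L σ x) : x ∈ CohB1.genLocus L σ := by
  obtain ⟨V, hxV, hV⟩ := h
  have h1 := genLocus_inf_eq_basicOpen σ _ hV (1 : Γ(X, V)) (one_smul _ _).symm
  have h2 : X.basicOpen (1 : Γ(X, V)) = V := Scheme.basicOpen_of_isUnit X isUnit_one
  rw [h2] at h1
  have h3 : x ∈ CohB1.genLocus L σ ⊓ V := by rw [h1]; exact hxV
  exact h3.1

set_option backward.isDefEq.respectTransparency false in
/-- a module generated at every point by some global section is globally generated -/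
theorem isGloballyGenerated_of_forall_genAt {L : X.Modules}
    (h : ∀ x : X, ∃ σ : Coh.structureModule X ⟶ L, CurveLin.GenAt L σ x) :
    Curv2.IsGloballyGenerated L := by
  let s : Γ(L, ⊤) → SheafOfModules.sections (R := X.ringCatSheaf) L := GlobGen.globalSection L
  let A : X.Modules := SheafOfModules.free (R := X.ringCatSheaf) Γ(L, ⊤)
  let p : A ⟶ L := (SheafOfModules.freeHomEquiv L).symm s
  refine ⟨Γ(L, ⊤), p, ?_⟩
  apply GlobGen.epi_of_surjective_on_basis p
    {U : X.Opens | ∃ σ : Coh.structureModule X ⟶ L, IsGen L U (ap σ U (toM (1 : Γ(X, U))))}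
  · rw [Opens.isBasis_iff_nbhd]
    intro O y hy
    obtain ⟨σ, V, hyV, hV⟩ := h y
    refine ⟨O ⊓ V, ⟨σ, ?_⟩, ⟨hy, hyV⟩, inf_le_left⟩
    rw [← CurveLin.ap_one_res σ (inf_le_right : O ⊓ V ≤ V)]
    exact hV.res inf_le_right
  · rintro U ⟨σ, hU⟩ t
    obtain ⟨c, hc⟩ := hU.exists_coef t
    let g : Γ(L, ⊤) := ap σ ⊤ (toM (1 : Γ(X, ⊤)))
    obtain ⟨e, he⟩ : ∃ e : Γ(A, U), p.app U e = rF L (le_top : U ≤ ⊤) g := by
      refine ⟨(SheafOfModules.freeSection (R := X.ringCatSheaf) g).val (op U), ?_⟩
      have h1 := SheafOfModules.sectionsMap_freeHomEquiv_symm_freeSection (M := L) s g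
      have h2 := congrArg (fun τ => τ.val (op U)) h1
      exact h2
    refine ⟨c • e, ?_⟩
    rw [Scheme.Modules.Hom.app_smul, he, hc, CurveLin.ap_one_res σ le_top]

end General

section Curve

variable (k : Type u) [Field k] (X : Scheme.{u}) [X.Over (Spec (CommRingCat.of k))]
  [IsIntegral X] [IsProper (X ↘ Spec (CommRingCat.of k))]

/-- **no base points in degree `≥ 2g`** -/
theorem exists_section_genAt (hdim : topologicalKrullDim X ≤ 1) {L : X.Modules}
    (hL : PicF.IsInvertible L) (hdeg : 2 * (Curv2.genus k X : ℤ) ≤ Curv2.deg k X L 1) (x : X) :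
    ∃ σ : Coh.structureModule X ⟶ L, CurveLin.GenAt L σ x := by
  haveI : CompactSpace X :=
    QuasiCompact.compactSpace_of_compactSpace (X ↘ Spec (CommRingCat.of k))
  obtain ⟨y, hy, hycl⟩ := IsClosed.exists_closed_singleton (isClosed_closure (s := ({x} : Set X)))
    ⟨x, subset_closure rfl⟩
  obtain ⟨σ, V, hyV, hV⟩ := exists_section_genAt_of_closed k X hdim hL hdeg hycl
  refine ⟨σ, V, ?_, hV⟩
  obtain ⟨z, hzV, hz⟩ := mem_closure_iff.mp hy V V.isOpen hyV
  rw [Set.mem_singleton_iff.mp hz] at hzV
  exact hzV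

/-- **an invertible module of degree `≥ 2g` on an integral proper curve is globally generated** -/
theorem isGloballyGenerated_of_deg_ge (hdim : topologicalKrullDim X ≤ 1) {L : X.Modules}
    (hL : PicF.IsInvertible L) (hdeg : 2 * (Curv2.genus k X : ℤ) ≤ Curv2.deg k X L 1) :
    Curv2.IsGloballyGenerated L :=
  isGloballyGenerated_of_forall_genAt (exists_section_genAt k X hdim hL hdeg)

/-- every point lies in the generating locus of some global section, in degree `≥ 2g` -/
theorem exists_section_mem_genLocus (hdim : topologicalKrullDim X ≤ 1) {L : X.Modules}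
    (hL : PicF.IsInvertible L) (hdeg : 2 * (Curv2.genus k X : ℤ) ≤ Curv2.deg k X L 1) (x : X) :
    ∃ σ : Coh.structureModule X ⟶ L, x ∈ CohB1.genLocus L σ := by
  obtain ⟨σ, hσ⟩ := exists_section_genAt k X hdim hL hdeg x
  exact ⟨σ, mem_genLocus_of_genAt σ hσ⟩

end Curve

end CurveGG
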