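import Mathlib
import Groth.Prelude
import Groth.Agent.Lib.CurveGG3_helper9
import Groth.Agent.Lib.VBCurve7_helper9
import Groth.Agent.Lib.GG3_helper8

/-!
# Sections of an invertible module at a closed point of an integral proper curve (helper9).
A global section generates `L` at the closed point `x` iff it does not come from `I_x ⊗ L`; over
an algebraically closed field the sections of `I_x ⊗ L` have codimension `≤ 1`.
APPEND-ONLY once landed.
-/

set_option autoImplicit false
universe u
open CategoryTheory CategoryTheory.Limits AlgebraicGeometry Opposite TopologicalSpace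

namespace CurvePt

open QcqsLoc QCohExtn GenLocH8 TensH8 FLFH8 CohB1 Groth.Agent.HHVan CurveAmple CurveGG

section General

variable {X : Scheme.{u}}

/-- the ideal of a closed point on an affine open containing it -/
theorem vanishingIdeal_ideal_eq {x : X} (hx : IsClosed ({x} : Set X)) {W : X.Opens}
    (hW : IsAffineOpen W) (hxW : x ∈ W) :
    (Scheme.IdealSheafData.vanishingIdeal ⟨{x}, hx⟩).ideal ⟨W, hW⟩ =
      (hW.primeIdealOf ⟨x, hxW⟩).asIdeal := by
  rw [Scheme.IdealSheafData.vanishingIdeal_ideal]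
  ext f
  rw [PrimeSpectrum.mem_vanishingIdeal]
  constructor
  · intro h
    exact h _ (hW.fromSpec_primeIdealOf ⟨x, hxW⟩)
  · intro h p hp
    have h1 : p = hW.primeIdealOf ⟨x, hxW⟩ := by
      apply hW.fromSpec.isOpenEmbedding.injective
      rw [hW.fromSpec_primeIdealOf ⟨x, hxW⟩]
      exact hp
    rw [h1]
    exact h

/-- functions in the ideal of a closed point are not invertible there -/
theorem notMem_basicOpen_of_mem_vanishingIdeal {x : X} (hx : IsClosed ({x} : Set X))
    {W : X.Opens} (hW : IsAffineOpen W) (hxW : x ∈ W) (f : Γ(X, W))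
    (hf : f ∈ (Scheme.IdealSheafData.vanishingIdeal ⟨{x}, hx⟩).ideal ⟨W, hW⟩) :
    x ∉ X.basicOpen f := by
  rw [vanishingIdeal_ideal_eq hx hW hxW] at hf
  intro hxf
  have h1 : hW.fromSpec (hW.primeIdealOf ⟨x, hxW⟩) ∈ X.basicOpen f := by
    rw [hW.fromSpec_primeIdealOf ⟨x, hxW⟩]
    exact hxf
  have h2 : hW.primeIdealOf ⟨x, hxW⟩ ∈ hW.fromSpec ⁻¹ᵁ X.basicOpen f := h1
  rw [hW.fromSpec_preimage_basicOpen f] at h2
  exact h2 hf

/-- the ideal of a closed point on an affine open containing it is maximal -/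
theorem isMaximal_vanishingIdeal_ideal {x : X} (hx : IsClosed ({x} : Set X)) {W : X.Opens}
    (hW : IsAffineOpen W) (hxW : x ∈ W) :
    ((Scheme.IdealSheafData.vanishingIdeal ⟨{x}, hx⟩).ideal ⟨W, hW⟩).IsMaximal := by
  rw [vanishingIdeal_ideal_eq hx hW hxW, ← PrimeSpectrum.isClosed_singleton_iff_isMaximal]
  have h1 : ({hW.primeIdealOf ⟨x, hxW⟩} : Set (PrimeSpectrum Γ(X, W))) =
      hW.fromSpec ⁻¹' {x} := by
    ext p
    simp only [Set.mem_singleton_iff, Set.mem_preimage]
    constructor
    · rintro rfl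
      exact hW.fromSpec_primeIdealOf ⟨x, hxW⟩
    · intro hp
      apply hW.fromSpec.isOpenEmbedding.injective
      rw [hW.fromSpec_primeIdealOf ⟨x, hxW⟩]
      exact hp
  rw [h1]
  exact hx.preimage hW.fromSpec.continuous

/-- a point of the generating locus is a point where the section generates -/
theorem genAt_of_mem_genLocus {L : X.Modules} (σ : Coh.structureModule X ⟶ L) {x : X}
    (h : x ∈ CohB1.genLocus L σ) : CurveLin.GenAt L σ x := by
  obtain ⟨V, hxV, hV⟩ := (mem_genLocus_iff L σ x).1 h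
  refine ⟨V, hxV, fun O hO => ?_⟩
  rw [CurveLin.ap_one_res σ hO]
  constructor
  · intro l
    obtain ⟨a, ha⟩ := (hV O hO).2 l
    refine ⟨ofM a, ?_⟩
    rw [← ap_smul]
    have h1 : ofM a • toM (1 : Γ(X, O)) = a := mul_one (ofM a)
    rw [h1]
    exact ha.symm
  · intro c hc
    rw [← ap_smul] at hc
    have h1 : c • toM (1 : Γ(X, O)) = 0 := (hV O hO).1 (hc.trans (map_zero _).symm)
    have h2 : c • toM (1 : Γ(X, O)) = toM c := mul_one c
    rw [h2] at h1
    exact h1

theorem genAt_iff_mem_genLocus {L : X.Modules} (σ : Coh.structureModule X ⟶ L) {x : X} :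
    CurveLin.GenAt L σ x ↔ x ∈ CohB1.genLocus L σ :=
  ⟨mem_genLocus_of_genAt σ, genAt_of_mem_genLocus σ⟩

/-- in terms of a local generator: `σ` generates at `x` iff its coefficient is invertible at `x` -/
theorem genAt_iff_mem_basicOpen {L : X.Modules} (σ : Coh.structureModule X ⟶ L) {W : X.Opens}
    {e : Γ(L, W)} (he : IsGen L W e) {g : Γ(X, W)} (hg : ap σ W (toM (1 : Γ(X, W))) = g • e)
    {x : X} (hxW : x ∈ W) : CurveLin.GenAt L σ x ↔ x ∈ X.basicOpen g := by
  rw [genAt_iff_mem_genLocus, ← genLocus_inf_eq_basicOpen σ e he g hg]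
  exact ⟨fun h => ⟨h, hxW⟩, fun h => h.1⟩

/-- sections of `I ⊗ L` map to multiples of a local generator with coefficients in `I` -/
theorem ap_twistι_tmul_eq (Z : X.IdealSheafData) (L : X.Modules) (W : X.Opens)
    (a : Γ(ClSub.idealMod Z, W)) (e : Γ(L, W)) :
    ap (twistι Z L) W (SecTwist.tmul (ClSub.idealMod Z) L W a e) =
      SerreCrit.toFn (ap (ClSub.idealModι Z) W a) • e := by
  show ap (Groth.Agent.CMMul.unitorL L).hom W
    (ap ((Groth.Agent.TensInv.tR L).map (ClSub.idealModι Z)) W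
      (SecTwist.tmul (ClSub.idealMod Z) L W a e)) = _
  rw [Groth.Agent.CMMul.ap_tR_map_tmul]
  exact Groth.Agent.CMMul.unitorL_tmul' L W e (SerreCrit.toFn (ap (ClSub.idealModι Z) W a))

/-- a section coming from `I ⊗ L` does not generate `L` at a point where `I` vanishes -/
theorem not_genAt_of_factors' (Z : X.IdealSheafData) {x : X}
    (hZx : ∀ {W : X.Opens} (hW : IsAffineOpen W), x ∈ W → ∀ f ∈ Z.ideal ⟨W, hW⟩,
      x ∉ X.basicOpen f) {L : X.Modules} (hL : PicF.IsInvertible L)
    (s : Coh.structureModule X ⟶ CohB1.tensorMod (ClSub.idealMod Z) L) :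
    ¬ CurveLin.GenAt L (s ≫ twistι Z L) x := by
  obtain ⟨W, hW, hxW, e, he⟩ := exists_isGen hL x
  obtain ⟨a, ha⟩ := tmulGen_surjective (ClSub.idealMod Z) L he le_rfl
    (ap s W (toM (1 : Γ(X, W))))
  rw [SubExt.rF_self] at ha
  have h1 : ap (s ≫ twistι Z L) W (toM (1 : Γ(X, W))) =
      SerreCrit.toFn (ap (ClSub.idealModι Z) W a) • e := by
    show ap (twistι Z L) W (ap s W (toM (1 : Γ(X, W)))) = _
    rw [← ha, ap_twistι_tmul_eq]
  rw [genAt_iff_mem_basicOpen _ he h1 hxW]
  exact hZx hW hxW _ (TensH8.idealModι_mem Z hW a)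

/-- a section coming from `I_x ⊗ L` does not generate `L` at `x` -/
theorem not_genAt_of_factors {x : X} (hx : IsClosed ({x} : Set X)) {L : X.Modules}
    (hL : PicF.IsInvertible L)
    (s : Coh.structureModule X ⟶
      CohB1.tensorMod (ClSub.idealMod (Scheme.IdealSheafData.vanishingIdeal ⟨{x}, hx⟩)) L) :
    ¬ CurveLin.GenAt L (s ≫ twistι (Scheme.IdealSheafData.vanishingIdeal ⟨{x}, hx⟩) L) x :=
  not_genAt_of_factors' _ (fun hW hxW f hf =>
    notMem_basicOpen_of_mem_vanishingIdeal hx hW hxW f hf) hL s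

/-- **a global section generates `L` at the closed point `x` iff it does not come from
`I_x ⊗ L`** -/
theorem genAt_iff_not_factors {x : X} (hx : IsClosed ({x} : Set X)) {L : X.Modules}
    (hL : PicF.IsInvertible L) (σ : Coh.structureModule X ⟶ L) :
    CurveLin.GenAt L σ x ↔ ¬ ∃ s : Coh.structureModule X ⟶
        CohB1.tensorMod (ClSub.idealMod (Scheme.IdealSheafData.vanishingIdeal ⟨{x}, hx⟩)) L,
      s ≫ twistι (Scheme.IdealSheafData.vanishingIdeal ⟨{x}, hx⟩) L = σ := by
  constructor
  · rintro h ⟨s, rfl⟩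
    exact not_genAt_of_factors hx hL s h
  · intro h
    by_contra hno
    exact h (exists_lift_of_not_genAt hx hL σ hno)

end General

end CurvePt
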