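import Mathlib
import Groth.Prelude
import Groth.Agent.Lib.CurvePt1_helper9

/-!
# Sections through a closed point over an algebraically closed field (helper9).
APPEND-ONLY once landed.
-/

set_option autoImplicit false
universe u
open CategoryTheory CategoryTheory.Limits AlgebraicGeometry Opposite TopologicalSpace

namespace CurvePt

open QcqsLoc QCohExtn GenLocH8 TensH8 FLFH8 CohB1 Groth.Agent.HHVan CurveAmple CurveGG

section AlgClosed

variable (k : Type u) [Field k] [IsAlgClosed k] (X : Scheme.{u}) [X.Over (Spec (CommRingCat.of k))]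
  [LocallyOfFiniteType (X ↘ Spec (CommRingCat.of k))]

/-- over an algebraically closed field every function is constant modulo the ideal of a closed
point; relative version with a function invertible at the point -/
theorem exists_const_mul_sub_mem {x : X} (hx : IsClosed ({x} : Set X)) {W : X.Opens}
    (hW : IsAffineOpen W) (hxW : x ∈ W) (g g₀ : Γ(X, W)) (hg₀ : x ∈ X.basicOpen g₀) :
    ∃ c : k, g - VBCurve.strHom k X W c * g₀ ∈
      (Scheme.IdealSheafData.vanishingIdeal ⟨{x}, hx⟩).ideal ⟨W, hW⟩ := by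
  set 𝔪 := (Scheme.IdealSheafData.vanishingIdeal ⟨{x}, hx⟩).ideal ⟨W, hW⟩ with h𝔪
  haveI : 𝔪.IsMaximal := isMaximal_vanishingIdeal_ideal hx hW hxW
  letI := Ideal.Quotient.field 𝔪
  have hg₀' : (Ideal.Quotient.mk 𝔪) g₀ ≠ 0 := by
    intro h
    rw [Ideal.Quotient.eq_zero_iff_mem] at h
    exact notMem_basicOpen_of_mem_vanishingIdeal hx hW hxW g₀ h hg₀
  obtain ⟨c, hc⟩ := (VBCurve.strHom_quotient_bijective k X hW 𝔪).2
    ((Ideal.Quotient.mk 𝔪) g * ((Ideal.Quotient.mk 𝔪) g₀)⁻¹)
  refine ⟨c, ?_⟩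
  rw [← Ideal.Quotient.eq_zero_iff_mem, map_sub, map_mul]
  have hc' : (Ideal.Quotient.mk 𝔪) (VBCurve.strHom k X W c) =
      (Ideal.Quotient.mk 𝔪) g * ((Ideal.Quotient.mk 𝔪) g₀)⁻¹ := hc
  rw [hc', mul_assoc, inv_mul_cancel₀ hg₀', mul_one, sub_self]

/-- modulo a section generating `L` at the closed point `x`, every section fails to generate
at `x` after subtracting a constant multiple -/
theorem exists_sub_smul_not_genAt {x : X} (hx : IsClosed ({x} : Set X)) {L : X.Modules}
    (hL : PicF.IsInvertible L) (σ₀ σ : Coh.structureModule X ⟶ L)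
    (h₀ : CurveLin.GenAt L σ₀ x) : ∃ c : k, ¬ CurveLin.GenAt L (σ - c • σ₀) x := by
  obtain ⟨W, hW, hxW, e, he⟩ := exists_isGen hL x
  obtain ⟨g₀, hg₀⟩ := he.exists_coef (ap σ₀ W (toM (1 : Γ(X, W))))
  obtain ⟨g, hg⟩ := he.exists_coef (ap σ W (toM (1 : Γ(X, W))))
  have hx₀ : x ∈ X.basicOpen g₀ := (genAt_iff_mem_basicOpen σ₀ he hg₀ hxW).1 h₀
  obtain ⟨c, hc⟩ := exists_const_mul_sub_mem k X hx hW hxW g g₀ hx₀
  refine ⟨c, ?_⟩
  have h1 : ap (σ - c • σ₀) W (toM (1 : Γ(X, W))) =
      (g - VBCurve.strHom k X W c * g₀) • e := by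
    have h2 : ap (σ - c • σ₀) W (toM (1 : Γ(X, W))) =
        ap σ W (toM (1 : Γ(X, W))) - ap (c • σ₀) W (toM (1 : Γ(X, W))) := rfl
    have h3 : ap (c • σ₀) W (toM (1 : Γ(X, W))) =
        VBCurve.strHom k X W c • ap σ₀ W (toM (1 : Γ(X, W))) :=
      KLin.smul_app_apply c σ₀ W _
    rw [h2, h3, hg, hg₀, sub_smul, mul_smul]
  rw [genAt_iff_mem_basicOpen _ he h1 hxW]
  exact notMem_basicOpen_of_mem_vanishingIdeal hx hW hxW _ hc

end AlgClosed

section Curve

variable (k : Type u) [Field k] [IsAlgClosed k] (X : Scheme.{u}) [X.Over (Spec (CommRingCat.of k))]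
  [IsIntegral X] [IsProper (X ↘ Spec (CommRingCat.of k))]

/-- **if some global section generates `L` at the closed point `x` then
`h⁰(I_x ⊗ L) + 1 = h⁰(L)`** (algebraically closed base field) -/
theorem finrank_HH0_twist_add_one {x : X} (hx : IsClosed ({x} : Set X)) {L : X.Modules}
    (hL : PicF.IsInvertible L) (σ₀ : Coh.structureModule X ⟶ L) (h₀ : CurveLin.GenAt L σ₀ x) :
    Module.finrank k (Coh.HH X (CohB1.tensorMod
      (ClSub.idealMod (Scheme.IdealSheafData.vanishingIdeal ⟨{x}, hx⟩)) L) 0) + 1 =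
      Module.finrank k (Coh.HH X L 0) := by
  haveI : IsLocallyNoetherian X :=
    LocallyOfFiniteType.isLocallyNoetherian (X ↘ Spec (CommRingCat.of k))
  have hIc := CurveIdeal.isCoh_idealMod (Scheme.IdealSheafData.vanishingIdeal ⟨{x}, hx⟩)
  have hFc := isCoh_tensorMod X hIc hL
  haveI := mono_twistι (Scheme.IdealSheafData.vanishingIdeal ⟨{x}, hx⟩) hL
  haveI := ProperFinH9.finite_HH_of_proper k X _ hFc 0
  haveI : Module.Finite k (Coh.structureModule X ⟶ CohB1.tensorMod
      (ClSub.idealMod (Scheme.IdealSheafData.vanishingIdeal ⟨{x}, hx⟩)) L) :=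
    Module.Finite.equiv (CurveIdeal.thetaEquiv k _).symm
  let T : ((Coh.structureModule X ⟶ CohB1.tensorMod
      (ClSub.idealMod (Scheme.IdealSheafData.vanishingIdeal ⟨{x}, hx⟩)) L) × k) →ₗ[k]
      (Coh.structureModule X ⟶ L) :=
    (Linear.rightComp k (Coh.structureModule X)
      (twistι (Scheme.IdealSheafData.vanishingIdeal ⟨{x}, hx⟩) L)).coprod
      (LinearMap.toSpanSingleton k (Coh.structureModule X ⟶ L) σ₀)
  have hT : ∀ s c, T (s, c) =
      s ≫ twistι (Scheme.IdealSheafData.vanishingIdeal ⟨{x}, hx⟩) L + c • σ₀ := fun s c => rfl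
  have hinj : Function.Injective T := by
    rw [← LinearMap.ker_eq_bot, LinearMap.ker_eq_bot']
    rintro ⟨s, c⟩ h
    rw [hT] at h
    have hc : c = 0 := by
      by_contra hc
      apply not_genAt_of_factors hx hL ((-c⁻¹) • s)
      have h1 : ((-c⁻¹) • s) ≫ twistι (Scheme.IdealSheafData.vanishingIdeal ⟨{x}, hx⟩) L =
          σ₀ := by
        rw [Linear.smul_comp, eq_neg_of_add_eq_zero_left h, smul_neg, neg_smul, neg_neg,
          smul_smul, inv_mul_cancel₀ hc, one_smul]
      rw [h1]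
      exact h₀
    rw [hc, zero_smul, add_zero] at h
    have hs : s = 0 := by
      rw [← cancel_mono (twistι (Scheme.IdealSheafData.vanishingIdeal ⟨{x}, hx⟩) L), h,
        zero_comp]
    rw [hs, hc]
    rfl
  have hsurj : Function.Surjective T := by
    intro σ
    obtain ⟨c, hc⟩ := exists_sub_smul_not_genAt k X hx hL σ₀ σ h₀
    obtain ⟨s, hs⟩ := exists_lift_of_not_genAt hx hL _ hc
    refine ⟨(s, c), ?_⟩
    rw [hT, hs, sub_add_cancel]
  have e := (LinearEquiv.ofBijective T ⟨hinj, hsurj⟩).finrank_eq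
  rw [Module.finrank_prod, Module.finrank_self, (CurveIdeal.thetaEquiv k L).finrank_eq,
    (CurveIdeal.thetaEquiv k _).finrank_eq] at e
  exact e

/-- if `h⁰(I_x ⊗ L) < h⁰(L)` then some global section generates `L` at the closed point `x` -/
theorem exists_genAt_of_finrank_lt {x : X} (hx : IsClosed ({x} : Set X)) {L : X.Modules}
    (hL : PicF.IsInvertible L)
    (hlt : Module.finrank k (Coh.HH X (CohB1.tensorMod
      (ClSub.idealMod (Scheme.IdealSheafData.vanishingIdeal ⟨{x}, hx⟩)) L) 0) <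
      Module.finrank k (Coh.HH X L 0)) :
    ∃ σ : Coh.structureModule X ⟶ L, CurveLin.GenAt L σ x := by
  haveI : IsLocallyNoetherian X :=
    LocallyOfFiniteType.isLocallyNoetherian (X ↘ Spec (CommRingCat.of k))
  have hIc := CurveIdeal.isCoh_idealMod (Scheme.IdealSheafData.vanishingIdeal ⟨{x}, hx⟩)
  have hFc := isCoh_tensorMod X hIc hL
  haveI := ProperFinH9.finite_HH_of_proper k X _ hFc 0
  haveI : Module.Finite k (Coh.structureModule X ⟶ CohB1.tensorMod
      (ClSub.idealMod (Scheme.IdealSheafData.vanishingIdeal ⟨{x}, hx⟩)) L) :=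
    Module.Finite.equiv (CurveIdeal.thetaEquiv k _).symm
  by_contra hno
  push_neg at hno
  have hsurj : Function.Surjective (Linear.rightComp k (Coh.structureModule X)
      (twistι (Scheme.IdealSheafData.vanishingIdeal ⟨{x}, hx⟩) L)) := by
    intro σ
    obtain ⟨s, hs⟩ := exists_lift_of_not_genAt hx hL σ (hno σ)
    exact ⟨s, hs⟩
  have h1 := LinearMap.finrank_le_finrank_of_surjective hsurj
  rw [(CurveIdeal.thetaEquiv k L).finrank_eq, (CurveIdeal.thetaEquiv k _).finrank_eq] at h1
  omega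

end Curve

end CurvePt

namespace CurvePt

open QcqsLoc QCohExtn GenLocH8 TensH8 FLFH8 CohB1 Groth.Agent.HHVan CurveAmple CurveGG

/-- generation at all closed points implies generation at all points (quasi-compact `X`) -/
theorem forall_genAt_of_closed {X : Scheme.{u}} [CompactSpace X] {L : X.Modules}
    (h : ∀ x : X, IsClosed ({x} : Set X) → ∃ σ : Coh.structureModule X ⟶ L,
      CurveLin.GenAt L σ x) (x : X) :
    ∃ σ : Coh.structureModule X ⟶ L, CurveLin.GenAt L σ x := by
  obtain ⟨y, hy, hycl⟩ := IsClosed.exists_closed_singleton (isClosed_closure (s := ({x} : Set X)))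
    ⟨x, subset_closure rfl⟩
  obtain ⟨σ, V, hyV, hV⟩ := h y hycl
  refine ⟨σ, V, ?_, hV⟩
  obtain ⟨z, hzV, hz⟩ := mem_closure_iff.mp hy V V.isOpen hyV
  rw [Set.mem_singleton_iff.mp hz] at hzV
  exact hzV

/-- **statement of S11330** (no regularity needed) -/
theorem isGloballyGenerated_iff (k : Type u) [Field k] [IsAlgClosed k] (X : Scheme.{u})
    [X.Over (Spec (CommRingCat.of k))] [IsIntegral X] [IsProper (X ↘ Spec (CommRingCat.of k))]
    {L : X.Modules} (hL : PicF.IsInvertible L) :
    Curv2.IsGloballyGenerated L ↔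
      ∀ (P : X) (hP : IsClosed ({P} : Set X)),
        Module.finrank k (Coh.HH X (CohB1.tensorMod L (ClSub.idealMod
          (Scheme.IdealSheafData.vanishingIdeal ⟨{P}, hP⟩))) 0) + 1 =
          Module.finrank k (Coh.HH X L 0) := by
  haveI : CompactSpace X :=
    QuasiCompact.compactSpace_of_compactSpace (X ↘ Spec (CommRingCat.of k))
  have hcomm : ∀ (P : X) (hP : IsClosed ({P} : Set X)),
      Module.finrank k (Coh.HH X (CohB1.tensorMod L (ClSub.idealMod
        (Scheme.IdealSheafData.vanishingIdeal ⟨{P}, hP⟩))) 0) =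
      Module.finrank k (Coh.HH X (CohB1.tensorMod (ClSub.idealMod
        (Scheme.IdealSheafData.vanishingIdeal ⟨{P}, hP⟩)) L) 0) := fun P hP =>
    finrank_HH_of_iso k X (Groth.Agent.TensInv.comm L _) 0
  constructor
  · intro hG P hP
    obtain ⟨t, ht⟩ := GGH8.exists_hom_mem_genLocus hL hG P
    rw [hcomm]
    exact finrank_HH0_twist_add_one k X hP hL t (genAt_of_mem_genLocus t ht)
  · intro h
    apply isGloballyGenerated_of_forall_genAt
    apply forall_genAt_of_closed
    intro P hP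
    apply exists_genAt_of_finrank_lt k X hP hL
    have := h P hP
    rw [hcomm] at this
    omega

end CurvePt
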