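import Mathlib
import Groth.Prelude
import Groth.Agent.Lib.Depth_helper5
import Groth.Agent.Lib.Hartogs_helper5
import Groth.Agent.Lib.SerreNormal_helper5
import Groth.Agent.Lib.FLF1_helper8

/-!
# Divisors on a locally Noetherian scheme (general `Mero` framework) and points of depth one (helper5)
-/

universe u

open CategoryTheory IsLocalRing AlgebraicGeometry TopologicalSpace Opposite

namespace Groth.Agent.MeroDepth

open Groth.Agent.DepthLib

section algebra

theorem isSMulRegular_of_mem_nzd {B : Type u} [CommRing B] {c : B} (hc : c ∈ nonZeroDivisors B) :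
    IsSMulRegular B c := by
  intro x y hxy
  have hxy' : c * x = c * y := hxy
  have h0 : c * (x - y) = 0 := by rw [mul_sub, hxy', sub_self]
  exact sub_eq_zero.mp ((mem_nonZeroDivisors_iff_left.mp hc) _ h0)

/-- a Noetherian local ring with a regular element `b` and an element `a ∉ (b)` which lies in `(b)` locally at
all non-maximal primes has depth one -/
theorem depth_eq_one_of_colon (B : Type u) [CommRing B] [IsLocalRing B] [IsNoetherianRing B]
    (a b : B) (hreg : IsSMulRegular B b) (hab : a ∉ Ideal.span {b})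
    (h : ∀ Q : Ideal B, Q.IsPrime → Q ≠ maximalIdeal B →
      ∃ s : B, s ∉ Q ∧ s * a ∈ Ideal.span {b}) :
    LocCoh.depth B B = 1 := by
  have hS : ∀ r : B, r * a ∈ Ideal.span {b} ↔ ∃ c, b * c = r * a := by
    intro r
    rw [Ideal.mem_span_singleton']
    constructor
    · rintro ⟨c, hc⟩
      exact ⟨c, by rw [mul_comm, hc]⟩
    · rintro ⟨c, hc⟩
      exact ⟨c, by rw [mul_comm, hc]⟩
  have hbm : b ∈ maximalIdeal B := by
    rw [mem_maximalIdeal, mem_nonunits_iff]
    intro hu
    apply hab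
    rw [Ideal.span_singleton_eq_top.mpr hu]
    trivial
  have hass : maximalIdeal B ∈ associatedPrimes B (QuotSMulTop b B) := by
    have hJ : ∀ r, r ∈ (⊥ : Submodule B (QuotSMulTop b B)).colon
        {(Submodule.Quotient.mk a : QuotSMulTop b B)} ↔ ∃ c, b * c = r * a := by
      intro r
      rw [Submodule.mem_colon_singleton, Submodule.mem_bot, ← Submodule.Quotient.mk_smul,
        Submodule.Quotient.mk_eq_zero, Submodule.mem_smul_pointwise_iff_exists]
      simp only [Submodule.mem_top, true_and, smul_eq_mul]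
    refine ⟨inferInstance, Submodule.Quotient.mk a, ?_⟩
    apply le_antisymm
    · rw [Ideal.radical_eq_sInf]
      apply le_sInf
      rintro q ⟨hJq, hq⟩
      by_contra hmq
      have hqne : q ≠ maximalIdeal B := fun h => hmq h.ge
      obtain ⟨s, hsq, hs⟩ := h q hq hqne
      exact hsq (hJq ((hJ s).mpr ((hS s).mp hs)))
    · apply IsLocalRing.le_maximalIdeal
      rw [Ne, Ideal.radical_eq_top]
      intro htop
      have h1 : (1 : B) ∈ (⊥ : Submodule B (QuotSMulTop b B)).colon
          {(Submodule.Quotient.mk a : QuotSMulTop b B)} := by rw [htop]; trivial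
      rw [hJ, ← hS, one_mul] at h1
      exact hab h1
  have h0 : ¬ 1 ≤ LocCoh.idealDepth (maximalIdeal B) (QuotSMulTop b B) :=
    not_one_le_idealDepth_of_le_associatedPrime _ _ _ hass le_rfl
  have h1 := idealDepth_quotSMulTop_add_one (maximalIdeal B) B hbm hreg
  unfold LocCoh.depth
  rw [← h1, ENat.lt_one_iff_eq_zero.mp (not_le.mp h0), zero_add]

/-- if `a ∉ b A_q` (with `b` a nonzerodivisor of the Noetherian ring `A`) then there is a prime `p ⊆ q` with
`depth A_p = 1` and `a ∉ b A_p` -/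
theorem exists_depth_one (A : Type u) [CommRing A] [IsNoetherianRing A] (q : Ideal A) [q.IsPrime]
    (a b : A) (hb : b ∈ nonZeroDivisors A) (h : ∀ s : A, s ∉ q → s * a ∉ Ideal.span {b}) :
    ∃ p : Ideal A, ∃ _ : p.IsPrime, p ≤ q ∧
      LocCoh.depth (Localization.AtPrime p) (Localization.AtPrime p) = 1 ∧
      ∀ s : A, s ∉ p → s * a ∉ Ideal.span {b} := by
  let I : Ideal A := (Ideal.span {b} : Submodule A A).colon {a}
  have hI : ∀ r, r ∈ I ↔ r * a ∈ Ideal.span {b} := fun r => by
    rw [Submodule.mem_colon_singleton, smul_eq_mul]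
  have hIq : I ≤ q := fun r hr => by
    by_contra hrq
    exact h r hrq ((hI r).mp hr)
  obtain ⟨p, hp, hpq⟩ := Ideal.exists_minimalPrimes_le hIq
  haveI hpp : p.IsPrime := hp.1.1
  have hIp : I ≤ p := hp.1.2
  refine ⟨p, hpp, hpq, ?_, fun s hs hsa => hs (hIp ((hI s).mpr hsa))⟩
  refine depth_eq_one_of_colon (Localization.AtPrime p) (algebraMap A _ a) (algebraMap A _ b) ?_ ?_ ?_
  · apply isSMulRegular_of_mem_nzd
    exact IsLocalization.map_nonZeroDivisors_le p.primeCompl (Localization.AtPrime p)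
      (Submonoid.mem_map_of_mem _ hb)
  · intro hmem
    rw [Ideal.mem_span_singleton'] at hmem
    obtain ⟨c, hc⟩ := hmem
    obtain ⟨⟨c0, s0⟩, hcs⟩ := IsLocalization.surj p.primeCompl c
    have h2 : algebraMap A (Localization.AtPrime p) (s0 * a) =
        algebraMap A (Localization.AtPrime p) (c0 * b) := by
      rw [map_mul, map_mul, ← hc, ← hcs]
      ring
    obtain ⟨t, ht⟩ := (IsLocalization.eq_iff_exists p.primeCompl (Localization.AtPrime p)).mp h2
    have hmemI : (t : A) * s0 ∈ I := by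
      rw [hI, Ideal.mem_span_singleton']
      exact ⟨t * c0, by rw [mul_assoc, mul_assoc, ht]⟩
    exact (p.primeCompl.mul_mem t.2 s0.2) (hIp hmemI)
  · intro Q hQ hQne
    by_contra hcon
    push Not at hcon
    haveI := hQ
    have hIQ : I ≤ Q.comap (algebraMap A (Localization.AtPrime p)) := by
      intro r hr
      by_contra hrQ
      apply hcon (algebraMap A _ r) hrQ
      rw [← map_mul]
      have := Ideal.mem_map_of_mem (algebraMap A (Localization.AtPrime p)) ((hI r).mp hr)
      rwa [Ideal.map_span, Set.image_singleton] at this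
    have hQp : Q.comap (algebraMap A (Localization.AtPrime p)) ≤ p := by
      have hdisj := ((IsLocalization.isPrime_iff_isPrime_disjoint p.primeCompl
        (Localization.AtPrime p) Q).mp hQ).2
      intro r hr
      by_contra hrp
      exact Set.disjoint_left.mp hdisj (show r ∈ (p.primeCompl : Set A) from hrp) hr
    have hpQ : p ≤ Q.comap (algebraMap A (Localization.AtPrime p)) :=
      hp.2 ⟨inferInstance, hIQ⟩ hQp
    apply hQne
    calc Q = Ideal.map (algebraMap A (Localization.AtPrime p))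
          (Q.comap (algebraMap A (Localization.AtPrime p))) :=
          (IsLocalization.map_comap p.primeCompl (Localization.AtPrime p) Q).symm
      _ = Ideal.map (algebraMap A (Localization.AtPrime p)) p := by rw [le_antisymm hQp hpQ]
      _ = maximalIdeal (Localization.AtPrime p) :=
          IsLocalization.AtPrime.map_eq_maximalIdeal p (Localization.AtPrime p)

theorem mk_mul_algebraMap {R : Type u} [CommRing R] (S : Submonoid R) (a : R) (s : S) :
    (LocalizedModule.mk a s : Localization S) * algebraMap R (Localization S) s =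
      algebraMap R (Localization S) a := by
  have : (LocalizedModule.mk a s : Localization S) = IsLocalization.mk' (Localization S) a s := by
    rw [← Localization.mk_eq_mk']
    rfl
  rw [this, IsLocalization.mk'_spec]

end algebra

section geo

variable {X : Scheme.{u}}

/-- a regular section over an open is a nonzerodivisor of the ring of sections -/
theorem nzd_of_mem_regSub {W : X.Opens} {b : Γ(X, W)} (hb : b ∈ Mero.regSub X W) :
    b ∈ nonZeroDivisors Γ(X, W) := by
  rw [mem_nonZeroDivisors_iff_left]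
  intro c hc
  apply TopCat.Presheaf.section_ext X.sheaf W
  intro y hy
  have h1 : X.presheaf.germ W y hy b * X.presheaf.germ W y hy c = 0 := by
    rw [← map_mul, hc, map_zero]
  have h2 := (mem_nonZeroDivisors_iff_left.mp (hb ⟨y, hy⟩)) _ h1
  exact h2.trans (map_zero _).symm

/-- on a locally Noetherian scheme, every nonzerodivisor of a local ring is the germ of a regular section -/
theorem mem_regStalk_of_nzd [IsLocallyNoetherian X] (x : X) (t : X.presheaf.stalk x)
    (ht : t ∈ nonZeroDivisors (X.presheaf.stalk x)) : t ∈ Mero.regStalk X x := by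
  obtain ⟨U0, hxU0, s0, rfl⟩ := X.presheaf.exists_germ_eq t
  obtain ⟨_, ⟨W, hW : IsAffineOpen W, rfl⟩, hxW, hWU⟩ :=
    (X.isBasis_affineOpens).exists_subset_of_mem_open hxU0 U0.isOpen
  haveI : IsNoetherianRing Γ(X, W) := IsLocallyNoetherian.component_noetherian ⟨W, hW⟩
  let s : Γ(X, W) := X.presheaf.map (homOfLE hWU).op s0
  have hst : X.presheaf.germ W x hxW s = X.presheaf.germ U0 x hxU0 s0 :=
    TopCat.Presheaf.germ_res_apply X.presheaf (homOfLE hWU) x hxW s0
  rw [← hst] at ht ⊢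
  let J : Ideal Γ(X, W) := (⊥ : Submodule Γ(X, W) Γ(X, W)).colon {s}
  have hJ : ∀ r, r ∈ J ↔ r * s = 0 := fun r => by
    rw [Submodule.mem_colon_singleton, Submodule.mem_bot, smul_eq_mul]
  -- every element of `J` is killed by an element outside the prime of `x`
  have hkill : ∀ r ∈ J, ∃ g : Γ(X, W), g ∉ (hW.primeIdealOf ⟨x, hxW⟩).asIdeal ∧ g * r = 0 := by
    intro r hr
    letI := TopCat.Presheaf.algebra_section_stalk X.presheaf (⟨x, hxW⟩ : W)
    haveI : IsLocalization.AtPrime (X.presheaf.stalk x) (hW.primeIdealOf ⟨x, hxW⟩).asIdeal :=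
      hW.isLocalization_stalk ⟨x, hxW⟩
    have h1 : X.presheaf.germ W x hxW r * X.presheaf.germ W x hxW s = 0 := by
      rw [← map_mul, (hJ r).mp hr, map_zero]
    have h2 : algebraMap Γ(X, W) (X.presheaf.stalk x) r = 0 :=
      (mem_nonZeroDivisors_iff_right.mp ht) _ h1
    obtain ⟨m, hm⟩ := (IsLocalization.map_eq_zero_iff (hW.primeIdealOf ⟨x, hxW⟩).asIdeal.primeCompl
      (X.presheaf.stalk x) r).mp h2
    exact ⟨m, m.2, hm⟩
  classical
  choose! G hG using hkill
  obtain ⟨S, hS⟩ := (isNoetherianRing_iff_ideal_fg Γ(X, W)).mp inferInstance J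
  let g : Γ(X, W) := ∏ r ∈ S, G r
  have hSJ : ∀ r ∈ S, r ∈ J := fun r hr => hS ▸ Ideal.subset_span hr
  have hg : g ∉ (hW.primeIdealOf ⟨x, hxW⟩).asIdeal := by
    intro hmem
    obtain ⟨r, hr, hGr⟩ := ((hW.primeIdealOf ⟨x, hxW⟩).isPrime.prod_mem_iff).mp hmem
    exact (hG r (hSJ r hr)).1 hGr
  have hgJ : ∀ r ∈ J, g * r = 0 := by
    intro r hr
    rw [← hS] at hr
    induction hr using Submodule.span_induction with
    | mem r0 hr0 =>
      obtain ⟨c, hc⟩ := Finset.dvd_prod_of_mem G hr0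
      show g * r0 = 0
      have : g = G r0 * c := hc
      rw [this, mul_comm (G r0) c, mul_assoc, (hG r0 (hSJ r0 hr0)).2, mul_zero]
    | zero => exact mul_zero _
    | add r1 r2 _ _ h1 h2 => rw [mul_add, h1, h2, add_zero]
    | smul c r1 _ h1 => rw [smul_eq_mul, mul_left_comm, h1, mul_zero]
  have hxV : x ∈ X.basicOpen g := FLFH8.mem_basicOpen_of_notMem_prime hW hxW hg
  have hVW : X.basicOpen g ≤ W := X.basicOpen_le g
  refine ⟨X.basicOpen g, hxV, X.presheaf.map (homOfLE hVW).op s, ?_,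
    TopCat.Presheaf.germ_res_apply X.presheaf (homOfLE hVW) x hxV s⟩
  intro y
  have hyW : y.1 ∈ W := hVW y.2
  show X.presheaf.germ (X.basicOpen g) y.1 y.2 (X.presheaf.map (homOfLE hVW).op s) ∈ _
  rw [TopCat.Presheaf.germ_res_apply X.presheaf (homOfLE hVW) y.1 y.2 s]
  letI := TopCat.Presheaf.algebra_section_stalk X.presheaf (⟨y.1, hyW⟩ : W)
  haveI : IsLocalization.AtPrime (X.presheaf.stalk y.1) (hW.primeIdealOf ⟨y.1, hyW⟩).asIdeal :=
    hW.isLocalization_stalk ⟨y.1, hyW⟩
  have hgy : g ∈ (hW.primeIdealOf ⟨y.1, hyW⟩).asIdeal.primeCompl :=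
    StalkLocH8.notMem_prime_of_mem_basicOpen hW hyW y.2
  rw [mem_nonZeroDivisors_iff_left]
  intro c' hc'
  obtain ⟨⟨c, h⟩, hch⟩ := IsLocalization.surj (hW.primeIdealOf ⟨y.1, hyW⟩).asIdeal.primeCompl c'
  have h3 : algebraMap Γ(X, W) (X.presheaf.stalk y.1) (s * c) = 0 := by
    rw [map_mul, ← hch, ← mul_assoc]
    have : algebraMap Γ(X, W) (X.presheaf.stalk y.1) s * c' = 0 := hc'
    rw [this, zero_mul]
  obtain ⟨h', hh'⟩ := (IsLocalization.map_eq_zero_iff (hW.primeIdealOf ⟨y.1, hyW⟩).asIdeal.primeCompl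
    (X.presheaf.stalk y.1) (s * c)).mp h3
  have h4 : (h' : Γ(X, W)) * c ∈ J := by
    rw [hJ]
    rw [← hh']
    ring
  have h5 : g * ((h' : Γ(X, W)) * c) = 0 := hgJ _ h4
  have h6 : algebraMap Γ(X, W) (X.presheaf.stalk y.1) c = 0 := by
    have hu1 : IsUnit (algebraMap Γ(X, W) (X.presheaf.stalk y.1) g) :=
      IsLocalization.map_units _ (⟨g, hgy⟩ : (hW.primeIdealOf ⟨y.1, hyW⟩).asIdeal.primeCompl)
    have hu2 : IsUnit (algebraMap Γ(X, W) (X.presheaf.stalk y.1) h') :=
      IsLocalization.map_units _ h'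
    have h7 := congrArg (algebraMap Γ(X, W) (X.presheaf.stalk y.1)) h5
    rw [map_mul, map_mul, map_zero] at h7
    exact hu2.mul_right_eq_zero.mp (hu1.mul_right_eq_zero.mp h7)
  have hu3 : IsUnit (algebraMap Γ(X, W) (X.presheaf.stalk y.1) h) :=
    IsLocalization.map_units _ h
  rw [h6] at hch
  exact hu3.mul_left_eq_zero.mp hch

/-- local representation of a divisor by a quotient of two sections over an affine open -/
theorem exists_rep (D : Mero.Divisor X) (x : X) :
    ∃ (W : X.Opens) (_ : IsAffineOpen W) (_ : x ∈ W) (a : Γ(X, W)) (b : Mero.regSub X W),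
      ∀ y : W, ∃ g : (Mero.KStalk X y.1)ˣ,
        (g : Mero.KStalk X y.1) =
          LocalizedModule.mk (X.presheaf.germ W y.1 y.2 a) (Mero.regGerm y b) ∧
        D.1 y.1 = QuotientGroup.mk g := by
  obtain ⟨U, hxU, f, hf⟩ := D.2 x
  obtain ⟨V, hxV, i, a0, b0, hab⟩ := f.1.2 ⟨x, hxU⟩
  obtain ⟨_, ⟨W, hW : IsAffineOpen W, rfl⟩, hxW, hWV⟩ :=
    (X.isBasis_affineOpens).exists_subset_of_mem_open hxV V.isOpen
  refine ⟨W, hW, hxW, X.presheaf.map (homOfLE hWV).op a0,
    ⟨X.presheaf.map (homOfLE hWV).op b0.1, Mero.regSub_res _ b0.2⟩, fun y => ?_⟩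
  refine ⟨Units.map (Mero.evalK X U ⟨y.1, i.le (hWV y.2)⟩).toMonoidHom f, ?_,
    hf ⟨y.1, i.le (hWV y.2)⟩⟩
  refine (hab ⟨y.1, hWV y.2⟩).trans ?_
  exact Mero.mk_congr (TopCat.Presheaf.germ_res_apply X.presheaf (homOfLE hWV) y.1 y.2 a0).symm
    (TopCat.Presheaf.germ_res_apply X.presheaf (homOfLE hWV) y.1 y.2 b0.1).symm

/-- the numerator of a unit of `K_{X,y}` is a nonzerodivisor -/
theorem nzd_of_unit {y : X} (g : (Mero.KStalk X y)ˣ) (a : X.presheaf.stalk y)
    (b : Mero.regStalk X y) (hg : (g : Mero.KStalk X y) = LocalizedModule.mk a b) :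
    a ∈ nonZeroDivisors (X.presheaf.stalk y) := by
  have h1 : algebraMap (X.presheaf.stalk y) (Mero.KStalk X y) a =
      g * algebraMap (X.presheaf.stalk y) (Mero.KStalk X y) b := by
    rw [hg, mk_mul_algebraMap]
  have hu : IsUnit (algebraMap (X.presheaf.stalk y) (Mero.KStalk X y) a) := by
    rw [h1]
    exact g.isUnit.mul (IsLocalization.map_units _ b)
  rw [mem_nonZeroDivisors_iff_left]
  intro c hc
  apply Mero.algebraMap_KStalk_injective y
  rw [map_zero]
  have h2 : algebraMap (X.presheaf.stalk y) (Mero.KStalk X y) a *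
      algebraMap (X.presheaf.stalk y) (Mero.KStalk X y) c = 0 := by
    rw [← map_mul, hc, map_zero]
  exact hu.mul_right_eq_zero.mp h2

/-- effectivity of a germ represented by `a / b` -/
theorem isEffectiveAt_iff [IsLocallyNoetherian X] (D : Mero.Divisor X) (y : X)
    (g : (Mero.KStalk X y)ˣ) (a : X.presheaf.stalk y) (b : Mero.regStalk X y)
    (hg : (g : Mero.KStalk X y) = LocalizedModule.mk a b) (hD : D.1 y = QuotientGroup.mk g) :
    Mero.IsEffectiveAt D y ↔ ∃ c, a = (b : X.presheaf.stalk y) * c := by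
  have h1 : algebraMap (X.presheaf.stalk y) (Mero.KStalk X y) a =
      g * algebraMap (X.presheaf.stalk y) (Mero.KStalk X y) b := by
    rw [hg, mk_mul_algebraMap]
  constructor
  · rintro ⟨c, hc⟩
    rw [hD, QuotientGroup.eq] at hc
    obtain ⟨v, hv⟩ := hc
    have hv2 : algebraMap (X.presheaf.stalk y) (Mero.KStalk X y) (v : X.presheaf.stalk y) =
        ↑g⁻¹ * algebraMap (X.presheaf.stalk y) (Mero.KStalk X y) (c : X.presheaf.stalk y) := by
      have := congrArg Units.val hv
      rw [Units.coe_map, Units.val_mul, IsUnit.unit_spec] at this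
      exact this
    have e1 : (g : Mero.KStalk X y) * algebraMap (X.presheaf.stalk y) (Mero.KStalk X y)
        (v : X.presheaf.stalk y) =
        algebraMap (X.presheaf.stalk y) (Mero.KStalk X y) (c : X.presheaf.stalk y) := by
      rw [hv2, ← mul_assoc, Units.mul_inv, one_mul]
    have e2 : algebraMap (X.presheaf.stalk y) (Mero.KStalk X y) (v : X.presheaf.stalk y) *
        algebraMap (X.presheaf.stalk y) (Mero.KStalk X y) ((v⁻¹ : (X.presheaf.stalk y)ˣ) :
          X.presheaf.stalk y) = 1 := by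
      rw [← map_mul, Units.mul_inv, map_one]
    refine ⟨c * ((v⁻¹ : (X.presheaf.stalk y)ˣ) : X.presheaf.stalk y), ?_⟩
    apply Mero.algebraMap_KStalk_injective y
    calc algebraMap (X.presheaf.stalk y) (Mero.KStalk X y) a
        = g * algebraMap (X.presheaf.stalk y) (Mero.KStalk X y) b := h1
      _ = (g * algebraMap (X.presheaf.stalk y) (Mero.KStalk X y) (v : X.presheaf.stalk y)) *
          algebraMap (X.presheaf.stalk y) (Mero.KStalk X y)
            ((v⁻¹ : (X.presheaf.stalk y)ˣ) : X.presheaf.stalk y) *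
          algebraMap (X.presheaf.stalk y) (Mero.KStalk X y) b := by
        rw [mul_assoc (g : Mero.KStalk X y), e2, mul_one]
      _ = algebraMap (X.presheaf.stalk y) (Mero.KStalk X y)
          ((b : X.presheaf.stalk y) * (c * ((v⁻¹ : (X.presheaf.stalk y)ˣ) : X.presheaf.stalk y))) := by
        rw [e1, map_mul, map_mul]
        ring
  · rintro ⟨c, rfl⟩
    have ha := nzd_of_unit g _ b hg
    have hc : c ∈ nonZeroDivisors (X.presheaf.stalk y) := by
      rw [mem_nonZeroDivisors_iff_left]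
      intro z hz
      apply (mem_nonZeroDivisors_iff_left.mp ha) z
      rw [mul_assoc, hz, mul_zero]
    refine ⟨⟨c, mem_regStalk_of_nzd y c hc⟩, ?_⟩
    rw [hD]
    congr 1
    apply Units.ext
    show (g : Mero.KStalk X y) = algebraMap (X.presheaf.stalk y) (Mero.KStalk X y) c
    have hub : IsUnit (algebraMap (X.presheaf.stalk y) (Mero.KStalk X y) (b : X.presheaf.stalk y)) :=
      IsLocalization.map_units _ b
    apply hub.mul_left_injective
    show (g : Mero.KStalk X y) * algebraMap (X.presheaf.stalk y) (Mero.KStalk X y) b =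
      algebraMap (X.presheaf.stalk y) (Mero.KStalk X y) c *
        algebraMap (X.presheaf.stalk y) (Mero.KStalk X y) b
    rw [← h1, map_mul, mul_comm]

/-- divisibility of germs at a point of an affine open in terms of the ring of sections -/
theorem exists_mul_iff {W : X.Opens} (hW : IsAffineOpen W) {y : X} (hy : y ∈ W) (a b : Γ(X, W)) :
    (∃ c : X.presheaf.stalk y, X.presheaf.germ W y hy a = X.presheaf.germ W y hy b * c) ↔
      ∃ s : Γ(X, W), s ∉ (hW.primeIdealOf ⟨y, hy⟩).asIdeal ∧ s * a ∈ Ideal.span {b} := by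
  letI := TopCat.Presheaf.algebra_section_stalk X.presheaf (⟨y, hy⟩ : W)
  haveI : IsLocalization.AtPrime (X.presheaf.stalk y) (hW.primeIdealOf ⟨y, hy⟩).asIdeal :=
    hW.isLocalization_stalk ⟨y, hy⟩
  have ea : ∀ r : Γ(X, W), X.presheaf.germ W y hy r =
      algebraMap Γ(X, W) (X.presheaf.stalk y) r := fun r => rfl
  constructor
  · rintro ⟨c, hc⟩
    obtain ⟨⟨c0, s0⟩, hcs⟩ := IsLocalization.surj (hW.primeIdealOf ⟨y, hy⟩).asIdeal.primeCompl c
    have h2 : algebraMap Γ(X, W) (X.presheaf.stalk y) (s0 * a) =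
        algebraMap Γ(X, W) (X.presheaf.stalk y) (c0 * b) := by
      rw [map_mul, map_mul, ← ea a, hc, ea b, ← hcs]
      ring
    obtain ⟨t, ht⟩ := (IsLocalization.eq_iff_exists (hW.primeIdealOf ⟨y, hy⟩).asIdeal.primeCompl
      (X.presheaf.stalk y)).mp h2
    refine ⟨t * s0, (hW.primeIdealOf ⟨y, hy⟩).asIdeal.primeCompl.mul_mem t.2 s0.2, ?_⟩
    rw [Ideal.mem_span_singleton']
    exact ⟨t * c0, by rw [mul_assoc, mul_assoc, ht]⟩
  · rintro ⟨s, hs, hsa⟩
    rw [Ideal.mem_span_singleton'] at hsa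
    obtain ⟨d, hd⟩ := hsa
    have hu : IsUnit (algebraMap Γ(X, W) (X.presheaf.stalk y) s) :=
      IsLocalization.map_units _ (⟨s, hs⟩ : (hW.primeIdealOf ⟨y, hy⟩).asIdeal.primeCompl)
    obtain ⟨u, hu'⟩ := hu
    refine ⟨algebraMap Γ(X, W) (X.presheaf.stalk y) d * ((u⁻¹ : (X.presheaf.stalk y)ˣ) :
      X.presheaf.stalk y), ?_⟩
    rw [ea, ea]
    have h3 : (u : X.presheaf.stalk y) * algebraMap Γ(X, W) (X.presheaf.stalk y) a =
        algebraMap Γ(X, W) (X.presheaf.stalk y) d * algebraMap Γ(X, W) (X.presheaf.stalk y) b := by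
      rw [hu', ← map_mul, ← map_mul, hd]
    calc algebraMap Γ(X, W) (X.presheaf.stalk y) a
        = ((u⁻¹ : (X.presheaf.stalk y)ˣ) : X.presheaf.stalk y) *
          ((u : X.presheaf.stalk y) * algebraMap Γ(X, W) (X.presheaf.stalk y) a) := by
          rw [← mul_assoc, Units.inv_mul, one_mul]
      _ = ((u⁻¹ : (X.presheaf.stalk y)ˣ) : X.presheaf.stalk y) *
          (algebraMap Γ(X, W) (X.presheaf.stalk y) d *
            algebraMap Γ(X, W) (X.presheaf.stalk y) b) := by rw [h3]
      _ = algebraMap Γ(X, W) (X.presheaf.stalk y) b *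
          (algebraMap Γ(X, W) (X.presheaf.stalk y) d *
            ((u⁻¹ : (X.presheaf.stalk y)ˣ) : X.presheaf.stalk y)) := by ring

/-- the depth of the local ring at a point of an affine open, via the localization of the ring of sections -/
theorem depth_stalk_eq [IsLocallyNoetherian X] {W : X.Opens} (hW : IsAffineOpen W) {y : X}
    (hy : y ∈ W) :
    LocCoh.depth (X.presheaf.stalk y) (X.presheaf.stalk y) =
      LocCoh.depth (Localization.AtPrime (hW.primeIdealOf ⟨y, hy⟩).asIdeal)
        (Localization.AtPrime (hW.primeIdealOf ⟨y, hy⟩).asIdeal) := by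
  letI := TopCat.Presheaf.algebra_section_stalk X.presheaf (⟨y, hy⟩ : W)
  haveI : IsLocalization.AtPrime (X.presheaf.stalk y) (hW.primeIdealOf ⟨y, hy⟩).asIdeal :=
    hW.isLocalization_stalk ⟨y, hy⟩
  haveI : IsNoetherianRing Γ(X, W) := IsLocallyNoetherian.component_noetherian ⟨W, hW⟩
  haveI : IsNoetherianRing (Localization.AtPrime (hW.primeIdealOf ⟨y, hy⟩).asIdeal) :=
    IsLocalization.isNoetherianRing (hW.primeIdealOf ⟨y, hy⟩).asIdeal.primeCompl _ inferInstance
  exact (Groth.Agent.SerreLib.depth_eq_of_ringEquiv _ _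
    (IsLocalization.algEquiv (hW.primeIdealOf ⟨y, hy⟩).asIdeal.primeCompl
      (Localization.AtPrime (hW.primeIdealOf ⟨y, hy⟩).asIdeal)
      (X.presheaf.stalk y)).toRingEquiv).symm

/-- a divisor which is not effective at `x` is not effective at some generization of `x` of depth one -/
theorem exists_depth_one_not_eff [IsLocallyNoetherian X] (D : Mero.Divisor X) (x : X)
    (hx : ¬ Mero.IsEffectiveAt D x) :
    ∃ y : X, y ⤳ x ∧ LocCoh.depth (X.presheaf.stalk y) (X.presheaf.stalk y) = 1 ∧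
      ¬ Mero.IsEffectiveAt D y := by
  obtain ⟨W, hW, hxW, a, b, hrep⟩ := exists_rep D x
  haveI : IsNoetherianRing Γ(X, W) := IsLocallyNoetherian.component_noetherian ⟨W, hW⟩
  obtain ⟨gx, hgx, hDx⟩ := hrep ⟨x, hxW⟩
  have h1 := (isEffectiveAt_iff D x gx _ _ hgx hDx).not.mp hx
  have h2 : ∀ s : Γ(X, W), s ∉ (hW.primeIdealOf ⟨x, hxW⟩).asIdeal →
      s * a ∉ Ideal.span {b.1} := by
    intro s hs hsa
    exact h1 ((exists_mul_iff hW hxW a b.1).mpr ⟨s, hs, hsa⟩)
  obtain ⟨p, hp, hpq, hdepth, hp2⟩ := exists_depth_one Γ(X, W)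
    (hW.primeIdealOf ⟨x, hxW⟩).asIdeal a b.1 (nzd_of_mem_regSub b.2) h2
  obtain ⟨y, hyW, rfl⟩ := Groth.Agent.Hartogs.exists_point hW p
  refine ⟨y, ?_, ?_, ?_⟩
  · have hle : hW.primeIdealOf ⟨y, hyW⟩ ≤ hW.primeIdealOf ⟨x, hxW⟩ := hpq
    have := ((PrimeSpectrum.le_iff_specializes _ _).mp hle).map hW.fromSpec.continuous
    rwa [hW.fromSpec_primeIdealOf, hW.fromSpec_primeIdealOf] at this
  · rw [depth_stalk_eq hW hyW]
    exact hdepth
  · intro heff
    obtain ⟨gy, hgy, hDy⟩ := hrep ⟨y, hyW⟩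
    obtain ⟨s, hs, hsa⟩ := (exists_mul_iff hW hyW a b.1).mp
      ((isEffectiveAt_iff D y gy _ _ hgy hDy).mp heff)
    exact hp2 s hs hsa

/-- **S5098, first half.** -/
theorem isEffective_of_depth_one [IsLocallyNoetherian X] (D : Mero.Divisor X)
    (h : ∀ x : X, LocCoh.depth (X.presheaf.stalk x) (X.presheaf.stalk x) = 1 →
      Mero.IsEffectiveAt D x) : Mero.IsEffective D := by
  intro x
  by_contra hx
  obtain ⟨y, -, hd, hy⟩ := exists_depth_one_not_eff D x hx
  exact hy (h y hd)

theorem isEffectiveAt_of_eq_one (D : Mero.Divisor X) (x : X) (h : D.1 x = 1) :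
    Mero.IsEffectiveAt D x := by
  refine ⟨1, ?_⟩
  have e : (IsLocalization.map_units (Mero.KStalk X x) (1 : Mero.regStalk X x)).unit = 1 :=
    Units.ext (by rw [IsUnit.unit_spec, Units.val_one]; exact map_one _)
  rw [h, e]
  exact (QuotientGroup.mk_one _).symm

theorem eq_one_of_isEffectiveAt_inv (D : Mero.Divisor X) (x : X) (h1 : Mero.IsEffectiveAt D x)
    (h2 : Mero.IsEffectiveAt D⁻¹ x) : D.1 x = 1 := by
  obtain ⟨c, hc⟩ := h1
  obtain ⟨c', hc'⟩ := h2
  have hinv : (D⁻¹).1 x = (D.1 x)⁻¹ := rfl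
  rw [hinv, hc, ← QuotientGroup.mk_inv, QuotientGroup.eq, inv_inv] at hc'
  obtain ⟨v, hv⟩ := hc'
  have hcc : (c : X.presheaf.stalk x) * (c' : X.presheaf.stalk x) = (v : X.presheaf.stalk x) := by
    apply Mero.algebraMap_KStalk_injective x
    have := congrArg Units.val hv
    rw [Units.coe_map, Units.val_mul, IsUnit.unit_spec, IsUnit.unit_spec] at this
    rw [map_mul]
    exact this.symm
  have hcu : IsUnit (c : X.presheaf.stalk x) := isUnit_of_mul_isUnit_left (hcc ▸ v.isUnit)
  rw [hc, QuotientGroup.eq_one_iff]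
  obtain ⟨w, hw⟩ := hcu
  refine ⟨w, Units.ext ?_⟩
  rw [Units.coe_map, IsUnit.unit_spec, ← hw]
  rfl

/-- **S5098, second half.** -/
theorem eq_one_of_depth_one [IsLocallyNoetherian X] (D : Mero.Divisor X)
    (h : ∀ x : X, LocCoh.depth (X.presheaf.stalk x) (X.presheaf.stalk x) = 1 → D.1 x = 1) :
    D = 1 := by
  have h1 : Mero.IsEffective D :=
    isEffective_of_depth_one D (fun x hx => isEffectiveAt_of_eq_one D x (h x hx))
  have h2 : Mero.IsEffective D⁻¹ :=
    isEffective_of_depth_one D⁻¹ (fun x hx => isEffectiveAt_of_eq_one D⁻¹ x (by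
      show (D.1 x)⁻¹ = 1
      rw [h x hx, inv_one]))
  apply Subtype.ext
  funext x
  exact eq_one_of_isEffectiveAt_inv D x (h1 x) (h2 x)

/-- **S5099.** -/
theorem depth_eq_one_of_maximal_supp [IsLocallyNoetherian X] (D : Mero.Divisor X) (x : X)
    (hx : x ∈ Mero.supp D) (hmax : ∀ z : X, z ∈ Mero.supp D → z ⤳ x → z = x) :
    LocCoh.depth (X.presheaf.stalk x) (X.presheaf.stalk x) = 1 := by
  have hne : D.1 x ≠ 1 := hx
  by_cases h1 : Mero.IsEffectiveAt D x
  · have h2 : ¬ Mero.IsEffectiveAt D⁻¹ x := fun h2 =>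
      hne (eq_one_of_isEffectiveAt_inv D x h1 h2)
    obtain ⟨y, hyx, hd, hy⟩ := exists_depth_one_not_eff D⁻¹ x h2
    have hys : y ∈ Mero.supp D := by
      intro h1y
      apply hy
      apply isEffectiveAt_of_eq_one
      show (D.1 y)⁻¹ = 1
      rw [h1y, inv_one]
    obtain rfl := hmax y hys hyx
    exact hd
  · obtain ⟨y, hyx, hd, hy⟩ := exists_depth_one_not_eff D x h1
    have hys : y ∈ Mero.supp D := fun h1y => hy (isEffectiveAt_of_eq_one D y h1y)
    obtain rfl := hmax y hys hyx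
    exact hd

/-- if every nonzerodivisor of the local ring at `z` is a unit, every germ of divisor at `z` is trivial -/
theorem germ_eq_one_of_nzd_units (z : X)
    (h : ∀ t ∈ nonZeroDivisors (X.presheaf.stalk z), IsUnit t) (γ : Mero.Germ X z) : γ = 1 := by
  obtain ⟨g, rfl⟩ := QuotientGroup.mk_surjective γ
  rw [QuotientGroup.eq_one_iff]
  obtain ⟨a, s, hg⟩ := IsLocalization.exists_mk'_eq (Mero.regStalk X z) (g : Mero.KStalk X z)
  have hg' : (g : Mero.KStalk X z) = LocalizedModule.mk a s := by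
    rw [← hg, ← Localization.mk_eq_mk']
    rfl
  have h1 : algebraMap (X.presheaf.stalk z) (Mero.KStalk X z) a =
      g * algebraMap (X.presheaf.stalk z) (Mero.KStalk X z) s := by
    rw [hg', mk_mul_algebraMap]
  obtain ⟨ua, hua⟩ := h a (nzd_of_unit g a s hg')
  obtain ⟨us, hus⟩ := h s (Mero.regStalk_le_nonZeroDivisors z s.2)
  refine ⟨ua * us⁻¹, Units.ext ?_⟩
  rw [Units.coe_map]
  show algebraMap (X.presheaf.stalk z) (Mero.KStalk X z)
    ((ua * us⁻¹ : (X.presheaf.stalk z)ˣ) : X.presheaf.stalk z) = g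
  rw [Units.val_mul, map_mul, hua, h1, mul_assoc, ← map_mul, ← hus, Units.mul_inv, map_one,
    mul_one]

/-- **S10851.** -/
theorem one_le_dim_of_mem_supp (D : Mero.Divisor X) (z : X) (hz : z ∈ Mero.supp D) :
    (1 : WithBot ℕ∞) ≤ ringKrullDim (X.presheaf.stalk z) := by
  by_contra hlt
  apply hz
  apply germ_eq_one_of_nzd_units z
  intro t ht
  haveI : Ring.KrullDimLE 0 (X.presheaf.stalk z) :=
    Ring.krullDimLE_iff.2 (Groth.Agent.SerreLib.le_zero_of_lt_one (not_le.mp hlt))
  by_contra hu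
  have hm : t ∈ maximalIdeal (X.presheaf.stalk z) := (mem_maximalIdeal t).mpr hu
  obtain ⟨n, hn⟩ := (Ring.KrullDimLE.isNilpotent_iff_mem_maximalIdeal).mpr hm
  have hpow : t ^ n ∈ nonZeroDivisors (X.presheaf.stalk z) := pow_mem ht n
  rw [hn] at hpow
  exact zero_notMem_nonZeroDivisors hpow

end geo

end Groth.Agent.MeroDepth
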