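import Mathlib
import Groth.Prelude
import Groth.Agent.Lib.MeroDepth_helper5
import Groth.Agent.Lib.SchDense_helper5
import Groth.Agent.Lib.SchDenseFlat_helper5

/-!
# Ideal sheaves without embedded components, of codimension one, at factorial points are effective
Cartier divisors (helper5)
-/

universe u

open CategoryTheory IsLocalRing AlgebraicGeometry TopologicalSpace Opposite

namespace Groth.Agent.EffCartierUFD

section algebra

/-- membership of `a/1` in the extension of an ideal to a localization at a prime -/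
theorem mem_map_iff (A : Type u) [CommRing A] (q : Ideal A) [q.IsPrime]
    (B : Type u) [CommRing B] [Algebra A B] [IsLocalization.AtPrime B q] (K : Ideal A) (a : A) :
    algebraMap A B a ∈ K.map (algebraMap A B) ↔ ∃ t : A, t ∉ q ∧ t * a ∈ K := by
  rw [IsLocalization.mem_map_algebraMap_iff q.primeCompl B]
  constructor
  · rintro ⟨⟨k, t⟩, hkt⟩
    have h1 : algebraMap A B (a * t) = algebraMap A B k := by rw [map_mul]; exact hkt
    obtain ⟨c, hc⟩ := (IsLocalization.eq_iff_exists q.primeCompl B).mp h1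
    refine ⟨c * t, q.primeCompl.mul_mem c.2 t.2, ?_⟩
    have h2 : (c : A) * t * a = c * k := by rw [← hc]; ring
    rw [h2]
    exact K.mul_mem_left _ k.2
  · rintro ⟨t, ht, hta⟩
    refine ⟨⟨⟨t * a, hta⟩, ⟨t, ht⟩⟩, ?_⟩
    show algebraMap A B a * algebraMap A B t = algebraMap A B (t * a)
    rw [map_mul, mul_comm]

/-- the key algebraic statement: if `A_q` is factorial and all associated primes of `A/I` inside `q` have
height one, then `I A_q` is principal, generated by (the image of) an element of `I` -/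
theorem alg (A : Type u) [CommRing A] [IsNoetherianRing A] (I q : Ideal A) [q.IsPrime] (hIq : I ≤ q)
    (B : Type u) [CommRing B] [Algebra A B] [IsLocalization.AtPrime B q] [IsDomain B]
    [UniqueFactorizationMonoid B]
    (H : ∀ Q : Ideal A, Q.IsPrime → I ≤ Q → Q ≤ q → Q ∈ associatedPrimes A (A ⧸ I) →
      Q.height = 1) :
    ∃ f ∈ I, algebraMap A B f ≠ 0 ∧ ∀ p ∈ I, ∃ s : A, s ∉ q ∧ s * p ∈ Ideal.span {f} := by
  classical
  letI : StrongNormalizationMonoid B := UniqueFactorizationMonoid.strongNormalizationMonoid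
  letI : NormalizedGCDMonoid B := UniqueFactorizationMonoid.toNormalizedGCDMonoid B
  have hdisj : ∀ Q : Ideal A, Q ≤ q → Disjoint (q.primeCompl : Set A) (Q : Set A) := by
    intro Q hQ
    rw [Set.disjoint_left]
    intro a ha haQ
    exact ha (hQ haQ)
  have hunit : ∀ t : A, t ∉ q → IsUnit (algebraMap A B t) := fun t ht =>
    IsLocalization.map_units B (⟨t, ht⟩ : q.primeCompl)
  -- minimal primes of a colon-type ideal are associated primes
  have hminass : ∀ K : Ideal A, K.minimalPrimes ⊆ associatedPrimes A (A ⧸ K) := by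
    intro K
    have := Module.associatedPrimes.minimalPrimes_annihilator_subset_associatedPrimes
      (R := A) (M := A ⧸ K)
    rwa [Ideal.annihilator_quotient] at this
  obtain ⟨S, hS⟩ := (isNoetherianRing_iff_ideal_fg A).mp inferInstance I
  have hSI : ∀ s ∈ S, s ∈ I := fun s hs => hS ▸ Ideal.subset_span hs
  let f : A → B := algebraMap A B
  let J : Ideal B := I.map (algebraMap A B)
  have hJ : J = Ideal.span (f '' (S : Set A)) := by
    show I.map (algebraMap A B) = _
    rw [← hS, Ideal.map_span]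
  -- Step 1: some generator has a nonzero image
  have hne : ∃ s ∈ S, f s ≠ 0 := by
    by_contra hcon
    push Not at hcon
    have hJbot : J = ⊥ := by
      rw [hJ, Ideal.span_eq_bot]
      rintro _ ⟨s, hs, rfl⟩
      exact hcon s hs
    obtain ⟨Q, hQmin, hQq⟩ := Ideal.exists_minimalPrimes_le hIq
    haveI hQp : Q.IsPrime := hQmin.1.1
    have hht : Q.height = 1 := H Q hQp hQmin.1.2 hQq (hminass I hQmin)
    have hmapQ : Q.map (algebraMap A B) = ⊥ := by
      -- `Q` is the kernel of `A → B`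
      let N : Ideal A := RingHom.ker (algebraMap A B)
      haveI : N.IsPrime := RingHom.ker_isPrime _
      have hIN : I ≤ N := by
        intro a ha
        have : algebraMap A B a ∈ J := Ideal.mem_map_of_mem _ ha
        rw [hJbot] at this
        exact this
      have hNQ : N ≤ Q := by
        intro a ha
        obtain ⟨t, ht⟩ := (IsLocalization.map_eq_zero_iff q.primeCompl B a).mp ha
        have h0 : (t : A) * a ∈ Q := by rw [ht]; exact Q.zero_mem
        rcases hQp.mem_or_mem h0 with h | h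
        · exact absurd (hQq h) t.2
        · exact h
      have hQN : Q ≤ N := hQmin.2 ⟨inferInstance, hIN⟩ hNQ
      rw [eq_bot_iff, Ideal.map_le_iff_le_comap]
      intro a ha
      exact hQN ha
    have h1 := IsLocalization.height_map_of_disjoint (S := B) q.primeCompl Q (hdisj Q hQq)
    rw [hmapQ, Ideal.height_bot, hht] at h1
    exact zero_ne_one h1
  obtain ⟨s0, hs0, hfs0⟩ := hne
  let d : B := S.gcd f
  have hd0 : d ≠ 0 := by
    intro h0
    exact hfs0 ((Finset.gcd_eq_zero_iff.mp h0) s0 hs0)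
  obtain ⟨g, hg, hg1⟩ := Finset.extract_gcd f ⟨s0, hs0⟩
  let J' : Ideal B := Ideal.span (g '' (S : Set A))
  have hJd : J = Ideal.span {d} * J' := by
    rw [hJ, Ideal.span_mul_span', Set.singleton_mul, Set.image_image]
    congr 1
    exact Set.image_congr (fun s hs => hg s hs)
  -- Step 3: `J' = ⊤`
  have hJ'top : J' = ⊤ := by
    by_contra hJ'
    obtain ⟨⟨δ, σ⟩, hδ⟩ := IsLocalization.surj q.primeCompl d
    have hδ' : d * f σ = f δ := hδ
    have hσu : IsUnit (f σ) := hunit σ σ.2
    let I' : Ideal A := (I : Submodule A A).colon {δ}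
    have hI' : ∀ a, a ∈ I' ↔ a * δ ∈ I := fun a => by
      rw [Submodule.mem_colon_singleton, smul_eq_mul]
    have hII' : I ≤ I' := fun a ha => (hI' a).mpr (I.mul_mem_right _ ha)
    have hmapI' : I'.map (algebraMap A B) = J' := by
      apply le_antisymm
      · rw [Ideal.map_le_iff_le_comap]
        intro a ha
        have h1 : f (a * δ) ∈ J := Ideal.mem_map_of_mem _ ((hI' a).mp ha)
        rw [hJd, Ideal.mem_span_singleton_mul] at h1
        obtain ⟨j, hj, hdj⟩ := h1
        have h2 : j = f a * f σ := by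
          apply mul_left_cancel₀ hd0
          rw [hdj]
          show f (a * δ) = d * (f a * f σ)
          rw [show f (a * δ) = f a * f δ from map_mul _ _ _, ← hδ']
          ring
        obtain ⟨u, hu⟩ := hσu
        have h3 : f a = j * ↑u⁻¹ := by
          rw [h2, ← hu, mul_assoc, Units.mul_inv, mul_one]
        show f a ∈ J'
        rw [h3]
        exact J'.mul_mem_right _ hj
      · show Ideal.span (g '' (S : Set A)) ≤ _
        rw [Ideal.span_le]
        rintro _ ⟨s, hs, rfl⟩
        obtain ⟨⟨a', t⟩, ha'⟩ := IsLocalization.surj q.primeCompl (g s)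
        have ha'' : g s * f t = f a' := ha'
        have h1 : f (a' * δ) ∈ I.map (algebraMap A B) := by
          have : f (a' * δ) = f (s * t * σ) := by
            show algebraMap A B (a' * δ) = algebraMap A B (s * t * σ)
            rw [map_mul, map_mul, map_mul]
            show f a' * f δ = f s * f t * f σ
            rw [← ha'', ← hδ', hg s hs]
            ring
          rw [this]
          exact Ideal.mem_map_of_mem _ (I.mul_mem_right _ (I.mul_mem_right _ (hSI s hs)))
        obtain ⟨t', ht', ht'a⟩ := (mem_map_iff A q B I (a' * δ)).mp h1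
        have h2 : t' * a' ∈ I' := by
          rw [hI', mul_assoc]
          exact ht'a
        have h3 : f a' ∈ I'.map (algebraMap A B) :=
          (mem_map_iff A q B I' a').mpr ⟨t', ht', h2⟩
        obtain ⟨u, hu⟩ := hunit t t.2
        have h4 : g s = f a' * ↑u⁻¹ := by
          rw [← ha'', ← show (u : B) = f t from hu, mul_assoc, Units.mul_inv, mul_one]
        show g s ∈ I'.map (algebraMap A B)
        rw [h4]
        exact Ideal.mul_mem_right _ _ h3
    have hI'q : I' ≤ q := by
      intro a ha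
      by_contra haq
      apply hJ'
      rw [← hmapI', Ideal.eq_top_iff_one]
      obtain ⟨u, hu⟩ := hunit a haq
      have h1 : f a ∈ I'.map (algebraMap A B) := Ideal.mem_map_of_mem _ ha
      have h2 : (1 : B) = f a * ↑u⁻¹ := by
        rw [← show (u : B) = f a from hu, Units.mul_inv]
      rw [h2]
      exact Ideal.mul_mem_right _ _ h1
    obtain ⟨Q, hQmin, hQq⟩ := Ideal.exists_minimalPrimes_le hI'q
    haveI hQp : Q.IsPrime := hQmin.1.1
    have hQass' : Q ∈ associatedPrimes A (A ⧸ I') := hminass I' hQmin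
    have hQass : Q ∈ associatedPrimes A (A ⧸ I) := by
      obtain ⟨-, m, hm⟩ := isAssociatedPrime_iff.mp hQass'
      obtain ⟨a, rfl⟩ := Ideal.Quotient.mk_surjective m
      refine isAssociatedPrime_iff.mpr ⟨hQp, Ideal.Quotient.mk I (a * δ), ?_⟩
      ext r
      rw [hm, Submodule.mem_colon_singleton, Submodule.mem_colon_singleton, Submodule.mem_bot,
        Submodule.mem_bot]
      show r • (Ideal.Quotient.mk I') a = 0 ↔ r • (Ideal.Quotient.mk I) (a * δ) = 0
      have e1 : r • (Ideal.Quotient.mk I') a = Ideal.Quotient.mk I' (r * a) := rfl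
      have e2 : r • (Ideal.Quotient.mk I) (a * δ) = Ideal.Quotient.mk I (r * (a * δ)) := rfl
      rw [e1, e2, Ideal.Quotient.eq_zero_iff_mem, Ideal.Quotient.eq_zero_iff_mem, hI', mul_assoc]
    have hht : Q.height = 1 := H Q hQp (hII'.trans hQmin.1.2) hQq hQass
    haveI hQ'p : (Q.map (algebraMap A B)).IsPrime :=
      IsLocalization.isPrime_of_isPrime_disjoint q.primeCompl B Q hQp (hdisj Q hQq)
    have hht' : (Q.map (algebraMap A B)).height = 1 := by
      rw [IsLocalization.height_map_of_disjoint (S := B) q.primeCompl Q (hdisj Q hQq), hht]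
    obtain ⟨π, hπ⟩ := (UniqueFactorizationMonoid.isPrincipal_of_height_eq_one hht').principal
    have hJ'Q : J' ≤ Ideal.span {π} := by
      rw [← hmapI']
      have h1 := Ideal.map_mono (f := algebraMap A B) hQmin.1.2
      rw [hπ] at h1
      exact h1
    have hdvd : ∀ s ∈ S, π ∣ g s := by
      intro s hs
      exact Ideal.mem_span_singleton.mp (hJ'Q (Ideal.subset_span ⟨s, hs, rfl⟩))
    have hπ1 : π ∣ 1 := by
      rw [← hg1]
      exact Finset.dvd_gcd hdvd
    have hπu : IsUnit π := isUnit_of_dvd_one hπ1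
    apply hQ'p.ne_top
    rw [hπ]
    exact Ideal.span_singleton_eq_top.mpr hπu
  have hJspan : J = Ideal.span {d} := by rw [hJd, hJ'top, Ideal.mul_top]
  have hdJ : d ∈ I.map (algebraMap A B) := by
    show d ∈ J
    rw [hJspan]
    exact Ideal.mem_span_singleton_self d
  obtain ⟨⟨k, t⟩, hkt⟩ := (IsLocalization.mem_map_algebraMap_iff q.primeCompl B).mp hdJ
  have hkt' : d * f t = f k := hkt
  have htu : IsUnit (f t) := hunit t t.2
  refine ⟨k, k.2, ?_, ?_⟩
  · show f k ≠ 0
    rw [← hkt']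
    exact mul_ne_zero hd0 htu.ne_zero
  · intro p hp
    have h1 : f p ∈ J := Ideal.mem_map_of_mem _ hp
    rw [hJspan, Ideal.mem_span_singleton] at h1
    obtain ⟨c, hc⟩ := h1
    obtain ⟨⟨c0, t'⟩, hc0⟩ := IsLocalization.surj q.primeCompl c
    have hc0' : c * f t' = f c0 := hc0
    have h2 : algebraMap A B (p * t * t') = algebraMap A B (k * c0) := by
      rw [map_mul, map_mul, map_mul]
      show f p * f t * f t' = f k * f c0
      rw [hc, ← hkt', ← hc0']
      ring
    obtain ⟨t'', ht''⟩ := (IsLocalization.eq_iff_exists q.primeCompl B).mp h2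
    refine ⟨t'' * t * t', q.primeCompl.mul_mem (q.primeCompl.mul_mem t''.2 t.2) t'.2, ?_⟩
    rw [Ideal.mem_span_singleton']
    refine ⟨t'' * c0, ?_⟩
    have h3 : (t'' : A) * t * t' * p = t'' * (p * t * t') := by ring
    rw [h3, ht'']
    ring

end algebra


section geo

variable {X : Scheme.{u}}

/-- a section whose germ at `x` is a nonzerodivisor is a regular section on a basic open neighbourhood -/
theorem exists_basicOpen_regSub [IsLocallyNoetherian X] {W : X.Opens} (hW : IsAffineOpen W) {x : X}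
    (hxW : x ∈ W) (s : Γ(X, W))
    (ht : X.presheaf.germ W x hxW s ∈ nonZeroDivisors (X.presheaf.stalk x)) :
    ∃ g : Γ(X, W), g ∉ (hW.primeIdealOf ⟨x, hxW⟩).asIdeal ∧
      X.presheaf.map (homOfLE (X.basicOpen_le g)).op s ∈ Mero.regSub X (X.basicOpen g) := by
  haveI : IsNoetherianRing Γ(X, W) := IsLocallyNoetherian.component_noetherian ⟨W, hW⟩
  let J : Ideal Γ(X, W) := (⊥ : Submodule Γ(X, W) Γ(X, W)).colon {s}
  have hJ : ∀ r, r ∈ J ↔ r * s = 0 := fun r => by
    rw [Submodule.mem_colon_singleton, Submodule.mem_bot, smul_eq_mul]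
  have hkill : ∀ r ∈ J, ∃ g : Γ(X, W), g ∉ (hW.primeIdealOf ⟨x, hxW⟩).asIdeal ∧ g * r = 0 := by
    intro r hr
    letI := TopCat.Presheaf.algebra_section_stalk X.presheaf (⟨x, hxW⟩ : W)
    haveI : IsLocalization.AtPrime (X.presheaf.stalk x) (hW.primeIdealOf ⟨x, hxW⟩).asIdeal :=
      hW.isLocalization_stalk ⟨x, hxW⟩
    have h1 : X.presheaf.germ W x hxW r * X.presheaf.germ W x hxW s = 0 := by
      rw [← map_mul, (hJ r).mp hr, map_zero]
    have h2 : algebraMap Γ(X, W) (X.presheaf.stalk x) r = 0 :=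
      (mem_nonZeroDivisors_iff_right.mp ht) _ h1
    obtain ⟨m, hm⟩ := (IsLocalization.map_eq_zero_iff (hW.primeIdealOf ⟨x, hxW⟩).asIdeal.primeCompl
      (X.presheaf.stalk x) r).mp h2
    exact ⟨m, m.2, hm⟩
  classical
  choose! G hG using hkill
  obtain ⟨S, hS⟩ := (isNoetherianRing_iff_ideal_fg Γ(X, W)).mp inferInstance J
  let g : Γ(X, W) := ∏ r ∈ S, G r
  have hSJ : ∀ r ∈ S, r ∈ J := fun r hr => hS ▸ Ideal.subset_span hr
  have hg : g ∉ (hW.primeIdealOf ⟨x, hxW⟩).asIdeal := by
    intro hmem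
    obtain ⟨r, hr, hGr⟩ := ((hW.primeIdealOf ⟨x, hxW⟩).isPrime.prod_mem_iff).mp hmem
    exact (hG r (hSJ r hr)).1 hGr
  have hgJ : ∀ r ∈ J, g * r = 0 := by
    intro r hr
    rw [← hS] at hr
    induction hr using Submodule.span_induction with
    | mem r0 hr0 =>
      obtain ⟨c, hc⟩ := Finset.dvd_prod_of_mem G hr0
      show g * r0 = 0
      have : g = G r0 * c := hc
      rw [this, mul_comm (G r0) c, mul_assoc, (hG r0 (hSJ r0 hr0)).2, mul_zero]
    | zero => exact mul_zero _
    | add r1 r2 _ _ h1 h2 => rw [mul_add, h1, h2, add_zero]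
    | smul c r1 _ h1 => rw [smul_eq_mul, mul_left_comm, h1, mul_zero]
  have hVW : X.basicOpen g ≤ W := X.basicOpen_le g
  refine ⟨g, hg, ?_⟩
  intro y
  have hyW : y.1 ∈ W := hVW y.2
  show X.presheaf.germ (X.basicOpen g) y.1 y.2 (X.presheaf.map (homOfLE hVW).op s) ∈ _
  rw [TopCat.Presheaf.germ_res_apply X.presheaf (homOfLE hVW) y.1 y.2 s]
  letI := TopCat.Presheaf.algebra_section_stalk X.presheaf (⟨y.1, hyW⟩ : W)
  haveI : IsLocalization.AtPrime (X.presheaf.stalk y.1) (hW.primeIdealOf ⟨y.1, hyW⟩).asIdeal :=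
    hW.isLocalization_stalk ⟨y.1, hyW⟩
  have hgy : g ∈ (hW.primeIdealOf ⟨y.1, hyW⟩).asIdeal.primeCompl :=
    StalkLocH8.notMem_prime_of_mem_basicOpen hW hyW y.2
  rw [mem_nonZeroDivisors_iff_left]
  intro c' hc'
  obtain ⟨⟨c, h⟩, hch⟩ := IsLocalization.surj (hW.primeIdealOf ⟨y.1, hyW⟩).asIdeal.primeCompl c'
  have h3 : algebraMap Γ(X, W) (X.presheaf.stalk y.1) (s * c) = 0 := by
    rw [map_mul, ← hch, ← mul_assoc]
    have : algebraMap Γ(X, W) (X.presheaf.stalk y.1) s * c' = 0 := hc'
    rw [this, zero_mul]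
  obtain ⟨h', hh'⟩ := (IsLocalization.map_eq_zero_iff (hW.primeIdealOf ⟨y.1, hyW⟩).asIdeal.primeCompl
    (X.presheaf.stalk y.1) (s * c)).mp h3
  have h4 : (h' : Γ(X, W)) * c ∈ J := by
    rw [hJ]
    rw [← hh']
    ring
  have h5 : g * ((h' : Γ(X, W)) * c) = 0 := hgJ _ h4
  have h6 : algebraMap Γ(X, W) (X.presheaf.stalk y.1) c = 0 := by
    have hu1 : IsUnit (algebraMap Γ(X, W) (X.presheaf.stalk y.1) g) :=
      IsLocalization.map_units _ (⟨g, hgy⟩ : (hW.primeIdealOf ⟨y.1, hyW⟩).asIdeal.primeCompl)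
    have hu2 : IsUnit (algebraMap Γ(X, W) (X.presheaf.stalk y.1) h') :=
      IsLocalization.map_units _ h'
    have h7 := congrArg (algebraMap Γ(X, W) (X.presheaf.stalk y.1)) h5
    rw [map_mul, map_mul, map_zero] at h7
    exact hu2.mul_right_eq_zero.mp (hu1.mul_right_eq_zero.mp h7)
  have hu3 : IsUnit (algebraMap Γ(X, W) (X.presheaf.stalk y.1) h) :=
    IsLocalization.map_units _ h
  rw [h6] at hch
  exact hu3.mul_left_eq_zero.mp hch

/-- the prime of the image of a point, for a morphism and an affine open with affine preimage -/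
theorem primeIdealOf_comap {Z : Scheme.{u}} (f : Z ⟶ X) {W : X.Opens} (hW : IsAffineOpen W)
    (hV : IsAffineOpen (f ⁻¹ᵁ W)) {z : Z} (hz : f z ∈ W) :
    (hW.primeIdealOf ⟨f z, hz⟩).asIdeal =
      (hV.primeIdealOf ⟨z, hz⟩).asIdeal.comap (f.app W).hom := by
  ext a
  rw [Ideal.mem_comap]
  constructor
  · intro ha
    by_contra hna
    have h1 := FLFH8.mem_basicOpen_of_notMem_prime hV hz hna
    have h2 : z ∈ f ⁻¹ᵁ X.basicOpen a := by
      rw [Scheme.preimage_basicOpen]
      exact h1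
    exact (StalkLocH8.notMem_prime_of_mem_basicOpen hW hz h2) ha
  · intro ha
    by_contra hna
    have h1 : f z ∈ X.basicOpen a := FLFH8.mem_basicOpen_of_notMem_prime hW hz hna
    have h2 : z ∈ Z.basicOpen (f.app W a) := by
      rw [← Scheme.preimage_basicOpen]
      exact h1
    exact (StalkLocH8.notMem_prime_of_mem_basicOpen hV hz h2) ha

/-- spreading out a local generator of an ideal sheaf -/
theorem spread [IsLocallyNoetherian X] (𝓘 : X.IdealSheafData) (W : X.affineOpens) {x : X}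
    (hxW : x ∈ W.1) (f : Γ(X, W.1)) (hfI : f ∈ 𝓘.ideal W)
    (hf : X.presheaf.germ W.1 x hxW f ∈ nonZeroDivisors (X.presheaf.stalk x))
    (hgen : ∀ p ∈ 𝓘.ideal W, ∃ s : Γ(X, W.1), s ∉ (W.2.primeIdealOf ⟨x, hxW⟩).asIdeal ∧
      s * p ∈ Ideal.span {f}) :
    ∃ U : X.affineOpens, x ∈ U.1 ∧ ∃ f' : Γ(X, U.1), f' ∈ nonZeroDivisors Γ(X, U.1) ∧
      𝓘.ideal U = Ideal.span {f'} := by
  classical
  haveI : IsNoetherianRing Γ(X, W.1) := IsLocallyNoetherian.component_noetherian W
  obtain ⟨S, hS⟩ := (isNoetherianRing_iff_ideal_fg Γ(X, W.1)).mp inferInstance (𝓘.ideal W)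
  have hSI : ∀ p ∈ S, p ∈ 𝓘.ideal W := fun p hp => hS ▸ Ideal.subset_span hp
  choose! σ hσ using hgen
  let s : Γ(X, W.1) := ∏ p ∈ S, σ p
  have hs : s ∉ (W.2.primeIdealOf ⟨x, hxW⟩).asIdeal := by
    intro hmem
    obtain ⟨p, hp, hσp⟩ := ((W.2.primeIdealOf ⟨x, hxW⟩).isPrime.prod_mem_iff).mp hmem
    exact (hσ p (hSI p hp)).1 hσp
  have hsI : ∀ p ∈ 𝓘.ideal W, s * p ∈ Ideal.span {f} := by
    intro p hp
    rw [← hS] at hp
    induction hp using Submodule.span_induction with
    | mem p0 hp0 =>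
      obtain ⟨c, hc⟩ := Finset.dvd_prod_of_mem σ hp0
      have : s = σ p0 * c := hc
      rw [this, mul_comm (σ p0) c, mul_assoc]
      exact Ideal.mul_mem_left _ _ (hσ p0 (hSI p0 hp0)).2
    | zero => rw [mul_zero]; exact Ideal.zero_mem _
    | add p1 p2 _ _ h1 h2 => rw [mul_add]; exact Ideal.add_mem _ h1 h2
    | smul c p1 _ h1 => rw [smul_eq_mul, mul_left_comm]; exact Ideal.mul_mem_left _ _ h1
  obtain ⟨g, hg, hgreg⟩ := exists_basicOpen_regSub W.2 hxW f hf
  have hsg : s * g ∉ (W.2.primeIdealOf ⟨x, hxW⟩).asIdeal := fun h =>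
    ((W.2.primeIdealOf ⟨x, hxW⟩).isPrime.mem_or_mem h).elim hs hg
  have hle_g : X.basicOpen (s * g) ≤ X.basicOpen g := by
    rw [Scheme.basicOpen_mul]
    exact inf_le_right
  have hle_s : X.basicOpen (s * g) ≤ X.basicOpen s := by
    rw [Scheme.basicOpen_mul]
    exact inf_le_left
  refine ⟨X.affineBasicOpen (s * g), FLFH8.mem_basicOpen_of_notMem_prime W.2 hxW hsg,
    X.presheaf.map (homOfLE (X.basicOpen_le (s * g))).op f, ?_, ?_⟩
  · apply MeroDepth.nzd_of_mem_regSub
    have h1 := Mero.regSub_res (homOfLE hle_g) hgreg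
    rw [SchDenseFlat.res_res] at h1
    exact h1
  · have key : Ideal.map (X.presheaf.map (homOfLE (X.basicOpen_le (s * g))).op).hom (𝓘.ideal W) =
        Ideal.span {(X.presheaf.map (homOfLE (X.basicOpen_le (s * g))).op).hom f} := by
      refine le_antisymm (Ideal.map_le_iff_le_comap.mpr fun p hp => Ideal.mem_comap.mpr ?_) ?_
      · have h1 := hsI p hp
        rw [Ideal.mem_span_singleton'] at h1
        obtain ⟨c, hc⟩ := h1
        have hsu : IsUnit (X.presheaf.map (homOfLE (X.basicOpen_le (s * g))).op s) := by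
          have h2 : IsUnit (X.presheaf.map (homOfLE (X.basicOpen_le s)).op s) :=
            X.toRingedSpace.isUnit_res_basicOpen s
          have h3 : IsUnit (X.presheaf.map (homOfLE hle_s).op
              (X.presheaf.map (homOfLE (X.basicOpen_le s)).op s)) :=
            h2.map (X.presheaf.map (homOfLE hle_s).op).hom
          rw [SchDenseFlat.res_res] at h3
          exact h3
        obtain ⟨u, hu⟩ := hsu
        refine Ideal.mem_span_singleton'.mpr
          ⟨↑u⁻¹ * (X.presheaf.map (homOfLE (X.basicOpen_le (s * g))).op).hom c, ?_⟩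
        have h4 : (X.presheaf.map (homOfLE (X.basicOpen_le (s * g))).op).hom c *
            (X.presheaf.map (homOfLE (X.basicOpen_le (s * g))).op).hom f =
            (u : Γ(X, X.basicOpen (s * g))) *
              (X.presheaf.map (homOfLE (X.basicOpen_le (s * g))).op).hom p := by
          rw [hu]
          show (X.presheaf.map (homOfLE (X.basicOpen_le (s * g))).op).hom c *
            (X.presheaf.map (homOfLE (X.basicOpen_le (s * g))).op).hom f =
            (X.presheaf.map (homOfLE (X.basicOpen_le (s * g))).op).hom s *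
              (X.presheaf.map (homOfLE (X.basicOpen_le (s * g))).op).hom p
          rw [← map_mul, ← map_mul, hc]
        rw [mul_assoc, h4, ← mul_assoc, Units.inv_mul, one_mul]
      · rw [Ideal.span_le, Set.singleton_subset_iff]
        exact Ideal.mem_map_of_mem _ hfI
    exact (𝓘.map_ideal_basicOpen W (s * g)).symm.trans key

/-- associated primes of `A/I` have height one (translation of the hypothesis on the closed subscheme) -/
theorem height_eq_one_of_ass [IsLocallyNoetherian X] (𝓘 : X.IdealSheafData)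
    (H : ∀ z : 𝓘.subscheme,
      IsAssociatedPrime (maximalIdeal (𝓘.subscheme.presheaf.stalk z)) (𝓘.subscheme.presheaf.stalk z) →
      ringKrullDim (X.presheaf.stalk (𝓘.subschemeι z)) = 1)
    (W : X.affineOpens) (Q : Ideal Γ(X, W.1)) (hQ : Q.IsPrime) (hIQ : 𝓘.ideal W ≤ Q)
    (hass : Q ∈ associatedPrimes Γ(X, W.1) (Γ(X, W.1) ⧸ 𝓘.ideal W)) : Q.height = 1 := by
  haveI : IsNoetherianRing Γ(X, W.1) := IsLocallyNoetherian.component_noetherian W
  haveI : IsLocallyNoetherian 𝓘.subscheme := LocallyOfFiniteType.isLocallyNoetherian 𝓘.subschemeι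
  have hV : IsAffineOpen (𝓘.subschemeι ⁻¹ᵁ W.1) := W.2.preimage 𝓘.subschemeι
  haveI : IsNoetherianRing Γ(𝓘.subscheme, 𝓘.subschemeι ⁻¹ᵁ W.1) :=
    IsLocallyNoetherian.component_noetherian ⟨_, hV⟩
  let φ : Γ(X, W.1) →+* Γ(𝓘.subscheme, 𝓘.subschemeι ⁻¹ᵁ W.1) := (𝓘.subschemeι.app W.1).hom
  have hsurj : Function.Surjective φ := 𝓘.subschemeι_app_surjective W
  have hker : RingHom.ker φ = 𝓘.ideal W := 𝓘.ker_subschemeι_app W
  haveI := hQ
  haveI hQ'p : (Q.map φ).IsPrime :=
    Ideal.map_isPrime_of_surjective hsurj (by rw [hker]; exact hIQ)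
  have hcomap : (Q.map φ).comap φ = Q := by
    rw [Ideal.comap_map_of_surjective φ hsurj, ← RingHom.ker_eq_comap_bot, hker,
      sup_eq_left.mpr hIQ]
  have hass' : Q.map φ ∈ associatedPrimes Γ(𝓘.subscheme, 𝓘.subschemeι ⁻¹ᵁ W.1)
      Γ(𝓘.subscheme, 𝓘.subschemeι ⁻¹ᵁ W.1) := by
    obtain ⟨-, m, hm⟩ := isAssociatedPrime_iff.mp hass
    obtain ⟨a, rfl⟩ := Ideal.Quotient.mk_surjective m
    refine isAssociatedPrime_iff.mpr ⟨hQ'p, φ a, ?_⟩
    ext c
    obtain ⟨r, rfl⟩ := hsurj c
    rw [Submodule.mem_colon_singleton, Submodule.mem_bot, smul_eq_mul, ← map_mul]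
    have h1 : φ r ∈ Q.map φ ↔ r ∈ Q := by
      rw [← Ideal.mem_comap, hcomap]
    have h2 : φ (r * a) = 0 ↔ r * a ∈ 𝓘.ideal W := by
      rw [← hker, RingHom.mem_ker]
    have h3 : r ∈ Q ↔ r * a ∈ 𝓘.ideal W := by
      rw [hm, Submodule.mem_colon_singleton, Submodule.mem_bot]
      have e1 : r • (Ideal.Quotient.mk (𝓘.ideal W)) a =
          Ideal.Quotient.mk (𝓘.ideal W) (r * a) := rfl
      rw [e1, Ideal.Quotient.eq_zero_iff_mem]
    rw [h1, h2, h3]
  obtain ⟨z, hzV, hz⟩ := Groth.Agent.Hartogs.exists_point hV (Q.map φ)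
  have hassz : IsAssociatedPrime (maximalIdeal (𝓘.subscheme.presheaf.stalk z))
      (𝓘.subscheme.presheaf.stalk z) := by
    rw [Groth.Agent.SchDense.isAss_stalk_iff hV hzV, hz]
    exact hass'
  have hdim := H z hassz
  have hzW : 𝓘.subschemeι z ∈ W.1 := hzV
  have hprime : (W.2.primeIdealOf ⟨𝓘.subschemeι z, hzW⟩).asIdeal = Q := by
    rw [primeIdealOf_comap 𝓘.subschemeι W.2 hV hzW, hz]
    exact hcomap
  letI := TopCat.Presheaf.algebra_section_stalk X.presheaf (⟨𝓘.subschemeι z, hzW⟩ : W.1)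
  haveI : IsLocalization.AtPrime (X.presheaf.stalk (𝓘.subschemeι z))
      (W.2.primeIdealOf ⟨𝓘.subschemeι z, hzW⟩).asIdeal := W.2.isLocalization_stalk ⟨_, hzW⟩
  have h4 := IsLocalization.AtPrime.ringKrullDim_eq_height
    (W.2.primeIdealOf ⟨𝓘.subschemeι z, hzW⟩).asIdeal (X.presheaf.stalk (𝓘.subschemeι z))
  rw [hdim, hprime] at h4
  have h5 : ((1 : ℕ∞) : WithBot ℕ∞) = (Q.height : WithBot ℕ∞) := h4
  exact (WithBot.coe_injective h5).symm

/-- the general statement: no embedded components, codimension one, factorial local rings -/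
theorem main_general [IsLocallyNoetherian X] (𝓘 : X.IdealSheafData)
    (H : ∀ z : 𝓘.subscheme,
      IsAssociatedPrime (maximalIdeal (𝓘.subscheme.presheaf.stalk z)) (𝓘.subscheme.presheaf.stalk z) →
      ringKrullDim (X.presheaf.stalk (𝓘.subschemeι z)) = 1)
    (h3 : ∀ x : X, x ∈ 𝓘.support →
      IsDomain (X.presheaf.stalk x) ∧ UniqueFactorizationMonoid (X.presheaf.stalk x)) :
    BlowUp.IsEffCartierIdeal 𝓘 := by
  intro x
  by_cases hx : x ∈ 𝓘.support
  · obtain ⟨_, ⟨W, hW : IsAffineOpen W, rfl⟩, hxW, -⟩ :=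
      (X.isBasis_affineOpens).exists_subset_of_mem_open (Set.mem_univ x) isOpen_univ
    let W' : X.affineOpens := ⟨W, hW⟩
    haveI : IsNoetherianRing Γ(X, W) := IsLocallyNoetherian.component_noetherian W'
    obtain ⟨hdom, hufd⟩ := h3 x hx
    haveI := hdom
    haveI := hufd
    letI := TopCat.Presheaf.algebra_section_stalk X.presheaf (⟨x, hxW⟩ : W)
    haveI : IsLocalization.AtPrime (X.presheaf.stalk x) (hW.primeIdealOf ⟨x, hxW⟩).asIdeal :=
      hW.isLocalization_stalk ⟨x, hxW⟩
    have hIq : 𝓘.ideal W' ≤ (hW.primeIdealOf ⟨x, hxW⟩).asIdeal := by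
      intro a ha
      by_contra hna
      have h1 : x ∈ X.basicOpen a := FLFH8.mem_basicOpen_of_notMem_prime hW hxW hna
      have h2 := (Scheme.IdealSheafData.mem_support_iff_of_mem (U := W') hxW).mp hx
      rw [Scheme.mem_zeroLocus_iff] at h2
      exact h2 a ha h1
    obtain ⟨f, hfI, hf0, hgen⟩ := alg Γ(X, W) (𝓘.ideal W') (hW.primeIdealOf ⟨x, hxW⟩).asIdeal hIq
      (X.presheaf.stalk x)
      (fun Q hQ hIQ _ hass => height_eq_one_of_ass 𝓘 H W' Q hQ hIQ hass)
    exact spread 𝓘 W' hxW f hfI (mem_nonZeroDivisors_of_ne_zero hf0) hgen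
  · have hopen : IsOpen ((𝓘.support : Set X)ᶜ) := 𝓘.support.isClosed.isOpen_compl
    obtain ⟨_, ⟨U, hU : IsAffineOpen U, rfl⟩, hxU, hUs⟩ :=
      (X.isBasis_affineOpens).exists_subset_of_mem_open hx hopen
    refine ⟨⟨U, hU⟩, hxU, 1, one_mem _, ?_⟩
    rw [Ideal.span_singleton_one]
    by_contra hne
    obtain ⟨M, hM, hIM⟩ := Ideal.exists_le_maximal _ hne
    haveI := hM.isPrime
    obtain ⟨y, hyU, hy⟩ := Groth.Agent.Hartogs.exists_point hU M
    apply hUs hyU
    show y ∈ 𝓘.support
    rw [Scheme.IdealSheafData.mem_support_iff_of_mem (U := ⟨U, hU⟩) hyU, Scheme.mem_zeroLocus_iff]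
    intro a ha hya
    have h1 : a ∉ (hU.primeIdealOf ⟨y, hyU⟩).asIdeal :=
      StalkLocH8.notMem_prime_of_mem_basicOpen hU hyU hya
    rw [hy] at h1
    exact h1 (hIM ha)

/-- **S1684** -/
theorem main_integral [IsLocallyNoetherian X] (𝓘 : X.IdealSheafData) [IsIntegral 𝓘.subscheme]
    (hcodim : ringKrullDim (X.presheaf.stalk (𝓘.subschemeι (genericPoint ↥𝓘.subscheme))) = 1)
    (hufd : ∀ x : X, x ∈ 𝓘.support →
      IsDomain (X.presheaf.stalk x) ∧ UniqueFactorizationMonoid (X.presheaf.stalk x)) :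
    BlowUp.IsEffCartierIdeal 𝓘 := by
  haveI : IsLocallyNoetherian 𝓘.subscheme := LocallyOfFiniteType.isLocallyNoetherian 𝓘.subschemeι
  refine main_general 𝓘 ?_ hufd
  intro z hz
  obtain ⟨-, c, hc⟩ := isAssociatedPrime_iff.mp hz
  have hc0 : c ≠ 0 := by
    rintro rfl
    have h1 : (1 : 𝓘.subscheme.presheaf.stalk z) ∈ maximalIdeal (𝓘.subscheme.presheaf.stalk z) := by
      rw [hc, Submodule.mem_colon_singleton]
      simp
    exact (Ideal.ne_top_iff_one _).mp (IsLocalRing.maximalIdeal.isMaximal _).ne_top h1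
  have hm : maximalIdeal (𝓘.subscheme.presheaf.stalk z) = ⊥ := by
    rw [eq_bot_iff]
    intro r hr
    rw [hc, Submodule.mem_colon_singleton, Submodule.mem_bot, smul_eq_mul] at hr
    rcases mul_eq_zero.mp hr with h | h
    · exact h
    · exact absurd h hc0
  have hfield : IsField (𝓘.subscheme.presheaf.stalk z) :=
    IsLocalRing.isField_iff_maximalIdeal_eq.mpr hm
  have hdim0 : ringKrullDim (𝓘.subscheme.presheaf.stalk z) = 0 :=
    ringKrullDim_eq_zero_of_isField hfield
  have hco : Order.coheight z = 0 := by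
    have h1 := AlgebraicGeometry.ringKrullDim_stalk_eq_coheight z
    rw [hdim0] at h1
    exact_mod_cast h1.symm
  have hzξ : z = genericPoint 𝓘.subscheme := by
    have hmax : IsMax z := Order.coheight_eq_zero.mp hco
    have hspec : genericPoint 𝓘.subscheme ⤳ z := genericPoint_specializes z
    have hle : z ≤ genericPoint 𝓘.subscheme := Scheme.le_iff_specializes.mpr hspec
    have hge := hmax hle
    have h2 : z ⤳ genericPoint 𝓘.subscheme := Scheme.le_iff_specializes.mp hge
    exact (h2.antisymm hspec).eq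
  rw [hzξ]
  exact hcodim

end geo

end Groth.Agent.EffCartierUFD
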