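import Mathlib
import Groth.Prelude
import Groth.Agent.Lib.EffCartierUFD_helper5
import Groth.Agent.Lib.Tens31_helper8
import Groth.Agent.Lib.BCDimSch_helper8

/-!
# Ideal sheaves supported at regular closed points of an integral curve are invertible (helper9).
APPEND-ONLY once landed.
-/

set_option autoImplicit false
universe u
open CategoryTheory CategoryTheory.Limits AlgebraicGeometry Opposite TopologicalSpace

namespace CurvePtInv

section Alg

/-- a regular local domain of dimension one is factorial -/
theorem ufd_of_regular_dim_one (R : Type u) [CommRing R] [IsDomain R] [IsRegularLocalRing R]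
    (hd : ringKrullDim R = 1) : UniqueFactorizationMonoid R := by
  have h1 := (IsRegularLocalRing.iff_finrank_cotangentSpace R).mp inferInstance
  rw [hd] at h1
  have h2 : Module.finrank (IsLocalRing.ResidueField R) (IsLocalRing.CotangentSpace R) ≤ 1 := by
    have h3 : ((Module.finrank (IsLocalRing.ResidueField R) (IsLocalRing.CotangentSpace R) : ℕ) :
        WithBot ℕ∞) ≤ ((1 : ℕ) : WithBot ℕ∞) := by
      rw [h1]
      rfl
    exact_mod_cast h3
  haveI : IsPrincipalIdealRing R :=
    ((tfae_of_isNoetherianRing_of_isLocalRing_of_isDomain R).out 0 5).mpr h2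
  infer_instance

end Alg

section Geo

variable {X : Scheme.{u}} [IsIntegral X]

/-- the local ring at a closed point of an integral scheme of dimension one has dimension one -/
theorem ringKrullDim_stalk_of_closed (hdim : topologicalKrullDim X = 1) {x : X}
    (hx : IsClosed ({x} : Set X)) : ringKrullDim (X.presheaf.stalk x) = 1 := by
  rw [AlgebraicGeometry.ringKrullDim_stalk_eq_coheight]
  have hsup := Groth.Agent.BCDimSchH8.dim_eq_iSup_coheight X
  have hle : ((Order.coheight x : ℕ∞) : WithBot ℕ∞) ≤ 1 := by
    rw [← hdim, hsup]
    exact le_iSup (fun y : X => ((Order.coheight y : ℕ∞) : WithBot ℕ∞)) x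
  have hne : Order.coheight x ≠ 0 := by
    intro h0
    have hmax : IsMax x := Order.coheight_eq_zero.mp h0
    have hspec : genericPoint X ⤳ x := genericPoint_specializes x
    have hle' : x ≤ genericPoint X := Scheme.le_iff_specializes.mpr hspec
    have hge := hmax hle'
    have h2 : x ⤳ genericPoint X := Scheme.le_iff_specializes.mp hge
    have h3 : genericPoint X = x := h2.mem_closed hx (Set.mem_singleton x)
    have hall : ∀ y : X, y = x := by
      intro y
      have h4 : genericPoint X ⤳ y := genericPoint_specializes y
      rw [h3] at h4
      exact h4.mem_closed hx (Set.mem_singleton x)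
    have h5 : topologicalKrullDim X ≤ 0 := by
      rw [hsup]
      refine iSup_le fun y => ?_
      rw [hall y, h0]
      rfl
    rw [hdim] at h5
    exact absurd h5 (by decide)
  have h1 : Order.coheight x ≤ 1 := by exact_mod_cast hle
  have h6 : Order.coheight x = 1 := le_antisymm h1 (ENat.one_le_iff_ne_zero.mpr hne)
  rw [h6]
  rfl

variable [IsLocallyNoetherian X]

/-- an ideal sheaf on an integral curve supported at regular closed points is effective Cartier -/
theorem isEffCartierIdeal_of_support (hdim : topologicalKrullDim X = 1) (I : X.IdealSheafData)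
    (hI : ∀ x ∈ I.support, IsClosed ({x} : Set X) ∧ IsRegularLocalRing (X.presheaf.stalk x)) :
    BlowUp.IsEffCartierIdeal I := by
  apply Groth.Agent.EffCartierUFD.main_general I
  · intro z _
    have hz : I.subschemeι z ∈ I.support := by
      have h0 : I.subschemeι z ∈ (I.support : Set X) := by
        rw [← Scheme.IdealSheafData.range_subschemeι]
        exact ⟨z, rfl⟩
      exact h0
    exact ringKrullDim_stalk_of_closed hdim (hI _ hz).1
  · intro x hx
    haveI := (hI x hx).2
    exact ⟨inferInstance, ufd_of_regular_dim_one _ (ringKrullDim_stalk_of_closed hdim (hI x hx).1)⟩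

/-- an ideal sheaf on an integral curve supported at regular closed points is invertible -/
theorem isInvertible_idealMod_of_support (hdim : topologicalKrullDim X = 1) (I : X.IdealSheafData)
    (hI : ∀ x ∈ I.support, IsClosed ({x} : Set X) ∧ IsRegularLocalRing (X.presheaf.stalk x)) :
    PicF.IsInvertible (ClSub.idealMod I) :=
  TensH8.isInvertible_idealMod_of_isEffCartierIdeal I (isEffCartierIdeal_of_support hdim I hI)

/-- the ideal sheaf of a regular closed point of an integral curve is invertible -/
theorem isInvertible_idealMod_point (hdim : topologicalKrullDim X = 1) {x : X}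
    (hx : IsClosed ({x} : Set X)) (hreg : IsRegularLocalRing (X.presheaf.stalk x)) :
    PicF.IsInvertible (ClSub.idealMod (Scheme.IdealSheafData.vanishingIdeal ⟨{x}, hx⟩)) := by
  apply isInvertible_idealMod_of_support hdim
  intro y hy
  have h2 : ((Scheme.IdealSheafData.vanishingIdeal ⟨{x}, hx⟩).support : Set X) = {x} :=
    Scheme.IdealSheafData.coe_support_vanishingIdeal _
  have hy' : y ∈ ((Scheme.IdealSheafData.vanishingIdeal ⟨{x}, hx⟩).support : Set X) := hy
  rw [h2, Set.mem_singleton_iff] at hy'
  subst hy'
  exact ⟨hx, hreg⟩

end Geo

end CurvePtInv
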