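import Mathlib
import Groth.Prelude
import Groth.Agent.Lib.CurvePtInv1_helper9
import Groth.Agent.Lib.CurveIdeal2_helper9
import Groth.Agent.Lib.CurveSpec1_helper9

/-!
# The divisor of a rational point on a regular integral proper curve (helper9).
APPEND-ONLY once landed.
-/

set_option autoImplicit false
universe u
open CategoryTheory CategoryTheory.Limits AlgebraicGeometry Opposite TopologicalSpace

namespace CurvePtInv

open QcqsLoc QCohExtn GenLocH8 TensH8 FLFH8 CohB1

section RatPt

variable (k : Type u) [Field k] {X : Scheme.{u}} [X.Over (Spec (CommRingCat.of k))]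
  (O : Spec (CommRingCat.of k) ⟶ X) (hO : O ≫ (X ↘ Spec (CommRingCat.of k)) = 𝟙 _)

include hO in
theorem isClosedImmersion_section : IsClosedImmersion O := by
  haveI : Subsingleton ↥(Spec (CommRingCat.of k)) :=
    inferInstanceAs (Subsingleton (PrimeSpectrum k))
  exact isClosedImmersion_of_comp_eq_id (X ↘ Spec (CommRingCat.of k)) O hO

/-- the structure map `k → Γ(Z, ⊤)` of the image `Z` of a rational point -/
noncomputable def strMap : k →+* Γ(O.ker.subscheme, ⊤) :=
  (O.ker.subschemeι.appTop).hom.comp (Coh.toGlobal (X ↘ Spec (CommRingCat.of k)))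

include hO in
theorem strMap_bijective : Function.Bijective (strMap k O) := by
  haveI := isClosedImmersion_section k O hO
  let φ : Spec (CommRingCat.of k) ⟶ O.image := O.toImage
  let ψ : O.image ⟶ Spec (CommRingCat.of k) := O.imageι ≫ (X ↘ Spec (CommRingCat.of k))
  have h1 : φ ≫ ψ = 𝟙 _ := by
    show O.toImage ≫ O.imageι ≫ (X ↘ Spec (CommRingCat.of k)) = 𝟙 _
    rw [← Category.assoc, O.toImage_imageι, hO]
  haveI : IsIso ψ := by
    haveI : IsIso (φ ≫ ψ) := by rw [h1]; infer_instance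
    exact IsIso.of_isIso_comp_left φ ψ
  haveI : IsIso (ψ.app ⊤) := inferInstance
  have hbij : Function.Bijective (ψ.app ⊤).hom :=
    (ConcreteCategory.isIso_iff_bijective (ψ.app ⊤)).mp inferInstance
  have hΓ : Function.Bijective (Scheme.ΓSpecIso (CommRingCat.of k)).inv.hom :=
    (ConcreteCategory.isIso_iff_bijective (Scheme.ΓSpecIso (CommRingCat.of k)).inv).mp inferInstance
  have h2 : ⇑(strMap k O) = ⇑(ψ.app ⊤).hom ∘ ⇑(Scheme.ΓSpecIso (CommRingCat.of k)).inv.hom := by
    funext c
    rfl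
  rw [h2]
  exact hbij.comp hΓ

include hO in
/-- `dim_k H⁰(O_X / I) = 1` for the ideal sheaf `I` of a rational point -/
theorem finrank_HH0_quotMod_ker :
    Module.finrank k (Coh.HH X (ClSub.quotMod O.ker) 0) = 1 := by
  obtain ⟨hinj, hsurj⟩ := strMap_bijective k O hO
  set Q := ClSub.quotMod O.ker with hQ
  let one : Γ(Q, ⊤) := toM (1 : Γ(O.ker.subscheme, O.ker.subschemeι ⁻¹ᵁ ⊤))
  let v : Coh.HH X Q 0 := (CurveTens.e₀ Q).symm one
  have hv : v ≠ 0 := by
    intro h
    have h1 : CurveTens.e₀ Q v = 0 := by rw [h, map_zero]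
    rw [AddEquiv.apply_symm_apply] at h1
    have h2 : (1 : Γ(O.ker.subscheme, ⊤)) = 0 := h1
    have h3 : strMap k O 1 = strMap k O 0 := by rw [map_one, map_zero]; exact h2
    exact one_ne_zero (hinj h3)
  rw [finrank_eq_one_iff_of_nonzero' v hv]
  intro w
  obtain ⟨c, hc⟩ := hsurj (show Γ(O.ker.subscheme, ⊤) from CurveTens.e₀ Q w)
  refine ⟨c, ?_⟩
  apply (CurveTens.e₀ Q).injective
  have h1 : c • v = (Coh.toGlobal (X ↘ Spec (CommRingCat.of k)) c) • v := rfl
  rw [h1, CurveTens.e₀_smul, AddEquiv.apply_symm_apply]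
  refine Eq.trans ?_ hc
  show (O.ker.subschemeι.appTop).hom (Coh.toGlobal (X ↘ Spec (CommRingCat.of k)) c) *
    (1 : Γ(O.ker.subscheme, ⊤)) = _
  rw [mul_one]
  rfl

end RatPt

end CurvePtInv
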