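import Mathlib
import Groth.Prelude
import Groth.Agent.Lib.Tens2_helper8
import Groth.Agent.Lib.FLF6_helper8

/-!
# Sections of `F ⊗ E` over an open on which `E` has a basis (helper9).
`(s_j) ↦ Σ_j s_j ⊗ t_j` is a bijection `F(O)^n → (F ⊗ E)(O)` when `t` restricts to a basis of `E`
on all opens below `W` and `O ≤ W`.  Rank-`n` version of helper8's `tmulGen_injective/surjective`.
APPEND-ONLY once landed.
-/

set_option autoImplicit false

namespace TensBasis

open AlgebraicGeometry CategoryTheory CategoryTheory.Limits TopologicalSpace Opposite TensorProduct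
open QcqsLoc MonoidalCategory TensH8 FLFH8

universe u

variable {X : Scheme.{u}} (F E : X.Modules) {W : X.Opens} {n : ℕ} (t : Fin n → Γ(E, W))
  (ht : ∀ (O : X.Opens) (hO : O ≤ W), BasisOn E t O hO)

/-- the basis of `E(O)` -/
noncomputable def basis {O : X.Opens} (hO : O ≤ W) : Module.Basis (Fin n) Γ(X, O) Γ(E, O) :=
  Module.Basis.mk (ht O hO).2 (ht O hO).1.ge

theorem basis_apply {O : X.Opens} (hO : O ≤ W) (j : Fin n) :
    basis E t ht hO j = rF E hO (t j) := by
  unfold basis
  rw [Module.Basis.mk_apply]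

/-- the `j`-th coefficient of a section of `E` -/
noncomputable def coef {O : X.Opens} (hO : O ≤ W) (j : Fin n) (l : Γ(E, O)) : Γ(X, O) :=
  (basis E t ht hO).repr l j

theorem coef_add {O : X.Opens} (hO : O ≤ W) (j : Fin n) (l l' : Γ(E, O)) :
    coef E t ht hO j (l + l') = coef E t ht hO j l + coef E t ht hO j l' := by
  unfold coef
  rw [map_add, Finsupp.add_apply]

theorem coef_smul {O : X.Opens} (hO : O ≤ W) (j : Fin n) (r : Γ(X, O)) (l : Γ(E, O)) :
    coef E t ht hO j (r • l) = r * coef E t ht hO j l := by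
  unfold coef
  rw [map_smul, Finsupp.smul_apply, smul_eq_mul]

theorem coef_gen {O : X.Opens} (hO : O ≤ W) (j i : Fin n) :
    coef E t ht hO j (rF E hO (t i)) = if i = j then 1 else 0 := by
  unfold coef
  rw [← basis_apply E t ht hO i, Module.Basis.repr_self, Finsupp.single_apply]

theorem sum_coef {O : X.Opens} (hO : O ≤ W) (l : Γ(E, O)) :
    ∑ j, coef E t ht hO j l • rF E hO (t j) = l := by
  have h := (basis E t ht hO).sum_repr l
  simp only [basis_apply] at h
  exact h

/-- The pairing `(s, l) ↦ coef_j(l) • s`. -/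
noncomputable def psiFun {O : X.Opens} (hO : O ≤ W) (j : Fin n) (s : Γ(F, O)) (l : Γ(E, O)) :
    Γ(F, O) :=
  coef E t ht hO j l • s

theorem psiFun_add_left {O : X.Opens} (hO : O ≤ W) (j : Fin n) (s s' : Γ(F, O)) (l : Γ(E, O)) :
    psiFun F E t ht hO j (s + s') l = psiFun F E t ht hO j s l + psiFun F E t ht hO j s' l :=
  smul_add _ _ _

theorem psiFun_smul_left {O : X.Opens} (hO : O ≤ W) (j : Fin n) (r : Γ(X, O)) (s : Γ(F, O))
    (l : Γ(E, O)) :
    psiFun F E t ht hO j (r • s) l = r • psiFun F E t ht hO j s l :=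
  smul_comm _ _ _

theorem psiFun_add_right {O : X.Opens} (hO : O ≤ W) (j : Fin n) (s : Γ(F, O)) (l l' : Γ(E, O)) :
    psiFun F E t ht hO j s (l + l') = psiFun F E t ht hO j s l + psiFun F E t ht hO j s l' := by
  unfold psiFun
  rw [coef_add, add_smul]

theorem psiFun_smul_right {O : X.Opens} (hO : O ≤ W) (j : Fin n) (r : Γ(X, O)) (s : Γ(F, O))
    (l : Γ(E, O)) :
    psiFun F E t ht hO j s (r • l) = r • psiFun F E t ht hO j s l := by
  unfold psiFun
  rw [coef_smul, mul_smul]

/-- the `j`-th component of the inverse of `(s_j) ↦ Σ s_j ⊗ t_j` on presheaf tensor products -/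
noncomputable def psi {O : X.Opens} (hO : O ≤ W) (j : Fin n) :
    ((CohB1.tensorPre F E).obj (op O)) ⟶ ((CohB1.toPMod F).obj (op O)) :=
  ModuleCat.MonoidalCategory.tensorLift
    (fun s l => psiFun F E t ht hO j s l)
    (fun s s' l => psiFun_add_left F E t ht hO j s s' l)
    (fun r s l => psiFun_smul_left F E t ht hO j r s l)
    (fun s l l' => psiFun_add_right F E t ht hO j s l l')
    (fun r s l => psiFun_smul_right F E t ht hO j r s l)

theorem psi_tmul {O : X.Opens} (hO : O ≤ W) (j : Fin n) (s : F.val.obj (op O))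
    (l : E.val.obj (op O)) :
    (psi F E t ht hO j).hom (s ⊗ₜ l) = psiFun F E t ht hO j s l := rfl

/-- `(s_j) ↦ Σ_j s_j ⊗ t_j|_O` in the presheaf tensor product -/
noncomputable def phi {O : X.Opens} (hO : O ≤ W) (s : Fin n → Γ(F, O)) :
    ↥((CohB1.tensorPre F E).obj (op O)) :=
  ∑ j, (((s j : F.val.obj (op O)) ⊗ₜ (rF E hO (t j) : E.val.obj (op O)) :
    ↥((CohB1.tensorPre F E).obj (op O))))

theorem psi_phi {O : X.Opens} (hO : O ≤ W) (s : Fin n → Γ(F, O)) (j : Fin n) :
    (psi F E t ht hO j).hom (phi F E t hO s) = s j := by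
  unfold phi
  rw [map_sum]
  have h : ∀ i ∈ Finset.univ, (psi F E t ht hO j).hom
      ((((s i : F.val.obj (op O)) ⊗ₜ (rF E hO (t i) : E.val.obj (op O)) :
        ↥((CohB1.tensorPre F E).obj (op O))))) = if i = j then s i else 0 := by
    intro i _
    rw [psi_tmul]
    unfold psiFun
    rw [coef_gen]
    split_ifs
    · exact one_smul _ _
    · exact zero_smul _ _
  rw [Finset.sum_congr rfl h]
  refine (Finset.sum_eq_single j (fun i _ hij => if_neg hij)
    (fun hj => absurd (Finset.mem_univ j) hj)).trans ?_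
  exact if_pos rfl

include ht in
theorem phi_injective {O : X.Opens} (hO : O ≤ W) : Function.Injective (phi F E t hO) := by
  intro s s' h
  funext j
  rw [← psi_phi F E t ht hO s j, ← psi_phi F E t ht hO s' j, h]

theorem phi_add {O : X.Opens} (hO : O ≤ W) (s s' : Fin n → Γ(F, O)) :
    phi F E t hO (s + s') = phi F E t hO s + phi F E t hO s' := by
  unfold phi
  rw [← Finset.sum_add_distrib]
  refine Finset.sum_congr rfl (fun j _ => ?_)
  exact TensorProduct.add_tmul _ _ _

theorem phi_zero {O : X.Opens} (hO : O ≤ W) : phi F E t hO (0 : Fin n → Γ(F, O)) = 0 := by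
  unfold phi
  refine Finset.sum_eq_zero (fun j _ => ?_)
  exact TensorProduct.zero_tmul _ _

theorem phi_single {O : X.Opens} (hO : O ≤ W) (j : Fin n) (s : Γ(F, O)) :
    phi F E t hO (Pi.single j s) =
      (((s : F.val.obj (op O)) ⊗ₜ (rF E hO (t j) : E.val.obj (op O)) :
        ↥((CohB1.tensorPre F E).obj (op O)))) := by
  unfold phi
  refine (Finset.sum_eq_single j (fun i _ hij => ?_)
    (fun hj => absurd (Finset.mem_univ j) hj)).trans ?_
  · rw [Pi.single_eq_of_ne hij]
    exact TensorProduct.zero_tmul _ _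
  · rw [Pi.single_eq_same]

include ht in
theorem exists_phi_eq_tmul {O : X.Opens} (hO : O ≤ W) (l : Γ(E, O)) :
    ∀ s : Γ(F, O), ∃ a : Fin n → Γ(F, O), phi F E t hO a =
      (((s : F.val.obj (op O)) ⊗ₜ (l : E.val.obj (op O)) :
        ↥((CohB1.tensorPre F E).obj (op O)))) := by
  have hl : l ∈ Submodule.span Γ(X, O) (Set.range fun j => rF E hO (t j)) := by
    rw [(ht O hO).1]
    exact Submodule.mem_top
  induction hl using Submodule.span_induction with
  | mem y hy =>
    obtain ⟨j, rfl⟩ := hy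
    intro s
    exact ⟨Pi.single j s, phi_single F E t hO j s⟩
  | zero =>
    intro s
    exact ⟨0, (phi_zero F E t hO).trans (TensorProduct.tmul_zero _ _).symm⟩
  | add a b _ _ ha hb =>
    intro s
    obtain ⟨a', ha'⟩ := ha s
    obtain ⟨b', hb'⟩ := hb s
    refine ⟨a' + b', ?_⟩
    rw [phi_add, ha', hb']
    exact (TensorProduct.tmul_add _ _ _).symm
  | smul r a _ ha =>
    intro s
    obtain ⟨a', ha'⟩ := ha (r • s)
    refine ⟨a', ha'.trans ?_⟩
    exact TensorProduct.smul_tmul (R := ↑((X.sheaf.obj ⋙ forget₂ CommRingCat RingCat).obj (op O)))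
      (R' := ↑((X.sheaf.obj ⋙ forget₂ CommRingCat RingCat).obj (op O))) r _ _

include ht in
theorem phi_surjective {O : X.Opens} (hO : O ≤ W) : Function.Surjective (phi F E t hO) := by
  intro p
  induction p using TensorProduct.induction_on with
  | zero => exact ⟨0, phi_zero F E t hO⟩
  | tmul s l => exact exists_phi_eq_tmul F E t ht hO l s
  | add p q hp hq =>
    obtain ⟨s, rfl⟩ := hp
    obtain ⟨s', rfl⟩ := hq
    exact ⟨s + s', phi_add F E t hO s s'⟩

theorem resPre_phi {O V : X.Opens} (hO : O ≤ W) (h : V ≤ O) (s : Fin n → Γ(F, O)) :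
    resPre F E h (phi F E t hO s) = phi F E t (h.trans hO) (fun j => rF F h (s j)) := by
  unfold phi
  rw [map_sum]
  refine Finset.sum_congr rfl (fun j _ => ?_)
  rw [resPre_tmul]
  congr 1
  exact rF_rF E h hO (t j)

/-- `(s_j) ↦ Σ_j s_j ⊗ t_j|_O` as sections of `F ⊗ E` -/
noncomputable def Phi {O : X.Opens} (hO : O ≤ W) (s : Fin n → Γ(F, O)) :
    Γ(CohB1.tensorMod F E, O) :=
  ∑ j, (SecTwist.tmul F E O (s j) (rF E hO (t j)) : Γ(CohB1.tensorMod F E, O))

theorem eta_phi {O : X.Opens} (hO : O ≤ W) (s : Fin n → Γ(F, O)) :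
    eta F E O (phi F E t hO s) = Phi F E t hO s := by
  unfold phi Phi
  rw [map_sum]
  rfl

theorem rF_Phi {O V : X.Opens} (hO : O ≤ W) (h : V ≤ O) (s : Fin n → Γ(F, O)) :
    rF (CohB1.tensorMod F E) h (Phi F E t hO s) =
      Phi F E t (h.trans hO) (fun j => rF F h (s j)) := by
  unfold Phi
  rw [map_sum]
  refine Finset.sum_congr rfl (fun j _ => ?_)
  rw [rF_tmul]
  congr 1
  exact rF_rF E h hO (t j)

include ht in
/-- **injectivity of `(s_j) ↦ Σ_j s_j ⊗ t_j`** -/
theorem Phi_injective {O : X.Opens} (hO : O ≤ W) : Function.Injective (Phi F E t hO) := by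
  intro s s' h
  funext j
  apply eq_of_cover F (s j) (s' j)
  intro x hx
  rw [← eta_phi, ← eta_phi] at h
  obtain ⟨V, hV, hxV, hres⟩ :=
    eta_locally_injective F E (phi F E t hO s) (phi F E t hO s') h x hx
  refine ⟨V, hV, hxV, ?_⟩
  rw [resPre_phi, resPre_phi] at hres
  exact congrFun (phi_injective F E t ht (hV.trans hO) hres) j

include ht in
/-- **surjectivity of `(s_j) ↦ Σ_j s_j ⊗ t_j`** -/
theorem Phi_surjective {O : X.Opens} (hO : O ≤ W) : Function.Surjective (Phi F E t hO) := by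
  intro y
  have key : ∀ x : O, ∃ (V : X.Opens) (hV : V ≤ O), x.1 ∈ V ∧ ∃ s : Fin n → Γ(F, V),
      Phi F E t (hV.trans hO) s = rF (CohB1.tensorMod F E) hV y := by
    intro x
    obtain ⟨V, hV, hxV, p, hp⟩ := eta_locally_surjective F E y x.1 x.2
    obtain ⟨s, rfl⟩ := phi_surjective F E t ht (hV.trans hO) p
    exact ⟨V, hV, hxV, s, (eta_phi F E t (hV.trans hO) s).symm.trans hp⟩
  choose V hV hxV s hs using key
  have hcov : O ≤ ⨆ x : O, V x := by
    intro x hx
    exact Opens.mem_iSup.mpr ⟨⟨x, hx⟩, hxV ⟨x, hx⟩⟩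
  have hcompat : ∀ (j : Fin n) (i i' : O), rF F (inf_le_left : V i ⊓ V i' ≤ V i) (s i j) =
      rF F (inf_le_right : V i ⊓ V i' ≤ V i') (s i' j) := by
    intro j i i'
    have hii : V i ⊓ V i' ≤ W := inf_le_left.trans ((hV i).trans hO)
    have h1 : Phi F E t hii (fun j => rF F (inf_le_left : V i ⊓ V i' ≤ V i) (s i j)) =
        Phi F E t hii (fun j => rF F (inf_le_right : V i ⊓ V i' ≤ V i') (s i' j)) := by
      rw [← rF_Phi F E t ((hV i).trans hO) inf_le_left, ← rF_Phi F E t ((hV i').trans hO)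
        inf_le_right, hs, hs, rF_rF, rF_rF]
    exact congrFun (Phi_injective F E t ht hii h1) j
  have hglue : ∀ j : Fin n, ∃ T : Γ(F, O), ∀ i : O, rF F (hV i) T = s i j := fun j =>
    glue F V O hV hcov (fun i => s i j) (hcompat j)
  choose T hT using hglue
  refine ⟨T, ?_⟩
  apply eq_of_cover (CohB1.tensorMod F E)
  intro x hx
  refine ⟨V ⟨x, hx⟩, hV ⟨x, hx⟩, hxV ⟨x, hx⟩, ?_⟩
  rw [rF_Phi, ← hs ⟨x, hx⟩]
  congr 1
  funext j
  exact hT j ⟨x, hx⟩

end TensBasis
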