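import Mathlib
import Groth.Prelude
import Groth.Agent.Lib.TensBasis1_helper9
import Groth.Agent.Lib.CurveTens2_helper9
import Groth.Agent.Lib.RegZero_helper9
import Groth.Agent.Lib.KerFree1_helper8
import Groth.Agent.Lib.TensQC3_helper8
import Groth.Agent.Lib.SuppTens2_helper8

/-!
# Tensoring a module with zero-dimensional support with a finite locally free module of rank `n`
multiplies the Euler characteristic by `n` (helper9).
APPEND-ONLY once landed.
-/

set_option autoImplicit false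
universe u
open CategoryTheory CategoryTheory.Limits AlgebraicGeometry Opposite TopologicalSpace

namespace TensBasis

open QcqsLoc QCohExtn GenLocH8 TensH8 FLFH8 CohB1 Groth.Agent.HHVan

section PhiLin

variable {X : Scheme.{u}} (F E : X.Modules) {W : X.Opens} {n : ℕ} (t : Fin n → Γ(E, W))

theorem Phi_add {O : X.Opens} (hO : O ≤ W) (s s' : Fin n → Γ(F, O)) :
    Phi F E t hO (fun j => s j + s' j) = Phi F E t hO s + Phi F E t hO s' := by
  unfold Phi
  rw [← Finset.sum_add_distrib]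
  refine Finset.sum_congr rfl (fun j _ => ?_)
  exact tmul_add_left F E O (s j) (s' j) _

theorem Phi_smul {O : X.Opens} (hO : O ≤ W) (r : Γ(X, O)) (s : Fin n → Γ(F, O)) :
    Phi F E t hO (fun j => r • s j) = r • Phi F E t hO s := by
  unfold Phi
  rw [Finset.smul_sum]
  refine Finset.sum_congr rfl (fun j _ => ?_)
  exact tmul_smul_left F E O r (s j) _

theorem Phi_zero {O : X.Opens} (hO : O ≤ W) :
    Phi F E t hO (fun _ => (0 : Γ(F, O))) = 0 := by
  unfold Phi
  refine Finset.sum_eq_zero (fun j _ => ?_)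
  exact tmul_zero_left F E O _

end PhiLin

section Discrete

variable {X : Scheme.{u}}

/-- **Global sections of `Q ⊗ E`** for `Q` with discrete support and `E` finite locally free of
rank `n`: they are `n` copies of the global sections of `Q`. -/
theorem exists_equiv_rank {Q E : X.Modules} {n : ℕ} (hE : FlatMod.IsFinLocFreeOfRank n E)
    (hdisc : ∀ x : X, ∃ O : X.Opens, x ∈ O ∧ ∀ y ∈ O, y ∈ CohB1.support Q → y = x) :
    ∃ Φ : (Fin n → Γ(Q, ⊤)) ≃+ Γ(CohB1.tensorMod Q E, ⊤),
      ∀ (r : Γ(X, ⊤)) (q : Fin n → Γ(Q, ⊤)), Φ (fun j => r • q j) = r • Φ q := by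
  have key : ∀ x : X, ∃ (W : X.Opens) (t : Fin n → Γ(E, W)), x ∈ W ∧
      (∀ (O : X.Opens) (hO : O ≤ W), BasisOn E t O hO) ∧
      ∀ y ∈ W, y ∈ CohB1.support Q → y = x := by
    intro x
    obtain ⟨O, hxO, hO⟩ := hdisc x
    obtain ⟨U, hxU, ⟨α⟩⟩ := hE x
    obtain ⟨W₀, -, hxW₀, -, t₀, ht₀⟩ := exists_affine_bases E hxU α
    refine ⟨W₀ ⊓ O, fun j => rF E inf_le_left (t₀ j), ⟨hxW₀, hxO⟩, fun O' hO' => ?_,
      fun y hy hyQ => hO y hy.2 hyQ⟩
    exact BasisOn.of_rF E t₀ inf_le_left hO' (ht₀ O' (hO'.trans inf_le_left))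
  choose W t hxW ht hW using key
  set T := CohB1.tensorMod Q E with hT
  have hcov : (⊤ : X.Opens) ≤ ⨆ x, W x := fun x _ => Opens.mem_iSup.mpr ⟨x, hxW x⟩
  have hdisj : ∀ i j : X, i ≠ j → ∀ y ∈ W i ⊓ W j, y ∉ CohB1.support Q := by
    intro i j hij y hy hyQ
    exact hij ((hW i y hy.1 hyQ).symm.trans (hW j y hy.2 hyQ))
  -- sections of `T` over opens missing the support vanish
  have hzero : ∀ (x : X) (O : X.Opens) (_ : O ≤ W x), (∀ y ∈ O, y ∉ CohB1.support Q) →
      ∀ τ : Γ(T, O), τ = 0 := by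
    intro x O hO hOQ τ
    obtain ⟨s, rfl⟩ := Phi_surjective Q E (t x) (ht x) hO τ
    have hs : s = fun _ => (0 : Γ(Q, O)) := by
      funext j
      exact CycLenH8.eq_zero_of_disjoint_support Q hOQ (s j)
    rw [hs]
    exact Phi_zero Q E (t x) hO
  -- the forward map
  have hfwd : ∀ q : Fin n → Γ(Q, ⊤), ∃ τ : Γ(T, ⊤), ∀ x, rF T (le_top : W x ≤ ⊤) τ =
      Phi Q E (t x) (le_refl (W x)) (fun j => rF Q le_top (q j)) := by
    intro q
    refine glue T W ⊤ (fun _ => le_top) hcov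
      (fun x => Phi Q E (t x) (le_refl (W x)) (fun j => rF Q le_top (q j))) (fun i j => ?_)
    by_cases hij : i = j
    · subst hij
      rfl
    · exact (hzero i (W i ⊓ W j) inf_le_left (hdisj i j hij) _).trans
        (hzero i (W i ⊓ W j) inf_le_left (hdisj i j hij) _).symm
  choose Φ hΦ using hfwd
  have huniq : ∀ τ τ' : Γ(T, ⊤), (∀ x, rF T (le_top : W x ≤ ⊤) τ = rF T le_top τ') → τ = τ' := by
    intro τ τ' h
    apply eq_of_cover T
    intro x _
    exact ⟨W x, le_top, hxW x, h x⟩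
  have huniqQ : ∀ q q' : Γ(Q, ⊤), (∀ x, rF Q (le_top : W x ≤ ⊤) q = rF Q le_top q') → q = q' := by
    intro q q' h
    apply eq_of_cover Q
    intro x _
    exact ⟨W x, le_top, hxW x, h x⟩
  have hadd : ∀ q q' : Fin n → Γ(Q, ⊤), Φ (q + q') = Φ q + Φ q' := by
    intro q q'
    apply huniq
    intro x
    rw [hΦ, map_add, hΦ, hΦ, ← Phi_add]
    congr 1
    funext j
    exact map_add _ _ _
  have hsmul : ∀ (r : Γ(X, ⊤)) (q : Fin n → Γ(Q, ⊤)), Φ (fun j => r • q j) = r • Φ q := by
    intro r q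
    apply huniq
    intro x
    rw [hΦ, rF_smul, hΦ, ← Phi_smul]
    congr 1
    funext j
    exact rF_smul Q le_top r (q j)
  have hinj : Function.Injective Φ := by
    intro q q' h
    funext j
    apply huniqQ
    intro x
    have h1 : Phi Q E (t x) (le_refl (W x)) (fun j => rF Q le_top (q j)) =
        Phi Q E (t x) (le_refl (W x)) (fun j => rF Q le_top (q' j)) := by
      rw [← hΦ, ← hΦ, h]
    exact congrFun (Phi_injective Q E (t x) (ht x) (le_refl (W x)) h1) j
  have hsurj : Function.Surjective Φ := by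
    intro τ
    have hs : ∀ x, ∃ s : Fin n → Γ(Q, W x), Phi Q E (t x) (le_refl (W x)) s =
        rF T (le_top : W x ≤ ⊤) τ := fun x =>
      Phi_surjective Q E (t x) (ht x) (le_refl (W x)) _
    choose s hs using hs
    have hq : ∀ j : Fin n, ∃ q : Γ(Q, ⊤), ∀ x, rF Q (le_top : W x ≤ ⊤) q = s x j := by
      intro j
      refine glue Q W ⊤ (fun _ => le_top) hcov (fun x => s x j) (fun i i' => ?_)
      by_cases hij : i = i'
      · subst hij
        rfl
      · exact (CycLenH8.eq_zero_of_disjoint_support Q (hdisj i i' hij) _).trans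
          (CycLenH8.eq_zero_of_disjoint_support Q (hdisj i i' hij) _).symm
    choose q hq using hq
    refine ⟨q, ?_⟩
    apply huniq
    intro x
    rw [hΦ, ← hs x]
    congr 1
    funext j
    exact hq j x
  exact ⟨AddEquiv.ofBijective (AddMonoidHom.mk' Φ hadd) ⟨hinj, hsurj⟩, hsmul⟩

end Discrete

section Field

variable {X : Scheme.{u}} (k : Type u) [Field k] [X.Over (Spec (CommRingCat.of k))]

open CurveTens in
/-- an additive bijection `Γ(Q)^n ≃ Γ(T)`, linear over the global functions, gives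
`h⁰(T) = n · h⁰(Q)` -/
theorem finrank_HH0_eq_of_equiv_rank {Q T : X.Modules} {n : ℕ}
    [Module.Finite k (Coh.HH X Q 0)]
    (Φ : (Fin n → Γ(Q, ⊤)) ≃+ Γ(T, ⊤))
    (hΦ : ∀ (r : Γ(X, ⊤)) (q : Fin n → Γ(Q, ⊤)), Φ (fun j => r • q j) = r • Φ q) :
    Module.finrank k (Coh.HH X T 0) = n * Module.finrank k (Coh.HH X Q 0) := by
  let Ψ : (Fin n → Coh.HH X Q 0) → Coh.HH X T 0 := fun v => (e₀ T).symm (Φ (fun j => e₀ Q (v j)))
  have hΨadd : ∀ v v' : Fin n → Coh.HH X Q 0, Ψ (v + v') = Ψ v + Ψ v' := by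
    intro v v'
    show (e₀ T).symm (Φ (fun j => e₀ Q ((v + v') j))) = _
    have h1 : (fun j => e₀ Q ((v + v') j)) = (fun j => e₀ Q (v j)) + (fun j => e₀ Q (v' j)) := by
      funext j
      exact map_add _ _ _
    rw [h1, map_add, map_add]
  have hΨsmul : ∀ (c : k) (v : Fin n → Coh.HH X Q 0), Ψ (c • v) = c • Ψ v := by
    intro c v
    have h2 : c • Ψ v = (Coh.toGlobal (X ↘ Spec (CommRingCat.of k)) c) • Ψ v := rfl
    rw [h2]
    apply (e₀ T).injective
    rw [e₀_smul]
    show e₀ T ((e₀ T).symm (Φ (fun j => e₀ Q ((c • v) j)))) =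
      _ • e₀ T ((e₀ T).symm (Φ (fun j => e₀ Q (v j))))
    rw [AddEquiv.apply_symm_apply, AddEquiv.apply_symm_apply, ← hΦ]
    congr 1
    funext j
    have h1 : (c • v) j = (Coh.toGlobal (X ↘ Spec (CommRingCat.of k)) c) • v j := rfl
    rw [h1, e₀_smul]
  have hΨbij : Function.Bijective Ψ := by
    constructor
    · intro v v' h
      have h1 := Φ.injective ((e₀ T).symm.injective h)
      funext j
      exact (e₀ Q).injective (congrFun h1 j)
    · intro w
      obtain ⟨q, hq⟩ := Φ.surjective (e₀ T w)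
      refine ⟨fun j => (e₀ Q).symm (q j), ?_⟩
      show (e₀ T).symm (Φ (fun j => e₀ Q ((e₀ Q).symm (q j)))) = w
      simp only [AddEquiv.apply_symm_apply]
      rw [hq, AddEquiv.symm_apply_apply]
  let L : (Fin n → Coh.HH X Q 0) ≃ₗ[k] Coh.HH X T 0 :=
    LinearEquiv.ofBijective
      { toFun := Ψ
        map_add' := hΨadd
        map_smul' := hΨsmul } hΨbij
  rw [← L.finrank_eq, Module.finrank_pi_fintype]
  simp

end Field

section Euler

variable (k : Type u) [Field k] (X : Scheme.{u}) [X.Over (Spec (CommRingCat.of k))]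
  [IsProper (X ↘ Spec (CommRingCat.of k))]

/-- **`χ(Q ⊗ E) = n · χ(Q)`** for `Q` coherent supported at closed points and `E` finite locally
free of rank `n` -/
theorem euler_tensor_rank (Q E : X.Modules) (hQ : Coh.IsCoh Q) {n : ℕ}
    (hE : FlatMod.IsFinLocFreeOfRank n E)
    (h0 : ∀ x ∈ CohB1.support Q, IsClosed ({x} : Set X)) :
    Curv2.euler k X (CohB1.tensorMod Q E) = n * Curv2.euler k X Q := by
  haveI : IsLocallyNoetherian X :=
    LocallyOfFiniteType.isLocallyNoetherian (X ↘ Spec (CommRingCat.of k))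
  have hEf : FlatMod.IsFinLocFree E := fun x => by
    obtain ⟨U, hxU, hα⟩ := hE x
    exact ⟨U, n, hxU, hα⟩
  have hEc := KerFreeH8.isCoh_of_finLocFree hEf
  haveI := hQ.1
  haveI := hEc.1
  have hTc : Coh.IsCoh (CohB1.tensorMod Q E) :=
    ⟨TensQCH8.isQuasicoherent_tensorMod Q E, TensQCH8.isFiniteType_tensorMod Q E hQ.2 hEc.2⟩
  have hsub : CohB1.support (CohB1.tensorMod Q E) ⊆ CohB1.support Q := by
    rw [SuppTensH8.support_tensorMod Q E hQ.2 hEc.2]
    exact Set.inter_subset_left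
  haveI : SheafOfModules.IsFiniteType (R := X.ringCatSheaf) Q := hQ.2
  have hcl : IsClosed (CohB1.support Q) := SuppFT.isClosed_support Q
  rw [CurveDeg.euler_eq_finrank_of_closed_support k X _ hTc (fun x hx => h0 x (hsub hx)),
    CurveDeg.euler_eq_finrank_of_closed_support k X _ hQ h0]
  haveI := ProperFinH9.finite_HH_of_proper k X _ hQ 0
  obtain ⟨Φ, hΦ⟩ := exists_equiv_rank (Q := Q) hE (CurveTens.discrete_of_closed_points Q hcl h0)
  rw [finrank_HH0_eq_of_equiv_rank k Φ hΦ]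
  push_cast
  rfl

end Euler

end TensBasis
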