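import Mathlib
import Groth.Prelude
import Groth.Agent.Lib.TensBasis3_helper9

/-!
# Tensoring with a finite locally free module is exact (helper9).
APPEND-ONLY once landed.
-/

set_option autoImplicit false
universe u
open CategoryTheory CategoryTheory.Limits AlgebraicGeometry Opposite TopologicalSpace

namespace TensBasis

open QcqsLoc QCohExtn GenLocH8 TensH8 FLFH8 CohB1 Groth.Agent.HHVan Groth.Agent.TensInv

section Flat

variable {X : Scheme.{u}} {E : X.Modules}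

/-- a morphism `A ⊗ E ⟶ B ⊗ E` acting as `f ⊗ 1` on pure tensors -/
def ActsAs {A B : X.Modules} (f : A ⟶ B) (φ : CohB1.tensorMod A E ⟶ CohB1.tensorMod B E) : Prop :=
  ∀ (O : X.Opens) (a : Γ(A, O)) (e : Γ(E, O)),
    ap φ O (SecTwist.tmul A E O a e) = SecTwist.tmul B E O (ap f O a) e

theorem actsAs_tR {A B : X.Modules} (f : A ⟶ B) :
    ActsAs f (show CohB1.tensorMod A E ⟶ CohB1.tensorMod B E from (tR E).map f) :=
  fun O a e => Groth.Agent.CMMul.ap_tR_map_tmul f E O a e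

/-- `f ⊗ E` in the local description -/
theorem ActsAs.ap_Phi {A B : X.Modules} {f : A ⟶ B}
    {φ : CohB1.tensorMod A E ⟶ CohB1.tensorMod B E} (h : ActsAs f φ) {W O : X.Opens} {n : ℕ}
    (t : Fin n → Γ(E, W)) (hO : O ≤ W) (s : Fin n → Γ(A, O)) :
    ap φ O (Phi A E t hO s) = Phi B E t hO (fun j => ap f O (s j)) := by
  unfold Phi
  rw [map_sum]
  refine Finset.sum_congr rfl (fun j _ => ?_)
  exact h O (s j) _

/-- local description of the sections of `A ⊗ E` -/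
theorem exists_Phi_eq (hE : FlatMod.IsFinLocFree E) (A : X.Modules) {V : X.Opens}
    (y : Γ(CohB1.tensorMod A E, V)) {x : X} (hx : x ∈ V) :
    ∃ (W : X.Opens) (hW : W ≤ V) (n : ℕ) (t : Fin n → Γ(E, W)), x ∈ W ∧
      (∀ (O : X.Opens) (hO : O ≤ W), BasisOn E t O hO) ∧
      ∃ s : Fin n → Γ(A, W), Phi A E t (le_refl W) s = rF (CohB1.tensorMod A E) hW y := by
  obtain ⟨U, n, hxU, ⟨α⟩⟩ := hE x
  obtain ⟨W₀, -, hxW₀, -, t₀, ht₀⟩ := exists_affine_bases E hxU α
  have hW : V ⊓ W₀ ≤ V := inf_le_left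
  have hW' : V ⊓ W₀ ≤ W₀ := inf_le_right
  have ht : ∀ (O : X.Opens) (hO : O ≤ V ⊓ W₀), BasisOn E (fun j => rF E hW' (t₀ j)) O hO :=
    fun O hO => BasisOn.of_rF E t₀ hW' hO (ht₀ O (hO.trans hW'))
  obtain ⟨s, hs⟩ := Phi_surjective A E (fun j => rF E hW' (t₀ j)) ht (le_refl _)
    (rF (CohB1.tensorMod A E) hW y)
  exact ⟨V ⊓ W₀, hW, n, fun j => rF E hW' (t₀ j), ⟨hx, hxW₀⟩, ht, s, hs⟩

/-- `Phi s = 0` iff `s = 0` -/
theorem Phi_eq_zero_iff (A : X.Modules) {W O : X.Opens} {n : ℕ} (t : Fin n → Γ(E, W))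
    (ht : ∀ (O : X.Opens) (hO : O ≤ W), BasisOn E t O hO) (hO : O ≤ W) (s : Fin n → Γ(A, O)) :
    Phi A E t hO s = 0 ↔ ∀ j, s j = 0 := by
  constructor
  · intro h j
    have h1 := Phi_injective A E t ht hO (h.trans (Phi_zero A E t hO).symm)
    exact congrFun h1 j
  · intro h
    have hs : s = fun _ => (0 : Γ(A, O)) := funext h
    rw [hs]
    exact Phi_zero A E t hO

/-- `f ⊗ E` is a monomorphism for `f` mono and `E` finite locally free -/
theorem ActsAs.mono (hE : FlatMod.IsFinLocFree E) {A B : X.Modules} {f : A ⟶ B}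
    {φ : CohB1.tensorMod A E ⟶ CohB1.tensorMod B E} (h : ActsAs f φ) [Mono f] : Mono φ := by
  apply FComplH8.mono_of_app_injective
  intro O
  rw [injective_iff_map_eq_zero]
  intro σ hσ
  apply eq_zero_of_cover
  intro x hx
  obtain ⟨W, hW, n, t, hxW, ht, s, hs⟩ := exists_Phi_eq hE A σ hx
  refine ⟨W, hW, hxW, ?_⟩
  have h1 : ap φ W (rF (CohB1.tensorMod A E) hW σ) = 0 :=
    (ap_rF φ hW σ).trans (by rw [hσ]; exact map_zero _)
  rw [← hs, h.ap_Phi, Phi_eq_zero_iff B t ht] at h1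
  rw [← hs, Phi_eq_zero_iff A t ht]
  intro j
  apply QCohExact.app_injective_of_mono f W
  exact (h1 j).trans (map_zero _).symm

/-- `g ⊗ E` is an epimorphism for `g` epi and `E` finite locally free -/
theorem ActsAs.epi (hE : FlatMod.IsFinLocFree E) {B C : X.Modules} {g : B ⟶ C}
    {φ : CohB1.tensorMod B E ⟶ CohB1.tensorMod C E} (h : ActsAs g φ) [Epi g] : Epi φ := by
  apply epi_of_locally_surjective
  intro U m x hx
  obtain ⟨W, hW, n, t, hxW, ht, c, hc⟩ := exists_Phi_eq hE C m hx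
  -- each term lifts locally
  have key : ∀ (S : Finset (Fin n)), ∃ (V : X.Opens) (hV : V ≤ W), x ∈ V ∧
      ∃ z : Γ(CohB1.tensorMod B E, V), ap φ V z =
        rF (CohB1.tensorMod C E) hV
          (∑ j ∈ S, (SecTwist.tmul C E W (c j) (rF E (le_refl W) (t j)) :
            Γ(CohB1.tensorMod C E, W))) := by
    intro S
    induction S using Finset.induction_on with
    | empty =>
      refine ⟨W, le_rfl, hxW, 0, ?_⟩
      rw [Finset.sum_empty, map_zero, map_zero]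
    | insert j S hj ih =>
      obtain ⟨V₀, hV₀, hxV₀, z₀, hz₀⟩ := ih
      obtain ⟨V₁, hV₁, hxV₁, p, hp⟩ := EpiLoc.exists_local_lift g (c j) hxW
      have hp' : ap g V₁ p = rF C hV₁ (c j) := hp
      have hl₀ : V₀ ⊓ V₁ ≤ V₀ := inf_le_left
      have hl₁ : V₀ ⊓ V₁ ≤ V₁ := inf_le_right
      refine ⟨V₀ ⊓ V₁, hl₀.trans hV₀, ⟨hxV₀, hxV₁⟩,
        rF (CohB1.tensorMod B E) hl₁ (SecTwist.tmul B E V₁ p (rF E hV₁ (rF E (le_refl W) (t j)))) +
          rF (CohB1.tensorMod B E) hl₀ z₀, ?_⟩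
      have e1 : ap φ V₁ (SecTwist.tmul B E V₁ p (rF E hV₁ (rF E (le_refl W) (t j)))) =
          rF (CohB1.tensorMod C E) hV₁ (SecTwist.tmul C E W (c j) (rF E (le_refl W) (t j))) := by
        rw [h V₁, hp']
        exact (rF_tmul C E hV₁ (c j) _).symm
      rw [Finset.sum_insert hj, map_add, map_add, ap_rF, ap_rF, hz₀, e1, rF_rF, rF_rF]
  obtain ⟨V, hV, hxV, z, hz⟩ := key Finset.univ
  refine ⟨V, hV.trans hW, hxV, z, ?_⟩
  rw [hz]
  exact (congrArg (rF (CohB1.tensorMod C E) hV) hc).trans (rF_rF _ hV hW m)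

/-- `- ⊗ E` is exact for a finite locally free module `E` (abstract form) -/
theorem ActsAs.shortExact (hE : FlatMod.IsFinLocFree E) (S : ShortComplex X.Modules)
    (hS : S.ShortExact) (f' : CohB1.tensorMod S.X₁ E ⟶ CohB1.tensorMod S.X₂ E)
    (g' : CohB1.tensorMod S.X₂ E ⟶ CohB1.tensorMod S.X₃ E) (hf : ActsAs S.f f')
    (hg : ActsAs S.g g') (hfg : f' ≫ g' = 0) : (ShortComplex.mk f' g' hfg).ShortExact := by
  haveI := hS.mono_f
  haveI := hS.epi_g
  haveI : Mono (ShortComplex.mk f' g' hfg).f := hf.mono hE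
  haveI : Epi (ShortComplex.mk f' g' hfg).g := hg.epi hE
  refine ShortComplex.ShortExact.mk ?_
  rw [ShortComplex.exact_iff_epi_kernel_lift]
  apply epi_of_locally_surjective
  intro U τ x hx
  let τ' : Γ(kernel g', U) := τ
  let b : Γ(CohB1.tensorMod S.X₂ E, U) := ap (kernel.ι g') U τ'
  have hb : ap g' U b = 0 := kernel_section_mem g' τ'
  obtain ⟨W, hW, n, t, hxW, ht, b₀, hb₀⟩ := exists_Phi_eq hE S.X₂ b hx
  have h1 : ap g' W (rF (CohB1.tensorMod S.X₂ E) hW b) = 0 :=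
    (ap_rF g' hW b).trans (by rw [hb]; exact map_zero _)
  rw [← hb₀] at h1
  have h2 : Phi S.X₃ E t (le_refl W) (fun j => ap S.g W (b₀ j)) = 0 :=
    (hg.ap_Phi t (le_refl W) b₀).symm.trans h1
  have h3 : ∀ j, ap S.g W (b₀ j) = 0 := (Phi_eq_zero_iff S.X₃ t ht (le_refl W) _).1 h2
  have h4 : ∀ j, ∃ t₀ : Γ(kernel S.g, W), ap (kernel.ι S.g) W t₀ = b₀ j := fun j =>
    exists_kernel_section S.g (b₀ j) (h3 j)
  choose t₀ ht₀ using h4
  let i : S.X₁ ≅ kernel S.g :=
    IsLimit.conePointUniqueUpToIso hS.fIsKernel (limit.isLimit (parallelPair S.g 0))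
  have hi : i.inv ≫ S.f = kernel.ι S.g :=
    IsLimit.conePointUniqueUpToIso_inv_comp hS.fIsKernel (limit.isLimit (parallelPair S.g 0))
      WalkingParallelPair.zero
  let a₀ : Fin n → Γ(S.X₁, W) := fun j => ap i.inv W (t₀ j)
  have ha₀ : ∀ j, ap S.f W (a₀ j) = b₀ j := by
    intro j
    have h2 : ap S.f W (a₀ j) = ap (i.inv ≫ S.f) W (t₀ j) := rfl
    rw [h2, hi]
    exact ht₀ j
  refine ⟨W, hW, hxW, Phi S.X₁ E t (le_refl W) a₀, ?_⟩
  haveI : Mono (kernel.ι g') := inferInstance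
  apply QCohExact.app_injective_of_mono (kernel.ι g') W
  have h4 : kernel.lift g' f' hfg ≫ kernel.ι g' = f' := kernel.lift_ι _ _ _
  have h5 : ap (kernel.ι g') W (ap (kernel.lift g' f' hfg) W (Phi S.X₁ E t (le_refl W) a₀)) =
      ap f' W (Phi S.X₁ E t (le_refl W) a₀) :=
    congrArg (fun φ : CohB1.tensorMod S.X₁ E ⟶ CohB1.tensorMod S.X₂ E =>
      ap φ W (Phi S.X₁ E t (le_refl W) a₀)) h4
  have h6 : ap f' W (Phi S.X₁ E t (le_refl W) a₀) = rF (CohB1.tensorMod S.X₂ E) hW b := by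
    refine (hf.ap_Phi t (le_refl W) a₀).trans ?_
    rw [← hb₀]
    congr 1
    funext j
    exact ha₀ j
  have h7 : ap (kernel.ι g') W (rF (kernel g') hW τ') = rF (CohB1.tensorMod S.X₂ E) hW b :=
    ap_rF (kernel.ι g') hW τ'
  exact (h5.trans h6).trans h7.symm

/-- `- ⊗ E` preserves monomorphisms for `E` finite locally free -/
theorem mono_tR (hE : FlatMod.IsFinLocFree E) {A B : X.Modules} (f : A ⟶ B) [Mono f] :
    Mono ((tR E).map f) :=
  (actsAs_tR (E := E) f).mono hE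

/-- `- ⊗ E` preserves epimorphisms for `E` finite locally free -/
theorem epi_tR (hE : FlatMod.IsFinLocFree E) {B C : X.Modules} (g : B ⟶ C) [Epi g] :
    Epi ((tR E).map g) :=
  (actsAs_tR (E := E) g).epi hE

/-- **`- ⊗ E` is exact for a finite locally free module `E`** -/
theorem shortExact_tR (hE : FlatMod.IsFinLocFree E) (S : ShortComplex X.Modules)
    (hS : S.ShortExact) : (S.map (tR E)).ShortExact :=
  ActsAs.shortExact hE S hS _ _ (actsAs_tR (E := E) S.f) (actsAs_tR (E := E) S.g)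
    (S.map (tR E)).zero

end Flat

end TensBasis
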