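import Mathlib
import Groth.Prelude
import Groth.Agent.Lib.TensBasis4_helper9
import Groth.Agent.Lib.CurveTens4_helper9

/-!
# The degree of a twist `M ⊗ E` of a finite locally free module by an invertible module on an
integral proper curve (helper9).
APPEND-ONLY once landed.
-/

set_option autoImplicit false
universe u
open CategoryTheory CategoryTheory.Limits AlgebraicGeometry Opposite TopologicalSpace

namespace TensBasis

open QcqsLoc QCohExtn GenLocH8 TensH8 FLFH8 CohB1 Groth.Agent.HHVan Groth.Agent.TensInv

section Coh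

variable {X : Scheme.{u}} [IsLocallyNoetherian X]

theorem isFinLocFree_of_rank {E : X.Modules} {n : ℕ} (hE : FlatMod.IsFinLocFreeOfRank n E) :
    FlatMod.IsFinLocFree E := fun x => by
  obtain ⟨U, hxU, hα⟩ := hE x
  exact ⟨U, n, hxU, hα⟩

/-- `A ⊗ E` is coherent for `A` coherent and `E` finite locally free -/
theorem isCoh_tensorMod_finLocFree {A E : X.Modules} (hA : Coh.IsCoh A)
    (hE : FlatMod.IsFinLocFree E) : Coh.IsCoh (CohB1.tensorMod A E) := by
  have hEc := KerFreeH8.isCoh_of_finLocFree hE
  haveI := hA.1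
  haveI := hEc.1
  exact ⟨TensQCH8.isQuasicoherent_tensorMod A E, TensQCH8.isFiniteType_tensorMod A E hA.2 hEc.2⟩

end Coh

section Add

variable (k : Type u) [Field k] (X : Scheme.{u}) [X.Over (Spec (CommRingCat.of k))]
  [IsProper (X ↘ Spec (CommRingCat.of k))]

/-- for a monomorphism `p : F ⟶ M` of coherent modules whose cokernel is supported at closed points,
`χ(M ⊗ E) - χ(F ⊗ E) = n (χ(M) - χ(F))` for every finite locally free `E` of rank `n` -/
theorem euler_tensor_sub_rank {F M E : X.Modules} (hF : Coh.IsCoh F) (hM : Coh.IsCoh M) {n : ℕ}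
    (hE : FlatMod.IsFinLocFreeOfRank n E) (p : F ⟶ M) [Mono p]
    (h0 : ∀ x ∈ CohB1.support (cokernel p), IsClosed ({x} : Set X)) :
    Curv2.euler k X (CohB1.tensorMod M E) - Curv2.euler k X (CohB1.tensorMod F E) =
      n * (Curv2.euler k X M - Curv2.euler k X F) := by
  haveI : IsLocallyNoetherian X :=
    LocallyOfFiniteType.isLocallyNoetherian (X ↘ Spec (CommRingCat.of k))
  have hEf := isFinLocFree_of_rank hE
  have hQc : Coh.IsCoh (cokernel p) := CohKerH8.isCoh_cokernel hF hM p
  let S : ShortComplex X.Modules := ShortComplex.mk p (cokernel.π p) (cokernel.condition p)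
  have hS : S.ShortExact :=
    ShortComplex.ShortExact.mk' (S.exact_of_g_is_cokernel (cokernelIsCokernel p))
      (inferInstanceAs (Mono p)) (inferInstanceAs (Epi (cokernel.π p)))
  have h1 := EulerField.euler_additive k X S hS hF hM hQc
  have hS' := shortExact_tR hEf S hS
  have h2 := EulerField.euler_additive k X (S.map (tR E)) hS'
    (isCoh_tensorMod_finLocFree hF hEf) (isCoh_tensorMod_finLocFree hM hEf)
    (isCoh_tensorMod_finLocFree hQc hEf)
  have h3 := euler_tensor_rank k X (cokernel p) E hQc hE h0
  have h1' : Curv2.euler k X M = Curv2.euler k X F + Curv2.euler k X (cokernel p) := h1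
  have h2' : Curv2.euler k X (CohB1.tensorMod M E) =
      Curv2.euler k X (CohB1.tensorMod F E) + Curv2.euler k X (CohB1.tensorMod (cokernel p) E) := h2
  rw [h1', h2', h3]
  ring

variable [IsIntegral X]

/-- **the degree of a twist**: `deg (M ⊗ E) = deg E + n · deg M` for `M` invertible and `E` finite
locally free of rank `n` on an integral proper curve -/
theorem deg_tensorMod_rank (hdim : topologicalKrullDim X ≤ 1) {M E : X.Modules}
    (hM : PicF.IsInvertible M) {n : ℕ} (hE : FlatMod.IsFinLocFreeOfRank n E) :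
    Curv2.deg k X (CohB1.tensorMod M E) n = Curv2.deg k X E n + n * Curv2.deg k X M 1 := by
  haveI : IsLocallyNoetherian X :=
    LocallyOfFiniteType.isLocallyNoetherian (X ↘ Spec (CommRingCat.of k))
  haveI : CompactSpace X :=
    QuasiCompact.compactSpace_of_compactSpace (X ↘ Spec (CommRingCat.of k))
  haveI : IsNoetherian X := {}
  obtain ⟨F', p₁, p₂, U, hm₁, hm₂, hFc, hU, hs₁, hs₂⟩ := CurveTens.exists_common_sub hM
  have hMc := ProperFinH9.isCoh_of_isInvertible hM
  have hOc := CohDevH8.isCoh_structureModule X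
  have hcl : ∀ x : X, x ∉ U → IsClosed ({x} : Set X) :=
    fun x hx => CurveVan.isClosed_singleton_of_notMem_open hdim U hU x hx
  have e1 := euler_tensor_sub_rank k X hFc hOc hE p₁ (fun x hx => hcl x (hs₁ hx))
  have e2 := euler_tensor_sub_rank k X hFc hMc hE p₂ (fun x hx => hcl x (hs₂ hx))
  have e3 := CurveTens.euler_of_iso k X (Groth.Agent.CMMul.unitorL E)
  unfold Curv2.deg
  rw [e3] at e1
  push_cast
  linarith

/-- the same with the invertible module on the right -/
theorem deg_tensorMod_rank' (hdim : topologicalKrullDim X ≤ 1) {M E : X.Modules}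
    (hM : PicF.IsInvertible M) {n : ℕ} (hE : FlatMod.IsFinLocFreeOfRank n E) :
    Curv2.deg k X (CohB1.tensorMod E M) n = Curv2.deg k X E n + n * Curv2.deg k X M 1 := by
  rw [← deg_tensorMod_rank k X hdim hM hE]
  exact CurveTens.deg_of_iso k X (comm E M) n

end Add

end TensBasis
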