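import Mathlib
import Groth.Prelude
import Groth.Agent.Lib.TensBasis5_helper9
import Groth.Agent.Lib.CurveIdeal1_helper9

/-!
# Twisting a finite locally free module by `O(D)` for an effective Cartier divisor `D` on a proper
scheme of dimension at most one (helper9).
APPEND-ONLY once landed.
-/

set_option autoImplicit false
universe u
open CategoryTheory CategoryTheory.Limits AlgebraicGeometry Opposite TopologicalSpace

namespace TensBasis

open QcqsLoc QCohExtn GenLocH8 TensH8 FLFH8 CohB1 Groth.Agent.HHVan Groth.Agent.TensInv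

section Rank

variable {X : Scheme.{u}}

/-- the tensor product of a finite locally free module of rank `n` with an invertible module is
finite locally free of rank `n` -/
theorem isFinLocFreeOfRank_tensorMod_of_isInvertible {E K : X.Modules} {n : ℕ}
    (hE : FlatMod.IsFinLocFreeOfRank n E) (hK : PicF.IsInvertible K) :
    FlatMod.IsFinLocFreeOfRank n (CohB1.tensorMod E K) := by
  have hEf : FlatMod.IsFinLocFree E := fun x => by
    obtain ⟨U, hxU, hα⟩ := hE x
    exact ⟨U, n, hxU, hα⟩
  haveI : E.IsQuasicoherent := isQuasicoherent_of_finLocFree E hEf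
  haveI : K.IsQuasicoherent := isQuasicoherent_of_isInvertible hK
  haveI : (CohB1.tensorMod E K).IsQuasicoherent := TensQCH8.isQuasicoherent_tensorMod E K
  intro x
  obtain ⟨U, -, hxU, k, hk⟩ := GenLocH8.exists_isGen hK x
  obtain ⟨U', hxU', ⟨α⟩⟩ := hE x
  obtain ⟨W₀, -, hxW₀, -, t, ht⟩ := exists_affine_bases E hxU' α
  obtain ⟨_, ⟨W, hW : IsAffineOpen W, rfl⟩, hxW, hWle⟩ :=
    (X.isBasis_affineOpens).exists_subset_of_mem_open (show x ∈ ((W₀ ⊓ U : X.Opens) : Set X) from
      ⟨hxW₀, hxU⟩) (W₀ ⊓ U).isOpen
  have hWW₀ : W ≤ W₀ := fun y hy => (hWle hy).1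
  have hWU : W ≤ U := fun y hy => (hWle hy).2
  obtain ⟨hspan, hli⟩ := ht W hWW₀
  let ψ : Γ(E, W) →ₗ[Γ(X, W)] Γ(CohB1.tensorMod E K, W) :=
    { toFun := fun s => SecTwist.tmul E K W s (rF K hWU k)
      map_add' := fun s s' => tmul_add_left E K W s s' _
      map_smul' := fun c s => tmul_smul_left E K W c s _ }
  have hinj : Function.Injective ψ := fun s s' h => tmulGen_injective E K hk hWU s s' h
  have hsurj : Function.Surjective ψ := fun y => tmulGen_surjective E K hk hWU y
  refine ⟨W, hxW, iso_of_basis (CohB1.tensorMod E K) hW (fun j => ψ (rF E hWW₀ (t j))) ?_ ?_⟩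
  · have h1 : Set.range (fun j => ψ (rF E hWW₀ (t j))) =
        ψ '' Set.range (fun j => rF E hWW₀ (t j)) := by
      rw [← Set.range_comp]
      rfl
    rw [h1, ← Submodule.map_span, hspan, Submodule.map_top, LinearMap.range_eq_top]
    exact hsurj
  · exact hli.map' ψ (LinearMap.ker_eq_bot.mpr hinj)

end Rank

section Top

/-- in a `T₀` space of dimension at most one, a point with a proper generization is closed -/
theorem isClosed_singleton_of_generization {T : Type*} [TopologicalSpace T] [T0Space T]
    (hdim : topologicalKrullDim T ≤ 1) {z x : T} (hzx : z ⤳ x) (hne : z ≠ x) :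
    IsClosed ({x} : Set T) := by
  rw [← closure_eq_iff_isClosed]
  apply Set.Subset.antisymm _ subset_closure
  intro y hy
  by_contra hyx
  have hxy : x ⤳ y := specializes_iff_mem_closure.mpr hy
  have hyx' : y ≠ x := hyx
  let Zy : IrreducibleCloseds T := ⟨closure {y}, isIrreducible_singleton.closure, isClosed_closure⟩
  let Zx : IrreducibleCloseds T := ⟨closure {x}, isIrreducible_singleton.closure, isClosed_closure⟩
  let Zz : IrreducibleCloseds T := ⟨closure {z}, isIrreducible_singleton.closure, isClosed_closure⟩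
  have h1 : Zy < Zx := by
    refine lt_of_le_of_ne (fun w hw => (specializes_iff_closure_subset.mp hxy) hw) ?_
    intro h
    have h2 : x ∈ closure ({y} : Set T) := by
      have : x ∈ (Zx : Set T) := subset_closure rfl
      rw [← h] at this
      exact this
    have hyx2 : y ⤳ x := specializes_iff_mem_closure.mpr h2
    exact hyx' (hyx2.antisymm hxy).eq
  have h2 : Zx < Zz := by
    refine lt_of_le_of_ne (fun w hw => (specializes_iff_closure_subset.mp hzx) hw) ?_
    intro h
    have h3 : z ∈ closure ({x} : Set T) := by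
      have : z ∈ (Zz : Set T) := subset_closure rfl
      rw [← h] at this
      exact this
    have hxz : x ⤳ z := specializes_iff_mem_closure.mpr h3
    exact hne (hzx.antisymm hxz).eq
  let p : LTSeries (IrreducibleCloseds T) := LTSeries.mk 2 ![Zy, Zx, Zz] (by
    rw [Fin.strictMono_iff_lt_succ]
    intro i
    fin_cases i
    · exact h1
    · exact h2)
  have h3 := Order.LTSeries.length_le_krullDim p
  have h4 : ((2 : ℕ) : WithBot ℕ∞) ≤ 1 := h3.trans hdim
  have h5 : ((2 : ℕ) : WithBot ℕ∞) ≤ ((1 : ℕ) : WithBot ℕ∞) := h4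
  rw [Nat.cast_le] at h5
  omega

end Top

section Cartier

variable {X : Scheme.{u}}

/-- the points of an effective Cartier divisor on a scheme of dimension at most one are closed -/
theorem isClosed_singleton_of_mem_support_effCartier (hdim : topologicalKrullDim X ≤ 1)
    (D : X.IdealSheafData) (hD : BlowUp.IsEffCartierIdeal D) (x : X)
    (hx : x ∈ D.support) : IsClosed ({x} : Set X) := by
  obtain ⟨U, hxU, f, hf, hDf⟩ := hD x
  have h1 : x ∈ X.zeroLocus (U := U.1) (D.ideal U) :=
    (Scheme.IdealSheafData.mem_support_iff_of_mem hxU).1 hx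
  have hxf : x ∉ X.basicOpen f := by
    rw [Scheme.mem_zeroLocus_iff] at h1
    exact h1 f (by rw [hDf]; exact Ideal.mem_span_singleton_self f)
  set p := U.2.primeIdealOf ⟨x, hxU⟩ with hp
  have hfp : f ∈ p.asIdeal := by
    by_contra hfp
    apply hxf
    have h2 : p ∈ PrimeSpectrum.basicOpen f := hfp
    rw [← U.2.fromSpec_preimage_basicOpen f] at h2
    have h3 : U.2.fromSpec p = x := U.2.fromSpec_primeIdealOf ⟨x, hxU⟩
    rw [← h3]
    exact h2
  obtain ⟨q, hq, hqp⟩ := Ideal.exists_minimalPrimes_le (bot_le : (⊥ : Ideal Γ(X, U.1)) ≤ p.asIdeal)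
  haveI : q.IsPrime := hq.1.1
  have hfq : f ∉ q := fun h =>
    Set.disjoint_left.mp (Ideal.disjoint_nonZeroDivisors_of_mem_minimalPrimes hq) h hf
  let q' : PrimeSpectrum Γ(X, U.1) := ⟨q, inferInstance⟩
  have hle : q' ≤ p := hqp
  have hspec : q' ⤳ p := (PrimeSpectrum.le_iff_specializes q' p).1 hle
  have hspec' : U.2.fromSpec q' ⤳ U.2.fromSpec p := hspec.map U.2.fromSpec.continuous
  rw [U.2.fromSpec_primeIdealOf ⟨x, hxU⟩] at hspec'
  refine isClosed_singleton_of_generization hdim hspec' ?_
  intro h
  have h2 : U.2.fromSpec q' = U.2.fromSpec p := by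
    rw [U.2.fromSpec_primeIdealOf ⟨x, hxU⟩]; exact h
  have h3 : q' = p := U.2.fromSpec.isOpenEmbedding.injective h2
  apply hfq
  have : q = p.asIdeal := congrArg PrimeSpectrum.asIdeal h3
  rw [this]
  exact hfp

/-- a closed set of closed points in a quasi-compact locally Noetherian scheme is finite -/
theorem finite_of_closed_points [CompactSpace X] [IsLocallyNoetherian X] (Z : Set X)
    (hZ : IsClosed Z) (h0 : ∀ x ∈ Z, IsClosed ({x} : Set X)) : Z.Finite := by
  apply hZ.isCompact.finite
  rw [isDiscrete_iff_forall_mem_exists_isClosed]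
  intro s hs
  exact ⟨s, ZeroDimAcyc.isClosed_of_subset X Z hZ h0 s hs, Set.inter_eq_left.mpr hs⟩

end Cartier

section Main

variable (k : Type u) [Field k] (X : Scheme.{u}) [X.Over (Spec (CommRingCat.of k))]
  [IsProper (X ↘ Spec (CommRingCat.of k))]

/-- a closed subscheme all of whose points are closed in `X` is finite over the base field -/
theorem isFinite_subscheme_of_closed_points (D : X.IdealSheafData)
    (h0 : ∀ x ∈ D.support, IsClosed ({x} : Set X)) :
    IsFinite (D.subschemeι ≫ (X ↘ Spec (CommRingCat.of k))) := by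
  haveI : IsLocallyNoetherian X :=
    LocallyOfFiniteType.isLocallyNoetherian (X ↘ Spec (CommRingCat.of k))
  haveI : CompactSpace X :=
    QuasiCompact.compactSpace_of_compactSpace (X ↘ Spec (CommRingCat.of k))
  have hfin : (D.support : Set X).Finite :=
    finite_of_closed_points (D.support : Set X) D.support.isClosed h0
  haveI : Finite (D.support : Set X) := hfin.to_subtype
  haveI : Finite D.subscheme := by
    let g : D.subscheme → (D.support : Set X) := fun y =>
      ⟨D.subschemeι y, by
        have : D.subschemeι y ∈ Set.range D.subschemeι := ⟨y, rfl⟩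
        rw [Scheme.IdealSheafData.range_subschemeι] at this
        exact this⟩
    have hg : Function.Injective g := by
      intro a b hab
      have h1 : D.subschemeι a = D.subschemeι b := congrArg Subtype.val hab
      exact D.subschemeι.isEmbedding.injective h1
    exact Finite.of_injective g hg
  haveI : LocallyQuasiFinite (D.subschemeι ≫ (X ↘ Spec (CommRingCat.of k))) :=
    LocallyQuasiFinite.of_finite_preimage_singleton _ (fun _ => Set.toFinite _)
  exact IsFinite.of_isProper_of_locallyQuasiFinite _

/-- `χ(O) = χ(I) + χ(O/I)` -/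
theorem euler_structureModule_eq_add (D : X.IdealSheafData) :
    Curv2.euler k X (Coh.structureModule X) = Curv2.euler k X (ClSub.idealMod D) +
      Curv2.euler k X (ClSub.quotMod D) := by
  haveI : IsLocallyNoetherian X :=
    LocallyOfFiniteType.isLocallyNoetherian (X ↘ Spec (CommRingCat.of k))
  have h := EulerField.euler_additive k X _ (Groth.Agent.HypSurf.ses_shortExact D)
    (CurveIdeal.isCoh_idealMod D) (CohDevH8.isCoh_structureModule X) (CurveIdeal.isCoh_quotMod D)
  exact h

/-- `I ⊗ (E ⊗ L) ≅ E` when `L ⊗ I ≅ O` -/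
noncomputable def untwistIso {X : Scheme.{u}} {I L : X.Modules}
    (e : CohB1.tensorMod L I ≅ Coh.structureModule X) (E : X.Modules) :
    CohB1.tensorMod I (CohB1.tensorMod E L) ≅ E :=
  comm I (CohB1.tensorMod E L) ≪≫ assoc E L I ≪≫ mapL E e ≪≫ rightUnit E

/-- **statement of S1604** -/
theorem deg_twist_effCartier (hdim : topologicalKrullDim X ≤ 1)
    (D : X.IdealSheafData) (hD : BlowUp.IsEffCartierIdeal D)
    (L : X.Modules) (hL : PicF.IsInvertible L) (hLD : ClSub.IsInverseOf L (ClSub.idealMod D))
    (n : ℕ) (E : X.Modules) (hE : FlatMod.IsFinLocFreeOfRank n E) :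
    IsFinite (D.subschemeι ≫ (X ↘ (Spec (CommRingCat.of k)))) ∧
      Curv2.deg k X (CohB1.tensorMod E L) n =
        n * Module.finrank k (Coh.HH X (ClSub.quotMod D) 0) + Curv2.deg k X E n := by
  haveI : IsLocallyNoetherian X :=
    LocallyOfFiniteType.isLocallyNoetherian (X ↘ Spec (CommRingCat.of k))
  have h0 : ∀ x ∈ D.support, IsClosed ({x} : Set X) := fun x hx =>
    isClosed_singleton_of_mem_support_effCartier hdim D hD x hx
  refine ⟨isFinite_subscheme_of_closed_points k X D h0, ?_⟩
  obtain ⟨e⟩ := hLD
  have hA := isFinLocFreeOfRank_tensorMod_of_isInvertible hE hL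
  have hIc := CurveIdeal.isCoh_idealMod D
  have hOc := CohDevH8.isCoh_structureModule X
  have hQc := CurveIdeal.isCoh_quotMod D
  have h0' : ∀ x ∈ CohB1.support (cokernel (ClSub.idealModι D)), IsClosed ({x} : Set X) :=
    fun x hx => h0 x (CurveIdeal.support_quotMod_subset D (CurveIdeal.cokernelIso D).symm hx)
  have h0'' : ∀ x ∈ CohB1.support (ClSub.quotMod D), IsClosed ({x} : Set X) :=
    fun x hx => h0 x (CurveIdeal.support_quotMod_subset D (Iso.refl _) hx)
  have e1 := euler_tensor_sub_rank k X hIc hOc hA (ClSub.idealModι D) h0'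
  have e2 := CurveTens.euler_of_iso k X (Groth.Agent.CMMul.unitorL (CohB1.tensorMod E L))
  have e3 := CurveTens.euler_of_iso k X (untwistIso e E)
  have e4 := euler_structureModule_eq_add k X D
  have e5 := CurveDeg.euler_eq_finrank_of_closed_support k X _ hQc h0''
  have e6 : Curv2.euler k X (Coh.structureModule X) - Curv2.euler k X (ClSub.idealMod D) =
      (Module.finrank k (Coh.HH X (ClSub.quotMod D) 0) : ℤ) := by
    rw [e4, e5]
    ring
  rw [e2, e3, e6] at e1
  unfold Curv2.deg
  linarith

end Main

end TensBasis
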