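import Mathlib
import Groth.Prelude
import Groth.Agent.Lib.CurvePtInv2_helper9
import Groth.Agent.Lib.TensBasis6_helper9
import Groth.Agent.Lib.VBCurve3_helper9
import Groth.Agent.Lib.InvTensP2_helper5
import Groth.Agent.Lib.FinCov3_helper8

/-!
# Semistable bundles of degree `≤ 0` on a curve with a rational point have `h⁰ ≤ rank` (helper9).
APPEND-ONLY once landed.
-/

set_option autoImplicit false
universe u
open CategoryTheory CategoryTheory.Limits AlgebraicGeometry Opposite TopologicalSpace

namespace CurvePtInv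

open QcqsLoc QCohExtn GenLocH8 TensH8 FLFH8 CohB1 Groth.Agent.TensInv CurveAmple

section LeftExact

variable (k : Type u) [Field k] (X : Scheme.{u}) [X.Over (Spec (CommRingCat.of k))]
  [IsProper (X ↘ Spec (CommRingCat.of k))]

/-- left exactness of `H⁰`: `h⁰(B) ≤ h⁰(A) + h⁰(C)` for `0 → A → B → C → 0` -/
theorem finrank_HH0_le_add (S : ShortComplex X.Modules) (hS : S.ShortExact)
    (h1 : Coh.IsCoh S.X₁) (h2 : Coh.IsCoh S.X₂) (h3 : Coh.IsCoh S.X₃) :
    Module.finrank k (Coh.HH X S.X₂ 0) ≤
      Module.finrank k (Coh.HH X S.X₁ 0) + Module.finrank k (Coh.HH X S.X₃ 0) := by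
  haveI := ProperFinH9.finite_HH_of_proper k X _ h1 0
  haveI := ProperFinH9.finite_HH_of_proper k X _ h2 0
  haveI := ProperFinH9.finite_HH_of_proper k X _ h3 0
  rw [← (CurveIdeal.thetaEquiv k S.X₁).finrank_eq, ← (CurveIdeal.thetaEquiv k S.X₂).finrank_eq,
    ← (CurveIdeal.thetaEquiv k S.X₃).finrank_eq]
  haveI : Module.Finite k (Coh.structureModule X ⟶ S.X₁) :=
    Module.Finite.equiv (CurveIdeal.thetaEquiv k _).symm
  haveI : Module.Finite k (Coh.structureModule X ⟶ S.X₂) :=
    Module.Finite.equiv (CurveIdeal.thetaEquiv k _).symm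
  haveI : Module.Finite k (Coh.structureModule X ⟶ S.X₃) :=
    Module.Finite.equiv (CurveIdeal.thetaEquiv k _).symm
  let a : (Coh.structureModule X ⟶ S.X₁) →ₗ[k] (Coh.structureModule X ⟶ S.X₂) :=
    Linear.rightComp k (Coh.structureModule X) S.f
  let b : (Coh.structureModule X ⟶ S.X₂) →ₗ[k] (Coh.structureModule X ⟶ S.X₃) :=
    Linear.rightComp k (Coh.structureModule X) S.g
  have hker : LinearMap.ker b ≤ LinearMap.range a := by
    intro u hu
    have hu' : u ≫ S.g = 0 := hu
    haveI := hS.mono_f
    exact ⟨hS.exact.lift u hu', hS.exact.lift_f u hu'⟩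
  have hrn := LinearMap.finrank_range_add_finrank_ker b
  have h_range : Module.finrank k (LinearMap.range b) ≤
      Module.finrank k (Coh.structureModule X ⟶ S.X₃) := Submodule.finrank_le _
  have h_ker : Module.finrank k (LinearMap.ker b) ≤ Module.finrank k (LinearMap.range a) :=
    Submodule.finrank_mono hker
  have h_a : Module.finrank k (LinearMap.range a) ≤
      Module.finrank k (Coh.structureModule X ⟶ S.X₁) := LinearMap.finrank_range_le a
  omega

/-- `h⁰(Q ⊗ E) = n · h⁰(Q)` for `Q` coherent supported at closed points and `E` finite locally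
free of rank `n` -/
theorem finrank_HH0_tensor_rank (Q E : X.Modules) (hQ : Coh.IsCoh Q) {n : ℕ}
    (hE : FlatMod.IsFinLocFreeOfRank n E)
    (h0 : ∀ x ∈ CohB1.support Q, IsClosed ({x} : Set X)) :
    Module.finrank k (Coh.HH X (CohB1.tensorMod Q E) 0) =
      n * Module.finrank k (Coh.HH X Q 0) := by
  haveI : IsLocallyNoetherian X :=
    LocallyOfFiniteType.isLocallyNoetherian (X ↘ Spec (CommRingCat.of k))
  haveI : SheafOfModules.IsFiniteType (R := X.ringCatSheaf) Q := hQ.2
  have hcl : IsClosed (CohB1.support Q) := SuppFT.isClosed_support Q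
  haveI := ProperFinH9.finite_HH_of_proper k X _ hQ 0
  obtain ⟨Φ, hΦ⟩ := TensBasis.exists_equiv_rank (Q := Q) hE
    (CurveTens.discrete_of_closed_points Q hcl h0)
  exact TensBasis.finrank_HH0_eq_of_equiv_rank k Φ hΦ

end LeftExact

section Main

variable (k : Type u) [Field k] (X : Scheme.{u}) [X.Over (Spec (CommRingCat.of k))]
  [IsIntegral X] [IsProper (X ↘ Spec (CommRingCat.of k))]

/-- an invertible module is slope-semistable -/
theorem ss_of_isInvertible (hdim : topologicalKrullDim X = 1) {N : X.Modules}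
    (hN : PicF.IsInvertible N) : ModFun.IsSlopeSemistable k X N 1 := by
  apply VBCurve.ss_of_stable k X hdim (finLocFreeOfRank_one_of_isInvertible hN)
  intro F r' i _ h1 h2 _
  omega

/-- the data of the divisor of a rational point: an invertible ideal sheaf `I` with
`dim H⁰(O/I) = 1`, zero-dimensional support, and an inverse of degree one -/
theorem exists_point_divisor (hdim : topologicalKrullDim X = 1)
    (hreg : ∀ x : X, IsRegularLocalRing (X.presheaf.stalk x))
    (O : Spec (CommRingCat.of k) ⟶ X) (hO : O ≫ (X ↘ Spec (CommRingCat.of k)) = 𝟙 _) :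
    ∃ (I : X.IdealSheafData) (N : X.Modules), PicF.IsInvertible (ClSub.idealMod I) ∧
      PicF.IsInvertible N ∧ Nonempty (CohB1.tensorMod (ClSub.idealMod I) N ≅ Coh.structureModule X) ∧
      (∀ y ∈ I.support, IsClosed ({y} : Set X)) ∧ Set.range O ⊆ (I.support : Set X) ∧
      Module.finrank k (Coh.HH X (ClSub.quotMod I) 0) = 1 ∧ Curv2.deg k X N 1 = 1 := by
  haveI : IsLocallyNoetherian X :=
    LocallyOfFiniteType.isLocallyNoetherian (X ↘ Spec (CommRingCat.of k))
  haveI : Subsingleton ↥(Spec (CommRingCat.of k)) :=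
    inferInstanceAs (Subsingleton (PrimeSpectrum k))
  haveI := isClosedImmersion_section k O hO
  have hsupp : (O.ker.support : Set X) = Set.range O := by
    rw [Scheme.Hom.support_ker]
    exact O.isClosedEmbedding.isClosed_range.closure_eq
  have hpt : ∀ y ∈ O.ker.support, IsClosed ({y} : Set X) := by
    intro y hy
    have hy' : y ∈ Set.range O := by rw [← hsupp]; exact hy
    obtain ⟨z, rfl⟩ := hy'
    have h1 : ({O z} : Set X) = Set.range O := by
      ext w
      constructor
      · rintro rfl
        exact ⟨z, rfl⟩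
      · rintro ⟨z', rfl⟩
        rw [Subsingleton.elim z' z]
        rfl
    rw [h1]
    exact O.isClosedEmbedding.isClosed_range
  have hIinv := isInvertible_idealMod_of_support hdim O.ker (fun y hy => ⟨hpt y hy, hreg y⟩)
  obtain ⟨N, hN, ⟨e⟩⟩ := Groth.Agent.InvTensP.exists_inverse _ hIinv
  have hZ : topologicalKrullDim (O.ker.support : Set X) ≤ 0 :=
    CurveSpec.dim_le_zero_of_closed_points _ O.ker.support.isClosed hpt
  have hd := finrank_HH0_quotMod_ker k O hO
  refine ⟨O.ker, N, hIinv, hN, ⟨e⟩, hpt, hsupp.ge, hd, ?_⟩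
  have e5 := CurveIdeal.euler_eq_add k X O.ker hZ hN
  have e6 := CurveTens.euler_of_iso k X e
  unfold Curv2.deg
  rw [e5, e6, hd]
  push_cast
  ring

end Main

end CurvePtInv
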