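import Mathlib
import Groth.Prelude
import Groth.Agent.Lib.CurvePtInv3_helper9

/-!
# `h⁰ ≤ rank` for semistable bundles of degree `≤ 0` on a curve with a rational point (helper9).
APPEND-ONLY once landed.
-/

set_option autoImplicit false
universe u
open CategoryTheory CategoryTheory.Limits AlgebraicGeometry Opposite TopologicalSpace

namespace CurvePtInv

open QcqsLoc QCohExtn GenLocH8 TensH8 FLFH8 CohB1 Groth.Agent.TensInv CurveAmple

theorem eq_zero_of_iso_comp {C : Type*} [Category C] [Preadditive C] {A A' B B' : C}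
    (α : A ≅ A') (β : B' ≅ B) (m : A' ⟶ B') (h : α.hom ≫ m ≫ β.hom = 0) : m = 0 := by
  have h1 : m = α.inv ≫ (α.hom ≫ m ≫ β.hom) ≫ β.inv := by simp
  rw [h1, h, zero_comp, comp_zero]

section Main

variable (k : Type u) [Field k] (X : Scheme.{u}) [X.Over (Spec (CommRingCat.of k))]
  [IsIntegral X] [IsProper (X ↘ Spec (CommRingCat.of k))]

/-- twisting down by an invertible ideal `I` with inverse `N` of positive degree kills the
sections of a semistable module of non-positive degree -/
theorem HH0_twist_eq_zero (hdim : topologicalKrullDim X = 1)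
    (hreg : ∀ x : X, IsRegularLocalRing (X.presheaf.stalk x))
    {J N G : X.Modules} {r : ℕ} (hr : 0 < r) (hN : PicF.IsInvertible N)
    (e : CohB1.tensorMod J N ≅ Coh.structureModule X) (hdegN : 0 < Curv2.deg k X N 1)
    (hG : FlatMod.IsFinLocFreeOfRank r G) (hdeg : Curv2.deg k X G r ≤ 0)
    (hGss : ModFun.IsSlopeSemistable k X G r) (u : Coh.structureModule X ⟶ CohB1.tensorMod J G) :
    u = 0 := by
  have hall : ∀ φ : N ⟶ G, φ = 0 := by
    intro φ
    have hslope : Curv2.deg k X G r * ((1 : ℕ) : ℤ) < Curv2.deg k X N 1 * (r : ℤ) := by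
      have hr' : (0 : ℤ) < (r : ℤ) := by exact_mod_cast hr
      push_cast
      nlinarith
    exact VBCurve.hom_eq_zero_of_slope_gt k X hreg hdim hr
      (finLocFreeOfRank_one_of_isInvertible hN) hG (ss_of_isInvertible k X hdim hN) hGss hslope φ
  haveI := isEquivalence_tL (L := N) (L' := J) ⟨comm N J ≪≫ e⟩
  have h2 : (tL N).map u = 0 :=
    eq_zero_of_iso_comp (C := X.Modules) (show N ≅ (tL N).obj (Coh.structureModule X) from (rightUnit N).symm)
      (show (tL N).obj (CohB1.tensorMod J G) ≅ G from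
        (assoc N J G).symm ≪≫ mapR (comm N J ≪≫ e) G ≪≫ Groth.Agent.CMMul.unitorL G)
      ((tL N).map u) (hall _)
  apply (tL N).map_injective
  rw [h2, Functor.map_zero]

/-- **a semistable module of rank `r` and degree `≤ 0` on a regular integral proper curve with a
rational point has `h⁰ ≤ r`** -/
theorem h0_le_rank_of_ss (hdim : topologicalKrullDim X = 1)
    (hreg : ∀ x : X, IsRegularLocalRing (X.presheaf.stalk x))
    (O : Spec (CommRingCat.of k) ⟶ X) (hO : O ≫ (X ↘ Spec (CommRingCat.of k)) = 𝟙 _)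
    {G : X.Modules} {r : ℕ} (hr : 0 < r) (hG : FlatMod.IsFinLocFreeOfRank r G)
    (hdeg : Curv2.deg k X G r ≤ 0) (hGss : ModFun.IsSlopeSemistable k X G r) :
    Module.finrank k (Coh.HH X G 0) ≤ r := by
  haveI : IsLocallyNoetherian X :=
    LocallyOfFiniteType.isLocallyNoetherian (X ↘ Spec (CommRingCat.of k))
  obtain ⟨I, N, hIinv, hN, ⟨e⟩, hpt, -, hd, hdegN⟩ := exists_point_divisor k X hdim hreg O hO
  have hGf : FlatMod.IsFinLocFree G := TensBasis.isFinLocFree_of_rank hG
  have hT := TensBasis.shortExact_tR hGf (Groth.Agent.HypSurf.ses I)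
    (Groth.Agent.HypSurf.ses_shortExact I)
  have hIc := CurveIdeal.isCoh_idealMod I
  have hQc := CurveIdeal.isCoh_quotMod I
  have hOc := CohDevH8.isCoh_structureModule X
  have c1 : Coh.IsCoh (CohB1.tensorMod (ClSub.idealMod I) G) :=
    TensBasis.isCoh_tensorMod_finLocFree hIc hGf
  have c2 : Coh.IsCoh (CohB1.tensorMod (Coh.structureModule X) G) :=
    TensBasis.isCoh_tensorMod_finLocFree hOc hGf
  have c3 : Coh.IsCoh (CohB1.tensorMod (ClSub.quotMod I) G) :=
    TensBasis.isCoh_tensorMod_finLocFree hQc hGf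
  have hle := finrank_HH0_le_add k X _ hT c1 c2 c3
  have h2 : Module.finrank k (Coh.HH X (CohB1.tensorMod (Coh.structureModule X) G) 0) =
      Module.finrank k (Coh.HH X G 0) := finrank_HH_of_iso k X (Groth.Agent.CMMul.unitorL G) 0
  have h3 : Module.finrank k (Coh.HH X (CohB1.tensorMod (ClSub.quotMod I) G) 0) = r * 1 := by
    rw [finrank_HH0_tensor_rank k X _ G hQc hG
      (fun x hx => hpt x (CurveIdeal.support_quotMod_subset I (Iso.refl _) hx)), hd]
  have h1 : Module.finrank k (Coh.HH X (CohB1.tensorMod (ClSub.idealMod I) G) 0) = 0 := by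
    rw [← (CurveIdeal.thetaEquiv k _).finrank_eq]
    haveI : Subsingleton (Coh.structureModule X ⟶ CohB1.tensorMod (ClSub.idealMod I) G) :=
      ⟨fun u u' => by
        rw [HH0_twist_eq_zero k X hdim hreg hr hN e (by rw [hdegN]; norm_num) hG hdeg hGss u,
          HH0_twist_eq_zero k X hdim hreg hr hN e (by rw [hdegN]; norm_num) hG hdeg hGss u']⟩
    exact Module.finrank_zero_of_subsingleton
  have hle' : Module.finrank k (Coh.HH X (CohB1.tensorMod (Coh.structureModule X) G) 0) ≤
      Module.finrank k (Coh.HH X (CohB1.tensorMod (ClSub.idealMod I) G) 0) +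
      Module.finrank k (Coh.HH X (CohB1.tensorMod (ClSub.quotMod I) G) 0) := hle
  rw [h1, h2, h3] at hle'
  omega

end Main

end CurvePtInv
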