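import Mathlib

/-!
# Hopf's lemma on 1-generic bilinear maps (helper3)

Over an algebraically closed field `k`, a bilinear map `φ : U × V → W` of finite-dimensional spaces
with `φ u v ≠ 0` for `u, v ≠ 0` satisfies `dim U + dim V ≤ dim W + 1`.

The proof applies Krull's height theorem in the coordinate ring `A = k[uᵢ vⱼ]` of the affine cone
over the Segre variety: fewer than `m + n - 1` linear forms have a common zero on the cone other than
the vertex.
-/

set_option autoImplicit false
set_option linter.unusedSectionVars false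

noncomputable section

open MvPolynomial

universe u

namespace Groth.Agent.Lib.HopfLemma_helper3

section Ring

variable (k : Type u) [Field k] (m n : ℕ)

/-- the index type of the variables. -/
abbrev Var := Fin m ⊕ Fin n

/-- the generators `uᵢ vⱼ`. -/
def gen (i : Fin m) (j : Fin n) : MvPolynomial (Var m n) k := X (Sum.inl i) * X (Sum.inr j)

/-- the set of generators. -/
def genSet : Set (MvPolynomial (Var m n) k) := Set.range (fun p : Fin m × Fin n => gen k m n p.1 p.2)

/-- the Segre cone ring. -/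
abbrev SA : Subalgebra k (MvPolynomial (Var m n) k) := Algebra.adjoin k (genSet k m n)

/-- the generators as elements of `A`. -/
def gA (i : Fin m) (j : Fin n) : SA k m n :=
  ⟨gen k m n i j, Algebra.subset_adjoin ⟨(i, j), rfl⟩⟩

lemma genSet_finite : (genSet k m n).Finite := Set.finite_range _

instance : Algebra.FiniteType k (SA k m n) := by
  rw [← Subalgebra.fg_iff_finiteType]
  have := Subalgebra.fg_adjoin_finset (R := k) (genSet_finite k m n).toFinset
  rwa [Set.Finite.coe_toFinset] at this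

instance : IsNoetherianRing (SA k m n) := Algebra.FiniteType.isNoetherianRing k _

instance : IsJacobsonRing (SA k m n) := isJacobsonRing_of_finiteType (A := k)

/-- substitute `0` for the variables in `s`. -/
def sub (s : Set (Var m n)) [DecidablePred (· ∈ s)] :
    MvPolynomial (Var m n) k →ₐ[k] MvPolynomial (Var m n) k :=
  aeval (fun x => if x ∈ s then 0 else X x)

lemma sub_X (s : Set (Var m n)) [DecidablePred (· ∈ s)] (x : Var m n) :
    sub k m n s (X x) = if x ∈ s then 0 else X x := by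
  unfold sub; rw [aeval_X]

lemma sub_comp (s s' : Set (Var m n)) [DecidablePred (· ∈ s)] [DecidablePred (· ∈ s')]
    (h : s ⊆ s') : (sub k m n s').comp (sub k m n s) = sub k m n s' := by
  apply MvPolynomial.algHom_ext
  intro x
  rw [AlgHom.comp_apply, sub_X, sub_X]
  split_ifs with h1 h2 h2
  · rw [map_zero]
  · exact absurd (h h1) h2
  · rw [sub_X, if_pos h2]
  · rw [sub_X, if_neg h2]

/-- the prime `P_s` of `A`. -/
def PP (s : Set (Var m n)) [DecidablePred (· ∈ s)] : Ideal (SA k m n) :=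
  RingHom.ker ((sub k m n s).comp (SA k m n).val : SA k m n →ₐ[k] MvPolynomial (Var m n) k)

instance (s : Set (Var m n)) [DecidablePred (· ∈ s)] : (PP k m n s).IsPrime :=
  RingHom.ker_isPrime _

lemma mem_PP (s : Set (Var m n)) [DecidablePred (· ∈ s)] (a : SA k m n) :
    a ∈ PP k m n s ↔ sub k m n s (a : MvPolynomial (Var m n) k) = 0 := by
  unfold PP
  rw [RingHom.mem_ker]
  rfl

lemma PP_mono (s s' : Set (Var m n)) [DecidablePred (· ∈ s)] [DecidablePred (· ∈ s')]
    (h : s ⊆ s') : PP k m n s ≤ PP k m n s' := by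
  intro a ha
  rw [mem_PP] at ha ⊢
  rw [← sub_comp k m n s s' h, AlgHom.comp_apply, ha, map_zero]

lemma gA_mem_PP (s : Set (Var m n)) [DecidablePred (· ∈ s)] (i : Fin m) (j : Fin n) :
    gA k m n i j ∈ PP k m n s ↔ Sum.inl i ∈ s ∨ Sum.inr j ∈ s := by
  rw [mem_PP]
  show sub k m n s (X (Sum.inl i) * X (Sum.inr j)) = 0 ↔ _
  rw [map_mul, sub_X, sub_X]
  constructor
  · intro h
    by_contra hcon
    push_neg at hcon
    rw [if_neg hcon.1, if_neg hcon.2] at h
    exact mul_ne_zero (X_ne_zero _) (X_ne_zero _) h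
  · rintro (h | h)
    · rw [if_pos h, zero_mul]
    · rw [if_pos h, mul_zero]

/-- evaluation at the vertex. -/
def ev0 : SA k m n →ₐ[k] k :=
  (aeval (fun _ => (0 : k)) : MvPolynomial (Var m n) k →ₐ[k] k).comp (SA k m n).val

/-- the vertex ideal. -/
def M0 : Ideal (SA k m n) := RingHom.ker (ev0 k m n)

lemma ev0_surjective : Function.Surjective (ev0 k m n) := by
  intro c
  exact ⟨algebraMap k _ c, by rw [AlgHom.commutes]; rfl⟩

instance : (M0 k m n).IsMaximal := RingHom.ker_isMaximal_of_surjective _ (ev0_surjective k m n)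

lemma ev0_gA (i : Fin m) (j : Fin n) : ev0 k m n (gA k m n i j) = 0 := by
  show aeval (fun _ => (0 : k)) (X (Sum.inl i) * X (Sum.inr j)) = 0
  rw [map_mul, aeval_X, zero_mul]

lemma PP_le_M0 (s : Set (Var m n)) [DecidablePred (· ∈ s)] : PP k m n s ≤ M0 k m n := by
  intro a ha
  rw [mem_PP] at ha
  show ev0 k m n a = 0
  have h1 : (aeval (fun _ => (0 : k)) : MvPolynomial (Var m n) k →ₐ[k] k).comp (sub k m n s) =
      aeval (fun _ => (0 : k)) := by
    apply MvPolynomial.algHom_ext
    intro x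
    rw [AlgHom.comp_apply, sub_X]
    split_ifs
    · rw [map_zero, aeval_X]
    · rfl
  show aeval (fun _ => (0 : k)) (a : MvPolynomial (Var m n) k) = 0
  rw [← h1, AlgHom.comp_apply, ha, map_zero]

end Ring


section Chain

open scoped Classical

variable (k : Type u) [Field k] (m n : ℕ)

/-- the chain of variable sets. -/
def cs (t : ℕ) : Set (Var m n) :=
  {x | Sum.elim (fun i : Fin m => i.val < t ∧ i.val + 1 < m) (fun j : Fin n => j.val + (m - 1) < t) x}

lemma inl_mem_cs (t : ℕ) (i : Fin m) : (Sum.inl i : Var m n) ∈ cs m n t ↔ i.val < t ∧ i.val + 1 < m :=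
  Iff.rfl

lemma inr_mem_cs (t : ℕ) (j : Fin n) : (Sum.inr j : Var m n) ∈ cs m n t ↔ j.val + (m - 1) < t :=
  Iff.rfl

lemma cs_mono (t : ℕ) : cs m n t ⊆ cs m n (t + 1) := by
  rintro (i | j) h
  · rw [inl_mem_cs] at h ⊢
    exact ⟨by omega, h.2⟩
  · rw [inr_mem_cs] at h ⊢
    omega

lemma PP_cs_lt (hm : 0 < m) (hn : 0 < n) (t : ℕ) (ht : t + 1 ≤ m + n - 1) :
    PP k m n (cs m n t) < PP k m n (cs m n (t + 1)) := by
  rw [SetLike.lt_iff_le_and_exists]
  refine ⟨PP_mono k m n _ _ (cs_mono m n t), ?_⟩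
  by_cases h : t + 1 < m
  · refine ⟨gA k m n ⟨t, by omega⟩ ⟨0, hn⟩, ?_, ?_⟩
    · rw [gA_mem_PP]
      left
      rw [inl_mem_cs]
      exact ⟨Nat.lt_succ_self t, h⟩
    · rw [gA_mem_PP, inl_mem_cs, inr_mem_cs]
      show ¬ ((t < t ∧ t + 1 < m) ∨ 0 + (m - 1) < t)
      omega
  · refine ⟨gA k m n ⟨m - 1, by omega⟩ ⟨t - (m - 1), by omega⟩, ?_, ?_⟩
    · rw [gA_mem_PP]
      right
      rw [inr_mem_cs]
      show t - (m - 1) + (m - 1) < t + 1
      omega
    · rw [gA_mem_PP, inl_mem_cs, inr_mem_cs]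
      show ¬ ((m - 1 < t ∧ m - 1 + 1 < m) ∨ t - (m - 1) + (m - 1) < t)
      omega

lemma height_chain (hm : 0 < m) (hn : 0 < n) (t : ℕ) (ht : t ≤ m + n - 1) :
    (t : ℕ∞) ≤ (PP k m n (cs m n t)).height := by
  induction t with
  | zero => rw [Nat.cast_zero]; exact zero_le
  | succ t ih =>
    have h1 := ih (by omega)
    have h2 : (PP k m n (cs m n t)).height < (PP k m n (cs m n (t + 1))).height :=
      Ideal.height_strict_mono_of_isPrime (PP_cs_lt k m n hm hn t ht)
    rw [Nat.cast_succ]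
    exact Order.add_one_le_of_lt (lt_of_le_of_lt h1 h2)

lemma height_M0 (hm : 0 < m) (hn : 0 < n) :
    ((m + n - 1 : ℕ) : ℕ∞) ≤ (M0 k m n).height :=
  le_trans (height_chain k m n hm hn (m + n - 1) le_rfl) (Ideal.height_mono (PP_le_M0 k m n _))

end Chain

section Main

variable (k : Type u) [Field k] [IsAlgClosed k] (m n : ℕ)

lemma gA_mul_comm (i i' : Fin m) (j j' : Fin n) :
    gA k m n i j * gA k m n i' j' = gA k m n i j' * gA k m n i' j := by
  apply Subtype.ext
  show X (Sum.inl i) * X (Sum.inr j) * (X (Sum.inl i') * X (Sum.inr j')) =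
    X (Sum.inl i) * X (Sum.inr j') * (X (Sum.inl i') * X (Sum.inr j))
  ring

/-- a maximal ideal of the Segre cone ring gives a `k`-point. -/
lemma exists_point (𝔪 : Ideal (SA k m n)) [h𝔪 : 𝔪.IsMaximal] :
    ∃ χ : SA k m n →ₐ[k] k, RingHom.ker χ = 𝔪 := by
  letI := Ideal.Quotient.field 𝔪
  haveI : Algebra.FiniteType k (SA k m n ⧸ 𝔪) :=
    Algebra.FiniteType.of_surjective (Ideal.Quotient.mkₐ k 𝔪) (Ideal.Quotient.mkₐ_surjective k 𝔪)
  haveI := finite_of_finite_type_of_isJacobsonRing k (SA k m n ⧸ 𝔪)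
  have hbij : Function.Bijective (algebraMap k (SA k m n ⧸ 𝔪)) :=
    IsAlgClosed.algebraMap_bijective_of_isIntegral
  let e : k ≃ₐ[k] (SA k m n ⧸ 𝔪) := AlgEquiv.ofBijective (Algebra.ofId k _) hbij
  refine ⟨(e.symm : (SA k m n ⧸ 𝔪) →ₐ[k] k).comp (Ideal.Quotient.mkₐ k 𝔪), ?_⟩
  ext a
  rw [RingHom.mem_ker]
  show e.symm (Ideal.Quotient.mk 𝔪 a) = 0 ↔ _
  rw [EmbeddingLike.map_eq_zero_iff, Ideal.Quotient.eq_zero_iff_mem]

theorem exists_rank_one_zero (hm : 0 < m) (hn : 0 < n) (N : ℕ) (hN : N + 2 ≤ m + n)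
    (c : Fin N → Fin m → Fin n → k) :
    ∃ (a : Fin m → k) (b : Fin n → k), a ≠ 0 ∧ b ≠ 0 ∧
      ∀ t, ∑ i, ∑ j, c t i j * (a i * b j) = 0 := by
  classical
  let ℓ : Fin N → SA k m n := fun t => ∑ i, ∑ j, c t i j • gA k m n i j
  have hℓ : ∀ t, ℓ t ∈ M0 k m n := by
    intro t
    show ev0 k m n (ℓ t) = 0
    simp only [ℓ, map_sum, map_smul, ev0_gA, smul_zero, Finset.sum_const_zero]
  let S : Finset (SA k m n) := Finset.univ.image ℓ
  have hS : Ideal.span (S : Set (SA k m n)) ≤ M0 k m n := by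
    rw [Ideal.span_le]
    intro x hx
    rw [Finset.mem_coe, Finset.mem_image] at hx
    obtain ⟨t, -, rfl⟩ := hx
    exact hℓ t
  obtain ⟨P, hP, hPM⟩ := Ideal.exists_minimalPrimes_le hS
  haveI hPprime : P.IsPrime := hP.1.1
  have hht : P.height ≤ S.card := Ideal.height_le_card_of_mem_minimalPrimes_span_finset hP
  have hcard : S.card ≤ N := by
    calc S.card ≤ (Finset.univ : Finset (Fin N)).card := Finset.card_image_le
      _ = N := by rw [Finset.card_univ, Fintype.card_fin]
  have hM0 := height_M0 k m n hm hn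
  have hne : P ≠ M0 k m n := by
    intro h
    rw [h] at hht
    have h1 : ((m + n - 1 : ℕ) : ℕ∞) ≤ (N : ℕ∞) :=
      hM0.trans (hht.trans (by exact_mod_cast hcard))
    have h2 : m + n - 1 ≤ N := by exact_mod_cast h1
    omega
  -- a maximal ideal over `P` other than the vertex
  have hjac : P.jacobson = P := IsJacobsonRing.out inferInstance hPprime.isRadical
  obtain ⟨𝔪, hP𝔪, h𝔪max, h𝔪ne⟩ : ∃ 𝔪 : Ideal (SA k m n), P ≤ 𝔪 ∧ 𝔪.IsMaximal ∧ 𝔪 ≠ M0 k m n := by
    by_contra hcon
    push_neg at hcon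
    apply hne
    refine le_antisymm hPM ?_
    intro x hx
    rw [← hjac, Ideal.jacobson, Ideal.mem_sInf]
    rintro J ⟨hJ1, hJ2⟩
    rw [hcon J hJ1 hJ2]
    exact hx
  obtain ⟨χ, hχ⟩ := exists_point k m n 𝔪
  let x : Fin m → Fin n → k := fun i j => χ (gA k m n i j)
  have hrel : ∀ i i' j j', x i j * x i' j' = x i j' * x i' j := by
    intro i i' j j'
    show χ _ * χ _ = χ _ * χ _
    rw [← map_mul, ← map_mul, gA_mul_comm]
  have hzero : ∀ t, ∑ i, ∑ j, c t i j * x i j = 0 := by
    intro t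
    have h1 : ℓ t ∈ 𝔪 := by
      apply hP𝔪
      apply hP.1.2
      apply Ideal.subset_span
      rw [Finset.mem_coe, Finset.mem_image]
      exact ⟨t, Finset.mem_univ _, rfl⟩
    rw [← hχ, RingHom.mem_ker] at h1
    simpa only [ℓ, map_sum, map_smul, smul_eq_mul] using h1
  obtain ⟨i₀, j₀, h00⟩ : ∃ i₀ j₀, x i₀ j₀ ≠ 0 := by
    by_contra hcon
    push_neg at hcon
    apply h𝔪ne
    have : χ = ev0 k m n := by
      apply AlgHom.adjoin_ext
      rintro y ⟨⟨i, j⟩, rfl⟩
      show χ (gA k m n i j) = ev0 k m n (gA k m n i j)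
      rw [ev0_gA]
      exact hcon i j
    rw [← hχ, this]
    rfl
  refine ⟨fun i => x i j₀, fun j => x i₀ j / x i₀ j₀, ?_, ?_, ?_⟩
  · intro h
    exact h00 (congrFun h i₀)
  · intro h
    have := congrFun h j₀
    simp only [Pi.zero_apply] at this
    rw [div_self h00] at this
    exact one_ne_zero this
  · intro t
    have : ∀ i j, c t i j * (x i j₀ * (x i₀ j / x i₀ j₀)) = c t i j * x i j := by
      intro i j
      have h1 : x i j₀ * x i₀ j = x i j * x i₀ j₀ := by
        rw [hrel i i₀ j₀ j]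
      rw [mul_div_assoc', h1, mul_div_assoc, div_self h00, mul_one]
    simp only [this]
    exact hzero t

end Main

section Hopf

universe v w x

/-- **Hopf's lemma.** -/
theorem hopf (k : Type u) [Field k] [IsAlgClosed k]
    (U : Type v) (V : Type w) (W : Type x) [AddCommGroup U] [Module k U] [AddCommGroup V]
    [Module k V] [AddCommGroup W] [Module k W]
    [Module.Finite k U] [Module.Finite k V] [Module.Finite k W] [Nontrivial U] [Nontrivial V]
    (φ : U →ₗ[k] V →ₗ[k] W) (hφ : ∀ (a : U) (b : V), a ≠ 0 → b ≠ 0 → φ a b ≠ 0) :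
    Module.finrank k U + Module.finrank k V ≤ Module.finrank k W + 1 := by
  by_contra hcon
  push_neg at hcon
  have hm : 0 < Module.finrank k U := Module.finrank_pos
  have hn : 0 < Module.finrank k V := Module.finrank_pos
  let e := Module.finBasis k U
  let f := Module.finBasis k V
  let w := Module.finBasis k W
  obtain ⟨a, b, ha, hb, hab⟩ := exists_rank_one_zero k _ _ hm hn (Module.finrank k W) (by omega)
    (fun t i j => w.repr (φ (e i) (f j)) t)
  let u : U := ∑ i, a i • e i
  let v : V := ∑ j, b j • f j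
  have hu : u ≠ 0 := by
    intro h
    apply ha
    funext i
    have : e.repr u i = a i := by
      show e.repr (∑ i, a i • e i) i = a i
      rw [Module.Basis.repr_sum_self]
    rw [← this, h, map_zero]
    rfl
  have hv : v ≠ 0 := by
    intro h
    apply hb
    funext j
    have : f.repr v j = b j := by
      show f.repr (∑ j, b j • f j) j = b j
      rw [Module.Basis.repr_sum_self]
    rw [← this, h, map_zero]
    rfl
  apply hφ u v hu hv
  apply w.repr.injective
  rw [map_zero]
  ext t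
  have h1 : φ u v = ∑ i, ∑ j, (a i * b j) • φ (e i) (f j) := by
    show φ (∑ i, a i • e i) (∑ j, b j • f j) = _
    rw [map_sum φ, LinearMap.sum_apply]
    refine Finset.sum_congr rfl fun i _ => ?_
    rw [map_smul φ, LinearMap.smul_apply, map_sum, Finset.smul_sum]
    refine Finset.sum_congr rfl fun j _ => ?_
    rw [map_smul, smul_smul]
  rw [h1, map_sum, Finsupp.finset_sum_apply]
  rw [Finsupp.zero_apply, ← hab t]
  refine Finset.sum_congr rfl fun i _ => ?_
  rw [map_sum, Finsupp.finset_sum_apply]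
  refine Finset.sum_congr rfl fun j _ => ?_
  rw [map_smul, Finsupp.smul_apply, smul_eq_mul, mul_comm]

end Hopf

end Groth.Agent.Lib.HopfLemma_helper3
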