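import Mathlib
import Groth.Prelude
import Groth.Agent.Lib.CurveGG1_helper9
import Groth.Agent.Lib.HopfLemma_helper3
import Groth.Agent.Lib.CurveSpec1_helper9

/-!
# Hopf's lemma on an integral proper curve: `h⁰(L) + h⁰(L') ≤ h⁰(L ⊗ L') + 1` and a
duality-free form of Clifford's inequality `h⁰(L) + h¹(L) ≤ g + 1` (helper9).
APPEND-ONLY once landed.
-/

set_option autoImplicit false
universe u
open CategoryTheory CategoryTheory.Limits AlgebraicGeometry Opposite TopologicalSpace

namespace CurveCliff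

open QcqsLoc QCohExtn GenLocH8 TensH8 FLFH8 CohB1 Groth.Agent.HHVan CurveAmple

section Mono

variable {X : Scheme.{u}}

/-- multiplication by a nonzero section of an invertible module has no zero divisors -/
theorem comp_mulSec_eq_zero [IsIntegral X] {L L' : X.Modules} (hL : PicF.IsInvertible L)
    (hL' : PicF.IsInvertible L') (s : Coh.structureModule X ⟶ L)
    (s' : Coh.structureModule X ⟶ L') (hs' : s' ≠ 0) (h : s ≫ mulSec L L' s' = 0) : s = 0 := by
  obtain ⟨V, -, hVne, hbij⟩ := exists_open_bijective hL' s' hs' L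
  refine CurveDeg.hom_eq_zero_of_ap_gen isInvertible_structureModule hL s hVne (isGen_one V) ?_
  apply (hbij V le_rfl).1
  have h1 : ap (mulSec L L' s') V (ap s V (toM (1 : Γ(X, V)))) =
      ap (s ≫ mulSec L L' s') V (toM (1 : Γ(X, V))) := rfl
  rw [h1, h, map_zero]
  rfl

end Mono

section Curve

variable (k : Type u) [Field k] [IsAlgClosed k] (X : Scheme.{u}) [X.Over (Spec (CommRingCat.of k))]
  [IsIntegral X] [IsProper (X ↘ Spec (CommRingCat.of k))]

/-- **`h⁰(L) + h⁰(L') ≤ h⁰(L ⊗ L') + 1`** for invertible modules with nonzero sections on an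
integral proper scheme over an algebraically closed field (statement of S11352) -/
theorem finrank_HH0_add_le {L L' : X.Modules} (hL : PicF.IsInvertible L)
    (hL' : PicF.IsInvertible L') (hs : Nontrivial (Coh.HH X L 0))
    (hs' : Nontrivial (Coh.HH X L' 0)) :
    Module.finrank k (Coh.HH X L 0) + Module.finrank k (Coh.HH X L' 0) ≤
      Module.finrank k (Coh.HH X (CohB1.tensorMod L L') 0) + 1 := by
  haveI : IsLocallyNoetherian X :=
    LocallyOfFiniteType.isLocallyNoetherian (X ↘ Spec (CommRingCat.of k))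
  have hLc := ProperFinH9.isCoh_of_isInvertible hL
  have hLc' := ProperFinH9.isCoh_of_isInvertible hL'
  have hTc := isCoh_tensorMod X hLc hL'
  haveI := ProperFinH9.finite_HH_of_proper k X _ hLc 0
  haveI := ProperFinH9.finite_HH_of_proper k X _ hLc' 0
  haveI := ProperFinH9.finite_HH_of_proper k X _ hTc 0
  haveI : Module.Finite k (Coh.structureModule X ⟶ L) :=
    Module.Finite.equiv (CurveIdeal.thetaEquiv k L).symm
  haveI : Module.Finite k (Coh.structureModule X ⟶ L') :=
    Module.Finite.equiv (CurveIdeal.thetaEquiv k L').symm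
  haveI : Module.Finite k (Coh.structureModule X ⟶ CohB1.tensorMod L L') :=
    Module.Finite.equiv (CurveIdeal.thetaEquiv k _).symm
  haveI : Nontrivial (Coh.structureModule X ⟶ L) :=
    (CurveIdeal.thetaEquiv k L).toEquiv.nontrivial
  haveI : Nontrivial (Coh.structureModule X ⟶ L') :=
    (CurveIdeal.thetaEquiv k L').toEquiv.nontrivial
  let φ : (Coh.structureModule X ⟶ L) →ₗ[k] (Coh.structureModule X ⟶ L') →ₗ[k]
      (Coh.structureModule X ⟶ CohB1.tensorMod L L') :=
    LinearMap.mk₂ k (fun s s' => s ≫ mulSec L L' s')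
      (fun s₁ s₂ s' => Preadditive.add_comp _ _ _ s₁ s₂ (mulSec L L' s'))
      (fun c s s' => Linear.smul_comp _ _ _ c s (mulSec L L' s'))
      (fun s s₁' s₂' => by rw [mulSec_add, Preadditive.comp_add])
      (fun c s s' => by rw [mulSec_smul, Linear.comp_smul])
  have hφ : ∀ s s', φ s s' = s ≫ mulSec L L' s' := fun s s' => rfl
  have h := Groth.Agent.Lib.HopfLemma_helper3.hopf k _ _ _ φ (fun s s' hs0 hs0' h0 =>
    hs0 (comp_mulSec_eq_zero hL hL' s s' hs0' ((hφ s s').symm.trans h0)))
  rw [(CurveIdeal.thetaEquiv k L).finrank_eq, (CurveIdeal.thetaEquiv k L').finrank_eq,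
    (CurveIdeal.thetaEquiv k _).finrank_eq] at h
  exact h

/-- **duality-free Clifford**: `h⁰(L) + h¹(L) ≤ g + 1` for an invertible module with
`H⁰(L) ≠ 0 ≠ H¹(L)` on an integral proper curve over an algebraically closed field -/
theorem finrank_HH0_add_HH1_le (hdim : topologicalKrullDim X ≤ 1) {L : X.Modules}
    (hL : PicF.IsInvertible L) (hs : Nontrivial (Coh.HH X L 0))
    (hs1 : Nontrivial (Coh.HH X L 1)) :
    Module.finrank k (Coh.HH X L 0) + Module.finrank k (Coh.HH X L 1) ≤
      Curv2.genus k X + 1 := by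
  haveI : IsLocallyNoetherian X :=
    LocallyOfFiniteType.isLocallyNoetherian (X ↘ Spec (CommRingCat.of k))
  have hOc := CohDevH8.isCoh_structureModule X
  have hLc := ProperFinH9.isCoh_of_isInvertible hL
  haveI := ProperFinH9.finite_HH_of_proper k X _ hLc 0
  haveI := ProperFinH9.finite_HH_of_proper k X _ hLc 1
  haveI := ProperFinH9.finite_HH_of_proper k X _ hOc 1
  haveI : Module.Finite k (Coh.structureModule X ⟶ L) :=
    Module.Finite.equiv (CurveIdeal.thetaEquiv k L).symm
  haveI : Nontrivial (Coh.structureModule X ⟶ L) :=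
    (CurveIdeal.thetaEquiv k L).toEquiv.nontrivial
  haveI : Nontrivial (Module.Dual k (Coh.HH X L 1)) := by
    apply Module.nontrivial_of_finrank_pos (R := k)
    rw [Subspace.dual_finrank_eq]
    exact Module.finrank_pos
  let Ψ₀ : (Coh.structureModule X ⟶ L) →ₗ[k]
      (Coh.HH X (Coh.structureModule X) 1 →ₗ[k] Coh.HH X L 1) :=
    { toFun := fun s => Canon.HHlin k s 1
      map_add' := fun s s' => HHlin_add k s s' 1
      map_smul' := fun c s => HHlin_smul k c s 1 }
  let φ : (Coh.structureModule X ⟶ L) →ₗ[k] Module.Dual k (Coh.HH X L 1) →ₗ[k]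
      Module.Dual k (Coh.HH X (Coh.structureModule X) 1) :=
    (LinearMap.llcomp k (Coh.HH X (Coh.structureModule X) 1) (Coh.HH X L 1) k).flip ∘ₗ Ψ₀
  have hφ : ∀ s lam, φ s lam = lam ∘ₗ Canon.HHlin k s 1 := fun s lam => rfl
  haveI : Mono (𝟙 L) := inferInstance
  have h := Groth.Agent.Lib.HopfLemma_helper3.hopf k _ _ _ φ (fun s lam hs0 hlam h0 => by
    apply hlam
    ext v
    obtain ⟨w, hw⟩ := CurveGG.HH1_section_surjective k X hdim hLc hL (𝟙 L) s hs0 v
    rw [← hw]
    have h1 := congrArg (fun ψ : Module.Dual k (Coh.HH X (Coh.structureModule X) 1) => ψ w) h0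
    rw [hφ] at h1
    exact h1)
  rw [(CurveIdeal.thetaEquiv k L).finrank_eq, Subspace.dual_finrank_eq,
    Subspace.dual_finrank_eq] at h
  exact h

/-- **Clifford's inequality** in the form `2 h⁰(L) ≤ deg L + 2` for `H⁰(L) ≠ 0 ≠ H¹(L)` -/
theorem two_mul_finrank_HH0_le (hdim : topologicalKrullDim X = 1) {L : X.Modules}
    (hL : PicF.IsInvertible L) (hs : Nontrivial (Coh.HH X L 0))
    (hs1 : Nontrivial (Coh.HH X L 1)) :
    2 * (Module.finrank k (Coh.HH X L 0) : ℤ) ≤ Curv2.deg k X L 1 + 2 := by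
  haveI : IsLocallyNoetherian X :=
    LocallyOfFiniteType.isLocallyNoetherian (X ↘ Spec (CommRingCat.of k))
  have hOc := CohDevH8.isCoh_structureModule X
  have hLc := ProperFinH9.isCoh_of_isInvertible hL
  haveI := hOc.1
  haveI := hLc.1
  have h1 := finrank_HH0_add_HH1_le k X hdim.le hL hs hs1
  have e2 := CurveRR.euler_eq_sub k X hdim.le L
  have e3 := CurveRR.euler_eq_sub k X hdim.le (Coh.structureModule X)
  have e4 := CurveSpec.finrank_HH0_structureModule k X hdim
  have hg : Curv2.genus k X = Module.finrank k (Coh.HH X (Coh.structureModule X) 1) := rfl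
  unfold Curv2.deg
  rw [hg] at h1
  rw [e4] at e3
  push_cast at e3 ⊢
  omega

/-- numerical core of the slope inequalities -/
theorem slope_aux (hdim : topologicalKrullDim X = 1) {M : X.Modules} (hM : PicF.IsInvertible M)
    (m : ℕ) (hm : 1 ≤ m) (hsec : m + 1 ≤ Module.finrank k (Coh.HH X M 0)) :
    ((m : ℤ) ≤ Curv2.deg k X M 1 - Curv2.genus k X) ∨ (2 * (m : ℤ) ≤ Curv2.deg k X M 1) := by
  haveI : IsLocallyNoetherian X :=
    LocallyOfFiniteType.isLocallyNoetherian (X ↘ Spec (CommRingCat.of k))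
  have hOc := CohDevH8.isCoh_structureModule X
  have hMc := ProperFinH9.isCoh_of_isInvertible hM
  haveI := hOc.1
  haveI := hMc.1
  haveI := ProperFinH9.finite_HH_of_proper k X _ hMc 0
  have e2 := CurveRR.euler_eq_sub k X hdim.le M
  have e3 := CurveRR.euler_eq_sub k X hdim.le (Coh.structureModule X)
  have e4 := CurveSpec.finrank_HH0_structureModule k X hdim
  have hg : Curv2.genus k X = Module.finrank k (Coh.HH X (Coh.structureModule X) 1) := rfl
  have hs : Nontrivial (Coh.HH X M 0) := by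
    apply Module.nontrivial_of_finrank_pos (R := k)
    omega
  by_cases h1 : Subsingleton (Coh.HH X M 1)
  · left
    have e5 : Module.finrank k (Coh.HH X M 1) = 0 := Module.finrank_zero_of_subsingleton
    unfold Curv2.deg
    rw [e5] at e2
    rw [e4] at e3
    rw [hg]
    push_cast at e2 e3 ⊢
    omega
  · right
    rw [not_subsingleton_iff_nontrivial] at h1
    have h2 := two_mul_finrank_HH0_le k X hdim hM hs h1
    omega

/-- **statement of S19205** -/
theorem slope_le (hdim : topologicalKrullDim X = 1) (d : ℤ)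
    (hd : 2 * (Curv2.genus k X : ℤ) ≤ d) {M : X.Modules} (hM : PicF.IsInvertible M) (m : ℕ)
    (hm : 1 ≤ m) (hsec : m + 1 ≤ Module.finrank k (Coh.HH X M 0))
    (hdeg : Curv2.deg k X M 1 ≤ d) :
    d * (m : ℤ) ≤ Curv2.deg k X M 1 * (d - Curv2.genus k X) := by
  have hg0 : (0 : ℤ) ≤ (Curv2.genus k X : ℤ) := Int.natCast_nonneg _
  have hm0 : (1 : ℤ) ≤ (m : ℤ) := by exact_mod_cast hm
  rcases slope_aux k X hdim hM m hm hsec with h | h
  · nlinarith [mul_nonneg (sub_nonneg.mpr hdeg) hg0,
      mul_le_mul_of_nonneg_left h (by linarith : (0 : ℤ) ≤ d)]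
  · nlinarith [mul_nonneg (by linarith : (0 : ℤ) ≤ Curv2.deg k X M 1) (sub_nonneg.mpr hd),
      mul_le_mul_of_nonneg_left h (by linarith : (0 : ℤ) ≤ d)]

/-- **statement of S19204** -/
theorem slope_lt (hdim : topologicalKrullDim X = 1) (hg : 1 ≤ Curv2.genus k X) (d : ℤ)
    (hd : 2 * (Curv2.genus k X : ℤ) < d) {M : X.Modules} (hM : PicF.IsInvertible M) (m : ℕ)
    (hm : 1 ≤ m) (hsec : m + 1 ≤ Module.finrank k (Coh.HH X M 0))
    (hdeg : Curv2.deg k X M 1 ≤ d)
    (hlt : Curv2.deg k X M 1 < d ∨ (m : ℤ) < d - Curv2.genus k X) :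
    d * (m : ℤ) < Curv2.deg k X M 1 * (d - Curv2.genus k X) := by
  have hg0 : (1 : ℤ) ≤ (Curv2.genus k X : ℤ) := by exact_mod_cast hg
  have hm0 : (1 : ℤ) ≤ (m : ℤ) := by exact_mod_cast hm
  rcases slope_aux k X hdim hM m hm hsec with h | h
  · rcases hlt with h' | h'
    · nlinarith [mul_pos (sub_pos.mpr h') (by linarith : (0 : ℤ) < (Curv2.genus k X : ℤ)),
        mul_le_mul_of_nonneg_left h (by linarith : (0 : ℤ) ≤ d)]
    · nlinarith [mul_nonneg (sub_nonneg.mpr hdeg) (by linarith : (0 : ℤ) ≤ (Curv2.genus k X : ℤ)),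
        mul_lt_mul_of_pos_left h' (by linarith : (0 : ℤ) < d)]
  · nlinarith [mul_pos (by linarith : (0 : ℤ) < Curv2.deg k X M 1) (sub_pos.mpr hd),
      mul_le_mul_of_nonneg_left h (by linarith : (0 : ℤ) ≤ d)]

end Curve

end CurveCliff
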