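import Mathlib
import Groth.Prelude
import Groth.Agent.Lib.TensBasis1_helper9
import Groth.Agent.Lib.CurveCliff1_helper9

/-!
# Tensor products of sections of finite locally free modules on an integral scheme have no zero
divisors; Hopf's lemma for vector bundles (helper9).
APPEND-ONLY once landed.
-/

set_option autoImplicit false
universe u
open CategoryTheory CategoryTheory.Limits AlgebraicGeometry Opposite TopologicalSpace

namespace TensBasis

open QcqsLoc QCohExtn GenLocH8 TensH8 FLFH8 CohB1 Groth.Agent.HHVan CurveAmple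

section Integral

variable {X : Scheme.{u}} [IsIntegral X]

/-- a section of a finite locally free module on an integral scheme vanishing on a nonempty open
is zero -/
theorem hom_eq_zero_of_ap_one_open {E : X.Modules} (hE : FlatMod.IsFinLocFree E)
    (u : Coh.structureModule X ⟶ E) {W : X.Opens} (hW : (W : Set X).Nonempty)
    (h : ap u W (toM (1 : Γ(X, W))) = 0) : u = 0 := by
  apply CurveIdeal.hom_eq_zero_of_ap_one
  apply eq_zero_of_cover
  intro y _
  obtain ⟨U, n, hyU, ⟨α⟩⟩ := hE y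
  obtain ⟨Wy, -, hyWy, -, t, ht⟩ := exists_affine_bases E hyU α
  refine ⟨Wy, le_top, hyWy, ?_⟩
  rw [CurveLin.ap_one_res u le_top]
  -- expand in the basis over `Wy`
  have hV : ((Wy ⊓ W : X.Opens) : Set X).Nonempty :=
    nonempty_preirreducible_inter Wy.isOpen W.isOpen ⟨y, hyWy⟩ hW
  haveI : Nonempty (Wy ⊓ W : X.Opens) := hV.to_subtype
  have hsum := sum_coef E t ht (le_refl Wy) (ap u Wy (toM (1 : Γ(X, Wy))))
  have h0 : rF E (inf_le_left : Wy ⊓ W ≤ Wy) (ap u Wy (toM (1 : Γ(X, Wy)))) = 0 := by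
    rw [CurveLin.ap_one_res u inf_le_left, ← CurveLin.ap_one_res u (inf_le_right : Wy ⊓ W ≤ W), h,
      map_zero]
  rw [← hsum, map_sum] at h0
  have h1 : ∑ j, rX (inf_le_left : Wy ⊓ W ≤ Wy) (coef E t ht (le_refl Wy) j
      (ap u Wy (toM (1 : Γ(X, Wy))))) • rF E (inf_le_left : Wy ⊓ W ≤ Wy) (t j) = 0 := by
    rw [← h0]
    refine Finset.sum_congr rfl (fun j _ => ?_)
    rw [rF_smul, rF_rF]
  have h2 := Fintype.linearIndependent_iff.1 (ht (Wy ⊓ W) inf_le_left).2 _ h1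
  have h3 : ∀ j, coef E t ht (le_refl Wy) j (ap u Wy (toM (1 : Γ(X, Wy)))) = 0 := by
    intro j
    apply map_injective_of_isIntegral X (homOfLE (inf_le_left : Wy ⊓ W ≤ Wy))
    rw [map_zero]
    exact h2 j
  rw [← hsum]
  refine Finset.sum_eq_zero (fun j _ => ?_)
  rw [h3 j, zero_smul]

theorem tmul_sum_right (A B : X.Modules) (O : X.Opens) (a : Γ(A, O)) {m : ℕ}
    (f : Fin m → Γ(B, O)) :
    SecTwist.tmul A B O a (∑ j, f j) =
      ∑ j, (SecTwist.tmul A B O a (f j) : Γ(CohB1.tensorMod A B, O)) := by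
  let g : Γ(B, O) →+ Γ(CohB1.tensorMod A B, O) :=
    AddMonoidHom.mk' (fun b => SecTwist.tmul A B O a b) (fun b b' => tmul_add_right A B O a b b')
  exact map_sum g f Finset.univ

/-- **no zero divisors**: the tensor product of two nonzero sections of finite locally free modules
on an integral scheme is nonzero -/
theorem comp_mulSec_eq_zero {E₁ E₂ : X.Modules} (h₁ : FlatMod.IsFinLocFree E₁)
    (h₂ : FlatMod.IsFinLocFree E₂) (s₁ : Coh.structureModule X ⟶ E₁)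
    (s₂ : Coh.structureModule X ⟶ E₂) (h : s₁ ≫ mulSec E₁ E₂ s₂ = 0) : s₁ = 0 ∨ s₂ = 0 := by
  obtain ⟨U₁, n₁, hU₁, ⟨α₁⟩⟩ := h₁ (genericPoint X)
  obtain ⟨U₂, n₂, hU₂, ⟨α₂⟩⟩ := h₂ (genericPoint X)
  obtain ⟨W₁, -, hW₁, -, t₁, ht₁⟩ := exists_affine_bases E₁ hU₁ α₁
  obtain ⟨W₂, -, hW₂, -, t₂, ht₂⟩ := exists_affine_bases E₂ hU₂ α₂
  set W : X.Opens := W₁ ⊓ W₂ with hWdef
  have hWne : (W : Set X).Nonempty := ⟨genericPoint X, hW₁, hW₂⟩
  haveI : Nonempty W := hWne.to_subtype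
  have hl₁ : W ≤ W₁ := inf_le_left
  have hl₂ : W ≤ W₂ := inf_le_right
  -- bases over `W`
  let t₁' : Fin n₁ → Γ(E₁, W) := fun j => rF E₁ hl₁ (t₁ j)
  let t₂' : Fin n₂ → Γ(E₂, W) := fun j => rF E₂ hl₂ (t₂ j)
  have ht₁' : ∀ (O : X.Opens) (hO : O ≤ W), BasisOn E₁ t₁' O hO := fun O hO =>
    BasisOn.of_rF E₁ t₁ hl₁ hO (ht₁ O (hO.trans hl₁))
  have ht₂' : ∀ (O : X.Opens) (hO : O ≤ W), BasisOn E₂ t₂' O hO := fun O hO =>
    BasisOn.of_rF E₂ t₂ hl₂ hO (ht₂ O (hO.trans hl₂))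
  set a := ap s₁ W (toM (1 : Γ(X, W))) with ha
  set b := ap s₂ W (toM (1 : Γ(X, W))) with hb
  have hab : SecTwist.tmul E₁ E₂ W a b = 0 := by
    have h1 := ap_mulSec E₁ E₂ s₂ W a
    rw [← h1]
    have h2 : ap (mulSec E₁ E₂ s₂) W a = ap (s₁ ≫ mulSec E₁ E₂ s₂) W (toM (1 : Γ(X, W))) := rfl
    rw [h2, h, ]
    rfl
  -- expand `b`
  have hbsum := sum_coef E₂ t₂' ht₂' (le_refl W) b
  have haSum := sum_coef E₁ t₁' ht₁' (le_refl W) a
  have hPhi' : Phi E₁ E₂ t₂' (le_refl W) (fun j => coef E₂ t₂' ht₂' (le_refl W) j b • a) =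
      SecTwist.tmul E₁ E₂ W a b := by
    have e1 : SecTwist.tmul E₁ E₂ W a b = SecTwist.tmul E₁ E₂ W a
        (∑ j, coef E₂ t₂' ht₂' (le_refl W) j b • rF E₂ (le_refl W) (t₂' j)) :=
      congrArg (SecTwist.tmul E₁ E₂ W a) hbsum.symm
    refine Eq.trans ?_ e1.symm
    refine Eq.trans ?_ (tmul_sum_right E₁ E₂ W a _).symm
    unfold Phi
    refine Finset.sum_congr rfl (fun j _ => ?_)
    rw [tmul_smul_left, tmul_smul_right]
  have hPhi : Phi E₁ E₂ t₂' (le_refl W) (fun j => coef E₂ t₂' ht₂' (le_refl W) j b • a) = 0 :=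
    hPhi'.trans hab
  have hPhi0 : Phi E₁ E₂ t₂' (le_refl W) (fun _ => (0 : Γ(E₁, W))) = 0 := by
    unfold Phi
    refine Finset.sum_eq_zero (fun j _ => ?_)
    exact tmul_zero_left E₁ E₂ W _
  have hc := Phi_injective E₁ E₂ t₂' ht₂' (le_refl W) (hPhi.trans hPhi0.symm)
  have hc' : ∀ j, coef E₂ t₂' ht₂' (le_refl W) j b • a = 0 := fun j => congrFun hc j
  -- coefficients of `a`
  have hprod : ∀ i j, coef E₂ t₂' ht₂' (le_refl W) j b * coef E₁ t₁' ht₁' (le_refl W) i a = 0 := by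
    intro i j
    have h1 := hc' j
    rw [← haSum, Finset.smul_sum] at h1
    have h2 : ∑ i, (coef E₂ t₂' ht₂' (le_refl W) j b * coef E₁ t₁' ht₁' (le_refl W) i a) •
        rF E₁ (le_refl W) (t₁' i) = 0 := by
      rw [← h1]
      refine Finset.sum_congr rfl (fun i _ => ?_)
      rw [mul_smul]
    exact Fintype.linearIndependent_iff.1 (ht₁' W le_rfl).2 _ h2 i
  by_cases hz : ∀ i, coef E₁ t₁' ht₁' (le_refl W) i a = 0
  · left
    apply hom_eq_zero_of_ap_one_open h₁ s₁ hWne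
    rw [← ha, ← haSum]
    refine Finset.sum_eq_zero (fun i _ => ?_)
    rw [hz i, zero_smul]
  · right
    push Not at hz
    obtain ⟨i₀, hi₀⟩ := hz
    apply hom_eq_zero_of_ap_one_open h₂ s₂ hWne
    rw [← hb, ← hbsum]
    refine Finset.sum_eq_zero (fun j _ => ?_)
    have h1 := hprod i₀ j
    rcases mul_eq_zero.mp h1 with h2 | h2
    · rw [h2, zero_smul]
    · exact absurd h2 hi₀

end Integral

section Hopf

variable (k : Type u) [Field k] [IsAlgClosed k] (X : Scheme.{u}) [X.Over (Spec (CommRingCat.of k))]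
  [IsIntegral X] [IsProper (X ↘ Spec (CommRingCat.of k))]

/-- **statement of S14518**: `h⁰(E₁) + h⁰(E₂) ≤ h⁰(E₁ ⊗ E₂) + 1` for finite locally free modules
with nonzero sections on an integral proper scheme over an algebraically closed field -/
theorem finrank_HH0_add_le {E₁ E₂ : X.Modules} (h₁ : FlatMod.IsFinLocFree E₁)
    (h₂ : FlatMod.IsFinLocFree E₂) (hs : Nontrivial (Coh.HH X E₁ 0))
    (hs' : Nontrivial (Coh.HH X E₂ 0)) :
    Module.finrank k (Coh.HH X E₁ 0) + Module.finrank k (Coh.HH X E₂ 0) ≤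
      Module.finrank k (Coh.HH X (CohB1.tensorMod E₁ E₂) 0) + 1 := by
  haveI : IsLocallyNoetherian X :=
    LocallyOfFiniteType.isLocallyNoetherian (X ↘ Spec (CommRingCat.of k))
  have hc₁ := KerFreeH8.isCoh_of_finLocFree h₁
  have hc₂ := KerFreeH8.isCoh_of_finLocFree h₂
  haveI := hc₁.1
  haveI := hc₂.1
  have hTc : Coh.IsCoh (CohB1.tensorMod E₁ E₂) :=
    ⟨TensQCH8.isQuasicoherent_tensorMod E₁ E₂, TensQCH8.isFiniteType_tensorMod E₁ E₂ hc₁.2 hc₂.2⟩
  haveI := ProperFinH9.finite_HH_of_proper k X _ hc₁ 0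
  haveI := ProperFinH9.finite_HH_of_proper k X _ hc₂ 0
  haveI := ProperFinH9.finite_HH_of_proper k X _ hTc 0
  haveI : Module.Finite k (Coh.structureModule X ⟶ E₁) :=
    Module.Finite.equiv (CurveIdeal.thetaEquiv k E₁).symm
  haveI : Module.Finite k (Coh.structureModule X ⟶ E₂) :=
    Module.Finite.equiv (CurveIdeal.thetaEquiv k E₂).symm
  haveI : Module.Finite k (Coh.structureModule X ⟶ CohB1.tensorMod E₁ E₂) :=
    Module.Finite.equiv (CurveIdeal.thetaEquiv k _).symm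
  haveI : Nontrivial (Coh.structureModule X ⟶ E₁) :=
    (CurveIdeal.thetaEquiv k E₁).toEquiv.nontrivial
  haveI : Nontrivial (Coh.structureModule X ⟶ E₂) :=
    (CurveIdeal.thetaEquiv k E₂).toEquiv.nontrivial
  let φ : (Coh.structureModule X ⟶ E₁) →ₗ[k] (Coh.structureModule X ⟶ E₂) →ₗ[k]
      (Coh.structureModule X ⟶ CohB1.tensorMod E₁ E₂) :=
    LinearMap.mk₂ k (fun s s' => s ≫ mulSec E₁ E₂ s')
      (fun s₁ s₂ s' => Preadditive.add_comp _ _ _ s₁ s₂ (mulSec E₁ E₂ s'))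
      (fun c s s' => Linear.smul_comp _ _ _ c s (mulSec E₁ E₂ s'))
      (fun s s₁' s₂' => by rw [mulSec_add, Preadditive.comp_add])
      (fun c s s' => by rw [mulSec_smul, Linear.comp_smul])
  have hφ : ∀ s s', φ s s' = s ≫ mulSec E₁ E₂ s' := fun s s' => rfl
  have h := Groth.Agent.Lib.HopfLemma_helper3.hopf k _ _ _ φ (fun s s' hs0 hs0' h0 => by
    rcases comp_mulSec_eq_zero h₁ h₂ s s' ((hφ s s').symm.trans h0) with h | h
    · exact hs0 h
    · exact hs0' h)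
  rw [(CurveIdeal.thetaEquiv k E₁).finrank_eq, (CurveIdeal.thetaEquiv k E₂).finrank_eq,
    (CurveIdeal.thetaEquiv k _).finrank_eq] at h
  exact h

end Hopf

end TensBasis
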