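import Mathlib
import Groth.Prelude
import Groth.Agent.Lib.CurvePtInv4_helper9
import Groth.Agent.Lib.CurvePt2_helper9
import Groth.Agent.Lib.TensBasis2_helper9

/-!
# Twisting down by points: non-special invertible modules of degree `g - 1` (helper9).
APPEND-ONLY once landed.
-/

set_option autoImplicit false
universe u
open CategoryTheory CategoryTheory.Limits AlgebraicGeometry Opposite TopologicalSpace

namespace CurvePtInv

open QcqsLoc QCohExtn GenLocH8 TensH8 FLFH8 CohB1 Groth.Agent.TensInv CurveAmple CurveGG CurvePt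

section GenPt

variable {X : Scheme.{u}} [IsIntegral X]

/-- a nonzero section of an invertible module on an integral Jacobson scheme generates it at some
closed point -/
theorem exists_closed_genAt [IsLocallyNoetherian X] [JacobsonSpace X] {L : X.Modules} (hL : PicF.IsInvertible L)
    (σ : Coh.structureModule X ⟶ L) (hσ : σ ≠ 0) :
    ∃ q : X, IsClosed ({q} : Set X) ∧ CurveLin.GenAt L σ q := by
  obtain ⟨W, hW, hξW, e, he⟩ := exists_isGen hL (genericPoint X)
  obtain ⟨c, hc⟩ := (he W le_rfl).1 (ap σ W (toM (1 : Γ(X, W))))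
  rw [SubExt.rF_self] at hc
  have hne : ((X.basicOpen c : X.Opens) : Set X).Nonempty := by
    by_contra hempty
    rw [Set.not_nonempty_iff_eq_empty] at hempty
    have hbot : X.basicOpen c = ⊥ := by
      apply TopologicalSpace.Opens.ext
      rw [hempty]
      rfl
    have hc0 : c = 0 := (AlgebraicGeometry.basicOpen_eq_bot_iff c).mp hbot
    apply hσ
    apply TensBasis.hom_eq_zero_of_ap_one_open
      (TensBasis.isFinLocFree_of_rank (finLocFreeOfRank_one_of_isInvertible hL)) σ
      (W := W) ⟨genericPoint X, hξW⟩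
    rw [hc, hc0, zero_smul]
  obtain ⟨q, hqc, hq⟩ := nonempty_inter_closedPoints hne (X.basicOpen c).isOpen.isLocallyClosed
  refine ⟨q, hq, ?_⟩
  exact (genAt_iff_mem_basicOpen σ he hc (X.basicOpen_le c hqc)).mpr hqc

end GenPt

section Step

variable (k : Type u) [Field k] (X : Scheme.{u}) [X.Over (Spec (CommRingCat.of k))]
  [IsIntegral X] [IsProper (X ↘ Spec (CommRingCat.of k))]

/-- twisting an invertible module `L` with `H¹(L) = 0` down by a point of degree one at which `L`
has a non-vanishing section keeps `H¹ = 0` and lowers `χ` by one -/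
theorem twist_down_step (hdim : topologicalKrullDim X = 1) (I : X.IdealSheafData)
    (hpt : ∀ y ∈ I.support, IsClosed ({y} : Set X))
    (hd : Module.finrank k (Coh.HH X (ClSub.quotMod I) 0) = 1)
    {L : X.Modules} (hL : PicF.IsInvertible L) (hH1 : Subsingleton (Coh.HH X L 1))
    (σ : Coh.structureModule X ⟶ L) {x : X} (hx : x ∈ I.support) (hgen : CurveLin.GenAt L σ x) :
    Subsingleton (Coh.HH X (CohB1.tensorMod (ClSub.idealMod I) L) 1) ∧
      Curv2.euler k X (CohB1.tensorMod (ClSub.idealMod I) L) = Curv2.euler k X L - 1 := by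
  haveI : IsLocallyNoetherian X :=
    LocallyOfFiniteType.isLocallyNoetherian (X ↘ Spec (CommRingCat.of k))
  have hZ : topologicalKrullDim (I.support : Set X) ≤ 0 :=
    CurveSpec.dim_le_zero_of_closed_points _ I.support.isClosed hpt
  have e5 := CurveIdeal.euler_eq_add k X I hZ hL
  rw [hd] at e5
  have hIc := CurveIdeal.isCoh_idealMod I
  have hFc := isCoh_tensorMod X hIc hL
  have hLc := ProperFinH9.isCoh_of_isInvertible hL
  haveI := hFc.1
  haveI := hLc.1
  haveI := mono_twistι I hL
  haveI := ProperFinH9.finite_HH_of_proper k X _ hFc 0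
  haveI := ProperFinH9.finite_HH_of_proper k X _ hFc 1
  haveI := ProperFinH9.finite_HH_of_proper k X _ hLc 0
  haveI : Module.Finite k (Coh.structureModule X ⟶ CohB1.tensorMod (ClSub.idealMod I) L) :=
    Module.Finite.equiv (CurveIdeal.thetaEquiv k _).symm
  haveI : Module.Finite k (Coh.structureModule X ⟶ L) :=
    Module.Finite.equiv (CurveIdeal.thetaEquiv k _).symm
  let a : (Coh.structureModule X ⟶ CohB1.tensorMod (ClSub.idealMod I) L) →ₗ[k]
      (Coh.structureModule X ⟶ L) := Linear.rightComp k (Coh.structureModule X) (twistι I L)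
  have hinj : Function.Injective a := fun s s' h => (cancel_mono (twistι I L)).mp h
  have hns : σ ∉ LinearMap.range a := by
    rintro ⟨s, hs⟩
    have hs' : s ≫ twistι I L = σ := hs
    refine not_genAt_of_factors' I (fun {W} hW hxW f hf hxf => ?_) hL s (by rw [hs']; exact hgen)
    have h2 := (Scheme.IdealSheafData.mem_support_iff_of_mem (U := ⟨W, hW⟩) hxW).mp hx
    rw [Scheme.mem_zeroLocus_iff] at h2
    exact h2 f hf hxf
  have hlt : Module.finrank k (Coh.structureModule X ⟶ CohB1.tensorMod (ClSub.idealMod I) L) <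
      Module.finrank k (Coh.structureModule X ⟶ L) := by
    rw [← LinearMap.finrank_range_of_inj hinj]
    apply Submodule.finrank_lt
    intro htop
    apply hns
    rw [htop]
    trivial
  rw [(CurveIdeal.thetaEquiv k _).finrank_eq, (CurveIdeal.thetaEquiv k L).finrank_eq] at hlt
  have e2 := CurveRR.euler_eq_sub k X hdim.le (CohB1.tensorMod (ClSub.idealMod I) L)
  have e3 := CurveRR.euler_eq_sub k X hdim.le L
  have e7 : Module.finrank k (Coh.HH X L 1) = 0 := Module.finrank_zero_of_subsingleton
  rw [e7] at e3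
  have h1 : Module.finrank k (Coh.HH X (CohB1.tensorMod (ClSub.idealMod I) L) 1) = 0 := by
    have hlt' : (Module.finrank k (Coh.HH X (CohB1.tensorMod (ClSub.idealMod I) L) 0) : ℤ) <
        (Module.finrank k (Coh.HH X L 0) : ℤ) := by exact_mod_cast hlt
    have : (Module.finrank k (Coh.HH X (CohB1.tensorMod (ClSub.idealMod I) L) 1) : ℤ) ≤ 0 := by
      push_cast at e3 e5
      linarith
    omega
  refine ⟨Module.finrank_zero_iff.mp h1, ?_⟩
  push_cast at e5
  linarith

end Step

section AlgClosed

variable (k : Type u) [Field k] [IsAlgClosed k] (X : Scheme.{u}) [X.Over (Spec (CommRingCat.of k))]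
  [IsIntegral X] [IsProper (X ↘ Spec (CommRingCat.of k))]

/-- over an algebraically closed field every closed point of a regular integral proper curve is the
support of an invertible ideal sheaf of degree `-1` -/
theorem exists_point_divisor_of_closed (hdim : topologicalKrullDim X = 1)
    (hreg : ∀ x : X, IsRegularLocalRing (X.presheaf.stalk x)) (q : X)
    (hq : IsClosed ({q} : Set X)) :
    ∃ (I : X.IdealSheafData) (N : X.Modules), PicF.IsInvertible (ClSub.idealMod I) ∧
      PicF.IsInvertible N ∧ Nonempty (CohB1.tensorMod (ClSub.idealMod I) N ≅ Coh.structureModule X) ∧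
      (∀ y ∈ I.support, IsClosed ({y} : Set X)) ∧ q ∈ I.support ∧
      Module.finrank k (Coh.HH X (ClSub.quotMod I) 0) = 1 ∧ Curv2.deg k X N 1 = 1 := by
  obtain ⟨I, N, h1, h2, h3, h4, h5, h6, h7⟩ := exists_point_divisor k X hdim hreg
    (pointOfClosedPoint (X ↘ Spec (CommRingCat.of k)) q hq)
    (pointOfClosedPoint_comp (X ↘ Spec (CommRingCat.of k)) q hq)
  refine ⟨I, N, h1, h2, h3, h4, ?_, h6, h7⟩
  haveI : Nonempty ↥(Spec (CommRingCat.of k)) := inferInstanceAs (Nonempty (PrimeSpectrum k))
  obtain ⟨a⟩ : Nonempty ↥(Spec (CommRingCat.of k)) := inferInstance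
  exact h5 ⟨a, pointOfClosedPoint_apply (X ↘ Spec (CommRingCat.of k)) q hq a⟩

/-- for every `j ≤ g + 1` there is an invertible module of degree `2g - j` with vanishing `H¹` -/
theorem exists_deg_vanishing (hdim : topologicalKrullDim X = 1)
    (hreg : ∀ x : X, IsRegularLocalRing (X.presheaf.stalk x)) (j : ℕ)
    (hj : j ≤ Curv2.genus k X + 1) :
    ∃ L : X.Modules, PicF.IsInvertible L ∧
      Curv2.deg k X L 1 = 2 * (Curv2.genus k X : ℤ) - (j : ℤ) ∧ Subsingleton (Coh.HH X L 1) := by
  haveI : IsLocallyNoetherian X :=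
    LocallyOfFiniteType.isLocallyNoetherian (X ↘ Spec (CommRingCat.of k))
  haveI : JacobsonSpace ↥(Spec (CommRingCat.of k)) :=
    inferInstanceAs (JacobsonSpace (PrimeSpectrum k))
  haveI : JacobsonSpace X := LocallyOfFiniteType.jacobsonSpace (X ↘ Spec (CommRingCat.of k))
  haveI : CompactSpace X :=
    QuasiCompact.compactSpace_of_compactSpace (X ↘ Spec (CommRingCat.of k))
  haveI : Nonempty X := inferInstance
  set g := Curv2.genus k X with hg
  have h00 := CurveSpec.finrank_HH0_structureModule k X hdim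
  haveI := (CohDevH8.isCoh_structureModule X).1
  have hχO : Curv2.euler k X (Coh.structureModule X) = 1 - (g : ℤ) := by
    have e3 := CurveRR.euler_eq_sub k X hdim.le (Coh.structureModule X)
    have hg' : Curv2.genus k X = Module.finrank k (Coh.HH X (Coh.structureModule X) 1) := rfl
    rw [h00, ← hg', ← hg] at e3
    push_cast at e3
    exact e3
  obtain ⟨x0⟩ : Nonempty X := inferInstance
  obtain ⟨p, -, hp⟩ := IsClosed.exists_closed_singleton (isClosed_univ (X := X)) ⟨x0, trivial⟩
  obtain ⟨I, N, hI, hN, -, -, -, -, hdegN⟩ := exists_point_divisor_of_closed k X hdim hreg p hp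
  induction j with
  | zero =>
    have hdeg : Curv2.deg k X (CohB1.tensorPow N (2 * g)) 1 = 2 * (g : ℤ) := by
      rw [CurveTens.deg_tensorPow k X hdim.le hN, hdegN]
      push_cast
      ring
    refine ⟨CohB1.tensorPow N (2 * g), isInvertible_tensorPow hN _, ?_, ?_⟩
    · rw [hdeg]
      push_cast
      ring
    · apply HH1_subsingleton_of_deg_ge k X hdim.le (isInvertible_tensorPow hN _)
      rw [hdeg]
      linarith
  | succ j ih =>
    obtain ⟨L, hL, hdegL, hH1⟩ := ih (by omega)
    have hLc := ProperFinH9.isCoh_of_isInvertible hL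
    haveI := hLc.1
    haveI := ProperFinH9.finite_HH_of_proper k X _ hLc 0
    have e3 := CurveRR.euler_eq_sub k X hdim.le L
    have e7 : Module.finrank k (Coh.HH X L 1) = 0 := Module.finrank_zero_of_subsingleton
    rw [e7] at e3
    have hpos : 0 < Module.finrank k (Coh.HH X L 0) := by
      unfold Curv2.deg at hdegL
      rw [hχO, e3] at hdegL
      have hj' : ((j + 1 : ℕ) : ℤ) ≤ (g : ℤ) + 1 := by exact_mod_cast hj
      push_cast at hdegL hj'
      have : (0 : ℤ) < (Module.finrank k (Coh.HH X L 0) : ℤ) := by linarith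
      exact_mod_cast this
    obtain ⟨σ, hσ⟩ : ∃ σ : Coh.structureModule X ⟶ L, σ ≠ 0 := by
      haveI : Nontrivial (Coh.HH X L 0) := Module.finrank_pos_iff.mp hpos
      obtain ⟨v, hv⟩ := exists_ne (0 : Coh.HH X L 0)
      refine ⟨(CurveIdeal.thetaEquiv k L).symm v, fun h => hv ?_⟩
      have := congrArg (CurveIdeal.thetaEquiv k L) h
      rwa [LinearEquiv.apply_symm_apply, map_zero] at this
    obtain ⟨q, hq, hgen⟩ := exists_closed_genAt hL σ hσ
    obtain ⟨I', N', hI', -, -, hpt', hqI, hd', -⟩ :=
      exists_point_divisor_of_closed k X hdim hreg q hq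
    obtain ⟨hH1', hχ⟩ := twist_down_step k X hdim I' hpt' hd' hL hH1 σ hqI hgen
    refine ⟨CohB1.tensorMod (ClSub.idealMod I') L, isInvertible_tensorMod hI' hL, ?_, hH1'⟩
    unfold Curv2.deg at hdegL ⊢
    rw [hχ]
    push_cast at hdegL ⊢
    linarith

/-- **there is an invertible module of degree `g - 1` with vanishing `H¹`** -/
theorem exists_nonspecial (hdim : topologicalKrullDim X = 1)
    (hreg : ∀ x : X, IsRegularLocalRing (X.presheaf.stalk x)) :
    ∃ L : X.Modules, PicF.IsInvertible L ∧
      Curv2.deg k X L 1 = (Curv2.genus k X : ℤ) - 1 ∧ Subsingleton (Coh.HH X L 1) := by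
  obtain ⟨L, hL, hdegL, hH1⟩ :=
    exists_deg_vanishing k X hdim hreg (Curv2.genus k X + 1) le_rfl
  refine ⟨L, hL, ?_, hH1⟩
  rw [hdegL]
  push_cast
  ring

end AlgClosed

end CurvePtInv
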