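import Mathlib
import Groth.Prelude
import Groth.Agent.Lib.CurvePtInv5_helper9

/-!
# Twisting down by zeros of a section: invertible modules of small degree with `h⁰ = 1` (helper9).
APPEND-ONLY once landed.
-/

set_option autoImplicit false
universe u
open CategoryTheory CategoryTheory.Limits AlgebraicGeometry Opposite TopologicalSpace

namespace CurvePtInv

open QcqsLoc QCohExtn GenLocH8 TensH8 FLFH8 CohB1 Groth.Agent.TensInv CurveAmple CurveGG CurvePt

section Ker

/-- the kernel ideal sheaf of a morphism from a reduced scheme with image a closed point is the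
vanishing ideal of that point -/
theorem ker_eq_vanishingIdeal_of_range {Y X : Scheme.{u}} [IsReduced Y] (f : Y ⟶ X) {x : X}
    (hx : IsClosed ({x} : Set X)) (hr : Set.range f = {x}) :
    f.ker = Scheme.IdealSheafData.vanishingIdeal ⟨{x}, hx⟩ := by
  rw [← Scheme.IdealSheafData.map_bot, ← Scheme.nilradical_eq_bot,
    ← Scheme.IdealSheafData.vanishingIdeal_top, Scheme.IdealSheafData.map_vanishingIdeal]
  congr 1
  apply TopologicalSpace.Closeds.ext
  rw [TopologicalSpace.Closeds.coe_closure]
  show closure (f '' (Set.univ : Set Y)) = {x}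
  rw [Set.image_univ, hr, hx.closure_eq]

end Ker

section AlgClosed

variable (k : Type u) [Field k] [IsAlgClosed k] (X : Scheme.{u}) [X.Over (Spec (CommRingCat.of k))]
  [IsIntegral X] [IsProper (X ↘ Spec (CommRingCat.of k))]

/-- over an algebraically closed field, `dim H⁰(O/I_q) = 1` for a closed point `q` -/
theorem finrank_HH0_quotMod_point (q : X) (hq : IsClosed ({q} : Set X)) :
    Module.finrank k (Coh.HH X (ClSub.quotMod (Scheme.IdealSheafData.vanishingIdeal ⟨{q}, hq⟩)) 0)
      = 1 := by
  have h1 := finrank_HH0_quotMod_ker k (pointOfClosedPoint (X ↘ Spec (CommRingCat.of k)) q hq)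
    (pointOfClosedPoint_comp (X ↘ Spec (CommRingCat.of k)) q hq)
  haveI : IsReduced (Spec (CommRingCat.of k)) := inferInstance
  have h2 : (pointOfClosedPoint (X ↘ Spec (CommRingCat.of k)) q hq).ker =
      Scheme.IdealSheafData.vanishingIdeal ⟨{q}, hq⟩ := by
    apply ker_eq_vanishingIdeal_of_range
    ext y
    constructor
    · rintro ⟨a, rfl⟩
      exact pointOfClosedPoint_apply (X ↘ Spec (CommRingCat.of k)) q hq a
    · intro hy
      haveI : Nonempty ↥(Spec (CommRingCat.of k)) :=
        inferInstanceAs (Nonempty (PrimeSpectrum k))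
      obtain ⟨a⟩ : Nonempty ↥(Spec (CommRingCat.of k)) := inferInstance
      exact ⟨a, (pointOfClosedPoint_apply (X ↘ Spec (CommRingCat.of k)) q hq a).trans
        (Set.mem_singleton_iff.mp hy).symm⟩
  rw [h2] at h1
  exact h1

/-- the ideal sheaf of a closed point has degree `-1` -/
theorem deg_idealMod_point (q : X) (hq : IsClosed ({q} : Set X)) :
    Curv2.deg k X (ClSub.idealMod (Scheme.IdealSheafData.vanishingIdeal ⟨{q}, hq⟩)) 1 = -1 := by
  haveI : IsLocallyNoetherian X :=
    LocallyOfFiniteType.isLocallyNoetherian (X ↘ Spec (CommRingCat.of k))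
  have hZ : topologicalKrullDim
      ((Scheme.IdealSheafData.vanishingIdeal ⟨{q}, hq⟩).support : Set X) ≤ 0 := by
    have h2 : ((Scheme.IdealSheafData.vanishingIdeal ⟨{q}, hq⟩).support : Set X) = {q} :=
      Scheme.IdealSheafData.coe_support_vanishingIdeal _
    rw [h2]
    exact CurveSpec.dim_le_zero_of_closed_points {q} hq
      (fun y hy => by rw [Set.mem_singleton_iff.mp hy]; exact hq)
  have e := CurveIdeal.euler_structureModule_eq k X _ hZ
  rw [finrank_HH0_quotMod_point k X q hq] at e
  unfold Curv2.deg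
  push_cast at e ⊢
  linarith

/-- a nonzero section of an invertible module of positive degree vanishes at some closed point -/
theorem exists_closed_not_genAt (hdim : topologicalKrullDim X = 1) {L : X.Modules}
    (hL : PicF.IsInvertible L) (σ : Coh.structureModule X ⟶ L) (hσ : σ ≠ 0)
    (hdeg : 0 < Curv2.deg k X L 1) :
    ∃ p : X, IsClosed ({p} : Set X) ∧ ¬ CurveLin.GenAt L σ p := by
  haveI : IsLocallyNoetherian X :=
    LocallyOfFiniteType.isLocallyNoetherian (X ↘ Spec (CommRingCat.of k))
  haveI : CompactSpace X :=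
    QuasiCompact.compactSpace_of_compactSpace (X ↘ Spec (CommRingCat.of k))
  haveI : IsNoetherian X := {}
  have hOinv := TensH8.isInvertible_structureModule (X := X)
  have hOc := CohDevH8.isCoh_structureModule X
  have hLc := ProperFinH9.isCoh_of_isInvertible hL
  have hQc : Coh.IsCoh (cokernel σ) := CohKerH8.isCoh_cokernel hOc hLc σ
  have e := CurveDeg.euler_eq_add k X hdim.le hOinv hL σ hσ
  have hpos : 0 < Module.finrank k (Coh.HH X (cokernel σ) 0) := by
    unfold Curv2.deg at hdeg
    have : (0 : ℤ) < (Module.finrank k (Coh.HH X (cokernel σ) 0) : ℤ) := by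
      push_cast at hdeg
      linarith
    exact_mod_cast this
  have hcl := CurveDeg.isClosed_singleton_of_mem_support_cokernel hOinv hL σ hσ hdim.le
  have hne : ∃ x, x ∈ CohB1.support (cokernel σ) := by
    by_contra hempty
    push_neg at hempty
    haveI : Subsingleton (Coh.HH X (cokernel σ) 0) := by
      refine ⟨fun a b => (CurveTens.e₀ (cokernel σ)).injective ?_⟩
      rw [CycLenH8.eq_zero_of_disjoint_support (cokernel σ) (fun y _ => hempty y)
          (CurveTens.e₀ (cokernel σ) a),
        CycLenH8.eq_zero_of_disjoint_support (cokernel σ) (fun y _ => hempty y)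
          (CurveTens.e₀ (cokernel σ) b)]
    rw [Module.finrank_zero_of_subsingleton] at hpos
    exact lt_irrefl 0 hpos
  obtain ⟨x, hx⟩ := hne
  refine ⟨x, hcl x hx, fun hgen => ?_⟩
  obtain ⟨V, hxV, hV⟩ := hgen
  obtain ⟨_, ⟨U, hU, rfl⟩, hxU, hUV⟩ :=
    X.isBasis_affineOpens.exists_subset_of_mem_open hxV V.isOpen
  have hUV' : U ≤ V := hUV
  have hsurj : Function.Surjective (ap σ U) := by
    intro l
    obtain ⟨c, hc⟩ := (hV U hUV').1 l
    refine ⟨toM c, ?_⟩
    have h2 : c • toM (1 : Γ(X, U)) = toM c := mul_one c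
    rw [hc, CurveLin.ap_one_res σ hUV', ← ap_smul, h2]
  exact CohDevH8.support_cokernel_subset_compl hOc hLc σ hU hsurj hx hxU

/-- twisting down by a zero of the unique section -/
theorem twist_down_h0_one (hdim : topologicalKrullDim X = 1)
    (hreg : ∀ x : X, IsRegularLocalRing (X.presheaf.stalk x)) {L : X.Modules}
    (hL : PicF.IsInvertible L) (h1 : Module.finrank k (Coh.HH X L 0) = 1)
    (hdeg : 0 < Curv2.deg k X L 1) :
    ∃ L' : X.Modules, PicF.IsInvertible L' ∧ Curv2.deg k X L' 1 = Curv2.deg k X L 1 - 1 ∧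
      Module.finrank k (Coh.HH X L' 0) = 1 := by
  haveI : IsLocallyNoetherian X :=
    LocallyOfFiniteType.isLocallyNoetherian (X ↘ Spec (CommRingCat.of k))
  have hLc := ProperFinH9.isCoh_of_isInvertible hL
  haveI := ProperFinH9.finite_HH_of_proper k X _ hLc 0
  obtain ⟨σ, hσ⟩ : ∃ σ : Coh.structureModule X ⟶ L, σ ≠ 0 := by
    haveI : Nontrivial (Coh.HH X L 0) := Module.finrank_pos_iff.mp (by rw [h1]; exact one_pos)
    obtain ⟨v, hv⟩ := exists_ne (0 : Coh.HH X L 0)
    refine ⟨(CurveIdeal.thetaEquiv k L).symm v, fun h => hv ?_⟩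
    have := congrArg (CurveIdeal.thetaEquiv k L) h
    rwa [LinearEquiv.apply_symm_apply, map_zero] at this
  obtain ⟨p, hp, hng⟩ := exists_closed_not_genAt k X hdim hL σ hσ hdeg
  have hIinv := isInvertible_idealMod_point hdim hp (hreg p)
  obtain ⟨s, hs⟩ := exists_lift_of_not_genAt hp hL σ hng
  have hs0 : s ≠ 0 := by
    rintro rfl
    rw [zero_comp] at hs
    exact hσ hs.symm
  haveI := mono_twistι (Scheme.IdealSheafData.vanishingIdeal ⟨{p}, hp⟩) hL
  have hIc := CurveIdeal.isCoh_idealMod (Scheme.IdealSheafData.vanishingIdeal ⟨{p}, hp⟩)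
  have hFc := isCoh_tensorMod X hIc hL
  haveI := ProperFinH9.finite_HH_of_proper k X _ hFc 0
  refine ⟨CohB1.tensorMod (ClSub.idealMod (Scheme.IdealSheafData.vanishingIdeal ⟨{p}, hp⟩)) L,
    isInvertible_tensorMod hIinv hL, ?_, ?_⟩
  · rw [CurveTens.deg_tensorMod k X hdim.le hIinv hL, deg_idealMod_point k X p hp]
    ring
  · apply le_antisymm
    · rw [← h1]
      exact CurveSub.finrank_HH0_le_of_mono k X
        (twistι (Scheme.IdealSheafData.vanishingIdeal ⟨{p}, hp⟩) L) hLc
    · have : 0 < Module.finrank k (Coh.HH X (CohB1.tensorMod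
          (ClSub.idealMod (Scheme.IdealSheafData.vanishingIdeal ⟨{p}, hp⟩)) L) 0) := by
        rw [Module.finrank_pos_iff]
        refine ⟨⟨CurveIdeal.thetaEquiv k _ s, 0, fun h => hs0 ?_⟩⟩
        have := congrArg (CurveIdeal.thetaEquiv k _).symm h
        rwa [LinearEquiv.symm_apply_apply, map_zero] at this
      omega

/-- **for every `r ≤ g` there is an invertible module of degree `r` with `h⁰ = 1`** -/
theorem exists_deg_h0_one (hdim : topologicalKrullDim X = 1)
    (hreg : ∀ x : X, IsRegularLocalRing (X.presheaf.stalk x)) (m : ℕ)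
    (hm : m ≤ Curv2.genus k X) :
    ∃ L : X.Modules, PicF.IsInvertible L ∧
      Curv2.deg k X L 1 = (Curv2.genus k X : ℤ) - (m : ℤ) ∧
      Module.finrank k (Coh.HH X L 0) = 1 := by
  haveI : IsLocallyNoetherian X :=
    LocallyOfFiniteType.isLocallyNoetherian (X ↘ Spec (CommRingCat.of k))
  induction m with
  | zero =>
    obtain ⟨L, hL, hdegL, hH1⟩ :=
      exists_deg_vanishing k X hdim hreg (Curv2.genus k X) (Nat.le_succ _)
    refine ⟨L, hL, by rw [hdegL]; push_cast; ring, ?_⟩
    have hLc := ProperFinH9.isCoh_of_isInvertible hL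
    haveI := hLc.1
    haveI := (CohDevH8.isCoh_structureModule X).1
    have e3 := CurveRR.euler_eq_sub k X hdim.le L
    have e7 : Module.finrank k (Coh.HH X L 1) = 0 := Module.finrank_zero_of_subsingleton
    have e4 := CurveRR.euler_eq_sub k X hdim.le (Coh.structureModule X)
    have h00 := CurveSpec.finrank_HH0_structureModule k X hdim
    have hg' : Curv2.genus k X = Module.finrank k (Coh.HH X (Coh.structureModule X) 1) := rfl
    unfold Curv2.deg at hdegL
    rw [e3, e4, e7, h00, ← hg'] at hdegL
    push_cast at hdegL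
    have : (Module.finrank k (Coh.HH X L 0) : ℤ) = 1 := by linarith
    exact_mod_cast this
  | succ m ih =>
    obtain ⟨L, hL, hdegL, h1⟩ := ih (by omega)
    have hpos : 0 < Curv2.deg k X L 1 := by
      rw [hdegL]
      have : ((m + 1 : ℕ) : ℤ) ≤ (Curv2.genus k X : ℤ) := by exact_mod_cast hm
      push_cast at this
      linarith
    obtain ⟨L', hL', hdegL', h1'⟩ := twist_down_h0_one k X hdim hreg hL h1 hpos
    refine ⟨L', hL', ?_, h1'⟩
    rw [hdegL', hdegL]
    push_cast
    ring

end AlgClosed

end CurvePtInv
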