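import Mathlib
import Groth.Prelude
import Groth.Agent.Lib.AlgEqA_helper9
import Groth.Agent.Lib.AbelM_helper2
import Groth.Agent.Lib.DiagReg10_helper8
import Groth.Agent.Lib.InvEpi1_helper5
import Groth.Agent.Lib.CurvePtInv6_helper9
import Groth.Agent.Lib.InvTensP2_helper5

/-!
# Algebraic equivalence to zero, part B: the diagonal family on a smooth curve (helper9)
For a smooth separated integral curve `C` over a field `k`: the ideal of the diagonal of
`C ×_k C` is invertible, and its pullback along the slice `C = C × {t} ⟶ C ×_k C` over a rational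
point `t` is the ideal of `t`.
APPEND-ONLY once landed.
-/

set_option autoImplicit false
universe u
open AlgebraicGeometry CategoryTheory CategoryTheory.Limits TopologicalSpace

namespace AlgEq

open Groth.Agent.TensInv CohB1

section Diag

variable (k : Type u) [Field k] {C : Scheme.{u}} (f : C ⟶ Spec (CommRingCat.of k))

/-- the diagonal of a smooth integral curve is an effective Cartier divisor -/
theorem isEffCartier_diagonal [Smooth f] [IsSeparated f] [IsIntegral C]
    (hdim : topologicalKrullDim C = 1) :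
    BlowUp.IsEffCartierIdeal (pullback.diagonal f).ker := by
  obtain ⟨-, h⟩ := Groth.Agent.Lib.DiagRegH8.diagonal_isRegularImmersionOfCodim k C f 1
    (by rw [hdim]; rfl)
  intro x
  by_cases hx : x ∈ Set.range (pullback.diagonal f)
  · obtain ⟨z, rfl⟩ := hx
    obtain ⟨U, hzU, -, rs, hlen, hreg, hker⟩ := h z
    obtain ⟨r, rfl⟩ := List.length_eq_one_iff.mp hlen
    refine ⟨U, hzU, r, ?_, ?_⟩
    · have h1 : RingTheory.Sequence.IsRegular Γ(pullback f f, U.1) [r] := hreg
      have h2 := ((RingTheory.Sequence.isRegular_cons_iff _ r []).mp h1).1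
      rw [mem_nonZeroDivisors_iff_left]
      intro y hy
      apply h2
      show r • y = r • 0
      rw [smul_zero]
      exact hy
    · rw [Scheme.Hom.ker_apply, hker]
      simp [Ideal.ofList]
  · have hcl : IsClosed (Set.range (pullback.diagonal f)) :=
      (pullback.diagonal f).isClosedEmbedding.isClosed_range
    obtain ⟨_, ⟨W, hW : IsAffineOpen W, rfl⟩, hxW, hWle⟩ :=
      ((pullback f f).isBasis_affineOpens).exists_subset_of_mem_open
        (show x ∈ (Set.range (pullback.diagonal f))ᶜ from hx) hcl.isOpen_compl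
    refine ⟨⟨W, hW⟩, hxW, 1, one_mem _, ?_⟩
    rw [Scheme.Hom.ker_apply, Ideal.span_singleton_one]
    have hemp : (pullback.diagonal f) ⁻¹ᵁ W = ⊥ := by
      ext z
      simp only [Opens.coe_bot, Set.mem_empty_iff_false, iff_false]
      intro hz
      exact hWle hz ⟨z, rfl⟩
    rw [eq_top_iff]
    intro a _
    rw [RingHom.mem_ker]
    haveI : Subsingleton Γ(C, (pullback.diagonal f) ⁻¹ᵁ W) := by
      rw [hemp]
      infer_instance
    exact Subsingleton.elim _ _

/-- the ideal of the diagonal of a smooth integral curve is invertible -/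
theorem isInvertible_idealMod_diagonal [Smooth f] [IsSeparated f] [IsIntegral C]
    (hdim : topologicalKrullDim C = 1) :
    PicF.IsInvertible (ClSub.idealMod (pullback.diagonal f).ker) :=
  haveI : IsLocallyNoetherian (Spec (CommRingCat.of k)) := inferInstance
  haveI : IsLocallyNoetherian C := LocallyOfFiniteType.isLocallyNoetherian f
  haveI : IsLocallyNoetherian (pullback f f) :=
    LocallyOfFiniteType.isLocallyNoetherian (pullback.fst f f)
  TensH8.isInvertible_idealMod_of_isEffCartierIdeal _ (isEffCartier_diagonal k f hdim)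

variable (t : Spec (CommRingCat.of k) ⟶ C) (ht : t ≫ f = 𝟙 _)

/-- the slice `C = C × {t} ⟶ C ×_k C` -/
noncomputable def slice : C ⟶ pullback f f :=
  pullback.lift (𝟙 C) (f ≫ t) (by rw [Category.id_comp, Category.assoc, ht, Category.comp_id])

theorem slice_fst : slice k f t ht ≫ pullback.fst f f = 𝟙 C := pullback.lift_fst _ _ _

theorem slice_snd : slice k f t ht ≫ pullback.snd f f = f ≫ t := pullback.lift_snd _ _ _

/-- the point `t` is the preimage of the diagonal under the slice -/
theorem isPullback_slice : IsPullback t t (pullback.diagonal f) (slice k f t ht) := by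
  have hcomm : t ≫ pullback.diagonal f = t ≫ slice k f t ht := by
    apply pullback.hom_ext
    · rw [Category.assoc, Category.assoc, pullback.diagonal_fst, slice_fst]
    · rw [Category.assoc, Category.assoc, pullback.diagonal_snd, slice_snd, Category.comp_id,
        ← Category.assoc, ht, Category.id_comp]
  refine ⟨⟨hcomm⟩, ⟨PullbackCone.IsLimit.mk _ (fun c => c.snd ≫ f) ?_ ?_ ?_⟩⟩
  · intro c
    have h1 := congrArg (· ≫ pullback.snd f f) c.condition
    simp only [Category.assoc, pullback.diagonal_snd, slice_snd, Category.comp_id] at h1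
    rw [Category.assoc]
    exact h1.symm
  · intro c
    have h1 := congrArg (· ≫ pullback.snd f f) c.condition
    simp only [Category.assoc, pullback.diagonal_snd, slice_snd, Category.comp_id] at h1
    have h2 := congrArg (· ≫ pullback.fst f f) c.condition
    simp only [Category.assoc, pullback.diagonal_fst, slice_fst, Category.comp_id] at h2
    rw [Category.assoc, ← h1, h2]
  · intro c m h1 h2
    have h3 : m = (m ≫ t) ≫ f := by rw [Category.assoc, ht, Category.comp_id]
    rw [h3, h2]

/-- the graph square for the closed subschemes defined by the kernels -/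
theorem isPullback_slice_ker [IsSeparated f] :
    ∃ g' : t.ker.subscheme ⟶ (pullback.diagonal f).ker.subscheme,
      IsPullback g' t.ker.subschemeι (pullback.diagonal f).ker.subschemeι (slice k f t ht) := by
  haveI : IsClosedImmersion t := by
    haveI : IsClosedImmersion (t ≫ f) := by
      rw [ht]
      infer_instance
    exact IsClosedImmersion.of_comp t f
  haveI : IsClosedImmersion (pullback.diagonal f) := inferInstance
  have h0 := isPullback_slice k f t ht
  refine ⟨inv t.toImage ≫ t ≫ (pullback.diagonal f).toImage, ?_⟩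
  refine IsPullback.of_iso h0 (asIso t.toImage)
    (asIso (pullback.diagonal f).toImage) (Iso.refl _) (Iso.refl _) ?_ ?_ ?_ ?_
  · simp
  · simp only [Iso.refl_hom, Category.comp_id, asIso_hom]
    exact (t.toImage_imageι).symm
  · simp only [Iso.refl_hom, Category.comp_id, asIso_hom]
    exact ((pullback.diagonal f).toImage_imageι).symm
  · simp

/-- **the pullback of the ideal of the diagonal along the slice over `t` is the ideal of `t`** -/
theorem nonempty_pullback_diagonal_iso [Smooth f] [IsSeparated f] [IsIntegral C]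
    (hdim : topologicalKrullDim C = 1) (hI : PicF.IsInvertible (ClSub.idealMod t.ker)) :
    Nonempty ((Scheme.Modules.pullback (slice k f t ht)).obj
      (ClSub.idealMod (pullback.diagonal f).ker) ≅ ClSub.idealMod t.ker) := by
  obtain ⟨g', hc⟩ := isPullback_slice_ker k f t ht
  obtain ⟨π, hπ, -⟩ := Groth.Agent.Lib.CBCH2.exists_epi_pullback_ideal (slice k f t ht) _ _ g' hc
  haveI := hπ
  haveI := Groth.Agent.InvEpi.isIso_of_epi
    (TensH8.isInvertible_pullback _ (isInvertible_idealMod_diagonal k f hdim)) hI π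
  exact ⟨asIso π⟩

/-- uniqueness of tensor inverses -/
theorem inverse_unique {X : Scheme.{u}} {A B B' : X.Modules}
    (eB : tensorMod A B ≅ Coh.structureModule X)
    (eB' : tensorMod A B' ≅ Coh.structureModule X) : Nonempty (B ≅ B') :=
  ⟨(rightUnit B).symm ≪≫ mapL B eB'.symm ≪≫ (assoc B A B').symm ≪≫ mapR (comm B A) B' ≪≫
    mapR eB B' ≪≫ comm _ _ ≪≫ rightUnit B'⟩

/-- the fibres of the diagonal family `pr₁^* I ⊗ O(Δ)` -/
theorem nonempty_fibre_iso [Smooth f] [IsSeparated f] [IsIntegral C]
    (hdim : topologicalKrullDim C = 1) (Ip : C.Modules) (hIp : PicF.IsInvertible Ip)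
    (JΔ : (pullback f f).Modules) (hJΔ : PicF.IsInvertible JΔ)
    (ιΔ : tensorMod (ClSub.idealMod (pullback.diagonal f).ker) JΔ ≅ Coh.structureModule _)
    (hIt : PicF.IsInvertible (ClSub.idealMod t.ker)) (Jt : C.Modules)
    (eJt : tensorMod (ClSub.idealMod t.ker) Jt ≅ Coh.structureModule C) :
    Nonempty ((Scheme.Modules.pullback (slice k f t ht)).obj
      (tensorMod ((Scheme.Modules.pullback (pullback.fst f f)).obj Ip) JΔ) ≅ tensorMod Ip Jt) := by
  have hIΔ := isInvertible_idealMod_diagonal k f hdim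
  obtain ⟨e₁⟩ := nonempty_pullback_diagonal_iso k f t ht hdim hIt
  -- the pullback of `JΔ` is an inverse of `I_t`
  have e₂ : tensorMod (ClSub.idealMod t.ker) ((Scheme.Modules.pullback (slice k f t ht)).obj JΔ) ≅
      Coh.structureModule C :=
    mapR e₁.symm _ ≪≫ (PullTensH9.pullTensIso (slice k f t ht) hIΔ hJΔ).symm ≪≫
      (Scheme.Modules.pullback (slice k f t ht)).mapIso ιΔ ≪≫
      PBH8.pullbackUnitIso (slice k f t ht)
  obtain ⟨e₃⟩ := inverse_unique eJt e₂
  -- the first factor
  have e₄ : (Scheme.Modules.pullback (slice k f t ht)).obj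
      ((Scheme.Modules.pullback (pullback.fst f f)).obj Ip) ≅ Ip :=
    pullCompIso (slice k f t ht) (pullback.fst f f) (𝟙 C) (slice_fst k f t ht) _ ≪≫
      (Scheme.Modules.pullbackId C).app _
  exact ⟨PullTensH9.pullTensIso (slice k f t ht) (TensH8.isInvertible_pullback _ hIp) hJΔ ≪≫
    mapR e₄ _ ≪≫ mapL _ e₃.symm⟩

end Diag

section Family

variable (k : Type u) [Field k] [IsAlgClosed k] (C : Scheme.{u})
  [C.Over (Spec (CommRingCat.of k))] [IsProper (C ↘ Spec (CommRingCat.of k))]
  [Smooth (C ↘ Spec (CommRingCat.of k))] [IsIntegral C]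

/-- the ideal sheaf of a closed point, as a module -/
noncomputable abbrev Ipt (x : C) (hx : IsClosed ({x} : Set C)) : C.Modules :=
  ClSub.idealMod (Scheme.IdealSheafData.vanishingIdeal ⟨{x}, hx⟩)

/-- the rational point at a closed point -/
noncomputable abbrev tpt (x : C) (hx : IsClosed ({x} : Set C)) : Spec (CommRingCat.of k) ⟶ C :=
  pointOfClosedPoint (C ↘ Spec (CommRingCat.of k)) x hx

theorem tpt_comp (x : C) (hx : IsClosed ({x} : Set C)) :
    tpt k C x hx ≫ (C ↘ Spec (CommRingCat.of k)) = 𝟙 _ :=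
  pointOfClosedPoint_comp (C ↘ Spec (CommRingCat.of k)) x hx

theorem ker_tpt (x : C) (hx : IsClosed ({x} : Set C)) :
    (tpt k C x hx).ker = Scheme.IdealSheafData.vanishingIdeal ⟨{x}, hx⟩ := by
  haveI : IsReduced (Spec (CommRingCat.of k)) := inferInstance
  apply CurvePtInv.ker_eq_vanishingIdeal_of_range
  ext y
  constructor
  · rintro ⟨a, rfl⟩
    exact pointOfClosedPoint_apply (C ↘ Spec (CommRingCat.of k)) x hx a
  · intro hy
    haveI : Nonempty ↥(Spec (CommRingCat.of k)) :=
      inferInstanceAs (Nonempty (PrimeSpectrum k))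
    obtain ⟨a⟩ : Nonempty ↥(Spec (CommRingCat.of k)) := inferInstance
    exact ⟨a, (pointOfClosedPoint_apply (C ↘ Spec (CommRingCat.of k)) x hx a).trans
      (Set.mem_singleton_iff.mp hy).symm⟩

variable {C}

/-- the family on `C ×_k C` with fibres `I_p ⊗ I_y⁻¹` -/
noncomputable def diagFam (p : C) (hp : IsClosed ({p} : Set C))
    (JΔ : (pullback (C ↘ Spec (CommRingCat.of k)) (C ↘ Spec (CommRingCat.of k))).Modules) :
    (Pic13.prodK k C (C ↘ Spec (CommRingCat.of k))).Modules :=
  tensorMod ((Scheme.Modules.pullback (pullback.fst (C ↘ Spec (CommRingCat.of k))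
    (C ↘ Spec (CommRingCat.of k)))).obj (Ipt C p hp)) JΔ

/-- the fibres of the diagonal family -/
theorem nonempty_fibre_diagFam_iso (hdim : topologicalKrullDim C = 1)
    (hreg : ∀ x : C, IsRegularLocalRing (C.presheaf.stalk x))
    (p : C) (hp : IsClosed ({p} : Set C))
    (JΔ : (pullback (C ↘ Spec (CommRingCat.of k)) (C ↘ Spec (CommRingCat.of k))).Modules)
    (hJΔ : PicF.IsInvertible JΔ)
    (ιΔ : tensorMod (ClSub.idealMod
      (pullback.diagonal (C ↘ Spec (CommRingCat.of k))).ker) JΔ ≅ Coh.structureModule _)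
    (y : C) (hy : IsClosed ({y} : Set C)) (Jy : C.Modules)
    (eJy : tensorMod (Ipt C y hy) Jy ≅ Coh.structureModule C) :
    Nonempty (Pic13.fibreMod k C (C ↘ Spec (CommRingCat.of k)) (tpt k C y hy) (tpt_comp k C y hy)
      (diagFam k p hp JΔ) ≅ tensorMod (Ipt C p hp) Jy) := by
  haveI : IsLocallyNoetherian (Spec (CommRingCat.of k)) := inferInstance
  haveI : IsLocallyNoetherian C :=
    LocallyOfFiniteType.isLocallyNoetherian (C ↘ Spec (CommRingCat.of k))
  have hIp : PicF.IsInvertible (Ipt C p hp) :=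
    CurvePtInv.isInvertible_idealMod_point hdim hp (hreg p)
  have hIy : PicF.IsInvertible (Ipt C y hy) :=
    CurvePtInv.isInvertible_idealMod_point hdim hy (hreg y)
  have hker := ker_tpt k C y hy
  have hIt : PicF.IsInvertible (ClSub.idealMod (tpt k C y hy).ker) := by
    rw [hker]
    exact hIy
  have eJt : tensorMod (ClSub.idealMod (tpt k C y hy).ker) Jy ≅ Coh.structureModule C := by
    rw [hker]
    exact eJy
  exact nonempty_fibre_iso k (C ↘ Spec (CommRingCat.of k)) (tpt k C y hy) (tpt_comp k C y hy)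
    hdim (Ipt C p hp) hIp JΔ hJΔ ιΔ hIt Jy eJt

/-- **`I_p ⊗ I_x⁻¹` is algebraically equivalent to zero** -/
theorem algEquivZero_point (hdim : topologicalKrullDim C = 1)
    (hreg : ∀ x : C, IsRegularLocalRing (C.presheaf.stalk x))
    (p x : C) (hp : IsClosed ({p} : Set C)) (hx : IsClosed ({x} : Set C)) (Jx : C.Modules)
    (hJx : Nonempty (tensorMod (Ipt C x hx) Jx ≅ Coh.structureModule C)) :
    Pic13.IsAlgEquivZero k C (tensorMod (Ipt C p hp) Jx) := by
  haveI : IsLocallyNoetherian (Spec (CommRingCat.of k)) := inferInstance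
  haveI : IsLocallyNoetherian C :=
    LocallyOfFiniteType.isLocallyNoetherian (C ↘ Spec (CommRingCat.of k))
  obtain ⟨eJx⟩ := hJx
  have hIp : PicF.IsInvertible (Ipt C p hp) :=
    CurvePtInv.isInvertible_idealMod_point hdim hp (hreg p)
  have hIΔ := isInvertible_idealMod_diagonal k (C ↘ Spec (CommRingCat.of k)) hdim
  obtain ⟨JΔ, hJΔ, ⟨ιΔ⟩⟩ := Groth.Agent.InvTensP.exists_inverse _ hIΔ
  obtain ⟨Jp, hJp, ⟨ιp⟩⟩ := Groth.Agent.InvTensP.exists_inverse _ hIp
  obtain ⟨e₁⟩ := nonempty_fibre_diagFam_iso k hdim hreg p hp JΔ hJΔ ιΔ x hx Jx eJx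
  obtain ⟨e₀⟩ := nonempty_fibre_diagFam_iso k hdim hreg p hp JΔ hJΔ ιΔ p hp Jp ιp
  haveI : IrreducibleSpace C := inferInstance
  refine ⟨C, C ↘ Spec (CommRingCat.of k), inferInstance, inferInstance, inferInstance,
    diagFam k p hp JΔ, ?_, tpt k C x hx, tpt k C p hp, tpt_comp k C x hx, tpt_comp k C p hp,
    ⟨e₁⟩, ⟨e₀ ≪≫ ιp⟩⟩
  exact TensH8.isInvertible_tensorMod (TensH8.isInvertible_pullback _ hIp) hJΔ

end Family

end AlgEq
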