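import Mathlib
import Groth.Prelude
import Groth.Agent.Lib.KosSh1_helper9
import Groth.Agent.Lib.CurveAmple1_helper9
import Groth.Agent.Lib.PForm2_helper9
import Groth.Agent.Lib.EpiLoc_helper9
import Groth.Agent.Lib.AcycEmb_helper9
import Groth.Agent.Lib.Tens32_helper8
import Groth.Agent.Lib.FLF5_helper8
import Groth.Agent.Lib.SubExt_helper9

/-!
# The Koszul relations of a generating family of sections of an invertible module (helper9)
For an invertible module `A` generated by sections `σ₁, …, σ_r`, the multiplication map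
`Ψ_N : N^r ⟶ N ⊗ A` is an epimorphism, and for `N = M ⊗ A` its kernel is generated by the Koszul
relations, i.e. `M^{r×r} ⟶ (M ⊗ A)^r ⟶ (M ⊗ A) ⊗ A` is exact.
APPEND-ONLY once landed.
-/

set_option autoImplicit false
universe u
open CategoryTheory CategoryTheory.Limits AlgebraicGeometry Opposite TopologicalSpace

namespace Kosz

open QcqsLoc QCohExtn GenLocH8 TensH8 FLFH8 CohB1 CurveAmple Groth.Agent.KosSh SDivFreeH8

variable {X : Scheme.{u}}

section Tmul

/-- `m ↦ m ⊗ n` as an additive map -/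
noncomputable def tmulL (M N : X.Modules) (O : X.Opens) (n : Γ(N, O)) :
    Γ(M, O) →+ Γ(CohB1.tensorMod M N, O) :=
  AddMonoidHom.mk' (fun m => SecTwist.tmul M N O m n) (fun m m' => tmul_add_left M N O m m' n)

theorem tmul_sum_left (M N : X.Modules) (O : X.Opens) {ι : Type*} (S : Finset ι)
    (m : ι → Γ(M, O)) (n : Γ(N, O)) :
    SecTwist.tmul M N O (∑ i ∈ S, m i) n =
      ∑ i ∈ S, (SecTwist.tmul M N O (m i) n : Γ(CohB1.tensorMod M N, O)) :=
  map_sum (tmulL M N O n) m S

end Tmul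

/-- local data for a generating family of sections of an invertible module: a generator, the
coefficients of the sections, and a partition of unity -/
structure LocData (A : X.Modules) {r : ℕ} (σ : Fin r → (Coh.structureModule X ⟶ A))
    (W : X.Opens) where
  e : Γ(A, W)
  he : IsGen A W e
  f : Fin r → Γ(X, W)
  g : Fin r → Γ(X, W)
  hf : ∀ i, ap (σ i) W (toM (1 : Γ(X, W))) = f i • e
  hg : ∑ j, g j * f j = 1

theorem exists_locData {A : X.Modules} (hA : PicF.IsInvertible A) {r : ℕ}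
    (p : FlatMod.freeMod X r ⟶ A) [Epi p] {U : X.Opens} {x : X} (hx : x ∈ U) :
    ∃ (W : X.Opens) (_ : W ≤ U), x ∈ W ∧
      Nonempty (LocData A (fun i => (ιM i : Coh.structureModule X ⟶ FlatMod.freeMod X r) ≫ p) W) := by
  obtain ⟨W₀, -, hxW₀, hW₀U, e₀, he₀⟩ := exists_isGen_le hA x U hx
  obtain ⟨V, hV, hxV, t, ht⟩ := EpiLoc.exists_local_lift p e₀ hxW₀
  have he : IsGen A V (rF A hV e₀) := he₀.res hV
  have hself : rF A (le_refl V) (rF A hV e₀) = rF A hV e₀ := SubExt.rF_self A _ _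
  let σ : Fin r → (Coh.structureModule X ⟶ A) :=
    fun i => (ιM i : Coh.structureModule X ⟶ FlatMod.freeMod X r) ≫ p
  let f : Fin r → Γ(X, V) := fun i => coef A he (le_refl V) (ap (σ i) V (toM (1 : Γ(X, V))))
  let g : Fin r → Γ(X, V) := fun j => ofM ((projM j).app V t)
  have hf : ∀ i, ap (σ i) V (toM (1 : Γ(X, V))) = f i • rF A hV e₀ := by
    intro i
    have h := coef_spec A he (le_refl V) (ap (σ i) V (toM (1 : Γ(X, V))))
    rw [hself] at h
    exact h
  have hpt : ap p V t = rF A hV e₀ := ht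
  have h1 : ap p V t = ∑ i, g i • ap (σ i) V (toM (1 : Γ(X, V))) := by
    conv_lhs => rw [section_eq_sum_stdSec r V t]
    rw [map_sum]
    apply Finset.sum_congr rfl
    intro i _
    rw [ap_smul]
    rfl
  have h2 : rF A hV e₀ = (∑ j, g j * f j) • rF A hV e₀ := by
    refine hpt.symm.trans (h1.trans ?_)
    rw [Finset.sum_smul]
    apply Finset.sum_congr rfl
    intro i _
    rw [hf i, mul_smul]
  have h3 : (∑ j, g j * f j) = coef A he (le_refl V) (rF A hV e₀) := by
    apply coef_unique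
    rw [hself]
    exact h2
  have h4 : (1 : Γ(X, V)) = coef A he (le_refl V) (rF A hV e₀) := by
    apply coef_unique
    rw [hself, one_smul]
  exact ⟨V, hV.trans hW₀U, hxV, ⟨⟨rF A hV e₀, he, f, g, hf, h3.trans h4.symm⟩⟩⟩

/-- morphisms are determined locally on sections -/
theorem hom_ext_local {M P : X.Modules} (a b : M ⟶ P)
    (h : ∀ (U : X.Opens) (m : Γ(M, U)) (x : X), x ∈ U →
      ∃ (W : X.Opens) (hW : W ≤ U), x ∈ W ∧ ap a W (rF M hW m) = ap b W (rF M hW m)) : a = b := by
  apply Scheme.Modules.hom_ext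
  intro U
  ext m
  apply eq_of_cover P
  intro x hx
  obtain ⟨W, hW, hxW, hab⟩ := h U m x hx
  refine ⟨W, hW, hxW, ?_⟩
  have ha : rF P hW (ap a U m) = ap a W (rF M hW m) := (ap_rF a hW m).symm
  have hb : rF P hW (ap b U m) = ap b W (rF M hW m) := (ap_rF b hW m).symm
  exact ha.trans (hab.trans hb.symm)

/-- `(m ⊗ a) ⊗ a' = (m ⊗ a') ⊗ a` for sections of an invertible module -/
theorem tmul_tmul_comm {A : X.Modules} (hA : PicF.IsInvertible A) (M : X.Modules) (U : X.Opens)
    (m : Γ(M, U)) (a a' : Γ(A, U)) :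
    SecTwist.tmul (CohB1.tensorMod M A) A U (SecTwist.tmul M A U m a) a' =
      SecTwist.tmul (CohB1.tensorMod M A) A U (SecTwist.tmul M A U m a') a := by
  apply eq_of_cover (CohB1.tensorMod (CohB1.tensorMod M A) A)
  intro x hx
  obtain ⟨W, -, hxW, hWU, e, he⟩ := exists_isGen_le hA x U hx
  refine ⟨W, hWU, hxW, ?_⟩
  have hself : rF A (le_refl W) e = e := SubExt.rF_self A _ _
  have h1 := coef_spec A he (le_refl W) (rF A hWU a)
  have h2 := coef_spec A he (le_refl W) (rF A hWU a')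
  rw [hself] at h1 h2
  rw [rF_tmul, rF_tmul, rF_tmul, rF_tmul]
  set c := coef A he (le_refl W) (rF A hWU a)
  set c' := coef A he (le_refl W) (rF A hWU a')
  rw [h1, h2, tmul_smul_right, tmul_smul_right, tmul_smul_left, tmul_smul_right, tmul_smul_right,
    tmul_smul_left, smul_smul, smul_smul, mul_comm]

section Maps

variable (A : X.Modules) {r : ℕ} (σ : Fin r → (Coh.structureModule X ⟶ A))

/-- `r` copies of `N` -/
noncomputable abbrev Pw (r : ℕ) (N : X.Modules) : X.Modules := ⨁ (fun _ : Fin r => N)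

/-- `r × r` copies of `M` -/
noncomputable abbrev Pw2 (r : ℕ) (M : X.Modules) : X.Modules := ⨁ (fun _ : Fin r × Fin r => M)

/-- the multiplication map `N^r ⟶ N ⊗ A`, `(n_i) ↦ ∑ n_i ⊗ σ_i` -/
noncomputable def Psi (N : X.Modules) : Pw r N ⟶ CohB1.tensorMod N A :=
  biproduct.desc (fun i => mulSec N A (σ i))

/-- the Koszul relations `M^{r × r} ⟶ (M ⊗ A)^r` -/
noncomputable def kap (M : X.Modules) : Pw2 r M ⟶ Pw r (CohB1.tensorMod M A) :=
  biproduct.lift (fun l =>
    (∑ j, biproduct.π (fun _ : Fin r × Fin r => M) (l, j) ≫ mulSec M A (σ j)) -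
      ∑ i, biproduct.π (fun _ : Fin r × Fin r => M) (i, l) ≫ mulSec M A (σ i))

theorem Psi_eq (N : X.Modules) :
    Psi A σ N = ∑ j, biproduct.π (fun _ : Fin r => N) j ≫ mulSec N A (σ j) := by
  have h : Psi A σ N = 𝟙 _ ≫ Psi A σ N := (Category.id_comp _).symm
  rw [h, ← biproduct.total, Preadditive.sum_comp]
  apply Finset.sum_congr rfl
  intro j _
  rw [Category.assoc]
  unfold Psi
  rw [biproduct.ι_desc]

theorem kap_π (M : X.Modules) (l : Fin r) :
    kap A σ M ≫ biproduct.π (fun _ : Fin r => CohB1.tensorMod M A) l =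
      (∑ j, biproduct.π (fun _ : Fin r × Fin r => M) (l, j) ≫ mulSec M A (σ j)) -
        ∑ i, biproduct.π (fun _ : Fin r × Fin r => M) (i, l) ≫ mulSec M A (σ i) := by
  unfold kap
  rw [biproduct.lift_π]

variable {A}

theorem mulSec_comm (hA : PicF.IsInvertible A) (M : X.Modules)
    (u v : Coh.structureModule X ⟶ A) :
    mulSec M A u ≫ mulSec (CohB1.tensorMod M A) A v =
      mulSec M A v ≫ mulSec (CohB1.tensorMod M A) A u := by
  apply hom_ext_local
  intro U m x hx
  refine ⟨U, le_rfl, hx, ?_⟩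
  rw [SubExt.rF_self]
  show ap (mulSec (CohB1.tensorMod M A) A v) U (ap (mulSec M A u) U m) =
    ap (mulSec (CohB1.tensorMod M A) A u) U (ap (mulSec M A v) U m)
  rw [ap_mulSec, ap_mulSec, ap_mulSec, ap_mulSec]
  exact tmul_tmul_comm hA M U m _ _

/-- the Koszul relations are relations -/
theorem kap_Psi (hA : PicF.IsInvertible A) (M : X.Modules) :
    kap A σ M ≫ Psi A σ (CohB1.tensorMod M A) = 0 := by
  rw [Psi_eq, Preadditive.comp_sum]
  have h1 : ∀ l, kap A σ M ≫ biproduct.π (fun _ : Fin r => CohB1.tensorMod M A) l ≫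
      mulSec (CohB1.tensorMod M A) A (σ l) =
      (∑ j, biproduct.π (fun _ : Fin r × Fin r => M) (l, j) ≫ mulSec M A (σ j) ≫
        mulSec (CohB1.tensorMod M A) A (σ l)) -
      ∑ i, biproduct.π (fun _ : Fin r × Fin r => M) (i, l) ≫ mulSec M A (σ i) ≫
        mulSec (CohB1.tensorMod M A) A (σ l) := by
    intro l
    rw [← Category.assoc, kap_π, Preadditive.sub_comp, Preadditive.sum_comp, Preadditive.sum_comp]
    simp only [Category.assoc]
  simp_rw [h1]
  rw [Finset.sum_sub_distrib, sub_eq_zero]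
  rw [Finset.sum_comm]
  apply Finset.sum_congr rfl
  intro j _
  apply Finset.sum_congr rfl
  intro l _
  rw [mulSec_comm hA M (σ j) (σ l)]

variable (A)

theorem ap_Psi (N : X.Modules) (W : X.Opens) (z : Γ(Pw r N, W)) :
    ap (Psi A σ N) W z = ∑ j, SecTwist.tmul N A W (ap (biproduct.π (fun _ : Fin r => N) j) W z)
      (ap (σ j) W (toM (1 : Γ(X, W)))) := by
  rw [Psi_eq, ap_sum_hom]
  apply Finset.sum_congr rfl
  intro j _
  exact ap_mulSec N A (σ j) W _

theorem ap_sub_hom {B C : X.Modules} (s t : B ⟶ C) (W : X.Opens) (a : Γ(B, W)) :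
    ap (s - t) W a = ap s W a - ap t W a :=
  map_sub (apHom (B := C) W a) s t

theorem ap_kap_π (M : X.Modules) (W : X.Opens) (y : Γ(Pw2 r M, W)) (l : Fin r) :
    ap (biproduct.π (fun _ : Fin r => CohB1.tensorMod M A) l) W (ap (kap A σ M) W y) =
      (∑ j, SecTwist.tmul M A W (ap (biproduct.π (fun _ : Fin r × Fin r => M) (l, j)) W y)
        (ap (σ j) W (toM (1 : Γ(X, W))))) -
      ∑ i, SecTwist.tmul M A W (ap (biproduct.π (fun _ : Fin r × Fin r => M) (i, l)) W y)
        (ap (σ i) W (toM (1 : Γ(X, W)))) := by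
  have h : ap (biproduct.π (fun _ : Fin r => CohB1.tensorMod M A) l) W (ap (kap A σ M) W y) =
      ap (kap A σ M ≫ biproduct.π (fun _ : Fin r => CohB1.tensorMod M A) l) W y := rfl
  rw [h, kap_π, ap_sub_hom, ap_sum_hom, ap_sum_hom]
  congr 1
  · apply Finset.sum_congr rfl
    intro j _
    exact ap_mulSec M A (σ j) W _
  · apply Finset.sum_congr rfl
    intro j _
    exact ap_mulSec M A (σ j) W _

variable {A} {σ}

/-- **`Ψ_N` is an epimorphism** when the sections generate -/
theorem epi_Psi_of_locData (N : X.Modules)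
    (hloc : ∀ (U : X.Opens) (x : X), x ∈ U →
      ∃ (W : X.Opens) (_ : W ≤ U), x ∈ W ∧ Nonempty (LocData A σ W)) :
    Epi (Psi A σ N) := by
  apply epi_of_locally_surjective
  intro U y x hx
  obtain ⟨W, hWU, hxW, ⟨D⟩⟩ := hloc U x hx
  have hself : rF A (le_refl W) D.e = D.e := SubExt.rF_self A _ _
  obtain ⟨n, hn⟩ := tmulGen_surjective N A D.he (le_refl W) (rF (CohB1.tensorMod N A) hWU y)
  rw [hself] at hn
  refine ⟨W, hWU, hxW, secMk (fun _ : Fin r => N) W (fun j => D.g j • n), ?_⟩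
  rw [ap_Psi]
  have h1 : ∀ j, SecTwist.tmul N A W
      (ap (biproduct.π (fun _ : Fin r => N) j) W (secMk (fun _ : Fin r => N) W (fun j => D.g j • n)))
      (ap (σ j) W (toM (1 : Γ(X, W)))) = (D.g j * D.f j) • SecTwist.tmul N A W n D.e := by
    intro j
    rw [π_secMk, D.hf j, tmul_smul_left, tmul_smul_right, smul_smul]
    rfl
  simp_rw [h1]
  rw [← Finset.sum_smul, D.hg, one_smul, hn]

/-- **exactness of the Koszul relations**: `M^{r×r} ⟶ (M ⊗ A)^r ⟶ (M ⊗ A) ⊗ A` is exact -/
theorem exact_kap_Psi (hA : PicF.IsInvertible A) (M : X.Modules)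
    (hloc : ∀ (U : X.Opens) (x : X), x ∈ U →
      ∃ (W : X.Opens) (_ : W ≤ U), x ∈ W ∧ Nonempty (LocData A σ W)) :
    (ShortComplex.mk (kap A σ M) (Psi A σ (CohB1.tensorMod M A)) (kap_Psi σ hA M)).Exact := by
  apply PFormH9.exact_of_local_lift
  intro U z hz x hx
  obtain ⟨W, hWU, hxW, ⟨D⟩⟩ := hloc U x hx
  have hself : rF A (le_refl W) D.e = D.e := SubExt.rF_self A _ _
  have hzW : ap (Psi A σ (CohB1.tensorMod M A)) W (rF (Pw r (CohB1.tensorMod M A)) hWU z) = 0 := by
    have hz' : ap (Psi A σ (CohB1.tensorMod M A)) U z = 0 := hz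
    rw [ap_rF, hz', map_zero]
  set zW := rF (Pw r (CohB1.tensorMod M A)) hWU z with hzWdef
  have hm : ∀ l, ∃ m : Γ(M, W), SecTwist.tmul M A W m D.e =
      ap (biproduct.π (fun _ : Fin r => CohB1.tensorMod M A) l) W zW := fun l => by
    obtain ⟨m, hm⟩ := tmulGen_surjective M A D.he (le_refl W)
      (ap (biproduct.π (fun _ : Fin r => CohB1.tensorMod M A) l) W zW)
    rw [hself] at hm
    exact ⟨m, hm⟩
  choose m hm using hm
  have hrel : ∑ l, D.f l • m l = 0 := by
    rw [ap_Psi] at hzW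
    have h1 : ∀ l, SecTwist.tmul (CohB1.tensorMod M A) A W
        (ap (biproduct.π (fun _ : Fin r => CohB1.tensorMod M A) l) W zW)
        (ap (σ l) W (toM (1 : Γ(X, W)))) =
        SecTwist.tmul (CohB1.tensorMod M A) A W (SecTwist.tmul M A W (D.f l • m l) D.e) D.e := by
      intro l
      rw [← hm l, D.hf l, tmul_smul_right, tmul_smul_left, tmul_smul_left]
    simp_rw [h1] at hzW
    rw [← tmul_sum_left, ← tmul_sum_left] at hzW
    have h2 := tmulGen_injective (CohB1.tensorMod M A) A D.he (le_refl W)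
      (SecTwist.tmul M A W (∑ l, D.f l • m l) D.e) 0
      (by rw [hself]; exact hzW.trans (tmul_zero_left _ A W D.e).symm)
    exact tmulGen_injective M A D.he (le_refl W) (∑ l, D.f l • m l) 0
      (by rw [hself]; exact h2.trans (tmul_zero_left M A W D.e).symm)
  refine ⟨W, hWU, hxW, secMk (fun _ : Fin r × Fin r => M) W (fun p => D.g p.2 • m p.1), ?_⟩
  apply sec_ext
  intro l
  show ap (biproduct.π (fun _ : Fin r => CohB1.tensorMod M A) l) W (ap (kap A σ M) W _) =
    ap (biproduct.π (fun _ : Fin r => CohB1.tensorMod M A) l) W zW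
  rw [ap_kap_π]
  simp_rw [π_secMk]
  have h4 : ∀ j, SecTwist.tmul M A W (D.g j • m l) (ap (σ j) W (toM (1 : Γ(X, W)))) =
      (D.g j * D.f j) • SecTwist.tmul M A W (m l) D.e := by
    intro j
    rw [D.hf j, tmul_smul_left, tmul_smul_right, smul_smul]
    rfl
  have h5 : ∀ i, SecTwist.tmul M A W (D.g l • m i) (ap (σ i) W (toM (1 : Γ(X, W)))) =
      D.g l • SecTwist.tmul M A W (D.f i • m i) D.e := by
    intro i
    rw [D.hf i, tmul_smul_left, tmul_smul_right, tmul_smul_left]
    rfl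
  simp_rw [h4, h5]
  have e1 : ∑ j, (D.g j * D.f j) • SecTwist.tmul M A W (m l) D.e =
      SecTwist.tmul M A W (m l) D.e := by
    rw [← Finset.sum_smul, D.hg, one_smul]
  have e2 : ∑ i, D.g l • SecTwist.tmul M A W (D.f i • m i) D.e = 0 := by
    rw [← Finset.smul_sum, ← tmul_sum_left]
    have h6 : SecTwist.tmul M A W (∑ i, D.f i • m i) D.e = 0 :=
      (congrArg (fun t => SecTwist.tmul M A W t D.e) hrel).trans (tmul_zero_left M A W D.e)
    exact (congrArg (fun t => D.g l • t) h6).trans (smul_zero _)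
  rw [e1, e2, sub_zero]
  exact hm l

end Maps

end Kosz
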