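import Mathlib
import Groth.Prelude
import Groth.Agent.Lib.CurveGG3_helper9
import Groth.Agent.Lib.Kosz1_helper9
import Groth.Agent.Lib.CurveAmple5_helper9

/-!
# Serre duality on curves, part 1: morphisms of invertible modules and points (helper9)
A nonzero morphism of invertible modules on an integral proper curve is surjective on `H¹`; if it
is not an isomorphism it factors through `I_x ⊗ M → M` for some closed point `x`.
APPEND-ONLY once landed.
-/

set_option autoImplicit false
universe u
open CategoryTheory CategoryTheory.Limits AlgebraicGeometry Opposite TopologicalSpace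

namespace CurveSD

open QcqsLoc QCohExtn GenLocH8 TensH8 FLFH8 CohB1 Groth.Agent.HHVan CurveAmple CurveGG

section Local

variable {X : Scheme.{u}}

/-- common generators on small affine neighbourhoods -/
theorem exists_isGen₂_le {N M : X.Modules} (hN : PicF.IsInvertible N) (hM : PicF.IsInvertible M)
    (x : X) (U : X.Opens) (hxU : x ∈ U) :
    ∃ W : X.Opens, IsAffineOpen W ∧ x ∈ W ∧ W ≤ U ∧
      ∃ (eN : Γ(N, W)) (eM : Γ(M, W)), IsGen N W eN ∧ IsGen M W eM := by
  obtain ⟨W1, -, hx1, hW1U, e1, he1⟩ := exists_isGen_le hN x U hxU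
  obtain ⟨W2, hW2, hx2, hW21, e2, he2⟩ := exists_isGen_le hM x W1 hx1
  exact ⟨W2, hW2, hx2, hW21.trans hW1U, rF N hW21 e1, e2, he1.res hW21, he2⟩

/-- at a point of the support of the cokernel, the coefficient of the morphism is not a unit -/
theorem notMem_basicOpen_of_mem_support [IsNoetherian X] {N M : X.Modules}
    (hN : PicF.IsInvertible N) (hM : PicF.IsInvertible M) (j : N ⟶ M) {x : X}
    (hx : x ∈ CohB1.support (cokernel j)) {W : X.Opens} (hW : IsAffineOpen W)
    {eN : Γ(N, W)} {eM : Γ(M, W)} (heN : IsGen N W eN) (heM : IsGen M W eM) {f : Γ(X, W)}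
    (hf : ap j W eN = f • eM) : x ∉ X.basicOpen f := by
  intro hxf
  have hNc := ProperFinH9.isCoh_of_isInvertible hN
  have hMc := ProperFinH9.isCoh_of_isInvertible hM
  have hV : IsAffineOpen (X.basicOpen f) := hW.basicOpen f
  have hVW : X.basicOpen f ≤ W := X.basicOpen_le f
  have hsurj : Function.Surjective (ap j (X.basicOpen f)) := by
    intro m
    obtain ⟨c, hc⟩ := (heM.res hVW).exists_coef m
    have hunit : IsUnit (rX hVW f) := X.toRingedSpace.isUnit_res_basicOpen f
    obtain ⟨u, hu⟩ := hunit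
    refine ⟨(c * ↑u⁻¹) • rF N hVW eN, ?_⟩
    rw [ap_smul, ap_rF, hf, rF_smul, smul_smul, hc, ← hu, mul_assoc, Units.inv_mul, mul_one]
  exact CohDevH8.support_cokernel_subset_compl hNc hMc j hV hsurj hx hxf

/-- a morphism of invertible modules factors through `I_x ⊗ M` at a closed point `x` of the support
of its cokernel -/
theorem comp_cokernel_eq_zero_hom [IsNoetherian X] {x : X} (hx : IsClosed ({x} : Set X))
    {N M : X.Modules} (hN : PicF.IsInvertible N) (hM : PicF.IsInvertible M) (j : N ⟶ M)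
    (hxs : x ∈ CohB1.support (cokernel j)) :
    j ≫ cokernel.π (twistι (Scheme.IdealSheafData.vanishingIdeal ⟨{x}, hx⟩) M) = 0 := by
  set Z := Scheme.IdealSheafData.vanishingIdeal ⟨{x}, hx⟩ with hZ
  apply Kosz.hom_ext_local
  intro U n y hy
  obtain ⟨W, hW, hyW, hWU, eN, eM, heN, heM⟩ := exists_isGen₂_le hN hM y U hy
  refine ⟨W, hWU, hyW, ?_⟩
  obtain ⟨c, hc⟩ := heN.exists_coef (rF N hWU n)
  obtain ⟨f, hf⟩ := heM.exists_coef (ap j W eN)
  have hxf := notMem_basicOpen_of_mem_support hN hM j hxs hW heN heM hf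
  have hfZ : f ∈ Z.ideal ⟨W, hW⟩ := mem_vanishingIdeal_of_notMem_basicOpen hx hW f hxf
  have hcfZ : c * f ∈ Z.ideal ⟨W, hW⟩ := Ideal.mul_mem_left _ c hfZ
  obtain ⟨m, hm⟩ := ap_twistι_tmul Z M hW (c * f) hcfZ eM
  show ap (cokernel.π (twistι Z M)) W (ap j W (rF N hWU n)) = ap 0 W (rF N hWU n)
  rw [hc, ap_smul, hf, smul_smul, ← hm]
  have h1 : ap (cokernel.π (twistι Z M)) W (ap (twistι Z M) W m) =
      ap (twistι Z M ≫ cokernel.π (twistι Z M)) W m := rfl
  rw [h1, cokernel.condition]
  rfl

end Local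

section Curve

variable (k : Type u) [Field k] (X : Scheme.{u}) [X.Over (Spec (CommRingCat.of k))]
  [IsIntegral X] [IsProper (X ↘ Spec (CommRingCat.of k))]

/-- a nonzero morphism of invertible modules is surjective on `H¹` -/
theorem HH1_hom_surjective (hdim : topologicalKrullDim X ≤ 1) {N L : X.Modules}
    (hN : PicF.IsInvertible N) (hL : PicF.IsInvertible L) (φ : N ⟶ L) (hφ : φ ≠ 0) :
    Function.Surjective (Canon.HHlin k φ 1) := by
  haveI : IsLocallyNoetherian X :=
    LocallyOfFiniteType.isLocallyNoetherian (X ↘ Spec (CommRingCat.of k))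
  haveI : CompactSpace X :=
    QuasiCompact.compactSpace_of_compactSpace (X ↘ Spec (CommRingCat.of k))
  haveI : IsNoetherian X := {}
  haveI hm := CurveDeg.mono_of_ne_zero hN hL φ hφ
  have hNc := ProperFinH9.isCoh_of_isInvertible hN
  have hLc := ProperFinH9.isCoh_of_isInvertible hL
  have hQc : Coh.IsCoh (cokernel φ) := CohKerH8.isCoh_cokernel hNc hLc φ
  let S : ShortComplex X.Modules := ShortComplex.mk φ (cokernel.π φ) (cokernel.condition φ)
  have hS : S.ShortExact :=
    ShortComplex.ShortExact.mk' (S.exact_of_g_is_cokernel (cokernelIsCokernel φ)) hm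
      (inferInstanceAs (Epi (cokernel.π φ)))
  have h3 : Subsingleton (Coh.HH X (cokernel φ) 1) :=
    ZeroDimAcyc.HH_subsingleton_of_zero_dim X _ hQc
      (CurveDeg.isClosed_singleton_of_mem_support_cokernel hN hL φ hφ hdim) 1 Nat.one_pos
  exact hmap_f_surjective S hS 1 h3

include k in
/-- a nonzero morphism of invertible modules which is not an isomorphism factors through
`I_x ⊗ M → M` for some closed point `x` -/
theorem exists_factor_point (hdim : topologicalKrullDim X ≤ 1) {N M : X.Modules}
    (hN : PicF.IsInvertible N) (hM : PicF.IsInvertible M) (j : N ⟶ M) (hj : j ≠ 0)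
    (hni : ¬ IsIso j) :
    ∃ (x : X) (hx : IsClosed ({x} : Set X))
      (j₁ : N ⟶ CohB1.tensorMod
        (ClSub.idealMod (Scheme.IdealSheafData.vanishingIdeal ⟨{x}, hx⟩)) M),
      j₁ ≫ twistι (Scheme.IdealSheafData.vanishingIdeal ⟨{x}, hx⟩) M = j := by
  haveI : IsLocallyNoetherian X :=
    LocallyOfFiniteType.isLocallyNoetherian (X ↘ Spec (CommRingCat.of k))
  haveI : CompactSpace X :=
    QuasiCompact.compactSpace_of_compactSpace (X ↘ Spec (CommRingCat.of k))
  haveI : IsNoetherian X := {}
  haveI hm := CurveDeg.mono_of_ne_zero hN hM j hj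
  have hne : (CohB1.support (cokernel j)).Nonempty := by
    rw [Set.nonempty_iff_ne_empty]
    intro hemp
    apply hni
    have hz := CohDevH8.isZero_of_support_eq_empty (cokernel j) hemp
    haveI : Epi j := Preadditive.epi_of_isZero_cokernel j hz
    exact isIso_of_mono_of_epi j
  obtain ⟨x, hxs⟩ := hne
  have hx := CurveDeg.isClosed_singleton_of_mem_support_cokernel hN hM j hj hdim x hxs
  haveI := mono_twistι (Scheme.IdealSheafData.vanishingIdeal ⟨{x}, hx⟩) hM
  exact ⟨x, hx, Abelian.monoLift _ j (comp_cokernel_eq_zero_hom hx hN hM j hxs),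
    Abelian.monoLift_comp _ _ _⟩

end Curve

end CurveSD
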