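import Mathlib
import Groth.Prelude
import Groth.Agent.Lib.HypConn_helper9
import Groth.Agent.Lib.ExtDual3_helper9
import Groth.Agent.Lib.CohDev11_helper8
import Groth.Agent.Lib.CohDev8_helper8

/-!
# Connectedness of closed subschemes of integral projective schemes via `H^1` of the ideal
(helper9).  APPEND-ONLY once landed.

* `finite_HH`: coherent cohomology of a closed subscheme of `P^n_k` is finite-dimensional
* `finrank_h0_of_isIntegral`: `h^0(O_X) = 1` for `X` integral, closed in `P^n_k`, `k` alg. closed
* `surjective_H0_of_h1_ideal`: `H^0(O_X) → H^0(O_X/I)` is onto when `H^1(I) = 0`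
* `connectedSpace_subscheme`: `Z(I)` nonempty and `H^1(X, I) = 0` imply `Z(I)` connected
-/

set_option autoImplicit false
universe u
open CategoryTheory CategoryTheory.Limits AlgebraicGeometry TopologicalSpace Opposite

namespace Groth.Agent.ProjConn

open QcqsLoc QCohExtn SerreCrit Groth.Agent.ProjDual Groth.Agent.ProjFin

section Fin

variable (k : Type u) [Field k] {X : Scheme.{u}} [X.Over (Spec (CommRingCat.of k))]
  {n : ℕ} (ι : X ⟶ CohB1.ProjSpace n k) [IsClosedImmersion ι]
  (hι : ι ≫ CohB1.ProjSpace.toSpec n k = X ↘ Spec (CommRingCat.of k))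

include hι in
/-- coherent cohomology of a closed subscheme of projective space over a field is
finite-dimensional -/
theorem finite_HH (F : X.Modules) (hF : Coh.IsCoh F) (p : ℕ) :
    Module.Finite k (Coh.HH X F p) := by
  haveI := hF.1
  haveI := Groth.Agent.ExtDual.finite_HH k n _ (CohDevH8.isCoh_pushforward_of_isFinite ι hF) p
  exact Module.Finite.equiv (Groth.Agent.PushEdgeNat.pushEdgeEquiv ι hι F p)

end Fin

section Int

variable (k : Type u) [Field k] {X : Scheme.{u}} [X.Over (Spec (CommRingCat.of k))]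

/-- `H^0(X, O_X)` is the ring of global functions -/
noncomputable def h0O : Coh.HH X (Coh.structureModule X) 0 ≃+ Γ(X, (⊤ : X.Opens)) :=
  h0 (Coh.structureModule X)

lemma h0O_smul (c : k) (v : Coh.HH X (Coh.structureModule X) 0) :
    h0O (c • v) = cc (X := X) k c * h0O v :=
  h0_smul (Coh.structureModule X) c v

/-- `H^0(X, O_X)` as a `k`-vector space is the ring of global functions with its structure map -/
lemma exists_cc_eq_of_finite [IsAlgClosed k] [IsIntegral X]
    [Module.Finite k (Coh.HH X (Coh.structureModule X) 0)] (w : Γ(X, (⊤ : X.Opens))) :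
    ∃ c : k, cc (X := X) k c = w := by
  letI : Algebra k Γ(X, (⊤ : X.Opens)) := (cc (X := X) k).toAlgebra
  let Hl : Coh.HH X (Coh.structureModule X) 0 ≃ₗ[k] Γ(X, (⊤ : X.Opens)) :=
    { (h0O (X := X)) with
      map_smul' := fun c v => by
        show h0O (c • v) = (cc (X := X) k c) * h0O v
        exact h0O_smul k c v }
  haveI : Module.Finite k Γ(X, (⊤ : X.Opens)) := Module.Finite.equiv Hl
  haveI : Algebra.IsIntegral k Γ(X, (⊤ : X.Opens)) := Algebra.IsIntegral.of_finite k _
  obtain ⟨c, hc⟩ := (IsAlgClosed.algebraMap_bijective_of_isIntegral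
    (k := k) (K := Γ(X, (⊤ : X.Opens)))).2 w
  exact ⟨c, hc⟩

theorem finrank_h0_of_isIntegral [IsAlgClosed k] [IsIntegral X]
    [Module.Finite k (Coh.HH X (Coh.structureModule X) 0)] :
    Module.finrank k (Coh.HH X (Coh.structureModule X) 0) = 1 := by
  rw [finrank_eq_one_iff']
  refine ⟨(h0O (X := X)).symm 1, ?_, ?_⟩
  · intro h
    have h2 := congrArg (h0O (X := X)) h
    rw [AddEquiv.apply_symm_apply, map_zero] at h2
    exact one_ne_zero h2
  · intro w
    obtain ⟨c, hc⟩ := exists_cc_eq_of_finite k (h0O w)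
    refine ⟨c, ?_⟩
    apply (h0O (X := X)).injective
    rw [h0O_smul, AddEquiv.apply_symm_apply, hc]
    exact mul_one _

end Int

section Conn

variable (k : Type u) [Field k] {X : Scheme.{u}} [X.Over (Spec (CommRingCat.of k))]
  (D : X.IdealSheafData)

/-- `H^0(O_X) → H^0(O_X/I)` is onto when `H^1(I) = 0` -/
theorem surjective_H0_of_h1_ideal (hvan : Subsingleton (Coh.HH X (ClSub.idealMod D) 1)) :
    Function.Surjective (Canon.HHlin k (ClSub.toSubscheme D) 0) := by
  have hS := Groth.Agent.HypSurf.ses_shortExact D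
  have key : Function.Surjective (Canon.HHlin k (Groth.Agent.HypSurf.ses D).g 0) := by
    intro y
    have h1 : y ∈ LinearMap.ker (δlin (A := k) (Groth.Agent.HypSurf.ses D) hS 0) := by
      rw [LinearMap.mem_ker]
      exact Subsingleton.elim (h := hvan) _ _
    rw [← range_HHlin_g] at h1
    exact h1
  exact key

/-- the structure sheaf of a nonempty scheme has nonzero `H^0` -/
lemma nontrivial_h0 {Z : Scheme.{u}} [Nonempty Z] :
    Nontrivial (Coh.HH Z (Coh.structureModule Z) 0) := by
  haveI : Nonempty (⊤ : Z.Opens) := ⟨⟨Classical.arbitrary Z, trivial⟩⟩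
  haveI : Nontrivial Γ(Z, (⊤ : Z.Opens)) := inferInstance
  exact (h0O (X := Z)).toEquiv.nontrivial

/-- **connectedness from `H^1` of the ideal**: on an integral scheme over an algebraically closed
field with finite-dimensional `H^0(O_X)`, a nonempty closed subscheme whose ideal has vanishing
`H^1` is connected -/
theorem connectedSpace_subscheme [IsAlgClosed k] [IsIntegral X]
    [Module.Finite k (Coh.HH X (Coh.structureModule X) 0)]
    (hne : Nonempty D.subscheme) (hvan : Subsingleton (Coh.HH X (ClSub.idealMod D) 1)) :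
    ConnectedSpace D.subscheme := by
  letI : D.subscheme.Over (Spec (CommRingCat.of k)) :=
    ⟨D.subschemeι ≫ (X ↘ Spec (CommRingCat.of k))⟩
  apply Groth.Agent.HypConn.connectedSpace_of_finrank_h0 (k := k)
  obtain ⟨e⟩ := Groth.Agent.HypConn.nonempty_linearEquiv_quotMod (A := k) D rfl 0
  rw [← e.finrank_eq]
  have hsurj := surjective_H0_of_h1_ideal k D hvan
  have h1 := finrank_h0_of_isIntegral k (X := X)
  haveI : Module.Finite k (Coh.HH X (ClSub.quotMod D) 0) := Module.Finite.of_surjective _ hsurj
  have hle : Module.finrank k (Coh.HH X (ClSub.quotMod D) 0) ≤ 1 := by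
    have hr : LinearMap.range (Canon.HHlin k (ClSub.toSubscheme D) 0) = ⊤ :=
      LinearMap.range_eq_top.mpr hsurj
    have h2 := LinearMap.finrank_range_le (Canon.HHlin k (ClSub.toSubscheme D) 0)
    rw [hr, finrank_top, h1] at h2
    exact h2
  haveI : Nontrivial (Coh.HH X (ClSub.quotMod D) 0) := by
    haveI := nontrivial_h0 (Z := D.subscheme)
    exact e.toEquiv.nontrivial
  have hpos : 0 < Module.finrank k (Coh.HH X (ClSub.quotMod D) 0) := Module.finrank_pos
  omega

end Conn

section Alg

/-- a finite-dimensional reduced algebra over an algebraically closed field with only the trivial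
idempotents is the field itself -/
theorem algebraMap_surjective_of_trivial_idempotents (k : Type u) [Field k] [IsAlgClosed k]
    (B : Type u) [CommRing B] [Algebra k B] [Module.Finite k B] [IsReduced B] [Nontrivial B]
    (hid : ∀ e : B, e * e = e → e = 0 ∨ e = 1) : Function.Surjective (algebraMap k B) := by
  haveI : IsArtinianRing B := IsArtinianRing.of_finite k B
  haveI : Subsingleton (MaximalSpectrum B) := by
    constructor
    intro m₁ m₂
    by_contra hne
    classical
    let φ := IsArtinianRing.equivPi B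
    let v : ∀ I : MaximalSpectrum B, B ⧸ I.asIdeal := Pi.single m₁ 1
    have hv : v * v = v := by
      ext I
      by_cases h : I = m₁
      · subst h; simp [v]
      · simp [v, Pi.single_apply, h]
    have he : φ.symm v * φ.symm v = φ.symm v := by rw [← map_mul, hv]
    haveI : Nontrivial (B ⧸ m₁.asIdeal) := Ideal.Quotient.nontrivial_iff.mpr m₁.isMaximal.ne_top
    haveI : Nontrivial (B ⧸ m₂.asIdeal) := Ideal.Quotient.nontrivial_iff.mpr m₂.isMaximal.ne_top
    rcases hid _ he with h0 | h1
    · have : v = 0 := by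
        have := congrArg φ h0
        rwa [AlgEquiv.apply_symm_apply, map_zero] at this
      have h2 := congrFun this m₁
      simp [v] at h2
    · have : v = 1 := by
        have := congrArg φ h1
        rwa [AlgEquiv.apply_symm_apply, map_one] at this
      have h2 := congrFun this m₂
      simp [v, Pi.single_apply, Ne.symm hne] at h2
  haveI : IsLocalRing B := IsLocalRing.of_singleton_maximalSpectrum
  have hf : IsField B := IsArtinianRing.isField_of_isReduced_of_isLocalRing B
  haveI : IsDomain B := hf.isDomain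
  haveI : Algebra.IsIntegral k B := Algebra.IsIntegral.of_finite k B
  exact (IsAlgClosed.algebraMap_bijective_of_isIntegral (k := k) (K := B)).2

end Alg

section Idem

variable {Z : Scheme.{u}}

/-- on a connected reduced scheme the only idempotent global functions are `0` and `1` -/
theorem idempotent_eq_zero_or_one [ConnectedSpace Z] [IsReduced Z] (e : Γ(Z, (⊤ : Z.Opens)))
    (he : e * e = e) : e = 0 ∨ e = 1 := by
  have hdisj : Z.basicOpen e ⊓ Z.basicOpen (1 - e) = ⊥ := by
    rw [← Scheme.basicOpen_mul]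
    have : e * (1 - e) = 0 := by rw [mul_sub, mul_one, he, sub_self]
    rw [this, Scheme.basicOpen_zero]
  have hcov : Z.basicOpen e ⊔ Z.basicOpen (1 - e) = ⊤ := by
    apply top_le_iff.mp
    have h1 := Z.basicOpen_add_le e (1 - e)
    rwa [add_sub_cancel, Scheme.basicOpen_one] at h1
  have hclopen : IsClopen (Z.basicOpen e : Set Z) := by
    refine ⟨?_, (Z.basicOpen e).isOpen⟩
    have hcompl : ((Z.basicOpen e : Set Z))ᶜ = (Z.basicOpen (1 - e) : Set Z) := by
      ext x
      constructor
      · intro hx
        have hx' : x ∈ Z.basicOpen e ⊔ Z.basicOpen (1 - e) := by rw [hcov]; trivial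
        rcases hx' with h | h
        · exact absurd h hx
        · exact h
      · intro hx hx'
        have : x ∈ Z.basicOpen e ⊓ Z.basicOpen (1 - e) := ⟨hx', hx⟩
        rw [hdisj] at this
        exact this
    rw [← isOpen_compl_iff, hcompl]
    exact (Z.basicOpen (1 - e)).isOpen
  rcases isClopen_iff.mp hclopen with h | h
  · left
    have : Z.basicOpen e = ⊥ := by
      ext x
      simp only [h, Set.mem_empty_iff_false, Opens.coe_bot]
    exact (AlgebraicGeometry.basicOpen_eq_bot_iff e).mp this
  · right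
    have h2 : Z.basicOpen (1 - e) = ⊥ := by
      have h3 : Z.basicOpen e = ⊤ := by
        ext x
        simp only [h, Opens.coe_top]
      rw [h3, top_inf_eq] at hdisj
      exact hdisj
    have := (AlgebraicGeometry.basicOpen_eq_bot_iff (1 - e)).mp h2
    exact (sub_eq_zero.mp this).symm

end Idem

section Van

variable (k : Type u) [Field k]

/-- if every global function is constant then `h^0(O) = 1` -/
theorem finrank_h0_of_forall_exists_cc {Z : Scheme.{u}} [Z.Over (Spec (CommRingCat.of k))]
    [Nonempty Z] (h : ∀ w : Γ(Z, (⊤ : Z.Opens)), ∃ c : k, cc (X := Z) k c = w) :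
    Module.finrank k (Coh.HH Z (Coh.structureModule Z) 0) = 1 := by
  haveI : Nonempty (⊤ : Z.Opens) := ⟨⟨Classical.arbitrary Z, trivial⟩⟩
  rw [finrank_eq_one_iff']
  refine ⟨(h0O (X := Z)).symm 1, ?_, ?_⟩
  · intro h'
    have h2 := congrArg (h0O (X := Z)) h'
    rw [AddEquiv.apply_symm_apply, map_zero] at h2
    exact one_ne_zero h2
  · intro w
    obtain ⟨c, hc⟩ := h (h0O w)
    refine ⟨c, ?_⟩
    apply (h0O (X := Z)).injective
    rw [h0O_smul, AddEquiv.apply_symm_apply, hc]
    exact mul_one _

/-- global functions on a connected reduced scheme with finite-dimensional `H^0(O)` over an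
algebraically closed field are constant -/
lemma exists_cc_eq_of_connected_reduced [IsAlgClosed k] {Z : Scheme.{u}}
    [Z.Over (Spec (CommRingCat.of k))] [ConnectedSpace Z] [IsReduced Z]
    [Module.Finite k (Coh.HH Z (Coh.structureModule Z) 0)] (w : Γ(Z, (⊤ : Z.Opens))) :
    ∃ c : k, cc (X := Z) k c = w := by
  letI : Algebra k Γ(Z, (⊤ : Z.Opens)) := (cc (X := Z) k).toAlgebra
  let Hl : Coh.HH Z (Coh.structureModule Z) 0 ≃ₗ[k] Γ(Z, (⊤ : Z.Opens)) :=
    { (h0O (X := Z)) with
      map_smul' := fun c v => by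
        show h0O (c • v) = (cc (X := Z) k c) * h0O v
        exact h0O_smul k c v }
  haveI : Module.Finite k Γ(Z, (⊤ : Z.Opens)) := Module.Finite.equiv Hl
  haveI : Nonempty (⊤ : Z.Opens) := ⟨⟨Classical.arbitrary Z, trivial⟩⟩
  haveI : Nontrivial Γ(Z, (⊤ : Z.Opens)) := inferInstance
  haveI : _root_.IsReduced Γ(Z, (⊤ : Z.Opens)) := inferInstance
  exact algebraMap_surjective_of_trivial_idempotents k Γ(Z, (⊤ : Z.Opens))
    (fun e he => idempotent_eq_zero_or_one e he) w

variable {X : Scheme.{u}} [X.Over (Spec (CommRingCat.of k))] (D : X.IdealSheafData)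
  [D.subscheme.Over (Spec (CommRingCat.of k))]
  (hinst : D.subscheme ↘ Spec (CommRingCat.of k) = D.subschemeι ≫ (X ↘ Spec (CommRingCat.of k)))

/-- the restriction `H^0(O_X) → H^0(O_X/I)` does not kill the unit section -/
lemma HHlin_toSubscheme_one_ne_zero [Nonempty D.subscheme] :
    Canon.HHlin k (ClSub.toSubscheme D) 0 ((h0O (X := X)).symm 1) ≠ 0 := by
  intro h
  have h1 := h0_nat (ClSub.toSubscheme D) ((h0O (X := X)).symm 1)
  have h2 : h0 (ClSub.quotMod D) (Groth.Agent.HHVan.hmap (ClSub.toSubscheme D) 0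
      ((h0O (X := X)).symm 1)) = 0 := by
    have : Groth.Agent.HHVan.hmap (ClSub.toSubscheme D) 0 ((h0O (X := X)).symm 1) = 0 := h
    rw [this, map_zero]
  rw [h2] at h1
  have h3 : h0 (Coh.structureModule X) ((h0O (X := X)).symm 1) = (1 : Γ(X, (⊤ : X.Opens))) :=
    (h0O (X := X)).apply_symm_apply 1
  rw [h3] at h1
  have h4 : ap (ClSub.toSubscheme D) ⊤ (1 : Γ(X, (⊤ : X.Opens))) =
      (D.subschemeι.app ⊤).hom 1 := rfl
  rw [h4, map_one] at h1
  haveI : Nonempty (D.subschemeι ⁻¹ᵁ (⊤ : X.Opens) : D.subscheme.Opens) :=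
    ⟨⟨Classical.arbitrary _, trivial⟩⟩
  have h5 : (1 : Γ(D.subscheme, D.subschemeι ⁻¹ᵁ (⊤ : X.Opens))) = 0 := h1
  exact one_ne_zero h5

include hinst in
/-- **vanishing of `H^1` of the ideal of a connected reduced closed subscheme** when
`H^1(O_X) = 0` and `H^0` of the subscheme is finite-dimensional, over an algebraically closed
field -/
theorem subsingleton_h1_ideal [IsAlgClosed k] [ConnectedSpace D.subscheme] [IsReduced D.subscheme]
    [Module.Finite k (Coh.HH D.subscheme (Coh.structureModule D.subscheme) 0)]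
    (hH1 : Subsingleton (Coh.HH X (Coh.structureModule X) 1)) :
    Subsingleton (Coh.HH X (ClSub.idealMod D) 1) := by
  obtain ⟨e⟩ := Groth.Agent.HypConn.nonempty_linearEquiv_quotMod (A := k) D hinst 0
  have hrk : Module.finrank k (Coh.HH X (ClSub.quotMod D) 0) = 1 := by
    rw [e.finrank_eq]
    exact finrank_h0_of_forall_exists_cc k (exists_cc_eq_of_connected_reduced k)
  have hne := HHlin_toSubscheme_one_ne_zero k D
  have hsurj : Function.Surjective (Canon.HHlin k (ClSub.toSubscheme D) 0) := by
    intro y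
    obtain ⟨c, hc⟩ := (finrank_eq_one_iff_of_nonzero' _ hne).mp hrk y
    exact ⟨c • (h0O (X := X)).symm 1, by rw [map_smul, hc]⟩
  have hS := Groth.Agent.HypSurf.ses_shortExact D
  have hx : ∀ z : Coh.HH X (Groth.Agent.HypSurf.ses D).X₁ 1, z = 0 := by
    intro z
    have h1 : z ∈ LinearMap.ker (Canon.HHlin k (Groth.Agent.HypSurf.ses D).f 1) := by
      rw [LinearMap.mem_ker]
      exact Subsingleton.elim (h := hH1) _ _
    rw [← Groth.Agent.LESLin.range_δlin k _ hS] at h1
    obtain ⟨y, rfl⟩ := h1
    obtain ⟨x, rfl⟩ := hsurj y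
    have h2 : Canon.HHlin k (Groth.Agent.HypSurf.ses D).g 0 x ∈
        LinearMap.ker (δlin (A := k) (Groth.Agent.HypSurf.ses D) hS 0) := by
      rw [← range_HHlin_g]
      exact ⟨x, rfl⟩
    exact h2
  exact ⟨fun a b => by rw [hx a, hx b]⟩

end Van

end Groth.Agent.ProjConn
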