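import Mathlib
import Groth.Prelude
import Groth.Agent.Lib.PForm3_helper9
import Groth.Agent.Lib.Tens45_helper8
import Groth.Agent.Lib.ProjTens2_helper9
import Groth.Agent.Lib.Leray_helper9
import Groth.Agent.Lib.RpushVanish_helper9
import Groth.Agent.Lib.CohDev11_helper8

/-!
# Twists of coherent modules on a closed subscheme of `P^r_A`: Serre vanishing (helper9)
APPEND-ONLY once landed.
-/

set_option autoImplicit false

namespace Groth.Agent.ClImmTw

open AlgebraicGeometry CategoryTheory CategoryTheory.Limits TopologicalSpace Opposite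
open PFormH9

universe u

variable (A : Type u) [CommRing A] (r : ℕ)

theorem isFinLocFree_twist (n : ℤ) : FlatMod.IsFinLocFree (Twist.twistProjSpace r A n) :=
  TensH8.isFinLocFree_of_isInvertible
    (Groth.Agent.ProjTw.isInvertible_twist (CohB1.polyGrading r A)
      (Groth.Agent.ProjTens.hcov' r A) n)

variable {X : Scheme.{u}} {Y : Scheme.{u}} (i : X ⟶ Y)

/-- cohomology of `G` on a closed subscheme is the cohomology of `i_* G`. -/
theorem subsingleton_HH_of_push [IsClosedImmersion i] (G : X.Modules) (j : ℕ)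
    (h : Subsingleton (Coh.HH Y ((Scheme.Modules.pushforward i).obj G) j)) :
    Subsingleton (Coh.HH X G j) := by
  obtain ⟨e⟩ := _root_.Leray.nonempty_H_addEquiv_push i.base (Coh.toAb G)
    (fun q => _root_.RpushVanish.isZero_Rpush_succ_of_isClosedEmbedding i.base
      i.isClosedEmbedding (Coh.toAb G) q) j
  haveI : Subsingleton (CohTop.H ((CohTop.push i.base).obj (Coh.toAb G)) j) := h
  exact e.toEquiv.subsingleton

/-- the projection formula for a twist: `i_*(F ⊗ i^* E) ≅ i_* F ⊗ E`. -/
noncomputable def pushTwistIso (E : Y.Modules) (hE : FlatMod.IsFinLocFree E) (F : X.Modules) :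
    (Scheme.Modules.pushforward i).obj (CohB1.tensorMod F ((Scheme.Modules.pullback i).obj E)) ≅
      CohB1.tensorMod ((Scheme.Modules.pushforward i).obj F) E :=
  (Scheme.Modules.pushforward i).mapIso (Groth.Agent.TensInv.comm _ _) ≪≫
    ((projIso i E hE).app F).symm ≪≫ Groth.Agent.TensInv.comm _ _

/-- **Serre vanishing on a closed subscheme of `P^r_A`**, `A` Noetherian. -/
theorem exists_vanishing [IsNoetherianRing A] {X : Scheme.{u}} (i : X ⟶ CohB1.ProjSpace r A)
    [IsClosedImmersion i] (F : X.Modules) (hF : Coh.IsCoh F) :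
    ∃ N : ℤ, ∀ n : ℤ, N ≤ n → ∀ j : ℕ, 1 ≤ j →
      Subsingleton (Coh.HH X (CohB1.tensorMod F
        ((Scheme.Modules.pullback i).obj (Twist.twistProjSpace r A n))) j) := by
  obtain ⟨N, hN⟩ := Groth.Agent.ProjTens.serre_vanishing r A _
    (CohDevH8.isCoh_pushforward_of_isFinite i hF)
  refine ⟨N, fun n hn j hj => ?_⟩
  apply subsingleton_HH_of_push i
  exact Groth.Agent.HHVan.subsingleton_of_iso
    (pushTwistIso i _ (isFinLocFree_twist A r n) F).symm j (hN n hn j hj)

end Groth.Agent.ClImmTw
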