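import Mathlib
import Groth.Prelude
import Groth.Agent.Lib.FlatBC2_helper2
import Groth.Agent.Lib.Desc3_helper8
import Groth.Agent.Lib.PB9_helper8
import Groth.Agent.Lib.InvInt2_helper9
import Groth.Agent.Lib.SerreFT1_helper9
import Groth.Agent.Lib.BMod2_helper6

/-!
# Global generation descends along faithfully flat base change of an affine base (helper9)
APPEND-ONLY once landed.
-/

set_option autoImplicit false
universe u
open AlgebraicGeometry CategoryTheory CategoryTheory.Limits TopologicalSpace Opposite
open QcqsLoc QCohExtn SerreCrit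

namespace Groth.Agent.GGDesc

section General

variable {X X' : Scheme.{u}} (g : X' ⟶ X)

set_option backward.isDefEq.respectTransparency false in
/-- the pullback of a globally generated module is globally generated -/
theorem gg_pullback {F : X.Modules} (h : Curv2.IsGloballyGenerated F) :
    Curv2.IsGloballyGenerated ((Scheme.Modules.pullback g).obj F) := by
  obtain ⟨ι, p, hp⟩ := h
  haveI : Epi ((Scheme.Modules.pullback g).map p) := inferInstance
  exact ⟨ι, (SheafOfModules.pullbackObjFreeIso g.toRingCatSheafHom ι).inv ≫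
    (Scheme.Modules.pullback g).map p, epi_comp _ _⟩

/-- the global sections of a globally generated module are jointly epimorphic -/
theorem jointlyEpi_of_gg {H : X.Modules} (h : Curv2.IsGloballyGenerated H)
    (C : X.Modules) (c : H ⟶ C) (hc : ∀ σ : OO X ⟶ H, σ ≫ c = 0) : c = 0 := by
  obtain ⟨ι, p, hp⟩ := h
  have h1 : p ≫ c = 0 := by
    refine Cofan.IsColimit.hom_ext
      (SheafOfModules.isColimitFreeCofan (R := X.ringCatSheaf) ι) _ _ (fun i => ?_)
    exact ((Category.assoc _ _ _).symm.trans (hc _)).trans comp_zero.symm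
  exact (cancel_epi p).1 (h1.trans comp_zero.symm)

end General

section Main

open Groth.Agent.Lib.FlatBCH2 Groth.Agent.Lib.FormalFnH2

variable {A B : Type u} [CommRing A] [CommRing B] [Algebra A B] [Module.FaithfullyFlat A B]
  {X X' : Scheme.{u}} [X.Over (Spec (CommRingCat.of A))] [X'.Over (Spec (CommRingCat.of B))]
  (g : X' ⟶ X)
  (hsq : IsPullback g (X' ↘ Spec (CommRingCat.of B)) (X ↘ Spec (CommRingCat.of A))
    (Spec.map (CommRingCat.ofHom (algebraMap A B))))

include hsq in
theorem flat_and_surjective_of_sq : Flat g ∧ Surjective g := by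
  have h1 : Flat (Spec.map (CommRingCat.ofHom (algebraMap A B))) ∧
      Surjective (Spec.map (CommRingCat.ofHom (algebraMap A B))) := by
    rw [flat_and_surjective_SpecMap_iff]
    exact RingHom.faithfullyFlat_algebraMap_iff.mpr inferInstance
  exact ⟨MorphismProperty.of_isPullback (P := @Flat) hsq.flip h1.1,
    MorphismProperty.of_isPullback (P := @Surjective) hsq.flip h1.2⟩

set_option backward.isDefEq.respectTransparency false in
include hsq in
/-- **global generation descends along a faithfully flat base change of the affine base** -/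
theorem gg_of_gg_pullback [CompactSpace X] [QuasiSeparatedSpace X]
    (F : X.Modules) [F.IsQuasicoherent]
    (h : Curv2.IsGloballyGenerated ((Scheme.Modules.pullback g).obj F)) :
    Curv2.IsGloballyGenerated F := by
  -- the evaluation map
  let ev : (SheafOfModules.free (R := X.ringCatSheaf) (OO X ⟶ F) : X.Modules) ⟶ F :=
    Sigma.desc (fun σ : OO X ⟶ F => σ)
  haveI : (SheafOfModules.free (R := X.ringCatSheaf) (OO X ⟶ F) : X.Modules).IsQuasicoherent :=
    inferInstanceAs (SheafOfModules.free (R := X.ringCatSheaf) (OO X ⟶ F)).IsQuasicoherent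
  haveI : (cokernel ev).IsQuasicoherent := Groth.Agent.Lib.BModH6.isQuasicoherent_cokernel ev
  -- global sections of `F` are killed by the projection to the cokernel
  have hπ : ∀ m : Γ(F, ⊤), ap (cokernel.π ev) ⊤ m = 0 := by
    intro m
    have h1 : SerreFT.secHom F m ≫ cokernel.π ev = 0 := by
      have h2 : SerreFT.secHom F m =
          Sigma.ι (fun _ : OO X ⟶ F => OO X) (SerreFT.secHom F m) ≫ ev :=
        (Sigma.ι_desc (fun σ : OO X ⟶ F => σ) (SerreFT.secHom F m)).symm
      rw [h2, Category.assoc, cokernel.condition, comp_zero]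
    have h3 : ap (SerreFT.secHom F m ≫ cokernel.π ev) ⊤ (ofFn (1 : Γ(X, ⊤))) = 0 := by
      rw [h1]
      rfl
    rw [SerreCrit.ap_comp, SerreFT.secHom_one] at h3
    exact h3
  set P := (Scheme.Modules.pullback g).obj F with hP
  -- all global sections of `P` are killed by the pulled back projection
  have hPz : ∀ t : Γ(P, ⊤), ap ((Scheme.Modules.pullback g).map (cokernel.π ev)) ⊤ t = 0 := by
    letI mAF : Module A Γ(F, ⊤) := secMod A F ⊤
    letI mBP : Module B Γ(P, ⊤) := secMod B P ⊤
    letI mAP : Module A Γ(P, ⊤) := secModA A B P ⊤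
    haveI : IsScalarTower A B Γ(P, ⊤) := secTower A B P ⊤
    let c : Γ(F, ⊤) →ₗ[A] Γ(P, ⊤) :=
      { toFun := fun x => PBH8.cUV g F (topLe g) x
        map_add' := fun x y => PBH8.cUV_add g F _ x y
        map_smul' := fun a x => by
          show PBH8.cUV g F (topLe g) (rUHom (A := A) (X := X) ⊤ a • x) =
            rUHom (A := B) (X := X') ⊤ (algebraMap A B a) • PBH8.cUV g F (topLe g) x
          rw [PBH8.cUV_smul]
          congr 1
          exact appLE_rUHom g hsq ⊤ a }
    have hc : IsBaseChange B c := isBaseChange_cTop hsq F c (fun m => rfl)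
    intro t
    refine hc.inductionOn t
      (fun t => ap ((Scheme.Modules.pullback g).map (cokernel.π ev)) ⊤ t = 0) ?_ ?_ ?_ ?_
    · exact map_zero _
    · intro m
      show ap ((Scheme.Modules.pullback g).map (cokernel.π ev)) ⊤
        (PBH8.cUV g F (topLe g) m) = 0
      have h4 := PBH8.cUV_naturality g (cokernel.π ev) (topLe g) m
      refine h4.trans ?_
      have h5 : Scheme.Modules.Hom.app (cokernel.π ev) ⊤ m = 0 := hπ m
      rw [h5]
      have h6 := PBH8.cUV_add g (cokernel ev) (topLe g) 0 0
      rw [add_zero] at h6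
      exact left_eq_add.mp h6
    · intro b n hn
      show ap ((Scheme.Modules.pullback g).map (cokernel.π ev)) ⊤
        (rUHom (A := B) (X := X') ⊤ b • n) = 0
      rw [ap_smul, hn, smul_zero]
    · intro n₁ n₂ h₁ h₂
      show ap ((Scheme.Modules.pullback g).map (cokernel.π ev)) ⊤ (n₁ + n₂) = 0
      rw [map_add, h₁, h₂, add_zero]
  -- hence the pulled back projection vanishes
  have hπ'0 : (Scheme.Modules.pullback g).map (cokernel.π ev) = 0 := by
    apply jointlyEpi_of_gg h
    intro σ
    apply Groth.Agent.InvInt.hom_OO_ext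
    rw [SerreCrit.ap_comp, hPz]
    rfl
  haveI : Epi ((Scheme.Modules.pullback g).map (cokernel.π ev)) := inferInstance
  have hz : IsZero ((Scheme.Modules.pullback g).obj (cokernel ev)) := by
    rw [IsZero.iff_id_eq_zero]
    apply (cancel_epi ((Scheme.Modules.pullback g).map (cokernel.π ev))).1
    rw [hπ'0, zero_comp, zero_comp]
  -- descent
  obtain ⟨hfl, hsu⟩ := flat_and_surjective_of_sq g hsq
  have hR : DescH8.IsFlatCover (Presieve.singleton g) :=
    ⟨fun Z g' hg' => by cases hg'; exact hfl, fun y => by
      obtain ⟨x, hx⟩ := hsu.surj y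
      exact ⟨X', g, Presieve.singleton_self g, x, hx⟩⟩
  have hiso : IsIso (0 : cokernel ev ⟶ cokernel ev) := by
    refine DescH8.isIso_of_flatCover _ hR (fun Z g' hg' => ?_)
    cases hg'
    refine ⟨0, hz.eq_of_src _ _, hz.eq_of_src _ _⟩
  have hz0 : IsZero (cokernel ev) := by
    rw [IsZero.iff_id_eq_zero]
    have := IsIso.hom_inv_id (0 : cokernel ev ⟶ cokernel ev)
    rw [zero_comp] at this
    exact this.symm
  haveI : Epi ev := Preadditive.epi_of_isZero_cokernel ev hz0
  exact ⟨_, ev, inferInstance⟩

end Main

end Groth.Agent.GGDesc
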