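import Mathlib
import Groth.Prelude
import Groth.Agent.Lib.BirCurve1_helper9
import Groth.Agent.Lib.CurveDeg1_helper9
import Groth.Agent.Lib.CohKer_helper8

/-!
# Proper birational morphisms onto reduced curves with equal genus are isomorphisms (helper9)

Coherence of `f_* O_{X'}` for finite `f`, injectivity of `O_X ⟶ f_* O_{X'}` for reduced `X`, and the
criterion of S1603.
APPEND-ONLY once landed.
-/

set_option autoImplicit false
universe u
open CategoryTheory CategoryTheory.Limits AlgebraicGeometry Opposite TopologicalSpace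

namespace BirCurve

open QcqsLoc QCohExtn SerreCrit Groth.Agent.HHVan

section Coh

variable {X X' : Scheme.{u}} (f : X' ⟶ X)

/-- sections of `f_* O_{X'}` over `W` as an `O_X(W)`-module -/
noncomputable def pushSecEquiv (W : X.Opens) :
    letI := (f.app W).hom.toAlgebra
    Γ(X', f ⁻¹ᵁ W) ≃ₗ[Γ(X, W)] Γ((Scheme.Modules.pushforward f).obj (OO X'), W) :=
  letI := (f.app W).hom.toAlgebra
  { toFun := fun a => a
    invFun := fun s => s
    map_add' := fun _ _ => rfl
    map_smul' := fun _ _ => rfl
    left_inv := fun _ => rfl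
    right_inv := fun _ => rfl }

/-- the direct image of the structure sheaf under a finite morphism is coherent -/
theorem isCoh_push_OO [IsFinite f] : Coh.IsCoh ((Scheme.Modules.pushforward f).obj (OO X')) := by
  haveI : (OO X').IsQuasicoherent := SerreCrit.isQuasicoherent_OO
  haveI : ((Scheme.Modules.pushforward f).obj (OO X')).IsQuasicoherent :=
    QCohCrit.isQuasicoherent_pushforward f (OO X')
  refine ⟨inferInstance, ?_⟩
  refine QCohCrit.isFiniteType_of_sections_cover _
    (fun U : X.affineOpens => (U : X.Opens)) (fun U => U.2) (iSup_affineOpens_eq_top X)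
    (fun U => ?_)
  have hfin : (f.app U.1).hom.Finite := f.finite_app U.1 U.2
  letI := (f.app U.1).hom.toAlgebra
  haveI : Module.Finite Γ(X, U.1) Γ(X', f ⁻¹ᵁ U.1) := hfin
  exact Module.Finite.equiv (pushSecEquiv f U.1)

end Coh

section Reduced

variable {X X' : Scheme.{u}} (f : X' ⟶ X)

/-- on a reduced scheme the comparison map is injective on sections -/
theorem unitMap_injective [IsReduced X] (U : X.Opens) (hU : Dense (U : Set X))
    [IsIso (f ∣_ U)] (W : X.Opens) : Function.Injective (ap (unitMap f) W) := by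
  rw [injective_iff_map_eq_zero]
  intro a ha
  have hres : rF (OO X) (inf_le_left : W ⊓ U ≤ W) a = 0 := by
    apply (unitMap_bijective f U (inf_le_right : W ⊓ U ≤ U)).1
    rw [ap_rF, ha, map_zero, map_zero]
  show toFn a = 0
  apply eq_zero_of_basicOpen_eq_bot
  by_contra hne
  have hne' : ((X.basicOpen (toFn a) : X.Opens) : Set X).Nonempty := by
    rw [Set.nonempty_iff_ne_empty]
    intro h
    apply hne
    ext x
    simp only [SetLike.mem_coe] at h ⊢
    constructor
    · intro hx
      have : x ∈ ((X.basicOpen (toFn a) : X.Opens) : Set X) := hx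
      rw [h] at this
      exact this.elim
    · intro hx
      exact hx.elim
  obtain ⟨y, hy1, hy2⟩ := hU.inter_open_nonempty _ (X.basicOpen (toFn a)).isOpen hne'
  have hyW : y ∈ W := X.basicOpen_le (toFn a) hy1
  have h1 : X.basicOpen (rX (inf_le_left : W ⊓ U ≤ W) (toFn a)) = (W ⊓ U) ⊓ X.basicOpen (toFn a) :=
    Scheme.basicOpen_res X (toFn a) (homOfLE (inf_le_left : W ⊓ U ≤ W)).op
  have h2 : rX (inf_le_left : W ⊓ U ≤ W) (toFn a) = 0 := hres
  rw [h2, Scheme.basicOpen_zero] at h1
  have h3 : y ∈ ((W ⊓ U) ⊓ X.basicOpen (toFn a) : X.Opens) := ⟨⟨hyW, hy2⟩, hy1⟩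
  rw [← h1] at h3
  exact h3.elim

theorem mono_unitMap [IsReduced X] (U : X.Opens) (hU : Dense (U : Set X))
    [IsIso (f ∣_ U)] : Mono (unitMap f) :=
  FComplH8.mono_of_app_injective _ (unitMap_injective f U hU)

end Reduced

section LES

open Abelian in
/-- abstract form: if `Ext⁰(A, f)` is surjective and `Ext¹(A, f)` injective then `Ext⁰(A, X₃) = 0` -/
theorem ext_X₃_eq_zero {C : Type*} [Category C] [Abelian C] [HasExt.{u} C]
    {S : ShortComplex C} (hS : S.ShortExact) (A : C)
    (h0 : ∀ y : Ext A S.X₂ 0, ∃ x : Ext A S.X₁ 0, x.comp (Ext.mk₀ S.f) (add_zero 0) = y)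
    (h1 : ∀ w : Ext A S.X₁ 1, w.comp (Ext.mk₀ S.f) (add_zero 1) = 0 → w = 0)
    (z : Ext A S.X₃ 0) : z = 0 := by
  have hδ : z.comp hS.extClass (rfl : 0 + 1 = 1) = 0 := by
    apply h1
    rw [Ext.comp_assoc _ _ _ (rfl : 0 + 1 = 1) (add_zero 1) (by omega : 0 + 1 + 0 = 1),
      hS.extClass_comp, Ext.comp_zero]
  obtain ⟨y, hy⟩ := Ext.covariant_sequence_exact₃ A hS z (rfl : 0 + 1 = 1) hδ
  obtain ⟨x, hx⟩ := h0 y
  rw [← hy, ← hx, Ext.comp_assoc _ _ _ (add_zero 0) (add_zero 0)
    (by omega : 0 + 0 + 0 = 0), Ext.mk₀_comp_mk₀, S.zero, Ext.mk₀_zero, Ext.comp_zero]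

variable {X : Scheme.{u}}

/-- if `H⁰(f)` is surjective and `H¹(f)` injective then `H⁰` of the cokernel vanishes -/
theorem HH0_X₃_subsingleton (S : ShortComplex X.Modules) (hS : S.ShortExact)
    (h0 : Function.Surjective (hmap S.f 0)) (h1 : Function.Injective (hmap S.f 1)) :
    Subsingleton (Coh.HH X S.X₃ 0) := by
  have hT := SerreCrit.shortExact_toSheaf S hS
  have key : ∀ z : Coh.HH X S.X₃ 0, z = 0 := by
    intro z
    refine ext_X₃_eq_zero hT _ (fun y => ?_) (fun w hw => ?_) z
    · obtain ⟨x, hx⟩ := h0 y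
      exact ⟨x, hx⟩
    · apply h1
      exact hw.trans (map_zero (hmap S.f 1)).symm
  exact ⟨fun a b => by rw [key a, key b]⟩

end LES

section Main

variable (k : Type u) [Field k] {X X' : Scheme.{u}} [X.Over (Spec (CommRingCat.of k))]
  [X'.Over (Spec (CommRingCat.of k))] [IsProper (X ↘ Spec (CommRingCat.of k))]

/-- a finite morphism inducing bijections on all sections is an isomorphism -/
theorem isIso_of_app_bijective (f : X' ⟶ X) [IsAffineHom f]
    (hbij : ∀ W : X.Opens, Function.Bijective (f.app W).hom) : IsIso f := by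
  have h1 : ∀ W : X.affineOpens, MorphismProperty.isomorphisms Scheme (f ∣_ W.1) := by
    intro W
    have hW : IsAffineOpen W.1 := W.2
    have h3 : IsIso (f.app W.1) := (ConcreteCategory.isIso_iff_bijective _).mpr (hbij W.1)
    exact (isIso_morphismRestrict_iff_isIso_app (f := f) hW).mpr h3
  have h2 := IsZariskiLocalAtTarget.of_iSup_eq_top (P := MorphismProperty.isomorphisms Scheme)
    (f := f) (fun W : X.affineOpens => (W : X.Opens)) (iSup_affineOpens_eq_top X) h1
  exact h2

/-- **criterion of S1603**: a proper birational morphism onto a reduced curve which is surjective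
on global functions and preserves the genus is an isomorphism -/
theorem isIso_of_genus_eq [IsReduced X] (hdim : topologicalKrullDim X ≤ 1) (f : X' ⟶ X)
    [IsProper f] (hf : f ≫ (X ↘ Spec (CommRingCat.of k)) = X' ↘ Spec (CommRingCat.of k))
    (U : X.Opens) (hU : Dense (U : Set X)) (hU' : Dense ((f ⁻¹ᵁ U : X'.Opens) : Set X'))
    (hfU : IsIso (f ∣_ U)) (h0 : Function.Surjective (f.app ⊤).hom)
    (h1 : Curv2.genus k X' = Curv2.genus k X) : IsIso f := by
  haveI : IsLocallyNoetherian X :=
    LocallyOfFiniteType.isLocallyNoetherian (X ↘ Spec (CommRingCat.of k))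
  haveI := hfU
  haveI : IsFinite f := isFinite k hdim f U hU' hfU
  haveI hmono : Mono (unitMap f) := mono_unitMap f U hU
  have hOc := CohDevH8.isCoh_structureModule X
  have hPc := isCoh_push_OO f
  let S : ShortComplex X.Modules :=
    ShortComplex.mk (unitMap f) (cokernel.π (unitMap f)) (cokernel.condition (unitMap f))
  have hS : S.ShortExact := ShortComplex.ShortExact.mk' (ShortComplex.exact_cokernel (unitMap f))
    hmono (inferInstanceAs (Epi (cokernel.π (unitMap f))))
  -- `H⁰` is surjective
  have hs0 : Function.Surjective (hmap (unitMap f) 0) := by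
    intro y
    obtain ⟨a, ha⟩ := h0 (show Γ(X', f ⁻¹ᵁ ⊤) from CurveTens.e₀ _ y)
    refine ⟨(CurveTens.e₀ (OO X)).symm (ofFn a), ?_⟩
    apply (CurveTens.e₀ _).injective
    have key := (Sheaf.H.equiv₀_naturality ((SerreCrit.TT X).map (unitMap f))
      (hT := isTerminalTop) ((CurveTens.e₀ (OO X)).symm (ofFn a))).symm
    refine key.trans ?_
    have h2 : CurveTens.e₀ (OO X) ((CurveTens.e₀ (OO X)).symm (ofFn a)) = ofFn a :=
      AddEquiv.apply_symm_apply _ _
    refine (congrArg (ap (unitMap f) ⊤) h2).trans ?_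
    rw [unitMap_app]
    exact ha
  -- `H¹` is injective
  have hs1 : Function.Surjective (Canon.HHlin k (unitMap f) 1) :=
    hmap_unitMap_surjective hdim f U hU 0
  haveI := ProperFinH9.finite_HH_of_proper k X _ hOc 1
  haveI := ProperFinH9.finite_HH_of_proper k X _ hPc 1
  haveI : (OO X').IsQuasicoherent := SerreCrit.isQuasicoherent_OO
  have e := Groth.Agent.PushEdgeNat.pushEdgeEquiv f hf (OO X') 1
  have hfr : Module.finrank k (Coh.HH X (OO X) 1) =
      Module.finrank k (Coh.HH X ((Scheme.Modules.pushforward f).obj (OO X')) 1) := by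
    rw [e.finrank_eq]
    exact h1.symm
  have hi1 : Function.Injective (Canon.HHlin k (unitMap f) 1) :=
    (LinearMap.injective_iff_surjective_of_finrank_eq_finrank hfr).mpr hs1
  -- the cokernel has no global sections, hence vanishes
  haveI hQ0 : Subsingleton (Coh.HH X (cokernel (unitMap f)) 0) :=
    HH0_X₃_subsingleton S hS hs0 hi1
  have hQc : Coh.IsCoh (cokernel (unitMap f)) := CohKerH8.isCoh_cokernel hOc hPc (unitMap f)
  have hQz : IsZero (cokernel (unitMap f)) := by
    refine CurveDeg.isZero_of_closed_support X _ hQc (fun x hx => ?_)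
      ((CurveTens.e₀ (cokernel (unitMap f))).symm.injective.subsingleton)
    refine isClosed_singleton_of_notMem_dense hdim U hU x (fun hxU => hx ?_)
    exact subsingleton_stalk_cokernel (unitMap f) U (fun V hV => unitMap_bijective f U hV) hxU
  haveI : Epi (unitMap f) := Preadditive.epi_of_isZero_cokernel (unitMap f) hQz
  haveI : IsIso (unitMap f) := isIso_of_mono_of_epi (unitMap f)
  -- `f` is bijective on all sections
  refine isIso_of_app_bijective f (fun W => ?_)
  have hinj := QCohExact.app_injective_of_mono (unitMap f) W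
  constructor
  · intro a b hab
    apply hinj
    show ap (unitMap f) W (ofFn a) = ap (unitMap f) W (ofFn b)
    rw [unitMap_app, unitMap_app]
    exact hab
  · intro y
    have h3 : ap (unitMap f) W (ap (inv (unitMap f)) W y) = ap (inv (unitMap f) ≫ unitMap f) W y :=
      rfl
    rw [IsIso.inv_hom_id] at h3
    refine ⟨toFn (ap (inv (unitMap f)) W y), ?_⟩
    have h4 := unitMap_app f W (ap (inv (unitMap f)) W y)
    rw [h3] at h4
    exact h4.symm

end Main

end BirCurve
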