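import Mathlib
import Groth.Prelude
import Groth.Agent.Lib.BirCurve2_helper9
import Groth.Agent.Lib.CurvePtInv3_helper9
import Groth.Agent.Lib.EulerField_helper9

/-!
# Degrees of finite locally free modules are invariant under proper birational morphisms of
curves (helper9)

`deg (f^* E) = deg E` for `f : X' ⟶ X` a birational morphism of proper schemes of dimension at
most one (statement of S1666).
APPEND-ONLY once landed.
-/

set_option autoImplicit false
universe u
open CategoryTheory CategoryTheory.Limits AlgebraicGeometry Opposite TopologicalSpace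

namespace BirCurve

open QcqsLoc QCohExtn SerreCrit Groth.Agent.HHVan Groth.Agent.TensInv

section Push

variable (k : Type u) [Field k] {X X' : Scheme.{u}} [X.Over (Spec (CommRingCat.of k))]
  [X'.Over (Spec (CommRingCat.of k))]

/-- the Euler characteristic is invariant under affine direct images -/
theorem euler_push (f : X' ⟶ X)
    (hf : f ≫ (X ↘ Spec (CommRingCat.of k)) = X' ↘ Spec (CommRingCat.of k)) [IsAffineHom f]
    (G : X'.Modules) [G.IsQuasicoherent] :
    Curv2.euler k X ((Scheme.Modules.pushforward f).obj G) = Curv2.euler k X' G := by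
  unfold Curv2.euler
  congr 1
  funext i
  rw [(Groth.Agent.PushEdgeNat.pushEdgeEquiv f hf G i).finrank_eq]

end Push

section Euler

variable (k : Type u) [Field k] (X : Scheme.{u}) [X.Over (Spec (CommRingCat.of k))]
  [IsProper (X ↘ Spec (CommRingCat.of k))]

/-- `χ(F B) - χ(F A) = χ(F (coker ψ)) - χ(F (ker ψ))` for an exact functor `F` preserving
coherence -/
theorem euler_sub_of_exact (F : X.Modules ⥤ X.Modules) [F.PreservesZeroMorphisms]
    (hF : ∀ S : ShortComplex X.Modules, S.ShortExact → (S.map F).ShortExact)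
    (hFc : ∀ A : X.Modules, Coh.IsCoh A → Coh.IsCoh (F.obj A))
    {A B : X.Modules} (hA : Coh.IsCoh A) (hB : Coh.IsCoh B) (ψ : A ⟶ B) :
    Curv2.euler k X (F.obj B) - Curv2.euler k X (F.obj A) =
      Curv2.euler k X (F.obj (cokernel ψ)) - Curv2.euler k X (F.obj (kernel ψ)) := by
  haveI : IsLocallyNoetherian X :=
    LocallyOfFiniteType.isLocallyNoetherian (X ↘ Spec (CommRingCat.of k))
  have hK : Coh.IsCoh (kernel ψ) := CohKerH8.isCoh_kernel hA hB ψ
  have hQ : Coh.IsCoh (cokernel ψ) := CohKerH8.isCoh_cokernel hA hB ψ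
  let S₁ : ShortComplex X.Modules :=
    ShortComplex.mk (kernel.ι ψ) (cokernel.π (kernel.ι ψ)) (cokernel.condition _)
  have hS₁ : S₁.ShortExact := ShortComplex.ShortExact.mk' (ShortComplex.exact_cokernel _)
    (inferInstanceAs (Mono (kernel.ι ψ))) (inferInstanceAs (Epi (cokernel.π (kernel.ι ψ))))
  let S₂ : ShortComplex X.Modules :=
    ShortComplex.mk (kernel.ι (cokernel.π ψ)) (cokernel.π ψ) (kernel.condition _)
  have hS₂ : S₂.ShortExact := ShortComplex.ShortExact.mk' (ShortComplex.exact_kernel _)
    (inferInstanceAs (Mono (kernel.ι (cokernel.π ψ)))) (inferInstanceAs (Epi (cokernel.π ψ)))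
  have hCo : Coh.IsCoh (Abelian.coimage ψ) := CohKerH8.isCoh_cokernel hK hA _
  have hIm : Coh.IsCoh (Abelian.image ψ) := CohKerH8.isCoh_kernel hB hQ _
  have e₁ := EulerField.euler_additive k X _ (hF S₁ hS₁) (hFc _ hK) (hFc _ hA) (hFc _ hCo)
  have e₂ := EulerField.euler_additive k X _ (hF S₂ hS₂) (hFc _ hIm) (hFc _ hB) (hFc _ hQ)
  have e₃ := CurveTens.euler_of_iso k X (F.mapIso (Abelian.coimageIsoImage ψ))
  have e₁' : Curv2.euler k X (F.obj A) = Curv2.euler k X (F.obj (kernel ψ)) +
      Curv2.euler k X (F.obj (Abelian.coimage ψ)) := e₁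
  have e₂' : Curv2.euler k X (F.obj B) = Curv2.euler k X (F.obj (Abelian.image ψ)) +
      Curv2.euler k X (F.obj (cokernel ψ)) := e₂
  rw [e₁', e₂', e₃]
  ring

/-- `χ(Q ⊗ E) = n χ(Q)` for `Q` coherent supported at closed points and `E` finite locally free
of rank `n` -/
theorem euler_tensor_rank (Q E : X.Modules) (hQ : Coh.IsCoh Q) {n : ℕ}
    (hE : FlatMod.IsFinLocFreeOfRank n E)
    (h0 : ∀ x ∈ CohB1.support Q, IsClosed ({x} : Set X)) :
    Curv2.euler k X (CohB1.tensorMod Q E) = n * Curv2.euler k X Q := by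
  haveI : IsLocallyNoetherian X :=
    LocallyOfFiniteType.isLocallyNoetherian (X ↘ Spec (CommRingCat.of k))
  have hE' := TensBasis.isFinLocFree_of_rank hE
  have hEc := KerFreeH8.isCoh_of_finLocFree hE'
  haveI := hQ.1
  haveI := hEc.1
  have hTc := TensBasis.isCoh_tensorMod_finLocFree hQ hE'
  have hsub : CohB1.support (CohB1.tensorMod Q E) ⊆ CohB1.support Q := by
    rw [SuppTensH8.support_tensorMod Q E hQ.2 hEc.2]
    exact Set.inter_subset_left
  rw [CurveDeg.euler_eq_finrank_of_closed_support k X _ hTc (fun x hx => h0 x (hsub hx)),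
    CurveDeg.euler_eq_finrank_of_closed_support k X _ hQ h0,
    CurvePtInv.finrank_HH0_tensor_rank k X Q E hQ hE h0]
  push_cast
  ring

end Euler

section Main

variable (k : Type u) [Field k] {X X' : Scheme.{u}} [X.Over (Spec (CommRingCat.of k))]
  [X'.Over (Spec (CommRingCat.of k))] [IsProper (X ↘ Spec (CommRingCat.of k))]
  [IsProper (X' ↘ Spec (CommRingCat.of k))]

/-- **the degree is invariant under birational pullback** (statement of S1666) -/
theorem deg_pullback (hdim : topologicalKrullDim X ≤ 1) (f : X' ⟶ X)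
    (hf : f ≫ (X ↘ Spec (CommRingCat.of k)) = X' ↘ Spec (CommRingCat.of k))
    (U : X.Opens) (hU : Dense (U : Set X)) (hU' : Dense ((f ⁻¹ᵁ U : X'.Opens) : Set X'))
    (hfU : IsIso (f ∣_ U)) (n : ℕ) (E : X.Modules) (hE : FlatMod.IsFinLocFreeOfRank n E) :
    Curv2.deg k X' ((Scheme.Modules.pullback f).obj E) n = Curv2.deg k X E n := by
  haveI : IsLocallyNoetherian X :=
    LocallyOfFiniteType.isLocallyNoetherian (X ↘ Spec (CommRingCat.of k))
  haveI := hfU
  haveI : IsProper (f ≫ (X ↘ Spec (CommRingCat.of k))) := by rw [hf]; infer_instance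
  haveI : IsProper f := IsProper.of_comp f (X ↘ Spec (CommRingCat.of k))
  haveI : IsFinite f := isFinite k hdim f U hU' hfU
  have hE' := TensBasis.isFinLocFree_of_rank hE
  have hOc := CohDevH8.isCoh_structureModule X
  have hPc := isCoh_push_OO f
  have hKc : Coh.IsCoh (kernel (unitMap f)) := CohKerH8.isCoh_kernel hOc hPc _
  have hQc : Coh.IsCoh (cokernel (unitMap f)) := CohKerH8.isCoh_cokernel hOc hPc _
  have hK0 : ∀ x ∈ CohB1.support (kernel (unitMap f)), IsClosed ({x} : Set X) := fun x hx =>
    isClosed_singleton_of_notMem_dense hdim U hU x (fun hxU =>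
      hx (subsingleton_stalk_kernel (unitMap f) U (fun V hV => unitMap_bijective f U hV) hxU))
  have hQ0 : ∀ x ∈ CohB1.support (cokernel (unitMap f)), IsClosed ({x} : Set X) := fun x hx =>
    isClosed_singleton_of_notMem_dense hdim U hU x (fun hxU =>
      hx (subsingleton_stalk_cokernel (unitMap f) U (fun V hV => unitMap_bijective f U hV) hxU))
  -- Euler characteristics on `X`
  have h1 := euler_sub_of_exact k X (𝟭 _) (fun S hS => hS.map_of_exact (𝟭 _)) (fun A hA => hA)
    hOc hPc (unitMap f)
  have h2 := euler_sub_of_exact k X (tR E) (fun S hS => TensBasis.shortExact_tR hE' S hS)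
    (fun A hA => TensBasis.isCoh_tensorMod_finLocFree hA hE') hOc hPc (unitMap f)
  have h3 := euler_tensor_rank k X _ E hKc hE hK0
  have h4 := euler_tensor_rank k X _ E hQc hE hQ0
  have h5 : Curv2.euler k X (CohB1.tensorMod (OO X) E) = Curv2.euler k X E :=
    CurveTens.euler_of_iso k X (Groth.Agent.CMMul.unitorL E)
  -- transfer to `X'`
  have hpE := PBH8.isFinLocFree_pullback f hE'
  haveI : ((Scheme.Modules.pullback f).obj E).IsQuasicoherent :=
    (KerFreeH8.isCoh_of_finLocFree hpE).1
  haveI : (OO X').IsQuasicoherent := SerreCrit.isQuasicoherent_OO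
  have h6 : Curv2.euler k X' ((Scheme.Modules.pullback f).obj E) =
      Curv2.euler k X (CohB1.tensorMod ((Scheme.Modules.pushforward f).obj (OO X')) E) := by
    rw [← euler_push k f hf ((Scheme.Modules.pullback f).obj E)]
    refine CurveTens.euler_of_iso k X ?_
    refine (Scheme.Modules.pushforward f).mapIso (rightUnit ((Scheme.Modules.pullback f).obj E)).symm
      ≪≫ ?_
    refine ((PFormH9.projIso f E hE').app (OO X')).symm ≪≫ ?_
    exact comm E ((Scheme.Modules.pushforward f).obj (OO X'))
  have h7 : Curv2.euler k X' (OO X') =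
      Curv2.euler k X ((Scheme.Modules.pushforward f).obj (OO X')) :=
    (euler_push k f hf (OO X')).symm
  unfold Curv2.deg
  rw [h6, h7]
  simp only [Functor.id_obj] at h1
  have h2' : Curv2.euler k X (CohB1.tensorMod ((Scheme.Modules.pushforward f).obj (OO X')) E) -
      Curv2.euler k X (CohB1.tensorMod (OO X) E) =
      Curv2.euler k X (CohB1.tensorMod (cokernel (unitMap f)) E) -
        Curv2.euler k X (CohB1.tensorMod (kernel (unitMap f)) E) := h2
  rw [h3, h4, h5] at h2'
  have h8 : (n : ℤ) * (Curv2.euler k X ((Scheme.Modules.pushforward f).obj (OO X')) -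
      Curv2.euler k X (Coh.structureModule X)) =
      (n : ℤ) * (Curv2.euler k X (cokernel (unitMap f)) - Curv2.euler k X (kernel (unitMap f))) := by
    rw [h1]
  linarith

end Main

end BirCurve
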