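import Mathlib
import Groth.Prelude
import Groth.Agent.Lib.BirCurve3_helper9
import Groth.Agent.Lib.CohDev12_helper8
import Groth.Agent.Lib.CohDev10_helper8
import Groth.Agent.Lib.FLF4_helper8
import Groth.Agent.Lib.FLF7_helper8
import Groth.Agent.Lib.CurveDegAdd1_helper9

/-!
# Degrees on curves via arbitrary coherent modules (helper9)

For a coherent module `A` on a proper scheme `X` of dimension at most one and a finite locally free
module `E` of rank `n`, the number `χ(A ⊗ E) - n χ(A)` only depends on `A` over a dense affine open.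
If the sections of `A` over a dense affine open are free of rank `d`, it equals `d · deg E`.
APPEND-ONLY once landed.
-/

set_option autoImplicit false
universe u
open CategoryTheory CategoryTheory.Limits AlgebraicGeometry Opposite TopologicalSpace

namespace DegPull

open QcqsLoc QCohExtn SerreCrit Groth.Agent.TensInv

section Compare

variable (k : Type u) [Field k] (X : Scheme.{u}) [X.Over (Spec (CommRingCat.of k))]
  [IsProper (X ↘ Spec (CommRingCat.of k))]

/-- the twisted Euler characteristic defect -/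
noncomputable def phi (E : X.Modules) (n : ℕ) (A : X.Modules) : ℤ :=
  Curv2.euler k X (CohB1.tensorMod A E) - n * Curv2.euler k X A

/-- a morphism of coherent modules which is bijective on sections over a dense affine open does
not change `phi` -/
theorem phi_eq_of_map (hdim : topologicalKrullDim X ≤ 1) {E : X.Modules} {n : ℕ}
    (hE : FlatMod.IsFinLocFreeOfRank n E) {H T : X.Modules} (hH : Coh.IsCoh H) (hT : Coh.IsCoh T)
    (p : H ⟶ T) {U : X.Opens} (hU : IsAffineOpen U) (hUd : Dense (U : Set X))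
    (hbij : Function.Bijective (ap p U)) :
    phi k X E n T = phi k X E n H := by
  haveI : IsLocallyNoetherian X :=
    LocallyOfFiniteType.isLocallyNoetherian (X ↘ Spec (CommRingCat.of k))
  haveI : CompactSpace X :=
    QuasiCompact.compactSpace_of_compactSpace (X ↘ Spec (CommRingCat.of k))
  haveI : IsNoetherian X := {}
  have hE' := TensBasis.isFinLocFree_of_rank hE
  have hKc : Coh.IsCoh (kernel p) := CohKerH8.isCoh_kernel hH hT _
  have hQc : Coh.IsCoh (cokernel p) := CohKerH8.isCoh_cokernel hH hT _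
  have hK0 : ∀ x ∈ CohB1.support (kernel p), IsClosed ({x} : Set X) := fun x hx =>
    BirCurve.isClosed_singleton_of_notMem_dense hdim U hUd x
      (fun hxU => CohDevH8.support_kernel_subset_compl hH hT p hU hbij.1 hx hxU)
  have hQ0 : ∀ x ∈ CohB1.support (cokernel p), IsClosed ({x} : Set X) := fun x hx =>
    BirCurve.isClosed_singleton_of_notMem_dense hdim U hUd x
      (fun hxU => CohDevH8.support_cokernel_subset_compl hH hT p hU hbij.2 hx hxU)
  have h1 := BirCurve.euler_sub_of_exact k X (𝟭 _) (fun S hS => hS.map_of_exact (𝟭 _))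
    (fun A hA => hA) hH hT p
  have h2 := BirCurve.euler_sub_of_exact k X (tR E)
    (fun S hS => TensBasis.shortExact_tR hE' S hS)
    (fun A hA => TensBasis.isCoh_tensorMod_finLocFree hA hE') hH hT p
  have h3 := BirCurve.euler_tensor_rank k X _ E hKc hE hK0
  have h4 := BirCurve.euler_tensor_rank k X _ E hQc hE hQ0
  simp only [Functor.id_obj] at h1
  have h2' : Curv2.euler k X (CohB1.tensorMod T E) - Curv2.euler k X (CohB1.tensorMod H E) =
      Curv2.euler k X (CohB1.tensorMod (cokernel p) E) -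
        Curv2.euler k X (CohB1.tensorMod (kernel p) E) := h2
  rw [h3, h4] at h2'
  unfold phi
  have h5 : (n : ℤ) * (Curv2.euler k X T - Curv2.euler k X H) =
      (n : ℤ) * (Curv2.euler k X (cokernel p) - Curv2.euler k X (kernel p)) := by rw [h1]
  linarith

/-- two coherent modules with isomorphic sections over a dense affine open have the same `phi` -/
theorem phi_eq_of_equiv (hdim : topologicalKrullDim X ≤ 1) {E : X.Modules} {n : ℕ}
    (hE : FlatMod.IsFinLocFreeOfRank n E) {A B : X.Modules} (hA : Coh.IsCoh A) (hB : Coh.IsCoh B)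
    {U : X.Opens} (hU : IsAffineOpen U) (hUd : Dense (U : Set X))
    (e : Γ(A, U) ≃ₗ[Γ(X, U)] Γ(B, U)) :
    phi k X E n A = phi k X E n B := by
  haveI : IsLocallyNoetherian X :=
    LocallyOfFiniteType.isLocallyNoetherian (X ↘ Spec (CommRingCat.of k))
  haveI : CompactSpace X :=
    QuasiCompact.compactSpace_of_compactSpace (X ↘ Spec (CommRingCat.of k))
  haveI : IsNoetherian X := {}
  obtain ⟨H, p₁, p₂, hH, -, hb₁, hb₂⟩ := CohDevH8.exists_roof hA hB hU e
  rw [phi_eq_of_map k X hdim hE hH hA p₁ hU hUd hb₁, phi_eq_of_map k X hdim hE hH hB p₂ hU hUd hb₂]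

end Compare

section Free

variable {X : Scheme.{u}}

/-- the split short exact sequence `0 ⟶ O^n ⟶ O^{n+1} ⟶ O ⟶ 0` -/
theorem exists_split (n : ℕ) :
    ∃ (s : FlatMod.freeMod X n ⟶ FlatMod.freeMod X (n + 1))
      (a : FlatMod.freeMod X (n + 1) ⟶ OO X) (h : s ≫ a = 0),
      (ShortComplex.mk s a h).ShortExact := by
  obtain ⟨shift, hshift⟩ : ∃ s : FlatMod.freeMod X n ⟶ FlatMod.freeMod X (n + 1),
      ∀ j : Fin n, Sigma.ι (fun _ : Fin n => OO X) j ≫ s =
        Sigma.ι (fun _ : Fin (n + 1) => OO X) j.succ :=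
    ⟨Sigma.desc (fun j => Sigma.ι (fun _ : Fin (n + 1) => OO X) j.succ),
      fun j => Sigma.ι_desc _ _⟩
  obtain ⟨a, ha0, has⟩ : ∃ a : FlatMod.freeMod X (n + 1) ⟶ OO X,
      Sigma.ι (fun _ : Fin (n + 1) => OO X) 0 ≫ a = 𝟙 _ ∧
      ∀ j : Fin n, Sigma.ι (fun _ : Fin (n + 1) => OO X) j.succ ≫ a = 0 :=
    ⟨Sigma.desc (fun j => Fin.cases (motive := fun _ => (OO X ⟶ OO X)) (𝟙 _) (fun _ => 0) j),
      by rw [Sigma.ι_desc]; rfl, fun j => by rw [Sigma.ι_desc]; rfl⟩
  obtain ⟨b, hb0, hbs⟩ : ∃ b : FlatMod.freeMod X (n + 1) ⟶ FlatMod.freeMod X n,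
      Sigma.ι (fun _ : Fin (n + 1) => OO X) 0 ≫ b = 0 ∧
      ∀ j : Fin n, Sigma.ι (fun _ : Fin (n + 1) => OO X) j.succ ≫ b =
        Sigma.ι (fun _ : Fin n => OO X) j :=
    ⟨Sigma.desc (fun j => Fin.cases (motive := fun _ => (OO X ⟶ FlatMod.freeMod X n)) 0
        (fun k => Sigma.ι (fun _ : Fin n => OO X) k) j),
      by rw [Sigma.ι_desc]; rfl, fun j => by rw [Sigma.ι_desc]; rfl⟩
  have hsa : shift ≫ a = 0 := by
    apply Sigma.hom_ext
    intro j
    rw [← Category.assoc, hshift, has, comp_zero]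
  have hsb : shift ≫ b = 𝟙 _ := by
    apply Sigma.hom_ext
    intro j
    rw [← Category.assoc, hshift, hbs, Category.comp_id]
  have hid : b ≫ shift + a ≫ Sigma.ι (fun _ : Fin (n + 1) => OO X) 0 = 𝟙 _ := by
    apply Sigma.hom_ext
    intro j
    refine Fin.cases ?_ (fun j' => ?_) j
    · rw [Preadditive.comp_add, ← Category.assoc, hb0, zero_comp, zero_add, ← Category.assoc, ha0,
        Category.id_comp, Category.comp_id]
    · rw [Preadditive.comp_add, ← Category.assoc, hbs, hshift, ← Category.assoc, has, zero_comp,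
        add_zero, Category.comp_id]
  refine ⟨shift, a, hsa, ?_⟩
  exact (ShortComplex.Splitting.mk (S := ShortComplex.mk shift a hsa) b
    (Sigma.ι (fun _ : Fin (n + 1) => OO X) 0) hsb ha0 hid).shortExact

theorem isZero_freeMod_zero : IsZero (FlatMod.freeMod X 0) := by
  rw [IsZero.iff_id_eq_zero]
  apply Sigma.hom_ext
  intro j
  exact j.elim0

theorem isCoh_freeMod [IsLocallyNoetherian X] (n : ℕ) : Coh.IsCoh (FlatMod.freeMod X n) :=
  KerFreeH8.isCoh_of_finLocFree (FLFH8.isFinLocFree_of_iso_free (Iso.refl _))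

end Free

section FreeEuler

variable (k : Type u) [Field k] (X : Scheme.{u}) [X.Over (Spec (CommRingCat.of k))]
  [IsProper (X ↘ Spec (CommRingCat.of k))]

theorem euler_eq_zero_of_isZero {M : X.Modules} (hM : IsZero M) : Curv2.euler k X M = 0 := by
  unfold Curv2.euler
  have h : ∀ i : ℕ, Module.finrank k (Coh.HH X M i) = 0 := fun i => by
    haveI := CurveDegAdd.HH_subsingleton_of_isZero X hM i
    exact Module.finrank_zero_of_subsingleton
  simp [h]

/-- `χ(F(O^d)) = d χ(F(O))` for an exact functor preserving coherence -/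
theorem euler_freeMod (F : X.Modules ⥤ X.Modules) [F.PreservesZeroMorphisms]
    (hF : ∀ S : ShortComplex X.Modules, S.ShortExact → (S.map F).ShortExact)
    (hFc : ∀ A : X.Modules, Coh.IsCoh A → Coh.IsCoh (F.obj A)) (d : ℕ) :
    Curv2.euler k X (F.obj (FlatMod.freeMod X d)) = d * Curv2.euler k X (F.obj (OO X)) := by
  haveI : IsLocallyNoetherian X :=
    LocallyOfFiniteType.isLocallyNoetherian (X ↘ Spec (CommRingCat.of k))
  induction d with
  | zero =>
    rw [euler_eq_zero_of_isZero k X (F.map_isZero isZero_freeMod_zero)]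
    simp
  | succ d ih =>
    obtain ⟨s, a, h, hS⟩ := exists_split (X := X) d
    have h1 := EulerField.euler_additive k X _ (hF _ hS) (hFc _ (isCoh_freeMod d))
      (hFc _ (isCoh_freeMod (d + 1))) (hFc _ (CohDevH8.isCoh_structureModule X))
    have h1' : Curv2.euler k X (F.obj (FlatMod.freeMod X (d + 1))) =
        Curv2.euler k X (F.obj (FlatMod.freeMod X d)) + Curv2.euler k X (F.obj (OO X)) := h1
    rw [h1', ih]
    push_cast
    ring

/-- `phi` of a free module -/
theorem phi_freeMod {E : X.Modules} {n : ℕ} (hE : FlatMod.IsFinLocFreeOfRank n E) (d : ℕ) :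
    phi k X E n (FlatMod.freeMod X d) = d * Curv2.deg k X E n := by
  haveI : IsLocallyNoetherian X :=
    LocallyOfFiniteType.isLocallyNoetherian (X ↘ Spec (CommRingCat.of k))
  have hE' := TensBasis.isFinLocFree_of_rank hE
  have h1 := euler_freeMod k X (𝟭 _) (fun S hS => hS.map_of_exact (𝟭 _)) (fun A hA => hA) d
  have h2 := euler_freeMod k X (tR E) (fun S hS => TensBasis.shortExact_tR hE' S hS)
    (fun A hA => TensBasis.isCoh_tensorMod_finLocFree hA hE') d
  have h3 : Curv2.euler k X (CohB1.tensorMod (OO X) E) = Curv2.euler k X E :=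
    CurveTens.euler_of_iso k X (Groth.Agent.CMMul.unitorL E)
  simp only [Functor.id_obj] at h1
  have h2' : Curv2.euler k X (CohB1.tensorMod (FlatMod.freeMod X d) E) =
      d * Curv2.euler k X (CohB1.tensorMod (OO X) E) := h2
  unfold phi Curv2.deg
  rw [h2', h1, h3]
  ring

/-- **the key formula**: if the sections of the coherent module `A` over a dense affine open are
free of rank `d`, then `χ(A ⊗ E) - n χ(A) = d · deg E` -/
theorem phi_eq_mul_deg (hdim : topologicalKrullDim X ≤ 1) {E : X.Modules} {n : ℕ}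
    (hE : FlatMod.IsFinLocFreeOfRank n E) {A : X.Modules} (hA : Coh.IsCoh A)
    {U : X.Opens} (hU : IsAffineOpen U) (hUd : Dense (U : Set X)) {d : ℕ}
    (g : Fin d → Γ(A, U)) (hg : Submodule.span Γ(X, U) (Set.range g) = ⊤)
    (hli : LinearIndependent Γ(X, U) g) :
    phi k X E n A = d * Curv2.deg k X E n := by
  haveI : IsLocallyNoetherian X :=
    LocallyOfFiniteType.isLocallyNoetherian (X ↘ Spec (CommRingCat.of k))
  obtain ⟨g', hg', hli'⟩ := FLFH8.freeMod_sections_basis (Y := X) d U
  let b₁ : Module.Basis (Fin d) Γ(X, U) Γ(A, U) := Module.Basis.mk hli hg.ge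
  let b₂ : Module.Basis (Fin d) Γ(X, U) Γ(FlatMod.freeMod X d, U) := Module.Basis.mk hli' hg'.ge
  rw [phi_eq_of_equiv k X hdim hE hA (isCoh_freeMod d) hU hUd (b₁.equiv b₂ (Equiv.refl _)),
    phi_freeMod k X hE d]

end FreeEuler

end DegPull
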