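import Mathlib
import Groth.Prelude
import Groth.Agent.Lib.DegPull1_helper9
import Groth.Agent.Lib.FLF6_helper8
import Groth.Agent.Lib.ChowB_helper7

/-!
# The degree of a tensor product of finite locally free modules on a proper scheme of dimension
at most one (helper9)

`deg (E ⊗ V) = n deg V + m deg E` (statement of S7637); no integrality or reducedness assumption.
APPEND-ONLY once landed.
-/

set_option autoImplicit false
universe u
open CategoryTheory CategoryTheory.Limits AlgebraicGeometry Opposite TopologicalSpace

namespace DegPull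

open QcqsLoc QCohExtn SerreCrit Groth.Agent.TensInv

section Basis

variable {X : Scheme.{u}} (F : X.Modules)

open FLFH8 in
/-- a module which is finite locally free of rank `r` has a basis of sections over a basic open
containing any given finite subset of an affine open -/
theorem exists_basis_basicOpen_of_finite {r : ℕ} (hE : FlatMod.IsFinLocFreeOfRank r F) (Z : Set X)
    (hZ : Z.Finite) (V : X.Opens) (hV : IsAffineOpen V) (hZV : Z ⊆ V) :
    ∃ f : Γ(X, V), Z ⊆ X.basicOpen f ∧ ∃ g : Fin r → Γ(F, X.basicOpen f),
      Submodule.span Γ(X, X.basicOpen f) (Set.range g) = ⊤ ∧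
      LinearIndependent Γ(X, X.basicOpen f) g := by
  classical
  have hE' := IsFinLocFreeOfRank.isFinLocFree F hE
  haveI := isQuasicoherent_of_finLocFree F hE'
  haveI := isFinitePresentation_of_finLocFree F hE'
  haveI : Module.FinitePresentation Γ(X, V) Γ(F, V) :=
    QCohFP2.finitePresentation_of_isFinitePresentation F hV
  haveI : Module.Flat Γ(X, V) Γ(F, V) := flat_sections_of_flat_stalks F hV (fun x _ => by
    haveI := (free_stalk_of_finLocFreeOfRank F hE x).1
    infer_instance)
  haveI := hZ.fintype
  let s : Finset (PrimeSpectrum Γ(X, V)) :=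
    (Finset.univ : Finset ↥Z).image (fun z => hV.primeIdealOf ⟨z.1, hZV z.2⟩)
  have hs : ∀ p ∈ s, Module.rankAtStalk Γ(F, V) p = r := by
    intro p hp
    obtain ⟨z, -, rfl⟩ := Finset.mem_image.mp hp
    rw [rankAtStalk_sections F hV (hZV z.2)]
    exact (free_stalk_of_finLocFreeOfRank F hE z.1).2
  obtain ⟨f, hf, ⟨b⟩⟩ := SemiLocH8.exists_basis_away s Γ(F, V) r hs
  have hld : RelFPKit.LocData (X.presheaf.map (homOfLE (X.basicOpen_le f)).op).hom f
      (F.presheaf.map (homOfLE (X.basicOpen_le f)).op).hom :=
    RelFPAff.locData (F := F) hV f _ rfl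
  obtain ⟨b2⟩ := basis_of_locData hld b
  refine ⟨f, ?_, ⇑b2, b2.span_eq, b2.linearIndependent⟩
  intro z hz
  apply mem_basicOpen_of_notMem_prime hV (hZV hz)
  exact hf _ (Finset.mem_image.mpr ⟨⟨z, hz⟩, Finset.mem_univ _, rfl⟩)

/-- on a nonempty Noetherian scheme, a finite locally free module of rank `r` has a basis of
sections over some dense affine open -/
theorem exists_dense_affine_basis [IsNoetherian X] [Nonempty X] {r : ℕ}
    (hE : FlatMod.IsFinLocFreeOfRank r F) :
    ∃ U : X.Opens, IsAffineOpen U ∧ Dense (U : Set X) ∧ ∃ g : Fin r → Γ(F, U),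
      Submodule.span Γ(X, U) (Set.range g) = ⊤ ∧ LinearIndependent Γ(X, U) g := by
  have hfin : (irreducibleComponents X).Finite := NoetherianSpace.finite_irreducibleComponents
  obtain ⟨x⟩ := ‹Nonempty X›
  obtain ⟨A, hA, -, hAd⟩ := Groth.Agent.Lib.ChowB_helper7.exists_dense_affine_nhd X hfin x
  have hZA : genericPoints X ⊆ (A : Set X) := by
    intro p hp
    -- a dense open contains every generic point
    have hcl := closure_sUnion_irreducibleComponents_sdiff_singleton hfin _ hp
    have hOo : IsOpen (⋃₀ (irreducibleComponents X \ {closure {p}}))ᶜ := by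
      rw [Set.sUnion_eq_biUnion, isOpen_compl_iff]
      exact hfin.sdiff.isClosed_biUnion fun W hW ↦ isClosed_of_mem_irreducibleComponents W hW.1
    have hOne : ((⋃₀ (irreducibleComponents X \ {closure {p}}))ᶜ).Nonempty := by
      by_contra hne
      rw [Set.not_nonempty_iff_eq_empty] at hne
      rw [hne, closure_empty] at hcl
      have : p ∈ closure {p} := subset_closure (Set.mem_singleton _)
      rw [← hcl] at this
      exact absurd this (Set.notMem_empty _)
    obtain ⟨q, hqO, hqW⟩ := hAd.inter_open_nonempty _ hOo hOne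
    have hq : q ∈ closure {p} := by
      rw [← hcl]; exact subset_closure hqO
    exact (specializes_iff_mem_closure.2 hq).mem_open A.isOpen hqW
  obtain ⟨f, hZf, g, hg, hli⟩ := exists_basis_basicOpen_of_finite F hE (genericPoints X)
    (genericPoints.finite hfin) A hA hZA
  refine ⟨X.basicOpen f, hA.basicOpen f, ?_, g, hg, hli⟩
  rw [dense_iff_closure_eq, ← Set.univ_subset_iff, ← genericPoints.closure]
  exact closure_mono hZf

end Basis

section Main

variable (k : Type u) [Field k] (X : Scheme.{u}) [X.Over (Spec (CommRingCat.of k))]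
  [IsProper (X ↘ Spec (CommRingCat.of k))]

/-- **statement of S7637** -/
theorem deg_tensorMod_locFree (hdim : topologicalKrullDim X ≤ 1) (n m : ℕ) (E V : X.Modules)
    (hE : FlatMod.IsFinLocFreeOfRank n E) (hV : FlatMod.IsFinLocFreeOfRank m V) :
    Curv2.deg k X (CohB1.tensorMod E V) (n * m) =
      n * Curv2.deg k X V m + m * Curv2.deg k X E n := by
  haveI : IsLocallyNoetherian X :=
    LocallyOfFiniteType.isLocallyNoetherian (X ↘ Spec (CommRingCat.of k))
  haveI : CompactSpace X :=
    QuasiCompact.compactSpace_of_compactSpace (X ↘ Spec (CommRingCat.of k))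
  haveI : IsNoetherian X := {}
  rcases isEmpty_or_nonempty X with he | hne
  · unfold Curv2.deg
    rw [CurveDegAdd.euler_eq_zero_of_isEmpty k X, CurveDegAdd.euler_eq_zero_of_isEmpty k X,
      CurveDegAdd.euler_eq_zero_of_isEmpty k X, CurveDegAdd.euler_eq_zero_of_isEmpty k X]
    ring
  · obtain ⟨U, hU, hUd, g, hg, hli⟩ := exists_dense_affine_basis E hE
    have hEc := KerFreeH8.isCoh_of_finLocFree (TensBasis.isFinLocFree_of_rank hE)
    have key := phi_eq_mul_deg k X hdim hV hEc hU hUd g hg hli
    unfold phi at key
    unfold Curv2.deg at key ⊢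
    push_cast
    linarith

end Main

end DegPull
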