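import Mathlib
import Groth.Prelude
import Groth.Agent.Lib.DegPull4_helper9
import Groth.Agent.Lib.PullTens1_helper9
import Groth.Agent.Lib.PB9_helper8
import Groth.Agent.Lib.Tens18_helper8

/-!
# The intersection number of an invertible module with a closed subscheme of dimension at most
one is the degree of the restriction (helper9)

Statement of S7647.
APPEND-ONLY once landed.
-/

set_option autoImplicit false
universe u
open CategoryTheory CategoryTheory.Limits AlgebraicGeometry Opposite TopologicalSpace

namespace DegPull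

open QcqsLoc QCohExtn SerreCrit Groth.Agent.TensInv

section Push

variable (k : Type u) [Field k] {X X' : Scheme.{u}} [X.Over (Spec (CommRingCat.of k))]
  [X'.Over (Spec (CommRingCat.of k))]

/-- `χ(X', f^* E) = χ(X, f_* O_{X'} ⊗ E)` for an affine morphism `f` and `E` finite locally free -/
theorem euler_pullback_eq (f : X' ⟶ X)
    (hf : f ≫ (X ↘ Spec (CommRingCat.of k)) = X' ↘ Spec (CommRingCat.of k)) [IsAffineHom f]
    (E : X.Modules) (hE' : FlatMod.IsFinLocFree E) :
    Curv2.euler k X' ((Scheme.Modules.pullback f).obj E) =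
      Curv2.euler k X (CohB1.tensorMod ((Scheme.Modules.pushforward f).obj (OO X')) E) := by
  have hpE := PBH8.isFinLocFree_pullback f hE'
  haveI : ((Scheme.Modules.pullback f).obj E).IsQuasicoherent :=
    FLFH8.isQuasicoherent_of_finLocFree _ hpE
  rw [← BirCurve.euler_push k f hf ((Scheme.Modules.pullback f).obj E)]
  refine CurveTens.euler_of_iso k X ?_
  refine (Scheme.Modules.pushforward f).mapIso (rightUnit ((Scheme.Modules.pullback f).obj E)).symm
    ≪≫ ?_
  refine ((PFormH9.projIso f E hE').app (OO X')).symm ≪≫ ?_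
  exact comm E ((Scheme.Modules.pushforward f).obj (OO X'))

end Push

section Pow

variable {X Z : Scheme.{u}} (f : Z ⟶ X)

/-- pullback commutes with tensor powers of invertible modules -/
theorem nonempty_pullback_tensorPow_iso {L : X.Modules} (hL : PicF.IsInvertible L) (a : ℕ) :
    Nonempty ((Scheme.Modules.pullback f).obj (CohB1.tensorPow L a) ≅
      CohB1.tensorPow ((Scheme.Modules.pullback f).obj L) a) := by
  induction a with
  | zero => exact ⟨PBH8.pullbackUnitIso f⟩
  | succ a ih =>
    obtain ⟨e⟩ := ih
    exact ⟨PullTensH9.pullTensIso f (TensH8.isInvertible_tensorPow hL a) hL ≪≫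
      mapR e ((Scheme.Modules.pullback f).obj L)⟩

end Pow

section Euler

variable (k : Type u) [Field k] (X : Scheme.{u}) [X.Over (Spec (CommRingCat.of k))]
  [IsProper (X ↘ Spec (CommRingCat.of k))]

/-- `χ(L^{⊗ a}) = a deg L + χ(O)` on a proper scheme of dimension at most one -/
theorem euler_tensorPow (hdim : topologicalKrullDim X ≤ 1) {L : X.Modules}
    (hL : PicF.IsInvertible L) (a : ℕ) :
    Curv2.euler k X (CohB1.tensorPow L a) =
      a * Curv2.deg k X L 1 + Curv2.euler k X (Coh.structureModule X) := by
  induction a with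
  | zero =>
    have h : CohB1.tensorPow L 0 = Coh.structureModule X := rfl
    rw [h]
    simp
  | succ a ih =>
    have h : CohB1.tensorPow L (a + 1) = CohB1.tensorMod (CohB1.tensorPow L a) L := rfl
    have h1 := deg_tensorMod_locFree k X hdim 1 1 (CohB1.tensorPow L a) L
      (FLFH8.finLocFreeOfRank_one_of_isInvertible (TensH8.isInvertible_tensorPow hL a))
      (FLFH8.finLocFreeOfRank_one_of_isInvertible hL)
    rw [h]
    have ih' := ih
    unfold Curv2.deg at h1 ih' ⊢
    push_cast at h1 ih' ⊢
    rw [ih'] at h1
    linarith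

end Euler

section Main

variable (k : Type u) [Field k] (X : Scheme.{u}) [X.Over (Spec (CommRingCat.of k))]
  [IsProper (X ↘ Spec (CommRingCat.of k))]

theorem dim_subscheme_le (D : X.IdealSheafData) {d : WithBot ℕ∞}
    (hD : topologicalKrullDim (D.support : Set X) ≤ d) :
    topologicalKrullDim D.subscheme ≤ d := by
  have hr : ∀ z : D.subscheme, D.subschemeι z ∈ (D.support : Set X) := fun z => by
    rw [← D.range_subschemeι]
    exact ⟨z, rfl⟩
  let g : D.subscheme → (D.support : Set X) := fun z => ⟨D.subschemeι z, hr z⟩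
  have hg : Topology.IsInducing g :=
    (D.subschemeι.isClosedEmbedding.isInducing).codRestrict hr
  exact hg.topologicalKrullDim_le.trans hD

/-- the Euler characteristics of the twists of `O_Z` by powers of `L` -/
theorem euler_quotMod_tensorPow (D : X.IdealSheafData)
    (hD : topologicalKrullDim (D.support : Set X) ≤ 1) (L : X.Modules) (hL : PicF.IsInvertible L)
    (a : ℕ) :
    Curv2.euler k X (CohB1.tensorMod (ClSub.quotMod D) (CohB1.tensorPow L a)) =
      a * (@Curv2.deg k _ D.subscheme ⟨D.subschemeι ≫ (X ↘ Spec (CommRingCat.of k))⟩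
        ((Scheme.Modules.pullback D.subschemeι).obj L) 1) +
      @Curv2.euler k _ D.subscheme ⟨D.subschemeι ≫ (X ↘ Spec (CommRingCat.of k))⟩
        (Coh.structureModule D.subscheme) := by
  letI : D.subscheme.Over (Spec (CommRingCat.of k)) :=
    ⟨D.subschemeι ≫ (X ↘ Spec (CommRingCat.of k))⟩
  haveI : IsProper (D.subscheme ↘ Spec (CommRingCat.of k)) :=
    inferInstanceAs (IsProper (D.subschemeι ≫ (X ↘ Spec (CommRingCat.of k))))
  have hdimZ := dim_subscheme_le X D hD
  have hLa := TensH8.isInvertible_tensorPow hL a
  have h1 := euler_pullback_eq k D.subschemeι rfl (CohB1.tensorPow L a)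
    (FLFH8.IsFinLocFreeOfRank.isFinLocFree _ (FLFH8.finLocFreeOfRank_one_of_isInvertible hLa))
  obtain ⟨e⟩ := nonempty_pullback_tensorPow_iso D.subschemeι hL a
  have h2 := CurveTens.euler_of_iso k D.subscheme e
  have h3 := euler_tensorPow k D.subscheme hdimZ
    (TensH8.isInvertible_pullback D.subschemeι hL) a
  rw [← h1, h2, h3]

end Main

section Poly

/-- a polynomial in one variable which agrees with a linear function at all natural numbers has
that slope as its linear coefficient -/
theorem coeff_of_eval_eq (P : MvPolynomial (Fin 1) ℚ) (c d : ℚ)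
    (h : ∀ n : Fin 1 → ℕ, MvPolynomial.eval (fun i => (n i : ℚ)) P = (n 0 : ℚ) * d + c) :
    MvPolynomial.coeff (Finsupp.equivFunOnFinite.symm fun _ : Fin 1 => 1) P = d := by
  have hP : P = MvPolynomial.C c + MvPolynomial.C d * MvPolynomial.X 0 := by
    apply MvPolynomial.funext_set (fun _ => Set.range (Nat.cast : ℕ → ℚ))
      (fun _ => Set.infinite_range_of_injective Nat.cast_injective)
    intro x hx
    choose n hn using (fun i => hx i (Set.mem_univ i))
    have hx' : x = fun i => (n i : ℚ) := funext (fun i => (hn i).symm)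
    rw [hx', h n]
    simp only [map_add, MvPolynomial.eval_C, map_mul, MvPolynomial.eval_X]
    ring
  rw [hP]
  have hm : (Finsupp.equivFunOnFinite.symm fun _ : Fin 1 => 1) = Finsupp.single (0 : Fin 1) 1 := by
    refine Finsupp.ext (fun i => ?_)
    fin_cases i
    simp
  have h0 : (0 : Fin 1 →₀ ℕ) ≠ Finsupp.single (0 : Fin 1) 1 := fun h => by
    have h1 := congrArg (fun f => f 0) h
    simp at h1
  rw [hm, MvPolynomial.coeff_add, MvPolynomial.coeff_C, MvPolynomial.coeff_C_mul,
    MvPolynomial.coeff_X]
  simp [h0]

end Poly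

end DegPull
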