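import Mathlib
import Groth.Prelude
import Groth.Agent.Lib.BirCurve4_helper9
import Groth.Agent.Lib.CurveAmple3_helper9
import Groth.Agent.Lib.CurveLin3_helper9
import Groth.Agent.Lib.FinGG_helper5
import Groth.Agent.Lib.KerFree1_helper8
import Groth.Agent.Lib.ExtDual2_helper9
import Groth.Agent.Lib.ModSite5_helper8
import Groth.Agent.Lib.TensInv2_helper9
import Groth.Agent.Lib.CMMul1_helper9
import Groth.Agent.Lib.TensQC2_helper8
import Groth.Agent.Lib.TensBasis5_helper9

/-!
# Proper curves of arithmetic genus zero: vanishing of `H¹` of globally generated modules (helper9)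

General lemmas: `H¹` is right exact in dimension `≤ 1`; `H¹(F ⊗ M) = 0` for `F` globally generated
coherent and `H¹(M) = 0`; tensor products of globally generated modules are globally generated.
APPEND-ONLY once landed.
-/

set_option autoImplicit false
universe u
open CategoryTheory CategoryTheory.Limits AlgebraicGeometry Opposite TopologicalSpace

namespace NodalG0

open Groth.Agent.HHVan Groth.Agent.TensInv

section Tensor

variable {X : Scheme.{u}}

/-- right tensoring preserves colimits -/
theorem preservesColimits_tR (M : X.Modules) : PreservesColimitsOfSize.{u, u} (tR M) :=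
  Groth.Agent.Lib.ModSiteH8.preservesColimits_flip X.sheaf M

/-- left tensoring preserves colimits -/
theorem preservesColimits_tL (M : X.Modules) : PreservesColimitsOfSize.{u, u} (tL M) := by
  haveI := preservesColimits_tR M
  exact preservesColimits_of_natIso (commIso M).symm

theorem epi_tR_map (M : X.Modules) {A B : X.Modules} (p : A ⟶ B) [Epi p] :
    Epi ((tR M).map p) := by
  haveI := preservesColimits_tR M
  haveI : PreservesColimitsOfSize.{0, 0} (tR M) := preservesSmallestColimits_of_preservesColimits _
  infer_instance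

theorem epi_tL_map (M : X.Modules) {A B : X.Modules} (p : A ⟶ B) [Epi p] :
    Epi ((tL M).map p) := by
  haveI := preservesColimits_tL M
  haveI : PreservesColimitsOfSize.{0, 0} (tL M) := preservesSmallestColimits_of_preservesColimits _
  infer_instance

theorem subsingleton_HH_of_iso {A A' : X.Modules} (e : A ≅ A') (i : ℕ)
    (h : Subsingleton (Coh.HH X A' i)) : Subsingleton (Coh.HH X A i) := by
  refine ⟨fun x y => ?_⟩
  have hx : ∀ z : Coh.HH X A i, hmap e.inv i (hmap e.hom i z) = z := fun z => by
    rw [← hmap_comp, e.hom_inv_id, hmap_id]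
  rw [← hx x, ← hx y, Subsingleton.elim (hmap e.hom i x) (hmap e.hom i y)]

/-- `H^i(O^n ⊗ M) = 0` if `H^i(M) = 0` -/
theorem subsingleton_HH_freeMod_tensor (M : X.Modules) (n i : ℕ)
    (hM : Subsingleton (Coh.HH X M i)) :
    Subsingleton (Coh.HH X (CohB1.tensorMod (FlatMod.freeMod X n) M) i) := by
  haveI := preservesColimits_tR M
  haveI : PreservesColimitsOfSize.{0, 0} (tR M) := preservesSmallestColimits_of_preservesColimits _
  have e : (tR M).obj (∐ fun _ : Fin n => Coh.structureModule X) ≅
      ∐ fun _ : Fin n => (tR M).obj (Coh.structureModule X) :=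
    PreservesCoproduct.iso (tR M) (fun _ : Fin n => Coh.structureModule X)
  have h1 : Subsingleton (Coh.HH X ((tR M).obj (Coh.structureModule X)) i) :=
    subsingleton_HH_of_iso (Groth.Agent.CMMul.unitorL M) i hM
  exact subsingleton_HH_of_iso e i
    (Groth.Agent.ExtDual.subsingleton_HH_sigma ((tR M).obj (Coh.structureModule X)) n i h1)

end Tensor

section Curve

variable (k : Type u) [Field k] (B : Scheme.{u}) [B.Over (Spec (CommRingCat.of k))]
  [IsProper (B ↘ Spec (CommRingCat.of k))]

include k in
/-- `H¹` is right exact on a proper scheme of dimension at most one -/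
theorem HH1_of_coker (hdim : topologicalKrullDim B ≤ 1) {G T : B.Modules} [G.IsQuasicoherent]
    [T.IsQuasicoherent] (m : G ⟶ T) (hC : Subsingleton (Coh.HH B (cokernel m) 1))
    (hG : Subsingleton (Coh.HH B G 1)) : Subsingleton (Coh.HH B T 1) := by
  haveI : (kernel m).IsQuasicoherent := SubExt.isQuasicoherent_kernel m
  have hs := CurveAmple.hmap_surjective_of_kernel_cokernel m 1
    (BirCurve.HH_subsingleton_of_dim_le_one k B hdim (kernel m) 0) hC
  exact hs.subsingleton

include k in
theorem HH1_of_epi (hdim : topologicalKrullDim B ≤ 1) {G T : B.Modules} [G.IsQuasicoherent]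
    [T.IsQuasicoherent] (m : G ⟶ T) [Epi m] (hG : Subsingleton (Coh.HH B G 1)) :
    Subsingleton (Coh.HH B T 1) :=
  HH1_of_coker k B hdim m
    (CurveDegAdd.HH_subsingleton_of_isZero B (isZero_cokernel_of_epi m) 1) hG

include k in
/-- `H¹(F ⊗ M) = 0` for `F` coherent globally generated and `M` quasi-coherent with
`H¹(M) = 0`, in dimension at most one -/
theorem HH1_tensor_of_gg (hdim : topologicalKrullDim B ≤ 1) (F M : B.Modules) (hF : Coh.IsCoh F)
    (hgg : Curv2.IsGloballyGenerated F) [M.IsQuasicoherent]
    (hM : Subsingleton (Coh.HH B M 1)) :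
    Subsingleton (Coh.HH B (CohB1.tensorMod F M) 1) := by
  haveI := hF.1
  haveI : SheafOfModules.IsFiniteType (R := B.ringCatSheaf) F := hF.2
  haveI : CompactSpace B :=
    QuasiCompact.compactSpace_of_compactSpace (B ↘ Spec (CommRingCat.of k))
  obtain ⟨n, p, hp⟩ := Groth.Agent.FinGG.exists_epi_freeMod F hgg
  haveI : (FlatMod.freeMod B n).IsQuasicoherent := SDivGenH8.isQuasicoherent_freeMod n
  haveI : (CohB1.tensorMod (FlatMod.freeMod B n) M).IsQuasicoherent :=
    TensQCH8.isQuasicoherent_tensorMod _ _
  haveI : (CohB1.tensorMod F M).IsQuasicoherent := TensQCH8.isQuasicoherent_tensorMod _ _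
  haveI : ((tR M).obj (FlatMod.freeMod B n)).IsQuasicoherent :=
    TensQCH8.isQuasicoherent_tensorMod _ _
  haveI : ((tR M).obj F).IsQuasicoherent := TensQCH8.isQuasicoherent_tensorMod _ _
  have hepi : Epi ((tR M).map p) := @epi_tR_map _ M _ _ p hp
  exact @HH1_of_epi k _ B _ _ hdim _ _ _ _ ((tR M).map p) hepi
    (subsingleton_HH_freeMod_tensor M n 1 hM)

end Curve

section GG

variable {X : Scheme.{u}}

/-- the global sections of `H` are jointly epimorphic -/
def JointlyEpi (H : X.Modules) : Prop :=
  ∀ (C : X.Modules) (c : H ⟶ C), (∀ σ : Coh.structureModule X ⟶ H, σ ≫ c = 0) → c = 0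

theorem jointlyEpi_of_gg {H : X.Modules} (h : Curv2.IsGloballyGenerated H) : JointlyEpi H := by
  obtain ⟨ι, p, hp⟩ := h
  intro C c hc
  have h1 : p ≫ c = 0 := by
    refine Cofan.IsColimit.hom_ext
      (SheafOfModules.isColimitFreeCofan (R := X.ringCatSheaf) ι) _ _ (fun i => ?_)
    exact ((Category.assoc _ _ _).symm.trans (hc _)).trans comp_zero.symm
  exact (cancel_epi p).1 (h1.trans comp_zero.symm)

theorem gg_of_jointlyEpi {H : X.Modules} (h : JointlyEpi H) : Curv2.IsGloballyGenerated H := by
  refine ⟨(Coh.structureModule X ⟶ H),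
    (Sigma.desc (fun σ : Coh.structureModule X ⟶ H => σ) :
      (SheafOfModules.free (R := X.ringCatSheaf) (Coh.structureModule X ⟶ H)) ⟶ H), ?_⟩
  apply Preadditive.epi_of_cancel_zero
  intro C c hc
  apply h C c
  intro σ
  have h1 : σ ≫ c = (Sigma.ι (fun _ : Coh.structureModule X ⟶ H =>
      Coh.structureModule X) σ ≫ Sigma.desc (fun σ : Coh.structureModule X ⟶ H => σ)) ≫ c := by
    rw [Sigma.ι_desc]
  refine h1.trans ((Category.assoc _ _ _).trans ?_)
  exact (congrArg (fun φ => Sigma.ι (fun _ : Coh.structureModule X ⟶ H =>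
      Coh.structureModule X) σ ≫ φ) hc).trans comp_zero

/-- **the tensor product of two globally generated modules is globally generated** -/
theorem gg_tensorMod {F G : X.Modules} (hF : Curv2.IsGloballyGenerated F)
    (hG : Curv2.IsGloballyGenerated G) : Curv2.IsGloballyGenerated (CohB1.tensorMod F G) := by
  apply gg_of_jointlyEpi
  intro C c hc
  have hFj := jointlyEpi_of_gg hF
  -- step 1
  have step1 : ∀ τ : Coh.structureModule X ⟶ G, (tL F).map τ ≫ c = 0 := by
    intro τ
    have h1 : (CurveAmple.unitorR F).inv ≫ (tL F).map τ ≫ c = 0 := by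
      apply hFj
      intro σ
      rw [← Category.assoc, ← Category.assoc]
      exact hc _
    haveI : Epi (CurveAmple.unitorR F).inv := IsIso.epi_of_iso _
    exact (cancel_epi (CurveAmple.unitorR F).inv).1 (h1.trans comp_zero.symm)
  obtain ⟨ι, p, hp⟩ := hG
  haveI : Epi ((tL F).map p) := @epi_tL_map _ F _ _ p hp
  have h3 : (tL F).map p ≫ c = 0 := by
    haveI := preservesColimits_tL F
    refine (isColimitOfPreserves (tL F)
      (SheafOfModules.isColimitFreeCofan (R := X.ringCatSheaf) ι)).hom_ext ?_
    rintro ⟨i⟩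
    have h4 : (tL F).map ((SheafOfModules.freeCofan (R := X.ringCatSheaf) ι).inj i) ≫
        (tL F).map p ≫ c = 0 := by
      rw [← Category.assoc, ← Functor.map_comp]
      exact step1 _
    exact h4.trans comp_zero.symm
  exact (cancel_epi ((tL F).map p)).1 (h3.trans comp_zero.symm)

end GG

end NodalG0
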