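import Mathlib
import Groth.Prelude
import Groth.Agent.Lib.CurveTens2_helper9

/-!
# Global sections of `O_X / I` for an ideal supported in an affine open (helper9)

`dim_k H⁰(X, O_X/I) = dim_k Γ(X, U)/I(U)` when the support of `I` lies in the affine open `U`.
APPEND-ONLY once landed.
-/

set_option autoImplicit false
universe u
open CategoryTheory CategoryTheory.Limits AlgebraicGeometry Opposite TopologicalSpace

namespace QuotSec

open QcqsLoc QCohExtn FLFH8

section Main

variable (k : Type u) [Field k] (X : Scheme.{u}) [X.Over (Spec (CommRingCat.of k))]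

/-- the structure map `k → Γ(X, ⊤)` -/
noncomputable def strTop : k →+* Γ(X, ⊤) :=
  ((X ↘ Spec (CommRingCat.of k)).appTop.hom).comp (Scheme.ΓSpecIso (CommRingCat.of k)).inv.hom

/-- the structure map `k → Γ(X, U)` -/
noncomputable def strU (U : X.Opens) : k →+* Γ(X, U) :=
  (rX (le_top : U ≤ ⊤)).comp (strTop k X)

variable {X} (Z : X.IdealSheafData) (U : X.affineOpens)

/-- the `k`-algebra structure on `Γ(X, U)` -/
noncomputable abbrev algU : Algebra k Γ(X, U) := (strU k X U.1).toAlgebra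

variable (hZU : (Z.support : Set X) ⊆ (U : Set X))

include hZU in
theorem preimage_eq_top : Z.subschemeι ⁻¹ᵁ U.1 = ⊤ := by
  ext z
  simp only [Opens.coe_top, Set.mem_univ, iff_true]
  apply hZU
  rw [← Scheme.IdealSheafData.range_subschemeι]
  exact ⟨z, rfl⟩

/-- the quotient `Γ(X, U)/I(U)` is the ring of functions of the closed subscheme -/
noncomputable def quotEquiv :
    (Γ(X, U) ⧸ Z.ideal U) ≃+* Γ(Z.subscheme, Z.subschemeι ⁻¹ᵁ U.1) :=
  (Ideal.quotEquivOfEq (Z.ker_subschemeι_app U).symm).trans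
    (RingHom.quotientKerEquivOfSurjective (Z.subschemeι_app_surjective U))

theorem quotEquiv_mk (a : Γ(X, U)) :
    quotEquiv Z U (Ideal.Quotient.mk _ a) = (Z.subschemeι.app U).hom a := rfl

include hZU in
/-- **`H⁰(X, O_X/I) ≃ Γ(X, U)/I(U)`** -/
theorem nonempty_linearEquiv (I : Ideal Γ(X, U)) (hI : Z.ideal U = I) :
    letI := algU k U
    Nonempty (Coh.HH X (ClSub.quotMod Z) 0 ≃ₗ[k] (Γ(X, U) ⧸ I)) := by
  subst hI
  letI := algU k U
  set Q := ClSub.quotMod Z with hQ
  have htop := preimage_eq_top Z U hZU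
  have hle : Z.subschemeι ⁻¹ᵁ U.1 ≤ Z.subschemeι ⁻¹ᵁ ⊤ := le_top
  -- restriction `Γ(Zs, ι⁻¹ ⊤) → Γ(Zs, ι⁻¹ U)` is bijective
  have hρ : Function.Bijective (rX (X := Z.subscheme) hle) := by
    have heq : Z.subschemeι ⁻¹ᵁ U.1 = Z.subschemeι ⁻¹ᵁ ⊤ := htop
    have h1 : (homOfLE hle) = eqToHom heq := Subsingleton.elim _ _
    have h2 : IsIso (Z.subscheme.presheaf.map (homOfLE hle).op) := by
      rw [h1]; infer_instance
    exact (ConcreteCategory.isIso_iff_bijective _).mp h2
  let ρ : Γ(Z.subscheme, Z.subschemeι ⁻¹ᵁ ⊤) ≃+* Γ(Z.subscheme, Z.subschemeι ⁻¹ᵁ U.1) :=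
    RingEquiv.ofBijective (rX (X := Z.subscheme) hle) hρ
  -- the additive equivalence
  let F : Coh.HH X Q 0 ≃+ (Γ(X, U) ⧸ Z.ideal U) :=
    (CurveTens.e₀ Q).trans (ρ.toAddEquiv.trans (quotEquiv Z U).symm.toAddEquiv)
  have hF : ∀ v, quotEquiv Z U (F v) =
      rX (X := Z.subscheme) hle (show Γ(Z.subscheme, Z.subschemeι ⁻¹ᵁ ⊤) from CurveTens.e₀ Q v) := by
    intro v
    exact (quotEquiv Z U).apply_symm_apply _
  have hsmul : ∀ (c : k) (v : Coh.HH X Q 0), F (c • v) = c • F v := by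
    intro c v
    apply (quotEquiv Z U).injective
    rw [hF]
    have h1 : c • v = (Coh.toGlobal (X ↘ Spec (CommRingCat.of k)) c) • v := rfl
    rw [h1, CurveTens.e₀_smul]
    have h2 : c • F v = Ideal.Quotient.mk (Z.ideal U) (strU k X U c) * F v := by
      rw [Algebra.smul_def]
      rfl
    rw [h2, map_mul, quotEquiv_mk, hF]
    -- unfold the module structure on the pushforward
    show rX (X := Z.subscheme) hle ((Z.subschemeι.app ⊤).hom (strTop k X c) *
      (show Γ(Z.subscheme, Z.subschemeι ⁻¹ᵁ ⊤) from CurveTens.e₀ Q v)) = _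
    rw [map_mul]
    congr 1
    -- naturality of `ι.app`
    have hnat := Z.subschemeι.naturality (homOfLE (le_top : U.1 ≤ ⊤)).op
    have := congrArg (fun φ => φ.hom (strTop k X c)) hnat
    exact this.symm
  let Fl : Coh.HH X Q 0 ≃ₗ[k] (Γ(X, U) ⧸ Z.ideal U) :=
    { F with map_smul' := hsmul }
  exact ⟨Fl⟩

include hZU in
/-- **`dim_k H⁰(X, O_X/I) = dim_k Γ(X, U)/I(U)`** -/
theorem finrank_HH0_quotMod (I : Ideal Γ(X, U)) (hI : Z.ideal U = I) :
    letI := algU k U
    Module.finrank k (Coh.HH X (ClSub.quotMod Z) 0) =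
      Module.finrank k (Γ(X, U) ⧸ I) := by
  letI := algU k U
  obtain ⟨e⟩ := nonempty_linearEquiv k Z U hZU I hI
  exact e.finrank_eq

end Main

end QuotSec
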