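import Mathlib
import Groth.Prelude
import Groth.Agent.Lib.NodalG0a_helper9
import Groth.Agent.Lib.QuotSec1_helper9
import Groth.Agent.Lib.CurveIdeal1_helper9
import Groth.Agent.Lib.CurveGG2_helper9
import Groth.Agent.Lib.HypSurf_helper9
import Groth.Agent.Lib.OmegaAff_helper4

/-!
# The ideal sheaf of a closed point on a proper genus-zero curve over an algebraically closed
field has no `H¹` (helper9)
APPEND-ONLY once landed.
-/

set_option autoImplicit false
universe u
open CategoryTheory CategoryTheory.Limits AlgebraicGeometry Opposite TopologicalSpace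

namespace NodalG0

open Groth.Agent.HHVan Groth.Agent.TensInv QcqsLoc QCohExtn

section Alg

/-- a maximal ideal of a finite type algebra over an algebraically closed field has residue
field `k` -/
theorem finrank_quot_maximal_eq_one (k A : Type u) [Field k] [IsAlgClosed k] [CommRing A]
    [Algebra k A] [Algebra.FiniteType k A] (m : Ideal A) [hm : m.IsMaximal] :
    Module.finrank k (A ⧸ m) = 1 := by
  letI : Field (A ⧸ m) := Ideal.Quotient.field m
  haveI : Algebra.FiniteType k (A ⧸ m) :=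
    Algebra.FiniteType.of_surjective (Ideal.Quotient.mkₐ k m) (Ideal.Quotient.mkₐ_surjective k m)
  haveI : Module.Finite k (A ⧸ m) := finite_of_finite_type_of_isJacobsonRing k (A ⧸ m)
  haveI : Algebra.IsIntegral k (A ⧸ m) := Algebra.IsIntegral.of_finite k _
  have hbij : Function.Bijective (algebraMap k (A ⧸ m)) :=
    IsAlgClosed.algebraMap_bijective_of_isIntegral
  have e : k ≃ₗ[k] (A ⧸ m) := LinearEquiv.ofBijective (Algebra.linearMap k (A ⧸ m)) hbij
  rw [← e.finrank_eq, Module.finrank_self]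

end Alg

section Point

variable (k : Type u) [Field k] (B : Scheme.{u}) [B.Over (Spec (CommRingCat.of k))]

theorem finiteType_strU [LocallyOfFiniteType (B ↘ Spec (CommRingCat.of k))] (U : B.affineOpens) :
    @Algebra.FiniteType k Γ(B, U.1) _ _ (QuotSec.algU k U) := by
  letI := QuotSec.algU k U
  have e : U.1 ≤ (B ↘ Spec (CommRingCat.of k)) ⁻¹ᵁ (⊤ : (Spec (CommRingCat.of k)).Opens) := le_top
  have h1 : ((B ↘ Spec (CommRingCat.of k)).appLE ⊤ U.1 e).hom.FiniteType :=
    (B ↘ Spec (CommRingCat.of k)).finiteType_appLE (isAffineOpen_top _) U.2 e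
  have h2 : QuotSec.strU k B U.1 = ((B ↘ Spec (CommRingCat.of k)).appLE ⊤ U.1 e).hom.comp
      (Scheme.ΓSpecIso (CommRingCat.of k)).inv.hom := by
    ext a
    rfl
  have h3 : (QuotSec.strU k B U.1).FiniteType := by
    rw [h2]
    exact (RingHom.finiteType_respectsIso.cancel_left_isIso
      (Scheme.ΓSpecIso (CommRingCat.of k)).inv _).mpr h1
  exact h3

variable {B}

theorem vanishingIdeal_point_ideal' {p : B} (hp : IsClosed ({p} : Set B)) (U : B.affineOpens)
    (hpU : p ∈ U.1) :
    (Scheme.IdealSheafData.vanishingIdeal ⟨{p}, hp⟩).ideal U =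
      (U.2.primeIdealOf ⟨p, hpU⟩).asIdeal := by
  rw [Scheme.IdealSheafData.vanishingIdeal_ideal]
  refine Eq.trans (congrArg PrimeSpectrum.vanishingIdeal ?_)
    (PrimeSpectrum.vanishingIdeal_singleton _)
  ext y
  constructor
  · intro hy
    have hy' : U.2.fromSpec y = p := hy
    apply U.2.fromSpec.isOpenEmbedding.injective
    rw [hy', U.2.fromSpec_primeIdealOf ⟨p, hpU⟩]
  · intro hy
    have hy' : y = U.2.primeIdealOf ⟨p, hpU⟩ := hy
    rw [hy']
    exact U.2.fromSpec_primeIdealOf ⟨p, hpU⟩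

variable (B)

/-- `dim_k H⁰(O/I_p) = 1` over an algebraically closed field -/
theorem finrank_HH0_quotMod_point [IsAlgClosed k]
    [LocallyOfFiniteType (B ↘ Spec (CommRingCat.of k))] {p : B} (hp : IsClosed ({p} : Set B)) :
    Module.finrank k (Coh.HH B
      (ClSub.quotMod (Scheme.IdealSheafData.vanishingIdeal ⟨{p}, hp⟩)) 0) = 1 := by
  obtain ⟨_, ⟨U₀, hU₀, rfl⟩, hpU, -⟩ :=
    B.isBasis_affineOpens.exists_subset_of_mem_open (Set.mem_univ p) isOpen_univ
  let U : B.affineOpens := ⟨U₀, hU₀⟩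
  have hsub : ((Scheme.IdealSheafData.vanishingIdeal ⟨{p}, hp⟩).support : Set B) ⊆ (U : Set B) := by
    rw [Scheme.IdealSheafData.coe_support_vanishingIdeal]
    intro x hx
    have : x = p := hx
    rw [this]
    exact hpU
  set 𝔪 := (U.2.primeIdealOf ⟨p, hpU⟩).asIdeal with h𝔪
  haveI hmax : 𝔪.IsMaximal := U.2.primeIdealOf_isMaximal_of_isClosed ⟨p, hpU⟩ hp
  letI := QuotSec.algU k U
  haveI := finiteType_strU k B U
  rw [QuotSec.finrank_HH0_quotMod k _ U hsub 𝔪 (vanishingIdeal_point_ideal' hp U hpU)]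
  exact finrank_quot_maximal_eq_one k Γ(B, U₀) 𝔪

/-- `H⁰(O) → H⁰(O/I_p)` is surjective over an algebraically closed field -/
theorem hmap_toSubscheme_surjective [IsAlgClosed k]
    [LocallyOfFiniteType (B ↘ Spec (CommRingCat.of k))] {p : B} (hp : IsClosed ({p} : Set B)) :
    Function.Surjective
      (hmap (ClSub.toSubscheme (Scheme.IdealSheafData.vanishingIdeal ⟨{p}, hp⟩)) 0) := by
  set Z := Scheme.IdealSheafData.vanishingIdeal ⟨{p}, hp⟩ with hZ
  have h1 := finrank_HH0_quotMod_point k B hp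
  have hne : CurveAmple.theta k (ClSub.quotMod Z) (ClSub.toSubscheme Z) ≠ 0 := by
    intro h
    exact CurveGG.toSubscheme_ne_zero hp
      (CurveIdeal.theta_injective k (ClSub.quotMod Z) (h.trans (map_zero _).symm))
  intro v
  obtain ⟨c, hc⟩ := (finrank_eq_one_iff_of_nonzero' _ hne).mp h1 v
  refine ⟨c • CurveAmple.oneClass B, ?_⟩
  have h2 : hmap (ClSub.toSubscheme Z) 0 (c • CurveAmple.oneClass B) =
      c • hmap (ClSub.toSubscheme Z) 0 (CurveAmple.oneClass B) :=
    (Canon.HHlin k (ClSub.toSubscheme Z) 0).map_smul c _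
  rw [h2]
  exact hc

/-- **`H¹(I_p) = 0`** on a proper scheme over an algebraically closed field with
`H¹(O) = 0` -/
theorem HH1_idealMod_point [IsAlgClosed k]
    [LocallyOfFiniteType (B ↘ Spec (CommRingCat.of k))]
    (hg : Subsingleton (Coh.HH B (Coh.structureModule B) 1)) {p : B}
    (hp : IsClosed ({p} : Set B)) :
    Subsingleton (Coh.HH B
      (ClSub.idealMod (Scheme.IdealSheafData.vanishingIdeal ⟨{p}, hp⟩)) 1) := by
  set Z := Scheme.IdealSheafData.vanishingIdeal ⟨{p}, hp⟩ with hZ
  have hinj := CurveLin.hmap_f_injective_of_g_surjective (Groth.Agent.HypSurf.ses Z)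
    (Groth.Agent.HypSurf.ses_shortExact Z) 0 (hmap_toSubscheme_surjective k B hp)
  haveI : Subsingleton (Coh.HH B (Groth.Agent.HypSurf.ses Z).X₂ (0 + 1)) := hg
  exact hinj.subsingleton

end Point

end NodalG0
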