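import Mathlib

/-!
# Global sections of modules on a scheme as elements over `⊤` (helper3)
-/

set_option autoImplicit false
universe u
open CategoryTheory AlgebraicGeometry Opposite TopologicalSpace

namespace Groth.Agent.Lib.GlobSec_helper3

variable {X : Scheme.{u}}

/-- The section of `M` obtained by restricting an element over `⊤`. -/
noncomputable def sectionOfTop (M : X.Modules) (m : M.val.obj (op ⊤)) : M.sections :=
  PresheafOfModules.sectionsMk (M := M.val)
    (fun U => M.val.map (homOfLE (le_top : U.unop ≤ ⊤)).op m)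
    (fun U V f => by
      rw [← PresheafOfModules.map_comp_apply]
      exact PresheafOfModules.congr_map_apply _ (Subsingleton.elim _ _) m)

theorem sectionOfTop_val (M : X.Modules) (m : M.val.obj (op ⊤)) (U : (Opens X)ᵒᵖ) :
    (sectionOfTop M m).1 U = M.val.map (homOfLE (le_top : U.unop ≤ ⊤)).op m := rfl

theorem eq_sectionOfTop (M : X.Modules) (s : M.sections) :
    s = sectionOfTop M (s.1 (op ⊤)) := by
  refine PresheafOfModules.sections_ext _ _ fun U => ?_
  rw [sectionOfTop_val]
  exact (PresheafOfModules.sections_property s _).symm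

theorem sectionsMap_sectionOfTop {M N : X.Modules} (g : M ⟶ N) (m : M.val.obj (op ⊤)) :
    SheafOfModules.sectionsMap g (sectionOfTop M m) = sectionOfTop N (g.val.app (op ⊤) m) := by
  refine PresheafOfModules.sections_ext _ _ fun U => ?_
  rw [sectionOfTop_val]
  show g.val.app U ((sectionOfTop M m).1 U) = _
  rw [sectionOfTop_val, PresheafOfModules.naturality_apply]

end Groth.Agent.Lib.GlobSec_helper3

namespace Groth.Agent.Lib.GlobSec_helper3

open CategoryTheory.Limits in
/-- In a short exact sequence, a map to the middle term is an epimorphism as soon as it receives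
epimorphisms onto the outer terms in the evident sense. -/
theorem epi_of_shortExact {C : Type*} [Category C] [Abelian C] {S : ShortComplex C}
    (hS : S.ShortExact) {P₁ P₃ Q : C} (p₁ : P₁ ⟶ S.X₁) (hp₁ : Epi p₁) (p₃ : P₃ ⟶ S.X₃) (hp₃ : Epi p₃)
    (r : Q ⟶ S.X₂) (i₁ : P₁ ⟶ Q) (i₃ : P₃ ⟶ Q) (h1 : i₁ ≫ r = p₁ ≫ S.f)
    (h3 : i₃ ≫ r ≫ S.g = p₃) : Epi r := by
  haveI := hS.epi_g
  refine Preadditive.epi_of_cancel_zero r fun {Z} h hrh => ?_
  have hfh : S.f ≫ h = 0 := by
    rw [← cancel_epi p₁, ← Category.assoc, ← h1, Category.assoc, hrh, comp_zero, comp_zero]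
  obtain ⟨h', rfl⟩ : ∃ h' : S.X₃ ⟶ Z, S.g ≫ h' = h :=
    ⟨hS.exact.desc h hfh, hS.exact.g_desc h hfh⟩
  have h0 : h' = 0 := by
    rw [← cancel_epi p₃, ← h3, Category.assoc, Category.assoc, hrh, comp_zero, comp_zero]
  rw [h0, comp_zero]

end Groth.Agent.Lib.GlobSec_helper3
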