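import Mathlib
import Groth.Prelude
import Groth.Agent.Lib.NodalG0b_helper9
import Groth.Agent.Lib.SuppTens2_helper8
import Groth.Agent.Lib.CurveVan1_helper9
import Groth.Agent.Lib.SuppFT_helper9
import Groth.Agent.Lib.CurveSpec1_helper9
import Groth.Agent.Lib.ProjDual2_helper9
import Groth.Agent.S10945
import Groth.Agent.S1527

/-!
# Deformation-ample modules on proper curves of arithmetic genus zero (helper9)
APPEND-ONLY once landed.
-/

set_option autoImplicit false
universe u
open CategoryTheory CategoryTheory.Limits AlgebraicGeometry Opposite TopologicalSpace TensorProduct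

namespace NodalG0

open Groth.Agent.HHVan Groth.Agent.TensInv QcqsLoc QCohExtn

section Supp

theorem support_tensorProduct_subset_left (R M N : Type*) [CommRing R] [AddCommGroup M]
    [Module R M] [AddCommGroup N] [Module R N] :
    Module.support R (M ⊗[R] N) ⊆ Module.support R M := by
  intro p hp
  by_contra hpM
  rw [Module.notMem_support_iff'] at hpM
  refine absurd hp ?_
  rw [Module.notMem_support_iff']
  intro z
  induction z using TensorProduct.induction_on with
  | zero => exact ⟨1, p.asIdeal.primeCompl.one_mem, smul_zero _⟩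
  | tmul m n =>
    obtain ⟨r, hr, hrm⟩ := hpM m
    exact ⟨r, hr, by rw [TensorProduct.smul_tmul', hrm, TensorProduct.zero_tmul]⟩
  | add a b ha hb =>
    obtain ⟨r, hr, hra⟩ := ha
    obtain ⟨s, hs, hsb⟩ := hb
    refine ⟨r * s, p.asIdeal.primeCompl.mul_mem hr hs, ?_⟩
    rw [smul_add, mul_smul r s b, hsb, smul_zero, add_zero, mul_comm, mul_smul, hra, smul_zero]

open TensH8 TensQCH8 in
/-- the support of a tensor product of quasi-coherent modules is contained in the support of
the first factor -/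
theorem support_tensorMod_subset_left {X : Scheme.{u}} (F G : X.Modules) [F.IsQuasicoherent]
    [G.IsQuasicoherent] : CohB1.support (CohB1.tensorMod F G) ⊆ CohB1.support F := by
  haveI := isQuasicoherent_tensorMod F G
  intro x hx
  obtain ⟨_, ⟨U, hU, rfl⟩, hxU, -⟩ :=
    X.isBasis_affineOpens.exists_subset_of_mem_open (Set.mem_univ x) isOpen_univ
  have hxU : x ∈ U := hxU
  have hU : IsAffineOpen U := hU
  rw [← AnnSh2H8.mem_support_iff _ hU hxU] at hx
  rw [← AnnSh2H8.mem_support_iff F hU hxU]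
  have e : PU F G U ≃ₗ[Γ(X, U)] Γ(CohB1.tensorMod F G, U) :=
    LinearEquiv.ofBijective (etaLin F G U) (eta_bijective F G hU)
  rw [← e.support_eq] at hx
  exact support_tensorProduct_subset_left Γ(X, U) Γ(F, U) Γ(G, U) hx

end Supp

section Main

variable (k : Type u) [Field k] (B : Scheme.{u}) [B.Over (Spec (CommRingCat.of k))]
  [IsProper (B ↘ Spec (CommRingCat.of k))]

include k in
/-- **statement of S17650** -/
theorem HH1_of_gg (hdim : topologicalKrullDim B ≤ 1)
    (hg : Subsingleton (Coh.HH B (Coh.structureModule B) 1))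
    (E : B.Modules) (hEc : Coh.IsCoh E) (hgg : Curv2.IsGloballyGenerated E) :
    Subsingleton (Coh.HH B E 1) := by
  haveI : (Coh.structureModule B).IsQuasicoherent := TensH8.isQuasicoherent_structureModule
  have h := HH1_tensor_of_gg k B hdim E (Coh.structureModule B) hEc hgg hg
  exact subsingleton_HH_of_iso (CurveAmple.unitorR E).symm 1 h

include k in
/-- **statement of S17651** -/
theorem HH1_tensor_idealMod_point [IsAlgClosed k] (hdim : topologicalKrullDim B ≤ 1)
    (hg : Subsingleton (Coh.HH B (Coh.structureModule B) 1))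
    (E : B.Modules) (hE : FlatMod.IsFinLocFree E) (hgg : Curv2.IsGloballyGenerated E)
    {p : B} (hp : IsClosed ({p} : Set B)) :
    Subsingleton (Coh.HH B (CohB1.tensorMod E
      (ClSub.idealMod (Scheme.IdealSheafData.vanishingIdeal ⟨{p}, hp⟩))) 1) := by
  haveI := Groth.Agent.Lib.OmegaAffH4.isQuasicoherent_idealMod
    (Scheme.IdealSheafData.vanishingIdeal ⟨{p}, hp⟩)
  exact HH1_tensor_of_gg k B hdim E _ (KerFreeH8.isCoh_of_finLocFree hE) hgg
    (HH1_idealMod_point k B hg hp)

include k in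
/-- surjectivity on global sections from vanishing of `H¹` of the kernel -/
theorem sections_surjective (S : ShortComplex B.Modules) (hS : S.ShortExact)
    (h1 : Subsingleton (Coh.HH B S.X₁ 1)) :
    Function.Surjective (S.g.val.app (op ⊤)).hom := by
  have hs := CurveAmple.hmap_g_surjective S hS 0 h1
  intro y
  obtain ⟨x₂, hx₂⟩ := hs ((Groth.Agent.ProjDual.h0 S.X₃).symm y)
  refine ⟨Groth.Agent.ProjDual.h0 S.X₂ x₂, ?_⟩
  have h := Groth.Agent.ProjDual.h0_nat S.g x₂
  rw [hx₂, AddEquiv.apply_symm_apply] at h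
  exact h

/-- the cokernel of `f ⊗ ω` for a short exact sequence -/
noncomputable def cokerTensorIso (ω : B.Modules) (S : ShortComplex B.Modules)
    (hS : S.ShortExact) : cokernel ((tR ω).map S.f) ≅ (tR ω).obj S.X₃ := by
  haveI := preservesColimits_tR ω
  haveI : PreservesColimitsOfSize.{0, 0} (tR ω) := preservesSmallestColimits_of_preservesColimits _
  exact IsColimit.coconePointUniqueUpToIso (colimit.isColimit _)
    (CokernelCofork.mapIsColimit _ hS.gIsCokernel (tR ω))

include k in
/-- **statement of S17656** -/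
theorem defAmple_of_ses (hdim : topologicalKrullDim B ≤ 1)
    (hg : Subsingleton (Coh.HH B (Coh.structureModule B) 1)) (ω : B.Modules)
    [ω.IsQuasicoherent] (S : ShortComplex B.Modules) (hS : S.ShortExact)
    (hE₁ : FlatMod.IsFinLocFree S.X₁) (hE₂ : FlatMod.IsFinLocFree S.X₂)
    (hE₃ : FlatMod.IsFinLocFree S.X₃)
    (h₁ : Curv2.IsGloballyGenerated S.X₁ ∧ Subsingleton (Coh.HH B (CohB1.tensorMod S.X₁ ω) 1))
    (h₃ : Curv2.IsGloballyGenerated S.X₃ ∧ Subsingleton (Coh.HH B (CohB1.tensorMod S.X₃ ω) 1)) :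
    Curv2.IsGloballyGenerated S.X₂ ∧ Subsingleton (Coh.HH B (CohB1.tensorMod S.X₂ ω) 1) := by
  have hc₁ := KerFreeH8.isCoh_of_finLocFree hE₁
  have hc₂ := KerFreeH8.isCoh_of_finLocFree hE₂
  have hc₃ := KerFreeH8.isCoh_of_finLocFree hE₃
  haveI := hc₁.1
  haveI := hc₂.1
  haveI := hc₃.1
  refine ⟨?_, ?_⟩
  · exact Groth.Agent.S10945.result B S hS
      (sections_surjective k B S hS (HH1_of_gg k B hdim hg S.X₁ hc₁ h₁.1)) h₁.1 h₃.1
  · haveI : ((tR ω).obj S.X₁).IsQuasicoherent := TensQCH8.isQuasicoherent_tensorMod _ _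
    haveI : ((tR ω).obj S.X₂).IsQuasicoherent := TensQCH8.isQuasicoherent_tensorMod _ _
    have hC : Subsingleton (Coh.HH B (cokernel ((tR ω).map S.f)) 1) :=
      subsingleton_HH_of_iso (cokerTensorIso B ω S hS) 1 h₃.2
    exact @HH1_of_coker k _ B _ _ hdim ((tR ω).obj S.X₁) ((tR ω).obj S.X₂) _ _
      ((tR ω).map S.f) hC h₁.2

include k in
/-- **statement of S17655** -/
theorem defAmple_of_torsion_coker (hdim : topologicalKrullDim B ≤ 1)
    (hg : Subsingleton (Coh.HH B (Coh.structureModule B) 1)) (ω : B.Modules)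
    [ω.IsQuasicoherent] (E₁ E₂ : B.Modules) (hE₁ : FlatMod.IsFinLocFree E₁)
    (hE₂ : FlatMod.IsFinLocFree E₂) (φ : E₁ ⟶ E₂)
    (htors : ∀ x ∈ CohB1.support (cokernel φ), IsClosed ({x} : Set B))
    (h₁ : Curv2.IsGloballyGenerated E₁ ∧ Subsingleton (Coh.HH B (CohB1.tensorMod E₁ ω) 1)) :
    Curv2.IsGloballyGenerated E₂ ∧ Subsingleton (Coh.HH B (CohB1.tensorMod E₂ ω) 1) := by
  haveI : IsLocallyNoetherian B :=
    LocallyOfFiniteType.isLocallyNoetherian (B ↘ Spec (CommRingCat.of k))
  have hc₁ := KerFreeH8.isCoh_of_finLocFree hE₁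
  have hc₂ := KerFreeH8.isCoh_of_finLocFree hE₂
  haveI := hc₁.1
  haveI := hc₂.1
  have hcT : Coh.IsCoh (cokernel φ) := CohKerH8.isCoh_cokernel hc₁ hc₂ φ
  haveI := hcT.1
  have hclT : IsClosed (CohB1.support (cokernel φ)) :=
    @SuppFT.isClosed_support B (cokernel φ) hcT.2
  refine ⟨?_, ?_⟩
  · -- global generation
    let S : ShortComplex B.Modules :=
      ShortComplex.mk (kernel.ι (cokernel.π φ)) (cokernel.π φ) (kernel.condition _)
    have hS : S.ShortExact :=
      ShortComplex.ShortExact.mk' (S.exact_of_f_is_kernel (kernelIsKernel (cokernel.π φ)))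
        (inferInstanceAs (Mono (kernel.ι (cokernel.π φ))))
        (inferInstanceAs (Epi (cokernel.π φ)))
    haveI : (kernel (cokernel.π φ)).IsQuasicoherent := SubExt.isQuasicoherent_kernel _
    have hepi : Epi (Abelian.factorThruImage φ) := inferInstance
    have hI1 : Subsingleton (Coh.HH B (kernel (cokernel.π φ)) 1) :=
      @HH1_of_epi k _ B _ _ hdim _ _ _ _ (Abelian.factorThruImage φ) hepi
        (HH1_of_gg k B hdim hg E₁ hc₁ h₁.1)
    have hIgg : Curv2.IsGloballyGenerated (kernel (cokernel.π φ)) := by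
      obtain ⟨ι, p, hp⟩ := h₁.1
      exact ⟨ι, p ≫ Abelian.factorThruImage φ, epi_comp' hp hepi⟩
    have hTgg : Curv2.IsGloballyGenerated (cokernel φ) :=
      Groth.Agent.S1527.result k B _ hcT
        (CurveSpec.dim_le_zero_of_closed_points _ hclT htors)
    exact Groth.Agent.S10945.result B S hS (sections_surjective k B S hS hI1) hIgg hTgg
  · -- vanishing
    haveI : ((tR ω).obj E₁).IsQuasicoherent := TensQCH8.isQuasicoherent_tensorMod _ _
    haveI : ((tR ω).obj E₂).IsQuasicoherent := TensQCH8.isQuasicoherent_tensorMod _ _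
    haveI := preservesColimits_tR ω
    haveI : PreservesColimitsOfSize.{0, 0} (tR ω) :=
      preservesSmallestColimits_of_preservesColimits _
    have e : cokernel ((tR ω).map φ) ≅ (tR ω).obj (cokernel φ) :=
      (PreservesCokernel.iso (tR ω) φ).symm
    have hsub : CohB1.support ((tR ω).obj (cokernel φ)) ⊆ CohB1.support (cokernel φ) :=
      support_tensorMod_subset_left (cokernel φ) ω
    have hT1 : Subsingleton (Coh.HH B ((tR ω).obj (cokernel φ)) 1) :=
      CurveVan.HH_subsingleton_of_stalks _ (CohB1.support (cokernel φ))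
        (fun x hx => not_not.mp (fun h => hx (hsub h)))
        (fun T hT => ZeroDimAcyc.isClosed_of_subset B _ hclT htors T hT) 0
    exact @HH1_of_coker k _ B _ _ hdim ((tR ω).obj E₁) ((tR ω).obj E₂) _ _
      ((tR ω).map φ) (subsingleton_HH_of_iso e 1 hT1) h₁.2

theorem gg_structureModule : Curv2.IsGloballyGenerated (Coh.structureModule B) := by
  apply gg_of_jointlyEpi
  intro C c hc
  have := hc (𝟙 _)
  rwa [Category.id_comp] at this

include k in
theorem gg_isCoh_tensorPow (E : B.Modules) (hE : FlatMod.IsFinLocFree E)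
    (hgg : Curv2.IsGloballyGenerated E) (n : ℕ) :
    Curv2.IsGloballyGenerated (CohB1.tensorPow E n) ∧ Coh.IsCoh (CohB1.tensorPow E n) := by
  haveI : IsLocallyNoetherian B :=
    LocallyOfFiniteType.isLocallyNoetherian (B ↘ Spec (CommRingCat.of k))
  induction n with
  | zero => exact ⟨gg_structureModule B, CohDevH8.isCoh_structureModule B⟩
  | succ n ih =>
    exact ⟨gg_tensorMod ih.1 hgg, TensBasis.isCoh_tensorMod_finLocFree ih.2 hE⟩

include k in
/-- **statement of S17657** -/
theorem defAmple_tensorPow (hdim : topologicalKrullDim B ≤ 1) (ω : B.Modules)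
    [ω.IsQuasicoherent] (E : B.Modules) (hE : FlatMod.IsFinLocFree E)
    (h₁ : Curv2.IsGloballyGenerated E ∧ Subsingleton (Coh.HH B (CohB1.tensorMod E ω) 1))
    (n : ℕ) (hn : 1 ≤ n) :
    Curv2.IsGloballyGenerated (CohB1.tensorPow E n) ∧
      Subsingleton (Coh.HH B (CohB1.tensorMod (CohB1.tensorPow E n) ω) 1) := by
  refine ⟨(gg_isCoh_tensorPow k B E hE h₁.1 n).1, ?_⟩
  obtain ⟨m, rfl⟩ : ∃ m, n = m + 1 := ⟨n - 1, by omega⟩
  have hm := gg_isCoh_tensorPow k B E hE h₁.1 m
  have hEc := KerFreeH8.isCoh_of_finLocFree hE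
  haveI := hEc.1
  haveI : (CohB1.tensorMod E ω).IsQuasicoherent := TensQCH8.isQuasicoherent_tensorMod _ _
  have h := HH1_tensor_of_gg k B hdim (CohB1.tensorPow E m) (CohB1.tensorMod E ω) hm.2 hm.1 h₁.2
  exact subsingleton_HH_of_iso (Groth.Agent.TensInv.assoc (CohB1.tensorPow E m) E ω) 1 h

end Main

end NodalG0
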