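import Mathlib
import Groth.Prelude
import Groth.Agent.Lib.GV3_helper2
import Groth.Agent.Lib.SupportCoh_helper9
import Groth.Agent.Lib.EulerField_helper9
import Groth.Agent.Lib.CurveTens4_helper9

/-!
# Alternating sums of Euler characteristics (towards Snapper's theorem) (helper9).
APPEND-ONLY once landed.

* Grothendieck vanishing for modules supported on a closed subset of small dimension;
* `Snap9.altSum k X l G`: the alternating sum `Σ_{I ⊆ l} (-1)^{|I|} χ(G ⊗ ⊗_{M ∈ I} M)`, defined
  recursively; invariance under isomorphism and additivity in short exact sequences.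
-/

set_option autoImplicit false
universe u
open CategoryTheory CategoryTheory.Limits AlgebraicGeometry Opposite TopologicalSpace

namespace Snap9

open Groth.Agent.Lib.GVanH2 Groth.Agent.Lib.Cech

section Supp

variable {X : Scheme.{u}}

/-- a module whose support lies in the closed set `Z` is supported on `Z` in the sense of
sections -/
theorem suppOn_of_support_subset (G : X.Modules) (Z : Closeds X)
    (h : CohB1.support G ⊆ (Z : Set X)) : SuppOn (X := X.toTopCat) (Coh.toAb G) Z := by
  intro U hU s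
  apply eq_zero_of_locally
  intro x hx
  have hxZ : x ∉ (Z : Set X) := fun hxZ => hU hx hxZ
  have hst : Subsingleton (G.presheaf.stalk x) := by
    by_contra hne
    exact hxZ (h hne)
  obtain ⟨W, hxW, i, hW⟩ := SupportCoh.exists_res_eq_zero G (U := U) hx s
    (@Subsingleton.elim _ hst _ _)
  exact ⟨W, i.le, hxW, hW⟩

/-- **Grothendieck vanishing** for a module supported on a closed subset of dimension `< n` -/
theorem subsingleton_HH_of_dimC [IsNoetherian X] (n : ℕ) (Z : Closeds X)
    (hdim : dimC (X := X.toTopCat) Z < (n : WithBot ℕ∞)) (G : X.Modules)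
    (h : CohB1.support G ⊆ (Z : Set X)) (p : ℕ) (hp : n ≤ p) : Subsingleton (Coh.HH X G p) := by
  haveI hNS : NoetherianSpace X := inferInstance
  haveI : NoetherianSpace ↑X.toTopCat := hNS
  exact subsingleton_H_of_HV
    (Groth.Agent.Lib.GVanH2.main (X := X.toTopCat) n Z hdim _ (suppOn_of_support_subset G Z h) p hp)

end Supp

section Coh

variable {X : Scheme.{u}}

theorem isCoh_tensorMod [IsLocallyNoetherian X] {A N : X.Modules} (hA : Coh.IsCoh A)
    (hN : PicF.IsInvertible N) : Coh.IsCoh (CohB1.tensorMod A N) := by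
  have hNc := ProperFinH9.isCoh_of_isInvertible hN
  haveI := hA.1
  haveI := hNc.1
  exact ⟨TensQCH8.isQuasicoherent_tensorMod A N, TensQCH8.isFiniteType_tensorMod A N hA.2 hNc.2⟩

end Coh

section Alt

open Groth.Agent.TensInv

variable (k : Type u) [Field k] (X : Scheme.{u}) [X.Over (Spec (CommRingCat.of k))]

/-- the alternating sum `Σ_{I ⊆ l} (-1)^{|I|} χ(G ⊗ ⊗_{M ∈ I} M)` -/
noncomputable def altSum : List X.Modules → X.Modules → ℤ
  | [], G => Curv2.euler k X G
  | M :: l, G => altSum l G - altSum l (CohB1.tensorMod G M)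

@[simp] theorem altSum_nil (G : X.Modules) : altSum k X [] G = Curv2.euler k X G := rfl

@[simp] theorem altSum_cons (M : X.Modules) (l : List X.Modules) (G : X.Modules) :
    altSum k X (M :: l) G = altSum k X l G - altSum k X l (CohB1.tensorMod G M) := rfl

variable [IsProper (X ↘ Spec (CommRingCat.of k))]

theorem altSum_of_iso (l : List X.Modules) {A B : X.Modules} (e : A ≅ B) :
    altSum k X l A = altSum k X l B := by
  induction l generalizing A B with
  | nil => exact CurveTens.euler_of_iso k X e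
  | cons M l ih =>
    rw [altSum_cons, altSum_cons, ih e, ih (mapR e M)]

/-- additivity of the alternating sums in short exact sequences of coherent modules -/
theorem altSum_additive (l : List X.Modules) (hl : ∀ M ∈ l, PicF.IsInvertible M)
    (S : ShortComplex X.Modules) (hS : S.ShortExact)
    (h₁ : Coh.IsCoh S.X₁) (h₂ : Coh.IsCoh S.X₂) (h₃ : Coh.IsCoh S.X₃) :
    altSum k X l S.X₂ = altSum k X l S.X₁ + altSum k X l S.X₃ := by
  haveI : IsLocallyNoetherian X :=
    LocallyOfFiniteType.isLocallyNoetherian (X ↘ Spec (CommRingCat.of k))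
  induction l generalizing S with
  | nil => exact EulerField.euler_additive k X S hS h₁ h₂ h₃
  | cons M l ih =>
    have hM : PicF.IsInvertible M := hl M (List.mem_cons_self)
    have hl' : ∀ N ∈ l, PicF.IsInvertible N := fun N hN => hl N (List.mem_cons_of_mem _ hN)
    have e1 := ih hl' S hS h₁ h₂ h₃
    have e2 := ih hl' (S.map (tR M)) (CurveTens.shortExact_tR hM S hS)
      (isCoh_tensorMod h₁ hM) (isCoh_tensorMod h₂ hM) (isCoh_tensorMod h₃ hM)
    have e2' : altSum k X l (CohB1.tensorMod S.X₂ M) =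
        altSum k X l (CohB1.tensorMod S.X₁ M) + altSum k X l (CohB1.tensorMod S.X₃ M) := e2
    rw [altSum_cons, altSum_cons, altSum_cons, e1, e2']
    ring

end Alt

section Push

open QcqsLoc

variable {Z X : Scheme.{u}} (i : Z ⟶ X) [IsClosedImmersion i]

/-- the support of a direct image under a closed immersion -/
theorem support_pushforward_subset (C : Z.Modules) :
    CohB1.support ((Scheme.Modules.pushforward i).obj C) ⊆ i '' CohB1.support C := by
  intro x hx
  by_contra hcon
  apply hx
  apply CurveTens.subsingleton_stalk_of_locally_zero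
  intro V hxV s
  by_cases hxr : x ∈ Set.range i
  · obtain ⟨z, rfl⟩ := hxr
    have hz : Subsingleton (C.presheaf.stalk z) := by
      by_contra hne
      exact hcon ⟨z, hne, rfl⟩
    have hzV : z ∈ i ⁻¹ᵁ V := hxV
    obtain ⟨s', hs'⟩ : ∃ s' : Γ(C, i ⁻¹ᵁ V), s' = s := ⟨s, rfl⟩
    obtain ⟨W, hWV, hzW, hW⟩ := CurveTens.exists_rF_eq_zero C hz hzV s'
    obtain ⟨t, ht, htW⟩ := i.isClosedEmbedding.isInducing.isOpen_iff.mp W.2
    have hWt : i ⁻¹ᵁ (⟨t, ht⟩ : X.Opens) = W := Opens.ext htW
    have hzt : z ∈ i ⁻¹ᵁ (⟨t, ht⟩ : X.Opens) := by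
      rw [hWt]
      exact hzW
    refine ⟨V ⊓ ⟨t, ht⟩, inf_le_left, ⟨hxV, hzt⟩, ?_⟩
    have hle : i ⁻¹ᵁ (V ⊓ ⟨t, ht⟩) ≤ W := by
      rw [← hWt]
      exact fun _ h => h.2
    have h1 : rF C (hle.trans hWV) s' = 0 := by
      rw [← rF_rF C hle hWV, hW, map_zero]
    rw [← hs']
    exact h1
  · let O : X.Opens := ⟨(Set.range i)ᶜ, i.isClosedEmbedding.isClosed_range.isOpen_compl⟩
    refine ⟨V ⊓ O, inf_le_left, ⟨hxV, hxr⟩, ?_⟩
    have hbot : i ⁻¹ᵁ (V ⊓ O) = ⊥ := by
      apply le_antisymm _ bot_le
      intro z hz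
      exact (hz.2 ⟨z, rfl⟩).elim
    haveI : Subsingleton Γ(C, i ⁻¹ᵁ (V ⊓ O)) := by
      rw [hbot]
      exact LocCohAff.subsingleton_sections_bot C
    exact Subsingleton.elim (α := Γ(C, i ⁻¹ᵁ (V ⊓ O))) _ _

end Push

section LE

variable (k : Type u) [Field k] (X : Scheme.{u}) [X.Over (Spec (CommRingCat.of k))]
  [IsProper (X ↘ Spec (CommRingCat.of k))]

/-- the Euler characteristic is the alternating sum in degrees `≤ d` once `dim X ≤ d`
(Grothendieck vanishing) -/
theorem euler_eq_eulerCharLE (d : ℕ) (hd : topologicalKrullDim X ≤ d) (F : X.Modules) :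
    Curv2.euler k X F = FGA.eulerCharLE k X F d := by
  haveI : IsLocallyNoetherian X :=
    LocallyOfFiniteType.isLocallyNoetherian (X ↘ Spec (CommRingCat.of k))
  haveI : CompactSpace X :=
    QuasiCompact.compactSpace_of_compactSpace (X ↘ Spec (CommRingCat.of k))
  haveI : IsNoetherian X := {}
  have hdim : dimC (X := X.toTopCat) (⊤ : Closeds X) < ((d + 1 : ℕ) : WithBot ℕ∞) := by
    have h1 : dimC (X := X.toTopCat) (⊤ : Closeds X) ≤ (d : WithBot ℕ∞) :=
      (dimC_top_le (X := X.toTopCat)).trans hd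
    refine lt_of_le_of_lt h1 ?_
    exact_mod_cast Nat.lt_succ_self d
  exact EulerField.euler_eq_sum k X d F (fun p hp =>
    subsingleton_HH_of_dimC (d + 1) ⊤ hdim F (fun _ _ => trivial) p hp)

end LE

end Snap9
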