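import Mathlib
import Groth.Prelude
import Groth.Agent.Lib.Snap1_helper9
import Groth.Agent.Lib.DegPull5_helper9
import Groth.Agent.Lib.ClAdj1_helper8
import Groth.Agent.Lib.CohDev16_helper8
import Groth.Agent.Lib.NodalG0c_helper9
import Groth.Agent.S0027

/-!
# Vanishing of alternating sums of Euler characteristics above the dimension (helper9).
APPEND-ONLY once landed.

`Snap9.altSum_eq_zero`: for invertible modules `M_1, …, M_r` and a coherent module `G` whose
support has dimension `< r`, the alternating sum `Σ_I (-1)^{|I|} χ(G ⊗ ⊗_{i ∈ I} M_i)` vanishes.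
-/

set_option autoImplicit false
universe u
open CategoryTheory CategoryTheory.Limits AlgebraicGeometry Opposite TopologicalSpace

namespace Snap9

open Groth.Agent.Lib.GVanH2 Groth.Agent.TensInv QcqsLoc

section Exact

variable {Z X : Scheme.{u}} (i : Z ⟶ X) [IsClosedImmersion i]

instance preservesFiniteColimits_push :
    PreservesFiniteColimits (Scheme.Modules.pushforward i) := by
  have := ClAdjH8.preservesColimits_modules_pushforward i
  infer_instance

instance preservesFiniteLimits_push :
    PreservesFiniteLimits (Scheme.Modules.pushforward i) := by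
  have := (Scheme.Modules.pullbackPushforwardAdjunction i).rightAdjoint_preservesLimits
  infer_instance

theorem shortExact_push (S : ShortComplex Z.Modules) (hS : S.ShortExact) :
    (S.map (Scheme.Modules.pushforward i)).ShortExact :=
  hS.map_of_exact (Scheme.Modules.pushforward i)

/-- the short exact sequence `0 → A → B → coker → 0` of a monomorphism -/
theorem shortExact_cokernel {A B : Z.Modules} (p : A ⟶ B) [Mono p] :
    (ShortComplex.mk p (cokernel.π p) (cokernel.condition p)).ShortExact :=
  ShortComplex.ShortExact.mk'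
    ((ShortComplex.mk p (cokernel.π p) (cokernel.condition p)).exact_of_g_is_cokernel
      (cokernelIsCokernel p))
    (inferInstanceAs (Mono p)) (inferInstanceAs (Epi (cokernel.π p)))

end Exact

section LemA

variable (k : Type u) [Field k] (X : Scheme.{u}) [X.Over (Spec (CommRingCat.of k))]
  [IsProper (X ↘ Spec (CommRingCat.of k))]

/-- **Key lemma**: for an integral closed subscheme `i : Z → X` and an invertible module `M` on
`X`, the modules `i_* O_Z` and `i_* O_Z ⊗ M` have a common coherent submodule with cokernels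
supported on a proper closed subset of `i(Z)`; stated through the alternating sums. -/
theorem exists_common_sub_push {Z : Scheme.{u}} (i : Z ⟶ X) [IsClosedImmersion i] [IsIntegral Z]
    {M : X.Modules} (hM : PicF.IsInvertible M) :
    ∃ (F' Q₁ Q₂ : X.Modules) (T : Closeds X), Coh.IsCoh F' ∧ Coh.IsCoh Q₁ ∧ Coh.IsCoh Q₂ ∧
      (T : Set X) ⊆ Set.range i ∧ (T : Set X) ≠ Set.range i ∧
      CohB1.support Q₁ ⊆ (T : Set X) ∧ CohB1.support Q₂ ⊆ (T : Set X) ∧
      ∀ (l : List X.Modules), (∀ N ∈ l, PicF.IsInvertible N) →
        altSum k X l ((Scheme.Modules.pushforward i).obj (Coh.structureModule Z)) =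
          altSum k X l F' + altSum k X l Q₁ ∧
        altSum k X l (CohB1.tensorMod
            ((Scheme.Modules.pushforward i).obj (Coh.structureModule Z)) M) =
          altSum k X l F' + altSum k X l Q₂ := by
  haveI : IsLocallyNoetherian X :=
    LocallyOfFiniteType.isLocallyNoetherian (X ↘ Spec (CommRingCat.of k))
  haveI : CompactSpace X :=
    QuasiCompact.compactSpace_of_compactSpace (X ↘ Spec (CommRingCat.of k))
  haveI : IsLocallyNoetherian Z := LocallyOfFiniteType.isLocallyNoetherian i
  haveI : CompactSpace Z := QuasiCompact.compactSpace_of_compactSpace i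
  haveI : IsNoetherian Z := {}
  have hMZ := TensH8.isInvertible_pullback i hM
  obtain ⟨F', q₁, q₂, U, hm₁, hm₂, hFc, hU, hs₁, hs₂⟩ :=
    CurveTens.exists_common_sub (X := Z) hMZ
  have hOc := CohDevH8.isCoh_structureModule Z
  have hMc := ProperFinH9.isCoh_of_isInvertible hMZ
  have hC₁ := CohKerH8.isCoh_cokernel hFc hOc q₁
  have hC₂ := CohKerH8.isCoh_cokernel hFc hMc q₂
  let T : Closeds X :=
    ⟨i '' (U : Set Z)ᶜ, i.isClosedEmbedding.isClosedMap _ U.isOpen.isClosed_compl⟩
  have hE' : FlatMod.IsFinLocFree M :=
    FLFH8.IsFinLocFreeOfRank.isFinLocFree _ (FLFH8.finLocFreeOfRank_one_of_isInvertible hM)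
  let φ : (Scheme.Modules.pushforward i).obj ((Scheme.Modules.pullback i).obj M) ≅
      CohB1.tensorMod ((Scheme.Modules.pushforward i).obj (Coh.structureModule Z)) M :=
    (Scheme.Modules.pushforward i).mapIso (rightUnit ((Scheme.Modules.pullback i).obj M)).symm ≪≫
      ((PFormH9.projIso i M hE').app (Coh.structureModule Z)).symm ≪≫
      comm M ((Scheme.Modules.pushforward i).obj (Coh.structureModule Z))
  refine ⟨(Scheme.Modules.pushforward i).obj F', (Scheme.Modules.pushforward i).obj (cokernel q₁),
    (Scheme.Modules.pushforward i).obj (cokernel q₂), T,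
    CohDevH8.isCoh_pushforward_of_isFinite i hFc, CohDevH8.isCoh_pushforward_of_isFinite i hC₁,
    CohDevH8.isCoh_pushforward_of_isFinite i hC₂, ?_, ?_, ?_, ?_, ?_⟩
  · rintro _ ⟨z, -, rfl⟩
    exact ⟨z, rfl⟩
  · intro h
    obtain ⟨z, hz⟩ := hU
    have h1 : i z ∈ (T : Set X) := by
      rw [h]
      exact ⟨z, rfl⟩
    obtain ⟨z', hz', hzz'⟩ := h1
    rw [i.isClosedEmbedding.injective hzz'] at hz'
    exact hz' hz
  · exact (support_pushforward_subset i _).trans (Set.image_mono hs₁)
  · exact (support_pushforward_subset i _).trans (Set.image_mono hs₂)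
  · intro l hl
    haveI := hm₁
    haveI := hm₂
    constructor
    · exact altSum_additive k X l hl _ (shortExact_push i _ (shortExact_cokernel q₁))
        (CohDevH8.isCoh_pushforward_of_isFinite i hFc)
        (CohDevH8.isCoh_pushforward_of_isFinite i hOc)
        (CohDevH8.isCoh_pushforward_of_isFinite i hC₁)
    · rw [← altSum_of_iso k X l φ]
      exact altSum_additive k X l hl _ (shortExact_push i _ (shortExact_cokernel q₂))
        (CohDevH8.isCoh_pushforward_of_isFinite i hFc)
        (CohDevH8.isCoh_pushforward_of_isFinite i hMc)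
        (CohDevH8.isCoh_pushforward_of_isFinite i hC₂)

end LemA

section Ideal

open QCohExtn

variable {Z X : Scheme.{u}} (i : Z ⟶ X) [IsClosedImmersion i]

theorem image_compl_ne_range (D : Z.Opens) (hD : (D : Set Z).Nonempty) :
    i '' (D : Set Z)ᶜ ≠ Set.range i := by
  intro h
  obtain ⟨z, hz⟩ := hD
  have h1 : i z ∈ i '' (D : Set Z)ᶜ := by
    rw [h]
    exact ⟨z, rfl⟩
  obtain ⟨z', hz', hzz'⟩ := h1
  rw [i.isClosedEmbedding.injective hzz'] at hz'
  exact hz' hz

/-- a quasi-coherent ideal of an integral scheme is zero or generically the unit ideal -/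
theorem ideal_case [IsIntegral Z] [IsNoetherian Z]
    (I : Z.Modules) (ι : I ⟶ Coh.structureModule Z) [Mono ι] (hI : I.IsQuasicoherent) :
    CohB1.support I = ∅ ∨ ∃ T : Closeds X, (T : Set X) ⊆ Set.range i ∧ (T : Set X) ≠ Set.range i ∧
      CohB1.support ((Scheme.Modules.pushforward i).obj (cokernel ι)) ⊆ (T : Set X) ∧
      i (genericPoint Z) ∈ CohB1.support ((Scheme.Modules.pushforward i).obj I) := by
  by_cases h : ∀ (V : Z.Opens) (s : Γ(I, V)), s = 0
  · left
    ext z
    simp only [Set.mem_empty_iff_false, iff_false]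
    intro hz
    apply hz
    rw [SupportCoh.subsingleton_stalk_iff]
    intro V hzV s
    rw [h V s, map_zero]
  · right
    push Not at h
    obtain ⟨V, s, hs⟩ := h
    obtain ⟨W, hW, hWV, hsW⟩ : ∃ W : Z.Opens, IsAffineOpen W ∧ ∃ hWV : W ≤ V, rF I hWV s ≠ 0 := by
      by_contra hcon
      push Not at hcon
      apply hs
      apply eq_zero_of_cover
      intro x hx
      obtain ⟨W, hW, hxW, hWV⟩ := Opens.isBasis_iff_nbhd.mp Z.isBasis_affineOpens hx
      exact ⟨W, hWV, hxW, hcon W hW hWV⟩
    obtain ⟨f, hf⟩ : ∃ f : Γ(Z, W), f = ap ι W (rF I hWV s) := ⟨_, rfl⟩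
    have hf0 : f ≠ 0 := by
      intro h0
      apply hsW
      apply QCohExact.app_injective_of_mono ι W
      rw [map_zero]
      exact hf.symm.trans h0
    have hDW : Z.basicOpen f ≤ W := Z.basicOpen_le f
    have hDaff : IsAffineOpen (Z.basicOpen f) := hW.basicOpen f
    have hDne : ((Z.basicOpen f : Z.Opens) : Set Z).Nonempty := by
      by_contra hcon
      apply hf0
      have hbot : Z.basicOpen f = ⊥ := by
        apply le_antisymm _ bot_le
        intro z hz
        exact (hcon ⟨z, hz⟩).elim
      exact (AlgebraicGeometry.basicOpen_eq_bot_iff f).mp hbot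
    have hu : IsUnit (rX hDW f) := by
      have h3 := Z.toRingedSpace.isUnit_res_basicOpen f
      exact h3
    obtain ⟨s₁, hs₁⟩ : ∃ s₁ : Γ(I, Z.basicOpen f), s₁ = rF I hDW (rF I hWV s) := ⟨_, rfl⟩
    have hιs₁ : ∀ (D' : Z.Opens) (hD' : D' ≤ Z.basicOpen f),
        (ap ι D' (rF I hD' s₁) : Γ(Z, D')) = rX hD' (rX hDW f) := by
      intro D' hD'
      rw [hs₁, ap_rF, ap_rF, ← hf]
      rfl
    have hIc : Coh.IsCoh I :=
      CohDevH8.isCoh_of_mono ι hI (CohDevH8.isCoh_structureModule Z)
    have hsurj : Function.Surjective (ap ι (Z.basicOpen f)) := by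
      intro t
      obtain ⟨t', ht'⟩ : ∃ t' : Γ(Z, Z.basicOpen f), FLFH8.toM t' = t := ⟨t, rfl⟩
      refine ⟨(t' * ↑hu.unit⁻¹) • s₁, ?_⟩
      rw [ap_smul]
      have h1 := hιs₁ (Z.basicOpen f) le_rfl
      have h2 : rF I (le_refl (Z.basicOpen f)) s₁ = s₁ := by
        show I.presheaf.map (𝟙 _) s₁ = s₁
        rw [I.presheaf.map_id]
        rfl
      rw [h2] at h1
      have h3 : rX (le_refl (Z.basicOpen f)) (rX hDW f) = rX hDW f := by
        rw [rX_rX]
      rw [h3] at h1
      have h1' : ap ι (Z.basicOpen f) s₁ = FLFH8.toM (rX hDW f) := h1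
      rw [h1']
      rw [← ht']
      show (t' * ↑hu.unit⁻¹) * rX hDW f = t'
      rw [mul_assoc, IsUnit.val_inv_mul, mul_one]
    have hsupp := CohDevH8.support_cokernel_subset_compl hIc
      (CohDevH8.isCoh_structureModule Z) ι hDaff hsurj
    refine ⟨⟨i '' ((Z.basicOpen f : Z.Opens) : Set Z)ᶜ,
      i.isClosedEmbedding.isClosedMap _ (Z.basicOpen f).isOpen.isClosed_compl⟩, ?_, ?_, ?_, ?_⟩
    · rintro _ ⟨z, -, rfl⟩
      exact ⟨z, rfl⟩
    · exact image_compl_ne_range i _ hDne
    · exact (support_pushforward_subset i _).trans (Set.image_mono hsupp)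
    · intro hst'
      obtain ⟨t, ht, htD⟩ := i.isClosedEmbedding.isInducing.isOpen_iff.mp (Z.basicOpen f).2
      have hDt : i ⁻¹ᵁ (⟨t, ht⟩ : X.Opens) = Z.basicOpen f := Opens.ext htD
      have hη : genericPoint Z ∈ Z.basicOpen f :=
        ((genericPoint_spec Z).mem_open_set_iff (Z.basicOpen f).isOpen).mpr
          (by
            obtain ⟨z, hz⟩ := hDne
            exact ⟨z, trivial, hz⟩)
      have hηt : i (genericPoint Z) ∈ (⟨t, ht⟩ : X.Opens) := by
        have : genericPoint Z ∈ i ⁻¹ᵁ (⟨t, ht⟩ : X.Opens) := by
          rw [hDt]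
          exact hη
        exact this
      obtain ⟨s₂, hs₂⟩ : ∃ s₂ : Γ(I, i ⁻¹ᵁ (⟨t, ht⟩ : X.Opens)),
          s₂ = rF I hDt.le s₁ := ⟨_, rfl⟩
      obtain ⟨V', hV', hηV', h0⟩ := CurveTens.exists_rF_eq_zero
        ((Scheme.Modules.pushforward i).obj I) hst' hηt s₂
      have h0' : rF I ((fun _ h => hV' h : i ⁻¹ᵁ V' ≤ i ⁻¹ᵁ (⟨t, ht⟩ : X.Opens))) s₂ = 0 := h0
      have hle : i ⁻¹ᵁ V' ≤ Z.basicOpen f := by
        rw [← hDt]
        exact fun _ h => hV' h
      rw [hs₂, rF_rF] at h0'
      have h4 := hιs₁ (i ⁻¹ᵁ V') hle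
      rw [h0', map_zero] at h4
      have hu' : IsUnit (rX hle (rX hDW f)) := hu.map _
      rw [← h4] at hu'
      haveI : Nonempty ↥(i ⁻¹ᵁ V') := ⟨⟨genericPoint Z, hηV'⟩⟩
      exact not_isUnit_zero hu'

end Ideal

section Main

variable (k : Type u) [Field k] (X : Scheme.{u}) [X.Over (Spec (CommRingCat.of k))]
  [IsProper (X ↘ Spec (CommRingCat.of k))]

theorem dimC_bot_lt (n : ℕ) : dimC (X := X.toTopCat) (⊥ : Closeds X) < (n : WithBot ℕ∞) := by
  have h0 : dimC (X := X.toTopCat) (⊥ : Closeds X) = ⊥ := by
    unfold dimC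
    rw [Order.krullDim_eq_bot_iff]
    refine ⟨fun T => ?_⟩
    obtain ⟨x, hx⟩ := T.1.isIrreducible.nonempty
    exact (T.2 hx).elim
  rw [h0]
  exact WithBot.bot_lt_coe _

/-- **Vanishing of the alternating sums above the dimension of the support.** -/
theorem altSum_eq_zero (l : List X.Modules) (hl : ∀ M ∈ l, PicF.IsInvertible M) :
    ∀ (G : X.Modules), Coh.IsCoh G → ∀ T : Closeds X, CohB1.support G ⊆ (T : Set X) →
      dimC (X := X.toTopCat) T < (l.length : WithBot ℕ∞) → altSum k X l G = 0 := by
  haveI : IsLocallyNoetherian X :=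
    LocallyOfFiniteType.isLocallyNoetherian (X ↘ Spec (CommRingCat.of k))
  haveI : CompactSpace X :=
    QuasiCompact.compactSpace_of_compactSpace (X ↘ Spec (CommRingCat.of k))
  haveI : IsNoetherian X := {}
  induction l with
  | nil =>
    intro G hG T hsupp hdim
    rw [altSum_nil]
    unfold Curv2.euler
    apply finsum_eq_zero_of_forall_eq_zero
    intro p
    haveI := subsingleton_HH_of_dimC 0 T hdim G hsupp p (Nat.zero_le p)
    rw [Module.finrank_zero_of_subsingleton]
    simp
  | cons M l ih =>
    intro G hG T hsupp hdim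
    have hM : PicF.IsInvertible M := hl M List.mem_cons_self
    have hl' : ∀ N ∈ l, PicF.IsInvertible N := fun N hN => hl N (List.mem_cons_of_mem _ hN)
    have ih' := ih hl'
    have hMq : M.IsQuasicoherent := (ProperFinH9.isCoh_of_isInvertible hM).1
    rw [altSum_cons, sub_eq_zero]
    rw [List.length_cons] at hdim
    by_cases hX : Nonempty X
    · have key : ∀ G : X.Modules, Coh.IsCoh G → ∀ T : Closeds X, CohB1.support G ⊆ (T : Set X) →
          dimC (X := X.toTopCat) T < ((l.length + 1 : ℕ) : WithBot ℕ∞) →
          altSum k X l G = altSum k X l (CohB1.tensorMod G M) := by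
        intro G hG
        haveI := hX
        refine Groth.Agent.S0027.result X (fun G => ∀ T : Closeds X,
          CohB1.support G ⊆ (T : Set X) →
          dimC (X := X.toTopCat) T < ((l.length + 1 : ℕ) : WithBot ℕ∞) →
          altSum k X l G = altSum k X l (CohB1.tensorMod G M)) ?_ ?_ ?_ G hG
        · rintro A B ⟨e⟩ hA T hT hd
          have h1 := hA T ((CohDevH8.support_subset_of_mono e.hom).trans hT) hd
          rw [← altSum_of_iso k X l e, ← altSum_of_iso k X l (mapR e M)]
          exact h1
        · intro S hS c₁ c₂ c₃ p₁ p₃ T hT hd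
          haveI := hS.mono_f
          haveI := hS.epi_g
          haveI := c₂.1
          haveI := c₃.1
          have s₁ : CohB1.support S.X₁ ⊆ (T : Set X) :=
            (CohDevH8.support_subset_of_mono S.f).trans hT
          have s₃ : CohB1.support S.X₃ ⊆ (T : Set X) :=
            (CohDevH8.support_subset_of_epi S.g).trans hT
          have e1 := altSum_additive k X l hl' S hS c₁ c₂ c₃
          have e2 := altSum_additive k X l hl' (S.map (tR M)) (CurveTens.shortExact_tR hM S hS)
            (isCoh_tensorMod c₁ hM) (isCoh_tensorMod c₂ hM) (isCoh_tensorMod c₃ hM)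
          have e2' : altSum k X l (CohB1.tensorMod S.X₂ M) =
            altSum k X l (CohB1.tensorMod S.X₁ M) + altSum k X l (CohB1.tensorMod S.X₃ M) := e2
          rw [e1, e2', p₁ T s₁ hd, p₃ T s₃ hd]
        · intro Z i hi hZ I ι hι hI T hT hd
          haveI := hi
          haveI := hZ
          haveI := hι
          haveI : IsLocallyNoetherian Z := LocallyOfFiniteType.isLocallyNoetherian i
          haveI : CompactSpace Z := QuasiCompact.compactSpace_of_compactSpace i
          haveI : IsNoetherian Z := {}
          have hOc := CohDevH8.isCoh_structureModule Z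
          have hIc : Coh.IsCoh I := CohDevH8.isCoh_of_mono ι hI hOc
          have hpI : Coh.IsCoh ((Scheme.Modules.pushforward i).obj I) :=
            CohDevH8.isCoh_pushforward_of_isFinite i hIc
          have hpO : Coh.IsCoh ((Scheme.Modules.pushforward i).obj (Coh.structureModule Z)) :=
            CohDevH8.isCoh_pushforward_of_isFinite i hOc
          haveI := hpI.1
          show altSum k X l ((Scheme.Modules.pushforward i).obj I) =
            altSum k X l (CohB1.tensorMod ((Scheme.Modules.pushforward i).obj I) M)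
          rcases ideal_case i I ι hI with h0 | ⟨T₀, hT₀r, hT₀ne, hsQ, hη⟩
          · have hs : CohB1.support ((Scheme.Modules.pushforward i).obj I) ⊆
                ((⊥ : Closeds X) : Set X) := by
              refine (support_pushforward_subset i I).trans ?_
              rw [h0, Set.image_empty]
              exact fun _ h => h
            have hs' : CohB1.support (CohB1.tensorMod ((Scheme.Modules.pushforward i).obj I) M) ⊆
                ((⊥ : Closeds X) : Set X) :=
              (NodalG0.support_tensorMod_subset_left _ _).trans hs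
            rw [ih' _ hpI ⊥ hs (dimC_bot_lt X _),
              ih' _ (isCoh_tensorMod hpI hM) ⊥ hs' (dimC_bot_lt X _)]
          · let R : Closeds X := ⟨Set.range i, i.isClosedEmbedding.isClosed_range⟩
            have hRirr : IsIrreducible (R : Set X) := by
              have h1 := (IrreducibleSpace.isIrreducible_univ Z).image i i.continuous.continuousOn
              rwa [Set.image_univ] at h1
            have hRT : R ≤ T := by
              rintro _ ⟨z, rfl⟩
              have h1 : i (genericPoint Z) ⤳ i z :=
                (genericPoint_specializes z).map i.continuous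
              exact h1.mem_closed T.isClosed (hT hη)
            have hdR : dimC (X := X.toTopCat) R < ((l.length + 1 : ℕ) : WithBot ℕ∞) :=
              lt_of_le_of_lt (dimC_mono (X := X.toTopCat) hRT) hd
            have hlt : ∀ T' : Closeds X, (T' : Set X) ⊆ Set.range i → (T' : Set X) ≠ Set.range i →
                dimC (X := X.toTopCat) T' < (l.length : WithBot ℕ∞) := by
              intro T' h1 h2
              have hlt' : T' < R :=
                lt_of_le_of_ne h1 (fun h => h2 (congrArg (fun c : Closeds X => (c : Set X)) h))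
              exact dimC_lt_of_lt (X := X.toTopCat) hRirr hlt' l.length hdR
            have hdT₀ := hlt T₀ hT₀r hT₀ne
            have hQc : Coh.IsCoh ((Scheme.Modules.pushforward i).obj (cokernel ι)) :=
              CohDevH8.isCoh_pushforward_of_isFinite i (CohKerH8.isCoh_cokernel hIc hOc ι)
            haveI := hQc.1
            have hS := shortExact_push i _ (shortExact_cokernel ι)
            have a1 := altSum_additive k X l hl' _ hS hpI hpO hQc
            have a2 := altSum_additive k X l hl' _ (CurveTens.shortExact_tR hM _ hS)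
              (isCoh_tensorMod hpI hM) (isCoh_tensorMod hpO hM) (isCoh_tensorMod hQc hM)
            have a1' : altSum k X l ((Scheme.Modules.pushforward i).obj (Coh.structureModule Z)) =
              altSum k X l ((Scheme.Modules.pushforward i).obj I) +
                altSum k X l ((Scheme.Modules.pushforward i).obj (cokernel ι)) := a1
            have a2' : altSum k X l (CohB1.tensorMod
                ((Scheme.Modules.pushforward i).obj (Coh.structureModule Z)) M) =
              altSum k X l (CohB1.tensorMod ((Scheme.Modules.pushforward i).obj I) M) +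
                altSum k X l (CohB1.tensorMod
                  ((Scheme.Modules.pushforward i).obj (cokernel ι)) M) := a2
            have q1 := ih' _ hQc T₀ hsQ hdT₀
            have q2 := ih' _ (isCoh_tensorMod hQc hM) T₀
              ((NodalG0.support_tensorMod_subset_left _ _).trans hsQ) hdT₀
            obtain ⟨F', Q₁, Q₂, T₁, hF', hQ₁, hQ₂, hT₁r, hT₁ne, hs₁, hs₂, hA⟩ :=
              exists_common_sub_push k X i hM
            have hdT₁ := hlt T₁ hT₁r hT₁ne
            obtain ⟨b1, b2⟩ := hA l hl'
            have r1 := ih' Q₁ hQ₁ T₁ hs₁ hdT₁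
            have r2 := ih' Q₂ hQ₂ T₁ hs₂ hdT₁
            linarith
      exact key G hG T hsupp hdim
    · have hE : IsEmpty X := not_nonempty_iff.mp hX
      have h1 := ih' G hG ⊥ (fun x _ => (hE.false x).elim) (dimC_bot_lt X _)
      have h2 := ih' (CohB1.tensorMod G M) (isCoh_tensorMod hG hM) ⊥
        (fun x _ => (hE.false x).elim) (dimC_bot_lt X _)
      rw [h1, h2]

end Main

end Snap9
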