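import Mathlib
import Groth.Prelude
import Groth.Agent.Lib.ProjTens1_helper9
import Groth.Agent.Lib.ProjEuler_helper9

/-!
# The self-intersection number of `O(d)` on projective space (helper9)
-/

set_option autoImplicit false
universe u
open CategoryTheory CategoryTheory.Limits AlgebraicGeometry Polynomial Finset

namespace Groth.Agent.ProjInt

open Groth.Agent.ProjTens Groth.Agent.TensInv Groth.Agent.HHVan


theorem alt_sum_choose (n d : ℕ) (hd : 0 < d) :
    ∑ j ∈ range (n + 1), (n.choose j : ℤ) * ((-1 : ℤ) ^ j * Ring.choose ((n : ℤ) - d * j) n) =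
      (d : ℤ) ^ n := by
  set Q : ℤ[X] := (descPochhammer ℤ n).comp (C (n : ℤ) - C (d : ℤ) * X) with hQ
  have hq1 : (C (n : ℤ) - C (d : ℤ) * X).natDegree = 1 := by
    have : (C (n : ℤ) - C (d : ℤ) * X) = C (-(d : ℤ)) * X + C (n : ℤ) := by
      rw [C_neg]; ring
    rw [this]
    exact natDegree_linear (by simpa using hd.ne')
  have hq2 : (C (n : ℤ) - C (d : ℤ) * X).leadingCoeff = -(d : ℤ) := by
    have : (C (n : ℤ) - C (d : ℤ) * X) = C (-(d : ℤ)) * X + C (n : ℤ) := by
      rw [C_neg]; ring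
    rw [this]
    exact leadingCoeff_linear (by simpa using hd.ne')
  have hdeg : Q.natDegree = n := by
    rw [hQ, natDegree_comp, hq1, mul_one, descPochhammer_natDegree]
  have hlead : Q.leadingCoeff = (-(d : ℤ)) ^ n := by
    rw [hQ, leadingCoeff_comp (by rw [hq1]; exact one_ne_zero), hq2,
      (monic_descPochhammer ℤ n).leadingCoeff, one_mul, descPochhammer_natDegree]
  have hQeval : ∀ j : ℕ, Q.eval (j : ℤ) = (n.factorial : ℤ) * Ring.choose ((n : ℤ) - d * j) n := by
    intro j
    rw [hQ, eval_comp]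
    have := Ring.descPochhammer_eq_factorial_smul_choose ((n : ℤ) - d * j) n
    rw [← Polynomial.eval_eq_smeval, nsmul_eq_mul] at this
    simp only [eval_sub, eval_C, eval_mul, eval_X]
    exact this
  have h1 := congrFun (Polynomial.fwdDiff_iter_degree_eq_factorial Q) 0
  rw [hdeg, fwdDiff_iter_eq_sum_shift, hlead] at h1
  simp only [zero_add, smul_eq_mul, nsmul_eq_mul, mul_one, Pi.smul_apply, Pi.natCast_apply] at h1
  have h2 : ∑ k ∈ range (n + 1), ((-1 : ℤ) ^ (n - k) * (n.choose k : ℤ)) * Q.eval (k : ℤ) =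
      (-1) ^ n * (n.factorial : ℤ) *
        ∑ j ∈ range (n + 1), (n.choose j : ℤ) * ((-1 : ℤ) ^ j * Ring.choose ((n : ℤ) - d * j) n) := by
    rw [Finset.mul_sum]
    apply Finset.sum_congr rfl
    intro k hk
    have hk' : k ≤ n := Nat.lt_succ_iff.mp (Finset.mem_range.mp hk)
    rw [hQeval]
    have : (-1 : ℤ) ^ (n - k) = (-1) ^ n * (-1) ^ k := by
      rw [← pow_add]
      have : n + k = (n - k) + 2 * k := by omega
      rw [this, pow_add, pow_mul]; simp
    rw [this]; ring
  have h3 : (-1 : ℤ) ^ n * (n.factorial : ℤ) *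
        ∑ j ∈ range (n + 1), (n.choose j : ℤ) * ((-1 : ℤ) ^ j * Ring.choose ((n : ℤ) - d * j) n) =
      (-(d : ℤ)) ^ n * n.factorial := by
    rw [← h2]
    convert h1 using 2
  have hfact : (n.factorial : ℤ) ≠ 0 := by exact_mod_cast n.factorial_ne_zero
  have h4 : (n.factorial : ℤ) * ((-1 : ℤ) ^ n *
        ∑ j ∈ range (n + 1), (n.choose j : ℤ) * ((-1 : ℤ) ^ j * Ring.choose ((n : ℤ) - d * j) n)) =
      (n.factorial : ℤ) * ((-1) ^ n * (d : ℤ) ^ n) := by
    have h7 : (-(d : ℤ)) ^ n = (-1) ^ n * (d : ℤ) ^ n := neg_pow _ _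
    rw [h7] at h3
    linear_combination h3
  have h5 := mul_left_cancel₀ hfact h4
  have h6 : ((-1 : ℤ) ^ n) ≠ 0 := pow_ne_zero _ (by norm_num)
  exact mul_left_cancel₀ h6 h5


section Iso

variable (k : Type u) [Field k] {X : Scheme.{u}} [X.Over (Spec (CommRingCat.of k))]

/-- the dimension of cohomology is invariant under isomorphism. -/
lemma finrank_HH_of_iso {M N : X.Modules} (e : M ≅ N) (i : ℕ) :
    Module.finrank k (Coh.HH X M i) = Module.finrank k (Coh.HH X N i) := by
  refine LinearEquiv.finrank_eq (LinearEquiv.ofLinear (Canon.HHlin k e.hom i)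
    (Canon.HHlin k e.inv i) ?_ ?_)
  · ext x
    show hmap e.hom i (hmap e.inv i x) = x
    rw [← hmap_comp, e.inv_hom_id, hmap_id]
  · ext x
    show hmap e.inv i (hmap e.hom i x) = x
    rw [← hmap_comp, e.hom_inv_id, hmap_id]

lemma eulerCharLE_of_iso {M N : X.Modules} (e : M ≅ N) (d : ℕ) :
    FGA.eulerCharLE k X M d = FGA.eulerCharLE k X N d := by
  unfold FGA.eulerCharLE
  apply Finset.sum_congr rfl
  intro i _
  rw [finrank_HH_of_iso k e i]

end Iso

variable (k : Type u) [Field k] (n : ℕ)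

theorem tensorList_replicate (d : ℤ) (m : ℕ) :
    Nonempty (FGA.tensorList (List.replicate m (OO n k d)) ≅ OO n k (d * m)) := by
  induction m with
  | zero =>
    obtain ⟨e⟩ := twist_zero n k
    exact ⟨e.symm ≪≫ (twist_congr n k (by simp)).some⟩
  | succ m ih =>
    obtain ⟨e⟩ := ih
    obtain ⟨e'⟩ := twist_add' n k d (d * m) (d * (m + 1 : ℕ)) (by push_cast; ring)
    exact ⟨mapL (OO n k d) e ≪≫ e'⟩

theorem eulerCharLE_twist (hn : 0 < n) (d : ℤ) :
    FGA.eulerCharLE k (CohB1.ProjSpace n k) (OO n k d) n = Ring.choose (d + n) n :=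
  Groth.Agent.ProjEuler.euler k n hn d

theorem eulerCharLE_term (hn : 0 < n) (d : ℕ) (m : ℕ) :
    FGA.eulerCharLE k (CohB1.ProjSpace n k)
      (CohB1.tensorMod (FGA.tensorList (List.replicate m (OO n k (-(d : ℤ)))))
        (Coh.structureModule (CohB1.ProjSpace n k))) n = Ring.choose ((n : ℤ) - d * m) n := by
  obtain ⟨e⟩ := tensorList_replicate k n (-(d : ℤ)) m
  rw [eulerCharLE_of_iso k (rightUnit _ ≪≫ e) n, eulerCharLE_twist k n hn]
  congr 1
  ring

theorem intNum_twist (d : ℕ) (hd : 0 < d) :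
    FGA.intNum k (CohB1.ProjSpace n k) n (fun _ : Fin n => Twist.twistProjSpace n k (-(d : ℤ)))
      (Coh.structureModule (CohB1.ProjSpace n k)) = (d : ℤ) ^ n := by
  rcases Nat.eq_zero_or_pos n with rfl | hn
  · unfold FGA.intNum
    rw [Finset.univ_unique, Finset.sum_singleton]
    have h0 : (default : Finset (Fin 0)) = ∅ := Subsingleton.elim _ _
    rw [h0]
    simp only [Finset.card_empty, pow_zero, one_mul, Finset.sort_empty, List.map_nil]
    obtain ⟨e0⟩ := twist_zero 0 k
    have e : CohB1.tensorMod (FGA.tensorList ([] : List (CohB1.ProjSpace 0 k).Modules))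
        (Coh.structureModule (CohB1.ProjSpace 0 k)) ≅ OO 0 k ((0 : ℕ) : ℤ) :=
      rightUnit _ ≪≫ e0.symm
    rw [eulerCharLE_of_iso k e 0]
    unfold FGA.eulerCharLE
    rw [Finset.sum_range_one, Groth.Agent.ProjEuler.finrank_HH_zero]
    simp
  · unfold FGA.intNum
    have h1 : ∀ I : Finset (Fin n),
        (-1 : ℤ) ^ I.card * FGA.eulerCharLE k (CohB1.ProjSpace n k)
          (CohB1.tensorMod (FGA.tensorList ((I.sort (· ≤ ·)).map
            (fun _ : Fin n => Twist.twistProjSpace n k (-(d : ℤ)))))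
            (Coh.structureModule (CohB1.ProjSpace n k))) n =
        (-1 : ℤ) ^ I.card * Ring.choose ((n : ℤ) - d * I.card) n := by
      intro I
      rw [List.map_const', Finset.length_sort]
      rw [eulerCharLE_term k n hn d I.card]
    rw [Finset.sum_congr rfl (fun I _ => h1 I), ← Finset.powerset_univ,
      Finset.sum_powerset_apply_card (fun j => (-1 : ℤ) ^ j * Ring.choose ((n : ℤ) - d * j) n)]
    rw [Finset.card_univ, Fintype.card_fin]
    simp only [nsmul_eq_mul]
    exact alt_sum_choose n d hd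

end Groth.Agent.ProjInt
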