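import Mathlib
import Groth.Prelude
import Groth.Agent.Lib.CMMul1_helper9
import Groth.Agent.Lib.ProjInt_helper9

/-!
# Castelnuovo–Mumford: Mumford's lemma on regularity of extensions `0 → F(-1) → F → G → 0` (helper9)
APPEND-ONLY once landed.
-/

set_option autoImplicit false
universe u
open CategoryTheory CategoryTheory.Limits AlgebraicGeometry TopologicalSpace Opposite

namespace Groth.Agent.CMMum

open Groth.Agent.HHVan

section Abstract

universe w v u'

variable {C : Type u'} [Category.{v} C] [Abelian C] [HasExt.{w} C]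

open Abelian

theorem ext_exact₃_of_injective {S : ShortComplex C} (hS : S.ShortExact) (A : C)
    (hinj : ∀ x : Ext A S.X₁ 1, x.comp (Ext.mk₀ S.f) (add_zero 1) = 0 → x = 0)
    (z : Ext A S.X₃ 0) : ∃ y : Ext A S.X₂ 0, y.comp (Ext.mk₀ S.g) (add_zero 0) = z := by
  apply Ext.covariant_sequence_exact₃ A hS z (zero_add 1)
  apply hinj
  rw [Ext.comp_assoc_of_third_deg_zero, hS.extClass_comp, Ext.comp_zero]

theorem ext_injective_of_exact₃ {S : ShortComplex C} (hS : S.ShortExact) (A : C)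
    (hsurj : ∀ z : Ext A S.X₃ 0, ∃ y : Ext A S.X₂ 0, y.comp (Ext.mk₀ S.g) (add_zero 0) = z)
    (x : Ext A S.X₁ 1) (hx : x.comp (Ext.mk₀ S.f) (add_zero 1) = 0) : x = 0 := by
  obtain ⟨y, hy⟩ := Ext.covariant_sequence_exact₁ A hS x hx (zero_add 1)
  obtain ⟨w, hw⟩ := hsurj y
  rw [← hy, ← hw, Ext.comp_assoc_of_second_deg_zero, hS.comp_extClass, Ext.comp_zero]

end Abstract

section LES

variable {X : Scheme.{u}}

/-- exactness at the middle term -/
theorem surjective_hmap_f (S : ShortComplex X.Modules) (hS : S.ShortExact) (i : ℕ)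
    (h3 : Subsingleton (Coh.HH X S.X₃ i)) : Function.Surjective (hmap S.f i) := by
  intro z
  obtain ⟨y, hy⟩ := Abelian.Ext.covariant_sequence_exact₂ _ (SerreCrit.shortExact_toSheaf S hS)
    (show Abelian.Ext _ (Coh.toAb S.X₂) i from z) (Subsingleton.elim (h := h3) _ _)
  exact ⟨y, hy⟩

/-- if `H^1(f)` is injective then `H^0(g)` is surjective -/
theorem surjective_hmap_g_of_injective (S : ShortComplex X.Modules) (hS : S.ShortExact)
    (hinj : Function.Injective (hmap S.f 1)) : Function.Surjective (hmap S.g 0) := by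
  intro z
  have hT := SerreCrit.shortExact_toSheaf S hS
  exact ext_exact₃_of_injective hT _ (fun x hx => hinj (hx.trans (map_zero (hmap S.f 1)).symm)) z

/-- if `H^0(g)` is surjective then `H^1(f)` is injective -/
theorem injective_hmap_f_of_surjective (S : ShortComplex X.Modules) (hS : S.ShortExact)
    (hsurj : Function.Surjective (hmap S.g 0)) : Function.Injective (hmap S.f 1) := by
  rw [injective_iff_map_eq_zero]
  intro x hx
  have hT := SerreCrit.shortExact_toSheaf S hS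
  exact ext_injective_of_exact₃ hT _ (fun z => hsurj z) x hx

end LES

section Bridge

open Groth.Agent.ProjDual Groth.Agent.InvInt QcqsLoc QCohExtn SerreCrit GenLocH8 TensH8
  Groth.Agent.CMReg

variable {X : Scheme.{u}}

/-- surjectivity on `H^0` in terms of morphisms out of `O_X` -/
theorem surjective_hmap_zero_iff {M N : X.Modules} (φ : M ⟶ N) :
    Function.Surjective (hmap φ 0) ↔ ∀ ζ : OO X ⟶ N, ∃ ξ : OO X ⟶ M, ξ ≫ φ = ζ := by
  constructor
  · intro hs ζ
    obtain ⟨y, hy⟩ := hs ((h0 N).symm (ap ζ ⊤ (ofFn (1 : Γ(X, ⊤)))))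
    refine ⟨SDivGenH8.unitHom M (h0 M y), ?_⟩
    rw [FLFH8.unitHom_comp, h0_nat, hy, AddEquiv.apply_symm_apply]
    apply hom_OO_ext
    rw [ap_unitHom_one]
  · intro hl z
    obtain ⟨ξ, hξ⟩ := hl (SDivGenH8.unitHom N (h0 N z))
    refine ⟨(h0 M).symm (ap ξ ⊤ (ofFn (1 : Γ(X, ⊤)))), ?_⟩
    apply (h0 N).injective
    rw [← h0_nat, AddEquiv.apply_symm_apply]
    have h1 : ap φ ⊤ (ap ξ ⊤ (ofFn (1 : Γ(X, ⊤)))) = ap (ξ ≫ φ) ⊤ (ofFn (1 : Γ(X, ⊤))) := rfl
    rw [h1, hξ, ap_unitHom_one]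

/-- transport of the lifting property along a fully faithful functor -/
theorem lift_iff_of_fullyFaithful {C : Type*} [Category C] (T : C ⥤ C) [T.Full] [T.Faithful]
    {A₀ U F G : C} (e : T.obj A₀ ≅ U) (π : F ⟶ G) :
    (∀ ζ : U ⟶ T.obj G, ∃ ξ : U ⟶ T.obj F, ξ ≫ T.map π = ζ) ↔
      ∀ χ : A₀ ⟶ G, ∃ χ' : A₀ ⟶ F, χ' ≫ π = χ := by
  constructor
  · intro h χ
    obtain ⟨ξ, hξ⟩ := h (e.inv ≫ T.map χ)
    refine ⟨T.preimage (e.hom ≫ ξ), ?_⟩
    apply T.map_injective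
    rw [Functor.map_comp, Functor.map_preimage, Category.assoc, hξ, Iso.hom_inv_id_assoc]
  · intro h ζ
    obtain ⟨χ', hχ'⟩ := h (T.preimage (e.hom ≫ ζ))
    refine ⟨e.inv ≫ T.map χ', ?_⟩
    rw [Category.assoc, ← Functor.map_comp, hχ', Functor.map_preimage, Iso.inv_hom_id_assoc]

end Bridge

section Proj

open Groth.Agent.ProjTens Groth.Agent.CMReg Groth.Agent.KosSh Groth.Agent.ProjFin
  Groth.Agent.TensInv

variable (n : ℕ) (R : Type u) [CommRing R]

/-- morphisms `O(-(m+1)) ⟶ G` into an `m`-regular module are sums of composites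
`O(-(m+1)) ⟶ O(-m) ⟶ G` -/
theorem exists_factor_sum [HasExt.{u} (CohB1.ProjSpace n R).Modules]
    (G : (CohB1.ProjSpace n R).Modules) (m : ℤ)
    (h : ∀ q : ℕ, 1 ≤ q →
      Subsingleton (Coh.HH (CohB1.ProjSpace n R) (CohB1.tensorMod G (OO n R (m - q))) q))
    (b b' : ℤ) (hb : b = -(m + 1)) (hb' : b' = -m) (χ : OO n R b ⟶ G) :
    ∃ (N : ℕ) (x : Fin N → (OO n R b ⟶ OO n R b')) (ψ : Fin N → (OO n R b' ⟶ G)),
      χ = ∑ a, x a ≫ ψ a := by
  obtain rfl : b = -(m + 1) + ((0 : ℕ) : ℤ) := by rw [hb]; push_cast; ring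
  obtain rfl : b' = -(m + 1) + ((1 : ℕ) : ℤ) := by rw [hb']; push_cast; ring
  obtain ⟨ψ, hψ⟩ := exists_factor_twist n R G m h χ
  have hid : 𝟙 ((KP n R (-(m + 1))).X 1) =
      ∑ a, ((KPIso n R (-(m + 1)) 1).hom ≫ pr _ _ a) ≫
        (Sigma.ι (fun _ : Fin (Nat.choose (n + 1) 1) =>
          OO n R (-(m + 1) + ((1 : ℕ) : ℤ))) a ≫ (KPIso n R (-(m + 1)) 1).inv) := by
    have h1 := sum_pr_ι (OO n R (-(m + 1) + ((1 : ℕ) : ℤ))) (Nat.choose (n + 1) 1)
    have h2 : (KPIso n R (-(m + 1)) 1).hom ≫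
        (∑ a, pr (OO n R (-(m + 1) + ((1 : ℕ) : ℤ))) (Nat.choose (n + 1) 1) a ≫
          Sigma.ι (fun _ : Fin (Nat.choose (n + 1) 1) =>
            OO n R (-(m + 1) + ((1 : ℕ) : ℤ))) a) ≫
        (KPIso n R (-(m + 1)) 1).inv = 𝟙 _ := by
      rw [h1, Category.id_comp, Iso.hom_inv_id]
    rw [← h2, Preadditive.sum_comp, Preadditive.comp_sum]
    apply Finset.sum_congr rfl
    intro a _
    simp only [Category.assoc]
  refine ⟨Nat.choose (n + 1) 1,
    fun a => (KPι n R (-(m + 1)) ≫ (KP n R (-(m + 1))).d 0 1) ≫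
      (KPIso n R (-(m + 1)) 1).hom ≫ pr _ _ a,
    fun a => (Sigma.ι (fun _ : Fin (Nat.choose (n + 1) 1) =>
      OO n R (-(m + 1) + ((1 : ℕ) : ℤ))) a ≫ (KPIso n R (-(m + 1)) 1).inv) ≫ ψ, ?_⟩
  have hψ2 : χ = (KPι n R (-(m + 1)) ≫ (KP n R (-(m + 1))).d 0 1) ≫ 𝟙 _ ≫ ψ := by
    rw [Category.id_comp, hψ]
  rw [hψ2, hid, Preadditive.sum_comp, Preadditive.comp_sum]
  apply Finset.sum_congr rfl
  intro a _
  simp only [Category.assoc]

/-- the lifting property along `π : F ⟶ G` propagates from `O(-m)` to `O(-(m+1))` when `G` is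
`m`-regular -/
theorem lift_step [HasExt.{u} (CohB1.ProjSpace n R).Modules]
    {F G : (CohB1.ProjSpace n R).Modules} (π : F ⟶ G) (m : ℤ)
    (h : ∀ q : ℕ, 1 ≤ q →
      Subsingleton (Coh.HH (CohB1.ProjSpace n R) (CohB1.tensorMod G (OO n R (m - q))) q))
    (b b' : ℤ) (hb : b = -(m + 1)) (hb' : b' = -m)
    (hl : ∀ χ : OO n R b' ⟶ G, ∃ χ' : OO n R b' ⟶ F, χ' ≫ π = χ)
    (χ : OO n R b ⟶ G) : ∃ χ' : OO n R b ⟶ F, χ' ≫ π = χ := by
  obtain ⟨N, x, ψ, rfl⟩ := exists_factor_sum n R G m h b b' hb hb' χ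
  choose ψ' hψ' using fun a => hl (ψ a)
  refine ⟨∑ a, x a ≫ ψ' a, ?_⟩
  rw [Preadditive.sum_comp]
  apply Finset.sum_congr rfl
  intro a _
  rw [Category.assoc, hψ']

/-- surjectivity of `H^0(F(j)) → H^0(G(j))` in terms of lifting of morphisms `O(-j) ⟶ G` -/
theorem surjective_hmap_twist_iff {F G : (CohB1.ProjSpace n R).Modules} (π : F ⟶ G) (j : ℤ) :
    Function.Surjective (hmap ((tR (OO n R j)).map π) 0) ↔
      ∀ χ : OO n R (-j) ⟶ G, ∃ χ' : OO n R (-j) ⟶ F, χ' ≫ π = χ := by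
  haveI := isEquivalence_tR_twist n R j
  obtain ⟨e⟩ := twist_inv n R (-j) j (by omega)
  have h1 := surjective_hmap_zero_iff ((tR (OO n R j)).map π)
  have h2 := lift_iff_of_fullyFaithful (tR (OO n R j)) (A₀ := OO n R (-j))
    (U := SerreCrit.OO (CohB1.ProjSpace n R)) (F := F) (G := G) e π
  exact h1.trans h2

end Proj

section Numeric

/-- a non-increasing sequence of naturals which is strictly decreasing until it vanishes -/
theorem numeric (a : ℤ → ℕ) (m : ℤ) (h1 : ∀ j, m - 1 ≤ j → a j ≤ a (j - 1))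
    (h2 : ∀ j, m ≤ j → a j = a (j - 1) → a (j - 1) = 0) :
    ∀ j, m - 1 + (a (m - 1) : ℤ) ≤ j → a j = 0 := by
  have claim : ∀ t : ℕ, a (m - 1 + t) + t ≤ a (m - 1) ∨ a (m - 1 + t) = 0 := by
    intro t
    induction t with
    | zero => left; simp
    | succ t ih =>
      have e : m - 1 + ((t + 1 : ℕ) : ℤ) - 1 = m - 1 + t := by push_cast; ring
      have h1' := h1 (m - 1 + ((t + 1 : ℕ) : ℤ)) (by push_cast; omega)
      rw [e] at h1'
      rcases ih with ih | ih
      · by_cases heq : a (m - 1 + ((t + 1 : ℕ) : ℤ)) = a (m - 1 + t)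
        · right
          have h2' := h2 (m - 1 + ((t + 1 : ℕ) : ℤ)) (by push_cast; omega) (by rw [e]; exact heq)
          rw [e] at h2'
          omega
        · left
          omega
      · right
        omega
  intro j hj
  obtain ⟨t, ht⟩ := Int.eq_ofNat_of_zero_le (by omega : 0 ≤ j - (m - 1))
  have hj' : j = m - 1 + t := by omega
  rw [hj']
  rcases claim t with h | h
  · have : (a (m - 1) : ℤ) ≤ t := by omega
    omega
  · exact h

end Numeric

end Groth.Agent.CMMum
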