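import Mathlib
import Groth.Prelude
import Groth.Agent.Lib.CMMum1_helper9

/-!
# Castelnuovo–Mumford: Mumford's lemma, main argument (helper9)
APPEND-ONLY once landed.
-/

set_option autoImplicit false
universe u
open CategoryTheory CategoryTheory.Limits AlgebraicGeometry TopologicalSpace Opposite

namespace Groth.Agent.CMMum

open Groth.Agent.HHVan Groth.Agent.ProjTens Groth.Agent.CMReg Groth.Agent.TensInv
  Groth.Agent.ExtDual Groth.Agent.ProjInt

variable (n : ℕ) (k : Type u) [Field k]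
variable (F : (CohB1.ProjSpace n k).Modules) (ι : CohB1.tensorMod F (OO n k (-1)) ⟶ F) [Mono ι]

/-- the short exact sequence `0 → F(-1) → F → G → 0` -/
noncomputable def SS : ShortComplex (CohB1.ProjSpace n k).Modules :=
  ShortComplex.mk ι (cokernel.π ι) (cokernel.condition ι)

theorem SS_shortExact : (SS n k F ι).ShortExact :=
  ShortComplex.ShortExact.mk' (ShortComplex.exact_cokernel ι) (inferInstanceAs (Mono ι))
    (inferInstanceAs (Epi (cokernel.π ι)))

/-- the twisted sequence `0 → F(-1)(j) → F(j) → G(j) → 0` -/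
noncomputable def SSj (j : ℤ) : ShortComplex (CohB1.ProjSpace n k).Modules :=
  (SS n k F ι).map (tR (OO n k j))

theorem SSj_shortExact (j : ℤ) : (SSj n k F ι j).ShortExact :=
  shortExact_twist n k _ (SS_shortExact n k F ι) j

/-- the first term is `F(j-1)` -/
theorem X₁_iso (j : ℤ) :
    Nonempty ((SSj n k F ι j).X₁ ≅ CohB1.tensorMod F (OO n k (j - 1))) :=
  twist_twist n k F (-1) j (j - 1) (by omega)

/-- cohomology of the twists of `F` -/
abbrev HF (i : ℕ) (j : ℤ) : Type u :=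
  Coh.HH (CohB1.ProjSpace n k) (CohB1.tensorMod F (OO n k j)) i

variable {n k F ι}

/-- vanishing for the quotient `G` -/
theorem vanG (m : ℤ)
    (hG : ∀ q : ℕ, 1 ≤ q → Subsingleton (Coh.HH (CohB1.ProjSpace n k)
      (CohB1.tensorMod (cokernel ι) (OO n k (m - q))) q))
    (i : ℕ) (hi : 1 ≤ i) (j : ℤ) (hj : m - i ≤ j) :
    Subsingleton (Coh.HH (CohB1.ProjSpace n k) (CohB1.tensorMod (cokernel ι) (OO n k j)) i) := by
  obtain ⟨s, hs⟩ := Int.eq_ofNat_of_zero_le (by omega : 0 ≤ j - (m - i))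
  have h := propagate_all n k (cokernel ι) m hG s i hi
  have e : m + (s : ℤ) - i = j := by omega
  rw [e] at h
  exact h

/-- vanishing of `H^i(F(j))` passes from `j` to `j - 1` when `H^{i-1}(G(j)) = 0` -/
theorem vanF_step (i : ℕ) (j : ℤ)
    (h3 : Subsingleton (Coh.HH (CohB1.ProjSpace n k) (CohB1.tensorMod (cokernel ι) (OO n k j)) i))
    (h2 : Subsingleton (HF n k F (i + 1) j)) : Subsingleton (HF n k F (i + 1) (j - 1)) := by
  obtain ⟨t⟩ := X₁_iso n k F ι j
  have h1 : Subsingleton (Coh.HH (CohB1.ProjSpace n k) (SSj n k F ι j).X₁ (i + 1)) :=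
    subsingleton_left (SSj n k F ι j) (SSj_shortExact n k F ι j) i h3 h2
  exact subsingleton_of_iso t (i + 1) h1

/-- (i): `H^i(F(j)) = 0` for `i ≥ 2`, `j ≥ m - i` -/
theorem vanF (hF : Coh.IsCoh F) (m : ℤ)
    (hG : ∀ q : ℕ, 1 ≤ q → Subsingleton (Coh.HH (CohB1.ProjSpace n k)
      (CohB1.tensorMod (cokernel ι) (OO n k (m - q))) q))
    (i : ℕ) (j : ℤ) (hi : 2 ≤ i) (hj : m - i ≤ j) : Subsingleton (HF n k F i j) := by
  obtain ⟨d₀, hd₀⟩ := serre_vanishing n k F hF
  obtain ⟨i', rfl⟩ : ∃ i', i = i' + 1 := ⟨i - 1, by omega⟩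
  have claim : ∀ N : ℕ, ∀ j : ℤ, m - ((i' + 1 : ℕ) : ℤ) ≤ j → d₀ ≤ j + N →
      Subsingleton (HF n k F (i' + 1) j) := by
    intro N
    induction N with
    | zero =>
      intro j _ hjd
      exact hd₀ j (by simpa using hjd) (i' + 1) (by omega)
    | succ N ih =>
      intro j hj hjd
      have h2 := ih (j + 1) (by omega) (by push_cast at hjd ⊢; omega)
      have h3 := vanG m hG i' (by omega) (j + 1) (by push_cast at hj ⊢; omega)
      have := vanF_step i' (j + 1) h3 h2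
      rw [add_sub_cancel_right] at this
      exact this
  exact claim (d₀ - j).toNat j hj (by omega)

theorem isCoh_X₁ (hF : Coh.IsCoh F) (j : ℤ) : Coh.IsCoh (SSj n k F ι j).X₁ :=
  Groth.Agent.RegZero.isCoh_twistBy n k _ (Groth.Agent.RegZero.isCoh_twistBy n k F hF (-1)) j

theorem finite_HF (hF : Coh.IsCoh F) (i : ℕ) (j : ℤ) : Module.Finite k (HF n k F i j) :=
  finite_HH k n _ (Groth.Agent.RegZero.isCoh_twistBy n k F hF j) i

/-- the `k`-linear map `H^1(F(-1)(j)) → H^1(F(j))` -/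
noncomputable def fLin (j : ℤ) :
    Coh.HH (CohB1.ProjSpace n k) (SSj n k F ι j).X₁ 1 →ₗ[k] HF n k F 1 j :=
  Canon.HHlin k (SSj n k F ι j).f 1

theorem fLin_apply (j : ℤ) (x : Coh.HH (CohB1.ProjSpace n k) (SSj n k F ι j).X₁ 1) :
    fLin (ι := ι) j x = hmap (SSj n k F ι j).f 1 x := rfl

theorem finrank_X₁ (j : ℤ) :
    Module.finrank k (Coh.HH (CohB1.ProjSpace n k) (SSj n k F ι j).X₁ 1) =
      Module.finrank k (HF n k F 1 (j - 1)) := by
  obtain ⟨t⟩ := X₁_iso n k F ι j
  exact finrank_HH_of_iso k t 1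

/-- (ii): `h^1(F(j)) ≤ h^1(F(j-1))` for `j ≥ m - 1` -/
theorem finrank_le (hF : Coh.IsCoh F) (m : ℤ)
    (hG : ∀ q : ℕ, 1 ≤ q → Subsingleton (Coh.HH (CohB1.ProjSpace n k)
      (CohB1.tensorMod (cokernel ι) (OO n k (m - q))) q))
    (j : ℤ) (hj : m - 1 ≤ j) :
    Module.finrank k (HF n k F 1 j) ≤ Module.finrank k (HF n k F 1 (j - 1)) := by
  haveI := finite_HH k n _ (isCoh_X₁ (ι := ι) hF j) 1
  have hsurj : Function.Surjective (fLin (ι := ι) j) :=
    surjective_hmap_f (SSj n k F ι j) (SSj_shortExact n k F ι j) 1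
      (vanG m hG 1 le_rfl j (by push_cast; omega))
  have hr : LinearMap.range (fLin (ι := ι) j) = ⊤ := LinearMap.range_eq_top.mpr hsurj
  have h := LinearMap.finrank_range_le (fLin (ι := ι) j)
  rw [hr, finrank_top, finrank_X₁] at h
  exact h

/-- the lifting property for `O(-j)` propagates to all `O(-(j+s))` -/
theorem lift_all (m : ℤ)
    (hG : ∀ q : ℕ, 1 ≤ q → Subsingleton (Coh.HH (CohB1.ProjSpace n k)
      (CohB1.tensorMod (cokernel ι) (OO n k (m - q))) q))
    (j : ℤ) (hj : m ≤ j)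
    (hl : ∀ χ : OO n k (-j) ⟶ cokernel ι, ∃ χ' : OO n k (-j) ⟶ F, χ' ≫ cokernel.π ι = χ)
    (s : ℕ) : ∀ b : ℤ, b = -(j + s) →
      ∀ χ : OO n k b ⟶ cokernel ι, ∃ χ' : OO n k b ⟶ F, χ' ≫ cokernel.π ι = χ := by
  haveI := hasExt_modules (CohB1.ProjSpace n k)
  induction s with
  | zero =>
    intro b hb
    obtain rfl : b = -j := by simpa using hb
    exact hl
  | succ s ih =>
    intro b hb χ
    refine lift_step n k (cokernel.π ι) (j + s) ?_ b (-(j + s)) (by rw [hb]; push_cast; ring) rfl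
      (ih _ rfl) χ
    intro q hq
    exact vanG m hG q hq _ (by omega)

/-- injectivity of `H^1(F(-1)(j')) → H^1(F(j'))` for all `j' ≥ j`, once `H^0(F(j)) → H^0(G(j))`
is surjective and `j ≥ m` -/
theorem injective_all (m : ℤ)
    (hG : ∀ q : ℕ, 1 ≤ q → Subsingleton (Coh.HH (CohB1.ProjSpace n k)
      (CohB1.tensorMod (cokernel ι) (OO n k (m - q))) q))
    (j : ℤ) (hj : m ≤ j) (hs : Function.Surjective (hmap (SSj n k F ι j).g 0))
    (j' : ℤ) (hj' : j ≤ j') : Function.Injective (hmap (SSj n k F ι j').f 1) := by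
  apply injective_hmap_f_of_surjective _ (SSj_shortExact n k F ι j')
  have hl := (surjective_hmap_twist_iff n k (cokernel.π ι) j).mp hs
  obtain ⟨s, hs'⟩ := Int.eq_ofNat_of_zero_le (by omega : 0 ≤ j' - j)
  have hl' := lift_all m hG j hj hl s (-j') (by omega)
  exact (surjective_hmap_twist_iff n k (cokernel.π ι) j').mpr hl'

/-- key step: if `h^1(F(j)) = h^1(F(j-1))` with `j ≥ m` then `H^1(F(j-1)) = 0` -/
theorem subsingleton_of_finrank_eq (hF : Coh.IsCoh F) (m : ℤ)
    (hG : ∀ q : ℕ, 1 ≤ q → Subsingleton (Coh.HH (CohB1.ProjSpace n k)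
      (CohB1.tensorMod (cokernel ι) (OO n k (m - q))) q))
    (j : ℤ) (hj : m ≤ j)
    (heq : Module.finrank k (HF n k F 1 j) = Module.finrank k (HF n k F 1 (j - 1))) :
    Subsingleton (HF n k F 1 (j - 1)) := by
  haveI := finite_HH k n _ (isCoh_X₁ (ι := ι) hF j) 1
  haveI := finite_HF (n := n) (k := k) hF 1 j
  have hsurj : Function.Surjective (fLin (ι := ι) j) :=
    surjective_hmap_f (SSj n k F ι j) (SSj_shortExact n k F ι j) 1
      (vanG m hG 1 le_rfl j (by push_cast; omega))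
  have hinj : Function.Injective (fLin (ι := ι) j) :=
    (LinearMap.injective_iff_surjective_of_finrank_eq_finrank
      ((finrank_X₁ (ι := ι) j).trans heq.symm)).mpr hsurj
  have hs0 : Function.Surjective (hmap (SSj n k F ι j).g 0) :=
    surjective_hmap_g_of_injective _ (SSj_shortExact n k F ι j) hinj
  have hall := injective_all m hG j hj hs0
  obtain ⟨d₀, hd₀⟩ := serre_vanishing n k F hF
  -- downward induction
  have step : ∀ j' : ℤ, j ≤ j' → Subsingleton (HF n k F 1 j') →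
      Subsingleton (HF n k F 1 (j' - 1)) := by
    intro j' hj' h
    obtain ⟨t⟩ := X₁_iso n k F ι j'
    have h1 : Subsingleton (Coh.HH (CohB1.ProjSpace n k) (SSj n k F ι j').X₁ 1) := by
      refine ⟨fun x y => hall j' hj' ?_⟩
      exact Subsingleton.elim (h := h) _ _
    exact subsingleton_of_iso t 1 h1
  have claim : ∀ N : ℕ, ∀ j' : ℤ, j ≤ j' → d₀ ≤ j' + N → Subsingleton (HF n k F 1 (j' - 1)) := by
    intro N
    induction N with
    | zero =>
      intro j' hj' hd
      exact step j' hj' (hd₀ j' (by simpa using hd) 1 le_rfl)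
    | succ N ih =>
      intro j' hj' hd
      have h2 := ih (j' + 1) (by omega) (by push_cast at hd ⊢; omega)
      rw [add_sub_cancel_right] at h2
      exact step j' hj' h2
  exact claim (d₀ - j).toNat j le_rfl (by omega)

/-- (iii): `H^1(F(j)) = 0` for `j ≥ m - 1 + h^1(F(m-1))` -/
theorem vanF_one (hF : Coh.IsCoh F) (m : ℤ)
    (hG : ∀ q : ℕ, 1 ≤ q → Subsingleton (Coh.HH (CohB1.ProjSpace n k)
      (CohB1.tensorMod (cokernel ι) (OO n k (m - q))) q))
    (j : ℤ) (hj : m - 1 + (Module.finrank k (HF n k F 1 (m - 1)) : ℤ) ≤ j) :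
    Subsingleton (HF n k F 1 j) := by
  haveI := finite_HF (n := n) (k := k) hF 1 j
  rw [← Module.finrank_eq_zero_iff_of_free k]
  refine numeric (fun j => Module.finrank k (HF n k F 1 j)) m (finrank_le hF m hG) ?_ j hj
  intro j' hj' heq
  haveI := finite_HF (n := n) (k := k) hF 1 (j' - 1)
  rw [Module.finrank_eq_zero_iff_of_free k]
  exact subsingleton_of_finrank_eq hF m hG j' hj' heq

/-- **Mumford's lemma** -/
theorem mumford (hF : Coh.IsCoh F) (m : ℤ)
    (hG : ∀ q : ℕ, 1 ≤ q → Subsingleton (Coh.HH (CohB1.ProjSpace n k)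
      (CohB1.tensorMod (cokernel ι) (OO n k (m - q))) q)) :
    (∀ (i : ℕ) (j : ℤ), 2 ≤ i → m - i ≤ j → Subsingleton (HF n k F i j)) ∧
    (∀ j : ℤ, m - 1 ≤ j →
      Module.finrank k (HF n k F 1 j) ≤ Module.finrank k (HF n k F 1 (j - 1))) ∧
    (∀ j : ℤ, m - 1 + (Module.finrank k (HF n k F 1 (m - 1)) : ℤ) ≤ j →
      Subsingleton (HF n k F 1 j)) ∧
    (∀ i : ℕ, 1 ≤ i → Subsingleton (HF n k F i
      (m + (Module.finrank k (HF n k F 1 (m - 1)) : ℕ) - i))) := by
  refine ⟨fun i j hi hj => vanF hF m hG i j hi hj, finrank_le hF m hG,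
    vanF_one hF m hG, fun i hi => ?_⟩
  rcases Nat.lt_or_ge i 2 with h2 | h2
  · obtain rfl : i = 1 := by omega
    exact vanF_one hF m hG _ (by push_cast; omega)
  · exact vanF hF m hG i _ h2 (by omega)

end Groth.Agent.CMMum
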