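import Mathlib
import Groth.Prelude
import Groth.Agent.Lib.ClImmTw1_helper9
import Groth.Agent.Lib.PushEdgeNat_helper9
import Groth.Agent.Lib.HypConn2_helper9
import Groth.Agent.Lib.GGDesc_helper9
import Groth.Agent.Lib.AModHom1_helper8
import Groth.Agent.Lib.Snap2_helper9
import Groth.Agent.S1642
import Groth.Agent.S1647
import Groth.Agent.S11296

/-!
# Castelnuovo–Mumford regularity on a closed subscheme of projective space (helper9)
Transfer along `i_*` of the statements on `P^n_k`.  **S12111**, **S12112**.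
APPEND-ONLY once landed.
-/

set_option autoImplicit false
universe u
open AlgebraicGeometry CategoryTheory CategoryTheory.Limits TopologicalSpace Opposite

namespace CMClosed

open CohB1

variable (k : Type u) [Field k] (n : ℕ) {X : Scheme.{u}} (i : X ⟶ CohB1.ProjSpace n k)
  [IsClosedImmersion i]

theorem isInvertible_pullback_twist (d : ℤ) :
    PicF.IsInvertible ((Scheme.Modules.pullback i).obj (Twist.twistProjSpace n k d)) :=
  TensH8.isInvertible_pullback i
    (Groth.Agent.ProjTw.isInvertible_twist (CohB1.polyGrading n k)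
      (Groth.Agent.ProjTens.hcov' n k) d)

/-- `i_*(G(d)) ≅ (i_* G)(d)` -/
noncomputable def pushTwist (G : X.Modules) (d : ℤ) :
    (Scheme.Modules.pushforward i).obj (Pic13.twistOn k i G d) ≅
      tensorMod ((Scheme.Modules.pushforward i).obj G) (Twist.twistProjSpace n k d) :=
  Groth.Agent.ClImmTw.pushTwistIso i _ (Groth.Agent.ClImmTw.isFinLocFree_twist k n d) G

theorem isQuasicoherent_twistOn (G : X.Modules) [G.IsQuasicoherent] (d : ℤ) :
    (Pic13.twistOn k i G d).IsQuasicoherent :=
  TensH8.isQuasicoherent_tensorMod_right G (isInvertible_pullback_twist k n i d)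

section Over

variable [X.Over (Spec (CommRingCat.of k))]
  (hi : i ≫ CohB1.ProjSpace.toSpec n k = X ↘ Spec (CommRingCat.of k))

/-- cohomology of a twist on `X` is the cohomology of the twist of the direct image -/
noncomputable def hhEquiv (G : X.Modules) [G.IsQuasicoherent] (d : ℤ) (q : ℕ) :
    Coh.HH X (Pic13.twistOn k i G d) q ≃ₗ[k]
      Coh.HH (CohB1.ProjSpace n k)
        (tensorMod ((Scheme.Modules.pushforward i).obj G) (Twist.twistProjSpace n k d)) q :=
  haveI := isQuasicoherent_twistOn k n i G d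
  (Groth.Agent.PushEdgeNat.pushEdgeEquiv i hi (Pic13.twistOn k i G d) q).symm ≪≫ₗ
    Groth.Agent.HypConn.hhEquivOfIso (pushTwist k n i G d) q

end Over

section Reg

theorem subsingleton_iff (G : X.Modules) [G.IsQuasicoherent] (d : ℤ) (q : ℕ) :
    Subsingleton (Coh.HH X (Pic13.twistOn k i G d) q) ↔
      Subsingleton (Coh.HH (CohB1.ProjSpace n k)
        (tensorMod ((Scheme.Modules.pushforward i).obj G) (Twist.twistProjSpace n k d)) q) := by
  letI : X.Over (Spec (CommRingCat.of k)) := ⟨i ≫ CohB1.ProjSpace.toSpec n k⟩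
  exact (hhEquiv k n i rfl G d q).toEquiv.subsingleton_congr

theorem isCoh_push {F : X.Modules} (hF : Coh.IsCoh F) :
    Coh.IsCoh ((Scheme.Modules.pushforward i).obj F) :=
  CohDevH8.isCoh_pushforward_of_isFinite i hF

theorem isMRegular_push {F : X.Modules} (hF : Coh.IsCoh F) (m : ℤ)
    (h : Pic13.IsMRegular k i F m) :
    Curv2.IsMRegular k n ((Scheme.Modules.pushforward i).obj F) m := by
  haveI := hF.1
  intro q hq _
  exact (subsingleton_iff k n i F (m - q) q).mp (h q hq)

theorem isMRegular_of_push {F : X.Modules} (hF : Coh.IsCoh F) (m : ℤ)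
    (h : Curv2.IsMRegular k n ((Scheme.Modules.pushforward i).obj F) m) :
    Pic13.IsMRegular k i F m := by
  haveI := hF.1
  intro q hq
  rw [subsingleton_iff k n i F (m - q) q]
  by_cases hqn : q ≤ n
  · exact h q hq hqn
  · haveI := Groth.Agent.ProjTens.isQCoh_twistBy n k _ (isCoh_push k n i hF).1 (m - q)
    exact Groth.Agent.S0022.result n k _ q (by omega)

theorem isMRegular_add {F : (CohB1.ProjSpace n k).Modules} (hF : Coh.IsCoh F) (m : ℤ)
    (h : Curv2.IsMRegular k n F m) : ∀ j : ℕ, Curv2.IsMRegular k n F (m + j) := by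
  intro j
  induction j with
  | zero => simpa using h
  | succ j ih =>
    have := Groth.Agent.S1642.result k n F hF (m + j) ih
    have e : m + ((j + 1 : ℕ) : ℤ) = m + j + 1 := by push_cast; ring
    rw [e]
    exact this

theorem gg_of_iso {Y : Scheme.{u}} {A B : Y.Modules} (e : A ≅ B)
    (h : Curv2.IsGloballyGenerated A) : Curv2.IsGloballyGenerated B := by
  obtain ⟨ι, p, hp⟩ := h
  exact ⟨ι, p ≫ e.hom, epi_comp _ _⟩

theorem gg_of_push (G : X.Modules) [G.IsQuasicoherent]
    (h : Curv2.IsGloballyGenerated ((Scheme.Modules.pushforward i).obj G)) :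
    Curv2.IsGloballyGenerated G := by
  obtain ⟨ι, p, hp⟩ := Groth.Agent.GGDesc.gg_pullback i h
  exact ⟨ι, p ≫ (Scheme.Modules.pullbackPushforwardAdjunction i).counit.app G,
    @epi_comp _ _ _ _ _ p hp _ (AModHomH8.epi_counit i G)⟩

/-- **S12111** -/
theorem main12111 (F : X.Modules) (hF : Coh.IsCoh F) (m : ℤ)
    (h : Pic13.IsMRegular k i F m) (n' : ℤ) (hn' : m ≤ n') :
    Pic13.IsMRegular k i F n' ∧ Curv2.IsGloballyGenerated (Pic13.twistOn k i F n') := by
  haveI := hF.1
  have hF' := isCoh_push k n i hF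
  have h1 := isMRegular_add k n hF' m (isMRegular_push k n i hF m h) (n' - m).toNat
  have e : m + ((n' - m).toNat : ℤ) = n' := by
    rw [Int.toNat_of_nonneg (by omega)]
    ring
  rw [e] at h1
  refine ⟨isMRegular_of_push k n i hF n' h1, ?_⟩
  haveI := isQuasicoherent_twistOn k n i F n'
  apply gg_of_push k n i
  exact gg_of_iso (pushTwist k n i F n').symm (Groth.Agent.S1647.result k n _ hF' n' h1)

end Reg

section Mum

variable [X.Over (Spec (CommRingCat.of k))]
  (hi : i ≫ CohB1.ProjSpace.toSpec n k = X ↘ Spec (CommRingCat.of k))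

include hi in
theorem finrank_eq (G : X.Modules) [G.IsQuasicoherent] (d : ℤ) (q : ℕ) :
    Module.finrank k (Coh.HH X (Pic13.twistOn k i G d) q) =
      Module.finrank k (Coh.HH (CohB1.ProjSpace n k)
        (tensorMod ((Scheme.Modules.pushforward i).obj G) (Twist.twistProjSpace n k d)) q) :=
  (hhEquiv k n i hi G d q).finrank_eq

include hi in
/-- **S12112** -/
theorem main12112 [IsAlgClosed k] (F G : X.Modules) (hF : Coh.IsCoh F) (hG : Coh.IsCoh G)
    (f : Pic13.twistOn k i F (-1) ⟶ F) (g : F ⟶ G) (hfg : f ≫ g = 0)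
    (hS : (ShortComplex.mk f g hfg).ShortExact)
    (m : ℤ) (hGm : Pic13.IsMRegular k i G m) :
    (∀ (q : ℕ) (n' : ℤ), 2 ≤ q → m - q ≤ n' →
      Subsingleton (Coh.HH X (Pic13.twistOn k i F n') q)) ∧
    (∀ n' : ℤ, m - 1 ≤ n' →
      Module.finrank k (Coh.HH X (Pic13.twistOn k i F n') 1) ≤
        Module.finrank k (Coh.HH X (Pic13.twistOn k i F (n' - 1)) 1)) ∧
    (∀ n' : ℤ, (m - 1) + (Module.finrank k (Coh.HH X (Pic13.twistOn k i F (m - 1)) 1) : ℤ) ≤ n' →
      Subsingleton (Coh.HH X (Pic13.twistOn k i F n') 1)) ∧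
    Pic13.IsMRegular k i F
      (m + Module.finrank k (Coh.HH X (Pic13.twistOn k i F (m - 1)) 1)) := by
  haveI := hF.1
  haveI := hG.1
  have hF' := isCoh_push k n i hF
  have hS' := Snap9.shortExact_push i _ hS
  haveI : Mono ((Scheme.Modules.pushforward i).map f) := hS'.mono_f
  haveI : Epi ((Scheme.Modules.pushforward i).map g) := hS'.epi_g
  let ι' : tensorMod ((Scheme.Modules.pushforward i).obj F) (Twist.twistProjSpace n k (-1)) ⟶
      (Scheme.Modules.pushforward i).obj F :=
    (pushTwist k n i F (-1)).inv ≫ (Scheme.Modules.pushforward i).map f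
  haveI : Mono ι' := mono_comp _ _
  -- the cokernel of `ι'` is `i_* G`
  let e1 : cokernel ι' ≅ cokernel ((Scheme.Modules.pushforward i).map f) :=
    cokernelEpiComp (pushTwist k n i F (-1)).inv ((Scheme.Modules.pushforward i).map f)
  let e2 : cokernel ((Scheme.Modules.pushforward i).map f) ≅
      (Scheme.Modules.pushforward i).obj G :=
    haveI := hS'.epi_g
    IsColimit.coconePointUniqueUpToIso (cokernelIsCokernel _) hS'.exact.gIsCokernel
  have hG' : Curv2.IsMRegular k n (cokernel ι') m := by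
    intro q hq _
    have h1 := (subsingleton_iff k n i G (m - q) q).mp (hGm q hq)
    exact Groth.Agent.HHVan.subsingleton_of_iso
      (Groth.Agent.TensInv.mapR (e1 ≪≫ e2).symm _) q h1
  obtain ⟨r1, r2, r3, r4⟩ := Groth.Agent.S11296.result k n _ hF' ι' m hG'
  have hfr := finrank_eq k n i hi F (m - 1) 1
  refine ⟨fun q n' hq hn' => ?_, fun n' hn' => ?_, fun n' hn' => ?_, ?_⟩
  · rw [subsingleton_iff k n i F n' q]
    exact r1 q n' hq hn'
  · rw [finrank_eq k n i hi F n' 1, finrank_eq k n i hi F (n' - 1) 1]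
    exact r2 n' hn'
  · rw [subsingleton_iff k n i F n' 1]
    rw [hfr] at hn'
    exact r3 n' hn'
  · rw [hfr]
    exact isMRegular_of_push k n i hF _ r4

end Mum

end CMClosed
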