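import Mathlib
import Groth.Prelude
import Groth.Agent.Lib.CurveAmple5_helper9
import Groth.Agent.Lib.CurveTens4_helper9
import Groth.Agent.Lib.CMClosed1_helper9
import Groth.Agent.Lib.ProjConn_helper9
import Groth.Agent.Lib.PullTens1_helper9
import Groth.Agent.Lib.ProjTens1_helper9

/-!
# `h⁰` of the twists of a curve in projective space (helper9, towards S16534)
APPEND-ONLY once landed.
-/

set_option autoImplicit false

namespace Groth.Agent.Lib.QuinticC

universe u

open CategoryTheory CategoryTheory.Limits AlgebraicGeometry TopologicalSpace Opposite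

section RR

variable (k : Type u) [Field k] (X : Scheme.{u}) [X.Over (Spec (CommRingCat.of k))]
  [IsIntegral X] [IsProper (X ↘ Spec (CommRingCat.of k))]

/-- `h⁰(L) = deg L + 1 - g` for an invertible module of degree `≥ 2g - 1` on an integral proper
curve with `h⁰(O) = 1` -/
theorem finrank_HH0_of_deg_ge (hdim : topologicalKrullDim X ≤ 1)
    (h0 : Module.finrank k (Coh.HH X (Coh.structureModule X) 0) = 1)
    {L : X.Modules} (hL : PicF.IsInvertible L)
    (hdeg : 2 * (Curv2.genus k X : ℤ) - 1 ≤ Curv2.deg k X L 1) :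
    (Module.finrank k (Coh.HH X L 0) : ℤ) = Curv2.deg k X L 1 + 1 - (Curv2.genus k X : ℤ) := by
  haveI : IsLocallyNoetherian X :=
    LocallyOfFiniteType.isLocallyNoetherian (X ↘ Spec (CommRingCat.of k))
  haveI := CurveAmple.HH1_subsingleton_of_deg_ge k X hdim hL hdeg
  haveI := (ProperFinH9.isCoh_of_isInvertible hL).1
  haveI := (CohDevH8.isCoh_structureModule X).1
  have e1 := CurveRR.euler_eq_sub k X hdim L
  have e2 := CurveRR.euler_eq_sub k X hdim (Coh.structureModule X)
  have h1 : Module.finrank k (Coh.HH X L 1) = 0 := Module.finrank_zero_of_subsingleton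
  unfold Curv2.deg
  unfold Curv2.genus at hdeg ⊢
  rw [e1, e2, h0, h1]
  push_cast
  ring

end RR

section Twist

variable (k : Type u) [Field k] (n : ℕ) (C : Scheme.{u}) [C.Over (Spec (CommRingCat.of k))]
  [IsIntegral C] [IsProper (C ↘ Spec (CommRingCat.of k))] (i : C ⟶ CohB1.ProjSpace n k)

theorem isInvertible_pullback_twist (d : ℤ) :
    PicF.IsInvertible ((Scheme.Modules.pullback i).obj (Twist.twistProjSpace n k d)) :=
  TensH8.isInvertible_pullback i
    (Groth.Agent.ProjTw.isInvertible_twist (CohB1.polyGrading n k)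
      (Groth.Agent.ProjTens.hcov' n k) d)

/-- `deg i^* O(2) = 2 deg i^* O(1)` -/
theorem deg_pullback_twist_two (hdim : topologicalKrullDim C ≤ 1) :
    Curv2.deg k C ((Scheme.Modules.pullback i).obj (Twist.twistProjSpace n k 2)) 1 =
      2 * Curv2.deg k C ((Scheme.Modules.pullback i).obj (Twist.twistProjSpace n k 1)) 1 := by
  obtain ⟨e⟩ := Groth.Agent.ProjTens.twist_add' n k 1 1 2 (by norm_num)
  have hA := Groth.Agent.ProjTw.isInvertible_twist (CohB1.polyGrading n k)
      (Groth.Agent.ProjTens.hcov' n k) 1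
  have e2 : (Scheme.Modules.pullback i).obj (Twist.twistProjSpace n k 2) ≅
      CohB1.tensorMod ((Scheme.Modules.pullback i).obj (Twist.twistProjSpace n k 1))
        ((Scheme.Modules.pullback i).obj (Twist.twistProjSpace n k 1)) :=
    (Scheme.Modules.pullback i).mapIso e.symm ≪≫ PullTensH9.pullTensIso i hA hA
  rw [CurveTens.deg_of_iso k C e2 1,
    CurveTens.deg_tensorMod k C hdim (isInvertible_pullback_twist k n C i 1)
      (isInvertible_pullback_twist k n C i 1)]
  ring

/-- the numerics for a curve of genus `g` and degree `δ ≥ 2g - 1` in `P^n` -/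
theorem finrank_HH0_pullback_twist (hdim : topologicalKrullDim C ≤ 1)
    (h0 : Module.finrank k (Coh.HH C (Coh.structureModule C) 0) = 1) (g δ : ℤ)
    (hg : (Curv2.genus k C : ℤ) = g)
    (hδ : Curv2.deg k C ((Scheme.Modules.pullback i).obj (Twist.twistProjSpace n k 1)) 1 = δ)
    (h1 : 2 * g - 1 ≤ δ) (hδ0 : 0 ≤ δ) :
    (Module.finrank k (Coh.HH C
        ((Scheme.Modules.pullback i).obj (Twist.twistProjSpace n k 1)) 0) : ℤ) = δ + 1 - g ∧
    (Module.finrank k (Coh.HH C
        ((Scheme.Modules.pullback i).obj (Twist.twistProjSpace n k 2)) 0) : ℤ) = 2 * δ + 1 - g := by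
  constructor
  · rw [finrank_HH0_of_deg_ge k C hdim h0 (isInvertible_pullback_twist k n C i 1)
      (by rw [hg, hδ]; exact h1), hδ, hg]
  · rw [finrank_HH0_of_deg_ge k C hdim h0 (isInvertible_pullback_twist k n C i 2)
      (by rw [hg, deg_pullback_twist_two k n C i hdim, hδ]; linarith),
      deg_pullback_twist_two k n C i hdim, hδ, hg]

end Twist

end Groth.Agent.Lib.QuinticC
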