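import Mathlib
import Groth.Agent.Lib.FibCritD_helper6
import Groth.Agent.Lib.MiracleFlat_helper5
import Groth.Agent.Lib.FlatCM3_helper9

/-!
# Flatness over a regular fibre from Cohen–Macaulayness of the fibre (helper8)

`R → T → B` local homomorphisms, `B` flat and essentially of finite presentation over `R`,
`T/m_R T` regular, `B/m_R B` Cohen–Macaulay of the same dimension, `B/m_T B` of dimension zero.
Then `B` is flat over `T` (miracle flatness on the closed fibre + critère de platitude par fibres).
APPEND-ONLY once landed.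
-/

set_option autoImplicit false
universe u

namespace Groth.Agent.Lib.CMMorH8

open IsLocalRing

variable {R T B : Type u} [CommRing R] [CommRing T] [CommRing B]
  [IsLocalRing R] [IsLocalRing T] [IsLocalRing B] [Algebra R T] [Algebra T B] [Algebra R B]
  [IsScalarTower R T B] [IsLocalHom (algebraMap R T)] [IsLocalHom (algebraMap T B)]

/-- the quotient of `B̄ = B / (m_R T) B` by the image of `m_{T̄}` is `B / m_T B`. -/
theorem dim_quot_quot (I : Ideal T) (hI : I ≤ maximalIdeal T) [IsLocalRing (T ⧸ I)] :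
    ringKrullDim ((B ⧸ I.map (algebraMap T B)) ⧸
      (maximalIdeal (T ⧸ I)).map (algebraMap (T ⧸ I) (B ⧸ I.map (algebraMap T B)))) =
      ringKrullDim (B ⧸ (maximalIdeal T).map (algebraMap T B)) := by
  have h1 : maximalIdeal (T ⧸ I) = (maximalIdeal T).map (Ideal.Quotient.mk I) :=
    (IsLocalRing.map_maximalIdeal_of_surjective _ Ideal.Quotient.mk_surjective).symm
  have h2 : (maximalIdeal (T ⧸ I)).map (algebraMap (T ⧸ I) (B ⧸ I.map (algebraMap T B))) =
      ((maximalIdeal T).map (algebraMap T B)).map (Ideal.Quotient.mk (I.map (algebraMap T B))) := by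
    rw [h1, Ideal.map_map, Ideal.map_map]
    rfl
  have hle : I.map (algebraMap T B) ≤ (maximalIdeal T).map (algebraMap T B) := Ideal.map_mono hI
  have e1 := DoubleQuot.quotQuotEquivQuotSup (I.map (algebraMap T B))
    ((maximalIdeal T).map (algebraMap T B))
  have e2 : (B ⧸ (I.map (algebraMap T B) ⊔ (maximalIdeal T).map (algebraMap T B))) ≃+*
      (B ⧸ (maximalIdeal T).map (algebraMap T B)) :=
    Ideal.quotEquivOfEq (sup_eq_right.mpr hle)
  rw [ringKrullDim_eq_of_ringEquiv (Ideal.quotEquivOfEq h2)]
  exact ringKrullDim_eq_of_ringEquiv (e1.trans e2)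

set_option maxHeartbeats 800000 in
theorem flat_of_cm_fibre [Algebra.EssFiniteType R T] (hB : CAlgX.IsEssFinitePresentation R B)
    [Module.Flat R B]
    (hT : IsRegularLocalRing (T ⧸ EGA4.mB R T))
    (hBcm : LocCoh.IsCohenMacaulayLocalRing (B ⧸ (EGA4.mB R T).map (algebraMap T B)))
    (hdim : ringKrullDim (B ⧸ (EGA4.mB R T).map (algebraMap T B)) =
      ringKrullDim (T ⧸ EGA4.mB R T))
    (h0 : ringKrullDim (B ⧸ EGA4.mB T B) = 0) : Module.Flat T B := by
  have hI : EGA4.mB R T ≤ maximalIdeal T := IsLocalRing.map_maximalIdeal_le (algebraMap R T)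
  haveI : IsLocalRing (T ⧸ EGA4.mB R T) := hT.toIsLocalRing
  haveI : IsLocalHom (algebraMap (T ⧸ EGA4.mB R T) (B ⧸ (EGA4.mB R T).map (algebraMap T B))) :=
    Groth.Agent.FibDim.isLocalHom_quot (B := B) hI
  -- miracle flatness on the fibre
  have hflat : Module.Flat (T ⧸ EGA4.mB R T) (B ⧸ (EGA4.mB R T).map (algebraMap T B)) := by
    apply Groth.Agent.MiracleFlat.flat_of_isCMRing
    rw [dim_quot_quot (B := B) (EGA4.mB R T) hI, hdim]
    have : ringKrullDim (B ⧸ (maximalIdeal T).map (algebraMap T B)) = 0 := h0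
    rw [this, add_zero]
  -- the fibre criterion
  have hfib : Module.Flat (T ⧸ (maximalIdeal R).map (algebraMap R T))
      (B ⧸ (maximalIdeal R).map (algebraMap R T) • (⊤ : Submodule T B)) := by
    have hset : ((maximalIdeal R).map (algebraMap R T) • (⊤ : Submodule T B)) =
        ((EGA4.mB R T).map (algebraMap T B)).restrictScalars T := by
      rw [Ideal.smul_top_eq_map]
    let e1 : (B ⧸ (maximalIdeal R).map (algebraMap R T) • (⊤ : Submodule T B)) ≃ₗ[T]
        (B ⧸ ((EGA4.mB R T).map (algebraMap T B)).restrictScalars T) :=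
      Submodule.quotEquivOfEq _ _ hset
    let e2 : (B ⧸ ((EGA4.mB R T).map (algebraMap T B)).restrictScalars T) ≃ₗ[T]
        (B ⧸ (EGA4.mB R T).map (algebraMap T B)) :=
      Submodule.Quotient.restrictScalarsEquiv T _
    exact Module.Flat.of_linearEquiv
      ((e1.trans e2).extendScalarsOfSurjective Ideal.Quotient.mk_surjective)
  haveI : Nontrivial B := inferInstance
  exact (Groth.Agent.Lib.FibCritH6.fibre_criterion_essFiniteType (R := R) (S := T) (S' := B)
    (M := B) hB hfib).2

end Groth.Agent.Lib.CMMorH8
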