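import Mathlib
import Groth.Agent.Lib.AffDim16_helper8
import Groth.Agent.Lib.BirFin1_helper8

/-!
# Points of the affine space over a scheme: relative dimension and maximal points
-/

set_option autoImplicit false

universe u

namespace Groth.Agent.Lib.EquidimAtH8

open AlgebraicGeometry CategoryTheory Limits TopologicalSpace Topology

open MvPolynomial AlgebraicGeometry.AffineSpace in
set_option backward.isDefEq.respectTransparency.types false in
theorem flat_affineSpace (n : Type u) (T : Scheme.{u}) : Flat (𝔸(n; T) ↘ T) :=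
  MorphismProperty.pullback_fst _ _ <| by
  have := isIso_of_isTerminal specULiftZIsTerminal.{u} terminalIsTerminal (terminal.from _)
  rw [← terminal.comp_from (Spec.map (CommRingCat.ofHom C)),
    MorphismProperty.cancel_right_of_respectsIso (P := @Flat),
    HasRingHomProperty.Spec_iff (P := @Flat)]
  have h : (CommRingCat.ofHom (C : ULift.{u} ℤ →+* MvPolynomial n (ULift.{u} ℤ))).hom =
      algebraMap _ _ := (MvPolynomial.algebraMap_eq (R := ULift.{u} ℤ) (σ := n)).symm
  rw [h, RingHom.flat_algebraMap_iff]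
  infer_instance

variable (Y : Scheme.{u}) (e : ℕ)

/-- The generic point of a fibre of the affine space has height `e` in the fibre. -/
theorem height_genericPoint_fiber (y : Y) :
    Order.height (genericPoint ↥((𝔸(ULift.{u} (Fin e); Y) ↘ Y).fiber y)) = (e : ℕ∞) := by
  have hdimA := Groth.Agent.Lib.AffDimH8.affineSpace_fiber_dim Y y e
  have hA := Groth.Agent.IrrDimH8.topDim_eq_height_generic
    ((𝔸(ULift.{u} (Fin e); Y) ↘ Y).fiber y)
    (genericPoint ↥((𝔸(ULift.{u} (Fin e); Y) ↘ Y).fiber y))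
    (fun x' => genericPoint_specializes x')
  rw [hA] at hdimA
  exact_mod_cast hdimA

/-- The relative dimension of the affine space of dimension `e` is `e` at every point. -/
theorem fibreDimAt_affineSpace (a : 𝔸(ULift.{u} (Fin e); Y)) :
    FlatMor.fibreDimAt (𝔸(ULift.{u} (Fin e); Y) ↘ Y) a = e := by
  set π := 𝔸(ULift.{u} (Fin e); Y) ↘ Y with hπ
  haveI : LocallyOfFiniteType (π.fiberToSpecResidueField (π a)) :=
    Groth.Agent.FibRes2H8.lft_fiber π (π a)
  obtain ⟨d, hd, hall⟩ := Groth.Agent.Lib.AffDimH8.exists_dim_nat_of_irreducible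
    (Y.residueField (π a)) (π.fiber (π a)) (π.fiberToSpecResidueField (π a))
  rw [Groth.Agent.Lib.AffDimH8.affineSpace_fiber_dim Y (π a) e] at hd
  have : FlatMor.fibreDimAt π a = FlatMor.localDim ↥(π.fiber (π a)) (π.asFiber a) := rfl
  rw [this, hall, ← hd]

/-- The residue transcendence degree of a point of the affine space which is generic in its
fibre. -/
theorem height_asFiber_eq_iff (a : 𝔸(ULift.{u} (Fin e); Y)) :
    Order.height ((𝔸(ULift.{u} (Fin e); Y) ↘ Y).asFiber a) = (e : ℕ∞) ↔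
      (𝔸(ULift.{u} (Fin e); Y) ↘ Y).asFiber a =
        genericPoint ↥((𝔸(ULift.{u} (Fin e); Y) ↘ Y).fiber ((𝔸(ULift.{u} (Fin e); Y) ↘ Y) a)) := by
  constructor
  · intro h
    exact Groth.Agent.Lib.AffDimH8.eq_genericPoint_of_height_ge _ e
      (height_genericPoint_fiber Y e _) (le_of_eq h.symm)
  · intro h
    rw [h]
    exact height_genericPoint_fiber Y e _

/-- A point of the affine space lying over a maximal point and generic in its fibre is maximal. -/
theorem isMax_of_asFiber_eq (a : 𝔸(ULift.{u} (Fin e); Y))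
    (hη : ∀ b : Y, b ⤳ (𝔸(ULift.{u} (Fin e); Y) ↘ Y) a → b = (𝔸(ULift.{u} (Fin e); Y) ↘ Y) a)
    (ha : (𝔸(ULift.{u} (Fin e); Y) ↘ Y).asFiber a =
        genericPoint ↥((𝔸(ULift.{u} (Fin e); Y) ↘ Y).fiber ((𝔸(ULift.{u} (Fin e); Y) ↘ Y) a)))
    (a' : 𝔸(ULift.{u} (Fin e); Y)) (h : a' ⤳ a) : a' = a := by
  set π := 𝔸(ULift.{u} (Fin e); Y) ↘ Y with hπ
  have h1 : π a' = π a := hη _ (h.map π.continuous)
  obtain ⟨z', hz'⟩ : a' ∈ Set.range (π.fiberι (π a)) := by
    rw [Scheme.Hom.range_fiberι]; exact h1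
  have h2 : z' ⤳ π.asFiber a := by
    rw [Groth.Agent.FibRes2H8.specializes_fiber_iff, hz', Scheme.Hom.fiberι_asFiber]
    exact h
  have h3 : π.asFiber a ⤳ z' := by rw [ha]; exact genericPoint_specializes z'
  have h4 : z' = π.asFiber a := (h2.antisymm h3).eq
  rw [← hz', h4, Scheme.Hom.fiberι_asFiber]

/-- A maximal point of the affine space lies over a maximal point and is generic in its fibre. -/
theorem asFiber_eq_of_isMax (a : 𝔸(ULift.{u} (Fin e); Y))
    (hmax : ∀ a' : 𝔸(ULift.{u} (Fin e); Y), a' ⤳ a → a' = a) :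
    (∀ b : Y, b ⤳ (𝔸(ULift.{u} (Fin e); Y) ↘ Y) a → b = (𝔸(ULift.{u} (Fin e); Y) ↘ Y) a) ∧
    (𝔸(ULift.{u} (Fin e); Y) ↘ Y).asFiber a =
        genericPoint ↥((𝔸(ULift.{u} (Fin e); Y) ↘ Y).fiber ((𝔸(ULift.{u} (Fin e); Y) ↘ Y) a)) := by
  set π := 𝔸(ULift.{u} (Fin e); Y) ↘ Y with hπ
  haveI : Flat π := flat_affineSpace _ _
  constructor
  · intro b hb
    obtain ⟨a', ha'1, ha'2⟩ := Flat.generalizingMap π hb
    have := hmax a' ha'1
    rw [← ha'2, this]
  · set γ := genericPoint ↥(π.fiber (π a)) with hγ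
    have h1 : γ ⤳ π.asFiber a := genericPoint_specializes _
    have h2 : π.fiberι (π a) γ ⤳ a := by
      rw [Groth.Agent.FibRes2H8.specializes_fiber_iff, Scheme.Hom.fiberι_asFiber] at h1
      exact h1
    have h3 := hmax _ h2
    apply (π.fiberι (π a)).isEmbedding.injective
    rw [Scheme.Hom.fiberι_asFiber, h3]

end Groth.Agent.Lib.EquidimAtH8
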