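import Mathlib
import Groth.Agent.Lib.AffDim16_helper8
import Groth.Agent.Lib.IntegralHeight_helper5

/-!
# Noether normalization of a fibre, lifted to the total space
-/

set_option autoImplicit false
universe u

open AlgebraicGeometry CategoryTheory Limits

namespace Groth.Agent.Lib.NoethNormH8

open MvPolynomial

/-- Rescaling the variables of a Noether normalization by nonzero constants. -/
theorem isIntegral_aeval_smul {κ F : Type*} [Field κ] [CommRing F] [Algebra κ F] {e : ℕ}
    (g : MvPolynomial (Fin e) κ →ₐ[κ] F) (hg : g.toRingHom.IsIntegral)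
    (c : Fin e → κ) (hc : ∀ i, c i ≠ 0) :
    (aeval (R := κ) (fun i => c i • g (X i))).toRingHom.IsIntegral := by
  set scale : MvPolynomial (Fin e) κ →ₐ[κ] MvPolynomial (Fin e) κ :=
    aeval (fun i => c i • (X i : MvPolynomial (Fin e) κ)) with hscale
  have hcomp : (aeval (R := κ) (fun i => c i • g (X i)) : MvPolynomial (Fin e) κ →ₐ[κ] F)
      = g.comp scale := by
    apply MvPolynomial.algHom_ext
    intro i
    simp [hscale]
  have hsurj : Function.Surjective scale := by
    rw [← AlgHom.range_eq_top, eq_top_iff, ← MvPolynomial.adjoin_range_X]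
    apply Algebra.adjoin_le
    rintro _ ⟨i, rfl⟩
    have h1 : scale (X i) ∈ scale.range := ⟨_, rfl⟩
    have h2 : (c i)⁻¹ • scale (X i) ∈ scale.range := scale.range.smul_mem h1 _
    have h3 : (c i)⁻¹ • scale (X i) = (X i : MvPolynomial (Fin e) κ) := by
      simp [hscale, smul_smul, inv_mul_cancel₀ (hc i)]
    rw [h3] at h2
    exact h2
  rw [hcomp]
  exact RingHom.IsIntegral.trans scale.toRingHom g.toRingHom
    (RingHom.isIntegral_of_surjective _ hsurj) hg


/-- In a pushout `F = K' ⊗_A B` where every element of `K'` is a fraction of elements of `A`,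
every element of `F` becomes an element of `B` after multiplication by a unit coming from `A`. -/
theorem exists_mul_eq_of_isPushout {A K' B F : Type*} [CommRing A] [CommRing K'] [CommRing B]
    [CommRing F] [Algebra A K'] [Algebra A B] [Algebra K' F] [Algebra B F] [Algebra A F]
    [IsScalarTower A K' F] [IsScalarTower A B F] (h : Algebra.IsPushout A K' B F)
    (hfrac : ∀ c' : K', ∃ a' a'' : A, IsUnit (algebraMap A K' a'') ∧
      algebraMap A K' a'' * c' = algebraMap A K' a') (t : F) :
    ∃ (a : A) (b : B), IsUnit (algebraMap A K' a) ∧ algebraMap A F a * t = algebraMap B F b := by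
  refine h.out.inductionOn t _ ?_ ?_ ?_ ?_
  · exact ⟨1, 0, by simp, by simp⟩
  · intro m
    exact ⟨1, m, by simp, by simp⟩
  · rintro c' n ⟨a, b, ha, hab⟩
    obtain ⟨a', a'', ha'', hc'⟩ := hfrac c'
    refine ⟨a'' * a, algebraMap A B a' * b, ?_, ?_⟩
    · rw [map_mul]; exact ha''.mul ha
    · rw [map_mul, map_mul, ← hab, Algebra.smul_def,
        ← IsScalarTower.algebraMap_apply A B F, IsScalarTower.algebraMap_apply A K' F a',
        ← hc', map_mul, IsScalarTower.algebraMap_apply A K' F a'']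
      ring
  · rintro n₁ n₂ ⟨a₁, b₁, ha₁, h₁⟩ ⟨a₂, b₂, ha₂, h₂⟩
    refine ⟨a₁ * a₂, algebraMap A B a₂ * b₁ + algebraMap A B a₁ * b₂, ?_, ?_⟩
    · rw [map_mul]; exact ha₁.mul ha₂
    · rw [map_add, map_mul, map_mul, map_mul, ← h₁, ← h₂,
        ← IsScalarTower.algebraMap_apply A B F, ← IsScalarTower.algebraMap_apply A B F]
      ring


theorem fromSpecResidueField_appTop (Y : Scheme.{u}) (y : Y) :
    (Y.fromSpecResidueField y).appTop =
      Y.presheaf.germ ⊤ y trivial ≫ Y.residue y ≫ (Scheme.ΓSpecIso (Y.residueField y)).inv := by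
  unfold Scheme.fromSpecResidueField
  rw [Scheme.Hom.comp_appTop, Scheme.fromSpecStalk_appTop, Category.assoc, Category.assoc]
  congr 1
  rw [Scheme.ΓSpecIso_inv_naturality]
  simp

theorem exists_frac_fromSpecResidueField (Y : Scheme.{u}) [IsAffine Y] (y : Y)
    (c' : Γ(Spec (Y.residueField y), ⊤)) :
    ∃ a' a'' : Γ(Y, ⊤), IsUnit ((Y.fromSpecResidueField y).appTop a'') ∧
      (Y.fromSpecResidueField y).appTop a'' * c' = (Y.fromSpecResidueField y).appTop a' := by
  have key := fromSpecResidueField_appTop Y y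
  letI := TopCat.Presheaf.algebra_section_stalk Y.presheaf (⟨y, trivial⟩ : (⊤ : Y.Opens))
  haveI hloc := (isAffineOpen_top Y).isLocalization_stalk ⟨y, trivial⟩
  set c := (Scheme.ΓSpecIso (Y.residueField y)).hom c' with hc
  obtain ⟨z, hz⟩ := IsLocalRing.residue_surjective (R := Y.presheaf.stalk y) c
  obtain ⟨⟨a', a''⟩, h⟩ := IsLocalization.surj
    ((isAffineOpen_top Y).primeIdealOf ⟨y, trivial⟩).asIdeal.primeCompl z
  have hunit : IsUnit (algebraMap Γ(Y, ⊤) (Y.presheaf.stalk y) a'') :=
    IsLocalization.map_units _ a''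
  have hc' : c' = (Scheme.ΓSpecIso (Y.residueField y)).inv c := by
    rw [hc]; simp
  refine ⟨a', a'', ?_, ?_⟩
  · rw [key]
    exact (hunit.map (Y.residue y ≫ (Scheme.ΓSpecIso (Y.residueField y)).inv).hom)
  · rw [key, hc', ← hz]
    have h' : z * (Y.presheaf.germ ⊤ y trivial) a''.1 = (Y.presheaf.germ ⊤ y trivial) a' := h
    simp only [CommRingCat.comp_apply]
    rw [← h', map_mul, map_mul, mul_comm]
    rfl



/-- Noether normalization of the fibre with coordinates coming from global sections of `X`. -/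
theorem exists_lift_noether {X Y : Scheme.{u}} [IsAffine X] [IsAffine Y] (f : X ⟶ Y)
    [LocallyOfFiniteType f] (y : Y) (hy : y ∈ Set.range f.base) (e : ℕ)
    (he : topologicalKrullDim ↥(f.fiber y) = e) :
    ∃ b : Fin e → Γ(X, ⊤),
      (MvPolynomial.eval₂Hom ((Scheme.ΓSpecIso (Y.residueField y)).inv ≫
        (f.fiberToSpecResidueField y).appTop).hom
        (fun i => (f.fiberι y).appTop (b i))).IsIntegral := by
  haveI : IsAffine (f.fiber y) := by
    change IsAffine (pullback f (Y.fromSpecResidueField y))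
    infer_instance
  letI algκF : Algebra (Y.residueField y) Γ(f.fiber y, ⊤) :=
    ((Scheme.ΓSpecIso (Y.residueField y)).inv ≫ (f.fiberToSpecResidueField y).appTop).hom.toAlgebra
  haveI hlft : LocallyOfFiniteType (f.fiberToSpecResidueField y) :=
    Groth.Agent.FibRes2H8.lft_fiber f y
  haveI hFT : Algebra.FiniteType (Y.residueField y) Γ(f.fiber y, ⊤) := by
    have h1 : (f.fiberToSpecResidueField y).appTop.hom.FiniteType :=
      (HasRingHomProperty.iff_of_isAffine (P := @LocallyOfFiniteType)).mp hlft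
    have h2 : ((Scheme.ΓSpecIso (Y.residueField y)).inv).hom.FiniteType :=
      RingHom.FiniteType.of_surjective _
        (ConcreteCategory.bijective_of_isIso (Scheme.ΓSpecIso (Y.residueField y)).inv).2
    exact h1.comp h2
  haveI : Nonempty ↥(f.fiber y) := by
    obtain ⟨x, hx⟩ := hy
    have : x ∈ Set.range (f.fiberι y) := by rw [Scheme.Hom.range_fiberι]; exact hx
    obtain ⟨z, -⟩ := this
    exact ⟨z⟩
  haveI : Nontrivial Γ(f.fiber y, ⊤) :=
    @Scheme.component_nontrivial (f.fiber y) ⊤ ⟨⟨Classical.arbitrary _, trivial⟩⟩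
  obtain ⟨s₀, g, hinj, hfin⟩ := exists_finite_inj_algHom_of_fg (Y.residueField y) Γ(f.fiber y, ⊤)
  have hgint : g.toRingHom.IsIntegral := RingHom.Finite.to_isIntegral hfin
  -- the dimension count
  have hdimF : ringKrullDim Γ(f.fiber y, ⊤) = e := by
    rw [← he, IsHomeomorph.topologicalKrullDim_eq _
      (Scheme.homeoOfIso (f.fiber y).isoSpec).isHomeomorph]
    exact (PrimeSpectrum.topologicalKrullDim_eq_ringKrullDim _).symm
  have hs₀ : s₀ = e := by
    letI := g.toRingHom.toAlgebra
    haveI : Algebra.IsIntegral (MvPolynomial (Fin s₀) (Y.residueField y)) Γ(f.fiber y, ⊤) :=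
      algebraMap_isIntegral_iff.mp hgint
    have h1 := Groth.Agent.IntegralHeight.ringKrullDim_eq_of_isIntegral_of_injective
      (MvPolynomial (Fin s₀) (Y.residueField y)) Γ(f.fiber y, ⊤) hinj
    rw [hdimF, MvPolynomial.ringKrullDim_of_isNoetherianRing, ringKrullDim_eq_zero_of_field] at h1
    simp only [Nat.card_eq_fintype_card, Fintype.card_fin, zero_add] at h1
    exact_mod_cast h1.symm
  subst hs₀
  -- the pushout structure
  letI algAB : Algebra Γ(Y, ⊤) Γ(X, ⊤) := f.appTop.hom.toAlgebra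
  letI algAK : Algebra Γ(Y, ⊤) Γ(Spec (Y.residueField y), ⊤) :=
    (Y.fromSpecResidueField y).appTop.hom.toAlgebra
  letI algKF : Algebra Γ(Spec (Y.residueField y), ⊤) Γ(f.fiber y, ⊤) :=
    (f.fiberToSpecResidueField y).appTop.hom.toAlgebra
  letI algBF : Algebra Γ(X, ⊤) Γ(f.fiber y, ⊤) := (f.fiberι y).appTop.hom.toAlgebra
  letI algAF : Algebra Γ(Y, ⊤) Γ(f.fiber y, ⊤) :=
    ((f.fiberToSpecResidueField y).appTop.hom.comp (Y.fromSpecResidueField y).appTop.hom).toAlgebra
  haveI : IsScalarTower Γ(Y, ⊤) Γ(Spec (Y.residueField y), ⊤) Γ(f.fiber y, ⊤) :=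
    IsScalarTower.of_algebraMap_eq' rfl
  have hsq : IsPullback (f.fiberι y) (f.fiberToSpecResidueField y) f (Y.fromSpecResidueField y) :=
    IsPullback.of_hasPullback _ _
  haveI : IsScalarTower Γ(Y, ⊤) Γ(X, ⊤) Γ(f.fiber y, ⊤) := IsScalarTower.of_algebraMap_eq' (by
    have := congr(($(hsq.w)).appTop.hom)
    simp at this
    exact this.symm)
  have hp : Algebra.IsPushout Γ(Y, ⊤) Γ(X, ⊤) Γ(Spec (Y.residueField y), ⊤) Γ(f.fiber y, ⊤) :=
    CommRingCat.isPushout_iff_isPushout.mp (isPushout_appTop_of_isPullback hsq)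
  have hlift := fun i : Fin s₀ => exists_mul_eq_of_isPushout hp.symm
    (exists_frac_fromSpecResidueField Y y) (g (MvPolynomial.X i))
  choose a b ha hab using hlift
  set c : Fin s₀ → Y.residueField y := fun i =>
    (Scheme.ΓSpecIso (Y.residueField y)).hom ((Y.fromSpecResidueField y).appTop (a i)) with hcdef
  have hc : ∀ i, c i ≠ 0 := fun i =>
    ((ha i).map (Scheme.ΓSpecIso (Y.residueField y)).hom.hom).ne_zero
  have hcb : ∀ i, c i • g (MvPolynomial.X i) = (f.fiberι y).appTop (b i) := by
    intro i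
    have h1 : (f.fiberι y).appTop (b i) =
        (algebraMap Γ(Y, ⊤) Γ(f.fiber y, ⊤)) (a i) * g (MvPolynomial.X i) := (hab i).symm
    rw [h1, Algebra.smul_def]
    congr 1
    change (f.fiberToSpecResidueField y).appTop ((Scheme.ΓSpecIso (Y.residueField y)).inv
      ((Scheme.ΓSpecIso (Y.residueField y)).hom ((Y.fromSpecResidueField y).appTop (a i)))) = _
    rw [← CommRingCat.comp_apply (Scheme.ΓSpecIso (Y.residueField y)).hom, Iso.hom_inv_id]
    rfl
  refine ⟨b, ?_⟩
  have hmain := isIntegral_aeval_smul g hgint c hc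
  convert hmain using 1
  apply MvPolynomial.ringHom_ext
  · intro r
    simp
    rfl
  · intro i
    simp [hcb]

theorem main3394 {X Y : Scheme.{u}} [IsAffine X] [IsAffine Y] (f : X ⟶ Y)
    [LocallyOfFiniteType f] (y : Y) (hy : y ∈ Set.range f.base) (e : ℕ)
    (he : topologicalKrullDim ↥(f.fiber y) = e) :
    ∃ g : X ⟶ 𝔸(ULift.{u} (Fin e); Y), g ≫ (𝔸(ULift.{u} (Fin e); Y) ↘ Y) = f ∧
      IsFinite (pullback.snd g ((𝔸(ULift.{u} (Fin e); Y) ↘ Y).fiberι y)) := by
  obtain ⟨b, hb⟩ := exists_lift_noether f y hy e he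
  set G : X ⟶ 𝔸(ULift.{u} (Fin e); Y) :=
    AffineSpace.homOfVector f (fun i : ULift.{u} (Fin e) => b i.down) with hG
  have hGover : G ≫ (𝔸(ULift.{u} (Fin e); Y) ↘ Y) = f := AffineSpace.homOfVector_over _ _
  refine ⟨G, hGover, ?_⟩
  set π := 𝔸(ULift.{u} (Fin e); Y) ↘ Y with hπ
  set p₂ := pullback.snd G (π.fiberι y) with hp₂
  set p₁ := pullback.fst G (π.fiberι y) with hp₁
  have hsq : IsPullback p₁ p₂ G (π.fiberι y) := IsPullback.of_hasPullback _ _
  have hbig : IsPullback p₁ (p₂ ≫ π.fiberToSpecResidueField y) f (Y.fromSpecResidueField y) := by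
    have h2 : IsPullback (π.fiberι y) (π.fiberToSpecResidueField y) π
      (Y.fromSpecResidueField y) := IsPullback.of_hasPullback _ _
    have := (hsq.flip.paste_horiz h2.flip).flip
    rwa [hGover] at this
  have hbig' : IsPullback (f.fiberι y) (f.fiberToSpecResidueField y) f
      (Y.fromSpecResidueField y) := IsPullback.of_hasPullback _ _
  set ψ := hbig.isoIsPullback _ _ hbig' with hψ
  have hψ1 : ψ.hom ≫ f.fiberι y = p₁ := IsPullback.isoIsPullback_hom_fst _ _ _ _
  have hψ2 : ψ.hom ≫ f.fiberToSpecResidueField y = p₂ ≫ π.fiberToSpecResidueField y :=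
    IsPullback.isoIsPullback_hom_snd _ _ _ _
  haveI : IsAffine (π.fiber y) := by
    change IsAffine (pullback π (Y.fromSpecResidueField y))
    infer_instance
  haveI : IsAffine (pullback G (π.fiberι y)) := inferInstance
  haveI hlft : LocallyOfFiniteType (f.fiberToSpecResidueField y) :=
    Groth.Agent.FibRes2H8.lft_fiber f y
  haveI : LocallyOfFiniteType (p₂ ≫ π.fiberToSpecResidueField y) := by
    rw [← hψ2]; infer_instance
  haveI : LocallyOfFiniteType p₂ := locallyOfFiniteType_of_comp p₂ (π.fiberToSpecResidueField y)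
  rw [IsFinite.iff_isIntegralHom_and_locallyOfFiniteType]
  refine ⟨?_, inferInstance⟩
  rw [HasAffineProperty.iff_of_isAffine (P := @IsIntegralHom)]
  refine ⟨inferInstance, ?_⟩
  -- the ring map from the polynomial ring to the sections of the fibre of the affine space
  set θ : MvPolynomial (Fin e) (Y.residueField y) →+* Γ(π.fiber y, ⊤) :=
    MvPolynomial.eval₂Hom ((Scheme.ΓSpecIso (Y.residueField y)).inv ≫
      (π.fiberToSpecResidueField y).appTop).hom
      (fun i => (π.fiberι y).appTop (AffineSpace.coord Y (ULift.up i))) with hθ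
  have hcomm : p₂.appTop.hom.comp θ = ψ.hom.appTop.hom.comp
      (MvPolynomial.eval₂Hom ((Scheme.ΓSpecIso (Y.residueField y)).inv ≫
        (f.fiberToSpecResidueField y).appTop).hom
        (fun i => (f.fiberι y).appTop (b i))) := by
    apply MvPolynomial.ringHom_ext
    · intro r
      simp only [hθ, RingHom.comp_apply, MvPolynomial.coe_eval₂Hom, MvPolynomial.eval₂_C,
        CommRingCat.comp_apply]
      rw [← CommRingCat.comp_apply, ← CommRingCat.comp_apply (f.fiberToSpecResidueField y).appTop,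
        ← Scheme.Hom.comp_appTop, ← Scheme.Hom.comp_appTop, hψ2]
    · intro i
      simp only [hθ, RingHom.comp_apply, MvPolynomial.coe_eval₂Hom, MvPolynomial.eval₂_X]
      rw [← CommRingCat.comp_apply, ← CommRingCat.comp_apply (f.fiberι y).appTop,
        ← Scheme.Hom.comp_appTop, ← Scheme.Hom.comp_appTop, hψ1, ← hsq.w,
        Scheme.Hom.comp_appTop, CommRingCat.comp_apply]
      congr 1
      exact (AffineSpace.homOfVector_appTop_coord f _ (ULift.up i))
  have hint : (ψ.hom.appTop.hom.comp
      (MvPolynomial.eval₂Hom ((Scheme.ΓSpecIso (Y.residueField y)).inv ≫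
        (f.fiberToSpecResidueField y).appTop).hom
        (fun i => (f.fiberι y).appTop (b i)))).IsIntegral := by
    refine RingHom.IsIntegral.trans _ _ hb ?_
    refine RingHom.isIntegral_of_surjective _ (fun w => ⟨ψ.inv.appTop w, ?_⟩)
    change ψ.hom.appTop (ψ.inv.appTop w) = w
    rw [← CommRingCat.comp_apply, ← Scheme.Hom.comp_appTop, Iso.hom_inv_id]
    rfl
  rw [← hcomm] at hint
  exact RingHom.IsIntegral.tower_top _ _ hint

end Groth.Agent.Lib.NoethNormH8
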