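import Mathlib
import Groth.Prelude.Def_EGA43
import Groth.Agent.Lib.EquidimAt1_helper8
import Groth.Agent.Lib.NoethNorm1_helper8

/-!
# Equidimensional morphisms and quasi-finite morphisms to affine spaces
-/

set_option autoImplicit false

universe u

namespace Groth.Agent.Lib.EquidimAtH8

open AlgebraicGeometry CategoryTheory Limits TopologicalSpace Topology

variable {X Y : Scheme.{u}}

/-- The height of a point of the affine space in its fibre is its residual transcendence degree. -/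
theorem resTrdeg_affineSpace_eq_iff (e : ℕ) (a : 𝔸(ULift.{u} (Fin e); Y)) :
    Dual3.resTrdeg (𝔸(ULift.{u} (Fin e); Y) ↘ Y) a = (e : Cardinal.{u}) ↔
      Order.height ((𝔸(ULift.{u} (Fin e); Y) ↘ Y).asFiber a) = (e : ℕ∞) := by
  obtain ⟨n, hn, hh⟩ := Groth.Agent.FibRes2H8.height_asFiber (𝔸(ULift.{u} (Fin e); Y) ↘ Y) a
  have hn' : Dual3.resTrdeg (𝔸(ULift.{u} (Fin e); Y) ↘ Y) a = n := hn
  rw [hn', hh]
  constructor
  · intro h
    have : n = e := by exact_mod_cast h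
    rw [this]
  · intro h
    have : n = e := by exact_mod_cast h
    rw [this]

/-- Key computation: at a maximal point of the source of a locally quasi-finite morphism to the
affine space, the relative dimension over the base is the residual transcendence degree of the
image point. -/
theorem fibreDimAt_eq_iff_of_isMax {T : Scheme.{u}} (h : T ⟶ Y) [LocallyOfFiniteType h] (e : ℕ)
    (g : T ⟶ 𝔸(ULift.{u} (Fin e); Y)) (hg : g ≫ (𝔸(ULift.{u} (Fin e); Y) ↘ Y) = h)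
    [LocallyQuasiFinite g] (ζ : T) (hζ : ∀ z : T, z ⤳ ζ → z = ζ) :
    FlatMor.fibreDimAt h ζ = e ↔
      Order.height ((𝔸(ULift.{u} (Fin e); Y) ↘ Y).asFiber (g ζ)) = (e : ℕ∞) := by
  haveI : LocallyOfFiniteType (g ≫ (𝔸(ULift.{u} (Fin e); Y) ↘ Y)) := by rw [hg]; infer_instance
  haveI : LocallyOfFiniteType g :=
    locallyOfFiniteType_of_comp g (𝔸(ULift.{u} (Fin e); Y) ↘ Y)
  rw [← resTrdeg_affineSpace_eq_iff]
  have h1 : Dual3.resTrdeg h ζ = Dual3.resTrdeg (𝔸(ULift.{u} (Fin e); Y) ↘ Y) (g ζ) := by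
    rw [ResTrdegH8.resTrdeg_congr hg.symm, ResTrdegH8.resTrdeg_comp,
      ResTrdegH8.resTrdeg_eq_zero_of_lqf g ζ, add_zero]
  rw [← h1, FibCohH8.fibreDimAt_eq h ζ, Groth.Agent.Lib.AffDimH8.fibCoh_eq_zero_of_isMax h ζ hζ]
  obtain ⟨n, hn⟩ := Groth.Agent.ResQuot2H8.exists_trdeg_nat h ζ
  have hn' : Dual3.resTrdeg h ζ = n := hn
  rw [hn', Cardinal.toENat_nat]
  constructor
  · intro h2
    have h3 : ((0 + n : ℕ∞) : WithBot ℕ∞) = ((e : ℕ∞) : WithBot ℕ∞) := by exact_mod_cast h2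
    have : n = e := by
      rw [zero_add] at h3
      exact_mod_cast h3
    rw [this]
  · intro h2
    have : n = e := by exact_mod_cast h2
    rw [this]
    simp

/-- A point of a sober space whose closure is an irreducible component. -/
theorem exists_generic_of_mem_irreducibleComponents {T : Type*} [TopologicalSpace T] [QuasiSober T]
    [T0Space T] (Z : Set T) (hZ : Z ∈ irreducibleComponents T) :
    ∃ ζ : T, closure ({ζ} : Set T) = Z ∧ ∀ z : T, z ⤳ ζ → z = ζ := by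
  obtain ⟨ζ, hζ⟩ := QuasiSober.sober hZ.1 (isClosed_of_mem_irreducibleComponents _ hZ)
  refine ⟨ζ, hζ.def, ?_⟩
  apply (Groth.Agent.SchFTH8.closure_mem_irreducibleComponents_iff ζ).mp
  rw [hζ.def]
  exact hZ

/-- Under a locally quasi-finite morphism to the affine space of dimension `e` over `Y`, from a
scheme all of whose maximal points have relative dimension `e` over maximal points of `Y`,
irreducible components go to irreducible components. -/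
theorem closure_image_mem_irreducibleComponents {T : Scheme.{u}} (h : T ⟶ Y)
    [LocallyOfFiniteType h] (e : ℕ)
    (g : T ⟶ 𝔸(ULift.{u} (Fin e); Y)) (hg : g ≫ (𝔸(ULift.{u} (Fin e); Y) ↘ Y) = h)
    [LocallyQuasiFinite g]
    (hdim : ∀ ζ : T, (∀ z : T, z ⤳ ζ → z = ζ) → FlatMor.fibreDimAt h ζ = e)
    (hmaxY : ∀ ζ : T, (∀ z : T, z ⤳ ζ → z = ζ) → ∀ b : Y, b ⤳ h ζ → b = h ζ)
    (Z : Set T) (hZ : Z ∈ irreducibleComponents T) :
    closure (g '' Z) ∈ irreducibleComponents ↥𝔸(ULift.{u} (Fin e); Y) := by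
  obtain ⟨ζ, hζZ, hζmax⟩ := exists_generic_of_mem_irreducibleComponents Z hZ
  have hπ : (𝔸(ULift.{u} (Fin e); Y) ↘ Y) (g ζ) = h ζ := by
    rw [← Scheme.Hom.comp_apply, hg]
  have h1 := (fibreDimAt_eq_iff_of_isMax h e g hg ζ hζmax).mp (hdim ζ hζmax)
  have h2 := (height_asFiber_eq_iff Y e (g ζ)).mp h1
  have h3 := isMax_of_asFiber_eq Y e (g ζ) (by rw [hπ]; exact hmaxY ζ hζmax) h2
  rw [← hζZ, Groth.Agent.Lib.AffDimH8.closure_image_closure_singleton _ g.continuous]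
  exact (Groth.Agent.SchFTH8.closure_mem_irreducibleComponents_iff (g ζ)).mpr h3

/-- If all fibres are equidimensional of dimension `e`, the relative dimension is `e` everywhere. -/
theorem fibreDimAt_of_equidim_fibres {T : Scheme.{u}} (h : T ⟶ Y) [LocallyOfFiniteType h] (e : ℕ)
    (H2 : ∀ x' : T, ∀ Z ∈ irreducibleComponents ↥(h.fiber (h x')),
      topologicalKrullDim ↥Z = e) (x' : T) :
    FlatMor.fibreDimAt h x' = e := by
  haveI := Groth.Agent.FibRes2H8.lft_fiber h (h x')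
  exact Groth.Agent.Lib.AffDimH8.localDim_eq_of_equidim (Y.residueField (h x')) (h.fiber (h x'))
    (h.fiberToSpecResidueField (h x')) e (H2 x') (h.asFiber x')

theorem isMax_map_of_dense_image {T : Scheme.{u}} (h : T ⟶ Y) (y : Y)
    (H1 : ∀ Z ∈ irreducibleComponents ↥T, ∃ W ∈ irreducibleComponents ↥Y, y ∈ W ∧
      closure (h '' Z) = W)
    (ζ : T) (hζ : ∀ z : T, z ⤳ ζ → z = ζ) : ∀ b : Y, b ⤳ h ζ → b = h ζ := by
  have hc := (Groth.Agent.SchFTH8.closure_mem_irreducibleComponents_iff ζ).mpr hζ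
  obtain ⟨W, hW, -, hcl⟩ := H1 _ hc
  rw [Groth.Agent.Lib.AffDimH8.closure_image_closure_singleton _ h.continuous] at hcl
  exact (Groth.Agent.SchFTH8.closure_mem_irreducibleComponents_iff (h ζ)).mp (hcl ▸ hW)

/-- maximal points of an open subscheme are maximal points of the ambient scheme. -/
theorem isMax_ι_iff (U : X.Opens) (ζ : U.toScheme) :
    (∀ z : U.toScheme, z ⤳ ζ → z = ζ) ↔ ∀ z : X, z ⤳ U.ι ζ → z = U.ι ζ := by
  constructor
  · intro h z hz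
    have hzU : z ∈ U := hz.mem_open U.2 ζ.2
    let z' : U.toScheme := ⟨z, hzU⟩
    have h1 : z' ⤳ ζ := (U.ι.isEmbedding.isInducing.specializes_iff).mp hz
    have h2 := h _ h1
    rw [← h2]
    rfl
  · intro h z hz
    have h1 : U.ι z ⤳ U.ι ζ := hz.map U.ι.continuous
    exact U.ι.isEmbedding.injective (h _ h1)

theorem fibreDimAt_ι_comp (f : X ⟶ Y) [LocallyOfFiniteType f] (U : X.Opens) (ζ : U.toScheme) :
    FlatMor.fibreDimAt (U.ι ≫ f) ζ = FlatMor.fibreDimAt f (U.ι ζ) :=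
  (FibCohH8.fibreDimAt_etale_local f (U.ι ≫ f) U.ι (𝟙 Y) (by simp) ζ).symm

/-- A nonempty scheme locally of finite type over a field, of constant local dimension `e`, has
dimension `e`. -/
theorem topDim_eq_of_localDim (k : Type u) [Field k] (T : Scheme.{u})
    (π : T ⟶ Spec (CommRingCat.of k)) [LocallyOfFiniteType π] [Nonempty T] (e : ℕ)
    (h : ∀ t : T, FlatMor.localDim ↥T t = e) : topologicalKrullDim ↥T = e := by
  letI ov : T.Over (Spec (CommRingCat.of k)) := ⟨π⟩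
  haveI : LocallyOfFiniteType (T ↘ Spec (CommRingCat.of k)) := ‹LocallyOfFiniteType π›
  rw [Groth.Agent.ClosHtH8.topologicalKrullDim_eq_iSup_height]
  apply le_antisymm
  · refine iSup_le fun t => ?_
    have h1 := LocDimProdH8.localDim_eq k T t
    rw [h t] at h1
    have h2 : (Order.coheight t + Order.height t : ℕ∞) = (e : ℕ∞) := by exact_mod_cast h1.symm
    have h3 : Order.height t ≤ (e : ℕ∞) := by rw [← h2]; exact le_add_self
    exact_mod_cast h3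
  · obtain ⟨t⟩ := ‹Nonempty T›
    obtain ⟨ξ, -, -, hht⟩ := LocDimProdH8.exists_max_height_eq k T t
    have h1 := LocDimProdH8.localDim_eq k T t
    rw [h t, ← hht] at h1
    rw [h1]
    exact le_iSup (fun a : T => ((Order.height a : ℕ∞) : WithBot ℕ∞)) ξ

/-- Construction of a locally quasi-finite morphism to the affine space of dimension `e`, near a
point around which the relative dimension is `e`. -/
theorem exists_lqf_to_affineSpace (f : X ⟶ Y) [LocallyOfFiniteType f] (x : X) (e : ℕ)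
    (U₀ : X.Opens) (hxU₀ : x ∈ U₀) (hdim : ∀ u : X, u ∈ U₀ → FlatMor.fibreDimAt f u = e) :
    ∃ (U : X.Opens) (g : (U : Scheme.{u}) ⟶ 𝔸(ULift.{u} (Fin e); Y)),
      x ∈ U ∧ U ≤ U₀ ∧ g ≫ (𝔸(ULift.{u} (Fin e); Y) ↘ Y) = U.ι ≫ f ∧ LocallyQuasiFinite g := by
  -- affine opens
  obtain ⟨V, hV, hfxV⟩ : ∃ V : Y.Opens, IsAffineOpen V ∧ f x ∈ V := by
    obtain ⟨_, ⟨V, hV, rfl⟩, hfxV, -⟩ :=
      Y.isBasis_affineOpens.exists_subset_of_mem_open (Set.mem_univ (f x)) isOpen_univ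
    exact ⟨V, hV, hfxV⟩
  obtain ⟨U₁, hU₁, hxU₁, hU₁sub⟩ : ∃ U₁ : X.Opens, IsAffineOpen U₁ ∧ x ∈ U₁ ∧
      (U₁ : Set X) ⊆ ((U₀ ⊓ f ⁻¹ᵁ V : X.Opens) : Set X) := by
    obtain ⟨_, ⟨U₁, hU₁, rfl⟩, hxU₁, hU₁sub⟩ :=
      X.isBasis_affineOpens.exists_subset_of_mem_open
        (show x ∈ ((U₀ ⊓ f ⁻¹ᵁ V : X.Opens) : Set X) from ⟨hxU₀, hfxV⟩) (U₀ ⊓ f ⁻¹ᵁ V).2
    exact ⟨U₁, hU₁, hxU₁, hU₁sub⟩
  have hU₁U₀ : U₁ ≤ U₀ := fun u hu => (hU₁sub hu).1
  have hU₁V : U₁ ≤ f ⁻¹ᵁ V := fun u hu => (hU₁sub hu).2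
  haveI : IsAffine (U₁ : Scheme.{u}) := hU₁
  haveI : IsAffine (V : Scheme.{u}) := hV
  set f₁ : (U₁ : Scheme.{u}) ⟶ (V : Scheme.{u}) := f.resLE V U₁ hU₁V with hf₁
  have hf₁ι : f₁ ≫ V.ι = U₁.ι ≫ f := Scheme.Hom.resLE_comp_ι f hU₁V
  haveI : LocallyOfFiniteType (f₁ ≫ V.ι) := by rw [hf₁ι]; infer_instance
  haveI : LocallyOfFiniteType f₁ := locallyOfFiniteType_of_comp f₁ V.ι
  have hdim₁ : ∀ u₁ : (U₁ : Scheme.{u}), FlatMor.fibreDimAt f₁ u₁ = e := by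
    intro u₁
    rw [← FibCohH8.fibreDimAt_etale_local f f₁ U₁.ι V.ι hf₁ι u₁]
    exact hdim _ (hU₁U₀ u₁.2)
  let x₁ : (U₁ : Scheme.{u}) := ⟨x, hxU₁⟩
  set y₁ : (V : Scheme.{u}) := f₁ x₁ with hy₁
  have hy₁range : y₁ ∈ Set.range f₁.base := ⟨x₁, rfl⟩
  -- the dimension of the fibre
  have he : topologicalKrullDim ↥(f₁.fiber y₁) = e := by
    haveI : LocallyOfFiniteType (f₁.fiberToSpecResidueField y₁) :=
      Groth.Agent.FibRes2H8.lft_fiber f₁ y₁
    haveI : Nonempty ↥(f₁.fiber y₁) := ⟨f₁.asFiber x₁⟩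
    apply topDim_eq_of_localDim ((V : Scheme.{u}).residueField y₁) (f₁.fiber y₁)
      (f₁.fiberToSpecResidueField y₁) e
    intro z
    rw [FieldExtH8.localDim_fiber_eq_fibreDimAt f₁ y₁ z _ rfl]
    exact hdim₁ _
  obtain ⟨g₁, hg₁, hfin⟩ := Groth.Agent.Lib.NoethNormH8.main3394 f₁ y₁ hy₁range e he
  obtain ⟨-, U₂, hU₂, hlqf⟩ := Groth.Agent.Lib.AffDimH8.main3395 f₁ y₁ e he g₁ hg₁ hfin
  haveI := hlqf
  haveI : LocallyOfFiniteType (g₁ ≫ (𝔸(ULift.{u} (Fin e); (V : Scheme.{u})) ↘ (V : Scheme.{u}))) := by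
    rw [hg₁]; infer_instance
  haveI : LocallyOfFiniteType g₁ := locallyOfFiniteType_of_comp g₁
    (𝔸(ULift.{u} (Fin e); (V : Scheme.{u})) ↘ (V : Scheme.{u}))
  have hUU₁ : U₁.ι ''ᵁ U₂ ≤ U₁ := Scheme.Opens.ι_image_le U₁ U₂
  refine ⟨U₁.ι ''ᵁ U₂, X.homOfLE hUU₁ ≫ g₁ ≫ AffineSpace.map _ V.ι, ?_, hUU₁.trans hU₁U₀, ?_, ?_⟩
  · exact ⟨x₁, hU₂ (show f₁ x₁ = y₁ from rfl), rfl⟩
  · rw [Category.assoc, Category.assoc, AffineSpace.map_over, reassoc_of% hg₁, hf₁ι,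
      ← Category.assoc, Scheme.homOfLE_ι]
  · haveI : LocallyQuasiFinite (AffineSpace.map (ULift.{u} (Fin e)) V.ι) :=
      MorphismProperty.of_isPullback (P := @LocallyQuasiFinite)
        (AffineSpace.isPullback_map (n := ULift.{u} (Fin e)) V.ι).flip inferInstance
    haveI : LocallyQuasiFinite (X.homOfLE hUU₁ ≫ g₁) := by
      rw [← Scheme.Hom.quasiFiniteLocus_eq_top_iff]
      ext u
      simp only [TopologicalSpace.Opens.coe_top, Set.mem_univ, iff_true]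
      change (X.homOfLE hUU₁ ≫ g₁).QuasiFiniteAt u
      rw [Scheme.Hom.quasiFiniteAt_comp_iff_of_isOpenImmersion]
      obtain ⟨u₂, hu₂, hu₂eq⟩ := u.2
      have hu₂' : X.homOfLE hUU₁ u = u₂ := by
        apply U₁.ι.isEmbedding.injective
        rw [← Scheme.Hom.comp_apply, Scheme.homOfLE_ι]
        exact hu₂eq.symm
      rw [hu₂']
      have h1 : (U₂.ι ≫ g₁).QuasiFiniteAt (⟨u₂, hu₂⟩ : (U₂ : Scheme.{u})) :=
        Scheme.Hom.quasiFiniteAt _ _
      rw [Scheme.Hom.quasiFiniteAt_comp_iff_of_isOpenImmersion] at h1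
      exact h1
    rw [← Category.assoc]
    infer_instance

theorem a_imp_b (f : X ⟶ Y) [LocallyOfFiniteType f] (x : X) (h : EGA43.IsEquidimAt f x) :
    ∃ (e : ℕ) (U : X.Opens) (g : (U : Scheme.{u}) ⟶ 𝔸(ULift.{u} (Fin e); Y)),
        x ∈ U ∧ g ≫ (𝔸(ULift.{u} (Fin e); Y) ↘ Y) = U.ι ≫ f ∧ LocallyQuasiFinite g ∧
        ∀ Z ∈ irreducibleComponents (↥U : Type u),
          closure (g.base '' Z) ∈ irreducibleComponents (↥𝔸(ULift.{u} (Fin e); Y) : Type u) := by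
  obtain ⟨e, U₀, hxU₀, H1, H2⟩ := h
  have hdim : ∀ u : X, u ∈ U₀ → FlatMor.fibreDimAt f u = e := by
    intro u hu
    have h1 := fibreDimAt_of_equidim_fibres (U₀.ι ≫ f) e H2 ⟨u, hu⟩
    rw [fibreDimAt_ι_comp] at h1
    exact h1
  have hmaxY : ∀ ζ : X, ζ ∈ U₀ → (∀ z : X, z ⤳ ζ → z = ζ) → ∀ b : Y, b ⤳ f ζ → b = f ζ := by
    intro ζ hζU₀ hζ
    exact isMax_map_of_dense_image (U₀.ι ≫ f) (f x) H1 ⟨ζ, hζU₀⟩
      ((isMax_ι_iff U₀ ⟨ζ, hζU₀⟩).mpr hζ)
  obtain ⟨U, g, hxU, hUU₀, hg, hlqf⟩ := exists_lqf_to_affineSpace f x e U₀ hxU₀ hdim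
  haveI := hlqf
  refine ⟨e, U, g, hxU, hg, hlqf, ?_⟩
  intro Z hZ
  refine closure_image_mem_irreducibleComponents (U.ι ≫ f) e g hg ?_ ?_ Z hZ
  · intro ζ hζ
    rw [fibreDimAt_ι_comp]
    exact hdim _ (hUU₀ ζ.2)
  · intro ζ hζ
    exact hmaxY (U.ι ζ) (hUU₀ ζ.2) ((isMax_ι_iff U ζ).mp hζ)

end Groth.Agent.Lib.EquidimAtH8
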