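import Mathlib
import Groth.Agent.Lib.CMMor1_helper8
import Groth.Agent.Lib.AffDim16_helper8
import Groth.Agent.Lib.FibStalkCM_helper5
import Groth.Agent.Lib.FibInjF_helper6
import Groth.Agent.Lib.EquidimAt2_helper8
import Groth.Agent.Lib.Equi133_helper8

set_option autoImplicit false
universe u

namespace Groth.Agent.Lib.CMMorH8

open AlgebraicGeometry CategoryTheory Limits TopologicalSpace Topology IsLocalRing

/-- stalks of an affine scheme with regular ring of global sections are regular. -/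
theorem isRegularLocalRing_stalk_of_isAffine {T : Scheme.{u}} [IsAffine T]
    [hT : IsRegularRing Γ(T, ⊤)] (t : T) : IsRegularLocalRing (T.presheaf.stalk t) := by
  have hU : IsAffineOpen (⊤ : T.Opens) := isAffineOpen_top T
  letI := TopCat.Presheaf.algebra_section_stalk T.presheaf (⟨t, trivial⟩ : (⊤ : T.Opens))
  haveI := hU.isLocalization_stalk ⟨t, trivial⟩
  exact IsRegularLocalRing.of_ringEquiv
    (IsLocalization.algEquiv (hU.primeIdealOf ⟨t, trivial⟩).asIdeal.primeCompl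
      (Localization.AtPrime (hU.primeIdealOf ⟨t, trivial⟩).asIdeal)
      (T.presheaf.stalk t)).toRingEquiv

theorem isRegularLocalRing_stalk_fiber_affineSpace (Y : Scheme.{u}) (y : Y) (e : ℕ)
    (z : ↥((𝔸(ULift.{u} (Fin e); Y) ↘ Y).fiber y)) :
    IsRegularLocalRing (((𝔸(ULift.{u} (Fin e); Y) ↘ Y).fiber y).presheaf.stalk z) := by
  have h : IsPullback ((𝔸(ULift.{u} (Fin e); Y) ↘ Y).fiberι y)
      ((𝔸(ULift.{u} (Fin e); Y) ↘ Y).fiberToSpecResidueField y)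
      (𝔸(ULift.{u} (Fin e); Y) ↘ Y) (Y.fromSpecResidueField y) := IsPullback.of_hasPullback _ _
  let φ := (h.isoIsPullback _ _ (AffineSpace.isPullback_map (n := ULift.{u} (Fin e))
    (Y.fromSpecResidueField y))) ≪≫
      (AffineSpace.SpecIso (ULift.{u} (Fin e)) (.of (Y.residueField y)))
  haveI : IsAffine ((𝔸(ULift.{u} (Fin e); Y) ↘ Y).fiber y) := IsAffine.of_isIso φ.hom
  let ψ : Γ((𝔸(ULift.{u} (Fin e); Y) ↘ Y).fiber y, ⊤) ≅
      CommRingCat.of (MvPolynomial (ULift.{u} (Fin e)) (Y.residueField y)) :=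
    Scheme.Γ.mapIso φ.symm.op ≪≫ Scheme.ΓSpecIso _
  haveI : IsRegularRing (MvPolynomial (ULift.{u} (Fin e)) (Y.residueField y)) := inferInstance
  haveI : IsRegularRing Γ((𝔸(ULift.{u} (Fin e); Y) ↘ Y).fiber y, ⊤) :=
    IsRegularRing.of_ringEquiv ψ.commRingCatIsoToRingEquiv.symm
  exact isRegularLocalRing_stalk_of_isAffine z

end Groth.Agent.Lib.CMMorH8

namespace Groth.Agent.Lib.CMMorH8

open AlgebraicGeometry CategoryTheory Limits TopologicalSpace Topology IsLocalRing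
open Groth.Agent.FibStalkDimH8 FibRedH8 Groth.Agent.FibStalkIso Groth.Agent.FibStalkCM

set_option maxHeartbeats 1600000 in
/-- **Theorem A.** A locally quasi-finite morphism to an affine space of the right dimension is
flat at the points where the composite is Cohen–Macaulay. -/
theorem flat_stalkMap_of_isCMAt {U Y : Scheme.{u}} (e : ℕ) (g : U ⟶ 𝔸(ULift.{u} (Fin e); Y))
    [LocallyQuasiFinite g] [LocallyOfFiniteType g]
    [LocallyOfFinitePresentation (g ≫ (𝔸(ULift.{u} (Fin e); Y) ↘ Y))] (x : U)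
    (hcm : MoreMor.IsCMAt (g ≫ (𝔸(ULift.{u} (Fin e); Y) ↘ Y)) x)
    (hd : FlatMor.fibreDimAt (g ≫ (𝔸(ULift.{u} (Fin e); Y) ↘ Y)) x = e) :
    (g.stalkMap x).hom.Flat := by
  obtain ⟨hfl, hCM⟩ := hcm
  letI algRT : Algebra (Y.presheaf.stalk ((𝔸(ULift.{u} (Fin e); Y) ↘ Y) (g x)))
      ((𝔸(ULift.{u} (Fin e); Y)).presheaf.stalk (g x)) :=
    ((𝔸(ULift.{u} (Fin e); Y) ↘ Y).stalkMap (g x)).hom.toAlgebra
  letI algTB : Algebra ((𝔸(ULift.{u} (Fin e); Y)).presheaf.stalk (g x)) (U.presheaf.stalk x) :=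
    (g.stalkMap x).hom.toAlgebra
  letI algRB : Algebra (Y.presheaf.stalk ((𝔸(ULift.{u} (Fin e); Y) ↘ Y) (g x)))
      (U.presheaf.stalk x) :=
    ((𝔸(ULift.{u} (Fin e); Y) ↘ Y).stalkMap (g x) ≫ g.stalkMap x).hom.toAlgebra
  haveI : IsScalarTower (Y.presheaf.stalk ((𝔸(ULift.{u} (Fin e); Y) ↘ Y) (g x)))
      ((𝔸(ULift.{u} (Fin e); Y)).presheaf.stalk (g x)) (U.presheaf.stalk x) :=
    IsScalarTower.of_algebraMap_eq (fun _ => rfl)
  haveI : IsLocalHom (algebraMap (Y.presheaf.stalk ((𝔸(ULift.{u} (Fin e); Y) ↘ Y) (g x)))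
      ((𝔸(ULift.{u} (Fin e); Y)).presheaf.stalk (g x))) :=
    inferInstanceAs (IsLocalHom ((𝔸(ULift.{u} (Fin e); Y) ↘ Y).stalkMap (g x)).hom)
  haveI : IsLocalHom (algebraMap ((𝔸(ULift.{u} (Fin e); Y)).presheaf.stalk (g x))
      (U.presheaf.stalk x)) :=
    inferInstanceAs (IsLocalHom (g.stalkMap x).hom)
  haveI : Module.Flat (Y.presheaf.stalk ((𝔸(ULift.{u} (Fin e); Y) ↘ Y) (g x)))
      (U.presheaf.stalk x) := by
    have h1 := hfl
    rw [Scheme.Hom.stalkMap_comp] at h1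
    exact h1
  haveI : Algebra.EssFiniteType (Y.presheaf.stalk ((𝔸(ULift.{u} (Fin e); Y) ↘ Y) (g x)))
      ((𝔸(ULift.{u} (Fin e); Y)).presheaf.stalk (g x)) :=
    LocallyOfFiniteType.stalkMap (𝔸(ULift.{u} (Fin e); Y) ↘ Y) (g x)
  have hB : CAlgX.IsEssFinitePresentation
      (Y.presheaf.stalk ((𝔸(ULift.{u} (Fin e); Y) ↘ Y) (g x))) (U.presheaf.stalk x) := by
    have h1 := Groth.Agent.Lib.FibInjH6.isEssFinitePresentation_stalkMap
      (g ≫ (𝔸(ULift.{u} (Fin e); Y) ↘ Y)) x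
    rw [Scheme.Hom.stalkMap_comp] at h1
    exact h1
  -- the regular fibre of the affine space
  haveI hreg := isRegularLocalRing_stalk_fiber_affineSpace Y
    ((𝔸(ULift.{u} (Fin e); Y) ↘ Y) (g x)) e ((𝔸(ULift.{u} (Fin e); Y) ↘ Y).asFiber (g x))
  have hT : IsRegularLocalRing ((𝔸(ULift.{u} (Fin e); Y)).presheaf.stalk (g x) ⧸
      EGA4.mB (Y.presheaf.stalk ((𝔸(ULift.{u} (Fin e); Y) ↘ Y) (g x)))
        ((𝔸(ULift.{u} (Fin e); Y)).presheaf.stalk (g x))) :=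
    IsRegularLocalRing.of_ringEquiv (fibStalkEquiv (𝔸(ULift.{u} (Fin e); Y) ↘ Y) (g x)).symm
  -- the CM fibre
  have h2 : fibIdeal (g ≫ (𝔸(ULift.{u} (Fin e); Y) ↘ Y)) x =
      (fibIdeal (𝔸(ULift.{u} (Fin e); Y) ↘ Y) (g x)).map (g.stalkMap x).hom :=
    fibIdeal_comp g (𝔸(ULift.{u} (Fin e); Y) ↘ Y) x
  let eB : (U.presheaf.stalk x ⧸
      (EGA4.mB (Y.presheaf.stalk ((𝔸(ULift.{u} (Fin e); Y) ↘ Y) (g x)))
        ((𝔸(ULift.{u} (Fin e); Y)).presheaf.stalk (g x))).map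
          (algebraMap ((𝔸(ULift.{u} (Fin e); Y)).presheaf.stalk (g x)) (U.presheaf.stalk x))) ≃+*
      ((g ≫ (𝔸(ULift.{u} (Fin e); Y) ↘ Y)).fiber ((g ≫ (𝔸(ULift.{u} (Fin e); Y) ↘ Y)) x)).presheaf.stalk
        ((g ≫ (𝔸(ULift.{u} (Fin e); Y) ↘ Y)).asFiber x) :=
    (Ideal.quotEquivOfEq h2).symm.trans (fibStalkEquiv (g ≫ (𝔸(ULift.{u} (Fin e); Y) ↘ Y)) x)
  have hBcm : LocCoh.IsCohenMacaulayLocalRing (U.presheaf.stalk x ⧸
      (EGA4.mB (Y.presheaf.stalk ((𝔸(ULift.{u} (Fin e); Y) ↘ Y) (g x)))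
        ((𝔸(ULift.{u} (Fin e); Y)).presheaf.stalk (g x))).map
          (algebraMap ((𝔸(ULift.{u} (Fin e); Y)).presheaf.stalk (g x)) (U.presheaf.stalk x))) :=
    @Groth.Agent.FlatCM.isCMLocalRing_of_ringEquiv _ _ _ _ eB.symm hCM
  -- dimensions
  haveI : LocallyOfFiniteType (g ≫ (𝔸(ULift.{u} (Fin e); Y) ↘ Y)) := inferInstance
  have hdim : ringKrullDim (U.presheaf.stalk x ⧸
      (EGA4.mB (Y.presheaf.stalk ((𝔸(ULift.{u} (Fin e); Y) ↘ Y) (g x)))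
        ((𝔸(ULift.{u} (Fin e); Y)).presheaf.stalk (g x))).map
          (algebraMap ((𝔸(ULift.{u} (Fin e); Y)).presheaf.stalk (g x)) (U.presheaf.stalk x))) =
      ringKrullDim ((𝔸(ULift.{u} (Fin e); Y)).presheaf.stalk (g x) ⧸
        EGA4.mB (Y.presheaf.stalk ((𝔸(ULift.{u} (Fin e); Y) ↘ Y) (g x)))
          ((𝔸(ULift.{u} (Fin e); Y)).presheaf.stalk (g x))) := by
    have hk : ringKrullDim ((𝔸(ULift.{u} (Fin e); Y)).presheaf.stalk (g x) ⧸
        EGA4.mB (Y.presheaf.stalk ((𝔸(ULift.{u} (Fin e); Y) ↘ Y) (g x)))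
          ((𝔸(ULift.{u} (Fin e); Y)).presheaf.stalk (g x))) = _ :=
      ringKrullDim_eq_of_ringEquiv (fibStalkEquiv (𝔸(ULift.{u} (Fin e); Y) ↘ Y) (g x))
    rw [ringKrullDim_eq_of_ringEquiv eB, hk,
      FibCohH8.stalk_fiber_eq_fibCoh, FibCohH8.stalk_fiber_eq_fibCoh]
    have h3 := FibCohH8.fibreDimAt_eq (g ≫ (𝔸(ULift.{u} (Fin e); Y) ↘ Y)) x
    have h4 := FibCohH8.fibreDimAt_eq (𝔸(ULift.{u} (Fin e); Y) ↘ Y) (g x)
    rw [hd] at h3
    rw [Groth.Agent.Lib.EquidimAtH8.fibreDimAt_affineSpace Y e (g x)] at h4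
    rw [ResTrdegH8.resTrdeg_comp, ResTrdegH8.resTrdeg_eq_zero_of_lqf g x, add_zero] at h3
    obtain ⟨n, hn⟩ := Groth.Agent.ResQuot2H8.exists_trdeg_nat (𝔸(ULift.{u} (Fin e); Y) ↘ Y) (g x)
    have hn' : Dual3.resTrdeg (𝔸(ULift.{u} (Fin e); Y) ↘ Y) (g x) = n := hn
    rw [hn', Cardinal.toENat_nat] at h3 h4
    exact Equi133H8.add_nat_cancel _ _ n (h3.symm.trans h4)
  have h0 : ringKrullDim (U.presheaf.stalk x ⧸
      EGA4.mB ((𝔸(ULift.{u} (Fin e); Y)).presheaf.stalk (g x)) (U.presheaf.stalk x)) = 0 := by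
    have hk : ringKrullDim (U.presheaf.stalk x ⧸
        EGA4.mB ((𝔸(ULift.{u} (Fin e); Y)).presheaf.stalk (g x)) (U.presheaf.stalk x)) = _ :=
      ringKrullDim_eq_of_ringEquiv (fibStalkEquiv g x)
    rw [hk, FibCohH8.stalk_fiber_eq_fibCoh, FibCohH8.fibCoh_eq_zero_of_lqf g x]
    rfl
  exact flat_of_cm_fibre hB hT hBcm hdim h0

end Groth.Agent.Lib.CMMorH8
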