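import Mathlib
import Groth.Prelude.Def_CAlg
import Groth.Agent.Lib.MiracleFlat_helper5
import Groth.Agent.Lib.NormalLift_helper4
import Groth.Agent.Lib.IntegralHeight_helper5
import Groth.Agent.Lib.Regular_helper5

/-!
# A finite Cohen–Macaulay domain over a regular local ring is flat (helper9)
-/

set_option autoImplicit false
universe u

namespace Groth.Agent.FiniteCMFlat

open IsLocalRing

variable (R S : Type u) [CommRing R] [CommRing S] [Algebra R S]

/-- For an integral extension and a maximal ideal `q` of `S`, the contraction is the maximal ideal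
of the local ring `R`. -/
theorem comap_eq_maximalIdeal [IsLocalRing R] [Algebra.IsIntegral R S] (q : Ideal S) [q.IsMaximal] :
    q.comap (algebraMap R S) = maximalIdeal R := by
  have : (q.comap (algebraMap R S)).IsMaximal :=
    Ideal.isMaximal_comap_of_isIntegral_of_isMaximal q
  exact IsLocalRing.eq_maximalIdeal this

theorem isLocalHom_localization [IsLocalRing R] [Algebra.IsIntegral R S] (q : Ideal S) [q.IsMaximal] :
    IsLocalHom (algebraMap R (Localization.AtPrime q)) := by
  constructor
  intro r hr
  rw [IsScalarTower.algebraMap_apply R S (Localization.AtPrime q)] at hr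
  have h1 : algebraMap R S r ∉ q := by
    intro hmem
    have := (IsLocalization.AtPrime.isUnit_to_map_iff (Localization.AtPrime q) q
      (algebraMap R S r)).mp hr
    exact this hmem
  have h2 : r ∉ maximalIdeal R := by
    rw [← comap_eq_maximalIdeal R S q]
    exact h1
  by_contra hnu
  exact h2 ((IsLocalRing.mem_maximalIdeal r).2 hnu)

/-- The fibre ring of the localisation at a maximal ideal has dimension zero. -/
theorem ringKrullDim_fibre_eq_zero [IsLocalRing R] [Algebra.IsIntegral R S] (q : Ideal S) [q.IsMaximal] :
    ringKrullDim (Localization.AtPrime q ⧸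
      (maximalIdeal R).map (algebraMap R (Localization.AtPrime q))) = 0 := by
  set Sq := Localization.AtPrime q
  set I := (maximalIdeal R).map (algebraMap R Sq) with hI
  have := isLocalHom_localization R S q
  have hIle : I ≤ maximalIdeal Sq := by
    rw [hI, Ideal.map_le_iff_le_comap]
    intro r hr
    exact (IsLocalRing.mem_maximalIdeal _).2 (fun hu =>
      (IsLocalRing.mem_maximalIdeal r).1 hr (isUnit_of_map_unit (algebraMap R Sq) r hu))
  have : Nontrivial (Sq ⧸ I) :=
    Ideal.Quotient.nontrivial_iff.2 (fun h => (maximalIdeal Sq).ne_top_iff_one.1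
      (IsLocalRing.maximalIdeal.isMaximal Sq).ne_top (hIle (h ▸ Submodule.mem_top)))
  have hle : Ring.KrullDimLE 0 (Sq ⧸ I) := by
    rw [Ring.krullDimLE_zero_iff]
    intro P hP
    -- pull back to Sq
    set P' := P.comap (Ideal.Quotient.mk I) with hP'
    have : P'.IsPrime := Ideal.comap_isPrime _ _
    have hIP' : I ≤ P' := by
      intro x hx
      rw [hP', Ideal.mem_comap, Ideal.Quotient.eq_zero_iff_mem.2 hx]
      exact P.zero_mem
    -- pull back to S
    set Q := P'.comap (algebraMap S Sq) with hQ
    have : Q.IsPrime := Ideal.comap_isPrime _ _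
    have hmQ : maximalIdeal R ≤ Q.comap (algebraMap R S) := by
      intro r hr
      rw [Ideal.mem_comap, hQ, Ideal.mem_comap, ← IsScalarTower.algebraMap_apply]
      exact hIP' (Ideal.mem_map_of_mem _ hr)
    have hQmax : (Q.comap (algebraMap R S)).IsMaximal := by
      have : (Q.comap (algebraMap R S)) = maximalIdeal R :=
        ((IsLocalRing.maximalIdeal.isMaximal R).eq_of_le (Ideal.IsPrime.ne_top inferInstance) hmQ).symm
      rw [this]; infer_instance
    have hQm : Q.IsMaximal := Ideal.isMaximal_of_isIntegral_of_isMaximal_comap Q hQmax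
    have hQq : Q ≤ q := by
      have hd := (IsLocalization.isPrime_iff_isPrime_disjoint q.primeCompl Sq P').1 inferInstance
      intro x hx
      by_contra hxq
      exact Set.disjoint_left.1 hd.2 (show x ∈ (q.primeCompl : Set S) from hxq) hx
    have hQeq : Q = q := hQm.eq_of_le (Ideal.IsPrime.ne_top inferInstance) hQq
    have hP'max : P' = maximalIdeal Sq := by
      have h1 : P'= Q.map (algebraMap S Sq) := (IsLocalization.map_comap q.primeCompl Sq P').symm
      rw [h1, hQeq]
      exact Localization.AtPrime.map_eq_maximalIdeal
    have hPeq : P = (maximalIdeal Sq).map (Ideal.Quotient.mk I) := by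
      rw [← hP'max, hP', Ideal.map_comap_of_surjective _ Ideal.Quotient.mk_surjective]
    rw [hPeq]
    exact Ideal.IsMaximal.map_of_surjective_of_ker_le Ideal.Quotient.mk_surjective
      (by rw [Ideal.mk_ker]; exact hIle)
  exact le_antisymm (Ring.krullDimLE_iff.1 hle) ringKrullDim_nonneg_of_nontrivial

/-- `dim S_q = dim R` for a maximal ideal `q` of a domain `S` finite over an integrally closed
local domain `R`. -/
theorem ringKrullDim_localization_eq [IsLocalRing R] [IsDomain R] [IsIntegrallyClosed R] [IsDomain S]
    [FaithfulSMul R S] [Algebra.IsIntegral R S] (q : Ideal S) [q.IsMaximal] :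
    ringKrullDim (Localization.AtPrime q) = ringKrullDim R := by
  rw [IsLocalization.AtPrime.ringKrullDim_eq_height q (Localization.AtPrime q)]
  have hcomap := comap_eq_maximalIdeal R S q
  have h1 : q.height ≤ (maximalIdeal R).height := by
    rw [← hcomap]
    exact Groth.Agent.IntegralHeight.height_le_height_comap_of_isIntegral R q
  have h2 : (maximalIdeal R).height ≤ q.height := by
    have e1 := PrimeSpectrum.height_eq_orderHeight (⟨maximalIdeal R, inferInstance⟩ : PrimeSpectrum R)
    have e2 := PrimeSpectrum.height_eq_orderHeight (⟨q, inferInstance⟩ : PrimeSpectrum S)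
    simp only at e1 e2
    rw [e1, e2, Order.height_le_iff']
    intro l hl
    have : q.LiesOver l.last.asIdeal := by
      constructor
      rw [hl, Ideal.under_def, hcomap]
    obtain ⟨L, hlen, hlast, -⟩ := Ideal.exists_ltSeries_of_hasGoingDown l q
    rw [← hlen]
    exact Order.length_le_height (le_of_eq hlast)
  rw [← IsLocalRing.maximalIdeal_height_eq_ringKrullDim]
  exact congrArg _ (le_antisymm h1 h2)

theorem flat_of_finite_isCM [IsRegularLocalRing R] [IsDomain S] [Module.Finite R S]
    (hinj : Function.Injective (algebraMap R S))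
    (hCM : ∀ (q : Ideal S) [q.IsMaximal], LocCoh.IsCohenMacaulayLocalRing (Localization.AtPrime q)) :
    Module.Flat R S := by
  have : IsDomain R := Groth.Agent.RegularLib.isDomain R
  have : IsIntegrallyClosed R :=
    Groth.Agent.Lib.NormalLiftH4.isIntegrallyClosed_of_isRegularLocalRing R
  have : FaithfulSMul R S := (faithfulSMul_iff_algebraMap_injective R S).2 hinj
  have : Algebra.IsIntegral R S := inferInstance
  refine Module.flat_of_isLocalized_maximal S S (fun P _ => Localization.AtPrime P)
    (fun P _ => Algebra.linearMap S (Localization.AtPrime P)) ?_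
  intro q hq
  have := hCM q
  have := isLocalHom_localization R S q
  apply Groth.Agent.MiracleFlat.flat_of_isCMRing
  rw [ringKrullDim_fibre_eq_zero R S q, add_zero]
  exact ringKrullDim_localization_eq R S q

end Groth.Agent.FiniteCMFlat
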