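import Mathlib
import Groth.Prelude.Def_CAlg
import Groth.Agent.Lib.FiniteCMFlat_helper9
import Groth.Agent.Lib.Serre_helper5
import Groth.Agent.Lib.RegQuot_helper5
import Groth.Agent.Lib.Regular_helper5

/-!
# A regular local ring finite over a regular local ring is free (helper3)

Miracle flatness for a finite injective extension `R → A` of regular local rings living in
different universes.
-/

set_option autoImplicit false
universe u v

namespace Groth.Agent.Lib.FiniteRegFreeH3

open IsLocalRing

/-- regular local rings are Cohen–Macaulay local rings (class form) -/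
theorem isCMLocalRing_of_regular (S : Type u) [CommRing S] [IsRegularLocalRing S] :
    LocCoh.IsCohenMacaulayLocalRing S :=
  { supportDim_eq_depth := Groth.Agent.RegQuot.isCM_of_regular S }

/-- same-universe version -/
theorem flat_same_universe (R S : Type u) [CommRing R] [CommRing S] [IsRegularLocalRing R]
    [IsRegularLocalRing S] [Algebra R S] [Module.Finite R S]
    (hinj : Function.Injective (algebraMap R S)) : Module.Flat R S := by
  haveI : IsDomain S := Groth.Agent.RegularLib.isDomain S
  refine Groth.Agent.FiniteCMFlat.flat_of_finite_isCM R S hinj ?_
  intro q hq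
  haveI : IsRegularLocalRing (Localization.AtPrime q) :=
    Groth.Agent.Serre.localization_regular S q
  exact isCMLocalRing_of_regular _

/-- A regular local ring `A`, finite and injective over a regular local ring `R`, is flat. -/
theorem flat_of_finite_regular (R : Type u) (A : Type v) [CommRing R] [CommRing A]
    [IsRegularLocalRing R] [IsRegularLocalRing A] [Algebra R A] [Module.Finite R A]
    (hinj : Function.Injective (algebraMap R A)) : Module.Flat R A := by
  let R' := ULift.{v} R
  let A' := ULift.{u} A
  let eR : R ≃+* R' := ULift.ringEquiv.symm
  let eA : A ≃+* A' := ULift.ringEquiv.symm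
  haveI : IsRegularLocalRing R' := IsRegularLocalRing.of_ringEquiv eR
  haveI : IsRegularLocalRing A' := IsRegularLocalRing.of_ringEquiv eA
  letI algRA' : Algebra R' A' := ULift.algebra' R A'
  have hmap : ∀ x : R', algebraMap R' A' x = ULift.up (algebraMap R A x.down) := fun _ => rfl
  haveI : Module.Finite R' A' := by
    refine Module.Finite.of_equiv_equiv (A₁ := R) (B₁ := A) eR eA ?_
    ext x
    rfl
  have hinj' : Function.Injective (algebraMap R' A') := by
    intro x y hxy
    rw [hmap, hmap] at hxy
    have := hinj (ULift.up_injective hxy)
    exact ULift.down_injective this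
  have hflat' : Module.Flat R' A' := flat_same_universe R' A' hinj'
  -- `R'` is an `R`-algebra, flat over `R`
  haveI : Module.Flat R R' :=
    Module.Flat.of_linearEquiv (ULift.moduleEquiv (R := R) (M := R))
  haveI : IsScalarTower R R' A' := by
    refine ⟨fun r x a => ?_⟩
    apply ULift.ext
    show (r • x.down) • a.down = r • (x.down • a.down)
    rw [smul_assoc]
  haveI : Module.Flat R A' := Module.Flat.trans R R' A'
  exact Module.Flat.of_linearEquiv (ULift.moduleEquiv (R := R) (M := A)).symm

/-- A regular local ring `A`, finite and injective over a regular local ring `R`, is free. -/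
theorem free_of_finite_regular (R : Type u) (A : Type v) [CommRing R] [CommRing A]
    [IsRegularLocalRing R] [IsRegularLocalRing A] [Algebra R A] [Module.Finite R A]
    (hinj : Function.Injective (algebraMap R A)) : Module.Free R A := by
  haveI := flat_of_finite_regular R A hinj
  exact Module.free_of_flat_of_isLocalRing

/-- For a nontrivial finite free module-algebra over a local ring there is a linear functional
sending `1` to `1`. -/
theorem exists_linear_one (R : Type u) (A : Type v) [CommRing R] [CommRing A] [IsLocalRing R]
    [Nontrivial A] [Algebra R A] [Module.Finite R A] [Module.Free R A] :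
    ∃ l : A →ₗ[R] R, l 1 = 1 := by
  classical
  let b := Module.Free.chooseBasis R A
  by_cases h : ∃ j, IsUnit (b.repr 1 j)
  · obtain ⟨j, hj⟩ := h
    obtain ⟨c, hc⟩ := hj.exists_left_inv
    refine ⟨c • b.coord j, ?_⟩
    simp only [LinearMap.smul_apply, Module.Basis.coord_apply, smul_eq_mul]
    exact hc
  · exfalso
    push_neg at h
    have hm : ∀ j, b.repr 1 j ∈ maximalIdeal R := fun j => (mem_maximalIdeal _).2 (h j)
    have h1 : (1 : A) ∈ (maximalIdeal R) • (⊤ : Submodule R A) := by
      rw [← b.sum_repr 1]
      refine Submodule.sum_mem _ fun j _ => ?_
      exact Submodule.smul_mem_smul (hm j) Submodule.mem_top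
    have htop : (⊤ : Submodule R A) ≤ (maximalIdeal R) • (⊤ : Submodule R A) := by
      intro a _
      have : a = a • (1 : A) := by simp
      rw [this]
      -- a • 1 with a : A; use that the submodule `m • ⊤` is an ideal-like: write a = Σ r_j b_j
      rw [smul_eq_mul, mul_comm]
      -- 1 * a
      have hmul : ∀ x ∈ (maximalIdeal R) • (⊤ : Submodule R A), x * a ∈
          (maximalIdeal R) • (⊤ : Submodule R A) := by
        intro x hx
        refine Submodule.smul_induction_on hx ?_ ?_
        · intro r hr n _
          rw [smul_mul_assoc]
          exact Submodule.smul_mem_smul hr Submodule.mem_top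
        · intro x y hx hy
          rw [add_mul]
          exact Submodule.add_mem _ hx hy
      exact hmul 1 h1
    have hbot := Submodule.eq_bot_of_le_smul_of_le_jacobson_bot (maximalIdeal R)
      (⊤ : Submodule R A) Module.Finite.fg_top htop
      (by rw [IsLocalRing.jacobson_eq_maximalIdeal ⊥ bot_ne_top])
    have : (1 : A) ∈ (⊥ : Submodule R A) := hbot ▸ Submodule.mem_top
    exact one_ne_zero ((Submodule.mem_bot R).1 this)

end Groth.Agent.Lib.FiniteRegFreeH3
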