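import Mathlib
import Groth.Agent.Lib.CMMor2_helper8
import Groth.Agent.Lib.FiniteRegFree_helper3

set_option autoImplicit false
universe u

namespace Groth.Agent.Lib.CMMorH8

open AlgebraicGeometry CategoryTheory Limits TopologicalSpace Topology IsLocalRing
open Groth.Agent.FibStalkDimH8 FibRedH8 Groth.Agent.FibStalkIso Groth.Agent.FibStalkCM

/-- the affine space over any base is a Cohen–Macaulay morphism. -/
theorem isCMAt_affineSpace (Y : Scheme.{u}) (e : ℕ) (a : 𝔸(ULift.{u} (Fin e); Y)) :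
    MoreMor.IsCMAt (𝔸(ULift.{u} (Fin e); Y) ↘ Y) a := by
  haveI : Flat (𝔸(ULift.{u} (Fin e); Y) ↘ Y) := Groth.Agent.Lib.EquidimAtH8.flat_affineSpace _ _
  refine ⟨Flat.stalkMap _ a, ?_⟩
  haveI := isRegularLocalRing_stalk_fiber_affineSpace Y
    ((𝔸(ULift.{u} (Fin e); Y) ↘ Y) a) e ((𝔸(ULift.{u} (Fin e); Y) ↘ Y).asFiber a)
  exact Groth.Agent.Lib.FiniteRegFreeH3.isCMLocalRing_of_regular _

/-- a locally quasi-finite morphism is Cohen–Macaulay at the points where it is flat. -/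
theorem isCMAt_of_lqf {U V : Scheme.{u}} (g : U ⟶ V) [LocallyQuasiFinite g]
    [LocallyOfFiniteType g] (x : U) (hfl : (g.stalkMap x).hom.Flat) : MoreMor.IsCMAt g x := by
  refine ⟨hfl, ?_⟩
  haveI := Groth.Agent.FibChainH8.isLocallyNoetherian_fiber g (g x)
  apply Groth.Agent.FlatCM.isCMLocalRing_of_dim_zero
  rw [FibCohH8.stalk_fiber_eq_fibCoh, FibCohH8.fibCoh_eq_zero_of_lqf g x]
  rfl

/-- **Theorem B.** -/
theorem isCMAt_of_flat_lqf {U Y : Scheme.{u}} (e : ℕ) (g : U ⟶ 𝔸(ULift.{u} (Fin e); Y))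
    [LocallyQuasiFinite g] [LocallyOfFiniteType g] (x : U) (hfl : (g.stalkMap x).hom.Flat) :
    MoreMor.IsCMAt (g ≫ (𝔸(ULift.{u} (Fin e); Y) ↘ Y)) x := by
  haveI : LocallyOfFiniteType (g ≫ (𝔸(ULift.{u} (Fin e); Y) ↘ Y)) := inferInstance
  exact main9766 g (𝔸(ULift.{u} (Fin e); Y) ↘ Y) x
    (Groth.Agent.FibChainH8.isLocallyNoetherian_fiber _ _)
    (isCMAt_of_lqf g x hfl) (isCMAt_affineSpace Y e (g x))

end Groth.Agent.Lib.CMMorH8
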