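import Mathlib
import Groth.Prelude.Def_MoreMor
import Groth.Agent.Lib.CMMor3_helper8
import Groth.Agent.Lib.EtStalk_helper8
import Groth.Agent.Lib.FibStalkIso_helper5

/-!
# CM-ness of morphisms to schemes whose local rings are fields (helper8)

APPEND-ONLY once landed.
-/

set_option autoImplicit false
universe u

namespace Groth.Agent.Lib.CurveCMH8

open AlgebraicGeometry CategoryTheory Limits TopologicalSpace Topology IsLocalRing
open Groth.Agent.Lib.CMMorH8

variable {X Y : Scheme.{u}}

/-- Over a point whose local ring is a field, `f` is CM at `x` iff `O_{X,x}` is CM. -/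
theorem isCMAt_iff_of_isField (f : X ⟶ Y) (x : X) (hF : IsField (Y.presheaf.stalk (f x))) :
    MoreMor.IsCMAt f x ↔ LocCoh.IsCohenMacaulayLocalRing (X.presheaf.stalk x) := by
  have hbot : maximalIdeal (Y.presheaf.stalk (f x)) = ⊥ :=
    (IsLocalRing.isField_iff_maximalIdeal_eq).1 hF
  have hI : Groth.Agent.FibStalkDimH8.fibIdeal f x = ⊥ := by
    show (maximalIdeal (Y.presheaf.stalk (f x))).map (f.stalkMap x).hom = ⊥
    rw [hbot, Ideal.map_bot]
  let e : X.presheaf.stalk x ≃+* (f.fiber (f x)).presheaf.stalk (f.asFiber x) :=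
    ((RingEquiv.quotientBot _).symm.trans (Ideal.quotEquivOfEq hI.symm)).trans
      (Groth.Agent.FibStalkIso.fibStalkEquiv f x)
  have hfl : (f.stalkMap x).hom.Flat := by
    letI : Field (Y.presheaf.stalk (f x)) := hF.toField
    letI := (f.stalkMap x).hom.toAlgebra
    show Module.Flat (Y.presheaf.stalk (f x)) (X.presheaf.stalk x)
    exact Module.Flat.of_free
  constructor
  · rintro ⟨-, h2⟩
    haveI := h2
    exact Groth.Agent.FlatCM.isCMLocalRing_of_ringEquiv e.symm
  · intro h
    haveI := h
    exact ⟨hfl, Groth.Agent.FlatCM.isCMLocalRing_of_ringEquiv e⟩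

/-- The local rings of the spectrum of a field are fields. -/
theorem isField_stalk_spec_field (k : Type u) [Field k] (y : Spec (CommRingCat.of k)) :
    IsField ((Spec (CommRingCat.of k)).presheaf.stalk y) := by
  apply isField_stalk_of_closure_mem_irreducibleComponents
  have : closure ({y} : Set (Spec (CommRingCat.of k))) = Set.univ := by
    rw [Set.eq_univ_iff_forall]
    intro z
    have : z = y := Subsingleton.elim (α := PrimeSpectrum k) _ _
    rw [this]
    exact subset_closure rfl
  rw [this]
  exact ⟨IrreducibleSpace.isIrreducible_univ _, fun s _ _ => Set.subset_univ _⟩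

/-- The local rings of a scheme étale over a scheme with field local rings are fields. -/
theorem isField_stalk_of_etale {V : Scheme.{u}} (b : V ⟶ Y) [Etale b] (v : V)
    (hF : IsField (Y.presheaf.stalk (b v))) : IsField (V.presheaf.stalk v) := by
  obtain ⟨-, -, h3⟩ := Groth.Agent.EtStalk.stalkMap_props b v
  have hbot : maximalIdeal (Y.presheaf.stalk (b v)) = ⊥ :=
    (IsLocalRing.isField_iff_maximalIdeal_eq).1 hF
  rw [hbot, Ideal.map_bot] at h3
  exact (IsLocalRing.isField_iff_maximalIdeal_eq).2 h3.symm

end Groth.Agent.Lib.CurveCMH8
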