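import Mathlib
import Groth.Prelude
import Groth.Agent.Lib.PushEdgeNat_helper9
import Groth.Agent.Lib.HypConn2_helper9

/-!
# Fibres over rational points, part 1 (helper9)
Cohomology dimensions are insensitive to restriction of scalars along an isomorphism of fields,
and to transport along an isomorphism of schemes.
APPEND-ONLY once landed.
-/

set_option autoImplicit false
universe u
open AlgebraicGeometry CategoryTheory CategoryTheory.Limits TopologicalSpace

namespace FibPt

section Alg

/-- `finrank` is invariant under restriction of scalars along a bijective ring homomorphism of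
fields -/
theorem finrank_compHom_of_bijective {K K' M : Type*} [Field K] [Field K'] [AddCommGroup M]
    [Module K' M] (ι : K →+* K') (hι : Function.Bijective ι) :
    @Module.finrank K M _ _ (Module.compHom M ι) = Module.finrank K' M := by
  letI : Module K M := Module.compHom M ι
  letI : Algebra K K' := ι.toAlgebra
  haveI : IsScalarTower K K' M := IsScalarTower.of_algebraMap_smul (fun r m => rfl)
  have h1 := Module.finrank_mul_finrank K K' M
  have h2 : Module.finrank K K' = 1 := by
    have e : K ≃ₗ[K] K' := LinearEquiv.ofBijective (Algebra.linearMap K K') hι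
    rw [← e.finrank_eq, Module.finrank_self]
  rw [h2, one_mul] at h1
  exact h1.symm

end Alg

section Struct

variable {A B : Type u} [CommRing A] [CommRing B] {Z : Scheme.{u}}

theorem toGlobal_comp (g : Z ⟶ Spec (CommRingCat.of B)) (ι : A →+* B) :
    Coh.toGlobal (g ≫ Spec.map (CommRingCat.ofHom ι)) = (Coh.toGlobal g).comp ι := by
  ext a
  unfold Coh.toGlobal
  have h := Scheme.ΓSpecIso_inv_naturality (CommRingCat.ofHom ι)
  have h2 := congrArg (fun φ => (φ ≫ g.appTop).hom a) h
  simp only [Scheme.Hom.comp_appTop, CommRingCat.hom_comp, RingHom.comp_apply] at h2 ⊢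
  exact h2.symm

/-- the module structure of `H^n` over `A` through `Z → Spec B → Spec A` is the restriction of
scalars of the structure over `B` -/
theorem moduleOver_comp (g : Z ⟶ Spec (CommRingCat.of B)) (ι : A →+* B) (M : Z.Modules) (n : ℕ) :
    @Coh.moduleOver A _ Z ⟨g ≫ Spec.map (CommRingCat.ofHom ι)⟩ M n =
      @Module.compHom B A (Coh.HH Z M n) _ _ (@Coh.moduleOver B _ Z ⟨g⟩ M n) _ ι := by
  apply Module.ext'
  intro a m
  letI : Z.Over (Spec (CommRingCat.of B)) := ⟨g⟩
  show (Coh.toGlobal (g ≫ Spec.map (CommRingCat.ofHom ι)) a) • m = (Coh.toGlobal g (ι a)) • m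
  rw [toGlobal_comp]
  rfl

end Struct

section Fields

variable {K K' : Type u} [Field K] [Field K'] {Z : Scheme.{u}}

/-- cohomology dimensions over `K'` and over `K ≅ K'` agree -/
theorem finrank_HH_comp (g : Z ⟶ Spec (CommRingCat.of K')) (ι : K →+* K')
    (hι : Function.Bijective ι) (M : Z.Modules) (n : ℕ) :
    @Module.finrank K (Coh.HH Z M n) _ _
        (@Coh.moduleOver K _ Z ⟨g ≫ Spec.map (CommRingCat.ofHom ι)⟩ M n) =
      @Module.finrank K' (Coh.HH Z M n) _ _ (@Coh.moduleOver K' _ Z ⟨g⟩ M n) := by
  rw [moduleOver_comp]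
  exact @finrank_compHom_of_bijective K K' (Coh.HH Z M n) _ _ _
    (@Coh.moduleOver K' _ Z ⟨g⟩ M n) ι hι

end Fields

end FibPt
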