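import Mathlib
import Groth.Prelude
import Groth.Agent.Lib.FibPt1_helper9
import Groth.Agent.Lib.PrinPart1_helper6
import Groth.Agent.Lib.PB7_helper8

/-!
# Fibres over rational points, part 2 (helper9)
Transport of cohomology along an isomorphism of schemes; the fibre of `f : P ⟶ T` over a rational
point `t` of `T` and the scheme-theoretic fibre `f.fiber s`.
APPEND-ONLY once landed.
-/

set_option autoImplicit false
universe u
open AlgebraicGeometry CategoryTheory CategoryTheory.Limits TopologicalSpace

namespace FibPt

section IsoTransport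

variable {k : Type u} [Field k] {X Z : Scheme.{u}} [X.Over (Spec (CommRingCat.of k))]
  [Z.Over (Spec (CommRingCat.of k))]

/-- cohomology dimensions are invariant under an isomorphism of `k`-schemes -/
theorem finrank_HH_pullback_of_isIso (ψ : X ⟶ Z) [IsIso ψ]
    (hψ : ψ ≫ (Z ↘ Spec (CommRingCat.of k)) = X ↘ Spec (CommRingCat.of k))
    (G : Z.Modules) [G.IsQuasicoherent] (n : ℕ) :
    Module.finrank k (Coh.HH X ((Scheme.Modules.pullback ψ).obj G) n) =
      Module.finrank k (Coh.HH Z G n) := by
  haveI : ((Scheme.Modules.pullback ψ).obj G).IsQuasicoherent :=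
    PBH8.isQuasicoherent_pullback ψ G
  have e1 := Groth.Agent.PushEdgeNat.pushEdgeEquiv ψ hψ ((Scheme.Modules.pullback ψ).obj G) n
  haveI := Groth.Agent.Lib.PrinPart1H6.isIso_unit_app ψ G
  have e2 := Groth.Agent.HypConn.hhEquivOfIso (A := k)
    (asIso ((Scheme.Modules.pullbackPushforwardAdjunction ψ).unit.app G)) n
  rw [← e1.finrank_eq]
  exact e2.finrank_eq.symm

end IsoTransport

end FibPt
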