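import Mathlib
import Groth.Prelude
import Groth.Agent.Lib.FibPt2_helper9

/-!
# Fibres over rational points, part 3 (helper9)
For `f : P ⟶ T`, `T` a `k`-scheme and `t` a `k`-rational point of `T`, the Betti numbers of the
scheme-theoretic fibre of `f` over the image point of `t` are the cohomology dimensions of the
pullback of `f` along `t`.
APPEND-ONLY once landed.
-/

set_option autoImplicit false
universe u
open AlgebraicGeometry CategoryTheory CategoryTheory.Limits TopologicalSpace

namespace FibPt

section Rational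

variable {k : Type u} [Field k] {T : Scheme.{u}} (q : T ⟶ Spec (CommRingCat.of k))
  (t : Spec (CommRingCat.of k) ⟶ T) (ht : t ≫ q = 𝟙 _)

/-- the image point of a rational point -/
noncomputable abbrev ptOf : T := t (IsLocalRing.closedPoint k)

/-- the map of residue fields `κ(s) ⟶ k` of a rational point -/
noncomputable abbrev resMap : T.residueField (ptOf t) ⟶ CommRingCat.of k :=
  Scheme.descResidueField (Scheme.stalkClosedPointTo t)

theorem resMap_fac : Spec.map (resMap t) ≫ T.fromSpecResidueField (ptOf t) = t :=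
  Scheme.descResidueField_stalkClosedPointTo_fromSpecResidueField k T t

include ht in
theorem resMap_bijective : Function.Bijective (resMap t).hom := by
  constructor
  · exact (resMap t).hom.injective
  · have h1 : Spec.map (resMap t) ≫ (T.fromSpecResidueField (ptOf t) ≫ q) = 𝟙 _ := by
      rw [← Category.assoc, resMap_fac, ht]
    obtain ⟨ι, hι⟩ : ∃ ι : CommRingCat.of k ⟶ T.residueField (ptOf t),
        Spec.map ι = T.fromSpecResidueField (ptOf t) ≫ q := ⟨Spec.preimage _, Spec.map_preimage _⟩
    rw [← hι, ← Spec.map_comp, ← Spec.map_id, Spec.map_inj] at h1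
    intro a
    refine ⟨ι.hom a, ?_⟩
    have := congrArg (fun φ => φ.hom a) h1
    exact this

/-- the isomorphism of residue fields `κ(s) ≅ k` of a rational point -/
noncomputable def resIso : T.residueField (ptOf t) ≅ CommRingCat.of k :=
  (RingEquiv.ofBijective (resMap t).hom (resMap_bijective q t ht)).toCommRingCatIso

theorem resIso_hom : (resIso q t ht).hom = resMap t := rfl

end Rational

section Betti

variable {k : Type u} [Field k] {P T X : Scheme.{u}} (f : P ⟶ T)
  (q : T ⟶ Spec (CommRingCat.of k)) (t : Spec (CommRingCat.of k) ⟶ T) (ht : t ≫ q = 𝟙 _)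
  (σ : X ⟶ P) (p : X ⟶ Spec (CommRingCat.of k)) (hpb : IsPullback σ p f t)

include q ht hpb in
/-- the pullback of `f` along a rational point is also the scheme-theoretic fibre -/
theorem isPullback_fiber :
    IsPullback σ (p ≫ Spec.map (resMap t)) f (T.fromSpecResidueField (ptOf t)) := by
  haveI : IsIso (resMap t) := by
    rw [← resIso_hom q t ht]
    infer_instance
  refine IsPullback.of_iso hpb (Iso.refl X) (Iso.refl P) (asIso (Spec.map (resMap t)))
    (Iso.refl T) ?_ ?_ ?_ ?_
  · simp
  · simp
  · simp
  · simp only [Iso.refl_hom, Category.comp_id, asIso_hom]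
    exact (resMap_fac t).symm

/-- the comparison isomorphism from the pullback along a rational point to the fibre -/
noncomputable def toFiber : X ⟶ f.fiber (ptOf t) :=
  (isPullback_fiber f q t ht σ p hpb).isoPullback.hom

instance : IsIso (toFiber f q t ht σ p hpb) := by
  unfold toFiber
  infer_instance

theorem toFiber_fiberι : toFiber f q t ht σ p hpb ≫ f.fiberι (ptOf t) = σ :=
  (isPullback_fiber f q t ht σ p hpb).isoPullback_hom_fst

theorem toFiber_snd : toFiber f q t ht σ p hpb ≫ f.fiberToSpecResidueField (ptOf t) =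
    p ≫ Spec.map (resMap t) :=
  (isPullback_fiber f q t ht σ p hpb).isoPullback_hom_snd

include q ht hpb in
/-- **Betti numbers of the fibre over a rational point** -/
theorem betti_eq_finrank (𝓕 : P.Modules) [𝓕.IsQuasicoherent] (n : ℕ) :
    PerfAux.betti f 𝓕 (ptOf t) n =
      @Module.finrank k (Coh.HH X ((Scheme.Modules.pullback σ).obj 𝓕) n) _ _
        (@Coh.moduleOver k _ X ⟨p⟩ _ n) := by
  have hbij : Function.Bijective (resIso q t ht).inv.hom :=
    ConcreteCategory.bijective_of_isIso (resIso q t ht).inv
  have h1 := finrank_HH_comp (K := k) (K' := T.residueField (ptOf t))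
    (f.fiberToSpecResidueField (ptOf t)) (resIso q t ht).inv.hom hbij
    ((Scheme.Modules.pullback (f.fiberι (ptOf t))).obj 𝓕) n
  letI instX : X.Over (Spec (CommRingCat.of k)) := ⟨p⟩
  letI instZ : (f.fiber (ptOf t)).Over (Spec (CommRingCat.of k)) :=
    ⟨f.fiberToSpecResidueField (ptOf t) ≫ Spec.map (CommRingCat.ofHom (resIso q t ht).inv.hom)⟩
  have hψ : toFiber f q t ht σ p hpb ≫
      ((f.fiber (ptOf t)) ↘ Spec (CommRingCat.of k)) = X ↘ Spec (CommRingCat.of k) := by
    show toFiber f q t ht σ p hpb ≫ (f.fiberToSpecResidueField (ptOf t) ≫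
      Spec.map (CommRingCat.ofHom (resIso q t ht).inv.hom)) = p
    rw [← Category.assoc, toFiber_snd, Category.assoc, ← resIso_hom q t ht]
    have h3 : Spec.map (resIso q t ht).hom ≫
        Spec.map (CommRingCat.ofHom (resIso q t ht).inv.hom) = 𝟙 _ := by
      rw [← Spec.map_comp, ← Spec.map_id]
      congr 1
      exact (resIso q t ht).inv_hom_id
    rw [h3, Category.comp_id]
  haveI : ((Scheme.Modules.pullback (f.fiberι (ptOf t))).obj 𝓕).IsQuasicoherent :=
    PBH8.isQuasicoherent_pullback _ 𝓕
  have h2 := finrank_HH_pullback_of_isIso (k := k) (toFiber f q t ht σ p hpb) hψ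
    ((Scheme.Modules.pullback (f.fiberι (ptOf t))).obj 𝓕) n
  have e3 : (Scheme.Modules.pullback (toFiber f q t ht σ p hpb)).obj
      ((Scheme.Modules.pullback (f.fiberι (ptOf t))).obj 𝓕) ≅
      (Scheme.Modules.pullback σ).obj 𝓕 :=
    (Scheme.Modules.pullbackComp _ _).app 𝓕 ≪≫
      (Scheme.Modules.pullbackCongr (toFiber_fiberι f q t ht σ p hpb)).app 𝓕
  have h3 := (Groth.Agent.HypConn.hhEquivOfIso (A := k) e3 n).finrank_eq
  unfold PerfAux.betti
  exact h1.symm.trans (h2.symm.trans h3)

end Betti

end FibPt
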