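import Groth.Agent.Lib.TorBC_helper9

/-!
# Flat base change for `Tor`, first variable a module over the bigger ring (helper5)

* `TorBC2.exists_semilinear`: `A → A'` flat, `P'` an `A'`-module, `Q` an `A`-module: there is a
  bijective map `Tor_n^A(P', Q) → Tor_n^{A'}(P', A' ⊗_A Q)` semilinear over `A → A'`  (S4494).
* `TorBC2.exists_semilinear_localization` (S3534).
-/

set_option autoImplicit false
set_option maxHeartbeats 400000
universe u
open CategoryTheory CategoryTheory.Limits MonoidalCategory TensorProduct
open Groth.Agent.ExtendScalarsLib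

namespace Groth.Agent.TorBC2

variable (A A' : Type u) [CommRing A] [CommRing A'] [Algebra A A']

/-- extension of scalars along `A → A'` -/
noncomputable abbrev E : ModuleCat.{u} A ⥤ ModuleCat.{u} A' := TorBC9.E A A'

/-- restriction of scalars along `A → A'` -/
noncomputable abbrev ρ : ModuleCat.{u} A' ⥤ ModuleCat.{u} A :=
  ModuleCat.restrictScalars.{u} (algebraMap A A')

variable (P' : Type u) [AddCommGroup P'] [Module A' P'] [Module A P'] [IsScalarTower A A' P']

open ChangeOfRings in
/-- induction principle for elements of an extension of scalars. -/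
lemma E_induction {F : ModuleCat.{u} A} {motive : (E A A').obj F → Prop} (x : (E A A').obj F)
    (zero : motive 0) (tmul : ∀ (a : A') (f : F), motive (a ⊗ₜ[A,algebraMap A A'] f))
    (add : ∀ x y, motive x → motive y → motive (x + y)) : motive x :=
  TensorProduct.induction_on (motive := motive) x zero tmul add

/-- the linear equivalence `P' ⊗[A'] (E F) ≃ P' ⊗[A] F`. -/
noncomputable def eqv (F : ModuleCat.{u} A) :
    P' ⊗[A'] ((E A A').obj F) ≃ₗ[A'] P' ⊗[A] F :=
  (TensorProduct.congr (LinearEquiv.refl A' P') (extendScalarsEquivTensor (S := A') F)) ≪≫ₗ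
    (AlgebraTensorModule.cancelBaseChange A A' A' P' F)

open ChangeOfRings in
lemma eqv_tmul (F : ModuleCat.{u} A) (p : P') (a : A') (f : F) :
    eqv A A' P' F (p ⊗ₜ[A'] (a ⊗ₜ[A,algebraMap A A'] f)) = (a • p) ⊗ₜ[A] f := by
  simp only [eqv, LinearEquiv.trans_apply, TensorProduct.congr_tmul, LinearEquiv.refl_apply]
  rw [extendScalarsEquivTensor_tmul, AlgebraTensorModule.cancelBaseChange_tmul]

/-- the comparison as an `A`-linear equivalence. -/
noncomputable def compEquiv (F : ModuleCat.{u} A) :
    ((ρ A A').obj (ModuleCat.of A' (P' ⊗[A'] ((E A A').obj F)))) ≃ₗ[A] P' ⊗[A] F where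
  toFun := fun z => eqv A A' P' F z
  invFun := fun z => (eqv A A' P' F).symm z
  map_add' := fun x y => map_add (eqv A A' P' F) x y
  map_smul' := fun a z => by
    change eqv A A' P' F ((algebraMap A A' a) • (show P' ⊗[A'] ((E A A').obj F) from z)) =
      a • eqv A A' P' F z
    rw [map_smul, algebraMap_smul]
  left_inv := fun z => (eqv A A' P' F).symm_apply_apply z
  right_inv := fun z => (eqv A A' P' F).apply_symm_apply z

/-- the comparison iso in `ModuleCat A`. -/
noncomputable def compIso (F : ModuleCat.{u} A) :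
    (ρ A A').obj (((tensoringLeft (ModuleCat.{u} A')).obj (ModuleCat.of A' P')).obj
        ((E A A').obj F)) ≅
      ((tensoringLeft (ModuleCat.{u} A)).obj (ModuleCat.of A P')).obj F :=
  (compEquiv A A' P' F).toModuleIso

lemma compIso_hom_apply (F : ModuleCat.{u} A) (z : P' ⊗[A'] ((E A A').obj F)) :
    (compIso A A' P' F).hom z = eqv A A' P' F z := rfl

open ChangeOfRings in
lemma compIso_naturality {F G : ModuleCat.{u} A} (g : F ⟶ G) :
    (ρ A A').map (((tensoringLeft (ModuleCat.{u} A')).obj (ModuleCat.of A' P')).map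
        ((E A A').map g)) ≫ (compIso A A' P' G).hom =
      (compIso A A' P' F).hom ≫
        ((tensoringLeft (ModuleCat.{u} A)).obj (ModuleCat.of A P')).map g := by
  ext z
  change P' ⊗[A'] ((E A A').obj F) at z
  change (compIso A A' P' G).hom ((ModuleCat.of A' P' ◁ (E A A').map g) z) =
    (ModuleCat.of A P' ◁ g) ((compIso A A' P' F).hom z)
  rw [compIso_hom_apply, compIso_hom_apply]
  induction z using TensorProduct.induction_on with
  | zero => simp only [map_zero]
  | add x y hx hy => simp only [map_add, hx, hy]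
  | tmul p x =>
    induction x using E_induction with
    | zero => simp only [tmul_zero, map_zero]
    | add x y hx hy => simp only [tmul_add, map_add, hx, hy]
    | tmul a f =>
      have h1 : eqv A A' P' G ((ModuleCat.of A' P' ◁ (E A A').map g)
          (p ⊗ₜ[A'] (a ⊗ₜ[A,algebraMap A A'] f))) =
          eqv A A' P' G (p ⊗ₜ[A'] (a ⊗ₜ[A,algebraMap A A'] (g.hom f))) := by
        rw [ModuleCat.MonoidalCategory.whiskerLeft_apply, ModuleCat.ExtendScalars.map_tmul]
        rfl
      rw [h1, eqv_tmul, eqv_tmul, ModuleCat.MonoidalCategory.whiskerLeft_apply]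

/-- the comparison of complexes. -/
noncomputable def cxIso2 (C : ChainComplex (ModuleCat.{u} A) ℕ) :
    ((ρ A A').mapHomologicalComplex _).obj
      ((((tensoringLeft (ModuleCat.{u} A')).obj (ModuleCat.of A' P')).mapHomologicalComplex _).obj
        (((E A A').mapHomologicalComplex _).obj C)) ≅
      (((tensoringLeft (ModuleCat.{u} A)).obj (ModuleCat.of A P')).mapHomologicalComplex _).obj C :=
  HomologicalComplex.Hom.isoOfComponents (fun i => compIso A A' P' (C.X i))
    (fun i j _ => (compIso_naturality A A' P' (C.d i j)).symm)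

variable [Module.Flat A A']

/-- S4494. -/
theorem exists_semilinear (Q : Type u) [AddCommGroup Q] [Module A Q] (n : ℕ) :
    ∃ φ : DRing.Tor A n P' Q →ₛₗ[algebraMap A A'] DRing.Tor A' n P' (A' ⊗[A] Q),
      Function.Bijective φ := by
  let R := ProjectiveResolution.of (ModuleCat.of A Q)
  let R' := (E A A').mapProjectiveResolution R
  let i1 := R'.isoLeftDerivedObj ((tensoringLeft (ModuleCat.{u} A')).obj (ModuleCat.of A' P')) n
  let i2 := R.isoLeftDerivedObj ((tensoringLeft (ModuleCat.{u} A)).obj (ModuleCat.of A P')) n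
  let K' := (((tensoringLeft (ModuleCat.{u} A')).obj (ModuleCat.of A' P')).mapHomologicalComplex
    _).obj R'.complex
  let i3 := (HomologicalComplex.homologyFunctor (ModuleCat.{u} A) _ n).mapIso
    (cxIso2 A A' P' R.complex)
  let i4 : (((ρ A A').mapHomologicalComplex _).obj K').homology n ≅ (ρ A A').obj (K'.homology n) :=
    (K'.sc n).mapHomologyIso (ρ A A')
  let eA : ((Tor (ModuleCat.{u} A) n).obj (ModuleCat.of A P')).obj (ModuleCat.of A Q) ≅
      (ρ A A').obj (K'.homology n) := i2 ≪≫ i3.symm ≪≫ i4
  let iQ : (E A A').obj (ModuleCat.of A Q) ≅ ModuleCat.of A' (A' ⊗[A] Q) :=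
    (extendScalarsEquivTensor (S := A') (ModuleCat.of A Q)).toModuleIso
  let eA' : K'.homology n ≅
      ((Tor (ModuleCat.{u} A') n).obj (ModuleCat.of A' P')).obj (ModuleCat.of A' (A' ⊗[A] Q)) :=
    i1.symm ≪≫ ((Tor (ModuleCat.{u} A') n).obj _).mapIso iQ
  refine ⟨{ toFun := fun x => eA'.hom (eA.hom x)
            map_add' := fun x y => by
              have h1 : eA.hom (x + y) = eA.hom x + eA.hom y := map_add eA.hom.hom x y
              change eA'.hom (eA.hom (x + y)) = _
              rw [h1]
              exact map_add eA'.hom.hom (show K'.homology n from eA.hom x)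
                (show K'.homology n from eA.hom y)
            map_smul' := fun a x => ?_ }, ?_⟩
  · have h1 : eA.hom (a • x) = a • eA.hom x := map_smul eA.hom.hom a x
    have h2 : (a • eA.hom x : (ρ A A').obj (K'.homology n)) =
        ((algebraMap A A' a) • (show K'.homology n from eA.hom x) : K'.homology n) := rfl
    change eA'.hom (eA.hom (a • x)) = (algebraMap A A' a) • eA'.hom (eA.hom x)
    rw [h1, h2]
    exact map_smul eA'.hom.hom _ _
  · constructor
    · intro x y hxy
      have h1 : eA.hom x = eA.hom y :=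
        (ModuleCat.mono_iff_injective eA'.hom).mp inferInstance hxy
      exact (ModuleCat.mono_iff_injective eA.hom).mp inferInstance h1
    · intro y
      obtain ⟨z, hz⟩ := (ModuleCat.epi_iff_surjective eA'.hom).mp inferInstance y
      obtain ⟨x, hx⟩ := (ModuleCat.epi_iff_surjective eA.hom).mp inferInstance z
      exact ⟨x, by change eA'.hom (eA.hom x) = y; rw [hx, hz]⟩

omit [Module.Flat A A'] in
/-- S3534. -/
theorem exists_semilinear_localization (S : Submonoid A) [IsLocalization S A'] (P Q : Type u)
    [AddCommGroup P] [Module A' P] [Module A P] [IsScalarTower A A' P]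
    [AddCommGroup Q] [Module A' Q] [Module A Q] [IsScalarTower A A' Q] (n : ℕ) :
    ∃ φ : DRing.Tor A n P Q →ₛₗ[algebraMap A A'] DRing.Tor A' n P Q, Function.Bijective φ := by
  haveI : Module.Flat A A' := IsLocalization.flat A' S
  obtain ⟨φ, hφ⟩ := exists_semilinear A A' P Q n
  haveI := isLocalizedModule_id S Q A'
  let e : A' ⊗[A] Q ≃ₗ[A'] Q :=
    (IsLocalizedModule.isBaseChange S A' (LinearMap.id : Q →ₗ[A] Q)).equiv
  let j : ((Tor (ModuleCat.{u} A') n).obj (ModuleCat.of A' P)).obj (ModuleCat.of A' (A' ⊗[A] Q)) ≅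
      ((Tor (ModuleCat.{u} A') n).obj (ModuleCat.of A' P)).obj (ModuleCat.of A' Q) :=
    ((Tor (ModuleCat.{u} A') n).obj (ModuleCat.of A' P)).mapIso e.toModuleIso
  refine ⟨j.hom.hom.comp φ, ?_⟩
  have hj : Function.Bijective j.hom.hom :=
    ⟨(ModuleCat.mono_iff_injective j.hom).mp inferInstance,
      (ModuleCat.epi_iff_surjective j.hom).mp inferInstance⟩
  exact hj.comp hφ

end Groth.Agent.TorBC2
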