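import Mathlib
import Groth.Agent.Lib.TorBC2_helper5
import Groth.Agent.Lib.TorBal2_helper5
import Groth.Agent.Lib.TorPrimes_helper5

/-!
# A flatness criterion via `Tor`-vanishing against `A/I` (helper5)

`I = (f_1, …, f_r)`; if every `M_{f_i}` is flat over `A_{f_i}`, `M/IM` is flat over `A/I` and
`Tor_i(M, A/I) = 0` for `1 ≤ i ≤ r + 1`, then `M` is flat.
-/

set_option autoImplicit false
universe u

open CategoryTheory TensorProduct

namespace Groth.Agent.FlatCrit

open Groth.Agent.TorLES Groth.Agent.TorPrimes Groth.Agent.TorBal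

variable {A : Type u} [CommRing A]

/-- `Tor_{n+1}(N_g, M) = 0` when `M_g` is flat over `A_g`. -/
theorem torZero_localizedModule (g : A) (N M : Type u) [AddCommGroup N] [Module A N]
    [AddCommGroup M] [Module A M]
    (hM : Module.Flat (Localization.Away g) (LocalizedModule (Submonoid.powers g) M)) (n : ℕ) :
    TorZero A (n + 1) (LocalizedModule (Submonoid.powers g) N) M := by
  haveI : Module.Flat A (Localization.Away g) := IsLocalization.flat _ (Submonoid.powers g)
  obtain ⟨φ, hφ⟩ := Groth.Agent.TorBC2.exists_semilinear A (Localization.Away g)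
    (LocalizedModule (Submonoid.powers g) N) M (n + 1)
  let e : (Localization.Away g) ⊗[A] M ≃ₗ[Localization.Away g]
      LocalizedModule (Submonoid.powers g) M :=
    (IsLocalizedModule.isBaseChange (Submonoid.powers g) (Localization.Away g)
      (LocalizedModule.mkLinearMap (Submonoid.powers g) M)).equiv
  haveI : Module.Flat (Localization.Away g) ((Localization.Away g) ⊗[A] M) :=
    Module.Flat.of_linearEquiv e
  have hz : TorZero (Localization.Away g) (n + 1) (LocalizedModule (Submonoid.powers g) N)
      ((Localization.Away g) ⊗[A] M) :=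
    torZero_succ_of_flat_right ((Localization.Away g) ⊗[A] M) n _
  rw [torZero_iff_subsingleton] at hz ⊢
  haveI := hz
  exact hφ.1.subsingleton

/-- for `B`-modules `P₁ ↪ P₂` and an `A`-module `M` with `B ⊗ M` flat over `B`,
`P₁ ⊗_A M → P₂ ⊗_A M` is injective. -/
theorem rTensor_injective_of_flat_baseChange (B : Type u) [CommRing B] [Algebra A B]
    (M : Type u) [AddCommGroup M] [Module A M] [Module.Flat B (B ⊗[A] M)]
    {P₁ P₂ : Type u} [AddCommGroup P₁] [Module A P₁] [Module B P₁] [IsScalarTower A B P₁]
    [AddCommGroup P₂] [Module A P₂] [Module B P₂] [IsScalarTower A B P₂]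
    (j : P₁ →ₗ[B] P₂) (hj : Function.Injective j) :
    Function.Injective ((j.restrictScalars A).rTensor M) := by
  have h1 : Function.Injective (j.rTensor (B ⊗[A] M)) :=
    Module.Flat.rTensor_preserves_injective_linearMap j hj
  let e₁ := TensorProduct.AlgebraTensorModule.cancelBaseChange A B B P₁ M
  let e₂ := TensorProduct.AlgebraTensorModule.cancelBaseChange A B B P₂ M
  have hsq : ∀ x, e₂ (j.rTensor (B ⊗[A] M) x) = (j.restrictScalars A).rTensor M (e₁ x) := by
    intro x
    induction x using TensorProduct.induction_on with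
    | zero => simp
    | tmul p y =>
      induction y using TensorProduct.induction_on with
      | zero => simp
      | tmul b m =>
        simp [e₁, e₂, TensorProduct.AlgebraTensorModule.cancelBaseChange_tmul]
      | add y₁ y₂ h₁ h₂ => simp only [TensorProduct.tmul_add, map_add, h₁, h₂]
    | add x₁ x₂ h₁ h₂ => simp only [map_add, h₁, h₂]
  intro x y hxy
  obtain ⟨x', rfl⟩ := e₁.surjective x
  obtain ⟨y', rfl⟩ := e₁.surjective y
  rw [← hsq, ← hsq] at hxy
  have := h1 (e₂.injective hxy)
  rw [this]

section killed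

variable (I : Ideal A) (M : Type u) [AddCommGroup M] [Module A M]

/-- the cyclic step: from `A/I` to `A/J'` for `I ≤ J'`. -/
theorem torZero_quot_step (hflat : Module.Flat (A ⧸ I) ((A ⧸ I) ⊗[A] M)) (J' : Ideal A)
    (hJ' : I ≤ J') :
    (TorZero A 1 (A ⧸ I) M → TorZero A 1 (A ⧸ J') M) ∧
    (∀ n, TorZero A (n + 2) (A ⧸ I) M →
      TorZero A (n + 1) ↥(J'.map (Ideal.Quotient.mk I)) M → TorZero A (n + 2) (A ⧸ J') M) := by
  set J'' : Ideal (A ⧸ I) := J'.map (Ideal.Quotient.mk I) with hJ''
  let i : ↥J'' →ₗ[A] (A ⧸ I) := (J''.subtype).restrictScalars A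
  let p : (A ⧸ I) →ₗ[A] (A ⧸ J') := Submodule.mapQ I J' LinearMap.id (by
    rw [Submodule.comap_id]; exact hJ')
  have hi : Function.Injective i := Submodule.injective_subtype _
  have hp : Function.Surjective p := by
    intro y
    obtain ⟨c, rfl⟩ := Submodule.Quotient.mk_surjective _ y
    exact ⟨Submodule.Quotient.mk c, rfl⟩
  have hip : Function.Exact i p := by
    intro y
    obtain ⟨c, rfl⟩ := Submodule.Quotient.mk_surjective _ y
    have hpc : p (Submodule.Quotient.mk c) = Submodule.Quotient.mk c := rfl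
    rw [hpc, Submodule.Quotient.mk_eq_zero]
    constructor
    · intro hc
      exact ⟨⟨Submodule.Quotient.mk c, Ideal.mem_map_of_mem _ hc⟩, rfl⟩
    · rintro ⟨⟨z, hz⟩, hzc⟩
      have hz' : z = Submodule.Quotient.mk c := hzc
      rw [hz'] at hz
      obtain ⟨c', hc', hcc'⟩ :=
        (Ideal.mem_map_iff_of_surjective _ Ideal.Quotient.mk_surjective).mp hz
      have hdiff : c' - c ∈ I := by
        have : (Ideal.Quotient.mk I) c' = (Ideal.Quotient.mk I) c := hcc'
        exact Ideal.Quotient.eq.mp this
      have : c = c' - (c' - c) := by ring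
      rw [this]
      exact Submodule.sub_mem _ hc' (hJ' hdiff)
  refine ⟨fun h => ?_, fun n h2 h1 => ?_⟩
  · haveI := hflat
    have hinj : Function.Injective (i.rTensor M) :=
      rTensor_injective_of_flat_baseChange (A ⧸ I) M J''.subtype (Submodule.injective_subtype _)
    exact torZero_one_right i p M hip hp h hinj
  · exact torZero_succ_right i p M hi hip hp (n + 1) h2 h1

theorem torZero_of_killed (hflat : Module.Flat (A ⧸ I) ((A ⧸ I) ⊗[A] M)) (m : ℕ)
    (h3 : ∀ i, 1 ≤ i → i ≤ m → TorZero A i (A ⧸ I) M) :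
    ∀ k, k + 1 ≤ m → ∀ (T : Type u) [AddCommGroup T] [Module A T],
      (∀ a ∈ I, ∀ t : T, a • t = 0) → TorZero A (k + 1) T M := by
  intro k
  induction k with
  | zero =>
    intro hk T _ _ hT
    apply torZero_succ_of_fg_submodules
    intro T' hfg
    haveI : Module.Finite A T' := Module.Finite.iff_fg.mpr hfg
    refine torZero_of_finite_of_cyclic M 0 I (fun J' hJ' => ?_) T'
      (fun a ha x => Subtype.ext (by rw [Submodule.coe_smul, hT a ha, Submodule.coe_zero]))
    exact (torZero_quot_step I M hflat J' hJ').1 (h3 1 le_rfl hk)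
  | succ k ih =>
    intro hk T _ _ hT
    apply torZero_succ_of_fg_submodules
    intro T' hfg
    haveI : Module.Finite A T' := Module.Finite.iff_fg.mpr hfg
    refine torZero_of_finite_of_cyclic M (k + 1) I (fun J' hJ' => ?_) T'
      (fun a ha x => Subtype.ext (by rw [Submodule.coe_smul, hT a ha, Submodule.coe_zero]))
    refine (torZero_quot_step I M hflat J' hJ').2 k (h3 (k + 2) (by omega) hk)
      (ih (by omega) _ ?_)
    intro a ha t
    apply Subtype.ext
    rw [Submodule.coe_smul_of_tower, Submodule.coe_zero, Algebra.smul_def]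
    have : algebraMap A (A ⧸ I) a = 0 := Ideal.Quotient.eq_zero_iff_mem.mpr ha
    rw [this, zero_mul]

theorem torZero_of_killed_pow (hflat : Module.Flat (A ⧸ I) ((A ⧸ I) ⊗[A] M)) (m : ℕ)
    (h3 : ∀ i, 1 ≤ i → i ≤ m → TorZero A i (A ⧸ I) M) (k : ℕ) (hk : k + 1 ≤ m) :
    ∀ (N : ℕ) (T : Type u) [AddCommGroup T] [Module A T],
      (∀ a ∈ I ^ N, ∀ t : T, a • t = 0) → TorZero A (k + 1) T M := by
  intro N
  induction N with
  | zero =>
    intro T _ _ hT
    haveI : Subsingleton T := by
      refine ⟨fun x y => ?_⟩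
      have hx := hT 1 (by rw [pow_zero, Ideal.one_eq_top]; exact Submodule.mem_top) x
      have hy := hT 1 (by rw [pow_zero, Ideal.one_eq_top]; exact Submodule.mem_top) y
      rw [one_smul] at hx hy
      rw [hx, hy]
    exact torZero_succ_of_subsingleton T M k
  | succ N ih =>
    intro T _ _ hT
    let IT : Submodule A T := I • (⊤ : Submodule A T)
    have h1 : TorZero A (k + 1) IT M := by
      apply ih
      intro a ha t
      apply Subtype.ext
      rw [Submodule.coe_smul, Submodule.coe_zero]
      have ht : (t : T) ∈ I • (⊤ : Submodule A T) := t.2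
      refine Submodule.smul_induction_on ht ?_ ?_
      · intro b hb x _
        rw [← mul_smul]
        exact hT _ (by rw [pow_succ]; exact Ideal.mul_mem_mul ha hb) x
      · intro x y hx hy
        rw [smul_add, hx, hy, add_zero]
    have h2 : TorZero A (k + 1) (T ⧸ IT) M := by
      apply torZero_of_killed I M hflat m h3 k hk
      intro a ha t
      obtain ⟨x, rfl⟩ := Submodule.Quotient.mk_surjective _ t
      rw [← Submodule.Quotient.mk_smul, Submodule.Quotient.mk_eq_zero]
      exact Submodule.smul_mem_smul ha Submodule.mem_top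
    exact torZero_mid IT.subtype IT.mkQ M (Submodule.injective_subtype _)
      (LinearMap.exact_subtype_mkQ IT) (Submodule.mkQ_surjective IT) (k + 1) h1 h2

end killed

/-- a power of `g` kills a finitely generated submodule of a `g`-power torsion module. -/
theorem exists_pow_smul_eq_zero_of_fg (g : A) {T : Type u} [AddCommGroup T] [Module A T]
    (T' : Submodule A T) (hfg : T'.FG) (h : ∀ t : T, ∃ n : ℕ, g ^ n • t = 0) :
    ∃ n : ℕ, ∀ t ∈ T', g ^ n • t = 0 := by
  classical
  obtain ⟨S, hS⟩ := hfg
  choose nfun hnfun using h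
  refine ⟨∑ y ∈ S, nfun y, ?_⟩
  have hkillS : ∀ y ∈ S, g ^ (∑ y ∈ S, nfun y) • y = 0 := by
    intro y hy
    have hle : nfun y ≤ ∑ y ∈ S, nfun y :=
      Finset.single_le_sum (fun _ _ => Nat.zero_le _) hy
    obtain ⟨k, hk⟩ := Nat.exists_eq_add_of_le hle
    rw [hk, pow_add, mul_comm, mul_smul, hnfun y, smul_zero]
  intro x hx
  rw [← hS] at hx
  induction hx using Submodule.span_induction with
  | mem y hy => exact hkillS y hy
  | zero => rw [smul_zero]
  | add x y _ _ hx hy => rw [smul_add, hx, hy, add_zero]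
  | smul a x _ hx => rw [smul_comm, hx, smul_zero]

section main

variable (M : Type u) [AddCommGroup M] [Module A M] {r : ℕ} (f : Fin r → A)

/-- `N` is `f k`-power torsion for all `k < j`. -/
def IsTors (j : ℕ) (N : Type u) [AddCommGroup N] [Module A N] : Prop :=
  ∀ k : Fin r, k.val < j → ∀ x : N, ∃ n : ℕ, f k ^ n • x = 0

theorem torZero_of_isTors_top
    (hflat : Module.Flat (A ⧸ Ideal.span (Set.range f)) ((A ⧸ Ideal.span (Set.range f)) ⊗[A] M))
    (m : ℕ) (h3 : ∀ i, 1 ≤ i → i ≤ m → TorZero A i (A ⧸ Ideal.span (Set.range f)) M)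
    (k : ℕ) (hk : k + 1 ≤ m) (T : Type u) [AddCommGroup T] [Module A T]
    (hT : ∀ (j : Fin r) (t : T), ∃ n : ℕ, f j ^ n • t = 0) : TorZero A (k + 1) T M := by
  apply torZero_succ_of_fg_submodules
  intro T' hfg
  have hrad : Ideal.span (Set.range f) ≤ (Module.annihilator A T').radical := by
    rw [Ideal.span_le]
    rintro _ ⟨j, rfl⟩
    obtain ⟨n, hn⟩ := exists_pow_smul_eq_zero_of_fg (f j) T' hfg (hT j)
    refine ⟨n, ?_⟩
    rw [Module.mem_annihilator]
    intro t
    exact Subtype.ext (by rw [Submodule.coe_smul, hn t t.2, Submodule.coe_zero])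
  obtain ⟨N, hN⟩ := Ideal.exists_pow_le_of_le_radical_of_fg hrad
    (Submodule.fg_span (Set.finite_range f))
  apply torZero_of_killed_pow (Ideal.span (Set.range f)) M hflat m h3 k hk N
  intro a ha t
  exact Module.mem_annihilator.mp (hN ha) t

theorem main_induction
    (h1 : ∀ i, Module.Flat (Localization.Away (f i)) (LocalizedModule (Submonoid.powers (f i)) M))
    (hA : ∀ k, k + 1 ≤ r + 1 → ∀ (T : Type u) [AddCommGroup T] [Module A T],
      (∀ (j : Fin r) (t : T), ∃ n : ℕ, f j ^ n • t = 0) → TorZero A (k + 1) T M) :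
    ∀ d, d ≤ r → ∀ (N : Type u) [AddCommGroup N] [Module A N], IsTors f (r - d) N →
      ∀ k, k + 1 ≤ (r - d) + 1 → TorZero A (k + 1) N M := by
  intro d
  induction d with
  | zero =>
    intro _ N _ _ hN k hk
    exact hA k (by omega) N (fun j t => hN j (by have := j.2; omega) t)
  | succ d ih =>
    intro hd N _ _ hN k hk
    have ih' := ih (by omega)
    set j' := r - (d + 1) with hj'
    have hjj : r - d = j' + 1 := by omega
    let idx : Fin r := ⟨j', by omega⟩
    set g := f idx with hg
    let ℓ := LocalizedModule.mkLinearMap (Submonoid.powers g) N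
    let Kt : Submodule A N := LinearMap.ker ℓ
    let Rg : Submodule A (LocalizedModule (Submonoid.powers g) N) := LinearMap.range ℓ
    -- torsion of the kernel
    have hKt : IsTors f (r - d) Kt := by
      intro k' hk' x
      by_cases hlt : k'.val < j'
      · obtain ⟨n, hn⟩ := hN k' hlt (x : N)
        exact ⟨n, Subtype.ext (by rw [Submodule.coe_smul, hn, Submodule.coe_zero])⟩
      · have hk'idx : k' = idx := Fin.ext (by show k'.val = j'; omega)
        obtain ⟨s, ⟨n, rfl⟩, hs⟩ := LocalizedModule.mem_ker_mkLinearMap_iff.mp x.2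
        refine ⟨n, Subtype.ext ?_⟩
        rw [Submodule.coe_smul, Submodule.coe_zero, hk'idx]
        exact hs
    -- torsion of the cokernel
    have hW : IsTors f (r - d) (LocalizedModule (Submonoid.powers g) N ⧸ Rg) := by
      intro k' hk' y
      obtain ⟨x, rfl⟩ := Submodule.Quotient.mk_surjective _ y
      induction x using LocalizedModule.induction_on with
      | h m s =>
        by_cases hlt : k'.val < j'
        · obtain ⟨n, hn⟩ := hN k' hlt m
          refine ⟨n, ?_⟩
          rw [← Submodule.Quotient.mk_smul, LocalizedModule.smul'_mk, hn,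
            LocalizedModule.zero_mk, Submodule.Quotient.mk_zero]
        · have hk'idx : k' = idx := Fin.ext (by show k'.val = j'; omega)
          obtain ⟨s, n, rfl⟩ := s
          refine ⟨n, ?_⟩
          rw [← Submodule.Quotient.mk_smul, Submodule.Quotient.mk_eq_zero, hk'idx]
          refine ⟨m, ?_⟩
          show LocalizedModule.mkLinearMap (Submonoid.powers g) N m = _
          rw [LocalizedModule.mkLinearMap_apply]
          have h1' : (g ^ n) • LocalizedModule.mk m (⟨g ^ n, n, rfl⟩ : Submonoid.powers g) =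
              LocalizedModule.mk ((g ^ n) • m) (⟨g ^ n, n, rfl⟩ : Submonoid.powers g) :=
            LocalizedModule.smul'_mk _ _ _
          rw [h1']
          exact (LocalizedModule.mk_cancel (⟨g ^ n, n, rfl⟩ : Submonoid.powers g) m).symm
    have t1 : TorZero A (k + 1) Kt M := ih' Kt hKt k (by omega)
    have t2 : TorZero A (k + 1 + 1) (LocalizedModule (Submonoid.powers g) N ⧸ Rg) M :=
      ih' _ hW (k + 1) (by omega)
    have t3 : TorZero A (k + 1) (LocalizedModule (Submonoid.powers g) N) M :=
      torZero_localizedModule g N M (h1 idx) k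
    have t4 : TorZero A (k + 1) Rg M :=
      torZero_left Rg.subtype Rg.mkQ M (Submodule.injective_subtype _)
        (LinearMap.exact_subtype_mkQ Rg) (Submodule.mkQ_surjective Rg) (k + 1) t2 t3
    have hex : Function.Exact Kt.subtype ℓ.rangeRestrict := by
      intro x
      constructor
      · intro hx
        exact ⟨⟨x, LinearMap.mem_ker.mpr (congrArg Subtype.val hx)⟩, rfl⟩
      · rintro ⟨y, rfl⟩
        exact Subtype.ext (LinearMap.mem_ker.mp y.2)
    exact torZero_mid Kt.subtype ℓ.rangeRestrict M (Submodule.injective_subtype _) hex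
      ℓ.surjective_rangeRestrict (k + 1) t1 t4

/-- **The flatness criterion.** -/
theorem flat_of_tor
    (h1 : ∀ i, Module.Flat (Localization.Away (f i)) (LocalizedModule (Submonoid.powers (f i)) M))
    (h2 : Module.Flat (A ⧸ Ideal.span (Set.range f)) ((A ⧸ Ideal.span (Set.range f)) ⊗[A] M))
    (h3 : ∀ i : ℕ, 1 ≤ i → i ≤ r + 1 → TorZero A i M (A ⧸ Ideal.span (Set.range f))) :
    Module.Flat A M := by
  have h3' : ∀ i, 1 ≤ i → i ≤ r + 1 → TorZero A i (A ⧸ Ideal.span (Set.range f)) M :=
    fun i hi hi' => (torZero_symm i _ _).mp (h3 i hi hi')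
  have hA := fun k (hk : k + 1 ≤ r + 1) (T : Type u) [AddCommGroup T] [Module A T]
      (hT : ∀ (j : Fin r) (t : T), ∃ n : ℕ, f j ^ n • t = 0) =>
    torZero_of_isTors_top M f h2 (r + 1) h3' k hk T hT
  have hall : ∀ (N : Type u) [AddCommGroup N] [Module A N], TorZero A 1 N M := by
    intro N _ _
    have := main_induction M f h1 hA r le_rfl N
      (fun k hk => by rw [Nat.sub_self] at hk; exact absurd hk (Nat.not_lt_zero _)) 0
      (by omega)
    exact this
  rw [Module.Flat.iff_rTensor_injective']
  intro J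
  exact rTensor_injective_of_torZero_one J.subtype J.mkQ M (Submodule.injective_subtype _)
    (LinearMap.exact_subtype_mkQ J) (Submodule.mkQ_surjective J) (hall (A ⧸ J))

end main

end Groth.Agent.FlatCrit
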