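import Mathlib
import Groth.Prelude
import Groth.Agent.Lib.FlatCrit_helper5

/-!
# Local flatness criterion for a nilpotent ideal, and flatness modulo `p^n` (helper4).
APPEND-ONLY once landed.
-/

set_option autoImplicit false
set_option linter.style.haveILetI false

universe u

open TensorProduct

namespace Groth.Agent.Lib.NilpFlatH4

open Groth.Agent.TorLES Groth.Agent.FlatCrit

/-- **Local criterion of flatness, nilpotent case**: if `I^N = 0`, `M/IM` is flat over `A/I` and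
`I ⊗ M → M` is injective, then `M` is flat. -/
theorem flat_of_nilpotent {A : Type u} [CommRing A] (I : Ideal A) (N : ℕ) (hN : I ^ N = ⊥)
    (M : Type u) [AddCommGroup M] [Module A M]
    (hflat : Module.Flat (A ⧸ I) ((A ⧸ I) ⊗[A] M))
    (hinj : Function.Injective ((Submodule.subtype I).rTensor M)) : Module.Flat A M := by
  have h1 : TorZero A 1 (A ⧸ I) M :=
    (torZero_one_iff_left (Submodule.subtype I) (Submodule.mkQ I) M
      (Submodule.injective_subtype _) (LinearMap.exact_subtype_mkQ I)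
      (Submodule.mkQ_surjective I)).mpr hinj
  have hall : ∀ (T : Type u) [AddCommGroup T] [Module A T], TorZero A 1 T M := by
    intro T _ _
    refine torZero_of_killed_pow I M hflat 1 (fun i hi hi' => ?_) 0 le_rfl N T (fun a ha t => ?_)
    · have : i = 1 := le_antisymm hi' hi
      subst this
      exact h1
    · rw [hN] at ha
      rw [(Submodule.mem_bot A).mp ha, zero_smul]
  rw [Module.Flat.iff_rTensor_injective']
  intro J
  exact rTensor_injective_of_torZero_one (Submodule.subtype J) (Submodule.mkQ J) M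
    (Submodule.injective_subtype _)
    (LinearMap.exact_subtype_mkQ J) (Submodule.mkQ_surjective J) (hall (A ⧸ J))

section quot

variable {A : Type u} [CommRing A] (J : Ideal A) (B : Type u) [AddCommGroup B] [Module A B]

theorem exists_one_tmul (m : (A ⧸ J) ⊗[A] B) : ∃ b : B, m = (1 : A ⧸ J) ⊗ₜ[A] b := by
  induction m using TensorProduct.induction_on with
  | zero => exact ⟨0, (TensorProduct.tmul_zero _ _).symm⟩
  | tmul r b =>
    obtain ⟨a, rfl⟩ := Ideal.Quotient.mk_surjective r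
    refine ⟨a • b, ?_⟩
    rw [← TensorProduct.smul_tmul, Algebra.smul_def, mul_one]
    rfl
  | add x y hx hy =>
    obtain ⟨b1, rfl⟩ := hx
    obtain ⟨b2, rfl⟩ := hy
    exact ⟨b1 + b2, (TensorProduct.tmul_add _ _ _).symm⟩

theorem mem_of_one_tmul_eq_zero (c : B) (h : (1 : A ⧸ J) ⊗ₜ[A] c = 0) :
    c ∈ J • (⊤ : Submodule A B) := by
  have h1 := TensorProduct.quotTensorEquivQuotSMul_mk_one_tmul (M := B) J c
  rw [h, map_zero] at h1
  exact (Submodule.Quotient.mk_eq_zero _).mp h1.symm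

theorem one_tmul_smul (a : A) (b : B) :
    (1 : A ⧸ J) ⊗ₜ[A] (a • b) = (Ideal.Quotient.mk J a) • ((1 : A ⧸ J) ⊗ₜ[A] b) := by
  rw [TensorProduct.smul_tmul', smul_eq_mul, mul_one, ← TensorProduct.smul_tmul, Algebra.smul_def,
    mul_one]
  rfl

end quot

section main

variable (p : ℕ) {A B : Type u} [CommRing A] [CommRing B] [Algebra A B]

/-- the `Tor₁` condition. -/
theorem rTensor_injective_mod_pow (hB : IsSMulRegular B (p : B)) (n : ℕ) (hn : 1 ≤ n) :
    Function.Injective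
      ((Submodule.subtype ((Ideal.span {(p : A)}).map
        (Ideal.Quotient.mk (Ideal.span {(p : A)} ^ n)))).rTensor
        ((A ⧸ (Ideal.span {(p : A)} ^ n)) ⊗[A] B)) := by
  set J : Ideal A := Ideal.span {(p : A)} ^ n with hJ
  set I' : Ideal (A ⧸ J) := (Ideal.span {(p : A)}).map (Ideal.Quotient.mk J) with hI'
  set x : A ⧸ J := Ideal.Quotient.mk J (p : A) with hx
  have hxI : x ∈ I' := Ideal.mem_map_of_mem _ (Ideal.mem_span_singleton_self _)
  have hI'span : I' = Ideal.span {x} := by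
    rw [hI', Ideal.map_span, Set.image_singleton]
  have hpn : Ideal.Quotient.mk J ((p : A) ^ n) = 0 :=
    Ideal.Quotient.eq_zero_iff_mem.mpr (Ideal.pow_mem_pow (Ideal.mem_span_singleton_self _) n)
  -- every element is `x ⊗ m`
  have c1 : ∀ z : ↥I' ⊗[A ⧸ J] ((A ⧸ J) ⊗[A] B), ∃ m : (A ⧸ J) ⊗[A] B,
      z = (⟨x, hxI⟩ : ↥I') ⊗ₜ[A ⧸ J] m := by
    intro z
    induction z using TensorProduct.induction_on with
    | zero => exact ⟨0, (TensorProduct.tmul_zero _ _).symm⟩
    | tmul y m' =>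
      obtain ⟨y, hy⟩ := y
      have hy' : y ∈ Ideal.span {x} := hI'span ▸ hy
      obtain ⟨r, hr⟩ := Ideal.mem_span_singleton'.mp hy'
      refine ⟨r • m', ?_⟩
      rw [← TensorProduct.smul_tmul]
      congr 1
      exact Subtype.ext hr.symm
    | add z1 z2 h1 h2 =>
      obtain ⟨m1, rfl⟩ := h1
      obtain ⟨m2, rfl⟩ := h2
      exact ⟨m1 + m2, (TensorProduct.tmul_add _ _ _).symm⟩
  rw [injective_iff_map_eq_zero]
  intro z hz
  obtain ⟨m, rfl⟩ := c1 z
  rw [LinearMap.rTensor_tmul] at hz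
  have hz2 : x • m = 0 := by
    have := congrArg (TensorProduct.lid (A ⧸ J) ((A ⧸ J) ⊗[A] B)) hz
    rwa [TensorProduct.lid_tmul, map_zero] at this
  obtain ⟨b, rfl⟩ := exists_one_tmul J B m
  have hz3 : (1 : A ⧸ J) ⊗ₜ[A] ((p : A) • b) = 0 := by
    rw [one_tmul_smul]
    exact hz2
  have hz4 := mem_of_one_tmul_eq_zero J B _ hz3
  rw [hJ, Ideal.span_singleton_pow, Submodule.ideal_span_singleton_smul,
    Submodule.mem_smul_pointwise_iff_exists] at hz4
  obtain ⟨b', -, hb'⟩ := hz4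
  obtain ⟨k, rfl⟩ : ∃ k, n = k + 1 := ⟨n - 1, by omega⟩
  have hb : b = (p : A) ^ k • b' := by
    apply hB
    show (p : B) • b = (p : B) • ((p : A) ^ k • b')
    have e1 : (p : B) • b = (p : A) • b := by
      rw [Nat.cast_smul_eq_nsmul, Nat.cast_smul_eq_nsmul]
    have e2 : (p : B) • ((p : A) ^ k • b') = (p : A) • ((p : A) ^ k • b') := by
      rw [Nat.cast_smul_eq_nsmul, Nat.cast_smul_eq_nsmul]
    rw [e1, e2, ← hb', pow_succ', mul_smul]
  rw [hb, one_tmul_smul, ← TensorProduct.smul_tmul]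
  have h0 : (Ideal.Quotient.mk J ((p : A) ^ k)) • (⟨x, hxI⟩ : ↥I') = 0 := by
    apply Subtype.ext
    show Ideal.Quotient.mk J ((p : A) ^ k) * x = 0
    rw [hx, ← map_mul, ← pow_succ]
    exact hpn
  rw [h0, TensorProduct.zero_tmul]

end main

section final

variable (p : ℕ) {A B : Type u} [CommRing A] [CommRing B] [Algebra A B]

theorem main19610 (hB : IsSMulRegular B (p : B))
    (h : Module.Flat (A ⧸ Ideal.span {(p : A)}) ((A ⧸ Ideal.span {(p : A)}) ⊗[A] B))
    (n : ℕ) (hn : 1 ≤ n) :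
    Module.Flat (A ⧸ (Ideal.span {(p : A)} ^ n)) ((A ⧸ (Ideal.span {(p : A)} ^ n)) ⊗[A] B) := by
  set 𝔭 : Ideal A := Ideal.span {(p : A)} with h𝔭
  set J : Ideal A := 𝔭 ^ n with hJ
  set I' : Ideal (A ⧸ J) := 𝔭.map (Ideal.Quotient.mk J) with hI'
  have hN : I' ^ n = ⊥ := by
    rw [hI', ← Ideal.map_pow, ← hJ, Ideal.map_quotient_self]
  refine flat_of_nilpotent I' n hN _ ?_ (rTensor_injective_mod_pow p hB n hn)
  have hker : ∀ a ∈ 𝔭, algebraMap A ((A ⧸ J) ⧸ I') a = 0 := by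
    intro a ha
    show Ideal.Quotient.mk I' (Ideal.Quotient.mk J a) = 0
    exact Ideal.Quotient.eq_zero_iff_mem.mpr (Ideal.mem_map_of_mem _ ha)
  letI algS : Algebra (A ⧸ 𝔭) ((A ⧸ J) ⧸ I') :=
    (Ideal.Quotient.lift 𝔭 (algebraMap A ((A ⧸ J) ⧸ I')) hker).toAlgebra
  haveI : IsScalarTower A (A ⧸ 𝔭) ((A ⧸ J) ⧸ I') := IsScalarTower.of_algebraMap_eq (fun a => rfl)
  let e1 := TensorProduct.AlgebraTensorModule.cancelBaseChange A (A ⧸ J) ((A ⧸ J) ⧸ I')
    ((A ⧸ J) ⧸ I') B
  let e2 := TensorProduct.AlgebraTensorModule.cancelBaseChange A (A ⧸ 𝔭) ((A ⧸ J) ⧸ I')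
    ((A ⧸ J) ⧸ I') B
  haveI : Module.Flat (A ⧸ 𝔭) ((A ⧸ 𝔭) ⊗[A] B) := h
  exact Module.Flat.of_linearEquiv (e1.trans e2.symm)

end final

end Groth.Agent.Lib.NilpFlatH4
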