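import Mathlib
import Groth.Agent.Lib.NilpFlat_helper4

/-!
Helper library (helper4): flatness of `T/(p₁^ε₁,…,p_d^ε_d)` over `R/(g₁^ε₁,…,g_d^ε_d)` when the
`p_i` (images of the `g_i`) form a "permutable regular sequence with powers" in `T` and the
statement holds for all exponents `1`.  APPEND-ONLY once landed.
-/

set_option autoImplicit false
set_option linter.unusedVariables false
set_option linter.unusedTactic false
set_option linter.unreachableTactic false
set_option linter.unusedSectionVars false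
set_option linter.style.haveILetI false
set_option maxHeartbeats 800000

universe u

open TensorProduct

namespace Groth.Agent.Lib.RegFlatPowH4

open Groth.Agent.Lib.NilpFlatH4

section quot

theorem one_tmul_eq_zero_of_mem {A : Type u} [CommRing A] (J : Ideal A) (B : Type u)
    [AddCommGroup B] [Module A B] (c : B) (hc : c ∈ J • (⊤ : Submodule A B)) :
    (1 : A ⧸ J) ⊗ₜ[A] c = 0 := by
  apply (TensorProduct.quotTensorEquivQuotSMul B J).injective
  rw [map_zero]
  have h1 := TensorProduct.quotTensorEquivQuotSMul_mk_one_tmul (M := B) J c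
  rw [h1]
  exact (Submodule.Quotient.mk_eq_zero _).mpr hc

end quot

section step

variable {R T : Type u} [CommRing R] [CommRing T] [Algebra R T]

theorem mem_smul_top_iff (K : Ideal R) (t : T) :
    t ∈ K • (⊤ : Submodule R T) ↔ t ∈ K.map (algebraMap R T) := by
  rw [Ideal.smul_top_eq_map]
  exact Submodule.restrictScalars_mem R _ t

/-- the `Tor₁` condition for one step. -/
theorem rTensor_injective_step (K : Ideal R) (x : R) (e : ℕ) (he : 1 ≤ e) (hxe : x ^ e ∈ K)
    (hann : ∀ τ : T, x • τ ∈ K • (⊤ : Submodule R T) →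
      ∃ σ : T, τ - x ^ (e - 1) • σ ∈ K • (⊤ : Submodule R T)) :
    Function.Injective
      ((Submodule.subtype ((Ideal.span {x}).map (Ideal.Quotient.mk K))).rTensor
        ((R ⧸ K) ⊗[R] T)) := by
  set I' : Ideal (R ⧸ K) := (Ideal.span {x}).map (Ideal.Quotient.mk K) with hI'
  set xb : R ⧸ K := Ideal.Quotient.mk K x with hxb
  have hxI : xb ∈ I' := Ideal.mem_map_of_mem _ (Ideal.mem_span_singleton_self _)
  have hI'span : I' = Ideal.span {xb} := by
    rw [hI', Ideal.map_span, Set.image_singleton]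
  have hpn : Ideal.Quotient.mk K (x ^ e) = 0 := Ideal.Quotient.eq_zero_iff_mem.mpr hxe
  have c1 : ∀ z : ↥I' ⊗[R ⧸ K] ((R ⧸ K) ⊗[R] T), ∃ m : (R ⧸ K) ⊗[R] T,
      z = (⟨xb, hxI⟩ : ↥I') ⊗ₜ[R ⧸ K] m := by
    intro z
    induction z using TensorProduct.induction_on with
    | zero => exact ⟨0, (TensorProduct.tmul_zero _ _).symm⟩
    | tmul y m' =>
      obtain ⟨y, hy⟩ := y
      have hy' : y ∈ Ideal.span {xb} := hI'span ▸ hy
      obtain ⟨r, hr⟩ := Ideal.mem_span_singleton'.mp hy'
      refine ⟨r • m', ?_⟩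
      rw [← TensorProduct.smul_tmul]
      congr 1
      exact Subtype.ext hr.symm
    | add z1 z2 h1 h2 =>
      obtain ⟨m1, rfl⟩ := h1
      obtain ⟨m2, rfl⟩ := h2
      exact ⟨m1 + m2, (TensorProduct.tmul_add _ _ _).symm⟩
  rw [injective_iff_map_eq_zero]
  intro z hz
  obtain ⟨m, rfl⟩ := c1 z
  rw [LinearMap.rTensor_tmul] at hz
  have hz2 : xb • m = 0 := by
    have := congrArg (TensorProduct.lid (R ⧸ K) ((R ⧸ K) ⊗[R] T)) hz
    rwa [TensorProduct.lid_tmul, map_zero] at this
  obtain ⟨b, rfl⟩ := exists_one_tmul K T m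
  have hz3 : (1 : R ⧸ K) ⊗ₜ[R] (x • b) = 0 := by
    rw [one_tmul_smul]
    exact hz2
  have hz4 := mem_of_one_tmul_eq_zero K T _ hz3
  obtain ⟨σ, hσ⟩ := hann b hz4
  have hb : (1 : R ⧸ K) ⊗ₜ[R] b =
      (Ideal.Quotient.mk K (x ^ (e - 1))) • ((1 : R ⧸ K) ⊗ₜ[R] σ) := by
    have h1 : (1 : R ⧸ K) ⊗ₜ[R] (b - x ^ (e - 1) • σ) = 0 := one_tmul_eq_zero_of_mem K T _ hσ
    rw [TensorProduct.tmul_sub, sub_eq_zero] at h1
    rw [h1, one_tmul_smul]
  rw [hb, ← TensorProduct.smul_tmul]
  have h0 : (Ideal.Quotient.mk K (x ^ (e - 1))) • (⟨xb, hxI⟩ : ↥I') = 0 := by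
    apply Subtype.ext
    show Ideal.Quotient.mk K (x ^ (e - 1)) * xb = 0
    rw [hxb, ← map_mul, ← pow_succ]
    have he' : e - 1 + 1 = e := by omega
    rw [he']
    exact hpn
  rw [h0, TensorProduct.zero_tmul]

theorem flat_step (K : Ideal R) (x : R) (e : ℕ) (he : 1 ≤ e) (hxe : x ^ e ∈ K)
    (hann : ∀ τ : T, x • τ ∈ K • (⊤ : Submodule R T) →
      ∃ σ : T, τ - x ^ (e - 1) • σ ∈ K • (⊤ : Submodule R T))
    (h : Module.Flat (R ⧸ (K ⊔ Ideal.span {x})) ((R ⧸ (K ⊔ Ideal.span {x})) ⊗[R] T)) :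
    Module.Flat (R ⧸ K) ((R ⧸ K) ⊗[R] T) := by
  set 𝔭 : Ideal R := K ⊔ Ideal.span {x} with h𝔭
  set I' : Ideal (R ⧸ K) := (Ideal.span {x}).map (Ideal.Quotient.mk K) with hI'
  have hpn : Ideal.Quotient.mk K (x ^ e) = 0 := Ideal.Quotient.eq_zero_iff_mem.mpr hxe
  have hN : I' ^ e = ⊥ := by
    rw [hI', ← Ideal.map_pow, Ideal.span_singleton_pow, Ideal.map_span, Set.image_singleton, hpn]
    exact Ideal.span_singleton_eq_bot.mpr rfl
  refine flat_of_nilpotent I' e hN _ ?_ (rTensor_injective_step K x e he hxe hann)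
  have hker : ∀ a ∈ 𝔭, algebraMap R ((R ⧸ K) ⧸ I') a = 0 := by
    intro a ha
    obtain ⟨k, hk, y, hy, rfl⟩ := Submodule.mem_sup.mp ha
    show Ideal.Quotient.mk I' (Ideal.Quotient.mk K (k + y)) = 0
    rw [map_add, Ideal.Quotient.eq_zero_iff_mem.mpr hk, zero_add]
    exact Ideal.Quotient.eq_zero_iff_mem.mpr (Ideal.mem_map_of_mem _ hy)
  letI algS : Algebra (R ⧸ 𝔭) ((R ⧸ K) ⧸ I') :=
    (Ideal.Quotient.lift 𝔭 (algebraMap R ((R ⧸ K) ⧸ I')) hker).toAlgebra
  haveI : IsScalarTower R (R ⧸ 𝔭) ((R ⧸ K) ⧸ I') := IsScalarTower.of_algebraMap_eq (fun a => rfl)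
  let e1 := TensorProduct.AlgebraTensorModule.cancelBaseChange R (R ⧸ K) ((R ⧸ K) ⧸ I')
    ((R ⧸ K) ⧸ I') T
  let e2 := TensorProduct.AlgebraTensorModule.cancelBaseChange R (R ⧸ 𝔭) ((R ⧸ K) ⧸ I')
    ((R ⧸ K) ⧸ I') T
  haveI : Module.Flat (R ⧸ 𝔭) ((R ⧸ 𝔭) ⊗[R] T) := h
  exact Module.Flat.of_linearEquiv (e1.trans e2.symm)

end step

section pow

variable {R T : Type u} [CommRing R] [CommRing T] [Algebra R T]

theorem flat_pow {d : ℕ} (g : Fin d → R) (p : Fin d → T) (hp : ∀ j, algebraMap R T (g j) = p j)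
    (H0 : Module.Flat (R ⧸ Ideal.span (Set.range g)) ((R ⧸ Ideal.span (Set.range g)) ⊗[R] T))
    (H1 : ∀ (ε : Fin d → ℕ) (i : Fin d), (∀ j, 1 ≤ ε j) → ∀ y : T,
        p i * y ∈ Ideal.span ((fun j => p j ^ ε j) ''
          ((Finset.univ.erase i : Finset (Fin d)) : Set (Fin d))) →
        y ∈ Ideal.span ((fun j => p j ^ ε j) ''
          ((Finset.univ.erase i : Finset (Fin d)) : Set (Fin d)))) :
    ∀ (n : ℕ) (ε : Fin d → ℕ), (∀ j, 1 ≤ ε j) → ∑ j, ε j = n →
      Module.Flat (R ⧸ Ideal.span (Set.range fun j => g j ^ ε j))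
        ((R ⧸ Ideal.span (Set.range fun j => g j ^ ε j)) ⊗[R] T) := by
  classical
  intro n
  induction n using Nat.strong_induction_on with
  | _ n ih =>
  intro ε hε hsum
  have key : ∀ K' : Ideal R, ∀ K'' : Ideal R, K' = K'' →
      Module.Flat (R ⧸ K'') ((R ⧸ K'') ⊗[R] T) → Module.Flat (R ⧸ K') ((R ⧸ K') ⊗[R] T) := by
    intro K' K'' hK' hfl
    subst hK'
    exact hfl
  by_cases hall : ∀ j, ε j = 1
  · have hfun : (fun j => g j ^ ε j) = g := by
      funext j
      rw [hall j, pow_one]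
    exact key _ _ (by rw [hfun]) H0
  · obtain ⟨i, hi⟩ := not_forall.mp hall
    have hi2 : 2 ≤ ε i := by
      have := hε i
      omega
    obtain ⟨ε', hε'i, hε'ne⟩ : ∃ ε' : Fin d → ℕ, ε' i = 1 ∧ ∀ j, j ≠ i → ε' j = ε j :=
      ⟨Function.update ε i 1, Function.update_self _ _ _,
        fun j hj => Function.update_of_ne hj _ _⟩
    have hε'1 : ∀ j, 1 ≤ ε' j := by
      intro j
      by_cases hj : j = i
      · rw [hj, hε'i]
      · rw [hε'ne j hj]
        exact hε j
    have hsum' : ∑ j, ε' j < n := by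
      rw [← hsum]
      apply Finset.sum_lt_sum
      · intro j _
        by_cases hj : j = i
        · rw [hj, hε'i]
          omega
        · rw [hε'ne j hj]
      · exact ⟨i, Finset.mem_univ i, by rw [hε'i]; omega⟩
    have hP' := ih _ hsum' ε' hε'1 rfl
    obtain ⟨K, hK⟩ : ∃ K : Ideal R, K = Ideal.span (Set.range fun j => g j ^ ε j) := ⟨_, rfl⟩
    have hKsup : K ⊔ Ideal.span {g i} = Ideal.span (Set.range fun j => g j ^ ε' j) := by
      apply le_antisymm
      · apply sup_le
        · rw [hK, Ideal.span_le]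
          rintro _ ⟨j, rfl⟩
          by_cases hj : j = i
          · have h1 : g j ^ ε j = g j ^ (ε j - 1) * g j ^ ε' j := by
              rw [hj, hε'i, pow_one, ← pow_succ]
              congr 1
              omega
            show g j ^ ε j ∈ _
            rw [h1]
            exact Ideal.mul_mem_left _ _ (Ideal.subset_span ⟨j, rfl⟩)
          · have h1 : g j ^ ε j = g j ^ ε' j := by rw [hε'ne j hj]
            show g j ^ ε j ∈ _
            rw [h1]
            exact Ideal.subset_span ⟨j, rfl⟩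
        · rw [Ideal.span_le, Set.singleton_subset_iff]
          have h2 : g i ^ ε' i ∈ Ideal.span (Set.range fun j => g j ^ ε' j) :=
            Ideal.subset_span ⟨i, rfl⟩
          rw [hε'i, pow_one] at h2
          exact h2
      · rw [Ideal.span_le]
        rintro _ ⟨j, rfl⟩
        by_cases hj : j = i
        · show g j ^ ε' j ∈ _
          rw [hj, hε'i, pow_one]
          exact Ideal.mem_sup_right (Ideal.mem_span_singleton_self _)
        · show g j ^ ε' j ∈ _
          rw [hε'ne j hj, hK]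
          exact Ideal.mem_sup_left (Ideal.subset_span ⟨j, rfl⟩)
    obtain ⟨L, hL⟩ : ∃ L : Ideal T, L = Ideal.span ((fun j => p j ^ ε j) ''
        ((Finset.univ.erase i : Finset (Fin d)) : Set (Fin d))) := ⟨_, rfl⟩
    have hKmap : K.map (algebraMap R T) = Ideal.span (Set.range fun j => p j ^ ε j) := by
      rw [hK, Ideal.map_span]
      congr 1
      ext t
      constructor
      · rintro ⟨_, ⟨j, rfl⟩, rfl⟩
        refine ⟨j, ?_⟩
        show p j ^ ε j = algebraMap R T (g j ^ ε j)
        rw [map_pow, hp]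
      · rintro ⟨j, rfl⟩
        refine ⟨g j ^ ε j, ⟨j, rfl⟩, ?_⟩
        show algebraMap R T (g j ^ ε j) = p j ^ ε j
        rw [map_pow, hp]
    have hsplit : Ideal.span (Set.range fun j => p j ^ ε j) = L ⊔ Ideal.span {p i ^ ε i} := by
      apply le_antisymm
      · rw [Ideal.span_le]
        rintro _ ⟨j, rfl⟩
        by_cases hj : j = i
        · show p j ^ ε j ∈ _
          rw [hj]
          exact Ideal.mem_sup_right (Ideal.mem_span_singleton_self _)
        · rw [hL]
          exact Ideal.mem_sup_left (Ideal.subset_span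
            ⟨j, Finset.mem_coe.mpr (Finset.mem_erase.mpr ⟨hj, Finset.mem_univ j⟩), rfl⟩)
      · apply sup_le
        · rw [hL]
          apply Ideal.span_mono
          rintro _ ⟨j, _, rfl⟩
          exact ⟨j, rfl⟩
        · rw [Ideal.span_le, Set.singleton_subset_iff]
          exact Ideal.subset_span ⟨i, rfl⟩
    have hxe : g i ^ ε i ∈ K := by
      rw [hK]
      exact Ideal.subset_span ⟨i, rfl⟩
    have hann : ∀ τ : T, g i • τ ∈ K • (⊤ : Submodule R T) →
        ∃ σ : T, τ - g i ^ (ε i - 1) • σ ∈ K • (⊤ : Submodule R T) := by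
      intro τ hτ
      rw [mem_smul_top_iff, hKmap, hsplit, Algebra.smul_def, hp] at hτ
      obtain ⟨u, hu, v, hv, huv⟩ := Submodule.mem_sup.mp hτ
      obtain ⟨σ, rfl⟩ := Ideal.mem_span_singleton'.mp hv
      refine ⟨σ, ?_⟩
      rw [mem_smul_top_iff, hKmap, hsplit, Algebra.smul_def, map_pow, hp]
      apply Ideal.mem_sup_left
      rw [hL]
      apply H1 ε i hε
      rw [← hL]
      have e1 : p i * (τ - p i ^ (ε i - 1) * σ) = u := by
        have e2 : p i * p i ^ (ε i - 1) = p i ^ ε i := by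
          rw [← pow_succ']
          congr 1
          omega
        calc p i * (τ - p i ^ (ε i - 1) * σ)
            = p i * τ - (p i * p i ^ (ε i - 1)) * σ := by ring
          _ = (u + σ * p i ^ ε i) - p i ^ ε i * σ := by rw [e2, huv]
          _ = u := by ring
      rw [e1]
      exact hu
    have hfl : Module.Flat (R ⧸ (K ⊔ Ideal.span {g i}))
        ((R ⧸ (K ⊔ Ideal.span {g i})) ⊗[R] T) := key _ _ hKsup hP'
    have := flat_step K (g i) (ε i) (hε i) hxe hann hfl
    exact key _ _ hK.symm this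

end pow

section field

open MvPolynomial

theorem sub_C_mem_span_X {k : Type*} [CommRing k] {σ : Type*} (p : MvPolynomial σ k) :
    p - C (constantCoeff p) ∈ Ideal.span (Set.range (X : σ → MvPolynomial σ k)) := by
  induction p using MvPolynomial.induction_on with
  | C a =>
    rw [constantCoeff_C, sub_self]
    exact Ideal.zero_mem _
  | add f g hf hg =>
    have e : f + g - C (constantCoeff (f + g)) =
        (f - C (constantCoeff f)) + (g - C (constantCoeff g)) := by
      rw [map_add, map_add]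
      ring
    rw [e]
    exact Ideal.add_mem _ hf hg
  | mul_X f i hf =>
    rw [map_mul, constantCoeff_X, mul_zero, map_zero, sub_zero]
    exact Ideal.mul_mem_left _ _ (Ideal.subset_span ⟨i, rfl⟩)

theorem span_X_eq_ker (k : Type*) [CommRing k] (σ : Type*) :
    Ideal.span (Set.range (X : σ → MvPolynomial σ k)) =
      RingHom.ker (constantCoeff : MvPolynomial σ k →+* k) := by
  apply le_antisymm
  · rw [Ideal.span_le]
    rintro _ ⟨i, rfl⟩
    exact RingHom.mem_ker.mpr (constantCoeff_X k i)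
  · intro p hp
    have h := sub_C_mem_span_X p
    rw [RingHom.mem_ker.mp hp, map_zero, sub_zero] at h
    exact h

theorem isField_quot_span_X (k : Type*) [Field k] (σ : Type*) :
    IsField (MvPolynomial σ k ⧸ Ideal.span (Set.range (X : σ → MvPolynomial σ k))) := by
  rw [span_X_eq_ker]
  haveI : (RingHom.ker (constantCoeff : MvPolynomial σ k →+* k)).IsMaximal :=
    RingHom.ker_isMaximal_of_surjective _ (fun a => ⟨C a, constantCoeff_C σ a⟩)
  exact (Ideal.Quotient.maximal_ideal_iff_isField_quotient _).mp inferInstance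

theorem flat_of_isField {F M : Type*} [CommRing F] (hF : IsField F) [AddCommGroup M]
    [Module F M] : Module.Flat F M := by
  letI : Field F := hF.toField
  exact Module.Flat.of_free

/-- flatness over a quotient, transported from the tensor product form to a quotient of `T` by
an ideal equal to the extended ideal, with any compatible algebra structure. -/
theorem flat_quot_of_flat_tensor {R T : Type u} [CommRing R] [CommRing T] [Algebra R T]
    (K : Ideal R) (J : Ideal T) (hJ : J = K.map (algebraMap R T))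
    [alg : Algebra (R ⧸ K) (T ⧸ J)]
    (halg : ∀ r : R, algebraMap (R ⧸ K) (T ⧸ J) (Ideal.Quotient.mk K r) =
      Ideal.Quotient.mk J (algebraMap R T r))
    (h : Module.Flat (R ⧸ K) ((R ⧸ K) ⊗[R] T)) : Module.Flat (R ⧸ K) (T ⧸ J) := by
  subst hJ
  have halg' : alg = Ideal.Quotient.algebraQuotientMapQuotient := by
    apply Algebra.algebra_ext
    intro x
    obtain ⟨r, rfl⟩ := Ideal.Quotient.mk_surjective x
    exact halg r
  subst halg'
  exact Module.Flat.of_linearEquiv
    (Algebra.TensorProduct.quotIdealMapEquivQuotTensor T K).toLinearEquiv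

end field

end Groth.Agent.Lib.RegFlatPowH4
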