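import Mathlib
import Groth.Prelude
import Groth.Agent.Lib.LpullLoc_helper3
import Groth.Agent.Lib.DTorCmp3_helper2

/-!
# The derived pullback of a pseudo-coherent complex is pseudo-coherent (helper3)

* `exists_arrow_rep`: every morphism of `D(O_Y)` is isomorphic to `Q` of a chain map between K-flat
  complexes.
* `Lt_pullCx`: right t-exactness of `f^*` on K-flat complexes.
* `isApprox_Lpull_map`: `Lf^*` preserves `m`-approximations.
* `isPC_Lpull`.
-/

set_option autoImplicit false
set_option linter.all false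
set_option maxHeartbeats 1600000
set_option backward.isDefEq.respectTransparency false
set_option backward.isDefEq.respectTransparency.types false
set_option backward.defeqAttrib.useBackward true

universe u
open CategoryTheory CategoryTheory.Limits AlgebraicGeometry Opposite Pretriangulated ZeroObject

attribute [local instance] HasDerivedCategory.standard

namespace Groth.Agent.Lib.LpullPCH3

open Groth.Agent.Lib.StalkTensH3 Groth.Agent.Lib.LpullExH3 Groth.Agent.Lib.LpullCompH3
  Groth.Agent.Lib.DCohLocLead Groth.Agent.Lib.LpullLocH3 DerivedCategory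

noncomputable section

variable {X Y : Scheme.{u}} (f : X ⟶ Y)

/-- every arrow of the derived category is represented by a chain map of K-flat complexes -/
theorem exists_arrow_rep {A B : DCoh.D Y} (α : A ⟶ B) :
    ∃ (A₀ B₀ : CochainComplex Y.Modules ℤ) (_ : DCoh.IsKFlat A₀) (_ : DCoh.IsKFlat B₀)
      (a : A₀ ⟶ B₀) (u : Q.obj A₀ ≅ A) (v : Q.obj B₀ ≅ B), u.hom ≫ α = Q.map a ≫ v.hom := by
  obtain ⟨B₀, qB, hB₀, hqB⟩ := Groth.Agent.Lib.DTorCmp.exists_kflat_resolution' (Q.objPreimage B)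
  haveI := hqB
  let v : Q.obj B₀ ≅ B := asIso (Q.map qB) ≪≫ Q.objObjPreimageIso B
  let u₁ : Q.obj (Q.objPreimage A) ≅ A := Q.objObjPreimageIso A
  obtain ⟨A₂, s, hs, g, hfac⟩ := DerivedCategory.right_fac (u₁.hom ≫ α ≫ v.inv)
  obtain ⟨A₀, q, hA₀, hq⟩ := Groth.Agent.Lib.DTorCmp.exists_kflat_resolution' A₂
  haveI := hq
  haveI := hs
  refine ⟨A₀, B₀, hA₀, hB₀, q ≫ g, asIso (Q.map q) ≪≫ asIso (Q.map s) ≪≫ u₁, v, ?_⟩
  have h1 : Q.map s ≫ u₁.hom ≫ α = Q.map g ≫ v.hom := by
    have h2 : Q.map s ≫ (u₁.hom ≫ α ≫ v.inv) = Q.map g := by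
      rw [hfac, IsIso.hom_inv_id_assoc]
    rw [← h2]
    simp only [Category.assoc, Iso.inv_hom_id, Category.comp_id]
  show (Q.map q ≫ Q.map s ≫ u₁.hom) ≫ α = Q.map (q ≫ g) ≫ v.hom
  rw [Category.assoc, Category.assoc, h1, Functor.map_comp, Category.assoc]

/-- right t-exactness of `f^*` on K-flat complexes -/
theorem Lt_pullCx (C : CochainComplex Y.Modules ℤ) (hC : DCoh.IsKFlat C) (m : ℤ)
    (h : Lt m (Q.obj C)) : Lt m (Q.obj ((pullCx f).obj C)) := by
  haveI hCle : C.IsLE (m - 1) := by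
    rw [CochainComplex.isLE_iff]
    intro i hi
    rw [HomologicalComplex.exactAt_iff_isZero_homology]
    exact (h i (by omega)).of_iso ((homologyFunctorFactors Y.Modules i).app C).symm
  obtain ⟨K, q, b', hb', hfl, hq⟩ :=
    Groth.Agent.Lib.DTorCmp.exists_bounded_flat_resolution C (m - 1)
  haveI := hb'
  haveI := hq
  haveI : K.IsLE (m - 1) := by
    rw [CochainComplex.isLE_iff]
    intro i hi
    exact (Groth.Agent.Lib.DTorCmp.exactAt_iff_of_quasiIso q i).2
      (C.exactAt_of_isLE (m - 1) i hi)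
  have hfl' := Groth.Agent.Lib.DTorCmp.flat_truncLE K b' hfl (m - 1)
  have hK' : DCoh.IsKFlat (K.truncLE (m - 1)) :=
    isKFlat_of_flat_bounded _ (m - 1)
      (fun i hi => (K.truncLE (m - 1)).isZero_of_isStrictlyLE (m - 1) i hi) hfl'
  have hqi : QuasiIso (K.ιTruncLE (m - 1) ≫ q) := inferInstance
  haveI h2 := quasiIso_pullback_of_isKFlat f hK' hC (K.ιTruncLE (m - 1) ≫ q) hqi
  intro i hi
  have hz : IsZero (((pullCx f).obj (K.truncLE (m - 1))).homology i) := by
    apply Groth.Agent.Lib.DTorCmp.isZero_homology_of_isZero_X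
    exact (Scheme.Modules.pullback f).map_isZero
      ((K.truncLE (m - 1)).isZero_of_isStrictlyLE (m - 1) i (by omega))
  have hz' : IsZero (((pullCx f).obj C).homology i) :=
    IsZero.of_iso hz (asIso (HomologicalComplex.homologyMap
      ((pullCx f).map (K.ιTruncLE (m - 1) ≫ q)) i)).symm
  exact hz'.of_iso ((homologyFunctorFactors X.Modules i).app _)

/-- `Q` of a chain map of K-flat complexes which is an `m`-approximation pulls back to an
`m`-approximation -/
theorem isApprox_Q_pullCx {A₀ B₀ : CochainComplex Y.Modules ℤ} (hA : DCoh.IsKFlat A₀)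
    (hB : DCoh.IsKFlat B₀) (a : A₀ ⟶ B₀) (m : ℤ) (h : IsApprox m (Q.map a)) :
    IsApprox m (Q.map ((pullCx f).map a)) := by
  have hT := DerivedCategory.mappingCone_triangle_distinguished a
  have h1 : Lt m (Q.obj (CochainComplex.mappingCone a)) := Lt_of_isApprox m _ hT h
  have h2 : Lt m (Q.obj ((pullCx f).obj (CochainComplex.mappingCone a))) :=
    Lt_pullCx f _ (isKFlat_mappingCone' hA hB a) m h1
  have h3 : Lt m (Q.obj (CochainComplex.mappingCone ((pullCx f).map a))) :=
    h2.of_iso (Q.mapIso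
      (CochainComplex.mappingCone.mapHomologicalComplexIso a (Scheme.Modules.pullback f)))
  exact isApprox_of_Lt m _
    (DerivedCategory.mappingCone_triangle_distinguished ((pullCx f).map a)) h3

/-- **the derived pullback preserves `m`-approximations** -/
theorem isApprox_Lpull_map [DCoh.HasLpull f] {A B : DCoh.D Y} (α : A ⟶ B) (m : ℤ)
    (h : IsApprox m α) : IsApprox m ((DCoh.Lpull f).map α) := by
  obtain ⟨A₀, B₀, hA, hB, a, u, v, hfac⟩ := exists_arrow_rep α
  have e1 : Q.map a = u.hom ≫ α ≫ v.inv := by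
    rw [← Category.assoc, hfac, Category.assoc, Iso.hom_inv_id, Category.comp_id]
  have h1 : IsApprox m (Q.map a) := by
    rw [e1]
    exact (IsApprox.of_isIso _).comp (h.comp (IsApprox.of_isIso _))
  have h2 := isApprox_Q_pullCx f hA hB a m h1
  have e2 : α = u.inv ≫ Q.map a ≫ v.hom := by
    rw [← hfac, Iso.inv_hom_id_assoc]
  have e3 : (DCoh.Lpull f).map (Q.map a) =
      (LpullQIso f A₀ hA).hom ≫ Q.map ((pullCx f).map a) ≫ (LpullQIso f B₀ hB).inv := by
    rw [← Category.assoc, ← LpullQIso_naturality f hA hB a, Category.assoc, Iso.hom_inv_id,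
      Category.comp_id]
  rw [e2, Functor.map_comp, Functor.map_comp, e3]
  exact (IsApprox.of_isIso _).comp
    (((IsApprox.of_isIso _).comp (h2.comp (IsApprox.of_isIso _))).comp (IsApprox.of_isIso _))

/-- **the derived pullback of an `m`-pseudo-coherent object is `m`-pseudo-coherent** -/
theorem isPC_Lpull [DCoh.HasLpull f] (m : ℤ) (E : DCoh.D Y) (hE : DCoh.IsPseudoCoherentD m E) :
    DCoh.IsPseudoCoherentD m ((DCoh.Lpull f).obj E) := by
  rw [isPC_iff] at hE ⊢
  intro x
  obtain ⟨V, hyV, P, α, hP, hα⟩ := hE (f.base x)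
  haveI := hasLpull (f ∣_ V)
  obtain ⟨θ⟩ := nonempty_restrict_Lpull_iso f V
  refine ⟨f ⁻¹ᵁ V, hyV, (pullCx (f ∣_ V)).obj P,
    (LpullQIso (f ∣_ V) P (isKFlat_of_isStrictlyPerfect hP)).inv ≫
      (DCoh.Lpull (f ∣_ V)).map α ≫ (θ.app E).inv, isStrictlyPerfect_pullCx _ hP, ?_⟩
  exact (IsApprox.of_isIso _).comp
    ((isApprox_Lpull_map (f ∣_ V) α m hα).comp (IsApprox.of_isIso _))

end

end Groth.Agent.Lib.LpullPCH3
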