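import Mathlib
import Groth.Prelude
import Groth.Agent.Lib.PCohFT2_lead
import Groth.Agent.Lib.CohDev16_helper8
import Groth.Agent.Lib.CohOpen2_helper8
import Groth.Agent.Lib.KerFree1_helper8

/-!
# Pseudo-coherence on Noetherian schemes through coherent cohomology (lead)

`main1039`.  APPEND-ONLY once landed.
-/

set_option autoImplicit false
set_option linter.all false
set_option maxHeartbeats 1600000
set_option backward.isDefEq.respectTransparency false
set_option backward.isDefEq.respectTransparency.types false
set_option backward.defeqAttrib.useBackward true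

universe u

open CategoryTheory CategoryTheory.Limits AlgebraicGeometry TopologicalSpace Opposite
open CategoryTheory.Pretriangulated

attribute [local instance] HasDerivedCategory.standard

namespace Groth.Agent.Lib.DCohLocLead

open DerSch Groth.Agent.Lib.TorAmpIdL

noncomputable section

open DerivedCategory

/-! ### Generalities -/

section Gen

variable {Y : Scheme.{u}}

theorem isPC_mono {m n : ℤ} {K : DCoh.D Y} (h : DCoh.IsPseudoCoherentD m K) (hmn : m ≤ n) :
    DCoh.IsPseudoCoherentD n K := by
  rw [isPC_iff] at h ⊢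
  intro x
  obtain ⟨V, hxV, hV⟩ := h x
  exact ⟨V, hxV, hV.mono hmn⟩

/-- If `L` is finite locally free, `π : L ⟶ N` is an epimorphism and the kernel of `π` is
`(m+1)`-pseudo-coherent, then `N` is `m`-pseudo-coherent. -/
theorem isPC_inD_of_ses (m : ℤ) {L N : Y.Modules} (π : L ⟶ N) [Epi π]
    (hL : FlatMod.IsFinLocFree L)
    (hK : DCoh.IsPseudoCoherentD (m + 1) (DCoh.inD Y (kernel π))) :
    DCoh.IsPseudoCoherentD m (DCoh.inD Y N) := by
  let S : ShortComplex Y.Modules := ShortComplex.mk (kernel.ι π) π (kernel.condition π)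
  have hS : S.ShortExact :=
    { exact := S.exact_of_f_is_kernel (kernelIsKernel π)
      mono_f := (inferInstance : Mono (kernel.ι π))
      epi_g := (inferInstance : Epi π) }
  have h₂ : DCoh.IsPseudoCoherentD m (DCoh.inD Y L) := isPC_of_isPerfect (isPerfect_inD L hL) m
  exact isPC_obj₃ m hS.singleTriangle hS.singleTriangle_distinguished hK h₂

theorem isFiniteType_of_epi_qcoh {M N : Y.Modules} [M.IsQuasicoherent] [N.IsQuasicoherent]
    [SheafOfModules.IsFiniteType (R := Y.ringCatSheaf) M] (π : M ⟶ N) [Epi π] :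
    SheafOfModules.IsFiniteType (R := Y.ringCatSheaf) N := by
  refine QCohCrit.isFiniteType_of_sections_cover N
    (fun V : Y.affineOpens => (V : Y.Opens)) (fun V => V.2) CohKerH8.iSup_affineOpens (fun V => ?_)
  haveI := QCohFT.finite_of_isFiniteType M V.2
  have hs : Function.Surjective (π.app V.1) := QCohExact.app_surjective_of_epi π V.2
  let ψ : Γ(M, V.1) →ₗ[Γ(Y, V.1)] Γ(N, V.1) :=
    { toFun := fun x => π.app V.1 x
      map_add' := fun x y => map_add (π.app V.1).hom x y
      map_smul' := fun r m => Scheme.Modules.Hom.app_smul π r m }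
  exact Module.Finite.of_surjective ψ hs

/-- the cohomology of a module placed in degree `b` -/
def singleHomologyIso (b : ℤ) (A : Y.Modules) :
    DCoh.HD ((DerivedCategory.singleFunctor Y.Modules b).obj A) b ≅ A :=
  (homologyFunctorFactors Y.Modules b).app ((CochainComplex.singleFunctor Y.Modules b).obj A) ≪≫
    HomologicalComplex.singleObjHomologySelfIso (ComplexShape.up ℤ) b A

end Gen

/-! ### Coherent modules are pseudo-coherent -/

section Coh

theorem isPC_inD_of_isCoh_aux (k : ℕ) : ∀ (Y : Scheme.{u}) [IsLocallyNoetherian Y]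
    (A : Y.Modules), Coh.IsCoh A → DCoh.IsPseudoCoherentD (1 - (k : ℤ)) (DCoh.inD Y A) := by
  induction k with
  | zero =>
    intro Y _ A hA
    exact isPC_of_Lt _ _ (Lt_inD A _ (by norm_num))
  | succ k ih =>
    intro Y _ A hA
    rw [isPC_iff]
    intro y
    obtain ⟨W, hyW, G, hG⟩ := exists_local_genSec_of_isFT A hA.2 y
    haveI := hG
    haveI : Epi G.π := G.epi
    haveI := hA.1
    have hAW : Coh.IsCoh (A.restrict W.ι) :=
      ⟨inferInstance, CohOpenH8.isFiniteType_restrict W.ι A hA.2⟩
    have hfree : Coh.IsCoh (SheafOfModules.free (R := ((W : Y.Opens) : Scheme.{u}).ringCatSheaf) G.I) :=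
      KerFreeH8.isCoh_of_finLocFree (flf_free G.I)
    have hker : Coh.IsCoh (kernel G.π) := CohKerH8.isCoh_kernel hfree hAW G.π
    have h₁ := ih (W : Scheme.{u}) (kernel G.π) hker
    have e : (1 - ((k + 1 : ℕ) : ℤ)) + 1 = 1 - (k : ℤ) := by push_cast; ring
    have h₁' : DCoh.IsPseudoCoherentD ((1 - ((k + 1 : ℕ) : ℤ)) + 1)
        (DCoh.inD (W : Scheme.{u}) (kernel G.π)) := by
      rw [e]
      exact h₁
    have h3 : DCoh.IsPseudoCoherentD (1 - ((k + 1 : ℕ) : ℤ))
        (DCoh.inD (W : Scheme.{u}) (A.restrict W.ι)) :=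
      isPC_inD_of_ses _ G.π (flf_free G.I) h₁'
    exact pcAt_of_isPC_restrict W hyW (isPC_of_iso (restrictInDIso W.ι A).symm h3)

theorem isPC_inD_of_isCoh {Y : Scheme.{u}} [IsLocallyNoetherian Y] (A : Y.Modules)
    (hA : Coh.IsCoh A) (N : ℤ) : DCoh.IsPseudoCoherentD N (DCoh.inD Y A) := by
  refine isPC_mono (isPC_inD_of_isCoh_aux (1 - N).toNat Y A hA) ?_
  have := Int.self_le_toNat (1 - N)
  omega

theorem isPC_single_of_isCoh {Y : Scheme.{u}} [IsLocallyNoetherian Y] (A : Y.Modules)
    (hA : Coh.IsCoh A) (b N : ℤ) :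
    DCoh.IsPseudoCoherentD N ((DerivedCategory.singleFunctor Y.Modules b).obj A) := by
  have h := isPC_shift (isPC_inD_of_isCoh A hA (N - b)) (-b)
  rw [show N - b - -b = N by ring] at h
  exact isPC_of_iso (((DerivedCategory.singleFunctors Y.Modules).shiftIso (-b) b 0
    (by omega)).app A) h

end Coh

/-! ### Bounded above with coherent cohomology implies pseudo-coherent -/

section Ind

variable {X : Scheme.{u}} [IsLocallyNoetherian X]

theorem isPC_of_coh_aux : ∀ (n : ℕ) (E : DCoh.D X) (b m : ℤ), E.IsLE b → b < m + n →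
    (∀ i : ℤ, m ≤ i → Coh.IsCoh (DCoh.HD E i)) → DCoh.IsPseudoCoherentD m E := by
  intro n
  induction n with
  | zero =>
    intro E b m hb hbm _
    haveI := hb
    exact isPC_of_Lt m E (fun i hi => DerivedCategory.isZero_of_isLE E b i (by simp at hbm; omega))
  | succ n ih =>
    intro E b m hb hbm hcoh
    haveI := hb
    by_cases hlt : b < m
    · exact isPC_of_Lt m E (fun i hi => DerivedCategory.isZero_of_isLE E b i (by omega))
    · have hmb : m ≤ b := by omega
      let A : DCoh.D X := (TStructure.t.truncLT b).obj E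
      let B : DCoh.D X := (TStructure.t.truncGE b).obj E
      let T : Triangle (DCoh.D X) := Triangle.mk ((TStructure.t.truncLTι b).app E)
        ((TStructure.t.truncGEπ b).app E) ((TStructure.t.truncGEδLT b).app E)
      have hT : T ∈ distTriang (DCoh.D X) := TStructure.t.triangleLTGE_distinguished b E
      haveI hAle : A.IsLE (b - 1) := inferInstanceAs
        (TStructure.t.IsLE ((TStructure.t.truncLT b).obj E) (b - 1))
      haveI hBge : B.IsGE b := inferInstanceAs
        (TStructure.t.IsGE ((TStructure.t.truncGE b).obj E) b)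
      -- cohomology of `A`
      have hA_iso : ∀ i : ℤ, i < b → IsIso ((homologyFunctor X.Modules i).map T.mor₁) := by
        intro i hi
        have hm : Mono ((homologyFunctor X.Modules i).map T.mor₁) :=
          ((homologyFunctor X.Modules 0).homologySequence_mono_shift_map_mor₁_iff _ hT (i - 1) i
            (by omega)).2 ((DerivedCategory.isZero_of_isGE B b (i - 1) (by omega)).eq_of_src _ _)
        have he : Epi ((homologyFunctor X.Modules i).map T.mor₁) :=
          ((homologyFunctor X.Modules 0).homologySequence_epi_shift_map_mor₁_iff _ hT i).2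
            ((DerivedCategory.isZero_of_isGE B b i hi).eq_of_tgt _ _)
        exact isIso_of_mono_of_epi _
      have hA_coh : ∀ i : ℤ, m ≤ i → Coh.IsCoh (DCoh.HD A i) := by
        intro i hi
        by_cases hib : i < b
        · haveI := hA_iso i hib
          exact CohDevH8.isCoh_of_iso (asIso ((homologyFunctor X.Modules i).map T.mor₁))
            (hcoh i hi)
        · exact CohDevH8.isCoh_of_isZero (DerivedCategory.isZero_of_isLE A (b - 1) i (by omega))
      have hA_pc : DCoh.IsPseudoCoherentD m A :=
        ih A (b - 1) m hAle (by push_cast at hbm ⊢; omega) hA_coh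
      -- cohomology of `B`
      have hB_epi : ∀ i : ℤ, b ≤ i → Epi ((homologyFunctor X.Modules i).map T.mor₂) := by
        intro i hi
        exact ((homologyFunctor X.Modules 0).homologySequence_epi_shift_map_mor₂_iff _ hT i
          (i + 1) rfl).2
          ((DerivedCategory.isZero_of_isLE A (b - 1) (i + 1) (by omega)).eq_of_tgt _ _)
      haveI hBle : B.IsLE b := by
        rw [DerivedCategory.isLE_iff]
        intro i hi
        haveI := hB_epi i hi.le
        exact IsZero.of_epi ((homologyFunctor X.Modules i).map T.mor₂)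
          (DerivedCategory.isZero_of_isLE E b i hi)
      have hB_iso : IsIso ((homologyFunctor X.Modules b).map T.mor₂) := by
        haveI := hB_epi b le_rfl
        haveI : Mono ((homologyFunctor X.Modules b).map T.mor₂) :=
          ((homologyFunctor X.Modules 0).homologySequence_mono_shift_map_mor₂_iff _ hT b).2
            ((DerivedCategory.isZero_of_isLE A (b - 1) b (by omega)).eq_of_src _ _)
        exact isIso_of_mono_of_epi _
      obtain ⟨A', ⟨eB⟩⟩ := DerivedCategory.exists_iso_singleFunctor_obj_of_isGE_of_isLE B b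
      have hA' : Coh.IsCoh A' := by
        refine CohDevH8.isCoh_of_iso ?_ (hcoh b hmb)
        exact (singleHomologyIso b A').symm ≪≫ (homologyFunctor X.Modules b).mapIso eB.symm ≪≫
          (asIso ((homologyFunctor X.Modules b).map T.mor₂)).symm
      have hB_pc : DCoh.IsPseudoCoherentD m B :=
        isPC_of_iso eB.symm (isPC_single_of_isCoh A' hA' b m)
      exact (main889 m T hT).2.1 hA_pc hB_pc

theorem isPC_of_coh (E : DCoh.D X) (b m : ℤ) (hb : E.IsLE b)
    (hcoh : ∀ i : ℤ, m ≤ i → Coh.IsCoh (DCoh.HD E i)) : DCoh.IsPseudoCoherentD m E := by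
  by_cases hlt : b < m
  · exact isPC_of_coh_aux 0 E b m hb (by simpa using hlt) hcoh
  · refine isPC_of_coh_aux (b - m + 1).toNat E b m hb ?_ hcoh
    have := Int.self_le_toNat (b - m + 1)
    omega

end Ind

/-! ### The main theorem -/

theorem main1039 (X : Scheme.{u}) [IsNoetherian X] (E : DCoh.D X) (hE : DCoh.IsQCohD E)
    (m : ℤ) :
    DCoh.IsPseudoCoherentD m E ↔
      (∀ i : ℤ, m ≤ i → Coh.IsCoh (DCoh.HD E i)) ∧ ∃ b : ℤ, E.IsLE b := by
  constructor
  · intro h
    choose V P hxV hP hiso hπ using exists_local_approx_HD m E h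
    have hcov : ⨆ x, V x = ⊤ := by
      rw [eq_top_iff]
      intro x _
      exact Opens.mem_iSup.mpr ⟨x, hxV x⟩
    have hcohP : ∀ (x : X) (i : ℤ), Coh.IsCoh ((P x).homology i) := fun x i =>
      isCoh_homology (P x) (fun k => KerFreeH8.isCoh_of_finLocFree ((hP x).2 k)) i
    refine ⟨fun i hi => ?_, ?_⟩
    · haveI hq : (DCoh.HD E i).IsQuasicoherent := hE i
      refine ⟨hq, isFiniteType_of_restrict _ V hcov (fun x => ?_)⟩
      by_cases him : m < i
      · obtain ⟨e⟩ := hiso x i him
        exact (CohDevH8.isCoh_of_iso e.symm (hcohP x i)).2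
      · have him' : i = m := by omega
        subst him'
        obtain ⟨π, hπ'⟩ := hπ x
        haveI := hπ'
        haveI := (hcohP x i).1
        haveI := (hcohP x i).2
        haveI : ((Scheme.Modules.restrictFunctor (V x).ι).obj (DCoh.HD E i)).IsQuasicoherent :=
          inferInstanceAs ((DCoh.HD E i).restrict (V x).ι).IsQuasicoherent
        exact isFiniteType_of_epi_qcoh π
    · choose a b hab using fun x => (hP x).1
      obtain ⟨t, ht⟩ := isCompact_univ.elim_finite_subcover
        (fun x : X => ((V x : X.Opens) : Set X))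
        (fun x => (V x).isOpen) (fun y _ => Set.mem_iUnion.2 ⟨y, hxV y⟩)
      have hzero : ∀ i : ℤ, m < i → (∀ x ∈ t, b x < i) → IsZero (DCoh.HD E i) := by
        intro i him hi
        refine isZero_of_isZero_restrict (DCoh.HD E i) (fun x : {x // x ∈ t} => V x.1) ?_ ?_
        · intro y
          have hy := ht (Set.mem_univ y)
          simp only [Set.mem_iUnion] at hy
          obtain ⟨x, hx, hyx⟩ := hy
          exact ⟨⟨x, hx⟩, hyx⟩
        · rintro ⟨x, hx⟩
          obtain ⟨e⟩ := hiso x i him
          exact IsZero.of_iso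
            (isZero_homology_of_isZero_X (P x) i (hab x i (Or.inr (hi x hx)))) e.symm
      refine ⟨|m| + ∑ x ∈ t, |b x|, ?_⟩
      rw [DerivedCategory.isLE_iff]
      intro i hi
      have hm := le_abs_self m
      have hs : 0 ≤ ∑ x ∈ t, |b x| := Finset.sum_nonneg (fun y _ => abs_nonneg _)
      have hm0 := abs_nonneg m
      refine hzero i (by omega) (fun x hx => ?_)
      have h1 : |b x| ≤ ∑ y ∈ t, |b y| :=
        Finset.single_le_sum (f := fun y => |b y|) (fun y _ => abs_nonneg _) hx
      have h2 := le_abs_self (b x)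
      omega
  · rintro ⟨hcoh, b, hb⟩
    exact isPC_of_coh E b m hb hcoh

end

end Groth.Agent.Lib.DCohLocLead
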