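import Groth.Agent.Lib.KFlatSite13_helper2
import Groth.Agent.Lib.KFlatSite4_helper2
import Groth.Agent.Lib.KFlatSite5_helper2
import Groth.Agent.Lib.ModSite8_helper8

/-!
# K-flat complexes on ringed sites, XIV: terms of `Tot (P ⊗ F)` (helper2)
-/

set_option autoImplicit false
universe u
open CategoryTheory Limits ModSite

namespace Groth.Agent.Lib.KFlatSite

variable {C : Type u} [SmallCategory C] {J : GrothendieckTopology C} (O : Sheaf J CommRingCat.{u})

open Groth.Agent.Lib.ModSiteH8 Groth.Agent.Lib.ResSite Groth.Agent.Lib.KFlatGen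
open Groth.Agent.Lib.BifSES

section General

variable {𝒜 : Type*} [Category 𝒜] [Abelian 𝒜] (F : 𝒜 ⥤ 𝒜 ⥤ 𝒜) [F.Additive]
  [∀ X, (F.obj X).Additive]
  [∀ (K₁ K₂ : CochainComplex 𝒜 ℤ), CochainComplex.HasMapBifunctor K₁ K₂ F]

/-- a term of the total complex all of whose summands vanish is zero -/
theorem isZero_mapBifunctor_X (L K : CochainComplex 𝒜 ℤ) (n : ℤ)
    (h : ∀ p q : ℤ, p + q = n → IsZero ((F.obj (L.X p)).obj (K.X q))) :
    IsZero ((HomologicalComplex.mapBifunctor L K F (ComplexShape.up ℤ)).X n) := by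
  rw [IsZero.iff_id_eq_zero]
  apply HomologicalComplex.mapBifunctor.hom_ext
  intro p q hpq
  exact (h p q hpq).eq_of_src _ _

end General

/-- the terms of `Tot (P ⊗ F)` are flat if those of `P` and `F` are -/
theorem isFlat_tensorCx_X (P F : CochainComplex (Mod O) ℤ) (hP : ∀ i, ModSite.IsFlat (P.X i))
    (hF : ∀ i, ModSite.IsFlat (F.X i)) (n : ℤ) :
    ModSite.IsFlat ((((ModSite.tensorCx O).obj P).obj F).X n) :=
  isFlat_of_isColimit' (Discrete.functor
      (fun x : Idx n => ((tensorBi O).obj (P.X x.1.1)).obj (F.X x.1.2)))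
    (fun x => isFlat_tensor O _ _ (hP _) (hF _)) (totCofan (tensorBi O) P F n)
    (isColimitTotCofan (tensorBi O) P F n)

/-- the terms of `Tot (P ⊗ F)` vanish outside the sum of the ranges -/
theorem isZero_tensorCx_X (P F : CochainComplex (Mod O) ℤ) (m n m' n' : ℤ)
    (hPb : ∀ i : ℤ, i < m ∨ n < i → IsZero (P.X i))
    (hFb : ∀ i : ℤ, i < m' ∨ n' < i → IsZero (F.X i)) (i : ℤ) (hi : i < m + m' ∨ n + n' < i) :
    IsZero ((((ModSite.tensorCx O).obj P).obj F).X i) := by
  apply isZero_mapBifunctor_X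
  intro p q hpq
  by_cases hp : p < m ∨ n < p
  · exact Functor.map_isZero ((tensorBi O).flip.obj (F.X q)) (hPb p hp)
  · have hq : q < m' ∨ n' < q := by omega
    exact Functor.map_isZero ((tensorBi O).obj (P.X p)) (hFb q hq)

end Groth.Agent.Lib.KFlatSite
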