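import Groth.Agent.Lib.KFlatGen7_helper2
import Groth.Agent.Lib.KFlatSite8_helper2
import Groth.Prelude.Def_KFlatSite

/-!
# K-flat complexes on ringed sites, XIII: `- ⊗^L K` for a complex `K` is computed by K-flat
complexes (helper2)
-/

set_option autoImplicit false
universe u
open CategoryTheory Limits ModSite

namespace Groth.Agent.Lib.KFlatSite

attribute [local instance] HasDerivedCategory.standard

variable {C : Type u} [SmallCategory C] {J : GrothendieckTopology C} (O : Sheaf J CommRingCat.{u})

open Groth.Agent.Lib.ModSiteH8 Groth.Agent.Lib.ResSite Groth.Agent.Lib.KFlatGen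

/-- the counit of `- ⊗^L K` -/
noncomputable abbrev counitCx (K : CochainComplex (Mod O) ℤ) [ModSite.HasLTensorCx K] :
    DerivedCategory.Q ⋙ ModSite.LTensorCx K ⟶ ModSite.tensorCxQ K :=
  (ModSite.tensorCxQ K).totalLeftDerivedCounit DerivedCategory.Q
    (HomologicalComplex.quasiIso (Mod O) (ComplexShape.up ℤ))

/-- **the counit of `- ⊗^L K` is an isomorphism on K-flat complexes** -/
theorem isIso_counitCx (K X : CochainComplex (Mod O) ℤ) [ModSite.HasLTensorCx K]
    (hX : ModSite.IsKFlat X) : IsIso ((counitCx O K).app X) := by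
  haveI := hasExactColimitsOfShape_filtered O ℕ
  exact KFlatGen.isIso_counitQ_of_isKFlat (tensorBi O) (sigmaNatIso O) (flatClass O) (resClass O)
    K (ModSite.LTensorCx K) (counitCx O K) X ((isKFlat_iff_gen O X).1 hX)

/-- **if `K` is K-flat, the counit of `- ⊗^L K` is an isomorphism** -/
theorem isIso_counitCx_right (K X : CochainComplex (Mod O) ℤ) [ModSite.HasLTensorCx K]
    (hK : ModSite.IsKFlat K) : IsIso ((counitCx O K).app X) :=
  KFlatGen.isIso_counitQ_of_isKFlat_right (tensorBi O) K ((isKFlat_iff_gen O K).1 hK)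
    (ModSite.LTensorCx K) (counitCx O K) X

/-- `X ⊗^L K ≅ Tot (X ⊗ K)` for `X` K-flat -/
noncomputable def ltensorCxIso (K X : CochainComplex (Mod O) ℤ) [ModSite.HasLTensorCx K]
    (hX : ModSite.IsKFlat X) :
    (ModSite.LTensorCx K).obj (DerivedCategory.Q.obj X) ≅
      DerivedCategory.Q.obj (((ModSite.tensorCx O).obj X).obj K) :=
  haveI := isIso_counitCx O K X hX
  asIso ((counitCx O K).app X)

/-- `X ⊗^L K ≅ Tot (X ⊗ K)` for `K` K-flat -/
noncomputable def ltensorCxIso_right (K X : CochainComplex (Mod O) ℤ) [ModSite.HasLTensorCx K]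
    (hK : ModSite.IsKFlat K) :
    (ModSite.LTensorCx K).obj (DerivedCategory.Q.obj X) ≅
      DerivedCategory.Q.obj (((ModSite.tensorCx O).obj X).obj K) :=
  haveI := isIso_counitCx_right O K X hK
  asIso ((counitCx O K).app X)

end Groth.Agent.Lib.KFlatSite
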