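import Mathlib
import Groth.Prelude
import Groth.Agent.Lib.StalkTens3_helper3
import Groth.Agent.Lib.StalkSky4_lead
import Groth.Agent.Lib.PullTens1_helper9

/-!
# Pullback commutes with tensor products of `O`-modules, I: stalks (helper3)

* `pp_homEquiv_app`, `ss_homEquiv_app`: the adjunctions `f^* ⊣ f_*` and `stalk ⊣ sky` on sections.
* `hom_ext_stalk_pullback`, `hom_ext_stalk_pullback_tm`: morphisms out of `(f^* M)_x` are determined
  by their values on germs of pulled-back sections (of pure tensors when `M = A ⊗ B`).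
* `pullbackStalkIso_hom_gmM`: lead's `(f^* M)_x ≅ O_{X,x} ⊗ M_{f x}` sends the germ of the
  pulled-back section of `m` to `1 ⊗ m_{f x}`.
-/

set_option autoImplicit false
set_option linter.all false
set_option maxHeartbeats 1600000
set_option backward.isDefEq.respectTransparency false
set_option backward.isDefEq.respectTransparency.types false
set_option backward.defeqAttrib.useBackward true

universe u
open CategoryTheory CategoryTheory.Limits AlgebraicGeometry Opposite TopologicalSpace TensorProduct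

namespace Groth.Agent.Lib.PullTensIsoH3

open Groth.Agent.Lib.StalkSkyL QcqsLoc MonoidalCategory Groth.Agent.Lib.StalkTensH3 PBH8 QCohExtn

noncomputable section

variable {X Y : Scheme.{u}} (f : X ⟶ Y)

/-- the adjoint of a morphism out of a pullback, on sections -/
lemma pp_homEquiv_app {M : Y.Modules} {F : X.Modules}
    (h : (Scheme.Modules.pullback f).obj M ⟶ F) (V : Y.Opens) (m : Γ(M, V)) :
    ap ((Scheme.Modules.pullbackPushforwardAdjunction f).homEquiv M F h) V m =
      ap h (f ⁻¹ᵁ V) (cUV f M le_rfl m) := by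
  have h1 := Groth.Agent.GrTw.adj_symm_cUV f
    ((Scheme.Modules.pullbackPushforwardAdjunction f).homEquiv M F h) V m
  rw [Equiv.symm_apply_apply] at h1
  exact h1.symm

/-- the adjoint of a morphism out of a stalk, on sections -/
lemma ss_homEquiv_app (x : X) {N : X.Modules} {E : ModuleCat.{u} (X.presheaf.stalk x)}
    (g : (stk x).obj N ⟶ E) (U : X.Opens) (hx : x ∈ U) (s : Γ(N, U)) :
    skyFun x E (ap ((stalkSkyAdj x).homEquiv N E g) U s) ⟨hx⟩ = g.hom (gmM x N U hx s) := by
  have h1 := homEquiv_symm_gmM x N E ((stalkSkyAdj x).homEquiv N E g) U hx s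
  rw [Equiv.symm_apply_apply] at h1
  exact h1.symm

/-- morphisms out of `(f^* M)_x` are determined on germs of pulled-back sections -/
lemma hom_ext_stalk_pullback (x : X) (M : Y.Modules) {E : ModuleCat.{u} (X.presheaf.stalk x)}
    (g₁ g₂ : (stk x).obj ((Scheme.Modules.pullback f).obj M) ⟶ E)
    (h : ∀ (V : Y.Opens) (hx : f.base x ∈ V) (m : Γ(M, V)),
      g₁.hom (gmM x ((Scheme.Modules.pullback f).obj M) (f ⁻¹ᵁ V) hx (cUV f M le_rfl m)) =
        g₂.hom (gmM x ((Scheme.Modules.pullback f).obj M) (f ⁻¹ᵁ V) hx (cUV f M le_rfl m))) :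
    g₁ = g₂ := by
  apply ((stalkSkyAdj x).homEquiv _ _).injective
  apply ((Scheme.Modules.pullbackPushforwardAdjunction f).homEquiv _ _).injective
  apply Scheme.Modules.hom_ext
  intro V
  ext m
  show ap ((Scheme.Modules.pullbackPushforwardAdjunction f).homEquiv M _
      ((stalkSkyAdj x).homEquiv _ E g₁)) V m =
    ap ((Scheme.Modules.pullbackPushforwardAdjunction f).homEquiv M _
      ((stalkSkyAdj x).homEquiv _ E g₂)) V m
  rw [pp_homEquiv_app, pp_homEquiv_app]
  apply sky_ext
  intro k
  rw [ss_homEquiv_app x g₁ (f ⁻¹ᵁ V) k.down, ss_homEquiv_app x g₂ (f ⁻¹ᵁ V) k.down]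
  exact h V k.down m

/-- morphisms out of `(f^* (A ⊗ B))_x` are determined on germs of pulled-back pure tensors -/
lemma hom_ext_stalk_pullback_tm (x : X) (A B : Y.Modules)
    {E : ModuleCat.{u} (X.presheaf.stalk x)}
    (g₁ g₂ : (stk x).obj ((Scheme.Modules.pullback f).obj (CohB1.tensorMod A B)) ⟶ E)
    (h : ∀ (V : Y.Opens) (hx : f.base x ∈ V) (a : Γ(A, V)) (b : Γ(B, V)),
      g₁.hom (gmM x ((Scheme.Modules.pullback f).obj (CohB1.tensorMod A B)) (f ⁻¹ᵁ V) hx
          (cUV f (CohB1.tensorMod A B) le_rfl (tm A B V a b))) =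
        g₂.hom (gmM x ((Scheme.Modules.pullback f).obj (CohB1.tensorMod A B)) (f ⁻¹ᵁ V) hx
          (cUV f (CohB1.tensorMod A B) le_rfl (tm A B V a b)))) :
    g₁ = g₂ := by
  apply ((stalkSkyAdj x).homEquiv _ _).injective
  apply ((Scheme.Modules.pullbackPushforwardAdjunction f).homEquiv _ _).injective
  apply PFormH9.hom_ext_tmul
  intro V a b
  show ap ((Scheme.Modules.pullbackPushforwardAdjunction f).homEquiv (CohB1.tensorMod A B) _
      ((stalkSkyAdj x).homEquiv _ E g₁)) V (tm A B V a b) =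
    ap ((Scheme.Modules.pullbackPushforwardAdjunction f).homEquiv (CohB1.tensorMod A B) _
      ((stalkSkyAdj x).homEquiv _ E g₂)) V (tm A B V a b)
  rw [pp_homEquiv_app, pp_homEquiv_app]
  apply sky_ext
  intro k
  rw [ss_homEquiv_app x g₁ (f ⁻¹ᵁ V) k.down, ss_homEquiv_app x g₂ (f ⁻¹ᵁ V) k.down]
  exact h V k.down a b

/-- lead's isomorphism `(f^* M)_x ≅ O_{X,x} ⊗ M_{f x}` on germs of pulled-back sections -/
lemma pullbackStalkIso_hom_gmM (x : X) (M : Y.Modules) (V : Y.Opens) (hx : f.base x ∈ V)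
    (m : Γ(M, V)) :
    ((pullbackStalkIso f x).hom.app M).hom
        (gmM x ((Scheme.Modules.pullback f).obj M) (f ⁻¹ᵁ V) hx (cUV f M le_rfl m)) =
      ((ModuleCat.extendRestrictScalarsAdj.{u, u, u} (Groth.Agent.Lib.StalkSkyL.stk f x)).unit.app
        ((stk (f.base x)).obj M)).hom (gmM (f.base x) M V hx m) := by
  have key := Adjunction.homEquiv_leftAdjointUniq_hom_app
    ((pullStalkAdj f x).ofNatIsoRight (pushSkyIso f x)) (stalkExtAdj f x) M
  rw [Adjunction.homEquiv_ofNatIsoRight_apply] at key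
  have k2 := congrArg (fun φ => skyFun (f.base x) _ (ap φ V m) ⟨hx⟩) key
  dsimp only at k2
  have lhs : skyFun (f.base x) _ (ap (((pullStalkAdj f x).homEquiv M _
      ((pullbackStalkIso f x).hom.app M)) ≫ (pushSkyIso f x).hom.app _) V m) ⟨hx⟩ =
      ((pullbackStalkIso f x).hom.app M).hom
        (gmM x ((Scheme.Modules.pullback f).obj M) (f ⁻¹ᵁ V) hx (cUV f M le_rfl m)) := by
    have e1 : (pullStalkAdj f x).homEquiv M _ ((pullbackStalkIso f x).hom.app M) =
        (Scheme.Modules.pullbackPushforwardAdjunction f).homEquiv _ _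
          ((stalkSkyAdj x).homEquiv _ _ ((pullbackStalkIso f x).hom.app M)) := by
      unfold pullStalkAdj
      rw [Adjunction.comp_homEquiv]
      rfl
    rw [e1]
    refine Eq.trans ?_ (ss_homEquiv_app x ((pullbackStalkIso f x).hom.app M) (f ⁻¹ᵁ V) hx
      (cUV f M le_rfl m))
    rw [← pp_homEquiv_app]
    rfl
  have rhs : skyFun (f.base x) _ (ap ((stalkExtAdj f x).unit.app M) V m) ⟨hx⟩ =
      ((ModuleCat.extendRestrictScalarsAdj.{u, u, u} (Groth.Agent.Lib.StalkSkyL.stk f x)).unit.app
        ((stk (f.base x)).obj M)).hom (gmM (f.base x) M V hx m) := by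
    have e2 : (stalkExtAdj f x).unit.app M = (stalkSkyAdj (f.base x)).unit.app M ≫
        (skyFunctor (f.base x)).map
          ((ModuleCat.extendRestrictScalarsAdj.{u, u, u}
            (Groth.Agent.Lib.StalkSkyL.stk f x)).unit.app ((stk (f.base x)).obj M)) := by
      unfold stalkExtAdj
      exact Adjunction.comp_unit_app _ _ M
    rw [e2]
    rfl
  exact lhs.symm.trans (k2.trans rhs)

end

end Groth.Agent.Lib.PullTensIsoH3
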