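import Mathlib
import Groth.Prelude
import Groth.Agent.Lib.PullTensIso1_helper3

/-!
# Pullback commutes with tensor products of `O`-modules, II (helper3)

* `stalkPsi`: the stalkwise isomorphism `(f^*(A ⊗ B))_x ≅ (f^*A ⊗ f^*B)_x`.
* `stalk_map_ptHom`: it is the stalk of helper9's comparison map `ptHom`.
* `isIso_ptHom`: `ptHom f A B : f^*(A ⊗ B) ⟶ f^*A ⊗ f^*B` is an isomorphism for ALL modules.
-/

set_option autoImplicit false
set_option linter.all false
set_option maxHeartbeats 1600000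
set_option backward.isDefEq.respectTransparency false
set_option backward.isDefEq.respectTransparency.types false
set_option backward.defeqAttrib.useBackward true

universe u
open CategoryTheory CategoryTheory.Limits AlgebraicGeometry Opposite TopologicalSpace TensorProduct

namespace Groth.Agent.Lib.PullTensIsoH3

open Groth.Agent.Lib.StalkSkyL QcqsLoc MonoidalCategory Groth.Agent.Lib.StalkTensH3 PBH8 QCohExtn
open PullTensH9

noncomputable section

variable {X Y : Scheme.{u}} (f : X ⟶ Y) (x : X)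

/-- the stalk ring map -/
abbrev φx : Y.presheaf.stalk (f.base x) →+* X.presheaf.stalk x :=
  Groth.Agent.Lib.StalkSkyL.stk f x

/-- extension of scalars along the stalk map -/
abbrev ext : ModuleCat.{u} (Y.presheaf.stalk (f.base x)) ⥤ ModuleCat.{u} (X.presheaf.stalk x) :=
  ModuleCat.extendScalars.{u, u, u} (φx f x)

/-- `1 ⊗ n` -/
def ot {N : ModuleCat.{u} (Y.presheaf.stalk (f.base x))} (n : N) : ↑((ext f x).obj N) :=
  ((ModuleCat.extendRestrictScalarsAdj.{u, u, u} (φx f x)).unit.app N).hom n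

lemma ext_map_ot {N N' : ModuleCat.{u} (Y.presheaf.stalk (f.base x))} (g : N ⟶ N') (n : N) :
    ((ext f x).map g).hom (ot f x n) = ot f x (g.hom n) :=
  ModuleCat.ExtendScalars.map_tmul (φx f x) g 1 n

lemma delta_ot (N₁ N₂ : ModuleCat.{u} (Y.presheaf.stalk (f.base x))) (n₁ : N₁) (n₂ : N₂) :
    (Functor.OplaxMonoidal.δ (ext f x) N₁ N₂).hom (ot f x (n₁ ⊗ₜ n₂ : ↑(N₁ ⊗ N₂))) =
      (ot f x n₁ ⊗ₜ ot f x n₂ : ↑((ext f x).obj N₁ ⊗ (ext f x).obj N₂)) :=
  ModuleCat.extendScalars_δ_tmul (φx f x) N₁ N₂ n₁ n₂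

/-- lead's isomorphism on a module -/
abbrev eM (M : Y.Modules) :
    (stk x).obj ((Scheme.Modules.pullback f).obj M) ≅ (ext f x).obj ((stk (f.base x)).obj M) :=
  (pullbackStalkIso f x).app M

lemma eM_hom_gmM (M : Y.Modules) (V : Y.Opens) (hx : f.base x ∈ V) (m : Γ(M, V)) :
    (eM f x M).hom.hom
        (gmM x ((Scheme.Modules.pullback f).obj M) (f ⁻¹ᵁ V) hx (cUV f M le_rfl m)) =
      ot f x (gmM (f.base x) M V hx m) :=
  pullbackStalkIso_hom_gmM f x M V hx m

lemma eM_inv_ot (M : Y.Modules) (V : Y.Opens) (hx : f.base x ∈ V) (m : Γ(M, V)) :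
    (eM f x M).inv.hom (ot f x (gmM (f.base x) M V hx m)) =
      gmM x ((Scheme.Modules.pullback f).obj M) (f ⁻¹ᵁ V) hx (cUV f M le_rfl m) := by
  rw [← eM_hom_gmM]
  have h := (eM f x M).hom_inv_id
  exact congrArg (fun ψ => ψ.hom
    (gmM x ((Scheme.Modules.pullback f).obj M) (f ⁻¹ᵁ V) hx (cUV f M le_rfl m))) h

variable (A B : Y.Modules)

/-- the stalkwise isomorphism `(f^*(A ⊗ B))_x ≅ (f^*A ⊗ f^*B)_x` -/
def stalkPsi :
    (stk x).obj ((Scheme.Modules.pullback f).obj (CohB1.tensorMod A B)) ≅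
      (stk x).obj (CohB1.tensorMod ((Scheme.Modules.pullback f).obj A)
        ((Scheme.Modules.pullback f).obj B)) :=
  eM f x (CohB1.tensorMod A B) ≪≫
    (ext f x).mapIso (stalkTensorIso (f.base x) A B) ≪≫
    (Functor.Monoidal.μIso (ext f x) ((stk (f.base x)).obj A) ((stk (f.base x)).obj B)).symm ≪≫
    ((eM f x A).symm ⊗ᵢ (eM f x B).symm) ≪≫
    (stalkTensorIso x ((Scheme.Modules.pullback f).obj A) ((Scheme.Modules.pullback f).obj B)).symm

/-- the stalk of `ptHom` is `stalkPsi` -/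
theorem stalk_map_ptHom : (stk x).map (ptHom f A B) = (stalkPsi f x A B).hom := by
  apply hom_ext_stalk_pullback_tm
  intro V hx a b
  have lhs : ((stk x).map (ptHom f A B)).hom
      (gmM x ((Scheme.Modules.pullback f).obj (CohB1.tensorMod A B)) (f ⁻¹ᵁ V) hx
        (cUV f (CohB1.tensorMod A B) le_rfl (tm A B V a b))) =
      gT x ((Scheme.Modules.pullback f).obj A) ((Scheme.Modules.pullback f).obj B) (f ⁻¹ᵁ V) hx
        (cUV f A le_rfl a) (cUV f B le_rfl b) := by
    rw [stalkFunctor_map_gmM]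
    exact congrArg (gmM x _ (f ⁻¹ᵁ V) hx) (ptHom_cUV f A B V a b)
  rw [lhs]
  show _ = (theta x ((Scheme.Modules.pullback f).obj A) ((Scheme.Modules.pullback f).obj B)).hom
    (((eM f x A).inv ⊗ₘ (eM f x B).inv).hom
      ((Functor.OplaxMonoidal.δ (ext f x) ((stk (f.base x)).obj A) ((stk (f.base x)).obj B)).hom
        (((ext f x).map (rho (f.base x) A B)).hom
          ((eM f x (CohB1.tensorMod A B)).hom.hom
            (gmM x ((Scheme.Modules.pullback f).obj (CohB1.tensorMod A B)) (f ⁻¹ᵁ V) hx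
              (cUV f (CohB1.tensorMod A B) le_rfl (tm A B V a b)))))))
  rw [eM_hom_gmM, ext_map_ot]
  have h1 : (rho (f.base x) A B).hom (gmM (f.base x) (CohB1.tensorMod A B) V hx (tm A B V a b)) =
      gmM (f.base x) A V hx a ⊗ₜ gmM (f.base x) B V hx b := rho_gT (f.base x) A B V hx a b
  rw [h1, delta_ot, ModuleCat.MonoidalCategory.tensorHom_tmul, eM_inv_ot, eM_inv_ot, theta_tmul,
    pair_self]

/-- **`f^*(A ⊗ B) ⟶ f^*A ⊗ f^*B` is an isomorphism** -/
theorem isIso_ptHom : IsIso (ptHom f A B) := by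
  apply isIso_of_forall_stalk_isIso
  intro x
  have h := stalk_map_ptHom f x A B
  change IsIso ((stk x).map (ptHom f A B))
  rw [h]
  infer_instance

end

end Groth.Agent.Lib.PullTensIsoH3
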