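import Mathlib
import Groth.Prelude
import Groth.Agent.Lib.PullTensIso2_helper3
import Groth.Agent.Lib.PB8_helper8
import Groth.Agent.Lib.TotalMap2_helper2

/-!
# Pullback commutes with tensor products of `O`-modules, III: naturality, complexes (helper3)

* `pullTensIso f A B : f^*(A ⊗ B) ≅ f^*A ⊗ f^*B`, `pullTensNatIso f` (isomorphism of bifunctors).
* `pullCxTensorIso f K L : f^*(Tot (K ⊗ L)) ≅ Tot (f^*K ⊗ f^*L)` for complexes.
-/

set_option autoImplicit false
set_option linter.all false
set_option maxHeartbeats 1600000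
set_option backward.isDefEq.respectTransparency false
set_option backward.isDefEq.respectTransparency.types false
set_option backward.defeqAttrib.useBackward true

universe u
open CategoryTheory CategoryTheory.Limits AlgebraicGeometry Opposite TopologicalSpace TensorProduct

namespace Groth.Agent.Lib.PullTensIsoH3

open Groth.Agent.Lib.StalkSkyL QcqsLoc MonoidalCategory Groth.Agent.Lib.StalkTensH3 PBH8 QCohExtn
open PullTensH9

noncomputable section

variable {X Y : Scheme.{u}} (f : X ⟶ Y)

/-- morphisms out of `f^*(A ⊗ B)` are determined on pulled-back pure tensors -/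
lemma hom_ext_pullback_tm (A B : Y.Modules) {C : X.Modules}
    (h₁ h₂ : (Scheme.Modules.pullback f).obj (CohB1.tensorMod A B) ⟶ C)
    (h : ∀ (V : Y.Opens) (a : Γ(A, V)) (b : Γ(B, V)),
      ap h₁ (f ⁻¹ᵁ V) (cUV f (CohB1.tensorMod A B) le_rfl (tm A B V a b)) =
        ap h₂ (f ⁻¹ᵁ V) (cUV f (CohB1.tensorMod A B) le_rfl (tm A B V a b))) : h₁ = h₂ := by
  apply ((Scheme.Modules.pullbackPushforwardAdjunction f).homEquiv _ _).injective
  apply PFormH9.hom_ext_tmul
  intro V a b
  show ap ((Scheme.Modules.pullbackPushforwardAdjunction f).homEquiv (CohB1.tensorMod A B) _ h₁) V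
      (tm A B V a b) =
    ap ((Scheme.Modules.pullbackPushforwardAdjunction f).homEquiv (CohB1.tensorMod A B) _ h₂) V
      (tm A B V a b)
  rw [pp_homEquiv_app, pp_homEquiv_app]
  exact h V a b

lemma ptHom_cUV' (A B : Y.Modules) (V : Y.Opens) (a : Γ(A, V)) (b : Γ(B, V)) :
    ap (ptHom f A B) (f ⁻¹ᵁ V) (cUV f (CohB1.tensorMod A B) le_rfl (tm A B V a b)) =
      tm ((Scheme.Modules.pullback f).obj A) ((Scheme.Modules.pullback f).obj B) (f ⁻¹ᵁ V)
        (cUV f A le_rfl a) (cUV f B le_rfl b) :=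
  ptHom_cUV f A B V a b

lemma ptHom_natural_left {A A' : Y.Modules} (φ : A ⟶ A') (B : Y.Modules) :
    (Scheme.Modules.pullback f).map ((DCoh.tensorBi.map φ).app B) ≫ ptHom f A' B =
      ptHom f A B ≫ (DCoh.tensorBi.map ((Scheme.Modules.pullback f).map φ)).app
        ((Scheme.Modules.pullback f).obj B) := by
  apply hom_ext_pullback_tm
  intro V a b
  show ap (ptHom f A' B) (f ⁻¹ᵁ V) (ap ((Scheme.Modules.pullback f).map ((DCoh.tensorBi.map φ).app B))
      (f ⁻¹ᵁ V) (cUV f (CohB1.tensorMod A B) le_rfl (tm A B V a b))) =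
    ap ((DCoh.tensorBi.map ((Scheme.Modules.pullback f).map φ)).app
        ((Scheme.Modules.pullback f).obj B)) (f ⁻¹ᵁ V)
      (ap (ptHom f A B) (f ⁻¹ᵁ V) (cUV f (CohB1.tensorMod A B) le_rfl (tm A B V a b)))
  rw [ptHom_cUV']
  have h1 : ap ((Scheme.Modules.pullback f).map ((DCoh.tensorBi.map φ).app B)) (f ⁻¹ᵁ V)
      (cUV f (CohB1.tensorMod A B) le_rfl (tm A B V a b)) =
      cUV f (CohB1.tensorMod A' B) le_rfl (tm A' B V (ap φ V a) b) := by
    refine (cUV_naturality f ((DCoh.tensorBi.map φ).app B) le_rfl (tm A B V a b)).trans ?_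
    exact congrArg (cUV f (CohB1.tensorMod A' B) le_rfl) (tensorBi_map_app_tm φ B V a b)
  rw [h1, ptHom_cUV']
  refine Eq.trans ?_ (tensorBi_map_app_tm ((Scheme.Modules.pullback f).map φ)
    ((Scheme.Modules.pullback f).obj B) (f ⁻¹ᵁ V) (cUV f A le_rfl a) (cUV f B le_rfl b)).symm
  exact congrArg (fun t => tm ((Scheme.Modules.pullback f).obj A')
    ((Scheme.Modules.pullback f).obj B) (f ⁻¹ᵁ V) t (cUV f B le_rfl b))
    (cUV_naturality f φ le_rfl a).symm

lemma ptHom_natural_right (A : Y.Modules) {B B' : Y.Modules} (ψ : B ⟶ B') :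
    (Scheme.Modules.pullback f).map ((DCoh.tensorBi.obj A).map ψ) ≫ ptHom f A B' =
      ptHom f A B ≫ (DCoh.tensorBi.obj ((Scheme.Modules.pullback f).obj A)).map
        ((Scheme.Modules.pullback f).map ψ) := by
  apply hom_ext_pullback_tm
  intro V a b
  show ap (ptHom f A B') (f ⁻¹ᵁ V) (ap ((Scheme.Modules.pullback f).map ((DCoh.tensorBi.obj A).map ψ))
      (f ⁻¹ᵁ V) (cUV f (CohB1.tensorMod A B) le_rfl (tm A B V a b))) =
    ap ((DCoh.tensorBi.obj ((Scheme.Modules.pullback f).obj A)).map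
        ((Scheme.Modules.pullback f).map ψ)) (f ⁻¹ᵁ V)
      (ap (ptHom f A B) (f ⁻¹ᵁ V) (cUV f (CohB1.tensorMod A B) le_rfl (tm A B V a b)))
  rw [ptHom_cUV']
  have h1 : ap ((Scheme.Modules.pullback f).map ((DCoh.tensorBi.obj A).map ψ)) (f ⁻¹ᵁ V)
      (cUV f (CohB1.tensorMod A B) le_rfl (tm A B V a b)) =
      cUV f (CohB1.tensorMod A B') le_rfl (tm A B' V a (ap ψ V b)) := by
    refine (cUV_naturality f ((DCoh.tensorBi.obj A).map ψ) le_rfl (tm A B V a b)).trans ?_
    exact congrArg (cUV f (CohB1.tensorMod A B') le_rfl) (tensorBi_obj_map_tm A ψ V a b)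
  rw [h1, ptHom_cUV']
  refine Eq.trans ?_ (tensorBi_obj_map_tm ((Scheme.Modules.pullback f).obj A)
    ((Scheme.Modules.pullback f).map ψ) (f ⁻¹ᵁ V) (cUV f A le_rfl a) (cUV f B le_rfl b)).symm
  exact congrArg (fun t => tm ((Scheme.Modules.pullback f).obj A)
    ((Scheme.Modules.pullback f).obj B') (f ⁻¹ᵁ V) (cUV f A le_rfl a) t)
    (cUV_naturality f ψ le_rfl b).symm

/-- **`f^*(A ⊗ B) ≅ f^*A ⊗ f^*B`** for all modules -/
def pullTensIso (A B : Y.Modules) :
    (Scheme.Modules.pullback f).obj (CohB1.tensorMod A B) ≅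
      CohB1.tensorMod ((Scheme.Modules.pullback f).obj A) ((Scheme.Modules.pullback f).obj B) :=
  @asIso _ _ _ _ (ptHom f A B) (isIso_ptHom f A B)

/-- **pullback commutes with the tensor product**, as an isomorphism of bifunctors -/
def pullTensNatIso :
    DCoh.tensorBi (X := Y) ⋙ (Functor.whiskeringRight Y.Modules Y.Modules _).obj
        (Scheme.Modules.pullback f) ≅
      Scheme.Modules.pullback f ⋙ DCoh.tensorBi (X := X) ⋙
        (Functor.whiskeringLeft Y.Modules _ _).obj (Scheme.Modules.pullback f) :=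
  NatIso.ofComponents (fun A => NatIso.ofComponents (fun B => pullTensIso f A B)
    (fun ψ => ptHom_natural_right f A ψ)) (fun φ => by
      refine NatTrans.ext (funext fun B => ?_)
      exact ptHom_natural_left f φ B)

instance additive_pullback : (Scheme.Modules.pullback f).Additive :=
  haveI := (Scheme.Modules.pullbackPushforwardAdjunction f).isLeftAdjoint
  haveI := preservesBinaryBiproducts_of_preservesBinaryCoproducts (Scheme.Modules.pullback f)
  Functor.additive_of_preservesBinaryBiproducts _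

instance preservesColimits_pullback :
    PreservesColimitsOfSize.{0, 0} (Scheme.Modules.pullback f) :=
  (Scheme.Modules.pullbackPushforwardAdjunction f).leftAdjoint_preservesColimits

/-- **`f^*(Tot (K ⊗ L)) ≅ Tot (f^*K ⊗ f^*L)`** -/
def pullCxTensorIso (K L : CochainComplex Y.Modules ℤ) :
    ((Scheme.Modules.pullback f).mapHomologicalComplex (ComplexShape.up ℤ)).obj
        (CochainComplex.mapBifunctor K L (DCoh.tensorBi (X := Y))) ≅
      CochainComplex.mapBifunctor
        (((Scheme.Modules.pullback f).mapHomologicalComplex (ComplexShape.up ℤ)).obj K)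
        (((Scheme.Modules.pullback f).mapHomologicalComplex (ComplexShape.up ℤ)).obj L)
        (DCoh.tensorBi (X := X)) :=
  Groth.Agent.Lib.TotalMap.mapIso (DCoh.tensorBi (X := Y)) (Scheme.Modules.pullback f)
    (Scheme.Modules.pullback f) (Scheme.Modules.pullback f) (DCoh.tensorBi (X := X)) K L
    (pullTensNatIso f)

end

end Groth.Agent.Lib.PullTensIsoH3
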