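import Mathlib
import Groth.Prelude
import Groth.Agent.Lib.PullTensIso3_helper3
import Groth.Agent.Lib.LpullLoc_helper3
import Groth.Agent.Lib.KFlatSite13_helper2
import Groth.Agent.Lib.TensorAssoc_helper2
import Groth.Agent.Lib.DTorCmp3_helper2

/-!
# The derived pullback commutes with the derived tensor product (helper3)

`main960`: `Lf^*(K ⊗^L L) ≅ Lf^*K ⊗^L f^*L` for `L` K-flat.
-/

set_option autoImplicit false
set_option linter.all false
set_option maxHeartbeats 1600000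
set_option backward.isDefEq.respectTransparency false
set_option backward.isDefEq.respectTransparency.types false
set_option backward.defeqAttrib.useBackward true

universe u
open CategoryTheory CategoryTheory.Limits AlgebraicGeometry Opposite

attribute [local instance] HasDerivedCategory.standard

namespace Groth.Agent.Lib.LpullTensH3

open Groth.Agent.Lib.StalkTensH3 Groth.Agent.Lib.LpullLocH3 Groth.Agent.Lib.PullTensIsoH3

noncomputable section

/-- `(Q K) ⊗^L L ≅ Q (K ⊗ L)` for `L` K-flat -/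
def ltIsoRight {X : Scheme.{u}} (L K : CochainComplex X.Modules ℤ) [DCoh.HasLTensorCx L]
    (hL : DCoh.IsKFlat L) :
    (DCoh.LTensorCx L).obj (DerivedCategory.Q.obj K) ≅
      DerivedCategory.Q.obj ((DCoh.tensorCx.obj K).obj L) :=
  @Groth.Agent.Lib.KFlatSite.ltensorCxIso_right _ _ _ X.sheaf L K
    (inferInstanceAs (DCoh.HasLTensorCx L)) hL

/-- `(Q K) ⊗^L L ≅ Q (K ⊗ L)` for `K` K-flat -/
def ltIsoLeft {X : Scheme.{u}} (L K : CochainComplex X.Modules ℤ) [DCoh.HasLTensorCx L]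
    (hK : DCoh.IsKFlat K) :
    (DCoh.LTensorCx L).obj (DerivedCategory.Q.obj K) ≅
      DerivedCategory.Q.obj ((DCoh.tensorCx.obj K).obj L) :=
  @Groth.Agent.Lib.KFlatSite.ltensorCxIso _ _ _ X.sheaf L K
    (inferInstanceAs (DCoh.HasLTensorCx L)) hK

theorem isKFlat_tensorCx {X : Scheme.{u}} (K L : CochainComplex X.Modules ℤ)
    (hK : DCoh.IsKFlat K) (hL : DCoh.IsKFlat L) : DCoh.IsKFlat ((DCoh.tensorCx.obj K).obj L) :=
  Groth.Agent.Lib.TensorAssoc.isKFlat_tensorCx X.sheaf K L hK hL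

/-- every object of `D(O_X)` is represented by a K-flat complex -/
theorem exists_kflat_rep {X : Scheme.{u}} (K : DCoh.D X) :
    ∃ P : CochainComplex X.Modules ℤ, DCoh.IsKFlat P ∧ Nonempty (DerivedCategory.Q.obj P ≅ K) := by
  obtain ⟨P, q, hP, hq⟩ :=
    Groth.Agent.Lib.DTorCmp.exists_kflat_resolution' (DerivedCategory.Q.objPreimage K)
  haveI := hq
  exact ⟨P, hP, ⟨asIso (DerivedCategory.Q.map q) ≪≫ DerivedCategory.Q.objObjPreimageIso K⟩⟩

variable {X Y : Scheme.{u}} (f : X ⟶ Y)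

/-- **`Lf^*(K ⊗^L L) ≅ Lf^*K ⊗^L f^*L`** for `L` K-flat -/
theorem main960 [DCoh.HasLpull f] (L : CochainComplex Y.Modules ℤ) (hL : DCoh.IsKFlat L)
    [DCoh.HasLTensorCx L] [DCoh.HasLTensorCx ((pullCx f).obj L)] (K : DCoh.D Y) :
    Nonempty ((DCoh.Lpull f).obj ((DCoh.LTensorCx L).obj K) ≅
      (DCoh.LTensorCx ((pullCx f).obj L)).obj ((DCoh.Lpull f).obj K)) := by
  obtain ⟨P, hP, ⟨eP⟩⟩ := exists_kflat_rep K
  have hPL := isKFlat_tensorCx P L hP hL
  have hfL := isKFlat_pullback f L hL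
  let e1 : (DCoh.Lpull f).obj ((DCoh.LTensorCx L).obj K) ≅
      DerivedCategory.Q.obj ((pullCx f).obj ((DCoh.tensorCx.obj P).obj L)) :=
    (DCoh.Lpull f).mapIso ((DCoh.LTensorCx L).mapIso eP.symm ≪≫ ltIsoRight L P hL) ≪≫
      LpullQIso f _ hPL
  let e2 : DerivedCategory.Q.obj ((pullCx f).obj ((DCoh.tensorCx.obj P).obj L)) ≅
      DerivedCategory.Q.obj ((DCoh.tensorCx.obj ((pullCx f).obj P)).obj ((pullCx f).obj L)) :=
    DerivedCategory.Q.mapIso (pullCxTensorIso f P L)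
  let e3 : (DCoh.LTensorCx ((pullCx f).obj L)).obj ((DCoh.Lpull f).obj K) ≅
      DerivedCategory.Q.obj ((DCoh.tensorCx.obj ((pullCx f).obj P)).obj ((pullCx f).obj L)) :=
    (DCoh.LTensorCx ((pullCx f).obj L)).mapIso
      ((DCoh.Lpull f).mapIso eP.symm ≪≫ LpullQIso f P hP) ≪≫
      ltIsoRight ((pullCx f).obj L) ((pullCx f).obj P) hfL
  exact ⟨e1 ≪≫ e2 ≪≫ e3.symm⟩

end

end Groth.Agent.Lib.LpullTensH3
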