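import Mathlib
import Groth.Prelude
import Groth.Agent.Lib.LpullTens_helper3
import Groth.Agent.Lib.KFlatSite7_helper2

/-!
# Tensor products of K-flat complexes in the derived category; restriction to opens (helper3)

* `nonempty_Q_tensor_iso`: `Q (A ⊗ B) ≅ Q (A' ⊗ B')` if `Q A ≅ Q A'`, `Q B ≅ Q B'` and `B`, `A'` are K-flat.
* `restrictCxTensorIso j K L : (K ⊗ L)|_Y ≅ K|_Y ⊗ L|_Y` for an open immersion `j`.
* `isKFlat_RC`: the restriction of a K-flat complex to an open subscheme is K-flat.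
-/

set_option autoImplicit false
set_option linter.all false
set_option maxHeartbeats 1600000
set_option backward.isDefEq.respectTransparency false
set_option backward.isDefEq.respectTransparency.types false
set_option backward.defeqAttrib.useBackward true

universe u
open CategoryTheory CategoryTheory.Limits AlgebraicGeometry Opposite

attribute [local instance] HasDerivedCategory.standard

namespace Groth.Agent.Lib.PerfTensH3

open Groth.Agent.Lib.StalkTensH3 Groth.Agent.Lib.LpullLocH3 Groth.Agent.Lib.PullTensIsoH3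
  Groth.Agent.Lib.LpullTensH3 Groth.Agent.Lib.DCohLocLead

noncomputable section

variable {X : Scheme.{u}}

/-- `- ⊗ B` preserves quasi-isomorphisms for `B` K-flat -/
lemma quasiIso_tensor_right (B : CochainComplex X.Modules ℤ) (hB : DCoh.IsKFlat B)
    {K L : CochainComplex X.Modules ℤ} (φ : K ⟶ L) [QuasiIso φ] :
    QuasiIso (((DCoh.tensorCx (X := X)).flip.obj B).map φ) :=
  Groth.Agent.Lib.BifCone.quasiIso_mapBifunctorMap₁ (DCoh.tensorBi (X := X)) B
    ((dcoh_isKFlat_iff B).1 hB) φ

/-- `A ⊗ -` preserves quasi-isomorphisms for `A` K-flat -/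
lemma quasiIso_tensor_left (A : CochainComplex X.Modules ℤ) (hA : DCoh.IsKFlat A)
    {K L : CochainComplex X.Modules ℤ} (φ : K ⟶ L) [QuasiIso φ] :
    QuasiIso (((DCoh.tensorCx (X := X)).obj A).map φ) :=
  Groth.Agent.Lib.BifCone.quasiIso_mapBifunctorMap₂ (DCoh.tensorBi (X := X)) A
    (Groth.Agent.Lib.KFlatSite.acyclic_tensor_left_of_isKFlat (O := X.sheaf) A hA) φ

lemma inverts_tensor_right (B : CochainComplex X.Modules ℤ) (hB : DCoh.IsKFlat B) :
    (HomologicalComplex.quasiIso X.Modules (ComplexShape.up ℤ)).IsInvertedBy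
      ((DCoh.tensorCx (X := X)).flip.obj B ⋙ DerivedCategory.Q) := by
  intro K L φ hφ
  haveI : QuasiIso φ := hφ
  haveI := quasiIso_tensor_right B hB φ
  exact inferInstanceAs (IsIso (DerivedCategory.Q.map (((DCoh.tensorCx (X := X)).flip.obj B).map φ)))

lemma inverts_tensor_left (A : CochainComplex X.Modules ℤ) (hA : DCoh.IsKFlat A) :
    (HomologicalComplex.quasiIso X.Modules (ComplexShape.up ℤ)).IsInvertedBy
      ((DCoh.tensorCx (X := X)).obj A ⋙ DerivedCategory.Q) := by
  intro K L φ hφ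
  haveI : QuasiIso φ := hφ
  haveI := quasiIso_tensor_left A hA φ
  exact inferInstanceAs (IsIso (DerivedCategory.Q.map (((DCoh.tensorCx (X := X)).obj A).map φ)))

/-- replacing the first factor -/
theorem nonempty_Q_tensor_iso_left {A A' B : CochainComplex X.Modules ℤ} (hB : DCoh.IsKFlat B)
    (eA : DerivedCategory.Q.obj A ≅ DerivedCategory.Q.obj A') :
    Nonempty (DerivedCategory.Q.obj ((DCoh.tensorCx.obj A).obj B) ≅
      DerivedCategory.Q.obj ((DCoh.tensorCx.obj A').obj B)) := by
  let T := Localization.lift _ (inverts_tensor_right B hB) DerivedCategory.Q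
  let fac : DerivedCategory.Q ⋙ T ≅ (DCoh.tensorCx (X := X)).flip.obj B ⋙ DerivedCategory.Q :=
    Localization.fac _ (inverts_tensor_right B hB) DerivedCategory.Q
  exact ⟨(fac.app A).symm ≪≫ T.mapIso eA ≪≫ fac.app A'⟩

/-- replacing the second factor -/
theorem nonempty_Q_tensor_iso_right {A B B' : CochainComplex X.Modules ℤ} (hA : DCoh.IsKFlat A)
    (eB : DerivedCategory.Q.obj B ≅ DerivedCategory.Q.obj B') :
    Nonempty (DerivedCategory.Q.obj ((DCoh.tensorCx.obj A).obj B) ≅
      DerivedCategory.Q.obj ((DCoh.tensorCx.obj A).obj B')) := by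
  let T := Localization.lift _ (inverts_tensor_left A hA) DerivedCategory.Q
  let fac : DerivedCategory.Q ⋙ T ≅ (DCoh.tensorCx (X := X)).obj A ⋙ DerivedCategory.Q :=
    Localization.fac _ (inverts_tensor_left A hA) DerivedCategory.Q
  exact ⟨(fac.app B).symm ≪≫ T.mapIso eB ≪≫ fac.app B'⟩

/-- **`Q (A ⊗ B) ≅ Q (A' ⊗ B')`** if `Q A ≅ Q A'`, `Q B ≅ Q B'` and `B`, `A'` are K-flat -/
theorem nonempty_Q_tensor_iso {A A' B B' : CochainComplex X.Modules ℤ} (hB : DCoh.IsKFlat B)
    (hA' : DCoh.IsKFlat A') (eA : DerivedCategory.Q.obj A ≅ DerivedCategory.Q.obj A')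
    (eB : DerivedCategory.Q.obj B ≅ DerivedCategory.Q.obj B') :
    Nonempty (DerivedCategory.Q.obj ((DCoh.tensorCx.obj A).obj B) ≅
      DerivedCategory.Q.obj ((DCoh.tensorCx.obj A').obj B')) := by
  obtain ⟨e1⟩ := nonempty_Q_tensor_iso_left hB eA
  obtain ⟨e2⟩ := nonempty_Q_tensor_iso_right hA' eB
  exact ⟨e1 ≪≫ e2⟩

/-! ### restriction to an open subscheme -/

variable {Y : Scheme.{u}} (j : Y ⟶ X) [IsOpenImmersion j]

/-- restriction of complexes is pullback of complexes -/
def rcIsoPullCx : RC j ≅ pullCx j :=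
  NatIso.mapHomologicalComplex (Scheme.Modules.restrictFunctorIsoPullback j) (ComplexShape.up ℤ)

/-- **`(K ⊗ L)|_Y ≅ K|_Y ⊗ L|_Y`** -/
def restrictCxTensorIso (K L : CochainComplex X.Modules ℤ) :
    (RC j).obj ((DCoh.tensorCx.obj K).obj L) ≅
      (DCoh.tensorCx.obj ((RC j).obj K)).obj ((RC j).obj L) :=
  (rcIsoPullCx j).app _ ≪≫ pullCxTensorIso j K L ≪≫
    ((DCoh.tensorCx (X := Y)).mapIso ((rcIsoPullCx j).app K).symm).app _ ≪≫
    ((DCoh.tensorCx (X := Y)).obj ((RC j).obj K)).mapIso ((rcIsoPullCx j).app L).symm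

theorem isKFlat_of_iso {K K' : CochainComplex X.Modules ℤ} (e : K ≅ K') (h : DCoh.IsKFlat K) :
    DCoh.IsKFlat K' := by
  intro L hL i
  exact (h L hL i).of_iso ((HomologicalComplex.homologyFunctor _ _ i).mapIso
    (((DCoh.tensorCx (X := X)).obj L).mapIso e.symm))

/-- the restriction of a K-flat complex to an open subscheme is K-flat -/
theorem isKFlat_RC (K : CochainComplex X.Modules ℤ) (hK : DCoh.IsKFlat K) :
    DCoh.IsKFlat ((RC j).obj K) :=
  isKFlat_of_iso ((rcIsoPullCx j).app K).symm (isKFlat_pullback j K hK)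

end

end Groth.Agent.Lib.PerfTensH3
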