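import Mathlib
import Groth.Prelude
import Groth.Agent.Lib.QCAlgMod_helper9
import Groth.Agent.Lib.QCohExact_helper9

/-!
# The directed system of quasi-coherent submodules of finite type of a quasi-coherent module on a
quasi-compact quasi-separated scheme  (helper5).  APPEND-ONLY once landed.
-/

set_option autoImplicit false
universe u
open CategoryTheory CategoryTheory.Limits AlgebraicGeometry TopologicalSpace Opposite

noncomputable section

namespace Groth.Agent.FTSys

open QcqsLoc QCohExtn

variable {Y : Scheme.{u}} (F : Y.Modules)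

/-- A family of sets of sections is the family of images of a quasi-coherent submodule of finite
type. -/
def IsFTImage (N : ∀ U : Y.Opens, Set Γ(F, U)) : Prop :=
  ∃ (G : Y.Modules) (i : G ⟶ F), Mono i ∧ G.IsQuasicoherent ∧
    SheafOfModules.IsFiniteType (R := Y.ringCatSheaf) G ∧ ∀ U, N U = Set.range (ap i U)

/-- The (small) index set of the quasi-coherent submodules of finite type of `F`. -/
def Idx : Type u := {N : ∀ U : Y.Opens, Set Γ(F, U) // IsFTImage F N}

instance : Preorder (Idx F) where
  le a b := ∀ U, a.1 U ⊆ b.1 U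
  le_refl a U := subset_rfl
  le_trans a b c h1 h2 U := (h1 U).trans (h2 U)

variable {F}

/-- The submodule with index `a`. -/
def sub (a : Idx F) : Y.Modules := a.2.choose

/-- Its inclusion. -/
def inc (a : Idx F) : sub a ⟶ F := a.2.choose_spec.choose

instance mono_inc (a : Idx F) : Mono (inc a) := a.2.choose_spec.choose_spec.1

instance isQuasicoherent_sub (a : Idx F) : (sub a).IsQuasicoherent :=
  a.2.choose_spec.choose_spec.2.1

theorem isFiniteType_sub (a : Idx F) :
    SheafOfModules.IsFiniteType (R := Y.ringCatSheaf) (sub a) :=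
  a.2.choose_spec.choose_spec.2.2.1

theorem range_inc (a : Idx F) (U : Y.Opens) : a.1 U = Set.range (ap (inc a) U) :=
  a.2.choose_spec.choose_spec.2.2.2 U

theorem inc_injective (a : Idx F) (U : Y.Opens) : Function.Injective (ap (inc a) U) :=
  QCohExact.app_injective_of_mono (inc a) U

/-- The index of a quasi-coherent submodule of finite type. -/
def mk (G : Y.Modules) (i : G ⟶ F) [Mono i] [G.IsQuasicoherent]
    (hft : SheafOfModules.IsFiniteType (R := Y.ringCatSheaf) G) : Idx F :=
  ⟨fun U => Set.range (ap i U), G, i, inferInstance, inferInstance, hft, fun _ => rfl⟩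

theorem inc_comp_cokernel {a b : Idx F} (h : a ≤ b) : inc a ≫ cokernel.π (inc b) = 0 := by
  apply Scheme.Modules.hom_ext
  intro W
  ext s
  have h1 : ap (inc a) W s ∈ b.1 W := h W (by rw [range_inc]; exact ⟨s, rfl⟩)
  rw [range_inc] at h1
  obtain ⟨s', hs'⟩ := h1
  show ap (cokernel.π (inc b)) W (ap (inc a) W s) = 0
  rw [← hs']
  have h2 := congrArg (fun t => ap t W s') (cokernel.condition (inc b))
  exact h2

/-- The transition maps. -/
def trans {a b : Idx F} (h : a ≤ b) : sub a ⟶ sub b :=
  Abelian.monoLift (inc b) (inc a) (inc_comp_cokernel h)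

theorem trans_inc {a b : Idx F} (h : a ≤ b) : trans h ≫ inc b = inc a :=
  Abelian.monoLift_comp _ _ _

theorem trans_inc_app {a b : Idx F} (h : a ≤ b) (U : Y.Opens) (s : Γ(sub a, U)) :
    ap (inc b) U (ap (trans h) U s) = ap (inc a) U s :=
  congrArg (fun t => ap t U s) (trans_inc h)

section Qcqs
variable [CompactSpace Y] [QuasiSeparatedSpace Y] [F.IsQuasicoherent]

instance : Nonempty (Idx F) := by
  obtain ⟨G, i, hi, hG, hft, -⟩ := QCAlgMod.exists_ft_sub_family F []
  haveI := hi
  haveI := hG
  exact ⟨mk G i hft⟩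

instance : IsDirected (Idx F) (· ≤ ·) := by
  constructor
  intro a b
  obtain ⟨G, i, hi, hG, hft, h1, h2⟩ :=
    QCAlgMod.exists_sup F (inc a) (inc b) (isFiniteType_sub a) (isFiniteType_sub b)
  haveI := hi
  haveI := hG
  refine ⟨mk G i hft, ?_, ?_⟩
  · intro U x hx
    rw [range_inc] at hx
    obtain ⟨s, rfl⟩ := hx
    obtain ⟨g', hg'⟩ := h1 U s
    exact ⟨g', hg'⟩
  · intro U x hx
    rw [range_inc] at hx
    obtain ⟨s, rfl⟩ := hx
    obtain ⟨g', hg'⟩ := h2 U s
    exact ⟨g', hg'⟩

/-- Every section over an affine open lies in a quasi-coherent submodule of finite type. -/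
theorem exists_mem {U : Y.Opens} (hU : IsAffineOpen U) (s : Γ(F, U)) :
    ∃ (a : Idx F) (g : Γ(sub a, U)), ap (inc a) U g = s := by
  obtain ⟨G, i, hi, hG, hft, g, hg⟩ := SubExt.exists_ft_sub_section F hU s
  haveI := hi
  haveI := hG
  have h1 : s ∈ (mk G i hft).1 U := ⟨g, hg⟩
  rw [range_inc] at h1
  obtain ⟨g', hg'⟩ := h1
  exact ⟨mk G i hft, g', hg'⟩

end Qcqs

end Groth.Agent.FTSys
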