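import Mathlib
import Groth.Prelude
import Groth.Agent.Lib.Tens29_helper8
import Groth.Agent.Lib.Tens36_helper8
import Groth.Agent.Lib.Tens45_helper8
import Groth.Agent.Lib.TensQC3_helper8
import Groth.Agent.Lib.InvTensP2_helper5
import Groth.Agent.Lib.TensInv2_helper9
import Groth.Agent.Lib.FLF7_helper8
import Groth.Agent.Lib.QCohFT_helper9

/-!
# Resolution property from an ample invertible module (lead)
APPEND-ONLY once landed.
-/

set_option autoImplicit false
set_option linter.unusedSimpArgs false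
set_option linter.unusedVariables false
set_option linter.unusedSectionVars false
set_option linter.style.longLine false
set_option linter.unnecessarySimpa false
set_option linter.deprecated false
set_option linter.style.haveILetI false
set_option maxHeartbeats 1600000
set_option backward.isDefEq.respectTransparency false
set_option backward.isDefEq.respectTransparency.types false
set_option backward.defeqAttrib.useBackward true

universe u

noncomputable section

namespace Groth.Agent.Lib.ResPropL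

open CategoryTheory CategoryTheory.Limits AlgebraicGeometry TopologicalSpace Opposite
open QcqsLoc QCohExtn TensH8 FLFH8 Groth.Agent.TensInv

variable {X : Scheme.{u}}

/-- restriction of global sections to `W`. -/
abbrev gres (T : X.Modules) (W : X.Opens) : Γ(T, ⊤) → Γ(T, W) :=
  fun y => rF T (le_top : W ≤ ⊤) y

theorem exists_le_all_finset {ι : Type*} (s : Finset ι) (U : ι → X.Opens) (x : X)
    (hx : ∀ i ∈ s, x ∈ U i) : ∃ V : X.Opens, x ∈ V ∧ ∀ i ∈ s, V ≤ U i := by
  classical
  induction s using Finset.induction_on with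
  | empty => exact ⟨⊤, trivial, fun i hi => by simp at hi⟩
  | insert a s ha ih =>
    obtain ⟨V, hxV, hV⟩ := ih (fun i hi => hx i (Finset.mem_insert_of_mem hi))
    refine ⟨V ⊓ U a, ⟨hxV, hx a (Finset.mem_insert_self a s)⟩, fun i hi => ?_⟩
    rcases Finset.mem_insert.mp hi with rfl | hi'
    · exact inf_le_right
    · exact inf_le_left.trans (hV i hi')

/-- Near points of `V`, every local section of `T` is locally a combination of the global
sections in `Y`. -/
def SpansNear (T : X.Modules) (V : X.Opens) (Y : Set Γ(T, ⊤)) : Prop :=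
  ∀ (W : X.Opens) (z : Γ(T, W)) (y : X), y ∈ W → y ∈ V →
    ∃ (W' : X.Opens) (h' : W' ≤ W), y ∈ W' ∧
      rF T h' z ∈ Submodule.span Γ(X, W') (gres T W' '' Y)

theorem exists_spansNear (T : X.Modules) [T.IsQuasicoherent]
    [SheafOfModules.IsFiniteType (R := X.ringCatSheaf) T]
    (h : SpansNear T ⊤ Set.univ) (x : X) :
    ∃ (V : X.Opens) (Y : Finset Γ(T, ⊤)), x ∈ V ∧ SpansNear T V (Y : Set Γ(T, ⊤)) := by
  classical
  obtain ⟨_, ⟨O, hO : IsAffineOpen O, rfl⟩, hxO, -⟩ :=
    (X.isBasis_affineOpens).exists_subset_of_mem_open (Set.mem_univ x) isOpen_univ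
  haveI := QCohFT.finite_of_isFiniteType T hO
  obtain ⟨G, hG⟩ := (Module.Finite.fg_top (R := Γ(X, O)) (M := Γ(T, O)))
  have key : ∀ g : Γ(T, O), ∃ (Wg : X.Opens) (hg : Wg ≤ O) (Yg : Finset Γ(T, ⊤)), x ∈ Wg ∧
      rF T hg g ∈ Submodule.span Γ(X, Wg) (gres T Wg '' (Yg : Set Γ(T, ⊤))) := by
    intro g
    obtain ⟨Wg, hg, hxWg, hmem⟩ := h O g x hxO trivial
    obtain ⟨S, hS, hmemS⟩ := Submodule.mem_span_finite_of_mem_span hmem
    obtain ⟨Yg, -, hYg⟩ := Finset.subset_set_image_iff.mp hS
    refine ⟨Wg, hg, Yg, hxWg, ?_⟩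
    rw [← Finset.coe_image, hYg]
    exact hmemS
  choose Wg hWgO Yg hxWg hmemg using key
  obtain ⟨V0, hxV0, hV0⟩ := exists_le_all_finset G Wg x (fun g _ => hxWg g)
  refine ⟨V0 ⊓ O, G.biUnion Yg, ⟨hxV0, hxO⟩, ?_⟩
  intro W z y hyW hyV
  have hyO : y ∈ O := hyV.2
  obtain ⟨a, ha1, ha2⟩ := hO.exists_basicOpen_le (V := W ⊓ V0) ⟨y, ⟨hyW, hyV.1⟩⟩ hyO
  have hle : X.basicOpen a ≤ W := ha1.trans inf_le_left
  refine ⟨X.basicOpen a, hle, ha2, ?_⟩
  have h1 := mem_span_res_of_affine T hO (G : Set Γ(T, O)) hG a (rF T hle z)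
  refine (Submodule.span_le.mpr ?_) h1
  rintro _ ⟨g, hgG, rfl⟩
  have hleg : X.basicOpen a ≤ Wg g := (ha1.trans inf_le_right).trans (hV0 g hgG)
  have h2 := rF_mem_span T hleg _ _ (hmemg g)
  rw [rF_rF] at h2
  refine (Submodule.span_mono ?_) h2
  rintro _ ⟨_, ⟨y0, hy0, rfl⟩, rfl⟩
  exact ⟨y0, Finset.mem_coe.mpr (Finset.mem_biUnion.mpr ⟨g, hgG, hy0⟩),
    (rF_rF T hleg le_top y0).symm⟩

theorem exists_finset_spans [CompactSpace X] (T : X.Modules) [T.IsQuasicoherent]
    [SheafOfModules.IsFiniteType (R := X.ringCatSheaf) T]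
    (h : SpansNear T ⊤ Set.univ) :
    ∃ Y : Finset Γ(T, ⊤), SpansNear T ⊤ (Y : Set Γ(T, ⊤)) := by
  classical
  choose V Y hxV hVY using exists_spansNear T h
  obtain ⟨Tf, hTf⟩ := isCompact_univ.elim_finite_subcover (fun x : X => ((V x : X.Opens) : Set X))
    (fun x => (V x).isOpen) (fun y _ => Set.mem_iUnion.mpr ⟨y, hxV y⟩)
  refine ⟨Tf.biUnion Y, fun W z y hyW _ => ?_⟩
  obtain ⟨x, hxTf, hyx⟩ := Set.mem_iUnion₂.mp (hTf (Set.mem_univ y))
  obtain ⟨W', h', hyW', hmem⟩ := hVY x W z y hyW hyx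
  refine ⟨W', h', hyW', Submodule.span_mono (Set.image_mono ?_) hmem⟩
  intro y0 hy0
  exact Finset.mem_coe.mpr (Finset.mem_biUnion.mpr ⟨x, hxTf, hy0⟩)

theorem epi_desc_of_spans (T : X.Modules) {N : ℕ} (y : Fin N → Γ(T, ⊤))
    (h : SpansNear T ⊤ (Set.range y)) :
    Epi (Sigma.desc (fun j => homOfSec T (y j)) : FlatMod.freeMod X N ⟶ T) := by
  apply epi_of_locally_surjective
  intro U m x hx
  obtain ⟨W', h', hxW', hmem⟩ := h U m x hx trivial
  refine ⟨W', h', hxW', ?_⟩
  let lin : Γ(FlatMod.freeMod X N, W') →ₗ[Γ(X, W')] Γ(T, W') :=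
    { toFun := ap (Sigma.desc (fun j => homOfSec T (y j)) : FlatMod.freeMod X N ⟶ T) W'
      map_add' := map_add _
      map_smul' := fun r z => ap_smul _ r z }
  have hle : Submodule.span Γ(X, W') (gres T W' '' Set.range y) ≤ LinearMap.range lin := by
    rw [Submodule.span_le]
    rintro _ ⟨_, ⟨j, rfl⟩, rfl⟩
    refine ⟨ap (Sigma.ι (fun _ : Fin N => Coh.structureModule X) j) W' (toM 1), ?_⟩
    show ap (Sigma.desc (fun j => homOfSec T (y j)) : FlatMod.freeMod X N ⟶ T) W'
      (ap (Sigma.ι (fun _ : Fin N => Coh.structureModule X) j) W' (toM 1)) = gres T W' (y j)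
    rw [← ap_comp', Sigma.ι_desc, ← val_eq_ap, val_homOfSec]
  obtain ⟨z, hz⟩ := hle hmem
  exact ⟨z, hz⟩

/-- A finite locally free module is quasi-coherent of finite type. -/
theorem isCoh_of_finLocFree' {M : X.Modules} (hM : FlatMod.IsFinLocFree M) : Coh.IsCoh M := by
  haveI := isQuasicoherent_of_finLocFree M hM
  haveI := isFinitePresentation_of_finLocFree M hM
  exact ⟨inferInstance, inferInstance⟩

/-- The tensor product of a finite locally free module with an invertible module is finite locally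
free. -/
theorem isFinLocFree_tensorMod_of_isInvertible {E K : X.Modules} (hE : FlatMod.IsFinLocFree E)
    (hK : PicF.IsInvertible K) : FlatMod.IsFinLocFree (CohB1.tensorMod E K) := by
  haveI : E.IsQuasicoherent := isQuasicoherent_of_finLocFree E hE
  haveI : K.IsQuasicoherent := isQuasicoherent_of_isInvertible hK
  haveI : (CohB1.tensorMod E K).IsQuasicoherent := TensQCH8.isQuasicoherent_tensorMod E K
  intro x
  obtain ⟨U, -, hxU, k, hk⟩ := GenLocH8.exists_isGen hK x
  obtain ⟨W, hW, hxW, hWU, r, g, hspan, hli⟩ :=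
    exists_affine_basis_le E hE (x := x) (O := U) hxU
  let ψ : Γ(E, W) →ₗ[Γ(X, W)] Γ(CohB1.tensorMod E K, W) :=
    { toFun := fun t => SecTwist.tmul E K W t (rF K hWU k)
      map_add' := fun t t' => tmul_add_left E K W t t' _
      map_smul' := fun c t => tmul_smul_left E K W c t _ }
  have hinj : Function.Injective ψ := fun t t' h => tmulGen_injective E K hk hWU t t' h
  have hsurj : Function.Surjective ψ := fun y => tmulGen_surjective E K hk hWU y
  refine ⟨W, r, hxW, iso_of_basis (CohB1.tensorMod E K) hW (fun j => ψ (g j)) ?_ ?_⟩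
  · have h1 : Set.range (fun j => ψ (g j)) = ψ '' Set.range g := by
      rw [← Set.range_comp]
      rfl
    rw [h1, ← Submodule.map_span, hspan, Submodule.map_top, LinearMap.range_eq_top]
    exact hsurj
  · exact hli.map' ψ (LinearMap.ker_eq_bot.mpr hinj)

/-- Untwisting: an epimorphism from a finite locally free module onto `F ⊗ M`, `M` invertible,
gives an epimorphism from a finite locally free module onto `F`. -/
theorem exists_epi_of_twist {F M E' : X.Modules} (hM : PicF.IsInvertible M)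
    (hE' : FlatMod.IsFinLocFree E') (p : E' ⟶ CohB1.tensorMod F M) [Epi p] :
    ∃ (E : X.Modules) (π : E ⟶ F), FlatMod.IsFinLocFree E ∧ Epi π := by
  obtain ⟨K', hK', ⟨e⟩⟩ := Groth.Agent.InvTensP.exists_inverse M hM
  haveI : (tR K').IsEquivalence := isEquivalence_tR (swap ⟨e⟩)
  let θ : CohB1.tensorMod (CohB1.tensorMod F M) K' ≅ F :=
    assoc F M K' ≪≫ mapL F e ≪≫ rightUnit F
  refine ⟨(tR K').obj E', (tR K').map p ≫ θ.hom,
    isFinLocFree_tensorMod_of_isInvertible hE' hK', ?_⟩
  haveI : Epi ((tR K').map p) := inferInstance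
  exact epi_comp _ _

/-- **A scheme with an ample invertible module has the resolution property.** -/
theorem hasResolutionProperty_of_isAmple (L : X.Modules) (hL : CohB1.IsAmple L) :
    PerfAux.HasResolutionProperty X := by
  classical
  intro F hFq hFt
  obtain ⟨hinv, hc, hcov⟩ := id hL
  haveI := hc
  haveI : QuasiSeparatedSpace X := quasiSeparatedSpace_of_affine_genLocus hinv hcov
  haveI : F.IsQuasicoherent := hFq
  haveI : SheafOfModules.IsFiniteType (R := X.ringCatSheaf) F := hFt
  have hA : IsAmpleOn L ⊤ := isAmpleOn_of_isAmple hL ⊤ (by simpa using isCompact_univ (X := X))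
  obtain ⟨n₀, hn₀⟩ := exists_gen_of_isAmpleOn hinv F hA
  have hM : PicF.IsInvertible (CohB1.tensorPow L n₀) := isInvertible_tensorPow hinv n₀
  have hMc : Coh.IsCoh (CohB1.tensorPow L n₀) :=
    isCoh_of_finLocFree' (isFinLocFree_of_isInvertible hM)
  haveI : (CohB1.tensorPow L n₀).IsQuasicoherent := hMc.1
  haveI : (CohB1.tensorMod F (CohB1.tensorPow L n₀)).IsQuasicoherent :=
    TensQCH8.isQuasicoherent_tensorMod F _
  haveI : SheafOfModules.IsFiniteType (R := X.ringCatSheaf)
      (CohB1.tensorMod F (CohB1.tensorPow L n₀)) :=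
    TensQCH8.isFiniteType_tensorMod F _ hFt hMc.2
  have hspan : SpansNear (CohB1.tensorMod F (CohB1.tensorPow L n₀)) ⊤ Set.univ := by
    intro W z y hyW _
    obtain ⟨W', h', hyW', hmem⟩ :=
      hn₀ n₀ le_rfl (TFrame.tensor (Frame.pow L n₀) F) (le_top : W ≤ ⊤) z y hyW
    refine ⟨W', h', hyW', ?_⟩
    rw [Set.image_univ]
    exact hmem
  obtain ⟨Y, hY⟩ := exists_finset_spans _ hspan
  let yy : Fin Y.card → Γ(CohB1.tensorMod F (CohB1.tensorPow L n₀), ⊤) :=
    fun j => (Y.equivFin.symm j).1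
  have hrange : Set.range yy = (Y : Set _) := by
    ext t
    constructor
    · rintro ⟨j, rfl⟩
      exact (Y.equivFin.symm j).2
    · intro ht
      exact ⟨Y.equivFin ⟨t, ht⟩, by simp [yy]⟩
  haveI := epi_desc_of_spans _ yy (by rw [hrange]; exact hY)
  exact exists_epi_of_twist hM (isFinLocFree_of_iso_free (Iso.refl _))
    (Sigma.desc (fun j => homOfSec _ (yy j)))

end Groth.Agent.Lib.ResPropL
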