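import Mathlib
import Groth.Prelude
import Groth.Agent.Lib.ResProp_lead
import Groth.Agent.Lib.FTSys1_helper5
import Groth.Agent.Lib.PB9_helper8
import Groth.Agent.Lib.QCohCrit_helper9
import Groth.Agent.Lib.FLF7_helper8
import Groth.Agent.Lib.Tens38_helper8
import Groth.Agent.Lib.ConeSP_lead

/-!
# Resolution property: affine morphisms, relatively ample modules, ample families (lead)
APPEND-ONLY once landed.
-/

set_option autoImplicit false
set_option linter.unusedSimpArgs false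
set_option linter.unusedVariables false
set_option linter.unusedSectionVars false
set_option linter.style.longLine false
set_option linter.unnecessarySimpa false
set_option linter.deprecated false
set_option linter.style.haveILetI false
set_option maxHeartbeats 1600000
set_option backward.isDefEq.respectTransparency false
set_option backward.isDefEq.respectTransparency.types false
set_option backward.defeqAttrib.useBackward true

universe u

noncomputable section

namespace Groth.Agent.Lib.ResPropL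

open CategoryTheory CategoryTheory.Limits AlgebraicGeometry TopologicalSpace Opposite
open QcqsLoc QCohExtn TensH8 FLFH8 GenLocH8 PBH8 Groth.Agent.TensInv

/-! ## The comparison map `f^* G ⟶ F` of a map `G ⟶ f_* F` -/

section Push

variable {X Y : Scheme.{u}} (f : X ⟶ Y)

/-- the map `f^* G ⟶ F` attached to `θ : G ⟶ f_* F`. -/
def adjMap {G : Y.Modules} {F : X.Modules} (θ : G ⟶ (Scheme.Modules.pushforward f).obj F) :
    (Scheme.Modules.pullback f).obj G ⟶ F :=
  (Scheme.Modules.pullback f).map θ ≫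
    (Scheme.Modules.pullbackPushforwardAdjunction f).counit.app F

theorem ap_adjMap_cUV {G : Y.Modules} {F : X.Modules}
    (θ : G ⟶ (Scheme.Modules.pushforward f).obj F) {W : X.Opens} {V : Y.Opens}
    (h : W ≤ f ⁻¹ᵁ V) (g : Γ(G, V)) :
    ap (adjMap f θ) W (cUV f G h g) = rF F h (show Γ(F, f ⁻¹ᵁ V) from ap θ V g) := by
  have h1 : ap ((Scheme.Modules.pullback f).map θ) W (cUV f G h g) =
      cUV f ((Scheme.Modules.pushforward f).obj F) h (ap θ V g) := cUV_naturality f θ h g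
  show ap ((Scheme.Modules.pullbackPushforwardAdjunction f).counit.app F) W
      (ap ((Scheme.Modules.pullback f).map θ) W (cUV f G h g)) = _
  rw [h1]
  exact counit_cUV f F h _

/-- If, near each point, `F` is spanned by restrictions of sections over some `f⁻¹ V` which lie in
the image of `θ`, then `adjMap f θ` is an epimorphism. -/
theorem epi_adjMap_of_span {G : Y.Modules} {F : X.Modules}
    (θ : G ⟶ (Scheme.Modules.pushforward f).obj F)
    (h : ∀ (U : X.Opens) (m : Γ(F, U)) (x : X), x ∈ U →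
      ∃ (V : Y.Opens) (W' : X.Opens) (h' : W' ≤ U) (hV : W' ≤ f ⁻¹ᵁ V), x ∈ W' ∧
        rF F h' m ∈ Submodule.span Γ(X, W')
          (Set.range fun g : Γ(G, V) => rF F hV (show Γ(F, f ⁻¹ᵁ V) from ap θ V g))) :
    Epi (adjMap f θ) := by
  apply epi_of_locally_surjective
  intro U m x hx
  obtain ⟨V, W', h', hV, hxW', hmem⟩ := h U m x hx
  refine ⟨W', h', hxW', ?_⟩
  let lin : Γ((Scheme.Modules.pullback f).obj G, W') →ₗ[Γ(X, W')] Γ(F, W') :=
    { toFun := ap (adjMap f θ) W'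
      map_add' := map_add _
      map_smul' := fun r z => ap_smul (adjMap f θ) r z }
  have hle : Submodule.span Γ(X, W')
      (Set.range fun g : Γ(G, V) => rF F hV (show Γ(F, f ⁻¹ᵁ V) from ap θ V g)) ≤
      LinearMap.range lin := by
    rw [Submodule.span_le]
    rintro _ ⟨g, rfl⟩
    exact ⟨cUV f G hV g, ap_adjMap_cUV f θ hV g⟩
  obtain ⟨z, hz⟩ := hle hmem
  exact ⟨z, hz⟩

end Push

/-! ## Finite affine covers, finitely many sections in one submodule of finite type -/

theorem exists_finite_affine_cover (Y : Scheme.{u}) [CompactSpace Y] :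
    ∃ Tf : Finset Y.affineOpens, ∀ y : Y, ∃ V ∈ Tf, y ∈ V.1 := by
  have key : ∀ y : Y, ∃ V : Y.affineOpens, y ∈ V.1 := fun y => by
    obtain ⟨_, ⟨V, hV, rfl⟩, hyV, -⟩ := Y.isBasis_affineOpens.exists_subset_of_mem_open
      (Set.mem_univ y) isOpen_univ
    exact ⟨⟨V, hV⟩, hyV⟩
  choose V hV using key
  obtain ⟨Tf, hTf⟩ := isCompact_univ.elim_finite_subcover
    (fun V : Y.affineOpens => ((V.1 : Y.Opens) : Set Y)) (fun V => V.1.isOpen)
    (fun y _ => Set.mem_iUnion.mpr ⟨V y, hV y⟩)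
  refine ⟨Tf, fun y => ?_⟩
  obtain ⟨V', hV'T, hyV'⟩ := Set.mem_iUnion₂.mp (hTf (Set.mem_univ y))
  exact ⟨V', hV'T, hyV'⟩

theorem exists_idx_of_finite {Y : Scheme.{u}} [CompactSpace Y] [QuasiSeparatedSpace Y]
    (G : Y.Modules) [G.IsQuasicoherent] {κ : Type u} (s : Finset κ) (V : κ → Y.affineOpens)
    (g : ∀ k, Γ(G, (V k).1)) :
    ∃ a : Groth.Agent.FTSys.Idx G, ∀ k ∈ s, ∃ g' : Γ(Groth.Agent.FTSys.sub a, (V k).1),
      ap (Groth.Agent.FTSys.inc a) (V k).1 g' = g k := by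
  classical
  have key : ∀ k, ∃ (a : Groth.Agent.FTSys.Idx G) (g' : Γ(Groth.Agent.FTSys.sub a, (V k).1)),
      ap (Groth.Agent.FTSys.inc a) (V k).1 g' = g k :=
    fun k => Groth.Agent.FTSys.exists_mem (V k).2 (g k)
  choose idx g' hg' using key
  obtain ⟨a, ha⟩ := Finset.exists_le (s.image idx)
  refine ⟨a, fun k hk => ?_⟩
  have hle : idx k ≤ a := ha _ (Finset.mem_image_of_mem idx hk)
  have h1 : g k ∈ (idx k).1 (V k).1 := by
    rw [Groth.Agent.FTSys.range_inc]
    exact ⟨g' k, hg' k⟩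
  have h2 := hle (V k).1 h1
  rw [Groth.Agent.FTSys.range_inc] at h2
  exact h2

/-! ## Affine morphisms -/

/-- **The resolution property ascends along affine morphisms** (target quasi-compact and
quasi-separated). -/
theorem hasResolutionProperty_of_isAffineHom {X Y : Scheme.{u}} (f : X ⟶ Y) [IsAffineHom f]
    [CompactSpace Y] [QuasiSeparatedSpace Y] (hY : PerfAux.HasResolutionProperty Y) :
    PerfAux.HasResolutionProperty X := by
  classical
  intro F hFq hFt
  haveI : F.IsQuasicoherent := hFq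
  haveI : SheafOfModules.IsFiniteType (R := X.ringCatSheaf) F := hFt
  haveI : ((Scheme.Modules.pushforward f).obj F).IsQuasicoherent :=
    QCohCrit.isQuasicoherent_pushforward f F
  obtain ⟨Tf, hTf⟩ := exists_finite_affine_cover Y
  have hfin : ∀ V : Y.affineOpens, ∃ S : Finset Γ(F, f ⁻¹ᵁ V.1),
      Submodule.span Γ(X, f ⁻¹ᵁ V.1) (S : Set Γ(F, f ⁻¹ᵁ V.1)) = ⊤ := by
    intro V
    haveI := QCohFT.finite_of_isFiniteType F (V.2.preimage f)
    exact Module.Finite.fg_top
  choose Gen hGen using hfin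
  obtain ⟨a, ha⟩ := exists_idx_of_finite ((Scheme.Modules.pushforward f).obj F)
    (κ := Σ V : Y.affineOpens, Γ(F, f ⁻¹ᵁ V.1)) (Tf.sigma Gen) (fun k => k.1)
    (fun k => (show Γ((Scheme.Modules.pushforward f).obj F, k.1.1) from k.2))
  obtain ⟨E, e, hE, he⟩ := hY (Groth.Agent.FTSys.sub a) (Groth.Agent.FTSys.isQuasicoherent_sub a)
    (Groth.Agent.FTSys.isFiniteType_sub a)
  haveI := he
  haveI : Epi (adjMap f (Groth.Agent.FTSys.inc a)) := by
    apply epi_adjMap_of_span
    intro U m x hx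
    obtain ⟨V, hVT, hxV⟩ := hTf (f x)
    have hUV : IsAffineOpen (f ⁻¹ᵁ V.1) := V.2.preimage f
    obtain ⟨b, hb1, hb2⟩ := hUV.exists_basicOpen_le (V := U ⊓ f ⁻¹ᵁ V.1) ⟨x, ⟨hx, hxV⟩⟩ hxV
    have hle : X.basicOpen b ≤ U := hb1.trans inf_le_left
    refine ⟨V.1, X.basicOpen b, hle, X.basicOpen_le b, hb2, ?_⟩
    have h1 := mem_span_res_of_affine F hUV ((Gen V : Finset _) : Set Γ(F, f ⁻¹ᵁ V.1)) (hGen V) b
      (rF F hle m)
    refine (Submodule.span_mono ?_) h1
    rintro _ ⟨g, hg, rfl⟩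
    obtain ⟨g'', hg''⟩ := ha ⟨V, g⟩ (Finset.mem_sigma.mpr ⟨hVT, hg⟩)
    exact ⟨g'', congrArg (fun t => rF F (X.basicOpen_le b) t) hg''⟩
  haveI : Epi ((Scheme.Modules.pullback f).map e) := by
    haveI := Functor.preservesEpimorphisms_of_adjunction
      (Scheme.Modules.pullbackPushforwardAdjunction f)
    infer_instance
  exact ⟨(Scheme.Modules.pullback f).obj E,
    (Scheme.Modules.pullback f).map e ≫ adjMap f (Groth.Agent.FTSys.inc a),
    isFinLocFree_pullback f hE, epi_comp _ _⟩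

/-! ## Spanning by sections over a fixed open -/

section SpanOn

variable {X : Scheme.{u}}

/-- Near points of `A`, every section of `T` over an open inside `O` is locally a combination of
restrictions of the sections in `Y ⊆ Γ(T, O)`. -/
def SpansNearOn (T : X.Modules) (O A : X.Opens) (Y : Set Γ(T, O)) : Prop :=
  ∀ (W : X.Opens) (hW : W ≤ O) (z : Γ(T, W)) (y : X), y ∈ W → y ∈ A →
    ∃ (W' : X.Opens) (h' : W' ≤ W), y ∈ W' ∧
      rF T h' z ∈ Submodule.span Γ(X, W') ((rF T (h'.trans hW)) '' Y)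

theorem exists_spansNearOn (T : X.Modules) [T.IsQuasicoherent]
    [SheafOfModules.IsFiniteType (R := X.ringCatSheaf) T] (O : X.Opens)
    (h : SpansNearOn T O O Set.univ) (x : X) (hx : x ∈ O) :
    ∃ (A : X.Opens) (Y : Finset Γ(T, O)), x ∈ A ∧ A ≤ O ∧
      SpansNearOn T O A (Y : Set Γ(T, O)) := by
  classical
  obtain ⟨_, ⟨O', hO' : IsAffineOpen O', rfl⟩, hxO', hO'O⟩ :=
    (X.isBasis_affineOpens).exists_subset_of_mem_open hx O.isOpen
  have hO'le : O' ≤ O := hO'O
  haveI := QCohFT.finite_of_isFiniteType T hO'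
  obtain ⟨G, hG⟩ := (Module.Finite.fg_top (R := Γ(X, O')) (M := Γ(T, O')))
  have key : ∀ g : Γ(T, O'), ∃ (Wg : X.Opens) (hg : Wg ≤ O') (Yg : Finset Γ(T, O)), x ∈ Wg ∧
      rF T hg g ∈ Submodule.span Γ(X, Wg)
        ((rF T (hg.trans hO'le)) '' (Yg : Set Γ(T, O))) := by
    intro g
    obtain ⟨Wg, hg, hxWg, hmem⟩ := h O' hO'le g x hxO' hx
    obtain ⟨S, hS, hmemS⟩ := Submodule.mem_span_finite_of_mem_span hmem
    obtain ⟨Yg, -, hYg⟩ := Finset.subset_set_image_iff.mp hS
    refine ⟨Wg, hg, Yg, hxWg, ?_⟩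
    rw [← Finset.coe_image, hYg]
    exact hmemS
  choose Wg hWgO Yg hxWg hmemg using key
  obtain ⟨V0, hxV0, hV0⟩ := exists_le_all_finset G Wg x (fun g _ => hxWg g)
  refine ⟨V0 ⊓ O', G.biUnion Yg, ⟨hxV0, hxO'⟩, inf_le_right.trans hO'le, ?_⟩
  intro W hW z y hyW hyA
  have hyO' : y ∈ O' := hyA.2
  obtain ⟨a, ha1, ha2⟩ := hO'.exists_basicOpen_le (V := W ⊓ V0) ⟨y, ⟨hyW, hyA.1⟩⟩ hyO'
  have hle : X.basicOpen a ≤ W := ha1.trans inf_le_left
  refine ⟨X.basicOpen a, hle, ha2, ?_⟩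
  have h1 := mem_span_res_of_affine T hO' (G : Set Γ(T, O')) hG a (rF T hle z)
  refine (Submodule.span_le.mpr ?_) h1
  rintro _ ⟨g, hgG, rfl⟩
  have hleg : X.basicOpen a ≤ Wg g := (ha1.trans inf_le_right).trans (hV0 g hgG)
  have h2 := rF_mem_span T hleg _ _ (hmemg g)
  rw [rF_rF] at h2
  refine (Submodule.span_mono ?_) h2
  rintro _ ⟨_, ⟨y0, hy0, rfl⟩, rfl⟩
  exact ⟨y0, Finset.mem_coe.mpr (Finset.mem_biUnion.mpr ⟨g, hgG, hy0⟩),
    (rF_rF T hleg ((hWgO g).trans hO'le) y0).symm⟩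

end SpanOn

/-! ## Relatively ample modules -/

/-- **The resolution property ascends along morphisms with a relatively ample module** (target
quasi-compact and quasi-separated). -/
theorem hasResolutionProperty_of_isRelAmple {X Y : Scheme.{u}} (f : X ⟶ Y) [CompactSpace Y]
    [QuasiSeparatedSpace Y] (hY : PerfAux.HasResolutionProperty Y) (L : X.Modules)
    (hL : RelAmple.IsRelAmple f L) : PerfAux.HasResolutionProperty X := by
  classical
  have hinv : PicF.IsInvertible L := isInvertible_of_isRelAmple f hL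
  haveI : QuasiCompact f := hL.1
  haveI : CompactSpace X := QuasiCompact.compactSpace_of_compactSpace f
  haveI : QuasiSeparated f := by
    rw [HasAffineProperty.eq_targetAffineLocally (P := @QuasiSeparated)]
    intro V
    exact quasiSeparatedSpace_of_affine_genLocus (hL.2 V).1 (hL.2 V).2.2
  haveI : QuasiSeparatedSpace X := quasiSeparatedSpace_of_quasiSeparated f
  obtain ⟨-, hA⟩ := (isRelAmple_iff f hinv).mp hL
  intro F hFq hFt
  haveI : F.IsQuasicoherent := hFq
  haveI : SheafOfModules.IsFiniteType (R := X.ringCatSheaf) F := hFt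
  obtain ⟨Tf, hTf⟩ := exists_finite_affine_cover Y
  have hgen := fun V : Y.affineOpens => exists_gen_of_isAmpleOn hinv F (hA V)
  choose n1 hn1 using hgen
  obtain ⟨n, hn⟩ : ∃ n, n = Tf.sup n1 := ⟨_, rfl⟩
  have hM : PicF.IsInvertible (CohB1.tensorPow L n) := isInvertible_tensorPow hinv n
  have hMc : Coh.IsCoh (CohB1.tensorPow L n) :=
    isCoh_of_finLocFree' (isFinLocFree_of_isInvertible hM)
  haveI : (CohB1.tensorPow L n).IsQuasicoherent := hMc.1
  haveI : (CohB1.tensorMod F (CohB1.tensorPow L n)).IsQuasicoherent :=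
    TensQCH8.isQuasicoherent_tensorMod F _
  haveI : SheafOfModules.IsFiniteType (R := X.ringCatSheaf)
      (CohB1.tensorMod F (CohB1.tensorPow L n)) :=
    TensQCH8.isFiniteType_tensorMod F _ hFt hMc.2
  haveI : ((Scheme.Modules.pushforward f).obj
      (CohB1.tensorMod F (CohB1.tensorPow L n))).IsQuasicoherent :=
    QcqsLoc.isQuasicoherent_pushforward_qcqs f _
  -- spanning over preimages
  have hspan : ∀ V ∈ Tf, SpansNearOn (CohB1.tensorMod F (CohB1.tensorPow L n)) (f ⁻¹ᵁ V.1)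
      (f ⁻¹ᵁ V.1) Set.univ := by
    intro V hV W hW z y hyW _
    obtain ⟨W', h', hyW', hmem⟩ := hn1 V n ((Finset.le_sup hV).trans hn.ge)
      (TFrame.tensor (Frame.pow L n) F) hW z y hyW
    refine ⟨W', h', hyW', ?_⟩
    rw [Set.image_univ]
    exact hmem
  have key : ∀ x : X, ∃ (V : Y.affineOpens) (_ : V ∈ Tf) (A : X.Opens)
      (Ys : Finset Γ(CohB1.tensorMod F (CohB1.tensorPow L n), f ⁻¹ᵁ V.1)), x ∈ A ∧
        A ≤ f ⁻¹ᵁ V.1 ∧ SpansNearOn (CohB1.tensorMod F (CohB1.tensorPow L n)) (f ⁻¹ᵁ V.1) A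
          (Ys : Set Γ(CohB1.tensorMod F (CohB1.tensorPow L n), f ⁻¹ᵁ V.1)) := by
    intro x
    obtain ⟨V, hVT, hxV⟩ := hTf (f x)
    obtain ⟨A, Ys, hxA, hAO, hAs⟩ := exists_spansNearOn _ (f ⁻¹ᵁ V.1) (hspan V hVT) x hxV
    exact ⟨V, hVT, A, Ys, hxA, hAO, hAs⟩
  choose Vx hVx A Ys hxA hAO hAs using key
  obtain ⟨Sf, hSf⟩ := isCompact_univ.elim_finite_subcover
    (fun x : X => ((A x : X.Opens) : Set X)) (fun x => (A x).isOpen)
    (fun y _ => Set.mem_iUnion.mpr ⟨y, hxA y⟩)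
  obtain ⟨a, ha⟩ := exists_idx_of_finite
    ((Scheme.Modules.pushforward f).obj (CohB1.tensorMod F (CohB1.tensorPow L n)))
    (κ := Σ x : X, Γ(CohB1.tensorMod F (CohB1.tensorPow L n), f ⁻¹ᵁ (Vx x).1))
    (Sf.sigma Ys) (fun k => Vx k.1)
    (fun k => (show Γ((Scheme.Modules.pushforward f).obj
      (CohB1.tensorMod F (CohB1.tensorPow L n)), (Vx k.1).1) from k.2))
  obtain ⟨E, e, hE, he⟩ := hY (Groth.Agent.FTSys.sub a) (Groth.Agent.FTSys.isQuasicoherent_sub a)
    (Groth.Agent.FTSys.isFiniteType_sub a)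
  haveI := he
  haveI : Epi (adjMap f (Groth.Agent.FTSys.inc a)) := by
    apply epi_adjMap_of_span
    intro U m x' hx'
    obtain ⟨x, hxS, hx'A⟩ := Set.mem_iUnion₂.mp (hSf (Set.mem_univ x'))
    have hx'O : x' ∈ f ⁻¹ᵁ (Vx x).1 := hAO x hx'A
    obtain ⟨W', h', hx'W', hmem⟩ := hAs x (U ⊓ f ⁻¹ᵁ (Vx x).1) inf_le_right
      (rF _ inf_le_left m) x' ⟨hx', hx'O⟩ hx'A
    refine ⟨(Vx x).1, W', h'.trans inf_le_left, h'.trans inf_le_right, hx'W', ?_⟩
    rw [rF_rF] at hmem
    refine (Submodule.span_mono ?_) hmem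
    rintro _ ⟨y0, hy0, rfl⟩
    obtain ⟨g'', hg''⟩ := ha ⟨x, y0⟩ (Finset.mem_sigma.mpr ⟨hxS, hy0⟩)
    exact ⟨g'', congrArg (fun t => rF (CohB1.tensorMod F (CohB1.tensorPow L n))
      (h'.trans inf_le_right) t) hg''⟩
  haveI : Epi ((Scheme.Modules.pullback f).map e) := by
    haveI := Functor.preservesEpimorphisms_of_adjunction
      (Scheme.Modules.pullbackPushforwardAdjunction f)
    infer_instance
  haveI : Epi ((Scheme.Modules.pullback f).map e ≫ adjMap f (Groth.Agent.FTSys.inc a)) :=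
    epi_comp _ _
  exact exists_epi_of_twist hM (isFinLocFree_pullback f hE)
    ((Scheme.Modules.pullback f).map e ≫ adjMap f (Groth.Agent.FTSys.inc a))

/-! ## Ample families -/

section Family

variable {X : Scheme.{u}}

/-- `p` is surjective on sections near the points of `V`. -/
def SurjNear {A B : X.Modules} (p : A ⟶ B) (V : X.Opens) : Prop :=
  ∀ (U : X.Opens) (m : Γ(B, U)) (x : X), x ∈ U → x ∈ V →
    ∃ (W : X.Opens) (hW : W ≤ U), x ∈ W ∧ ∃ z : Γ(A, W), ap p W z = rF B hW m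

theorem epi_of_surjNear_cover {E F : X.Modules} (q : E ⟶ F)
    (h : ∀ x : X, ∃ V : X.Opens, x ∈ V ∧ SurjNear q V) : Epi q := by
  apply epi_of_locally_surjective
  intro U m x hx
  obtain ⟨V, hxV, hV⟩ := h x
  exact hV U m x hx hxV

theorem SurjNear.of_comp {A' A B : X.Modules} (i : A' ⟶ A) {p : A ⟶ B} {V : X.Opens}
    (h : SurjNear (i ≫ p) V) : SurjNear p V := by
  intro U m x hxU hxV
  obtain ⟨W, hW, hxW, z, hz⟩ := h U m x hxU hxV
  exact ⟨W, hW, hxW, ap i W z, hz⟩

theorem SurjNear.comp_iso {A B C : X.Modules} {p : A ⟶ B} {V : X.Opens} (h : SurjNear p V)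
    (θ : B ≅ C) : SurjNear (p ≫ θ.hom) V := by
  intro U m x hxU hxV
  obtain ⟨W, hW, hxW, z, hz⟩ := h U (ap θ.inv U m) x hxU hxV
  refine ⟨W, hW, hxW, z, ?_⟩
  rw [ap_comp', hz, ap_rF, ap_hom_inv]

theorem SurjNear.tmap {A B K : X.Modules} (hK : PicF.IsInvertible K) {p : A ⟶ B} {V : X.Opens}
    (h : SurjNear p V) : SurjNear (TensH8.tmap p K) V := by
  intro U m x hxU hxV
  obtain ⟨U1, -, hxU1, hU1U, k, hk⟩ := exists_isGen_le hK x U hxU
  obtain ⟨b, hb⟩ := tmulGen_surjective B K hk le_rfl (rF (CohB1.tensorMod B K) hU1U m)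
  rw [SubExt.rF_self] at hb
  obtain ⟨W, hW, hxW, z, hz⟩ := h U1 b x hxU1 hxV
  refine ⟨W, hW.trans hU1U, hxW, SecTwist.tmul A K W z (rF K hW k), ?_⟩
  rw [tmap_tmul, hz, ← rF_tmul, hb, rF_rF]

theorem surjNear_desc_of_spans (T : X.Modules) {N : ℕ} (y : Fin N → Γ(T, ⊤)) (V : X.Opens)
    (h : SpansNear T V (Set.range y)) :
    SurjNear (Sigma.desc (fun j => homOfSec T (y j)) : FlatMod.freeMod X N ⟶ T) V := by
  intro U m x hx hxV
  obtain ⟨W', h', hxW', hmem⟩ := h U m x hx hxV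
  refine ⟨W', h', hxW', ?_⟩
  let lin : Γ(FlatMod.freeMod X N, W') →ₗ[Γ(X, W')] Γ(T, W') :=
    { toFun := ap (Sigma.desc (fun j => homOfSec T (y j)) : FlatMod.freeMod X N ⟶ T) W'
      map_add' := map_add _
      map_smul' := fun r z => ap_smul _ r z }
  have hle : Submodule.span Γ(X, W') (gres T W' '' Set.range y) ≤ LinearMap.range lin := by
    rw [Submodule.span_le]
    rintro _ ⟨_, ⟨j, rfl⟩, rfl⟩
    refine ⟨ap (Sigma.ι (fun _ : Fin N => Coh.structureModule X) j) W' (toM 1), ?_⟩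
    show ap (Sigma.desc (fun j => homOfSec T (y j)) : FlatMod.freeMod X N ⟶ T) W'
      (ap (Sigma.ι (fun _ : Fin N => Coh.structureModule X) j) W' (toM 1)) = gres T W' (y j)
    rw [← ap_comp', Sigma.ι_desc, ← val_eq_ap, val_homOfSec]
  obtain ⟨z, hz⟩ := hle hmem
  exact ⟨z, hz⟩

theorem exists_flf_surjNear_finset {ι : Type*} (S : Finset ι) (V : ι → X.Opens) (F : X.Modules)
    (h : ∀ i, ∃ (E : X.Modules) (q : E ⟶ F), FlatMod.IsFinLocFree E ∧ SurjNear q (V i)) :
    ∃ (E : X.Modules) (q : E ⟶ F), FlatMod.IsFinLocFree E ∧ ∀ i ∈ S, SurjNear q (V i) := by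
  classical
  induction S using Finset.induction_on with
  | empty =>
    exact ⟨FlatMod.freeMod X 0, 0, isFinLocFree_of_iso_free (Iso.refl _),
      fun i hi => by simp at hi⟩
  | insert a S ha ih =>
    obtain ⟨E, q, hE, hq⟩ := ih
    obtain ⟨E', q', hE', hq'⟩ := h a
    refine ⟨E ⊞ E', biprod.desc q q', Groth.Agent.Lib.ConeSP.finLocFree_biprod E E' hE hE',
      fun i hi => ?_⟩
    rcases Finset.mem_insert.mp hi with rfl | hi'
    · exact SurjNear.of_comp biprod.inr (by rw [biprod.inr_desc]; exact hq')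
    · exact SurjNear.of_comp biprod.inl (by rw [biprod.inl_desc]; exact hq i hi')

/-- Twisted sections extending generators over an affine locus span the twist near that locus. -/
theorem exists_twist_spansNear [CompactSpace X] [QuasiSeparatedSpace X] {L : X.Modules}
    (hL : PicF.IsInvertible L) (n : ℕ) (σ : Γ(CohB1.tensorPow L n, ⊤)) {O : X.Opens}
    (hloc : HasLocus (Frame.pow L n) σ O) (hO : IsAffineOpen O) (F : X.Modules)
    [F.IsQuasicoherent] [SheafOfModules.IsFiniteType (R := X.ringCatSheaf) F] :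
    ∃ (N : ℕ) (Y : Finset Γ(CohB1.tensorMod F (CohB1.tensorPow L (n * N)), ⊤)),
      SpansNear (CohB1.tensorMod F (CohB1.tensorPow L (n * N))) O
        (Y : Set Γ(CohB1.tensorMod F (CohB1.tensorPow L (n * N)), ⊤)) := by
  classical
  have hcomp : IsCompact (((⊤ : X.Opens) : X.Opens) : Set X) := by
    simpa using isCompact_univ (X := X)
  haveI := QCohFT.finite_of_isFiniteType F hO
  obtain ⟨G, hG⟩ := (Module.Finite.fg_top (R := Γ(X, O)) (M := Γ(F, O)))
  have hext : ∀ g : Γ(F, O), ∃ N0 : ℕ, ∀ N : ℕ, N0 ≤ N →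
      ∀ {T : X.Modules} (Θ : TFrame L F T (n * N)),
      ∃ y : Γ(T, ⊤), ∀ (W : X.Opens) (hW : W ≤ O) (e : Γ(L, W)) (he : IsGen L W e),
        rF T (hW.trans le_top) y = Θ.ψ W e he
          ((Frame.pow L n).coefOf σ W (hW.trans le_top) e he ^ N • rF F hW g) :=
    fun g => TFrame.exists_extend hL F (Frame.pow L n) hcomp σ le_top hloc g
  choose N0 hN0 using hext
  obtain ⟨N, hN⟩ : ∃ N, N = G.sup N0 := ⟨_, rfl⟩
  let Θ : TFrame L F (CohB1.tensorMod F (CohB1.tensorPow L (n * N))) (n * N) :=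
    TFrame.tensor (Frame.pow L (n * N)) F
  have hy : ∀ g : {g // g ∈ G}, ∃ y : Γ(CohB1.tensorMod F (CohB1.tensorPow L (n * N)), ⊤),
      ∀ (W : X.Opens) (hW : W ≤ O) (e : Γ(L, W)) (he : IsGen L W e),
        rF (CohB1.tensorMod F (CohB1.tensorPow L (n * N))) (hW.trans le_top) y = Θ.ψ W e he
          ((Frame.pow L n).coefOf σ W (hW.trans le_top) e he ^ N • rF F hW g.1) :=
    fun g => hN0 g.1 N ((Finset.le_sup g.2).trans hN.ge) Θ
  choose yy hyy using hy
  refine ⟨N, G.attach.image yy, ?_⟩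
  intro W z pt hptW hptO
  obtain ⟨U, -, hptU, hUle, e, he⟩ := exists_isGen_le hL pt (W ⊓ O) ⟨hptW, hptO⟩
  obtain ⟨a, ha1, ha2⟩ := hO.exists_basicOpen_le (V := U) ⟨pt, hptU⟩ hptO
  have hW'W : X.basicOpen a ≤ W := (ha1.trans hUle).trans inf_le_left
  have hW'O : X.basicOpen a ≤ O := X.basicOpen_le a
  have he' : IsGen L (X.basicOpen a) (rF L ha1 e) := he.res ha1
  refine ⟨X.basicOpen a, hW'W, ha2, ?_⟩
  obtain ⟨t, ht⟩ := (Θ.bij (X.basicOpen a) (rF L ha1 e) he').2
    (rF (CohB1.tensorMod F (CohB1.tensorPow L (n * N))) hW'W z)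
  have htmem := mem_span_res_of_affine F hO (G : Set Γ(F, O)) hG a t
  let Λ : Γ(F, X.basicOpen a) →ₗ[Γ(X, X.basicOpen a)]
      Γ(CohB1.tensorMod F (CohB1.tensorPow L (n * N)), X.basicOpen a) :=
    { toFun := Θ.ψ (X.basicOpen a) (rF L ha1 e) he'
      map_add' := Θ.add _ _ _
      map_smul' := Θ.smul _ _ _ }
  have hle : Submodule.span Γ(X, X.basicOpen a) ((rF F hW'O) '' (G : Set Γ(F, O))) ≤
      (Submodule.span Γ(X, X.basicOpen a)
        (gres (CohB1.tensorMod F (CohB1.tensorPow L (n * N))) (X.basicOpen a) ''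
          ((G.attach.image yy : Finset _) :
            Set Γ(CohB1.tensorMod F (CohB1.tensorPow L (n * N)), ⊤)))).comap Λ := by
    rw [Submodule.span_le]
    rintro _ ⟨g, hg, rfl⟩
    show Θ.ψ (X.basicOpen a) (rF L ha1 e) he' (rF F hW'O g) ∈ Submodule.span _ _
    have h1 := hyy ⟨g, hg⟩ (X.basicOpen a) hW'O (rF L ha1 e) he'
    have hcu : IsUnit ((Frame.pow L n).coefOf σ (X.basicOpen a) (hW'O.trans le_top)
        (rF L ha1 e) he') := by
      apply isUnit_of_basicOpen_eq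
      rw [← hloc (X.basicOpen a) (hW'O.trans le_top) (rF L ha1 e) he']
      exact inf_eq_right.mpr hW'O
    obtain ⟨v, hv⟩ := (hcu.pow N).exists_left_inv
    rw [Θ.smul] at h1
    have h2 : Θ.ψ (X.basicOpen a) (rF L ha1 e) he' (rF F hW'O g) =
        v • rF (CohB1.tensorMod F (CohB1.tensorPow L (n * N))) (hW'O.trans le_top)
          (yy ⟨g, hg⟩) := by
      rw [h1, ← mul_smul, hv, one_smul]
    rw [h2]
    apply Submodule.smul_mem
    apply Submodule.subset_span
    exact ⟨yy ⟨g, hg⟩, Finset.mem_coe.mpr (Finset.mem_image.mpr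
      ⟨⟨g, hg⟩, Finset.mem_attach _ _, rfl⟩), rfl⟩
  have hfin := hle htmem
  rw [← ht]
  exact hfin

/-- Near an affine locus `X_s` of a section of a power of an invertible module, every
quasi-coherent module of finite type is the image of a finite locally free module. -/
theorem exists_flf_surjNear [CompactSpace X] [QuasiSeparatedSpace X] {L : X.Modules}
    (hL : PicF.IsInvertible L) (n : ℕ) (s : Coh.structureModule X ⟶ CohB1.tensorPow L n)
    (hO : IsAffineOpen (CohB1.genLocus (CohB1.tensorPow L n) s)) (F : X.Modules)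
    [F.IsQuasicoherent] [SheafOfModules.IsFiniteType (R := X.ringCatSheaf) F] :
    ∃ (E : X.Modules) (q : E ⟶ F), FlatMod.IsFinLocFree E ∧
      SurjNear q (CohB1.genLocus (CohB1.tensorPow L n) s) := by
  classical
  have hloc : HasLocus (Frame.pow L n) (SecTwist.val s ⊤)
      (CohB1.genLocus (CohB1.tensorPow L n) s) := by
    have h1 := hasLocus_val (Frame.pow L n) s ⊤
    rwa [inf_top_eq] at h1
  obtain ⟨N, Y, hY⟩ := exists_twist_spansNear hL n (SecTwist.val s ⊤) hloc hO F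
  have hM : PicF.IsInvertible (CohB1.tensorPow L (n * N)) := isInvertible_tensorPow hL (n * N)
  let yy : Fin Y.card → Γ(CohB1.tensorMod F (CohB1.tensorPow L (n * N)), ⊤) :=
    fun j => (Y.equivFin.symm j).1
  have hrange : Set.range yy = (Y : Set _) := by
    ext t
    constructor
    · rintro ⟨j, rfl⟩
      exact (Y.equivFin.symm j).2
    · intro ht
      exact ⟨Y.equivFin ⟨t, ht⟩, by simp [yy]⟩
  have hp := surjNear_desc_of_spans (CohB1.tensorMod F (CohB1.tensorPow L (n * N))) yy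
    (CohB1.genLocus (CohB1.tensorPow L n) s) (by rw [hrange]; exact hY)
  obtain ⟨K', hK', ⟨e⟩⟩ := Groth.Agent.InvTensP.exists_inverse _ hM
  let θ : CohB1.tensorMod (CohB1.tensorMod F (CohB1.tensorPow L (n * N))) K' ≅ F :=
    assoc F (CohB1.tensorPow L (n * N)) K' ≪≫ mapL F e ≪≫ rightUnit F
  exact ⟨CohB1.tensorMod (FlatMod.freeMod X Y.card) K', _,
    isFinLocFree_tensorMod_of_isInvertible (isFinLocFree_of_iso_free (Iso.refl _)) hK',
    (hp.tmap hK').comp_iso θ⟩

theorem quasiSeparatedSpace_of_ampleFamily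
    (hcov : ∀ x : X, ∃ (L : X.Modules) (n : ℕ)
      (s : Coh.structureModule X ⟶ CohB1.tensorPow L n), PicF.IsInvertible L ∧ 1 ≤ n ∧
        x ∈ CohB1.genLocus (CohB1.tensorPow L n) s ∧
          IsAffineOpen (CohB1.genLocus (CohB1.tensorPow L n) s)) :
    QuasiSeparatedSpace X := by
  choose L n s hL hn hxs haff using hcov
  refine Scheme.quasiSeparatedSpace_of_isOpenCover
    (fun x : X => CohB1.genLocus _ (s x)) ?_ haff ?_
  · rw [IsOpenCover, eq_top_iff]
    intro x _
    exact Opens.mem_iSup.mpr ⟨x, hxs x⟩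
  · intro x y
    haveI : IsAffineHom (CohB1.genLocus _ (s y)).ι :=
      isAffineHom_genLocus_ι (isInvertible_tensorPow (hL y) (n y)) (s y)
    have h1 : IsAffineOpen ((CohB1.genLocus _ (s y)).ι ⁻¹ᵁ (CohB1.genLocus _ (s x))) :=
      (haff x).preimage _
    have h2 := h1.image_of_isOpenImmersion (CohB1.genLocus _ (s y)).ι
    rw [Scheme.Hom.image_preimage_eq_opensRange_inf, Scheme.Opens.opensRange_ι] at h2
    have h3 := h2.isCompact
    rw [inf_comm] at h3
    exact h3

/-- **A scheme with an ample family of invertible modules has the resolution property.** -/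
theorem hasResolutionProperty_of_hasAmpleFamily (hX : MoreMor.HasAmpleFamily X) :
    PerfAux.HasResolutionProperty X := by
  classical
  obtain ⟨hc, hcov⟩ := id hX
  haveI := hc
  haveI : QuasiSeparatedSpace X := quasiSeparatedSpace_of_ampleFamily hcov
  intro F hFq hFt
  haveI : F.IsQuasicoherent := hFq
  haveI : SheafOfModules.IsFiniteType (R := X.ringCatSheaf) F := hFt
  choose L n s hL hn hxs haff using hcov
  have key : ∀ x : X, ∃ (E : X.Modules) (q : E ⟶ F), FlatMod.IsFinLocFree E ∧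
      SurjNear q (CohB1.genLocus (CohB1.tensorPow (L x) (n x)) (s x)) :=
    fun x => exists_flf_surjNear (hL x) (n x) (s x) (haff x) F
  obtain ⟨Sf, hSf⟩ := isCompact_univ.elim_finite_subcover
    (fun x : X => ((CohB1.genLocus (CohB1.tensorPow (L x) (n x)) (s x) : X.Opens) : Set X))
    (fun x => (CohB1.genLocus (CohB1.tensorPow (L x) (n x)) (s x)).isOpen)
    (fun y _ => Set.mem_iUnion.mpr ⟨y, hxs y⟩)
  obtain ⟨E, q, hE, hq⟩ := exists_flf_surjNear_finset Sf
    (fun x => CohB1.genLocus (CohB1.tensorPow (L x) (n x)) (s x)) F key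
  refine ⟨E, q, hE, epi_of_surjNear_cover q (fun y => ?_)⟩
  obtain ⟨x, hxS, hyx⟩ := Set.mem_iUnion₂.mp (hSf (Set.mem_univ y))
  exact ⟨_, hyx, hq x hxS⟩

end Family

end Groth.Agent.Lib.ResPropL
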