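import Mathlib
import Groth.Prelude
import Groth.Agent.Lib.ResProp2_lead
import Groth.Agent.Lib.ModSite7_helper8

/-!
# Resolution property: relative generating families (lead)
APPEND-ONLY once landed.
-/

set_option autoImplicit false
set_option linter.unusedSimpArgs false
set_option linter.unusedVariables false
set_option linter.unusedSectionVars false
set_option linter.style.longLine false
set_option linter.unnecessarySimpa false
set_option linter.deprecated false
set_option linter.style.haveILetI false
set_option maxHeartbeats 1600000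
set_option backward.isDefEq.respectTransparency false
set_option backward.isDefEq.respectTransparency.types false
set_option backward.defeqAttrib.useBackward true

universe u

noncomputable section

namespace Groth.Agent.Lib.ResPropL

open CategoryTheory CategoryTheory.Limits AlgebraicGeometry TopologicalSpace Opposite TensorProduct
open QcqsLoc QCohExtn TensH8 FLFH8 GenLocH8 PBH8 Groth.Agent.TensInv

section Tensor

variable {X : Scheme.{u}}

/-- The tensor product of two finite locally free modules is finite locally free. -/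
theorem isFinLocFree_tensorMod {E E' : X.Modules} (hE : FlatMod.IsFinLocFree E)
    (hE' : FlatMod.IsFinLocFree E') : FlatMod.IsFinLocFree (CohB1.tensorMod E E') := by
  classical
  haveI : E.IsQuasicoherent := isQuasicoherent_of_finLocFree E hE
  haveI : E'.IsQuasicoherent := isQuasicoherent_of_finLocFree E' hE'
  haveI : (CohB1.tensorMod E E').IsQuasicoherent := TensQCH8.isQuasicoherent_tensorMod E E'
  intro x
  obtain ⟨U, r, hxU, ⟨α⟩⟩ := hE x
  obtain ⟨U', r', hxU', ⟨α'⟩⟩ := hE' x
  obtain ⟨W1, -, hxW1, -, t, ht⟩ := exists_affine_bases E hxU α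
  obtain ⟨W2, -, hxW2, -, t', ht'⟩ := exists_affine_bases E' hxU' α'
  obtain ⟨_, ⟨W, hW : IsAffineOpen W, rfl⟩, hxW, hWle⟩ :=
    (X.isBasis_affineOpens).exists_subset_of_mem_open (show x ∈ W1 ⊓ W2 from ⟨hxW1, hxW2⟩)
      (W1 ⊓ W2).isOpen
  have hW1 : W ≤ W1 := fun y hy => (hWle hy).1
  have hW2 : W ≤ W2 := fun y hy => (hWle hy).2
  obtain ⟨hs, hli⟩ := ht W hW1
  obtain ⟨hs', hli'⟩ := ht' W hW2
  let b : Module.Basis (Fin r) Γ(X, W) Γ(E, W) := Module.Basis.mk hli hs.ge
  let b' : Module.Basis (Fin r') Γ(X, W) Γ(E', W) := Module.Basis.mk hli' hs'.ge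
  let bb : Module.Basis (Fin r × Fin r') Γ(X, W) (Γ(E, W) ⊗[Γ(X, W)] Γ(E', W)) :=
    b.tensorProduct b'
  let eq : (Γ(E, W) ⊗[Γ(X, W)] Γ(E', W)) ≃ₗ[Γ(X, W)] Γ(CohB1.tensorMod E E', W) :=
    LinearEquiv.ofBijective (TensQCH8.etaLin E E' W) (TensQCH8.eta_bijective E E' hW)
  let b3 : Module.Basis (Fin (r * r')) Γ(X, W) Γ(CohB1.tensorMod E E', W) :=
    (bb.map eq).reindex finProdFinEquiv
  exact ⟨W, r * r', hxW, iso_of_basis (CohB1.tensorMod E E') hW (fun j => b3 j) b3.span_eq
    b3.linearIndependent⟩

end Tensor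

section Cat

/-- The images of the coprojections under a coproduct-preserving functor are jointly
epimorphic. -/
theorem hom_ext_map_ι {C D : Type*} [Category C] [Category D] (F : C ⥤ D) {κ : Type*}
    (V : κ → C) [HasCoproduct V] [HasCoproduct (fun k => F.obj (V k))]
    [PreservesColimit (Discrete.functor V) F] {Z : D} (h h' : F.obj (∐ V) ⟶ Z)
    (w : ∀ l, F.map (Sigma.ι V l) ≫ h = F.map (Sigma.ι V l) ≫ h') : h = h' := by
  rw [← cancel_epi (sigmaComparison F V)]
  apply Sigma.hom_ext
  intro l
  rw [← Category.assoc, ← Category.assoc, ι_comp_sigmaComparison]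
  exact w l

end Cat

section Gen

variable {X Y : Scheme.{u}}

/-- If `Y` has the resolution property (in the form "every quasi-coherent module is a quotient of
a direct sum of finite locally free modules") and `X` has an `f`-generating family of finite
locally free modules, then `X` has the resolution property. -/
theorem sum_locFree_of_relGenerating (f : X ⟶ Y)
    (hY : ∀ N : Y.Modules, Coh.IsQCoh N →
      ∃ (κ : Type u) (V : κ → Y.Modules) (π : (∐ V) ⟶ N),
        (∀ k, FlatMod.IsFinLocFree (V k)) ∧ Epi π)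
    {ι : Type u} (W : ι → X.Modules) (hW : ∀ i, FlatMod.IsFinLocFree (W i))
    (hf : ∀ M : X.Modules, Coh.IsQCoh M →
      ∃ (κ : Type u) (j : κ → ι) (N : κ → Y.Modules)
        (π : (∐ fun k => CohB1.tensorMod (W (j k)) ((Scheme.Modules.pullback f).obj (N k))) ⟶ M),
        (∀ k, Coh.IsQCoh (N k)) ∧ Epi π) :
    ∀ M : X.Modules, Coh.IsQCoh M →
      ∃ (κ : Type u) (E : κ → X.Modules) (π : (∐ E) ⟶ M),
        (∀ k, FlatMod.IsFinLocFree (E k)) ∧ Epi π := by
  intro M hM
  obtain ⟨κ, j, N, π, hN, hπ⟩ := hf M hM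
  haveI := hπ
  choose κ' V ρ hV hρ using fun k => hY (N k) (hN k)
  let T : κ → Y.Modules ⥤ X.Modules := fun k => Scheme.Modules.pullback f ⋙ tL (W (j k))
  haveI hT : ∀ k, PreservesColimitsOfSize.{u, u} (T k) := fun k => by
    haveI : PreservesColimitsOfSize.{u, u} (Scheme.Modules.pullback f) :=
      (Scheme.Modules.pullbackPushforwardAdjunction f).leftAdjoint_preservesColimits
    haveI : PreservesColimitsOfSize.{u, u} (tL (W (j k))) :=
      Groth.Agent.Lib.ModSiteH8.preservesColimits_obj X.sheaf (W (j k))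
    exact comp_preservesColimits _ _
  haveI hTe : ∀ k, (T k).PreservesEpimorphisms := fun k => by
    haveI : PreservesFiniteColimits (T k) := PreservesColimitsOfSize.preservesFiniteColimits _
    exact preservesEpimorphisms_of_preservesColimitsOfShape _
  let ιN : ∀ k, CohB1.tensorMod (W (j k)) ((Scheme.Modules.pullback f).obj (N k)) ⟶
      ∐ fun k => CohB1.tensorMod (W (j k)) ((Scheme.Modules.pullback f).obj (N k)) :=
    fun k => Sigma.ι (fun k => CohB1.tensorMod (W (j k)) ((Scheme.Modules.pullback f).obj (N k))) k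
  let φ : ∀ p : (Σ k : κ, κ' k),
      CohB1.tensorMod (W (j p.1)) ((Scheme.Modules.pullback f).obj (V p.1 p.2)) ⟶ M :=
    fun p => (T p.1).map (Sigma.ι (V p.1) p.2 ≫ ρ p.1) ≫ ιN p.1 ≫ π
  refine ⟨Σ k : κ, κ' k,
    fun p => CohB1.tensorMod (W (j p.1)) ((Scheme.Modules.pullback f).obj (V p.1 p.2)),
    Sigma.desc φ, ?_, ?_⟩
  · intro p
    exact isFinLocFree_tensorMod (hW _) (isFinLocFree_pullback f (hV p.1 p.2))
  · apply Preadditive.epi_of_cancel_zero
    intro Z g hg
    have h1 : ∀ (k : κ) (l : κ' k), φ ⟨k, l⟩ ≫ g = 0 := by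
      intro k l
      have h2 := congrArg (fun t => Sigma.ι
        (fun p : (Σ k : κ, κ' k) =>
          CohB1.tensorMod (W (j p.1)) ((Scheme.Modules.pullback f).obj (V p.1 p.2))) ⟨k, l⟩ ≫ t) hg
      simp only [comp_zero] at h2
      rw [← Category.assoc, Sigma.ι_desc] at h2
      exact h2
    have h3 : π ≫ g = 0 := by
      apply Sigma.hom_ext
      intro k
      rw [comp_zero]
      haveI : Epi ((T k).map (ρ k)) := (hTe k).preserves (ρ k)
      rw [← cancel_epi ((T k).map (ρ k)), comp_zero]
      apply hom_ext_map_ι (T k) (V k)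
      intro l
      rw [comp_zero]
      have h4 := h1 k l
      simp only [φ, Functor.map_comp, Category.assoc] at h4
      exact h4
    rw [← cancel_epi π, h3, comp_zero]

end Gen

end Groth.Agent.Lib.ResPropL
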