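import Mathlib
import Groth.Prelude
import Groth.Agent.Lib.PerfTens1_helper3
import Groth.Agent.Lib.KFlatSite14_helper2
import Groth.Agent.Lib.ResProp3_lead
import Groth.Agent.Lib.ConeSP_lead
import Groth.Agent.Lib.PerfFlat2_lead

/-!
# The derived tensor product of perfect complexes is perfect (helper3)

* `prop_of_finite_support`: a property of objects stable under isomorphisms, zero objects and binary
  biproducts holds for a coproduct with finitely many nonzero summands.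
* `isStrictlyPerfect_tensorCx`: the tensor product of strictly perfect complexes is strictly perfect.
* `main962`.
-/

set_option autoImplicit false
set_option linter.all false
set_option maxHeartbeats 1600000
set_option backward.isDefEq.respectTransparency false
set_option backward.isDefEq.respectTransparency.types false
set_option backward.defeqAttrib.useBackward true

universe u
open CategoryTheory CategoryTheory.Limits AlgebraicGeometry Opposite

attribute [local instance] HasDerivedCategory.standard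

namespace Groth.Agent.Lib.PerfTensH3

open Groth.Agent.Lib.StalkTensH3 Groth.Agent.Lib.LpullLocH3 Groth.Agent.Lib.PullTensIsoH3
  Groth.Agent.Lib.LpullTensH3 Groth.Agent.Lib.DCohLocLead

noncomputable section

section FinSupp

variable {C : Type*} [Category C] [Preadditive C] [HasBinaryBiproducts C] [HasCoproducts.{0} C]

open Classical in
/-- splitting off one summand of a coproduct -/
def splitIso {I : Type} (D : I → C) (c : Cofan D) (hc : IsColimit c) (a : I) :
    c.pt ≅ D a ⊞ ∐ (fun i : {i : I // i ≠ a} => D i.1) where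
  hom := Cofan.IsColimit.desc hc (fun i =>
    if h : i = a then eqToHom (congrArg D h) ≫ biprod.inl
    else Sigma.ι (fun i : {i : I // i ≠ a} => D i.1) ⟨i, h⟩ ≫ biprod.inr)
  inv := biprod.desc (c.inj a) (Sigma.desc (fun i => c.inj i.1))
  hom_inv_id := by
    apply Cofan.IsColimit.hom_ext hc
    intro i
    rw [← Category.assoc, Cofan.IsColimit.fac, Category.comp_id]
    by_cases h : i = a
    · subst h
      simp
    · rw [dif_neg h, Category.assoc, biprod.inr_desc]
      exact Sigma.ι_desc _ _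
  inv_hom_id := by
    apply biprod.hom_ext'
    · rw [← Category.assoc, biprod.inl_desc, Cofan.IsColimit.fac, dif_pos rfl, eqToHom_refl,
        Category.id_comp, Category.comp_id]
    · rw [← Category.assoc, biprod.inr_desc, Category.comp_id]
      apply Sigma.hom_ext
      intro i
      rw [← Category.assoc, Sigma.ι_desc, Cofan.IsColimit.fac, dif_neg i.2]

theorem prop_of_finite_support (P : C → Prop) (hiso : ∀ {A B : C}, (A ≅ B) → P A → P B)
    (hzero : ∀ A : C, IsZero A → P A) (hbiprod : ∀ A B : C, P A → P B → P (A ⊞ B)) :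
    ∀ (n : ℕ) (I : Type) (D : I → C) (c : Cofan D) (hc : IsColimit c) (S : Finset I),
      S.card = n → (∀ i, i ∉ S → IsZero (D i)) → (∀ i, P (D i)) → P c.pt := by
  classical
  intro n
  induction n with
  | zero =>
    intro I D c hc S hS hz hP
    apply hzero
    rw [IsZero.iff_id_eq_zero]
    apply Cofan.IsColimit.hom_ext hc
    intro i
    have hi : i ∉ S := by
      rw [Finset.card_eq_zero.mp hS]
      exact Finset.notMem_empty i
    exact (hz i hi).eq_of_src _ _
  | succ n ih =>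
    intro I D c hc S hS hz hP
    have hne : S.Nonempty := by
      rw [← Finset.card_pos]
      omega
    obtain ⟨a, ha⟩ := hne
    let D' : {i : I // i ≠ a} → C := fun i => D i.1
    have h1 : P (∐ D') := by
      refine ih _ D' (Cofan.mk (∐ D') (Sigma.ι D')) (coproductIsCoproduct D')
        (S.subtype (fun i => i ≠ a)) ?_ ?_ (fun i => hP i.1)
      · rw [Finset.card_subtype, Finset.filter_ne', Finset.card_erase_of_mem ha, hS]
        rfl
      · intro i hi
        apply hz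
        intro hiS
        exact hi (Finset.mem_subtype.mpr hiS)
    exact hiso (splitIso D c hc a).symm (hbiprod _ _ (hP a) h1)

end FinSupp

variable {X : Scheme.{u}}

theorem isFinLocFree_of_iso' {M N : X.Modules} (e : M ≅ N) (h : FlatMod.IsFinLocFree M) :
    FlatMod.IsFinLocFree N := by
  intro x
  obtain ⟨U, n, hx, ⟨i⟩⟩ := h x
  exact ⟨U, n, hx, ⟨(Scheme.Modules.restrictFunctor U.ι).mapIso e.symm ≪≫ i⟩⟩

theorem isFinLocFree_of_isZero {M : X.Modules} (h : IsZero M) : FlatMod.IsFinLocFree M := by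
  intro x
  refine ⟨⊤, 0, trivial, ⟨?_⟩⟩
  exact (Functor.map_isZero (Scheme.Modules.restrictFunctor (⊤ : X.Opens).ι) h).iso
    (isZero_freeMod_zero _)

/-- **the tensor product of strictly perfect complexes is strictly perfect** -/
theorem isStrictlyPerfect_tensorCx {P₁ P₂ : CochainComplex X.Modules ℤ}
    (h₁ : DCoh.IsStrictlyPerfect P₁) (h₂ : DCoh.IsStrictlyPerfect P₂) :
    DCoh.IsStrictlyPerfect ((DCoh.tensorCx.obj P₁).obj P₂) := by
  obtain ⟨⟨a₁, b₁, hb₁⟩, hf₁⟩ := h₁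
  obtain ⟨⟨a₂, b₂, hb₂⟩, hf₂⟩ := h₂
  refine ⟨⟨a₁ + a₂, b₁ + b₂, fun i hi => ?_⟩, fun n => ?_⟩
  · exact Groth.Agent.Lib.KFlatSite.isZero_tensorCx_X X.sheaf P₁ P₂ a₁ b₁ a₂ b₂ hb₁ hb₂ i hi
  · let g : ℤ → Groth.Agent.Lib.BifSES.Idx n := fun p => ⟨(p, n - p), by
      show p + (n - p) = n
      omega⟩
    refine prop_of_finite_support (C := X.Modules) FlatMod.IsFinLocFree
      (fun e h => isFinLocFree_of_iso' e h) (fun A hA => isFinLocFree_of_isZero hA)
      (fun A B hA hB => Groth.Agent.Lib.ConeSP.finLocFree_biprod A B hA hB) _ _ _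
      (Groth.Agent.Lib.BifSES.totCofan (DCoh.tensorBi (X := X)) P₁ P₂ n)
      (Groth.Agent.Lib.BifSES.isColimitTotCofan (DCoh.tensorBi (X := X)) P₁ P₂ n)
      ((Finset.Icc a₁ b₁).image g) rfl ?_ ?_
    · intro x hx
      have hp : x.1.1 < a₁ ∨ b₁ < x.1.1 := by
        by_contra hcon
        rw [not_or, not_lt, not_lt] at hcon
        apply hx
        rw [Finset.mem_image]
        refine ⟨x.1.1, Finset.mem_Icc.mpr hcon, ?_⟩
        apply Subtype.ext
        have hx2 : x.1.1 + x.1.2 = n := x.2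
        show (x.1.1, n - x.1.1) = x.1
        refine Prod.ext rfl ?_
        show n - x.1.1 = x.1.2
        omega
      exact Functor.map_isZero ((DCoh.tensorBi (X := X)).flip.obj (P₂.X x.1.2)) (hb₁ x.1.1 hp)
    · intro x
      exact Groth.Agent.Lib.ResPropL.isFinLocFree_tensorMod (hf₁ x.1.1) (hf₂ x.1.2)

open DerivedCategory in
/-- **the derived tensor product of perfect complexes is perfect** -/
theorem main962 (L : CochainComplex X.Modules ℤ) (hL : DCoh.IsKFlat L)
    (hLp : DCoh.IsPerfect (DerivedCategory.Q.obj L)) [DCoh.HasLTensorCx L] (K : DCoh.D X)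
    (hK : DCoh.IsPerfect K) : DCoh.IsPerfect ((DCoh.LTensorCx L).obj K) := by
  rw [isPerfect_iff] at hK hLp ⊢
  intro x
  obtain ⟨V₁, hx₁, h₁⟩ := hK x
  obtain ⟨V₂, hx₂, h₂⟩ := hLp x
  have hV₁ : V₁ ⊓ V₂ ≤ V₁ := inf_le_left
  have hV₂ : V₁ ⊓ V₂ ≤ V₂ := inf_le_right
  have h₁' : LocRep SP (V₁ ⊓ V₂).ι K :=
    (h₁.comp (X.homOfLE hV₁) V₁.ι (fun P hP => isStrictlyPerfect_RC _ hP)).of_eq
      (X.homOfLE_ι hV₁)
  have h₂' : LocRep SP (V₁ ⊓ V₂).ι (Q.obj L) :=
    (h₂.comp (X.homOfLE hV₂) V₂.ι (fun P hP => isStrictlyPerfect_RC _ hP)).of_eq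
      (X.homOfLE_ι hV₂)
  obtain ⟨P₁, hP₁, ⟨a₁⟩⟩ := h₁'
  obtain ⟨P₂, hP₂, ⟨a₂⟩⟩ := h₂'
  obtain ⟨K₀, hK₀, ⟨eK⟩⟩ := exists_kflat_rep K
  have hP₁' : DCoh.IsStrictlyPerfect P₁ := hP₁
  have hP₂' : DCoh.IsStrictlyPerfect P₂ := hP₂
  refine ⟨V₁ ⊓ V₂, ⟨hx₁, hx₂⟩, (DCoh.tensorCx.obj P₁).obj P₂,
    isStrictlyPerfect_tensorCx hP₁' hP₂', ?_⟩
  have eA : Q.obj ((RC (V₁ ⊓ V₂).ι).obj K₀) ≅ Q.obj P₁ :=
    (facIso (V₁ ⊓ V₂).ι K₀).symm ≪≫ (DD (V₁ ⊓ V₂).ι).mapIso eK ≪≫ a₁
  have eB : Q.obj ((RC (V₁ ⊓ V₂).ι).obj L) ≅ Q.obj P₂ := (facIso (V₁ ⊓ V₂).ι L).symm ≪≫ a₂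
  obtain ⟨e3⟩ := nonempty_Q_tensor_iso (isKFlat_RC (V₁ ⊓ V₂).ι L hL)
    (isKFlat_of_isStrictlyPerfect hP₁') eA eB
  exact ⟨(DD (V₁ ⊓ V₂).ι).mapIso ((DCoh.LTensorCx L).mapIso eK.symm ≪≫ ltIsoRight L K₀ hL) ≪≫
    facIso (V₁ ⊓ V₂).ι _ ≪≫ Q.mapIso (restrictCxTensorIso (V₁ ⊓ V₂).ι K₀ L) ≪≫ e3⟩

end

end Groth.Agent.Lib.PerfTensH3
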