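import Mathlib
import Groth.Prelude
import Groth.Agent.Lib.LpullPC_helper3
import Groth.Agent.Lib.PerfTens2_helper3
import Groth.Agent.Lib.PCohFT3_lead
import Groth.Agent.Lib.BMod5_helper6

/-!
# The derived tensor product of pseudo-coherent complexes (helper3)

* `Lt_tensorCx`: right t-exactness of the tensor product of K-flat complexes.
* `isApprox_tensor_right`, `isApprox_tensor_left`: tensoring an `m`-approximation with a complex
  which is bounded above.
* `isPC_tensorCx`: the tensor product of two (bounded above) pseudo-coherent K-flat complexes is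
  pseudo-coherent.
* `isCoh_HD_of_isPC`: on a locally Noetherian scheme a pseudo-coherent object has coherent
  cohomology sheaves.
* `main6498`: `D^-_Coh ⊗^L D^-_Coh ⊆ D^-_Coh` on a locally Noetherian scheme.
-/

set_option autoImplicit false
set_option linter.all false
set_option maxHeartbeats 1600000
set_option backward.isDefEq.respectTransparency false
set_option backward.isDefEq.respectTransparency.types false
set_option backward.defeqAttrib.useBackward true

universe u
open CategoryTheory CategoryTheory.Limits AlgebraicGeometry Opposite Pretriangulated ZeroObject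

attribute [local instance] HasDerivedCategory.standard

namespace Groth.Agent.Lib.TensPCH3

open Groth.Agent.Lib.StalkTensH3 Groth.Agent.Lib.LpullExH3 Groth.Agent.Lib.LpullCompH3
  Groth.Agent.Lib.DCohLocLead Groth.Agent.Lib.LpullLocH3 Groth.Agent.Lib.LpullPCH3
  Groth.Agent.Lib.PerfTensH3 Groth.Agent.Lib.LpullTensH3 DerivedCategory

noncomputable section

variable {X : Scheme.{u}}

/-! ### right t-exactness -/

/-- the terms of `Tot (K ⊗ L)` vanish above the sum of the bounds -/
theorem isZero_tensorCx_X_of_le (K L : CochainComplex X.Modules ℤ) (p₀ q₀ : ℤ)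
    (hK : ∀ i : ℤ, p₀ < i → IsZero (K.X i)) (hL : ∀ i : ℤ, q₀ < i → IsZero (L.X i)) (n : ℤ)
    (hn : p₀ + q₀ < n) : IsZero (((DCoh.tensorCx.obj K).obj L).X n) := by
  apply Groth.Agent.Lib.KFlatSite.isZero_mapBifunctor_X (DCoh.tensorBi (X := X))
  intro p q hpq
  by_cases hp : p₀ < p
  · exact Functor.map_isZero ((DCoh.tensorBi (X := X)).flip.obj (L.X q)) (hK p hp)
  · exact Functor.map_isZero ((DCoh.tensorBi (X := X)).obj (K.X p)) (hL q (by omega))

theorem isLE_of_Lt (C : CochainComplex X.Modules ℤ) (m : ℤ) (h : Lt m (Q.obj C)) :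
    C.IsLE (m - 1) := by
  rw [CochainComplex.isLE_iff]
  intro i hi
  rw [HomologicalComplex.exactAt_iff_isZero_homology]
  exact (h i (by omega)).of_iso ((homologyFunctorFactors X.Modules i).app C).symm

theorem Lt_Q_of_isZero_X (C : CochainComplex X.Modules ℤ) (m : ℤ)
    (h : ∀ i : ℤ, m ≤ i → IsZero (C.X i)) : Lt m (Q.obj C) := by
  intro i hi
  exact (Groth.Agent.Lib.DTorCmp.isZero_homology_of_isZero_X C i (h i hi)).of_iso
    ((homologyFunctorFactors X.Modules i).app C)

/-- a K-flat complex which is cohomologically `< m` is quasi-isomorphic to a K-flat complex which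
is strictly `< m` -/
theorem exists_bounded_kflat (C : CochainComplex X.Modules ℤ) (m : ℤ) (hCm : Lt m (Q.obj C)) :
    ∃ (K' : CochainComplex X.Modules ℤ) (φ : K' ⟶ C), DCoh.IsKFlat K' ∧ QuasiIso φ ∧
      ∀ i : ℤ, m - 1 < i → IsZero (K'.X i) := by
  haveI hCle : C.IsLE (m - 1) := isLE_of_Lt C m hCm
  obtain ⟨K, q, b', hb', hfl, hq⟩ :=
    Groth.Agent.Lib.DTorCmp.exists_bounded_flat_resolution C (m - 1)
  haveI := hb'
  haveI := hq
  haveI : K.IsLE (m - 1) := by
    rw [CochainComplex.isLE_iff]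
    intro i hi
    exact (Groth.Agent.Lib.DTorCmp.exactAt_iff_of_quasiIso q i).2
      (C.exactAt_of_isLE (m - 1) i hi)
  have hfl' := Groth.Agent.Lib.DTorCmp.flat_truncLE K b' hfl (m - 1)
  have hz : ∀ i : ℤ, m - 1 < i → IsZero ((K.truncLE (m - 1)).X i) :=
    fun i hi => (K.truncLE (m - 1)).isZero_of_isStrictlyLE (m - 1) i hi
  exact ⟨K.truncLE (m - 1), K.ιTruncLE (m - 1) ≫ q,
    isKFlat_of_flat_bounded _ (m - 1) hz hfl', inferInstance, hz⟩

/-- **right t-exactness of the tensor product of K-flat complexes** -/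
theorem Lt_tensorCx (C E : CochainComplex X.Modules ℤ) (hC : DCoh.IsKFlat C)
    (hE : DCoh.IsKFlat E) (m n : ℤ) (hCm : Lt m (Q.obj C)) (hEn : Lt n (Q.obj E)) :
    Lt (m + n - 1) (Q.obj ((DCoh.tensorCx.obj C).obj E)) := by
  obtain ⟨K', φ, hK', hφ, hz⟩ := exists_bounded_kflat C m hCm
  obtain ⟨E', ψ, hE', hψ, hz'⟩ := exists_bounded_kflat E n hEn
  haveI := hφ
  haveI := hψ
  haveI h1 := quasiIso_tensor_right E hE φ
  haveI h2 := quasiIso_tensor_left K' hK' ψ
  have h3 : Lt (m + n - 1) (Q.obj ((DCoh.tensorCx.obj K').obj E')) :=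
    Lt_Q_of_isZero_X _ _ (fun i hi =>
      isZero_tensorCx_X_of_le K' E' (m - 1) (n - 1) hz hz' i (by omega))
  have h4 : Lt (m + n - 1) (Q.obj ((DCoh.tensorCx.obj K').obj E)) :=
    h3.of_iso (asIso (Q.map (((DCoh.tensorCx (X := X)).obj K').map ψ)))
  exact h4.of_iso (asIso (Q.map (((DCoh.tensorCx (X := X)).flip.obj E).map φ)))

/-! ### approximations -/

theorem IsApprox.of_le {C : Type*} [Category C] [Abelian C] [HasDerivedCategory C]
    {K L : DerivedCategory C} {α : K ⟶ L} {m m' : ℤ} (h : IsApprox m α) (hmm : m ≤ m') :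
    IsApprox m' α := by
  refine ⟨fun i hi => h.1 i (by omega), ?_⟩
  rcases eq_or_lt_of_le hmm with rfl | hlt
  · exact h.2
  · haveI := h.1 m' hlt
    infer_instance

/-- tensoring an `m`-approximation on the right with a complex which is `< n` -/
theorem isApprox_tensor_right {A₀ B₀ : CochainComplex X.Modules ℤ} (hA : DCoh.IsKFlat A₀)
    (hB : DCoh.IsKFlat B₀) (a : A₀ ⟶ B₀) (m : ℤ) (h : IsApprox m (Q.map a))
    (E : CochainComplex X.Modules ℤ) (hE : DCoh.IsKFlat E) (n : ℤ) (hEn : Lt n (Q.obj E)) :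
    IsApprox (m + n - 1) (Q.map (((DCoh.tensorCx (X := X)).flip.obj E).map a)) := by
  have hT := DerivedCategory.mappingCone_triangle_distinguished a
  have h1 : Lt m (Q.obj (CochainComplex.mappingCone a)) := Lt_of_isApprox m _ hT h
  have h2 : Lt (m + n - 1) (Q.obj ((DCoh.tensorCx.obj (CochainComplex.mappingCone a)).obj E)) :=
    Lt_tensorCx _ _ (isKFlat_mappingCone' hA hB a) hE m n h1 hEn
  have h3 : Lt (m + n - 1) (Q.obj (CochainComplex.mappingCone
      (((DCoh.tensorCx (X := X)).flip.obj E).map a))) :=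
    h2.of_iso (Q.mapIso
      (Groth.Agent.Lib.BifCone.mapBifunctorConeIso₁ (DCoh.tensorBi (X := X)) E a))
  exact isApprox_of_Lt _ _
    (DerivedCategory.mappingCone_triangle_distinguished
      (((DCoh.tensorCx (X := X)).flip.obj E).map a)) h3

/-- tensoring an `m`-approximation on the left with a complex which is `< n` -/
theorem isApprox_tensor_left {A₀ B₀ : CochainComplex X.Modules ℤ} (hA : DCoh.IsKFlat A₀)
    (hB : DCoh.IsKFlat B₀) (a : A₀ ⟶ B₀) (m : ℤ) (h : IsApprox m (Q.map a))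
    (P : CochainComplex X.Modules ℤ) (hP : DCoh.IsKFlat P) (n : ℤ) (hPn : Lt n (Q.obj P)) :
    IsApprox (n + m - 1) (Q.map (((DCoh.tensorCx (X := X)).obj P).map a)) := by
  have hT := DerivedCategory.mappingCone_triangle_distinguished a
  have h1 : Lt m (Q.obj (CochainComplex.mappingCone a)) := Lt_of_isApprox m _ hT h
  have h2 : Lt (n + m - 1) (Q.obj ((DCoh.tensorCx.obj P).obj (CochainComplex.mappingCone a))) :=
    Lt_tensorCx _ _ hP (isKFlat_mappingCone' hA hB a) n m hPn h1
  have h3 : Lt (n + m - 1) (Q.obj (CochainComplex.mappingCone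
      (((DCoh.tensorCx (X := X)).obj P).map a))) :=
    h2.of_iso (Q.mapIso
      (Groth.Agent.Lib.BifCone.mapBifunctorConeIso₂ (DCoh.tensorBi (X := X)) P a))
  exact isApprox_of_Lt _ _
    (DerivedCategory.mappingCone_triangle_distinguished
      (((DCoh.tensorCx (X := X)).obj P).map a)) h3

/-- **the tensor product of two approximations** -/
theorem exists_approx_tensor (L' E' P P' : CochainComplex X.Modules ℤ)
    (hL' : DCoh.IsKFlat L') (hE' : DCoh.IsKFlat E') (hP : DCoh.IsKFlat P)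
    (hP' : DCoh.IsKFlat P') (m n b b₁ : ℤ)
    (α : Q.obj P ⟶ Q.obj L') (hα : IsApprox m α) (α' : Q.obj P' ⟶ Q.obj E')
    (hα' : IsApprox n α') (hEb : Lt (b + 1) (Q.obj E')) (hPb : Lt (b₁ + 1) (Q.obj P)) (t : ℤ)
    (h1 : m + b ≤ t) (h2 : n + b₁ ≤ t) :
    ∃ β : Q.obj ((DCoh.tensorCx.obj P).obj P') ⟶ Q.obj ((DCoh.tensorCx.obj L').obj E'),
      IsApprox t β := by
  obtain ⟨A₀, B₀, hA, hB, a, u, v, hfac⟩ := exists_arrow_rep α
  have ea : Q.map a = u.hom ≫ α ≫ v.inv := by
    rw [← Category.assoc, hfac, Category.assoc, Iso.hom_inv_id, Category.comp_id]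
  have ha : IsApprox m (Q.map a) := by
    rw [ea]
    exact (IsApprox.of_isIso _).comp (hα.comp (IsApprox.of_isIso _))
  have hg₁ := isApprox_tensor_right hA hB a m ha E' hE' (b + 1) hEb
  obtain ⟨e₁⟩ := nonempty_Q_tensor_iso_left hE' u
  obtain ⟨e₂⟩ := nonempty_Q_tensor_iso_left hE' v
  obtain ⟨A₀', B₀', hA', hB', a', u', v', hfac'⟩ := exists_arrow_rep α'
  have ea' : Q.map a' = u'.hom ≫ α' ≫ v'.inv := by
    rw [← Category.assoc, hfac', Category.assoc, Iso.hom_inv_id, Category.comp_id]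
  have ha' : IsApprox n (Q.map a') := by
    rw [ea']
    exact (IsApprox.of_isIso _).comp (hα'.comp (IsApprox.of_isIso _))
  have hg₂ := isApprox_tensor_left hA' hB' a' n ha' P hP (b₁ + 1) hPb
  obtain ⟨e₃⟩ := nonempty_Q_tensor_iso_right hP u'
  obtain ⟨e₄⟩ := nonempty_Q_tensor_iso_right hP v'
  refine ⟨(e₃.inv ≫ Q.map (((DCoh.tensorCx (X := X)).obj P).map a') ≫ e₄.hom) ≫
    (e₁.inv ≫ Q.map (((DCoh.tensorCx (X := X)).flip.obj E').map a) ≫ e₂.hom), ?_⟩
  refine IsApprox.comp ?_ ?_
  · exact (IsApprox.of_isIso _).comp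
      ((IsApprox.of_le hg₂ (by omega)).comp (IsApprox.of_isIso _))
  · exact (IsApprox.of_isIso _).comp
      ((IsApprox.of_le hg₁ (by omega)).comp (IsApprox.of_isIso _))

end

end Groth.Agent.Lib.TensPCH3
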