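import Mathlib
import Groth.Prelude
import Groth.Agent.Lib.TensPC1_helper3

/-!
# The derived tensor product of pseudo-coherent complexes, II (helper3)

* `isPC_tensorCx`: the tensor product of two pseudo-coherent K-flat complexes, the second one
  bounded above, is pseudo-coherent.
* `isCoh_HD_of_isPC`: on a locally Noetherian scheme a pseudo-coherent object has coherent
  cohomology sheaves.
* `main6498`: `D^-_Coh ⊗^L D^-_Coh ⊆ D^-_Coh` on a locally Noetherian scheme.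
-/

set_option autoImplicit false
set_option linter.all false
set_option maxHeartbeats 1600000
set_option backward.isDefEq.respectTransparency false
set_option backward.isDefEq.respectTransparency.types false
set_option backward.defeqAttrib.useBackward true

universe u
open CategoryTheory CategoryTheory.Limits AlgebraicGeometry Opposite Pretriangulated ZeroObject

attribute [local instance] HasDerivedCategory.standard

namespace Groth.Agent.Lib.TensPCH3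

open Groth.Agent.Lib.StalkTensH3 Groth.Agent.Lib.LpullExH3 Groth.Agent.Lib.LpullCompH3
  Groth.Agent.Lib.DCohLocLead Groth.Agent.Lib.LpullLocH3 Groth.Agent.Lib.LpullPCH3
  Groth.Agent.Lib.PerfTensH3 Groth.Agent.Lib.LpullTensH3 DerivedCategory

noncomputable section

/-- `K|_Y` admits an `m`-approximation by a strictly perfect complex vanishing above `b₁`. -/
def LocApproxB (m b₁ : ℤ) {Y X : Scheme.{u}} (j : Y ⟶ X) [IsOpenImmersion j] (K : DCoh.D X) :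
    Prop :=
  ∃ (E : CochainComplex Y.Modules ℤ) (α : Q.obj E ⟶ (DD j).obj K),
    DCoh.IsStrictlyPerfect E ∧ (∀ i : ℤ, b₁ < i → IsZero (E.X i)) ∧ IsApprox m α

theorem LocApproxB.comp {m b₁ : ℤ} {Z Y X : Scheme.{u}} (k : Z ⟶ Y) (j : Y ⟶ X)
    [IsOpenImmersion k] [IsOpenImmersion j] {K : DCoh.D X} (h : LocApproxB m b₁ j K) :
    LocApproxB m b₁ (k ≫ j) K := by
  obtain ⟨E, α, hE, hb, hα⟩ := h
  obtain ⟨c⟩ := nonempty_DD_comp_iso k j K
  exact ⟨(RC k).obj E, (facIso k E).inv ≫ (DD k).map α ≫ c.inv, isStrictlyPerfect_RC k hE,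
    fun i hi => (Scheme.Modules.restrictFunctor k).map_isZero (hb i hi),
    (IsApprox.of_isIso _).comp ((hα.restrict k).comp (IsApprox.of_isIso _))⟩

theorem LocApproxB.of_eq {m b₁ : ℤ} {Y X : Scheme.{u}} {j l : Y ⟶ X} [IsOpenImmersion j]
    [IsOpenImmersion l] {K : DCoh.D X} (h : LocApproxB m b₁ j K) (e : j = l) :
    LocApproxB m b₁ l K := by
  subst e
  exact h

variable {X : Scheme.{u}}

theorem exists_locApproxB (m : ℤ) (K : DCoh.D X) (hK : DCoh.IsPseudoCoherentD m K) (x : X) :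
    ∃ (V : X.Opens) (b₁ : ℤ), x ∈ V ∧ LocApproxB m b₁ V.ι K := by
  obtain ⟨V, hxV, E, α, hE, hα⟩ := (isPC_iff m K).1 hK x
  obtain ⟨⟨a, b, hv⟩, hfl⟩ := hE
  exact ⟨V, b, hxV, E, α, ⟨⟨a, b, hv⟩, hfl⟩, fun i hi => hv i (Or.inr hi), hα⟩

/-- **the tensor product of pseudo-coherent K-flat complexes is pseudo-coherent** -/
theorem isPC_tensorCx (L₀ E₀ : CochainComplex X.Modules ℤ) (hL : DCoh.IsKFlat L₀)
    (hE : DCoh.IsKFlat E₀) (hLpc : ∀ m : ℤ, DCoh.IsPseudoCoherentD m (Q.obj L₀))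
    (hEpc : ∀ n : ℤ, DCoh.IsPseudoCoherentD n (Q.obj E₀)) (b : ℤ)
    (hEb : Lt (b + 1) (Q.obj E₀)) (t : ℤ) :
    DCoh.IsPseudoCoherentD t (Q.obj ((DCoh.tensorCx.obj L₀).obj E₀)) := by
  rw [isPC_iff]
  intro x
  obtain ⟨V₁, b₁, hx₁, h₁⟩ := exists_locApproxB (t - b) _ (hLpc (t - b)) x
  obtain ⟨V₂, b₂, hx₂, h₂⟩ := exists_locApproxB (t - b₁) _ (hEpc (t - b₁)) x
  have hV₁ : V₁ ⊓ V₂ ≤ V₁ := inf_le_left
  have hV₂ : V₁ ⊓ V₂ ≤ V₂ := inf_le_right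
  have h₁' : LocApproxB (t - b) b₁ (V₁ ⊓ V₂).ι (Q.obj L₀) :=
    (h₁.comp (X.homOfLE hV₁) V₁.ι).of_eq (X.homOfLE_ι hV₁)
  have h₂' : LocApproxB (t - b₁) b₂ (V₁ ⊓ V₂).ι (Q.obj E₀) :=
    (h₂.comp (X.homOfLE hV₂) V₂.ι).of_eq (X.homOfLE_ι hV₂)
  obtain ⟨P, α, hP, hPb, hα⟩ := h₁'
  obtain ⟨P', α', hP', hPb', hα'⟩ := h₂'
  have hL' := isKFlat_RC (V₁ ⊓ V₂).ι L₀ hL
  have hE' := isKFlat_RC (V₁ ⊓ V₂).ι E₀ hE
  have hEb' : Lt (b + 1) (Q.obj ((RC (V₁ ⊓ V₂).ι).obj E₀)) :=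
    (hEb.restrict (V₁ ⊓ V₂).ι).of_iso (facIso (V₁ ⊓ V₂).ι E₀)
  have hPb'' : Lt (b₁ + 1) (Q.obj P) :=
    Lt_Q_of_isZero_X P (b₁ + 1) (fun i hi => hPb i (by omega))
  obtain ⟨β, hβ⟩ := exists_approx_tensor ((RC (V₁ ⊓ V₂).ι).obj L₀) ((RC (V₁ ⊓ V₂).ι).obj E₀) P P'
    hL' hE' (isKFlat_of_isStrictlyPerfect hP) (isKFlat_of_isStrictlyPerfect hP') (t - b) (t - b₁)
    b b₁ (α ≫ (facIso (V₁ ⊓ V₂).ι L₀).hom) (hα.comp (IsApprox.of_isIso _))
    (α' ≫ (facIso (V₁ ⊓ V₂).ι E₀).hom) (hα'.comp (IsApprox.of_isIso _)) hEb' hPb'' t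
    (by omega) (by omega)
  exact ⟨V₁ ⊓ V₂, ⟨hx₁, hx₂⟩, (DCoh.tensorCx.obj P).obj P',
    β ≫ (Q.mapIso (restrictCxTensorIso (V₁ ⊓ V₂).ι L₀ E₀)).inv ≫ (facIso (V₁ ⊓ V₂).ι _).inv,
    isStrictlyPerfect_tensorCx hP hP', hβ.comp (IsApprox.of_isIso _)⟩

/-- **a pseudo-coherent object on a locally Noetherian scheme has coherent cohomology** -/
theorem isCoh_HD_of_isPC [IsLocallyNoetherian X] (K : DCoh.D X)
    (hK : ∀ m : ℤ, DCoh.IsPseudoCoherentD m K) (i : ℤ) : Coh.IsCoh (DCoh.HD K i) := by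
  choose V P hxV hP hiso _ using fun x : X => exists_local_approx_HD (i - 1) K (hK (i - 1)) x
  have hcov : ⨆ x, V x = ⊤ := by
    rw [eq_top_iff]
    intro x _
    exact TopologicalSpace.Opens.mem_iSup.mpr ⟨x, hxV x⟩
  have hcoh : ∀ x : X, Coh.IsCoh ((Scheme.Modules.restrictFunctor (V x).ι).obj (DCoh.HD K i)) := by
    intro x
    obtain ⟨e⟩ := hiso x i (by omega)
    exact CohDevH8.isCoh_of_iso e.symm
      (isCoh_homology (P x) (fun k => KerFreeH8.isCoh_of_finLocFree ((hP x).2 k)) i)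
  haveI hq : (DCoh.HD K i).IsQuasicoherent :=
    Groth.Agent.Lib.BModH6.isQuasicoherent_of_restrict_ι _ V hcov (fun x => (hcoh x).1)
  exact ⟨hq, isFiniteType_of_restrict _ V hcov (fun x => (hcoh x).2)⟩

/-- **`D^-_Coh ⊗^L D^-_Coh ⊆ D^-_Coh`** -/
theorem main6498 (X : Scheme.{u}) [IsLocallyNoetherian X] (E : CochainComplex X.Modules ℤ)
    [DCoh.HasLTensorCx E] (L : DCoh.D X) (hL : DCoh.IsCohD L)
    (hLb : ∃ a : ℤ, ∀ i, a < i → IsZero (DCoh.HD L i)) (hE : DCoh.IsCohD (DCoh.toD X E))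
    (hEb : ∃ b : ℤ, ∀ i, b < i → IsZero (DCoh.HD (DCoh.toD X E) i)) :
    DCoh.IsCohD ((DCoh.LTensorCx E).obj L) ∧
      ∃ n : ℤ, ∀ i, n < i → IsZero (DCoh.HD ((DCoh.LTensorCx E).obj L) i) := by
  obtain ⟨a, ha⟩ := hLb
  obtain ⟨b, hb⟩ := hEb
  obtain ⟨L₀, hL₀, ⟨eL⟩⟩ := exists_kflat_rep L
  obtain ⟨E₀, q, hE₀, hq⟩ := Groth.Agent.Lib.DTorCmp.exists_kflat_resolution' E
  haveI := hq
  haveI := quasiIso_tensor_left L₀ hL₀ q
  let e : (DCoh.LTensorCx E).obj L ≅ Q.obj ((DCoh.tensorCx.obj L₀).obj E₀) :=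
    (DCoh.LTensorCx E).mapIso eL.symm ≪≫ ltIsoLeft E L₀ hL₀ ≪≫
      (asIso (Q.map (((DCoh.tensorCx (X := X)).obj L₀).map q))).symm
  let eE : Q.obj E₀ ≅ DCoh.toD X E := asIso (Q.map q)
  have hLt : Lt (a + 1) (Q.obj L₀) := fun i hi =>
    (ha i (by omega)).of_iso ((homologyFunctor X.Modules i).mapIso eL)
  have hEt : Lt (b + 1) (Q.obj E₀) := fun i hi =>
    (hb i (by omega)).of_iso ((homologyFunctor X.Modules i).mapIso eE)
  have hLle : (Q.obj L₀).IsLE a := by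
    rw [DerivedCategory.isLE_iff]
    intro i hi
    exact hLt i (by omega)
  have hEle : (Q.obj E₀).IsLE b := by
    rw [DerivedCategory.isLE_iff]
    intro i hi
    exact hEt i (by omega)
  have hLpc : ∀ m : ℤ, DCoh.IsPseudoCoherentD m (Q.obj L₀) := fun m =>
    isPC_of_coh (Q.obj L₀) a m hLle (fun i _ =>
      CohDevH8.isCoh_of_iso ((homologyFunctor X.Modules i).mapIso eL) (hL i))
  have hEpc : ∀ m : ℤ, DCoh.IsPseudoCoherentD m (Q.obj E₀) := fun m =>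
    isPC_of_coh (Q.obj E₀) b m hEle (fun i _ =>
      CohDevH8.isCoh_of_iso ((homologyFunctor X.Modules i).mapIso eE) (hE i))
  have hpc := isPC_tensorCx L₀ E₀ hL₀ hE₀ hLpc hEpc b hEt
  have hcoh := isCoh_HD_of_isPC _ hpc
  have hlt := Lt_tensorCx L₀ E₀ hL₀ hE₀ (a + 1) (b + 1) hLt hEt
  exact ⟨fun i => CohDevH8.isCoh_of_iso ((homologyFunctor X.Modules i).mapIso e) (hcoh i),
    a + b, fun i hi => (hlt i (by omega)).of_iso ((homologyFunctor X.Modules i).mapIso e)⟩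

end

end Groth.Agent.Lib.TensPCH3
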