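import Mathlib
import Groth.Prelude
import Groth.Agent.Lib.TensPC2_helper3
import Groth.Agent.Lib.PerfFlat4_lead
import Groth.Agent.Lib.TorAmpComp_lead
import Groth.Agent.Lib.DMod41_helper6

/-!
# The derived tensor product of a perfect complex and a relatively perfect complex (helper3)

* `isPC_tensorCx_loc`: the tensor product of pseudo-coherent K-flat complexes, the second one
  locally bounded above, is pseudo-coherent.
* `isFlatOver_restrict`, `isFlatOver_tensor`, `isFlatOver_tensorCx_X`.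
* `main7249`.
-/

set_option autoImplicit false
set_option linter.all false
set_option maxHeartbeats 1600000
set_option backward.isDefEq.respectTransparency false
set_option backward.isDefEq.respectTransparency.types false
set_option backward.defeqAttrib.useBackward true

universe u
open CategoryTheory CategoryTheory.Limits AlgebraicGeometry Opposite Pretriangulated ZeroObject
open MonoidalCategory

attribute [local instance] HasDerivedCategory.standard

namespace Groth.Agent.Lib.RelPerfTensH3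

open Groth.Agent.Lib.StalkTensH3 Groth.Agent.Lib.LpullExH3 Groth.Agent.Lib.LpullCompH3
  Groth.Agent.Lib.DCohLocLead Groth.Agent.Lib.LpullLocH3 Groth.Agent.Lib.LpullPCH3
  Groth.Agent.Lib.PerfTensH3 Groth.Agent.Lib.LpullTensH3 Groth.Agent.Lib.TensPCH3 DerivedCategory

noncomputable section

/-! ### pseudo-coherence -/

section PC

variable {X : Scheme.{u}}

/-- the tensor product of pseudo-coherent K-flat complexes, the second one locally bounded above,
is pseudo-coherent -/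
theorem isPC_tensorCx_loc (L₀ E₀ : CochainComplex X.Modules ℤ) (hL : DCoh.IsKFlat L₀)
    (hE : DCoh.IsKFlat E₀) (hLpc : ∀ m : ℤ, DCoh.IsPseudoCoherentD m (Q.obj L₀))
    (hEpc : ∀ n : ℤ, DCoh.IsPseudoCoherentD n (Q.obj E₀))
    (hEb : ∀ x : X, ∃ (W : X.Opens) (b : ℤ), x ∈ W ∧ Lt (b + 1) ((DD W.ι).obj (Q.obj E₀)))
    (t : ℤ) : DCoh.IsPseudoCoherentD t (Q.obj ((DCoh.tensorCx.obj L₀).obj E₀)) := by
  rw [isPC_iff]
  intro x
  obtain ⟨W, b, hxW, hb⟩ := hEb x
  have h := isPC_tensorCx ((RC W.ι).obj L₀) ((RC W.ι).obj E₀) (isKFlat_RC W.ι L₀ hL)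
    (isKFlat_RC W.ι E₀ hE) (fun m => isPC_of_iso (facIso W.ι L₀) (isPC_restrict (hLpc m) W.ι))
    (fun n => isPC_of_iso (facIso W.ι E₀) (isPC_restrict (hEpc n) W.ι)) b
    (hb.of_iso (facIso W.ι E₀)) t
  have h' : DCoh.IsPseudoCoherentD t ((DD W.ι).obj (Q.obj ((DCoh.tensorCx.obj L₀).obj E₀))) :=
    isPC_of_iso ((Q.mapIso (restrictCxTensorIso W.ι L₀ E₀)).symm ≪≫ (facIso W.ι _).symm) h
  exact pcAt_of_isPC_restrict W hxW h'

end PC

/-! ### flatness over the base -/

section Alg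

open TensorProduct in
/-- the tensor product over `B` of a free `B`-module and a `B`-module which is flat over `A` is
flat over `A` -/
theorem flat_compHom_tensor {A B : Type u} [CommRing A] [CommRing B] (φ : A →+* B)
    (M N : Type u) [AddCommGroup M] [AddCommGroup N] [Module B M] [Module B N] [Module.Free B M]
    (hN : @Module.Flat A N _ _ (Module.compHom N φ)) :
    @Module.Flat A (M ⊗[B] N) _ _ (Module.compHom _ φ) := by
  letI mN : Module A N := Module.compHom N φ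
  letI mT : Module A (M ⊗[B] N) := Module.compHom _ φ
  haveI : Module.Flat A N := hN
  let ι := Module.Free.ChooseBasisIndex B M
  let bs : Module.Basis ι B M := Module.Free.chooseBasis B M
  let ε : M ⊗[B] N ≃ₗ[B] (ι →₀ N) :=
    (TensorProduct.congr bs.repr (LinearEquiv.refl B N)) ≪≫ₗ TensorProduct.finsuppScalarLeft B N ι
  haveI : Module.Flat A (ι →₀ N) :=
    Module.Flat.of_linearEquiv (finsuppLEquivDirectSum A N ι)
  let ε' : M ⊗[B] N ≃ₗ[A] (ι →₀ N) :=
    { ε.toAddEquiv with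
      map_smul' := fun a x => by
        show ε (φ a • x) = a • ε x
        rw [map_smul]
        ext i
        rfl }
  exact Module.Flat.of_linearEquiv ε'

end Alg

section FlatOver

variable {Y S : Scheme.{u}}

theorem isFlatOver_of_iso (g : Y ⟶ S) {M N : Y.Modules} (e : M ≅ N)
    (h : FlatMod.IsFlatOver g M) : FlatMod.IsFlatOver g N := by
  intro y
  have h1 : Module.Flat (S.presheaf.stalk (g.base y)) ((DerSch.stalkOver g y).obj M) := h y
  show Module.Flat (S.presheaf.stalk (g.base y)) ((DerSch.stalkOver g y).obj N)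
  exact Module.Flat.of_linearEquiv ((DerSch.stalkOver g y).mapIso e).symm.toLinearEquiv

theorem isFlatOver_of_isZero (g : Y ⟶ S) {M : Y.Modules} (h : IsZero M) :
    FlatMod.IsFlatOver g M := by
  intro y
  show Module.Flat (S.presheaf.stalk (g.base y)) ((DerSch.stalkOver g y).obj M)
  haveI : Subsingleton ((DerSch.stalkOver g y).obj M) :=
    ModuleCat.subsingleton_of_isZero ((DerSch.stalkOver g y).map_isZero h)
  infer_instance

theorem isFlatOver_biprod (g : Y ⟶ S) (M N : Y.Modules) (hM : FlatMod.IsFlatOver g M)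
    (hN : FlatMod.IsFlatOver g N) : FlatMod.IsFlatOver g (M ⊞ N) := by
  intro y
  show Module.Flat (S.presheaf.stalk (g.base y)) ((DerSch.stalkOver g y).obj (M ⊞ N))
  haveI : PreservesBinaryBiproducts (DerSch.stalkOver g y) :=
    preservesBinaryBiproducts_of_preservesBiproducts _
  let e : (DerSch.stalkOver g y).obj (M ⊞ N) ≅
      (DerSch.stalkOver g y).obj M ⊞ (DerSch.stalkOver g y).obj N :=
    (DerSch.stalkOver g y).mapBiprod M N
  haveI : Module.Flat (S.presheaf.stalk (g.base y))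
      ((DerSch.stalkOver g y).obj M ⊞ (DerSch.stalkOver g y).obj N :
        ModuleCat.{u} (S.presheaf.stalk (g.base y))) :=
    Groth.Agent.Lib.DMod_helper6.flat_biprod (hM y) (hN y)
  exact Module.Flat.of_linearEquiv e.toLinearEquiv

/-- flatness over the base restricts to open subschemes -/
theorem isFlatOver_restrict {Z : Scheme.{u}} (k : Z ⟶ Y) [IsOpenImmersion k] (g : Y ⟶ S)
    (N : Y.Modules) (hN : FlatMod.IsFlatOver g N) :
    FlatMod.IsFlatOver (k ≫ g) (N.restrict k) := by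
  intro z
  letI m₁ : Module (S.presheaf.stalk (g.base (k.base z))) ((N.restrict k).presheaf.stalk z) :=
    FlatMod.moduleStalkOver (k ≫ g) (N.restrict k) z
  letI m₂ : Module (S.presheaf.stalk (g.base (k.base z))) (N.presheaf.stalk (k.base z)) :=
    FlatMod.moduleStalkOver g N (k.base z)
  haveI : Module.Flat (S.presheaf.stalk (g.base (k.base z))) (N.presheaf.stalk (k.base z)) :=
    hN (k.base z)
  let ε := RestrStalkH8.restrictStalkEquiv k N z
  let e : (N.restrict k).presheaf.stalk z ≃ₗ[S.presheaf.stalk (g.base (k.base z))]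
      N.presheaf.stalk (k.base z) :=
    { ε with
      map_smul' := fun a t => by
        show ε (((k ≫ g).stalkMap z).hom a • t) = (g.stalkMap (k.base z)).hom a • ε t
        rw [RestrStalkH8.restrictStalkEquiv_smul]
        congr 1
        rw [RingEquiv.symm_apply_eq]
        exact Groth.Agent.Lib.TorAmpCompL.stalkMap_comp_apply k g z a }
  show Module.Flat (S.presheaf.stalk (g.base (k.base z))) ((N.restrict k).presheaf.stalk z)
  exact Module.Flat.of_linearEquiv e

/-- the tensor product of a finite locally free module and a module flat over the base is flat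
over the base -/
theorem isFlatOver_tensor (g : Y ⟶ S) (F N : Y.Modules) (hF : FlatMod.IsFinLocFree F)
    (hN : FlatMod.IsFlatOver g N) :
    FlatMod.IsFlatOver g (((DCoh.tensorBi (X := Y)).obj F).obj N) := by
  intro y
  haveI := FLFH8.isQuasicoherent_of_finLocFree F hF
  haveI hfree : Module.Free (Y.presheaf.stalk y) ((stk y).obj F) :=
    FLFH8.free_stalk_of_finLocFree F hF y
  have h1 : @Module.Flat (S.presheaf.stalk (g.base y)) ((stk y).obj N) _ _
      (Module.compHom _ (g.stalkMap y).hom) := hN y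
  have h2 := flat_compHom_tensor (g.stalkMap y).hom ((stk y).obj F) ((stk y).obj N) h1
  show Module.Flat (S.presheaf.stalk (g.base y))
    ((ModuleCat.restrictScalars (g.stalkMap y).hom).obj
      ((stk y).obj (((DCoh.tensorBi (X := Y)).obj F).obj N)))
  have h3 : Module.Flat (S.presheaf.stalk (g.base y))
      ((ModuleCat.restrictScalars (g.stalkMap y).hom).obj
        ((stk y).obj F ⊗ (stk y).obj N)) := h2
  exact Module.Flat.of_linearEquiv
    ((ModuleCat.restrictScalars (g.stalkMap y).hom).mapIso (stalkTensorIso y F N)).toLinearEquiv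

/-- the terms of the tensor product of a strictly perfect complex and a complex of modules flat
over the base are flat over the base -/
theorem isFlatOver_tensorCx_X (g : Y ⟶ S) (P G : CochainComplex Y.Modules ℤ)
    (hP : DCoh.IsStrictlyPerfect P) (hG : ∀ i : ℤ, FlatMod.IsFlatOver g (G.X i)) (n : ℤ) :
    FlatMod.IsFlatOver g (((DCoh.tensorCx.obj P).obj G).X n) := by
  obtain ⟨⟨a₁, b₁, hb₁⟩, hf₁⟩ := hP
  let γ : ℤ → Groth.Agent.Lib.BifSES.Idx n := fun p => ⟨(p, n - p), by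
    show p + (n - p) = n
    omega⟩
  refine prop_of_finite_support (C := Y.Modules) (FlatMod.IsFlatOver g)
    (fun e h => isFlatOver_of_iso g e h) (fun A hA => isFlatOver_of_isZero g hA)
    (fun A B hA hB => isFlatOver_biprod g A B hA hB) _ _ _
    (Groth.Agent.Lib.BifSES.totCofan (DCoh.tensorBi (X := Y)) P G n)
    (Groth.Agent.Lib.BifSES.isColimitTotCofan (DCoh.tensorBi (X := Y)) P G n)
    ((Finset.Icc a₁ b₁).image γ) rfl ?_ ?_
  · intro x hx
    have hp : x.1.1 < a₁ ∨ b₁ < x.1.1 := by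
      by_contra hcon
      rw [not_or, not_lt, not_lt] at hcon
      apply hx
      rw [Finset.mem_image]
      refine ⟨x.1.1, Finset.mem_Icc.mpr hcon, ?_⟩
      apply Subtype.ext
      have hx2 : x.1.1 + x.1.2 = n := x.2
      show (x.1.1, n - x.1.1) = x.1
      refine Prod.ext rfl ?_
      show n - x.1.1 = x.1.2
      omega
    exact Functor.map_isZero ((DCoh.tensorBi (X := Y)).flip.obj (G.X x.1.2)) (hb₁ x.1.1 hp)
  · intro x
    exact isFlatOver_tensor g _ _ (hf₁ x.1.1) (hG x.1.2)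

end FlatOver

/-! ### the main theorem -/

section Main

/-- the terms of `Tot (K ⊗ L)` vanish outside the sum of the ranges -/
theorem vanishesOutside_tensorCx {X : Scheme.{u}} (K L : CochainComplex X.Modules ℤ)
    (a₁ b₁ a₂ b₂ : ℤ) (hK : DCoh.VanishesOutside K a₁ b₁) (hL : DCoh.VanishesOutside L a₂ b₂) :
    DCoh.VanishesOutside ((DCoh.tensorCx.obj K).obj L) (a₁ + a₂) (b₁ + b₂) := by
  intro n hn
  apply Groth.Agent.Lib.KFlatSite.isZero_mapBifunctor_X (DCoh.tensorBi (X := X))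
  intro p q hpq
  by_cases hp : p < a₁ ∨ b₁ < p
  · exact Functor.map_isZero ((DCoh.tensorBi (X := X)).flip.obj (L.X q)) (hK p hp)
  · exact Functor.map_isZero ((DCoh.tensorBi (X := X)).obj (K.X p)) (hL q (by omega))

/-- restriction in two steps -/
def RCcompIso {Z Y X : Scheme.{u}} (k : Z ⟶ Y) (j : Y ⟶ X) (l : Z ⟶ X) [IsOpenImmersion k]
    [IsOpenImmersion j] [IsOpenImmersion l] (h : k ≫ j = l) (F : CochainComplex X.Modules ℤ) :
    (RC k).obj ((RC j).obj F) ≅ (RC l).obj F := by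
  subst h
  exact ((NatIso.mapHomologicalComplex (Scheme.Modules.restrictFunctorComp k j)
    (ComplexShape.up ℤ)).app F).symm

/-- restricting an isomorphism `Q A ≅ Q (F|_Y)` further -/
def restrictIsoComp {Z Y X : Scheme.{u}} (k : Z ⟶ Y) (j : Y ⟶ X) (l : Z ⟶ X) [IsOpenImmersion k]
    [IsOpenImmersion j] [IsOpenImmersion l] (h : k ≫ j = l) {A : CochainComplex Y.Modules ℤ}
    {F : CochainComplex X.Modules ℤ} (e : Q.obj A ≅ Q.obj ((RC j).obj F)) :
    Q.obj ((RC k).obj A) ≅ Q.obj ((RC l).obj F) :=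
  (facIso k A).symm ≪≫ (DD k).mapIso e ≪≫ facIso k _ ≪≫ Q.mapIso (RCcompIso k j l h F)

theorem isFlatOver_congr {Y S : Scheme.{u}} {g g' : Y ⟶ S} (h : g = g') {N : Y.Modules}
    (hN : FlatMod.IsFlatOver g N) : FlatMod.IsFlatOver g' N := by
  subst h
  exact hN

/-- **a perfect complex tensor a relatively perfect complex is relatively perfect** -/
theorem main7249 {X S : Scheme.{u}} (f : X ⟶ S) [Flat f] [LocallyOfFinitePresentation f]
    (K : DCoh.D X) (hK : DCoh.IsPerfect K) (M : CochainComplex X.Modules ℤ)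
    (hMpc : ∀ m : ℤ, DCoh.IsPseudoCoherentD m (DCoh.toD X M))
    (hMtor : DCoh.LocHasFiniteRelTorDim f (DCoh.toD X M)) [DCoh.HasLTensorCx M] :
    (∀ m : ℤ, DCoh.IsPseudoCoherentD m ((DCoh.LTensorCx M).obj K)) ∧
      DCoh.LocHasFiniteRelTorDim f ((DCoh.LTensorCx M).obj K) := by
  obtain ⟨K₀, hK₀, ⟨eK⟩⟩ := exists_kflat_rep K
  obtain ⟨M₀, q, hM₀, hq⟩ := Groth.Agent.Lib.DTorCmp.exists_kflat_resolution' M
  haveI := hq
  haveI := quasiIso_tensor_left K₀ hK₀ q
  let e : (DCoh.LTensorCx M).obj K ≅ Q.obj ((DCoh.tensorCx.obj K₀).obj M₀) :=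
    (DCoh.LTensorCx M).mapIso eK.symm ≪≫ ltIsoLeft M K₀ hK₀ ≪≫
      (asIso (Q.map (((DCoh.tensorCx (X := X)).obj K₀).map q))).symm
  let eM : Q.obj M₀ ≅ DCoh.toD X M := asIso (Q.map q)
  constructor
  · intro t
    refine isPC_of_iso e.symm (isPC_tensorCx_loc K₀ M₀ hK₀ hM₀
      (fun m => isPC_of_iso eK.symm (isPC_of_isPerfect hK m))
      (fun n => isPC_of_iso eM.symm (hMpc n)) ?_ t)
    intro x
    obtain ⟨V, a, b, hxV, hV⟩ := hMtor x
    obtain ⟨G, hG, -, ⟨eG⟩⟩ := hV M ⟨Iso.refl _⟩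
    refine ⟨V, b, hxV, ?_⟩
    have h1 : Lt (b + 1) (Q.obj G) :=
      Lt_Q_of_isZero_X G (b + 1) (fun i hi => hG i (Or.inr (by omega)))
    exact h1.of_iso (eG ≪≫ (facIso V.ι M).symm ≪≫ (DD V.ι).mapIso eM.symm)
  · intro x
    obtain ⟨V₁, hx₁, P, hP, ⟨eP⟩⟩ := (isPerfect_iff K).1 hK x
    obtain ⟨V₂, a, b, hx₂, hV₂⟩ := hMtor x
    obtain ⟨G, hG, hGfl, ⟨eG⟩⟩ := hV₂ M ⟨Iso.refl _⟩
    have hP' : DCoh.IsStrictlyPerfect P := hP
    obtain ⟨⟨a₁, b₁, hPv⟩, hPf⟩ := hP'
    have hV₁ : V₁ ⊓ V₂ ≤ V₁ := inf_le_left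
    have hV₂' : V₁ ⊓ V₂ ≤ V₂ := inf_le_right
    refine ⟨V₁ ⊓ V₂, a₁ + a, b₁ + b, ⟨hx₁, hx₂⟩, fun F' hF' => ?_⟩
    obtain ⟨i⟩ := hF'
    have hP₁ : DCoh.IsStrictlyPerfect ((RC (X.homOfLE hV₁)).obj P) :=
      isStrictlyPerfect_RC (X.homOfLE hV₁) hP
    have hPv₁ : DCoh.VanishesOutside ((RC (X.homOfLE hV₁)).obj P) a₁ b₁ := fun j hj =>
      (Scheme.Modules.restrictFunctor (X.homOfLE hV₁)).map_isZero (hPv j hj)
    have hGv₁ : DCoh.VanishesOutside ((RC (X.homOfLE hV₂')).obj G) a b := fun j hj =>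
      (Scheme.Modules.restrictFunctor (X.homOfLE hV₂')).map_isZero (hG j hj)
    have hGfl₁ : ∀ j : ℤ, FlatMod.IsFlatOver ((V₁ ⊓ V₂).ι ≫ f)
        (((RC (X.homOfLE hV₂')).obj G).X j) := fun j =>
      isFlatOver_congr (by rw [← Category.assoc, X.homOfLE_ι])
        (isFlatOver_restrict (X.homOfLE hV₂') (V₂.ι ≫ f) (G.X j) (hGfl j))
    let eG' : Q.obj ((RC (X.homOfLE hV₂')).obj G) ≅ Q.obj ((RC (V₁ ⊓ V₂).ι).obj M) :=
      restrictIsoComp (X.homOfLE hV₂') V₂.ι (V₁ ⊓ V₂).ι (X.homOfLE_ι hV₂') eG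
    let eP₀ : Q.obj P ≅ Q.obj ((RC V₁.ι).obj K₀) :=
      eP.symm ≪≫ (DD V₁.ι).mapIso eK.symm ≪≫ facIso V₁.ι K₀
    let eP' : Q.obj ((RC (X.homOfLE hV₁)).obj P) ≅ Q.obj ((RC (V₁ ⊓ V₂).ι).obj K₀) :=
      restrictIsoComp (X.homOfLE hV₁) V₁.ι (V₁ ⊓ V₂).ι (X.homOfLE_ι hV₁) eP₀
    let eM' : Q.obj ((RC (V₁ ⊓ V₂).ι).obj M₀) ≅ Q.obj ((RC (V₁ ⊓ V₂).ι).obj M) :=
      (facIso (V₁ ⊓ V₂).ι M₀).symm ≪≫ (DD (V₁ ⊓ V₂).ι).mapIso eM ≪≫ facIso (V₁ ⊓ V₂).ι M
    obtain ⟨e3⟩ := nonempty_Q_tensor_iso (isKFlat_RC (V₁ ⊓ V₂).ι M₀ hM₀)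
      (isKFlat_of_isStrictlyPerfect hP₁) eP'.symm (eM' ≪≫ eG'.symm)
    exact ⟨(DCoh.tensorCx.obj ((RC (X.homOfLE hV₁)).obj P)).obj ((RC (X.homOfLE hV₂')).obj G),
      vanishesOutside_tensorCx _ _ a₁ b₁ a b hPv₁ hGv₁,
      fun n => isFlatOver_tensorCx_X ((V₁ ⊓ V₂).ι ≫ f) _ _ hP₁ hGfl₁ n,
      ⟨e3.symm ≪≫ (Q.mapIso (restrictCxTensorIso (V₁ ⊓ V₂).ι K₀ M₀)).symm ≪≫
        (facIso (V₁ ⊓ V₂).ι _).symm ≪≫ (DD (V₁ ⊓ V₂).ι).mapIso (e.symm ≪≫ i.symm) ≪≫
        facIso (V₁ ⊓ V₂).ι F'⟩⟩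

end Main

end

end Groth.Agent.Lib.RelPerfTensH3
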