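import Mathlib
import Groth.Prelude
import Groth.Agent.Lib.FibPt3_helper9
import Groth.Agent.S1026
import Groth.Agent.Lib.RelPerfTens_helper3
import Groth.Agent.Lib.FlatBC3_helper8
import Groth.Agent.Lib.CurveCM1_helper8
import Groth.Agent.Lib.RegFlatPow_helper4
import Groth.Agent.Lib.ConsMod1_helper2
import Groth.Agent.Lib.Snap1_helper9
import Groth.Agent.Lib.FibAmp5_helper2

/-!
# Fibres over rational points, part 4: Euler characteristics in a family over a connected base
(helper9)
For `X` proper over a field `k`, `T` a connected `k`-scheme locally of finite type, `M` an invertible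
module on `X ×_k T` and `F` coherent on `X`: `χ(F ⊗ M_t)` does not depend on the rational point `t`.
APPEND-ONLY once landed.
-/

set_option autoImplicit false
universe u
open AlgebraicGeometry CategoryTheory CategoryTheory.Limits TopologicalSpace

namespace FibPt

section Family

variable (k : Type u) [Field k] (X : Scheme.{u}) [X.Over (Spec (CommRingCat.of k))]
  {T : Scheme.{u}} (q : T ⟶ Spec (CommRingCat.of k))

/-- the slice over a rational point is the pullback of the second projection -/
theorem isPullback_sliceAt (t : Spec (CommRingCat.of k) ⟶ T) (ht : t ≫ q = 𝟙 _) :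
    IsPullback (Pic13.sliceAt k X q t ht) (X ↘ Spec (CommRingCat.of k))
      (pullback.snd (X ↘ Spec (CommRingCat.of k)) q) t := by
  have hfst : Pic13.sliceAt k X q t ht ≫ pullback.fst (X ↘ Spec (CommRingCat.of k)) q = 𝟙 X := by
    unfold Pic13.sliceAt
    exact pullback.lift_fst _ _ _
  have hsnd : Pic13.sliceAt k X q t ht ≫ pullback.snd (X ↘ Spec (CommRingCat.of k)) q =
      (X ↘ Spec (CommRingCat.of k)) ≫ t := by
    unfold Pic13.sliceAt
    exact pullback.lift_snd _ _ _
  have hright : IsPullback (pullback.fst (X ↘ Spec (CommRingCat.of k)) q)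
      (pullback.snd (X ↘ Spec (CommRingCat.of k)) q) (X ↘ Spec (CommRingCat.of k)) q :=
    IsPullback.of_hasPullback _ _
  refine IsPullback.of_right ?_ hsnd hright
  rw [hfst, ht]
  exact IsPullback.id_horiz _

end Family

section Const

variable (k : Type u) [Field k] (X : Scheme.{u}) [X.Over (Spec (CommRingCat.of k))]
  [IsProper (X ↘ Spec (CommRingCat.of k))]
  {T : Scheme.{u}} (q : T ⟶ Spec (CommRingCat.of k)) [LocallyOfFiniteType q]

/-- the family `pr₁^* F ⊗ M` on `X ×_k T` -/
noncomputable def famMod (F : X.Modules) (M : (Pic13.prodK k X q).Modules) :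
    (Pic13.prodK k X q).Modules :=
  CohB1.tensorMod
    ((Scheme.Modules.pullback (pullback.fst (X ↘ Spec (CommRingCat.of k)) q)).obj F) M

/-- the slice of the family over a rational point `t` is `F ⊗ M_t` -/
theorem nonempty_slice_famMod_iso (F : X.Modules) (M : (Pic13.prodK k X q).Modules)
    (hM : PicF.IsInvertible M) (t : Spec (CommRingCat.of k) ⟶ T) (ht : t ≫ q = 𝟙 _) :
    Nonempty ((Scheme.Modules.pullback (Pic13.sliceAt k X q t ht)).obj (famMod k X q F M) ≅
      CohB1.tensorMod F (Pic13.fibreMod k X q t ht M)) := by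
  unfold famMod Pic13.fibreMod
  obtain ⟨e1⟩ := Groth.Agent.Lib.FibAmpH2.nonempty_pullback_tensor_iso
    (Pic13.sliceAt k X q t ht)
    ((Scheme.Modules.pullback (pullback.fst (X ↘ Spec (CommRingCat.of k)) q)).obj F) hM
  have hfst : Pic13.sliceAt k X q t ht ≫ pullback.fst (X ↘ Spec (CommRingCat.of k)) q = 𝟙 X := by
    unfold Pic13.sliceAt
    exact pullback.lift_fst _ _ _
  have e2 : (Scheme.Modules.pullback (Pic13.sliceAt k X q t ht)).obj
      ((Scheme.Modules.pullback (pullback.fst (X ↘ Spec (CommRingCat.of k)) q)).obj F) ≅ F :=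
    (Scheme.Modules.pullbackComp _ _).app F ≪≫ (Scheme.Modules.pullbackCongr hfst).app F ≪≫
      (Scheme.Modules.pullbackId X).app F
  exact ⟨e1 ≪≫ Groth.Agent.TensInv.mapR e2 _⟩

/-- **constancy of the Euler characteristic in a family over a connected base** -/
theorem euler_fibre_const [ConnectedSpace T] (F : X.Modules) (hF : Coh.IsCoh F)
    (M : (Pic13.prodK k X q).Modules) (hM : PicF.IsInvertible M)
    (t t₀ : Spec (CommRingCat.of k) ⟶ T) (ht : t ≫ q = 𝟙 _) (ht₀ : t₀ ≫ q = 𝟙 _) :
    Curv2.euler k X (CohB1.tensorMod F (Pic13.fibreMod k X q t ht M)) =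
      Curv2.euler k X (CohB1.tensorMod F (Pic13.fibreMod k X q t₀ ht₀ M)) := by
  haveI : IsLocallyNoetherian (Spec (CommRingCat.of k)) := inferInstance
  haveI : IsLocallyNoetherian X :=
    LocallyOfFiniteType.isLocallyNoetherian (X ↘ Spec (CommRingCat.of k))
  haveI : LocallyOfFinitePresentation (X ↘ Spec (CommRingCat.of k)) := by
    rw [HasRingHomProperty.iff_appLE (P := @LocallyOfFinitePresentation)]
    intro U V e
    have h1 := HasRingHomProperty.appLE (P := @LocallyOfFiniteType)
      (X ↘ Spec (CommRingCat.of k)) inferInstance U V e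
    haveI : IsNoetherianRing Γ(Spec (CommRingCat.of k), U.1) :=
      IsLocallyNoetherian.component_noetherian U
    exact RingHom.FinitePresentation.of_finiteType.1 h1
  set f : Pic13.prodK k X q ⟶ T := pullback.snd (X ↘ Spec (CommRingCat.of k)) q with hf
  set pr : Pic13.prodK k X q ⟶ X := pullback.fst (X ↘ Spec (CommRingCat.of k)) q with hpr
  haveI : IsLocallyNoetherian T := LocallyOfFiniteType.isLocallyNoetherian q
  haveI : IsLocallyNoetherian (Pic13.prodK k X q) := LocallyOfFiniteType.isLocallyNoetherian f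
  -- coherence and finite presentation
  have hPF : Coh.IsCoh ((Scheme.Modules.pullback pr).obj F) :=
    Groth.Agent.Lib.ConsModH2.isCoh_pullback pr F hF
  have h𝓕 : Coh.IsCoh (famMod k X q F M) := Snap9.isCoh_tensorMod hPF hM
  haveI := h𝓕.1
  haveI := h𝓕.2
  have hFP : CohB1.IsFP (famMod k X q F M) := FLFH8.isFinitePresentation_of_isCoh _
  -- flatness
  haveI := hF.1
  have hflat0 : ∀ z : Pic13.prodK k X q,
      FlatMod.IsFlatOverAt (X ↘ Spec (CommRingCat.of k)) F (pr z) := by
    intro z
    exact @Groth.Agent.Lib.RegFlatPowH4.flat_of_isField _ _ _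
      (Groth.Agent.Lib.CurveCMH8.isField_stalk_spec_field k _) _
      (FlatMod.moduleStalkOver (X ↘ Spec (CommRingCat.of k)) F (pr z))
  have hpb : IsPullback pr f (X ↘ Spec (CommRingCat.of k)) q := IsPullback.of_hasPullback _ _
  have hflat1 : FlatMod.IsFlatOver f ((Scheme.Modules.pullback pr).obj F) :=
    fun z => FlatBC2H8.isFlatOverAt_pullback hpb F z (hflat0 z)
  have hflat2 : FlatMod.IsFlatOver f (CohB1.tensorMod M ((Scheme.Modules.pullback pr).obj F)) :=
    Groth.Agent.Lib.RelPerfTensH3.isFlatOver_tensor f M _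
      (TensH8.isFinLocFree_of_isInvertible hM) hflat1
  have hflat : FlatMod.IsFlatOver f (famMod k X q F M) :=
    Groth.Agent.Lib.RelPerfTensH3.isFlatOver_of_iso f (Groth.Agent.TensInv.comm M _) hflat2
  -- local constancy
  have hlc := Groth.Agent.S1026.result f (famMod k X q F M) hFP hflat
  have hconst := hlc.apply_eq_of_preconnectedSpace (ptOf t) (ptOf t₀)
  -- identification of the fibres
  have key : ∀ (t : Spec (CommRingCat.of k) ⟶ T) (ht : t ≫ q = 𝟙 _),
      PerfAux.eulerChar f (famMod k X q F M) (ptOf t) =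
        Curv2.euler k X (CohB1.tensorMod F (Pic13.fibreMod k X q t ht M)) := by
    intro t ht
    obtain ⟨ε⟩ := nonempty_slice_famMod_iso k X q F M hM t ht
    rw [← CurveTens.euler_of_iso k X ε]
    unfold PerfAux.eulerChar Curv2.euler
    refine finsum_congr (fun i => ?_)
    rw [betti_eq_finrank f q t ht (Pic13.sliceAt k X q t ht) (X ↘ Spec (CommRingCat.of k))
      (isPullback_sliceAt k X q t ht) (famMod k X q F M) i]
    rfl
  rw [← key t ht, ← key t₀ ht₀]
  exact hconst

end Const

end FibPt
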