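import Mathlib
import Groth.Prelude
import Groth.Agent.Lib.FibPt4_helper9
import Groth.Agent.Lib.TensPowApi_helper9
import Groth.Agent.Lib.Snap2_helper9

/-!
# Invertible modules τ-equivalent to zero do not change Euler characteristics (helper9)
**S4276**.
APPEND-ONLY once landed.
-/

set_option autoImplicit false
universe u
open AlgebraicGeometry CategoryTheory CategoryTheory.Limits TopologicalSpace

namespace TauEq

section Seq

/-- the backward difference of a sequence -/
def δ (a : ℕ → ℤ) : ℕ → ℤ := fun m => a m - a (m + 1)

/-- a periodic sequence with a vanishing iterated difference is constant -/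
theorem const_of_periodic (n : ℕ) (hn : 0 < n) : ∀ (D : ℕ) (a : ℕ → ℤ),
    (∀ m, a (m + n) = a m) → (∀ m, (δ^[D] a) m = 0) → ∀ m, a (m + 1) = a m := by
  intro D
  induction D with
  | zero =>
    intro a _ h0 m
    have h1 : ∀ m, a m = 0 := h0
    rw [h1, h1]
  | succ D ih =>
    intro a hper h0 m
    have hb_per : ∀ m, δ a (m + n) = δ a m := by
      intro m
      unfold δ
      rw [hper m, show m + n + 1 = (m + 1) + n by ring, hper (m + 1)]
    have hb0 : ∀ m, (δ^[D] (δ a)) m = 0 := by
      intro m
      have := h0 m
      rwa [Function.iterate_succ_apply] at this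
    have hb := ih (δ a) hb_per hb0
    have hbc : ∀ m, δ a m = δ a 0 := by
      intro m
      induction m with
      | zero => rfl
      | succ m ihm => rw [hb m, ihm]
    have ha : ∀ m : ℕ, a m = a 0 - m * δ a 0 := by
      intro m
      induction m with
      | zero => simp
      | succ m ihm =>
        have h1 : δ a m = a m - a (m + 1) := rfl
        have h2 := hbc m
        push_cast
        linarith
    have hn0 : (n : ℤ) * δ a 0 = 0 := by
      have h1 := ha n
      have h2 := hper 0
      rw [zero_add] at h2
      linarith
    have hc : δ a 0 = 0 := by
      rcases mul_eq_zero.mp hn0 with h | h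
      · exact absurd (by exact_mod_cast h) hn.ne'
      · exact h
    have h1 : δ a m = a m - a (m + 1) := rfl
    have h2 := hbc m
    linarith

end Seq

end TauEq
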