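import Mathlib
import Groth.Prelude.Def_WeilCoh

/-! Formal consequences of the axioms of a Weil cohomology theory: the characterisation of the
push-forward and the non-degeneracy of the Poincaré pairing. helper5. -/

universe u v w

open CategoryTheory AlgebraicGeometry

namespace Groth.Agent.Lib.WeilCohH5

open WeilCoh

variable {k : Type u} [Field k] {P : ObjectProperty (Over (Spec (CommRingCat.of k)))}
variable {K : Type v} [Field K] (T : WeilCoh.TheoryOn.{u, v, w} k P K)

lemma pairing_apply {A : Type w} [Ring A] [Algebra K A] (S S' : Submodule K A) (t : A →ₗ[K] K)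
    (a : S) (b : S') : WeilCoh.pairing K S S' t a b = t ((a : A) * (b : A)) := rfl

/-- The defining property of the push-forward. -/
lemma push_spec {X Y : P.FullSubcategory} (f : X ⟶ Y) (i : ℤ) (a : T.gr X i)
    (b : T.gr Y (2 * (dim X.obj.left : ℤ) - i)) :
    T.tr Y ((T.push f i a : T.H Y) * (b : T.H Y)) = T.tr X ((a : T.H X) * T.pull f (b : T.H Y)) := by
  haveI := T.duality Y (i + 2 * (dim Y.obj.left : ℤ) - 2 * (dim X.obj.left : ℤ))
    (2 * (dim X.obj.left : ℤ) - i) (by omega)
  have h := LinearMap.congr_fun (LinearMap.apply_symm_toPerfPair_self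
    (pairing K (T.gr Y (i + 2 * (dim Y.obj.left : ℤ) - 2 * (dim X.obj.left : ℤ)))
      (T.gr Y (2 * (dim X.obj.left : ℤ) - i)) (T.tr Y)) (T.pushFunctional f i a)) b
  exact h

/-- Non-degeneracy: two classes of degree `m` with the same pairings against degree `n`,
`m + n = 2 dim`, are equal. -/
lemma dual_inj (Y : P.FullSubcategory) (m n : ℤ) (hmn : m + n = 2 * (dim Y.obj.left : ℤ))
    (x y : T.H Y) (hx : x ∈ T.gr Y m) (hy : y ∈ T.gr Y m)
    (h : ∀ b : T.H Y, b ∈ T.gr Y n → T.tr Y (x * b) = T.tr Y (y * b)) : x = y := by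
  haveI := T.duality Y m n hmn
  have hinj := (LinearMap.IsPerfPair.bijective_left (pairing K (T.gr Y m) (T.gr Y n) (T.tr Y))).1
  have : (⟨x, hx⟩ : T.gr Y m) = ⟨y, hy⟩ := by
    apply hinj
    refine LinearMap.ext fun b => ?_
    exact h b b.2
  exact congrArg Subtype.val this

end Groth.Agent.Lib.WeilCohH5
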