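import Mathlib
import Groth.Prelude.Def_WeilCoh
import Groth.Agent.Lib.WeilCoh_helper5

/-! Formal consequences of the axioms of a Weil cohomology theory (helper9): dimension of a
product, trace of a product for all classes, push-forward characterisation against all classes,
Künneth induction, dual bases, the action of a correspondence, the bijection
`H^{2 dim X + r}(X × Y) ≃ Hom^r(H X, H Y)` and the Lefschetz trace formula for correspondences.
APPEND-ONLY once landed. -/

universe u v w

open CategoryTheory AlgebraicGeometry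

namespace Groth.Agent.WCF9

open WeilCoh Groth.Agent.Lib.WeilCohH5

variable {k : Type u} [Field k] {Pr : ObjectProperty (Over (Spec (CommRingCat.of k)))}
variable {K : Type v} [Field K] (T : WeilCoh.TheoryOn.{u, v, w} k Pr K)

/-- Induction on sums of homogeneous elements. -/
lemma hom_induction (X : Pr.FullSubcategory) {motive : T.H X → Prop}
    (mem : ∀ (i : ℤ) (x : T.H X), x ∈ T.gr X i → motive x)
    (add : ∀ x y, motive x → motive y → motive (x + y)) (x : T.H X) : motive x := by
  have hx : x ∈ ⨆ i, T.gr X i := by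
    rw [(T.decomp X).submodule_iSup_eq_top]; trivial
  exact Submodule.iSup_induction (T.gr X) (motive := motive) hx mem
    (mem 0 0 (Submodule.zero_mem _)) add

lemma eq_zero_of_vanish (X : Pr.FullSubcategory) (i : ℤ) (x : T.H X) (hx : x ∈ T.gr X i)
    (hi : i < 0 ∨ 2 * (dim X.obj.left : ℤ) < i) : x = 0 := by
  rw [T.vanish X i hi] at hx
  exact (Submodule.mem_bot K).1 hx

include T in
lemma dim_prod {X Y Q : Pr.FullSubcategory} (p : Q ⟶ X) (q : Q ⟶ Y) (hQ : IsProd p q) :
    dim Q.obj.left = dim X.obj.left + dim Y.obj.left := by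
  obtain ⟨a, ha⟩ := (T.tr_bijective X).2 1
  obtain ⟨b, hb⟩ := (T.tr_bijective Y).2 1
  have ha' : T.tr X (a : T.H X) = 1 := ha
  have hb' : T.tr Y (b : T.H Y) = 1 := hb
  have h1 : T.tr Q (T.pull p (a : T.H X) * T.pull q (b : T.H Y)) = 1 := by
    rw [T.tr_prod p q hQ a b a.2 b.2, ha', hb', one_mul]
  have hmem : T.pull p (a : T.H X) * T.pull q (b : T.H Y) ∈
      T.gr Q (2 * (dim X.obj.left : ℤ) + 2 * (dim Y.obj.left : ℤ)) :=
    SetLike.mul_mem_graded (T.pull_mem p _ _ a.2) (T.pull_mem q _ _ b.2)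
  by_contra hne
  have h0 := T.tr_vanish Q _ _ hmem (by omega)
  rw [h1] at h0
  exact one_ne_zero h0

/-- The trace of a product square is multiplicative on all classes. -/
lemma tr_prod_all {X Y Q : Pr.FullSubcategory} (p : Q ⟶ X) (q : Q ⟶ Y) (hQ : IsProd p q)
    (a : T.H X) (b : T.H Y) :
    T.tr Q (T.pull p a * T.pull q b) = T.tr X a * T.tr Y b := by
  have hd := dim_prod T p q hQ
  refine hom_induction T X
    (motive := fun a => T.tr Q (T.pull p a * T.pull q b) = T.tr X a * T.tr Y b) ?_ ?_ a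
  · intro i a ha
    refine hom_induction T Y
      (motive := fun b => T.tr Q (T.pull p a * T.pull q b) = T.tr X a * T.tr Y b) ?_ ?_ b
    · intro j b hb
      by_cases hij : i = 2 * (dim X.obj.left : ℤ) ∧ j = 2 * (dim Y.obj.left : ℤ)
      · obtain ⟨rfl, rfl⟩ := hij
        exact T.tr_prod p q hQ a b ha hb
      · have hR : T.tr X a * T.tr Y b = 0 := by
          by_cases h1 : i = 2 * (dim X.obj.left : ℤ)
          · have h2 : j ≠ 2 * (dim Y.obj.left : ℤ) := fun h => hij ⟨h1, h⟩
            rw [T.tr_vanish Y j b hb h2, mul_zero]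
          · rw [T.tr_vanish X i a ha h1, zero_mul]
        rw [hR]
        by_cases hs : i + j = 2 * (dim Q.obj.left : ℤ)
        · by_cases h1 : 2 * (dim X.obj.left : ℤ) < i
          · rw [eq_zero_of_vanish T X i a ha (Or.inr h1), map_zero, zero_mul, map_zero]
          · have h2 : 2 * (dim Y.obj.left : ℤ) < j := by omega
            rw [eq_zero_of_vanish T Y j b hb (Or.inr h2), map_zero, mul_zero, map_zero]
        · exact T.tr_vanish Q (i + j) _
            (SetLike.mul_mem_graded (T.pull_mem p i a ha) (T.pull_mem q j b hb)) hs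
    · intro x y hx hy
      rw [map_add, mul_add, map_add, map_add, mul_add, hx, hy]
  · intro x y hx hy
    rw [map_add, add_mul, map_add, map_add, add_mul, hx, hy]

/-- The defining property of the push-forward, against all classes. -/
lemma push_spec_all {X Y : Pr.FullSubcategory} (f : X ⟶ Y) (i : ℤ) (a : T.gr X i) (β : T.H Y) :
    T.tr Y ((T.push f i a : T.H Y) * β) = T.tr X ((a : T.H X) * T.pull f β) := by
  refine hom_induction T Y
    (motive := fun β => T.tr Y ((T.push f i a : T.H Y) * β) = T.tr X ((a : T.H X) * T.pull f β))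
    ?_ ?_ β
  · intro j b hb
    by_cases hj : j = 2 * (dim X.obj.left : ℤ) - i
    · subst hj
      exact push_spec T f i a ⟨b, hb⟩
    · rw [T.tr_vanish Y _ _ (SetLike.mul_mem_graded (T.push f i a).2 hb) (by omega),
        T.tr_vanish X _ _ (SetLike.mul_mem_graded a.2 (T.pull_mem f j b hb)) (by omega)]
  · intro x y hx hy
    rw [mul_add, map_add, map_add, mul_add, map_add, hx, hy]

lemma dual_inj_all (Y : Pr.FullSubcategory) (m : ℤ) (x y : T.H Y) (hx : x ∈ T.gr Y m)
    (hy : y ∈ T.gr Y m) (h : ∀ b : T.H Y, T.tr Y (x * b) = T.tr Y (y * b)) : x = y :=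
  dual_inj T Y m (2 * (dim Y.obj.left : ℤ) - m) (by omega) x y hx hy (fun b _ => h b)

/-- Characterisation of the push-forward of a class. -/
lemma push_eq {X Y : Pr.FullSubcategory} (f : X ⟶ Y) (i : ℤ) (a : T.gr X i) (y : T.H Y) (m : ℤ)
    (hm : m = i + 2 * (dim Y.obj.left : ℤ) - 2 * (dim X.obj.left : ℤ)) (hy : y ∈ T.gr Y m)
    (h : ∀ β : T.H Y, T.tr Y (y * β) = T.tr X ((a : T.H X) * T.pull f β)) :
    (T.push f i a : T.H Y) = y := by
  subst hm
  exact dual_inj_all T Y _ _ _ (T.push f i a).2 hy (fun b => by rw [push_spec_all, h])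

lemma kunnethMap_tmul {A B C : Type w} [Ring A] [Algebra K A] [Ring B] [Algebra K B] [Ring C]
    [Algebra K C] (p : A →ₐ[K] C) (q : B →ₐ[K] C) (a : A) (b : B) :
    kunnethMap K p q (a ⊗ₜ[K] b) = p a * q b := by
  simp [kunnethMap]

/-- Künneth induction: a property of classes on a product that holds for `p^* a * q^* b` with
`a`, `b` homogeneous and is additive holds for all classes. -/
lemma kunneth_induction {X Y Q : Pr.FullSubcategory} (p : Q ⟶ X) (q : Q ⟶ Y) (hQ : IsProd p q)
    {motive : T.H Q → Prop}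
    (pure : ∀ (i j : ℤ) (a : T.H X) (b : T.H Y), a ∈ T.gr X i → b ∈ T.gr Y j →
      motive (T.pull p a * T.pull q b))
    (add : ∀ x y, motive x → motive y → motive (x + y)) (z : T.H Q) : motive z := by
  obtain ⟨t, rfl⟩ := (T.kunneth p q hQ).2 z
  induction t using TensorProduct.induction_on with
  | zero =>
    have := pure 0 0 0 0 (Submodule.zero_mem _) (Submodule.zero_mem _)
    simpa using this
  | tmul a b =>
    rw [kunnethMap_tmul]
    refine hom_induction T X (motive := fun a => motive (T.pull p a * T.pull q b)) ?_ ?_ a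
    · intro i a ha
      refine hom_induction T Y (motive := fun b => motive (T.pull p a * T.pull q b)) ?_ ?_ b
      · intro j b hb
        exact pure i j a b ha hb
      · intro x y hx hy
        rw [map_add, mul_add]
        exact add _ _ hx hy
    · intro x y hx hy
      rw [map_add, add_mul]
      exact add _ _ hx hy
  | add x y hx hy =>
    rw [map_add]
    exact add _ _ hx hy

/-- Poincaré duality: every functional on `H^i` is `x ↦ tr (x * e)` for some `e ∈ H^{2d - i}`. -/
lemma exists_dual (X : Pr.FullSubcategory) (i : ℤ) (ℓ : Module.Dual K (T.gr X i)) :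
    ∃ e : T.gr X (2 * (dim X.obj.left : ℤ) - i),
      ∀ x : T.gr X i, T.tr X ((x : T.H X) * (e : T.H X)) = ℓ x := by
  haveI := T.duality X i (2 * (dim X.obj.left : ℤ) - i) (by omega)
  obtain ⟨e, he⟩ := (LinearMap.IsPerfPair.bijective_right
    (pairing K (T.gr X i) (T.gr X (2 * (dim X.obj.left : ℤ) - i)) (T.tr X))).2 ℓ
  exact ⟨e, fun x => LinearMap.congr_fun he x⟩

/-- A chosen basis of `H^i(X)`. -/
noncomputable def bas (X : Pr.FullSubcategory) (i : ℤ) :
    Module.Basis (Fin (Module.finrank K (T.gr X i))) K (T.gr X i) :=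
  Module.finBasis K (T.gr X i)

/-- The dual basis in `H^{2d-i}(X)`. -/
noncomputable def dualElt (X : Pr.FullSubcategory) (i : ℤ)
    (s : Fin (Module.finrank K (T.gr X i))) : T.gr X (2 * (dim X.obj.left : ℤ) - i) :=
  Classical.choose (exists_dual T X i ((bas T X i).coord s))

lemma dualElt_spec (X : Pr.FullSubcategory) (i : ℤ) (s : Fin (Module.finrank K (T.gr X i)))
    (x : T.gr X i) :
    T.tr X ((x : T.H X) * (dualElt T X i s : T.H X)) = (bas T X i).repr x s :=
  Classical.choose_spec (exists_dual T X i ((bas T X i).coord s)) x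

lemma sum_dual (X : Pr.FullSubcategory) (i : ℤ) {M : Type*} [AddCommGroup M] [Module K M]
    (g : T.gr X i →ₗ[K] M) (x : T.gr X i) :
    ∑ s, T.tr X ((x : T.H X) * (dualElt T X i s : T.H X)) • g (bas T X i s) = g x := by
  conv_rhs => rw [← (bas T X i).sum_repr x]
  rw [map_sum]
  refine Finset.sum_congr rfl fun s _ => ?_
  rw [map_smul, dualElt_spec]

/-- The action of a class `φ ∈ H^N(Q)` on a product `Q` of `X` and `Y` as a correspondence:
`x ↦ q_*(p^* x * φ)`. -/
noncomputable def act {X Y Q : Pr.FullSubcategory} (p : Q ⟶ X) (q : Q ⟶ Y) (N : ℤ) (φ : T.gr Q N)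
    (i : ℤ) : T.gr X i →ₗ[K]
      T.gr Y (i + N + 2 * (dim Y.obj.left : ℤ) - 2 * (dim Q.obj.left : ℤ)) :=
  (T.push q (i + N)) ∘ₗ
    ((LinearMap.mulRight K (φ : T.H Q)).restrict (p := T.gr Q i) (q := T.gr Q (i + N))
      (fun x hx => SetLike.mul_mem_graded hx φ.2)) ∘ₗ (T.pullDeg p i)

lemma act_spec {X Y Q : Pr.FullSubcategory} (p : Q ⟶ X) (q : Q ⟶ Y) (N : ℤ) (φ : T.gr Q N)
    (i : ℤ) (x : T.gr X i) (β : T.H Y) :
    T.tr Y ((act T p q N φ i x : T.H Y) * β) =
      T.tr Q (T.pull p (x : T.H X) * (φ : T.H Q) * T.pull q β) := by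
  unfold act
  rw [LinearMap.comp_apply, LinearMap.comp_apply, push_spec_all]
  rfl

end Groth.Agent.WCF9
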