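import Mathlib
import Groth.Prelude.Def_WeilCoh
import Groth.Agent.Lib.WeilCohF1_helper9

/-! Formal consequences of the axioms of a Weil cohomology theory, part 2 (helper9):
`p_*(q^* α)`, the bijection `H^{2 dim X + r}(X × Y) ≃ Hom^r(H X, H Y)`.
APPEND-ONLY once landed. -/

universe u v w

open CategoryTheory AlgebraicGeometry

namespace Groth.Agent.WCF9

open WeilCoh Groth.Agent.Lib.WeilCohH5

variable {k : Type u} [Field k] {Pr : ObjectProperty (Over (Spec (CommRingCat.of k)))}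
variable {K : Type v} [Field K] (T : WeilCoh.TheoryOn.{u, v, w} k Pr K)

theorem s15449 {X Y Q : Pr.FullSubcategory} (p : Q ⟶ X) (q : Q ⟶ Y) (hQ : IsProd p q) (i : ℤ)
    (a : T.gr Y i) :
    (i = 2 * (dim Y.obj.left : ℤ) →
      (T.push p i ⟨T.pull q a, T.pull_mem q i a a.2⟩ : T.H X) = algebraMap K (T.H X) (T.tr Y a)) ∧
    (i ≠ 2 * (dim Y.obj.left : ℤ) →
      (T.push p i ⟨T.pull q a, T.pull_mem q i a a.2⟩ : T.H X) = 0) := by
  have hd := dim_prod T p q hQ
  have hflip : IsProd q p := IsPullback.flip hQ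
  constructor
  · intro hi
    refine push_eq T p i _ _ 0 (by omega) ?_ ?_
    · rw [Algebra.algebraMap_eq_smul_one]
      exact Submodule.smul_mem _ _ (SetLike.one_mem_graded _)
    · intro β
      dsimp only
      rw [tr_prod_all T q p hflip, Algebra.algebraMap_eq_smul_one, smul_mul_assoc, one_mul,
        map_smul, smul_eq_mul]
  · intro hi
    refine push_eq T p i _ _ _ rfl (Submodule.zero_mem _) ?_
    intro β
    dsimp only
    rw [tr_prod_all T q p hflip, T.tr_vanish Y i a a.2 hi, zero_mul, zero_mul, map_zero]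

/-- `φ * a = ± a * φ` inside a trace. -/
lemma tr_comm_mul (X : Pr.FullSubcategory) (i j : ℤ) (a b c : T.H X) (ha : a ∈ T.gr X i)
    (hb : b ∈ T.gr X j) :
    T.tr X (a * b * c) = (-1 : K) ^ (i.natAbs * j.natAbs) * T.tr X (b * a * c) := by
  rw [T.gradedComm X i j a b ha hb, smul_mul_assoc, map_smul, smul_eq_mul]

theorem s19871_inj {X Y Q : Pr.FullSubcategory} (p : Q ⟶ X) (q : Q ⟶ Y) (hQ : IsProd p q)
    (N : ℤ) (φ₁ φ₂ : T.gr Q N) (h : ∀ i, act T p q N φ₁ i = act T p q N φ₂ i) : φ₁ = φ₂ := by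
  have key : ∀ (i : ℤ) (x : T.gr X i) (β : T.H Y),
      T.tr Q (T.pull p (x : T.H X) * (φ₁ : T.H Q) * T.pull q β) =
        T.tr Q (T.pull p (x : T.H X) * (φ₂ : T.H Q) * T.pull q β) := by
    intro i x β
    rw [← act_spec, ← act_spec, h i]
  apply Subtype.ext
  refine dual_inj_all T Q N _ _ φ₁.2 φ₂.2 ?_
  intro z
  refine kunneth_induction T p q hQ
    (motive := fun z => T.tr Q ((φ₁ : T.H Q) * z) = T.tr Q ((φ₂ : T.H Q) * z)) ?_ ?_ z
  · intro i j a b ha _
    rw [← mul_assoc, ← mul_assoc, tr_comm_mul T Q N i _ _ _ φ₁.2 (T.pull_mem p i a ha),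
      tr_comm_mul T Q N i _ _ _ φ₂.2 (T.pull_mem p i a ha)]
    congr 1
    exact key i ⟨a, ha⟩ b
  · intro x y hx hy
    rw [mul_add, mul_add, map_add, map_add, hx, hy]

/-- The class realising a family of linear maps (one degree). -/
noncomputable def corrElt {X Y Q : Pr.FullSubcategory} (p : Q ⟶ X) (q : Q ⟶ Y) (i m : ℤ)
    (L : T.gr X i →ₗ[K] T.gr Y m) : T.H Q :=
  ∑ s, T.pull p (dualElt T X i s : T.H X) * T.pull q (L (bas T X i s) : T.H Y)

lemma corrElt_mem {X Y Q : Pr.FullSubcategory} (p : Q ⟶ X) (q : Q ⟶ Y) (i m : ℤ)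
    (L : T.gr X i →ₗ[K] T.gr Y m) :
    corrElt T p q i m L ∈ T.gr Q (2 * (dim X.obj.left : ℤ) - i + m) :=
  Submodule.sum_mem _ fun s _ =>
    SetLike.mul_mem_graded (T.pull_mem p _ _ (dualElt T X i s).2) (T.pull_mem q _ _ (L _).2)

lemma corrElt_spec {X Y Q : Pr.FullSubcategory} (p : Q ⟶ X) (q : Q ⟶ Y) (hQ : IsProd p q)
    (i m : ℤ) (L : T.gr X i →ₗ[K] T.gr Y m) (i₀ : ℤ) (x : T.gr X i₀) (β : T.H Y) :
    T.tr Q (T.pull p (x : T.H X) * corrElt T p q i m L * T.pull q β) =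
      if h : i₀ = i then T.tr Y ((L (h ▸ x) : T.H Y) * β) else 0 := by
  have hterm : ∀ s, T.tr Q (T.pull p (x : T.H X) *
      (T.pull p (dualElt T X i s : T.H X) * T.pull q (L (bas T X i s) : T.H Y)) * T.pull q β) =
      T.tr X ((x : T.H X) * (dualElt T X i s : T.H X)) *
        T.tr Y ((L (bas T X i s) : T.H Y) * β) := by
    intro s
    have e : T.pull p (x : T.H X) *
        (T.pull p (dualElt T X i s : T.H X) * T.pull q (L (bas T X i s) : T.H Y)) * T.pull q β =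
        T.pull p ((x : T.H X) * (dualElt T X i s : T.H X)) *
          T.pull q ((L (bas T X i s) : T.H Y) * β) := by
      rw [map_mul (T.pull p), map_mul (T.pull q)]
      simp only [mul_assoc]
    rw [e, tr_prod_all T p q hQ]
  unfold corrElt
  rw [Finset.mul_sum, Finset.sum_mul, map_sum]
  simp only [hterm]
  split_ifs with h
  · subst h
    let g : T.gr X i₀ →ₗ[K] K :=
      (T.tr Y) ∘ₗ (LinearMap.mulRight K β) ∘ₗ (T.gr Y m).subtype ∘ₗ L
    have := sum_dual T X i₀ g x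
    simpa [g, smul_eq_mul] using this
  · refine Finset.sum_eq_zero fun s _ => ?_
    rw [T.tr_vanish X _ _ (SetLike.mul_mem_graded x.2 (dualElt T X i s).2) (by omega), zero_mul]

theorem s19871_surj {X Y Q : Pr.FullSubcategory} (p : Q ⟶ X) (q : Q ⟶ Y) (hQ : IsProd p q)
    (N : ℤ) (hN : ∀ i : ℤ, 2 * (dim X.obj.left : ℤ) - i +
      (i + N + 2 * (dim Y.obj.left : ℤ) - 2 * (dim Q.obj.left : ℤ)) = N)
    (L : ∀ i : ℤ, T.gr X i →ₗ[K]
      T.gr Y (i + N + 2 * (dim Y.obj.left : ℤ) - 2 * (dim Q.obj.left : ℤ))) :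
    ∃ φ : T.gr Q N, ∀ i, act T p q N φ i = L i := by
  classical
  let I : Finset ℤ := Finset.Icc 0 (2 * (dim X.obj.left : ℤ))
  let φ : T.H Q := ∑ i ∈ I, corrElt T p q i _ (L i)
  have hφ : φ ∈ T.gr Q N :=
    Submodule.sum_mem _ fun i _ => by
      have := corrElt_mem T p q i _ (L i)
      rwa [hN i] at this
  refine ⟨⟨φ, hφ⟩, fun i₀ => ?_⟩
  refine LinearMap.ext fun x => Subtype.ext ?_
  refine dual_inj_all T Y _ _ _ (act T p q N ⟨φ, hφ⟩ i₀ x).2 (L i₀ x).2 fun β => ?_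
  rw [act_spec]
  by_cases hi₀ : i₀ ∈ I
  · show T.tr Q (T.pull p (x : T.H X) * (∑ i ∈ I, corrElt T p q i _ (L i)) * T.pull q β) = _
    rw [Finset.mul_sum, Finset.sum_mul, map_sum, Finset.sum_eq_single_of_mem i₀ hi₀]
    · rw [corrElt_spec T p q hQ, dif_pos rfl]
    · intro i _ hne
      rw [corrElt_spec T p q hQ, dif_neg (Ne.symm hne)]
  · have hx : (x : T.H X) = 0 := by
      apply eq_zero_of_vanish T X i₀ _ x.2
      simp only [I, Finset.mem_Icc, not_and_or, not_le] at hi₀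
      exact hi₀
    have hx' : x = 0 := Subtype.ext hx
    rw [hx', map_zero]
    simp

end Groth.Agent.WCF9
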