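import Mathlib
import Groth.Prelude.Def_WeilCoh
import Groth.Agent.Lib.WeilCohF2_helper9

/-! Formal consequences of the axioms of a Weil cohomology theory, part 3 (helper9):
the Lefschetz trace formula for correspondences.
APPEND-ONLY once landed. -/

universe u v w

open CategoryTheory AlgebraicGeometry

namespace Groth.Agent.WCF9

open WeilCoh Groth.Agent.Lib.WeilCohH5

variable {k : Type u} [Field k] {Pr : ObjectProperty (Over (Spec (CommRingCat.of k)))}
variable {K : Type v} [Field K] (T : WeilCoh.TheoryOn.{u, v, w} k Pr K)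

/-- One degree's contribution to the Lefschetz sum, as a function of the class `ψ`. -/
noncomputable def Gam {X Y Q' : Pr.FullSubcategory} (p' : Q' ⟶ Y) (q' : Q' ⟶ X) (i : ℤ)
    (G : T.gr X i → T.H Y) (ψ : T.H Q') : K :=
  ∑ s, T.tr Q' (T.pull p' (G (bas T X i s)) * ψ * T.pull q' (dualElt T X i s : T.H X))

lemma Gam_add {X Y Q' : Pr.FullSubcategory} (p' : Q' ⟶ Y) (q' : Q' ⟶ X) (i : ℤ)
    (G : T.gr X i → T.H Y) (x y : T.H Q') :
    Gam T p' q' i G (x + y) = Gam T p' q' i G x + Gam T p' q' i G y := by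
  unfold Gam
  rw [← Finset.sum_add_distrib]
  refine Finset.sum_congr rfl fun s _ => ?_
  rw [mul_add, add_mul, map_add]

lemma trace_eq_Gam {X Y Q' : Pr.FullSubcategory} (p' : Q' ⟶ Y) (q' : Q' ⟶ X) (i : ℤ)
    (G : T.gr X i → T.H Y) (ψ : T.H Q') (F : T.gr X i →ₗ[K] T.gr X i)
    (hF : ∀ (x : T.gr X i) (β : T.H X), T.tr X ((F x : T.H X) * β) =
      T.tr Q' (T.pull p' (G x) * ψ * T.pull q' β)) :
    LinearMap.trace K _ F = Gam T p' q' i G ψ := by
  rw [LinearMap.trace_eq_matrix_trace K (bas T X i) F]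
  unfold Gam Matrix.trace
  refine Finset.sum_congr rfl fun s _ => ?_
  rw [Matrix.diag_apply, LinearMap.toMatrix_apply, ← dualElt_spec, hF]

lemma Gam_pure {X Y Q Q' : Pr.FullSubcategory} (p : Q ⟶ X) (q : Q ⟶ Y) (p' : Q' ⟶ Y)
    (q' : Q' ⟶ X) (hQ' : IsProd p' q') (φ : T.H Q) (i : ℤ) (G : T.gr X i → T.H Y)
    (hG : ∀ (x : T.gr X i) (β : T.H Y),
      T.tr Y (G x * β) = T.tr Q (T.pull p (x : T.H X) * φ * T.pull q β))
    (m' : ℤ) (a' : T.H X) (ha' : a' ∈ T.gr X m') (b' : T.H Y) :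
    Gam T p' q' i G (T.pull p' b' * T.pull q' a') =
      if m' = i then T.tr Q (T.pull p a' * φ * T.pull q b') else 0 := by
  have hterm : ∀ s, T.tr Q' (T.pull p' (G (bas T X i s)) * (T.pull p' b' * T.pull q' a') *
      T.pull q' (dualElt T X i s : T.H X)) =
      T.tr Q (T.pull p (bas T X i s : T.H X) * φ * T.pull q b') *
        T.tr X (a' * (dualElt T X i s : T.H X)) := by
    intro s
    have e : T.pull p' (G (bas T X i s)) * (T.pull p' b' * T.pull q' a') *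
        T.pull q' (dualElt T X i s : T.H X) =
        T.pull p' (G (bas T X i s) * b') * T.pull q' (a' * (dualElt T X i s : T.H X)) := by
      rw [map_mul (T.pull p'), map_mul (T.pull q')]
      simp only [mul_assoc]
    rw [e, tr_prod_all T p' q' hQ', hG]
  unfold Gam
  simp only [hterm]
  split_ifs with h
  · subst h
    let g : T.gr X m' →ₗ[K] K :=
      (T.tr Q) ∘ₗ (LinearMap.mulRight K (φ * T.pull q b')) ∘ₗ (T.pull p).toLinearMap ∘ₗ
        (T.gr X m').subtype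
    have hg : ∀ x : T.gr X m', g x = T.tr Q (T.pull p (x : T.H X) * φ * T.pull q b') := by
      intro x
      simp only [g, LinearMap.comp_apply, LinearMap.mulRight_apply, Submodule.subtype_apply,
        AlgHom.toLinearMap_apply, mul_assoc]
    have := sum_dual T X m' g ⟨a', ha'⟩
    simp only [hg, smul_eq_mul] at this
    rw [← this]
    exact Finset.sum_congr rfl fun s _ => mul_comm _ _
  · refine Finset.sum_eq_zero fun s _ => ?_
    rw [T.tr_vanish X _ _ (SetLike.mul_mem_graded ha' (dualElt T X i s).2) (by omega), mul_zero]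

lemma sign_lemma (a : ℤ) (n d : ℕ) (h : a + n = 2 * d) :
    (-1 : K) ^ (a.natAbs * n) = (-1) ^ n := by
  rcases Nat.even_or_odd n with hn | hn
  · rw [Even.neg_one_pow (hn.mul_left _), hn.neg_one_pow]
  · have ha : Odd a := by
      obtain ⟨m, hm⟩ := hn
      exact ⟨d - m - 1, by omega⟩
    have ha' : Odd a.natAbs := Int.natAbs_odd.2 ha
    rw [(ha'.mul hn).neg_one_pow, hn.neg_one_pow]

theorem lefschetz_core {X Y Q Q' : Pr.FullSubcategory} (p : Q ⟶ X) (q : Q ⟶ Y)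
    (p' : Q' ⟶ Y) (q' : Q' ⟶ X) (hQ' : IsProd p' q') (σ : Q ⟶ Q') (hσ₁ : σ ≫ p' = q)
    (hσ₂ : σ ≫ q' = p) (N : ℤ) (φ : T.H Q) (hφ : φ ∈ T.gr Q N)
    (G : ∀ i : ℤ, T.gr X i → T.H Y)
    (hG : ∀ i (x : T.gr X i) (β : T.H Y),
      T.tr Y (G i x * β) = T.tr Q (T.pull p (x : T.H X) * φ * T.pull q β))
    (ψ : T.H Q') :
    T.tr Q (φ * T.pull σ ψ) = ∑ i ∈ Finset.range (2 * dim X.obj.left + 1),
      (-1 : K) ^ i * Gam T p' q' (i : ℤ) (G i) ψ := by
  have hp : ∀ b', T.pull σ (T.pull p' b') = T.pull q b' := by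
    intro b'
    rw [← hσ₁, T.pull_comp σ p']
    rfl
  have hq : ∀ a', T.pull σ (T.pull q' a') = T.pull p a' := by
    intro a'
    rw [← hσ₂, T.pull_comp σ q']
    rfl
  refine kunneth_induction T p' q' hQ'
    (motive := fun ψ => T.tr Q (φ * T.pull σ ψ) = ∑ i ∈ Finset.range (2 * dim X.obj.left + 1),
      (-1 : K) ^ i * Gam T p' q' (i : ℤ) (G i) ψ) ?_ ?_ ψ
  · intro n' m' b' a' hb' ha'
    rw [map_mul (T.pull σ), hp, hq]
    simp only [Gam_pure T p q p' q' hQ' φ _ (G _) (hG _) m' a' ha' b']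
    have hcomm : T.tr Q (φ * (T.pull q b' * T.pull p a')) =
        (-1 : K) ^ ((N + n').natAbs * m'.natAbs) * T.tr Q (T.pull p a' * φ * T.pull q b') := by
      rw [← mul_assoc, T.gradedComm Q (N + n') m' (φ * T.pull q b') (T.pull p a')
        (SetLike.mul_mem_graded hφ (T.pull_mem q n' b' hb')) (T.pull_mem p m' a' ha'),
        map_smul, smul_eq_mul, mul_assoc]
    rw [hcomm]
    by_cases ht : T.tr Q (T.pull p a' * φ * T.pull q b') = 0
    · rw [ht, mul_zero]
      symm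
      refine Finset.sum_eq_zero fun i _ => ?_
      split_ifs <;> simp
    · have hdeg : m' + N + n' = 2 * (dim Q.obj.left : ℤ) := by
        by_contra hne
        exact ht (T.tr_vanish Q _ _ (SetLike.mul_mem_graded (SetLike.mul_mem_graded
          (T.pull_mem p m' a' ha') hφ) (T.pull_mem q n' b' hb')) hne)
      have ha0 : a' ≠ 0 := by
        rintro rfl
        apply ht
        rw [map_zero, zero_mul, zero_mul, map_zero]
      have hm1 : 0 ≤ m' := by
        by_contra hneg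
        exact ha0 (eq_zero_of_vanish T X m' a' ha' (Or.inl (by omega)))
      have hm2 : m' ≤ 2 * (dim X.obj.left : ℤ) := by
        by_contra hbig
        exact ha0 (eq_zero_of_vanish T X m' a' ha' (Or.inr (by omega)))
      obtain ⟨n, rfl⟩ := Int.eq_ofNat_of_zero_le hm1
      rw [Finset.sum_eq_single n]
      · rw [if_pos rfl, Int.natAbs_natCast,
          sign_lemma (K := K) (N + n') n (dim Q.obj.left) (by omega)]
      · intro i _ hne
        rw [if_neg (fun h => hne (by exact_mod_cast h.symm)), mul_zero]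
      · intro hn
        exact absurd (Finset.mem_range.2 (by omega)) hn
  · intro x y hx hy
    rw [map_add, mul_add, map_add, hx, hy, ← Finset.sum_add_distrib]
    refine Finset.sum_congr rfl fun i _ => ?_
    rw [Gam_add, mul_add]

theorem lefschetz {X Y Q Q' : Pr.FullSubcategory} (p : Q ⟶ X) (q : Q ⟶ Y)
    (p' : Q' ⟶ Y) (q' : Q' ⟶ X) (hQ' : IsProd p' q') (σ : Q ⟶ Q') (hσ₁ : σ ≫ p' = q)
    (hσ₂ : σ ≫ q' = p) (N : ℤ) (φ : T.H Q) (hφ : φ ∈ T.gr Q N)
    (G : ∀ i : ℤ, T.gr X i → T.H Y)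
    (hG : ∀ i (x : T.gr X i) (β : T.H Y),
      T.tr Y (G i x * β) = T.tr Q (T.pull p (x : T.H X) * φ * T.pull q β))
    (ψ : T.H Q') (F : ∀ i : ℤ, T.gr X i →ₗ[K] T.gr X i)
    (hF : ∀ i (x : T.gr X i) (β : T.H X), T.tr X ((F i x : T.H X) * β) =
      T.tr Q' (T.pull p' (G i x) * ψ * T.pull q' β)) :
    T.tr Q (φ * T.pull σ ψ) = ∑ i ∈ Finset.range (2 * dim X.obj.left + 1),
      (-1 : K) ^ i * LinearMap.trace K _ (F (i : ℤ)) := by
  rw [lefschetz_core T p q p' q' hQ' σ hσ₁ hσ₂ N φ hφ G hG ψ]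
  refine Finset.sum_congr rfl fun i _ => ?_
  rw [trace_eq_Gam T p' q' _ (G i) ψ (F i) (hF i)]

theorem s15748 {X Y Q Q' : Pr.FullSubcategory} (p : Q ⟶ X) (q : Q ⟶ Y)
    (p' : Q' ⟶ Y) (q' : Q' ⟶ X) (hQ' : IsProd p' q') (σ : Q ⟶ Q') (hσ₁ : σ ≫ p' = q)
    (hσ₂ : σ ≫ q' = p) (N N' : ℤ)
    (hdim : ∀ i : ℤ, ((i + N + 2 * (dim Y.obj.left : ℤ) - 2 * (dim Q.obj.left : ℤ)) + N' +
      2 * (dim X.obj.left : ℤ) - 2 * (dim Q'.obj.left : ℤ)) = i)
    (φ : T.gr Q N) (ψ : T.gr Q' N') :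
    T.tr Q ((φ : T.H Q) * T.pull σ (ψ : T.H Q')) =
      ∑ i ∈ Finset.range (2 * dim X.obj.left + 1),
        (-1 : K) ^ i * LinearMap.trace K ↥(T.gr X (i : ℤ))
          ((LinearEquiv.ofEq _ (T.gr X (i : ℤ)) (congrArg (T.gr X) (hdim (i : ℤ)))).toLinearMap ∘ₗ
            (act T p' q' N' ψ ((i : ℤ) + N + 2 * (dim Y.obj.left : ℤ) -
              2 * (dim Q.obj.left : ℤ))) ∘ₗ (act T p q N φ (i : ℤ))) := by
  refine lefschetz T p q p' q' hQ' σ hσ₁ hσ₂ N φ φ.2 (fun i x => (act T p q N φ i x : T.H Y))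
    (fun i x β => act_spec T p q N φ i x β) ψ
    (fun i => (LinearEquiv.ofEq _ (T.gr X i) (congrArg (T.gr X) (hdim i))).toLinearMap ∘ₗ
      (act T p' q' N' ψ (i + N + 2 * (dim Y.obj.left : ℤ) - 2 * (dim Q.obj.left : ℤ))) ∘ₗ
      (act T p q N φ i)) ?_
  intro i x β
  rw [LinearMap.comp_apply, LinearMap.comp_apply, LinearEquiv.coe_coe,
    LinearEquiv.coe_ofEq_apply, act_spec]

end Groth.Agent.WCF9
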