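import Mathlib
import Groth.Prelude.Def_WeilCoh
import Groth.Agent.Lib.WeilCohF3_helper9

/-! Weil cohomology, part 4 (helper9): pull-back of classes along isomorphisms, and the
Jacobson-radical step (numerical triviality of radical algebraic correspondences).
APPEND-ONLY once landed. -/

universe u v w

open CategoryTheory AlgebraicGeometry

namespace Groth.Agent.WCF9

open WeilCoh Groth.Agent.Lib.WeilCohH5

variable {k : Type u} [Field k] {Pr : ObjectProperty (Over (Spec (CommRingCat.of k)))}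
variable {K : Type v} [Field K] (T : WeilCoh.TheoryOn.{u, v, w} k Pr K)

lemma natDim_eq_of_homeomorph {A B : Type u} [TopologicalSpace A] [TopologicalSpace B]
    (e : A ≃ₜ B) : natDim A = natDim B := by
  unfold natDim
  rw [IsHomeomorph.topologicalKrullDim_eq e e.isHomeomorph]

lemma natDim_closure_homeomorph {A B : Type u} [TopologicalSpace A] [TopologicalSpace B]
    (e : A ≃ₜ B) (a : A) :
    natDim ↥(closure ({a} : Set A)) = natDim ↥(closure ({e a} : Set B)) := by
  have h1 := natDim_eq_of_homeomorph (e.image (closure ({a} : Set A)))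
  have h2 : e '' closure ({a} : Set A) = closure ({e a} : Set B) := by
    rw [e.image_closure, Set.image_singleton]
  rw [h1, h2]

/-- Pull-back along an isomorphism maps classes of closed irreducible subsets into the span of
such classes. -/
lemma pull_cl_mem_span_of_iso {X Y : Pr.FullSubcategory} (f : X ⟶ Y) [IsIso (sm f)]
    (ξ : Y.obj.left) :
    T.pull f (T.cl Y ξ) ∈ Submodule.span K (Set.range (T.cl X)) := by
  let e : X.obj.left ≃ₜ Y.obj.left := Scheme.homeoOfIso (asIso (sm f))
  have he : ∀ x, e x = sm f x := fun _ => rfl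
  rw [T.cl_pull f ξ ?_ ?_]
  · exact finsum_induction _ (Submodule.zero_mem _) (fun _ _ => Submodule.add_mem _)
      (fun w => Submodule.smul_mem _ _ (Submodule.subset_span ⟨w.1, rfl⟩))
  · intro w hw
    have hw1 : ξ ⤳ e w := specializes_iff_mem_closure.2 hw.1
    have hw0 : e.symm ξ = w := by
      apply hw.2
      · show sm f (e.symm ξ) ∈ closure ({ξ} : Set Y.obj.left)
        rw [← he, e.apply_symm_apply]
        exact subset_closure rfl
      · rw [← e.isInducing.specializes_iff, e.apply_symm_apply]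
        exact hw1
    have hξ : ξ = e w := by rw [← hw0, e.apply_symm_apply]
    have h1 : pdim X.obj.left w = pdim Y.obj.left ξ := by
      unfold pdim
      rw [hξ]
      exact natDim_closure_homeomorph e w
    have h2 : dim X.obj.left = dim Y.obj.left := natDim_eq_of_homeomorph e
    rw [h1, h2]
    ring
  · left
    exact ⟨⊤, fun _ _ => trivial, inferInstance⟩

lemma pull_mem_span_of_iso {X Y : Pr.FullSubcategory} (f : X ⟶ Y) [IsIso (sm f)]
    (z : T.H Y) (hz : z ∈ Submodule.span K (Set.range (T.cl Y))) :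
    T.pull f z ∈ Submodule.span K (Set.range (T.cl X)) := by
  induction hz using Submodule.span_induction with
  | mem x hx =>
    obtain ⟨ξ, rfl⟩ := hx
    exact pull_cl_mem_span_of_iso T f ξ
  | zero => rw [map_zero]; exact Submodule.zero_mem _
  | add x y _ _ hx hy => rw [map_add]; exact Submodule.add_mem _ hx hy
  | smul c x _ hx => rw [map_smul]; exact Submodule.smul_mem _ _ hx

lemma hom_ext_of_isProd {X Y Q Z : Pr.FullSubcategory} (p : Q ⟶ X) (q : Q ⟶ Y)
    (hQ : IsProd p q) (a b : Z ⟶ Q) (h1 : a ≫ p = b ≫ p) (h2 : a ≫ q = b ≫ q) : a = b := by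
  apply ObjectProperty.hom_ext
  apply Over.OverMorphism.ext
  apply hQ.hom_ext
  · exact congrArg sm h1
  · exact congrArg sm h2

theorem s19418 {X P : Pr.FullSubcategory} (p q : P ⟶ X) (hP : IsProd p q) (σ : P ⟶ P)
    (hσp : σ ≫ p = q) (hσq : σ ≫ q = p)
    (hdim : ∀ j : ℤ, j + 2 * (dim X.obj.left : ℤ) + 2 * (dim X.obj.left : ℤ) -
      2 * (dim P.obj.left : ℤ) = j)
    (u : T.gr P (2 * (dim X.obj.left : ℤ)))
    (hJ : ∀ ψ ∈ Algebra.adjoin K
          (Set.range (fun w : {w : T.gr P (2 * (dim X.obj.left : ℤ)) //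
              (w : T.H P) ∈ Submodule.span K (Set.range (T.cl P))} =>
            fun j : Fin (2 * dim X.obj.left + 1) =>
              ((LinearEquiv.ofEq _ (T.gr X ((j : ℕ) : ℤ))
                (congrArg (T.gr X) (hdim ((j : ℕ) : ℤ)))).toLinearMap ∘ₗ
              act T p q (2 * (dim X.obj.left : ℤ)) w.1 ((j : ℕ) : ℤ)))),
        IsNilpotent (ψ * fun j : Fin (2 * dim X.obj.left + 1) =>
          ((LinearEquiv.ofEq _ (T.gr X ((j : ℕ) : ℤ))
            (congrArg (T.gr X) (hdim ((j : ℕ) : ℤ)))).toLinearMap ∘ₗ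
              act T p q (2 * (dim X.obj.left : ℤ)) u ((j : ℕ) : ℤ))))
    (v : T.gr P (2 * (dim X.obj.left : ℤ)))
    (hv : (v : T.H P) ∈ Submodule.span K (Set.range (T.cl P))) :
    T.tr P ((u : T.H P) * (v : T.H P)) = 0 := by
  have hσσ : σ ≫ σ = 𝟙 P := by
    apply hom_ext_of_isProd p q hP
    · rw [Category.assoc, hσp, hσq, Category.id_comp]
    · rw [Category.assoc, hσq, hσp, Category.id_comp]
  haveI : IsIso (sm σ) := ⟨sm σ, congrArg sm hσσ, congrArg sm hσσ⟩
  let v' : T.gr P (2 * (dim X.obj.left : ℤ)) := ⟨T.pull σ v, T.pull_mem σ _ _ v.2⟩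
  have hv' : (v' : T.H P) ∈ Submodule.span K (Set.range (T.cl P)) :=
    pull_mem_span_of_iso T σ _ hv
  have hvv : T.pull σ (v' : T.H P) = v := by
    show T.pull σ (T.pull σ (v : T.H P)) = v
    have := AlgHom.congr_fun (T.pull_comp σ σ) (v : T.H P)
    rw [hσσ, T.pull_id] at this
    exact this.symm
  have hnil := hJ _ (Algebra.subset_adjoin ⟨⟨v', hv'⟩, rfl⟩)
  have hL := lefschetz T p q p q hP σ hσp hσq (2 * (dim X.obj.left : ℤ)) u u.2
    (fun i x => (act T p q (2 * (dim X.obj.left : ℤ)) u i x : T.H X))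
    (fun i x β => act_spec T p q _ u i x β) (v' : T.H P)
    (fun i => ((LinearEquiv.ofEq _ (T.gr X i) (congrArg (T.gr X) (hdim i))).toLinearMap ∘ₗ
        act T p q (2 * (dim X.obj.left : ℤ)) v' i) ∘ₗ
      ((LinearEquiv.ofEq _ (T.gr X i) (congrArg (T.gr X) (hdim i))).toLinearMap ∘ₗ
        act T p q (2 * (dim X.obj.left : ℤ)) u i)) (by
      intro i x β
      rw [LinearMap.comp_apply, LinearMap.comp_apply, LinearMap.comp_apply, LinearEquiv.coe_coe,
        LinearEquiv.coe_ofEq_apply, act_spec, LinearEquiv.coe_ofEq_apply])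
  rw [hvv] at hL
  rw [hL]
  refine Finset.sum_eq_zero fun j hj => ?_
  have hj' : j < 2 * dim X.obj.left + 1 := Finset.mem_range.1 hj
  obtain ⟨m, hm⟩ := hnil
  have hm' := congrFun hm ⟨j, hj'⟩
  rw [Pi.pow_apply, Pi.mul_apply] at hm'
  have hnil' : IsNilpotent
      (((LinearEquiv.ofEq _ (T.gr X (j : ℤ)) (congrArg (T.gr X) (hdim (j : ℤ)))).toLinearMap ∘ₗ
        act T p q (2 * (dim X.obj.left : ℤ)) v' (j : ℤ)) ∘ₗ
      ((LinearEquiv.ofEq _ (T.gr X (j : ℤ)) (congrArg (T.gr X) (hdim (j : ℤ)))).toLinearMap ∘ₗ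
        act T p q (2 * (dim X.obj.left : ℤ)) u (j : ℤ))) := ⟨m, hm'⟩
  rw [(LinearMap.isNilpotent_trace_of_isNilpotent hnil').eq_zero, mul_zero]

end Groth.Agent.WCF9
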