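import Mathlib
import Groth.Prelude.Def_WeilCoh
import Groth.Agent.Lib.ProjSpace_helper3
import Groth.Agent.Lib.EtaleReduced_helper7
import Groth.Agent.Lib.SmoothRegField_helper3
import Groth.Agent.Lib.WeilCohF4_helper9

/-! Weil cohomology, geometry part 1 (helper9): the point `Spec k` as an object of `Var k`, the
structure morphism to it, `cl(X) = 1`.
APPEND-ONLY once landed. -/

universe u v w

open CategoryTheory AlgebraicGeometry

namespace Groth.Agent.WCF9

open WeilCoh Groth.Agent.Lib.WeilCohH5

section Pt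

variable (k : Type u) [Field k]

/-- `Spec k` over itself. -/
noncomputable def ptOver : Over (Spec (CommRingCat.of k)) := Over.mk (𝟙 _)

lemma isVar_pt : IsVar k (ptOver k) := by
  refine ⟨?_, ?_, ?_⟩
  · show Smooth (𝟙 (Spec (CommRingCat.of k)))
    infer_instance
  · haveI : IsIso (CohB1.ProjSpace.toSpec 0 (ULift.{u} ℤ)) :=
      Groth.Agent.Lib.ProjSpace_helper3.toSpec_zero_isIso _
    haveI : IsIso (CohB1.ProjSpaceOver.toBase 0 (Spec (CommRingCat.of k))) := by
      unfold CohB1.ProjSpaceOver.toBase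
      exact Limits.pullback_snd_iso_of_left_iso _ _
    let i : Spec (CommRingCat.of k) ⟶ CohB1.ProjSpaceOver 0 (Spec (CommRingCat.of k)) :=
      inv (CohB1.ProjSpaceOver.toBase 0 (Spec (CommRingCat.of k)))
    have hi : IsClosedImmersion i := inferInstance
    have hc : i ≫ CohB1.ProjSpaceOver.toBase 0 (Spec (CommRingCat.of k)) = 𝟙 _ :=
      IsIso.inv_hom_id _
    exact ⟨0, i, hi, hc⟩
  · show IrreducibleSpace (Spec (CommRingCat.of k))
    infer_instance

/-- The point, as an object of `Var k`. -/
noncomputable def pt : Var k := ⟨ptOver k, isVar_pt k⟩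

instance : Subsingleton ↥(pt k).obj.left :=
  inferInstanceAs (Subsingleton (PrimeSpectrum k))

lemma natDim_eq_zero_of_le {A : Type u} [TopologicalSpace A] (h : topologicalKrullDim A ≤ 0) :
    natDim A = 0 := by
  unfold natDim
  cases hd : topologicalKrullDim A using WithBot.recBotCoe with
  | bot => simp
  | coe n =>
    rw [hd] at h
    have hn : n ≤ 0 := by exact_mod_cast h
    rw [WithBot.unbotD_coe, le_zero_iff.1 hn]
    rfl

lemma topDim_pt : topologicalKrullDim ↥(pt k).obj.left ≤ 0 := by
  show topologicalKrullDim (PrimeSpectrum k) ≤ 0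
  rw [PrimeSpectrum.topologicalKrullDim_eq_ringKrullDim, ringKrullDim_eq_zero_of_field]

lemma dim_pt : dim (pt k).obj.left = 0 := natDim_eq_zero_of_le (topDim_pt k)

lemma pdim_pt (ξ : (pt k).obj.left) : pdim (pt k).obj.left ξ = 0 :=
  natDim_eq_zero_of_le ((topologicalKrullDim_subspace_le _ _).trans (topDim_pt k))

variable {k}

/-- The structure morphism, as a morphism of `Var k`. -/
noncomputable def toPt (X : Var k) : X ⟶ pt k :=
  ObjectProperty.homMk (Over.homMk X.obj.hom (by simp [pt, ptOver]))

lemma sm_toPt (X : Var k) : sm (toPt X) = X.obj.hom := rfl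

end Pt

section Cl

variable {k : Type u} [Field k] {K : Type v} [Field K]
  (T : WeilCoh.TheoryOn.{u, v, w} k (IsVar k) K)

lemma cl_pt (ξ : (pt k).obj.left) : T.cl (pt k) ξ = 1 := (T.point (pt k) (dim_pt k)).1 ξ

lemma tr_pt_one : T.tr (pt k) 1 = 1 := (T.point (pt k) (dim_pt k)).2

lemma ker_specMap_pt (y ξ : (pt k).obj.left) (h : ξ ⤳ y) :
    RingHom.ker (Cyc.specMap y ξ h) = ⊥ := by
  obtain ⟨φ, hφ⟩ := Groth.Agent.Lib.SmoothRegFieldH3.exists_bijective_stalk_spec_field k y
  rw [eq_bot_iff]
  intro r hr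
  obtain ⟨c, rfl⟩ := hφ.2 r
  have hinj : Function.Injective ((Cyc.specMap y ξ h).comp φ) := RingHom.injective _
  have hc : c = 0 := by
    apply hinj
    rw [map_zero]
    exact hr
  rw [hc, map_zero]
  exact Submodule.zero_mem _

lemma natDim_closure_genericPoint (A : Type u) [TopologicalSpace A] [QuasiSober A]
    [IrreducibleSpace A] : natDim ↥(closure ({genericPoint A} : Set A)) = natDim A := by
  rw [genericPoint_closure]
  exact natDim_eq_of_homeomorph (Homeomorph.Set.univ A)

variable (X : Var k) [IrreducibleSpace ↥X.obj.left]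

lemma isReduced_var : IsReduced X.obj.left := by
  haveI : Smooth X.obj.hom := X.property.1
  exact Groth.Agent.Lib.EtaleReduced_helper7.isReduced_of_smooth_scheme X.obj.hom

lemma isCompPt_toPt (ξ : (pt k).obj.left) (w : X.obj.left) :
    IsCompPt ((sm (toPt X)) ⁻¹' closure ({ξ} : Set (pt k).obj.left)) w ↔
      w = genericPoint ↥X.obj.left := by
  have hall : ∀ w' : X.obj.left,
      w' ∈ (sm (toPt X)) ⁻¹' closure ({ξ} : Set (pt k).obj.left) := by
    intro w'
    show sm (toPt X) w' ∈ closure ({ξ} : Set (pt k).obj.left)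
    rw [Subsingleton.elim (sm (toPt X) w') ξ]
    exact subset_closure rfl
  constructor
  · intro hw
    exact (hw.2 _ (hall _) (genericPoint_specializes w)).symm
  · rintro rfl
    refine ⟨hall _, fun w' _ hw' => ?_⟩
    exact ((genericPoint_specializes w').antisymm hw').eq.symm

/-- The multiplicity of `X` over the point is one. -/
lemma preimMult_toPt (ξ : (pt k).obj.left)
    (h : sm (toPt X) (genericPoint ↥X.obj.left) ∈ closure ({ξ} : Set (pt k).obj.left)) :
    preimMult (sm (toPt X)) ξ (genericPoint ↥X.obj.left) h = 1 := by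
  haveI := isReduced_var X
  haveI : IsIntegral X.obj.left := isIntegral_of_irreducibleSpace_of_isReduced _
  unfold preimMult
  rw [ker_specMap_pt, Ideal.map_bot]
  letI : Field (X.obj.left.presheaf.stalk (genericPoint ↥X.obj.left)) :=
    inferInstanceAs (Field X.obj.left.functionField)
  rw [(Submodule.quotEquivOfEqBot (⊥ : Ideal (X.obj.left.presheaf.stalk
    (genericPoint ↥X.obj.left))) rfl).length_eq, Module.length_eq_one]
  rfl

/-- The class of `X` itself is `1`. -/
theorem cl_genericPoint : T.cl X (genericPoint ↥X.obj.left) = 1 := by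
  have hξ : Nonempty (pt k).obj.left := ⟨sm (toPt X) (genericPoint ↥X.obj.left)⟩
  obtain ⟨ξ⟩ := hξ
  haveI : Smooth X.obj.hom := X.property.1
  have hpull := T.cl_pull (toPt X) ξ ?_ ?_
  · rw [cl_pt, map_one] at hpull
    have hη : IsCompPt ((sm (toPt X)) ⁻¹' closure ({ξ} : Set (pt k).obj.left))
        (genericPoint ↥X.obj.left) := (isCompPt_toPt X ξ _).2 rfl
    rw [finsum_eq_single _ (⟨genericPoint ↥X.obj.left, hη⟩ :
      {w : X.obj.left // IsCompPt ((sm (toPt X)) ⁻¹' closure ({ξ} : Set (pt k).obj.left)) w})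
      (fun w hw => absurd (Subtype.ext ((isCompPt_toPt X ξ w.1).1 w.2)) hw)] at hpull
    simp only [preimMult_toPt X ξ hη.1, Nat.cast_one, one_smul] at hpull
    exact hpull.symm
  · intro w hw
    rw [(isCompPt_toPt X ξ w).1 hw, pdim_pt, dim_pt]
    unfold pdim dim
    rw [natDim_closure_genericPoint]
    simp
  · left
    refine ⟨⊤, fun _ _ => trivial, ?_⟩
    have h : Smooth (sm (toPt X)) := ‹Smooth X.obj.hom›
    haveI := h
    haveI : Smooth (sm (toPt X) ∣_ ⊤) := inferInstance
    infer_instance

end Cl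

end Groth.Agent.WCF9
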