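import Mathlib
import Groth.Prelude.Def_WeilCoh
import Groth.Agent.Lib.ProjSpaceProper_helper4
import Groth.Agent.Lib.WeilCohG1_helper9

/-! Weil cohomology, geometry part 2 (helper9): residue degree of a section, closed points,
sections of projections are closed immersions and preserve dimensions of closures.
APPEND-ONLY once landed. -/

universe u v w

open CategoryTheory AlgebraicGeometry

namespace Groth.Agent.WCF9

open WeilCoh Groth.Agent.Lib.WeilCohH5

/-- The residue degree of a section at any point is one. -/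
lemma residueDegree_of_section {X Y : Scheme.{u}} (j : X ⟶ Y) (p : Y ⟶ X) (h : j ≫ p = 𝟙 X)
    (x : X) : j.residueDegree x = 1 := by
  have key : Function.Surjective ((j ≫ p).residueFieldMap x).hom := by
    rw [h, Scheme.residueFieldMap_id]
    exact Function.surjective_id
  rw [Scheme.residueFieldMap_comp] at key
  have hs : Function.Surjective (j.residueFieldMap x).hom := by
    intro z
    obtain ⟨y, hy⟩ := key z
    exact ⟨(p.residueFieldMap (j x)).hom y, hy⟩
  unfold Scheme.Hom.residueDegree
  letI := (j.residueFieldMap x).hom.toAlgebra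
  exact Module.finrank_of_bijective_algebraMap ⟨(j.residueFieldMap x).hom.injective, hs⟩

section

variable {k : Type u} [Field k]

lemma isProper_var (Y : Var k) : IsProper Y.obj.hom := by
  obtain ⟨n, i, hi, hc⟩ := Y.property.2.1
  haveI := hi
  haveI := Groth.Agent.Lib.ProjSpaceProperH4.isProper_toBase n (Spec (CommRingCat.of k))
  rw [← hc]
  infer_instance

lemma isSeparated_fst {X Y Q : Var k} (p : Q ⟶ X) (q : Q ⟶ Y) (hQ : IsProd p q) :
    IsSeparated (sm p) := by
  haveI := isProper_var Y
  have hs : IsSeparated Y.obj.hom := inferInstance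
  exact MorphismProperty.of_isPullback (P := @IsSeparated) (IsPullback.flip hQ) hs

lemma isClosedImmersion_section {X Y Q : Var k} (p : Q ⟶ X) (q : Q ⟶ Y) (hQ : IsProd p q)
    (j : X ⟶ Q) (hj : j ≫ p = 𝟙 X) : IsClosedImmersion (sm j) := by
  haveI := isSeparated_fst p q hQ
  have h1 : sm j ≫ sm p = 𝟙 _ := congrArg sm hj
  haveI : IsClosedImmersion (sm j ≫ sm p) := by
    rw [h1]
    infer_instance
  exact IsClosedImmersion.of_comp (sm j) (sm p)

lemma natDim_closure_closedEmbedding {A B : Type u} [TopologicalSpace A] [TopologicalSpace B]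
    (f : A → B) (hf : Topology.IsClosedEmbedding f) (a : A) :
    natDim ↥(closure ({f a} : Set B)) = natDim ↥(closure ({a} : Set A)) := by
  have h2 : f '' closure ({a} : Set A) = closure ({f a} : Set B) := by
    rw [← hf.closure_image_eq, Set.image_singleton]
  have e : ↥(closure ({a} : Set A)) ≃ₜ ↥(f '' closure ({a} : Set A)) :=
    (hf.isEmbedding.restrict (s := closure ({a} : Set A))
      (t := f '' closure ({a} : Set A)) (fun x hx => ⟨x, hx, rfl⟩)).toHomeomorphOfSurjective
      (by
        rintro ⟨_, x, hx, rfl⟩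
        exact ⟨⟨x, hx⟩, rfl⟩)
  rw [← h2]
  exact (natDim_eq_of_homeomorph e).symm

lemma pdim_section {X Y Q : Var k} (p : Q ⟶ X) (q : Q ⟶ Y) (hQ : IsProd p q)
    (j : X ⟶ Q) (hj : j ≫ p = 𝟙 X) (ξ : X.obj.left) :
    pdim Q.obj.left (sm j ξ) = pdim X.obj.left ξ := by
  haveI := isClosedImmersion_section p q hQ j hj
  exact natDim_closure_closedEmbedding _ (sm j).isClosedEmbedding ξ

end

section Closed

variable {k : Type u} [Field k] [IsAlgClosed k] {K : Type v} [Field K]
  (T : WeilCoh.TheoryOn.{u, v, w} k (IsVar k) K)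

/-- The `k`-point of a closed point, as a morphism of `Var k`. -/
noncomputable def ptOfClosed (X : Var k) (x : X.obj.left) (hx : IsClosed ({x} : Set X.obj.left)) :
    pt k ⟶ X :=
  haveI : Smooth X.obj.hom := X.property.1
  ObjectProperty.homMk (Over.homMk (pointOfClosedPoint X.obj.hom x hx)
    (pointOfClosedPoint_comp X.obj.hom x hx))

lemma sm_ptOfClosed_apply (X : Var k) (x : X.obj.left) (hx : IsClosed ({x} : Set X.obj.left))
    (a : (pt k).obj.left) : sm (ptOfClosed X x hx) a = x := by
  haveI : Smooth X.obj.hom := X.property.1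
  exact pointOfClosedPoint_apply X.obj.hom x hx a

lemma sm_ptOfClosed_comp (X : Var k) (x : X.obj.left) (hx : IsClosed ({x} : Set X.obj.left)) :
    sm (ptOfClosed X x hx) ≫ X.obj.hom = 𝟙 _ := by
  haveI : Smooth X.obj.hom := X.property.1
  exact pointOfClosedPoint_comp X.obj.hom x hx

/-- The trace of the class of a closed point is one. -/
theorem tr_cl_closedPoint (X : Var k) (x : X.obj.left) (hx : IsClosed ({x} : Set X.obj.left)) :
    T.tr X (T.cl X x) = 1 := by
  let a : (pt k).obj.left := IsLocalRing.closedPoint k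
  have hmem : (1 : T.H X) ∈ T.gr X (2 * (pdim (pt k).obj.left a : ℤ)) := by
    rw [pdim_pt]
    simpa using SetLike.one_mem_graded (T.gr X)
  have h := T.cl_push (ptOfClosed X x hx) a 1 hmem
  rw [cl_pt, map_one, mul_one, tr_pt_one, sm_ptOfClosed_apply, mul_one,
    residueDegree_of_section _ _ (sm_ptOfClosed_comp X x hx), Nat.cast_one, one_mul] at h
  exact h.symm

end Closed

end Groth.Agent.WCF9
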