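import Mathlib
import Groth.Prelude.Def_WeilCoh
import Groth.Agent.Lib.BCDimSch_helper8
import Groth.Agent.Lib.WeilCohG2_helper9

/-! Weil cohomology, geometry part 3 (helper9): finite dimensionality, `pdim ≤ dim`,
the trace against the class of a section, graphs and the diagonal.
APPEND-ONLY once landed. -/

universe u v w

open CategoryTheory AlgebraicGeometry

namespace Groth.Agent.WCF9

open WeilCoh Groth.Agent.Lib.WeilCohH5

lemma ringKrullDim_le_nat_of_finiteType (k A : Type u) [Field k] [CommRing A] [Algebra k A]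
    [Algebra.FiniteType k A] : ∃ n : ℕ, ringKrullDim A ≤ ((n : ℕ∞) : WithBot ℕ∞) := by
  obtain ⟨n, f, hf⟩ := Algebra.FiniteType.iff_quotient_mvPolynomial''.mp ‹Algebra.FiniteType k A›
  refine ⟨n, (ringKrullDim_le_of_surjective f.toRingHom hf).trans ?_⟩
  rw [MvPolynomial.ringKrullDim_of_isNoetherianRing, ringKrullDim_eq_zero_of_field, zero_add]
  simp

lemma topDim_lt_top {k : Type u} [Field k] (X : Scheme.{u}) (f : X ⟶ Spec (CommRingCat.of k))
    [LocallyOfFiniteType f] [CompactSpace X] : topologicalKrullDim X < ⊤ := by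
  let 𝒰 := X.affineCover.finiteSubcover
  rw [Groth.Agent.BCDimSchH8.dim_eq_iSup_openCover X 𝒰]
  have hb : ∀ i, ∃ n : ℕ, topologicalKrullDim (𝒰.X i) ≤ ((n : ℕ∞) : WithBot ℕ∞) := by
    intro i
    let U := 𝒰.X i
    let g : Spec Γ(U, ⊤) ⟶ Spec (CommRingCat.of k) := U.isoSpec.inv ≫ 𝒰.f i ≫ f
    haveI : LocallyOfFiniteType g := by
      dsimp only [g]
      infer_instance
    have hφ : LocallyOfFiniteType (Spec.map (Spec.preimage g)) := by
      rw [Spec.map_preimage]
      infer_instance
    rw [HasRingHomProperty.Spec_iff (P := @LocallyOfFiniteType)] at hφ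
    algebraize [(Spec.preimage g).hom]
    obtain ⟨n, hn⟩ := ringKrullDim_le_nat_of_finiteType k Γ(U, ⊤)
    refine ⟨n, ?_⟩
    rw [IsHomeomorph.topologicalKrullDim_eq _ (Scheme.homeoOfIso U.isoSpec).isHomeomorph]
    show topologicalKrullDim (PrimeSpectrum Γ(U, ⊤)) ≤ _
    rw [PrimeSpectrum.topologicalKrullDim_eq_ringKrullDim]
    exact hn
  choose n hn using hb
  refine lt_of_le_of_lt (b := (((Finset.univ.sup n : ℕ) : ℕ∞) : WithBot ℕ∞)) ?_ ?_
  · refine iSup_le fun i => (hn i).trans ?_
    exact_mod_cast Finset.le_sup (f := n) (Finset.mem_univ i)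
  · exact WithBot.coe_lt_coe.2 (ENat.coe_lt_top _)

lemma natDim_subspace_le {A : Type u} [TopologicalSpace A] (h : topologicalKrullDim A < ⊤)
    (S : Set A) : natDim ↥S ≤ natDim A := by
  unfold natDim
  have h1 : topologicalKrullDim ↥S ≤ topologicalKrullDim A := topologicalKrullDim_subspace_le A S
  have h2 : (topologicalKrullDim ↥S).unbotD 0 ≤ (topologicalKrullDim A).unbotD 0 := by
    cases hS : topologicalKrullDim ↥S using WithBot.recBotCoe with
    | bot => simp
    | coe a =>
      cases hA : topologicalKrullDim A using WithBot.recBotCoe with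
      | bot => rw [hS, hA] at h1; simp at h1
      | coe b =>
        rw [hS, hA] at h1
        simpa using h1
  refine ENat.toNat_le_toNat h2 ?_
  cases hA : topologicalKrullDim A using WithBot.recBotCoe with
  | bot => simp
  | coe b =>
    rw [hA] at h
    rw [WithBot.unbotD_coe]
    intro hb
    rw [hb] at h
    exact lt_irrefl _ h

section

variable {k : Type u} [Field k]

lemma topDim_var_lt_top (X : Var k) : topologicalKrullDim ↥X.obj.left < ⊤ := by
  haveI : Smooth X.obj.hom := X.property.1
  haveI := isProper_var X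
  haveI : CompactSpace ↥X.obj.left := QuasiCompact.compactSpace_of_compactSpace X.obj.hom
  exact topDim_lt_top X.obj.left X.obj.hom

lemma pdim_le_dim (X : Var k) (ξ : X.obj.left) : pdim X.obj.left ξ ≤ dim X.obj.left :=
  natDim_subspace_le (topDim_var_lt_top X) _

end

section Formal

variable {k : Type u} [Field k] {Pr : ObjectProperty (Over (Spec (CommRingCat.of k)))}
variable {K : Type v} [Field K] (T : WeilCoh.TheoryOn.{u, v, w} k Pr K)

lemma pull_pull {X Y Z : Pr.FullSubcategory} (f : X ⟶ Y) (g : Y ⟶ Z) (z : T.H Z) :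
    T.pull f (T.pull g z) = T.pull (f ≫ g) z := by
  rw [T.pull_comp]
  rfl

/-- Classes of even degree are central. -/
lemma comm_of_even (X : Pr.FullSubcategory) (n : ℤ) (c : T.H X) (hc : c ∈ T.gr X (2 * n))
    (b : T.H X) : c * b = b * c := by
  refine hom_induction T X (motive := fun b => c * b = b * c) ?_ ?_ b
  · intro j b hb
    rw [T.gradedComm X (2 * n) j c b hc hb, Even.neg_one_pow, one_smul]
    refine Even.mul_right ?_ _
    rw [Int.natAbs_even]
    exact even_two_mul n
  · intro x y hx hy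
    rw [mul_add, add_mul, hx, hy]

end Formal

section Section

variable {k : Type u} [Field k] {K : Type v} [Field K]
  (T : WeilCoh.TheoryOn.{u, v, w} k (IsVar k) K)

/-- Trace against the class of the image of a closed irreducible subset under a section. -/
lemma tr_section {X Y Q : Var k} (p : Q ⟶ X) (q : Q ⟶ Y) (hQ : IsProd p q) (j : X ⟶ Q)
    (hj : j ≫ p = 𝟙 X) (ξ : X.obj.left) (a : T.H Q) :
    T.tr Q (T.cl Q (sm j ξ) * a) = T.tr X (T.cl X ξ * T.pull j a) := by
  have hd := dim_prod T p q hQ
  have hpd := pdim_section p q hQ j hj ξ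
  have hle := pdim_le_dim X ξ
  refine hom_induction T Q
    (motive := fun a => T.tr Q (T.cl Q (sm j ξ) * a) = T.tr X (T.cl X ξ * T.pull j a)) ?_ ?_ a
  · intro m a ha
    by_cases hm : m = 2 * (pdim X.obj.left ξ : ℤ)
    · subst hm
      have h := T.cl_push j ξ a ha
      rw [residueDegree_of_section (sm j) (sm p) (congrArg sm hj), Nat.cast_one, one_mul] at h
      exact h.symm
    · rw [T.tr_vanish Q _ _ (SetLike.mul_mem_graded (T.cl_mem Q (sm j ξ)) ha) (by
          unfold codim
          rw [hpd]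
          omega),
        T.tr_vanish X _ _ (SetLike.mul_mem_graded (T.cl_mem X ξ) (T.pull_mem j m a ha)) (by
          unfold codim
          omega)]
  · intro x y hx hy
    rw [mul_add, map_add, map_add, mul_add, map_add, hx, hy]

theorem s15464 {X Y P : Var k} [IrreducibleSpace ↥X.obj.left] (f : X ⟶ Y) (p : P ⟶ X)
    (q : P ⟶ Y) (hP : IsProd p q) (j : X ⟶ P) (hjp : j ≫ p = 𝟙 X) (hjq : j ≫ q = f)
    (i : ℤ) (β : T.gr Y i) :
    (T.push p (2 * (codim P.obj.left (sm j (genericPoint ↥X.obj.left)) : ℤ) + i)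
        ⟨T.cl P (sm j (genericPoint ↥X.obj.left)) * T.pull q (β : T.H Y),
          SetLike.mul_mem_graded (T.cl_mem P (sm j (genericPoint ↥X.obj.left)))
            (T.pull_mem q i β β.2)⟩ : T.H X) = T.pull f (β : T.H Y) := by
  have hd := dim_prod T p q hP
  have hpd : pdim P.obj.left (sm j (genericPoint ↥X.obj.left)) = dim X.obj.left := by
    rw [pdim_section p q hP j hjp]
    exact natDim_closure_genericPoint _
  have hcod : codim P.obj.left (sm j (genericPoint ↥X.obj.left)) = dim Y.obj.left := by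
    unfold codim
    rw [hpd, hd]
    omega
  refine push_eq T p _ _ _ i (by rw [hcod]; omega) (T.pull_mem f i β β.2) ?_
  intro γ
  dsimp only
  rw [mul_assoc, tr_section T p q hP j hjp, cl_genericPoint, one_mul, map_mul (T.pull j),
    pull_pull, pull_pull, hjq, hjp, T.pull_id]
  rfl

theorem s19414 {X P : Var k} (p q : P ⟶ X) (hP : IsProd p q) (d : X ⟶ P)
    (hdp : d ≫ p = 𝟙 X) (hdq : d ≫ q = 𝟙 X) (η : X.obj.left) (i : ℤ) (a : T.gr X i) :
    (T.push q (i + 2 * (codim P.obj.left (sm d η) : ℤ))
        ⟨T.pull p (a : T.H X) * T.cl P (sm d η),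
          SetLike.mul_mem_graded (T.pull_mem p i a a.2) (T.cl_mem P (sm d η))⟩ : T.H X) =
      (a : T.H X) * T.cl X η := by
  have hd := dim_prod T p q hP
  have hpd := pdim_section p q hP d hdp η
  have hle := pdim_le_dim X η
  refine push_eq T q _ _ _ (i + 2 * (codim X.obj.left η : ℤ)) (by
      unfold codim
      rw [hpd]
      omega) (SetLike.mul_mem_graded a.2 (T.cl_mem X η)) ?_
  intro γ
  dsimp only
  rw [← comm_of_even T P _ _ (T.cl_mem P (sm d η)), mul_assoc (T.cl P (sm d η)),
    tr_section T p q hP d hdp, map_mul (T.pull d), pull_pull, pull_pull, hdp, hdq, T.pull_id,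
    ← comm_of_even T X _ _ (T.cl_mem X η), mul_assoc]
  rfl

end Section

end Groth.Agent.WCF9
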