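import Mathlib
import Groth.Prelude
import Groth.Agent.Lib.TauEq1_helper9
import Groth.Agent.Lib.WeilCohG3_helper9
import Groth.Agent.Lib.CMMul1_helper9

/-!
# Invertible modules τ-equivalent to zero do not change Euler characteristics, part 2 (helper9)
**S4276**.
APPEND-ONLY once landed.
-/

set_option autoImplicit false
universe u
open AlgebraicGeometry CategoryTheory CategoryTheory.Limits TopologicalSpace

namespace TauEq

open Groth.Agent.Lib.GVanH2 Groth.Agent.TensInv CohB1

section Main

variable (k : Type u) [Field k] (X : Scheme.{u}) [X.Over (Spec (CommRingCat.of k))]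
  [IsProper (X ↘ Spec (CommRingCat.of k))]

/-- tensoring with a module algebraically equivalent to zero preserves Euler characteristics -/
theorem euler_tensor_of_algEquivZero {N : X.Modules} (hN : Pic13.IsAlgEquivZero k X N)
    (G : X.Modules) (hG : Coh.IsCoh G) :
    Curv2.euler k X (tensorMod G N) = Curv2.euler k X G := by
  obtain ⟨T, q, hconn, hlft, hqc, M, hM, t, t₀, ht, ht₀, ⟨e⟩, ⟨e₀⟩⟩ := hN
  haveI := hconn
  haveI := hlft
  have h := FibPt.euler_fibre_const k X q G hG M hM t t₀ ht ht₀
  rw [CurveTens.euler_of_iso k X (mapL G e),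
    CurveTens.euler_of_iso k X (mapL G e₀ ≪≫ rightUnit G)] at h
  exact h

include k in
/-- a proper scheme over a field is finite dimensional -/
theorem exists_dim_le : ∃ d : ℕ, topologicalKrullDim X ≤ d := by
  haveI : CompactSpace X :=
    QuasiCompact.compactSpace_of_compactSpace (X ↘ Spec (CommRingCat.of k))
  have hfin := Groth.Agent.WCF9.topDim_lt_top X (X ↘ Spec (CommRingCat.of k))
  by_cases hb : topologicalKrullDim X = ⊥
  · exact ⟨0, by rw [hb]; exact bot_le⟩
  · obtain ⟨a, ha⟩ := WithBot.ne_bot_iff_exists.mp hb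
    have h2 : a ≠ ⊤ := by
      rintro rfl
      rw [← ha] at hfin
      exact lt_irrefl _ hfin
    obtain ⟨d, rfl⟩ := ENat.ne_top_iff_exists.mp h2
    exact ⟨d, by rw [← ha]; rfl⟩

/-- the alternating sums for `D` copies of `L` are the iterated differences of
`m ↦ χ(F ⊗ L^m)` -/
theorem altSum_replicate (L F : X.Modules) : ∀ (D m : ℕ),
    Snap9.altSum k X (List.replicate D L) (tensorMod F (tensorPow L m)) =
      (δ^[D] (fun m => Curv2.euler k X (tensorMod F (tensorPow L m)))) m := by
  intro D
  induction D with
  | zero => intro m; rfl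
  | succ D ih =>
    intro m
    rw [List.replicate_succ, Snap9.altSum_cons, Function.iterate_succ_apply']
    show _ = (δ^[D] _) m - (δ^[D] _) (m + 1)
    rw [← ih m, ← ih (m + 1)]
    congr 1
    exact Snap9.altSum_of_iso k X _ (assoc F (tensorPow L m) L)

/-- **tensoring with an invertible module τ-equivalent to zero preserves Euler
characteristics** -/
theorem euler_tensor_of_tauEquivZero {L : X.Modules} (hL : PicF.IsInvertible L)
    (hτ : Pic13.IsTauEquivZero k X L) (F : X.Modules) (hF : Coh.IsCoh F) :
    Curv2.euler k X (tensorMod F L) = Curv2.euler k X F := by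
  obtain ⟨n, hn, hN⟩ := hτ
  obtain ⟨d, hd⟩ := exists_dim_le k X
  haveI : IsLocallyNoetherian X :=
    LocallyOfFiniteType.isLocallyNoetherian (X ↘ Spec (CommRingCat.of k))
  have hG : ∀ m, Coh.IsCoh (tensorMod F (tensorPow L m)) := fun m =>
    Snap9.isCoh_tensorMod hF (TensH8.isInvertible_tensorPow hL m)
  have hper : ∀ m, (fun m => Curv2.euler k X (tensorMod F (tensorPow L m))) (m + n) =
      (fun m => Curv2.euler k X (tensorMod F (tensorPow L m))) m := by
    intro m
    obtain ⟨e⟩ := TensPowH9.tensorPow_add L m n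
    have h1 := euler_tensor_of_algEquivZero k X hN _ (hG m)
    show Curv2.euler k X (tensorMod F (tensorPow L (m + n))) =
      Curv2.euler k X (tensorMod F (tensorPow L m))
    rw [← h1]
    exact CurveTens.euler_of_iso k X (mapL F e ≪≫ (assoc _ _ _).symm)
  have hzero : ∀ m, (δ^[d + 1] (fun m => Curv2.euler k X (tensorMod F (tensorPow L m)))) m
      = 0 := by
    intro m
    rw [← altSum_replicate k X L F (d + 1) m]
    refine Snap9.altSum_eq_zero k X _ ?_ _ (hG m) ⊤ (fun _ _ => trivial) ?_
    · intro M hM
      rw [List.eq_of_mem_replicate hM]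
      exact hL
    · rw [List.length_replicate]
      have h1 : dimC (X := X.toTopCat) (⊤ : Closeds X) ≤ (d : WithBot ℕ∞) :=
        (dimC_top_le (X := X.toTopCat)).trans hd
      refine lt_of_le_of_lt h1 ?_
      exact_mod_cast Nat.lt_succ_self d
  have h1 := const_of_periodic n hn (d + 1) _ hper hzero 0
  have h2 : Curv2.euler k X (tensorMod F (tensorMod (Coh.structureModule X) L)) =
      Curv2.euler k X (tensorMod F (Coh.structureModule X)) := h1
  rw [CurveTens.euler_of_iso k X (mapL F (Groth.Agent.CMMul.unitorL L)),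
    CurveTens.euler_of_iso k X (rightUnit F)] at h2
  exact h2

/-- **S4276** -/
theorem main4276 (d : ℕ) (hd : topologicalKrullDim X ≤ d)
    (L : X.Modules) (hL : PicF.IsInvertible L) (hτ : Pic13.IsTauEquivZero k X L)
    (F : X.Modules) (hF : Coh.IsCoh F) :
    FGA.eulerCharLE k X (tensorMod F L) d = FGA.eulerCharLE k X F d := by
  rw [← Snap9.euler_eq_eulerCharLE k X d hd, ← Snap9.euler_eq_eulerCharLE k X d hd]
  exact euler_tensor_of_tauEquivZero k X hL hτ F hF

end Main

end TauEq
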