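import Mathlib
import Groth.Prelude
import Groth.Agent.Lib.AlgEqB_helper9
import Groth.Agent.Lib.CurveSD1_helper9
import Groth.Agent.Lib.TauEq2_helper9
import Groth.Agent.Lib.QuinticC_helper9
import Groth.Agent.Lib.ProjConn_helper9
import Groth.Agent.Lib.CurvStDeg_helper2

/-!
# Algebraic equivalence to zero, part C: degree zero on a smooth proper curve (helper9)
**S12411**: on a smooth proper connected curve over an algebraically closed field an invertible
module is algebraically equivalent to zero iff it has degree zero.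
APPEND-ONLY once landed.
-/

set_option autoImplicit false
universe u
open AlgebraicGeometry CategoryTheory CategoryTheory.Limits TopologicalSpace

namespace AlgEq

open Groth.Agent.TensInv CohB1

section Ind

variable (k : Type u) [Field k] [IsAlgClosed k] (X : Scheme.{u})
  [X.Over (Spec (CommRingCat.of k))] [IsIntegral X] [IsProper (X ↘ Spec (CommRingCat.of k))]

/-- left unit -/
noncomputable def leftUnit {Y : Scheme.{u}} (A : Y.Modules) :
    tensorMod (Coh.structureModule Y) A ≅ A := comm _ _ ≪≫ rightUnit A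

/-- the shuffle used in the induction step -/
noncomputable def shuffle {Y : Scheme.{u}} (a b c d e : Y.Modules)
    (h : tensorMod a e ≅ Coh.structureModule Y) :
    tensorMod (tensorMod (tensorMod a b) c) (tensorMod d e) ≅ tensorMod b (tensorMod c d) :=
  assoc (tensorMod a b) c (tensorMod d e) ≪≫
    mapL (tensorMod a b) (assoc c d e).symm ≪≫
    mapR (comm a b) _ ≪≫ mapL (tensorMod b a) (comm (tensorMod c d) e) ≪≫
    assoc b a (tensorMod e (tensorMod c d)) ≪≫
    mapL b ((assoc a e (tensorMod c d)).symm ≪≫ mapR h _ ≪≫ leftUnit _)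

variable {X}

/-- **the induction**: an invertible module with a nonzero section is a power of `O(p)` up to
algebraic equivalence -/
theorem exists_algEquiv_of_section (hdim : topologicalKrullDim X = 1)
    (hreg : ∀ x : X, IsRegularLocalRing (X.presheaf.stalk x))
    (p : X) (hp : IsClosed ({p} : Set X)) (J : X.Modules)
    (eJ : tensorMod (ClSub.idealMod (Scheme.IdealSheafData.vanishingIdeal ⟨{p}, hp⟩)) J ≅
      Coh.structureModule X)
    (hK : ∀ (x : X) (hx : IsClosed ({x} : Set X)) (Jx : X.Modules),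
      Nonempty (tensorMod (ClSub.idealMod (Scheme.IdealSheafData.vanishingIdeal ⟨{x}, hx⟩)) Jx ≅
        Coh.structureModule X) →
      Pic13.IsAlgEquivZero k X
        (tensorMod (ClSub.idealMod (Scheme.IdealSheafData.vanishingIdeal ⟨{p}, hp⟩)) Jx)) :
    ∀ (n : ℕ) (M : X.Modules), PicF.IsInvertible M →
      (∃ j : Coh.structureModule X ⟶ M, j ≠ 0) → Curv2.deg k X M 1 = n →
      ∃ A : X.Modules, Pic13.IsAlgEquivZero k X A ∧ PicF.IsInvertible A ∧
        Nonempty (tensorMod A (tensorPow J n) ≅ M) := by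
  haveI : IsLocallyNoetherian X :=
    LocallyOfFiniteType.isLocallyNoetherian (X ↘ Spec (CommRingCat.of k))
  intro n
  induction n with
  | zero =>
    intro M hM ⟨j, hj⟩ hdeg
    obtain ⟨e⟩ := CurveDeg.iso_structureModule_of_deg_nonpos k X hdim hM j hj (by rw [hdeg]; rfl)
    exact ⟨Coh.structureModule X, unit k X, TensH8.isInvertible_structureModule,
      ⟨rightUnit _ ≪≫ e.symm⟩⟩
  | succ n ih =>
    intro M hM ⟨j, hj⟩ hdeg
    have hO : PicF.IsInvertible (Coh.structureModule X) := TensH8.isInvertible_structureModule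
    have hni : ¬ IsIso j := by
      intro hiso
      have h1 := CurveTens.deg_of_iso k X (asIso j) 1
      rw [CurveDeg.deg_structureModule, hdeg] at h1
      have : (0 : ℤ) < ((n + 1 : ℕ) : ℤ) := by exact_mod_cast Nat.succ_pos n
      omega
    obtain ⟨x, hx, j₁, hj₁⟩ := CurveSD.exists_factor_point k X hdim.le hO hM j hj hni
    have hIx : PicF.IsInvertible (ClSub.idealMod
        (Scheme.IdealSheafData.vanishingIdeal ⟨{x}, hx⟩)) :=
      CurvePtInv.isInvertible_idealMod_point hdim hx (hreg x)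
    have hIp : PicF.IsInvertible (ClSub.idealMod
        (Scheme.IdealSheafData.vanishingIdeal ⟨{p}, hp⟩)) :=
      CurvePtInv.isInvertible_idealMod_point hdim hp (hreg p)
    have hM' : PicF.IsInvertible (tensorMod (ClSub.idealMod
        (Scheme.IdealSheafData.vanishingIdeal ⟨{x}, hx⟩)) M) :=
      TensH8.isInvertible_tensorMod hIx hM
    have hj₁0 : j₁ ≠ 0 := by
      rintro rfl
      apply hj
      rw [← hj₁, zero_comp]
    have hdeg' : Curv2.deg k X (tensorMod (ClSub.idealMod
        (Scheme.IdealSheafData.vanishingIdeal ⟨{x}, hx⟩)) M) 1 = n := by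
      rw [CurveTens.deg_tensorMod k X hdim.le hIx hM, CurvePtInv.deg_idealMod_point k X x hx, hdeg]
      push_cast
      ring
    obtain ⟨A', hA', hA'i, ⟨e'⟩⟩ := ih _ hM' ⟨j₁, hj₁0⟩ hdeg'
    obtain ⟨Jx, hJx, ⟨ιx⟩⟩ := Groth.Agent.InvTensP.exists_inverse _ hIx
    have hB := hK x hx Jx ⟨ιx⟩
    refine ⟨tensorMod (tensorMod (ClSub.idealMod
      (Scheme.IdealSheafData.vanishingIdeal ⟨{p}, hp⟩)) Jx) A', tensor k X hB hA',
      TensH8.isInvertible_tensorMod (TensH8.isInvertible_tensorMod hIp hJx) hA'i, ⟨?_⟩⟩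
    -- `((I_p ⊗ J_x) ⊗ A') ⊗ (J^n ⊗ J) ≅ J_x ⊗ (A' ⊗ J^n) ≅ J_x ⊗ (I_x ⊗ M) ≅ M`
    exact shuffle _ Jx A' (tensorPow J n) J eJ ≪≫ mapL Jx e' ≪≫
      (assoc Jx _ M).symm ≪≫ mapR (comm Jx _ ≪≫ ιx) M ≪≫ leftUnit M

end Ind

section Main

variable (k : Type u) [Field k] [IsAlgClosed k] (C : Scheme.{u})
  [C.Over (Spec (CommRingCat.of k))] [IsProper (C ↘ Spec (CommRingCat.of k))]
  [Smooth (C ↘ Spec (CommRingCat.of k))]

/-- degree zero implies algebraically equivalent to zero -/
theorem algEquivZero_of_deg_zero [IsIntegral C] (hdim : topologicalKrullDim C = 1)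
    (L : C.Modules) (hL : PicF.IsInvertible L) (hdeg : Curv2.deg k C L 1 = 0) :
    Pic13.IsAlgEquivZero k C L := by
  haveI : IsLocallyNoetherian C :=
    LocallyOfFiniteType.isLocallyNoetherian (C ↘ Spec (CommRingCat.of k))
  have hreg : ∀ x : C, IsRegularLocalRing (C.presheaf.stalk x) := fun x =>
    Groth.Agent.Lib.FibCodim2H4.stalk_regular_of_smooth_field (CommRingCat.of k)
      (Field.toIsField k) (C ↘ Spec (CommRingCat.of k)) x
  haveI : CompactSpace C :=
    QuasiCompact.compactSpace_of_compactSpace (C ↘ Spec (CommRingCat.of k))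
  obtain ⟨p, hp⟩ : ∃ p : C, IsClosed ({p} : Set C) := by
    haveI : Nonempty C := inferInstance
    obtain ⟨p, -, hp⟩ := IsClosed.exists_closed_singleton (isClosed_univ (X := C))
      ⟨Classical.arbitrary C, trivial⟩
    exact ⟨p, hp⟩
  have hIp : PicF.IsInvertible (ClSub.idealMod
      (Scheme.IdealSheafData.vanishingIdeal ⟨{p}, hp⟩)) :=
    CurvePtInv.isInvertible_idealMod_point hdim hp (hreg p)
  obtain ⟨J, hJ, ⟨eJ⟩⟩ := Groth.Agent.InvTensP.exists_inverse _ hIp
  -- the degree of `J`
  have hdJ : Curv2.deg k C J 1 = 1 := by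
    have h1 := CurveTens.deg_tensorMod k C hdim.le hIp hJ
    rw [CurveTens.deg_of_iso k C eJ 1, CurveDeg.deg_structureModule,
      CurvePtInv.deg_idealMod_point k C p hp] at h1
    linarith
  set m : ℕ := 2 * Curv2.genus k C with hm
  have hJm := TensH8.isInvertible_tensorPow hJ m
  have hM : PicF.IsInvertible (tensorMod L (tensorPow J m)) :=
    TensH8.isInvertible_tensorMod hL hJm
  have hdM : Curv2.deg k C (tensorMod L (tensorPow J m)) 1 = m := by
    rw [CurveTens.deg_tensorMod k C hdim.le hL hJm, hdeg,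
      CurveTens.deg_tensorPow k C hdim.le hJ m, hdJ]
    ring
  -- a nonzero section
  haveI := ProperFinH9.finite_HH_of_proper k C (Coh.structureModule C)
    (CohDevH8.isCoh_structureModule C) 0
  have h0 := Groth.Agent.ProjConn.finrank_h0_of_isIntegral k (X := C)
  have hfr := Groth.Agent.Lib.QuinticC.finrank_HH0_of_deg_ge k C hdim.le h0 hM (by rw [hdM, hm]; push_cast; omega)
  have hpos : 0 < Module.finrank k (Coh.HH C (tensorMod L (tensorPow J m)) 0) := by
    rw [hdM, hm] at hfr
    push_cast at hfr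
    have : (0 : ℤ) < (Module.finrank k (Coh.HH C (tensorMod L (tensorPow J m)) 0) : ℤ) := by
      have := Int.natCast_nonneg (Curv2.genus k C)
      linarith
    exact_mod_cast this
  haveI : Nontrivial (Coh.HH C (tensorMod L (tensorPow J m)) 0) :=
    Module.nontrivial_of_finrank_pos (R := k) hpos
  obtain ⟨v, hv⟩ := exists_ne (0 : Coh.HH C (tensorMod L (tensorPow J m)) 0)
  obtain ⟨j, hjv⟩ := CurveAmple.theta_surjective k (tensorMod L (tensorPow J m)) v
  have hj : j ≠ 0 := by
    rintro rfl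
    apply hv
    rw [← hjv, map_zero]
  obtain ⟨A, hA, hAi, ⟨e⟩⟩ := exists_algEquiv_of_section k hdim hreg p hp J eJ
    (fun x hx Jx hJx => algEquivZero_point k hdim hreg p x hp hx Jx hJx) m _ hM ⟨j, hj⟩ hdM
  -- cancel `J^m`
  obtain ⟨I, hI, ⟨eI⟩⟩ := Groth.Agent.InvTensP.exists_inverse _ hJm
  have e₂ : A ≅ L :=
    (rightUnit A).symm ≪≫ mapL A eI.symm ≪≫ (assoc A _ I).symm ≪≫ mapR e I ≪≫
      assoc L _ I ≪≫ mapL L eI ≪≫ rightUnit L
  exact of_iso k C e₂ hA

/-- **S12411** -/
theorem main12411 [ConnectedSpace ↥C] (hdim : topologicalKrullDim ↥C = 1)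
    (L : C.Modules) (hL : PicF.IsInvertible L) :
    Pic13.IsAlgEquivZero k C L ↔
      Pic13.curveDeg k (C ↘ Spec (CommRingCat.of k)) L = 0 := by
  haveI : IsIntegral C :=
    Groth.Agent.Lib.CBCH2.isIntegral_of_smooth_connected k (C ↘ Spec (CommRingCat.of k))
  have hconv : Pic13.curveDeg k (C ↘ Spec (CommRingCat.of k)) L = Curv2.deg k C L 1 := by
    unfold Pic13.curveDeg Curv2.deg
    rw [Snap9.euler_eq_eulerCharLE k C 1 hdim.le, Snap9.euler_eq_eulerCharLE k C 1 hdim.le]
    push_cast
    rw [one_mul]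
    rfl
  rw [hconv]
  constructor
  · intro h
    have h1 := TauEq.euler_tensor_of_algEquivZero k C h (Coh.structureModule C)
      (CohDevH8.isCoh_structureModule C)
    rw [CurveTens.euler_of_iso k C (leftUnit L)] at h1
    unfold Curv2.deg
    rw [h1]
    push_cast
    ring
  · exact algEquivZero_of_deg_zero k C hdim L hL

end Main

end AlgEq
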