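import Mathlib
import Groth.Agent.Lib.DimFT_helper8
import Groth.Agent.Lib.DimFT3_helper8

/-!
# Algebraic independence of `x_1..x_n, Σ g_i x_i, g_0` (S7199)
-/

universe u

namespace Groth.Agent.Lib.AlgIndepCodim2

section height

open Polynomial

/-- the height of `p` is two. -/
lemma height_eq_two (k : Type u) {A : Type u} [Field k] [CommRing A] [IsDomain A] [Algebra k A]
    [Algebra.FiniteType k A] (p : Ideal A) [p.IsPrime]
    (hdim : ringKrullDim (A ⧸ p) + 2 = ringKrullDim A) : p.height = 2 := by
  haveI : Algebra.FiniteType k (A ⧸ p) :=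
    Algebra.FiniteType.of_surjective (Ideal.Quotient.mkₐ k p) (Ideal.Quotient.mkₐ_surjective k p)
  obtain ⟨n, -, hn, hdimA, -⟩ := Groth.Agent.DimFTH8.exists_dim_eq k A
  obtain ⟨r', -, hr', hdimQ, -⟩ := Groth.Agent.DimFTH8.exists_dim_eq k (A ⧸ p)
  obtain ⟨r, hr, hsum⟩ := Groth.Agent.DimFT3H8.height_add_trdeg_quotient n k A hn p
  have hrr : r = r' := by
    have : ((r : ℕ) : Cardinal) = ((r' : ℕ) : Cardinal) := by rw [← hr, hr']
    exact_mod_cast this
  subst hrr
  rw [hdimA, hdimQ] at hdim
  have h2 : (r : ℕ∞) + 2 = (n : ℕ∞) := by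
    have : (((r : ℕ∞) + 2 : ℕ∞) : WithBot ℕ∞) = ((n : ℕ∞) : WithBot ℕ∞) := by
      push_cast
      exact_mod_cast hdim
    exact_mod_cast this
  have h3 : p.height + r = (r : ℕ∞) + 2 := by rw [h2]; exact_mod_cast hsum
  rw [add_comm] at h3
  exact ENat.add_right_injective_of_ne_top (ENat.coe_ne_top r) h3

/-- criterion for `p` to be minimal over `(g1)`. -/
lemma mem_minimalPrimes_singleton {A : Type u} [CommRing A] {g0 g1 : A} {p : Ideal A}
    (hp : p ∈ (Ideal.span {g0, g1}).minimalPrimes) (t : A) (ht : t ∉ p) (s : ℕ)
    (hts : t * g0 ^ s ∈ Ideal.span {g1}) : p ∈ (Ideal.span {g1}).minimalPrimes := by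
  have hprime : p.IsPrime := hp.1.1
  have hle : Ideal.span {g0, g1} ≤ p := hp.1.2
  have hg1 : g1 ∈ p := hle (Ideal.subset_span (by simp))
  refine ⟨⟨hprime, (Ideal.span_singleton_le_iff_mem p).mpr hg1⟩, ?_⟩
  rintro Q ⟨hQ, hQ1⟩ hQp
  apply hp.2 ⟨hQ, ?_⟩ hQp
  have hg1Q : g1 ∈ Q := hQ1 (Ideal.subset_span rfl)
  have h1 : t * g0 ^ s ∈ Q := hQ1 hts
  have h2 : g0 ^ s ∈ Q := (hQ.mem_or_mem h1).resolve_left (fun h => ht (hQp h))
  have h3 : g0 ∈ Q := hQ.mem_of_pow_mem s h2
  rw [Ideal.span_le]
  rintro x hx
  rcases hx with rfl | hx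
  · exact h3
  · rw [Set.mem_singleton_iff] at hx
    subst hx
    exact hg1Q

/-- the two elements are "algebraically independent". -/
theorem transcendental_pair {k A : Type u} [Field k] [CommRing A] [IsDomain A] [Algebra k A]
    [IsNoetherianRing A] {g0 g1 : A} {p : Ideal A}
    (hp : p ∈ (Ideal.span {g0, g1}).minimalPrimes) (hht : p.height = 2) :
    Transcendental k g0 ∧ Transcendental (Algebra.adjoin k {g0}) g1 := by
  have hprime : p.IsPrime := hp.1.1
  have hle : Ideal.span {g0, g1} ≤ p := hp.1.2
  have hg0 : g0 ∈ p := hle (Ideal.subset_span (by simp))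
  have hg1 : g1 ∈ p := hle (Ideal.subset_span (by simp))
  have hunit : ∀ c : k, c ≠ 0 → algebraMap k A c ∉ p := by
    intro c hc hmem
    apply hprime.ne_top
    rw [Ideal.eq_top_iff_one]
    have : (1 : A) = algebraMap k A c⁻¹ * algebraMap k A c := by
      rw [← map_mul, inv_mul_cancel₀ hc, map_one]
    rw [this]
    exact p.mul_mem_left _ hmem
  -- no minimal prime over a principal ideal
  have hno1 : p ∉ (Ideal.span {g1}).minimalPrimes := by
    intro h
    have := Ideal.height_le_one_of_isPrincipal_of_mem_minimalPrimes (Ideal.span {g1}) p h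
    rw [hht] at this
    norm_num at this
  have hno0 : p ∉ (Ideal.span {g0}).minimalPrimes := by
    intro h
    have := Ideal.height_le_one_of_isPrincipal_of_mem_minimalPrimes (Ideal.span {g0}) p h
    rw [hht] at this
    norm_num at this
  have hp' : p ∈ (Ideal.span {g1, g0}).minimalPrimes := by
    rwa [Set.pair_comm]
  have h1ne : (1 : A) ∉ p := fun h => hprime.ne_top ((Ideal.eq_top_iff_one p).mpr h)
  constructor
  · -- g0 transcendental
    intro halg
    have hint : IsIntegral k g0 := isAlgebraic_iff_isIntegral.mp halg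
    by_cases h0 : g0 = 0
    · apply hno1
      apply mem_minimalPrimes_singleton hp 1 h1ne 1
      rw [h0]
      simp
    · have := hint.isUnit h0
      exact hprime.ne_top (Ideal.eq_top_of_isUnit_mem p hg0 this)
  · intro halg
    by_cases h1 : g1 = 0
    · apply hno0
      apply mem_minimalPrimes_singleton hp' 1 h1ne 1
      rw [h1]
      simp
    · obtain ⟨⟨a0, ha0mem⟩, ha0ne, hdvd⟩ :=
        halg.exists_nonzero_dvd (mem_nonZeroDivisors_of_ne_zero h1)
      have ha0ne' : a0 ≠ 0 := by
        intro h
        apply ha0ne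
        exact Subtype.ext h
      have hdvd' : g1 ∣ a0 := hdvd
      rw [Algebra.adjoin_singleton_eq_range_aeval] at ha0mem
      obtain ⟨f, hf⟩ := ha0mem
      have hf' : Polynomial.aeval g0 f = a0 := hf
      have hfne : f ≠ 0 := by
        rintro rfl
        rw [map_zero] at hf'
        exact ha0ne' hf'.symm
      obtain ⟨b, hfb, hb⟩ := Polynomial.exists_eq_pow_rootMultiplicity_mul_and_not_dvd f hfne 0
      simp only [C_0, sub_zero, X_dvd_iff] at hfb hb
      set s := Polynomial.rootMultiplicity 0 f with hs
      set t := Polynomial.aeval g0 b with htdef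
      have ht : t ∉ p := by
        intro hmem
        have hbb : b = X * b.divX + C (b.coeff 0) := (Polynomial.X_mul_divX_add b).symm
        have : t = g0 * Polynomial.aeval g0 b.divX + algebraMap k A (b.coeff 0) := by
          rw [htdef]
          conv_lhs => rw [hbb]
          rw [map_add, map_mul, aeval_X, aeval_C]
        rw [this] at hmem
        have h2 : algebraMap k A (b.coeff 0) ∈ p := by
          have h3 : g0 * Polynomial.aeval g0 b.divX ∈ p := p.mul_mem_right _ hg0
          exact (Ideal.add_mem_iff_right p h3).mp hmem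
        exact hunit _ hb h2
      apply hno1
      apply mem_minimalPrimes_singleton hp t ht s
      rw [Ideal.mem_span_singleton]
      have : t * g0 ^ s = a0 := by
        rw [← hf', hfb, map_mul, map_pow, aeval_X, mul_comm]
      rw [this]
      exact hdvd'

end height

section core

variable {k A : Type u} [Field k] [CommRing A] [IsDomain A] [Algebra k A]

open MvPolynomial

/-- the shear automorphism `X 1 ↦ X 1 + X 0`. -/
noncomputable def shear (m : ℕ) : MvPolynomial (Fin (m + 2)) A →ₐ[A] MvPolynomial (Fin (m + 2)) A :=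
  MvPolynomial.aeval (fun i => if i = 1 then X 1 + X 0 else X i)

noncomputable def shearInv (m : ℕ) :
    MvPolynomial (Fin (m + 2)) A →ₐ[A] MvPolynomial (Fin (m + 2)) A :=
  MvPolynomial.aeval (fun i => if i = 1 then X 1 - X 0 else X i)

lemma shear_X (m : ℕ) (i : Fin (m + 2)) :
    shear (A := A) m (X i) = if i = 1 then X 1 + X 0 else X i := by
  unfold shear
  rw [aeval_X]

lemma shearInv_comp_shear (m : ℕ) :
    (shearInv (A := A) m).comp (shear m) = AlgHom.id A _ := by
  apply MvPolynomial.algHom_ext
  intro i
  rw [AlgHom.comp_apply, shear_X, AlgHom.id_apply]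
  unfold shearInv
  by_cases hi : i = 1
  · subst hi
    have h01 : (0 : Fin (m + 2)) ≠ 1 := by
      intro h
      have := congrArg Fin.val h
      simp at this
    rw [if_pos rfl, map_add, aeval_X, aeval_X, if_pos rfl, if_neg h01]
    ring
  · rw [if_neg hi, aeval_X, if_neg hi]

lemma shear_injective (m : ℕ) : Function.Injective (shear (A := A) m) := by
  intro a b hab
  have := congrArg (shearInv (A := A) m) hab
  rw [← AlgHom.comp_apply, ← AlgHom.comp_apply, shearInv_comp_shear] at this
  exact this

/-- the linear form. -/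
noncomputable def linForm (m : ℕ) (g : Fin (m + 2) → A) : MvPolynomial (Fin (m + 2)) A :=
  ∑ i, C (g i) * X i

lemma shear_linForm (m : ℕ) (g : Fin (m + 2) → A) :
    shear m (linForm m g) = linForm m g + C (g 1) * X 0 := by
  unfold linForm
  rw [map_sum]
  have : ∀ i : Fin (m + 2), shear (A := A) m (C (g i) * X i)
      = C (g i) * X i + if i = 1 then C (g 1) * X 0 else 0 := by
    intro i
    rw [map_mul, shear_X]
    have hC : shear (A := A) m (C (g i)) = C (g i) := by
      unfold shear
      rw [← MvPolynomial.algebraMap_eq, AlgHom.commutes]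
    rw [hC]
    by_cases hi : i = 1
    · subst hi
      rw [if_pos rfl, if_pos rfl]
      ring
    · rw [if_neg hi, if_neg hi, add_zero]
  rw [Finset.sum_congr rfl (fun i _ => this i), Finset.sum_add_distrib, Finset.sum_ite_eq']
  simp

/-- the base family `x_i, g_0`. -/
noncomputable def baseFam (m : ℕ) (g0 : A) : Fin (m + 2) ⊕ Unit → MvPolynomial (Fin (m + 2)) A :=
  Sum.elim X (fun _ => C g0)

theorem transcendental_linForm (m : ℕ) (g : Fin (m + 2) → A)
    (hG1 : Transcendental (Algebra.adjoin k (Set.range (baseFam m (g 0))))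
      (C (g 1) : MvPolynomial (Fin (m + 2)) A)) :
    Transcendental (Algebra.adjoin k (Set.range (baseFam m (g 0)))) (linForm m g) := by
  set R0 := Algebra.adjoin k (Set.range (baseFam m (g 0))) with hR0
  intro halg
  set σ : MvPolynomial (Fin (m + 2)) A →ₐ[k] MvPolynomial (Fin (m + 2)) A :=
    (shear (A := A) m).restrictScalars k with hσ
  have hσinj : Function.Injective σ := shear_injective m
  have hXmem : ∀ i, (X i : MvPolynomial (Fin (m + 2)) A) ∈ R0 := fun i =>
    Algebra.subset_adjoin ⟨Sum.inl i, rfl⟩
  have hCmem : (C (g 0) : MvPolynomial (Fin (m + 2)) A) ∈ R0 :=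
    Algebra.subset_adjoin ⟨Sum.inr (), rfl⟩
  have hmap : ∀ x ∈ R0, σ x ∈ R0 := by
    intro x hx
    have h1 : R0.map σ ≤ R0 := by
      rw [hR0, AlgHom.map_adjoin]
      apply Algebra.adjoin_le
      rintro _ ⟨_, ⟨j, rfl⟩, rfl⟩
      rcases j with i | u
      · change shear (A := A) m (X i) ∈ R0
        rw [shear_X]
        split_ifs
        · exact R0.add_mem (hXmem 1) (hXmem 0)
        · exact hXmem i
      · change shear (A := A) m (C (g 0)) ∈ R0
        have hC : shear (A := A) m (C (g 0)) = C (g 0) := by
          unfold shear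
          rw [← MvPolynomial.algebraMap_eq, AlgHom.commutes]
        rw [hC]
        exact hCmem
    exact h1 ⟨x, hx, rfl⟩
  let f : R0 →ₐ[k] R0 := (σ.comp R0.val).codRestrict R0 (fun x => hmap x.1 x.2)
  have hfinj : Function.Injective f := by
    intro a b hab
    have h1 : (f a : MvPolynomial (Fin (m + 2)) A) = f b := congrArg Subtype.val hab
    have h2 : σ a.1 = σ b.1 := h1
    exact Subtype.ext (hσinj h2)
  have hcomm : RingHom.comp (algebraMap R0 (MvPolynomial (Fin (m + 2)) A)) (f : R0 →+* R0)
      = RingHom.comp (σ : MvPolynomial (Fin (m + 2)) A →+* MvPolynomial (Fin (m + 2)) A)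
        (algebraMap R0 (MvPolynomial (Fin (m + 2)) A)) := by
    ext x
    rfl
  have h1 : IsAlgebraic R0 ((σ : MvPolynomial (Fin (m + 2)) A →+* MvPolynomial (Fin (m + 2)) A)
      (linForm m g)) :=
    halg.ringHom_of_comp_eq (f : R0 →+* R0)
      (σ : MvPolynomial (Fin (m + 2)) A →+* MvPolynomial (Fin (m + 2)) A) hfinj hcomm
  have h2 : σ (linForm m g) = linForm m g + C (g 1) * X 0 := shear_linForm m g
  have h3 : IsAlgebraic R0 (linForm m g + C (g 1) * X 0) := by
    rw [← h2]
    exact h1
  have h4 : IsAlgebraic R0 (X 0 * C (g 1) : MvPolynomial (Fin (m + 2)) A) := by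
    have := h3.sub halg
    rwa [add_sub_cancel_left, mul_comm] at this
  have hX0 : IsAlgebraic R0 (X 0 : MvPolynomial (Fin (m + 2)) A) :=
    isAlgebraic_algebraMap (⟨X 0, hXmem 0⟩ : R0)
  have hX0ne : (X 0 : MvPolynomial (Fin (m + 2)) A) ∈ nonZeroDivisors _ :=
    mem_nonZeroDivisors_of_ne_zero (MvPolynomial.X_ne_zero 0)
  exact hG1 (IsAlgebraic.of_mul hX0ne hX0 h4)

/-- the main independence statement inside `A[x]`. -/
theorem algebraicIndependent_poly (m : ℕ) (g : Fin (m + 2) → A)
    (h0 : Transcendental k (g 0)) (h1 : Transcendental (Algebra.adjoin k {g 0}) (g 1)) :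
    AlgebraicIndependent k
      (Sum.elim (fun i : Fin (m + 2) => (X i : MvPolynomial (Fin (m + 2)) A))
        ![linForm m g, C (g 0)]) := by
  -- the pair `(g1, g0)` as an `Option Unit` family
  have hpair : AlgebraicIndependent k (fun o : Option Unit => o.elim (g 1) (fun _ => g 0)) := by
    rw [AlgebraicIndependent.option_iff]
    refine ⟨?_, ?_⟩
    · rw [algebraicIndependent_unique_type_iff]
      exact h0
    · rw [Set.range_const]
      exact h1
  have hX : AlgebraicIndependent A (X : Fin (m + 2) → MvPolynomial (Fin (m + 2)) A) :=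
    MvPolynomial.algebraicIndependent_X _ _
  have hz := hpair.sumElim_comp hX
  -- the option family with `G1`
  have hbase : AlgebraicIndependent k (baseFam m (g 0)) := by
    have := hz.comp (Sum.map id (fun _ : Unit => (some () : Option Unit)))
      (Sum.map_injective.mpr ⟨Function.injective_id, fun _ _ _ => rfl⟩)
    convert this using 1
    funext j
    rcases j with i | u
    · rfl
    · simp [baseFam, MvPolynomial.algebraMap_eq]
  have hoptG1 : AlgebraicIndependent k
      (fun o : Option (Fin (m + 2) ⊕ Unit) => o.elim (C (g 1)) (baseFam m (g 0))) := by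
    let e : Option (Fin (m + 2) ⊕ Unit) → Fin (m + 2) ⊕ Option Unit := fun o =>
      o.elim (Sum.inr none) (Sum.map id (fun _ => some ()))
    have he : Function.Injective e := by
      intro a b hab
      rcases a with _ | (a | a) <;> rcases b with _ | (b | b) <;> simp [e] at hab ⊢
      exact hab
    have := hz.comp e he
    convert this using 1
    funext j
    rcases j with _ | (i | u)
    · simp [e, MvPolynomial.algebraMap_eq]
    · rfl
    · simp [e, baseFam, MvPolynomial.algebraMap_eq]
  have hG1 : Transcendental (Algebra.adjoin k (Set.range (baseFam m (g 0))))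
      (C (g 1) : MvPolynomial (Fin (m + 2)) A) :=
    (hbase.option_iff_transcendental _).mp hoptG1
  have hH := transcendental_linForm (k := k) m g hG1
  have hoptH : AlgebraicIndependent k
      (fun o : Option (Fin (m + 2) ⊕ Unit) => o.elim (linForm m g) (baseFam m (g 0))) :=
    (hbase.option_iff_transcendental _).mpr hH
  let e' : Fin (m + 2) ⊕ Fin 2 → Option (Fin (m + 2) ⊕ Unit) := fun j =>
    Sum.elim (fun i => some (Sum.inl i)) (fun j => if j = 0 then none else some (Sum.inr ())) j
  have he' : Function.Injective e' := by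
    intro a b hab
    rcases a with a | a <;> rcases b with b | b
    · simpa [e'] using hab
    · exfalso
      fin_cases b <;> simp [e'] at hab
    · exfalso
      fin_cases a <;> simp [e'] at hab
    · fin_cases a <;> fin_cases b <;> simp [e'] at hab ⊢
  have := hoptH.comp e' he'
  convert this using 1
  funext j
  rcases j with i | j
  · rfl
  · fin_cases j
    · simp [e']
    · simp [e', baseFam]

end core

section final

variable {k A : Type u} [Field k] [CommRing A] [IsDomain A] [Algebra k A]
  [Algebra.FiniteType k A]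

open MvPolynomial

theorem main (m : ℕ) (g : Fin (m + 2) → A)
    (p : Ideal A) (hp : p ∈ (Ideal.span {g 0, g 1}).minimalPrimes)
    (hdim : ringKrullDim (A ⧸ p) + 2 = ringKrullDim A) :
    ∃ c : Fin (m + 2) → k,
      AlgebraicIndependent k
        (Sum.elim
          (fun i : Fin (m + 2) => algebraMap (MvPolynomial (Fin (m + 2)) (FractionRing A)) (FractionRing (MvPolynomial (Fin (m + 2)) (FractionRing A))) (MvPolynomial.X i))
          ![∑ i, algebraMap A (FractionRing (MvPolynomial (Fin (m + 2)) (FractionRing A))) (g i) *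
              algebraMap (MvPolynomial (Fin (m + 2)) (FractionRing A)) (FractionRing (MvPolynomial (Fin (m + 2)) (FractionRing A))) (MvPolynomial.X i),
            algebraMap A (FractionRing (MvPolynomial (Fin (m + 2)) (FractionRing A))) (∑ i, c i • g i)]) := by
  classical
  haveI : IsNoetherianRing A := Algebra.FiniteType.isNoetherianRing k A
  haveI hprime : p.IsPrime := hp.1.1
  have hht := height_eq_two k p hdim
  obtain ⟨h0, h1⟩ := transcendental_pair (k := k) hp hht
  have hpoly := algebraicIndependent_poly (k := k) m g h0 h1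
  refine ⟨Pi.single 0 1, ?_⟩
  let ψ : MvPolynomial (Fin (m + 2)) A →ₐ[k]
      FractionRing (MvPolynomial (Fin (m + 2)) (FractionRing A)) :=
    (IsScalarTower.toAlgHom k (MvPolynomial (Fin (m + 2)) (FractionRing A))
      (FractionRing (MvPolynomial (Fin (m + 2)) (FractionRing A)))).comp
      (MvPolynomial.mapAlgHom (IsScalarTower.toAlgHom k A (FractionRing A)))
  have hψinj : Function.Injective ψ := by
    have h1 : Function.Injective (MvPolynomial.map (σ := Fin (m + 2)) (algebraMap A (FractionRing A))) :=
      MvPolynomial.map_injective _ (IsFractionRing.injective A (FractionRing A))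
    have h2 : Function.Injective (algebraMap (MvPolynomial (Fin (m + 2)) (FractionRing A))
        (FractionRing (MvPolynomial (Fin (m + 2)) (FractionRing A)))) :=
      IsFractionRing.injective _ _
    intro a b hab
    apply h1
    apply h2
    exact hab
  have hψX : ∀ i, ψ (X i) = algebraMap (MvPolynomial (Fin (m + 2)) (FractionRing A))
      (FractionRing (MvPolynomial (Fin (m + 2)) (FractionRing A))) (X i) := by
    intro i
    simp [ψ]
  have hψC : ∀ a : A, ψ (C a) = algebraMap A
      (FractionRing (MvPolynomial (Fin (m + 2)) (FractionRing A))) a := by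
    intro a
    simp only [ψ, AlgHom.comp_apply, MvPolynomial.mapAlgHom_apply, MvPolynomial.map_C,
      IsScalarTower.coe_toAlgHom']
    rw [IsScalarTower.algebraMap_apply A (MvPolynomial (Fin (m + 2)) (FractionRing A))
      (FractionRing (MvPolynomial (Fin (m + 2)) (FractionRing A)))]
    congr 1
  have := hpoly.map' hψinj
  convert this using 1
  funext j
  rcases j with i | j
  · simp only [Sum.elim_inl, Function.comp_apply]
    rw [hψX]
  · fin_cases j
    · simp only [Function.comp_apply, Sum.elim_inr]
      simp only [Fin.zero_eta, Matrix.cons_val_zero]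
      unfold linForm
      rw [map_sum]
      apply Finset.sum_congr rfl
      intro i _
      rw [map_mul, hψC, hψX]
    · simp only [Function.comp_apply, Sum.elim_inr]
      simp only [Fin.mk_one, Matrix.cons_val_one, Matrix.cons_val_zero]
      rw [hψC]
      congr 1
      rw [Finset.sum_eq_single 0]
      · simp
      · intro b _ hb
        simp [hb]
      · intro h
        exact absurd (Finset.mem_univ _) h

end final

end Groth.Agent.Lib.AlgIndepCodim2
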