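import Groth.Agent.Lib.AlgSpDiag_helper7
import Mathlib.AlgebraicGeometry.Morphisms.Separated
import Mathlib.AlgebraicGeometry.Morphisms.QuasiSeparated

set_option autoImplicit false
universe u
open CategoryTheory CategoryTheory.Limits AlgebraicGeometry Opposite

namespace Groth.Agent.Lib.AlgSpSep_helper7

open AlgSp

/-- For a pullback square `P = X ×_Y Z`, the square `P ×_Z P ⟶ X ×_Y X` over `P ⟶ X` is a
pullback. -/
theorem isPullback_map_fst {C : Type*} [Category C] [HasPullbacks C]
    {P X Y Z : C} {fst : P ⟶ X} {snd : P ⟶ Z} {f : X ⟶ Y} {g : Z ⟶ Y}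
    (sq : IsPullback fst snd f g) :
    IsPullback (pullback.map snd snd f f fst fst g sq.w.symm sq.w.symm) (pullback.fst snd snd)
      (pullback.fst f f) fst := by
  have h1 : IsPullback (pullback.snd snd snd) (pullback.fst snd snd) snd snd :=
    (IsPullback.of_hasPullback snd snd).flip
  have h2 := h1.paste_horiz sq
  have h3 : IsPullback (pullback.snd f f) (pullback.fst f f) f f :=
    (IsPullback.of_hasPullback f f).flip
  refine IsPullback.of_right ?_ ?_ h3
  · have e : pullback.map snd snd f f fst fst g sq.w.symm sq.w.symm ≫ pullback.snd f f =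
      pullback.snd snd snd ≫ fst := pullback.lift_snd _ _ _
    rw [e, sq.w]
    exact h2
  · exact pullback.lift_fst _ _ _

/-- For a pullback square `P = X ×_Y Z`, `P ×_Z P = (X ×_Y X) ×_Y Z`. -/
theorem isPullback_map_base {C : Type*} [Category C] [HasPullbacks C]
    {P X Y Z : C} {fst : P ⟶ X} {snd : P ⟶ Z} {f : X ⟶ Y} {g : Z ⟶ Y}
    (sq : IsPullback fst snd f g) :
    IsPullback (pullback.map snd snd f f fst fst g sq.w.symm sq.w.symm)
      (pullback.fst snd snd ≫ snd) (pullback.fst f f ≫ f) g :=
  (isPullback_map_fst sq).paste_vert sq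

/-- The diagonal of a base change is the base change of the diagonal. -/
theorem isPullback_diagonal_of_isPullback {C : Type*} [Category C] [HasPullbacks C]
    {P X Y Z : C} {fst : P ⟶ X} {snd : P ⟶ Z} {f : X ⟶ Y} {g : Z ⟶ Y}
    (sq : IsPullback fst snd f g) :
    IsPullback (pullback.diagonal snd) fst
      (pullback.map snd snd f f fst fst g sq.w.symm sq.w.symm) (pullback.diagonal f) := by
  refine IsPullback.of_right ?_ ?_ (isPullback_map_fst sq).flip
  · have e1 : pullback.diagonal snd ≫ pullback.fst snd snd = 𝟙 P := pullback.diagonal_fst _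
    have e2 : pullback.diagonal f ≫ pullback.fst f f = 𝟙 X := pullback.diagonal_fst _
    rw [e1, e2]
    exact IsPullback.of_horiz_isIso ⟨by simp⟩
  · apply pullback.hom_ext
    · rw [Category.assoc, Category.assoc, pullback.lift_fst, pullback.diagonal_fst,
        ← Category.assoc, pullback.diagonal_fst, Category.id_comp, Category.comp_id]
    · rw [Category.assoc, Category.assoc, pullback.lift_snd, pullback.diagonal_snd,
        ← Category.assoc, pullback.diagonal_snd, Category.id_comp, Category.comp_id]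

variable {S : Scheme.{u}}

/-- `RepWith Q g` may be tested after factoring each chart of the target through a morphism along
which the base change of `g` is known to be `RepWith Q`. -/
theorem repWith_of_forall_factor (Q : MorphismProperty Scheme.{u}) {A B : Sp S} (g : A ⟶ B)
    (h : ∀ (T : Over S) (c : (yon S).obj T ⟶ B), ∃ (A' B' : Sp S) (g' : A' ⟶ B') (m : B' ⟶ B)
      (n : A' ⟶ A) (c' : (yon S).obj T ⟶ B'), IsPullback n g' g m ∧ c' ≫ m = c ∧ RepWith Q g') :
    RepWith Q g := by
  refine ⟨fun T c => ?_, fun T V c fst snd sq => ?_⟩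
  · obtain ⟨A', B', g', m, n, c', sqA, hc, hg'⟩ := h T c
    obtain ⟨V, s, fst', sq'⟩ := hg'.rep c'
    exact ⟨V, s, fst' ≫ n, hc ▸ sq'.paste_horiz sqA⟩
  · obtain ⟨A', B', g', m, n, c', sqA, hc, hg'⟩ := h T c
    subst hc
    have hw : fst ≫ g = ((yon S).map snd ≫ c') ≫ m := by rw [Category.assoc]; exact sq.w
    have := IsPullback.of_right (h₁₁ := sqA.lift fst ((yon S).map snd ≫ c') hw)
      (by rw [sqA.lift_fst]; exact sq) (sqA.lift_snd _ _ _) sqA
    exact hg'.property _ _ _ this

/-- Diagonal test: the diagonal of `f` is `RepWith Q` as soon as the diagonal of every base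
change of `f` to a scheme is. -/
theorem repWith_diagonal_of_forall_yon (Q : MorphismProperty Scheme.{u}) {X Y : Sp S} (f : X ⟶ Y)
    (h : ∀ (T : Over S) (g : (yon S).obj T ⟶ Y), ∃ (P : Sp S) (fst : P ⟶ X)
      (snd : P ⟶ (yon S).obj T), IsPullback fst snd f g ∧ RepWith Q (pullback.diagonal snd)) :
    RepWith Q (pullback.diagonal f) := by
  apply repWith_of_forall_factor
  intro T c
  obtain ⟨P, fst, snd, sq, hd⟩ := h T (c ≫ pullback.fst f f ≫ f)
  have hb : (c ≫ pullback.snd f f) ≫ f = 𝟙 _ ≫ c ≫ pullback.fst f f ≫ f := by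
    rw [Category.id_comp, Category.assoc, pullback.condition]
  have ha : (c ≫ pullback.fst f f) ≫ f = 𝟙 _ ≫ c ≫ pullback.fst f f ≫ f := by
    rw [Category.id_comp, Category.assoc]
  refine ⟨P, pullback snd snd, pullback.diagonal snd, _, fst,
    pullback.lift (sq.lift (c ≫ pullback.fst f f) (𝟙 _) ha) (sq.lift (c ≫ pullback.snd f f) (𝟙 _) hb)
      (by rw [sq.lift_snd, sq.lift_snd]),
    (isPullback_diagonal_of_isPullback sq).flip, ?_, hd⟩
  apply pullback.hom_ext
  · rw [Category.assoc, pullback.lift_fst, ← Category.assoc, pullback.lift_fst, sq.lift_fst]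
  · rw [Category.assoc, pullback.lift_snd, ← Category.assoc, pullback.lift_snd, sq.lift_fst]

/-- `RepWith Q (diagonal ·)` is stable under base change. -/
theorem repWith_diagonal_of_isPullback (Q : MorphismProperty Scheme.{u}) {P X Y Z : Sp S}
    {fst : P ⟶ X} {snd : P ⟶ Z} {f : X ⟶ Y} {g : Z ⟶ Y} (sq : IsPullback fst snd f g)
    (hf : RepWith Q (pullback.diagonal f)) : RepWith Q (pullback.diagonal snd) :=
  MorphismProperty.of_isPullback (P := RepWith Q) (isPullback_diagonal_of_isPullback sq).flip hf

/-- For a representable morphism, the diagonal is `RepWith Q` iff the morphism is representable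
with diagonal in `Q`. -/
theorem repWith_diagonal_iff_of_representable (Q : MorphismProperty Scheme.{u})
    [Q.IsStableUnderBaseChange] {X Y : Sp S} (f : X ⟶ Y) (hf : Representable f) :
    RepWith Q (pullback.diagonal f) ↔ RepWith Q.diagonal f := by
  constructor
  · intro h
    refine ⟨hf, fun U V g fst snd sq => ?_⟩
    have := repWith_diagonal_of_isPullback Q sq h
    exact (repWith_diagonal_yon_map_iff Q snd).1 this
  · intro h
    apply repWith_diagonal_of_forall_yon
    intro T g
    obtain ⟨V, s, fst, sq⟩ := hf g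
    exact ⟨_, fst, _, sq, (repWith_diagonal_yon_map_iff Q s).2 (h.property _ _ _ sq)⟩

theorem isSeparatedMor_iff_of_representable {X Y : Sp S} (f : X ⟶ Y) (hf : Representable f) :
    IsSeparatedMor f ↔ RepWith @IsSeparated f := by
  rw [IsSeparated.isSeparated_eq_diagonal_isClosedImmersion]
  exact repWith_diagonal_iff_of_representable _ f hf

theorem isQuasiSeparatedMor_iff_of_representable {X Y : Sp S} (f : X ⟶ Y) (hf : Representable f) :
    IsQuasiSeparatedMor f ↔ RepWith @QuasiSeparated f := by
  rw [quasiSeparated_eq_diagonal_is_quasiCompact]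
  exact repWith_diagonal_iff_of_representable _ f hf

theorem isSeparatedMor_of_isPullback {P X Y Z : Sp S}
    {fst : P ⟶ X} {snd : P ⟶ Z} {f : X ⟶ Y} {g : Z ⟶ Y} (sq : IsPullback fst snd f g)
    (hf : IsSeparatedMor f) : IsSeparatedMor snd :=
  repWith_diagonal_of_isPullback _ sq hf

theorem isQuasiSeparatedMor_of_isPullback {P X Y Z : Sp S}
    {fst : P ⟶ X} {snd : P ⟶ Z} {f : X ⟶ Y} {g : Z ⟶ Y} (sq : IsPullback fst snd f g)
    (hf : IsQuasiSeparatedMor f) : IsQuasiSeparatedMor snd :=
  repWith_diagonal_of_isPullback _ sq hf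

theorem isLocallySeparatedMor_of_isPullback {P X Y Z : Sp S}
    {fst : P ⟶ X} {snd : P ⟶ Z} {f : X ⟶ Y} {g : Z ⟶ Y} (sq : IsPullback fst snd f g)
    (hf : IsLocallySeparatedMor f) : IsLocallySeparatedMor snd :=
  repWith_diagonal_of_isPullback _ sq hf

/-- The property part of `repWith_of_forall_factor`, for one chart. -/
theorem property_of_factor (Q : MorphismProperty Scheme.{u}) {A B : Sp S} {g : A ⟶ B}
    {T V : Over S} {c : (yon S).obj T ⟶ B} {fst : (yon S).obj V ⟶ A} {snd : V ⟶ T}
    (sq : IsPullback fst ((yon S).map snd) g c) {A' B' : Sp S} {g' : A' ⟶ B'} {m : B' ⟶ B}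
    {n : A' ⟶ A} {c' : (yon S).obj T ⟶ B'} (sqA : IsPullback n g' g m) (hc : c' ≫ m = c)
    (hg' : RepWith Q g') : Q snd.left := by
  subst hc
  have hw : fst ≫ g = ((yon S).map snd ≫ c') ≫ m := by rw [Category.assoc]; exact sq.w
  have := IsPullback.of_right (h₁₁ := sqA.lift fst ((yon S).map snd ≫ c') hw)
    (by rw [sqA.lift_fst]; exact sq) (sqA.lift_snd _ _ _) sqA
  exact hg'.property _ _ _ this

/-- Every chart of `X ×_Y X` factors through `P ×_T P ⟶ X ×_Y X` for `P = X ×_Y T`. -/
theorem exists_diagonal_factor {X Y : Sp S} (f : X ⟶ Y) {T : Over S}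
    (c : (yon S).obj T ⟶ pullback f f) {P : Sp S} {fst : P ⟶ X} {snd : P ⟶ (yon S).obj T}
    (sq : IsPullback fst snd f (c ≫ pullback.fst f f ≫ f)) :
    ∃ c' : (yon S).obj T ⟶ pullback snd snd,
      c' ≫ pullback.map snd snd f f fst fst _ sq.w.symm sq.w.symm = c := by
  have hb : (c ≫ pullback.snd f f) ≫ f = 𝟙 _ ≫ c ≫ pullback.fst f f ≫ f := by
    rw [Category.id_comp, Category.assoc, pullback.condition]
  have ha : (c ≫ pullback.fst f f) ≫ f = 𝟙 _ ≫ c ≫ pullback.fst f f ≫ f := by
    rw [Category.id_comp, Category.assoc]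
  refine ⟨pullback.lift (sq.lift (c ≫ pullback.fst f f) (𝟙 _) ha)
    (sq.lift (c ≫ pullback.snd f f) (𝟙 _) hb) (by rw [sq.lift_snd, sq.lift_snd]), ?_⟩
  apply pullback.hom_ext
  · rw [Category.assoc, pullback.lift_fst, ← Category.assoc, pullback.lift_fst, sq.lift_fst]
  · rw [Category.assoc, pullback.lift_snd, ← Category.assoc, pullback.lift_snd, sq.lift_fst]

/-- For `Q` Zariski-local on the target, `RepWith Q f` for representable `f` may be tested on
affine charts. -/
theorem repWith_of_forall_affine (Q : MorphismProperty Scheme.{u}) [IsZariskiLocalAtTarget Q]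
    {F G : Sp S} (f : F ⟶ G) (hf : Representable f)
    (h : ∀ (T V : Over S) (g : (yon S).obj T ⟶ G) (fst : (yon S).obj V ⟶ F) (snd : V ⟶ T),
      IsAffine T.left → IsPullback fst ((yon S).map snd) f g → Q snd.left) : RepWith Q f := by
  refine ⟨hf, fun T V g fst snd sq => ?_⟩
  change Q snd.left
  rw [IsZariskiLocalAtTarget.iff_of_openCover (P := Q) T.left.affineCover]
  intro i
  let j : Over.mk (T.left.affineCover.f i ≫ T.hom) ⟶ T := Over.homMk (T.left.affineCover.f i) rfl
  have sq' := Groth.Agent.Lib.AlgSpQC_helper7.isPullback_restrict sq j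
  have hA : IsAffine (Over.mk (T.left.affineCover.f i ≫ T.hom)).left := by
    dsimp; infer_instance
  have hQ : Q (pullback.snd snd j).left := h _ _ _ _ _ hA sq'
  have e : (PreservesPullback.iso (Over.forget S) snd j).hom ≫
      pullback.snd snd.left (T.left.affineCover.f i) = (pullback.snd snd j).left :=
    PreservesPullback.iso_hom_snd (Over.forget S) snd j
  rw [← e] at hQ
  exact (MorphismProperty.cancel_left_of_respectsIso Q _ _).1 hQ

/-- Diagonal test on affine schemes, for a representable diagonal and `Q` Zariski-local on the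
target. -/
theorem repWith_diagonal_of_forall_affine (Q : MorphismProperty Scheme.{u})
    [IsZariskiLocalAtTarget Q] {X Y : Sp S} (f : X ⟶ Y)
    (hd : Representable (pullback.diagonal f))
    (h : ∀ (T : Over S), IsAffine T.left → ∀ (g : (yon S).obj T ⟶ Y), ∃ (P : Sp S) (fst : P ⟶ X)
      (snd : P ⟶ (yon S).obj T), IsPullback fst snd f g ∧ RepWith Q (pullback.diagonal snd)) :
    RepWith Q (pullback.diagonal f) := by
  apply repWith_of_forall_affine Q _ hd
  intro T V c fst' snd' hT sq'
  obtain ⟨P, fst, snd, sq, hQ⟩ := h T hT (c ≫ pullback.fst f f ≫ f)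
  obtain ⟨c', hc'⟩ := exists_diagonal_factor f c sq
  exact property_of_factor Q sq' (isPullback_diagonal_of_isPullback sq).flip hc' hQ

end Groth.Agent.Lib.AlgSpSep_helper7
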