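import Mathlib
import Groth.Agent.Lib.AlgSpSep_helper7

/-!
# Affine fibre products over a separated algebraic space (helper7)

`h_U ×_X h_V` is the base change of the diagonal of `X`; for `S` separated and `U`, `V` affine this
gives affineness of the fibre product and surjectivity of `Γ(U) ⊗_ℤ Γ(V) → Γ(P)`; conversely
these two properties make `P ⟶ U ×_S V` a closed immersion.
-/

set_option autoImplicit false
universe u
open CategoryTheory CategoryTheory.Limits AlgebraicGeometry Opposite TensorProduct

namespace Groth.Agent.Lib.AlgSpAffPb_helper7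

open AlgSp

section cat

variable {C : Type*} [Category C]

/-- A fibre product over `X` is the base change of the diagonal of `X`. -/
theorem isPullback_diag_of_isPullback [HasBinaryProducts C] {P A B X : C} {p1 : P ⟶ A}
    {p2 : P ⟶ B} {a : A ⟶ X} {b : B ⟶ X} (h : IsPullback p1 p2 a b) :
    IsPullback (p1 ≫ a) (prod.lift p1 p2) (Limits.diag X) (prod.map a b) := by
  have w : (p1 ≫ a) ≫ Limits.diag X = prod.lift p1 p2 ≫ prod.map a b := by
    apply Limits.prod.hom_ext
    · simp only [Limits.diag, Category.assoc, prod.lift_fst, Category.comp_id, prod.map_fst,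
        prod.lift_fst_assoc]
    · simp only [Limits.diag, Category.assoc, prod.lift_snd, Category.comp_id, prod.map_snd,
        prod.lift_snd_assoc]
      exact h.w
  have key : ∀ (s : PullbackCone (Limits.diag X) (prod.map a b)),
      (s.snd ≫ prod.fst) ≫ a = s.fst ∧ (s.snd ≫ prod.snd) ≫ b = s.fst := by
    intro s
    have hc := s.condition
    constructor
    · have := congrArg (· ≫ prod.fst) hc
      simp only [Limits.diag, Category.assoc, prod.lift_fst, Category.comp_id, prod.map_fst]
        at this
      rw [Category.assoc]; exact this.symm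
    · have := congrArg (· ≫ prod.snd) hc
      simp only [Limits.diag, Category.assoc, prod.lift_snd, Category.comp_id, prod.map_snd]
        at this
      rw [Category.assoc]; exact this.symm
  refine ⟨⟨w⟩, ⟨PullbackCone.IsLimit.mk w
    (fun s => h.lift (s.snd ≫ prod.fst) (s.snd ≫ prod.snd) ((key s).1.trans (key s).2.symm))
    (fun s => ?_) (fun s => ?_) (fun s m hm1 hm2 => ?_)⟩⟩
  · rw [← Category.assoc, h.lift_fst]; exact (key s).1
  · apply Limits.prod.hom_ext
    · rw [Category.assoc, prod.lift_fst, h.lift_fst]
    · rw [Category.assoc, prod.lift_snd, h.lift_snd]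
  · apply h.hom_ext
    · rw [h.lift_fst, ← hm2, Category.assoc, prod.lift_fst]
    · rw [h.lift_snd, ← hm2, Category.assoc, prod.lift_snd]

instance mono_mapDesc [HasPullbacks C] {X Y S T : C} (f : X ⟶ S) (g : Y ⟶ S) (i : S ⟶ T) :
    Mono (pullback.mapDesc f g i) := ⟨fun u v huv => by
  apply pullback.hom_ext
  · have := congrArg (· ≫ pullback.fst _ _) huv
    simp only [Category.assoc, pullback.lift_fst, Category.comp_id] at this
    exact this
  · have := congrArg (· ≫ pullback.snd _ _) huv
    simp only [Category.assoc, pullback.lift_snd, Category.comp_id] at this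
    exact this⟩

end cat

variable {S : Scheme.{u}}

theorem map_prod_lift_comp_prodComparison {U V P : Over S} (fst : P ⟶ U) (snd : P ⟶ V) :
    (yon S).map (prod.lift fst snd) ≫ prodComparison (yon S) U V =
      prod.lift ((yon S).map fst) ((yon S).map snd) := by
  apply Limits.prod.hom_ext
  · rw [Category.assoc, prodComparison_fst, ← Functor.map_comp, prod.lift_fst, prod.lift_fst]
  · rw [Category.assoc, prodComparison_snd, ← Functor.map_comp, prod.lift_snd, prod.lift_snd]

/-- The chart of `X ⨯ X` attached to two maps from schemes. -/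
noncomputable def pairMap {X : Sp S} {U V : Over S} (a : (yon S).obj U ⟶ X)
    (b : (yon S).obj V ⟶ X) : (yon S).obj (U ⨯ V) ⟶ X ⨯ X :=
  prodComparison (yon S) U V ≫ prod.map a b

theorem isPullback_diag_pairMap {X : Sp S} {U V P : Over S} {a : (yon S).obj U ⟶ X}
    {b : (yon S).obj V ⟶ X} {fst : P ⟶ U} {snd : P ⟶ V}
    (h : IsPullback ((yon S).map fst) ((yon S).map snd) a b) :
    IsPullback ((yon S).map fst ≫ a) ((yon S).map (prod.lift fst snd)) (Limits.diag X)
      (pairMap a b) := by
  have sq := isPullback_diag_of_isPullback h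
  rw [← map_prod_lift_comp_prodComparison] at sq
  exact sq.of_iso (Iso.refl _) (Iso.refl _) (asIso (prodComparison (yon S) U V)).symm (Iso.refl _)
    (by simp) (by simp) (by simp) (by simp [pairMap])

theorem diag_comp_pairMap {X : Sp S} {T : Over S} (g : (yon S).obj T ⟶ X ⨯ X) :
    (yon S).map (Limits.diag T) ≫ pairMap (g ≫ prod.fst) (g ≫ prod.snd) = g := by
  apply Limits.prod.hom_ext
  · rw [pairMap, Category.assoc, Category.assoc, prod.map_fst, prodComparison_fst_assoc,
      ← Functor.map_comp_assoc, prod.lift_fst, CategoryTheory.Functor.map_id, Category.id_comp]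
  · rw [pairMap, Category.assoc, Category.assoc, prod.map_snd, prodComparison_snd_assoc,
      ← Functor.map_comp_assoc, prod.lift_snd, CategoryTheory.Functor.map_id, Category.id_comp]

/-- For `X` separated, `h_U ×_X h_V ⟶ U ×_S V` is a closed immersion. -/
theorem isClosedImmersion_prod_lift_left {X : Sp S} (hX : IsSeparatedSp X) {U V P : Over S}
    {a : (yon S).obj U ⟶ X} {b : (yon S).obj V ⟶ X} {fst : P ⟶ U} {snd : P ⟶ V}
    (h : IsPullback ((yon S).map fst) ((yon S).map snd) a b) :
    IsClosedImmersion (prod.lift fst snd).left :=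
  (hX : RepWith @IsClosedImmersion (Limits.diag X)).property _ _ _ (isPullback_diag_pairMap h)

section scheme

variable {U V P : Over S} (fst : P ⟶ U) (snd : P ⟶ V)

/-- The map from `P` to the absolute product `U ×_ℤ V`. -/
noncomputable def toAbs :
    P.left ⟶ pullback (U.hom ≫ terminal.from S) (V.hom ≫ terminal.from S) :=
  (prod.lift fst snd).left ≫ (Over.prodLeftIsoPullback U V).hom ≫
    pullback.mapDesc U.hom V.hom (terminal.from S)

theorem toAbs_fst : toAbs fst snd ≫ pullback.fst _ _ = fst.left := by
  simp only [toAbs, Category.assoc, pullback.lift_fst, Category.comp_id,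
    Over.prodLeftIsoPullback_hom_fst]
  rw [← Over.comp_left, prod.lift_fst]

theorem toAbs_snd : toAbs fst snd ≫ pullback.snd _ _ = snd.left := by
  simp only [toAbs, Category.assoc, pullback.lift_snd, Category.comp_id,
    Over.prodLeftIsoPullback_hom_snd]
  rw [← Over.comp_left, prod.lift_snd]

theorem isClosedImmersion_toAbs [S.IsSeparated] (h : IsClosedImmersion (prod.lift fst snd).left) :
    IsClosedImmersion (toAbs fst snd) := by
  unfold toAbs
  infer_instance

theorem isClosedImmersion_left_of_toAbs (h : IsClosedImmersion (toAbs fst snd)) :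
    IsClosedImmersion (prod.lift fst snd).left := by
  have h' : IsClosedImmersion (((prod.lift fst snd).left ≫ (Over.prodLeftIsoPullback U V).hom) ≫
      pullback.mapDesc U.hom V.hom (terminal.from S)) := by
    rw [Category.assoc]; exact h
  have h2 := IsClosedImmersion.of_comp
    ((prod.lift fst snd).left ≫ (Over.prodLeftIsoPullback U V).hom)
    (pullback.mapDesc U.hom V.hom (terminal.from S))
  exact (MorphismProperty.cancel_right_of_respectsIso @IsClosedImmersion _ _).1 h2

theorem appTop_toAbs_fst (x : Γ(U.left, ⊤)) :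
    (toAbs fst snd).appTop.hom
      ((pullback.fst (U.hom ≫ terminal.from S) (V.hom ≫ terminal.from S)).appTop.hom x) =
      fst.left.appTop.hom x := by
  have h1 : (pullback.fst (U.hom ≫ terminal.from S) (V.hom ≫ terminal.from S)).appTop ≫
      (toAbs fst snd).appTop = fst.left.appTop := by
    rw [← Scheme.Hom.comp_appTop, toAbs_fst]
  exact congrArg (fun f => f.hom x) h1

theorem appTop_toAbs_snd (y : Γ(V.left, ⊤)) :
    (toAbs fst snd).appTop.hom
      ((pullback.snd (U.hom ≫ terminal.from S) (V.hom ≫ terminal.from S)).appTop.hom y) =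
      snd.left.appTop.hom y := by
  have h1 : (pullback.snd (U.hom ≫ terminal.from S) (V.hom ≫ terminal.from S)).appTop ≫
      (toAbs fst snd).appTop = snd.left.appTop := by
    rw [← Scheme.Hom.comp_appTop, toAbs_snd]
  exact congrArg (fun f => f.hom y) h1

theorem affine_surjective_of_isClosedImmersion [IsAffine U.left] [IsAffine V.left]
    (hc : IsClosedImmersion (toAbs fst snd)) :
    IsAffine P.left ∧ Function.Surjective
      (Algebra.TensorProduct.productMap fst.left.appTop.hom.toIntAlgHom
        snd.left.appTop.hom.toIntAlgHom) := by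
  haveI : IsAffine (pullback (U.hom ≫ terminal.from S) (V.hom ≫ terminal.from S)) :=
    inferInstance
  obtain ⟨hP, hsurj⟩ := IsClosedImmersion.isAffine_surjective_of_isAffine (toAbs fst snd)
  refine ⟨hP, ?_⟩
  have hpush := isPushout_appTop_of_isPullback
    (IsPullback.of_hasPullback (U.hom ≫ terminal.from S) (V.hom ≫ terminal.from S))
  have hgen := CommRingCat.closure_range_union_range_eq_top_of_isPushout hpush
  have hle : Subring.closure
      (Set.range (pullback.fst (U.hom ≫ terminal.from S) (V.hom ≫ terminal.from S)).appTop ∪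
        Set.range (pullback.snd (U.hom ≫ terminal.from S) (V.hom ≫ terminal.from S)).appTop) ≤
      ((Algebra.TensorProduct.productMap fst.left.appTop.hom.toIntAlgHom
        snd.left.appTop.hom.toIntAlgHom).toRingHom.range).comap (toAbs fst snd).appTop.hom := by
    rw [Subring.closure_le]
    rintro _ (⟨x, rfl⟩ | ⟨y, rfl⟩)
    · refine Subring.mem_comap.2 ⟨x ⊗ₜ[ℤ] 1, ?_⟩
      change (Algebra.TensorProduct.productMap fst.left.appTop.hom.toIntAlgHom
        snd.left.appTop.hom.toIntAlgHom) (x ⊗ₜ[ℤ] 1) = _
      rw [Algebra.TensorProduct.productMap_apply_tmul, map_one, mul_one]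
      exact (appTop_toAbs_fst fst snd x).symm
    · refine Subring.mem_comap.2 ⟨1 ⊗ₜ[ℤ] y, ?_⟩
      change (Algebra.TensorProduct.productMap fst.left.appTop.hom.toIntAlgHom
        snd.left.appTop.hom.toIntAlgHom) (1 ⊗ₜ[ℤ] y) = _
      rw [Algebra.TensorProduct.productMap_apply_tmul, map_one, one_mul]
      exact (appTop_toAbs_snd fst snd y).symm
  intro z
  obtain ⟨y, rfl⟩ := hsurj z
  have hy : y ∈ Subring.closure
      (Set.range (pullback.fst (U.hom ≫ terminal.from S) (V.hom ≫ terminal.from S)).appTop ∪
        Set.range (pullback.snd (U.hom ≫ terminal.from S) (V.hom ≫ terminal.from S)).appTop) := by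
    rw [hgen]; trivial
  exact hle hy

theorem isClosedImmersion_toAbs_of_surjective [IsAffine U.left] [IsAffine V.left]
    [IsAffine P.left]
    (hs : Function.Surjective
      (Algebra.TensorProduct.productMap fst.left.appTop.hom.toIntAlgHom
        snd.left.appTop.hom.toIntAlgHom)) :
    IsClosedImmersion (toAbs fst snd) := by
  haveI : IsAffine (pullback (U.hom ≫ terminal.from S) (V.hom ≫ terminal.from S)) :=
    inferInstance
  apply IsClosedImmersion.of_surjective_of_isAffine
  intro z
  obtain ⟨w, rfl⟩ := hs z
  induction w using TensorProduct.induction_on with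
  | zero => exact ⟨0, by rw [map_zero, map_zero]⟩
  | tmul x y =>
    refine ⟨(pullback.fst (U.hom ≫ terminal.from S) (V.hom ≫ terminal.from S)).appTop.hom x *
      (pullback.snd (U.hom ≫ terminal.from S) (V.hom ≫ terminal.from S)).appTop.hom y, ?_⟩
    rw [Algebra.TensorProduct.productMap_apply_tmul]
    change (toAbs fst snd).appTop.hom (_ * _) = _
    rw [map_mul, appTop_toAbs_fst, appTop_toAbs_snd]
    rfl
  | add w1 w2 h1 h2 =>
    obtain ⟨q1, hq1⟩ := h1
    obtain ⟨q2, hq2⟩ := h2
    exact ⟨q1 + q2, by rw [map_add, map_add, hq1, hq2]⟩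

end scheme

end Groth.Agent.Lib.AlgSpAffPb_helper7
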