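import Groth.Agent.Lib.AlgSpProper_helper7
import Mathlib.AlgebraicGeometry.Morphisms.Integral

/-!
# Affine, integral and finite morphisms of algebraic spaces (helper7)
-/

set_option autoImplicit false
universe u
open CategoryTheory CategoryTheory.Limits AlgebraicGeometry Opposite

namespace Groth.Agent.Lib.AlgSpAffine_helper7

open AlgSp Groth.Agent.Lib.AlgSpQC2_helper7 Groth.Agent.Lib.AlgSpPoints_helper7
  Groth.Agent.Lib.AlgSpQC_helper7 Groth.Agent.Lib.AlgSpDiag_helper7 Groth.Agent.Lib.AlgSpTop_helper7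
  Groth.Agent.Lib.AlgSpPullback_helper7 Groth.Agent.Lib.AlgSpSep_helper7
  Groth.Agent.Lib.AlgSpLocP_helper7 Groth.Agent.Lib.AlgSpUniv_helper7
  Groth.Agent.Lib.AlgSpProper_helper7 Groth.Agent.Lib.AlgSpFpqc_helper7

variable {S : Scheme.{u}}

/-- The scheme-level base change of a universally closed morphism is universally closed. -/
theorem universallyClosed_of_isUnivClosedMor {F G : Sp S} {f : F ⟶ G} (h : IsUnivClosedMor f)
    {T V : Over S} {g : (yon S).obj T ⟶ G} {fst : (yon S).obj V ⟶ F} {snd : V ⟶ T}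
    (sq : IsPullback fst ((yon S).map snd) f g) : UniversallyClosed snd.left := by
  refine ⟨fun X' Y' i₁ i₂ f' hsq => ?_⟩
  have := h (IsAlgSpace.yon_obj _) _ _ _ (isPullback_of_scheme_isPullback sq hsq)
  exact (isClosedMap_map_yon_map_iff _).1 this

/-- The map on points induced by an isomorphism is closed. -/
theorem isClosedMap_map_of_isIso {A B : Sp S} (e : A ⟶ B) [IsIso e] :
    IsClosedMap (Points.map e) := by
  intro C hC
  have : Points.map e '' C = Points.map (inv e) ⁻¹' C := by
    ext y
    constructor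
    · rintro ⟨x, hx, rfl⟩
      show Points.map (inv e) (Points.map e x) ∈ C
      rw [← Points.map_comp, IsIso.hom_inv_id, Points.map_id]
      exact hx
    · intro hy
      refine ⟨_, hy, ?_⟩
      rw [← Points.map_comp, IsIso.inv_hom_id, Points.map_id]
  rw [this]
  exact hC.preimage (Points.continuous_map _)

/-- Closedness on points of the second projection does not depend on the chosen pullback. -/
theorem isClosedMap_snd_of_isPullback {P P' X Y Z : Sp S} {f : X ⟶ Y} {g : Z ⟶ Y}
    {fst : P ⟶ X} {snd : P ⟶ Z} {fst' : P' ⟶ X} {snd' : P' ⟶ Z} (sq : IsPullback fst snd f g)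
    (sq' : IsPullback fst' snd' f g) (h : IsClosedMap (Points.map snd')) :
    IsClosedMap (Points.map snd) := by
  have e : snd = (sq.isoIsPullback _ _ sq').hom ≫ snd' := (IsPullback.isoIsPullback_hom_snd _ _ sq sq').symm
  have : Points.map snd = Points.map snd' ∘ Points.map (sq.isoIsPullback _ _ sq').hom := by
    ext x
    have := Points.map_comp (sq.isoIsPullback _ _ sq').hom snd' x
    rw [IsPullback.isoIsPullback_hom_snd] at this
    exact this
  rw [this]
  exact h.comp (isClosedMap_map_of_isIso _)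

theorem isIntegralMor_iff {X Y : Sp S} (f : X ⟶ Y) :
    IsIntegralMor f ↔ (IsAffineMor f ∧ IsUnivClosedMor f) := by
  constructor
  · intro h
    refine ⟨fun Z hZ g => ?_, ?_⟩
    · obtain ⟨W, i, fst, sq, hW, -⟩ := h hZ g
      exact ⟨W, i, fst, sq, hW⟩
    · apply isUnivClosedMor_of_forall_affine
      intro Z hZ g P fst snd sq
      obtain ⟨W, i, fst', sq', hW, hi⟩ := h hZ g
      refine isClosedMap_snd_of_isPullback sq sq' ?_
      rw [isClosedMap_map_yon_map_iff]
      exact i.left.isClosedMap
  · rintro ⟨h1, h2⟩ Z hZ g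
    obtain ⟨W, i, fst, sq, hW⟩ := h1 hZ g
    refine ⟨W, i, fst, sq, hW, ?_⟩
    rw [IsIntegralHom.iff_universallyClosed_and_isAffineHom]
    exact ⟨universallyClosed_of_isUnivClosedMor h2 sq, inferInstance⟩

/-- Relative graph: the base change of `g : X ⟶ Y` along `t` is obtained from the base change of
`g ≫ q` along `t ≫ q` by pulling back the diagonal of `q`. -/
theorem isPullback_of_diagonal {C : Type*} [Category C] [HasPullbacks C] {X Y B T W W' : C}
    (g : X ⟶ Y) (q : Y ⟶ B) (t : T ⟶ Y) {fstW : W ⟶ X} {i : W ⟶ T}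
    (sqW : IsPullback fstW i (g ≫ q) (t ≫ q)) {a : W' ⟶ Y} {j : W' ⟶ W}
    (sqΔ : IsPullback a j (pullback.diagonal q)
      (pullback.lift (fstW ≫ g) (i ≫ t) (by simpa using sqW.w))) :
    IsPullback (j ≫ fstW) (j ≫ i) g t := by
  have magic := pullback_map_diagonal_isPullback g t q
  let e := sqW.isoPullback
  have he1 : e.hom ≫ pullback.fst (g ≫ q) (t ≫ q) = fstW := sqW.isoPullback_hom_fst
  have he2 : e.hom ≫ pullback.snd (g ≫ q) (t ≫ q) = i := sqW.isoPullback_hom_snd
  have hc : pullback.lift (fstW ≫ g) (i ≫ t) (by simpa using sqW.w) =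
      e.hom ≫ pullback.map (g ≫ q) (t ≫ q) q q g t (𝟙 _) (Category.comp_id _)
        (Category.comp_id _) := by
    apply pullback.hom_ext
    · rw [pullback.lift_fst, Category.assoc, pullback.lift_fst, ← Category.assoc, he1]
    · rw [pullback.lift_snd, Category.assoc, pullback.lift_snd, ← Category.assoc, he2]
  rw [hc] at sqΔ
  let l := magic.lift a (j ≫ e.hom) (by rw [sqΔ.w, Category.assoc])
  have hl1 : l ≫ pullback.fst g t ≫ g = a := magic.lift_fst _ _ _
  have hl2 : l ≫ pullback.map g t (g ≫ q) (t ≫ q) (𝟙 _) (𝟙 _) q (Category.id_comp _).symm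
      (Category.id_comp _).symm = j ≫ e.hom := magic.lift_snd _ _ _
  have sq1 : IsPullback j l e.hom (pullback.map g t (g ≫ q) (t ≫ q) (𝟙 _) (𝟙 _) q
      (Category.id_comp _).symm (Category.id_comp _).symm) := by
    refine IsPullback.of_bot ?_ hl2.symm magic.flip
    rw [hl1]
    exact sqΔ.flip
  have : IsIso l := sq1.isIso_snd_of_isIso
  have h1 : l ≫ pullback.fst g t = j ≫ fstW := by
    have := hl2 =≫ pullback.fst (g ≫ q) (t ≫ q)
    rw [Category.assoc, pullback.lift_fst, Category.comp_id, Category.assoc, he1] at this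
    exact this
  have h2 : l ≫ pullback.snd g t = j ≫ i := by
    have := hl2 =≫ pullback.snd (g ≫ q) (t ≫ q)
    rw [Category.assoc, pullback.lift_snd, Category.comp_id, Category.assoc, he2] at this
    exact this
  refine IsPullback.of_iso_pullback ⟨?_⟩ (asIso l) h1 h2
  rw [← h1, ← h2, Category.assoc, Category.assoc, pullback.condition]

/-- Cancellation for morphisms that are affine with an extra property `Q` on affine charts:
if `g ≫ q` is so and the diagonal of `q` is a closed immersion, then `g` is so, provided `Q` is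
stable under precomposition with closed immersions. -/
theorem exists_affine_pullback_of_comp {X Y B : Sp S} (g : X ⟶ Y) (q : Y ⟶ B)
    (hq : IsSeparatedMor q) (Q : MorphismProperty Scheme.{u})
    (hQ : ∀ ⦃A A' A'' : Scheme.{u}⦄ (j : A ⟶ A') (i : A' ⟶ A''), IsClosedImmersion j → Q i →
      Q (j ≫ i))
    {Z : Over S} (t : (yon S).obj Z ⟶ Y)
    (h : ∃ (W : Over S) (i : W ⟶ Z) (fst : (yon S).obj W ⟶ X),
      IsPullback fst ((yon S).map i) (g ≫ q) (t ≫ q) ∧ IsAffine W.left ∧ Q i.left) :
    ∃ (W : Over S) (i : W ⟶ Z) (fst : (yon S).obj W ⟶ X),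
      IsPullback fst ((yon S).map i) g t ∧ IsAffine W.left ∧ Q i.left := by
  obtain ⟨W, i, fstW, sqW, hW, hi⟩ := h
  have sqΔ := hq.rep.isPullback (pullback.lift (fstW ≫ g) ((yon S).map i ≫ t)
    (by simpa using sqW.w))
  have hj : IsClosedImmersion (hq.rep.snd (pullback.lift (fstW ≫ g) ((yon S).map i ≫ t)
    (by simpa using sqW.w))).left := hq.property_snd _
  have := isPullback_of_diagonal g q t sqW sqΔ
  rw [← Functor.map_comp] at this
  refine ⟨_, _, _, this, ?_, ?_⟩
  · exact isAffine_of_isAffineHom (hq.rep.snd (pullback.lift (fstW ≫ g) ((yon S).map i ≫ t)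
      (by simpa using sqW.w))).left
  · rw [Over.comp_left]
    exact hQ _ _ hj hi

end Groth.Agent.Lib.AlgSpAffine_helper7
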