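import Groth.Agent.Lib.AlgSpDecent4_helper6

/-!
# Schemes are decent; morphisms with decent source are decent (helper6)
-/

set_option autoImplicit false
universe u
open CategoryTheory CategoryTheory.Limits AlgebraicGeometry Opposite

namespace Groth.Agent.Lib.AlgSpDecent5_helper6

open AlgSp Groth.Agent.Lib.AlgSpPoints_helper7 Groth.Agent.Lib.AlgSpQC_helper7
  Groth.Agent.Lib.AlgSpPullback_helper7 Groth.Agent.Lib.AlgSpDecent_helper6
  Groth.Agent.Lib.AlgSpField_helper7 Groth.Agent.Lib.AlgSpDecent4_helper6

variable {S : Scheme.{u}}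

/-- `h_T` is decent for every scheme `T` over `S`. -/
theorem isDecent_yon (T : Over S) : IsDecent ((yon S).obj T) := by
  intro x
  obtain ⟨t, rfl⟩ := ofScheme_surjective T x
  obtain ⟨h1, h2⟩ := ofPt_mono_qc (𝟙 ((yon S).obj T)) inferInstance
    ((RepWith (S := S) @QuasiCompact).id_mem _) t
  exact ⟨FieldPt.ofPt (𝟙 _) t, rfl, h1, h2⟩

/-- A morphism with decent source to a sheaf with representable diagonal is decent. -/
theorem isDecentMor_of_isDecent {X Y : Sp S} (hY : Representable (Limits.diag Y)) (f : X ⟶ Y)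
    (hX : IsDecent X) : IsDecentMor f := by
  intro T F' g fst snd sq
  exact isDecent_of_isPullback hY sq hX (isDecent_yon T)

end Groth.Agent.Lib.AlgSpDecent5_helper6
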