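import Groth.Agent.Lib.AlgSpZarLocal_helper6

/-!
# Decency is Zariski local (helper6)
-/

set_option autoImplicit false
universe u
open CategoryTheory CategoryTheory.Limits AlgebraicGeometry Opposite

namespace Groth.Agent.Lib.AlgSpDecentZar_helper6

open AlgSp Groth.Agent.Lib.AlgSpPoints_helper7 Groth.Agent.Lib.AlgSpQC_helper7
  Groth.Agent.Lib.AlgSpPullback_helper7 Groth.Agent.Lib.AlgSpBasic_helper7
  Groth.Agent.Lib.AlgSpOpen_helper7 Groth.Agent.Lib.AlgSpZarLocal_helper6
  Groth.Agent.Lib.AlgSpDecent3_helper6 Groth.Agent.Lib.AlgSpDecent4_helper6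

variable {S : Scheme.{u}}

/-- A representable morphism whose source has no points is quasi-compact. -/
theorem repWith_quasiCompact_of_isEmpty {E B : Sp S} (b : E ⟶ B) (hb : Representable b)
    (hE : IsEmpty (Points E)) : RepWith @QuasiCompact b := by
  refine ⟨hb, fun T V g fst snd sq => ?_⟩
  change QuasiCompact snd.left
  have : IsEmpty ↥V.left := ⟨fun v => hE.false (Points.ofPt fst v)⟩
  exact quasiCompact_of_subsingleton _

/-- all points of `h_{Spec K}` have the same image -/
theorem map_eq_mk_ofHom {F : Sp S} {K : Type u} [Field K] {sK : Spec (CommRingCat.of K) ⟶ S}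
    (m : (yon S).obj (Over.mk sK) ⟶ F) (y : Points ((yon S).obj (Over.mk sK))) :
    Points.map m y = Points.mk (ofHom m) := by
  obtain ⟨t, rfl⟩ := ofScheme_surjective _ y
  rw [← Points.ofPt_eq_map_ofScheme]
  have h := Points.ofPt_toHom (ofHom m) t
  rwa [toHom_ofHom] at h

/-- Decency is Zariski local. -/
theorem isDecent_of_zarCover {X : Sp S} {ι : Type u} (Xi : ι → Sp S) (j : ∀ i, Xi i ⟶ X)
    (hj : ∀ i, RepWith @IsOpenImmersion (j i))
    (hcov : ∀ x : Points X, ∃ i, x ∈ Set.range (Points.map (j i)))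
    (hd : ∀ i, IsDecent (Xi i)) : IsDecent X := by
  have hjm : ∀ i, Mono (j i) := fun i =>
    mono_of_repWith_le_mono (P := @IsOpenImmersion)
      (fun _ _ f (hf : IsOpenImmersion f) => (inferInstance : Mono f)) (j i) (hj i)
  intro x
  obtain ⟨i, xi, rfl⟩ := hcov x
  obtain ⟨p, hp, hpm, hpq⟩ := hd i xi
  have hm : Mono (p.toHom ≫ j i) := @mono_comp _ _ _ _ _ _ hpm _ (hjm i)
  have hrep : Representable (p.toHom ≫ j i) :=
    (Representable (S := S)).comp_mem _ _ hpq.1 (hj i).1
  refine ⟨p.map (j i), ?_, ?_, ?_⟩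
  · rw [← Points.map_mk, hp]
  · rw [FieldPt.toHom_map]; exact hm
  · rw [FieldPt.toHom_map]
    refine repWith_of_zarCover @QuasiCompact _ hrep Xi j hj hcov (fun i' => ?_)
    by_cases hx : Points.mk (ofHom (p.toHom ≫ j i)) ∈ Set.range (Points.map (j i'))
    · -- the point factors through `X_{i'}`
      obtain ⟨m', hm'⟩ := (factors_iff_of_openImmersion (j i') (hj i') (p.toHom ≫ j i)).2 (by
        rintro _ ⟨y, rfl⟩
        rw [map_eq_mk_ofHom]
        exact hx)
      have hm'm : Mono m' := by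
        haveI : Mono (m' ≫ j i') := by rw [hm']; exact hm
        exact mono_of_mono m' (j i')
      have hm'q : RepWith @QuasiCompact m' := by
        obtain ⟨q, hq, hqm, hqq⟩ := hd i' (Points.mk (ofHom m'))
        have := repWith_quasiCompact_of_mono q (ofHom m') hqm hqq hq.symm
        rwa [toHom_ofHom] at this
      haveI := hjm i'
      have sqm : IsPullback (𝟙 _) m' (m' ≫ j i') (j i') :=
        (IsPullback.of_vert_isIso_mono (fst := m') (snd := 𝟙 _) (f := j i') (g := m' ≫ j i')
          ⟨by simp⟩).flip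
      rw [hm'] at sqm
      exact ⟨_, _, _, sqm, hm'q⟩
    · -- the fibre product is empty
      have sq' := IsPullback.of_hasPullback (p.toHom ≫ j i) (j i')
      refine ⟨_, _, _, sq', repWith_quasiCompact_of_isEmpty _ ?_ ⟨fun z => hx ?_⟩⟩
      · exact (repWith_snd_of_isPullback ⊤ sq' ⟨hrep, fun _ _ _ _ _ _ => trivial⟩).1
      · refine ⟨Points.map (pullback.snd _ _) z, ?_⟩
        rw [← Points.map_comp, ← sq'.w, Points.map_comp, map_eq_mk_ofHom]

end Groth.Agent.Lib.AlgSpDecentZar_helper6
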