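import Groth.Prelude.Def_AlgSp4

/-!
# Basic lemmas on algebraic spaces (helper7)
-/

set_option autoImplicit false
universe u
open CategoryTheory CategoryTheory.Limits AlgebraicGeometry Opposite

namespace Groth.Agent.Lib.AlgSpBasic_helper7

open AlgSp

variable {S : Scheme.{u}}

/-- A morphism of sheaves that is representable by monomorphisms of schemes is a monomorphism. -/
theorem mono_of_repWith_mono {F G : Sp S} (f : F ⟶ G)
    (hf : RepWith (MorphismProperty.monomorphisms Scheme.{u}) f) : Mono f := by
  suffices ∀ {X : Over S} {a b : (yon S).obj X ⟶ F}, a ≫ f = b ≫ f → a = b from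
    ⟨fun _ _ h ↦ GrothendieckTopology.hom_ext_uliftYoneda _
      (fun _ _ ↦ this (by simp only [Category.assoc, h]))⟩
  intro X a b h
  suffices hf.rep.lift (g := a ≫ f) a (𝟙 X) (by simp) =
      hf.rep.lift b (𝟙 X) (by simp [← h]) by
    simpa using (yon S).congr_map this =≫ (hf.rep.fst (a ≫ f))
  have h1 : Mono (hf.rep.snd (a ≫ f)).left := hf.property_snd (a ≫ f)
  have : Mono (hf.rep.snd (a ≫ f)) := (Over.forget S).mono_of_mono_map h1
  simp only [← cancel_mono (hf.rep.snd (a ≫ f)), Functor.relativelyRepresentable.lift_snd]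

theorem mono_of_repWith_le_mono {P : MorphismProperty Scheme.{u}}
    (hP : P ≤ MorphismProperty.monomorphisms Scheme.{u}) {F G : Sp S} (f : F ⟶ G)
    (hf : RepWith P f) : Mono f :=
  mono_of_repWith_mono f
    (MorphismProperty.relative_monotone (fun _ _ g hg => hP _ hg) _ hf)

/-- Isomorphisms are representable with every property containing identities and stable under
base change. -/
theorem repWith_of_isIso (P : MorphismProperty Scheme.{u}) [P.IsStableUnderBaseChange]
    [P.ContainsIdentities] {F G : Sp S} (f : F ⟶ G) [IsIso f] : RepWith P f := by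
  apply MorphismProperty.relative.of_exists
  intro a g
  refine ⟨a, g ≫ inv f, 𝟙 a, IsPullback.of_vert_isIso ⟨by simp⟩, P.id_mem _⟩

/-- Pullback squares are insensitive to post-composition with a monomorphism. -/
theorem isPullback_comp_mono_iff {C : Type*} [Category C] {A B D E Z : C} {fst : A ⟶ B}
    {snd : A ⟶ D} {g : B ⟶ E} {c : D ⟶ E} (m : E ⟶ Z) [Mono m] :
    IsPullback fst snd (g ≫ m) (c ≫ m) ↔ IsPullback fst snd g c := by
  have right : IsPullback (𝟙 D) c (c ≫ m) m :=
    (IsPullback.of_vert_isIso_mono (fst := c) (snd := 𝟙 D) (f := m) (g := c ≫ m)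
      ⟨by simp⟩).flip
  constructor
  · intro h
    have w : fst ≫ g = snd ≫ c := by
      rw [← cancel_mono m, Category.assoc, Category.assoc, h.w]
    have big : IsPullback (snd ≫ 𝟙 D) fst (c ≫ m) (g ≫ m) := by
      rw [Category.comp_id]; exact h.flip
    exact (IsPullback.of_right big w.symm right).flip
  · intro h
    have := (h.flip.paste_horiz right).flip
    rwa [Category.comp_id] at this

theorem representable_of_comp_mono {F₁ F₂ F : Sp S} (g : F₁ ⟶ F₂) (j : F₂ ⟶ F) [Mono j]
    (h : Representable (g ≫ j)) : Representable g := by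
  intro T c
  obtain ⟨V, snd, fst, sq⟩ := h (c ≫ j)
  exact ⟨V, snd, fst, (isPullback_comp_mono_iff j).1 sq⟩

theorem repWith_of_comp_mono (Q : MorphismProperty Scheme.{u}) {F₁ F₂ F : Sp S} (g : F₁ ⟶ F₂)
    (j : F₂ ⟶ F) [Mono j] (h : RepWith Q (g ≫ j)) : RepWith Q g :=
  ⟨representable_of_comp_mono g j h.rep,
    fun _ _ _ _ _ sq => h.property _ _ _ ((isPullback_comp_mono_iff j).2 sq)⟩

/-- The canonical monomorphism `X ×_Y X ⟶ X ⨯ X`. -/
theorem mono_pullback_to_prod {X Y : Sp S} (f : X ⟶ Y) :
    Mono (prod.lift (pullback.fst f f) (pullback.snd f f)) := by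
  constructor
  intro Z a b hab
  have h1 := hab =≫ prod.fst
  have h2 := hab =≫ prod.snd
  rw [Category.assoc, Category.assoc, prod.lift_fst] at h1
  rw [Category.assoc, Category.assoc, prod.lift_snd] at h2
  exact pullback.hom_ext h1 h2

theorem diagonal_comp_pullback_to_prod {X Y : Sp S} (f : X ⟶ Y) :
    pullback.diagonal f ≫ prod.lift (pullback.fst f f) (pullback.snd f f) = Limits.diag X := by
  apply Limits.prod.hom_ext
  · rw [Category.assoc, prod.lift_fst, pullback.diagonal_fst, prod.lift_fst]
  · rw [Category.assoc, prod.lift_snd, pullback.diagonal_snd, prod.lift_snd]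

theorem repWith_diagonal_of_repWith_diag (Q : MorphismProperty Scheme.{u}) {X Y : Sp S}
    (f : X ⟶ Y) (h : RepWith Q (Limits.diag X)) : RepWith Q (pullback.diagonal f) := by
  have := mono_pullback_to_prod f
  apply repWith_of_comp_mono Q _ (prod.lift (pullback.fst f f) (pullback.snd f f))
  rwa [diagonal_comp_pullback_to_prod]

end Groth.Agent.Lib.AlgSpBasic_helper7
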