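import Groth.Prelude.Def_AlgSp4
import Groth.Prelude.Def_AlgSpDec
import Groth.Agent.Lib.AlgSpBasic_helper7

/-!
# Points of fppf sheaves / algebraic spaces: basic lemmas (helper7)
-/

set_option autoImplicit false
universe u
open CategoryTheory CategoryTheory.Limits AlgebraicGeometry Opposite

namespace Groth.Agent.Lib.AlgSpPoints_helper7

open AlgSp

variable {S : Scheme.{u}}

/-- The field valued point defined by a morphism from the spectrum of a field. -/
noncomputable def ofHom {F : Sp S} {K : Type u} [Field K] {str : Spec (CommRingCat.of K) ⟶ S}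
    (m : (yon S).obj (Over.mk str) ⟶ F) : FieldPt F :=
  ⟨K, str, (J S).uliftYonedaEquiv m⟩

@[simp] theorem toHom_ofHom {F : Sp S} {K : Type u} [Field K] {str : Spec (CommRingCat.of K) ⟶ S}
    (m : (yon S).obj (Over.mk str) ⟶ F) : (ofHom m).toHom = m :=
  Equiv.symm_apply_apply _ _

theorem ofHom_toHom {F : Sp S} (p : FieldPt F) : ofHom p.toHom = p := by
  obtain ⟨K, str, val⟩ := p
  change FieldPt.mk K str _ = _
  congr 1
  exact FieldPt.uliftYonedaEquiv_toHom _

/-- `Rel` in terms of morphisms. -/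
theorem rel_iff {F : Sp S} (p q : FieldPt F) :
    FieldPt.Rel p q ↔ ∃ (Ω : Type u) (_ : Field Ω) (w : Spec (CommRingCat.of Ω) ⟶ S)
      (a : Over.mk w ⟶ p.pt) (b : Over.mk w ⟶ q.pt),
      (yon S).map a ≫ p.toHom = (yon S).map b ≫ q.toHom := by
  constructor
  · rintro ⟨Ω, i, w, a, b, h⟩
    refine ⟨Ω, i, w, a, b, ?_⟩
    rw [FieldPt.toHom, FieldPt.toHom,
      GrothendieckTopology.uliftYonedaEquiv_symm_naturality_left,
      GrothendieckTopology.uliftYonedaEquiv_symm_naturality_left, h]
  · rintro ⟨Ω, i, w, a, b, h⟩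
    refine ⟨Ω, i, w, a, b, ?_⟩
    rw [FieldPt.toHom, FieldPt.toHom,
      GrothendieckTopology.uliftYonedaEquiv_symm_naturality_left,
      GrothendieckTopology.uliftYonedaEquiv_symm_naturality_left] at h
    exact (J S).uliftYonedaEquiv.symm.injective h

theorem mk_ofHom_eq_iff {F : Sp S} {K L : Type u} [Field K] [Field L]
    {sK : Spec (CommRingCat.of K) ⟶ S} {sL : Spec (CommRingCat.of L) ⟶ S}
    (m : (yon S).obj (Over.mk sK) ⟶ F) (n : (yon S).obj (Over.mk sL) ⟶ F) :
    Points.mk (ofHom m) = Points.mk (ofHom n) ↔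
      ∃ (Ω : Type u) (_ : Field Ω) (w : Spec (CommRingCat.of Ω) ⟶ S)
      (a : Over.mk w ⟶ Over.mk sK) (b : Over.mk w ⟶ Over.mk sL),
      (yon S).map a ≫ m = (yon S).map b ≫ n := by
  rw [Points.mk_eq_mk_iff, rel_iff]
  simp only [toHom_ofHom]
  rfl

/-- Restricting a field valued point along a field extension does not change the point. -/
theorem mk_ofHom_comp {F : Sp S} {K L : Type u} [Field K] [Field L]
    {sK : Spec (CommRingCat.of K) ⟶ S} {sL : Spec (CommRingCat.of L) ⟶ S}
    (a : Over.mk sL ⟶ Over.mk sK) (m : (yon S).obj (Over.mk sK) ⟶ F) :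
    Points.mk (ofHom ((yon S).map a ≫ m)) = Points.mk (ofHom m) := by
  rw [mk_ofHom_eq_iff]
  exact ⟨L, inferInstance, sL, 𝟙 _, a, by simp⟩

theorem map_mk_ofHom {F G : Sp S} (f : F ⟶ G) {K : Type u} [Field K]
    {sK : Spec (CommRingCat.of K) ⟶ S} (m : (yon S).obj (Over.mk sK) ⟶ F) :
    Points.map f (Points.mk (ofHom m)) = Points.mk (ofHom (m ≫ f)) := by
  rw [Points.map_mk]
  congr 1

theorem mk_surjective' {F : Sp S} (x : Points F) :
    ∃ (K : Type u) (_ : Field K) (sK : Spec (CommRingCat.of K) ⟶ S)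
      (m : (yon S).obj (Over.mk sK) ⟶ F), Points.mk (ofHom m) = x := by
  obtain ⟨p, rfl⟩ := Points.mk_surjective x
  exact ⟨p.K, inferInstance, p.str, p.toHom, by rw [ofHom_toHom]⟩

/-- Points of a pullback surject onto the fibre product of the sets of points. -/
theorem exists_of_isPullback {P F G H : Sp S} {fst : P ⟶ F} {snd : P ⟶ G} {f : F ⟶ H} {g : G ⟶ H}
    (sq : IsPullback fst snd f g) (x : Points F) (y : Points G)
    (h : Points.map f x = Points.map g y) :
    ∃ z : Points P, Points.map fst z = x ∧ Points.map snd z = y := by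
  obtain ⟨K, _, sK, m, rfl⟩ := mk_surjective' x
  obtain ⟨L, _, sL, n, rfl⟩ := mk_surjective' y
  rw [map_mk_ofHom, map_mk_ofHom, mk_ofHom_eq_iff] at h
  obtain ⟨Ω, _, w, a, b, hab⟩ := h
  refine ⟨Points.mk (ofHom (sq.lift ((yon S).map a ≫ m) ((yon S).map b ≫ n)
    (by simpa using hab))), ?_, ?_⟩
  · rw [map_mk_ofHom, sq.lift_fst, mk_ofHom_comp]
  · rw [map_mk_ofHom, sq.lift_snd, mk_ofHom_comp]

/-- the point of `h_T` defined by a morphism from the spectrum of a field -/
theorem ofScheme_eq_mk_ofHom (T : Over S) {K : Type u} [Field K] {sK : Spec (CommRingCat.of K) ⟶ S}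
    (m : Over.mk sK ⟶ T) :
    Points.ofScheme T (m.left (IsLocalRing.closedPoint K)) = Points.mk (ofHom ((yon S).map m)) := by
  rw [Points.ofScheme_apply_eq_mk T m.left (Over.w m)]
  congr 1

theorem ofPt_eq_mk_ofHom {F : Sp S} {T : Over S} (g : (yon S).obj T ⟶ F) {K : Type u} [Field K]
    {sK : Spec (CommRingCat.of K) ⟶ S} (m : Over.mk sK ⟶ T) :
    Points.ofPt g (m.left (IsLocalRing.closedPoint K)) = Points.mk (ofHom ((yon S).map m ≫ g)) := by
  rw [Points.ofPt_eq_map_ofScheme, ofScheme_eq_mk_ofHom, map_mk_ofHom]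

theorem ofPt_yon_map {T T' : Over S} (φ : T ⟶ T') (t : ↥T.left) :
    Points.ofPt ((yon S).map φ) t = Points.ofScheme T' (φ.left t) := by
  rw [← Points.ofScheme_toScheme T' (Points.ofPt ((yon S).map φ) t), Points.toScheme_ofPt]

theorem ofPt_comp {F : Sp S} {T T' : Over S} (φ : T ⟶ T') (g : (yon S).obj T' ⟶ F) (t : ↥T.left) :
    Points.ofPt ((yon S).map φ ≫ g) t = Points.ofPt g (φ.left t) := by
  rw [← Points.map_ofPt, ofPt_yon_map, ← Points.ofPt_eq_map_ofScheme]

/-- every point of `h_T`-valued... : a point of `F` in the image of `ofPt g` -/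
theorem exists_ofPt_eq_of_isPullback {F : Sp S} {U T V : Over S} {p : (yon S).obj U ⟶ F}
    {g : (yon S).obj T ⟶ F} {b : V ⟶ U} {a : V ⟶ T}
    (sq : IsPullback ((yon S).map b) ((yon S).map a) p g) (u : ↥U.left) (t : ↥T.left)
    (h : Points.ofPt p u = Points.ofPt g t) : ∃ v : ↥V.left, b.left v = u ∧ a.left v = t := by
  rw [Points.ofPt_eq_map_ofScheme, Points.ofPt_eq_map_ofScheme g] at h
  obtain ⟨z, hz1, hz2⟩ := exists_of_isPullback sq _ _ h
  obtain ⟨v, rfl⟩ := (Points.schemeEquiv V).surjective z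
  refine ⟨v, ?_, ?_⟩
  · apply (Points.schemeEquiv U).injective
    change Points.ofScheme U _ = Points.ofScheme U _
    rw [← hz1]
    change _ = Points.map _ (Points.ofScheme V v)
    rw [← Points.ofPt_eq_map_ofScheme, ofPt_yon_map]
  · apply (Points.schemeEquiv T).injective
    change Points.ofScheme T _ = Points.ofScheme T _
    rw [← hz2]
    change _ = Points.map _ (Points.ofScheme V v)
    rw [← Points.ofPt_eq_map_ofScheme, ofPt_yon_map]

/-- A representable surjective map from a scheme is surjective on points. -/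
theorem ofPt_surjective {F : Sp S} {U : Over S} (p : (yon S).obj U ⟶ F)
    (hp : RepWith @Surjective p) : Function.Surjective (Points.ofPt p) := by
  intro x
  obtain ⟨q, rfl⟩ := Points.mk_surjective x
  have hs : Surjective (hp.rep.snd q.toHom).left := hp.property_snd q.toHom
  obtain ⟨v, _⟩ := hs.surj (IsLocalRing.closedPoint q.K)
  refine ⟨(hp.rep.fst' q.toHom).left v, ?_⟩
  rw [← ofPt_comp, hp.rep.map_fst', hp.rep.w, ofPt_comp, Points.ofPt_toHom]

/-- Preimage of the image under a chart, computed on the fibre product. -/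
theorem preimage_ofPt_image_ofPt {F : Sp S} {U T V : Over S} {p : (yon S).obj U ⟶ F}
    {g : (yon S).obj T ⟶ F} {b : V ⟶ U} {a : V ⟶ T}
    (sq : IsPullback ((yon S).map b) ((yon S).map a) p g) (W : Set ↥U.left) :
    Points.ofPt g ⁻¹' (Points.ofPt p '' W) = a.left '' (b.left ⁻¹' W) := by
  ext t
  constructor
  · rintro ⟨u, hu, h⟩
    obtain ⟨v, rfl, rfl⟩ := exists_ofPt_eq_of_isPullback sq u t h
    exact ⟨v, hu, rfl⟩
  · rintro ⟨v, hv, rfl⟩
    refine ⟨b.left v, hv, ?_⟩
    rw [← ofPt_comp, sq.w, ofPt_comp]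

/-- A representable universally open map from a scheme is open on points. -/
theorem isOpenMap_ofPt {F : Sp S} {U : Over S} (p : (yon S).obj U ⟶ F)
    (hp : RepWith @UniversallyOpen p) : IsOpenMap (Points.ofPt p) := by
  intro W hW
  rw [Points.isOpen_iff]
  intro T g
  have sq := hp.rep.isPullback' g
  rw [preimage_ofPt_image_ofPt sq]
  have : UniversallyOpen (hp.rep.snd g).left := hp.property_snd g
  exact (hp.rep.snd g).left.isOpenMap _ (hW.preimage (hp.rep.fst' g).left.continuous)

theorem repWith_mono {P Q : MorphismProperty Scheme.{u}} (h : P ≤ Q) {F G : Sp S} {f : F ⟶ G}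
    (hf : RepWith P f) : RepWith Q f :=
  MorphismProperty.relative_monotone (fun _ _ _ hg => h _ hg) _ hf

theorem repWith_universallyOpen_of_etale {F G : Sp S} {f : F ⟶ G} (hf : RepWith @Etale f) :
    RepWith @UniversallyOpen f :=
  repWith_mono (fun _ _ g (hg : Etale g) => (inferInstance : UniversallyOpen g)) hf

/-- Etale charts are open on points. -/
theorem isOpenMap_ofPt_of_etale {F : Sp S} {U : Over S} (p : (yon S).obj U ⟶ F)
    (hp : RepWith @Etale p) : IsOpenMap (Points.ofPt p) :=
  isOpenMap_ofPt p (repWith_universallyOpen_of_etale hp)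

/-- The chart criterion for open sets. -/
theorem isOpen_iff_of_atlas {F : Sp S} {U : Over S} (p : (yon S).obj U ⟶ F)
    (hp : RepWith @Etale p) (hs : RepWith @Surjective p) (W : Set (Points F)) :
    IsOpen W ↔ IsOpen (Points.ofPt p ⁻¹' W) := by
  constructor
  · intro h
    exact h.preimage (Points.continuous_ofPt p)
  · intro h
    have := isOpenMap_ofPt_of_etale p hp _ h
    rwa [Set.image_preimage_eq _ (ofPt_surjective p hs)] at this

theorem isQuotientMap_ofPt {F : Sp S} {U : Over S} (p : (yon S).obj U ⟶ F)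
    (hp : RepWith @Etale p) (hs : RepWith @Surjective p) :
    Topology.IsQuotientMap (Points.ofPt p) :=
  (isOpenMap_ofPt_of_etale p hp).isQuotientMap (Points.continuous_ofPt p) (ofPt_surjective p hs)

/-- A representable surjective morphism is surjective on points. -/
theorem isSurjectiveMor_of_repWith {F G : Sp S} (f : F ⟶ G) (hf : RepWith @Surjective f) :
    IsSurjectiveMor f := by
  intro y
  obtain ⟨q, rfl⟩ := Points.mk_surjective y
  have hs : Surjective (hf.rep.snd q.toHom).left := hf.property_snd q.toHom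
  obtain ⟨v, _⟩ := hs.surj (IsLocalRing.closedPoint q.K)
  refine ⟨Points.ofPt (hf.rep.fst q.toHom) v, ?_⟩
  rw [Points.map_ofPt, hf.rep.w, ofPt_comp, Points.ofPt_toHom]

theorem ofScheme_injective (T : Over S) : Function.Injective (Points.ofScheme T) :=
  (Points.schemeEquiv T).injective

theorem ofScheme_surjective (T : Over S) : Function.Surjective (Points.ofScheme T) :=
  (Points.schemeEquiv T).surjective

/-- If `f` is surjective on points, every represented base change is a surjective morphism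
of schemes. -/
theorem surjective_left_of_isPullback {F G : Sp S} {f : F ⟶ G} {T V : Over S}
    {g : (yon S).obj T ⟶ G} {fst : (yon S).obj V ⟶ F} {snd : V ⟶ T}
    (sq : IsPullback fst ((yon S).map snd) f g) (hf : IsSurjectiveMor f) : Surjective snd.left := by
  refine ⟨fun t => ?_⟩
  obtain ⟨x, hx⟩ := hf (Points.ofPt g t)
  rw [Points.ofPt_eq_map_ofScheme] at hx
  obtain ⟨z, _, hz⟩ := exists_of_isPullback sq x _ hx
  obtain ⟨v, rfl⟩ := ofScheme_surjective V z
  refine ⟨v, ?_⟩
  apply ofScheme_injective T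
  rw [← hz, ← Points.ofPt_eq_map_ofScheme, ofPt_yon_map]

theorem repWith_surjective_iff {F G : Sp S} (f : F ⟶ G) (hf : Representable f) :
    RepWith @Surjective f ↔ IsSurjectiveMor f :=
  ⟨isSurjectiveMor_of_repWith f, fun h => ⟨hf, fun _ _ _ _ _ sq => surjective_left_of_isPullback sq h⟩⟩

end Groth.Agent.Lib.AlgSpPoints_helper7
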