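import Mathlib

/-!
# Scheme-level lemmas on ideal sheaves used for sheaves of ideals on algebraic spaces (helper7)

* `ker_app_of_isPullback_ι`: the kernel of `Γ(W, U) ⟶ Γ(P, s⁻¹ U)` is the kernel of global sections
  of the base change to the open subscheme `U`.
* `comap_eq_of_forall_map`: a criterion identifying the pullback of an ideal sheaf.
* `comap_ofIdealTop`: pullback of the ideal sheaf of an ideal of global functions.
-/

set_option autoImplicit false
universe u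
open CategoryTheory CategoryTheory.Limits AlgebraicGeometry Opposite TopologicalSpace

namespace Groth.Agent.Lib.IdealEtAH7

open AlgebraicGeometry.Scheme

lemma appLE_congr_hom {X Y : Scheme.{u}} {f g : X ⟶ Y} (h : f = g) (U : Y.Opens) (V : X.Opens)
    (e : V ≤ f ⁻¹ᵁ U) : f.appLE U V e = g.appLE U V (h ▸ e) := by
  subst h; rfl

lemma isIso_appLE_of_eq {X Y : Scheme.{u}} (f : X ⟶ Y) [IsOpenImmersion f] (V : Y.Opens)
    (hV : V = f ''ᵁ ⊤) (h : ⊤ ≤ f ⁻¹ᵁ V) : IsIso (f.appLE V ⊤ h) := by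
  subst hV
  have : f.appLE (f ''ᵁ ⊤) ⊤ h = (f.appIso ⊤).hom := (f.appIso_hom' ⊤).symm
  rw [this]; infer_instance

/-- The restriction `Γ(W, U) ⟶ Γ(U, ⊤)`, an isomorphism. -/
noncomputable abbrev rTop {W : Scheme.{u}} (U : W.Opens) : Γ(W, U) ⟶ Γ(U.toScheme, ⊤) :=
  U.ι.appLE U ⊤ U.ι_preimage_self.ge

lemma rTop_bijective {W : Scheme.{u}} (U : W.Opens) : Function.Bijective (rTop U).hom :=
  ConcreteCategory.bijective_of_isIso (rTop U)

theorem ker_app_of_isPullback_ι {P P' W : Scheme.{u}} (U : W.Opens) (s : P ⟶ W)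
    (s' : P' ⟶ U.toScheme) (l : P' ⟶ P) (H : IsPullback l s' s U.ι) :
    RingHom.ker (s.app U).hom = (RingHom.ker s'.appTop.hom).comap (rTop U).hom := by
  haveI : IsOpenImmersion l :=
    MorphismProperty.of_isPullback H.flip (inferInstance : IsOpenImmersion U.ι)
  have hV : s ⁻¹ᵁ U = l ''ᵁ ⊤ := by
    have := IsOpenImmersion.image_preimage_eq_preimage_image_of_isPullback H.flip ⊤
    rw [U.ι_image_top] at this
    exact this.symm
  have h2 : (⊤ : P'.Opens) ≤ l ⁻¹ᵁ (s ⁻¹ᵁ U) := by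
    rw [hV]; exact (l.preimage_image_eq ⊤).ge
  haveI := isIso_appLE_of_eq l (s ⁻¹ᵁ U) hV h2
  have e1 : (l ≫ s).appLE U ⊤ h2 = s.app U ≫ l.appLE (s ⁻¹ᵁ U) ⊤ h2 :=
    Scheme.Hom.comp_appLE l s U ⊤ h2
  have e2 : rTop U ≫ s'.appLE ⊤ ⊤ le_top = (s' ≫ U.ι).appLE U ⊤ (H.w ▸ h2) :=
    Scheme.Hom.appLE_comp_appLE s' U.ι U ⊤ ⊤ _ _
  have e3 : s'.appLE ⊤ ⊤ le_top = s'.appTop := s'.appLE_eq_app (U := ⊤)
  have e4 := appLE_congr_hom H.w U ⊤ h2
  have key : s.app U ≫ l.appLE (s ⁻¹ᵁ U) ⊤ h2 = rTop U ≫ s'.appTop := by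
    rw [← e1, e4, ← e2, e3]
  have key' : ∀ a, (l.appLE (s ⁻¹ᵁ U) ⊤ h2).hom ((s.app U).hom a) =
      s'.appTop.hom ((rTop U).hom a) := fun a => by
    have := congrArg (fun φ => φ.hom a) key
    simpa only [CommRingCat.hom_comp, RingHom.comp_apply] using this
  have inj : Function.Injective (l.appLE (s ⁻¹ᵁ U) ⊤ h2).hom :=
    (ConcreteCategory.bijective_of_isIso (l.appLE (s ⁻¹ᵁ U) ⊤ h2)).1
  ext a
  rw [RingHom.mem_ker, Ideal.mem_comap, RingHom.mem_ker]
  constructor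
  · intro h; rw [← key', h, map_zero]
  · intro h; apply inj; rw [key', h, map_zero]

lemma exists_affineOpen_mem_le (X : Scheme.{u}) (V : X.Opens) (x : X) (hx : x ∈ V) :
    ∃ U : X.affineOpens, x ∈ U.1 ∧ U.1 ≤ V := by
  obtain ⟨_, ⟨U, hU, rfl⟩, hxU, hUV⟩ :=
    X.isBasis_affineOpens.exists_subset_of_mem_open hx V.2
  exact ⟨⟨U, hU⟩, hxU, hUV⟩

/-- A criterion identifying the pullback of an ideal sheaf along an arbitrary morphism. -/
theorem comap_eq_of_forall_map {W' W : Scheme.{u}} (c : W' ⟶ W) (J : W.IdealSheafData)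
    (J' : W'.IdealSheafData)
    (H : ∀ (U' : W'.affineOpens) (U : W.affineOpens) (e : U'.1 ≤ c ⁻¹ᵁ U.1),
      J'.ideal U' = (J.ideal U).map (c.appLE U.1 U'.1 e).hom) : J.comap c = J' := by
  apply le_antisymm
  · rw [← IdealSheafData.le_map_iff_comap_le]
    change J ≤ IdealSheafData.ofIdeals _
    rw [IdealSheafData.le_ofIdeals_iff]
    intro U a ha
    show a ∈ RingHom.ker ((J'.subschemeι ≫ c).app U.1).hom
    rw [RingHom.mem_ker]
    refine J'.subscheme.sheaf.eq_of_locally_eq'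
      (fun i : {U' : W'.affineOpens // U'.1 ≤ c ⁻¹ᵁ U.1} => J'.subschemeι ⁻¹ᵁ i.1.1)
      ((J'.subschemeι ≫ c) ⁻¹ᵁ U.1) (fun i => homOfLE (fun x hx => i.2 hx)) ?_ _ _ ?_
    · intro y hy
      obtain ⟨U', hxU', hle⟩ := exists_affineOpen_mem_le W' (c ⁻¹ᵁ U.1) (J'.subschemeι y) hy
      exact Opens.mem_iSup.mpr ⟨⟨U', hle⟩, hxU'⟩
    · intro i
      have e := i.2
      have h1 : (c.appLE U.1 i.1.1 e).hom a ∈ J'.ideal i.1 := by
        rw [H i.1 U e]; exact Ideal.mem_map_of_mem _ ha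
      rw [← J'.ker_subschemeι_app i.1, RingHom.mem_ker] at h1
      have h2 : (J'.subschemeι ≫ c).appLE U.1 (J'.subschemeι ⁻¹ᵁ i.1.1) (fun x hx => i.2 hx) =
          c.appLE U.1 i.1.1 e ≫ J'.subschemeι.app i.1.1 := by
        rw [Scheme.Hom.app_eq_appLE, Scheme.Hom.appLE_comp_appLE]
      have h3 := congrArg (fun ψ => ψ.hom a) h2
      simp only [CommRingCat.hom_comp, RingHom.comp_apply] at h3
      rw [h1] at h3
      refine Eq.trans ?_ (map_zero _).symm
      exact h3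
  · refine IdealSheafData.le_of_iSup_eq_top
      (fun i : {p : W'.affineOpens × W.affineOpens // p.1.1 ≤ c ⁻¹ᵁ p.2.1} => i.1.1) ?_ ?_
    · rw [eq_top_iff]; intro x _
      obtain ⟨U, hxU, -⟩ := exists_affineOpen_mem_le W ⊤ (c x) trivial
      obtain ⟨U', hxU', hle⟩ := exists_affineOpen_mem_le W' (c ⁻¹ᵁ U.1) x hxU
      exact Opens.mem_iSup.mpr ⟨⟨(U', U), hle⟩, hxU'⟩
    · rintro ⟨⟨U', U⟩, e⟩
      dsimp only
      rw [H U' U e, Ideal.map_le_iff_le_comap]
      intro a ha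
      rw [Ideal.mem_comap]
      have hk : (J.comap c).ideal U' =
          RingHom.ker ((pullback.fst c J.subschemeι).app U'.1).hom :=
        Scheme.Hom.ker_apply _ U'
      rw [hk, RingHom.mem_ker]
      have h1 : (J.subschemeι.app U.1).hom a = 0 := by
        have := J.ker_subschemeι_app U; rw [← this] at ha; exact ha
      have hw : pullback.fst c J.subschemeι ≫ c = pullback.snd c J.subschemeι ≫ J.subschemeι :=
        pullback.condition
      have e' : pullback.fst c J.subschemeι ⁻¹ᵁ U'.1 ≤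
          (pullback.fst c J.subschemeι ≫ c) ⁻¹ᵁ U.1 := fun x hx => e hx
      have h2 : c.appLE U.1 U'.1 e ≫ (pullback.fst c J.subschemeι).app U'.1 =
          (pullback.fst c J.subschemeι ≫ c).appLE U.1 (pullback.fst c J.subschemeι ⁻¹ᵁ U'.1) e' := by
        rw [Scheme.Hom.app_eq_appLE, Scheme.Hom.appLE_comp_appLE]
      have h3 := (appLE_congr_hom hw U.1 _ e').trans (Scheme.Hom.comp_appLE _ _ _ _ _)
      have h4 := congrArg (fun ψ => ψ.hom a) (h2.trans h3)
      simp only [CommRingCat.hom_comp, RingHom.comp_apply] at h4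
      rw [h4, h1, map_zero]

theorem comap_ofIdealTop {X Y : Scheme.{u}} (g : X ⟶ Y) (K : Ideal Γ(Y, ⊤)) :
    (IdealSheafData.ofIdealTop K).comap g = IdealSheafData.ofIdealTop (K.map g.appTop.hom) := by
  apply comap_eq_of_forall_map
  intro U' U e
  rw [IdealSheafData.ofIdealTop_ideal, IdealSheafData.ofIdealTop_ideal, Ideal.map_map,
    Ideal.map_map, ← CommRingCat.hom_comp, ← CommRingCat.hom_comp]
  congr 2
  rw [Scheme.Hom.map_appLE]
  show g.app ⊤ ≫ _ = _
  rw [Scheme.Hom.app_eq_appLE]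
  exact Scheme.Hom.appLE_map g _ _

lemma ideal_transport {A A' B B' : Type*} [CommRing A] [CommRing A'] [CommRing B] [CommRing B']
    (r : A →+* B) (r' : A' →+* B') (ρ : B →+* B') (cL : A →+* A')
    (hr : Function.Bijective r) (hr' : Function.Bijective r') (h : ρ.comp r = r'.comp cL)
    (J : Ideal B) : (J.map ρ).comap r' = (J.comap r).map cL := by
  have h1 : ((J.comap r).map cL).map r' = J.map ρ := by
    rw [Ideal.map_map, ← h, ← Ideal.map_map, Ideal.map_comap_of_surjective r hr.2]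
  rw [← h1, Ideal.comap_map_of_bijective r' hr']

end Groth.Agent.Lib.IdealEtAH7
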