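import Groth.Agent.Lib.SchImKT_helper7
import Groth.Agent.Lib.IdealEtA_helper7
import Groth.Prelude.Def_AlgSpModX

/-!
# Sheaves of ideals on the small étale site of an algebraic space: charts (helper7)

For a quasi-coherent family `I : AlgSp.IdealEt X` and an étale chart `b : h_W ⟶ X` from an arbitrary
scheme `W`, `sheafOn I hI b hb` is the ideal sheaf on `W` with values `I(U)` on affine opens `U`.
It is compatible with pullback along morphisms of charts.  Closed subspaces are compared through
their families of kernel ideals.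
-/

set_option autoImplicit false
universe u
open CategoryTheory CategoryTheory.Limits AlgebraicGeometry Opposite

namespace Groth.Agent.Lib.IdealEtBH7

open AlgSp Groth.Agent.Lib.IdealEtAH7 Groth.Agent.Lib.AlgSpPoints_helper7
  Groth.Agent.Lib.AlgSpPullback_helper7
  Groth.Agent.Lib.AlgSpQC_helper7 Groth.Agent.Lib.AlgSpFpqc_helper7 Groth.Agent.Lib.SchImageH7
  Groth.Agent.Lib.ImmDescendH7 Groth.Agent.Lib.RedFactorH7 Groth.Agent.Lib.AlgSpIso_helper7
  Groth.Agent.Lib.AlgSpUnram_helper7 Groth.Agent.Lib.SchImKerH7 Groth.Agent.Lib.SchImKTH7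
open Scheme (IdealSheafData)

variable {S : Scheme.{u}} {X : Sp S}

/-- An open subscheme of a chart, as a scheme over `S`. -/
noncomputable abbrev openOver (W : Over S) (U : W.left.Opens) : Over S := Over.mk (U.ι ≫ W.hom)

/-- The inclusion of an open subscheme of a chart. -/
noncomputable abbrev openι (W : Over S) (U : W.left.Opens) : openOver W U ⟶ W :=
  Over.homMk U.ι rfl

theorem etale_open {W : Over S} (b : (yon S).obj W ⟶ X) (hb : RepWith @Etale b)
    (U : W.left.Opens) : RepWith @Etale ((yon S).map (openι W U) ≫ b) :=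
  (repWith_isMultiplicative (S := S) @Etale).comp_mem _ _
    ((repWith_yon_map_iff _ _).2 (show Etale U.ι from inferInstance)) hb

/-- An open subscheme of an étale chart as an object of the small étale site. -/
noncomputable abbrev chartOpen {W : Over S} (b : (yon S).obj W ⟶ X) (hb : RepWith @Etale b)
    (U : W.left.Opens) : EtOver X :=
  EtOver.mk ((yon S).map (openι W U) ≫ b) (etale_open b hb U)

/-- The morphism between open pieces of charts induced by a morphism of charts. -/
noncomputable def resOver {W W' : Over S} (c : W' ⟶ W) (U' : W'.left.Opens) (U : W.left.Opens)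
    (e : U' ≤ c.left ⁻¹ᵁ U) : openOver W' U' ⟶ openOver W U :=
  Over.homMk (c.left.resLE U U' e) (by
    show c.left.resLE U U' e ≫ U.ι ≫ W.hom = U'.ι ≫ W'.hom
    rw [Scheme.Hom.resLE_comp_ι_assoc, Over.w c])

lemma resOver_ι {W W' : Over S} (c : W' ⟶ W) (U' : W'.left.Opens) (U : W.left.Opens)
    (e : U' ≤ c.left ⁻¹ᵁ U) : resOver c U' U e ≫ openι W U = openι W' U' ≫ c := by
  ext
  simp [resOver, Scheme.Hom.resLE_comp_ι]

/-- The morphism of the small étale site between open pieces of charts induced by a morphism of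
charts. -/
noncomputable def chartOpenHom {W W' : Over S} (c : W' ⟶ W) (b : (yon S).obj W ⟶ X)
    (hb : RepWith @Etale b) (b' : (yon S).obj W' ⟶ X) (hb' : RepWith @Etale b')
    (hcomm : (yon S).map c ≫ b = b') (U' : W'.left.Opens) (U : W.left.Opens)
    (e : U' ≤ c.left ⁻¹ᵁ U) : chartOpen b' hb' U' ⟶ chartOpen b hb U :=
  EtOver.homMk (resOver c U' U e) (by
    show (yon S).map _ ≫ (yon S).map (openι W U) ≫ b = (yon S).map (openι W' U') ≫ b'
    rw [← Category.assoc, ← Functor.map_comp, resOver_ι, Functor.map_comp, Category.assoc, hcomm])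

lemma rTop_resLE {W' W : Scheme.{u}} (c : W' ⟶ W) (U' : W'.Opens) (U : W.Opens)
    (e : U' ≤ c ⁻¹ᵁ U) :
    rTop U ≫ (c.resLE U U' e).appTop = c.appLE U U' e ≫ rTop U' := by
  have h1 := Scheme.Hom.appLE_comp_appLE (c.resLE U U' e) U.ι U ⊤ ⊤ U.ι_preimage_self.ge le_top
  have h2 := Scheme.Hom.appLE_comp_appLE U'.ι c U U' ⊤ e U'.ι_preimage_self.ge
  have h3 : (c.resLE U U' e).appLE ⊤ ⊤ le_top = (c.resLE U U' e).appTop :=
    Scheme.Hom.appLE_eq_app _ (U := ⊤)
  rw [h3] at h1
  rw [h1, h2]
  exact appLE_congr_hom (Scheme.Hom.resLE_comp_ι c e) U ⊤ _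

/-- The value of the family on an affine open of a chart, as an ideal of the sections there. -/
noncomputable def idl (I : IdealEt X) {W : Over S} (b : (yon S).obj W ⟶ X) (hb : RepWith @Etale b)
    (U : W.left.affineOpens) : Ideal Γ(W.left, U.1) :=
  (I.ideal (chartOpen b hb U.1) U.2).comap (rTop U.1).hom

theorem idl_map (I : IdealEt X) (hI : I.IsQCoh) {W W' : Over S} (c : W' ⟶ W)
    (b : (yon S).obj W ⟶ X) (hb : RepWith @Etale b) (b' : (yon S).obj W' ⟶ X)
    (hb' : RepWith @Etale b') (hcomm : (yon S).map c ≫ b = b') (U' : W'.left.affineOpens)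
    (U : W.left.affineOpens) (e : U'.1 ≤ c.left ⁻¹ᵁ U.1) :
    idl I b' hb' U' = (idl I b hb U).map (c.left.appLE U.1 U'.1 e).hom := by
  let γ := chartOpenHom c b hb b' hb' hcomm U'.1 U.1 e
  have hJ : I.ideal (chartOpen b' hb' U'.1) U'.2 =
      (I.ideal (chartOpen b hb U.1) U.2).map γ.hom.left.left.appTop.hom :=
    le_antisymm (hI γ U.2 U'.2) (I.map_le γ U.2 U'.2)
  unfold idl
  rw [hJ]
  exact ideal_transport (rTop U.1).hom (rTop U'.1).hom γ.hom.left.left.appTop.hom
    (c.left.appLE U.1 U'.1 e).hom (rTop_bijective _) (rTop_bijective _) (by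
      rw [← CommRingCat.hom_comp, ← CommRingCat.hom_comp]
      congr 1
      exact rTop_resLE c.left U'.1 U.1 e) _

/-- The ideal sheaf on an étale chart defined by a quasi-coherent family of ideals. -/
noncomputable def sheafOn (I : IdealEt X) (hI : I.IsQCoh) {W : Over S} (b : (yon S).obj W ⟶ X)
    (hb : RepWith @Etale b) : W.left.IdealSheafData where
  ideal U := idl I b hb U
  map_ideal_basicOpen U f := by
    have h := idl_map I hI (𝟙 W) b hb b hb (by rw [CategoryTheory.Functor.map_id, Category.id_comp])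
      (W.left.affineBasicOpen f) U (W.left.basicOpen_le f)
    rw [h]
    congr 2

theorem sheafOn_comap (I : IdealEt X) (hI : I.IsQCoh) {W W' : Over S} (c : W' ⟶ W)
    (b : (yon S).obj W ⟶ X) (hb : RepWith @Etale b) (b' : (yon S).obj W' ⟶ X)
    (hb' : RepWith @Etale b') (hcomm : (yon S).map c ≫ b = b') :
    (sheafOn I hI b hb).comap c.left = sheafOn I hI b' hb' :=
  comap_eq_of_forall_map c.left _ _ (fun U' U e => idl_map I hI c b hb b' hb' hcomm U' U e)

theorem sheafOn_ideal_top (I : IdealEt X) (hI : I.IsQCoh) (E : EtOver X)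
    (hE : IsAffine E.obj.left.left) :
    (sheafOn I hI E.obj.hom E.property).ideal ⟨⊤, @isAffineOpen_top _ hE⟩ = I.ideal E hE := by
  let φ : chartOpen E.obj.hom E.property ⊤ ⟶ E := EtOver.homMk (openι E.obj.left ⊤) rfl
  have hA : IsAffine (chartOpen E.obj.hom E.property ⊤).obj.left.left := @isAffineOpen_top _ hE
  have hJ : I.ideal (chartOpen E.obj.hom E.property ⊤) hA =
      (I.ideal E hE).map φ.hom.left.left.appTop.hom :=
    le_antisymm (hI φ hE hA) (I.map_le φ hE hA)
  show (I.ideal (chartOpen E.obj.hom E.property ⊤) hA).comap (rTop ⊤).hom = _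
  rw [hJ]
  have h3 : rTop (⊤ : E.obj.left.left.Opens) = φ.hom.left.left.appTop :=
    Scheme.Hom.appLE_eq_app _ (U := ⊤)
  rw [h3]
  exact Ideal.comap_map_of_bijective _ (by rw [← h3]; exact rTop_bijective _)

section Rep

variable {F : Sp S} {f : F ⟶ X}

theorem exists_isPullback_snd (hf : Representable f) {W W' : Over S} (b : (yon S).obj W ⟶ X)
    (c : W' ⟶ W) (b' : (yon S).obj W' ⟶ X) (hcomm : (yon S).map c ≫ b = b') :
    ∃ l : hf.pullback b' ⟶ hf.pullback b,
      IsPullback l.left (hf.snd b').left (hf.snd b).left c.left ∧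
      (yon S).map l ≫ hf.fst b = hf.fst b' := by
  subst hcomm
  have sqA := hf.isPullback b
  have sqA' := hf.isPullback ((yon S).map c ≫ b)
  have hc : hf.fst ((yon S).map c ≫ b) ≫ f =
      (yon S).map (hf.snd ((yon S).map c ≫ b) ≫ c) ≫ b := by
    rw [Functor.map_comp, Category.assoc]; exact sqA'.w
  have hl1 : (yon S).map (hf.lift _ _ hc) ≫ hf.fst b = hf.fst ((yon S).map c ≫ b) :=
    hf.lift_fst _ _ hc
  have hl2 : hf.lift _ _ hc ≫ hf.snd b = hf.snd ((yon S).map c ≫ b) ≫ c :=
    hf.lift_snd _ _ hc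
  have sqL : IsPullback ((yon S).map (hf.lift _ _ hc))
      ((yon S).map (hf.snd ((yon S).map c ≫ b))) ((yon S).map (hf.snd b))
      ((yon S).map c) := by
    refine IsPullback.of_right ?_ (by rw [← Functor.map_comp, ← Functor.map_comp, hl2]) sqA
    rw [hl1]; exact sqA'
  exact ⟨hf.lift _ _ hc, isPullback_left_of_isPullback_yon sqL, hl1⟩

theorem ker_app_snd (hf : Representable f) {W : Over S} (b : (yon S).obj W ⟶ X)
    (U : W.left.Opens) :
    RingHom.ker ((hf.snd b).left.app U).hom =
      (RingHom.ker (hf.snd ((yon S).map (openι W U) ≫ b)).left.appTop.hom).comap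
        (rTop U).hom := by
  obtain ⟨l, sq, -⟩ := exists_isPullback_snd hf b (openι W U) _ rfl
  exact ker_app_of_isPullback_ι U _ _ l.left sq

variable {Z : Sp S} {i : Z ⟶ X}

/-- Comparison of kernel ideal sheaves on an arbitrary étale chart from the comparison of the
families of kernel ideals on affine objects. -/
theorem ker_le_ker_of_le (hi : RepWith @IsClosedImmersion i) (hf : Representable f)
    (h : idealOfRep hi.1 ≤ idealOfRep hf) {W : Over S} (b : (yon S).obj W ⟶ X)
    (hb : RepWith @Etale b) : (hi.rep.snd b).left.ker ≤ (hf.snd b).left.ker := by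
  haveI : IsClosedImmersion (hi.rep.snd b).left := hi.property_snd b
  change _ ≤ IdealSheafData.ofIdeals _
  rw [IdealSheafData.le_ofIdeals_iff]
  intro U
  show (hi.rep.snd b).left.ker.ideal U ≤ RingHom.ker ((hf.snd b).left.app U.1).hom
  rw [Scheme.Hom.ker_apply, ker_app_snd hi.rep b U.1, ker_app_snd hf b U.1]
  exact Ideal.comap_mono (h (chartOpen b hb U.1) U.2)

/-- A morphism whose kernel family contains the ideal of a closed subspace factors through it. -/
theorem exists_factor_of_le (hX : IsAlgSpace X) (hi : RepWith @IsClosedImmersion i)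
    (hf : Representable f) (h : idealOfRep hi.1 ≤ idealOfRep hf) : ∃ k : F ⟶ Z, k ≫ i = f := by
  obtain ⟨W, p, hpe, hps⟩ := hX.atlas
  haveI : Mono i := mono_of_closedImmersion i hi
  haveI : IsClosedImmersion (hi.rep.snd p).left := hi.property_snd p
  have H := ker_le_ker_of_le hi hf h p hpe
  have sq := hf.isPullback p
  have sq' := hi.rep.isPullback p
  haveI : Epi (hf.fst p) := epi_of_atlas _ (repWith_fst_of_isPullback _ sq hpe)
    (repWith_fst_of_isPullback _ sq hps)
  have hl₀ : IsClosedImmersion.lift (hi.rep.snd p).left (hf.snd p).left H ≫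
      (hi.rep.snd p).left = (hf.snd p).left := IsClosedImmersion.lift_fac _ _ _
  let l : hf.pullback p ⟶ hi.rep.pullback p :=
    Over.homMk (IsClosedImmersion.lift (hi.rep.snd p).left (hf.snd p).left H) (by
      rw [← Over.w (hi.rep.snd p), ← Category.assoc, hl₀, Over.w])
  have hl : l ≫ hi.rep.snd p = hf.snd p := by ext; exact hl₀
  refine exists_factor_of_epi_mono (hf.fst p) i f ((yon S).map l ≫ hi.rep.fst p) ?_
  rw [Category.assoc, sq'.w, ← Category.assoc, ← Functor.map_comp, hl, sq.w]

theorem le_of_factor (hi : Representable i) (hf : Representable f) (k : F ⟶ Z)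
    (hk : k ≫ i = f) : idealOfRep hi ≤ idealOfRep hf := by
  intro E hE a ha
  rw [mem_idealOfRep_iff] at ha ⊢
  have hcomm : (hf.fst E.obj.hom ≫ k) ≫ i = (yon S).map (hf.snd E.obj.hom) ≫ E.obj.hom := by
    rw [Category.assoc, hk]; exact (hf.isPullback E.obj.hom).w
  have h1 : hi.lift _ _ hcomm ≫ hi.snd E.obj.hom = hf.snd E.obj.hom := hi.lift_snd _ _ hcomm
  have h2 : (hf.snd E.obj.hom).left = (hi.lift _ _ hcomm).left ≫ (hi.snd E.obj.hom).left := by
    rw [← Over.comp_left, h1]
  show (hf.snd E.obj.hom).left.appTop.hom a = 0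
  rw [h2, Scheme.Hom.comp_appTop, CommRingCat.hom_comp, RingHom.comp_apply]
  rw [show (hi.snd E.obj.hom).left.appTop.hom a = 0 from ha, map_zero]

end Rep

end Groth.Agent.Lib.IdealEtBH7
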