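import Mathlib

/-! Points of a pullback square of schemes surject onto the fibre product of the point sets. -/

set_option autoImplicit false
universe u
open CategoryTheory CategoryTheory.Limits AlgebraicGeometry

namespace SchPbPointsH7

theorem exists_of_isPullback {P X Y Z : Scheme.{u}} {fst : P ⟶ X} {snd : P ⟶ Y} {f : X ⟶ Z}
    {g : Y ⟶ Z} (h : IsPullback fst snd f g) (x : X) (y : Y) (hxy : f x = g y) :
    ∃ z : P, fst z = x ∧ snd z = y := by
  obtain ⟨z, hz1, hz2⟩ := Scheme.Pullback.exists_preimage_pullback x y hxy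
  refine ⟨h.isoPullback.inv z, ?_, ?_⟩
  · rw [← hz1, ← Scheme.Hom.comp_apply, h.isoPullback_inv_fst]
  · rw [← hz2, ← Scheme.Hom.comp_apply, h.isoPullback_inv_snd]

/-- the same with `.base` spelled out -/
theorem exists_of_isPullback_base {P X Y Z : Scheme.{u}} {fst : P ⟶ X} {snd : P ⟶ Y} {f : X ⟶ Z}
    {g : Y ⟶ Z} (h : IsPullback fst snd f g) (x : X) (y : Y) (hxy : f.base x = g.base y) :
    ∃ z : P, fst.base z = x ∧ snd.base z = y :=
  exists_of_isPullback h x y hxy

theorem over_comp_base {S : Scheme.{u}} {A B C : Over S} (f : A ⟶ B) (g : B ⟶ C) (x : A.left) :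
    (f ≫ g).left.base x = g.left.base (f.left.base x) := rfl

theorem over_id_base {S : Scheme.{u}} {A : Over S} (x : A.left) :
    (𝟙 A : A ⟶ A).left.base x = x := rfl

end SchPbPointsH7
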