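import Mathlib
import Groth.Prelude.Def_FDesc
import Groth.Prelude.Def_AlgSpDec
import Groth.Agent.Lib.AlgSpReduced_helper7
import Groth.Agent.Lib.SchPbPoints_helper7
import Groth.Agent.Lib.AlgSpPoints_helper7
import Groth.Agent.Lib.IdealEtB_helper7

/-!
# Geometric reducedness at a point: étale invariance, for schemes and algebraic spaces (helper7)
-/

set_option autoImplicit false
universe u
open CategoryTheory CategoryTheory.Limits AlgebraicGeometry Opposite

namespace Groth.Agent.Lib.GeomRedH7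
open AlgSp Groth.Agent.Lib.AlgSpPoints_helper7 Groth.Agent.Lib.IdealEtBH7

variable {k : Type u} [Field k]

theorem exists_bcMap {W U : Scheme.{u}} (c : W ⟶ U) [Etale c]
    (fU : U ⟶ Spec (CommRingCat.of k)) (K : Type u) [Field K] [Algebra k K] :
    ∃ cK : FBase.bc (c ≫ fU) K ⟶ FBase.bc fU K, Etale cK ∧
      IsPullback (FBase.bcπ (c ≫ fU) K) cK c (FBase.bcπ fU K) := by
  let sK := Spec.map (CommRingCat.ofHom (algebraMap k K))
  let cK : pullback (c ≫ fU) sK ⟶ pullback fU sK :=
    pullback.map (c ≫ fU) sK fU sK c (𝟙 _) (𝟙 _) (by simp) (by simp)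
  have h1 : cK ≫ pullback.fst fU sK = pullback.fst (c ≫ fU) sK ≫ c := pullback.lift_fst _ _ _
  have h2 : cK ≫ pullback.snd fU sK = pullback.snd (c ≫ fU) sK :=
    (pullback.lift_snd _ _ _).trans (Category.comp_id _)
  have sq : IsPullback cK (pullback.fst (c ≫ fU) sK) (pullback.fst fU sK) c := by
    refine IsPullback.of_right ?_ h1 (IsPullback.of_hasPullback fU sK).flip
    rw [h2]; exact (IsPullback.of_hasPullback (c ≫ fU) sK).flip
  exact ⟨cK, MorphismProperty.of_isPullback (P := @Etale) sq.flip inferInstance, sq.flip⟩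

theorem isGeomReducedAt_iff_of_etale {W U : Scheme.{u}} (c : W ⟶ U) [Etale c]
    (fW : W ⟶ Spec (CommRingCat.of k)) (fU : U ⟶ Spec (CommRingCat.of k)) (hc : c ≫ fU = fW)
    (w : W) : FBase.IsGeomReducedAt fW w ↔ FBase.IsGeomReducedAt fU (c w) := by
  subst hc
  constructor
  · intro h K _ _ u' hu'
    obtain ⟨cK, hcK, sq⟩ := exists_bcMap c fU K
    haveI := hcK
    obtain ⟨w', hw'1, hw'2⟩ := SchPbPointsH7.exists_of_isPullback sq w u' hu'.symm
    have hr := h K w' hw'1
    rw [← hw'2]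
    exact Groth.Agent.Lib.AlgSpReduced_helper7.isReduced_stalk_of_flat cK w' hr
  · intro h K _ _ w' hw'
    obtain ⟨cK, hcK, sq⟩ := exists_bcMap c fU K
    haveI := hcK
    have hu' : (FBase.bcπ fU K).base (cK.base w') = c w := by
      show (cK ≫ FBase.bcπ fU K).base w' = _
      rw [← sq.w]
      show c.base ((FBase.bcπ (c ≫ fU) K).base w') = _
      rw [hw']
    exact Groth.Agent.Lib.AlgSpReduced_helper7.isReduced_stalk_of_etale cK w' (h K (cK.base w') hu')

/-- Transfer of geometric reducedness between two étale charts through the same point. -/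
theorem geomRed_of_charts {X : Sp (Spec (CommRingCat.of k))}
    {U U' : Over (Spec (CommRingCat.of k))}
    (a : (yon _).obj U ⟶ X) (a' : (yon _).obj U' ⟶ X) (ha : RepWith @Etale a)
    (ha' : RepWith @Etale a') (u : ↥U.left) (u' : ↥U'.left)
    (h : Points.ofPt a u = Points.ofPt a' u') (hg : FBase.IsGeomReducedAt U.hom u) :
    FBase.IsGeomReducedAt U'.hom u' := by
  let V := ha.rep.pullback a'
  let c : V ⟶ U := ha.rep.fst' a'
  let e : V ⟶ U' := ha.rep.snd a'
  have sq1 : IsPullback ((yon _).map c) ((yon _).map e) a a' := ha.rep.isPullback' a'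
  haveI he : Etale e.left := ha.property _ _ _ sq1
  haveI hc : Etale c.left := ha'.property _ _ _ sq1.flip
  obtain ⟨v, hv1, hv2⟩ := exists_ofPt_eq_of_isPullback sq1 u u' h
  have h1 : FBase.IsGeomReducedAt V.hom v :=
    (isGeomReducedAt_iff_of_etale c.left V.hom U.hom (Over.w c) v).2 (hv1 ▸ hg)
  have h2 := (isGeomReducedAt_iff_of_etale e.left V.hom U'.hom (Over.w e) v).1 h1
  rwa [hv2] at h2

theorem exists_iff_forall {X : Sp (Spec (CommRingCat.of k))} (hX : IsAlgSpace X) (x : Points X) :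
    (∃ (U : Over (Spec (CommRingCat.of k))) (a : (yon _).obj U ⟶ X) (u : ↥U.left),
      RepWith @Etale a ∧ Points.ofPt a u = x ∧ FBase.IsGeomReducedAt U.hom u) ↔
      ∀ (U : Over (Spec (CommRingCat.of k))) (a : (yon _).obj U ⟶ X) (u : ↥U.left),
        RepWith @Etale a → Points.ofPt a u = x → FBase.IsGeomReducedAt U.hom u := by
  constructor
  · rintro ⟨U, a, u, ha, hu, hg⟩ U' a' u' ha' hu'
    exact geomRed_of_charts a a' ha ha' u u' (hu.trans hu'.symm) hg
  · intro H
    obtain ⟨U, a, hae, has⟩ := hX.atlas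
    obtain ⟨u, hu⟩ := ofPt_surjective a has x
    exact ⟨U, a, u, hae, hu, H U a u hae hu⟩

theorem geomRed_iff_of_etale_surjective {X Y : Sp (Spec (CommRingCat.of k))} (hX : IsAlgSpace X)
    (hY : IsAlgSpace Y) (f : X ⟶ Y) (he : IsEtaleMor f) (hs : IsSurjectiveMor f) :
    (∀ x : Points X, ∃ (U : Over (Spec (CommRingCat.of k))) (a : (yon _).obj U ⟶ X)
      (u : ↥U.left), RepWith @Etale a ∧ Points.ofPt a u = x ∧ FBase.IsGeomReducedAt U.hom u) ↔
    (∀ y : Points Y, ∃ (U : Over (Spec (CommRingCat.of k))) (a : (yon _).obj U ⟶ Y)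
      (u : ↥U.left), RepWith @Etale a ∧ Points.ofPt a u = y ∧ FBase.IsGeomReducedAt U.hom u) := by
  constructor
  · intro H y
    obtain ⟨x, rfl⟩ := hs y
    obtain ⟨U, a, u, hae, hu, hg⟩ := H x
    exact ⟨U, a ≫ f, u, he a hae, by rw [← Points.map_ofPt, hu], hg⟩
  · intro H x
    obtain ⟨U, a, hae, has⟩ := hX.atlas
    obtain ⟨u, hu⟩ := ofPt_surjective a has x
    have hy : Points.ofPt (a ≫ f) u = Points.map f x := by rw [← Points.map_ofPt, hu]
    have := (exists_iff_forall hY _).1 (H (Points.map f x)) U (a ≫ f) u (he a hae) hy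
    exact ⟨U, a, u, hae, hu, this⟩

theorem geomRed_iff_of_etaleAt {X Y : Sp (Spec (CommRingCat.of k))} (hX : IsAlgSpace X)
    (hY : IsAlgSpace Y) (f : X ⟶ Y) (x : Points X)
    (he : HasAtMor (fun U _ h u => ∃ W : U.Opens, u ∈ W ∧ Etale (W.ι ≫ h)) f x) :
    (∃ (U : Over (Spec (CommRingCat.of k))) (a : (yon _).obj U ⟶ X) (u : ↥U.left),
      RepWith @Etale a ∧ Points.ofPt a u = x ∧ FBase.IsGeomReducedAt U.hom u) ↔
    (∃ (U : Over (Spec (CommRingCat.of k))) (a : (yon _).obj U ⟶ Y) (u : ↥U.left),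
      RepWith @Etale a ∧ Points.ofPt a u = Points.map f x ∧ FBase.IsGeomReducedAt U.hom u) := by
  obtain ⟨U, V, a, b, h, u, hae, hbe, hcomm, hux, W, huW, hWe⟩ := he
  let aW : (yon _).obj (openOver U W) ⟶ X := (yon _).map (openι U W) ≫ a
  have haW : RepWith @Etale aW := etale_open a hae W
  let uW : ↥(openOver U W).left := ⟨u, huW⟩
  have huWx : Points.ofPt aW uW = x := by
    show Points.ofPt ((yon _).map (openι U W) ≫ a) uW = x
    rw [ofPt_comp]; exact hux
  let hW : openOver U W ⟶ V := openι U W ≫ h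
  haveI : Etale hW.left := hWe
  have hy : Points.ofPt b (hW.left uW) = Points.map f x := by
    have e1 : (yon _).map hW ≫ b = aW ≫ f := by
      show (yon _).map (openι U W ≫ h) ≫ b = ((yon _).map (openι U W) ≫ a) ≫ f
      rw [Functor.map_comp, Category.assoc, Category.assoc, hcomm]
    rw [← ofPt_comp, e1, ← Points.map_ofPt, huWx]
  have key : FBase.IsGeomReducedAt (openOver U W).hom uW ↔
      FBase.IsGeomReducedAt V.hom (hW.left uW) :=
    isGeomReducedAt_iff_of_etale hW.left _ _ (Over.w hW) uW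
  constructor
  · intro hx
    have := (exists_iff_forall hX x).1 hx _ aW uW haW huWx
    exact ⟨V, b, hW.left uW, hbe, hy, key.1 this⟩
  · intro hy'
    have := (exists_iff_forall hY _).1 hy' V b (hW.left uW) hbe hy
    exact ⟨openOver U W, aW, uW, haW, huWx, key.2 this⟩

end Groth.Agent.Lib.GeomRedH7
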