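import Groth.Agent.Lib.AlgSpProdChart_helper7
import Groth.Agent.Lib.GeomRedSch_helper4
import Groth.Agent.Lib.GeomRed_helper7

/-!
# Reducedness of base changes `X_K` of an algebraic space over a field (helper7)
-/

set_option autoImplicit false
set_option linter.style.haveILetI false
universe u
open scoped TensorProduct
open CategoryTheory CategoryTheory.Limits AlgebraicGeometry Opposite

namespace Groth.Agent.Lib.GeomRedBCH7

open AlgSp Groth.Agent.Lib.AlgSpPoints_helper7 Groth.Agent.Lib.AlgSpProdChartH7
  Groth.Agent.Lib.GeomRedSchH4 Groth.Agent.Lib.GeomRedInsepH4 Groth.Agent.Lib.PerfectRed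

/-- If `P ⊗ S` is reduced for one perfect algebraic extension `P` of `k`, then `K ⊗ S` is reduced
for every field extension `K`. -/
theorem isReduced_tensor_of_perfect_algebraic (k S : Type u) [Field k] [CommRing S] [Algebra k S]
    (P : Type u) [Field P] [Algebra k P] [PerfectField P] [Algebra.IsAlgebraic k P]
    [_root_.IsReduced (P ⊗[k] S)] (K : Type u) [Field K] [Algebra k K] :
    _root_.IsReduced (K ⊗[k] S) := by
  let φ : P →ₐ[k] AlgebraicClosure k := IsAlgClosed.lift
  letI : Algebra P (AlgebraicClosure k) := φ.toRingHom.toAlgebra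
  haveI : IsScalarTower k P (AlgebraicClosure k) :=
    IsScalarTower.of_algebraMap_eq (fun x => (φ.commutes x).symm)
  haveI h1 : _root_.IsReduced (AlgebraicClosure k ⊗[k] S) :=
    isReduced_of_perfect_sub (k := k) (S := S) P (AlgebraicClosure k)
  haveI : Algebra.IsGeometricallyReduced k S :=
    (Algebra.isGeometricallyReduced_field_iff k S).mpr h1
  exact isReduced_tensor_of_isGeometricallyReduced k S K

/-- Affine case. -/
theorem isReduced_bc_affine (k : Type u) [Field k] (U : Scheme.{u}) [IsAffine U]
    (a : U ⟶ Spec (CommRingCat.of k))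
    (P : Type u) [Field P] [Algebra k P] [PerfectField P] [Algebra.IsAlgebraic k P]
    (h : IsReduced (pullback a (Spec.map (CommRingCat.ofHom (algebraMap k P)))))
    (K : Type u) [Field K] [Algebra k K] :
    IsReduced (pullback a (Spec.map (CommRingCat.ofHom (algebraMap k K)))) := by
  obtain ⟨φ, hφ⟩ : ∃ φ : CommRingCat.of k ⟶ Γ(U, ⊤), Spec.map φ = U.isoSpec.inv ≫ a :=
    ⟨Spec.preimage _, Spec.map_preimage _⟩
  letI : Algebra k Γ(U, ⊤) := φ.hom.toAlgebra
  have ha : Spec.map (CommRingCat.ofHom (algebraMap k Γ(U, ⊤))) = U.isoSpec.inv ≫ a := hφ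
  haveI : _root_.IsReduced (P ⊗[k] Γ(U, ⊤)) := (pullback_reduced_iff k U a ha P).mp h
  exact (pullback_reduced_iff k U a ha K).mpr
    (isReduced_tensor_of_perfect_algebraic k Γ(U, ⊤) P K)

/-- If `U_P` is reduced for one perfect algebraic extension `P` of `k`, then `U_K` is reduced for
every field extension `K` of `k`. -/
theorem isReduced_bc (k : Type u) [Field k] (U : Scheme.{u})
    (a : U ⟶ Spec (CommRingCat.of k))
    (P : Type u) [Field P] [Algebra k P] [PerfectField P] [Algebra.IsAlgebraic k P]
    (h : IsReduced (pullback a (Spec.map (CommRingCat.ofHom (algebraMap k P)))))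
    (K : Type u) [Field K] [Algebra k K] :
    IsReduced (pullback a (Spec.map (CommRingCat.ofHom (algebraMap k K)))) := by
  haveI : ∀ i, IsReduced ((Scheme.Pullback.openCoverOfLeft U.affineCover a
      (Spec.map (CommRingCat.ofHom (algebraMap k K)))).X i) := by
    intro (i : U.affineCover.I₀)
    show IsReduced (pullback (U.affineCover.f i ≫ a)
      (Spec.map (CommRingCat.ofHom (algebraMap k K))))
    refine isReduced_bc_affine k _ (U.affineCover.f i ≫ a) P ?_ K
    exact @isReduced_of_isOpenImmersion _ _ ((Scheme.Pullback.openCoverOfLeft U.affineCover a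
        (Spec.map (CommRingCat.ofHom (algebraMap k P)))).f i)
      (Scheme.Cover.map_prop (Scheme.Pullback.openCoverOfLeft U.affineCover a
        (Spec.map (CommRingCat.ofHom (algebraMap k P)))) i) h
  exact IsReduced.of_openCover _ (Scheme.Pullback.openCoverOfLeft U.affineCover a
    (Spec.map (CommRingCat.ofHom (algebraMap k K))))

/-- If `U_{k'}` is reduced for every finite purely inseparable `k'/k`, then `U_K` is reduced for
every field extension `K` of `k`. -/
theorem isReduced_bc_of_finite_insep (k : Type u) [Field k] (U : Scheme.{u})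
    (a : U ⟶ Spec (CommRingCat.of k))
    (h : ∀ (k' : Type u) [Field k'] [Algebra k k'] [FiniteDimensional k k']
      [IsPurelyInseparable k k'],
      IsReduced (pullback a (Spec.map (CommRingCat.ofHom (algebraMap k k')))))
    (K : Type u) [Field K] [Algebra k K] :
    IsReduced (pullback a (Spec.map (CommRingCat.ofHom (algebraMap k K)))) := by
  haveI : ∀ i, IsReduced ((Scheme.Pullback.openCoverOfLeft U.affineCover a
      (Spec.map (CommRingCat.ofHom (algebraMap k K)))).X i) := by
    intro (i : U.affineCover.I₀)
    show IsReduced (pullback (U.affineCover.f i ≫ a)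
      (Spec.map (CommRingCat.ofHom (algebraMap k K))))
    refine geomRed_affine_piece k _ (U.affineCover.f i ≫ a) (fun k' _ _ _ _ => ?_) K
      (Spec.map (CommRingCat.ofHom (algebraMap k K)))
    exact @isReduced_of_isOpenImmersion _ _ ((Scheme.Pullback.openCoverOfLeft U.affineCover a
        (Spec.map (CommRingCat.ofHom (algebraMap k k')))).f i)
      (Scheme.Cover.map_prop (Scheme.Pullback.openCoverOfLeft U.affineCover a
        (Spec.map (CommRingCat.ofHom (algebraMap k k')))) i) (h k')
  exact IsReduced.of_openCover _ (Scheme.Pullback.openCoverOfLeft U.affineCover a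
    (Spec.map (CommRingCat.ofHom (algebraMap k K))))

variable (k : Type u) [Field k]

/-- `X_K` is reduced iff `U_K` is, for an atlas `U` of `X`. -/
theorem etaleLocally_iff (X : AlgSp.Space (Spec (CommRingCat.of k)))
    {U : Over (Spec (CommRingCat.of k))} (a : (yon _).obj U ⟶ X.obj) (hae : RepWith @Etale a)
    (has : RepWith @Surjective a) (K : Type u) [Field K] [Algebra k K] :
    EtaleLocally (fun V => IsReduced V) (X.obj ⨯ (yon (Spec (CommRingCat.of k))).obj
      (Over.mk (Spec.map (CommRingCat.ofHom (algebraMap k K))))) ↔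
      IsReduced (pullback U.hom (Spec.map (CommRingCat.ofHom (algebraMap k K)))) :=
  etaleLocally_isReduced_prod_iff X.property a hae has _

theorem main12204 (X : AlgSp.Space (Spec (CommRingCat.of k))) (k' : Type u) [Field k']
    [Algebra k k'] [PerfectField k'] [IsPurelyInseparable k k']
    (h : EtaleLocally (fun U => IsReduced U) (X.obj ⨯ (yon (Spec (CommRingCat.of k))).obj
      (Over.mk (Spec.map (CommRingCat.ofHom (algebraMap k k'))))))
    (K : Type u) [Field K] [Algebra k K] :
    EtaleLocally (fun U => IsReduced U) (X.obj ⨯ (yon (Spec (CommRingCat.of k))).obj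
      (Over.mk (Spec.map (CommRingCat.ofHom (algebraMap k K))))) := by
  obtain ⟨U, a, hae, has⟩ := X.property.atlas
  haveI : Algebra.IsAlgebraic k k' := inferInstance
  rw [etaleLocally_iff k X a hae has] at h ⊢
  exact isReduced_bc k U.left U.hom k' h K

theorem main10477 (X : AlgSp.Space (Spec (CommRingCat.of k))) (kbar : Type u) [Field kbar]
    [Algebra k kbar] [IsAlgClosure k kbar]
    (h : EtaleLocally (fun U => IsReduced U) (X.obj ⨯ (yon (Spec (CommRingCat.of k))).obj
      (Over.mk (Spec.map (CommRingCat.ofHom (algebraMap k kbar))))))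
    (K : Type u) [Field K] [Algebra k K] :
    EtaleLocally (fun U => IsReduced U) (X.obj ⨯ (yon (Spec (CommRingCat.of k))).obj
      (Over.mk (Spec.map (CommRingCat.ofHom (algebraMap k K))))) := by
  obtain ⟨U, a, hae, has⟩ := X.property.atlas
  haveI : IsAlgClosed kbar := IsAlgClosure.isAlgClosed k
  rw [etaleLocally_iff k X a hae has] at h ⊢
  exact isReduced_bc k U.left U.hom kbar h K

theorem main10478 (X : AlgSp.Space (Spec (CommRingCat.of k)))
    (h : ∀ (k' : Type u) [Field k'] [Algebra k k'], Module.Finite k k' →
      IsPurelyInseparable k k' →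
      EtaleLocally (fun U => IsReduced U) (X.obj ⨯ (yon (Spec (CommRingCat.of k))).obj
        (Over.mk (Spec.map (CommRingCat.ofHom (algebraMap k k'))))))
    (K : Type u) [Field K] [Algebra k K] :
    EtaleLocally (fun U => IsReduced U) (X.obj ⨯ (yon (Spec (CommRingCat.of k))).obj
      (Over.mk (Spec.map (CommRingCat.ofHom (algebraMap k K))))) := by
  obtain ⟨U, a, hae, has⟩ := X.property.atlas
  rw [etaleLocally_iff k X a hae has]
  exact isReduced_bc_of_finite_insep k U.left U.hom
    (fun k' _ _ hf hi => (etaleLocally_iff k X a hae has k').1 (h k' hf hi)) K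

theorem main10476 (X : AlgSp.Space (Spec (CommRingCat.of k))) :
    (∀ x : Points X.obj, (∃ (U : Over (Spec (CommRingCat.of k)))
      (a : (yon (Spec (CommRingCat.of k))).obj U ⟶ X.obj) (u : ↥U.left),
      RepWith @Etale a ∧ Points.ofPt a u = x ∧ FBase.IsGeomReducedAt U.hom u)) ↔
      ∀ (K : Type u) [Field K] [Algebra k K], EtaleLocally (fun U => IsReduced U)
        (X.obj ⨯ (yon (Spec (CommRingCat.of k))).obj
          (Over.mk (Spec.map (CommRingCat.ofHom (algebraMap k K))))) := by
  obtain ⟨U, a, hae, has⟩ := X.property.atlas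
  constructor
  · intro H K _ _
    rw [etaleLocally_iff k X a hae has]
    show IsReduced (FBase.bc U.hom K)
    haveI : ∀ y : ↥(FBase.bc U.hom K),
        _root_.IsReduced ((FBase.bc U.hom K).presheaf.stalk y) := by
      intro y
      have hu := (Groth.Agent.Lib.GeomRedH7.exists_iff_forall X.property _).1
        (H (Points.ofPt a ((FBase.bcπ U.hom K).base y))) U a _ hae rfl
      exact hu K y rfl
    exact isReduced_of_isReduced_stalk _
  · intro H x
    obtain ⟨u, hu⟩ := ofPt_surjective a has x
    refine ⟨U, a, u, hae, hu, ?_⟩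
    intro K _ _ y hy
    haveI : IsReduced (FBase.bc U.hom K) := (etaleLocally_iff k X a hae has K).1 (H K)
    infer_instance

end Groth.Agent.Lib.GeomRedBCH7
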