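import Groth.Agent.Lib.AlgSpBCTop_helper7
import Groth.Agent.Lib.GeomRedBC_helper7
import Groth.Agent.Lib.AlgSpDecent5_helper6
import Groth.Agent.Lib.AlgSpDecentZar_helper6

/-!
# Geometric integrality and products with geometrically connected spaces (helper7)
-/

set_option autoImplicit false
set_option linter.style.haveILetI false
universe u
open CategoryTheory CategoryTheory.Limits AlgebraicGeometry Opposite

namespace Groth.Agent.Lib.AlgSpBCTop2H7

open AlgSp Groth.Agent.Lib.AlgSpPoints_helper7 Groth.Agent.Lib.AlgSpProdChartH7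
  Groth.Agent.Lib.GeomRedBC2H7 Groth.Agent.Lib.AlgSpFieldBC_helper4 Groth.Agent.Lib.GeomIrrSchH4
  Groth.Agent.Lib.AlgSpBCTopH7 Groth.Agent.Lib.AlgSpQC_helper7
  Groth.Agent.Lib.AlgSpPullback_helper7

section top

variable {A' B' A B : Type*} [TopologicalSpace A'] [TopologicalSpace B'] [TopologicalSpace A]
  [TopologicalSpace B]

theorem isOpenMap_of_square (q' : A' → B') (m : A' → A) (q : A → B) (φ : B' → B)
    (hcomm : ∀ a', φ (q' a') = q (m a'))
    (hq'c : Continuous q') (hq's : Function.Surjective q')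
    (hqo : IsOpenMap q) (hmo : IsOpenMap m) : IsOpenMap φ := by
  intro W hW
  have e : φ '' W = q '' (m '' (q' ⁻¹' W)) := by
    ext y
    constructor
    · rintro ⟨y', hy', rfl⟩
      obtain ⟨a', rfl⟩ := hq's y'
      exact ⟨m a', ⟨a', hy', rfl⟩, (hcomm a').symm⟩
    · rintro ⟨_, ⟨a', ha', rfl⟩, rfl⟩
      exact ⟨q' a', ha', hcomm a'⟩
  rw [e]
  exact hqo _ (hmo _ (hW.preimage hq'c))

end top

variable {S : Scheme.{u}}

/-- The product of a decent sheaf with a scheme is decent. -/
theorem isDecent_prod {X : Sp S} (hX : IsDecent X) (Y : Over S) :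
    IsDecent (X ⨯ (yon S).obj Y) := by
  have t : IsTerminal ((yon S).obj (Over.mk (𝟙 S))) :=
    IsTerminal.isTerminalObj (yon S) _ Over.mkIdTerminal
  exact Groth.Agent.Lib.AlgSpDecent4_helper6.isDecent_of_isPullback (IsAlgSpace.yon_obj _).diag
    (IsPullback.of_is_product' (prodIsProd _ _) t) hX
    (Groth.Agent.Lib.AlgSpDecent5_helper6.isDecent_yon Y)

variable (k : Type u) [Field k]

theorem main10497 (X : AlgSp.Space (Spec (CommRingCat.of k))) (hX : IsDecent X.obj) :
    (∀ (K : Type u) [Field K] [Algebra k K], IsIntegralSp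
      (X.obj ⨯ (yon (Spec (CommRingCat.of k))).obj (SK k K))) ↔
      (∀ x : Points X.obj, (∃ (U : Over (Spec (CommRingCat.of k)))
        (a : (yon (Spec (CommRingCat.of k))).obj U ⟶ X.obj) (u : ↥U.left),
        RepWith @Etale a ∧ Points.ofPt a u = x ∧ FBase.IsGeomReducedAt U.hom u)) ∧
        ∀ (K : Type u) [Field K] [Algebra k K], IrreducibleSpace (Points
          (X.obj ⨯ (yon (Spec (CommRingCat.of k))).obj (SK k K))) := by
  constructor
  · intro H
    refine ⟨(Groth.Agent.Lib.GeomRedBCH7.main10476 k X).2 (fun K _ _ => ?_), fun K _ _ => ?_⟩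
    · obtain ⟨h1, -, -⟩ := H K
      exact h1
    · obtain ⟨-, -, h3⟩ := H K
      exact h3
  · rintro ⟨H1, H2⟩ K _ _
    show _ ∧ _ ∧ _
    exact ⟨(Groth.Agent.Lib.GeomRedBCH7.main10476 k X).1 H1 K, isDecent_prod hX _, H2 K⟩

theorem main10466 (X Y : AlgSp.Space (Spec (CommRingCat.of k)))
    (hX : ∀ (K : Type u) [Field K] [Algebra k K], ConnectedSpace (Points
      (X.obj ⨯ (yon (Spec (CommRingCat.of k))).obj (SK k K)))) :
    Function.Bijective (Continuous.connectedComponentsMap
      (Points.continuous_map (prod.snd : X.obj ⨯ Y.obj ⟶ Y.obj))) := by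
  have hfib : ∀ y, IsConnected (Points.map (prod.snd : X.obj ⨯ Y.obj ⟶ Y.obj) ⁻¹' {y}) := by
    intro y
    obtain ⟨L, _, sL, n, rfl⟩ := mk_surjective' y
    obtain ⟨φ, rfl⟩ : ∃ φ : CommRingCat.of k ⟶ CommRingCat.of L, Spec.map φ = sL :=
      ⟨Spec.preimage _, Spec.map_preimage _⟩
    letI : Algebra k L := φ.hom.toAlgebra
    haveI : ConnectedSpace (Points (X.obj ⨯ (yon (Spec (CommRingCat.of k))).obj
        (Over.mk (Spec.map φ)))) := hX L
    have sq := isPullback_prod_map_snd n X.obj
    obtain ⟨s⟩ : Nonempty ↥(Spec (CommRingCat.of L)) := inferInstance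
    have e : Points.map (prod.snd : X.obj ⨯ Y.obj ⟶ Y.obj) ⁻¹' {Points.mk (ofHom n)} =
        Set.range (Points.map (prod.map (𝟙 X.obj) n)) := by
      ext z
      constructor
      · intro hz
        obtain ⟨z', hz', -⟩ := exists_of_isPullback sq z
          (Points.ofScheme (Over.mk (Spec.map φ)) s)
          (by rw [Groth.Agent.Lib.AlgSpDecentZar_helper6.map_eq_mk_ofHom]; exact hz)
        exact ⟨z', hz'⟩
      · rintro ⟨z', rfl⟩
        show Points.map prod.snd (Points.map (prod.map (𝟙 X.obj) n) z') = _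
        rw [← Points.map_comp, prod.map_snd, Points.map_comp,
          Groth.Agent.Lib.AlgSpDecentZar_helper6.map_eq_mk_ofHom]
    rw [e]
    exact isConnected_range (Points.continuous_map _)
  obtain ⟨U, a, hae, has⟩ := X.property.atlas
  obtain ⟨V, b, hbe, hbs⟩ := Y.property.atlas
  have hc_s : RepWith @Surjective (bcChart a V ≫ prod.map (𝟙 X.obj) b) :=
    repWith_comp @Surjective (repWith_bcChart @Surjective has V)
      (repWith_fst_of_isPullback @Surjective (isPullback_prod_map_snd b X.obj) hbs)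
  have hcomm : ∀ w : ↥(U ⨯ V).left, Points.map (prod.snd : X.obj ⨯ Y.obj ⟶ Y.obj)
      (Points.ofPt (bcChart a V ≫ prod.map (𝟙 X.obj) b) w) =
      Points.ofPt b ((prod.snd : U ⨯ V ⟶ V).left w) := by
    intro w
    rw [Points.map_ofPt, Category.assoc, prod.map_snd, ← Category.assoc, bcChart_snd, ofPt_comp]
  haveI : UniversallyOpen U.hom := inferInstance
  haveI : UniversallyOpen (prod.snd : U ⨯ V ⟶ V).left :=
    MorphismProperty.of_isPullback (P := @UniversallyOpen) (isPullback_left_prod U V) inferInstance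
  have ho : IsOpenMap (Points.map (prod.snd : X.obj ⨯ Y.obj ⟶ Y.obj)) :=
    isOpenMap_of_square (Points.ofPt (bcChart a V ≫ prod.map (𝟙 X.obj) b))
      (fun w => (prod.snd : U ⨯ V ⟶ V).left w) (Points.ofPt b) _ hcomm
      (Points.continuous_ofPt _) (ofPt_surjective _ hc_s) (isOpenMap_ofPt_of_etale b hbe)
      (prod.snd : U ⨯ V ⟶ V).left.isOpenMap
  have hs : Function.Surjective (Points.map (prod.snd : X.obj ⨯ Y.obj ⟶ Y.obj)) := fun y =>
    let ⟨z, hz⟩ := (hfib y).nonempty
    ⟨z, hz⟩
  have hco : Topology.IsCoinducing (Points.map (prod.snd : X.obj ⨯ Y.obj ⟶ Y.obj)) :=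
    (ho.isQuotientMap (Points.continuous_map _) hs).isCoinducing
  exact hco.connectedComponentsMap_bijective hfib

end Groth.Agent.Lib.AlgSpBCTop2H7
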