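import Groth.Agent.Lib.AlgSpPoints_helper7

/-!
# Base change of sheaves along field extensions: points (helper4)
-/

set_option autoImplicit false
universe u
open CategoryTheory CategoryTheory.Limits AlgebraicGeometry Opposite

namespace Groth.Agent.Lib.AlgSpFieldBC_helper4

open AlgSp

set_option backward.isDefEq.respectTransparency false in
/-- The obvious pullback square `X ⨯ A ⟶ X ⨯ B` over `f : A ⟶ B`. -/
theorem isPullback_prod_map_snd {C : Type*} [Category C] {A B : C} (f : A ⟶ B) (X : C)
    [HasBinaryProduct X A] [HasBinaryProduct X B] :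
    IsPullback (prod.map (𝟙 X) f) prod.snd prod.snd f := by
  refine IsPullback.mk' (by simp) ?_ ?_
  · intro T φ φ' h1 h2
    ext
    · have := congrArg (· ≫ prod.fst) h1
      simpa using this
    · exact h2
  · intro T a b hab
    refine ⟨prod.lift (a ≫ prod.fst) b, ?_, ?_⟩
    · ext
      · simp
      · simp [hab]
    · simp

variable {S : Scheme.{u}}

/-- The points of the spectrum of a field form a subsingleton. -/
theorem subsingleton_points_field {K : Type u} [Field K] (sK : Spec (CommRingCat.of K) ⟶ S) :
    Subsingleton (Points ((yon S).obj (Over.mk sK))) := by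
  have : Subsingleton ↥(Over.mk sK).left :=
    inferInstanceAs (Subsingleton (PrimeSpectrum K))
  exact (Points.schemeEquiv (Over.mk sK)).symm.injective.subsingleton

/-- Base change along a morphism of spectra of fields is surjective on points. -/
theorem surjective_map_prod_map_of_field (X : Sp S) {K K' : Type u} [Field K] [Field K']
    {sK : Spec (CommRingCat.of K) ⟶ S} {sK' : Spec (CommRingCat.of K') ⟶ S}
    (j : Over.mk sK' ⟶ Over.mk sK) :
    Function.Surjective (Points.map (prod.map (𝟙 X) ((yon S).map j))) := by
  intro z
  have sq := isPullback_prod_map_snd ((yon S).map j) X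
  obtain ⟨s⟩ : Nonempty ↥(Spec (CommRingCat.of K')) := inferInstance
  have := subsingleton_points_field sK
  obtain ⟨w, hw, -⟩ := Groth.Agent.Lib.AlgSpPoints_helper7.exists_of_isPullback sq z
    (Points.ofScheme (Over.mk sK') s) (Subsingleton.elim _ _)
  exact ⟨w, hw⟩

end Groth.Agent.Lib.AlgSpFieldBC_helper4
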