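import Groth.Agent.Lib.AlgSpProdChart_helper7
import Groth.Agent.Lib.GeomRed_helper7
import Groth.Agent.Lib.BCPoint_helper4

/-!
# Geometric reducedness at a point and base change `X ↦ X_K` for algebraic spaces (helper7)
-/

set_option autoImplicit false
set_option linter.style.haveILetI false
universe u
open CategoryTheory CategoryTheory.Limits AlgebraicGeometry Opposite

namespace Groth.Agent.Lib.GeomRedBC2H7

open AlgSp Groth.Agent.Lib.AlgSpPoints_helper7 Groth.Agent.Lib.AlgSpProdChartH7
  Groth.Agent.Lib.BCPointH4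

section pts

variable {S : Scheme.{u}}

/-- Points of a pullback square one of whose legs is a chart. -/
theorem exists_pt_of_isPullback {F G : Sp S} {U V : Over S} {p : (yon S).obj U ⟶ F} {q : G ⟶ F}
    {b : V ⟶ U} {g' : (yon S).obj V ⟶ G} (sq : IsPullback ((yon S).map b) g' p q) (u : ↥U.left)
    (y : Points G) (h : Points.ofPt p u = Points.map q y) :
    ∃ v : ↥V.left, b.left v = u ∧ Points.ofPt g' v = y := by
  rw [Points.ofPt_eq_map_ofScheme] at h
  obtain ⟨z, hz1, hz2⟩ := exists_of_isPullback sq _ _ h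
  obtain ⟨v, rfl⟩ := (Points.schemeEquiv V).surjective z
  refine ⟨v, ?_, ?_⟩
  · apply (Points.schemeEquiv U).injective
    change Points.ofScheme U _ = Points.ofScheme U _
    rw [← hz1]
    change _ = Points.map _ (Points.ofScheme V v)
    rw [← Points.ofPt_eq_map_ofScheme, ofPt_yon_map]
  · rw [← hz2]
    change _ = Points.map _ (Points.ofScheme V v)
    rw [← Points.ofPt_eq_map_ofScheme]

end pts

variable {k : Type u} [Field k]

theorem surjective_specMap (K : Type u) [Field K] [Algebra k K] :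
    Surjective (Spec.map (CommRingCat.ofHom (algebraMap k K))) := by
  refine ⟨fun y => ?_⟩
  obtain ⟨z⟩ : Nonempty ↥(Spec (CommRingCat.of K)) := inferInstanceAs (Nonempty (PrimeSpectrum K))
  exact ⟨z, Subsingleton.elim _ _⟩

/-- Geometric reducedness at a point is insensitive to base field extension (schemes). -/
theorem geomRedAt_bc_iff {X : Scheme.{u}} (f : X ⟶ Spec (CommRingCat.of k)) (K : Type u) [Field K]
    [Algebra k K] (x' : ↥(FBase.bc f K)) :
    FBase.IsGeomReducedAt f ((FBase.bcπ f K) x') ↔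
      FBase.IsGeomReducedAt (FBase.bcStr f K) x' := by
  constructor
  · intro h M _ _ x'' hx''
    exact ascend_pt f descends_reduced K x' (fun L _ _ y hy => h L y hy) M x'' hx''
  · intro h L _ _ y hy
    exact descend_pt f descends_reduced K x' (fun M _ _ x'' hx'' => h M x'' hx'') L y hy

/-- `Spec K` as a scheme over `Spec k`. -/
noncomputable abbrev SK (k K : Type u) [Field k] [Field K] [Algebra k K] : Over (Spec (CommRingCat.of k)) :=
  Over.mk (Spec.map (CommRingCat.ofHom (algebraMap k K)))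

/-- The chart `U × Spec K` of `X_K`: geometric reducedness over `K` at `w` is geometric
reducedness over `k` at the image of `w` in `U`. -/
theorem geomRedAt_chart_iff (U : Over (Spec (CommRingCat.of k))) (K : Type u) [Field K]
    [Algebra k K] (w : ↥(U ⨯ SK k K).left) :
    FBase.IsGeomReducedAt (k := K) (prod.snd : U ⨯ SK k K ⟶ SK k K).left w ↔
      FBase.IsGeomReducedAt U.hom ((prod.fst : U ⨯ SK k K ⟶ U).left w) := by
  have h1 : (Over.prodLeftIsoPullback U (SK k K)).hom ≫ FBase.bcStr U.hom K =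
      (prod.snd : U ⨯ SK k K ⟶ SK k K).left := Over.prodLeftIsoPullback_hom_snd U (SK k K)
  have h2 : (Over.prodLeftIsoPullback U (SK k K)).hom ≫ FBase.bcπ U.hom K =
      (prod.fst : U ⨯ SK k K ⟶ U).left := Over.prodLeftIsoPullback_hom_fst U (SK k K)
  refine (Groth.Agent.Lib.GeomRedH7.isGeomReducedAt_iff_of_etale (k := K)
    (Over.prodLeftIsoPullback U (SK k K)).hom _ (FBase.bcStr U.hom K) h1 w).trans ?_
  refine (geomRedAt_bc_iff U.hom K _).symm.trans ?_
  have e : (FBase.bcπ U.hom K) ((Over.prodLeftIsoPullback U (SK k K)).hom w) =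
      (prod.fst : U ⨯ SK k K ⟶ U).left w := by
    rw [← h2]; rfl
  exact iff_of_eq (congrArg (FBase.IsGeomReducedAt U.hom) e)

variable (k)

theorem main10479 (X : AlgSp.Space (Spec (CommRingCat.of k))) (K : Type u) [Field K] [Algebra k K]
    (x : Points X.obj)
    (x' : Points (X.obj ⨯ (yon (Spec (CommRingCat.of k))).obj (SK k K)))
    (hx' : Points.map (prod.fst : (X.obj ⨯ (yon (Spec (CommRingCat.of k))).obj (SK k K)) ⟶ X.obj)
      x' = x) :
    (∃ (U : Over (Spec (CommRingCat.of k))) (a : (yon (Spec (CommRingCat.of k))).obj U ⟶ X.obj)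
      (u : ↥U.left), RepWith @Etale a ∧ Points.ofPt a u = x ∧ FBase.IsGeomReducedAt U.hom u) ↔
      ∃ (U' : Over (Spec (CommRingCat.of k)))
        (a' : (yon (Spec (CommRingCat.of k))).obj U' ⟶
          (X.obj ⨯ (yon (Spec (CommRingCat.of k))).obj (SK k K)))
        (q : U' ⟶ SK k K) (u' : ↥U'.left),
        RepWith @Etale a' ∧ a' ≫ prod.snd = (yon (Spec (CommRingCat.of k))).map q ∧
          Points.ofPt a' u' = x' ∧ FBase.IsGeomReducedAt q.left u' := by
  constructor
  · rintro ⟨U, a, u, hae, hu, hg⟩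
    obtain ⟨w, hw1, hw2⟩ := exists_pt_of_isPullback (isPullback_bcChart a (SK k K)) u x'
      (hu.trans hx'.symm)
    refine ⟨U ⨯ SK k K, bcChart a (SK k K), prod.snd, w, repWith_bcChart @Etale hae _,
      bcChart_snd a _, hw2, ?_⟩
    refine (geomRedAt_chart_iff U K w).2 ?_
    rw [hw1]
    exact hg
  · rintro ⟨U', a', q, u', ha'e, hq, hu', hg'⟩
    obtain ⟨U, a, hae, has⟩ := X.property.atlas
    obtain ⟨u, hu⟩ := ofPt_surjective a has x
    obtain ⟨w, hw1, hw2⟩ := exists_pt_of_isPullback (isPullback_bcChart a (SK k K)) u x'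
      (hu.trans hx'.symm)
    have hbe : RepWith @Etale (bcChart a (SK k K)) := repWith_bcChart @Etale hae _
    obtain ⟨V, c, e, sq1⟩ : ∃ (V : Over (Spec (CommRingCat.of k))) (c : V ⟶ U')
        (e : V ⟶ U ⨯ SK k K), IsPullback ((yon (Spec (CommRingCat.of k))).map c)
          ((yon (Spec (CommRingCat.of k))).map e) a' (bcChart a (SK k K)) :=
      ⟨ha'e.rep.pullback _, ha'e.rep.fst' _, ha'e.rep.snd _, ha'e.rep.isPullback' _⟩
    haveI he : Etale e.left := ha'e.property _ _ _ sq1
    haveI hc : Etale c.left := hbe.property _ _ _ sq1.flip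
    obtain ⟨v, hv1, hv2⟩ := exists_ofPt_eq_of_isPullback sq1 u' w (hu'.trans hw2.symm)
    have hcomm : c ≫ q = e ≫ prod.snd := by
      apply (yon (Spec (CommRingCat.of k))).map_injective
      rw [Functor.map_comp, Functor.map_comp, ← hq, ← bcChart_snd a (SK k K), ← Category.assoc,
        ← Category.assoc, sq1.w]
    have hcomm' : e.left ≫ (prod.snd : U ⨯ SK k K ⟶ SK k K).left = c.left ≫ q.left := by
      rw [← Over.comp_left, ← Over.comp_left, hcomm]
    have h1 : FBase.IsGeomReducedAt (k := K) (c.left ≫ q.left) v :=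
      (Groth.Agent.Lib.GeomRedH7.isGeomReducedAt_iff_of_etale (k := K) c.left _ q.left rfl v).2
        (by rw [hv1]; exact hg')
    have h2 := (Groth.Agent.Lib.GeomRedH7.isGeomReducedAt_iff_of_etale (k := K) e.left _
      (prod.snd : U ⨯ SK k K ⟶ SK k K).left hcomm' v).1 h1
    rw [hv2] at h2
    have h3 := (geomRedAt_chart_iff U K w).1 h2
    rw [hw1] at h3
    exact ⟨U, a, u, hae, hu, h3⟩

theorem main10502 (X : AlgSp.Space (Spec (CommRingCat.of k))) (K : Type u) [Field K]
    [Algebra k K] :
    (∀ x : Points X.obj, (∃ (U : Over (Spec (CommRingCat.of k)))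
      (a : (yon (Spec (CommRingCat.of k))).obj U ⟶ X.obj) (u : ↥U.left),
      RepWith @Etale a ∧ Points.ofPt a u = x ∧ FBase.IsGeomReducedAt U.hom u)) ↔
      ∀ x' : Points (X.obj ⨯ (yon (Spec (CommRingCat.of k))).obj (SK k K)),
        (∃ (U' : Over (Spec (CommRingCat.of k)))
        (a' : (yon (Spec (CommRingCat.of k))).obj U' ⟶
          (X.obj ⨯ (yon (Spec (CommRingCat.of k))).obj (SK k K)))
        (q : U' ⟶ SK k K) (u' : ↥U'.left),
        RepWith @Etale a' ∧ a' ≫ prod.snd = (yon (Spec (CommRingCat.of k))).map q ∧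
          Points.ofPt a' u' = x' ∧ FBase.IsGeomReducedAt q.left u') := by
  constructor
  · intro H x'
    exact (main10479 k X K _ x' rfl).1 (H _)
  · intro H x
    obtain ⟨U, a, hae, has⟩ := X.property.atlas
    obtain ⟨u, hu⟩ := ofPt_surjective a has x
    haveI : Surjective (SK k K).hom := surjective_specMap K
    have hs : Surjective (prod.fst : U ⨯ SK k K ⟶ U).left := by
      rw [← Over.prodLeftIsoPullback_hom_fst U (SK k K)]
      infer_instance
    obtain ⟨w, hw⟩ := hs.surj u
    have hx' : Points.map (prod.fst : (X.obj ⨯ (yon (Spec (CommRingCat.of k))).obj (SK k K)) ⟶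
        X.obj) (Points.ofPt (bcChart a (SK k K)) w) = x := by
      rw [Points.map_ofPt, bcChart_fst, ofPt_comp, hw, hu]
    exact (main10479 k X K x _ hx').2 (H _)

end Groth.Agent.Lib.GeomRedBC2H7
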