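import Groth.Agent.Lib.AlgSpProdChart_helper7
import Groth.Agent.Lib.GeomRedBC2_helper7
import Groth.Agent.Lib.AlgSpFieldBC_helper4
import Groth.Agent.Lib.GeomIrrSch_helper4

/-!
# Topology of `|X ⨯ h_Y| ⟶ |X|` for an algebraic space `X` (helper7)

If `Y ⟶ S` is universally open and geometrically connected, then `|X ⨯ h_Y| ⟶ |X|` is open,
surjective with connected fibres.  Applications to geometric connectedness over fields.
-/

set_option autoImplicit false
set_option linter.style.haveILetI false
universe u
open CategoryTheory CategoryTheory.Limits AlgebraicGeometry Opposite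

namespace Groth.Agent.Lib.AlgSpBCTopH7

open AlgSp Groth.Agent.Lib.AlgSpPoints_helper7 Groth.Agent.Lib.AlgSpProdChartH7
  Groth.Agent.Lib.GeomRedBC2H7 Groth.Agent.Lib.AlgSpFieldBC_helper4 Groth.Agent.Lib.GeomIrrSchH4

section top

variable {A' B' A B : Type*} [TopologicalSpace A'] [TopologicalSpace B'] [TopologicalSpace A]
  [TopologicalSpace B]

/-- A commutative square of spaces with `q'` surjective, `q` open surjective, `m` open with
connected fibres, and fibrewise surjective: then `φ` is open, surjective, with connected fibres. -/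
theorem top_lemma (q' : A' → B') (m : A' → A) (q : A → B) (φ : B' → B)
    (hcomm : ∀ a', φ (q' a') = q (m a'))
    (hq'c : Continuous q') (hq's : Function.Surjective q')
    (hqo : IsOpenMap q) (hqs : Function.Surjective q)
    (hmo : IsOpenMap m) (hmf : ∀ a, IsConnected (m ⁻¹' {a}))
    (hlift : ∀ (a : A) (y' : B'), q a = φ y' → ∃ a', m a' = a ∧ q' a' = y') :
    IsOpenMap φ ∧ Function.Surjective φ ∧ ∀ y, IsConnected (φ ⁻¹' {y}) := by
  refine ⟨?_, ?_, ?_⟩
  · intro W hW
    have e : φ '' W = q '' (m '' (q' ⁻¹' W)) := by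
      ext y
      constructor
      · rintro ⟨y', hy', rfl⟩
        obtain ⟨a', rfl⟩ := hq's y'
        exact ⟨m a', ⟨a', hy', rfl⟩, (hcomm a').symm⟩
      · rintro ⟨_, ⟨a', ha', rfl⟩, rfl⟩
        exact ⟨q' a', ha', hcomm a'⟩
    rw [e]
    exact hqo _ (hmo _ (hW.preimage hq'c))
  · intro y
    obtain ⟨a, rfl⟩ := hqs y
    obtain ⟨a', ha'⟩ := (hmf a).nonempty
    exact ⟨q' a', by rw [hcomm]; exact congrArg q ha'⟩
  · intro y
    obtain ⟨a, rfl⟩ := hqs y
    have e : φ ⁻¹' {q a} = q' '' (m ⁻¹' {a}) := by
      ext y'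
      constructor
      · intro hy'
        obtain ⟨a', h1, h2⟩ := hlift a y' (Eq.symm hy')
        exact ⟨a', h1, h2⟩
      · rintro ⟨a', ha', rfl⟩
        show φ (q' a') = q a
        rw [hcomm]; exact congrArg q ha'
    rw [e]
    exact (hmf a).image _ hq'c.continuousOn

theorem connectedSpace_of_top {φ : A → B} (ho : IsOpenMap φ) (hf : ∀ y, IsConnected (φ ⁻¹' {y}))
    [ConnectedSpace B] : ConnectedSpace A := by
  have := isConnected_preimage_of_isOpenMap ho hf (isConnected_univ (α := B))
  rw [Set.preimage_univ] at this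
  exact connectedSpace_iff_univ.2 this

end top

variable {S : Scheme.{u}}

theorem ofPt_bcChart_fst {X : Sp S} {U : Over S} (a : (yon S).obj U ⟶ X) (Y : Over S)
    (w : ↥(U ⨯ Y).left) :
    Points.map (prod.fst : X ⨯ (yon S).obj Y ⟶ X) (Points.ofPt (bcChart a Y) w) =
      Points.ofPt a ((prod.fst : U ⨯ Y ⟶ U).left w) := by
  rw [Points.map_ofPt, bcChart_fst, ofPt_comp]

theorem isPullback_left_prod (U Y : Over S) :
    IsPullback (prod.fst : U ⨯ Y ⟶ U).left (prod.snd : U ⨯ Y ⟶ Y).left U.hom Y.hom :=
  Over.isPullback_of_binaryFan_isLimit (BinaryFan.mk prod.fst prod.snd) (prodIsProd U Y)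

theorem isPullback_left_prod_map (U : Over S) {Y' Y : Over S} (j : Y' ⟶ Y) :
    IsPullback (prod.map (𝟙 U) j).left (prod.snd : U ⨯ Y' ⟶ Y').left
      (prod.snd : U ⨯ Y ⟶ Y).left j.left :=
  (isPullback_prod_map_snd j U).map (Over.forget S)

/-- `|X ⨯ h_Y| ⟶ |X|` is open, surjective with connected fibres if `Y ⟶ S` is universally open
and geometrically connected. -/
theorem fst_top {X : Sp S} (hX : IsAlgSpace X) (Y : Over S) [UniversallyOpen Y.hom]
    [GeometricallyConnected Y.hom] :
    IsOpenMap (Points.map (prod.fst : X ⨯ (yon S).obj Y ⟶ X)) ∧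
      Function.Surjective (Points.map (prod.fst : X ⨯ (yon S).obj Y ⟶ X)) ∧
      ∀ x, IsConnected (Points.map (prod.fst : X ⨯ (yon S).obj Y ⟶ X) ⁻¹' {x}) := by
  obtain ⟨U, a, hae, has⟩ := hX.atlas
  have sq := isPullback_left_prod U Y
  haveI : UniversallyOpen (prod.fst : U ⨯ Y ⟶ U).left :=
    MorphismProperty.of_isPullback (P := @UniversallyOpen) sq.flip inferInstance
  haveI : GeometricallyConnected (prod.fst : U ⨯ Y ⟶ U).left :=
    MorphismProperty.of_isPullback (P := @GeometricallyConnected) sq.flip inferInstance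
  exact top_lemma (Points.ofPt (bcChart a Y)) (fun w => (prod.fst : U ⨯ Y ⟶ U).left w)
    (Points.ofPt a) _ (ofPt_bcChart_fst a Y) (Points.continuous_ofPt _)
    (ofPt_surjective _ (repWith_bcChart @Surjective has Y))
    (isOpenMap_ofPt_of_etale a hae) (ofPt_surjective a has)
    (prod.fst : U ⨯ Y ⟶ U).left.isOpenMap
    (fun u => Scheme.Hom.isConnected_preimage_singleton _ u)
    (fun u y' h => exists_pt_of_isPullback (isPullback_bcChart a Y) u y' h)

theorem isPullback_bcChart_map {X : Sp S} {U : Over S} (a : (yon S).obj U ⟶ X) {Y' Y : Over S}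
    (j : Y' ⟶ Y) :
    IsPullback ((yon S).map (prod.map (𝟙 U) j)) (bcChart a Y') (bcChart a Y)
      (prod.map (𝟙 X) ((yon S).map j)) := by
  refine IsPullback.of_right ?_ ?_ (isPullback_bcChart a Y)
  · have h1 : (yon S).map (prod.map (𝟙 U) j) ≫ (yon S).map (prod.fst : U ⨯ Y ⟶ U) =
        (yon S).map (prod.fst : U ⨯ Y' ⟶ U) := by
      rw [← Functor.map_comp, prod.map_fst, Category.comp_id]
    have h2 : prod.map (𝟙 X) ((yon S).map j) ≫ (prod.fst : X ⨯ (yon S).obj Y ⟶ X) =
        prod.fst := by
      rw [prod.map_fst, Category.comp_id]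
    rw [h1, h2]
    exact isPullback_bcChart a Y'
  · apply prod.hom_ext
    · rw [Category.assoc, Category.assoc, bcChart_fst, prod.map_fst, Category.comp_id,
        bcChart_fst, ← Category.assoc, ← Functor.map_comp, prod.map_fst, Category.comp_id]
    · rw [Category.assoc, Category.assoc, bcChart_snd, prod.map_snd, ← Category.assoc,
        bcChart_snd, ← Functor.map_comp, ← Functor.map_comp, prod.map_snd]

theorem ofPt_bcChart_map {X : Sp S} {U : Over S} (a : (yon S).obj U ⟶ X) {Y' Y : Over S}
    (j : Y' ⟶ Y) (w : ↥(U ⨯ Y').left) :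
    Points.map (prod.map (𝟙 X) ((yon S).map j)) (Points.ofPt (bcChart a Y') w) =
      Points.ofPt (bcChart a Y) ((prod.map (𝟙 U) j).left w) := by
  rw [Points.map_ofPt, ← (isPullback_bcChart_map a j).w, ofPt_comp]

/-- `|X ⨯ h_Y'| ⟶ |X ⨯ h_Y|` is open, surjective with connected fibres if `Y' ⟶ Y` is universally
open and geometrically connected. -/
theorem map_top {X : Sp S} (hX : IsAlgSpace X) {Y' Y : Over S} (j : Y' ⟶ Y)
    [UniversallyOpen j.left] [GeometricallyConnected j.left] :
    IsOpenMap (Points.map (prod.map (𝟙 X) ((yon S).map j))) ∧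
      Function.Surjective (Points.map (prod.map (𝟙 X) ((yon S).map j))) ∧
      ∀ x, IsConnected (Points.map (prod.map (𝟙 X) ((yon S).map j)) ⁻¹' {x}) := by
  obtain ⟨U, a, hae, has⟩ := hX.atlas
  have sq := isPullback_left_prod_map U j
  haveI : UniversallyOpen (prod.map (𝟙 U) j).left :=
    MorphismProperty.of_isPullback (P := @UniversallyOpen) sq.flip inferInstance
  haveI : GeometricallyConnected (prod.map (𝟙 U) j).left :=
    MorphismProperty.of_isPullback (P := @GeometricallyConnected) sq.flip inferInstance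
  exact top_lemma (Points.ofPt (bcChart a Y')) (fun w => (prod.map (𝟙 U) j).left w)
    (Points.ofPt (bcChart a Y)) _ (ofPt_bcChart_map a j) (Points.continuous_ofPt _)
    (ofPt_surjective _ (repWith_bcChart @Surjective has Y'))
    (isOpenMap_ofPt_of_etale _ (repWith_bcChart @Etale hae Y))
    (ofPt_surjective _ (repWith_bcChart @Surjective has Y))
    (prod.map (𝟙 U) j).left.isOpenMap
    (fun u => Scheme.Hom.isConnected_preimage_singleton _ u)
    (fun u y' h => exists_pt_of_isPullback (isPullback_bcChart_map a j) u y' h)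

section field

variable (k : Type u) [Field k]

theorem exists_compositum (K k' : Type u) [Field K] [Field k'] [Algebra k K] [Algebra k k'] :
    ∃ (L : Type u) (_ : Field L) (_ : Algebra k L) (_ : Algebra k' L) (_ : IsScalarTower k k' L)
      (i : K →+* L), i.comp (algebraMap k K) = algebraMap k L := by
  have : Nontrivial (TensorProduct k K k') :=
    Algebra.TensorProduct.nontrivial_of_algebraMap_injective_of_isDomain k K k'
      (algebraMap k K).injective (algebraMap k k').injective
  obtain ⟨m, hm⟩ := Ideal.exists_maximal (TensorProduct k K k')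
  let i₂ : k' →+* (TensorProduct k K k' ⧸ m) := (Ideal.Quotient.mk m).comp
      (Algebra.TensorProduct.includeRight (R := k) (A := K) (B := k')).toRingHom
  refine ⟨TensorProduct k K k' ⧸ m, Ideal.Quotient.field m, inferInstance, i₂.toAlgebra, ?_,
    (Ideal.Quotient.mk m).comp Algebra.TensorProduct.includeLeftRingHom, ?_⟩
  · letI : Algebra k' (TensorProduct k K k' ⧸ m) := i₂.toAlgebra
    refine IsScalarTower.of_algebraMap_eq fun x => ?_
    change Ideal.Quotient.mk m (algebraMap k (TensorProduct k K k') x) =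
      Ideal.Quotient.mk m ((1 : K) ⊗ₜ[k] algebraMap k k' x)
    rw [Algebra.TensorProduct.algebraMap_apply, Algebra.TensorProduct.tmul_one_eq_one_tmul]
  · ext x
    rfl

theorem fst_top_field [IsSepClosed k] (X : AlgSp.Space (Spec (CommRingCat.of k))) (K : Type u)
    [Field K] [Algebra k K] :
    IsOpenMap (Points.map
        (prod.fst : X.obj ⨯ (yon (Spec (CommRingCat.of k))).obj (SK k K) ⟶ X.obj)) ∧
      Function.Surjective (Points.map
        (prod.fst : X.obj ⨯ (yon (Spec (CommRingCat.of k))).obj (SK k K) ⟶ X.obj)) ∧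
      ∀ x, IsConnected (Points.map
        (prod.fst : X.obj ⨯ (yon (Spec (CommRingCat.of k))).obj (SK k K) ⟶ X.obj) ⁻¹' {x}) := by
  haveI : UniversallyOpen (SK k K).hom := universallyOpen_specMap (k := k) K
  haveI : GeometricallyConnected (SK k K).hom := geomConn_specMap (k := k) K
  exact fst_top X.property (SK k K)

theorem main10501 [IsSepClosed k] (X : AlgSp.Space (Spec (CommRingCat.of k))) :
    (∀ (K : Type u) [Field K] [Algebra k K], ConnectedSpace (Points
      (X.obj ⨯ (yon (Spec (CommRingCat.of k))).obj (SK k K)))) ↔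
      ConnectedSpace (Points X.obj) := by
  constructor
  · intro H
    haveI := H k
    obtain ⟨-, hs, -⟩ := fst_top_field k X k
    exact hs.connectedSpace (Points.continuous_map _)
  · intro H K _ _
    obtain ⟨ho, -, hf⟩ := fst_top_field k X K
    exact connectedSpace_of_top ho hf

theorem main10467 [IsSepClosed k] (X : AlgSp.Space (Spec (CommRingCat.of k))) (K : Type u)
    [Field K] [Algebra k K] :
    Function.Bijective (Continuous.connectedComponentsMap (Points.continuous_map
      (prod.fst : X.obj ⨯ (yon (Spec (CommRingCat.of k))).obj (SK k K) ⟶ X.obj))) := by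
  obtain ⟨ho, hs, hf⟩ := fst_top_field k X K
  have hco : Topology.IsCoinducing (Points.map
      (prod.fst : X.obj ⨯ (yon (Spec (CommRingCat.of k))).obj (SK k K) ⟶ X.obj)) :=
    (ho.isQuotientMap (Points.continuous_map _) hs).isCoinducing
  exact hco.connectedComponentsMap_bijective hf

theorem main10468 (X : AlgSp.Space (Spec (CommRingCat.of k))) (kbar : Type u) [Field kbar]
    [Algebra k kbar] [IsSepClosure k kbar] :
    (∀ (K : Type u) [Field K] [Algebra k K], ConnectedSpace (Points
      (X.obj ⨯ (yon (Spec (CommRingCat.of k))).obj (SK k K)))) ↔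
      ConnectedSpace (Points (X.obj ⨯ (yon (Spec (CommRingCat.of k))).obj (SK k kbar))) := by
  constructor
  · intro H
    exact H kbar
  · intro H K _ _
    haveI : IsSepClosed kbar := IsSepClosure.sep_closed k
    obtain ⟨L, _, _, _, _, i, hi⟩ := exists_compositum k K kbar
    have hw1 : Spec.map (CommRingCat.ofHom (algebraMap kbar L)) ≫
        Spec.map (CommRingCat.ofHom (algebraMap k kbar)) =
        Spec.map (CommRingCat.ofHom (algebraMap k L)) := by
      rw [← Spec.map_comp, ← CommRingCat.ofHom_comp, ← IsScalarTower.algebraMap_eq]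
    have hw2 : Spec.map (CommRingCat.ofHom i) ≫ Spec.map (CommRingCat.ofHom (algebraMap k K)) =
        Spec.map (CommRingCat.ofHom (algebraMap k L)) := by
      rw [← Spec.map_comp, ← CommRingCat.ofHom_comp, hi]
    obtain ⟨j1, hj1⟩ : ∃ j1 : SK k L ⟶ SK k kbar,
        j1.left = Spec.map (CommRingCat.ofHom (algebraMap kbar L)) :=
      ⟨Over.homMk (Spec.map (CommRingCat.ofHom (algebraMap kbar L))) hw1, rfl⟩
    obtain ⟨j2, -⟩ : ∃ j2 : SK k L ⟶ SK k K, j2.left = Spec.map (CommRingCat.ofHom i) :=
      ⟨Over.homMk (Spec.map (CommRingCat.ofHom i)) hw2, rfl⟩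
    haveI : UniversallyOpen j1.left := by rw [hj1]; exact universallyOpen_specMap (k := kbar) L
    haveI : GeometricallyConnected j1.left := by rw [hj1]; exact geomConn_specMap (k := kbar) L
    obtain ⟨ho, -, hf⟩ := map_top X.property j1
    haveI : ConnectedSpace (Points (X.obj ⨯ (yon (Spec (CommRingCat.of k))).obj (SK k L))) :=
      connectedSpace_of_top ho hf
    exact (surjective_map_prod_map_of_field X.obj j2).connectedSpace (Points.continuous_map _)

end field

end Groth.Agent.Lib.AlgSpBCTopH7
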