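import Groth.Agent.Lib.AlgSpCartierSk_helper7
import Groth.Agent.Lib.SerreNormal_helper5

/-!
# Effective Cartier divisors on normal algebraic spaces are (S_1) (helper7)
APPEND-ONLY once landed.
-/

set_option backward.isDefEq.respectTransparency false
set_option backward.isDefEq.respectTransparency.types false
set_option linter.style.haveILetI false
set_option linter.unusedSectionVars false
set_option linter.unusedVariables false
set_option autoImplicit false
set_option maxHeartbeats 1600000
universe u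
open CategoryTheory CategoryTheory.Limits AlgebraicGeometry Opposite

namespace Groth.Agent.Lib.AlgSpCartierSkH7

open AlgSp IsLocalRing

variable {S : Scheme.{u}}

/-- S10799 -/
theorem main10799 (X D : AlgSp.Space S)
    (hX : AlgSp.EtaleLocally (fun U => IsLocallyNoetherian U ∧ Pi1.IsNormalScheme U) X.obj)
    (i : D ⟶ X) (hD : AlgSp.IsEffCartierSub i.hom) :
    AlgSp.EtaleLocally (fun V => IsLocallyNoetherian V ∧ ∀ v : ↥V,
        min ((1 : ℕ) : WithBot ℕ∞) (ringKrullDim ↥(V.presheaf.stalk v)) ≤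
          ((LocCoh.depth ↥(V.presheaf.stalk v) ↥(V.presheaf.stalk v) : ℕ∞) : WithBot ℕ∞))
      D.obj := by
  have hX2 : AlgSp.EtaleLocally (fun U => IsLocallyNoetherian U ∧ ∀ x : ↥U,
        min ((2 : ℕ) : WithBot ℕ∞) (ringKrullDim ↥(U.presheaf.stalk x)) ≤
          ((LocCoh.depth ↥(U.presheaf.stalk x) ↥(U.presheaf.stalk x) : ℕ∞) : WithBot ℕ∞))
      X.obj := by
    obtain ⟨U₀, p₀, hp₀e, hp₀s, hU₀N, hU₀n⟩ := hX
    refine ⟨U₀, p₀, hp₀e, hp₀s, hU₀N, fun x => ?_⟩
    obtain ⟨hd, hic⟩ := hU₀n x
    haveI := hd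
    haveI := hic
    haveI : IsLocallyNoetherian U₀.left := hU₀N
    haveI : IsNoetherianRing ↥(U₀.left.presheaf.stalk x) := inferInstance
    have h := Groth.Agent.SerreLib.min_two_dim_le_depth ↥(U₀.left.presheaf.stalk x)
    exact_mod_cast h
  exact main10798 X D 2 hX2 i hD

end Groth.Agent.Lib.AlgSpCartierSkH7
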