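import Groth.Agent.Lib.CartierSk_helper5
import Groth.Agent.Lib.FlatCM_helper9
import Groth.Agent.Lib.EtStalk_helper8
import Groth.Agent.Lib.AlgSpNoethDesc_helper7
import Groth.Agent.Lib.AlgSpQC_helper7
import Groth.Prelude.Def_AlgSpSub

/-!
# Serre's condition (S_k) on effective Cartier divisors of algebraic spaces (helper7)
APPEND-ONLY once landed.
-/

set_option backward.isDefEq.respectTransparency false
set_option backward.isDefEq.respectTransparency.types false
set_option linter.style.haveILetI false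
set_option linter.unusedSectionVars false
set_option linter.unusedVariables false
set_option autoImplicit false
set_option maxHeartbeats 1600000
universe u
open CategoryTheory CategoryTheory.Limits AlgebraicGeometry Opposite

namespace Groth.Agent.Lib.AlgSpCartierSkH7

open AlgSp Groth.Agent.Lib.AlgSpPoints_helper7 Groth.Agent.Lib.AlgSpPullback_helper7
  Groth.Agent.Lib.AlgSpQC_helper7 IsLocalRing

/-- depth is invariant under a flat local homomorphism with `m_A B = m_B` -/
theorem depth_eq_of_flat_of_map_maximalIdeal {A B : Type u} [CommRing A] [CommRing B]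
    [IsLocalRing A] [IsLocalRing B] [IsNoetherianRing A] [IsNoetherianRing B] [Algebra A B]
    [IsLocalHom (algebraMap A B)] [Module.Flat A B]
    (h : (maximalIdeal A).map (algebraMap A B) = maximalIdeal B) :
    LocCoh.depth B B = LocCoh.depth A A := by
  rw [Groth.Agent.FlatCM.depth_eq_add A B]
  have hmax : (EGA4.mB A B).IsMaximal := by
    show ((maximalIdeal A).map (algebraMap A B)).IsMaximal
    rw [h]
    infer_instance
  have hfield : IsField (EGA4.FibRing A B) :=
    (Ideal.Quotient.maximal_ideal_iff_isField_quotient _).1 hmax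
  have hdim : ringKrullDim (EGA4.FibRing A B) = 0 := ringKrullDim_eq_zero_of_isField hfield
  have h1 := Groth.Agent.FlatCM.depth_le_dim (EGA4.FibRing A B)
  rw [hdim] at h1
  have h2 : LocCoh.depth (EGA4.FibRing A B) (EGA4.FibRing A B) = 0 := by
    have h3 : LocCoh.depth (EGA4.FibRing A B) (EGA4.FibRing A B) ≤ 0 := by exact_mod_cast h1
    exact le_antisymm h3 zero_le
  rw [h2, add_zero]

/-- Serre's condition at a point is invariant under étale morphisms. -/
theorem sk_at_iff_of_etale {X Y : Scheme.{u}} (f : X ⟶ Y) [Etale f] [IsLocallyNoetherian Y]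
    (k : ℕ) (x : X) :
    (min ((k : ℕ) : WithBot ℕ∞) (ringKrullDim ↥(X.presheaf.stalk x)) ≤
        ((LocCoh.depth ↥(X.presheaf.stalk x) ↥(X.presheaf.stalk x) : ℕ∞) : WithBot ℕ∞)) ↔
      (min ((k : ℕ) : WithBot ℕ∞) (ringKrullDim ↥(Y.presheaf.stalk (f x))) ≤
        ((LocCoh.depth ↥(Y.presheaf.stalk (f x)) ↥(Y.presheaf.stalk (f x)) : ℕ∞) :
          WithBot ℕ∞)) := by
  haveI := Groth.Agent.EtStalk.isLocallyNoetherian_of_etale f
  obtain ⟨h1, h2, h3⟩ := Groth.Agent.EtStalk.stalkMap_props f x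
  letI := (f.stalkMap x).hom.toAlgebra
  haveI := h1
  haveI := h2
  rw [Groth.Agent.EtStalk.ringKrullDim_stalk_eq f x, depth_eq_of_flat_of_map_maximalIdeal h3]

variable {S : Scheme.{u}}

/-- S10798 -/
theorem main10798 (X D : AlgSp.Space S) (k : ℕ)
    (hX : AlgSp.EtaleLocally (fun U => IsLocallyNoetherian U ∧ ∀ x : ↥U,
        min ((k : ℕ) : WithBot ℕ∞) (ringKrullDim ↥(U.presheaf.stalk x)) ≤
          ((LocCoh.depth ↥(U.presheaf.stalk x) ↥(U.presheaf.stalk x) : ℕ∞) : WithBot ℕ∞)) X.obj)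
    (i : D ⟶ X) (hD : AlgSp.IsEffCartierSub i.hom) :
    AlgSp.EtaleLocally (fun V => IsLocallyNoetherian V ∧ ∀ v : ↥V,
        min ((k - 1 : ℕ) : WithBot ℕ∞) (ringKrullDim ↥(V.presheaf.stalk v)) ≤
          ((LocCoh.depth ↥(V.presheaf.stalk v) ↥(V.presheaf.stalk v) : ℕ∞) : WithBot ℕ∞))
      D.obj := by
  obtain ⟨U₀, p₀, hp₀e, hp₀s, hU₀N, hU₀S⟩ := hX
  obtain ⟨hci, V, φ, I, fstD, hφe, hφs, sqD, hI⟩ := hD
  obtain ⟨W, c, e, sq1⟩ : ∃ (W : Over S) (c : W ⟶ V) (e : W ⟶ U₀),
      IsPullback ((yon S).map c) ((yon S).map e) φ p₀ :=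
    ⟨_, hφe.rep.fst' p₀, hφe.rep.snd p₀, hφe.rep.isPullback' p₀⟩
  haveI he : Etale e.left := hφe.property _ _ _ sq1
  haveI hc : Etale c.left := hp₀e.property _ _ _ sq1.flip
  haveI hcs : Surjective c.left := hp₀s.property _ _ _ sq1.flip
  haveI : IsLocallyNoetherian U₀.left := hU₀N
  haveI : IsLocallyNoetherian W.left := Groth.Agent.EtStalk.isLocallyNoetherian_of_etale e.left
  haveI hVN : IsLocallyNoetherian V.left :=
    Groth.Agent.Lib.AlgSpNoethDesc_helper7.isLocallyNoetherian_of_flat_of_surjective c.left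
      c.left.isOpenMap
  have hV : ∀ v : V.left, min ((k : ℕ) : WithBot ℕ∞) (ringKrullDim ↥(V.left.presheaf.stalk v)) ≤
      ((LocCoh.depth ↥(V.left.presheaf.stalk v) ↥(V.left.presheaf.stalk v) : ℕ∞) :
        WithBot ℕ∞) := by
    intro v
    obtain ⟨w, rfl⟩ := c.left.surjective v
    rw [← sk_at_iff_of_etale c.left k w, sk_at_iff_of_etale e.left k w]
    exact hU₀S _
  refine ⟨Over.mk (I.subschemeι ≫ V.hom), fstD, repWith_fst_of_isPullback _ sqD hφe,
    repWith_fst_of_isPullback _ sqD hφs, ?_, ?_⟩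
  · show IsLocallyNoetherian I.subscheme
    exact LocallyOfFiniteType.isLocallyNoetherian I.subschemeι
  · intro d
    exact Groth.Agent.CartierSk.main V.left k hV I hI d

end Groth.Agent.Lib.AlgSpCartierSkH7
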