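import Groth.Agent.Lib.AlgSpOpen_helper7

/-!
# Fibre products of charts of an algebraic space (helper7)
-/

set_option autoImplicit false
universe u
open CategoryTheory CategoryTheory.Limits AlgebraicGeometry Opposite

namespace Groth.Agent.Lib.AlgSpChart_helper7

open AlgSp Groth.Agent.Lib.AlgSpQC2_helper7 Groth.Agent.Lib.AlgSpPoints_helper7
  Groth.Agent.Lib.AlgSpQC_helper7 Groth.Agent.Lib.AlgSpDiag_helper7 Groth.Agent.Lib.AlgSpTop_helper7
  Groth.Agent.Lib.AlgSpPullback_helper7

variable {S : Scheme.{u}}

/-- A product square of representable sheaves comes from a fibre product of schemes over `S`. -/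
theorem isPullback_left_of_isPullback_yon_terminal {U V W : Over S} {a : W ⟶ U} {b : W ⟶ V}
    (sq : IsPullback ((yon S).map a) ((yon S).map b) (terminal.from _) (terminal.from _)) :
    IsPullback a.left b.left U.hom V.hom := by
  refine IsPullback.of_isLimit' ⟨by rw [Over.w, Over.w]⟩ (PullbackCone.IsLimit.mk _
    (fun s => ?_) (fun s => ?_) (fun s => ?_) (fun s m h1 h2 => ?_))
  · let T : Over S := Over.mk (s.fst ≫ U.hom)
    let x : T ⟶ U := Over.homMk s.fst rfl
    let y : T ⟶ V := Over.homMk s.snd s.condition.symm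
    exact ((yon S).preimage (sq.lift ((yon S).map x) ((yon S).map y)
      (Subsingleton.elim _ _))).left
  · let T : Over S := Over.mk (s.fst ≫ U.hom)
    let x : T ⟶ U := Over.homMk s.fst rfl
    let y : T ⟶ V := Over.homMk s.snd s.condition.symm
    have : (yon S).preimage (sq.lift ((yon S).map x) ((yon S).map y)
      (Subsingleton.elim _ _)) ≫ a = x := by
      apply (yon S).map_injective
      rw [Functor.map_comp, Functor.map_preimage, sq.lift_fst]
    exact congrArg (fun k => k.left) this
  · let T : Over S := Over.mk (s.fst ≫ U.hom)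
    let x : T ⟶ U := Over.homMk s.fst rfl
    let y : T ⟶ V := Over.homMk s.snd s.condition.symm
    have : (yon S).preimage (sq.lift ((yon S).map x) ((yon S).map y)
      (Subsingleton.elim _ _)) ≫ b = y := by
      apply (yon S).map_injective
      rw [Functor.map_comp, Functor.map_preimage, sq.lift_snd]
    exact congrArg (fun k => k.left) this
  · let T : Over S := Over.mk (s.fst ≫ U.hom)
    let x : T ⟶ U := Over.homMk s.fst rfl
    let y : T ⟶ V := Over.homMk s.snd s.condition.symm
    have hm : m ≫ W.hom = T.hom := by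
      change m ≫ W.hom = s.fst ≫ U.hom
      rw [← h1, Category.assoc, Over.w]
    let m' : T ⟶ W := Over.homMk m hm
    have : m' = (yon S).preimage (sq.lift ((yon S).map x) ((yon S).map y)
      (Subsingleton.elim _ _)) := by
      apply (yon S).map_injective
      rw [Functor.map_preimage]
      apply sq.hom_ext
      · rw [sq.lift_fst, ← Functor.map_comp]
        congr 1
        ext
        exact h1
      · rw [sq.lift_snd, ← Functor.map_comp]
        congr 1
        ext
        exact h2
    exact congrArg (fun k => k.left) this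

/-- For `a : h_U ⟶ X`, `b : h_V ⟶ X` with `h_P = h_U ×_X h_V`, the scheme `P` is the base change
of the diagonal of `X` along `h_{U ×_S V} ⟶ X ⨯ X`. -/
theorem exists_fibreProduct_chart {X : Sp S} {U V P : Over S} (a : (yon S).obj U ⟶ X)
    (b : (yon S).obj V ⟶ X) (fst : P ⟶ U) (snd : P ⟶ V)
    (sq : IsPullback ((yon S).map fst) ((yon S).map snd) a b) :
    ∃ (W : Over S) (pU : W ⟶ U) (pV : W ⟶ V) (r : (yon S).obj W ⟶ X ⨯ X) (ρ : P ⟶ W),
      IsPullback pU.left pV.left U.hom V.hom ∧ ρ ≫ pU = fst ∧ ρ ≫ pV = snd ∧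
      r ≫ prod.fst = (yon S).map pU ≫ a ∧ r ≫ prod.snd = (yon S).map pV ≫ b ∧
      IsPullback ((yon S).map fst ≫ a) ((yon S).map ρ) (Limits.diag X) r ∧
      ∀ (Q : MorphismProperty Scheme.{u}) [Q.IsStableUnderBaseChange] [Q.IsMultiplicative],
        RepWith Q a → RepWith Q b → RepWith Q r := by
  have sqP := IsPullback.of_hasBinaryProduct' X X
  obtain ⟨W, pU, pV, r, hr1, hr2, sqW, hr⟩ :=
    exists_chart_of_isPullback representable_diag_terminal sqP a b
  have sqW' : IsPullback ((yon S).map pU) ((yon S).map pV) (terminal.from _) (terminal.from _) := by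
    have e1 : a ≫ terminal.from X = terminal.from _ := Subsingleton.elim _ _
    have e2 : b ≫ terminal.from X = terminal.from _ := Subsingleton.elim _ _
    rw [← e1, ← e2]; exact sqW
  let ρ' : (yon S).obj P ⟶ (yon S).obj W :=
    sqW.lift ((yon S).map fst) ((yon S).map snd)
      (by rw [← Category.assoc, ← Category.assoc, sq.w])
  obtain ⟨ρ, hρ⟩ := (yon S).map_surjective ρ'
  have hρ1 : ρ ≫ pU = fst := (yon S).map_injective (by rw [Functor.map_comp, hρ, sqW.lift_fst])
  have hρ2 : ρ ≫ pV = snd := (yon S).map_injective (by rw [Functor.map_comp, hρ, sqW.lift_snd])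
  refine ⟨W, pU, pV, r, ρ, isPullback_left_of_isPullback_yon_terminal sqW', hρ1, hρ2, hr1, hr2, ?_,
    fun Q _ _ h h' => hr Q h h'⟩
  have hwfst : ((yon S).map ρ ≫ r) ≫ prod.fst = (yon S).map fst ≫ a := by
    rw [Category.assoc, hr1, ← Category.assoc, ← Functor.map_comp, hρ1]
  have hwsnd : ((yon S).map ρ ≫ r) ≫ prod.snd = (yon S).map fst ≫ a := by
    rw [Category.assoc, hr2, ← Category.assoc, ← Functor.map_comp, hρ2, sq.w]
  refine isPullback_of_forall_yon ?_ ?_
  · apply Limits.prod.hom_ext
    · rw [hwfst, Category.assoc, prod.lift_fst, Category.comp_id]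
    · rw [hwsnd, Category.assoc, prod.lift_snd, Category.comp_id]
  · intro T x β' hxβ
    obtain ⟨β, rfl⟩ := (yon S).map_surjective β'
    have h1 : x = (yon S).map (β ≫ pU) ≫ a := by
      have := hxβ =≫ prod.fst
      rw [Category.assoc, prod.lift_fst, Category.comp_id, Category.assoc, hr1,
        ← Category.assoc, ← Functor.map_comp] at this
      exact this
    have h2 : x = (yon S).map (β ≫ pV) ≫ b := by
      have := hxβ =≫ prod.snd
      rw [Category.assoc, prod.lift_snd, Category.comp_id, Category.assoc, hr2,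
        ← Category.assoc, ← Functor.map_comp] at this
      exact this
    let τ' : (yon S).obj T ⟶ (yon S).obj P :=
      sq.lift ((yon S).map (β ≫ pU)) ((yon S).map (β ≫ pV)) (h1.symm.trans h2)
    obtain ⟨τ, hτ⟩ := (yon S).map_surjective τ'
    have hτ1 : τ ≫ fst = β ≫ pU :=
      (yon S).map_injective (by rw [Functor.map_comp, hτ, sq.lift_fst])
    have hτ2 : τ ≫ snd = β ≫ pV :=
      (yon S).map_injective (by rw [Functor.map_comp, hτ, sq.lift_snd])
    have hτρ : τ ≫ ρ = β := by
      apply (yon S).map_injective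
      apply sqW.hom_ext
      · rw [← Functor.map_comp, ← Functor.map_comp, Category.assoc, hρ1, hτ1]
      · rw [← Functor.map_comp, ← Functor.map_comp, Category.assoc, hρ2, hτ2]
    refine ⟨(yon S).map τ, ⟨?_, ?_⟩, ?_⟩
    · rw [← Category.assoc, ← Functor.map_comp, hτ1, ← h1]
    · rw [← Functor.map_comp, hτρ]
    · rintro y' ⟨_, hy2⟩
      obtain ⟨y, rfl⟩ := (yon S).map_surjective y'
      rw [← Functor.map_comp] at hy2
      have hy := (yon S).map_injective hy2
      congr 1
      apply (yon S).map_injective
      apply sq.hom_ext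
      · rw [← Functor.map_comp, ← Functor.map_comp, hτ1, ← hρ1, ← Category.assoc, hy]
      · rw [← Functor.map_comp, ← Functor.map_comp, hτ2, ← hρ2, ← Category.assoc, hy]

end Groth.Agent.Lib.AlgSpChart_helper7
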