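import Groth.Agent.Lib.AlgSpDecent2_helper6

/-!
# Monomorphic field points: factorization and uniqueness (helper6)
-/

set_option autoImplicit false
universe u
open CategoryTheory CategoryTheory.Limits AlgebraicGeometry Opposite

namespace Groth.Agent.Lib.AlgSpDecent3_helper6

open AlgSp Groth.Agent.Lib.AlgSpPoints_helper7 Groth.Agent.Lib.AlgSpQC_helper7
  Groth.Agent.Lib.AlgSpPullback_helper7 Groth.Agent.Lib.AlgSpDecent_helper6
  Groth.Agent.Lib.AlgSpField_helper7

variable {S : Scheme.{u}}

/-- If `p` is a representable monomorphic field point then every field point in the class of `p`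
factors through `p`. -/
theorem exists_factor_of_mono {F : Sp S} (p q : FieldPt F) (hm : Mono p.toHom)
    (hr : Representable p.toHom) (h : Points.mk q = Points.mk p) :
    ∃ c : q.pt ⟶ p.pt, (yon S).map c ≫ p.toHom = q.toHom := by
  rw [Points.mk_eq_mk_iff, rel_iff] at h
  obtain ⟨Ω, _, w, a, b, hab⟩ := h
  have sq := hr.isPullback q.toHom
  have hm1 : Mono ((yon S).map (hr.snd q.toHom)) := sq.mono_snd_of_mono
  have hm2 : Mono (hr.snd q.toHom) := (yon S).mono_of_mono_map hm1
  have hm3 : Mono (hr.snd q.toHom).left := inferInstance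
  let l : (yon S).obj (Over.mk w) ⟶ (yon S).obj (hr.pullback q.toHom) :=
    sq.lift ((yon S).map b) ((yon S).map a) hab.symm
  obtain ⟨l', hl'⟩ := (yon S).map_surjective l
  have hne : Nonempty ↥(hr.pullback q.toHom).left :=
    ⟨l'.left (IsLocalRing.closedPoint Ω : ↥(Spec (CommRingCat.of Ω)))⟩
  have hiso : IsIso (hr.snd q.toHom).left :=
    isIso_of_mono_of_nonempty_of_field (E := (hr.pullback q.toHom).left) (hr.snd q.toHom).left
  have hiso' : IsIso (hr.snd q.toHom) := by
    haveI : IsIso ((Over.forget S).map (hr.snd q.toHom)) := hiso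
    exact isIso_of_reflects_iso _ (Over.forget S)
  obtain ⟨c', hc'⟩ := (yon S).map_surjective (hr.fst q.toHom)
  refine ⟨inv (hr.snd q.toHom) ≫ c', ?_⟩
  rw [Functor.map_comp, Category.assoc, hc', sq.w, ← Category.assoc, ← Functor.map_comp,
    IsIso.inv_hom_id]
  erw [(yon S).map_id, Category.id_comp]

/-- a morphism between spectra of fields is quasi-compact; hence any field point in the class
of a monomorphic quasi-compact field point is quasi-compact -/
theorem repWith_quasiCompact_of_mono {F : Sp S} (p q : FieldPt F) (hm : Mono p.toHom)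
    (hp : RepWith @QuasiCompact p.toHom) (h : Points.mk q = Points.mk p) :
    RepWith @QuasiCompact q.toHom := by
  obtain ⟨c, hc⟩ := exists_factor_of_mono p q hm hp.1 h
  rw [← hc]
  refine repWith_comp _ ?_ hp
  rw [repWith_yon_map_iff]
  have : IsAffineHom c.left := by
    change IsAffineHom (X := Spec (CommRingCat.of q.K)) (Y := Spec (CommRingCat.of p.K)) c.left
    infer_instance
  infer_instance

end Groth.Agent.Lib.AlgSpDecent3_helper6
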