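import Groth.Agent.Lib.AlgSpFibre_helper6

/-!
# Lifting generizations to a quasi-compact point along étale charts (helper6)
-/

set_option autoImplicit false
universe u
open CategoryTheory CategoryTheory.Limits AlgebraicGeometry Opposite

namespace Groth.Agent.Lib.AlgSpGeneriz_helper6

open AlgSp Groth.Agent.Lib.AlgSpPoints_helper7 Groth.Agent.Lib.AlgSpQC_helper7
  Groth.Agent.Lib.AlgSpPullback_helper7 Groth.Agent.Lib.AlgSpBasic_helper7
  Groth.Agent.Lib.AlgSpEtale_helper7

variable {S : Scheme.{u}}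

/-- ring level: a point in the closure of the image of `Spec R → Spec A` is a specialization of a
point of the image -/
theorem exists_comap_specializes {A R : Type u} [CommRing A] [CommRing R] (φ : A →+* R)
    (y : PrimeSpectrum A) (hy : y ∈ closure (Set.range (PrimeSpectrum.comap φ))) :
    ∃ Q : PrimeSpectrum R, PrimeSpectrum.comap φ Q ⤳ y := by
  rw [PrimeSpectrum.closure_range_comap, PrimeSpectrum.mem_zeroLocus] at hy
  obtain ⟨Q, -, hQ, hle⟩ := y.asIdeal.exists_ideal_comap_le_prime (⊥ : Ideal R) (f := φ) hy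
  refine ⟨⟨Q, hQ⟩, ?_⟩
  rw [← PrimeSpectrum.le_iff_specializes]
  exact hle

/-- a quasi-compact morphism to `Spec A`: points of the closure of the image are specializations
of points of the image -/
theorem exists_specializes_of_mem_closure_spec {F : Scheme.{u}} {A : CommRingCat.{u}}
    (f : F ⟶ Spec A) [QuasiCompact f] (y : ↥(Spec A)) (hy : y ∈ closure (Set.range f)) :
    ∃ x : ↥F, f x ⤳ y := by
  haveI : CompactSpace ↥F := QuasiCompact.compactSpace_of_compactSpace f
  obtain ⟨R, g, hg⟩ := compactSpace_iff_exists.mp (inferInstance : CompactSpace ↥F)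
  obtain ⟨φ, hφ⟩ : ∃ φ : A ⟶ R, Spec.map φ = g ≫ f := ⟨Spec.preimage (g ≫ f), Spec.map_preimage _⟩
  have hr : Set.range (g ≫ f) = Set.range f := by
    rw [Scheme.Hom.comp_base, TopCat.coe_comp, Set.range_comp, hg.range_eq, Set.image_univ]
  have hy' : y ∈ closure (Set.range (PrimeSpectrum.comap φ.hom)) := by
    have : Set.range (PrimeSpectrum.comap φ.hom) = Set.range (g ≫ f) := by
      rw [← hφ]; rfl
    rw [this, hr]; exact hy
  obtain ⟨Q, hQ⟩ := exists_comap_specializes φ.hom y hy'
  refine ⟨g Q, ?_⟩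
  have : f (g Q) = PrimeSpectrum.comap φ.hom Q := by
    change (g ≫ f) Q = _
    rw [← hφ]; rfl
  rw [this]; exact hQ

/-- the same for an affine target -/
theorem exists_specializes_of_mem_closure {F Y : Scheme.{u}} [IsAffine Y]
    (f : F ⟶ Y) [QuasiCompact f] (y : ↥Y) (hy : y ∈ closure (Set.range f)) :
    ∃ x : ↥F, f x ⤳ y := by
  have hy' : Y.isoSpec.hom y ∈ closure (Set.range (f ≫ Y.isoSpec.hom)) := by
    have h1 : Set.range (f ≫ Y.isoSpec.hom) = Y.isoSpec.hom '' Set.range f := by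
      rw [Scheme.Hom.comp_base, TopCat.coe_comp, Set.range_comp]
    rw [h1]
    exact image_closure_subset_closure_image Y.isoSpec.hom.continuous ⟨y, hy, rfl⟩
  obtain ⟨x, hx⟩ := exists_specializes_of_mem_closure_spec (f ≫ Y.isoSpec.hom) _ hy'
  refine ⟨x, ?_⟩
  have := hx.map Y.isoSpec.inv.continuous
  simpa using this

/-- Generizations to a point represented by a quasi-compact field point lift along étale charts. -/
theorem exists_specializes_lift {X : Sp S} (x x' : Points X) (h : x' ⤳ x) (p : FieldPt X)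
    (hp : Points.mk p = x') (hq : RepWith @QuasiCompact p.toHom)
    {U : Over S} (a : (yon S).obj U ⟶ X) (ha : RepWith @Etale a) (u : ↥U.left)
    (hu : Points.ofPt a u = x) : ∃ u' : ↥U.left, u' ⤳ u ∧ Points.ofPt a u' = x' := by
  let 𝒰 := U.left.affineCover
  let i := 𝒰.idx u
  obtain ⟨u₀, hu₀⟩ := 𝒰.covers u
  let c : Over.mk (𝒰.f i ≫ U.hom) ⟶ U := Over.homMk (𝒰.f i) rfl
  have hc : RepWith @Etale ((yon S).map c) := by
    rw [repWith_yon_map_iff]
    change Etale (𝒰.f i)
    infer_instance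
  have ha₀ : RepWith @Etale ((yon S).map c ≫ a) := repWith_comp _ hc ha
  have e0 : Points.ofPt ((yon S).map c ≫ a) u₀ = x := by
    rw [ofPt_comp]; change Points.ofPt a ((𝒰.f i) u₀) = x; rw [hu₀, hu]
  have R := hq.rep
  let r := R.fst' ((yon S).map c ≫ a)
  let s := R.snd ((yon S).map c ≫ a)
  have sq : IsPullback ((yon S).map r) ((yon S).map s) p.toHom ((yon S).map c ≫ a) :=
    R.isPullback' _
  haveI hs1 : QuasiCompact s.left := hq.property_snd _
  haveI : IsAffine (Over.mk (𝒰.f i ≫ U.hom)).left := by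
    change IsAffine (𝒰.X i)
    infer_instance
  have hcl : u₀ ∈ closure (Set.range s.left) := by
    rw [mem_closure_iff]
    intro O hO hu₀O
    have hopen := isOpenMap_ofPt_of_etale _ ha₀ O hO
    have hx' : x' ∈ Points.ofPt ((yon S).map c ≫ a) '' O :=
      h.mem_open hopen ⟨u₀, hu₀O, e0⟩
    obtain ⟨v, hvO, hv⟩ := hx'
    have hv' : Points.ofPt p.toHom (IsLocalRing.closedPoint p.K) =
        Points.ofPt ((yon S).map c ≫ a) v := by
      rw [Points.ofPt_toHom, hp, hv]
    obtain ⟨f, -, hf⟩ := exists_ofPt_eq_of_isPullback sq _ v hv'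
    exact ⟨v, hvO, ⟨f, hf⟩⟩
  obtain ⟨f, hf⟩ := exists_specializes_of_mem_closure s.left u₀ hcl
  refine ⟨(𝒰.f i) (s.left f), ?_, ?_⟩
  · rw [← hu₀]
    exact hf.map (𝒰.f i).continuous
  · have e1 : Points.ofPt a ((𝒰.f i) (s.left f)) =
        Points.ofPt ((yon S).map c ≫ a) (s.left f) := by
      rw [ofPt_comp]; rfl
    rw [e1, ← ofPt_comp, ← sq.w, ofPt_comp, Points.ofPt_toHom, hp]

end Groth.Agent.Lib.AlgSpGeneriz_helper6
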