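import Groth.Agent.Lib.AlgSpClosedPt_helper6
import Groth.Agent.Lib.AlgSpGeneriz_helper6
import Groth.Agent.Lib.AlgSpDecent3_helper6
import Mathlib.AlgebraicGeometry.Morphisms.Proper
import Mathlib.AlgebraicGeometry.Morphisms.Finite

/-!
# Points of decent spaces algebraic over a closed point of the base are closed (helper6)
-/

set_option autoImplicit false
universe u
open CategoryTheory CategoryTheory.Limits AlgebraicGeometry Opposite TopologicalSpace

namespace Groth.Agent.Lib.AlgSpClosedPt2_helper6

open AlgSp Groth.Agent.Lib.AlgSpPoints_helper7 Groth.Agent.Lib.AlgSpQC_helper7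
  Groth.Agent.Lib.AlgSpPullback_helper7 Groth.Agent.Lib.AlgSpBasic_helper7
  Groth.Agent.Lib.AlgSpEtale_helper7 Groth.Agent.Lib.AlgSpDescent_helper7
  Groth.Agent.Lib.AlgSpDescent2_helper7 Groth.Agent.Lib.AlgSpFibre_helper6
  Groth.Agent.Lib.AlgSpPointSp2_helper6 Groth.Agent.Lib.AlgSpGeneriz_helper6
  Groth.Agent.Lib.AlgSpDecent3_helper6 Groth.Agent.Lib.AlgSpClosedPt_helper6

variable {S : Scheme.{u}}

/-- a scheme étale over the spectrum of a field is discrete -/
theorem discreteTopology_of_etale_field {F : Scheme.{u}} {K : Type u} [Field K]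
    (r : F ⟶ Spec (CommRingCat.of K)) [Etale r] : DiscreteTopology ↥F := by
  haveI : LocallyQuasiFinite r := locallyQuasiFinite_of_unramified r
  rcases isEmpty_or_nonempty ↥F with hF | ⟨⟨f⟩⟩
  · infer_instance
  have hd := r.isDiscrete_preimage_singleton (r f)
  have huniv : r ⁻¹' {r f} = Set.univ := by
    ext y
    simp only [Set.mem_preimage, Set.mem_singleton_iff, Set.mem_univ, iff_true]
    exact Subsingleton.elim _ _
  rw [huniv] at hd
  exact isDiscrete_univ_iff.1 hd

/-- the residue field of a point of a scheme étale over a field is finite over the field -/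
theorem isFinite_fromSpecResidueField_comp_of_etale_field {F : Scheme.{u}} {K : Type u} [Field K]
    (r : F ⟶ Spec (CommRingCat.of K)) [Etale r] (w : ↥F) :
    IsFinite (F.fromSpecResidueField w ≫ r) := by
  haveI : DiscreteTopology ↥F := discreteTopology_of_etale_field r
  haveI : IsClosedImmersion (F.fromSpecResidueField w) :=
    isClosed_singleton_iff_isClosedImmersion.mp (isClosed_discrete _)
  haveI : JacobsonSpace ↥(Spec (CommRingCat.of K)) := by
    change JacobsonSpace (PrimeSpectrum K)
    rw [← PrimeSpectrum.isJacobsonRing_iff_jacobsonSpace]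
    infer_instance
  exact (isFinite_iff_locallyOfFiniteType_of_jacobsonSpace).2 inferInstance

/-- A field point of a decent space lying over a closed point `s` of the base and algebraic over
`κ(s)` is a closed point. -/
theorem isClosed_singleton_ofPt_of_integral {X : Sp S} (hX : IsAlgSpace X) (hd : IsDecent X)
    (s : ↥S) (hs : IsClosed ({s} : Set ↥S)) (k : Type u) [Field k]
    (φ : S.residueField s ⟶ CommRingCat.of k) (hφ : φ.hom.IsIntegral)
    (p : (yon S).obj (Over.mk (Spec.map φ ≫ S.fromSpecResidueField s)) ⟶ X)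
    (t : ↥(Spec (CommRingCat.of k))) :
    IsClosed ({Points.ofPt p t} : Set (Points X)) := by
  refine isClosed_of_closure_subset fun x' hx' => ?_
  have hsp : Points.ofPt p t ⤳ x' := specializes_iff_mem_closure.2 hx'
  obtain ⟨U0, a0, hae0, has0⟩ := hX.atlas
  obtain ⟨u0, hu0⟩ := ofPt_surjective a0 has0 x'
  let 𝒰 := U0.left.affineCover
  let i := 𝒰.idx u0
  obtain ⟨u', hu'⟩ := 𝒰.covers u0
  let U : Over S := Over.mk (𝒰.f i ≫ U0.hom)
  let c : U ⟶ U0 := Over.homMk (𝒰.f i) rfl
  have hc : RepWith @Etale ((yon S).map c) := by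
    rw [repWith_yon_map_iff]
    change Etale (𝒰.f i)
    infer_instance
  let a : (yon S).obj U ⟶ X := (yon S).map c ≫ a0
  have hae : RepWith @Etale a := repWith_comp _ hc hae0
  have e0 : Points.ofPt a u' = x' := by
    change Points.ofPt ((yon S).map c ≫ a0) u' = x'
    rw [ofPt_comp]; change Points.ofPt a0 ((𝒰.f i) u') = x'; rw [hu', hu0]
  haveI : IsAffine U.left := by
    change IsAffine (𝒰.X i)
    infer_instance
  obtain ⟨p₀, hp₀, -, hq₀⟩ := hd (Points.ofPt p t)
  obtain ⟨u, hu1, hu2⟩ := exists_specializes_lift x' (Points.ofPt p t) hsp p₀ hp₀ hq₀ a hae u' e0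
  have R := hae.rep
  let ρ := R.fst' p
  let σ := R.snd p
  have sq : IsPullback ((yon S).map ρ) ((yon S).map σ) a p := R.isPullback' p
  let F : Scheme.{u} := (R.pullback p).left
  let σ' : F ⟶ Spec (CommRingCat.of k) := σ.left
  let ρ' : F ⟶ U.left := ρ.left
  haveI hσ : Etale σ' := by
    have h1 : RepWith @Etale ((yon S).map σ) := repWith_snd_of_isPullback _ sq hae
    exact (repWith_yon_map_iff _ _).1 h1
  obtain ⟨w, hw1, hw2⟩ := exists_ofPt_eq_of_isPullback sq u t hu2
  let w' : ↥F := w
  let q : Spec (F.residueField w') ⟶ U.left := F.fromSpecResidueField w' ≫ ρ'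
  haveI : IsFinite (F.fromSpecResidueField w' ≫ σ') :=
    isFinite_fromSpecResidueField_comp_of_etale_field σ' w'
  haveI : IsIntegralHom (Spec.map φ) := IsIntegralHom.SpecMap_iff.2 hφ
  haveI : IsClosedImmersion (S.fromSpecResidueField s) :=
    isClosed_singleton_iff_isClosedImmersion.mp hs
  have e : q ≫ U.hom =
      (F.fromSpecResidueField w' ≫ σ') ≫ (Spec.map φ ≫ S.fromSpecResidueField s) := by
    have h1 : ρ' ≫ U.hom = (R.pullback p).hom := Over.w ρ
    have h2 : σ' ≫ (Spec.map φ ≫ S.fromSpecResidueField s) = (R.pullback p).hom := Over.w σ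
    change (F.fromSpecResidueField w' ≫ ρ') ≫ U.hom = _
    rw [Category.assoc, Category.assoc, h1, h2]
  haveI : UniversallyClosed (q ≫ U.hom) := by
    rw [e]; infer_instance
  haveI : UniversallyClosed q := UniversallyClosed.of_comp_of_isSeparated q U.hom
  have hr : Set.range q = {u} := by
    change Set.range (F.fromSpecResidueField w' ≫ ρ') = {u}
    rw [Scheme.Hom.comp_base, TopCat.coe_comp, Set.range_comp, Scheme.range_fromSpecResidueField,
      Set.image_singleton]
    exact congrArg _ hw1
  have hcl : IsClosed ({u} : Set ↥U.left) := by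
    rw [← hr]; exact q.isClosedMap.isClosed_range
  have huu : u' = u := hu1.mem_closed hcl (Set.mem_singleton u)
  change x' = Points.ofPt p t
  rw [← e0, huu, hu2]

/-- variant of `repWith_isClosedImmersion_of_isClosed` also recording that the point is a
monomorphism -/
theorem repWith_isClosedImmersion_of_isClosed' {X : Sp S} (hX : IsAlgSpace X) (hd : IsDecent X)
    (x : Points X) (hx : IsClosed ({x} : Set (Points X))) :
    ∃ p : FieldPt X, Points.mk p = x ∧ Mono p.toHom ∧ RepWith @IsClosedImmersion p.toHom := by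
  obtain ⟨p, hp, hpm, hpq⟩ := hd x
  refine ⟨p, hp, hpm, ?_⟩
  obtain ⟨U, a, hae, has⟩ := hX.atlas
  have R := hpq.rep
  let ρ := R.fst' a
  let σ := R.snd a
  have sq : IsPullback ((yon S).map ρ) ((yon S).map σ) p.toHom a := R.isPullback' a
  haveI hs1 : QuasiCompact σ.left := hpq.property_snd a
  haveI hs2 : Mono σ.left := by
    haveI := hpm
    have h1 : Mono ((yon S).map σ) := sq.mono_snd_of_mono
    have h2 : Mono σ := (yon S).mono_of_mono_map h1
    infer_instance
  haveI hρ : Etale (X := (R.pullback a).left) (Y := Spec (CommRingCat.of p.K)) ρ.left := by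
    have h1 : RepWith @Etale ((yon S).map ρ) := repWith_fst_of_isPullback _ sq hae
    exact (repWith_yon_map_iff _ _).1 h1
  haveI : IsReduced (R.pullback a).left :=
    isReduced_of_etale_field (K := p.K) (V := (R.pullback a).left) ρ.left
  have hrange : Set.range σ.left = Points.ofPt a ⁻¹' {x} := by
    ext v
    constructor
    · rintro ⟨f, rfl⟩
      change Points.ofPt a (σ.left f) = x
      rw [← ofPt_comp, ← sq.w, ofPt_comp, Points.ofPt_toHom, hp]
    · intro hv
      have hv' : Points.ofPt p.toHom (IsLocalRing.closedPoint p.K) = Points.ofPt a v := by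
        rw [Points.ofPt_toHom, hp]; exact hv.symm
      obtain ⟨f, -, hf⟩ := exists_ofPt_eq_of_isPullback sq _ v hv'
      exact ⟨f, hf⟩
  have hcl : IsClosed (Set.range σ.left) := by
    rw [hrange]; exact hx.preimage (Points.continuous_ofPt a)
  have hsp : ∀ y y' : ↥U.left, y ∈ Set.range σ.left → y' ∈ Set.range σ.left → y' ⤳ y →
      y' = y := by
    intro y y' hy hy' hs
    rw [hrange] at hy hy'
    exact (eq_of_specializes_of_isDecent hd a hae y y' (hy.trans hy'.symm) hs).symm
  have hci : IsClosedImmersion σ.left := isClosedImmersion_of_mono_of_closed_range σ.left hcl hsp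
  exact repWith_of_chart @IsClosedImmersion descendsEtale_isClosedImmersion p.toHom R a hae has
    ((yon S).map ρ) σ sq hci

/-- A field point of a decent space lying over a closed point `s` of the base and finite over
`κ(s)` is a finite morphism, and a closed immersion if its field is `κ(s)`. -/
theorem repWith_isFinite_of_finite {X : Sp S} (hX : IsAlgSpace X) (hd : IsDecent X)
    (s : ↥S) (hs : IsClosed ({s} : Set ↥S)) (k : Type u) [Field k]
    (φ : S.residueField s ⟶ CommRingCat.of k) (hφ : φ.hom.Finite)
    (p : (yon S).obj (Over.mk (Spec.map φ ≫ S.fromSpecResidueField s)) ⟶ X) :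
    RepWith @IsFinite p ∧ (Function.Surjective φ.hom → RepWith @IsClosedImmersion p) := by
  let t : ↥(Spec (CommRingCat.of k)) := IsLocalRing.closedPoint k
  have hcl := isClosed_singleton_ofPt_of_integral hX hd s hs k φ hφ.to_isIntegral p t
  obtain ⟨p', hp', hpm, hpc⟩ := repWith_isClosedImmersion_of_isClosed' hX hd _ hcl
  have hmk : Points.mk (ofHom p) = Points.mk p' := by
    rw [hp']
    have h := Points.ofPt_toHom (ofHom p) t
    rw [toHom_ofHom] at h
    exact h.symm
  obtain ⟨c, hc⟩ := exists_factor_of_mono p' (ofHom p) hpm hpc.1 hmk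
  rw [toHom_ofHom] at hc
  let c' : Spec (CommRingCat.of k) ⟶ Spec (CommRingCat.of p'.K) := c.left
  haveI hci : IsClosedImmersion (S.fromSpecResidueField s) :=
    isClosed_singleton_iff_isClosedImmersion.mp hs
  have hw : c' ≫ p'.str = Spec.map φ ≫ S.fromSpecResidueField s := Over.w c
  haveI : IsSeparated p'.str := inferInstance
  constructor
  · haveI : IsFinite (Spec.map φ) := (IsFinite.SpecMap_iff φ).2 hφ
    haveI : IsFinite (c' ≫ p'.str) := by
      rw [hw]; infer_instance
    have hfin : IsFinite c' := IsFinite.of_comp c' p'.str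
    rw [← hc]
    refine repWith_comp _ ((repWith_yon_map_iff _ _).2 hfin) (repWith_mono ?_ hpc)
    intro _ _ g hg
    haveI : IsClosedImmersion g := hg
    exact (inferInstance : IsFinite g)
  · intro hb
    haveI : IsClosedImmersion (Spec.map φ) := IsClosedImmersion.spec_of_surjective φ hb
    haveI : IsClosedImmersion (c' ≫ p'.str) := by
      rw [hw]; infer_instance
    have hcc : IsClosedImmersion c' := IsClosedImmersion.of_comp c' p'.str
    rw [← hc]
    exact repWith_comp _ ((repWith_yon_map_iff _ _).2 hcc) hpc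

end Groth.Agent.Lib.AlgSpClosedPt2_helper6
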