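import Groth.Agent.Lib.AlgSpSep_helper7
import Mathlib.AlgebraicGeometry.ZariskisMainTheorem
import Mathlib.AlgebraicGeometry.Morphisms.FlatDescent
import Mathlib.AlgebraicGeometry.Morphisms.LocalFlatDescent

set_option autoImplicit false
universe u
open CategoryTheory CategoryTheory.Limits AlgebraicGeometry Opposite

namespace Groth.Agent.Lib.AlgSpDescent2_helper7

open AlgSp Groth.Agent.Lib.AlgSpDescent_helper7

/-- Quasi-compactness descends along surjective open morphisms (in particular étale covers). -/
theorem quasiCompact_of_isPullback_of_isOpenMap {X Y Y' X' : Scheme.{u}} {f : X ⟶ Y} {π : Y' ⟶ Y}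
    {fst : X' ⟶ X} {f' : X' ⟶ Y'} (sq : IsPullback fst f' f π) (hπo : IsOpenMap π.base)
    (hπs : Function.Surjective π.base) (h : QuasiCompact f') : QuasiCompact f := by
  rw [quasiCompact_iff]
  intro U hU hUc
  obtain ⟨V, hVc, hV⟩ := hπo.exists_opens_image_eq_of_prespectralSpace π.continuous
    (fun y _ => hπs y) hU hUc
  have hc : IsCompact (f'.base ⁻¹' V.1) := h.isCompact_preimage _ V.2 hVc
  have : f.base ⁻¹' U = fst.base '' (f'.base ⁻¹' V.1) := by
    ext x
    constructor
    · intro hx
      rw [Set.mem_preimage, ← hV] at hx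
      obtain ⟨y', hy'V, hy'⟩ := hx
      obtain ⟨x', hx'1, hx'2⟩ := Scheme.exists_preimage_of_isPullback sq x y' hy'.symm
      exact ⟨x', by rw [Set.mem_preimage, hx'2]; exact hy'V, hx'1⟩
    · rintro ⟨x', hx', rfl⟩
      rw [Set.mem_preimage, ← hV]
      refine ⟨f'.base x', hx', ?_⟩
      rw [← Scheme.Hom.comp_apply, ← Scheme.Hom.comp_apply, sq.w]
  rw [this]
  exact hc.image fst.continuous

theorem descendsEtale_quasiCompact : DescendsEtale @QuasiCompact := by
  intro X Y Y' X' f π fst f' sq _ _ h
  exact quasiCompact_of_isPullback_of_isOpenMap sq π.isOpenMap π.surjective h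

theorem descendsEtale_inf {P Q : MorphismProperty Scheme.{u}} (hP : DescendsEtale P)
    (hQ : DescendsEtale Q) : DescendsEtale (P ⊓ Q) :=
  fun _ _ _ _ _ _ _ _ sq h1 h2 h => ⟨hP sq h1 h2 h.1, hQ sq h1 h2 h.2⟩

theorem descendsEtale_mono : DescendsEtale (MorphismProperty.monomorphisms Scheme.{u}) := by
  rw [← MorphismProperty.diagonal_isomorphisms]
  exact descendsEtale_of_descendsAlong _

theorem descendsEtale_isClosedImmersion : DescendsEtale @IsClosedImmersion := by
  intro X Y Y' X' f π fst f' sq h1 h2 h
  have hm : Mono f := descendsEtale_mono sq h1 h2 (inferInstance : Mono f')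
  have huc : UniversallyClosed f :=
    descendsEtale_of_descendsAlong @UniversallyClosed sq h1 h2 inferInstance
  have hlft : LocallyOfFiniteType f :=
    descendsEtale_of_descendsAlong @LocallyOfFiniteType sq h1 h2 inferInstance
  have : IsProper f := {}
  exact (IsClosedImmersion.iff_isProper_and_mono f).2 ⟨this, hm⟩

theorem descendsEtale_diagonal {P : MorphismProperty Scheme.{u}} (hP : DescendsEtale P) :
    DescendsEtale P.diagonal := by
  intro X Y Y' X' f π fst f' sq h1 h2 h
  have sq2 := (Groth.Agent.Lib.AlgSpSep_helper7.isPullback_diagonal_of_isPullback sq).flip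
  have sq3 := Groth.Agent.Lib.AlgSpSep_helper7.isPullback_map_base sq
  have he : Etale (pullback.map f' f' f f fst fst π sq.w.symm sq.w.symm) :=
    MorphismProperty.of_isPullback (P := @Etale) sq3.flip h1
  have hs : Surjective (pullback.map f' f' f f fst fst π sq.w.symm sq.w.symm) :=
    MorphismProperty.of_isPullback (P := @Surjective) sq3.flip h2
  exact hP sq2 he hs h

theorem descendsEtale_isSeparated : DescendsEtale @IsSeparated := by
  rw [IsSeparated.isSeparated_eq_diagonal_isClosedImmersion]
  exact descendsEtale_diagonal descendsEtale_isClosedImmersion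

theorem descendsEtale_quasiSeparated : DescendsEtale @QuasiSeparated := by
  rw [quasiSeparated_eq_diagonal_is_quasiCompact]
  exact descendsEtale_diagonal descendsEtale_quasiCompact

theorem descendsEtale_isProper : DescendsEtale @IsProper := by
  intro X Y Y' X' f π fst f' sq h1 h2 h
  have hs : IsSeparated f := descendsEtale_isSeparated sq h1 h2 inferInstance
  have huc : UniversallyClosed f :=
    descendsEtale_of_descendsAlong @UniversallyClosed sq h1 h2 inferInstance
  have hlft : LocallyOfFiniteType f :=
    descendsEtale_of_descendsAlong @LocallyOfFiniteType sq h1 h2 inferInstance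
  exact {}

variable {S : Scheme.{u}}

open Groth.Agent.Lib.AlgSpQC_helper7 Groth.Agent.Lib.AlgSpPullback_helper7
  Groth.Agent.Lib.AlgSpSep_helper7 in
/-- Descent of a property of the diagonal along one surjective étale chart of the target. -/
theorem repWith_diagonal_of_chart (Q : MorphismProperty Scheme.{u}) [Q.IsStableUnderBaseChange]
    (hQ : DescendsEtale Q) {X Y : Sp S} (hX : IsAlgSpace X) (hY : IsAlgSpace Y) (f : X ⟶ Y)
    {V : Over S} (p : (yon S).obj V ⟶ Y) (hp : RepWith @Etale p) (hps : RepWith @Surjective p)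
    {P : Sp S} (fst : P ⟶ X) (snd : P ⟶ (yon S).obj V) (sq : IsPullback fst snd f p)
    (h : RepWith Q (pullback.diagonal snd)) : RepWith Q (pullback.diagonal f) := by
  have hP : IsAlgSpace P := isAlgSpace_of_isPullback hY.diag hX (IsAlgSpace.yon_obj V) sq
  have hPP : IsAlgSpace (pullback snd snd) :=
    isAlgSpace_of_isPullback (IsAlgSpace.yon_obj V).diag hP hP (IsPullback.of_hasPullback snd snd)
  have sqm := isPullback_map_base sq
  have hme := repWith_fst_of_isPullback _ sqm hp
  have hms := repWith_fst_of_isPullback _ sqm hps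
  obtain ⟨W, a, hae, has⟩ := hPP.atlas
  obtain ⟨W', g, fst', sq'⟩ := h.rep a
  have hg : Q g.left := h.property _ _ _ sq'
  have sq'' := sq'.paste_horiz (isPullback_diagonal_of_isPullback sq).flip
  exact repWith_of_chart Q hQ _
    (Groth.Agent.Lib.AlgSpDiag_helper7.diagonal_properties hX f).1.rep _
    (repWith_comp _ hae hme) (repWith_comp _ has hms) _ g sq'' hg

end Groth.Agent.Lib.AlgSpDescent2_helper7
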