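import Groth.Agent.Lib.AlgSpRelFib_helper6
import Groth.Agent.Lib.AlgSpDescent2_helper7
import Mathlib.AlgebraicGeometry.Morphisms.SchemeTheoreticallyDominant
import Mathlib.AlgebraicGeometry.Morphisms.ClosedImmersion
import Mathlib.RingTheory.Unramified.Field

/-!
# Closed points of decent spaces are represented by closed immersions (helper6)
-/

set_option autoImplicit false
universe u
open CategoryTheory CategoryTheory.Limits AlgebraicGeometry Opposite TopologicalSpace

namespace Groth.Agent.Lib.AlgSpClosedPt_helper6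

open AlgSp Groth.Agent.Lib.AlgSpPoints_helper7 Groth.Agent.Lib.AlgSpQC_helper7
  Groth.Agent.Lib.AlgSpPullback_helper7 Groth.Agent.Lib.AlgSpBasic_helper7
  Groth.Agent.Lib.AlgSpEtale_helper7 Groth.Agent.Lib.AlgSpDescent_helper7
  Groth.Agent.Lib.AlgSpDescent2_helper7 Groth.Agent.Lib.AlgSpFibre_helper6
  Groth.Agent.Lib.AlgSpPointSp2_helper6

variable {S : Scheme.{u}}

/-- a scheme étale over the spectrum of a field is reduced -/
theorem isReduced_of_etale_field {V : Scheme.{u}} {K : Type u} [Field K]
    (ρ : V ⟶ Spec (CommRingCat.of K)) [Etale ρ] : IsReduced V := by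
  haveI : ∀ i, IsReduced (V.affineCover.X i) := fun i => by
    have hg : Etale ((V.affineCover.X i).isoSpec.inv ≫ V.affineCover.f i ≫ ρ) := inferInstance
    obtain ⟨φ, hφ⟩ := Spec.map_surjective ((V.affineCover.X i).isoSpec.inv ≫ V.affineCover.f i ≫ ρ)
    rw [← hφ, HasRingHomProperty.Spec_iff (P := @Etale)] at hg
    algebraize [φ.hom]
    haveI : _root_.IsReduced Γ(V.affineCover.X i, ⊤) :=
      Algebra.FormallyUnramified.isReduced_of_field K Γ(V.affineCover.X i, ⊤)
    exact isReduced_of_isAffine_isReduced _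
  exact IsReduced.of_openCover V V.affineCover

/-- the morphism to the scheme theoretic image is scheme theoretically dominant -/
theorem isSchemeTheoreticallyDominant_toImage {X Y : Scheme.{u}} (f : X ⟶ Y) [QuasiCompact f] :
    IsSchemeTheoreticallyDominant f.toImage := by
  rw [isSchemeTheoreticallyDominant_iff]
  refine Scheme.IdealSheafData.ext_of_iSup_eq_top
    (fun U : Y.affineOpens => ⟨f.imageι ⁻¹ᵁ U.1, U.2.preimage f.imageι⟩) ?_ (fun U => ?_)
  · change ⨆ U : Y.affineOpens, f.imageι ⁻¹ᵁ U.1 = ⊤
    rw [← Scheme.Hom.preimage_iSup, iSup_affineOpens_eq_top, Scheme.Hom.preimage_top]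
  · rw [Scheme.Hom.ker_apply, Scheme.IdealSheafData.ideal_bot]
    exact (RingHom.injective_iff_ker_eq_bot _).1 (f.toImage_app_injective U)

/-- A quasi-compact monomorphism from a reduced scheme whose image is closed and has no
nontrivial specializations is a closed immersion. -/
theorem isClosedImmersion_of_mono_of_closed_range {V U : Scheme.{u}} (σ : V ⟶ U)
    [QuasiCompact σ] [Mono σ] [IsReduced V] (hcl : IsClosed (Set.range σ))
    (hsp : ∀ y y' : ↥U, y ∈ Set.range σ → y' ∈ Set.range σ → y' ⤳ y → y' = y) :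
    IsClosedImmersion σ := by
  have hrange : Set.range σ.imageι = Set.range σ := by
    rw [Scheme.IdealSheafData.range_subschemeι, Scheme.Hom.support_ker, hcl.closure_eq]
  haveI : IsSchemeTheoreticallyDominant σ.toImage := isSchemeTheoreticallyDominant_toImage σ
  haveI : IsReduced σ.image := IsSchemeTheoreticallyDominant.isReduced σ.toImage
  haveI : Mono σ.toImage := by
    haveI : Mono (σ.toImage ≫ σ.imageι) := by rw [Scheme.Hom.toImage_imageι]; infer_instance
    exact mono_of_mono σ.toImage σ.imageι
  have hinj : Function.Injective σ.imageι := σ.imageι.isEmbedding.injective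
  haveI : Flat σ.toImage := by
    refine flat_of_no_specializations (fun z z' hs => hinj ?_) σ.toImage
    exact hsp _ _ (hrange ▸ ⟨z, rfl⟩) (hrange ▸ ⟨z', rfl⟩) (hs.map σ.imageι.continuous)
  haveI : Surjective σ.toImage := by
    refine ⟨fun z => ?_⟩
    have hz : σ.imageι z ∈ Set.range σ := hrange ▸ ⟨z, rfl⟩
    obtain ⟨v, hv⟩ := hz
    refine ⟨v, hinj ?_⟩
    rw [← hv, ← Scheme.Hom.comp_apply, Scheme.Hom.toImage_imageι]
  haveI : IsIso σ.toImage := Flat.isIso_of_surjective_of_mono σ.toImage
  rw [← σ.toImage_imageι]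
  infer_instance

theorem repWith_isClosedImmersion_of_isClosed {X : Sp S} (hX : IsAlgSpace X) (hd : IsDecent X)
    (x : Points X) (hx : IsClosed ({x} : Set (Points X))) :
    ∃ p : FieldPt X, Points.mk p = x ∧ RepWith @IsClosedImmersion p.toHom := by
  obtain ⟨p, hp, hpm, hpq⟩ := hd x
  refine ⟨p, hp, ?_⟩
  obtain ⟨U, a, hae, has⟩ := hX.atlas
  have R := hpq.rep
  let ρ := R.fst' a
  let σ := R.snd a
  have sq : IsPullback ((yon S).map ρ) ((yon S).map σ) p.toHom a := R.isPullback' a
  haveI hs1 : QuasiCompact σ.left := hpq.property_snd a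
  haveI hs2 : Mono σ.left := by
    haveI := hpm
    have h1 : Mono ((yon S).map σ) := sq.mono_snd_of_mono
    have h2 : Mono σ := (yon S).mono_of_mono_map h1
    infer_instance
  haveI hρ : Etale (X := (R.pullback a).left) (Y := Spec (CommRingCat.of p.K)) ρ.left := by
    have h1 : RepWith @Etale ((yon S).map ρ) := repWith_fst_of_isPullback _ sq hae
    exact (repWith_yon_map_iff _ _).1 h1
  haveI : IsReduced (R.pullback a).left :=
    isReduced_of_etale_field (K := p.K) (V := (R.pullback a).left) ρ.left
  have hrange : Set.range σ.left = Points.ofPt a ⁻¹' {x} := by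
    ext v
    constructor
    · rintro ⟨f, rfl⟩
      change Points.ofPt a (σ.left f) = x
      rw [← ofPt_comp, ← sq.w, ofPt_comp, Points.ofPt_toHom, hp]
    · intro hv
      have hv' : Points.ofPt p.toHom (IsLocalRing.closedPoint p.K) = Points.ofPt a v := by
        rw [Points.ofPt_toHom, hp]; exact hv.symm
      obtain ⟨f, -, hf⟩ := exists_ofPt_eq_of_isPullback sq _ v hv'
      exact ⟨f, hf⟩
  have hcl : IsClosed (Set.range σ.left) := by
    rw [hrange]; exact hx.preimage (Points.continuous_ofPt a)
  have hsp : ∀ y y' : ↥U.left, y ∈ Set.range σ.left → y' ∈ Set.range σ.left → y' ⤳ y →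
      y' = y := by
    intro y y' hy hy' hs
    rw [hrange] at hy hy'
    exact (eq_of_specializes_of_isDecent hd a hae y y' (hy.trans hy'.symm) hs).symm
  have hci : IsClosedImmersion σ.left := isClosedImmersion_of_mono_of_closed_range σ.left hcl hsp
  exact repWith_of_chart @IsClosedImmersion descendsEtale_isClosedImmersion p.toHom R a hae has
    ((yon S).map ρ) σ sq hci

end Groth.Agent.Lib.AlgSpClosedPt_helper6
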