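import Groth.Agent.Lib.AlgSpFibEmb2_helper6

/-!
# Factoring morphisms of algebraic spaces through monomorphisms (helper6)
-/

set_option autoImplicit false
universe u
open CategoryTheory CategoryTheory.Limits AlgebraicGeometry Opposite TopologicalSpace Topology

namespace Groth.Agent.Lib.AlgSpFactor_helper6

open AlgSp Groth.Agent.Lib.AlgSpPoints_helper7 Groth.Agent.Lib.AlgSpQC_helper7
  Groth.Agent.Lib.AlgSpPullback_helper7 Groth.Agent.Lib.AlgSpBasic_helper7
  Groth.Agent.Lib.AlgSpEtale_helper7 Groth.Agent.Lib.AlgSpField_helper7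
  Groth.Agent.Lib.AlgSpDescent_helper7 Groth.Agent.Lib.AlgSpDescent2_helper7
  Groth.Agent.Lib.AlgSpIso_helper7

variable {S : Scheme.{u}}

/-- If `i` is a monomorphism of sheaves, `pY : W ⟶ Y` is an epimorphism and `pY ≫ f` factors
through `i`, then `f` factors through `i`. -/
theorem exists_factor_of_epi_section {Y X Z W : Sp S} (f : Y ⟶ X) (i : Z ⟶ X) [Mono i]
    (pY : W ⟶ Y) [Epi pY] (s : W ⟶ Z) (hs : s ≫ i = pY ≫ f) :
    ∃ g : Y ⟶ Z, g ≫ i = f := by
  have hfac : pullback.lift pY s hs.symm ≫ pullback.fst f i = pY := pullback.lift_fst _ _ _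
  haveI : Epi (pullback.lift pY s hs.symm ≫ pullback.fst f i) := by rw [hfac]; infer_instance
  haveI : Epi (pullback.fst f i) := epi_of_epi (pullback.lift pY s hs.symm) _
  haveI : Mono (pullback.fst f i) := inferInstance
  haveI : IsIso (pullback.fst f i) := isIso_of_mono_of_epi _
  refine ⟨inv (pullback.fst f i) ≫ pullback.snd f i, ?_⟩
  rw [Category.assoc, ← pullback.condition, IsIso.inv_hom_id_assoc]

theorem mono_of_repWith_isClosedImmersion {Z X : Sp S} (i : Z ⟶ X)
    (hi : RepWith @IsClosedImmersion i) : Mono i :=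
  mono_of_repWith_le_mono (P := @IsClosedImmersion)
    (fun _ _ g (hg : IsClosedImmersion g) => (inferInstance : Mono g)) i hi

/-- A morphism from a reduced algebraic space factors through a closed subspace as soon as it does
so on points. -/
theorem exists_factor_of_closed {Y X Z : Sp S} (f : Y ⟶ X) (i : Z ⟶ X)
    (hi : RepWith @IsClosedImmersion i) (hred : EtaleLocally (fun U => IsReduced U) Y)
    (h : Set.range (Points.map f) ⊆ Set.range (Points.map i)) :
    ∃ g : Y ⟶ Z, g ≫ i = f := by
  haveI := mono_of_repWith_isClosedImmersion i hi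
  obtain ⟨UY, pY, hpYe, hpYs, hUred⟩ := hred
  haveI : IsReduced UY.left := hUred
  let c : (yon S).obj UY ⟶ X := pY ≫ f
  let ιY := hi.rep.snd c
  have sqY : IsPullback (hi.rep.fst c) ((yon S).map ιY) i c := hi.rep.isPullback c
  haveI hci : IsClosedImmersion ιY.left := hi.property_snd c
  haveI : Surjective ιY.left := by
    refine ⟨fun u => ?_⟩
    have hu : Points.ofPt c u ∈ Set.range (Points.map i) := by
      apply h
      change Points.ofPt (pY ≫ f) u ∈ _
      rw [← Points.map_ofPt]; exact ⟨_, rfl⟩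
    obtain ⟨z, hz⟩ := hu
    rw [Points.ofPt_eq_map_ofScheme] at hz
    obtain ⟨w, _, hw⟩ := exists_of_isPullback sqY z _ hz
    obtain ⟨v, rfl⟩ := ofScheme_surjective _ w
    refine ⟨v, ?_⟩
    apply ofScheme_injective UY
    rw [← hw, ← Points.ofPt_eq_map_ofScheme, ofPt_yon_map]
  haveI hisoL : IsIso ιY.left := isIso_of_isClosedImmersion_of_surjective ιY.left
  haveI hiso : IsIso ιY := by
    haveI : IsIso ((Over.forget S).map ιY) := hisoL
    exact isIso_of_reflects_iso _ (Over.forget S)
  let s : (yon S).obj UY ⟶ Z := (yon S).map (inv ιY) ≫ hi.rep.fst c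
  have hs : s ≫ i = pY ≫ f := by
    change ((yon S).map (inv ιY) ≫ hi.rep.fst c) ≫ i = c
    rw [Category.assoc, sqY.w, ← Category.assoc, ← Functor.map_comp, IsIso.inv_hom_id]
    erw [(yon S).map_id, Category.id_comp]
  haveI hpYepi : Epi pY := epi_of_atlas pY hpYe hpYs
  exact exists_factor_of_epi_section f i pY s hs

end Groth.Agent.Lib.AlgSpFactor_helper6
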