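import Groth.Prelude.Def_AlgSpInf

/-!
# Formal properties of infinitesimal lifting for morphisms of fppf sheaves (helper6)
-/

set_option autoImplicit false
universe u
open CategoryTheory CategoryTheory.Limits AlgebraicGeometry Opposite

namespace Groth.Agent.Lib.AlgSpInfLift_helper6

open AlgSp

variable {S : Scheme.{u}}

/-- an infinitesimal lifting square on the same thickening with new arrows -/
noncomputable abbrev change {F G : Sp S} {f : F ⟶ G} (sq : InfSq f) {F' G' : Sp S} (f' : F' ⟶ G')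
    (top' : (yon S).obj sq.ptT ⟶ F') (bot' : (yon S).obj sq.ptT' ⟶ G')
    (comm' : top' ≫ f' = (yon S).map sq.j ≫ bot') : InfSq f' :=
  { A := sq.A, commRing := sq.commRing, I := sq.I, sq_zero := sq.sq_zero, str := sq.str,
    top := top', bot := bot', comm := comm' }

theorem hasUniqLift_iff {F G : Sp S} {f : F ⟶ G} (sq : InfSq f) :
    sq.HasUniqLift ↔ sq.HasLift ∧ sq.HasUniq := by
  constructor
  · rintro ⟨l, ⟨h1, h2⟩, hu⟩
    exact ⟨⟨l, h1, h2⟩, fun l1 l2 a1 b1 a2 b2 => (hu l1 ⟨a1, b1⟩).trans (hu l2 ⟨a2, b2⟩).symm⟩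
  · rintro ⟨⟨l, h1, h2⟩, hu⟩
    exact ⟨l, ⟨h1, h2⟩, fun l' h => hu l' l h.1 h.2 h1 h2⟩

theorem isFormallyEtaleMor_iff {F G : Sp S} (f : F ⟶ G) :
    IsFormallyEtaleMor f ↔ IsFormallySmoothMor f ∧ IsFormallyUnramifiedMor f := by
  constructor
  · intro h
    exact ⟨fun sq => ((hasUniqLift_iff sq).1 (h sq)).1, fun sq => ((hasUniqLift_iff sq).1 (h sq)).2⟩
  · rintro ⟨h1, h2⟩ sq
    exact (hasUniqLift_iff sq).2 ⟨h1 sq, h2 sq⟩

variable {F G H : Sp S}

theorem smooth_comp {a : F ⟶ G} {b : G ⟶ H} (ha : IsFormallySmoothMor a)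
    (hb : IsFormallySmoothMor b) : IsFormallySmoothMor (a ≫ b) := by
  intro sq
  have c1 : (sq.top ≫ a) ≫ b = (yon S).map sq.j ≫ sq.bot := by
    rw [Category.assoc]; exact sq.comm
  obtain ⟨l1, h1, h2⟩ := hb (change sq b (sq.top ≫ a) sq.bot c1)
  have h1' : (yon S).map sq.j ≫ l1 = sq.top ≫ a := h1
  have h2' : l1 ≫ b = sq.bot := h2
  obtain ⟨l, h3, h4⟩ := ha (change sq a sq.top l1 h1'.symm)
  have h3' : (yon S).map sq.j ≫ l = sq.top := h3
  have h4' : l ≫ a = l1 := h4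
  exact ⟨l, h3', by rw [← Category.assoc, h4']; exact h2'⟩

theorem unram_comp {a : F ⟶ G} {b : G ⟶ H} (ha : IsFormallyUnramifiedMor a)
    (hb : IsFormallyUnramifiedMor b) : IsFormallyUnramifiedMor (a ≫ b) := by
  intro sq l l' h1 h2 h3 h4
  have c1 : (sq.top ≫ a) ≫ b = (yon S).map sq.j ≫ sq.bot := by
    rw [Category.assoc]; exact sq.comm
  have e1 : (yon S).map sq.j ≫ (l ≫ a) = sq.top ≫ a := by rw [← Category.assoc, h1]
  have e2 : (l ≫ a) ≫ b = sq.bot := by rw [Category.assoc]; exact h2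
  have e3 : (yon S).map sq.j ≫ (l' ≫ a) = sq.top ≫ a := by rw [← Category.assoc, h3]
  have e4 : (l' ≫ a) ≫ b = sq.bot := by rw [Category.assoc]; exact h4
  have e : l ≫ a = l' ≫ a := hb (change sq b (sq.top ≫ a) sq.bot c1) (l ≫ a) (l' ≫ a) e1 e2 e3 e4
  exact ha (change sq a sq.top (l ≫ a) e1.symm) l l' h1 rfl h3 e.symm

theorem etale_comp {a : F ⟶ G} {b : G ⟶ H} (ha : IsFormallyEtaleMor a)
    (hb : IsFormallyEtaleMor b) : IsFormallyEtaleMor (a ≫ b) := by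
  rw [isFormallyEtaleMor_iff] at ha hb ⊢
  exact ⟨smooth_comp ha.1 hb.1, unram_comp ha.2 hb.2⟩

section BaseChange

variable {P : Sp S} {a : F ⟶ G} {b : H ⟶ G} {b' : P ⟶ F} {a' : P ⟶ H}

theorem smooth_baseChange (hP : IsPullback b' a' a b) (ha : IsFormallySmoothMor a) :
    IsFormallySmoothMor a' := by
  intro sq
  have c : (sq.top ≫ b') ≫ a = (yon S).map sq.j ≫ (sq.bot ≫ b) := by
    rw [Category.assoc, hP.w, ← Category.assoc, sq.comm, Category.assoc]
  obtain ⟨l0, h1, h2⟩ := ha (change sq a (sq.top ≫ b') (sq.bot ≫ b) c)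
  have h1' : (yon S).map sq.j ≫ l0 = sq.top ≫ b' := h1
  have h2' : l0 ≫ a = sq.bot ≫ b := h2
  refine ⟨hP.lift l0 sq.bot h2', ?_, hP.lift_snd _ _ _⟩
  apply hP.hom_ext
  · rw [Category.assoc, hP.lift_fst, h1']
  · rw [Category.assoc, hP.lift_snd]; exact sq.comm.symm

theorem unram_baseChange (hP : IsPullback b' a' a b) (ha : IsFormallyUnramifiedMor a) :
    IsFormallyUnramifiedMor a' := by
  intro sq l l' h1 h2 h3 h4
  have c : (sq.top ≫ b') ≫ a = (yon S).map sq.j ≫ (sq.bot ≫ b) := by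
    rw [Category.assoc, hP.w, ← Category.assoc, sq.comm, Category.assoc]
  have e1 : (yon S).map sq.j ≫ (l ≫ b') = sq.top ≫ b' := by rw [← Category.assoc, h1]
  have e2 : (l ≫ b') ≫ a = sq.bot ≫ b := by rw [Category.assoc, hP.w, ← Category.assoc, h2]
  have e3 : (yon S).map sq.j ≫ (l' ≫ b') = sq.top ≫ b' := by rw [← Category.assoc, h3]
  have e4 : (l' ≫ b') ≫ a = sq.bot ≫ b := by rw [Category.assoc, hP.w, ← Category.assoc, h4]
  have e : l ≫ b' = l' ≫ b' :=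
    ha (change sq a (sq.top ≫ b') (sq.bot ≫ b) c) (l ≫ b') (l' ≫ b') e1 e2 e3 e4
  exact hP.hom_ext e (h2.trans h4.symm)

theorem etale_baseChange (hP : IsPullback b' a' a b) (ha : IsFormallyEtaleMor a) :
    IsFormallyEtaleMor a' := by
  rw [isFormallyEtaleMor_iff] at ha ⊢
  exact ⟨smooth_baseChange hP ha.1, unram_baseChange hP ha.2⟩

end BaseChange

section Cancel

variable {a : F ⟶ G} {b : G ⟶ H}

theorem unram_of_comp (h : IsFormallyUnramifiedMor (a ≫ b)) : IsFormallyUnramifiedMor a := by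
  intro sq l l' h1 h2 h3 h4
  have c : sq.top ≫ (a ≫ b) = (yon S).map sq.j ≫ (sq.bot ≫ b) := by
    rw [← Category.assoc, sq.comm, Category.assoc]
  have e2 : l ≫ (a ≫ b) = sq.bot ≫ b := by rw [← Category.assoc, h2]
  have e4 : l' ≫ (a ≫ b) = sq.bot ≫ b := by rw [← Category.assoc, h4]
  exact h (change sq (a ≫ b) sq.top (sq.bot ≫ b) c) l l' h1 e2 h3 e4

theorem smooth_of_comp (hb : IsFormallyUnramifiedMor b) (h : IsFormallySmoothMor (a ≫ b)) :
    IsFormallySmoothMor a := by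
  intro sq
  have c : sq.top ≫ (a ≫ b) = (yon S).map sq.j ≫ (sq.bot ≫ b) := by
    rw [← Category.assoc, sq.comm, Category.assoc]
  obtain ⟨l, h1, h2⟩ := h (change sq (a ≫ b) sq.top (sq.bot ≫ b) c)
  have h1' : (yon S).map sq.j ≫ l = sq.top := h1
  have h2' : l ≫ (a ≫ b) = sq.bot ≫ b := h2
  refine ⟨l, h1', ?_⟩
  have c' : (sq.top ≫ a) ≫ b = (yon S).map sq.j ≫ (sq.bot ≫ b) := by
    rw [Category.assoc]; exact c
  have e1 : (yon S).map sq.j ≫ (l ≫ a) = sq.top ≫ a := by rw [← Category.assoc, h1']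
  have e2 : (l ≫ a) ≫ b = sq.bot ≫ b := by rw [Category.assoc]; exact h2'
  exact hb (change sq b (sq.top ≫ a) (sq.bot ≫ b) c') (l ≫ a) sq.bot e1 e2 sq.comm.symm rfl

theorem etale_of_comp (hb : IsFormallyUnramifiedMor b) (h : IsFormallyEtaleMor (a ≫ b)) :
    IsFormallyEtaleMor a := by
  rw [isFormallyEtaleMor_iff] at h ⊢
  exact ⟨smooth_of_comp hb h.1, unram_of_comp h.2⟩

end Cancel

end Groth.Agent.Lib.AlgSpInfLift_helper6
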