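import Groth.Agent.Lib.FormalEtale_helper7
import Groth.Agent.Lib.AlgSpCov_helper7
import Groth.Agent.Lib.AlgSpIso_helper7
import Groth.Agent.Lib.AlgSpInfLift_helper6
import Groth.Prelude.Def_AlgSpInf

/-!
# Infinitesimal lifting for morphisms of algebraic spaces (helper7)
-/

set_option autoImplicit false
universe u
open CategoryTheory CategoryTheory.Limits AlgebraicGeometry Opposite MorphismProperty
open AlgSp Groth.Agent.Lib.FormalEtale_helper7 Groth.Agent.Lib.AlgSpCov_helper7
  Groth.Agent.Lib.AlgSpOpenSub_helper7 Groth.Agent.Lib.AlgSpPullback_helper7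
  Groth.Agent.Lib.AlgSpIso_helper7 Groth.Agent.Lib.AlgSpInfLift_helper6
  Groth.Agent.Lib.AlgSpQC_helper7 Groth.Agent.Lib.AlgSpPoints_helper7

namespace Groth.Agent.Lib.AlgSpFormal_helper7

variable {S : Scheme.{u}}

/-- Maps out of `h_T` into a sheaf are determined on a covering family. -/
theorem hom_ext_of_cover {T : Over S} {κ : Type u} (Tk : κ → Over S) (c : ∀ k, Tk k ⟶ T)
    (hcov : Sieve.ofArrows Tk c ∈ J S T) {F : Sp S} (u v : (yon S).obj T ⟶ F)
    (h : ∀ k, (yon S).map (c k) ≫ u = (yon S).map (c k) ≫ v) : u = v := by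
  apply (yE (X := F) (T := T)).injective
  have hF : Presieve.IsSheaf (J S) F.obj := (isSheaf_iff_isSheaf_of_type _ _).1 F.property
  have hsep : Presieve.IsSeparatedFor F.obj (Presieve.ofArrows Tk c) :=
    Presieve.isSeparatedFor_iff_generate.2 (hF _ hcov).isSeparatedFor
  refine hsep.ext ?_
  rintro Y f ⟨k⟩
  have e1 := yE_symm_map (c k) (yE u)
  have e2 := yE_symm_map (c k) (yE v)
  rw [Equiv.symm_apply_apply] at e1 e2
  have := congrArg yE ((e1.symm.trans (h k)).trans e2)
  simpa using this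

/-- flat lfp jointly surjective families separate maps into sheaves -/
theorem hom_ext_of_fppf_family {T : Over S} {κ : Type u} (Tk : κ → Over S) (c : ∀ k, Tk k ⟶ T)
    (hf : ∀ k, Flat (c k).left) (hp : ∀ k, LocallyOfFinitePresentation (c k).left)
    (hs : ∀ t : ↥T.left, ∃ k, t ∈ Set.range (c k).left) {F : Sp S} (u v : (yon S).obj T ⟶ F)
    (h : ∀ k, (yon S).map (c k) ≫ u = (yon S).map (c k) ≫ v) : u = v :=
  hom_ext_of_cover Tk c (ofArrows_mem_J Tk c hf hp hs) u v h

section Res

variable {F G : Sp S} {f : F ⟶ G} (sq : InfSq f) {B : Type u} [CommRing B] (φ : sq.A →+* B)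

/-- the restricted big affine scheme -/
noncomputable abbrev resT' : Over S := Over.mk (Spec.map (CommRingCat.ofHom φ) ≫ sq.str)

/-- the restricted small affine scheme -/
noncomputable abbrev resT : Over S :=
  Over.mk (thk (sq.I.map φ) ≫ Spec.map (CommRingCat.ofHom φ) ≫ sq.str)

noncomputable abbrev resJ : resT sq φ ⟶ resT' sq φ := Over.homMk (thk (sq.I.map φ)) rfl

noncomputable abbrev resρ : resT' sq φ ⟶ sq.ptT' := Over.homMk (Spec.map (CommRingCat.ofHom φ)) rfl

noncomputable abbrev resκ : resT sq φ ⟶ sq.ptT :=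
  Over.homMk (Spec.map (CommRingCat.ofHom (kap sq.I φ))) (by
    change Spec.map (CommRingCat.ofHom (kap sq.I φ)) ≫ thk sq.I ≫ sq.str = _
    rw [← Category.assoc, ← thk_map_comm, Category.assoc]
    rfl)

lemma resJ_ρ : resJ sq φ ≫ resρ sq φ = resκ sq φ ≫ sq.j := by
  ext
  exact thk_map_comm sq.I φ

/-- an infinitesimal lifting square on the restricted thickening -/
noncomputable abbrev resSq {F' G' : Sp S} (g : F' ⟶ G') (top : (yon S).obj (resT sq φ) ⟶ F')
    (bot : (yon S).obj (resT' sq φ) ⟶ G') (comm : top ≫ g = (yon S).map (resJ sq φ) ≫ bot) :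
    InfSq g :=
  { A := B, I := sq.I.map φ, sq_zero := map_pow_zero sq.I φ sq.sq_zero,
    str := Spec.map (CommRingCat.ofHom φ) ≫ sq.str, top := top, bot := bot, comm := comm }

end Res

/-- Part 1: representable étale morphisms are formally étale. -/
theorem isFormallyEtaleMor_of_repWith_etale {F G : Sp S} (a : F ⟶ G) (ha : RepWith @Etale a) :
    IsFormallyEtaleMor a := by
  intro sq
  let W := ha.rep.pullback sq.bot
  let p : W ⟶ sq.ptT' := ha.rep.snd sq.bot
  let q : (yon S).obj W ⟶ F := ha.rep.fst sq.bot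
  have hpb : IsPullback q ((yon S).map p) a sq.bot := ha.rep.isPullback sq.bot
  have hp : Etale p.left := ha.property_snd sq.bot
  let s : sq.ptT ⟶ W := ha.rep.lift sq.top sq.j sq.comm
  have hs1 : (yon S).map s ≫ q = sq.top := ha.rep.lift_fst _ _ _
  have hs2 : s ≫ p = sq.j := ha.rep.lift_snd _ _ _
  have hs2' : s.left ≫ p.left = thk sq.I := congrArg (fun m => m.left) hs2
  obtain ⟨l0, ⟨h1, h2⟩, hu⟩ := fe_of_etale p.left sq.A sq.I sq.sq_zero s.left (𝟙 _)
    (by rw [Category.comp_id, hs2'])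
  let l0' : sq.ptT' ⟶ W := Over.homMk l0 (by
    have := Over.w p
    rw [← this, ← Category.assoc, h2]
    exact Category.id_comp _)
  have hjl : sq.j ≫ l0' = s := by
    ext
    exact h1
  have hlp : l0' ≫ p = 𝟙 _ := by
    ext
    exact h2
  refine ⟨(yon S).map l0' ≫ q, ⟨?_, ?_⟩, ?_⟩
  · rw [← Category.assoc, ← Functor.map_comp, hjl, hs1]
  · rw [Category.assoc, hpb.w, ← Category.assoc, ← Functor.map_comp, hlp, (yon S).map_id,
      Category.id_comp]
  · rintro l' ⟨h3, h4⟩
    let r : sq.ptT' ⟶ W := ha.rep.lift l' (𝟙 _) (by rw [h4, (yon S).map_id, Category.id_comp])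
    have hr1 : (yon S).map r ≫ q = l' := ha.rep.lift_fst _ _ _
    have hr2 : r ≫ p = 𝟙 _ := ha.rep.lift_snd _ _ _
    have hjr : sq.j ≫ r = s := by
      apply ha.rep.hom_ext
      · rw [Functor.map_comp, Category.assoc]
        erw [hr1, hs1]
        exact h3
      · rw [Category.assoc]
        erw [hr2, hs2]
        rw [Category.comp_id]
    have : r.left = l0 := hu r.left ⟨congrArg (fun m => m.left) hjr, congrArg (fun m => m.left) hr2⟩
    have hr : r = l0' := by
      ext
      exact this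
    rw [← hr1, hr]

theorem isFormallyUnramifiedMor_of_repWith_etale {F G : Sp S} (a : F ⟶ G) (ha : RepWith @Etale a) :
    IsFormallyUnramifiedMor a :=
  ((isFormallyEtaleMor_iff a).1 (isFormallyEtaleMor_of_repWith_etale a ha)).2

theorem isFormallySmoothMor_of_repWith_etale {F G : Sp S} (a : F ⟶ G) (ha : RepWith @Etale a) :
    IsFormallySmoothMor a :=
  ((isFormallyEtaleMor_iff a).1 (isFormallyEtaleMor_of_repWith_etale a ha)).1

section Top

variable {F G H : Sp S}

/-- one affine piece of the étale-on-top uniqueness argument -/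
theorem unram_piece (a : F ⟶ G) (b : G ⟶ H) (ha : RepWith @Etale a)
    (hab : IsFormallyUnramifiedMor (a ≫ b)) (sq : InfSq b)
    (l l' : (yon S).obj sq.ptT' ⟶ G)
    (h1 : (yon S).map sq.j ≫ l = sq.top) (h2 : l ≫ b = sq.bot)
    (h3 : (yon S).map sq.j ≫ l' = sq.top) (h4 : l' ≫ b = sq.bot)
    {W : Over S} (p : W ⟶ sq.ptT') (q : (yon S).obj W ⟶ F)
    (hpb : q ≫ a = (yon S).map p ≫ l)
    {B : Type u} [CommRing B] (φ : sq.A →+* B) (e : resT' sq φ ⟶ W) (he : e ≫ p = resρ sq φ) :
    (yon S).map (resρ sq φ) ≫ l = (yon S).map (resρ sq φ) ≫ l' := by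
  have key : ∀ m : (yon S).obj sq.ptT' ⟶ G, (yon S).map sq.j ≫ m = sq.top →
      (yon S).map (resJ sq φ) ≫ (yon S).map (resρ sq φ) ≫ m = (yon S).map (resκ sq φ) ≫ sq.top := by
    intro m hm
    rw [← Category.assoc, ← Functor.map_comp, resJ_ρ, Functor.map_comp, Category.assoc, hm]
  have hqa : ((yon S).map e ≫ q) ≫ a = (yon S).map (resρ sq φ) ≫ l := by
    rw [Category.assoc, hpb, ← Category.assoc, ← Functor.map_comp, he]
  let topk : (yon S).obj (resT sq φ) ⟶ F := (yon S).map (resJ sq φ) ≫ (yon S).map e ≫ q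
  have comm_a : topk ≫ a = (yon S).map (resJ sq φ) ≫ (yon S).map (resρ sq φ) ≫ l' := by
    change ((yon S).map (resJ sq φ) ≫ (yon S).map e ≫ q) ≫ a = _
    rw [Category.assoc, hqa, key l h1, key l' h3]
  let sqA : InfSq a := resSq sq φ a topk ((yon S).map (resρ sq φ) ≫ l') comm_a
  obtain ⟨q', hq'1, hq'2⟩ := (isFormallySmoothMor_of_repWith_etale a ha) sqA
  have hq'1' : (yon S).map (resJ sq φ) ≫ q' = topk := hq'1
  have hq'2' : q' ≫ a = (yon S).map (resρ sq φ) ≫ l' := hq'2
  have comm_ab : topk ≫ a ≫ b = (yon S).map (resJ sq φ) ≫ (yon S).map (resρ sq φ) ≫ sq.bot := by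
    rw [← Category.assoc, comm_a, Category.assoc, Category.assoc, h4]
  let sqAB : InfSq (a ≫ b) := resSq sq φ (a ≫ b) topk ((yon S).map (resρ sq φ) ≫ sq.bot) comm_ab
  have huniq := hab sqAB ((yon S).map e ≫ q) q' rfl
    (by
      change ((yon S).map e ≫ q) ≫ a ≫ b = (yon S).map (resρ sq φ) ≫ sq.bot
      rw [← Category.assoc, hqa, Category.assoc, h2])
    hq'1'
    (by
      change q' ≫ a ≫ b = (yon S).map (resρ sq φ) ≫ sq.bot
      rw [← Category.assoc, hq'2', Category.assoc, h4])
  rw [← hqa, huniq, hq'2']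

/-- étale on top: formally unramified descends along a representable étale surjection. -/
theorem unram_of_comp_of_etale_surj (a : F ⟶ G) (b : G ⟶ H) (ha : RepWith @Etale a)
    (ha' : RepWith @Surjective a) (hab : IsFormallyUnramifiedMor (a ≫ b)) :
    IsFormallyUnramifiedMor b := by
  intro sq l l' h1 h2 h3 h4
  let W := ha.rep.pullback l
  let p : W ⟶ sq.ptT' := ha.rep.snd l
  let q : (yon S).obj W ⟶ F := ha.rep.fst l
  have hpb : IsPullback q ((yon S).map p) a l := ha.rep.isPullback l
  have hpe : Etale p.left := ha.property_snd l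
  have hps : Surjective p.left := ha'.property _ _ _ hpb
  let 𝒲 := W.left.affineOpenCover
  let φ : ∀ k : 𝒲.I₀, sq.A →+* (𝒲.X k) := fun k => (Spec.preimage (𝒲.f k ≫ p.left)).hom
  have hφ : ∀ k, Spec.map (CommRingCat.ofHom (φ k)) = 𝒲.f k ≫ p.left :=
    fun k => Spec.map_preimage _
  let e : ∀ k, resT' sq (φ k) ⟶ W := fun k => Over.homMk (𝒲.f k) (by
    change 𝒲.f k ≫ W.hom = Spec.map (CommRingCat.ofHom (φ k)) ≫ sq.str
    rw [hφ k, Category.assoc]
    congr 1
    exact (Over.w p).symm)
  have he : ∀ k, e k ≫ p = resρ sq (φ k) := by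
    intro k
    ext
    exact (hφ k).symm
  refine hom_ext_of_fppf_family (fun k => resT' sq (φ k)) (fun k => resρ sq (φ k)) ?_ ?_ ?_ l l'
    (fun k => unram_piece a b ha hab sq l l' h1 h2 h3 h4 p q hpb.w (φ k) (e k) (he k))
  · intro k
    change Flat (Spec.map (CommRingCat.ofHom (φ k)))
    rw [hφ k]
    infer_instance
  · intro k
    change LocallyOfFinitePresentation (Spec.map (CommRingCat.ofHom (φ k)))
    rw [hφ k]
    infer_instance
  · intro t
    obtain ⟨w, rfl⟩ := hps.surj t
    obtain ⟨k, y, rfl⟩ := 𝒲.openCover.exists_eq w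
    refine ⟨k, y, ?_⟩
    change (Spec.map (CommRingCat.ofHom (φ k))) y = _
    rw [hφ k]
    rfl

end Top

section Charts

/-- A convenient form of Mathlib's `FormallyUnramified.of_hom_ext`. -/
theorem formallyUnramified_of_thk_ext {X Y : Scheme.{u}} (f : X ⟶ Y)
    (H : ∀ (A : Type u) [CommRing A] (I : Ideal A), I ^ 2 = ⊥ →
      ∀ g₁ g₂ : Spec (CommRingCat.of A) ⟶ X, thk I ≫ g₁ = thk I ≫ g₂ → g₁ ≫ f = g₂ ≫ f → g₁ = g₂) :
    FormallyUnramified f := by
  refine FormallyUnramified.of_hom_ext f fun R S' φ hφ hker g₁ g₂ h1 h2 => ?_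
  let I : Ideal R := RingHom.ker φ.hom
  let ψ : R ⧸ I →+* S' := RingHom.kerLift φ.hom
  have hψ : Function.Bijective ψ :=
    ⟨RingHom.kerLift_injective φ.hom, Ideal.Quotient.lift_surjective_of_surjective _ _ hφ⟩
  let e : (CommRingCat.of (R ⧸ I)) ≅ S' := (RingEquiv.ofBijective ψ hψ).toCommRingCatIso
  have hφe : φ = CommRingCat.ofHom (Ideal.Quotient.mk I) ≫ e.hom := by
    ext x
    rfl
  have hSφ : Spec.map φ = Spec.map e.hom ≫ thk I := by
    rw [hφe, Spec.map_comp]
  have h1' : thk I ≫ g₁ = thk I ≫ g₂ := by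
    rw [hSφ, Category.assoc, Category.assoc] at h1
    exact (cancel_epi (Spec.map e.hom)).1 h1
  exact H R I hker g₁ g₂ h1' h2

/-- a formally unramified morphism of schemes over `S` gives a formally unramified map of sheaves -/
theorem isFormallyUnramifiedMor_yon_map {U V : Over S} (g : U ⟶ V)
    (hg : FormallyUnramified g.left) : IsFormallyUnramifiedMor ((yon S).map g) := by
  intro sq l l' h1 h2 h3 h4
  obtain ⟨m, rfl⟩ := (yon S).map_surjective l
  obtain ⟨m', rfl⟩ := (yon S).map_surjective l'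
  have hjm : sq.j ≫ m = sq.j ≫ m' := (yon S).map_injective (by
    rw [Functor.map_comp, Functor.map_comp, h1, h3])
  have hmg : m ≫ g = m' ≫ g := (yon S).map_injective (by
    rw [Functor.map_comp, Functor.map_comp, h2, h4])
  have : m.left = m'.left :=
    FormallyUnramified.hom_ext (thk sq.I) (isNilpotent_ker_thk sq.I sq.sq_zero) g.left
      (congrArg (fun k => k.left) hjm) (congrArg (fun k => k.left) hmg)
  have hm : m = m' := by
    ext
    exact this
  rw [hm]

variable {F G : Sp S}

/-- one chart with surjective étale source chart detects formal unramifiedness -/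
theorem unram_of_chart (f : F ⟶ G) {U V : Over S} (a : (yon S).obj U ⟶ F)
    (b : (yon S).obj V ⟶ G) (h : U ⟶ V) (hae : RepWith @Etale a) (has : RepWith @Surjective a)
    (hbe : RepWith @Etale b) (comm : a ≫ f = (yon S).map h ≫ b)
    (hh : FormallyUnramified h.left) : IsFormallyUnramifiedMor f := by
  have h1 : IsFormallyUnramifiedMor ((yon S).map h ≫ b) :=
    unram_comp (isFormallyUnramifiedMor_yon_map h hh) (isFormallyUnramifiedMor_of_repWith_etale b hbe)
  rw [← comm] at h1
  exact unram_of_comp_of_etale_surj a f hae has h1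

/-- charts of a formally unramified morphism are formally unramified -/
theorem formallyUnramified_chart_of_unram (f : F ⟶ G) (hf : IsFormallyUnramifiedMor f)
    {U V : Over S} (a : (yon S).obj U ⟶ F) (b : (yon S).obj V ⟶ G) (h : U ⟶ V)
    (hae : RepWith @Etale a) (comm : a ≫ f = (yon S).map h ≫ b) : FormallyUnramified h.left := by
  refine formallyUnramified_of_thk_ext h.left fun A _ I hI g₁ g₂ e1 e2 => ?_
  let str : Spec (CommRingCat.of A) ⟶ S := g₁ ≫ U.hom
  let g₁' : Over.mk str ⟶ U := Over.homMk g₁ rfl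
  let g₂' : Over.mk str ⟶ U := Over.homMk g₂ (by
    change g₂ ≫ U.hom = g₁ ≫ U.hom
    rw [← Over.w h, ← Category.assoc, ← Category.assoc, e2])
  let jj : Over.mk (thk I ≫ str) ⟶ Over.mk str := Over.homMk (thk I) rfl
  have hj12 : jj ≫ g₁' = jj ≫ g₂' := by
    ext
    exact e1
  have hg12 : g₁' ≫ h = g₂' ≫ h := by
    ext
    exact e2
  let sqf : InfSq f :=
    { A := A, I := I, sq_zero := hI, str := str,
      top := (yon S).map jj ≫ (yon S).map g₁' ≫ a,
      bot := (yon S).map g₁' ≫ a ≫ f,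
      comm := by simp only [Category.assoc]; rfl }
  have E : (yon S).map g₁' ≫ a = (yon S).map g₂' ≫ a := by
    refine hf sqf _ _ rfl (Category.assoc _ _ _) ?_ ?_
    · change (yon S).map jj ≫ (yon S).map g₂' ≫ a = (yon S).map jj ≫ (yon S).map g₁' ≫ a
      have hJ : (yon S).map jj ≫ (yon S).map g₂' = (yon S).map jj ≫ (yon S).map g₁' := by
        rw [← Functor.map_comp, ← Functor.map_comp, hj12]
      exact (Category.assoc _ _ _).symm.trans ((congrArg (· ≫ a) hJ).trans (Category.assoc _ _ _))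
    · change ((yon S).map g₂' ≫ a) ≫ f = (yon S).map g₁' ≫ a ≫ f
      have hH : (yon S).map g₂' ≫ (yon S).map h = (yon S).map g₁' ≫ (yon S).map h := by
        rw [← Functor.map_comp, ← Functor.map_comp, hg12]
      calc ((yon S).map g₂' ≫ a) ≫ f = (yon S).map g₂' ≫ (yon S).map h ≫ b := by
            rw [Category.assoc, comm]
        _ = ((yon S).map g₂' ≫ (yon S).map h) ≫ b := (Category.assoc _ _ _).symm
        _ = ((yon S).map g₁' ≫ (yon S).map h) ≫ b := by rw [hH]
        _ = (yon S).map g₁' ≫ a ≫ f := by rw [Category.assoc, ← comm]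
  let sqa : InfSq a :=
    { A := A, I := I, sq_zero := hI, str := str,
      top := (yon S).map jj ≫ (yon S).map g₁',
      bot := (yon S).map g₁' ≫ a,
      comm := by simp only [Category.assoc]; rfl }
  have E2 : (yon S).map g₁' = (yon S).map g₂' := by
    refine (isFormallyUnramifiedMor_of_repWith_etale a hae) sqa _ _ rfl rfl ?_ E.symm
    change (yon S).map jj ≫ (yon S).map g₂' = (yon S).map jj ≫ (yon S).map g₁'
    rw [← Functor.map_comp, ← hj12, Functor.map_comp]
  exact congrArg (fun k => k.left) ((yon S).map_injective E2)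

/-- compatible surjective étale charts of a morphism of algebraic spaces -/
theorem exists_chart_square (hF : IsAlgSpace F) (hG : IsAlgSpace G) (f : F ⟶ G) :
    ∃ (U V : Over S) (a : (yon S).obj U ⟶ F) (b : (yon S).obj V ⟶ G) (h : U ⟶ V),
      RepWith @Etale a ∧ RepWith @Surjective a ∧ RepWith @Etale b ∧ RepWith @Surjective b ∧
      a ≫ f = (yon S).map h ≫ b := by
  obtain ⟨V, b, hbe, hbs⟩ := hG.atlas
  have sq := IsPullback.of_hasPullback f b
  have hP : IsAlgSpace (pullback f b) :=
    isAlgSpace_of_isPullback hG.diag hF (IsAlgSpace.yon_obj V) sq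
  obtain ⟨U, a₀, hae, has⟩ := hP.atlas
  obtain ⟨h, hh⟩ := (yon S).map_surjective (a₀ ≫ pullback.snd f b)
  refine ⟨U, V, a₀ ≫ pullback.fst f b, b, h,
    repWith_comp _ hae (repWith_fst_of_isPullback _ sq hbe),
    repWith_comp _ has (repWith_fst_of_isPullback _ sq hbs), hbe, hbs, ?_⟩
  rw [Category.assoc, pullback.condition, ← Category.assoc, hh]

theorem unram_iff_locP (hF : IsAlgSpace F) (hG : IsAlgSpace G) (f : F ⟶ G) :
    IsFormallyUnramifiedMor f ↔ LocP @FormallyUnramified f := by
  constructor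
  · intro hf U V a b h hae _ comm
    exact formallyUnramified_chart_of_unram f hf a b h hae comm
  · intro hL
    obtain ⟨U, V, a, b, h, hae, has, hbe, -, comm⟩ := exists_chart_square hF hG f
    exact unram_of_chart f a b h hae has hbe comm (hL a b h hae hbe comm)

end Charts

end Groth.Agent.Lib.AlgSpFormal_helper7
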