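import Groth.Agent.Lib.AlgSpEtale_helper7
import Groth.Agent.Lib.AlgSpOpen_helper7
import Mathlib.AlgebraicGeometry.Morphisms.Proper
import Mathlib.AlgebraicGeometry.ZariskisMainTheorem

/-!
# Proper morphisms of algebraic spaces (helper7)
-/

set_option autoImplicit false
universe u
open CategoryTheory CategoryTheory.Limits AlgebraicGeometry Opposite

namespace Groth.Agent.Lib.AlgSpProper_helper7

open AlgSp Groth.Agent.Lib.AlgSpQC2_helper7 Groth.Agent.Lib.AlgSpPoints_helper7
  Groth.Agent.Lib.AlgSpQC_helper7 Groth.Agent.Lib.AlgSpDiag_helper7 Groth.Agent.Lib.AlgSpTop_helper7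
  Groth.Agent.Lib.AlgSpPullback_helper7 Groth.Agent.Lib.AlgSpSep_helper7
  Groth.Agent.Lib.AlgSpLocP_helper7 Groth.Agent.Lib.AlgSpUniv_helper7

variable {S : Scheme.{u}}

/-- A representable proper morphism is proper. -/
theorem isProperMor_of_repWith {X Y : Sp S} (f : X ⟶ Y) (hf : RepWith @IsProper f) :
    IsProperMor f := by
  refine ⟨?_, ⟨?_, ?_⟩, ?_⟩
  · show RepWith @IsClosedImmersion (pullback.diagonal f)
    rw [repWith_diagonal_iff_of_representable _ f hf.rep]
    refine repWith_mono ?_ hf
    intro A B g hg
    have : IsProper g := hg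
    exact (inferInstance : IsClosedImmersion (pullback.diagonal g))
  · refine locP_of_repWith _ (fun A B g hg => (inferInstance : LocallyOfFiniteType g)) f
      (repWith_mono ?_ hf)
    intro A B g hg
    have : IsProper g := hg
    exact (inferInstance : LocallyOfFiniteType g)
  · apply isQuasiCompactMor_of_repWith
    refine repWith_mono ?_ hf
    intro A B g hg
    have : IsProper g := hg
    exact (inferInstance : QuasiCompact g)
  · rw [← repWith_universallyClosed_iff f hf.rep]
    refine repWith_mono ?_ hf
    intro A B g hg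
    have : IsProper g := hg
    exact (inferInstance : UniversallyClosed g)

theorem isProperMor_of_repWith_isClosedImmersion {X Y : Sp S} (f : X ⟶ Y)
    (hf : RepWith @IsClosedImmersion f) : IsProperMor f :=
  isProperMor_of_repWith f (repWith_mono (fun A B g hg => by
    have : IsClosedImmersion g := hg
    exact (inferInstance : IsProper g)) hf)

theorem isSeparatedMor_of_isUnivClosedMor_diagonal {X Y : Sp S} (hX : IsAlgSpace X) (f : X ⟶ Y)
    (h : IsUnivClosedMor (pullback.diagonal f)) : IsSeparatedMor f := by
  obtain ⟨h1, h2, h3, -⟩ := diagonal_properties hX f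
  have h4 := (repWith_universallyClosed_iff _ h1.rep).2 h
  have := repWith_inf (repWith_inf (repWith_inf h1 h2) h3) h4
  refine repWith_mono ?_ this
  rintro A B g ⟨⟨⟨hg1, hg2⟩, hg3⟩, hg4⟩
  have : LocallyOfFiniteType g := hg1
  have : Mono g := hg2
  have : IsSeparated g := hg3
  have : UniversallyClosed g := hg4
  have : IsProper g := {}
  exact (IsClosedImmersion.iff_isProper_and_mono g).2 ⟨inferInstance, inferInstance⟩

open Groth.Agent.Lib.AlgSpDescent_helper7 in
/-- For a representable morphism to an algebraic space, `LocP P` implies `RepWith P` when `P`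
descends along étale covers of the target. -/
theorem repWith_of_locP (P : MorphismProperty Scheme.{u}) [P.IsStableUnderBaseChange]
    (hP : DescendsEtale P) {X Y : Sp S} (hY : IsAlgSpace Y) (f : X ⟶ Y) (hf : Representable f)
    (h : LocP P f) : RepWith P f := by
  obtain ⟨V, q, hqe, hqs⟩ := hY.atlas
  have sq := hf.isPullback q
  have h1 : RepWith @Etale (hf.fst q) := repWith_fst_of_isPullback _ sq hqe
  exact repWith_of_chart P hP f hf q hqe hqs _ _ sq (h _ _ _ h1 hqe sq.w)

open Groth.Agent.Lib.AlgSpDescent_helper7 in
/-- A representable morphism which is proper is representable by proper morphisms. -/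
theorem repWith_isProper_of_isProperMor {X Y : Sp S} (hY : IsAlgSpace Y) (f : X ⟶ Y)
    (hf : Representable f) (h : IsProperMor f) : RepWith @IsProper f := by
  obtain ⟨h1, ⟨h2, -⟩, h3⟩ := h
  have h1' : RepWith @IsSeparated f := by
    have := (repWith_diagonal_iff_of_representable _ f hf).1 h1
    refine repWith_mono ?_ this
    intro A B g hg
    exact ⟨hg⟩
  have h2' : RepWith @LocallyOfFiniteType f :=
    repWith_of_locP _ (descendsEtale_of_descendsAlong _) hY f hf h2
  have h3' := (repWith_universallyClosed_iff f hf).2 h3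
  refine repWith_mono ?_ (repWith_inf (repWith_inf h1' h2') h3')
  rintro A B g ⟨⟨hg1, hg2⟩, hg3⟩
  have : IsSeparated g := hg1
  have : LocallyOfFiniteType g := hg2
  have : UniversallyClosed g := hg3
  exact {}

open Groth.Agent.Lib.AlgSpFpqc_helper7

/-- An isomorphism of sheaves is representable with every property containing isomorphisms. -/
theorem repWith_of_isIso (Q : MorphismProperty Scheme.{u}) [Q.ContainsIdentities] [Q.RespectsIso]
    {F G : Sp S} (f : F ⟶ G) [IsIso f] : RepWith Q f := by
  refine ⟨Functor.relativelyRepresentable.of_isIso _ f, fun T V g fst snd sq => ?_⟩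
  have h1 : IsIso ((yon S).map snd) := sq.isIso_snd_of_isIso
  have h2 : IsIso snd := isIso_of_fully_faithful (yon S) snd
  have h3 : IsIso snd.left := inferInstanceAs (IsIso ((Over.forget S).map snd))
  exact Q.of_isIso snd.left

/-- A monomorphism of sheaves is separated. -/
theorem isSeparatedMor_of_mono {F G : Sp S} (m : F ⟶ G) [Mono m] : IsSeparatedMor m := by
  have : IsIso (pullback.diagonal m) := (pullback.isIso_diagonal_iff m).2 inferInstance
  exact repWith_of_isIso _ _

/-- Cancellation for separated morphisms. -/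
theorem isSeparatedMor_of_comp {X Y Z : Sp S} (f : X ⟶ Y) (g : Y ⟶ Z)
    (h : IsSeparatedMor (f ≫ g)) : IsSeparatedMor f := by
  have sq := pullback_map_diagonal_isPullback f f g
  have hm : Mono (pullback.diagonal g) := inferInstance
  have hm' : Mono (pullback.map f f (f ≫ g) (f ≫ g) (𝟙 _) (𝟙 _) g (Category.id_comp _).symm
      (Category.id_comp _).symm) := sq.mono_snd_of_mono
  have hd : pullback.diagonal f ≫ pullback.map f f (f ≫ g) (f ≫ g) (𝟙 _) (𝟙 _) g
      (Category.id_comp _).symm (Category.id_comp _).symm = pullback.diagonal (f ≫ g) := by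
    apply pullback.hom_ext
    · rw [Category.assoc, pullback.lift_fst, ← Category.assoc, pullback.diagonal_fst,
        pullback.diagonal_fst, Category.id_comp]
    · rw [Category.assoc, pullback.lift_snd, ← Category.assoc, pullback.diagonal_snd,
        pullback.diagonal_snd, Category.id_comp]
  have := isSeparatedMor_of_mono (pullback.map f f (f ≫ g) (f ≫ g) (𝟙 _) (𝟙 _) g
      (Category.id_comp _).symm (Category.id_comp _).symm)
  exact repWith_of_comp_of_diagonal _ (pullback.diagonal f) _ (by rw [hd]; exact h) this

/-- `UnivSp` of a property stable under composition is stable under composition (through an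
algebraic space, over a sheaf with representable diagonal). -/
theorem univSp_comp (T : MorphismProperty (Sp S)) [T.IsStableUnderComposition] {X Y B : Sp S}
    (hY : IsAlgSpace Y) (hB : Representable (Limits.diag B)) (f : X ⟶ Y) (g : Y ⟶ B)
    (hf : UnivSp T f) (hg : UnivSp T g) : UnivSp T (f ≫ g) := by
  intro Z Z' hZ c fst snd sq
  have sqg := IsPullback.of_hasPullback g c
  have hYZ : IsAlgSpace (pullback g c) := isAlgSpace_of_isPullback hB hY hZ sqg
  let l : Z' ⟶ pullback g c := sqg.lift (fst ≫ f) snd (by rw [Category.assoc]; exact sq.w)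
  have hl1 : l ≫ pullback.fst g c = fst ≫ f := sqg.lift_fst _ _ _
  have hl2 : l ≫ pullback.snd g c = snd := sqg.lift_snd _ _ _
  have sqf : IsPullback fst l f (pullback.fst g c) := by
    refine IsPullback.of_bot ?_ hl1.symm sqg
    rw [hl2]
    exact sq
  have h1 : T l := hf hYZ _ _ _ sqf
  have h2 : T (pullback.snd g c) := hg hZ _ _ _ sqg
  rw [← hl2]
  exact T.comp_mem _ _ h1 h2

theorem isUnivClosedMor_of_comp_isSurjectiveMor {W X Y : Sp S} (a : W ⟶ X) (p : X ⟶ Y)
    (ha : IsSurjectiveMor a) (h : IsUnivClosedMor (a ≫ p)) : IsUnivClosedMor p := by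
  intro Z Z' hZ g fst snd sq
  have sqa := IsPullback.of_hasPullback a fst
  have hs : IsSurjectiveMor (pullback.snd a fst) := isSurjectiveMor_of_isPullback sqa ha
  have ho := h hZ g _ _ (sqa.paste_vert sq)
  intro O hO
  rw [image_map_eq_of_surjective _ snd hs]
  exact ho _ (hO.preimage (Points.continuous_map _))

instance : (IsClosedMor (S := S)).IsStableUnderComposition where
  comp_mem f g hf hg := by
    show IsClosedMap (Points.map (f ≫ g))
    have : Points.map (f ≫ g) = Points.map g ∘ Points.map f := by
      ext x; exact Points.map_comp f g x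
    rw [this]
    exact IsClosedMap.comp hg hf

/-- A universally closed morphism is closed on points. -/
theorem isClosedMap_of_isUnivClosedMor {X Y : Sp S} (hY : IsAlgSpace Y) (f : X ⟶ Y)
    (h : IsUnivClosedMor f) : IsClosedMap (Points.map f) :=
  h hY (𝟙 Y) (𝟙 X) f (IsPullback.of_horiz_isIso ⟨by simp⟩)

/-- Over a separated `q`, a morphism `f` with `f ≫ q` universally closed is universally closed. -/
theorem isUnivClosedMor_of_comp_of_isSeparatedMor {X Y B : Sp S} (hX : IsAlgSpace X)
    (hY : IsAlgSpace Y) (hB : Representable (Limits.diag B)) (f : X ⟶ Y) (q : Y ⟶ B)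
    (hq : IsSeparatedMor q) (h : IsUnivClosedMor (f ≫ q)) : IsUnivClosedMor f := by
  have sqΓ := pullback_lift_diagonal_isPullback f q
  have h1 : RepWith @IsClosedImmersion (pullback.lift (𝟙 X) f (by simp) :
      X ⟶ pullback (f ≫ q) q) := repWith_snd_of_isPullback _ sqΓ hq
  have h2 : IsUnivClosedMor (pullback.lift (𝟙 X) f (by simp) : X ⟶ pullback (f ≫ q) q) := by
    rw [← repWith_universallyClosed_iff _ h1.rep]
    refine repWith_mono ?_ h1
    intro A B' g hg
    have : IsClosedImmersion g := hg
    exact (inferInstance : UniversallyClosed g)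
  have sqP := IsPullback.of_hasPullback (f ≫ q) q
  have h3 : IsUnivClosedMor (pullback.snd (f ≫ q) q) := univSp_of_isPullback _ sqP h
  have hP : IsAlgSpace (pullback (f ≫ q) q) := isAlgSpace_of_isPullback hB hX hY sqP
  have := univSp_comp IsClosedMor hP hY.diag _ _ h2 h3
  rwa [pullback.lift_snd] at this

open Groth.Agent.Lib.AlgSpDescent_helper7 in
/-- Cancellation for `LocP P`, for `P` with unconditional cancellation that descends along étale
covers of the target. -/
theorem locP_of_comp (P : MorphismProperty Scheme.{u}) [P.IsStableUnderBaseChange]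
    (hP : DescendsEtale P)
    (hc : ∀ ⦃A B C : Scheme.{u}⦄ (f : A ⟶ B) (g : B ⟶ C), P (f ≫ g) → P f)
    {X Y Z : Sp S} (hZ : IsAlgSpace Z) (f : X ⟶ Y) (g : Y ⟶ Z) (h : LocP P (f ≫ g)) :
    LocP P f := by
  intro U V a b k hae hbe comm
  obtain ⟨W, c, hce, hcs⟩ := hZ.atlas
  -- `V' = V ×_Z W`
  let V' := hce.rep.pullback (b ≫ g)
  let π : V' ⟶ V := hce.rep.snd (b ≫ g)
  let w : V' ⟶ W := hce.rep.fst' (b ≫ g)
  have sqV : IsPullback ((yon S).map w) ((yon S).map π) c (b ≫ g) := hce.rep.isPullback' _
  have hπe : Etale π.left := hce.property_snd _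
  have hπs : Surjective π.left := hcs.property _ _ _ (hce.rep.isPullback _)
  -- `U' = U ×_V V'`
  have sqU := IsPullback.of_hasPullback k π
  have sqU' : IsPullback (pullback.fst k π).left (pullback.snd k π).left k.left π.left :=
    sqU.map (Over.forget S)
  have hπ'e : Etale (pullback.fst k π).left := MorphismProperty.of_isPullback sqU'.flip hπe
  have ha' : RepWith @Etale ((yon S).map (pullback.fst k π) ≫ a) :=
    repWith_comp _ ((repWith_yon_map_iff _ _).2 hπ'e) hae
  have hcomm : ((yon S).map (pullback.fst k π) ≫ a) ≫ f ≫ g =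
      (yon S).map (pullback.snd k π ≫ w) ≫ c := by
    rw [Category.assoc, ← Category.assoc a, comm, Functor.map_comp, Category.assoc,
      Category.assoc, sqV.w, ← Category.assoc, ← Category.assoc, ← Functor.map_comp,
      sqU.w, Functor.map_comp, Category.assoc, Category.assoc]
  have h1 : P (pullback.snd k π ≫ w).left := h _ _ _ ha' hce hcomm
  have h2 : P (pullback.snd k π).left := hc _ w.left (by rwa [Over.comp_left] at h1)
  exact hP sqU' hπe hπs h2

end Groth.Agent.Lib.AlgSpProper_helper7
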