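import Groth.Agent.Lib.AlgSpUnramLocal_helper7
import Groth.Agent.Lib.AlgSpFormal_helper7
import Groth.Agent.Lib.AlgSpProper_helper7
import Groth.Agent.Lib.AlgSpFactor_helper6

/-! # Closed immersions of algebraic spaces: universally closed monomorphisms (helper7) -/

set_option autoImplicit false
set_option linter.style.haveILetI false
set_option backward.isDefEq.respectTransparency false
set_option backward.isDefEq.respectTransparency.types false

universe u

open CategoryTheory CategoryTheory.Limits AlgebraicGeometry Opposite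

namespace Groth.Agent.Lib.AlgSpUnramLocal

open AlgSp Groth.Agent.Lib.AlgStLocQ
  Groth.Agent.Lib.AlgSpQC_helper7 Groth.Agent.Lib.AlgSpDiag_helper7
  Groth.Agent.Lib.AlgSpPullback_helper7 Groth.Agent.Lib.AlgSpRepBySp_helper7
  Groth.Agent.Lib.AlgSpPoints_helper7 Groth.Agent.Lib.AlgSpLocP_helper7
  Groth.Agent.Lib.AlgSpBasic_helper7 Groth.Agent.Lib.AlgSpSep_helper7
  Groth.Agent.Lib.AlgSpLocP4_helper7 Groth.Agent.Lib.AlgSpLocP5_helper7
  Groth.Agent.Lib.AlgSpLocP7_helper7 Groth.Agent.Lib.AlgSpQC2_helper7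
  Groth.Agent.Lib.AlgSpLocP8_helper7 Groth.Agent.Lib.AlgSpLocP10_helper7
  Groth.Agent.Lib.AlgSpFpqc3_helper7 Groth.Agent.Lib.AlgSpLocP6_helper7
  Groth.Agent.Lib.AlgSpFpqc2_helper7 Groth.Agent.Lib.AlgSpFpqc_helper7
  Groth.Agent.Lib.AlgSpOpenSub_helper7 Groth.Agent.Lib.AlgSpOpen_helper7
  Groth.Agent.Lib.AlgSpUnram_helper7

variable {S : Scheme.{u}}

theorem toBase_comp {X : Sp S} {V V' : Over S} (c' : X ⟶ (yon S).obj V') (j : V' ⟶ V)
    (x : Points X) : toBase (c' ≫ (yon S).map j) x = j.left (toBase c' x) := by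
  unfold toBase
  rw [Points.map_comp]
  have h1 := Points.map_yon_map_apply j (Points.toScheme V' (Points.map c' x))
  have h2 : Points.schemeHomeo V' (Points.toScheme V' (Points.map c' x)) = Points.map c' x :=
    Points.ofScheme_toScheme V' _
  rw [h2] at h1
  rw [h1]
  exact Points.toScheme_ofScheme V _

theorem isClosedMap_toBase {X : Sp S} {V : Over S} (c : X ⟶ (yon S).obj V)
    (h : IsClosedMap (Points.map c)) : IsClosedMap (toBase c) :=
  (Points.schemeHomeo V).symm.isClosedMap.comp h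

theorem sepProp_of_univClosed {X : Sp S} {V : Over S} (c : X ⟶ (yon S).obj V) [Mono c]
    (huc : IsUnivClosedMor c) : SepProp c := by
  intro W e hW he XW q₁ cW sqW O hO x₀ hx₀ hcl
  haveI : Mono cW := sqW.mono_snd_of_mono
  have hclosed : IsClosedMap (Points.map cW) :=
    huc (IsAlgSpace.yon_obj W) ((yon S).map e) q₁ cW sqW
  have h1 : IsClosed (toBase cW '' Oᶜ) := isClosedMap_toBase cW hclosed _ hO.isClosed_compl
  rw [h1.closure_eq] at hcl
  obtain ⟨x, hx, hxx⟩ := hcl
  exact hx (by rw [toBase_injective cW hxx]; exact hx₀)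

theorem repWith_isClosedImmersion_to_scheme {X : Sp S} (hX : IsAlgSpace X) {V : Over S}
    (c : X ⟶ (yon S).obj V) [Mono c] (hlft : LocP @LocallyOfFiniteType c)
    (huc : IsUnivClosedMor c) : RepWith @IsClosedImmersion c := by
  obtain ⟨Y, y, θ, hy, hθ⟩ := exists_immersion_of_sepProp hX c hlft (sepProp_of_univClosed c huc)
  haveI : IsImmersion y.left := hy
  have hclosed : IsClosedMap (toBase c) :=
    isClosedMap_toBase c (huc (IsAlgSpace.yon_obj V) (𝟙 _) (𝟙 _) c
      (IsPullback.of_horiz_isIso ⟨by simp⟩))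
  have hr : Set.range y.left = Set.range (toBase c) := by
    ext v
    constructor
    · rintro ⟨t, rfl⟩
      refine ⟨Points.ofPt θ.inv t, ?_⟩
      rw [← hθ, toBase_comp,
        toBase_ofPt θ.hom θ.inv (𝟙 Y)
          (by rw [Iso.inv_hom_id]; exact ((yon S).map_id Y).symm) t]
      rfl
    · rintro ⟨x, rfl⟩
      refine ⟨toBase θ.hom x, ?_⟩
      rw [← hθ, toBase_comp]
  haveI : IsClosedImmersion y.left :=
    IsClosedImmersion.of_isPreimmersion _ (by rw [hr]; exact hclosed.isClosed_range)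
  rw [← hθ]
  exact MorphismProperty.RespectsIso.precomp _ θ.hom _
    ((repWith_yon_map_iff @IsClosedImmersion y).2 inferInstance)

/-- A universally closed monomorphism locally of finite type of algebraic spaces is a closed
immersion. -/
theorem repWith_isClosedImmersion_of_univClosed_mono {X Y : Sp S} (hX : IsAlgSpace X)
    (hY : IsAlgSpace Y) (f : X ⟶ Y) [Mono f] (hlft : LocP @LocallyOfFiniteType f)
    (huc : IsUnivClosedMor f) : RepWith @IsClosedImmersion f := by
  apply MorphismProperty.relative.of_exists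
  intro T g
  have sq := IsPullback.of_hasPullback f g
  have hP := isAlgSpace_of_isPullback hY.diag hX (IsAlgSpace.yon_obj T) sq
  haveI : Mono (pullback.snd f g) := sq.mono_snd_of_mono
  have h1 : RepWith @IsClosedImmersion (pullback.snd f g) :=
    repWith_isClosedImmersion_to_scheme hP _
      (locP_baseChange etLocal_locallyOfFiniteType hX hY (IsAlgSpace.yon_obj T) f g _ _ sq hlft)
      (univSp_of_isPullback _ sq huc)
  obtain ⟨Z, z, fst, sq'⟩ := h1.rep (𝟙 _)
  haveI : IsIso fst := sq'.isIso_fst_of_isIso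
  have hz : fst ≫ pullback.snd f g = (yon S).map z := by rw [sq'.w, Category.comp_id]
  have left : IsPullback fst (fst ≫ pullback.snd f g) (pullback.snd f g) (𝟙 _) :=
    IsPullback.of_horiz_isIso ⟨by simp⟩
  have all := left.paste_horiz sq
  rw [hz, Category.id_comp] at all
  exact ⟨Z, fst ≫ pullback.fst f g, z, all, h1.property _ _ _ sq'⟩

theorem isUnivInjectiveMor_of_mono {X Y : Sp S} (f : X ⟶ Y) [Mono f] : IsUnivInjectiveMor f := by
  intro Z Z' hZ g fst snd sq
  haveI : Mono snd := sq.mono_snd_of_mono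
  exact map_injective_of_mono snd

theorem mono_of_unramified_of_univInjective {X Y : Sp S} (hX : IsAlgSpace X) (hY : IsAlgSpace Y)
    (f : X ⟶ Y) (hunr : LocP (@LocallyOfFiniteType ⊓ @FormallyUnramified) f)
    (hinj : IsUnivInjectiveMor f) : Mono f := by
  have hΔ : RepWith @IsOpenImmersion (pullback.diagonal f) :=
    repWith_isOpenImmersion_diagonal hX hY f hunr
  have sq := IsPullback.of_hasPullback f f
  have h1 : Function.Injective (Points.map (pullback.snd f f)) :=
    hinj hX f (pullback.fst f f) (pullback.snd f f) sq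
  have hs : IsSurjectiveMor (pullback.diagonal f) := by
    intro z
    refine ⟨Points.map (pullback.snd f f) z, ?_⟩
    apply h1
    rw [← Points.map_comp, pullback.diagonal_snd]
    -- Points.map (𝟙 X) _ = _
    obtain ⟨K, _, sK, m, hm⟩ := mk_surjective' (Points.map (pullback.snd f f) z)
    rw [← hm, map_mk_ofHom, Category.comp_id]
  haveI : IsIso (pullback.diagonal f) := isIso_of_openImmersion_of_surjective _ hΔ hs
  exact (pullback.isIso_diagonal_iff f).1 inferInstance

theorem closedImmersion_props {X Y : Sp S} (hX : IsAlgSpace X) (hY : IsAlgSpace Y) (f : X ⟶ Y)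
    (hf : RepWith @IsClosedImmersion f) :
    IsUnivClosedMor f ∧ LocP (@LocallyOfFiniteType ⊓ @FormallyUnramified) f ∧ Mono f ∧
      IsUnivInjectiveMor f ∧ LocP @LocallyOfFiniteType f ∧ IsFormallyUnramifiedMor f := by
  have huc : IsUnivClosedMor f :=
    (Groth.Agent.Lib.AlgSpProper_helper7.isProperMor_of_repWith_isClosedImmersion f hf).2.2
  have hunr : LocP (@LocallyOfFiniteType ⊓ @FormallyUnramified) f :=
    locP_of_repWith (@LocallyOfFiniteType ⊓ @FormallyUnramified)
      (fun _ _ g (hg : Etale g) =>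
        ⟨(inferInstance : LocallyOfFiniteType g), (inferInstance : FormallyUnramified g)⟩) f
      (repWith_mono (fun _ _ g (hg : IsClosedImmersion g) =>
        ⟨(inferInstance : LocallyOfFiniteType g), (inferInstance : FormallyUnramified g)⟩) hf)
  haveI hm : Mono f := Groth.Agent.Lib.AlgSpFactor_helper6.mono_of_repWith_isClosedImmersion f hf
  refine ⟨huc, hunr, hm, isUnivInjectiveMor_of_mono f,
    fun _ _ a b h ha hb comm => (hunr a b h ha hb comm).1, ?_⟩
  exact (Groth.Agent.Lib.AlgSpFormal_helper7.unram_iff_locP hX hY f).2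
    (fun _ _ a b h ha hb comm => (hunr a b h ha hb comm).2)

/-- S10614. -/
theorem closedImmersion_tfae {X Y : AlgSp.Space S} (f : X ⟶ Y) :
    (AlgSp.RepWith @IsClosedImmersion f.hom ↔
      (AlgSp.IsUnivClosedMor f.hom ∧ AlgSp.LocP (@LocallyOfFiniteType ⊓ @FormallyUnramified) f.hom ∧ Mono f.hom)) ∧
    (AlgSp.RepWith @IsClosedImmersion f.hom ↔
      (AlgSp.IsUnivClosedMor f.hom ∧ AlgSp.LocP (@LocallyOfFiniteType ⊓ @FormallyUnramified) f.hom ∧ AlgSp.IsUnivInjectiveMor f.hom)) ∧
    (AlgSp.RepWith @IsClosedImmersion f.hom ↔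
      (AlgSp.IsUnivClosedMor f.hom ∧ AlgSp.LocP @LocallyOfFiniteType f.hom ∧ Mono f.hom)) ∧
    (AlgSp.RepWith @IsClosedImmersion f.hom ↔
      (AlgSp.IsUnivClosedMor f.hom ∧ AlgSp.IsUnivInjectiveMor f.hom ∧ AlgSp.LocP @LocallyOfFiniteType f.hom ∧
        AlgSp.IsFormallyUnramifiedMor f.hom)) := by
  have hX := X.property
  have hY := Y.property
  have key : AlgSp.IsUnivClosedMor f.hom → AlgSp.LocP @LocallyOfFiniteType f.hom → Mono f.hom →
      AlgSp.RepWith @IsClosedImmersion f.hom := fun huc hlft hm =>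
    haveI := hm
    repWith_isClosedImmersion_of_univClosed_mono hX hY f.hom hlft huc
  have key2 : AlgSp.IsUnivClosedMor f.hom →
      AlgSp.LocP (@LocallyOfFiniteType ⊓ @FormallyUnramified) f.hom →
      AlgSp.IsUnivInjectiveMor f.hom → AlgSp.RepWith @IsClosedImmersion f.hom :=
    fun huc hunr hinj =>
      key huc (fun _ _ a b h ha hb comm => (hunr a b h ha hb comm).1)
        (mono_of_unramified_of_univInjective hX hY f.hom hunr hinj)
  refine ⟨⟨fun hf => ?_, fun h => ?_⟩, ⟨fun hf => ?_, fun h => ?_⟩, ⟨fun hf => ?_, fun h => ?_⟩,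
    ⟨fun hf => ?_, fun h => ?_⟩⟩
  · obtain ⟨h1, h2, h3, h4, h5, h6⟩ := closedImmersion_props hX hY f.hom hf
    exact ⟨h1, h2, h3⟩
  · exact key h.1 (fun _ _ a b h' ha hb comm => (h.2.1 a b h' ha hb comm).1) h.2.2
  · obtain ⟨h1, h2, h3, h4, h5, h6⟩ := closedImmersion_props hX hY f.hom hf
    exact ⟨h1, h2, h4⟩
  · exact key2 h.1 h.2.1 h.2.2
  · obtain ⟨h1, h2, h3, h4, h5, h6⟩ := closedImmersion_props hX hY f.hom hf
    exact ⟨h1, h5, h3⟩
  · exact key h.1 h.2.1 h.2.2
  · obtain ⟨h1, h2, h3, h4, h5, h6⟩ := closedImmersion_props hX hY f.hom hf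
    exact ⟨h1, h4, h5, h6⟩
  · refine key2 h.1 ?_ h.2.1
    have hfu := (Groth.Agent.Lib.AlgSpFormal_helper7.unram_iff_locP hX hY f.hom).1 h.2.2.2
    exact fun _ _ a b h' ha hb comm => ⟨h.2.2.1 a b h' ha hb comm, hfu a b h' ha hb comm⟩

end Groth.Agent.Lib.AlgSpUnramLocal
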