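import Groth.Agent.Lib.AlgSpPointSp2_helper6
import Mathlib.RingTheory.KrullDimension.Zero

/-!
# Points of codimension zero: no nontrivial generizations (helper6)
-/

set_option autoImplicit false
universe u
open CategoryTheory CategoryTheory.Limits AlgebraicGeometry Opposite TopologicalSpace

namespace Groth.Agent.Lib.AlgSpCodim0_helper6

open AlgSp Groth.Agent.Lib.AlgSpPoints_helper7 Groth.Agent.Lib.AlgSpQC_helper7
  Groth.Agent.Lib.AlgSpPullback_helper7 Groth.Agent.Lib.AlgSpBasic_helper7
  Groth.Agent.Lib.AlgSpEtale_helper7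

variable {S : Scheme.{u}}

/-- the local ring at `u` has dimension zero iff `u` has no nontrivial generizations -/
theorem ringKrullDim_stalk_eq_zero_iff {U : Scheme.{u}} (u : ↥U) :
    ringKrullDim ↥(U.presheaf.stalk u) = 0 ↔ ∀ u' : ↥U, u' ⤳ u → u' = u := by
  rw [← ringKrullDimZero_iff_ringKrullDim_eq_zero, Ring.krullDimLE_zero_iff]
  constructor
  · intro h u' hu'
    have hmem : u' ∈ {y | y ⤳ u} := hu'
    rw [← Scheme.range_fromSpecStalk] at hmem
    obtain ⟨P, rfl⟩ := hmem
    have hP : (show PrimeSpectrum ↥(U.presheaf.stalk u) from P).asIdeal.IsMaximal :=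
      h _ (show PrimeSpectrum ↥(U.presheaf.stalk u) from P).isPrime
    have hP' : (show PrimeSpectrum ↥(U.presheaf.stalk u) from P).asIdeal =
        IsLocalRing.maximalIdeal _ := IsLocalRing.eq_maximalIdeal hP
    have : P = IsLocalRing.closedPoint ↥(U.presheaf.stalk u) := PrimeSpectrum.ext hP'
    rw [this, Scheme.fromSpecStalk_closedPoint]
  · intro h J hJ
    have hJ' : (U.fromSpecStalk u) ⟨J, hJ⟩ ∈ {y | y ⤳ u} := by
      rw [← Scheme.range_fromSpecStalk]; exact ⟨_, rfl⟩
    have e : (U.fromSpecStalk u) ⟨J, hJ⟩ =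
        (U.fromSpecStalk u) (IsLocalRing.closedPoint ↥(U.presheaf.stalk u)) := by
      rw [Scheme.fromSpecStalk_closedPoint]; exact h _ hJ'
    have := (U.fromSpecStalk u).isEmbedding.injective e
    have hJ'' : J = IsLocalRing.maximalIdeal _ := congrArg PrimeSpectrum.asIdeal this
    rw [hJ'']; infer_instance

/-- a flat morphism of schemes preserves points without nontrivial generizations -/
theorem no_gen_of_flat {U V : Scheme.{u}} (h : U ⟶ V) [Flat h] (u : ↥U)
    (hu : ∀ u' : ↥U, u' ⤳ u → u' = u) : ∀ v' : ↥V, v' ⤳ h u → v' = h u := by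
  intro v' hv'
  obtain ⟨u', hu's, rfl⟩ := Flat.generalizingMap (f := h) (a := u) (b := v') hv'
  rw [hu u' hu's]

/-- an étale morphism of schemes reflects points without nontrivial generizations -/
theorem no_gen_of_etale {W U : Scheme.{u}} (g : W ⟶ U) [Etale g] (w : ↥W)
    (hu : ∀ u' : ↥U, u' ⤳ g w → u' = g w) : ∀ w' : ↥W, w' ⤳ w → w' = w := by
  intro w' hw'
  have h1 : g w' = g w := hu _ (hw'.map g.continuous)
  haveI : LocallyQuasiFinite g := locallyQuasiFinite_of_unramified g
  exact (g.isDiscrete_preimage_singleton (g w)).eq_of_specializes hw' h1 rfl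

theorem codimZero_map_of_flat {X Y : Sp S} (hX : IsAlgSpace X) (hY : IsAlgSpace Y) (f : X ⟶ Y)
    (hf : LocP @Flat f) (x : Points X)
    (hx : HasAt (fun U u => ringKrullDim ↥(U.presheaf.stalk u) = 0) X x) :
    HasAt (fun U u => ringKrullDim ↥(U.presheaf.stalk u) = 0) Y (Points.map f x) := by
  obtain ⟨U, a, u, hae, hu, hdim⟩ := hx
  obtain ⟨V, b, hbe, hbs⟩ := hY.atlas
  obtain ⟨U', a', α, ha'e, ha's, hcomm⟩ := exists_chart_over hX f b hbe hbs
  haveI hflat : Flat α.left := hf a' b α ha'e hbe hcomm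
  obtain ⟨u', hu'⟩ := ofPt_surjective a' ha's x
  -- the fibre product of the two charts
  have R := hae.rep
  let t := R.fst' a'
  let s := R.snd a'
  have sq : IsPullback ((yon S).map t) ((yon S).map s) a a' := R.isPullback' a'
  haveI hs1 : Etale s.left := hae.property_snd a'
  haveI ht1 : Etale t.left := by
    have h1 : RepWith @Etale ((yon S).map t) := repWith_fst_of_isPullback _ sq ha'e
    exact (repWith_yon_map_iff _ _).1 h1
  obtain ⟨w, hw1, hw2⟩ := exists_ofPt_eq_of_isPullback sq u u' (hu.trans hu'.symm)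
  rw [ringKrullDim_stalk_eq_zero_iff] at hdim
  have hw : ∀ w' : ↥(R.pullback a').left, w' ⤳ w → w' = w :=
    no_gen_of_etale t.left w (by rw [hw1]; exact hdim)
  have hu'0 : ∀ u'' : ↥U'.left, u'' ⤳ u' → u'' = u' := by
    have := no_gen_of_flat s.left w hw
    rwa [hw2] at this
  have hv := no_gen_of_flat α.left u' hu'0
  refine ⟨V, b, α.left u', hbe, ?_, (ringKrullDim_stalk_eq_zero_iff _).2 hv⟩
  rw [← ofPt_comp, ← hcomm, ← Points.map_ofPt, hu']

end Groth.Agent.Lib.AlgSpCodim0_helper6
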