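import Groth.Agent.Lib.AlgSpQC2_helper7
import Groth.Agent.Lib.ProConsSch_helper8

/-!
# Étale locally constructible subsets of algebraic spaces: preimages and Chevalley's theorem (lead)
-/

set_option autoImplicit false
universe u
open CategoryTheory CategoryTheory.Limits AlgebraicGeometry Opposite Topology TopologicalSpace
open Set.Notation

namespace Groth.Agent.Lib.AlgSpConstr

open AlgSp Groth.Agent.Lib.AlgSpQC2_helper7 Groth.Agent.Lib.AlgSpPoints_helper7
  Groth.Agent.Lib.AlgSpQC_helper7 Groth.Agent.Lib.AlgSpTop_helper7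
  Groth.Agent.Lib.AlgSpPullback_helper7 Groth.Agent.Lib.AlgSpUniv_helper7

variable {S : Scheme.{u}}

/-- Local constructibility may be checked on a jointly surjective family of open embeddings. -/
theorem isLocallyConstructible_of_openEmbeddings {Y : Type*} [TopologicalSpace Y] {s : Set Y}
    {ι : Type*} {X : ι → Type*} [∀ i, TopologicalSpace (X i)] (g : ∀ i, X i → Y)
    (hg : ∀ i, IsOpenEmbedding (g i)) (hcov : ∀ y, ∃ i x, g i x = y)
    (H : ∀ i, IsLocallyConstructible (g i ⁻¹' s)) : IsLocallyConstructible s := by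
  have hU : IsOpenCover (fun i => (⟨Set.range (g i), (hg i).isOpen_range⟩ : Opens Y)) :=
    IsOpenCover.of_sets (fun i => (hg i).isOpen_range) (by
      ext y
      simp only [Set.mem_iUnion, Set.mem_range, Set.mem_univ, iff_true]
      exact hcov y)
  refine IsLocallyConstructible.of_isOpenCover hU fun i => ?_
  have e : ((Set.range (g i)) ↓∩ s : Set (Set.range (g i))) =
      (hg i).isEmbedding.toHomeomorph.symm ⁻¹' (g i ⁻¹' s) := by
    ext ⟨y, x, rfl⟩
    simp only [Set.mem_preimage]
    rw [show (hg i).isEmbedding.toHomeomorph.symm ⟨g i x, x, rfl⟩ = x from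
      (hg i).isEmbedding.toHomeomorph_symm_apply x]
  show IsLocallyConstructible ((Set.range (g i)) ↓∩ s)
  rw [e]
  exact (H i).preimage_of_isOpenEmbedding (hg i).isEmbedding.toHomeomorph.symm.isOpenEmbedding

/-- Local constructibility descends along surjective étale morphisms of schemes. -/
theorem isLocallyConstructible_of_etale_surjective {W U : Scheme.{u}} (g : W ⟶ U) [Etale g]
    [Surjective g] (F : Set U) (hF : IsLocallyConstructible (g.base ⁻¹' F)) :
    IsLocallyConstructible F := by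
  have key : ∀ u : U, ∃ (R : Scheme.{u}) (j : R ⟶ U), IsOpenImmersion j ∧
      u ∈ Set.range j.base ∧ IsLocallyConstructible (j.base ⁻¹' F) := by
    intro u
    obtain ⟨w, rfl⟩ := g.surjective u
    obtain ⟨U₁, hU₁, hu₁, -⟩ := Opens.isBasis_iff_nbhd.mp U.isBasis_affineOpens
      (Opens.mem_top (g w))
    obtain ⟨W₁, hW₁, hw₁, hWU⟩ := Opens.isBasis_iff_nbhd.mp W.isBasis_affineOpens
      (show w ∈ g ⁻¹ᵁ U₁ from hu₁)
    replace hU₁ : IsAffineOpen U₁ := hU₁
    replace hW₁ : IsAffineOpen W₁ := hW₁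
    haveI : IsAffine (U₁ : Scheme) := hU₁
    haveI : IsAffine (W₁ : Scheme) := hW₁
    let h' : (W₁ : Scheme) ⟶ (U₁ : Scheme) := g.resLE U₁ W₁ hWU
    haveI : Etale h' := inferInstance
    haveI : QuasiCompact h' :=
      HasAffineProperty.iff_of_isAffine.mpr (inferInstance : CompactSpace (W₁ : Scheme))
    have hcomm : h' ≫ (Scheme.Opens.ι U₁) = (Scheme.Opens.ι W₁) ≫ g := Scheme.Hom.resLE_comp_ι _ _
    let R : (U₁ : Scheme).Opens := ⟨Set.range h'.base, h'.isOpenMap.isOpen_range⟩
    refine ⟨R, R.ι ≫ (Scheme.Opens.ι U₁), inferInstance, ?_, ?_⟩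
    · have hmem : h'.base ⟨w, hw₁⟩ ∈ R := ⟨⟨w, hw₁⟩, rfl⟩
      refine ⟨⟨h'.base ⟨w, hw₁⟩, hmem⟩, ?_⟩
      have e2 : (R.ι ≫ (Scheme.Opens.ι U₁)).base ⟨h'.base ⟨w, hw₁⟩, hmem⟩ = (h' ≫ (Scheme.Opens.ι U₁)).base ⟨w, hw₁⟩ := rfl
      rw [e2, hcomm]
      rfl
    · have hW : IsLocallyConstructible (((Scheme.Opens.ι W₁) ≫ g).base ⁻¹' F) :=
        Groth.Agent.Lib.ProConsSchH8.isLocallyConstructible_preimage (Scheme.Opens.ι W₁) hF
      have hW' : IsLocallyConstructible (h'.base ⁻¹' ((Scheme.Opens.ι U₁).base ⁻¹' F)) := by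
        have e : h'.base ⁻¹' ((Scheme.Opens.ι U₁).base ⁻¹' F) = ((Scheme.Opens.ι W₁) ≫ g).base ⁻¹' F := by
          rw [← hcomm]
          rfl
        rw [e]
        exact hW
      have hC : IsLocallyConstructible (h'.base '' (h'.base ⁻¹' ((Scheme.Opens.ι U₁).base ⁻¹' F))) :=
        h'.isLocallyConstructible_image hW'
      have hR := hC.preimage_of_isOpenEmbedding R.ι.isOpenEmbedding
      have e : (R.ι ≫ (Scheme.Opens.ι U₁)).base ⁻¹' F =
          R.ι.base ⁻¹' (h'.base '' (h'.base ⁻¹' ((Scheme.Opens.ι U₁).base ⁻¹' F))) := by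
        ext r
        constructor
        · intro hr
          obtain ⟨a, ha⟩ : r.1 ∈ Set.range h'.base := r.2
          refine ⟨a, ?_, ha⟩
          show (Scheme.Opens.ι U₁).base (h'.base a) ∈ F
          rw [ha]
          exact hr
        · rintro ⟨a, ha, har⟩
          show (Scheme.Opens.ι U₁).base (R.ι.base r) ∈ F
          rw [← har]
          exact ha
      rw [e]
      exact hR
  choose R j hj hu hR using key
  refine isLocallyConstructible_of_openEmbeddings (fun u => ((j u).base : R u → U))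
    (fun u => (j u).isOpenEmbedding) (fun u => ?_) (fun u => hR u)
  obtain ⟨x, hx⟩ := hu u
  exact ⟨u, x, hx⟩

/-- If the preimage of `E` in one étale surjective chart is locally constructible, then so is its
preimage under every morphism from a scheme. -/
theorem isLocallyConstructible_ofPt_preimage {Y : Sp S} (E : Set (Points Y)) {V : Over S}
    (c : (yon S).obj V ⟶ Y) (hce : RepWith @Etale c) (hcs : RepWith @Surjective c)
    (hE : IsLocallyConstructible (Points.ofPt c ⁻¹' E)) {U : Over S} (b : (yon S).obj U ⟶ Y) :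
    IsLocallyConstructible (Points.ofPt b ⁻¹' E) := by
  let π : hce.rep.pullback b ⟶ U := hce.rep.snd b
  let w : hce.rep.pullback b ⟶ V := hce.rep.fst' b
  have sqW : IsPullback ((yon S).map w) ((yon S).map π) c b := hce.rep.isPullback' b
  haveI hπe : Etale π.left := hce.property_snd b
  haveI hπs : Surjective π.left := hcs.property _ _ _ (hce.rep.isPullback b)
  refine isLocallyConstructible_of_etale_surjective π.left _ ?_
  have e : π.left.base ⁻¹' (Points.ofPt b ⁻¹' E) = w.left.base ⁻¹' (Points.ofPt c ⁻¹' E) := by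
    ext t
    have h1 : Points.ofPt b (π.left t) = Points.ofPt c (w.left t) := by
      rw [← ofPt_comp π b t, ← ofPt_comp w c t, sqW.w]
    show Points.ofPt b (π.left t) ∈ E ↔ Points.ofPt c (w.left t) ∈ E
    rw [h1]
  rw [e]
  exact Groth.Agent.Lib.ProConsSchH8.isLocallyConstructible_preimage w.left hE

/-- S9981 -/
theorem isLocallyConstructible_preimage_map {X Y : Sp S} (hY : IsAlgSpace Y) (f : X ⟶ Y)
    (E : Set (Points Y))
    (hE : ∀ (U : Over S) (φ : (yon S).obj U ⟶ Y), RepWith @Etale φ →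
      IsLocallyConstructible (Points.ofPt φ ⁻¹' E))
    (U : Over S) (φ : (yon S).obj U ⟶ X) :
    IsLocallyConstructible (Points.ofPt φ ⁻¹' (Points.map f ⁻¹' E)) := by
  obtain ⟨V, c, hce, hcs⟩ := hY.atlas
  exact isLocallyConstructible_ofPt_preimage E c hce hcs (hE V c hce) (φ ≫ f)

/-- Chevalley's theorem for algebraic spaces, affine étale chart of the target. -/
theorem chevalley_affine {X Y : Sp S} (hX : IsAlgSpace X) (hY : IsAlgSpace Y) (f : X ⟶ Y)
    (hq : IsQuasiCompactMor f) (hfp : LocP @LocallyOfFinitePresentation f) (E : Set (Points X))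
    (hE : ∀ (U : Over S) (φ : (yon S).obj U ⟶ X), RepWith @Etale φ →
      IsLocallyConstructible (Points.ofPt φ ⁻¹' E))
    (V : Over S) [IsAffine V.left] (φ : (yon S).obj V ⟶ Y) (hφ : RepWith @Etale φ) :
    IsLocallyConstructible (Points.ofPt φ ⁻¹' (Points.map f '' E)) := by
  obtain ⟨P, fst, snd, sq⟩ : ∃ (P : Sp S) (fst : P ⟶ X) (snd : P ⟶ (yon S).obj V),
      IsPullback fst snd f φ := ⟨_, _, _, IsPullback.of_hasPullback f φ⟩
  have hPqc : IsQuasiCompactSp P :=
    hq (IsAlgSpace.yon_obj V) (isQuasiCompactSp_yon V) φ fst snd sq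
  obtain ⟨ι, _, T, r, hT, hr, hs⟩ := exists_finite_affine_charts hPqc
  have hfst : RepWith @Etale fst := repWith_fst_of_isPullback _ sq hφ
  choose k hk using fun i => (yon S).map_surjective (r i ≫ snd)
  have hcomm : ∀ i, (r i ≫ fst) ≫ f = (yon S).map (k i) ≫ φ := fun i => by
    rw [hk, Category.assoc, Category.assoc, sq.w]
  have hlfp : ∀ i, LocallyOfFinitePresentation (k i).left := fun i =>
    hfp (r i ≫ fst) φ (k i) (repWith_comp _ (hr i) hfst) hφ (hcomm i)
  have himg : ∀ i, IsLocallyConstructible ((k i).left '' (Points.ofPt (r i ≫ fst) ⁻¹' E)) := by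
    intro i
    haveI := hT i
    haveI := hlfp i
    haveI : QuasiCompact (k i).left :=
      HasAffineProperty.iff_of_isAffine.mpr (inferInstance : CompactSpace (T i).left)
    exact (k i).left.isLocallyConstructible_image
      (hE (T i) (r i ≫ fst) (repWith_comp _ (hr i) hfst))
  have e : Points.ofPt φ ⁻¹' (Points.map f '' E) =
      ⋃ i, (k i).left '' (Points.ofPt (r i ≫ fst) ⁻¹' E) := by
    ext v
    simp only [Set.mem_preimage, Set.mem_iUnion, Set.mem_image]
    constructor
    · rintro ⟨x, hx, hxv⟩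
      have h1 : Points.map f x = Points.map φ (Points.ofScheme V v) := by
        rw [hxv, Points.ofPt_eq_map_ofScheme]
      obtain ⟨z, hz1, hz2⟩ := exists_of_isPullback sq x (Points.ofScheme V v) h1
      obtain ⟨i, t, ht⟩ := hs z
      refine ⟨i, t, ?_, ?_⟩
      · rw [← Points.map_ofPt, ht, hz1]
        exact hx
      · apply (Points.schemeEquiv V).injective
        show Points.ofScheme V ((k i).left t) = Points.ofScheme V v
        rw [← ofPt_yon_map (k i) t, hk, ← Points.map_ofPt, ht, hz2]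
    · rintro ⟨i, t, ht, rfl⟩
      refine ⟨Points.ofPt (r i ≫ fst) t, ht, ?_⟩
      have h2 : Points.ofPt ((yon S).map (k i) ≫ φ) t = Points.ofPt φ ((k i).left t) :=
        ofPt_comp (k i) φ t
      rw [Points.map_ofPt, hcomm i]
      exact h2
  rw [e]
  exact IsLocallyConstructible.iUnion himg

/-- S9982: Chevalley's theorem for algebraic spaces. -/
theorem chevalley {X Y : Sp S} (hX : IsAlgSpace X) (hY : IsAlgSpace Y) (f : X ⟶ Y)
    (hq : IsQuasiCompactMor f) (hfp : LocP @LocallyOfFinitePresentation f) (E : Set (Points X))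
    (hE : ∀ (U : Over S) (φ : (yon S).obj U ⟶ X), RepWith @Etale φ →
      IsLocallyConstructible (Points.ofPt φ ⁻¹' E))
    (V : Over S) (φ : (yon S).obj V ⟶ Y) (hφ : RepWith @Etale φ) :
    IsLocallyConstructible (Points.ofPt φ ⁻¹' (Points.map f '' E)) := by
  let 𝒰 := V.left.affineCover
  let Vi : 𝒰.I₀ → Over S := fun i => Over.mk (𝒰.f i ≫ V.hom)
  let j : ∀ i, Vi i ⟶ V := fun i => Over.homMk (𝒰.f i) rfl
  refine isLocallyConstructible_of_openEmbeddings (fun i => ((𝒰.f i).base : 𝒰.X i → V.left))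
    (fun i => (𝒰.f i).isOpenEmbedding) (fun v => ?_) (fun i => ?_)
  · obtain ⟨i, t, rfl⟩ := 𝒰.exists_eq v
    exact ⟨i, t, rfl⟩
  · haveI : IsAffine (Vi i).left := by dsimp [Vi]; infer_instance
    have h1 : RepWith @Etale ((yon S).map (j i)) := by
      rw [repWith_yon_map_iff]
      change Etale (𝒰.f i)
      infer_instance
    have h2 := chevalley_affine hX hY f hq hfp E hE (Vi i) ((yon S).map (j i) ≫ φ)
      (repWith_comp _ h1 hφ)
    have e : (𝒰.f i).base ⁻¹' (Points.ofPt φ ⁻¹' (Points.map f '' E)) =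
        Points.ofPt ((yon S).map (j i) ≫ φ) ⁻¹' (Points.map f '' E) := by
      ext t
      have ht : Points.ofPt ((yon S).map (j i) ≫ φ) t = Points.ofPt φ ((𝒰.f i) t) :=
        ofPt_comp (j i) φ t
      show Points.ofPt φ ((𝒰.f i) t) ∈ Points.map f '' E ↔
        Points.ofPt ((yon S).map (j i) ≫ φ) t ∈ Points.map f '' E
      rw [ht]
    rw [e]
    exact h2

end Groth.Agent.Lib.AlgSpConstr
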