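import Groth.Agent.Lib.AlgSpDecent_helper6

/-!
# Decent morphisms: base change and composition (helper6)
-/

set_option autoImplicit false
universe u
open CategoryTheory CategoryTheory.Limits AlgebraicGeometry Opposite

namespace Groth.Agent.Lib.AlgSpDecent2_helper6

open AlgSp Groth.Agent.Lib.AlgSpPoints_helper7 Groth.Agent.Lib.AlgSpQC_helper7
  Groth.Agent.Lib.AlgSpPullback_helper7 Groth.Agent.Lib.AlgSpDecent_helper6

variable {S : Scheme.{u}}

/-- decent morphisms are stable under base change -/
theorem isDecentMor_of_isPullback {X Y X' Y' : Sp S} {f : X ⟶ Y} {f' : X' ⟶ Y'} {a : X' ⟶ X}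
    {b : Y' ⟶ Y} (sq : IsPullback a f' f b) (hf : IsDecentMor f) : IsDecentMor f' := by
  intro T F' g fst snd sq'
  exact hf (g ≫ b) (fst ≫ a) snd (sq'.paste_horiz sq)

/-- decent morphisms are stable under composition -/
theorem isDecentMor_comp {X Y Z : Sp S} (f : X ⟶ Y) (g : Y ⟶ Z) (hf : IsDecentMor f)
    (hg : IsDecentMor g) : IsDecentMor (f ≫ g) := by
  intro T F' t fst snd sq
  have sqY : IsPullback (pullback.fst g t) (pullback.snd g t) g t := IsPullback.of_hasPullback g t
  have hY' : IsDecent (pullback g t) := hg t _ _ sqY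
  let k : F' ⟶ pullback g t := pullback.lift (fst ≫ f) snd (by rw [Category.assoc]; exact sq.w)
  have hk1 : k ≫ pullback.fst g t = fst ≫ f := pullback.lift_fst _ _ _
  have hk2 : k ≫ pullback.snd g t = snd := pullback.lift_snd _ _ _
  have sq2 : IsPullback fst (k ≫ pullback.snd g t) (f ≫ g) t := by rw [hk2]; exact sq
  have top : IsPullback fst k f (pullback.fst g t) := IsPullback.of_bot sq2 hk1.symm sqY
  exact isDecent_of_isDecentMor k (isDecentMor_of_isPullback top hf) hY'

end Groth.Agent.Lib.AlgSpDecent2_helper6
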