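import Groth.Agent.Lib.AlgSpDecent3_helper6

/-!
# Fibre products of decent spaces are decent (helper6)
-/

set_option autoImplicit false
universe u
open CategoryTheory CategoryTheory.Limits AlgebraicGeometry Opposite

namespace Groth.Agent.Lib.AlgSpDecent4_helper6

open AlgSp Groth.Agent.Lib.AlgSpPoints_helper7 Groth.Agent.Lib.AlgSpQC_helper7
  Groth.Agent.Lib.AlgSpPullback_helper7 Groth.Agent.Lib.AlgSpDecent_helper6
  Groth.Agent.Lib.AlgSpField_helper7

variable {S : Scheme.{u}}

/-- A morphism of schemes whose source has subsingleton underlying space is quasi-compact. -/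
theorem quasiCompact_of_subsingleton {X Y : Scheme.{u}} (f : X ⟶ Y) [Subsingleton ↥X] :
    QuasiCompact f :=
  ⟨fun _ _ _ => Set.subsingleton_of_subsingleton.isCompact⟩

/-- the field point of `F` defined by a point `t` of a scheme `T` and a monomorphic, representable
quasi-compact `g : h_T ⟶ F` is monomorphic and quasi-compact -/
theorem ofPt_mono_qc {F : Sp S} {T : Over S} (g : (yon S).obj T ⟶ F) (hm : Mono g)
    (hq : RepWith @QuasiCompact g) (t : ↥T.left) :
    Mono (FieldPt.ofPt g t).toHom ∧ RepWith @QuasiCompact (FieldPt.ofPt g t).toHom := by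
  rw [FieldPt.toHom_ofPt]
  let ι : Over.mk (T.left.fromSpecResidueField t ≫ T.hom) ⟶ T :=
    Over.homMk (T.left.fromSpecResidueField t) rfl
  have h1 : Mono ι.left := by
    change Mono (T.left.fromSpecResidueField t)
    infer_instance
  have h2 : Mono ι := (Over.forget S).mono_of_mono_map h1
  have h3 : Mono ((yon S).map ι) := inferInstance
  refine ⟨@mono_comp _ _ _ _ _ _ h3 _ hm, ?_⟩
  refine repWith_comp _ ?_ hq
  rw [repWith_yon_map_iff]
  change QuasiCompact (T.left.fromSpecResidueField t)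
  exact quasiCompact_of_subsingleton _

/-- Variant of `exists_chart_of_isPullback` which also exposes the two intermediate squares. -/
theorem exists_chart_of_isPullback' {X Y H P : Sp S} (hH : Representable (Limits.diag H))
    {f : X ⟶ H} {g : Y ⟶ H} {fst : P ⟶ X} {snd : P ⟶ Y} (sq : IsPullback fst snd f g)
    {U V : Over S} (p : (yon S).obj U ⟶ X) (q : (yon S).obj V ⟶ Y) :
    ∃ (W : Over S) (a : W ⟶ U) (b : W ⟶ V) (M : Sp S) (m : M ⟶ P) (s : M ⟶ (yon S).obj V)
      (t : M ⟶ X) (n : (yon S).obj W ⟶ M),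
      IsPullback m s snd q ∧ IsPullback n ((yon S).map a) t p ∧ m ≫ fst = t ∧
      n ≫ s = (yon S).map b := by
  have hpf : Representable (p ≫ f) := Functor.relativelyRepresentable.of_diag hH _
  let W := hpf.pullback (q ≫ g)
  let a : W ⟶ U := hpf.fst' (q ≫ g)
  let b : W ⟶ V := hpf.snd (q ≫ g)
  have sqW : IsPullback ((yon S).map a) ((yon S).map b) (p ≫ f) (q ≫ g) := hpf.isPullback' _
  have sqM := IsPullback.of_hasPullback f (q ≫ g)
  let m : pullback f (q ≫ g) ⟶ P := sq.lift (pullback.fst f (q ≫ g)) (pullback.snd f (q ≫ g) ≫ q)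
    (by rw [sqM.w, Category.assoc])
  have hm1 : m ≫ fst = pullback.fst f (q ≫ g) := sq.lift_fst _ _ _
  have hm2 : m ≫ snd = pullback.snd f (q ≫ g) ≫ q := sq.lift_snd _ _ _
  have sqL : IsPullback m (pullback.snd f (q ≫ g)) snd q := by
    refine IsPullback.of_right ?_ hm2 sq
    rw [hm1]
    exact sqM
  let n : (yon S).obj W ⟶ pullback f (q ≫ g) := sqM.lift ((yon S).map a ≫ p) ((yon S).map b)
    (by rw [Category.assoc, sqW.w])
  have hn1 : n ≫ pullback.fst f (q ≫ g) = (yon S).map a ≫ p := sqM.lift_fst _ _ _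
  have hn2 : n ≫ pullback.snd f (q ≫ g) = (yon S).map b := sqM.lift_snd _ _ _
  have sqN : IsPullback n ((yon S).map a) (pullback.fst f (q ≫ g)) p := by
    refine IsPullback.of_right ?_ hn1 sqM.flip
    rw [hn2]
    exact sqW.flip
  exact ⟨W, a, b, _, m, _, _, n, sqL, sqN, hm1, hn2⟩

/-- The fibre product of two decent sheaves over a sheaf with representable diagonal is decent. -/
theorem isDecent_of_isPullback {X Y Z P : Sp S} (hY : Representable (Limits.diag Y))
    {f : X ⟶ Y} {g : Z ⟶ Y} {fst : P ⟶ X} {snd : P ⟶ Z} (sq : IsPullback fst snd f g)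
    (hX : IsDecent X) (hZ : IsDecent Z) : IsDecent P := by
  intro z
  obtain ⟨p, hp, hpm, hpq⟩ := hX (Points.map fst z)
  obtain ⟨q, hq, hqm, hqq⟩ := hZ (Points.map snd z)
  obtain ⟨W, a, b, M, m, s, t, n, sqL, sqN, hm1, hn2⟩ :=
    exists_chart_of_isPullback' hY sq p.toHom q.toHom
  -- lift the point to `M`
  have h1 : Points.map snd z = Points.map q.toHom
      (Points.ofScheme q.pt (IsLocalRing.closedPoint q.K)) := by
    rw [← hq, ← Points.ofPt_eq_map_ofScheme, Points.ofPt_toHom]
  obtain ⟨z', hz'1, -⟩ := exists_of_isPullback sqL z _ h1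
  have h2 : Points.map t z' = Points.map p.toHom
      (Points.ofScheme p.pt (IsLocalRing.closedPoint p.K)) := by
    rw [← hm1, Points.map_comp, hz'1, ← hp, ← Points.ofPt_eq_map_ofScheme, Points.ofPt_toHom]
  obtain ⟨w', hw'1, -⟩ := exists_of_isPullback sqN z' _ h2
  obtain ⟨w, rfl⟩ := ofScheme_surjective W w'
  have hnm : Mono n := by
    haveI := hpm
    exact sqN.mono_fst_of_mono
  have hmm : Mono m := by
    haveI := hqm
    exact sqL.mono_fst_of_mono
  have hr : Mono (n ≫ m) := @mono_comp _ _ _ _ _ _ hnm _ hmm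
  have hrq : RepWith @QuasiCompact (n ≫ m) :=
    repWith_comp _ (repWith_fst_of_isPullback _ sqN hpq) (repWith_fst_of_isPullback _ sqL hqq)
  obtain ⟨hm', hq'⟩ := ofPt_mono_qc (n ≫ m) hr hrq w
  refine ⟨FieldPt.ofPt (n ≫ m) w, ?_, hm', hq'⟩
  change Points.ofPt (n ≫ m) w = z
  rw [Points.ofPt_eq_map_ofScheme, Points.map_comp, hw'1, hz'1]

end Groth.Agent.Lib.AlgSpDecent4_helper6
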