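import Groth.Agent.Lib.AlgSpDecent5_helper6

/-!
# Representable morphisms are decent (helper6)
-/

set_option autoImplicit false
universe u
open CategoryTheory CategoryTheory.Limits AlgebraicGeometry Opposite

namespace Groth.Agent.Lib.AlgSpDecent6_helper6

open AlgSp Groth.Agent.Lib.AlgSpPoints_helper7 Groth.Agent.Lib.AlgSpQC_helper7
  Groth.Agent.Lib.AlgSpPullback_helper7 Groth.Agent.Lib.AlgSpDecent_helper6
  Groth.Agent.Lib.AlgSpField_helper7 Groth.Agent.Lib.AlgSpDecent4_helper6
  Groth.Agent.Lib.AlgSpDecent5_helper6

variable {S : Scheme.{u}}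

/-- A representable morphism is decent. -/
theorem isDecentMor_of_representable {X Y : Sp S} (f : X ⟶ Y) (hf : Representable f) :
    IsDecentMor f := by
  intro T F' g fst snd sq
  have sq' := hf.isPullback g
  exact (isDecent_yon (hf.pullback g)).of_iso (sq'.isoIsPullback _ _ sq)

theorem isDecent_of_representable {X Y : Sp S} (f : X ⟶ Y) (hf : Representable f)
    (hY : IsDecent Y) : IsDecent X :=
  isDecent_of_isDecentMor f (isDecentMor_of_representable f hf) hY

end Groth.Agent.Lib.AlgSpDecent6_helper6
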