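import Groth.Agent.Lib.AlgSpDecentZar_helper6

/-!
# Decent morphisms can be tested on affine base changes (helper6)
-/

set_option autoImplicit false
universe u
open CategoryTheory CategoryTheory.Limits AlgebraicGeometry Opposite

namespace Groth.Agent.Lib.AlgSpDecentAff_helper6

open AlgSp Groth.Agent.Lib.AlgSpPoints_helper7 Groth.Agent.Lib.AlgSpQC_helper7
  Groth.Agent.Lib.AlgSpPullback_helper7 Groth.Agent.Lib.AlgSpBasic_helper7
  Groth.Agent.Lib.AlgSpDecentZar_helper6

variable {S : Scheme.{u}}

/-- A sheaf over `h_T` whose restrictions to the members of an open cover of `T` are decent is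
decent. -/
theorem isDecent_of_openCover {F' : Sp S} {T : Over S} (snd : F' ⟶ (yon S).obj T)
    (𝒰 : Scheme.OpenCover.{u} T.left)
    (h : ∀ i : 𝒰.I₀, IsDecent (pullback snd
      ((yon S).map (Over.homMk (𝒰.f i) rfl : Over.mk (𝒰.f i ≫ T.hom) ⟶ T)))) : IsDecent F' := by
  let c : ∀ i : 𝒰.I₀, Over.mk (𝒰.f i ≫ T.hom) ⟶ T := fun i => Over.homMk (𝒰.f i) rfl
  refine isDecent_of_zarCover (fun i : 𝒰.I₀ => pullback snd ((yon S).map (c i)))
    (fun i => pullback.fst snd ((yon S).map (c i))) (fun i => ?_) (fun x => ?_) h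
  · refine repWith_fst_of_isPullback _ (IsPullback.of_hasPullback snd ((yon S).map (c i))) ?_
    rw [repWith_yon_map_iff]
    change IsOpenImmersion (𝒰.f i)
    infer_instance
  · obtain ⟨t, ht⟩ := ofScheme_surjective T (Points.map snd x)
    obtain ⟨i, u, hu⟩ := 𝒰.exists_eq t
    have h1 : Points.map snd x = Points.map ((yon S).map (c i))
        (Points.ofScheme (Over.mk (𝒰.f i ≫ T.hom)) u) := by
      rw [← Points.ofPt_eq_map_ofScheme, ofPt_yon_map, ← ht]
      congr 1
      exact hu.symm
    obtain ⟨z, hz, -⟩ := exists_of_isPullback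
      (IsPullback.of_hasPullback snd ((yon S).map (c i))) x _ h1
    exact ⟨i, z, hz⟩

/-- A morphism all of whose base changes to affine schemes are decent is decent. -/
theorem isDecentMor_of_affine {X Y : Sp S} (f : X ⟶ Y)
    (h : ∀ (Z : Over S) (g : (yon S).obj Z ⟶ Y) (P : Sp S) (fst : P ⟶ X)
      (snd : P ⟶ (yon S).obj Z), IsAffine Z.left → IsPullback fst snd f g → IsDecent P) :
    IsDecentMor f := by
  intro T F' g fst snd sq
  refine isDecent_of_openCover snd T.left.affineCover (fun i => ?_)
  refine h _ (_ ≫ g) _ (pullback.fst _ _ ≫ fst) (pullback.snd _ _) ?_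
    ((IsPullback.of_hasPullback _ _).paste_horiz sq)
  change IsAffine (T.left.affineCover.X i)
  infer_instance

end Groth.Agent.Lib.AlgSpDecentAff_helper6
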