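import Groth.Agent.Lib.AlgSpIso_helper7
import Groth.Prelude.Def_AlgSpDec

/-!
# Decent spaces and decent morphisms: formal properties (helper6)
-/

set_option autoImplicit false
universe u
open CategoryTheory CategoryTheory.Limits AlgebraicGeometry Opposite

namespace Groth.Agent.Lib.AlgSpDecent_helper6

open AlgSp Groth.Agent.Lib.AlgSpPoints_helper7 Groth.Agent.Lib.AlgSpQC_helper7
  Groth.Agent.Lib.AlgSpPullback_helper7

variable {S : Scheme.{u}}

/-- the class of a field point is the image of any point of `Spec K` -/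
theorem mk_eq_ofPt_toHom {F : Sp S} (p : FieldPt F) :
    Points.mk p = Points.ofPt p.toHom (IsLocalRing.closedPoint p.K) :=
  (Points.ofPt_toHom p _).symm

/-- If `f : X ⟶ Y` is a decent morphism and `Y` is decent then `X` is decent. -/
theorem isDecent_of_isDecentMor {X Y : Sp S} (f : X ⟶ Y) (hf : IsDecentMor f) (hY : IsDecent Y) :
    IsDecent X := by
  intro x
  obtain ⟨q, hq, hqm, hqc⟩ := hY (Points.map f x)
  -- the fibre product `X ×_Y Spec L`
  have sq : IsPullback (pullback.fst f q.toHom) (pullback.snd f q.toHom) f q.toHom :=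
    IsPullback.of_hasPullback f q.toHom
  have hdec : IsDecent (pullback f q.toHom) := hf q.toHom _ _ sq
  have hpt : Points.map f x = Points.map q.toHom
      (Points.ofScheme q.pt (IsLocalRing.closedPoint q.K)) := by
    rw [← hq, Points.map_ofPt, Category.id_comp, Points.ofPt_toHom]
  obtain ⟨z, hz1, -⟩ := exists_of_isPullback sq x _ hpt
  obtain ⟨p', hp', hpm, hpc⟩ := hdec z
  refine ⟨p'.map (pullback.fst f q.toHom), ?_, ?_, ?_⟩
  · rw [← Points.map_mk, hp', hz1]
  · rw [FieldPt.toHom_map]
    haveI := hqm
    have h1 : Mono (pullback.fst f q.toHom) := sq.mono_fst_of_mono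
    exact @mono_comp _ _ _ _ _ _ hpm _ h1
  · rw [FieldPt.toHom_map]
    exact repWith_comp _ hpc (repWith_fst_of_isPullback _ sq hqc)

end Groth.Agent.Lib.AlgSpDecent_helper6
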