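import Groth.Agent.Lib.AlgSpDeform_helper7
import Groth.Agent.Lib.AlgSpFormal_helper7

/-! # Local properties along cartesian thickenings with finite order source thickening (helper7) -/

set_option autoImplicit false
set_option linter.style.haveILetI false
set_option backward.isDefEq.respectTransparency false
set_option backward.isDefEq.respectTransparency.types false

universe u

open CategoryTheory CategoryTheory.Limits AlgebraicGeometry Opposite

namespace Groth.Agent.Lib.AlgSpDeform2H7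

section Ring

/-- If `R → B → C` with `B → C` surjective with nilpotent kernel generated by the image of an ideal
of `R`, and `R → C` of finite type, then `R → B` is of finite type. -/
theorem finiteType_of_ker_eq_map {R B C : Type u} [CommRing R] [CommRing B] [CommRing C]
    (φ : R →+* B) (π : B →+* C) (hπ : Function.Surjective π) (I : Ideal R)
    (hker : RingHom.ker π = I.map φ) (hnil : IsNilpotent (RingHom.ker π))
    (h : (π.comp φ).FiniteType) : φ.FiniteType := by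
  classical
  letI : Algebra R B := φ.toAlgebra
  letI : Algebra R C := (π.comp φ).toAlgebra
  let πa : B →ₐ[R] C := { π with commutes' := fun r => rfl }
  obtain ⟨n, f, hf⟩ := Algebra.FiniteType.iff_quotient_mvPolynomial''.mp h
  choose b hb using fun i : Fin n => hπ (f (MvPolynomial.X i))
  let Φ : MvPolynomial (Fin n) R →ₐ[R] B := MvPolynomial.aeval b
  have hcomp : πa.comp Φ = f := by
    refine MvPolynomial.algHom_ext fun i => ?_
    simp only [AlgHom.comp_apply, Φ, MvPolynomial.aeval_X]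
    exact hb i
  have hA : Φ.range.toSubmodule ⊔ (RingHom.ker π).restrictScalars R = ⊤ := by
    rw [eq_top_iff]
    rintro x -
    obtain ⟨p, hp⟩ := hf (π x)
    have hx : x = Φ p + (x - Φ p) := by abel
    rw [hx]
    refine Submodule.add_mem _
      (Submodule.mem_sup_left ((Subalgebra.mem_toSubmodule _).mpr (AlgHom.mem_range_self Φ _)))
      (Submodule.mem_sup_right ?_)
    have h1 : π (Φ p) = f p := DFunLike.congr_fun hcomp p
    rw [Submodule.restrictScalars_mem, RingHom.mem_ker, map_sub, h1, hp, sub_self]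
  have hstep : ∀ J : Ideal B, Φ.range.toSubmodule ⊔ J.restrictScalars R = ⊤ →
      Φ.range.toSubmodule ⊔ (RingHom.ker π * J).restrictScalars R = ⊤ := by
    intro J hJ
    rw [eq_top_iff]
    refine hA.ge.trans ?_
    refine sup_le le_sup_left ?_
    intro x hx
    rw [Submodule.restrictScalars_mem, hker] at hx
    have hx' : x ∈ Submodule.span B (φ '' (I : Set R)) := hx
    have key : ∀ c : B, x * c ∈
        Φ.range.toSubmodule ⊔ (RingHom.ker π * J).restrictScalars R := by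
      refine Submodule.span_induction (p := fun x _ => ∀ c : B, x * c ∈
        Φ.range.toSubmodule ⊔ (RingHom.ker π * J).restrictScalars R) ?_ ?_ ?_ ?_ hx'
      · rintro _ ⟨r, hr, rfl⟩ c
        have hc : c ∈ Φ.range.toSubmodule ⊔ J.restrictScalars R := hJ ▸ Submodule.mem_top
        obtain ⟨y, hy, z, hz, rfl⟩ := Submodule.mem_sup.mp hc
        rw [mul_add]
        refine Submodule.add_mem _ (Submodule.mem_sup_left ?_) (Submodule.mem_sup_right ?_)
        · have e : φ r * y = r • y := (Algebra.smul_def r y).symm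
          rw [e]
          exact Submodule.smul_mem _ r hy
        · rw [Submodule.restrictScalars_mem]
          refine Ideal.mul_mem_mul ?_ hz
          rw [hker]; exact Ideal.mem_map_of_mem φ hr
      · intro c; rw [zero_mul]; exact Submodule.zero_mem _
      · intro x y _ _ hx hy c; rw [add_mul]; exact Submodule.add_mem _ (hx c) (hy c)
      · intro a x _ hx c
        have e : a • x * c = x * (a * c) := by rw [smul_eq_mul]; ring
        rw [e]; exact hx (a * c)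
    have := key 1
    rwa [mul_one] at this
  have hpow : ∀ k : ℕ,
      Φ.range.toSubmodule ⊔ ((RingHom.ker π) ^ (k + 1)).restrictScalars R = ⊤ := by
    intro k
    induction k with
    | zero => simpa using hA
    | succ k ih =>
      rw [pow_succ']
      exact hstep _ ih
  obtain ⟨k, hk⟩ := hnil
  have hk' : (RingHom.ker π) ^ (k + 1) = ⊥ := by
    rw [pow_succ, hk]
    simp
  have htop := hpow k
  rw [hk', Submodule.restrictScalars_bot, sup_bot_eq] at htop
  have hsurj : Function.Surjective Φ := by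
    intro x
    have : x ∈ Φ.range.toSubmodule := htop ▸ Submodule.mem_top
    exact this
  exact Algebra.FiniteType.of_surjective Φ hsurj

end Ring

section Sch

open Groth.Agent.Lib.NilThick_helper6

theorem ker_appLE_eq {X X' : Scheme.{u}} (iX : X ⟶ X') (V : X'.Opens) (W : X.Opens)
    (hW : W = iX ⁻¹ᵁ V) (h : W ≤ iX ⁻¹ᵁ V) :
    RingHom.ker (iX.appLE V W h).hom = RingHom.ker (iX.app V).hom := by
  subst hW
  rw [Scheme.Hom.appLE_eq_app]

/-- In a cartesian square with `iY` a closed immersion and `iX` with (affine locally) nilpotent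
kernel, `f'` is locally of finite type if `f` is. -/
theorem lft_of_cartesian_nilpotent {X X' Y Y' : Scheme.{u}} (iX : X ⟶ X') (iY : Y ⟶ Y')
    (f : X ⟶ Y) (f' : X' ⟶ Y') (hc : IsPullback iX f f' iY) [IsClosedImmersion iY]
    (hnil : ∀ V : X'.affineOpens, IsNilpotent (RingHom.ker (iX.app V.1).hom))
    [LocallyOfFiniteType f] : LocallyOfFiniteType f' := by
  rw [HasRingHomProperty.iff_appLE (P := @LocallyOfFiniteType)]
  intro U' V' e
  have hUT : IsAffineOpen (iY ⁻¹ᵁ U'.1) := U'.2.preimage iY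
  obtain ⟨haX, po⟩ := isPushout_appLE_of_isPullback hc U'.2 hUT V'.2 le_rfl e
  rw [Scheme.Hom.appLE_eq_app] at po
  have hEq : iX ⁻¹ᵁ V'.1 ⊓ f ⁻¹ᵁ (iY ⁻¹ᵁ U'.1) = iX ⁻¹ᵁ V'.1 := by
    refine le_antisymm inf_le_left (le_inf le_rfl ?_)
    intro x hx
    have h1 : f' (iX x) ∈ U'.1 := e hx
    have h2 : iY (f x) = f' (iX x) := by
      rw [← Scheme.Hom.comp_apply, ← Scheme.Hom.comp_apply, hc.w]
    change iY (f x) ∈ U'.1
    rw [h2]
    exact h1
  obtain ⟨hψ, hkerle⟩ := pushout_surjective_ker (iY.app U'.1).hom (iY.app_surjective U'.1 U'.2)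
    (f'.appLE U'.1 V'.1 e).hom
    (f.appLE (iY ⁻¹ᵁ U'.1) (iX ⁻¹ᵁ V'.1 ⊓ f ⁻¹ᵁ (iY ⁻¹ᵁ U'.1)) inf_le_right).hom
    (iX.appLE V'.1 (iX ⁻¹ᵁ V'.1 ⊓ f ⁻¹ᵁ (iY ⁻¹ᵁ U'.1)) inf_le_left).hom po.flip
  have hw : (iX.appLE V'.1 (iX ⁻¹ᵁ V'.1 ⊓ f ⁻¹ᵁ (iY ⁻¹ᵁ U'.1)) inf_le_left).hom.comp
      (f'.appLE U'.1 V'.1 e).hom =
      (f.appLE (iY ⁻¹ᵁ U'.1) (iX ⁻¹ᵁ V'.1 ⊓ f ⁻¹ᵁ (iY ⁻¹ᵁ U'.1)) inf_le_right).hom.comp
        (iY.app U'.1).hom := by
    have := congrArg CommRingCat.Hom.hom po.w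
    simpa only [CommRingCat.hom_comp] using this
  have hkereq : RingHom.ker
      (iX.appLE V'.1 (iX ⁻¹ᵁ V'.1 ⊓ f ⁻¹ᵁ (iY ⁻¹ᵁ U'.1)) inf_le_left).hom =
      (RingHom.ker (iY.app U'.1).hom).map (f'.appLE U'.1 V'.1 e).hom := by
    refine le_antisymm hkerle ?_
    rw [Ideal.map_le_iff_le_comap]
    intro r hr
    rw [Ideal.mem_comap, RingHom.mem_ker]
    have := congrArg (fun t => t r) hw
    simp only [RingHom.comp_apply] at this
    rw [this, RingHom.mem_ker.mp hr, map_zero]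
  refine finiteType_of_ker_eq_map (f'.appLE U'.1 V'.1 e).hom
    (iX.appLE V'.1 (iX ⁻¹ᵁ V'.1 ⊓ f ⁻¹ᵁ (iY ⁻¹ᵁ U'.1)) inf_le_left).hom hψ
    (RingHom.ker (iY.app U'.1).hom) hkereq ?_ ?_
  · rw [ker_appLE_eq iX V'.1 _ hEq]
    exact hnil V'
  · rw [hw]
    refine RingHom.FiniteType.comp ?_
      (RingHom.FiniteType.of_surjective _ (iY.app_surjective U'.1 U'.2))
    exact HasRingHomProperty.appLE (P := @LocallyOfFiniteType) f inferInstance ⟨_, hUT⟩
      ⟨_, haX⟩ inf_le_right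

end Sch

open AlgSp Groth.Agent.Lib.AlgStLocQ
  Groth.Agent.Lib.AlgSpQC_helper7 Groth.Agent.Lib.AlgSpDiag_helper7
  Groth.Agent.Lib.AlgSpPullback_helper7 Groth.Agent.Lib.AlgSpRepBySp_helper7
  Groth.Agent.Lib.AlgSpPoints_helper7 Groth.Agent.Lib.AlgSpLocP_helper7
  Groth.Agent.Lib.AlgSpBasic_helper7 Groth.Agent.Lib.AlgSpSep_helper7
  Groth.Agent.Lib.AlgSpLocP4_helper7 Groth.Agent.Lib.AlgSpLocP5_helper7
  Groth.Agent.Lib.AlgSpLocP7_helper7 Groth.Agent.Lib.AlgSpQC2_helper7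
  Groth.Agent.Lib.AlgSpLocP8_helper7 Groth.Agent.Lib.AlgSpLocP10_helper7
  Groth.Agent.Lib.AlgSpFpqc3_helper7 Groth.Agent.Lib.AlgSpLocP6_helper7
  Groth.Agent.Lib.AlgSpFpqc2_helper7 Groth.Agent.Lib.AlgSpFpqc_helper7
  Groth.Agent.Lib.AlgSpOpenSub_helper7 Groth.Agent.Lib.AlgSpOpen_helper7
  Groth.Agent.Lib.AlgSpUnram_helper7 Groth.Agent.Lib.AlgSpDeformH7

variable {S : Scheme.{u}}

/-- A chart diagram of `f'` through a given point, with affine source chart. -/
theorem exists_two_charts_affine {X' Y' : Sp S} (hX' : IsAlgSpace X') (hY' : IsAlgSpace Y')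
    (f' : X' ⟶ Y') (x' : Points X') :
    ∃ (U' V' : Over S) (a' : (yon S).obj U' ⟶ X') (b' : (yon S).obj V' ⟶ Y') (h' : U' ⟶ V')
      (u' : ↥U'.left), RepWith @Etale a' ∧ RepWith @Etale b' ∧ IsAffine U'.left ∧
      a' ≫ f' = (yon S).map h' ≫ b' ∧ Points.ofPt a' u' = x' := by
  obtain ⟨U0, V', a0, b', h0, ha0e, ha0s, hb'e, -, comm0⟩ :=
    Groth.Agent.Lib.AlgSpFormal_helper7.exists_chart_square hX' hY' f'
  obtain ⟨u0, hu0⟩ := ofPt_surjective a0 ha0s x'
  obtain ⟨O, hO, huO⟩ : ∃ O : U0.left.Opens, IsAffineOpen O ∧ u0 ∈ O := by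
    obtain ⟨_, ⟨O, hO, rfl⟩, huO, -⟩ := U0.left.isBasis_affineOpens.exists_subset_of_mem_open
      (Set.mem_univ u0) isOpen_univ
    exact ⟨O, hO, huO⟩
  obtain ⟨ι', hι'⟩ : ∃ ι' : Over.mk (O.ι ≫ U0.hom) ⟶ U0, ι'.left = O.ι :=
    ⟨Over.homMk O.ι rfl, rfl⟩
  have hιe : Etale ι'.left := by rw [hι']; infer_instance
  have ha'e : RepWith @Etale ((yon S).map ι' ≫ a0) :=
    repWith_comp _ ((repWith_yon_map_iff _ _).2 hιe) ha0e
  obtain ⟨u', hu'⟩ : u0 ∈ Set.range O.ι := by rw [Scheme.Opens.range_ι]; exact huO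
  have hpt : Points.ofPt ((yon S).map ι' ≫ a0) u' = x' := by
    rw [ofPt_comp, hι']
    exact (congrArg (Points.ofPt a0) hu').trans hu0
  have comm1 : ((yon S).map ι' ≫ a0) ≫ f' = (yon S).map (ι' ≫ h0) ≫ b' := by
    rw [Category.assoc, comm0, ← Category.assoc, ← CategoryTheory.Functor.map_comp]
  exact ⟨_, V', _, b', ι' ≫ h0, u', ha'e, hb'e, hO, comm1, hpt⟩

/-- Base change of a chart diagram of `f'` along the thickening `j`. -/
theorem exists_bc_two_charts {X X' Y Y' : Sp S} (i : X ⟶ X') (j : Y ⟶ Y') (f : X ⟶ Y)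
    (f' : X' ⟶ Y') (hj : IsThickMor j) (hcart : IsPullback i f f' j)
    {U' V' : Over S} (a' : (yon S).obj U' ⟶ X') (b' : (yon S).obj V' ⟶ Y') (h' : U' ⟶ V')
    (ha'e : RepWith @Etale a') (hb'e : RepWith @Etale b')
    (comm1 : a' ≫ f' = (yon S).map h' ≫ b') :
    ∃ (U V : Over S) (a : (yon S).obj U ⟶ X) (b : (yon S).obj V ⟶ Y) (h : U ⟶ V)
      (iU : U ⟶ U') (iV : V ⟶ V'),
      RepWith @Etale a ∧ RepWith @Etale b ∧ a ≫ f = (yon S).map h ≫ b ∧
      IsPullback a ((yon S).map iU) i a' ∧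
      IsPullback iU.left h.left h'.left iV.left ∧ thick iV.left := by
  obtain ⟨U, iU, h, sqU⟩ : ∃ (U : Over S) (iU : U ⟶ U') (h : U ⟶ hj.rep.pullback b'),
      IsPullback iU h h' (hj.rep.snd b') := ⟨_, _, _, IsPullback.of_hasPullback h' (hj.rep.snd b')⟩
  obtain ⟨a, -, ha2, sqa⟩ := chart_bc f' j i f hcart a' b' h' comm1 (hj.rep.snd b')
    (hj.rep.fst b') (hj.rep.isPullback b') iU h sqU
  have hae : RepWith @Etale a := repWith_fst_of_isPullback _ sqa ha'e
  have hbe : RepWith @Etale (hj.rep.fst b') :=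
    repWith_fst_of_isPullback _ (hj.rep.isPullback b') hb'e
  exact ⟨U, _, a, hj.rep.fst b', h, iU, hj.rep.snd b', hae, hbe, ha2, sqa,
    sqU.map (Over.forget S), hj.property_snd b'⟩

theorem lft_up {X X' Y Y' : Sp S} (hX' : IsAlgSpace X') (hY' : IsAlgSpace Y')
    (i : X ⟶ X') (j : Y ⟶ Y') (f : X ⟶ Y) (f' : X' ⟶ Y')
    (hj : IsThickMor j) (hcart : IsPullback i f f' j) (hfo : IsFinThickMor i)
    (hf : LocP @LocallyOfFiniteType f) : LocP @LocallyOfFiniteType f' := by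
  obtain ⟨n, hthick, haff⟩ := hfo
  apply locP_of_forall_hasAtMor etLocal_locallyOfFiniteType
  intro x'
  obtain ⟨U', V', a', b', h', u', ha'e, hb'e, hU'aff, comm1, hu'⟩ :=
    exists_two_charts_affine hX' hY' f' x'
  obtain ⟨U, V, a, b, h, iU, iV, hae, hbe, comm, sqa, sqUs, hthk⟩ :=
    exists_bc_two_charts i j f f' hj hcart a' b' h' ha'e hb'e comm1
  haveI : LocallyOfFiniteType h.left := hf a b h hae hbe comm
  haveI : IsClosedImmersion iV.left := hthk.1
  haveI : IsClosedImmersion iU.left :=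
    MorphismProperty.of_isPullback (P := @IsClosedImmersion) sqUs.flip hthk.1
  have hpz : powZero n iU.left := haff a' a iU hU'aff ha'e sqa
  have hnil : ∀ V₀ : U'.left.affineOpens, IsNilpotent (RingHom.ker (iU.left.app V₀.1).hom) :=
    fun V₀ => Groth.Agent.Lib.NilThick_helper6.isNilpotent_ker_app iU.left ⟨n + 1, hpz⟩ V₀
  have hlft' : LocallyOfFiniteType h'.left :=
    lft_of_cartesian_nilpotent iU.left iV.left h.left h'.left sqUs hnil
  unfold HasAtMor
  exact ⟨U', V', a', b', h', u', ha'e, hb'e, comm1, hu', ⊤, TopologicalSpace.Opens.mem_top _,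
    IsZariskiLocalAtSource.comp hlft' _⟩

theorem relDim_up2 {X X' Y Y' : Sp S} (hX' : IsAlgSpace X') (hY' : IsAlgSpace Y')
    (i : X ⟶ X') (j : Y ⟶ Y') (f : X ⟶ Y) (f' : X' ⟶ Y')
    (hj : IsThickMor j) (hcart : IsPullback i f f' j)
    (hlft : LocP @LocallyOfFiniteType f) (hlft' : LocP @LocallyOfFiniteType f')
    (d : WithBot ℕ∞)
    (hd : ∀ x, HasAtMor (fun _ _ h u => FlatMor.fibreDimAt h u = d) f x) (x' : Points X') :
    HasAtMor (fun _ _ h u => FlatMor.fibreDimAt h u = d) f' x' := by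
  obtain ⟨U', V', a', b', h', u', ha'e, hb'e, -, comm1, hu'⟩ :=
    exists_two_charts_affine hX' hY' f' x'
  obtain ⟨U, V, a, b, h, iU, iV, hae, hbe, comm, -, sqUs, hthk⟩ :=
    exists_bc_two_charts i j f f' hj hcart a' b' h' ha'e hb'e comm1
  have hsurj : Surjective iU.left :=
    MorphismProperty.of_isPullback (P := @Surjective) sqUs.flip hthk.2
  obtain ⟨u, hu⟩ := hsurj.surj u'
  obtain ⟨U₂, V₂, a₂, b₂, h₂, u₂, ha₂e, hb₂e, comm₂, hpt₂, hdim₂⟩ := hd (Points.ofPt a u)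
  have hdim₂' : FlatMor.fibreDimAt h₂.left u₂ = d := hdim₂
  have e1 : FlatMor.fibreDimAt h₂.left u₂ = FlatMor.fibreDimAt h.left u :=
    ChartIndepH8.fibreDimAt_chart_indep f hlft a₂ b₂ h₂ u₂ a b h u ha₂e hb₂e hae hbe comm₂ comm
      hpt₂
  haveI : LocallyOfFiniteType h'.left := hlft' a' b' h' ha'e hb'e comm1
  have e2 := (Groth.Agent.S9358.result h'.left iV.left iU.left h.left sqUs 0).1 u
  have e3 : iU.left.base u = u' := hu
  rw [e3] at e2
  unfold HasAtMor
  exact ⟨U', V', a', b', h', u', ha'e, hb'e, comm1, hu', e2.symm.trans (e1.symm.trans hdim₂')⟩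

/-- S10591. -/
theorem thickening_mor_cartesian_finiteOrder_local_iff {X X' Y Y' : AlgSp.Space S} (i : X ⟶ X')
    (j : Y ⟶ Y')
    (f : X ⟶ Y) (f' : X' ⟶ Y')
    (hi : AlgSp.IsThickMor i.hom)
    (hj : AlgSp.IsThickMor j.hom) (w : i ≫ f' = f ≫ j)
    (hcart : IsPullback i.hom f.hom f'.hom j.hom)
    (hfo : AlgSp.IsFinThickMor i.hom) (d : ℕ) :
    ((AlgSp.LocP @LocallyOfFiniteType f.hom ∧
        ∀ x, AlgSp.HasAtMor (fun _ _ h u => FlatMor.fibreDimAt h u = (d : WithBot ℕ∞)) f.hom x) ↔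
      (AlgSp.LocP @LocallyOfFiniteType f'.hom ∧
        ∀ x', AlgSp.HasAtMor (fun _ _ h u => FlatMor.fibreDimAt h u = (d : WithBot ℕ∞)) f'.hom x')) ∧
    (AlgSp.LocP @LocallyOfFiniteType f.hom ↔ AlgSp.LocP @LocallyOfFiniteType f'.hom) ∧
    (AlgSp.LocP (@LocallyQuasiFinite ⊓ @LocallyOfFiniteType) f.hom ↔
      AlgSp.LocP (@LocallyQuasiFinite ⊓ @LocallyOfFiniteType) f'.hom) ∧
    (AlgSp.LocP (@LocallyOfFiniteType ⊓ @FormallyUnramified) f.hom ↔
      AlgSp.LocP (@LocallyOfFiniteType ⊓ @FormallyUnramified) f'.hom) := by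
  have hLFT : LocP @LocallyOfFiniteType f.hom ↔ LocP @LocallyOfFiniteType f'.hom :=
    ⟨lft_up X'.property Y'.property i.hom j.hom f.hom f'.hom hj hcart hfo,
      fun h => locP_baseChange etLocal_locallyOfFiniteType X'.property Y'.property Y.property
        f'.hom j.hom i.hom f.hom hcart h⟩
  have key := fun hft hft' =>
    Groth.Agent.Lib.AlgSpUnramLocal.thickening_mor_cartesian_lft_local_iff i j f f' hi hj w hcart
      hft hft'
  have l1 : ∀ {A B : Sp S} (φ : A ⟶ B),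
      LocP (@LocallyQuasiFinite ⊓ @LocallyOfFiniteType) φ → LocP @LocallyOfFiniteType φ :=
    fun φ h U V a b hh hae hbe comm => (h a b hh hae hbe comm).2
  have l2 : ∀ {A B : Sp S} (φ : A ⟶ B),
      LocP (@LocallyOfFiniteType ⊓ @FormallyUnramified) φ → LocP @LocallyOfFiniteType φ :=
    fun φ h U V a b hh hae hbe comm => (h a b hh hae hbe comm).1
  refine ⟨⟨fun h12 => ⟨hLFT.1 h12.1, fun x' => relDim_up2 X'.property Y'.property
      i.hom j.hom f.hom f'.hom hj hcart h12.1 (hLFT.1 h12.1) _ h12.2 x'⟩,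
    fun h12 => ⟨hLFT.2 h12.1, fun x => Groth.Agent.S10311.result f' j i f hcart h12.1 x _
      (h12.2 _)⟩⟩, hLFT, ⟨fun h => ?_, fun h => ?_⟩, ⟨fun h => ?_, fun h => ?_⟩⟩
  · exact (key (l1 _ h) (hLFT.1 (l1 _ h))).1.1 h
  · exact (key (hLFT.2 (l1 _ h)) (l1 _ h)).1.2 h
  · exact (key (l2 _ h) (hLFT.1 (l2 _ h))).2.1 h
  · exact (key (hLFT.2 (l2 _ h)) (l2 _ h)).2.2 h

end Groth.Agent.Lib.AlgSpDeform2H7
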