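import Mathlib

/-!
# Monomorphisms of schemes: residue fields, epimorphisms of fields (helper7)
-/

set_option autoImplicit false
universe u
open CategoryTheory AlgebraicGeometry TensorProduct

namespace Groth.Agent.Lib.MonoValH7

/-- An epimorphism of fields is surjective. -/
theorem surjective_of_isEpi_of_field (K L : Type u) [Field K] [Field L] [Algebra K L]
    [Algebra.IsEpi K L] : Function.Surjective (algebraMap K L) := by
  intro l
  by_contra hl
  have hmem : l ∉ Submodule.span K ({(1 : L)} : Set L) := by
    intro h
    obtain ⟨a, ha⟩ := Submodule.mem_span_singleton.mp h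
    exact hl ⟨a, by rw [Algebra.algebraMap_eq_smul_one, ha]⟩
  obtain ⟨f, hf, hf'⟩ := Submodule.exists_dual_map_eq_bot_of_notMem hmem inferInstance
  have hf1 : f 1 = 0 := by
    have : f 1 ∈ (Submodule.span K ({(1 : L)} : Set L)).map f :=
      ⟨1, Submodule.subset_span rfl, rfl⟩
    rw [hf'] at this
    exact this
  let m : L ⊗[K] L →ₗ[K] L := TensorProduct.lift ((LinearMap.lsmul K L).comp f)
  have h1 := (Algebra.isEpi_iff_forall_one_tmul_eq K L).mp inferInstance l
  have h2 := congrArg m h1
  simp only [m, TensorProduct.lift.tmul, LinearMap.comp_apply, LinearMap.lsmul_apply, hf1,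
    zero_smul] at h2
  have : f l = 0 := by
    by_contra h
    have h3 : f l • (1 : L) ≠ 0 := smul_ne_zero h one_ne_zero
    exact h3 h2.symm
  exact hf this

/-- If `Spec.map φ` is a monomorphism then `φ` is an epimorphism. -/
theorem epi_of_mono_SpecMap {R S : CommRingCat.{u}} (φ : R ⟶ S) [Mono (Spec.map φ)] : Epi φ := by
  refine ⟨fun {T} a b e => ?_⟩
  apply Spec.map_injective
  rw [← cancel_mono (Spec.map φ), ← Spec.map_comp, ← Spec.map_comp, e]

/-- A ring homomorphism between fields which is an epimorphism is surjective. -/
theorem surjective_of_epi_of_field {K L : Type u} [Field K] [Field L] (φ : K →+* L)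
    (h : Epi (CommRingCat.ofHom φ)) : Function.Surjective φ := by
  letI := φ.toAlgebra
  haveI : Epi (CommRingCat.ofHom (algebraMap K L)) := h
  haveI : Algebra.IsEpi K L := CommRingCat.epi_iff_epi.mp inferInstance
  exact surjective_of_isEpi_of_field K L

/-- A monomorphism of schemes induces isomorphisms on residue fields. -/
theorem residueFieldMap_bijective_of_mono {X Y : Scheme.{u}} (f : X ⟶ Y) [Mono f] (x : X) :
    Function.Bijective (f.residueFieldMap x).hom := by
  refine ⟨(f.residueFieldMap x).hom.injective, ?_⟩
  haveI : Mono (Spec.map (f.residueFieldMap x) ≫ Y.fromSpecResidueField (f x)) := by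
    rw [Scheme.Hom.SpecMap_residueFieldMap_fromSpecResidueField]
    infer_instance
  haveI : Mono (Spec.map (f.residueFieldMap x)) :=
    mono_of_mono _ (Y.fromSpecResidueField (f x))
  haveI := epi_of_mono_SpecMap (f.residueFieldMap x)
  exact surjective_of_epi_of_field (f.residueFieldMap x).hom this

instance isIso_residueFieldMap_of_mono {X Y : Scheme.{u}} (f : X ⟶ Y) [Mono f] (x : X) :
    IsIso (f.residueFieldMap x) :=
  (ConcreteCategory.isIso_iff_bijective _).mpr (residueFieldMap_bijective_of_mono f x)

/-- A monomorphism of schemes is injective on points. -/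
theorem injective_of_mono {X Y : Scheme.{u}} (f : X ⟶ Y) [Mono f] : Function.Injective f :=
  Scheme.Hom.injective f

end Groth.Agent.Lib.MonoValH7
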