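import Mathlib
import Groth.Prelude.Def_Flat
import Groth.Agent.Lib.Chev4_helper8
import Groth.Agent.Lib.TopDimLoc_helper8
import Groth.Agent.Lib.FieldExt3_helper8

/-! Upper semicontinuity of the fibre dimension for closed maps locally of finite type. -/

universe u
open AlgebraicGeometry CategoryTheory CategoryTheory.Limits

namespace ClosedFibDimH8

theorem isOpen_fibre_dim_le_of_isClosedMap {X S : Scheme.{u}} (f : X ⟶ S) [LocallyOfFiniteType f]
    (hcl : IsClosedMap f) (c : WithBot ℕ∞) :
    IsOpen {s : S | topologicalKrullDim (f.fiber s) ≤ c} := by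
  induction c with
  | bot =>
    have : {s : S | topologicalKrullDim (f.fiber s) ≤ ⊥} = (Set.range f)ᶜ := by
      ext s
      simp only [Set.mem_ofPred_eq, le_bot_iff, Set.mem_compl_iff, Set.mem_range, not_exists]
      constructor
      · intro h x hx
        exact TopDimLocH8.topDim_ne_bot (f.fiber s) ((f.fiberHomeo s).symm ⟨x, hx⟩) h
      · intro h
        haveI : IsEmpty ↥(f.fiber s) :=
          ⟨fun z => h (f.fiberι s z) (Groth.Agent.FibRes2H8.fiberι_mem f s z)⟩
        exact TopDimLocH8.topDim_eq_bot_of_isEmpty (f.fiber s)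
    rw [this]
    exact (hcl.isClosed_range).isOpen_compl
  | coe c =>
    induction c with
    | top =>
      have : {s : S | topologicalKrullDim (f.fiber s) ≤ ((⊤ : ℕ∞) : WithBot ℕ∞)} = Set.univ := by
        ext s
        simp only [Set.mem_ofPred_eq, Set.mem_univ, iff_true]
        exact le_top
      rw [this]; exact isOpen_univ
    | coe n =>
      have : {s : S | topologicalKrullDim (f.fiber s) ≤ ((n : ℕ∞) : WithBot ℕ∞)} =
          (f '' {x : X | FlatMor.fibreDimAt f x ≤ (n : WithBot ℕ∞)}ᶜ)ᶜ := by
        ext s
        simp only [Set.mem_ofPred_eq, Set.mem_compl_iff, Set.mem_image, not_exists, not_and]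
        rw [TopDimLocH8.topDim_le_iff_forall_localDim]
        constructor
        · intro h x hx hxs
          apply hx
          have := h ((f.fiberHomeo s).symm ⟨x, hxs⟩)
          rw [FieldExtH8.localDim_fiber_eq_fibreDimAt f s _ x (f.fiberι_fiberHomeo_symm _ _)] at this
          exact_mod_cast this
        · intro h z
          rw [FieldExtH8.localDim_fiber_eq_fibreDimAt f s z (f.fiberι s z) rfl]
          by_contra hcon
          exact h (f.fiberι s z) (fun h' => hcon (by exact_mod_cast h'))
            (Groth.Agent.FibRes2H8.fiberι_mem f s z)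
      rw [this]
      exact (hcl _ (ChevH8.isOpen_fibreDimAt_le f n).isClosed_compl).isOpen_compl

theorem isClosed_le_fibre_dim_of_isClosedMap {X S : Scheme.{u}} (f : X ⟶ S) [LocallyOfFiniteType f]
    (hcl : IsClosedMap f) (n : ℕ) :
    IsClosed {s : S | (n : WithBot ℕ∞) ≤ topologicalKrullDim (f.fiber s)} := by
  cases n with
  | zero =>
    have : {s : S | ((0 : ℕ) : WithBot ℕ∞) ≤ topologicalKrullDim (f.fiber s)} =
        {s : S | topologicalKrullDim (f.fiber s) ≤ ⊥}ᶜ := by
      ext s
      simp only [Set.mem_ofPred_eq, Set.mem_compl_iff, le_bot_iff]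
      generalize topologicalKrullDim (f.fiber s) = d
      induction d with
      | bot => simp
      | coe a => simp
    rw [this]
    exact (isOpen_fibre_dim_le_of_isClosedMap f hcl ⊥).isClosed_compl
  | succ m =>
    have : {s : S | ((m + 1 : ℕ) : WithBot ℕ∞) ≤ topologicalKrullDim (f.fiber s)} =
        {s : S | topologicalKrullDim (f.fiber s) ≤ ((m : ℕ∞) : WithBot ℕ∞)}ᶜ := by
      ext s
      simp only [Set.mem_ofPred_eq, Set.mem_compl_iff, not_le]
      generalize topologicalKrullDim (f.fiber s) = d
      induction d with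
      | bot => simp
      | coe a =>
        have h1 : (((m + 1 : ℕ) : WithBot ℕ∞) ≤ ((a : ℕ∞) : WithBot ℕ∞)) ↔
            ((m : ℕ∞) + 1 ≤ a) := by
          constructor
          · intro h; exact_mod_cast h
          · intro h; exact_mod_cast h
        have h2 : (((m : ℕ∞) : WithBot ℕ∞) < ((a : ℕ∞) : WithBot ℕ∞)) ↔ ((m : ℕ∞) < a) :=
          WithBot.coe_lt_coe
        rw [h1, h2]
        exact ENat.add_one_le_iff (ENat.natCast_ne_top m)
    rw [this]
    exact (isOpen_fibre_dim_le_of_isClosedMap f hcl _).isClosed_compl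

end ClosedFibDimH8
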