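import Mathlib
import Groth.Agent.Lib.ResQuot_helper8
import Groth.Agent.Lib.FlatFibDim_helper8
import Groth.Agent.Lib.ResQuot2_helper8

/-! Uniform bound on transcendence degrees of residue field extensions for finite type maps, and
boundedness of fibre dimensions. -/

universe u

open CategoryTheory CategoryTheory.Limits AlgebraicGeometry

namespace Groth.Agent.TrdegBoundH8

theorem exists_trdeg_bound {R B : Type u} [CommRing R] [CommRing B] (φ : R →+* B)
    (hφ : φ.FiniteType) :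
    ∃ n : ℕ, ∀ (q : Ideal B) [q.IsPrime] (p : Ideal R) (hp : p = q.comap φ),
      @Algebra.trdeg (R ⧸ p) (B ⧸ q) _ _ (Ideal.quotientMap q φ (le_of_eq hp)).toAlgebra ≤ n := by
  classical
  letI algRB : Algebra R B := φ.toAlgebra
  haveI hft : Algebra.FiniteType R B := hφ
  obtain ⟨n, g, hg⟩ := Algebra.FiniteType.iff_quotient_mvPolynomial''.mp hft
  refine ⟨n, ?_⟩
  intro q hq p hp
  subst hp
  letI alg0 : Algebra (R ⧸ q.comap φ) (B ⧸ q) := (Ideal.quotientMap q φ le_rfl).toAlgebra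
  have halg0 : ∀ a : R, algebraMap (R ⧸ q.comap φ) (B ⧸ q) (Ideal.Quotient.mk _ a) =
      Ideal.Quotient.mk q (φ a) := fun a => Ideal.quotientMap_mk
  haveI : (q.comap φ).IsPrime := Ideal.IsPrime.comap φ
  let gbar : MvPolynomial (Fin n) (R ⧸ q.comap φ) →ₐ[R ⧸ q.comap φ] B ⧸ q :=
    MvPolynomial.aeval (fun i => Ideal.Quotient.mk q (g (MvPolynomial.X i)))
  have key : ∀ P : MvPolynomial (Fin n) R,
      gbar (MvPolynomial.map (Ideal.Quotient.mk (q.comap φ)) P) = Ideal.Quotient.mk q (g P) := by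
    intro P
    induction P using MvPolynomial.induction_on with
    | C a =>
      rw [MvPolynomial.map_C, MvPolynomial.aeval_C, halg0, MvPolynomial.algHom_C]
      rfl
    | add P Q hP hQ => rw [map_add, map_add, hP, hQ, map_add, map_add]
    | mul_X P i hP =>
      rw [map_mul, map_mul, hP, MvPolynomial.map_X, MvPolynomial.aeval_X, map_mul, map_mul]
  have hsurj : Function.Surjective gbar := by
    intro b
    obtain ⟨b, rfl⟩ := Ideal.Quotient.mk_surjective b
    obtain ⟨P, rfl⟩ := hg b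
    exact ⟨_, key P⟩
  have h1 := _root_.trdeg_le_of_surjective gbar hsurj
  refine h1.trans ?_
  rw [MvPolynomial.trdeg_of_isDomain]
  simp

variable {X S : Scheme.{u}} (f : X ⟶ S)

theorem exists_local_bound [LocallyOfFiniteType f] (x : X) :
    ∃ U : X.Opens, x ∈ U ∧ ∃ n : ℕ, ∀ x' ∈ U,
      @Algebra.trdeg (S.residueField (f.base x')) (X.residueField x') _ _
        (f.residueFieldMap x').hom.toAlgebra ≤ n := by
  obtain ⟨_, ⟨V, hV, rfl⟩, hfxV, -⟩ :=
    S.isBasis_affineOpens.exists_subset_of_mem_open (Set.mem_univ (f.base x)) isOpen_univ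
  obtain ⟨_, ⟨U, hU, rfl⟩, hxU, hUV⟩ :=
    X.isBasis_affineOpens.exists_subset_of_mem_open (show x ∈ (f ⁻¹ᵁ V : Set X) from hfxV)
      (f ⁻¹ᵁ V).2
  have e : U ≤ f ⁻¹ᵁ V := hUV
  have hφ : (f.appLE V U e).hom.FiniteType :=
    HasRingHomProperty.appLE (P := @LocallyOfFiniteType) f inferInstance ⟨V, hV⟩ ⟨U, hU⟩ e
  obtain ⟨n, hn⟩ := exists_trdeg_bound (f.appLE V U e).hom hφ
  refine ⟨U, hxU, n, ?_⟩
  intro x' hx'
  rw [Groth.Agent.ResQuotH8.trdeg_residueFieldMap f hU hV e x' hx']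
  haveI : (hU.primeIdealOf ⟨x', hx'⟩).asIdeal.IsPrime := (hU.primeIdealOf ⟨x', hx'⟩).2
  exact hn (hU.primeIdealOf ⟨x', hx'⟩).asIdeal _
    (Groth.Agent.ResQuotH8.primeIdealOf_map f hU hV e x' hx')

theorem exists_global_bound [LocallyOfFiniteType f] [CompactSpace X] :
    ∃ n : ℕ, ∀ x : X,
      @Algebra.trdeg (S.residueField (f.base x)) (X.residueField x) _ _
        (f.residueFieldMap x).hom.toAlgebra ≤ n := by
  have key : ∃ n : ℕ, ∀ x ∈ (Set.univ : Set X),
      @Algebra.trdeg (S.residueField (f.base x)) (X.residueField x) _ _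
        (f.residueFieldMap x).hom.toAlgebra ≤ n := by
    refine isCompact_univ.induction_on (p := fun s : Set X => ∃ n : ℕ, ∀ x ∈ s,
      @Algebra.trdeg (S.residueField (f.base x)) (X.residueField x) _ _
        (f.residueFieldMap x).hom.toAlgebra ≤ n) ?_ ?_ ?_ ?_
    · exact ⟨0, fun x hx => absurd hx (Set.notMem_empty x)⟩
    · rintro s t hst ⟨n, hn⟩
      exact ⟨n, fun x hx => hn x (hst hx)⟩
    · rintro s t ⟨n, hn⟩ ⟨m, hm⟩
      refine ⟨max n m, fun x hx => ?_⟩
      rcases hx with hx | hx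
      · exact (hn x hx).trans (by exact_mod_cast le_max_left n m)
      · exact (hm x hx).trans (by exact_mod_cast le_max_right n m)
    · intro x _
      obtain ⟨U, hxU, n, hn⟩ := exists_local_bound f x
      refine ⟨U, ?_, n, fun x' hx' => hn x' hx'⟩
      exact mem_nhdsWithin_of_mem_nhds (U.2.mem_nhds hxU)
  obtain ⟨n, hn⟩ := key
  exact ⟨n, fun x => hn x (Set.mem_univ x)⟩

theorem dim_fiber_le [LocallyOfFiniteType f] (n : ℕ)
    (h : ∀ x : X, @Algebra.trdeg (S.residueField (f.base x)) (X.residueField x) _ _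
        (f.residueFieldMap x).hom.toAlgebra ≤ n) (y : S) :
    topologicalKrullDim ↥(f.fiber y) ≤ n := by
  rw [Groth.Agent.ClosHtH8.topologicalKrullDim_eq_iSup_height]
  refine iSup_le fun z => ?_
  obtain ⟨m, hm⟩ := Groth.Agent.ResQuot2H8.exists_trdeg_nat f ((f.fiberι y).base z)
  have hht := Groth.Agent.FlatFibDimH8.height_fiber_eq f _ y
    (Groth.Agent.FibRes2H8.fiberι_mem f y z) z rfl m hm
  rw [hht]
  have hmn : m ≤ n := by
    have := h ((f.fiberι y).base z)
    rw [hm] at this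
    exact_mod_cast this
  exact_mod_cast hmn

end Groth.Agent.TrdegBoundH8
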