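import Mathlib
import Groth.Prelude.Def_Flat
import Groth.Agent.Lib.Retro1_helper8
import Groth.Agent.Lib.TrdegBound_helper8
import Groth.Agent.Lib.TopDimLoc_helper8
import Groth.Agent.Lib.ClosedFibDim_helper8

/-! Local constructibility of the level sets of the fibre dimension (finite presentation). -/

universe u
open AlgebraicGeometry CategoryTheory CategoryTheory.Limits Topology

namespace FibDimConsH8

theorem isLocallyConstructible_compl {T : Type*} [TopologicalSpace T] {s : Set T}
    (hs : IsLocallyConstructible s) : IsLocallyConstructible sᶜ := by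
  intro x
  obtain ⟨U, hxU, hU, hc⟩ := hs x
  refine ⟨U, hxU, hU, ?_⟩
  have : (Subtype.val ⁻¹' sᶜ : Set U) = (Subtype.val ⁻¹' s : Set U)ᶜ := Set.preimage_compl
  rw [this]
  exact hc.compl

variable {X S : Scheme.{u}} (f : X ⟶ S)

/-- the fibres of a quasi-compact morphism locally of finite type are finite dimensional. -/
theorem dim_fiber_lt_top [LocallyOfFiniteType f] [QuasiCompact f] (y : S) :
    ∃ n : ℕ, topologicalKrullDim ↥(f.fiber y) ≤ n := by
  obtain ⟨_, ⟨V, hV, rfl⟩, hyV, -⟩ :=
    S.isBasis_affineOpens.exists_subset_of_mem_open (Set.mem_univ y) isOpen_univ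
  have hV' : IsAffineOpen V := hV
  have hK : IsCompact (f ⁻¹' (V : Set S)) := QuasiCompact.isCompact_preimage _ V.2 hV'.isCompact
  have key : ∃ n : ℕ, ∀ x ∈ (f ⁻¹' (V : Set S)),
      @Algebra.trdeg (S.residueField (f.base x)) (X.residueField x) _ _
        (f.residueFieldMap x).hom.toAlgebra ≤ n := by
    refine hK.induction_on (p := fun s : Set X => ∃ n : ℕ, ∀ x ∈ s,
      @Algebra.trdeg (S.residueField (f.base x)) (X.residueField x) _ _
        (f.residueFieldMap x).hom.toAlgebra ≤ n) ?_ ?_ ?_ ?_
    · exact ⟨0, fun x hx => absurd hx (Set.notMem_empty x)⟩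
    · rintro s t hst ⟨n, hn⟩
      exact ⟨n, fun x hx => hn x (hst hx)⟩
    · rintro s t ⟨n, hn⟩ ⟨m, hm⟩
      refine ⟨max n m, fun x hx => ?_⟩
      rcases hx with hx | hx
      · exact (hn x hx).trans (by exact_mod_cast le_max_left n m)
      · exact (hm x hx).trans (by exact_mod_cast le_max_right n m)
    · intro x _
      obtain ⟨U, hxU, n, hn⟩ := Groth.Agent.TrdegBoundH8.exists_local_bound f x
      refine ⟨U, ?_, n, fun x' hx' => hn x' hx'⟩
      exact mem_nhdsWithin_of_mem_nhds (U.2.mem_nhds hxU)
  obtain ⟨n, hn⟩ := key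
  refine ⟨n, ?_⟩
  rw [Groth.Agent.ClosHtH8.topologicalKrullDim_eq_iSup_height]
  refine iSup_le fun z => ?_
  obtain ⟨m, hm⟩ := Groth.Agent.ResQuot2H8.exists_trdeg_nat f ((f.fiberι y).base z)
  have hmem := Groth.Agent.FibRes2H8.fiberι_mem f y z
  have hht := Groth.Agent.FlatFibDimH8.height_fiber_eq f _ y hmem z rfl m hm
  rw [hht]
  have hmn : m ≤ n := by
    have := hn ((f.fiberι y).base z) (by
      show f ((f.fiberι y).base z) ∈ V
      rw [hmem]; exact hyV)
    rw [hm] at this
    exact_mod_cast this
  exact_mod_cast hmn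

theorem setOf_dim_le_eq [LocallyOfFiniteType f] (n : ℕ) :
    {s : S | topologicalKrullDim (f.fiber s) ≤ ((n : ℕ∞) : WithBot ℕ∞)} =
      (f '' {x : X | FlatMor.fibreDimAt f x ≤ (n : WithBot ℕ∞)}ᶜ)ᶜ := by
  ext s
  simp only [Set.mem_ofPred_eq, Set.mem_compl_iff, Set.mem_image, not_exists, not_and]
  rw [TopDimLocH8.topDim_le_iff_forall_localDim]
  constructor
  · intro h x hx hxs
    apply hx
    have := h ((f.fiberHomeo s).symm ⟨x, hxs⟩)
    rw [FieldExtH8.localDim_fiber_eq_fibreDimAt f s _ x (f.fiberι_fiberHomeo_symm _ _)] at this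
    exact_mod_cast this
  · intro h z
    rw [FieldExtH8.localDim_fiber_eq_fibreDimAt f s z (f.fiberι s z) rfl]
    by_contra hcon
    exact h (f.fiberι s z) (fun h' => hcon (by exact_mod_cast h'))
      (Groth.Agent.FibRes2H8.fiberι_mem f s z)

theorem setOf_dim_le_bot_eq :
    {s : S | topologicalKrullDim (f.fiber s) ≤ ⊥} = (f '' Set.univ)ᶜ := by
  ext s
  simp only [Set.mem_ofPred_eq, le_bot_iff, Set.mem_compl_iff, Set.image_univ, Set.mem_range,
    not_exists]
  constructor
  · intro h x hx
    exact TopDimLocH8.topDim_ne_bot (f.fiber s) ((f.fiberHomeo s).symm ⟨x, hx⟩) h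
  · intro h
    haveI : IsEmpty ↥(f.fiber s) :=
      ⟨fun z => h (f.fiberι s z) (Groth.Agent.FibRes2H8.fiberι_mem f s z)⟩
    exact TopDimLocH8.topDim_eq_bot_of_isEmpty (f.fiber s)

theorem isLocallyConstructible_dim_le [LocallyOfFinitePresentation f] [QuasiCompact f] (n : ℕ) :
    IsLocallyConstructible {s : S | topologicalKrullDim (f.fiber s) ≤ ((n : ℕ∞) : WithBot ℕ∞)} := by
  rw [setOf_dim_le_eq]
  apply isLocallyConstructible_compl
  apply f.isLocallyConstructible_image
  apply isLocallyConstructible_compl
  exact (RetroH8.isRetrocompact_fibreDimAt_le f n).isLocallyConstructible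
    (ChevH8.isOpen_fibreDimAt_le f n)

theorem isLocallyConstructible_dim_le_bot [LocallyOfFinitePresentation f] [QuasiCompact f] :
    IsLocallyConstructible {s : S | topologicalKrullDim (f.fiber s) ≤ ⊥} := by
  rw [setOf_dim_le_bot_eq]
  apply isLocallyConstructible_compl
  exact f.isLocallyConstructible_image IsLocallyConstructible.univ

theorem isLocallyConstructible_dim_eq [LocallyOfFinitePresentation f] [QuasiCompact f]
    (n : WithBot ℕ∞) :
    IsLocallyConstructible {s : S | topologicalKrullDim (f.fiber s) = n} := by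
  induction n with
  | bot =>
    have : {s : S | topologicalKrullDim (f.fiber s) = ⊥} =
        {s : S | topologicalKrullDim (f.fiber s) ≤ ⊥} := by
      ext s; simp
    rw [this]
    exact isLocallyConstructible_dim_le_bot f
  | coe c =>
    induction c with
    | top =>
      have : {s : S | topologicalKrullDim (f.fiber s) = ((⊤ : ℕ∞) : WithBot ℕ∞)} = ∅ := by
        ext s
        simp only [Set.mem_ofPred_eq, Set.mem_empty_iff_false, iff_false]
        intro h
        obtain ⟨m, hm⟩ := dim_fiber_lt_top f s
        rw [h] at hm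
        have : (⊤ : ℕ∞) ≤ (m : ℕ∞) := by exact_mod_cast hm
        exact absurd this (by simp)
      rw [this]
      exact IsLocallyConstructible.empty
    | coe m =>
      cases m with
      | zero =>
        have : {s : S | topologicalKrullDim (f.fiber s) = (((0 : ℕ) : ℕ∞) : WithBot ℕ∞)} =
            {s : S | topologicalKrullDim (f.fiber s) ≤ (((0 : ℕ) : ℕ∞) : WithBot ℕ∞)} ∩
              {s : S | topologicalKrullDim (f.fiber s) ≤ ⊥}ᶜ := by
          ext s
          simp only [Set.mem_ofPred_eq, Set.mem_inter_iff, Set.mem_compl_iff, le_bot_iff]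
          generalize topologicalKrullDim (f.fiber s) = d
          induction d with
          | bot => simp
          | coe a =>
            simp only [WithBot.coe_ne_bot, not_false_eq_true, and_true]
            constructor
            · intro h; rw [h]
            · intro h
              apply le_antisymm h
              exact_mod_cast (bot_le : (0 : ℕ∞) ≤ a)
        rw [this]
        exact (isLocallyConstructible_dim_le f 0).inter
          (isLocallyConstructible_compl (isLocallyConstructible_dim_le_bot f))
      | succ k =>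
        have : {s : S | topologicalKrullDim (f.fiber s) = (((k + 1 : ℕ) : ℕ∞) : WithBot ℕ∞)} =
            {s : S | topologicalKrullDim (f.fiber s) ≤ (((k + 1 : ℕ) : ℕ∞) : WithBot ℕ∞)} ∩
              {s : S | topologicalKrullDim (f.fiber s) ≤ ((k : ℕ∞) : WithBot ℕ∞)}ᶜ := by
          ext s
          simp only [Set.mem_ofPred_eq, Set.mem_inter_iff, Set.mem_compl_iff, not_le]
          generalize topologicalKrullDim (f.fiber s) = d
          induction d with
          | bot =>
            constructor
            · intro h; exact absurd h WithBot.bot_ne_coe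
            · rintro ⟨-, h⟩; exact absurd h not_lt_bot
          | coe a =>
            have h1 : (((a : ℕ∞) : WithBot ℕ∞) = (((k + 1 : ℕ) : ℕ∞) : WithBot ℕ∞)) ↔
                a = ((k + 1 : ℕ) : ℕ∞) := WithBot.coe_inj
            have h2 : (((a : ℕ∞) : WithBot ℕ∞) ≤ (((k + 1 : ℕ) : ℕ∞) : WithBot ℕ∞)) ↔
                a ≤ ((k + 1 : ℕ) : ℕ∞) := WithBot.coe_le_coe
            have h3 : (((k : ℕ∞) : WithBot ℕ∞) < ((a : ℕ∞) : WithBot ℕ∞)) ↔ (k : ℕ∞) < a :=
              WithBot.coe_lt_coe
            rw [h1, h2, h3]
            constructor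
            · intro h
              rw [h]
              exact ⟨le_refl _, by exact_mod_cast Nat.lt_succ_self k⟩
            · rintro ⟨hle, hlt⟩
              apply le_antisymm hle
              have := (ENat.add_one_le_iff (ENat.natCast_ne_top k)).mpr hlt
              exact_mod_cast this
        rw [this]
        exact (isLocallyConstructible_dim_le f (k + 1)).inter
          (isLocallyConstructible_compl (isLocallyConstructible_dim_le f k))

end FibDimConsH8
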