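import Mathlib
import Groth.Prelude.Def_EGA43
import Groth.Agent.Lib.FibDimCons_helper8
import Groth.Agent.Lib.FieldExt3_helper8
import Groth.Agent.Lib.QSecA_helper8
import Groth.Agent.Lib.ResTrdeg1_helper8

/-! Constructibility of the set of points of the base over which the induced morphism of fibres
is surjective / quasi-finite (EGA IV 9.6.1). -/

universe u
open AlgebraicGeometry CategoryTheory TopologicalSpace Limits Topology

namespace FibMorConsH8

theorem lfp_of_comp {X Y Z : Scheme.{u}} (f : X ⟶ Y) (g : Y ⟶ Z)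
    [LocallyOfFinitePresentation (f ≫ g)] [LocallyOfFiniteType g] :
    LocallyOfFinitePresentation f := by
  rw [HasRingHomProperty.iff_exists_appLE (P := @LocallyOfFinitePresentation)
    (RingHom.finitePresentation_stableUnderComposition.stableUnderCompositionWithLocalizationAway
      RingHom.finitePresentation_holdsForLocalizationAway).left]
  intro x
  obtain ⟨_, ⟨W, hW, rfl⟩, hxW, -⟩ := Z.isBasis_affineOpens.exists_subset_of_mem_open
    (Set.mem_univ (g (f x))) isOpen_univ
  obtain ⟨_, ⟨U, hU, rfl⟩, hxU, hUW⟩ := Y.isBasis_affineOpens.exists_subset_of_mem_open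
    (show f x ∈ g ⁻¹ᵁ W from hxW) (g ⁻¹ᵁ W).isOpen
  obtain ⟨_, ⟨V, hV, rfl⟩, hxV, hVU⟩ := X.isBasis_affineOpens.exists_subset_of_mem_open
    (show x ∈ f ⁻¹ᵁ U from hxU) (f ⁻¹ᵁ U).isOpen
  refine ⟨⟨U, hU⟩, ⟨V, hV⟩, hxV, hVU, ?_⟩
  have hVW : V ≤ (f ≫ g) ⁻¹ᵁ W := fun y hy => hUW (hVU hy)
  have h1 := HasRingHomProperty.appLE (P := @LocallyOfFinitePresentation) (f := f ≫ g)
    inferInstance ⟨W, hW⟩ ⟨V, hV⟩ hVW
  have h2 := HasRingHomProperty.appLE (P := @LocallyOfFiniteType) (f := g)
    inferInstance ⟨W, hW⟩ ⟨U, hU⟩ hUW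
  have h3 : (f ≫ g).appLE W V hVW = g.appLE W U hUW ≫ f.appLE U V hVU :=
    (Scheme.Hom.appLE_comp_appLE f g W U V hUW hVU).symm
  rw [h3, CommRingCat.hom_comp] at h1
  exact RingHom.FinitePresentation.of_comp_finiteType _ h1 h2

variable {X Y S : Scheme.{u}} (f : X ⟶ Y) (g : Y ⟶ S)

/-- the morphism induced on the fibres over `s`. -/
noncomputable abbrev fs (s : S) :
    pullback (f ≫ g) (S.fromSpecResidueField s) ⟶ pullback g (S.fromSpecResidueField s) :=
  pullback.lift (pullback.fst (f ≫ g) (S.fromSpecResidueField s) ≫ f)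
    (pullback.snd (f ≫ g) (S.fromSpecResidueField s))
    ((Category.assoc _ _ _).trans pullback.condition)

theorem isPullback_fs (s : S) :
    IsPullback (pullback.fst (f ≫ g) (S.fromSpecResidueField s)) (fs f g s) f
      (pullback.fst g (S.fromSpecResidueField s)) := by
  refine IsPullback.of_bot ?_ (pullback.lift_fst _ _ _).symm
    (IsPullback.of_hasPullback g (S.fromSpecResidueField s))
  have h : fs f g s ≫ pullback.snd g (S.fromSpecResidueField s) =
      pullback.snd (f ≫ g) (S.fromSpecResidueField s) := pullback.lift_snd _ _ _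
  rw [h]
  exact IsPullback.of_hasPullback (f ≫ g) _

theorem exists_preimage_of_isPullback {P A B C : Scheme.{u}} {a : P ⟶ A} {b : P ⟶ B}
    {p : A ⟶ C} {q : B ⟶ C} (h : IsPullback a b p q) (x : A) (y : B) (hxy : p.base x = q.base y) :
    ∃ z : P, a.base z = x ∧ b.base z = y := by
  obtain ⟨z, hz1, hz2⟩ := Scheme.Pullback.exists_preimage_pullback (f := p) (g := q) x y hxy
  refine ⟨h.isoPullback.inv.base z, ?_, ?_⟩
  · rw [← hz1, ← Scheme.Hom.comp_apply, h.isoPullback_inv_fst]
  · rw [← hz2, ← Scheme.Hom.comp_apply, h.isoPullback_inv_snd]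

theorem surjective_fs_iff (s : S) :
    Function.Surjective (fs f g s).base ↔ g.base ⁻¹' {s} ⊆ Set.range f.base := by
  have hsq := isPullback_fs f g s
  constructor
  · intro hsurj y hy
    have hy' : y ∈ Set.range (g.fiberι s).base := by rw [Scheme.Hom.range_fiberι]; exact hy
    obtain ⟨y', rfl⟩ := hy'
    obtain ⟨x', rfl⟩ := hsurj y'
    refine ⟨(pullback.fst (f ≫ g) (S.fromSpecResidueField s)).base x', ?_⟩
    have := congrArg (fun φ => φ.base x') hsq.w
    exact this
  · intro hsub y'
    obtain ⟨x, hx⟩ := hsub (show (g.fiberι s).base y' ∈ g.base ⁻¹' {s} by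
      rw [← Scheme.Hom.range_fiberι]; exact ⟨y', rfl⟩)
    obtain ⟨z, -, hz⟩ := exists_preimage_of_isPullback hsq x y' hx
    exact ⟨z, hz⟩

theorem main43 [LocallyOfFinitePresentation g] [QuasiCompact g] [QuasiSeparated g]
    [LocallyOfFinitePresentation (f ≫ g)] [QuasiCompact (f ≫ g)] [QuasiSeparated (f ≫ g)] :
    IsLocallyConstructible {s : S | Function.Surjective (fs f g s).base} := by
  haveI : LocallyOfFinitePresentation f := lfp_of_comp f g
  haveI : QuasiCompact f := QuasiCompact.of_comp f g
  have hset : {s : S | Function.Surjective (fs f g s).base} =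
      (g.base '' (Set.range f.base)ᶜ)ᶜ := by
    ext s
    rw [Set.mem_setOf_eq, surjective_fs_iff]
    simp only [Set.mem_compl_iff, Set.mem_image, not_exists, not_and]
    constructor
    · intro h y hy hys
      exact hy (h hys)
    · intro h y hy
      by_contra hcon
      exact h y hcon hy
  rw [hset]
  apply FibDimConsH8.isLocallyConstructible_compl
  apply g.isLocallyConstructible_image
  apply FibDimConsH8.isLocallyConstructible_compl
  rw [← Set.image_univ]
  exact f.isLocallyConstructible_image IsLocallyConstructible.univ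

theorem lqf_fs_iff [LocallyOfFiniteType f] (s : S) :
    LocallyQuasiFinite (fs f g s) ↔
      ∀ x : X, (f ≫ g).base x = s → FlatMor.fibreDimAt f x ≤ 0 := by
  have hsq := isPullback_fs f g s
  haveI : LocallyOfFiniteType (fs f g s) :=
    MorphismProperty.of_isPullback (P := @LocallyOfFiniteType) hsq inferInstance
  have hbc : ∀ x' : ↥(pullback (f ≫ g) (S.fromSpecResidueField s)),
      FlatMor.fibreDimAt (fs f g s) x' =
        FlatMor.fibreDimAt f ((pullback.fst (f ≫ g) (S.fromSpecResidueField s)).base x') :=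
    fun x' => FieldExtH8.fibreDimAt_baseChange f (pullback.fst g (S.fromSpecResidueField s))
      (pullback.fst (f ≫ g) (S.fromSpecResidueField s)) (fs f g s) hsq x'
  constructor
  · intro hlqf x hx
    have hx' : x ∈ Set.range ((f ≫ g).fiberι s).base := by
      rw [Scheme.Hom.range_fiberι]; exact hx
    obtain ⟨x', rfl⟩ := hx'
    have h1 := hbc x'
    rw [FibCohH8.fibreDimAt_eq (fs f g s) x', FibCohH8.fibCoh_eq_zero_of_lqf,
      ResTrdegH8.resTrdeg_eq_zero_of_lqf] at h1
    change FlatMor.fibreDimAt f ((pullback.fst (f ≫ g) (S.fromSpecResidueField s)).base x') ≤ 0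
    rw [← h1]
    simp
  · intro h
    apply QSecH8.locallyQuasiFinite_of_fibreDimAt_le_zero
    intro t
    rw [hbc t]
    apply h
    exact Groth.Agent.FibRes2H8.fiberι_mem (f ≫ g) s t

theorem main45 [LocallyOfFinitePresentation g] [QuasiCompact g] [QuasiSeparated g]
    [LocallyOfFinitePresentation (f ≫ g)] [QuasiCompact (f ≫ g)] [QuasiSeparated (f ≫ g)] :
    IsLocallyConstructible {s : S | LocallyQuasiFinite (fs f g s)} := by
  haveI : LocallyOfFinitePresentation f := lfp_of_comp f g
  have hset : {s : S | LocallyQuasiFinite (fs f g s)} =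
      ((f ≫ g).base '' {x : X | FlatMor.fibreDimAt f x ≤ ((0 : ℕ) : WithBot ℕ∞)}ᶜ)ᶜ := by
    ext s
    rw [Set.mem_setOf_eq, lqf_fs_iff]
    simp only [Set.mem_compl_iff, Set.mem_image, Set.mem_setOf_eq, not_exists, not_and,
      Nat.cast_zero]
    constructor
    · intro h x hx hxs
      exact hx (h x hxs)
    · intro h x hxs
      by_contra hcon
      exact h x hcon hxs
  rw [hset]
  apply FibDimConsH8.isLocallyConstructible_compl
  apply (f ≫ g).isLocallyConstructible_image
  apply FibDimConsH8.isLocallyConstructible_compl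
  exact (RetroH8.isRetrocompact_fibreDimAt_le f 0).isLocallyConstructible
    (ChevH8.isOpen_fibreDimAt_le f 0)

end FibMorConsH8
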