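import Mathlib
import Groth.Prelude.Def_MoreMor
import Groth.Agent.Lib.FibStalkIso_helper5
import Groth.Agent.Lib.FibMorCons_helper8

/-! Fibre map `X_s ⟶ Y_s` and stalks: the square
`O_{Y,y} → O_{X,x}`, `O_{Y_s,y} → O_{X_s,x}` (helper8). APPEND-ONLY once landed. -/

set_option autoImplicit false
universe u

namespace Groth.Agent.Lib.FibCritH8

open AlgebraicGeometry CategoryTheory Limits IsLocalRing
open Groth.Agent.FibStalkDimH8 FibRedH8 Groth.Agent.FibStalkIso

variable {X Y S : Scheme.{u}} (f : X ⟶ Y) (g : Y ⟶ S)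

theorem fiberMap_fiberι (s : S) :
    MoreMor.fiberMap f g s ≫ g.fiberι s = (f ≫ g).fiberι s ≫ f :=
  pullback.lift_fst _ _ _

theorem fiberMap_asFiber (x : X) :
    (MoreMor.fiberMap f g (g (f x))) ((f ≫ g).asFiber x) = g.asFiber (f x) := by
  apply (g.fiberι (g (f x))).isEmbedding.injective
  rw [← Scheme.Hom.comp_apply, fiberMap_fiberι, Scheme.Hom.comp_apply]
  rw [Scheme.Hom.fiberι_asFiber]
  exact congrArg f ((f ≫ g).fiberι_asFiber x)

theorem toFib_square (x : X) :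
    toFib g (f x) ≫ (g.fiber (g (f x))).presheaf.stalkSpecializes
        (specializes_of_eq (fiberMap_asFiber f g x)) ≫
        (MoreMor.fiberMap f g (g (f x))).stalkMap ((f ≫ g).asFiber x) =
      f.stalkMap x ≫ toFib (f ≫ g) x := by
  apply TopCat.Presheaf.stalk_hom_ext
  intro U hxU
  have hR : Y.presheaf.germ U (f x) hxU ≫ f.stalkMap x ≫ toFib (f ≫ g) x =
      f.app U ≫ (X.presheaf.germ (f ⁻¹ᵁ U) x hxU ≫ toFib (f ≫ g) x) :=
    Scheme.Hom.germ_stalkMap_assoc f U x hxU _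
  have hR2 := germ_toFib (f ≫ g) x (f ⁻¹ᵁ U) hxU
  have hR3 := hR.trans (congrArg (fun t => f.app U ≫ t) hR2)
  refine Eq.trans ?_ hR3.symm
  rw [← Category.assoc, germ_toFib, Category.assoc, TopCat.Presheaf.germ_stalkSpecializes_assoc,
    Scheme.Hom.germ_stalkMap]
  have h1 := Scheme.Hom.congr_app (fiberMap_fiberι f g (g (f x))) U
  rw [Scheme.Hom.comp_app, Scheme.Hom.comp_app] at h1
  rw [← Category.assoc, h1]
  refine (Category.assoc _ _ _).trans ?_
  refine (Category.assoc _ _ _).trans ?_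
  refine congrArg (fun t => f.app U ≫ t) ?_
  refine congrArg (fun t => ((f ≫ g).fiberι (g (f x))).app (f ⁻¹ᵁ U) ≫ t) ?_
  exact TopCat.Presheaf.germ_res _ _ _ _

end Groth.Agent.Lib.FibCritH8
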