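import Mathlib

/-! Algebra: flatness of the fibre ring map in terms of quotients (helper8). APPEND-ONLY. -/

set_option autoImplicit false
universe u

namespace Groth.Agent.Lib.FibCritH8

/-- `β̄ : B/I → C/IC` is flat iff `C/IC` (as the quotient module `C ⧸ I • ⊤`) is flat over `B/I`. -/
theorem quotientMap_flat_iff {B C : Type u} [CommRing B] [CommRing C] [Algebra B C] (I : Ideal B) :
    (Ideal.quotientMap (I.map (algebraMap B C)) (algebraMap B C) Ideal.le_comap_map).Flat ↔
      Module.Flat (B ⧸ I) (C ⧸ I • (⊤ : Submodule B C)) := by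
  letI : Algebra (B ⧸ I) (C ⧸ I.map (algebraMap B C)) :=
    (Ideal.quotientMap (I.map (algebraMap B C)) (algebraMap B C) Ideal.le_comap_map).toAlgebra
  have hsub : (I • (⊤ : Submodule B C)) = (I.map (algebraMap B C)).restrictScalars B := by
    rw [Ideal.smul_top_eq_map]
  let e₀ : (C ⧸ I • (⊤ : Submodule B C)) ≃ₗ[B] (C ⧸ I.map (algebraMap B C)) :=
    (Submodule.quotEquivOfEq _ _ hsub).trans
      (Submodule.Quotient.restrictScalarsEquiv B (I.map (algebraMap B C)))
  let e : (C ⧸ I • (⊤ : Submodule B C)) ≃ₗ[B ⧸ I] (C ⧸ I.map (algebraMap B C)) :=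
    { e₀ with
      map_smul' := by
        intro r q
        obtain ⟨b, rfl⟩ := Ideal.Quotient.mk_surjective r
        obtain ⟨c, rfl⟩ := Submodule.Quotient.mk_surjective _ q
        show e₀ (Ideal.Quotient.mk I b • Submodule.Quotient.mk c) =
          Ideal.Quotient.mk I b • e₀ (Submodule.Quotient.mk c)
        rw [Module.Quotient.mk_smul_mk]
        have he : ∀ c : C, e₀ (Submodule.Quotient.mk c) =
            Ideal.Quotient.mk (I.map (algebraMap B C)) c := fun c => rfl
        rw [he, he]
        show _ = (Ideal.quotientMap _ _ _ (Ideal.Quotient.mk I b)) * _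
        rw [Ideal.quotientMap_mk, ← map_mul, Algebra.smul_def] }
  show Module.Flat (B ⧸ I) (C ⧸ I.map (algebraMap B C)) ↔ _
  exact (Module.Flat.equiv_iff e).symm

/-- Transport of flatness along a commutative square with surjective vertical maps whose kernels
are generated by the image of an ideal `m` of a base ring. -/
theorem flat_iff_of_square {A B C B' C' : Type u} [CommRing A] [CommRing B] [CommRing C]
    [CommRing B'] [CommRing C'] [Algebra A B] [Algebra B C] [Algebra A C] [IsScalarTower A B C]
    (m : Ideal A) (πB : B →+* B') (πC : C →+* C') (hB : Function.Surjective πB)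
    (hC : Function.Surjective πC) (hkB : RingHom.ker πB = m.map (algebraMap A B))
    (hkC : RingHom.ker πC = m.map (algebraMap A C)) (β' : B' →+* C')
    (hsq : β'.comp πB = πC.comp (algebraMap B C)) :
    β'.Flat ↔ Module.Flat (B ⧸ m.map (algebraMap A B))
      (C ⧸ (m.map (algebraMap A B)) • (⊤ : Submodule B C)) := by
  rw [← quotientMap_flat_iff]
  have hIC : (m.map (algebraMap A B)).map (algebraMap B C) = m.map (algebraMap A C) := by
    rw [Ideal.map_map, ← IsScalarTower.algebraMap_eq]
  let eB : (B ⧸ m.map (algebraMap A B)) ≃+* B' :=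
    (Ideal.quotEquivOfEq hkB.symm).trans (RingHom.quotientKerEquivOfSurjective hB)
  let eC : (C ⧸ (m.map (algebraMap A B)).map (algebraMap B C)) ≃+* C' :=
    (Ideal.quotEquivOfEq (hIC.trans hkC.symm)).trans (RingHom.quotientKerEquivOfSurjective hC)
  have hcomm : β'.comp eB.toRingHom = eC.toRingHom.comp
      (Ideal.quotientMap ((m.map (algebraMap A B)).map (algebraMap B C)) (algebraMap B C)
        Ideal.le_comap_map) := by
    apply Ideal.Quotient.ringHom_ext
    ext b
    have h0 : β' (πB b) = πC (algebraMap B C b) := congrArg (fun φ => φ b) hsq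
    have hB' : eB (Ideal.Quotient.mk (m.map (algebraMap A B)) b) = πB b := by simp [eB]
    have hC' : ∀ c : C, eC (Ideal.Quotient.mk ((m.map (algebraMap A B)).map (algebraMap B C)) c) =
        πC c := fun c => by simp [eC]
    show β' (eB (Ideal.Quotient.mk (m.map (algebraMap A B)) b)) =
      eC (Ideal.quotientMap ((m.map (algebraMap A B)).map (algebraMap B C)) (algebraMap B C)
        Ideal.le_comap_map (Ideal.Quotient.mk (m.map (algebraMap A B)) b))
    rw [hB', Ideal.quotientMap_mk, hC', h0]
  rw [← RingHom.Flat.comp_iff_of_bijective_right (f := β') (g := eB.toRingHom) eB.bijective, hcomm,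
    RingHom.Flat.comp_iff_of_bijective_left (g := eC.toRingHom) eC.bijective]

end Groth.Agent.Lib.FibCritH8
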