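import Mathlib
import Groth.Agent.Lib.FibCrit1_helper8
import Groth.Agent.Lib.FibCrit2_helper8

/-! Flatness of the fibre map `X_s ⟶ Y_s` at `x` in terms of the local rings (helper8).
APPEND-ONLY once landed. -/

set_option autoImplicit false
universe u

namespace Groth.Agent.Lib.FibCritH8

open AlgebraicGeometry CategoryTheory Limits IsLocalRing
open Groth.Agent.FibStalkDimH8 FibRedH8 Groth.Agent.FibStalkIso

variable {X Y S : Scheme.{u}} (f : X ⟶ Y) (g : Y ⟶ S)

theorem fiberMap_stalkMap_flat_iff (x : X) :
    letI : Algebra (S.presheaf.stalk (g (f x))) (Y.presheaf.stalk (f x)) :=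
      (g.stalkMap (f x)).hom.toAlgebra
    letI : Algebra (Y.presheaf.stalk (f x)) (X.presheaf.stalk x) := (f.stalkMap x).hom.toAlgebra
    ((MoreMor.fiberMap f g (g (f x))).stalkMap ((f ≫ g).asFiber x)).hom.Flat ↔
      Module.Flat
        (Y.presheaf.stalk (f x) ⧸ (maximalIdeal (S.presheaf.stalk (g (f x)))).map
          (algebraMap (S.presheaf.stalk (g (f x))) (Y.presheaf.stalk (f x))))
        (X.presheaf.stalk x ⧸ ((maximalIdeal (S.presheaf.stalk (g (f x)))).map
          (algebraMap (S.presheaf.stalk (g (f x))) (Y.presheaf.stalk (f x)))) •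
            (⊤ : Submodule (Y.presheaf.stalk (f x)) (X.presheaf.stalk x))) := by
  letI : Algebra (S.presheaf.stalk (g (f x))) (Y.presheaf.stalk (f x)) :=
    (g.stalkMap (f x)).hom.toAlgebra
  letI : Algebra (Y.presheaf.stalk (f x)) (X.presheaf.stalk x) := (f.stalkMap x).hom.toAlgebra
  letI : Algebra (S.presheaf.stalk (g (f x))) (X.presheaf.stalk x) :=
    ((f ≫ g).stalkMap x).hom.toAlgebra
  haveI : IsScalarTower (S.presheaf.stalk (g (f x))) (Y.presheaf.stalk (f x))
      (X.presheaf.stalk x) := by
    refine IsScalarTower.of_algebraMap_eq (fun a => ?_)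
    show ((f ≫ g).stalkMap x).hom a = (f.stalkMap x).hom ((g.stalkMap (f x)).hom a)
    rw [Scheme.Hom.stalkMap_comp]
    rfl
  show _ ↔ _
  have hiso : Function.Bijective ((g.fiber (g (f x))).presheaf.stalkSpecializes
      (specializes_of_eq (fiberMap_asFiber f g x))).hom := by
    have : IsIso ((g.fiber (g (f x))).presheaf.stalkSpecializes
        (specializes_of_eq (fiberMap_asFiber f g x))) :=
      inferInstanceAs (IsIso ((g.fiber (g (f x))).presheaf.stalkCongr
        (Inseparable.of_eq (fiberMap_asFiber f g x).symm)).hom)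
    exact ConcreteCategory.bijective_of_isIso _
  have key := flat_iff_of_square (A := S.presheaf.stalk (g (f x))) (B := Y.presheaf.stalk (f x))
    (C := X.presheaf.stalk x) (maximalIdeal (S.presheaf.stalk (g (f x))))
    (toFib g (f x)).hom (toFib (f ≫ g) x).hom (toFib_surjective g (f x))
    (toFib_surjective (f ≫ g) x) (ker_toFib g (f x)) (ker_toFib (f ≫ g) x)
    (((g.fiber (g (f x))).presheaf.stalkSpecializes
        (specializes_of_eq (fiberMap_asFiber f g x)) ≫
        (MoreMor.fiberMap f g (g (f x))).stalkMap ((f ≫ g).asFiber x)).hom)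
    (congrArg CommRingCat.Hom.hom (toFib_square f g x))
  rw [← key]
  exact (RingHom.Flat.comp_iff_of_bijective_right hiso).symm

end Groth.Agent.Lib.FibCritH8
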