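import Mathlib
import Groth.Agent.Lib.SmoothDesc_helper4
import Groth.Agent.Lib.UnramDesc_helper4

/-!
# Smoothness at a point: flat + smooth fibre (helper4)
-/

universe u

set_option linter.style.haveILetI false

open CategoryTheory CategoryTheory.Limits AlgebraicGeometry

namespace Groth.Agent.Lib.UnramLocH4

section Part0

variable {X Y : Scheme.{u}}

lemma smooth_smoothLocus (f : X ⟶ Y) [LocallyOfFinitePresentation f] :
    Smooth (f.smoothLocus.ι ≫ f) := by
  rw [← Scheme.Hom.smoothLocus_eq_top_iff, ← Scheme.Hom.preimage_smoothLocus_eq]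
  exact Scheme.Opens.ι_preimage_self _

lemma stalk_smooth_of_nhd (f : X ⟶ Y) [LocallyOfFinitePresentation f] (x : X) (U : X.Opens)
    (hx : x ∈ U) (hU : Smooth (U.ι ≫ f)) : (f.stalkMap x).hom.FormallySmooth := by
  have h0 : (⟨x, hx⟩ : U) ∈ (U.ι ≫ f).smoothLocus := by
    rw [Scheme.Hom.smoothLocus_eq_top]; trivial
  have h1 : ((U.ι ≫ f).stalkMap ⟨x, hx⟩).hom.FormallySmooth := h0
  exact (stalk_transfer RingHom.FormallySmooth.respectsIso U.ι f (U.ι ≫ f) (𝟙 _)
    (Category.comp_id _).symm ⟨x, hx⟩).mp h1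

theorem stalk_smooth_baseChange {X Y X' Y' : Scheme.{u}} {f : X ⟶ Y} {g : Y' ⟶ Y}
    {f' : X' ⟶ Y'} {g' : X' ⟶ X} (sq : IsPullback g' f' f g) [LocallyOfFinitePresentation f]
    [LocallyOfFinitePresentation f'] (x' : X')
    (h : (f.stalkMap (g'.base x')).hom.FormallySmooth) :
    (f'.stalkMap x').hom.FormallySmooth := by
  have hx : g'.base x' ∈ f.smoothLocus := h
  have hx' : x' ∈ g' ⁻¹ᵁ f.smoothLocus := hx
  have hU : Smooth (f.smoothLocus.ι ≫ f) := smooth_smoothLocus f
  have big : IsPullback (g' ∣_ f.smoothLocus) ((g' ⁻¹ᵁ f.smoothLocus).ι ≫ f')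
      (f.smoothLocus.ι ≫ f) g :=
    (isPullback_morphismRestrict g' f.smoothLocus).paste_vert sq
  have hV : Smooth ((g' ⁻¹ᵁ f.smoothLocus).ι ≫ f') :=
    MorphismProperty.of_isPullback (P := @Smooth) big hU
  exact stalk_smooth_of_nhd f' x' _ hx' hV

theorem stalk_smooth_iff_of_isPullback_of_flat {X Y X' Y' : Scheme.{u}} {f : X ⟶ Y} {g : Y' ⟶ Y}
    {f' : X' ⟶ Y'} {g' : X' ⟶ X} (sq : IsPullback g' f' f g) [Flat g]
    [LocallyOfFinitePresentation f] [LocallyOfFinitePresentation f'] (x' : X') :
    (f'.stalkMap x').hom.FormallySmooth ↔ (f.stalkMap (g'.base x')).hom.FormallySmooth := by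
  refine ⟨fun h => ?_, stalk_smooth_baseChange sq x'⟩
  have h1 : sq.isoPullback.hom ≫ pullback.snd f g = f' ≫ 𝟙 _ := by
    rw [Category.comp_id]; exact sq.isoPullback_hom_snd
  have h2 : ((pullback.snd f g).stalkMap (sq.isoPullback.hom.base x')).hom.FormallySmooth :=
    (stalk_transfer RingHom.FormallySmooth.respectsIso sq.isoPullback.hom
      (pullback.snd f g) f' (𝟙 _) h1 x').mp h
  have h3 := stalk_smooth_descent_of_flat f g (sq.isoPullback.hom.base x') h2
  have hpt : (pullback.fst f g).base (sq.isoPullback.hom.base x') = g'.base x' := by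
    rw [← Scheme.Hom.comp_apply, sq.isoPullback_hom_fst]
  exact (stalk_congr_point (P := RingHom.FormallySmooth) f hpt).mp h3

end Part0

section PieceA

open TensorProduct IsLocalRing Algebra

variable {R S : Type u} [CommRing R] [CommRing S] [Algebra R S]

set_option backward.isDefEq.respectTransparency false in
/-- `κ ⊗[R] S ≃ S/mS` for a local ring `R`. -/
noncomputable def resTensorEquiv (R S : Type u) [CommRing R] [CommRing S] [Algebra R S]
    [IsLocalRing R] :
    ResidueField R ⊗[R] S ≃ₐ[R] S ⧸ (maximalIdeal R).map (algebraMap R S) :=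
  (Algebra.TensorProduct.comm _ _ _).trans
    ((Algebra.TensorProduct.quotIdealMapEquivTensorQuot S (maximalIdeal R)).symm.restrictScalars _)

/-- Local form of `Algebra.IsSmoothAt.of_formallySmooth_fiber`. -/
theorem formallySmooth_localization_of_flat_of_residue
    [Algebra.FinitePresentation R S] (p : Ideal R) [p.IsPrime] (q : Ideal S) [q.IsPrime]
    [q.LiesOver p] (hflat : Module.Flat R (Localization.AtPrime q))
    (hs : letI := Localization.AtPrime.algebraOfLiesOver p q
      Algebra.FormallySmooth (ResidueField (Localization.AtPrime p))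
        (ResidueField (Localization.AtPrime p) ⊗[Localization.AtPrime p]
          Localization.AtPrime q)) :
    Algebra.FormallySmooth R (Localization.AtPrime q) := by
  let Rp := Localization.AtPrime p
  let Sp := Localization (algebraMapSubmonoid S p.primeCompl)
  let Sq := Localization.AtPrime q
  let := Localization.AtPrime.algebraOfLiesOver p q
  let f : Sp →ₐ[S] Sq := IsLocalization.liftAlgHom (M := algebraMapSubmonoid S p.primeCompl)
        (f := Algebra.ofId _ _) (by
      rintro ⟨_, x, hx, rfl⟩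
      simpa using! IsLocalization.map_units (M := q.primeCompl) Sq ⟨algebraMap _ _ x,
        by simp_all [q.over_def p]⟩)
  algebraize [f.toRingHom]
  have : IsScalarTower R Sp Sq := .to₁₃₄ _ S _ _
  have : IsScalarTower Rp Sp Sq := .of_algebraMap_eq' <| by
    apply IsLocalization.ringHom_ext p.primeCompl
    simp only [RingHom.comp_assoc, ← IsScalarTower.algebraMap_eq]
  have : IsLocalization (algebraMapSubmonoid Sp q.primeCompl) Sq :=
    .isLocalization_of_submonoid_le _ _ (algebraMapSubmonoid S p.primeCompl) _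
    (by rintro _ ⟨x, hx, rfl⟩; simp_all [q.over_def p])
  have : FinitePresentation Rp Sp := by
    have : Algebra.IsPushout R Rp S Sp :=
      .symm <| Algebra.isPushout_of_isLocalization p.primeCompl _ _ _
    exact .equiv (Algebra.IsPushout.equiv R Rp S Sp)
  have : Module.Flat Rp Sq :=
    (Module.flat_iff_of_isLocalization Rp p.primeCompl Sq).mpr hflat
  have : FormallySmooth (ResidueField Rp) (ResidueField Rp ⊗[Rp] Sq) := hs
  have := FormallySmooth.of_formallySmooth_residueField_tensor
    (R := Rp) (S := Sq) (P := Sp) (algebraMapSubmonoid _ q.primeCompl)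
  exact .comp R Rp Sq

set_option backward.isDefEq.respectTransparency false in
theorem isSmoothAt_of_flat_of_fiber [Algebra.FinitePresentation R S] (p : Ideal R) [p.IsPrime]
    (Q : Ideal (p.Fiber S)) [Q.IsPrime]
    (hflat : Module.Flat R (Localization.AtPrime
      (Q.comap (Algebra.TensorProduct.includeRight : S →ₐ[R] p.Fiber S))))
    (hs : Algebra.FormallySmooth p.ResidueField (Localization.AtPrime Q)) :
    Algebra.FormallySmooth R (Localization.AtPrime
      (Q.comap (Algebra.TensorProduct.includeRight : S →ₐ[R] p.Fiber S))) := by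
  refine formallySmooth_localization_of_flat_of_residue p
    (Q.comap (Algebra.TensorProduct.includeRight : S →ₐ[R] p.Fiber S)) hflat ?_
  letI := Localization.AtPrime.algebraOfLiesOver p
    (Q.comap (Algebra.TensorProduct.includeRight : S →ₐ[R] p.Fiber S))
  let Rp := Localization.AtPrime p
  let Sq := Localization.AtPrime
    (Q.comap (Algebra.TensorProduct.includeRight : S →ₐ[R] p.Fiber S))
  let e1 : Localization.AtPrime Q ≃ₐ[Rp] Sq ⧸ p.map (algebraMap R Sq) :=
    Ideal.Fiber.localizationAlgEquivQuotient p Q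
  let e2 : ResidueField Rp ⊗[Rp] Sq ≃ₐ[Rp] Sq ⧸ (maximalIdeal Rp).map (algebraMap Rp Sq) :=
    resTensorEquiv Rp Sq
  have hI : (maximalIdeal Rp).map (algebraMap Rp Sq) = p.map (algebraMap R Sq) := by
    rw [← Localization.AtPrime.map_eq_maximalIdeal, Ideal.map_map,
      ← IsScalarTower.algebraMap_eq]
  let e3 : (Sq ⧸ (maximalIdeal Rp).map (algebraMap Rp Sq)) ≃ₐ[Rp] Sq ⧸ p.map (algebraMap R Sq) :=
    Ideal.quotientEquivAlgOfEq Rp hI
  let e : Localization.AtPrime Q ≃ₐ[Rp] ResidueField Rp ⊗[Rp] Sq :=
    e1.trans (e3.symm.trans e2.symm)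
  haveI : Algebra.FormallySmooth (ResidueField Rp) (Localization.AtPrime Q) := hs
  have key : Algebra.FormallySmooth (ResidueField Rp) (ResidueField Rp ⊗[Rp] Sq) := by
    refine Algebra.FormallySmooth.of_equiv (A := Localization.AtPrime Q) ?_
    refine AlgEquiv.ofRingEquiv (f := e.toRingEquiv) ?_
    intro k
    obtain ⟨k, rfl⟩ := residue_surjective k
    have h1 : algebraMap (ResidueField Rp) (Localization.AtPrime Q) (residue Rp k) =
        algebraMap Rp (Localization.AtPrime Q) k :=
      (IsScalarTower.algebraMap_apply Rp (ResidueField Rp) (Localization.AtPrime Q) k).symm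
    have h2 : algebraMap (ResidueField Rp) (ResidueField Rp ⊗[Rp] Sq) (residue Rp k) =
        algebraMap Rp (ResidueField Rp ⊗[Rp] Sq) k :=
      (IsScalarTower.algebraMap_apply Rp (ResidueField Rp) (ResidueField Rp ⊗[Rp] Sq) k).symm
    rw [h1, h2]
    exact e.commutes k
  exact key

end PieceA

section SpecFib

lemma specFlat {R S : Type u} [CommRing R] [CommRing S] [Algebra R S] (q : PrimeSpectrum S) :
    ((Spec.map (CommRingCat.ofHom (algebraMap R S))).stalkMap q).hom.Flat ↔
      Module.Flat R (Localization.AtPrime q.asIdeal) := by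
  let p := (PrimeSpectrum.comap (algebraMap R S) q).asIdeal
  have : q.asIdeal.LiesOver p := ⟨rfl⟩
  let := Localization.AtPrime.algebraOfLiesOver p q.asIdeal
  trans Module.Flat (Localization.AtPrime p) (Localization.AtPrime q.asIdeal)
  · rw [← RingHom.flat_algebraMap_iff]
    exact RingHom.Flat.respectsIso.arrow_mk_iso_iff
      (Scheme.arrowStalkMapSpecIso (CommRingCat.ofHom (algebraMap R S)) q)
  · exact Module.flat_iff_of_isLocalization (Localization.AtPrime p) p.primeCompl _

/-- the property "flat at `x` + fibre smooth at `x` ⇒ smooth at `x`" for all points of fibres. -/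
def FibProp {X S : Scheme.{u}} (f : X ⟶ S) : Prop :=
  ∀ (s : S) (x' : ↑(f.fiber s)),
    ((f.fiberToSpecResidueField s).stalkMap x').hom.FormallySmooth →
    (f.stalkMap ((f.fiberι s).base x')).hom.Flat →
    (f.stalkMap ((f.fiberι s).base x')).hom.FormallySmooth

lemma fiberIso_left_comp (R A : Type u) [CommRing R] [CommRing A] [Algebra R A]
    (p : PrimeSpectrum R) :
    (Spec.fiberToSpecResidueFieldIso R A p).hom.left ≫
      Spec.map (CommRingCat.ofHom
        (Algebra.TensorProduct.includeRight : A →ₐ[R] p.asIdeal.Fiber A).toRingHom) =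
      (Spec.map (CommRingCat.ofHom (algebraMap R A))).fiberι p := by
  simp [Spec.fiberToSpecResidueFieldIso, Scheme.Hom.fiberι, pullbackSpecIso_hom_snd, pullback.map]
  erw [pullback.lift_snd]
  erw [pullback.lift_snd]
  exact pullbackSymmetry_hom_comp_snd _ _

theorem spec_fib {R A : Type u} [CommRing R] [CommRing A] [Algebra R A]
    [Algebra.FinitePresentation R A] :
    FibProp (Spec.map (CommRingCat.ofHom (algebraMap R A))) := by
  intro p x' hs hf
  let E := Spec.fiberToSpecResidueFieldIso R A p
  have hw : E.hom.left ≫ Spec.map (CommRingCat.ofHom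
      (algebraMap p.asIdeal.ResidueField (p.asIdeal.Fiber A))) =
      (Spec.map (CommRingCat.ofHom (algebraMap R A))).fiberToSpecResidueField p ≫ E.hom.right :=
    E.hom.w
  have hC1 := fiberIso_left_comp R A p
  let Q : PrimeSpectrum (p.asIdeal.Fiber A) := E.hom.left.base x'
  have hsQ : Q ∈ Algebra.smoothLocus p.asIdeal.ResidueField (p.asIdeal.Fiber A) := by
    rw [← specSmooth]
    exact (stalk_transfer RingHom.FormallySmooth.respectsIso E.hom.left _
      ((Spec.map (CommRingCat.ofHom (algebraMap R A))).fiberToSpecResidueField p)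
      E.hom.right hw x').mp hs
  let r : PrimeSpectrum A := (Spec.map (CommRingCat.ofHom
    (Algebra.TensorProduct.includeRight : A →ₐ[R] p.asIdeal.Fiber A).toRingHom)).base Q
  have hpt : ((Spec.map (CommRingCat.ofHom (algebraMap R A))).fiberι p).base x' = r := by
    rw [← hC1, Scheme.Hom.comp_apply]
  have hf' : ((Spec.map (CommRingCat.ofHom (algebraMap R A))).stalkMap r).hom.Flat :=
    (stalk_congr_point (P := RingHom.Flat) _ hpt).mp hf
  rw [specFlat] at hf'
  have hsm : Algebra.FormallySmooth R (Localization.AtPrime r.asIdeal) :=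
    isSmoothAt_of_flat_of_fiber p.asIdeal Q.asIdeal hf' hsQ
  have hr : r ∈ Algebra.smoothLocus R A := hsm
  exact (stalk_congr_point (P := RingHom.FormallySmooth) _ hpt).mpr ((specSmooth r).mpr hr)

theorem spec_fib' {R A : CommRingCat.{u}} (φ : R ⟶ A) (hφ : φ.hom.FinitePresentation) :
    FibProp (Spec.map φ) := by
  algebraize [φ.hom]
  intro p x' hs hf
  exact spec_fib (R := R) (A := A) p x' hs hf

end SpecFib

section Charts

theorem fib_transfer {X S X₀ S₀ : Scheme.{u}} (f : X ⟶ S) (f₀ : X₀ ⟶ S₀) (a : X₀ ⟶ X)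
    (b : S₀ ⟶ S) [IsOpenImmersion a] [IsOpenImmersion b] (w : f₀ ≫ b = a ≫ f)
    (H₀ : FibProp f₀) (y : S₀) (x' : ↑(f.fiber (b.base y)))
    (hr : (f.fiberι (b.base y)).base x' ∈ Set.range a.base)
    (hs : ((f.fiberToSpecResidueField (b.base y)).stalkMap x').hom.FormallySmooth)
    (hf : (f.stalkMap ((f.fiberι (b.base y)).base x')).hom.Flat) :
    (f.stalkMap ((f.fiberι (b.base y)).base x')).hom.FormallySmooth := by
  have comm2 : S₀.fromSpecResidueField y ≫ b =
      Spec.map (b.residueFieldMap y) ≫ S.fromSpecResidueField (b.base y) :=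
    (b.SpecMap_residueFieldMap_fromSpecResidueField y).symm
  let G : f₀.fiber y ⟶ f.fiber (b.base y) :=
    pullback.map f₀ (S₀.fromSpecResidueField y) f (S.fromSpecResidueField (b.base y)) a
      (Spec.map (b.residueFieldMap y)) b w comm2
  haveI : IsOpenImmersion G := Scheme.pullback_map_isOpenImmersion ..
  have hG1 : G ≫ f.fiberι (b.base y) = f₀.fiberι y ≫ a := pullback.lift_fst _ _ _
  have hG2 : G ≫ f.fiberToSpecResidueField (b.base y) =
      f₀.fiberToSpecResidueField y ≫ Spec.map (b.residueFieldMap y) := pullback.lift_snd _ _ _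
  have hrange : x' ∈ Set.range G.base := by
    have hR := Scheme.Pullback.range_map (f := f₀) (g := S₀.fromSpecResidueField y) f
      (S.fromSpecResidueField (b.base y)) a (Spec.map (b.residueFieldMap y)) b w comm2
    refine (Set.ext_iff.mp hR x').mpr ⟨hr, ?_⟩
    obtain ⟨t, ht⟩ := (Scheme.Hom.homeomorph (Spec.map (b.residueFieldMap y))).surjective
      ((pullback.snd f (S.fromSpecResidueField (b.base y))).base x')
    exact ⟨t, ht⟩
  obtain ⟨z, rfl⟩ := hrange
  have hs₀ : ((f₀.fiberToSpecResidueField y).stalkMap z).hom.FormallySmooth :=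
    (stalk_transfer RingHom.FormallySmooth.respectsIso G (f.fiberToSpecResidueField (b.base y))
      (f₀.fiberToSpecResidueField y) (Spec.map (b.residueFieldMap y)) hG2 z).mpr hs
  have hpt : (f.fiberι (b.base y)).base (G.base z) = a.base ((f₀.fiberι y).base z) := by
    rw [← Scheme.Hom.comp_apply, hG1, Scheme.Hom.comp_apply]
  have hf' : (f.stalkMap (a.base ((f₀.fiberι y).base z))).hom.Flat :=
    (stalk_congr_point (P := RingHom.Flat) f hpt).mp hf
  have hf₀ : (f₀.stalkMap ((f₀.fiberι y).base z)).hom.Flat :=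
    (stalk_transfer RingHom.Flat.respectsIso a f f₀ b w.symm ((f₀.fiberι y).base z)).mpr hf'
  have h₀ := H₀ y z hs₀ hf₀
  have h1 : (f.stalkMap (a.base ((f₀.fiberι y).base z))).hom.FormallySmooth :=
    (stalk_transfer RingHom.FormallySmooth.respectsIso a f f₀ b w.symm
      ((f₀.fiberι y).base z)).mp h₀
  exact (stalk_congr_point (P := RingHom.FormallySmooth) f hpt).mpr h1

theorem fibProp_of_lfp {X S : Scheme.{u}} (f : X ⟶ S) [LocallyOfFinitePresentation f] :
    FibProp f := by
  intro s x' hs hf
  have hfx : f.base ((f.fiberι s).base x') = s := (f.range_fiberι s).le ⟨x', rfl⟩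
  obtain ⟨_, ⟨U, hU, rfl⟩, hsU, -⟩ :=
    S.isBasis_affineOpens.exists_subset_of_mem_open (Set.mem_univ s) isOpen_univ
  obtain ⟨y, rfl⟩ : s ∈ Set.range hU.fromSpec.base := by rw [hU.range_fromSpec]; exact hsU
  have hyV : f.base ((f.fiberι (hU.fromSpec.base y)).base x') ∈ (U : Set S) := by
    rw [hfx]; exact hsU
  obtain ⟨_, ⟨V, hV, rfl⟩, hxV, hVU⟩ :=
    X.isBasis_affineOpens.exists_subset_of_mem_open hyV (U.2.preimage f.continuous)
  have e₁ : Spec.map (f.appLE U V hVU) ≫ hU.fromSpec = hV.fromSpec ≫ f :=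
    IsAffineOpen.SpecMap_appLE_fromSpec f hU hV hVU
  refine fib_transfer f (Spec.map (f.appLE U V hVU)) hV.fromSpec hU.fromSpec e₁
    (spec_fib' _ (f.finitePresentation_appLE hU hV hVU)) y x' ?_ hs hf
  rw [hV.range_fromSpec]; exact hxV

theorem main2156 {X S : Scheme.{u}} (f : X ⟶ S) [LocallyOfFinitePresentation f] (x : X)
    [LocallyOfFinitePresentation (f.fiberToSpecResidueField (f.base x))] :
    x ∈ f.smoothLocus ↔
      (f.stalkMap x).hom.Flat ∧
        f.asFiber x ∈ (f.fiberToSpecResidueField (f.base x)).smoothLocus := by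
  have hpt : (f.fiberι (f.base x)).base (f.asFiber x) = x := f.fiberι_asFiber x
  have sq : IsPullback (f.fiberι (f.base x)) (f.fiberToSpecResidueField (f.base x)) f
      (S.fromSpecResidueField (f.base x)) := IsPullback.of_hasPullback _ _
  constructor
  · intro h
    have hs : (f.stalkMap x).hom.FormallySmooth := h
    refine ⟨?_, ?_⟩
    · haveI := smooth_smoothLocus f
      exact flat_stalk_of_nhd f x f.smoothLocus h
    · show ((f.fiberToSpecResidueField (f.base x)).stalkMap (f.asFiber x)).hom.FormallySmooth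
      apply stalk_smooth_baseChange sq
      exact (stalk_congr_point (P := RingHom.FormallySmooth) f hpt).mpr hs
  · rintro ⟨hf, hs⟩
    have := fibProp_of_lfp f (f.base x) (f.asFiber x) hs
      ((stalk_congr_point (P := RingHom.Flat) f hpt).mpr hf)
    exact (stalk_congr_point (P := RingHom.FormallySmooth) f hpt).mp this

end Charts

end Groth.Agent.Lib.UnramLocH4
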