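import Mathlib
import Groth.Agent.Lib.FibCrit3_helper8
import Groth.Agent.S2156

/-! Consequences of the fibrewise flatness criterion for smoothness (EGA IV 17.8), modulo the
criterion `Crit f g` itself (helper8). APPEND-ONLY once landed. -/

set_option autoImplicit false
universe u

namespace Groth.Agent.Lib.FibCritH8

open AlgebraicGeometry CategoryTheory Limits IsLocalRing

variable {X Y S : Scheme.{u}} (f : X ⟶ Y) (g : Y ⟶ S)

/-- The (pointwise) fibrewise flatness criterion for `f`, `g`, direction (1) ⇒ (2). -/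
def Crit : Prop :=
  ∀ x : X, ((f ≫ g).stalkMap x).hom.Flat →
    ((MoreMor.fiberMap f g (g (f x))).stalkMap ((f ≫ g).asFiber x)).hom.Flat →
      (g.stalkMap (f x)).hom.Flat ∧ (f.stalkMap x).hom.Flat

theorem fiberMap_eq (s : S) :
    MoreMor.fiberMap f g s =
      (pullbackRightPullbackFstIso g (S.fromSpecResidueField s) f).inv ≫
        pullback.snd f (g.fiberι s) := by
  apply pullback.hom_ext
  · refine (pullback.lift_fst _ _ _).trans ?_
    refine Eq.trans ?_ (Category.assoc _ _ _).symm
    exact (pullbackRightPullbackFstIso_inv_snd_fst g (S.fromSpecResidueField s) f).symm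
  · refine (pullback.lift_snd _ _ _).trans ?_
    refine Eq.trans ?_ (Category.assoc _ _ _).symm
    exact (pullbackRightPullbackFstIso_inv_snd_snd g (S.fromSpecResidueField s) f).symm

theorem smooth_fiberMap (s : S) (hs : Smooth (pullback.snd f (g.fiberι s))) :
    Smooth (MoreMor.fiberMap f g s) := by
  rw [fiberMap_eq]
  exact (MorphismProperty.cancel_left_of_respectsIso @Smooth _ _).mpr hs

/-- `Spec κ(y) ⟶ Y_s` for `s = g y`. -/
noncomputable def toFiber (y : Y) : Spec (Y.residueField y) ⟶ g.fiber (g y) :=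
  pullback.lift (Y.fromSpecResidueField y) (Spec.map (g.residueFieldMap y))
    (Scheme.Hom.SpecMap_residueFieldMap_fromSpecResidueField g y).symm

theorem toFiber_fiberι (y : Y) : toFiber g y ≫ g.fiberι (g y) = Y.fromSpecResidueField y :=
  pullback.lift_fst _ _ _

theorem smooth_fiberToSpecResidueField (y : Y)
    (hs : Smooth (pullback.snd f (g.fiberι (g y)))) :
    Smooth (f.fiberToSpecResidueField y) := by
  have hright : IsPullback (pullback.fst f (g.fiberι (g y))) (pullback.snd f (g.fiberι (g y)))
      f (g.fiberι (g y)) := IsPullback.of_hasPullback _ _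
  have houter : IsPullback (f.fiberι y) (f.fiberToSpecResidueField y) f
      (toFiber g y ≫ g.fiberι (g y)) := by
    rw [toFiber_fiberι]
    exact IsPullback.of_hasPullback _ _
  let top : f.fiber y ⟶ pullback f (g.fiberι (g y)) :=
    pullback.lift (f.fiberι y) (f.fiberToSpecResidueField y ≫ toFiber g y)
      (by rw [Category.assoc, toFiber_fiberι]; exact f.fiber_fac y)
  have h1 : top ≫ pullback.fst f (g.fiberι (g y)) = f.fiberι y := pullback.lift_fst _ _ _
  have h2 : top ≫ pullback.snd f (g.fiberι (g y)) = f.fiberToSpecResidueField y ≫ toFiber g y :=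
    pullback.lift_snd _ _ _
  have houter' : IsPullback (top ≫ pullback.fst f (g.fiberι (g y)))
      (f.fiberToSpecResidueField y) f (toFiber g y ≫ g.fiberι (g y)) := by
    rw [h1]; exact houter
  have hleft := IsPullback.of_right houter' h2 hright
  exact MorphismProperty.of_isPullback (P := @Smooth) hleft hs

variable {f g}

theorem flat_of_crit (H : Crit f g) (x : X) (hflat : ((f ≫ g).stalkMap x).hom.Flat)
    (hs : Smooth (pullback.snd f (g.fiberι (g (f x))))) :
    (g.stalkMap (f x)).hom.Flat ∧ (f.stalkMap x).hom.Flat := by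
  haveI := smooth_fiberMap f g _ hs
  exact H x hflat (Flat.stalkMap _ _)

theorem mem_smoothLocus_of_crit [LocallyOfFinitePresentation (f ≫ g)] [LocallyOfFiniteType g]
    (H : Crit f g) (x : X) (hflat : ((f ≫ g).stalkMap x).hom.Flat)
    (hs : Smooth (pullback.snd f (g.fiberι (g (f x))))) :
    haveI := FibMorConsH8.lfp_of_comp f g
    x ∈ f.smoothLocus := by
  haveI := FibMorConsH8.lfp_of_comp f g
  have h1 := (flat_of_crit H x hflat hs).2
  haveI : Smooth (f.fiberToSpecResidueField (f x)) := smooth_fiberToSpecResidueField f g (f x) hs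
  rw [Groth.Agent.S2156.result f x]
  refine ⟨h1, ?_⟩
  rw [Scheme.Hom.smoothLocus_eq_top]
  trivial

/-- S2764 modulo the criterion. -/
theorem flat_base_of_crit (H : Crit f g) [Flat (f ≫ g)]
    (hf : ∀ s : S, Smooth (pullback.snd f (g.fiberι s))) (x : X) :
    (g.stalkMap (f x)).hom.Flat :=
  (flat_of_crit H x (Flat.stalkMap _ x) (hf _)).1

/-- S2762 modulo the criterion. -/
theorem smooth_iff_of_crit [LocallyOfFinitePresentation (f ≫ g)] [LocallyOfFiniteType g]
    (H : Crit f g) [Flat (f ≫ g)] :
    Smooth f ↔ ∀ s : S, Smooth (pullback.snd f (g.fiberι s)) := by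
  constructor
  · intro hf s
    infer_instance
  · intro hf
    haveI := FibMorConsH8.lfp_of_comp f g
    rw [← Scheme.Hom.smoothLocus_eq_top_iff]
    ext x
    simp only [TopologicalSpace.Opens.coe_top, Set.mem_univ, iff_true]
    exact mem_smoothLocus_of_crit H x (Flat.stalkMap _ x) (hf _)

/-- S16049 modulo the criterion. -/
theorem exists_smooth_nhd_of_crit [LocallyOfFinitePresentation (f ≫ g)] [LocallyOfFiniteType g]
    (H : Crit f g) [Flat (f ≫ g)] (s : S) (hs : Smooth (pullback.snd f (g.fiberι s))) :
    ∃ U : X.Opens, (∀ x : X, (f ≫ g).base x = s → x ∈ U) ∧ Smooth (U.ι ≫ f) := by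
  haveI := FibMorConsH8.lfp_of_comp f g
  refine ⟨f.smoothLocus, ?_, ?_⟩
  · intro x hx
    subst hx
    exact mem_smoothLocus_of_crit H x (Flat.stalkMap _ x) hs
  · rw [← Scheme.Hom.smoothLocus_eq_top_iff, ← Scheme.Hom.preimage_smoothLocus_eq]
    exact Scheme.Opens.ι_preimage_self _

end Groth.Agent.Lib.FibCritH8
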