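import Mathlib
import Groth.Agent.Lib.FibCrit4_helper8

/-! Pointwise smoothness via fibres (EGA IV 17.8.2), modulo the criterion `Crit f g` (helper8).
APPEND-ONLY once landed. -/

set_option autoImplicit false
universe u

namespace Groth.Agent.Lib.FibCritH8

open AlgebraicGeometry CategoryTheory Limits IsLocalRing

theorem isPullback_restrict {P A B C : Scheme.{u}} {a : P ⟶ A} {b : P ⟶ B} {c : A ⟶ C}
    {d : B ⟶ C} (h : IsPullback a b c d) (U : A.Opens) :
    IsPullback (a ∣_ U) ((a ⁻¹ᵁ U).ι ≫ b) (U.ι ≫ c) d :=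
  (isPullback_morphismRestrict a U).paste_vert h

theorem smooth_restrict_of_isPullback {P A B C : Scheme.{u}} {a : P ⟶ A} {b : P ⟶ B} {c : A ⟶ C}
    {d : B ⟶ C} (h : IsPullback a b c d) (U : A.Opens) (hs : Smooth (U.ι ≫ c)) :
    Smooth ((a ⁻¹ᵁ U).ι ≫ b) :=
  MorphismProperty.of_isPullback (P := @Smooth) (isPullback_restrict h U) hs

variable {X Y S : Scheme.{u}} (f : X ⟶ Y) (g : Y ⟶ S)

theorem isPullback_fiberMap (s : S) :
    IsPullback ((f ≫ g).fiberι s) (MoreMor.fiberMap f g s) f (g.fiberι s) :=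
  FibMorConsH8.isPullback_fs f g s

/-- `f⁻¹(y) ⟶ X_s` for `s = g y`. -/
noncomputable def fibTop (y : Y) : f.fiber y ⟶ (f ≫ g).fiber (g y) :=
  pullback.lift (f.fiberι y) (f.fiberToSpecResidueField y ≫ Spec.map (g.residueFieldMap y))
    (by
      rw [← Category.assoc, f.fiber_fac y, Category.assoc, Category.assoc,
        Scheme.Hom.SpecMap_residueFieldMap_fromSpecResidueField])

theorem fibTop_fiberι (y : Y) : fibTop f g y ≫ (f ≫ g).fiberι (g y) = f.fiberι y :=
  pullback.lift_fst _ _ _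

theorem fibTop_fiberMap (y : Y) :
    fibTop f g y ≫ MoreMor.fiberMap f g (g y) = f.fiberToSpecResidueField y ≫ toFiber g y := by
  apply pullback.hom_ext
  · refine (Category.assoc _ _ _).trans ?_
    refine (congrArg (fun t => fibTop f g y ≫ t) (fiberMap_fiberι f g (g y))).trans ?_
    refine (Category.assoc _ _ _).symm.trans ?_
    rw [fibTop_fiberι]
    refine (f.fiber_fac y).trans ?_
    refine Eq.trans ?_ (Category.assoc _ _ _).symm
    exact congrArg (fun t => f.fiberToSpecResidueField y ≫ t) (toFiber_fiberι g y).symm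
  · refine (Category.assoc _ _ _).trans ?_
    refine (congrArg (fun t => fibTop f g y ≫ t)
      (pullback.lift_snd _ _ _ : MoreMor.fiberMap f g (g y) ≫ pullback.snd _ _ = _)).trans ?_
    refine (pullback.lift_snd _ _ _).trans ?_
    refine Eq.trans ?_ (Category.assoc _ _ _).symm
    exact congrArg (fun t => f.fiberToSpecResidueField y ≫ t)
      (pullback.lift_snd _ _ _ : toFiber g y ≫ pullback.snd _ _ = _).symm

theorem isPullback_fibTop (y : Y) :
    IsPullback (fibTop f g y) (f.fiberToSpecResidueField y) (MoreMor.fiberMap f g (g y))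
      (toFiber g y) := by
  have houter : IsPullback (fibTop f g y ≫ (f ≫ g).fiberι (g y)) (f.fiberToSpecResidueField y) f
      (toFiber g y ≫ g.fiberι (g y)) := by
    rw [toFiber_fiberι, fibTop_fiberι]
    exact IsPullback.of_hasPullback _ _
  exact IsPullback.of_right houter (fibTop_fiberMap f g y) (isPullback_fiberMap f g (g y))

theorem fibTop_asFiber (x : X) :
    (fibTop f g (f x)) (f.asFiber x) = (f ≫ g).asFiber x := by
  apply ((f ≫ g).fiberι (g (f x))).isEmbedding.injective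
  rw [← Scheme.Hom.comp_apply, fibTop_fiberι, Scheme.Hom.fiberι_asFiber]
  exact ((f ≫ g).fiberι_asFiber x).symm

variable {f g}

theorem smooth_smoothLocus_ι [LocallyOfFinitePresentation f] : Smooth (f.smoothLocus.ι ≫ f) := by
  rw [← Scheme.Hom.smoothLocus_eq_top_iff, ← Scheme.Hom.preimage_smoothLocus_eq]
  exact Scheme.Opens.ι_preimage_self _

theorem mem_smoothLocus_of_smooth_ι {A B : Scheme.{u}} (ψ : A ⟶ B)
    [LocallyOfFinitePresentation ψ] (W : A.Opens) (hW : Smooth (W.ι ≫ ψ)) (a : A) (ha : a ∈ W) :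
    a ∈ ψ.smoothLocus := by
  have h1 := Scheme.Hom.preimage_smoothLocus_eq W.ι ψ
  rw [(Scheme.Hom.smoothLocus_eq_top_iff (f := W.ι ≫ ψ)).mpr hW] at h1
  have h2 : (⟨a, ha⟩ : W) ∈ W.ι ⁻¹ᵁ ψ.smoothLocus := by rw [h1]; trivial
  exact h2

theorem smooth_at_iff_of_crit [LocallyOfFinitePresentation (f ≫ g)] [LocallyOfFiniteType g]
    (H : Crit f g) (x : X) (hflat : ((f ≫ g).stalkMap x).hom.Flat) :
    (∃ U : X.Opens, x ∈ U ∧ Smooth (U.ι ≫ f)) ↔
      ∃ V : ((f ≫ g).fiber (g (f x))).Opens, (f ≫ g).asFiber x ∈ V ∧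
        Smooth (V.ι ≫ MoreMor.fiberMap f g (g (f x))) := by
  constructor
  · rintro ⟨U, hxU, hU⟩
    refine ⟨((f ≫ g).fiberι (g (f x))) ⁻¹ᵁ U, ?_,
      smooth_restrict_of_isPullback (isPullback_fiberMap f g _) U hU⟩
    show ((f ≫ g).fiberι (g (f x))) ((f ≫ g).asFiber x) ∈ U
    rw [show ((f ≫ g).fiberι (g (f x))) ((f ≫ g).asFiber x) = x from (f ≫ g).fiberι_asFiber x]
    exact hxU
  · rintro ⟨V, hxV, hV⟩
    haveI := FibMorConsH8.lfp_of_comp f g
    refine ⟨f.smoothLocus, ?_, smooth_smoothLocus_ι⟩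
    haveI : LocallyOfFinitePresentation (f.fiberToSpecResidueField (f x)) :=
      inferInstanceAs (LocallyOfFinitePresentation (pullback.snd f _))
    rw [Groth.Agent.S2156.result f x]
    constructor
    · refine (H x hflat ?_).2
      haveI := hV
      have h1 := Flat.stalkMap (V.ι ≫ MoreMor.fiberMap f g (g (f x))) ⟨(f ≫ g).asFiber x, hxV⟩
      rw [Scheme.Hom.stalkMap_comp] at h1
      have hbij : Function.Bijective (V.ι.stalkMap ⟨(f ≫ g).asFiber x, hxV⟩).hom :=
        ConcreteCategory.bijective_of_isIso _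
      exact (RingHom.Flat.comp_iff_of_bijective_left hbij).mp h1
    · have hW := smooth_restrict_of_isPullback (isPullback_fibTop f g (f x)) V hV
      refine mem_smoothLocus_of_smooth_ι _ _ hW _ ?_
      show (fibTop f g (f x)) (f.asFiber x) ∈ V
      rw [fibTop_asFiber]
      exact hxV

end Groth.Agent.Lib.FibCritH8
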