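import Mathlib
import Groth.Agent.Lib.FibCrit5_helper8

/-! Flatness and thickenings of the base (EGA IV 11.3.11-type), modulo `Crit` (helper8).
APPEND-ONLY once landed. -/

set_option autoImplicit false
universe u

namespace Groth.Agent.Lib.FibCritH8

open AlgebraicGeometry CategoryTheory Limits IsLocalRing

theorem isIso_residueFieldMap_of_isClosedImmersion {S S' : Scheme.{u}} (i : S ⟶ S')
    [IsClosedImmersion i] (s : S) : IsIso (i.residueFieldMap s) := by
  rw [ConcreteCategory.isIso_iff_bijective]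
  refine ⟨RingHom.injective _, ?_⟩
  intro r
  obtain ⟨a, rfl⟩ := IsLocalRing.residue_surjective (R := S.presheaf.stalk s) r
  obtain ⟨b, rfl⟩ := i.stalkMap_surjective s a
  refine ⟨S'.residue (i s) b, ?_⟩
  have := congrArg (fun φ => CommRingCat.Hom.hom φ b) (Scheme.residue_residueFieldMap i s)
  exact this

theorem exists_lift_fromSpecResidueField {S S' : Scheme.{u}} (i : S ⟶ S')
    (hi : MoreMor.IsThickening i) (s' : S') :
    ∃ σ : Spec (S'.residueField s') ⟶ S, σ ≫ i = S'.fromSpecResidueField s' := by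
  haveI := hi.1
  haveI := hi.2
  obtain ⟨s, rfl⟩ := i.surjective s'
  haveI := isIso_residueFieldMap_of_isClosedImmersion i s
  refine ⟨Spec.map (inv (i.residueFieldMap s)) ≫ S.fromSpecResidueField s, ?_⟩
  rw [Category.assoc, ← Scheme.Hom.SpecMap_residueFieldMap_fromSpecResidueField,
    ← Spec.map_comp_assoc, IsIso.hom_inv_id, Spec.map_id, Category.id_comp]

variable {X X' Y Y' S S' : Scheme.{u}}

theorem flat_iff_of_thickening (iX : X ⟶ X') (iY : Y ⟶ Y') (iS : S ⟶ S')
    (f : X ⟶ Y) (f' : X' ⟶ Y') (g : Y ⟶ S) (g' : Y' ⟶ S')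
    (hS : MoreMor.IsThickening iS) (hcX : IsPullback iX (f ≫ g) (f' ≫ g') iS)
    (hcY : IsPullback iY g g' iS) (w : iX ≫ f' = f ≫ iY) [Flat (f' ≫ g')]
    (H : Crit f' g') : Flat f ↔ Flat f' := by
  have htop : IsPullback iX f f' iY := IsPullback.of_bot hcX w hcY
  constructor
  · intro hf
    rw [Flat.iff_flat_stalkMap]
    intro x'
    refine (H x' (Flat.stalkMap _ x') ?_).2
    suffices hfl : Flat (MoreMor.fiberMap f' g' (g' (f' x'))) from Flat.stalkMap _ _
    obtain ⟨σ, hσ⟩ := exists_lift_fromSpecResidueField iS hS (g' (f' x'))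
    let t : g'.fiber (g' (f' x')) ⟶ Y :=
      hcY.lift (g'.fiberι (g' (f' x'))) (g'.fiberToSpecResidueField (g' (f' x')) ≫ σ)
        (by rw [Category.assoc, hσ]; exact g'.fiber_fac _)
    have ht : t ≫ iY = g'.fiberι (g' (f' x')) := hcY.lift_fst _ _ _
    have hbig : IsPullback ((f' ≫ g').fiberι (g' (f' x'))) (MoreMor.fiberMap f' g' (g' (f' x'))) f'
        (t ≫ iY) := by
      rw [ht]
      exact isPullback_fiberMap f' g' _
    let top : (f' ≫ g').fiber (g' (f' x')) ⟶ X :=
      htop.lift ((f' ≫ g').fiberι (g' (f' x'))) (MoreMor.fiberMap f' g' (g' (f' x')) ≫ t)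
        (by rw [Category.assoc, ht]; exact (fiberMap_fiberι f' g' _).symm)
    have h1 : top ≫ iX = (f' ≫ g').fiberι (g' (f' x')) := htop.lift_fst _ _ _
    have h2 : top ≫ f = MoreMor.fiberMap f' g' (g' (f' x')) ≫ t := htop.lift_snd _ _ _
    have hbig' : IsPullback (top ≫ iX) (MoreMor.fiberMap f' g' (g' (f' x'))) f' (t ≫ iY) := by
      rw [h1]; exact hbig
    have hleft := IsPullback.of_right hbig' h2 htop
    exact MorphismProperty.of_isPullback (P := @Flat) hleft hf
  · intro hf'
    exact MorphismProperty.of_isPullback (P := @Flat) htop hf'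

end Groth.Agent.Lib.FibCritH8
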