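import Mathlib

set_option autoImplicit false
universe u
open TensorProduct

namespace EtQuotH8

section desc

variable {R A B : Type u} [CommRing R] [CommRing A] [CommRing B] [Algebra R A] [Algebra A B]
  [Algebra R B] [IsScalarTower R A B]

theorem flat_of_faithfullyFlat [Module.Flat R B] [Module.FaithfullyFlat A B] : Module.Flat R A := by
  rw [Module.Flat.iff_lTensor_preserves_injective_linearMap]
  intro N N' _ _ _ _ f hf
  have h1 : Function.Injective (f.baseChange A) := by
    rw [← Module.FaithfullyFlat.lTensor_injective_iff_injective A B]
    have hsq : ∀ x : B ⊗[A] (A ⊗[R] N),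
        TensorProduct.AlgebraTensorModule.cancelBaseChange R A B B N' (((f.baseChange A).lTensor B) x) =
        (f.lTensor B) (TensorProduct.AlgebraTensorModule.cancelBaseChange R A B B N x) := by
      intro x
      induction x using TensorProduct.induction_on with
      | zero => simp
      | add a b ha hb => simp only [map_add, ha, hb]
      | tmul b y =>
        induction y using TensorProduct.induction_on with
        | zero => simp
        | add a c ha hc => simp only [map_add, TensorProduct.tmul_add, ha, hc]
        | tmul a n => simp
    have h2 : Function.Injective (f.lTensor B) :=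
      Module.Flat.lTensor_preserves_injective_linearMap f hf
    intro x y hxy
    have := congrArg (TensorProduct.AlgebraTensorModule.cancelBaseChange R A B B N') hxy
    rw [hsq, hsq] at this
    exact (TensorProduct.AlgebraTensorModule.cancelBaseChange R A B B N).injective (h2 this)
  exact h1

theorem formallyUnramified_of_faithfullyFlat [Algebra.FormallyUnramified R B]
    [Algebra.FormallySmooth A B] [Module.FaithfullyFlat A B] : Algebra.FormallyUnramified R A := by
  rw [Algebra.formallyUnramified_iff]
  have hexact := Algebra.H1Cotangent.exact_δ_mapBaseChange R A B
  haveI : Subsingleton (Algebra.H1Cotangent A B) := Algebra.FormallySmooth.subsingleton_h1Cotangent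
  have hinj : Function.Injective (KaehlerDifferential.mapBaseChange R A B) := by
    rw [← LinearMap.ker_eq_bot, LinearMap.exact_iff.mp hexact, LinearMap.range_eq_bot]
    ext x
    rw [Subsingleton.elim x 0]
    simp
  haveI : Subsingleton Ω[B⁄R] := inferInstance
  haveI : Subsingleton (B ⊗[A] Ω[A⁄R]) := hinj.subsingleton
  exact (Module.FaithfullyFlat.subsingleton_tensorProduct_iff_right A B).mp inferInstance

end desc

end EtQuotH8
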