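import Mathlib
import Groth.Prelude.Def_CAlgX
import Groth.Agent.Lib.FibCrit2_helper8
import Groth.Agent.S2106

/-! Fibre criterion of flatness with a middle ring that is only a quotient of an essentially
finitely presented local algebra (helper8). APPEND-ONLY once landed. -/

set_option autoImplicit false
universe u

namespace Groth.Agent.Lib.FibCritH8

open IsLocalRing

theorem exists_fg_map_eq {R S : Type u} [CommRing R] [CommRing S] [Algebra R S] (M : Submonoid R)
    [IsLocalization M S] (K : Ideal S) (hK : K.FG) :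
    ∃ J : Ideal R, J.FG ∧ J.map (algebraMap R S) = K := by
  classical
  obtain ⟨t, rfl⟩ := hK
  choose b hb using fun x : S => IsLocalization.surj M x
  refine ⟨Ideal.span ((t.image fun x => (b x).1) : Set R), ⟨t.image fun x => (b x).1, rfl⟩, ?_⟩
  rw [Ideal.map_span]
  apply le_antisymm
  · rw [Ideal.span_le]
    rintro _ ⟨r, hr, rfl⟩
    rw [Finset.coe_image] at hr
    obtain ⟨x, hx, rfl⟩ := hr
    rw [← hb x]
    exact Ideal.mul_mem_right _ _ (Ideal.subset_span hx)
  · rw [Ideal.span_le]
    intro x hx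
    obtain ⟨u, hu⟩ := IsLocalization.map_units S (b x).2
    have h1 : x = algebraMap R S (b x).1 * ↑u⁻¹ := by
      rw [← hb x, ← hu, mul_assoc, Units.mul_inv, mul_one]
    rw [h1]
    refine Ideal.mul_mem_right _ _ (Ideal.subset_span ?_)
    refine ⟨(b x).1, ?_, rfl⟩
    rw [Finset.coe_image]
    exact ⟨x, hx, rfl⟩

theorem isEssFinitePresentation_quotient {A B : Type u} [CommRing A] [CommRing B] [Algebra A B]
    (h : CAlgX.IsEssFinitePresentation A B) (K : Ideal B) (hK : K.FG) :
    CAlgX.IsEssFinitePresentation A (B ⧸ K) := by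
  obtain ⟨B₀, _, _, _, _, M, hfp, hloc⟩ := h
  obtain ⟨J, hJ, rfl⟩ := exists_fg_map_eq M K hK
  haveI : Algebra.FinitePresentation A (B₀ ⧸ J) := Algebra.FinitePresentation.quotient hJ
  refine ⟨B₀ ⧸ J, inferInstance, inferInstance, inferInstance, ?_,
    Algebra.algebraMapSubmonoid (B₀ ⧸ J) M, inferInstance, inferInstance⟩
  refine IsScalarTower.of_algebraMap_eq (fun a => ?_)
  rw [IsScalarTower.algebraMap_apply A B₀ (B₀ ⧸ J), Ideal.Quotient.algebraMap_eq,
    IsScalarTower.algebraMap_apply A B (B ⧸ _), Ideal.Quotient.algebraMap_eq,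
    IsScalarTower.algebraMap_apply A B₀ B]
  rfl

theorem essFiniteType_of_isEssFinitePresentation {A B : Type u} [CommRing A] [CommRing B]
    [Algebra A B] (h : CAlgX.IsEssFinitePresentation A B) : Algebra.EssFiniteType A B := by
  obtain ⟨B₀, _, _, _, _, M, hfp, hloc⟩ := h
  haveI : Algebra.EssFiniteType A B₀ := inferInstance
  haveI : Algebra.EssFiniteType B₀ B := Algebra.EssFiniteType.of_isLocalization B M
  exact Algebra.EssFiniteType.comp A B₀ B

/-- The fibre `B / m_A B` of an essentially finitely presented algebra over a local ring is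
noetherian. -/
theorem isNoetherianRing_fibre {A B : Type u} [CommRing A] [CommRing B] [IsLocalRing A]
    [Algebra A B] (h : CAlgX.IsEssFinitePresentation A B) :
    IsNoetherianRing (B ⧸ (maximalIdeal A).map (algebraMap A B)) := by
  haveI := essFiniteType_of_isEssFinitePresentation h
  letI : Field (A ⧸ maximalIdeal A) := Ideal.Quotient.field _
  exact Algebra.EssFiniteType.isNoetherianRing (A ⧸ maximalIdeal A) _

/-- For an ideal `K` of `B` whose image in the noetherian ring `B / I` is automatically f.g.: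
there is a f.g. `K₁ ≤ K` with `K ≤ K₁ ⊔ I`. -/
theorem exists_fg_le_sup {B : Type u} [CommRing B] (I K : Ideal B) [IsNoetherianRing (B ⧸ I)] :
    ∃ K₁ : Ideal B, K₁.FG ∧ K₁ ≤ K ∧ K ≤ K₁ ⊔ I := by
  classical
  have hfg : (K.map (Ideal.Quotient.mk I)).FG := IsNoetherian.noetherian _
  obtain ⟨t, ht⟩ := hfg
  have hsub : (t : Set (B ⧸ I)) ⊆ (Ideal.Quotient.mk I) '' (K : Set B) := by
    intro y hy
    have hy' : y ∈ K.map (Ideal.Quotient.mk I) := by rw [← ht]; exact Ideal.subset_span hy
    obtain ⟨x, hx, rfl⟩ := (Ideal.mem_map_iff_of_surjective _ Ideal.Quotient.mk_surjective).mp hy'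
    exact ⟨x, hx, rfl⟩
  obtain ⟨t', ht'K, ht'⟩ := Finset.subset_set_image_iff.mp hsub
  refine ⟨Ideal.span (t' : Set B), ⟨t', rfl⟩, Ideal.span_le.mpr ht'K, ?_⟩
  intro k hk
  have h1 : Ideal.Quotient.mk I k ∈ (Ideal.span (t' : Set B)).map (Ideal.Quotient.mk I) := by
    rw [Ideal.map_span, ← Finset.coe_image, ht', ht]
    exact Ideal.mem_map_of_mem _ hk
  obtain ⟨k', hk', hkk'⟩ :=
    (Ideal.mem_map_iff_of_surjective _ Ideal.Quotient.mk_surjective).mp h1
  have h2 : k - k' ∈ I := by
    rw [← Ideal.Quotient.eq_zero_iff_mem, map_sub, hkk', sub_self]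
  have : k = k' + (k - k') := by ring
  rw [this]
  exact Ideal.add_mem _ (Ideal.mem_sup_left hk') (Ideal.mem_sup_right h2)

end Groth.Agent.Lib.FibCritH8
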