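import Mathlib
import Groth.Agent.Lib.FibCrit6_helper8

/-! Fibre criterion of flatness with a middle ring that is only a quotient of an essentially
finitely presented local algebra, main statement (helper8). APPEND-ONLY once landed. -/

set_option autoImplicit false
universe u

namespace Groth.Agent.Lib.FibCritH8

open IsLocalRing

theorem crit_of_surjective {A B' B C : Type u} [CommRing A] [CommRing B'] [CommRing B] [CommRing C]
    [IsLocalRing A] [IsLocalRing B'] [IsLocalRing B] [IsLocalRing C]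
    [Algebra A B'] [Algebra A B] [Algebra A C] [Algebra B' B] [Algebra B C]
    [IsScalarTower A B' B] [IsScalarTower A B C]
    [IsLocalHom (algebraMap A B)] [IsLocalHom (algebraMap B C)]
    (hB' : CAlgX.IsEssFinitePresentation A B') (hsurj : Function.Surjective (algebraMap B' B))
    (hC : CAlgX.IsEssFinitePresentation A C) [Module.Flat A C]
    (hfib : Module.Flat (B ⧸ (maximalIdeal A).map (algebraMap A B))
      (C ⧸ (maximalIdeal A).map (algebraMap A B) • (⊤ : Submodule B C))) :
    Module.Flat A B ∧ Module.Flat B C := by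
  haveI := isNoetherianRing_fibre hB'
  obtain ⟨K₁, hK₁fg, hK₁K, hKsup⟩ := exists_fg_le_sup ((maximalIdeal A).map (algebraMap A B'))
    (RingHom.ker (algebraMap B' B))
  have hK₁top : K₁ ≠ ⊤ := by
    intro h
    have : RingHom.ker (algebraMap B' B) = ⊤ := top_le_iff.mp (h ▸ hK₁K)
    exact (RingHom.ker_ne_top _) this
  haveI : Nontrivial (B' ⧸ K₁) := Ideal.Quotient.nontrivial_iff.mpr hK₁top
  haveI : IsLocalRing (B' ⧸ K₁) := inferInstance
  let φ : (B' ⧸ K₁) →+* B := Ideal.Quotient.lift K₁ (algebraMap B' B) (fun a ha => hK₁K ha)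
  letI algB₁B : Algebra (B' ⧸ K₁) B := φ.toAlgebra
  letI algB₁C : Algebra (B' ⧸ K₁) C := ((algebraMap B C).comp φ).toAlgebra
  haveI : IsScalarTower (B' ⧸ K₁) B C := IsScalarTower.of_algebraMap_eq (fun _ => rfl)
  haveI tow1 : IsScalarTower A (B' ⧸ K₁) B := IsScalarTower.of_algebraMap_eq (fun a => by
    show algebraMap A B a = φ (algebraMap A (B' ⧸ K₁) a)
    rw [IsScalarTower.algebraMap_apply A B' (B' ⧸ K₁), Ideal.Quotient.algebraMap_eq,
      Ideal.Quotient.lift_mk, ← IsScalarTower.algebraMap_apply])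
  haveI tow2 : IsScalarTower A (B' ⧸ K₁) C := IsScalarTower.of_algebraMap_eq (fun a => by
    show algebraMap A C a = algebraMap B C (φ (algebraMap A (B' ⧸ K₁) a))
    have h1 : φ (algebraMap A (B' ⧸ K₁) a) = algebraMap A B a :=
      (IsScalarTower.algebraMap_apply A (B' ⧸ K₁) B a).symm
    rw [h1, ← IsScalarTower.algebraMap_apply A B C])
  have hφsurj : Function.Surjective φ := Ideal.Quotient.lift_surjective_of_surjective _ _ hsurj
  haveI loc1 : IsLocalHom (algebraMap (B' ⧸ K₁) B) := IsLocalHom.of_surjective φ hφsurj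
  haveI loc2 : IsLocalHom (algebraMap (B' ⧸ K₁) C) := by
    show IsLocalHom ((algebraMap B C).comp (algebraMap (B' ⧸ K₁) B))
    infer_instance
  haveI loc3 : IsLocalHom (algebraMap A (B' ⧸ K₁)) := by
    have : IsLocalHom ((algebraMap (B' ⧸ K₁) B).comp (algebraMap A (B' ⧸ K₁))) := by
      rw [← IsScalarTower.algebraMap_eq]; infer_instance
    exact isLocalHom_of_comp _ (algebraMap (B' ⧸ K₁) B)
  have hB₁ : CAlgX.IsEssFinitePresentation A (B' ⧸ K₁) :=
    isEssFinitePresentation_quotient hB' K₁ hK₁fg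
  -- the kernel of `B₁ → B / m_A B`
  have hker : RingHom.ker ((Ideal.Quotient.mk ((maximalIdeal A).map (algebraMap A B))).comp φ) =
      (maximalIdeal A).map (algebraMap A (B' ⧸ K₁)) := by
    apply le_antisymm
    · intro b₁ hb₁
      obtain ⟨b', rfl⟩ := Ideal.Quotient.mk_surjective b₁
      rw [RingHom.mem_ker, RingHom.comp_apply, Ideal.Quotient.eq_zero_iff_mem] at hb₁
      have h1 : algebraMap B' B b' ∈ ((maximalIdeal A).map (algebraMap A B')).map
          (algebraMap B' B) := by
        rw [Ideal.map_map, ← IsScalarTower.algebraMap_eq]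
        exact hb₁
      obtain ⟨i, hi, hib⟩ := (Ideal.mem_map_iff_of_surjective _ hsurj).mp h1
      have h2 : b' - i ∈ RingHom.ker (algebraMap B' B) := by
        rw [RingHom.mem_ker, map_sub, hib, sub_self]
      have h3 : b' ∈ K₁ ⊔ (maximalIdeal A).map (algebraMap A B') := by
        have : b' = (b' - i) + i := by ring
        rw [this]
        exact Ideal.add_mem _ (hKsup h2) (Ideal.mem_sup_right hi)
      obtain ⟨k, hk, j, hj, rfl⟩ := Submodule.mem_sup.mp h3
      rw [map_add, Ideal.Quotient.eq_zero_iff_mem.mpr hk, zero_add,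
        IsScalarTower.algebraMap_eq A B' (B' ⧸ K₁), ← Ideal.map_map]
      exact Ideal.mem_map_of_mem _ hj
    · rw [Ideal.map_le_iff_le_comap]
      intro a ha
      rw [Ideal.mem_comap, RingHom.mem_ker, RingHom.comp_apply,
        show φ (algebraMap A (B' ⧸ K₁) a) = algebraMap A B a from
          (IsScalarTower.algebraMap_apply A (B' ⧸ K₁) B a).symm,
        Ideal.Quotient.eq_zero_iff_mem]
      exact Ideal.mem_map_of_mem _ ha
  have hfib₁ : Module.Flat ((B' ⧸ K₁) ⧸ (maximalIdeal A).map (algebraMap A (B' ⧸ K₁)))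
      (C ⧸ (maximalIdeal A).map (algebraMap A (B' ⧸ K₁)) • (⊤ : Submodule (B' ⧸ K₁) C)) := by
    rw [← quotientMap_flat_iff] at hfib
    refine (flat_iff_of_square (A := A) (B := B' ⧸ K₁) (C := C) (maximalIdeal A)
      ((Ideal.Quotient.mk ((maximalIdeal A).map (algebraMap A B))).comp φ)
      (Ideal.Quotient.mk (((maximalIdeal A).map (algebraMap A B)).map (algebraMap B C)))
      (Ideal.Quotient.mk_surjective.comp hφsurj) Ideal.Quotient.mk_surjective hker ?_ _ ?_).mp hfib
    · rw [Ideal.mk_ker, Ideal.map_map, ← IsScalarTower.algebraMap_eq]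
    · ext b₁
      rfl
  obtain ⟨hfl1, hfl2⟩ := Groth.Agent.S2106.result (R := A) (S := B' ⧸ K₁) (S' := C) (M := C)
    hB₁ hC hfib₁
  haveI := hfl2
  haveI : Module.FaithfullyFlat (B' ⧸ K₁) C := Module.FaithfullyFlat.of_flat_of_isLocalHom
  have hinjC : Function.Injective (algebraMap (B' ⧸ K₁) C) :=
    FaithfulSMul.algebraMap_injective (B' ⧸ K₁) C
  have hφinj : Function.Injective φ := by
    intro a b hab
    apply hinjC
    show algebraMap B C (φ a) = algebraMap B C (φ b)
    rw [hab]
  have hφbij : Function.Bijective φ := ⟨hφinj, hφsurj⟩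
  constructor
  · let e : (B' ⧸ K₁) ≃ₗ[A] B :=
      LinearEquiv.ofBijective ((IsScalarTower.toAlgHom A (B' ⧸ K₁) B).toLinearMap) hφbij
    exact Module.Flat.of_linearEquiv e.symm
  · rw [← RingHom.flat_algebraMap_iff]
    have h1 : (algebraMap (B' ⧸ K₁) C).Flat := RingHom.flat_algebraMap_iff.mpr hfl2
    exact (RingHom.Flat.comp_iff_of_bijective_right (f := algebraMap B C) (g := φ) hφbij).mp h1

end Groth.Agent.Lib.FibCritH8
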