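import Mathlib
import Groth.Agent.Lib.FibCrit7_helper8

/-! Fibre criterion of flatness, middle ring essentially of finite type (helper8).
APPEND-ONLY once landed. -/

set_option autoImplicit false
universe u

namespace Groth.Agent.Lib.FibCritH8

open IsLocalRing

theorem crit_essFiniteType {A B C : Type u} [CommRing A] [CommRing B] [CommRing C]
    [IsLocalRing A] [IsLocalRing B] [IsLocalRing C] [Algebra A B] [Algebra A C] [Algebra B C]
    [IsScalarTower A B C] [IsLocalHom (algebraMap A B)] [IsLocalHom (algebraMap B C)]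
    [Algebra.EssFiniteType A B] (hC : CAlgX.IsEssFinitePresentation A C) [Module.Flat A C]
    (hfib : Module.Flat (B ⧸ (maximalIdeal A).map (algebraMap A B))
      (C ⧸ (maximalIdeal A).map (algebraMap A B) • (⊤ : Submodule B C))) :
    Module.Flat A B ∧ Module.Flat B C := by
  obtain ⟨n, f, hf⟩ := Algebra.FiniteType.iff_quotient_mvPolynomial''.mp
    (inferInstance : Algebra.FiniteType A (Algebra.EssFiniteType.subalgebra A B))
  let ψ : MvPolynomial (Fin n) A →ₐ[A] B := (Algebra.EssFiniteType.subalgebra A B).val.comp f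
  let q₀ : Ideal (MvPolynomial (Fin n) A) := (maximalIdeal B).comap ψ.toRingHom
  haveI : q₀.IsPrime := Ideal.comap_isPrime _ _
  have hunit : ∀ y : q₀.primeCompl, IsUnit (ψ.toRingHom y) := by
    intro y
    have hy : (y : MvPolynomial (Fin n) A) ∉ q₀ := y.2
    by_contra hnu
    exact hy ((mem_maximalIdeal _).mpr hnu)
  let θ : Localization.AtPrime q₀ →+* B := IsLocalization.lift (M := q₀.primeCompl) hunit
  letI : Algebra (Localization.AtPrime q₀) B := θ.toAlgebra
  haveI : IsScalarTower A (Localization.AtPrime q₀) B := IsScalarTower.of_algebraMap_eq (fun a => by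
    show algebraMap A B a = θ (algebraMap A (Localization.AtPrime q₀) a)
    rw [IsScalarTower.algebraMap_apply A (MvPolynomial (Fin n) A) (Localization.AtPrime q₀),
      IsLocalization.lift_eq]
    exact (ψ.commutes a).symm)
  have hB' : CAlgX.IsEssFinitePresentation A (Localization.AtPrime q₀) :=
    ⟨MvPolynomial (Fin n) A, inferInstance, inferInstance, inferInstance, inferInstance,
      q₀.primeCompl, inferInstance, inferInstance⟩
  have hsurj : Function.Surjective (algebraMap (Localization.AtPrime q₀) B) := by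
    intro b
    obtain ⟨⟨x₁, x₂⟩, hx⟩ := IsLocalization.surj (Algebra.EssFiniteType.submonoid A B) b
    obtain ⟨p₁, hp₁⟩ := hf x₁
    obtain ⟨p₂, hp₂⟩ := hf x₂.1
    have hu : IsUnit (ψ p₂) := by
      have := x₂.2
      show IsUnit (algebraMap (Algebra.EssFiniteType.subalgebra A B) B (f p₂))
      rw [hp₂]
      exact this
    have hp₂' : p₂ ∈ q₀.primeCompl := by
      intro hmem
      exact ((mem_maximalIdeal _).mp hmem) hu
    refine ⟨IsLocalization.mk' _ p₁ ⟨p₂, hp₂'⟩, ?_⟩
    show θ (IsLocalization.mk' _ p₁ ⟨p₂, hp₂'⟩) = b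
    rw [IsLocalization.lift_mk'_spec]
    show ψ p₁ = ψ p₂ * b
    have h1 : ψ p₁ = algebraMap (Algebra.EssFiniteType.subalgebra A B) B x₁ := by
      rw [← hp₁]; rfl
    have h2 : ψ p₂ = algebraMap (Algebra.EssFiniteType.subalgebra A B) B x₂.1 := by
      rw [← hp₂]; rfl
    rw [h1, h2, mul_comm]
    exact hx.symm
  exact crit_of_surjective (B' := Localization.AtPrime q₀) hB' hsurj hC hfib

end Groth.Agent.Lib.FibCritH8
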