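import Groth.Agent.Lib.AlgSpThickFlat_helper7
import Groth.Agent.Lib.MonoVal_helper7
import Groth.Agent.S1381
import Groth.Agent.S1314
import Groth.Agent.S1312
import Groth.Agent.S2762

/-!
# Deformation of local properties along arbitrary thickenings, f.p. over f.t. case (helper7)

S10599 (algebraic spaces), S1384, S1385 (schemes).
-/

set_option autoImplicit false
set_option linter.style.haveILetI false
set_option backward.isDefEq.respectTransparency false
set_option backward.isDefEq.respectTransparency.types false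

universe u

open CategoryTheory CategoryTheory.Limits AlgebraicGeometry Opposite

namespace Groth.Agent.Lib.AlgSpDeformFpH7

open AlgSp Groth.Agent.Lib.AlgStLocQ
  Groth.Agent.Lib.AlgSpQC_helper7 Groth.Agent.Lib.AlgSpDiag_helper7
  Groth.Agent.Lib.AlgSpPullback_helper7 Groth.Agent.Lib.AlgSpRepBySp_helper7
  Groth.Agent.Lib.AlgSpPoints_helper7 Groth.Agent.Lib.AlgSpLocP_helper7
  Groth.Agent.Lib.AlgSpBasic_helper7 Groth.Agent.Lib.AlgSpSep_helper7
  Groth.Agent.Lib.AlgSpLocP4_helper7 Groth.Agent.Lib.AlgSpLocP5_helper7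
  Groth.Agent.Lib.AlgSpLocP7_helper7 Groth.Agent.Lib.AlgSpQC2_helper7
  Groth.Agent.Lib.AlgSpLocP8_helper7 Groth.Agent.Lib.AlgSpLocP10_helper7
  Groth.Agent.Lib.AlgSpFpqc3_helper7 Groth.Agent.Lib.AlgSpLocP6_helper7
  Groth.Agent.Lib.AlgSpFpqc2_helper7 Groth.Agent.Lib.AlgSpFpqc_helper7
  Groth.Agent.Lib.AlgSpOpenSub_helper7 Groth.Agent.Lib.AlgSpOpen_helper7
  Groth.Agent.Lib.AlgSpUnram_helper7 Groth.Agent.Lib.AlgSpLocSurjH7
  Groth.Agent.Lib.AlgSpDeformH7 Groth.Agent.Lib.AlgSpLocP9_helper7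
  Groth.Agent.Lib.AlgSpThickFlatH7

/-! ## Scheme level -/

section Sch

open Groth.Agent.FibMapFlat Groth.Agent.Lib.MonoValH7

variable {X X' Y Y' T T' : Scheme.{u}} (iX : X ⟶ X') (iY : Y ⟶ Y') (iT : T ⟶ T')
  (f : X ⟶ Y) (f' : X' ⟶ Y') (g : Y ⟶ T) (g' : Y' ⟶ T')

theorem isThickening_of_isPullback' {iY : Y ⟶ Y'} {iT : T ⟶ T'} {g : Y ⟶ T} {g' : Y' ⟶ T'}
    (hT : MoreMor.IsThickening iT) (hcY : IsPullback iY g g' iT) : MoreMor.IsThickening iY :=
  ⟨MorphismProperty.of_isPullback (P := @IsClosedImmersion) hcY.flip hT.1,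
    MorphismProperty.of_isPullback (P := @Surjective) hcY.flip hT.2⟩

/-- Smoothness ascends along a thickening of the base for flat morphisms locally of finite
presentation. -/
theorem smooth_of_thickening_flat (hY : MoreMor.IsThickening iY) (hc : IsPullback iX f f' iY)
    [Flat f'] [LocallyOfFinitePresentation f'] (hf : Smooth f) : Smooth f' := by
  haveI : IsClosedImmersion iY := hY.1
  haveI : Flat f := MorphismProperty.of_isPullback (P := @Flat) hc inferInstance
  haveI : LocallyOfFinitePresentation f :=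
    MorphismProperty.of_isPullback (P := @LocallyOfFinitePresentation) hc inferInstance
  obtain ⟨i, hi⟩ : ∃ i : Y ⟶ Y, i = 𝟙 Y := ⟨_, rfl⟩
  obtain ⟨i', hi'⟩ : ∃ i' : Y' ⟶ Y', i' = 𝟙 Y' := ⟨_, rfl⟩
  haveI : LocallyOfFinitePresentation i := by rw [hi]; infer_instance
  haveI : LocallyOfFinitePresentation i' := by rw [hi']; infer_instance
  have wi : f ≫ i = f := by rw [hi]; exact Category.comp_id f
  have wi' : f' ≫ i' = f' := by rw [hi']; exact Category.comp_id f'
  rw [Groth.Agent.S2762.result i' f' f' wi']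
  intro s
  obtain ⟨y, rfl⟩ := hY.2.surj s
  have hsm := (Groth.Agent.S2762.result i f f wi).1 hf y
  have sqid : IsPullback iY i i' iY := by rw [hi, hi']; exact IsPullback.id_vert iY
  obtain ⟨φ, hφdef⟩ : ∃ φ : i.fiber y ⟶ i'.fiber (iY y), φ = fibMap sqid y := ⟨_, rfl⟩
  have hφι : φ ≫ i'.fiberι (iY y) = i.fiberι y ≫ iY := by
    rw [hφdef]; exact fibMap_fiberι sqid y
  haveI : IsIso (iY.residueFieldMap y) := inferInstance
  haveI : IsIso (Spec.map (iY.residueFieldMap y)) := inferInstance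
  haveI hφ : IsIso φ := by
    rw [hφdef]
    exact (isPullback_fibMap sqid y).isIso_fst_of_isIso
  have sq1 := IsPullback.of_hasPullback f (i.fiberι y)
  have sq' := IsPullback.of_hasPullback f' (i'.fiberι (iY y))
  have big : IsPullback (pullback.fst f (i.fiberι y) ≫ iX) (pullback.snd f (i.fiberι y)) f'
      (φ ≫ i'.fiberι (iY y)) := by
    rw [hφι]; exact sq1.paste_horiz hc
  obtain ⟨ψ, hψ1, hψ2⟩ : ∃ ψ : pullback f (i.fiberι y) ⟶ pullback f' (i'.fiberι (iY y)),
      ψ ≫ pullback.fst f' (i'.fiberι (iY y)) = pullback.fst f (i.fiberι y) ≫ iX ∧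
      ψ ≫ pullback.snd f' (i'.fiberι (iY y)) = pullback.snd f (i.fiberι y) ≫ φ :=
    ⟨pullback.lift _ _ (big.w.trans (Category.assoc _ _ _).symm), pullback.lift_fst _ _ _,
      pullback.lift_snd _ _ _⟩
  have sqψ : IsPullback ψ (pullback.snd f (i.fiberι y))
      (pullback.snd f' (i'.fiberι (iY y))) φ :=
    IsPullback.of_right (by rw [hψ1]; exact big) hψ2 sq'
  haveI : IsIso ψ := sqψ.isIso_fst_of_isIso
  have e : pullback.snd f' (i'.fiberι (iY y)) =
      inv ψ ≫ pullback.snd f (i.fiberι y) ≫ φ := by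
    rw [IsIso.eq_inv_comp]; exact hψ2
  rw [e]
  exact (MorphismProperty.cancel_left_of_respectsIso @Smooth (inv ψ) _).2
    ((MorphismProperty.cancel_right_of_respectsIso @Smooth _ φ).2 hsm)

theorem sch_flat' (hT : MoreMor.IsThickening iT)
    (hcX : IsPullback iX (f ≫ g) (f' ≫ g') iT) (hcY : IsPullback iY g g' iT)
    (w : iX ≫ f' = f ≫ iY) (hfl : Flat (f' ≫ g')) (hfp : LocallyOfFinitePresentation (f' ≫ g'))
    (hft : LocallyOfFiniteType g') (hf : Flat f) : Flat f' :=
  (Groth.Agent.S1381.result iX iY iT f f' g g' hT hcX hcY w).1 hf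

theorem sch_unram' (hT : MoreMor.IsThickening iT)
    (hcX : IsPullback iX (f ≫ g) (f' ≫ g') iT) (hcY : IsPullback iY g g' iT)
    (w : iX ≫ f' = f ≫ iY) (_hfl : Flat (f' ≫ g')) (hfp : LocallyOfFinitePresentation (f' ≫ g'))
    (hft : LocallyOfFiniteType g')
    (hf : (@LocallyOfFiniteType ⊓ @FormallyUnramified : MorphismProperty Scheme.{u}) f) :
    (@LocallyOfFiniteType ⊓ @FormallyUnramified : MorphismProperty Scheme.{u}) f' := by
  have hYT := isThickening_of_isPullback' hT hcY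
  have top := IsPullback.of_bot hcX w hcY
  haveI : LocallyOfFinitePresentation f' := FibMorConsH8.lfp_of_comp f' g'
  haveI : LocallyOfFiniteType f := hf.1
  exact ⟨inferInstance, (Groth.Agent.S1314.result iX iY f f' hYT top).1 hf.2⟩

theorem sch_lqf' (hT : MoreMor.IsThickening iT)
    (hcX : IsPullback iX (f ≫ g) (f' ≫ g') iT) (hcY : IsPullback iY g g' iT)
    (w : iX ≫ f' = f ≫ iY) (_hfl : Flat (f' ≫ g')) (hfp : LocallyOfFinitePresentation (f' ≫ g'))
    (hft : LocallyOfFiniteType g')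
    (hf : (@LocallyQuasiFinite ⊓ @LocallyOfFiniteType : MorphismProperty Scheme.{u}) f) :
    (@LocallyQuasiFinite ⊓ @LocallyOfFiniteType : MorphismProperty Scheme.{u}) f' := by
  have hYT := isThickening_of_isPullback' hT hcY
  have top := IsPullback.of_bot hcX w hcY
  haveI : LocallyOfFinitePresentation f' := FibMorConsH8.lfp_of_comp f' g'
  haveI : LocallyOfFiniteType f := hf.2
  exact ⟨(Groth.Agent.S1312.result iX iY f f' hYT top).1 hf.1, inferInstance⟩

theorem sch_etale' (hT : MoreMor.IsThickening iT)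
    (hcX : IsPullback iX (f ≫ g) (f' ≫ g') iT) (hcY : IsPullback iY g g' iT)
    (w : iX ≫ f' = f ≫ iY) (hfl : Flat (f' ≫ g')) (hfp : LocallyOfFinitePresentation (f' ≫ g'))
    (hft : LocallyOfFiniteType g') (hf : Etale f) : Etale f' := by
  haveI : LocallyOfFinitePresentation f' := FibMorConsH8.lfp_of_comp f' g'
  have h1 : Flat f' := sch_flat' iX iY iT f f' g g' hT hcX hcY w hfl hfp hft inferInstance
  have h2 := sch_unram' iX iY iT f f' g g' hT hcX hcY w hfl hfp hft
    ⟨inferInstance, inferInstance⟩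
  exact Etale.iff_flat_and_formallyUnramified.2 ⟨h1, h2.2, inferInstance⟩

theorem sch_smooth' (hT : MoreMor.IsThickening iT)
    (hcX : IsPullback iX (f ≫ g) (f' ≫ g') iT) (hcY : IsPullback iY g g' iT)
    (w : iX ≫ f' = f ≫ iY) (hfl : Flat (f' ≫ g')) (hfp : LocallyOfFinitePresentation (f' ≫ g'))
    (hft : LocallyOfFiniteType g') (hf : Smooth f) : Smooth f' := by
  have hYT := isThickening_of_isPullback' hT hcY
  have top := IsPullback.of_bot hcX w hcY
  haveI : LocallyOfFinitePresentation f' := FibMorConsH8.lfp_of_comp f' g'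
  haveI : Flat f' := sch_flat' iX iY iT f f' g g' hT hcX hcY w hfl hfp hft inferInstance
  exact smooth_of_thickening_flat iX iY f f' hYT top hf

/-- S1384. -/
theorem deform_fp_smooth_iff (hS : MoreMor.IsThickening iT)
    (hcX : IsPullback iX (f ≫ g) (f' ≫ g') iT) (hcY : IsPullback iY g g' iT)
    (w : iX ≫ f' = f ≫ iY) [Flat (f' ≫ g')] [LocallyOfFinitePresentation (f' ≫ g')]
    [LocallyOfFiniteType g'] : Smooth f ↔ Smooth f' :=
  ⟨sch_smooth' iX iY iT f f' g g' hS hcX hcY w inferInstance inferInstance inferInstance,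
    fun h => MorphismProperty.of_isPullback (P := @Smooth) (IsPullback.of_bot hcX w hcY) h⟩

/-- S1385. -/
theorem deform_fp_etale_iff (hS : MoreMor.IsThickening iT)
    (hcX : IsPullback iX (f ≫ g) (f' ≫ g') iT) (hcY : IsPullback iY g g' iT)
    (w : iX ≫ f' = f ≫ iY) [Flat (f' ≫ g')] [LocallyOfFinitePresentation (f' ≫ g')]
    [LocallyOfFiniteType g'] : Etale f ↔ Etale f' :=
  ⟨sch_etale' iX iY iT f f' g g' hS hcX hcY w inferInstance inferInstance inferInstance,
    fun h => MorphismProperty.of_isPullback (P := @Etale) (IsPullback.of_bot hcX w hcY) h⟩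

end Sch

variable {S : Scheme.{u}}

/-! ## Algebraic spaces -/

theorem deform_up' {P : MorphismProperty Scheme.{u}} [P.IsStableUnderBaseChange]
    [IsZariskiLocalAtSource P] (hP : EtLocal P)
    (hsch : ∀ {X X' Y Y' T T' : Scheme.{u}} (iX : X ⟶ X') (iY : Y ⟶ Y') (iT : T ⟶ T')
      (f : X ⟶ Y) (f' : X' ⟶ Y') (g : Y ⟶ T) (g' : Y' ⟶ T'),
      MoreMor.IsThickening iT → IsPullback iX (f ≫ g) (f' ≫ g') iT →
      IsPullback iY g g' iT → iX ≫ f' = f ≫ iY → Flat (f' ≫ g') →
      LocallyOfFinitePresentation (f' ≫ g') → LocallyOfFiniteType g' → P f → P f')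
    {X X' Y Y' B B' : Sp S} (hX' : IsAlgSpace X') (hY' : IsAlgSpace Y') (hB' : IsAlgSpace B')
    (iX : X ⟶ X') (iY : Y ⟶ Y') (iB : B ⟶ B')
    (f : X ⟶ Y) (f' : X' ⟶ Y') (g : Y ⟶ B) (g' : Y' ⟶ B')
    (hcX : IsPullback iX (f ≫ g) (f' ≫ g') iB) (hcY : IsPullback iY g g' iB)
    (w : iX ≫ f' = f ≫ iY) (hB : IsThickMor iB) (hflat : LocP @Flat (f' ≫ g'))
    (hfp : LocP @LocallyOfFinitePresentation (f' ≫ g')) (hg' : LocP @LocallyOfFiniteType g')
    (hf : LocP P f) : LocP P f' := by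
  apply locP_of_forall_hasAtMor hP
  intro x'
  obtain ⟨U', V', W', a', b', c', h', k', u', ha'e, hb'e, hc'e, hW', comm1, comm2, hu'⟩ :=
    exists_three_charts hX' hY' hB' f' g' x'
  obtain ⟨U, V, a, b, h, k, iU, iV, hae, hbe, comm, -, -, sqUs, sqVs, ws⟩ :=
    exists_bc_charts iX iY iB f f' g g' hcX hcY w a' b' c' h' k' ha'e hb'e comm1 comm2
      (hB.rep.snd c') (hB.rep.fst c') (hB.rep.isPullback c')
  have hTh : MoreMor.IsThickening (hB.rep.snd c').left := (thick_iff _).1 (hB.property_snd c')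
  have comm3 : a' ≫ (f' ≫ g') = (yon S).map (h' ≫ k') ≫ c' := by
    rw [← Category.assoc, comm1, Category.assoc, comm2, ← Category.assoc,
      ← CategoryTheory.Functor.map_comp]
  have hfl : Flat (h'.left ≫ k'.left) := hflat a' c' (h' ≫ k') ha'e hc'e comm3
  have hfp' : LocallyOfFinitePresentation (h'.left ≫ k'.left) :=
    hfp a' c' (h' ≫ k') ha'e hc'e comm3
  have hft' : LocallyOfFiniteType k'.left := hg' b' c' k' hb'e hc'e comm2
  have hPh : P h.left := hf a b h hae hbe comm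
  have hPh' : P h'.left :=
    hsch iU.left iV.left _ h.left h'.left k.left k'.left hTh sqUs sqVs ws hfl hfp' hft' hPh
  unfold HasAtMor
  exact ⟨U', V', a', b', h', u', ha'e, hb'e, comm1, hu', ⊤, TopologicalSpace.Opens.mem_top _,
    IsZariskiLocalAtSource.comp hPh' _⟩

/-- Relative dimension `d` passes from `f` to `f'` (arbitrary thickening). -/
theorem relDim_up' {X X' Y Y' B B' : Sp S} (hX' : IsAlgSpace X') (hY' : IsAlgSpace Y')
    (hB' : IsAlgSpace B')
    (iX : X ⟶ X') (iY : Y ⟶ Y') (iB : B ⟶ B')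
    (f : X ⟶ Y) (f' : X' ⟶ Y') (g : Y ⟶ B) (g' : Y' ⟶ B')
    (hcX : IsPullback iX (f ≫ g) (f' ≫ g') iB) (hcY : IsPullback iY g g' iB)
    (w : iX ≫ f' = f ≫ iY) (hB : IsThickMor iB)
    (hlft : LocP @LocallyOfFiniteType f) (hlft' : LocP @LocallyOfFiniteType f')
    (d : WithBot ℕ∞)
    (hd : ∀ x, HasAtMor (fun _ _ h u => FlatMor.fibreDimAt h u = d) f x) (x' : Points X') :
    HasAtMor (fun _ _ h u => FlatMor.fibreDimAt h u = d) f' x' := by
  obtain ⟨U', V', W', a', b', c', h', k', u', ha'e, hb'e, hc'e, hW', comm1, comm2, hu'⟩ :=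
    exists_three_charts hX' hY' hB' f' g' x'
  obtain ⟨U, V, a, b, h, k, iU, iV, hae, hbe, comm, -, -, sqUs, sqVs, ws⟩ :=
    exists_bc_charts iX iY iB f f' g g' hcX hcY w a' b' c' h' k' ha'e hb'e comm1 comm2
      (hB.rep.snd c') (hB.rep.fst c') (hB.rep.isPullback c')
  have hthk : thick (hB.rep.snd c').left := hB.property_snd c'
  have hsurj : Surjective iU.left :=
    MorphismProperty.of_isPullback (P := @Surjective) sqUs.flip hthk.2
  obtain ⟨u, hu⟩ := hsurj.surj u'
  obtain ⟨U₂, V₂, a₂, b₂, h₂, u₂, ha₂e, hb₂e, comm₂, hpt₂, hdim₂⟩ := hd (Points.ofPt a u)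
  have hdim₂' : FlatMor.fibreDimAt h₂.left u₂ = d := hdim₂
  have e1 : FlatMor.fibreDimAt h₂.left u₂ = FlatMor.fibreDimAt h.left u :=
    ChartIndepH8.fibreDimAt_chart_indep f hlft a₂ b₂ h₂ u₂ a b h u ha₂e hb₂e hae hbe comm₂ comm
      hpt₂
  haveI : LocallyOfFiniteType h'.left := hlft' a' b' h' ha'e hb'e comm1
  have top : IsPullback iU.left h.left h'.left iV.left := IsPullback.of_bot sqUs ws sqVs
  have e2 := (Groth.Agent.S9358.result h'.left iV.left iU.left h.left top 0).1 u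
  have e3 : iU.left.base u = u' := hu
  rw [e3] at e2
  unfold HasAtMor
  exact ⟨U', V', a', b', h', u', ha'e, hb'e, comm1, hu', e2.symm.trans (e1.symm.trans hdim₂')⟩

/-- S10599. -/
theorem deform_fp_over_ft_local_properties_iff {X X' Y Y' B B' : AlgSp.Space S} (iX : X ⟶ X')
    (iY : Y ⟶ Y') (iB : B ⟶ B')
    (f : X ⟶ Y) (f' : X' ⟶ Y') (g : Y ⟶ B) (g' : Y' ⟶ B')
    (hcX : IsPullback iX.hom (f ≫ g).hom (f' ≫ g').hom iB.hom)
    (hcY : IsPullback iY.hom g.hom g'.hom iB.hom)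
    (w : iX ≫ f' = f ≫ iY)
    (hB : AlgSp.IsThickMor iB.hom)
    (hg' : AlgSp.LocP @LocallyOfFiniteType g'.hom)
    (hflat : AlgSp.LocP @Flat (f' ≫ g').hom)
    (hfp : AlgSp.LocP @LocallyOfFinitePresentation (f' ≫ g').hom) (d : ℕ) :
    ((AlgSp.LocP @LocallyOfFiniteType f.hom ∧
        ∀ x, AlgSp.HasAtMor (fun _ _ h u => FlatMor.fibreDimAt h u = (d : WithBot ℕ∞)) f.hom x) ↔
      (AlgSp.LocP @LocallyOfFiniteType f'.hom ∧
        ∀ x', AlgSp.HasAtMor (fun _ _ h u => FlatMor.fibreDimAt h u = (d : WithBot ℕ∞)) f'.hom x')) ∧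
    (AlgSp.LocP @Flat f.hom ↔ AlgSp.LocP @Flat f'.hom) ∧
    (AlgSp.LocP (@LocallyQuasiFinite ⊓ @LocallyOfFiniteType) f.hom ↔
      AlgSp.LocP (@LocallyQuasiFinite ⊓ @LocallyOfFiniteType) f'.hom) ∧
    (AlgSp.LocP @Smooth f.hom ↔ AlgSp.LocP @Smooth f'.hom) ∧
    (AlgSp.LocP (@LocallyOfFiniteType ⊓ @FormallyUnramified) f.hom ↔
      AlgSp.LocP (@LocallyOfFiniteType ⊓ @FormallyUnramified) f'.hom) ∧
    (AlgSp.IsEtaleMor f.hom ↔ AlgSp.IsEtaleMor f'.hom) := by
  have hcX' : IsPullback iX.hom (f.hom ≫ g.hom) (f'.hom ≫ g'.hom) iB.hom := hcX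
  have w' : iX.hom ≫ f'.hom = f.hom ≫ iY.hom := congrArg (fun t => t.hom) w
  have hflat' : LocP @Flat (f'.hom ≫ g'.hom) := hflat
  have hfp' : LocP @LocallyOfFinitePresentation (f'.hom ≫ g'.hom) := hfp
  have top : IsPullback iX.hom f.hom f'.hom iY.hom := IsPullback.of_bot hcX' w' hcY
  have hLFP' : LocP @LocallyOfFinitePresentation f'.hom :=
    locP_lfp_of_comp B'.property f'.hom g'.hom hfp' hg'
  have hLFT' : LocP @LocallyOfFiniteType f'.hom := fun U V a b h hae hbe comm => by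
    haveI : LocallyOfFinitePresentation h.left := hLFP' a b h hae hbe comm
    infer_instance
  have hLFT : LocP @LocallyOfFiniteType f.hom :=
    deform_down etLocal_locallyOfFiniteType X'.property Y'.property Y.property
      iX.hom iY.hom iB.hom f.hom f'.hom g.hom g'.hom hcX' hcY w' hLFT'
  have hFlat : LocP @Flat f.hom ↔ LocP @Flat f'.hom :=
    ⟨fun hf => (thickening_flat_fp_over_ft iX iY iB f f' g g' hcX hcY w hB hg' hflat hfp hf).1,
      deform_down etLocal_flat X'.property Y'.property Y.property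
        iX.hom iY.hom iB.hom f.hom f'.hom g.hom g'.hom hcX' hcY w'⟩
  have hLQF : LocP (@LocallyQuasiFinite ⊓ @LocallyOfFiniteType) f.hom ↔
      LocP (@LocallyQuasiFinite ⊓ @LocallyOfFiniteType) f'.hom :=
    ⟨deform_up' etLocal_locallyQuasiFinite sch_lqf' X'.property Y'.property B'.property
        iX.hom iY.hom iB.hom f.hom f'.hom g.hom g'.hom hcX' hcY w' hB hflat' hfp' hg',
      deform_down etLocal_locallyQuasiFinite X'.property Y'.property Y.property
        iX.hom iY.hom iB.hom f.hom f'.hom g.hom g'.hom hcX' hcY w'⟩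
  have hSm : LocP @Smooth f.hom ↔ LocP @Smooth f'.hom :=
    ⟨deform_up' etLocal_smooth sch_smooth' X'.property Y'.property B'.property
        iX.hom iY.hom iB.hom f.hom f'.hom g.hom g'.hom hcX' hcY w' hB hflat' hfp' hg',
      deform_down etLocal_smooth X'.property Y'.property Y.property
        iX.hom iY.hom iB.hom f.hom f'.hom g.hom g'.hom hcX' hcY w'⟩
  have hUnr : LocP (@LocallyOfFiniteType ⊓ @FormallyUnramified) f.hom ↔
      LocP (@LocallyOfFiniteType ⊓ @FormallyUnramified) f'.hom :=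
    ⟨deform_up' etLocal_unramified sch_unram' X'.property Y'.property B'.property
        iX.hom iY.hom iB.hom f.hom f'.hom g.hom g'.hom hcX' hcY w' hB hflat' hfp' hg',
      deform_down etLocal_unramified X'.property Y'.property Y.property
        iX.hom iY.hom iB.hom f.hom f'.hom g.hom g'.hom hcX' hcY w'⟩
  have hEt : LocP @Etale f.hom ↔ LocP @Etale f'.hom :=
    ⟨deform_up' etLocal_etale sch_etale' X'.property Y'.property B'.property
        iX.hom iY.hom iB.hom f.hom f'.hom g.hom g'.hom hcX' hcY w' hB hflat' hfp' hg',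
      deform_down etLocal_etale X'.property Y'.property Y.property
        iX.hom iY.hom iB.hom f.hom f'.hom g.hom g'.hom hcX' hcY w'⟩
  refine ⟨⟨fun h12 => ⟨hLFT', fun x' => relDim_up' X'.property Y'.property B'.property
      iX.hom iY.hom iB.hom f.hom f'.hom g.hom g'.hom hcX' hcY w' hB h12.1 hLFT' _
      h12.2 x'⟩,
    fun h12 => ⟨hLFT, fun x => Groth.Agent.S10311.result f' iY iX f top h12.1 x _
      (h12.2 _)⟩⟩, hFlat, hLQF, hSm, hUnr, ?_⟩
  rw [isEtaleMor_iff_locP Y.property, isEtaleMor_iff_locP Y'.property]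
  exact hEt

end Groth.Agent.Lib.AlgSpDeformFpH7
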