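import Mathlib.AlgebraicGeometry.Morphisms.FlatDescent
import Mathlib.AlgebraicGeometry.Morphisms.LocalFlatDescent
import Mathlib.AlgebraicGeometry.Morphisms.Etale
import Mathlib.RingTheory.Smooth.NoetherianDescent

/-!
# Properties of morphisms of schemes that are local on the source for smooth / étale coverings
(helper7)

* `flat_of_comp_surjective`: flatness is local on the source for flat surjective morphisms.
* `locallyOfFiniteType_of_comp_smooth_surjective`: if `c` is smooth surjective and `c ≫ h` is locally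
  of finite type, then `h` is locally of finite type.
-/

set_option autoImplicit false
universe u
open CategoryTheory CategoryTheory.Limits AlgebraicGeometry Opposite MorphismProperty TensorProduct

namespace Groth.Agent.Lib.SchSrcLocal_helper7

/-- If `C` is flat over `A` and faithfully flat over `B`, then `B` is flat over `A`. -/
theorem flat_of_flat_of_faithfullyFlat (A B C : Type*) [CommRing A] [CommRing B] [CommRing C]
    [Algebra A B] [Algebra B C] [Algebra A C] [IsScalarTower A B C] [Module.Flat A C]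
    [Module.FaithfullyFlat B C] : Module.Flat A B := by
  rw [Module.Flat.iff_lTensor_preserves_injective_linearMap]
  intro N P _ _ _ _ f hf
  show Function.Injective (f.baseChange B)
  rw [← Module.FaithfullyFlat.lTensor_injective_iff_injective B C]
  show Function.Injective ((f.baseChange B).baseChange C)
  rw [LinearMap.baseChange_baseChange]
  have h1 : Function.Injective (f.baseChange C) :=
    Module.Flat.lTensor_preserves_injective_linearMap f hf
  simp only [LinearMap.coe_comp, LinearEquiv.coe_coe, EmbeddingLike.comp_injective,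
    EquivLike.injective_comp]
  exact h1

theorem ringHomFlat_of_comp_faithfullyFlat {A B C : Type*} [CommRing A] [CommRing B] [CommRing C]
    (f : A →+* B) (g : B →+* C) (hg : g.FaithfullyFlat) (h : (g.comp f).Flat) : f.Flat := by
  algebraize [f, g, g.comp f]
  exact flat_of_flat_of_faithfullyFlat A B C

theorem flat_of_comp_surjective {W U V : Scheme.{u}} (c : W ⟶ U) (h : U ⟶ V) [Flat c] [Surjective c]
    [Flat (c ≫ h)] : Flat h := by
  rw [Flat.iff_flat_stalkMap]
  intro u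
  obtain ⟨w, rfl⟩ := c.surjective u
  have h1 : ((c ≫ h).stalkMap w).hom.Flat := Flat.stalkMap (c ≫ h) w
  rw [Scheme.Hom.stalkMap_comp] at h1
  have h2 : (c.stalkMap w).hom.Flat := Flat.stalkMap c w
  have h3 : (c.stalkMap w).hom.FaithfullyFlat := by
    have hloc : IsLocalHom (c.stalkMap w).hom := inferInstance
    algebraize [(c.stalkMap w).hom]
    have : IsLocalHom (algebraMap (U.presheaf.stalk (c w)) (W.presheaf.stalk w)) := hloc
    exact Module.FaithfullyFlat.of_flat_of_isLocalHom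
  exact ringHomFlat_of_comp_faithfullyFlat _ _ h3 h1

theorem of_comp_mono {C : Type*} [Category C] (P : MorphismProperty C)
    [P.IsStableUnderBaseChange] {X Y Z : C} (f : X ⟶ Y) (j : Y ⟶ Z) [Mono j] (h : P (f ≫ j)) : P f := by
  have sq1 : IsPullback f (𝟙 X) (𝟙 Y) f := IsPullback.of_vert_isIso ⟨by simp⟩
  have sq2 : IsPullback (𝟙 Y) (𝟙 Y) j j := IsKernelPair.id_of_mono j
  have sq3 := sq1.paste_horiz sq2
  rw [Category.comp_id] at sq3
  exact P.of_isPullback sq3.flip h

/-- Key lemma: if the base change of `φ` along a flat morphism `ψ` locally of finite presentation is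
an isomorphism, then `φ` is an isomorphism over the (open) image of `ψ`. -/
theorem isIso_morphismRestrict_of_isPullback {X X' Y' P : Scheme.{u}} (φ : X ⟶ X') (ψ : Y' ⟶ X')
    [Flat ψ] [LocallyOfFinitePresentation ψ] (fst : P ⟶ X) (snd : P ⟶ Y')
    (sq : IsPullback fst snd φ ψ) [IsIso snd] (U' : X'.Opens) (hU : (U' : Set X') = Set.range ψ) :
    IsIso (φ ∣_ U') := by
  have hr : Set.range ψ ⊆ (U' : Set X') := hU.ge
  let ψ' : Y' ⟶ U' := IsOpenImmersion.lift U'.ι ψ (by simpa using hr)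
  have hψ' : ψ' ≫ U'.ι = ψ := IsOpenImmersion.lift_fac _ _ _
  have h1 : Set.range fst ⊆ ((φ ⁻¹ᵁ U' : X.Opens) : Set X) := by
    rintro _ ⟨p, rfl⟩
    show φ (fst p) ∈ (U' : Set X')
    rw [← Scheme.Hom.comp_apply, sq.w, Scheme.Hom.comp_apply, hU]
    exact ⟨_, rfl⟩
  let a : P ⟶ (φ ⁻¹ᵁ U' : X.Opens) := IsOpenImmersion.lift (φ ⁻¹ᵁ U').ι fst (by simpa using h1)
  have ha : a ≫ (φ ⁻¹ᵁ U').ι = fst := IsOpenImmersion.lift_fac _ _ _
  have sq2 := isPullback_morphismRestrict φ U'
  have sq3 : IsPullback a snd (φ ∣_ U') ψ' := by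
    refine IsPullback.of_right (h₁₂ := (φ ⁻¹ᵁ U').ι) (h₂₂ := U'.ι) ?_ ?_ sq2.flip
    · rw [ha, hψ']; exact sq
    · rw [← cancel_mono U'.ι, Category.assoc, Category.assoc, hψ', morphismRestrict_ι,
        ← Category.assoc, ha, sq.w]
  have hsurj : Surjective ψ' := ⟨fun ⟨x, hx⟩ => by
    rw [← SetLike.mem_coe, hU] at hx
    obtain ⟨y, rfl⟩ := hx
    refine ⟨y, ?_⟩
    apply U'.ι.injective
    rw [← Scheme.Hom.comp_apply, hψ']
    rfl⟩
  have hfl : Flat ψ' := of_comp_mono @Flat ψ' U'.ι (by rw [hψ']; infer_instance)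
  have hfp : LocallyOfFinitePresentation ψ' :=
    of_comp_mono @LocallyOfFinitePresentation ψ' U'.ι (by rw [hψ']; infer_instance)
  exact MorphismProperty.of_isPullback_of_descendsAlong (P := isomorphisms Scheme)
    (Q := @Surjective ⊓ @Flat ⊓ @LocallyOfFinitePresentation) sq3.flip ⟨⟨hsurj, hfl⟩, hfp⟩
    (inferInstanceAs (IsIso snd))

/-- Spreading out: a smooth `A`-algebra `B` which is of finite type over `R` comes by base change from
a smooth algebra `B₁` over an `R`-algebra of finite type `A₁ ⊆ A`, in such a way that `B₁ → B` is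
bijective. -/
theorem exists_model_bijective (R A B : Type u) [CommRing R] [CommRing A] [CommRing B]
    [Algebra R A] [Algebra A B] [Algebra R B] [IsScalarTower R A B]
    [Algebra.Smooth A B] [Algebra.FiniteType R B] :
    ∃ (A₁ : Type u) (_ : CommRing A₁) (_ : Algebra R A₁) (_ : Algebra A₁ A)
      (_ : IsScalarTower R A₁ A) (B₁ : Type u) (_ : CommRing B₁) (_ : Algebra A₁ B₁),
      Algebra.FiniteType R A₁ ∧ Algebra.Smooth A₁ B₁ ∧
      Function.Bijective (Algebra.TensorProduct.includeRight : B₁ →ₐ[A₁] A ⊗[A₁] B₁) ∧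
      Nonempty (A ⊗[A₁] B₁ ≃ₐ[A] B) := by
  classical
  obtain ⟨A₀, B₀, _, _, hfg, hsm, ⟨e₀⟩⟩ := Algebra.Smooth.exists_subalgebra_fg R A B
  obtain ⟨s, hs⟩ := (Algebra.FiniteType.out : (⊤ : Subalgebra R B).FG)
  -- the finitely many elements of `A` needed to express the generators
  choose T hT using fun b : B => TensorProduct.exists_finset (e₀ b)
  let t : Finset A := s.biUnion fun b => (T b).image Prod.fst
  let A₁ : Subalgebra A₀ A := Algebra.adjoin A₀ (t : Set A)
  have hA₁ft : Algebra.FiniteType R A₁ := by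
    have h1 : Algebra.FiniteType R A₀ := (Subalgebra.fg_iff_finiteType A₀).mp hfg
    have h2 : Algebra.FiniteType A₀ A₁ := (Subalgebra.fg_iff_finiteType A₁).mp ⟨t, rfl⟩
    exact Algebra.FiniteType.trans h1 h2
  let B₁ := A₁ ⊗[A₀] B₀
  have hsm₁ : Algebra.Smooth A₁ B₁ := inferInstance
  let e₁ : A ⊗[A₁] B₁ ≃ₐ[A] A ⊗[A₀] B₀ := Algebra.TensorProduct.cancelBaseChange A₀ A₁ A A B₀
  let E : A ⊗[A₁] B₁ ≃ₐ[A] B := e₁.trans e₀.symm
  refine ⟨A₁, inferInstance, inferInstance, inferInstance, inferInstance, B₁, inferInstance,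
    inferInstance, hA₁ft, hsm₁, ⟨?_, ?_⟩, ⟨E⟩⟩
  · exact Algebra.TensorProduct.includeRight_injective (R := A₁) (A := A) (B := B₁)
      Subtype.val_injective
  · have key : ∀ y ∈ Algebra.adjoin R (s : Set B), E.symm y ∈
        Set.range (Algebra.TensorProduct.includeRight : B₁ →ₐ[A₁] A ⊗[A₁] B₁) := by
      intro y hy
      induction hy using Algebra.adjoin_induction with
      | mem x hx =>
        have hmem : ∀ i ∈ T x, i.1 ∈ A₁ := fun i hi => Algebra.subset_adjoin (by
          simp only [t, Finset.coe_biUnion, Finset.coe_image, Set.mem_iUnion, Set.mem_image]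
          exact ⟨x, hx, i, hi, rfl⟩)
        refine ⟨∑ i ∈ (T x).attach, (⟨i.1.1, hmem i.1 i.2⟩ : A₁) ⊗ₜ[A₀] i.1.2, ?_⟩
        rw [AlgEquiv.eq_symm_apply]
        show e₀.symm (e₁ _) = x
        rw [AlgEquiv.symm_apply_eq, hT x, Algebra.TensorProduct.includeRight_apply,
          TensorProduct.tmul_sum, map_sum, ← Finset.sum_attach (T x)]
        refine Finset.sum_congr rfl fun i _ => ?_
        show (Algebra.TensorProduct.cancelBaseChange A₀ A₁ A A B₀) _ = _
        rw [Algebra.TensorProduct.cancelBaseChange_tmul]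
        congr 1
        show (i.1.1 : A) * 1 = _
        rw [mul_one]
      | algebraMap r =>
        refine ⟨algebraMap A₁ B₁ (algebraMap R A₁ r), ?_⟩
        rw [AlgHom.commutes, IsScalarTower.algebraMap_apply R A B, AlgEquiv.commutes,
          Algebra.TensorProduct.algebraMap_apply, Algebra.TensorProduct.algebraMap_apply,
          ← IsScalarTower.algebraMap_apply R A₁ A]
        rfl
      | add x y _ _ hx hy =>
        obtain ⟨x', hx'⟩ := hx
        obtain ⟨y', hy'⟩ := hy
        exact ⟨x' + y', by rw [map_add, map_add, hx', hy']⟩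
      | mul x y _ _ hx hy =>
        obtain ⟨x', hx'⟩ := hx
        obtain ⟨y', hy'⟩ := hy
        exact ⟨x' * y', by rw [map_mul, map_mul, hx', hy']⟩
    intro x
    have := key (E x) (by rw [hs]; trivial)
    rwa [AlgEquiv.symm_apply_apply] at this

theorem exists_opens_locallyOfFiniteType {R A B : CommRingCat.{u}} (f : R ⟶ A) (g : A ⟶ B)
    (hg : g.hom.Smooth) (hfg : (f ≫ g).hom.FiniteType) :
    ∃ U : (Spec A).Opens, Set.range (Spec.map g) ⊆ U ∧
      LocallyOfFiniteType (U.ι ≫ Spec.map f) := by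
  algebraize [f.hom, g.hom, (f ≫ g).hom]
  have : IsScalarTower R A B := IsScalarTower.of_algebraMap_eq' rfl
  obtain ⟨A₁, _, _, _, _, B₁, _, _, hft, hsm, hbij, ⟨E⟩⟩ := exists_model_bijective R A B
  let φ : Spec A ⟶ Spec (.of A₁) := Spec.map (CommRingCat.ofHom (algebraMap A₁ A))
  let ψ : Spec (.of B₁) ⟶ Spec (.of A₁) := Spec.map (CommRingCat.ofHom (algebraMap A₁ B₁))
  have sq := isPullback_SpecMap_of_isPushout _ _ _ _ (CommRingCat.isPushout_tensorProduct A₁ A B₁)
  have hψ : Smooth ψ := by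
    rw [HasRingHomProperty.Spec_iff (P := @Smooth)]
    exact RingHom.smooth_algebraMap.mpr hsm
  have hiso : IsIso (Spec.map (CommRingCat.ofHom (S := A ⊗[A₁] B₁)
      (Algebra.TensorProduct.includeRight : B₁ →ₐ[A₁] A ⊗[A₁] B₁).toRingHom)) := by
    rw [isIso_SpecMap_iff]
    exact hbij
  let U₁ : (Spec (.of A₁)).Opens := ⟨Set.range ψ, ψ.isOpenMap.isOpen_range⟩
  have key := isIso_morphismRestrict_of_isPullback φ ψ _ _ sq U₁ rfl
  refine ⟨φ ⁻¹ᵁ U₁, ?_, ?_⟩
  · rintro _ ⟨q, rfl⟩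
    have hg' : g = CommRingCat.ofHom (S := A ⊗[A₁] B₁) Algebra.TensorProduct.includeLeftRingHom ≫
        CommRingCat.ofHom E.toRingHom := by
      ext a
      exact (E.commutes a).symm
    show φ (Spec.map g q) ∈ Set.range ψ
    rw [hg', Spec.map_comp, Scheme.Hom.comp_apply, ← Scheme.Hom.comp_apply _ φ, sq.w,
      Scheme.Hom.comp_apply]
    exact ⟨_, rfl⟩
  · have hf' : f = CommRingCat.ofHom (algebraMap R A₁) ≫ CommRingCat.ofHom (algebraMap A₁ A) := by
      ext r
      exact IsScalarTower.algebraMap_apply R A₁ A r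
    have h1 : LocallyOfFiniteType (Spec.map (CommRingCat.ofHom (algebraMap R A₁))) := by
      rw [HasRingHomProperty.Spec_iff (P := @LocallyOfFiniteType)]
      exact RingHom.finiteType_algebraMap.mpr hft
    have h2 : (φ ⁻¹ᵁ U₁).ι ≫ Spec.map f =
        (φ ∣_ U₁) ≫ U₁.ι ≫ Spec.map (CommRingCat.ofHom (algebraMap R A₁)) := by
      rw [hf', Spec.map_comp, ← Category.assoc, ← Category.assoc, morphismRestrict_ι]
    rw [h2]
    infer_instance

theorem locallyOfFiniteType_of_comp_smooth_surjective {W U V : Scheme.{u}} (c : W ⟶ U) (h : U ⟶ V)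
    [Smooth c] [Surjective c] [LocallyOfFiniteType (c ≫ h)] : LocallyOfFiniteType h := by
  have : RespectsRight @LocallyOfFiniteType @IsOpenImmersion :=
    ⟨fun i (_ : IsOpenImmersion i) f (_ : LocallyOfFiniteType f) =>
      (inferInstance : LocallyOfFiniteType (f ≫ i))⟩
  refine (IsZariskiLocalAtSource.iff_exists_resLE (P := @LocallyOfFiniteType)).mpr fun u => ?_
  obtain ⟨w, rfl⟩ := c.surjective u
  obtain ⟨V₀, hV₀, hv, -⟩ := TopologicalSpace.Opens.isBasis_iff_nbhd.mp V.isBasis_affineOpens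
    (TopologicalSpace.Opens.mem_top (h (c w)))
  obtain ⟨U₀, hU₀, hu, eU⟩ := TopologicalSpace.Opens.isBasis_iff_nbhd.mp U.isBasis_affineOpens
    (show c w ∈ h ⁻¹ᵁ V₀ from hv)
  obtain ⟨W₀, hW₀, hw, eW⟩ := TopologicalSpace.Opens.isBasis_iff_nbhd.mp W.isBasis_affineOpens
    (show w ∈ c ⁻¹ᵁ U₀ from hu)
  replace hV₀ : IsAffineOpen V₀ := hV₀
  replace hU₀ : IsAffineOpen U₀ := hU₀
  replace hW₀ : IsAffineOpen W₀ := hW₀
  have hg : (c.appLE U₀ W₀ eW).hom.Smooth :=
    HasRingHomProperty.appLE (P := @Smooth) c inferInstance ⟨U₀, hU₀⟩ ⟨W₀, hW₀⟩ eW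
  have hfg : (h.appLE V₀ U₀ eU ≫ c.appLE U₀ W₀ eW).hom.FiniteType := by
    rw [Scheme.Hom.appLE_comp_appLE]
    exact HasRingHomProperty.appLE (P := @LocallyOfFiniteType) (c ≫ h) inferInstance
      ⟨V₀, hV₀⟩ ⟨W₀, hW₀⟩ _
  obtain ⟨Ũ, hŨ1, hŨ2⟩ := exists_opens_locallyOfFiniteType _ _ hg hfg
  let U' : U.Opens := hU₀.fromSpec ''ᵁ Ũ
  have hU'le : U' ≤ U₀ := by
    rintro _ ⟨x, -, rfl⟩
    show hU₀.fromSpec x ∈ (U₀ : Set U)
    rw [← hU₀.range_fromSpec]
    exact ⟨x, rfl⟩
  refine ⟨V₀, U', ?_, hU'le.trans eU, ?_⟩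
  · obtain ⟨y, hy⟩ : w ∈ Set.range hW₀.fromSpec := by rw [hW₀.range_fromSpec]; exact hw
    refine ⟨Spec.map (c.appLE U₀ W₀ eW) y, hŨ1 ⟨y, rfl⟩, ?_⟩
    show hU₀.fromSpec (Spec.map (c.appLE U₀ W₀ eW) y) = c w
    rw [← Scheme.Hom.comp_apply, IsAffineOpen.SpecMap_appLE_fromSpec c hU₀ hW₀ eW,
      Scheme.Hom.comp_apply, hy]
  · apply of_comp_mono @LocallyOfFiniteType _ (Scheme.Opens.ι V₀)
    rw [Scheme.Hom.resLE_comp_ι]
    have e1 : U'.ι ≫ h = (hU₀.fromSpec.isoImage Ũ).inv ≫
        (Ũ.ι ≫ Spec.map (h.appLE V₀ U₀ eU)) ≫ hV₀.fromSpec := by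
      rw [Category.assoc, IsAffineOpen.SpecMap_appLE_fromSpec h hV₀ hU₀ eU, ← Category.assoc,
        ← Category.assoc, Category.assoc _ Ũ.ι, Scheme.Hom.isoImage_inv_ι]
    rw [e1]
    infer_instance

end Groth.Agent.Lib.SchSrcLocal_helper7
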