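import Groth.Agent.Lib.AlgSpIso_helper7
import Groth.Agent.Lib.SchSrcLocal_helper7

/-!
# `LocP P` for `P` étale local on the source-and-target: one chart suffices, base change,
composition (helper7)
-/

set_option autoImplicit false
universe u
open CategoryTheory CategoryTheory.Limits AlgebraicGeometry Opposite MorphismProperty
open AlgSp Groth.Agent.Lib.AlgSpQC2_helper7 Groth.Agent.Lib.AlgSpPoints_helper7
  Groth.Agent.Lib.AlgSpQC_helper7 Groth.Agent.Lib.AlgSpDiag_helper7 Groth.Agent.Lib.AlgSpTop_helper7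
  Groth.Agent.Lib.AlgSpPullback_helper7 Groth.Agent.Lib.AlgSpSep_helper7
  Groth.Agent.Lib.AlgSpLocP_helper7 Groth.Agent.Lib.AlgSpUniv_helper7
  Groth.Agent.Lib.AlgSpFpqc_helper7 Groth.Agent.Lib.AlgSpFpqc2_helper7
  Groth.Agent.Lib.AlgSpDescent_helper7 Groth.Agent.Lib.AlgSpEtale_helper7
  Groth.Agent.Lib.AlgSpLocP2_helper7 Groth.Agent.Lib.AlgSpEpi_helper7
  Groth.Agent.Lib.SchSrcLocal_helper7

namespace Groth.Agent.Lib.AlgSpLocP4_helper7

variable {S : Scheme.{u}}

/-- Hypotheses making a property of morphisms of schemes étale local on the source-and-target. -/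
structure EtLocal (P : MorphismProperty Scheme.{u}) : Prop where
  precomp : ∀ ⦃W U V : Scheme.{u}⦄ (c : W ⟶ U) (h : U ⟶ V), Etale c → P h → P (c ≫ h)
  postcomp : ∀ ⦃U V V' : Scheme.{u}⦄ (h : U ⟶ V) (e : V ⟶ V'), Etale e → P h → P (h ≫ e)
  src : ∀ ⦃W U V : Scheme.{u}⦄ (c : W ⟶ U) (h : U ⟶ V), Etale c → Surjective c → P (c ≫ h) → P h

theorem EtLocal.cancel {P : MorphismProperty Scheme.{u}} [P.IsStableUnderBaseChange]
    (hP : EtLocal P) {A B C : Scheme.{u}} (k : A ⟶ B) (q : B ⟶ C) (hq : Etale q)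
    (hkq : P (k ≫ q)) : P k := by
  let s : A ⟶ pullback (k ≫ q) q := pullback.lift (𝟙 A) k (by simp)
  have hs1 : s ≫ pullback.fst (k ≫ q) q = 𝟙 A := pullback.lift_fst _ _ _
  have hs2 : s ≫ pullback.snd (k ≫ q) q = k := pullback.lift_snd _ _ _
  have hse : Etale s := by
    have h1 : Etale (s ≫ pullback.fst (k ≫ q) q) := by rw [hs1]; infer_instance
    exact MorphismProperty.of_postcomp (W := @Etale) (W' := @Etale) s (pullback.fst (k ≫ q) q)
      inferInstance h1
  rw [← hs2]
  exact hP.precomp _ _ hse (P.pullback_snd _ _ hkq)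

/-- One chart suffices: if `P` is étale local on the source-and-target and `P` holds for one chart
diagram of `f` whose source chart is surjective, then `LocP P f`. -/
theorem locP_of_one_chart {P : MorphismProperty Scheme.{u}} [P.IsStableUnderBaseChange]
    (hP : EtLocal P) {X Y : Sp S} (f : X ⟶ Y) {U V : Over S} (a : (yon S).obj U ⟶ X)
    (b : (yon S).obj V ⟶ Y) (h : U ⟶ V) (hae : RepWith @Etale a) (has : RepWith @Surjective a)
    (hbe : RepWith @Etale b) (comm : a ≫ f = (yon S).map h ≫ b) (hh : P h.left) : LocP P f := by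
  intro U' V' a' b' h' hae' hbe' comm'
  -- the fibre product of the source charts
  let U'' := hae.rep.pullback a'
  let p' : U'' ⟶ U' := hae.rep.snd a'
  let p : U'' ⟶ U := hae.rep.fst' a'
  have sqU : IsPullback ((yon S).map p) ((yon S).map p') a a' := hae.rep.isPullback' _
  have hp'e : Etale p'.left := hae.property_snd _
  have hp's : Surjective p'.left := has.property _ _ _ (hae.rep.isPullback _)
  have hpe : Etale p.left := (repWith_yon_map_iff _ _).1 (repWith_fst_of_isPullback _ sqU hae')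
  -- the fibre product of the target charts
  let V'' := hbe.rep.pullback b'
  let q' : V'' ⟶ V' := hbe.rep.snd b'
  let q : V'' ⟶ V := hbe.rep.fst' b'
  have sqV : IsPullback ((yon S).map q) ((yon S).map q') b b' := hbe.rep.isPullback' _
  have hq'e : Etale q'.left := hbe.property_snd _
  have hqe : Etale q.left := (repWith_yon_map_iff _ _).1 (repWith_fst_of_isPullback _ sqV hbe')
  -- the induced morphism
  have hk : (yon S).map (p ≫ h) ≫ b = (yon S).map (p' ≫ h') ≫ b' := by
    rw [Functor.map_comp, Functor.map_comp, Category.assoc, Category.assoc, ← comm, ← comm',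
      ← Category.assoc, ← Category.assoc, sqU.w]
  obtain ⟨k, hk'⟩ := (yon S).map_surjective (sqV.lift _ _ hk)
  have hk1 : k ≫ q = p ≫ h := (yon S).map_injective (by
    rw [Functor.map_comp, hk', sqV.lift_fst])
  have hk2 : k ≫ q' = p' ≫ h' := (yon S).map_injective (by
    rw [Functor.map_comp, hk', sqV.lift_snd])
  have h1 : P (k.left ≫ q.left) := by
    rw [← Over.comp_left, hk1, Over.comp_left]
    exact hP.precomp _ _ hpe hh
  have h2 : P k.left := hP.cancel _ _ hqe h1
  have h3 : P (p'.left ≫ h'.left) := by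
    rw [← Over.comp_left, ← hk2, Over.comp_left]
    exact hP.postcomp _ _ hq'e h2
  exact hP.src _ _ hp'e hp's h3

theorem etLocal_flat : EtLocal (@Flat : MorphismProperty Scheme.{u}) where
  precomp := fun _ _ _ c h (_ : Etale c) (_ : Flat h) => (inferInstance : Flat (c ≫ h))
  postcomp := fun _ _ _ h e (_ : Etale e) (_ : Flat h) => (inferInstance : Flat (h ≫ e))
  src := fun _ _ _ c h (_ : Etale c) (_ : Surjective c) (_ : Flat (c ≫ h)) =>
    flat_of_comp_surjective c h

theorem etLocal_locallyOfFiniteType : EtLocal (@LocallyOfFiniteType : MorphismProperty Scheme.{u}) where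
  precomp := fun _ _ _ c h (_ : Etale c) (_ : LocallyOfFiniteType h) =>
    (inferInstance : LocallyOfFiniteType (c ≫ h))
  postcomp := fun _ _ _ h e (_ : Etale e) (_ : LocallyOfFiniteType h) =>
    (inferInstance : LocallyOfFiniteType (h ≫ e))
  src := fun _ _ _ c h (_ : Etale c) (_ : Surjective c) (_ : LocallyOfFiniteType (c ≫ h)) =>
    locallyOfFiniteType_of_comp_smooth_surjective c h

/-- Restriction of `LocP P f` to an étale chart of the target. -/
theorem locP_restrict_chart {P : MorphismProperty Scheme.{u}} {X Y : Sp S} (f : X ⟶ Y) {V : Over S}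
    (q : (yon S).obj V ⟶ Y) (hqe : RepWith @Etale q) {Q : Sp S} (fst : Q ⟶ X)
    (snd : Q ⟶ (yon S).obj V) (sq : IsPullback fst snd f q) (hf : LocP P f) : LocP P snd := by
  intro U' V' a' b' h' hae' hbe' comm'
  have hfst : RepWith @Etale fst := repWith_fst_of_isPullback _ sq hqe
  refine hf (a' ≫ fst) (b' ≫ q) h' (repWith_comp _ hae' hfst) (repWith_comp _ hbe' hqe) ?_
  rw [Category.assoc, sq.w, ← Category.assoc, comm', Category.assoc]

/-- Base change of `LocP P f`, for `f` with target a scheme, along a morphism of schemes. -/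
theorem locP_baseChange_scheme {P : MorphismProperty Scheme.{u}} [P.IsStableUnderBaseChange]
    (hP : EtLocal P) {X : Sp S} (hX : IsAlgSpace X) {V V' : Over S} (f : X ⟶ (yon S).obj V)
    (l : V' ⟶ V) {X' : Sp S} (fst : X' ⟶ X) (snd : X' ⟶ (yon S).obj V')
    (sq : IsPullback fst snd f ((yon S).map l)) (hf : LocP P f) : LocP P snd := by
  obtain ⟨U, u, hue, hus⟩ := hX.atlas
  obtain ⟨k, hk⟩ := (yon S).map_surjective (u ≫ f)
  have hPk : P k.left := hf u (𝟙 _) k hue (repWith_id _ V) (by rw [hk, Category.comp_id])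
  have sqO := IsPullback.of_hasPullback k l
  have sqU' : IsPullback (pullback.fst k l).left (pullback.snd k l).left k.left l.left :=
    sqO.map (Over.forget S)
  have hPh' : P (pullback.snd k l).left := P.of_isPullback sqU' hPk
  have sqY : IsPullback ((yon S).map (pullback.fst k l)) ((yon S).map (pullback.snd k l))
      ((yon S).map k) ((yon S).map l) := sqO.map (yon S)
  let a' : (yon S).obj (pullback k l) ⟶ X' :=
    sq.lift ((yon S).map (pullback.fst k l) ≫ u) ((yon S).map (pullback.snd k l)) (by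
      rw [Category.assoc, ← hk, sqY.w])
  have ha'1 : a' ≫ fst = (yon S).map (pullback.fst k l) ≫ u := sq.lift_fst _ _ _
  have ha'2 : a' ≫ snd = (yon S).map (pullback.snd k l) := sq.lift_snd _ _ _
  have sqL : IsPullback a' ((yon S).map (pullback.fst k l)) fst u := by
    refine IsPullback.of_right (h₁₂ := snd) (h₂₂ := f) ?_ ha'1 sq.flip
    rw [ha'2, ← hk]
    exact sqY.flip
  have ha'e : RepWith @Etale a' := repWith_fst_of_isPullback _ sqL hue
  have ha's : RepWith @Surjective a' := repWith_fst_of_isPullback _ sqL hus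
  exact locP_of_one_chart hP snd a' (𝟙 _) (pullback.snd k l) ha'e ha's (repWith_id _ V')
    (by rw [ha'2, Category.comp_id]) hPh'

/-- `LocP P` can be checked after base change to a surjective étale chart of the target. -/
theorem locP_of_target_chart {P : MorphismProperty Scheme.{u}} [P.IsStableUnderBaseChange]
    (hP : EtLocal P) {X Y : Sp S} (f : X ⟶ Y) {V : Over S} (q : (yon S).obj V ⟶ Y)
    (hqe : RepWith @Etale q) (hqs : RepWith @Surjective q) {Q : Sp S} (fst : Q ⟶ X)
    (snd : Q ⟶ (yon S).obj V) (sq : IsPullback fst snd f q) (hQ : IsAlgSpace Q)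
    (h : LocP P snd) : LocP P f := by
  obtain ⟨U, u, hue, hus⟩ := hQ.atlas
  obtain ⟨k, hk⟩ := (yon S).map_surjective (u ≫ snd)
  have hPk : P k.left := h u (𝟙 _) k hue (repWith_id _ V) (by rw [hk, Category.comp_id])
  have hfe : RepWith @Etale fst := repWith_fst_of_isPullback _ sq hqe
  have hfs : RepWith @Surjective fst := repWith_fst_of_isPullback _ sq hqs
  exact locP_of_one_chart hP f (u ≫ fst) q k (repWith_comp _ hue hfe) (repWith_comp _ hus hfs) hqe
    (by rw [Category.assoc, sq.w, ← Category.assoc, hk]) hPk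

/-- `LocP P` is stable under base change (for `P` étale local on source-and-target). -/
theorem locP_baseChange {P : MorphismProperty Scheme.{u}} [P.IsStableUnderBaseChange]
    (hP : EtLocal P) {X Y Y' X' : Sp S} (hX : IsAlgSpace X) (hY : IsAlgSpace Y)
    (hY' : IsAlgSpace Y') (f : X ⟶ Y) (g : Y' ⟶ Y) (fst : X' ⟶ X) (snd : X' ⟶ Y')
    (sq : IsPullback fst snd f g) (hf : LocP P f) : LocP P snd := by
  obtain ⟨V, q, hqe, hqs⟩ := hY.atlas
  have sqXV := IsPullback.of_hasPullback f q
  have hXV : IsAlgSpace (pullback f q) :=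
    isAlgSpace_of_isPullback hY.diag hX (IsAlgSpace.yon_obj V) sqXV
  have h1 : LocP P (pullback.snd f q) := locP_restrict_chart f q hqe _ _ sqXV hf
  have sqYV := IsPullback.of_hasPullback g q
  have hYV : IsAlgSpace (pullback g q) :=
    isAlgSpace_of_isPullback hY.diag hY' (IsAlgSpace.yon_obj V) sqYV
  obtain ⟨V', v', hv'e, hv's⟩ := hYV.atlas
  have hb'e : RepWith @Etale (v' ≫ pullback.fst g q) :=
    repWith_comp _ hv'e (repWith_fst_of_isPullback _ sqYV hqe)
  have hb's : RepWith @Surjective (v' ≫ pullback.fst g q) :=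
    repWith_comp _ hv's (repWith_fst_of_isPullback _ sqYV hqs)
  obtain ⟨l, hl⟩ := (yon S).map_surjective (v' ≫ pullback.snd g q)
  have hbl : (v' ≫ pullback.fst g q) ≫ g = (yon S).map l ≫ q := by
    rw [hl, Category.assoc, Category.assoc, pullback.condition]
  have sqT := IsPullback.of_hasPullback (pullback.snd f q) ((yon S).map l)
  have h2 : LocP P (pullback.snd (pullback.snd f q) ((yon S).map l)) :=
    locP_baseChange_scheme hP hXV (pullback.snd f q) l _ _ sqT h1
  have hT : IsAlgSpace (pullback (pullback.snd f q) ((yon S).map l)) :=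
    isAlgSpace_of_isPullback (IsAlgSpace.yon_obj V).diag hXV (IsAlgSpace.yon_obj V') sqT
  have big := sqT.paste_horiz sqXV
  rw [← hbl] at big
  let τ : pullback (pullback.snd f q) ((yon S).map l) ⟶ X' :=
    sq.lift (pullback.fst _ _ ≫ pullback.fst f q) (pullback.snd _ _ ≫ v' ≫ pullback.fst g q)
      (by rw [Category.assoc]; exact big.w)
  have hτ1 : τ ≫ fst = pullback.fst _ _ ≫ pullback.fst f q := sq.lift_fst _ _ _
  have hτ2 : τ ≫ snd = pullback.snd _ _ ≫ v' ≫ pullback.fst g q := sq.lift_snd _ _ _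
  have sqτ : IsPullback τ (pullback.snd (pullback.snd f q) ((yon S).map l)) snd
      (v' ≫ pullback.fst g q) := by
    refine IsPullback.of_right (h₁₂ := fst) (h₂₂ := g) ?_ hτ2 sq
    rw [hτ1]
    exact big
  exact locP_of_target_chart hP snd _ hb'e hb's τ _ sqτ hT h2

/-- `LocP P` is stable under composition (for `P` étale local on source-and-target). -/
theorem locP_comp {P : MorphismProperty Scheme.{u}} [P.IsStableUnderBaseChange]
    [P.IsStableUnderComposition] (hP : EtLocal P) {X Y Z : Sp S} (hX : IsAlgSpace X)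
    (hY : IsAlgSpace Y) (hZ : IsAlgSpace Z) (f : X ⟶ Y) (g : Y ⟶ Z) (hf : LocP P f)
    (hg : LocP P g) : LocP P (f ≫ g) := by
  obtain ⟨W, c, hce, hcs⟩ := hZ.atlas
  have sqY := IsPullback.of_hasPullback g c
  have hYW : IsAlgSpace (pullback g c) :=
    isAlgSpace_of_isPullback hZ.diag hY (IsAlgSpace.yon_obj W) sqY
  obtain ⟨V, v, hve, hvs⟩ := hYW.atlas
  have hbe : RepWith @Etale (v ≫ pullback.fst g c) :=
    repWith_comp _ hve (repWith_fst_of_isPullback _ sqY hce)
  have hbs : RepWith @Surjective (v ≫ pullback.fst g c) :=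
    repWith_comp _ hvs (repWith_fst_of_isPullback _ sqY hcs)
  obtain ⟨m, hm⟩ := (yon S).map_surjective (v ≫ pullback.snd g c)
  have hPm : P m.left := hg _ c m hbe hce (by
    rw [hm, Category.assoc, Category.assoc, pullback.condition])
  have sqX := IsPullback.of_hasPullback f (v ≫ pullback.fst g c)
  have hXV : IsAlgSpace (pullback f (v ≫ pullback.fst g c)) :=
    isAlgSpace_of_isPullback hY.diag hX (IsAlgSpace.yon_obj V) sqX
  obtain ⟨U, u, hue, hus⟩ := hXV.atlas
  have hae : RepWith @Etale (u ≫ pullback.fst f (v ≫ pullback.fst g c)) :=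
    repWith_comp _ hue (repWith_fst_of_isPullback _ sqX hbe)
  have has : RepWith @Surjective (u ≫ pullback.fst f (v ≫ pullback.fst g c)) :=
    repWith_comp _ hus (repWith_fst_of_isPullback _ sqX hbs)
  obtain ⟨h, hh⟩ := (yon S).map_surjective (u ≫ pullback.snd f (v ≫ pullback.fst g c))
  have hPh : P h.left := hf _ _ h hae hbe (by
    rw [hh, Category.assoc, Category.assoc, pullback.condition])
  refine locP_of_one_chart hP (f ≫ g) _ c (h ≫ m) hae has hce ?_ ?_
  · have e1 := pullback.condition (f := f) (g := v ≫ pullback.fst g c)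
    have e2 := pullback.condition (f := g) (g := c)
    rw [Functor.map_comp, hh, hm]
    simp only [Category.assoc]
    rw [← e2, reassoc_of% e1]
  · rw [Over.comp_left]
    exact P.comp_mem _ _ hPh hPm

/-- `LocP P` can be checked after precomposition with a surjective étale chart of the source. -/
theorem locP_of_source_chart {P : MorphismProperty Scheme.{u}} [P.IsStableUnderBaseChange]
    (hP : EtLocal P) {X Y : Sp S} (hY : IsAlgSpace Y) (f : X ⟶ Y) {U : Over S}
    (φ : (yon S).obj U ⟶ X) (hφe : RepWith @Etale φ) (hφs : RepWith @Surjective φ)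
    (h : LocP P (φ ≫ f)) : LocP P f := by
  obtain ⟨V, q, hqe, hqs⟩ := hY.atlas
  have sq := IsPullback.of_hasPullback (φ ≫ f) q
  have hQ : IsAlgSpace (pullback (φ ≫ f) q) :=
    isAlgSpace_of_isPullback hY.diag (IsAlgSpace.yon_obj U) (IsAlgSpace.yon_obj V) sq
  obtain ⟨U', u, hue, hus⟩ := hQ.atlas
  have h1e : RepWith @Etale (u ≫ pullback.fst (φ ≫ f) q) :=
    repWith_comp _ hue (repWith_fst_of_isPullback _ sq hqe)
  have h1s : RepWith @Surjective (u ≫ pullback.fst (φ ≫ f) q) :=
    repWith_comp _ hus (repWith_fst_of_isPullback _ sq hqs)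
  obtain ⟨k, hk⟩ := (yon S).map_surjective (u ≫ pullback.snd (φ ≫ f) q)
  have hc : (u ≫ pullback.fst (φ ≫ f) q) ≫ φ ≫ f = (yon S).map k ≫ q := by
    rw [hk, Category.assoc, Category.assoc, pullback.condition]
  have hPk : P k.left := h _ q k h1e hqe hc
  exact locP_of_one_chart hP f ((u ≫ pullback.fst (φ ≫ f) q) ≫ φ) q k (repWith_comp _ h1e hφe)
    (repWith_comp _ h1s hφs) hqe (by rw [Category.assoc]; exact hc) hPk

theorem isQuasiCompactMor_comp {X Y Z : Sp S} (hY : IsAlgSpace Y) (hZ : Representable (Limits.diag Z))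
    (f : X ⟶ Y) (g : Y ⟶ Z) (hf : IsQuasiCompactMor f) (hg : IsQuasiCompactMor g) :
    IsQuasiCompactMor (f ≫ g) := by
  intro T T' hT hqc t fst snd sq
  have sqY := IsPullback.of_hasPullback g t
  have hTY : IsAlgSpace (pullback g t) := isAlgSpace_of_isPullback hZ hY hT sqY
  have hqcY : IsQuasiCompactSp (pullback g t) := hg hT hqc t _ _ sqY
  let r : T' ⟶ pullback g t := sqY.lift (fst ≫ f) snd (by rw [Category.assoc]; exact sq.w)
  have hr1 : r ≫ pullback.fst g t = fst ≫ f := sqY.lift_fst _ _ _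
  have hr2 : r ≫ pullback.snd g t = snd := sqY.lift_snd _ _ _
  have sq' : IsPullback fst r f (pullback.fst g t) := by
    refine IsPullback.of_bot ?_ hr1.symm sqY
    rw [hr2]
    exact sq
  exact hf hTY hqcY _ _ _ sq'

theorem isFiniteTypeMor_of_isPullback {X Y Y' X' : Sp S} (hX : IsAlgSpace X) (hY : IsAlgSpace Y)
    (hY' : IsAlgSpace Y') {f : X ⟶ Y} {g : Y' ⟶ Y} {fst : X' ⟶ X} {snd : X' ⟶ Y'}
    (sq : IsPullback fst snd f g) (hf : IsFiniteTypeMor f) : IsFiniteTypeMor snd :=
  ⟨locP_baseChange etLocal_locallyOfFiniteType hX hY hY' f g fst snd sq hf.1,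
    isQuasiCompactMor_of_isPullback sq hf.2⟩

theorem isFiniteTypeMor_comp {X Y Z : Sp S} (hX : IsAlgSpace X) (hY : IsAlgSpace Y)
    (hZ : IsAlgSpace Z) (f : X ⟶ Y) (g : Y ⟶ Z) (hf : IsFiniteTypeMor f) (hg : IsFiniteTypeMor g) :
    IsFiniteTypeMor (f ≫ g) :=
  ⟨locP_comp etLocal_locallyOfFiniteType hX hY hZ f g hf.1 hg.1,
    isQuasiCompactMor_comp hY hZ.diag f g hf.2 hg.2⟩

theorem isProperMor_of_isPullback {X Y Y' X' : Sp S} (hX : IsAlgSpace X) (hY : IsAlgSpace Y)
    (hY' : IsAlgSpace Y') {f : X ⟶ Y} {g : Y' ⟶ Y} {fst : X' ⟶ X} {snd : X' ⟶ Y'}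
    (sq : IsPullback fst snd f g) (hf : IsProperMor f) : IsProperMor snd :=
  ⟨repWith_diagonal_of_isPullback _ sq hf.1, isFiniteTypeMor_of_isPullback hX hY hY' sq hf.2.1,
    univSp_of_isPullback _ sq hf.2.2⟩

theorem isProperMor_comp {X Y Z : Sp S} (hX : IsAlgSpace X) (hY : IsAlgSpace Y)
    (hZ : IsAlgSpace Z) (f : X ⟶ Y) (g : Y ⟶ Z) (hf : IsProperMor f) (hg : IsProperMor g) :
    IsProperMor (f ≫ g) :=
  ⟨isSeparatedMor_comp f g hf.1 hg.1, isFiniteTypeMor_comp hX hY hZ f g hf.2.1 hg.2.1,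
    Groth.Agent.Lib.AlgSpProper_helper7.univSp_comp _ hY hZ.diag f g hf.2.2 hg.2.2⟩

end Groth.Agent.Lib.AlgSpLocP4_helper7
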