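import Groth.Agent.Lib.AlgSpCodim0_helper6
import Mathlib.Topology.LocallyClosed
import Mathlib.AlgebraicGeometry.Morphisms.Immersion

/-!
# Topological descent of embeddings along étale charts; codimension 0 points are dense (helper6)
-/

set_option autoImplicit false
universe u
open CategoryTheory CategoryTheory.Limits AlgebraicGeometry Opposite TopologicalSpace Topology

namespace Groth.Agent.Lib.AlgSpEmbed_helper6

open AlgSp Groth.Agent.Lib.AlgSpPoints_helper7 Groth.Agent.Lib.AlgSpQC_helper7
  Groth.Agent.Lib.AlgSpPullback_helper7 Groth.Agent.Lib.AlgSpBasic_helper7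
  Groth.Agent.Lib.AlgSpEtale_helper7 Groth.Agent.Lib.AlgSpCodim0_helper6

/-- in a quasi-sober `T0` space every point has a generization without nontrivial generizations -/
theorem exists_minimal_generization {α : Type*} [TopologicalSpace α] [QuasiSober α] [T0Space α]
    (u : α) : ∃ ξ : α, ξ ⤳ u ∧ ∀ ξ' : α, ξ' ⤳ ξ → ξ' = ξ := by
  have hirr : IsIrreducible (irreducibleComponent u) := isIrreducible_irreducibleComponent
  have hcl : IsClosed (irreducibleComponent u) := isClosed_irreducibleComponent
  obtain ⟨ξ, hξ⟩ := QuasiSober.sober hirr hcl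
  refine ⟨ξ, ?_, ?_⟩
  · rw [specializes_iff_mem_closure, hξ.def]; exact mem_irreducibleComponent
  · intro ξ' h
    have h1 : closure ({ξ} : Set α) ⊆ closure {ξ'} :=
      closure_minimal (Set.singleton_subset_iff.2 (specializes_iff_mem_closure.1 h)) isClosed_closure
    have hirr' : IsIrreducible (closure ({ξ'} : Set α)) := isIrreducible_singleton.closure
    have h2 : irreducibleComponent u ⊆ closure {ξ'} := by rw [← hξ.def]; exact h1
    have h3 : closure ({ξ'} : Set α) = irreducibleComponent u :=
      eq_irreducibleComponent hirr'.isPreirreducible h2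
    have h4 : ξ ⤳ ξ' := by
      rw [specializes_iff_mem_closure, hξ.def, ← h3]
      exact subset_closure (Set.mem_singleton ξ')
    exact (h.antisymm h4).eq

/-- descent of "inducing" along a square with open surjective vertical maps that is cartesian on
points -/
theorem isInducing_of_square {V U Z X : Type*} [TopologicalSpace V] [TopologicalSpace U]
    [TopologicalSpace Z] [TopologicalSpace X] {ι : V → U} {q : V → Z} {p : U → X} {i : Z → X}
    (hι : IsInducing ι) (hq : Continuous q) (hqs : Function.Surjective q)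
    (hp : IsOpenMap p) (hi : Continuous i) (comm : ∀ v, i (q v) = p (ι v))
    (cart : ∀ z u, i z = p u → ∃ v, q v = z ∧ ι v = u) : IsInducing i := by
  refine ⟨le_antisymm hi.le_induced ?_⟩
  rw [TopologicalSpace.le_def]
  intro O hO
  have hO' : IsOpen O := hO
  obtain ⟨G, hG, hGe⟩ := hι.isOpen_iff.1 (hO'.preimage hq)
  rw [isOpen_induced_iff]
  refine ⟨p '' G, hp G hG, ?_⟩
  ext z
  constructor
  · rintro ⟨g, hg, hgz⟩
    obtain ⟨v, hv1, hv2⟩ := cart z g hgz.symm
    have : v ∈ ι ⁻¹' G := by rw [Set.mem_preimage, hv2]; exact hg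
    rw [hGe] at this
    rw [← hv1]; exact this
  · intro hz
    obtain ⟨v, rfl⟩ := hqs z
    have : v ∈ ι ⁻¹' G := by rw [hGe]; exact hz
    exact ⟨ι v, this, (comm v).symm⟩

/-- locally closed subsets descend along open continuous surjections -/
theorem isLocallyClosed_of_preimage {U X : Type*} [TopologicalSpace U] [TopologicalSpace X]
    {p : U → X} (hp : IsOpenMap p) (hc : Continuous p) (hs : Function.Surjective p) {A : Set X}
    (hA : IsLocallyClosed (p ⁻¹' A)) : IsLocallyClosed A := by
  rw [isLocallyClosed_iff_isOpen_coborder] at hA ⊢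
  rw [coborder_preimage hp hc] at hA
  have hq : IsQuotientMap p := hp.isQuotientMap hc hs
  exact hq.isOpen_preimage.1 hA

variable {S : Scheme.{u}}

/-- points of a chart of a pullback square -/
theorem exists_of_isPullback_chart {F G : Sp S} {V U : Over S} {q : (yon S).obj V ⟶ F} {ι : V ⟶ U}
    {f : F ⟶ G} {p : (yon S).obj U ⟶ G} (sq : IsPullback q ((yon S).map ι) f p) (z : Points F)
    (u : ↥U.left) (h : Points.map f z = Points.ofPt p u) :
    ∃ v : ↥V.left, Points.ofPt q v = z ∧ ι.left v = u := by
  rw [Points.ofPt_eq_map_ofScheme] at h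
  obtain ⟨w, hw1, hw2⟩ := exists_of_isPullback sq _ _ h
  obtain ⟨v, rfl⟩ := (Points.schemeEquiv V).surjective w
  refine ⟨v, ?_, ?_⟩
  · rw [Points.ofPt_eq_map_ofScheme]; exact hw1
  · apply (Points.schemeEquiv U).injective
    change Points.ofScheme U _ = Points.ofScheme U _
    rw [← hw2]
    change _ = Points.map _ (Points.ofScheme V v)
    rw [← Points.ofPt_eq_map_ofScheme, ofPt_yon_map]

/-- an immersion of algebraic spaces is a topological embedding with locally closed image -/
theorem isEmbedding_map_of_immersion {Z X : Sp S} (hX : IsAlgSpace X) (i : Z ⟶ X)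
    (hi : RepWith @IsImmersion i) :
    IsEmbedding (Points.map i) ∧ IsLocallyClosed (Set.range (Points.map i)) := by
  obtain ⟨U, p, hpe, hps⟩ := hX.atlas
  have R := hi.rep
  let q := R.fst p
  let ι := R.snd p
  have sq : IsPullback q ((yon S).map ι) i p := R.isPullback p
  haveI hι : IsImmersion ι.left := hi.property_snd p
  have hqe : RepWith @Etale q := repWith_fst_of_isPullback _ sq hpe
  have hqs : RepWith @Surjective q := repWith_fst_of_isPullback _ sq hps
  have comm : ∀ v, Points.map i (Points.ofPt q v) = Points.ofPt p (ι.left v) := by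
    intro v
    rw [Points.map_ofPt, sq.w, ofPt_comp]
  have cart : ∀ (z : Points Z) (u : ↥U.left), Points.map i z = Points.ofPt p u →
      ∃ v, Points.ofPt q v = z ∧ ι.left v = u :=
    fun z u h => exists_of_isPullback_chart sq z u h
  have hind : IsInducing (Points.map i) :=
    isInducing_of_square (ι := ι.left) (q := Points.ofPt q) (p := Points.ofPt p)
      ι.left.isEmbedding.isInducing (Points.continuous_ofPt _) (ofPt_surjective _ hqs)
      (isOpenMap_ofPt_of_etale p hpe) (Points.continuous_map i) comm cart
  have hinj : Function.Injective (Points.map i) := by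
    intro z z' h
    obtain ⟨v, rfl⟩ := ofPt_surjective _ hqs z
    obtain ⟨v', rfl⟩ := ofPt_surjective _ hqs z'
    rw [comm v] at h
    obtain ⟨v'', h1, h2⟩ := cart _ _ h.symm
    have : v'' = v := ι.left.isEmbedding.injective h2
    rw [← h1, this]
  refine ⟨⟨hind, hinj⟩, ?_⟩
  apply isLocallyClosed_of_preimage (isOpenMap_ofPt_of_etale p hpe) (Points.continuous_ofPt p)
    (ofPt_surjective p hps)
  have : Points.ofPt p ⁻¹' Set.range (Points.map i) = Set.range ι.left := by
    ext u
    constructor
    · rintro ⟨z, hz⟩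
      obtain ⟨v, -, hv⟩ := cart z u hz
      exact ⟨v, hv⟩
    · rintro ⟨v, rfl⟩
      exact ⟨_, comm v⟩
  rw [this]
  exact ι.left.isLocallyClosed_range

/-- codimension 0 points are dense -/
theorem dense_codimZero {X : Sp S} (hX : IsAlgSpace X) :
    Dense {x : Points X | HasAt (fun U u => ringKrullDim ↥(U.presheaf.stalk u) = 0) X x} := by
  rw [dense_iff_inter_open]
  rintro W hW ⟨x, hx⟩
  obtain ⟨U, p, hpe, hps⟩ := hX.atlas
  obtain ⟨u, rfl⟩ := ofPt_surjective p hps x
  obtain ⟨ξ, hξu, hmin⟩ := exists_minimal_generization u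
  refine ⟨Points.ofPt p ξ, ?_, U, p, ξ, hpe, rfl, (ringKrullDim_stalk_eq_zero_iff ξ).2 hmin⟩
  have : ξ ∈ Points.ofPt p ⁻¹' W := hξu.mem_open (hW.preimage (Points.continuous_ofPt p)) hx
  exact this

end Groth.Agent.Lib.AlgSpEmbed_helper6
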