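import Groth.Agent.Lib.PTrace_helper6

/-!
# Quotient of an affine scheme by a finite étale equivalence relation: the algebra (helper6)

`A` is the ring of `U`, `B` the ring of `R ⇉ U` (an `A`-algebra through the first projection `s`,
`t : A →+* B` the second projection), `D` the ring of the triple product.  Under the hypotheses
`Hyp`, for the ring of invariants `C = {a | s a = t a}` we show that `A` is a finitely generated
projective `C`-module, that `A ⊗[C] A ≅ B`, and that `Spec A → Spec C` is surjective.
-/

set_option autoImplicit false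
universe u

namespace Groth.Agent.Lib.EtQuotAlgH6

open TensorProduct CategoryTheory CategoryTheory.Limits Groth.Agent.Lib.PTraceH6

/-- Base change of the trace along a categorical pushout square of commutative rings. -/
theorem atr_isPushout_hom {A A' B D : Type u} [CommRing A] [CommRing A'] [CommRing B] [CommRing D]
    [Algebra A B] [Algebra A' D] (g : A →+* A') (j₂ : B →+* D)
    (hpo : IsPushout (CommRingCat.ofHom g) (CommRingCat.ofHom (algebraMap A B))
      (CommRingCat.ofHom (algebraMap A' D)) (CommRingCat.ofHom j₂))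
    (hB : HasSplit A B) (b : B) : atr A' D (j₂ b) = g (atr A B b) := by
  letI := g.toAlgebra
  letI : Algebra B D := j₂.toAlgebra
  letI : Algebra A D := ((algebraMap A' D).comp g).toAlgebra
  haveI : IsScalarTower A A' D := IsScalarTower.of_algebraMap_eq' rfl
  have hw : (algebraMap A' D).comp g = j₂.comp (algebraMap A B) := by
    have := congrArg CommRingCat.Hom.hom hpo.w
    simpa using this
  haveI : IsScalarTower A B D := IsScalarTower.of_algebraMap_eq' hw
  haveI : Algebra.IsPushout A A' B D := CommRingCat.isPushout_iff_isPushout.mp hpo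
  exact atr_isPushout hB b

theorem exists_fin_tmul {R M N : Type*} [CommRing R] [AddCommGroup M] [AddCommGroup N] [Module R M]
    [Module R N] (z : M ⊗[R] N) :
    ∃ (n : ℕ) (x : Fin n → M) (y : Fin n → N), z = ∑ i, x i ⊗ₜ[R] y i := by
  induction z using TensorProduct.induction_on with
  | zero => exact ⟨0, Fin.elim0, Fin.elim0, by simp⟩
  | tmul a b => exact ⟨1, fun _ => a, fun _ => b, by simp⟩
  | add z w hz hw =>
    obtain ⟨n, x, y, rfl⟩ := hz
    obtain ⟨m, x', y', rfl⟩ := hw
    refine ⟨n + m, Fin.append x x', Fin.append y y', ?_⟩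
    rw [Fin.sum_univ_add]
    simp [Fin.append_left, Fin.append_right]

section Main

variable {A B D : Type u} [CommRing A] [CommRing B] [CommRing D] [Algebra A B] [Algebra B D]

/-- The hypotheses: `algebraMap A B` is the first projection `s`, `t` the second, `e` the diagonal,
`σ` the swap, `algebraMap B D`, `p13`, `p23` the three projections from the triple product. -/
structure Hyp (t : A →+* B) (e : B →+* A) (σ : B →+* B) (p13 p23 : B →+* D) : Prop where
  e_s : ∀ a, e (algebraMap A B a) = a
  e_t : ∀ a, e (t a) = a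
  σ_s : ∀ a, σ (algebraMap A B a) = t a
  σ_t : ∀ a, σ (t a) = algebraMap A B a
  e_σ : ∀ b, e (σ b) = e b
  σ_σ : ∀ b, σ (σ b) = b
  p3 : ∀ a, p13 (t a) = p23 (t a)
  po1 : IsPushout (CommRingCat.ofHom (algebraMap A B)) (CommRingCat.ofHom (algebraMap A B))
    (CommRingCat.ofHom (algebraMap B D)) (CommRingCat.ofHom p13)
  po2 : IsPushout (CommRingCat.ofHom t) (CommRingCat.ofHom (algebraMap A B))
    (CommRingCat.ofHom (algebraMap B D)) (CommRingCat.ofHom p23)
  epi : ∀ (Q : Type u) [CommRing Q] (f g : B →+* Q),
    f.comp (algebraMap A B) = g.comp (algebraMap A B) → f.comp t = g.comp t → f = g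

variable {t : A →+* B} {e : B →+* A} {σ : B →+* B} {p13 p23 : B →+* D}
variable [Module.Finite A B] [Module.Projective A B] [Algebra.FormallyUnramified A B]
  [Algebra.FinitePresentation A B]

/-- The trace of `t a` is invariant. -/
theorem Hyp.tau_mem (H : Hyp t e σ p13 p23) (a : A) :
    algebraMap A B (atr A B (t a)) = t (atr A B (t a)) := by
  have hB : HasSplit A B := hasSplit_of_finite_projective A B
  have h1 := atr_isPushout_hom (algebraMap A B) p13 H.po1 hB (t a)
  have h2 := atr_isPushout_hom t p23 H.po2 hB (t a)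
  rw [← h1, ← h2, H.p3]

/-- The idempotent cutting out the diagonal. -/
theorem Hyp.exists_idem (H : Hyp t e σ p13 p23) :
    ∃ ε : B, e ε = 1 ∧ (∀ x, e x = 0 → ε * x = 0) := by
  letI : Algebra B A := e.toAlgebra
  haveI : IsScalarTower A B A := IsScalarTower.of_algebraMap_eq' (by
    ext a
    exact (H.e_s a).symm)
  have hsurj : Function.Surjective (algebraMap B A) := fun a => ⟨algebraMap A B a, H.e_s a⟩
  haveI : Algebra.FormallyEtale B A := Algebra.FormallyEtale.of_restrictScalars (R := A)
  have hidem : IsIdempotentElem (RingHom.ker (algebraMap B A)) :=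
    (Algebra.FormallyEtale.iff_of_surjective hsurj).mp inferInstance
  have hfg : (RingHom.ker (algebraMap B A)).FG := by
    have := Algebra.FinitePresentation.ker_fG_of_surjective (IsScalarTower.toAlgHom A B A) hsurj
    exact this
  obtain ⟨ε₀, hε₀, hker⟩ := (Ideal.isIdempotentElem_iff_of_fg _ hfg).mp hidem
  have hε₀mem : e ε₀ = 0 := by
    have : ε₀ ∈ RingHom.ker (algebraMap B A) := by
      rw [hker]; exact Ideal.mem_span_singleton_self ε₀
    exact this
  refine ⟨1 - ε₀, by rw [map_sub, map_one, hε₀mem, sub_zero], fun x hx => ?_⟩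
  have hx' : x ∈ RingHom.ker (algebraMap B A) := hx
  rw [hker, Ideal.mem_span_singleton'] at hx'
  obtain ⟨c, rfl⟩ := hx'
  have : ε₀ * ε₀ = ε₀ := hε₀
  calc (1 - ε₀) * (c * ε₀) = c * (ε₀ - ε₀ * ε₀) := by ring
    _ = 0 := by rw [this, sub_self, mul_zero]

/-- `B` is spanned by the products `s x * t y`. -/
theorem Hyp.exists_repr (H : Hyp t e σ p13 p23) (b : B) :
    ∃ (n : ℕ) (x y : Fin n → A), b = ∑ i, algebraMap A B (x i) * t (y i) := by
  let m : A ⊗[ℤ] A →ₐ[ℤ] B :=
    Algebra.TensorProduct.productMap (algebraMap A B).toIntAlgHom t.toIntAlgHom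
  have hm : ∀ x y, m (x ⊗ₜ y) = algebraMap A B x * t y := fun x y => by
    simp [m]
  have hfin : (m : A ⊗[ℤ] A →+* B).Finite := by
    apply RingHom.Finite.of_comp_finite (f := (Algebra.TensorProduct.includeLeftRingHom :
      A →+* A ⊗[ℤ] A))
    have : (m : A ⊗[ℤ] A →+* B).comp Algebra.TensorProduct.includeLeftRingHom =
        algebraMap A B := by
      ext a
      simp [hm]
    rw [this]
    exact RingHom.finite_algebraMap.mpr inferInstance
  haveI : Epi (CommRingCat.ofHom (m : A ⊗[ℤ] A →+* B)) := by
    constructor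
    intro Q f g hfg
    have hfg' : f.hom.comp (m : A ⊗[ℤ] A →+* B) = g.hom.comp (m : A ⊗[ℤ] A →+* B) := by
      have := congrArg CommRingCat.Hom.hom hfg
      simpa using this
    have h1 : f.hom.comp (algebraMap A B) = g.hom.comp (algebraMap A B) := by
      ext a
      have := RingHom.congr_fun hfg' (a ⊗ₜ 1)
      simpa [hm] using this
    have h2 : f.hom.comp t = g.hom.comp t := by
      ext a
      have := RingHom.congr_fun hfg' (1 ⊗ₜ a)
      simpa [hm] using this
    ext1
    exact H.epi Q f.hom g.hom h1 h2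
  have hsurj := RingHom.surjective_of_epi_of_finite
    (CommRingCat.ofHom (m : A ⊗[ℤ] A →+* B)) hfin
  obtain ⟨z, hz⟩ := hsurj b
  obtain ⟨n, x, y, rfl⟩ := exists_fin_tmul z
  refine ⟨n, x, y, ?_⟩
  rw [← hz]
  change (m : A ⊗[ℤ] A →+* B) _ = _
  rw [map_sum]
  exact Finset.sum_congr rfl fun i _ => hm _ _

/-- `tr (ε b) = e b`. -/
theorem Hyp.atr_idem_mul (H : Hyp t e σ p13 p23) {ε : B} (h1 : e ε = 1)
    (h2 : ∀ x, e x = 0 → ε * x = 0) (b : B) : atr A B (ε * b) = e b := by
  have hB : HasSplit A B := hasSplit_of_finite_projective A B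
  let α : A →ₗ[A] B :=
    { toFun := fun a => algebraMap A B a * ε
      map_add' := fun a a' => by rw [map_add, add_mul]
      map_smul' := fun c a => by
        simp only [smul_eq_mul, map_mul, RingHom.id_apply, Algebra.smul_def, mul_assoc] }
  let β : B →ₗ[A] A :=
    { toFun := fun x => e (b * x)
      map_add' := fun x y => by rw [mul_add, map_add]
      map_smul' := fun c x => by
        simp only [RingHom.id_apply, smul_eq_mul]
        rw [Algebra.smul_def, ← mul_assoc, mul_comm b, mul_assoc, map_mul, H.e_s] }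
  have hαβ : LinearMap.mulLeft A (ε * b) = α ∘ₗ β := by
    refine LinearMap.ext fun x => ?_
    simp only [LinearMap.mulLeft_apply, LinearMap.coe_comp, Function.comp_apply, α, β,
      LinearMap.coe_mk, AddHom.coe_mk]
    have hk : e (b * x - algebraMap A B (e (b * x))) = 0 := by
      rw [map_sub, H.e_s, sub_self]
    have := h2 _ hk
    rw [mul_sub, sub_eq_zero] at this
    rw [mul_assoc, this, mul_comm]
  unfold atr
  rw [hαβ, ptrace_comp_comm hB hasSplit_self, ptrace_self]
  simp only [LinearMap.coe_comp, Function.comp_apply, α, β, LinearMap.coe_mk, AddHom.coe_mk,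
    map_one, one_mul]
  rw [map_mul, h1, mul_one]

/-- The dual basis identities. -/
theorem Hyp.exists_dual (H : Hyp t e σ p13 p23) :
    ∃ (n : ℕ) (x y : Fin n → A),
      (∀ a, a = ∑ i, x i * atr A B (t (y i * a))) ∧
      (∀ a, a = ∑ i, atr A B (t (a * x i)) * y i) := by
  obtain ⟨ε, h1, h2⟩ := H.exists_idem
  obtain ⟨n, x, y, hxy⟩ := H.exists_repr ε
  have hσε : σ ε = ε := by
    -- `σ ε` has the same two properties as `ε`
    have h1' : e (σ ε) = 1 := by rw [H.e_σ, h1]
    have h2' : ∀ z, e z = 0 → σ ε * z = 0 := fun z hz => by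
      have : e (σ z) = 0 := by rw [H.e_σ, hz]
      have := h2 _ this
      have h3 := congrArg σ this
      rwa [map_mul, H.σ_σ, map_zero] at h3
    have ha : ε * (1 - σ ε) = 0 := h2 _ (by rw [map_sub, map_one, h1', sub_self])
    have hb : σ ε * (1 - ε) = 0 := h2' _ (by rw [map_sub, map_one, h1, sub_self])
    have ha' : ε = ε * σ ε := by
      have := ha; rw [mul_sub, mul_one, sub_eq_zero] at this; exact this
    have hb' : σ ε = σ ε * ε := by
      have := hb; rw [mul_sub, mul_one, sub_eq_zero] at this; exact this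
    rw [hb', mul_comm, ← ha']
  have hxy' : ε = ∑ i, t (x i) * algebraMap A B (y i) := by
    have := congrArg σ hxy
    rw [hσε, map_sum] at this
    rw [this]
    exact Finset.sum_congr rfl fun i _ => by rw [map_mul, H.σ_s, H.σ_t]
  refine ⟨n, x, y, fun a => ?_, fun a => ?_⟩
  · have h3 := H.atr_idem_mul h1 h2 (t a)
    rw [H.e_t] at h3
    calc a = atr A B (ε * t a) := h3.symm
      _ = atr A B (∑ i, algebraMap A B (x i) * t (y i) * t a) := by
        rw [← Finset.sum_mul, ← hxy]
      _ = ∑ i, atr A B (algebraMap A B (x i) * t (y i) * t a) := atr_sum _ _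
      _ = ∑ i, x i * atr A B (t (y i * a)) := by
        refine Finset.sum_congr rfl fun i _ => ?_
        rw [mul_assoc, atr_algebraMap_mul, map_mul]
  · have h3 := H.atr_idem_mul h1 h2 (t a)
    rw [H.e_t] at h3
    calc a = atr A B (ε * t a) := h3.symm
      _ = atr A B (∑ i, t (x i) * algebraMap A B (y i) * t a) := by
        rw [← Finset.sum_mul, ← hxy']
      _ = ∑ i, atr A B (t (x i) * algebraMap A B (y i) * t a) := atr_sum _ _
      _ = ∑ i, atr A B (t (a * x i)) * y i := by
        refine Finset.sum_congr rfl fun i _ => ?_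
        rw [mul_comm (t (x i)), mul_assoc, atr_algebraMap_mul, map_mul, mul_comm,
          mul_comm (t a)]

variable (t) in
/-- The ring of invariants. -/
abbrev invts : Subring A := RingHom.eqLocus (algebraMap A B) t

theorem Hyp.tau_mem' (H : Hyp t e σ p13 p23) (a : A) : atr A B (t a) ∈ invts t :=
  H.tau_mem a

/-- The trace as a linear map to the invariants. -/
noncomputable def Hyp.tauL (H : Hyp t e σ p13 p23) : A →ₗ[invts t] invts t where
  toFun a := ⟨atr A B (t a), H.tau_mem' a⟩
  map_add' a a' := by
    apply Subtype.ext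
    simp only [map_add, atr_add, Subring.coe_add]
  map_smul' c a := by
    apply Subtype.ext
    have hc : algebraMap A B c = t c := c.2
    simp only [RingHom.id_apply, Subring.smul_def, smul_eq_mul, map_mul, Subring.coe_mul]
    rw [← hc, atr_algebraMap_mul]

theorem Hyp.tauL_coe (H : Hyp t e σ p13 p23) (a : A) : (H.tauL a : A) = atr A B (t a) := rfl

/-- `A` is a retract of a finite free module over the invariants. -/
theorem Hyp.hasSplit_invts (H : Hyp t e σ p13 p23) : HasSplit (invts t) A := by
  obtain ⟨n, x, y, h1, -⟩ := H.exists_dual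
  let ι : A →ₗ[invts t] (Fin n → invts t) :=
    LinearMap.pi fun i => H.tauL ∘ₗ (LinearMap.mulLeft (invts t) (y i))
  let π : (Fin n → invts t) →ₗ[invts t] A :=
    ∑ i, (LinearMap.toSpanSingleton (invts t) A (x i)) ∘ₗ (LinearMap.proj i)
  refine ⟨n, ι, π, ?_⟩
  refine LinearMap.ext fun a => ?_
  have hπι : π (ι a) = ∑ i, atr A B (t (y i * a)) * x i := by
    simp only [π, ι, LinearMap.sum_apply, LinearMap.coe_comp, Function.comp_apply,
      LinearMap.toSpanSingleton_apply, LinearMap.proj_apply,
      LinearMap.pi_apply, LinearMap.mulLeft_apply, Subring.smul_def, smul_eq_mul, H.tauL_coe]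
  rw [LinearMap.comp_apply, hπι, LinearMap.id_apply]
  conv_rhs => rw [h1 a]
  exact Finset.sum_congr rfl fun i _ => mul_comm _ _

theorem Hyp.finite_invts (H : Hyp t e σ p13 p23) : Module.Finite (invts t) A :=
  H.hasSplit_invts.finite

theorem Hyp.projective_invts (H : Hyp t e σ p13 p23) : Module.Projective (invts t) A :=
  H.hasSplit_invts.projective

/-- `Spec A → Spec C` is surjective. -/
theorem Hyp.comap_surjective (H : Hyp t e σ p13 p23) :
    Function.Surjective (PrimeSpectrum.comap (invts t).subtype) := by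
  haveI := H.finite_invts
  haveI : Algebra.IsIntegral (invts t) A := Algebra.IsIntegral.of_finite _ _
  intro p
  obtain ⟨Q, hQ, hQp⟩ := Ideal.exists_ideal_over_prime_of_isIntegral p.asIdeal (⊥ : Ideal A) (by
    rw [Ideal.comap_bot_of_injective _ Subtype.val_injective]
    exact bot_le)
  exact ⟨⟨Q, hQp.1⟩, PrimeSpectrum.ext hQp.2⟩

/-- The comparison `A ⊗[C] A → B` is bijective, in the form of a pushout square. -/
theorem Hyp.isPushout_invts (H : Hyp t e σ p13 p23) :
    IsPushout (CommRingCat.ofHom (invts t).subtype) (CommRingCat.ofHom (invts t).subtype)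
      (CommRingCat.ofHom (algebraMap A B)) (CommRingCat.ofHom t) := by
  letI : Algebra (invts t) B := ((algebraMap A B).comp (invts t).subtype).toAlgebra
  let sC : A →ₐ[invts t] B := { (algebraMap A B) with commutes' := fun c => rfl }
  let tC : A →ₐ[invts t] B := { t with commutes' := fun c => (c.2 : algebraMap A B c = t c).symm }
  let φ : A ⊗[invts t] A →ₐ[invts t] B := Algebra.TensorProduct.productMap sC tC
  have hφ : ∀ a a', φ (a ⊗ₜ a') = algebraMap A B a * t a' := fun a a' => by
    simp [φ, sC, tC]
  obtain ⟨n, x, y, -, h2⟩ := H.exists_dual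
  -- surjectivity
  have hsurj : Function.Surjective φ := fun b => by
    obtain ⟨k, x', y', rfl⟩ := H.exists_repr b
    refine ⟨∑ i, x' i ⊗ₜ y' i, ?_⟩
    rw [map_sum]
    exact Finset.sum_congr rfl fun i _ => hφ _ _
  -- injectivity through an additive retraction
  let ψ : B →+ A ⊗[invts t] A :=
    { toFun := fun b => ∑ i, atr A B (b * t (x i)) ⊗ₜ[invts t] y i
      map_zero' := by
        simp only [zero_mul]
        have : atr A B (0 : B) = 0 := by
          have := atr_add (A := A) (0 : B) 0
          rw [add_zero] at this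
          exact left_eq_add.mp this
        simp [this]
      map_add' := fun b b' => by
        rw [← Finset.sum_add_distrib]
        refine Finset.sum_congr rfl fun i _ => ?_
        rw [add_mul, atr_add, add_tmul] }
  have hψφ : ∀ z, ψ (φ z) = z := fun z => by
    induction z using TensorProduct.induction_on with
    | zero => simp
    | tmul a a' =>
      rw [hφ]
      change ∑ i, atr A B (algebraMap A B a * t a' * t (x i)) ⊗ₜ[invts t] y i = _
      have : ∀ i, atr A B (algebraMap A B a * t a' * t (x i)) ⊗ₜ[invts t] y i =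
          a ⊗ₜ[invts t] (atr A B (t (a' * x i)) * y i) := fun i => by
        rw [mul_assoc, atr_algebraMap_mul, ← map_mul]
        have hc : a * atr A B (t (a' * x i)) = (H.tauL (a' * x i)) • a := by
          rw [Subring.smul_def, smul_eq_mul, H.tauL_coe, mul_comm]
        have hc' : atr A B (t (a' * x i)) * y i = (H.tauL (a' * x i)) • y i := by
          rw [Subring.smul_def, smul_eq_mul, H.tauL_coe]
        rw [hc, hc', TensorProduct.smul_tmul]
      rw [Finset.sum_congr rfl fun i _ => this i, ← TensorProduct.tmul_sum, ← h2 a']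
    | add z w hz hw => rw [map_add, map_add, hz, hw]
  have hinj : Function.Injective φ := fun z w hzw => by
    rw [← hψφ z, ← hψφ w, hzw]
  let Φ : A ⊗[invts t] A ≃+* B := RingEquiv.ofBijective (φ : A ⊗[invts t] A →+* B) ⟨hinj, hsurj⟩
  refine (CommRingCat.isPushout_tensorProduct (invts t) A A).of_iso (Iso.refl _) (Iso.refl _)
    (Iso.refl _) Φ.toCommRingCatIso ?_ ?_ ?_ ?_
  · simp
    rfl
  · simp
    rfl
  · ext a
    simp [Φ, hφ]
  · ext a
    simp [Φ, hφ]

end Main

end Groth.Agent.Lib.EtQuotAlgH6
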