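import Mathlib
import Groth.Agent.Lib.EtQuotAlg_helper6
import Groth.Agent.Lib.AlgSpEpi_helper7
import Groth.Agent.Lib.AlgSpBasic_helper7

/-!
# Quotient of an affine scheme by a finite étale equivalence relation (helper6)

If `U` is an affine scheme over `S` (mapping into an affine open of `S`), and `a : h_U ⟶ X` is
an epimorphism of fppf sheaves which is representable, finite and étale, then `X` is
representable by an affine scheme (the spectrum of the ring of invariants).
-/

set_option autoImplicit false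
universe u
open CategoryTheory CategoryTheory.Limits AlgebraicGeometry Opposite

namespace Groth.Agent.Lib.AlgSpFEtQuotH6

open AlgSp Groth.Agent.Lib.EtQuotAlgH6

variable {S : Scheme.{u}}

/-- Two epimorphisms of sheaves with the same kernel pair have isomorphic targets. -/
theorem exists_iso_of_kernelPair {P X Y Z : Sp S} (a : P ⟶ X) (b : P ⟶ Y) [Epi a] [Epi b]
    {p₁ p₂ : Z ⟶ P} (ka : IsPullback p₁ p₂ a a) (kb : IsPullback p₁ p₂ b b) :
    ∃ e : Y ≅ X, b ≫ e.hom = a := by
  haveI : IsRegularEpi a := IsRegularEpiCategory.regularEpiOfEpi a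
  haveI : IsRegularEpi b := IsRegularEpiCategory.regularEpiOfEpi b
  obtain ⟨g, hg⟩ := IsRegularEpi.exists_of_isKernelPair a ka b kb.w
  obtain ⟨h, hh⟩ := IsRegularEpi.exists_of_isKernelPair b kb a ka.w
  refine ⟨⟨h, g, ?_, ?_⟩, hh⟩
  · rw [← cancel_epi b, ← Category.assoc, hh, hg, Category.comp_id]
  · rw [← cancel_epi a, ← Category.assoc, hg, hh, Category.comp_id]

section KP

variable {X : Sp S} {U R : Over S} {a : (yon S).obj U ⟶ X} {s t : R ⟶ U}

theorem kp_lift (kp : IsPullback ((yon S).map s) ((yon S).map t) a a) {W : Over S} (f g : W ⟶ U)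
    (h : (yon S).map f ≫ a = (yon S).map g ≫ a) : ∃ k : W ⟶ R, k ≫ s = f ∧ k ≫ t = g := by
  obtain ⟨k, hk⟩ := (yon S).map_surjective (kp.lift _ _ h)
  refine ⟨k, (yon S).map_injective ?_, (yon S).map_injective ?_⟩
  · rw [Functor.map_comp, hk, kp.lift_fst]
  · rw [Functor.map_comp, hk, kp.lift_snd]

theorem kp_ext (kp : IsPullback ((yon S).map s) ((yon S).map t) a a) {W : Over S} (k k' : W ⟶ R)
    (h1 : k ≫ s = k' ≫ s) (h2 : k ≫ t = k' ≫ t) : k = k' := by
  apply (yon S).map_injective
  apply kp.hom_ext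
  · rw [← Functor.map_comp, ← Functor.map_comp, h1]
  · rw [← Functor.map_comp, ← Functor.map_comp, h2]

theorem kp_rel (kp : IsPullback ((yon S).map s) ((yon S).map t) a a) {W : Over S} (k : W ⟶ R) :
    (yon S).map (k ≫ s) ≫ a = (yon S).map (k ≫ t) ≫ a := by
  rw [Functor.map_comp, Functor.map_comp, Category.assoc, Category.assoc, kp.w]

/-- The third projection from the triple product, and the second pullback square. -/
theorem kp_triple (kp : IsPullback ((yon S).map s) ((yon S).map t) a a) :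
    ∃ p23 : pullback s s ⟶ R, p23 ≫ s = pullback.fst s s ≫ t ∧
      p23 ≫ t = pullback.snd s s ≫ t ∧ IsPullback (pullback.fst s s) p23 t s := by
  have hrel : (yon S).map (pullback.fst s s ≫ t) ≫ a = (yon S).map (pullback.snd s s ≫ t) ≫ a := by
    rw [← kp_rel kp (pullback.fst s s), pullback.condition, kp_rel kp (pullback.snd s s)]
  obtain ⟨p23, h1, h2⟩ := kp_lift kp _ _ hrel
  refine ⟨p23, h1, h2, ?_⟩
  have huniq : ∀ {W : Over S} (m m' : W ⟶ pullback s s),
      m ≫ pullback.fst s s = m' ≫ pullback.fst s s → m ≫ p23 = m' ≫ p23 → m = m' := by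
    intro W m m' e1 e2
    refine pullback.hom_ext e1 (kp_ext kp _ _ ?_ ?_)
    · rw [Category.assoc, Category.assoc, ← pullback.condition, ← Category.assoc, e1,
        Category.assoc]
    · rw [Category.assoc, Category.assoc, ← h2, ← Category.assoc, e2, Category.assoc]
  have hex : ∀ c : PullbackCone t s, ∃ h : c.pt ⟶ pullback s s,
      h ≫ pullback.fst s s = c.fst ∧ h ≫ p23 = c.snd := by
    intro c
    have hr : (yon S).map (c.fst ≫ s) ≫ a = (yon S).map (c.snd ≫ t) ≫ a := by
      rw [kp_rel kp c.fst, c.condition, kp_rel kp c.snd]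
    obtain ⟨k, hk1, hk2⟩ := kp_lift kp _ _ hr
    refine ⟨pullback.lift c.fst k hk1.symm, pullback.lift_fst _ _ _, kp_ext kp _ _ ?_ ?_⟩
    · rw [Category.assoc, h1, ← Category.assoc, pullback.lift_fst, c.condition]
    · rw [Category.assoc, h2, ← Category.assoc, pullback.lift_snd, hk2]
  choose l hl1 hl2 using hex
  refine ⟨⟨by rw [h1]⟩, ⟨PullbackCone.IsLimit.mk _ l hl1 hl2 (fun c m e1 e2 =>
    huniq m (l c) (e1.trans (hl1 c).symm) (e2.trans (hl2 c).symm))⟩⟩

end KP

section SchemeLevel

variable {U₀ R₀ T₀ : Scheme.{u}}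

/-- The quotient of an affine scheme by a finite étale equivalence relation (with the groupoid
structure and the triple product given explicitly). -/
theorem exists_quotient_of_affine [IsAffine U₀] (s t : R₀ ⟶ U₀) [IsFinite s] [Etale s]
    (e : U₀ ⟶ R₀) (σ : R₀ ⟶ R₀) (p12 p13 p23 : T₀ ⟶ R₀)
    (hes : e ≫ s = 𝟙 _) (het : e ≫ t = 𝟙 _) (hσs : σ ≫ s = t) (hσt : σ ≫ t = s)
    (heσ : e ≫ σ = e) (hσσ : σ ≫ σ = 𝟙 _) (hp3 : p13 ≫ t = p23 ≫ t)
    (sq1 : IsPullback p12 p13 s s) (sq2 : IsPullback p12 p23 t s)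
    (hmono : ∀ {W : Scheme.{u}} (k k' : W ⟶ R₀), k ≫ s = k' ≫ s → k ≫ t = k' ≫ t → k = k') :
    ∃ (C : CommRingCat.{u}) (q₀ : U₀ ⟶ Spec C), IsPullback s t q₀ q₀ ∧ Surjective q₀ ∧
      Flat q₀ ∧ LocallyOfFinitePresentation q₀ ∧ IsFinite q₀ ∧
      ∀ {Λ : CommRingCat.{u}} (h₀ : U₀ ⟶ Spec Λ), s ≫ h₀ = t ≫ h₀ →
        ∃ ψ : Λ ⟶ C, q₀ ≫ Spec.map ψ = h₀ := by
  haveI : IsAffine R₀ := isAffine_of_isAffineHom s
  letI algAB : Algebra Γ(U₀, ⊤) Γ(R₀, ⊤) := s.appTop.hom.toAlgebra
  letI algBD : Algebra Γ(R₀, ⊤) Γ(T₀, ⊤) := p12.appTop.hom.toAlgebra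
  have hfin : s.appTop.hom.Finite := s.finite_appTop
  haveI : Module.Finite Γ(U₀, ⊤) Γ(R₀, ⊤) := hfin
  have hetale : s.appTop.hom.Etale := (HasRingHomProperty.iff_of_isAffine (P := @Etale)).mp ‹_›
  haveI : Algebra.Etale Γ(U₀, ⊤) Γ(R₀, ⊤) := hetale
  haveI : Algebra.FinitePresentation Γ(U₀, ⊤) Γ(R₀, ⊤) := inferInstance
  haveI : Algebra.FormallyUnramified Γ(U₀, ⊤) Γ(R₀, ⊤) := inferInstance
  haveI : Module.FinitePresentation Γ(U₀, ⊤) Γ(R₀, ⊤) :=
    Module.FinitePresentation.of_finite_of_finitePresentation _ _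
  haveI : Module.Flat Γ(U₀, ⊤) Γ(R₀, ⊤) := inferInstance
  haveI : Module.Projective Γ(U₀, ⊤) Γ(R₀, ⊤) := Module.Flat.projective_of_finitePresentation
  have H : Hyp t.appTop.hom e.appTop.hom σ.appTop.hom p13.appTop.hom p23.appTop.hom := by
    refine ⟨?_, ?_, ?_, ?_, ?_, ?_, ?_, ?_, ?_, ?_⟩
    · intro x
      have := congrArg (fun f => f.appTop.hom x) hes
      simp at this
      exact this
    · intro x
      have := congrArg (fun f => f.appTop.hom x) het
      simpa using this
    · intro x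
      have := congrArg (fun f => f.appTop.hom x) hσs
      simp at this
      exact this
    · intro x
      have := congrArg (fun f => f.appTop.hom x) hσt
      simp at this
      exact this
    · intro x
      have := congrArg (fun f => f.appTop.hom x) heσ
      simpa using this
    · intro x
      have := congrArg (fun f => f.appTop.hom x) hσσ
      simpa using this
    · intro x
      have := congrArg (fun f => f.appTop.hom x) hp3
      simpa using this
    · exact isPushout_appTop_of_isPullback sq1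
    · exact isPushout_appTop_of_isPullback sq2
    · intro Q _ f g h1 h2
      have key : Spec.map (CommRingCat.ofHom f) ≫ R₀.isoSpec.inv =
          Spec.map (CommRingCat.ofHom g) ≫ R₀.isoSpec.inv := by
        apply hmono
        · rw [Category.assoc, Category.assoc, ← Scheme.isoSpec_inv_naturality,
            ← Category.assoc, ← Category.assoc, ← Spec.map_comp, ← Spec.map_comp]
          congr 2
          ext x
          exact congrArg (fun φ => φ x) h1
        · rw [Category.assoc, Category.assoc, ← Scheme.isoSpec_inv_naturality,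
            ← Category.assoc, ← Category.assoc, ← Spec.map_comp, ← Spec.map_comp]
          congr 2
          ext x
          exact congrArg (fun φ => φ x) h2
      have key2 : Spec.map (CommRingCat.ofHom f) = Spec.map (CommRingCat.ofHom g) :=
        (cancel_mono R₀.isoSpec.inv).mp key
      have key3 := Spec.map_injective key2
      ext x
      exact congrArg (fun φ => φ.hom x) key3
  let C : Subring Γ(U₀, ⊤) := invts t.appTop.hom
  let ιC : CommRingCat.of C ⟶ Γ(U₀, ⊤) := CommRingCat.ofHom C.subtype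
  have hpb : IsPullback (Spec.map s.appTop) (Spec.map t.appTop) (Spec.map ιC) (Spec.map ιC) :=
    isPullback_SpecMap_of_isPushout _ _ _ _ H.isPushout_invts
  haveI hCfin : Module.Finite C Γ(U₀, ⊤) := H.finite_invts
  haveI hCproj : Module.Projective C Γ(U₀, ⊤) := H.projective_invts
  have hιfin : ιC.hom.Finite := RingHom.finite_algebraMap.mpr hCfin
  have hιflat : ιC.hom.Flat := RingHom.flat_algebraMap_iff.mpr inferInstance
  have hιfp : ιC.hom.FinitePresentation := by
    haveI : Module.FinitePresentation C Γ(U₀, ⊤) := Module.finitePresentation_of_projective _ _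
    exact RingHom.finitePresentation_algebraMap.mpr inferInstance
  haveI : Surjective (Spec.map ιC) := ⟨H.comap_surjective⟩
  haveI : Flat (Spec.map ιC) := Flat.SpecMap_iff.mpr hιflat
  haveI : LocallyOfFinitePresentation (Spec.map ιC) :=
    (HasRingHomProperty.Spec_iff (P := @LocallyOfFinitePresentation)).mpr hιfp
  haveI : IsFinite (Spec.map ιC) := (IsFinite.SpecMap_iff _).mpr hιfin
  refine ⟨CommRingCat.of C, U₀.isoSpec.hom ≫ Spec.map ιC, ?_, inferInstance, inferInstance,
    inferInstance, inferInstance, ?_⟩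
  · refine hpb.of_iso R₀.isoSpec.symm U₀.isoSpec.symm U₀.isoSpec.symm (Iso.refl _) ?_ ?_ ?_ ?_
    · exact Scheme.isoSpec_inv_naturality s
    · exact Scheme.isoSpec_inv_naturality t
    · simp
    · simp
  · intro Λ h₀ hst
    let φ₀ : Λ ⟶ Γ(U₀, ⊤) := (Scheme.ΓSpecIso Λ).inv ≫ h₀.appTop
    have hmem : ∀ x, φ₀.hom x ∈ C := by
      intro x
      change s.appTop.hom (φ₀.hom x) = t.appTop.hom (φ₀.hom x)
      have := congrArg (fun f => f.appTop.hom ((Scheme.ΓSpecIso Λ).inv.hom x)) hst
      simpa [φ₀] using this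
    refine ⟨CommRingCat.ofHom (φ₀.hom.codRestrict C hmem), ?_⟩
    have e1 : CommRingCat.ofHom (φ₀.hom.codRestrict C hmem) ≫ ιC = φ₀ := by
      ext x
      rfl
    rw [Category.assoc, ← Spec.map_comp, e1, Spec.map_comp, ← Category.assoc,
      Scheme.isoSpec_hom_naturality, Category.assoc, Scheme.isoSpec_Spec_hom, ← Spec.map_comp,
      Iso.inv_hom_id, Spec.map_id, Category.comp_id]

end SchemeLevel

/-- Main theorem, with the kernel pair given. -/
theorem exists_affine_quotient_aux {X : Sp S} {U R : Over S} [IsAffine U.left]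
    (a : (yon S).obj U ⟶ X) [Epi a] (s t : R ⟶ U)
    (kp : IsPullback ((yon S).map s) ((yon S).map t) a a)
    (hsf : IsFinite s.left) (hse : Etale s.left)
    {Λ : CommRingCat.{u}} (i : Spec Λ ⟶ S) [Mono i] (h₀ : U.left ⟶ Spec Λ)
    (hh : h₀ ≫ i = U.hom) :
    ∃ (M : Over S) (q : U ⟶ M) (e : (yon S).obj M ≅ X), IsAffine M.left ∧ IsFinite q.left ∧
      Flat q.left ∧ (yon S).map q ≫ e.hom = a := by
  obtain ⟨e, hes, het⟩ := kp_lift kp (𝟙 U) (𝟙 U) rfl
  obtain ⟨σ, hσs, hσt⟩ := kp_lift kp t s kp.w.symm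
  have heσ : e ≫ σ = e := kp_ext kp _ _ (by rw [Category.assoc, hσs, het, hes])
    (by rw [Category.assoc, hσt, hes, het])
  have hσσ : σ ≫ σ = 𝟙 R := kp_ext kp _ _ (by rw [Category.assoc, hσs, hσt, Category.id_comp])
    (by rw [Category.assoc, hσt, hσs, Category.id_comp])
  obtain ⟨p23, hp23s, hp23t, sq2⟩ := kp_triple kp
  have sq1 : IsPullback (pullback.fst s s) (pullback.snd s s) s s := IsPullback.of_hasPullback s s
  have sq1L : IsPullback (pullback.fst s s).left (pullback.snd s s).left s.left s.left :=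
    sq1.map (Over.forget S)
  have sq2L : IsPullback (pullback.fst s s).left p23.left t.left s.left :=
    sq2.map (Over.forget S)
  have hmono : ∀ {W : Scheme.{u}} (k k' : W ⟶ R.left), k ≫ s.left = k' ≫ s.left →
      k ≫ t.left = k' ≫ t.left → k = k' := by
    intro W k k' h1 h2
    let K : Over.mk (k ≫ R.hom) ⟶ R := Over.homMk k rfl
    let K' : Over.mk (k ≫ R.hom) ⟶ R := Over.homMk k' (by
      change k' ≫ R.hom = k ≫ R.hom
      rw [← Over.w s, ← Category.assoc, ← Category.assoc, h1])
    have : K = K' := kp_ext kp K K' (Over.OverMorphism.ext h1) (Over.OverMorphism.ext h2)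
    exact congrArg CommaMorphism.left this
  haveI := hsf
  haveI := hse
  obtain ⟨C, q₀, sqL, hsurj, hflat, hfp, hqfin, hdesc⟩ :=
    exists_quotient_of_affine s.left t.left e.left σ.left (pullback.fst s s).left
      (pullback.snd s s).left p23.left
      (congrArg CommaMorphism.left hes) (congrArg CommaMorphism.left het)
      (congrArg CommaMorphism.left hσs) (congrArg CommaMorphism.left hσt)
      (congrArg CommaMorphism.left heσ) (congrArg CommaMorphism.left hσσ)
      (congrArg CommaMorphism.left hp23t.symm) sq1L sq2L hmono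
  have hst : s.left ≫ h₀ = t.left ≫ h₀ := by
    rw [← cancel_mono i, Category.assoc, Category.assoc, hh, Over.w s, Over.w t]
  obtain ⟨ψ, hψ⟩ := hdesc h₀ hst
  let M : Over S := Over.mk (Spec.map ψ ≫ i)
  let q : U ⟶ M := Over.homMk q₀ (by
    change q₀ ≫ Spec.map ψ ≫ i = U.hom
    rw [← Category.assoc, hψ, hh])
  have sqO : IsPullback s t q q :=
    IsPullback.of_map (Over.forget S) (Over.OverMorphism.ext sqL.w) sqL
  haveI : Epi ((yon S).map q) := AlgSpEpi_helper7.epi_yon_map q hsurj hflat hfp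
  obtain ⟨e', he'⟩ := exists_iso_of_kernelPair a ((yon S).map q) kp (sqO.map (yon S))
  exact ⟨M, q, e', (inferInstance : IsAffine (Spec C)), hqfin, hflat, he'⟩

/-- **Finite étale quotient of an affine scheme**: if `a : h_U ⟶ X` is an epimorphism of fppf
sheaves, representable, finite and étale, with `U` affine mapping into an affine open `Spec Λ`
of `S`, then `X` is representable by an affine scheme. -/
theorem exists_affine_quotient {X : Sp S} {U : Over S} [IsAffine U.left]
    (a : (yon S).obj U ⟶ X) (hfin : RepWith @IsFinite a) (het : RepWith @Etale a) [Epi a]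
    {Λ : CommRingCat.{u}} (i : Spec Λ ⟶ S) [Mono i] (h₀ : U.left ⟶ Spec Λ)
    (hh : h₀ ≫ i = U.hom) :
    ∃ (M : Over S) (q : U ⟶ M) (e : (yon S).obj M ≅ X), IsAffine M.left ∧ IsFinite q.left ∧
      Flat q.left ∧ (yon S).map q ≫ e.hom = a := by
  obtain ⟨s, hs⟩ := (yon S).map_surjective (hfin.rep.fst a)
  have kp : IsPullback ((yon S).map s) ((yon S).map (hfin.rep.snd a)) a a := by
    rw [hs]
    exact hfin.rep.isPullback a
  exact exists_affine_quotient_aux a s (hfin.rep.snd a) kp (hfin.property _ _ _ kp.flip)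
    (het.property _ _ _ kp.flip) i h₀ hh

end Groth.Agent.Lib.AlgSpFEtQuotH6
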