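import Groth.Agent.Lib.AlgSpQuotEff_helper7
import Groth.Agent.Lib.AlgSpCov_helper7
import Groth.Agent.Lib.AlgSpPullback_helper7

/-!
# Open immersions between fppf sheaves presented by schemes (helper7)

* `exists_lift_of_mono`: a section of the target of a monomorphism of sheaves which lifts locally
  lifts globally.
* `exists_local_lift`: local lifting along a locally surjective morphism through a given point.
* `mono_of_local`: a criterion for a morphism of sheaves to be a monomorphism.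
* `repWith_isOpenImmersion_of_local`: a monomorphism `φ : F' ⟶ F` of sheaves with presentations
  `h_{U'} ⟶ F'`, `h_U ⟶ F` such that the locus of `U` lifting to `F'` is the image of a flat
  locally finitely presented `P ⟶ U`, is representable by open immersions.
-/

set_option autoImplicit false
universe u
open CategoryTheory CategoryTheory.Limits AlgebraicGeometry Opposite

namespace Groth.Agent.Lib.AlgSpQuotOpenH7

open AlgSp Groth.Agent.Lib.AlgSpOpenSub_helper7 Groth.Agent.Lib.AlgSpGlueH7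
  Groth.Agent.Lib.AlgSpPullback_helper7 Groth.Agent.Lib.AlgSpCov_helper7

variable {S : Scheme.{u}}

/-- A section of the target of a monomorphism of sheaves which lifts locally lifts globally. -/
lemma exists_lift_of_mono {F' F : Sp S} (φ : F' ⟶ F) [Mono φ] {T : Over S}
    (a : (yon S).obj T ⟶ F) {κ : Type u} (Tk : κ → Over S) (m : ∀ k, Tk k ⟶ T)
    (hm : Sieve.ofArrows Tk m ∈ J S T) (c : ∀ k, (yon S).obj (Tk k) ⟶ F')
    (hc : ∀ k, c k ≫ φ = (yon S).map (m k) ≫ a) :
    ∃ c₀ : (yon S).obj T ⟶ F', c₀ ≫ φ = a := by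
  have hG : Presieve.IsSheafFor F'.obj (Presieve.ofArrows Tk m) :=
    ((isSheaf_iff_isSheaf_of_type _ _).1 F'.property).isSheafFor _ hm
  have hF : Presieve.IsSheafFor F.obj (Presieve.ofArrows Tk m) :=
    ((isSheaf_iff_isSheaf_of_type _ _).1 F.property).isSheafFor _ hm
  have hcompat : Presieve.Arrows.Compatible F'.obj m (fun k => yE (c k)) := by
    intro i j W gi gj hij
    rw [yE_map, yE_map]
    congr 1
    rw [← cancel_mono φ, Category.assoc, Category.assoc, hc, hc, ← Category.assoc,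
      ← Category.assoc, ← Functor.map_comp, ← Functor.map_comp, hij]
  obtain ⟨t, ht, -⟩ := ((Presieve.isSheafFor_arrows_iff F'.obj m).1 hG) _ hcompat
  refine ⟨yE.symm t, ?_⟩
  apply yE.injective
  apply hF.isSeparatedFor.ext
  rintro Y f ⟨k⟩
  rw [yE_map, yE_map, ← Category.assoc, yE_symm_map, ht k, Equiv.symm_apply_apply, hc]

/-- Local lifting along a locally surjective morphism of sheaves, through a given point. -/
lemma exists_local_lift {G H : Sp S} (b : H ⟶ G) (hb : Sheaf.IsLocallySurjective b) {T : Over S}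
    (a : (yon S).obj T ⟶ G) (x : T.left) :
    ∃ (T₁ : Over S) (n : T₁ ⟶ T) (l : (yon S).obj T₁ ⟶ H), Flat n.left ∧
      LocallyOfFinitePresentation n.left ∧ x ∈ Set.range n.left ∧
      l ≫ b = (yon S).map n ≫ a := by
  haveI := hb
  have hmem : Presheaf.imageSieve b.hom (yE a) ∈ J S T :=
    Presheaf.imageSieve_mem (J S) b.hom (U := op T) (yE a)
  rw [J_eq, GrothendieckTopology.mem_over_iff] at hmem
  haveI : (@Flat ⊓ @LocallyOfFinitePresentation : MorphismProperty Scheme.{u}).IsMultiplicative :=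
    { id_mem := fun X => ⟨inferInstance, inferInstance⟩
      comp_mem := fun f g hf hg =>
        ⟨by haveI := hf.1; haveI := hg.1; exact (inferInstance : Flat (f ≫ g)),
          by haveI := hf.2; haveI := hg.2
             exact (inferInstance : LocallyOfFinitePresentation (f ≫ g))⟩ }
  obtain ⟨𝒰, h𝒰⟩ := (Scheme.mem_grothendieckTopology_iff
    (P := @Flat ⊓ @LocallyOfFinitePresentation)).1 hmem
  obtain ⟨i, y, hy⟩ := 𝒰.exists_eq x
  have h1 := h𝒰 _ _ (Presieve.ofArrows.mk i)
  rw [Sieve.overEquiv_iff] at h1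
  obtain ⟨t, ht⟩ := h1
  refine ⟨Over.mk (𝒰.f i ≫ T.hom), Over.homMk (𝒰.f i) rfl, yE.symm t, (𝒰.map_prop i).1,
    (𝒰.map_prop i).2, ⟨y, hy⟩, ?_⟩
  apply yE.injective
  rw [yE_comp, Equiv.apply_symm_apply, ← yE_map]
  exact ht

/-- A criterion for a morphism of sheaves to be a monomorphism, in terms of a locally surjective
chart of the source. -/
lemma mono_of_local {F' F : Sp S} (φ : F' ⟶ F) {U' : Over S} (π' : (yon S).obj U' ⟶ F')
    (hπ' : Sheaf.IsLocallySurjective π')
    (h : ∀ (Y : Over S) (u₁ u₂ : Y ⟶ U'),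
      (yon S).map u₁ ≫ π' ≫ φ = (yon S).map u₂ ≫ π' ≫ φ →
      (yon S).map u₁ ≫ π' = (yon S).map u₂ ≫ π') : Mono φ := by
  haveI : Sheaf.IsLocallyInjective φ := by
    refine ⟨fun {X} x y hxy => ?_⟩
    haveI := hπ'
    have h1 := Presheaf.imageSieve_mem (J S) π'.hom (U := X) x
    have h2 := Presheaf.imageSieve_mem (J S) π'.hom (U := X) y
    refine (J S).superset_covering ?_ ((J S).intersection_covering h1 h2)
    rintro Y f ⟨⟨u1, hu1⟩, ⟨u2, hu2⟩⟩
    show F'.obj.map f.op x = F'.obj.map f.op y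
    obtain ⟨α, rfl⟩ : ∃ α : (yon S).obj X.unop ⟶ F', yE α = x := ⟨yE.symm x, by simp⟩
    obtain ⟨β, rfl⟩ : ∃ β : (yon S).obj X.unop ⟶ F', yE β = y := ⟨yE.symm y, by simp⟩
    have hαβ : α ≫ φ = β ≫ φ := by
      apply yE.injective
      rw [yE_comp, yE_comp]
      exact hxy
    have e1 : (yon S).map u1.down ≫ π' = (yon S).map f ≫ α := by
      apply yE.injective
      rw [yE_comp, yE_yon_map, ← yE_map]
      exact hu1
    have e2 : (yon S).map u2.down ≫ π' = (yon S).map f ≫ β := by
      apply yE.injective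
      rw [yE_comp, yE_yon_map, ← yE_map]
      exact hu2
    have key := h Y u1.down u2.down (by
      rw [← Category.assoc, ← Category.assoc, e1, e2, Category.assoc, Category.assoc, hαβ])
    rw [e1, e2] at key
    rw [yE_map, yE_map, key]
  exact Sheaf.mono_of_isLocallyInjective φ

/-- Let `φ : F' ⟶ F` be a monomorphism of fppf sheaves, with locally surjective charts
`π' : h_{U'} ⟶ F'` and `π : h_U ⟶ F`. Suppose `q : P ⟶ U` is flat and locally of finite
presentation, the restriction of `π` to `P` lifts to `F'` through `U'`, and every point of `U`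
which lifts to `U'` (compatibly in `F`) lifts to `P`. Then `φ` is representable by open
immersions. -/
theorem repWith_isOpenImmersion_of_local {F' F : Sp S} (φ : F' ⟶ F) [Mono φ] {U' P U : Over S}
    (π' : (yon S).obj U' ⟶ F') (hπ' : Sheaf.IsLocallySurjective π')
    (π : (yon S).obj U ⟶ F) (hπ : Sheaf.IsLocallySurjective π)
    (q : P ⟶ U) [Flat q.left] [LocallyOfFinitePresentation q.left] (u' : P ⟶ U')
    (hq : (yon S).map q ≫ π = (yon S).map u' ≫ π' ≫ φ)
    (hP : ∀ (T : Over S) (b : T ⟶ U) (d : T ⟶ U'),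
      (yon S).map b ≫ π = (yon S).map d ≫ π' ≫ φ → ∃ l : T ⟶ P, l ≫ q = b) :
    RepWith @IsOpenImmersion φ := by
  apply MorphismProperty.relative.of_exists
  intro T a
  let A : Set T.left := {x | ∃ (T' : Over S) (m : T' ⟶ T) (d : T' ⟶ U'), Flat m.left ∧
    LocallyOfFinitePresentation m.left ∧ (yon S).map d ≫ π' ≫ φ = (yon S).map m ≫ a ∧
    x ∈ Set.range m.left}
  have hAopen : IsOpen A := by
    rw [isOpen_iff_forall_mem_open]
    rintro x ⟨T', m, d, hfl, hfp, hd, hx⟩
    haveI := hfl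
    haveI := hfp
    refine ⟨Set.range m.left, ?_, m.left.isOpenMap.isOpen_range, hx⟩
    intro y hy
    exact ⟨T', m, d, hfl, hfp, hd, hy⟩
  have hclaim : ∀ (T' : Over S) (m : T' ⟶ T) (c' : (yon S).obj T' ⟶ F'),
      c' ≫ φ = (yon S).map m ≫ a → Set.range m.left ⊆ A := by
    rintro T' m c' hc' _ ⟨x', rfl⟩
    obtain ⟨T₁, n₁, b₁, hfl₁, hfp₁, ⟨z, hz⟩, hb₁⟩ := exists_local_lift π hπ a (m.left x')
    obtain ⟨T₂, n₂, d₂, hfl₂, hfp₂, ⟨y, hy⟩, hd₂⟩ := exists_local_lift π' hπ' c' x'
    obtain ⟨bU, hbU⟩ : ∃ bU : T₁ ⟶ U, (yon S).map bU = b₁ := ⟨_, (yon S).map_preimage _⟩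
    obtain ⟨dU, hdU⟩ : ∃ dU : T₂ ⟶ U', (yon S).map dU = d₂ := ⟨_, (yon S).map_preimage _⟩
    have sq := (IsPullback.of_hasPullback (n₂ ≫ m) n₁).map (Over.forget S)
    obtain ⟨w, hw1, hw2⟩ := Scheme.exists_preimage_of_isPullback sq y z (by
      show (n₂ ≫ m).left y = n₁.left z
      rw [Over.comp_left, Scheme.Hom.comp_apply, hy, hz])
    have key : (yon S).map (pullback.snd (n₂ ≫ m) n₁ ≫ bU) ≫ π =
        (yon S).map (pullback.fst (n₂ ≫ m) n₁ ≫ dU) ≫ π' ≫ φ := by
      have e1 : (yon S).map (pullback.snd (n₂ ≫ m) n₁ ≫ bU) ≫ π =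
          (yon S).map (pullback.snd (n₂ ≫ m) n₁ ≫ n₁) ≫ a := by
        simp only [Functor.map_comp, Category.assoc]
        rw [hbU, hb₁]
      have e2 : (yon S).map (pullback.fst (n₂ ≫ m) n₁ ≫ dU) ≫ π' ≫ φ =
          (yon S).map (pullback.fst (n₂ ≫ m) n₁ ≫ n₂ ≫ m) ≫ a := by
        simp only [Functor.map_comp, Category.assoc]
        rw [hdU, ← hc', ← Category.assoc d₂, hd₂, Category.assoc]
      rw [e1, e2, pullback.condition]
    obtain ⟨l, hl⟩ := hP _ _ _ key
    have sq2 := (IsPullback.of_hasPullback q bU).map (Over.forget S)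
    have hfl₃ : Flat (pullback.snd q bU).left :=
      MorphismProperty.of_isPullback (P := @Flat) sq2 (inferInstanceAs (Flat q.left))
    have hfp₃ : LocallyOfFinitePresentation (pullback.snd q bU).left :=
      MorphismProperty.of_isPullback (P := @LocallyOfFinitePresentation) sq2
        (inferInstanceAs (LocallyOfFinitePresentation q.left))
    refine ⟨pullback q bU, pullback.snd q bU ≫ n₁, pullback.fst q bU ≫ u', ?_, ?_, ?_, ?_⟩
    · exact inferInstanceAs (Flat ((pullback.snd q bU).left ≫ n₁.left))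
    · exact inferInstanceAs (LocallyOfFinitePresentation ((pullback.snd q bU).left ≫ n₁.left))
    · simp only [Functor.map_comp, Category.assoc]
      rw [← hq, ← hb₁, ← hbU, ← Functor.map_comp_assoc, ← Functor.map_comp_assoc,
        pullback.condition]
    · refine ⟨(pullback.lift l (pullback.snd (n₂ ≫ m) n₁) hl).left w, ?_⟩
      have e3 : pullback.lift l (pullback.snd (n₂ ≫ m) n₁) hl ≫ pullback.snd q bU =
          pullback.snd (n₂ ≫ m) n₁ := pullback.lift_snd _ _ _
      have e5 : (pullback.snd q bU).left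
          ((pullback.lift l (pullback.snd (n₂ ≫ m) n₁) hl).left w) = z := by
        rw [← Scheme.Hom.comp_apply, ← Over.comp_left, e3]
        exact hw2
      show (pullback.snd q bU ≫ n₁).left _ = m.left x'
      rw [Over.comp_left, Scheme.Hom.comp_apply, e5]
      exact hz
  let Ao : T.left.Opens := ⟨A, hAopen⟩
  let TA : Over S := Over.mk (Ao.ι ≫ T.hom)
  let ιA : TA ⟶ T := Over.homMk Ao.ι rfl
  have hfac : ∀ (T' : Over S) (m : T' ⟶ T), Set.range m.left ⊆ A →
      ∃ m₀ : T' ⟶ TA, m₀ ≫ ιA = m := by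
    intro T' m hm
    have hr : Set.range m.left ⊆ Set.range Ao.ι := by
      rw [Scheme.Opens.range_ι]
      exact hm
    refine ⟨Over.homMk (IsOpenImmersion.lift Ao.ι m.left hr) ?_, ?_⟩
    · show IsOpenImmersion.lift Ao.ι m.left hr ≫ Ao.ι ≫ T.hom = T'.hom
      rw [← Category.assoc, IsOpenImmersion.lift_fac, Over.w]
    · ext
      show IsOpenImmersion.lift Ao.ι m.left hr ≫ Ao.ι = m.left
      exact IsOpenImmersion.lift_fac _ _ _
  have hc₀ : ∃ c₀ : (yon S).obj TA ⟶ F', c₀ ≫ φ = (yon S).map ιA ≫ a := by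
    have hAmem : ∀ x : Ao, ∃ (T' : Over S) (m : T' ⟶ T) (d : T' ⟶ U'), Flat m.left ∧
        LocallyOfFinitePresentation m.left ∧ (yon S).map d ≫ π' ≫ φ = (yon S).map m ≫ a ∧
        x.1 ∈ Set.range m.left := fun x => x.2
    choose T' m d hfl hfp hd hx using hAmem
    have hsub : ∀ x, Set.range (m x).left ⊆ A := fun x y hy =>
      ⟨T' x, m x, d x, hfl x, hfp x, hd x, hy⟩
    choose m₀ hm₀ using fun x => hfac (T' x) (m x) (hsub x)
    have hm₀' : ∀ x, (m₀ x).left ≫ Ao.ι = (m x).left := fun x =>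
      congrArg (fun k => k.left) (hm₀ x)
    have hfl₀ : ∀ x, Flat (m₀ x).left := fun x => by
      have h1 : Flat ((m₀ x).left ≫ Ao.ι) := by
        rw [hm₀' x]
        exact hfl x
      exact MorphismProperty.of_postcomp (W := @Flat) (W' := @IsOpenImmersion) (m₀ x).left Ao.ι
        inferInstance h1
    have hfp₀ : ∀ x, LocallyOfFinitePresentation (m₀ x).left := fun x => by
      have h1 : LocallyOfFinitePresentation ((m₀ x).left ≫ Ao.ι) := by
        rw [hm₀' x]
        exact hfp x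
      exact MorphismProperty.of_postcomp (W := @LocallyOfFinitePresentation)
        (W' := @IsOpenImmersion) (m₀ x).left Ao.ι inferInstance h1
    have hs : ∀ t : ↥TA.left, ∃ x, t ∈ Set.range (m₀ x).left := by
      intro t
      have ht : Ao.ι t ∈ A := t.2
      obtain ⟨y, hy⟩ := hx ⟨Ao.ι t, ht⟩
      refine ⟨⟨Ao.ι t, ht⟩, y, ?_⟩
      apply Ao.ι.isOpenEmbedding.injective
      rw [← Scheme.Hom.comp_apply, hm₀']
      exact hy
    have hmem := ofArrows_mem_J (fun x : Ao => T' x) m₀ hfl₀ hfp₀ hs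
    exact exists_lift_of_mono φ ((yon S).map ιA ≫ a) (fun x : Ao => T' x) m₀ hmem
      (fun x => (yon S).map (d x) ≫ π') (fun x => by
        rw [Category.assoc, hd x, ← hm₀ x, Functor.map_comp, Category.assoc])
  obtain ⟨c₀, hc₀⟩ := hc₀
  haveI : Mono ιA := (Over.forget S).mono_of_mono_map (inferInstanceAs (Mono Ao.ι))
  have pb : IsPullback c₀ ((yon S).map ιA) φ a := by
    refine isPullback_of_forall_yon hc₀ (fun T' c' b hcb => ?_)
    obtain ⟨m, rfl⟩ : ∃ m : T' ⟶ T, (yon S).map m = b := ⟨_, (yon S).map_preimage b⟩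
    obtain ⟨m₀, hm₀⟩ := hfac T' m (hclaim T' m c' hcb)
    refine ⟨(yon S).map m₀, ⟨?_, ?_⟩, ?_⟩
    · rw [← cancel_mono φ, Category.assoc, hc₀, ← Category.assoc, ← Functor.map_comp, hm₀, hcb]
    · rw [← Functor.map_comp, hm₀]
    · rintro p ⟨-, hp2⟩
      obtain ⟨p₀, rfl⟩ : ∃ p₀ : T' ⟶ TA, (yon S).map p₀ = p := ⟨_, (yon S).map_preimage p⟩
      congr 1
      rw [← cancel_mono ιA]
      apply (yon S).map_injective
      rw [Functor.map_comp, hp2, hm₀]
  exact ⟨TA, c₀, ιA, pb, inferInstanceAs (IsOpenImmersion Ao.ι)⟩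

end Groth.Agent.Lib.AlgSpQuotOpenH7
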