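import Groth.Agent.Lib.FlatDesc17_helper8
import Groth.Agent.Lib.AlgSpQuotOpen_helper7
import Groth.Agent.Lib.AlgSpPoints_helper7
import Groth.Agent.Lib.AlgSpPullback_helper7
import Groth.Agent.S0114

/-!
# Flat / lft / lfp pass to the target of a surjection of fppf sheaves (helper7)
-/

set_option autoImplicit false
universe u

namespace Groth.Agent.Lib.AlgSpLocSurjH7

section Ring

open TensorProduct

/-- Flatness through a chain `A → B → C → D` with `C` flat over `A` and `D` faithfully flat over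
`B`. -/
theorem flat_chain (A B C D : Type*) [CommRing A] [CommRing B] [CommRing C] [CommRing D]
    [Algebra A B] [Algebra B C] [Algebra A C] [IsScalarTower A B C]
    [Algebra C D] [Algebra B D] [Algebra A D] [IsScalarTower B C D] [IsScalarTower A B D]
    [IsScalarTower A C D] [Module.Flat A C] [Module.FaithfullyFlat B D] : Module.Flat A B := by
  rw [Module.Flat.iff_lTensor_preserves_injective_linearMap]
  intro N P _ _ _ _ f hf
  have hC : Function.Injective (f.lTensor C) :=
    Module.Flat.lTensor_preserves_injective_linearMap f hf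
  have hkey : ∀ (M : Type _) [AddCommGroup M] [Module A M] (z : B ⊗[A] M),
      TensorProduct.AlgebraTensorModule.cancelBaseChange A B D D M ((1 : D) ⊗ₜ[B] z) =
        (IsScalarTower.toAlgHom A B D).toLinearMap.rTensor M z := by
    intro M _ _ z
    induction z using TensorProduct.induction_on with
    | zero => simp
    | tmul b m =>
      rw [TensorProduct.AlgebraTensorModule.cancelBaseChange_tmul, LinearMap.rTensor_tmul,
        Algebra.smul_def, mul_one]
      rfl
    | add x y hx hy => rw [TensorProduct.tmul_add, map_add, hx, hy, map_add]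
  have hinj : Function.Injective ((IsScalarTower.toAlgHom A B D).toLinearMap.rTensor N) := by
    intro x y hxy
    rw [← hkey, ← hkey] at hxy
    exact Module.FaithfullyFlat.tensorProduct_mk_injective (A := B) (B := D) (B ⊗[A] N)
      ((TensorProduct.AlgebraTensorModule.cancelBaseChange A B D D N).injective hxy)
  have hcomp : ∀ (M : Type _) [AddCommGroup M] [Module A M] (z : B ⊗[A] M),
      (IsScalarTower.toAlgHom A B D).toLinearMap.rTensor M z =
        (IsScalarTower.toAlgHom A C D).toLinearMap.rTensor M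
          ((IsScalarTower.toAlgHom A B C).toLinearMap.rTensor M z) := by
    intro M _ _ z
    induction z using TensorProduct.induction_on with
    | zero => simp
    | tmul b m =>
      rw [LinearMap.rTensor_tmul, LinearMap.rTensor_tmul, LinearMap.rTensor_tmul]
      congr 1
      exact IsScalarTower.algebraMap_apply B C D b
    | add x y hx hy => rw [map_add, hx, hy, map_add, map_add]
  have e2 : ∀ z, f.lTensor C ((IsScalarTower.toAlgHom A B C).toLinearMap.rTensor N z) =
      (IsScalarTower.toAlgHom A B C).toLinearMap.rTensor P (f.lTensor B z) := by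
    intro z
    rw [← LinearMap.comp_apply, ← LinearMap.comp_apply, LinearMap.lTensor_comp_rTensor,
      LinearMap.rTensor_comp_lTensor]
  intro x y hxy
  apply hinj
  rw [hcomp, hcomp]
  congr 1
  apply hC
  rw [e2, e2, hxy]

theorem ringHom_flat_of_chain {A B C D : Type*} [CommRing A] [CommRing B] [CommRing C]
    [CommRing D] [IsLocalRing B] [IsLocalRing D] (φ : A →+* B) (ρ : B →+* C) (τ : C →+* D)
    (σ : B →+* D) (hσ : σ = τ.comp ρ) [IsLocalHom σ] (h1 : σ.Flat) (h2 : (ρ.comp φ).Flat) :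
    φ.Flat := by
  subst hσ
  letI := φ.toAlgebra
  letI := ρ.toAlgebra
  letI := τ.toAlgebra
  letI := (ρ.comp φ).toAlgebra
  letI := (τ.comp ρ).toAlgebra
  letI := ((τ.comp ρ).comp φ).toAlgebra
  haveI : IsScalarTower A B C := IsScalarTower.of_algebraMap_eq' rfl
  haveI : IsScalarTower B C D := IsScalarTower.of_algebraMap_eq' rfl
  haveI : IsScalarTower A B D := IsScalarTower.of_algebraMap_eq' rfl
  haveI : IsScalarTower A C D := IsScalarTower.of_algebraMap_eq' rfl
  haveI : Module.Flat B D := h1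
  haveI : Module.Flat A C := h2
  haveI : IsLocalHom (algebraMap B D) := ‹IsLocalHom (τ.comp ρ)›
  haveI : Module.FaithfullyFlat B D := Module.FaithfullyFlat.of_flat_of_isLocalHom
  exact flat_chain A B C D

attribute [local instance] Algebra.TensorProduct.rightAlgebra

open Groth.Agent.Lib.FlatDescH8 in
/-- Ring lemma (finite type variant of helper8's `exists_away_finitePresentation`). -/
theorem exists_away_finiteType {R A B : Type u} [CommRing R] [CommRing A] [CommRing B]
    [Algebra R A] [Algebra A B] [Algebra R B] [IsScalarTower R A B] [Module.Flat A B]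
    [Algebra.FinitePresentation A B] [Algebra.FiniteType R B] (p : PrimeSpectrum A)
    (hp : p ∈ Set.range (PrimeSpectrum.comap (algebraMap A B))) :
    ∃ a : A, a ∉ p.asIdeal ∧
      ((algebraMap A (Localization.Away a)).comp (algebraMap R A)).FiniteType := by
  have hopen : IsOpen (Set.range (PrimeSpectrum.comap (algebraMap A B))) :=
    (PrimeSpectrum.isOpenMap_comap_of_hasGoingDown_of_finitePresentation (R := A) (S := B)
      ).isOpen_range
  obtain ⟨_, ⟨a, rfl⟩, hpa, hsub⟩ :=
    PrimeSpectrum.isTopologicalBasis_basic_opens.exists_subset_of_mem_open hp hopen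
  refine ⟨a, hpa, ?_⟩
  haveI : Module.FaithfullyFlat (Localization.Away a) (Localization.Away a ⊗[A] B) := by
    refine Module.FaithfullyFlat.of_comap_surjective fun p' => ?_
    have hmem : PrimeSpectrum.comap (algebraMap A (Localization.Away a)) p' ∈
        (PrimeSpectrum.basicOpen a : Set (PrimeSpectrum A)) := by
      show a ∉ (PrimeSpectrum.comap (algebraMap A (Localization.Away a)) p').asIdeal
      intro ha
      have ha' : algebraMap A (Localization.Away a) a ∈ p'.asIdeal := ha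
      exact p'.isPrime.ne_top (Ideal.eq_top_of_isUnit_mem _ ha'
        (IsLocalization.Away.algebraMap_isUnit a))
    obtain ⟨q, hq⟩ := hsub hmem
    obtain ⟨P, hP1, -⟩ := exists_prime_tensor A (Localization.Away a) B p' q hq.symm
    exact ⟨P, hP1⟩
  haveI tw : IsScalarTower R B (Localization.Away a ⊗[A] B) := by
    have h1 : ∀ r : R, algebraMap R (Localization.Away a ⊗[A] B) r =
        algebraMap B (Localization.Away a ⊗[A] B) (algebraMap R B r) := by
      intro r
      rw [Algebra.TensorProduct.algebraMap_apply, Algebra.TensorProduct.right_algebraMap_apply,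
        IsScalarTower.algebraMap_apply R A (Localization.Away a),
        IsScalarTower.algebraMap_apply R A B,
        Algebra.algebraMap_eq_smul_one (algebraMap R A r),
        Algebra.algebraMap_eq_smul_one (algebraMap R A r), smul_tmul]
    exact IsScalarTower.of_algebraMap_eq (R := R) (S := B) (A := Localization.Away a ⊗[A] B) h1
  haveI : Algebra.FinitePresentation B (Localization.Away a ⊗[A] B) := by
    obtain ⟨e, -⟩ : ∃ e : B ⊗[A] Localization.Away a ≃ₐ[B] Localization.Away a ⊗[A] B, True :=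
      ⟨AlgEquiv.ofRingEquiv (f := (Algebra.TensorProduct.comm A B (Localization.Away a)).toRingEquiv)
        (fun x => by
          show (Algebra.TensorProduct.comm A B (Localization.Away a)) (x ⊗ₜ 1) = _
          rw [Algebra.TensorProduct.comm_tmul, Algebra.TensorProduct.right_algebraMap_apply]),
        trivial⟩
    exact Algebra.FinitePresentation.equiv e
  haveI : Algebra.FiniteType R (Localization.Away a ⊗[A] B) :=
    Algebra.FiniteType.trans (S := B) inferInstance inferInstance
  haveI : Algebra.FiniteType R (Localization.Away a) :=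
    finiteType_of_faithfullyFlat_fp (R := R) (A := Localization.Away a)
      (B := Localization.Away a ⊗[A] B)
  have := RingHom.finiteType_algebraMap.mpr
    (inferInstance : Algebra.FiniteType R (Localization.Away a))
  rwa [IsScalarTower.algebraMap_eq R A (Localization.Away a)] at this

end Ring

open AlgebraicGeometry CategoryTheory CategoryTheory.Limits

/-- **Local finite type descends along an fppf cover of the source.** -/
theorem lft_of_fppf_comp {X Y S : Scheme.{u}} (f : X ⟶ Y) (q : Y ⟶ S)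
    [Surjective f] [Flat f] [LocallyOfFinitePresentation f]
    [LocallyOfFiniteType (f ≫ q)] : LocallyOfFiniteType q := by
  rw [HasRingHomProperty.iff_appLE (P := @LocallyOfFiniteType)]
  intro U V₀ e₁
  refine RingHom.finiteType_ofLocalizationSpanTarget _
    {a | ((algebraMap _ (Localization.Away a)).comp (q.appLE U.1 V₀.1 e₁).hom).FiniteType}
    ?_ (fun r => r.2)
  by_contra hne
  obtain ⟨𝔪, h𝔪, hle⟩ := Ideal.exists_le_maximal _ hne
  obtain ⟨p, hp⟩ : ∃ p : PrimeSpectrum Γ(Y, V₀.1), p.asIdeal = 𝔪 := ⟨⟨𝔪, h𝔪.isPrime⟩, rfl⟩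
  have hy : V₀.2.fromSpec p ∈ V₀.1 := by
    have : V₀.2.fromSpec p ∈ Set.range V₀.2.fromSpec := ⟨p, rfl⟩
    rw [V₀.2.range_fromSpec] at this
    exact this
  obtain ⟨x, hx⟩ := Surjective.surj (f := f) (V₀.2.fromSpec p)
  obtain ⟨W, hW, hxW, e₂⟩ := TopologicalSpace.Opens.isBasis_iff_nbhd.mp X.isBasis_affineOpens
    (show x ∈ f ⁻¹ᵁ V₀.1 from by
      show f x ∈ V₀.1
      rw [hx]; exact hy)
  have hcomap := IsAffineOpen.comap_primeIdealOf_appLE (f := f) V₀.1 V₀.2 W hW e₂ hxW
  have hpeq : V₀.2.primeIdealOf ⟨f x, e₂ hxW⟩ = p := by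
    have h1 : V₀.2.fromSpec (V₀.2.primeIdealOf ⟨f x, e₂ hxW⟩) = V₀.2.fromSpec p := by
      rw [V₀.2.fromSpec_primeIdealOf]
      exact hx
    exact V₀.2.fromSpec.isOpenEmbedding.injective h1
  rw [hpeq] at hcomap
  letI algRA : Algebra Γ(S, U.1) Γ(Y, V₀.1) := (q.appLE U.1 V₀.1 e₁).hom.toAlgebra
  letI algAB : Algebra Γ(Y, V₀.1) Γ(X, W) := (f.appLE V₀.1 W e₂).hom.toAlgebra
  letI algRB : Algebra Γ(S, U.1) Γ(X, W) :=
    ((f.appLE V₀.1 W e₂).hom.comp (q.appLE U.1 V₀.1 e₁).hom).toAlgebra
  haveI : IsScalarTower Γ(S, U.1) Γ(Y, V₀.1) Γ(X, W) :=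
    IsScalarTower.of_algebraMap_eq (fun _ => rfl)
  haveI : Module.Flat Γ(Y, V₀.1) Γ(X, W) :=
    HasRingHomProperty.appLE @Flat f inferInstance V₀ ⟨W, hW⟩ e₂
  haveI : Algebra.FinitePresentation Γ(Y, V₀.1) Γ(X, W) :=
    HasRingHomProperty.appLE @LocallyOfFinitePresentation f inferInstance V₀ ⟨W, hW⟩ e₂
  haveI : Algebra.FiniteType Γ(S, U.1) Γ(X, W) := by
    have h := HasRingHomProperty.appLE @LocallyOfFiniteType (f ≫ q) inferInstance U
      ⟨W, hW⟩ (e₂.trans ((TopologicalSpace.Opens.map f.base).map (homOfLE e₁)).le)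
    rw [← Scheme.Hom.appLE_comp_appLE f q U.1 V₀.1 W e₁ e₂] at h
    exact h
  obtain ⟨a, ha, hfp⟩ := exists_away_finiteType (R := Γ(S, U.1)) (A := Γ(Y, V₀.1))
    (B := Γ(X, W)) p ⟨hW.primeIdealOf ⟨x, hxW⟩, hcomap⟩
  apply ha
  rw [hp]
  exact hle (Ideal.subset_span hfp)

/-- Cancellation for local finite presentation. -/
theorem lfp_of_comp {X Y Z : Scheme.{u}} (f : X ⟶ Y) (g : Y ⟶ Z)
    [LocallyOfFinitePresentation (f ≫ g)] [LocallyOfFiniteType g] :
    LocallyOfFinitePresentation f := by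
  rw [HasRingHomProperty.iff_exists_appLE (P := @LocallyOfFinitePresentation)
    (Q := RingHom.FinitePresentation)
    (RingHom.finitePresentation_stableUnderComposition.stableUnderCompositionWithLocalizationAway
      RingHom.finitePresentation_holdsForLocalizationAway).left]
  intro x
  obtain ⟨W, hW, hxW, -⟩ := TopologicalSpace.Opens.isBasis_iff_nbhd.mp Z.isBasis_affineOpens
    (show g (f x) ∈ (⊤ : Z.Opens) from trivial)
  obtain ⟨V, hV, hxV, eV⟩ := TopologicalSpace.Opens.isBasis_iff_nbhd.mp Y.isBasis_affineOpens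
    (show f x ∈ g ⁻¹ᵁ W from hxW)
  obtain ⟨U, hU, hxU, eU⟩ := TopologicalSpace.Opens.isBasis_iff_nbhd.mp X.isBasis_affineOpens
    (show x ∈ f ⁻¹ᵁ V from hxV)
  refine ⟨⟨V, hV⟩, ⟨U, hU⟩, hxU, eU, ?_⟩
  have h1 := HasRingHomProperty.appLE @LocallyOfFinitePresentation (f ≫ g) inferInstance
    ⟨W, hW⟩ ⟨U, hU⟩ (eU.trans ((TopologicalSpace.Opens.map f.base).map (homOfLE eV)).le)
  rw [← Scheme.Hom.appLE_comp_appLE f g W V U eV eU] at h1
  have h2 : (g.appLE W V eV).hom.FiniteType :=
    HasRingHomProperty.appLE @LocallyOfFiniteType g inferInstance ⟨W, hW⟩ ⟨V, hV⟩ eV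
  exact RingHom.FinitePresentation.of_comp_finiteType _ h1 h2

/-- Flatness of the last arrow of a chain `T → E → V → W`. -/
theorem flat_of_chain {E V W : Scheme.{u}} (r : E ⟶ V) (k : V ⟶ W) [Flat (r ≫ k)]
    (hv : ∀ v : V, ∃ (T : Scheme.{u}) (t : T ⟶ E), Flat (t ≫ r) ∧
      LocallyOfFinitePresentation (t ≫ r) ∧ v ∈ Set.range (t ≫ r)) : Flat k := by
  rw [Flat.iff_flat_stalkMap]
  intro v
  obtain ⟨T, t, hf, -, x, rfl⟩ := hv v
  have h1 : ((t ≫ r).stalkMap x).hom.Flat := Flat.stalkMap (t ≫ r) x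
  have h2 : ((r ≫ k).stalkMap (t x)).hom.Flat := Flat.stalkMap (r ≫ k) (t x)
  rw [Scheme.Hom.stalkMap_comp] at h2
  exact ringHom_flat_of_chain (k.stalkMap ((t ≫ r) x)).hom (r.stalkMap (t x)).hom
    (t.stalkMap x).hom ((t ≫ r).stalkMap x).hom (by rw [Scheme.Hom.stalkMap_comp]; rfl) h1 h2

/-- Assemble the local fppf lifts into a single fppf cover. -/
theorem exists_cover {E V : Scheme.{u}} (r : E ⟶ V)
    (hv : ∀ v : V, ∃ (T : Scheme.{u}) (t : T ⟶ E), Flat (t ≫ r) ∧
      LocallyOfFinitePresentation (t ≫ r) ∧ v ∈ Set.range (t ≫ r)) :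
    ∃ (T : Scheme.{u}) (t : T ⟶ E), Flat (t ≫ r) ∧ LocallyOfFinitePresentation (t ≫ r) ∧
      Surjective (t ≫ r) := by
  choose T t h1 h2 h3 using hv
  have e : Sigma.desc t ≫ r = Sigma.desc (fun v => t v ≫ r) :=
    Sigma.hom_ext _ _ (fun v => by simp)
  refine ⟨∐ T, Sigma.desc t, ?_, ?_, ?_⟩
  · rw [e]; exact IsZariskiLocalAtSource.sigmaDesc (P := @Flat) h1
  · rw [e]; exact IsZariskiLocalAtSource.sigmaDesc (P := @LocallyOfFinitePresentation) h2
  · rw [e]
    refine Surjective.sigmaDesc_of_union_range_eq_univ ?_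
    rw [Set.eq_univ_iff_forall]
    intro v
    exact Set.mem_iUnion.2 ⟨v, h3 v⟩

theorem lft_of_chain {E V W : Scheme.{u}} (r : E ⟶ V) (k : V ⟶ W) [LocallyOfFiniteType (r ≫ k)]
    (hv : ∀ v : V, ∃ (T : Scheme.{u}) (t : T ⟶ E), Flat (t ≫ r) ∧
      LocallyOfFinitePresentation (t ≫ r) ∧ v ∈ Set.range (t ≫ r)) : LocallyOfFiniteType k := by
  obtain ⟨T, t, hf, hp, hs⟩ := exists_cover r hv
  haveI := hf; haveI := hp; haveI := hs
  haveI : LocallyOfFiniteType (t ≫ r) := inferInstance
  haveI ht : LocallyOfFiniteType t := locallyOfFiniteType_of_comp t r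
  haveI : LocallyOfFiniteType ((t ≫ r) ≫ k) := by
    rw [Category.assoc]; infer_instance
  exact lft_of_fppf_comp (t ≫ r) k

theorem lfp_of_chain {E V W : Scheme.{u}} (r : E ⟶ V) (k : V ⟶ W)
    [LocallyOfFinitePresentation (r ≫ k)]
    (hv : ∀ v : V, ∃ (T : Scheme.{u}) (t : T ⟶ E), Flat (t ≫ r) ∧
      LocallyOfFinitePresentation (t ≫ r) ∧ v ∈ Set.range (t ≫ r)) :
    LocallyOfFinitePresentation k := by
  obtain ⟨T, t, hf, hp, hs⟩ := exists_cover r hv
  haveI := hf; haveI := hp; haveI := hs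
  haveI : LocallyOfFiniteType (r ≫ k) := inferInstance
  haveI hr : LocallyOfFiniteType r := locallyOfFiniteType_of_comp r k
  haveI ht : LocallyOfFinitePresentation t := lfp_of_comp t r
  haveI : LocallyOfFinitePresentation ((t ≫ r) ≫ k) := by
    rw [Category.assoc]; infer_instance
  exact Groth.Agent.S0114.result (t ≫ r) k

open AlgSp Groth.Agent.Lib.AlgSpPoints_helper7 Groth.Agent.Lib.AlgSpPullback_helper7
  Groth.Agent.Lib.AlgSpQuotOpenH7 Opposite

variable {S : Scheme.{u}}

/-- Transfer to algebraic spaces. -/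
theorem locP_of_locSurj (P : MorphismProperty Scheme.{u})
    (hP : ∀ {E V W : Scheme.{u}} (r : E ⟶ V) (k : V ⟶ W), P (r ≫ k) →
      (∀ v : V, ∃ (T : Scheme.{u}) (t : T ⟶ E), Flat (t ≫ r) ∧
        LocallyOfFinitePresentation (t ≫ r) ∧ v ∈ Set.range (t ≫ r)) → P k)
    {X Y Z : Space S} (g : X ⟶ Y) (h : Y ⟶ Z) (hg : Sheaf.IsLocallySurjective g.hom)
    (hgh : LocP P (g ≫ h).hom) : LocP P h.hom := by
  intro V W b c k hb hc comm
  obtain ⟨X0, a0, ha0e, ha0s⟩ := X.property.atlas
  obtain ⟨E, r, e, sq, hee⟩ : ∃ (E : Over S) (r : E ⟶ V) (e : E ⟶ X0),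
      IsPullback ((yon S).map r) ((yon S).map e) b (a0 ≫ g.hom) ∧ Etale e.left :=
    ⟨_, hb.rep.fst' _, hb.rep.snd _, hb.rep.isPullback' _, hb.property_snd _⟩
  have hae : RepWith @Etale ((yon S).map e ≫ a0) :=
    repWith_comp _ ((repWith_yon_map_iff _ _).2 hee) ha0e
  have comm_g : ((yon S).map e ≫ a0) ≫ g.hom = (yon S).map r ≫ b := by
    rw [Category.assoc]; exact sq.w.symm
  have comm_gh : ((yon S).map e ≫ a0) ≫ (g ≫ h).hom = (yon S).map (r ≫ k) ≫ c := by
    show ((yon S).map e ≫ a0) ≫ g.hom ≫ h.hom = _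
    rw [← Category.assoc, comm_g, Category.assoc, comm, CategoryTheory.Functor.map_comp,
      Category.assoc]
  have hPrk : P (r ≫ k).left := hgh _ c (r ≫ k) hae hc comm_gh
  refine hP r.left k.left hPrk (fun v => ?_)
  obtain ⟨T1, n1, l1, hn1f, hn1p, ⟨t1, ht1⟩, hl1⟩ := exists_local_lift g.hom hg b v
  obtain ⟨T2, s, n2, sq2, hn2e, hn2s⟩ : ∃ (T2 : Over S) (s : T2 ⟶ X0) (n2 : T2 ⟶ T1),
      IsPullback ((yon S).map s) ((yon S).map n2) a0 l1 ∧ Etale n2.left ∧ Surjective n2.left :=
    ⟨_, ha0e.rep.fst' _, ha0e.rep.snd _, ha0e.rep.isPullback' _, ha0e.property_snd _,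
      ha0s.property _ _ _ (ha0e.rep.isPullback _)⟩
  obtain ⟨t2, ht2⟩ := hn2s.surj t1
  have hw : (yon S).map (n2 ≫ n1) ≫ b = (yon S).map s ≫ (a0 ≫ g.hom) := by
    rw [CategoryTheory.Functor.map_comp, Category.assoc, ← hl1, ← Category.assoc, ← sq2.w,
      Category.assoc]
  obtain ⟨t, ht⟩ := (yon S).map_surjective
    (sq.lift ((yon S).map (n2 ≫ n1)) ((yon S).map s) hw)
  have htr : t ≫ r = n2 ≫ n1 := (yon S).map_injective (by
    rw [CategoryTheory.Functor.map_comp, ht, sq.lift_fst])
  have e1 : t.left ≫ r.left = n2.left ≫ n1.left := congrArg CommaMorphism.left htr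
  haveI := hn1f; haveI := hn1p; haveI := hn2e
  refine ⟨T2.left, t.left, ?_, ?_, ?_⟩
  · rw [e1]; infer_instance
  · rw [e1]; infer_instance
  · rw [e1]
    exact ⟨t2, by rw [Scheme.Hom.comp_apply, ht2, ht1]⟩

theorem main {X Y Z : Space S} (g : X ⟶ Y) (h : Y ⟶ Z)
    (hg : Sheaf.IsLocallySurjective g.hom) :
    (LocP @Flat (g ≫ h).hom → LocP @Flat h.hom) ∧
    (LocP @LocallyOfFiniteType (g ≫ h).hom → LocP @LocallyOfFiniteType h.hom) ∧
    (LocP @LocallyOfFinitePresentation (g ≫ h).hom →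
      LocP @LocallyOfFinitePresentation h.hom) := by
  refine ⟨locP_of_locSurj @Flat (fun r k h1 hv => by haveI := h1; exact flat_of_chain r k hv)
      g h hg,
    locP_of_locSurj @LocallyOfFiniteType
      (fun r k h1 hv => by haveI := h1; exact lft_of_chain r k hv) g h hg,
    locP_of_locSurj @LocallyOfFinitePresentation
      (fun r k h1 hv => by haveI := h1; exact lfp_of_chain r k hv) g h hg⟩

end Groth.Agent.Lib.AlgSpLocSurjH7
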