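import Groth.Agent.Lib.AlgSpPullback_helper7
import Mathlib.AlgebraicGeometry.Sites.Fpqc
import Mathlib.AlgebraicGeometry.Morphisms.LocalFlatDescent

/-!
# Descent of properties of representable morphisms along etale charts (helper7)
-/

set_option autoImplicit false
universe u
open CategoryTheory CategoryTheory.Limits AlgebraicGeometry Opposite

namespace Groth.Agent.Lib.AlgSpDescent_helper7

open AlgSp Groth.Agent.Lib.AlgSpPoints_helper7 Groth.Agent.Lib.AlgSpQC_helper7
  Groth.Agent.Lib.AlgSpPullback_helper7

variable {S : Scheme.{u}}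

/-- `P` descends along etale surjective morphisms of schemes. -/
def DescendsEtale (P : MorphismProperty Scheme.{u}) : Prop :=
  ∀ ⦃X Y Y' X' : Scheme.{u}⦄ ⦃f : X ⟶ Y⦄ ⦃π : Y' ⟶ Y⦄ ⦃fst : X' ⟶ X⦄ ⦃f' : X' ⟶ Y'⦄,
    IsPullback fst f' f π → Etale π → Surjective π → P f' → P f

theorem descendsEtale_of_isLocalAtTarget_fppf (P : MorphismProperty Scheme.{u})
    [P.IsLocalAtTarget Scheme.fppfPrecoverage] : DescendsEtale P := by
  intro X Y Y' X' f π fst f' sq _ _ h
  refine MorphismProperty.IsLocalAtTarget.of_forall_pullbackSnd
    (π.singleton_mem_fppfPrecoverage) ?_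
  rintro _ _ _ ⟨⟩
  rwa [← sq.isoPullback_hom_snd, MorphismProperty.cancel_left_of_respectsIso (P := P)] at h

theorem descendsEtale_of_descendsAlong (P : MorphismProperty Scheme.{u})
    [P.DescendsAlong (@Surjective ⊓ @Flat ⊓ @LocallyOfFinitePresentation)] : DescendsEtale P := by
  intro X Y Y' X' f π fst f' sq _ _ h
  exact MorphismProperty.of_isPullback_of_descendsAlong
    (Q := @Surjective ⊓ @Flat ⊓ @LocallyOfFinitePresentation) sq.flip
    ⟨⟨inferInstance, inferInstance⟩, inferInstance⟩ h

/-- Two represented pullbacks of the same morphism along the same map have isomorphic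
projections. -/
theorem property_iff_of_isPullback (P : MorphismProperty Scheme.{u}) [P.RespectsIso]
    {F G : Sp S} {f : F ⟶ G} {T V V' : Over S} {g : (yon S).obj T ⟶ G}
    {fst : (yon S).obj V ⟶ F} {snd : V ⟶ T} {fst' : (yon S).obj V' ⟶ F} {snd' : V' ⟶ T}
    (sq : IsPullback fst ((yon S).map snd) f g) (sq' : IsPullback fst' ((yon S).map snd') f g) :
    P snd.left ↔ P snd'.left := by
  let e : V ≅ V' := (yon S).preimageIso (sq.isoIsPullback _ _ sq')
  have he : e.hom ≫ snd' = snd := by
    apply (yon S).map_injective
    simp [e]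
  have : snd.left = e.hom.left ≫ snd'.left := by rw [← Over.comp_left, he]
  rw [this]
  have : IsIso e.hom.left := inferInstanceAs (IsIso ((Over.forget S).map e.hom))
  exact P.cancel_left_of_respectsIso _ _

/-- Descent: a representable morphism whose base change to one etale surjective chart has `P`
is representable with `P`. -/
theorem repWith_of_chart (P : MorphismProperty Scheme.{u}) [P.IsStableUnderBaseChange]
    (hP : DescendsEtale P) {F G : Sp S} (f : F ⟶ G) (hf : Representable f) {U V : Over S}
    (q : (yon S).obj U ⟶ G) (hqe : RepWith @Etale q) (hqs : RepWith @Surjective q)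
    (fst : (yon S).obj V ⟶ F) (g : V ⟶ U) (sq : IsPullback fst ((yon S).map g) f q)
    (hg : P g.left) : RepWith P f := by
  have : P.RespectsIso := MorphismProperty.IsStableUnderBaseChange.respectsIso
  refine ⟨hf, fun T W c fstW w sqW => ?_⟩
  -- the chart pulled back to `T`
  let T' := hqe.rep.pullback c
  let π : T' ⟶ T := hqe.rep.snd c
  let t : T' ⟶ U := hqe.rep.fst' c
  have sqT : IsPullback ((yon S).map t) ((yon S).map π) q c := hqe.rep.isPullback' c
  have hπe : Etale π.left := hqe.property_snd c
  have hπs : Surjective π.left := hqs.property _ _ _ sqT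
  have sqA := isPullback_restrict sqW π
  have sqB := isPullback_restrict sq t
  rw [← sqT.w] at sqA
  have h1 : P (pullback.snd g t).left := by
    have := ((IsPullback.of_hasPullback g t).map (Over.forget S))
    exact P.of_isPullback this hg
  have h2 : P (pullback.snd w π).left := (property_iff_of_isPullback P sqA sqB).2 h1
  exact hP ((IsPullback.of_hasPullback w π).map (Over.forget S)) hπe hπs h2

end Groth.Agent.Lib.AlgSpDescent_helper7
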