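import Groth.Agent.Lib.AlgSpLocP_helper7
import Mathlib.AlgebraicGeometry.Morphisms.Smooth
import Mathlib.AlgebraicGeometry.Morphisms.QuasiFinite
import Mathlib.AlgebraicGeometry.Morphisms.FormallyUnramified
import Mathlib.RingTheory.Unramified.LocalStructure

/-!
# Etale morphisms of algebraic spaces (helper7)
-/

set_option autoImplicit false
universe u
open CategoryTheory CategoryTheory.Limits AlgebraicGeometry Opposite

namespace Groth.Agent.Lib.AlgSpEtale_helper7

open AlgSp Groth.Agent.Lib.AlgSpLocP_helper7

variable {S : Scheme.{u}}

/-- An unramified morphism of schemes (locally of finite type and formally unramified) is locally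
quasi-finite. -/
theorem locallyQuasiFinite_of_unramified {A B : Scheme.{u}} (g : A ⟶ B) [LocallyOfFiniteType g]
    [FormallyUnramified g] : LocallyQuasiFinite g := by
  constructor
  intro U hU V hV e
  have h1 := LocallyOfFiniteType.finiteType_appLE (f := g) hU hV e
  have h2 := FormallyUnramified.formallyUnramified_appLE (f := g) hU hV e
  algebraize [(g.appLE U V e).hom]
  have : Algebra.EssFiniteType Γ(B, U) Γ(A, V) := inferInstance
  show Algebra.QuasiFinite _ _
  infer_instance

/-- An étale morphism (in the sense of the reference) has every property `P` of étale morphisms of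
schemes, étale locally on the source and target. -/
theorem locP_of_isEtaleMor (P : MorphismProperty Scheme.{u})
    (hE : ∀ ⦃A B : Scheme.{u}⦄ (g : A ⟶ B), Etale g → P g)
    {X Y : Sp S} (f : X ⟶ Y) (hf : IsEtaleMor f) : LocP P f := by
  intro U V a b h hae hbe comm
  have h1 : RepWith @Etale ((yon S).map h ≫ b) := by rw [← comm]; exact hf a hae
  have h2 : RepWith @Etale ((yon S).map h) := repWith_etale_of_comp _ b h1 hbe
  exact hE _ ((repWith_yon_map_iff _ _).1 h2)

end Groth.Agent.Lib.AlgSpEtale_helper7
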