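import Groth.Agent.Lib.AlgSpUBF_helper4
import Mathlib.AlgebraicGeometry.Artinian
import Mathlib.AlgebraicGeometry.Morphisms.QuasiFinite
import Mathlib.AlgebraicGeometry.Morphisms.Flat
import Mathlib.AlgebraicGeometry.Morphisms.FlatDescent
import Mathlib.AlgebraicGeometry.Morphisms.LocalFlatDescent
import Mathlib.AlgebraicGeometry.Limits

/-!
# Universally bounded fibres: finite schemes over a field (helper4)
-/

set_option autoImplicit false
universe u
open CategoryTheory CategoryTheory.Limits AlgebraicGeometry Opposite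

namespace Groth.Agent.Lib.AlgSpUBF2_helper4

open AlgSp

variable {K : Type u} [Field K]

/-- The structure ring homomorphism `K → Γ(T, ⊤)` of a scheme over a field. -/
noncomputable def strHom {T : Scheme.{u}} (c : T ⟶ Spec (CommRingCat.of K)) : K →+* Γ(T, ⊤) :=
  ((Scheme.ΓSpecIso (CommRingCat.of K)).inv ≫ c.appTop).hom

theorem strHom_comp {T' T : Scheme.{u}} (g : T' ⟶ T) (c : T ⟶ Spec (CommRingCat.of K)) :
    strHom (g ≫ c) = g.appTop.hom.comp (strHom c) := by
  simp only [strHom, Scheme.Hom.comp_appTop, CommRingCat.hom_comp, RingHom.comp_assoc]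

theorem specMap_strHom {T : Scheme.{u}} [IsAffine T] (c : T ⟶ Spec (CommRingCat.of K)) :
    Spec.map (CommRingCat.ofHom (strHom c)) = T.isoSpec.inv ≫ c := by
  rw [← Scheme.isoSpec_inv_naturality, Scheme.isoSpec_Spec_inv, ← Spec.map_comp]
  rfl

theorem isFinite_iff_strHom {T : Scheme.{u}} (c : T ⟶ Spec (CommRingCat.of K)) :
    IsFinite c ↔ IsAffine T ∧ (strHom c).Finite := by
  rw [HasAffineProperty.iff_of_isAffine (P := @IsFinite)]
  refine and_congr Iff.rfl ⟨fun h => ?_, fun h => ?_⟩
  · exact RingHom.Finite.comp h (RingHom.Finite.of_surjective _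
      (ConcreteCategory.bijective_of_isIso (Scheme.ΓSpecIso (CommRingCat.of K)).inv).surjective)
  · exact RingHom.Finite.of_comp_finite h

theorem finrank_eq_finrank_strHom {T : Scheme.{u}} (c : T ⟶ Spec (CommRingCat.of K)) [IsFinite c]
    (s : ↥(Spec (CommRingCat.of K))) :
    c.finrank s = (letI := (strHom c).toAlgebra; Module.finrank K Γ(T, ⊤)) := by
  have : IsAffine T := isAffine_of_isAffineHom c
  have hφ := specMap_strHom c
  have hfin : IsFinite (Spec.map (CommRingCat.ofHom (strHom c))) := by rw [hφ]; infer_instance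
  have hflat : Flat (Spec.map (CommRingCat.ofHom (strHom c))) := inferInstance
  have h1 : c.finrank s = (Spec.map (CommRingCat.ofHom (strHom c))).finrank s := by
    rw [hφ, Scheme.Hom.finrank_comp_left_of_isIso]
  rw [IsFinite.SpecMap_iff] at hfin
  rw [Flat.SpecMap_iff] at hflat
  rw [Scheme.Hom.finrank_SpecMap_eq_finrank hfin hflat] at h1
  letI := (strHom c).toAlgebra
  have : Module.Finite K Γ(T, ⊤) := hfin
  rw [h1]
  change (algebraMap K Γ(T, ⊤)).finrank s = _
  rw [RingHom.finrank_algebraMap, Module.rankAtStalk_eq_finrank_of_free]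
  rfl


theorem isLocallyArtinian_spec_field : IsLocallyArtinian (Spec (CommRingCat.of K)) :=
  Scheme.isLocallyArtinianScheme_Spec.mpr (inferInstanceAs (IsArtinianRing K))

/-- A scheme finite over a field is a finite discrete space. -/
theorem finite_discrete_of_isFinite {T : Scheme.{u}} (c : T ⟶ Spec (CommRingCat.of K)) [IsFinite c] :
    Finite ↥T ∧ DiscreteTopology ↥T := by
  have hk : IsLocallyArtinian (Spec (CommRingCat.of K)) := isLocallyArtinian_spec_field
  have : IsAffine T := isAffine_of_isAffineHom c
  have : IsLocallyArtinian T := IsLocallyArtinian.of_locallyQuasiFinite c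
  have : IsArtinianScheme T := {}
  exact ⟨inferInstance, inferInstance⟩

/-- The target of a flat surjective morphism from a finite discrete scheme is finite discrete. -/
theorem finite_discrete_of_flat_surjective {T' T : Scheme.{u}} (g : T' ⟶ T) [Flat g] [Surjective g]
    [Finite ↥T'] [DiscreteTopology ↥T'] : Finite ↥T ∧ DiscreteTopology ↥T := by
  have : QuasiCompact g := ⟨fun U _ _ => (Set.toFinite _).isCompact⟩
  have hq := Flat.isQuotientMap_of_surjective g
  refine ⟨Finite.of_surjective g g.surjective, ?_⟩
  rw [discreteTopology_iff_forall_isOpen]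
  intro s
  exact hq.isOpen_preimage.mp (isOpen_discrete _)

/-- Claim A: finiteness over a field descends along flat surjections, with a bound on the rank. -/
theorem isFinite_of_flat_surjective_comp {T' T : Scheme.{u}} (g : T' ⟶ T) [Flat g] [Surjective g]
    (c : T ⟶ Spec (CommRingCat.of K)) [IsFinite (g ≫ c)] (s : ↥(Spec (CommRingCat.of K))) :
    IsFinite c ∧ c.finrank s ≤ (g ≫ c).finrank s := by
  have : IsAffine T' := isAffine_of_isAffineHom (g ≫ c)
  obtain ⟨_, _⟩ := finite_discrete_of_isFinite (g ≫ c)
  obtain ⟨_, _⟩ := finite_discrete_of_flat_surjective g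
  have : IsAffine T := inferInstance
  have hff : g.appTop.hom.FaithfullyFlat :=
    (Flat.flat_and_surjective_iff_faithfullyFlat_of_isAffine g).mp ⟨inferInstance, inferInstance⟩
  have hinj : Function.Injective g.appTop.hom := hff.injective
  have hfin' : (strHom (g ≫ c)).Finite := ((isFinite_iff_strHom _).mp inferInstance).2
  have key := finrank_eq_finrank_strHom (g ≫ c) s
  rw [strHom_comp] at hfin' key
  letI := (strHom c).toAlgebra
  letI : Algebra K Γ(T', ⊤) := (g.appTop.hom.comp (strHom c)).toAlgebra
  let l : Γ(T, ⊤) →ₗ[K] Γ(T', ⊤) :=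
    { toFun := g.appTop.hom
      map_add' := map_add _
      map_smul' := fun a x => by
        simp only [Algebra.smul_def, map_mul, RingHom.id_apply]
        rfl }
  have hl : Function.Injective l := hinj
  have : Module.Finite K Γ(T', ⊤) := hfin'
  have hfinT : Module.Finite K Γ(T, ⊤) := Module.Finite.of_injective l hl
  have hc : IsFinite c := (isFinite_iff_strHom c).mpr ⟨inferInstance, hfinT⟩
  refine ⟨hc, ?_⟩
  rw [finrank_eq_finrank_strHom c, key]
  exact LinearMap.finrank_le_finrank_of_injective hl


/-- Claim A': finiteness over a field descends along field extensions, and the rank is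
preserved. -/
theorem isFinite_of_isPullback_field {T T' : Scheme.{u}} {L : Type u} [Field L]
    (c : T ⟶ Spec (CommRingCat.of K)) (a : Spec (CommRingCat.of L) ⟶ Spec (CommRingCat.of K))
    (g : T' ⟶ T) (c' : T' ⟶ Spec (CommRingCat.of L)) (sq : IsPullback g c' c a) [IsFinite c']
    (s : ↥(Spec (CommRingCat.of K))) (s' : ↥(Spec (CommRingCat.of L))) :
    IsFinite c ∧ c.finrank s = c'.finrank s' := by
  have hk : IsLocallyArtinian (Spec (CommRingCat.of K)) := isLocallyArtinian_spec_field
  have ha1 : Flat a := inferInstance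
  have ha2 : Surjective a := ⟨fun x => ⟨s', Subsingleton.elim _ _⟩⟩
  have ha3 : QuasiCompact a := inferInstance
  have hQ : (@Surjective ⊓ @Flat ⊓ @QuasiCompact : MorphismProperty Scheme.{u}) a :=
    ⟨⟨ha2, ha1⟩, ha3⟩
  have hlft : LocallyOfFiniteType c :=
    MorphismProperty.of_isPullback_of_descendsAlong (P := @LocallyOfFiniteType)
      (Q := (@Surjective ⊓ @Flat ⊓ @QuasiCompact : MorphismProperty Scheme.{u})) sq.flip hQ
      (inferInstance : LocallyOfFiniteType c')
  have hg : Surjective g := MorphismProperty.of_isPullback (P := @Surjective) sq.flip ha2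
  obtain ⟨_, _⟩ := finite_discrete_of_isFinite c'
  have : Finite ↥T := Finite.of_surjective g g.surjective
  have : LocallyQuasiFinite c :=
    LocallyQuasiFinite.of_finite_preimage_singleton c (fun _ => Set.toFinite _)
  have : QuasiCompact c := ⟨fun U _ _ => (Set.toFinite _).isCompact⟩
  have hc : IsFinite c := IsFinite.of_locallyQuasiFinite c
  refine ⟨hc, ?_⟩
  have h1 := Scheme.Hom.finrank_of_isPullback g c' c a sq s'
  rw [h1]
  congr 1
  exact Subsingleton.elim _ _


end Groth.Agent.Lib.AlgSpUBF2_helper4
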