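import Mathlib

/-!
# Elementary étale neighbourhoods and finite parts of quasi-finite morphisms (helper4)

Scheme-level version of Stacks 00UJ keeping track of residue fields.
-/

open AlgebraicGeometry CategoryTheory Limits TensorProduct

universe u

namespace Groth.Agent.Lib.EtNbhdFinH4

/-! ## Field epimorphisms are surjective -/

lemma surjective_of_isEpi_of_field {K L : Type u} [CommRing K] [CommRing L] [Algebra K L]
    (hK : IsField K) [Nontrivial L]
    (h : Algebra.IsEpi K L) : Function.Surjective (algebraMap K L) := by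
  letI := hK.toField
  rw [Algebra.isEpi_iff_forall_one_tmul_eq] at h
  obtain ⟨g, hg⟩ := LinearMap.exists_leftInverse_of_injective (Algebra.linearMap K L)
    (LinearMap.ker_eq_bot.mpr (algebraMap K L).injective)
  intro a
  refine ⟨g a, ?_⟩
  have h1 := congrArg (fun z => TensorProduct.lid K L (LinearMap.rTensor L g z)) (h a)
  have hg1 : g 1 = 1 := by
    have := LinearMap.congr_fun hg 1
    simpa using this
  simp only [LinearMap.rTensor_tmul, TensorProduct.lid_tmul, hg1, one_smul] at h1
  rw [Algebra.algebraMap_eq_smul_one]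
  exact h1.symm

lemma surjective_of_epi_of_field {K L : CommRingCat.{u}} (hK : IsField K) [Nontrivial L]
    (φ : K ⟶ L) [Epi φ] : Function.Surjective φ.hom := by
  algebraize [φ.hom]
  have h1 : Epi (CommRingCat.ofHom (algebraMap K L)) := by
    have : CommRingCat.ofHom (algebraMap K L) = φ := rfl
    rw [this]; infer_instance
  exact surjective_of_isEpi_of_field hK (CommRingCat.epi_iff_epi.mp h1)

/-! ## Points of fibre products over a point with trivial residue field extension -/

section Pullback

variable {X U S : Scheme.{u}} (f : X ⟶ S) (g : U ⟶ S)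

lemma isIso_tensorInl (T : Scheme.Pullback.Triplet f g)
    (hg : Function.Bijective (g.residueFieldMap T.y)) : IsIso T.tensorInl := by
  have : IsIso (g.residueFieldMap T.y) := (ConcreteCategory.isIso_iff_bijective _).mpr hg
  have h2 : IsIso ((S.residueFieldCongr T.hy).inv ≫ g.residueFieldMap T.y) := inferInstance
  unfold Scheme.Pullback.Triplet.tensorInl
  exact pushout_inl_iso_of_right_iso _ _

lemma epi_ofPointTensor (t : ↑(pullback f g)) : Epi (Scheme.Pullback.ofPointTensor t) := by
  have hmono : Mono (Spec.map (Scheme.Pullback.ofPointTensor t)) := by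
    have h1 := Scheme.Pullback.ofPointTensor_SpecTensorTo t
    have : Mono (Spec.map (Scheme.Pullback.ofPointTensor t) ≫
        (Scheme.Pullback.Triplet.ofPoint t).SpecTensorTo) := by
      rw [h1]; infer_instance
    exact mono_of_mono _ (Scheme.Pullback.Triplet.ofPoint t).SpecTensorTo
  constructor
  intro Z a b hab
  apply Spec.map_injective
  rw [← cancel_mono (Spec.map (Scheme.Pullback.ofPointTensor t)), ← Spec.map_comp,
    ← Spec.map_comp, hab]

/-- In a fibre product `X ×_S U`, at a point `t` whose image `u` in `U` has trivial residue field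
extension over `S`, the residue field extension `κ(x) → κ(t)` is trivial. -/
theorem residueFieldMap_fst_bijective (t : ↑(pullback f g))
    (hg : Function.Bijective (g.residueFieldMap (pullback.snd f g t))) :
    Function.Bijective ((pullback.fst f g).residueFieldMap t) := by
  refine ⟨((pullback.fst f g).residueFieldMap t).hom.injective, ?_⟩
  have h1 : IsIso (Scheme.Pullback.Triplet.ofPoint t).tensorInl :=
    isIso_tensorInl f g (Scheme.Pullback.Triplet.ofPoint t) hg
  have h2 := epi_ofPointTensor f g t
  have h3 : (pullback.fst f g).residueFieldMap t =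
      (Scheme.Pullback.Triplet.ofPoint t).tensorInl ≫ Scheme.Pullback.ofPointTensor t :=
    (pushout.inl_desc _ _ _).symm
  have h4 : Epi ((pullback.fst f g).residueFieldMap t) := by
    rw [h3]
    have h5 : Epi (Scheme.Pullback.Triplet.ofPoint t).tensorInl := @IsIso.epi_of_iso _ _ _ _ _ h1
    exact @epi_comp _ _ _ _ _ _ h5 _ h2
  exact surjective_of_epi_of_field (Field.toIsField _) _

/-- Uniqueness of the point of `X ×_S U` over `(x, u)` when `κ(u)` is trivial over `κ(s)`. -/
theorem eq_of_fst_eq_of_snd_eq (t₁ t₂ : ↑(pullback f g))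
    (h1 : pullback.fst f g t₁ = pullback.fst f g t₂)
    (h2 : pullback.snd f g t₁ = pullback.snd f g t₂)
    (hg : Function.Bijective (g.residueFieldMap (pullback.snd f g t₂))) : t₁ = t₂ := by
  apply Scheme.Pullback.carrierEquiv.injective
  have e : Scheme.Pullback.Triplet.ofPoint t₁ = Scheme.Pullback.Triplet.ofPoint t₂ := by
    ext <;> simp [h1, h2]
  have hiso : IsIso (Scheme.Pullback.Triplet.ofPoint t₂).tensorInl :=
    isIso_tensorInl f g (Scheme.Pullback.Triplet.ofPoint t₂) hg
  have hsub : Subsingleton ↑(Spec (Scheme.Pullback.Triplet.ofPoint t₂).tensor) := by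
    have hinj : Function.Injective
        (Spec.map (Scheme.Pullback.Triplet.ofPoint t₂).tensorInl) :=
      (Scheme.Hom.homeomorph (Spec.map (Scheme.Pullback.Triplet.ofPoint t₂).tensorInl)).injective
    exact hinj.subsingleton
  exact Scheme.Pullback.carrierEquiv_eq_iff.mpr ⟨e, hsub.elim _ _⟩

end Pullback

/-! ## Residue field maps of `Spec.map` -/

lemma residueField_map_surjective_iff {A B : Type*} [CommRing A] [CommRing B] [IsLocalRing A]
    [IsLocalRing B] (ψ : A →+* B) [IsLocalHom ψ] :
    Function.Surjective (IsLocalRing.ResidueField.map ψ) ↔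
      ∀ b : B, ∃ a : A, b - ψ a ∈ IsLocalRing.maximalIdeal B := by
  constructor
  · intro h b
    obtain ⟨y, hy⟩ := h (IsLocalRing.residue B b)
    obtain ⟨a, rfl⟩ := IsLocalRing.residue_surjective y
    refine ⟨a, ?_⟩
    rw [IsLocalRing.ResidueField.map_residue] at hy
    rw [← IsLocalRing.residue_eq_zero_iff, map_sub, hy, sub_self]
  · intro h y
    obtain ⟨b, rfl⟩ := IsLocalRing.residue_surjective y
    obtain ⟨a, ha⟩ := h b
    refine ⟨IsLocalRing.residue A a, ?_⟩
    rw [IsLocalRing.ResidueField.map_residue]
    rw [← IsLocalRing.residue_eq_zero_iff, map_sub, sub_eq_zero] at ha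
    exact ha.symm

lemma criterion_transfer {A A' B B' : Type*} [CommRing A] [CommRing A'] [CommRing B] [CommRing B']
    [IsLocalRing B] [IsLocalRing B']
    (ψ : A →+* B) (ψ' : A' →+* B') (eA : A ≃+* A') (eB : B ≃+* B')
    (hcomm : ∀ a, eB (ψ a) = ψ' (eA a))
    (h : ∀ b' : B', ∃ a' : A', b' - ψ' a' ∈ IsLocalRing.maximalIdeal B') :
    ∀ b : B, ∃ a : A, b - ψ a ∈ IsLocalRing.maximalIdeal B := by
  intro b
  obtain ⟨a', ha'⟩ := h (eB b)
  refine ⟨eA.symm a', ?_⟩
  rw [IsLocalRing.mem_maximalIdeal, mem_nonunits_iff] at ha' ⊢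
  intro hu
  apply ha'
  have := hu.map eB
  rwa [map_sub, hcomm, RingEquiv.apply_symm_apply] at this

set_option backward.isDefEq.respectTransparency.types false in
lemma specMap_residueFieldMap_surjective {A B : CommRingCat.{u}} (φ : A ⟶ B) (P : PrimeSpectrum B)
    (p : Ideal A) [p.IsPrime] (hp : p = P.asIdeal.comap φ.hom)
    (h : Function.Surjective (Ideal.ResidueField.map p P.asIdeal φ.hom hp)) :
    Function.Surjective ((Spec.map φ).residueFieldMap P) := by
  subst hp
  change Function.Surjective (IsLocalRing.ResidueField.map ((Spec.map φ).stalkMap P).hom)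
  rw [residueField_map_surjective_iff] at h ⊢
  have key := Scheme.localRingHom_comp_stalkIso φ P
  have key2 : (Spec.map φ).stalkMap P ≫ (Spec.stalkIso B P).hom =
      (Spec.stalkIso A (P.comap φ.hom)).hom ≫ CommRingCat.ofHom (Localization.localRingHom
        (PrimeSpectrum.comap φ.hom P).asIdeal P.asIdeal φ.hom rfl) := by
    exact ((Iso.comp_inv_eq (Spec.stalkIso B P)).mp ((Category.assoc _ _ _).trans key)).symm
  refine criterion_transfer ((Spec.map φ).stalkMap P).hom (Localization.localRingHom
        (PrimeSpectrum.comap φ.hom P).asIdeal P.asIdeal φ.hom rfl)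
    (Spec.stalkIso A (P.comap φ.hom)).commRingCatIsoToRingEquiv
    (Spec.stalkIso B P).commRingCatIsoToRingEquiv ?_ h
  intro a
  exact congrArg (fun ψ => ψ.hom a) key2

end Groth.Agent.Lib.EtNbhdFinH4
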