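import Mathlib
import Groth.Agent.Lib.EtNbhdFin2_helper4

/-!
# Finite parts at several quasi-finite points after an elementary étale neighbourhood (helper4)
-/

open AlgebraicGeometry CategoryTheory Limits

universe u

namespace Groth.Agent.Lib.EtNbhdFinH4

lemma bijective_comp' {A B C : CommRingCat.{u}} (a : A ⟶ B) (b : B ⟶ C)
    (ha : Function.Bijective a) (hb : Function.Bijective b) : Function.Bijective (a ≫ b) := by
  have h1 : IsIso a := (ConcreteCategory.isIso_iff_bijective _).mpr ha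
  have h2 : IsIso b := (ConcreteCategory.isIso_iff_bijective _).mpr hb
  exact ConcreteCategory.bijective_of_isIso (a ≫ b)

lemma bijective_residueFieldMap_of_eq {X Y : Scheme.{u}} {f g : X ⟶ Y} (e : f = g) (x : X)
    (h : Function.Bijective (g.residueFieldMap x)) : Function.Bijective (f.residueFieldMap x) := by
  subst e; exact h

lemma bijective_residueFieldMap_of_point_eq {X Y : Scheme.{u}} (f : X ⟶ Y) {x x' : X} (e : x = x')
    (h : Function.Bijective (f.residueFieldMap x')) : Function.Bijective (f.residueFieldMap x) := by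
  subst e; exact h

lemma bijective_residueFieldMap_of_isIso {X Y : Scheme.{u}} (f : X ⟶ Y) [IsIso f] (x : X) :
    Function.Bijective (f.residueFieldMap x) :=
  ConcreteCategory.bijective_of_isIso _

section IsPullback

variable {P X U S : Scheme.{u}} {fst : P ⟶ X} {snd : P ⟶ U} {f : X ⟶ S} {g : U ⟶ S}

theorem residueFieldMap_fst_bijective_of_isPullback (h : IsPullback fst snd f g) (t : P)
    (hg : Function.Bijective (g.residueFieldMap (snd t))) :
    Function.Bijective (fst.residueFieldMap t) := by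
  have hs : pullback.snd f g (h.isoPullback.hom t) = snd t := by
    rw [← Scheme.Hom.comp_apply, h.isoPullback_hom_snd]
  refine bijective_residueFieldMap_of_eq h.isoPullback_hom_fst.symm t ?_
  rw [Scheme.residueFieldMap_comp]
  refine bijective_comp' _ _ ?_ (bijective_residueFieldMap_of_isIso _ _)
  apply residueFieldMap_fst_bijective
  exact bijective_residueFieldMap_of_point_eq g hs hg

theorem eq_of_isPullback (h : IsPullback fst snd f g) (t₁ t₂ : P)
    (h1 : fst t₁ = fst t₂) (h2 : snd t₁ = snd t₂)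
    (hg : Function.Bijective (g.residueFieldMap (snd t₂))) : t₁ = t₂ := by
  have hs : ∀ t, pullback.snd f g (h.isoPullback.hom t) = snd t := fun t => by
    rw [← Scheme.Hom.comp_apply, h.isoPullback_hom_snd]
  have hf : ∀ t, pullback.fst f g (h.isoPullback.hom t) = fst t := fun t => by
    rw [← Scheme.Hom.comp_apply, h.isoPullback_hom_fst]
  apply (Scheme.Hom.homeomorph h.isoPullback.hom).injective
  apply eq_of_fst_eq_of_snd_eq f g
  · exact (hf t₁).trans (h1.trans (hf t₂).symm)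
  · exact (hs t₁).trans (h2.trans (hs t₂).symm)
  · exact bijective_residueFieldMap_of_point_eq g (hs t₂) hg

end IsPullback

/-- Quasi-finiteness at a point is stable under base change. -/
theorem quasiFiniteAt_snd {X U S : Scheme.{u}} (f : X ⟶ S) [LocallyOfFiniteType f] (g : U ⟶ S)
    (t : ↑(pullback f g)) (h : f.QuasiFiniteAt (pullback.fst f g t)) :
    (pullback.snd f g).QuasiFiniteAt t := by
  have hpb : IsPullback (pullback.fst f g ∣_ f.quasiFiniteLocus)
      ((pullback.fst f g ⁻¹ᵁ f.quasiFiniteLocus).ι ≫ pullback.snd f g)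
      (f.quasiFiniteLocus.ι ≫ f) g :=
    (isPullback_morphismRestrict (pullback.fst f g) f.quasiFiniteLocus).paste_vert
      (IsPullback.of_hasPullback f g)
  have hq : LocallyQuasiFinite
      ((pullback.fst f g ⁻¹ᵁ f.quasiFiniteLocus).ι ≫ pullback.snd f g) :=
    MorphismProperty.of_isPullback (P := @LocallyQuasiFinite) hpb inferInstance
  have ht : t ∈ pullback.fst f g ⁻¹ᵁ f.quasiFiniteLocus := h
  have h1 := Scheme.Hom.quasiFiniteAt
    ((pullback.fst f g ⁻¹ᵁ f.quasiFiniteLocus).ι ≫ pullback.snd f g) ⟨t, ht⟩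
  rw [Scheme.Hom.quasiFiniteAt_comp_iff_of_isOpenImmersion] at h1
  exact h1

/-- The finite-part data at `u` over `x`, for a fibre-product-like scheme `P` with projections. -/
def FinPartAt {X U P : Scheme.{u}} (p₁ : P ⟶ X) (p₂ : P ⟶ U) (u : U) (x : X) : Prop :=
  ∃ (V : P.Opens) (v : P), v ∈ V ∧ IsFinite (V.ι ≫ p₂) ∧ p₂ v = u ∧
    (∀ w : P, w ∈ V → p₂ w = u → w = v) ∧ p₁ v = x ∧ Function.Bijective (p₁.residueFieldMap v)

theorem FinPartAt.of_iso {X U P P' : Scheme.{u}} {p₁ : P ⟶ X} {p₂ : P ⟶ U} {p₁' : P' ⟶ X}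
    {p₂' : P' ⟶ U} {u : U} {x : X} (h : FinPartAt p₁ p₂ u x) (e : P' ≅ P)
    (h1 : e.hom ≫ p₁ = p₁') (h2 : e.hom ≫ p₂ = p₂') : FinPartAt p₁' p₂' u x := by
  obtain ⟨V, v, hvV, hfin, hp2, huniq, hp1, hres⟩ := h
  subst h1 h2
  have hev : e.hom (e.inv v) = v := by
    rw [← Scheme.Hom.comp_apply, e.inv_hom_id]; rfl
  refine ⟨e.hom ⁻¹ᵁ V, e.inv v, ?_, ?_, ?_, ?_, ?_, ?_⟩
  · change e.hom (e.inv v) ∈ V
    rw [hev]; exact hvV
  · have : (e.hom ⁻¹ᵁ V).ι ≫ e.hom ≫ p₂ = (e.hom ∣_ V) ≫ V.ι ≫ p₂ := by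
      rw [← Category.assoc, ← morphismRestrict_ι, Category.assoc]
    rw [this]
    infer_instance
  · rw [Scheme.Hom.comp_apply, hev, hp2]
  · intro w hw hw2
    have hw' : e.hom w ∈ V := hw
    have := huniq (e.hom w) hw' (by rw [← hw2, Scheme.Hom.comp_apply])
    rw [← this, ← Scheme.Hom.comp_apply, e.hom_inv_id]; rfl
  · rw [Scheme.Hom.comp_apply, hev, hp1]
  · rw [Scheme.residueFieldMap_comp]
    refine bijective_comp' _ _ ?_ (bijective_residueFieldMap_of_isIso _ _)
    exact bijective_residueFieldMap_of_point_eq p₁ hev hres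

theorem FinPartAt.baseChange {X U U₁ P P₁ : Scheme.{u}} {p₁ : P ⟶ X} {p₂ : P ⟶ U} {u : U} {x : X}
    (h : FinPartAt p₁ p₂ u x) {g₁ : U₁ ⟶ U} {q₁ : P₁ ⟶ P} {q₂ : P₁ ⟶ U₁}
    (hpb : IsPullback q₁ q₂ p₂ g₁) (u₁ : U₁) (hu₁ : g₁ u₁ = u)
    (hres₁ : Function.Bijective (g₁.residueFieldMap u₁)) :
    FinPartAt (q₁ ≫ p₁) q₂ u₁ x := by
  obtain ⟨V, v, hvV, hfin, hp2, huniq, hp1, hres⟩ := h
  obtain ⟨v₁, hv₁1, hv₁2⟩ := Scheme.exists_preimage_of_isPullback hpb v u₁
    (by rw [hp2, hu₁])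
  have hv₁2' : q₂ v₁ = u₁ := hv₁2
  have hv₁1' : q₁ v₁ = v := hv₁1
  refine ⟨q₁ ⁻¹ᵁ V, v₁, ?_, ?_, hv₁2', ?_, ?_, ?_⟩
  · change q₁ v₁ ∈ V
    rw [hv₁1']; exact hvV
  · have hpb2 : IsPullback (q₁ ∣_ V) ((q₁ ⁻¹ᵁ V).ι ≫ q₂) (V.ι ≫ p₂) g₁ :=
      (isPullback_morphismRestrict q₁ V).paste_vert hpb
    exact MorphismProperty.of_isPullback (P := @IsFinite) hpb2 hfin
  · intro w hw hw2
    have hw' : q₁ w ∈ V := hw
    have hcomm : p₂ (q₁ w) = g₁ (q₂ w) := by
      rw [← Scheme.Hom.comp_apply, ← Scheme.Hom.comp_apply, hpb.w]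
    have h3 : q₁ w = v := huniq (q₁ w) hw' (by rw [hcomm, hw2, hu₁])
    apply eq_of_isPullback hpb w v₁ (h3.trans hv₁1'.symm) (hw2.trans hv₁2'.symm)
    exact bijective_residueFieldMap_of_point_eq g₁ hv₁2' hres₁
  · rw [Scheme.Hom.comp_apply, hv₁1', hp1]
  · rw [Scheme.residueFieldMap_comp]
    refine bijective_comp' _ _ ?_ ?_
    · exact bijective_residueFieldMap_of_point_eq p₁ hv₁1' hres
    · apply residueFieldMap_fst_bijective_of_isPullback hpb
      exact bijective_residueFieldMap_of_point_eq g₁ hv₁2' hres₁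

/-- Several quasi-finite points over `s`: a common elementary étale neighbourhood. -/
theorem multi (ι : Type) [Finite ι] : ∀ {X S : Scheme.{u}} (f : X ⟶ S) [LocallyOfFiniteType f]
    (s : S) (x : ι → X) (_ : ∀ i, f (x i) = s) (_ : ∀ i, f.QuasiFiniteAt (x i)),
    ∃ (U : Scheme.{u}) (g : U ⟶ S) (u : U), Etale g ∧ g u = s ∧
      Function.Bijective (g.residueFieldMap u) ∧
      ∀ i, FinPartAt (pullback.fst f g) (pullback.snd f g) u (x i) := by
  induction ι using Finite.induction_empty_option with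
  | of_equiv e IH =>
    intro X S f _ s x hs hx
    obtain ⟨U, g, u, hg, hu, hb, H⟩ := IH f s (x ∘ e) (fun i => hs _) (fun i => hx _)
    refine ⟨U, g, u, hg, hu, hb, fun i => ?_⟩
    have := H (e.symm i)
    simpa using this
  | h_empty =>
    intro X S f _ s x hs hx
    exact ⟨S, 𝟙 S, s, inferInstance, rfl, bijective_residueFieldMap_of_isIso _ _,
      fun i => i.elim⟩
  | h_option IH =>
    intro X S f _ s x hs hx
    obtain ⟨U₀, g₀, u₀, hg₀, hu₀, hb₀, V₀, v₀, hv₀V, hfin₀, hsnd₀, huniq₀, hfst₀⟩ :=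
      master f (hx none)
    have hex : ∀ i, ∃ t : ↑(pullback f g₀),
        pullback.fst f g₀ t = x (some i) ∧ pullback.snd f g₀ t = u₀ := fun i =>
      Scheme.Pullback.exists_preimage_pullback (x (some i)) u₀
        (by rw [hs, hu₀, hs])
    choose x' hx'1 hx'2 using hex
    have hqf : ∀ i, (pullback.snd f g₀).QuasiFiniteAt (x' i) := fun i =>
      quasiFiniteAt_snd f g₀ (x' i) (by rw [hx'1]; exact hx (some i))
    obtain ⟨U₁, g₁, u₁, hg₁, hu₁, hb₁, H⟩ := IH (pullback.snd f g₀) u₀ x' hx'2 hqf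
    refine ⟨U₁, g₁ ≫ g₀, u₁, inferInstance, ?_, ?_, ?_⟩
    · rw [Scheme.Hom.comp_apply, hu₁, hu₀, hs]
    · rw [Scheme.residueFieldMap_comp]
      exact bijective_comp' _ _ (bijective_residueFieldMap_of_point_eq g₀ hu₁ hb₀) hb₁
    · intro i
      cases i with
      | none =>
        have h0 : FinPartAt (pullback.fst f g₀) (pullback.snd f g₀) u₀ (x none) :=
          ⟨V₀, v₀, hv₀V, hfin₀, hsnd₀, huniq₀, hfst₀,
            residueFieldMap_fst_bijective f g₀ v₀
              (bijective_residueFieldMap_of_point_eq g₀ hsnd₀ hb₀)⟩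
        have h1 := h0.baseChange (IsPullback.of_hasPullback (pullback.snd f g₀) g₁) u₁ hu₁ hb₁
        exact h1.of_iso (pullbackLeftPullbackSndIso f g₀ g₁).symm
          (pullbackLeftPullbackSndIso_inv_fst f g₀ g₁)
          (pullbackLeftPullbackSndIso_inv_snd_snd f g₀ g₁)
      | some i =>
        obtain ⟨V, v, hvV, hfin, hsnd, huniq, hfst, hres⟩ := H i
        have h1 : FinPartAt (pullback.fst (pullback.snd f g₀) g₁ ≫ pullback.fst f g₀)
            (pullback.snd (pullback.snd f g₀) g₁) u₁ (x (some i)) := by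
          refine ⟨V, v, hvV, hfin, hsnd, huniq, by rw [Scheme.Hom.comp_apply, hfst, hx'1], ?_⟩
          rw [Scheme.residueFieldMap_comp]
          refine bijective_comp' _ _ ?_ hres
          refine bijective_residueFieldMap_of_point_eq (pullback.fst f g₀) hfst ?_
          apply residueFieldMap_fst_bijective
          exact bijective_residueFieldMap_of_point_eq g₀ (hx'2 i) hb₀
        exact h1.of_iso (pullbackLeftPullbackSndIso f g₀ g₁).symm
          (pullbackLeftPullbackSndIso_inv_fst f g₀ g₁)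
          (pullbackLeftPullbackSndIso_inv_snd_snd f g₀ g₁)

end Groth.Agent.Lib.EtNbhdFinH4
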