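import Mathlib
import Groth.Agent.Lib.EtNbhdFin3_helper4

/-!
# Clopen finite part after an elementary étale neighbourhood: finite fibre case (helper4)
-/

open AlgebraicGeometry CategoryTheory Limits

universe u

namespace Groth.Agent.Lib.EtNbhdFinH4

/-- An open subscheme finite over the base of a separated morphism is closed. -/
theorem isClosed_of_isFinite {P U : Scheme.{u}} (p : P ⟶ U) [IsSeparated p] (V : P.Opens)
    (h : IsFinite (V.ι ≫ p)) : IsClosed (V : Set P) := by
  have : IsFinite V.ι := IsFinite.of_comp V.ι p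
  simpa using V.ι.isClosedMap.isClosed_range

set_option backward.isDefEq.respectTransparency false in
open scoped Function in
/-- `coprod.desc` of two open immersions with disjoint ranges is an open immersion. -/
theorem isOpenImmersion_coprodDesc {A B P : Scheme.{u}} (a : A ⟶ P) (b : B ⟶ P)
    [IsOpenImmersion a] [IsOpenImmersion b]
    (hd : Disjoint (Set.range a) (Set.range b)) : IsOpenImmersion (coprod.desc a b) := by
  let α : ∀ i : ULift.{u} WalkingPair, (i.1.casesOn A B : Scheme.{u}) ⟶ P := fun i =>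
    match i with
    | ⟨.left⟩ => a
    | ⟨.right⟩ => b
  have hα : ∀ i, IsOpenImmersion (α i) := by
    rintro ⟨_ | _⟩
    · exact inferInstanceAs (IsOpenImmersion a)
    · exact inferInstanceAs (IsOpenImmersion b)
  have hdis : Pairwise (Disjoint on (Set.range <| α ·)) := by
    rintro ⟨_ | _⟩ ⟨_ | _⟩ hij
    · exact (hij rfl).elim
    · exact hd
    · exact hd.symm
    · exact (hij rfl).elim
  have h1 : IsOpenImmersion (Sigma.desc α) := isOpenImmersion_sigmaDesc _ α hdis
  have h2 : coprod.desc a b = (coprodIsoSigma A B).hom ≫ Sigma.desc α := by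
    apply coprod.hom_ext
    · rw [coprod.inl_desc, ← ι_left_coprodIsoSigma_inv, Category.assoc, Iso.inv_hom_id_assoc,
        Sigma.ι_desc]
    · rw [coprod.inr_desc, ← ι_right_coprodIsoSigma_inv, Category.assoc, Iso.inv_hom_id_assoc,
        Sigma.ι_desc]
  rw [h2]
  infer_instance

theorem range_coprodDesc {A B P : Scheme.{u}} (a : A ⟶ P) (b : B ⟶ P) :
    Set.range (coprod.desc a b) = Set.range a ∪ Set.range b := by
  apply subset_antisymm
  · rintro _ ⟨z, rfl⟩
    obtain ⟨(z | z), rfl⟩ := (coprodMk A B).surjective z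
    · left
      refine ⟨z, ?_⟩
      rw [coprodMk_inl, ← Scheme.Hom.comp_apply, coprod.inl_desc]
    · right
      refine ⟨z, ?_⟩
      rw [coprodMk_inr, ← Scheme.Hom.comp_apply, coprod.inr_desc]
  · rintro _ (⟨z, rfl⟩ | ⟨z, rfl⟩)
    · exact ⟨(coprod.inl : A ⟶ A ⨿ B) z, by rw [← Scheme.Hom.comp_apply, coprod.inl_desc]⟩
    · exact ⟨(coprod.inr : B ⟶ A ⨿ B) z, by rw [← Scheme.Hom.comp_apply, coprod.inr_desc]⟩

/-- Union of two opens finite over the base, one of which is closed, is finite over the base. -/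
theorem isFinite_sup {P U : Scheme.{u}} (p : P ⟶ U) (V₁ V₂ : P.Opens)
    (hc : IsClosed (V₁ : Set P))
    (h1 : IsFinite (V₁.ι ≫ p)) (h2 : IsFinite (V₂.ι ≫ p)) : IsFinite ((V₁ ⊔ V₂).ι ≫ p) := by
  let C : P.Opens := ⟨(V₁ : Set P)ᶜ, hc.isOpen_compl⟩
  let V₂' : P.Opens := V₂ ⊓ C
  have hle : V₂' ≤ V₂ := inf_le_left
  have hcl : IsClosedImmersion (P.homOfLE hle) := by
    apply IsClosedImmersion.of_isPreimmersion
    have hr : Set.range (P.homOfLE hle) = (V₂.ι) ⁻¹' ((V₁ : Set P)ᶜ) := by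
      ext z
      have hzV₂ : V₂.ι z ∈ V₂ := z.2
      constructor
      · rintro ⟨w, rfl⟩
        have hw : V₂'.ι w ∈ V₂' := w.2
        have h3 : V₂.ι (P.homOfLE hle w) = V₂'.ι w := by
          rw [← Scheme.Hom.comp_apply, Scheme.homOfLE_ι]
        change V₂.ι (P.homOfLE hle w) ∈ (V₁ : Set P)ᶜ
        rw [h3]
        exact hw.2
      · intro hz
        have hz' : V₂.ι z ∈ V₂' := ⟨hzV₂, hz⟩
        have hz'' : V₂.ι z ∈ Set.range V₂'.ι := by rw [Scheme.Opens.range_ι]; exact hz'
        obtain ⟨w, hw⟩ := hz''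
        refine ⟨w, ?_⟩
        apply V₂.ι.isOpenEmbedding.injective
        rw [← Scheme.Hom.comp_apply, Scheme.homOfLE_ι]
        exact hw
    rw [hr]
    exact V₁.isOpen.isClosed_compl.preimage V₂.ι.continuous
  have h2' : IsFinite (V₂'.ι ≫ p) := by
    rw [← Scheme.homOfLE_ι P hle, Category.assoc]
    infer_instance
  have hdisj : Disjoint (Set.range V₁.ι) (Set.range V₂'.ι) := by
    rw [Scheme.Opens.range_ι, Scheme.Opens.range_ι, Set.disjoint_left]
    intro z hz1 hz2
    exact hz2.2 hz1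
  have hφ : IsOpenImmersion (coprod.desc V₁.ι V₂'.ι) := isOpenImmersion_coprodDesc _ _ hdisj
  have hφp : IsFinite (coprod.desc V₁.ι V₂'.ι ≫ p) := by
    have : coprod.desc V₁.ι V₂'.ι ≫ p = coprod.desc (V₁.ι ≫ p) (V₂'.ι ≫ p) := by
      apply coprod.hom_ext <;> simp
    rw [this]
    infer_instance
  have hrange : (coprod.desc V₁.ι V₂'.ι).opensRange = V₁ ⊔ V₂ := by
    apply TopologicalSpace.Opens.ext
    rw [Scheme.Hom.coe_opensRange, range_coprodDesc, Scheme.Opens.range_ι, Scheme.Opens.range_ι]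
    ext z
    simp only [TopologicalSpace.Opens.coe_sup, Set.mem_union, SetLike.mem_coe]
    constructor
    · rintro (h | h)
      · exact Or.inl h
      · exact Or.inr h.1
    · rintro (h | h)
      · exact Or.inl h
      · by_cases hz : z ∈ V₁
        · exact Or.inl hz
        · exact Or.inr ⟨h, hz⟩
  rw [← hrange, ← MorphismProperty.cancel_left_of_respectsIso @IsFinite
    (Scheme.Hom.isoOpensRange (coprod.desc V₁.ι V₂'.ι)).hom, ← Category.assoc,
    Scheme.Hom.isoOpensRange_hom_ι]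
  exact hφp

theorem isFinite_finset_sup {P U : Scheme.{u}} (p : P ⟶ U) {ι : Type*} (s : Finset ι)
    (V : ι → P.Opens) (hc : ∀ i ∈ s, IsClosed (V i : Set P))
    (hf : ∀ i ∈ s, IsFinite ((V i).ι ≫ p)) :
    IsFinite ((s.sup V).ι ≫ p) ∧ IsClosed ((s.sup V : P.Opens) : Set P) := by
  classical
  induction s using Finset.induction_on with
  | empty =>
    rw [Finset.sup_empty]
    refine ⟨?_, by simp⟩
    have : IsEmpty ((⊥ : P.Opens) : Scheme.{u}) := by
      constructor
      intro z
      have hz : (⊥ : P.Opens).ι z ∈ (⊥ : P.Opens) := z.2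
      exact hz
    infer_instance
  | insert a s ha IH =>
    rw [Finset.sup_insert]
    obtain ⟨h1, h2⟩ := IH (fun i hi => hc i (Finset.mem_insert_of_mem hi))
      (fun i hi => hf i (Finset.mem_insert_of_mem hi))
    refine ⟨isFinite_sup p _ _ (hc a (Finset.mem_insert_self _ _))
      (hf a (Finset.mem_insert_self _ _)) h1, ?_⟩
    rw [TopologicalSpace.Opens.coe_sup]
    exact (hc a (Finset.mem_insert_self _ _)).union h2

theorem quasiFiniteAt_of_finite_fiber {X Y : Scheme.{u}} (f : X ⟶ Y) [LocallyOfFiniteType f]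
    (x : X) (h : (f ⁻¹' {f x}).Finite) : f.QuasiFiniteAt x := by
  rw [Scheme.Hom.quasiFiniteAt_iff_isOpen_singleton_asFiber]
  have : Finite ↑(f.fiber (f x)) := by
    have : Finite ↑(f ⁻¹' {f x}) := h
    exact Finite.of_equiv _ (f.fiberHomeo (f x)).symm.toEquiv
  exact isOpen_discrete _

/-- Stacks 02LM-style: finite fibre, separated, l.f.t.: clopen finite part after an elementary
étale neighbourhood. -/
theorem main5985 {X Y : Scheme.{u}} (f : X ⟶ Y)
    [LocallyOfFiniteType f] [IsSeparated f] (y : Y) (hfin : (f ⁻¹' {y}).Finite) :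
    ∃ (Y' : Scheme.{u}) (g : Y' ⟶ Y) (y' : Y'), Etale g ∧ g y' = y ∧
      IsIso (g.residueFieldMap y') ∧
      ∃ (V W : (Limits.pullback f g).Opens), IsCompl V W ∧
        IsFinite (V.ι ≫ Limits.pullback.snd f g) ∧
        ∀ x : ↥(Limits.pullback f g), Limits.pullback.snd f g x = y' → x ∈ V := by
  have : Finite ↑(f ⁻¹' {y}) := hfin
  let e := Finite.equivFin ↑(f ⁻¹' {y})
  let x : Fin (Nat.card ↑(f ⁻¹' {y})) → X := fun i => (e.symm i).1
  have hs : ∀ i, f (x i) = y := fun i => (e.symm i).2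
  have hx : ∀ i, f.QuasiFiniteAt (x i) := fun i =>
    quasiFiniteAt_of_finite_fiber f (x i) (by rw [hs i]; exact hfin)
  obtain ⟨U, g, u, hg, hu, hb, H⟩ := multi _ f y x hs hx
  choose V v hV using H
  have hcl : ∀ i, IsClosed (V i : Set ↑(pullback f g)) := fun i =>
    isClosed_of_isFinite (pullback.snd f g) (V i) (hV i).2.1
  obtain ⟨hF, hC⟩ := isFinite_finset_sup (pullback.snd f g) Finset.univ V
    (fun i _ => hcl i) (fun i _ => (hV i).2.1)
  obtain ⟨Vt, hVt⟩ : ∃ Vt, Vt = Finset.univ.sup V := ⟨_, rfl⟩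
  rw [← hVt] at hF hC
  refine ⟨U, g, u, hg, hu, (ConcreteCategory.isIso_iff_bijective _).mpr hb,
    Vt, ⟨(Vt : Set ↑(pullback f g))ᶜ, hC.isOpen_compl⟩, ?_, hF, ?_⟩
  · simp [isCompl_iff, disjoint_iff, codisjoint_iff, SetLike.ext'_iff]
  · intro w hw
    have hfw : f (pullback.fst f g w) = y := by
      have h1 : (pullback.fst f g ≫ f) w = (pullback.snd f g ≫ g) w := by rw [pullback.condition]
      rw [Scheme.Hom.comp_apply, Scheme.Hom.comp_apply, hw, hu] at h1
      exact h1
    let i := e ⟨pullback.fst f g w, hfw⟩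
    have hxi : x i = pullback.fst f g w := by
      change ((e.symm (e ⟨pullback.fst f g w, hfw⟩) : ↑(f ⁻¹' {y})) : X) = _
      rw [Equiv.symm_apply_apply]
    obtain ⟨hvV, -, hsnd, -, hfst, -⟩ := hV i
    have hwv : w = v i := by
      apply eq_of_fst_eq_of_snd_eq f g w (v i) (hxi.symm.trans hfst.symm) (hw.trans hsnd.symm)
      exact bijective_residueFieldMap_of_point_eq g hsnd hb
    rw [hwv, hVt]
    exact (Finset.le_sup (f := V) (Finset.mem_univ i)) hvV

end Groth.Agent.Lib.EtNbhdFinH4
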