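import Mathlib
import Groth.Agent.Lib.GabberIdem_lead

/-!
# Splitting off the finite part over a henselian pair (helper4)
-/

set_option autoImplicit false
universe u

namespace Groth.Agent.Lib.FinSplit2H4

open AlgebraicGeometry CategoryTheory CategoryTheory.Limits

section Alg

theorem core2 {A B : Type u} [CommRing A] [CommRing B] [Algebra A B] [Algebra.IsIntegral A B]
    (I : Ideal A) (hI : I ≤ Ideal.jacobson ⊥) (J : Ideal B)
    (hJ : ∀ p : PrimeSpectrum B, J ≤ p.asIdeal ↔ I ≤ p.asIdeal.comap (algebraMap A B))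
    (hlift : ∀ ebar : B ⧸ J, IsIdempotentElem ebar →
      ∃ e : B, IsIdempotentElem e ∧ Ideal.Quotient.mk J e = ebar)
    (Z : Set (PrimeSpectrum B)) (hZ : IsOpen Z)
    (hclosed : IsClosed (Z ∩ PrimeSpectrum.zeroLocus (J : Set B))) :
    ∃ e : B, IsIdempotentElem e ∧ (PrimeSpectrum.basicOpen e : Set (PrimeSpectrum B)) ⊆ Z ∧
      Z ∩ PrimeSpectrum.zeroLocus (J : Set B) ⊆
        (PrimeSpectrum.basicOpen e : Set (PrimeSpectrum B)) := by
  classical
  obtain ⟨F, hF⟩ : ∃ F : Set (PrimeSpectrum B), F = PrimeSpectrum.zeroLocus (J : Set B) :=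
    ⟨_, rfl⟩
  rw [← hF] at hclosed ⊢
  have hFmem : ∀ p : PrimeSpectrum B, p ∈ F ↔ J ≤ p.asIdeal := by
    intro p
    rw [hF, PrimeSpectrum.mem_zeroLocus, SetLike.coe_subset_coe]
  have hπ : Function.Surjective (Ideal.Quotient.mk J) := Ideal.Quotient.mk_surjective
  have hrange : Set.range (PrimeSpectrum.comap (Ideal.Quotient.mk J)) = F := by
    rw [_root_.range_comap_of_surjective _ (Ideal.Quotient.mk J) hπ, Ideal.mk_ker, hF]
  have hpre : (PrimeSpectrum.comap (Ideal.Quotient.mk J)) ⁻¹' (Z ∩ F) =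
      (PrimeSpectrum.comap (Ideal.Quotient.mk J)) ⁻¹' Z := by
    ext q
    simp only [Set.mem_preimage, Set.mem_inter_iff, and_iff_left_iff_imp]
    intro _
    rw [← hrange]
    exact Set.mem_range_self q
  have hclopen : IsClopen ((PrimeSpectrum.comap (Ideal.Quotient.mk J)) ⁻¹' Z) :=
    ⟨hpre ▸ hclosed.preimage (PrimeSpectrum.continuous_comap (Ideal.Quotient.mk J)),
      hZ.preimage (PrimeSpectrum.continuous_comap (Ideal.Quotient.mk J))⟩
  obtain ⟨ebar, hebar, hD⟩ := PrimeSpectrum.isClopen_iff.mp hclopen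
  obtain ⟨e, he, rfl⟩ := hlift ebar hebar
  have hkey : ∀ q : PrimeSpectrum (B ⧸ J),
      (PrimeSpectrum.comap (Ideal.Quotient.mk J) q ∈
        (PrimeSpectrum.basicOpen e : Set (PrimeSpectrum B))) ↔
        PrimeSpectrum.comap (Ideal.Quotient.mk J) q ∈ Z := by
    intro q
    have h1 : q ∈ (PrimeSpectrum.comap (Ideal.Quotient.mk J)) ⁻¹' Z ↔
        q ∈ (PrimeSpectrum.basicOpen (Ideal.Quotient.mk J e) : Set (PrimeSpectrum (B ⧸ J))) := by
      rw [hD]
    rw [Set.mem_preimage] at h1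
    rw [h1]
    simp only [SetLike.mem_coe, PrimeSpectrum.mem_basicOpen, PrimeSpectrum.comap_asIdeal,
      Ideal.mem_comap]
  have hFD : ∀ p ∈ F, (p ∈ (PrimeSpectrum.basicOpen e : Set (PrimeSpectrum B)) ↔ p ∈ Z) := by
    intro p hp
    rw [← hrange] at hp
    obtain ⟨q, rfl⟩ := hp
    exact hkey q
  refine ⟨e, he, ?_, fun p hp => (hFD p hp.2).mpr hp.1⟩
  by_contra hne
  rw [Set.not_subset] at hne
  obtain ⟨p0, hp0e, hp0Z⟩ := hne
  have hCclosed : IsClosed ((PrimeSpectrum.basicOpen e : Set (PrimeSpectrum B)) ∩ Zᶜ) :=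
    (PrimeSpectrum.isClopen_iff.mpr ⟨e, he, rfl⟩).1.inter hZ.isClosed_compl
  have himg := PrimeSpectrum.isClosedMap_comap_of_isIntegral (algebraMap A B)
    (algebraMap_isIntegral_iff.mpr inferInstance) _ hCclosed
  obtain ⟨a, ha⟩ := (PrimeSpectrum.isClosed_iff_zeroLocus_ideal _).mp himg
  have hane : a ≠ ⊤ := by
    intro h
    have h0 := PrimeSpectrum.zeroLocus_empty_iff_eq_top.mpr h
    rw [← ha] at h0
    have : PrimeSpectrum.comap (algebraMap A B) p0 ∈ (∅ : Set (PrimeSpectrum A)) :=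
      h0 ▸ ⟨p0, ⟨hp0e, hp0Z⟩, rfl⟩
    exact this
  obtain ⟨m, hm, ham⟩ := Ideal.exists_le_maximal a hane
  have hmmem : (⟨m, hm.isPrime⟩ : PrimeSpectrum A) ∈ (PrimeSpectrum.comap (algebraMap A B)) ''
      ((PrimeSpectrum.basicOpen e : Set (PrimeSpectrum B)) ∩ Zᶜ) := by
    rw [ha, PrimeSpectrum.mem_zeroLocus, SetLike.coe_subset_coe]
    exact ham
  obtain ⟨p, ⟨hpe, hpZ⟩, hpc⟩ := hmmem
  have hIm : I ≤ m := hI.trans (sInf_le ⟨bot_le, hm⟩)
  have hpF : p ∈ F := by
    rw [hFmem, hJ]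
    have h2 : p.asIdeal.comap (algebraMap A B) = m := congrArg PrimeSpectrum.asIdeal hpc
    rw [h2]
    exact hIm
  exact hpZ ((hFD p hpF).mp hpe)

end Alg

section Sch

theorem locallyQuasiFinite_of_etale {X Y : Scheme.{u}} (g : X ⟶ Y) [Etale g] :
    LocallyQuasiFinite g := by
  constructor
  intro U hU V hV e
  have h1 : (g.appLE U V e).hom.Etale := Etale.etale_appLE g hU hV e
  algebraize [(g.appLE U V e).hom]
  show Algebra.QuasiFinite _ _
  infer_instance

/-- Zariski's main theorem over an affine base, packaged. -/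
theorem exists_zmt_factor (A : Type u) [CommRing A] {X : Scheme.{u}}
    (f : X ⟶ Spec (CommRingCat.of A))
    [LocallyOfFiniteType f] [QuasiCompact f] [IsSeparated f] [LocallyQuasiFinite f] :
    ∃ (B : CommRingCat.{u}) (φ : CommRingCat.of A ⟶ B) (k : X ⟶ Spec B),
      φ.hom.IsIntegral ∧ IsOpenImmersion k ∧ k ≫ Spec.map φ = f := by
  haveI : IsAffine f.normalization := isAffine_of_isAffineHom f.fromNormalization
  have hφ : f.normalization.isoSpec.hom ≫
      Spec.map ((Scheme.ΓSpecIso (CommRingCat.of A)).inv ≫ f.fromNormalization.appTop) =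
      f.fromNormalization := by
    rw [Spec.map_comp, Scheme.isoSpec_hom_naturality_assoc, Scheme.isoSpec_Spec_hom,
      ← Spec.map_comp, Iso.inv_hom_id, Spec.map_id, Category.comp_id]
  refine ⟨Γ(f.normalization, ⊤),
    (Scheme.ΓSpecIso (CommRingCat.of A)).inv ≫ f.fromNormalization.appTop,
    f.toNormalization ≫ f.normalization.isoSpec.hom, ?_, inferInstance, ?_⟩
  · rw [← IsIntegralHom.SpecMap_iff]
    have : Spec.map ((Scheme.ΓSpecIso (CommRingCat.of A)).inv ≫ f.fromNormalization.appTop) =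
        f.normalization.isoSpec.inv ≫ f.fromNormalization := by
      rw [Iso.eq_inv_comp]
      exact hφ
    rw [this]
    infer_instance
  · rw [Category.assoc, hφ, Scheme.Hom.toNormalization_fromNormalization]

theorem aux_spec2 (A : Type u) [CommRing A] (I : Ideal A) (hH : HenselianRing A I)
    (B : CommRingCat.{u}) (φ : CommRingCat.of A ⟶ B) (hφ : φ.hom.IsIntegral)
    {X : Scheme.{u}} (k : X ⟶ Spec B) [IsOpenImmersion k]
    [LocallyOfFiniteType (k ≫ Spec.map φ)]
    (hclosed : IsClosed (k '' {x : X | I ≤ ((k ≫ Spec.map φ) x : PrimeSpectrum A).asIdeal})) :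
    ∃ U : X.Opens, IsClosed (U : Set X) ∧ IsFinite (U.ι ≫ k ≫ Spec.map φ) ∧
      ∀ x : X, I ≤ ((k ≫ Spec.map φ) x : PrimeSpectrum A).asIdeal → x ∈ U := by
  letI : Algebra A B := φ.hom.toAlgebra
  haveI : Algebra.IsIntegral A B := algebraMap_isIntegral_iff.mp hφ
  obtain ⟨Z, hZdef⟩ : ∃ Z : Set (PrimeSpectrum B), Z = Set.range k := ⟨_, rfl⟩
  have hZopen : IsOpen Z := by
    rw [hZdef]
    exact k.isOpenEmbedding.isOpen_range
  have hJ : ∀ p : PrimeSpectrum B, I.map (algebraMap A B) ≤ p.asIdeal ↔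
      I ≤ p.asIdeal.comap (algebraMap A B) := fun p => Ideal.map_le_iff_le_comap
  have hset : Z ∩ PrimeSpectrum.zeroLocus ((I.map (algebraMap A B) : Ideal B) : Set B) =
      k '' {x : X | I ≤ ((k ≫ Spec.map φ) x : PrimeSpectrum A).asIdeal} := by
    ext p
    constructor
    · rintro ⟨hpZ, hpF⟩
      rw [hZdef] at hpZ
      obtain ⟨x, rfl⟩ := hpZ
      refine ⟨x, ?_, rfl⟩
      rw [PrimeSpectrum.mem_zeroLocus, SetLike.coe_subset_coe] at hpF
      exact (hJ (k x)).mp hpF
    · rintro ⟨x, hx, rfl⟩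
      refine ⟨hZdef ▸ ⟨x, rfl⟩, ?_⟩
      rw [PrimeSpectrum.mem_zeroLocus, SetLike.coe_subset_coe]
      exact (hJ (k x)).mpr hx
  obtain ⟨e, he, hsub, hsup⟩ := core2 I hH.jac (I.map (algebraMap A B)) hJ
    (fun ebar hebar => by
      obtain ⟨e, he, hee⟩ := (Groth.Agent.Lib.GabberIdem.bijOn_of_integral hH B).surjOn hebar
      exact ⟨e, he, hee⟩) Z hZopen (hset ▸ hclosed)
  obtain ⟨D, hD⟩ : ∃ D : (Spec B).Opens, (D : Set (Spec B)) =
      (PrimeSpectrum.basicOpen e : Set (PrimeSpectrum B)) := ⟨PrimeSpectrum.basicOpen e, rfl⟩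
  have hDclosed : IsClosed (D : Set (Spec B)) := by
    rw [hD]
    exact (PrimeSpectrum.isClopen_iff.mpr ⟨e, he, rfl⟩).1
  refine ⟨k ⁻¹ᵁ D, ?_, ?_, ?_⟩
  · exact hDclosed.preimage k.continuous
  · have hrange : Set.range (↑(k ⁻¹ᵁ D).ι ≫ k) = (D : Set (Spec B)) := by
      rw [Scheme.Hom.comp_base, TopCat.coe_comp, Set.range_comp, Scheme.Opens.range_ι,
        Scheme.Hom.coe_preimage, Set.image_preimage_eq_inter_range, Set.inter_eq_left, hD,
        ← hZdef]
      exact hsub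
    haveI : IsClosedImmersion ((k ⁻¹ᵁ D).ι ≫ k) :=
      IsClosedImmersion.of_isPreimmersion _ (hrange ▸ hDclosed)
    haveI : IsIntegralHom (Spec.map φ) := IsIntegralHom.SpecMap_iff.mpr hφ
    rw [IsFinite.iff_isIntegralHom_and_locallyOfFiniteType]
    refine ⟨?_, inferInstance⟩
    rw [← Category.assoc]
    infer_instance
  · intro x hx
    have : k x ∈ (D : Set (Spec B)) := by
      rw [hD]
      exact hsup (hset ▸ ⟨x, hx, rfl⟩)
    exact this

theorem range_specMap_mk {A : Type u} [CommRing A] (I : Ideal A) :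
    Set.range (Spec.map (CommRingCat.ofHom (Ideal.Quotient.mk I))) =
      PrimeSpectrum.zeroLocus (I : Set A) := by
  have := _root_.range_comap_of_surjective (A ⧸ I) (Ideal.Quotient.mk I)
    Ideal.Quotient.mk_surjective
  rw [Ideal.mk_ker] at this
  exact this

theorem main0784 (A : Type u) [CommRing A] (I : Ideal A) [HenselianRing A I]
    {U : Scheme.{u}} (g : U ⟶ Spec (CommRingCat.of A)) [QuasiCompact g] [IsSeparated g] [Etale g]
    (hfin : IsFinite (pullback.snd g (Spec.map (CommRingCat.ofHom (Ideal.Quotient.mk I))))) :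
    ∃ W : U.Opens, IsClosed (W : Set U) ∧ IsFinite (W.ι ≫ g) ∧
      ∀ u : U, u ∉ W → ¬ I ≤ (g.base u : PrimeSpectrum A).asIdeal := by
  haveI : LocallyQuasiFinite g := locallyQuasiFinite_of_etale g
  obtain ⟨B, φ, k, hint, hk, rfl⟩ := exists_zmt_factor A g
  have hrange : Set.range (pullback.fst (k ≫ Spec.map φ)
      (Spec.map (CommRingCat.ofHom (Ideal.Quotient.mk I)))) =
      {u : U | I ≤ ((k ≫ Spec.map φ) u : PrimeSpectrum A).asIdeal} := by
    rw [Scheme.Pullback.range_fst, range_specMap_mk]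
    ext u
    exact ⟨fun h => SetLike.coe_subset_coe.mp ((PrimeSpectrum.mem_zeroLocus _ _).mp h),
      fun h => (PrimeSpectrum.mem_zeroLocus _ _).mpr (SetLike.coe_subset_coe.mpr h)⟩
  have hclosed : IsClosed (k '' {u : U | I ≤ ((k ≫ Spec.map φ) u : PrimeSpectrum A).asIdeal}) := by
    rw [← hrange, ← Set.range_comp]
    have hcomp : (pullback.fst (k ≫ Spec.map φ)
        (Spec.map (CommRingCat.ofHom (Ideal.Quotient.mk I))) ≫ k) ≫ Spec.map φ =
        pullback.snd (k ≫ Spec.map φ) (Spec.map (CommRingCat.ofHom (Ideal.Quotient.mk I))) ≫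
          Spec.map (CommRingCat.ofHom (Ideal.Quotient.mk I)) := by
      rw [Category.assoc, pullback.condition]
    haveI : IsClosedImmersion (Spec.map (CommRingCat.ofHom (Ideal.Quotient.mk I))) :=
      IsClosedImmersion.spec_of_surjective _ Ideal.Quotient.mk_surjective
    haveI : IsProper ((pullback.fst (k ≫ Spec.map φ)
        (Spec.map (CommRingCat.ofHom (Ideal.Quotient.mk I))) ≫ k) ≫ Spec.map φ) := by
      rw [hcomp]
      infer_instance
    haveI : IsProper (pullback.fst (k ≫ Spec.map φ)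
        (Spec.map (CommRingCat.ofHom (Ideal.Quotient.mk I))) ≫ k) :=
      IsProper.of_comp _ (Spec.map φ)
    exact (pullback.fst (k ≫ Spec.map φ)
      (Spec.map (CommRingCat.ofHom (Ideal.Quotient.mk I))) ≫ k).isClosedMap.isClosed_range
  obtain ⟨W, h1, h2, h3⟩ := aux_spec2 A I inferInstance B φ hint k hclosed
  exact ⟨W, h1, h2, fun u hu hI => hu (h3 u hI)⟩

end Sch

end Groth.Agent.Lib.FinSplit2H4
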