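import Mathlib
import Groth.Agent.Lib.GabberIdem_lead

/-!
# Splitting off the finite part of a separated quasi-finite scheme over a complete local ring
(helper4)

Algebra: for `B` integral over a henselian local ring `A` and `Z ⊆ Spec B` open meeting the closed
fibre in a finite set, there is an idempotent `e` with `D(e) ⊆ Z` and `Z ∩ fibre ⊆ D(e)`.
Geometry: Zariski's main theorem (normalization) reduces to that.
-/

set_option autoImplicit false
universe u

namespace Groth.Agent.Lib.FinSplitH4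

open IsLocalRing AlgebraicGeometry CategoryTheory

section Alg

variable {A : Type u} [CommRing A] [IsLocalRing A] {B : Type u} [CommRing B] [Algebra A B]

lemma comap_eq_closedPoint_iff (p : PrimeSpectrum B) :
    PrimeSpectrum.comap (algebraMap A B) p = closedPoint A ↔
      (maximalIdeal A).map (algebraMap A B) ≤ p.asIdeal := by
  rw [PrimeSpectrum.ext_iff, Ideal.map_le_iff_le_comap]
  constructor
  · intro h
    exact h.ge
  · intro h
    exact ((IsLocalRing.maximalIdeal.isMaximal A).eq_of_le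
      (Ideal.IsPrime.ne_top (Ideal.comap_isPrime (algebraMap A B) p.asIdeal)) h).symm

theorem core [Algebra.IsIntegral A B] (J : Ideal B)
    (hJ : ∀ p : PrimeSpectrum B,
      PrimeSpectrum.comap (algebraMap A B) p = closedPoint A ↔ J ≤ p.asIdeal)
    (hlift : ∀ ebar : B ⧸ J, IsIdempotentElem ebar →
      ∃ e : B, IsIdempotentElem e ∧ Ideal.Quotient.mk J e = ebar)
    (Z : Set (PrimeSpectrum B)) (hZ : IsOpen Z)
    (hfin : (Z ∩ (PrimeSpectrum.comap (algebraMap A B)) ⁻¹' {closedPoint A}).Finite) :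
    ∃ e : B, IsIdempotentElem e ∧ (PrimeSpectrum.basicOpen e : Set (PrimeSpectrum B)) ⊆ Z ∧
      Z ∩ (PrimeSpectrum.comap (algebraMap A B)) ⁻¹' {closedPoint A} ⊆
        (PrimeSpectrum.basicOpen e : Set (PrimeSpectrum B)) := by
  classical
  obtain ⟨F, hF⟩ : ∃ F : Set (PrimeSpectrum B),
      F = (PrimeSpectrum.comap (algebraMap A B)) ⁻¹' {closedPoint A} := ⟨_, rfl⟩
  rw [← hF] at hfin ⊢
  have hFmem : ∀ p : PrimeSpectrum B, p ∈ F ↔ J ≤ p.asIdeal := by
    intro p
    rw [hF, Set.mem_preimage, Set.mem_singleton_iff, hJ]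
  have hTclosed : IsClosed (Z ∩ F) := by
    rw [← Set.biUnion_of_singleton (Z ∩ F)]
    refine hfin.isClosed_biUnion ?_
    intro p hp
    rw [PrimeSpectrum.isClosed_singleton_iff_isMaximal]
    have h1 : PrimeSpectrum.comap (algebraMap A B) p = closedPoint A := by
      have := hp.2
      rw [hF] at this
      exact this
    refine Ideal.isMaximal_of_isIntegral_of_isMaximal_comap (R := A) p.asIdeal ?_
    have h2 : p.asIdeal.comap (algebraMap A B) = maximalIdeal A :=
      congrArg PrimeSpectrum.asIdeal h1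
    rw [h2]
    exact IsLocalRing.maximalIdeal.isMaximal A
  have hπ : Function.Surjective (Ideal.Quotient.mk J) := Ideal.Quotient.mk_surjective
  have hrange : Set.range (PrimeSpectrum.comap (Ideal.Quotient.mk J)) = F := by
    rw [_root_.range_comap_of_surjective _ (Ideal.Quotient.mk J) hπ, Ideal.mk_ker]
    ext p
    rw [hFmem, PrimeSpectrum.mem_zeroLocus, SetLike.coe_subset_coe]
  have hpre : (PrimeSpectrum.comap (Ideal.Quotient.mk J)) ⁻¹' (Z ∩ F) =
      (PrimeSpectrum.comap (Ideal.Quotient.mk J)) ⁻¹' Z := by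
    ext q
    simp only [Set.mem_preimage, Set.mem_inter_iff, and_iff_left_iff_imp]
    intro _
    rw [← hrange]
    exact Set.mem_range_self q
  have hclopen : IsClopen ((PrimeSpectrum.comap (Ideal.Quotient.mk J)) ⁻¹' Z) :=
    ⟨hpre ▸ hTclosed.preimage (PrimeSpectrum.continuous_comap (Ideal.Quotient.mk J)),
      hZ.preimage (PrimeSpectrum.continuous_comap (Ideal.Quotient.mk J))⟩
  obtain ⟨ebar, hebar, hD⟩ := PrimeSpectrum.isClopen_iff.mp hclopen
  obtain ⟨e, he, rfl⟩ := hlift ebar hebar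
  have hkey : ∀ q : PrimeSpectrum (B ⧸ J),
      (PrimeSpectrum.comap (Ideal.Quotient.mk J) q ∈
        (PrimeSpectrum.basicOpen e : Set (PrimeSpectrum B))) ↔
        PrimeSpectrum.comap (Ideal.Quotient.mk J) q ∈ Z := by
    intro q
    have h1 : q ∈ (PrimeSpectrum.comap (Ideal.Quotient.mk J)) ⁻¹' Z ↔
        q ∈ (PrimeSpectrum.basicOpen (Ideal.Quotient.mk J e) : Set (PrimeSpectrum (B ⧸ J))) := by
      rw [hD]
    rw [Set.mem_preimage] at h1
    rw [h1]
    simp only [SetLike.mem_coe, PrimeSpectrum.mem_basicOpen, PrimeSpectrum.comap_asIdeal,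
      Ideal.mem_comap]
  have hFD : ∀ p ∈ F, (p ∈ (PrimeSpectrum.basicOpen e : Set (PrimeSpectrum B)) ↔ p ∈ Z) := by
    intro p hp
    rw [← hrange] at hp
    obtain ⟨q, rfl⟩ := hp
    exact hkey q
  refine ⟨e, he, ?_, fun p hp => (hFD p hp.2).mpr hp.1⟩
  by_contra hne
  rw [Set.not_subset] at hne
  obtain ⟨p0, hp0e, hp0Z⟩ := hne
  have hCclosed : IsClosed ((PrimeSpectrum.basicOpen e : Set (PrimeSpectrum B)) ∩ Zᶜ) :=
    (PrimeSpectrum.isClopen_iff.mpr ⟨e, he, rfl⟩).1.inter hZ.isClosed_compl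
  have himg := PrimeSpectrum.isClosedMap_comap_of_isIntegral (algebraMap A B)
    (algebraMap_isIntegral_iff.mpr inferInstance) _ hCclosed
  have hmem : closedPoint A ∈ (PrimeSpectrum.comap (algebraMap A B)) ''
      ((PrimeSpectrum.basicOpen e : Set (PrimeSpectrum B)) ∩ Zᶜ) :=
    (specializes_closedPoint _).mem_closed himg ⟨p0, ⟨hp0e, hp0Z⟩, rfl⟩
  obtain ⟨p, ⟨hpe, hpZ⟩, hpc⟩ := hmem
  exact hpZ ((hFD p (by rw [hF]; exact hpc)).mp hpe)

theorem exists_idem_of_open (hH : HenselianRing A (maximalIdeal A)) [Algebra.IsIntegral A B]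
    (Z : Set (PrimeSpectrum B)) (hZ : IsOpen Z)
    (hfin : (Z ∩ (PrimeSpectrum.comap (algebraMap A B)) ⁻¹' {closedPoint A}).Finite) :
    ∃ e : B, IsIdempotentElem e ∧ (PrimeSpectrum.basicOpen e : Set (PrimeSpectrum B)) ⊆ Z ∧
      Z ∩ (PrimeSpectrum.comap (algebraMap A B)) ⁻¹' {closedPoint A} ⊆
        (PrimeSpectrum.basicOpen e : Set (PrimeSpectrum B)) :=
  core ((maximalIdeal A).map (algebraMap A B)) (fun p => comap_eq_closedPoint_iff p)
    (fun ebar hebar => by
      obtain ⟨e, he, hee⟩ := (Groth.Agent.Lib.GabberIdem.bijOn_of_integral hH B).surjOn hebar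
      exact ⟨e, he, hee⟩) Z hZ hfin

end Alg

section Sch

theorem aux_spec (A : Type u) [CommRing A] [IsLocalRing A]
    (hH : HenselianRing A (maximalIdeal A))
    (B : CommRingCat.{u}) (φ : CommRingCat.of A ⟶ B) (hφ : φ.hom.IsIntegral)
    {X : Scheme.{u}} (k : X ⟶ Spec B) [IsOpenImmersion k]
    [LocallyOfFiniteType (k ≫ Spec.map φ)]
    (hfin : ((k ≫ Spec.map φ) ⁻¹' {closedPoint A}).Finite) :
    ∃ U : X.Opens, IsClosed (U : Set X) ∧ IsFinite (U.ι ≫ k ≫ Spec.map φ) ∧
      ∀ x : X, (k ≫ Spec.map φ) x = closedPoint A → x ∈ U := by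
  letI : Algebra A B := φ.hom.toAlgebra
  haveI : Algebra.IsIntegral A B := algebraMap_isIntegral_iff.mp hφ
  obtain ⟨Z, hZdef⟩ : ∃ Z : Set (PrimeSpectrum B), Z = Set.range k := ⟨_, rfl⟩
  have hZopen : IsOpen Z := by
    rw [hZdef]
    exact k.isOpenEmbedding.isOpen_range
  have hfinZ : (Z ∩ (PrimeSpectrum.comap (algebraMap A B)) ⁻¹' {closedPoint A}).Finite := by
    refine (hfin.image k).subset ?_
    rintro p ⟨hpZ, hpF⟩
    rw [hZdef] at hpZ
    obtain ⟨x, rfl⟩ := hpZ
    exact ⟨x, hpF, rfl⟩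
  obtain ⟨e, he, hsub, hsup⟩ := exists_idem_of_open hH Z hZopen hfinZ
  obtain ⟨D, hD⟩ : ∃ D : (Spec B).Opens, (D : Set (Spec B)) =
      (PrimeSpectrum.basicOpen e : Set (PrimeSpectrum B)) := ⟨PrimeSpectrum.basicOpen e, rfl⟩
  have hDclosed : IsClosed (D : Set (Spec B)) := by
    rw [hD]
    exact (PrimeSpectrum.isClopen_iff.mpr ⟨e, he, rfl⟩).1
  refine ⟨k ⁻¹ᵁ D, ?_, ?_, ?_⟩
  · exact hDclosed.preimage k.continuous
  · have hrange : Set.range (↑(k ⁻¹ᵁ D).ι ≫ k) = (D : Set (Spec B)) := by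
      rw [Scheme.Hom.comp_base, TopCat.coe_comp, Set.range_comp, Scheme.Opens.range_ι,
        Scheme.Hom.coe_preimage, Set.image_preimage_eq_inter_range, Set.inter_eq_left, hD,
        ← hZdef]
      exact hsub
    haveI : IsClosedImmersion ((k ⁻¹ᵁ D).ι ≫ k) :=
      IsClosedImmersion.of_isPreimmersion _ (hrange ▸ hDclosed)
    haveI : IsIntegralHom (Spec.map φ) := IsIntegralHom.SpecMap_iff.mpr hφ
    rw [IsFinite.iff_isIntegralHom_and_locallyOfFiniteType]
    refine ⟨?_, inferInstance⟩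
    rw [← Category.assoc]
    infer_instance
  · intro x hx
    have : k x ∈ (D : Set (Spec B)) := by
      rw [hD]
      exact hsup ⟨hZdef ▸ ⟨x, rfl⟩, hx⟩
    exact this

theorem main (A : Type u) [CommRing A] [IsLocalRing A]
    [IsNoetherianRing A] [IsAdicComplete (IsLocalRing.maximalIdeal A) A] (X : Scheme.{u})
    (f : X ⟶ Spec (CommRingCat.of A)) [LocallyOfFiniteType f] [QuasiCompact f] [IsSeparated f]
    [LocallyQuasiFinite f] :
    ∃ U : X.Opens, IsClosed (U : Set X) ∧ IsFinite (U.ι ≫ f) ∧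
      ∀ x : X, f.base x = IsLocalRing.closedPoint A → x ∈ U := by
  haveI : IsAffine f.normalization := isAffine_of_isAffineHom f.fromNormalization
  have hφ : f.normalization.isoSpec.hom ≫
      Spec.map ((Scheme.ΓSpecIso (CommRingCat.of A)).inv ≫ f.fromNormalization.appTop) =
      f.fromNormalization := by
    rw [Spec.map_comp, Scheme.isoSpec_hom_naturality_assoc, Scheme.isoSpec_Spec_hom,
      ← Spec.map_comp, Iso.inv_hom_id, Spec.map_id, Category.comp_id]
  have heq : (f.toNormalization ≫ f.normalization.isoSpec.hom) ≫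
      Spec.map ((Scheme.ΓSpecIso (CommRingCat.of A)).inv ≫ f.fromNormalization.appTop) = f := by
    rw [Category.assoc, hφ, Scheme.Hom.toNormalization_fromNormalization]
  have hint : ((Scheme.ΓSpecIso (CommRingCat.of A)).inv ≫
      f.fromNormalization.appTop).hom.IsIntegral := by
    rw [← IsIntegralHom.SpecMap_iff]
    have : Spec.map ((Scheme.ΓSpecIso (CommRingCat.of A)).inv ≫ f.fromNormalization.appTop) =
        f.normalization.isoSpec.inv ≫ f.fromNormalization := by
      rw [Iso.eq_inv_comp]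
      exact hφ
    rw [this]
    infer_instance
  haveI : LocallyOfFiniteType ((f.toNormalization ≫ f.normalization.isoSpec.hom) ≫
      Spec.map ((Scheme.ΓSpecIso (CommRingCat.of A)).inv ≫ f.fromNormalization.appTop)) := by
    rw [heq]; infer_instance
  have hfin : (((f.toNormalization ≫ f.normalization.isoSpec.hom) ≫
      Spec.map ((Scheme.ΓSpecIso (CommRingCat.of A)).inv ≫ f.fromNormalization.appTop)) ⁻¹'
        {closedPoint A}).Finite := by
    rw [heq]
    exact f.finite_preimage_singleton _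
  obtain ⟨U, h1, h2, h3⟩ := aux_spec A inferInstance _ _ hint
    (f.toNormalization ≫ f.normalization.isoSpec.hom) hfin
  rw [heq] at h2 h3
  exact ⟨U, h1, h2, h3⟩

end Sch

end Groth.Agent.Lib.FinSplitH4
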