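import Mathlib
import Groth.Agent.Lib.FinSplit_helper4

/-!
# An isolated point of the closed fibre splits off over a complete local ring (helper4)
-/

set_option autoImplicit false
universe u

namespace Groth.Agent.Lib.FinSplit3H4

open IsLocalRing AlgebraicGeometry CategoryTheory CategoryTheory.Limits

theorem quasiFiniteAt_of_isolated {X Y : Scheme.{u}} (f : X ⟶ Y) [LocallyOfFiniteType f] (x : X)
    (y : Y) (hx : f x = y)
    (hisol : IsOpen ((Subtype.val : (f ⁻¹' {y}) → X) ⁻¹' {x})) : f.QuasiFiniteAt x := by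
  subst hx
  rw [Scheme.Hom.quasiFiniteAt_iff_isOpen_singleton_asFiber,
    ← (f.fiberHomeo (f x)).isOpen_image]
  simp only [Set.image_singleton, Scheme.Hom.asFiber, Homeomorph.apply_symm_apply]
  convert hisol using 1
  ext ⟨z, hz⟩
  simp [Subtype.ext_iff]

theorem exists_affine_nbhd {X Y : Scheme.{u}} (f : X ⟶ Y) [LocallyOfFiniteType f] (x : X) (y : Y)
    (hx : f x = y)
    (hisol : IsOpen ((Subtype.val : (f ⁻¹' {y}) → X) ⁻¹' {x})) :
    ∃ W : X.Opens, IsAffineOpen W ∧ x ∈ W ∧ W ≤ f.quasiFiniteLocus ∧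
      ∀ z ∈ W, f z = y → z = x := by
  have hqf : f.QuasiFiniteAt x := quasiFiniteAt_of_isolated f x y hx hisol
  obtain ⟨O, hO, hOeq⟩ := isOpen_induced_iff.mp hisol
  have hxO : x ∈ O := by
    have : (⟨x, hx⟩ : f ⁻¹' {y}) ∈ Subtype.val ⁻¹' O := by
      rw [hOeq]
      rfl
    exact this
  obtain ⟨_, ⟨W, hW, rfl⟩, hxW, hWO⟩ := X.isBasis_affineOpens.exists_subset_of_mem_open
    (show x ∈ O ∩ (f.quasiFiniteLocus : Set X) from ⟨hxO, hqf⟩)
    (hO.inter f.quasiFiniteLocus.2)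
  refine ⟨W, hW, hxW, fun z hz => (hWO hz).2, fun z hz hzy => ?_⟩
  have : (⟨z, hzy⟩ : f ⁻¹' {y}) ∈ Subtype.val ⁻¹' O := (hWO hz).1
  rw [hOeq] at this
  exact this

theorem final_of_local (A : Type u) [CommRing A] {X : Scheme.{u}}
    (f : X ⟶ Spec (CommRingCat.of A))
    (C : CommRingCat.{u}) [IsLocalRing C] (i : Spec C ⟶ X) [IsOpenImmersion i]
    [IsClosedImmersion i]
    (ψ : CommRingCat.of A ⟶ C) (hψ : ψ.hom.Finite) (hi : i ≫ f = Spec.map ψ) (x : X)
    (hx : i (closedPoint C) = x) :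
    ((Scheme.ΓSpecIso (CommRingCat.of A)).inv ≫ f.appTop ≫
      X.presheaf.germ ⊤ x trivial).hom.Finite ∧
      IsOpenImmersion (X.fromSpecStalk x) ∧ IsClosedImmersion (X.fromSpecStalk x) := by
  subst hx
  have key : Spec.map (i.stalkMap (closedPoint C)) ≫ X.fromSpecStalk (i (closedPoint C)) =
      Spec.map (stalkClosedPointIso C).inv ≫ i := by
    rw [Scheme.SpecMap_stalkMap_fromSpecStalk, Spec_stalkClosedPointIso]
  haveI : IsIso (i.stalkMap (closedPoint C)) := inferInstance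
  refine ⟨?_, ?_, ?_⟩
  · rw [← RingHom.finite_respectsIso.cancel_right_isIso _
      (i.stalkMap (closedPoint C) ≫ (stalkClosedPointIso C).hom)]
    have hcomp : ((Scheme.ΓSpecIso (CommRingCat.of A)).inv ≫ f.appTop ≫
        X.presheaf.germ ⊤ (i (closedPoint C)) trivial) ≫
        (i.stalkMap (closedPoint C) ≫ (stalkClosedPointIso C).hom) = ψ := by
      have h1 : X.presheaf.germ ⊤ (i (closedPoint C)) trivial ≫ i.stalkMap (closedPoint C) =
          i.appTop ≫ (Spec C).presheaf.germ ⊤ (closedPoint C) trivial :=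
        Scheme.Hom.germ_stalkMap i ⊤ (closedPoint C) trivial
      have h2 : f.appTop ≫ i.appTop = (Spec.map ψ).appTop := by
        rw [← Scheme.Hom.comp_appTop, hi]
      simp only [Category.assoc]
      rw [reassoc_of% h1, germ_stalkClosedPointIso_hom, reassoc_of% h2,
        Scheme.ΓSpecIso_naturality, Iso.inv_hom_id_assoc]
    rw [← CommRingCat.hom_comp, hcomp]
    exact hψ
  · exact (MorphismProperty.cancel_left_of_respectsIso @IsOpenImmersion
      (Spec.map (i.stalkMap (closedPoint C))) _).mp (key ▸ inferInstance)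
  · exact (MorphismProperty.cancel_left_of_respectsIso @IsClosedImmersion
      (Spec.map (i.stalkMap (closedPoint C))) _).mp (key ▸ inferInstance)

theorem main2343 (A : Type u) [CommRing A] [IsLocalRing A] [IsNoetherianRing A]
    [IsAdicComplete (IsLocalRing.maximalIdeal A) A] (X : Scheme.{u})
    (f : X ⟶ Spec (CommRingCat.of A)) [LocallyOfFiniteType f] [IsSeparated f]
    (x : X) (hx : f.base x = IsLocalRing.closedPoint A)
    (hisol : IsOpen ((Subtype.val : (f.base ⁻¹' {IsLocalRing.closedPoint A}) → X) ⁻¹' {x})) :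
    ((Scheme.ΓSpecIso (CommRingCat.of A)).inv ≫ f.appTop ≫
      X.presheaf.germ ⊤ x trivial).hom.Finite ∧
      IsOpenImmersion (X.fromSpecStalk x) ∧ IsClosedImmersion (X.fromSpecStalk x) := by
  obtain ⟨W, hW, hxW, hWq, hWuniq⟩ := exists_affine_nbhd f x _ hx hisol
  haveI : IsAffine ↑W := hW
  haveI : LocallyQuasiFinite (W.ι ≫ f) := by
    rw [← Scheme.Hom.quasiFiniteLocus_eq_top_iff, Scheme.Hom.quasiFiniteLocus_comp]
    ext w
    exact iff_of_true (hWq w.2) trivial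
  obtain ⟨U, hUc, hUfin, hUmem⟩ := Groth.Agent.Lib.FinSplitH4.main A ↑W (W.ι ≫ f)
  have hxU : (⟨x, hxW⟩ : ↑W) ∈ U := hUmem ⟨x, hxW⟩ hx
  haveI : IsFinite ((U.ι ≫ W.ι) ≫ f) := by
    rw [Category.assoc]
    exact hUfin
  haveI : IsAffine ↑U := isAffine_of_isAffineHom ((U.ι ≫ W.ι) ≫ f)
  haveI : IsProper (U.ι ≫ W.ι) := IsProper.of_comp (U.ι ≫ W.ι) f
  haveI : IsClosedImmersion (U.ι ≫ W.ι) :=
    IsClosedImmersion.of_isPreimmersion _ (U.ι ≫ W.ι).isClosedMap.isClosed_range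
  have hψeq : (↑U : Scheme.{u}).isoSpec.hom ≫
      Spec.map ((Scheme.ΓSpecIso (CommRingCat.of A)).inv ≫ ((U.ι ≫ W.ι) ≫ f).appTop) =
      (U.ι ≫ W.ι) ≫ f := by
    rw [Spec.map_comp, Scheme.isoSpec_hom_naturality_assoc, Scheme.isoSpec_Spec_hom,
      ← Spec.map_comp, Iso.inv_hom_id, Spec.map_id, Category.comp_id]
  have hi : ((↑U : Scheme.{u}).isoSpec.inv ≫ U.ι ≫ W.ι) ≫ f =
      Spec.map ((Scheme.ΓSpecIso (CommRingCat.of A)).inv ≫ ((U.ι ≫ W.ι) ≫ f).appTop) := by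
    rw [Category.assoc, Iso.inv_comp_eq]
    exact hψeq.symm
  have hψfin : ((Scheme.ΓSpecIso (CommRingCat.of A)).inv ≫
      ((U.ι ≫ W.ι) ≫ f).appTop).hom.Finite := by
    rw [← IsFinite.SpecMap_iff, ← hi, Category.assoc]
    infer_instance
  obtain ⟨x₀, hx₀⟩ : ∃ x₀ : Spec Γ(↑U, ⊤),
      ((↑U : Scheme.{u}).isoSpec.inv ≫ U.ι ≫ W.ι) x₀ = x := by
    refine ⟨(↑U : Scheme.{u}).isoSpec.hom ⟨⟨x, hxW⟩, hxU⟩, ?_⟩
    rw [← Scheme.Hom.comp_apply, Iso.hom_inv_id_assoc]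
    rfl
  have huniq : ∀ p : Spec Γ(↑U, ⊤),
      f (((↑U : Scheme.{u}).isoSpec.inv ≫ U.ι ≫ W.ι) p) = closedPoint A → p = x₀ := by
    intro p hp
    apply ((↑U : Scheme.{u}).isoSpec.inv ≫ U.ι ≫ W.ι).isOpenEmbedding.injective
    rw [hx₀]
    exact hWuniq _ (U.ι ((↑U : Scheme.{u}).isoSpec.inv p)).2 hp
  have hmax : ∀ n : Ideal Γ(↑U, ⊤), n.IsMaximal → n = x₀.asIdeal := by
    intro n hn
    have hp := huniq ⟨n, hn.isPrime⟩ ?_
    · exact congrArg PrimeSpectrum.asIdeal hp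
    · rw [← Scheme.Hom.comp_apply, hi]
      apply PrimeSpectrum.ext
      haveI := Ideal.isMaximal_comap_of_isIntegral_of_isMaximal'
        ((Scheme.ΓSpecIso (CommRingCat.of A)).inv ≫ ((U.ι ≫ W.ι) ≫ f).appTop).hom
        hψfin.to_isIntegral n
      exact IsLocalRing.eq_maximalIdeal this
  haveI : Nontrivial Γ(↑U, ⊤) :=
    ⟨⟨0, 1, fun h => x₀.isPrime.ne_top ((Ideal.eq_top_iff_one _).mpr (h ▸ Ideal.zero_mem _))⟩⟩
  haveI : IsLocalRing Γ(↑U, ⊤) := by
    obtain ⟨n, hn⟩ := Ideal.exists_maximal Γ(↑U, ⊤)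
    exact IsLocalRing.of_unique_max_ideal
      ⟨n, hn, fun n' hn' => (hmax n' hn').trans (hmax n hn).symm⟩
  have hcl : closedPoint Γ(↑U, ⊤) = x₀ := by
    apply PrimeSpectrum.ext
    exact hmax _ (IsLocalRing.maximalIdeal.isMaximal _)
  exact final_of_local A f Γ(↑U, ⊤) ((↑U : Scheme.{u}).isoSpec.inv ≫ U.ι ≫ W.ι) _ hψfin hi x
    (by rw [hcl]; exact hx₀)

end Groth.Agent.Lib.FinSplit3H4
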