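import Mathlib
import Groth.Agent.Lib.EtNbhdFin4_helper4
import Groth.Agent.Lib.FinSplit2_helper4
import Groth.Agent.Lib.FinSplit3_helper4

/-!
# Clopen finite part containing all isolated points of a fibre (helper4)
-/

open AlgebraicGeometry CategoryTheory Limits

universe u

namespace Groth.Agent.Lib.EtNbhdFinH4

theorem isOpen_singleton_fiber_iff {X Y : Scheme.{u}} (f : X ⟶ Y) (y : Y) (w : ↑(f.fiber y)) :
    IsOpen ({w} : Set ↑(f.fiber y)) ↔
      ∃ O : X.Opens, f.fiberι y w ∈ O ∧ ∀ z ∈ O, f z = y → z = f.fiberι y w := by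
  rw [← (f.fiberHomeo y).isOpen_image, Set.image_singleton, isOpen_induced_iff]
  constructor
  · rintro ⟨O, hO, hOeq⟩
    refine ⟨⟨O, hO⟩, ?_, ?_⟩
    · have : f.fiberHomeo y w ∈ Subtype.val ⁻¹' O := by rw [hOeq]; rfl
      exact this
    · intro z hz hfz
      have : (⟨z, hfz⟩ : f ⁻¹' {y}) ∈ Subtype.val ⁻¹' O := hz
      rw [hOeq] at this
      exact congrArg Subtype.val this
  · rintro ⟨O, hwO, hO⟩
    refine ⟨O, O.2, ?_⟩
    ext ⟨z, hz⟩
    simp only [Set.mem_preimage, Set.mem_singleton_iff]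
    constructor
    · intro hzO
      exact Subtype.ext (hO z hzO hz)
    · intro h
      have h' : z = f.fiberι y w := congrArg Subtype.val h
      rw [h']; exact hwO

/-- Isolatedness in the fibre descends along an étale base change. -/
theorem isolated_descend {X U S : Scheme.{u}} (f : X ⟶ S) (g : U ⟶ S) [Etale g]
    (t : ↑(pullback f g))
    (hiso : ∃ O : (pullback f g).Opens, t ∈ O ∧
      ∀ z ∈ O, pullback.snd f g z = pullback.snd f g t → z = t) :
    ∃ O' : X.Opens, pullback.fst f g t ∈ O' ∧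
      ∀ z ∈ O', f z = f (pullback.fst f g t) → z = pullback.fst f g t := by
  obtain ⟨O, htO, hO⟩ := hiso
  have hq : LocallyQuasiFinite g := FinSplit2H4.locallyQuasiFinite_of_etale g
  have hd := Scheme.Hom.isDiscrete_preimage_singleton g (g (pullback.snd f g t))
  rw [isDiscrete_iff_forall_mem_exists_isOpen] at hd
  obtain ⟨N, hN, hNeq⟩ := hd (pullback.snd f g t) rfl
  let O₂ : (pullback f g).Opens := O ⊓ (pullback.snd f g) ⁻¹ᵁ ⟨N, hN⟩
  have hopen : IsOpen ((pullback.fst f g) '' (O₂ : Set ↑(pullback f g))) :=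
    (pullback.fst f g).isOpenMap _ O₂.2
  have huN : pullback.snd f g t ∈ N := by
    have : pullback.snd f g t ∈ N ∩ g ⁻¹' {g (pullback.snd f g t)} := by rw [hNeq]; rfl
    exact this.1
  refine ⟨⟨_, hopen⟩, ⟨t, ⟨htO, huN⟩, rfl⟩, ?_⟩
  rintro _ ⟨t', ⟨ht'O, ht'N⟩, rfl⟩ hf
  have h1 : g (pullback.snd f g t') = g (pullback.snd f g t) := by
    have e1 : (pullback.fst f g ≫ f) t' = (pullback.snd f g ≫ g) t' := by rw [pullback.condition]
    have e2 : (pullback.fst f g ≫ f) t = (pullback.snd f g ≫ g) t := by rw [pullback.condition]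
    rw [Scheme.Hom.comp_apply, Scheme.Hom.comp_apply] at e1 e2
    rw [← e1, hf, e2]
  have h2 : pullback.snd f g t' ∈ N ∩ g ⁻¹' {g (pullback.snd f g t)} := ⟨ht'N, h1⟩
  rw [hNeq] at h2
  have h3 : t' = t := hO t' ht'O h2
  rw [h3]

theorem main9762 {X S : Scheme.{u}} (f : X ⟶ S) [LocallyOfFiniteType f] [IsSeparated f] (s : S)
    (hfin : {x : ↑(f.fiber s) | IsOpen ({x} : Set ↑(f.fiber s))}.Finite) :
    ∃ (U : Scheme.{u}) (g : U ⟶ S) (u : U), Etale g ∧ g u = s ∧
      Function.Bijective (g.residueFieldMap u) ∧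
      ∃ V : (pullback f g).Opens, IsClopen (V : Set ↑(pullback f g)) ∧
        IsFinite (V.ι ≫ pullback.snd f g) ∧
        ∀ w : ↑((pullback.snd f g).fiber u), (pullback.snd f g).fiberι u w ∉ V →
          ¬ IsOpen ({w} : Set ↑((pullback.snd f g).fiber u)) := by
  obtain ⟨T, hT⟩ : ∃ T, T = {x : ↑(f.fiber s) | IsOpen ({x} : Set ↑(f.fiber s))} := ⟨_, rfl⟩
  rw [← hT] at hfin
  have : Finite ↑T := hfin
  let e := Finite.equivFin ↑T
  let x : Fin (Nat.card ↑T) → X := fun i => f.fiberι s (e.symm i).1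
  have hs : ∀ i, f (x i) = s := fun i => (f.fiberHomeo s (e.symm i).1).2
  have hx : ∀ i, f.QuasiFiniteAt (x i) := fun i => by
    have hopen : IsOpen ({(e.symm i).1} : Set ↑(f.fiber s)) := by
      have h1 : ∀ z, z ∈ T → IsOpen ({z} : Set ↑(f.fiber s)) := fun z hz => by
        rw [hT] at hz; exact hz
      exact h1 _ (e.symm i).2
    obtain ⟨O, hxO, hO⟩ := (isOpen_singleton_fiber_iff f s (e.symm i).1).mp hopen
    apply FinSplit3H4.quasiFiniteAt_of_isolated f (x i) s (hs i)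
    have : (Subtype.val : f ⁻¹' {s} → X) ⁻¹' {x i} = Subtype.val ⁻¹' (O : Set X) := by
      ext ⟨z, hz⟩
      simp only [Set.mem_preimage, Set.mem_singleton_iff]
      exact ⟨fun h => h ▸ hxO, fun h => hO z h hz⟩
    rw [this]
    exact O.2.preimage continuous_subtype_val
  obtain ⟨U, g, u, hg, hu, hb, H⟩ := multi _ f s x hs hx
  choose V v hV using H
  have hcl : ∀ i, IsClosed (V i : Set ↑(pullback f g)) := fun i =>
    isClosed_of_isFinite (pullback.snd f g) (V i) (hV i).2.1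
  obtain ⟨hF, hC⟩ := isFinite_finset_sup (pullback.snd f g) Finset.univ V
    (fun i _ => hcl i) (fun i _ => (hV i).2.1)
  obtain ⟨Vt, hVt⟩ : ∃ Vt, Vt = Finset.univ.sup V := ⟨_, rfl⟩
  rw [← hVt] at hF hC
  refine ⟨U, g, u, hg, hu, hb, Vt, ⟨hC, Vt.2⟩, hF, ?_⟩
  intro w hwV hopen
  apply hwV
  obtain ⟨O, hwO, hO⟩ := (isOpen_singleton_fiber_iff (pullback.snd f g) u w).mp hopen
  obtain ⟨w', hw'⟩ : ∃ w', w' = (pullback.snd f g).fiberι u w := ⟨_, rfl⟩
  rw [← hw'] at hwO hO ⊢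
  have hw'u : pullback.snd f g w' = u := by
    rw [hw']; exact ((pullback.snd f g).fiberHomeo u w).2
  obtain ⟨O', hxO', hO'⟩ := isolated_descend f g w'
    ⟨O, hwO, fun z hz hzu => hO z hz (hzu.trans hw'u)⟩
  have hfw : f (pullback.fst f g w') = s := by
    have h1 : (pullback.fst f g ≫ f) w' = (pullback.snd f g ≫ g) w' := by rw [pullback.condition]
    rw [Scheme.Hom.comp_apply, Scheme.Hom.comp_apply, hw'u, hu] at h1
    exact h1
  obtain ⟨t, ht⟩ : ∃ t : ↑(f.fiber s), f.fiberι s t = pullback.fst f g w' :=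
    ⟨(f.fiberHomeo s).symm ⟨pullback.fst f g w', hfw⟩, f.fiberι_fiberHomeo_symm s _⟩
  have htT : t ∈ T := by
    rw [hT]
    change IsOpen {t}
    rw [isOpen_singleton_fiber_iff]
    exact ⟨O', by rw [ht]; exact hxO',
      fun z hz hfz => by rw [ht]; exact hO' z hz (hfz.trans hfw.symm)⟩
  have hxi : x (e ⟨t, htT⟩) = pullback.fst f g w' := by
    change f.fiberι s ((e.symm (e ⟨t, htT⟩) : ↑T) : ↑(f.fiber s)) = _
    rw [Equiv.symm_apply_apply]; exact ht
  obtain ⟨hvV, -, hsnd, -, hfst, -⟩ := hV (e ⟨t, htT⟩)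
  have hwv : w' = v (e ⟨t, htT⟩) := by
    apply eq_of_fst_eq_of_snd_eq f g w' (v (e ⟨t, htT⟩)) (hxi.symm.trans hfst.symm)
      (hw'u.trans hsnd.symm)
    exact bijective_residueFieldMap_of_point_eq g hsnd hb
  rw [hwv, hVt]
  exact (Finset.le_sup (f := V) (Finset.mem_univ (e ⟨t, htT⟩))) hvV

end Groth.Agent.Lib.EtNbhdFinH4
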