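import Mathlib
import Groth.Agent.Lib.EtNbhdFin_helper4

/-!
# Pure inseparability of residue fields after a normal separable base extension (helper4)
-/

open TensorProduct Polynomial IntermediateField

universe u

namespace Groth.Agent.Lib.PurInsepH4

/-- Elementary form of pure inseparability of a homomorphism of fields. -/
def PI {A B : Type*} [Field A] [Field B] (f : A →+* B) : Prop :=
  ∀ y : B, ∃ n : ℕ, y ^ (ringExpChar A ^ n) ∈ f.range

lemma ringExpChar_eq_of_ringHom {A A' : Type*} [Field A] [Field A'] (α : A →+* A') :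
    ringExpChar A' = ringExpChar A := by
  haveI : ExpChar A' (ringExpChar A) := expChar_of_injective_ringHom α.injective (ringExpChar A)
  exact ringExpChar.eq A' (ringExpChar A)

theorem PI.isPurelyInseparable {A B : Type*} [Field A] [Field B] {f : A →+* B} (h : PI f) :
    letI := f.toAlgebra
    IsPurelyInseparable A B := by
  letI := f.toAlgebra
  rw [isPurelyInseparable_iff_pow_mem A (ringExpChar A)]
  exact h

theorem PI.of_square {A B A' B' : Type*} [Field A] [Field B] [Field A'] [Field B']
    {f : A →+* B} (h : PI f) (f' : A' →+* B') (α : A →+* A') (β : B →+* B')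
    (hβ : Function.Surjective β) (hcomm : β.comp f = f'.comp α) : PI f' := by
  intro y'
  obtain ⟨y, rfl⟩ := hβ y'
  obtain ⟨n, x, hx⟩ := h y
  refine ⟨n, α x, ?_⟩
  rw [ringExpChar_eq_of_ringHom α, ← map_pow, ← hx]
  exact (RingHom.congr_fun hcomm x).symm

theorem PI.of_bijective {A B : Type*} [Field A] [Field B] (f : A →+* B)
    (h : Function.Surjective f) : PI f :=
  fun y => ⟨0, by simpa using h y⟩

/-- Lemma F: in a field `L` "generated" (in the sense of epimorphisms) by the images of `K` and
`k`, if the separable closure of `κ` in `K` lands in the image of `k` then `L/k` is purely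
inseparable. -/
theorem PI_of_epi {κ K k L : Type u} [Field κ] [Field K] [Field k] [Field L] [Algebra κ K]
    [Algebra.IsAlgebraic κ K]
    (a : K →+* L) (b : k →+* L)
    (hc : ∀ c ∈ separableClosure κ K, a c ∈ b.range)
    (hepi : ∀ (M : Type u) [CommRing M] (p q : L →+* M),
      p.comp a = q.comp a → p.comp b = q.comp b → p = q) :
    PI b := by
  obtain ⟨q, hq⟩ : ∃ q, q = ringExpChar k := ⟨_, rfl⟩
  haveI : ExpChar k q := hq ▸ ringExpChar.expChar k
  haveI : ExpChar L q := expChar_of_injective_ringHom b.injective q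
  haveI : ExpChar K q := RingHom.expChar a a.injective q
  haveI : ExpChar (separableClosure κ K) q :=
    RingHom.expChar (algebraMap (separableClosure κ K) K)
      (algebraMap (separableClosure κ K) K).injective q
  have hup : ∀ (y : L) (n m : ℕ), n ≤ m → y ^ q ^ n ∈ b.range → y ^ q ^ m ∈ b.range := by
    intro y n m hnm ⟨x, hx⟩
    refine ⟨x ^ q ^ (m - n), ?_⟩
    rw [map_pow, hx, ← pow_mul, ← pow_add, Nat.add_sub_cancel' hnm]
  let L₀ : Subfield L :=
    { carrier := {y | ∃ n : ℕ, y ^ q ^ n ∈ b.range}
      mul_mem' := by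
        rintro y z ⟨n, hy⟩ ⟨m, hz⟩
        refine ⟨max n m, ?_⟩
        rw [mul_pow]
        exact b.range.mul_mem (hup y n _ (le_max_left _ _) hy) (hup z m _ (le_max_right _ _) hz)
      one_mem' := ⟨0, by simp⟩
      add_mem' := by
        rintro y z ⟨n, hy⟩ ⟨m, hz⟩
        refine ⟨max n m, ?_⟩
        rw [add_pow_expChar_pow]
        exact b.range.add_mem (hup y n _ (le_max_left _ _) hy) (hup z m _ (le_max_right _ _) hz)
      zero_mem' := ⟨0, by simp⟩
      neg_mem' := by
        rintro y ⟨n, hy⟩
        refine ⟨n, ?_⟩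
        rw [neg_pow]
        exact b.range.mul_mem (b.range.pow_mem (b.range.neg_mem b.range.one_mem) _) hy
      inv_mem' := by
        rintro y ⟨n, x, hx⟩
        exact ⟨n, x⁻¹, by rw [map_inv₀, hx, inv_pow]⟩ }
  have haL₀ : ∀ c : K, a c ∈ L₀ := by
    intro c
    haveI : IsPurelyInseparable (separableClosure κ K) K := separableClosure.isPurelyInseparable κ K
    obtain ⟨n, ⟨c', hc'⟩⟩ := IsPurelyInseparable.pow_mem (separableClosure κ K) q c
    refine ⟨n, ?_⟩
    rw [← map_pow, ← hc']
    exact hc _ c'.2
  have hbL₀ : ∀ d : k, b d ∈ L₀ := fun d => ⟨0, d, by simp⟩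
  have hL₀ : ∀ z : L, z ∈ L₀ → (z ⊗ₜ[L₀] (1 : L)) = (1 : L) ⊗ₜ[L₀] z := by
    intro z hz
    have h1 : z = (⟨z, hz⟩ : L₀) • (1 : L) := by
      rw [Algebra.smul_def, mul_one]; rfl
    conv_lhs => rw [h1]
    rw [TensorProduct.smul_tmul]
    rw [← h1]
  have hpq := hepi (L ⊗[L₀] L) Algebra.TensorProduct.includeLeftRingHom
    (Algebra.TensorProduct.includeRight (R := L₀) (A := L) (B := L)).toRingHom
    (RingHom.ext fun c => hL₀ _ (haL₀ c)) (RingHom.ext fun d => hL₀ _ (hbL₀ d))
  have hepi' : Algebra.IsEpi L₀ L := by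
    rw [Algebra.isEpi_iff_forall_one_tmul_eq]
    intro y
    exact (RingHom.congr_fun hpq y).symm
  have hsurj := EtNbhdFinH4.surjective_of_isEpi_of_field (Field.toIsField L₀) hepi'
  intro y
  obtain ⟨z, rfl⟩ := hsurj y
  rw [← hq]
  exact z.2

/-- Lemma N: roots of polynomials that split in `k` lie in the image of `k`. -/
theorem range_of_splits {κ K k L : Type*} [Field κ] [Field K] [Field k] [Field L] [Algebra κ K]
    [Algebra κ k] (a : K →+* L) (b : k →+* L)
    (hab : a.comp (algebraMap κ K) = b.comp (algebraMap κ k))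
    (c : K) (hci : IsIntegral κ c) (hsp : ((minpoly κ c).map (algebraMap κ k)).Splits) :
    a c ∈ b.range := by
  apply hsp.mem_range_of_isRoot (Polynomial.map_ne_zero (minpoly.ne_zero hci))
  rw [Polynomial.map_map, ← hab, ← Polynomial.map_map, Polynomial.IsRoot, Polynomial.eval_map,
    Polynomial.eval₂_hom, Polynomial.eval_map_algebraMap, minpoly.aeval, map_zero]

/-- A finite separable extension in which all minimal polynomials of separable elements of
finitely many finite extensions split. -/
theorem exists_field_splits {κ : Type u} [Field κ] {ι : Type} [Finite ι] (K : ι → Type u)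
    [∀ i, Field (K i)] [∀ i, Algebra κ (K i)] [∀ i, FiniteDimensional κ (K i)] :
    ∃ (k : Type u) (_ : Field k) (_ : Algebra κ k) (_ : FiniteDimensional κ k)
      (_ : Algebra.IsSeparable κ k),
      ∀ i, ∀ c ∈ separableClosure κ (K i), ((minpoly κ c).map (algebraMap κ k)).Splits := by
  let Ω := AlgebraicClosure κ
  let N : ι → IntermediateField κ Ω := fun i => normalClosure κ (separableClosure κ (K i)) Ω
  have hne : ∀ i, Nonempty (separableClosure κ (K i) →ₐ[κ] Ω) := fun i => ⟨IsAlgClosed.lift⟩
  have hfd : ∀ i, FiniteDimensional κ (N i) := fun i => normalClosure.is_finiteDimensional _ _ _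
  have hsep : ∀ i, Algebra.IsSeparable κ (N i) := by
    intro i
    have : ∀ f : separableClosure κ (K i) →ₐ[κ] Ω, Algebra.IsSeparable κ f.fieldRange := fun f =>
      AlgEquiv.Algebra.isSeparable (AlgEquiv.ofInjectiveField f)
    exact IntermediateField.isSeparable_iSup κ Ω
  have hsplit : ∀ i, IsNormalClosure κ (separableClosure κ (K i)) (N i) := fun i =>
    haveI := hne i
    inferInstance
  refine ⟨↥(⨆ i, N i), inferInstance, inferInstance, inferInstance,
    IntermediateField.isSeparable_iSup κ Ω, ?_⟩
  intro i c hc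
  have h1 := (hsplit i).splits ⟨c, hc⟩
  have hle : N i ≤ ⨆ i, N i := le_iSup N i
  have h2 := h1.map (IntermediateField.inclusion hle).toRingHom
  rw [Polynomial.map_map] at h2
  have h3 : minpoly κ (⟨c, hc⟩ : separableClosure κ (K i)) = minpoly κ c :=
    IntermediateField.minpoly_eq (⟨c, hc⟩ : separableClosure κ (K i))
  rw [h3] at h2
  convert h2 using 2
  apply RingHom.ext
  intro r
  rfl

/-- Quasi-finite local homomorphisms induce finite residue field extensions. -/
theorem finite_residueField_map {R T : Type u} [CommRing R] [CommRing T] [IsLocalRing R]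
    [IsLocalRing T] (φ : R →+* T) [IsLocalHom φ] (h : φ.QuasiFinite) :
    (IsLocalRing.ResidueField.map φ).Finite := by
  algebraize [φ]
  haveI : IsLocalHom (algebraMap R T) := ‹IsLocalHom φ›
  haveI : Algebra.QuasiFinite R (IsLocalRing.ResidueField T) :=
    Algebra.QuasiFinite.trans R T (IsLocalRing.ResidueField T)
  haveI : Algebra.QuasiFinite (IsLocalRing.ResidueField R) (IsLocalRing.ResidueField T) :=
    Algebra.QuasiFinite.of_restrictScalars R _ _
  have hfin : Module.Finite (IsLocalRing.ResidueField R) (IsLocalRing.ResidueField T) :=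
    Module.Finite.of_quasiFinite
  have heq : algebraMap (IsLocalRing.ResidueField R) (IsLocalRing.ResidueField T) =
      IsLocalRing.ResidueField.map φ := by
    apply RingHom.ext
    intro x
    obtain ⟨x, rfl⟩ := IsLocalRing.residue_surjective x
    rfl
  rw [← heq]
  exact RingHom.finite_algebraMap.mpr hfin

end Groth.Agent.Lib.PurInsepH4
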