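import Mathlib
import Groth.Agent.Lib.EtNbhdFin5_helper4
import Groth.Agent.Lib.PurInsep_helper4

/-!
# Purely inseparable residue fields in fibre products; split data (helper4)
-/

open AlgebraicGeometry CategoryTheory Limits

universe u

namespace Groth.Agent.Lib.EtNbhdFinH4

open PurInsepH4

theorem finite_residueFieldMap {X S : Scheme.{u}} (f : X ⟶ S) (x : X) (hx : f.QuasiFiniteAt x) :
    (f.residueFieldMap x).hom.Finite :=
  finite_residueField_map (f.stalkMap x).hom hx

lemma PI_of_point_eq {X Y : Scheme.{u}} (f : X ⟶ Y) {x x' : X} (e : x = x')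
    (h : PI (f.residueFieldMap x').hom) : PI (f.residueFieldMap x).hom := by
  subst e; exact h

/-- Isolated-point form of quasi-finiteness at a point. -/
theorem exists_open_of_quasiFiniteAt {X Y : Scheme.{u}} (f : X ⟶ Y) [LocallyOfFiniteType f]
    (x : X) (hx : f.QuasiFiniteAt x) :
    ∃ O : X.Opens, x ∈ O ∧ ∀ z ∈ O, f z = f x → z = x := by
  rw [Scheme.Hom.quasiFiniteAt_iff_isOpen_singleton_asFiber] at hx
  obtain ⟨O, hO1, hO2⟩ := (isOpen_singleton_fiber_iff f (f x) (f.asFiber x)).mp hx
  rw [Scheme.Hom.fiberι_asFiber] at hO1 hO2
  exact ⟨O, hO1, hO2⟩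

/-- Points of a fibre product over `(x, u)` have purely inseparable residue field over `κ(u)` as
soon as the minimal polynomials of the separable elements of `κ(x)/κ(s)` split in `κ(u)`. -/
theorem PI_snd_residueFieldMap {X U S : Scheme.{u}} (f : X ⟶ S) (g : U ⟶ S)
    (t : ↑(pullback f g)) (s : S) (x : X) (u : U)
    (hx : pullback.fst f g t = x) (hu : pullback.snd f g t = u) (hxs : f x = s) (hus : g u = s)
    (hfin : ((S.residueFieldCongr hxs).inv ≫ f.residueFieldMap x).hom.Finite)
    (hsplit : letI := ((S.residueFieldCongr hxs).inv ≫ f.residueFieldMap x).hom.toAlgebra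
      ∀ c ∈ separableClosure (S.residueField s) (X.residueField x),
        ((minpoly (S.residueField s) c).map
          ((S.residueFieldCongr hus).inv ≫ g.residueFieldMap u).hom).Splits) :
    PI ((pullback.snd f g).residueFieldMap t).hom := by
  subst hx hu hxs
  letI algK : Algebra (S.residueField (f (pullback.fst f g t)))
      (X.residueField (pullback.fst f g t)) :=
    ((S.residueFieldCongr rfl).inv ≫ f.residueFieldMap (pullback.fst f g t)).hom.toAlgebra
  letI algk : Algebra (S.residueField (f (pullback.fst f g t)))
      (U.residueField (pullback.snd f g t)) :=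
    ((S.residueFieldCongr hus).inv ≫ g.residueFieldMap (pullback.snd f g t)).hom.toAlgebra
  haveI : Module.Finite (S.residueField (f (pullback.fst f g t)))
      (X.residueField (pullback.fst f g t)) := hfin
  have hab : ((pullback.fst f g).residueFieldMap t).hom.comp
      (algebraMap (S.residueField (f (pullback.fst f g t))) (X.residueField (pullback.fst f g t))) =
      ((pullback.snd f g).residueFieldMap t).hom.comp
      (algebraMap (S.residueField (f (pullback.fst f g t)))
        (U.residueField (pullback.snd f g t))) :=
    congrArg CommRingCat.Hom.hom (Scheme.Pullback.residueFieldCongr_inv_residueFieldMap_ofPoint t)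
  apply PI_of_epi (κ := S.residueField (f (pullback.fst f g t)))
    (a := ((pullback.fst f g).residueFieldMap t).hom)
    (b := ((pullback.snd f g).residueFieldMap t).hom)
  · intro c hc
    exact range_of_splits _ _ hab c (Algebra.IsIntegral.isIntegral c) (hsplit c hc)
  · intro M _ p q hpa hpb
    have hE := epi_ofPointTensor f g t
    have h1 : CommRingCat.ofHom p = CommRingCat.ofHom q := by
      rw [← cancel_epi (Scheme.Pullback.ofPointTensor t)]
      apply pushout.hom_ext
      · unfold Scheme.Pullback.ofPointTensor
        erw [pushout.inl_desc_assoc, pushout.inl_desc_assoc]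
        ext z
        exact RingHom.congr_fun hpa z
      · unfold Scheme.Pullback.ofPointTensor
        erw [pushout.inr_desc_assoc, pushout.inr_desc_assoc]
        ext z
        exact RingHom.congr_fun hpb z
    exact congrArg CommRingCat.Hom.hom h1

/-- Pure inseparability of residue fields is preserved by elementary base change. -/
theorem PI_of_isPullback {P X U S : Scheme.{u}} {fst : P ⟶ X} {snd : P ⟶ U} {f : X ⟶ S}
    {g : U ⟶ S} (h : IsPullback fst snd f g) (t : P)
    (hg : Function.Bijective (g.residueFieldMap (snd t)))
    (hPI : PI (f.residueFieldMap (fst t)).hom) : PI (snd.residueFieldMap t).hom := by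
  have h1 := Scheme.Hom.residueFieldMap_congr h.w t
  rw [Scheme.residueFieldMap_comp, Scheme.residueFieldMap_comp] at h1
  refine hPI.of_square (snd.residueFieldMap t).hom
    ((S.residueFieldCongr (by rw [← Scheme.Hom.comp_apply, h.w]; rfl)).hom ≫
      g.residueFieldMap (snd t)).hom
    (fst.residueFieldMap t).hom
    (residueFieldMap_fst_bijective_of_isPullback h t hg).2 ?_
  exact congrArg CommRingCat.Hom.hom h1

end Groth.Agent.Lib.EtNbhdFinH4
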