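import Mathlib

/-!
# Étale neighbourhoods with prescribed finite separable residue field extension (helper4)
-/

open AlgebraicGeometry CategoryTheory Limits Polynomial IntermediateField

universe u

namespace Groth.Agent.Lib.EtResH4

lemma evaluation_res (S : Scheme.{u}) (s : S) {W W' : S.Opens} (hle : W ≤ W') (hs : s ∈ W)
    (a : Γ(S, W')) :
    (S.evaluation W s hs).hom (S.presheaf.map (homOfLE hle).op a) =
      (S.evaluation W' s (hle hs)).hom a := by
  change (S.residue s).hom ((S.presheaf.germ W s hs).hom (S.presheaf.map (homOfLE hle).op a)) =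
    (S.residue s).hom ((S.presheaf.germ W' s (hle hs)).hom a)
  congr 1
  exact TopCat.Presheaf.germ_res_apply S.presheaf (homOfLE hle) s hs a

/-- Every finite set of elements of `κ(s)` comes from sections over a common affine open. -/
lemma exists_affine_evaluation_range (S : Scheme.{u}) (s : S) (F : Finset (S.residueField s)) :
    ∃ (W : S.Opens) (_ : IsAffineOpen W) (hs : s ∈ W),
      ∀ c ∈ F, c ∈ Set.range (S.evaluation W s hs).hom := by
  classical
  induction F using Finset.induction_on with
  | empty =>
    obtain ⟨_, ⟨W, hW, rfl⟩, hsW, -⟩ := S.isBasis_affineOpens.exists_subset_of_mem_open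
      (Set.mem_univ s) isOpen_univ
    exact ⟨W, hW, hsW, by simp⟩
  | insert c F hc IH =>
    obtain ⟨W₁, hW₁, hs₁, H₁⟩ := IH
    obtain ⟨t, ht⟩ := S.residue_surjective s c
    obtain ⟨W₂, hs₂, a, ha⟩ := TopCat.Presheaf.exists_germ_eq S.presheaf t
    obtain ⟨_, ⟨W, hW, rfl⟩, hsW, hWle⟩ := S.isBasis_affineOpens.exists_subset_of_mem_open
      (show s ∈ ((W₁ ⊓ W₂ : S.Opens) : Set S) from ⟨hs₁, hs₂⟩) (W₁ ⊓ W₂).2
    have hle₁ : W ≤ W₁ := fun z hz => (hWle hz).1
    have hle₂ : W ≤ W₂ := fun z hz => (hWle hz).2
    refine ⟨W, hW, hsW, fun c' hc' => ?_⟩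
    rcases Finset.mem_insert.mp hc' with rfl | hc'
    · refine ⟨S.presheaf.map (homOfLE hle₂).op a, ?_⟩
      rw [evaluation_res S s hle₂ hsW a]
      change (S.residue s).hom ((S.presheaf.germ W₂ s hs₂).hom a) = _
      rw [← ht]
      congr 1
    · obtain ⟨a', ha'⟩ := H₁ c' hc'
      exact ⟨S.presheaf.map (homOfLE hle₁).op a', by rw [evaluation_res S s hle₁ hsW a', ha']⟩

set_option maxHeartbeats 800000 in
/-- An étale neighbourhood with prescribed finite separable residue field extension. -/
theorem main9734 (S : Scheme.{u}) (s : S) (k : Type u) [Field k]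
    [Algebra (S.residueField s) k] [FiniteDimensional (S.residueField s) k]
    [Algebra.IsSeparable (S.residueField s) k] :
    ∃ (U : Scheme.{u}) (g : U ⟶ S) (u : U) (hu : g u = s), Etale g ∧
      ∃ ψ : U.residueField u ⟶ CommRingCat.of k, Function.Bijective ψ ∧
        (S.residueFieldCongr hu).inv ≫ g.residueFieldMap u ≫ ψ =
          CommRingCat.ofHom (algebraMap (S.residueField s) k) := by
  obtain ⟨θ, hθ⟩ := Field.exists_primitive_element (S.residueField s) k
  have hint : IsIntegral (S.residueField s) θ := Algebra.IsIntegral.isIntegral θ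
  have hsep : (minpoly (S.residueField s) θ).Separable := Algebra.IsSeparable.isSeparable _ θ
  obtain ⟨W, hW, hs, hrange⟩ := exists_affine_evaluation_range S s
    (minpoly (S.residueField s) θ).coeffs
  -- lift the minimal polynomial to a monic polynomial over `Γ(S, W)`
  have hlifts : minpoly (S.residueField s) θ ∈ Polynomial.lifts (S.evaluation W s hs).hom := by
    rw [Polynomial.lifts_iff_coeff_lifts]
    intro n
    by_cases hn : (minpoly (S.residueField s) θ).coeff n = 0
    · rw [hn]; exact ⟨0, map_zero _⟩
    · exact hrange _ (Polynomial.coeff_mem_coeffs hn)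
  obtain ⟨H, hHmap, -, hHmonic⟩ :=
    Polynomial.lifts_and_natDegree_eq_and_monic hlifts (minpoly.monic hint)
  let P : StandardEtalePair Γ(S, W) := ⟨H, hHmonic, derivative H, ⟨1, 0, 1, by ring⟩⟩
  letI algAk : Algebra Γ(S, W) k :=
    ((algebraMap (S.residueField s) k).comp (S.evaluation W s hs).hom).toAlgebra
  have halg : algebraMap Γ(S, W) k =
      (algebraMap (S.residueField s) k).comp (S.evaluation W s hs).hom := rfl
  have haeval : ∀ q : Polynomial Γ(S, W),
      aeval θ q = aeval θ (q.map (S.evaluation W s hs).hom) := by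
    intro q
    rw [aeval_def, aeval_def, eval₂_map, halg]
  have hmap : P.HasMap θ := by
    refine ⟨?_, ?_⟩
    · change aeval θ H = 0
      rw [haeval, hHmap, minpoly.aeval]
    · change IsUnit (aeval θ (derivative H))
      rw [haeval, ← derivative_map, hHmap]
      exact (hsep.aeval_derivative_ne_zero (minpoly.aeval _ θ)).isUnit
  let χ : P.Ring →ₐ[Γ(S, W)] k := P.lift θ hmap
  have hχX : χ P.X = θ := P.lift_X θ hmap
  let ρ : Γ(S, W) ⟶ CommRingCat.of P.Ring := CommRingCat.ofHom (algebraMap Γ(S, W) P.Ring)
  have hρ : ρ.hom.Etale := RingHom.etale_algebraMap.mpr inferInstance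
  have : Etale (Spec.map ρ) := HasRingHomProperty.Spec_iff.mpr hρ
  let φ : Spec (CommRingCat.of k) ⟶ Spec (CommRingCat.of P.Ring) :=
    Spec.map (CommRingCat.ofHom χ.toRingHom)
  -- the composite `Spec k ⟶ S`
  have hcomp : φ ≫ Spec.map ρ ≫ hW.fromSpec =
      Spec.map (CommRingCat.ofHom (algebraMap (S.residueField s) k)) ≫
        S.fromSpecResidueField s := by
    have h1 : ρ ≫ CommRingCat.ofHom χ.toRingHom =
        S.evaluation W s hs ≫ CommRingCat.ofHom (algebraMap (S.residueField s) k) := by
      ext a
      change χ (algebraMap Γ(S, W) P.Ring a) = _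
      rw [AlgHom.commutes, halg]
      rfl
    have h2 : Spec.map (S.evaluation W s hs) ≫ hW.fromSpec = S.fromSpecResidueField s := by
      change Spec.map (S.presheaf.germ W s hs ≫ S.residue s) ≫ hW.fromSpec = _
      rw [Spec.map_comp, Category.assoc]
      change Spec.map (S.residue s) ≫ hW.fromSpecStalk hs = _
      rw [hW.fromSpecStalk_eq_fromSpecStalk]
      rfl
    rw [← Category.assoc, ← Spec.map_comp, h1, Spec.map_comp, Category.assoc, h2]
    rfl
  -- the point and the induced map on residue fields
  have key := Scheme.descResidueField_stalkClosedPointTo_comp (Spec.map ρ ≫ hW.fromSpec) φ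
  have hsig : Scheme.SpecToEquivOfField k S (φ ≫ Spec.map ρ ≫ hW.fromSpec) =
      ⟨s, CommRingCat.ofHom (algebraMap (S.residueField s) k)⟩ := by
    rw [hcomp]
    exact (Scheme.SpecToEquivOfField k S).apply_symm_apply
      ⟨s, CommRingCat.ofHom (algebraMap (S.residueField s) k)⟩
  obtain ⟨hu, hψ⟩ := Scheme.SpecToEquivOfField_eq_iff.mp hsig
  have hu' : (Spec.map ρ ≫ hW.fromSpec) (φ (IsLocalRing.closedPoint k)) = s := hu
  refine ⟨Spec (CommRingCat.of P.Ring), Spec.map ρ ≫ hW.fromSpec, φ (IsLocalRing.closedPoint k),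
    hu', inferInstance, Scheme.descResidueField (Scheme.stalkClosedPointTo φ), ?_, ?_⟩
  · -- bijectivity
    have hcompat : (S.residueFieldCongr hu').inv ≫
        (Spec.map ρ ≫ hW.fromSpec).residueFieldMap (φ (IsLocalRing.closedPoint k)) ≫
          Scheme.descResidueField (Scheme.stalkClosedPointTo φ) =
        CommRingCat.ofHom (algebraMap (S.residueField s) k) := by
      have h3 : (Spec.map ρ ≫ hW.fromSpec).residueFieldMap (φ (IsLocalRing.closedPoint k)) ≫
          Scheme.descResidueField (Scheme.stalkClosedPointTo φ) =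
          (S.residueFieldCongr hu').hom ≫ CommRingCat.ofHom (algebraMap (S.residueField s) k) := by
        rw [← key]; exact hψ
      rw [h3, Iso.inv_hom_id_assoc]
      rfl
    refine ⟨(Scheme.descResidueField (Scheme.stalkClosedPointTo φ)).hom.injective, ?_⟩
    have hfac := Scheme.descResidueField_stalkClosedPointTo_fromSpecResidueField k
      (Spec (CommRingCat.of P.Ring)) φ
    rw [← Scheme.Spec.map_residueFieldIso_inv_eq_fromSpecResidueField, ← Spec.map_comp,
      ← Spec.map_comp] at hfac
    have hfac' := Spec.map_injective hfac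
    have hθmem : θ ∈ (Scheme.descResidueField (Scheme.stalkClosedPointTo φ)).hom.fieldRange := by
      rw [← hχX]
      have := congrArg (fun ψ' => ψ'.hom P.X) hfac'
      exact ⟨(Scheme.Spec.residueFieldIso (CommRingCat.of P.Ring)
        (φ (IsLocalRing.closedPoint k))).inv.hom (algebraMap P.Ring _ P.X), this⟩
    have hKmem : Set.range (algebraMap (S.residueField s) k) ⊆
        ((Scheme.descResidueField (Scheme.stalkClosedPointTo φ)).hom.fieldRange : Set k) := by
      rintro _ ⟨r, rfl⟩
      have := congrArg (fun ψ' => ψ'.hom r) hcompat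
      exact ⟨_, this⟩
    have htop : (⊤ : Subfield k) ≤
        (Scheme.descResidueField (Scheme.stalkClosedPointTo φ)).hom.fieldRange := by
      have h4 := congrArg IntermediateField.toSubfield hθ
      rw [IntermediateField.adjoin_toSubfield] at h4
      have h5 : (⊤ : IntermediateField (S.residueField s) k).toSubfield = ⊤ := rfl
      rw [← h5, ← h4, Subfield.closure_le]
      rintro y (hy | hy)
      · exact hKmem hy
      · rw [Set.mem_singleton_iff.mp hy]; exact hθmem
    intro y
    exact htop (Subfield.mem_top y)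
  · have h3 : (Spec.map ρ ≫ hW.fromSpec).residueFieldMap (φ (IsLocalRing.closedPoint k)) ≫
        Scheme.descResidueField (Scheme.stalkClosedPointTo φ) =
        (S.residueFieldCongr hu').hom ≫ CommRingCat.ofHom (algebraMap (S.residueField s) k) := by
      rw [← key]; exact hψ
    rw [h3, Iso.inv_hom_id_assoc]
    rfl

end Groth.Agent.Lib.EtResH4
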