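import Mathlib
import Groth.Agent.Lib.EtNbhdFin6_helper4
import Groth.Agent.Lib.EtRes_helper4

/-!
# Splitting the quasi-finite part at finitely many points after an étale neighbourhood, with
purely inseparable residue fields (helper4)
-/

open AlgebraicGeometry CategoryTheory Limits

universe u

namespace Groth.Agent.Lib.EtNbhdFinH4

open PurInsepH4

/-- Splitting of a polynomial in the residue field is preserved by passing to a further
neighbourhood. -/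
lemma splits_comp {U' U S : Scheme.{u}} (h : U' ⟶ U) (g : U ⟶ S) (u' : U') (u : U) (s : S)
    (hu : h u' = u) (hus : g u = s) (hus' : (h ≫ g) u' = s)
    (p : Polynomial (S.residueField s))
    (hp : (p.map ((S.residueFieldCongr hus).inv ≫ g.residueFieldMap u).hom).Splits) :
    (p.map ((S.residueFieldCongr hus').inv ≫ (h ≫ g).residueFieldMap u').hom).Splits := by
  subst hu
  have e : (S.residueFieldCongr hus').inv ≫ (h ≫ g).residueFieldMap u' =
      ((S.residueFieldCongr hus).inv ≫ g.residueFieldMap (h u')) ≫ h.residueFieldMap u' := by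
    rw [Scheme.residueFieldMap_comp, Category.assoc]
    rfl
  rw [e, CommRingCat.hom_comp, ← Polynomial.map_map]
  exact hp.map _

/-- Finitely many points of a fibre product lie over a pair of points, the first of which is
quasi-finite over the base. -/
theorem finite_points_over {X U S : Scheme.{u}} (f : X ⟶ S) [LocallyOfFiniteType f] (g : U ⟶ S)
    (T : Scheme.Pullback.Triplet f g) (hT : f.QuasiFiniteAt T.x) :
    {t : ↑(pullback f g) | pullback.fst f g t = T.x ∧ pullback.snd f g t = T.y}.Finite := by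
  have hA : {t : ↑(pullback f g) | pullback.fst f g t = T.x ∧ pullback.snd f g t = T.y} =
      Set.range T.SpecTensorTo := by
    ext t
    constructor
    · rintro ⟨h1, h2⟩
      have e : Scheme.Pullback.Triplet.ofPoint t = T := Scheme.Pullback.Triplet.ext h1 h2
      subst e
      exact ⟨Scheme.Pullback.SpecOfPoint t, Scheme.Pullback.SpecTensorTo_SpecOfPoint t⟩
    · rintro ⟨p, rfl⟩
      exact ⟨T.fst_SpecTensorTo_apply p, T.snd_SpecTensorTo_apply p⟩
  rw [hA]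
  apply (isCompact_range T.SpecTensorTo.continuous).finite
  rw [isDiscrete_iff_forall_mem_exists_isOpen]
  rintro _ ⟨p, rfl⟩
  have hq : (pullback.snd f g).QuasiFiniteAt (T.SpecTensorTo p) :=
    quasiFiniteAt_snd f g _ (by rw [T.fst_SpecTensorTo_apply]; exact hT)
  obtain ⟨O, hO1, hO2⟩ := exists_open_of_quasiFiniteAt (pullback.snd f g) _ hq
  refine ⟨(O : Set ↑(pullback f g)), O.2, ?_⟩
  ext z
  constructor
  · rintro ⟨hz, p', rfl⟩
    rw [Set.mem_singleton_iff]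
    exact hO2 _ hz (by simp only [Scheme.Pullback.Triplet.snd_SpecTensorTo_apply])
  · intro hz
    rw [Set.mem_singleton_iff] at hz
    subst hz
    exact ⟨hO1, p, rfl⟩

lemma exists_enum {α : Type*} (F : Set α) (hF : F.Finite) :
    ∃ (n : ℕ) (t : Fin n → α), Function.Injective t ∧ (∀ m, t m ∈ F) ∧
      ∀ a ∈ F, ∃ m, t m = a := by
  haveI : Finite ↥F := hF
  refine ⟨Nat.card ↥F, fun m => ((Finite.equivFin ↥F).symm m).1,
    Subtype.val_injective.comp (Finite.equivFin ↥F).symm.injective,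
    fun m => ((Finite.equivFin ↥F).symm m).2, ?_⟩
  intro a ha
  refine ⟨Finite.equivFin ↥F ⟨a, ha⟩, ?_⟩
  change ((Finite.equivFin ↥F).symm ((Finite.equivFin ↥F) ⟨a, ha⟩)).1 = a
  rw [Equiv.symm_apply_apply]

/-- Explicit base change of a finite part along an elementary neighbourhood. -/
theorem finPart_baseChange {U U₁ P P₁ : Scheme.{u}} {p₂ : P ⟶ U} {u : U}
    (V : P.Opens) (v : P) (hvV : v ∈ V) (hfin : IsFinite (V.ι ≫ p₂)) (hp2 : p₂ v = u)
    (huniq : ∀ w : P, w ∈ V → p₂ w = u → w = v)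
    {g₁ : U₁ ⟶ U} {q₁ : P₁ ⟶ P} {q₂ : P₁ ⟶ U₁}
    (hpb : IsPullback q₁ q₂ p₂ g₁) (u₁ : U₁) (hu₁ : g₁ u₁ = u)
    (hres₁ : Function.Bijective (g₁.residueFieldMap u₁)) :
    ∃ v₁ : P₁, q₁ v₁ = v ∧ v₁ ∈ q₁ ⁻¹ᵁ V ∧ IsFinite ((q₁ ⁻¹ᵁ V).ι ≫ q₂) ∧ q₂ v₁ = u₁ ∧
      (∀ w : P₁, w ∈ q₁ ⁻¹ᵁ V → q₂ w = u₁ → w = v₁) := by
  obtain ⟨v₁, hv₁1, hv₁2⟩ := Scheme.exists_preimage_of_isPullback hpb v u₁ (by rw [hp2, hu₁])
  have hv₁2' : q₂ v₁ = u₁ := hv₁2
  have hv₁1' : q₁ v₁ = v := hv₁1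
  refine ⟨v₁, hv₁1', ?_, ?_, hv₁2', ?_⟩
  · change q₁ v₁ ∈ V
    rw [hv₁1']; exact hvV
  · have hpb2 : IsPullback (q₁ ∣_ V) ((q₁ ⁻¹ᵁ V).ι ≫ q₂) (V.ι ≫ p₂) g₁ :=
      (isPullback_morphismRestrict q₁ V).paste_vert hpb
    exact MorphismProperty.of_isPullback (P := @IsFinite) hpb2 hfin
  · intro w hw hw2
    have hw' : q₁ w ∈ V := hw
    have hcomm : p₂ (q₁ w) = g₁ (q₂ w) := by
      rw [← Scheme.Hom.comp_apply, ← Scheme.Hom.comp_apply, hpb.w]
    have h3 : q₁ w = v := huniq (q₁ w) hw' (by rw [hcomm, hw2, hu₁])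
    apply eq_of_isPullback hpb w v₁ (h3.trans hv₁1'.symm) (hw2.trans hv₁2'.symm)
    exact bijective_residueFieldMap_of_point_eq g₁ hv₁2' hres₁

/-- Shrinking the base so that finitely many finite parts with distinct points over `u` become
pairwise disjoint. -/
theorem exists_open_disjoint {P U : Scheme.{u}} (p₂ : P ⟶ U) [IsSeparated p₂] (u : U) {n : ℕ}
    (V : Fin n → P.Opens) (v : Fin n → P) (hv : Function.Injective v)
    (hV : ∀ m, v m ∈ V m ∧ IsFinite ((V m).ι ≫ p₂) ∧ p₂ (v m) = u ∧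
      ∀ w : P, w ∈ V m → p₂ w = u → w = v m) :
    ∃ U' : U.Opens, u ∈ U' ∧
      ∀ (w : P) (m m' : Fin n), p₂ w ∈ U' → w ∈ V m → w ∈ V m' → m = m' := by
  have hcl : ∀ m, IsClosed (V m : Set P) := fun m => isClosed_of_isFinite p₂ (V m) (hV m).2.1
  let Z : Fin n → Fin n → Set U := fun m m' =>
    if m = m' then ∅ else ((V m).ι ≫ p₂) '' ((V m).ι ⁻¹' (V m' : Set P))
  have hZcl : ∀ m m', IsClosed (Z m m') := by
    intro m m'
    by_cases h : m = m'
    · simp only [Z, if_pos h]; exact isClosed_empty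
    · simp only [Z, if_neg h]
      haveI := (hV m).2.1
      exact ((V m).ι ≫ p₂).isClosedMap _ ((hcl m').preimage (V m).ι.continuous)
  have hZu : ∀ m m', u ∉ Z m m' := by
    intro m m' hu
    by_cases h : m = m'
    · simp only [Z, if_pos h] at hu; exact hu
    · simp only [Z, if_neg h] at hu
      obtain ⟨z, hz, hzu⟩ := hu
      have hzu' : p₂ ((V m).ι z) = u := by rw [← Scheme.Hom.comp_apply]; exact hzu
      have h1 : (V m).ι z = v m := (hV m).2.2.2 _ z.2 hzu'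
      have h2 : (V m).ι z = v m' := (hV m').2.2.2 _ hz hzu'
      exact h (hv (h1.symm.trans h2))
  refine ⟨⟨(⋃ m, ⋃ m', Z m m')ᶜ, ?_⟩, ?_, ?_⟩
  · exact (isClosed_iUnion_of_finite fun m =>
      isClosed_iUnion_of_finite fun m' => hZcl m m').isOpen_compl
  · change u ∈ (⋃ m, ⋃ m', Z m m')ᶜ
    simp only [Set.mem_compl_iff, Set.mem_iUnion, not_exists]
    exact hZu
  · intro w m m' hw hm hm'
    by_contra h
    apply hw
    simp only [Set.mem_iUnion]
    refine ⟨m, m', ?_⟩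
    simp only [Z, if_neg h]
    exact ⟨(⟨w, hm⟩ : ↥(V m)), hm', rfl⟩

/-- The heart of the construction, phrased with arbitrary pullback squares. -/
theorem assemble {X S U₁ U₂ U₃ P₁ P₂ P₃ : Scheme.{u}} {f : X ⟶ S} {g₁ : U₁ ⟶ S}
    {g₂ : U₂ ⟶ U₁} {g₃ : U₃ ⟶ U₂}
    {fst₁ : P₁ ⟶ X} {snd₁ : P₁ ⟶ U₁} {a₂ : P₂ ⟶ P₁} {b₂ : P₂ ⟶ U₂} {q₁ : P₃ ⟶ P₂}
    {q₂ : P₃ ⟶ U₃}
    (sq2 : IsPullback a₂ b₂ snd₁ g₂)
    (sq3 : IsPullback q₁ q₂ b₂ g₃)
    {ι : Type} (x : ι → X) (hinj : Function.Injective x)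
    (u₁ : U₁) (u₂ : U₂) (u₃ : U₃) (hu₂ : g₂ u₂ = u₁) (hu₃ : g₃ u₃ = u₂)
    (hb₂ : Function.Bijective (g₂.residueFieldMap u₂))
    (hb₃ : Function.Bijective (g₃.residueFieldMap u₃))
    {n : ℕ} (tpt : Fin n → P₁) (lab : Fin n → ι)
    (hlab : ∀ m, fst₁ (tpt m) = x (lab m))
    (htsurj : ∀ t, snd₁ t = u₁ → ∀ i, fst₁ t = x i → ∃ m, tpt m = t)
    (V₂ : Fin n → P₂.Opens) (v₂ : Fin n → P₂)
    (hV₂ : ∀ m, v₂ m ∈ V₂ m ∧ IsFinite ((V₂ m).ι ≫ b₂) ∧ b₂ (v₂ m) = u₂ ∧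
      (∀ w : P₂, w ∈ V₂ m → b₂ w = u₂ → w = v₂ m) ∧ a₂ (v₂ m) = tpt m)
    (hcl : ∀ m, IsClosed (V₂ m : Set P₂))
    (hdisj₂ : ∀ (w : P₂) (z : U₃) (m m' : Fin n), b₂ w = g₃ z → w ∈ V₂ m → w ∈ V₂ m' → m = m') :
    ∃ (V₃ : Fin n → P₃.Opens) (v₃ : Fin n → P₃),
      (∀ m, IsClopen (V₃ m : Set P₃)) ∧
      (∀ (w : P₃) (m m' : Fin n), w ∈ V₃ m → w ∈ V₃ m' → m = m') ∧
      (∀ m, v₃ m ∈ V₃ m ∧ IsFinite ((V₃ m).ι ≫ q₂) ∧ q₂ (v₃ m) = u₃ ∧
        (∀ w : P₃, w ∈ V₃ m → q₂ w = u₃ → w = v₃ m) ∧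
        (q₁ ≫ a₂ ≫ fst₁) (v₃ m) = x (lab m)) ∧
      (∀ (w : P₃) (i : ι), q₂ w = u₃ → (q₁ ≫ a₂ ≫ fst₁) w = x i →
        ∃ m, lab m = i ∧ w ∈ V₃ m) := by
  have hex : ∀ m, ∃ v₁ : P₃, q₁ v₁ = v₂ m ∧ v₁ ∈ q₁ ⁻¹ᵁ V₂ m ∧
      IsFinite ((q₁ ⁻¹ᵁ V₂ m).ι ≫ q₂) ∧ q₂ v₁ = u₃ ∧
      (∀ w : P₃, w ∈ q₁ ⁻¹ᵁ V₂ m → q₂ w = u₃ → w = v₁) := fun m =>
    finPart_baseChange (V₂ m) (v₂ m) (hV₂ m).1 (hV₂ m).2.1 (hV₂ m).2.2.1 (hV₂ m).2.2.2.1
      sq3 u₃ hu₃ hb₃
  choose v₃ hv₃ using hex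
  refine ⟨fun m => q₁ ⁻¹ᵁ V₂ m, v₃, ?_, ?_, ?_, ?_⟩
  · intro m
    exact (show IsClopen (V₂ m : Set P₂) from ⟨hcl m, (V₂ m).2⟩).preimage q₁.continuous
  · intro w m m' hw1 hw2
    exact hdisj₂ (q₁ w) (q₂ w) m m'
      (by rw [← Scheme.Hom.comp_apply, ← Scheme.Hom.comp_apply, sq3.w]) hw1 hw2
  · intro m
    obtain ⟨h1, h2, h3, h4, h5⟩ := hv₃ m
    refine ⟨h2, h3, h4, h5, ?_⟩
    rw [Scheme.Hom.comp_apply, Scheme.Hom.comp_apply, h1, (hV₂ m).2.2.2.2, hlab m]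
  · intro w i hw1 hw2
    have hc3 : b₂ (q₁ w) = g₃ (q₂ w) := by
      rw [← Scheme.Hom.comp_apply, ← Scheme.Hom.comp_apply, sq3.w]
    have hb2 : b₂ (q₁ w) = u₂ := by rw [hc3, hw1, hu₃]
    have hc2' : ∀ z : P₂, snd₁ (a₂ z) = g₂ (b₂ z) := fun z => by
      rw [← Scheme.Hom.comp_apply, ← Scheme.Hom.comp_apply, sq2.w]
    have hc2 : snd₁ (a₂ (q₁ w)) = g₂ (b₂ (q₁ w)) := hc2' _
    have ht1 : snd₁ (a₂ (q₁ w)) = u₁ := by rw [hc2, hb2, hu₂]
    have ht2 : fst₁ (a₂ (q₁ w)) = x i := by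
      rw [← hw2, Scheme.Hom.comp_apply, Scheme.Hom.comp_apply]
    obtain ⟨m, hm⟩ := htsurj (a₂ (q₁ w)) ht1 i ht2
    have hlabm : lab m = i := hinj (by rw [← hlab m, hm, ht2])
    refine ⟨m, hlabm, ?_⟩
    have hq : q₁ w = v₂ m := by
      apply eq_of_isPullback sq2 (q₁ w) (v₂ m)
      · rw [(hV₂ m).2.2.2.2]; exact hm.symm
      · rw [(hV₂ m).2.2.1]; exact hb2
      · exact bijective_residueFieldMap_of_point_eq g₂ (hV₂ m).2.2.1 hb₂
    change q₁ w ∈ V₂ m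
    rw [hq]; exact (hV₂ m).1

set_option maxHeartbeats 800000 in
/-- Transfer of split data along the canonical isomorphism with the chosen fibre product. -/
theorem transfer {P X U S : Scheme.{u}} {p₁ : P ⟶ X} {p₂ : P ⟶ U} {f : X ⟶ S} {g : U ⟶ S}
    (hpb : IsPullback p₁ p₂ f g) (u : U) {ι : Type} (x : ι → X) {n : ℕ} (lab : Fin n → ι)
    (V : Fin n → P.Opens) (v : Fin n → P)
    (hclopen : ∀ m, IsClopen (V m : Set P))
    (hdisj : ∀ (w : P) (m m' : Fin n), w ∈ V m → w ∈ V m' → m = m')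
    (hprop : ∀ m, v m ∈ V m ∧ IsFinite ((V m).ι ≫ p₂) ∧ p₂ (v m) = u ∧
      (∀ w : P, w ∈ V m → p₂ w = u → w = v m) ∧ p₁ (v m) = x (lab m))
    (hcov : ∀ (w : P) (i : ι), p₂ w = u → p₁ w = x i → ∃ m, lab m = i ∧ w ∈ V m)
    (hPI : ∀ (t : ↑(pullback f g)) (i : ι), pullback.snd f g t = u → pullback.fst f g t = x i →
      PI ((pullback.snd f g).residueFieldMap t).hom) :
    ∃ (J : ι → Type) (_ : ∀ i, Finite (J i)) (V' : ∀ i, J i → (pullback f g).Opens)
      (v' : ∀ i, J i → ↑(pullback f g)),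
        (∀ i j, IsClopen ((V' i j : Set ↑(pullback f g)))) ∧
        (∀ i j i' j', ((V' i j : Set ↑(pullback f g)) ∩ (V' i' j')).Nonempty →
          i = i' ∧ HEq j j') ∧
        (∀ i j, v' i j ∈ V' i j ∧ IsFinite ((V' i j).ι ≫ pullback.snd f g) ∧
          pullback.snd f g (v' i j) = u ∧
          (∀ w : ↑(pullback f g), w ∈ V' i j → pullback.snd f g w = u → w = v' i j) ∧
          (letI := ((pullback.snd f g).residueFieldMap (v' i j)).hom.toAlgebra
           IsPurelyInseparable ↑(U.residueField (pullback.snd f g (v' i j)))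
             ↑((pullback f g).residueField (v' i j))) ∧
          pullback.fst f g (v' i j) = x i) ∧
        (∀ (w : ↑(pullback f g)) (i : ι), pullback.snd f g w = u → pullback.fst f g w = x i →
          ∃ j, w ∈ V' i j) := by
  have hinvsnd : ∀ w, p₂ (hpb.isoPullback.inv w) = pullback.snd f g w := fun w => by
    rw [← Scheme.Hom.comp_apply, hpb.isoPullback_inv_snd]
  have hinvfst : ∀ w, p₁ (hpb.isoPullback.inv w) = pullback.fst f g w := fun w => by
    rw [← Scheme.Hom.comp_apply, hpb.isoPullback_inv_fst]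
  have hhomsnd : ∀ w, pullback.snd f g (hpb.isoPullback.hom w) = p₂ w := fun w => by
    rw [← Scheme.Hom.comp_apply, hpb.isoPullback_hom_snd]
  have hhomfst : ∀ w, pullback.fst f g (hpb.isoPullback.hom w) = p₁ w := fun w => by
    rw [← Scheme.Hom.comp_apply, hpb.isoPullback_hom_fst]
  have hinvhom : ∀ w, hpb.isoPullback.inv (hpb.isoPullback.hom w) = w := fun w => by
    rw [← Scheme.Hom.comp_apply, hpb.isoPullback.hom_inv_id]; rfl
  have hhominv : ∀ w, hpb.isoPullback.hom (hpb.isoPullback.inv w) = w := fun w => by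
    rw [← Scheme.Hom.comp_apply, hpb.isoPullback.inv_hom_id]; rfl
  refine ⟨fun i => {m : Fin n // lab m = i}, fun i => inferInstance,
    fun i j => hpb.isoPullback.inv ⁻¹ᵁ V j.1, fun i j => hpb.isoPullback.hom (v j.1),
    ?_, ?_, ?_, ?_⟩
  · intro i j
    exact (hclopen j.1).preimage hpb.isoPullback.inv.continuous
  · rintro i j i' j' ⟨w, hw1, hw2⟩
    have h := hdisj (hpb.isoPullback.inv w) j.1 j'.1 hw1 hw2
    have hi : i = i' := j.2.symm.trans ((congrArg lab h).trans j'.2)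
    subst hi
    exact ⟨rfl, heq_of_eq (Subtype.ext h)⟩
  · intro i j
    obtain ⟨h1, h2, h3, h4, h5⟩ := hprop j.1
    have hsnd : pullback.snd f g (hpb.isoPullback.hom (v j.1)) = u := by rw [hhomsnd, h3]
    have hfst : pullback.fst f g (hpb.isoPullback.hom (v j.1)) = x i := by
      rw [hhomfst, h5, j.2]
    refine ⟨?_, ?_, hsnd, ?_, ?_, hfst⟩
    · change hpb.isoPullback.inv (hpb.isoPullback.hom (v j.1)) ∈ V j.1
      rw [hinvhom]; exact h1
    · have : (hpb.isoPullback.inv ⁻¹ᵁ V j.1).ι ≫ pullback.snd f g =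
          (hpb.isoPullback.inv ∣_ V j.1) ≫ (V j.1).ι ≫ p₂ := by
        rw [← hpb.isoPullback_inv_snd, ← Category.assoc, ← morphismRestrict_ι, Category.assoc]
      rw [this]
      infer_instance
    · intro w hw hw2
      have hw' : hpb.isoPullback.inv w ∈ V j.1 := hw
      have := h4 _ hw' (by rw [hinvsnd, hw2])
      change w = hpb.isoPullback.hom (v j.1)
      rw [← this, hhominv]
    · exact (hPI _ i hsnd hfst).isPurelyInseparable
  · intro w i hw1 hw2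
    obtain ⟨m, hm1, hm2⟩ := hcov (hpb.isoPullback.inv w) i (by rw [hinvsnd, hw1])
      (by rw [hinvfst, hw2])
    exact ⟨⟨m, hm1⟩, hm2⟩

set_option maxHeartbeats 1600000 in
/-- Stacks 02LN-type splitting: after an étale neighbourhood, the quasi-finite part at finitely
many points of a fibre splits into finite pieces with purely inseparable residue fields. -/
theorem main9778 {X S : Scheme.{u}} (f : X ⟶ S) [LocallyOfFiniteType f] [IsSeparated f] (s : S)
    {ι : Type} [Finite ι] (x : ι → ↑X) (hinj : Function.Injective x) (hs : ∀ i, f (x i) = s)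
    (hx : ∀ i, f.QuasiFiniteAt (x i)) :
    ∃ (U : Scheme.{u}) (g : U ⟶ S) (u : U), Etale g ∧ g u = s ∧
      ∃ (J : ι → Type) (_ : ∀ i, Finite (J i)) (V : ∀ i, J i → (pullback f g).Opens)
        (v : ∀ i, J i → ↑(pullback f g)),
        (∀ i j, IsClopen ((V i j : Set ↑(pullback f g)))) ∧
        (∀ i j i' j', ((V i j : Set ↑(pullback f g)) ∩ (V i' j')).Nonempty →
          i = i' ∧ HEq j j') ∧
        (∀ i j, v i j ∈ V i j ∧ IsFinite ((V i j).ι ≫ pullback.snd f g) ∧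
          pullback.snd f g (v i j) = u ∧
          (∀ w : ↑(pullback f g), w ∈ V i j → pullback.snd f g w = u → w = v i j) ∧
          (letI := ((pullback.snd f g).residueFieldMap (v i j)).hom.toAlgebra
           IsPurelyInseparable ↑(U.residueField (pullback.snd f g (v i j)))
             ↑((pullback f g).residueField (v i j))) ∧
          pullback.fst f g (v i j) = x i) ∧
        (∀ (w : ↑(pullback f g)) (i : ι), pullback.snd f g w = u → pullback.fst f g w = x i →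
          ∃ j, w ∈ V i j) := by
  -- (a) the residue field extensions are finite
  have hfin : ∀ i, ((S.residueFieldCongr (hs i)).inv ≫ f.residueFieldMap (x i)).hom.Finite := by
    intro i
    rw [CommRingCat.hom_comp]
    exact (finite_residueFieldMap f (x i) (hx i)).comp
      (RingHom.Finite.of_surjective _
        (ConcreteCategory.bijective_of_isIso (S.residueFieldCongr (hs i)).inv).2)
  letI algK : ∀ i, Algebra (S.residueField s) (X.residueField (x i)) := fun i =>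
    ((S.residueFieldCongr (hs i)).inv ≫ f.residueFieldMap (x i)).hom.toAlgebra
  haveI : ∀ i, FiniteDimensional (S.residueField s) (X.residueField (x i)) := fun i => hfin i
  -- (b) a finite separable extension splitting everything separable
  obtain ⟨k, _, _, _, _, hsp⟩ := exists_field_splits (κ := S.residueField s)
    (fun i => (X.residueField (x i) : Type u))
  -- (c) an étale neighbourhood realising it
  obtain ⟨U₁, g₁, u₁, hu₁, hg₁, ψ, hψb, hψ⟩ := EtResH4.main9734 S s k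
  let e : ↑(U₁.residueField u₁) ≃+* k := RingEquiv.ofBijective ψ.hom hψb
  have hβ : ((S.residueFieldCongr hu₁).inv ≫ g₁.residueFieldMap u₁).hom =
      e.symm.toRingHom.comp (algebraMap (S.residueField s) k) := by
    apply RingHom.ext
    intro c
    have h1 : e (((S.residueFieldCongr hu₁).inv ≫ g₁.residueFieldMap u₁).hom c) =
        algebraMap (S.residueField s) k c := congrArg (fun q => q.hom c) hψ
    exact (e.symm_apply_eq.mpr h1.symm).symm
  have hsplit₁ : ∀ i, ∀ c ∈ separableClosure (S.residueField s) (X.residueField (x i)),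
      ((minpoly (S.residueField s) c).map
        ((S.residueFieldCongr hu₁).inv ≫ g₁.residueFieldMap u₁).hom).Splits := by
    intro i c hc
    rw [hβ, ← Polynomial.map_map]
    exact (hsp i c hc).map _
  -- (d) the finitely many points over `(x i, u₁)`
  have hFi : ∀ i, {t : ↑(pullback f g₁) |
      pullback.fst f g₁ t = x i ∧ pullback.snd f g₁ t = u₁}.Finite :=
    fun i => finite_points_over f g₁ ⟨x i, u₁, s, hs i, hu₁⟩ (hx i)
  have hF : {t : ↑(pullback f g₁) |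
      pullback.snd f g₁ t = u₁ ∧ ∃ i, pullback.fst f g₁ t = x i}.Finite := by
    apply (Set.finite_iUnion hFi).subset
    rintro t ⟨h1, i, h2⟩
    exact Set.mem_iUnion.mpr ⟨i, h2, h1⟩
  obtain ⟨n, tpt, htinj, htF, htsurj⟩ := exists_enum _ hF
  have htu : ∀ m, pullback.snd f g₁ (tpt m) = u₁ := fun m => (htF m).1
  have hlabex : ∀ m, ∃ i, pullback.fst f g₁ (tpt m) = x i := fun m => (htF m).2
  choose lab hlab using hlabex
  have hqf : ∀ m, (pullback.snd f g₁).QuasiFiniteAt (tpt m) := fun m =>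
    quasiFiniteAt_snd f g₁ (tpt m) (by rw [hlab m]; exact hx _)
  -- (e) a common elementary étale neighbourhood with finite parts
  obtain ⟨U₂, g₂, u₂, hg₂, hu₂, hb₂, H⟩ := multi (Fin n) (pullback.snd f g₁) u₁ tpt htu hqf
  choose V₂ v₂ hV₂ using H
  have hv₂inj : Function.Injective v₂ := by
    intro m m' h
    apply htinj
    rw [← (hV₂ m).2.2.2.2.1, ← (hV₂ m').2.2.2.2.1, h]
  -- (f) shrink to make the finite parts disjoint
  obtain ⟨U₃, hu₂U₃, hdisj₂⟩ := exists_open_disjoint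
    (pullback.snd (pullback.snd f g₁) g₂) u₂ V₂ v₂ hv₂inj
    (fun m => ⟨(hV₂ m).1, (hV₂ m).2.1, (hV₂ m).2.2.1, (hV₂ m).2.2.2.1⟩)
  -- (g) assemble
  have hb₃ : Function.Bijective (U₃.ι.residueFieldMap (⟨u₂, hu₂U₃⟩ : ↥U₃)) :=
    ConcreteCategory.bijective_of_isIso _
  have hu₃ : U₃.ι (⟨u₂, hu₂U₃⟩ : ↥U₃) = u₂ := rfl
  obtain ⟨V₃, v₃, hclopen, hdisj, hprop, hcov⟩ := assemble (f := f) (g₁ := g₁)
    (fst₁ := pullback.fst f g₁)
    (IsPullback.of_hasPullback (pullback.snd f g₁) g₂)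
    (IsPullback.of_hasPullback (pullback.snd (pullback.snd f g₁) g₂) U₃.ι)
    x hinj u₁ u₂ (⟨u₂, hu₂U₃⟩ : ↥U₃) hu₂ hu₃ hb₂ hb₃
    tpt lab hlab (fun t h1 i h2 => htsurj t ⟨h1, i, h2⟩) V₂ v₂
    (fun m => ⟨(hV₂ m).1, (hV₂ m).2.1, (hV₂ m).2.2.1, (hV₂ m).2.2.2.1, (hV₂ m).2.2.2.2.1⟩)
    (fun m => isClosed_of_isFinite _ (V₂ m) (hV₂ m).2.1)
    (fun w z m m' hz => hdisj₂ w m m' (by rw [hz]; exact z.2))
  have hpb : IsPullback
      (pullback.fst (pullback.snd (pullback.snd f g₁) g₂) U₃.ι ≫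
        pullback.fst (pullback.snd f g₁) g₂ ≫ pullback.fst f g₁)
      (pullback.snd (pullback.snd (pullback.snd f g₁) g₂) U₃.ι) f (U₃.ι ≫ g₂ ≫ g₁) :=
    (IsPullback.of_hasPullback (pullback.snd (pullback.snd f g₁) g₂) U₃.ι).paste_horiz
      ((IsPullback.of_hasPullback (pullback.snd f g₁) g₂).paste_horiz
        (IsPullback.of_hasPullback f g₁))
  have hus₂ : (g₂ ≫ g₁) u₂ = s := by rw [Scheme.Hom.comp_apply, hu₂, hu₁]
  have hus₃ : (U₃.ι ≫ g₂ ≫ g₁) (⟨u₂, hu₂U₃⟩ : ↥U₃) = s := by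
    rw [Scheme.Hom.comp_apply, hu₃, hus₂]
  have hsplit₃ : ∀ i, ∀ c ∈ separableClosure (S.residueField s) (X.residueField (x i)),
      ((minpoly (S.residueField s) c).map
        ((S.residueFieldCongr hus₃).inv ≫
          (U₃.ι ≫ g₂ ≫ g₁).residueFieldMap (⟨u₂, hu₂U₃⟩ : ↥U₃)).hom).Splits := by
    intro i c hc
    apply splits_comp U₃.ι (g₂ ≫ g₁) _ u₂ s hu₃ hus₂
    exact splits_comp g₂ g₁ u₂ u₁ s hu₂ hu₁ hus₂ _ (hsplit₁ i c hc)
  refine ⟨↑U₃, U₃.ι ≫ g₂ ≫ g₁, (⟨u₂, hu₂U₃⟩ : ↥U₃), inferInstance, hus₃, ?_⟩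
  refine transfer hpb _ x lab V₃ v₃ hclopen hdisj hprop hcov ?_
  intro t i hsnd hfst
  exact PI_snd_residueFieldMap f (U₃.ι ≫ g₂ ≫ g₁) t s (x i) _ hfst hsnd (hs i) hus₃ (hfin i)
    (hsplit₃ i)

end Groth.Agent.Lib.EtNbhdFinH4
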