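import Mathlib
import Groth.Agent.Lib.EtNbhdFin7_helper4

/-!
# Étale-local structure of unramified and étale morphisms: basic tools (helper4)
-/

open AlgebraicGeometry CategoryTheory Limits

universe u

namespace Groth.Agent.Lib.EtLocH4

open PurInsepH4 EtNbhdFinH4

/-- A purely inseparable extension of fields gives a universally injective morphism of spectra. -/
theorem univInj_of_PI {K L : Type u} [Field K] [Field L] (φ : K →+* L) (h : PI φ) :
    UniversallyInjective (Spec.map (CommRingCat.ofHom φ)) := by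
  have htfae := (tfae_universallyInjective (Spec.map (CommRingCat.ofHom φ))).out 0 1
  rw [htfae]
  intro F _ g₁ g₂ hg
  obtain ⟨σ₁, rfl⟩ := Spec.map_surjective g₁
  obtain ⟨σ₂, rfl⟩ := Spec.map_surjective g₂
  have hg' : Spec.map (CommRingCat.ofHom φ ≫ σ₁) = Spec.map (CommRingCat.ofHom φ ≫ σ₂) := by
    rw [Spec.map_comp, Spec.map_comp]; exact hg
  have h' := Spec.map_injective hg'
  congr 1
  letI := φ.toAlgebra
  haveI := h.isPurelyInseparable
  have := IsPurelyInseparable.injective_comp_algebraMap K L F (a₁ := σ₁.hom) (a₂ := σ₂.hom)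
    (congrArg CommRingCat.Hom.hom h')
  exact CommRingCat.hom_ext this

/-- Uniqueness of the point of a fibre product over a pair of points, one of which has purely
inseparable residue field over the base point. -/
theorem eq_of_PI {X Y S : Scheme.{u}} (f : X ⟶ S) (g : Y ⟶ S) (t₁ t₂ : ↑(pullback f g))
    (h1 : pullback.fst f g t₁ = pullback.fst f g t₂)
    (h2 : pullback.snd f g t₁ = pullback.snd f g t₂)
    (hPI : PI (g.residueFieldMap (pullback.snd f g t₂)).hom) : t₁ = t₂ := by
  apply Scheme.Pullback.carrierEquiv.injective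
  have e : Scheme.Pullback.Triplet.ofPoint t₁ = Scheme.Pullback.Triplet.ofPoint t₂ := by
    ext <;> simp [h1, h2]
  have hz : ∀ z, (S.residueFieldCongr (Scheme.Pullback.Triplet.ofPoint t₂).hy).inv.hom
      ((S.residueFieldCongr (Scheme.Pullback.Triplet.ofPoint t₂).hy).hom.hom z) = z := fun z =>
    congrArg (fun q => q.hom z) (S.residueFieldCongr (Scheme.Pullback.Triplet.ofPoint t₂).hy).hom_inv_id
  have hPI' : PI ((S.residueFieldCongr (Scheme.Pullback.Triplet.ofPoint t₂).hy).inv ≫
      g.residueFieldMap (Scheme.Pullback.Triplet.ofPoint t₂).y).hom := by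
    refine hPI.of_square _ (S.residueFieldCongr (Scheme.Pullback.Triplet.ofPoint t₂).hy).hom.hom
      (RingHom.id _) (fun y => ⟨y, rfl⟩) ?_
    apply RingHom.ext
    intro z
    change (g.residueFieldMap _).hom z = (g.residueFieldMap _).hom
      ((S.residueFieldCongr (Scheme.Pullback.Triplet.ofPoint t₂).hy).inv.hom
        ((S.residueFieldCongr (Scheme.Pullback.Triplet.ofPoint t₂).hy).hom.hom z))
    rw [hz]
    rfl
  haveI hUI : UniversallyInjective
      (Spec.map ((S.residueFieldCongr (Scheme.Pullback.Triplet.ofPoint t₂).hy).inv ≫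
        g.residueFieldMap (Scheme.Pullback.Triplet.ofPoint t₂).y)) := univInj_of_PI _ hPI'
  haveI hUI' : UniversallyInjective (Spec.map (Scheme.Pullback.Triplet.ofPoint t₂).tensorInl) :=
    MorphismProperty.of_isPullback (P := @UniversallyInjective)
      (Scheme.Pullback.Triplet.ofPoint t₂).isPullback_SpecMap_tensor.flip hUI
  have hsub : Subsingleton ↑(Spec (Scheme.Pullback.Triplet.ofPoint t₂).tensor) :=
    (Spec.map (Scheme.Pullback.Triplet.ofPoint t₂).tensorInl).injective.subsingleton
  exact Scheme.Pullback.carrierEquiv_eq_iff.mpr ⟨e, hsub.elim _ _⟩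

/-- A finite unramified morphism with a single point over `u`, whose residue field is purely
inseparable over `κ(u)`, is a closed immersion over a neighbourhood of `u` (in the strong form:
every base change to a scheme mapping into that neighbourhood is a closed immersion). -/
theorem exists_open_forall_isClosedImmersion {V U : Scheme.{u}} (π : V ⟶ U) [IsFinite π]
    [FormallyUnramified π] (u : U) (v : V) (huniq : ∀ w, π w = u → w = v)
    (hPI : PI (π.residueFieldMap v).hom) :
    ∃ U₀ : U.Opens, u ∈ U₀ ∧ ∀ {U' P' : Scheme.{u}} (j : U' ⟶ U) (q₁ : P' ⟶ V) (q₂ : P' ⟶ U'),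
      IsPullback q₁ q₂ π j → (∀ y, j y ∈ U₀) → IsClosedImmersion q₂ := by
  have hp : ∀ c, (pullback.fst π π ≫ π) c = π (pullback.fst π π c) := fun c => rfl
  have hp' : ∀ c, (pullback.fst π π ≫ π) c = π (pullback.snd π π c) := fun c => by
    rw [pullback.condition]; rfl
  have hCcl : IsClosed (Set.range (pullback.diagonal π))ᶜ :=
    (pullback.diagonal π).isOpenEmbedding.isOpen_range.isClosed_compl
  have hZcl : IsClosed ((pullback.fst π π ≫ π) '' (Set.range (pullback.diagonal π))ᶜ) :=
    (pullback.fst π π ≫ π).isClosedMap _ hCcl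
  have huZ : u ∉ (pullback.fst π π ≫ π) '' (Set.range (pullback.diagonal π))ᶜ := by
    rintro ⟨c, hc, hcu⟩
    apply hc
    have h1 : pullback.fst π π c = v := huniq _ (by rw [← hp]; exact hcu)
    have h2 : pullback.snd π π c = v := huniq _ (by rw [← hp']; exact hcu)
    have hΔ1 : pullback.fst π π (pullback.diagonal π v) = v := by
      rw [← Scheme.Hom.comp_apply, pullback.diagonal_fst]; rfl
    have hΔ2 : pullback.snd π π (pullback.diagonal π v) = v := by
      rw [← Scheme.Hom.comp_apply, pullback.diagonal_snd]; rfl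
    refine ⟨v, (eq_of_PI π π c (pullback.diagonal π v) (h1.trans hΔ1.symm)
      (h2.trans hΔ2.symm) ?_).symm⟩
    exact PI_of_point_eq π hΔ2 hPI
  refine ⟨⟨((pullback.fst π π ≫ π) '' (Set.range (pullback.diagonal π))ᶜ)ᶜ,
    hZcl.isOpen_compl⟩, huZ, ?_⟩
  intro U' P' j q₁ q₂ hpb hj
  rw [IsClosedImmersion.iff_isFinite_and_mono]
  refine ⟨MorphismProperty.of_isPullback (P := @IsFinite) hpb inferInstance,
    ⟨fun {T} a b hab => ?_⟩⟩
  have hcomm : (a ≫ q₁) ≫ π = (b ≫ q₁) ≫ π := by
    rw [Category.assoc, Category.assoc, hpb.w, ← Category.assoc, ← Category.assoc, hab]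
  have hrange : Set.range (pullback.lift (a ≫ q₁) (b ≫ q₁) hcomm) ⊆
      Set.range (pullback.diagonal π) := by
    rintro _ ⟨t, rfl⟩
    by_contra hc
    have h1 : (pullback.fst π π ≫ π) (pullback.lift (a ≫ q₁) (b ≫ q₁) hcomm t) ∈
        (pullback.fst π π ≫ π) '' (Set.range (pullback.diagonal π))ᶜ := ⟨_, hc, rfl⟩
    have h2 : (pullback.fst π π ≫ π) (pullback.lift (a ≫ q₁) (b ≫ q₁) hcomm t) =
        j (q₂ (a t)) := by
      change (pullback.lift (a ≫ q₁) (b ≫ q₁) hcomm ≫ pullback.fst π π ≫ π) t =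
        (a ≫ q₂ ≫ j) t
      rw [pullback.lift_fst_assoc, Category.assoc, hpb.w]
    rw [h2] at h1
    exact hj _ h1
  have ht := IsOpenImmersion.lift_fac (pullback.diagonal π)
    (pullback.lift (a ≫ q₁) (b ≫ q₁) hcomm) hrange
  have e1 : a ≫ q₁ = IsOpenImmersion.lift (pullback.diagonal π)
      (pullback.lift (a ≫ q₁) (b ≫ q₁) hcomm) hrange := by
    have := congrArg (· ≫ pullback.fst π π) ht
    simp only [Category.assoc, pullback.diagonal_fst, Category.comp_id, pullback.lift_fst] at this
    exact this.symm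
  have e2 : b ≫ q₁ = IsOpenImmersion.lift (pullback.diagonal π)
      (pullback.lift (a ≫ q₁) (b ≫ q₁) hcomm) hrange := by
    have := congrArg (· ≫ pullback.snd π π) ht
    simp only [Category.assoc, pullback.diagonal_snd, Category.comp_id, pullback.lift_snd] at this
    exact this.symm
  exact hpb.hom_ext (e1.trans e2.symm) hab

/-- The étale variant: the base changes are isomorphisms. -/
theorem exists_open_forall_isIso {V U : Scheme.{u}} (π : V ⟶ U) [IsFinite π] [Etale π]
    (u : U) (v : V) (hv : π v = u) (huniq : ∀ w, π w = u → w = v)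
    (hPI : PI (π.residueFieldMap v).hom) :
    ∃ U₀ : U.Opens, u ∈ U₀ ∧ ∀ {U' P' : Scheme.{u}} (j : U' ⟶ U) (q₁ : P' ⟶ V) (q₂ : P' ⟶ U'),
      IsPullback q₁ q₂ π j → (∀ y, j y ∈ U₀) → IsIso q₂ := by
  obtain ⟨U₀, hu, H⟩ := exists_open_forall_isClosedImmersion π u v huniq hPI
  refine ⟨U₀ ⊓ ⟨Set.range π, π.isOpenMap.isOpen_range⟩, ⟨hu, v, hv⟩, ?_⟩
  intro U' P' j q₁ q₂ hpb hj
  haveI : IsClosedImmersion q₂ := H j q₁ q₂ hpb (fun y => (hj y).1)
  haveI : Etale q₂ := MorphismProperty.of_isPullback (P := @Etale) hpb inferInstance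
  haveI : Surjective q₂ := ⟨fun y => by
    obtain ⟨w, hw⟩ := (hj y).2
    obtain ⟨z, -, hz⟩ := Scheme.exists_preimage_of_isPullback hpb w y hw
    exact ⟨z, hz⟩⟩
  exact Flat.isIso_of_surjective_of_mono q₂

/-- Unramified morphisms are locally quasi-finite. -/
theorem locallyQuasiFinite_of_unramified {X Y : Scheme.{u}} (f : X ⟶ Y) [LocallyOfFiniteType f]
    [FormallyUnramified f] : LocallyQuasiFinite f := by
  refine ⟨fun {U} hU {V} hV e => ?_⟩
  have h1 : (f.appLE U V e).hom.FiniteType := f.finiteType_appLE hU hV e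
  have h2 : (f.appLE U V e).hom.FormallyUnramified := f.formallyUnramified_appLE hU hV e
  algebraize [(f.appLE U V e).hom]
  change Algebra.QuasiFinite _ _
  infer_instance

/-- Properties local at the source pass to the union of opens. -/
theorem of_iSup {P : MorphismProperty Scheme.{u}} [IsZariskiLocalAtSource P] {X S : Scheme.{u}}
    (f : X ⟶ S) {ι : Type*} (W : ι → X.Opens) (H : ∀ i, P ((W i).ι ≫ f)) :
    P ((⨆ i, W i).ι ≫ f) := by
  apply IsZariskiLocalAtSource.of_openCover (Scheme.Opens.iSupOpenCover W)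
  intro i
  have : (Scheme.Opens.iSupOpenCover W).f i ≫ (⨆ i, W i).ι ≫ f = (W i).ι ≫ f := by
    simp [Scheme.Opens.iSupOpenCover]
  rw [this]; exact H i

end Groth.Agent.Lib.EtLocH4
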