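import Mathlib
import Groth.Agent.Lib.EtLoc1_helper4

/-!
# Étale-local structure of unramified and étale morphisms: split data (helper4)
-/

open AlgebraicGeometry CategoryTheory Limits

universe u

namespace Groth.Agent.Lib.EtLocH4

open PurInsepH4 EtNbhdFinH4

/-- Split data over a point `u` for a fibre-product-like scheme `P`. -/
structure SplitData {P X U : Scheme.{u}} (p₁ : P ⟶ X) (p₂ : P ⟶ U) (u : U) {ι : Type}
    (x : ι → X) {n : ℕ} (lab : Fin n → ι) (V : Fin n → P.Opens) (v : Fin n → P) : Prop where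
  inj : Function.Injective v
  mem : ∀ m, v m ∈ V m
  snd_v : ∀ m, p₂ (v m) = u
  uniq : ∀ m (w : P), w ∈ V m → p₂ w = u → w = v m
  fst_v : ∀ m, p₁ (v m) = x (lab m)
  cov : ∀ (w : P) (i : ι), p₂ w = u → p₁ w = x i → ∃ m, lab m = i ∧ w ∈ V m

theorem SplitData.baseChange {P X U U₃ P₃ : Scheme.{u}} {p₁ : P ⟶ X} {p₂ : P ⟶ U} {u : U}
    {ι : Type} {x : ι → X} {n : ℕ} {lab : Fin n → ι} {V : Fin n → P.Opens} {v : Fin n → P}
    (h : SplitData p₁ p₂ u x lab V v) (hfin : ∀ m, IsFinite ((V m).ι ≫ p₂))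
    {g₃ : U₃ ⟶ U} {q₁ : P₃ ⟶ P} {q₂ : P₃ ⟶ U₃} (sq3 : IsPullback q₁ q₂ p₂ g₃) (u₃ : U₃)
    (hu₃ : g₃ u₃ = u) (hb₃ : Function.Bijective (g₃.residueFieldMap u₃)) :
    ∃ v₃ : Fin n → P₃, (∀ m, q₁ (v₃ m) = v m) ∧
      SplitData (q₁ ≫ p₁) q₂ u₃ x lab (fun m => q₁ ⁻¹ᵁ V m) v₃ := by
  have hex : ∀ m, ∃ v₁ : P₃, q₁ v₁ = v m ∧ v₁ ∈ q₁ ⁻¹ᵁ V m ∧
      IsFinite ((q₁ ⁻¹ᵁ V m).ι ≫ q₂) ∧ q₂ v₁ = u₃ ∧
      (∀ w : P₃, w ∈ q₁ ⁻¹ᵁ V m → q₂ w = u₃ → w = v₁) := fun m =>
    finPart_baseChange (V m) (v m) (h.mem m) (hfin m) (h.snd_v m) (h.uniq m) sq3 u₃ hu₃ hb₃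
  choose v₃ hv₃ using hex
  have hc3 : ∀ w : P₃, p₂ (q₁ w) = g₃ (q₂ w) := fun w => by
    rw [← Scheme.Hom.comp_apply, ← Scheme.Hom.comp_apply, sq3.w]
  refine ⟨v₃, fun m => (hv₃ m).1, ?_, fun m => (hv₃ m).2.1, fun m => (hv₃ m).2.2.2.1,
    fun m => (hv₃ m).2.2.2.2, ?_, ?_⟩
  · intro m m' hmm
    apply h.inj
    rw [← (hv₃ m).1, ← (hv₃ m').1, hmm]
  · intro m
    rw [Scheme.Hom.comp_apply, (hv₃ m).1, h.fst_v m]
  · intro w i hw1 hw2
    have h1 : p₂ (q₁ w) = u := by rw [hc3, hw1, hu₃]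
    have h2 : p₁ (q₁ w) = x i := by rw [← hw2, Scheme.Hom.comp_apply]
    obtain ⟨m, hm1, hm2⟩ := h.cov (q₁ w) i h1 h2
    exact ⟨m, hm1, hm2⟩

/-- The comparison open immersion from a model of `X' ×_S U` to `X ×_S U` for an open immersion
`X' ⟶ X`. -/
theorem exists_openImmersion {P X' X U S : Scheme.{u}} {p₁ : P ⟶ X'} {p₂ : P ⟶ U}
    (i : X' ⟶ X) [IsOpenImmersion i] {f : X ⟶ S} {g : U ⟶ S}
    (hpb : IsPullback p₁ p₂ (i ≫ f) g) :
    ∃ (j : P ⟶ pullback f g), IsOpenImmersion j ∧ j ≫ pullback.snd f g = p₂ ∧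
      j ≫ pullback.fst f g = p₁ ≫ i ∧ IsPullback j p₁ (pullback.fst f g) i := by
  have hright : IsPullback (pullback.snd f g) (pullback.fst f g) g f :=
    (IsPullback.of_hasPullback f g).flip
  have hleft := IsPullback.of_right' hpb.flip hright
  exact ⟨_, MorphismProperty.of_isPullback (P := @IsOpenImmersion) hleft.flip inferInstance,
    hright.lift_fst _ _ _, hright.lift_snd _ _ _, hleft⟩

set_option maxHeartbeats 1600000 in
/-- The non-separated core: after an étale neighbourhood, finite parts at the given quasi-finite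
points with purely inseparable residue fields, covering all points over `(x i, u)`. -/
theorem core' {X S : Scheme.{u}} (f : X ⟶ S) [LocallyOfFiniteType f] (s : S)
    {ι : Type} [Finite ι] (x : ι → ↑X) (hinj : Function.Injective x) (hs : ∀ i, f (x i) = s)
    (hx : ∀ i, f.QuasiFiniteAt (x i)) :
    ∃ (U P : Scheme.{u}) (g : U ⟶ S) (u : U) (p₁ : P ⟶ X) (p₂ : P ⟶ U), Etale g ∧ g u = s ∧
      IsPullback p₁ p₂ f g ∧
      (∀ (t : ↑(pullback f g)) (i : ι), pullback.snd f g t = u → pullback.fst f g t = x i →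
        PI ((pullback.snd f g).residueFieldMap t).hom) ∧
      ∃ (n : ℕ) (lab : Fin n → ι) (V : Fin n → P.Opens) (v : Fin n → P),
        SplitData p₁ p₂ u x lab V v ∧ (∀ m, IsFinite ((V m).ι ≫ p₂)) ∧
        ∀ m, PI (p₂.residueFieldMap (v m)).hom := by
  -- (a) the residue field extensions are finite
  have hfin : ∀ i, ((S.residueFieldCongr (hs i)).inv ≫ f.residueFieldMap (x i)).hom.Finite := by
    intro i
    rw [CommRingCat.hom_comp]
    exact (finite_residueFieldMap f (x i) (hx i)).comp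
      (RingHom.Finite.of_surjective _
        (ConcreteCategory.bijective_of_isIso (S.residueFieldCongr (hs i)).inv).2)
  letI algK : ∀ i, Algebra (S.residueField s) (X.residueField (x i)) := fun i =>
    ((S.residueFieldCongr (hs i)).inv ≫ f.residueFieldMap (x i)).hom.toAlgebra
  haveI : ∀ i, FiniteDimensional (S.residueField s) (X.residueField (x i)) := fun i => hfin i
  -- (b) a finite separable extension splitting everything separable
  obtain ⟨k, _, _, _, _, hsp⟩ := exists_field_splits (κ := S.residueField s)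
    (fun i => (X.residueField (x i) : Type u))
  -- (c) an étale neighbourhood realising it
  obtain ⟨U₁, g₁, u₁, hu₁, hg₁, ψ, hψb, hψ⟩ := EtResH4.main9734 S s k
  let e : ↑(U₁.residueField u₁) ≃+* k := RingEquiv.ofBijective ψ.hom hψb
  have hβ : ((S.residueFieldCongr hu₁).inv ≫ g₁.residueFieldMap u₁).hom =
      e.symm.toRingHom.comp (algebraMap (S.residueField s) k) := by
    apply RingHom.ext
    intro c
    have h1 : e (((S.residueFieldCongr hu₁).inv ≫ g₁.residueFieldMap u₁).hom c) =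
        algebraMap (S.residueField s) k c := congrArg (fun q => q.hom c) hψ
    exact (e.symm_apply_eq.mpr h1.symm).symm
  have hsplit₁ : ∀ i, ∀ c ∈ separableClosure (S.residueField s) (X.residueField (x i)),
      ((minpoly (S.residueField s) c).map
        ((S.residueFieldCongr hu₁).inv ≫ g₁.residueFieldMap u₁).hom).Splits := by
    intro i c hc
    rw [hβ, ← Polynomial.map_map]
    exact (hsp i c hc).map _
  -- (d) the finitely many points over `(x i, u₁)`
  have hFi : ∀ i, {t : ↑(pullback f g₁) |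
      pullback.fst f g₁ t = x i ∧ pullback.snd f g₁ t = u₁}.Finite :=
    fun i => finite_points_over f g₁ ⟨x i, u₁, s, hs i, hu₁⟩ (hx i)
  have hF : {t : ↑(pullback f g₁) |
      pullback.snd f g₁ t = u₁ ∧ ∃ i, pullback.fst f g₁ t = x i}.Finite := by
    apply (Set.finite_iUnion hFi).subset
    rintro t ⟨h1, i, h2⟩
    exact Set.mem_iUnion.mpr ⟨i, h2, h1⟩
  obtain ⟨n, tpt, htinj, htF, htsurj⟩ := exists_enum _ hF
  have htu : ∀ m, pullback.snd f g₁ (tpt m) = u₁ := fun m => (htF m).1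
  have hlabex : ∀ m, ∃ i, pullback.fst f g₁ (tpt m) = x i := fun m => (htF m).2
  choose lab hlab using hlabex
  have hqf : ∀ m, (pullback.snd f g₁).QuasiFiniteAt (tpt m) := fun m =>
    quasiFiniteAt_snd f g₁ (tpt m) (by rw [hlab m]; exact hx _)
  -- (e) a common elementary étale neighbourhood with finite parts
  obtain ⟨U₂, g₂, u₂, hg₂, hu₂, hb₂, H⟩ := multi (Fin n) (pullback.snd f g₁) u₁ tpt htu hqf
  choose V₂ v₂ hV₂ using H
  have hv₂inj : Function.Injective v₂ := by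
    intro m m' h
    apply htinj
    rw [← (hV₂ m).2.2.2.2.1, ← (hV₂ m').2.2.2.2.1, h]
  have sq2 := IsPullback.of_hasPullback (pullback.snd f g₁) g₂
  have hc2 : ∀ z : ↑(pullback (pullback.snd f g₁) g₂),
      pullback.snd f g₁ (pullback.fst (pullback.snd f g₁) g₂ z) =
        g₂ (pullback.snd (pullback.snd f g₁) g₂ z) := fun z => by
    rw [← Scheme.Hom.comp_apply, ← Scheme.Hom.comp_apply, pullback.condition]
  have hus₂ : (g₂ ≫ g₁) u₂ = s := by rw [Scheme.Hom.comp_apply, hu₂, hu₁]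
  have hsplit₂ : ∀ i, ∀ c ∈ separableClosure (S.residueField s) (X.residueField (x i)),
      ((minpoly (S.residueField s) c).map
        ((S.residueFieldCongr hus₂).inv ≫ (g₂ ≫ g₁).residueFieldMap u₂).hom).Splits :=
    fun i c hc => splits_comp g₂ g₁ u₂ u₁ s hu₂ hu₁ hus₂ _ (hsplit₁ i c hc)
  refine ⟨U₂, pullback (pullback.snd f g₁) g₂, g₂ ≫ g₁, u₂,
    pullback.fst (pullback.snd f g₁) g₂ ≫ pullback.fst f g₁,
    pullback.snd (pullback.snd f g₁) g₂, inferInstance, hus₂,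
    sq2.paste_horiz (IsPullback.of_hasPullback f g₁),
    fun t i hsnd hfst => PI_snd_residueFieldMap f (g₂ ≫ g₁) t s (x i) u₂ hfst hsnd (hs i) hus₂
      (hfin i) (hsplit₂ i),
    n, lab, V₂, v₂, ?_, fun m => (hV₂ m).2.1, ?_⟩
  · refine ⟨hv₂inj, fun m => (hV₂ m).1, fun m => (hV₂ m).2.2.1, fun m => (hV₂ m).2.2.2.1, ?_, ?_⟩
    · intro m
      rw [Scheme.Hom.comp_apply, (hV₂ m).2.2.2.2.1, hlab m]
    · intro w i hw1 hw2
      have ht1 : pullback.snd f g₁ (pullback.fst (pullback.snd f g₁) g₂ w) = u₁ := by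
        rw [hc2, hw1, hu₂]
      have ht2 : pullback.fst f g₁ (pullback.fst (pullback.snd f g₁) g₂ w) = x i := by
        rw [← hw2, Scheme.Hom.comp_apply]
      obtain ⟨m, hm⟩ := htsurj _ ⟨ht1, i, ht2⟩
      have hlabm : lab m = i := hinj (by rw [← hlab m, hm, ht2])
      refine ⟨m, hlabm, ?_⟩
      have hq : w = v₂ m := by
        apply eq_of_isPullback sq2 w (v₂ m)
        · rw [(hV₂ m).2.2.2.2.1]; exact hm.symm
        · rw [(hV₂ m).2.2.1]; exact hw1
        · exact bijective_residueFieldMap_of_point_eq g₂ (hV₂ m).2.2.1 hb₂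
      rw [hq]; exact (hV₂ m).1
  · intro m
    apply PI_of_isPullback sq2 (v₂ m)
    · exact bijective_residueFieldMap_of_point_eq g₂ (hV₂ m).2.2.1 hb₂
    · apply PI_of_point_eq (pullback.snd f g₁) (hV₂ m).2.2.2.2.1
      exact PI_snd_residueFieldMap f g₁ (tpt m) s (x (lab m)) u₁ (hlab m) (htu m) (hs _) hu₁
        (hfin _) (hsplit₁ _)

theorem core {X S : Scheme.{u}} (f : X ⟶ S) [LocallyOfFiniteType f] (s : S)
    {ι : Type} [Finite ι] (x : ι → ↑X) (hinj : Function.Injective x) (hs : ∀ i, f (x i) = s)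
    (hx : ∀ i, f.QuasiFiniteAt (x i)) :
    ∃ (U P : Scheme.{u}) (g : U ⟶ S) (u : U) (p₁ : P ⟶ X) (p₂ : P ⟶ U), Etale g ∧ g u = s ∧
      IsPullback p₁ p₂ f g ∧
      ∃ (n : ℕ) (lab : Fin n → ι) (V : Fin n → P.Opens) (v : Fin n → P),
        SplitData p₁ p₂ u x lab V v ∧ (∀ m, IsFinite ((V m).ι ≫ p₂)) ∧
        ∀ m, PI (p₂.residueFieldMap (v m)).hom := by
  obtain ⟨U, P, g, u, p₁, p₂, h1, h2, h3, -, h4⟩ := core' f s x hinj hs hx
  exact ⟨U, P, g, u, p₁, p₂, h1, h2, h3, h4⟩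

end Groth.Agent.Lib.EtLocH4
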