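import Mathlib
import Groth.Agent.Lib.EtLoc2_helper4

/-!
# Splitting quasi-finite points purely inseparably, without separatedness (helper4)
-/

open AlgebraicGeometry CategoryTheory Limits

universe u

namespace Groth.Agent.Lib.EtLocH4

open PurInsepH4 EtNbhdFinH4

set_option maxHeartbeats 800000 in
theorem main1482 {X S : Scheme.{u}} (f : X ⟶ S) [LocallyOfFiniteType f] (s : S) {ι : Type}
    [Finite ι] (x : ι → ↑X) (hinj : Function.Injective x) (hs : ∀ i, f (x i) = s)
    (hx : ∀ i, f.QuasiFiniteAt (x i)) :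
    ∃ (U : Scheme.{u}) (g : U ⟶ S) (u : U), Etale g ∧ g u = s ∧
      ∃ (J : ι → Type) (_ : ∀ i, Finite (J i)) (V : ∀ i, J i → (pullback f g).Opens)
        (v : ∀ i, J i → ↑(pullback f g)),
        (∀ i j, v i j ∈ V i j ∧ IsFinite ((V i j).ι ≫ pullback.snd f g) ∧
          pullback.snd f g (v i j) = u ∧
          (∀ w : ↑(pullback f g), w ∈ V i j → pullback.snd f g w = u → w = v i j) ∧
          (letI := ((pullback.snd f g).residueFieldMap (v i j)).hom.toAlgebra
           Module.Finite ↑(U.residueField (pullback.snd f g (v i j)))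
             ↑((pullback f g).residueField (v i j)) ∧
           IsPurelyInseparable ↑(U.residueField (pullback.snd f g (v i j)))
             ↑((pullback f g).residueField (v i j))) ∧
          pullback.fst f g (v i j) = x i) ∧
        (∀ i j i' j', v i j = v i' j' → i = i' ∧ HEq j j') ∧
        (∀ (w : ↑(pullback f g)) (i : ι), pullback.snd f g w = u → pullback.fst f g w = x i →
          ∃ j, w = v i j) := by
  obtain ⟨U, P, g, u, p₁, p₂, hg, hgu, hpb, hPIcan, n, lab, V, v, hSD, hfin, -⟩ :=
    core' f s x hinj hs hx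
  have hinvsnd : ∀ w, p₂ (hpb.isoPullback.inv w) = pullback.snd f g w := fun w => by
    rw [← Scheme.Hom.comp_apply, hpb.isoPullback_inv_snd]
  have hinvfst : ∀ w, p₁ (hpb.isoPullback.inv w) = pullback.fst f g w := fun w => by
    rw [← Scheme.Hom.comp_apply, hpb.isoPullback_inv_fst]
  have hhomsnd : ∀ w, pullback.snd f g (hpb.isoPullback.hom w) = p₂ w := fun w => by
    rw [← Scheme.Hom.comp_apply, hpb.isoPullback_hom_snd]
  have hhomfst : ∀ w, pullback.fst f g (hpb.isoPullback.hom w) = p₁ w := fun w => by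
    rw [← Scheme.Hom.comp_apply, hpb.isoPullback_hom_fst]
  have hinvhom : ∀ w, hpb.isoPullback.inv (hpb.isoPullback.hom w) = w := fun w => by
    rw [← Scheme.Hom.comp_apply, hpb.isoPullback.hom_inv_id]; rfl
  have hhominv : ∀ w, hpb.isoPullback.hom (hpb.isoPullback.inv w) = w := fun w => by
    rw [← Scheme.Hom.comp_apply, hpb.isoPullback.inv_hom_id]; rfl
  refine ⟨U, g, u, hg, hgu, fun i => {m : Fin n // lab m = i}, fun i => inferInstance,
    fun i j => hpb.isoPullback.inv ⁻¹ᵁ V j.1, fun i j => hpb.isoPullback.hom (v j.1),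
    ?_, ?_, ?_⟩
  · intro i j
    have hsnd : pullback.snd f g (hpb.isoPullback.hom (v j.1)) = u := by
      rw [hhomsnd, hSD.snd_v]
    have hfst : pullback.fst f g (hpb.isoPullback.hom (v j.1)) = x i := by
      rw [hhomfst, hSD.fst_v, j.2]
    refine ⟨?_, ?_, hsnd, ?_, ⟨?_, ?_⟩, hfst⟩
    · change hpb.isoPullback.inv (hpb.isoPullback.hom (v j.1)) ∈ V j.1
      rw [hinvhom]; exact hSD.mem _
    · have : (hpb.isoPullback.inv ⁻¹ᵁ V j.1).ι ≫ pullback.snd f g =
          (hpb.isoPullback.inv ∣_ V j.1) ≫ (V j.1).ι ≫ p₂ := by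
        rw [← hpb.isoPullback_inv_snd, ← Category.assoc, ← morphismRestrict_ι, Category.assoc]
      rw [this]
      haveI := hfin j.1
      infer_instance
    · intro w hw hw2
      have hw' : hpb.isoPullback.inv w ∈ V j.1 := hw
      have := hSD.uniq j.1 _ hw' (by rw [hinvsnd, hw2])
      change w = hpb.isoPullback.hom (v j.1)
      rw [← this, hhominv]
    · exact finite_residueFieldMap (pullback.snd f g) _
        (quasiFiniteAt_snd f g _ (by rw [hfst]; exact hx i))
    · exact (hPIcan _ i hsnd hfst).isPurelyInseparable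
  · intro i j i' j' hvv
    have h1 : v j.1 = v j'.1 := by
      have := congrArg (fun w => hpb.isoPullback.inv w) hvv
      simpa only [hinvhom] using this
    have h := hSD.inj h1
    have hi : i = i' := j.2.symm.trans ((congrArg lab h).trans j'.2)
    subst hi
    exact ⟨rfl, heq_of_eq (Subtype.ext h)⟩
  · intro w i hw1 hw2
    obtain ⟨m, hm1, hm2⟩ := hSD.cov (hpb.isoPullback.inv w) i (by rw [hinvsnd, hw1])
      (by rw [hinvfst, hw2])
    refine ⟨⟨m, hm1⟩, ?_⟩
    have := hSD.uniq m _ hm2 (by rw [hinvsnd, hw1])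
    change w = hpb.isoPullback.hom (v m)
    rw [← this, hhominv]

end Groth.Agent.Lib.EtLocH4
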