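import Mathlib
import Groth.Prelude

set_option autoImplicit false
set_option linter.style.haveILetI false
set_option linter.unusedVariables false
universe u
open CategoryTheory CategoryTheory.Limits AlgebraicGeometry TopologicalSpace Opposite

namespace Groth.Agent.Lib.WeightRestrictH4

theorem finSepDegree_comp_bijective {F E E' : Type u} [Field F] [Field E] [Field E']
    (φ : F →+* E') (ψ : E' →+* E) (hψ : Function.Bijective ψ) :
    @Field.finSepDegree F E _ _ (ψ.comp φ).toAlgebra =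
      @Field.finSepDegree F E' _ _ φ.toAlgebra := by
  letI : Algebra F E' := φ.toAlgebra
  letI : Algebra F E := (ψ.comp φ).toAlgebra
  have e : E' ≃ₐ[F] E := AlgEquiv.ofBijective (AlgHom.mk ψ (fun r => rfl)) hψ
  exact (Field.finSepDegree_eq_of_equiv F E' E e).symm

theorem fibreIntegral_comp_iso {A B V : Scheme.{u}} (e : A ⟶ B) [IsIso e] (π : B ⟶ V)
    (w : B → ℤ) (w' : A → ℤ) (hw' : ∀ a, w' a = w (e.base a)) (v : V) :
    MoreMor.fibreIntegral (e ≫ π) w' v = MoreMor.fibreIntegral π w v := by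
  have key : ∀ a : A,
      (@Field.finSepDegree (V.residueField ((e ≫ π) a)) (A.residueField a) _ _
        ((e ≫ π).residueFieldMap a).hom.toAlgebra) =
      (@Field.finSepDegree (V.residueField (π (e a))) (B.residueField (e a)) _ _
        (π.residueFieldMap (e a)).hom.toAlgebra) := by
    intro a
    have h1 : ((e ≫ π).residueFieldMap a).hom =
        ((e.residueFieldMap a).hom).comp (π.residueFieldMap (e a)).hom := by
      rw [Scheme.residueFieldMap_comp]; rfl
    rw [h1]
    exact finSepDegree_comp_bijective _ _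
      ((ConcreteCategory.isIso_iff_bijective (e.residueFieldMap a)).mp inferInstance)
  obtain ⟨E, hE⟩ : ∃ E : {a : A // (e ≫ π) a = v} ≃ {b : B // π b = v},
      ∀ a, (E a).1 = e a.1 :=
    ⟨Equiv.subtypeEquiv (Scheme.homeoOfIso (asIso e)).toEquiv (fun a => Iff.rfl), fun a => rfl⟩
  unfold MoreMor.fibreIntegral
  refine Eq.trans ?_ (finsum_comp_equiv E)
  apply finsum_congr
  intro a
  have gen : ∀ b : B, b = e a.1 →
      w' a.1 * ((@Field.finSepDegree (V.residueField ((e ≫ π) a.1)) (A.residueField a.1) _ _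
        ((e ≫ π).residueFieldMap a.1).hom.toAlgebra : ℕ) : ℤ) =
      w b * ((@Field.finSepDegree (V.residueField (π b)) (B.residueField b) _ _
        (π.residueFieldMap b).hom.toAlgebra : ℕ) : ℤ) := by
    rintro b rfl
    rw [hw' a.1, key a.1]
  exact gen (E a).1 (hE a)

theorem main7185 {X Y : Scheme.{u}} (f : X ⟶ Y) [LocallyQuasiFinite f] [LocallyOfFiniteType f]
    (w : X → ℤ) (hw : MoreMor.IsWeighting f w) (X' : X.Opens) :
    MoreMor.IsWeighting (X'.ι ≫ f) (fun x => w (X'.ι x)) := by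
  intro V g hg U' hfin
  haveI := hg
  have e₁ : (X'.ι ≫ f) ≫ 𝟙 Y = X'.ι ≫ f := Category.comp_id _
  have e₂ : g ≫ 𝟙 Y = 𝟙 V ≫ g := by rw [Category.comp_id, Category.id_comp]
  obtain ⟨j, hj⟩ : ∃ j : pullback (X'.ι ≫ f) g ⟶ pullback f g,
      j = pullback.map (X'.ι ≫ f) g f g X'.ι (𝟙 V) (𝟙 Y) e₁ e₂ := ⟨_, rfl⟩
  haveI : IsOpenImmersion j := by rw [hj]; infer_instance
  have hjfst : j ≫ pullback.fst f g = pullback.fst (X'.ι ≫ f) g ≫ X'.ι := by
    rw [hj]; exact pullback.lift_fst _ _ _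
  have hjsnd : j ≫ pullback.snd f g = pullback.snd (X'.ι ≫ f) g := by
    rw [hj]; exact (pullback.lift_snd _ _ _).trans (Category.comp_id _)
  have hε : (j.isoImage U').hom ≫ (j ''ᵁ U').ι = U'.ι ≫ j := j.isoImage_hom_ι U'
  have hππ' : (j.isoImage U').hom ≫ ((j ''ᵁ U').ι ≫ pullback.snd f g) =
      U'.ι ≫ pullback.snd (X'.ι ≫ f) g := by
    rw [← Category.assoc, hε, Category.assoc, hjsnd]
  have hfin1 : IsFinite ((j.isoImage U').hom ≫ ((j ''ᵁ U').ι ≫ pullback.snd f g)) := by
    rw [hππ']; exact hfin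
  have hfinπ : IsFinite ((j ''ᵁ U').ι ≫ pullback.snd f g) :=
    (MorphismProperty.cancel_left_of_respectsIso @IsFinite (j.isoImage U').hom
      ((j ''ᵁ U').ι ≫ pullback.snd f g)).mp hfin1
  have hLC := hw V g (j ''ᵁ U') hfinπ
  have hfun : MoreMor.fibreIntegral (U'.ι ≫ pullback.snd (X'.ι ≫ f) g)
        (fun u' => w (X'.ι (pullback.fst (X'.ι ≫ f) g (U'.ι u')))) =
      MoreMor.fibreIntegral ((j ''ᵁ U').ι ≫ pullback.snd f g)
        (fun u => w (pullback.fst f g ((j ''ᵁ U').ι u))) := by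
    funext v
    refine (congrArg (fun q => MoreMor.fibreIntegral q
      (fun u' => w (X'.ι (pullback.fst (X'.ι ≫ f) g (U'.ι u')))) v) hππ'.symm).trans ?_
    apply fibreIntegral_comp_iso
    intro a
    have p1 : (j ''ᵁ U').ι.base ((j.isoImage U').hom.base a) = j.base (U'.ι.base a) :=
      congrArg (fun m : U'.toScheme ⟶ pullback f g => m.base a) hε
    have p2 : (pullback.fst f g).base (j.base (U'.ι.base a)) =
        X'.ι.base ((pullback.fst (X'.ι ≫ f) g).base (U'.ι.base a)) :=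
      congrArg (fun m : pullback (X'.ι ≫ f) g ⟶ X => m.base (U'.ι.base a)) hjfst
    change w (X'.ι.base ((pullback.fst (X'.ι ≫ f) g).base (U'.ι.base a))) =
      w ((pullback.fst f g).base ((j ''ᵁ U').ι.base ((j.isoImage U').hom.base a)))
    rw [p1, p2]
  have hgoal : IsLocallyConstant (MoreMor.fibreIntegral (U'.ι ≫ pullback.snd (X'.ι ≫ f) g)
      (fun u' => w (X'.ι (pullback.fst (X'.ι ≫ f) g (U'.ι u'))))) := by
    rw [hfun]; exact hLC
  exact hgoal

end Groth.Agent.Lib.WeightRestrictH4
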