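import Mathlib
import Groth.Prelude
import Groth.Agent.Lib.EtLoc6_helper4
import Groth.Agent.Lib.WeightRestrict_helper4

set_option autoImplicit false
set_option linter.style.haveILetI false
set_option linter.unusedVariables false
universe u
open CategoryTheory CategoryTheory.Limits AlgebraicGeometry TopologicalSpace Opposite

namespace Groth.Agent.Lib.WeightH4

open PurInsepH4 EtNbhdFinH4 EtLocH4

/-- Separable degree of the residue field extension at a point. -/
noncomputable def sepDeg {U V : Scheme.{u}} (π : U ⟶ V) (x : U) : ℕ :=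
  @Field.finSepDegree (V.residueField (π x)) (U.residueField x) _ _
    (π.residueFieldMap x).hom.toAlgebra

theorem fibreIntegral_eq {U V : Scheme.{u}} (π : U ⟶ V) (w : U → ℤ) (v : V) :
    MoreMor.fibreIntegral π w v =
      ∑ᶠ x : {x : U // π x = v}, w x.1 * (sepDeg π x.1 : ℤ) := rfl

theorem sepDeg_comp {T P V : Scheme.{u}} (j : T ⟶ P) (p : P ⟶ V) (t : T)
    (hj : Function.Bijective (j.residueFieldMap t)) : sepDeg (j ≫ p) t = sepDeg p (j t) := by
  unfold sepDeg
  have h1 : ((j ≫ p).residueFieldMap t).hom =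
      ((j.residueFieldMap t).hom).comp (p.residueFieldMap (j t)).hom := by
    rw [Scheme.residueFieldMap_comp]; rfl
  rw [h1]
  exact WeightRestrictH4.finSepDegree_comp_bijective _ _ hj

theorem sepDeg_ι {P V : Scheme.{u}} (T : P.Opens) (p : P ⟶ V) (t : T) :
    sepDeg (T.ι ≫ p) t = sepDeg p (T.ι t) :=
  sepDeg_comp T.ι p t (ConcreteCategory.bijective_of_isIso (T.ι.residueFieldMap t))

theorem sepDeg_pos {U V : Scheme.{u}} (π : U ⟶ V) [LocallyQuasiFinite π] (x : U) :
    0 < sepDeg π x := by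
  unfold sepDeg
  letI := (π.residueFieldMap x).hom.toAlgebra
  haveI : FiniteDimensional (V.residueField (π x)) (U.residueField x) :=
    finite_residueFieldMap π x (Scheme.Hom.quasiFiniteAt π x)
  exact Nat.pos_of_ne_zero (NeZero.ne _)

theorem sepDeg_eq_one {U V : Scheme.{u}} (π : U ⟶ V) (x : U)
    (h : letI := (π.residueFieldMap x).hom.toAlgebra
      IsPurelyInseparable (V.residueField (π x)) (U.residueField x)) : sepDeg π x = 1 := by
  unfold sepDeg
  letI := (π.residueFieldMap x).hom.toAlgebra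
  haveI := h
  exact IsPurelyInseparable.finSepDegree_eq_one _ _

theorem finite_fibre {U V : Scheme.{u}} (π : U ⟶ V) [IsFinite π] (v : V) :
    Finite {x : U // π x = v} :=
  (Scheme.Hom.finite_preimage_singleton π v).to_subtype

theorem fibreIntegral_of_unique {U V : Scheme.{u}} (π : U ⟶ V) (w : U → ℤ) (v : V) (x₀ : U)
    (h₀ : π x₀ = v) (huniq : ∀ x, π x = v → x = x₀) :
    MoreMor.fibreIntegral π w v = w x₀ * (sepDeg π x₀ : ℤ) := by
  rw [fibreIntegral_eq]
  exact finsum_eq_single (fun x : {x : U // π x = v} => w x.1 * (sepDeg π x.1 : ℤ)) ⟨x₀, h₀⟩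
    (fun x hx => absurd (Subtype.ext (huniq x.1 x.2)) hx)

theorem le_fibreIntegral {U V : Scheme.{u}} (π : U ⟶ V) [IsFinite π] (w : U → ℤ)
    (hpos : ∀ x, 0 < w x) (x : U) : w x ≤ MoreMor.fibreIntegral π w (π x) := by
  rw [fibreIntegral_eq]
  haveI := finite_fibre π (π x)
  have hnn : ∀ z : {z : U // π z = π x}, 0 ≤ w z.1 * (sepDeg π z.1 : ℤ) := fun z =>
    mul_nonneg (hpos z.1).le (Int.natCast_nonneg _)
  have h1 : w x * (sepDeg π x : ℤ) ≤ ∑ᶠ z : {z : U // π z = π x}, w z.1 * (sepDeg π z.1 : ℤ) :=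
    single_le_finsum (f := fun z : {z : U // π z = π x} => w z.1 * (sepDeg π z.1 : ℤ))
      ⟨x, rfl⟩ (Set.toFinite _) hnn
  have h2 : w x ≤ w x * (sepDeg π x : ℤ) := by
    have h3 : (1 : ℤ) ≤ (sepDeg π x : ℤ) := by exact_mod_cast sepDeg_pos π x
    nlinarith [hpos x]
  exact h2.trans h1

/-- Local bound: a positive weighting is bounded above by its value at `x` near `x`. -/
theorem exists_open_le {X Y : Scheme.{u}} (f : X ⟶ Y) [LocallyQuasiFinite f]
    [LocallyOfFiniteType f] (w : ↑X → ℤ) (hw : MoreMor.IsWeighting f w) (hpos : ∀ x, 0 < w x)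
    (x : X) : ∃ O : Set X, IsOpen O ∧ x ∈ O ∧ ∀ x' ∈ O, w x' ≤ w x := by
  obtain ⟨U, g, u, hg, hgu, J, hJ, V, v, hV, -, hcov⟩ :=
    main1482 f (f x) (fun _ : Unit => x) (fun a b _ => Subsingleton.elim a b) (fun _ => rfl)
      (fun _ => Scheme.Hom.quasiFiniteAt f x)
  haveI := hg
  obtain ⟨z, hz1, hz2⟩ := Scheme.Pullback.exists_preimage_pullback (f := f) (g := g) x u hgu.symm
  obtain ⟨j, hj⟩ := hcov z () hz2 hz1
  obtain ⟨hmem, hfin, hsnd, huniq, ⟨-, hPI⟩, hfst⟩ := hV () j
  haveI := hfin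
  obtain ⟨F, hF⟩ : ∃ F : U → ℤ, F = MoreMor.fibreIntegral ((V () j).ι ≫ pullback.snd f g)
      (fun p => w (pullback.fst f g ((V () j).ι p))) := ⟨_, rfl⟩
  have hLC : IsLocallyConstant F := by rw [hF]; exact hw U g (V () j) hfin
  have e1 : sepDeg ((V () j).ι ≫ pullback.snd f g) ⟨v () j, hmem⟩ = 1 :=
    (sepDeg_ι (V () j) (pullback.snd f g) ⟨v () j, hmem⟩).trans
      (sepDeg_eq_one (pullback.snd f g) (v () j) hPI)
  have hval : MoreMor.fibreIntegral ((V () j).ι ≫ pullback.snd f g)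
      (fun p => w (pullback.fst f g ((V () j).ι p))) u =
      w (pullback.fst f g ((V () j).ι ⟨v () j, hmem⟩)) *
        (sepDeg ((V () j).ι ≫ pullback.snd f g) ⟨v () j, hmem⟩ : ℤ) :=
    fibreIntegral_of_unique ((V () j).ι ≫ pullback.snd f g) _ u ⟨v () j, hmem⟩ hsnd
      (fun p hp => Subtype.ext (huniq _ p.2 hp))
  have hF_u : F u = w x := by
    rw [hF, hval, e1]
    change w (pullback.fst f g (v () j)) * ((1 : ℕ) : ℤ) = w x
    rw [hfst, Nat.cast_one, mul_one]
  have hN : IsOpen {z : U | F z = w x} := hLC.isOpen_fiber (w x)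
  refine ⟨pullback.fst f g '' (((V () j : (pullback f g).Opens) : Set ↑(pullback f g)) ∩
      (pullback.snd f g) ⁻¹' {z : U | F z = w x}), ?_, ?_, ?_⟩
  · exact (pullback.fst f g).isOpenMap _
      (IsOpen.inter (V () j).2 (hN.preimage (pullback.snd f g).continuous))
  · refine ⟨v () j, ⟨hmem, ?_⟩, hfst⟩
    change F (pullback.snd f g (v () j)) = w x
    rw [hsnd]; exact hF_u
  · rintro _ ⟨p, ⟨hpV, hpN⟩, rfl⟩
    have h1 := le_fibreIntegral ((V () j).ι ≫ pullback.snd f g)
      (fun p => w (pullback.fst f g ((V () j).ι p))) (fun q => hpos _) ⟨p, hpV⟩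
    have h2 : MoreMor.fibreIntegral ((V () j).ι ≫ pullback.snd f g)
        (fun p => w (pullback.fst f g ((V () j).ι p))) (pullback.snd f g p) = w x := by
      have h3 : F (pullback.snd f g p) = w x := hpN
      rw [hF] at h3; exact h3
    exact h1.trans (le_of_eq h2)

theorem main1425 {X Y : Scheme.{u}} (f : X ⟶ Y) [LocallyQuasiFinite f] [LocallyOfFiniteType f]
    (w : ↑X → ℤ) (hw : MoreMor.IsWeighting f w) (hpos : ∀ x, 0 < w x) :
    UpperSemicontinuous w := by
  intro x c hc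
  obtain ⟨O, hO, hxO, hle⟩ := exists_open_le f w hw hpos x
  exact Filter.eventually_of_mem (hO.mem_nhds hxO) (fun x' hx' => lt_of_le_of_lt (hle x' hx') hc)

end Groth.Agent.Lib.WeightH4
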