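import Mathlib
import Groth.Prelude
import Groth.Agent.Lib.WeightBase_helper4

/-!
# Local degrees of a morphism at a point (helper4)

`eIdx φ x` is the length of `O_{X,x} / m_{φ x} O_{X,x}`, `fDeg φ x` the residue degree and
`insepDeg φ x` the inseparable residue degree.  We prove their invariance under étale
localisation on source and target.
-/

set_option autoImplicit false
set_option linter.style.haveILetI false
set_option linter.unusedVariables false
universe u
open CategoryTheory CategoryTheory.Limits AlgebraicGeometry TopologicalSpace Opposite Topology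

namespace Groth.Agent.Lib.LocDegH4

open IsLocalRing Groth.Agent.Lib.WeightH4 PurInsepH4 EtNbhdFinH4 EtLocH4

section Ring

/-- The length of `S / m_A S`. -/
noncomputable def eRing {A S : Type u} [CommRing A] [CommRing S] [IsLocalRing A] (ψ : A →+* S) :
    ℕ∞ :=
  Module.length S (S ⧸ (maximalIdeal A).map ψ)

theorem eRing_comp_right {A A' S : Type u} [CommRing A] [CommRing A'] [CommRing S]
    [IsLocalRing A] [IsLocalRing A'] (β : A →+* A') (δ : A' →+* S)
    (hβ : (maximalIdeal A).map β = maximalIdeal A') :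
    eRing (δ.comp β) = eRing δ := by
  unfold eRing
  have h : (maximalIdeal A).map (δ.comp β) = (maximalIdeal A').map δ := by
    rw [← Ideal.map_map, hβ]
  exact congrArg (fun I : Ideal S => Module.length S (S ⧸ I)) h

theorem eRing_comp_left {A B B' : Type u} [CommRing A] [CommRing B] [CommRing B']
    [IsLocalRing A] [IsLocalRing B] [IsLocalRing B'] (α : A →+* B) (γ : B →+* B')
    [hloc : IsLocalHom γ] (hflat : γ.Flat) (hγ : (maximalIdeal B).map γ = maximalIdeal B') :
    eRing (γ.comp α) = eRing α := by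
  unfold eRing
  letI : Algebra B B' := γ.toAlgebra
  haveI : IsLocalHom (algebraMap B B') := hloc
  haveI : Module.Flat B B' := hflat
  obtain ⟨I, hI⟩ : ∃ I : Ideal B, I = (maximalIdeal A).map α := ⟨_, rfl⟩
  have h1 : (maximalIdeal A).map (γ.comp α) = I.map (algebraMap B B') := by
    rw [hI, Ideal.map_map]; rfl
  have h2 : Module.length B' (B' ⧸ (maximalIdeal A).map (γ.comp α)) =
      Module.length B' (B' ⧸ I.map (algebraMap B B')) :=
    congrArg (fun J : Ideal B' => Module.length B' (B' ⧸ J)) h1
  have h3 : Module.length B' (B' ⧸ (maximalIdeal B).map (algebraMap B B')) = 1 := by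
    have h4 : (maximalIdeal B).map (algebraMap B B') = maximalIdeal B' := hγ
    rw [h4, Module.length_eq_one_iff]
    exact isSimpleModule_iff_isCoatom.mpr (Ideal.isMaximal_def.mp (maximalIdeal.isMaximal B'))
  rw [h2, ← hI, (Algebra.TensorProduct.quotIdealMapEquivTensorQuot B' I).toLinearEquiv.length_eq,
    IsLocalRing.length_baseChange B B' (B ⧸ I), h3, mul_one]

theorem isLocalHom_of_bijective {S S' : Type u} [CommRing S] [CommRing S'] (s : S →+* S')
    (hs : Function.Bijective s) : IsLocalHom s := by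
  refine ⟨fun x hx => ?_⟩
  obtain ⟨y, hy⟩ := hs.2 (↑hx.unit⁻¹ : S')
  refine isUnit_iff_exists_inv.mpr ⟨y, hs.1 ?_⟩
  rw [map_mul, hy, map_one]
  exact hx.mul_val_inv

/-- Invariance under isomorphisms of pairs. -/
theorem eRing_eq_of_bijective {A S A' S' : Type u} [CommRing A] [CommRing S] [CommRing A']
    [CommRing S'] [IsLocalRing A] [IsLocalRing S] [IsLocalRing A'] [IsLocalRing S']
    (ψ : A →+* S) (ψ' : A' →+* S') (a : A →+* A') (s : S →+* S')
    (ha : Function.Bijective a) (hs : Function.Bijective s) (hcomm : ψ'.comp a = s.comp ψ) :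
    eRing ψ = eRing ψ' := by
  haveI := isLocalHom_of_bijective s hs
  have h1 : eRing (ψ'.comp a) = eRing ψ' :=
    eRing_comp_right a ψ' (map_maximalIdeal_of_surjective a ha.2)
  have h2 : eRing (s.comp ψ) = eRing ψ :=
    eRing_comp_left ψ s (RingHom.Flat.of_bijective hs) (map_maximalIdeal_of_surjective s hs.2)
  rw [← h1, hcomm, h2]

theorem eRing_ne_zero {A B : Type u} [CommRing A] [CommRing B] [IsLocalRing A] [IsLocalRing B]
    (ψ : A →+* B) [hψ : IsLocalHom ψ] : eRing ψ ≠ 0 := by
  unfold eRing
  rw [← pos_iff_ne_zero, Module.length_pos_iff, Submodule.Quotient.nontrivial_iff]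
  intro h
  have h1 : (maximalIdeal A).map ψ ≤ maximalIdeal B :=
    ((local_hom_TFAE ψ).out 0 2).mp hψ
  exact (maximalIdeal.isMaximal B).ne_top (top_le_iff.mp (h ▸ h1))

theorem eRing_ne_top {A B : Type u} [CommRing A] [CommRing B] [IsLocalRing A]
    (ψ : A →+* B) (h : ψ.QuasiFinite) : eRing ψ ≠ ⊤ := by
  letI : Algebra A B := ψ.toAlgebra
  haveI : Algebra.QuasiFinite A B := h
  unfold eRing
  obtain ⟨I, hI⟩ : ∃ I : Ideal B, I = (maximalIdeal A).map ψ := ⟨_, rfl⟩
  rw [← hI]
  haveI : Algebra.QuasiFinite A (B ⧸ I) := inferInstance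
  letI : Algebra (ResidueField A) (B ⧸ I) :=
    (Ideal.Quotient.lift (maximalIdeal A) ((Ideal.Quotient.mk I).comp ψ) (fun a ha => by
      rw [RingHom.comp_apply, Ideal.Quotient.eq_zero_iff_mem, hI]
      exact Ideal.mem_map_of_mem ψ ha)).toAlgebra
  haveI : IsScalarTower A (ResidueField A) (B ⧸ I) :=
    IsScalarTower.of_algebraMap_eq (fun a => rfl)
  haveI : Algebra.QuasiFinite (ResidueField A) (B ⧸ I) :=
    Algebra.QuasiFinite.of_restrictScalars A (ResidueField A) (B ⧸ I)
  haveI : Module.Finite (ResidueField A) (B ⧸ I) := Module.Finite.of_quasiFinite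
  haveI : IsArtinianRing (B ⧸ I) := IsArtinianRing.of_finite (ResidueField A) (B ⧸ I)
  rwa [Module.length_eq_of_surjective (R := B ⧸ I) Ideal.Quotient.mk_surjective,
    Module.length_ne_top_iff, ← isArtinianRing_iff_isFiniteLength]

theorem residueAlgebra_eq {A B : Type u} [CommRing A] [CommRing B] [IsLocalRing A]
    [IsLocalRing B] [Algebra A B] [IsLocalHom (algebraMap A B)] :
    (inferInstance : Algebra (ResidueField A) (ResidueField B)) =
      (ResidueField.map (algebraMap A B)).toAlgebra :=
  Algebra.algebra_ext _ _ (fun r => by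
    obtain ⟨a, rfl⟩ := residue_surjective r
    rfl)

theorem finInsepDegree_eq_one_of_eq {F K : Type u} [Field F] [Field K] (a b : Algebra F K)
    (hab : a = b) (hs : @Algebra.IsSeparable F K _ _ a) :
    @Field.finInsepDegree F K _ _ b = 1 := by
  subst hab
  exact (isSeparable_iff_finInsepDegree_eq_one F K).mp hs

theorem finite_of_algebra_eq {F K : Type u} [Field F] [Field K] (a b : Algebra F K)
    (hab : a = b) (hs : @Module.Finite F K _ _ a.toModule) :
    @Module.Finite F K _ _ b.toModule := by
  subst hab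
  exact hs

end Ring

section Sch

variable {X Y : Scheme.{u}}

/-- The length of `O_{X,x} / m_{φ x} O_{X,x}`. -/
noncomputable def eIdx (φ : X ⟶ Y) (x : X) : ℕ∞ := eRing (φ.stalkMap x).hom

/-- The residue degree. -/
noncomputable def fDeg (φ : X ⟶ Y) (x : X) : ℕ :=
  @Module.finrank (Y.residueField (φ x)) (X.residueField x) _ _
    (φ.residueFieldMap x).hom.toAlgebra.toModule

/-- The inseparable residue degree. -/
noncomputable def insepDeg (φ : X ⟶ Y) (x : X) : ℕ :=
  @Field.finInsepDegree (Y.residueField (φ x)) (X.residueField x) _ _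
    (φ.residueFieldMap x).hom.toAlgebra

theorem sepDeg_mul_insepDeg (φ : X ⟶ Y) (x : X) : sepDeg φ x * insepDeg φ x = fDeg φ x := by
  unfold sepDeg insepDeg fDeg
  letI := (φ.residueFieldMap x).hom.toAlgebra
  exact Field.finSepDegree_mul_finInsepDegree _ _

theorem map_maximalIdeal_stalkMap (q : X ⟶ Y) [AlgebraicGeometry.FormallyUnramified q]
    [LocallyOfFiniteType q] (x : X) :
    (maximalIdeal (Y.presheaf.stalk (q x))).map (q.stalkMap x).hom =
      maximalIdeal (X.presheaf.stalk x) := by
  letI : Algebra (Y.presheaf.stalk (q x)) (X.presheaf.stalk x) := (q.stalkMap x).hom.toAlgebra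
  haveI : IsLocalHom (algebraMap ↑(Y.presheaf.stalk (q x)) ↑(X.presheaf.stalk x)) :=
    inferInstanceAs (IsLocalHom (q.stalkMap x).hom)
  haveI : Algebra.EssFiniteType ↑(Y.presheaf.stalk (q x)) ↑(X.presheaf.stalk x) :=
    LocallyOfFiniteType.stalkMap q x
  haveI : Algebra.FormallyUnramified ↑(Y.presheaf.stalk (q x)) ↑(X.presheaf.stalk x) :=
    AlgebraicGeometry.FormallyUnramified.stalkMap q x
  exact Algebra.FormallyUnramified.map_maximalIdeal

theorem insepDeg_eq_one_of_unramified (q : X ⟶ Y) [AlgebraicGeometry.FormallyUnramified q]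
    [LocallyOfFiniteType q] (x : X) : insepDeg q x = 1 := by
  letI : Algebra (Y.presheaf.stalk (q x)) (X.presheaf.stalk x) := (q.stalkMap x).hom.toAlgebra
  haveI : IsLocalHom (algebraMap ↑(Y.presheaf.stalk (q x)) ↑(X.presheaf.stalk x)) :=
    inferInstanceAs (IsLocalHom (q.stalkMap x).hom)
  haveI : Algebra.EssFiniteType ↑(Y.presheaf.stalk (q x)) ↑(X.presheaf.stalk x) :=
    LocallyOfFiniteType.stalkMap q x
  haveI : Algebra.FormallyUnramified ↑(Y.presheaf.stalk (q x)) ↑(X.presheaf.stalk x) :=
    AlgebraicGeometry.FormallyUnramified.stalkMap q x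
  have h : Algebra.IsSeparable (ResidueField ↑(Y.presheaf.stalk (q x)))
      (ResidueField ↑(X.presheaf.stalk x)) := inferInstance
  exact finInsepDegree_eq_one_of_eq _ _ residueAlgebra_eq h

theorem stalkMap_comp_hom {U : Scheme.{u}} (q : U ⟶ X) (f : X ⟶ Y) (u : U) :
    ((q ≫ f).stalkMap u).hom = (q.stalkMap u).hom.comp (f.stalkMap (q u)).hom := by
  rw [Scheme.Hom.stalkMap_comp]; rfl

theorem eIdx_comp_left {U : Scheme.{u}} (q : U ⟶ X) (f : X ⟶ Y) [Flat q]
    [AlgebraicGeometry.FormallyUnramified q] [LocallyOfFiniteType q] (u : U) :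
    eIdx (q ≫ f) u = eIdx f (q u) :=
  (congrArg eRing (stalkMap_comp_hom q f u)).trans
    (eRing_comp_left (f.stalkMap (q u)).hom (q.stalkMap u).hom (Flat.stalkMap q u)
      (map_maximalIdeal_stalkMap q u))

theorem eIdx_comp_right {U V : Scheme.{u}} (π : U ⟶ V) (g : V ⟶ Y)
    [AlgebraicGeometry.FormallyUnramified g] [LocallyOfFiniteType g] (u : U) :
    eIdx (π ≫ g) u = eIdx π u :=
  (congrArg eRing (stalkMap_comp_hom π g u)).trans
    (eRing_comp_right (g.stalkMap (π u)).hom (π.stalkMap u).hom
      (map_maximalIdeal_stalkMap g (π u)))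

theorem residueFieldMap_comp_hom {T P V : Scheme.{u}} (j : T ⟶ P) (p : P ⟶ V) (t : T) :
    ((j ≫ p).residueFieldMap t).hom =
      ((j.residueFieldMap t).hom).comp (p.residueFieldMap (j t)).hom := by
  rw [Scheme.residueFieldMap_comp]; rfl

theorem fDeg_comp {T P V : Scheme.{u}} (j : T ⟶ P) (p : P ⟶ V) (t : T) :
    fDeg (j ≫ p) t = fDeg p (j t) * fDeg j t := by
  unfold fDeg
  letI a1 : Algebra (V.residueField (p (j t))) (P.residueField (j t)) :=
    (p.residueFieldMap (j t)).hom.toAlgebra
  letI a2 : Algebra (P.residueField (j t)) (T.residueField t) :=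
    (j.residueFieldMap t).hom.toAlgebra
  letI a3 : Algebra (V.residueField (p (j t))) (T.residueField t) :=
    ((j ≫ p).residueFieldMap t).hom.toAlgebra
  haveI : IsScalarTower (V.residueField (p (j t))) (P.residueField (j t)) (T.residueField t) :=
    IsScalarTower.of_algebraMap_eq' (residueFieldMap_comp_hom j p t)
  exact (Module.finrank_mul_finrank (V.residueField (p (j t))) (P.residueField (j t))
    (T.residueField t)).symm

theorem insepDeg_comp {T P V : Scheme.{u}} (j : T ⟶ P) (p : P ⟶ V) (t : T)
    (halg : (p.residueFieldMap (j t)).hom.Finite) :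
    insepDeg (j ≫ p) t = insepDeg p (j t) * insepDeg j t := by
  unfold insepDeg
  letI a1 : Algebra (V.residueField (p (j t))) (P.residueField (j t)) :=
    (p.residueFieldMap (j t)).hom.toAlgebra
  letI a2 : Algebra (P.residueField (j t)) (T.residueField t) :=
    (j.residueFieldMap t).hom.toAlgebra
  letI a3 : Algebra (V.residueField (p (j t))) (T.residueField t) :=
    ((j ≫ p).residueFieldMap t).hom.toAlgebra
  haveI : IsScalarTower (V.residueField (p (j t))) (P.residueField (j t)) (T.residueField t) :=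
    IsScalarTower.of_algebraMap_eq' (residueFieldMap_comp_hom j p t)
  haveI : Module.Finite (V.residueField (p (j t))) (P.residueField (j t)) := halg
  exact (Field.finInsepDegree_mul_finInsepDegree_of_isAlgebraic (V.residueField (p (j t)))
    (P.residueField (j t)) (T.residueField t)).symm

theorem fDeg_eq_one_of_bijective (j : X ⟶ Y) (x : X)
    (hj : Function.Bijective (j.residueFieldMap x).hom) : fDeg j x = 1 := by
  unfold fDeg
  letI := (j.residueFieldMap x).hom.toAlgebra
  have e : (Y.residueField (j x)) ≃ₗ[Y.residueField (j x)] (X.residueField x) :=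
    LinearEquiv.ofBijective (Algebra.linearMap (Y.residueField (j x)) (X.residueField x)) hj
  rw [← e.finrank_eq]
  exact Module.finrank_self _

theorem finite_residueFieldMap_of_unramified (g : X ⟶ Y)
    [AlgebraicGeometry.FormallyUnramified g] [LocallyOfFiniteType g] (x : X) :
    (g.residueFieldMap x).hom.Finite := by
  letI : Algebra (Y.presheaf.stalk (g x)) (X.presheaf.stalk x) := (g.stalkMap x).hom.toAlgebra
  haveI : IsLocalHom (algebraMap ↑(Y.presheaf.stalk (g x)) ↑(X.presheaf.stalk x)) :=
    inferInstanceAs (IsLocalHom (g.stalkMap x).hom)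
  haveI : Algebra.EssFiniteType ↑(Y.presheaf.stalk (g x)) ↑(X.presheaf.stalk x) :=
    LocallyOfFiniteType.stalkMap g x
  haveI : Algebra.FormallyUnramified ↑(Y.presheaf.stalk (g x)) ↑(X.presheaf.stalk x) :=
    AlgebraicGeometry.FormallyUnramified.stalkMap g x
  have h : Module.Finite (ResidueField ↑(Y.presheaf.stalk (g x)))
      (ResidueField ↑(X.presheaf.stalk x)) := inferInstance
  exact finite_of_algebra_eq _ _ residueAlgebra_eq h

/-- Invariance of `eIdx` and `insepDeg` in a commutative square with étale vertical maps. -/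
theorem square_invariance {U V : Scheme.{u}} (q : U ⟶ X) (f : X ⟶ Y) (π : U ⟶ V) (g : V ⟶ Y)
    (hsq : q ≫ f = π ≫ g) [Etale q] [Etale g] [LocallyQuasiFinite f] (u : U) :
    eIdx f (q u) = eIdx π u ∧ insepDeg f (q u) = insepDeg π u := by
  constructor
  · rw [← eIdx_comp_left q f u, ← eIdx_comp_right π g u]
    exact congrArg (fun m : U ⟶ Y => eIdx m u) hsq
  · have h1 : insepDeg (q ≫ f) u = insepDeg f (q u) * insepDeg q u :=
      insepDeg_comp q f u (finite_residueFieldMap f (q u) (Scheme.Hom.quasiFiniteAt f (q u)))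
    have h2 : insepDeg (π ≫ g) u = insepDeg g (π u) * insepDeg π u :=
      insepDeg_comp π g u (finite_residueFieldMap_of_unramified g (π u))
    rw [insepDeg_eq_one_of_unramified q u, mul_one] at h1
    rw [insepDeg_eq_one_of_unramified g (π u), one_mul] at h2
    rw [← h1, ← h2]
    exact congrArg (fun m : U ⟶ Y => insepDeg m u) hsq

/-- Invariance of `eIdx` and `fDeg` in a commutative square with open immersions. -/
theorem square_invariance_openImm {U V : Scheme.{u}} (q : U ⟶ X) (f : X ⟶ Y) (π : U ⟶ V)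
    (g : V ⟶ Y) (hsq : q ≫ f = π ≫ g) [IsOpenImmersion q] [IsOpenImmersion g] (u : U) :
    eIdx f (q u) = eIdx π u ∧ fDeg f (q u) = fDeg π u := by
  constructor
  · rw [← eIdx_comp_left q f u, ← eIdx_comp_right π g u]
    exact congrArg (fun m : U ⟶ Y => eIdx m u) hsq
  · have h1 : fDeg (q ≫ f) u = fDeg f (q u) * fDeg q u := fDeg_comp q f u
    have h2 : fDeg (π ≫ g) u = fDeg g (π u) * fDeg π u := fDeg_comp π g u
    rw [fDeg_eq_one_of_bijective q u
      (ConcreteCategory.bijective_of_isIso (q.residueFieldMap u)), mul_one] at h1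
    rw [fDeg_eq_one_of_bijective g (π u)
      (ConcreteCategory.bijective_of_isIso (g.residueFieldMap (π u))), one_mul] at h2
    rw [← h1, ← h2]
    exact congrArg (fun m : U ⟶ Y => fDeg m u) hsq

end Sch

end Groth.Agent.Lib.LocDegH4
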