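import Mathlib
import Groth.Prelude
import Groth.Agent.Lib.LocDeg_helper4

/-!
# The sum formula `Σ e f = rank` for finite flat morphisms and the weighting `e · [κ(x):κ(y)]_i`
(helper4)
-/

set_option autoImplicit false
set_option linter.style.haveILetI false
set_option linter.unusedVariables false
universe u
open CategoryTheory CategoryTheory.Limits AlgebraicGeometry TopologicalSpace Opposite Topology

namespace Groth.Agent.Lib.LocDegH4

open IsLocalRing Groth.Agent.Lib.WeightH4 PurInsepH4 EtNbhdFinH4 EtLocH4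

section Spec

set_option backward.isDefEq.respectTransparency.types false in
theorem stalkMap_SpecMap_comm {R S : CommRingCat.{u}} (φ : R ⟶ S) (Q : PrimeSpectrum S) :
    (Localization.localRingHom (PrimeSpectrum.comap φ.hom Q).asIdeal Q.asIdeal φ.hom rfl).comp
        (Spec.stalkIso R (PrimeSpectrum.comap φ.hom Q)).hom.hom =
      (Spec.stalkIso S Q).hom.hom.comp ((Spec.map φ).stalkMap Q).hom := by
  have h := Scheme.localRingHom_comp_stalkIso φ Q
  have h2 : ((Spec.stalkIso R (PrimeSpectrum.comap φ.hom Q)).hom ≫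
        CommRingCat.ofHom (Localization.localRingHom (PrimeSpectrum.comap φ.hom Q).asIdeal
          Q.asIdeal φ.hom rfl)) ≫ (Spec.stalkIso S Q).inv = (Spec.map φ).stalkMap Q :=
    (Category.assoc _ _ _).trans h
  have h3 := (Iso.comp_inv_eq _).mp h2
  exact congrArg CommRingCat.Hom.hom h3

set_option backward.isDefEq.respectTransparency.types false in
theorem eIdx_SpecMap_eq_eRing {R S : CommRingCat.{u}} (φ : R ⟶ S) (Q : PrimeSpectrum S) :
    eIdx (Spec.map φ) Q =
      eRing (Localization.localRingHom (PrimeSpectrum.comap φ.hom Q).asIdeal Q.asIdeal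
        φ.hom rfl) :=
  eRing_eq_of_bijective ((Spec.map φ).stalkMap Q).hom _
    (Spec.stalkIso R (PrimeSpectrum.comap φ.hom Q)).hom.hom (Spec.stalkIso S Q).hom.hom
    (ConcreteCategory.bijective_of_isIso (Spec.stalkIso R (PrimeSpectrum.comap φ.hom Q)).hom)
    (ConcreteCategory.bijective_of_isIso (Spec.stalkIso S Q).hom) (stalkMap_SpecMap_comm φ Q)

theorem toNat_eRing_localRingHom {R S : Type u} [CommRing R] [CommRing S] [Algebra R S]
    (Q : Ideal S) [Q.IsPrime] :
    (eRing (Localization.localRingHom (Q.under R) Q (algebraMap R S) rfl)).toNat =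
      Q.ramificationIdx R := by
  rw [Ideal.ramificationIdx_def]
  unfold eRing
  have h4 : (Localization.localRingHom (Q.under R) Q (algebraMap R S) rfl).comp
      (algebraMap R (Localization.AtPrime (Q.under R))) =
      algebraMap R (Localization.AtPrime Q) := by
    ext x
    rw [RingHom.comp_apply, Localization.localRingHom_to_map,
      ← IsScalarTower.algebraMap_apply]
  have h5 : maximalIdeal (Localization.AtPrime (Q.under R)) =
      (Q.under R).map (algebraMap R (Localization.AtPrime (Q.under R))) :=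
    Localization.AtPrime.map_eq_maximalIdeal.symm
  have h3 : (maximalIdeal (Localization.AtPrime (Q.under R))).map
      (Localization.localRingHom (Q.under R) Q (algebraMap R S) rfl) =
      (Q.under R).map (algebraMap R (Localization.AtPrime Q)) := by
    rw [h5, Ideal.map_map, h4]
  rw [h3]

set_option backward.isDefEq.respectTransparency.types false in
theorem eIdx_SpecMap {R S : CommRingCat.{u}} (φ : R ⟶ S) (Q : PrimeSpectrum S) :
    letI : Algebra R S := φ.hom.toAlgebra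
    (eIdx (Spec.map φ) Q).toNat = Q.asIdeal.ramificationIdx R := by
  letI : Algebra R S := φ.hom.toAlgebra
  rw [eIdx_SpecMap_eq_eRing φ Q]
  exact toNat_eRing_localRingHom (R := R) (S := S) Q.asIdeal

set_option backward.isDefEq.respectTransparency.types false in
theorem fDeg_SpecMap {R S : CommRingCat.{u}} (φ : R ⟶ S) (Q : PrimeSpectrum S) :
    letI : Algebra R S := φ.hom.toAlgebra
    fDeg (Spec.map φ) Q = Q.asIdeal.inertiaDeg R := by
  letI : Algebra R S := φ.hom.toAlgebra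
  letI : Algebra (Localization.AtPrime (Q.asIdeal.under R)) (Localization.AtPrime Q.asIdeal) :=
    Localization.AtPrime.algebraOfLiesOver (Q.asIdeal.under R) Q.asIdeal
  rw [Ideal.inertiaDeg_def Q.asIdeal R]
  unfold fDeg
  letI : Algebra ((Spec R).residueField ((Spec.map φ) Q)) ((Spec S).residueField Q) :=
    ((Spec.map φ).residueFieldMap Q).hom.toAlgebra
  refine Algebra.finrank_eq_of_equiv_equiv
    (ResidueField.mapEquiv
      (Spec.stalkIso R (PrimeSpectrum.comap φ.hom Q)).commRingCatIsoToRingEquiv)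
    (ResidueField.mapEquiv (Spec.stalkIso S Q).commRingCatIsoToRingEquiv) ?_
  refine Ideal.Quotient.ringHom_ext (RingHom.ext fun x => ?_)
  exact congrArg (residue _) (DFunLike.congr_fun (stalkMap_SpecMap_comm φ Q) x)

set_option backward.isDefEq.respectTransparency.types false in
/-- The formula `Σ e f = rank` for a finite flat ring map. -/
theorem sum_SpecMap {R S : CommRingCat.{u}} (φ : R ⟶ S) (hfin : φ.hom.Finite)
    (hflat : φ.hom.Flat) (p : PrimeSpectrum R) :
    ∑ᶠ q : {q : ↥(Spec S) // (Spec.map φ) q = p},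
      ((eIdx (Spec.map φ) q.1).toNat : ℤ) * (fDeg (Spec.map φ) q.1 : ℤ) =
      (((Spec.map φ).finrank p : ℕ) : ℤ) := by
  letI : Algebra R S := φ.hom.toAlgebra
  haveI : Module.Finite R S := hfin
  haveI : Module.Flat R S := hflat
  haveI : Finite (p.asIdeal.primesOver S) :=
    (Algebra.QuasiFinite.finite_primesOver p.asIdeal).to_subtype
  letI : Fintype (p.asIdeal.primesOver S) := Fintype.ofFinite _
  have hsum := Ideal.sum_ramification_inertia_eq_finrank_fiber p.asIdeal S
  rw [Ideal.finrank_fiber_eq_rankAtStalk] at hsum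
  have hsum' : ∑ Q : p.asIdeal.primesOver S, Q.1.ramificationIdx R * Q.1.inertiaDeg R =
      Module.rankAtStalk S p := hsum
  have hrank : (Spec.map φ).finrank p = Module.rankAtStalk S p := by
    rw [Scheme.Hom.finrank_SpecMap_eq_finrank hfin hflat]; rfl
  obtain ⟨e, he⟩ : ∃ e : p.asIdeal.primesOver S → {q : ↥(Spec S) // (Spec.map φ) q = p},
      ∀ Q, (e Q).1 = (⟨Q.1, Q.2.1⟩ : PrimeSpectrum S) :=
    ⟨fun Q => ⟨(⟨Q.1, Q.2.1⟩ : PrimeSpectrum S), PrimeSpectrum.ext (Q.2.2.over).symm⟩,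
      fun Q => rfl⟩
  have hbij : Function.Bijective e := by
    constructor
    · intro Q Q' h
      have h1 : (e Q).1 = (e Q').1 := congrArg Subtype.val h
      rw [he, he] at h1
      exact Subtype.ext (congrArg PrimeSpectrum.asIdeal h1)
    · rintro ⟨q, hq⟩
      refine ⟨⟨PrimeSpectrum.asIdeal (q : PrimeSpectrum S), (q : PrimeSpectrum S).isPrime,
        ⟨(congrArg PrimeSpectrum.asIdeal hq).symm⟩⟩, Subtype.ext ((he _).trans rfl)⟩
  have hfg : ∀ Q : p.asIdeal.primesOver S,
      (((Q.1.ramificationIdx R * Q.1.inertiaDeg R : ℕ)) : ℤ) =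
        ((eIdx (Spec.map φ) (e Q).1).toNat : ℤ) * (fDeg (Spec.map φ) (e Q).1 : ℤ) := by
    intro Q
    have h1 := eIdx_SpecMap φ ⟨Q.1, Q.2.1⟩
    have h2 := fDeg_SpecMap φ ⟨Q.1, Q.2.1⟩
    rw [he Q, h1, h2, Nat.cast_mul]
  have h1 : ∑ᶠ q : {q : ↥(Spec S) // (Spec.map φ) q = p},
      ((eIdx (Spec.map φ) q.1).toNat : ℤ) * (fDeg (Spec.map φ) q.1 : ℤ) =
      ∑ᶠ Q : p.asIdeal.primesOver S, ((Q.1.ramificationIdx R * Q.1.inertiaDeg R : ℕ) : ℤ) :=
    (finsum_eq_of_bijective
      (f := fun Q : p.asIdeal.primesOver S =>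
        ((Q.1.ramificationIdx R * Q.1.inertiaDeg R : ℕ) : ℤ))
      (g := fun q : {q : ↥(Spec S) // (Spec.map φ) q = p} =>
        ((eIdx (Spec.map φ) q.1).toNat : ℤ) * (fDeg (Spec.map φ) q.1 : ℤ)) e hbij hfg).symm
  rw [h1, finsum_eq_sum_of_fintype, hrank, ← hsum', Nat.cast_sum]

end Spec

section Global

/-- The formula `Σ e f = rank` for a finite flat morphism. -/
theorem sum_eq_finrank {U V : Scheme.{u}} (π : U ⟶ V) [IsFinite π] [Flat π] (v : V) :
    ∑ᶠ u : {u : U // π u = v}, ((eIdx π u.1).toNat : ℤ) * (fDeg π u.1 : ℤ) =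
      ((π.finrank v : ℕ) : ℤ) := by
  obtain ⟨_, ⟨V₀, hV₀m, rfl⟩, hv, -⟩ :=
    V.isBasis_affineOpens.exists_subset_of_mem_open (Set.mem_univ v) isOpen_univ
  have hV₀ : IsAffineOpen V₀ := hV₀m
  have hU₀ : IsAffineOpen (π ⁻¹ᵁ V₀) := hV₀.preimage π
  obtain ⟨φ, hφ⟩ : ∃ φ : Γ(V, V₀) ⟶ Γ(U, π ⁻¹ᵁ V₀), φ = π.appLE V₀ (π ⁻¹ᵁ V₀) le_rfl :=
    ⟨_, rfl⟩
  have hsq : hU₀.fromSpec ≫ π = Spec.map φ ≫ hV₀.fromSpec := by
    rw [hφ]; exact (IsAffineOpen.SpecMap_appLE_fromSpec π hV₀ hU₀ le_rfl).symm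
  have hpb : IsPullback hU₀.fromSpec (Spec.map φ) π hV₀.fromSpec :=
    (IsOpenImmersion.isPullback (Spec.map φ) hU₀.fromSpec hV₀.fromSpec π hsq
      (by rw [hV₀.opensRange_fromSpec, hU₀.opensRange_fromSpec])).flip
  haveI : IsFinite (Spec.map φ) :=
    MorphismProperty.of_isPullback (P := @IsFinite) hpb inferInstance
  haveI : Flat (Spec.map φ) := MorphismProperty.of_isPullback (P := @Flat) hpb inferInstance
  have hfinφ : φ.hom.Finite := (IsFinite.SpecMap_iff φ).mp inferInstance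
  have hflatφ : φ.hom.Flat := Flat.SpecMap_iff.mp inferInstance
  obtain ⟨p, hp⟩ : ∃ p : ↥(Spec Γ(V, V₀)), hV₀.fromSpec p = v :=
    ⟨hV₀.primeIdealOf ⟨v, hv⟩, hV₀.fromSpec_primeIdealOf ⟨v, hv⟩⟩
  have hrank : π.finrank v = (Spec.map φ).finrank p := by
    rw [← hp]; exact (Scheme.Hom.finrank_of_isPullback _ _ _ _ hpb p).symm
  obtain ⟨e, he⟩ : ∃ e : {q : ↥(Spec Γ(U, π ⁻¹ᵁ V₀)) // (Spec.map φ) q = p} →
      {u : U // π u = v}, ∀ q, (e q).1 = hU₀.fromSpec q.1 :=
    ⟨fun q => ⟨hU₀.fromSpec q.1, by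
      have h := congrArg (fun m : Spec Γ(U, π ⁻¹ᵁ V₀) ⟶ V => m q.1) hsq
      exact h.trans ((congrArg (fun z => hV₀.fromSpec z) q.2).trans hp)⟩, fun q => rfl⟩
  have hbij : Function.Bijective e := by
    constructor
    · intro q q' h
      refine Subtype.ext (hU₀.fromSpec.isOpenEmbedding.injective ?_)
      rw [← he, ← he, h]
    · intro u
      have hu' : u.1 ∈ π ⁻¹ᵁ V₀ := by
        show π u.1 ∈ V₀
        rw [u.2]; exact hv
      obtain ⟨q, hq⟩ : ∃ q : ↥(Spec Γ(U, π ⁻¹ᵁ V₀)), hU₀.fromSpec q = u.1 :=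
        ⟨hU₀.primeIdealOf ⟨u.1, hu'⟩, hU₀.fromSpec_primeIdealOf ⟨u.1, hu'⟩⟩
      have hq2 : (Spec.map φ) q = p := by
        apply hV₀.fromSpec.isOpenEmbedding.injective
        have h := congrArg (fun m : Spec Γ(U, π ⁻¹ᵁ V₀) ⟶ V => m q) hsq
        exact h.symm.trans ((congrArg (fun z => π z) hq).trans (u.2.trans hp.symm))
      exact ⟨⟨q, hq2⟩, Subtype.ext ((he _).trans hq)⟩
  have hfg : ∀ q : {q : ↥(Spec Γ(U, π ⁻¹ᵁ V₀)) // (Spec.map φ) q = p},
      ((eIdx (Spec.map φ) q.1).toNat : ℤ) * (fDeg (Spec.map φ) q.1 : ℤ) =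
        ((eIdx π (e q).1).toNat : ℤ) * (fDeg π (e q).1 : ℤ) := by
    intro q
    obtain ⟨h1, h2⟩ :=
      square_invariance_openImm hU₀.fromSpec π (Spec.map φ) hV₀.fromSpec hsq q.1
    rw [he q, h1, h2]
  rw [hrank, ← sum_SpecMap φ hfinφ hflatφ p]
  exact (finsum_eq_of_bijective
    (f := fun q : {q : ↥(Spec Γ(U, π ⁻¹ᵁ V₀)) // (Spec.map φ) q = p} =>
      ((eIdx (Spec.map φ) q.1).toNat : ℤ) * (fDeg (Spec.map φ) q.1 : ℤ))
    (g := fun u : {u : U // π u = v} => ((eIdx π u.1).toNat : ℤ) * (fDeg π u.1 : ℤ))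
    e hbij hfg).symm

theorem insepDeg_pos {U V : Scheme.{u}} (π : U ⟶ V) [LocallyQuasiFinite π] (x : U) :
    0 < insepDeg π x := by
  unfold insepDeg
  letI := (π.residueFieldMap x).hom.toAlgebra
  haveI : FiniteDimensional (V.residueField (π x)) (U.residueField x) :=
    finite_residueFieldMap π x (Scheme.Hom.quasiFiniteAt π x)
  exact Nat.pos_of_ne_zero (NeZero.ne _)

theorem eIdx_toNat_pos {U V : Scheme.{u}} (π : U ⟶ V) [LocallyQuasiFinite π] (x : U) :
    0 < (eIdx π x).toNat :=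
  ENat.toNat_pos (eRing_ne_zero _) (eRing_ne_top _ (Scheme.Hom.quasiFiniteAt π x))

theorem main1421 {X Y : Scheme.{u}} (f : X ⟶ Y) [LocallyQuasiFinite f] [Flat f]
    [LocallyOfFinitePresentation f] :
    let w : ↑X → ℤ := fun x =>
      (Module.length ↑(X.presheaf.stalk x) (↑(X.presheaf.stalk x) ⧸ Ideal.map (f.stalkMap x).hom (IsLocalRing.maximalIdeal ↑(Y.presheaf.stalk (f x))))).toNat *
      (letI := (f.residueFieldMap x).hom.toAlgebra
       (Field.finInsepDegree (Y.residueField (f x)) (X.residueField x) : ℤ))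
    MoreMor.IsWeighting f w ∧ ∀ x, 0 < w x := by
  intro w
  have hw : ∀ x, w x = ((eIdx f x).toNat : ℤ) * (insepDeg f x : ℤ) := fun x => rfl
  refine ⟨?_, ?_⟩
  · intro V g _ U hfin
    haveI : IsFinite (U.ι ≫ pullback.snd f g) := hfin
    have hsq : (U.ι ≫ pullback.fst f g) ≫ f = (U.ι ≫ pullback.snd f g) ≫ g := by
      rw [Category.assoc, Category.assoc, pullback.condition]
    have key : ∀ v, MoreMor.fibreIntegral (U.ι ≫ pullback.snd f g)
        (fun u => w (pullback.fst f g (U.ι u))) v =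
        (((U.ι ≫ pullback.snd f g).finrank v : ℕ) : ℤ) := by
      intro v
      rw [fibreIntegral_eq, ← sum_eq_finrank (U.ι ≫ pullback.snd f g) v]
      refine finsum_congr (fun u => ?_)
      obtain ⟨h1, h2⟩ := square_invariance (U.ι ≫ pullback.fst f g) f
        (U.ι ≫ pullback.snd f g) g hsq u.1
      have h3 : w (pullback.fst f g (U.ι u.1)) =
          ((eIdx (U.ι ≫ pullback.snd f g) u.1).toNat : ℤ) *
            (insepDeg (U.ι ≫ pullback.snd f g) u.1 : ℤ) := by
        rw [← h1, ← h2]; exact hw _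
      show w (pullback.fst f g (U.ι u.1)) * _ = _
      rw [h3, ← sepDeg_mul_insepDeg, Nat.cast_mul]
      ring
    have key2 : MoreMor.fibreIntegral (U.ι ≫ pullback.snd f g)
        (fun u => w (pullback.fst f g (U.ι u))) =
        fun v => (((U.ι ≫ pullback.snd f g).finrank v : ℕ) : ℤ) := funext key
    have hlc : IsLocallyConstant
        (fun v => (((U.ι ≫ pullback.snd f g).finrank v : ℕ) : ℤ)) :=
      (Scheme.Hom.isLocallyConstant_finrank (U.ι ≫ pullback.snd f g)).comp
        (fun n : ℕ => (n : ℤ))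
    exact key2 ▸ hlc
  · intro x
    rw [hw]
    exact mul_pos (Int.natCast_pos.mpr (eIdx_toNat_pos f x))
      (Int.natCast_pos.mpr (insepDeg_pos f x))

end Global

end Groth.Agent.Lib.LocDegH4
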