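import Mathlib
import Groth.Prelude
import Groth.Agent.Lib.WeightBase_helper4

set_option autoImplicit false
set_option linter.style.haveILetI false
set_option linter.unusedVariables false
universe u
open CategoryTheory CategoryTheory.Limits AlgebraicGeometry TopologicalSpace Opposite

namespace Groth.Agent.Lib.WeightH4

open PurInsepH4 EtNbhdFinH4 EtLocH4 IsLocalRing

/-- Geometric points of `U` over a fixed geometric point of `V`. -/
def geomSet {U V : Scheme.{u}} (π : U ⟶ V) (Ω : Type u) [Field Ω]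
    (vbar : Spec (CommRingCat.of Ω) ⟶ V) : Set (Spec (CommRingCat.of Ω) ⟶ U) :=
  {ubar | ubar ≫ π = vbar}

/-- Those centred at a given point `u`. -/
def geomFib {U V : Scheme.{u}} (π : U ⟶ V) (Ω : Type u) [Field Ω]
    (vbar : Spec (CommRingCat.of Ω) ⟶ V) (x : U) : Set (Spec (CommRingCat.of Ω) ⟶ U) :=
  {ubar | ubar ≫ π = vbar ∧ ubar (closedPoint Ω) = x}

theorem geom_lift {U V : Scheme.{u}} (π : U ⟶ V) (Ω : Type u) [Field Ω]
    (ubar : Spec (CommRingCat.of Ω) ⟶ U)
    (ψ : V.residueField (π (ubar (closedPoint Ω))) ⟶ CommRingCat.of Ω)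
    (h : ubar ≫ π = Spec.map ψ ≫ V.fromSpecResidueField (π (ubar (closedPoint Ω)))) :
    ∃ φ : U.residueField (ubar (closedPoint Ω)) ⟶ CommRingCat.of Ω,
      π.residueFieldMap (ubar (closedPoint Ω)) ≫ φ = ψ ∧
      Spec.map φ ≫ U.fromSpecResidueField (ubar (closedPoint Ω)) = ubar := by
  have h2 := Scheme.descResidueField_stalkClosedPointTo_fromSpecResidueField Ω U ubar
  refine ⟨Scheme.descResidueField (Scheme.stalkClosedPointTo ubar), ?_, h2⟩
  have h3 : Spec.map (π.residueFieldMap (ubar (closedPoint Ω)) ≫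
      Scheme.descResidueField (Scheme.stalkClosedPointTo ubar)) ≫
      V.fromSpecResidueField (π (ubar (closedPoint Ω))) = ubar ≫ π := by
    rw [Spec.map_comp, Category.assoc, Scheme.Hom.SpecMap_residueFieldMap_fromSpecResidueField,
      ← Category.assoc, h2]
  have h4 := h3.trans h
  exact Spec.map_injective ((cancel_mono _).mp h4)

theorem geom_lift' {U V : Scheme.{u}} (π : U ⟶ V) (Ω : Type u) [Field Ω]
    (ubar : Spec (CommRingCat.of Ω) ⟶ U) (x : U) (hx : ubar (closedPoint Ω) = x)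
    (ψ : V.residueField (π x) ⟶ CommRingCat.of Ω)
    (h : ubar ≫ π = Spec.map ψ ≫ V.fromSpecResidueField (π x)) :
    ∃ φ : U.residueField x ⟶ CommRingCat.of Ω,
      π.residueFieldMap x ≫ φ = ψ ∧ Spec.map φ ≫ U.fromSpecResidueField x = ubar := by
  subst hx
  exact geom_lift π Ω ubar ψ h

theorem card_geomFib {U V : Scheme.{u}} (π : U ⟶ V) [LocallyQuasiFinite π] (x : U) (Ω : Type u)
    [Field Ω] [IsAlgClosed Ω] (ψ : V.residueField (π x) ⟶ CommRingCat.of Ω) :
    Nat.card {ubar : Spec (CommRingCat.of Ω) ⟶ U //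
      ubar ≫ π = Spec.map ψ ≫ V.fromSpecResidueField (π x) ∧ ubar (closedPoint Ω) = x} =
      sepDeg π x := by
  letI algU : Algebra (V.residueField (π x)) (U.residueField x) :=
    (π.residueFieldMap x).hom.toAlgebra
  letI algΩ : Algebra (V.residueField (π x)) Ω := ψ.hom.toAlgebra
  haveI : FiniteDimensional (V.residueField (π x)) (U.residueField x) :=
    finite_residueFieldMap π x (Scheme.Hom.quasiFiniteAt π x)
  have hsd : sepDeg π x = Nat.card ((U.residueField x) →ₐ[V.residueField (π x)] Ω) :=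
    Field.finSepDegree_eq_of_isAlgClosed (V.residueField (π x)) (U.residueField x) Ω
  rw [hsd]
  symm
  apply Nat.card_congr
  have hprop : ∀ φ : (U.residueField x) →ₐ[V.residueField (π x)] Ω,
      (Spec.map (CommRingCat.ofHom φ.toRingHom) ≫ U.fromSpecResidueField x) ≫ π =
        Spec.map ψ ≫ V.fromSpecResidueField (π x) ∧
      (Spec.map (CommRingCat.ofHom φ.toRingHom) ≫ U.fromSpecResidueField x) (closedPoint Ω) =
        x := by
    intro φ
    refine ⟨?_, Scheme.fromSpecResidueField_apply x _⟩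
    have hφ : π.residueFieldMap x ≫ CommRingCat.ofHom φ.toRingHom = ψ := by
      apply CommRingCat.hom_ext
      exact φ.comp_algebraMap
    rw [Category.assoc, ← Scheme.Hom.SpecMap_residueFieldMap_fromSpecResidueField,
      ← Category.assoc, ← Spec.map_comp]
    exact congrArg (fun m : V.residueField (π x) ⟶ CommRingCat.of Ω =>
      Spec.map m ≫ V.fromSpecResidueField (π x)) hφ
  refine Equiv.ofBijective (fun φ => ⟨_, hprop φ⟩) ⟨?_, ?_⟩
  · intro φ₁ φ₂ h12
    have h5 : Spec.map (CommRingCat.ofHom φ₁.toRingHom) ≫ U.fromSpecResidueField x =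
        Spec.map (CommRingCat.ofHom φ₂.toRingHom) ≫ U.fromSpecResidueField x :=
      congrArg Subtype.val h12
    have h6 := Spec.map_injective ((cancel_mono _).mp h5)
    exact AlgHom.ext (fun a =>
      congrArg (fun q : U.residueField x ⟶ CommRingCat.of Ω => q.hom a) h6)
  · rintro ⟨ubar, h1, h2⟩
    obtain ⟨φ, hφ1, hφ2⟩ := geom_lift' π Ω ubar x h2 ψ h1
    refine ⟨{ toRingHom := φ.hom
              commutes' := fun r => congrArg
                (fun q : V.residueField (π x) ⟶ CommRingCat.of Ω => q.hom r) hφ1 }, ?_⟩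
    apply Subtype.ext
    exact hφ2

theorem ncard_geomFib {U V : Scheme.{u}} (π : U ⟶ V) [LocallyQuasiFinite π] (Ω : Type u)
    [Field Ω] [IsAlgClosed Ω] (x : U) (v : V) (hv : π x = v)
    (ψ : V.residueField v ⟶ CommRingCat.of Ω) :
    (geomFib π Ω (Spec.map ψ ≫ V.fromSpecResidueField v) x).ncard = sepDeg π x := by
  subst hv
  rw [← Nat.card_coe_set_eq]
  exact card_geomFib π x Ω ψ

theorem finite_geomFib {U V : Scheme.{u}} (π : U ⟶ V) [LocallyQuasiFinite π] (Ω : Type u)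
    [Field Ω] [IsAlgClosed Ω] (x : U) (v : V) (hv : π x = v)
    (ψ : V.residueField v ⟶ CommRingCat.of Ω) :
    (geomFib π Ω (Spec.map ψ ≫ V.fromSpecResidueField v) x).Finite :=
  Set.finite_of_ncard_pos (by rw [ncard_geomFib π Ω x v hv ψ]; exact sepDeg_pos π x)

theorem geomSet_eq_biUnion {U V : Scheme.{u}} (π : U ⟶ V) (Ω : Type u) [Field Ω] (v : V)
    (ψ : V.residueField v ⟶ CommRingCat.of Ω) :
    geomSet π Ω (Spec.map ψ ≫ V.fromSpecResidueField v) =
      ⋃ x ∈ π ⁻¹' {v}, geomFib π Ω (Spec.map ψ ≫ V.fromSpecResidueField v) x := by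
  ext ubar
  constructor
  · intro h
    have h1 : π (ubar (closedPoint Ω)) = v := by
      have h2 : (ubar ≫ π) (closedPoint Ω) =
          (Spec.map ψ ≫ V.fromSpecResidueField v) (closedPoint Ω) :=
        congrArg (fun m : Spec (CommRingCat.of Ω) ⟶ V => m (closedPoint Ω)) h
      exact h2.trans (Scheme.fromSpecResidueField_apply v _)
    exact Set.mem_iUnion₂.mpr ⟨ubar (closedPoint Ω), h1, ⟨h, rfl⟩⟩
  · intro h
    obtain ⟨x, hx, h1, h2⟩ := Set.mem_iUnion₂.mp h
    exact h1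

theorem geomSet_finite {U V : Scheme.{u}} (π : U ⟶ V) [LocallyQuasiFinite π] (Ω : Type u)
    [Field Ω] [IsAlgClosed Ω] (v : V) (ψ : V.residueField v ⟶ CommRingCat.of Ω)
    (hfin : (π ⁻¹' {v}).Finite) :
    (geomSet π Ω (Spec.map ψ ≫ V.fromSpecResidueField v)).Finite := by
  rw [geomSet_eq_biUnion]
  exact Set.Finite.biUnion hfin (fun x hx => finite_geomFib π Ω x v hx ψ)

theorem fibre_finite_of_geomSet_finite {U V : Scheme.{u}} (π : U ⟶ V) [LocallyQuasiFinite π]
    (Ω : Type u) [Field Ω] [IsAlgClosed Ω] (v : V) (ψ : V.residueField v ⟶ CommRingCat.of Ω)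
    (hS : (geomSet π Ω (Spec.map ψ ≫ V.fromSpecResidueField v)).Finite) :
    (π ⁻¹' {v}).Finite := by
  refine (hS.image (fun ubar : Spec (CommRingCat.of Ω) ⟶ U => ubar (closedPoint Ω))).subset ?_
  intro x hx
  have hne : (geomFib π Ω (Spec.map ψ ≫ V.fromSpecResidueField v) x).Nonempty := by
    apply Set.nonempty_of_ncard_ne_zero
    rw [ncard_geomFib π Ω x v hx ψ]
    exact (sepDeg_pos π x).ne'
  obtain ⟨ubar, h1, h2⟩ := hne
  exact ⟨ubar, h1, h2⟩

theorem geomSum {U V : Scheme.{u}} (π : U ⟶ V) [LocallyQuasiFinite π] (Ω : Type u) [Field Ω]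
    [IsAlgClosed Ω] (v : V) (ψ : V.residueField v ⟶ CommRingCat.of Ω) (w : U → ℤ)
    (hfin : (π ⁻¹' {v}).Finite) :
    ∑ᶠ ubar ∈ geomSet π Ω (Spec.map ψ ≫ V.fromSpecResidueField v), w (ubar (closedPoint Ω)) =
      MoreMor.fibreIntegral π w v := by
  have hdisj : (π ⁻¹' {v}).PairwiseDisjoint
      (geomFib π Ω (Spec.map ψ ≫ V.fromSpecResidueField v)) :=
    fun x _ x' _ hne => Set.disjoint_left.mpr (fun ubar h1 h2 => hne (h1.2.symm.trans h2.2))
  have hinner : ∀ x ∈ π ⁻¹' {v},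
      ∑ᶠ ubar ∈ geomFib π Ω (Spec.map ψ ≫ V.fromSpecResidueField v) x, w (ubar (closedPoint Ω)) =
        w x * (sepDeg π x : ℤ) := by
    intro x hx
    have hf := finite_geomFib π Ω x v hx ψ
    have h1 : ∑ᶠ ubar ∈ geomFib π Ω (Spec.map ψ ≫ V.fromSpecResidueField v) x,
        w (ubar (closedPoint Ω)) =
        ∑ᶠ ubar ∈ geomFib π Ω (Spec.map ψ ≫ V.fromSpecResidueField v) x, w x :=
      finsum_mem_congr rfl (fun ubar h => by rw [h.2])
    rw [h1, finsum_mem_eq_finite_toFinset_sum _ hf, Finset.sum_const,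
      ← Set.ncard_eq_toFinset_card _ hf, ncard_geomFib π Ω x v hx ψ, nsmul_eq_mul, mul_comm]
  rw [geomSet_eq_biUnion, finsum_mem_biUnion hdisj hfin
    (fun x hx => finite_geomFib π Ω x v hx ψ), finsum_mem_congr rfl hinner, fibreIntegral_eq]
  exact (finsum_set_coe_eq_finsum_mem (f := fun x => w x * (sepDeg π x : ℤ)) (π ⁻¹' {v})).symm

theorem main1418_aux {U V U' V' : Scheme.{u}} (π : U ⟶ V) [LocallyQuasiFinite π]
    (hfin : ∀ v : V, (π ⁻¹' {v}).Finite) (π' : U' ⟶ V') [LocallyQuasiFinite π'] (h : U' ⟶ U)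
    (g : V' ⟶ V) (hc : IsPullback h π' π g) (w : ↑U → ℤ) (v' : V') (Ω : Type u) [Field Ω]
    [IsAlgClosed Ω] (ψ' : V'.residueField v' ⟶ CommRingCat.of Ω) :
    MoreMor.fibreIntegral π' (w ∘ ⇑h) v' = MoreMor.fibreIntegral π w (g v') := by
  have hv : Spec.map (g.residueFieldMap v' ≫ ψ') ≫ V.fromSpecResidueField (g v') =
      (Spec.map ψ' ≫ V'.fromSpecResidueField v') ≫ g := by
    rw [Spec.map_comp, Category.assoc, Scheme.Hom.SpecMap_residueFieldMap_fromSpecResidueField,
      Category.assoc]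
  have hbij : Set.BijOn (fun ubar' : Spec (CommRingCat.of Ω) ⟶ U' => ubar' ≫ h)
      (geomSet π' Ω (Spec.map ψ' ≫ V'.fromSpecResidueField v'))
      (geomSet π Ω (Spec.map (g.residueFieldMap v' ≫ ψ') ≫ V.fromSpecResidueField (g v'))) := by
    refine ⟨?_, ?_, ?_⟩
    · intro ubar' hu
      change (ubar' ≫ h) ≫ π = _
      rw [hv, Category.assoc, hc.w, ← Category.assoc]
      exact congrArg (fun m => m ≫ g) hu
    · intro a ha b hb hab
      exact hc.hom_ext hab ((ha : a ≫ π' = _).trans (hb : b ≫ π' = _).symm)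
    · intro ubar hu
      have hu' : ubar ≫ π = (Spec.map ψ' ≫ V'.fromSpecResidueField v') ≫ g :=
        (hu : ubar ≫ π = _).trans hv
      exact ⟨hc.lift ubar (Spec.map ψ' ≫ V'.fromSpecResidueField v') hu',
        hc.lift_snd _ _ _, hc.lift_fst _ _ _⟩
  have hSfin := geomSet_finite π Ω (g v') (g.residueFieldMap v' ≫ ψ') (hfin (g v'))
  have hS'fin : (geomSet π' Ω (Spec.map ψ' ≫ V'.fromSpecResidueField v')).Finite :=
    Set.Finite.of_finite_image (hSfin.subset hbij.mapsTo.image_subset) hbij.injOn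
  have hfib' : (π' ⁻¹' {v'}).Finite := fibre_finite_of_geomSet_finite π' Ω v' ψ' hS'fin
  rw [← geomSum π' Ω v' ψ' (w ∘ ⇑h) hfib',
    ← geomSum π Ω (g v') (g.residueFieldMap v' ≫ ψ') w (hfin (g v'))]
  exact finsum_mem_eq_of_bijOn (fun ubar' : Spec (CommRingCat.of Ω) ⟶ U' => ubar' ≫ h) hbij
    (fun ubar' _ => rfl)

theorem main1418 {U V U' V' : Scheme.{u}} (π : U ⟶ V) [LocallyQuasiFinite π]
    [LocallyOfFiniteType π] (hfin : ∀ v : V, (π ⁻¹' {v}).Finite)
    (π' : U' ⟶ V') (h : U' ⟶ U) (g : V' ⟶ V) (hc : IsPullback h π' π g) (w : ↑U → ℤ) (v' : V') :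
    MoreMor.fibreIntegral π' (w ∘ ⇑h) v' = MoreMor.fibreIntegral π w (g v') := by
  haveI : LocallyQuasiFinite π' :=
    MorphismProperty.of_isPullback (P := @LocallyQuasiFinite) hc inferInstance
  exact main1418_aux π hfin π' h g hc w v' (AlgebraicClosure (V'.residueField v'))
    (CommRingCat.ofHom (algebraMap (V'.residueField v') (AlgebraicClosure (V'.residueField v'))))

end Groth.Agent.Lib.WeightH4
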