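import Mathlib
import Groth.Prelude
import Groth.Agent.Lib.WeightGeom_helper4

set_option autoImplicit false
set_option linter.style.haveILetI false
set_option linter.unusedVariables false
universe u
open CategoryTheory CategoryTheory.Limits AlgebraicGeometry TopologicalSpace Opposite

namespace Groth.Agent.Lib.WeightH4

open PurInsepH4 EtNbhdFinH4 EtLocH4 IsLocalRing

theorem finite_fibre_aux {U V U' V' : Scheme.{u}} (π : U ⟶ V) [LocallyQuasiFinite π]
    (hfin : ∀ v : V, (π ⁻¹' {v}).Finite) (π' : U' ⟶ V') [LocallyQuasiFinite π'] (h : U' ⟶ U)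
    (g : V' ⟶ V) (hc : IsPullback h π' π g) (v' : V') (Ω : Type u) [Field Ω]
    [IsAlgClosed Ω] (ψ' : V'.residueField v' ⟶ CommRingCat.of Ω) :
    (π' ⁻¹' {v'}).Finite := by
  have hv : Spec.map (g.residueFieldMap v' ≫ ψ') ≫ V.fromSpecResidueField (g v') =
      (Spec.map ψ' ≫ V'.fromSpecResidueField v') ≫ g := by
    rw [Spec.map_comp, Category.assoc, Scheme.Hom.SpecMap_residueFieldMap_fromSpecResidueField,
      Category.assoc]
  have hmaps : Set.MapsTo (fun ubar' : Spec (CommRingCat.of Ω) ⟶ U' => ubar' ≫ h)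
      (geomSet π' Ω (Spec.map ψ' ≫ V'.fromSpecResidueField v'))
      (geomSet π Ω (Spec.map (g.residueFieldMap v' ≫ ψ') ≫ V.fromSpecResidueField (g v'))) := by
    intro ubar' hu
    change (ubar' ≫ h) ≫ π = _
    rw [hv, Category.assoc, hc.w, ← Category.assoc]
    exact congrArg (fun m => m ≫ g) hu
  have hinj : Set.InjOn (fun ubar' : Spec (CommRingCat.of Ω) ⟶ U' => ubar' ≫ h)
      (geomSet π' Ω (Spec.map ψ' ≫ V'.fromSpecResidueField v')) := by
    intro a ha b hb hab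
    exact hc.hom_ext hab ((ha : a ≫ π' = _).trans (hb : b ≫ π' = _).symm)
  have hSfin := geomSet_finite π Ω (g v') (g.residueFieldMap v' ≫ ψ') (hfin (g v'))
  have hS'fin : (geomSet π' Ω (Spec.map ψ' ≫ V'.fromSpecResidueField v')).Finite :=
    Set.Finite.of_finite_image (hSfin.subset hmaps.image_subset) hinj
  exact fibre_finite_of_geomSet_finite π' Ω v' ψ' hS'fin

theorem finite_fibre_of_isPullback {U V U' V' : Scheme.{u}} (π : U ⟶ V) [LocallyQuasiFinite π]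
    (hfin : ∀ v : V, (π ⁻¹' {v}).Finite) (π' : U' ⟶ V') (h : U' ⟶ U)
    (g : V' ⟶ V) (hc : IsPullback h π' π g) (v' : V') : (π' ⁻¹' {v'}).Finite := by
  haveI : LocallyQuasiFinite π' :=
    MorphismProperty.of_isPullback (P := @LocallyQuasiFinite) hc inferInstance
  exact finite_fibre_aux π hfin π' h g hc v' (AlgebraicClosure (V'.residueField v'))
    (CommRingCat.ofHom (algebraMap (V'.residueField v') (AlgebraicClosure (V'.residueField v'))))

theorem fibreIntegral_eq_mem {P V : Scheme.{u}} (p₂ : P ⟶ V) (G : P → ℤ) (z : V) :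
    MoreMor.fibreIntegral p₂ G z = ∑ᶠ p ∈ p₂ ⁻¹' {z}, G p * (sepDeg p₂ p : ℤ) := by
  rw [fibreIntegral_eq]
  exact finsum_set_coe_eq_finsum_mem (f := fun p => G p * (sepDeg p₂ p : ℤ)) (p₂ ⁻¹' {z})

theorem fibreIntegral_opens {P V : Scheme.{u}} (p₂ : P ⟶ V) (T : P.Opens) (G : P → ℤ) (z : V) :
    MoreMor.fibreIntegral (T.ι ≫ p₂) (fun t => G (T.ι t)) z =
      ∑ᶠ p ∈ ((T : Set P) ∩ p₂ ⁻¹' {z}), G p * (sepDeg p₂ p : ℤ) := by
  rw [fibreIntegral_eq]
  have e0 : ∀ t : {t : ↥T // (T.ι ≫ p₂) t = z},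
      G (T.ι t.1) * (sepDeg (T.ι ≫ p₂) t.1 : ℤ) =
        (fun t : ↥T => G (T.ι t) * (sepDeg p₂ (T.ι t) : ℤ)) t.1 := fun t => by
    rw [sepDeg_ι]
  have e1 : ∑ᶠ t : {t : ↥T // (T.ι ≫ p₂) t = z},
      (fun t : ↥T => G (T.ι t) * (sepDeg p₂ (T.ι t) : ℤ)) t.1 =
      ∑ᶠ t ∈ {t : ↥T | p₂ (T.ι t) = z}, G (T.ι t) * (sepDeg p₂ (T.ι t) : ℤ) :=
    finsum_set_coe_eq_finsum_mem (f := fun t : ↥T => G (T.ι t) * (sepDeg p₂ (T.ι t) : ℤ))
      {t : ↥T | p₂ (T.ι t) = z}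
  have hbij : Set.BijOn (fun t : ↥T => T.ι t) {t : ↥T | p₂ (T.ι t) = z}
      ((T : Set P) ∩ p₂ ⁻¹' {z}) := by
    refine ⟨?_, ?_, ?_⟩
    · intro t ht
      exact ⟨t.2, ht⟩
    · intro a _ b _ hab
      exact Subtype.ext hab
    · intro p hp
      exact ⟨⟨p, hp.1⟩, hp.2, rfl⟩
  exact ((finsum_congr e0).trans e1).trans
    (finsum_mem_eq_of_bijOn (fun t : ↥T => T.ι t) hbij (fun t _ => rfl))

theorem finsum_mem_le_of_subset {α : Type*} (Φ : α → ℤ) (hΦ : ∀ a, 0 ≤ Φ a) {s t : Set α}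
    (hst : s ⊆ t) (ht : t.Finite) : ∑ᶠ a ∈ s, Φ a ≤ ∑ᶠ a ∈ t, Φ a := by
  have hs : s.Finite := ht.subset hst
  have h1 : ∑ᶠ a ∈ t, Φ a = ∑ᶠ a ∈ s, Φ a + ∑ᶠ a ∈ t \ s, Φ a := by
    rw [← finsum_mem_union Set.disjoint_sdiff_right hs (ht.subset Set.diff_subset),
      Set.union_diff_cancel hst]
  have h2 : 0 ≤ ∑ᶠ a ∈ t \ s, Φ a := finsum_nonneg (fun a => finsum_nonneg (fun _ => hΦ a))
  linarith

set_option maxHeartbeats 1000000 in
theorem exists_open_ge {X Y : Scheme.{u}} (f : X ⟶ Y) [LocallyQuasiFinite f]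
    [LocallyOfFiniteType f] [IsSeparated f] (hfin : ∀ y : Y, (f ⁻¹' {y}).Finite)
    (w : ↑X → ℤ) (hw : MoreMor.IsWeighting f w) (hpos : ∀ x, 0 < w x) (y : Y) :
    ∃ N : Set Y, IsOpen N ∧ y ∈ N ∧
      ∀ y' ∈ N, MoreMor.fibreIntegral f w y ≤ MoreMor.fibreIntegral f w y' := by
  obtain ⟨n, x, hxinj, hxmem, hxsurj⟩ := exists_enum (f ⁻¹' {y}) (hfin y)
  obtain ⟨U, g, u, hg, hgu, J, hJ, V, v, hclopen, hdisj, hV, hcov⟩ :=
    main9778 f y x hxinj (fun i => hxmem i) (fun i => Scheme.Hom.quasiFiniteAt f (x i))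
  haveI := hg
  haveI := hJ
  obtain ⟨Φ, hΦ⟩ : ∃ Φ : ↑(pullback f g) → ℤ, Φ = fun p =>
      w (pullback.fst f g p) * (sepDeg (pullback.snd f g) p : ℤ) := ⟨_, rfl⟩
  have hΦnn : ∀ p, 0 ≤ Φ p := by
    intro p; rw [hΦ]; exact mul_nonneg (hpos _).le (Int.natCast_nonneg _)
  have hfib : ∀ z : U, ((pullback.snd f g) ⁻¹' {z}).Finite := fun z =>
    finite_fibre_of_isPullback f hfin (pullback.snd f g) (pullback.fst f g) g
      (IsPullback.of_hasPullback f g) z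
  have hFg : ∀ z : U, MoreMor.fibreIntegral f w (g z) =
      ∑ᶠ p ∈ (pullback.snd f g) ⁻¹' {z}, Φ p := by
    intro z
    rw [← main1418 f hfin (pullback.snd f g) (pullback.fst f g) g
      (IsPullback.of_hasPullback f g) w z, fibreIntegral_eq_mem, hΦ]
    rfl
  obtain ⟨I, hI⟩ : ∃ I : (Σ i, J i) → U → ℤ, I = fun k =>
      MoreMor.fibreIntegral ((V k.1 k.2).ι ≫ pullback.snd f g)
        (fun t => w (pullback.fst f g ((V k.1 k.2).ι t))) := ⟨_, rfl⟩
  have hILC : ∀ k, IsLocallyConstant (I k) := by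
    intro k; rw [hI]; exact hw U g (V k.1 k.2) (hV k.1 k.2).2.1
  have hIeq : ∀ k z, I k z = ∑ᶠ p ∈ (((V k.1 k.2 : (pullback f g).Opens) : Set ↑(pullback f g)) ∩
      (pullback.snd f g) ⁻¹' {z}), Φ p := by
    intro k z
    rw [hI, hΦ]
    exact fibreIntegral_opens (pullback.snd f g) (V k.1 k.2)
      (fun p => w (pullback.fst f g p)) z
  have hpw : ∀ z : U, Pairwise (Function.onFun Disjoint (fun k : (Σ i, J i) =>
      (((V k.1 k.2 : (pullback f g).Opens) : Set ↑(pullback f g)) ∩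
        (pullback.snd f g) ⁻¹' {z}))) := by
    intro z k k' hne
    refine Set.disjoint_left.mpr (fun p hp hp' => hne ?_)
    obtain ⟨h1, h2⟩ := hdisj k.1 k.2 k'.1 k'.2 ⟨p, hp.1, hp'.1⟩
    exact Sigma.ext h1 h2
  have hsum : ∀ z, ∑ᶠ k, I k z = ∑ᶠ p ∈ ⋃ k : (Σ i, J i),
      (((V k.1 k.2 : (pullback f g).Opens) : Set ↑(pullback f g)) ∩
        (pullback.snd f g) ⁻¹' {z}), Φ p := by
    intro z
    rw [finsum_mem_iUnion (hpw z) (fun k => (hfib z).subset Set.inter_subset_right)]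
    exact finsum_congr (fun k => hIeq k z)
  have hle : ∀ z, ∑ᶠ k, I k z ≤ MoreMor.fibreIntegral f w (g z) := by
    intro z
    rw [hsum, hFg]
    exact finsum_mem_le_of_subset Φ hΦnn (Set.iUnion_subset (fun k => Set.inter_subset_right))
      (hfib z)
  have heq : ∑ᶠ k, I k u = MoreMor.fibreIntegral f w (g u) := by
    rw [hsum, hFg]
    refine finsum_mem_congr ?_ (fun _ _ => rfl)
    apply Set.Subset.antisymm (Set.iUnion_subset (fun k => Set.inter_subset_right))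
    intro p hp
    have hp' : pullback.snd f g p = u := hp
    have h1 : f (pullback.fst f g p) = y := by
      have h2 : (pullback.fst f g ≫ f) p = (pullback.snd f g ≫ g) p :=
        congrArg (fun m : pullback f g ⟶ Y => m p) pullback.condition
      exact h2.trans ((congrArg g hp').trans hgu)
    obtain ⟨m, hm⟩ := hxsurj _ h1
    obtain ⟨j, hj⟩ := hcov p m hp' hm.symm
    exact Set.mem_iUnion.mpr ⟨⟨m, j⟩, hj, hp⟩
  refine ⟨g '' (⋂ k : (Σ i, J i), {z : U | I k z = I k u}), ?_, ?_, ?_⟩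
  · exact g.isOpenMap _ (isOpen_iInter_of_finite (fun k => (hILC k).isOpen_fiber (I k u)))
  · exact ⟨u, Set.mem_iInter.mpr (fun k => rfl), hgu⟩
  · rintro _ ⟨z, hz, rfl⟩
    have h1 : ∑ᶠ k, I k u = ∑ᶠ k, I k z :=
      finsum_congr (fun k => ((Set.mem_iInter.mp hz k : I k z = I k u)).symm)
    rw [← hgu, ← heq, h1]
    exact hle z

theorem main1426 {X Y : Scheme.{u}} (f : X ⟶ Y) [LocallyQuasiFinite f] [LocallyOfFiniteType f]
    [IsSeparated f] (hfin : ∀ y : Y, (f ⁻¹' {y}).Finite)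
    (w : ↑X → ℤ) (hw : MoreMor.IsWeighting f w) (hpos : ∀ x, 0 < w x) :
    LowerSemicontinuous (MoreMor.fibreIntegral f w) := by
  intro y c hc
  obtain ⟨N, hN, hyN, hle⟩ := exists_open_ge f hfin w hw hpos y
  exact Filter.eventually_of_mem (hN.mem_nhds hyN)
    (fun y' hy' => lt_of_lt_of_le hc (hle y' hy'))

end Groth.Agent.Lib.WeightH4
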