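import Mathlib
import Groth.Prelude
import Groth.Agent.Lib.WeightSemi_helper4

set_option autoImplicit false
set_option linter.style.haveILetI false
set_option linter.unusedVariables false
universe u
open CategoryTheory CategoryTheory.Limits AlgebraicGeometry TopologicalSpace Opposite

namespace Groth.Agent.Lib.WeightH4

open PurInsepH4 EtNbhdFinH4 EtLocH4 IsLocalRing

/-- The weighting condition for an arbitrary model of the fibre product. -/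
theorem isWeighting_isPullback {X Y : Scheme.{u}} (f : X ⟶ Y) [LocallyQuasiFinite f]
    [LocallyOfFiniteType f] (w : X → ℤ) (hw : MoreMor.IsWeighting f w) {P U : Scheme.{u}}
    {p₁ : P ⟶ X} {p₂ : P ⟶ U} {g : U ⟶ Y} [Etale g] (hpb : IsPullback p₁ p₂ f g) (T : P.Opens)
    (hfin : IsFinite (T.ι ≫ p₂)) :
    IsLocallyConstant (MoreMor.fibreIntegral (T.ι ≫ p₂) (fun t => w (p₁ (T.ι t)))) := by
  obtain ⟨j, hj⟩ : ∃ j : P ⟶ pullback f g, j = hpb.isoPullback.hom := ⟨_, rfl⟩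
  haveI : IsIso j := by rw [hj]; infer_instance
  have hjfst : j ≫ pullback.fst f g = p₁ := by rw [hj]; exact hpb.isoPullback_hom_fst
  have hjsnd : j ≫ pullback.snd f g = p₂ := by rw [hj]; exact hpb.isoPullback_hom_snd
  have hε : (j.isoImage T).hom ≫ (j ''ᵁ T).ι = T.ι ≫ j := j.isoImage_hom_ι T
  have hππ' : (j.isoImage T).hom ≫ ((j ''ᵁ T).ι ≫ pullback.snd f g) = T.ι ≫ p₂ := by
    rw [← Category.assoc, hε, Category.assoc, hjsnd]
  have hfin1 : IsFinite ((j.isoImage T).hom ≫ ((j ''ᵁ T).ι ≫ pullback.snd f g)) := by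
    rw [hππ']; exact hfin
  have hfinπ : IsFinite ((j ''ᵁ T).ι ≫ pullback.snd f g) :=
    (MorphismProperty.cancel_left_of_respectsIso @IsFinite (j.isoImage T).hom
      ((j ''ᵁ T).ι ≫ pullback.snd f g)).mp hfin1
  have hLC := hw U g (j ''ᵁ T) hfinπ
  have hfun : MoreMor.fibreIntegral (T.ι ≫ p₂) (fun t => w (p₁ (T.ι t))) =
      MoreMor.fibreIntegral ((j ''ᵁ T).ι ≫ pullback.snd f g)
        (fun t' => w (pullback.fst f g ((j ''ᵁ T).ι t'))) := by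
    funext z
    refine (congrArg (fun q => MoreMor.fibreIntegral q
      (fun t => w (p₁ (T.ι t))) z) hππ'.symm).trans ?_
    apply WeightRestrictH4.fibreIntegral_comp_iso
    intro a
    have p1 : (j ''ᵁ T).ι.base ((j.isoImage T).hom.base a) = j.base (T.ι.base a) :=
      congrArg (fun m : T.toScheme ⟶ pullback f g => m.base a) hε
    have p2 : (pullback.fst f g).base (j.base (T.ι.base a)) = p₁.base (T.ι.base a) :=
      congrArg (fun m : P ⟶ X => m.base (T.ι.base a)) hjfst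
    change w (p₁.base (T.ι.base a)) =
      w ((pullback.fst f g).base ((j ''ᵁ T).ι.base ((j.isoImage T).hom.base a)))
    rw [p1, p2]
  rw [hfun]; exact hLC

theorem eq_of_PI_isPullback {P X U S : Scheme.{u}} {fst : P ⟶ X} {snd : P ⟶ U} {f : X ⟶ S}
    {g : U ⟶ S} (h : IsPullback fst snd f g) (t₁ t₂ : P) (h1 : fst t₁ = fst t₂)
    (h2 : snd t₁ = snd t₂) (hPI : PI (g.residueFieldMap (snd t₂)).hom) : t₁ = t₂ := by
  have hs : ∀ t, pullback.snd f g (h.isoPullback.hom t) = snd t := fun t => by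
    rw [← Scheme.Hom.comp_apply, h.isoPullback_hom_snd]
  have hf : ∀ t, pullback.fst f g (h.isoPullback.hom t) = fst t := fun t => by
    rw [← Scheme.Hom.comp_apply, h.isoPullback_hom_fst]
  apply (Scheme.Hom.homeomorph h.isoPullback.hom).injective
  apply eq_of_PI f g
  · exact (hf t₁).trans (h1.trans (hf t₂).symm)
  · exact (hs t₁).trans (h2.trans (hs t₂).symm)
  · exact PI_of_point_eq g (hs t₂) hPI

set_option maxHeartbeats 1600000 in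
theorem exists_nhd_lift {X Y : Scheme.{u}} (f : X ⟶ Y) [LocallyQuasiFinite f]
    [LocallyOfFiniteType f] (w : ↑X → ℤ) (hw : MoreMor.IsWeighting f w) (hpos : ∀ x, 0 < w x)
    {P U : Scheme.{u}} {p₁ : P ⟶ X} {p₂ : P ⟶ U} {g : U ⟶ Y} [Etale g]
    (hpb : IsPullback p₁ p₂ f g) (T : P.Opens) (hfinT : IsFinite (T.ι ≫ p₂)) (v₀ : P)
    (hmem : v₀ ∈ T) (huniq : ∀ q : P, q ∈ T → p₂ q = p₂ v₀ → q = v₀)
    (hPI : PI (p₂.residueFieldMap v₀).hom)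
    {P' U' : Scheme.{u}} {r : P' ⟶ P} {q₂ : P' ⟶ U'} {e₂ : U' ⟶ U}
    (hsq : IsPullback r q₂ p₂ e₂) (t : P') (ht : r t = v₀) (O'' : P'.Opens) (htO : t ∈ O'') :
    ∃ N : Set U', IsOpen N ∧ q₂ t ∈ N ∧ ∀ z' ∈ N, ∃ τ' : P', τ' ∈ O'' ∧ q₂ τ' = z' := by
  haveI := hfinT
  have hsqT : IsPullback (r ∣_ T) ((r ⁻¹ᵁ T).ι ≫ q₂) (T.ι ≫ p₂) e₂ :=
    (isPullback_morphismRestrict r T).paste_vert hsq
  haveI hfinT' : IsFinite ((r ⁻¹ᵁ T).ι ≫ q₂) :=
    MorphismProperty.of_isPullback (P := @IsFinite) hsqT hfinT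
  obtain ⟨I, hI⟩ : ∃ I : U → ℤ,
      I = MoreMor.fibreIntegral (T.ι ≫ p₂) (fun τ => w (p₁ (T.ι τ))) := ⟨_, rfl⟩
  have hLC : IsLocallyConstant I := by
    rw [hI]; exact isWeighting_isPullback f w hw hpb T hfinT
  have hIu : I (p₂ v₀) = w (p₁ v₀) := by
    have e1 : sepDeg (T.ι ≫ p₂) ⟨v₀, hmem⟩ = 1 :=
      (sepDeg_ι T p₂ ⟨v₀, hmem⟩).trans (sepDeg_eq_one p₂ v₀ hPI.isPurelyInseparable)
    have hval := fibreIntegral_of_unique (T.ι ≫ p₂) (fun τ => w (p₁ (T.ι τ))) (p₂ v₀)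
      ⟨v₀, hmem⟩ rfl (fun q hq => Subtype.ext (huniq _ q.2 hq))
    rw [hI, hval, e1]
    change w (p₁ v₀) * ((1 : ℕ) : ℤ) = w (p₁ v₀)
    rw [Nat.cast_one, mul_one]
  have hbc : ∀ z' : U', MoreMor.fibreIntegral ((r ⁻¹ᵁ T).ι ≫ q₂)
      ((fun τ => w (p₁ (T.ι τ))) ∘ ⇑(r ∣_ T)) z' = I (e₂ z') := by
    intro z'
    rw [hI]
    exact main1418 (T.ι ≫ p₂) (fun z => Scheme.Hom.finite_preimage_singleton _ z)
      ((r ⁻¹ᵁ T).ι ≫ q₂) (r ∣_ T) e₂ hsqT (fun τ => w (p₁ (T.ι τ))) z'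
  have hne : ∀ z' : U', I (e₂ z') = w (p₁ v₀) →
      ∃ τ' : ↥(r ⁻¹ᵁ T), ((r ⁻¹ᵁ T).ι ≫ q₂) τ' = z' := by
    intro z' hz'
    by_contra hcon
    have hz0 : MoreMor.fibreIntegral ((r ⁻¹ᵁ T).ι ≫ q₂)
        ((fun τ => w (p₁ (T.ι τ))) ∘ ⇑(r ∣_ T)) z' = 0 := by
      rw [fibreIntegral_eq]
      apply finsum_eq_zero_of_forall_eq_zero
      intro τ'
      exact (hcon ⟨τ'.1, τ'.2⟩).elim
    have h0 := hbc z'
    rw [hz0, hz'] at h0
    exact (hpos (p₁ v₀)).ne h0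
  have hcommpt : ∀ τ : P', p₂ (r τ) = e₂ (q₂ τ) := fun τ =>
    congrArg (fun m : P' ⟶ U => m τ) hsq.w
  have huniq' : ∀ τ' : P', τ' ∈ r ⁻¹ᵁ T → q₂ τ' = q₂ t → τ' = t := by
    intro τ' hτ' hq
    have h2 : r τ' = r t := by
      rw [ht]
      apply huniq _ hτ'
      rw [hcommpt, hq, ← hcommpt, ht]
    exact eq_of_PI_isPullback hsq.flip τ' t hq h2 (PI_of_point_eq p₂ ht hPI)
  have hC : IsClosed {τ : ↥(r ⁻¹ᵁ T) | (r ⁻¹ᵁ T).ι τ ∉ O''} := by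
    have hop : IsOpen {τ : ↥(r ⁻¹ᵁ T) | (r ⁻¹ᵁ T).ι τ ∈ O''} :=
      O''.2.preimage (r ⁻¹ᵁ T).ι.continuous
    exact hop.isClosed_compl
  have hCim : IsClosed (((r ⁻¹ᵁ T).ι ≫ q₂) '' {τ : ↥(r ⁻¹ᵁ T) | (r ⁻¹ᵁ T).ι τ ∉ O''}) :=
    ((r ⁻¹ᵁ T).ι ≫ q₂).isClosedMap _ hC
  refine ⟨{z' : U' | I (e₂ z') = w (p₁ v₀)} ∩
    (((r ⁻¹ᵁ T).ι ≫ q₂) '' {τ : ↥(r ⁻¹ᵁ T) | (r ⁻¹ᵁ T).ι τ ∉ O''})ᶜ, ?_, ?_, ?_⟩
  · exact IsOpen.inter ((hLC.isOpen_fiber (w (p₁ v₀))).preimage e₂.continuous)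
      hCim.isOpen_compl
  · refine ⟨?_, ?_⟩
    · change I (e₂ (q₂ t)) = w (p₁ v₀)
      rw [← hcommpt, ht]; exact hIu
    · rintro ⟨τ, hτ, hτq⟩
      have h3 : (r ⁻¹ᵁ T).ι τ = t := huniq' _ τ.2 hτq
      apply hτ
      rw [h3]; exact htO
  · rintro z' ⟨hz1, hz2⟩
    obtain ⟨τ', hτ'⟩ := hne z' hz1
    refine ⟨(r ⁻¹ᵁ T).ι τ', ?_, hτ'⟩
    by_contra hcon
    exact hz2 ⟨τ', hcon, hτ'⟩

set_option maxHeartbeats 1600000 in
theorem isOpenMap_baseChange {X Y : Scheme.{u}} (f : X ⟶ Y) [LocallyQuasiFinite f]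
    [LocallyOfFiniteType f] (w : ↑X → ℤ) (hw : MoreMor.IsWeighting f w) (hpos : ∀ x, 0 < w x)
    {X' Y' : Scheme.{u}} (h : X' ⟶ X) (g₀ : Y' ⟶ Y) (f' : X' ⟶ Y')
    (hc : IsPullback f' h g₀ f) : IsOpenMap f' := by
  intro O' hO'
  rw [isOpen_iff_forall_mem_open]
  rintro _ ⟨x', hx', rfl⟩
  have hy : g₀ (f' x') = f (h x') := congrArg (fun m : X' ⟶ Y => m x') hc.w
  obtain ⟨U, P, g, u, p₁, p₂, hg, hgu, hpb, n, lab, V, v, hSD, hfinV, hPI⟩ :=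
    core f (f (h x')) (fun _ : Unit => h x') (fun a b _ => Subsingleton.elim a b) (fun _ => rfl)
      (fun _ => Scheme.Hom.quasiFiniteAt f (h x'))
  haveI := hg
  have hcond : pullback.fst g₀ g ≫ g₀ = pullback.snd g₀ g ≫ g := pullback.condition
  have big : IsPullback (pullback.fst f' (pullback.fst g₀ g) ≫ h)
      (pullback.snd f' (pullback.fst g₀ g)) f (pullback.fst g₀ g ≫ g₀) :=
    (IsPullback.of_hasPullback f' (pullback.fst g₀ g)).paste_horiz hc.flip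
  have big' : IsPullback (pullback.fst f' (pullback.fst g₀ g) ≫ h)
      (pullback.snd f' (pullback.fst g₀ g)) f (pullback.snd g₀ g ≫ g) := by
    rw [← hcond]; exact big
  obtain ⟨r, hr1, hsq⟩ : ∃ r : pullback f' (pullback.fst g₀ g) ⟶ P,
      r ≫ p₁ = pullback.fst f' (pullback.fst g₀ g) ≫ h ∧
      IsPullback r (pullback.snd f' (pullback.fst g₀ g)) p₂ (pullback.snd g₀ g) :=
    ⟨_, hpb.lift_fst _ _ _, big'.of_right' hpb⟩
  obtain ⟨u'₀, hu1, hu2⟩ := Scheme.Pullback.exists_preimage_pullback (f := g₀) (g := g)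
    (f' x') u (hy.trans hgu.symm)
  obtain ⟨t, ht1, ht2⟩ := Scheme.Pullback.exists_preimage_pullback (f := f')
    (g := pullback.fst g₀ g) x' u'₀ hu1.symm
  have hrt1 : p₁ (r t) = h x' := by
    have h5 := congrArg (fun m : pullback f' (pullback.fst g₀ g) ⟶ X => m t) hr1
    exact h5.trans (congrArg h ht1)
  have hrt2 : p₂ (r t) = u := by
    have h5 := congrArg (fun m : pullback f' (pullback.fst g₀ g) ⟶ U => m t) hsq.w
    exact h5.trans ((congrArg (pullback.snd g₀ g) ht2).trans hu2)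
  obtain ⟨m, -, hm⟩ := hSD.cov (r t) () hrt2 hrt1
  have hrt : r t = v m := hSD.uniq m (r t) hm hrt2
  have huniqm : ∀ q : P, q ∈ V m → p₂ q = p₂ (v m) → q = v m := fun q hq hq2 =>
    hSD.uniq m q hq (hq2.trans (hSD.snd_v m))
  obtain ⟨N, hN, htN, hNlift⟩ := exists_nhd_lift f w hw hpos hpb (V m) (hfinV m) (v m)
    (hSD.mem m) huniqm (hPI m) hsq t hrt
    ((pullback.fst f' (pullback.fst g₀ g)) ⁻¹ᵁ ⟨O', hO'⟩)
    (by change pullback.fst f' (pullback.fst g₀ g) t ∈ O'; rw [ht1]; exact hx')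
  refine ⟨pullback.fst g₀ g '' N, ?_, (pullback.fst g₀ g).isOpenMap _ hN, ⟨_, htN, ?_⟩⟩
  · rintro _ ⟨z', hz', rfl⟩
    obtain ⟨τ', hτ'O, hτ'z⟩ := hNlift z' hz'
    refine ⟨pullback.fst f' (pullback.fst g₀ g) τ', hτ'O, ?_⟩
    have h5 := congrArg (fun m : pullback f' (pullback.fst g₀ g) ⟶ Y' => m τ')
      (pullback.condition (f := f') (g := pullback.fst g₀ g))
    exact h5.trans (congrArg (pullback.fst g₀ g) hτ'z)
  · exact (congrArg (pullback.fst g₀ g) ht2).trans hu1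

theorem main1420 {X Y : Scheme.{u}} (f : X ⟶ Y) [LocallyQuasiFinite f] [LocallyOfFiniteType f]
    (w : ↑X → ℤ) (hw : MoreMor.IsWeighting f w) (hpos : ∀ x, 0 < w x) :
    UniversallyOpen f :=
  ⟨fun X' Y' i₁ i₂ f' hc => isOpenMap_baseChange f w hw hpos i₁ i₂ f' hc⟩

end Groth.Agent.Lib.WeightH4
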