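import Mathlib
import Groth.Prelude
import Groth.Agent.Lib.WeightOpen_helper4

/-!
# Base change of weightings (helper4)
-/

set_option autoImplicit false
set_option linter.style.haveILetI false
set_option linter.unusedVariables false

universe u

open CategoryTheory CategoryTheory.Limits AlgebraicGeometry TopologicalSpace Opposite

namespace Groth.Agent.Lib.WeightH4

open PurInsepH4 EtNbhdFinH4 EtLocH4 IsLocalRing

theorem PI_of_isPurelyInseparable {A B : Type*} [Field A] [Field B] (f : A →+* B)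
    (h : letI := f.toAlgebra
      IsPurelyInseparable A B) : PI f := by
  letI := f.toAlgebra
  exact (isPurelyInseparable_iff_pow_mem A (ringExpChar A)).mp h

theorem PI_of_comp {A B C : Type*} [Field A] [Field B] [Field C] (φ : A →+* B)
    (ψ : B →+* C) (h : PI (ψ.comp φ)) : PI φ := by
  intro y
  obtain ⟨n, a, ha⟩ := h (ψ y)
  refine ⟨n, a, ψ.injective ?_⟩
  rw [map_pow]
  exact ha

theorem PI_residueFieldMap_of_comp {A P B : Scheme.{u}} (j : A ⟶ P) (q : P ⟶ B) (a : A)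
    (h : PI ((j ≫ q).residueFieldMap a).hom) : PI (q.residueFieldMap (j a)).hom := by
  have h1 : ((j ≫ q).residueFieldMap a).hom =
      ((j.residueFieldMap a).hom).comp (q.residueFieldMap (j a)).hom := by
    rw [Scheme.residueFieldMap_comp]; rfl
  rw [h1] at h
  exact PI_of_comp _ _ h

/-- Two opens finite over the base with the same fibre over `b₀` have the same fibres near `b₀`. -/
theorem fibres_eq_nhd {P B : Scheme.{u}} (p₂ : P ⟶ B) (T W : P.Opens)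
    (hT : IsFinite (T.ι ≫ p₂)) (hW : IsFinite (W.ι ≫ p₂)) (b₀ : B)
    (h0 : (T : Set P) ∩ p₂ ⁻¹' {b₀} = (W : Set P) ∩ p₂ ⁻¹' {b₀}) :
    ∃ N : Set B, IsOpen N ∧ b₀ ∈ N ∧
      ∀ z ∈ N, (T : Set P) ∩ p₂ ⁻¹' {z} = (W : Set P) ∩ p₂ ⁻¹' {z} := by
  have key : ∀ (A C : P.Opens) (hA : IsFinite (A.ι ≫ p₂)),
      (A : Set P) ∩ p₂ ⁻¹' {b₀} ⊆ (C : Set P) →
      ∃ N : Set B, IsOpen N ∧ b₀ ∈ N ∧ ∀ z ∈ N, (A : Set P) ∩ p₂ ⁻¹' {z} ⊆ (C : Set P) := by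
    intro A C hA hsub
    haveI := hA
    have hC : IsClosed {τ : ↥A | A.ι τ ∉ C} := by
      have hop : IsOpen {τ : ↥A | A.ι τ ∈ C} := C.2.preimage A.ι.continuous
      exact hop.isClosed_compl
    have hCim : IsClosed ((A.ι ≫ p₂) '' {τ : ↥A | A.ι τ ∉ C}) :=
      (A.ι ≫ p₂).isClosedMap _ hC
    refine ⟨((A.ι ≫ p₂) '' {τ : ↥A | A.ι τ ∉ C})ᶜ, hCim.isOpen_compl, ?_, ?_⟩
    · rintro ⟨τ, hτ, hτq⟩
      exact hτ (hsub ⟨τ.2, hτq⟩)
    · intro z hz p hp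
      by_contra hcon
      exact hz ⟨⟨p, hp.1⟩, hcon, hp.2⟩
  obtain ⟨N₁, hN₁o, hN₁b, hN₁⟩ := key T W hT (by rw [h0]; exact Set.inter_subset_left)
  obtain ⟨N₂, hN₂o, hN₂b, hN₂⟩ := key W T hW (by rw [← h0]; exact Set.inter_subset_left)
  refine ⟨N₁ ∩ N₂, hN₁o.inter hN₂o, ⟨hN₁b, hN₂b⟩, ?_⟩
  intro z hz
  apply Set.Subset.antisymm
  · exact fun p hp => ⟨hN₁ z hz.1 hp, hp.2⟩
  · exact fun p hp => ⟨hN₂ z hz.2 hp, hp.2⟩

/-- Base change of the fibre integral of an open finite over the base. -/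
theorem fibreIntegral_preimage {P P' B B' : Scheme.{u}} {r : P' ⟶ P} {q₂ : P' ⟶ B'}
    {p₂ : P ⟶ B} {d : B' ⟶ B} (hsq : IsPullback r q₂ p₂ d) (T : P.Opens)
    (hfinT : IsFinite (T.ι ≫ p₂)) (G : P → ℤ) :
    IsFinite ((r ⁻¹ᵁ T).ι ≫ q₂) ∧ ∀ z : B',
      MoreMor.fibreIntegral ((r ⁻¹ᵁ T).ι ≫ q₂) (fun t => G (r ((r ⁻¹ᵁ T).ι t))) z =
        MoreMor.fibreIntegral (T.ι ≫ p₂) (fun t => G (T.ι t)) (d z) := by
  haveI := hfinT
  have hsqT : IsPullback (r ∣_ T) ((r ⁻¹ᵁ T).ι ≫ q₂) (T.ι ≫ p₂) d :=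
    (isPullback_morphismRestrict r T).paste_vert hsq
  refine ⟨MorphismProperty.of_isPullback (P := @IsFinite) hsqT hfinT, fun z => ?_⟩
  have h1 := main1418 (T.ι ≫ p₂) (fun z => Scheme.Hom.finite_preimage_singleton _ z)
      ((r ⁻¹ᵁ T).ι ≫ q₂) (r ∣_ T) d hsqT (fun τ => G (T.ι τ)) z
  have h2 : ((fun τ => G (T.ι τ)) ∘ ⇑(r ∣_ T)) = (fun t => G (r ((r ⁻¹ᵁ T).ι t))) := by
    funext t
    have h3 : T.ι ((r ∣_ T) t) = r ((r ⁻¹ᵁ T).ι t) :=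
      congrArg (fun m : (r ⁻¹ᵁ T).toScheme ⟶ P => m t) (morphismRestrict_ι r T)
    exact congrArg G h3
  rw [← h2]; exact h1

set_option maxHeartbeats 1600000 in
/-- Key proposition: an open of a base change of `f`, finite over the base, with a unique point
over `b₀` having purely inseparable residue field extension, has locally constant integral near
`b₀`. -/
theorem const_nhd_of_unique {X Y : Scheme.{u}} (f : X ⟶ Y) [LocallyQuasiFinite f]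
    [LocallyOfFiniteType f] (w : ↑X → ℤ) (hw : MoreMor.IsWeighting f w)
    {P B : Scheme.{u}} {p₁ : P ⟶ X} {p₂ : P ⟶ B} {b : B ⟶ Y} (hpb : IsPullback p₁ p₂ f b)
    (T : P.Opens) (hfinT : IsFinite (T.ι ≫ p₂)) (t₀ : P) (hmem : t₀ ∈ T)
    (huniq : ∀ q : P, q ∈ T → p₂ q = p₂ t₀ → q = t₀)
    (hPI : PI (p₂.residueFieldMap t₀).hom) :
    ∃ N : Set B, IsOpen N ∧ p₂ t₀ ∈ N ∧ ∀ z ∈ N,
      MoreMor.fibreIntegral (T.ι ≫ p₂) (fun t => w (p₁ (T.ι t))) z =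
        MoreMor.fibreIntegral (T.ι ≫ p₂) (fun t => w (p₁ (T.ι t))) (p₂ t₀) := by
  have hcomm0 : f (p₁ t₀) = b (p₂ t₀) := congrArg (fun m : P ⟶ Y => m t₀) hpb.w
  obtain ⟨U, Pc, g, u, c₁, c₂, hg, hgu, hpbc, n, lab, V, v, hSD, hVfin, hVPI⟩ :=
    core f (f (p₁ t₀)) (fun _ : Unit => p₁ t₀) (fun _ _ _ => Subsingleton.elim _ _)
      (fun _ => rfl) (fun _ => Scheme.Hom.quasiFiniteAt f (p₁ t₀))
  haveI := hg
  obtain ⟨Bh, d₁, d₂, hBh⟩ : ∃ (Bh : Scheme.{u}) (d₁ : Bh ⟶ B) (d₂ : Bh ⟶ U),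
      IsPullback d₁ d₂ b g := ⟨_, _, _, IsPullback.of_hasPullback b g⟩
  haveI hd₁ : Etale d₁ := MorphismProperty.of_isPullback (P := @Etale) hBh.flip hg
  obtain ⟨bh, hbh1, hbh2⟩ := Scheme.exists_preimage_of_isPullback hBh (p₂ t₀) u
    (hcomm0.symm.trans hgu.symm)
  have hbh1' : d₁ bh = p₂ t₀ := hbh1
  have hbh2' : d₂ bh = u := hbh2
  obtain ⟨Ph, r₁, r₂, hPh⟩ : ∃ (Ph : Scheme.{u}) (r₁ : Ph ⟶ P) (r₂ : Ph ⟶ Bh),
      IsPullback r₁ r₂ p₂ d₁ := ⟨_, _, _, IsPullback.of_hasPullback p₂ d₁⟩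
  have big : IsPullback (r₁ ≫ p₁) r₂ f (d₁ ≫ b) := hPh.paste_horiz hpb
  have big' : IsPullback (r₁ ≫ p₁) r₂ f (d₂ ≫ g) := by rw [← hBh.w]; exact big
  obtain ⟨ρ, hρ1, hρsq⟩ : ∃ ρ : Ph ⟶ Pc, ρ ≫ c₁ = r₁ ≫ p₁ ∧ IsPullback ρ r₂ c₂ d₂ :=
    ⟨_, hpbc.lift_fst _ _ _, big'.of_right' hpbc⟩
  obtain ⟨th, hth1, hth2⟩ := Scheme.exists_preimage_of_isPullback hPh t₀ bh hbh1'.symm
  have hth1' : r₁ th = t₀ := hth1
  have hth2' : r₂ th = bh := hth2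
  have hc1 : ∀ q : Ph, p₂ (r₁ q) = d₁ (r₂ q) := fun q =>
    congrArg (fun m : Ph ⟶ B => m q) hPh.w
  have hc2 : ∀ q : Ph, c₂ (ρ q) = d₂ (r₂ q) := fun q =>
    congrArg (fun m : Ph ⟶ U => m q) hρsq.w
  have hc3 : ∀ q : Ph, c₁ (ρ q) = p₁ (r₁ q) := fun q =>
    congrArg (fun m : Ph ⟶ X => m q) hρ1
  obtain ⟨hfinTh, hIT⟩ := fibreIntegral_preimage hPh T hfinT (fun p => w (p₁ p))
  have hρu : c₂ (ρ th) = u := by rw [hc2, hth2', hbh2']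
  have hρx : c₁ (ρ th) = p₁ t₀ := by rw [hc3, hth1']
  obtain ⟨m, -, hm⟩ := hSD.cov (ρ th) () hρu hρx
  have hρth : ρ th = v m := hSD.uniq m (ρ th) hm hρu
  obtain ⟨hfinW, hIW⟩ := fibreIntegral_preimage hρsq (V m) (hVfin m) (fun p => w (c₁ p))
  have hthT : th ∈ r₁ ⁻¹ᵁ T := by
    change r₁ th ∈ T
    rw [hth1']; exact hmem
  have hthW : th ∈ ρ ⁻¹ᵁ V m := hm
  have hTfib : ∀ q : Ph, q ∈ r₁ ⁻¹ᵁ T → r₂ q = bh → q = th := by
    intro q hq hq2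
    have h2 : r₁ q = r₁ th := by
      rw [hth1']
      apply huniq _ hq
      rw [hc1, hq2, hbh1']
    exact eq_of_PI_isPullback hPh.flip q th (hq2.trans hth2'.symm) h2
      (PI_of_point_eq p₂ hth1' hPI)
  have hWfib : ∀ q : Ph, q ∈ ρ ⁻¹ᵁ V m → r₂ q = bh → q = th := by
    intro q hq hq2
    have h2 : ρ q = ρ th := by
      rw [hρth]
      apply hSD.uniq m _ hq
      rw [hc2, hq2, hbh2']
    exact eq_of_PI_isPullback hρsq.flip q th (hq2.trans hth2'.symm) h2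
      (PI_of_point_eq c₂ hρth (hVPI m))
  have h0 : ((r₁ ⁻¹ᵁ T : Ph.Opens) : Set Ph) ∩ r₂ ⁻¹' {bh} =
      ((ρ ⁻¹ᵁ V m : Ph.Opens) : Set Ph) ∩ r₂ ⁻¹' {bh} := by
    ext q
    constructor
    · rintro ⟨hq1, hq2⟩
      have h5 := hTfib q hq1 hq2
      rw [h5]
      exact ⟨hthW, hth2'⟩
    · rintro ⟨hq1, hq2⟩
      have h5 := hWfib q hq1 hq2
      rw [h5]
      exact ⟨hthT, hth2'⟩
  obtain ⟨N₁, hN₁o, hN₁b, hN₁⟩ :=
    fibres_eq_nhd r₂ (r₁ ⁻¹ᵁ T) (ρ ⁻¹ᵁ V m) hfinTh hfinW bh h0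
  obtain ⟨IV, hIV⟩ : ∃ IV : U → ℤ, IV =
      MoreMor.fibreIntegral ((V m).ι ≫ c₂) (fun t => w (c₁ ((V m).ι t))) := ⟨_, rfl⟩
  have hLC : IsLocallyConstant IV := by
    rw [hIV]; exact isWeighting_isPullback f w hw hpbc (V m) (hVfin m)
  have hfun : (fun t : (ρ ⁻¹ᵁ V m).toScheme => w (c₁ (ρ ((ρ ⁻¹ᵁ V m).ι t)))) =
      (fun t : (ρ ⁻¹ᵁ V m).toScheme => w (p₁ (r₁ ((ρ ⁻¹ᵁ V m).ι t)))) := by
    funext t
    rw [hc3]
  have hEq : ∀ z ∈ N₁,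
      MoreMor.fibreIntegral (T.ι ≫ p₂) (fun t => w (p₁ (T.ι t))) (d₁ z) = IV (d₂ z) := by
    intro z hz
    have e1 := fibreIntegral_opens r₂ (r₁ ⁻¹ᵁ T) (fun q => w (p₁ (r₁ q))) z
    have e2 := fibreIntegral_opens r₂ (ρ ⁻¹ᵁ V m) (fun q => w (p₁ (r₁ q))) z
    rw [hN₁ z hz] at e1
    have e3 : MoreMor.fibreIntegral ((ρ ⁻¹ᵁ V m).ι ≫ r₂)
        (fun t => w (c₁ (ρ ((ρ ⁻¹ᵁ V m).ι t)))) z =
        MoreMor.fibreIntegral ((ρ ⁻¹ᵁ V m).ι ≫ r₂)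
        (fun t => w (p₁ (r₁ ((ρ ⁻¹ᵁ V m).ι t)))) z :=
      congrArg (fun F => MoreMor.fibreIntegral ((ρ ⁻¹ᵁ V m).ι ≫ r₂) F z) hfun
    have e4 : MoreMor.fibreIntegral ((ρ ⁻¹ᵁ V m).ι ≫ r₂)
        (fun t => w (c₁ (ρ ((ρ ⁻¹ᵁ V m).ι t)))) z = IV (d₂ z) := by
      rw [hIV]; exact hIW z
    exact (hIT z).symm.trans (e1.trans (e2.symm.trans (e3.symm.trans e4)))
  refine ⟨d₁ '' (N₁ ∩ d₂ ⁻¹' {z' | IV z' = IV u}), ?_, ?_, ?_⟩
  · exact d₁.isOpenMap _ (hN₁o.inter ((hLC.isOpen_fiber (IV u)).preimage d₂.continuous))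
  · refine ⟨bh, ⟨hN₁b, ?_⟩, hbh1'⟩
    change IV (d₂ bh) = IV u
    rw [hbh2']
  · rintro _ ⟨z, ⟨hz1, hz2⟩, rfl⟩
    have hz2' : IV (d₂ z) = IV u := hz2
    have hb1 := hEq bh hN₁b
    rw [hbh1', hbh2'] at hb1
    rw [hEq z hz1, hz2', hb1]

set_option maxHeartbeats 1600000 in
/-- Open immersion form of `const_nhd_of_unique`. -/
theorem const_nhd_of_unique' {X Y : Scheme.{u}} (f : X ⟶ Y) [LocallyQuasiFinite f]
    [LocallyOfFiniteType f] (w : ↑X → ℤ) (hw : MoreMor.IsWeighting f w)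
    {P B : Scheme.{u}} {p₁ : P ⟶ X} {p₂ : P ⟶ B} {b : B ⟶ Y} (hpb : IsPullback p₁ p₂ f b)
    {T' : Scheme.{u}} (j : T' ⟶ P) [IsOpenImmersion j] (hfin : IsFinite (j ≫ p₂)) (t₀ : T')
    (huniq : ∀ q : T', p₂ (j q) = p₂ (j t₀) → q = t₀)
    (hPI : PI (p₂.residueFieldMap (j t₀)).hom) :
    ∃ N : Set B, IsOpen N ∧ p₂ (j t₀) ∈ N ∧ ∀ z ∈ N,
      MoreMor.fibreIntegral (j ≫ p₂) (fun t => w (p₁ (j t))) z =
        MoreMor.fibreIntegral (j ≫ p₂) (fun t => w (p₁ (j t))) (p₂ (j t₀)) := by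
  obtain ⟨T, hT⟩ : ∃ T : P.Opens, T = j.opensRange := ⟨_, rfl⟩
  obtain ⟨ε, hεiso, hεj⟩ : ∃ ε : T' ⟶ T.toScheme, IsIso ε ∧ ε ≫ T.ι = j := by
    subst hT
    exact ⟨j.isoOpensRange.hom, inferInstance, Scheme.Hom.isoOpensRange_hom_ι j⟩
  haveI := hεiso
  have hje : j ≫ p₂ = ε ≫ T.ι ≫ p₂ := by rw [← Category.assoc, hεj]
  have hfinT : IsFinite (T.ι ≫ p₂) :=
    (MorphismProperty.cancel_left_of_respectsIso @IsFinite ε (T.ι ≫ p₂)).mp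
      (by rw [← hje]; exact hfin)
  have hpt : ∀ a : T', T.ι (ε a) = j a := fun a => congrArg (fun m : T' ⟶ P => m a) hεj
  have hmem : j t₀ ∈ T := by rw [hT]; exact ⟨t₀, rfl⟩
  have huniqT : ∀ q : P, q ∈ T → p₂ q = p₂ (j t₀) → q = j t₀ := by
    intro q hq hq2
    rw [hT] at hq
    obtain ⟨q', rfl⟩ := hq
    rw [huniq q' hq2]
  obtain ⟨N, hNo, hNb, hN⟩ := const_nhd_of_unique f w hw hpb T hfinT (j t₀) hmem huniqT hPI
  have hint : ∀ z, MoreMor.fibreIntegral (j ≫ p₂) (fun t => w (p₁ (j t))) z =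
      MoreMor.fibreIntegral (T.ι ≫ p₂) (fun t => w (p₁ (T.ι t))) z := by
    intro z
    rw [hje]
    exact WeightRestrictH4.fibreIntegral_comp_iso ε (T.ι ≫ p₂) (fun t => w (p₁ (T.ι t)))
      (fun t => w (p₁ (j t))) (fun a => congrArg (fun p => w (p₁ p)) (hpt a).symm) z
  refine ⟨N, hNo, hNb, fun z hz => ?_⟩
  rw [hint, hint]
  exact hN z hz

set_option maxHeartbeats 3200000 in
/-- The weighting property for arbitrary (not necessarily étale) base change. -/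
theorem isLocallyConstant_of_isPullback {X Y : Scheme.{u}} (f : X ⟶ Y) [LocallyQuasiFinite f]
    [LocallyOfFiniteType f] (w : ↑X → ℤ) (hw : MoreMor.IsWeighting f w)
    {P B : Scheme.{u}} {p₁ : P ⟶ X} {p₂ : P ⟶ B} {b : B ⟶ Y} (hpb : IsPullback p₁ p₂ f b)
    (T : P.Opens) (hfinT : IsFinite (T.ι ≫ p₂)) :
    IsLocallyConstant (MoreMor.fibreIntegral (T.ι ≫ p₂) (fun t => w (p₁ (T.ι t)))) := by
  rw [IsLocallyConstant.iff_exists_open]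
  intro b₀
  obtain ⟨π, hπ⟩ : ∃ π : T.toScheme ⟶ B, π = T.ι ≫ p₂ := ⟨_, rfl⟩
  obtain ⟨G, hG⟩ : ∃ G : T.toScheme → ℤ, G = fun t => w (p₁ (T.ι t)) := ⟨_, rfl⟩
  rw [← hπ, ← hG]
  haveI hπfin : IsFinite π := by rw [hπ]; exact hfinT
  have hfib : ∀ z : B, (π ⁻¹' {z}).Finite := fun z => Scheme.Hom.finite_preimage_singleton π z
  obtain ⟨n, t, htinj, htmem, htsurj⟩ := exists_enum (π ⁻¹' {b₀}) (hfib b₀)
  obtain ⟨B₁, e, b₁, he, heb, J, hJ, V, v, hclopen, hdisj, hV, hcov⟩ :=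
    main9778 π b₀ t htinj (fun i => htmem i) (fun i => Scheme.Hom.quasiFiniteAt π (t i))
  haveI := he
  haveI := hJ
  haveI hσ₂fin : IsFinite (pullback.snd π e) :=
    MorphismProperty.pullback_snd (P := @IsFinite) π e hπfin
  have hfib' : ∀ z : B₁, ((pullback.snd π e) ⁻¹' {z}).Finite := fun z =>
    Scheme.Hom.finite_preimage_singleton (pullback.snd π e) z
  have hcondpt : ∀ q : ↑(pullback π e),
      (pullback.fst π e ≫ π) q = (pullback.snd π e ≫ e) q := fun q =>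
    congrArg (fun m : pullback π e ⟶ B => m q) pullback.condition
  have hbc : ∀ z : B₁, MoreMor.fibreIntegral (pullback.snd π e) (G ∘ ⇑(pullback.fst π e)) z =
      MoreMor.fibreIntegral π G (e z) := fun z =>
    main1418 π hfib (pullback.snd π e) (pullback.fst π e) e (IsPullback.of_hasPullback π e) G z
  obtain ⟨C, hCdef⟩ : ∃ C : Set ↑(pullback π e), C = (⋃ k : (Σ i, J i),
      ((V k.1 k.2 : (pullback π e).Opens) : Set ↑(pullback π e)))ᶜ := ⟨_, rfl⟩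
  have hCcl : IsClosed C := by
    rw [hCdef]
    exact (isOpen_iUnion (fun k : (Σ i, J i) => (V k.1 k.2).isOpen)).isClosed_compl
  have hCim : IsClosed ((pullback.snd π e) '' C) := (pullback.snd π e).isClosedMap _ hCcl
  have hb₁C : b₁ ∉ (pullback.snd π e) '' C := by
    rintro ⟨q, hqC, hq⟩
    have h1 : π (pullback.fst π e q) = b₀ := by
      have h2 : π (pullback.fst π e q) = e (pullback.snd π e q) := hcondpt q
      rw [h2, hq, heb]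
    obtain ⟨i, hi⟩ := htsurj (pullback.fst π e q) h1
    obtain ⟨j, hj⟩ := hcov q i hq hi.symm
    rw [hCdef] at hqC
    exact hqC (Set.mem_iUnion.mpr ⟨⟨i, j⟩, hj⟩)
  have hcover : ∀ z, z ∉ (pullback.snd π e) '' C → (pullback.snd π e) ⁻¹' {z} ⊆
      ⋃ k : (Σ i, J i), (((V k.1 k.2 : (pullback π e).Opens) : Set ↑(pullback π e)) ∩
        (pullback.snd π e) ⁻¹' {z}) := by
    intro z hz q hq
    by_contra hcon
    apply hz
    refine ⟨q, ?_, hq⟩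
    rw [hCdef]
    intro hqU
    obtain ⟨k, hk⟩ := Set.mem_iUnion.mp hqU
    exact hcon (Set.mem_iUnion.mpr ⟨k, hk, hq⟩)
  obtain ⟨Φ, hΦ⟩ : ∃ Φ : ↑(pullback π e) → ℤ, Φ = fun p =>
      (G ∘ ⇑(pullback.fst π e)) p * (sepDeg (pullback.snd π e) p : ℤ) := ⟨_, rfl⟩
  obtain ⟨I, hI⟩ : ∃ I : (Σ i, J i) → B₁ → ℤ, I = fun k =>
      MoreMor.fibreIntegral ((V k.1 k.2).ι ≫ pullback.snd π e)
        (fun t => (G ∘ ⇑(pullback.fst π e)) ((V k.1 k.2).ι t)) := ⟨_, rfl⟩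
  have hIeq : ∀ k z, I k z = ∑ᶠ p ∈ (((V k.1 k.2 : (pullback π e).Opens) :
      Set ↑(pullback π e)) ∩ (pullback.snd π e) ⁻¹' {z}), Φ p := by
    intro k z
    rw [hI, hΦ]
    exact fibreIntegral_opens (pullback.snd π e) (V k.1 k.2) (G ∘ ⇑(pullback.fst π e)) z
  have hpw : ∀ z : B₁, Pairwise (Function.onFun Disjoint (fun k : (Σ i, J i) =>
      (((V k.1 k.2 : (pullback π e).Opens) : Set ↑(pullback π e)) ∩
        (pullback.snd π e) ⁻¹' {z}))) := by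
    intro z k k' hne
    refine Set.disjoint_left.mpr (fun p hp hp' => hne ?_)
    obtain ⟨h1, h2⟩ := hdisj k.1 k.2 k'.1 k'.2 ⟨p, hp.1, hp'.1⟩
    exact Sigma.ext h1 h2
  have hsum : ∀ z, ∑ᶠ k, I k z = ∑ᶠ p ∈ ⋃ k : (Σ i, J i),
      (((V k.1 k.2 : (pullback π e).Opens) : Set ↑(pullback π e)) ∩
        (pullback.snd π e) ⁻¹' {z}), Φ p := by
    intro z
    rw [finsum_mem_iUnion (hpw z) (fun k => (hfib' z).subset Set.inter_subset_right)]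
    exact finsum_congr (fun k => hIeq k z)
  have hint : ∀ z, z ∉ (pullback.snd π e) '' C →
      MoreMor.fibreIntegral (pullback.snd π e) (G ∘ ⇑(pullback.fst π e)) z = ∑ᶠ k, I k z := by
    intro z hz
    rw [hsum z, fibreIntegral_eq_mem, hΦ]
    refine finsum_mem_congr ?_ (fun _ _ => rfl)
    exact Set.Subset.antisymm (hcover z hz)
      (Set.iUnion_subset (fun k => Set.inter_subset_right))
  -- the pieces
  obtain ⟨P₁, q₁, q₂, hP₁⟩ : ∃ (P₁ : Scheme.{u}) (q₁ : P₁ ⟶ P) (q₂ : P₁ ⟶ B₁),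
      IsPullback q₁ q₂ p₂ e := ⟨_, _, _, IsPullback.of_hasPullback p₂ e⟩
  have big₁ : IsPullback (q₁ ≫ p₁) q₂ f (e ≫ b) := hP₁.paste_horiz hpb
  have hcond₁ : (pullback.fst π e ≫ T.ι) ≫ p₂ = pullback.snd π e ≫ e := by
    rw [Category.assoc, ← hπ]; exact pullback.condition
  obtain ⟨j₁, hj₁1, hj₁2⟩ : ∃ j₁ : pullback π e ⟶ P₁, j₁ ≫ q₁ = pullback.fst π e ≫ T.ι ∧
      j₁ ≫ q₂ = pullback.snd π e :=
    ⟨hP₁.lift _ _ hcond₁, hP₁.lift_fst _ _ _, hP₁.lift_snd _ _ _⟩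
  have hL : IsPullback j₁ (pullback.fst π e) q₁ T.ι := by
    refine IsPullback.of_right ?_ hj₁1 hP₁.flip
    rw [hj₁2, ← hπ]
    exact (IsPullback.of_hasPullback π e).flip
  haveI hj₁oi : IsOpenImmersion j₁ :=
    MorphismProperty.of_isPullback (P := @IsOpenImmersion) hL.flip inferInstance
  have hj₁1pt : ∀ s : ↑(pullback π e), q₁ (j₁ s) = T.ι (pullback.fst π e s) := fun s =>
    congrArg (fun m : pullback π e ⟶ P => m s) hj₁1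
  have hj₁2pt : ∀ s : ↑(pullback π e), q₂ (j₁ s) = pullback.snd π e s := fun s =>
    congrArg (fun m : pullback π e ⟶ B₁ => m s) hj₁2
  have hpiece : ∀ k : (Σ i, J i), ∃ N : Set B₁, IsOpen N ∧ b₁ ∈ N ∧
      ∀ z ∈ N, I k z = I k b₁ := by
    intro k
    obtain ⟨hvmem, hVfin, hvb, hVuniq, hVPI, -⟩ := hV k.1 k.2
    have hjk2 : ((V k.1 k.2).ι ≫ j₁) ≫ q₂ = (V k.1 k.2).ι ≫ pullback.snd π e := by
      rw [Category.assoc, hj₁2]
    have hfink : IsFinite (((V k.1 k.2).ι ≫ j₁) ≫ q₂) := by rw [hjk2]; exact hVfin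
    have hPI1 : PI ((pullback.snd π e).residueFieldMap (v k.1 k.2)).hom :=
      PI_of_isPurelyInseparable _ hVPI
    have hPI2 : PI (q₂.residueFieldMap (j₁ (v k.1 k.2))).hom := by
      have h5 : PI ((j₁ ≫ q₂).residueFieldMap (v k.1 k.2)).hom := by rw [hj₁2]; exact hPI1
      exact PI_residueFieldMap_of_comp j₁ q₂ _ h5
    have huq : ∀ q : ↥(V k.1 k.2), q₂ (((V k.1 k.2).ι ≫ j₁) q) =
        q₂ (((V k.1 k.2).ι ≫ j₁) ⟨v k.1 k.2, hvmem⟩) → q = ⟨v k.1 k.2, hvmem⟩ := by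
      intro q hq
      have h6 : pullback.snd π e q.1 = b₁ := by
        have h7 : q₂ (j₁ q.1) = q₂ (j₁ (v k.1 k.2)) := hq
        rw [hj₁2pt, hj₁2pt, hvb] at h7
        exact h7
      exact Subtype.ext (hVuniq q.1 q.2 h6)
    obtain ⟨N, hNo, hNb, hN⟩ := const_nhd_of_unique' f w hw big₁ ((V k.1 k.2).ι ≫ j₁) hfink
      ⟨v k.1 k.2, hvmem⟩ huq hPI2
    have hF : (fun t : (V k.1 k.2).toScheme => w ((q₁ ≫ p₁) (((V k.1 k.2).ι ≫ j₁) t))) =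
        (fun t : (V k.1 k.2).toScheme => (G ∘ ⇑(pullback.fst π e)) ((V k.1 k.2).ι t)) := by
      funext t
      have h8 : q₁ (j₁ ((V k.1 k.2).ι t)) = T.ι (pullback.fst π e ((V k.1 k.2).ι t)) :=
        hj₁1pt _
      rw [hG]
      exact congrArg (fun p => w (p₁ p)) h8
    have hIk : ∀ z, I k z = MoreMor.fibreIntegral (((V k.1 k.2).ι ≫ j₁) ≫ q₂)
        (fun t => w ((q₁ ≫ p₁) (((V k.1 k.2).ι ≫ j₁) t))) z := by
      intro z
      rw [hI, hjk2]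
      exact (congrArg (fun F => MoreMor.fibreIntegral ((V k.1 k.2).ι ≫ pullback.snd π e) F z)
        hF).symm
    have hb : q₂ (((V k.1 k.2).ι ≫ j₁) ⟨v k.1 k.2, hvmem⟩) = b₁ := (hj₁2pt _).trans hvb
    refine ⟨N, hNo, ?_, fun z hz => ?_⟩
    · rw [← hb]; exact hNb
    · rw [hIk z, hIk b₁, hN z hz, hb]
  choose Nk hNko hNkb hNk using hpiece
  refine ⟨e '' (((pullback.snd π e) '' C)ᶜ ∩ ⋂ k, Nk k), ?_, ?_, ?_⟩
  · exact e.isOpenMap _ (hCim.isOpen_compl.inter (isOpen_iInter_of_finite hNko))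
  · exact ⟨b₁, ⟨hb₁C, Set.mem_iInter.mpr hNkb⟩, heb⟩
  · rintro _ ⟨z, ⟨hz1, hz2⟩, rfl⟩
    rw [← heb, ← hbc z, ← hbc b₁, hint z hz1, hint b₁ hb₁C]
    exact finsum_congr (fun k => hNk k z (Set.mem_iInter.mp hz2 k))

theorem main1419 {X Y : Scheme.{u}} (f : X ⟶ Y) [LocallyQuasiFinite f] [LocallyOfFiniteType f]
    (w : ↑X → ℤ) (hw : MoreMor.IsWeighting f w)
    {X' Y' : Scheme.{u}} (f' : X' ⟶ Y') (h : X' ⟶ X) (g : Y' ⟶ Y) (hc : IsPullback h f' f g) :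
    MoreMor.IsWeighting f' (w ∘ ⇑h) := by
  intro V' g' _ U' hfin
  have big : IsPullback (pullback.fst f' g' ≫ h) (pullback.snd f' g') f (g' ≫ g) :=
    (IsPullback.of_hasPullback f' g').paste_horiz hc
  exact isLocallyConstant_of_isPullback f w hw big U' hfin

end Groth.Agent.Lib.WeightH4
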