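import Mathlib
import Groth.Prelude
import Groth.Agent.Lib.WeightSemi_helper4

set_option autoImplicit false
set_option linter.style.haveILetI false
set_option linter.unusedVariables false
universe u
open CategoryTheory CategoryTheory.Limits AlgebraicGeometry TopologicalSpace Opposite

namespace Groth.Agent.Lib.WeightH4

open PurInsepH4 EtNbhdFinH4 EtLocH4 IsLocalRing

theorem subset_of_finsum_mem_eq {α : Type*} (Φ : α → ℤ) (hΦ : ∀ a, 0 < Φ a) {s t : Set α}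
    (hst : s ⊆ t) (ht : t.Finite) (heq : ∑ᶠ a ∈ s, Φ a = ∑ᶠ a ∈ t, Φ a) : t ⊆ s := by
  intro a hat
  by_contra has
  have hs : s.Finite := ht.subset hst
  have h1 : ∑ᶠ a ∈ t, Φ a = ∑ᶠ a ∈ s, Φ a + ∑ᶠ a ∈ t \ s, Φ a := by
    rw [← finsum_mem_union Set.disjoint_sdiff_right hs (ht.subset Set.diff_subset),
      Set.union_diff_cancel hst]
  have h2 : ∑ᶠ i ∈ ({a} : Set α), Φ i ≤ ∑ᶠ i ∈ t \ s, Φ i :=
    finsum_mem_le_of_subset Φ (fun b => (hΦ b).le) (Set.singleton_subset_iff.mpr ⟨hat, has⟩)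
      (ht.subset Set.diff_subset)
  rw [finsum_mem_singleton] at h2
  have h3 := hΦ a
  linarith

theorem isFinite_restrict_of_le {P U : Scheme.{u}} (p₂ : P ⟶ U) (A : P.Opens) (N' : U.Opens)
    (hA : IsFinite (A.ι ≫ p₂)) (hle : p₂ ⁻¹ᵁ N' ≤ A) : IsFinite (p₂ ∣_ N') := by
  haveI := hA
  have h1 : IsFinite ((A.ι ≫ p₂) ∣_ N') := inferInstance
  rw [morphismRestrict_comp] at h1
  haveI : Surjective (A.ι ∣_ (p₂ ⁻¹ᵁ N')) :=
    ⟨fun q => ⟨⟨⟨q.1, hle q.2⟩, q.2⟩,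
      Subtype.ext (morphismRestrict_base_coe A.ι (p₂ ⁻¹ᵁ N') _)⟩⟩
  haveI : IsIso (A.ι ∣_ (p₂ ⁻¹ᵁ N')) :=
    (isIso_iff_isOpenImmersion_and_surjective _).mpr ⟨inferInstance, inferInstance⟩
  exact (MorphismProperty.cancel_left_of_respectsIso @IsFinite (A.ι ∣_ (p₂ ⁻¹ᵁ N'))
    (p₂ ∣_ N')).mp h1

set_option maxHeartbeats 1600000 in
theorem universallyClosed_restrict_of_etale {X Y U : Scheme.{u}} (f : X ⟶ Y) (g : U ⟶ Y)
    [Etale g] (N' : U.Opens) (W : Y.Opens) (hW : (W : Set Y) = g '' (N' : Set U))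
    (hUC : UniversallyClosed (pullback.snd f g ∣_ N')) : UniversallyClosed (f ∣_ W) := by
  have hrange : Set.range (N'.ι ≫ g) ⊆ Set.range W.ι := by
    rintro _ ⟨z, rfl⟩
    rw [Scheme.Opens.range_ι, hW]
    exact ⟨z.1, z.2, rfl⟩
  obtain ⟨e', he'⟩ : ∃ e' : N'.toScheme ⟶ W.toScheme, e' ≫ W.ι = N'.ι ≫ g :=
    ⟨IsOpenImmersion.lift W.ι (N'.ι ≫ g) hrange, IsOpenImmersion.lift_fac _ _ _⟩
  have hEt : Etale e' := by
    apply MorphismProperty.of_postcomp (W := @Etale) (W' := @IsOpenImmersion) e' W.ι inferInstance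
    rw [he']; infer_instance
  haveI := hEt
  have hsurj : Surjective e' := by
    refine ⟨fun y => ?_⟩
    have hy : (y.1 : Y) ∈ g '' (N' : Set U) := by rw [← hW]; exact y.2
    obtain ⟨z, hz, hzy⟩ := hy
    refine ⟨⟨z, hz⟩, ?_⟩
    apply W.ι.isOpenEmbedding.injective
    have h1 : (e' ≫ W.ι) ⟨z, hz⟩ = (N'.ι ≫ g) ⟨z, hz⟩ :=
      congrArg (fun m : N'.toScheme ⟶ Y => m ⟨z, hz⟩) he'
    exact h1.trans hzy
  have S2 := isPullback_morphismRestrict (pullback.snd f g) N'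
  have big : IsPullback (((pullback.snd f g) ⁻¹ᵁ N').ι ≫ pullback.fst f g)
      (pullback.snd f g ∣_ N') f (N'.ι ≫ g) :=
    S2.flip.paste_horiz (IsPullback.of_hasPullback f g)
  rw [← he'] at big
  have S3 : IsPullback (f ⁻¹ᵁ W).ι (f ∣_ W) f W.ι := (isPullback_morphismRestrict f W).flip
  have hsq := (big.of_right' S3).flip
  exact MorphismProperty.of_isPullback_of_descendsAlong (P := @UniversallyClosed)
    (Q := @Surjective ⊓ @Flat ⊓ @LocallyOfFinitePresentation) hsq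
    ⟨⟨hsurj, inferInstance⟩, inferInstance⟩ hUC

set_option maxHeartbeats 1600000 in
theorem exists_etale_nhd_isFinite {X Y : Scheme.{u}} (f : X ⟶ Y) [LocallyQuasiFinite f]
    [LocallyOfFiniteType f] [IsSeparated f] (hfin : ∀ y : Y, (f ⁻¹' {y}).Finite)
    (w : ↑X → ℤ) (hw : MoreMor.IsWeighting f w) (hpos : ∀ x, 0 < w x) (d : ℤ)
    (hmax : ∀ y : Y, MoreMor.fibreIntegral f w y ≤ d) (y : Y)
    (hy : MoreMor.fibreIntegral f w y = d) :
    ∃ (U : Scheme.{u}) (g : U ⟶ Y) (u : U), Etale g ∧ g u = y ∧ ∃ N' : U.Opens, u ∈ N' ∧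
      (∀ z ∈ N', MoreMor.fibreIntegral f w (g z) = d) ∧
      IsFinite (pullback.snd f g ∣_ N') := by
  obtain ⟨n, x, hxinj, hxmem, hxsurj⟩ := exists_enum (f ⁻¹' {y}) (hfin y)
  obtain ⟨U, g, u, hg, hgu, J, hJ, V, v, hclopen, hdisj, hV, hcov⟩ :=
    main9778 f y x hxinj (fun i => hxmem i) (fun i => Scheme.Hom.quasiFiniteAt f (x i))
  haveI := hg
  haveI := hJ
  obtain ⟨Φ, hΦ⟩ : ∃ Φ : ↑(pullback f g) → ℤ, Φ = fun p =>
      w (pullback.fst f g p) * (sepDeg (pullback.snd f g) p : ℤ) := ⟨_, rfl⟩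
  have hΦpos : ∀ p, 0 < Φ p := by
    intro p; rw [hΦ]
    exact mul_pos (hpos _) (by exact_mod_cast sepDeg_pos (pullback.snd f g) p)
  have hΦnn : ∀ p, 0 ≤ Φ p := fun p => (hΦpos p).le
  have hfib : ∀ z : U, ((pullback.snd f g) ⁻¹' {z}).Finite := fun z =>
    finite_fibre_of_isPullback f hfin (pullback.snd f g) (pullback.fst f g) g
      (IsPullback.of_hasPullback f g) z
  have hFg : ∀ z : U, MoreMor.fibreIntegral f w (g z) =
      ∑ᶠ p ∈ (pullback.snd f g) ⁻¹' {z}, Φ p := by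
    intro z
    rw [← main1418 f hfin (pullback.snd f g) (pullback.fst f g) g
      (IsPullback.of_hasPullback f g) w z, fibreIntegral_eq_mem, hΦ]
    rfl
  obtain ⟨I, hI⟩ : ∃ I : (Σ i, J i) → U → ℤ, I = fun k =>
      MoreMor.fibreIntegral ((V k.1 k.2).ι ≫ pullback.snd f g)
        (fun t => w (pullback.fst f g ((V k.1 k.2).ι t))) := ⟨_, rfl⟩
  have hILC : ∀ k, IsLocallyConstant (I k) := by
    intro k; rw [hI]; exact hw U g (V k.1 k.2) (hV k.1 k.2).2.1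
  have hIeq : ∀ k z, I k z = ∑ᶠ p ∈ (((V k.1 k.2 : (pullback f g).Opens) : Set ↑(pullback f g)) ∩
      (pullback.snd f g) ⁻¹' {z}), Φ p := by
    intro k z
    rw [hI, hΦ]
    exact fibreIntegral_opens (pullback.snd f g) (V k.1 k.2)
      (fun p => w (pullback.fst f g p)) z
  have hpw : ∀ z : U, Pairwise (Function.onFun Disjoint (fun k : (Σ i, J i) =>
      (((V k.1 k.2 : (pullback f g).Opens) : Set ↑(pullback f g)) ∩
        (pullback.snd f g) ⁻¹' {z}))) := by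
    intro z k k' hne
    refine Set.disjoint_left.mpr (fun p hp hp' => hne ?_)
    obtain ⟨h1, h2⟩ := hdisj k.1 k.2 k'.1 k'.2 ⟨p, hp.1, hp'.1⟩
    exact Sigma.ext h1 h2
  have hsum : ∀ z, ∑ᶠ k, I k z = ∑ᶠ p ∈ ⋃ k : (Σ i, J i),
      (((V k.1 k.2 : (pullback f g).Opens) : Set ↑(pullback f g)) ∩
        (pullback.snd f g) ⁻¹' {z}), Φ p := by
    intro z
    rw [finsum_mem_iUnion (hpw z) (fun k => (hfib z).subset Set.inter_subset_right)]
    exact finsum_congr (fun k => hIeq k z)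
  have hle : ∀ z, ∑ᶠ k, I k z ≤ MoreMor.fibreIntegral f w (g z) := by
    intro z
    rw [hsum, hFg]
    exact finsum_mem_le_of_subset Φ hΦnn (Set.iUnion_subset (fun k => Set.inter_subset_right))
      (hfib z)
  have heq : ∑ᶠ k, I k u = MoreMor.fibreIntegral f w (g u) := by
    rw [hsum, hFg]
    refine finsum_mem_congr ?_ (fun _ _ => rfl)
    apply Set.Subset.antisymm (Set.iUnion_subset (fun k => Set.inter_subset_right))
    intro p hp
    have hp' : pullback.snd f g p = u := hp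
    have h1 : f (pullback.fst f g p) = y := by
      have h2 : (pullback.fst f g ≫ f) p = (pullback.snd f g ≫ g) p :=
        congrArg (fun m : pullback f g ⟶ Y => m p) pullback.condition
      exact h2.trans ((congrArg g hp').trans hgu)
    obtain ⟨m, hm⟩ := hxsurj _ h1
    obtain ⟨j, hj⟩ := hcov p m hp' hm.symm
    exact Set.mem_iUnion.mpr ⟨⟨m, j⟩, hj, hp⟩
  have hN'open : IsOpen (⋂ k : (Σ i, J i), {z : U | I k z = I k u}) :=
    isOpen_iInter_of_finite (fun k => (hILC k).isOpen_fiber (I k u))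
  have hkey : ∀ z ∈ (⋂ k : (Σ i, J i), {z : U | I k z = I k u}),
      MoreMor.fibreIntegral f w (g z) = d ∧
      (pullback.snd f g) ⁻¹' {z} ⊆ ⋃ k : (Σ i, J i),
        (((V k.1 k.2 : (pullback f g).Opens) : Set ↑(pullback f g)) ∩
          (pullback.snd f g) ⁻¹' {z}) := by
    intro z hz
    have h1 : ∑ᶠ k, I k u = ∑ᶠ k, I k z :=
      finsum_congr (fun k => ((Set.mem_iInter.mp hz k : I k z = I k u)).symm)
    have h2 : ∑ᶠ k, I k z = d := by rw [← h1, heq, hgu, hy]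
    have h3 := hle z
    have h4 := hmax (g z)
    have h5 : MoreMor.fibreIntegral f w (g z) = d := le_antisymm h4 (h2 ▸ h3)
    refine ⟨h5, ?_⟩
    have h6 : ∑ᶠ p ∈ ⋃ k : (Σ i, J i),
        (((V k.1 k.2 : (pullback f g).Opens) : Set ↑(pullback f g)) ∩
          (pullback.snd f g) ⁻¹' {z}), Φ p = ∑ᶠ p ∈ (pullback.snd f g) ⁻¹' {z}, Φ p := by
      rw [← hsum z, ← hFg z, h2, h5]
    exact subset_of_finsum_mem_eq Φ hΦpos (Set.iUnion_subset (fun k => Set.inter_subset_right))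
      (hfib z) h6
  refine ⟨U, g, u, hg, hgu, ⟨_, hN'open⟩, Set.mem_iInter.mpr (fun k => rfl),
    fun z hz => (hkey z hz).1, ?_⟩
  classical
  haveI : Fintype (Σ i, J i) := Fintype.ofFinite _
  obtain ⟨hAfin, -⟩ := isFinite_finset_sup (pullback.snd f g) Finset.univ
    (fun k : (Σ i, J i) => V k.1 k.2) (fun k _ => (hclopen k.1 k.2).1)
    (fun k _ => (hV k.1 k.2).2.1)
  apply isFinite_restrict_of_le (pullback.snd f g)
    (Finset.univ.sup (fun k : (Σ i, J i) => V k.1 k.2)) _ hAfin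
  intro p hp
  obtain ⟨k, hk⟩ := Set.mem_iUnion.mp ((hkey _ hp).2 rfl)
  exact (Finset.le_sup (f := fun k : (Σ i, J i) => V k.1 k.2) (Finset.mem_univ k)) hk.1

set_option maxHeartbeats 1600000 in
theorem main1428 {X Y : Scheme.{u}} (f : X ⟶ Y) [LocallyQuasiFinite f] [LocallyOfFiniteType f]
    [IsSeparated f] (hfin : ∀ y : Y, (f ⁻¹' {y}).Finite)
    (w : ↑X → ℤ) (hw : MoreMor.IsWeighting f w) (hpos : ∀ x, 0 < w x) (d : ℤ)
    (hmax : ∀ y : Y, MoreMor.fibreIntegral f w y ≤ d)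
    (hatt : ∃ y : Y, MoreMor.fibreIntegral f w y = d) :
    ∃ hYd : IsOpen {y : ↑Y | MoreMor.fibreIntegral f w y = d},
      IsFinite (f ∣_ ⟨{y : ↑Y | MoreMor.fibreIntegral f w y = d}, hYd⟩) := by
  have hYd : IsOpen {y : ↑Y | MoreMor.fibreIntegral f w y = d} := by
    have h1 : {y : ↑Y | MoreMor.fibreIntegral f w y = d} =
        (MoreMor.fibreIntegral f w) ⁻¹' Set.Ioi (d - 1) := by
      ext y
      simp only [Set.mem_setOf_eq, Set.mem_preimage, Set.mem_Ioi]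
      constructor
      · intro h; rw [h]; linarith
      · intro h
        have := hmax y
        omega
    rw [h1]
    exact (main1426 f hfin w hw hpos).isOpen_preimage (d - 1)
  refine ⟨hYd, ?_⟩
  obtain ⟨Yd, hYdeq⟩ : ∃ Yd : Y.Opens,
      Yd = ⟨{y : ↑Y | MoreMor.fibreIntegral f w y = d}, hYd⟩ := ⟨_, rfl⟩
  rw [← hYdeq]
  have hmemYd : ∀ a : Y, a ∈ Yd ↔ MoreMor.fibreIntegral f w a = d := by
    intro a; rw [hYdeq]; exact Iff.rfl
  apply IsZariskiLocalAtTarget.of_forall_exists_morphismRestrict (P := @IsFinite)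
  intro y'
  obtain ⟨U, g, u, hg, hgu, N', huN', hN'd, hfinN'⟩ :=
    exists_etale_nhd_isFinite f hfin w hw hpos d hmax y'.1 ((hmemYd _).mp y'.2)
  haveI := hg
  obtain ⟨W, hW⟩ : ∃ W : Y.Opens, (W : Set Y) = g '' (N' : Set U) :=
    ⟨⟨g '' (N' : Set U), g.isOpenMap _ N'.2⟩, rfl⟩
  have hWle : W ≤ Yd := by
    intro a ha
    have ha' : a ∈ g '' (N' : Set U) := by rw [← hW]; exact ha
    obtain ⟨z, hz, rfl⟩ := ha'
    exact (hmemYd _).mpr (hN'd z hz)
  refine ⟨Yd.ι ⁻¹ᵁ W, ?_, ?_⟩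
  · have h7 : (y'.1 : Y) ∈ g '' (N' : Set U) := ⟨u, huN', hgu⟩
    rw [← hW] at h7
    exact h7
  · rw [MorphismProperty.arrow_mk_iso_iff @IsFinite (morphismRestrictRestrict f Yd (Yd.ι ⁻¹ᵁ W))]
    have hEq : Yd.ι ''ᵁ (Yd.ι ⁻¹ᵁ W) = W := by
      rw [Scheme.Hom.image_preimage_eq_opensRange_inf, Scheme.Opens.opensRange_ι]
      exact inf_eq_right.mpr hWle
    rw [hEq]
    haveI : IsFinite (pullback.snd f g ∣_ N') := hfinN'
    haveI : UniversallyClosed (f ∣_ W) :=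
      universallyClosed_restrict_of_etale f g N' W hW inferInstance
    haveI : IsProper (f ∣_ W) := {}
    exact IsFinite.of_isProper_of_locallyQuasiFinite _

end Groth.Agent.Lib.WeightH4
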