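import Mathlib
import Groth.Prelude
import Groth.Agent.Lib.LocDeg2_helper4
import Groth.Agent.Lib.WeightMax_helper4
import Groth.Agent.Lib.WeightBC_helper4

/-!
# The canonical weighting computes the rank of finite base changes (helper4)

`wCan f x = e(x) · [κ(x):κ(f x)]_i`.  For a separated flat locally quasi-finite morphism `f`
locally of finite presentation with finite fibres and a base change `π'` of `f` along `g` which
is finite, `finrank π' t = ∫_f wCan (g t)`.
-/

set_option autoImplicit false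
set_option linter.style.haveILetI false
set_option linter.unusedVariables false
universe u
open CategoryTheory CategoryTheory.Limits AlgebraicGeometry TopologicalSpace Opposite Topology

namespace Groth.Agent.Lib.LocDegH4

open IsLocalRing Groth.Agent.Lib.WeightH4 PurInsepH4 EtNbhdFinH4 EtLocH4

/-- The canonical weight `e(x) · [κ(x):κ(f x)]_i`. -/
noncomputable def wCan {X Y : Scheme.{u}} (f : X ⟶ Y) (x : X) : ℤ :=
  ((eIdx f x).toNat : ℤ) * (insepDeg f x : ℤ)

theorem wCan_pos {X Y : Scheme.{u}} (f : X ⟶ Y) [LocallyQuasiFinite f] (x : X) :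
    0 < wCan f x :=
  mul_pos (Int.natCast_pos.mpr (eIdx_toNat_pos f x)) (Int.natCast_pos.mpr (insepDeg_pos f x))

theorem isWeighting_wCan {X Y : Scheme.{u}} (f : X ⟶ Y) [LocallyQuasiFinite f] [Flat f]
    [LocallyOfFinitePresentation f] : MoreMor.IsWeighting f (wCan f) := by
  have h := main1421 f
  exact h.1

theorem wCan_square {X Y U V : Scheme.{u}} (q : U ⟶ X) (f : X ⟶ Y) (π : U ⟶ V) (g : V ⟶ Y)
    (hsq : q ≫ f = π ≫ g) [Etale q] [Etale g] [LocallyQuasiFinite f] (u : U) :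
    wCan f (q u) = wCan π u := by
  obtain ⟨h1, h2⟩ := square_invariance q f π g hsq u
  unfold wCan
  rw [h1, h2]

theorem fibreIntegral_wCan {U V : Scheme.{u}} (π : U ⟶ V) [IsFinite π] [Flat π] (v : V) :
    MoreMor.fibreIntegral π (wCan π) v = ((π.finrank v : ℕ) : ℤ) := by
  rw [fibreIntegral_eq, ← sum_eq_finrank π v]
  refine finsum_congr (fun u => ?_)
  unfold wCan
  rw [← sepDeg_mul_insepDeg, Nat.cast_mul]
  ring

theorem fibreIntegral_wCan_square {X Y U V : Scheme.{u}} (q : U ⟶ X) (f : X ⟶ Y) (π : U ⟶ V)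
    (g : V ⟶ Y) (hsq : q ≫ f = π ≫ g) [Etale q] [Etale g] [LocallyQuasiFinite f]
    [IsFinite π] [Flat π] (v : V) :
    MoreMor.fibreIntegral π (fun u => wCan f (q u)) v = ((π.finrank v : ℕ) : ℤ) := by
  rw [← fibreIntegral_wCan π v]
  exact congrArg (fun G => MoreMor.fibreIntegral π G v)
    (funext (fun u => wCan_square q f π g hsq u))

theorem fibreIntegral_opens_eq {P V : Scheme.{u}} (p₂ : P ⟶ V) (T : P.Opens) (G : P → ℤ) (z : V)
    (h : ∀ p, p₂ p = z → p ∈ T) :
    MoreMor.fibreIntegral (T.ι ≫ p₂) (fun t => G (T.ι t)) z = MoreMor.fibreIntegral p₂ G z := by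
  rw [fibreIntegral_opens, fibreIntegral_eq_mem]
  have h1 : (T : Set P) ∩ p₂ ⁻¹' {z} = p₂ ⁻¹' {z} :=
    Set.inter_eq_right.mpr (fun p hp => h p hp)
  rw [h1]

/-- The rank of a finite base change of `f` is the fibre integral of the canonical weight. -/
theorem finrank_eq_fibreIntegral {X S : Scheme.{u}} (f : X ⟶ S) [LocallyQuasiFinite f] [Flat f]
    [LocallyOfFinitePresentation f] [IsSeparated f] (hfin : ∀ s : S, (f ⁻¹' {s}).Finite)
    {X' T : Scheme.{u}} (fst' : X' ⟶ X) (π' : X' ⟶ T) (g : T ⟶ S)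
    (hc : IsPullback fst' π' f g) [IsFinite π'] (t : T) :
    ((π'.finrank t : ℕ) : ℤ) = MoreMor.fibreIntegral f (wCan f) (g t) := by
  obtain ⟨n, x, hxinj, hxmem, hxsurj⟩ := exists_enum (f ⁻¹' {g t}) (hfin (g t))
  obtain ⟨U, gU, u, hgU, hgu, J, hJ, V, v, hclopen, hdisj, hV, hcov⟩ :=
    main9778 f (g t) x hxinj (fun i => hxmem i) (fun i => Scheme.Hom.quasiFiniteAt f (x i))
  haveI := hgU
  haveI := hJ
  letI : Fintype (Σ i, J i) := Fintype.ofFinite _
  obtain ⟨W, hW⟩ : ∃ W : (pullback f gU).Opens,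
      W = Finset.univ.sup (fun k : Σ i, J i => V k.1 k.2) := ⟨_, rfl⟩
  obtain ⟨hWfin, hWcl⟩ : IsFinite (W.ι ≫ pullback.snd f gU) ∧
      IsClosed ((W : (pullback f gU).Opens) : Set ↑(pullback f gU)) := by
    rw [hW]
    exact isFinite_finset_sup (pullback.snd f gU) Finset.univ (fun k : Σ i, J i => V k.1 k.2)
      (fun k _ => (hclopen k.1 k.2).1) (fun k _ => (hV k.1 k.2).2.1)
  have hWcov : ∀ p : ↑(pullback f gU), pullback.snd f gU p = u → p ∈ W := by
    intro p hp
    have h1 : f (pullback.fst f gU p) = g t := by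
      have h2 := congrArg (fun m : pullback f gU ⟶ S => m p)
        (pullback.condition (f := f) (g := gU))
      exact h2.trans ((congrArg (fun z => gU z) hp).trans hgu)
    obtain ⟨i, hi⟩ := hxsurj _ h1
    obtain ⟨j, hj⟩ := hcov p i hp hi.symm
    rw [hW]
    exact (Finset.le_sup (f := fun k : Σ i, J i => V k.1 k.2) (Finset.mem_univ ⟨i, j⟩)) hj
  obtain ⟨P, p1, p2, hpbP, z, hz1, hz2⟩ : ∃ (P : Scheme.{u}) (p1 : P ⟶ T) (p2 : P ⟶ U),
      IsPullback p1 p2 g gU ∧ ∃ z : P, p1 z = t ∧ p2 z = u :=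
    ⟨_, _, _, IsPullback.of_hasPullback g gU,
      Scheme.Pullback.exists_preimage_pullback (f := g) (g := gU) t u hgu.symm⟩
  obtain ⟨XP, mP, πP, hpbXP⟩ : ∃ (XP : Scheme.{u}) (mP : XP ⟶ pullback f gU) (πP : XP ⟶ P),
      IsPullback mP πP (pullback.snd f gU) p2 := ⟨_, _, _, IsPullback.of_hasPullback _ _⟩
  have hcond : (mP ≫ pullback.fst f gU) ≫ f = (πP ≫ p1) ≫ g := by
    calc (mP ≫ pullback.fst f gU) ≫ f = mP ≫ (pullback.snd f gU ≫ gU) := by
          rw [Category.assoc, pullback.condition]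
      _ = (πP ≫ p2) ≫ gU := by rw [← Category.assoc, hpbXP.w]
      _ = (πP ≫ p1) ≫ g := by rw [Category.assoc, Category.assoc, hpbP.w]
  obtain ⟨l, hl1, hl2⟩ : ∃ l : XP ⟶ X', l ≫ fst' = mP ≫ pullback.fst f gU ∧
      l ≫ π' = πP ≫ p1 :=
    ⟨hc.lift _ _ hcond, hc.lift_fst _ _ _, hc.lift_snd _ _ _⟩
  have hbig : IsPullback (mP ≫ pullback.fst f gU) πP f (p2 ≫ gU) :=
    hpbXP.paste_horiz (IsPullback.of_hasPullback f gU)
  have hbig' : IsPullback (l ≫ fst') πP f (p1 ≫ g) := by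
    rw [hl1, hpbP.w]; exact hbig
  have hlpb : IsPullback l πP π' p1 := IsPullback.of_right hbig' hl2 hc
  haveI : Flat π' := MorphismProperty.of_isPullback (P := @Flat) hc inferInstance
  have e1 : π'.finrank t = πP.finrank z := by
    rw [← hz1]; exact (Scheme.Hom.finrank_of_isPullback l πP π' p1 hlpb z).symm
  haveI : IsFinite πP := MorphismProperty.of_isPullback (P := @IsFinite) hlpb inferInstance
  haveI : Flat πP := MorphismProperty.of_isPullback (P := @Flat) hlpb inferInstance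
  haveI : LocallyQuasiFinite (pullback.snd f gU) :=
    MorphismProperty.of_isPullback (P := @LocallyQuasiFinite) (IsPullback.of_hasPullback f gU)
      inferInstance
  haveI : LocallyQuasiFinite πP :=
    MorphismProperty.of_isPullback (P := @LocallyQuasiFinite) hpbXP inferInstance
  have e2 : MoreMor.fibreIntegral πP (wCan πP) z = ((πP.finrank z : ℕ) : ℤ) :=
    fibreIntegral_wCan πP z
  have hfibP : ∀ p : ↑XP, πP p = z → p ∈ mP ⁻¹ᵁ W := by
    intro p hp
    show mP p ∈ W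
    apply hWcov
    have h2 := congrArg (fun m : XP ⟶ U => m p) hpbXP.w
    exact h2.trans ((congrArg (fun y => p2 y) hp).trans hz2)
  have e3 : MoreMor.fibreIntegral ((mP ⁻¹ᵁ W).ι ≫ πP)
      (fun y => wCan πP ((mP ⁻¹ᵁ W).ι y)) z = MoreMor.fibreIntegral πP (wCan πP) z :=
    fibreIntegral_opens_eq πP (mP ⁻¹ᵁ W) (wCan πP) z hfibP
  have hpbW : IsPullback (mP ∣_ W) ((mP ⁻¹ᵁ W).ι ≫ πP) (W.ι ≫ pullback.snd f gU) p2 :=
    (isPullback_morphismRestrict mP W).paste_vert hpbXP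
  haveI : IsFinite (W.ι ≫ pullback.snd f gU) := hWfin
  haveI : Flat (W.ι ≫ pullback.snd f gU) := inferInstance
  haveI : IsFinite ((mP ⁻¹ᵁ W).ι ≫ πP) :=
    MorphismProperty.of_isPullback (P := @IsFinite) hpbW inferInstance
  haveI : Flat ((mP ⁻¹ᵁ W).ι ≫ πP) := inferInstance
  have e4 : MoreMor.fibreIntegral ((mP ⁻¹ᵁ W).ι ≫ πP)
      (fun y => wCan πP ((mP ⁻¹ᵁ W).ι y)) z =
      ((((mP ⁻¹ᵁ W).ι ≫ πP).finrank z : ℕ) : ℤ) :=
    fibreIntegral_wCan_square (mP ⁻¹ᵁ W).ι πP ((mP ⁻¹ᵁ W).ι ≫ πP) (𝟙 P)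
      (Category.comp_id _).symm z
  have e5 : ((mP ⁻¹ᵁ W).ι ≫ πP).finrank z = (W.ι ≫ pullback.snd f gU).finrank u := by
    rw [← hz2]; exact Scheme.Hom.finrank_of_isPullback _ _ _ _ hpbW z
  have hsqW : (W.ι ≫ pullback.fst f gU) ≫ f = (W.ι ≫ pullback.snd f gU) ≫ gU := by
    rw [Category.assoc, Category.assoc, pullback.condition]
  have e6 : MoreMor.fibreIntegral (W.ι ≫ pullback.snd f gU)
      (fun y => wCan f (pullback.fst f gU (W.ι y))) u =
      (((W.ι ≫ pullback.snd f gU).finrank u : ℕ) : ℤ) :=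
    fibreIntegral_wCan_square (W.ι ≫ pullback.fst f gU) f (W.ι ≫ pullback.snd f gU) gU hsqW u
  have e7 : MoreMor.fibreIntegral (W.ι ≫ pullback.snd f gU)
      (fun y => wCan f (pullback.fst f gU (W.ι y))) u =
      MoreMor.fibreIntegral (pullback.snd f gU) (fun p => wCan f (pullback.fst f gU p)) u :=
    fibreIntegral_opens_eq (pullback.snd f gU) W (fun p => wCan f (pullback.fst f gU p)) u hWcov
  have e8 : MoreMor.fibreIntegral (pullback.snd f gU) (fun p => wCan f (pullback.fst f gU p)) u =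
      MoreMor.fibreIntegral f (wCan f) (gU u) :=
    main1418 f hfin (pullback.snd f gU) (pullback.fst f gU) gU (IsPullback.of_hasPullback f gU)
      (wCan f) u
  have hfinal : ((π'.finrank t : ℕ) : ℤ) = MoreMor.fibreIntegral f (wCan f) (gU u) :=
    (congrArg (fun n : ℕ => (n : ℤ)) e1).trans (e2.symm.trans (e3.symm.trans (e4.trans
      ((congrArg (fun n : ℕ => (n : ℤ)) e5).trans (e6.symm.trans (e7.trans e8))))))
  rw [← hgu]; exact hfinal

end Groth.Agent.Lib.LocDegH4
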