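import Mathlib
import Groth.Prelude

/-!
# Uniform bounds for the number of geometric points of quasi-finite algebras (helper4)
-/

set_option autoImplicit false
set_option linter.style.haveILetI false
set_option linter.unusedVariables false

universe u

namespace Groth.Agent.Lib.GeomCountH4

/-- Dedekind: an algebra generated by `n` elements as a module has at most `n` algebra maps to a
field. -/
theorem finite_card_algHom_le {A C Ω : Type*} [CommRing A] [CommRing C] [Algebra A C] [Field Ω]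
    [Algebra A Ω] (n : ℕ) (c : Fin n → C) (hc : Submodule.span A (Set.range c) = ⊤) :
    Finite (C →ₐ[A] Ω) ∧ Nat.card (C →ₐ[A] Ω) ≤ n := by
  have hli := linearIndependent_toLinearMap A C Ω
  let ev : (C →ₗ[A] Ω) →ₗ[Ω] (Fin n → Ω) :=
    { toFun := fun ℓ i => ℓ (c i)
      map_add' := fun _ _ => rfl
      map_smul' := fun _ _ => rfl }
  have hev : LinearMap.ker ev = ⊥ := by
    rw [LinearMap.ker_eq_bot']
    intro ℓ hℓ
    apply LinearMap.ext_on_range hc
    intro i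
    have := congrFun hℓ i
    simpa [ev] using this
  have hli2 : LinearIndependent Ω (ev ∘ (AlgHom.toLinearMap : (C →ₐ[A] Ω) → C →ₗ[A] Ω)) :=
    hli.map' ev hev
  haveI : Finite (C →ₐ[A] Ω) := hli2.finite
  refine ⟨inferInstance, ?_⟩
  haveI := Fintype.ofFinite (C →ₐ[A] Ω)
  rw [Nat.card_eq_fintype_card]
  have h1 := hli2.fintype_card_le_finrank
  simpa using h1

/-- Zariski's main theorem, in the form used here. -/
theorem exists_finite_subalgebra {A B : Type u} [CommRing A] [CommRing B] [Algebra A B]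
    [Algebra.FiniteType A B] (q : Ideal B) [q.IsPrime] [Algebra.QuasiFiniteAt A q] :
    ∃ (S' : Subalgebra A B) (r : B), Module.Finite A S' ∧ r ∈ S' ∧ r ∉ q ∧
      ∀ b : B, ∃ N : ℕ, r ^ N * b ∈ S' := by
  obtain ⟨s, hs⟩ := Algebra.FiniteType.out (R := A) (A := B)
  have H : Algebra.ZariskisMainProperty A q := .of_finiteType q
  obtain ⟨r, hrq, hr, hm'⟩ := Algebra.zariskisMainProperty_iff.mp H
  choose m hm using hm'
  obtain ⟨t, ht⟩ : ∃ t : Set B, t = insert r ((fun x => r ^ m x * x) '' (s : Set B)) :=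
    ⟨_, rfl⟩
  have htfin : t.Finite := by
    rw [ht]; exact (s.finite_toSet.image _).insert r
  have htint : ∀ x ∈ t, IsIntegral A x := by
    intro a ha
    rw [ht] at ha
    rcases ha with rfl | ⟨x, hx, rfl⟩
    · exact hr
    · exact hm x
  have hrt : r ∈ Algebra.adjoin A t := Algebra.subset_adjoin (by rw [ht]; exact Set.mem_insert _ _)
  refine ⟨Algebra.adjoin A t, r,
    ⟨(Submodule.fg_top _).mpr (fg_adjoin_of_finite htfin htint)⟩, hrt, hrq, ?_⟩
  intro b
  have hb : b ∈ Algebra.adjoin A (s : Set B) := by rw [hs]; trivial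
  induction hb using Algebra.adjoin_induction with
  | mem x hx =>
    refine ⟨m x, Algebra.subset_adjoin ?_⟩
    rw [ht]
    exact Set.mem_insert_of_mem _ ⟨x, hx, rfl⟩
  | algebraMap a =>
    refine ⟨0, ?_⟩
    rw [pow_zero, one_mul]
    exact Subalgebra.algebraMap_mem _ a
  | add x y _ _ hx hy =>
    obtain ⟨N, hN⟩ := hx
    obtain ⟨M, hM⟩ := hy
    refine ⟨N + M, ?_⟩
    have e1 : r ^ (N + M) * (x + y) = r ^ M * (r ^ N * x) + r ^ N * (r ^ M * y) := by ring
    rw [e1]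
    exact add_mem (mul_mem (pow_mem hrt _) hN) (mul_mem (pow_mem hrt _) hM)
  | mul x y _ _ hx hy =>
    obtain ⟨N, hN⟩ := hx
    obtain ⟨M, hM⟩ := hy
    refine ⟨N + M, ?_⟩
    have e1 : r ^ (N + M) * (x * y) = (r ^ N * x) * (r ^ M * y) := by ring
    rw [e1]
    exact mul_mem hN hM

/-- An algebra map out of `B` which does not kill `r` is determined by its restriction to a
subalgebra `S'` such that every element of `B` is moved into `S'` by a power of `r`. -/
theorem algHom_ext_of_pow_mul_mem {A B Ω : Type*} [CommRing A] [CommRing B] [Algebra A B]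
    [Field Ω] [Algebra A Ω] (S' : Subalgebra A B) (r : B) (hr : r ∈ S')
    (hS' : ∀ b : B, ∃ N : ℕ, r ^ N * b ∈ S') (ψ ψ' : B →ₐ[A] Ω) (hψr : ψ r ≠ 0)
    (h : ψ.comp S'.val = ψ'.comp S'.val) : ψ = ψ' := by
  have hval : ∀ c : B, c ∈ S' → ψ c = ψ' c := fun c hc =>
    congrArg (fun F : S' →ₐ[A] Ω => F ⟨c, hc⟩) h
  apply AlgHom.ext
  intro b
  obtain ⟨N, hN⟩ := hS' b
  have h1 : ψ (r ^ N * b) = ψ' (r ^ N * b) := hval _ hN
  rw [map_mul, map_mul, map_pow, map_pow, ← hval r hr] at h1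
  exact mul_left_cancel₀ (pow_ne_zero N hψr) h1

set_option maxHeartbeats 1600000 in
/-- Uniform bound on the number of geometric points of the fibres of a quasi-finite algebra of
finite type. -/
theorem exists_bound_algHom {A B : Type u} [CommRing A] [CommRing B] [Algebra A B]
    [Algebra.FiniteType A B] [Algebra.QuasiFinite A B] :
    ∃ d : ℕ, ∀ (Ω : Type u) [Field Ω] [Algebra A Ω],
      Finite (B →ₐ[A] Ω) ∧ Nat.card (B →ₐ[A] Ω) ≤ d := by
  classical
  have hq : ∀ q : PrimeSpectrum B, ∃ (S' : Subalgebra A B) (r : B), Module.Finite A S' ∧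
      r ∈ S' ∧ r ∉ q.asIdeal ∧ ∀ b : B, ∃ N : ℕ, r ^ N * b ∈ S' := fun q =>
    exists_finite_subalgebra q.asIdeal
  choose S' r hfin hrS hrq hpow using hq
  have hcover : (Set.univ : Set (PrimeSpectrum B)) ⊆
      ⋃ q : PrimeSpectrum B, (PrimeSpectrum.basicOpen (r q) : Set (PrimeSpectrum B)) := by
    intro q _
    exact Set.mem_iUnion.mpr ⟨q, hrq q⟩
  obtain ⟨t, ht⟩ := isCompact_univ.elim_finite_subcover
    (fun q : PrimeSpectrum B => (PrimeSpectrum.basicOpen (r q) : Set (PrimeSpectrum B)))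
    (fun q => (PrimeSpectrum.basicOpen (r q)).isOpen) hcover
  have hgen : ∀ q : PrimeSpectrum B, ∃ (n : ℕ) (c : Fin n → S' q),
      Submodule.span A (Set.range c) = ⊤ := fun q => by
    haveI := hfin q
    exact Module.Finite.exists_fin
  choose n c hc using hgen
  refine ⟨∑ q ∈ t, n q, ?_⟩
  intro Ω _ _
  have hpiece : ∀ q : PrimeSpectrum B, Finite (S' q →ₐ[A] Ω) ∧ Nat.card (S' q →ₐ[A] Ω) ≤ n q :=
    fun q => finite_card_algHom_le (n q) (c q) (hc q)
  haveI : ∀ q : PrimeSpectrum B, Finite (S' q →ₐ[A] Ω) := fun q => (hpiece q).1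
  -- choose a member of the cover for each algebra map
  have hex : ∀ ψ : B →ₐ[A] Ω, ∃ q : PrimeSpectrum B, q ∈ t ∧ ψ (r q) ≠ 0 := by
    intro ψ
    haveI : (RingHom.ker ψ.toRingHom).IsPrime := RingHom.ker_isPrime ψ.toRingHom
    have h1 := ht (Set.mem_univ (⟨RingHom.ker ψ.toRingHom, inferInstance⟩ : PrimeSpectrum B))
    obtain ⟨q, hq1⟩ := Set.mem_iUnion.mp h1
    obtain ⟨hqt, hq2⟩ := Set.mem_iUnion.mp hq1
    refine ⟨q, hqt, ?_⟩
    intro h0
    exact hq2 ((RingHom.mem_ker).mpr h0)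
  choose Q hQt hQr using hex
  obtain ⟨Φ, hΦ⟩ : ∃ Φ : (B →ₐ[A] Ω) → (Σ q : t, (S' q.1 →ₐ[A] Ω)),
      Φ = fun ψ => ⟨⟨Q ψ, hQt ψ⟩, ψ.comp (S' (Q ψ)).val⟩ := ⟨_, rfl⟩
  have hΦinj : Function.Injective Φ := by
    intro ψ ψ' hψ
    rw [hΦ] at hψ
    have h1 : Q ψ = Q ψ' := congrArg (fun z : (Σ q : t, (S' q.1 →ₐ[A] Ω)) => z.1.1) hψ
    have h2 : ψ.comp (S' (Q ψ)).val = ψ'.comp (S' (Q ψ)).val := by
      have h3 := (Sigma.mk.inj_iff.mp hψ).2
      have gen : ∀ (q' : PrimeSpectrum B) (hq' : q' ∈ t) (e : Q ψ = q'),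
          HEq (ψ.comp (S' (Q ψ)).val) (ψ'.comp (S' q').val) →
          ψ.comp (S' (Q ψ)).val = ψ'.comp (S' (Q ψ)).val := by
        intro q' hq' e hh
        subst e
        exact eq_of_heq hh
      exact gen (Q ψ') (hQt ψ') h1 h3
    exact algHom_ext_of_pow_mul_mem (S' (Q ψ)) (r (Q ψ)) (hrS _) (hpow _) ψ ψ' (hQr ψ) h2
  haveI : Finite (Σ q : t, (S' q.1 →ₐ[A] Ω)) := inferInstance
  haveI : Finite (B →ₐ[A] Ω) := Finite.of_injective Φ hΦinj
  refine ⟨inferInstance, ?_⟩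
  calc Nat.card (B →ₐ[A] Ω) ≤ Nat.card (Σ q : t, (S' q.1 →ₐ[A] Ω)) :=
        Nat.card_le_card_of_injective Φ hΦinj
    _ = ∑ q : t, Nat.card (S' q.1 →ₐ[A] Ω) := by
        rw [Nat.card_sigma]
    _ ≤ ∑ q : t, n q.1 := Finset.sum_le_sum (fun q _ => (hpiece q.1).2)
    _ = ∑ q ∈ t, n q := Finset.sum_coe_sort t n

end Groth.Agent.Lib.GeomCountH4
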