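import Mathlib
import Groth.Prelude
import Groth.Agent.Lib.GeomCountAlg_helper4
import Groth.Agent.Lib.WeightGeom_helper4

/-!
# Counting geometric points of fibres of locally quasi-finite morphisms (helper4)
-/

set_option autoImplicit false
set_option linter.style.haveILetI false
set_option linter.unusedVariables false

universe u

open CategoryTheory CategoryTheory.Limits AlgebraicGeometry TopologicalSpace Opposite

namespace Groth.Agent.Lib.GeomCountH4

open Groth.Agent.Lib.WeightH4 IsLocalRing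

/-! ### Topology of discrete spaces -/

theorem encard_irreducibleComponents_of_discrete (α : Type*) [TopologicalSpace α]
    [DiscreteTopology α] : (irreducibleComponents α).encard = ENat.card α := by
  have h1 : irreducibleComponents α = (fun x : α => ({x} : Set α)) '' Set.univ := by
    ext s
    constructor
    · intro hs
      have hs' : Maximal IsIrreducible s := hs
      obtain ⟨x, rfl⟩ := isIrreducible_iff_singleton.mp hs'.1
      exact ⟨x, trivial, rfl⟩
    · rintro ⟨x, -, rfl⟩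
      show Maximal IsIrreducible ({x} : Set α)
      refine ⟨isIrreducible_singleton, ?_⟩
      intro s' hs' hle
      obtain ⟨x', rfl⟩ := isIrreducible_iff_singleton.mp hs'
      have h2 : x ∈ ({x'} : Set α) := Set.singleton_subset_iff.mp hle
      have h3 : x = x' := h2
      rw [h3]
  rw [h1, Set.InjOn.encard_image (Set.injOn_of_injective Set.singleton_injective),
    Set.encard_univ]

theorem card_connectedComponents_of_discrete (α : Type*) [TopologicalSpace α]
    [DiscreteTopology α] : ENat.card (ConnectedComponents α) = ENat.card α := by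
  have hbij : Function.Bijective (ConnectedComponents.mk : α → ConnectedComponents α) := by
    refine ⟨fun x x' h => ?_, ConnectedComponents.surjective_coe⟩
    have h1 : x ∈ connectedComponent x' := ConnectedComponents.coe_eq_coe'.mp h
    rw [connectedComponent_eq_singleton] at h1
    exact h1
  exact (ENat.card_congr (Equiv.ofBijective _ hbij)).symm

theorem card_connectedComponents_le (α : Type*) [TopologicalSpace α] :
    ENat.card (ConnectedComponents α) ≤ ENat.card α :=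
  ENat.card_le_card_of_injective
    (Function.injective_surjInv (ConnectedComponents.surjective_coe (α := α)))

theorem finite_ncard_biUnion_le {ι α : Type*} (t : Finset ι) (S : ι → Set α) (d : ι → ℕ)
    (h : ∀ i ∈ t, (S i).Finite ∧ (S i).ncard ≤ d i) :
    (⋃ i ∈ t, S i).Finite ∧ (⋃ i ∈ t, S i).ncard ≤ ∑ i ∈ t, d i := by
  classical
  induction t using Finset.induction_on with
  | empty => simp
  | insert a t ha ih =>
    have h1 := h a (Finset.mem_insert_self a t)
    have h2 := ih (fun i hi => h i (Finset.mem_insert_of_mem hi))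
    rw [Finset.set_biUnion_insert, Finset.sum_insert ha]
    exact ⟨h1.1.union h2.1, (Set.ncard_union_le _ _).trans (add_le_add h1.2 h2.2)⟩

/-! ### The bound for affine pieces -/

theorem exists_bound_ringHom {A B : Type u} [CommRing A] [CommRing B] (φ : A →+* B)
    (hft : φ.FiniteType) (hqf : φ.QuasiFinite) :
    ∃ d : ℕ, ∀ (Ω : Type u) [Field Ω] (α : A →+* Ω),
      {ρ : B →+* Ω | ρ.comp φ = α}.Finite ∧ {ρ : B →+* Ω | ρ.comp φ = α}.ncard ≤ d := by
  letI := φ.toAlgebra
  haveI : Algebra.FiniteType A B := hft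
  haveI : Algebra.QuasiFinite A B := hqf
  obtain ⟨d, hd⟩ := exists_bound_algHom (A := A) (B := B)
  refine ⟨d, fun Ω _ α => ?_⟩
  letI := α.toAlgebra
  obtain ⟨hfin, hcard⟩ := hd Ω
  obtain ⟨F, hF⟩ : ∃ F : {ρ : B →+* Ω | ρ.comp φ = α} → (B →ₐ[A] Ω),
      ∀ ρ, (F ρ).toRingHom = ρ.1 :=
    ⟨fun ρ => { toRingHom := ρ.1, commutes' := fun a => RingHom.congr_fun ρ.2 a }, fun ρ => rfl⟩
  have hFinj : Function.Injective F := by
    intro ρ ρ' h
    apply Subtype.ext
    rw [← hF ρ, ← hF ρ', h]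
  haveI := hfin
  haveI : Finite {ρ : B →+* Ω | ρ.comp φ = α} := Finite.of_injective F hFinj
  refine ⟨Set.toFinite _, ?_⟩
  rw [← Nat.card_coe_set_eq]
  exact (Nat.card_le_card_of_injective F hFinj).trans hcard

set_option maxHeartbeats 1600000 in
theorem piece_bound {U V : Scheme.{u}} [IsAffine U] [IsAffine V] (h : U ⟶ V)
    [LocallyQuasiFinite h] [LocallyOfFiniteType h] :
    ∃ d : ℕ, ∀ (Ω : Type u) [Field Ω] (vbar : Spec (CommRingCat.of Ω) ⟶ V),
      {ubar : Spec (CommRingCat.of Ω) ⟶ U | ubar ≫ h = vbar}.Finite ∧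
      {ubar : Spec (CommRingCat.of Ω) ⟶ U | ubar ≫ h = vbar}.ncard ≤ d := by
  have hqf : (h.appTop).hom.QuasiFinite :=
    (HasRingHomProperty.iff_of_isAffine (P := @LocallyQuasiFinite)).mp inferInstance
  have hft : (h.appTop).hom.FiniteType :=
    (HasRingHomProperty.iff_of_isAffine (P := @LocallyOfFiniteType)).mp inferInstance
  obtain ⟨d, hd⟩ := exists_bound_ringHom (h.appTop).hom hft hqf
  refine ⟨d, fun Ω _ vbar => ?_⟩
  obtain ⟨γ, hγ⟩ : ∃ γ : Γ(Spec (CommRingCat.of Ω), ⊤) →+* Ω, Function.Injective γ :=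
    ⟨(Scheme.ΓSpecIso (CommRingCat.of Ω)).hom.hom,
      (ConcreteCategory.bijective_of_isIso (Scheme.ΓSpecIso (CommRingCat.of Ω)).hom).1⟩
  obtain ⟨hfin, hcard⟩ := hd Ω (γ.comp (vbar.appTop).hom)
  have hmaps : ∀ ubar ∈ {ubar : Spec (CommRingCat.of Ω) ⟶ U | ubar ≫ h = vbar},
      γ.comp (ubar.appTop).hom ∈
        {ρ : Γ(U, ⊤) →+* Ω | ρ.comp (h.appTop).hom = γ.comp (vbar.appTop).hom} := by
    intro ubar hubar
    have h1 : ubar ≫ h = vbar := hubar
    show (γ.comp (ubar.appTop).hom).comp (h.appTop).hom = γ.comp (vbar.appTop).hom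
    rw [← h1, Scheme.Hom.comp_appTop, CommRingCat.hom_comp, RingHom.comp_assoc]
  have hinj : Set.InjOn (fun ubar : Spec (CommRingCat.of Ω) ⟶ U => γ.comp (ubar.appTop).hom)
      {ubar | ubar ≫ h = vbar} := by
    intro u1 _ u2 _ h12
    apply ext_of_isAffine
    apply CommRingCat.hom_ext
    exact (RingHom.cancel_left hγ).mp h12
  exact ⟨Set.Finite.of_injOn hmaps hinj hfin,
    (Set.ncard_le_ncard_of_injOn _ hmaps hinj hfin).trans hcard⟩

set_option maxHeartbeats 1600000 in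
theorem open_piece_bound {X Y : Scheme.{u}} (f : X ⟶ Y) [LocallyQuasiFinite f]
    [LocallyOfFiniteType f] (U : X.Opens) (V : Y.Opens) (hU : IsAffineOpen U)
    (hV : IsAffineOpen V) (hUV : U ≤ f ⁻¹ᵁ V) :
    ∃ d : ℕ, ∀ (Ω : Type u) [Field Ω] (ybar : Spec (CommRingCat.of Ω) ⟶ Y),
      {ubar : Spec (CommRingCat.of Ω) ⟶ X |
        ubar ≫ f = ybar ∧ ubar (closedPoint Ω) ∈ U}.Finite ∧
      {ubar : Spec (CommRingCat.of Ω) ⟶ X |
        ubar ≫ f = ybar ∧ ubar (closedPoint Ω) ∈ U}.ncard ≤ d := by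
  haveI : IsAffine U.toScheme := hU
  haveI : IsAffine V.toScheme := hV
  obtain ⟨h, hh⟩ : ∃ h : U.toScheme ⟶ V.toScheme, h ≫ V.ι = U.ι ≫ f :=
    ⟨f.resLE V U hUV, Scheme.Hom.resLE_comp_ι f hUV⟩
  haveI : LocallyQuasiFinite (h ≫ V.ι) := by rw [hh]; infer_instance
  haveI : LocallyOfFiniteType (h ≫ V.ι) := by rw [hh]; infer_instance
  haveI : LocallyQuasiFinite h := LocallyQuasiFinite.of_comp h V.ι
  haveI : LocallyOfFiniteType h := locallyOfFiniteType_of_comp h V.ι
  obtain ⟨d, hd⟩ := piece_bound h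
  refine ⟨d, fun Ω _ ybar => ?_⟩
  have hpt : ∀ (Z : Scheme.{u}) (m : Spec (CommRingCat.of Ω) ⟶ Z) (O : Z.Opens),
      m (closedPoint Ω) ∈ O → Set.range m ⊆ Set.range O.ι := by
    intro Z m O hO
    rintro _ ⟨p, rfl⟩
    have hp : p = closedPoint Ω := Subsingleton.elim (α := PrimeSpectrum Ω) _ _
    rw [hp, Scheme.Opens.range_ι]
    exact hO
  by_cases hyV : ybar (closedPoint Ω) ∈ V
  · obtain ⟨ybar', hybar'⟩ : ∃ ybar' : Spec (CommRingCat.of Ω) ⟶ V.toScheme,
        ybar' ≫ V.ι = ybar :=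
      ⟨IsOpenImmersion.lift V.ι ybar (hpt Y ybar V hyV), IsOpenImmersion.lift_fac _ _ _⟩
    obtain ⟨hfin, hcard⟩ := hd Ω ybar'
    have hsub : {ubar : Spec (CommRingCat.of Ω) ⟶ X |
        ubar ≫ f = ybar ∧ ubar (closedPoint Ω) ∈ U} ⊆
        (fun ubar' : Spec (CommRingCat.of Ω) ⟶ U.toScheme => ubar' ≫ U.ι) ''
          {ubar' | ubar' ≫ h = ybar'} := by
      rintro ubar ⟨hub1, hub2⟩
      refine ⟨IsOpenImmersion.lift U.ι ubar (hpt X ubar U hub2), ?_,
        IsOpenImmersion.lift_fac _ _ _⟩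
      show IsOpenImmersion.lift U.ι ubar (hpt X ubar U hub2) ≫ h = ybar'
      rw [← cancel_mono V.ι, Category.assoc, hh, ← Category.assoc,
        IsOpenImmersion.lift_fac, hub1, hybar']
    exact ⟨(hfin.image _).subset hsub,
      (Set.ncard_le_ncard hsub (hfin.image _)).trans ((Set.ncard_image_le hfin).trans hcard)⟩
  · have hempty : {ubar : Spec (CommRingCat.of Ω) ⟶ X |
        ubar ≫ f = ybar ∧ ubar (closedPoint Ω) ∈ U} = ∅ := by
      apply Set.eq_empty_of_forall_notMem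
      rintro ubar ⟨hub1, hub2⟩
      apply hyV
      have h1 : f (ubar (closedPoint Ω)) ∈ V := hUV hub2
      have h2 : (ubar ≫ f) (closedPoint Ω) = ybar (closedPoint Ω) := by rw [hub1]
      rw [← h2]
      exact h1
    rw [hempty]
    exact ⟨Set.finite_empty, by simp⟩

set_option maxHeartbeats 1600000 in
theorem exists_bound_geomPoints {X Y : Scheme.{u}} (f : X ⟶ Y) [LocallyQuasiFinite f]
    [LocallyOfFiniteType f] [CompactSpace ↑X] :
    ∃ d : ℕ, ∀ (Ω : Type u) [Field Ω] (ybar : Spec (CommRingCat.of Ω) ⟶ Y),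
      {ubar : Spec (CommRingCat.of Ω) ⟶ X | ubar ≫ f = ybar}.Finite ∧
      {ubar : Spec (CommRingCat.of Ω) ⟶ X | ubar ≫ f = ybar}.ncard ≤ d := by
  classical
  have hV : ∀ x : X, ∃ V : Y.Opens, IsAffineOpen V ∧ f x ∈ V := fun x => by
    obtain ⟨W, hW, hxW, -⟩ := exists_isAffineOpen_mem_and_subset (x := f x)
      (U := (⊤ : Y.Opens)) trivial
    exact ⟨W, hW, hxW⟩
  choose V hVaff hfxV using hV
  have hU : ∀ x : X, ∃ U : X.Opens, IsAffineOpen U ∧ x ∈ U ∧ U ≤ f ⁻¹ᵁ V x := fun x => by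
    obtain ⟨W, hW, hxW, hWsub⟩ := exists_isAffineOpen_mem_and_subset (x := x)
      (U := f ⁻¹ᵁ V x) (hfxV x)
    exact ⟨W, hW, hxW, fun p hp => hWsub hp⟩
  choose U hUaff hxU hUV using hU
  obtain ⟨t, ht⟩ := isCompact_univ.elim_finite_subcover (fun x : X => (U x : Set X))
    (fun x => (U x).isOpen) (fun x _ => Set.mem_iUnion.mpr ⟨x, hxU x⟩)
  have hpiece : ∀ x : X, ∃ d : ℕ, ∀ (Ω : Type u) [Field Ω]
      (ybar : Spec (CommRingCat.of Ω) ⟶ Y),
      {ubar : Spec (CommRingCat.of Ω) ⟶ X |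
        ubar ≫ f = ybar ∧ ubar (closedPoint Ω) ∈ U x}.Finite ∧
      {ubar : Spec (CommRingCat.of Ω) ⟶ X |
        ubar ≫ f = ybar ∧ ubar (closedPoint Ω) ∈ U x}.ncard ≤ d := fun x =>
    open_piece_bound f (U x) (V x) (hUaff x) (hVaff x) (hUV x)
  choose d hd using hpiece
  refine ⟨∑ x ∈ t, d x, fun Ω _ ybar => ?_⟩
  have hsub : {ubar : Spec (CommRingCat.of Ω) ⟶ X | ubar ≫ f = ybar} ⊆
      ⋃ x ∈ t, {ubar : Spec (CommRingCat.of Ω) ⟶ X |
        ubar ≫ f = ybar ∧ ubar (closedPoint Ω) ∈ U x} := by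
    intro ubar hubar
    have h1 := ht (Set.mem_univ (ubar (closedPoint Ω)))
    obtain ⟨x, hx⟩ := Set.mem_iUnion.mp h1
    obtain ⟨hxt, hxU'⟩ := Set.mem_iUnion.mp hx
    exact Set.mem_biUnion hxt ⟨hubar, hxU'⟩
  obtain ⟨hfin, hcard⟩ := finite_ncard_biUnion_le t
    (fun x => {ubar : Spec (CommRingCat.of Ω) ⟶ X |
      ubar ≫ f = ybar ∧ ubar (closedPoint Ω) ∈ U x}) d (fun x _ => hd x Ω ybar)
  exact ⟨hfin.subset hsub, (Set.ncard_le_ncard hsub hfin).trans hcard⟩

/-! ### Geometric fibres -/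

theorem discreteTopology_of_lqf {G SK : Scheme.{u}} (π : G ⟶ SK) [LocallyQuasiFinite π]
    [Subsingleton ↥SK] : DiscreteTopology ↥G := by
  by_cases hne : Nonempty ↥G
  · obtain ⟨g₀⟩ := hne
    have h1 := Scheme.Hom.isDiscrete_preimage_singleton π (π g₀)
    have h2 : π ⁻¹' {π g₀} = Set.univ :=
      Set.eq_univ_of_forall (fun g => Subsingleton.elim (π g) (π g₀))
    rw [h2] at h1
    exact isDiscrete_univ_iff.mp h1
  · haveI : IsEmpty ↥G := not_nonempty_iff.mp hne
    infer_instance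

set_option maxHeartbeats 1600000 in
theorem card_le_of_isPullback_aux {X Y G SK : Scheme.{u}} (f : X ⟶ Y) [LocallyQuasiFinite f]
    {pr : G ⟶ X} {π : G ⟶ SK} {ζ : SK ⟶ Y} (hG : IsPullback pr π f ζ) [Subsingleton ↥SK]
    (pt₀ : SK) (Ω : Type u) [Field Ω] [IsAlgClosed Ω]
    (ψ₀ : SK.residueField pt₀ ⟶ CommRingCat.of Ω) (d : ℕ)
    (hd : {ubar : Spec (CommRingCat.of Ω) ⟶ X |
        ubar ≫ f = (Spec.map ψ₀ ≫ SK.fromSpecResidueField pt₀) ≫ ζ}.Finite ∧
      {ubar : Spec (CommRingCat.of Ω) ⟶ X |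
        ubar ≫ f = (Spec.map ψ₀ ≫ SK.fromSpecResidueField pt₀) ≫ ζ}.ncard ≤ d) :
    ENat.card ↥G ≤ d := by
  haveI : LocallyQuasiFinite π :=
    MorphismProperty.of_isPullback (P := @LocallyQuasiFinite) hG inferInstance
  obtain ⟨vbar, hvbar⟩ : ∃ vbar : Spec (CommRingCat.of Ω) ⟶ SK,
      vbar = Spec.map ψ₀ ≫ SK.fromSpecResidueField pt₀ := ⟨_, rfl⟩
  rw [← hvbar] at hd
  have hex : ∀ g : G, ∃ ubar : Spec (CommRingCat.of Ω) ⟶ G,
      ubar ≫ π = vbar ∧ ubar (closedPoint Ω) = g := by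
    intro g
    have hv : π g = pt₀ := Subsingleton.elim _ _
    have h1 := ncard_geomFib π Ω g pt₀ hv ψ₀
    have h2 := sepDeg_pos π g
    have h3 : (geomFib π Ω (Spec.map ψ₀ ≫ SK.fromSpecResidueField pt₀) g).Nonempty :=
      Set.nonempty_of_ncard_ne_zero (by rw [h1]; exact h2.ne')
    obtain ⟨ubar, hubar⟩ := h3
    rw [hvbar]
    exact ⟨ubar, hubar⟩
  choose σ hσ1 hσ2 using hex
  have hinj : Function.Injective (fun g : G => σ g ≫ pr) := by
    intro g g' hgg
    have h1 : σ g = σ g' := hG.hom_ext hgg ((hσ1 g).trans (hσ1 g').symm)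
    rw [← hσ2 g, ← hσ2 g', h1]
  have hmem : ∀ g : G, σ g ≫ pr ∈
      {ubar : Spec (CommRingCat.of Ω) ⟶ X | ubar ≫ f = vbar ≫ ζ} := by
    intro g
    show (σ g ≫ pr) ≫ f = vbar ≫ ζ
    rw [Category.assoc, hG.w, ← Category.assoc, hσ1 g]
  have h5 : ENat.card ↥G ≤
      ENat.card ↥{ubar : Spec (CommRingCat.of Ω) ⟶ X | ubar ≫ f = vbar ≫ ζ} :=
    ENat.card_le_card_of_injective (f := fun g => ⟨σ g ≫ pr, hmem g⟩)
      (fun g g' h => hinj (congrArg Subtype.val h))
  exact h5.trans (Set.encard_le_coe_iff_finite_ncard_le.mpr hd)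

theorem card_le_of_isPullback {X Y G SK : Scheme.{u}} (f : X ⟶ Y) [LocallyQuasiFinite f]
    {pr : G ⟶ X} {π : G ⟶ SK} {ζ : SK ⟶ Y} (hG : IsPullback pr π f ζ) [Subsingleton ↥SK]
    (pt₀ : SK) (d : ℕ)
    (hd : ∀ (Ω : Type u) [Field Ω] (ybar : Spec (CommRingCat.of Ω) ⟶ Y),
      {ubar : Spec (CommRingCat.of Ω) ⟶ X | ubar ≫ f = ybar}.Finite ∧
      {ubar : Spec (CommRingCat.of Ω) ⟶ X | ubar ≫ f = ybar}.ncard ≤ d) :
    ENat.card ↥G ≤ d :=
  card_le_of_isPullback_aux f hG pt₀ (AlgebraicClosure (SK.residueField pt₀))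
    (CommRingCat.ofHom (algebraMap (SK.residueField pt₀)
      (AlgebraicClosure (SK.residueField pt₀)))) d (hd _ _)

theorem geomFiber_isPullback {X Y : Scheme.{u}} (f : X ⟶ Y) (y : Y) :
    IsPullback
      (pullback.fst (f.fiberToSpecResidueField y)
        (Spec.map (CommRingCat.ofHom
          (algebraMap (Y.residueField y) (SeparableClosure (Y.residueField y))))) ≫ f.fiberι y)
      (pullback.snd (f.fiberToSpecResidueField y)
        (Spec.map (CommRingCat.ofHom
          (algebraMap (Y.residueField y) (SeparableClosure (Y.residueField y))))))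
      f
      (Spec.map (CommRingCat.ofHom
          (algebraMap (Y.residueField y) (SeparableClosure (Y.residueField y)))) ≫
        Y.fromSpecResidueField y) :=
  (IsPullback.of_hasPullback (f.fiberToSpecResidueField y) _).paste_horiz
    (IsPullback.of_hasPullback f (Y.fromSpecResidueField y))

theorem card_geomFiber_le {X Y : Scheme.{u}} (f : X ⟶ Y) [LocallyQuasiFinite f] (y : Y) (d : ℕ)
    (hd : ∀ (Ω : Type u) [Field Ω] (ybar : Spec (CommRingCat.of Ω) ⟶ Y),
      {ubar : Spec (CommRingCat.of Ω) ⟶ X | ubar ≫ f = ybar}.Finite ∧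
      {ubar : Spec (CommRingCat.of Ω) ⟶ X | ubar ≫ f = ybar}.ncard ≤ d) :
    ENat.card ↥(MoreMor.geomFiber f y) ≤ d := by
  haveI : Subsingleton ↥(Spec (CommRingCat.of (SeparableClosure (Y.residueField y)))) :=
    (inferInstance : Subsingleton (PrimeSpectrum (SeparableClosure (Y.residueField y))))
  exact card_le_of_isPullback f (geomFiber_isPullback f y)
    (closedPoint (SeparableClosure (Y.residueField y))) d hd

theorem discreteTopology_geomFiber {X Y : Scheme.{u}} (f : X ⟶ Y) [LocallyQuasiFinite f]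
    (y : Y) : DiscreteTopology ↥(MoreMor.geomFiber f y) := by
  haveI h2 : LocallyQuasiFinite (pullback.snd (f.fiberToSpecResidueField y)
        (Spec.map (CommRingCat.ofHom
          (algebraMap (Y.residueField y) (SeparableClosure (Y.residueField y)))))) :=
    MorphismProperty.of_isPullback (P := @LocallyQuasiFinite) (geomFiber_isPullback f y)
      inferInstance
  have h3 : Subsingleton ↥(Spec (CommRingCat.of (SeparableClosure (Y.residueField y)))) :=
    (inferInstance : Subsingleton (PrimeSpectrum (SeparableClosure (Y.residueField y))))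
  exact @discreteTopology_of_lqf _ _ _ h2 h3

theorem main1415 {X Y : Scheme.{u}} (f : X ⟶ Y) [LocallyQuasiFinite f]
    [LocallyOfFiniteType f] :
    (∀ y : Y, MoreMor.nGeomIrredComp f y = MoreMor.nGeomConnComp f y) ∧
      (CompactSpace ↑X → ∃ d : ℕ, ∀ y : Y, MoreMor.nGeomConnComp f y ≤ d) := by
  refine ⟨fun y => ?_, fun hX => ?_⟩
  · haveI := discreteTopology_geomFiber f y
    unfold MoreMor.nGeomIrredComp MoreMor.nGeomConnComp
    rw [encard_irreducibleComponents_of_discrete, card_connectedComponents_of_discrete]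
  · haveI := hX
    obtain ⟨d, hd⟩ := exists_bound_geomPoints f
    refine ⟨d, fun y => ?_⟩
    unfold MoreMor.nGeomConnComp
    exact (card_connectedComponents_le _).trans (card_geomFiber_le f y d hd)

end Groth.Agent.Lib.GeomCountH4
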