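import Mathlib
import Groth.Prelude

set_option autoImplicit false
set_option linter.style.haveILetI false
set_option linter.unusedVariables false
universe u
open CategoryTheory CategoryTheory.Limits AlgebraicGeometry TopologicalSpace Opposite Topology

namespace Groth.Agent.Lib.WeightH4

/-- An integer valued function which locally takes finitely many values and whose level sets are
locally constructible. -/
def LCF {T : Type*} [TopologicalSpace T] (φ : T → ℤ) : Prop :=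
  (∀ n : ℤ, IsLocallyConstructible (φ ⁻¹' {n})) ∧
    ∀ t : T, ∃ O : Set T, IsOpen O ∧ t ∈ O ∧ (φ '' O).Finite

/-- pointwise version -/
def LCFAt {T : Type*} [TopologicalSpace T] (φ : T → ℤ) (t : T) : Prop :=
  ∃ O : Opens T, t ∈ O ∧ (φ '' (O : Set T)).Finite ∧
    ∀ n : ℤ, IsLocallyConstructible (φ ⁻¹' {n} ∩ (O : Set T))

theorem isOpenCover_of_mem {T : Type*} [TopologicalSpace T] (O : T → Opens T)
    (h : ∀ t, t ∈ O t) : IsOpenCover O :=
  IsOpenCover.mk (top_le_iff.mp (fun t _ => Opens.mem_iSup.mpr ⟨t, h t⟩))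

theorem isLocallyConstructible_compl {T : Type*} [TopologicalSpace T] {s : Set T}
    (hs : IsLocallyConstructible s) : IsLocallyConstructible sᶜ := by
  intro x
  obtain ⟨U, hxU, hU, hc⟩ := hs x
  exact ⟨U, hxU, hU, hc.compl⟩

theorem LCF.of_isLocallyConstant {T : Type*} [TopologicalSpace T] {φ : T → ℤ}
    (h : IsLocallyConstant φ) : LCF φ := by
  refine ⟨fun n => ?_, fun t => ?_⟩
  · have hcl : IsClopen (φ ⁻¹' {n}) := h.isClopen_fiber n
    exact IsRetrocompact.isLocallyConstructible hcl.2 (fun K hK _ => hK.inter_left hcl.1)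
  · refine ⟨φ ⁻¹' {φ t}, h.isOpen_fiber (φ t), rfl, ?_⟩
    refine (Set.finite_singleton (φ t)).subset ?_
    rintro _ ⟨x, hx, rfl⟩
    exact hx

theorem LCF.of_forall_at {T : Type*} [TopologicalSpace T] {φ : T → ℤ}
    (h : ∀ t, LCFAt φ t) : LCF φ := by
  choose O htO hf hl using h
  refine ⟨fun n => ?_, fun t => ⟨O t, (O t).2, htO t, hf t⟩⟩
  exact IsLocallyConstructible.of_isOpenCover' (U := O) (isOpenCover_of_mem O htO)
    (fun t => hl t n)

theorem LCF.of_local {T : Type*} [TopologicalSpace T] {φ : T → ℤ}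
    (h : ∀ t : T, ∃ O : Opens T, t ∈ O ∧ LCF (fun x : O => φ x.1)) : LCF φ := by
  choose O htO hO using h
  refine ⟨fun n => ?_, fun t => ?_⟩
  · exact IsLocallyConstructible.of_isOpenCover (U := O) (isOpenCover_of_mem O htO)
      (fun t => (hO t).1 n)
  · obtain ⟨O', hO'o, hO't, hO'f⟩ := (hO t).2 ⟨t, htO t⟩
    refine ⟨Subtype.val '' O', (O t).2.isOpenMap_subtype_val _ hO'o, ⟨⟨t, htO t⟩, hO't, rfl⟩, ?_⟩
    refine hO'f.subset ?_
    rintro _ ⟨_, ⟨z, hz, rfl⟩, rfl⟩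
    exact ⟨z, hz, rfl⟩

theorem LCF.finite_image {T : Type*} [TopologicalSpace T] {φ : T → ℤ} (h : LCF φ) {K : Set T}
    (hK : IsCompact K) : (φ '' K).Finite := by
  choose O hOo hOt hOf using h.2
  obtain ⟨s, -, hs⟩ := hK.elim_nhds_subcover O (fun t _ => (hOo t).mem_nhds (hOt t))
  refine (Set.Finite.biUnion s.finite_toSet (fun t _ => hOf t)).subset ?_
  rintro _ ⟨x, hx, rfl⟩
  obtain ⟨t, ht, hxt⟩ := Set.mem_iUnion₂.mp (hs hx)
  exact Set.mem_iUnion₂.mpr ⟨t, ht, ⟨x, hxt, rfl⟩⟩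

theorem LCF.map₂ {T : Type*} [TopologicalSpace T] {φ ψ : T → ℤ} (op : ℤ → ℤ → ℤ)
    (hφ : LCF φ) (hψ : LCF ψ) : LCF (fun t => op (φ t) (ψ t)) := by
  have hloc : ∀ t : T, ∃ O : Opens T, t ∈ O ∧ (φ '' (O : Set T)).Finite ∧
      (ψ '' (O : Set T)).Finite := by
    intro t
    obtain ⟨O₁, ho₁, ht₁, hf₁⟩ := hφ.2 t
    obtain ⟨O₂, ho₂, ht₂, hf₂⟩ := hψ.2 t
    exact ⟨⟨O₁ ∩ O₂, ho₁.inter ho₂⟩, ⟨ht₁, ht₂⟩,
      hf₁.subset (Set.image_mono Set.inter_subset_left),
      hf₂.subset (Set.image_mono Set.inter_subset_right)⟩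
  choose O htO hfφ hfψ using hloc
  refine ⟨fun n => ?_, fun t => ⟨O t, (O t).2, htO t, ?_⟩⟩
  · refine IsLocallyConstructible.of_isOpenCover (U := O) (isOpenCover_of_mem O htO)
      (fun t => ?_)
    have hF : {p : ℤ × ℤ | p ∈ (φ '' (O t : Set T)) ×ˢ (ψ '' (O t : Set T)) ∧
        op p.1 p.2 = n}.Finite :=
      ((hfφ t).prod (hfψ t)).subset (fun p hp => hp.1)
    have hS' : IsLocallyConstructible
        (⋃ p ∈ {p : ℤ × ℤ | p ∈ (φ '' (O t : Set T)) ×ˢ (ψ '' (O t : Set T)) ∧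
          op p.1 p.2 = n}, (φ ⁻¹' {p.1} ∩ ψ ⁻¹' {p.2})) :=
      IsLocallyConstructible.biUnion hF (fun p _ => (hφ.1 p.1).inter (hψ.1 p.2))
    have h1 := hS'.preimage_of_isOpenEmbedding (O t).isOpen.isOpenEmbedding_subtypeVal
    have heq : (Subtype.val ⁻¹' ((fun t => op (φ t) (ψ t)) ⁻¹' {n}) : Set (O t : Set T)) =
        Subtype.val ⁻¹' (⋃ p ∈ {p : ℤ × ℤ | p ∈ (φ '' (O t : Set T)) ×ˢ (ψ '' (O t : Set T)) ∧
          op p.1 p.2 = n}, (φ ⁻¹' {p.1} ∩ ψ ⁻¹' {p.2})) := by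
      ext ⟨x, hx⟩
      simp only [Set.mem_preimage, Set.mem_singleton_iff, Set.mem_iUnion, Set.mem_inter_iff,
        Set.mem_setOf_eq, exists_prop]
      constructor
      · intro h
        exact ⟨(φ x, ψ x), ⟨⟨⟨x, hx, rfl⟩, ⟨x, hx, rfl⟩⟩, h⟩, rfl, rfl⟩
      · rintro ⟨p, ⟨-, hp⟩, h1, h2⟩
        rw [h1, h2]
        exact hp
    show IsLocallyConstructible
      (Subtype.val ⁻¹' ((fun t => op (φ t) (ψ t)) ⁻¹' {n}) : Set (O t : Set T))
    rw [heq]
    exact h1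
  · refine ((hfφ t).image2 op (hfψ t)).subset ?_
    rintro _ ⟨x, hx, rfl⟩
    exact Set.mem_image2_of_mem ⟨x, hx, rfl⟩ ⟨x, hx, rfl⟩
/-
    constructor
    · intro h
      exact ⟨(φ x, ψ x), ⟨⟨⟨x, hx, rfl⟩, ⟨x, hx, rfl⟩⟩, h⟩, rfl, rfl⟩
    · rintro ⟨p, ⟨-, hp⟩, h1, h2⟩
      rw [h1, h2]
      exact hp
  · refine ((hfφ t).image2 op (hfψ t)).subset ?_
    rintro _ ⟨x, hx, rfl⟩
    exact Set.mem_image2_of_mem ⟨x, hx, rfl⟩ ⟨x, hx, rfl⟩
-/

/-! ### Scheme level lemmas -/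

theorem isLocallyConstructible_preimage {X Y : Scheme.{u}} (f : X ⟶ Y) {s : Set Y}
    (hs : IsLocallyConstructible s) : IsLocallyConstructible (f ⁻¹' s) := by
  intro x
  obtain ⟨U, hxU, hU, hc⟩ := hs (f x)
  refine ⟨f ⁻¹' U, f.continuous.continuousAt.preimage_mem_nhds hxU, hU.preimage f.continuous, ?_⟩
  have h1 : IsConstructible ((f ∣_ (⟨U, hU⟩ : Y.Opens)) ⁻¹' (Subtype.val ⁻¹' s)) :=
    (f ∣_ (⟨U, hU⟩ : Y.Opens)).isConstructible_preimage hc
  have h2 : ((f ∣_ (⟨U, hU⟩ : Y.Opens)) ⁻¹' (Subtype.val ⁻¹' s)) =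
      (Subtype.val ⁻¹' (f ⁻¹' s)) := by
    ext z
    have hz : ((f ∣_ (⟨U, hU⟩ : Y.Opens)) z).1 = f z.1 :=
      congrArg (fun m : (f ⁻¹ᵁ (⟨U, hU⟩ : Y.Opens)).toScheme ⟶ Y => m z)
        (morphismRestrict_ι f (⟨U, hU⟩ : Y.Opens))
    simp only [Set.mem_preimage]
    rw [hz]
    rfl
  rw [h2] at h1
  exact h1

theorem LCF.comp_hom {X Y : Scheme.{u}} (f : X ⟶ Y) {φ : Y → ℤ} (h : LCF φ) :
    LCF (fun x => φ (f x)) :=
  ⟨fun n => isLocallyConstructible_preimage f (h.1 n), fun x => by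
    obtain ⟨O, hO, hx, hf⟩ := h.2 (f x)
    exact ⟨f ⁻¹' O, hO.preimage f.continuous, hx,
      hf.subset (by rintro _ ⟨z, hz, rfl⟩; exact ⟨f z, hz, rfl⟩)⟩⟩

theorem LCF.of_comp_hom {X Y : Scheme.{u}} (f : X ⟶ Y) [LocallyOfFinitePresentation f]
    [QuasiCompact f] {N : Y → ℤ} (h : LCF (fun x => N (f x)))
    (h0 : ∀ y, y ∉ Set.range f → N y = 0) : LCF N := by
  refine ⟨fun n => ?_, fun y => ?_⟩
  · have h1 : IsLocallyConstructible (f '' ((fun x => N (f x)) ⁻¹' {n})) :=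
      f.isLocallyConstructible_image (h.1 n)
    by_cases hn : n = 0
    · have h2 : IsLocallyConstructible (Set.range f)ᶜ := by
        have h3 := f.isLocallyConstructible_image (s := Set.univ) IsLocallyConstructible.univ
        rw [Set.image_univ] at h3
        exact isLocallyConstructible_compl h3
      have h4 : N ⁻¹' {n} = f '' ((fun x => N (f x)) ⁻¹' {n}) ∪ (Set.range f)ᶜ := by
        ext y
        constructor
        · intro hy
          by_cases hr : y ∈ Set.range f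
          · obtain ⟨x, rfl⟩ := hr
            exact Or.inl ⟨x, hy, rfl⟩
          · exact Or.inr hr
        · rintro (⟨x, hx, rfl⟩ | hr)
          · exact hx
          · show N y = n
            rw [hn]
            exact h0 y hr
      rw [h4]
      exact h1.union h2
    · have h4 : N ⁻¹' {n} = f '' ((fun x => N (f x)) ⁻¹' {n}) := by
        ext y
        constructor
        · intro hy
          by_cases hr : y ∈ Set.range f
          · obtain ⟨x, rfl⟩ := hr
            exact ⟨x, hy, rfl⟩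
          · exfalso
            have h5 : N y = n := hy
            exact hn (h5.symm.trans (h0 y hr))
        · rintro ⟨x, hx, rfl⟩
          exact hx
      rw [h4]
      exact h1
  · obtain ⟨_, ⟨O, hO, rfl⟩, hyO, -⟩ :=
      Y.isBasis_affineOpens.exists_subset_of_mem_open (Set.mem_univ y) isOpen_univ
    refine ⟨O, O.2, hyO, ?_⟩
    have hK : IsCompact (f ⁻¹' (O : Set Y)) :=
      QuasiCompact.isCompact_preimage (f := f) _ O.2 hO.isCompact
    have hfin := h.finite_image hK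
    refine (hfin.union (Set.finite_singleton 0)).subset ?_
    rintro _ ⟨y', hy', rfl⟩
    by_cases hr : y' ∈ Set.range f
    · obtain ⟨x, rfl⟩ := hr
      exact Or.inl ⟨x, hy', rfl⟩
    · exact Or.inr (h0 y' hr)

theorem LCFAt.of_hom {U X : Scheme.{u}} (q : U ⟶ X) [LocallyOfFinitePresentation q]
    [QuasiCompact q] [CompactSpace U] (hq : IsOpenMap q) {w : X → ℤ}
    (h : LCF (fun u => w (q u))) (u : U) : LCFAt w (q u) := by
  refine ⟨⟨Set.range q, hq.isOpen_range⟩, ⟨u, rfl⟩, ?_, fun n => ?_⟩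
  · have h1 := h.finite_image isCompact_univ
    refine h1.subset ?_
    rintro _ ⟨_, ⟨u', rfl⟩, rfl⟩
    exact ⟨u', Set.mem_univ _, rfl⟩
  · have h1 := q.isLocallyConstructible_image (h.1 n)
    have h2 : w ⁻¹' {n} ∩ Set.range q = q '' ((fun u => w (q u)) ⁻¹' {n}) := by
      ext x
      constructor
      · rintro ⟨hx, u', rfl⟩
        exact ⟨u', hx, rfl⟩
      · rintro ⟨u', hu', rfl⟩
        exact ⟨hu', u', rfl⟩
    show IsLocallyConstructible (w ⁻¹' {n} ∩ Set.range q)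
    rw [h2]
    exact h1

end Groth.Agent.Lib.WeightH4
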