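import Mathlib
import Groth.Prelude
import Groth.Agent.Lib.WeightLCF_helper4
import Groth.Agent.Lib.WeightBC_helper4

set_option autoImplicit false
set_option linter.style.haveILetI false
set_option linter.unusedVariables false
universe u
open CategoryTheory CategoryTheory.Limits AlgebraicGeometry TopologicalSpace Opposite Topology

namespace Groth.Agent.Lib.WeightH4

open PurInsepH4 EtNbhdFinH4 EtLocH4 IsLocalRing TensorProduct

/-! ### The diagonal of a morphism locally of finite type is locally of finite presentation -/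

theorem lfp_diagonal {X Y : Scheme.{u}} (f : X ⟶ Y) [LocallyOfFiniteType f] :
    LocallyOfFinitePresentation (pullback.diagonal f) := by
  haveI : MorphismProperty.RespectsRight (@LocallyOfFinitePresentation) @IsOpenImmersion :=
    ⟨fun i hi f hf => by
      haveI : IsOpenImmersion i := hi
      haveI : LocallyOfFinitePresentation f := hf
      infer_instance⟩
  wlog hX : (∃ S, X = Spec S) ∧ ∃ R, Y = Spec R generalizing X Y
  · let 𝒰Y := Y.affineCover
    let 𝒰X (j : (Y.affineCover.pullback₁ f).I₀) :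
        ((Y.affineCover.pullback₁ f).X j).OpenCover := Scheme.affineCover _
    apply IsZariskiLocalAtTarget.of_range_subset_iSup _
      (Scheme.Pullback.range_diagonal_subset_diagonalCoverDiagonalRange f 𝒰Y 𝒰X)
    intro ⟨i, j⟩
    rw [MorphismProperty.arrow_mk_iso_iff (P := @LocallyOfFinitePresentation)
      (Scheme.Pullback.diagonalRestrictIsoDiagonal f 𝒰Y 𝒰X i j)]
    have hfin : LocallyOfFiniteType ((𝒰X i).f j ≫ pullback.snd f (𝒰Y.f i)) :=
      MorphismProperty.comp_mem _ _ _ inferInstance
        (MorphismProperty.pullback_snd _ _ inferInstance)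
    exact this _ ⟨⟨_, rfl⟩, ⟨_, rfl⟩⟩
  obtain ⟨⟨S, rfl⟩, R, rfl⟩ := hX
  obtain ⟨f, rfl⟩ := Spec.map_surjective f
  rw [HasRingHomProperty.Spec_iff (P := @LocallyOfFiniteType)] at *
  algebraize [f.hom]
  rw [show f = CommRingCat.ofHom (algebraMap R S) from rfl, diagonal_SpecMap R S,
    MorphismProperty.cancel_right_of_respectsIso (P := @LocallyOfFinitePresentation),
    HasRingHomProperty.Spec_iff (P := @LocallyOfFinitePresentation)]
  refine RingHom.FinitePresentation.of_surjective _ (fun x => ⟨x ⊗ₜ[R] 1, by simp⟩) ?_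
  exact KaehlerDifferential.ideal_fg R S

theorem ker_fg_of_fp_surj {A B : Type u} [CommRing A] [CommRing B] (φ : A →+* B)
    (h : φ.FinitePresentation) (hs : Function.Surjective φ) : (RingHom.ker φ).FG := by
  letI := φ.toAlgebra
  haveI : Algebra.FinitePresentation A B := h
  exact Algebra.FinitePresentation.ker_fG_of_surjective (Algebra.ofId A B) hs

/-- The open complement of a closed immersion locally of finite presentation is retrocompact. -/
theorem quasiCompact_compl_ι {Z P : Scheme.{u}} (j : Z ⟶ P) [IsClosedImmersion j]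
    [LocallyOfFinitePresentation j] (R : P.Opens) (hR : (R : Set P) = (Set.range j)ᶜ) :
    QuasiCompact R.ι := by
  rw [quasiCompact_iff_forall_isAffineOpen]
  intro W hW
  have himg : R.ι '' (R.ι ⁻¹' (W : Set P)) = (W : Set P) ∩ (R : Set P) := by
    rw [Set.image_preimage_eq_inter_range, Scheme.Opens.range_ι]
  have hcomp : IsCompact ((W : Set P) ∩ (R : Set P)) := by
    have hfp : (j.app W).hom.FinitePresentation := by
      have h1 := HasRingHomProperty.appLE (P := @LocallyOfFinitePresentation) j inferInstance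
        ⟨W, hW⟩ ⟨j ⁻¹ᵁ W, hW.preimage j⟩ le_rfl
      rw [Scheme.Hom.app_eq_appLE]
      exact h1
    have hsurj : Function.Surjective (j.app W).hom := j.app_surjective W hW
    obtain ⟨t, ht⟩ := ker_fg_of_fp_surj (j.app W).hom hfp hsurj
    have ht' : Ideal.span (t : Set Γ(P, W)) = RingHom.ker (j.app W).hom := ht
    have hmem : ∀ p : P, p ∈ W → (p ∈ Set.range j ↔ ∀ h ∈ t, p ∉ P.basicOpen h) := by
      intro p hp
      have h1 := Scheme.IdealSheafData.mem_support_iff_of_mem (I := j.ker) (U := ⟨W, hW⟩) hp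
      have h2 : (p ∈ j.ker.support) ↔ p ∈ Set.range j := by
        have h3 := Scheme.Hom.support_ker j
        rw [j.isClosedEmbedding.isClosed_range.closure_eq] at h3
        rw [← SetLike.mem_coe, h3]
      have h5 : p ∈ P.zeroLocus (U := W) ((j.ker.ideal ⟨W, hW⟩ : Ideal Γ(P, W)) : Set Γ(P, W)) ↔
          ∀ h ∈ t, p ∉ P.basicOpen h := by
        rw [Scheme.Hom.ker_apply, ← ht', Scheme.zeroLocus_span, Scheme.mem_zeroLocus_iff]
        exact ⟨fun H h hh => H h (Finset.mem_coe.mpr hh), fun H h hh => H h (Finset.mem_coe.mp hh)⟩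
      exact h2.symm.trans (h1.trans h5)
    have hset : (W : Set P) ∩ (R : Set P) = ⋃ h ∈ t, (P.basicOpen h : Set P) := by
      ext p
      rw [hR]
      simp only [Set.mem_inter_iff, Set.mem_compl_iff, Set.mem_iUnion, SetLike.mem_coe,
        exists_prop]
      constructor
      · rintro ⟨hpW, hpr⟩
        by_contra hcon
        push_neg at hcon
        exact hpr ((hmem p hpW).mpr hcon)
      · rintro ⟨h, hh, hp⟩
        have hpW : p ∈ W := P.basicOpen_le h hp
        exact ⟨hpW, fun hpr => (hmem p hpW).mp hpr h hh hp⟩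
    rw [hset]
    exact t.isCompact_biUnion (fun h _ => isCompact_basicOpen P hW.isCompact h)
  have h4 : IsCompact (R.ι '' (R.ι ⁻¹' (W : Set P))) := by
    rw [himg]
    exact hcomp
  exact R.ι.isOpenEmbedding.isEmbedding.isCompact_iff.mpr h4

/-- The open complement of the diagonal of a separated morphism. -/
noncomputable def diagCompl {X Y : Scheme.{u}} (f : X ⟶ Y) [IsSeparated f] :
    (pullback f f).Opens :=
  ⟨(Set.range (pullback.diagonal f))ᶜ,
    (pullback.diagonal f).isClosedEmbedding.isClosed_range.isOpen_compl⟩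

theorem quasiCompact_diagCompl_ι {X Y : Scheme.{u}} (f : X ⟶ Y) [IsSeparated f]
    [LocallyOfFiniteType f] : QuasiCompact (diagCompl f).ι := by
  haveI := lfp_diagonal f
  exact quasiCompact_compl_ι (pullback.diagonal f) (diagCompl f) rfl

/-! ### Bounds on the number of geometric points -/

/-- every geometric fibre of `f` has at most `d` points -/
def GBound {X Y : Scheme.{u}} (f : X ⟶ Y) (d : ℕ) : Prop :=
  ∀ (Ω : Type u) [Field Ω] (ybar : Spec (CommRingCat.of Ω) ⟶ Y),
    {ubar : Spec (CommRingCat.of Ω) ⟶ X | ubar ≫ f = ybar}.Finite ∧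
    {ubar : Spec (CommRingCat.of Ω) ⟶ X | ubar ≫ f = ybar}.ncard ≤ d

theorem GBound.of_inj {X Y X' Y' : Scheme.{u}} {f : X ⟶ Y} {d : ℕ} (hf : GBound f d)
    (f' : X' ⟶ Y') (h : X' ⟶ X) (g : Y' ⟶ Y) (comm : f' ≫ g = h ≫ f)
    (hinj : ∀ (T : Scheme.{u}) (a b : T ⟶ X'), a ≫ f' = b ≫ f' → a ≫ h = b ≫ h → a = b) :
    GBound f' d := by
  intro Ω _ ybar
  obtain ⟨hfin, hcard⟩ := hf Ω (ybar ≫ g)
  have hmaps : ∀ a ∈ {ubar : Spec (CommRingCat.of Ω) ⟶ X' | ubar ≫ f' = ybar},
      a ≫ h ∈ {ubar : Spec (CommRingCat.of Ω) ⟶ X | ubar ≫ f = ybar ≫ g} := by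
    intro a ha
    have ha' : a ≫ f' = ybar := ha
    show (a ≫ h) ≫ f = ybar ≫ g
    rw [Category.assoc, ← comm, ← Category.assoc, ha']
  have hinjOn : Set.InjOn (fun a : Spec (CommRingCat.of Ω) ⟶ X' => a ≫ h)
      {ubar | ubar ≫ f' = ybar} := by
    intro a ha b hb hab
    have ha' : a ≫ f' = ybar := ha
    have hb' : b ≫ f' = ybar := hb
    exact hinj _ a b (ha'.trans hb'.symm) hab
  exact ⟨Set.Finite.of_injOn (fun a ha => hmaps a ha) hinjOn hfin,
    (Set.ncard_le_ncard_of_injOn _ hmaps hinjOn hfin).trans hcard⟩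

theorem GBound.of_isPullback {X Y X' Y' : Scheme.{u}} {f : X ⟶ Y} {d : ℕ} (hf : GBound f d)
    {f' : X' ⟶ Y'} {h : X' ⟶ X} {g : Y' ⟶ Y} (hc : IsPullback h f' f g) : GBound f' d :=
  hf.of_inj f' h g hc.w.symm (fun T a b h1 h2 => hc.hom_ext h2 h1)

theorem GBound.comp_mono {X Y Z : Scheme.{u}} {f : X ⟶ Y} {d : ℕ} (hf : GBound f d)
    (j : Z ⟶ X) [Mono j] : GBound (j ≫ f) d :=
  hf.of_inj (j ≫ f) j (𝟙 Y) (Category.comp_id _) (fun T a b _ h2 => (cancel_mono j).mp h2)

theorem GBound.diag {X Y : Scheme.{u}} {f : X ⟶ Y} {d : ℕ} (hf : GBound f (d + 1))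
    (R : (pullback f f).Opens) (hR : ∀ p ∈ R, p ∉ Set.range (pullback.diagonal f)) :
    GBound (R.ι ≫ pullback.fst f f) d := by
  intro Ω _ xbar
  obtain ⟨hfin, hcard⟩ := hf Ω (xbar ≫ f)
  have hx : xbar ∈ {ubar : Spec (CommRingCat.of Ω) ⟶ X | ubar ≫ f = xbar ≫ f} := rfl
  have hmaps : ∀ r ∈ {r : Spec (CommRingCat.of Ω) ⟶ R.toScheme |
      r ≫ R.ι ≫ pullback.fst f f = xbar},
      r ≫ R.ι ≫ pullback.snd f f ∈
        {ubar : Spec (CommRingCat.of Ω) ⟶ X | ubar ≫ f = xbar ≫ f} \ {xbar} := by
    intro r hr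
    have hr' : r ≫ R.ι ≫ pullback.fst f f = xbar := hr
    refine ⟨?_, ?_⟩
    · show (r ≫ R.ι ≫ pullback.snd f f) ≫ f = xbar ≫ f
      rw [← hr']
      simp only [Category.assoc, pullback.condition]
    · intro heq
      have heq' : r ≫ R.ι ≫ pullback.snd f f = xbar := heq
      have h1 : r ≫ R.ι = xbar ≫ pullback.diagonal f := by
        apply pullback.hom_ext
        · rw [Category.assoc, hr', Category.assoc, pullback.diagonal_fst, Category.comp_id]
        · rw [Category.assoc, heq', Category.assoc, pullback.diagonal_snd, Category.comp_id]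
      have h2 : (r ≫ R.ι) (closedPoint Ω) = (xbar ≫ pullback.diagonal f) (closedPoint Ω) := by
        rw [h1]
      exact hR (R.ι (r (closedPoint Ω))) (r (closedPoint Ω)).2 ⟨xbar (closedPoint Ω), h2.symm⟩
  have hinjOn : Set.InjOn
      (fun r : Spec (CommRingCat.of Ω) ⟶ R.toScheme => r ≫ R.ι ≫ pullback.snd f f)
      {r | r ≫ R.ι ≫ pullback.fst f f = xbar} := by
    intro a ha b hb hab
    have ha' : a ≫ R.ι ≫ pullback.fst f f = xbar := ha
    have hb' : b ≫ R.ι ≫ pullback.fst f f = xbar := hb
    have hab' : a ≫ R.ι ≫ pullback.snd f f = b ≫ R.ι ≫ pullback.snd f f := hab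
    have h1 : a ≫ R.ι = b ≫ R.ι := by
      apply pullback.hom_ext
      · rw [Category.assoc, Category.assoc, ha', hb']
      · rw [Category.assoc, Category.assoc, hab']
    exact (cancel_mono R.ι).mp h1
  have hfin' : ({ubar : Spec (CommRingCat.of Ω) ⟶ X | ubar ≫ f = xbar ≫ f} \ {xbar}).Finite :=
    hfin.subset Set.diff_subset
  have hcard' : ({ubar : Spec (CommRingCat.of Ω) ⟶ X | ubar ≫ f = xbar ≫ f} \ {xbar}).ncard ≤
      d := by
    rw [Set.ncard_diff_singleton_of_mem hx]
    omega
  exact ⟨Set.Finite.of_injOn (fun a ha => hmaps a ha) hinjOn hfin',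
    (Set.ncard_le_ncard_of_injOn _ hmaps hinjOn hfin').trans hcard'⟩

theorem GBound.isEmpty {X Y : Scheme.{u}} {f : X ⟶ Y} (hf : GBound f 0) : IsEmpty X := by
  refine ⟨fun x => ?_⟩
  obtain ⟨hfin, hcard⟩ := hf (X.residueField x)
    ((X.fromSpecResidueField x : Spec (CommRingCat.of (X.residueField x)) ⟶ X) ≫ f)
  have hmem : (X.fromSpecResidueField x : Spec (CommRingCat.of (X.residueField x)) ⟶ X) ∈
      {ubar : Spec (CommRingCat.of (X.residueField x)) ⟶ X | ubar ≫ f =
        (X.fromSpecResidueField x : Spec (CommRingCat.of (X.residueField x)) ⟶ X) ≫ f} := rfl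
  have hpos := (Set.ncard_pos hfin).mpr ⟨_, hmem⟩
  omega

/-! ### The diagonal identity for fibre integrals -/

theorem fibreIntegral_diag {X Y : Scheme.{u}} (f : X ⟶ Y) [LocallyQuasiFinite f]
    [LocallyOfFiniteType f] (hfin : ∀ y : Y, (f ⁻¹' {y}).Finite) (R : (pullback f f).Opens)
    (hR : (R : Set (pullback f f : Scheme.{u})) = (Set.range (pullback.diagonal f))ᶜ)
    (w : X → ℤ) (x : X) :
    MoreMor.fibreIntegral (R.ι ≫ pullback.fst f f) (fun r => w (pullback.snd f f (R.ι r))) x +
      w x = MoreMor.fibreIntegral f w (f x) := by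
  have hpb : IsPullback (pullback.snd f f) (pullback.fst f f) f f :=
    (IsPullback.of_hasPullback f f).flip
  have h3 : MoreMor.fibreIntegral (pullback.fst f f) (fun p => w (pullback.snd f f p)) x =
      MoreMor.fibreIntegral f w (f x) :=
    main1418 f hfin (pullback.fst f f) (pullback.snd f f) f hpb w x
  have h2 := fibreIntegral_eq_mem (pullback.fst f f) (fun p => w (pullback.snd f f p)) x
  have h1 := fibreIntegral_opens (pullback.fst f f) R (fun p => w (pullback.snd f f p)) x
  have hΔfst : ∀ z : X, pullback.fst f f (pullback.diagonal f z) = z := fun z =>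
    congrArg (fun m : X ⟶ X => m z) (pullback.diagonal_fst f)
  have hΔsnd : ∀ z : X, pullback.snd f f (pullback.diagonal f z) = z := fun z =>
    congrArg (fun m : X ⟶ X => m z) (pullback.diagonal_snd f)
  obtain ⟨A, hA⟩ : ∃ A : Set (pullback f f : Scheme.{u}),
      A = (R : Set (pullback f f : Scheme.{u})) ∩ (pullback.fst f f) ⁻¹' {x} := ⟨_, rfl⟩
  rw [← hA] at h1
  have hfib : (pullback.fst f f) ⁻¹' {x} = A ∪ {pullback.diagonal f x} := by
    ext p
    constructor
    · intro hp
      by_cases hpR : p ∈ R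
      · left
        rw [hA]
        exact ⟨hpR, hp⟩
      · right
        have hpr : p ∈ Set.range (pullback.diagonal f) := by
          by_contra hn
          apply hpR
          rw [← SetLike.mem_coe, hR]
          exact hn
        obtain ⟨z, rfl⟩ := hpr
        have hz : z = x := by
          rw [← hΔfst z]
          exact hp
        rw [hz]
        rfl
    · rintro (hp | hp)
      · rw [hA] at hp
        exact hp.2
      · rw [Set.mem_singleton_iff] at hp
        rw [hp]
        exact hΔfst x
  have hdisj : Disjoint A {pullback.diagonal f x} := by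
    rw [Set.disjoint_singleton_right, hA]
    rintro ⟨hR', -⟩
    have h5 : pullback.diagonal f x ∈ (Set.range (pullback.diagonal f))ᶜ := by
      rw [← hR]
      exact hR'
    exact h5 ⟨x, rfl⟩
  have hfinfib : ((pullback.fst f f) ⁻¹' {x}).Finite :=
    finite_fibre_of_isPullback f hfin (pullback.fst f f) (pullback.snd f f) f hpb x
  have hfinA : A.Finite := hfinfib.subset (by rw [hfib]; exact Set.subset_union_left)
  have hsep : sepDeg (pullback.fst f f) (pullback.diagonal f x) = 1 := by
    haveI : IsIso (pullback.diagonal f ≫ pullback.fst f f) := by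
      rw [pullback.diagonal_fst]
      infer_instance
    have hb : Function.Bijective
        ((pullback.diagonal f ≫ pullback.fst f f).residueFieldMap x).hom :=
      ConcreteCategory.bijective_of_isIso _
    have hPI := PI_residueFieldMap_of_comp (pullback.diagonal f) (pullback.fst f f) x
      (PI.of_bijective _ hb.2)
    exact sepDeg_eq_one (pullback.fst f f) (pullback.diagonal f x) hPI.isPurelyInseparable
  rw [← h3, h2, h1, hfib, finsum_mem_union hdisj hfinA (Set.finite_singleton _),
    finsum_mem_singleton, hΔsnd, hsep]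
  simp

end Groth.Agent.Lib.WeightH4
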