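import Mathlib
import Groth.Prelude
import Groth.Agent.Lib.WeightDiag_helper4
import Groth.Agent.Lib.GeomCountSch_helper4

set_option autoImplicit false
set_option linter.style.haveILetI false
set_option linter.unusedVariables false
universe u
open CategoryTheory CategoryTheory.Limits AlgebraicGeometry TopologicalSpace Opposite Topology

namespace Groth.Agent.Lib.WeightH4

open PurInsepH4 EtNbhdFinH4 EtLocH4 IsLocalRing

/-- Weightings of locally quasi-finite, locally finitely presented morphisms with at most `d`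
geometric points in each fibre are locally constructible functions. -/
def PropA (d : ℕ) : Prop :=
  ∀ {X Y : Scheme.{u}} (f : X ⟶ Y) [LocallyQuasiFinite f] [LocallyOfFinitePresentation f]
    (w : X → ℤ), MoreMor.IsWeighting f w → GBound f d → LCF w

/-- Fibre integrals of such weightings along separated quasi-compact morphisms are locally
constructible functions. -/
def PropB (d : ℕ) : Prop :=
  ∀ {X Y : Scheme.{u}} (f : X ⟶ Y) [LocallyQuasiFinite f] [LocallyOfFinitePresentation f]
    [QuasiCompact f] [IsSeparated f] (w : X → ℤ), MoreMor.IsWeighting f w → GBound f d →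
    LCF (MoreMor.fibreIntegral f w)

theorem exists_affine_nhd (X : Scheme.{u}) (x : X) :
    ∃ X₀ : X.Opens, IsAffineOpen X₀ ∧ x ∈ X₀ := by
  obtain ⟨_, ⟨X₀, hX₀, rfl⟩, hx, -⟩ :=
    X.isBasis_affineOpens.exists_subset_of_mem_open (Set.mem_univ x) isOpen_univ
  exact ⟨X₀, hX₀, hx⟩

theorem lcf_diag (d : ℕ) (hB : PropB.{u} d) {X Y : Scheme.{u}} (f : X ⟶ Y)
    [LocallyQuasiFinite f] [LocallyOfFinitePresentation f] [QuasiCompact f] [IsSeparated f]
    (w : X → ℤ) (hw : MoreMor.IsWeighting f w) (hd : GBound f (d + 1)) :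
    LCF (MoreMor.fibreIntegral ((diagCompl f).ι ≫ pullback.fst f f)
      (fun r => w (pullback.snd f f ((diagCompl f).ι r)))) := by
  haveI : QuasiCompact (diagCompl f).ι := quasiCompact_diagCompl_ι f
  have hpb : IsPullback (pullback.snd f f) (pullback.fst f f) f f :=
    (IsPullback.of_hasPullback f f).flip
  have hw1 : MoreMor.IsWeighting (pullback.fst f f) (w ∘ ⇑(pullback.snd f f)) :=
    main1419 f w hw (pullback.fst f f) (pullback.snd f f) f hpb
  have hw2 : MoreMor.IsWeighting ((diagCompl f).ι ≫ pullback.fst f f)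
      (fun r => w (pullback.snd f f ((diagCompl f).ι r))) :=
    WeightRestrictH4.main7185 (pullback.fst f f) _ hw1 (diagCompl f)
  have hd2 : GBound ((diagCompl f).ι ≫ pullback.fst f f) d :=
    hd.diag (diagCompl f) (fun p hp => hp)
  exact hB _ _ hw2 hd2

theorem lcf_of_finite (d : ℕ) (hB : PropB.{u} d) {U B : Scheme.{u}} (π : U ⟶ B) [IsFinite π]
    [LocallyOfFinitePresentation π] (wU : U → ℤ) (hw : MoreMor.IsWeighting π wU)
    (hd : GBound π (d + 1)) (hc : IsLocallyConstant (MoreMor.fibreIntegral π wU)) : LCF wU := by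
  have hfin : ∀ b : B, (π ⁻¹' {b}).Finite := fun b => π.finite_preimage_singleton b
  have hLg := lcf_diag d hB π wU hw hd
  have hid := fibreIntegral_diag π hfin (diagCompl π) rfl wU
  have h1 : LCF (fun u => MoreMor.fibreIntegral π wU (π u)) :=
    LCF.comp_hom π (LCF.of_isLocallyConstant hc)
  have h2 := LCF.map₂ (fun a b => a - b) h1 hLg
  refine (congrArg LCF (funext fun u => ?_)).mp h2
  have h3 := hid u
  show MoreMor.fibreIntegral π wU (π u) -
    MoreMor.fibreIntegral ((diagCompl π).ι ≫ pullback.fst π π)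
      (fun r => wU (pullback.snd π π ((diagCompl π).ι r))) u = wU u
  omega

theorem stepA_affine (d : ℕ) (hB : PropB.{u} d) {X Y : Scheme.{u}} [IsAffine X] (f : X ⟶ Y)
    [LocallyQuasiFinite f] [LocallyOfFinitePresentation f] (w : X → ℤ)
    (hw : MoreMor.IsWeighting f w) (hd : GBound f (d + 1)) : LCF w := by
  refine LCF.of_forall_at (fun x => ?_)
  obtain ⟨B, g, hg, -, V, W, v, -, hfinV, hv⟩ :=
    exists_etale_isCompl_of_quasiFiniteAt f (rfl : f x = f x) (f.quasiFiniteAt x)
  haveI : Etale g := hg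
  have hwP : MoreMor.IsWeighting (pullback.snd f g) (w ∘ ⇑(pullback.fst f g)) :=
    main1419 f w hw (pullback.snd f g) (pullback.fst f g) g (IsPullback.of_hasPullback f g)
  have hwV : MoreMor.IsWeighting (V.ι ≫ pullback.snd f g)
      (fun u => w (pullback.fst f g (V.ι u))) :=
    WeightRestrictH4.main7185 (pullback.snd f g) _ hwP V
  have hdP : GBound (pullback.snd f g) (d + 1) :=
    hd.of_isPullback (IsPullback.of_hasPullback f g)
  have hdV : GBound (V.ι ≫ pullback.snd f g) (d + 1) := hdP.comp_mono V.ι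
  have hc : IsLocallyConstant (MoreMor.fibreIntegral (V.ι ≫ pullback.snd f g)
      (fun u => w (pullback.fst f g (V.ι u)))) := hw B g V hfinV
  haveI : IsFinite (V.ι ≫ pullback.snd f g) := hfinV
  have hLV : LCF (fun u : V.toScheme => w (pullback.fst f g (V.ι u))) :=
    lcf_of_finite d hB (V.ι ≫ pullback.snd f g) _ hwV hdV hc
  obtain ⟨U', hU', hvU'⟩ := exists_affine_nhd V.toScheme v
  haveI : IsAffine U'.toScheme := hU'
  have hL' : LCF (fun u' : U'.toScheme => w ((U'.ι ≫ V.ι ≫ pullback.fst f g) u')) :=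
    LCF.comp_hom U'.ι hLV
  have hat := LCFAt.of_hom (U'.ι ≫ V.ι ≫ pullback.fst f g)
    (U'.ι ≫ V.ι ≫ pullback.fst f g).isOpenMap hL' ⟨v, hvU'⟩
  have hpt : (U'.ι ≫ V.ι ≫ pullback.fst f g) ⟨v, hvU'⟩ = x := hv
  rw [hpt] at hat
  exact hat

theorem stepA (d : ℕ) (hB : PropB.{u} d) : PropA.{u} (d + 1) := by
  intro X Y f _ _ w hw hd
  refine LCF.of_local (fun x => ?_)
  obtain ⟨X₀, hX₀, hx⟩ := exists_affine_nhd X x
  refine ⟨X₀, hx, ?_⟩
  haveI : IsAffine X₀.toScheme := hX₀
  exact stepA_affine d hB (X₀.ι ≫ f) (fun x₀ => w (X₀.ι x₀))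
    (WeightRestrictH4.main7185 f w hw X₀) (hd.comp_mono X₀.ι)

theorem fibreIntegral_eq_zero_of_not_mem {X Y : Scheme.{u}} (f : X ⟶ Y) (w : X → ℤ) (y : Y)
    (hy : y ∉ Set.range f) : MoreMor.fibreIntegral f w y = 0 := by
  rw [fibreIntegral_eq_mem]
  have h1 : f ⁻¹' {y} = ∅ := by
    ext x
    simp only [Set.mem_preimage, Set.mem_singleton_iff, Set.mem_empty_iff_false, iff_false]
    intro h
    exact hy ⟨x, h⟩
  rw [h1, finsum_mem_empty]

theorem stepB (d : ℕ) (hB : PropB.{u} d) (hA : PropA.{u} (d + 1)) : PropB.{u} (d + 1) := by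
  intro X Y f _ _ _ _ w hw hd
  have hLw : LCF w := hA f w hw hd
  have hfin : ∀ y : Y, (f ⁻¹' {y}).Finite := fun y => f.finite_preimage_singleton y
  have hLg := lcf_diag d hB f w hw hd
  have hid := fibreIntegral_diag f hfin (diagCompl f) rfl w
  have hcomp : LCF (fun x => MoreMor.fibreIntegral f w (f x)) := by
    have h2 := LCF.map₂ (fun a b => a + b) hLg hLw
    refine (congrArg LCF (funext fun x => ?_)).mp h2
    exact hid x
  exact LCF.of_comp_hom f hcomp (fun y hy => fibreIntegral_eq_zero_of_not_mem f w y hy)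

theorem baseA : PropA.{u} 0 := by
  intro X Y f _ _ w hw hd
  haveI := hd.isEmpty
  exact ⟨fun n x => isEmptyElim x, fun x => isEmptyElim x⟩

theorem baseB : PropB.{u} 0 := by
  intro X Y f _ _ _ _ w hw hd
  haveI := hd.isEmpty
  have h1 : MoreMor.fibreIntegral f w = fun _ => 0 := funext fun y =>
    fibreIntegral_eq_zero_of_not_mem f w y (fun ⟨x, _⟩ => isEmptyElim x)
  rw [h1]
  exact LCF.of_isLocallyConstant (IsLocallyConstant.const 0)

theorem propAB (d : ℕ) : PropA.{u} d ∧ PropB.{u} d := by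
  induction d with
  | zero => exact ⟨baseA, baseB⟩
  | succ d ih => exact ⟨stepA d ih.2, stepB d ih.2 (stepA d ih.2)⟩

/-- Weightings of locally quasi-finite, locally finitely presented morphisms are LCF. -/
theorem lcf_of_lfp {X Y : Scheme.{u}} (f : X ⟶ Y) [LocallyQuasiFinite f]
    [LocallyOfFinitePresentation f] (w : X → ℤ) (hw : MoreMor.IsWeighting f w) : LCF w := by
  refine LCF.of_local (fun x => ?_)
  obtain ⟨X₀, hX₀, hx⟩ := exists_affine_nhd X x
  refine ⟨X₀, hx, ?_⟩
  haveI : IsAffine X₀.toScheme := hX₀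
  obtain ⟨d, hd⟩ := GeomCountH4.exists_bound_geomPoints (X₀.ι ≫ f)
  exact (propAB d).1 (X₀.ι ≫ f) (fun x₀ => w (X₀.ι x₀))
    (WeightRestrictH4.main7185 f w hw X₀) hd

/-- Fibre integrals along separated quasi-compact lqf lfp morphisms with compact source. -/
theorem lcf_fibreIntegral_of_sep {X Y : Scheme.{u}} (f : X ⟶ Y) [LocallyQuasiFinite f]
    [LocallyOfFinitePresentation f] [QuasiCompact f] [IsSeparated f] [CompactSpace X]
    (w : X → ℤ) (hw : MoreMor.IsWeighting f w) : LCF (MoreMor.fibreIntegral f w) := by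
  obtain ⟨d, hd⟩ := GeomCountH4.exists_bound_geomPoints f
  exact (propAB d).2 f w hw hd

end Groth.Agent.Lib.WeightH4
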