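import Mathlib
import Groth.Prelude
import Groth.Agent.Lib.WeightCons_helper4

set_option autoImplicit false
set_option linter.style.haveILetI false
set_option linter.unusedVariables false
universe u
open CategoryTheory CategoryTheory.Limits AlgebraicGeometry TopologicalSpace Opposite Topology

namespace Groth.Agent.Lib.WeightH4

open PurInsepH4 EtNbhdFinH4 EtLocH4 IsLocalRing

theorem residueFieldMap_bijective_of_isClosedImmersion {Z P : Scheme.{u}} (j : Z ⟶ P)
    [IsClosedImmersion j] (z : Z) : Function.Bijective (j.residueFieldMap z) := by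
  refine ⟨(j.residueFieldMap z).hom.injective, ?_⟩
  have h1 := Scheme.residue_residueFieldMap j z
  have h2 : Function.Surjective (j.stalkMap z ≫ Z.residue z) := by
    have h3 : ⇑(j.stalkMap z ≫ Z.residue z) = ⇑(Z.residue z) ∘ ⇑(j.stalkMap z) := by
      ext a
      rfl
    rw [h3]
    exact (Z.residue_surjective z).comp (j.stalkMap_surjective z)
  rw [← h1] at h2
  have h4 : ⇑(P.residue (j z) ≫ j.residueFieldMap z) =
      ⇑(j.residueFieldMap z) ∘ ⇑(P.residue (j z)) := by
    ext a
    rfl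
  rw [h4] at h2
  exact Function.Surjective.of_comp h2

/-- Extension by zero of a weighting along a closed immersion is a weighting. -/
theorem isWeighting_extendZero {Z X Y : Scheme.{u}} (ι : Z ⟶ X) [IsClosedImmersion ι]
    (f : X ⟶ Y) [LocallyQuasiFinite f] [LocallyOfFiniteType f] (wZ : Z → ℤ)
    (hw : MoreMor.IsWeighting (ι ≫ f) wZ) (wX : X → ℤ) (h1 : ∀ z, wX (ι z) = wZ z)
    (h0 : ∀ x, x ∉ Set.range ι → wX x = 0) : MoreMor.IsWeighting f wX := by
  intro V g _ T hfinT
  have s1 : IsPullback (pullback.fst ι (pullback.fst f g)) (pullback.snd ι (pullback.fst f g)) ι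
      (pullback.fst f g) := IsPullback.of_hasPullback _ _
  have s2 : IsPullback (pullback.fst f g) (pullback.snd f g) f g := IsPullback.of_hasPullback _ _
  have hpbZ : IsPullback (pullback.fst ι (pullback.fst f g))
      (pullback.snd ι (pullback.fst f g) ≫ pullback.snd f g) (ι ≫ f) g := s1.paste_vert s2
  have hfinTZ : IsFinite (((pullback.snd ι (pullback.fst f g)) ⁻¹ᵁ T).ι ≫
      pullback.snd ι (pullback.fst f g) ≫ pullback.snd f g) := by
    have e : ((pullback.snd ι (pullback.fst f g)) ⁻¹ᵁ T).ι ≫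
        pullback.snd ι (pullback.fst f g) ≫ pullback.snd f g =
        ((pullback.snd ι (pullback.fst f g)) ∣_ T) ≫ T.ι ≫ pullback.snd f g := by
      rw [← Category.assoc, ← morphismRestrict_ι, Category.assoc]
    rw [e]
    haveI := hfinT
    infer_instance
  have hlc := isWeighting_isPullback (ι ≫ f) wZ hw hpbZ
    ((pullback.snd ι (pullback.fst f g)) ⁻¹ᵁ T) hfinTZ
  refine (congrArg IsLocallyConstant (funext fun v => ?_)).mp hlc
  rw [fibreIntegral_opens (pullback.snd ι (pullback.fst f g) ≫ pullback.snd f g)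
      ((pullback.snd ι (pullback.fst f g)) ⁻¹ᵁ T)
      (fun z => wZ (pullback.fst ι (pullback.fst f g) z)) v,
    fibreIntegral_opens (pullback.snd f g) T (fun p => wX (pullback.fst f g p)) v]
  -- pointwise comparison
  have hcond : ∀ z : ↥(pullback ι (pullback.fst f g)),
      ι (pullback.fst ι (pullback.fst f g) z) =
        pullback.fst f g (pullback.snd ι (pullback.fst f g) z) := fun z =>
    congrArg (fun m : pullback ι (pullback.fst f g) ⟶ X => m z) pullback.condition
  have hterm : ∀ z : ↥(pullback ι (pullback.fst f g)),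
      wZ (pullback.fst ι (pullback.fst f g) z) *
        (sepDeg (pullback.snd ι (pullback.fst f g) ≫ pullback.snd f g) z : ℤ) =
      wX (pullback.fst f g (pullback.snd ι (pullback.fst f g) z)) *
        (sepDeg (pullback.snd f g) (pullback.snd ι (pullback.fst f g) z) : ℤ) := by
    intro z
    rw [← hcond z, h1, sepDeg_comp (pullback.snd ι (pullback.fst f g)) (pullback.snd f g) z
      (residueFieldMap_bijective_of_isClosedImmersion _ z)]
  rw [finsum_mem_congr rfl (fun z _ => hterm z)]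
  have hinj : Function.Injective (pullback.snd ι (pullback.fst f g)) :=
    (pullback.snd ι (pullback.fst f g)).isClosedEmbedding.injective
  rw [← finsum_mem_image (f := fun p => wX (pullback.fst f g p) *
    (sepDeg (pullback.snd f g) p : ℤ)) (hinj.injOn)]
  refine finsum_mem_inter_support_eq' _ _ _ (fun p hp => ?_)
  constructor
  · rintro ⟨z, ⟨hzT, hzv⟩, rfl⟩
    exact ⟨hzT, hzv⟩
  · rintro ⟨hpT, hpv⟩
    have hne : wX (pullback.fst f g p) ≠ 0 := by
      intro h
      apply hp
      show wX (pullback.fst f g p) * (sepDeg (pullback.snd f g) p : ℤ) = 0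
      rw [h, zero_mul]
    have hr : pullback.fst f g p ∈ Set.range ι := by
      by_contra hn
      exact hne (h0 _ hn)
    obtain ⟨z₀, hz₀⟩ := hr
    obtain ⟨z, hz1, hz2⟩ := Scheme.exists_preimage_of_isPullback s1 z₀ p hz₀
    have hz2' : pullback.snd ι (pullback.fst f g) z = p := hz2
    refine ⟨z, ⟨?_, ?_⟩, hz2'⟩
    · show pullback.snd ι (pullback.fst f g) z ∈ T
      rw [hz2']
      exact hpT
    · show pullback.snd f g (pullback.snd ι (pullback.fst f g) z) = v
      rw [hz2']
      exact hpv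

/-- extension by zero of a function along a map -/
noncomputable def extendZero {Z X : Type*} (ι : Z → X) (wZ : Z → ℤ) : X → ℤ := fun x =>
  open Classical in if h : x ∈ Set.range ι then wZ h.choose else 0

theorem extendZero_apply {Z X : Type*} (ι : Z → X) (hι : Function.Injective ι) (wZ : Z → ℤ)
    (z : Z) : extendZero ι wZ (ι z) = wZ z := by
  unfold extendZero
  have h : ι z ∈ Set.range ι := ⟨z, rfl⟩
  rw [dif_pos h]
  exact congrArg wZ (hι h.choose_spec)

theorem extendZero_of_not_mem {Z X : Type*} (ι : Z → X) (wZ : Z → ℤ) (x : X)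
    (hx : x ∉ Set.range ι) : extendZero ι wZ x = 0 := by
  unfold extendZero
  rw [dif_neg hx]

/-- A finite ring map is a quotient of a finite and finitely presented one. -/
theorem exists_finite_fp_cover {A C : Type u} [CommRing A] [CommRing C] (φ : A →+* C)
    (hφ : φ.Finite) :
    ∃ (C' : Type u) (_ : CommRing C') (α : A →+* C') (β : C' →+* C),
      α.Finite ∧ α.FinitePresentation ∧ Function.Surjective β ∧ β.comp α = φ := by
  letI : Algebra A C := φ.toAlgebra
  haveI : Module.Finite A C := hφ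
  obtain ⟨n, f, hf⟩ := Algebra.FiniteType.iff_quotient_mvPolynomial''.mp
    (inferInstance : Algebra.FiniteType A C)
  have hint : ∀ i : Fin n, ∃ p : Polynomial A, p.Monic ∧
      Polynomial.aeval (f (MvPolynomial.X i)) p = 0 := by
    intro i
    obtain ⟨p, hp, hp0⟩ := Algebra.IsIntegral.isIntegral (R := A) (f (MvPolynomial.X i))
    exact ⟨p, hp, (Polynomial.aeval_def _ _).trans hp0⟩
  choose p hpm hp0 using hint
  obtain ⟨I, hI⟩ : ∃ I : Ideal (MvPolynomial (Fin n) A), I = Ideal.span (Set.range fun i =>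
      Polynomial.aeval (MvPolynomial.X i : MvPolynomial (Fin n) A) (p i)) := ⟨_, rfl⟩
  have hIfg : I.FG := by
    rw [hI]
    exact Submodule.fg_span (Set.finite_range _)
  have hmemI : ∀ i, Polynomial.aeval (MvPolynomial.X i : MvPolynomial (Fin n) A) (p i) ∈ I := by
    intro i
    rw [hI]
    exact Ideal.subset_span ⟨i, rfl⟩
  have hIker : ∀ a ∈ I, f a = 0 := by
    intro a ha
    rw [hI] at ha
    have hle : Ideal.span (Set.range fun i =>
        Polynomial.aeval (MvPolynomial.X i : MvPolynomial (Fin n) A) (p i)) ≤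
        RingHom.ker f.toRingHom := by
      rw [Ideal.span_le]
      rintro _ ⟨i, rfl⟩
      show f (Polynomial.aeval (MvPolynomial.X i) (p i)) = 0
      rw [← Polynomial.aeval_algHom_apply]
      exact hp0 i
    exact hle ha
  haveI : Algebra.FinitePresentation A (MvPolynomial (Fin n) A ⧸ I) :=
    Algebra.FinitePresentation.quotient hIfg
  have hx : ∀ i, IsIntegral A (Ideal.Quotient.mk I (MvPolynomial.X i)) := by
    intro i
    refine ⟨p i, hpm i, ?_⟩
    have h1 := Polynomial.aeval_algHom_apply (Ideal.Quotient.mkₐ A I)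
      (MvPolynomial.X i : MvPolynomial (Fin n) A) (p i)
    have h2 : (Ideal.Quotient.mkₐ A I) (Polynomial.aeval
        (MvPolynomial.X i : MvPolynomial (Fin n) A) (p i)) = 0 :=
      Ideal.Quotient.eq_zero_iff_mem.mpr (hmemI i)
    rw [h2] at h1
    exact (Polynomial.aeval_def _ _).symm.trans h1
  haveI : Algebra.IsIntegral A (MvPolynomial (Fin n) A ⧸ I) := ⟨fun z => by
    obtain ⟨q, rfl⟩ := Ideal.Quotient.mk_surjective z
    induction q using MvPolynomial.induction_on with
    | C a =>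
      have h3 : Ideal.Quotient.mk I (MvPolynomial.C a) =
          algebraMap A (MvPolynomial (Fin n) A ⧸ I) a := rfl
      rw [h3]
      exact isIntegral_algebraMap
    | add q₁ q₂ h₁ h₂ =>
      rw [map_add]
      exact h₁.add h₂
    | mul_X q i h =>
      rw [map_mul]
      exact h.mul (hx i)⟩
  haveI : Module.Finite A (MvPolynomial (Fin n) A ⧸ I) := Algebra.IsIntegral.finite
  refine ⟨MvPolynomial (Fin n) A ⧸ I, inferInstance,
    algebraMap A (MvPolynomial (Fin n) A ⧸ I), (Ideal.Quotient.liftₐ I f hIker).toRingHom,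
    RingHom.finite_algebraMap.mpr inferInstance,
    RingHom.finitePresentation_algebraMap.mpr inferInstance, ?_, ?_⟩
  · intro c
    obtain ⟨q, hq⟩ := hf c
    exact ⟨Ideal.Quotient.mk I q, hq⟩
  · exact RingHom.ext fun a => (Ideal.Quotient.liftₐ I f hIker).commutes a

theorem exists_closedImmersion_finite_lfp {V₀ B₀ : Scheme.{u}} [IsAffine B₀] (π₀ : V₀ ⟶ B₀)
    [IsFinite π₀] :
    ∃ (V' : Scheme.{u}) (ι' : V₀ ⟶ V') (π' : V' ⟶ B₀), IsClosedImmersion ι' ∧ IsFinite π' ∧
      LocallyOfFinitePresentation π' ∧ ι' ≫ π' = π₀ := by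
  haveI : IsAffine V₀ := isAffine_of_isAffineHom π₀
  obtain ⟨C', _, α, β, hα, hαfp, hβ, hcomp⟩ :=
    exists_finite_fp_cover π₀.appTop.hom π₀.finite_appTop
  refine ⟨Spec (CommRingCat.of C'), V₀.isoSpec.hom ≫ Spec.map (CommRingCat.ofHom β),
    Spec.map (CommRingCat.ofHom α) ≫ B₀.isoSpec.inv, ?_, ?_, ?_, ?_⟩
  · haveI : IsClosedImmersion (Spec.map (CommRingCat.ofHom β)) :=
      IsClosedImmersion.spec_of_surjective _ hβ
    infer_instance
  · haveI : IsFinite (Spec.map (CommRingCat.ofHom α)) := (IsFinite.SpecMap_iff _).mpr hα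
    infer_instance
  · haveI : LocallyOfFinitePresentation (Spec.map (CommRingCat.ofHom α)) :=
      (LocallyOfFinitePresentation.SpecMap_iff _).mpr hαfp
    infer_instance
  · have h1 : CommRingCat.ofHom α ≫ CommRingCat.ofHom β = π₀.appTop := by
      ext a
      exact congrArg (fun r : Γ(B₀, ⊤) →+* Γ(V₀, ⊤) => r a) hcomp
    simp only [Category.assoc]
    rw [← Spec.map_comp_assoc, h1, Scheme.isoSpec_hom_naturality_assoc, Iso.hom_inv_id,
      Category.comp_id]

theorem lcf_of_lft_affine {X Y : Scheme.{u}} [IsAffine X] (f : X ⟶ Y) [LocallyQuasiFinite f]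
    [LocallyOfFiniteType f] (w : X → ℤ) (hw : MoreMor.IsWeighting f w) : LCF w := by
  refine LCF.of_forall_at (fun x => ?_)
  obtain ⟨B, g, hg, -, V, W, v, -, hfinV, hv⟩ :=
    exists_etale_isCompl_of_quasiFiniteAt f (rfl : f x = f x) (f.quasiFiniteAt x)
  haveI : Etale g := hg
  have hwP : MoreMor.IsWeighting (pullback.snd f g) (w ∘ ⇑(pullback.fst f g)) :=
    main1419 f w hw (pullback.snd f g) (pullback.fst f g) g (IsPullback.of_hasPullback f g)
  have hwV : MoreMor.IsWeighting (V.ι ≫ pullback.snd f g)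
      (fun u => w (pullback.fst f g (V.ι u))) :=
    WeightRestrictH4.main7185 (pullback.snd f g) _ hwP V
  haveI : IsFinite (V.ι ≫ pullback.snd f g) := hfinV
  obtain ⟨B₀, hB₀, hb₀⟩ := exists_affine_nhd B ((V.ι ≫ pullback.snd f g) v)
  haveI : IsAffine B₀.toScheme := hB₀
  have hw₀ : MoreMor.IsWeighting ((V.ι ≫ pullback.snd f g) ∣_ B₀)
      (fun z => w (pullback.fst f g (V.ι (((V.ι ≫ pullback.snd f g) ⁻¹ᵁ B₀).ι z)))) :=
    main1419 (V.ι ≫ pullback.snd f g) _ hwV ((V.ι ≫ pullback.snd f g) ∣_ B₀)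
      ((V.ι ≫ pullback.snd f g) ⁻¹ᵁ B₀).ι B₀.ι (isPullback_morphismRestrict _ _).flip
  obtain ⟨V', ι', π', hι', hπ'fin, hπ'fp, hfac⟩ :=
    exists_closedImmersion_finite_lfp ((V.ι ≫ pullback.snd f g) ∣_ B₀)
  haveI := hι'
  haveI := hπ'fin
  haveI := hπ'fp
  have hw₀' : MoreMor.IsWeighting (ι' ≫ π')
      (fun z => w (pullback.fst f g (V.ι (((V.ι ≫ pullback.snd f g) ⁻¹ᵁ B₀).ι z)))) := by
    rw [hfac]
    exact hw₀
  have hinj : Function.Injective ι' := ι'.isClosedEmbedding.injective
  have hwX : MoreMor.IsWeighting π' (extendZero ι'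
      (fun z => w (pullback.fst f g (V.ι (((V.ι ≫ pullback.snd f g) ⁻¹ᵁ B₀).ι z))))) :=
    isWeighting_extendZero ι' π' _ hw₀' _ (fun z => extendZero_apply ι' hinj _ z)
      (fun p hp => extendZero_of_not_mem ι' _ p hp)
  have hLX := lcf_of_lfp π' _ hwX
  have hL₀ : LCF (fun z : ((V.ι ≫ pullback.snd f g) ⁻¹ᵁ B₀).toScheme =>
      w ((((V.ι ≫ pullback.snd f g) ⁻¹ᵁ B₀).ι ≫ V.ι ≫ pullback.fst f g) z)) := by
    have h2 := LCF.comp_hom ι' hLX
    refine (congrArg LCF (funext fun z => ?_)).mp h2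
    exact extendZero_apply ι' hinj _ z
  haveI : IsAffine ((V.ι ≫ pullback.snd f g) ⁻¹ᵁ B₀).toScheme :=
    isAffine_of_isAffineHom ((V.ι ≫ pullback.snd f g) ∣_ B₀)
  have hat := LCFAt.of_hom (((V.ι ≫ pullback.snd f g) ⁻¹ᵁ B₀).ι ≫ V.ι ≫ pullback.fst f g)
    (((V.ι ≫ pullback.snd f g) ⁻¹ᵁ B₀).ι ≫ V.ι ≫ pullback.fst f g).isOpenMap hL₀ ⟨v, hb₀⟩
  have hpt : (((V.ι ≫ pullback.snd f g) ⁻¹ᵁ B₀).ι ≫ V.ι ≫ pullback.fst f g) ⟨v, hb₀⟩ = x := hv
  rw [hpt] at hat
  exact hat

/-- Weightings of locally quasi-finite morphisms (locally of finite type) are LCF. -/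
theorem lcf_of_lft {X Y : Scheme.{u}} (f : X ⟶ Y) [LocallyQuasiFinite f]
    [LocallyOfFiniteType f] (w : X → ℤ) (hw : MoreMor.IsWeighting f w) : LCF w := by
  refine LCF.of_local (fun x => ?_)
  obtain ⟨X₀, hX₀, hx⟩ := exists_affine_nhd X x
  refine ⟨X₀, hx, ?_⟩
  haveI : IsAffine X₀.toScheme := hX₀
  exact lcf_of_lft_affine (X₀.ι ≫ f) (fun x₀ => w (X₀.ι x₀))
    (WeightRestrictH4.main7185 f w hw X₀)

theorem main1423 {X Y : Scheme.{u}} (f : X ⟶ Y) [LocallyQuasiFinite f] [LocallyOfFiniteType f]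
    (w : ↑X → ℤ) (hw : MoreMor.IsWeighting f w) (n : ℤ) :
    Topology.IsLocallyConstructible {x : ↑X | w x = n} :=
  (lcf_of_lft f w hw).1 n

end Groth.Agent.Lib.WeightH4
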