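import Mathlib
import Groth.Prelude
import Groth.Agent.Lib.WeightFT_helper4

set_option autoImplicit false
set_option linter.style.haveILetI false
set_option linter.unusedVariables false
universe u
open CategoryTheory CategoryTheory.Limits AlgebraicGeometry TopologicalSpace Opposite Topology

namespace Groth.Agent.Lib.WeightH4

open PurInsepH4 EtNbhdFinH4 EtLocH4 IsLocalRing

theorem lcf_sum_of_le_affine {X Y : Scheme.{u}} (f : X ⟶ Y) [LocallyQuasiFinite f]
    [LocallyOfFinitePresentation f] [QuasiSeparatedSpace Y] (w : X → ℤ)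
    (hw : MoreMor.IsWeighting f w) (U : X.Opens) (hU : IsAffineOpen U) (T : X.Opens)
    (hTU : T ≤ U) (hT : IsCompact (T : Set X)) :
    LCF (fun y : Y => ∑ᶠ p ∈ ((T : Set X) ∩ f ⁻¹' {y}), w p * (sepDeg f p : ℤ)) := by
  haveI : IsAffine U.toScheme := hU
  haveI : CompactSpace T.toScheme := isCompact_iff_compactSpace.mp hT
  have e : T.ι ≫ f = X.homOfLE hTU ≫ (U.ι ≫ f) := by
    rw [← Category.assoc, X.homOfLE_ι]
  haveI : IsSeparated (T.ι ≫ f) := by rw [e]; infer_instance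
  haveI : QuasiCompact (T.ι ≫ f) := inferInstance
  have h := lcf_fibreIntegral_of_sep (T.ι ≫ f) (fun t => w (T.ι t))
    (WeightRestrictH4.main7185 f w hw T)
  exact (congrArg LCF (funext fun y => fibreIntegral_opens f T w y)).mp h

theorem lcf_sum_of_isCompact {X Y : Scheme.{u}} (f : X ⟶ Y) [LocallyQuasiFinite f]
    [LocallyOfFinitePresentation f] [QuasiSeparatedSpace Y] [QuasiSeparatedSpace X] (w : X → ℤ)
    (hw : MoreMor.IsWeighting f w) (hfin : ∀ y : Y, (f ⁻¹' {y}).Finite)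
    (Z : X.Opens) (hZ : IsCompact (Z : Set X)) :
    LCF (fun y : Y => ∑ᶠ p ∈ ((Z : Set X) ∩ f ⁻¹' {y}), w p * (sepDeg f p : ℤ)) := by
  refine compact_open_induction_on
    (P := fun Z : X.Opens =>
      LCF (fun y : Y => ∑ᶠ p ∈ ((Z : Set X) ∩ f ⁻¹' {y}), w p * (sepDeg f p : ℤ))) Z hZ ?_ ?_
  · have h0 : (fun y : Y => ∑ᶠ p ∈ (((⊥ : X.Opens) : Set X) ∩ f ⁻¹' {y}),
        w p * (sepDeg f p : ℤ)) = fun _ => (0 : ℤ) := funext fun y => by
      rw [Opens.coe_bot, Set.empty_inter, finsum_mem_empty]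
    exact (congrArg LCF h0).mpr (LCF.of_isLocallyConstant (IsLocallyConstant.const 0))
  · intro S hS U hPS
    show LCF (fun y : Y => ∑ᶠ p ∈ (((S ⊔ U.1 : X.Opens) : Set X) ∩ f ⁻¹' {y}),
      w p * (sepDeg f p : ℤ))
    have hPS' : LCF (fun y : Y => ∑ᶠ p ∈ ((S : Set X) ∩ f ⁻¹' {y}),
      w p * (sepDeg f p : ℤ)) := hPS
    have hU := lcf_sum_of_le_affine f w hw U.1 U.2 U.1 le_rfl U.2.isCompact
    have hSU := lcf_sum_of_le_affine f w hw U.1 U.2 (S ⊓ U.1) inf_le_right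
      (QuasiSeparatedSpace.inter_isCompact (S : Set X) (U.1 : Set X) S.isOpen hS U.1.isOpen
        U.2.isCompact)
    have h1 := (hPS'.map₂ (fun a b => a + b) hU).map₂ (fun a b => a - b) hSU
    refine (congrArg LCF (funext fun y => ?_)).mp h1
    have h := finsum_mem_union_inter (f := fun p : X => w p * (sepDeg f p : ℤ))
      (s := (S : Set X) ∩ f ⁻¹' {y}) (t := (U.1 : Set X) ∩ f ⁻¹' {y})
      ((hfin y).subset Set.inter_subset_right) ((hfin y).subset Set.inter_subset_right)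
    rw [← Set.union_inter_distrib_right, ← Set.inter_inter_distrib_right] at h
    have h' : ∑ᶠ p ∈ (((S ⊔ U.1 : X.Opens) : Set X) ∩ f ⁻¹' {y}), w p * (sepDeg f p : ℤ) +
        ∑ᶠ p ∈ (((S ⊓ U.1 : X.Opens) : Set X) ∩ f ⁻¹' {y}), w p * (sepDeg f p : ℤ) =
        ∑ᶠ p ∈ ((S : Set X) ∩ f ⁻¹' {y}), w p * (sepDeg f p : ℤ) +
        ∑ᶠ p ∈ ((U.1 : Set X) ∩ f ⁻¹' {y}), w p * (sepDeg f p : ℤ) := h
    beta_reduce
    linarith

theorem lcf_fibreIntegral_qcqs_aux {X Y : Scheme.{u}} (f : X ⟶ Y) [LocallyQuasiFinite f]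
    [LocallyOfFinitePresentation f] [QuasiSeparatedSpace Y] [QuasiSeparatedSpace X]
    [CompactSpace X] (w : X → ℤ) (hw : MoreMor.IsWeighting f w) :
    LCF (MoreMor.fibreIntegral f w) := by
  haveI : QuasiCompact f := inferInstance
  have hfin : ∀ y : Y, (f ⁻¹' {y}).Finite := fun y => Scheme.Hom.finite_preimage_singleton f y
  have h := lcf_sum_of_isCompact f w hw hfin ⊤ isCompact_univ
  refine (congrArg LCF (funext fun y => ?_)).mp h
  rw [fibreIntegral_eq_mem, Opens.coe_top, Set.univ_inter]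

theorem lcf_fibreIntegral_qcqs {X Y : Scheme.{u}} (f : X ⟶ Y) [LocallyQuasiFinite f]
    [LocallyOfFinitePresentation f] [QuasiCompact f] [QuasiSeparated f]
    (w : X → ℤ) (hw : MoreMor.IsWeighting f w) : LCF (MoreMor.fibreIntegral f w) := by
  have hfin : ∀ y : Y, (f ⁻¹' {y}).Finite := fun y => Scheme.Hom.finite_preimage_singleton f y
  refine LCF.of_local (fun y => ?_)
  obtain ⟨V, hV, hy⟩ := exists_affine_nhd Y y
  refine ⟨V, hy, ?_⟩
  haveI : IsAffine V.toScheme := hV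
  have hsq : IsPullback (f ⁻¹ᵁ V).ι (f ∣_ V) f V.ι := (isPullback_morphismRestrict f V).flip
  haveI : LocallyQuasiFinite (f ∣_ V) :=
    MorphismProperty.of_isPullback (P := @LocallyQuasiFinite) hsq inferInstance
  haveI : LocallyOfFinitePresentation (f ∣_ V) :=
    MorphismProperty.of_isPullback (P := @LocallyOfFinitePresentation) hsq inferInstance
  haveI : QuasiCompact (f ∣_ V) :=
    MorphismProperty.of_isPullback (P := @QuasiCompact) hsq inferInstance
  haveI : QuasiSeparated (f ∣_ V) :=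
    MorphismProperty.of_isPullback (P := @QuasiSeparated) hsq inferInstance
  haveI : CompactSpace (f ⁻¹ᵁ V).toScheme := QuasiCompact.compactSpace_of_compactSpace (f ∣_ V)
  haveI : QuasiSeparatedSpace (f ⁻¹ᵁ V).toScheme :=
    quasiSeparatedSpace_of_quasiSeparated (f ∣_ V)
  have hw' := main1419 f w hw (f ∣_ V) (f ⁻¹ᵁ V).ι V.ι hsq
  have h := lcf_fibreIntegral_qcqs_aux (f ∣_ V) _ hw'
  refine (congrArg LCF (funext fun v => ?_)).mp h
  exact main1418 f hfin (f ∣_ V) (f ⁻¹ᵁ V).ι V.ι hsq w v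

theorem main1424 {X Y : Scheme.{u}} (f : X ⟶ Y) [LocallyQuasiFinite f]
    [LocallyOfFinitePresentation f] [QuasiCompact f] [QuasiSeparated f]
    (w : ↑X → ℤ) (hw : MoreMor.IsWeighting f w) (n : ℤ) :
    Topology.IsLocallyConstructible {y : ↑Y | MoreMor.fibreIntegral f w y = n} :=
  (lcf_fibreIntegral_qcqs f w hw).1 n

end Groth.Agent.Lib.WeightH4
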