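import Mathlib
import Groth.Prelude
import Groth.Agent.Lib.LocDeg3_helper4
import Groth.Agent.Lib.WeightQS_helper4

/-!
# The degree function of a separated flat quasi-finite morphism and its stratification (helper4)
-/

set_option autoImplicit false
set_option linter.style.haveILetI false
set_option linter.unusedVariables false
universe u
open CategoryTheory CategoryTheory.Limits AlgebraicGeometry TopologicalSpace Opposite Topology

namespace Groth.Agent.Lib.DegStratH4

open IsLocalRing Groth.Agent.Lib.WeightH4 PurInsepH4 EtNbhdFinH4 EtLocH4 Groth.Agent.Lib.LocDegH4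

section Top

/-- Constructible subsets of a spectral space are quasi-compact. -/
theorem isCompact_of_isConstructible {X : Type*} [TopologicalSpace X] [CompactSpace X]
    [QuasiSober X] [PrespectralSpace X] [QuasiSeparatedSpace X] {s : Set X}
    (hs : IsConstructible s) : IsCompact s := by
  have key : IsClopen ((WithTopology.ofTopology : WithConstructibleTopology X → X) ⁻¹' s) := by
    induction hs using IsConstructible.empty_union_induction with
    | open_retrocompact U hUo hUc =>
      have hc : IsCompact U := hUc.isCompact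
      constructor
      · rw [← isOpen_compl_iff]
        exact WithConstructibleTopology.isOpen_iff.mpr
          (IsCompact.isOpen_constructibleTopology_of_isClosed (s := Uᶜ)
            (by rwa [compl_compl]) hUo.isClosed_compl)
      · exact WithConstructibleTopology.isOpen_iff.mpr
          (hc.isOpen_constructibleTopology_of_isOpen hUo)
    | union s hs t ht ihs iht => exact ihs.union iht
    | compl s hs ih => exact ih.compl
  have hcont : Continuous (WithTopology.ofTopology : WithConstructibleTopology X → X) := by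
    rw [continuous_def]
    intro U hU
    obtain ⟨S, hS, rfl⟩ := PrespectralSpace.isTopologicalBasis.open_eq_sUnion hU
    rw [Set.preimage_sUnion]
    exact isOpen_biUnion (fun V hV => WithConstructibleTopology.isOpen_iff.mpr
      ((hS hV).2.isOpen_constructibleTopology_of_isOpen (hS hV).1))
  have h1 : IsCompact ((WithTopology.ofTopology : WithConstructibleTopology X → X) ⁻¹' s) :=
    key.1.isCompact
  have h2 := h1.image hcont
  rwa [Set.image_preimage_eq s (WithTopology.ofTopology_surjective _)] at h2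

end Top

section Deg

variable {X S : Scheme.{u}}

theorem fibreIntegral_nonneg (f : X ⟶ S) (w : X → ℤ) (hpos : ∀ x, 0 < w x) (s : S) :
    0 ≤ MoreMor.fibreIntegral f w s := by
  rw [fibreIntegral_eq]
  exact finsum_nonneg (fun x => mul_nonneg (hpos x.1).le (Int.natCast_nonneg _))

/-- The degree function. -/
noncomputable def degFun (f : X ⟶ S) (s : S) : ℕ :=
  (MoreMor.fibreIntegral f (wCan f) s).toNat

theorem degFun_cast (f : X ⟶ S) [LocallyQuasiFinite f] (s : S) :
    ((degFun f s : ℕ) : ℤ) = MoreMor.fibreIntegral f (wCan f) s :=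
  Int.toNat_of_nonneg (fibreIntegral_nonneg f (wCan f) (wCan_pos f) s)

theorem isClosed_degFun_le (f : X ⟶ S) [Flat f] [LocallyOfFinitePresentation f] [IsSeparated f]
    [LocallyQuasiFinite f] (hfin : ∀ s : S, (f ⁻¹' {s}).Finite) (r : ℕ) :
    IsClosed {s : ↑S | degFun f s ≤ r} := by
  have hlsc := main1426 f hfin (wCan f) (isWeighting_wCan f) (wCan_pos f)
  have h1 : {s : ↑S | degFun f s ≤ r} =
      ((MoreMor.fibreIntegral f (wCan f)) ⁻¹' Set.Ioi (r : ℤ))ᶜ := by
    ext s
    simp only [Set.mem_setOf_eq, Set.mem_compl_iff, Set.mem_preimage, Set.mem_Ioi, not_lt]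
    rw [← degFun_cast f s]
    exact Nat.cast_le.symm
  rw [h1]
  exact (hlsc.isOpen_preimage _).isClosed_compl

theorem isFinite_of_forall_mem {P T : Scheme.{u}} (π : P ⟶ T) (O : T.Opens)
    (hO : ∀ t : T, t ∈ O) (h : IsFinite (π ∣_ O)) : IsFinite π := by
  haveI := h
  haveI : Surjective O.ι := ⟨fun t => ⟨⟨t, hO t⟩, rfl⟩⟩
  haveI : IsIso O.ι :=
    (isIso_iff_isOpenImmersion_and_surjective _).mpr ⟨inferInstance, inferInstance⟩
  haveI : Surjective (π ⁻¹ᵁ O).ι := ⟨fun p => ⟨⟨p, hO _⟩, rfl⟩⟩
  haveI : IsIso (π ⁻¹ᵁ O).ι :=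
    (isIso_iff_isOpenImmersion_and_surjective _).mpr ⟨inferInstance, inferInstance⟩
  have h1 : IsFinite ((π ⁻¹ᵁ O).ι ≫ π) := by
    rw [← morphismRestrict_ι]; infer_instance
  haveI := h1
  have h2 : π = inv (π ⁻¹ᵁ O).ι ≫ ((π ⁻¹ᵁ O).ι ≫ π) := by
    rw [IsIso.inv_hom_id_assoc]
  rw [h2]; infer_instance

theorem isFinLocFreeOfDeg_iff (f : X ⟶ S) [Flat f] [LocallyOfFinitePresentation f]
    [IsSeparated f] [LocallyQuasiFinite f] (hfin : ∀ s : S, (f ⁻¹' {s}).Finite)
    (T : Scheme.{u}) (g : T ⟶ S) (r : ℕ) :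
    Mor2.IsFinLocFreeOfDeg r (pullback.snd f g) ↔ ∀ t : T, degFun f (g t) = r := by
  have hpb := IsPullback.of_hasPullback f g
  constructor
  · rintro ⟨⟨h1, h2, h3⟩, h4⟩ t
    haveI := h1
    have h5 := finrank_eq_fibreIntegral f hfin (pullback.fst f g) (pullback.snd f g) g hpb t
    rw [h4 t, ← degFun_cast f (g t)] at h5
    exact_mod_cast h5.symm
  · intro hdeg
    have hI : ∀ t : T, MoreMor.fibreIntegral f (wCan f) (g t) = (r : ℤ) := fun t => by
      rw [← degFun_cast, hdeg t]
    have hfinite : IsFinite (pullback.snd f g) := by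
      by_cases hT : IsEmpty T
      · haveI := hT
        haveI : IsEmpty ↑(pullback f g) := Function.isEmpty (pullback.snd f g)
        haveI : IsIso (pullback.snd f g) :=
          ⟨⟨(isInitialOfIsEmpty (X := T)).to _,
            (isInitialOfIsEmpty (X := pullback f g)).hom_ext _ _,
            (isInitialOfIsEmpty (X := T)).hom_ext _ _⟩⟩
        infer_instance
      · rw [not_isEmpty_iff] at hT
        obtain ⟨t₀⟩ := hT
        haveI : LocallyQuasiFinite (pullback.snd f g) :=
          MorphismProperty.of_isPullback (P := @LocallyQuasiFinite) hpb inferInstance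
        have hω := main1419 f (wCan f) (isWeighting_wCan f) (pullback.snd f g)
          (pullback.fst f g) g hpb
        have hfin' : ∀ t : T, ((pullback.snd f g) ⁻¹' {t}).Finite := fun t =>
          finite_fibre_of_isPullback f hfin (pullback.snd f g) (pullback.fst f g) g hpb t
        have hposω : ∀ p, 0 < (wCan f ∘ ⇑(pullback.fst f g)) p := fun p => wCan_pos f _
        have hIω : ∀ t, MoreMor.fibreIntegral (pullback.snd f g)
            (wCan f ∘ ⇑(pullback.fst f g)) t = (r : ℤ) := fun t =>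
          (main1418 f hfin (pullback.snd f g) (pullback.fst f g) g hpb (wCan f) t).trans (hI t)
        obtain ⟨hYd, hfinr⟩ := main1428 (pullback.snd f g) hfin'
          (wCan f ∘ ⇑(pullback.fst f g)) hω hposω (r : ℤ) (fun t => (hIω t).le) ⟨t₀, hIω t₀⟩
        exact isFinite_of_forall_mem (pullback.snd f g) _ (fun t => hIω t) hfinr
    haveI := hfinite
    refine ⟨⟨hfinite, inferInstance, inferInstance⟩, fun t => ?_⟩
    have h5 := finrank_eq_fibreIntegral f hfin (pullback.fst f g) (pullback.snd f g) g hpb t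
    rw [hI t] at h5
    exact_mod_cast h5

theorem isCompact_level_inter_affine (f : X ⟶ S) [Flat f] [LocallyOfFinitePresentation f]
    [IsSeparated f] [LocallyQuasiFinite f] [QuasiCompact f] (W : S.Opens) (hW : IsAffineOpen W)
    (r : ℤ) :
    IsCompact ({s : ↑S | MoreMor.fibreIntegral f (wCan f) s = r} ∩ (W : Set S)) := by
  have hfin : ∀ s : S, (f ⁻¹' {s}).Finite := fun s => Scheme.Hom.finite_preimage_singleton f s
  have hpb : IsPullback (f ⁻¹ᵁ W).ι (f ∣_ W) f W.ι := (isPullback_morphismRestrict f W).flip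
  haveI : LocallyQuasiFinite (f ∣_ W) :=
    MorphismProperty.of_isPullback (P := @LocallyQuasiFinite) hpb inferInstance
  haveI : LocallyOfFinitePresentation (f ∣_ W) := inferInstance
  haveI : QuasiCompact (f ∣_ W) := inferInstance
  haveI : QuasiSeparated (f ∣_ W) :=
    MorphismProperty.of_isPullback (P := @QuasiSeparated) hpb inferInstance
  have hω := main1419 f (wCan f) (isWeighting_wCan f) (f ∣_ W) (f ⁻¹ᵁ W).ι W.ι hpb
  have hLC := main1424 (f ∣_ W) (wCan f ∘ ⇑(f ⁻¹ᵁ W).ι) hω r
  haveI : IsAffine (W : Scheme.{u}) := hW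
  have hC : IsConstructible {v : ↥(W.toScheme) | MoreMor.fibreIntegral (f ∣_ W)
      (wCan f ∘ ⇑(f ⁻¹ᵁ W).ι) v = r} := hLC.isConstructible
  have hcomp := isCompact_of_isConstructible hC
  have himg := hcomp.image W.ι.continuous
  have heq : ⇑W.ι '' {v : ↥(W.toScheme) | MoreMor.fibreIntegral (f ∣_ W)
      (wCan f ∘ ⇑(f ⁻¹ᵁ W).ι) v = r} =
      {s : ↑S | MoreMor.fibreIntegral f (wCan f) s = r} ∩ (W : Set S) := by
    ext s
    constructor
    · rintro ⟨v, hv, rfl⟩
      refine ⟨?_, v.2⟩
      have h1 := main1418 f hfin (f ∣_ W) (f ⁻¹ᵁ W).ι W.ι hpb (wCan f) v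
      exact h1.symm.trans hv
    · rintro ⟨hs, hsW⟩
      refine ⟨⟨s, hsW⟩, ?_, rfl⟩
      have h1 := main1418 f hfin (f ∣_ W) (f ⁻¹ᵁ W).ι W.ι hpb (wCan f) ⟨s, hsW⟩
      exact h1.trans hs
  rw [← heq]; exact himg

theorem main1448 (f : X ⟶ S) [Flat f] [LocallyOfFinitePresentation f] [IsSeparated f]
    [LocallyQuasiFinite f] [QuasiCompact f] :
    ∃ deg : ↑S → ℕ, (∀ r : ℕ, IsClosed {s : ↑S | deg s ≤ r}) ∧
      (∀ r : ℕ, IsRetrocompact {s : ↑S | deg s = r}) ∧
      ∀ (T : Scheme.{u}) (g : T ⟶ S) (r : ℕ),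
        Mor2.IsFinLocFreeOfDeg r (pullback.snd f g) ↔ ∀ t : T, deg (g t) = r := by
  have hfin : ∀ s : S, (f ⁻¹' {s}).Finite := fun s => Scheme.Hom.finite_preimage_singleton f s
  refine ⟨degFun f, isClosed_degFun_le f hfin, ?_, isFinLocFreeOfDeg_iff f hfin⟩
  intro r U₀ hU₀c hU₀o
  obtain ⟨σ, hσfin, hσ⟩ :=
    isCompact_and_isOpen_iff_finite_and_eq_biUnion_affineOpens.mp ⟨hU₀c, hU₀o⟩
  have h0 : {s : ↑S | degFun f s = r} =
      {s : ↑S | MoreMor.fibreIntegral f (wCan f) s = (r : ℤ)} := by
    ext s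
    simp only [Set.mem_setOf_eq]
    rw [← degFun_cast f s]
    exact Nat.cast_inj.symm
  have h1 : {s : ↑S | degFun f s = r} ∩ U₀ =
      ⋃ i ∈ σ, ({s : ↑S | MoreMor.fibreIntegral f (wCan f) s = (r : ℤ)} ∩
        ((i : S.Opens) : Set S)) := by
    rw [h0, hσ, Set.inter_iUnion₂]
  rw [h1]
  exact hσfin.isCompact_biUnion (fun i _ => isCompact_level_inter_affine f i.1 i.2 r)

end Deg

end Groth.Agent.Lib.DegStratH4
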