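import Mathlib
import Groth.Prelude

/-!
# Algebra behind "torsion of a flat quasi-finite algebra" (helper4)

`A → B` flat, `I ⊆ A` finitely generated, `B/IB` free of rank `r` over `A/I` with a basis lifted to
`b₁, …, b_r ∈ B`.  Then `A[I]^r → B`, `(c_k) ↦ ∑ c_k b_k` is injective with image `B[I]`.
-/

set_option autoImplicit false
set_option linter.style.haveILetI false
set_option linter.unusedVariables false
universe u
open CategoryTheory CategoryTheory.Limits AlgebraicGeometry TopologicalSpace Opposite Topology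
open scoped TensorProduct

namespace Groth.Agent.Lib.FlatTorsH4

section
variable {A B : Type u} [CommRing A] [CommRing B]

/-- The `I`-torsion ideal `A[I]`. -/
def annI (I : Ideal A) : Ideal A where
  carrier := {c | ∀ i ∈ I, i * c = 0}
  add_mem' := by
    intro a b ha hb
    show ∀ i ∈ I, i * (a + b) = 0
    intro i hi
    rw [mul_add, ha i hi, hb i hi, add_zero]
  zero_mem' := by
    show ∀ i ∈ I, i * (0 : A) = 0
    intro i _
    exact mul_zero i
  smul_mem' := by
    intro c x hx
    show ∀ i ∈ I, i * (c • x) = 0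
    intro i hi
    rw [smul_eq_mul, mul_left_comm, hx i hi, mul_zero]

theorem mem_annI {I : Ideal A} {c : A} : c ∈ annI I ↔ ∀ i ∈ I, i * c = 0 := Iff.rfl

theorem algCore [Algebra A B] [Module.Flat A B] (I : Ideal A) (hI : I.FG) (r : ℕ) (b : Fin r → B)
    (hspan : ∀ β : B, ∃ α : Fin r → A,
      β - ∑ k, algebraMap A B (α k) * b k ∈ I.map (algebraMap A B))
    (hind : ∀ α : Fin r → A, ∑ k, algebraMap A B (α k) * b k ∈ I.map (algebraMap A B) →
      ∀ k, α k ∈ I)
    (g : B) (hg : ∀ i ∈ I, algebraMap A B i * g = 0) :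
    (∀ c : Fin r → A, (∀ k, c k ∈ annI I) → ∑ k, algebraMap A B (c k) * b k = 0 →
      ∀ k, c k = 0) ∧
    ∃ c : Fin r → A, (∀ k, c k ∈ annI I) ∧ g = ∑ k, algebraMap A B (c k) * b k := by
  classical
  have hF1 : ∀ c ∈ annI I, ∀ x ∈ I.map (algebraMap A B), algebraMap A B c * x = 0 := by
    intro c hc x hx
    refine Submodule.span_induction (p := fun x _ => algebraMap A B c * x = 0) ?_ ?_ ?_ ?_ hx
    · rintro _ ⟨i, hi, rfl⟩
      rw [← map_mul, mul_comm, hc i hi, map_zero]
    · exact mul_zero _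
    · intro x y _ _ hx hy
      rw [mul_add, hx, hy, add_zero]
    · intro a x _ hx
      rw [smul_eq_mul, mul_left_comm, hx, mul_zero]
  choose α hα using hspan
  have huniq : ∀ (β : B) (α' : Fin r → A),
      β - ∑ k, algebraMap A B (α' k) * b k ∈ I.map (algebraMap A B) →
      ∀ k, α β k - α' k ∈ I := by
    intro β α' h
    apply hind (fun k => α β k - α' k)
    have h3 : ∑ k, algebraMap A B (α β k - α' k) * b k =
        (β - ∑ k, algebraMap A B (α' k) * b k) - (β - ∑ k, algebraMap A B (α β k) * b k) := by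
      simp only [map_sub, sub_mul, Finset.sum_sub_distrib]
      ring
    rw [h3]
    exact Ideal.sub_mem _ h (hα β)
  have hadd : ∀ (β β' : B) (k : Fin r), α (β + β') k - (α β k + α β' k) ∈ I := by
    intro β β' k
    refine huniq (β + β') (fun k => α β k + α β' k) ?_ k
    have h3 : (β + β') - ∑ k, algebraMap A B (α β k + α β' k) * b k =
        (β - ∑ k, algebraMap A B (α β k) * b k) + (β' - ∑ k, algebraMap A B (α β' k) * b k) := by
      simp only [map_add, add_mul, Finset.sum_add_distrib]
      ring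
    rw [h3]
    exact Ideal.add_mem _ (hα β) (hα β')
  have hsmul : ∀ (a : A) (β : B) (k : Fin r), α (a • β) k - a * α β k ∈ I := by
    intro a β k
    refine huniq (a • β) (fun k => a * α β k) ?_ k
    have h3 : (a • β) - ∑ k, algebraMap A B (a * α β k) * b k =
        algebraMap A B a * (β - ∑ k, algebraMap A B (α β k) * b k) := by
      simp only [map_mul, mul_sub, Finset.mul_sum, Algebra.smul_def, mul_assoc]
    rw [h3]
    exact Ideal.mul_mem_left _ _ (hα β)
  have hbasis : ∀ (j k : Fin r), α (b j) k - (if k = j then 1 else 0) ∈ I := by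
    intro j k
    refine huniq (b j) (fun k => if k = j then 1 else 0) ?_ k
    have h3 : b j - ∑ k, algebraMap A B (if k = j then (1 : A) else 0) * b k = 0 := by
      have h4 : ∀ k : Fin r, algebraMap A B (if k = j then (1 : A) else 0) * b k =
          if k = j then b k else 0 := by
        intro k
        split_ifs <;> simp
      simp only [h4, Finset.sum_ite_eq', Finset.mem_univ, if_true, sub_self]
    rw [h3]
    exact Ideal.zero_mem _
  have hkill : ∀ (x : A), x ∈ I → ∀ c : annI I, x * (c : A) = 0 := fun x hx c => c.2 x hx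
  let Θ : B →ₗ[A] (annI I) →ₗ[A] (Fin r → A) :=
    LinearMap.mk₂ A (fun β (c : annI I) => fun k => α β k * (c : A))
      (by
        intro β β' c
        funext k
        have h := hkill _ (hadd β β' k) c
        simp only [Pi.add_apply]
        linear_combination h)
      (by
        intro a β c
        funext k
        have h := hkill _ (hsmul a β k) c
        simp only [Pi.smul_apply, smul_eq_mul]
        linear_combination h)
      (by
        intro β c c'
        funext k
        simp only [Pi.add_apply, Submodule.coe_add]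
        ring)
      (by
        intro a β c
        funext k
        simp only [Pi.smul_apply, smul_eq_mul, Submodule.coe_smul]
        ring)
  have hΘ : ∀ (β : B) (c : annI I) (k : Fin r), Θ β c k = α β k * (c : A) := fun _ _ _ => rfl
  have hι : Function.Injective (Submodule.subtype (annI I)) := Subtype.val_injective
  refine ⟨?_, ?_⟩
  · intro c hc hsum k
    obtain ⟨y, hydef⟩ : ∃ y : B ⊗[A] (annI I), y = ∑ j, b j ⊗ₜ[A] (⟨c j, hc j⟩ : annI I) :=
      ⟨_, rfl⟩
    have hrid : (TensorProduct.rid A B) ((LinearMap.lTensor B (Submodule.subtype (annI I))) y) =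
        ∑ j, c j • b j := by
      rw [hydef]
      simp only [map_sum, LinearMap.lTensor_tmul, TensorProduct.rid_tmul, Submodule.subtype_apply]
    have hy0 : y = 0 := by
      apply Module.Flat.lTensor_preserves_injective_linearMap (M := B)
        (Submodule.subtype (annI I)) hι
      rw [map_zero]
      apply (TensorProduct.rid A B).injective
      rw [map_zero, hrid, ← hsum]
      exact Finset.sum_congr rfl (fun j _ => Algebra.smul_def _ _)
    have h1 := congrArg (TensorProduct.lift Θ) hy0
    rw [map_zero, hydef, map_sum] at h1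
    have h2 := congrFun h1 k
    simp only [TensorProduct.lift.tmul, Finset.sum_apply, Pi.zero_apply] at h2
    have h3 : ∀ j, (Θ (b j) ⟨c j, hc j⟩) k = if k = j then c j else 0 := by
      intro j
      have h : (α (b j) k - (if k = j then 1 else 0)) * c j = 0 :=
        hkill _ (hbasis j k) ⟨c j, hc j⟩
      rw [hΘ]
      show α (b j) k * c j = _
      split_ifs with hkj
      · rw [if_pos hkj] at h; linear_combination h
      · rw [if_neg hkj] at h; linear_combination h
    rw [Finset.sum_congr rfl (fun j _ => h3 j)] at h2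
    simpa using h2
  · obtain ⟨s, hs⟩ := hI
    let u : A →ₗ[A] (↥s → A) := LinearMap.pi (fun i : ↥s => LinearMap.mulLeft A (i : A))
    have hu : ∀ a (i : ↥s), u a i = (i : A) * a := fun a i => rfl
    have hsI : ∀ i : ↥s, (i : A) ∈ I := fun i => hs ▸ Ideal.subset_span i.2
    have hexact : Function.Exact (Submodule.subtype (annI I)) u := by
      intro a
      constructor
      · intro ha
        have hmem : a ∈ annI I := by
          intro i hi
          rw [← hs] at hi
          refine Submodule.span_induction (p := fun i _ => i * a = 0) ?_ ?_ ?_ ?_ hi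
          · intro i his
            have h := congrFun ha ⟨i, his⟩
            rw [hu] at h
            exact h
          · exact zero_mul a
          · intro x y _ _ hx hy
            rw [add_mul, hx, hy, add_zero]
          · intro c x _ hx
            rw [smul_eq_mul, mul_assoc, hx, mul_zero]
        exact ⟨⟨a, hmem⟩, rfl⟩
      · rintro ⟨c, rfl⟩
        funext i
        show (i : A) * (c : A) = 0
        exact c.2 (i : A) (hsI i)
    have hex := Module.Flat.lTensor_exact B hexact
    have hx0 : (u.lTensor B) (g ⊗ₜ[A] (1 : A)) = 0 := by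
      rw [LinearMap.lTensor_tmul]
      have hu1 : u 1 = ∑ i : ↥s, (i : A) • (Pi.single i (1 : A) : ↥s → A) := by
        funext j
        simp [hu, Finset.sum_apply, Pi.single_apply]
      rw [hu1, TensorProduct.tmul_sum]
      refine Finset.sum_eq_zero (fun i _ => ?_)
      rw [TensorProduct.tmul_smul, TensorProduct.smul_tmul', Algebra.smul_def,
        hg (i : A) (hsI i), TensorProduct.zero_tmul]
    obtain ⟨y, hy⟩ := (hex _).mp hx0
    have key : ∀ y : B ⊗[A] (annI I), ∃ c : Fin r → A, (∀ k, c k ∈ annI I) ∧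
        (TensorProduct.rid A B) ((LinearMap.lTensor B (Submodule.subtype (annI I))) y) =
          ∑ k, algebraMap A B (c k) * b k := by
      intro y
      induction y using TensorProduct.induction_on with
      | zero => exact ⟨fun _ => 0, fun _ => (annI I).zero_mem, by simp⟩
      | tmul β c =>
        refine ⟨fun k => (c : A) * α β k, fun k => (annI I).mul_mem_right _ c.2, ?_⟩
        rw [LinearMap.lTensor_tmul, TensorProduct.rid_tmul, Submodule.subtype_apply,
          Algebra.smul_def]
        have h := hF1 c c.2 _ (hα β)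
        have e3 : ∑ k, algebraMap A B ((c : A) * α β k) * b k =
            algebraMap A B (c : A) * ∑ k, algebraMap A B (α β k) * b k := by
          rw [Finset.mul_sum]
          exact Finset.sum_congr rfl (fun k _ => by rw [map_mul, mul_assoc])
        rw [e3]
        linear_combination h
      | add y₁ y₂ h₁ h₂ =>
        obtain ⟨c₁, hc₁, e₁⟩ := h₁
        obtain ⟨c₂, hc₂, e₂⟩ := h₂
        refine ⟨fun k => c₁ k + c₂ k, fun k => (annI I).add_mem (hc₁ k) (hc₂ k), ?_⟩
        rw [map_add, map_add, e₁, e₂]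
        simp only [map_add, add_mul, Finset.sum_add_distrib]
    obtain ⟨c, hc, e⟩ := key y
    refine ⟨c, hc, ?_⟩
    rw [← e, hy, TensorProduct.rid_tmul, one_smul]

end

/-- The conclusion in terms of an additive semilinear map. -/
theorem algMain {A B : Type u} [CommRing A] [CommRing B] (φ : A →+* B) (hφ : φ.Flat)
    (I : Ideal A) (hI : I.FG) (r : ℕ) (b : Fin r → B)
    (hspan : ∀ β : B, ∃ α : Fin r → A, β - ∑ k, φ (α k) * b k ∈ I.map φ)
    (hind : ∀ α : Fin r → A, ∑ k, φ (α k) * b k ∈ I.map φ → ∀ k, α k ∈ I)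
    (g : B) (hg : ∀ i ∈ I, φ i * g = 0) :
    ∃ (F : Ideal A) (Φ : (Fin r → ↥F) →+ B),
      (∀ (a : A) (c : Fin r → ↥F), Φ (a • c) = φ a * Φ c) ∧ Function.Injective Φ ∧
        g ∈ Set.range Φ := by
  letI := φ.toAlgebra
  haveI : Module.Flat A B := hφ
  obtain ⟨h1, c₀, hc₀, hgc⟩ := algCore I hI r b hspan hind g hg
  refine ⟨annI I, AddMonoidHom.mk' (fun c => ∑ k, φ (c k : A) * b k) ?_, ?_, ?_, ?_⟩
  · intro c d
    simp only [Pi.add_apply, Submodule.coe_add, map_add, add_mul, Finset.sum_add_distrib]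
  · intro a c
    show ∑ k, φ ((a • c) k : A) * b k = φ a * ∑ k, φ (c k : A) * b k
    rw [Finset.mul_sum]
    refine Finset.sum_congr rfl (fun k _ => ?_)
    rw [Pi.smul_apply, Submodule.coe_smul, smul_eq_mul, map_mul, mul_assoc]
  · rw [injective_iff_map_eq_zero]
    intro c hc
    funext k
    exact Subtype.ext (h1 (fun k => (c k : A)) (fun k => (c k).2) hc k)
  · exact ⟨fun k => ⟨c₀ k, hc₀ k⟩, hgc.symm⟩

theorem locLemma {A B A' B' : Type u} [CommRing A] [CommRing B] [CommRing A'] [CommRing B']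
    (φ : A →+* B) (φ' : A' →+* B') (ιA : A →+* A') (ιB : B →+* B')
    (hcomm : ∀ a, φ' (ιA a) = ιB (φ a)) (a' : A)
    (hA' : @IsLocalization.Away A _ a' A' _ ιA.toAlgebra)
    (hB' : @IsLocalization.Away B _ (φ a') B' _ ιB.toAlgebra)
    (I : Ideal A) (r : ℕ) (b : Fin r → B)
    (h1 : ∀ β : B, ∃ (n : ℕ) (α : Fin r → A), φ a' ^ n * β - ∑ k, φ (α k) * b k ∈ I.map φ)
    (h2 : ∀ α : Fin r → A, ∑ k, φ (α k) * b k ∈ I.map φ → ∀ k, ∃ n : ℕ, a' ^ n * α k ∈ I) :
    (∀ β' : B', ∃ α' : Fin r → A',
      β' - ∑ k, φ' (α' k) * ιB (b k) ∈ (I.map ιA).map φ') ∧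
    (∀ α' : Fin r → A', ∑ k, φ' (α' k) * ιB (b k) ∈ (I.map ιA).map φ' →
      ∀ k, α' k ∈ I.map ιA) := by
  letI := ιA.toAlgebra
  letI := ιB.toAlgebra
  haveI := hA'
  haveI := hB'
  have hJ : (I.map ιA).map φ' = (I.map φ).map ιB := by
    rw [Ideal.map_map, Ideal.map_map]
    congr 1
    exact RingHom.ext hcomm
  obtain ⟨v, hv⟩ := (IsLocalization.Away.algebraMap_isUnit (S := A') a').exists_left_inv
  have hv' : v * ιA a' = 1 := hv
  have hw : φ' v * ιB (φ a') = 1 := by rw [← hcomm, ← map_mul, hv', map_one]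
  have hpow : ∀ n : ℕ, φ' v ^ n * ιB (φ a') ^ n = 1 := fun n => by
    rw [← mul_pow, hw, one_pow]
  have hpowA : ∀ n : ℕ, v ^ n * ιA a' ^ n = 1 := fun n => by rw [← mul_pow, hv', one_pow]
  have hsumB : ∀ α : Fin r → A,
      ιB (∑ k, φ (α k) * b k) = ∑ k, φ' (ιA (α k)) * ιB (b k) := by
    intro α
    rw [map_sum]
    exact Finset.sum_congr rfl (fun k _ => by rw [map_mul, hcomm])
  refine ⟨?_, ?_⟩
  · intro β'
    obtain ⟨m, β, hβ⟩ := IsLocalization.Away.surj (φ a') β'
    have hβ' : β' * ιB (φ a') ^ m = ιB β := hβ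
    obtain ⟨n, α, hα⟩ := h1 β
    refine ⟨fun k => v ^ (n + m) * ιA (α k), ?_⟩
    have hY : ιB (φ a' ^ n * β - ∑ k, φ (α k) * b k) ∈ (I.map ιA).map φ' := by
      rw [hJ]; exact Ideal.mem_map_of_mem _ hα
    rw [map_sub, map_mul, map_pow, hsumB, ← hβ'] at hY
    have e1 : ∑ k, φ' (v ^ (n + m) * ιA (α k)) * ιB (b k) =
        φ' v ^ (n + m) * ∑ k, φ' (ιA (α k)) * ιB (b k) := by
      rw [Finset.mul_sum]
      exact Finset.sum_congr rfl (fun k _ => by rw [map_mul, map_pow, mul_assoc])
    have e2 : β' - φ' v ^ (n + m) * ∑ k, φ' (ιA (α k)) * ιB (b k) =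
        φ' v ^ (n + m) * (ιB (φ a') ^ n * (β' * ιB (φ a') ^ m) -
          ∑ k, φ' (ιA (α k)) * ιB (b k)) := by
      linear_combination (-β') * hpow (n + m)
    rw [e1, e2]
    exact Ideal.mul_mem_left _ _ hY
  · intro α' hα' k
    obtain ⟨s, hs⟩ := IsLocalization.exist_integer_multiples_of_finite (Submonoid.powers a') α'
    obtain ⟨t, ht⟩ := (Submonoid.mem_powers_iff _ _).mp s.2
    have hs' : ∀ k, ∃ x : A, ιA x = ιA a' ^ t * α' k := by
      intro k
      obtain ⟨x, hx⟩ := hs k
      refine ⟨x, ?_⟩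
      show (algebraMap A A') x = _
      rw [hx, Algebra.smul_def, ← ht, map_pow]
      rfl
    choose α hα using hs'
    obtain ⟨y, hydef⟩ : ∃ y : B, y = ∑ k, φ (α k) * b k := ⟨_, rfl⟩
    have hy : ιB y ∈ (I.map φ).map ιB := by
      rw [← hJ, hydef, hsumB]
      have e : ∑ k, φ' (ιA (α k)) * ιB (b k) =
          φ' (ιA a' ^ t) * ∑ k, φ' (α' k) * ιB (b k) := by
        rw [Finset.mul_sum]
        exact Finset.sum_congr rfl (fun k _ => by rw [hα k, map_mul, mul_assoc])
      rw [e]
      exact Ideal.mul_mem_left _ _ hα'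
    obtain ⟨⟨x1, x2⟩, hx⟩ :=
      (IsLocalization.mem_map_algebraMap_iff (Submonoid.powers (φ a')) B').mp hy
    have hx' : ιB (y * (x2 : B) - (x1 : B)) = 0 := by
      rw [map_sub, map_mul]; exact sub_eq_zero.mpr hx
    obtain ⟨m, hm⟩ := (IsLocalization.map_eq_zero_iff (Submonoid.powers (φ a')) B' _).mp hx'
    obtain ⟨e2, he2⟩ := (Submonoid.mem_powers_iff _ _).mp x2.2
    obtain ⟨em, hem⟩ := (Submonoid.mem_powers_iff _ _).mp m.2
    have e3 : ∑ k, φ (a' ^ (em + e2) * α k) * b k = φ a' ^ (em + e2) * y := by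
      rw [hydef, Finset.mul_sum]
      exact Finset.sum_congr rfl (fun k _ => by rw [map_mul, map_pow, mul_assoc])
    have e4 : φ a' ^ (em + e2) * y = (m : B) * (x1 : B) := by
      rw [← hem, ← he2] at hm
      rw [← hem]
      linear_combination hm
    have hmem : ∑ k, φ (a' ^ (em + e2) * α k) * b k ∈ I.map φ := by
      rw [e3, e4]; exact Ideal.mul_mem_left _ _ x1.2
    obtain ⟨n, hn⟩ := h2 (fun k => a' ^ (em + e2) * α k) hmem k
    have h5 := Ideal.mem_map_of_mem ιA hn
    rw [map_mul, map_mul, map_pow, map_pow, hα k] at h5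
    have h6 : α' k = v ^ (n + (em + e2) + t) *
        (ιA a' ^ n * (ιA a' ^ (em + e2) * (ιA a' ^ t * α' k))) := by
      linear_combination (-α' k) * hpowA (n + (em + e2) + t)
    rw [h6]
    exact Ideal.mul_mem_left _ _ h5

theorem algFree {R M : Type u} [CommRing R] [AddCommGroup M] [Module R M] [Module.Finite R M]
    [Module.FinitePresentation R M] [Module.Flat R M] (p : PrimeSpectrum R) (r : ℕ)
    (hr : Module.rankAtStalk M p = r) :
    ∃ r' : R, r' ∉ p.asIdeal ∧ ∃ m : Fin r → M,
      (∀ x : M, ∃ (n : ℕ) (α : Fin r → R), r' ^ n • x = ∑ k, α k • m k) ∧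
      (∀ α : Fin r → R, ∑ k, α k • m k = 0 → ∀ k, ∃ n : ℕ, r' ^ n * α k = 0) := by
  subst hr
  haveI : Module.Free (Localization.AtPrime p.asIdeal)
      (LocalizedModule p.asIdeal.primeCompl M) := Module.free_of_flat_of_isLocalRing
  let b := Module.finBasisOfFinrankEq (Localization.AtPrime p.asIdeal)
    (LocalizedModule p.asIdeal.primeCompl M) (rfl : _ = Module.rankAtStalk M p)
  obtain ⟨r', hr', b', -⟩ := Module.FinitePresentation.exists_basis_localizedModule_powers
    p.asIdeal.primeCompl (LocalizedModule.mkLinearMap p.asIdeal.primeCompl M)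
    (Localization.AtPrime p.asIdeal) b
  refine ⟨r', hr', ?_⟩
  have hrep : ∀ k, ∃ ms : M × ↥(Submonoid.powers r'), b' k = LocalizedModule.mk ms.1 ms.2 :=
    fun k => LocalizedModule.induction_on
      (β := fun x => ∃ ms : M × ↥(Submonoid.powers r'), x = LocalizedModule.mk ms.1 ms.2)
      (fun m s => ⟨(m, s), rfl⟩) (b' k)
  choose ms hms using hrep
  refine ⟨fun k => (ms k).1, ?_, ?_⟩
  · intro x
    let N : Submodule R M := Submodule.span R (Set.range fun k => (ms k).1)
    let N' : Submodule (Localization (Submonoid.powers r'))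
        (LocalizedModule (Submonoid.powers r') M) :=
      N.localized' (Localization (Submonoid.powers r')) (Submonoid.powers r')
        (LocalizedModule.mkLinearMap (Submonoid.powers r') M)
    have hb'N : ∀ k, b' k ∈ N' := fun k =>
      ⟨(ms k).1, Submodule.subset_span ⟨k, rfl⟩, (ms k).2,
        ((IsLocalizedModule.mk_eq_mk' (ms k).2 (ms k).1).symm.trans (hms k).symm)⟩
    have hN' : N' = ⊤ := by
      rw [eq_top_iff, ← b'.span_eq]
      exact Submodule.span_le.mpr (by rintro _ ⟨k, rfl⟩; exact hb'N k)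
    have hx : LocalizedModule.mk x (1 : ↥(Submonoid.powers r')) ∈ N' := by
      rw [hN']; exact Submodule.mem_top
    obtain ⟨n₀, hn₀, t, ht⟩ := hx
    rw [← IsLocalizedModule.mk_eq_mk'] at ht
    obtain ⟨u, hu⟩ := LocalizedModule.mk_eq.mp ht
    obtain ⟨i, hi⟩ := (Submonoid.mem_powers_iff _ _).mp u.2
    obtain ⟨j, hj⟩ := (Submonoid.mem_powers_iff _ _).mp t.2
    have hu' : (r' ^ i) • n₀ = (r' ^ i) • (r' ^ j) • x := by
      have h := hu
      simp only [Submonoid.smul_def, Submonoid.coe_one, one_smul] at h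
      rw [← hi, ← hj] at h
      exact h
    have hmem : r' ^ (i + j) • x ∈ N := by
      rw [pow_add, mul_smul, ← hu']
      exact N.smul_mem _ hn₀
    obtain ⟨α, hα⟩ := (Submodule.mem_span_range_iff_exists_fun R).mp hmem
    exact ⟨i + j, α, hα.symm⟩
  · intro α hα k
    have h0 : (LocalizedModule.mkLinearMap (Submonoid.powers r') M)
        (∑ k, α k • (ms k).1) = 0 := by
      rw [hα, map_zero]
    rw [map_sum] at h0
    have h1 : ∀ k, (LocalizedModule.mkLinearMap (Submonoid.powers r') M) (α k • (ms k).1) =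
        algebraMap R (Localization (Submonoid.powers r')) (α k * ((ms k).2 : R)) • b' k := by
      intro k
      rw [map_smul, LocalizedModule.mkLinearMap_apply, hms k, algebraMap_smul, mul_smul]
      congr 1
      rw [LocalizedModule.smul'_mk]
      exact (LocalizedModule.mk_cancel (ms k).2 (ms k).1).symm
    rw [Finset.sum_congr rfl (fun k _ => h1 k)] at h0
    have h2 := Fintype.linearIndependent_iff.mp b'.linearIndependent _ h0 k
    obtain ⟨m, hm⟩ := (IsLocalization.map_eq_zero_iff (Submonoid.powers r') _ _).mp h2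
    obtain ⟨i, hi⟩ := (Submonoid.mem_powers_iff _ _).mp m.2
    obtain ⟨j, hj⟩ := (Submonoid.mem_powers_iff _ _).mp (ms k).2.2
    refine ⟨i + j, ?_⟩
    rw [← hi, ← hj] at hm
    rw [pow_add]
    linear_combination hm

theorem algFreeQuot {A B : Type u} [CommRing A] [CommRing B] [Algebra A B] (I : Ideal A)
    [Module.Finite (A ⧸ I) (B ⧸ I.map (algebraMap A B))]
    [Module.FinitePresentation (A ⧸ I) (B ⧸ I.map (algebraMap A B))]
    [Module.Flat (A ⧸ I) (B ⧸ I.map (algebraMap A B))]
    (p : Ideal A) [p.IsPrime] (hIp : I ≤ p) (r : ℕ)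
    (hr : ∀ q : PrimeSpectrum (A ⧸ I), Module.rankAtStalk (B ⧸ I.map (algebraMap A B)) q = r) :
    ∃ a' : A, a' ∉ p ∧ ∃ b : Fin r → B,
      (∀ β : B, ∃ (n : ℕ) (α : Fin r → A),
        algebraMap A B a' ^ n * β - ∑ k, algebraMap A B (α k) * b k ∈
          I.map (algebraMap A B)) ∧
      (∀ α : Fin r → A, ∑ k, algebraMap A B (α k) * b k ∈ I.map (algebraMap A B) →
        ∀ k, ∃ n : ℕ, a' ^ n * α k ∈ I) := by
  have hpbar : (p.map (Ideal.Quotient.mk I)).IsPrime :=
    Ideal.map_isPrime_of_surjective Ideal.Quotient.mk_surjective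
      (by rw [Ideal.mk_ker]; exact hIp)
  obtain ⟨r', hr', m, hm1, hm2⟩ := algFree (M := B ⧸ I.map (algebraMap A B))
    ⟨p.map (Ideal.Quotient.mk I), hpbar⟩ r (hr _)
  obtain ⟨a', rfl⟩ := Ideal.Quotient.mk_surjective r'
  have hb : ∀ k, ∃ bk : B, Ideal.Quotient.mk (I.map (algebraMap A B)) bk = m k :=
    fun k => Ideal.Quotient.mk_surjective (m k)
  choose b hb using hb
  have hsm : ∀ (a : A) (β : B),
      Ideal.Quotient.mk (I.map (algebraMap A B)) (algebraMap A B a * β) =
        (Ideal.Quotient.mk I a) • Ideal.Quotient.mk (I.map (algebraMap A B)) β := by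
    intro a β
    rw [Ideal.Quotient.mk_smul_mk_quotient_map_quotient]
  have hsumq : ∀ α : Fin r → A,
      Ideal.Quotient.mk (I.map (algebraMap A B)) (∑ k, algebraMap A B (α k) * b k) =
        ∑ k, (Ideal.Quotient.mk I (α k)) • m k := by
    intro α
    rw [map_sum]
    exact Finset.sum_congr rfl (fun k _ => by rw [hsm, hb])
  refine ⟨a', fun ha' => hr' (Ideal.mem_map_of_mem _ ha'), b, ?_, ?_⟩
  · intro β
    obtain ⟨n, αq, hαq⟩ := hm1 (Ideal.Quotient.mk _ β)
    have hα : ∀ k, ∃ ak : A, Ideal.Quotient.mk I ak = αq k :=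
      fun k => Ideal.Quotient.mk_surjective _
    choose α hα using hα
    refine ⟨n, α, ?_⟩
    have e1 : Ideal.Quotient.mk (I.map (algebraMap A B)) (algebraMap A B a' ^ n * β) =
        (Ideal.Quotient.mk I a') ^ n • Ideal.Quotient.mk (I.map (algebraMap A B)) β := by
      rw [← map_pow, hsm, map_pow]
    rw [← Ideal.Quotient.eq_zero_iff_mem, map_sub, hsumq, e1, hαq]
    simp only [hα, sub_self]
  · intro α hα k
    have h0 : ∑ k, (Ideal.Quotient.mk I (α k)) • m k = 0 := by
      rw [← hsumq]; exact Ideal.Quotient.eq_zero_iff_mem.mpr hα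
    obtain ⟨n, hn⟩ := hm2 _ h0 k
    refine ⟨n, ?_⟩
    rw [← Ideal.Quotient.eq_zero_iff_mem, map_mul, map_pow]
    exact hn

end Groth.Agent.Lib.FlatTorsH4
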