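import Mathlib
import Groth.Prelude
import Groth.Agent.Lib.LocDeg3_helper4

/-!
# A flat quasi-finite separated morphism of finite presentation with fibres of rank `≤ 1` over the
maximal points is an open immersion (helper4)
-/

set_option autoImplicit false
set_option linter.style.haveILetI false
set_option linter.unusedVariables false
universe u
open CategoryTheory CategoryTheory.Limits AlgebraicGeometry TopologicalSpace Opposite Topology

namespace Groth.Agent.Lib.OpenImmMaxH4

open IsLocalRing Groth.Agent.Lib.WeightH4 PurInsepH4 EtNbhdFinH4 EtLocH4 Groth.Agent.Lib.LocDegH4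

theorem exists_isMax_specializes {T : Type*} [TopologicalSpace T] [T0Space T] [QuasiSober T]
    (x : T) : ∃ z : T, z ⤳ x ∧ ∀ y : T, y ⤳ z → y = z := by
  have hirr : IsIrreducible (irreducibleComponent x) := isIrreducible_irreducibleComponent
  have hcl : IsClosed (irreducibleComponent x) := isClosed_irreducibleComponent
  obtain ⟨z, hz⟩ := QuasiSober.sober hirr hcl
  have hz' : closure {z} = irreducibleComponent x := hz
  refine ⟨z, ?_, ?_⟩
  · rw [specializes_iff_mem_closure, hz']
    exact mem_irreducibleComponent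
  · intro y hy
    have h1 : closure {z} ⊆ closure {y} := specializes_iff_closure_subset.mp hy
    have hmem : closure {z} ∈ irreducibleComponents T :=
      hz'.symm ▸ irreducibleComponent_mem_irreducibleComponents x
    have h2 : closure {y} ⊆ closure {z} :=
      Maximal.le_of_ge hmem isIrreducible_singleton.closure h1
    exact (hy.antisymm (specializes_iff_closure_subset.mpr h2)).eq

theorem one_le_fibreIntegral {T S : Scheme.{u}} (g : T ⟶ S) [LocallyQuasiFinite g]
    (hfin : ∀ s : S, (g ⁻¹' {s}).Finite) (w : T → ℤ) (hpos : ∀ x, 0 < w x) (t : T) :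
    1 ≤ MoreMor.fibreIntegral g w (g t) := by
  rw [fibreIntegral_eq]
  haveI : Finite {x : T // g x = g t} := (hfin (g t)).to_subtype
  have hnn : ∀ z : {x : T // g x = g t}, 0 ≤ w z.1 * (sepDeg g z.1 : ℤ) := fun z =>
    mul_nonneg (hpos z.1).le (Int.natCast_nonneg _)
  have h1 : w t * (sepDeg g t : ℤ) ≤ ∑ᶠ z : {x : T // g x = g t}, w z.1 * (sepDeg g z.1 : ℤ) :=
    single_le_finsum (f := fun z : {x : T // g x = g t} => w z.1 * (sepDeg g z.1 : ℤ))
      ⟨t, rfl⟩ (Set.toFinite _) hnn
  have h2 : (1 : ℤ) ≤ w t * (sepDeg g t : ℤ) := by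
    have h3 : (1 : ℤ) ≤ (sepDeg g t : ℤ) := by exact_mod_cast sepDeg_pos g t
    nlinarith [hpos t]
  exact h2.trans h1

theorem main3207 {T S : Scheme.{u}} (g : T ⟶ S) [LocallyQuasiFinite g]
    [LocallyOfFinitePresentation g] [QuasiCompact g] [IsSeparated g] [Flat g]
    (h : ∀ s : S, (∀ t : S, t ⤳ s → t = s) →
      IsEmpty ↑(pullback g (S.fromSpecResidueField s)) ∨
        IsIso (pullback.snd g (S.fromSpecResidueField s))) :
    IsOpenImmersion g := by
  have hfin : ∀ s : S, (g ⁻¹' {s}).Finite := fun s => Scheme.Hom.finite_preimage_singleton g s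
  have hw := isWeighting_wCan g
  have hpos : ∀ x, 0 < wCan g x := wCan_pos g
  have hlsc := main1426 g hfin (wCan g) hw hpos
  have hle : ∀ s : S, MoreMor.fibreIntegral g (wCan g) s ≤ 1 := by
    intro s₀
    by_contra hcon
    have hcon' : 1 < MoreMor.fibreIntegral g (wCan g) s₀ := not_le.mp hcon
    obtain ⟨η, hηs, hηmax⟩ := exists_isMax_specializes (T := ↑S) s₀
    have hO : IsOpen ((MoreMor.fibreIntegral g (wCan g)) ⁻¹' Set.Ioi 1) :=
      hlsc.isOpen_preimage 1
    have hη : 1 < MoreMor.fibreIntegral g (wCan g) η := hηs.mem_open hO hcon'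
    rcases h η hηmax with hemp | hiso
    · haveI : IsEmpty {t : T // g t = η} := ⟨fun t => by
        obtain ⟨z, -, -⟩ := Scheme.Pullback.exists_preimage_pullback (f := g)
          (g := S.fromSpecResidueField η) t.1 (IsLocalRing.closedPoint (S.residueField η))
          (t.2.trans (Scheme.fromSpecResidueField_apply η _).symm)
        exact hemp.false z⟩
      have h0 : MoreMor.fibreIntegral g (wCan g) η = 0 := by
        rw [fibreIntegral_eq]; exact finsum_of_isEmpty _
      omega
    · haveI := hiso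
      obtain ⟨pt, hpt⟩ : ∃ pt : ↥(Spec (S.residueField η)),
          (S.fromSpecResidueField η) pt = η :=
        ⟨IsLocalRing.closedPoint (S.residueField η), Scheme.fromSpecResidueField_apply η _⟩
      have h1 := finrank_eq_fibreIntegral g hfin (pullback.fst g (S.fromSpecResidueField η))
        (pullback.snd g (S.fromSpecResidueField η)) (S.fromSpecResidueField η)
        (IsPullback.of_hasPullback _ _) pt
      have h2 : (pullback.snd g (S.fromSpecResidueField η)).finrank pt = 1 := by
        rw [Scheme.Hom.finrank_eq_one_of_isIso]; rfl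
      rw [h2, hpt] at h1
      have h3 : MoreMor.fibreIntegral g (wCan g) η = 1 := by rw [← h1]; rfl
      omega
  have hge : ∀ t : T, 1 ≤ MoreMor.fibreIntegral g (wCan g) (g t) :=
    one_le_fibreIntegral g hfin (wCan g) hpos
  by_cases hatt : ∃ y : S, MoreMor.fibreIntegral g (wCan g) y = 1
  swap
  · haveI : IsEmpty T := ⟨fun t => hatt ⟨g t, le_antisymm (hle _) (hge t)⟩⟩
    infer_instance
  obtain ⟨hYd, hfinr⟩ := main1428 g hfin (wCan g) hw hpos 1 hle hatt
  obtain ⟨S₁, hS₁⟩ : ∃ S₁ : S.Opens,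
      S₁ = ⟨{y : ↑S | MoreMor.fibreIntegral g (wCan g) y = 1}, hYd⟩ := ⟨_, rfl⟩
  rw [← hS₁] at hfinr
  have hmemS₁ : ∀ y : S, y ∈ S₁ ↔ MoreMor.fibreIntegral g (wCan g) y = 1 := by
    intro y; rw [hS₁]; rfl
  haveI : IsFinite (g ∣_ S₁) := hfinr
  haveI : Flat (g ∣_ S₁) := inferInstance
  haveI : LocallyOfFinitePresentation (g ∣_ S₁) := inferInstance
  have hrank : (g ∣_ S₁).finrank = 1 := by
    funext v
    have h1 := finrank_eq_fibreIntegral g hfin (g ⁻¹ᵁ S₁).ι (g ∣_ S₁) S₁.ι
      (isPullback_morphismRestrict g S₁).flip v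
    have h2 : MoreMor.fibreIntegral g (wCan g) (S₁.ι v) = 1 := (hmemS₁ _).mp v.2
    rw [h2] at h1
    show (g ∣_ S₁).finrank v = 1
    exact_mod_cast h1
  haveI : IsIso (g ∣_ S₁) := (Scheme.Hom.isIso_iff_finrank_eq (g ∣_ S₁)).mpr hrank
  have htop : ∀ t : T, t ∈ g ⁻¹ᵁ S₁ := fun t =>
    (hmemS₁ _).mpr (le_antisymm (hle _) (hge t))
  haveI : Surjective (g ⁻¹ᵁ S₁).ι := ⟨fun t => ⟨⟨t, htop t⟩, rfl⟩⟩
  haveI : IsIso (g ⁻¹ᵁ S₁).ι :=
    (isIso_iff_isOpenImmersion_and_surjective _).mpr ⟨inferInstance, inferInstance⟩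
  have h1 : IsOpenImmersion ((g ⁻¹ᵁ S₁).ι ≫ g) := by
    rw [← morphismRestrict_ι]; infer_instance
  exact (MorphismProperty.cancel_left_of_respectsIso @IsOpenImmersion (g ⁻¹ᵁ S₁).ι g).mp h1

end Groth.Agent.Lib.OpenImmMaxH4
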