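import Mathlib
import Groth.Prelude
import Groth.Agent.Lib.WeightFT_helper4
import Groth.Agent.Lib.GeomCountSch_helper4

set_option autoImplicit false
set_option linter.style.haveILetI false
set_option linter.unusedVariables false
universe u
open CategoryTheory CategoryTheory.Limits AlgebraicGeometry TopologicalSpace Opposite Topology

namespace Groth.Agent.Lib.WeightH4

open PurInsepH4 EtNbhdFinH4 EtLocH4 IsLocalRing

theorem finsum_mem_le_of_ncard_le {α : Type*} (s : Set α) (hs : s.Finite) (Φ : α → ℤ) (M : ℤ)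
    (hM0 : 0 ≤ M) (hM : ∀ a, Φ a ≤ M) (d : ℕ) (hd : s.ncard ≤ d) :
    ∑ᶠ a ∈ s, Φ a ≤ d * M := by
  rw [finsum_mem_eq_finite_toFinset_sum _ hs]
  calc ∑ a ∈ hs.toFinset, Φ a ≤ hs.toFinset.card • M :=
        Finset.sum_le_card_nsmul _ _ _ (fun a _ => hM a)
    _ = (hs.toFinset.card : ℤ) * M := nsmul_eq_mul _ _
    _ ≤ d * M := by
        apply mul_le_mul_of_nonneg_right _ hM0
        rw [← Set.ncard_eq_toFinset_card _ hs]
        exact_mod_cast hd

theorem fibreIntegral_le_of_bound_aux {X Y : Scheme.{u}} (f : X ⟶ Y) [LocallyQuasiFinite f]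
    (w : X → ℤ) (M : ℤ) (hM0 : 0 ≤ M) (hM : ∀ x, w x ≤ M) (d : ℕ)
    (Ω : Type u) [Field Ω] [IsAlgClosed Ω] (y : Y) (ψ : Y.residueField y ⟶ CommRingCat.of Ω)
    (hS : (geomSet f Ω (Spec.map ψ ≫ Y.fromSpecResidueField y)).Finite)
    (hS2 : (geomSet f Ω (Spec.map ψ ≫ Y.fromSpecResidueField y)).ncard ≤ d) :
    MoreMor.fibreIntegral f w y ≤ d * M := by
  have hfin := fibre_finite_of_geomSet_finite f Ω y ψ hS
  rw [← geomSum f Ω y ψ w hfin]
  exact finsum_mem_le_of_ncard_le _ hS (fun ubar => w (ubar (closedPoint Ω))) M hM0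
    (fun ubar => hM _) d hS2

theorem fibreIntegral_le_of_bound {X Y : Scheme.{u}} (f : X ⟶ Y) [LocallyQuasiFinite f]
    (w : X → ℤ) (M : ℤ) (hM0 : 0 ≤ M) (hM : ∀ x, w x ≤ M) (d : ℕ)
    (hd : ∀ (Ω : Type u) [Field Ω] (ybar : Spec (CommRingCat.of Ω) ⟶ Y),
      {ubar : Spec (CommRingCat.of Ω) ⟶ X | ubar ≫ f = ybar}.Finite ∧
      {ubar : Spec (CommRingCat.of Ω) ⟶ X | ubar ≫ f = ybar}.ncard ≤ d) (y : Y) :
    MoreMor.fibreIntegral f w y ≤ d * M :=
  fibreIntegral_le_of_bound_aux f w M hM0 hM d (AlgebraicClosure (Y.residueField y)) y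
    (CommRingCat.ofHom (algebraMap (Y.residueField y) (AlgebraicClosure (Y.residueField y))))
    (hd _ _).1 (hd _ _).2

theorem main1427 {X Y : Scheme.{u}} (f : X ⟶ Y) [LocallyQuasiFinite f] [LocallyOfFiniteType f]
    [CompactSpace ↑X] (w : ↑X → ℤ) (hw : MoreMor.IsWeighting f w) [Nonempty ↑Y] :
    ∃ y₀ : Y, ∀ y : Y, MoreMor.fibreIntegral f w y ≤ MoreMor.fibreIntegral f w y₀ := by
  have hL : LCF w := lcf_of_lft f w hw
  have hfinimg : (w '' Set.univ).Finite := hL.finite_image isCompact_univ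
  obtain ⟨M, hM⟩ := hfinimg.bddAbove
  have hM' : ∀ x, w x ≤ max M 0 :=
    fun x => le_trans (hM ⟨x, trivial, rfl⟩) (le_max_left _ _)
  obtain ⟨d, hd⟩ := GeomCountH4.exists_bound_geomPoints f
  have hb : ∀ y, MoreMor.fibreIntegral f w y ≤ d * max M 0 :=
    fun y => fibreIntegral_le_of_bound f w (max M 0) (le_max_right _ _) hM' d hd y
  obtain ⟨y1⟩ := ‹Nonempty ↑Y›
  obtain ⟨z, ⟨y₀, hy₀⟩, hz⟩ := Int.exists_greatest_of_bdd
    (P := fun z => ∃ y : Y, MoreMor.fibreIntegral f w y = z)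
    ⟨d * max M 0, fun z hzP => by obtain ⟨y, hy⟩ := hzP; rw [← hy]; exact hb y⟩ ⟨_, y1, rfl⟩
  exact ⟨y₀, fun y => by rw [hy₀]; exact hz _ ⟨y, rfl⟩⟩

end Groth.Agent.Lib.WeightH4
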