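import Mathlib
import Groth.Prelude
import Groth.Agent.Lib.DegStrat_helper4
import Groth.Agent.Lib.OpenImmMax_helper4
import Groth.Agent.Lib.WeightMax2_helper4
import Groth.Agent.Lib.FlatTorsAlg_helper4

/-!
# Torsion of a flat, locally quasi-finite, finitely presented morphism (helper4)
-/

set_option autoImplicit false
set_option linter.style.haveILetI false
set_option linter.unusedVariables false
universe u
open CategoryTheory CategoryTheory.Limits AlgebraicGeometry TopologicalSpace Opposite Topology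
open scoped TensorProduct

namespace Groth.Agent.Lib.FlatTorsH4

open IsLocalRing Groth.Agent.Lib.WeightH4 PurInsepH4 EtNbhdFinH4 EtLocH4 Groth.Agent.Lib.LocDegH4
open Groth.Agent.Lib.DegStratH4 Groth.Agent.Lib.OpenImmMaxH4

theorem isFinLocFreeOfDeg_of_isPullback {X S : Scheme.{u}} (f : X ⟶ S) [Flat f]
    [LocallyOfFinitePresentation f] [IsSeparated f] [LocallyQuasiFinite f]
    (hfin : ∀ s : S, (f ⁻¹' {s}).Finite) {P T : Scheme.{u}} (fst' : P ⟶ X) (π' : P ⟶ T)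
    (g : T ⟶ S) (hpb : IsPullback fst' π' f g) (r : ℕ)
    (hdeg : ∀ t : T, degFun f (g t) = r) : Mor2.IsFinLocFreeOfDeg r π' := by
  obtain ⟨⟨h1, h2, h3⟩, h4⟩ := (isFinLocFreeOfDeg_iff f hfin T g r).mpr hdeg
  haveI := h1
  have hF : IsFinite π' := by
    rw [← hpb.isoPullback_hom_snd]; infer_instance
  haveI := hF
  refine ⟨⟨hF, MorphismProperty.of_isPullback (P := @Flat) hpb inferInstance,
    MorphismProperty.of_isPullback (P := @LocallyOfFinitePresentation) hpb inferInstance⟩,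
    fun t => ?_⟩
  have h5 := finrank_eq_fibreIntegral f hfin fst' π' g hpb t
  rw [← degFun_cast, hdeg t] at h5
  exact_mod_cast h5

theorem KLabs {X S : Scheme.{u}} (f : X ⟶ S) [Flat f] [LocallyOfFinitePresentation f]
    [IsSeparated f] [LocallyQuasiFinite f] (hfin : ∀ s : S, (f ⁻¹' {s}).Finite)
    (A B : Type u) [CommRing A] [CommRing B] [Algebra A B]
    (jS : Spec (CommRingCat.of A) ⟶ S) (jX : Spec (CommRingCat.of B) ⟶ X)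
    (hpb : IsPullback jX (Spec.map (CommRingCat.ofHom (algebraMap A B))) f jS)
    (I : Ideal A) (r : ℕ)
    (hI : ∀ q : PrimeSpectrum A, I ≤ q.asIdeal → degFun f (jS q) = r) :
    Module.Finite (A ⧸ I) (B ⧸ I.map (algebraMap A B)) ∧
    Module.Flat (A ⧸ I) (B ⧸ I.map (algebraMap A B)) ∧
    Module.FinitePresentation (A ⧸ I) (B ⧸ I.map (algebraMap A B)) ∧
    ∀ q : PrimeSpectrum (A ⧸ I), Module.rankAtStalk (B ⧸ I.map (algebraMap A B)) q = r := by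
  have hpo := CommRingCat.isPushout_tensorProduct A (A ⧸ I) B
  have hpb1 := (isPullback_SpecMap_of_isPushout _ _ _ _ hpo).flip
  have hbig := hpb1.paste_horiz hpb
  have hinl : (CommRingCat.ofHom (Algebra.TensorProduct.includeLeftRingHom :
      (A ⧸ I) →+* (A ⧸ I) ⊗[A] B)) =
      CommRingCat.ofHom (algebraMap (A ⧸ I) ((A ⧸ I) ⊗[A] B)) := by
    ext x
    simp [Algebra.TensorProduct.algebraMap_apply]
  rw [hinl] at hbig
  have hdeg : ∀ t : ↥(Spec (CommRingCat.of (A ⧸ I))),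
      degFun f ((Spec.map (CommRingCat.ofHom (algebraMap A (A ⧸ I))) ≫ jS) t) = r := by
    intro t
    refine hI (Spec.map (CommRingCat.ofHom (algebraMap A (A ⧸ I))) t) ?_
    intro i hi
    show algebraMap A (A ⧸ I) i ∈ t.asIdeal
    have h0 : algebraMap A (A ⧸ I) i = 0 := Ideal.Quotient.eq_zero_iff_mem.mpr hi
    rw [h0]; exact Ideal.zero_mem _
  obtain ⟨⟨hF, hFl, hFP⟩, hrk⟩ := isFinLocFreeOfDeg_of_isPullback f hfin _ _ _ hbig r hdeg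
  have hfinM : Module.Finite (A ⧸ I) ((A ⧸ I) ⊗[A] B) :=
    RingHom.finite_algebraMap.mp ((IsFinite.SpecMap_iff _).mp hF)
  have hflatM : Module.Flat (A ⧸ I) ((A ⧸ I) ⊗[A] B) :=
    RingHom.flat_algebraMap_iff.mp (Flat.SpecMap_iff.mp hFl)
  have hfpA : Algebra.FinitePresentation (A ⧸ I) ((A ⧸ I) ⊗[A] B) :=
    RingHom.finitePresentation_algebraMap.mp
      ((LocallyOfFinitePresentation.SpecMap_iff _).mp hFP)
  haveI := hfinM
  haveI := hflatM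
  haveI := hfpA
  have hfpM : Module.FinitePresentation (A ⧸ I) ((A ⧸ I) ⊗[A] B) :=
    Module.FinitePresentation.of_finite_of_finitePresentation (A ⧸ I) ((A ⧸ I) ⊗[A] B)
  haveI := hfpM
  have hrank : ∀ q : PrimeSpectrum (A ⧸ I), Module.rankAtStalk ((A ⧸ I) ⊗[A] B) q = r :=
    fun q => by
      rw [← Scheme.Hom.finrank_SpecMap_algebraMap (A ⧸ I) ((A ⧸ I) ⊗[A] B) q]
      exact hrk q
  let e := (Algebra.TensorProduct.quotIdealMapEquivQuotTensor B I).toLinearEquiv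
  refine ⟨Module.Finite.equiv e.symm, Module.Flat.of_linearEquiv e,
    Module.FinitePresentation.of_equiv e.symm, fun q => ?_⟩
  rw [congrFun (Module.rankAtStalk_eq_of_equiv e) q]
  exact hrank q

theorem KL {X S : Scheme.{u}} (f : X ⟶ S) [Flat f] [LocallyOfFinitePresentation f]
    [IsSeparated f] [LocallyQuasiFinite f] (hfin : ∀ s : S, (f ⁻¹' {s}).Finite)
    (U : S.Opens) (hU : IsAffineOpen U) (hV : IsAffineOpen (f ⁻¹ᵁ U))
    [Algebra Γ(S, U) Γ(X, f ⁻¹ᵁ U)]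
    (halg : algebraMap Γ(S, U) Γ(X, f ⁻¹ᵁ U) = (f.appLE U (f ⁻¹ᵁ U) le_rfl).hom)
    (I : Ideal Γ(S, U)) (r : ℕ)
    (hI : ∀ q : PrimeSpectrum Γ(S, U), I ≤ q.asIdeal → degFun f (hU.fromSpec q) = r) :
    Module.Finite (Γ(S, U) ⧸ I) (Γ(X, f ⁻¹ᵁ U) ⧸ I.map (algebraMap Γ(S, U) Γ(X, f ⁻¹ᵁ U))) ∧
    Module.Flat (Γ(S, U) ⧸ I) (Γ(X, f ⁻¹ᵁ U) ⧸ I.map (algebraMap Γ(S, U) Γ(X, f ⁻¹ᵁ U))) ∧
    Module.FinitePresentation (Γ(S, U) ⧸ I)
      (Γ(X, f ⁻¹ᵁ U) ⧸ I.map (algebraMap Γ(S, U) Γ(X, f ⁻¹ᵁ U))) ∧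
    ∀ q : PrimeSpectrum (Γ(S, U) ⧸ I),
      Module.rankAtStalk (Γ(X, f ⁻¹ᵁ U) ⧸ I.map (algebraMap Γ(S, U) Γ(X, f ⁻¹ᵁ U))) q = r := by
  have hφ : CommRingCat.ofHom (algebraMap Γ(S, U) Γ(X, f ⁻¹ᵁ U)) =
      f.appLE U (f ⁻¹ᵁ U) le_rfl := by
    rw [halg]; rfl
  have hpb : IsPullback hV.fromSpec
      (Spec.map (CommRingCat.ofHom (algebraMap Γ(S, U) Γ(X, f ⁻¹ᵁ U)))) f hU.fromSpec := by
    rw [hφ]
    exact (IsOpenImmersion.isPullback (Spec.map (f.appLE U (f ⁻¹ᵁ U) le_rfl)) hV.fromSpec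
      hU.fromSpec f (hU.SpecMap_appLE_fromSpec f hV le_rfl).symm
      (by rw [hU.opensRange_fromSpec, hV.opensRange_fromSpec])).flip
  exact KLabs f hfin Γ(S, U) Γ(X, f ⁻¹ᵁ U) hU.fromSpec hV.fromSpec hpb I r hI

theorem presheaf_map_map {X : Scheme.{u}} {U V W : X.Opens} (h₁ : V ≤ U) (h₂ : W ≤ V)
    (g : Γ(X, U)) :
    X.presheaf.map (homOfLE h₂).op (X.presheaf.map (homOfLE h₁).op g) =
      X.presheaf.map (homOfLE (h₂.trans h₁)).op g := by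
  rw [← ConcreteCategory.comp_apply, ← X.presheaf.map_comp]
  rfl

/-- The conclusion of the lemma, with an additive semilinear map. -/
def Concl {X S : Scheme.{u}} (f : X ⟶ S) (g : Γ(X, ⊤)) : Prop :=
  ∃ (U : S.Opens) (_ : IsAffineOpen U) (V : X.Opens) (_ : IsAffineOpen V) (hVU : V ≤ f ⁻¹ᵁ U),
    X.presheaf.map (homOfLE le_top).op g ≠ (0 : Γ(X, V)) ∧
    ∃ (F : Ideal Γ(S, U)) (r : ℕ), 0 < r ∧
      ∃ Φ : (Fin r → ↥F) →+ Γ(X, V),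
        (∀ (a : Γ(S, U)) (c : Fin r → ↥F), Φ (a • c) = (f.appLE U V hVU).hom a * Φ c) ∧
        Function.Injective Φ ∧ X.presheaf.map (homOfLE le_top).op g ∈ Set.range Φ

theorem concl_of_resLE {X S : Scheme.{u}} (f : X ⟶ S) (g : Γ(X, ⊤)) (U₀ : S.Opens)
    (V₀ : X.Opens) (e : V₀ ≤ f ⁻¹ᵁ U₀)
    (h : Concl (f.resLE U₀ V₀ e)
      (X.presheaf.map (homOfLE (le_top : V₀.ι ''ᵁ ⊤ ≤ ⊤)).op g)) : Concl f g := by
  obtain ⟨O, hO, W, hW, hWO, hne, F, r, hr, Φ, hsemi, hinj, hmem⟩ := h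
  have hres : (V₀.toScheme).presheaf.map (homOfLE (le_top : W ≤ ⊤)).op
      (X.presheaf.map (homOfLE (le_top : V₀.ι ''ᵁ ⊤ ≤ ⊤)).op g) =
      X.presheaf.map (homOfLE (le_top : V₀.ι ''ᵁ W ≤ ⊤)).op g := by
    exact presheaf_map_map (U := ⊤) (V := V₀.ι ''ᵁ ⊤) (W := V₀.ι ''ᵁ W) le_top
      (V₀.ι.image_mono (le_top : W ≤ ⊤)) g
  refine ⟨U₀.ι ''ᵁ O, hO.image_of_isOpenImmersion U₀.ι, V₀.ι ''ᵁ W,
    hW.image_of_isOpenImmersion V₀.ι, (Scheme.Hom.le_resLE_preimage_iff f e O W).mp hWO,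
    ?_, F, r, hr, Φ, ?_, hinj, ?_⟩
  · rw [← hres]; exact hne
  · intro a c
    have h1 := hsemi a c
    rw [Scheme.Hom.resLE_appLE] at h1
    exact h1
  · rw [← hres]; exact hmem

theorem exists_germ_ne_zero {X : Scheme.{u}} (g : Γ(X, ⊤)) (hg : g ≠ 0) :
    ∃ x : X, X.presheaf.germ ⊤ x trivial g ≠ 0 := by
  by_contra hcon
  simp only [not_exists, not_not] at hcon
  refine hg (TopCat.Presheaf.section_ext X.sheaf ⊤ g 0 (fun x hx => ?_))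
  change X.presheaf.germ ⊤ x _ g = X.presheaf.germ ⊤ x _ 0
  rw [map_zero]
  exact hcon x

theorem affineCase {X S : Scheme.{u}} [IsAffine X] [IsAffine S] (f : X ⟶ S) [Flat f]
    [LocallyOfFinitePresentation f] [LocallyQuasiFinite f] (g : Γ(X, ⊤)) (hg : g ≠ 0) :
    Concl f g := by
  classical
  haveI : IsAffineHom f := inferInstance
  haveI : IsSeparated f := inferInstance
  haveI : QuasiCompact f := inferInstance
  have hfin : ∀ s : S, (f ⁻¹' {s}).Finite := fun s => Scheme.Hom.finite_preimage_singleton f s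
  obtain ⟨x₀, hx₀⟩ := exists_germ_ne_zero g hg
  haveI : Nonempty ↑S := ⟨f x₀⟩
  obtain ⟨y₀, hy₀⟩ := main1427 f (wCan f) (isWeighting_wCan f)
  have hbound : ∀ s : S, degFun f s ≤ degFun f y₀ := by
    intro s
    have h := hy₀ s
    rw [← degFun_cast, ← degFun_cast] at h
    exact_mod_cast h
  -- choose `r` and `ξ`
  have hDne : {n : ℕ | ∃ x : X, X.presheaf.germ ⊤ x trivial g ≠ 0 ∧
      degFun f (f x) = n}.Nonempty := ⟨_, x₀, hx₀, rfl⟩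
  have hDbdd : BddAbove {n : ℕ | ∃ x : X, X.presheaf.germ ⊤ x trivial g ≠ 0 ∧
      degFun f (f x) = n} :=
    ⟨degFun f y₀, by rintro n ⟨x, -, rfl⟩; exact hbound _⟩
  obtain ⟨r, hrdef⟩ : ∃ r : ℕ, r = sSup {n : ℕ | ∃ x : X,
      X.presheaf.germ ⊤ x trivial g ≠ 0 ∧ degFun f (f x) = n} := ⟨_, rfl⟩
  obtain ⟨ξ, hξ, hξr⟩ := Nat.sSup_mem hDne hDbdd
  rw [← hrdef] at hξr
  have hmax : ∀ x : X, X.presheaf.germ ⊤ x trivial g ≠ 0 → degFun f (f x) ≤ r := by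
    intro x hx
    rw [hrdef]
    exact le_csSup hDbdd ⟨x, hx, rfl⟩
  have hr1 : 1 ≤ r := by
    have h := one_le_fibreIntegral f hfin (wCan f) (wCan_pos f) ξ
    rw [← degFun_cast, hξr] at h
    exact_mod_cast h
  -- the opens `{deg ≥ r}` and `{deg > r}`
  have hO : IsOpen {s : ↑S | r ≤ degFun f s} := by
    have hc := isClosed_degFun_le f hfin (r - 1)
    have heq : {s : ↑S | r ≤ degFun f s} = {s : ↑S | degFun f s ≤ r - 1}ᶜ := by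
      ext s
      simp only [Set.mem_setOf_eq, Set.mem_compl_iff]
      omega
    rw [heq]; exact hc.isOpen_compl
  have hQ : IsOpen {s : ↑S | r < degFun f s} := by
    have hc := isClosed_degFun_le f hfin r
    have heq : {s : ↑S | r < degFun f s} = {s : ↑S | degFun f s ≤ r}ᶜ := by
      ext s
      simp only [Set.mem_setOf_eq, Set.mem_compl_iff, not_le]
    rw [heq]; exact hc.isOpen_compl
  obtain ⟨a₀, ha₀le, ha₀mem⟩ := (isAffineOpen_top S).exists_basicOpen_le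
    (V := ⟨{s : ↑S | r ≤ degFun f s}, hO⟩) ⟨f ξ, hξr.ge⟩ trivial
  obtain ⟨U₁, hU₁def⟩ : ∃ U₁ : S.Opens, U₁ = S.basicOpen a₀ := ⟨_, rfl⟩
  have hU₁ : IsAffineOpen U₁ := hU₁def ▸ (isAffineOpen_top S).basicOpen a₀
  have hξU₁ : f ξ ∈ U₁ := hU₁def ▸ ha₀mem
  have hU₁O : ∀ s ∈ U₁, r ≤ degFun f s := fun s hs => ha₀le (hU₁def ▸ hs)
  have hcomp : IsCompact ({s : ↑S | r < degFun f s} ∩ (U₁ : Set S)) := by
    have h1 : IsCompact (⋃ k ∈ Finset.Ioc r (degFun f y₀),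
        ({s : ↑S | MoreMor.fibreIntegral f (wCan f) s = ((k : ℕ) : ℤ)} ∩ (U₁ : Set S))) :=
      Finset.isCompact_biUnion _ (fun k _ => isCompact_level_inter_affine f U₁ hU₁ (k : ℤ))
    have heq : {s : ↑S | r < degFun f s} ∩ (U₁ : Set S) =
        ⋃ k ∈ Finset.Ioc r (degFun f y₀),
          ({s : ↑S | MoreMor.fibreIntegral f (wCan f) s = ((k : ℕ) : ℤ)} ∩ (U₁ : Set S)) := by
      ext s
      simp only [Set.mem_inter_iff, Set.mem_setOf_eq, Set.mem_iUnion, Finset.mem_Ioc,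
        exists_prop]
      constructor
      · rintro ⟨h1, h2⟩
        exact ⟨degFun f s, ⟨h1, hbound s⟩, (degFun_cast f s).symm, h2⟩
      · rintro ⟨k, ⟨hk1, hk2⟩, hk3, h2⟩
        have hk : degFun f s = k := by
          have h := degFun_cast f s
          rw [hk3] at h
          exact_mod_cast h
        exact ⟨hk ▸ hk1, h2⟩
    rw [heq]; exact h1
  have hex : ∀ s : ↥({s : ↑S | r < degFun f s} ∩ (U₁ : Set S)), ∃ a : Γ(S, U₁),
      S.basicOpen a ≤ (⟨{s : ↑S | r < degFun f s}, hQ⟩ : S.Opens) ∧ s.1 ∈ S.basicOpen a :=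
    fun s => hU₁.exists_basicOpen_le (V := ⟨{s : ↑S | r < degFun f s}, hQ⟩)
      ⟨s.1, s.2.1⟩ s.2.2
  choose a ha1 ha2 using hex
  obtain ⟨t, ht⟩ := hcomp.elim_nhds_subcover'
    (fun s hs => (S.basicOpen (a ⟨s, hs⟩) : Set S))
    (fun s hs => (S.basicOpen (a ⟨s, hs⟩)).isOpen.mem_nhds (ha2 ⟨s, hs⟩))
  -- sections over `V₁ = f⁻¹ U₁`
  have hV₁ : IsAffineOpen (f ⁻¹ᵁ U₁) := hU₁.preimage f
  obtain ⟨g₁, hg₁⟩ : ∃ g₁ : Γ(X, f ⁻¹ᵁ U₁), g₁ = X.presheaf.map (homOfLE le_top).op g :=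
    ⟨_, rfl⟩
  have hgermg₁ : ∀ (x : X) (hx : x ∈ f ⁻¹ᵁ U₁),
      X.presheaf.germ (f ⁻¹ᵁ U₁) x hx g₁ = X.presheaf.germ ⊤ x trivial g := by
    intro x hx
    rw [hg₁, TopCat.Presheaf.germ_res_apply]
  have hvan : ∀ j : ↥({s : ↑S | r < degFun f s} ∩ (U₁ : Set S)),
      X.presheaf.map (homOfLE (X.basicOpen_le
        ((f.appLE U₁ (f ⁻¹ᵁ U₁) le_rfl).hom (a j)))).op g₁ = 0 := by
    intro j
    refine TopCat.Presheaf.section_ext X.sheaf _ _ _ (fun x hx => ?_)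
    change X.presheaf.germ _ x _ (X.presheaf.map _ g₁) = X.presheaf.germ _ x _ 0
    rw [map_zero, TopCat.Presheaf.germ_res_apply, hgermg₁]
    by_contra hne
    have hx' : x ∈ (f ⁻¹ᵁ U₁) ⊓ f ⁻¹ᵁ (S.basicOpen (a j)) := by
      have h := Scheme.basicOpen_appLE f (f ⁻¹ᵁ U₁) U₁ le_rfl (a j)
      rw [← h]; exact hx
    have h1 : r < degFun f (f x) := ha1 j hx'.2
    have h2 := hmax x hne
    omega
  have hN : ∀ j : ↥({s : ↑S | r < degFun f s} ∩ (U₁ : Set S)), ∃ n : ℕ,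
      (f.appLE U₁ (f ⁻¹ᵁ U₁) le_rfl).hom (a j) ^ n * g₁ = 0 := fun j =>
    exists_pow_mul_eq_zero_of_res_basicOpen_eq_zero_of_isAffineOpen X hV₁ g₁ _ (hvan j)
  choose N hN using hN
  obtain ⟨I₁, hI₁def⟩ : ∃ I₁ : Ideal Γ(S, U₁),
      I₁ = Ideal.span (Set.range fun j : ↥t => (a j.1) ^ (N j.1 + 1)) := ⟨_, rfl⟩
  have hI₁fg : I₁.FG := by
    rw [hI₁def]; exact Submodule.fg_span (Set.finite_range _)
  have hI₁g : ∀ i ∈ I₁, (f.appLE U₁ (f ⁻¹ᵁ U₁) le_rfl).hom i * g₁ = 0 := by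
    intro i hi
    rw [hI₁def] at hi
    refine Submodule.span_induction
      (p := fun i _ => (f.appLE U₁ (f ⁻¹ᵁ U₁) le_rfl).hom i * g₁ = 0) ?_ ?_ ?_ ?_ hi
    · rintro _ ⟨j, rfl⟩
      show (f.appLE U₁ (f ⁻¹ᵁ U₁) le_rfl).hom ((a j.1) ^ (N j.1 + 1)) * g₁ = 0
      rw [map_pow, pow_succ', mul_assoc, hN j.1, mul_zero]
    · rw [map_zero, zero_mul]
    · intro x y _ _ hx hy
      rw [map_add, add_mul, hx, hy, add_zero]
    · intro c x _ hx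
      rw [smul_eq_mul, map_mul, mul_assoc, hx, mul_zero]
  have hbo : ∀ (q : PrimeSpectrum Γ(S, U₁)) (c : Γ(S, U₁)),
      hU₁.fromSpec q ∈ S.basicOpen c ↔ c ∉ q.asIdeal := by
    intro q c
    have h := hU₁.fromSpec_preimage_basicOpen c
    constructor
    · intro hq
      have hq' : q ∈ hU₁.fromSpec ⁻¹ᵁ S.basicOpen c := hq
      rw [h] at hq'
      exact hq'
    · intro hq
      have hq' : q ∈ hU₁.fromSpec ⁻¹ᵁ S.basicOpen c := by rw [h]; exact hq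
      exact hq'
  have hI₁deg : ∀ q : PrimeSpectrum Γ(S, U₁), I₁ ≤ q.asIdeal →
      degFun f (hU₁.fromSpec q) = r := by
    intro q hq
    have hsU : hU₁.fromSpec q ∈ (U₁ : Set S) := by
      have h := hU₁.range_fromSpec
      rw [← h]; exact Set.mem_range_self q
    have h1 := hU₁O _ hsU
    by_contra hne
    have h2 : r < degFun f (hU₁.fromSpec q) := lt_of_le_of_ne h1 (Ne.symm hne)
    obtain ⟨j, hjt, hj⟩ : ∃ j ∈ t, hU₁.fromSpec q ∈ (S.basicOpen (a j) : Set S) := by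
      have h := ht ⟨h2, hsU⟩
      simp only [Set.mem_iUnion, exists_prop] at h
      exact h
    have h3 : a j ∉ q.asIdeal := (hbo q (a j)).mp hj
    have h4 : (a j) ^ (N j + 1) ∈ I₁ := by
      rw [hI₁def]; exact Ideal.subset_span ⟨⟨j, hjt⟩, rfl⟩
    exact h3 (q.isPrime.mem_of_pow_mem _ (hq h4))
  letI algφ₁ : Algebra Γ(S, U₁) Γ(X, f ⁻¹ᵁ U₁) := (f.appLE U₁ (f ⁻¹ᵁ U₁) le_rfl).hom.toAlgebra
  obtain ⟨hMfin, hMflat, hMfp, hMrank⟩ := KL f hfin U₁ hU₁ hV₁ rfl I₁ r hI₁deg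
  haveI := hMfin
  haveI := hMflat
  haveI := hMfp
  obtain ⟨p₁, hp₁⟩ : ∃ p₁ : PrimeSpectrum Γ(S, U₁), hU₁.fromSpec p₁ = f ξ :=
    ⟨hU₁.primeIdealOf ⟨f ξ, hξU₁⟩, hU₁.fromSpec_primeIdealOf ⟨f ξ, hξU₁⟩⟩
  have hI₁p : I₁ ≤ p₁.asIdeal := by
    rw [hI₁def]
    refine Ideal.span_le.mpr ?_
    rintro _ ⟨j, rfl⟩
    show (a j.1) ^ (N j.1 + 1) ∈ p₁.asIdeal
    refine Ideal.pow_mem_of_mem _ ?_ _ (Nat.succ_pos _)
    by_contra hnot
    have h1 : hU₁.fromSpec p₁ ∈ S.basicOpen (a j.1) := (hbo p₁ (a j.1)).mpr hnot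
    rw [hp₁] at h1
    have h2 : r < degFun f (f ξ) := ha1 j.1 h1
    omega
  haveI := p₁.isPrime
  obtain ⟨a', ha'p, b, hb1, hb2⟩ := algFreeQuot (A := Γ(S, U₁)) (B := Γ(X, f ⁻¹ᵁ U₁)) I₁
    p₁.asIdeal hI₁p r hMrank
  -- the final opens
  have hU₂ : IsAffineOpen (S.basicOpen a') := hU₁.basicOpen a'
  have hV₂ : IsAffineOpen (X.basicOpen ((f.appLE U₁ (f ⁻¹ᵁ U₁) le_rfl).hom a')) :=
    hV₁.basicOpen _
  have hV₂eq : X.basicOpen ((f.appLE U₁ (f ⁻¹ᵁ U₁) le_rfl).hom a') =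
      (f ⁻¹ᵁ U₁) ⊓ f ⁻¹ᵁ (S.basicOpen a') := Scheme.basicOpen_appLE f _ _ le_rfl a'
  have hVU₂ : X.basicOpen ((f.appLE U₁ (f ⁻¹ᵁ U₁) le_rfl).hom a') ≤
      f ⁻¹ᵁ (S.basicOpen a') := by
    rw [hV₂eq]; exact inf_le_right
  have hξU₂ : f ξ ∈ S.basicOpen a' := by
    rw [← hp₁]; exact (hbo p₁ a').mpr ha'p
  have hξV₂ : ξ ∈ X.basicOpen ((f.appLE U₁ (f ⁻¹ᵁ U₁) le_rfl).hom a') := by
    rw [hV₂eq]; exact ⟨hξU₁, hξU₂⟩
  have hcomm : ∀ x : Γ(S, U₁),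
      (f.appLE (S.basicOpen a') (X.basicOpen ((f.appLE U₁ (f ⁻¹ᵁ U₁) le_rfl).hom a')) hVU₂).hom
        ((S.presheaf.map (homOfLE (S.basicOpen_le a')).op).hom x) =
      (X.presheaf.map (homOfLE (X.basicOpen_le
        ((f.appLE U₁ (f ⁻¹ᵁ U₁) le_rfl).hom a'))).op).hom
        ((f.appLE U₁ (f ⁻¹ᵁ U₁) le_rfl).hom x) := by
    intro x
    have h1 := Scheme.Hom.map_appLE f hVU₂ (homOfLE (S.basicOpen_le a')).op
    have h2 := Scheme.Hom.appLE_map f (le_rfl : f ⁻¹ᵁ U₁ ≤ f ⁻¹ᵁ U₁)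
      (homOfLE (X.basicOpen_le ((f.appLE U₁ (f ⁻¹ᵁ U₁) le_rfl).hom a'))).op
    have h3 := congrArg (fun h => h.hom x) (h1.trans h2.symm)
    exact h3
  have hflat₂ : (f.appLE (S.basicOpen a')
      (X.basicOpen ((f.appLE U₁ (f ⁻¹ᵁ U₁) le_rfl).hom a')) hVU₂).hom.Flat :=
    HasRingHomProperty.appLE (P := @Flat) f inferInstance ⟨S.basicOpen a', hU₂⟩
      ⟨X.basicOpen ((f.appLE U₁ (f ⁻¹ᵁ U₁) le_rfl).hom a'), hV₂⟩ hVU₂
  have hA' := hU₁.isLocalization_basicOpen a'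
  have hB' := hV₁.isLocalization_basicOpen ((f.appLE U₁ (f ⁻¹ᵁ U₁) le_rfl).hom a')
  obtain ⟨hspan₂, hind₂⟩ := locLemma (f.appLE U₁ (f ⁻¹ᵁ U₁) le_rfl).hom
    (f.appLE (S.basicOpen a') (X.basicOpen ((f.appLE U₁ (f ⁻¹ᵁ U₁) le_rfl).hom a')) hVU₂).hom
    (S.presheaf.map (homOfLE (S.basicOpen_le a')).op).hom
    (X.presheaf.map (homOfLE (X.basicOpen_le ((f.appLE U₁ (f ⁻¹ᵁ U₁) le_rfl).hom a'))).op).hom
    hcomm a' hA' hB' I₁ r b hb1 hb2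
  have hg₂ : X.presheaf.map (homOfLE (le_top : X.basicOpen
      ((f.appLE U₁ (f ⁻¹ᵁ U₁) le_rfl).hom a') ≤ ⊤)).op g =
      (X.presheaf.map (homOfLE (X.basicOpen_le
        ((f.appLE U₁ (f ⁻¹ᵁ U₁) le_rfl).hom a'))).op).hom g₁ := by
    rw [hg₁]
    show _ = X.presheaf.map _ (X.presheaf.map _ g)
    rw [← ConcreteCategory.comp_apply, ← X.presheaf.map_comp]
    rfl
  have hI₂g : ∀ i ∈ I₁.map (S.presheaf.map (homOfLE (S.basicOpen_le a')).op).hom,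
      (f.appLE (S.basicOpen a') (X.basicOpen ((f.appLE U₁ (f ⁻¹ᵁ U₁) le_rfl).hom a'))
        hVU₂).hom i * X.presheaf.map (homOfLE (le_top : X.basicOpen
          ((f.appLE U₁ (f ⁻¹ᵁ U₁) le_rfl).hom a') ≤ ⊤)).op g = 0 := by
    intro i hi
    rw [hg₂]
    refine Submodule.span_induction (p := fun i _ =>
      (f.appLE (S.basicOpen a') (X.basicOpen ((f.appLE U₁ (f ⁻¹ᵁ U₁) le_rfl).hom a'))
        hVU₂).hom i * (X.presheaf.map (homOfLE (X.basicOpen_le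
        ((f.appLE U₁ (f ⁻¹ᵁ U₁) le_rfl).hom a'))).op).hom g₁ = 0) ?_ ?_ ?_ ?_ hi
    · rintro _ ⟨i₁, hi₁, rfl⟩
      rw [hcomm, ← map_mul, hI₁g i₁ hi₁, map_zero]
    · rw [map_zero, zero_mul]
    · intro x y _ _ hx hy
      rw [map_add, add_mul, hx, hy, add_zero]
    · intro c x _ hx
      rw [smul_eq_mul, map_mul, mul_assoc, hx, mul_zero]
  obtain ⟨F, Φ, hsemi, hinj, hmem⟩ := algMain
    (f.appLE (S.basicOpen a') (X.basicOpen ((f.appLE U₁ (f ⁻¹ᵁ U₁) le_rfl).hom a')) hVU₂).hom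
    hflat₂ (I₁.map (S.presheaf.map (homOfLE (S.basicOpen_le a')).op).hom) (hI₁fg.map _) r
    (fun k => (X.presheaf.map (homOfLE (X.basicOpen_le
      ((f.appLE U₁ (f ⁻¹ᵁ U₁) le_rfl).hom a'))).op).hom (b k)) hspan₂ hind₂ _ hI₂g
  refine ⟨S.basicOpen a', hU₂, X.basicOpen ((f.appLE U₁ (f ⁻¹ᵁ U₁) le_rfl).hom a'), hV₂, hVU₂,
    ?_, F, r, hr1, Φ, hsemi, hinj, hmem⟩
  intro h0
  apply hξ
  have h := TopCat.Presheaf.germ_res_apply X.presheaf (homOfLE (le_top : X.basicOpen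
      ((f.appLE U₁ (f ⁻¹ᵁ U₁) le_rfl).hom a') ≤ ⊤)) ξ hξV₂ g
  exact h.symm.trans ((congrArg (fun z => X.presheaf.germ (X.basicOpen
      ((f.appLE U₁ (f ⁻¹ᵁ U₁) le_rfl).hom a')) ξ hξV₂ z) h0).trans (map_zero _))

theorem exists_affine_pair {X S : Scheme.{u}} (f : X ⟶ S) (x₀ : X) :
    ∃ (U₀ : S.Opens) (V₀ : X.Opens), IsAffineOpen U₀ ∧ IsAffineOpen V₀ ∧ V₀ ≤ f ⁻¹ᵁ U₀ ∧
      x₀ ∈ V₀ := by
  obtain ⟨_, ⟨U₀, hU₀m, rfl⟩, hxU₀, -⟩ :=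
    S.isBasis_affineOpens.exists_subset_of_mem_open (Set.mem_univ (f x₀)) isOpen_univ
  obtain ⟨_, ⟨V₀, hV₀m, rfl⟩, hxV₀, hV₀le⟩ :=
    X.isBasis_affineOpens.exists_subset_of_mem_open (show x₀ ∈ f ⁻¹ᵁ U₀ from hxU₀)
      (f ⁻¹ᵁ U₀).isOpen
  exact ⟨U₀, V₀, hU₀m, hV₀m, hV₀le, hxV₀⟩

theorem main1480 {X S : Scheme.{u}} (f : X ⟶ S) [Flat f] [LocallyOfFinitePresentation f]
    [LocallyQuasiFinite f] (g : Γ(X, ⊤)) (hg : g ≠ 0) :
    ∃ (U : S.Opens) (hU : IsAffineOpen U) (V : X.Opens) (hV : IsAffineOpen V)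
      (hVU : V ≤ f ⁻¹ᵁ U),
      X.presheaf.map (homOfLE le_top).op g ≠ (0 : Γ(X, V)) ∧
      ∃ (F : Ideal Γ(S, U)) (r : ℕ), 0 < r ∧
        letI := (f.appLE U V hVU).hom.toAlgebra
        ∃ φ : (Fin r → ↥F) →ₗ[Γ(S, U)] Γ(X, V), Function.Injective φ ∧
          X.presheaf.map (homOfLE le_top).op g ∈ LinearMap.range φ := by
  have hC : Concl f g := by
    obtain ⟨x₀, hx₀⟩ := exists_germ_ne_zero g hg
    obtain ⟨U₀, V₀, hU₀, hV₀, hV₀le, hxV₀⟩ := exists_affine_pair f x₀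
    haveI : IsAffine (U₀ : Scheme.{u}) := hU₀
    haveI : IsAffine (V₀ : Scheme.{u}) := hV₀
    refine concl_of_resLE f g U₀ V₀ hV₀le (affineCase (f.resLE U₀ V₀ hV₀le) _ ?_)
    intro h0
    apply hx₀
    have hx₀' : x₀ ∈ V₀.ι ''ᵁ ⊤ := by
      rw [Scheme.Opens.ι_image_top]; exact hxV₀
    have h := TopCat.Presheaf.germ_res_apply X.presheaf
      (homOfLE (le_top : V₀.ι ''ᵁ ⊤ ≤ ⊤)) x₀ hx₀' g
    exact h.symm.trans ((congrArg (fun z => X.presheaf.germ (V₀.ι ''ᵁ ⊤) x₀ hx₀' z) h0).trans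
      (map_zero _))
  obtain ⟨U, hU, V, hV, hVU, hne, F, r, hr, Φ, hsemi, hinj, hmem⟩ := hC
  refine ⟨U, hU, V, hV, hVU, hne, F, r, hr, ?_⟩
  letI := (f.appLE U V hVU).hom.toAlgebra
  refine ⟨{ toFun := Φ, map_add' := Φ.map_add, map_smul' := fun a c => hsemi a c }, hinj, ?_⟩
  obtain ⟨c, hc⟩ := hmem
  exact ⟨c, hc⟩

end Groth.Agent.Lib.FlatTorsH4
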