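import Groth.Agent.Lib.AlgSpQC_helper7
import Mathlib.AlgebraicGeometry.Morphisms.UniversallyClosed
import Mathlib.AlgebraicGeometry.Morphisms.UniversallyOpen
import Mathlib.AlgebraicGeometry.Morphisms.UniversallyInjective

/-!
# Universal topological properties of representable morphisms of sheaves (helper7)
-/

set_option autoImplicit false
universe u
open CategoryTheory CategoryTheory.Limits AlgebraicGeometry Opposite

namespace Groth.Agent.Lib.AlgSpUniv_helper7

open AlgSp Groth.Agent.Lib.AlgSpPoints_helper7 Groth.Agent.Lib.AlgSpQC_helper7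

variable {S : Scheme.{u}}

/-- Key formula: preimage under a chart of the image under a morphism, computed on a
represented fibre product. -/
theorem preimage_ofPt_image_map {F' F : Sp S} {p : F' ⟶ F} {T V : Over S}
    {g : (yon S).obj T ⟶ F} {fst : (yon S).obj V ⟶ F'} {a : V ⟶ T}
    (sq : IsPullback fst ((yon S).map a) p g) (W : Set (Points F')) :
    Points.ofPt g ⁻¹' (Points.map p '' W) = a.left '' (Points.ofPt fst ⁻¹' W) := by
  ext t
  constructor
  · rintro ⟨z, hz, h⟩
    rw [Points.ofPt_eq_map_ofScheme] at h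
    obtain ⟨y, hy1, hy2⟩ := exists_of_isPullback sq z _ h
    obtain ⟨v, rfl⟩ := ofScheme_surjective V y
    refine ⟨v, ?_, ?_⟩
    · change Points.ofPt fst v ∈ W
      rw [Points.ofPt_eq_map_ofScheme, hy1]
      exact hz
    · apply ofScheme_injective T
      rw [← hy2, ← Points.ofPt_eq_map_ofScheme, ofPt_yon_map]
  · rintro ⟨v, hv, rfl⟩
    refine ⟨Points.ofPt fst v, hv, ?_⟩
    rw [Points.map_ofPt, sq.w, ofPt_comp]

/-- preimage version -/
theorem preimage_ofPt_fst_preimage_map {F' F : Sp S} {p : F' ⟶ F} {T V : Over S}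
    {g : (yon S).obj T ⟶ F} {fst : (yon S).obj V ⟶ F'} {a : V ⟶ T}
    (sq : IsPullback fst ((yon S).map a) p g) (W : Set (Points F)) :
    Points.ofPt fst ⁻¹' (Points.map p ⁻¹' W) = a.left ⁻¹' (Points.ofPt g ⁻¹' W) := by
  ext v
  simp only [Set.mem_preimage]
  rw [Points.map_ofPt, sq.w, ofPt_comp]

theorem isOpenMap_map_of_repWith {F' F : Sp S} (p : F' ⟶ F) (hp : RepWith @UniversallyOpen p) :
    IsOpenMap (Points.map p) := by
  intro W hW
  rw [Points.isOpen_iff]
  intro T g
  rw [preimage_ofPt_image_map (hp.rep.isPullback g)]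
  have : UniversallyOpen (hp.rep.snd g).left := hp.property_snd g
  exact (hp.rep.snd g).left.isOpenMap _ (hW.preimage (Points.continuous_ofPt _))

theorem isClosed_iff {F : Sp S} {W : Set (Points F)} :
    IsClosed W ↔ ∀ (T : Over S) (g : (yon S).obj T ⟶ F), IsClosed (Points.ofPt g ⁻¹' W) := by
  simp only [← isOpen_compl_iff, Points.isOpen_iff, Set.preimage_compl]

theorem isClosedMap_map_of_repWith {F' F : Sp S} (p : F' ⟶ F)
    (hp : RepWith @UniversallyClosed p) : IsClosedMap (Points.map p) := by
  intro W hW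
  rw [isClosed_iff]
  intro T g
  rw [preimage_ofPt_image_map (hp.rep.isPullback g)]
  have : UniversallyClosed (hp.rep.snd g).left := hp.property_snd g
  exact (hp.rep.snd g).left.isClosedMap _ (hW.preimage (Points.continuous_ofPt _))

theorem injective_map_of_repWith {F' F : Sp S} (p : F' ⟶ F)
    (hp : RepWith @UniversallyInjective p) : Function.Injective (Points.map p) := by
  intro z₁ z₂ h
  obtain ⟨K, _, sK, m, rfl⟩ := mk_surjective' z₁
  obtain ⟨L, _, sL, n, rfl⟩ := mk_surjective' z₂
  rw [map_mk_ofHom, map_mk_ofHom, mk_ofHom_eq_iff] at h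
  obtain ⟨Ω, _, w, a, b, hab⟩ := h
  let t : (yon S).obj (Over.mk w) ⟶ F := (yon S).map a ≫ m ≫ p
  have hinj : UniversallyInjective (hp.rep.snd t).left := hp.property_snd t
  let s₁ : Over.mk w ⟶ hp.rep.pullback t := hp.rep.lift ((yon S).map a ≫ m) (𝟙 _) (by simp [t])
  let s₂ : Over.mk w ⟶ hp.rep.pullback t := hp.rep.lift ((yon S).map b ≫ n) (𝟙 _)
    (by simp only [t, Category.assoc, Functor.map_id, Category.id_comp]; simpa using hab.symm)
  have e : s₁.left (IsLocalRing.closedPoint Ω) = s₂.left (IsLocalRing.closedPoint Ω) := by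
    apply (hp.rep.snd t).left.injective
    rw [← Scheme.Hom.comp_apply, ← Scheme.Hom.comp_apply, ← Over.comp_left, ← Over.comp_left,
      hp.rep.lift_snd, hp.rep.lift_snd]
  have h₁ := ofPt_eq_mk_ofHom (hp.rep.fst t) s₁
  have h₂ := ofPt_eq_mk_ofHom (hp.rep.fst t) s₂
  rw [hp.rep.lift_fst, mk_ofHom_comp] at h₁ h₂
  rw [← h₁, ← h₂, e]

theorem isQuotientMap_map_of_repWith {F' F : Sp S} (p : F' ⟶ F)
    (hp : RepWith (MorphismProperty.universally
      (AlgebraicGeometry.topologically fun f => Topology.IsQuotientMap f)) p) :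
    Topology.IsQuotientMap (Points.map p) := by
  have hsurj : Function.Surjective (Points.map p) := by
    apply isSurjectiveMor_of_repWith
    refine repWith_mono ?_ hp
    intro A B g hg
    exact ⟨(hg _ _ _ IsPullback.of_id_snd).surjective⟩
  refine ⟨Topology.isCoinducing_iff.2 fun W =>
    ⟨fun h => ?_, fun h => h.preimage (Points.continuous_map p)⟩, hsurj⟩
  rw [Points.isOpen_iff]
  intro T g
  have hq : Topology.IsQuotientMap (hp.rep.snd g).left :=
    hp.property_snd g _ _ _ IsPullback.of_id_snd
  rw [← hq.isOpen_preimage, ← preimage_ofPt_fst_preimage_map (hp.rep.isPullback g)]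
  exact h.preimage (Points.continuous_ofPt _)

/-- A pullback square of schemes over a represented pullback square yields a represented pullback
square of sheaves. -/
theorem isPullback_of_scheme_isPullback {F G : Sp S} {f : F ⟶ G} {T V : Over S}
    {g : (yon S).obj T ⟶ G} {fst : (yon S).obj V ⟶ F} {snd : V ⟶ T}
    (sq : IsPullback fst ((yon S).map snd) f g) {X' Y' : Scheme.{u}} {f' : X' ⟶ Y'}
    {i₁ : X' ⟶ V.left} {i₂ : Y' ⟶ T.left} (h : IsPullback f' i₁ i₂ snd.left) :
    IsPullback ((yon S).map (Over.homMk i₁ rfl : Over.mk (i₁ ≫ V.hom) ⟶ V) ≫ fst)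
      ((yon S).map (Over.homMk f' (by
        change f' ≫ i₂ ≫ T.hom = i₁ ≫ V.hom
        rw [← Over.w snd, ← Category.assoc, h.w, Category.assoc]) :
          Over.mk (i₁ ≫ V.hom) ⟶ Over.mk (i₂ ≫ T.hom))) f
      ((yon S).map (Over.homMk i₂ rfl : Over.mk (i₂ ≫ T.hom) ⟶ T) ≫ g) := by
  refine IsPullback.paste_horiz (IsPullback.map (yon S) ?_) sq
  refine IsPullback.of_map (Over.forget S) ?_ ?_
  · ext
    simpa using h.w.symm
  · exact h.flip

theorem isOpenMap_map_yon_map_iff {T T' : Over S} (φ : T ⟶ T') :
    IsOpenMap (Points.map ((yon S).map φ)) ↔ IsOpenMap φ.left := by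
  rw [Points.map_yon_map_eq]
  constructor
  · intro h
    have := ((Points.schemeHomeo T').symm.isOpenMap.comp h).comp (Points.schemeHomeo T).isOpenMap
    convert this using 1
    ext t
    simp
  · intro h
    exact ((Points.schemeHomeo T').isOpenMap.comp h).comp (Points.schemeHomeo T).symm.isOpenMap

theorem isClosedMap_map_yon_map_iff {T T' : Over S} (φ : T ⟶ T') :
    IsClosedMap (Points.map ((yon S).map φ)) ↔ IsClosedMap φ.left := by
  rw [Points.map_yon_map_eq]
  constructor
  · intro h
    have := ((Points.schemeHomeo T').symm.isClosedMap.comp h).comp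
      (Points.schemeHomeo T).isClosedMap
    convert this using 1
    ext t
    simp
  · intro h
    exact ((Points.schemeHomeo T').isClosedMap.comp h).comp (Points.schemeHomeo T).symm.isClosedMap

theorem injective_map_yon_map_iff {T T' : Over S} (φ : T ⟶ T') :
    Function.Injective (Points.map ((yon S).map φ)) ↔ Function.Injective φ.left := by
  rw [Points.map_yon_map_eq]
  constructor
  · intro h
    have := ((Points.schemeHomeo T').symm.injective.comp h).comp (Points.schemeHomeo T).injective
    convert this using 1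
    ext t
    simp
  · intro h
    exact ((Points.schemeHomeo T').injective.comp h).comp (Points.schemeHomeo T).symm.injective

theorem isQuotientMap_map_yon_map_iff {T T' : Over S} (φ : T ⟶ T') :
    Topology.IsQuotientMap (Points.map ((yon S).map φ)) ↔ Topology.IsQuotientMap φ.left := by
  rw [Points.map_yon_map_eq]
  constructor
  · intro h
    have := ((Points.schemeHomeo T').symm.isQuotientMap.comp h).comp
      (Points.schemeHomeo T).isQuotientMap
    convert this using 1
    ext t
    simp
  · intro h
    exact ((Points.schemeHomeo T').isQuotientMap.comp h).comp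
      (Points.schemeHomeo T).symm.isQuotientMap

theorem repWith_universallyOpen_of_isUnivOpenMor {F G : Sp S} (f : F ⟶ G)
    (hf : Representable f) (h : IsUnivOpenMor f) : RepWith @UniversallyOpen f := by
  refine ⟨hf, fun T V g fst snd sq => ⟨fun X' Y' i₁ i₂ f' hsq => ?_⟩⟩
  have := h (IsAlgSpace.yon_obj _) _ _ _ (isPullback_of_scheme_isPullback sq hsq)
  exact (isOpenMap_map_yon_map_iff _).1 this

theorem repWith_universallyClosed_of_isUnivClosedMor {F G : Sp S} (f : F ⟶ G)
    (hf : Representable f) (h : IsUnivClosedMor f) : RepWith @UniversallyClosed f := by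
  refine ⟨hf, fun T V g fst snd sq => ⟨fun X' Y' i₁ i₂ f' hsq => ?_⟩⟩
  have := h (IsAlgSpace.yon_obj _) _ _ _ (isPullback_of_scheme_isPullback sq hsq)
  exact (isClosedMap_map_yon_map_iff _).1 this

theorem repWith_universallyInjective_of_isUnivInjectiveMor {F G : Sp S} (f : F ⟶ G)
    (hf : Representable f) (h : IsUnivInjectiveMor f) : RepWith @UniversallyInjective f := by
  refine ⟨hf, fun T V g fst snd sq => ⟨fun X' Y' i₁ i₂ f' hsq => ?_⟩⟩
  have := h (IsAlgSpace.yon_obj _) _ _ _ (isPullback_of_scheme_isPullback sq hsq)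
  exact (injective_map_yon_map_iff _).1 this

theorem repWith_univSubmersive_of_isUnivSubmersiveMor {F G : Sp S} (f : F ⟶ G)
    (hf : Representable f) (h : IsUnivSubmersiveMor f) :
    RepWith (MorphismProperty.universally
      (AlgebraicGeometry.topologically fun f => Topology.IsQuotientMap f)) f := by
  refine ⟨hf, fun T V g fst snd sq => fun X' Y' i₁ i₂ f' hsq => ?_⟩
  have := h (IsAlgSpace.yon_obj _) _ _ _ (isPullback_of_scheme_isPullback sq hsq)
  exact (isQuotientMap_map_yon_map_iff _).1 this

theorem repWith_universallyOpen_iff {F G : Sp S} (f : F ⟶ G) (hf : Representable f) :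
    RepWith @UniversallyOpen f ↔ IsUnivOpenMor f :=
  ⟨fun h _ _ _ _ _ _ sq => isOpenMap_map_of_repWith _ (repWith_snd_of_isPullback _ sq h),
    repWith_universallyOpen_of_isUnivOpenMor f hf⟩

theorem repWith_universallyClosed_iff {F G : Sp S} (f : F ⟶ G) (hf : Representable f) :
    RepWith @UniversallyClosed f ↔ IsUnivClosedMor f :=
  ⟨fun h _ _ _ _ _ _ sq => isClosedMap_map_of_repWith _ (repWith_snd_of_isPullback _ sq h),
    repWith_universallyClosed_of_isUnivClosedMor f hf⟩

theorem repWith_universallyInjective_iff {F G : Sp S} (f : F ⟶ G) (hf : Representable f) :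
    RepWith @UniversallyInjective f ↔ IsUnivInjectiveMor f :=
  ⟨fun h _ _ _ _ _ _ sq => injective_map_of_repWith _ (repWith_snd_of_isPullback _ sq h),
    repWith_universallyInjective_of_isUnivInjectiveMor f hf⟩

theorem repWith_univSubmersive_iff {F G : Sp S} (f : F ⟶ G) (hf : Representable f) :
    RepWith (MorphismProperty.universally
      (AlgebraicGeometry.topologically fun f => Topology.IsQuotientMap f)) f ↔
        IsUnivSubmersiveMor f :=
  ⟨fun h _ _ _ _ _ _ sq => isQuotientMap_map_of_repWith _ (repWith_snd_of_isPullback _ sq h),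
    repWith_univSubmersive_of_isUnivSubmersiveMor f hf⟩

end Groth.Agent.Lib.AlgSpUniv_helper7
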