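import Groth.Agent.Lib.AlgSpOpen_helper7
import Groth.Agent.Lib.AlgSpUniv_helper7
import Groth.Agent.Lib.AlgSpBasic_helper7
import Groth.Agent.Lib.AlgSpPoints_helper7

/-!
# Presentations from kernel pairs of étale charts (helper6)
-/

set_option autoImplicit false
universe u
open CategoryTheory CategoryTheory.Limits AlgebraicGeometry Opposite TopologicalSpace Topology

namespace Groth.Agent.Lib.AlgSpPresent_helper6

open AlgSp Groth.Agent.Lib.AlgSpPoints_helper7 Groth.Agent.Lib.AlgSpBasic_helper7
  Groth.Agent.Lib.AlgSpOpen_helper7 Groth.Agent.Lib.AlgSpUniv_helper7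

variable {S : Scheme.{u}}

/-- `T`-points `x, y` of `U` are related by the kernel pair `R` of `a` iff `a x = a y`. -/
theorem exists_rel_iff {F : Sp S} {R U : Over S} (s t : R ⟶ U)
    (a : (yon S).obj U ⟶ F)
    (sq : IsPullback ((yon S).map t) ((yon S).map s) a a) (T : Over S) (x y : T ⟶ U) :
    (∃ r : T ⟶ R, r ≫ t = x ∧ r ≫ s = y) ↔ (yon S).map x ≫ a = (yon S).map y ≫ a := by
  constructor
  · rintro ⟨r, rfl, rfl⟩
    rw [Functor.map_comp, Functor.map_comp, Category.assoc, Category.assoc, sq.w]
  · intro h
    obtain ⟨r, hr⟩ := (yon S).map_surjective (sq.lift _ _ h)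
    refine ⟨r, ?_, ?_⟩
    · apply (yon S).map_injective; rw [Functor.map_comp, hr, sq.lift_fst]
    · apply (yon S).map_injective; rw [Functor.map_comp, hr, sq.lift_snd]

/-- The kernel pair of a representable étale map from a scheme is an étale equivalence relation. -/
theorem isEtaleEqvRel_of_isPullback {F : Sp S} {R U : Over S} (s t : R ⟶ U)
    (a : (yon S).obj U ⟶ F) (ha : RepWith @Etale a)
    (sq : IsPullback ((yon S).map t) ((yon S).map s) a a) : IsEtaleEqvRel s t := by
  have key := exists_rel_iff s t a sq
  refine ⟨⟨?_, ?_⟩, ?_, ?_⟩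
  · intro T r r' h1 h2
    apply (yon S).map_injective
    apply sq.hom_ext
    · rw [← Functor.map_comp, ← Functor.map_comp, h1]
    · rw [← Functor.map_comp, ← Functor.map_comp, h2]
  · intro T
    exact ⟨fun x => (key T x x).2 rfl, fun {x y} h => (key T y x).2 ((key T x y).1 h).symm,
      fun {x y z} h1 h2 => (key T x z).2 (((key T x y).1 h1).trans ((key T y z).1 h2))⟩
  · exact ha.property _ _ _ sq
  · exact ha.property _ _ _ sq.flip

theorem mono_of_repWith_isOpenImmersion {Z X : Sp S} (i : Z ⟶ X)
    (hi : RepWith @IsOpenImmersion i) : Mono i :=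
  mono_of_repWith_le_mono (P := @IsOpenImmersion)
    (fun _ _ g (hg : IsOpenImmersion g) => (inferInstance : Mono g)) i hi

theorem injective_map_of_isOpenImmersion {Z X : Sp S} (i : Z ⟶ X)
    (hi : RepWith @IsOpenImmersion i) : Function.Injective (Points.map i) :=
  injective_map_of_repWith i
    (repWith_mono (P := @IsOpenImmersion) (Q := @UniversallyInjective)
      (fun _ _ g (hg : IsOpenImmersion g) => (inferInstance : UniversallyInjective g)) hi)

/-- An étale chart factors through the open subspace it covers, giving a presentation of it. -/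
theorem exists_factor_presentation {X X' : Sp S} {U : Over S}
    (a : (yon S).obj U ⟶ X) (ha : RepWith @Etale a)
    (j : X' ⟶ X) (hj : RepWith @IsOpenImmersion j)
    (himage : Set.range (Points.map j) = Set.range (Points.ofPt a)) :
    ∃ a' : (yon S).obj U ⟶ X', a' ≫ j = a ∧ RepWith @Etale a' ∧ RepWith @Surjective a' ∧
      ∀ (R : Over S) (s t : R ⟶ U), IsPullback ((yon S).map t) ((yon S).map s) a a →
        IsPresentation s t a' := by
  haveI : Mono j := mono_of_repWith_isOpenImmersion j hj
  have hsub : Set.range (Points.map a) ⊆ Set.range (Points.map j) := by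
    rintro _ ⟨y, rfl⟩
    rw [himage]
    obtain ⟨u, rfl⟩ := ofScheme_surjective U y
    exact ⟨u, Points.ofPt_eq_map_ofScheme a u⟩
  obtain ⟨a', ha'⟩ := (factors_iff_of_openImmersion j hj a).2 hsub
  have hae' : RepWith @Etale a' := repWith_of_comp_mono _ a' j (by rw [ha']; exact ha)
  have hinj : Function.Injective (Points.map j) := injective_map_of_isOpenImmersion j hj
  have hsurj : IsSurjectiveMor a' := by
    intro x'
    have : Points.map j x' ∈ Set.range (Points.ofPt a) := by rw [← himage]; exact ⟨x', rfl⟩
    obtain ⟨u, hu⟩ := this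
    refine ⟨Points.ofScheme U u, ?_⟩
    apply hinj
    rw [← Points.map_comp, ha', ← Points.ofPt_eq_map_ofScheme]; exact hu
  have has' : RepWith @Surjective a' := (repWith_surjective_iff a' hae'.rep).2 hsurj
  refine ⟨a', ha', hae', has', fun R s t sq => ?_⟩
  have sq' : IsPullback ((yon S).map t) ((yon S).map s) a' a' :=
    (isPullback_comp_mono_iff j).1 (by rw [ha']; exact sq)
  exact ⟨isEtaleEqvRel_of_isPullback s t a ha sq, hae', has', sq'⟩

end Groth.Agent.Lib.AlgSpPresent_helper6
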