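import Groth.Agent.Lib.ImmDescend_helper7
import Groth.Agent.Lib.EtaleReduced_helper7
import Groth.Agent.Lib.SchImage_helper9
import Groth.Agent.Lib.ProperOver_helper9
import Groth.Agent.Lib.AlgSpPresent_helper6

set_option autoImplicit false
universe u
open CategoryTheory CategoryTheory.Limits AlgebraicGeometry Opposite TopologicalSpace

namespace Groth.Agent.Lib.RedInducedH7

open AlgSp Groth.Agent.Lib.AlgSpPoints_helper7 Groth.Agent.Lib.AlgSpTop_helper7
  Groth.Agent.Lib.AlgSpPullback_helper7 Groth.Agent.Lib.AlgSpBasic_helper7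
  Groth.Agent.Lib.AlgSpQC_helper7 ProperOver

variable {S : Scheme.{u}}

theorem isReduced_red {X : Scheme.{u}} (Z : Set X) (hZ : IsClosed Z) : IsReduced (red Z hZ) := by
  apply +allowSynthFailures @IsReduced.of_openCover
    (𝒰 := (Scheme.IdealSheafData.vanishingIdeal ⟨Z, hZ⟩).subschemeCover.openCover)
  intro U
  show IsReduced (Spec (.of (Γ(X, U.1) ⧸ (Scheme.IdealSheafData.vanishingIdeal ⟨Z, hZ⟩).ideal U)))
  rw [affine_isReduced_iff]
  show _root_.IsReduced (Γ(X, U.1) ⧸ (Scheme.IdealSheafData.vanishingIdeal ⟨Z, hZ⟩).ideal U)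
  rw [← Ideal.isRadical_iff_quotient_reduced, Scheme.IdealSheafData.vanishingIdeal_ideal]
  exact PrimeSpectrum.isRadical_vanishingIdeal _

/-- The kernel of a morphism from a reduced scheme with closed range `A`. -/
theorem ker_eq_of_range {Y X : Scheme.{u}} [IsReduced Y] (π : Y ⟶ X) {A : Set X}
    (hA : IsClosed A) (h : Set.range π = A) :
    π.ker = Scheme.IdealSheafData.vanishingIdeal ⟨A, hA⟩ := by
  rw [Groth.Agent.Lib.SchImage_helper9.ker_eq_vanishingIdeal]
  congr 1
  apply Closeds.ext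
  show closure (Set.range π) = A
  rw [h, hA.closure_eq]

/-- Invariance of the reduced induced structure under an étale relation. -/
theorem exists_isPullback_red {R₀ U₀ : Scheme.{u}} (s t : R₀ ⟶ U₀) [Etale s] [Etale t]
    (Zc : Set U₀) (hZc : IsClosed Zc) (hinv : s ⁻¹' Zc = t ⁻¹' Zc) :
    ∃ t' : pullback s (redι Zc hZc) ⟶ red Zc hZc,
      IsPullback (pullback.fst s (redι Zc hZc)) t' t (redι Zc hZc) := by
  haveI : IsReduced (red Zc hZc) := isReduced_red Zc hZc
  haveI : IsReduced (pullback s (redι Zc hZc)) :=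
    Groth.Agent.Lib.EtaleReduced_helper7.isReduced_of_etale_scheme (pullback.snd s (redι Zc hZc))
  haveI : IsReduced (pullback t (redι Zc hZc)) :=
    Groth.Agent.Lib.EtaleReduced_helper7.isReduced_of_etale_scheme (pullback.snd t (redι Zc hZc))
  have hk : Set.range (pullback.fst s (redι Zc hZc)) = s ⁻¹' Zc := by
    rw [Scheme.Pullback.range_fst, range_redι]
  have hk2 : Set.range (pullback.fst t (redι Zc hZc)) = t ⁻¹' Zc := by
    rw [Scheme.Pullback.range_fst, range_redι]
  have hcl : IsClosed (s ⁻¹' Zc) := hZc.preimage s.continuous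
  have hcl2 : IsClosed (t ⁻¹' Zc) := hZc.preimage t.continuous
  have hle : (redι Zc hZc).ker ≤ (pullback.fst s (redι Zc hZc) ≫ t).ker := by
    rw [Scheme.IdealSheafData.ker_subschemeι,
      Groth.Agent.Lib.SchImage_helper9.ker_eq_vanishingIdeal]
    apply Scheme.IdealSheafData.vanishingIdeal_antimono
    show closure (Set.range (pullback.fst s (redι Zc hZc) ≫ t)) ⊆ Zc
    apply hZc.closure_subset_iff.2
    rintro _ ⟨r, rfl⟩
    have hr : (pullback.fst s (redι Zc hZc)) r ∈ s ⁻¹' Zc := by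
      rw [← hk]
      exact ⟨r, rfl⟩
    rw [hinv] at hr
    exact hr
  let t' : pullback s (redι Zc hZc) ⟶ red Zc hZc :=
    IsClosedImmersion.lift (redι Zc hZc) (pullback.fst s (redι Zc hZc) ≫ t) hle
  have ht' : t' ≫ redι Zc hZc = pullback.fst s (redι Zc hZc) ≫ t :=
    IsClosedImmersion.lift_fac _ _ _
  refine ⟨t', ?_⟩
  let c : pullback s (redι Zc hZc) ⟶ pullback t (redι Zc hZc) :=
    pullback.lift (pullback.fst s (redι Zc hZc)) t' ht'.symm
  have hc1 : c ≫ pullback.fst t (redι Zc hZc) = pullback.fst s (redι Zc hZc) :=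
    pullback.lift_fst _ _ _
  have hc2 : c ≫ pullback.snd t (redι Zc hZc) = t' := pullback.lift_snd _ _ _
  have hker : (pullback.fst s (redι Zc hZc)).ker = (pullback.fst t (redι Zc hZc)).ker := by
    rw [ker_eq_of_range _ hcl hk, ker_eq_of_range _ hcl2 hk2]
    congr 1
    exact Closeds.ext hinv
  haveI : IsIso c := IsClosedImmersion.isIso_of_ker_eq _ _ c hc1 hker
  exact IsPullback.of_iso_pullback ⟨ht'.symm⟩ (asIso c) hc1 hc2

/-- An algebraic space has a presentation. -/
theorem exists_presentation {X : Sp S} (hX : IsAlgSpace X) :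
    ∃ (R U : Over S) (s t : R ⟶ U) (p : (yon S).obj U ⟶ X), IsPresentation s t p := by
  obtain ⟨U, p, hpe, hps⟩ := hX.atlas
  have sq := hpe.rep.isPullback' p
  exact ⟨_, U, hpe.rep.snd p, hpe.rep.fst' p, p,
    ⟨Groth.Agent.Lib.AlgSpPresent_helper6.isEtaleEqvRel_of_isPullback _ _ p hpe sq, hpe, hps, sq⟩⟩

/-- The reduced induced closed subspace structure on a closed subset. -/
theorem exists_isRedInduced (X : Space S) (T : Set (Points X.obj)) (hT : IsClosed T) :
    ∃ (Z : Space S) (i : Z ⟶ X), IsRedInduced T i.hom := by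
  obtain ⟨R, U, s, t, p, hp⟩ := exists_presentation X.property
  let Zc : Set ↥U.left := Points.ofPt p ⁻¹' T
  have hZc : IsClosed Zc := hT.preimage (Points.continuous_ofPt p)
  have hinv : s.left ⁻¹' Zc = t.left ⁻¹' Zc := by
    ext r
    show Points.ofPt p (s.left r) ∈ T ↔ Points.ofPt p (t.left r) ∈ T
    rw [← ofPt_comp, ← ofPt_comp, hp.isPullback.w]
  haveI : Etale s.left := hp.eqvRel.etale_left
  haveI : Etale t.left := hp.eqvRel.etale_right
  obtain ⟨t', ht⟩ := exists_isPullback_red s.left t.left Zc hZc hinv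
  have hs := IsPullback.of_hasPullback s.left (redι Zc hZc)
  obtain ⟨Z, i, q, -, sqP, hcl, -⟩ := Groth.Agent.Lib.ImmDescendH7.exists_subspace X s t p hp
    (redι Zc hZc) _ _ t' hs ht
  have hqs : RepWith @Surjective q := repWith_fst_of_isPullback _ sqP hp.surjective
  have hqe : RepWith @Etale q := repWith_fst_of_isPullback _ sqP hp.etale
  refine ⟨Z, i, hcl inferInstance, ?_, ⟨_, q, hqe, hqs, isReduced_red Zc hZc⟩⟩
  have key : ∀ z' : ↥(red Zc hZc), Points.map i.hom (Points.ofPt q z') =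
      Points.ofPt p ((redι Zc hZc) z') := by
    intro z'
    rw [Points.map_ofPt, sqP.w, ofPt_comp]
    rfl
  apply Set.Subset.antisymm
  · rintro _ ⟨z, rfl⟩
    obtain ⟨z', rfl⟩ := ofPt_surjective q hqs z
    rw [key]
    have h1 : (redι Zc hZc) z' ∈ Set.range (redι Zc hZc) := ⟨z', rfl⟩
    exact (range_redι Zc hZc).le h1
  · intro x hx
    obtain ⟨u, rfl⟩ := ofPt_surjective p hp.surjective x
    have hu : u ∈ Set.range (redι Zc hZc) := (range_redι Zc hZc).ge hx
    obtain ⟨z', rfl⟩ := hu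
    exact ⟨Points.ofPt q z', key z'⟩

end Groth.Agent.Lib.RedInducedH7
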