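import Mathlib
import Groth.Prelude
import Groth.Agent.Lib.FlatTorsSch_helper4
import Groth.Agent.Lib.AlgSpUBF2_helper4
import Groth.Agent.Lib.RedInduced_helper7

/-!
# Degree stratification of an algebraic space by a flat quasi-finite chart with universally
bounded fibres (helper4)
-/

set_option autoImplicit false
set_option linter.style.haveILetI false
set_option linter.unusedVariables false
universe u
open CategoryTheory CategoryTheory.Limits AlgebraicGeometry TopologicalSpace Opposite Topology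

namespace Groth.Agent.Lib.AlgSpDegStratH4

open AlgSp Groth.Agent.Lib.DegStratH4 Groth.Agent.Lib.LocDegH4

variable {S : Scheme.{u}}

/-- A pullback square of representable sheaves comes from a pullback square of schemes. -/
theorem isPullback_left_of_yon {U V T W : Over S} {a : W ⟶ U} {b : W ⟶ V} {f : U ⟶ T}
    {g : V ⟶ T}
    (sq : IsPullback ((yon S).map a) ((yon S).map b) ((yon S).map f) ((yon S).map g)) :
    IsPullback a.left b.left f.left g.left := by
  have h1 : IsPullback a b f g := IsPullback.of_map (yon S)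
    ((yon S).map_injective (by rw [Functor.map_comp, Functor.map_comp, sq.w])) sq
  exact h1.map (Over.forget S)

/-- Comparison of two represented pullbacks of `w` along `g` and along `h_φ ≫ g`. -/
theorem exists_isPullback_left {F : Sp S} {W : Over S} (w : (yon S).obj W ⟶ F)
    {V T V' T' : Over S} {fstV : (yon S).obj V ⟶ (yon S).obj W} {π : V ⟶ T}
    {g : (yon S).obj T ⟶ F} (sq : IsPullback fstV ((yon S).map π) w g)
    {fstV' : (yon S).obj V' ⟶ (yon S).obj W} {π' : V' ⟶ T'} {g' : (yon S).obj T' ⟶ F}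
    (sq' : IsPullback fstV' ((yon S).map π') w g') (φ : T' ⟶ T)
    (hg : g' = (yon S).map φ ≫ g) :
    ∃ l₀ : V' ⟶ V, IsPullback l₀.left π'.left π.left φ.left := by
  subst hg
  have hw : fstV' ≫ w = ((yon S).map π' ≫ (yon S).map φ) ≫ g := by
    rw [Category.assoc]; exact sq'.w
  obtain ⟨l₀, hl₀⟩ := (yon S).map_surjective
    (sq.lift fstV' ((yon S).map π' ≫ (yon S).map φ) hw)
  have h1 : (yon S).map l₀ ≫ fstV = fstV' := by rw [hl₀]; exact sq.lift_fst _ _ _
  have h2 : (yon S).map l₀ ≫ (yon S).map π = (yon S).map π' ≫ (yon S).map φ := by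
    rw [hl₀]; exact sq.lift_snd _ _ _
  have hout : IsPullback ((yon S).map l₀ ≫ fstV) ((yon S).map π') w ((yon S).map φ ≫ g) := by
    rw [h1]; exact sq'
  exact ⟨l₀, isPullback_left_of_yon (IsPullback.of_right hout h2 sq)⟩

theorem finite_of_isFinite_field {T : Scheme.{u}} {K : Type u} [Field K]
    (c : T ⟶ Spec (CommRingCat.of K)) (hc : IsFinite c) : Finite ↥T := by
  haveI := hc
  exact (Groth.Agent.Lib.AlgSpUBF2_helper4.finite_discrete_of_isFinite c).1

/-- Finite locally free of degree `r` in terms of the degree function. -/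
theorem isFinLocFreeOfDeg_iff' {X S : Scheme.{u}} (f : X ⟶ S) [Flat f]
    [LocallyOfFinitePresentation f] [IsSeparated f] [LocallyQuasiFinite f]
    (hfin : ∀ s : S, (f ⁻¹' {s}).Finite) (r : ℕ) :
    Mor2.IsFinLocFreeOfDeg r f ↔ ∀ s : S, degFun f s = r := by
  have hpb : IsPullback (𝟙 X) f f (𝟙 S) := IsPullback.of_id_fst
  constructor
  · rintro ⟨⟨h1, h2, h3⟩, h4⟩ s
    haveI := h1
    have h5 := finrank_eq_fibreIntegral f hfin (𝟙 X) f (𝟙 S) hpb s
    have h6 : ((r : ℕ) : ℤ) = ((degFun f s : ℕ) : ℤ) := by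
      rw [h4 s] at h5
      exact h5.trans (degFun_cast f s).symm
    exact_mod_cast h6.symm
  · intro h
    exact Groth.Agent.Lib.FlatTorsH4.isFinLocFreeOfDeg_of_isPullback f hfin (𝟙 X) f (𝟙 S) hpb r
      (fun t => h _)

/-- The hypotheses on the chart `w`. -/
structure Hyp {F : Sp S} {W : Over S} (w : (yon S).obj W ⟶ F) (n : ℕ) : Prop where
  rep : AlgSp.Representable w
  fl : RepWith @Flat w
  fp : RepWith @LocallyOfFinitePresentation w
  sep : RepWith @IsSeparated w
  qf : RepWith @LocallyQuasiFinite w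
  bdd : W4dec.DegFibresLE n w

section

variable {F : Sp S} {W : Over S} {w : (yon S).obj W ⟶ F} {n : ℕ}

theorem Hyp.flat (H : Hyp w n) {V T : Over S} {fstV : (yon S).obj V ⟶ (yon S).obj W}
    {π : V ⟶ T} {g : (yon S).obj T ⟶ F} (sq : IsPullback fstV ((yon S).map π) w g) :
    Flat π.left := H.fl.2 g fstV π sq

theorem Hyp.lfp (H : Hyp w n) {V T : Over S} {fstV : (yon S).obj V ⟶ (yon S).obj W}
    {π : V ⟶ T} {g : (yon S).obj T ⟶ F} (sq : IsPullback fstV ((yon S).map π) w g) :
    LocallyOfFinitePresentation π.left := H.fp.2 g fstV π sq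

theorem Hyp.isSep (H : Hyp w n) {V T : Over S} {fstV : (yon S).obj V ⟶ (yon S).obj W}
    {π : V ⟶ T} {g : (yon S).obj T ⟶ F} (sq : IsPullback fstV ((yon S).map π) w g) :
    IsSeparated π.left := H.sep.2 g fstV π sq

theorem Hyp.lqf (H : Hyp w n) {V T : Over S} {fstV : (yon S).obj V ⟶ (yon S).obj W}
    {π : V ⟶ T} {g : (yon S).obj T ⟶ F} (sq : IsPullback fstV ((yon S).map π) w g) :
    LocallyQuasiFinite π.left := H.qf.2 g fstV π sq

/-- The degree of the fibre of `w` over a field valued point. -/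
noncomputable def dq (hrep : AlgSp.Representable w) (q : FieldPt F) : ℕ :=
  (hrep.snd q.toHom).left.finrank (IsLocalRing.closedPoint q.K)

theorem Hyp.isFinite_q (H : Hyp w n) (q : FieldPt F) : IsFinite (H.rep.snd q.toHom).left :=
  (H.bdd q _ (H.rep.snd q.toHom) (H.rep.fst q.toHom) (H.rep.isPullback q.toHom).flip).1

theorem Hyp.dq_le (H : Hyp w n) (q : FieldPt F) : dq H.rep q ≤ n :=
  (H.bdd q _ (H.rep.snd q.toHom) (H.rep.fst q.toHom) (H.rep.isPullback q.toHom).flip).2 _

theorem Hyp.dq_ofHom_comp (H : Hyp w n) (q : FieldPt F) {Ω : Type u} [Field Ω]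
    {sΩ : Spec (CommRingCat.of Ω) ⟶ S} (a : Over.mk sΩ ⟶ q.pt) :
    dq H.rep (Groth.Agent.Lib.AlgSpPoints_helper7.ofHom ((yon S).map a ≫ q.toHom)) =
      dq H.rep q := by
  have htoHom : (Groth.Agent.Lib.AlgSpPoints_helper7.ofHom ((yon S).map a ≫ q.toHom)).toHom =
      (yon S).map a ≫ q.toHom := Groth.Agent.Lib.AlgSpPoints_helper7.toHom_ofHom _
  obtain ⟨l₀, hpb⟩ := exists_isPullback_left w (H.rep.isPullback q.toHom)
    (H.rep.isPullback
      (Groth.Agent.Lib.AlgSpPoints_helper7.ofHom ((yon S).map a ≫ q.toHom)).toHom) a htoHom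
  haveI : IsFinite (H.rep.snd q.toHom).left := H.isFinite_q q
  haveI : Flat (H.rep.snd q.toHom).left := H.flat (H.rep.isPullback q.toHom)
  have h := Scheme.Hom.finrank_of_isPullback l₀.left _ _ a.left hpb (IsLocalRing.closedPoint Ω)
  have e : (IsLocalRing.closedPoint q.K : PrimeSpectrum q.K) =
      a.left (IsLocalRing.closedPoint Ω) := Subsingleton.elim _ _
  exact h.trans (congrArg (fun y => Scheme.Hom.finrank (H.rep.snd q.toHom).left y) e.symm)

theorem Hyp.dq_rel (H : Hyp w n) {p q : FieldPt F} (h : FieldPt.Rel p q) :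
    dq H.rep p = dq H.rep q := by
  obtain ⟨Ω, hΩ, w', a, b, hab⟩ := (Groth.Agent.Lib.AlgSpPoints_helper7.rel_iff p q).1 h
  letI : Field Ω := hΩ
  have h1 := H.dq_ofHom_comp p a
  have h2 := H.dq_ofHom_comp q b
  rw [hab] at h1
  exact h1.symm.trans h2

/-- The degree function on the points of `F`. -/
noncomputable def deg (H : Hyp w n) : Points F → ℕ :=
  Quotient.lift (dq H.rep) (fun _ _ h => H.dq_rel h)

theorem deg_mk (H : Hyp w n) (q : FieldPt F) : deg H (Points.mk q) = dq H.rep q := rfl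

theorem deg_le (H : Hyp w n) (x : Points F) : deg H x ≤ n := by
  obtain ⟨q, rfl⟩ := Points.mk_surjective x
  exact H.dq_le q

theorem Hyp.exists_fibre (H : Hyp w n) {V T : Over S} {fstV : (yon S).obj V ⟶ (yon S).obj W}
    {π : V ⟶ T} {g : (yon S).obj T ⟶ F} (sq : IsPullback fstV ((yon S).map π) w g)
    (t : ↥T.left) :
    ∃ l₀ : H.rep.pullback (FieldPt.ofPt g t).toHom ⟶ V,
      IsPullback l₀.left (H.rep.snd (FieldPt.ofPt g t).toHom).left π.left
        (T.left.fromSpecResidueField t) := by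
  obtain ⟨l₀, h⟩ := exists_isPullback_left w sq (H.rep.isPullback (FieldPt.ofPt g t).toHom)
    (Over.homMk (T.left.fromSpecResidueField t) rfl) (FieldPt.toHom_ofPt g t)
  exact ⟨l₀, h⟩

theorem Hyp.finite_fibre (H : Hyp w n) {V T : Over S} {fstV : (yon S).obj V ⟶ (yon S).obj W}
    {π : V ⟶ T} {g : (yon S).obj T ⟶ F} (sq : IsPullback fstV ((yon S).map π) w g)
    (t : ↥T.left) : (π.left ⁻¹' {t}).Finite := by
  obtain ⟨l₀, hpb⟩ := H.exists_fibre sq t
  haveI hF : Finite ↥(H.rep.pullback (FieldPt.ofPt g t).toHom).left :=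
    finite_of_isFinite_field (K := (FieldPt.ofPt g t).K)
      (H.rep.snd (FieldPt.ofPt g t).toHom).left (H.isFinite_q _)
  refine (Set.finite_range l₀.left).subset ?_
  intro v hv
  have e : (T.left.fromSpecResidueField t) (IsLocalRing.closedPoint (FieldPt.ofPt g t).K) = t :=
    Scheme.fromSpecResidueField_apply t _
  have hv' : π.left v =
      (T.left.fromSpecResidueField t) (IsLocalRing.closedPoint (FieldPt.ofPt g t).K) := by
    rw [e]; exact hv
  obtain ⟨p, hp, -⟩ := Scheme.exists_preimage_of_isPullback hpb v _ hv'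
  exact ⟨p, hp⟩

theorem Hyp.dq_ofPt (H : Hyp w n) {V T : Over S} {fstV : (yon S).obj V ⟶ (yon S).obj W}
    {π : V ⟶ T} {g : (yon S).obj T ⟶ F} (sq : IsPullback fstV ((yon S).map π) w g)
    (t : ↥T.left) : dq H.rep (FieldPt.ofPt g t) = degFun π.left t := by
  haveI := H.flat sq
  haveI := H.lfp sq
  haveI := H.isSep sq
  haveI := H.lqf sq
  have hfin : ∀ s : ↥T.left, (π.left ⁻¹' {s}).Finite := fun s => H.finite_fibre sq s
  obtain ⟨l₀, hpb⟩ := H.exists_fibre sq t
  haveI : IsFinite (H.rep.snd (FieldPt.ofPt g t).toHom).left := H.isFinite_q _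
  have h5 := finrank_eq_fibreIntegral π.left hfin l₀.left _ _ hpb
    (IsLocalRing.closedPoint (FieldPt.ofPt g t).K)
  have e : (T.left.fromSpecResidueField t) (IsLocalRing.closedPoint (FieldPt.ofPt g t).K) = t :=
    Scheme.fromSpecResidueField_apply t _
  have h6 : ((dq H.rep (FieldPt.ofPt g t) : ℕ) : ℤ) = ((degFun π.left t : ℕ) : ℤ) :=
    (h5.trans (congrArg (fun s => MoreMor.fibreIntegral π.left (wCan π.left) s) e)).trans
      (degFun_cast π.left t).symm
  exact_mod_cast h6

theorem isClosed_deg_lt (H : Hyp w n) (r : ℕ) : IsClosed {x : Points F | deg H x < r} := by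
  cases r with
  | zero =>
    have h0 : {x : Points F | deg H x < 0} = ∅ := by
      ext x
      simp
    rw [h0]
    exact isClosed_empty
  | succ k =>
    rw [← isOpen_compl_iff, Points.isOpen_iff]
    intro T g
    have sq := H.rep.isPullback g
    haveI := H.flat sq
    haveI := H.lfp sq
    haveI := H.isSep sq
    haveI := H.lqf sq
    have hfin : ∀ s : ↥T.left, ((H.rep.snd g).left ⁻¹' {s}).Finite :=
      fun s => H.finite_fibre sq s
    have hcl := isClosed_degFun_le (H.rep.snd g).left hfin k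
    have heq : Points.ofPt g ⁻¹' {x : Points F | deg H x < k + 1}ᶜ =
        {s : ↥T.left | degFun (H.rep.snd g).left s ≤ k}ᶜ := by
      ext t
      simp only [Set.mem_preimage, Set.mem_compl_iff, Set.mem_setOf_eq]
      have h1 : deg H (Points.ofPt g t) = degFun (H.rep.snd g).left t := H.dq_ofPt sq t
      rw [h1, Nat.lt_succ_iff]
    rw [heq]
    exact hcl.isOpen_compl

theorem isFinLocFreeOfDegMor_iff (H : Hyp w n) {T P : Sp S} (g : T ⟶ F)
    (fst : P ⟶ (yon S).obj W) (snd : P ⟶ T) (sq : IsPullback fst snd w g) (r : ℕ) :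
    IsFinLocFreeOfDegMor r snd ↔ ∀ y : Points T, deg H (Points.map g y) = r := by
  constructor
  · intro hs y
    obtain ⟨q, rfl⟩ := Points.mk_surjective y
    obtain ⟨hs1, hs2⟩ := (AlgSp.repWith_iff (finLocFreeOfDeg r) snd).1 hs
    have sq' := hs1.isPullback q.toHom
    have hd : Mor2.IsFinLocFreeOfDeg r (hs1.snd q.toHom).left :=
      hs2 q.toHom (hs1.fst q.toHom) (hs1.snd q.toHom) sq'
    have pasted := sq'.paste_horiz sq
    haveI := H.flat pasted
    haveI := H.lfp pasted
    haveI := H.isSep pasted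
    haveI := H.lqf pasted
    have hfin : ∀ s : ↥q.pt.left, ((hs1.snd q.toHom).left ⁻¹' {s}).Finite :=
      fun s => H.finite_fibre pasted s
    have h1 := (isFinLocFreeOfDeg_iff' (hs1.snd q.toHom).left hfin r).1 hd
      (IsLocalRing.closedPoint q.K)
    have h2 := H.dq_ofPt pasted (IsLocalRing.closedPoint q.K)
    have h3 : Points.map g (Points.mk q) =
        Points.ofPt (q.toHom ≫ g) (IsLocalRing.closedPoint q.K) :=
      (congrArg (Points.map g) (Points.ofPt_toHom q (IsLocalRing.closedPoint q.K))).symm.trans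
        (Points.map_ofPt q.toHom g (IsLocalRing.closedPoint q.K))
    rw [h3]
    exact h2.trans h1
  · intro hdeg
    refine (AlgSp.repWith_iff (finLocFreeOfDeg r) snd).2
      ⟨MorphismProperty.of_isPullback sq H.rep, ?_⟩
    intro U V h fst' snd' sq'
    have pasted := sq'.paste_horiz sq
    haveI := H.flat pasted
    haveI := H.lfp pasted
    haveI := H.isSep pasted
    haveI := H.lqf pasted
    have hfin : ∀ s : ↥U.left, (snd'.left ⁻¹' {s}).Finite :=
      fun s => H.finite_fibre pasted s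
    show Mor2.IsFinLocFreeOfDeg r snd'.left
    refine (isFinLocFreeOfDeg_iff' snd'.left hfin r).2 (fun u => ?_)
    have h2 := H.dq_ofPt pasted u
    rw [← h2]
    exact hdeg (Points.ofPt h u)

end

theorem main10433 {S : Scheme.{u}} (X : AlgSp.Space S) {W : Over S}
    (w : (AlgSp.yon S).obj W ⟶ X.obj) (hfl : AlgSp.RepWith @Flat w)
    (hfp : AlgSp.RepWith @LocallyOfFinitePresentation w)
    (hsep : AlgSp.RepWith @IsSeparated w) (hqf : AlgSp.RepWith @LocallyQuasiFinite w)
    (hb : W4dec.HasUnivBddFibres w) :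
    ∃ (n : ℕ) (Zs : ℕ → AlgSp.Space S) (i : ∀ r, Zs r ⟶ X),
      (∀ r, AlgSp.IsRedInduced (Set.range (AlgSp.Points.map (i r).hom)) (i r).hom) ∧
      IsEmpty (AlgSp.Points (Zs 0).obj) ∧
      Set.range (AlgSp.Points.map (i (n + 1)).hom) = Set.univ ∧
      (∀ r, Set.range (AlgSp.Points.map (i r).hom) ⊆
        Set.range (AlgSp.Points.map (i (r + 1)).hom)) ∧
      ∀ (r : ℕ) (T : AlgSp.Space S) (g : T ⟶ X) (P : AlgSp.Sp S)
        (fst : P ⟶ (AlgSp.yon S).obj W) (snd : P ⟶ T.obj),
        IsPullback fst snd w g.hom →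
          (AlgSp.IsFinLocFreeOfDegMor r snd ↔
            Set.range (AlgSp.Points.map g.hom) ⊆
              Set.range (AlgSp.Points.map (i (r + 1)).hom) \
                Set.range (AlgSp.Points.map (i r).hom)) := by
  obtain ⟨n, hn⟩ := hb
  have H : Hyp w n := ⟨X.property.representable_from_yon w, hfl, hfp, hsep, hqf, hn⟩
  have hex : ∀ r : ℕ, ∃ (Z : Space S) (i : Z ⟶ X),
      IsRedInduced {x : Points X.obj | deg H x < r} i.hom :=
    fun r => Groth.Agent.Lib.RedInducedH7.exists_isRedInduced X _ (isClosed_deg_lt H r)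
  choose Zs i hi using hex
  have hrange : ∀ r, Set.range (Points.map (i r).hom) = {x : Points X.obj | deg H x < r} :=
    fun r => (hi r).2.1
  refine ⟨n, Zs, i, fun r => ⟨(hi r).1, rfl, (hi r).2.2⟩, ⟨fun z => ?_⟩, ?_, ?_, ?_⟩
  · have hz : Points.map (i 0).hom z ∈ Set.range (Points.map (i 0).hom) := ⟨z, rfl⟩
    rw [hrange 0] at hz
    exact Nat.not_lt_zero _ hz
  · rw [hrange]
    ext x
    simp only [Set.mem_setOf_eq, Set.mem_univ, iff_true]
    exact Nat.lt_succ_of_le (deg_le H x)
  · intro r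
    rw [hrange, hrange]
    intro x hx
    exact Nat.lt_succ_of_lt hx
  · intro r T g P fst snd sq
    rw [hrange, hrange, isFinLocFreeOfDegMor_iff H g.hom fst snd sq r, Set.range_subset_iff]
    refine forall_congr' fun y => ?_
    simp only [Set.mem_diff, Set.mem_setOf_eq]
    omega

end Groth.Agent.Lib.AlgSpDegStratH4
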