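import Groth.Agent.Lib.AlgSpGlue2_helper7

/-!
# Gluing with a pointwise covering hypothesis (helper7)
-/

set_option autoImplicit false
universe u
open CategoryTheory CategoryTheory.Limits AlgebraicGeometry Opposite

namespace Groth.Agent.Lib.AlgSpGlue4H7

open AlgSp Groth.Agent.Lib.AlgSpOpenSub_helper7 Groth.Agent.Lib.AlgSpGlueH7
  Groth.Agent.Lib.AlgSpGlue2H7 Groth.Agent.Lib.AlgSpCov_helper7
  Groth.Agent.Lib.AlgSpPoints_helper7 Groth.Agent.Lib.AlgSpTop_helper7

variable {S : Scheme.{u}}

/-- The preimage in a scheme `T` of the image of `i : Z ⟶ X` is the image of the base change. -/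
theorem ofPt_preimage_range {Z X : Sp S} (i : Z ⟶ X) {T V : Over S}
    (g : (yon S).obj T ⟶ X) (fst : (yon S).obj V ⟶ Z) (v : V ⟶ T)
    (sq : IsPullback fst ((yon S).map v) i g) :
    Points.ofPt g ⁻¹' Set.range (Points.map i) = Set.range v.left := by
  ext t
  constructor
  · rintro ⟨z, hz⟩
    have hz' : Points.map i z = Points.map g (Points.ofScheme T t) := by
      rw [hz, Points.ofPt_eq_map_ofScheme]
    obtain ⟨w, -, hw2⟩ := exists_of_isPullback sq z (Points.ofScheme T t) hz'
    obtain ⟨x, rfl⟩ := ofScheme_surjective V w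
    refine ⟨x, ?_⟩
    apply ofScheme_injective T
    rw [← hw2, ← Points.ofPt_eq_map_ofScheme, ofPt_yon_map]
  · rintro ⟨x, rfl⟩
    refine ⟨Points.ofPt fst x, ?_⟩
    rw [Points.map_ofPt, sq.w, ofPt_comp]

/-- The image of an open immersion is open. -/
theorem isOpen_range_map_of_openImmersion {Z X : Sp S} (i : Z ⟶ X)
    (hi : RepWith @IsOpenImmersion i) : IsOpen (Set.range (Points.map i)) := by
  rw [Points.isOpen_iff]
  intro T g
  rw [ofPt_preimage_range i g _ _ (hi.rep.isPullback g)]
  haveI : IsOpenImmersion (hi.rep.snd g).left := hi.property_snd g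
  exact (hi.rep.snd g).left.isOpenEmbedding.isOpen_range

/-- Zariski gluing with a covering hypothesis on points. -/
theorem exists_iso_of_openCover_points {F : Sp S} {ι : Type u} {Y : ι → Over S}
    (f : ∀ i, (yon S).obj (Y i) ⟶ F) (hf : ∀ i, RepWith @IsOpenImmersion (f i))
    (hcov : ∀ x : Points F, ∃ i, x ∈ Set.range (Points.map (f i))) :
    ∃ (Y' : Over S) (e : (yon S).obj Y' ≅ F) (j : ∀ i, Y i ⟶ Y'),
      (∀ i, (yon S).map (j i) ≫ e.hom = f i) ∧ (∀ i, IsOpenImmersion (j i).left) ∧
      (∀ y : Y'.left, ∃ i, y ∈ Set.range (j i).left.base) := by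
  refine exists_iso_of_openCover hf (fun T a => ?_)
  have hmem : Sieve.ofArrows (fun i => (hf i).rep.pullback a) (fun i => (hf i).rep.snd a) ∈
      J S T := by
    apply ofArrows_mem_J
    · intro i
      haveI : IsOpenImmersion ((hf i).rep.snd a).left := (hf i).property_snd a
      infer_instance
    · intro i
      haveI : IsOpenImmersion ((hf i).rep.snd a).left := (hf i).property_snd a
      infer_instance
    · intro t
      obtain ⟨i, hi⟩ := hcov (Points.ofPt a t)
      refine ⟨i, ?_⟩
      rw [← ofPt_preimage_range (f i) a _ _ ((hf i).rep.isPullback a)]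
      exact hi
  refine ⟨_, hmem, ?_⟩
  rintro T' m ⟨T₀, c, b, ⟨i⟩, rfl⟩
  refine ⟨i, c ≫ (hf i).rep.fst' a, ?_⟩
  rw [Functor.map_comp, Functor.map_comp, Category.assoc, Category.assoc,
    ((hf i).rep.isPullback' a).w]

end Groth.Agent.Lib.AlgSpGlue4H7
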