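import Mathlib

/-!
# Trace and "norm" for finitely generated projective modules / algebras (helper6)

Mathlib's `LinearMap.trace` and `LinearMap.det` are only meaningful for free modules.  For a finitely
generated projective module `P` we choose a splitting `P → F → P` through a finite free module and
take the trace of the induced endomorphism of `F`; this is independent of the splitting, compatible
with base change, and satisfies `tr (αβ) = tr (βα)`.

For the determinant we only provide the consequence needed for quotients by finite locally free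
equivalence relations: for a finite projective `A`-algebra `B` and `b : B` there is `N : A` whose
zero locus in `Spec A` is the image of the zero locus of `b`.
-/

set_option autoImplicit false
universe u v w

namespace Groth.Agent.Lib.PTraceH6

open TensorProduct

section Basic

variable (A : Type u) [CommRing A] (P : Type v) [AddCommGroup P] [Module A P]

/-- `P` is a retract of some `Fin k → A`. -/
def HasSplit : Prop :=
  ∃ (k : ℕ) (ι : P →ₗ[A] (Fin k → A)) (π : (Fin k → A) →ₗ[A] P), π ∘ₗ ι = LinearMap.id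

theorem hasSplit_of_finite_projective [Module.Finite A P] [Module.Projective A P] :
    HasSplit A P := by
  obtain ⟨k, π, hπ⟩ := Module.Finite.exists_fin' A P
  obtain ⟨ι, hι⟩ := Module.projective_lifting_property π LinearMap.id hπ
  exact ⟨k, ι, π, hι⟩

variable {A P}

theorem hasSplit_of_split {F : Type w} [AddCommGroup F] [Module A F] [Module.Free A F]
    [Module.Finite A F] (ι : P →ₗ[A] F) (π : F →ₗ[A] P) (h : π ∘ₗ ι = LinearMap.id) :
    HasSplit A P := by
  let b := Module.Free.chooseBasis A F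
  let b' := b.reindex (Fintype.equivFin _)
  let e : F ≃ₗ[A] (Fin (Fintype.card (Module.Free.ChooseBasisIndex A F)) → A) := b'.equivFun
  refine ⟨_, e.toLinearMap ∘ₗ ι, π ∘ₗ e.symm.toLinearMap, ?_⟩
  refine LinearMap.ext fun x => ?_
  have := LinearMap.congr_fun h x
  simpa using this

theorem HasSplit.finite (h : HasSplit A P) : Module.Finite A P := by
  obtain ⟨k, ι, π, hh⟩ := h
  exact Module.Finite.of_surjective π (fun x => ⟨ι x, LinearMap.congr_fun hh x⟩)

theorem HasSplit.projective (h : HasSplit A P) : Module.Projective A P := by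
  obtain ⟨k, ι, π, hh⟩ := h
  exact Module.Projective.of_split ι π hh

theorem HasSplit.of_equiv {Q : Type w} [AddCommGroup Q] [Module A Q] (h : HasSplit A P)
    (θ : P ≃ₗ[A] Q) : HasSplit A Q := by
  obtain ⟨k, ι, π, hh⟩ := h
  refine ⟨k, ι ∘ₗ θ.symm.toLinearMap, θ.toLinearMap ∘ₗ π, ?_⟩
  refine LinearMap.ext fun x => ?_
  have := LinearMap.congr_fun hh (θ.symm x)
  simp only [LinearMap.coe_comp, Function.comp_apply, LinearMap.id_coe, id_eq,
    LinearEquiv.coe_coe] at this ⊢
  rw [this, LinearEquiv.apply_symm_apply]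

theorem trace_split_indep {F : Type*} {G : Type*} [AddCommGroup F] [Module A F] [Module.Free A F]
    [Module.Finite A F] [AddCommGroup G] [Module A G] [Module.Free A G] [Module.Finite A G]
    (ι : P →ₗ[A] F) (π : F →ₗ[A] P) (h : π ∘ₗ ι = LinearMap.id)
    (ι' : P →ₗ[A] G) (π' : G →ₗ[A] P) (h' : π' ∘ₗ ι' = LinearMap.id) (φ : P →ₗ[A] P) :
    LinearMap.trace A F (ι ∘ₗ φ ∘ₗ π) = LinearMap.trace A G (ι' ∘ₗ φ ∘ₗ π') := by
  have e1 : ι ∘ₗ φ ∘ₗ π = (ι ∘ₗ π') ∘ₗ (ι' ∘ₗ φ ∘ₗ π) := by
    refine LinearMap.ext fun x => ?_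
    have := LinearMap.congr_fun h' (φ (π x))
    simp only [LinearMap.coe_comp, Function.comp_apply, LinearMap.id_coe, id_eq] at this ⊢
    rw [this]
  have e2 : ι' ∘ₗ φ ∘ₗ π' = (ι' ∘ₗ φ ∘ₗ π) ∘ₗ (ι ∘ₗ π') := by
    refine LinearMap.ext fun x => ?_
    have := LinearMap.congr_fun h (π' x)
    simp only [LinearMap.coe_comp, Function.comp_apply, LinearMap.id_coe, id_eq] at this ⊢
    rw [this]
  rw [e1, e2, LinearMap.trace_comp_comm']

variable (A P)

open Classical in
/-- The trace of an endomorphism of a finitely generated projective module (zero otherwise). -/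
noncomputable def ptrace (φ : P →ₗ[A] P) : A :=
  if h : HasSplit A P then
    LinearMap.trace A (Fin h.choose → A)
      (h.choose_spec.choose ∘ₗ φ ∘ₗ h.choose_spec.choose_spec.choose)
  else 0

variable {A P}

theorem ptrace_eq {F : Type*} [AddCommGroup F] [Module A F] [Module.Free A F] [Module.Finite A F]
    (ι : P →ₗ[A] F) (π : F →ₗ[A] P) (h : π ∘ₗ ι = LinearMap.id) (φ : P →ₗ[A] P) :
    ptrace A P φ = LinearMap.trace A F (ι ∘ₗ φ ∘ₗ π) := by
  have hs : HasSplit A P := hasSplit_of_split ι π h
  unfold ptrace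
  rw [dif_pos hs]
  exact trace_split_indep _ _ hs.choose_spec.choose_spec.choose_spec ι π h φ

theorem ptrace_add (φ ψ : P →ₗ[A] P) : ptrace A P (φ + ψ) = ptrace A P φ + ptrace A P ψ := by
  unfold ptrace
  split_ifs with h
  · rw [LinearMap.add_comp, LinearMap.comp_add, map_add]
  · simp

theorem ptrace_smul (c : A) (φ : P →ₗ[A] P) : ptrace A P (c • φ) = c * ptrace A P φ := by
  unfold ptrace
  split_ifs with h
  · rw [LinearMap.smul_comp, LinearMap.comp_smul, map_smul, smul_eq_mul]
  · simp

theorem ptrace_zero : ptrace A P (0 : P →ₗ[A] P) = 0 := by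
  have := ptrace_smul (0 : A) (0 : P →ₗ[A] P)
  simpa using this

theorem ptrace_sum {ι : Type*} (s : Finset ι) (φ : ι → (P →ₗ[A] P)) :
    ptrace A P (∑ i ∈ s, φ i) = ∑ i ∈ s, ptrace A P (φ i) := by
  classical
  induction s using Finset.induction_on with
  | empty => simp [ptrace_zero]
  | insert a s ha ih => rw [Finset.sum_insert ha, Finset.sum_insert ha, ptrace_add, ih]

theorem ptrace_comp_comm {Q : Type*} [AddCommGroup Q] [Module A Q] (hP : HasSplit A P)
    (hQ : HasSplit A Q) (α : Q →ₗ[A] P) (β : P →ₗ[A] Q) :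
    ptrace A P (α ∘ₗ β) = ptrace A Q (β ∘ₗ α) := by
  obtain ⟨k, ι, π, h⟩ := hP
  obtain ⟨l, ι', π', h'⟩ := hQ
  rw [ptrace_eq ι π h, ptrace_eq ι' π' h']
  have e1 : ι ∘ₗ (α ∘ₗ β) ∘ₗ π = (ι ∘ₗ α ∘ₗ π') ∘ₗ (ι' ∘ₗ β ∘ₗ π) := by
    refine LinearMap.ext fun x => ?_
    have := LinearMap.congr_fun h' (β (π x))
    simp only [LinearMap.coe_comp, Function.comp_apply, LinearMap.id_coe, id_eq] at this ⊢
    rw [this]
  have e2 : ι' ∘ₗ (β ∘ₗ α) ∘ₗ π' = (ι' ∘ₗ β ∘ₗ π) ∘ₗ (ι ∘ₗ α ∘ₗ π') := by
    refine LinearMap.ext fun x => ?_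
    have := LinearMap.congr_fun h (α (π' x))
    simp only [LinearMap.coe_comp, Function.comp_apply, LinearMap.id_coe, id_eq] at this ⊢
    rw [this]
  rw [e1, e2, LinearMap.trace_comp_comm']

theorem hasSplit_self : HasSplit A A :=
  hasSplit_of_split (F := A) LinearMap.id LinearMap.id rfl

theorem ptrace_self (φ : A →ₗ[A] A) : ptrace A A φ = φ 1 := by
  rw [ptrace_eq (F := A) LinearMap.id LinearMap.id rfl]
  have h1 : LinearMap.id ∘ₗ φ ∘ₗ LinearMap.id = (φ 1) • (LinearMap.id : A →ₗ[A] A) := by
    refine LinearMap.ext fun x => ?_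
    have : φ x = φ (x • (1 : A)) := by rw [smul_eq_mul, mul_one]
    simp only [LinearMap.coe_comp, Function.comp_apply, LinearMap.id_coe, id_eq,
      LinearMap.smul_apply, smul_eq_mul]
    rw [this, map_smul, smul_eq_mul, mul_comm]
  rw [h1, map_smul, LinearMap.trace_id]
  nontriviality A
  rw [Module.finrank_self, Nat.cast_one, smul_eq_mul, mul_one]

theorem ptrace_congr {Q : Type*} [AddCommGroup Q] [Module A Q] (θ : P ≃ₗ[A] Q) (hP : HasSplit A P)
    (ψ : Q →ₗ[A] Q) :
    ptrace A Q ψ = ptrace A P (θ.symm.toLinearMap ∘ₗ ψ ∘ₗ θ.toLinearMap) := by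
  have hQ : HasSplit A Q := hP.of_equiv θ
  have h1 : ψ = θ.toLinearMap ∘ₗ (θ.symm.toLinearMap ∘ₗ ψ) := by
    refine LinearMap.ext fun x => ?_
    simp
  have h2 : θ.symm.toLinearMap ∘ₗ ψ ∘ₗ θ.toLinearMap =
      (θ.symm.toLinearMap ∘ₗ ψ) ∘ₗ θ.toLinearMap := rfl
  rw [h2, ← ptrace_comp_comm hQ hP, ← h1]

theorem hasSplit_baseChange (A' : Type*) [CommRing A'] [Algebra A A'] (hP : HasSplit A P) :
    HasSplit A' (A' ⊗[A] P) := by
  obtain ⟨k, ι, π, h⟩ := hP
  exact hasSplit_of_split (ι.baseChange A') (π.baseChange A')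
    (by rw [← LinearMap.baseChange_comp, h, LinearMap.baseChange_id])

theorem ptrace_baseChange (A' : Type*) [CommRing A'] [Algebra A A'] (hP : HasSplit A P)
    (φ : P →ₗ[A] P) :
    ptrace A' (A' ⊗[A] P) (φ.baseChange A') = algebraMap A A' (ptrace A P φ) := by
  obtain ⟨k, ι, π, h⟩ := hP
  rw [ptrace_eq ι π h, ← LinearMap.trace_baseChange,
    ptrace_eq (ι.baseChange A') (π.baseChange A')
      (by rw [← LinearMap.baseChange_comp, h, LinearMap.baseChange_id])]
  rw [LinearMap.baseChange_comp, LinearMap.baseChange_comp]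

end Basic

section AlgebraTrace

variable (A : Type u) [CommRing A] (B : Type v) [CommRing B] [Algebra A B]

/-- The trace of (multiplication by) an element of a finite projective algebra. -/
noncomputable def atr (b : B) : A := ptrace A B (LinearMap.mulLeft A b)

variable {A B}

theorem atr_add (b c : B) : atr A B (b + c) = atr A B b + atr A B c := by
  unfold atr
  rw [← ptrace_add]
  congr 1
  refine LinearMap.ext fun x => ?_
  simp [add_mul]

theorem atr_algebraMap_mul (a : A) (b : B) : atr A B (algebraMap A B a * b) = a * atr A B b := by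
  unfold atr
  rw [← ptrace_smul]
  congr 1
  refine LinearMap.ext fun x => ?_
  simp [Algebra.smul_def, mul_assoc]

theorem atr_sum {ι : Type*} (s : Finset ι) (b : ι → B) :
    atr A B (∑ i ∈ s, b i) = ∑ i ∈ s, atr A B (b i) := by
  unfold atr
  rw [← ptrace_sum]
  congr 1
  refine LinearMap.ext fun x => ?_
  simp [Finset.sum_mul]

/-- Base change of the trace along a pushout square of rings. -/
theorem atr_isPushout {A' : Type*} {D : Type*} [CommRing A'] [CommRing D]
    [Algebra A A'] [Algebra A' D] [Algebra B D] [Algebra A D]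
    [IsScalarTower A A' D] [IsScalarTower A B D] [Algebra.IsPushout A A' B D]
    (hB : HasSplit A B) (b : B) :
    atr A' D (algebraMap B D b) = algebraMap A A' (atr A B b) := by
  have h : IsBaseChange A' (IsScalarTower.toAlgHom A B D).toLinearMap := Algebra.IsPushout.out
  let θ : A' ⊗[A] B ≃ₗ[A'] D := h.equiv
  have hθ : ∀ (a' : A') (x : B), θ (a' ⊗ₜ x) = a' • algebraMap B D x := fun a' x =>
    h.equiv_tmul a' x
  have hsplit : HasSplit A' (A' ⊗[A] B) := hasSplit_baseChange A' hB
  unfold atr
  rw [ptrace_congr θ hsplit, ← ptrace_baseChange A' hB]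
  congr 1
  refine LinearMap.ext fun z => ?_
  apply θ.injective
  simp only [LinearMap.coe_comp, Function.comp_apply, LinearEquiv.coe_coe,
    LinearEquiv.apply_symm_apply, LinearMap.mulLeft_apply]
  induction z using TensorProduct.induction_on with
  | zero => simp
  | tmul a' x =>
    rw [LinearMap.baseChange_tmul, hθ, hθ, LinearMap.mulLeft_apply, map_mul,
      Algebra.mul_smul_comm]
  | add z w hz hw => rw [map_add, mul_add, hz, hw, map_add, map_add]

end AlgebraTrace

section Norm

/-- Injectivity of `ι φ π + (1 - ι π)` is injectivity of `φ`. -/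
theorem injective_block_iff {A : Type*} [CommRing A] {P F : Type*} [AddCommGroup P] [Module A P]
    [AddCommGroup F] [Module A F] (ι : P →ₗ[A] F) (π : F →ₗ[A] P)
    (h : π ∘ₗ ι = LinearMap.id) (φ : P →ₗ[A] P) :
    Function.Injective (ι ∘ₗ φ ∘ₗ π + (LinearMap.id - ι ∘ₗ π) : F →ₗ[A] F) ↔
      Function.Injective φ := by
  have hπι : ∀ y, π (ι y) = y := fun y => LinearMap.congr_fun h y
  constructor
  · intro hM
    rw [injective_iff_map_eq_zero]
    intro y hy
    have h1 : (ι ∘ₗ φ ∘ₗ π + (LinearMap.id - ι ∘ₗ π) : F →ₗ[A] F) (ι y) = 0 := by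
      simp [hπι, hy]
    have h2 : ι y = 0 := by
      have := hM (h1.trans (map_zero _).symm)
      exact this
    rw [← hπι y, h2, map_zero]
  · intro hφ
    rw [injective_iff_map_eq_zero]
    intro x hx
    have h1 : π ((ι ∘ₗ φ ∘ₗ π + (LinearMap.id - ι ∘ₗ π) : F →ₗ[A] F) x) = φ (π x) := by
      simp [hπι]
    rw [hx, map_zero] at h1
    have h2 : π x = 0 := by
      have := hφ (h1.symm.trans (map_zero _).symm)
      exact this
    have h3 : (ι ∘ₗ φ ∘ₗ π + (LinearMap.id - ι ∘ₗ π) : F →ₗ[A] F) x = x := by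
      simp [h2]
    rw [← h3, hx]

/-- In a finite dimensional commutative algebra over a field, multiplication by `c` is injective iff
`c` is a unit. -/
theorem mulLeft_injective_iff_isUnit {K E : Type*} [Field K] [CommRing E] [Algebra K E]
    [FiniteDimensional K E] (c : E) :
    Function.Injective (LinearMap.mulLeft K c) ↔ IsUnit c := by
  constructor
  · intro h
    have hs : Function.Surjective (LinearMap.mulLeft K c) :=
      LinearMap.injective_iff_surjective.mp h
    obtain ⟨d, hd⟩ := hs 1
    exact IsUnit.of_mul_eq_one d (by simpa using hd)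
  · intro h x y hxy
    simp only [LinearMap.mulLeft_apply] at hxy
    exact h.mul_right_injective hxy

/-- The "norm" of an element of a finite projective algebra: its vanishing locus is the image of the
vanishing locus of the element. -/
theorem exists_norm {A B : Type u} [CommRing A] [CommRing B] [Algebra A B] [Module.Finite A B]
    [Module.Projective A B] (b : B) :
    ∃ N : A, ∀ p : PrimeSpectrum A, N ∈ p.asIdeal ↔
      ∃ q : PrimeSpectrum B, PrimeSpectrum.comap (algebraMap A B) q = p ∧ b ∈ q.asIdeal := by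
  obtain ⟨k, ι, π, h⟩ := hasSplit_of_finite_projective A B
  let M₀ : (Fin k → A) →ₗ[A] (Fin k → A) :=
    ι ∘ₗ (LinearMap.mulLeft A b) ∘ₗ π + (LinearMap.id - ι ∘ₗ π)
  refine ⟨LinearMap.det M₀, fun p => ?_⟩
  let K := p.asIdeal.ResidueField
  let E := p.asIdeal.Fiber B
  have hE : E = (K ⊗[A] B) := rfl
  haveI : FiniteDimensional K E := inferInstanceAs (Module.Finite K (K ⊗[A] B))
  -- step 1: membership in `p` is vanishing in the residue field
  rw [← Ideal.algebraMap_residueField_eq_zero, ← LinearMap.det_baseChange,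
    LinearMap.det_eq_zero_iff_ker_ne_bot, Ne, LinearMap.ker_eq_bot]
  -- step 2: the base change of `M₀`
  have hbc : M₀.baseChange K =
      (ι.baseChange K) ∘ₗ (LinearMap.mulLeft K ((1 : K) ⊗ₜ[A] b)) ∘ₗ (π.baseChange K) +
        (LinearMap.id - (ι.baseChange K) ∘ₗ (π.baseChange K)) := by
    have h1 : (LinearMap.mulLeft A b).baseChange K = LinearMap.mulLeft K ((1 : K) ⊗ₜ[A] b) := by
      refine LinearMap.ext fun z => ?_
      induction z using TensorProduct.induction_on with
      | zero => simp
      | tmul a' x =>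
        rw [LinearMap.baseChange_tmul, LinearMap.mulLeft_apply, LinearMap.mulLeft_apply,
          Algebra.TensorProduct.tmul_mul_tmul, one_mul]
      | add z w hz hw => rw [map_add, map_add, hz, hw]
    simp only [M₀]
    rw [LinearMap.baseChange_add, LinearMap.baseChange_sub, LinearMap.baseChange_comp,
      LinearMap.baseChange_comp, LinearMap.baseChange_comp, LinearMap.baseChange_id, h1]
  rw [hbc, injective_block_iff (ι.baseChange K) (π.baseChange K)
    (by rw [← LinearMap.baseChange_comp, h, LinearMap.baseChange_id]),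
    mulLeft_injective_iff_isUnit (K := K) (E := K ⊗[A] B)]
  -- step 3: units and primes of the fibre
  constructor
  · intro hnu
    obtain ⟨I, hI, hmem⟩ := exists_max_ideal_of_mem_nonunits (a := ((1 : K) ⊗ₜ[A] b : K ⊗[A] B)) hnu
    let q' : PrimeSpectrum E := ⟨I, hI.isPrime⟩
    let q := (PrimeSpectrum.preimageEquivFiber A B p).symm q'
    refine ⟨q.1, q.2, ?_⟩
    have : q.1.asIdeal = I.comap (Algebra.TensorProduct.includeRight : B →ₐ[A] K ⊗[A] B).toRingHom := rfl
    rw [this, Ideal.mem_comap]
    exact hmem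
  · rintro ⟨q, hq, hb⟩ hu
    let q' := PrimeSpectrum.preimageEquivFiber A B p ⟨q, hq⟩
    have h1 : (PrimeSpectrum.preimageEquivFiber A B p).symm q' = ⟨q, hq⟩ :=
      (PrimeSpectrum.preimageEquivFiber A B p).symm_apply_apply _
    have h2 : q.asIdeal =
        q'.asIdeal.comap (Algebra.TensorProduct.includeRight : B →ₐ[A] K ⊗[A] B).toRingHom := by
      have := congrArg (fun z => z.1.asIdeal) h1
      exact this.symm
    rw [h2, Ideal.mem_comap] at hb
    exact q'.isPrime.ne_top (Ideal.eq_top_of_isUnit_mem _ hb hu)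

end Norm

end Groth.Agent.Lib.PTraceH6
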