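import Mathlib
import Groth.Agent.Lib.PTrace_helper6

/-!
# The norm of a function along a finite locally free morphism cuts out the saturated locus (helper6)
-/

set_option autoImplicit false
universe u
open CategoryTheory CategoryTheory.Limits AlgebraicGeometry Opposite

namespace Groth.Agent.Lib.AlgSpSatNormH6

open Groth.Agent.Lib.PTraceH6

theorem mem_basicOpen_iff_toSpecΓ {Z : Scheme.{u}} (z : Z) (g : Γ(Z, ⊤)) :
    z ∈ Z.basicOpen g ↔ g ∉ (Z.toSpecΓ z).asIdeal := by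
  rw [← Scheme.toSpecΓ_preimage_basicOpen]
  rfl

theorem isoSpec_inv_toSpecΓ_apply (Z : Scheme.{u}) [IsAffine Z] (x : Z) :
    Z.isoSpec.inv (Z.toSpecΓ x) = x := by
  change (Z.isoSpec.hom ≫ Z.isoSpec.inv) x = x
  rw [Iso.hom_inv_id]
  rfl

theorem toSpecΓ_isoSpec_inv_apply (Z : Scheme.{u}) [IsAffine Z] (q : Spec Γ(Z, ⊤)) :
    Z.toSpecΓ (Z.isoSpec.inv q) = q := by
  change (Z.isoSpec.inv ≫ Z.isoSpec.hom) q = q
  rw [Iso.inv_hom_id]
  rfl

theorem toSpecΓ_injective (Z : Scheme.{u}) [IsAffine Z] : Function.Injective Z.toSpecΓ := by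
  intro x y h
  rw [← isoSpec_inv_toSpecΓ_apply Z x, ← isoSpec_inv_toSpecΓ_apply Z y, h]

theorem toSpecΓ_map_apply {P Y : Scheme.{u}} (π : P ⟶ Y) (r : P) :
    Y.toSpecΓ (π r) = PrimeSpectrum.comap π.appTop.hom (P.toSpecΓ r) := by
  change (π ≫ Y.toSpecΓ) r = (P.toSpecΓ ≫ Spec.map π.appTop) r
  rw [Scheme.toSpecΓ_naturality]

/-- For a finite locally free morphism `π : P ⟶ Y` to an affine scheme and a function `b` on `P`,
the locus of `y` all of whose preimages lie in `D(b)` is a principal open. -/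
theorem exists_norm_basicOpen {P Y : Scheme.{u}} [IsAffine Y] (π : P ⟶ Y) [IsFinite π] [Flat π]
    [LocallyOfFinitePresentation π] (b : Γ(P, ⊤)) :
    ∃ N : Γ(Y, ⊤), ∀ y : Y, y ∈ Y.basicOpen N ↔ ∀ r : P, π r = y → r ∈ P.basicOpen b := by
  haveI : IsAffine P := isAffine_of_isAffineHom π
  letI : Algebra Γ(Y, ⊤) Γ(P, ⊤) := π.appTop.hom.toAlgebra
  have hfin : π.appTop.hom.Finite := π.finite_appTop
  haveI : Module.Finite Γ(Y, ⊤) Γ(P, ⊤) := hfin
  have hflat : π.appTop.hom.Flat := π.flat_appTop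
  haveI : Module.Flat Γ(Y, ⊤) Γ(P, ⊤) := hflat
  have hfp : π.appTop.hom.FinitePresentation :=
    (HasRingHomProperty.iff_of_isAffine (P := @LocallyOfFinitePresentation)).mp ‹_›
  haveI : Algebra.FinitePresentation Γ(Y, ⊤) Γ(P, ⊤) := hfp
  haveI : Module.FinitePresentation Γ(Y, ⊤) Γ(P, ⊤) :=
    Module.FinitePresentation.of_finite_of_finitePresentation _ _
  haveI : Module.Projective Γ(Y, ⊤) Γ(P, ⊤) := Module.Flat.projective_of_finitePresentation
  obtain ⟨N, hN⟩ := exists_norm (A := Γ(Y, ⊤)) (B := Γ(P, ⊤)) b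
  refine ⟨N, fun y => ?_⟩
  rw [mem_basicOpen_iff_toSpecΓ, hN]
  constructor
  · intro h r hr
    rw [mem_basicOpen_iff_toSpecΓ]
    intro hb
    refine h ⟨P.toSpecΓ r, ?_, hb⟩
    rw [← hr, toSpecΓ_map_apply]
    rfl
  · rintro h ⟨q, hq, hb⟩
    have h1 : π (P.isoSpec.inv q) = y := by
      apply toSpecΓ_injective
      rw [toSpecΓ_map_apply, toSpecΓ_isoSpec_inv_apply, ← hq]
      rfl
    have h2 := h _ h1
    rw [mem_basicOpen_iff_toSpecΓ, toSpecΓ_isoSpec_inv_apply] at h2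
    exact h2 hb

/-- A pullback square whose first projection factors through a monomorphism. -/
theorem isPullback_of_comp_mono {C : Type*} [Category C] {P U' V T X : C} (p : P ⟶ U')
    (m : U' ⟶ V) [Mono m] (q : P ⟶ T) (w : V ⟶ X) (g' : T ⟶ X)
    (h : IsPullback (p ≫ m) q w g') : IsPullback p q (m ≫ w) g' := by
  refine ⟨⟨by rw [← Category.assoc]; exact h.w⟩, ⟨PullbackCone.IsLimit.mk _
    (fun c => h.lift (c.fst ≫ m) c.snd (by rw [Category.assoc]; exact c.condition))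
    (fun c => by rw [← cancel_mono m, Category.assoc]; exact h.lift_fst _ _ _)
    (fun c => h.lift_snd _ _ _)
    (fun c l h1 h2 => h.hom_ext (by rw [h.lift_fst, ← Category.assoc, h1])
      (by rw [h.lift_snd, h2]))⟩⟩

end Groth.Agent.Lib.AlgSpSatNormH6
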