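import Mathlib

/-!
# Prime avoidance for cosets, and finite sets of points in affine opens
-/

namespace Groth.Agent.PrimeAvoidCoset

open CategoryTheory AlgebraicGeometry TopologicalSpace Opposite

universe u

/-- prime avoidance for a coset `a + I` -/
theorem exists_add_notMem {A : Type*} [CommRing A] (I : Ideal A) (S : Finset (Ideal A))
    (hS : ∀ p ∈ S, p.IsPrime ∧ ¬ I ≤ p) (a : A) : ∃ h ∈ I, ∀ p ∈ S, a + h ∉ p := by
  classical
  induction S using Finset.strongInduction with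
  | H S ih =>
    rcases S.eq_empty_or_nonempty with rfl | hne
    · exact ⟨0, I.zero_mem, fun p hp => (Finset.notMem_empty p hp).elim⟩
    · obtain ⟨p, hpS, hmin⟩ := S.exists_minimal hne
      obtain ⟨h₀, hh₀, hav⟩ := ih (S.erase p) (Finset.erase_ssubset hpS)
        (fun p' hp' => hS p' (Finset.mem_of_mem_erase hp'))
      haveI : p.IsPrime := (hS p hpS).1
      by_cases hp : a + h₀ ∈ p
      · have hJ : ¬ I * ∏ p' ∈ S.erase p, p' ≤ p := by
          intro hle
          rcases (Ideal.IsPrime.mul_le ‹p.IsPrime›).mp hle with h1 | h1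
          · exact (hS p hpS).2 h1
          · obtain ⟨p', hp', hle'⟩ := (Ideal.IsPrime.prod_le ‹p.IsPrime›).mp h1
            have hne' : p' ≠ p := Finset.ne_of_mem_erase hp'
            exact hne' (le_antisymm hle' (hmin (Finset.mem_of_mem_erase hp') hle'))
        obtain ⟨h₁, hh₁, hh₁p⟩ := SetLike.not_le_iff_exists.mp hJ
        have hh₁I : h₁ ∈ I := Ideal.mul_le_left hh₁
        have hh₁p' : ∀ p' ∈ S.erase p, h₁ ∈ p' := fun p' hp' => by
          have h2 : h₁ ∈ ∏ p' ∈ S.erase p, p' := Ideal.mul_le_right hh₁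
          exact (Ideal.prod_le_inf.trans (Finset.inf_le hp')) h2
        refine ⟨h₀ + h₁, I.add_mem hh₀ hh₁I, fun p' hp'S => ?_⟩
        by_cases hpp : p' = p
        · subst hpp
          intro hmem
          apply hh₁p
          have : h₁ = (a + (h₀ + h₁)) - (a + h₀) := by ring
          rw [this]
          exact p'.sub_mem hmem hp
        · have hp'e : p' ∈ S.erase p := Finset.mem_erase.mpr ⟨hpp, hp'S⟩
          intro hmem
          apply hav p' hp'e
          have : a + h₀ = (a + (h₀ + h₁)) - h₁ := by ring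
          rw [this]
          exact p'.sub_mem hmem (hh₁p' p' hp'e)
      · refine ⟨h₀, hh₀, fun p' hp'S => ?_⟩
        by_cases hpp : p' = p
        · subst hpp
          exact hp
        · exact hav p' (Finset.mem_erase.mpr ⟨hpp, hp'S⟩)

/-- set version -/
theorem exists_add_notMem_set {A : Type*} [CommRing A] (I : Ideal A) (S : Set (Ideal A))
    (hfin : S.Finite) (hS : ∀ p ∈ S, p.IsPrime ∧ ¬ I ≤ p) (a : A) :
    ∃ h ∈ I, ∀ p ∈ S, a + h ∉ p := by
  obtain ⟨h, hh, hav⟩ := exists_add_notMem I hfin.toFinset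
    (fun p hp => hS p (hfin.mem_toFinset.mp hp)) a
  exact ⟨h, hh, fun p hp => hav p (hfin.mem_toFinset.mpr hp)⟩

section Schemes

variable {X : Scheme.{u}} {U : X.Opens} (hU : IsAffineOpen U)

include hU in
theorem mem_basicOpen_iff (x : X) (hx : x ∈ U) (f : Γ(X, U)) :
    x ∈ X.basicOpen f ↔ f ∉ (hU.primeIdealOf ⟨x, hx⟩).asIdeal := by
  have h1 : hU.fromSpec (hU.primeIdealOf ⟨x, hx⟩) = x := hU.fromSpec_primeIdealOf ⟨x, hx⟩
  have h2 := hU.fromSpec_preimage_basicOpen f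
  have h3 : hU.primeIdealOf ⟨x, hx⟩ ∈ hU.fromSpec ⁻¹ᵁ X.basicOpen f ↔
      hU.primeIdealOf ⟨x, hx⟩ ∈ (PrimeSpectrum.basicOpen f : Set (PrimeSpectrum Γ(X, U))) := by
    rw [h2]
    rfl
  rw [← PrimeSpectrum.mem_basicOpen]
  refine Iff.trans ?_ h3
  show x ∈ X.basicOpen f ↔ hU.fromSpec (hU.primeIdealOf ⟨x, hx⟩) ∈ X.basicOpen f
  rw [h1]

include hU in
/-- a finite set of points of an affine open has a basis of basic open neighbourhoods -/
theorem exists_basicOpen_finite (F : Set X) (hF : F.Finite) (hFU : F ⊆ U) (O : X.Opens)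
    (hFO : F ⊆ O) : ∃ f : Γ(X, U), F ⊆ X.basicOpen f ∧ X.basicOpen f ≤ O := by
  obtain ⟨C', hC'⟩ : ∃ C' : Set (PrimeSpectrum Γ(X, U)), C' = hU.fromSpec ⁻¹' ((O : Set X)ᶜ) :=
    ⟨_, rfl⟩
  have hC'cl : IsClosed C' := by
    rw [hC']
    exact O.isOpen.isClosed_compl.preimage hU.fromSpec.continuous
  have hmemC' : ∀ (y : X) (hy : y ∈ U), hU.primeIdealOf ⟨y, hy⟩ ∈ C' ↔ y ∉ O := by
    intro y hy
    rw [hC']
    show hU.fromSpec (hU.primeIdealOf ⟨y, hy⟩) ∈ ((O : Set X)ᶜ) ↔ _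
    rw [hU.fromSpec_primeIdealOf ⟨y, hy⟩]
    rfl
  have hzl : ∀ (y : X) (hy : y ∈ U),
      PrimeSpectrum.vanishingIdeal C' ≤ (hU.primeIdealOf ⟨y, hy⟩).asIdeal ↔ y ∉ O := by
    intro y hy
    rw [← hmemC' y hy]
    have := PrimeSpectrum.zeroLocus_vanishingIdeal_eq_closure C'
    rw [hC'cl.closure_eq] at this
    conv_rhs => rw [← this]
    rfl
  haveI : Finite F := hF.to_subtype
  obtain ⟨h, hh, hav⟩ := exists_add_notMem_set (PrimeSpectrum.vanishingIdeal C')
    (Set.range fun x : F => (hU.primeIdealOf ⟨x.1, hFU x.2⟩).asIdeal) (Set.finite_range _)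
    (by
      rintro _ ⟨x, rfl⟩
      refine ⟨(hU.primeIdealOf ⟨x.1, hFU x.2⟩).isPrime, ?_⟩
      rw [hzl x.1 (hFU x.2)]
      exact fun hx => hx (hFO x.2)) 0
  refine ⟨h, ?_, ?_⟩
  · intro x hx
    rw [SetLike.mem_coe, mem_basicOpen_iff hU x (hFU hx)]
    have := hav _ ⟨⟨x, hx⟩, rfl⟩
    rwa [zero_add] at this
  · intro y hy
    have hyU : y ∈ U := X.basicOpen_le h hy
    by_contra hyO
    have h1 := (hzl y hyU).mpr hyO
    exact (mem_basicOpen_iff hU y hyU h).mp hy (h1 hh)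

include hU in
/-- lifting along a closed immersion while avoiding finitely many points off the image -/
theorem exists_lift_avoid {Y : Scheme.{u}} (θ : Y ⟶ X) [IsClosedImmersion θ]
    (F : Set X) (hF : F.Finite) (hFU : F ⊆ U) (hFY : ∀ x ∈ F, x ∉ Set.range θ) (g₀ : Γ(X, U)) :
    ∃ g : Γ(X, U), θ.app U g = θ.app U g₀ ∧ F ⊆ X.basicOpen g := by
  have hV : IsAffineOpen (θ ⁻¹ᵁ U) := hU.preimage θ
  have hsurj : Function.Surjective (θ.app U).hom := Scheme.Hom.app_surjective θ U hU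
  haveI : Finite F := hF.to_subtype
  obtain ⟨h, hh, hav⟩ := exists_add_notMem_set (RingHom.ker (θ.app U).hom)
    (Set.range fun x : F => (hU.primeIdealOf ⟨x.1, hFU x.2⟩).asIdeal) (Set.finite_range _)
    (by
      rintro _ ⟨x, rfl⟩
      refine ⟨(hU.primeIdealOf ⟨x.1, hFU x.2⟩).isPrime, fun hle => hFY x.1 x.2 ?_⟩
      have hmem : hU.primeIdealOf ⟨x.1, hFU x.2⟩ ∈
          PrimeSpectrum.zeroLocus (RingHom.ker (θ.app U).hom : Set Γ(X, U)) := hle
      rw [← range_comap_of_surjective _ _ hsurj] at hmem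
      obtain ⟨q, hq⟩ := hmem
      have h1 := IsAffineOpen.SpecMap_appLE_fromSpec θ hU hV le_rfl
      have h2 := congrArg (fun m => m.base q) h1
      simp only [Scheme.Hom.comp_base, TopCat.comp_app] at h2
      refine ⟨hV.fromSpec q, ?_⟩
      refine h2.symm.trans ?_
      rw [← Scheme.Hom.app_eq_appLE]
      have h3 : (Spec.map (θ.app U)).base q = hU.primeIdealOf ⟨x.1, hFU x.2⟩ := hq
      rw [h3]
      exact hU.fromSpec_primeIdealOf ⟨x.1, hFU x.2⟩) g₀
  refine ⟨g₀ + h, ?_, ?_⟩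
  · rw [map_add]
    have : θ.app U h = 0 := hh
    rw [this, add_zero]
  · intro x hx
    rw [SetLike.mem_coe, mem_basicOpen_iff hU x (hFU hx)]
    exact hav _ ⟨⟨x, hx⟩, rfl⟩

end Schemes

end Groth.Agent.PrimeAvoidCoset
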