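import Groth.Agent.Lib.FinKSch_helper6
import Groth.Agent.Lib.AlgSpPoints_helper7

/-!
# Universally bounded fibres are stable under composition (helper6)
-/

set_option autoImplicit false
universe u
open CategoryTheory CategoryTheory.Limits AlgebraicGeometry Opposite

namespace Groth.Agent.Lib.UBFCompH6

open AlgSp Groth.Agent.Lib.AlgSpPoints_helper7 Groth.Agent.Lib.FinKSchH6

variable {S : Scheme.{u}}

theorem hasUnivBddFibres_comp {X : Sp S} (hX : IsAlgSpace X) {U V : Over S} (f : V ⟶ U)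
    (g : (yon S).obj U ⟶ X) (hf : W4dec.HasUnivBddFibres ((yon S).map f))
    (hg : W4dec.HasUnivBddFibres g) : W4dec.HasUnivBddFibres ((yon S).map f ≫ g) := by
  obtain ⟨n₁, h₁⟩ := hf
  obtain ⟨n₂, h₂⟩ := hg
  refine ⟨n₁ * n₂, ?_⟩
  intro q T c snd hsq
  obtain ⟨b, rfl⟩ := (yon S).map_surjective snd
  have hrep : Representable g := hX.representable_from_yon g
  let b₀ := hrep.fst' q.toHom
  let c₀ := hrep.snd q.toHom
  have sq₀ : IsPullback ((yon S).map b₀) ((yon S).map c₀) g q.toHom := hrep.isPullback' q.toHom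
  obtain ⟨hfin₀, hrk₀⟩ := h₂ q _ c₀ _ sq₀.flip
  have hw : (yon S).map (b ≫ f) ≫ g = (yon S).map c ≫ q.toHom := by
    rw [Functor.map_comp, Category.assoc]; exact hsq.w.symm
  obtain ⟨d, hd⟩ := (yon S).map_surjective (sq₀.lift _ _ hw)
  have hd1 : d ≫ b₀ = b ≫ f := by
    apply (yon S).map_injective
    rw [Functor.map_comp, hd, sq₀.lift_fst]
  have hd2 : d ≫ c₀ = c := by
    apply (yon S).map_injective
    rw [Functor.map_comp, hd, sq₀.lift_snd]
  have top : IsPullback ((yon S).map b) ((yon S).map d) ((yon S).map f) ((yon S).map b₀) := by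
    refine IsPullback.of_bot ?_ ?_ sq₀
    · rw [← Functor.map_comp, hd2]; exact hsq.flip
    · rw [← Functor.map_comp, ← Functor.map_comp, hd1]
  let c₀' : (hrep.pullback q.toHom).left ⟶ Spec (CommRingCat.of q.K) := c₀.left
  haveI : IsFinite c₀' := hfin₀
  have hyp : ∀ (L : Type u) [Field L] (x : Spec (CommRingCat.of L) ⟶ (hrep.pullback q.toHom).left)
      (P : Scheme.{u}) (fst : P ⟶ T.left) (snd : P ⟶ Spec (CommRingCat.of L)),
      IsPullback fst snd d.left x → IsFinite snd ∧ ∀ s, snd.finrank s ≤ n₁ := by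
    intro L _ x P fst snd hP
    let sL : Spec (CommRingCat.of L) ⟶ S := x ≫ (hrep.pullback q.toHom).hom
    let xO : Over.mk sL ⟶ hrep.pullback q.toHom := Over.homMk x rfl
    let T' : Over S := Over.mk (snd ≫ sL)
    let c' : T' ⟶ Over.mk sL := Over.homMk snd rfl
    have hfst : fst ≫ T.hom = snd ≫ sL := by
      rw [← Over.w d, ← Category.assoc, hP.w, Category.assoc]
    let fstO : T' ⟶ T := Over.homMk fst hfst
    have hPO : IsPullback fstO c' d xO :=
      IsPullback.of_map (Over.forget S) (Over.OverMorphism.ext hP.w) hP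
    have hPY := hPO.map (yon S)
    have big := (hPY.paste_horiz top).flip
    have hq' : (ofHom ((yon S).map xO ≫ (yon S).map b₀)).toHom =
        (yon S).map xO ≫ (yon S).map b₀ := toHom_ofHom _
    have := h₁ (ofHom ((yon S).map xO ≫ (yon S).map b₀)) T' c' _ (by rw [hq']; exact big)
    exact this
  obtain ⟨s₀⟩ : Nonempty ↥(Spec (CommRingCat.of q.K)) :=
    inferInstanceAs (Nonempty (PrimeSpectrum q.K))
  have key := fun s => isFinite_comp_of_fibres (K := q.K) d.left c₀' n₁ hyp s
  have e : c.left = d.left ≫ c₀' := by rw [← hd2]; rfl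
  rw [e]
  exact ⟨(key s₀).1, fun s => (key s).2.trans (Nat.mul_le_mul_left _ (hrk₀ s))⟩

end Groth.Agent.Lib.UBFCompH6
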