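import Groth.Agent.Lib.AlgSpLargestOpen_helper7
import Mathlib.AlgebraicGeometry.Morphisms.FlatMono

/-!
# Unramified morphisms of algebraic spaces and their diagonals (helper7)
-/

set_option autoImplicit false
universe u
open CategoryTheory CategoryTheory.Limits AlgebraicGeometry Opposite TopologicalSpace

namespace Groth.Agent.Lib.AlgSpUnram_helper7

open AlgSp Groth.Agent.Lib.AlgSpPoints_helper7 Groth.Agent.Lib.AlgSpTop_helper7
  Groth.Agent.Lib.AlgSpPullback_helper7 Groth.Agent.Lib.AlgSpBasic_helper7
  Groth.Agent.Lib.AlgSpOpen_helper7 Groth.Agent.Lib.AlgSpOpenSub_helper7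
  Groth.Agent.Lib.AlgSpSmST_helper7 Groth.Agent.Lib.AlgSpLocP4_helper7
  Groth.Agent.Lib.AlgSpLocP10_helper7 Groth.Agent.Lib.AlgSpLocP7_helper7
  Groth.Agent.Lib.AlgSpEtale_helper7 Groth.Agent.Lib.AlgSpLocP3_helper7
  Groth.Agent.Lib.AlgSpLocP_helper7 Groth.Agent.Lib.AlgSpLocP8_helper7
  Groth.Agent.Lib.AlgSpDiag_helper7 Groth.Agent.Lib.AlgSpSep_helper7
  Groth.Agent.Lib.AlgSpDescent_helper7 Groth.Agent.Lib.AlgSpDescent2_helper7
  Groth.Agent.Lib.AlgSpQC_helper7 Groth.Agent.Lib.AlgSpIso_helper7
  Groth.Agent.Lib.AlgSpLargestOpen_helper7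

variable {S : Scheme.{u}}

/-- A pullback square of representable sheaves comes from a pullback square of schemes. -/
theorem isPullback_left_of_isPullback_yon {U V T W : Over S} {a : W ⟶ U} {b : W ⟶ V} {f : U ⟶ T}
    {g : V ⟶ T}
    (sq : IsPullback ((yon S).map a) ((yon S).map b) ((yon S).map f) ((yon S).map g)) :
    IsPullback a.left b.left f.left g.left := by
  have h1 : IsPullback a b f g := IsPullback.of_map (yon S)
    ((yon S).map_injective (by rw [Functor.map_comp, Functor.map_comp, sq.w])) sq
  exact h1.map (Over.forget S)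

/-- A chart diagram for the relative diagonal of a morphism to a scheme. -/
theorem exists_diagonal_chart {X : Sp S} {V : Over S}
    (g : X ⟶ (yon S).obj V) {U : Over S} (a : (yon S).obj U ⟶ X) (hae : RepWith @Etale a)
    (h : U ⟶ V) (hh : (yon S).map h = a ≫ g) :
    ∃ (W : Over S) (r : (yon S).obj W ⟶ pullback g g) (δ : U ⟶ W)
      (e : W.left ≅ pullback h.left h.left),
      RepWith @Etale r ∧ a ≫ pullback.diagonal g = (yon S).map δ ≫ r ∧
        δ.left ≫ e.hom = pullback.diagonal h.left := by
  have hV := IsAlgSpace.yon_obj V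
  have sqZ := IsPullback.of_hasPullback g g
  obtain ⟨W, a', b', r, hr1, hr2, sqW, hr⟩ := exists_chart_of_isPullback hV.diag sqZ a a
  rw [← hh] at sqW
  have sqW' : IsPullback a'.left b'.left h.left h.left := isPullback_left_of_isPullback_yon sqW
  obtain ⟨δ, hδ⟩ := (yon S).map_surjective (sqW.lift (𝟙 _) (𝟙 _) rfl)
  have hδ1 : δ ≫ a' = 𝟙 U := (yon S).map_injective (by
    rw [Functor.map_comp, hδ, sqW.lift_fst, CategoryTheory.Functor.map_id])
  have hδ2 : δ ≫ b' = 𝟙 U := (yon S).map_injective (by
    rw [Functor.map_comp, hδ, sqW.lift_snd, CategoryTheory.Functor.map_id])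
  refine ⟨W, r, δ, sqW'.isoPullback, hr _ hae hae, ?_, ?_⟩
  · apply pullback.hom_ext
    · rw [Category.assoc, pullback.diagonal_fst, Category.comp_id, Category.assoc, hr1,
        ← Category.assoc, ← Functor.map_comp, hδ1, CategoryTheory.Functor.map_id, Category.id_comp]
    · rw [Category.assoc, pullback.diagonal_snd, Category.comp_id, Category.assoc, hr2,
        ← Category.assoc, ← Functor.map_comp, hδ2, CategoryTheory.Functor.map_id, Category.id_comp]
  · apply pullback.hom_ext
    · rw [Category.assoc, sqW'.isoPullback_hom_fst, pullback.diagonal_fst, ← Over.comp_left, hδ1]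
      rfl
    · rw [Category.assoc, sqW'.isoPullback_hom_snd, pullback.diagonal_snd, ← Over.comp_left, hδ2]
      rfl

/-- The diagonal of an unramified morphism to a scheme is an open immersion. -/
theorem repWith_isOpenImmersion_diagonal_to_scheme {X : Sp S} (hX : IsAlgSpace X) {V : Over S}
    (g : X ⟶ (yon S).obj V) (hg : LocP (@LocallyOfFiniteType ⊓ @FormallyUnramified) g) :
    RepWith @IsOpenImmersion (pullback.diagonal g) := by
  have hV := IsAlgSpace.yon_obj V
  have hZ : IsAlgSpace (pullback g g) :=
    isAlgSpace_of_isPullback hV.diag hX hX (IsPullback.of_hasPullback g g)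
  obtain ⟨h1, h2, -, -⟩ := diagonal_properties hX g
  obtain ⟨U, a, hae, has⟩ := hX.atlas
  obtain ⟨h, hh⟩ := (yon S).map_surjective (a ≫ g)
  have hPh : (@LocallyOfFiniteType ⊓ @FormallyUnramified : MorphismProperty Scheme.{u}) h.left :=
    hg a (𝟙 _) h hae (repWith_id _ V) (by rw [Category.comp_id, hh])
  obtain ⟨W, r, δ, e, hre, comm, hδ⟩ := exists_diagonal_chart g a hae h hh
  have hδo : IsOpenImmersion δ.left := by
    have : LocallyOfFiniteType h.left := hPh.1
    have : FormallyUnramified h.left := hPh.2
    have e' : δ.left = pullback.diagonal h.left ≫ e.inv := by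
      rw [← hδ, Category.assoc, e.hom_inv_id, Category.comp_id]
    rw [e']
    infer_instance
  have hLoc : LocP @Etale (pullback.diagonal g) :=
    locP_of_one_chart etLocal_etale _ a r δ hae has hre comm inferInstance
  have hEt : RepWith @Etale (pullback.diagonal g) :=
    (locP_iff_repWith_listed @Etale (Or.inr (Or.inr (Or.inr (Or.inr (Or.inl rfl))))) hZ _
      h1.rep).1 hLoc
  refine ⟨h1.rep, fun T W' c fst snd sq => ?_⟩
  have hm : Mono snd.left := h2.property _ _ _ sq
  have he : Etale snd.left := hEt.property _ _ _ sq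
  exact IsOpenImmersion.of_flat_of_mono snd.left

/-- The diagonal of an unramified morphism of algebraic spaces is an open immersion. -/
theorem repWith_isOpenImmersion_diagonal {X Y : Sp S} (hX : IsAlgSpace X) (hY : IsAlgSpace Y)
    (f : X ⟶ Y) (hf : LocP (@LocallyOfFiniteType ⊓ @FormallyUnramified) f) :
    RepWith @IsOpenImmersion (pullback.diagonal f) := by
  obtain ⟨V, p, hpe, hps⟩ := hY.atlas
  have sq := IsPullback.of_hasPullback f p
  have hP : IsAlgSpace (pullback f p) :=
    isAlgSpace_of_isPullback hY.diag hX (IsAlgSpace.yon_obj V) sq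
  have hsnd : LocP (@LocallyOfFiniteType ⊓ @FormallyUnramified) (pullback.snd f p) :=
    locP_baseChange etLocal_unramified hX hY (IsAlgSpace.yon_obj V) f p _ _ sq hf
  exact repWith_diagonal_of_chart @IsOpenImmersion (descendsEtale_of_descendsAlong _) hX hY f p
    hpe hps _ _ sq (repWith_isOpenImmersion_diagonal_to_scheme hP _ hsnd)

/-- A morphism locally of finite type whose diagonal is an open immersion is unramified. -/
theorem locP_unramified_of_diagonal {X Y : Sp S} (hX : IsAlgSpace X) (hY : IsAlgSpace Y)
    (f : X ⟶ Y) (hf : LocP @LocallyOfFiniteType f)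
    (hΔ : RepWith @IsOpenImmersion (pullback.diagonal f)) :
    LocP (@LocallyOfFiniteType ⊓ @FormallyUnramified) f := by
  obtain ⟨V, p, hpe, hps⟩ := hY.atlas
  have sq := IsPullback.of_hasPullback f p
  have hP : IsAlgSpace (pullback f p) :=
    isAlgSpace_of_isPullback hY.diag hX (IsAlgSpace.yon_obj V) sq
  have hΔg : RepWith @IsOpenImmersion (pullback.diagonal (pullback.snd f p)) :=
    repWith_diagonal_of_isPullback _ sq hΔ
  obtain ⟨U, a, hae, has⟩ := hP.atlas
  obtain ⟨h, hh⟩ := (yon S).map_surjective (a ≫ pullback.snd f p)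
  have hfe : RepWith @Etale (pullback.fst f p) := repWith_fst_of_isPullback _ sq hpe
  have hfs : RepWith @Surjective (pullback.fst f p) := repWith_fst_of_isPullback _ sq hps
  have comm : (a ≫ pullback.fst f p) ≫ f = (yon S).map h ≫ p := by
    rw [Category.assoc, pullback.condition, ← Category.assoc, hh]
  have hlft : LocallyOfFiniteType h.left :=
    hf (a ≫ pullback.fst f p) p h (repWith_comp _ hae hfe) hpe comm
  obtain ⟨W, r, δ, e, hre, comm', hδ⟩ := exists_diagonal_chart (pullback.snd f p) a hae h hh
  have hEt : RepWith @Etale (pullback.diagonal (pullback.snd f p)) :=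
    repWith_mono (fun _ _ k (hk : IsOpenImmersion k) => (inferInstance : Etale k)) hΔg
  have hLoc : LocP @Etale (pullback.diagonal (pullback.snd f p)) :=
    locP_of_repWith @Etale (fun _ _ _ hk => hk) _ hEt
  have hδe : Etale δ.left := hLoc a r δ hae hre comm'
  have hδm : Mono δ.left := mono_of_mono_fac hδ
  have hδo : IsOpenImmersion δ.left := IsOpenImmersion.of_flat_of_mono δ.left
  have hΔh : IsOpenImmersion (pullback.diagonal h.left) := by
    rw [← hδ]
    infer_instance
  have hunr : FormallyUnramified h.left := inferInstance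
  exact locP_of_one_chart etLocal_unramified f (a ≫ pullback.fst f p) p h (repWith_comp _ hae hfe)
    (repWith_comp _ has hfs) hpe comm ⟨hlft, hunr⟩

/-- An étale universally injective morphism of algebraic spaces is an open immersion. -/
theorem repWith_isOpenImmersion_of_etale_of_univInjective {X Y : Sp S} (hX : IsAlgSpace X)
    (hY : IsAlgSpace Y) (f : X ⟶ Y) (het : IsEtaleMor f) (hinj : IsUnivInjectiveMor f) :
    RepWith @IsOpenImmersion f := by
  have hLocE : LocP @Etale f := (isEtaleMor_iff_locP hY f).1 het
  have hLocU : LocP (@LocallyOfFiniteType ⊓ @FormallyUnramified) f := by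
    intro U V a b h hae hbe comm
    have : Etale h.left := hLocE a b h hae hbe comm
    exact ⟨inferInstance, inferInstance⟩
  have hΔ := repWith_isOpenImmersion_diagonal hX hY f hLocU
  have hinj1 : Function.Injective (Points.map (pullback.snd f f)) :=
    hinj hX f (pullback.fst f f) (pullback.snd f f) (IsPullback.of_hasPullback f f)
  have hΔs : IsSurjectiveMor (pullback.diagonal f) := by
    intro z
    refine ⟨Points.map (pullback.snd f f) z, ?_⟩
    apply hinj1
    rw [← Points.map_comp, pullback.diagonal_snd, Points.map_id]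
  have hiso : IsIso (pullback.diagonal f) := isIso_of_openImmersion_of_surjective _ hΔ hΔs
  have hmono : Mono f := (pullback.isIso_diagonal_iff f).1 hiso
  -- the image
  have hopen : IsOpenMap (Points.map f) := isOpenMap_of_flat_of_lfp hX hY f
    (fun U V a b h hae hbe comm => by
      have : Etale h.left := hLocE a b h hae hbe comm
      exact (inferInstance : Flat h.left))
    (fun U V a b h hae hbe comm => by
      have : Etale h.left := hLocE a b h hae hbe comm
      exact (inferInstance : LocallyOfFinitePresentation h.left))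
  have hW : IsOpen (Set.range (Points.map f)) := hopen.isOpen_range
  have hj := repWith_isOpenImmersion_openSubι hW
  have hrange := range_map_openSubι hY hW
  have hY' : IsAlgSpace (openSub Y (Set.range (Points.map f))) := isAlgSpace_openSub hY hW
  haveI : Mono (openSubι Y (Set.range (Points.map f))) := mono_openSubι _ _
  obtain ⟨f', hf'⟩ := (factors_iff_of_openImmersion _ hj f).2 (by rw [hrange])
  obtain ⟨U, a, hae, has⟩ := hX.atlas
  have hsa := ofPt_surjective a has
  obtain ⟨a'', ha'', hae'', hsurj''⟩ := exists_factor_chart (a ≫ f) (het a hae) _ hj (by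
    rw [hrange]
    rintro _ ⟨u, rfl⟩
    exact ⟨Points.ofPt a u, rfl⟩)
  have has'' : RepWith @Surjective a'' := hsurj'' (by
    rw [hrange]
    rintro _ ⟨x, rfl⟩
    obtain ⟨u, rfl⟩ := hsa x
    exact ⟨u, rfl⟩)
  have heq : a'' = a ≫ f' := by
    rw [← cancel_mono (openSubι Y (Set.range (Points.map f))), ha'', Category.assoc, hf']
  have hepi1 : Epi (a ≫ f') := by
    rw [← heq]
    exact epi_of_atlas a'' hae'' has''
  have hepi : Epi f' := epi_of_epi a f'
  have hmono' : Mono f' := mono_of_mono_fac hf'
  have hiso' : IsIso f' := isIso_of_mono_of_epi f'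
  have sqf : IsPullback f' f (openSubι Y (Set.range (Points.map f))) (𝟙 Y) :=
    IsPullback.of_horiz_isIso ⟨by rw [hf', Category.comp_id]⟩
  exact repWith_snd_of_isPullback _ sqf hj

end Groth.Agent.Lib.AlgSpUnram_helper7
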