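import Groth.Agent.Lib.AlgSpUBF2_helper4
import Groth.Agent.Lib.AlgSpPoints_helper7

/-!
# Universally bounded fibres can be checked on a finite open cover of the source (helper6)
-/

set_option autoImplicit false
universe u
open CategoryTheory CategoryTheory.Limits AlgebraicGeometry Opposite

namespace Groth.Agent.Lib.UBFCoverH6

open AlgSp Groth.Agent.Lib.AlgSpUBF2_helper4 Groth.Agent.Lib.AlgSpPoints_helper7

/-- A ring over a field which embeds into a finite product of finite dimensional algebras is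
finite dimensional, of dimension at most the sum of the dimensions. -/
theorem finite_and_finrank_le_of_jointly_injective {K A : Type u} [Field K] [CommRing A]
    (φ : K →+* A) {κ : Type u} [Fintype κ] (B : κ → Type u) [∀ k, CommRing (B k)]
    (ρ : ∀ k, A →+* B k) (hinj : ∀ a : A, (∀ k, ρ k a = 0) → a = 0) (n : κ → ℕ)
    (h : ∀ k, ((ρ k).comp φ).Finite ∧
      (letI := ((ρ k).comp φ).toAlgebra; Module.finrank K (B k)) ≤ n k) :
    φ.Finite ∧ (letI := φ.toAlgebra; Module.finrank K A) ≤ ∑ k, n k := by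
  classical
  letI algA : Algebra K A := φ.toAlgebra
  letI algB : ∀ k, Algebra K (B k) := fun k => ((ρ k).comp φ).toAlgebra
  haveI : ∀ k, Module.Finite K (B k) := fun k => (h k).1
  let L : A →ₗ[K] (∀ k, B k) := LinearMap.pi (fun k =>
    { toFun := ρ k
      map_add' := map_add _
      map_smul' := fun r a => by
        rw [Algebra.smul_def, Algebra.smul_def, map_mul]; rfl })
  have hL : Function.Injective L := by
    rw [injective_iff_map_eq_zero]
    intro a ha
    exact hinj a (fun k => congrFun ha k)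
  haveI : Module.Finite K A := Module.Finite.of_injective L hL
  refine ⟨‹Module.Finite K A›, ?_⟩
  calc Module.finrank K A ≤ Module.finrank K (∀ k, B k) :=
        LinearMap.finrank_le_finrank_of_injective hL
    _ = ∑ k, Module.finrank K (B k) := Module.finrank_pi_fintype K
    _ ≤ ∑ k, n k := Finset.sum_le_sum (fun k _ => (h k).2)

variable {K : Type u} [Field K]

/-- A scheme over a field with a finite open cover by schemes finite over the field is finite
over the field, with rank at most the sum of the ranks. -/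
theorem isFinite_of_openCover {T : Scheme.{u}} (c : T ⟶ Spec (CommRingCat.of K))
    {κ : Type u} [Fintype κ] (W : κ → T.Opens) (hW : ∀ t : ↥T, ∃ k, t ∈ W k) (n : κ → ℕ)
    (h : ∀ k, IsFinite ((W k).ι ≫ c) ∧ ∀ s, ((W k).ι ≫ c).finrank s ≤ n k)
    (s : ↥(Spec (CommRingCat.of K))) :
    IsFinite c ∧ c.finrank s ≤ ∑ k, n k := by
  have hfd : ∀ k, Finite ↥(W k).toScheme ∧ DiscreteTopology ↥(W k).toScheme := fun k => by
    haveI := (h k).1
    exact finite_discrete_of_isFinite ((W k).ι ≫ c)
  have hTfin : Finite ↥T := by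
    have e : (Set.univ : Set ↥T) = ⋃ k, Set.range (W k).ι := by
      ext t
      simp only [Set.mem_univ, Set.mem_iUnion, true_iff]
      obtain ⟨k, hk⟩ := hW t
      exact ⟨k, by rw [Scheme.Opens.range_ι]; exact hk⟩
    have hf : (Set.univ : Set ↥T).Finite := by
      rw [e]
      exact Set.finite_iUnion (fun k => by haveI := (hfd k).1; exact Set.finite_range _)
    exact Set.finite_univ_iff.1 hf
  haveI : DiscreteTopology ↥T := by
    rw [discreteTopology_iff_isOpen_singleton]
    intro t
    obtain ⟨k, hk⟩ := hW t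
    haveI := (hfd k).2
    obtain ⟨t', ht'⟩ : ∃ t' : ↥(W k).toScheme, (W k).ι t' = t := by
      have : t ∈ Set.range (W k).ι := by rw [Scheme.Opens.range_ι]; exact hk
      exact this
    have e : ({t} : Set ↥T) = (W k).ι '' {t'} := by
      rw [Set.image_singleton, ht']
    rw [e]
    exact (W k).ι.isOpenEmbedding.isOpenMap _ (isOpen_discrete _)
  haveI : IsAffine T := inferInstance
  have hinj : ∀ a : Γ(T, ⊤), (∀ k, (W k).ι.appTop.hom a = 0) → a = 0 := by
    intro a ha
    refine T.sheaf.eq_of_locally_eq' (fun k => (W k).ι ''ᵁ ⊤) ⊤ (fun k => homOfLE le_top) ?_ a 0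
      (fun k => ?_)
    · intro t _
      obtain ⟨k, hk⟩ := hW t
      exact TopologicalSpace.Opens.mem_iSup.2 ⟨k, by rw [Scheme.Opens.ι_image_top]; exact hk⟩
    · rw [map_zero]
      exact ha k
  have hk : ∀ k, (((W k).ι.appTop.hom).comp (strHom c)).Finite ∧
      (letI := (((W k).ι.appTop.hom).comp (strHom c)).toAlgebra;
        Module.finrank K Γ((W k).toScheme, ⊤)) ≤ n k := by
    intro k
    haveI := (h k).1
    have h1 := ((isFinite_iff_strHom ((W k).ι ≫ c)).mp (h k).1).2
    have h2 := (h k).2 s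
    rw [finrank_eq_finrank_strHom ((W k).ι ≫ c) s] at h2
    rw [strHom_comp] at h1 h2
    exact ⟨h1, h2⟩
  obtain ⟨hA, hle⟩ := finite_and_finrank_le_of_jointly_injective (strHom c)
    (fun k => Γ((W k).toScheme, ⊤)) (fun k => (W k).ι.appTop.hom) hinj n hk
  haveI hfin : IsFinite c := (isFinite_iff_strHom c).mpr ⟨inferInstance, hA⟩
  refine ⟨hfin, ?_⟩
  rw [finrank_eq_finrank_strHom c s]
  exact hle

variable {S : Scheme.{u}}

/-- The open subscheme of an `S`-scheme, as an `S`-scheme, with its inclusion. -/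
noncomputable abbrev opOver (U : Over S) (W : U.left.Opens) : Over S := Over.mk (W.ι ≫ U.hom)

noncomputable abbrev opι (U : Over S) (W : U.left.Opens) : opOver U W ⟶ U := Over.homMk W.ι rfl

/-- Universally bounded fibres may be checked on a finite open cover of the source. -/
theorem hasUnivBddFibres_of_openCover {F : Sp S} {U : Over S} (a : (yon S).obj U ⟶ F)
    {κ : Type u} [Fintype κ] (W : κ → U.left.Opens) (hW : ∀ x : ↥U.left, ∃ k, x ∈ W k)
    (h : ∀ k, W4dec.HasUnivBddFibres ((yon S).map (opι U (W k)) ≫ a)) :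
    W4dec.HasUnivBddFibres a := by
  choose n hn using h
  refine ⟨∑ k, n k, ?_⟩
  intro q T c snd hsq
  obtain ⟨b, rfl⟩ := (yon S).map_surjective snd
  let c₀ : T.left ⟶ Spec (CommRingCat.of q.K) := c.left
  have main : ∀ k, IsFinite ((b.left ⁻¹ᵁ W k).ι ≫ c₀) ∧
      ∀ s, ((b.left ⁻¹ᵁ W k).ι ≫ c₀).finrank s ≤ n k := by
    intro k
    have hres : (b.left ∣_ W k) ≫ (opOver U (W k)).hom = (opOver T (b.left ⁻¹ᵁ W k)).hom := by
      change (b.left ∣_ W k) ≫ (W k).ι ≫ U.hom = (b.left ⁻¹ᵁ W k).ι ≫ T.hom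
      rw [morphismRestrict_ι_assoc, Over.w b]
    let resO : opOver T (b.left ⁻¹ᵁ W k) ⟶ opOver U (W k) := Over.homMk (b.left ∣_ W k) hres
    have hP := isPullback_morphismRestrict b.left (W k)
    have hPO : IsPullback resO (opι T (b.left ⁻¹ᵁ W k)) (opι U (W k)) b :=
      IsPullback.of_map (Over.forget S) (Over.OverMorphism.ext hP.w) hP
    have hPY := hPO.map (yon S)
    have big := (hPY.paste_vert hsq.flip).flip
    rw [← Functor.map_comp] at big
    exact hn k q _ (opι T (b.left ⁻¹ᵁ W k) ≫ c) _ big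
  have hcov : ∀ t : ↥T.left, ∃ k, t ∈ b.left ⁻¹ᵁ W k := fun t => hW (b.left t)
  obtain ⟨s₀⟩ : Nonempty ↥(Spec (CommRingCat.of q.K)) :=
    inferInstanceAs (Nonempty (PrimeSpectrum q.K))
  have key := fun s => isFinite_of_openCover c₀ (fun k => b.left ⁻¹ᵁ W k) hcov n main s
  exact ⟨(key s₀).1, fun s => (key s).2⟩

end Groth.Agent.Lib.UBFCoverH6
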