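import Mathlib
import Groth.Prelude
import Groth.Agent.Lib.GabberZMT_lead

/-!
# Zariski's main theorem, affine finitely presented form:
a quasi-finite finitely presented morphism of affine schemes factors as an open immersion followed
by a finite, finitely presented morphism.
-/

set_option autoImplicit false
set_option linter.style.haveILetI false
set_option linter.unusedVariables false

universe u

open CategoryTheory CategoryTheory.Limits AlgebraicGeometry TopologicalSpace Opposite Topology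

namespace Groth.Agent.Lib.ZMTOpenImmH4

section algebra

theorem awayMapₐ_algebraMap {R C₀ S : Type u} [CommRing R] [CommRing C₀] [CommRing S]
    [Algebra R C₀] [Algebra R S] (ψ₀ : C₀ →ₐ[R] S) (ρ c : C₀) :
    Localization.awayMapₐ ψ₀ ρ (algebraMap C₀ (Localization.Away ρ) c) =
      algebraMap S (Localization.Away (ψ₀ ρ)) (ψ₀ c) := by
  rw [IsLocalization.Away.mapₐ_apply]
  exact IsLocalization.map_eq (M := Submonoid.powers ρ) (T := Submonoid.powers (ψ₀ ρ)) _ c

/-- the kernel of `C₀ → S` is, up to `ρ`-power torsion, finitely generated, as soon as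
`C₀[1/ρ] → S[1/ρ]` is surjective and both are finitely presented. -/
theorem exists_fg_ideal_ker {R C₀ S : Type u} [CommRing R] [CommRing C₀] [CommRing S]
    [Algebra R C₀] [Algebra R S] [Algebra.FinitePresentation R C₀]
    [Algebra.FinitePresentation R S] (ψ₀ : C₀ →ₐ[R] S) (ρ : C₀)
    (hsurj : ∀ w : S, ∃ (N : ℕ) (c : C₀), ψ₀ c = ψ₀ ρ ^ N * w) :
    ∃ J : Ideal C₀, J.FG ∧ J ≤ RingHom.ker (ψ₀ : C₀ →+* S) ∧
      ∀ c, ψ₀ c = 0 → ∃ M : ℕ, ρ ^ M * c ∈ J := by
  classical
  have hΦsurj : Function.Surjective (Localization.awayMapₐ ψ₀ ρ) := by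
    have h := (Localization.awayMap_surjective_iff (f := (ψ₀ : C₀ →+* S)) (r := ρ)).mpr
      (fun a => by obtain ⟨N, c, hc⟩ := hsurj a; exact ⟨c, N, hc⟩)
    exact h
  obtain ⟨κ, hκ⟩ := Algebra.FinitePresentation.ker_fG_of_surjective
    (Localization.awayMapₐ ψ₀ ρ) hΦsurj
  have hg : ∀ x ∈ κ, ∃ g : C₀, ψ₀ g = 0 ∧ ∃ n : ℕ,
      x * algebraMap C₀ (Localization.Away ρ) ρ ^ n = algebraMap C₀ (Localization.Away ρ) g := by
    intro x hx
    have hxker : Localization.awayMapₐ ψ₀ ρ x = 0 := by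
      have h : x ∈ RingHom.ker (Localization.awayMapₐ ψ₀ ρ).toRingHom := by
        rw [← hκ]; exact Ideal.subset_span hx
      exact h
    obtain ⟨⟨g₀, s⟩, hs⟩ := IsLocalization.surj (Submonoid.powers ρ) x
    obtain ⟨n₀, hn₀⟩ := s.2
    have h1 : algebraMap S (Localization.Away (ψ₀ ρ)) (ψ₀ g₀) = 0 := by
      rw [← awayMapₐ_algebraMap ψ₀ ρ g₀, ← hs, map_mul, hxker, zero_mul]
    obtain ⟨⟨_, M, rfl⟩, hM⟩ :=
      (IsLocalization.map_eq_zero_iff (Submonoid.powers (ψ₀ ρ)) _ _).mp h1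
    refine ⟨ρ ^ M * g₀, by rw [map_mul, map_pow]; exact hM, n₀ + M, ?_⟩
    have hs' : x * algebraMap C₀ (Localization.Away ρ) ρ ^ n₀ =
        algebraMap C₀ (Localization.Away ρ) g₀ := by
      have hn₀' : ρ ^ n₀ = (s : C₀) := hn₀
      rw [← map_pow, hn₀']; exact hs
    rw [pow_add, ← mul_assoc, hs', map_mul, map_pow, mul_comm]
  choose! g hg0 n hn using hg
  have hle : RingHom.ker (Localization.awayMapₐ ψ₀ ρ).toRingHom ≤
      Ideal.map (algebraMap C₀ (Localization.Away ρ)) (Ideal.span (g '' (↑κ : Set _))) := by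
    rw [← hκ]
    refine Ideal.span_le.mpr (fun x hx => ?_)
    have hunit : IsUnit (algebraMap C₀ (Localization.Away ρ) ρ ^ n x) :=
      (IsLocalization.Away.algebraMap_isUnit ρ).pow _
    rw [SetLike.mem_coe, ← Ideal.mul_unit_mem_iff_mem _ hunit, hn x hx]
    exact Ideal.mem_map_of_mem _ (Ideal.subset_span ⟨x, hx, rfl⟩)
  refine ⟨Ideal.span (g '' (↑κ : Set _)), Submodule.fg_span (κ.finite_toSet.image g), ?_, ?_⟩
  · refine Ideal.span_le.mpr ?_
    rintro _ ⟨x, hx, rfl⟩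
    exact (RingHom.mem_ker).mpr (hg0 x hx)
  · intro c hc
    have hcker : algebraMap C₀ (Localization.Away ρ) c ∈
        RingHom.ker (Localization.awayMapₐ ψ₀ ρ).toRingHom := by
      rw [RingHom.mem_ker]
      show Localization.awayMapₐ ψ₀ ρ (algebraMap C₀ (Localization.Away ρ) c) = 0
      rw [awayMapₐ_algebraMap, hc, map_zero]
    obtain ⟨⟨⟨j, hj⟩, ⟨_, L, rfl⟩⟩, hL⟩ :=
      (IsLocalization.mem_map_algebraMap_iff (Submonoid.powers ρ) _).mp (hle hcker)
    rw [← map_mul] at hL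
    obtain ⟨⟨_, M', rfl⟩, hM'⟩ := (IsLocalization.eq_iff_exists (Submonoid.powers ρ) _).mp hL
    refine ⟨M' + L, ?_⟩
    have h : ρ ^ (M' + L) * c = ρ ^ M' * j := by
      have h' : ρ ^ M' * (c * ρ ^ L) = ρ ^ M' * j := hM'
      rw [← h']; ring
    rw [h]
    exact Ideal.mul_mem_left _ _ hj

/-- **Zariski's main theorem**, algebra form with finite presentation. -/
theorem exists_finite_fp_model {R S : Type u} [CommRing R] [CommRing S] [Algebra R S]
    [Algebra.FinitePresentation R S] [Algebra.QuasiFinite R S] :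
    ∃ (C : Type u) (_ : CommRing C) (_ : Algebra R C) (_ : Module.Finite R C)
      (_ : Algebra.FinitePresentation R C) (ψ : C →ₐ[R] S) (n : ℕ) (r : Fin n → C),
      Ideal.span (Set.range fun k => ψ (r k)) = ⊤ ∧
      ∀ k, Function.Bijective (Localization.awayMap (ψ : C →+* S) (r k)) := by
  classical
  obtain ⟨B, T, hBfg, hTB, hTspan, hTw⟩ :=
    Groth.Agent.Lib.GabberZMT.exists_finite_subalgebra (R := R) (S := S)
  haveI : Module.Finite R B := ⟨(Submodule.fg_top _).mpr hBfg⟩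
  obtain ⟨C₀, _, _, _, _, _, f₀, hf₀⟩ := Module.Finite.exists_free_surjective R B
  obtain ⟨ψ₀, hψ₀⟩ : ∃ ψ₀ : C₀ →ₐ[R] S, ∀ c, ψ₀ c = (f₀ c : S) := ⟨B.val.comp f₀, fun c => rfl⟩
  have hρ : ∀ t ∈ T, ∃ ρ : C₀, ψ₀ ρ = t := by
    intro t ht
    obtain ⟨ρ, hρ⟩ := hf₀ ⟨t, hTB ht⟩
    exact ⟨ρ, by rw [hψ₀, hρ]⟩
  choose! ρ hρ using hρ
  have hsurj : ∀ t ∈ T, ∀ w : S, ∃ (N : ℕ) (c : C₀), ψ₀ c = ψ₀ (ρ t) ^ N * w := by
    intro t ht w
    obtain ⟨N, hN⟩ := hTw w t ht
    obtain ⟨c, hc⟩ := hf₀ ⟨t ^ N * w, hN⟩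
    exact ⟨N, c, by rw [hψ₀, hc, hρ t ht]⟩
  have hJ : ∀ t ∈ T, ∃ J : Ideal C₀, J.FG ∧ J ≤ RingHom.ker (ψ₀ : C₀ →+* S) ∧
      ∀ c, ψ₀ c = 0 → ∃ M : ℕ, ρ t ^ M * c ∈ J :=
    fun t ht => exists_fg_ideal_ker ψ₀ (ρ t) (hsurj t ht)
  choose! J hJfg hJle hJ using hJ
  have hfg : (⨆ t ∈ T, J t).FG := Submodule.fg_biSup T J hJfg
  have hle : (⨆ t ∈ T, J t) ≤ RingHom.ker (ψ₀ : C₀ →+* S) :=
    iSup₂_le (fun t ht => hJle t ht)
  have hker : ∀ a ∈ (⨆ t ∈ T, J t), ψ₀ a = 0 := fun a ha => hle ha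
  haveI hfin : Module.Finite R (C₀ ⧸ (⨆ t ∈ T, J t)) :=
    Module.Finite.of_surjective (Ideal.Quotient.mkₐ R (⨆ t ∈ T, J t)).toLinearMap
      (Ideal.Quotient.mkₐ_surjective R _)
  have hψmk : ∀ c, Ideal.Quotient.liftₐ (⨆ t ∈ T, J t) ψ₀ hker (Ideal.Quotient.mk _ c) = ψ₀ c :=
    fun c => Ideal.Quotient.lift_mk _ (ψ₀ : C₀ →+* S) hker
  refine ⟨C₀ ⧸ (⨆ t ∈ T, J t), inferInstance, inferInstance, hfin,
    Algebra.FinitePresentation.quotient hfg,
    Ideal.Quotient.liftₐ (⨆ t ∈ T, J t) ψ₀ hker, T.card,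
    fun k => Ideal.Quotient.mk _ (ρ ((T.equivFin.symm k : T) : S)), ?_, ?_⟩
  · have hrange : (Set.range fun k : Fin T.card =>
        Ideal.Quotient.liftₐ (⨆ t ∈ T, J t) ψ₀ hker
          (Ideal.Quotient.mk _ (ρ ((T.equivFin.symm k : T) : S)))) = (↑T : Set S) := by
      ext x
      constructor
      · rintro ⟨k, rfl⟩
        dsimp only
        rw [hψmk, hρ _ (T.equivFin.symm k).2]
        exact (T.equivFin.symm k).2
      · intro hx
        refine ⟨T.equivFin ⟨x, hx⟩, ?_⟩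
        show Ideal.Quotient.liftₐ (⨆ t ∈ T, J t) ψ₀ hker
          (Ideal.Quotient.mk _ (ρ ((T.equivFin.symm (T.equivFin ⟨x, hx⟩) : T) : S))) = x
        rw [hψmk, Equiv.symm_apply_apply]
        exact hρ x hx
    rw [hrange, hTspan]
  · have key : ∀ t ∈ T, Function.Bijective (Localization.awayMap
        ((Ideal.Quotient.liftₐ (⨆ t ∈ T, J t) ψ₀ hker : _ →ₐ[R] S) : _ →+* S)
        (Ideal.Quotient.mk (⨆ t ∈ T, J t) (ρ t))) := by
      intro t ht
      constructor
      · refine Localization.awayMap_injective_iff.mpr (fun a ha => ?_)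
        obtain ⟨c, rfl⟩ := Ideal.Quotient.mk_surjective a
        have hc : ψ₀ c = 0 := by rw [← hψmk]; exact ha
        obtain ⟨M, hM⟩ := hJ t ht c hc
        refine ⟨M, ?_⟩
        rw [← map_pow, ← map_mul]
        exact Ideal.Quotient.eq_zero_iff_mem.mpr (le_iSup₂ (f := fun t _ => J t) t ht hM)
      · refine Localization.awayMap_surjective_iff.mpr (fun a => ?_)
        obtain ⟨N, c, hc⟩ := hsurj t ht a
        refine ⟨Ideal.Quotient.mk _ c, N, ?_⟩
        show Ideal.Quotient.liftₐ (⨆ t ∈ T, J t) ψ₀ hker (Ideal.Quotient.mk _ c) =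
          Ideal.Quotient.liftₐ (⨆ t ∈ T, J t) ψ₀ hker (Ideal.Quotient.mk _ (ρ t)) ^ N * a
        rw [hψmk, hψmk, hc]
    intro k
    exact key _ (T.equivFin.symm k).2

end algebra

section scheme

/-- If `ψ : C → S` induces isomorphisms `C[1/r_k] ≅ S[1/ψ r_k]` and the `ψ r_k` generate the unit
ideal, then `Spec ψ` is an open immersion. -/
theorem isOpenImmersion_Spec_of_awayMap_bijective {C S : Type u} [CommRing C] [CommRing S]
    (ψ : C →+* S) {n : ℕ} (r : Fin n → C)
    (hspan : Ideal.span (Set.range fun k => ψ (r k)) = ⊤)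
    (hbij : ∀ k, Function.Bijective (Localization.awayMap ψ (r k))) :
    IsOpenImmersion (Spec.map (CommRingCat.ofHom ψ)) := by
  have hex : ∀ p : PrimeSpectrum S, ∃ k, ψ (r k) ∉ p.asIdeal := by
    intro p
    by_contra hcon
    push_neg at hcon
    have hle : Ideal.span (Set.range fun k => ψ (r k)) ≤ p.asIdeal :=
      Ideal.span_le.mpr (by rintro _ ⟨k, rfl⟩; exact hcon k)
    rw [hspan] at hle
    exact p.isPrime.ne_top (top_le_iff.mp hle)
  have hmem : ∀ (p : PrimeSpectrum S) (u s : S) (m : ℕ), u ∉ p.asIdeal →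
      (u ^ m * s ∈ p.asIdeal ↔ s ∈ p.asIdeal) := by
    intro p u s m hu
    constructor
    · intro h
      rcases p.isPrime.mem_or_mem h with h' | h'
      · exact absurd (p.isPrime.mem_of_pow_mem m h') hu
      · exact h'
    · intro h
      exact Ideal.mul_mem_left _ _ h
  refine IsOpenImmersion.of_forall_source_exists _ ?_ ?_
  · intro (p : PrimeSpectrum S) (q : PrimeSpectrum S) h
    have h' : (PrimeSpectrum.comap ψ p).asIdeal = (PrimeSpectrum.comap ψ q).asIdeal :=
      congrArg PrimeSpectrum.asIdeal h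
    have hpq : ∀ b, ψ b ∈ p.asIdeal ↔ ψ b ∈ q.asIdeal := fun b => by
      have h'' := SetLike.ext_iff.mp h' b
      simpa [PrimeSpectrum.comap_asIdeal, Ideal.mem_comap] using h''
    obtain ⟨k, hk⟩ := hex p
    have hkq : ψ (r k) ∉ q.asIdeal := fun hq => hk ((hpq _).mpr hq)
    refine PrimeSpectrum.ext (SetLike.ext (fun s => ?_))
    obtain ⟨b, m, hb⟩ := Localization.awayMap_surjective_iff.mp (hbij k).2 s
    rw [← hmem p _ s m hk, ← hmem q _ s m hkq, ← hb]
    exact hpq b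
  · intro (x : PrimeSpectrum S)
    obtain ⟨k, hk⟩ := hex x
    haveI h1 : IsOpenImmersion (Spec.map (CommRingCat.ofHom
        (algebraMap S (Localization.Away (ψ (r k)))))) :=
      IsOpenImmersion.of_isLocalization (ψ (r k))
    haveI h2 : IsOpenImmersion (Spec.map (CommRingCat.ofHom
        (algebraMap C (Localization.Away (r k))))) :=
      IsOpenImmersion.of_isLocalization (r k)
    haveI h3 : IsIso (CommRingCat.ofHom (Localization.awayMap ψ (r k))) :=
      (ConcreteCategory.isIso_iff_bijective _).mpr (hbij k)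
    refine ⟨Spec (CommRingCat.of (Localization.Away (ψ (r k)))),
      Spec.map (CommRingCat.ofHom (algebraMap S (Localization.Away (ψ (r k))))), h1, ?_, ?_⟩
    · change x ∈ Set.range (PrimeSpectrum.comap (algebraMap S (Localization.Away (ψ (r k)))))
      rw [PrimeSpectrum.localization_away_comap_range _ (ψ (r k))]
      exact hk
    · have hcomp : CommRingCat.ofHom ψ ≫ CommRingCat.ofHom
          (algebraMap S (Localization.Away (ψ (r k)))) =
          CommRingCat.ofHom (algebraMap C (Localization.Away (r k))) ≫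
            CommRingCat.ofHom (Localization.awayMap ψ (r k)) := by
        rw [← CommRingCat.ofHom_comp, ← CommRingCat.ofHom_comp]
        congr 1
        exact (IsLocalization.map_comp _).symm
      rw [← Spec.map_comp, hcomp, Spec.map_comp]
      infer_instance

/-- **Zariski's main theorem** for a quasi-finite finitely presented morphism of affine schemes. -/
theorem exists_finite_compactification {X Y : Scheme.{u}} (f : X ⟶ Y) [IsAffine X] [IsAffine Y]
    [LocallyQuasiFinite f] [LocallyOfFinitePresentation f] :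
    ∃ (Xb : Scheme.{u}) (π : Xb ⟶ Y) (j : X ⟶ Xb), IsFinite π ∧ LocallyOfFinitePresentation π ∧
      IsOpenImmersion j ∧ j ≫ π = f := by
  letI : Algebra Γ(Y, ⊤) Γ(X, ⊤) := f.appTop.hom.toAlgebra
  haveI : Algebra.FinitePresentation Γ(Y, ⊤) Γ(X, ⊤) :=
    (HasRingHomProperty.iff_of_isAffine (P := @LocallyOfFinitePresentation)).mp ‹_›
  haveI : Algebra.QuasiFinite Γ(Y, ⊤) Γ(X, ⊤) :=
    (HasRingHomProperty.iff_of_isAffine (P := @LocallyQuasiFinite)).mp ‹_›
  obtain ⟨C, _, _, hfin, hfp, ψ, n, r, hspan, hbij⟩ :=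
    exists_finite_fp_model (R := Γ(Y, ⊤)) (S := Γ(X, ⊤))
  haveI hoi : IsOpenImmersion (Spec.map (CommRingCat.ofHom (ψ : C →+* Γ(X, ⊤)))) :=
    isOpenImmersion_Spec_of_awayMap_bijective (ψ : C →+* Γ(X, ⊤)) r hspan hbij
  refine ⟨Spec (CommRingCat.of C),
    Spec.map (CommRingCat.ofHom (algebraMap Γ(Y, ⊤) C)) ≫ Y.isoSpec.inv,
    X.isoSpec.hom ≫ Spec.map (CommRingCat.ofHom (ψ : C →+* Γ(X, ⊤))), ?_, ?_, ?_, ?_⟩
  · haveI : IsFinite (Spec.map (CommRingCat.ofHom (algebraMap Γ(Y, ⊤) C))) := by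
      rw [IsFinite.SpecMap_iff]
      exact RingHom.finite_algebraMap.mpr hfin
    infer_instance
  · haveI : LocallyOfFinitePresentation (Spec.map (CommRingCat.ofHom (algebraMap Γ(Y, ⊤) C))) := by
      rw [HasRingHomProperty.Spec_iff (P := @LocallyOfFinitePresentation)]
      exact RingHom.finitePresentation_algebraMap.mpr hfp
    infer_instance
  · infer_instance
  · have h1 : CommRingCat.ofHom (algebraMap Γ(Y, ⊤) C) ≫
        CommRingCat.ofHom (ψ : C →+* Γ(X, ⊤)) = f.appTop := by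
      ext a
      exact ψ.commutes a
    rw [Category.assoc, ← Spec.map_comp_assoc, h1, ← Category.assoc,
      Scheme.isoSpec_hom_naturality, Category.assoc, Iso.hom_inv_id, Category.comp_id]

end scheme

end Groth.Agent.Lib.ZMTOpenImmH4
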