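import Groth.Agent.Lib.UBFComp_helper6
import Groth.Agent.Lib.UBFCover_helper6
import Groth.Agent.Lib.AlgSpUnram_helper7
import Groth.Agent.Lib.ZMTOpenImm_helper4

/-!
# Morphisms of schemes with universally bounded fibres (helper6)

Open immersions, finite morphisms to affine schemes, and quasi-finite finitely presented morphisms
of affine schemes have universally bounded fibres.
-/

set_option autoImplicit false
universe u
open CategoryTheory CategoryTheory.Limits AlgebraicGeometry Opposite TensorProduct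

namespace Groth.Agent.Lib.UBFSchH6

open AlgSp Groth.Agent.Lib.AlgSpUBF2_helper4 Groth.Agent.Lib.AlgSpPoints_helper7
  Groth.Agent.Lib.FinKSchH6 Groth.Agent.Lib.UBFCompH6 Groth.Agent.Lib.UBFCoverH6
  Groth.Agent.Lib.AlgSpUnram_helper7

/-- The base change to a field of a module generated by `n` elements has dimension at most `n`. -/
theorem finrank_baseChange_le {B C L : Type u} [CommRing B] [CommRing C] [Algebra B C] [Field L]
    [Algebra B L] {n : ℕ} (s : Fin n → C) (hs : Submodule.span B (Set.range s) = ⊤) :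
    Module.finrank L (L ⊗[B] C) ≤ n := by
  have h1 : Submodule.span L (Set.range (fun k => (1 : L) ⊗ₜ[B] s k)) = ⊤ := by
    have h0 := Submodule.baseChange_span (R := B) (A := L) (Set.range s)
    rw [hs, Submodule.baseChange_top, ← Set.range_comp] at h0
    exact h0.symm
  calc Module.finrank L (L ⊗[B] C)
      = Module.finrank L (⊤ : Submodule L (L ⊗[B] C)) := (finrank_top L _).symm
    _ = (Set.range (fun k => (1 : L) ⊗ₜ[B] s k)).finrank L := by rw [Set.finrank, h1]
    _ ≤ Fintype.card (Fin n) := finrank_range_le_card _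
    _ = n := Fintype.card_fin n

variable {K : Type u} [Field K]

/-- An open immersion into the spectrum of a field is finite of rank at most one. -/
theorem isFinite_of_isOpenImmersion_field {T : Scheme.{u}} (c : T ⟶ Spec (CommRingCat.of K))
    [IsOpenImmersion c] (s : ↥(Spec (CommRingCat.of K))) : IsFinite c ∧ c.finrank s ≤ 1 := by
  haveI : Subsingleton ↥(Spec (CommRingCat.of K)) :=
    inferInstanceAs (Subsingleton (PrimeSpectrum K))
  haveI : IsClosedImmersion c := IsClosedImmersion.of_isPreimmersion c (isClosed_discrete _)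
  haveI hfin : IsFinite c := inferInstance
  refine ⟨hfin, ?_⟩
  rw [finrank_eq_finrank_strHom c s]
  letI := (strHom c).toAlgebra
  have hsurj : Function.Surjective (strHom c) := by
    have h1 : Function.Surjective c.appTop.hom :=
      (IsClosedImmersion.isAffine_surjective_of_isAffine c).2
    exact h1.comp
      (ConcreteCategory.bijective_of_isIso (Scheme.ΓSpecIso (CommRingCat.of K)).inv).surjective
  have hr : LinearMap.range (Algebra.linearMap K Γ(T, ⊤)) = ⊤ := LinearMap.range_eq_top.2 hsurj
  have h2 := LinearMap.finrank_range_le (Algebra.linearMap K Γ(T, ⊤))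
  rw [hr, finrank_top, Module.finrank_self] at h2
  exact h2

variable {S : Scheme.{u}}

/-- An open immersion of schemes has universally bounded fibres (bounded by one). -/
theorem hasUnivBddFibres_of_isOpenImmersion {U V : Over S} (f : V ⟶ U) [IsOpenImmersion f.left] :
    W4dec.HasUnivBddFibres ((yon S).map f) := by
  refine ⟨1, ?_⟩
  intro q T c snd hsq
  obtain ⟨b, rfl⟩ := (yon S).map_surjective snd
  obtain ⟨q', hq'⟩ := (yon S).map_surjective q.toHom
  rw [← hq'] at hsq
  have hP := isPullback_left_of_isPullback_yon hsq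
  let c₀ : T.left ⟶ Spec (CommRingCat.of q.K) := c.left
  haveI : IsOpenImmersion c₀ :=
    MorphismProperty.of_isPullback (P := @IsOpenImmersion) hP.flip inferInstance
  obtain ⟨s₀⟩ : Nonempty ↥(Spec (CommRingCat.of q.K)) :=
    inferInstanceAs (Nonempty (PrimeSpectrum q.K))
  exact ⟨(isFinite_of_isOpenImmersion_field c₀ s₀).1,
    fun s => (isFinite_of_isOpenImmersion_field c₀ s).2⟩

/-- A finite morphism to an affine scheme has universally bounded fibres. -/
theorem hasUnivBddFibres_of_isFinite {Y Z : Over S} (π : Z ⟶ Y) [IsAffine Y.left]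
    [IsFinite π.left] : W4dec.HasUnivBddFibres ((yon S).map π) := by
  haveI : IsAffine Z.left := isAffine_of_isAffineHom π.left
  letI algBC : Algebra Γ(Y.left, ⊤) Γ(Z.left, ⊤) := π.left.appTop.hom.toAlgebra
  haveI : Module.Finite Γ(Y.left, ⊤) Γ(Z.left, ⊤) :=
    ((HasAffineProperty.iff_of_isAffine (P := @IsFinite)).mp ‹IsFinite π.left›).2
  obtain ⟨n, gen, hgen⟩ := Module.Finite.exists_fin (R := Γ(Y.left, ⊤)) (M := Γ(Z.left, ⊤))
  refine ⟨n, ?_⟩
  intro q T c snd hsq
  obtain ⟨b, rfl⟩ := (yon S).map_surjective snd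
  obtain ⟨q', hq'⟩ := (yon S).map_surjective q.toHom
  rw [← hq'] at hsq
  have hP := isPullback_left_of_isPullback_yon hsq
  obtain ⟨x, hx⟩ : ∃ x : Spec (CommRingCat.of q.K) ⟶ Y.left, x = q'.left := ⟨_, rfl⟩
  rw [← hx] at hP
  letI algBL : Algebra Γ(Y.left, ⊤) q.K :=
    (x.appTop ≫ (Scheme.ΓSpecIso (CommRingCat.of q.K)).hom).hom.toAlgebra
  have hxe : Spec.map (CommRingCat.ofHom (algebraMap Γ(Y.left, ⊤) q.K)) ≫ Y.left.isoSpec.inv
      = x := by
    change Spec.map (x.appTop ≫ (Scheme.ΓSpecIso (CommRingCat.of q.K)).hom) ≫ _ = x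
    rw [Spec.map_comp, Category.assoc, Scheme.isoSpec_inv_naturality, Scheme.isoSpec_Spec_inv,
      ← Category.assoc, ← Spec.map_comp, Iso.inv_hom_id, Spec.map_id, Category.id_comp]
  have sqT := isPullback_tensor π.left (L := q.K) rfl
  rw [hxe] at sqT
  let c₀ : T.left ⟶ Spec (CommRingCat.of q.K) := c.left
  let e := sqT.isoIsPullback _ _ hP.flip
  have he : e.hom ≫ c₀ = Spec.map (CommRingCat.ofHom (algebraMap q.K
      (q.K ⊗[Γ(Y.left, ⊤)] Γ(Z.left, ⊤)))) := sqT.isoIsPullback_hom_snd _ _ hP.flip
  haveI hfin' : IsFinite (Spec.map (CommRingCat.ofHom (algebraMap q.K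
      (q.K ⊗[Γ(Y.left, ⊤)] Γ(Z.left, ⊤))))) := by
    rw [IsFinite.SpecMap_iff]
    exact RingHom.finite_algebraMap.2 inferInstance
  haveI : IsFinite (e.hom ≫ c₀) := by rw [he]; exact hfin'
  have hrk : ∀ s, (e.hom ≫ c₀).finrank s ≤ n := by
    intro s
    rw [he, Scheme.Hom.finrank_SpecMap_algebraMap, Module.rankAtStalk_eq_finrank_of_free]
    exact finrank_baseChange_le gen hgen
  obtain ⟨s₀⟩ : Nonempty ↥(Spec (CommRingCat.of q.K)) :=
    inferInstanceAs (Nonempty (PrimeSpectrum q.K))
  exact ⟨(isFinite_of_flat_surjective_comp e.hom c₀ s₀).1,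
    fun s => ((isFinite_of_flat_surjective_comp e.hom c₀ s).2).trans (hrk s)⟩

/-- A locally quasi-finite, finitely presented morphism of affine schemes has universally
bounded fibres (by Zariski's main theorem). -/
theorem hasUnivBddFibres_of_affine_lqf {Y Z : Over S} (g : Z ⟶ Y) [IsAffine Y.left]
    [IsAffine Z.left] [LocallyQuasiFinite g.left] [LocallyOfFinitePresentation g.left] :
    W4dec.HasUnivBddFibres ((yon S).map g) := by
  obtain ⟨Xb, π, j, hπ, -, hj, hfac⟩ :=
    Groth.Agent.Lib.ZMTOpenImmH4.exists_finite_compactification g.left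
  let Zb : Over S := Over.mk (π ≫ Y.hom)
  let πO : Zb ⟶ Y := Over.homMk π rfl
  have hjS : j ≫ Zb.hom = Z.hom := by
    change j ≫ π ≫ Y.hom = Z.hom
    rw [← Category.assoc, hfac, Over.w g]
  let jO : Z ⟶ Zb := Over.homMk j hjS
  have hg : jO ≫ πO = g := Over.OverMorphism.ext hfac
  haveI : IsFinite πO.left := hπ
  haveI : IsOpenImmersion jO.left := hj
  have h := hasUnivBddFibres_comp (IsAlgSpace.yon_obj Y) jO ((yon S).map πO)
    (hasUnivBddFibres_of_isOpenImmersion jO) (hasUnivBddFibres_of_isFinite πO)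
  rw [← Functor.map_comp, hg] at h
  exact h

end Groth.Agent.Lib.UBFSchH6
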