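import Mathlib
import Groth.Agent.Lib.AlgSpFEtQuot_helper6
import Groth.Agent.Lib.AlgSpSatNorm_helper6
import Groth.Agent.Lib.AlgSpDegStrat_helper4
import Groth.Agent.Lib.AlgSpOpenSub_helper7
import Groth.Agent.Lib.AlgSpPoints_helper7
import Groth.Agent.Lib.AlgSpPullback_helper7
import Groth.Agent.Lib.AlgSpIso_helper7
import Groth.Agent.Lib.AlgSpGlue4_helper7
import Groth.Agent.Lib.UBFSch_helper6
import Groth.Agent.Lib.UBFComp_helper6
import Groth.Agent.Lib.UBFCover_helper6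
import Groth.Agent.Lib.PrimeAvoidCoset_helper5
import Groth.Agent.S10426

/-!
# A finite étale chart gives a dense open subscheme (helper6)
-/

set_option autoImplicit false
universe u
open CategoryTheory CategoryTheory.Limits AlgebraicGeometry Opposite TopologicalSpace

namespace Groth.Agent.Lib.AlgSpFEtDenseH6

open AlgSp Groth.Agent.Lib.AlgSpPoints_helper7 Groth.Agent.Lib.AlgSpOpenSub_helper7
  Groth.Agent.Lib.AlgSpPullback_helper7 Groth.Agent.Lib.AlgSpIso_helper7
  Groth.Agent.Lib.AlgSpBasic_helper7 Groth.Agent.Lib.AlgSpDegStratH4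
  Groth.Agent.Lib.UBFSchH6 Groth.Agent.Lib.UBFCompH6 Groth.Agent.Lib.UBFCoverH6
  Groth.Agent.Lib.AlgSpFEtQuotH6 Groth.Agent.Lib.AlgSpSatNormH6

variable {S : Scheme.{u}}

theorem ofPt_eq_of_isPullback {F : Sp S} {U T V : Over S} {p : (yon S).obj U ⟶ F}
    {g : (yon S).obj T ⟶ F} {b : V ⟶ U} {a : V ⟶ T}
    (sq : IsPullback ((yon S).map b) ((yon S).map a) p g) (v : ↥V.left) :
    Points.ofPt p (b.left v) = Points.ofPt g (a.left v) := by
  rw [← ofPt_comp, ← ofPt_comp, sq.w]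

theorem exists_isPullback_yon {F : Sp S} {V T : Over S} {w : (yon S).obj V ⟶ F}
    (hrep : Representable w) (g : (yon S).obj T ⟶ F) :
    ∃ (P : Over S) (τ : P ⟶ V) (π : P ⟶ T),
      IsPullback ((yon S).map τ) ((yon S).map π) w g := by
  obtain ⟨τ, hτ⟩ := (yon S).map_surjective (hrep.fst g)
  exact ⟨_, τ, hrep.snd g, by rw [hτ]; exact hrep.isPullback g⟩

/-- The restriction of a finite chart to an affine open has universally bounded fibres. -/
theorem hasUnivBddFibres_restrict {X : Sp S} (hX : IsAlgSpace X) {U V : Over S} [IsAffine V.left]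
    (a : (yon S).obj U ⟶ X) (hfin : RepWith @IsFinite a) (j : V ⟶ U) [IsOpenImmersion j.left] :
    W4dec.HasUnivBddFibres ((yon S).map j ≫ a) := by
  obtain ⟨w, hw⟩ : ∃ w, w = (yon S).map j ≫ a := ⟨_, rfl⟩
  rw [← hw]
  obtain ⟨P₁, f₁, snd₁, sq₁⟩ := exists_isPullback_yon hfin.rep w
  haveI : IsFinite snd₁.left := hfin.property _ _ _ sq₁
  have sq₀ := IsPullback.of_hasPullback j f₁
  have sq₂ := sq₀.map (yon S)
  have big := sq₂.flip.paste_horiz sq₁.flip
  rw [← hw] at big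
  have sq₀L : IsPullback (pullback.fst j f₁).left (pullback.snd j f₁).left j.left f₁.left :=
    sq₀.map (Over.forget S)
  haveI : IsOpenImmersion (pullback.snd j f₁).left :=
    MorphismProperty.of_isPullback (P := @IsOpenImmersion) sq₀L ‹IsOpenImmersion j.left›
  have hY : IsAlgSpace ((yon S).obj V) := IsAlgSpace.yon_obj V
  have hub : W4dec.HasUnivBddFibres
      ((yon S).map (pullback.snd j f₁) ≫ (yon S).map snd₁) :=
    hasUnivBddFibres_comp hY _ _ (hasUnivBddFibres_of_isOpenImmersion _)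
      (hasUnivBddFibres_of_isFinite _)
  exact Groth.Agent.S10426.result (X := ⟨X, hX⟩) (Y := ⟨(yon S).obj V, hY⟩)
    (ObjectProperty.homMk w) (hX.representable_from_yon w) w
    ((yon S).map (pullback.fst j f₁)) _ big.flip (range_map_yon V w).ge hub

/-- The hypotheses of the degree stratification hold for the restriction of a finite étale chart
to an affine open. -/
theorem exists_hyp_restrict {X : Sp S} (hX : IsAlgSpace X) {U V : Over S} [IsAffine V.left]
    (a : (yon S).obj U ⟶ X) (hfin : RepWith @IsFinite a) (het : RepWith @Etale a) (j : V ⟶ U)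
    [IsOpenImmersion j.left] : ∃ n, Hyp ((yon S).map j ≫ a) n := by
  obtain ⟨n, hn⟩ := hasUnivBddFibres_restrict hX a hfin j
  haveI : MorphismProperty.IsMultiplicative @LocallyOfFinitePresentation :=
    { id_mem := fun _ => inferInstance
      comp_mem := fun f g hf hg => by
        haveI := hf
        haveI := hg
        exact (inferInstance : LocallyOfFinitePresentation (f ≫ g)) }
  refine ⟨n, hX.representable_from_yon _, ?_, ?_, ?_, ?_, hn⟩
  · exact repWith_comp _ ((repWith_yon_map_iff @Flat j).2 inferInstance)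
      (repWith_mono (fun _ _ g (hg : Etale g) => (inferInstance : Flat g)) het)
  · exact repWith_comp _ ((repWith_yon_map_iff @LocallyOfFinitePresentation j).2 inferInstance)
      (repWith_mono (fun _ _ g (hg : Etale g) =>
        (inferInstance : LocallyOfFinitePresentation g)) het)
  · exact repWith_comp _ ((repWith_yon_map_iff @IsSeparated j).2 inferInstance)
      (repWith_mono (fun _ _ g (hg : IsFinite g) => (inferInstance : IsSeparated g)) hfin)
  · exact repWith_comp _ ((repWith_yon_map_iff @LocallyQuasiFinite j).2 inferInstance)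
      (repWith_mono (fun _ _ g (hg : IsFinite g) => (inferInstance : LocallyQuasiFinite g)) hfin)

section Local

variable {X : Sp S} {V : Over S} {w : (yon S).obj V ⟶ X} {n : ℕ}

theorem isFinLocFree_of_deg_eq (H : Hyp w n) {T P : Over S} (g : (yon S).obj T ⟶ X)
    (τ : P ⟶ V) (π : P ⟶ T) (sq : IsPullback ((yon S).map τ) ((yon S).map π) w g) (r : ℕ)
    (hdeg : ∀ t : ↥T.left, deg H (Points.ofPt g t) = r) : Mor2.IsFinLocFreeOfDeg r π.left := by
  have h1 : IsFinLocFreeOfDegMor r ((yon S).map π) :=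
    (isFinLocFreeOfDegMor_iff H g _ _ sq r).2 (fun y => by
      obtain ⟨t, rfl⟩ := ofScheme_surjective T y
      rw [← Points.ofPt_eq_map_ofScheme]
      exact hdeg t)
  exact ((AlgSp.repWith_iff (finLocFreeOfDeg r) _).1 h1).2 (𝟙 _) (𝟙 _) π IsPullback.of_id_fst

/-- The local construction: around a point of maximal fibre degree of an affine étale chart
with universally bounded fibres, there is an open subspace which is an affine scheme. -/
theorem exists_affine_open_subspace (hX : IsAlgSpace X) [IsAffine V.left]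
    (hwet : RepWith @Etale w) (H : Hyp w n)
    {Λ : CommRingCat.{u}} (i : Spec Λ ⟶ S) [Mono i] (h₀ : V.left ⟶ Spec Λ) (hh : h₀ ≫ i = V.hom)
    (v₀ : ↥V.left)
    (hmax : ∀ v : ↥V.left, deg H (Points.ofPt w v) ≤ deg H (Points.ofPt w v₀)) :
    ∃ W'' : Set (Points X), IsOpen W'' ∧ Points.ofPt w v₀ ∈ W'' ∧
      W'' ⊆ Set.range (Points.ofPt w) ∧
      ∃ M : Over S, IsAffine M.left ∧ Nonempty ((yon S).obj M ≅ openSub X W'') := by
  obtain ⟨m₀, hm₀⟩ : ∃ m₀, m₀ = deg H (Points.ofPt w v₀) := ⟨_, rfl⟩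
  have hWopen : IsOpen {x : Points X | deg H x < m₀}ᶜ := (isClosed_deg_lt H m₀).isOpen_compl
  let U₁ : V.left.Opens :=
    ⟨Points.ofPt w ⁻¹' {x : Points X | deg H x < m₀}ᶜ, Points.isOpen_iff.1 hWopen V w⟩
  have hU₁ : ∀ v : ↥V.left, v ∈ U₁ ↔ deg H (Points.ofPt w v) = m₀ := by
    intro v
    change ¬ (deg H (Points.ofPt w v) < m₀) ↔ _
    have := hmax v
    omega
  -- the orbit of `v₀`
  obtain ⟨Pw, τw, πw, sqw⟩ := exists_isPullback_yon H.rep w
  let O : Set ↥V.left := {v | Points.ofPt w v = Points.ofPt w v₀}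
  have hOfin : O.Finite := by
    refine ((H.finite_fibre sqw v₀).image τw.left).subset ?_
    intro v hv
    obtain ⟨r, hr1, hr2⟩ := exists_ofPt_eq_of_isPullback sqw v v₀ hv
    exact ⟨r, hr2, hr1⟩
  have hOU₁ : O ⊆ U₁ := fun v hv => (hU₁ v).2 (by rw [hm₀]; exact congrArg (deg H) hv)
  obtain ⟨f, hOf, hfU₁⟩ := Groth.Agent.PrimeAvoidCoset.exists_basicOpen_finite
    (isAffineOpen_top V.left) O hOfin (fun _ _ => trivial) U₁ hOU₁
  obtain ⟨Y, hYdef⟩ : ∃ Y : V.left.Opens, Y = V.left.basicOpen f := ⟨_, rfl⟩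
  rw [← hYdef] at hOf hfU₁
  have hYaff : IsAffineOpen Y := by rw [hYdef]; exact (isAffineOpen_top V.left).basicOpen f
  let YO : Over S := opOver V Y
  let ιY : YO ⟶ V := opι V Y
  haveI : IsAffine YO.left := hYaff
  haveI : IsOpenImmersion ιY.left := inferInstanceAs (IsOpenImmersion Y.ι)
  have hιYmem : ∀ y : ↥YO.left, ιY.left y ∈ Y := fun y => y.2
  have hιYsurj : ∀ v : ↥V.left, v ∈ Y → ∃ y : ↥YO.left, ιY.left y = v := fun v hv => ⟨⟨v, hv⟩, rfl⟩
  obtain ⟨wY, hwY⟩ : ∃ wY, wY = (yon S).map ιY ≫ w := ⟨_, rfl⟩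
  have hwYpt : ∀ y : ↥YO.left, Points.ofPt wY y = Points.ofPt w (ιY.left y) := by
    intro y
    rw [hwY, ofPt_comp]
  obtain ⟨P, τ, π, sqY⟩ := exists_isPullback_yon H.rep wY
  have hdegY : ∀ y : ↥YO.left, deg H (Points.ofPt wY y) = m₀ := by
    intro y
    rw [hwYpt]
    exact (hU₁ _).1 (hfU₁ (hιYmem y))
  obtain ⟨⟨hπfin, hπflat, hπfp⟩, -⟩ := isFinLocFree_of_deg_eq H wY τ π sqY m₀ hdegY
  haveI := hπfin
  haveI := hπflat
  haveI := hπfp
  obtain ⟨N, hN⟩ := exists_norm_basicOpen π.left (τ.left.appTop.hom f)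
  have hb : ∀ r : ↥P.left, r ∈ P.left.basicOpen (τ.left.appTop.hom f) ↔ τ.left r ∈ Y := by
    intro r
    have h1 : τ.left ⁻¹ᵁ V.left.basicOpen f = P.left.basicOpen (τ.left.appTop.hom f) :=
      Scheme.preimage_basicOpen_top τ.left f
    rw [← h1, hYdef]
    rfl
  have hGood : ∀ y : ↥YO.left, y ∈ YO.left.basicOpen N ↔
      ∀ r : ↥P.left, π.left r = y → τ.left r ∈ Y := by
    intro y
    rw [hN]
    exact forall_congr' fun r => imp_congr Iff.rfl (hb r)
  have hsqpt : ∀ r : ↥P.left, Points.ofPt w (τ.left r) = Points.ofPt wY (π.left r) :=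
    fun r => ofPt_eq_of_isPullback sqY r
  obtain ⟨U', hU'def⟩ : ∃ U' : YO.left.Opens, U' = YO.left.basicOpen N := ⟨_, rfl⟩
  rw [← hU'def] at hGood
  have hU'aff : IsAffineOpen U' := by rw [hU'def]; exact (isAffineOpen_top YO.left).basicOpen N
  let U'O : Over S := opOver YO U'
  let ιU' : U'O ⟶ V := opι YO U' ≫ ιY
  haveI : IsAffine U'O.left := hU'aff
  haveI : IsOpenImmersion ιU'.left := by
    change IsOpenImmersion (U'.ι ≫ Y.ι)
    infer_instance
  have hrange : ∀ v : ↥V.left, v ∈ Set.range ιU'.left ↔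
      ∃ y : ↥YO.left, y ∈ U' ∧ ιY.left y = v := by
    intro v
    constructor
    · rintro ⟨u, rfl⟩
      exact ⟨U'.ι u, u.2, rfl⟩
    · rintro ⟨y, hy, rfl⟩
      exact ⟨⟨y, hy⟩, rfl⟩
  -- saturation
  have hsat : ∀ (v : ↥V.left) (y : ↥YO.left), y ∈ U' → Points.ofPt w v = Points.ofPt wY y →
      v ∈ Set.range ιU'.left := by
    intro v y hy hvy
    obtain ⟨r, hr1, hr2⟩ := exists_ofPt_eq_of_isPullback sqY v y hvy
    have hvY : v ∈ Y := hr1 ▸ (hGood y).1 hy r hr2
    obtain ⟨v', hv'⟩ := hιYsurj v hvY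
    refine (hrange v).2 ⟨v', (hGood v').2 ?_, hv'⟩
    intro r' hr'
    have e1 : Points.ofPt w (τ.left r') = Points.ofPt wY y := by
      rw [hsqpt r', hr', hwYpt, hv', hvy]
    obtain ⟨r'', h1, h2⟩ := exists_ofPt_eq_of_isPullback sqY (τ.left r') y e1
    have h3 := (hGood y).1 hy r'' h2
    rwa [h1] at h3
  -- `v₀` lies in `U'`
  have hv₀Y : v₀ ∈ Y := hOf (show Points.ofPt w v₀ = Points.ofPt w v₀ from rfl)
  obtain ⟨v₀', hv₀'⟩ := hιYsurj v₀ hv₀Y
  have hv₀U' : v₀' ∈ U' := (hGood v₀').2 (fun r hr => hOf (show Points.ofPt w (τ.left r) =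
    Points.ofPt w v₀ by rw [hsqpt r, hr, hwYpt, hv₀']))
  obtain ⟨a', ha'⟩ : ∃ a', a' = (yon S).map ιU' ≫ w := ⟨_, rfl⟩
  have ha'pt : ∀ u : ↥U'O.left, Points.ofPt a' u = Points.ofPt w (ιU'.left u) := by
    intro u
    rw [ha', ofPt_comp]
  have ha'et : RepWith @Etale a' := by
    rw [ha']
    exact repWith_comp _ ((repWith_yon_map_iff @Etale ιU').2 inferInstance) hwet
  obtain ⟨W'', hW''def⟩ : ∃ W'' : Set (Points X), W'' = Set.range (Points.ofPt a') := ⟨_, rfl⟩
  have hW''open : IsOpen W'' := by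
    rw [hW''def, ← Set.image_univ]
    exact isOpenMap_ofPt_of_etale a' ha'et _ isOpen_univ
  have hW''sub : W'' ⊆ Set.range (Points.ofPt w) := by
    rw [hW''def]
    rintro _ ⟨u, rfl⟩
    exact ⟨ιU'.left u, (ha'pt u).symm⟩
  have hv₀W'' : Points.ofPt w v₀ ∈ W'' := by
    obtain ⟨u₀, hu₀⟩ := (hrange v₀).2 ⟨v₀', hv₀U', hv₀'⟩
    rw [hW''def]
    exact ⟨u₀, by rw [ha'pt, hu₀]⟩
  have hW''deg : ∀ x ∈ W'', deg H x = m₀ := by
    rw [hW''def]
    rintro _ ⟨u, rfl⟩
    rw [ha'pt]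
    exact (hU₁ _).1 (hfU₁ (hιYmem (U'.ι u)))
  have hj := repWith_isOpenImmersion_openSubι (X := X) hW''open
  have hjrange := range_map_openSubι hX hW''open
  obtain ⟨a'', ha''j, ha''et, ha''surj⟩ := exists_factor_chart a' ha'et (openSubι X W'') hj
    (by rw [hjrange, hW''def])
  have ha''s : RepWith @Surjective a'' := ha''surj (by rw [hjrange, hW''def])
  haveI : Epi a'' := epi_of_atlas a'' ha''et ha''s
  haveI : Mono ((yon S).map ιU') := mono_of_openImmersion _
    ((repWith_yon_map_iff @IsOpenImmersion ιU').2 inferInstance)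
  have ha''fin : RepWith @IsFinite a'' := by
    apply MorphismProperty.relative.of_exists
    intro T g
    obtain ⟨g', hg'⟩ : ∃ g', g' = g ≫ openSubι X W'' := ⟨_, rfl⟩
    have hg'mem : ∀ t : ↥T.left, Points.ofPt g' t ∈ W'' := by
      intro t
      rw [hg']
      exact ofPt_comp_openSubι_mem g t
    obtain ⟨PT, τT, πT, sqT⟩ := exists_isPullback_yon H.rep g'
    have hdegT : ∀ t : ↥T.left, deg H (Points.ofPt g' t) = m₀ := fun t => hW''deg _ (hg'mem t)
    obtain ⟨⟨hfinT, -, -⟩, -⟩ := isFinLocFree_of_deg_eq H g' τT πT sqT m₀ hdegT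
    have hτT : ∀ r : ↥PT.left, τT.left r ∈ Set.range ιU'.left := by
      intro r
      have h1 : Points.ofPt w (τT.left r) = Points.ofPt g' (πT.left r) :=
        ofPt_eq_of_isPullback sqT r
      have h2 := hg'mem (πT.left r)
      rw [hW''def] at h2
      obtain ⟨u, hu⟩ := h2
      obtain ⟨y, hyU', hy⟩ := (hrange (ιU'.left u)).1 ⟨u, rfl⟩
      refine hsat _ y hyU' ?_
      rw [h1, ← hu, ha'pt, ← hy, hwYpt]
    let τ''₀ : PT.left ⟶ U'O.left := IsOpenImmersion.lift ιU'.left τT.left (by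
      rintro _ ⟨r, rfl⟩
      exact hτT r)
    have hτ''₀ : τ''₀ ≫ ιU'.left = τT.left := IsOpenImmersion.lift_fac _ _ _
    let τ'' : PT ⟶ U'O := Over.homMk τ''₀ (by
      rw [← Over.w ιU', ← Category.assoc, hτ''₀, Over.w τT])
    have hτ'' : τ'' ≫ ιU' = τT := Over.OverMorphism.ext hτ''₀
    have sq' : IsPullback ((yon S).map τ'') ((yon S).map πT) a' g' := by
      rw [ha']
      apply isPullback_of_comp_mono
      rw [← Functor.map_comp, hτ'']
      exact sqT
    refine ⟨PT, (yon S).map τ'', πT, ?_, hfinT⟩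
    rw [← ha''j, hg'] at sq'
    exact (isPullback_comp_mono_iff (openSubι X W'')).1 sq'
  obtain ⟨M, q, e, hM, -, -, -⟩ := exists_affine_quotient a'' ha''fin ha''et i (ιU'.left ≫ h₀)
    (by rw [Category.assoc, hh, Over.w ιU'])
  exact ⟨W'', hW''open, hv₀W'', hW''sub, M, hM, ⟨e⟩⟩

end Local

/-- The local statement for an affine open of the chart. -/
theorem exists_open_of_affineOpen {X : Sp S} (hX : IsAlgSpace X) {U : Over S}
    (a : (yon S).obj U ⟶ X) (hfin : RepWith @IsFinite a) (het : RepWith @Etale a)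
    (V : U.left.Opens) (hV : IsAffineOpen V) (hne : (V : Set ↥U.left).Nonempty)
    {Λ : CommRingCat.{u}} (i : Spec Λ ⟶ S) [Mono i] (h₀ : (V : Scheme.{u}) ⟶ Spec Λ)
    (hh : h₀ ≫ i = V.ι ≫ U.hom) :
    ∃ W'' : Set (Points X), IsOpen W'' ∧ W''.Nonempty ∧ W'' ⊆ Points.ofPt a '' (V : Set ↥U.left) ∧
      ∃ M : Over S, Nonempty ((yon S).obj M ≅ openSub X W'') := by
  let VO : Over S := opOver U V
  let j : VO ⟶ U := opι U V
  haveI : IsAffine VO.left := hV
  haveI : IsOpenImmersion j.left := inferInstanceAs (IsOpenImmersion V.ι)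
  obtain ⟨n, H⟩ := exists_hyp_restrict hX a hfin het j
  have hwet : RepWith @Etale ((yon S).map j ≫ a) :=
    repWith_comp _ ((repWith_yon_map_iff @Etale j).2 inferInstance) het
  obtain ⟨v₁, hv₁⟩ := hne
  have hne' : (Set.range fun v : ↥VO.left => deg H (Points.ofPt ((yon S).map j ≫ a) v)).Nonempty :=
    ⟨_, ⟨⟨v₁, hv₁⟩, rfl⟩⟩
  have hbdd : BddAbove (Set.range fun v : ↥VO.left =>
      deg H (Points.ofPt ((yon S).map j ≫ a) v)) :=
    ⟨n, by rintro _ ⟨v, rfl⟩; exact deg_le H _⟩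
  obtain ⟨v₀, hv₀⟩ := Nat.sSup_mem hne' hbdd
  have hmax : ∀ v : ↥VO.left, deg H (Points.ofPt ((yon S).map j ≫ a) v) ≤
      deg H (Points.ofPt ((yon S).map j ≫ a) v₀) := by
    intro v
    have h1 : deg H (Points.ofPt ((yon S).map j ≫ a) v₀) =
        sSup (Set.range fun v : ↥VO.left => deg H (Points.ofPt ((yon S).map j ≫ a) v)) := hv₀
    rw [h1]
    exact le_csSup hbdd ⟨v, rfl⟩
  obtain ⟨W'', h1, h2, h3, M, -, hM⟩ :=
    exists_affine_open_subspace hX hwet H i h₀ hh v₀ hmax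
  refine ⟨W'', h1, ⟨_, h2⟩, ?_, M, hM⟩
  intro x hx
  obtain ⟨v, rfl⟩ := h3 hx
  exact ⟨j.left v, v.2, (ofPt_comp j a v).symm⟩

/-- **A finite étale surjective chart gives a dense open subscheme.** -/
theorem exists_dense_open_subscheme (X : Space S) {U : Over S} (a : (yon S).obj U ⟶ X.obj)
    (hf : RepWith @IsFinite a) (he : RepWith @Etale a) (hs : RepWith @Surjective a) :
    ∃ (X' : Space S) (j : X' ⟶ X), RepWith @IsOpenImmersion j.hom ∧
      X'.obj.obj.IsRepresentable ∧ Dense (Set.range (Points.map j.hom)) := by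
  have hX := X.property
  let I : Type u := {V : U.left.Opens // ∃ W'' : Set (Points X.obj), IsOpen W'' ∧ W''.Nonempty ∧
    W'' ⊆ Points.ofPt a '' (V : Set ↥U.left) ∧
      ∃ M : Over S, Nonempty ((yon S).obj M ≅ openSub X.obj W'')}
  have hI : ∀ k : I, ∃ W'' : Set (Points X.obj), IsOpen W'' ∧ W''.Nonempty ∧
    W'' ⊆ Points.ofPt a '' (k.1 : Set ↥U.left) ∧
      ∃ M : Over S, Nonempty ((yon S).obj M ≅ openSub X.obj W'') := fun k => k.2
  choose W hWopen hWne hWsub M hM using hI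
  let 𝒲 : Set (Points X.obj) := ⋃ k, W k
  have h𝒲open : IsOpen 𝒲 := isOpen_iUnion hWopen
  haveI : Mono (openSubι X.obj 𝒲) := mono_openSubι X.obj 𝒲
  have h𝒲range := range_map_openSubι hX h𝒲open
  refine ⟨⟨openSub X.obj 𝒲, isAlgSpace_openSub hX h𝒲open⟩,
    ObjectProperty.homMk (openSubι X.obj 𝒲), repWith_isOpenImmersion_openSubι h𝒲open, ?_, ?_⟩
  · -- representability by gluing
    have e : ∀ k, (yon S).obj (M k) ≅ openSub X.obj (W k) := fun k => (hM k).some
    have hlift : ∀ k, ∃ f : (yon S).obj (M k) ⟶ openSub X.obj 𝒲,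
        f ≫ openSubι X.obj 𝒲 = (e k).hom ≫ openSubι X.obj (W k) := by
      intro k
      refine exists_lift_openSub _ (fun t => ?_)
      exact Set.mem_iUnion.2 ⟨k, ofPt_comp_openSubι_mem (e k).hom t⟩
    choose f hf' using hlift
    have hfo : ∀ k, RepWith @IsOpenImmersion (f k) := by
      intro k
      apply repWith_of_comp_mono @IsOpenImmersion (f k) (openSubι X.obj 𝒲)
      rw [hf' k]
      exact (MorphismProperty.cancel_left_of_respectsIso (RepWith @IsOpenImmersion) (e k).hom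
        (openSubι X.obj (W k))).2 (repWith_isOpenImmersion_openSubι (hWopen k))
    obtain ⟨Y', e', -, -, -, -⟩ := Groth.Agent.Lib.AlgSpGlue4H7.exists_iso_of_openCover_points
      f hfo (fun x => by
        have hx : Points.map (openSubι X.obj 𝒲) x ∈ 𝒲 := h𝒲range.subset ⟨x, rfl⟩
        obtain ⟨k, hk⟩ := Set.mem_iUnion.1 hx
        obtain ⟨xk, hxk⟩ := (range_map_openSubι hX (hWopen k)).ge hk
        refine ⟨k, Points.map (e k).inv xk, ?_⟩
        apply map_injective_of_mono (openSubι X.obj 𝒲)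
        rw [← Points.map_comp, ← Points.map_comp, hf' k, ← Category.assoc, Iso.inv_hom_id,
          Category.id_comp, hxk])
    exact ⟨⟨Y', ⟨AlgSp.representableByOfIso e'⟩⟩⟩
  · -- density
    change Dense (Set.range (Points.map (openSubι X.obj 𝒲)))
    rw [h𝒲range, dense_iff_inter_open]
    intro N hN hNne
    obtain ⟨x, hx⟩ := hNne
    obtain ⟨u, rfl⟩ := ofPt_surjective a hs x
    let N' : U.left.Opens := ⟨Points.ofPt a ⁻¹' N, Points.isOpen_iff.1 hN U a⟩
    obtain ⟨Ws, hWs, hsWs, -⟩ := exists_isAffineOpen_mem_and_subset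
      (x := U.hom u) (U := (⊤ : S.Opens)) trivial
    have huN : u ∈ N' ⊓ U.hom ⁻¹ᵁ Ws := ⟨hx, hsWs⟩
    obtain ⟨V, hV, huV, hVsub⟩ := exists_isAffineOpen_mem_and_subset huN
    have hrange : Set.range (V.ι ≫ U.hom) ⊆ Set.range hWs.fromSpec := by
      rw [hWs.range_fromSpec]
      rintro _ ⟨v, rfl⟩
      exact (hVsub v.2).2
    let h₀ : (V : Scheme.{u}) ⟶ Spec Γ(S, Ws) := IsOpenImmersion.lift hWs.fromSpec (V.ι ≫ U.hom) hrange
    have hh : h₀ ≫ hWs.fromSpec = V.ι ≫ U.hom := IsOpenImmersion.lift_fac _ _ _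
    obtain ⟨W'', h1, h2, h3, h4⟩ := exists_open_of_affineOpen hX a hf he V hV ⟨u, huV⟩
      hWs.fromSpec h₀ hh
    let k : I := ⟨V, W'', h1, h2, h3, h4⟩
    obtain ⟨y, hy⟩ := hWne k
    obtain ⟨v, hv, rfl⟩ := hWsub k hy
    exact ⟨_, (hVsub hv).1, Set.mem_iUnion.2 ⟨k, hy⟩⟩

end Groth.Agent.Lib.AlgSpFEtDenseH6
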