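import Groth.Agent.Lib.AlgSpCodim0_helper6

/-!
# Finite fibres of the relation `U ×_X U` over a pair of points above a monomorphic point (helper6)
-/

set_option autoImplicit false
universe u
open CategoryTheory CategoryTheory.Limits AlgebraicGeometry Opposite TopologicalSpace

namespace Groth.Agent.Lib.AlgSpRelFib_helper6

open AlgSp Groth.Agent.Lib.AlgSpPoints_helper7 Groth.Agent.Lib.AlgSpQC_helper7
  Groth.Agent.Lib.AlgSpPullback_helper7 Groth.Agent.Lib.AlgSpBasic_helper7
  Groth.Agent.Lib.AlgSpEtale_helper7 Groth.Agent.Lib.AlgSpDecent3_helper6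
  Groth.Agent.Lib.AlgSpFinFib_helper6

variable {S : Scheme.{u}}

theorem finite_relation_fibre_of_mono_point {X : Sp S} (hX : IsAlgSpace X) (p : FieldPt X)
    (hm : Mono p.toHom) {U : Over S} (φ : (yon S).obj U ⟶ X) (hφ : RepWith @Etale φ)
    (u u' : ↥U.left) (hu : Points.ofPt φ u = Points.mk p) (hu' : Points.ofPt φ u' = Points.mk p)
    (R : Over S) (s t : R ⟶ U) (sq : IsPullback ((yon S).map t) ((yon S).map s) φ φ) :
    {r : ↥R.left | s.left r = u ∧ t.left r = u'}.Finite := by
  have hrep : Representable p.toHom := hX.representable_from_yon _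
  let q := FieldPt.ofPt φ u
  let q' := FieldPt.ofPt φ u'
  obtain ⟨c, hc⟩ := exists_factor_of_mono p q hm hrep hu
  obtain ⟨c', hc'⟩ := exists_factor_of_mono p q' hm hrep hu'
  let ι : q.pt ⟶ U := Over.homMk (U.left.fromSpecResidueField u) rfl
  let ι' : q'.pt ⟶ U := Over.homMk (U.left.fromSpecResidueField u') rfl
  have hq : q.toHom = (yon S).map ι ≫ φ := FieldPt.toHom_ofPt φ u
  have hq' : q'.toHom = (yon S).map ι' ≫ φ := FieldPt.toHom_ofPt φ u'
  -- the scheme `E = Spec κ(u) ×_{Spec k} Spec κ(u')`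
  have RE := representable_yon_map (S := S) c
  let pr1 := RE.fst' ((yon S).map c')
  let pr2 := RE.snd ((yon S).map c')
  have sqE : IsPullback ((yon S).map pr1) ((yon S).map pr2) ((yon S).map c) ((yon S).map c') :=
    RE.isPullback' _
  have hw : (yon S).map (pr2 ≫ ι') ≫ φ = (yon S).map (pr1 ≫ ι) ≫ φ := by
    rw [Functor.map_comp, Functor.map_comp, Category.assoc, Category.assoc, ← hq, ← hq', ← hc,
      ← hc', ← Category.assoc, ← Category.assoc, sqE.w]
  obtain ⟨ℓ, hℓ⟩ := (yon S).map_surjective (sq.lift _ _ hw)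
  have hℓt : (yon S).map ℓ ≫ (yon S).map t = (yon S).map pr2 ≫ (yon S).map ι' := by
    rw [hℓ, sq.lift_fst, Functor.map_comp]
  have hℓs : (yon S).map ℓ ≫ (yon S).map s = (yon S).map pr1 ≫ (yon S).map ι := by
    rw [hℓ, sq.lift_snd, Functor.map_comp]
  -- compactness of `E`
  have sqE' : IsPullback pr1 pr2 c c' :=
    IsPullback.of_map (yon S) ((yon S).map_injective (by
      rw [Functor.map_comp, Functor.map_comp]; exact sqE.w)) sqE
  have sqE'' : IsPullback pr1.left pr2.left c.left c'.left := sqE'.map (Over.forget S)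
  haveI hcaff : IsAffineHom c.left := by
    change IsAffineHom (X := Spec (CommRingCat.of q.K)) (Y := Spec (CommRingCat.of p.K)) c.left
    infer_instance
  haveI : QuasiCompact c.left := inferInstance
  haveI : QuasiCompact pr2.left :=
    MorphismProperty.of_isPullback (P := @QuasiCompact) sqE'' inferInstance
  haveI : CompactSpace ↥q'.pt.left := by
    change CompactSpace ↥(Spec (CommRingCat.of q'.K))
    infer_instance
  haveI : CompactSpace ↥(RE.pullback ((yon S).map c')).left :=
    QuasiCompact.compactSpace_of_compactSpace pr2.left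
  have hC : IsCompact (Set.range ℓ.left) := isCompact_range ℓ.left.continuous
  haveI hs1 : Etale s.left := by
    have h1 : RepWith @Etale ((yon S).map s) := repWith_snd_of_isPullback _ sq hφ
    exact (repWith_yon_map_iff _ _).1 h1
  haveI : LocallyQuasiFinite s.left := locallyQuasiFinite_of_unramified s.left
  refine (finite_inter_preimage_of_isCompact s.left _ hC u).subset ?_
  rintro r ⟨hr1, hr2⟩
  refine ⟨?_, hr1⟩
  -- the point `r` lifts to `E`
  have sq1 := IsPullback.of_hasPullback ((yon S).map ι) ((yon S).map s)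
  have h1 : Points.map ((yon S).map ι) (Points.ofScheme q.pt (IsLocalRing.closedPoint q.K)) =
      Points.map ((yon S).map s) (Points.ofScheme R r) := by
    rw [← Points.ofPt_eq_map_ofScheme, ← Points.ofPt_eq_map_ofScheme, ofPt_yon_map, ofPt_yon_map,
      hr1]
    congr 1
    exact Scheme.fromSpecResidueField_apply _ _
  obtain ⟨g1, hg1a, hg1b⟩ := exists_of_isPullback sq1 _ _ h1
  have sq2 := IsPullback.of_hasPullback
    (pullback.snd ((yon S).map ι) ((yon S).map s) ≫ (yon S).map t) ((yon S).map ι')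
  have h2 : Points.map (pullback.snd ((yon S).map ι) ((yon S).map s) ≫ (yon S).map t) g1 =
      Points.map ((yon S).map ι') (Points.ofScheme q'.pt (IsLocalRing.closedPoint q'.K)) := by
    rw [Points.map_comp, hg1b, ← Points.ofPt_eq_map_ofScheme, ← Points.ofPt_eq_map_ofScheme,
      ofPt_yon_map, ofPt_yon_map, hr2]
    congr 1
    exact (Scheme.fromSpecResidueField_apply _ _).symm
  obtain ⟨g2, hg2a, hg2b⟩ := exists_of_isPullback sq2 _ _ h2
  let G2fst := pullback.fst
    (pullback.snd ((yon S).map ι) ((yon S).map s) ≫ (yon S).map t) ((yon S).map ι')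
  let G2snd := pullback.snd
    (pullback.snd ((yon S).map ι) ((yon S).map s) ≫ (yon S).map t) ((yon S).map ι')
  let G1fst := pullback.fst ((yon S).map ι) ((yon S).map s)
  let G1snd := pullback.snd ((yon S).map ι) ((yon S).map s)
  have w1 : G1fst ≫ (yon S).map ι = G1snd ≫ (yon S).map s := sq1.w
  have w2 : G2fst ≫ G1snd ≫ (yon S).map t = G2snd ≫ (yon S).map ι' := sq2.w
  have ha : (G2fst ≫ G1fst) ≫ (yon S).map c = G2snd ≫ (yon S).map c' := by
    haveI := hm
    rw [← cancel_mono p.toHom]
    simp only [Category.assoc]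
    rw [hc, hc', hq, hq', ← Category.assoc G1fst, w1, ← Category.assoc G2snd, ← w2]
    simp only [Category.assoc]
    rw [sq.w]
  let k := sqE.lift (G2fst ≫ G1fst) G2snd ha
  have hk1 : k ≫ (yon S).map pr1 = G2fst ≫ G1fst := sqE.lift_fst _ _ _
  have hk2 : k ≫ (yon S).map pr2 = G2snd := sqE.lift_snd _ _ _
  have hk : k ≫ (yon S).map ℓ = G2fst ≫ G1snd := by
    apply sq.hom_ext
    · rw [Category.assoc, hℓt, ← Category.assoc, hk2, Category.assoc, w2]
    · rw [Category.assoc, hℓs, ← Category.assoc, hk1, Category.assoc, Category.assoc, w1]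
  obtain ⟨e, he⟩ := ofScheme_surjective _ (Points.map k g2)
  refine ⟨e, ?_⟩
  apply ofScheme_injective R
  rw [← ofPt_yon_map, Points.ofPt_eq_map_ofScheme, he, ← Points.map_comp, hk, Points.map_comp,
    hg2a, hg1b]

end Groth.Agent.Lib.AlgSpRelFib_helper6
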