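import Groth.Agent.Lib.AlgSpField_helper7
import Groth.Agent.Lib.AlgSpDescent2_helper7

/-!
# Topological arguments on the space of points (helper7)
-/

set_option autoImplicit false
universe u
open CategoryTheory CategoryTheory.Limits AlgebraicGeometry Opposite

namespace Groth.Agent.Lib.AlgSpTop_helper7

open AlgSp Groth.Agent.Lib.AlgSpPoints_helper7 Groth.Agent.Lib.AlgSpQC_helper7
  Groth.Agent.Lib.AlgSpUniv_helper7

variable {S : Scheme.{u}}

/-- Base change formula on points for an arbitrary pullback square of sheaves. -/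
theorem preimage_map_image_map {P F G H : Sp S} {fst : P ⟶ F} {snd : P ⟶ G} {f : F ⟶ H}
    {g : G ⟶ H} (sq : IsPullback fst snd f g) (W : Set (Points F)) :
    Points.map g ⁻¹' (Points.map f '' W) = Points.map snd '' (Points.map fst ⁻¹' W) := by
  ext y
  constructor
  · rintro ⟨x, hx, h⟩
    obtain ⟨z, hz1, hz2⟩ := exists_of_isPullback sq x y h
    exact ⟨z, by rw [Set.mem_preimage, hz1]; exact hx, hz2⟩
  · rintro ⟨z, hz, rfl⟩
    refine ⟨Points.map fst z, hz, ?_⟩
    rw [← Points.map_comp, sq.w, Points.map_comp]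

theorem ofPt_preimage_eq {F : Sp S} {T : Over S} (g : (yon S).obj T ⟶ F) (A : Set (Points F)) :
    Points.ofPt g ⁻¹' A = Points.ofScheme T ⁻¹' (Points.map g ⁻¹' A) := by
  ext t
  simp only [Set.mem_preimage]
  rw [Points.ofPt_eq_map_ofScheme]

theorem continuous_ofScheme (T : Over S) : Continuous (Points.ofScheme T) :=
  Points.continuous_ofPt _

/-- A set of points is open as soon as its preimages under a jointly surjective family of étale
charts are. -/
theorem isOpen_of_forall_chart {Z : Sp S} {ι : Type*} (T : ι → Over S)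
    (r : ∀ i, (yon S).obj (T i) ⟶ Z) (hr : ∀ i, RepWith @Etale (r i))
    (hs : ∀ z : Points Z, ∃ (i : ι) (t : ↥(T i).left), Points.ofPt (r i) t = z)
    (A : Set (Points Z)) (hA : ∀ i, IsOpen (Points.ofPt (r i) ⁻¹' A)) : IsOpen A := by
  have : A = ⋃ i, Points.ofPt (r i) '' (Points.ofPt (r i) ⁻¹' A) := by
    ext z
    simp only [Set.mem_iUnion, Set.mem_image, Set.mem_preimage]
    constructor
    · intro hz
      obtain ⟨i, t, rfl⟩ := hs z
      exact ⟨i, t, hz, rfl⟩
    · rintro ⟨i, t, ht, rfl⟩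
      exact ht
  rw [this]
  exact isOpen_iUnion fun i => isOpenMap_ofPt_of_etale (r i) (hr i) _ (hA i)

theorem isClosed_of_forall_chart {Z : Sp S} {ι : Type*} (T : ι → Over S)
    (r : ∀ i, (yon S).obj (T i) ⟶ Z) (hr : ∀ i, RepWith @Etale (r i))
    (hs : ∀ z : Points Z, ∃ (i : ι) (t : ↥(T i).left), Points.ofPt (r i) t = z)
    (A : Set (Points Z)) (hA : ∀ i, IsClosed (Points.ofPt (r i) ⁻¹' A)) : IsClosed A := by
  rw [← isOpen_compl_iff]
  apply isOpen_of_forall_chart T r hr hs
  intro i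
  rw [Set.preimage_compl, isOpen_compl_iff]
  exact hA i

/-- A morphism is open on points if its base changes to a jointly surjective family of étale
charts of the target are. -/
theorem isOpenMap_map_of_charts {Z' Z : Sp S} (q : Z' ⟶ Z) {ι : Type*} (T : ι → Over S)
    (r : ∀ i, (yon S).obj (T i) ⟶ Z) (hr : ∀ i, RepWith @Etale (r i))
    (hs : ∀ z : Points Z, ∃ (i : ι) (t : ↥(T i).left), Points.ofPt (r i) t = z)
    (h : ∀ i, ∃ (P : Sp S) (fst : P ⟶ Z') (snd : P ⟶ (yon S).obj (T i)),
      IsPullback fst snd q (r i) ∧ IsOpenMap (Points.map snd)) :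
    IsOpenMap (Points.map q) := by
  intro W hW
  apply isOpen_of_forall_chart T r hr hs
  intro i
  obtain ⟨P, fst, snd, sq, ho⟩ := h i
  rw [ofPt_preimage_eq, preimage_map_image_map sq]
  exact (ho _ (hW.preimage (Points.continuous_map fst))).preimage (continuous_ofScheme _)

theorem isClosedMap_map_of_charts {Z' Z : Sp S} (q : Z' ⟶ Z) {ι : Type*} (T : ι → Over S)
    (r : ∀ i, (yon S).obj (T i) ⟶ Z) (hr : ∀ i, RepWith @Etale (r i))
    (hs : ∀ z : Points Z, ∃ (i : ι) (t : ↥(T i).left), Points.ofPt (r i) t = z)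
    (h : ∀ i, ∃ (P : Sp S) (fst : P ⟶ Z') (snd : P ⟶ (yon S).obj (T i)),
      IsPullback fst snd q (r i) ∧ IsClosedMap (Points.map snd)) :
    IsClosedMap (Points.map q) := by
  intro W hW
  apply isClosed_of_forall_chart T r hr hs
  intro i
  obtain ⟨P, fst, snd, sq, ho⟩ := h i
  rw [ofPt_preimage_eq, preimage_map_image_map sq]
  exact (ho _ (hW.preimage (Points.continuous_map fst))).preimage (continuous_ofScheme _)

/-- The affine charts of an algebraic space: a jointly surjective family of étale charts from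
affine schemes. -/
theorem exists_affine_charts {Z : Sp S} (hZ : IsAlgSpace Z) :
    ∃ (ι : Type u) (T : ι → Over S) (r : ∀ i, (yon S).obj (T i) ⟶ Z),
      (∀ i, IsAffine (T i).left) ∧ (∀ i, RepWith @Etale (r i)) ∧
      ∀ z : Points Z, ∃ (i : ι) (t : ↥(T i).left), Points.ofPt (r i) t = z := by
  obtain ⟨U, p, hpe, hps⟩ := hZ.atlas
  let 𝒰 := U.left.affineCover
  let T : 𝒰.I₀ → Over S := fun i => Over.mk (𝒰.f i ≫ U.hom)
  let j : ∀ i, T i ⟶ U := fun i => Over.homMk (𝒰.f i) rfl
  refine ⟨𝒰.I₀, T, fun i => (yon S).map (j i) ≫ p, fun i => ?_, fun i => ?_, fun z => ?_⟩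
  · dsimp [T]; infer_instance
  · have h1 : RepWith @Etale ((yon S).map (j i)) := by
      rw [repWith_yon_map_iff]
      change Etale (𝒰.f i)
      infer_instance
    exact Groth.Agent.Lib.AlgSpPullback_helper7.repWith_comp _ h1 hpe
  · obtain ⟨u, rfl⟩ := ofPt_surjective p hps z
    obtain ⟨i, t, rfl⟩ := 𝒰.exists_eq u
    exact ⟨i, t, ofPt_comp (j i) p t⟩

/-- Universal openness can be tested on affine schemes over the target. -/
theorem isUnivOpenMor_of_forall_affine {X Y : Sp S} (f : X ⟶ Y)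
    (h : ∀ (Z : Over S), IsAffine Z.left → ∀ (g : (yon S).obj Z ⟶ Y) (P : Sp S)
        (fst : P ⟶ X) (snd : P ⟶ (yon S).obj Z), IsPullback fst snd f g →
        IsOpenMap (Points.map snd)) : IsUnivOpenMor f := by
  intro Z Z' hZ g fst snd sq
  obtain ⟨ι, T, r, hT, hr, hs⟩ := exists_affine_charts hZ
  refine isOpenMap_map_of_charts snd T r hr hs fun i => ?_
  have sq' := IsPullback.of_hasPullback snd (r i)
  exact ⟨_, _, _, sq', h (T i) (hT i) (r i ≫ g) _ _ _ (sq'.flip.paste_vert sq.flip).flip⟩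

theorem isUnivClosedMor_of_forall_affine {X Y : Sp S} (f : X ⟶ Y)
    (h : ∀ (Z : Over S), IsAffine Z.left → ∀ (g : (yon S).obj Z ⟶ Y) (P : Sp S)
        (fst : P ⟶ X) (snd : P ⟶ (yon S).obj Z), IsPullback fst snd f g →
        IsClosedMap (Points.map snd)) : IsUnivClosedMor f := by
  intro Z Z' hZ g fst snd sq
  obtain ⟨ι, T, r, hT, hr, hs⟩ := exists_affine_charts hZ
  refine isClosedMap_map_of_charts snd T r hr hs fun i => ?_
  have sq' := IsPullback.of_hasPullback snd (r i)
  exact ⟨_, _, _, sq', h (T i) (hT i) (r i ≫ g) _ _ _ (sq'.flip.paste_vert sq.flip).flip⟩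

open Groth.Agent.Lib.AlgSpPullback_helper7 in
/-- Given a surjective étale chart `h_V ⟶ Y` and a base change `Z' ⟶ Z` of `f : X ⟶ Y` to an
algebraic space `Z`, there is a surjective étale chart `h_U' ⟶ Z` over which the base change of
`Z' ⟶ Z` is also a base change of `P = X ×_Y h_V ⟶ h_V`. -/
theorem exists_chart_baseChange {X Y : Sp S} (hY : IsAlgSpace Y) (f : X ⟶ Y) {V : Over S}
    (p : (yon S).obj V ⟶ Y) (hp : RepWith @Etale p) (hps : RepWith @Surjective p) {P : Sp S}
    {fst : P ⟶ X} {snd : P ⟶ (yon S).obj V} (sq : IsPullback fst snd f p) {Z Z' : Sp S}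
    (hZ : IsAlgSpace Z) (g : Z ⟶ Y) (fst' : Z' ⟶ X) (q : Z' ⟶ Z) (sq' : IsPullback fst' q f g) :
    ∃ (U' : Over S) (r : (yon S).obj U' ⟶ Z) (c : (yon S).obj U' ⟶ (yon S).obj V),
      RepWith @Etale r ∧ RepWith @Surjective r ∧
      ∃ (P' : Sp S) (k : P' ⟶ Z') (snd' : P' ⟶ (yon S).obj U') (l : P' ⟶ P),
        IsPullback k snd' q r ∧ IsPullback l snd' snd c := by
  have sqZ := IsPullback.of_hasPullback g p
  have hZV : IsAlgSpace (pullback g p) :=
    isAlgSpace_of_isPullback hY.diag hZ (IsAlgSpace.yon_obj V) sqZ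
  obtain ⟨U', a, hae, has⟩ := hZV.atlas
  have h1e := repWith_fst_of_isPullback _ sqZ hp
  have h1s := repWith_fst_of_isPullback _ sqZ hps
  refine ⟨U', a ≫ pullback.fst g p, a ≫ pullback.snd g p, repWith_comp _ hae h1e,
    repWith_comp _ has h1s, pullback q (a ≫ pullback.fst g p), pullback.fst _ _, pullback.snd _ _,
    ?_, IsPullback.of_hasPullback _ _, ?_⟩
  · refine sq.lift (pullback.fst q (a ≫ pullback.fst g p) ≫ fst')
      (pullback.snd q (a ≫ pullback.fst g p) ≫ a ≫ pullback.snd g p) ?_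
    rw [Category.assoc, sq'.w, ← Category.assoc, pullback.condition, Category.assoc,
      Category.assoc, Category.assoc, Category.assoc, pullback.condition]
  · have big := ((IsPullback.of_hasPullback q (a ≫ pullback.fst g p)).flip.paste_vert
      sq'.flip).flip
    have e : (a ≫ pullback.fst g p) ≫ g = (a ≫ pullback.snd g p) ≫ p := by
      rw [Category.assoc, Category.assoc, pullback.condition]
    rw [e] at big
    exact IsPullback.of_right (by rw [sq.lift_fst]; exact big) (sq.lift_snd _ _ _) sq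

theorem isUnivOpenMor_of_chart {X Y : Sp S} (hY : IsAlgSpace Y) (f : X ⟶ Y) {V : Over S}
    (p : (yon S).obj V ⟶ Y) (hp : RepWith @Etale p) (hps : RepWith @Surjective p) {P : Sp S}
    {fst : P ⟶ X} {snd : P ⟶ (yon S).obj V} (sq : IsPullback fst snd f p)
    (h : IsUnivOpenMor snd) : IsUnivOpenMor f := by
  intro Z Z' hZ g fst' q sq'
  obtain ⟨U', r, c, hre, hrs, P', k, snd', l, sq1, sq2⟩ :=
    exists_chart_baseChange hY f p hp hps sq hZ g fst' q sq'
  refine isOpenMap_map_of_charts q (fun _ : Unit => U') (fun _ => r) (fun _ => hre)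
    (fun z => ?_) (fun _ => ⟨P', k, snd', sq1, h (IsAlgSpace.yon_obj U') c l snd' sq2⟩)
  obtain ⟨t, rfl⟩ := ofPt_surjective r hrs z
  exact ⟨(), t, rfl⟩

theorem isUnivClosedMor_of_chart {X Y : Sp S} (hY : IsAlgSpace Y) (f : X ⟶ Y) {V : Over S}
    (p : (yon S).obj V ⟶ Y) (hp : RepWith @Etale p) (hps : RepWith @Surjective p) {P : Sp S}
    {fst : P ⟶ X} {snd : P ⟶ (yon S).obj V} (sq : IsPullback fst snd f p)
    (h : IsUnivClosedMor snd) : IsUnivClosedMor f := by
  intro Z Z' hZ g fst' q sq'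
  obtain ⟨U', r, c, hre, hrs, P', k, snd', l, sq1, sq2⟩ :=
    exists_chart_baseChange hY f p hp hps sq hZ g fst' q sq'
  refine isClosedMap_map_of_charts q (fun _ : Unit => U') (fun _ => r) (fun _ => hre)
    (fun z => ?_) (fun _ => ⟨P', k, snd', sq1, h (IsAlgSpace.yon_obj U') c l snd' sq2⟩)
  obtain ⟨t, rfl⟩ := ofPt_surjective r hrs z
  exact ⟨(), t, rfl⟩

/-- A morphism all of whose represented base changes are isomorphisms is an isomorphism. -/
theorem isIso_of_repWith_isomorphisms {A B : Sp S} (g : A ⟶ B)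
    (h : RepWith (MorphismProperty.isomorphisms Scheme.{u}) g) : IsIso g := by
  have hm : Mono g := Groth.Agent.Lib.AlgSpBasic_helper7.mono_of_repWith_le_mono
    (fun _ _ k (hk : IsIso k) => (inferInstance : Mono k)) g h
  apply Groth.Agent.Lib.AlgSpPullback_helper7.isIso_of_bijective_comp
  intro T
  refine ⟨fun a b hab => (cancel_mono g).1 hab, fun b => ?_⟩
  have hi : IsIso (h.rep.snd b).left := h.property_snd b
  have hi' : IsIso (h.rep.snd b) := by
    have : IsIso ((Over.forget S).map (h.rep.snd b)) := hi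
    exact isIso_of_reflects_iso _ (Over.forget S)
  refine ⟨(yon S).map (inv (h.rep.snd b)) ≫ h.rep.fst b, ?_⟩
  change ((yon S).map (inv (h.rep.snd b)) ≫ h.rep.fst b) ≫ g = b
  rw [Category.assoc, h.rep.w, ← Category.assoc, ← Functor.map_comp, IsIso.inv_hom_id,
    CategoryTheory.Functor.map_id, Category.id_comp]

/-- Being a monomorphism descends along a surjective étale chart of the target. -/
theorem mono_of_chart {X Y : Sp S} (hX : IsAlgSpace X) (hY : IsAlgSpace Y) (f : X ⟶ Y)
    {V : Over S} (p : (yon S).obj V ⟶ Y) (hp : RepWith @Etale p) (hps : RepWith @Surjective p)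
    {P : Sp S} (fst : P ⟶ X) (snd : P ⟶ (yon S).obj V) (sq : IsPullback fst snd f p)
    [Mono snd] : Mono f := by
  have : IsIso (pullback.diagonal snd) := (pullback.isIso_diagonal_iff snd).2 inferInstance
  have h1 : RepWith (MorphismProperty.isomorphisms Scheme.{u}) (pullback.diagonal snd) :=
    Groth.Agent.Lib.AlgSpBasic_helper7.repWith_of_isIso _ _
  have h2 := Groth.Agent.Lib.AlgSpDescent2_helper7.repWith_diagonal_of_chart _
    (Groth.Agent.Lib.AlgSpDescent_helper7.descendsEtale_of_descendsAlong _) hX hY f p hp hps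
    fst snd sq h1
  have := isIso_of_repWith_isomorphisms _ h2
  exact (pullback.isIso_diagonal_iff f).1 this

theorem image_map_eq_of_surjective {W' Z' Z : Sp S} (a' : W' ⟶ Z') (q : Z' ⟶ Z)
    (ha : IsSurjectiveMor a') (O : Set (Points Z')) :
    Points.map q '' O = Points.map (a' ≫ q) '' (Points.map a' ⁻¹' O) := by
  ext z
  constructor
  · rintro ⟨x, hx, rfl⟩
    obtain ⟨w, rfl⟩ := ha x
    exact ⟨w, hx, Points.map_comp _ _ _⟩
  · rintro ⟨w, hw, rfl⟩
    exact ⟨Points.map a' w, hw, (Points.map_comp _ _ _).symm⟩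

/-- If `a` is representable surjective and `a ≫ p` is universally open, so is `p`. -/
theorem isUnivOpenMor_of_comp_surjective {W X Y : Sp S} (a : W ⟶ X) (p : X ⟶ Y)
    (ha : RepWith @Surjective a) (h : IsUnivOpenMor (a ≫ p)) : IsUnivOpenMor p := by
  intro Z Z' hZ g fst snd sq
  have sqa := IsPullback.of_hasPullback a fst
  have hs := isSurjectiveMor_of_repWith _ (repWith_snd_of_isPullback _ sqa ha)
  have ho := h hZ g _ _ (sqa.paste_vert sq)
  intro O hO
  rw [image_map_eq_of_surjective _ snd hs]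
  exact ho _ (hO.preimage (Points.continuous_map _))

theorem isUnivClosedMor_of_comp_surjective {W X Y : Sp S} (a : W ⟶ X) (p : X ⟶ Y)
    (ha : RepWith @Surjective a) (h : IsUnivClosedMor (a ≫ p)) : IsUnivClosedMor p := by
  intro Z Z' hZ g fst snd sq
  have sqa := IsPullback.of_hasPullback a fst
  have hs := isSurjectiveMor_of_repWith _ (repWith_snd_of_isPullback _ sqa ha)
  have ho := h hZ g _ _ (sqa.paste_vert sq)
  intro O hO
  rw [image_map_eq_of_surjective _ snd hs]
  exact ho _ (hO.preimage (Points.continuous_map _))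

/-- A morphism from an algebraic space to the spectrum of a field is universally open. -/
theorem isUnivOpenMor_to_field {X : Sp S} (hX : IsAlgSpace X) {k : Type u} [Field k]
    (str : Spec (CommRingCat.of k) ⟶ S) (p : X ⟶ (yon S).obj (Over.mk str)) :
    IsUnivOpenMor p := by
  obtain ⟨U, a, hae, has⟩ := hX.atlas
  apply isUnivOpenMor_of_comp_surjective a p has
  obtain ⟨φ, hφ⟩ := (yon S).map_surjective (a ≫ p)
  rw [← hφ]
  apply (repWith_universallyOpen_iff _ (representable_yon_map φ)).1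
  rw [repWith_yon_map_iff]
  let ψ : U.left ⟶ Spec (CommRingCat.of k) := φ.left
  exact (inferInstance : UniversallyOpen ψ)

end Groth.Agent.Lib.AlgSpTop_helper7
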