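import Groth.Agent.Lib.FieldQuot3_helper6
import Groth.Agent.Lib.AlgSpRelFib_helper6
import Groth.Agent.Lib.AlgSpUniv_helper7
import Groth.Agent.Lib.AlgSpTop_helper7

/-!
# Finite fibres over a point and quasi-compact monomorphic representatives (helper6)
-/

set_option autoImplicit false
universe u
open CategoryTheory CategoryTheory.Limits AlgebraicGeometry Opposite TensorProduct

namespace Groth.Agent.Lib.FieldQuot4H6

open AlgSp Groth.Agent.Lib.FieldQuot2H6 Groth.Agent.Lib.FieldQuot3H6
  Groth.Agent.Lib.AlgSpPoints_helper7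
  Groth.Agent.Lib.AlgSpQC_helper7 Groth.Agent.Lib.AlgSpQC2_helper7
  Groth.Agent.Lib.AlgSpPullback_helper7 Groth.Agent.Lib.AlgSpDecent4_helper6
  Groth.Agent.Lib.AlgSpField_helper7 Groth.Agent.Lib.AlgSpRelFib_helper6
  Groth.Agent.Lib.AlgSpUniv_helper7 Groth.Agent.Lib.AlgSpTop_helper7

variable {S : Scheme.{u}}

/-- A quasi-compact scheme étale over a field is finite. -/
theorem finite_of_etale_of_compactSpace (K : Type u) [Field K] {Y : Scheme.{u}}
    (ψ : Y ⟶ Spec (CommRingCat.of K)) [Etale ψ] [CompactSpace ↥Y] : Finite ↥Y := by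
  haveI : DiscreteTopology Y := by
    rw [discreteTopology_iff_isOpen_singleton]
    intro x
    haveI := Groth.Agent.Lib.EtaleFieldH4.isOpenImmersion_fromSpecResidueField K ψ x
    have h := (Y.fromSpecResidueField x).isOpenEmbedding.isOpen_range
    rwa [Scheme.range_fromSpecResidueField] at h
  exact finite_of_compact_of_discrete

/-- Monomorphisms of schemes over `S` are injective on points. -/
lemma injective_left_of_mono {A B : Over S} (m : A ⟶ B) [Mono m] : Function.Injective m.left := by
  haveI : Mono m.left := inferInstance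
  have : UniversallyInjective m.left := inferInstance
  exact m.left.injective

/-- A point of an étale chart with finite fibre of the relation over `(u, u')` is represented by
a monomorphism from the spectrum of a field. -/
theorem exists_mono_point_of_finite {X : Sp S} (hX : IsAlgSpace X) {U : Over S}
    (φ : (yon S).obj U ⟶ X) (hφ : RepWith @Etale φ) (u u' : ↥U.left)
    (he : Points.ofPt φ u = Points.ofPt φ u') {R : Over S} (s t : R ⟶ U)
    (sqR : IsPullback ((yon S).map t) ((yon S).map s) φ φ)
    (hR : {r : ↥R.left | s.left r = u ∧ t.left r = u'}.Finite) :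
    ∃ p : FieldPt X, Points.mk p = Points.ofPt φ u ∧ Mono p.toHom ∧
      (RepWith @QuasiCompact (FieldPt.ofPt φ u).toHom → RepWith @QuasiCompact p.toHom) := by
  have hrep := hX.representable_from_yon (FieldPt.ofPt φ u).toHom
  have sq := hrep.isPullback' (FieldPt.ofPt φ u').toHom
  let ι₁ : (FieldPt.ofPt φ u).pt ⟶ U := Over.homMk (U.left.fromSpecResidueField u) rfl
  let ι₂ : (FieldPt.ofPt φ u').pt ⟶ U := Over.homMk (U.left.fromSpecResidueField u') rfl
  have hq₁ : (FieldPt.ofPt φ u).toHom = (yon S).map ι₁ ≫ φ := FieldPt.toHom_ofPt φ u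
  have hq₂ : (FieldPt.ofPt φ u').toHom = (yon S).map ι₂ ≫ φ := FieldPt.toHom_ofPt φ u'
  haveI hm1 : Mono ι₁ := by
    have h1 : Mono ι₁.left := by
      change Mono (U.left.fromSpecResidueField u)
      infer_instance
    exact (Over.forget S).mono_of_mono_map h1
  haveI hm2 : Mono ι₂ := by
    have h1 : Mono ι₂.left := by
      change Mono (U.left.fromSpecResidueField u')
      infer_instance
    exact (Over.forget S).mono_of_mono_map h1
  have hw : (yon S).map (hrep.snd (FieldPt.ofPt φ u').toHom ≫ ι₂) ≫ φ =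
      (yon S).map (hrep.fst' (FieldPt.ofPt φ u').toHom ≫ ι₁) ≫ φ := by
    rw [Functor.map_comp, Functor.map_comp, Category.assoc, Category.assoc, ← hq₁, ← hq₂]
    exact sq.w.symm
  obtain ⟨ℓ, hℓ⟩ := (yon S).map_surjective (sqR.lift _ _ hw)
  have hℓt : ℓ ≫ t = hrep.snd (FieldPt.ofPt φ u').toHom ≫ ι₂ :=
    (yon S).map_injective (by rw [Functor.map_comp, hℓ, sqR.lift_fst])
  have hℓs : ℓ ≫ s = hrep.fst' (FieldPt.ofPt φ u').toHom ≫ ι₁ :=
    (yon S).map_injective (by rw [Functor.map_comp, hℓ, sqR.lift_snd])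
  haveI hmono : Mono ℓ := by
    refine ⟨fun {Z} x y hxy => ?_⟩
    apply (yon S).map_injective
    apply sq.hom_ext
    · have h3 : (x ≫ hrep.fst' (FieldPt.ofPt φ u').toHom) ≫ ι₁ =
          (y ≫ hrep.fst' (FieldPt.ofPt φ u').toHom) ≫ ι₁ := by
        rw [Category.assoc, Category.assoc, ← hℓs, ← Category.assoc, ← Category.assoc, hxy]
      rw [← Functor.map_comp, ← Functor.map_comp, (cancel_mono ι₁).1 h3]
    · have h3 : (x ≫ hrep.snd (FieldPt.ofPt φ u').toHom) ≫ ι₂ =
          (y ≫ hrep.snd (FieldPt.ofPt φ u').toHom) ≫ ι₂ := by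
        rw [Category.assoc, Category.assoc, ← hℓt, ← Category.assoc, ← Category.assoc, hxy]
      rw [← Functor.map_comp, ← Functor.map_comp, (cancel_mono ι₂).1 h3]
  have hinj : Function.Injective ℓ.left := injective_left_of_mono ℓ
  have hfinG : Finite ↥(hrep.pullback (FieldPt.ofPt φ u').toHom).left := by
    have h1 : Set.Finite (Set.univ : Set ↥(hrep.pullback (FieldPt.ofPt φ u').toHom).left) := by
      have hmaps : Set.MapsTo ℓ.left Set.univ {r : ↥R.left | s.left r = u ∧ t.left r = u'} := by
        intro g _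
        refine ⟨?_, ?_⟩
        · have e1 : s.left (ℓ.left g) = (ℓ ≫ s).left g := rfl
          rw [e1, hℓs]
          exact Scheme.fromSpecResidueField_apply u _
        · have e1 : t.left (ℓ.left g) = (ℓ ≫ t).left g := rfl
          rw [e1, hℓt]
          exact Scheme.fromSpecResidueField_apply u' _
      exact Set.Finite.of_injOn hmaps hinj.injOn hR
    exact Set.finite_univ_iff.1 h1
  exact exists_mono_point hX φ hφ u u' he _ _ sq inferInstance

/-- The fibre of a quasi-compact étale chart over a quasi-compact field point is finite. -/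
theorem finite_fibre_of_qc {X : Sp S} (p : FieldPt X)
    (hq : RepWith @QuasiCompact p.toHom) {U : Over S} [CompactSpace ↥U.left]
    (φ : (yon S).obj U ⟶ X) (hφ : RepWith @Etale φ) :
    (Points.ofPt φ ⁻¹' {Points.mk p}).Finite := by
  have sqP := hφ.rep.isPullback' p.toHom
  haveI : Etale (hφ.rep.snd p.toHom).left := hφ.property_snd p.toHom
  haveI : QuasiCompact (hφ.rep.fst' p.toHom).left := hq.property _ _ _ sqP.flip
  haveI : CompactSpace ↥(hφ.rep.pullback p.toHom).left :=
    QuasiCompact.compactSpace_of_compactSpace (hφ.rep.fst' p.toHom).left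
  haveI : Finite ↥(hφ.rep.pullback p.toHom).left :=
    finite_of_etale_of_compactSpace p.K
      ((hφ.rep.snd p.toHom).left : _ ⟶ Spec (CommRingCat.of p.K))
  refine (Set.finite_range (hφ.rep.fst' p.toHom).left).subset ?_
  intro u hu
  obtain ⟨s₀⟩ := nonempty_spec_field p.K
  have h : Points.ofPt φ u = Points.ofPt p.toHom s₀ := by
    rw [Points.ofPt_toHom]; exact hu
  obtain ⟨v, hv, -⟩ := exists_ofPt_eq_of_isPullback sqP u s₀ h
  exact ⟨v, hv⟩

/-- The fibre of the relation over a monomorphic point with finite fibre in the chart. -/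
theorem finite_relation_total_fibre {X : Sp S} (hX : IsAlgSpace X) (p : FieldPt X)
    (hm : Mono p.toHom) {U : Over S} (φ : (yon S).obj U ⟶ X) (hφ : RepWith @Etale φ)
    (hU : (Points.ofPt φ ⁻¹' {Points.mk p}).Finite) {R : Over S} (s t : R ⟶ U)
    (sq : IsPullback ((yon S).map t) ((yon S).map s) φ φ) :
    (Points.ofPt ((yon S).map t ≫ φ) ⁻¹' {Points.mk p}).Finite := by
  have hsub : Points.ofPt ((yon S).map t ≫ φ) ⁻¹' {Points.mk p} ⊆
      ⋃ u ∈ (Points.ofPt φ ⁻¹' {Points.mk p}), ⋃ u' ∈ (Points.ofPt φ ⁻¹' {Points.mk p}),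
        {r : ↥R.left | s.left r = u ∧ t.left r = u'} := by
    intro r hr
    have h1 : Points.ofPt φ (t.left r) = Points.mk p := by
      rw [← ofPt_comp]; exact hr
    have h2 : Points.ofPt φ (s.left r) = Points.mk p := by
      rw [← ofPt_comp, ← sq.w]; exact hr
    simp only [Set.mem_iUnion]
    exact ⟨s.left r, h2, t.left r, h1, rfl, rfl⟩
  refine Set.Finite.subset ?_ hsub
  exact Set.Finite.biUnion hU fun u hu => Set.Finite.biUnion hU fun u' hu' =>
    finite_relation_fibre_of_mono_point hX p hm φ hφ u u' hu hu' R s t sq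

/-- Quasi-compactness of a morphism from a scheme may be tested on affine étale charts. -/
theorem repWith_quasiCompact_of_affine_etale_charts {X : Sp S} (hX : IsAlgSpace X) {T : Over S}
    (f : (yon S).obj T ⟶ X)
    (h : ∀ (W : Over S) (ψ : (yon S).obj W ⟶ X), IsAffine W.left → RepWith @Etale ψ →
      ∀ (P : Over S) (a : P ⟶ T) (b : P ⟶ W),
        IsPullback ((yon S).map a) ((yon S).map b) f ψ → CompactSpace ↥P.left) :
    RepWith @QuasiCompact f := by
  have hrep := hX.representable_from_yon f
  apply repWith_quasiCompact_of_isQuasiCompactMor _ hrep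
  obtain ⟨U₀, φ₀, hφ₀e, hφ₀s⟩ := hX.atlas
  have sq₀ := hrep.isPullback' φ₀
  have hqc : QuasiCompact (hrep.snd φ₀).left := by
    rw [HasAffineProperty.iff_of_openCover (P := @QuasiCompact) U₀.left.affineCover]
    intro i
    let j : Over.mk (U₀.left.affineCover.f i ≫ U₀.hom) ⟶ U₀ :=
      Over.homMk (U₀.left.affineCover.f i) rfl
    have sq' := isPullback_restrict sq₀ j
    rw [← Functor.map_comp] at sq'
    have hje : RepWith @Etale ((yon S).map j) := by
      rw [repWith_yon_map_iff]
      change Etale (U₀.left.affineCover.f i)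
      infer_instance
    have haff : IsAffine (Over.mk (U₀.left.affineCover.f i ≫ U₀.hom)).left := by
      dsimp; infer_instance
    have hc := h _ ((yon S).map j ≫ φ₀) haff (repWith_comp _ hje hφ₀e) _ _ _ sq'
    let e : (pullback (hrep.snd φ₀) j).left ≅
        pullback (hrep.snd φ₀).left (U₀.left.affineCover.f i) :=
      PreservesPullback.iso (Over.forget S) (hrep.snd φ₀) j
    exact (TopCat.homeoOfIso (asIso e.hom.base)).compactSpace
  have h1 : IsQuasiCompactMor ((yon S).map (hrep.snd φ₀)) :=
    isQuasiCompactMor_of_repWith _ ((repWith_yon_map_iff _ _).2 hqc)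
  exact isQuasiCompactMor_of_univOpen_baseChange (IsAlgSpace.yon_obj _) hX.diag
    (IsAlgSpace.yon_obj _) sq₀
    ((repWith_universallyOpen_iff _ hφ₀e.rep).1 (repWith_universallyOpen_of_etale hφ₀e))
    (isSurjectiveMor_of_repWith _ hφ₀s) h1

/-- A point with finite fibres in all affine étale charts and their relations is represented by
a quasi-compact monomorphism from the spectrum of a field. -/
theorem exists_qc_mono_point_of_finite_fibres {X : Sp S} (hX : IsAlgSpace X) (x : Points X)
    (h : ∀ (U : Over S) (φ : (yon S).obj U ⟶ X), IsAffine U.left → RepWith @Etale φ →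
        ∀ (R : Over S) (s t : R ⟶ U), IsPullback ((yon S).map t) ((yon S).map s) φ φ →
          (Points.ofPt φ ⁻¹' {x}).Finite ∧
            (Points.ofPt ((yon S).map t ≫ φ) ⁻¹' {x}).Finite) :
    ∃ p : FieldPt X, Points.mk p = x ∧ Mono p.toHom ∧ RepWith @QuasiCompact p.toHom := by
  obtain ⟨ι, T, r, hT, hr, hs⟩ := exists_affine_charts hX
  obtain ⟨i, u, hu⟩ := hs x
  have sqR := (hr i).rep.isPullback' (r i)
  obtain ⟨-, hfinR⟩ := h (T i) (r i) (hT i) (hr i) _ _ _ sqR
  have hR : {z : ↥((hr i).rep.pullback (r i)).left | ((hr i).rep.snd (r i)).left z = u ∧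
      ((hr i).rep.fst' (r i)).left z = u}.Finite := by
    refine hfinR.subset ?_
    rintro z ⟨-, hz⟩
    show Points.ofPt _ z = x
    rw [ofPt_comp, hz, hu]
  obtain ⟨p, hp1, hp2, -⟩ := exists_mono_point_of_finite hX (r i) (hr i) u u rfl _ _ sqR hR
  refine ⟨p, hp1.trans hu, hp2, ?_⟩
  apply repWith_quasiCompact_of_affine_etale_charts hX
  intro W ψ hW hψ P a b sq
  obtain ⟨hfinW, -⟩ := h W ψ hW hψ _ _ _ (hψ.rep.isPullback' ψ)
  haveI := hp2
  haveI hmb : Mono ((yon S).map b) := sq.mono_snd_of_mono
  haveI : Mono b := (yon S).mono_of_mono_map hmb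
  have hinj := injective_left_of_mono b
  have hfin : Finite ↥P.left := by
    have h1 : (Set.univ : Set ↥P.left).Finite := by
      have hmaps : Set.MapsTo b.left Set.univ (Points.ofPt ψ ⁻¹' {x}) := by
        intro z _
        show Points.ofPt ψ (b.left z) = x
        rw [← ofPt_comp, ← sq.w, ofPt_comp, Points.ofPt_toHom, hp1, hu]
      exact Set.Finite.of_injOn hmaps hinj.injOn hfinW
    exact Set.finite_univ_iff.1 h1
  infer_instance

/-- Conversely a point with a quasi-compact monomorphic representative has finite fibres. -/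
theorem finite_fibres_of_qc_mono_point {X : Sp S} (hX : IsAlgSpace X) (p : FieldPt X)
    (hm : Mono p.toHom) (hq : RepWith @QuasiCompact p.toHom) {U : Over S} [CompactSpace ↥U.left]
    (φ : (yon S).obj U ⟶ X) (hφ : RepWith @Etale φ) {R : Over S} (s t : R ⟶ U)
    (sq : IsPullback ((yon S).map t) ((yon S).map s) φ φ) :
    (Points.ofPt φ ⁻¹' {Points.mk p}).Finite ∧
      (Points.ofPt ((yon S).map t ≫ φ) ⁻¹' {Points.mk p}).Finite :=
  have h1 := finite_fibre_of_qc p hq φ hφ
  ⟨h1, finite_relation_total_fibre hX p hm φ hφ h1 s t sq⟩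

end Groth.Agent.Lib.FieldQuot4H6
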