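import Mathlib
import Groth.Agent.Lib.AlgSpFEtQuot_helper6
import Groth.Agent.Lib.AlgSpFEtDense_helper6
import Groth.Agent.Lib.AlgSpCodim0_helper6
import Groth.Agent.Lib.AlgSpDescent_helper7
import Groth.Agent.Lib.SchDescent_helper6
import Groth.Agent.Lib.ZMTOpenImm_helper4
import Groth.Agent.Lib.AlgSpEtale_helper7
import Groth.Agent.S10360

/-!
# Decent algebraic spaces with one point are schemes (helper6)
-/

set_option autoImplicit false
universe u
open CategoryTheory CategoryTheory.Limits AlgebraicGeometry Opposite TopologicalSpace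

namespace Groth.Agent.Lib.AlgSpOnePtH6

open AlgSp Groth.Agent.Lib.AlgSpPoints_helper7 Groth.Agent.Lib.AlgSpOpenSub_helper7
  Groth.Agent.Lib.AlgSpPullback_helper7 Groth.Agent.Lib.AlgSpIso_helper7
  Groth.Agent.Lib.AlgSpBasic_helper7 Groth.Agent.Lib.AlgSpDescent_helper7
  Groth.Agent.Lib.UBFCoverH6 Groth.Agent.Lib.AlgSpFEtQuotH6 Groth.Agent.Lib.AlgSpFEtDenseH6
  Groth.Agent.Lib.AlgSpCodim0_helper6 Groth.Agent.Lib.AlgSpEtale_helper7

/-- An étale morphism between finite discrete schemes is finite. -/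
theorem isFinite_of_etale_finite_discrete {R U : Scheme.{u}} (s : R ⟶ U) [Etale s] [Finite ↥R]
    [DiscreteTopology ↥R] [Finite ↥U] [DiscreteTopology ↥U] : IsFinite s := by
  haveI : IsAffine R := inferInstance
  haveI : IsAffine U := inferInstance
  haveI : LocallyQuasiFinite s := locallyQuasiFinite_of_unramified s
  obtain ⟨Xb, π, j, hπ, -, hj, hfac⟩ :=
    Groth.Agent.Lib.ZMTOpenImmH4.exists_finite_compactification s
  haveI := hπ
  haveI := hj
  have hT1 : ∀ ⦃x y : ↥Xb⦄, x ⤳ y → x = y := by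
    intro x y h
    have h1 : π x = π y := (h.map π.continuous).eq
    exact (π.isDiscrete_preimage_singleton (π y)).eq_of_specializes h h1 rfl
  haveI : T1Space ↥Xb := t1Space_iff_specializes_imp_eq.2 hT1
  have hcl : IsClosed (Set.range j) := (Set.finite_range j).isClosed
  haveI : IsClosedImmersion j := IsClosedImmersion.of_isPreimmersion j hcl
  rw [← hfac]
  infer_instance

theorem descendsEtale_isFinite : DescendsEtale (@IsFinite : MorphismProperty Scheme.{u}) := by
  haveI := Groth.Agent.Lib.SchDescent_helper6.descendsAlong_isFinite.{u}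
  exact descendsEtale_of_descendsAlong @IsFinite

variable {S : Scheme.{u}}

/-- An algebraic space with an étale surjective chart by a finite discrete scheme whose
self fibre product is finite discrete is an affine scheme. -/
theorem exists_iso_of_finite_discrete_chart {X : Sp S} (hX : IsAlgSpace X) {U R : Over S}
    (a : (yon S).obj U ⟶ X) (hae : RepWith @Etale a) (has : RepWith @Surjective a) (t s : R ⟶ U)
    (kp : IsPullback ((yon S).map t) ((yon S).map s) a a) [Finite ↥U.left]
    [DiscreteTopology ↥U.left] [Finite ↥R.left] [DiscreteTopology ↥R.left]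
    {Λ : CommRingCat.{u}} (i : Spec Λ ⟶ S) [Mono i] (h₀ : U.left ⟶ Spec Λ)
    (hh : h₀ ≫ i = U.hom) :
    ∃ M : Over S, IsAffine M.left ∧ Nonempty ((yon S).obj M ≅ X) := by
  haveI : IsAffine U.left := inferInstance
  haveI : Etale s.left := hae.property _ _ _ kp
  haveI : IsFinite s.left := isFinite_of_etale_finite_discrete s.left
  haveI : Epi a := epi_of_atlas a hae has
  have hfin : RepWith @IsFinite a :=
    repWith_of_chart @IsFinite descendsEtale_isFinite a (hX.representable_from_yon a) a hae has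
      ((yon S).map t) s kp ‹_›
  obtain ⟨M, q, e, hM, -⟩ := exists_affine_quotient a hfin hae i h₀ hh
  exact ⟨M, hM, ⟨e⟩⟩

/-- A decent algebraic space with exactly one point is an (affine) scheme. -/
theorem exists_iso_of_isDecent_of_subsingleton (X : Space S) (hX : IsDecent X.obj)
    [Nonempty (Points X.obj)] [Subsingleton (Points X.obj)] :
    ∃ M : Over S, IsAffine M.left ∧ Nonempty ((yon S).obj M ≅ X.obj) := by
  have hXs := X.property
  obtain ⟨x⟩ := ‹Nonempty (Points X.obj)›
  obtain ⟨U₀, p₀, hp₀e, hp₀s⟩ := hXs.atlas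
  obtain ⟨u₀, -⟩ := ofPt_surjective p₀ hp₀s x
  obtain ⟨Ws, hWs, hsWs, -⟩ := exists_isAffineOpen_mem_and_subset
    (x := U₀.hom u₀) (U := (⊤ : S.Opens)) trivial
  obtain ⟨V, hV, huV, hVsub⟩ := exists_isAffineOpen_mem_and_subset
    (show u₀ ∈ U₀.hom ⁻¹ᵁ Ws from hsWs)
  have hrange : Set.range (V.ι ≫ U₀.hom) ⊆ Set.range hWs.fromSpec := by
    rw [hWs.range_fromSpec]
    rintro _ ⟨v, rfl⟩
    exact hVsub v.2
  let h₀ : (V : Scheme.{u}) ⟶ Spec Γ(S, Ws) :=
    IsOpenImmersion.lift hWs.fromSpec (V.ι ≫ U₀.hom) hrange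
  have hh : h₀ ≫ hWs.fromSpec = V.ι ≫ U₀.hom := IsOpenImmersion.lift_fac _ _ _
  let U : Over S := opOver U₀ V
  let j : U ⟶ U₀ := opι U₀ V
  haveI : IsAffine U.left := hV
  haveI : IsOpenImmersion j.left := inferInstanceAs (IsOpenImmersion V.ι)
  obtain ⟨a, ha⟩ : ∃ a, a = (yon S).map j ≫ p₀ := ⟨_, rfl⟩
  have hae : RepWith @Etale a := by
    rw [ha]
    exact repWith_comp _ ((repWith_yon_map_iff @Etale j).2 inferInstance) hp₀e
  have hrep := hXs.representable_from_yon a
  have has : RepWith @Surjective a := (repWith_surjective_iff a hrep).2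
    (fun y => ⟨Points.ofScheme U ⟨u₀, huV⟩, Subsingleton.elim _ _⟩)
  obtain ⟨R, t, s, kp⟩ := exists_isPullback_yon hrep a
  obtain ⟨p, hp, hm, hq⟩ := hX x
  obtain ⟨hfU, hfR⟩ := (Groth.Agent.S10360.result X x).2 ⟨p, hp, hm, hq⟩ U a ‹_› hae R s t kp
  haveI : Finite ↥U.left := by
    have h1 : Points.ofPt a ⁻¹' {x} = Set.univ :=
      Set.eq_univ_of_forall (fun u => Subsingleton.elim _ _)
    rw [h1] at hfU
    exact Set.finite_univ_iff.1 hfU
  haveI : Finite ↥R.left := by
    have h1 : Points.ofPt ((yon S).map t ≫ a) ⁻¹' {x} = Set.univ :=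
      Set.eq_univ_of_forall (fun u => Subsingleton.elim _ _)
    rw [h1] at hfR
    exact Set.finite_univ_iff.1 hfR
  haveI hse : Etale s.left := hae.property _ _ _ kp
  haveI hte : Etale t.left := hae.property _ _ _ kp.flip
  -- no nontrivial specializations in `U`
  have hUgen : ∀ ⦃u u' : ↥U.left⦄, u ⤳ u' → u = u' := by
    intro u u' h
    obtain ⟨η, hη, hηmax⟩ : ∃ η : ↥U.left, η ⤳ u ∧ ∀ z : ↥U.left, z ⤳ η → z = η := by
      letI := specializationPreorder ↥U.left
      obtain ⟨b, hb, hbmax⟩ := (Set.toFinite (Set.univ : Set ↥U.left)).exists_le_maximal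
        (Set.mem_univ u)
      refine ⟨b, hb, fun z hz => ?_⟩
      have h' : b ⤳ z := hbmax.2 (Set.mem_univ z) hz
      exact (Specializes.antisymm hz h').eq
    obtain ⟨r, hr1, hr2⟩ := exists_ofPt_eq_of_isPullback kp u' η (Subsingleton.elim _ _)
    have h1 := no_gen_of_etale s.left r (by rw [hr2]; exact hηmax)
    have h2 := no_gen_of_flat t.left r h1
    rw [hr1] at h2
    exact h2 u h
  haveI : T1Space ↥U.left := t1Space_iff_specializes_imp_eq.2 hUgen
  haveI : DiscreteTopology ↥U.left := inferInstance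
  have hRgen : ∀ ⦃r r' : ↥R.left⦄, r ⤳ r' → r = r' := fun r r' h =>
    no_gen_of_etale s.left r' (fun z hz => hUgen hz) r h
  haveI : T1Space ↥R.left := t1Space_iff_specializes_imp_eq.2 hRgen
  haveI : DiscreteTopology ↥R.left := inferInstance
  exact exists_iso_of_finite_discrete_chart hXs a hae has t s kp hWs.fromSpec h₀ hh

end Groth.Agent.Lib.AlgSpOnePtH6
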