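import Groth.Agent.Lib.AlgSpEpi_helper7

/-!
# Quasi-compactness via the space of points (helper7)
-/

set_option autoImplicit false
universe u
open CategoryTheory CategoryTheory.Limits AlgebraicGeometry Opposite

namespace Groth.Agent.Lib.AlgSpQC2_helper7

open AlgSp Groth.Agent.Lib.AlgSpPoints_helper7 Groth.Agent.Lib.AlgSpQC_helper7
  Groth.Agent.Lib.AlgSpUniv_helper7 Groth.Agent.Lib.AlgSpTop_helper7
  Groth.Agent.Lib.AlgSpPullback_helper7

variable {S : Scheme.{u}}

theorem compactSpace_of_isQuasiCompactSp {F : Sp S} (h : IsQuasiCompactSp F) :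
    CompactSpace (Points F) := by
  obtain ⟨U, p, _, hps, hU⟩ := h
  have : CompactSpace ↥U.left := hU
  exact Function.Surjective.compactSpace (Points.continuous_ofPt p) (ofPt_surjective p hps)

/-- A compact set of points of an algebraic space is covered by the image of one étale chart from
a quasi-compact scheme. -/
theorem exists_compact_chart {F : Sp S} (hF : IsAlgSpace F) (K : Set (Points F))
    (hK : IsCompact K) :
    ∃ (V : Over S) (r : (yon S).obj V ⟶ F), RepWith @Etale r ∧ CompactSpace ↥V.left ∧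
      K ⊆ Set.range (Points.ofPt r) := by
  obtain ⟨U, p, hpe, hps⟩ := hF.atlas
  let 𝒰 := U.left.affineCover
  let O : 𝒰.I₀ → Set (Points F) := fun i => Points.ofPt p '' Set.range (𝒰.f i)
  have hO : ∀ i, IsOpen (O i) := fun i =>
    isOpenMap_ofPt_of_etale p hpe _ (𝒰.f i).isOpenEmbedding.isOpen_range
  have hcov : K ⊆ ⋃ i, O i := by
    intro z _
    obtain ⟨u, rfl⟩ := ofPt_surjective p hps z
    obtain ⟨i, t, rfl⟩ := 𝒰.exists_eq u
    exact Set.mem_iUnion.2 ⟨i, _, ⟨t, rfl⟩, rfl⟩
  obtain ⟨s, hs⟩ := hK.elim_finite_subcover O hO hcov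
  let V : U.left.Opens := ⨆ i ∈ s, (𝒰.f i).opensRange
  have hVc : IsCompact (V : Set ↥U.left) := by
    have : (V : Set ↥U.left) = ⋃ i ∈ s, Set.range (𝒰.f i) := by
      simp [V]
    rw [this]
    exact s.finite_toSet.isCompact_biUnion fun i _ => isCompact_range (𝒰.f i).continuous
  let TV : Over S := Over.mk (V.ι ≫ U.hom)
  let j : TV ⟶ U := Over.homMk V.ι rfl
  have hje : RepWith @Etale ((yon S).map j) := by
    rw [repWith_yon_map_iff]
    change Etale V.ι
    infer_instance
  refine ⟨TV, (yon S).map j ≫ p, repWith_comp _ hje hpe, isCompact_iff_compactSpace.mp hVc, ?_⟩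
  intro z hz
  obtain ⟨i, hi, u, ⟨t, rfl⟩, rfl⟩ : ∃ i ∈ s, z ∈ O i := by simpa using hs hz
  have hmem : 𝒰.f i t ∈ V := by
    simp only [V, TopologicalSpace.Opens.mem_iSup]
    exact ⟨i, hi, t, rfl⟩
  exact ⟨⟨𝒰.f i t, hmem⟩, ofPt_comp j p _⟩

theorem isQuasiCompactSp_of_compactSpace {F : Sp S} (hF : IsAlgSpace F)
    [CompactSpace (Points F)] : IsQuasiCompactSp F := by
  obtain ⟨V, r, hre, hV, hr⟩ := exists_compact_chart hF Set.univ isCompact_univ
  refine ⟨V, r, hre, (repWith_surjective_iff r hre.rep).2 fun z => ?_, hV⟩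
  obtain ⟨v, hv⟩ := hr (Set.mem_univ z)
  exact ⟨Points.ofScheme V v, by rw [← Points.ofPt_eq_map_ofScheme]; exact hv⟩

theorem isQuasiCompactSp_iff_compactSpace {F : Sp S} (hF : IsAlgSpace F) :
    IsQuasiCompactSp F ↔ CompactSpace (Points F) :=
  ⟨compactSpace_of_isQuasiCompactSp, fun _ => isQuasiCompactSp_of_compactSpace hF⟩

/-- Refinement of `exists_compact_chart` inside an open set. -/
theorem exists_compact_chart_in_open {F : Sp S} (hF : IsAlgSpace F) (K O : Set (Points F))
    (hK : IsCompact K) (hO : IsOpen O) (hKO : K ⊆ O) :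
    ∃ (V : Over S) (r : (yon S).obj V ⟶ F), RepWith @Etale r ∧ CompactSpace ↥V.left ∧
      K ⊆ Set.range (Points.ofPt r) ∧ Set.range (Points.ofPt r) ⊆ O := by
  obtain ⟨U, p, hpe, hps⟩ := hF.atlas
  let UO : U.left.Opens := ⟨Points.ofPt p ⁻¹' O, hO.preimage (Points.continuous_ofPt p)⟩
  let 𝒰 := (UO : Scheme.{u}).affineCover
  let Q : 𝒰.I₀ → Set (Points F) := fun i => Points.ofPt p '' Set.range (𝒰.f i ≫ UO.ι)
  have hQ : ∀ i, IsOpen (Q i) := fun i =>
    isOpenMap_ofPt_of_etale p hpe _ (𝒰.f i ≫ UO.ι).isOpenEmbedding.isOpen_range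
  have hcov : K ⊆ ⋃ i, Q i := by
    intro z hz
    obtain ⟨u, rfl⟩ := ofPt_surjective p hps z
    have hu : u ∈ UO := hKO hz
    obtain ⟨i, t, ht⟩ := 𝒰.exists_eq ⟨u, hu⟩
    refine Set.mem_iUnion.2 ⟨i, u, ⟨t, ?_⟩, rfl⟩
    rw [Scheme.Hom.comp_apply, ht]
    rfl
  obtain ⟨s, hs⟩ := hK.elim_finite_subcover Q hQ hcov
  let V : U.left.Opens := ⨆ i ∈ s, (𝒰.f i ≫ UO.ι).opensRange
  have hVc : IsCompact (V : Set ↥U.left) := by
    have : (V : Set ↥U.left) = ⋃ i ∈ s, Set.range (𝒰.f i ≫ UO.ι) := by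
      simp [V]
    rw [this]
    exact s.finite_toSet.isCompact_biUnion fun i _ => isCompact_range (𝒰.f i ≫ UO.ι).continuous
  have hVO : V ≤ UO := by
    simp only [V, iSup_le_iff]
    rintro i _ _ ⟨t, rfl⟩
    rw [Scheme.Hom.comp_apply]
    exact (𝒰.f i t).2
  let TV : Over S := Over.mk (V.ι ≫ U.hom)
  let j : TV ⟶ U := Over.homMk V.ι rfl
  have hje : RepWith @Etale ((yon S).map j) := by
    rw [repWith_yon_map_iff]
    change Etale V.ι
    infer_instance
  refine ⟨TV, (yon S).map j ≫ p, repWith_comp _ hje hpe, isCompact_iff_compactSpace.mp hVc, ?_, ?_⟩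
  · intro z hz
    obtain ⟨i, hi, u, ⟨t, rfl⟩, rfl⟩ : ∃ i ∈ s, z ∈ Q i := by simpa using hs hz
    have hmem : (𝒰.f i ≫ UO.ι) t ∈ V := by
      simp only [V, TopologicalSpace.Opens.mem_iSup]
      exact ⟨i, hi, t, rfl⟩
    exact ⟨⟨(𝒰.f i ≫ UO.ι) t, hmem⟩, ofPt_comp j p _⟩
  · rintro _ ⟨v, rfl⟩
    rw [ofPt_comp j p v]
    exact hVO v.2

/-- A quasi-compact sheaf has a finite jointly surjective family of étale affine charts. -/
theorem exists_finite_affine_charts {Z : Sp S} (hZ : IsQuasiCompactSp Z) :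
    ∃ (ι : Type u) (_ : Finite ι) (T : ι → Over S) (r : ∀ i, (yon S).obj (T i) ⟶ Z),
      (∀ i, IsAffine (T i).left) ∧ (∀ i, RepWith @Etale (r i)) ∧
      ∀ z : Points Z, ∃ (i : ι) (t : ↥(T i).left), Points.ofPt (r i) t = z := by
  obtain ⟨U, p, hpe, hps, hU⟩ := hZ
  have : CompactSpace ↥U.left := hU
  let 𝒰 := U.left.affineCover
  obtain ⟨s, hs⟩ := isCompact_univ.elim_finite_subcover (fun i => Set.range (𝒰.f i))
    (fun i => (𝒰.f i).isOpenEmbedding.isOpen_range) (by
      intro u _
      obtain ⟨i, t, rfl⟩ := 𝒰.exists_eq u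
      exact Set.mem_iUnion.2 ⟨i, t, rfl⟩)
  let T : ↥s → Over S := fun i => Over.mk (𝒰.f i.1 ≫ U.hom)
  let j : ∀ i, T i ⟶ U := fun i => Over.homMk (𝒰.f i.1) rfl
  refine ⟨↥s, inferInstance, T, fun i => (yon S).map (j i) ≫ p, fun i => ?_, fun i => ?_,
    fun z => ?_⟩
  · dsimp [T]; infer_instance
  · have h1 : RepWith @Etale ((yon S).map (j i)) := by
      rw [repWith_yon_map_iff]
      change Etale (𝒰.f i.1)
      infer_instance
    exact repWith_comp _ h1 hpe
  · obtain ⟨u, rfl⟩ := ofPt_surjective p hps z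
    obtain ⟨i, hi, t, rfl⟩ : ∃ i ∈ s, u ∈ Set.range (𝒰.f i) := by simpa using hs (Set.mem_univ u)
    exact ⟨⟨i, hi⟩, t, ofPt_comp (j ⟨i, hi⟩) p t⟩

/-- The preimage of a finite union of chart images is compact if the base changes to the charts
have compact spaces of points. -/
theorem isCompact_preimage_of_charts {Z' Z : Sp S} (q : Z' ⟶ Z) {ι : Type*} [Finite ι]
    (T : ι → Over S) (r : ∀ i, (yon S).obj (T i) ⟶ Z)
    (h : ∀ i, ∃ (P : Sp S) (fst : P ⟶ Z') (snd : P ⟶ (yon S).obj (T i)),
      IsPullback fst snd q (r i) ∧ CompactSpace (Points P)) :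
    IsCompact (Points.map q ⁻¹' ⋃ i, Set.range (Points.ofPt (r i))) := by
  choose P fst snd sq hc using h
  have : Points.map q ⁻¹' ⋃ i, Set.range (Points.ofPt (r i)) =
      ⋃ i, Set.range (Points.map (fst i)) := by
    ext z'
    simp only [Set.mem_preimage, Set.mem_iUnion, Set.mem_range]
    constructor
    · rintro ⟨i, t, ht⟩
      rw [Points.ofPt_eq_map_ofScheme] at ht
      obtain ⟨w, hw, _⟩ := exists_of_isPullback (sq i) z' _ ht.symm
      exact ⟨i, w, hw⟩
    · rintro ⟨i, w, rfl⟩
      obtain ⟨t, ht⟩ := ofScheme_surjective (T i) (Points.map (snd i) w)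
      refine ⟨i, t, ?_⟩
      rw [Points.ofPt_eq_map_ofScheme, ht, ← Points.map_comp, ← (sq i).w, Points.map_comp]
  rw [this]
  exact isCompact_iUnion fun i => isCompact_range (Points.continuous_map (fst i))

theorem isCompact_preimage_of_isQuasiCompactMor {X Y : Sp S} (hY : IsAlgSpace Y) (f : X ⟶ Y)
    (hf : IsQuasiCompactMor f) (V : Set (Points Y)) (hV : IsOpen V) (hVc : IsCompact V) :
    IsCompact (Points.map f ⁻¹' V) := by
  obtain ⟨W, r, hre, hW, h1, h2⟩ := exists_compact_chart_in_open hY V V hVc hV le_rfl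
  have hP : IsQuasiCompactSp (pullback f r) :=
    hf (IsAlgSpace.yon_obj W) (isQuasiCompactSp_yon W) r _ _ (IsPullback.of_hasPullback f r)
  have := isCompact_preimage_of_charts f (ι := Unit) (fun _ => W) (fun _ => r)
    (fun _ => ⟨_, _, _, IsPullback.of_hasPullback f r, compactSpace_of_isQuasiCompactSp hP⟩)
  rw [Set.iUnion_const] at this
  rwa [← Set.Subset.antisymm h1 h2] at this

/-- If the base changes of `Z' ⟶ Z` to a finite jointly surjective family of charts have
compact spaces of points, so has `Z'`. -/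
theorem compactSpace_of_charts {Z' Z : Sp S} (q : Z' ⟶ Z) {ι : Type*} [Finite ι]
    (T : ι → Over S) (r : ∀ i, (yon S).obj (T i) ⟶ Z)
    (hs : ∀ z : Points Z, ∃ (i : ι) (t : ↥(T i).left), Points.ofPt (r i) t = z)
    (h : ∀ i, ∃ (P : Sp S) (fst : P ⟶ Z') (snd : P ⟶ (yon S).obj (T i)),
      IsPullback fst snd q (r i) ∧ CompactSpace (Points P)) : CompactSpace (Points Z') := by
  have := isCompact_preimage_of_charts q T r h
  have e : ⋃ i, Set.range (Points.ofPt (r i)) = Set.univ := by
    ext z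
    simp only [Set.mem_iUnion, Set.mem_range, Set.mem_univ, iff_true]
    exact hs z
  rw [e, Set.preimage_univ] at this
  exact isCompact_univ_iff.1 this

/-- Quasi-compactness of a morphism may be tested on affine schemes over the target. -/
theorem isQuasiCompactMor_of_forall_affine {X Y : Sp S} (hX : IsAlgSpace X)
    (hY : Representable (Limits.diag Y)) (f : X ⟶ Y)
    (h : ∀ (Z : Over S), IsAffine Z.left → ∀ (g : (yon S).obj Z ⟶ Y) (P : Sp S)
        (fst : P ⟶ X) (snd : P ⟶ (yon S).obj Z), IsPullback fst snd f g →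
        IsQuasiCompactSp P) : IsQuasiCompactMor f := by
  intro Z Z' hZ hZc g fst snd sq
  have hZ' : IsAlgSpace Z' := isAlgSpace_of_isPullback hY hX hZ sq
  obtain ⟨ι, _, T, r, hT, hr, hs⟩ := exists_finite_affine_charts hZc
  have : CompactSpace (Points Z') := by
    refine compactSpace_of_charts snd T r hs fun i => ?_
    have sq' := IsPullback.of_hasPullback snd (r i)
    exact ⟨_, _, _, sq', compactSpace_of_isQuasiCompactSp
      (h (T i) (hT i) (r i ≫ g) _ _ _ (sq'.flip.paste_vert sq.flip).flip)⟩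
  exact isQuasiCompactSp_of_compactSpace hZ'

/-- Surjectivity on points is stable under base change. -/
theorem isSurjectiveMor_of_isPullback {P X Y Z : Sp S} {fst : P ⟶ X} {snd : P ⟶ Z} {f : X ⟶ Y}
    {g : Z ⟶ Y} (sq : IsPullback fst snd f g) (hf : IsSurjectiveMor f) : IsSurjectiveMor snd := by
  intro z
  obtain ⟨x, hx⟩ := hf (Points.map g z)
  obtain ⟨w, _, hw⟩ := exists_of_isPullback sq x z hx
  exact ⟨w, hw⟩

/-- A base change of `f` along a morphism factoring through `p` is a base change of the base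
change of `f` along `p`. -/
theorem exists_isPullback_of_factor {X Y Y' X' : Sp S} {f : X ⟶ Y} {p : Y' ⟶ Y} {fst : X' ⟶ X}
    {f' : X' ⟶ Y'} (sq : IsPullback fst f' f p) {Z Z' : Sp S} {g : Z ⟶ Y} {fstZ : Z' ⟶ X}
    {q : Z' ⟶ Z} (sq' : IsPullback fstZ q f g) {T : Sp S} (c : T ⟶ Z) (d : T ⟶ Y')
    (hcd : c ≫ g = d ≫ p) :
    ∃ l : pullback q c ⟶ X', IsPullback l (pullback.snd q c) f' d := by
  have big := ((IsPullback.of_hasPullback q c).flip.paste_vert sq'.flip).flip
  rw [hcd] at big
  exact ⟨sq.lift (pullback.fst q c ≫ fstZ) (pullback.snd q c ≫ d) big.w,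
    IsPullback.of_right (by rw [sq.lift_fst]; exact big) (sq.lift_snd _ _ _) sq⟩

/-- In a commutative triangle with `f` surjective on points, if `f ≫ q` is quasi-compact then so
is `q`. -/
theorem isQuasiCompactMor_of_comp_surjective {X Y Z : Sp S} (hY : IsAlgSpace Y)
    (hZ : Representable (Limits.diag Z)) (f : X ⟶ Y) (q : Y ⟶ Z) (hf : IsSurjectiveMor f)
    (hp : IsQuasiCompactMor (f ≫ q)) : IsQuasiCompactMor q := by
  intro T T' hT hTc g fst snd sq
  have hT' : IsAlgSpace T' := isAlgSpace_of_isPullback hZ hY hT sq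
  have sqa := IsPullback.of_hasPullback f fst
  have hqc : IsQuasiCompactSp (pullback f fst) := hp hT hTc g _ _ (sqa.paste_vert sq)
  have := compactSpace_of_isQuasiCompactSp hqc
  have hs := isSurjectiveMor_of_isPullback sqa hf
  have : CompactSpace (Points T') :=
    Function.Surjective.compactSpace (Points.continuous_map _) hs
  exact isQuasiCompactSp_of_compactSpace hT'

/-- Quasi-compactness descends along a universally open surjective base change. -/
theorem isQuasiCompactMor_of_univOpen_baseChange {X Y Y' X' : Sp S} (hX : IsAlgSpace X)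
    (hY : Representable (Limits.diag Y)) (hY' : IsAlgSpace Y') {f : X ⟶ Y} {g : Y' ⟶ Y}
    {fst : X' ⟶ X} {f' : X' ⟶ Y'} (sq : IsPullback fst f' f g) (hg : IsUnivOpenMor g)
    (hgs : IsSurjectiveMor g) (hf' : IsQuasiCompactMor f') : IsQuasiCompactMor f := by
  intro Z Z' hZ hZc h fstZ q sq'
  have hZ' : IsAlgSpace Z' := isAlgSpace_of_isPullback hY hX hZ sq'
  -- the base change of `g` to `Z`
  have sq1 := IsPullback.of_hasPullback h g
  have hZ1 : IsAlgSpace (pullback h g) := isAlgSpace_of_isPullback hY hZ hY' sq1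
  have ho : IsOpenMap (Points.map (pullback.fst h g)) := hg hZ h _ _ sq1.flip
  have hsurj : IsSurjectiveMor (pullback.fst h g) := isSurjectiveMor_of_isPullback sq1.flip hgs
  obtain ⟨ι, T, r, hT, hr, hs⟩ := exists_affine_charts hZ1
  have := compactSpace_of_isQuasiCompactSp hZc
  let O : ι → Set (Points Z) := fun i =>
    Points.map (pullback.fst h g) '' Set.range (Points.ofPt (r i))
  have hO : ∀ i, IsOpen (O i) := fun i =>
    ho _ (isOpenMap_ofPt_of_etale (r i) (hr i)).isOpen_range
  obtain ⟨s, hs'⟩ := isCompact_univ.elim_finite_subcover O hO (by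
    intro z _
    obtain ⟨z1, rfl⟩ := hsurj z
    obtain ⟨i, t, rfl⟩ := hs z1
    exact Set.mem_iUnion.2 ⟨i, _, ⟨t, rfl⟩, rfl⟩)
  have : CompactSpace (Points Z') := by
    refine compactSpace_of_charts q (ι := ↥s) (fun i => T i.1)
      (fun i => r i.1 ≫ pullback.fst h g) (fun z => ?_) (fun i => ?_)
    · obtain ⟨i, hi, _, ⟨t, rfl⟩, rfl⟩ : ∃ i ∈ s, z ∈ O i := by simpa using hs' (Set.mem_univ z)
      exact ⟨⟨i, hi⟩, t, Points.map_ofPt _ _ _⟩
    · obtain ⟨l, sql⟩ := exists_isPullback_of_factor sq sq' (r i.1 ≫ pullback.fst h g)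
        (r i.1 ≫ pullback.snd h g) (by rw [Category.assoc, Category.assoc, pullback.condition])
      have : CompactSpace ↥(T i.1).left := by
        have := hT i.1
        infer_instance
      exact ⟨_, _, _, IsPullback.of_hasPullback _ _, compactSpace_of_isQuasiCompactSp
        (hf' (IsAlgSpace.yon_obj _) (isQuasiCompactSp_yon _) _ _ _ sql)⟩
  exact isQuasiCompactSp_of_compactSpace hZ'

/-- An étale morphism (chart sense) from an algebraic space is universally open. -/
theorem isUnivOpenMor_of_isEtaleMor {Y' Y : Sp S} (hY' : IsAlgSpace Y') (g : Y' ⟶ Y)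
    (hg : IsEtaleMor g) : IsUnivOpenMor g := by
  obtain ⟨U, a, hae, has⟩ := hY'.atlas
  apply isUnivOpenMor_of_comp_surjective a g has
  have h1 := hg a hae
  exact (repWith_universallyOpen_iff _ h1.rep).1 (repWith_universallyOpen_of_etale h1)

/-- If `f ≫ g` is quasi-compact and `g` is quasi-separated then `f` is quasi-compact. -/
theorem isQuasiCompactMor_of_comp_of_isQuasiSeparatedMor {X Y Z : Sp S} (f : X ⟶ Y) (g : Y ⟶ Z)
    (hgf : IsQuasiCompactMor (f ≫ g)) (hg : IsQuasiSeparatedMor g) : IsQuasiCompactMor f := by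
  intro T T' hT hTc t fst snd sq
  have hM : IsQuasiCompactSp (pullback (f ≫ g) (t ≫ g)) :=
    hgf hT hTc (t ≫ g) _ _ (IsPullback.of_hasPullback _ _)
  have magic := pullback_map_diagonal_isPullback f t g
  have h1 := repWith_snd_of_isPullback _ magic hg
  have h2 := (MorphismProperty.cancel_left_of_respectsIso (RepWith (S := S) @QuasiCompact)
    sq.isoPullback.hom _).2 h1
  exact isQuasiCompactSp_of_repWith_quasiCompact _ h2 hM

/-- `h_{id_S}` is a terminal object of `Sp S`. -/
noncomputable def isTerminalYonId : IsTerminal ((yon S).obj (Over.mk (𝟙 S))) :=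
  IsTerminal.isTerminalObj (yon S) _ Over.mkIdTerminal

theorem repWith_terminal_from_yon_iff (Q : MorphismProperty Scheme.{u}) [Q.IsStableUnderBaseChange]
    (U : Over S) : RepWith Q (terminal.from ((yon S).obj U)) ↔ Q U.hom := by
  let e : ⊤_ (Sp S) ≅ (yon S).obj (Over.mk (𝟙 S)) := terminalIsTerminal.uniqueUpToIso isTerminalYonId
  let φ : U ⟶ Over.mk (𝟙 S) := Over.homMk U.hom
  have h : terminal.from ((yon S).obj U) ≫ e.hom = (yon S).map φ := isTerminalYonId.hom_ext _ _
  rw [← MorphismProperty.cancel_right_of_respectsIso (RepWith (S := S) Q) _ e.hom, h,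
    repWith_yon_map_iff]
  rfl

/-- Over a quasi-separated base, a quasi-compact algebraic space is quasi-compact over the
base. -/
theorem isQuasiCompactMor_terminal_from [QuasiSeparatedSpace ↥S] {X : Sp S} (hX : IsAlgSpace X)
    (hXc : IsQuasiCompactSp X) : IsQuasiCompactMor (terminal.from X) := by
  obtain ⟨U, p, hpe, hps, hU⟩ := hXc
  have : CompactSpace ↥U.left := hU
  have h1 : RepWith @QuasiCompact (terminal.from ((yon S).obj U)) := by
    rw [repWith_terminal_from_yon_iff]
    infer_instance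
  have h2 : IsQuasiCompactMor (p ≫ terminal.from X) := by
    rw [terminal.comp_from]
    exact isQuasiCompactMor_of_repWith _ h1
  exact isQuasiCompactMor_of_comp_surjective hX
    Groth.Agent.Lib.AlgSpDiag_helper7.representable_diag_terminal p _
    (isSurjectiveMor_of_repWith p hps) h2

theorem isQuasiSeparatedMor_terminal_from {Y : Sp S} (hY : IsQuasiSeparatedSp Y) :
    IsQuasiSeparatedMor (terminal.from Y) :=
  Groth.Agent.Lib.AlgSpBasic_helper7.repWith_diagonal_of_repWith_diag _ _ hY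

/-- Over a quasi-separated base, every morphism from a quasi-compact algebraic space to a
quasi-separated sheaf is quasi-compact. -/
theorem isQuasiCompactMor_of_isQuasiCompactSp_of_isQuasiSeparatedSp [QuasiSeparatedSpace ↥S]
    {X Y : Sp S} (hX : IsAlgSpace X) (f : X ⟶ Y) (hXc : IsQuasiCompactSp X)
    (hY : IsQuasiSeparatedSp Y) : IsQuasiCompactMor f := by
  apply isQuasiCompactMor_of_comp_of_isQuasiSeparatedMor f (terminal.from Y) _
    (isQuasiSeparatedMor_terminal_from hY)
  rw [terminal.comp_from]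
  exact isQuasiCompactMor_terminal_from hX hXc

theorem isIso_pullback_terminal_to_prod (X : Sp S) :
    IsIso (prod.lift (pullback.fst (terminal.from X) (terminal.from X))
      (pullback.snd (terminal.from X) (terminal.from X))) := by
  refine ⟨pullback.lift prod.fst prod.snd (Subsingleton.elim _ _), ?_, ?_⟩
  · apply pullback.hom_ext
    · rw [Category.assoc, pullback.lift_fst, prod.lift_fst, Category.id_comp]
    · rw [Category.assoc, pullback.lift_snd, prod.lift_snd, Category.id_comp]
  · apply Limits.prod.hom_ext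
    · rw [Category.assoc, prod.lift_fst, pullback.lift_fst, Category.id_comp]
    · rw [Category.assoc, prod.lift_snd, pullback.lift_snd, Category.id_comp]

/-- The absolute diagonal and the diagonal of the structure morphism to the terminal sheaf have
the same properties. -/
theorem repWith_diag_iff_diagonal_terminal_from (Q : MorphismProperty Scheme.{u})
    [Q.IsStableUnderBaseChange] (X : Sp S) :
    RepWith Q (Limits.diag X) ↔ RepWith Q (pullback.diagonal (terminal.from X)) := by
  have := isIso_pullback_terminal_to_prod X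
  rw [← Groth.Agent.Lib.AlgSpBasic_helper7.diagonal_comp_pullback_to_prod (terminal.from X)]
  exact MorphismProperty.cancel_right_of_respectsIso (RepWith (S := S) Q) _ _

theorem isQuasiSeparatedMor_comp {X Y Z : Sp S} (f : X ⟶ Y) (g : Y ⟶ Z)
    (hf : IsQuasiSeparatedMor f) (hg : IsQuasiSeparatedMor g) : IsQuasiSeparatedMor (f ≫ g) :=
  (RepWith (S := S) @QuasiCompact).diagonal.comp_mem f g hf hg

theorem isSeparatedMor_comp {X Y Z : Sp S} (f : X ⟶ Y) (g : Y ⟶ Z)
    (hf : IsSeparatedMor f) (hg : IsSeparatedMor g) : IsSeparatedMor (f ≫ g) :=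
  (RepWith (S := S) @IsClosedImmersion).diagonal.comp_mem f g hf hg

/-- Over a quasi-separated base, fibre products of quasi-compact quasi-separated algebraic
spaces are quasi-compact and quasi-separated. -/
theorem qcqs_of_isPullback [QuasiSeparatedSpace ↥S] {X Y Z P : Sp S} (hX : IsAlgSpace X)
    (hZ : IsAlgSpace Z) {f : X ⟶ Y} {g : Z ⟶ Y} {fst : P ⟶ X} {snd : P ⟶ Z}
    (sq : IsPullback fst snd f g) (hXc : IsQuasiCompactSp X) (hXs : IsQuasiSeparatedSp X)
    (hYs : IsQuasiSeparatedSp Y) (hZc : IsQuasiCompactSp Z) (hZs : IsQuasiSeparatedSp Z) :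
    IsQuasiCompactSp P ∧ IsQuasiSeparatedSp P := by
  constructor
  · exact isQuasiCompactMor_of_isQuasiCompactSp_of_isQuasiSeparatedSp hX f hXc hYs hZ hZc g fst
      snd sq
  · have h1 : IsQuasiSeparatedMor f :=
      Groth.Agent.Lib.AlgSpBasic_helper7.repWith_diagonal_of_repWith_diag _ _ hXs
    have h2 : IsQuasiSeparatedMor snd :=
      Groth.Agent.Lib.AlgSpSep_helper7.isQuasiSeparatedMor_of_isPullback sq h1
    have h3 := isQuasiSeparatedMor_comp snd _ h2 (isQuasiSeparatedMor_terminal_from hZs)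
    rw [terminal.comp_from] at h3
    exact (repWith_diag_iff_diagonal_terminal_from _ P).2 h3

end Groth.Agent.Lib.AlgSpQC2_helper7
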