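import Mathlib
import Groth.Agent.Lib.AlgSpFEtQuot_helper6
import Groth.Agent.Lib.AlgSpOnePt_helper6
import Groth.Agent.Lib.AlgSpSmST_helper7
import Groth.Agent.Lib.AlgSpSep_helper7
import Groth.Agent.Lib.AlgSpUnram_helper7
import Groth.Agent.Lib.AlgSpLocSurj_helper7
import Groth.Agent.Lib.AlgSpQC2_helper7

/-!
# Finiteness descends along étale surjective charts for separated morphisms (helper6)
-/

set_option autoImplicit false
universe u
open CategoryTheory CategoryTheory.Limits AlgebraicGeometry Opposite TopologicalSpace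

namespace Groth.Agent.Lib.AlgSpFinDescH6

open AlgSp Groth.Agent.Lib.AlgSpPoints_helper7 Groth.Agent.Lib.AlgSpOpenSub_helper7
  Groth.Agent.Lib.AlgSpPullback_helper7 Groth.Agent.Lib.AlgSpIso_helper7
  Groth.Agent.Lib.AlgSpBasic_helper7 Groth.Agent.Lib.AlgSpDescent_helper7
  Groth.Agent.Lib.AlgSpFEtQuotH6 Groth.Agent.Lib.AlgSpOnePtH6
  Groth.Agent.Lib.AlgSpSmST_helper7 Groth.Agent.Lib.AlgSpSep_helper7
  Groth.Agent.Lib.AlgSpUnram_helper7 Groth.Agent.Lib.AlgSpQC2_helper7

variable {S : Scheme.{u}}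

/-- Finite étale quotient of an affine scheme, with the structure morphism to the base factoring
through an affine scheme by an invariant morphism. -/
theorem exists_affine_quotient_of_invariant {X : Sp S} {U R : Over S} [IsAffine U.left]
    (a : (yon S).obj U ⟶ X) [Epi a] (s t : R ⟶ U)
    (kp : IsPullback ((yon S).map s) ((yon S).map t) a a)
    (hsf : IsFinite s.left) (hse : Etale s.left)
    {Λ : CommRingCat.{u}} (i : Spec Λ ⟶ S) (h₀ : U.left ⟶ Spec Λ)
    (hh : h₀ ≫ i = U.hom) (hst : s.left ≫ h₀ = t.left ≫ h₀) :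
    ∃ (M : Over S) (q : U ⟶ M) (e : (yon S).obj M ≅ X), IsAffine M.left ∧ IsFinite q.left ∧
      Flat q.left ∧ Surjective q.left ∧ LocallyOfFinitePresentation q.left ∧
      (yon S).map q ≫ e.hom = a := by
  obtain ⟨e, hes, het⟩ := kp_lift kp (𝟙 U) (𝟙 U) rfl
  obtain ⟨σ, hσs, hσt⟩ := kp_lift kp t s kp.w.symm
  have heσ : e ≫ σ = e := kp_ext kp _ _ (by rw [Category.assoc, hσs, het, hes])
    (by rw [Category.assoc, hσt, hes, het])
  have hσσ : σ ≫ σ = 𝟙 R := kp_ext kp _ _ (by rw [Category.assoc, hσs, hσt, Category.id_comp])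
    (by rw [Category.assoc, hσt, hσs, Category.id_comp])
  obtain ⟨p23, hp23s, hp23t, sq2⟩ := kp_triple kp
  have sq1 : IsPullback (pullback.fst s s) (pullback.snd s s) s s := IsPullback.of_hasPullback s s
  have sq1L : IsPullback (pullback.fst s s).left (pullback.snd s s).left s.left s.left :=
    sq1.map (Over.forget S)
  have sq2L : IsPullback (pullback.fst s s).left p23.left t.left s.left :=
    sq2.map (Over.forget S)
  have hmono : ∀ {W : Scheme.{u}} (k k' : W ⟶ R.left), k ≫ s.left = k' ≫ s.left →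
      k ≫ t.left = k' ≫ t.left → k = k' := by
    intro W k k' h1 h2
    let K : Over.mk (k ≫ R.hom) ⟶ R := Over.homMk k rfl
    let K' : Over.mk (k ≫ R.hom) ⟶ R := Over.homMk k' (by
      change k' ≫ R.hom = k ≫ R.hom
      rw [← Over.w s, ← Category.assoc, ← Category.assoc, h1])
    have : K = K' := kp_ext kp K K' (Over.OverMorphism.ext h1) (Over.OverMorphism.ext h2)
    exact congrArg CommaMorphism.left this
  haveI := hsf
  haveI := hse
  obtain ⟨C, q₀, sqL, hsurj, hflat, hfp, hqfin, hdesc⟩ :=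
    exists_quotient_of_affine s.left t.left e.left σ.left (pullback.fst s s).left
      (pullback.snd s s).left p23.left
      (congrArg CommaMorphism.left hes) (congrArg CommaMorphism.left het)
      (congrArg CommaMorphism.left hσs) (congrArg CommaMorphism.left hσt)
      (congrArg CommaMorphism.left heσ) (congrArg CommaMorphism.left hσσ)
      (congrArg CommaMorphism.left hp23t.symm) sq1L sq2L hmono
  obtain ⟨ψ, hψ⟩ := hdesc h₀ hst
  let M : Over S := Over.mk (Spec.map ψ ≫ i)
  let q : U ⟶ M := Over.homMk q₀ (by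
    change q₀ ≫ Spec.map ψ ≫ i = U.hom
    rw [← Category.assoc, hψ, hh])
  have sqO : IsPullback s t q q :=
    IsPullback.of_map (Over.forget S) (Over.OverMorphism.ext sqL.w) sqL
  haveI : Epi ((yon S).map q) := AlgSpEpi_helper7.epi_yon_map q hsurj hflat hfp
  obtain ⟨e', he'⟩ := exists_iso_of_kernelPair a ((yon S).map q) kp (sqO.map (yon S))
  exact ⟨M, q, e', (inferInstance : IsAffine (Spec C)), hqfin, hflat, hsurj, hfp, he'⟩

/-- A sheaf separated over an affine scheme `Z`, with an étale surjective chart by a scheme finite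
over `Z`, is an affine scheme finite over `Z`. -/
theorem exists_finite_of_chart {P : Sp S} {Z W : Over S} [IsAffine Z.left]
    (q : P ⟶ (yon S).obj Z) (hq : IsSeparatedMor q) (a : (yon S).obj W ⟶ P)
    (hae : RepWith @Etale a) (has : RepWith @Surjective a) (i : W ⟶ Z)
    (hi : (yon S).map i = a ≫ q) (hif : IsFinite i.left) :
    ∃ (M : Over S) (i' : M ⟶ Z) (e : (yon S).obj M ≅ P), e.hom ≫ q = (yon S).map i' ∧
      IsAffine M.left ∧ IsFinite i'.left := by
  haveI := hif
  haveI : IsAffine W.left := isAffine_of_isAffineHom i.left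
  haveI : Epi a := epi_of_atlas a hae has
  have hZ := IsAlgSpace.yon_obj Z
  obtain ⟨W2, a', b', r, hr1, hr2, sqW, -⟩ :=
    exists_chart_of_isPullback hZ.diag (IsPullback.of_hasPullback q q) a a
  rw [← hi] at sqW
  have sqW' : IsPullback a'.left b'.left i.left i.left := isPullback_left_of_isPullback_yon sqW
  haveI : IsFinite a'.left := MorphismProperty.of_isPullback (P := @IsFinite) sqW'.flip hif
  have hq' : RepWith @IsClosedImmersion (pullback.diagonal q) := hq
  obtain ⟨E, ρ, fstE, sqE, hρ⟩ : ∃ (E : Over S) (ρ : E ⟶ W2) (fstE : (yon S).obj E ⟶ P),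
      IsPullback fstE ((yon S).map ρ) (pullback.diagonal q) r ∧ IsClosedImmersion ρ.left :=
    ⟨_, hq'.rep.snd r, hq'.rep.fst r, hq'.rep.isPullback r, hq'.property_snd r⟩
  haveI := hρ
  obtain ⟨s, hs⟩ : ∃ s : E ⟶ W, s = ρ ≫ a' := ⟨_, rfl⟩
  obtain ⟨t, ht⟩ : ∃ t : E ⟶ W, t = ρ ≫ b' := ⟨_, rfl⟩
  have hfst1 : (yon S).map s ≫ a = fstE := by
    rw [hs, Functor.map_comp, Category.assoc, ← hr1, ← Category.assoc, ← sqE.w, Category.assoc,
      pullback.diagonal_fst, Category.comp_id]
  have hfst2 : (yon S).map t ≫ a = fstE := by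
    rw [ht, Functor.map_comp, Category.assoc, ← hr2, ← Category.assoc, ← sqE.w, Category.assoc,
      pullback.diagonal_snd, Category.comp_id]
  have kp : IsPullback ((yon S).map s) ((yon S).map t) a a := by
    refine isPullback_of_forall_yon (hfst1.trans hfst2.symm) ?_
    intro T x y hxy
    have hβw : x ≫ (yon S).map i = y ≫ (yon S).map i := by
      rw [hi, ← Category.assoc, hxy, Category.assoc]
    obtain ⟨β, hβ1, hβ2⟩ : ∃ β : (yon S).obj T ⟶ (yon S).obj W2,
        β ≫ (yon S).map a' = x ∧ β ≫ (yon S).map b' = y :=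
      ⟨sqW.lift x y hβw, sqW.lift_fst _ _ _, sqW.lift_snd _ _ _⟩
    have hc : (x ≫ a) ≫ pullback.diagonal q = β ≫ r := by
      apply pullback.hom_ext
      · rw [Category.assoc, pullback.diagonal_fst, Category.comp_id, Category.assoc, hr1,
          ← Category.assoc, hβ1]
      · rw [Category.assoc, pullback.diagonal_snd, Category.comp_id, Category.assoc, hr2,
          ← Category.assoc, hβ2, hxy]
    refine ⟨sqE.lift (x ≫ a) β hc, ⟨?_, ?_⟩, ?_⟩
    · rw [hs, Functor.map_comp, ← Category.assoc, sqE.lift_snd, hβ1]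
    · rw [ht, Functor.map_comp, ← Category.assoc, sqE.lift_snd, hβ2]
    · rintro l ⟨hl1, hl2⟩
      apply sqE.hom_ext
      · rw [sqE.lift_fst, ← hfst1, ← Category.assoc, hl1]
      · rw [sqE.lift_snd]
        apply sqW.hom_ext
        · rw [Category.assoc, ← Functor.map_comp, ← hs, hl1, hβ1]
        · rw [Category.assoc, ← Functor.map_comp, ← ht, hl2, hβ2]
  have hse : Etale s.left := hae.property _ _ _ kp.flip
  have hsf : IsFinite s.left := by
    rw [hs, Over.comp_left]
    infer_instance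
  obtain ⟨h₀, hh₀⟩ : ∃ h₀ : W.left ⟶ Spec Γ(Z.left, ⊤), h₀ = i.left ≫ Z.left.isoSpec.hom :=
    ⟨_, rfl⟩
  have hh : h₀ ≫ (Z.left.isoSpec.inv ≫ Z.hom) = W.hom := by
    rw [hh₀, Category.assoc, Iso.hom_inv_id_assoc, Over.w i]
  have hsti : s ≫ i = t ≫ i := by
    apply (yon S).map_injective
    rw [Functor.map_comp, Functor.map_comp, hi, ← Category.assoc, ← Category.assoc, hfst1, hfst2]
  have hst : s.left ≫ h₀ = t.left ≫ h₀ := by
    rw [hh₀, ← Category.assoc, ← Category.assoc, ← Over.comp_left, ← Over.comp_left, hsti]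
  obtain ⟨M, qm, e, hM, hqfin, hqflat, hqsurj, hqfp, hqe⟩ :=
    exists_affine_quotient_of_invariant a s t kp hsf hse _ h₀ hh hst
  obtain ⟨i', hi'⟩ := (yon S).map_surjective (e.hom ≫ q)
  have hqi : qm ≫ i' = i := by
    apply (yon S).map_injective
    rw [Functor.map_comp, hi', ← Category.assoc, hqe, hi]
  refine ⟨M, i', e, hi'.symm, hM, ?_⟩
  haveI := hM
  haveI := hqfin
  haveI := hqflat
  haveI := hqsurj
  haveI := hqfp
  have hcomp : qm.left ≫ i'.left = i.left := by rw [← Over.comp_left, hqi]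
  haveI : IsFinite (qm.left ≫ i'.left) := by
    rw [hcomp]
    exact hif
  haveI : UniversallyClosed i'.left := UniversallyClosed.of_comp_surjective qm.left i'.left
  haveI : IsAffineHom i'.left := inferInstance
  haveI : IsIntegralHom i'.left :=
    IsIntegralHom.iff_universallyClosed_and_isAffineHom.2 ⟨‹_›, ‹_›⟩
  haveI : LocallyOfFiniteType (qm.left ≫ i'.left) := inferInstance
  haveI : LocallyOfFiniteType i'.left :=
    Groth.Agent.Lib.AlgSpLocSurjH7.lft_of_fppf_comp qm.left i'.left
  exact (IsFinite.iff_isIntegralHom_and_locallyOfFiniteType _).2 ⟨‹_›, ‹_›⟩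

/-- If `p : U ⟶ X` is étale and surjective, `f : X ⟶ Y` is separated and `p ≫ f` is finite, then
`f` is finite. -/
theorem isFiniteMor_of_etale_surjective_precomp {U X Y : Space S} (p : U ⟶ X) (f : X ⟶ Y)
    (hp : IsEtaleMor p.hom) (hps : IsSurjectiveMor p.hom)
    (hf : IsSeparatedMor f.hom) (h : IsFiniteMor (p ≫ f).hom) : IsFiniteMor f.hom := by
  intro Z hZ g
  haveI := hZ
  obtain ⟨W, i, fstU, sqU, -, hif⟩ := h hZ g
  have sqU' : IsPullback fstU ((yon S).map i) (p.hom ≫ f.hom) g := sqU
  have sqP := IsPullback.of_hasPullback f.hom g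
  have hP : IsAlgSpace (pullback f.hom g) :=
    isAlgSpace_of_isPullback Y.property.diag X.property (IsAlgSpace.yon_obj Z) sqP
  obtain ⟨a, ha1, ha2⟩ : ∃ a : (yon S).obj W ⟶ pullback f.hom g,
      a ≫ pullback.fst f.hom g = fstU ≫ p.hom ∧ a ≫ pullback.snd f.hom g = (yon S).map i :=
    ⟨pullback.lift (fstU ≫ p.hom) ((yon S).map i) (by rw [Category.assoc, sqU'.w]),
      pullback.lift_fst _ _ _, pullback.lift_snd _ _ _⟩
  have sqL : IsPullback fstU a p.hom (pullback.fst f.hom g) := by
    have big : IsPullback (a ≫ pullback.snd f.hom g) fstU g (p.hom ≫ f.hom) := by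
      rw [ha2]
      exact sqU'.flip
    exact (IsPullback.of_right big ha1 sqP.flip).flip
  have hae' : IsEtaleMor a :=
    isEtaleMor_of_isPullback U.property X.property hP sqL hp
  have hae : RepWith @Etale a := by
    have := hae' (𝟙 _) (repWith_id _ W)
    rwa [Category.id_comp] at this
  have has : RepWith @Surjective a :=
    (repWith_surjective_iff a (hP.representable_from_yon a)).2
      (isSurjectiveMor_of_isPullback sqL hps)
  have hq : IsSeparatedMor (pullback.snd f.hom g) := isSeparatedMor_of_isPullback sqP hf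
  obtain ⟨M, i', e, he, hM, hi'⟩ :=
    exists_finite_of_chart (pullback.snd f.hom g) hq a hae has i ha2.symm hif
  refine ⟨M, i', e.hom ≫ pullback.fst f.hom g, ?_, hM, hi'⟩
  rw [← he]
  exact IsPullback.of_iso sqP e.symm (Iso.refl _) (Iso.refl _) (Iso.refl _) (by simp) (by simp)
    (by simp) (by simp)

end Groth.Agent.Lib.AlgSpFinDescH6
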