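import Mathlib
import Groth.Prelude.Def_AlgSpSub
import Groth.Agent.Lib.FppfGlue_helper7

/-!
# Elementary distinguished squares are pushouts (helper7)
-/

set_option autoImplicit false
universe u
open CategoryTheory CategoryTheory.Limits AlgebraicGeometry Opposite
open AlgSp Groth.Agent.Lib.AlgSpPoints_helper7 Groth.Agent.Lib.AlgSpPullback_helper7
  Groth.Agent.Lib.AlgSpOpenSub_helper7 Groth.Agent.Lib.AlgSpCov_helper7
  Groth.Agent.Lib.AlgSpFormal_helper7 Groth.Agent.Lib.AlgSpFormal3_helper7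
  Groth.Agent.Lib.AlgSpFormal5_helper7 Groth.Agent.Lib.AlgSpSmST_helper7
  Groth.Agent.Lib.AlgSpBasic_helper7 Groth.Agent.Lib.AlgSpDiag_helper7
  Groth.Agent.Lib.AlgSpEpi_helper7 Groth.Agent.Lib.AlgSpEtale_helper7
  Groth.Agent.Lib.FppfGlue_helper7

namespace Groth.Agent.Lib.ElemDistSq_helper7

variable {S : Scheme.{u}}

theorem isEtaleMor_of_repWith' {F G : Sp S} (j : F ⟶ G) (hj : RepWith @Etale j) :
    IsEtaleMor j :=
  fun _ _ hφ => (repWith_isMultiplicative (S := S) @Etale).comp_mem _ _ hφ hj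

theorem mono_of_closedImmersion {F G : Sp S} (i : F ⟶ G) (hi : RepWith @IsClosedImmersion i) :
    Mono i :=
  mono_of_repWith_le_mono (P := @IsClosedImmersion)
    (fun _ _ g hg => by
      have : IsClosedImmersion g := hg
      exact (inferInstance : Mono g)) i hi

/-- The diagonal of an étale morphism of algebraic spaces is an open immersion. -/
theorem repWith_openImmersion_diagonal {V W : Sp S} (hV : IsAlgSpace V) (hW : IsAlgSpace W)
    (f : V ⟶ W) (hf : IsEtaleMor f) : RepWith @IsOpenImmersion (pullback.diagonal f) := by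
  have hVV : IsAlgSpace (pullback f f) :=
    isAlgSpace_of_isPullback hW.diag hV hV (IsPullback.of_hasPullback f f)
  have hsnd : IsEtaleMor (pullback.snd f f) :=
    isEtaleMor_of_isPullback hV hW hV (IsPullback.of_hasPullback f f) hf
  have hΔe : IsEtaleMor (pullback.diagonal f) :=
    isEtaleMor_of_comp hVV hV _ (pullback.snd f f)
      (by rw [pullback.diagonal_snd]; exact isEtaleMor_id V) hsnd
  obtain ⟨-, hmono, -, -⟩ := diagonal_properties hV f
  refine ⟨hmono.rep, fun T' T'' g fst snd sq => ?_⟩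
  have h1 : IsEtaleMor ((yon S).map snd) :=
    isEtaleMor_of_isPullback hV hVV (IsAlgSpace.yon_obj _) sq hΔe
  have h2 : Etale snd.left := (isEtaleMor_yon_map_iff snd).1 h1
  have h3 : Mono snd.left := hmono.property g fst snd sq
  exact IsOpenImmersion.of_flat_of_mono snd.left

section EDS

variable {U V W P : Sp S} (hV : IsAlgSpace V) (hW : IsAlgSpace W)
  (j : U ⟶ W) (f : V ⟶ W) (hj : RepWith @IsOpenImmersion j) (hf : IsEtaleMor f)
  {T₀ P₀ : Sp S} (i : T₀ ⟶ W) (p₁ : P₀ ⟶ T₀) (p₂ : P₀ ⟶ V)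
  (hi : RepWith @IsClosedImmersion i)
  (hrange : Set.range (Points.map i) = (Set.range (Points.map j))ᶜ)
  (sq₀ : IsPullback p₁ p₂ i f) [IsIso p₁]
  (p : P ⟶ U) (q : P ⟶ V) (sqP : IsPullback p q j f)

include hi hrange sq₀ in
/-- Two field-valued points of `V` with the same image in `W` outside `U` agree. -/
theorem eq_on_field_of_not_mem {k : Type u} [Field k] (str : Spec (CommRingCat.of k) ⟶ S)
    (x y : (yon S).obj (Over.mk str) ⟶ V) (hxy : x ≫ f = y ≫ f)
    (s : ↥(Over.mk str).left)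
    (hs : Points.ofPt (x ≫ f) s ∉ Set.range (Points.map j)) : x = y := by
  have hmem : Points.ofPt (x ≫ f) s ∈ Set.range (Points.map i) := by rw [hrange]; exact hs
  obtain ⟨τ₀, hτ₀⟩ := hmem
  obtain ⟨C, sndC, fstC, sqC⟩ : ∃ (C : Over S) (sndC : C ⟶ Over.mk str)
      (fstC : (yon S).obj C ⟶ T₀), IsPullback fstC ((yon S).map sndC) i (x ≫ f) :=
    ⟨_, _, _, hi.rep.isPullback (x ≫ f)⟩
  haveI : Mono i := mono_of_closedImmersion i hi
  haveI : Mono ((yon S).map sndC) := sqC.mono_snd_of_mono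
  obtain ⟨z, -, -⟩ := exists_of_isPullback sqC τ₀ (Points.ofScheme _ s)
    (by rw [hτ₀]; exact Points.ofPt_eq_map_ofScheme _ _)
  haveI : IsIso ((yon S).map sndC) :=
    isIso_of_mono_to_field str (IsAlgSpace.yon_obj C) ((yon S).map sndC) ⟨z⟩
  have hr : (inv ((yon S).map sndC) ≫ fstC) ≫ i = x ≫ f := by
    rw [Category.assoc, sqC.w, IsIso.inv_hom_id_assoc]
  have e1 : sq₀.lift _ x hr ≫ p₁ = inv ((yon S).map sndC) ≫ fstC := sq₀.lift_fst _ _ _
  have e2 : sq₀.lift _ y (hr.trans hxy) ≫ p₁ = inv ((yon S).map sndC) ≫ fstC :=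
    sq₀.lift_fst _ _ _
  have e3 : sq₀.lift _ x hr = sq₀.lift _ y (hr.trans hxy) := by
    rw [← cancel_mono p₁, e1, e2]
  calc x = sq₀.lift _ x hr ≫ p₂ := (sq₀.lift_snd _ _ _).symm
    _ = sq₀.lift _ y (hr.trans hxy) ≫ p₂ := by rw [e3]
    _ = y := sq₀.lift_snd _ _ _

include hV hW hj hf hi hrange sq₀ sqP in
theorem compat_VV {Z : Sp S} (a : U ⟶ Z) (b : V ⟶ Z) (hab : p ≫ a = q ≫ b) {T : Over S}
    (x y : (yon S).obj T ⟶ V) (hxy : x ≫ f = y ≫ f) : x ≫ b = y ≫ b := by
  -- the open where the common image lies in `U`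
  obtain ⟨T₁, e₁, u₁, sq₁⟩ : ∃ (T₁ : Over S) (e₁ : T₁ ⟶ T) (u₁ : (yon S).obj T₁ ⟶ U),
      IsPullback u₁ ((yon S).map e₁) j (x ≫ f) := ⟨_, _, _, hj.rep.isPullback (x ≫ f)⟩
  haveI ho₁ : IsOpenImmersion e₁.left := hj.property (x ≫ f) u₁ e₁ sq₁
  -- the open where `x = y`
  have hΔ := repWith_openImmersion_diagonal hV hW f hf
  obtain ⟨xy, hxy1, hxy2⟩ : ∃ xy : (yon S).obj T ⟶ pullback f f,
      xy ≫ pullback.fst f f = x ∧ xy ≫ pullback.snd f f = y :=
    ⟨pullback.lift x y hxy, pullback.lift_fst _ _ _, pullback.lift_snd _ _ _⟩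
  obtain ⟨T₂, e₂, v₂, sq₂⟩ : ∃ (T₂ : Over S) (e₂ : T₂ ⟶ T) (v₂ : (yon S).obj T₂ ⟶ V),
      IsPullback v₂ ((yon S).map e₂) (pullback.diagonal f) xy := ⟨_, _, _, hΔ.rep.isPullback xy⟩
  haveI ho₂ : IsOpenImmersion e₂.left := hΔ.property xy v₂ e₂ sq₂
  -- agreement on the first open
  have h₁ : ((yon S).map e₁ ≫ x) ≫ b = ((yon S).map e₁ ≫ y) ≫ b := by
    have c1 : u₁ ≫ j = ((yon S).map e₁ ≫ x) ≫ f := by rw [sq₁.w, Category.assoc]
    have c2 : u₁ ≫ j = ((yon S).map e₁ ≫ y) ≫ f := by rw [sq₁.w, Category.assoc, ← hxy]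
    have d1 : ((yon S).map e₁ ≫ x) ≫ b = u₁ ≫ a := by
      calc ((yon S).map e₁ ≫ x) ≫ b = (sqP.lift u₁ ((yon S).map e₁ ≫ x) c1 ≫ q) ≫ b := by
            rw [sqP.lift_snd]
        _ = sqP.lift u₁ ((yon S).map e₁ ≫ x) c1 ≫ p ≫ a := by rw [Category.assoc, hab]
        _ = u₁ ≫ a := by rw [← Category.assoc, sqP.lift_fst]
    have d2 : ((yon S).map e₁ ≫ y) ≫ b = u₁ ≫ a := by
      calc ((yon S).map e₁ ≫ y) ≫ b = (sqP.lift u₁ ((yon S).map e₁ ≫ y) c2 ≫ q) ≫ b := by
            rw [sqP.lift_snd]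
        _ = sqP.lift u₁ ((yon S).map e₁ ≫ y) c2 ≫ p ≫ a := by rw [Category.assoc, hab]
        _ = u₁ ≫ a := by rw [← Category.assoc, sqP.lift_fst]
    exact d1.trans d2.symm
  -- agreement on the second open
  have h₂ : ((yon S).map e₂ ≫ x) ≫ b = ((yon S).map e₂ ≫ y) ≫ b := by
    have k1 : (yon S).map e₂ ≫ x = v₂ := by
      calc (yon S).map e₂ ≫ x = (yon S).map e₂ ≫ xy ≫ pullback.fst f f := by rw [hxy1]
        _ = (v₂ ≫ pullback.diagonal f) ≫ pullback.fst f f := by
            rw [← Category.assoc, ← sq₂.w]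
        _ = v₂ := by rw [Category.assoc, pullback.diagonal_fst, Category.comp_id]
    have k2 : (yon S).map e₂ ≫ y = v₂ := by
      calc (yon S).map e₂ ≫ y = (yon S).map e₂ ≫ xy ≫ pullback.snd f f := by rw [hxy2]
        _ = (v₂ ≫ pullback.diagonal f) ≫ pullback.snd f f := by
            rw [← Category.assoc, ← sq₂.w]
        _ = v₂ := by rw [Category.assoc, pullback.diagonal_snd, Category.comp_id]
    rw [k1, k2]
  -- the two opens cover
  have hs : ∀ t : ↥T.left, t ∈ Set.range e₁.left ∨ t ∈ Set.range e₂.left := by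
    intro t
    by_cases ht : Points.ofPt (x ≫ f) t ∈ Set.range (Points.map j)
    · left
      obtain ⟨ξ, hξ⟩ := ht
      obtain ⟨z, -, hz2⟩ := exists_of_isPullback sq₁ ξ (Points.ofScheme T t)
        (by rw [hξ]; exact Points.ofPt_eq_map_ofScheme _ _)
      obtain ⟨s, rfl⟩ := ofScheme_surjective T₁ z
      refine ⟨s, ?_⟩
      apply ofScheme_injective T
      rw [← ofPt_yon_map, Points.ofPt_eq_map_ofScheme]
      exact hz2
    · right
      obtain ⟨q₀, hq₀⟩ := Points.mk_surjective (Points.ofScheme T t)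
      obtain ⟨tb, htb⟩ := (yon S).map_surjective q₀.toHom
      have hpt : ∀ s : ↥q₀.pt.left, tb.left s = t := by
        intro s
        apply ofScheme_injective T
        rw [← ofPt_yon_map, htb, Points.ofPt_toHom, hq₀]
      have hxyK : (yon S).map tb ≫ x = (yon S).map tb ≫ y := by
        refine eq_on_field_of_not_mem j f i p₁ p₂ hi hrange sq₀ q₀.str
          ((yon S).map tb ≫ x) ((yon S).map tb ≫ y)
          (by rw [Category.assoc, Category.assoc, hxy]) (IsLocalRing.closedPoint q₀.K) ?_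
        rw [Category.assoc, ofPt_comp, hpt]
        exact ht
      obtain ⟨ℓ, hℓ⟩ := (yon S).map_surjective
        (sq₂.lift ((yon S).map tb ≫ x) ((yon S).map tb) (by
          apply pullback.hom_ext
          · rw [Category.assoc, pullback.diagonal_fst, Category.comp_id, Category.assoc, hxy1]
          · rw [Category.assoc, pullback.diagonal_snd, Category.comp_id, Category.assoc, hxy2,
              hxyK]))
      have hℓe : ℓ ≫ e₂ = tb := (yon S).map_injective (by
        rw [Functor.map_comp, hℓ, sq₂.lift_snd])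
      refine ⟨ℓ.left (IsLocalRing.closedPoint q₀.K), ?_⟩
      have h5 : (ℓ ≫ e₂).left (IsLocalRing.closedPoint q₀.K) = t := by
        rw [hℓe]; exact hpt _
      simpa using h5
  exact hom_ext_of_two e₁ e₂ hs (x ≫ b) (y ≫ b)
    (by simpa only [Category.assoc] using h₁) (by simpa only [Category.assoc] using h₂)

include sqP in
theorem compat_UV {Z : Sp S} (a : U ⟶ Z) (b : V ⟶ Z) (hab : p ≫ a = q ≫ b) {T : Over S}
    (x : (yon S).obj T ⟶ U) (y : (yon S).obj T ⟶ V) (hxy : x ≫ j = y ≫ f) :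
    x ≫ a = y ≫ b := by
  calc x ≫ a = (sqP.lift x y hxy ≫ p) ≫ a := by rw [sqP.lift_fst]
    _ = sqP.lift x y hxy ≫ q ≫ b := by rw [Category.assoc, hab]
    _ = y ≫ b := by rw [← Category.assoc, sqP.lift_snd]

include hj hf hrange sq₀ in
theorem isFppfCover_pair : IsFppfCover (pair U V) (pairHom j f) := by
  have hje : IsEtaleMor j := isEtaleMor_of_repWith' j (repWith_etale_of_openImmersion hj)
  refine ⟨fun k => match k with
    | ⟨true⟩ => ⟨locP_of_isEtaleMor _ (fun _ _ g (hg : Etale g) => (inferInstance : Flat g)) j hje,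
        locP_of_isEtaleMor _
          (fun _ _ g (hg : Etale g) => (inferInstance : LocallyOfFinitePresentation g)) j hje⟩
    | ⟨false⟩ => ⟨locP_of_isEtaleMor _ (fun _ _ g (hg : Etale g) => (inferInstance : Flat g)) f hf,
        locP_of_isEtaleMor _
          (fun _ _ g (hg : Etale g) => (inferInstance : LocallyOfFinitePresentation g)) f hf⟩,
    fun x => ?_⟩
  by_cases hx : x ∈ Set.range (Points.map j)
  · exact ⟨⟨true⟩, hx⟩
  · have hx' : x ∈ Set.range (Points.map i) := by rw [hrange]; exact hx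
    obtain ⟨τ, rfl⟩ := hx'
    refine ⟨⟨false⟩, Points.map p₂ (Points.map (inv p₁) τ), ?_⟩
    show Points.map f (Points.map p₂ (Points.map (inv p₁) τ)) = Points.map i τ
    rw [← Points.map_comp, ← Points.map_comp, ← sq₀.w, ← Category.assoc, IsIso.inv_hom_id,
      Category.id_comp]

end EDS

/-- An elementary distinguished square is a pushout square of algebraic spaces. -/
theorem isPushout_of_isElemDistSq {U V W P : Space S} (j : U ⟶ W) (f : V ⟶ W)
    (hsq : IsElemDistSq j.hom f.hom) (p : P ⟶ U) (q : P ⟶ V)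
    (hP : IsPullback p.hom q.hom j.hom f.hom) : IsPushout p q j f := by
  obtain ⟨hj, hf, T₀, P₀, i, p₁, p₂, ⟨hi, hrange, -⟩, sq₀, hiso⟩ := hsq
  haveI := hiso
  have hcov : IsFppfCover (pair U.obj V.obj) (pairHom j.hom f.hom) :=
    isFppfCover_pair j.hom f.hom hj hf i p₁ p₂ hrange sq₀
  have hpair := pair_isAlgSpace U.property V.property
  haveI : Mono j.hom := mono_of_openImmersion j.hom hj
  have w : p ≫ j = q ≫ f := ObjectProperty.hom_ext _ hP.w
  have key : ∀ s : PushoutCocone p q, ∃ m : W ⟶ s.pt, j ≫ m = s.inl ∧ f ≫ m = s.inr := by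
    intro s
    have hab : p.hom ≫ s.inl.hom = q.hom ≫ s.inr.hom := congrArg (fun k => k.hom) s.condition
    obtain ⟨m, hm⟩ := desc_of_fppfCover W.property (pair U.obj V.obj) hpair
      (pairHom j.hom f.hom) hcov (pairHom s.inl.hom s.inr.hom) (by
        rintro ⟨_ | _⟩ ⟨_ | _⟩ T x y hxy
        · exact compat_VV V.property W.property j.hom f.hom hj hf i p₁ p₂ hi hrange sq₀
            p.hom q.hom hP s.inl.hom s.inr.hom hab x y hxy
        · exact (compat_UV j.hom f.hom p.hom q.hom hP s.inl.hom s.inr.hom hab y x hxy.symm).symm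
        · exact compat_UV j.hom f.hom p.hom q.hom hP s.inl.hom s.inr.hom hab x y hxy
        · have hxy' : x = y := (cancel_mono j.hom).1 hxy
          rw [hxy'])
    exact ⟨ObjectProperty.homMk m, ObjectProperty.hom_ext _ (hm ⟨true⟩),
      ObjectProperty.hom_ext _ (hm ⟨false⟩)⟩
  refine ⟨⟨w⟩, ⟨PushoutCocone.IsColimit.mk w (fun s => (key s).choose)
    (fun s => (key s).choose_spec.1) (fun s => (key s).choose_spec.2) (fun s m h₁ h₂ => ?_)⟩⟩
  apply ObjectProperty.hom_ext
  apply hom_ext_of_fppfCover W.property (pair U.obj V.obj) hpair (pairHom j.hom f.hom) hcov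
  intro k
  match k with
  | ⟨true⟩ =>
    exact (congrArg (fun k => k.hom) h₁).trans
      (congrArg (fun k => k.hom) (key s).choose_spec.1).symm
  | ⟨false⟩ =>
    exact (congrArg (fun k => k.hom) h₂).trans
      (congrArg (fun k => k.hom) (key s).choose_spec.2).symm

end Groth.Agent.Lib.ElemDistSq_helper7
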