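import Mathlib
import Groth.Agent.Lib.AlgSpFinDesc_helper6
import Groth.Agent.Lib.AlgSpProper_helper7
import Groth.Agent.Lib.ElemDistSq_helper7

/-!
# Étale localization splits off the quasi-finite part, for algebraic spaces (helper6)
-/

set_option autoImplicit false
universe u
open CategoryTheory CategoryTheory.Limits AlgebraicGeometry Opposite TopologicalSpace

namespace Groth.Agent.Lib.AlgSpEtSplitH6

open AlgSp Groth.Agent.Lib.AlgSpPoints_helper7 Groth.Agent.Lib.AlgSpOpenSub_helper7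
  Groth.Agent.Lib.AlgSpPullback_helper7 Groth.Agent.Lib.AlgSpIso_helper7
  Groth.Agent.Lib.AlgSpBasic_helper7 Groth.Agent.Lib.AlgSpDescent_helper7
  Groth.Agent.Lib.AlgSpSmST_helper7 Groth.Agent.Lib.AlgSpSep_helper7
  Groth.Agent.Lib.AlgSpUnram_helper7 Groth.Agent.Lib.AlgSpQC2_helper7
  Groth.Agent.Lib.AlgSpFinDescH6 Groth.Agent.Lib.AlgSpProper_helper7
  Groth.Agent.Lib.ElemDistSq_helper7

variable {S : Scheme.{u}}

/-- A representable finite morphism is finite in the sense of `IsFiniteMor`. -/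
theorem isFiniteMor_of_repWith {F G : Sp S} (f : F ⟶ G) (hf : RepWith @IsFinite f) :
    IsFiniteMor f := by
  intro Z hZ g
  haveI := hZ
  obtain ⟨W, i, fst, sq⟩ := hf.rep g
  have hi : IsFinite i.left := hf.property _ _ _ sq
  exact ⟨W, i, fst, sq, isAffine_of_isAffineHom i.left, hi⟩

theorem map_ofPt_eq_ofScheme {F : Sp S} {V T : Over S} (c : (yon S).obj V ⟶ F)
    (q : F ⟶ (yon S).obj T) (k : V ⟶ T) (e : c ≫ q = (yon S).map k) (v : ↥V.left) :
    Points.map q (Points.ofPt c v) = Points.ofScheme T (k.left v) := by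
  rw [Points.map_ofPt, e, ofPt_yon_map]

/-- The graph argument: the comparison `A ×_B Z ⟶ A ×_C Z` is a closed immersion when `B ⟶ C` is
separated. -/
theorem repWith_of_graph {A B C Z A1 A2 : Sp S} (f : A ⟶ B) (g : Z ⟶ B) (i : B ⟶ C)
    (hi : IsSeparatedMor i) {fst1 : A1 ⟶ A} {snd1 : A1 ⟶ Z} (sq1 : IsPullback fst1 snd1 f g)
    {fst2 : A2 ⟶ A} {snd2 : A2 ⟶ Z} (sq2 : IsPullback fst2 snd2 (f ≫ i) (g ≫ i))
    (s : A1 ⟶ A2) (hs1 : s ≫ fst2 = fst1) (hs2 : s ≫ snd2 = snd1) :
    RepWith @IsClosedImmersion s := by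
  have h0 : RepWith @IsClosedImmersion
      (pullback.map f g (f ≫ i) (g ≫ i) (𝟙 _) (𝟙 _) i (Category.id_comp _).symm
        (Category.id_comp _).symm) :=
    MorphismProperty.of_isPullback (P := RepWith @IsClosedImmersion)
      (pullback_map_diagonal_isPullback f g i) hi
  have e : s = sq1.isoPullback.hom ≫ pullback.map f g (f ≫ i) (g ≫ i) (𝟙 _) (𝟙 _) i
      (Category.id_comp _).symm (Category.id_comp _).symm ≫ sq2.isoPullback.inv := by
    apply sq2.hom_ext
    · rw [hs1, Category.assoc, Category.assoc, IsPullback.isoPullback_inv_fst, pullback.map,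
        pullback.lift_fst, Category.comp_id, IsPullback.isoPullback_hom_fst]
    · rw [hs2, Category.assoc, Category.assoc, IsPullback.isoPullback_inv_snd, pullback.map,
        pullback.lift_snd, Category.comp_id, IsPullback.isoPullback_hom_snd]
  rw [e]
  exact repWith_comp _ (AlgSpBasic_helper7.repWith_of_isIso _ _)
    (repWith_comp _ h0 (AlgSpBasic_helper7.repWith_of_isIso _ _))

/-- An open immersion into a space separated over `G`, finite over `G`, is a closed immersion. -/
theorem repWith_isClosedImmersion_of_finite {PV P G : Sp S} (j : PV ⟶ P) (q : P ⟶ G)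
    (hj : RepWith @IsOpenImmersion j) (hq : IsSeparatedMor q) (hfin : IsFiniteMor (j ≫ q)) :
    RepWith @IsClosedImmersion j := by
  apply repWith_of_forall_affine @IsClosedImmersion j hj.rep
  intro Z ZV g fst snd hZ sq
  obtain ⟨Wz, i, fstW, sqW, hWz, hi⟩ := hfin hZ (g ≫ q)
  have w : fst ≫ (j ≫ q) = (yon S).map snd ≫ (g ≫ q) := by
    rw [← Category.assoc, sq.w, Category.assoc]
  obtain ⟨s, hs⟩ := (yon S).map_surjective (sqW.lift fst ((yon S).map snd) w)
  have hs1 : (yon S).map s ≫ fstW = fst := by rw [hs, sqW.lift_fst]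
  have hs2 : (yon S).map s ≫ (yon S).map i = (yon S).map snd := by rw [hs, sqW.lift_snd]
  have hsi : s ≫ i = snd := (yon S).map_injective (by rw [Functor.map_comp, hs2])
  have hcl : RepWith @IsClosedImmersion ((yon S).map s) :=
    repWith_of_graph j g q hq sq sqW _ hs1 hs2
  haveI hcl' : IsClosedImmersion s.left := (repWith_yon_map_iff _ _).1 hcl
  haveI hopen : IsOpenImmersion snd.left := hj.property _ _ _ sq
  haveI := hi
  haveI : IsFinite snd.left := by
    rw [← hsi, Over.comp_left]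
    infer_instance
  exact IsClosedImmersion.of_isPreimmersion _ (snd.left.isClosedMap.isClosed_range)

/-- Chart form of: étale localization splits off one quasi-finite part. -/
theorem exists_split {X Y : Space S} (f : X ⟶ Y)
    (hf1 : LocP @LocallyOfFiniteType f.hom) (hf2 : IsSeparatedMor f.hom)
    {U₁ V₁ : Over S} (a₁ : (yon S).obj U₁ ⟶ X.obj) (b₁ : (yon S).obj V₁ ⟶ Y.obj) (h : U₁ ⟶ V₁)
    (u₁ : ↥U₁.left) (ha₁ : RepWith @Etale a₁) (hb₁ : RepWith @Etale b₁)
    (hcomm : a₁ ≫ f.hom = (yon S).map h ≫ b₁) (W : U₁.left.Opens) (hu : u₁ ∈ W)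
    (hlqf : LocallyQuasiFinite (W.ι ≫ h.left)) :
    ∃ (U : Space S) (a : U ⟶ Y) (u : Points U.obj), IsEtaleMor a.hom ∧
      Points.map a.hom u = Points.map f.hom (Points.ofPt a₁ u₁) ∧
      ∀ (P : Space S) (prX : P ⟶ X) (prU : P ⟶ U), IsPullback prX.hom prU.hom f.hom a.hom →
        ∃ (V : Space S) (jV : V ⟶ P), RepWith @IsOpenImmersion jV.hom ∧
          RepWith @IsClosedImmersion jV.hom ∧ IsFiniteMor (jV ≫ prU).hom ∧
          ∃ v : Points V.obj, Points.map (jV ≫ prX).hom v = Points.ofPt a₁ u₁ ∧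
            Points.map (jV ≫ prU).hom v = u := by
  obtain ⟨_, ⟨O₀, hO, rfl⟩, huO, hOW⟩ :=
    U₁.left.isBasis_affineOpens.exists_subset_of_mem_open hu W.2
  let O : U₁.left.Opens := O₀
  have hOW : O ≤ W := hOW
  let U₂ : Over S := Over.mk (O.ι ≫ U₁.hom)
  let j : U₂ ⟶ U₁ := Over.homMk O.ι rfl
  let a₂ : (yon S).obj U₂ ⟶ X.obj := (yon S).map j ≫ a₁
  have ha₂ : RepWith @Etale a₂ := repWith_etale_restrict a₁ ha₁ O
  let h₂ : U₂ ⟶ V₁ := j ≫ h
  have hcomm₂ : a₂ ≫ f.hom = (yon S).map h₂ ≫ b₁ := by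
    simp only [a₂, h₂, Functor.map_comp, Category.assoc, hcomm]
  haveI : IsAffine U₂.left := hO
  haveI hlft₂ : LocallyOfFiniteType h₂.left := hf1 a₂ b₁ h₂ ha₂ hb₁ hcomm₂
  haveI hlqf₂ : LocallyQuasiFinite h₂.left := by
    have e : h₂.left = U₁.left.homOfLE hOW ≫ (W.ι ≫ h.left) := by
      rw [← Category.assoc, Scheme.homOfLE_ι]
      rfl
    rw [e]
    infer_instance
  let u₂ : ↥U₂.left := (⟨u₁, huO⟩ : O)
  have hu₂ : j.left u₂ = u₁ := rfl
  obtain ⟨T, g, hg, -, V, W', v, hVW, hfin, hv⟩ :=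
    exists_etale_isCompl_of_quasiFiniteAt h₂.left (x := u₂) rfl (Scheme.Hom.quasiFiniteAt _ u₂)
  haveI := hg
  let T' : Over S := Over.mk (g ≫ V₁.hom)
  let gT : T' ⟶ V₁ := Over.homMk g rfl
  let Q' : Over S := Over.mk (pullback.fst h₂.left g ≫ U₂.hom)
  let qU : Q' ⟶ U₂ := Over.homMk (pullback.fst h₂.left g) rfl
  let qT : Q' ⟶ T' := Over.homMk (pullback.snd h₂.left g) (by
    show pullback.snd h₂.left g ≫ g ≫ V₁.hom = pullback.fst h₂.left g ≫ U₂.hom
    rw [← pullback.condition_assoc, Over.w h₂])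
  have hqq : qU ≫ h₂ = qT ≫ gT := Over.OverMorphism.ext pullback.condition
  let VO : Over S := Over.mk (V.ι ≫ Q'.hom)
  let jQ : VO ⟶ Q' := Over.homMk V.ι rfl
  have hfin' : IsFinite (jQ ≫ qT).left := hfin
  let Usp : Space S := (ofScheme S).obj T'
  have hae : RepWith @Etale ((yon S).map gT ≫ b₁) :=
    repWith_comp _ ((repWith_yon_map_iff @Etale gT).2 hg) hb₁
  let a : Usp ⟶ Y := ObjectProperty.homMk ((yon S).map gT ≫ b₁)
  let t₀ : ↥T'.left := pullback.snd h₂.left g v.1
  have e1 : g (pullback.snd h₂.left g v.1) = h.left u₁ := by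
    have e0 : g (pullback.snd h₂.left g v.1) = h₂.left (pullback.fst h₂.left g v.1) := by
      rw [← Scheme.Hom.comp_apply, ← Scheme.Hom.comp_apply, pullback.condition]
    rw [hv] at e0
    exact e0
  refine ⟨Usp, a, Points.ofScheme T' t₀, isEtaleMor_of_repWith' _ hae, ?_, ?_⟩
  · show Points.map ((yon S).map gT ≫ b₁) (Points.ofScheme T' t₀) = _
    rw [← Points.ofPt_eq_map_ofScheme, ofPt_comp, Points.map_ofPt, hcomm, ofPt_comp]
    exact congrArg _ e1
  · intro P prX prU sqP
    have sqP' : IsPullback prX.hom prU.hom f.hom ((yon S).map gT ≫ b₁) := sqP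
    have wc : ((yon S).map qU ≫ a₂) ≫ f.hom = (yon S).map qT ≫ ((yon S).map gT ≫ b₁) := by
      rw [Category.assoc, hcomm₂, ← Category.assoc, ← Functor.map_comp, hqq, Functor.map_comp,
        Category.assoc]
    let c : (yon S).obj Q' ⟶ P.obj := sqP'.lift ((yon S).map qU ≫ a₂) ((yon S).map qT) wc
    have hc1 : c ≫ prX.hom = (yon S).map qU ≫ a₂ := sqP'.lift_fst _ _ _
    have hc2 : c ≫ prU.hom = (yon S).map qT := sqP'.lift_snd _ _ _
    have hprX : IsEtaleMor prX.hom :=
      isEtaleMor_of_isPullback Usp.property Y.property X.property sqP'.flip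
        (isEtaleMor_of_repWith' _ hae)
    have hqUe : Etale qU.left := inferInstanceAs (Etale (pullback.fst h₂.left g))
    have hcE : IsEtaleMor c := by
      apply isEtaleMor_of_comp P.property X.property c prX.hom _ hprX
      rw [hc1]
      exact isEtaleMor_of_repWith' _
        (repWith_comp _ ((repWith_yon_map_iff @Etale qU).2 hqUe) ha₂)
    have hce : RepWith @Etale c := by
      have := hcE (𝟙 _) (repWith_id _ _)
      rwa [Category.id_comp] at this
    let cV : (yon S).obj VO ⟶ P.obj := (yon S).map jQ ≫ c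
    have hcVe : RepWith @Etale cV := repWith_etale_restrict c hce V
    let Wset : Set (Points P.obj) := Set.range (Points.ofPt cV)
    have hWo : IsOpen Wset := (isOpenMap_ofPt_of_etale cV hcVe).isOpen_range
    let PV : Space S := ⟨openSub P.obj Wset, isAlgSpace_openSub P.property hWo⟩
    let jV : PV ⟶ P := ObjectProperty.homMk (openSubι P.obj Wset)
    have hjV : RepWith @IsOpenImmersion jV.hom := repWith_isOpenImmersion_openSubι hWo
    have hrange : Set.range (Points.map jV.hom) = Wset := range_map_openSubι P.property hWo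
    obtain ⟨cV', hcV', hcV'e, hcV's⟩ :=
      exists_factor_chart cV hcVe jV.hom hjV (by rw [hrange])
    have hcV's' : RepWith @Surjective cV' := hcV's (by rw [hrange])
    haveI : Mono jV.hom := mono_of_openImmersion _ hjV
    have hsepU : IsSeparatedMor prU.hom := isSeparatedMor_of_isPullback sqP hf2
    have hsep : IsSeparatedMor (jV ≫ prU).hom :=
      isSeparatedMor_comp _ _ (isSeparatedMor_of_mono jV.hom) hsepU
    have e3 : cV' ≫ (jV.hom ≫ prU.hom) = (yon S).map (jQ ≫ qT) := by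
      rw [← Category.assoc, hcV', Functor.map_comp]
      show ((yon S).map jQ ≫ c) ≫ prU.hom = _
      rw [Category.assoc, hc2]
      rfl
    have hfinV : IsFiniteMor (jV ≫ prU).hom := by
      let p : (ofScheme S).obj VO ⟶ PV := ObjectProperty.homMk cV'
      apply isFiniteMor_of_etale_surjective_precomp p (jV ≫ prU)
        (isEtaleMor_of_repWith' _ hcV'e) (isSurjectiveMor_of_repWith _ hcV's') hsep
      have e : (p ≫ jV ≫ prU).hom = (yon S).map (jQ ≫ qT) := e3
      rw [e]
      exact isFiniteMor_of_repWith _ ((repWith_yon_map_iff @IsFinite _).2 hfin')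
    refine ⟨PV, jV, hjV,
      repWith_isClosedImmersion_of_finite jV.hom prU.hom hjV hsepU hfinV, hfinV,
      Points.ofPt cV' v, ?_, ?_⟩
    · show Points.map (jV.hom ≫ prX.hom) (Points.ofPt cV' v) = _
      rw [Points.map_ofPt, ← Category.assoc, hcV']
      show Points.ofPt (((yon S).map jQ ≫ c) ≫ prX.hom) v = _
      rw [Category.assoc, hc1]
      show Points.ofPt ((yon S).map jQ ≫ (yon S).map qU ≫ (yon S).map j ≫ a₁) v = _
      rw [ofPt_comp, ofPt_comp, ofPt_comp]
      have e2 : qU.left (jQ.left v) = u₂ := hv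
      rw [e2, hu₂]
    · exact map_ofPt_eq_ofScheme cV' (jV.hom ≫ prU.hom) (jQ ≫ qT) e3 v

end Groth.Agent.Lib.AlgSpEtSplitH6
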