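import Mathlib
import Groth.Prelude.Def_AlgSpDec
import Groth.Agent.Lib.LqfLocus_helper8
import Groth.Agent.Lib.AlgSpQC_helper7
import Groth.Agent.Lib.AlgSpPoints_helper7
import Groth.Agent.Lib.AlgSpPullback_helper7

/-! Finiteness of the set of quasi-finite points over a point, for a morphism of finite type. -/

set_option autoImplicit false
universe u
open CategoryTheory CategoryTheory.Limits AlgebraicGeometry Opposite TopologicalSpace

namespace Groth.Agent.Lib.AlgSpQfFinH7

open AlgSp Groth.Agent.Lib.AlgSpPoints_helper7 Groth.Agent.Lib.AlgSpPullback_helper7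
  Groth.Agent.Lib.AlgSpQC_helper7 Groth.Agent.Lib.AlgSpBasic_helper7

/-- For a morphism of finite type, the points of a fibre at which it is quasi-finite are finite in
number. -/
theorem finite_quasiFiniteAt_fibre {U V : Scheme.{u}} (h : U ⟶ V) [LocallyOfFiniteType h]
    [QuasiCompact h] (v : V) : {u : U | h u = v ∧ h.QuasiFiniteAt u}.Finite := by
  haveI : NoetherianSpace (h.fiber v) := by
    haveI : LocallyOfFiniteType (h.fiberToSpecResidueField v) :=
      MorphismProperty.pullback_snd _ _ inferInstance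
    haveI : IsLocallyNoetherian (h.fiber v) :=
      LocallyOfFiniteType.isLocallyNoetherian (h.fiberToSpecResidueField v)
    haveI : IsNoetherian (h.fiber v) := { }
    infer_instance
  haveI : NoetherianSpace (h ⁻¹' {v}) :=
    (h.fiberHomeo v).symm.isInducing.noetherianSpace
  obtain ⟨Q, hQdef⟩ : ∃ Q : Set (h ⁻¹' {v}), Q = {z | IsOpen ({z} : Set (h ⁻¹' {v}))} :=
    ⟨_, rfl⟩
  have hQ : Q.Finite := by
    have hc : IsCompact Q := NoetherianSpace.isCompact Q
    refine hc.finite (isDiscrete_iff_forall_mem_exists_isOpen.2 fun z hz => ⟨{z}, ?_, ?_⟩)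
    · rw [hQdef] at hz
      exact hz
    · exact Set.inter_eq_left.2 (Set.singleton_subset_iff.2 hz)
  refine (hQ.image Subtype.val).subset ?_
  rintro u ⟨hu, hq⟩
  subst hu
  refine ⟨⟨u, rfl⟩, ?_, rfl⟩
  rw [hQdef]
  have h1 := Scheme.Hom.quasiFiniteAt_iff_isOpen_singleton_asFiber.mp hq
  rw [← (h.fiberHomeo (h u)).isOpen_image] at h1
  simpa [Scheme.Hom.asFiber] using h1

variable {S : Scheme.{u}}

/-- Every point of an algebraic space lies in the image of an affine étale chart. -/
theorem exists_affine_chart {Y : Sp S} (hY : IsAlgSpace Y) (y : Points Y) :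
    ∃ (V : Over S) (b : (yon S).obj V ⟶ Y) (v : ↥V.left), IsAffine V.left ∧ RepWith @Etale b ∧
      Points.ofPt b v = y := by
  obtain ⟨V0, b0, hb0e, hb0s⟩ := hY.atlas
  obtain ⟨v0, hv0⟩ := ofPt_surjective b0 hb0s y
  obtain ⟨i, z, hz⟩ := V0.left.affineCover.exists_eq v0
  refine ⟨Over.mk (V0.left.affineCover.f i ≫ V0.hom),
    (yon S).map (Over.homMk (V0.left.affineCover.f i) rfl : Over.mk
      (V0.left.affineCover.f i ≫ V0.hom) ⟶ V0) ≫ b0, z, ?_, ?_, ?_⟩
  · show IsAffine (V0.left.affineCover.X i)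
    infer_instance
  · refine repWith_comp _ ((repWith_yon_map_iff @Etale _).2 ?_) hb0e
    show Etale (V0.left.affineCover.f i)
    infer_instance
  · rw [ofPt_comp]
    show Points.ofPt b0 ((V0.left.affineCover.f i) z) = y
    rw [hz, hv0]

/-- S9995. -/
theorem finite_setOf_quasiFiniteAt_over_point {X Y : AlgSp.Space S} (f : X ⟶ Y)
    (hf : IsFiniteTypeMor f.hom) (y : Points Y.obj) :
    {x : Points X.obj | Points.map f.hom x = y ∧
      HasAtMor (fun U _ h u => ∃ W : U.Opens, u ∈ W ∧ LocallyQuasiFinite (W.ι ≫ h) ∧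
        LocallyOfFiniteType (W.ι ≫ h)) f.hom x}.Finite := by
  obtain ⟨hlft, hqc⟩ := hf
  obtain ⟨V, b, v, hVaff, hbe, hv⟩ := exists_affine_chart Y.property y
  haveI := hVaff
  have sq := IsPullback.of_hasPullback f.hom b
  have hPqc : IsQuasiCompactSp (pullback f.hom b) :=
    hqc (IsAlgSpace.yon_obj V) (isQuasiCompactSp_yon V) b _ _ sq
  obtain ⟨U, a0, ha0e, ha0s, hUc⟩ := hPqc
  haveI : CompactSpace ↥U.left := hUc
  obtain ⟨h, hh⟩ := (yon S).map_surjective (a0 ≫ pullback.snd f.hom b)
  have hfst : RepWith @Etale (pullback.fst f.hom b) := repWith_fst_of_isPullback _ sq hbe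
  have hae : RepWith @Etale (a0 ≫ pullback.fst f.hom b) := repWith_comp _ ha0e hfst
  have comm : (a0 ≫ pullback.fst f.hom b) ≫ f.hom = (yon S).map h ≫ b := by
    rw [hh, Category.assoc, Category.assoc, pullback.condition]
  haveI : LocallyOfFiniteType h.left := hlft _ b h hae hbe comm
  haveI : QuasiCompact h.left := inferInstance
  have hfin := finite_quasiFiniteAt_fibre h.left v
  refine (hfin.image (Points.ofPt (a0 ≫ pullback.fst f.hom b))).subset ?_
  rintro x ⟨hx1, hx2⟩
  rw [LqfLocusH8.hasAtMor_exists_opens_iff f hlft] at hx2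
  obtain ⟨U1, V1, a1, b1, h1, u1, hae1, hbe1, comm1, hu1, hd1⟩ := hx2
  have hxy : Points.map f.hom x = Points.map b (Points.ofScheme V v) := by
    rw [hx1, ← hv, Points.ofPt_eq_map_ofScheme]
  obtain ⟨z, hz1, hz2⟩ := exists_of_isPullback sq x (Points.ofScheme V v) hxy
  obtain ⟨u, hu⟩ := ofPt_surjective a0 ha0s z
  have hux : Points.ofPt (a0 ≫ pullback.fst f.hom b) u = x := by
    rw [← Points.map_ofPt, hu, hz1]
  refine ⟨u, ⟨?_, ?_⟩, hux⟩
  · apply (Points.schemeEquiv V).injective
    change Points.ofScheme V _ = Points.ofScheme V _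
    rw [← ofPt_yon_map, hh, ← Points.map_ofPt, hu, hz2]
  · rw [← LqfLocusH8.fibreDimAt_eq_zero_iff_quasiFiniteAt,
      ChartIndepH8.fibreDimAt_chart_indep f.hom hlft _ b h u a1 b1 h1 u1 hae hbe hae1 hbe1 comm comm1
        (hux.trans hu1.symm)]
    exact hd1

end Groth.Agent.Lib.AlgSpQfFinH7
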