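import Groth.Agent.Lib.AlgSpUnramLocus_helper7
import Groth.Agent.Lib.AlgSpQfFin_helper7

/-!
# The quasi-finite locus of a morphism of algebraic spaces and base change (helper7)
-/

set_option autoImplicit false
universe u
open CategoryTheory CategoryTheory.Limits AlgebraicGeometry Opposite MorphismProperty
open AlgSp Groth.Agent.Lib.AlgSpPoints_helper7 Groth.Agent.Lib.AlgSpPullback_helper7
  Groth.Agent.Lib.AlgSpLocP4_helper7 Groth.Agent.Lib.AlgSpLocP7_helper7
  Groth.Agent.Lib.UnramLocH7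

namespace Groth.Agent.Lib.AlgSpQfLocusH7

variable {S : Scheme.{u}}

abbrev PQ : MorphismProperty Scheme.{u} := @LocallyQuasiFinite ⊓ @LocallyOfFiniteType

/-- The pointwise predicate "quasi-finite near the point" of the statements. -/
def QQ : ∀ (U V : Scheme.{u}), (U ⟶ V) → ↥U → Prop :=
  fun U _ h u => ∃ W : U.Opens, u ∈ W ∧ LocallyQuasiFinite (W.ι ≫ h) ∧ LocallyOfFiniteType (W.ι ≫ h)

theorem qq_iff_near {U V : Scheme.{u}} (h : U ⟶ V) (u : ↥U) : QQ U V h u ↔ Near PQ h u := Iff.rfl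

theorem near_chart_indep {F G : Sp S} (f : F ⟶ G) {U V U' V' : Over S}
    (a : (yon S).obj U ⟶ F) (b : (yon S).obj V ⟶ G) (h : U ⟶ V) (u : ↥U.left)
    (a' : (yon S).obj U' ⟶ F) (b' : (yon S).obj V' ⟶ G) (h' : U' ⟶ V') (u' : ↥U'.left)
    (hae : RepWith @Etale a) (hbe : RepWith @Etale b)
    (ha'e : RepWith @Etale a') (hb'e : RepWith @Etale b')
    (comm : a ≫ f = (yon S).map h ≫ b) (comm' : a' ≫ f = (yon S).map h' ≫ b')
    (hpt : Points.ofPt a u = Points.ofPt a' u') :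
    Near PQ h.left u ↔ Near PQ h'.left u' := by
  have := ChartIndepH8.chart_indep_gen (β := Prop) (fun h u => Near PQ h u)
    (fun p _ h w => propext ⟨near_of_precomp etLocal_locallyQuasiFinite p h w,
      near_precomp etLocal_locallyQuasiFinite p h w⟩)
    (fun k q _ w => propext ⟨near_of_postcomp etLocal_locallyQuasiFinite k q w,
      near_postcomp etLocal_locallyQuasiFinite k q w⟩)
    f a b h u a' b' h' u' hae hbe ha'e hb'e comm comm' hpt
  exact Iff.of_eq this

theorem hasAtMor_iff {X Y : AlgSp.Space S} (f : X ⟶ Y) {U V : Over S}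
    (a : (yon S).obj U ⟶ X.obj) (b : (yon S).obj V ⟶ Y.obj) (h : U ⟶ V) (u : ↥U.left)
    (hae : RepWith @Etale a) (hbe : RepWith @Etale b) (comm : a ≫ f.hom = (yon S).map h ≫ b) :
    HasAtMor QQ f.hom (Points.ofPt a u) ↔ Near PQ h.left u := by
  constructor
  · rintro ⟨U', V', a', b', h', u', ha'e, hb'e, comm', hu', hq⟩
    exact (near_chart_indep f.hom a' b' h' u' a b h u ha'e hb'e hae hbe comm' comm hu').mp hq
  · intro hq
    exact ⟨U, V, a, b, h, u, hae, hbe, comm, rfl, hq⟩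

/-- Quasi-finiteness at a point passes to base changes. -/
theorem qfLocus_baseChange {X Y Y' X' : AlgSp.Space S} (f : X ⟶ Y)
    (g : Y' ⟶ Y) (g' : X' ⟶ X) (f' : X' ⟶ Y')
    (sq : IsPullback g'.hom f'.hom f.hom g.hom) (x' : Points X'.obj)
    (hx : HasAtMor QQ f.hom (Points.map g'.hom x')) : HasAtMor QQ f'.hom x' := by
  obtain ⟨U, V, a, b, h, u, hae, hbe, comm, hu⟩ :=
    ResTrdegH8.exists_chart_diagram f (Points.map g'.hom x')
  obtain ⟨W, V'', r, b'', κ, aW, φ, w, hre, hb''e, comm'', hw, haw, sqL, -, -⟩ :=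
    BCChartH8.exists_bc_chart f g g' f' sq x' a b h u hae hbe comm hu
  rw [← hu, hasAtMor_iff f a b h u hae hbe comm, ← haw] at hx
  rw [← hw, hasAtMor_iff f' r b'' κ w hre hb''e comm'']
  exact near_baseChange sqL w hx

/-- Finite type is stable under base change. -/
theorem isFiniteTypeMor_baseChange {X Y Y' X' : Sp S} (hX : IsAlgSpace X) (hY : IsAlgSpace Y)
    (hY' : IsAlgSpace Y') (f : X ⟶ Y) (g : Y' ⟶ Y) (fst : X' ⟶ X) (snd : X' ⟶ Y')
    (sq : IsPullback fst snd f g) (hf : IsFiniteTypeMor f) : IsFiniteTypeMor snd := by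
  refine ⟨locP_baseChange etLocal_locallyOfFiniteType hX hY hY' f g fst snd sq hf.1, ?_⟩
  intro Z1 Z1' hZ1 hZ1qc g1 fst1 snd1 sq1
  exact hf.2 hZ1 hZ1qc (g1 ≫ g) (fst1 ≫ fst) snd1 (sq1.paste_horiz sq)

/-- S10417. -/
theorem finite_fibre_pullback_of_finiteType_quasiFiniteAt {X Y Z W : AlgSp.Space S} (f : X ⟶ Y)
    (g : Z ⟶ Y) (p : W ⟶ X) (q : W ⟶ Z) (hW : IsPullback p.hom q.hom f.hom g.hom)
    (x : Points X.obj) (z : Points Z.obj)
    (hft : IsFiniteTypeMor f.hom) (hf : HasAtMor QQ f.hom x) :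
    {w : Points W.obj | Points.map p.hom w = x ∧ Points.map q.hom w = z}.Finite := by
  have hq : IsFiniteTypeMor q.hom :=
    isFiniteTypeMor_baseChange X.property Y.property Z.property f.hom g.hom p.hom q.hom hW hft
  refine (Groth.Agent.Lib.AlgSpQfFinH7.finite_setOf_quasiFiniteAt_over_point q hq z).subset ?_
  rintro w ⟨hw1, hw2⟩
  refine ⟨hw2, ?_⟩
  apply qfLocus_baseChange f g p q hW w
  rw [hw1]
  exact hf

end Groth.Agent.Lib.AlgSpQfLocusH7
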