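import Mathlib
import Groth.Agent.Lib.AlgSpEtSplit_helper6
import Groth.Agent.Lib.AlgSpQfLocus_helper7
import Groth.Agent.Lib.EtNbhdFin4_helper4
import Groth.Agent.Lib.AlgSpEmbed_helper6

/-!
# Étale localization splits off the quasi-finite part: several points (helper6)
-/

set_option autoImplicit false
universe u
open CategoryTheory CategoryTheory.Limits AlgebraicGeometry Opposite TopologicalSpace

namespace Groth.Agent.Lib.AlgSpEtSplit2H6

open AlgSp Groth.Agent.Lib.AlgSpPoints_helper7 Groth.Agent.Lib.AlgSpOpenSub_helper7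
  Groth.Agent.Lib.AlgSpPullback_helper7 Groth.Agent.Lib.AlgSpIso_helper7
  Groth.Agent.Lib.AlgSpBasic_helper7 Groth.Agent.Lib.AlgSpDescent_helper7
  Groth.Agent.Lib.AlgSpSmST_helper7 Groth.Agent.Lib.AlgSpSep_helper7
  Groth.Agent.Lib.AlgSpUnram_helper7 Groth.Agent.Lib.AlgSpQC2_helper7
  Groth.Agent.Lib.AlgSpFinDescH6 Groth.Agent.Lib.AlgSpProper_helper7
  Groth.Agent.Lib.ElemDistSq_helper7 Groth.Agent.Lib.AlgSpEtSplitH6

variable {S : Scheme.{u}}

/-- The image of an open of an étale chart which is finite over the base `T'` is an open and closed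
subspace finite over `T'`, when the space is separated over `T'`. -/
theorem image_finite {P : Space S} {T' Q' : Over S} (prU : P ⟶ (ofScheme S).obj T')
    (hsepU : IsSeparatedMor prU.hom) (c : (yon S).obj Q' ⟶ P.obj) (hce : RepWith @Etale c)
    (qT : Q' ⟶ T') (hc2 : c ≫ prU.hom = (yon S).map qT) (V : Q'.left.Opens)
    (hfin : IsFinite (V.ι ≫ qT.left)) :
    ∃ (PV : Space S) (jV : PV ⟶ P), RepWith @IsOpenImmersion jV.hom ∧
      RepWith @IsClosedImmersion jV.hom ∧ IsFiniteMor (jV ≫ prU).hom ∧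
      Set.range (Points.map jV.hom) = Points.ofPt c '' (V : Set Q'.left) := by
  let VO : Over S := Over.mk (V.ι ≫ Q'.hom)
  let jQ : VO ⟶ Q' := Over.homMk V.ι rfl
  have hfin' : IsFinite (jQ ≫ qT).left := hfin
  let cV : (yon S).obj VO ⟶ P.obj := (yon S).map jQ ≫ c
  have hcVe : RepWith @Etale cV := repWith_etale_restrict c hce V
  let Wset : Set (Points P.obj) := Set.range (Points.ofPt cV)
  have hWo : IsOpen Wset := (isOpenMap_ofPt_of_etale cV hcVe).isOpen_range
  let PV : Space S := ⟨openSub P.obj Wset, isAlgSpace_openSub P.property hWo⟩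
  let jV : PV ⟶ P := ObjectProperty.homMk (openSubι P.obj Wset)
  have hjV : RepWith @IsOpenImmersion jV.hom := repWith_isOpenImmersion_openSubι hWo
  have hrange : Set.range (Points.map jV.hom) = Wset := range_map_openSubι P.property hWo
  obtain ⟨cV', hcV', hcV'e, hcV's⟩ :=
    exists_factor_chart cV hcVe jV.hom hjV (by rw [hrange])
  have hcV's' : RepWith @Surjective cV' := hcV's (by rw [hrange])
  haveI : Mono jV.hom := mono_of_openImmersion _ hjV
  have hsep : IsSeparatedMor (jV ≫ prU).hom :=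
    isSeparatedMor_comp _ _ (isSeparatedMor_of_mono jV.hom) hsepU
  have e3 : cV' ≫ (jV.hom ≫ prU.hom) = (yon S).map (jQ ≫ qT) := by
    rw [← Category.assoc, hcV', Functor.map_comp]
    show ((yon S).map jQ ≫ c) ≫ prU.hom = _
    rw [Category.assoc, hc2]
    rfl
  have hfinV : IsFiniteMor (jV ≫ prU).hom := by
    let p : (ofScheme S).obj VO ⟶ PV := ObjectProperty.homMk cV'
    apply isFiniteMor_of_etale_surjective_precomp p (jV ≫ prU)
      (isEtaleMor_of_repWith' _ hcV'e) (isSurjectiveMor_of_repWith _ hcV's') hsep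
    have e : (p ≫ jV ≫ prU).hom = (yon S).map (jQ ≫ qT) := e3
    rw [e]
    exact isFiniteMor_of_repWith _ ((repWith_yon_map_iff @IsFinite _).2 hfin')
  refine ⟨PV, jV, hjV, repWith_isClosedImmersion_of_finite jV.hom prU.hom hjV hsepU hfinV,
    hfinV, ?_⟩
  rw [hrange]
  ext x
  constructor
  · rintro ⟨v, rfl⟩
    refine ⟨jQ.left v, ?_, ?_⟩
    · exact (v : V).2
    · exact (ofPt_comp jQ c v).symm
  · rintro ⟨q, hq, rfl⟩
    exact ⟨(⟨q, hq⟩ : V), ofPt_comp jQ c _⟩

open Groth.Agent.Lib.AlgSpQfLocusH7 Groth.Agent.Lib.UnramLocH7 in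
/-- Around a point where `f` is quasi-finite there is an affine open, quasi-finite over the target,
in which the point is alone in its fibre. -/
theorem exists_affine_isolating {A V : Scheme.{u}} (f : A ⟶ V) (a : A) (W : A.Opens) (ha : a ∈ W)
    [LocallyQuasiFinite (W.ι ≫ f)] [LocallyOfFiniteType (W.ι ≫ f)] :
    ∃ O : A.Opens, a ∈ O ∧ IsAffineOpen O ∧ LocallyQuasiFinite (O.ι ≫ f) ∧
      LocallyOfFiniteType (O.ι ≫ f) ∧ ∀ a' ∈ O, f a' = f a → a' = a := by
  have hd := (W.ι ≫ f).isDiscrete_preimage_singleton (f a)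
  rw [isDiscrete_iff_forall_mem_exists_isOpen] at hd
  let aW : ↥W.toScheme := (⟨a, ha⟩ : W)
  have haW : W.ι aW = a := rfl
  have hmem : aW ∈ (W.ι ≫ f) ⁻¹' {f a} := by
    show (W.ι ≫ f) aW = f a
    rw [Scheme.Hom.comp_apply, haW]
  obtain ⟨u, hu, hus⟩ := hd aW hmem
  have hau : aW ∈ u := by
    have : aW ∈ u ∩ (W.ι ≫ f) ⁻¹' {f a} := by rw [hus]; rfl
    exact this.1
  let O₀ : A.Opens := W.ι ''ᵁ ⟨u, hu⟩
  have ha0 : a ∈ O₀ := ⟨aW, hau, haW⟩
  obtain ⟨_, ⟨O, hO, rfl⟩, haO, hOO₀⟩ :=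
    A.isBasis_affineOpens.exists_subset_of_mem_open ha0 O₀.2
  let O' : A.Opens := O
  have hOW : O' ≤ W := by
    intro x hx
    obtain ⟨y, -, rfl⟩ := hOO₀ hx
    exact y.2
  have e : O'.ι ≫ f = A.homOfLE hOW ≫ (W.ι ≫ f) := by
    rw [← Category.assoc, Scheme.homOfLE_ι]
  refine ⟨O', haO, hO, ?_, ?_, ?_⟩
  · rw [e]; infer_instance
  · rw [e]; infer_instance
  · intro a' ha' hfa
    obtain ⟨y, hyu, rfl⟩ := hOO₀ ha'
    have hy : y ∈ u ∩ (W.ι ≫ f) ⁻¹' {f a} := by
      refine ⟨hyu, ?_⟩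
      show (W.ι ≫ f) y = f a
      rw [Scheme.Hom.comp_apply]
      exact hfa
    rw [hus] at hy
    have hy' : y = aW := hy
    rw [hy']
    exact haW

open Groth.Agent.Lib.AlgSpQfLocusH7 Groth.Agent.Lib.UnramLocH7 in
/-- A single affine étale chart through finitely many points over `y₁` at which the morphism to a
scheme is quasi-finite, quasi-finite over the scheme, meeting the fibre over `y₁` only in points
over the given ones. -/
theorem exists_chart_of_points {P₁ : Space S} {V₁ : Over S} (q₁ : P₁.obj ⟶ (yon S).obj V₁)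
    (y₁ : ↥V₁.left) {ι : Type u} [Finite ι] (w : ι → Points P₁.obj)
    (hw1 : ∀ i, Points.map q₁ (w i) = Points.ofScheme V₁ y₁)
    (hw2 : ∀ i, HasAtMor QQ q₁ (w i)) :
    ∃ (U' : Over S) (c : (yon S).obj U' ⟶ P₁.obj) (h' : U' ⟶ V₁), IsAffine U'.left ∧
      RepWith @Etale c ∧ c ≫ q₁ = (yon S).map h' ∧ LocallyQuasiFinite h'.left ∧
      LocallyOfFiniteType h'.left ∧
      (∀ z : ↥U'.left, h'.left z = y₁ → ∃ i, Points.ofPt c z = w i) ∧
      (∀ i, ∃ z : ↥U'.left, h'.left z = y₁ ∧ Points.ofPt c z = w i) := by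
  obtain ⟨A, p, hpe, hps⟩ := P₁.property.atlas
  let q₁' : P₁ ⟶ (ofScheme S).obj V₁ := ObjectProperty.homMk q₁
  obtain ⟨hA, hhA⟩ := (yon S).map_surjective (p ≫ q₁)
  have hsurj := ofPt_surjective p hps
  choose a ha using fun i => hsurj (w i)
  have hay : ∀ i, hA.left (a i) = y₁ := by
    intro i
    have h1 := hw1 i
    rw [← ha i, Points.map_ofPt, ← hhA, ofPt_yon_map] at h1
    have h2 := congrArg (Points.toScheme V₁) h1
    rwa [Points.toScheme_ofScheme, Points.toScheme_ofScheme] at h2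
  have hnear : ∀ i, Near PQ hA.left (a i) := fun i =>
    (hasAtMor_iff q₁' p (𝟙 _) hA (a i) hpe (repWith_id _ _)
      (by rw [hhA]; exact (Category.comp_id _).symm)).mp (by rw [ha i]; exact hw2 i)
  choose W hW using hnear
  have hO : ∀ i, ∃ O : A.left.Opens, a i ∈ O ∧ IsAffineOpen O ∧
      LocallyQuasiFinite (O.ι ≫ hA.left) ∧ LocallyOfFiniteType (O.ι ≫ hA.left) ∧
      ∀ a' ∈ O, hA.left a' = hA.left (a i) → a' = a i := fun i => by
    haveI : LocallyQuasiFinite ((W i).ι ≫ hA.left) := (hW i).2.1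
    haveI : LocallyOfFiniteType ((W i).ι ≫ hA.left) := (hW i).2.2
    exact exists_affine_isolating hA.left (a i) (W i) (hW i).1
  choose O hO1 hO2 hO3 hO4 hO5 using hO
  let Z : ι → Scheme.{u} := fun i => (O i).toScheme
  let σ : (∐ Z) ⟶ A.left := Sigma.desc (fun i => (O i).ι)
  let U' : Over S := Over.mk (σ ≫ A.hom)
  let jσ : U' ⟶ A := Over.homMk σ rfl
  haveI : ∀ i, IsAffine (Z i) := hO2
  haveI : IsAffine U'.left := inferInstanceAs (IsAffine (∐ Z))
  have hσe : Etale σ := IsZariskiLocalAtSource.sigmaDesc (fun i => inferInstance)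
  have hσh : σ ≫ hA.left = Sigma.desc (fun i => (O i).ι ≫ hA.left) := by
    apply Sigma.hom_ext
    intro i
    rw [Sigma.ι_desc, ← Category.assoc, Sigma.ι_desc]
  have hσι : ∀ (i : ι) (z : ↥(Z i)), σ (Sigma.ι Z i z) = (O i).ι z := by
    intro i z
    rw [← Scheme.Hom.comp_apply, Sigma.ι_desc]
  refine ⟨U', (yon S).map jσ ≫ p, jσ ≫ hA, inferInstance,
    repWith_comp _ ((repWith_yon_map_iff @Etale jσ).2 hσe) hpe, ?_, ?_, ?_, ?_, ?_⟩
  · rw [Category.assoc, ← hhA, ← Functor.map_comp]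
  · show LocallyQuasiFinite (σ ≫ hA.left)
    rw [hσh]
    exact IsZariskiLocalAtSource.sigmaDesc hO3
  · show LocallyOfFiniteType (σ ≫ hA.left)
    rw [hσh]
    exact IsZariskiLocalAtSource.sigmaDesc hO4
  · intro z hz
    obtain ⟨⟨i, z⟩, rfl⟩ := (sigmaMk Z).surjective z
    rw [sigmaMk_mk] at hz ⊢
    refine ⟨i, ?_⟩
    have hz' : hA.left (σ (Sigma.ι Z i z)) = y₁ := hz
    rw [hσι] at hz'
    have h3 := hO5 i ((O i).ι z) z.2 (hz'.trans (hay i).symm)
    rw [ofPt_comp]
    show Points.ofPt p (σ (Sigma.ι Z i z)) = w i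
    rw [hσι, h3, ha i]
  · intro i
    let z : ↥(Z i) := (⟨a i, hO1 i⟩ : O i)
    have hz : (O i).ι z = a i := rfl
    refine ⟨Sigma.ι Z i z, ?_, ?_⟩
    · show hA.left (σ (Sigma.ι Z i z)) = y₁
      rw [hσι, hz, hay i]
    · rw [ofPt_comp]
      show Points.ofPt p (σ (Sigma.ι Z i z)) = w i
      rw [hσι, hz, ha i]

open Groth.Agent.Lib.AlgSpQfLocusH7 Groth.Agent.Lib.UnramLocH7 in
/-- Étale localization splits off the quasi-finite part at finitely many points (chart form, with
the finiteness of the set of points of the base change over the chosen points as a hypothesis). -/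
theorem exists_split_finset {X Y : Space S} (f : X ⟶ Y) (y : Points Y.obj)
    (xs : Set (Points X.obj))
    (hf1 : LocP @LocallyOfFiniteType f.hom) (hf2 : IsSeparatedMor f.hom)
    (hf3 : ∀ x ∈ xs, HasAtMor QQ f.hom x)
    {V₁ : Over S} [IsAffine V₁.left] (b₁ : (yon S).obj V₁ ⟶ Y.obj) (hb₁ : RepWith @Etale b₁)
    (y₁ : ↥V₁.left) (hy₁ : Points.ofPt b₁ y₁ = y)
    (hfin : {w : Points (pullback f.hom b₁) |
      Points.map (pullback.snd f.hom b₁) w = Points.ofScheme V₁ y₁ ∧
        Points.map (pullback.fst f.hom b₁) w ∈ xs}.Finite) :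
    ∃ (U : Space S) (a : U ⟶ Y) (u : Points U.obj), IsEtaleMor a.hom ∧ Points.map a.hom u = y ∧
      ∀ (P : Space S) (prX : P ⟶ X) (prU : P ⟶ U), IsPullback prX.hom prU.hom f.hom a.hom →
        ∃ (V : Space S) (jV : V ⟶ P), RepWith @IsOpenImmersion jV.hom ∧
          RepWith @IsClosedImmersion jV.hom ∧ IsFiniteMor (jV ≫ prU).hom ∧
          (∀ v : Points V.obj, Points.map (jV ≫ prU).hom v = u →
            Points.map (jV ≫ prX).hom v ∈ xs) ∧
          ∀ w : Points P.obj, w ∉ Set.range (Points.map jV.hom) → Points.map prU.hom w = u →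
            Points.map prX.hom w ∉ xs := by
  classical
  have sq₁ := IsPullback.of_hasPullback f.hom b₁
  have hP₁ : IsAlgSpace (pullback f.hom b₁) :=
    isAlgSpace_of_isPullback Y.property.diag X.property (IsAlgSpace.yon_obj V₁) sq₁
  let P₁ : Space S := ⟨pullback f.hom b₁, hP₁⟩
  let pr₁ : P₁ ⟶ X := ObjectProperty.homMk (pullback.fst f.hom b₁)
  let q₁ : P₁.obj ⟶ (yon S).obj V₁ := pullback.snd f.hom b₁
  let q₁' : P₁ ⟶ (ofScheme S).obj V₁ := ObjectProperty.homMk q₁
  let b₁' : (ofScheme S).obj V₁ ⟶ Y := ObjectProperty.homMk b₁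
  -- enumerate the finite set
  let F := hfin.toFinset
  let e := F.equivFin
  let w : ULift.{u} (Fin F.card) → Points P₁.obj := fun i => (e.symm i.down).1
  have hwmem : ∀ i, Points.map q₁ (w i) = Points.ofScheme V₁ y₁ ∧
      Points.map (pullback.fst f.hom b₁) (w i) ∈ xs :=
    fun i => hfin.mem_toFinset.1 (e.symm i.down).2
  have hwsurj : ∀ p : Points P₁.obj, Points.map q₁ p = Points.ofScheme V₁ y₁ →
      Points.map (pullback.fst f.hom b₁) p ∈ xs → ∃ i, w i = p := by
    intro p hp1 hp2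
    refine ⟨⟨e ⟨p, hfin.mem_toFinset.2 ⟨hp1, hp2⟩⟩⟩, ?_⟩
    show ((e.symm (e ⟨p, _⟩) : {x // x ∈ F}) : Points P₁.obj) = p
    rw [Equiv.symm_apply_apply]
  have hw2 : ∀ i, HasAtMor QQ q₁ (w i) := fun i =>
    qfLocus_baseChange f b₁' pr₁ q₁' sq₁ (w i) (hf3 _ (hwmem i).2)
  obtain ⟨U', c, h', hU'aff, hce, hcq, hlqf, hlft, hfib1, hfib2⟩ :=
    exists_chart_of_points (P₁ := P₁) q₁ y₁ w (fun i => (hwmem i).1) hw2
  haveI := hlqf
  haveI := hlft
  haveI := hU'aff
  have hfibfin : (h'.left ⁻¹' {y₁}).Finite := h'.left.finite_preimage_singleton y₁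
  obtain ⟨T, g, t, hg, hgt, -, V, -, -, hfinV, hall⟩ :=
    Groth.Agent.Lib.EtNbhdFinH4.main5985 h'.left y₁ hfibfin
  haveI := hg
  let T' : Over S := Over.mk (g ≫ V₁.hom)
  let gT : T' ⟶ V₁ := Over.homMk g rfl
  let Q' : Over S := Over.mk (pullback.fst h'.left g ≫ U'.hom)
  let qU : Q' ⟶ U' := Over.homMk (pullback.fst h'.left g) rfl
  let qT : Q' ⟶ T' := Over.homMk (pullback.snd h'.left g) (by
    show pullback.snd h'.left g ≫ g ≫ V₁.hom = pullback.fst h'.left g ≫ U'.hom
    rw [← pullback.condition_assoc, Over.w h'])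
  have hqq : qU ≫ h' = qT ≫ gT := Over.OverMorphism.ext pullback.condition
  let Usp : Space S := (ofScheme S).obj T'
  have hae : RepWith @Etale ((yon S).map gT ≫ b₁) :=
    repWith_comp _ ((repWith_yon_map_iff @Etale gT).2 hg) hb₁
  let a : Usp ⟶ Y := ObjectProperty.homMk ((yon S).map gT ≫ b₁)
  have hcond : ∀ z : ↥Q'.left, h'.left (qU.left z) = g (qT.left z) := by
    intro z
    show h'.left (pullback.fst h'.left g z) = g (pullback.snd h'.left g z)
    rw [← Scheme.Hom.comp_apply, ← Scheme.Hom.comp_apply, pullback.condition]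
  refine ⟨Usp, a, Points.ofScheme T' t, isEtaleMor_of_repWith' _ hae, ?_, ?_⟩
  · show Points.map ((yon S).map gT ≫ b₁) (Points.ofScheme T' t) = y
    rw [← Points.ofPt_eq_map_ofScheme, ofPt_comp]
    show Points.ofPt b₁ (g t) = y
    rw [hgt, hy₁]
  · intro P prX prU sqP
    have sqP' : IsPullback prX.hom prU.hom f.hom ((yon S).map gT ≫ b₁) := sqP
    let prU' : P.obj ⟶ (yon S).obj T' := prU.hom
    let ρ : P.obj ⟶ P₁.obj := pullback.lift prX.hom (prU' ≫ (yon S).map gT)
      (by rw [Category.assoc]; exact sqP'.w)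
    have hρ1 : ρ ≫ pullback.fst f.hom b₁ = prX.hom := pullback.lift_fst _ _ _
    have hρ2 : ρ ≫ q₁ = prU' ≫ (yon S).map gT := pullback.lift_snd _ _ _
    have sqρ : IsPullback ρ prU' q₁ ((yon S).map gT) := by
      refine IsPullback.of_right ?_ hρ2 sq₁
      rw [hρ1]
      exact sqP'
    have sqL : IsPullback qU.left qT.left h'.left gT.left := IsPullback.of_hasPullback h'.left g
    have sqO : IsPullback qU qT h' gT :=
      IsPullback.of_map (Over.forget S) (Over.OverMorphism.ext sqL.w) sqL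
    have sqQ : IsPullback ((yon S).map qU) ((yon S).map qT) ((yon S).map h')
        ((yon S).map gT) := sqO.map (yon S)
    have wc : ((yon S).map qU ≫ c) ≫ q₁ = (yon S).map qT ≫ (yon S).map gT := by
      rw [Category.assoc, hcq, ← Functor.map_comp, ← Functor.map_comp, hqq]
    let c' : (yon S).obj Q' ⟶ P.obj := sqρ.lift ((yon S).map qU ≫ c) ((yon S).map qT) wc
    have hc'1 : c' ≫ ρ = (yon S).map qU ≫ c := sqρ.lift_fst _ _ _
    have hc'2 : c' ≫ prU' = (yon S).map qT := sqρ.lift_snd _ _ _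
    have sqc : IsPullback c' ((yon S).map qU) ρ c := by
      refine IsPullback.of_right ?_ hc'1 sqρ.flip
      rw [hc'2, hcq]
      exact sqQ.flip
    have hc'e : RepWith @Etale c' :=
      MorphismProperty.of_isPullback (P := RepWith @Etale) sqc.flip hce
    have hsepU : IsSeparatedMor prU.hom := isSeparatedMor_of_isPullback sqP hf2
    let V' : Q'.left.Opens := V
    obtain ⟨PV, jV, hjo, hjc, hjf, hrange⟩ :=
      image_finite prU hsepU c' hc'e qT hc'2 V' hfinV
    have hkey : ∀ z : ↥Q'.left, Points.map prU' (Points.ofPt c' z) = Points.ofScheme T' t →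
        qT.left z = t := by
      intro z h1
      rw [Points.map_ofPt, hc'2, ofPt_yon_map] at h1
      have h2 := congrArg (Points.toScheme T') h1
      rwa [Points.toScheme_ofScheme, Points.toScheme_ofScheme] at h2
    refine ⟨PV, jV, hjo, hjc, hjf, ?_, ?_⟩
    · intro v hv
      obtain ⟨z, hzV, hz⟩ : Points.map jV.hom v ∈ Points.ofPt c' '' (V' : Set ↥Q'.left) :=
        hrange ▸ ⟨v, rfl⟩
      have h1 : Points.map prU' (Points.ofPt c' z) = Points.ofScheme T' t := by
        rw [hz, ← Points.map_comp]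
        exact hv
      have hzt := hkey z h1
      have hy : h'.left (qU.left z) = y₁ := by rw [hcond, hzt, hgt]
      obtain ⟨i, hi⟩ := hfib1 (qU.left z) hy
      have e1 : Points.map (jV ≫ prX).hom v =
          Points.map (pullback.fst f.hom b₁) (w i) := by
        show Points.map (jV.hom ≫ prX.hom) v = _
        rw [Points.map_comp, ← hz, Points.map_ofPt, ← hρ1, ← Category.assoc, hc'1,
          Category.assoc, ofPt_comp, ← Points.map_ofPt, hi]
      rw [e1]
      exact (hwmem i).2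
    · intro p hp hpu hpx
      have hpu' : Points.map prU' p = Points.ofScheme T' t := hpu
      have hp1 : Points.map q₁ (Points.map ρ p) = Points.ofScheme V₁ y₁ := by
        rw [← Points.map_comp, hρ2, Points.map_comp, hpu', ← Points.ofPt_eq_map_ofScheme,
          ofPt_yon_map]
        show Points.ofScheme V₁ (g t) = _
        rw [hgt]
      have hp2 : Points.map (pullback.fst f.hom b₁) (Points.map ρ p) ∈ xs := by
        rw [← Points.map_comp, hρ1]
        exact hpx
      obtain ⟨i, hi⟩ := hwsurj _ hp1 hp2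
      obtain ⟨z₀, -, hz₀⟩ := hfib2 i
      obtain ⟨z, hz1, -⟩ := Groth.Agent.Lib.AlgSpEmbed_helper6.exists_of_isPullback_chart sqc p z₀
        (by rw [hz₀, hi])
      have hzt : qT.left z = t := hkey z (by rw [hz1]; exact hpu')
      exact hp (hrange ▸ ⟨z, hall z hzt, hz1⟩)

end Groth.Agent.Lib.AlgSpEtSplit2H6
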