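import Groth.Agent.Lib.AlgSpFpqc2_helper7
import Mathlib.AlgebraicGeometry.Morphisms.Etale

/-!
# `LocP` for representable morphisms (helper7)
-/

set_option autoImplicit false
universe u
open CategoryTheory CategoryTheory.Limits AlgebraicGeometry Opposite

namespace Groth.Agent.Lib.AlgSpLocP_helper7

open AlgSp Groth.Agent.Lib.AlgSpPoints_helper7 Groth.Agent.Lib.AlgSpQC_helper7
  Groth.Agent.Lib.AlgSpSep_helper7 Groth.Agent.Lib.AlgSpDiag_helper7
  Groth.Agent.Lib.AlgSpPullback_helper7

variable {S : Scheme.{u}}

/-- The diagonal of a representable étale morphism is representable étale. -/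
theorem repWith_etale_diagonal {F G : Sp S} {f : F ⟶ G} (hf : RepWith @Etale f) :
    RepWith @Etale (pullback.diagonal f) := by
  rw [repWith_diagonal_iff_of_representable _ f hf.rep]
  refine repWith_mono ?_ hf
  intro A B g (hg : Etale g)
  exact (inferInstance : Etale (pullback.diagonal g))

/-- Cancellation for representable étale morphisms. -/
theorem repWith_etale_of_comp {F G H : Sp S} (a : F ⟶ G) (b : G ⟶ H)
    (hab : RepWith @Etale (a ≫ b)) (hb : RepWith @Etale b) : RepWith @Etale a :=
  repWith_of_comp_of_diagonal _ a b hab (repWith_etale_diagonal hb)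

/-- A morphism representable with `P` has `P` étale locally on the source and target, for `P`
stable under base change and composition and containing étale morphisms. -/
theorem locP_of_repWith (P : MorphismProperty Scheme.{u}) [P.IsStableUnderBaseChange]
    [P.IsStableUnderComposition] (hE : ∀ ⦃A B : Scheme.{u}⦄ (g : A ⟶ B), Etale g → P g)
    {X Y : Sp S} (f : X ⟶ Y) (hf : RepWith P f) : LocP P f := by
  intro U V a b h hae hbe comm
  have sq := hf.rep.isPullback b
  have hfst : RepWith @Etale (hf.rep.fst b) := repWith_fst_of_isPullback _ sq hbe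
  let u : U ⟶ hf.rep.pullback b := hf.rep.lift a h comm
  have hu1 : (yon S).map u ≫ hf.rep.fst b = a := hf.rep.lift_fst a h comm
  have hu2 : u ≫ hf.rep.snd b = h := hf.rep.lift_snd a h comm
  have hue : RepWith @Etale ((yon S).map u) :=
    repWith_etale_of_comp _ (hf.rep.fst b) (by rw [hu1]; exact hae) hfst
  have hu : Etale u.left := (repWith_yon_map_iff _ _).1 hue
  have hs : P (hf.rep.snd b).left := hf.property_snd b
  have : h.left = u.left ≫ (hf.rep.snd b).left := by rw [← Over.comp_left, hu2]
  rw [this]
  exact P.comp_mem _ _ (hE _ hu) hs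

end Groth.Agent.Lib.AlgSpLocP_helper7
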