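import Groth.Agent.Lib.AlgSpEmbed_helper6
import Groth.Agent.Lib.AlgSpTop_helper7
import Groth.Agent.Lib.AffDesc7_helper7
import Mathlib.Algebra.Polynomial.Reverse
import Mathlib.RingTheory.Localization.Away.Basic
import Mathlib.RingTheory.Spectrum.Prime.Topology

/-!
# Global functions of a quasi-compact universally closed space over an affine scheme are integral
(helper6)

The classical argument: base change to the affine line over the base, look at the closed
subset `V(1 - t s)`, whose image is closed and misses `V(t)`.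
-/

set_option autoImplicit false
universe u
open CategoryTheory CategoryTheory.Limits AlgebraicGeometry Opposite TopologicalSpace Topology

namespace Groth.Agent.Lib.MonicGsectH6

open AlgSp Groth.Agent.Lib.AlgSpPoints_helper7 Groth.Agent.Lib.AlgSpQC_helper7
  Groth.Agent.Lib.AlgSpPullback_helper7 Groth.Agent.Lib.AlgSpBasic_helper7
  Groth.Agent.Lib.AlgSpEtale_helper7 Groth.Agent.Lib.AlgSpEmbed_helper6
  Groth.Agent.Lib.AlgSpTop_helper7

/-! ### Algebra -/

/-- If `h(1/s)` is nilpotent in `B_s` and `h(0) = 1` then `s` satisfies a monic equation. -/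
theorem exists_monic_of_nilpotent {A B : Type u} [CommRing A] [CommRing B] (ρ : A →+* B) (s₀ : B)
    (h : Polynomial A) (h0 : h.coeff 0 = 1)
    (hn : IsNilpotent (Polynomial.eval₂ ((algebraMap B (Localization.Away s₀)).comp ρ)
      (IsLocalization.Away.invSelf s₀) h)) :
    ∃ p : Polynomial A, p.Monic ∧ Polynomial.eval₂ ρ s₀ p = 0 := by
  classical
  have hm : (Polynomial.reverse h).Monic := by
    rcases subsingleton_or_nontrivial A with hA | hA
    · exact Subsingleton.elim _ _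
    · have h1 : h.coeff 0 ≠ 0 := by rw [h0]; exact one_ne_zero
      rw [Polynomial.Monic, Polynomial.reverse_leadingCoeff,
        Polynomial.trailingCoeff_eq_coeff_zero h1, h0]
  obtain ⟨ι, hι⟩ : ∃ ι : B →+* Localization.Away s₀, ι = algebraMap B (Localization.Away s₀) :=
    ⟨_, rfl⟩
  obtain ⟨inv, hinv⟩ : ∃ inv : Localization.Away s₀, inv = IsLocalization.Away.invSelf s₀ :=
    ⟨_, rfl⟩
  rw [← hι, ← hinv] at hn
  have h1 : ι s₀ * inv = 1 := by
    rw [hι, hinv]; exact IsLocalization.Away.mul_invSelf s₀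
  have h1' : inv * ι s₀ = 1 := by rw [mul_comm]; exact h1
  letI : Invertible inv := ⟨ι s₀, h1, h1'⟩
  have h2 : Polynomial.eval₂ (ι.comp ρ) (ι s₀) (Polynomial.reverse h) * inv ^ h.natDegree =
      Polynomial.eval₂ (ι.comp ρ) inv h :=
    Polynomial.eval₂_reverse_mul_pow (ι.comp ρ) inv h
  obtain ⟨b, hb⟩ : ∃ b : B, b = Polynomial.eval₂ ρ s₀ (Polynomial.reverse h) := ⟨_, rfl⟩
  have h3 : ι b = Polynomial.eval₂ (ι.comp ρ) (ι s₀) (Polynomial.reverse h) := by
    rw [hb]; exact Polynomial.hom_eval₂ _ _ _ _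
  obtain ⟨N, hN⟩ := hn
  have h5 : inv ^ (h.natDegree * N) * (ι s₀) ^ (h.natDegree * N) = 1 := by
    rw [← mul_pow, h1', one_pow]
  have h4 : ι (b ^ N) = 0 := by
    rw [map_pow, h3]
    calc (Polynomial.eval₂ (ι.comp ρ) (ι s₀) (Polynomial.reverse h)) ^ N
        = (Polynomial.eval₂ (ι.comp ρ) (ι s₀) (Polynomial.reverse h)) ^ N *
          (inv ^ (h.natDegree * N) * (ι s₀) ^ (h.natDegree * N)) := by rw [h5, mul_one]
      _ = (Polynomial.eval₂ (ι.comp ρ) (ι s₀) (Polynomial.reverse h) * inv ^ h.natDegree) ^ N *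
          (ι s₀) ^ (h.natDegree * N) := by rw [mul_pow, ← pow_mul, mul_assoc]
      _ = 0 := by rw [h2, hN, zero_mul]
  rw [hι] at h4
  obtain ⟨⟨_, k, rfl⟩, hk⟩ :=
    (IsLocalization.map_eq_zero_iff (Submonoid.powers s₀) (Localization.Away s₀) (b ^ N)).1 h4
  refine ⟨Polynomial.X ^ k * (Polynomial.reverse h) ^ N,
    (Polynomial.monic_X_pow k).mul (hm.pow N), ?_⟩
  rw [Polynomial.eval₂_mul, Polynomial.eval₂_pow, Polynomial.eval₂_pow, Polynomial.eval₂_X, ← hb]
  exact hk

/-- A closed subset of the affine line over `A` missing `V(t)` is cut out by some `h` with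
`h(0) = 1`. -/
theorem exists_poly_of_closed_disjoint {A : Type u} [CommRing A]
    (C : Set (PrimeSpectrum (Polynomial A))) (hC : IsClosed C)
    (hd : ∀ x ∈ C, (Polynomial.X : Polynomial A) ∉ x.asIdeal) :
    ∃ h : Polynomial A, h.coeff 0 = 1 ∧ ∀ x ∈ C, h ∈ x.asIdeal := by
  obtain ⟨I, hI⟩ : ∃ I : Ideal (Polynomial A), I = PrimeSpectrum.vanishingIdeal C := ⟨_, rfl⟩
  have h1 : PrimeSpectrum.zeroLocus (I : Set (Polynomial A)) = C := by
    rw [hI, PrimeSpectrum.zeroLocus_vanishingIdeal_eq_closure, hC.closure_eq]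
  have h2 : I ⊔ Ideal.span {(Polynomial.X : Polynomial A)} = ⊤ := by
    rw [← PrimeSpectrum.zeroLocus_empty_iff_eq_top, PrimeSpectrum.zeroLocus_sup, h1,
      PrimeSpectrum.zeroLocus_span]
    ext x
    simp only [Set.mem_inter_iff, PrimeSpectrum.mem_zeroLocus, Set.singleton_subset_iff,
      Set.mem_empty_iff_false, iff_false, not_and]
    intro hx
    exact hd x hx
  have h3 : (1 : Polynomial A) ∈ I ⊔ Ideal.span {(Polynomial.X : Polynomial A)} := by
    rw [h2]; trivial
  obtain ⟨h, hh, z, hz, hhz⟩ := Submodule.mem_sup.1 h3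
  obtain ⟨g, rfl⟩ := Ideal.mem_span_singleton'.1 hz
  refine ⟨h, ?_, fun x hx => ?_⟩
  · have : h = 1 - g * Polynomial.X := by rw [← hhz]; ring
    rw [this, Polynomial.coeff_sub, Polynomial.coeff_one_zero, Polynomial.coeff_mul_X_zero,
      sub_zero]
  · rw [hI] at hh
    exact (PrimeSpectrum.mem_vanishingIdeal C h).1 hh x hx

/-! ### Schemes -/

/-- Where `a` vanishes, `1 - a b` does not. -/
theorem mem_basicOpen_one_sub_mul {Y : Scheme.{u}} (a b : Γ(Y, ⊤)) (y : Y)
    (hy : y ∉ Y.basicOpen a) : y ∈ Y.basicOpen (1 - a * b) := by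
  rw [Scheme.mem_basicOpen_top] at hy ⊢
  rw [map_sub, map_one, map_mul]
  rcases IsLocalRing.isUnit_or_isUnit_one_sub_self
    (Y.presheaf.germ ⊤ y trivial a * Y.presheaf.germ ⊤ y trivial b) with h | h
  · exact absurd (isUnit_of_mul_isUnit_left h) hy
  · exact h

theorem mem_basicOpen_appTop_iff {Y Y' : Scheme.{u}} (φ : Y' ⟶ Y) (r : Γ(Y, ⊤)) (y : Y') :
    y ∈ Y'.basicOpen (φ.appTop.hom r) ↔ φ y ∈ Y.basicOpen r := by
  have h : φ ⁻¹ᵁ Y.basicOpen r = Y'.basicOpen (φ.appTop.hom r) :=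
    Scheme.preimage_basicOpen_top φ r
  rw [← h]; rfl

theorem appTop_comp_apply {S : Scheme.{u}} {P Q R : Over S} (a : P ⟶ Q) (b : Q ⟶ R)
    (x : Γ(R.left, ⊤)) :
    (a ≫ b).left.appTop.hom x = a.left.appTop.hom (b.left.appTop.hom x) := rfl

/-- The morphism from `Spec R` to an affine scheme given by a ring map on global sections. -/
noncomputable def ofRing {Y : Scheme.{u}} [IsAffine Y] {R : CommRingCat.{u}} (φ : Γ(Y, ⊤) ⟶ R) :
    Spec R ⟶ Y :=
  Spec.map φ ≫ Y.isoSpec.inv

theorem ofRing_appTop {Y : Scheme.{u}} [IsAffine Y] {R : CommRingCat.{u}} (φ : Γ(Y, ⊤) ⟶ R) :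
    (ofRing φ).appTop = φ ≫ (Scheme.ΓSpecIso R).inv := by
  have h3 : Y.isoSpec.hom.appTop = (Scheme.ΓSpecIso Γ(Y, ⊤)).hom := Scheme.toSpecΓ_appTop Y
  have h2 : Y.isoSpec.inv.appTop ≫ Y.isoSpec.hom.appTop = 𝟙 _ := by
    rw [← Scheme.Hom.comp_appTop, Iso.hom_inv_id]; rfl
  rw [h3] at h2
  have h1 : Y.isoSpec.inv.appTop = (Scheme.ΓSpecIso Γ(Y, ⊤)).inv := (Iso.comp_hom_eq_id _).1 h2
  rw [ofRing, Scheme.Hom.comp_appTop, h1]
  exact (Scheme.ΓSpecIso_inv_naturality φ).symm

theorem specMap_appTop {R R' : CommRingCat.{u}} (β : R ⟶ R') :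
    (Spec.map β).appTop = (Scheme.ΓSpecIso R).hom ≫ β ≫ (Scheme.ΓSpecIso R').inv := by
  rw [← Category.assoc, ← Scheme.ΓSpecIso_naturality, Category.assoc, Iso.hom_inv_id,
    Category.comp_id]

variable {S : Scheme.{u}}

/-- An affine étale atlas of a quasi-compact sheaf. -/
theorem exists_affine_atlas {X : Sp S} (hqc : IsQuasiCompactSp X) :
    ∃ (U : Over S) (p : (yon S).obj U ⟶ X), IsAffine U.left ∧ RepWith @Etale p ∧
      RepWith @Surjective p := by
  obtain ⟨U₀, p₀, hpe₀, hps₀, hU₀⟩ := hqc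
  haveI : CompactSpace ↥U₀.left := hU₀
  obtain ⟨Y, q, hqs, hqe, hY⟩ :=
    Scheme.exists_hom_isAffine_of_isZariskiLocalAtSource @Etale U₀.left
  let U₁ : Over S := Over.mk (q ≫ U₀.hom)
  let j : U₁ ⟶ U₀ := Over.homMk q rfl
  refine ⟨U₁, (yon S).map j ≫ p₀, hY, ?_, ?_⟩
  · exact repWith_comp @Etale ((repWith_yon_map_iff @Etale j).2 hqe) hpe₀
  · exact repWith_comp @Surjective ((repWith_yon_map_iff @Surjective j).2 hqs) hps₀

/-- Functions equalised by the two projections of `U ×_X U` are equalised by every pair of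
morphisms with the same composite to `X`. -/
theorem appTop_eq_of_comp_eq {X : Sp S} {U : Over S} (p₀ : (yon S).obj U ⟶ X)
    (hpe : RepWith @Etale p₀) (s₀ : Γ(U.left, ⊤))
    (h12 : ((yon S).preimage (hpe.rep.fst p₀)).left.appTop.hom s₀ =
      (hpe.rep.snd p₀).left.appTop.hom s₀)
    (R : Over S) (a b : R ⟶ U) (hab : (yon S).map a ≫ p₀ = (yon S).map b ≫ p₀) :
    a.left.appTop.hom s₀ = b.left.appTop.hom s₀ := by
  have sq := hpe.rep.isPullback p₀
  let m : R ⟶ hpe.rep.pullback p₀ :=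
    (yon S).preimage (sq.lift ((yon S).map a) ((yon S).map b) hab)
  have hm : (yon S).map m = sq.lift _ _ hab := (yon S).map_preimage _
  have h1 : m ≫ (yon S).preimage (hpe.rep.fst p₀) = a := by
    apply (yon S).map_injective
    rw [Functor.map_comp, hm, Functor.map_preimage, sq.lift_fst]
  have h2 : m ≫ hpe.rep.snd p₀ = b := by
    apply (yon S).map_injective
    rw [Functor.map_comp, hm, sq.lift_snd]
  calc a.left.appTop.hom s₀
      = (m ≫ (yon S).preimage (hpe.rep.fst p₀)).left.appTop.hom s₀ := by rw [h1]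
    _ = m.left.appTop.hom (((yon S).preimage (hpe.rep.fst p₀)).left.appTop.hom s₀) := rfl
    _ = m.left.appTop.hom ((hpe.rep.snd p₀).left.appTop.hom s₀) := by rw [h12]
    _ = (m ≫ hpe.rep.snd p₀).left.appTop.hom s₀ := rfl
    _ = b.left.appTop.hom s₀ := by rw [h2]

set_option maxHeartbeats 1600000 in
/-- The core: a function on an affine étale atlas of `X` which descends to `X` satisfies a monic
equation over the affine base, if `X` is universally closed over it. -/
theorem core (V : Over S) [IsAffine V.left] {X : Sp S} (f : X ⟶ (yon S).obj V)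
    (huc : IsUnivClosedMor f) (U : Over S) [IsAffine U.left] (p₀ : (yon S).obj U ⟶ X)
    (hpe : RepWith @Etale p₀) (hps : RepWith @Surjective p₀) (u : U ⟶ V)
    (hu : (yon S).map u = p₀ ≫ f) (s₀ : Γ(U.left, ⊤))
    (hs₀ : ∀ (R : Over S) (a b : R ⟶ U), (yon S).map a ≫ p₀ = (yon S).map b ≫ p₀ →
      a.left.appTop.hom s₀ = b.left.appTop.hom s₀) :
    ∃ p : Polynomial Γ(V.left, ⊤), p.Monic ∧ Polynomial.eval₂ u.left.appTop.hom s₀ p = 0 := by
  let A : CommRingCat.{u} := Γ(V.left, ⊤)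
  let B : CommRingCat.{u} := Γ(U.left, ⊤)
  let AX : CommRingCat.{u} := CommRingCat.of (Polynomial A)
  let ρ : A →+* B := u.left.appTop.hom
  -- the affine line over `V`
  let τ₀ : Spec AX ⟶ V.left := ofRing (CommRingCat.ofHom (Polynomial.C : A →+* Polynomial A))
  let T : Over S := Over.mk (τ₀ ≫ V.hom)
  let τ : T ⟶ V := Over.homMk τ₀ rfl
  have hτ₀ : τ₀.appTop =
      CommRingCat.ofHom (Polynomial.C : A →+* Polynomial A) ≫ (Scheme.ΓSpecIso AX).inv :=
    ofRing_appTop _
  -- base change of `X`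
  let g : (yon S).obj T ⟶ (yon S).obj V := (yon S).map τ
  let XT : Sp S := pullback f g
  let fstX : XT ⟶ X := pullback.fst f g
  let sndX : XT ⟶ (yon S).obj T := pullback.snd f g
  have sqX : IsPullback fstX sndX f g := IsPullback.of_hasPullback f g
  have hcl : IsClosedMap (Points.map sndX) := huc (IsAlgSpace.yon_obj T) g fstX sndX sqX
  -- the chart of `XT`
  let UT : Over S := pullback u τ
  let prU : UT ⟶ U := pullback.fst u τ
  let prT : UT ⟶ T := pullback.snd u τ
  have sqU : IsPullback prU prT u τ := IsPullback.of_hasPullback u τ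
  have sqUy : IsPullback ((yon S).map prU) ((yon S).map prT) ((yon S).map u) g :=
    sqU.map (yon S)
  have hw : ((yon S).map prU ≫ p₀) ≫ f = (yon S).map prT ≫ g := by
    rw [Category.assoc, ← hu]; exact sqUy.w
  let bT : (yon S).obj UT ⟶ XT := pullback.lift ((yon S).map prU ≫ p₀) ((yon S).map prT) hw
  have hb1 : bT ≫ fstX = (yon S).map prU ≫ p₀ := pullback.lift_fst _ _ _
  have hb2 : bT ≫ sndX = (yon S).map prT := pullback.lift_snd _ _ _
  have sqb : IsPullback bT ((yon S).map prU) fstX p₀ := by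
    refine IsPullback.of_right ?_ hb1 sqX.flip
    rw [hb2, ← hu]
    exact sqUy.flip
  have hbe : RepWith @Etale bT := repWith_fst_of_isPullback _ sqb hpe
  have hbs : RepWith @Surjective bT := repWith_fst_of_isPullback _ sqb hps
  -- functions
  let tT : Γ(T.left, ⊤) := (Scheme.ΓSpecIso AX).inv.hom (Polynomial.X : Polynomial A)
  let tU : Γ(UT.left, ⊤) := prT.left.appTop.hom tT
  let sU : Γ(UT.left, ⊤) := prU.left.appTop.hom s₀
  let σ : Γ(UT.left, ⊤) := 1 - tU * sU
  let W : Set ↥UT.left := {w | w ∉ UT.left.basicOpen σ}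
  have hWcl : IsClosed W := by
    show IsClosed ((UT.left.basicOpen σ : Set ↥UT.left)ᶜ)
    exact isClosed_compl_iff.2 (UT.left.basicOpen σ).isOpen
  -- saturation
  have hsat : ∀ w₁ w₂ : ↥UT.left, Points.ofPt bT w₁ = Points.ofPt bT w₂ →
      w₁ ∈ UT.left.basicOpen σ → w₂ ∈ UT.left.basicOpen σ := by
    intro w₁ w₂ hw12 hw₁
    let RT : Over S := hbe.rep.pullback bT
    let q : (yon S).obj RT ⟶ (yon S).obj UT := hbe.rep.fst bT
    let ι : RT ⟶ UT := hbe.rep.snd bT
    have sqR : IsPullback q ((yon S).map ι) bT bT := hbe.rep.isPullback bT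
    let q' : RT ⟶ UT := (yon S).preimage q
    have hq' : (yon S).map q' = q := (yon S).map_preimage q
    have h1 : Points.map bT (Points.ofScheme UT w₁) = Points.ofPt bT w₂ := by
      rw [← Points.ofPt_eq_map_ofScheme]; exact hw12
    obtain ⟨v, hv1, hv2⟩ := exists_of_isPullback_chart sqR (Points.ofScheme UT w₁) w₂ h1
    have hv1' : q'.left v = w₁ := by
      rw [← hq', ofPt_yon_map] at hv1
      exact ofScheme_injective UT hv1
    have e1 : q' ≫ prT = ι ≫ prT := by
      apply (yon S).map_injective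
      rw [Functor.map_comp, Functor.map_comp, hq', ← hb2, ← Category.assoc, ← Category.assoc,
        sqR.w]
    have e2 : (yon S).map (q' ≫ prU) ≫ p₀ = (yon S).map (ι ≫ prU) ≫ p₀ := by
      rw [Functor.map_comp, Functor.map_comp, hq', Category.assoc, Category.assoc, ← hb1,
        ← Category.assoc, ← Category.assoc, sqR.w]
    have e3 : q'.left.appTop.hom (prU.left.appTop.hom s₀) =
        ι.left.appTop.hom (prU.left.appTop.hom s₀) := hs₀ RT (q' ≫ prU) (ι ≫ prU) e2
    have e5 : q'.left.appTop.hom (prT.left.appTop.hom tT) =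
        ι.left.appTop.hom (prT.left.appTop.hom tT) := by
      rw [← appTop_comp_apply, ← appTop_comp_apply, e1]
    have e4 : q'.left.appTop.hom σ = ι.left.appTop.hom σ := by
      show q'.left.appTop.hom (1 - prT.left.appTop.hom tT * prU.left.appTop.hom s₀) =
        ι.left.appTop.hom (1 - prT.left.appTop.hom tT * prU.left.appTop.hom s₀)
      rw [map_sub, map_sub, map_mul, map_mul, map_one, map_one, e3, e5]
    have m1 : v ∈ RT.left.basicOpen (q'.left.appTop.hom σ) := by
      rw [mem_basicOpen_appTop_iff, hv1']; exact hw₁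
    rw [e4, mem_basicOpen_appTop_iff, hv2] at m1
    exact m1
  -- the image of `W` in `XT` is closed
  let Z : Set (Points XT) := Points.ofPt bT '' W
  have hZpre : Points.ofPt bT ⁻¹' Z = W := by
    ext w₂
    constructor
    · rintro ⟨w₁, hw₁, h12⟩
      show w₂ ∉ UT.left.basicOpen σ
      intro hw₂
      exact hw₁ (hsat w₂ w₁ h12.symm hw₂)
    · intro hw₂; exact ⟨w₂, hw₂, rfl⟩
  have hZcl : IsClosed Z := by
    rw [← (isQuotientMap_ofPt bT hbe hbs).isClosed_preimage, hZpre]; exact hWcl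
  -- the image of `W` in `T` is closed
  let C : Set ↥T.left := {x | ∃ w ∈ W, prT.left w = x}
  have hCcl : IsClosed C := by
    have h1 : IsClosed (Points.map sndX '' Z) := hcl Z hZcl
    have h2 : Points.ofScheme T ⁻¹' (Points.map sndX '' Z) = C := by
      ext x
      constructor
      · rintro ⟨z, ⟨w, hw, rfl⟩, hz⟩
        rw [Points.map_ofPt, hb2, ofPt_yon_map] at hz
        exact ⟨w, hw, ofScheme_injective T hz⟩
      · rintro ⟨w, hw, rfl⟩
        refine ⟨Points.ofPt bT w, ⟨w, hw, rfl⟩, ?_⟩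
        rw [Points.map_ofPt, hb2, ofPt_yon_map]
    rw [← h2]; exact h1.preimage (continuous_ofScheme T)
  -- it misses `V(t)`
  have hdisj : ∀ x ∈ C,
      (Polynomial.X : Polynomial A) ∉ PrimeSpectrum.asIdeal (R := Polynomial A) x := by
    rintro x ⟨w, hw, rfl⟩
    have h1 : w ∈ UT.left.basicOpen tU := by
      by_contra hcon
      exact hw (mem_basicOpen_one_sub_mul tU sU w hcon)
    have h2 : prT.left w ∈ (Spec AX).basicOpen
        ((Scheme.ΓSpecIso AX).inv (Polynomial.X : Polynomial A)) :=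
      (mem_basicOpen_appTop_iff prT.left tT w).1 h1
    rw [basicOpen_eq_of_affine] at h2
    exact h2
  obtain ⟨h, h0, hh⟩ := exists_poly_of_closed_disjoint (A := A) C hCcl hdisj
  -- `h(1/s₀)` is nilpotent
  apply exists_monic_of_nilpotent ρ s₀ h h0
  rw [nilpotent_iff_mem_prime]
  intro J hJ
  let L : CommRingCat.{u} := CommRingCat.of (Localization.Away s₀)
  let ιL : B →+* Localization.Away s₀ := algebraMap B (Localization.Away s₀)
  let inv : Localization.Away s₀ := IsLocalization.Away.invSelf s₀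
  let β : AX ⟶ L := CommRingCat.ofHom (Polynomial.eval₂RingHom (ιL.comp ρ) inv)
  let α : B ⟶ L := CommRingCat.ofHom ιL
  let aL : Spec L ⟶ U.left := ofRing α
  let bL : Spec L ⟶ Spec AX := Spec.map β
  have haL : aL.appTop = α ≫ (Scheme.ΓSpecIso L).inv := ofRing_appTop α
  have hbL : bL.appTop = (Scheme.ΓSpecIso AX).hom ≫ β ≫ (Scheme.ΓSpecIso L).inv :=
    specMap_appTop β
  have hαβ : u.left.appTop ≫ α = CommRingCat.ofHom (Polynomial.C : A →+* Polynomial A) ≫ β := by
    ext a
    show ιL (ρ a) = Polynomial.eval₂ (ιL.comp ρ) inv (Polynomial.C a)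
    rw [Polynomial.eval₂_C]; rfl
  have hab : aL ≫ u.left = bL ≫ τ₀ := by
    apply ext_of_isAffine
    rw [Scheme.Hom.comp_appTop, Scheme.Hom.comp_appTop, haL, hbL, hτ₀]
    simp only [Category.assoc, Iso.inv_hom_id_assoc]
    rw [← Category.assoc, hαβ, Category.assoc]
  let SL : Over S := Over.mk (aL ≫ U.hom)
  let a : SL ⟶ U := Over.homMk aL rfl
  have hbw : bL ≫ T.hom = SL.hom := by
    show bL ≫ τ₀ ≫ V.hom = aL ≫ U.hom
    rw [← Category.assoc, ← hab, Category.assoc, Over.w u]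
  let b : SL ⟶ T := Over.homMk bL hbw
  have habO : a ≫ u = b ≫ τ := by
    ext1; exact hab
  let θ : SL ⟶ UT := sqU.lift a b habO
  have hθ1 : θ ≫ prU = a := sqU.lift_fst _ _ _
  have hθ2 : θ ≫ prT = b := sqU.lift_snd _ _ _
  let y : ↥SL.left := (⟨J, hJ⟩ : PrimeSpectrum (Localization.Away s₀))
  have e1 : bL.appTop.hom tT = (Scheme.ΓSpecIso L).inv.hom inv := by
    rw [hbL]
    show (Scheme.ΓSpecIso L).inv.hom (β.hom ((Scheme.ΓSpecIso AX).hom.hom
      ((Scheme.ΓSpecIso AX).inv.hom (Polynomial.X : Polynomial A)))) = _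
    have e0 : (Scheme.ΓSpecIso AX).hom.hom
        ((Scheme.ΓSpecIso AX).inv.hom (Polynomial.X : Polynomial A)) = Polynomial.X :=
      Iso.inv_hom_id_apply (Scheme.ΓSpecIso AX) _
    rw [e0]
    show (Scheme.ΓSpecIso L).inv.hom (Polynomial.eval₂ (ιL.comp ρ) inv Polynomial.X) = _
    rw [Polynomial.eval₂_X]
  have e2 : aL.appTop.hom s₀ = (Scheme.ΓSpecIso L).inv.hom (ιL s₀) := by
    rw [haL]; rfl
  have hσ : θ.left.appTop.hom σ = 0 := by
    show θ.left.appTop.hom (1 - prT.left.appTop.hom tT * prU.left.appTop.hom s₀) = 0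
    rw [map_sub, map_one, map_mul, ← appTop_comp_apply, ← appTop_comp_apply, hθ1, hθ2]
    show 1 - bL.appTop.hom tT * aL.appTop.hom s₀ = 0
    rw [e1, e2, ← map_mul]
    have e3 : inv * ιL s₀ = 1 := by
      rw [mul_comm]; exact IsLocalization.Away.mul_invSelf s₀
    rw [e3, map_one, sub_self]
  have hyW : θ.left y ∈ W := by
    show θ.left y ∉ UT.left.basicOpen σ
    rw [← mem_basicOpen_appTop_iff, hσ, Scheme.basicOpen_zero]
    exact fun h => h
  have hyC : bL y ∈ C := by
    refine ⟨θ.left y, hyW, ?_⟩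
    show (θ ≫ prT).left y = bL y
    rw [hθ2]
    rfl
  exact hh _ hyC

end Groth.Agent.Lib.MonicGsectH6
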