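import Groth.Agent.Lib.FibCatPaste_lead

/-!
# The graph of a morphism is a base change of the diagonal (lead)
-/

set_option autoImplicit false

universe v₆ u₆ v₅ u₅ v₄ u₄ v₃ u₃ v₂ u₂ v u

open CategoryTheory CategoryTheory.Limits FibCat

namespace Groth.Agent.Lib.FibCatGraph

open Groth.Agent.Lib.FibCat_helper6 Groth.Agent.Lib.FibCat3_helper6
  Groth.Agent.Lib.FibCat14_helper6 Groth.Agent.Lib.LiftSqBC Groth.Agent.Lib.FibCatPaste
  Groth.Agent.Lib.LiftSqComp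

variable {C : Type u} [Category.{v} C]

theorem graph_aux {E : Type*} [Category E] {A B X Y : E} {eh : A ⟶ B} {ei : B ⟶ A}
    (hie : eh ≫ ei = 𝟙 A) {θ : A ⟶ Y} {a : B ⟶ X} {b : Y ⟶ X} {b' : X ⟶ Y} (hb : b ≫ b' = 𝟙 Y)
    (h : a ≫ 𝟙 X = (ei ≫ θ) ≫ b) : θ = eh ≫ a ≫ b' := by
  rw [Category.comp_id] at h
  rw [h]
  simp only [Category.assoc, hb, Category.comp_id]
  rw [← Category.assoc, hie, Category.id_comp]

variable {𝒳 : BasedCategory.{v₂, u₂} C} {𝒴 : BasedCategory.{v₃, u₃} C}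
  {𝒯 : BasedCategory.{v₄, u₄} C}
  (p : 𝒳 ⥤ᵇ 𝒯) (q : 𝒴 ⥤ᵇ 𝒯) (g : 𝒳 ⥤ᵇ 𝒴)
  (e : BasedFunctor.comp (BasedFunctor.id 𝒳) p ≅ BasedFunctor.comp g q)

/-- `q g x ≅ p x ≅ q y`. -/
def xiIso : BasedFunctor.comp (BasedFunctor.comp (fpFst p q) g) q ≅
    BasedFunctor.comp (fpSnd p q) q :=
  (whiskerLeftIso (fpFst p q) e.symm :
      BasedFunctor.comp (fpFst p q) (BasedFunctor.comp g q) ≅
      BasedFunctor.comp (fpFst p q) (BasedFunctor.comp (BasedFunctor.id 𝒳) p)) ≪≫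
  (fpIso p q : BasedFunctor.comp (fpFst p q) p ≅ BasedFunctor.comp (fpSnd p q) q)

/-- `(x, y, θ) ↦ (g x, y, e_x⁻¹ ≫ θ)`. -/
def Xi : fp p q ⥤ᵇ fp q q :=
  fpLift (BasedFunctor.comp (fpFst p q) g) (fpSnd p q) (xiIso p q g e)

theorem Xi_obj_iso_hom (W : (fp p q).obj) :
    ((Xi p q g e).obj W).obj.iso.hom = e.inv.toNatTrans.app W.obj.fst ≫ W.obj.iso.hom := rfl

/-- The graph morphism. -/
abbrev graph : 𝒳 ⥤ᵇ fp p q := fpLift (BasedFunctor.id 𝒳) g e

def sqIso : BasedFunctor.comp (graph p q g e) (Xi p q g e) ≅ BasedFunctor.comp g (diag q) :=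
  isoMk2 q q (H := BasedFunctor.comp (graph p q g e) (Xi p q g e))
    (K := BasedFunctor.comp g (diag q)) (Iso.refl g) (Iso.refl g) (fun x => by
      show q.toFunctor.map (𝟙 (g.obj x)) ≫ 𝟙 (q.obj (g.obj x)) =
        (e.inv.toNatTrans.app x ≫ e.hom.toNatTrans.app x) ≫ q.toFunctor.map (𝟙 (g.obj x))
      have h := app_congr e.inv_hom_id x
      have h' : e.inv.toNatTrans.app x ≫ e.hom.toNatTrans.app x = 𝟙 (q.obj (g.obj x)) := h
      rw [h', q.toFunctor.map_id]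
      rfl)

/-- The comparison functor of the square. -/
def graphBC : 𝒳 ⥤ᵇ fp (Xi p q g e) (diag q) := fpLift (graph p q g e) g (sqIso p q g e)

instance graphBC_faithful : (graphBC p q g e).toFunctor.Faithful where
  map_injective := by
    intro x x' m m' h
    exact congrArg (fun n => n.hom.fst.hom.fst) h

instance graphBC_full : (graphBC p q g e).toFunctor.Full where
  map_surjective := by
    intro x x' n
    have h1 : g.toFunctor.map n.hom.fst.hom.fst ≫ 𝟙 _ = 𝟙 _ ≫ n.hom.snd :=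
      congrArg (fun m => m.hom.fst) n.hom.w
    have h2 : n.hom.fst.hom.snd ≫ 𝟙 _ = 𝟙 _ ≫ n.hom.snd :=
      congrArg (fun m => m.hom.snd) n.hom.w
    have h1' : g.toFunctor.map n.hom.fst.hom.fst = n.hom.snd :=
      (Category.comp_id _).symm.trans (h1.trans (Category.id_comp _))
    have h2' : n.hom.fst.hom.snd = n.hom.snd :=
      (Category.comp_id _).symm.trans (h2.trans (Category.id_comp _))
    refine ⟨n.hom.fst.hom.fst, ?_⟩
    apply fp_hom_ext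
    · apply fp_hom_ext
      · rfl
      · exact h1'.trans h2'.symm
    · exact h1'

theorem graphBC_essSurj (V : (fp (Xi p q g e) (diag q)).obj) :
    ∃ (x : 𝒳.obj) (φ : (graphBC p q g e).obj x ≅ V),
      (fp (Xi p q g e) (diag q)).p.IsHomLift (𝟙 ((fp (Xi p q g e) (diag q)).p.obj V)) φ.hom := by
  let W : (fp p q).obj := V.obj.fst
  let x : 𝒳.obj := W.obj.fst
  let κ₁ : g.obj x ≅ V.obj.snd := (fpFst q q).toFunctor.mapIso V.obj.iso
  let κ₂ : W.obj.snd ≅ V.obj.snd := (fpSnd q q).toFunctor.mapIso V.obj.iso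
  have hκ : q.toFunctor.map κ₁.hom ≫ 𝟙 _ =
      (e.inv.toNatTrans.app x ≫ W.obj.iso.hom) ≫ q.toFunctor.map κ₂.hom :=
    V.obj.iso.hom.hom.w
  have hκ₂' : q.toFunctor.map κ₂.hom ≫ q.toFunctor.map κ₂.inv = 𝟙 _ := by
    rw [← q.toFunctor.map_comp, κ₂.hom_inv_id, q.toFunctor.map_id]
  have hie : e.hom.toNatTrans.app x ≫ e.inv.toNatTrans.app x = 𝟙 (p.obj x) :=
    app_congr e.hom_inv_id x
  let a : (graph p q g e).obj x ≅ W :=
    fpIsoMk (F := p) (G := q) (X := (graph p q g e).obj x) (Y := W) (Iso.refl x)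
      (κ₁ ≪≫ κ₂.symm) (by
      show p.toFunctor.map (𝟙 x) ≫ W.obj.iso.hom =
        e.hom.toNatTrans.app x ≫ q.toFunctor.map (κ₁.hom ≫ κ₂.inv)
      rw [p.toFunctor.map_id, Category.id_comp, q.toFunctor.map_comp]
      exact graph_aux hie hκ₂' hκ)
  refine ⟨x, fpIsoMk (F := Xi p q g e) (G := diag q) (X := (graphBC p q g e).obj x) (Y := V)
    a κ₁ ?_, ?_⟩
  · apply fp_hom_ext
    · show g.toFunctor.map (𝟙 x) ≫ κ₁.hom = 𝟙 _ ≫ κ₁.hom
      rw [g.toFunctor.map_id]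
    · show (κ₁.hom ≫ κ₂.inv) ≫ κ₂.hom = 𝟙 _ ≫ κ₁.hom
      rw [Category.assoc, κ₂.inv_hom_id, Category.comp_id, Category.id_comp]
  · apply fpIsoMk_isHomLift
    apply fpIsoMk_isHomLift
    exact (inferInstance : 𝒳.p.IsHomLift (𝟙 (𝒳.p.obj x)) (𝟙 x))

theorem graphBC_isEquivOver : IsEquivOver (graphBC p q g e) :=
  isEquivOver_of_fullyFaithful (graphBC p q g e) (graphBC_essSurj p q g e)

end Groth.Agent.Lib.FibCatGraph
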