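import Groth.Agent.Lib.AlgStBC_lead
import Groth.Agent.Lib.FibCatGraph_lead
import Groth.Prelude.Def_AlgSt3

/-!
# The graph of a morphism inherits the properties of the diagonal (lead)
-/

set_option autoImplicit false

universe u

open CategoryTheory CategoryTheory.Limits AlgebraicGeometry Opposite FibCat

namespace Groth.Agent.Lib.AlgStGraph

open AlgSt Groth.Agent.Lib.AlgStBC Groth.Agent.Lib.FibCatGraph

variable {S : Scheme.{u}}

theorem repWith_graph {𝒳 𝒴 𝒯 : AlgSt.Cat S} (P : MorphismProperty (AlgSp.Sp S))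
    (p : 𝒳 ⥤ᵇ 𝒯) (q : 𝒴 ⥤ᵇ 𝒯) (g : 𝒳 ⥤ᵇ 𝒴)
    (e : BasedFunctor.comp (BasedFunctor.id 𝒳) p ≅ BasedFunctor.comp g q)
    (h : RepByAlgSpWith P (diag q)) :
    RepByAlgSpWith P (fpLift (BasedFunctor.id 𝒳) g e) :=
  repWith_of_twoCart P (g := Xi p q g e) (f := diag q) (graph p q g e) g (sqIso p q g e)
    (graphBC_isEquivOver p q g e) h

end Groth.Agent.Lib.AlgStGraph
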