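import Groth.Agent.Lib.OfPshWith_lead
import Groth.Agent.Lib.AlgSpAffineMor_helper7
import Groth.Agent.Lib.AlgStGraph_lead
import Mathlib.AlgebraicGeometry.Morphisms.Integral
import Mathlib.AlgebraicGeometry.Morphisms.Finite

/-!
# Composition of morphisms representable by algebraic spaces with a property that can be tested
on base changes to schemes (lead)
-/

set_option autoImplicit false

universe u

open CategoryTheory CategoryTheory.Limits AlgebraicGeometry Opposite FibCat Stk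

namespace Groth.Agent.Lib.OfPshWith

open AlgSt Groth.Agent.Lib.FibCat_helper6 Groth.Agent.Lib.FibCat3_helper6
  Groth.Agent.Lib.FibCat14_helper6 Groth.Agent.Lib.FibCatPaste Groth.Agent.Lib.FibCatSwap
  Groth.Agent.Lib.OfPshCalc Groth.Agent.Lib.OfPshIso Groth.Agent.Lib.AlgStBC
  Groth.Agent.Lib.AlgStEquiv Groth.Agent.Lib.AlgStEquivP Groth.Agent.Lib.AlgStEquivInv
  Groth.Agent.Lib.OfPshAlgSt Groth.Agent.Lib.LiftSqBC Groth.Agent.Lib.LiftSqComp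

variable {S : Scheme.{u}}

/-- `P` can be tested on base changes to schemes. -/
def SchemeTestable (P : MorphismProperty (AlgSp.Sp S)) : Prop :=
  ∀ ⦃V Z : AlgSp.Sp S⦄ (a : V ⟶ Z), AlgSp.IsAlgSpace V → AlgSp.IsAlgSpace Z →
    AlgSp.RepBySpWith P a.hom → P a

theorem schemeTestable_of_local (P : MorphismProperty (AlgSp.Sp S))
    (hP : AlgSp.IsLocalOnBase AlgSp.IsFppfCover P) : SchemeTestable P :=
  fun _ _ a hV hZ h => prop_of_repBySpWith P hP hV hZ a h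

theorem isPullback_sheaf {V Z X' Y : AlgSp.Sp S} {a : V ⟶ Z} {g : Y ⟶ Z} {fst : X' ⟶ V}
    {snd : X' ⟶ Y} (sq : IsPullback fst.hom snd.hom a.hom g.hom) : IsPullback fst snd a g := by
  refine IsPullback.of_map (sheafToPresheaf (AlgSp.J S) (Type (u + 1))) ?_ sq
  apply ObjectProperty.hom_ext
  exact sq.w

section stk

variable {𝒳 𝒴 𝒵 : AlgSt.Cat S}

theorem exists_space_of_repWith' (h𝒳 : IsFibGrpd 𝒳.p) (h𝒴 : IsFibGrpd 𝒴.p)
    (P : MorphismProperty (AlgSp.Sp S)) (hI : IsoInv P) (hL : SchemeTestable P)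
    (f : 𝒳 ⥤ᵇ 𝒴) (hf : AlgSt.RepByAlgSpWith P f) (Z : AlgSp.Space S)
    (z : AlgSt.ofSp Z.obj ⥤ᵇ 𝒴) :
    ∃ (V : AlgSp.Space S) (a : V ⟶ Z) (e : AlgSt.ofSp V.obj ⥤ᵇ FibCat.fp z f),
      FibCat.IsEquivOver e ∧
        Nonempty (BasedFunctor.comp e (FibCat.fpFst z f) ≅ AlgSt.ofSpMap a.hom) ∧ P a.hom := by
  have hf1 : AlgSt.RepByAlgSp1 f := fun U y => by
    obtain ⟨F, e, he, _⟩ := hf U y
    exact ⟨F, e, he⟩
  obtain ⟨V, e, he⟩ := repByAlgSp_fp_ofSp h𝒳 h𝒴 f hf1 Z z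
  let π' : Stk.ofPsh V.obj.obj ⥤ᵇ Stk.ofPsh Z.obj.obj := BasedFunctor.comp e (fpFst z f)
  let a₀ : V.obj.obj ⟶ Z.obj.obj := mapOf π'
  let a : V ⟶ Z := ObjectProperty.homMk (ObjectProperty.homMk a₀)
  have r1 : AlgSt.RepByAlgSpWith P (fpFst z f) := repWith_baseChange P f z hf
  have r2 : AlgSt.RepByAlgSpWith P π' := repWith_precomp_equiv P e he (fpFst z f) r1
  have r3 : AlgSt.RepByAlgSpWith P (Stk.ofPshMap a₀) := repWith_of_iso P (isoOf π') r2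
  have r4 : AlgSp.RepBySpWith P a₀ := repBySpWith_of_repByAlgSpWith P hI a₀ r3
  have r5 : P a.hom := hL a.hom V.property Z.property r4
  exact ⟨V, a, e, he, ⟨isoOf π'⟩, r5⟩

/-- Composition of morphisms representable by algebraic spaces with property `P`, for `P`
testable on base changes to schemes. -/
theorem repWith_comp' (h𝒳 : IsFibGrpd 𝒳.p) (h𝒴 : IsFibGrpd 𝒴.p)
    (P : MorphismProperty (AlgSp.Sp S)) (hI : IsoInv P) (hL : SchemeTestable P)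
    (hPc : ∀ ⦃X Y Z : AlgSp.Sp S⦄, AlgSp.IsAlgSpace X → AlgSp.IsAlgSpace Y → AlgSp.IsAlgSpace Z →
      ∀ (a : X ⟶ Y) (b : Y ⟶ Z), P a → P b → P (a ≫ b))
    (f : 𝒳 ⥤ᵇ 𝒴) (g : 𝒴 ⥤ᵇ 𝒵) (hf : AlgSt.RepByAlgSpWith P f)
    (hg : AlgSt.RepByAlgSpWith P g) : AlgSt.RepByAlgSpWith P (BasedFunctor.comp f g) := by
  intro U z
  obtain ⟨F₁, e₁, he₁, hP₁⟩ := hg U z
  obtain ⟨V, a, e₂, he₂, ⟨i₂⟩, hPa⟩ :=
    exists_space_of_repWith' h𝒳 h𝒴 P hI hL f hf F₁ (BasedFunctor.comp e₁ (fpSnd z g))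
  have hpre := precomp₁_isEquivOver e₁ he₁ (fpSnd z g) f
  obtain ⟨Θ, ⟨η⟩, ⟨ε⟩⟩ := unpaste_isEquivOver z g f
  have hΘ : IsEquivOver Θ := isEquivOver_inverse η ε
  refine ⟨V, BasedFunctor.comp e₂ (BasedFunctor.comp (precomp₁ e₁ (fpSnd z g) f) Θ),
    isEquivOver_comp he₂ (isEquivOver_comp hpre hΘ), ?_⟩
  have κ : BasedFunctor.comp Θ (fpFst z (BasedFunctor.comp f g)) ≅
      BasedFunctor.comp (fpFst (fpSnd z g) f) (fpFst z g) :=
    whiskerLeftIso Θ (unpasteFstIso z g f).symm ≪≫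
      whiskerRightIso ε (BasedFunctor.comp (fpFst (fpSnd z g) f) (fpFst z g))
  have iso : BasedFunctor.comp
      (BasedFunctor.comp e₂ (BasedFunctor.comp (precomp₁ e₁ (fpSnd z g) f) Θ))
      (fpFst z (BasedFunctor.comp f g)) ≅
      BasedFunctor.comp (AlgSt.ofSpMap a.hom) (BasedFunctor.comp e₁ (fpFst z g)) :=
    whiskerLeftIso (BasedFunctor.comp e₂ (precomp₁ e₁ (fpSnd z g) f)) κ ≪≫
      whiskerRightIso i₂ (BasedFunctor.comp e₁ (fpFst z g))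
  have hk : AlgSt.spMapOfOver (BasedFunctor.comp
      (BasedFunctor.comp e₂ (BasedFunctor.comp (precomp₁ e₁ (fpSnd z g) f) Θ))
      (fpFst z (BasedFunctor.comp f g))) =
      a.hom ≫ AlgSt.spMapOfOver (BasedFunctor.comp e₁ (fpFst z g)) :=
    (spMapOfOver_congr iso.hom).trans (spMapOfOver_comp_ofSpMap a.hom _)
  rw [hk]
  exact hPc V.property F₁.property (AlgSp.IsAlgSpace.yon_obj U) a.hom _ hPa hP₁

/-- Base change along the second projection. -/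
theorem repWith_fpSnd (P : MorphismProperty (AlgSp.Sp S)) (a : 𝒳 ⥤ᵇ 𝒵) (b : 𝒴 ⥤ᵇ 𝒵)
    (ha : AlgSt.RepByAlgSpWith P a) : AlgSt.RepByAlgSpWith P (fpSnd a b) :=
  repWith_precomp_equiv P (swap a b) (swap_isEquivOver a b) (fpFst b a)
    (repWith_baseChange P a b ha)

/-- In a 2-commutative triangle `b ∘ f ≅ a`, if `a` and the diagonal of `b` have `P` then so does
`f` (for `P` stable under composition and testable on schemes). -/
theorem repWith_of_triangle (h𝒳 : IsFibGrpd 𝒳.p) (h𝒴 : IsFibGrpd 𝒴.p) (h𝒵 : IsFibGrpd 𝒵.p)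
    (P : MorphismProperty (AlgSp.Sp S)) (hI : IsoInv P) (hL : SchemeTestable P)
    (hPc : ∀ ⦃X Y Z : AlgSp.Sp S⦄, AlgSp.IsAlgSpace X → AlgSp.IsAlgSpace Y → AlgSp.IsAlgSpace Z →
      ∀ (a : X ⟶ Y) (b : Y ⟶ Z), P a → P b → P (a ≫ b))
    (f : 𝒳 ⥤ᵇ 𝒴) (a : 𝒳 ⥤ᵇ 𝒵) (b : 𝒴 ⥤ᵇ 𝒵) (e : BasedFunctor.comp f b ≅ a)
    (ha : AlgSt.RepByAlgSpWith P a) (hb : AlgSt.RepByAlgSpWith P (FibCat.diag b)) :
    AlgSt.RepByAlgSpWith P f := by
  have e' : BasedFunctor.comp (BasedFunctor.id 𝒳) a ≅ BasedFunctor.comp f b := e.symm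
  have h1 : AlgSt.RepByAlgSpWith P (fpLift (BasedFunctor.id 𝒳) f e') :=
    Groth.Agent.Lib.AlgStGraph.repWith_graph P a b f e' hb
  have h2 : AlgSt.RepByAlgSpWith P (fpSnd a b) := repWith_fpSnd P a b ha
  have hfp : IsFibGrpd (fp a b).p :=
    Groth.Agent.Lib.FibCat12_helper6.isFibGrpd_fp a b h𝒳 h𝒴 h𝒵
  exact repWith_comp' h𝒳 hfp P hI hL hPc (fpLift (BasedFunctor.id 𝒳) f e') (fpSnd a b) h1 h2

end stk

/-! ### Properties read on base changes to affine schemes -/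

/-- `f` has `AffQ R` when every base change to an affine scheme is a scheme whose structure
morphism satisfies `R`. -/
def AffQ (R : ∀ ⦃W Z : Over S⦄, (W ⟶ Z) → Prop) : MorphismProperty (AlgSp.Sp S) := fun F G f =>
  ∀ ⦃Z : Over S⦄, IsAffine Z.left → ∀ (g : (AlgSp.yon S).obj Z ⟶ G),
    ∃ (W : Over S) (i : W ⟶ Z) (fst : (AlgSp.yon S).obj W ⟶ F),
      IsPullback fst ((AlgSp.yon S).map i) f g ∧ R i

theorem isoInv_affQ (R : ∀ ⦃W Z : Over S⦄, (W ⟶ Z) → Prop) : IsoInv (AffQ R) := by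
  intro X X' Y i f _ _ _ H Z hZ g
  obtain ⟨W, j, fst, sq, h⟩ := H hZ g
  exact ⟨W, j, fst ≫ i.hom, IsPullback.of_iso sq (Iso.refl _) i (Iso.refl _) (Iso.refl _)
    (by simp) (by simp) (by simp) (by simp), h⟩

theorem schemeTestable_affQ (R : ∀ ⦃W Z : Over S⦄, (W ⟶ Z) → Prop) :
    SchemeTestable (AffQ R) := by
  intro V Z₀ a hV hZ₀ ha Z hZ g
  let ξ : (AlgSp.pyon S).obj Z ⟶ Z₀.obj := g.hom
  have sq : IsPullback (pullback.fst a.hom ξ) (pullback.snd a.hom ξ) a.hom ξ :=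
    IsPullback.of_hasPullback a.hom ξ
  obtain ⟨hs, hA, hq⟩ := ha ξ _ _ sq
  let X' : AlgSp.Sp S := ⟨pullback a.hom ξ, hs⟩
  let q : X' ⟶ V := ObjectProperty.homMk (pullback.fst a.hom ξ)
  let r : X' ⟶ (AlgSp.yon S).obj Z := ObjectProperty.homMk (pullback.snd a.hom ξ)
  have sq' : IsPullback q r a g := isPullback_sheaf sq
  obtain ⟨W, i, fst', sqA, h⟩ := hq hZ (𝟙 _)
  refine ⟨W, i, fst' ≫ q, ?_, h⟩
  have h2 := sqA.paste_horiz sq'
  rwa [Category.id_comp] at h2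

theorem isAffineMor_eq : (AlgSp.IsAffineMor : MorphismProperty (AlgSp.Sp S)) =
    AffQ (fun W _ _ => IsAffine W.left) := rfl

theorem isIntegralMor_eq : (AlgSp.IsIntegralMor : MorphismProperty (AlgSp.Sp S)) =
    AffQ (fun W _ i => IsAffine W.left ∧ IsIntegralHom i.left) := rfl

theorem isFiniteMor_eq : (AlgSp.IsFiniteMor : MorphismProperty (AlgSp.Sp S)) =
    AffQ (fun W _ i => IsAffine W.left ∧ IsFinite i.left) := rfl

theorem isIntegralMor_comp {X Y B : AlgSp.Sp S} (f : X ⟶ Y) (g : Y ⟶ B)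
    (hf : AlgSp.IsIntegralMor f) (hg : AlgSp.IsIntegralMor g) : AlgSp.IsIntegralMor (f ≫ g) := by
  intro Z hZ c
  obtain ⟨W, i, fstW, sq₂, hW, hi⟩ := hg hZ c
  obtain ⟨W', i', fst', sq₁, hW', hi'⟩ := hf hW fstW
  refine ⟨W', i' ≫ i, fst', ?_, hW', ?_⟩
  · rw [CategoryTheory.Functor.map_comp]
    exact sq₁.paste_vert sq₂
  · rw [Over.comp_left]
    infer_instance

theorem isFiniteMor_comp {X Y B : AlgSp.Sp S} (f : X ⟶ Y) (g : Y ⟶ B)
    (hf : AlgSp.IsFiniteMor f) (hg : AlgSp.IsFiniteMor g) : AlgSp.IsFiniteMor (f ≫ g) := by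
  intro Z hZ c
  obtain ⟨W, i, fstW, sq₂, hW, hi⟩ := hg hZ c
  obtain ⟨W', i', fst', sq₁, hW', hi'⟩ := hf hW fstW
  refine ⟨W', i' ≫ i, fst', ?_, hW', ?_⟩
  · rw [CategoryTheory.Functor.map_comp]
    exact sq₁.paste_vert sq₂
  · rw [Over.comp_left]
    infer_instance

theorem isoInv_isAffineMor : IsoInv (AlgSp.IsAffineMor : MorphismProperty (AlgSp.Sp S)) :=
  isoInv_affQ _

theorem schemeTestable_isAffineMor :
    SchemeTestable (AlgSp.IsAffineMor : MorphismProperty (AlgSp.Sp S)) :=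
  schemeTestable_affQ _

theorem isoInv_isIntegralMor : IsoInv (AlgSp.IsIntegralMor : MorphismProperty (AlgSp.Sp S)) :=
  isoInv_affQ _

theorem schemeTestable_isIntegralMor :
    SchemeTestable (AlgSp.IsIntegralMor : MorphismProperty (AlgSp.Sp S)) :=
  schemeTestable_affQ _

theorem isoInv_isFiniteMor : IsoInv (AlgSp.IsFiniteMor : MorphismProperty (AlgSp.Sp S)) :=
  isoInv_affQ _

theorem schemeTestable_isFiniteMor :
    SchemeTestable (AlgSp.IsFiniteMor : MorphismProperty (AlgSp.Sp S)) :=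
  schemeTestable_affQ _

end Groth.Agent.Lib.OfPshWith
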