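import Mathlib
import Groth.Agent.Lib.AlgSpEtSplit2_helper6
import Groth.Agent.Lib.MonicGsect_helper6
import Groth.Agent.Lib.AlgSpOpen_helper7
import Groth.Agent.Lib.AffDesc5_helper7
import Groth.Agent.Lib.AlgSpFpqc3_helper7
import Groth.Agent.Lib.OfPshWith2_lead
import Groth.Agent.Lib.AlgSpLocP_helper7
import Groth.Agent.Lib.AlgSpQfFin_helper7

/-!
# Proper + quasi-finite over a point ⇒ finite over a neighbourhood (helper6)
-/

set_option autoImplicit false
universe u
open CategoryTheory CategoryTheory.Limits AlgebraicGeometry Opposite TopologicalSpace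

namespace Groth.Agent.Lib.AlgSpPropFinH6

open AlgSp Groth.Agent.Lib.AlgSpPoints_helper7 Groth.Agent.Lib.AlgSpOpenSub_helper7
  Groth.Agent.Lib.AlgSpPullback_helper7 Groth.Agent.Lib.AlgSpIso_helper7
  Groth.Agent.Lib.AlgSpBasic_helper7 Groth.Agent.Lib.AlgSpDescent_helper7
  Groth.Agent.Lib.AlgSpSmST_helper7 Groth.Agent.Lib.AlgSpSep_helper7
  Groth.Agent.Lib.AlgSpUnram_helper7 Groth.Agent.Lib.AlgSpQC2_helper7
  Groth.Agent.Lib.AlgSpFinDescH6 Groth.Agent.Lib.AlgSpProper_helper7
  Groth.Agent.Lib.ElemDistSq_helper7 Groth.Agent.Lib.AlgSpEtSplitH6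
  Groth.Agent.Lib.AlgSpEtSplit2H6 Groth.Agent.Lib.AlgSpOpen_helper7
  Groth.Agent.Lib.AlgSpQC_helper7 Groth.Agent.Lib.AlgSpQfFinH7

variable {S : Scheme.{u}}

/-- A quasi-compact morphism of schemes which is quasi-finite near every point of the fibre over
`v` has a finite fibre over `v`. -/
theorem finite_fibre_of_near {A V : Scheme.{u}} (f : A ⟶ V) [QuasiCompact f] (v : V)
    (h : ∀ a, f a = v → ∃ W : A.Opens, a ∈ W ∧ LocallyQuasiFinite (W.ι ≫ f) ∧
      LocallyOfFiniteType (W.ι ≫ f)) : (f ⁻¹' {v}).Finite := by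
  refine (f.isCompact_preimage_singleton v).finite ?_
  rw [isDiscrete_iff_forall_mem_exists_isOpen]
  intro a ha
  have ha' : f a = v := ha
  obtain ⟨W, haW, h1, h2⟩ := h a ha'
  haveI := h1
  haveI := h2
  obtain ⟨O, haO, -, -, -, hO⟩ := exists_affine_isolating f a W haW
  refine ⟨O, O.2, ?_⟩
  ext a'
  constructor
  · rintro ⟨h3, h4⟩
    have h4' : f a' = v := h4
    exact hO a' h3 (h4'.trans ha'.symm)
  · intro h3
    have h3' : a' = a := h3
    rw [h3']
    exact ⟨haO, ha⟩

/-- Finite morphisms are stable under base change. -/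
theorem isFiniteMor_baseChange {P' F G Z' : Sp S} {p' : P' ⟶ F} {q' : P' ⟶ Z'} {f : F ⟶ G}
    {g : Z' ⟶ G} (sq : IsPullback p' q' f g) (hf : IsFiniteMor f) : IsFiniteMor q' := by
  intro Z hZ c
  obtain ⟨W, i, fst, sqW, hW, hi⟩ := hf hZ (c ≫ g)
  refine ⟨W, i, sq.lift fst ((yon S).map i ≫ c) (by rw [Category.assoc]; exact sqW.w), ?_, hW, hi⟩
  refine IsPullback.of_right ?_ (sq.lift_snd _ _ _) sq
  rw [sq.lift_fst]
  exact sqW

theorem isFiniteMor_of_isIso {F G : Sp S} (e : F ⟶ G) [IsIso e] : IsFiniteMor e :=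
  isFiniteMor_of_repWith e (Groth.Agent.Lib.AlgSpBasic_helper7.repWith_of_isIso @IsFinite e)

open Groth.Agent.Lib.AlgSpQfLocusH7 Groth.Agent.Lib.UnramLocH7 in
/-- A proper morphism quasi-finite at all points over `y` becomes finite after base change to an
étale neighbourhood of `y` (a scheme). -/
theorem exists_finite_chart {X Y : Space S} (f : X ⟶ Y) (y : Points Y.obj)
    (hf : IsProperMor f.hom)
    (hq : ∀ x : Points X.obj, Points.map f.hom x = y → HasAtMor QQ f.hom x) :
    ∃ (T : Over S) (a : (yon S).obj T ⟶ Y.obj) (t : ↥T.left), RepWith @Etale a ∧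
      Points.ofPt a t = y ∧
      ∀ (P : Space S) (prX : P.obj ⟶ X.obj) (prU : P.obj ⟶ (yon S).obj T),
        IsPullback prX prU f.hom a → IsFiniteMor prU := by
  classical
  obtain ⟨hf2, ⟨hf1, hfqc⟩, hfcl⟩ := hf
  obtain ⟨V₁, b₁, y₁, hV₁, hb₁, hy₁⟩ := exists_affine_chart Y.property y
  haveI := hV₁
  have sq₁ := IsPullback.of_hasPullback f.hom b₁
  have hP₁ : IsAlgSpace (pullback f.hom b₁) :=
    isAlgSpace_of_isPullback Y.property.diag X.property (IsAlgSpace.yon_obj V₁) sq₁
  let P₁ : Space S := ⟨pullback f.hom b₁, hP₁⟩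
  let q₁ : P₁.obj ⟶ (yon S).obj V₁ := pullback.snd f.hom b₁
  have hP₁qc : IsQuasiCompactSp P₁.obj :=
    hfqc (IsAlgSpace.yon_obj V₁) (isQuasiCompactSp_yon V₁) b₁ _ _ sq₁
  obtain ⟨U', c, hU'aff, hce, hcs⟩ := Groth.Agent.Lib.MonicGsectH6.exists_affine_atlas hP₁qc
  haveI := hU'aff
  obtain ⟨h', hh'⟩ := (yon S).map_surjective (c ≫ q₁)
  have hcq : c ≫ q₁ = (yon S).map h' := hh'.symm
  let a₀ : (yon S).obj U' ⟶ X.obj := c ≫ pullback.fst f.hom b₁
  have ha₀e : RepWith @Etale a₀ := repWith_comp _ hce (repWith_fst_of_isPullback _ sq₁ hb₁)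
  have comm₀ : a₀ ≫ f.hom = (yon S).map h' ≫ b₁ := by
    show (c ≫ pullback.fst f.hom b₁) ≫ f.hom = _
    rw [Category.assoc, pullback.condition, ← Category.assoc]
    show (c ≫ q₁) ≫ b₁ = _
    rw [hcq]
  haveI hlft : LocallyOfFiniteType h'.left := hf1 a₀ b₁ h' ha₀e hb₁ comm₀
  have hfibfin : (h'.left ⁻¹' {y₁}).Finite := by
    refine finite_fibre_of_near h'.left y₁ ?_
    intro z hz
    have hx : Points.map f.hom (Points.ofPt a₀ z) = y := by
      rw [Points.map_ofPt, comm₀, ofPt_comp, hz, hy₁]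
    exact (hasAtMor_iff f a₀ b₁ h' z ha₀e hb₁ comm₀).1 (hq _ hx)
  obtain ⟨T₀, g, t, hg, hgt, -, V, -, -, hfinV, hall⟩ :=
    Groth.Agent.Lib.EtNbhdFinH4.main5985 h'.left y₁ hfibfin
  haveI := hg
  let T' : Over S := Over.mk (g ≫ V₁.hom)
  let gT : T' ⟶ V₁ := Over.homMk g rfl
  let Q' : Over S := Over.mk (pullback.fst h'.left g ≫ U'.hom)
  let qU : Q' ⟶ U' := Over.homMk (pullback.fst h'.left g) rfl
  let qT : Q' ⟶ T' := Over.homMk (pullback.snd h'.left g) (by
    show pullback.snd h'.left g ≫ g ≫ V₁.hom = pullback.fst h'.left g ≫ U'.hom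
    rw [← pullback.condition_assoc, Over.w h'])
  have hqq : qU ≫ h' = qT ≫ gT := Over.OverMorphism.ext pullback.condition
  let a : (yon S).obj T' ⟶ Y.obj := (yon S).map gT ≫ b₁
  have hae : RepWith @Etale a := repWith_comp _ ((repWith_yon_map_iff @Etale gT).2 hg) hb₁
  have sqP := IsPullback.of_hasPullback f.hom a
  have hP : IsAlgSpace (pullback f.hom a) :=
    isAlgSpace_of_isPullback Y.property.diag X.property (IsAlgSpace.yon_obj T') sqP
  let P : Space S := ⟨pullback f.hom a, hP⟩
  let prX : P.obj ⟶ X.obj := pullback.fst f.hom a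
  let prU' : P.obj ⟶ (yon S).obj T' := pullback.snd f.hom a
  let prU : P ⟶ (ofScheme S).obj T' := ObjectProperty.homMk prU'
  let ρ : P.obj ⟶ P₁.obj := pullback.lift prX (prU' ≫ (yon S).map gT)
    (by rw [Category.assoc]; exact sqP.w)
  have hρ1 : ρ ≫ pullback.fst f.hom b₁ = prX := pullback.lift_fst _ _ _
  have hρ2 : ρ ≫ q₁ = prU' ≫ (yon S).map gT := pullback.lift_snd _ _ _
  have sqρ : IsPullback ρ prU' q₁ ((yon S).map gT) := by
    refine IsPullback.of_right ?_ hρ2 sq₁
    rw [hρ1]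
    exact sqP
  have sqL : IsPullback qU.left qT.left h'.left gT.left := IsPullback.of_hasPullback h'.left g
  have sqO : IsPullback qU qT h' gT :=
    IsPullback.of_map (Over.forget S) (Over.OverMorphism.ext sqL.w) sqL
  have sqQ : IsPullback ((yon S).map qU) ((yon S).map qT) ((yon S).map h')
      ((yon S).map gT) := sqO.map (yon S)
  have wc : ((yon S).map qU ≫ c) ≫ q₁ = (yon S).map qT ≫ (yon S).map gT := by
    rw [Category.assoc, hcq, ← Functor.map_comp, ← Functor.map_comp, hqq]
  let c' : (yon S).obj Q' ⟶ P.obj := sqρ.lift ((yon S).map qU ≫ c) ((yon S).map qT) wc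
  have hc'1 : c' ≫ ρ = (yon S).map qU ≫ c := sqρ.lift_fst _ _ _
  have hc'2 : c' ≫ prU' = (yon S).map qT := sqρ.lift_snd _ _ _
  have sqc : IsPullback c' ((yon S).map qU) ρ c := by
    refine IsPullback.of_right ?_ hc'1 sqρ.flip
    rw [hc'2, hcq]
    exact sqQ.flip
  have hc'e : RepWith @Etale c' :=
    MorphismProperty.of_isPullback (P := RepWith @Etale) sqc.flip hce
  have hc's : RepWith @Surjective c' :=
    MorphismProperty.of_isPullback (P := RepWith @Surjective) sqc.flip hcs
  have hsepU : IsSeparatedMor prU.hom := isSeparatedMor_of_isPullback sqP hf2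
  let V' : Q'.left.Opens := V
  obtain ⟨PV, jV, hjo, hjc, hjf, hrange⟩ :=
    image_finite prU hsepU c' hc'e qT hc'2 V' hfinV
  have hkey : ∀ z : ↥Q'.left, Points.map prU' (Points.ofPt c' z) = Points.ofScheme T' t →
      qT.left z = t := by
    intro z h1
    rw [Points.map_ofPt, hc'2, ofPt_yon_map] at h1
    have h2 := congrArg (Points.toScheme T') h1
    rwa [Points.toScheme_ofScheme, Points.toScheme_ofScheme] at h2
  have hcl : IsClosedMap (Points.map prU') := hfcl (IsAlgSpace.yon_obj T') a _ _ sqP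
  let R : Set (Points P.obj) := Set.range (Points.map jV.hom)
  have hRo : IsOpen R := by
    show IsOpen (Set.range (Points.map jV.hom))
    rw [hrange]
    exact isOpenMap_ofPt_of_etale c' hc'e _ V'.2
  let D : Set (Points ((yon S).obj T')) := Points.map prU' '' Rᶜ
  have hD : IsClosed D := hcl _ hRo.isClosed_compl
  let D' : Set ↥T'.left := Points.ofScheme T' ⁻¹' D
  have hD' : IsClosed D' := hD.preimage (Points.schemeHomeo T').continuous
  have htD : t ∉ D' := by
    rintro ⟨p, hpR, hpt⟩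
    obtain ⟨z, rfl⟩ := ofPt_surjective c' hc's p
    have hzt := hkey z hpt
    have hzV : z ∈ V' := hall z hzt
    apply hpR
    show Points.ofPt c' z ∈ Set.range (Points.map jV.hom)
    rw [hrange]
    exact ⟨z, hzV, rfl⟩
  let O : T'.left.Opens := ⟨D'ᶜ, hD'.isOpen_compl⟩
  let T'' : Over S := Over.mk (O.ι ≫ T'.hom)
  let ι : T'' ⟶ T' := Over.homMk O.ι rfl
  have hιe : Etale ι.left := (inferInstance : Etale O.ι)
  let a'' : (yon S).obj T'' ⟶ Y.obj := (yon S).map ι ≫ a
  have ha''e : RepWith @Etale a'' :=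
    repWith_comp _ ((repWith_yon_map_iff @Etale ι).2 hιe) hae
  let tO : ↥T''.left := (⟨t, htD⟩ : O)
  have htO : ι.left tO = t := rfl
  refine ⟨T'', a'', tO, ha''e, ?_, ?_⟩
  · show Points.ofPt ((yon S).map ι ≫ (yon S).map gT ≫ b₁) tO = y
    rw [ofPt_comp, ofPt_comp, htO]
    show Points.ofPt b₁ (g t) = y
    rw [hgt, hy₁]
  · intro P'' prX'' prU'' sq''
    have sq''' : IsPullback prX'' prU'' f.hom ((yon S).map ι ≫ a) := sq''
    let ρ'' : P''.obj ⟶ P.obj := pullback.lift prX'' (prU'' ≫ (yon S).map ι)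
      (by rw [Category.assoc]; exact sq'''.w)
    have hρ''1 : ρ'' ≫ prX = prX'' := pullback.lift_fst _ _ _
    have hρ''2 : ρ'' ≫ prU' = prU'' ≫ (yon S).map ι := pullback.lift_snd _ _ _
    have sqρ'' : IsPullback ρ'' prU'' prU' ((yon S).map ι) := by
      refine IsPullback.of_right ?_ hρ''2 sqP
      rw [hρ''1]
      exact sq'''
    have sqj := IsPullback.of_hasPullback jV.hom ρ''
    let j'' : pullback jV.hom ρ'' ⟶ P''.obj := pullback.snd jV.hom ρ''
    have hj''o : RepWith @IsOpenImmersion j'' :=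
      MorphismProperty.of_isPullback (P := RepWith @IsOpenImmersion) sqj hjo
    have hj''s : IsSurjectiveMor j'' := by
      intro p''
      have hmem : Points.map ρ'' p'' ∈ R := by
        by_contra hne
        have h1 : Points.map prU' (Points.map ρ'' p'') ∈ D := ⟨_, hne, rfl⟩
        rw [← Points.map_comp, hρ''2, Points.map_comp] at h1
        obtain ⟨s, hs⟩ := (Points.schemeEquiv T'').surjective (Points.map prU'' p'')
        have hs' : Points.ofScheme T'' s = Points.map prU'' p'' := hs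
        rw [← hs', ← Points.ofPt_eq_map_ofScheme, ofPt_yon_map] at h1
        have hsO : ι.left s ∈ (O : Set ↥T'.left) := by
          rw [← Scheme.Opens.range_ι O]
          exact ⟨s, rfl⟩
        exact hsO h1
      obtain ⟨v, hv⟩ := hmem
      obtain ⟨w, -, hw⟩ := exists_of_isPullback sqj v p'' hv
      exact ⟨w, hw⟩
    haveI := isIso_of_openImmersion_of_surjective j'' hj''o hj''s
    have sqbig : IsPullback (pullback.fst jV.hom ρ'') (j'' ≫ prU'') (jV.hom ≫ prU')
        ((yon S).map ι) := sqj.paste_vert sqρ''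
    have hfin1 : IsFiniteMor (j'' ≫ prU'') := isFiniteMor_baseChange sqbig hjf
    have e1 : prU'' = inv j'' ≫ (j'' ≫ prU'') := by rw [IsIso.inv_hom_id_assoc]
    rw [e1]
    exact Groth.Agent.Lib.OfPshWith.isFiniteMor_comp _ _ (isFiniteMor_of_isIso (inv j'')) hfin1

/-- Proper + quasi-finite at all points over `y` ⇒ finite over an open neighbourhood of `y`. -/
theorem exists_finite_nhd {X Y : Space S} (f : X ⟶ Y) (y : Points Y.obj)
    (hf : IsProperMor f.hom)
    (hq : ∀ x : Points X.obj, Points.map f.hom x = y →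
      HasAtMor Groth.Agent.Lib.AlgSpQfLocusH7.QQ f.hom x) :
    ∃ (V : Space S) (j : V ⟶ Y), RepWith @IsOpenImmersion j.hom ∧
      y ∈ Set.range (Points.map j.hom) ∧
        ∀ (P : Space S) (fst : P ⟶ X) (snd : P ⟶ V), IsPullback fst.hom snd.hom f.hom j.hom →
          IsFiniteMor snd.hom := by
  obtain ⟨T, a, t, hae, hat, hfin⟩ := exists_finite_chart f y hf hq
  let Wset : Set (Points Y.obj) := Set.range (Points.ofPt a)
  have hWo : IsOpen Wset := (isOpenMap_ofPt_of_etale a hae).isOpen_range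
  let V : Space S := ⟨openSub Y.obj Wset, isAlgSpace_openSub Y.property hWo⟩
  let j : V ⟶ Y := ObjectProperty.homMk (openSubι Y.obj Wset)
  have hj : RepWith @IsOpenImmersion j.hom := repWith_isOpenImmersion_openSubι hWo
  have hrange : Set.range (Points.map j.hom) = Wset := range_map_openSubι Y.property hWo
  obtain ⟨a', ha', ha'e, ha's⟩ := exists_factor_chart a hae j.hom hj (by rw [hrange])
  have ha's' : RepWith @Surjective a' := ha's (by rw [hrange])
  refine ⟨V, j, hj, ?_, ?_⟩
  · rw [hrange]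
    exact ⟨t, hat⟩
  · intro P fst snd sq
    have hcov : IsFpqcCover (fun _ : PUnit.{u+1} => (yon S).obj T) (fun _ => a') := by
      apply Groth.Agent.Lib.AlgSpFpqc3_helper7.isFpqcCover_of_isFppfCover V.property _ _
        (fun _ => IsAlgSpace.yon_obj T)
      refine ⟨fun _ => ⟨?_, ?_⟩, fun x => ⟨PUnit.unit, ?_⟩⟩
      · exact Groth.Agent.Lib.AlgSpLocP_helper7.locP_of_repWith @Flat
          (fun _ _ g hg => by haveI : Etale g := hg; exact (inferInstance : Flat g)) a'
          (repWith_mono (fun _ _ g hg => by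
            haveI : Etale g := hg; exact (inferInstance : Flat g)) ha'e)
      · exact Groth.Agent.Lib.AlgSpLocP_helper7.locP_of_repWith @LocallyOfFinitePresentation
          (fun _ _ g hg => by
            haveI : Etale g := hg; exact (inferInstance : LocallyOfFinitePresentation g)) a'
          (repWith_mono (fun _ _ g hg => by
            haveI : Etale g := hg
            exact (inferInstance : LocallyOfFinitePresentation g)) ha'e)
      · obtain ⟨u, hu⟩ := ofPt_surjective a' ha's' x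
        exact ⟨Points.ofScheme T u, by rw [← Points.ofPt_eq_map_ofScheme]; exact hu⟩
    have sqQ := IsPullback.of_hasPullback snd.hom a'
    have hQ : IsAlgSpace (pullback snd.hom a') :=
      isAlgSpace_of_isPullback V.property.diag P.property (IsAlgSpace.yon_obj T) sqQ
    have key := Groth.Agent.Lib.AffDescH7.isLocalOnBase_fpqc_isFiniteMor (S := S)
      (fun _ : PUnit.{u+1} => (yon S).obj T) (fun _ => a')
      V.property (fun _ => IsAlgSpace.yon_obj T) hcov snd.hom P.property
      (fun _ => pullback snd.hom a') (fun _ => pullback.snd snd.hom a')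
      (fun _ => pullback.fst snd.hom a') (fun _ => hQ) (fun _ => sqQ)
    rw [key]
    intro _
    refine hfin ⟨pullback snd.hom a', hQ⟩ (pullback.fst snd.hom a' ≫ fst.hom)
      (pullback.snd snd.hom a') ?_
    have h2 := sqQ.paste_horiz sq
    rw [ha'] at h2
    exact h2

end Groth.Agent.Lib.AlgSpPropFinH6
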