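import Groth.Agent.Lib.AlgSpProper_helper7
import Groth.Agent.Lib.AlgSpLocP4_helper7
import Groth.Agent.Lib.AlgSpFpqc_helper7

/-!
# Universally closed morphisms of algebraic spaces are quasi-compact (lead)

The `𝔸^∞` trick (as in Mathlib's `compactSpace_of_universallyClosed`), carried out for an algebraic
space over an affine scheme, with the spaces of points of algebraic spaces; and the consequences for
(quasi-)separatedness of the target of a surjective universally closed morphism.
-/

set_option autoImplicit false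
universe u
open CategoryTheory CategoryTheory.Limits AlgebraicGeometry Opposite

namespace Groth.Agent.Lib.AlgSpUCQC

open AlgSp Groth.Agent.Lib.AlgSpQC2_helper7 Groth.Agent.Lib.AlgSpPoints_helper7
  Groth.Agent.Lib.AlgSpQC_helper7 Groth.Agent.Lib.AlgSpDiag_helper7 Groth.Agent.Lib.AlgSpTop_helper7
  Groth.Agent.Lib.AlgSpPullback_helper7 Groth.Agent.Lib.AlgSpSep_helper7
  Groth.Agent.Lib.AlgSpLocP_helper7 Groth.Agent.Lib.AlgSpUniv_helper7
  Groth.Agent.Lib.AlgSpProper_helper7 Groth.Agent.Lib.AlgSpFpqc_helper7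
  Groth.Agent.Lib.AlgSpLocP4_helper7

variable {S : Scheme.{u}}

/-- An algebraic space universally closed over an affine scheme has a quasi-compact space of
points. -/
theorem compactSpace_of_isUnivClosedMor_affine {X : Sp S} (hX : IsAlgSpace X) (Z : Over S)
    [IsAffine Z.left] (f : X ⟶ (yon S).obj Z) (hf : IsUnivClosedMor f) :
    CompactSpace (Points X) := by
  classical
  obtain ⟨ι, T, r, hT, hr, hcov⟩ := exists_affine_charts hX
  let U : ι → Set (Points X) := fun i => Set.range (Points.ofPt (r i))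
  have hUo : ∀ i, IsOpen (U i) := by
    intro i
    have h1 : IsOpenMap (Points.map (r i)) :=
      isOpenMap_map_of_repWith _ (repWith_universallyOpen_of_etale (hr i))
    have e : U i = Set.range (Points.map (r i)) := by
      ext z
      constructor
      · rintro ⟨t, rfl⟩
        exact ⟨Points.ofScheme _ t, (Points.ofPt_eq_map_ofScheme _ _).symm⟩
      · rintro ⟨w, rfl⟩
        obtain ⟨t, rfl⟩ := (Points.schemeEquiv (T i)).surjective w
        exact ⟨t, Points.ofPt_eq_map_ofScheme _ _⟩
    rw [e]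
    exact h1.isOpen_range
  have hUc : ∀ i, IsCompact (U i) := by
    intro i
    haveI := hT i
    exact isCompact_range (Points.continuous_ofPt (r i))
  -- the polynomial ring in the variables `ι` over the coordinate ring of `Z`
  let A : Type u := MvPolynomial ι Γ(Z.left, ⊤)
  let q₀ : Spec (CommRingCat.of A) ⟶ Z.left :=
    Spec.map (CommRingCat.ofHom (MvPolynomial.C : Γ(Z.left, ⊤) →+* A)) ≫ Z.left.isoSpec.inv
  let Tt : Over S := Over.mk (q₀ ≫ Z.hom)
  let q : Tt ⟶ Z := Over.homMk q₀ rfl
  obtain ⟨P, fst, snd, sq⟩ : ∃ (P : Sp S) (fst : P ⟶ X) (snd : P ⟶ (yon S).obj Tt),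
      IsPullback fst snd f ((yon S).map q) := ⟨_, _, _, IsPullback.of_hasPullback _ _⟩
  have hcl : IsClosedMap (Points.map snd) := hf (IsAlgSpace.yon_obj Tt) _ _ _ sq
  let Ti : ι → TopologicalSpace.Opens (PrimeSpectrum A) :=
    fun i => PrimeSpectrum.basicOpen (MvPolynomial.X i : A)
  have hTio : ∀ i, IsOpen ((Points.schemeHomeo Tt).symm ⁻¹' (Ti i : Set (PrimeSpectrum A))) :=
    fun i => (Ti i).isOpen.preimage (Points.schemeHomeo Tt).symm.continuous
  let Zc : Set (Points P) :=
    (⋃ i, Points.map fst ⁻¹' U i ∩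
      Points.map snd ⁻¹' ((Points.schemeHomeo Tt).symm ⁻¹' (Ti i : Set (PrimeSpectrum A))))ᶜ
  have hZc : IsClosed Zc := by
    refine isClosed_compl_iff.2 (isOpen_iUnion fun i => ?_)
    exact ((hUo i).preimage (Points.continuous_map _)).inter
      ((hTio i).preimage (Points.continuous_map _))
  have hC : IsClosed (Points.map snd '' Zc) := hcl _ hZc
  have hC' : IsClosed (Points.ofScheme Tt ⁻¹' (Points.map snd '' Zc)) :=
    hC.preimage (Points.continuous_ofPt _)
  -- the section "all coordinates equal to one"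
  let ψ : A →ₐ[Γ(Z.left, ⊤)] Γ(Z.left, ⊤) := MvPolynomial.aeval (fun _ => 1)
  let sec : Z.left ⟶ Spec (CommRingCat.of A) :=
    Z.left.isoSpec.hom ≫ Spec.map (CommRingCat.ofHom ψ.toRingHom)
  have hsec : ∀ (y : Z.left) (a : A),
      a ∈ (sec y).asIdeal ↔ ψ a ∈ (Z.left.isoSpec.hom y).asIdeal := by
    intro y a
    have e : sec y = PrimeSpectrum.comap ψ.toRingHom (Z.left.isoSpec.hom y) := by
      simp only [sec, Scheme.Hom.comp_apply]
      rfl
    rw [e]
    rfl
  have hsecT : ∀ (y : Z.left) (i : ι), (sec y : PrimeSpectrum A) ∈ Ti i := by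
    intro y i
    show (MvPolynomial.X i : A) ∉ (sec y).asIdeal
    rw [hsec]
    have hψX : ψ (MvPolynomial.X i) = 1 := MvPolynomial.aeval_X _ i
    rw [hψX]
    exact fun h => (Z.left.isoSpec.hom y).isPrime.ne_top ((Ideal.eq_top_iff_one _).2 h)
  have hclaim1 : ∀ y : Z.left, sec y ∉ Points.ofScheme Tt ⁻¹' (Points.map snd '' Zc) := by
    rintro y ⟨z, hz, hzt⟩
    apply hz
    obtain ⟨i, t, ht⟩ := hcov (Points.map fst z)
    refine Set.mem_iUnion.2 ⟨i, ⟨t, ht⟩, ?_⟩
    show (Points.schemeHomeo Tt).symm (Points.map snd z) ∈ (Ti i : Set (PrimeSpectrum A))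
    rw [hzt]
    have e : (Points.schemeHomeo Tt).symm (Points.ofScheme Tt (sec y)) = sec y :=
      (Points.schemeHomeo Tt).symm_apply_apply (sec y)
    rw [e]
    exact hsecT y i
  let Wo : TopologicalSpace.Opens (PrimeSpectrum A) :=
    ⟨(Points.ofScheme Tt ⁻¹' (Points.map snd '' Zc))ᶜ, hC'.isOpen_compl⟩
  have hbasis : ∀ y : Z.left, ∃ g : A, (sec y : PrimeSpectrum A) ∈ PrimeSpectrum.basicOpen g ∧
      PrimeSpectrum.basicOpen g ≤ Wo := by
    intro y
    obtain ⟨U', ⟨g, rfl⟩, h1, h2⟩ := TopologicalSpace.Opens.isBasis_iff_nbhd.mp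
      (PrimeSpectrum.isBasis_basic_opens (R := A))
      (show (sec y : PrimeSpectrum A) ∈ Wo from hclaim1 y)
    exact ⟨g, h1, h2⟩
  choose g hg1 hg2 using hbasis
  have hVo : ∀ y : Z.left,
      IsOpen (sec ⁻¹' (PrimeSpectrum.basicOpen (g y) : Set (PrimeSpectrum A))) := fun y =>
    (PrimeSpectrum.basicOpen (g y)).isOpen.preimage sec.continuous
  have hcovZ : (Set.univ : Set Z.left) ⊆
      ⋃ y, sec ⁻¹' (PrimeSpectrum.basicOpen (g y) : Set (PrimeSpectrum A)) :=
    fun y _ => Set.mem_iUnion.2 ⟨y, hg1 y⟩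
  obtain ⟨tf, htf⟩ := isCompact_univ.elim_finite_subcover _ hVo hcovZ
  let σ : Finset ι := tf.biUnion fun y => (g y).vars
  let φ : A →ₐ[Γ(Z.left, ⊤)] A :=
    MvPolynomial.aeval (fun i => if i ∈ (σ : Set ι) then MvPolynomial.X i else 0)
  have hφg : ∀ y ∈ tf, φ (g y) = g y := by
    intro y hy
    refine MvPolynomial.aeval_ite_mem_eq_self (g y) ?_
    intro i hi
    exact Finset.mem_coe.2 (Finset.mem_biUnion.2 ⟨y, hy, Finset.mem_coe.1 hi⟩)
  have hUnion : ⋃ i ∈ σ, U i = Set.univ := by
    rw [Set.iUnion₂_eq_univ_iff]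
    by_contra hcon
    push Not at hcon
    obtain ⟨x, hx⟩ := hcon
    let y₀ : Z.left := Points.toScheme Z (Points.map f x)
    obtain ⟨y, hy, hy₀⟩ : ∃ y ∈ tf,
        y₀ ∈ sec ⁻¹' (PrimeSpectrum.basicOpen (g y) : Set (PrimeSpectrum A)) := by
      have := htf (Set.mem_univ y₀)
      simpa only [Set.mem_iUnion, exists_prop] using this
    let t' : Spec (CommRingCat.of A) := Spec.map (CommRingCat.ofHom φ.toRingHom) (sec y₀)
    have ht'mem : ∀ a : A, a ∈ t'.asIdeal ↔ φ a ∈ (sec y₀).asIdeal := fun a => Iff.rfl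
    have ht'g : (t' : PrimeSpectrum A) ∈ PrimeSpectrum.basicOpen (g y) := by
      show g y ∉ t'.asIdeal
      rw [ht'mem, hφg y hy]
      exact hy₀
    have ht'W : (t' : PrimeSpectrum A) ∈ Wo := hg2 y ht'g
    have hring : CommRingCat.ofHom (MvPolynomial.C : Γ(Z.left, ⊤) →+* A) ≫
        CommRingCat.ofHom φ.toRingHom ≫ CommRingCat.ofHom ψ.toRingHom = 𝟙 _ := by
      ext a
      show ψ (φ (MvPolynomial.C a)) = a
      rw [← MvPolynomial.algebraMap_eq, AlgHom.commutes, AlgHom.commutes]
      rfl
    have h3 : Spec.map (CommRingCat.ofHom ψ.toRingHom) ≫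
        Spec.map (CommRingCat.ofHom φ.toRingHom) ≫
        Spec.map (CommRingCat.ofHom (MvPolynomial.C : Γ(Z.left, ⊤) →+* A)) = 𝟙 _ := by
      rw [← Spec.map_comp, ← Spec.map_comp, Category.assoc, hring, Spec.map_id]
    have hq : sec ≫ Spec.map (CommRingCat.ofHom φ.toRingHom) ≫ q₀ = 𝟙 _ := by
      simp only [sec, q₀, Category.assoc]
      rw [reassoc_of% h3, Iso.hom_inv_id]
    have hpt : q₀ t' = y₀ := by
      have h : (sec ≫ Spec.map (CommRingCat.ofHom φ.toRingHom) ≫ q₀) y₀ = y₀ := by
        rw [hq]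
        rfl
      rw [Scheme.Hom.comp_apply, Scheme.Hom.comp_apply] at h
      exact h
    have hfx : Points.map f x = Points.map ((yon S).map q) (Points.ofScheme Tt t') := by
      calc Points.map f x = Points.ofScheme Z y₀ :=
            (Points.ofScheme_toScheme Z (Points.map f x)).symm
        _ = Points.ofScheme Z (q.left t') := by rw [show q.left t' = y₀ from hpt]
        _ = Points.map ((yon S).map q) (Points.ofScheme Tt t') :=
            (Points.map_yon_map_apply q t').symm
    obtain ⟨z, hz1, hz2⟩ := exists_of_isPullback sq x (Points.ofScheme Tt t') hfx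
    have hzZc : z ∈ Zc := by
      intro hz
      obtain ⟨i, hi1, hi2⟩ := Set.mem_iUnion.1 hz
      by_cases hiσ : i ∈ σ
      · exact hx i hiσ (hz1 ▸ hi1)
      · have hi3 : (Points.schemeHomeo Tt).symm (Points.map snd z) ∈
            (Ti i : Set (PrimeSpectrum A)) := hi2
        rw [hz2] at hi3
        have e : (Points.schemeHomeo Tt).symm (Points.ofScheme Tt t') = t' :=
          (Points.schemeHomeo Tt).symm_apply_apply t'
        rw [e] at hi3
        apply hi3
        show (MvPolynomial.X i : A) ∈ t'.asIdeal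
        rw [ht'mem]
        have h0 : φ (MvPolynomial.X i) = 0 := by
          have hφX : φ (MvPolynomial.X i) =
              if i ∈ (σ : Set ι) then (MvPolynomial.X i : A) else 0 := MvPolynomial.aeval_X _ i
          rw [hφX, if_neg]
          exact fun h => hiσ (Finset.mem_coe.1 h)
        rw [h0]
        exact Ideal.zero_mem _
    exact ht'W ⟨z, hzZc, hz2⟩
  exact ⟨by rw [← hUnion]; exact σ.isCompact_biUnion fun i _ => hUc i⟩

/-- S9925: a universally closed morphism of algebraic spaces is quasi-compact. -/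
theorem isQuasiCompactMor_of_isUnivClosedMor {X Y : Sp S} (hX : IsAlgSpace X) (hY : IsAlgSpace Y)
    (f : X ⟶ Y) (hf : IsUnivClosedMor f) : IsQuasiCompactMor f := by
  refine isQuasiCompactMor_of_forall_affine hX hY.diag f ?_
  intro Z hZ g P fst snd sq
  haveI := hZ
  have hP : IsAlgSpace P := isAlgSpace_of_isPullback hY.diag hX (IsAlgSpace.yon_obj Z) sq
  have hsnd : IsUnivClosedMor snd := univSp_of_isPullback _ sq hf
  haveI := compactSpace_of_isUnivClosedMor_affine hP Z snd hsnd
  exact isQuasiCompactSp_of_compactSpace hP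

/-- The product map `X ×_B X ⟶ Y ×_B Y` of a universally closed morphism `f : X ⟶ Y` over `B` is
universally closed. -/
theorem isUnivClosedMor_prodMap {X Y B : Sp S} (hX : IsAlgSpace X) (hY : IsAlgSpace Y)
    (hB : IsAlgSpace B) (f : X ⟶ Y) (p : X ⟶ B) (q : Y ⟶ B) (comm : f ≫ q = p)
    (hc : IsUnivClosedMor f) :
    IsUnivClosedMor (pullback.map p p q q f f (𝟙 B) (by rw [Category.comp_id, comm])
      (by rw [Category.comp_id, comm])) := by
  let ff₁ : pullback p p ⟶ pullback q p := pullback.map p p q p f (𝟙 X) (𝟙 B)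
    (by rw [Category.comp_id, comm]) (by rw [Category.comp_id, Category.id_comp])
  let ff₂ : pullback q p ⟶ pullback q q := pullback.map q p q q (𝟙 Y) f (𝟙 B)
    (by rw [Category.comp_id, Category.id_comp]) (by rw [Category.comp_id, comm])
  have sq1 : IsPullback ff₁ (pullback.fst p p) (pullback.fst q p) f := by
    refine IsPullback.of_right (h₁₂ := pullback.snd q p) (h₂₂ := q) (v₁₃ := p) ?_ ?_
      (IsPullback.of_hasPullback q p).flip
    · have e1 : ff₁ ≫ pullback.snd q p = pullback.snd p p := by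
        simp only [ff₁]
        rw [pullback.lift_snd, Category.comp_id]
      rw [e1, comm]
      exact (IsPullback.of_hasPullback p p).flip
    · simp only [ff₁]
      rw [pullback.lift_fst]
  have sq2 : IsPullback ff₂ (pullback.snd q p) (pullback.snd q q) f := by
    refine IsPullback.of_right (h₁₂ := pullback.fst q q) (h₂₂ := q) (v₁₃ := q) ?_ ?_
      (IsPullback.of_hasPullback q q)
    · have e1 : ff₂ ≫ pullback.fst q q = pullback.fst q p := by
        simp only [ff₂]
        rw [pullback.lift_fst, Category.comp_id]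
      rw [e1, comm]
      exact IsPullback.of_hasPullback q p
    · simp only [ff₂]
      rw [pullback.lift_snd]
  have h1 : IsUnivClosedMor ff₁ := univSp_of_isPullback _ sq1.flip hc
  have h2 : IsUnivClosedMor ff₂ := univSp_of_isPullback _ sq2.flip hc
  have hM : IsAlgSpace (pullback q p) :=
    isAlgSpace_of_isPullback hB.diag hY hX (IsPullback.of_hasPullback q p)
  have hYY : IsAlgSpace (pullback q q) :=
    isAlgSpace_of_isPullback hB.diag hY hY (IsPullback.of_hasPullback q q)
  have h12 : IsUnivClosedMor (ff₁ ≫ ff₂) := univSp_comp IsClosedMor hM hYY.diag ff₁ ff₂ h1 h2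
  have e : ff₁ ≫ ff₂ = pullback.map p p q q f f (𝟙 B) (by rw [Category.comp_id, comm])
      (by rw [Category.comp_id, comm]) := by
    apply pullback.hom_ext
    · simp only [ff₁, ff₂]
      rw [Category.assoc, pullback.lift_fst, pullback.lift_fst, ← Category.assoc,
        pullback.lift_fst, Category.comp_id]
    · simp only [ff₁, ff₂]
      rw [Category.assoc, pullback.lift_snd, pullback.lift_snd, ← Category.assoc,
        pullback.lift_snd, Category.comp_id]
  rw [← e]
  exact h12

theorem diag_comp_prodMap {X Y B : Sp S} (f : X ⟶ Y) (p : X ⟶ B) (q : Y ⟶ B)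
    (comm : f ≫ q = p) :
    pullback.diagonal p ≫ pullback.map p p q q f f (𝟙 B) (by rw [Category.comp_id, comm])
      (by rw [Category.comp_id, comm]) = f ≫ pullback.diagonal q := by
  apply pullback.hom_ext
  · rw [Category.assoc, pullback.lift_fst, ← Category.assoc, pullback.diagonal_fst,
      Category.id_comp, Category.assoc, pullback.diagonal_fst, Category.comp_id]
  · rw [Category.assoc, pullback.lift_snd, ← Category.assoc, pullback.diagonal_snd,
      Category.id_comp, Category.assoc, pullback.diagonal_snd, Category.comp_id]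

/-- S9926, quasi-separated part. -/
theorem isQuasiSeparatedMor_of_surjective_univClosed {X Y B : Sp S} (hX : IsAlgSpace X)
    (hY : IsAlgSpace Y) (hB : IsAlgSpace B) (f : X ⟶ Y) (p : X ⟶ B) (q : Y ⟶ B)
    (comm : f ≫ q = p) (hs : IsSurjectiveMor f) (hc : IsUnivClosedMor f)
    (hp : IsQuasiSeparatedMor p) : IsQuasiSeparatedMor q := by
  have hXX : IsAlgSpace (pullback p p) :=
    isAlgSpace_of_isPullback hB.diag hX hX (IsPullback.of_hasPullback p p)
  have hYY : IsAlgSpace (pullback q q) :=
    isAlgSpace_of_isPullback hB.diag hY hY (IsPullback.of_hasPullback q q)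
  have hff := isUnivClosedMor_prodMap hX hY hB f p q comm hc
  have hffqc := isQuasiCompactMor_of_isUnivClosedMor hXX hYY _ hff
  have hΔp : IsQuasiCompactMor (pullback.diagonal p) := isQuasiCompactMor_of_repWith _ hp
  have hcomp := isQuasiCompactMor_comp hXX hYY.diag _ _ hΔp hffqc
  rw [diag_comp_prodMap f p q comm] at hcomp
  have hΔq : IsQuasiCompactMor (pullback.diagonal q) :=
    isQuasiCompactMor_of_comp_surjective hY hYY.diag f _ hs hcomp
  exact (repWith_quasiCompact_iff _ (diagonal_properties hY q).1.rep).2 hΔq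

/-- S9926, separated part. -/
theorem isSeparatedMor_of_surjective_univClosed {X Y B : Sp S} (hX : IsAlgSpace X)
    (hY : IsAlgSpace Y) (hB : IsAlgSpace B) (f : X ⟶ Y) (p : X ⟶ B) (q : Y ⟶ B)
    (comm : f ≫ q = p) (hs : IsSurjectiveMor f) (hc : IsUnivClosedMor f)
    (hp : IsSeparatedMor p) : IsSeparatedMor q := by
  have hXX : IsAlgSpace (pullback p p) :=
    isAlgSpace_of_isPullback hB.diag hX hX (IsPullback.of_hasPullback p p)
  have hYY : IsAlgSpace (pullback q q) :=
    isAlgSpace_of_isPullback hB.diag hY hY (IsPullback.of_hasPullback q q)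
  have hff := isUnivClosedMor_prodMap hX hY hB f p q comm hc
  have hp' : RepWith @IsClosedImmersion (pullback.diagonal p) := hp
  have hΔp : IsUnivClosedMor (pullback.diagonal p) := by
    rw [← repWith_universallyClosed_iff _ hp'.rep]
    refine repWith_mono ?_ hp'
    intro A B' g hg
    have : IsClosedImmersion g := hg
    exact (inferInstance : UniversallyClosed g)
  have hcomp : IsUnivClosedMor (pullback.diagonal p ≫ _) :=
    univSp_comp IsClosedMor hXX hYY.diag _ _ hΔp hff
  rw [diag_comp_prodMap f p q comm] at hcomp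
  have hΔq : IsUnivClosedMor (pullback.diagonal q) :=
    isUnivClosedMor_of_comp_isSurjectiveMor f _ hs hcomp
  obtain ⟨h1, h2, -, -⟩ := diagonal_properties hY q
  have h5 : RepWith @UniversallyClosed (pullback.diagonal q) :=
    (repWith_universallyClosed_iff _ h1.rep).2 hΔq
  show RepWith @IsClosedImmersion (pullback.diagonal q)
  refine ⟨h1.rep, fun T V g fst snd sq => ?_⟩
  have hm : Mono snd.left := h2.property _ _ _ sq
  have hl : LocallyOfFiniteType snd.left := h1.property _ _ _ sq
  have hu : UniversallyClosed snd.left := h5.property _ _ _ sq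
  have hsep : IsSeparated snd.left := inferInstance
  have hprop : IsProper snd.left := (isProper_iff _).2 ⟨hsep, hu, hl⟩
  exact (IsClosedImmersion.iff_isProper_and_mono _).2 ⟨hprop, hm⟩

end Groth.Agent.Lib.AlgSpUCQC
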