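import Mathlib
import Groth.Agent.Lib.AlgSpPropFin_helper6
import Groth.Agent.Lib.ResTrdeg3_helper8
import Groth.Agent.Lib.AlgSpLocP7_helper7
import Groth.Agent.Lib.AlgSpLocP4_helper7
import Groth.Agent.Lib.AlgSpGlue2_helper7
import Groth.Agent.Lib.AlgSpUCQC_lead

/-!
# Characterizations of finite morphisms of algebraic spaces (helper6)
-/

set_option autoImplicit false
universe u
open CategoryTheory CategoryTheory.Limits AlgebraicGeometry Opposite TopologicalSpace

namespace Groth.Agent.Lib.AlgSpFinTfaeH6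

open AlgSp Groth.Agent.Lib.AlgSpPoints_helper7 Groth.Agent.Lib.AlgSpOpenSub_helper7
  Groth.Agent.Lib.AlgSpPullback_helper7 Groth.Agent.Lib.AlgSpIso_helper7
  Groth.Agent.Lib.AlgSpBasic_helper7 Groth.Agent.Lib.AlgSpDescent_helper7
  Groth.Agent.Lib.AlgSpSmST_helper7 Groth.Agent.Lib.AlgSpSep_helper7
  Groth.Agent.Lib.AlgSpUnram_helper7 Groth.Agent.Lib.AlgSpQC2_helper7
  Groth.Agent.Lib.AlgSpFinDescH6 Groth.Agent.Lib.AlgSpProper_helper7
  Groth.Agent.Lib.ElemDistSq_helper7 Groth.Agent.Lib.AlgSpEtSplitH6
  Groth.Agent.Lib.AlgSpEtSplit2H6 Groth.Agent.Lib.AlgSpOpen_helper7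
  Groth.Agent.Lib.AlgSpQC_helper7 Groth.Agent.Lib.AlgSpQfFinH7
  Groth.Agent.Lib.AlgSpPropFinH6 Groth.Agent.Lib.AlgSpLocP_helper7
  Groth.Agent.Lib.AlgSpLocP4_helper7

variable {S : Scheme.{u}}

/-- Every point of a quasi-sober T0 space has a maximal generalization. -/
theorem exists_maximal_generalization {X : Type*} [TopologicalSpace X] [QuasiSober X] [T0Space X]
    (x : X) : ∃ η : X, η ⤳ x ∧ ∀ η' : X, η' ⤳ η → η' = η := by
  have hirr : IsIrreducible (irreducibleComponent x) := isIrreducible_irreducibleComponent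
  have hcl : IsClosed (irreducibleComponent x) := isClosed_irreducibleComponent
  have hgen : closure {hirr.genericPoint} = irreducibleComponent x :=
    hirr.closure_genericPoint hcl
  refine ⟨hirr.genericPoint, ?_, ?_⟩
  · rw [specializes_iff_mem_closure, hgen]
    exact mem_irreducibleComponent
  · intro η' hη'
    have h1 : irreducibleComponent x ⊆ closure {η'} := by
      rw [← hgen]
      exact specializes_iff_closure_subset.1 hη'
    have h2 : closure {η'} = irreducibleComponent x :=
      eq_irreducibleComponent (isIrreducible_singleton.closure).2 h1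
    have h3 : closure {η'} = closure {hirr.genericPoint} := h2.trans hgen.symm
    exact (inseparable_iff_closure_eq.2 h3).eq

/-- A locally Noetherian scheme without nontrivial specializations is discrete. -/
theorem discreteTopology_of_specializes_eq (Z : Scheme.{u}) [IsLocallyNoetherian Z]
    (h : ∀ ⦃x y : ↥Z⦄, x ⤳ y → x = y) : DiscreteTopology ↥Z := by
  haveI : IsLocallyArtinian Z := by
    apply IsLocallyArtinian.of_topologicalKrullDim_le_zero
    rw [topologicalKrullDim, Order.krullDim_nonpos_iff_forall_isMax]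
    intro A B hAB
    have hA : closure {A.isIrreducible.genericPoint} = (A : Set ↥Z) :=
      A.isIrreducible.closure_genericPoint A.isClosed
    have hB : closure {B.isIrreducible.genericPoint} = (B : Set ↥Z) :=
      B.isIrreducible.closure_genericPoint B.isClosed
    have h0 : A.isIrreducible.genericPoint ∈ (A : Set ↥Z) := hA.le (subset_closure rfl)
    have h1 : A.isIrreducible.genericPoint ∈ (B : Set ↥Z) := hAB h0
    have h1' : A.isIrreducible.genericPoint ∈ closure {B.isIrreducible.genericPoint} := hB.ge h1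
    have h2 := h (specializes_iff_mem_closure.2 h1')
    show (B : Set ↥Z) ⊆ (A : Set ↥Z)
    intro z hz
    have hz' : z ∈ closure {B.isIrreducible.genericPoint} := hB.ge hz
    rw [h2] at hz'
    exact hA.le hz'
  infer_instance

/-- If the space of points of a sheaf is discrete, every locally Noetherian étale chart is a
discrete scheme. -/
theorem discreteTopology_chart {W : Sp S} [DiscreteTopology (Points W)] {Ω : Over S}
    (c : (yon S).obj Ω ⟶ W) (hce : RepWith @Etale c) [IsLocallyNoetherian Ω.left] :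
    DiscreteTopology ↥Ω.left := by
  have sq := hce.rep.isPullback' c
  obtain ⟨t, ht0⟩ : ∃ t, t = hce.rep.fst' c := ⟨_, rfl⟩
  obtain ⟨s, hs0⟩ : ∃ s, s = hce.rep.snd c := ⟨_, rfl⟩
  rw [← ht0, ← hs0] at sq
  haveI hs : Etale s.left := by rw [hs0]; exact hce.property_snd c
  haveI ht : Etale t.left := (repWith_yon_map_iff @Etale t).1
    (MorphismProperty.of_isPullback (P := RepWith @Etale) sq.flip hce)
  haveI : LocallyQuasiFinite t.left :=
    Groth.Agent.Lib.AlgSpEtale_helper7.locallyQuasiFinite_of_unramified t.left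
  apply discreteTopology_of_specializes_eq
  intro u₁ u hspec
  obtain ⟨η, hηu, hηmax⟩ := exists_maximal_generalization u
  have hopen : IsOpen (Points.ofPt c ⁻¹' {Points.ofPt c u}) :=
    (isOpen_discrete _).preimage (Points.continuous_ofPt c)
  have hη : Points.ofPt c η = Points.ofPt c u := hηu.mem_open hopen rfl
  have hmem : u ∈ Points.ofPt c ⁻¹' (Points.ofPt c '' ({η} : Set ↥Ω.left)) := ⟨η, rfl, hη⟩
  rw [preimage_ofPt_image_ofPt sq] at hmem
  obtain ⟨r, hr1, hr2⟩ := hmem
  have hr1' : t.left r = η := hr1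
  have hgen : GeneralizingMap s.left := Flat.generalizingMap s.left
  have hspec' : u₁ ⤳ s.left r := by rw [hr2]; exact hspec
  obtain ⟨r₁, hr₁, hsr₁⟩ := hgen hspec'
  have h1 : t.left r₁ ⤳ t.left r := hr₁.map t.left.continuous
  rw [hr1'] at h1
  have h2 : t.left r₁ = η := hηmax _ h1
  have hd := t.left.isDiscrete_preimage_singleton η
  have hdt : DiscreteTopology ↥(t.left ⁻¹' {η}) := isDiscrete_iff_discreteTopology.1 hd
  let a₁ : ↥(t.left ⁻¹' {η}) := ⟨r₁, h2⟩
  let a₀ : ↥(t.left ⁻¹' {η}) := ⟨r, hr1'⟩
  have h3 : a₁ ⤳ a₀ := Topology.IsInducing.subtypeVal.specializes_iff.1 hr₁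
  have h4 : a₁ = a₀ := h3.eq
  have h5 : r₁ = r := congrArg Subtype.val h4
  rw [← hsr₁, h5, hr2]

/-- The fibre of a chart is a chart of the fibre (copied from helper7's `AlgSpGor2`). -/
theorem fibre_chart_sq {F G : Sp S} (f : F ⟶ G) {U V T : Over S}
    (a : (yon S).obj U ⟶ F) (b : (yon S).obj V ⟶ G) (h : U ⟶ V)
    (comm : a ≫ f = (yon S).map h ≫ b) (t : T ⟶ V)
    {Xv : Sp S} (pa : Xv ⟶ F) (pc : Xv ⟶ (yon S).obj T)
    (sq : IsPullback pa pc f ((yon S).map t ≫ b)) :
    ∃ (at' : (yon S).obj (pullback h t) ⟶ Xv) (r : Xv ⟶ pullback f b),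
      at' ≫ pa = (yon S).map (pullback.fst h t) ≫ a ∧
      at' ≫ pc = (yon S).map (pullback.snd h t) ∧
      IsPullback at' ((yon S).map (pullback.fst h t)) r
        (pullback.lift a ((yon S).map h) comm) := by
  have sqP := IsPullback.of_hasPullback f b
  have sqt := (IsPullback.of_hasPullback h t).map (yon S)
  obtain ⟨aV, haV, haV1, haV2⟩ : ∃ aV : (yon S).obj U ⟶ pullback f b,
      aV = pullback.lift a ((yon S).map h) comm ∧
      aV ≫ pullback.fst f b = a ∧ aV ≫ pullback.snd f b = (yon S).map h :=
    ⟨pullback.lift a ((yon S).map h) comm, rfl, pullback.lift_fst _ _ _, pullback.lift_snd _ _ _⟩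
  obtain ⟨r, hr1, hr2⟩ : ∃ r : Xv ⟶ pullback f b,
      r ≫ pullback.fst f b = pa ∧ r ≫ pullback.snd f b = pc ≫ (yon S).map t :=
    ⟨pullback.lift pa (pc ≫ (yon S).map t) (by rw [Category.assoc]; exact sq.w),
      pullback.lift_fst _ _ _, pullback.lift_snd _ _ _⟩
  have sqr : IsPullback r pc (pullback.snd f b) ((yon S).map t) := by
    refine IsPullback.of_right ?_ hr2 sqP
    rw [hr1]; exact sq
  obtain ⟨at', hat1, hat2⟩ : ∃ at' : (yon S).obj (pullback h t) ⟶ Xv,
      at' ≫ pa = (yon S).map (pullback.fst h t) ≫ a ∧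
      at' ≫ pc = (yon S).map (pullback.snd h t) :=
    ⟨sq.lift ((yon S).map (pullback.fst h t) ≫ a) ((yon S).map (pullback.snd h t)) (by
      calc ((yon S).map (pullback.fst h t) ≫ a) ≫ f
          = (yon S).map (pullback.fst h t) ≫ (a ≫ f) := Category.assoc _ _ _
        _ = (yon S).map (pullback.fst h t) ≫ ((yon S).map h ≫ b) := by rw [comm]
        _ = (yon S).map (pullback.fst h t ≫ h) ≫ b := by
            rw [CategoryTheory.Functor.map_comp, Category.assoc]
        _ = (yon S).map (pullback.snd h t ≫ t) ≫ b := by rw [pullback.condition]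
        _ = (yon S).map (pullback.snd h t) ≫ ((yon S).map t ≫ b) := by
            rw [CategoryTheory.Functor.map_comp, Category.assoc]),
      sq.lift_fst _ _ _, sq.lift_snd _ _ _⟩
  have sqA : IsPullback at' ((yon S).map (pullback.fst h t)) r aV := by
    refine IsPullback.of_right ?_ ?_ sqr.flip
    · rw [hat2, haV2]; exact sqt.flip
    · apply pullback.hom_ext
      · rw [Category.assoc, hr1, hat1, Category.assoc, haV1]
      · calc (at' ≫ r) ≫ pullback.snd f b = at' ≫ (r ≫ pullback.snd f b) := Category.assoc _ _ _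
          _ = at' ≫ (pc ≫ (yon S).map t) := by rw [hr2]
          _ = (at' ≫ pc) ≫ (yon S).map t := (Category.assoc _ _ _).symm
          _ = (yon S).map (pullback.snd h t) ≫ (yon S).map t := by rw [hat2]
          _ = (yon S).map (pullback.snd h t ≫ t) := (CategoryTheory.Functor.map_comp _ _ _).symm
          _ = (yon S).map (pullback.fst h t ≫ h) := by rw [pullback.condition]
          _ = (yon S).map (pullback.fst h t) ≫ (yon S).map h :=
              CategoryTheory.Functor.map_comp _ _ _
          _ = (yon S).map (pullback.fst h t) ≫ (aV ≫ pullback.snd f b) := by rw [haV2]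
          _ = ((yon S).map (pullback.fst h t) ≫ aV) ≫ pullback.snd f b :=
              (Category.assoc _ _ _).symm
  rw [haV] at sqA
  exact ⟨at', r, hat1, hat2, sqA⟩

open Groth.Agent.Lib.AlgSpQfLocusH7 Groth.Agent.Lib.UnramLocH7 in
/-- In a chart diagram with top arrow locally of finite type, if the fibre of `f` over the
residue field point of `h u` has a discrete space of points, the top arrow is quasi-finite near
`u`. -/
theorem near_of_discrete_fibre {X Y : Space S} (f : X ⟶ Y) {U V : Over S}
    (a : (yon S).obj U ⟶ X.obj) (b : (yon S).obj V ⟶ Y.obj) (h : U ⟶ V)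
    (hae : RepWith @Etale a) (hbe : RepWith @Etale b) (comm : a ≫ f.hom = (yon S).map h ≫ b)
    [LocallyOfFiniteType h.left] (u : ↥U.left)
    (hdisc : ∀ (k : FieldPt Y.obj) (Xk : Sp S) (fst : Xk ⟶ X.obj)
      (snd : Xk ⟶ (yon S).obj k.pt), IsPullback fst snd f.hom k.toHom →
        DiscreteTopology (Points Xk)) :
    Near PQ h.left u := by
  obtain ⟨v, hv⟩ : ∃ v, v = h.left u := ⟨_, rfl⟩
  have sq0 := IsPullback.of_hasPullback f.hom ((yon S).map (Over.homMk
    (V.left.fromSpecResidueField v) rfl :
      Over.mk (V.left.fromSpecResidueField v ≫ V.hom) ⟶ V) ≫ b)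
  haveI hdt0 := hdisc (FieldPt.ofPt b v) _ _ _ (by rw [FieldPt.toHom_ofPt]; exact sq0)
  obtain ⟨t, ht⟩ : ∃ t : Over.mk (V.left.fromSpecResidueField v ≫ V.hom) ⟶ V,
      t = Over.homMk (V.left.fromSpecResidueField v) rfl := ⟨_, rfl⟩
  rw [← ht] at sq0 hdt0
  have sq := sq0
  haveI : DiscreteTopology (Points (pullback f.hom ((yon S).map t ≫ b))) := hdt0
  obtain ⟨at', r, hat1, hat2, sqA⟩ := fibre_chart_sq f.hom a b h comm t _ _ sq
  have sqP := IsPullback.of_hasPullback f.hom b
  have haVe : RepWith @Etale (pullback.lift a ((yon S).map h) comm) :=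
    repWith_etale_of_comp _ (pullback.fst f.hom b) (by rw [pullback.lift_fst]; exact hae)
      (repWith_fst_of_isPullback _ sqP hbe)
  have hate : RepWith @Etale at' := repWith_fst_of_isPullback _ sqA haVe
  have sqS : IsPullback (pullback.fst h t).left (pullback.snd h t).left h.left
      (V.left.fromSpecResidueField v) := by
    subst ht
    exact (IsPullback.of_hasPullback h _).map (Over.forget S)
  haveI : LocallyOfFiniteType (pullback.snd h t).left :=
    MorphismProperty.of_isPullback (P := @LocallyOfFiniteType) sqS inferInstance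
  haveI : IsLocallyNoetherian (Over.mk (V.left.fromSpecResidueField v ≫ V.hom)).left :=
    (inferInstance : IsLocallyNoetherian (Spec (V.left.residueField v)))
  haveI : IsLocallyNoetherian (pullback h t).left :=
    LocallyOfFiniteType.isLocallyNoetherian (pullback.snd h t).left
  haveI : DiscreteTopology ↥(pullback h t).left := discreteTopology_chart at' hate
  haveI : DiscreteTopology ↥(h.left.fiber v) :=
    sqS.isoPullback.hom.homeomorph.discreteTopology
  have hq : h.left.QuasiFiniteAt u := by
    rw [Scheme.Hom.quasiFiniteAt_iff_isOpen_singleton_asFiber]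
    subst hv
    exact isOpen_discrete _
  exact ⟨h.left.quasiFiniteLocus, hq, inferInstance, inferInstance⟩

open Groth.Agent.Lib.AlgSpQfLocusH7 Groth.Agent.Lib.UnramLocH7 in
/-- A morphism locally of finite type all of whose field fibres have discrete spaces of points is
quasi-finite at every point. -/
theorem hasAtMor_of_discrete_fibres {X Y : Space S} (f : X ⟶ Y)
    (hlft : LocP @LocallyOfFiniteType f.hom)
    (hdisc : ∀ (k : FieldPt Y.obj) (Xk : Sp S) (fst : Xk ⟶ X.obj)
      (snd : Xk ⟶ (yon S).obj k.pt), IsPullback fst snd f.hom k.toHom →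
        DiscreteTopology (Points Xk)) (x : Points X.obj) : HasAtMor QQ f.hom x := by
  obtain ⟨U, V, a, b, h, u, hae, hbe, comm, hu⟩ :=
    ResTrdegH8.exists_chart_diagram f x
  haveI : LocallyOfFiniteType h.left := hlft a b h hae hbe comm
  exact ⟨U, V, a, b, h, u, hae, hbe, comm, hu,
    near_of_discrete_fibre f a b h hae hbe comm u hdisc⟩

open Groth.Agent.Lib.AlgSpQfLocusH7 in
/-- A proper morphism quasi-finite at every point is finite. -/
theorem isFiniteMor_of_proper_of_hasAtMor {X Y : Space S} (f : X ⟶ Y)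
    (hf : IsProperMor f.hom) (hq : ∀ x : Points X.obj, HasAtMor QQ f.hom x) :
    IsFiniteMor f.hom := by
  obtain ⟨V₀, p₀, hp₀e, hp₀s⟩ := Y.property.atlas
  have key : ∀ v : ↥V₀.left, ∃ (T : Over S) (a : (yon S).obj T ⟶ Y.obj) (t : ↥T.left),
      RepWith @Etale a ∧ Points.ofPt a t = Points.ofPt p₀ v ∧
      ∀ (P : Space S) (prX : P.obj ⟶ X.obj) (prU : P.obj ⟶ (yon S).obj T),
        IsPullback prX prU f.hom a → IsFiniteMor prU :=
    fun v => exists_finite_chart f (Points.ofPt p₀ v) hf (fun x _ => hq x)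
  choose T a t hae hat hfin using key
  have hcov : IsFpqcCover (fun v : ↥V₀.left => (yon S).obj (T v)) a := by
    apply Groth.Agent.Lib.AlgSpFpqc3_helper7.isFpqcCover_of_isFppfCover Y.property _ _
      (fun v => IsAlgSpace.yon_obj (T v))
    refine ⟨fun v => ⟨?_, ?_⟩, fun y => ?_⟩
    · exact locP_of_repWith @Flat
        (fun _ _ g hg => by haveI : Etale g := hg; exact (inferInstance : Flat g)) (a v)
        (repWith_mono (fun _ _ g hg => by
          haveI : Etale g := hg; exact (inferInstance : Flat g)) (hae v))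
    · exact locP_of_repWith @LocallyOfFinitePresentation
        (fun _ _ g hg => by
          haveI : Etale g := hg; exact (inferInstance : LocallyOfFinitePresentation g)) (a v)
        (repWith_mono (fun _ _ g hg => by
          haveI : Etale g := hg
          exact (inferInstance : LocallyOfFinitePresentation g)) (hae v))
    · obtain ⟨v, hv⟩ := ofPt_surjective p₀ hp₀s y
      exact ⟨v, Points.ofScheme (T v) (t v), by
        rw [← Points.ofPt_eq_map_ofScheme, hat v, hv]⟩
  have hQ : ∀ v, IsAlgSpace (pullback f.hom (a v)) := fun v =>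
    isAlgSpace_of_isPullback Y.property.diag X.property (IsAlgSpace.yon_obj (T v))
      (IsPullback.of_hasPullback f.hom (a v))
  have key2 := Groth.Agent.Lib.AffDescH7.isLocalOnBase_fpqc_isFiniteMor (S := S)
    (fun v : ↥V₀.left => (yon S).obj (T v)) a
    Y.property (fun v => IsAlgSpace.yon_obj (T v)) hcov f.hom X.property
    (fun v => pullback f.hom (a v)) (fun v => pullback.snd f.hom (a v))
    (fun v => pullback.fst f.hom (a v)) hQ (fun v => IsPullback.of_hasPullback f.hom (a v))
  rw [key2]
  intro v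
  exact hfin v ⟨pullback f.hom (a v), hQ v⟩ _ _ (IsPullback.of_hasPullback f.hom (a v))

/-- A locally quasi-finite morphism has field fibres with discrete spaces of points. -/
theorem discrete_fibre_of_locP {X Y : Space S} (f : X ⟶ Y)
    (hlqf : LocP (@LocallyQuasiFinite ⊓ @LocallyOfFiniteType : MorphismProperty Scheme.{u}) f.hom)
    (k : FieldPt Y.obj) (Xk : Sp S) (fst : Xk ⟶ X.obj)
    (snd : Xk ⟶ (yon S).obj k.pt) (sq : IsPullback fst snd f.hom k.toHom) :
    DiscreteTopology (Points Xk) := by
  have hXk : IsAlgSpace Xk :=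
    isAlgSpace_of_isPullback Y.property.diag X.property (IsAlgSpace.yon_obj k.pt) sq
  have hloc : LocP (@LocallyQuasiFinite ⊓ @LocallyOfFiniteType :
      MorphismProperty Scheme.{u}) snd :=
    locP_baseChange Groth.Agent.Lib.AlgSpLocP7_helper7.etLocal_locallyQuasiFinite X.property
      Y.property (IsAlgSpace.yon_obj k.pt) f.hom k.toHom fst snd sq hlqf
  obtain ⟨Ω, p, hpe, hps⟩ := hXk.atlas
  obtain ⟨m, hm⟩ := (yon S).map_surjective (p ≫ snd)
  have hPm := hloc p (𝟙 _) m hpe (repWith_id _ _) (by rw [hm, Category.comp_id])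
  haveI : LocallyQuasiFinite m.left := hPm.1
  haveI : IsLocallyArtinian k.pt.left :=
    (inferInstance : IsLocallyArtinian (Spec (CommRingCat.of k.K)))
  haveI : IsLocallyArtinian Ω.left := IsLocallyArtinian.of_locallyQuasiFinite m.left
  haveI : DiscreteTopology ↥Ω.left := inferInstance
  rw [discreteTopology_iff_isOpen_singleton]
  intro x
  obtain ⟨ω, rfl⟩ := ofPt_surjective p hps x
  have := isOpenMap_ofPt_of_etale p hpe {ω} (isOpen_discrete _)
  rwa [Set.image_singleton] at this

/-- A finite morphism is locally quasi-finite. -/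
theorem locP_of_isFiniteMor {X Y : Space S} (f : X ⟶ Y) (hf : IsFiniteMor f.hom) :
    LocP (@LocallyQuasiFinite ⊓ @LocallyOfFiniteType : MorphismProperty Scheme.{u}) f.hom := by
  have h1 : RepWith @IsFinite f.hom :=
    Groth.Agent.Lib.AlgSpGlue2H7.repWith_of_affine_local @IsFinite f.hom
      (fun Z hZ g => by
        obtain ⟨W, i, fst, sq, -, hi⟩ := hf hZ g
        exact ⟨W, i, fst, sq, hi⟩)
  have h2 : RepWith (@LocallyQuasiFinite ⊓ @LocallyOfFiniteType :
      MorphismProperty Scheme.{u}) f.hom :=
    repWith_mono (fun _ _ g hg => by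
      haveI : IsFinite g := hg
      exact ⟨(inferInstance : LocallyQuasiFinite g), (inferInstance : LocallyOfFiniteType g)⟩) h1
  exact locP_of_repWith _ (fun _ _ g hg => by
    haveI : Etale g := hg
    exact ⟨Groth.Agent.Lib.AlgSpEtale_helper7.locallyQuasiFinite_of_unramified g,
      (inferInstance : LocallyOfFiniteType g)⟩) f.hom h2

end Groth.Agent.Lib.AlgSpFinTfaeH6
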