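import Groth.Agent.Lib.ThickRing_helper7

/-! # Thickenings of schemes: lft + unramified lift along a surjective closed immersion of the
base (helper7) -/

set_option autoImplicit false
set_option linter.style.haveILetI false
universe u
open CategoryTheory CategoryTheory.Limits AlgebraicGeometry TensorProduct

namespace Groth.Agent.Lib.ThickSch_helper7

open Groth.Agent.Lib.ThickRing_helper7

theorem le_nilradical_of_surjective {A : CommRingCat.{u}} (I : Ideal A)
    [Surjective (Spec.map (CommRingCat.ofHom (Ideal.Quotient.mk I)))] : I ≤ nilradical A := by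
  intro x hx
  rw [nilradical_eq_sInf, Ideal.mem_sInf]
  intro p hp
  obtain ⟨q, hq⟩ := (Spec.map (CommRingCat.ofHom (Ideal.Quotient.mk I))).surjective
    (⟨p, hp⟩ : PrimeSpectrum A)
  have h1 : p = Ideal.comap (Ideal.Quotient.mk I) (q : PrimeSpectrum (A ⧸ I)).asIdeal := by
    have := congrArg PrimeSpectrum.asIdeal hq
    exact this.symm
  rw [h1]
  show Ideal.Quotient.mk I x ∈ (q : PrimeSpectrum (A ⧸ I)).asIdeal
  rw [Ideal.Quotient.eq_zero_iff_mem.2 hx]
  exact zero_mem _

theorem key_aux {U V V' U' : Scheme.{u}} (h : U ⟶ V) (j : V' ⟶ V) [IsClosedImmersion j]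
    [Surjective j] (p1 : U' ⟶ U) (h' : U' ⟶ V') (sq : IsPullback p1 h' h j)
    [LocallyOfFiniteType h'] [FormallyUnramified h']
    (hor : LocallyOfFiniteType h ∨ LocallyOfFinitePresentation j)
    (W : V.affineOpens) (O : U.affineOpens) (e : O.1 ≤ h ⁻¹ᵁ W.1) :
    RingHom.FiniteType (h.appLE W.1 O.1 e).hom ∧
      RingHom.FormallyUnramified (h.appLE W.1 O.1 e).hom := by
  have hcomm : Spec.map (h.appLE W.1 O.1 e) ≫ W.2.fromSpec = O.2.fromSpec ≫ h :=
    IsAffineOpen.SpecMap_appLE_fromSpec h W.2 O.2 e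
  have hcl : IsClosedImmersion (pullback.snd j W.2.fromSpec) :=
    MorphismProperty.pullback_snd (P := @IsClosedImmersion) _ _ inferInstance
  have hsj : Surjective (pullback.snd j W.2.fromSpec) :=
    MorphismProperty.pullback_snd (P := @Surjective) _ _ inferInstance
  obtain ⟨I, ι, hι⟩ := IsClosedImmersion.Spec_iff.1 hcl
  have hmk : Spec.map (CommRingCat.ofHom (Ideal.Quotient.mk I)) =
      ι.inv ≫ pullback.snd j W.2.fromSpec := by
    rw [hι, Iso.inv_hom_id_assoc]
  have hI : I ≤ nilradical _ := by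
    haveI : Surjective (Spec.map (CommRingCat.ofHom (Ideal.Quotient.mk I))) := by
      rw [hmk]; infer_instance
    exact le_nilradical_of_surjective I
  have sqZ : IsPullback (pullback.fst p1 O.2.fromSpec) (pullback.snd p1 O.2.fromSpec) p1
      O.2.fromSpec := IsPullback.of_hasPullback _ _
  have outer : IsPullback (pullback.snd p1 O.2.fromSpec) (pullback.fst p1 O.2.fromSpec ≫ h')
      (O.2.fromSpec ≫ h) j := sqZ.flip.paste_vert sq
  rw [← hcomm] at outer
  obtain ⟨k, hk⟩ : ∃ k, k = pullback.lift (pullback.fst p1 O.2.fromSpec ≫ h')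
      (pullback.snd p1 O.2.fromSpec ≫ Spec.map (h.appLE W.1 O.1 e))
      (by simpa using outer.w.symm) := ⟨_, rfl⟩
  have hk1 : k ≫ pullback.fst j W.2.fromSpec = pullback.fst p1 O.2.fromSpec ≫ h' := by
    rw [hk]; exact pullback.lift_fst _ _ _
  have hk2 : k ≫ pullback.snd j W.2.fromSpec =
      pullback.snd p1 O.2.fromSpec ≫ Spec.map (h.appLE W.1 O.1 e) := by
    rw [hk]; exact pullback.lift_snd _ _ _
  have sqk : IsPullback k (pullback.snd p1 O.2.fromSpec) (pullback.snd j W.2.fromSpec)
      (Spec.map (h.appLE W.1 O.1 e)) := by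
    refine IsPullback.of_right ?_ hk2 (IsPullback.of_hasPullback j W.2.fromSpec)
    rw [hk1]
    exact outer.flip
  have hz2 : IsOpenImmersion (pullback.fst p1 O.2.fromSpec) := inferInstance
  have hklft : LocallyOfFiniteType k := by
    haveI : LocallyOfFiniteType (k ≫ pullback.fst j W.2.fromSpec) := by
      rw [hk1]; infer_instance
    exact locallyOfFiniteType_of_comp k (pullback.fst j W.2.fromSpec)
  have hkunr : FormallyUnramified k := by
    haveI : FormallyUnramified (k ≫ pullback.fst j W.2.fromSpec) := by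
      rw [hk1]
      exact MorphismProperty.comp_mem _ _ _ inferInstance inferInstance
    exact FormallyUnramified.of_comp k (pullback.fst j W.2.fromSpec)
  have sqT : IsPullback (pullback.snd p1 O.2.fromSpec) (k ≫ ι.hom)
      (Spec.map (h.appLE W.1 O.1 e)) (Spec.map (CommRingCat.ofHom (Ideal.Quotient.mk I))) := by
    have t : IsPullback (pullback.snd j W.2.fromSpec) ι.hom (𝟙 _)
        (Spec.map (CommRingCat.ofHom (Ideal.Quotient.mk I))) :=
      IsPullback.of_vert_isIso ⟨by rw [Category.comp_id]; exact hι⟩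
    have := sqk.flip.paste_vert t
    rwa [Category.comp_id] at this
  letI : Algebra Γ(V, W.1) Γ(U, O.1) := (h.appLE W.1 O.1 e).hom.toAlgebra
  have sqT' : IsPullback (pullback.snd p1 O.2.fromSpec) (k ≫ ι.hom)
      (Spec.map (CommRingCat.ofHom (algebraMap Γ(V, W.1) Γ(U, O.1))))
      (Spec.map (CommRingCat.ofHom (algebraMap Γ(V, W.1) (Γ(V, W.1) ⧸ I)))) := sqT
  have hinc : Spec.map (CommRingCat.ofHom (RingHomClass.toRingHom
      (Algebra.TensorProduct.includeRight :
        (Γ(V, W.1) ⧸ I) →ₐ[Γ(V, W.1)] (Γ(U, O.1) ⊗[Γ(V, W.1)] (Γ(V, W.1) ⧸ I))))) =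
      (pullbackSpecIso Γ(V, W.1) Γ(U, O.1) (Γ(V, W.1) ⧸ I)).inv ≫ sqT'.isoPullback.inv ≫
        (k ≫ ι.hom) := by
    rw [sqT'.isoPullback_inv_snd, pullbackSpecIso_inv_snd]
  have h1 : LocallyOfFiniteType (Spec.map (CommRingCat.ofHom (RingHomClass.toRingHom
      (Algebra.TensorProduct.includeRight :
        (Γ(V, W.1) ⧸ I) →ₐ[Γ(V, W.1)] (Γ(U, O.1) ⊗[Γ(V, W.1)] (Γ(V, W.1) ⧸ I)))))) := by
    rw [hinc]
    haveI := hklft
    infer_instance
  have h2 : FormallyUnramified (Spec.map (CommRingCat.ofHom (RingHomClass.toRingHom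
      (Algebra.TensorProduct.includeRight :
        (Γ(V, W.1) ⧸ I) →ₐ[Γ(V, W.1)] (Γ(U, O.1) ⊗[Γ(V, W.1)] (Γ(V, W.1) ⧸ I)))))) := by
    rw [hinc, MorphismProperty.cancel_left_of_respectsIso @FormallyUnramified,
      MorphismProperty.cancel_left_of_respectsIso @FormallyUnramified,
      MorphismProperty.cancel_right_of_respectsIso @FormallyUnramified]
    exact hkunr
  have hor' : (h.appLE W.1 O.1 e).hom.FiniteType ∨ I.FG := by
    rcases hor with hh | hj
    · exact Or.inl (HasRingHomProperty.appLE @LocallyOfFiniteType h hh W O e)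
    · right
      have h3 : LocallyOfFinitePresentation (pullback.snd j W.2.fromSpec) :=
        MorphismProperty.pullback_snd (P := @LocallyOfFinitePresentation) _ _ hj
      have h4 : LocallyOfFinitePresentation
          (Spec.map (CommRingCat.ofHom (Ideal.Quotient.mk I))) := by
        rw [hmk]; infer_instance
      exact fg_of_finitePresentation_mk I
        ((HasRingHomProperty.Spec_iff (P := @LocallyOfFinitePresentation)).1 h4)
  exact ring_main' (h.appLE W.1 O.1 e).hom I hI hor'
    ((HasRingHomProperty.Spec_iff (P := @LocallyOfFiniteType)).1 h1)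
    ((HasRingHomProperty.Spec_iff (P := @FormallyUnramified)).1 h2)

theorem main {U V V' U' : Scheme.{u}} (h : U ⟶ V) (j : V' ⟶ V) [IsClosedImmersion j]
    [Surjective j] (p1 : U' ⟶ U) (h' : U' ⟶ V') (sq : IsPullback p1 h' h j)
    [LocallyOfFiniteType h'] [FormallyUnramified h']
    (hor : LocallyOfFiniteType h ∨ LocallyOfFinitePresentation j) :
    LocallyOfFiniteType h ∧ FormallyUnramified h :=
  ⟨(HasRingHomProperty.iff_appLE (P := @LocallyOfFiniteType)).2
      fun W O e => (key_aux h j p1 h' sq hor W O e).1,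
    (HasRingHomProperty.iff_appLE (P := @FormallyUnramified)).2
      fun W O e => (key_aux h j p1 h' sq hor W O e).2⟩

end Groth.Agent.Lib.ThickSch_helper7
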