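import Groth.Agent.Lib.AlgSpClosedTfae_helper7
import Groth.Agent.Lib.ThickSch_helper7

/-! # Closed immersions and thickenings of the base for algebraic spaces (helper7) -/

set_option autoImplicit false
set_option linter.style.haveILetI false
set_option backward.isDefEq.respectTransparency false
set_option backward.isDefEq.respectTransparency.types false

universe u

open CategoryTheory CategoryTheory.Limits AlgebraicGeometry Opposite

namespace Groth.Agent.Lib.AlgSpUnramLocal

open AlgSp Groth.Agent.Lib.AlgStLocQ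
  Groth.Agent.Lib.AlgSpQC_helper7 Groth.Agent.Lib.AlgSpDiag_helper7
  Groth.Agent.Lib.AlgSpPullback_helper7 Groth.Agent.Lib.AlgSpRepBySp_helper7
  Groth.Agent.Lib.AlgSpPoints_helper7 Groth.Agent.Lib.AlgSpLocP_helper7
  Groth.Agent.Lib.AlgSpBasic_helper7 Groth.Agent.Lib.AlgSpSep_helper7
  Groth.Agent.Lib.AlgSpLocP4_helper7 Groth.Agent.Lib.AlgSpLocP5_helper7
  Groth.Agent.Lib.AlgSpLocP7_helper7 Groth.Agent.Lib.AlgSpQC2_helper7
  Groth.Agent.Lib.AlgSpLocP8_helper7 Groth.Agent.Lib.AlgSpLocP10_helper7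
  Groth.Agent.Lib.AlgSpFpqc3_helper7 Groth.Agent.Lib.AlgSpLocP6_helper7
  Groth.Agent.Lib.AlgSpFpqc2_helper7 Groth.Agent.Lib.AlgSpFpqc_helper7
  Groth.Agent.Lib.AlgSpOpenSub_helper7 Groth.Agent.Lib.AlgSpOpen_helper7
  Groth.Agent.Lib.AlgSpUnram_helper7

variable {S : Scheme.{u}}

theorem closed_inj_of_repWith_isClosedImmersion {X Y : Sp S} (hX : IsAlgSpace X)
    (hY : IsAlgSpace Y) (f : X ⟶ Y) (hf : RepWith @IsClosedImmersion f) :
    IsClosedMap (Points.map f) ∧ Function.Injective (Points.map f) := by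
  obtain ⟨h1, _, _, h4, _, _⟩ := closedImmersion_props hX hY f hf
  have sq : IsPullback (𝟙 X) f f (𝟙 Y) := IsPullback.of_horiz_isIso ⟨by simp⟩
  exact ⟨h1 hY (𝟙 _) (𝟙 _) f sq, h4 hY (𝟙 _) (𝟙 _) f sq⟩

theorem univ_closed_inj_of_thickening {X B B' X' : Sp S} (hX : IsAlgSpace X) (hB : IsAlgSpace B)
    (hB' : IsAlgSpace B') (f : X ⟶ B) (g : B' ⟶ B) (hg : RepWith @IsClosedImmersion g)
    (hsurj : Function.Surjective (Points.map g))
    (fst : X' ⟶ X) (snd : X' ⟶ B') (hX' : IsPullback fst snd f g)
    (hsnd : RepWith @IsClosedImmersion snd) :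
    IsUnivClosedMor f ∧ IsUnivInjectiveMor f := by
  have hX'a : IsAlgSpace X' := isAlgSpace_of_isPullback hB.diag hX hB' hX'
  have main : ∀ ⦃T P : Sp S⦄, IsAlgSpace T → ∀ (t : T ⟶ B) (pfst : P ⟶ X) (psnd : P ⟶ T),
      IsPullback pfst psnd f t →
        IsClosedMap (Points.map psnd) ∧ Function.Injective (Points.map psnd) := by
    intro T P hT t pfst psnd sq
    have sqT := IsPullback.of_hasPullback t g
    have hT' : IsAlgSpace (pullback t g) := isAlgSpace_of_isPullback hB.diag hT hB' sqT
    have hτ1 : RepWith @IsClosedImmersion (pullback.fst t g) :=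
      repWith_fst_of_isPullback _ sqT hg
    have sqQ := IsPullback.of_hasPullback snd (pullback.snd t g)
    have hQ : IsAlgSpace (pullback snd (pullback.snd t g)) :=
      isAlgSpace_of_isPullback hB'.diag hX'a hT' sqQ
    have hq2 : RepWith @IsClosedImmersion (pullback.snd snd (pullback.snd t g)) :=
      repWith_snd_of_isPullback _ sqQ hsnd
    have outer : IsPullback (pullback.fst snd (pullback.snd t g) ≫ fst)
        (pullback.snd snd (pullback.snd t g)) f (pullback.snd t g ≫ g) := sqQ.paste_horiz hX'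
    have hw : pullback.snd t g ≫ g = pullback.fst t g ≫ t := sqT.w.symm
    rw [hw] at outer
    obtain ⟨r, hr⟩ : ∃ r, r = sq.lift (pullback.fst snd (pullback.snd t g) ≫ fst)
        (pullback.snd snd (pullback.snd t g) ≫ pullback.fst t g)
        (by simpa using outer.w) := ⟨_, rfl⟩
    have hr1 : r ≫ pfst = pullback.fst snd (pullback.snd t g) ≫ fst := by
      rw [hr]; exact sq.lift_fst _ _ _
    have hr2 : r ≫ psnd = pullback.snd snd (pullback.snd t g) ≫ pullback.fst t g := by
      rw [hr]; exact sq.lift_snd _ _ _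
    have sqr : IsPullback r (pullback.snd snd (pullback.snd t g)) psnd (pullback.fst t g) := by
      refine IsPullback.of_right ?_ hr2 sq
      rw [hr1]; exact outer
    obtain ⟨hc1, hi1⟩ := closed_inj_of_repWith_isClosedImmersion hT' hT _ hτ1
    obtain ⟨hc2, hi2⟩ := closed_inj_of_repWith_isClosedImmersion hQ hT' _ hq2
    have hrs : Function.Surjective (Points.map r) := by
      intro p
      obtain ⟨b', hb'⟩ := hsurj (Points.map t (Points.map psnd p))
      obtain ⟨t', ht'1, ht'2⟩ := exists_of_isPullback sqT (Points.map psnd p) b' hb'.symm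
      obtain ⟨q, hq1, hq2⟩ := exists_of_isPullback sqr p t' ht'1.symm
      exact ⟨q, hq1⟩
    have e1 : ∀ q, Points.map psnd (Points.map r q) =
        Points.map (pullback.fst t g) (Points.map (pullback.snd snd (pullback.snd t g)) q) := by
      intro q
      rw [← Points.map_comp, ← Points.map_comp, hr2]
    constructor
    · intro C hC
      have himg : Points.map psnd '' C = Points.map (pullback.fst t g) ''
          (Points.map (pullback.snd snd (pullback.snd t g)) '' (Points.map r ⁻¹' C)) := by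
        ext y
        constructor
        · rintro ⟨p, hp, rfl⟩
          obtain ⟨q, rfl⟩ := hrs p
          exact ⟨_, ⟨q, hp, rfl⟩, (e1 q).symm⟩
        · rintro ⟨_, ⟨q, hq, rfl⟩, rfl⟩
          exact ⟨Points.map r q, hq, e1 q⟩
      rw [himg]
      exact hc1 _ (hc2 _ (hC.preimage (Points.continuous_map r)))
    · intro p₁ p₂ hp
      obtain ⟨q₁, rfl⟩ := hrs p₁
      obtain ⟨q₂, rfl⟩ := hrs p₂
      rw [e1, e1] at hp
      rw [hi2 (hi1 hp)]
  exact ⟨fun T P hT t pfst psnd sq => (main hT t pfst psnd sq).1,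
    fun T P hT t pfst psnd sq => (main hT t pfst psnd sq).2⟩

theorem locP_unram_of_thickening {X B B' X' : Sp S} (hX : IsAlgSpace X) (hB : IsAlgSpace B)
    (hB' : IsAlgSpace B') (f : X ⟶ B) (g : B' ⟶ B) (hg : RepWith @IsClosedImmersion g)
    (hsurj : Function.Surjective (Points.map g))
    (fst : X' ⟶ X) (snd : X' ⟶ B') (hX' : IsPullback fst snd f g)
    (hsnd : RepWith @IsClosedImmersion snd)
    (hor : LocP @LocallyOfFiniteType f ∨ LocP @LocallyOfFinitePresentation g) :
    LocP (@LocallyOfFiniteType ⊓ @FormallyUnramified) f := by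
  have hX'a : IsAlgSpace X' := isAlgSpace_of_isPullback hB.diag hX hB' hX'
  obtain ⟨_, hsndP, _, _, _, _⟩ := closedImmersion_props hX'a hB' snd hsnd
  intro U V a b h hae hbe comm
  have sqV := hg.rep.isPullback b
  have hb' : RepWith @Etale (hg.rep.fst b) := repWith_fst_of_isPullback _ sqV hbe
  have hj : IsClosedImmersion (hg.rep.snd b).left := hg.property_snd b
  have sqU := IsPullback.of_hasPullback h (hg.rep.snd b)
  have sqUy := sqU.map (yon S)
  have sqUs := sqU.map (Over.forget S)
  have outer : IsPullback ((yon S).map (pullback.snd h (hg.rep.snd b)) ≫ hg.rep.fst b)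
      ((yon S).map (pullback.fst h (hg.rep.snd b))) g ((yon S).map h ≫ b) :=
    sqUy.flip.paste_horiz sqV
  rw [← comm] at outer
  obtain ⟨a', ha'⟩ : ∃ a', a' = hX'.lift ((yon S).map (pullback.fst h (hg.rep.snd b)) ≫ a)
      ((yon S).map (pullback.snd h (hg.rep.snd b)) ≫ hg.rep.fst b)
      (by simpa using outer.w.symm) := ⟨_, rfl⟩
  have ha1 : a' ≫ fst = (yon S).map (pullback.fst h (hg.rep.snd b)) ≫ a := by
    rw [ha']; exact hX'.lift_fst _ _ _
  have ha2 : a' ≫ snd = (yon S).map (pullback.snd h (hg.rep.snd b)) ≫ hg.rep.fst b := by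
    rw [ha']; exact hX'.lift_snd _ _ _
  have sqa : IsPullback a' ((yon S).map (pullback.fst h (hg.rep.snd b))) fst a := by
    refine IsPullback.of_right ?_ ha1 hX'.flip
    rw [ha2]; exact outer
  have ha'e : RepWith @Etale a' := repWith_fst_of_isPullback _ sqa hae
  have hP' := hsndP a' (hg.rep.fst b) (pullback.snd h (hg.rep.snd b)) ha'e hb' ha2
  haveI : IsClosedImmersion (hg.rep.snd b).left := hj
  haveI : Surjective (hg.rep.snd b).left := ⟨by
    intro v
    obtain ⟨z, hz⟩ := hsurj (Points.map b (Points.schemeHomeo V v))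
    obtain ⟨w, hw1, hw2⟩ := exists_of_isPullback sqV z (Points.schemeHomeo V v) hz
    obtain ⟨v', rfl⟩ := (Points.schemeHomeo _).surjective w
    rw [Points.map_yon_map_apply] at hw2
    exact ⟨v', (Points.schemeHomeo V).injective hw2⟩⟩
  haveI : LocallyOfFiniteType (pullback.snd h (hg.rep.snd b)).left := hP'.1
  haveI : FormallyUnramified (pullback.snd h (hg.rep.snd b)).left := hP'.2
  have hor' : LocallyOfFiniteType h.left ∨
      LocallyOfFinitePresentation (hg.rep.snd b).left := by
    rcases hor with h1 | h1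
    · exact Or.inl (h1 a b h hae hbe comm)
    · exact Or.inr (h1 (hg.rep.fst b) b (hg.rep.snd b) hb' hbe sqV.w)
  exact Groth.Agent.Lib.ThickSch_helper7.main h.left (hg.rep.snd b).left
    (pullback.fst h (hg.rep.snd b)).left (pullback.snd h (hg.rep.snd b)).left sqUs hor'

theorem closedImmersion_of_closedImmersion_baseChange_bijective (S : Scheme.{u})
    {X B B' : AlgSp.Space S}
    (f : X ⟶ B) (g : B' ⟶ B) (hg : AlgSp.RepWith @IsClosedImmersion g.hom)
    (hbij : Function.Bijective (AlgSp.Points.map g.hom))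
    (X' : AlgSp.Sp S) (fst : X' ⟶ X.obj) (snd : X' ⟶ B'.obj) (hX' : IsPullback fst snd f.hom g.hom)
    (hsnd : AlgSp.RepWith @IsClosedImmersion snd)
    (hor : AlgSp.IsFiniteTypeMor f.hom ∨ AlgSp.IsFinitePresentationMor g.hom) :
    AlgSp.RepWith @IsClosedImmersion f.hom := by
  have hX := X.property
  have hB := B.property
  have hB' := B'.property
  have hor' : LocP @LocallyOfFiniteType f.hom ∨ LocP @LocallyOfFinitePresentation g.hom :=
    hor.imp (fun h => h.1) (fun h => h.1)
  obtain ⟨huc, hinj⟩ := univ_closed_inj_of_thickening hX hB hB' f.hom g.hom hg hbij.surjective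
    fst snd hX' hsnd
  have hunr := locP_unram_of_thickening hX hB hB' f.hom g.hom hg hbij.surjective fst snd hX' hsnd
    hor'
  exact (closedImmersion_tfae f).2.1.2 ⟨huc, hunr, hinj⟩

end Groth.Agent.Lib.AlgSpUnramLocal
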