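import Groth.Agent.Lib.AlgSpQC2_helper7
import Groth.Prelude.Def_AlgSpInf

/-!
# Thickenings of algebraic spaces are universal homeomorphisms (helper7)
-/

set_option autoImplicit false
universe u
open CategoryTheory CategoryTheory.Limits AlgebraicGeometry Opposite MorphismProperty
open AlgSp Groth.Agent.Lib.AlgSpPoints_helper7 Groth.Agent.Lib.AlgSpQC_helper7
  Groth.Agent.Lib.AlgSpQC2_helper7 Groth.Agent.Lib.AlgSpUniv_helper7
  Groth.Agent.Lib.AlgSpTop_helper7 Groth.Agent.Lib.AlgSpPullback_helper7
  Groth.Agent.Lib.AlgSpBasic_helper7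

namespace Groth.Agent.Lib.AlgSpThick_helper7

variable {S : Scheme.{u}}

theorem thick_le_universallyClosed : (thick.{u}) ≤ @UniversallyClosed := fun _ _ i hi => by
  haveI : IsClosedImmersion i := hi.1
  infer_instance

theorem thick_le_universallyInjective : (thick.{u}) ≤ @UniversallyInjective := fun _ _ i hi => by
  haveI : IsClosedImmersion i := hi.1
  infer_instance

theorem thick_le_surjective : (thick.{u}) ≤ @Surjective := fun _ _ _ hi => hi.2

theorem thick_le_mono : (thick.{u}) ≤ MorphismProperty.monomorphisms Scheme.{u} :=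
  fun _ _ i hi => by
    haveI : IsClosedImmersion i := hi.1
    exact (inferInstance : Mono i)

/-- A thickening induces a homeomorphism on points. -/
theorem isHomeomorph_map_of_isThickMor {F G : Sp S} (i : F ⟶ G) (hi : IsThickMor i) :
    IsHomeomorph (Points.map i) := by
  rw [isHomeomorph_iff_continuous_isClosedMap_bijective]
  exact ⟨Points.continuous_map i,
    isClosedMap_map_of_repWith i (repWith_mono thick_le_universallyClosed hi),
    injective_map_of_repWith i (repWith_mono thick_le_universallyInjective hi),
    isSurjectiveMor_of_repWith i (repWith_mono thick_le_surjective hi)⟩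

theorem mono_of_isThickMor {F G : Sp S} (i : F ⟶ G) (hi : IsThickMor i) : Mono i :=
  mono_of_repWith_le_mono thick_le_mono i hi

theorem isThickMor_snd_of_isPullback {A B C D : Sp S} {fst : A ⟶ B} {snd : A ⟶ C} {f : B ⟶ D}
    {g : C ⟶ D} (sq : IsPullback fst snd f g) (hf : IsThickMor f) : IsThickMor snd :=
  repWith_snd_of_isPullback thick sq hf

theorem isThickMor_fst_of_isPullback {A B C D : Sp S} {fst : A ⟶ B} {snd : A ⟶ C} {f : B ⟶ D}
    {g : C ⟶ D} (sq : IsPullback fst snd f g) (hg : IsThickMor g) : IsThickMor fst :=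
  repWith_fst_of_isPullback thick sq hg

section Universally

variable (T : ∀ {α β : Type (u + 1)} [TopologicalSpace α] [TopologicalSpace β], (α → β) → Prop)

/-- The property of morphisms of sheaves given by `T` on points. -/
def PT : MorphismProperty (Sp S) := fun _ _ g => T (Points.map g)

theorem univSp_comp_thick_iff
    (hT₂ : ∀ {α β γ : Type (u + 1)} [TopologicalSpace α] [TopologicalSpace β] [TopologicalSpace γ]
      (a : α → β) (b : β → γ), IsHomeomorph b → (T (b ∘ a) ↔ T a))
    {X Y Y' : Sp S} (f : X ⟶ Y) (j : Y ⟶ Y') (hj : IsThickMor j) (hY : IsAlgSpace Y)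
    (hY' : IsAlgSpace Y') :
    UnivSp (PT T) (f ≫ j) ↔ UnivSp (PT T) f := by
  haveI := mono_of_isThickMor j hj
  constructor
  · intro h Z Z' hZ g fst snd sq
    exact h hZ (g ≫ j) fst snd ((isPullback_comp_mono_iff j).2 sq)
  · intro h Z Z' hZ g fst snd sq
    let q := pullback.fst g j
    let r := pullback.snd g j
    have sqZ : IsPullback q r g j := IsPullback.of_hasPullback g j
    have hZ₁ : IsAlgSpace (pullback g j) := isAlgSpace_of_isPullback hY'.diag hZ hY sqZ
    let l : Z' ⟶ pullback g j := pullback.lift snd (fst ≫ f) (by rw [← sq.w, Category.assoc])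
    have hl1 : l ≫ q = snd := pullback.lift_fst _ _ _
    have hl2 : l ≫ r = fst ≫ f := pullback.lift_snd _ _ _
    have big : IsPullback fst (l ≫ q) (f ≫ j) g := by rw [hl1]; exact sq
    have sq' : IsPullback fst l f r := IsPullback.of_bot big hl2.symm sqZ.flip
    have hTl : T (Points.map l) := h hZ₁ r fst l sq'
    have hq : IsHomeomorph (Points.map q) :=
      isHomeomorph_map_of_isThickMor q (isThickMor_fst_of_isPullback sqZ hj)
    show T (Points.map snd)
    have : Points.map snd = Points.map q ∘ Points.map l := by
      funext x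
      rw [← hl1, Points.map_comp]
      rfl
    rw [this]
    exact (hT₂ _ _ hq).2 hTl

theorem univSp_thick_comp_iff
    (hT₁ : ∀ {α β γ : Type (u + 1)} [TopologicalSpace α] [TopologicalSpace β] [TopologicalSpace γ]
      (a : α → β) (b : β → γ), IsHomeomorph a → (T (b ∘ a) ↔ T b))
    {X X' Y' : Sp S} (i : X ⟶ X') (f' : X' ⟶ Y') (hi : IsThickMor i) :
    UnivSp (PT T) (i ≫ f') ↔ UnivSp (PT T) f' := by
  constructor
  · intro h Z Z' hZ g fst snd sq
    let l := pullback.fst fst i
    let s := pullback.snd fst i
    have sq1 : IsPullback s l i fst := (IsPullback.of_hasPullback fst i).flip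
    have big : IsPullback s (l ≫ snd) (i ≫ f') g := sq1.paste_vert sq
    have hT : T (Points.map (l ≫ snd)) := h hZ g s (l ≫ snd) big
    have hl : IsHomeomorph (Points.map l) :=
      isHomeomorph_map_of_isThickMor l (isThickMor_fst_of_isPullback (IsPullback.of_hasPullback fst i) hi)
    have : Points.map (l ≫ snd) = Points.map snd ∘ Points.map l := by
      funext x
      rw [Points.map_comp]
      rfl
    rw [this] at hT
    exact (hT₁ _ _ hl).1 hT
  · intro h Z Z' hZ g fst snd sq
    let a := pullback.fst f' g
    let b := pullback.snd f' g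
    have sqP : IsPullback a b f' g := IsPullback.of_hasPullback f' g
    let l : Z' ⟶ pullback f' g := pullback.lift (fst ≫ i) snd (by rw [Category.assoc, sq.w])
    have hl1 : l ≫ a = fst ≫ i := pullback.lift_fst _ _ _
    have hl2 : l ≫ b = snd := pullback.lift_snd _ _ _
    have big : IsPullback fst (l ≫ b) (i ≫ f') g := by rw [hl2]; exact sq
    have sq' : IsPullback fst l i a := IsPullback.of_bot big hl1.symm sqP
    have hl : IsHomeomorph (Points.map l) :=
      isHomeomorph_map_of_isThickMor l (isThickMor_snd_of_isPullback sq' hi)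
    have hTb : T (Points.map b) := h hZ g a b sqP
    show T (Points.map snd)
    have : Points.map snd = Points.map b ∘ Points.map l := by
      funext x
      rw [← hl2, Points.map_comp]
      rfl
    rw [this]
    exact (hT₁ _ _ hl).2 hTb

theorem univSp_iff_of_thickenings
    (hT₁ : ∀ {α β γ : Type (u + 1)} [TopologicalSpace α] [TopologicalSpace β] [TopologicalSpace γ]
      (a : α → β) (b : β → γ), IsHomeomorph a → (T (b ∘ a) ↔ T b))
    (hT₂ : ∀ {α β γ : Type (u + 1)} [TopologicalSpace α] [TopologicalSpace β] [TopologicalSpace γ]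
      (a : α → β) (b : β → γ), IsHomeomorph b → (T (b ∘ a) ↔ T a))
    {X X' Y Y' : Sp S} (i : X ⟶ X') (j : Y ⟶ Y') (f : X ⟶ Y) (f' : X' ⟶ Y')
    (hi : IsThickMor i) (hj : IsThickMor j) (hY : IsAlgSpace Y) (hY' : IsAlgSpace Y')
    (w : i ≫ f' = f ≫ j) :
    UnivSp (PT T) f ↔ UnivSp (PT T) f' := by
  rw [← univSp_comp_thick_iff T hT₂ f j hj hY hY', ← w, univSp_thick_comp_iff T hT₁ i f' hi]

end Universally

/-- Quasi-compactness transfers across morphisms of thickenings. -/
theorem isQuasiCompactMor_iff_of_thickenings {X X' Y Y' : Sp S} (i : X ⟶ X') (j : Y ⟶ Y')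
    (f : X ⟶ Y) (f' : X' ⟶ Y') (hi : IsThickMor i) (hj : IsThickMor j) (hX : IsAlgSpace X)
    (hX' : IsAlgSpace X') (hY : IsAlgSpace Y) (hY' : IsAlgSpace Y') (w : i ≫ f' = f ≫ j) :
    IsQuasiCompactMor f ↔ IsQuasiCompactMor f' := by
  haveI := mono_of_isThickMor j hj
  have step1 : IsQuasiCompactMor f ↔ IsQuasiCompactMor (f ≫ j) := by
    constructor
    · intro h Z Z' hZ hZc g fst snd sq
      let q := pullback.fst g j
      let r := pullback.snd g j
      have sqZ : IsPullback q r g j := IsPullback.of_hasPullback g j
      have hZ₁ : IsAlgSpace (pullback g j) := isAlgSpace_of_isPullback hY'.diag hZ hY sqZ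
      have hq : IsHomeomorph (Points.map q) :=
        isHomeomorph_map_of_isThickMor q (isThickMor_fst_of_isPullback sqZ hj)
      haveI : CompactSpace (Points Z) := compactSpace_of_isQuasiCompactSp hZc
      haveI : CompactSpace (Points (pullback g j)) := hq.homeomorph.symm.compactSpace
      have hZ₁c : IsQuasiCompactSp (pullback g j) := isQuasiCompactSp_of_compactSpace hZ₁
      let l : Z' ⟶ pullback g j := pullback.lift snd (fst ≫ f) (by rw [← sq.w, Category.assoc])
      have hl1 : l ≫ q = snd := pullback.lift_fst _ _ _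
      have hl2 : l ≫ r = fst ≫ f := pullback.lift_snd _ _ _
      have big : IsPullback fst (l ≫ q) (f ≫ j) g := by rw [hl1]; exact sq
      have sq' : IsPullback fst l f r := IsPullback.of_bot big hl2.symm sqZ.flip
      exact h hZ₁ hZ₁c r fst l sq'
    · intro h Z Z' hZ hZc g fst snd sq
      exact h hZ hZc (g ≫ j) fst snd ((isPullback_comp_mono_iff j).2 sq)
  have step2 : IsQuasiCompactMor (i ≫ f') ↔ IsQuasiCompactMor f' := by
    constructor
    · intro h Z Z' hZ hZc g fst snd sq
      have hZ' : IsAlgSpace Z' := isAlgSpace_of_isPullback hY'.diag hX' hZ sq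
      let l := pullback.fst fst i
      let s := pullback.snd fst i
      have sq1 : IsPullback s l i fst := (IsPullback.of_hasPullback fst i).flip
      have big : IsPullback s (l ≫ snd) (i ≫ f') g := sq1.paste_vert sq
      have hP : IsQuasiCompactSp (pullback fst i) := h hZ hZc g s (l ≫ snd) big
      have hl : IsHomeomorph (Points.map l) :=
        isHomeomorph_map_of_isThickMor l
          (isThickMor_fst_of_isPullback (IsPullback.of_hasPullback fst i) hi)
      haveI : CompactSpace (Points (pullback fst i)) := compactSpace_of_isQuasiCompactSp hP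
      haveI : CompactSpace (Points Z') := hl.homeomorph.compactSpace
      exact isQuasiCompactSp_of_compactSpace hZ'
    · intro h Z Z' hZ hZc g fst snd sq
      have hZ' : IsAlgSpace Z' := isAlgSpace_of_isPullback hY'.diag hX hZ sq
      let a := pullback.fst f' g
      let b := pullback.snd f' g
      have sqP : IsPullback a b f' g := IsPullback.of_hasPullback f' g
      let l : Z' ⟶ pullback f' g := pullback.lift (fst ≫ i) snd (by rw [Category.assoc, sq.w])
      have hl1 : l ≫ a = fst ≫ i := pullback.lift_fst _ _ _
      have hl2 : l ≫ b = snd := pullback.lift_snd _ _ _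
      have big : IsPullback fst (l ≫ b) (i ≫ f') g := by rw [hl2]; exact sq
      have sq' : IsPullback fst l i a := IsPullback.of_bot big hl1.symm sqP
      have hl : IsHomeomorph (Points.map l) :=
        isHomeomorph_map_of_isThickMor l (isThickMor_snd_of_isPullback sq' hi)
      have hP : IsQuasiCompactSp (pullback f' g) := h hZ hZc g a b sqP
      haveI : CompactSpace (Points (pullback f' g)) := compactSpace_of_isQuasiCompactSp hP
      haveI : CompactSpace (Points Z') := hl.homeomorph.symm.compactSpace
      exact isQuasiCompactSp_of_compactSpace hZ'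
  rw [step1, ← w, step2]

end Groth.Agent.Lib.AlgSpThick_helper7
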