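import Groth.Agent.Lib.AlgSpLocP4_helper7
import Groth.Agent.Lib.AlgSpProper_helper7
import Groth.Agent.Lib.AlgSpThick_helper7

/-!
# Separation properties and surjective closed immersions of the source (helper7)
-/

set_option autoImplicit false
universe u
open CategoryTheory CategoryTheory.Limits AlgebraicGeometry Opposite

namespace Groth.Agent.Lib.AlgSpThickSepH7

open AlgSp Groth.Agent.Lib.AlgSpQC2_helper7 Groth.Agent.Lib.AlgSpPoints_helper7
  Groth.Agent.Lib.AlgSpPullback_helper7 Groth.Agent.Lib.AlgSpProper_helper7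
  Groth.Agent.Lib.AlgSpDiag_helper7 Groth.Agent.Lib.AlgSpQC_helper7
  Groth.Agent.Lib.AlgSpLocP4_helper7

variable {S : Scheme.{u}}

theorem repWith_diagonal_of_mono (Q : MorphismProperty Scheme.{u}) [Q.IsStableUnderBaseChange]
    [Q.IsMultiplicative] {F G : Sp S} (m : F ⟶ G) [Mono m] : RepWith Q (pullback.diagonal m) := by
  have : IsIso (pullback.diagonal m) := (pullback.isIso_diagonal_iff m).2 inferInstance
  exact Groth.Agent.Lib.AlgSpBasic_helper7.repWith_of_isIso Q _

/-- Cancellation for properties of the diagonal. -/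
theorem repWith_diagonal_of_comp (Q : MorphismProperty Scheme.{u}) [Q.IsStableUnderBaseChange]
    [Q.IsMultiplicative] {X Y Z : Sp S} (f : X ⟶ Y) (g : Y ⟶ Z)
    (h : RepWith Q (pullback.diagonal (f ≫ g))) : RepWith Q (pullback.diagonal f) := by
  have sq := pullback_map_diagonal_isPullback f f g
  have hm : Mono (pullback.diagonal g) := inferInstance
  have hm' : Mono (pullback.map f f (f ≫ g) (f ≫ g) (𝟙 _) (𝟙 _) g (Category.id_comp _).symm
      (Category.id_comp _).symm) := sq.mono_snd_of_mono
  have hd : pullback.diagonal f ≫ pullback.map f f (f ≫ g) (f ≫ g) (𝟙 _) (𝟙 _) g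
      (Category.id_comp _).symm (Category.id_comp _).symm = pullback.diagonal (f ≫ g) := by
    apply pullback.hom_ext
    · rw [Category.assoc, pullback.lift_fst, ← Category.assoc, pullback.diagonal_fst,
        pullback.diagonal_fst, Category.id_comp]
    · rw [Category.assoc, pullback.lift_snd, ← Category.assoc, pullback.diagonal_snd,
        pullback.diagonal_snd, Category.id_comp]
  have := repWith_diagonal_of_mono Q (pullback.map f f (f ≫ g) (f ≫ g) (𝟙 _) (𝟙 _) g
      (Category.id_comp _).symm (Category.id_comp _).symm)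
  exact repWith_of_comp_of_diagonal _ (pullback.diagonal f) _ (by rw [hd]; exact h) this

theorem diagonal_comp_map {W Z' Y : Sp S} (t : W ⟶ Z') (p : Z' ⟶ Y) :
    t ≫ pullback.diagonal p = pullback.diagonal (t ≫ p) ≫
      pullback.map (t ≫ p) (t ≫ p) p p t t (𝟙 _) (by simp) (by simp) := by
  apply pullback.hom_ext
  · rw [Category.assoc, Category.assoc, pullback.diagonal_fst, Category.comp_id,
      pullback.lift_fst, ← Category.assoc, pullback.diagonal_fst, Category.id_comp]
  · rw [Category.assoc, Category.assoc, pullback.diagonal_snd, Category.comp_id,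
      pullback.lift_snd, ← Category.assoc, pullback.diagonal_snd, Category.id_comp]

theorem repWith_closedImmersion_map {W Z' Y : Sp S} (t : W ⟶ Z') (p : Z' ⟶ Y)
    (ht : RepWith @IsClosedImmersion t) :
    RepWith @IsClosedImmersion
      (pullback.map (t ≫ p) (t ≫ p) p p t t (𝟙 _) (by simp) (by simp)) :=
  MorphismProperty.pullbackMap (P := RepWith (S := S) @IsClosedImmersion)
    (f := t ≫ p) (g := t ≫ p) (f' := p) (g' := p) ht ht rfl rfl

/-- Separatedness can be tested after precomposing with a surjective closed immersion. -/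
theorem isSeparatedMor_of_thick_comp {W Z' Y : Sp S} (hZ' : IsAlgSpace Z') (t : W ⟶ Z')
    (p : Z' ⟶ Y) (ht : RepWith @IsClosedImmersion t) (hs : IsSurjectiveMor t)
    (h : IsSeparatedMor (t ≫ p)) : IsSeparatedMor p := by
  apply isSeparatedMor_of_isUnivClosedMor_diagonal hZ' p
  apply isUnivClosedMor_of_comp_isSurjectiveMor t _ hs
  rw [diagonal_comp_map]
  exact (isProperMor_of_repWith_isClosedImmersion _
    (repWith_comp _ h (repWith_closedImmersion_map t p ht))).2.2

/-- Quasi-separatedness can be tested after precomposing with a surjective closed immersion. -/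
theorem isQuasiSeparatedMor_of_thick_comp {W Z' Y : Sp S} (hZ' : IsAlgSpace Z')
    (hY : IsAlgSpace Y) (t : W ⟶ Z')
    (p : Z' ⟶ Y) (ht : RepWith @IsClosedImmersion t) (hs : IsSurjectiveMor t)
    (h : IsQuasiSeparatedMor (t ≫ p)) : IsQuasiSeparatedMor p := by
  have hPP : IsAlgSpace (pullback p p) :=
    isAlgSpace_of_isPullback hY.diag hZ' hZ' (IsPullback.of_hasPullback p p)
  apply (repWith_quasiCompact_iff _ (diagonal_properties hZ' p).1.rep).2
  apply isQuasiCompactMor_of_comp_surjective hZ' hPP.diag t _ hs
  rw [diagonal_comp_map]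
  apply isQuasiCompactMor_of_repWith
  refine repWith_comp _ h (repWith_mono ?_ (repWith_closedImmersion_map t p ht))
  intro A B g hg
  haveI : IsClosedImmersion g := hg
  exact (inferInstance : QuasiCompact g)

end Groth.Agent.Lib.AlgSpThickSepH7
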