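import Groth.Agent.Lib.AlgSpThickCI_helper7
import Groth.Agent.Lib.AlgSpThick_helper7

/-! # Properties of morphisms along cartesian thickenings of algebraic spaces (helper7) -/

set_option autoImplicit false
set_option linter.style.haveILetI false
set_option backward.isDefEq.respectTransparency false
set_option backward.isDefEq.respectTransparency.types false

universe u

open CategoryTheory CategoryTheory.Limits AlgebraicGeometry Opposite

namespace Groth.Agent.Lib.AlgSpUnramLocal

open AlgSp Groth.Agent.Lib.AlgStLocQ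
  Groth.Agent.Lib.AlgSpQC_helper7 Groth.Agent.Lib.AlgSpDiag_helper7
  Groth.Agent.Lib.AlgSpPullback_helper7 Groth.Agent.Lib.AlgSpRepBySp_helper7
  Groth.Agent.Lib.AlgSpPoints_helper7 Groth.Agent.Lib.AlgSpLocP_helper7
  Groth.Agent.Lib.AlgSpBasic_helper7 Groth.Agent.Lib.AlgSpSep_helper7
  Groth.Agent.Lib.AlgSpLocP4_helper7 Groth.Agent.Lib.AlgSpLocP5_helper7
  Groth.Agent.Lib.AlgSpLocP7_helper7 Groth.Agent.Lib.AlgSpQC2_helper7
  Groth.Agent.Lib.AlgSpLocP8_helper7 Groth.Agent.Lib.AlgSpLocP10_helper7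
  Groth.Agent.Lib.AlgSpFpqc3_helper7 Groth.Agent.Lib.AlgSpLocP6_helper7
  Groth.Agent.Lib.AlgSpFpqc2_helper7 Groth.Agent.Lib.AlgSpFpqc_helper7
  Groth.Agent.Lib.AlgSpOpenSub_helper7 Groth.Agent.Lib.AlgSpOpen_helper7
  Groth.Agent.Lib.AlgSpUnram_helper7

variable {S : Scheme.{u}}

/-- base change of a chart diagram of `f : X ⟶ B` along a surjective closed immersion `g : B' ⟶ B`. -/
theorem exists_chart_of_thickening {X B B' X' : Sp S}
    (f : X ⟶ B) (g : B' ⟶ B) (hg : RepWith @IsClosedImmersion g)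
    (hsurj : Function.Surjective (Points.map g))
    (fst : X' ⟶ X) (snd : X' ⟶ B') (hX' : IsPullback fst snd f g)
    {U V : Over S} (a : (yon S).obj U ⟶ X) (b : (yon S).obj V ⟶ B) (h : U ⟶ V)
    (hae : RepWith @Etale a) (hbe : RepWith @Etale b) (comm : a ≫ f = (yon S).map h ≫ b) :
    ∃ (U' V' : Over S) (p1 : U' ⟶ U) (j : V' ⟶ V) (h' : U' ⟶ V') (a' : (yon S).obj U' ⟶ X')
      (b' : (yon S).obj V' ⟶ B'),
      RepWith @Etale a' ∧ RepWith @Etale b' ∧ a' ≫ snd = (yon S).map h' ≫ b' ∧
      b' ≫ g = (yon S).map j ≫ b ∧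
      IsPullback p1.left h'.left h.left j.left ∧ IsClosedImmersion j.left ∧ Surjective j.left := by
  have sqV := hg.rep.isPullback b
  have hb' : RepWith @Etale (hg.rep.fst b) := repWith_fst_of_isPullback _ sqV hbe
  have hj : IsClosedImmersion (hg.rep.snd b).left := hg.property_snd b
  have sqU := IsPullback.of_hasPullback h (hg.rep.snd b)
  have sqUy := sqU.map (yon S)
  have sqUs := sqU.map (Over.forget S)
  have outer : IsPullback ((yon S).map (pullback.snd h (hg.rep.snd b)) ≫ hg.rep.fst b)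
      ((yon S).map (pullback.fst h (hg.rep.snd b))) g ((yon S).map h ≫ b) :=
    sqUy.flip.paste_horiz sqV
  rw [← comm] at outer
  obtain ⟨a', ha'⟩ : ∃ a', a' = hX'.lift ((yon S).map (pullback.fst h (hg.rep.snd b)) ≫ a)
      ((yon S).map (pullback.snd h (hg.rep.snd b)) ≫ hg.rep.fst b)
      (by simpa using outer.w.symm) := ⟨_, rfl⟩
  have ha1 : a' ≫ fst = (yon S).map (pullback.fst h (hg.rep.snd b)) ≫ a := by
    rw [ha']; exact hX'.lift_fst _ _ _
  have ha2 : a' ≫ snd = (yon S).map (pullback.snd h (hg.rep.snd b)) ≫ hg.rep.fst b := by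
    rw [ha']; exact hX'.lift_snd _ _ _
  have sqa : IsPullback a' ((yon S).map (pullback.fst h (hg.rep.snd b))) fst a := by
    refine IsPullback.of_right ?_ ha1 hX'.flip
    rw [ha2]; exact outer
  have ha'e : RepWith @Etale a' := repWith_fst_of_isPullback _ sqa hae
  have hjs : Surjective (hg.rep.snd b).left := ⟨by
    intro v
    obtain ⟨z, hz⟩ := hsurj (Points.map b (Points.schemeHomeo V v))
    obtain ⟨w, hw1, hw2⟩ := exists_of_isPullback sqV z (Points.schemeHomeo V v) hz
    obtain ⟨v', rfl⟩ := (Points.schemeHomeo _).surjective w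
    rw [Points.map_yon_map_apply] at hw2
    exact ⟨v', (Points.schemeHomeo V).injective hw2⟩⟩
  exact ⟨_, _, pullback.fst h (hg.rep.snd b), hg.rep.snd b, pullback.snd h (hg.rep.snd b), a',
    hg.rep.fst b, ha'e, hb', ha2, sqV.w, sqUs, hj, hjs⟩

theorem locP_unram_of_thickening' {X B B' X' : Sp S}
    (f : X ⟶ B) (g : B' ⟶ B) (hg : RepWith @IsClosedImmersion g)
    (hsurj : Function.Surjective (Points.map g))
    (fst : X' ⟶ X) (snd : X' ⟶ B') (hX' : IsPullback fst snd f g)
    (hsndP : LocP (@LocallyOfFiniteType ⊓ @FormallyUnramified) snd)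
    (hor : LocP @LocallyOfFiniteType f ∨ LocP @LocallyOfFinitePresentation g) :
    LocP (@LocallyOfFiniteType ⊓ @FormallyUnramified) f := by
  intro U V a b h hae hbe comm
  obtain ⟨U', V', p1, j, h', a', b', ha'e, hb'e, hc, hbg, sq, hj1, hj2⟩ :=
    exists_chart_of_thickening f g hg hsurj fst snd hX' a b h hae hbe comm
  have hP' := hsndP a' b' h' ha'e hb'e hc
  haveI := hj1
  haveI := hj2
  haveI : LocallyOfFiniteType h'.left := hP'.1
  haveI : FormallyUnramified h'.left := hP'.2
  exact Groth.Agent.Lib.ThickSch_helper7.main h.left j.left p1.left h'.left sq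
    (hor.imp (fun h1 => h1 a b h hae hbe comm) (fun h1 => h1 b' b j hb'e hbe hbg))

theorem lqf_of_thickening {U V V' U' : Scheme.{u}} (h : U ⟶ V) (j : V' ⟶ V)
    [IsClosedImmersion j] [Surjective j]
    (p1 : U' ⟶ U) (h' : U' ⟶ V') (sq : IsPullback p1 h' h j) [LocallyOfFiniteType h]
    [LocallyQuasiFinite h'] : LocallyQuasiFinite h := by
  rw [locallyQuasiFinite_iff_isDiscrete_preimage_singleton]
  intro v
  obtain ⟨v', rfl⟩ := j.surjective v
  haveI : IsClosedImmersion p1 := MorphismProperty.of_isPullback sq.flip ‹IsClosedImmersion j›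
  haveI : Surjective p1 :=
    MorphismProperty.of_isPullback (P := @Surjective) sq.flip ‹Surjective j›
  have hd := h'.isDiscrete_preimage_singleton v'
  have e : h ⁻¹' {j v'} = p1 '' (h' ⁻¹' {v'}) := by
    ext u
    constructor
    · intro hu
      obtain ⟨u', rfl⟩ := p1.surjective u
      refine ⟨u', ?_, rfl⟩
      simp only [Set.mem_preimage, Set.mem_singleton_iff] at hu ⊢
      rw [← Scheme.Hom.comp_apply, sq.w, Scheme.Hom.comp_apply] at hu
      exact j.injective hu
    · rintro ⟨u', hu', rfl⟩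
      simp only [Set.mem_preimage, Set.mem_singleton_iff] at hu' ⊢
      rw [← Scheme.Hom.comp_apply, sq.w, Scheme.Hom.comp_apply, hu']
  rw [e]
  exact hd.image p1.isClosedEmbedding.isInducing

theorem locP_lqf_of_thickening {X B B' X' : Sp S}
    (f : X ⟶ B) (g : B' ⟶ B) (hg : RepWith @IsClosedImmersion g)
    (hsurj : Function.Surjective (Points.map g))
    (fst : X' ⟶ X) (snd : X' ⟶ B') (hX' : IsPullback fst snd f g)
    (hsndP : LocP (@LocallyQuasiFinite ⊓ @LocallyOfFiniteType) snd)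
    (hlft : LocP @LocallyOfFiniteType f) :
    LocP (@LocallyQuasiFinite ⊓ @LocallyOfFiniteType) f := by
  intro U V a b h hae hbe comm
  obtain ⟨U', V', p1, j, h', a', b', ha'e, hb'e, hc, hbg, sq, hj1, hj2⟩ :=
    exists_chart_of_thickening f g hg hsurj fst snd hX' a b h hae hbe comm
  have hP' := hsndP a' b' h' ha'e hb'e hc
  haveI := hj1
  haveI := hj2
  haveI : LocallyQuasiFinite h'.left := hP'.1
  haveI : LocallyOfFiniteType h.left := hlft a b h hae hbe comm
  exact ⟨lqf_of_thickening h.left j.left p1.left h'.left sq, inferInstance⟩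

theorem thick_le_closedImmersion : (thick.{u}) ≤ @IsClosedImmersion := fun _ _ _ hi => hi.1

theorem thickening_mor_cartesian_lft_local_iff {X X' Y Y' : AlgSp.Space S} (i : X ⟶ X')
    (j : Y ⟶ Y') (f : X ⟶ Y) (f' : X' ⟶ Y')
    (hi : AlgSp.IsThickMor i.hom)
    (hj : AlgSp.IsThickMor j.hom) (w : i ≫ f' = f ≫ j)
    (hcart : IsPullback i.hom f.hom f'.hom j.hom)
    (hft : AlgSp.LocP @LocallyOfFiniteType f.hom) (hft' : AlgSp.LocP @LocallyOfFiniteType f'.hom) :
    (AlgSp.LocP (@LocallyQuasiFinite ⊓ @LocallyOfFiniteType) f.hom ↔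
      AlgSp.LocP (@LocallyQuasiFinite ⊓ @LocallyOfFiniteType) f'.hom) ∧
    (AlgSp.LocP (@LocallyOfFiniteType ⊓ @FormallyUnramified) f.hom ↔
      AlgSp.LocP (@LocallyOfFiniteType ⊓ @FormallyUnramified) f'.hom) := by
  have hjc : RepWith @IsClosedImmersion j.hom := repWith_mono thick_le_closedImmersion hj
  have hjs : Function.Surjective (Points.map j.hom) :=
    (Groth.Agent.Lib.AlgSpThick_helper7.isHomeomorph_map_of_isThickMor j.hom hj).surjective
  refine ⟨⟨fun h => ?_, fun h => ?_⟩, ⟨fun h => ?_, fun h => ?_⟩⟩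
  · exact locP_lqf_of_thickening f'.hom j.hom hjc hjs i.hom f.hom hcart h hft'
  · exact locP_baseChange etLocal_locallyQuasiFinite X'.property Y'.property Y.property f'.hom
      j.hom i.hom f.hom hcart h
  · exact locP_unram_of_thickening' f'.hom j.hom hjc hjs i.hom f.hom hcart h (Or.inl hft')
  · exact locP_baseChange etLocal_unramified X'.property Y'.property Y.property f'.hom
      j.hom i.hom f.hom hcart h

end Groth.Agent.Lib.AlgSpUnramLocal
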