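import Groth.Agent.Lib.AlgSpLocP4_helper7

/-!
# `LocP` and properness: tests on affine base changes (helper7)
-/

set_option autoImplicit false
universe u
open CategoryTheory CategoryTheory.Limits AlgebraicGeometry Opposite MorphismProperty
open AlgSp Groth.Agent.Lib.AlgSpQC2_helper7 Groth.Agent.Lib.AlgSpPoints_helper7
  Groth.Agent.Lib.AlgSpQC_helper7 Groth.Agent.Lib.AlgSpDiag_helper7 Groth.Agent.Lib.AlgSpTop_helper7
  Groth.Agent.Lib.AlgSpPullback_helper7 Groth.Agent.Lib.AlgSpSep_helper7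
  Groth.Agent.Lib.AlgSpLocP_helper7 Groth.Agent.Lib.AlgSpUniv_helper7
  Groth.Agent.Lib.AlgSpFpqc_helper7 Groth.Agent.Lib.AlgSpFpqc2_helper7
  Groth.Agent.Lib.AlgSpDescent_helper7 Groth.Agent.Lib.AlgSpEtale_helper7
  Groth.Agent.Lib.AlgSpLocP2_helper7 Groth.Agent.Lib.AlgSpEpi_helper7
  Groth.Agent.Lib.SchSrcLocal_helper7 Groth.Agent.Lib.AlgSpLocP4_helper7

namespace Groth.Agent.Lib.AlgSpLocP5_helper7

variable {S : Scheme.{u}}

/-- `LocP P` can be checked after base change to affine schemes, for `P` Zariski local on the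
target. -/
theorem locP_of_forall_affine (P : MorphismProperty Scheme.{u}) [IsZariskiLocalAtTarget P]
    {X Y : Sp S} (f : X ⟶ Y)
    (h : ∀ (Z : Over S), IsAffine Z.left → ∀ (g : (yon S).obj Z ⟶ Y) (Q : Sp S)
        (fst : Q ⟶ X) (snd : Q ⟶ (yon S).obj Z), IsPullback fst snd f g → LocP P snd) :
    LocP P f := by
  intro U V a b k hae hbe comm
  rw [IsZariskiLocalAtTarget.iff_of_openCover (P := P) V.left.affineCover]
  intro i
  let ι := V.left.affineCover.f i
  let Z : Over S := Over.mk (ι ≫ V.hom)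
  let j : Z ⟶ V := Over.homMk ι rfl
  let Ui : Over S := Over.mk (pullback.fst k.left ι ≫ U.hom)
  let jU : Ui ⟶ U := Over.homMk (pullback.fst k.left ι) rfl
  let ki : Ui ⟶ Z := Over.homMk (pullback.snd k.left ι) (by
    show pullback.snd k.left ι ≫ ι ≫ V.hom = pullback.fst k.left ι ≫ U.hom
    rw [← Category.assoc, ← pullback.condition, Category.assoc, Over.w k])
  have hjk : ki ≫ j = jU ≫ k := by
    ext
    exact pullback.condition.symm
  have hZ : IsAffine Z.left := inferInstanceAs (IsAffine (V.left.affineCover.X i))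
  have sq := IsPullback.of_hasPullback f ((yon S).map j ≫ b)
  have hL := h Z hZ _ _ _ _ sq
  let ai : (yon S).obj Ui ⟶ pullback f ((yon S).map j ≫ b) :=
    pullback.lift ((yon S).map jU ≫ a) ((yon S).map ki) (by
      rw [Category.assoc, comm, ← Category.assoc, ← Functor.map_comp, ← hjk, Functor.map_comp,
        Category.assoc])
  have hai1 : ai ≫ pullback.fst f _ = (yon S).map jU ≫ a := pullback.lift_fst _ _ _
  have hai2 : ai ≫ pullback.snd f _ = (yon S).map ki := pullback.lift_snd _ _ _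
  have hje : Etale j.left := inferInstanceAs (Etale ι)
  have hjUe : Etale jU.left := inferInstanceAs (Etale (pullback.fst k.left ι))
  have hfst : RepWith @Etale (pullback.fst f ((yon S).map j ≫ b)) :=
    repWith_fst_of_isPullback _ sq (repWith_comp _ ((repWith_yon_map_iff _ _).2 hje) hbe)
  have haie : RepWith @Etale ai := by
    refine repWith_etale_of_comp ai _ ?_ hfst
    rw [hai1]
    exact repWith_comp _ ((repWith_yon_map_iff _ _).2 hjUe) hae
  exact hL ai (𝟙 _) ki haie (repWith_id _ Z) (by rw [hai2, Category.comp_id])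

theorem isProperMor_of_forall_affine {X Y : Sp S} (hX : IsAlgSpace X) (hY : IsAlgSpace Y)
    (f : X ⟶ Y)
    (h : ∀ (Z : Over S), IsAffine Z.left → ∀ (g : (yon S).obj Z ⟶ Y) (P : Sp S) (fst : P ⟶ X)
        (snd : P ⟶ (yon S).obj Z), IsPullback fst snd f g → IsProperMor snd) :
    IsProperMor f := by
  refine ⟨?_, ⟨?_, ?_⟩, ?_⟩
  · refine repWith_diagonal_of_forall_affine _ f (diagonal_properties hX f).1.rep ?_
    intro T hT g
    exact ⟨_, _, _, IsPullback.of_hasPullback f g, (h T hT g _ _ _ (IsPullback.of_hasPullback f g)).1⟩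
  · exact locP_of_forall_affine _ f fun Z hZ g Q fst snd sq => (h Z hZ g Q fst snd sq).2.1.1
  · refine isQuasiCompactMor_of_forall_affine hX hY.diag f fun Z hZ g Q fst snd sq => ?_
    have : CompactSpace ↥Z.left := inferInstance
    exact (h Z hZ g Q fst snd sq).2.1.2 (IsAlgSpace.yon_obj Z) (isQuasiCompactSp_yon Z) (𝟙 _)
      (𝟙 _) snd (IsPullback.of_horiz_isIso ⟨by simp⟩)
  · refine isUnivClosedMor_of_forall_affine f fun Z hZ g Q fst snd sq => ?_
    exact (h Z hZ g Q fst snd sq).2.2 (IsAlgSpace.yon_obj Z) (𝟙 _) (𝟙 _) snd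
      (IsPullback.of_horiz_isIso ⟨by simp⟩)

end Groth.Agent.Lib.AlgSpLocP5_helper7
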