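import Mathlib
import Groth.Agent.Lib.AlgSpFinTfae_helper6
import Groth.Agent.Lib.AlgSpThickCI_helper7
import Groth.Agent.Lib.AlgSpThick_helper7
import Groth.Agent.S10587
import Groth.Agent.S10589
import Groth.Agent.S10593
import Groth.Agent.S10649

/-!
# Global properties across cartesian morphisms of thickenings, locally of finite type (helper6)
-/

set_option autoImplicit false
universe u
open CategoryTheory CategoryTheory.Limits AlgebraicGeometry Opposite TopologicalSpace

namespace Groth.Agent.Lib.AlgSpThickGlobalH6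

open AlgSp Groth.Agent.Lib.AlgSpPoints_helper7 Groth.Agent.Lib.AlgSpOpenSub_helper7
  Groth.Agent.Lib.AlgSpPullback_helper7 Groth.Agent.Lib.AlgSpBasic_helper7
  Groth.Agent.Lib.AlgSpProper_helper7 Groth.Agent.Lib.AlgSpOpen_helper7
  Groth.Agent.Lib.AlgSpQC_helper7 Groth.Agent.Lib.AlgSpEmbed_helper6
  Groth.Agent.Lib.AlgSpThick_helper7

variable {S : Scheme.{u}}

/-- A representable immersion with closed image on points is a closed immersion. -/
theorem repWith_isClosedImmersion_of_immersion_closed_range {F G : Sp S} (g : F ⟶ G)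
    (hg : RepWith @IsImmersion g) (hcl : IsClosed (Set.range (Points.map g))) :
    RepWith @IsClosedImmersion g := by
  refine ⟨hg.rep, fun T V τ fst snd sq => ?_⟩
  have h1 := hg.property τ fst snd sq
  haveI : IsImmersion ((Over.forget S).map snd) := h1
  have hr : Set.range snd.left = Points.ofPt τ ⁻¹' Set.range (Points.map g) := by
    ext t
    constructor
    · rintro ⟨v, rfl⟩
      refine ⟨Points.ofPt fst v, ?_⟩
      rw [Points.map_ofPt, sq.w, ofPt_comp]
    · rintro ⟨z, hz⟩
      obtain ⟨v, -, hv⟩ := exists_of_isPullback_chart sq z t hz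
      exact ⟨v, hv⟩
  have hcl' : IsClosed (Set.range snd.left) := by
    rw [hr]
    exact hcl.preimage (Points.continuous_ofPt τ)
  exact IsClosedImmersion.of_isPreimmersion _ hcl'

section

variable {X X' Y Y' : Space S} (i : X ⟶ X') (j : Y ⟶ Y') (f : X ⟶ Y) (f' : X' ⟶ Y')

theorem proper_iff (hi : IsThickMor i.hom) (hj : IsThickMor j.hom) (w : i ≫ f' = f ≫ j)
    (hft : LocP @LocallyOfFiniteType f.hom) (hft' : LocP @LocallyOfFiniteType f'.hom) :
    IsProperMor f.hom ↔ IsProperMor f'.hom := by
  obtain ⟨-, hqc, huc, -, -⟩ := Groth.Agent.S10587.result i j f f' hi hj w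
  obtain ⟨hsep, -⟩ := Groth.Agent.S10589.result i j f f' hi hj w
  constructor
  · rintro ⟨h1, ⟨-, h2⟩, h3⟩
    exact ⟨hsep.1 h1, ⟨hft', hqc.1 h2⟩, huc.1 h3⟩
  · rintro ⟨h1, ⟨-, h2⟩, h3⟩
    exact ⟨hsep.2 h1, ⟨hft, hqc.2 h2⟩, huc.2 h3⟩

theorem finite_iff (hi : IsThickMor i.hom) (hj : IsThickMor j.hom) (w : i ≫ f' = f ≫ j)
    (hcart : IsPullback i.hom f.hom f'.hom j.hom)
    (hft : LocP @LocallyOfFiniteType f.hom) (hft' : LocP @LocallyOfFiniteType f'.hom) :
    IsFiniteMor f.hom ↔ IsFiniteMor f'.hom := by
  have hp := proper_iff i j f f' hi hj w hft hft'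
  have hl := (Groth.Agent.S10593.result i j f f' hi hj w hcart hft hft').1
  have t1 := (Groth.Agent.S10649.result f).out 0 1
  have t2 := (Groth.Agent.S10649.result f').out 0 1
  rw [t1, t2, hp, hl]

theorem closedImmersion_iff (hi : IsThickMor i.hom) (hj : IsThickMor j.hom)
    (w : i ≫ f' = f ≫ j) (hcart : IsPullback i.hom f.hom f'.hom j.hom)
    (hft' : LocP @LocallyOfFiniteType f'.hom) :
    RepWith @IsClosedImmersion f.hom ↔ RepWith @IsClosedImmersion f'.hom := by
  constructor
  · intro hf
    have hqc : IsQuasiCompactMor f.hom :=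
      (isProperMor_of_repWith_isClosedImmersion f.hom hf).2.1.2
    have hqc' := (Groth.Agent.S10587.result i j f f' hi hj w).2.1.1 hqc
    exact Groth.Agent.Lib.AlgSpUnramLocal.closedImmersion_of_closedImmersion_baseChange_bijective
      S f' j (repWith_mono (fun _ _ _ h => h.1) hj)
      (isHomeomorph_map_of_isThickMor j.hom hj).bijective X.obj i.hom f.hom hcart hf
      (Or.inl ⟨hft', hqc'⟩)
  · intro hf'
    exact MorphismProperty.of_isPullback (P := RepWith @IsClosedImmersion) hcart hf'

theorem immersion_iff (hi : IsThickMor i.hom) (hj : IsThickMor j.hom)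
    (w : i ≫ f' = f ≫ j) (hcart : IsPullback i.hom f.hom f'.hom j.hom)
    (hft' : LocP @LocallyOfFiniteType f'.hom) :
    RepWith @IsImmersion f.hom ↔ RepWith @IsImmersion f'.hom := by
  constructor
  swap
  · intro hf'
    exact MorphismProperty.of_isPullback (P := RepWith @IsImmersion) hcart hf'
  intro hf
  have hjh := isHomeomorph_map_of_isThickMor j.hom hj
  have hih := isHomeomorph_map_of_isThickMor i.hom hi
  obtain ⟨-, hlc⟩ := isEmbedding_map_of_immersion Y.property f.hom hf
  obtain ⟨A, hAdef⟩ : ∃ A : Set (Points Y'.obj), A = Set.range (Points.map f'.hom) := ⟨_, rfl⟩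
  have hcomm : ∀ z, Points.map f'.hom (Points.map i.hom z) = Points.map j.hom (Points.map f.hom z) := by
    intro z
    rw [← Points.map_comp, ← Points.map_comp, hcart.w]
  have hA : A = hjh.homeomorph.symm ⁻¹' Set.range (Points.map f.hom) := by
    rw [hAdef]
    ext y'
    constructor
    · rintro ⟨x', rfl⟩
      obtain ⟨z, rfl⟩ := hih.surjective x'
      refine ⟨z, ?_⟩
      rw [hcomm]
      exact (hjh.homeomorph.symm_apply_apply _).symm
    · rintro ⟨z, hz⟩
      refine ⟨Points.map i.hom z, ?_⟩
      rw [hcomm, hz]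
      exact hjh.homeomorph.apply_symm_apply _
  have hAlc : IsLocallyClosed A := by
    rw [hA]
    exact hlc.preimage hjh.homeomorph.symm.continuous
  have hWo : IsOpen (coborder A) := isLocallyClosed_iff_isOpen_coborder.1 hAlc
  let U' : Space S := ⟨openSub Y'.obj (coborder A), isAlgSpace_openSub Y'.property hWo⟩
  let jU' : U' ⟶ Y' := ObjectProperty.homMk (openSubι Y'.obj (coborder A))
  have hjU' : RepWith @IsOpenImmersion jU'.hom := repWith_isOpenImmersion_openSubι hWo
  have hrU' : Set.range (Points.map jU'.hom) = coborder A := range_map_openSubι Y'.property hWo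
  haveI : Mono jU'.hom := mono_of_openImmersion _ hjU'
  obtain ⟨g', hg'⟩ := (factors_iff_of_openImmersion jU'.hom hjU' f'.hom).2
    (by rw [hrU', ← hAdef]; exact subset_coborder)
  have sqU := IsPullback.of_hasPullback j.hom jU'.hom
  have hU : IsAlgSpace (pullback j.hom jU'.hom) :=
    isAlgSpace_of_isPullback Y'.property.diag Y.property U'.property sqU
  let U : Space S := ⟨pullback j.hom jU'.hom, hU⟩
  let pU : U ⟶ Y := ObjectProperty.homMk (pullback.fst j.hom jU'.hom)
  let jU : U ⟶ U' := ObjectProperty.homMk (pullback.snd j.hom jU'.hom)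
  have hjU : IsThickMor jU.hom := isThickMor_snd_of_isPullback sqU hj
  have hpU : RepWith @IsOpenImmersion pU.hom := repWith_fst_of_isPullback _ sqU hjU'
  haveI : Mono pU.hom := mono_of_openImmersion _ hpU
  let g₀ : X.obj ⟶ U.obj := pullback.lift f.hom (i.hom ≫ g')
    (by rw [Category.assoc, hg']; exact hcart.w.symm)
  have hg1 : g₀ ≫ pU.hom = f.hom := pullback.lift_fst _ _ _
  have hg2 : g₀ ≫ jU.hom = i.hom ≫ g' := pullback.lift_snd _ _ _
  have sqX : IsPullback i.hom g₀ g' jU.hom := by
    have big : IsPullback i.hom (g₀ ≫ pU.hom) (g' ≫ jU'.hom) j.hom := by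
      rw [hg1, hg']
      exact hcart
    exact IsPullback.of_bot big hg2.symm sqU.flip
  have hg₀i : RepWith @IsImmersion g₀ :=
    repWith_of_comp_mono @IsImmersion g₀ pU.hom (by rw [hg1]; exact hf)
  have hjUh := isHomeomorph_map_of_isThickMor jU.hom hjU
  have hrange : Set.range (Points.map g₀) =
      Points.map (jU.hom ≫ jU'.hom) ⁻¹' closure A := by
    ext p
    constructor
    · rintro ⟨z, rfl⟩
      apply subset_closure
      rw [hAdef]
      refine ⟨Points.map i.hom z, ?_⟩
      rw [← Points.map_comp, ← Points.map_comp, ← Category.assoc, hg2, Category.assoc, hg']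
    · intro hp
      have hp' : Points.map (jU.hom ≫ jU'.hom) p ∈ closure A := hp
      have h1 : Points.map (jU.hom ≫ jU'.hom) p ∈ coborder A := by
        rw [← hrU', Points.map_comp]
        exact ⟨_, rfl⟩
      have h2 : Points.map (jU.hom ≫ jU'.hom) p ∈ A := by
        rw [← coborder_inter_closure (s := A)]
        exact ⟨h1, hp'⟩
      rw [hAdef] at h2
      obtain ⟨x', hx'⟩ := h2
      obtain ⟨z, rfl⟩ := hih.surjective x'
      refine ⟨z, ?_⟩
      apply hjUh.injective
      apply map_injective_of_mono jU'.hom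
      rw [← Points.map_comp, ← Points.map_comp, ← Points.map_comp, ← Category.assoc, hg2,
        Category.assoc, hg', ← hx', ← Points.map_comp]
  have hg₀c : RepWith @IsClosedImmersion g₀ := by
    apply repWith_isClosedImmersion_of_immersion_closed_range g₀ hg₀i
    rw [hrange]
    exact isClosed_closure.preimage (Points.continuous_map _)
  let g : X ⟶ U := ObjectProperty.homMk g₀
  let g'' : X' ⟶ U' := ObjectProperty.homMk g'
  have w' : i ≫ g'' = g ≫ jU := by
    apply ObjectProperty.hom_ext
    exact hg2.symm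
  have hg'lft : LocP @LocallyOfFiniteType g''.hom := by
    intro U₀ V₀ a b h hae hbe comm
    refine hft' a (b ≫ jU'.hom) h hae
      (repWith_comp _ hbe (repWith_mono (fun _ _ k (hk : IsOpenImmersion k) =>
        (inferInstance : Etale k)) hjU')) ?_
    rw [← hg', ← Category.assoc]
    show (a ≫ g') ≫ jU'.hom = _
    have comm' : a ≫ g' = (yon S).map h ≫ b := comm
    rw [comm', Category.assoc]
  have hg'c : RepWith @IsClosedImmersion g' :=
    (closedImmersion_iff i jU g g'' hi hjU w' sqX hg'lft).1 hg₀c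
  rw [← hg']
  exact repWith_comp _
    (repWith_mono (fun _ _ k (hk : IsClosedImmersion k) => (inferInstance : IsImmersion k)) hg'c)
    (repWith_mono (fun _ _ k (hk : IsOpenImmersion k) => (inferInstance : IsImmersion k)) hjU')

end

end Groth.Agent.Lib.AlgSpThickGlobalH6
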