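import Groth.Agent.Lib.AlgSpLargestOpen_helper7
import Groth.Agent.Lib.AffDesc5_helper7
import Groth.Agent.Lib.AlgSpFpqc3_helper7
import Mathlib.AlgebraicGeometry.Morphisms.Immersion

/-!
# Immersions are fppf local on the base (helper7)
-/

set_option autoImplicit false
universe u
open CategoryTheory CategoryTheory.Limits AlgebraicGeometry Opposite TopologicalSpace

namespace Groth.Agent.Lib.ImmFppfH7

open AlgSp Groth.Agent.Lib.AlgSpPoints_helper7 Groth.Agent.Lib.AlgSpTop_helper7
  Groth.Agent.Lib.AlgSpPullback_helper7 Groth.Agent.Lib.AlgSpBasic_helper7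
  Groth.Agent.Lib.AlgSpOpen_helper7 Groth.Agent.Lib.AlgSpOpenSub_helper7
  Groth.Agent.Lib.AlgSpSmST_helper7 Groth.Agent.Lib.AlgSpLocP4_helper7
  Groth.Agent.Lib.AlgSpLocP10_helper7 Groth.Agent.Lib.AlgSpLocP7_helper7
  Groth.Agent.Lib.AlgSpEtale_helper7 Groth.Agent.Lib.AlgSpLocP3_helper7
  Groth.Agent.Lib.AlgSpLargestOpen_helper7 Groth.Agent.Lib.AlgSpFpqc3_helper7
  Groth.Agent.Lib.AffDescH7 Groth.Agent.Lib.AlgSpQC_helper7

variable {S : Scheme.{u}}

theorem localOnBaseQ_fppf_closedImmersion :
    LocalOnBaseQ (S := S) (fun _ _ f => LocP @Flat f ∧ LocP @LocallyOfFinitePresentation f)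
      (RepWith @IsClosedImmersion) := by
  intro ι Y Yi g hY hYi hcov X f hX Xi p q hXi sqs
  exact isLocalOnBase_fpqc_repWith_isClosedImmersion Yi g hY hYi
    (isFpqcCover_of_isFppfCover hY Yi g hYi hcov) f hX Xi p q hXi sqs

theorem isLocalOnBase_fppf_repWith_isImmersion :
    IsLocalOnBase (IsFppfCover (S := S)) (RepWith @IsImmersion) := by
  intro ι Y Yi g hY hYi hcov X f hX Xi p q hXi sqs
  constructor
  · intro hf i
    exact repWith_snd_of_isPullback @IsImmersion (sqs i) hf
  · intro hp
    let XS : Space S := ⟨X, hX⟩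
    let YS : Space S := ⟨Y, hY⟩
    let fS : XS ⟶ YS := ObjectProperty.homMk f
    obtain ⟨W, h1, -, h3, -⟩ :=
      exists_largest_open qClass_fppf localOnBaseQ_fppf_closedImmersion fS
    have hrange : Set.range (Points.map f) ⊆ (W : Set (Points Y)) := by
      rintro _ ⟨x, rfl⟩
      obtain ⟨i, y, hy⟩ := hcov.2 (Points.map f x)
      obtain ⟨xi, hxi1, hxi2⟩ := exists_of_isPullback (sqs i) x y hy.symm
      obtain ⟨U, a, hae, has⟩ := (hYi i).atlas
      obtain ⟨u, hu⟩ := ofPt_surjective a has (Points.map (p i) xi)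
      rw [Points.ofPt_eq_map_ofScheme] at hu
      have hpi := hp i
      have sqT : IsPullback (hpi.rep.fst a) ((yon S).map (hpi.rep.snd a)) (p i) a :=
        hpi.rep.isPullback a
      haveI himm : IsImmersion (hpi.rep.snd a).left := hpi.property_snd a
      obtain ⟨t', ht1, -⟩ := exists_of_isPullback sqT xi (Points.ofScheme U u) hu.symm
      let VU : U.left.Opens := (hpi.rep.snd a).left.coborderRange
      let V : Over S := Over.mk (VU.ι ≫ U.hom)
      let ι : V ⟶ U := Over.homMk VU.ι rfl
      let lift : hpi.rep.pullback a ⟶ V := Over.homMk (hpi.rep.snd a).left.liftCoborder (by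
        show (hpi.rep.snd a).left.liftCoborder ≫ VU.ι ≫ U.hom = _
        rw [← Category.assoc, Scheme.Hom.liftCoborder_ι, Over.w])
      have hlift : lift ≫ ι = hpi.rep.snd a := by
        ext : 1
        exact Scheme.Hom.liftCoborder_ι _
      have hcl : IsClosedImmersion lift.left :=
        inferInstanceAs (IsClosedImmersion (hpi.rep.snd a).left.liftCoborder)
      have hιo : IsOpenImmersion ι.left := inferInstanceAs (IsOpenImmersion VU.ι)
      have hιr : RepWith @IsOpenImmersion ((yon S).map ι) :=
        (repWith_yon_map_iff @IsOpenImmersion ι).2 hιo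
      haveI : Mono ((yon S).map ι) := mono_of_openImmersion _ hιr
      have sqA : IsPullback (𝟙 _) ((yon S).map lift) ((yon S).map lift ≫ (yon S).map ι)
          ((yon S).map ι) := isPullback_of_factor _ _
      have sqB : IsPullback (hpi.rep.fst a ≫ q i) ((yon S).map lift ≫ (yon S).map ι) f
          (a ≫ g i) := by
        rw [← Functor.map_comp, hlift]
        exact sqT.paste_horiz (sqs i)
      have sqC : IsPullback (hpi.rep.fst a ≫ q i) ((yon S).map lift) f
          ((yon S).map ι ≫ a ≫ g i) := by
        have := sqA.paste_horiz sqB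
        rwa [Category.id_comp] at this
      have hEt : IsEtaleMor a := fun _ φ hφ => repWith_comp @Etale hφ hae
      have hQa : LocP @Flat a ∧ LocP @LocallyOfFinitePresentation a :=
        ⟨locP_of_isEtaleMor _ (fun _ _ k _ => (inferInstance : Flat k)) a hEt,
          locP_of_isEtaleMor _ (fun _ _ k _ => (inferInstance : LocallyOfFinitePresentation k)) a
            hEt⟩
      have hQ1 := qClass_fppf.comp (IsAlgSpace.yon_obj U) (hYi i) hY a (g i) hQa (hcov.1 i)
      have hQ2 := qClass_fppf.comp (IsAlgSpace.yon_obj V) (IsAlgSpace.yon_obj U) hY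
        ((yon S).map ι) (a ≫ g i)
        (qClass_fppf.ofOpen (IsAlgSpace.yon_obj V) (IsAlgSpace.yon_obj U) _ hιr) hQ1
      have hsub := h3 ⟨(yon S).obj V, IsAlgSpace.yon_obj V⟩
        ⟨(yon S).obj (hpi.rep.pullback a), IsAlgSpace.yon_obj _⟩
        (ObjectProperty.homMk ((yon S).map ι ≫ a ≫ g i))
        (ObjectProperty.homMk (hpi.rep.fst a ≫ q i)) (ObjectProperty.homMk ((yon S).map lift))
        hQ2 sqC ((repWith_yon_map_iff @IsClosedImmersion lift).2 hcl)
      apply hsub
      refine ⟨Points.map ((yon S).map lift) t', ?_⟩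
      show Points.map ((yon S).map ι ≫ a ≫ g i) (Points.map ((yon S).map lift) t') = _
      rw [← Points.map_comp, ← sqC.w, Points.map_comp, Points.map_comp, ht1, hxi1]
    have hWo : IsOpen (W : Set (Points Y)) := W.2
    have hY' : IsAlgSpace (openSub Y (W : Set (Points Y))) := isAlgSpace_openSub hY hWo
    have hj : RepWith @IsOpenImmersion (openSubι Y (W : Set (Points Y))) :=
      repWith_isOpenImmersion_openSubι hWo
    have hrj : Set.range (Points.map (openSubι Y (W : Set (Points Y)))) = (W : Set (Points Y)) :=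
      range_map_openSubι hY hWo
    obtain ⟨f', hf'⟩ := (factors_iff_of_openImmersion _ hj f).2 (by rw [hrj]; exact hrange)
    haveI : Mono (openSubι Y (W : Set (Points Y))) := mono_of_openImmersion _ hj
    have sq1 : IsPullback (𝟙 X) f' f (openSubι Y (W : Set (Points Y))) := by
      have := isPullback_of_factor f' (openSubι Y (W : Set (Points Y)))
      rwa [hf'] at this
    have hcl : RepWith @IsClosedImmersion f' :=
      h1 ⟨openSub Y (W : Set (Points Y)), hY'⟩ XS (ObjectProperty.homMk (openSubι Y _)) (𝟙 XS)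
        (ObjectProperty.homMk f') hj hrj sq1
    rw [← hf']
    exact repWith_comp @IsImmersion
      (repWith_mono (fun _ _ k (hk : IsClosedImmersion k) => (inferInstance : IsImmersion k)) hcl)
      (repWith_mono (fun _ _ k (hk : IsOpenImmersion k) => (inferInstance : IsImmersion k)) hj)

end Groth.Agent.Lib.ImmFppfH7
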