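import Mathlib

set_option autoImplicit false
universe u
open CategoryTheory CategoryTheory.Limits AlgebraicGeometry

namespace Groth.Agent.Lib.MonoQC_helper7

/-- A morphism from a one-point integral affine scheme (e.g. the spectrum of a field) to `X`
whose image point lies in the image of a monomorphism `f : Y ⟶ X` lifts to `Y`. -/
theorem exists_lift_of_mono {X Y : Scheme.{u}} (f : Y ⟶ X) [Mono f] {T : Scheme.{u}}
    [Subsingleton T] [IsIntegral T] [IsAffine T]
    (g : T ⟶ X) (h : ∃ (y : Y) (z : T), f y = g z) :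
    ∃ l : T ⟶ Y, l ≫ f = g := by
  obtain ⟨y, z, hyz⟩ := h
  obtain ⟨t, ht1, ht2⟩ := Scheme.Pullback.exists_preimage_pullback y z hyz
  obtain ⟨i, w, hw⟩ := (pullback f g).affineCover.exists_eq t
  let e : (pullback f g).affineCover.X i ⟶ T :=
    (pullback f g).affineCover.f i ≫ pullback.snd f g
  have hfac : e ≫ g = (pullback f g).affineCover.f i ≫ pullback.fst f g ≫ f := by
    simp only [e, Category.assoc, pullback.condition]
  haveI : Mono e := mono_comp _ _
  haveI : Surjective e := ⟨fun z' => ⟨w, Subsingleton.elim _ _⟩⟩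
  haveI : Flat e := inferInstance
  haveI : QuasiCompact e := inferInstance
  haveI : IsIso e := Flat.isIso_of_surjective_of_mono e
  exact ⟨inv e ≫ (pullback f g).affineCover.f i ≫ pullback.fst f g, by
    rw [Category.assoc, Category.assoc, ← hfac, IsIso.inv_hom_id_assoc]⟩

theorem exists_lift_residueField {X Y : Scheme.{u}} (f : Y ⟶ X) [Mono f] {Z : Scheme.{u}}
    (s : Z ⟶ X) (p : Z) (h : s p ∈ Set.range f) :
    ∃ l : Spec (Z.residueField p) ⟶ Y, l ≫ f = Z.fromSpecResidueField p ≫ s := by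
  obtain ⟨y, hy⟩ := h
  refine exists_lift_of_mono f (Z.fromSpecResidueField p ≫ s) ⟨y, default, ?_⟩
  rw [Scheme.Hom.comp_apply, Scheme.fromSpecResidueField_apply]
  exact hy

section affine

variable {R : CommRingCat.{u}} {Y : Scheme.{u}} (f : Y ⟶ Spec R)

private lemma mem_zl {q : PrimeSpectrum R} {J : Ideal R} :
    q ∈ PrimeSpectrum.zeroLocus (J : Set R) ↔ J ≤ q.asIdeal := by
  rw [PrimeSpectrum.mem_zeroLocus, SetLike.coe_subset_coe]

private lemma step (I : Ideal R) (x : R) (K : Set Y) (hK : IsCompact K)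
    (hKsub : K ⊆ f ⁻¹' PrimeSpectrum.zeroLocus (I : Set R))
    (hcomp : IsCompact (f ⁻¹' PrimeSpectrum.zeroLocus ((I ⊔ Ideal.span {x} : Ideal R) : Set R)))
    (hcov : ∀ z : Y, I ≤ (f z).asIdeal → x ∉ (f z).asIdeal → z ∈ K) :
    IsCompact (f ⁻¹' PrimeSpectrum.zeroLocus (I : Set R)) := by
  have : f ⁻¹' PrimeSpectrum.zeroLocus (I : Set R) =
      K ∪ f ⁻¹' PrimeSpectrum.zeroLocus ((I ⊔ Ideal.span {x} : Ideal R) : Set R) := by
    apply Set.Subset.antisymm
    · intro z hz
      have hz' : I ≤ (f z).asIdeal := mem_zl.mp hz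
      by_cases hx : x ∈ (f z).asIdeal
      · right
        exact mem_zl.mpr (sup_le hz' (Ideal.span_le.mpr (Set.singleton_subset_iff.mpr hx)))
      · left
        exact hcov z hz' hx
    · apply Set.union_subset hKsub
      apply Set.preimage_mono
      apply PrimeSpectrum.zeroLocus_anti_mono
      exact SetLike.coe_subset_coe.mpr le_sup_left
  rw [this]
  exact hK.union hcomp

private lemma lt_sup_span {I : Ideal R} {x : R} (hx : x ∉ I) : I < I ⊔ Ideal.span {x} :=
  lt_of_le_of_ne le_sup_left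
    (fun h => hx (h ▸ (Ideal.mem_sup_right (Ideal.mem_span_singleton_self x))))

private lemma exists_basic {I : Ideal R} (W : Set ↥(Spec (CommRingCat.of (R ⧸ I)))) (hW : IsOpen W)
    (hne : W.Nonempty) :
    ∃ a : R, a ∉ I ∧ ∀ q : ↥(Spec (CommRingCat.of (R ⧸ I))),
      Ideal.Quotient.mk I a ∉ q.asIdeal → q ∈ W := by
  obtain ⟨q0, hq0⟩ := hne
  obtain ⟨_, ⟨b, rfl⟩, hq0b, hbW⟩ :=
    (PrimeSpectrum.isTopologicalBasis_basic_opens (R := R ⧸ I)).exists_subset_of_mem_open hq0 hW
  obtain ⟨a, rfl⟩ := Ideal.Quotient.mk_surjective b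
  refine ⟨a, fun ha => ?_, fun q hq => hbW hq⟩
  apply hq0b
  show Ideal.Quotient.mk I a ∈ q0.asIdeal
  rw [Ideal.Quotient.eq_zero_iff_mem.mpr ha]
  exact zero_mem _

theorem compactSpace_of_mono [IsNoetherianRing R] [Mono f]
    (hc : ∀ (A : Type u) [CommRing A] [IsDomain A] (s : Spec (CommRingCat.of A) ⟶ Spec R)
        (D : Set ↥(Spec (CommRingCat.of A))),
        Dense D →
        (∀ p ∈ D, ∃ l : Spec ((Spec (CommRingCat.of A)).residueField p) ⟶ Y,
            l ≫ f = (Spec (CommRingCat.of A)).fromSpecResidueField p ≫ s) →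
          ∃ U : (Spec (CommRingCat.of A)).Opens, (U : Set ↥(Spec (CommRingCat.of A))).Nonempty ∧
            ∃ l : (U : Scheme.{u}) ⟶ Y, l ≫ f = U.ι ≫ s) :
    CompactSpace Y := by
  have key : ∀ I : Ideal R, IsCompact (f ⁻¹' PrimeSpectrum.zeroLocus (I : Set R)) := by
    intro I
    refine WellFoundedGT.induction
      (motive := fun I : Ideal R => IsCompact (f ⁻¹' PrimeSpectrum.zeroLocus (I : Set R))) I ?_
    intro I ih
    by_cases htop : I = ⊤
    · subst htop
      have : f ⁻¹' PrimeSpectrum.zeroLocus ((⊤ : Ideal R) : Set R) = ∅ := by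
        ext z
        simp only [Set.mem_preimage, Set.mem_empty_iff_false, iff_false]
        intro hz
        exact (f z).isPrime.ne_top (top_le_iff.mp (mem_zl.mp hz))
      rw [this]
      exact isCompact_empty
    by_cases hp : I.IsPrime
    swap
    · obtain (h | ⟨x, hx, y, hy, hxy⟩) := Ideal.not_isPrime_iff.mp hp
      · exact absurd h htop
      refine step f I x _ (ih _ (lt_sup_span hy)) ?_ (ih _ (lt_sup_span hx)) ?_
      · apply Set.preimage_mono
        apply PrimeSpectrum.zeroLocus_anti_mono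
        exact SetLike.coe_subset_coe.mpr le_sup_left
      · intro z hz hxz
        have hxy' : x * y ∈ (f z).asIdeal := hz hxy
        have hyz : y ∈ (f z).asIdeal := ((f z).isPrime.mem_or_mem hxy').resolve_left hxz
        exact mem_zl.mpr (sup_le hz (Ideal.span_le.mpr (Set.singleton_subset_iff.mpr hyz)))
    -- prime case
    let φ : R →+* R ⧸ I := Ideal.Quotient.mk I
    let s : Spec (CommRingCat.of (R ⧸ I)) ⟶ Spec R := Spec.map (CommRingCat.ofHom φ)
    have hs_mem : ∀ (q : Spec (CommRingCat.of (R ⧸ I))) (a : R),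
        a ∈ (s q).asIdeal ↔ φ a ∈ q.asIdeal := fun _ _ => Iff.rfl
    have hs_le : ∀ q : Spec (CommRingCat.of (R ⧸ I)), I ≤ (s q).asIdeal := by
      intro q i hi
      rw [hs_mem]
      show Ideal.Quotient.mk I i ∈ q.asIdeal
      rw [Ideal.Quotient.eq_zero_iff_mem.mpr hi]
      exact zero_mem _
    have hs_surj : ∀ z : Y, I ≤ (f z).asIdeal → ∃ q : Spec (CommRingCat.of (R ⧸ I)), s q = f z := by
      intro z hz
      have : f z ∈ Set.range (PrimeSpectrum.comap φ) := by
        rw [range_comap_of_surjective _ φ Ideal.Quotient.mk_surjective, Ideal.mk_ker]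
        exact mem_zl.mpr hz
      obtain ⟨q, hq⟩ := this
      exact ⟨q, hq⟩
    let D : Set ↥(Spec (CommRingCat.of (R ⧸ I))) := {q | s q ∈ Set.range f}
    obtain ⟨a, haI, K, hKc, hKsub, hcov⟩ : ∃ a ∉ I, ∃ K : Set Y, IsCompact K ∧
        K ⊆ f ⁻¹' PrimeSpectrum.zeroLocus (I : Set R) ∧
        ∀ z : Y, I ≤ (f z).asIdeal → a ∉ (f z).asIdeal → z ∈ K := by
      by_cases hD : Dense D
      · obtain ⟨U, hUne, l, hl⟩ := hc (R ⧸ I) s D hD
          (fun p hp => exists_lift_residueField f s p hp)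
        obtain ⟨a, haI, haU⟩ := exists_basic (I := I) _ U.isOpen hUne
        have hUc : IsCompact (Set.univ : Set ↥(U : Scheme.{u})) := by
          rw [U.ι.isOpenEmbedding.isInducing.isCompact_iff, Set.image_univ, Scheme.Opens.range_ι]
          exact TopologicalSpace.NoetherianSpace.isCompact _
        have hfl : ∀ u : ↥(U : Scheme.{u}), f (l u) = s (U.ι u) := by
          intro u
          rw [← Scheme.Hom.comp_apply, hl, Scheme.Hom.comp_apply]
        refine ⟨a, haI, l '' Set.univ, hUc.image l.continuous, ?_, ?_⟩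
        · rintro _ ⟨u, -, rfl⟩
          show f (l u) ∈ PrimeSpectrum.zeroLocus (I : Set R)
          rw [hfl]
          exact mem_zl.mpr (hs_le _)
        · intro z hz haz
          obtain ⟨q, hq⟩ := hs_surj z hz
          have hqU : q ∈ (U : Set _) := haU q (by rw [← hs_mem, hq]; exact haz)
          have : q ∈ Set.range U.ι := by rw [Scheme.Opens.range_ι]; exact hqU
          obtain ⟨u, hu⟩ := this
          refine ⟨u, Set.mem_univ _, ?_⟩
          apply f.injective
          rw [hfl, hu, hq]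
      · obtain ⟨V, hVo, hVne, hVD⟩ : ∃ V : Set ↥(Spec (CommRingCat.of (R ⧸ I))),
            IsOpen V ∧ V.Nonempty ∧ ¬ (V ∩ D).Nonempty := by
          by_contra hcon
          push Not at hcon
          exact hD (dense_iff_inter_open.mpr hcon)
        obtain ⟨a, haI, haV⟩ := exists_basic (I := I) V hVo hVne
        refine ⟨a, haI, ∅, isCompact_empty, Set.empty_subset _, ?_⟩
        intro z hz haz
        exfalso
        obtain ⟨q, hq⟩ := hs_surj z hz
        have hqV : q ∈ V := haV q (by rw [← hs_mem, hq]; exact haz)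
        exact hVD ⟨q, hqV, ⟨z, hq.symm⟩⟩
    exact step f I a K hKc hKsub (ih _ (lt_sup_span haI)) hcov
  have h0 := key ⊥
  have h1 : f ⁻¹' PrimeSpectrum.zeroLocus (((⊥ : Ideal R)) : Set R) = Set.univ := by
    ext z
    simp only [Set.mem_preimage, Set.mem_univ, iff_true]
    exact mem_zl.mpr bot_le
  rw [h1] at h0
  exact ⟨h0⟩

end affine

theorem aux {X Y : Scheme.{u}} [IsLocallyNoetherian X]
    (f : Y ⟶ X) [Mono f]
    (hc : ∀ (A : Type u) [CommRing A] [IsDomain A] (s : Spec (CommRingCat.of A) ⟶ X)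
        (D : Set ↥(Spec (CommRingCat.of A))),
        Dense D →
        (∀ p ∈ D, ∃ l : Spec ((Spec (CommRingCat.of A)).residueField p) ⟶ Y,
            l ≫ f = (Spec (CommRingCat.of A)).fromSpecResidueField p ≫ s) →
          ∃ U : (Spec (CommRingCat.of A)).Opens, (U : Set ↥(Spec (CommRingCat.of A))).Nonempty ∧
            ∃ l : (U : Scheme.{u}) ⟶ Y, l ≫ f = U.ι ≫ s)
    (R : CommRingCat.{u}) (j : Spec R ⟶ X) [IsOpenImmersion j] :
    CompactSpace ↥(pullback f j) := by
  haveI : IsLocallyNoetherian (Spec R) := isLocallyNoetherian_of_isOpenImmersion j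
  haveI : IsNoetherianRing R := isLocallyNoetherian_Spec.mp inferInstance
  apply compactSpace_of_mono (pullback.snd f j)
  intro A _ _ s D hD hl
  obtain ⟨U, hU, l, hl'⟩ := hc A (s ≫ j) D hD (fun p hp => by
    obtain ⟨l, hl⟩ := hl p hp
    exact ⟨l ≫ pullback.fst f j, by
      rw [Category.assoc, pullback.condition, ← Category.assoc, hl, Category.assoc]⟩)
  have hcond : l ≫ f = (U.ι ≫ s) ≫ j := by rw [hl', Category.assoc]
  exact ⟨U, hU, pullback.lift l (U.ι ≫ s) hcond, pullback.lift_snd _ _ _⟩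

theorem main {X Y : Scheme.{u}} [IsLocallyNoetherian X]
    (f : Y ⟶ X) [Mono f]
    (hc : ∀ (A : Type u) [CommRing A] [IsDomain A] (s : Spec (CommRingCat.of A) ⟶ X)
        (D : Set ↥(Spec (CommRingCat.of A))),
        Dense D →
        (∀ p ∈ D, ∃ l : Spec ((Spec (CommRingCat.of A)).residueField p) ⟶ Y,
            l ≫ f = (Spec (CommRingCat.of A)).fromSpecResidueField p ≫ s) →
          ∃ U : (Spec (CommRingCat.of A)).Opens, (U : Set ↥(Spec (CommRingCat.of A))).Nonempty ∧
            ∃ l : (U : Scheme.{u}) ⟶ Y, l ≫ f = U.ι ≫ s) :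
    QuasiCompact f := by
  rw [HasAffineProperty.iff_of_openCover (P := @QuasiCompact) X.affineCover]
  intro i
  haveI hj : IsOpenImmersion (X.affineCover.f i) := inferInstance
  exact @aux X Y _ f _ hc _ (X.affineCover.f i) hj

end Groth.Agent.Lib.MonoQC_helper7
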