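import Mathlib

/-!
# A Noetherian local domain is dominated by a one-dimensional one (helper6), part 1

`exists_finiteType_height_one`: for a Noetherian local domain `R` (not a field) with fraction field
`K` there are a finitely generated `R`-subalgebra `S ⊆ K` and a height-one prime `q` of `S` lying
over the maximal ideal of `R`.
-/

set_option autoImplicit false
universe u

namespace Groth.Agent.Lib.DomDimOne

open IsLocalRing

theorem exists_finiteType_height_one (R : Type u) [CommRing R] [IsDomain R] [IsNoetherianRing R]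
    [IsLocalRing R] (hR : ¬ IsField R) (K : Type u) [Field K] [Algebra R K] [IsFractionRing R K] :
    ∃ (S : Subalgebra R K) (q : Ideal S), q.IsPrime ∧ S.FG ∧ q.height = 1 ∧
      q.comap (algebraMap R S) = maximalIdeal R := by
  classical
  obtain ⟨V, hV, hloc⟩ := IsLocalRing.exists_factor_valuationRing (algebraMap R K)
  have hinj : Function.Injective (algebraMap R K) := IsFractionRing.injective R K
  have hvm : ∀ a ∈ maximalIdeal R, V.valuation (algebraMap R K a) < 1 := by
    intro a ha
    have hnu : ¬ IsUnit (⟨algebraMap R K a, hV a⟩ : V) := by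
      intro h
      exact ((IsLocalRing.mem_maximalIdeal a).1 ha) (hloc.map_nonunit a h)
    have hmem : (⟨algebraMap R K a, hV a⟩ : V) ∈ maximalIdeal V :=
      (IsLocalRing.mem_maximalIdeal (R := V) _).2 hnu
    exact (V.valuation_lt_one_iff _).1 hmem
  obtain ⟨s, hs⟩ : (maximalIdeal R).FG := IsNoetherian.noetherian _
  have hsm : ∀ y ∈ s, y ∈ maximalIdeal R := fun y hy => hs ▸ Ideal.subset_span hy
  have hsne : ∃ y ∈ s, y ≠ 0 := by
    by_contra h
    push_neg at h
    apply hR
    rw [IsLocalRing.isField_iff_maximalIdeal_eq, ← hs, Ideal.span_eq_bot]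
    exact fun y hy => h y hy
  obtain ⟨y₀, hy₀s, hy₀0⟩ := hsne
  obtain ⟨x, hxs, hxmax⟩ := Finset.exists_max_image s
    (fun y => V.valuation (algebraMap R K y)) ⟨y₀, hy₀s⟩
  have hvx0 : V.valuation (algebraMap R K x) ≠ 0 := by
    intro h0
    have h1 := hxmax y₀ hy₀s
    simp only [h0, le_zero_iff] at h1
    rw [map_eq_zero, map_eq_zero_iff _ hinj] at h1
    exact hy₀0 h1
  have hxK : algebraMap R K x ≠ 0 := by
    intro h
    apply hvx0
    rw [h, map_zero]
  have hvx1 : V.valuation (algebraMap R K x) < 1 := hvm x (hsm x hxs)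
  -- the subalgebra
  obtain ⟨S, hSdef⟩ : ∃ S : Subalgebra R K, S = Algebra.adjoin R
      ((fun y => algebraMap R K y / algebraMap R K x) '' (s : Set R)) := ⟨_, rfl⟩
  have hSfg : S.FG := by
    rw [hSdef, ← Finset.coe_image]
    exact Subalgebra.fg_adjoin_finset _
  let VA : Subalgebra R K := { V.toSubring.toSubsemiring with algebraMap_mem' := hV }
  have hSV : S ≤ VA := by
    rw [hSdef]
    apply Algebra.adjoin_le
    rintro _ ⟨y, hy, rfl⟩
    show algebraMap R K y / algebraMap R K x ∈ V
    rw [← V.valuation_le_one_iff, map_div₀]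
    exact div_le_one_of_le₀ (hxmax y hy) zero_le
  have hgen : ∀ y ∈ s, algebraMap R K y / algebraMap R K x ∈ S := by
    intro y hy
    rw [hSdef]
    exact Algebra.subset_adjoin ⟨y, hy, rfl⟩
  haveI hFT : Algebra.FiniteType R S := (Subalgebra.fg_iff_finiteType S).1 hSfg
  haveI hSN : IsNoetherianRing S := Algebra.FiniteType.isNoetherianRing R S
  -- the principal ideal
  have hI : Ideal.span ({algebraMap R S x} : Set S) ≠ ⊤ := by
    intro htop
    have h1 : (1 : S) ∈ Ideal.span ({algebraMap R S x} : Set S) := by rw [htop]; trivial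
    obtain ⟨c, hc⟩ := Ideal.mem_span_singleton'.1 h1
    have hcK : (c : K) * algebraMap R K x = 1 := congrArg Subtype.val hc
    have hcV : (c : K) ∈ V := hSV c.2
    have hvc : V.valuation (c : K) ≤ 1 := (V.valuation_le_one_iff _).2 hcV
    have h2 : V.valuation (c : K) * V.valuation (algebraMap R K x) = 1 := by
      rw [← map_mul, hcK, map_one]
    have h3 : V.valuation (c : K) * V.valuation (algebraMap R K x) < 1 :=
      mul_lt_one_of_nonneg_of_lt_one_right hvc zero_le hvx1
    rw [h2] at h3
    exact lt_irrefl _ h3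
  obtain ⟨⟨q, hq⟩⟩ := Ideal.nonempty_minimalPrimes hI
  haveI hqprime : q.IsPrime := hq.1.1
  have hIq : Ideal.span ({algebraMap R S x} : Set S) ≤ q := hq.1.2
  have hxq : algebraMap R S x ∈ q := hIq (Ideal.mem_span_singleton_self _)
  have hxS0 : algebraMap R S x ≠ 0 := by
    intro h
    apply hxK
    have := congrArg Subtype.val h
    exact this
  have hq0 : q ≠ ⊥ := by
    intro h
    rw [h, Ideal.mem_bot] at hxq
    exact hxS0 hxq
  have hle1 : q.height ≤ 1 :=
    Ideal.height_le_one_of_isPrincipal_of_mem_minimalPrimes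
      (Ideal.span ({algebraMap R S x} : Set S)) q hq
  have hne0 : q.height ≠ 0 := by
    rw [Ne, Ideal.height_eq_zero_iff_eq_bot]
    exact hq0
  have hheight : q.height = 1 := le_antisymm hle1 (Order.one_le_iff_pos.2 (pos_iff_ne_zero.2 hne0))
  refine ⟨S, q, hqprime, hSfg, hheight, ?_⟩
  have hmle : maximalIdeal R ≤ q.comap (algebraMap R S) := by
    rw [← hs, Ideal.span_le]
    intro y hy
    show algebraMap R S y ∈ q
    have : algebraMap R S y =
        (⟨algebraMap R K y / algebraMap R K x, hgen y hy⟩ : S) * algebraMap R S x := by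
      apply Subtype.ext
      show algebraMap R K y = algebraMap R K y / algebraMap R K x * algebraMap R K x
      rw [div_mul_cancel₀ _ hxK]
    rw [this]
    exact q.mul_mem_left _ hxq
  have hcomap_prime : (q.comap (algebraMap R S)).IsPrime := Ideal.comap_isPrime _ q
  exact le_antisymm (IsLocalRing.le_maximalIdeal hcomap_prime.ne_top) hmle

end Groth.Agent.Lib.DomDimOne
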