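import Mathlib
import Groth.Agent.Lib.DomDimOne1_helper6

/-!
# A Noetherian local domain is dominated by a one-dimensional one (helper6), part 2
-/

set_option autoImplicit false
universe u

namespace Groth.Agent.Lib.DomDimOne

open IsLocalRing

section

variable {R : Type u} [CommRing R] [IsDomain R] (K : Type u) [Field K] [Algebra R K]
  [IsFractionRing R K] (S : Subalgebra R K) (q : Ideal S) [hq : q.IsPrime]

/-- The localization of `S` at `q` as a subalgebra of `K` (over `S`). -/
noncomputable def locAt : Subalgebra S K :=
  Localization.subalgebra.ofField K q.primeCompl q.primeCompl_le_nonZeroDivisors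

instance : IsLocalization.AtPrime (locAt K S q) q :=
  Localization.subalgebra.isLocalization_ofField K q.primeCompl q.primeCompl_le_nonZeroDivisors

instance : IsLocalRing (locAt K S q) := IsLocalization.AtPrime.isLocalRing (locAt K S q) q

theorem isNoetherianRing_locAt [IsNoetherianRing S] : IsNoetherianRing (locAt K S q) :=
  IsLocalization.isNoetherianRing q.primeCompl (locAt K S q) inferInstance

theorem ringKrullDim_locAt : ringKrullDim (locAt K S q) = q.height :=
  IsLocalization.AtPrime.ringKrullDim_eq_height q (locAt K S q)

theorem isUnit_algebraMap_locAt_iff (a : S) : IsUnit (algebraMap S (locAt K S q) a) ↔ a ∉ q :=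
  IsLocalization.AtPrime.isUnit_to_map_iff (locAt K S q) q a

theorem mem_maximalIdeal_locAt_of_mem (a : S) (ha : a ∈ q) :
    algebraMap S (locAt K S q) a ∈ maximalIdeal (locAt K S q) := by
  rw [IsLocalRing.mem_maximalIdeal, mem_nonunits_iff, isUnit_algebraMap_locAt_iff]
  exact fun h => h ha

end

end Groth.Agent.Lib.DomDimOne
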