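import Mathlib
import Groth.Agent.Lib.DomDimOne2_helper6
import Groth.Agent.Lib.GlueDimOne2_helper6

/-!
# A Noetherian local domain is dominated by a discrete valuation ring of its fraction field
(helper6), part 3
-/

set_option autoImplicit false
universe u

namespace Groth.Agent.Lib.DomDimOne

open IsLocalRing IsDedekindDomain

/-- A one-dimensional Noetherian local domain is dominated by a DVR of its fraction field. -/
theorem exists_dvr_of_dim_one (B : Type u) [CommRing B] [IsDomain B] [IsNoetherianRing B]
    [IsLocalRing B] (hdim : ringKrullDim B = 1) (L : Type u) [Field L] [Algebra B L]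
    [IsFractionRing B L] :
    ∃ R : ValuationSubring L, IsDiscreteValuationRing R ∧ (∀ b : B, algebraMap B L b ∈ R) ∧
      ∀ b ∈ maximalIdeal B, R.valuation (algebraMap B L b) < 1 := by
  obtain ⟨hDed, hsurj, -, -⟩ := Groth.Agent.S6370.result B L L (integralClosure B L) hdim
  haveI := hDed
  haveI hfrac : IsFractionRing (integralClosure B L) L :=
    Groth.Agent.Lib.GlueDimOne.isFractionRing_integralClosure B L
  obtain ⟨Q, hQ⟩ := hsurj ⟨maximalIdeal B, inferInstance⟩
  have hQcomap : Q.asIdeal.comap (algebraMap B (integralClosure B L)) = maximalIdeal B :=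
    congrArg PrimeSpectrum.asIdeal hQ
  have hBnf : ¬ IsField B := Groth.Agent.Lib.GlueDimOne.not_isField_of_dim_one B hdim
  have hinj : Function.Injective (algebraMap B (integralClosure B L)) := by
    intro a a' h
    apply IsFractionRing.injective B L
    have := congrArg (fun t : integralClosure B L => (t : L)) h
    exact this
  have hQ0 : Q.asIdeal ≠ ⊥ := by
    intro h
    apply hBnf
    rw [IsLocalRing.isField_iff_maximalIdeal_eq, ← hQcomap, h]
    exact (RingHom.injective_iff_ker_eq_bot _).1 hinj
  let w : HeightOneSpectrum (integralClosure B L) := ⟨Q.asIdeal, Q.isPrime, hQ0⟩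
  refine ⟨(w.valuation L).valuationSubring, inferInstance, ?_, ?_⟩
  · intro b
    show w.valuation L (algebraMap B L b) ≤ 1
    have : algebraMap B L b = algebraMap (integralClosure B L) L
        (algebraMap B (integralClosure B L) b) := rfl
    rw [this]
    exact w.valuation_le_one _
  · intro b hb
    have hequiv := Valuation.isEquiv_valuation_valuationSubring (w.valuation L)
    rw [← (Valuation.isEquiv_iff_val_lt_one.1 hequiv)]
    have : algebraMap B L b = algebraMap (integralClosure B L) L
        (algebraMap B (integralClosure B L) b) := rfl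
    rw [this, HeightOneSpectrum.valuation_lt_one_iff_mem]
    show algebraMap B (integralClosure B L) b ∈ Q.asIdeal
    rw [← hQcomap] at hb
    exact hb

/-- A Noetherian local domain which is not a field is dominated by a DVR of its fraction field. -/
theorem exists_dvr_dominating (A : Type u) [CommRing A] [IsDomain A] [IsNoetherianRing A]
    [IsLocalRing A] (hA : ¬ IsField A) (L : Type u) [Field L] [Algebra A L]
    [IsFractionRing A L] :
    ∃ R : ValuationSubring L, IsDiscreteValuationRing R ∧ (∀ a : A, algebraMap A L a ∈ R) ∧
      ∀ a ∈ maximalIdeal A, R.valuation (algebraMap A L a) < 1 := by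
  obtain ⟨S, q, hq, hfg, hht, hcomap⟩ := exists_finiteType_height_one A hA L
  haveI := hq
  haveI hFT : Algebra.FiniteType A S := (Subalgebra.fg_iff_finiteType S).1 hfg
  haveI hSN : IsNoetherianRing S := Algebra.FiniteType.isNoetherianRing A S
  haveI := isNoetherianRing_locAt L S q
  have hdim : ringKrullDim (locAt L S q) = 1 := by
    rw [ringKrullDim_locAt, hht]; rfl
  obtain ⟨R, hR, hmem, hlt⟩ := exists_dvr_of_dim_one (locAt L S q) hdim L
  refine ⟨R, hR, ?_, ?_⟩
  · intro a
    exact hmem (algebraMap S (locAt L S q) (algebraMap A S a))
  · intro a ha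
    have h1 : algebraMap A S a ∈ q := by
      rw [← hcomap] at ha
      exact ha
    exact hlt _ (mem_maximalIdeal_locAt_of_mem L S q _ h1)

end Groth.Agent.Lib.DomDimOne
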