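import Mathlib
import Groth.Agent.Lib.DomDimOne3_helper6

/-!
# DVRs dominating a Noetherian local domain in a finitely generated field extension (helper6)
-/

set_option autoImplicit false
universe u

namespace Groth.Agent.Lib.DomDimOne

open IsLocalRing

section

variable (L : Type u) [Field L] (B : Type u) [CommRing B] [IsDomain B] [Algebra B L]
  [IsFractionRing B L] (q : Ideal B) [hq : q.IsPrime]

/-- The localization of a domain `B` at a prime `q`, as a subalgebra of its fraction field. -/
noncomputable def locAtPrime : Subalgebra B L :=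
  Localization.subalgebra.ofField L q.primeCompl q.primeCompl_le_nonZeroDivisors

instance : IsLocalization.AtPrime (locAtPrime L B q) q :=
  Localization.subalgebra.isLocalization_ofField L q.primeCompl q.primeCompl_le_nonZeroDivisors

instance : IsLocalRing (locAtPrime L B q) := IsLocalization.AtPrime.isLocalRing (locAtPrime L B q) q

theorem isNoetherianRing_locAtPrime [IsNoetherianRing B] : IsNoetherianRing (locAtPrime L B q) :=
  IsLocalization.isNoetherianRing q.primeCompl (locAtPrime L B q) inferInstance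

theorem isUnit_algebraMap_locAtPrime_iff (a : B) :
    IsUnit (algebraMap B (locAtPrime L B q) a) ↔ a ∉ q :=
  IsLocalization.AtPrime.isUnit_to_map_iff (locAtPrime L B q) q a

theorem mem_maximalIdeal_locAtPrime_of_mem (a : B) (ha : a ∈ q) :
    algebraMap B (locAtPrime L B q) a ∈ maximalIdeal (locAtPrime L B q) := by
  rw [IsLocalRing.mem_maximalIdeal, mem_nonunits_iff, isUnit_algebraMap_locAtPrime_iff]
  exact fun h => h ha

end

/-- Elements of `K(t)` are quotients of elements of a subalgebra containing each `y ∈ t` or its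
inverse. -/
theorem exists_div_of_mem_adjoin {A : Type u} [CommRing A] [IsDomain A] (K : Type u) [Field K]
    [Algebra A K] [IsFractionRing A K] {L : Type u} [Field L] [Algebra K L] [Algebra A L]
    [IsScalarTower A K L] (B₀ : Subalgebra A L) (t : Set L)
    (ht : ∀ y ∈ t, y ∈ B₀ ∨ y⁻¹ ∈ B₀) (z : L) (hz : z ∈ IntermediateField.adjoin K t) :
    ∃ x y : L, x ∈ B₀ ∧ y ∈ B₀ ∧ y ≠ 0 ∧ z = x / y := by
  induction hz using IntermediateField.adjoin_induction with
  | mem y hy =>
    rcases ht y hy with h | h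
    · exact ⟨y, 1, h, B₀.one_mem, one_ne_zero, by rw [div_one]⟩
    · by_cases hy0 : y = 0
      · exact ⟨0, 1, B₀.zero_mem, B₀.one_mem, one_ne_zero, by rw [hy0, zero_div]⟩
      · exact ⟨1, y⁻¹, B₀.one_mem, h, inv_ne_zero hy0, by rw [one_div, inv_inv]⟩
  | algebraMap k =>
    obtain ⟨a, b, hb, rfl⟩ := IsFractionRing.div_surjective (A := A) k
    have hb0 : algebraMap A K b ≠ 0 := by
      intro h0
      exact nonZeroDivisors.ne_zero hb ((map_eq_zero_iff _ (IsFractionRing.injective A K)).1 h0)
    refine ⟨algebraMap A L a, algebraMap A L b, B₀.algebraMap_mem a, B₀.algebraMap_mem b, ?_, ?_⟩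
    · rw [IsScalarTower.algebraMap_apply A K L]
      exact (map_ne_zero _).2 hb0
    · rw [map_div₀, ← IsScalarTower.algebraMap_apply, ← IsScalarTower.algebraMap_apply]
  | add z z' _ _ hz hz' =>
    obtain ⟨x, y, hx, hy, hy0, rfl⟩ := hz
    obtain ⟨x', y', hx', hy', hy0', rfl⟩ := hz'
    refine ⟨x * y' + x' * y, y * y', B₀.add_mem (B₀.mul_mem hx hy') (B₀.mul_mem hx' hy),
      B₀.mul_mem hy hy', mul_ne_zero hy0 hy0', ?_⟩
    field_simp
  | inv z _ hz =>
    obtain ⟨x, y, hx, hy, hy0, rfl⟩ := hz
    by_cases hx0 : x = 0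
    · exact ⟨0, 1, B₀.zero_mem, B₀.one_mem, one_ne_zero, by rw [hx0, zero_div, inv_zero, zero_div]⟩
    · exact ⟨y, x, hy, hx, hx0, by rw [inv_div]⟩
  | mul z z' _ _ hz hz' =>
    obtain ⟨x, y, hx, hy, hy0, rfl⟩ := hz
    obtain ⟨x', y', hx', hy', hy0', rfl⟩ := hz'
    refine ⟨x * x', y * y', B₀.mul_mem hx hx', B₀.mul_mem hy hy', mul_ne_zero hy0 hy0', ?_⟩
    field_simp

end Groth.Agent.Lib.DomDimOne
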