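import Mathlib

set_option autoImplicit false
universe u
open CategoryTheory CategoryTheory.Limits AlgebraicGeometry TopologicalSpace Opposite TensorProduct

namespace Groth.Agent.Lib.ReflSpec_helper7

theorem apply_comp_eq {X Y Z W : Scheme.{u}} {a : X ⟶ Y} {b : Y ⟶ W} {c : X ⟶ Z} {d : Z ⟶ W}
    (e : a ≫ b = c ≫ d) (x : X) : b (a x) = d (c x) := by
  have := congrArg (fun k : X ⟶ W => k x) e
  exact this

theorem apply_comp_eq' {X Y W : Scheme.{u}} {a : X ⟶ Y} {b : Y ⟶ W} {c : X ⟶ W}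
    (e : a ≫ b = c) (x : X) : b (a x) = c x := by
  have := congrArg (fun k : X ⟶ W => k x) e
  exact this

set_option backward.isDefEq.respectTransparency false in
theorem pbmap_fst {C : Type*} [Category C] {W X Y Z S T : C} (f₁ : W ⟶ S) (f₂ : X ⟶ S)
    [HasPullback f₁ f₂] (g₁ : Y ⟶ T) (g₂ : Z ⟶ T) [HasPullback g₁ g₂] (i₁ : W ⟶ Y) (i₂ : X ⟶ Z)
    (i₃ : S ⟶ T) (e₁ : f₁ ≫ i₃ = i₁ ≫ g₁) (e₂ : f₂ ≫ i₃ = i₂ ≫ g₂) :
    pullback.map f₁ f₂ g₁ g₂ i₁ i₂ i₃ e₁ e₂ ≫ pullback.fst g₁ g₂ = pullback.fst f₁ f₂ ≫ i₁ := by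
  simp

set_option backward.isDefEq.respectTransparency false in
theorem pbmap_snd {C : Type*} [Category C] {W X Y Z S T : C} (f₁ : W ⟶ S) (f₂ : X ⟶ S)
    [HasPullback f₁ f₂] (g₁ : Y ⟶ T) (g₂ : Z ⟶ T) [HasPullback g₁ g₂] (i₁ : W ⟶ Y) (i₂ : X ⟶ Z)
    (i₃ : S ⟶ T) (e₁ : f₁ ≫ i₃ = i₁ ≫ g₁) (e₂ : f₂ ≫ i₃ = i₂ ≫ g₂) :
    pullback.map f₁ f₂ g₁ g₂ i₁ i₂ i₃ e₁ e₂ ≫ pullback.snd g₁ g₂ = pullback.snd f₁ f₂ ≫ i₂ := by
  simp

theorem exists_sum_tmul {A B R : Type u} [CommRing A] [CommRing B] [CommRing R] [Algebra A B]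
    [Algebra A R] (t : B ⊗[A] R) :
    ∃ (ι : Type) (_ : Fintype ι) (β : ι → B) (α : ι → R), t = ∑ i, β i ⊗ₜ[A] α i := by
  induction t using TensorProduct.induction_on with
  | zero => exact ⟨Empty, inferInstance, fun e => e.elim, fun e => e.elim, by simp⟩
  | tmul b a => exact ⟨Unit, inferInstance, fun _ => b, fun _ => a, by simp⟩
  | add x y hx hy =>
    obtain ⟨ι₁, _, β₁, α₁, rfl⟩ := hx
    obtain ⟨ι₂, _, β₂, α₂, rfl⟩ := hy
    exact ⟨ι₁ ⊕ ι₂, inferInstance, Sum.elim β₁ β₂, Sum.elim α₁ α₂,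
      by simp [Fintype.sum_sum_type]⟩

theorem gen_alg (A B R : Type u) [CommRing A] [CommRing B] [CommRing R] [Algebra A B]
    [Algebra A R] {C : CommRingCat.{u}} (inl : CommRingCat.of B ⟶ C) (inr : CommRingCat.of R ⟶ C)
    (hpo : IsPushout (CommRingCat.ofHom (algebraMap A B)) (CommRingCat.ofHom (algebraMap A R))
      inl inr) (c : C) :
    ∃ (ι : Type) (_ : Fintype ι) (β : ι → B) (α : ι → R),
      c = ∑ i, inl.hom (β i) * inr.hom (α i) := by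
  have hpo' := CommRingCat.isPushout_tensorProduct A B R
  let e := hpo'.isoIsPushout _ _ hpo
  obtain ⟨ι, hι, β, α, ht⟩ := exists_sum_tmul (A := A) (e.inv.hom c)
  refine ⟨ι, hι, β, α, ?_⟩
  have h1 : ∀ b : B, e.hom.hom (b ⊗ₜ[A] (1 : R)) = inl.hom b := fun b =>
    ConcreteCategory.congr_hom (IsPushout.inl_isoIsPushout_hom _ _ hpo' hpo) b
  have h2 : ∀ r : R, e.hom.hom ((1 : B) ⊗ₜ[A] r) = inr.hom r := fun r =>
    ConcreteCategory.congr_hom (IsPushout.inr_isoIsPushout_hom _ _ hpo' hpo) r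
  have h3 : c = e.hom.hom (e.inv.hom c) := by
    have := ConcreteCategory.congr_hom e.inv_hom_id c
    exact this.symm
  rw [h3, ht, map_sum]
  refine Finset.sum_congr rfl fun i _ => ?_
  have h4 : β i ⊗ₜ[A] α i = (β i ⊗ₜ[A] (1 : R)) * ((1 : B) ⊗ₜ[A] α i) := by
    rw [Algebra.TensorProduct.tmul_mul_tmul, mul_one, one_mul]
  rw [h4, map_mul, h1, h2]

theorem pushout_gen {A B R : CommRingCat.{u}} (φ : A ⟶ B) (ρ : A ⟶ R)
    (c : (pushout φ ρ : CommRingCat.{u})) :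
    ∃ (ι : Type) (_ : Fintype ι) (β : ι → B) (α : ι → R),
      c = ∑ i, (pushout.inl φ ρ).hom (β i) * (pushout.inr φ ρ).hom (α i) := by
  letI := φ.hom.toAlgebra
  letI := ρ.hom.toAlgebra
  exact gen_alg A B R (pushout.inl φ ρ) (pushout.inr φ ρ) (IsPushout.of_hasPushout φ ρ) c

theorem exists_chart {X Y : Scheme.{u}} (f : Y ⟶ X) {U : X.Opens} (hU : IsAffineOpen U)
    {V : Y.Opens} (hV : IsAffineOpen V) (hVU : V ≤ f ⁻¹ᵁ U)
    {R : CommRingCat.{u}} (ρ : Γ(X, U) ⟶ R) (g : Spec R ⟶ X)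
    (hg : g = Spec.map ρ ≫ hU.fromSpec) :
    ∃ J : Spec (pushout (f.appLE U V hVU) ρ) ⟶ pullback f g, IsOpenImmersion J ∧
      J ≫ pullback.fst f g = Spec.map (pushout.inl (f.appLE U V hVU) ρ) ≫ hV.fromSpec ∧
      J ≫ pullback.snd f g = Spec.map (pushout.inr (f.appLE U V hVU) ρ) ∧
      ∀ y : ↥(pullback f g), pullback.fst f g y ∈ V → y ∈ Set.range J := by
  have hsq := isPullback_SpecMap_pushout (f.appLE U V hVU) ρ
  have e₁ : Spec.map (f.appLE U V hVU) ≫ hU.fromSpec = hV.fromSpec ≫ f :=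
    IsAffineOpen.SpecMap_appLE_fromSpec f hU hV hVU
  have e₂ : Spec.map ρ ≫ hU.fromSpec = 𝟙 _ ≫ g := by rw [Category.id_comp, hg]
  obtain ⟨M, hM⟩ : ∃ M : pullback (Spec.map (f.appLE U V hVU)) (Spec.map ρ) ⟶ pullback f g,
      M = pullback.map (Spec.map (f.appLE U V hVU)) (Spec.map ρ) f g hV.fromSpec (𝟙 _)
        hU.fromSpec e₁ e₂ := ⟨_, rfl⟩
  haveI : IsOpenImmersion M := by rw [hM]; infer_instance
  refine ⟨hsq.isoPullback.hom ≫ M, inferInstance, ?_, ?_, ?_⟩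
  · rw [Category.assoc, hM, pbmap_fst, ← Category.assoc, hsq.isoPullback_hom_fst]
  · rw [Category.assoc, hM, pbmap_snd, ← Category.assoc, hsq.isoPullback_hom_snd,
      Category.comp_id]
  · intro y hy
    have hyM : y ∈ Set.range M := by
      rw [hM, Scheme.Pullback.range_map]
      refine ⟨?_, ?_⟩
      · show pullback.fst f g y ∈ Set.range hV.fromSpec
        rw [hV.range_fromSpec]; exact hy
      · exact ⟨pullback.snd f g y, rfl⟩
    obtain ⟨z, rfl⟩ := hyM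
    refine ⟨hsq.isoPullback.inv z, ?_⟩
    exact apply_comp_eq' (by rw [Iso.inv_hom_id_assoc]) z

theorem affine_case {X Y : Scheme.{u}} (f : Y ⟶ X)
    (h : ∀ (X' : Scheme.{u}) (g : X' ⟶ X) [LocallyOfFiniteType g] (y₀ y₁ : ↥(pullback f g)),
      (pullback.snd f g).base y₁ ⤳ (pullback.snd f g).base y₀ → y₁ ⤳ y₀)
    {U : X.Opens} (hU : IsAffineOpen U) (A' : CommRingCat.{u}) (ψ : Γ(X, U) ⟶ A')
    (g : Spec A' ⟶ X) (hg : g = Spec.map ψ ≫ hU.fromSpec)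
    (y₀ y₁ : ↥(pullback f g))
    (hs : (pullback.snd f g) y₁ ⤳ (pullback.snd f g) y₀) : y₁ ⤳ y₀ := by
  have hcond₀ : f (pullback.fst f g y₀) = g (pullback.snd f g y₀) :=
    apply_comp_eq pullback.condition y₀
  have hgU : ∀ z, g z ∈ U := by
    intro z
    have h1 : g z = hU.fromSpec (Spec.map ψ z) := (apply_comp_eq' hg.symm z).symm
    have h2 : hU.fromSpec (Spec.map ψ z) ∈ Set.range hU.fromSpec := ⟨_, rfl⟩
    rw [hU.range_fromSpec] at h2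
    rw [h1]; exact h2
  have hfv₀ : pullback.fst f g y₀ ∈ ((f ⁻¹ᵁ U : Y.Opens) : Set Y) := by
    show f (pullback.fst f g y₀) ∈ U
    rw [hcond₀]; exact hgU _
  obtain ⟨_, ⟨V, hV, rfl⟩, hv₀V, hVU'⟩ :=
    Y.isBasis_affineOpens.exists_subset_of_mem_open hfv₀ (f ⁻¹ᵁ U).2
  have hVU : V ≤ f ⁻¹ᵁ U := SetLike.coe_subset_coe.mp hVU'
  obtain ⟨J, hJo, hJ1, hJ2, hJr⟩ := exists_chart f hU hV hVU ψ g hg
  obtain ⟨w₀, hw₀⟩ := hJr y₀ hv₀V
  rw [specializes_iff_forall_open]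
  intro O hO hy₀O
  have hw₀O : w₀ ∈ J ⁻¹' O := by show J w₀ ∈ O; rw [hw₀]; exact hy₀O
  obtain ⟨_, ⟨c, rfl⟩, hw₀c, hcO⟩ :=
    PrimeSpectrum.isTopologicalBasis_basic_opens.exists_subset_of_mem_open
      (a := (w₀ : PrimeSpectrum (pushout (f.appLE U V hVU) ψ : CommRingCat.{u})))
      hw₀O (hO.preimage J.continuous)
  obtain ⟨ι, hι, β, α, hc⟩ := pushout_gen (f.appLE U V hVU) ψ c
  -- the finite type model
  let ρ₁ : Γ(X, U) ⟶ CommRingCat.of (MvPolynomial ι Γ(X, U)) :=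
    CommRingCat.ofHom (algebraMap Γ(X, U) (MvPolynomial ι Γ(X, U)))
  let ιhom : CommRingCat.of (MvPolynomial ι Γ(X, U)) ⟶ A' :=
    CommRingCat.ofHom (MvPolynomial.eval₂Hom ψ.hom α)
  have hρι : ρ₁ ≫ ιhom = ψ := by
    ext a
    simp [ρ₁, ιhom, MvPolynomial.algebraMap_eq]
  haveI : LocallyOfFiniteType (Spec.map ρ₁) :=
    (HasRingHomProperty.Spec_iff (P := @LocallyOfFiniteType)).mpr
      ((RingHom.finiteType_algebraMap (A := Γ(X, U)) (B := MvPolynomial ι Γ(X, U))).mpr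
        inferInstance)
  obtain ⟨τ, hτ⟩ : ∃ τ : Spec (CommRingCat.of (MvPolynomial ι Γ(X, U))) ⟶ X,
      τ = Spec.map ρ₁ ≫ hU.fromSpec := ⟨_, rfl⟩
  haveI : LocallyOfFiniteType τ := by rw [hτ]; infer_instance
  have hgτ : g ≫ 𝟙 X = Spec.map ιhom ≫ τ := by
    rw [Category.comp_id, hτ, ← Category.assoc, ← Spec.map_comp, hρι, hg]
  obtain ⟨K, hKdef⟩ : ∃ K : pullback f g ⟶ pullback f τ,
      K = pullback.map f g f τ (𝟙 Y) (Spec.map ιhom) (𝟙 X) (by simp) hgτ := ⟨_, rfl⟩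
  have hKf : K ≫ pullback.fst f τ = pullback.fst f g := by
    rw [hKdef, pbmap_fst, Category.comp_id]
  have hKs : K ≫ pullback.snd f τ = pullback.snd f g ≫ Spec.map ιhom := by
    rw [hKdef, pbmap_snd]
  have hK : K y₁ ⤳ K y₀ := by
    apply h _ τ (K y₀) (K y₁)
    show pullback.snd f τ (K y₁) ⤳ pullback.snd f τ (K y₀)
    rw [apply_comp_eq hKs y₁, apply_comp_eq hKs y₀]
    exact hs.map (Spec.map ιhom).continuous
  obtain ⟨J'', hJo'', hJ1'', hJ2'', hJr''⟩ := exists_chart f hU hV hVU ρ₁ τ hτ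
  -- the comparison of charts
  have hw : f.appLE U V hVU ≫ pushout.inl (f.appLE U V hVU) ψ =
      ρ₁ ≫ ιhom ≫ pushout.inr (f.appLE U V hVU) ψ := by
    rw [← Category.assoc, hρι, pushout.condition]
  let θ : pushout (f.appLE U V hVU) ρ₁ ⟶ pushout (f.appLE U V hVU) ψ :=
    pushout.desc (pushout.inl (f.appLE U V hVU) ψ) (ιhom ≫ pushout.inr (f.appLE U V hVU) ψ) hw
  have hθl : pushout.inl (f.appLE U V hVU) ρ₁ ≫ θ = pushout.inl (f.appLE U V hVU) ψ :=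
    pushout.inl_desc _ _ _
  have hθr : pushout.inr (f.appLE U V hVU) ρ₁ ≫ θ = ιhom ≫ pushout.inr (f.appLE U V hVU) ψ :=
    pushout.inr_desc _ _ _
  have hJK : J ≫ K = Spec.map θ ≫ J'' := by
    apply pullback.hom_ext
    · rw [Category.assoc, hKf, hJ1, Category.assoc, hJ1'', ← Category.assoc, ← Spec.map_comp, hθl]
    · rw [Category.assoc, hKs, ← Category.assoc, hJ2, Category.assoc, hJ2'', ← Spec.map_comp,
        ← Spec.map_comp, hθr]
  obtain ⟨c'', hc''⟩ : ∃ c'' : (pushout (f.appLE U V hVU) ρ₁ : CommRingCat.{u}),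
      c'' = ∑ i, (pushout.inl (f.appLE U V hVU) ρ₁).hom (β i) *
        (pushout.inr (f.appLE U V hVU) ρ₁).hom (MvPolynomial.X i) := ⟨_, rfl⟩
  have hθc : θ.hom c'' = c := by
    rw [hc, hc'', map_sum]
    refine Finset.sum_congr rfl fun i _ => ?_
    rw [map_mul]
    have e1 : θ.hom ((pushout.inl (f.appLE U V hVU) ρ₁).hom (β i)) =
        (pushout.inl (f.appLE U V hVU) ψ).hom (β i) := ConcreteCategory.congr_hom hθl (β i)
    have e2 : θ.hom ((pushout.inr (f.appLE U V hVU) ρ₁).hom (MvPolynomial.X i)) =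
        (pushout.inr (f.appLE U V hVU) ψ).hom (ιhom.hom (MvPolynomial.X i)) :=
      ConcreteCategory.congr_hom hθr (MvPolynomial.X i)
    have e3 : ιhom.hom (MvPolynomial.X i) = α i := by simp [ιhom]
    rw [e1, e2, e3]
  have key : ∀ w : ↥(Spec (pushout (f.appLE U V hVU) ψ)),
      (Spec.map θ w ∈ (PrimeSpectrum.basicOpen c'' : Set (PrimeSpectrum _))) ↔
        w ∈ (PrimeSpectrum.basicOpen c : Set (PrimeSpectrum _)) := by
    intro w
    show c'' ∉ (PrimeSpectrum.comap θ.hom w).asIdeal ↔ c ∉ w.asIdeal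
    rw [PrimeSpectrum.comap_asIdeal, Ideal.mem_comap, hθc]
  have hO'' : IsOpen (J'' '' (PrimeSpectrum.basicOpen c'' : Set (PrimeSpectrum _))) :=
    J''.isOpenEmbedding.isOpenMap _ (PrimeSpectrum.basicOpen c'').2
  have hKy₀ : K y₀ ∈ J'' '' (PrimeSpectrum.basicOpen c'' : Set (PrimeSpectrum _)) := by
    refine ⟨Spec.map θ w₀, (key w₀).mpr hw₀c, ?_⟩
    rw [← hw₀]
    exact (apply_comp_eq hJK w₀).symm
  obtain ⟨w'', hw''c, hw''⟩ := hK.mem_open hO'' hKy₀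
  have hfst₁ : pullback.fst f g y₁ ∈ V := by
    have e1 : pullback.fst f τ (K y₁) = pullback.fst f g y₁ := apply_comp_eq' hKf y₁
    have e2 : pullback.fst f τ (J'' w'') =
        hV.fromSpec (Spec.map (pushout.inl (f.appLE U V hVU) ρ₁) w'') := apply_comp_eq hJ1'' w''
    rw [← e1, ← hw'', e2]
    have h2 : hV.fromSpec (Spec.map (pushout.inl (f.appLE U V hVU) ρ₁) w'') ∈
        Set.range hV.fromSpec := ⟨_, rfl⟩
    rw [hV.range_fromSpec] at h2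
    exact h2
  obtain ⟨w₁, hw₁⟩ := hJr y₁ hfst₁
  have hw₁'' : Spec.map θ w₁ = w'' := by
    apply J''.isOpenEmbedding.injective
    rw [hw'', ← hw₁]
    exact (apply_comp_eq hJK w₁).symm
  have hw₁c : w₁ ∈ (PrimeSpectrum.basicOpen c : Set (PrimeSpectrum _)) := by
    rw [← key w₁, hw₁'']; exact hw''c
  have := hcO hw₁c
  rw [← hw₁]
  exact this

theorem main {X Y : Scheme.{u}} (f : Y ⟶ X)
    (h : ∀ (X' : Scheme.{u}) (g : X' ⟶ X) [LocallyOfFiniteType g] (y₀ y₁ : ↥(pullback f g)),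
      (pullback.snd f g).base y₁ ⤳ (pullback.snd f g).base y₀ → y₁ ⤳ y₀) :
    ∀ (X' : Scheme.{u}) (g : X' ⟶ X) (y₀ y₁ : ↥(pullback f g)),
        (pullback.snd f g).base y₁ ⤳ (pullback.snd f g).base y₀ → y₁ ⤳ y₀ := by
  intro X' g y₀ y₁ hs
  obtain ⟨_, ⟨U, hU, rfl⟩, hxU, -⟩ := X.isBasis_affineOpens.exists_subset_of_mem_open
    (Set.mem_univ (g (pullback.snd f g y₀))) isOpen_univ
  obtain ⟨_, ⟨U', hU', rfl⟩, hx'U', hU'U⟩ := X'.isBasis_affineOpens.exists_subset_of_mem_open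
    (show pullback.snd f g y₀ ∈ ((g ⁻¹ᵁ U : X'.Opens) : Set X') from hxU) (g ⁻¹ᵁ U).2
  have hU'U' : U' ≤ g ⁻¹ᵁ U := SetLike.coe_subset_coe.mp hU'U
  obtain ⟨g', hg'def⟩ : ∃ g' : Spec Γ(X', U') ⟶ X, g' = hU'.fromSpec ≫ g := ⟨_, rfl⟩
  have hg' : g' = Spec.map (g.appLE U U' hU'U') ≫ hU.fromSpec := by
    rw [hg'def]; exact (IsAffineOpen.SpecMap_appLE_fromSpec g hU hU' hU'U').symm
  obtain ⟨E, hE⟩ : ∃ E : pullback f g' ⟶ pullback f g,
      E = pullback.map f g' f g (𝟙 Y) hU'.fromSpec (𝟙 X) (by simp) (by rw [hg'def]; simp) :=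
    ⟨_, rfl⟩
  haveI : IsOpenImmersion E := by rw [hE]; infer_instance
  have hEr : ∀ y : ↥(pullback f g), pullback.snd f g y ∈ U' → y ∈ Set.range E := by
    intro y hy
    rw [hE, Scheme.Pullback.range_map]
    refine ⟨?_, ?_⟩
    · exact ⟨pullback.fst f g y, rfl⟩
    · show pullback.snd f g y ∈ Set.range hU'.fromSpec
      rw [hU'.range_fromSpec]; exact hy
  have hy₁U' : pullback.snd f g y₁ ∈ U' := hs.mem_open U'.2 hx'U'
  have hEs : E ≫ pullback.snd f g = pullback.snd f g' ≫ hU'.fromSpec := by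
    rw [hE, pbmap_snd]
  obtain ⟨z₀, hz₀⟩ := hEr y₀ hx'U'
  obtain ⟨z₁, hz₁⟩ := hEr y₁ hy₁U'
  have hsz : pullback.snd f g' z₁ ⤳ pullback.snd f g' z₀ := by
    have hs' : pullback.snd f g (E z₁) ⤳ pullback.snd f g (E z₀) := by
      rw [hz₀, hz₁]; exact hs
    rw [apply_comp_eq hEs z₁, apply_comp_eq hEs z₀] at hs'
    exact (hU'.fromSpec.isOpenEmbedding.toIsEmbedding.toIsInducing.specializes_iff).mp hs'
  have := (affine_case f h hU _ (g.appLE U U' hU'U') g' hg' z₀ z₁ hsz).map E.continuous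
  rw [hz₀, hz₁] at this
  exact this

end Groth.Agent.Lib.ReflSpec_helper7
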