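import Mathlib
import Groth.Agent.Lib.ReflSpec_helper7
import Groth.Agent.Lib.MonoQC_helper7
import Groth.Agent.Lib.DomDimOne4_helper6

set_option autoImplicit false
universe u
open CategoryTheory CategoryTheory.Limits AlgebraicGeometry TopologicalSpace Opposite

namespace Groth.Agent.Lib.ReflSpecDVR_helper7

open Groth.Agent.Lib.DomDimOne in
/-- A DVR of the fraction field of a Noetherian domain `D` centred exactly at a nonzero prime. -/
theorem exists_dvr_center (D : Type u) [CommRing D] [IsDomain D] [IsNoetherianRing D]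
    (𝔮 : Ideal D) [𝔮.IsPrime] (h𝔮 : 𝔮 ≠ ⊥) :
    ∃ R : ValuationSubring (FractionRing D), IsDiscreteValuationRing R ∧
      ∃ χ : D →+* R, (∀ d, ((χ d : R) : FractionRing D) = algebraMap D (FractionRing D) d) ∧
        Ideal.comap χ (IsLocalRing.maximalIdeal R) = 𝔮 := by
  haveI := isNoetherianRing_locAtPrime (FractionRing D) D 𝔮
  have hinj : Function.Injective (algebraMap D (FractionRing D)) := IsFractionRing.injective D _
  have hnf : ¬ IsField (locAtPrime (FractionRing D) D 𝔮) := by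
    intro hf
    obtain ⟨d, hd, hd0⟩ := Submodule.exists_mem_ne_zero_of_ne_bot h𝔮
    have h1 := mem_maximalIdeal_locAtPrime_of_mem (FractionRing D) D 𝔮 d hd
    rw [IsLocalRing.isField_iff_maximalIdeal_eq.1 hf, Ideal.mem_bot] at h1
    have h2 : algebraMap D (FractionRing D) d = 0 := congrArg Subtype.val h1
    exact hd0 ((map_eq_zero_iff _ hinj).1 h2)
  obtain ⟨R, hR, hmem, hlt⟩ :=
    exists_dvr_dominating (locAtPrime (FractionRing D) D 𝔮) hnf (FractionRing D)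
  have hmemD : ∀ d : D, algebraMap D (FractionRing D) d ∈ R := fun d =>
    hmem (algebraMap D (locAtPrime (FractionRing D) D 𝔮) d)
  refine ⟨R, hR, (algebraMap D (FractionRing D)).codRestrict R.toSubring hmemD,
    fun d => rfl, ?_⟩
  ext d
  rw [Ideal.mem_comap, ValuationSubring.valuation_lt_one_iff]
  show R.valuation (algebraMap D (FractionRing D) d) < 1 ↔ d ∈ 𝔮
  constructor
  · intro hlt1
    by_contra hd
    have hu : IsUnit (algebraMap D (locAtPrime (FractionRing D) D 𝔮) d) :=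
      (isUnit_algebraMap_locAtPrime_iff (FractionRing D) D 𝔮 d).2 hd
    obtain ⟨u, hu⟩ := hu
    have h1 : algebraMap D (FractionRing D) d *
        ((↑u⁻¹ : locAtPrime (FractionRing D) D 𝔮) : FractionRing D) = 1 := by
      have h := congrArg Subtype.val u.mul_inv
      rw [hu] at h
      exact h
    have h2 : R.valuation ((↑u⁻¹ : locAtPrime (FractionRing D) D 𝔮) : FractionRing D) ≤ 1 :=
      (R.valuation_le_one_iff _).2 (hmem ↑u⁻¹)
    have h3 : R.valuation (algebraMap D (FractionRing D) d *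
        ((↑u⁻¹ : locAtPrime (FractionRing D) D 𝔮) : FractionRing D)) = 1 := by
      rw [h1, map_one]
    rw [map_mul] at h3
    have h4 : R.valuation (algebraMap D (FractionRing D) d) *
        R.valuation ((↑u⁻¹ : locAtPrime (FractionRing D) D 𝔮) : FractionRing D) < 1 :=
      lt_of_le_of_lt ((mul_le_mul' le_rfl h2).trans_eq (mul_one _)) hlt1
    exact absurd h3 (ne_of_lt h4)
  · intro hd
    exact hlt _ (mem_maximalIdeal_locAtPrime_of_mem (FractionRing D) D 𝔮 d hd)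

theorem core {X Y : Scheme.{u}} (f : Y ⟶ X) [Mono f]
    (h : ∀ S : ValuativeCommSq f, IsDiscreteValuationRing S.R →
        (∃ l₀ : Spec (CommRingCat.of (IsLocalRing.ResidueField S.R)) ⟶ Y,
            l₀ ≫ f = Spec.map (CommRingCat.ofHom (IsLocalRing.residue S.R)) ≫ S.i₂) →
          S.commSq.HasLift)
    {X' : Scheme.{u}} (g : X' ⟶ X) (B : CommRingCat.{u}) [IsNoetherianRing B] (s : Spec B ⟶ X')
    (p₀ p₁ : ↥(Spec B))
    (hle : PrimeSpectrum.asIdeal p₁ ≤ PrimeSpectrum.asIdeal p₀) (hne : p₁ ≠ p₀)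
    (y₀ y₁ : ↥(pullback f g)) (h₀ : s p₀ = pullback.snd f g y₀)
    (h₁ : s p₁ = pullback.snd f g y₁) : y₁ ⤳ y₀ := by
  have hqinj : Function.Injective (pullback.snd f g) := (pullback.snd f g).injective
  obtain ⟨𝔭₁, h𝔭₁⟩ : ∃ I : Ideal B, I = PrimeSpectrum.asIdeal p₁ := ⟨_, rfl⟩
  obtain ⟨𝔭₀, h𝔭₀⟩ : ∃ I : Ideal B, I = PrimeSpectrum.asIdeal p₀ := ⟨_, rfl⟩
  haveI : 𝔭₁.IsPrime := by rw [h𝔭₁]; exact PrimeSpectrum.isPrime p₁
  haveI : 𝔭₀.IsPrime := by rw [h𝔭₀]; exact PrimeSpectrum.isPrime p₀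
  rw [← h𝔭₁, ← h𝔭₀] at hle
  have hmk : Function.Surjective (Ideal.Quotient.mk 𝔭₁) := Ideal.Quotient.mk_surjective
  have hker : RingHom.ker (Ideal.Quotient.mk 𝔭₁) ≤ 𝔭₀ := by rw [Ideal.mk_ker]; exact hle
  haveI h𝔮p : (𝔭₀.map (Ideal.Quotient.mk 𝔭₁)).IsPrime := Ideal.map_isPrime_of_surjective hmk hker
  have hcomap : (𝔭₀.map (Ideal.Quotient.mk 𝔭₁)).comap (Ideal.Quotient.mk 𝔭₁) = 𝔭₀ := by
    rw [Ideal.comap_map_of_surjective _ hmk, ← RingHom.ker_eq_comap_bot, sup_eq_left.mpr hker]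
  have h𝔮 : 𝔭₀.map (Ideal.Quotient.mk 𝔭₁) ≠ ⊥ := by
    intro hbot
    apply hne
    apply PrimeSpectrum.ext
    have : 𝔭₀ = 𝔭₁ := by
      rw [← hcomap, hbot, ← RingHom.ker_eq_comap_bot, Ideal.mk_ker]
    rw [← h𝔭₁, ← h𝔭₀]; exact this.symm
  obtain ⟨R, hR, χ, hχ, hχm⟩ := exists_dvr_center (B ⧸ 𝔭₁) (𝔭₀.map (Ideal.Quotient.mk 𝔭₁)) h𝔮
  -- ring maps
  obtain ⟨Ψ, hΨ⟩ : ∃ Ψ : B ⟶ CommRingCat.of R,
      Ψ = CommRingCat.ofHom (χ.comp (Ideal.Quotient.mk 𝔭₁)) := ⟨_, rfl⟩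
  have hΨa : ∀ b : B, Ψ.hom b = χ (Ideal.Quotient.mk 𝔭₁ b) := fun b => by rw [hΨ]; rfl
  obtain ⟨sR, hsR⟩ : ∃ sR : Spec (CommRingCat.of R) ⟶ X', sR = Spec.map Ψ ≫ s := ⟨_, rfl⟩
  -- closed point
  have hcl : sR (IsLocalRing.closedPoint R) = pullback.snd f g y₀ := by
    rw [← h₀, hsR]
    show s (Spec.map Ψ (IsLocalRing.closedPoint R)) = s p₀
    congr 1
    apply PrimeSpectrum.ext
    show Ideal.comap Ψ.hom (IsLocalRing.maximalIdeal R) = PrimeSpectrum.asIdeal p₀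
    rw [← h𝔭₀, ← hcomap, ← hχm, Ideal.comap_comap]
    ext b
    rw [Ideal.mem_comap, Ideal.mem_comap, hΨa]
    rfl
  -- generic point
  obtain ⟨pt, -⟩ : ∃ pt : ↥(Spec (CommRingCat.of (FractionRing (B ⧸ 𝔭₁)))), pt = pt :=
    ⟨(⟨⊥, Ideal.bot_prime⟩ : PrimeSpectrum (FractionRing (B ⧸ 𝔭₁))), rfl⟩
  have hptbot : PrimeSpectrum.asIdeal pt = ⊥ := by
    haveI := PrimeSpectrum.isPrime pt
    exact Ideal.eq_bot_of_prime _
  obtain ⟨alg, halg⟩ : ∃ alg : CommRingCat.of R ⟶ CommRingCat.of (FractionRing (B ⧸ 𝔭₁)),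
      alg = CommRingCat.ofHom (algebraMap R (FractionRing (B ⧸ 𝔭₁))) := ⟨_, rfl⟩
  have hinj : Function.Injective (algebraMap (B ⧸ 𝔭₁) (FractionRing (B ⧸ 𝔭₁))) :=
    IsFractionRing.injective _ _
  have hgen : sR (Spec.map alg pt) = pullback.snd f g y₁ := by
    rw [← h₁, hsR]
    show s (Spec.map Ψ (Spec.map alg pt)) = s p₁
    congr 1
    apply PrimeSpectrum.ext
    rw [← h𝔭₁]
    ext b
    show alg.hom (Ψ.hom b) ∈ PrimeSpectrum.asIdeal pt ↔ b ∈ 𝔭₁
    rw [hptbot, Ideal.mem_bot, halg, hΨa]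
    show ((χ (Ideal.Quotient.mk 𝔭₁ b) : R) : FractionRing (B ⧸ 𝔭₁)) = 0 ↔ b ∈ 𝔭₁
    rw [hχ, map_eq_zero_iff _ hinj, Ideal.Quotient.eq_zero_iff_mem]
  -- lifts of the generic and the closed point
  haveI : Subsingleton ↥(Spec (CommRingCat.of (FractionRing (B ⧸ 𝔭₁)))) :=
    show Subsingleton (PrimeSpectrum (FractionRing (B ⧸ 𝔭₁))) from inferInstance
  haveI : Subsingleton ↥(Spec (CommRingCat.of (IsLocalRing.ResidueField R))) :=
    show Subsingleton (PrimeSpectrum (IsLocalRing.ResidueField R)) from inferInstance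
  obtain ⟨l₁, hl₁⟩ := Groth.Agent.Lib.MonoQC_helper7.exists_lift_of_mono (pullback.snd f g)
    (Spec.map alg ≫ sR) ⟨y₁, pt, hgen.symm⟩
  obtain ⟨res, hres⟩ : ∃ res : CommRingCat.of R ⟶ CommRingCat.of (IsLocalRing.ResidueField R),
      res = CommRingCat.ofHom (IsLocalRing.residue R) := ⟨_, rfl⟩
  obtain ⟨ptk, -⟩ : ∃ ptk : ↥(Spec (CommRingCat.of (IsLocalRing.ResidueField R))), ptk = ptk :=
    ⟨(⟨⊥, Ideal.bot_prime⟩ : PrimeSpectrum (IsLocalRing.ResidueField R)), rfl⟩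
  have hptkbot : PrimeSpectrum.asIdeal ptk = ⊥ := by
    haveI := PrimeSpectrum.isPrime ptk
    exact Ideal.eq_bot_of_prime _
  have hresk : Spec.map res ptk = IsLocalRing.closedPoint R := by
    apply PrimeSpectrum.ext
    show Ideal.comap res.hom (PrimeSpectrum.asIdeal ptk) = IsLocalRing.maximalIdeal R
    rw [hptkbot, ← RingHom.ker_eq_comap_bot, hres]
    exact IsLocalRing.ker_residue
  obtain ⟨l₀', hl₀'⟩ := Groth.Agent.Lib.MonoQC_helper7.exists_lift_of_mono (pullback.snd f g)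
    (Spec.map res ≫ sR) ⟨y₀, ptk, by
      show pullback.snd f g y₀ = sR (Spec.map res ptk)
      rw [hresk, hcl]⟩
  -- the valuative square
  have w : (l₁ ≫ pullback.fst f g) ≫ f =
      Spec.map (CommRingCat.ofHom (algebraMap R (FractionRing (B ⧸ 𝔭₁)))) ≫ (sR ≫ g) := by
    rw [Category.assoc, pullback.condition, ← Category.assoc, hl₁, halg, Category.assoc]
  let S : ValuativeCommSq f :=
    { R := R, K := FractionRing (B ⧸ 𝔭₁), i₁ := l₁ ≫ pullback.fst f g, i₂ := sR ≫ g,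
      commSq := ⟨w⟩, .. }
  have hlift : S.commSq.HasLift := by
    apply h S hR
    refine ⟨l₀' ≫ pullback.fst f g, ?_⟩
    show (l₀' ≫ pullback.fst f g) ≫ f =
      Spec.map (CommRingCat.ofHom (IsLocalRing.residue R)) ≫ (sR ≫ g)
    rw [Category.assoc, pullback.condition, ← Category.assoc, hl₀', hres, Category.assoc]
  obtain ⟨⟨l, hl1, hl2⟩⟩ := hlift.exists_lift
  have hl2' : l ≫ f = sR ≫ g := hl2
  obtain ⟨l', hl'⟩ : ∃ l' : Spec (CommRingCat.of R) ⟶ pullback f g,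
      l' ≫ pullback.snd f g = sR := ⟨pullback.lift l sR hl2', pullback.lift_snd _ _ _⟩
  have hsp : (Spec.map alg pt : ↥(Spec (CommRingCat.of R))) ⤳ IsLocalRing.closedPoint R :=
    IsLocalRing.specializes_closedPoint (R := R) (Spec.map alg pt)
  have hsp' := hsp.map l'.continuous
  have e₀ : l' (IsLocalRing.closedPoint R) = y₀ := by
    apply hqinj
    rw [← hcl]
    exact Groth.Agent.Lib.ReflSpec_helper7.apply_comp_eq' hl' _
  have e₁ : l' (Spec.map alg pt) = y₁ := by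
    apply hqinj
    rw [← hgen]
    exact Groth.Agent.Lib.ReflSpec_helper7.apply_comp_eq' hl' _
  rw [e₀, e₁] at hsp'
  exact hsp'

theorem main {X Y : Scheme.{u}} [IsLocallyNoetherian X] (f : Y ⟶ X) [Mono f]
    (h : ∀ S : ValuativeCommSq f, IsDiscreteValuationRing S.R →
        (∃ l₀ : Spec (CommRingCat.of (IsLocalRing.ResidueField S.R)) ⟶ Y,
            l₀ ≫ f = Spec.map (CommRingCat.ofHom (IsLocalRing.residue S.R)) ≫ S.i₂) →
          S.commSq.HasLift) :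
    ∀ (X' : Scheme.{u}) (g : X' ⟶ X) (y₀ y₁ : ↥(pullback f g)),
        (pullback.snd f g).base y₁ ⤳ (pullback.snd f g).base y₀ → y₁ ⤳ y₀ := by
  apply Groth.Agent.Lib.ReflSpec_helper7.main f
  intro X' g _ y₀ y₁ hs
  haveI : IsLocallyNoetherian X' := LocallyOfFiniteType.isLocallyNoetherian g
  have hqinj : Function.Injective (pullback.snd f g) := (pullback.snd f g).injective
  by_cases hx : pullback.snd f g y₁ = pullback.snd f g y₀
  · rw [hqinj hx]
  obtain ⟨_, ⟨U', hU', rfl⟩, hx₀U', -⟩ := X'.isBasis_affineOpens.exists_subset_of_mem_open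
    (Set.mem_univ (pullback.snd f g y₀)) isOpen_univ
  have hx₁U' : pullback.snd f g y₁ ∈ U' := hs.mem_open U'.2 hx₀U'
  haveI hN : IsNoetherianRing Γ(X', U') := IsLocallyNoetherian.component_noetherian ⟨U', hU'⟩
  have hr := IsAffineOpen.range_fromSpec hU'
  obtain ⟨p₀, hp₀⟩ : pullback.snd f g y₀ ∈ Set.range (IsAffineOpen.fromSpec hU') := by
    rw [hr]; exact hx₀U'
  obtain ⟨p₁, hp₁⟩ : pullback.snd f g y₁ ∈ Set.range (IsAffineOpen.fromSpec hU') := by
    rw [hr]; exact hx₁U'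
  have hp : p₁ ⤳ p₀ := by
    rw [← hp₀, ← hp₁] at hs
    exact ((IsAffineOpen.fromSpec hU').isOpenEmbedding.toIsEmbedding.toIsInducing.specializes_iff).mp hs
  have hpne : p₁ ≠ p₀ := by
    intro hpp
    apply hx
    rw [← hp₀, ← hp₁, hpp]
  have hle : PrimeSpectrum.asIdeal p₁ ≤ PrimeSpectrum.asIdeal p₀ :=
    (PrimeSpectrum.le_iff_specializes (R := Γ(X', U')) p₁ p₀).mpr hp
  exact core f h g Γ(X', U') (IsAffineOpen.fromSpec hU') p₀ p₁ hle hpne y₀ y₁ hp₀ hp₁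

end Groth.Agent.Lib.ReflSpecDVR_helper7
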