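import Mathlib
import Groth.Agent.Lib.ReflSpec_helper7
import Groth.Agent.Lib.ReflSpecDVR_helper7
import Groth.Agent.Lib.MonoQC_helper7
import Groth.Agent.S15344

set_option autoImplicit false
universe u
open CategoryTheory CategoryTheory.Limits AlgebraicGeometry TopologicalSpace Opposite

namespace Groth.Agent.Lib.MonoImm_helper7

section composite

variable {K : Type u} [Field K] (V₁ : ValuationSubring K)
  (V₂ : ValuationSubring (IsLocalRing.ResidueField V₁))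

/-- The subring underlying the composite valuation ring. -/
def compSubring : Subring K :=
  (V₂.toSubring.comap (IsLocalRing.residue V₁)).map V₁.subtype

lemma mem_compSubring {z : K} : z ∈ compSubring V₁ V₂ ↔
    ∃ v : V₁, IsLocalRing.residue V₁ v ∈ V₂ ∧ (v : K) = z := by
  unfold compSubring
  rw [Subring.mem_map]
  constructor
  · rintro ⟨v, hv, rfl⟩; exact ⟨v, hv, rfl⟩
  · rintro ⟨v, hv, rfl⟩; exact ⟨v, hv, rfl⟩

lemma comp_key (z : K) (hz : z ∈ V₁) : z ∈ compSubring V₁ V₂ ∨ z⁻¹ ∈ compSubring V₁ V₂ := by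
  rcases V₂.mem_or_inv_mem (IsLocalRing.residue V₁ ⟨z, hz⟩) with h | h
  · exact Or.inl ((mem_compSubring V₁ V₂).mpr ⟨⟨z, hz⟩, h, rfl⟩)
  · by_cases h0 : IsLocalRing.residue V₁ ⟨z, hz⟩ = 0
    · exact Or.inl ((mem_compSubring V₁ V₂).mpr ⟨⟨z, hz⟩, by rw [h0]; exact zero_mem _, rfl⟩)
    · right
      have hu : IsUnit (⟨z, hz⟩ : V₁) := by
        by_contra hnu
        exact h0 ((IsLocalRing.residue_eq_zero_iff _).mpr
          ((IsLocalRing.mem_maximalIdeal _).mpr hnu))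
      obtain ⟨u, hu⟩ := hu
      refine (mem_compSubring V₁ V₂).mpr ⟨((u⁻¹ : V₁ˣ) : V₁), ?_, ?_⟩
      · have e : IsLocalRing.residue V₁ ((u⁻¹ : V₁ˣ) : V₁) =
            (IsLocalRing.residue V₁ ⟨z, hz⟩)⁻¹ := by
          rw [← hu]; exact map_units_inv (IsLocalRing.residue V₁) u
        rw [e]; exact h
      · have h1 : ((u : V₁) : K) * (((u⁻¹ : V₁ˣ) : V₁) : K) = 1 :=
          congrArg Subtype.val u.mul_inv
        rw [hu] at h1
        exact eq_inv_of_mul_eq_one_right h1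

/-- The composite valuation subring. -/
def comp : ValuationSubring K :=
  { compSubring V₁ V₂ with
    mem_or_inv_mem' := fun z => by
      rcases V₁.mem_or_inv_mem z with hz | hz
      · exact comp_key V₁ V₂ z hz
      · rcases comp_key V₁ V₂ z⁻¹ hz with h | h
        · exact Or.inr h
        · exact Or.inl (by rwa [inv_inv] at h) }

lemma mem_comp {z : K} : z ∈ comp V₁ V₂ ↔
    ∃ v : V₁, IsLocalRing.residue V₁ v ∈ V₂ ∧ (v : K) = z :=
  mem_compSubring V₁ V₂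

end composite

lemma mem_maximalIdeal_iff' {K : Type u} [Field K] (V : ValuationSubring K) (x : V) :
    x ∈ IsLocalRing.maximalIdeal V ↔ ¬ ∃ y ∈ V, (x : K) * y = 1 := by
  rw [IsLocalRing.mem_maximalIdeal, mem_nonunits_iff, isUnit_iff_exists_inv]
  apply not_congr
  constructor
  · rintro ⟨b, hb⟩; exact ⟨b, b.2, congrArg Subtype.val hb⟩
  · rintro ⟨y, hy, h⟩; exact ⟨⟨y, hy⟩, Subtype.ext h⟩

theorem exists_dom {A : Type u} [CommRing A] (𝔭 : Ideal A) [𝔭.IsPrime] {k : Type u} [Field k]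
    (g : A →+* k) (hg : ∀ a, g a = 0 → a ∈ 𝔭) :
    ∃ V : ValuationSubring k, (∀ a, g a ∈ V) ∧ ∀ a, (∃ y ∈ V, g a * y = 1) ↔ a ∉ 𝔭 := by
  have hunits : ∀ y : 𝔭.primeCompl, IsUnit (g y) := fun y =>
    IsUnit.mk0 _ (fun h0 => y.2 (hg _ h0))
  obtain ⟨F, hF⟩ : ∃ F : Localization.AtPrime 𝔭 →+* k, ∀ a, F (algebraMap A _ a) = g a :=
    ⟨IsLocalization.lift hunits, fun a => IsLocalization.lift_eq _ a⟩
  obtain ⟨V, hV, hloc⟩ := IsLocalRing.exists_factor_valuationRing F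
  have hmem : ∀ a, g a ∈ V := fun a => by rw [← hF a]; exact hV _
  refine ⟨V, hmem, fun a => ⟨?_, ?_⟩⟩
  · rintro ⟨y, hy, h⟩
    have hu : IsUnit (F.codRestrict V.toSubring hV (algebraMap A _ a)) := by
      rw [isUnit_iff_exists_inv]
      refine ⟨⟨y, hy⟩, Subtype.ext ?_⟩
      show F (algebraMap A _ a) * y = 1
      rw [hF]; exact h
    have h2 := hloc.map_nonunit _ hu
    exact (IsLocalization.AtPrime.isUnit_to_map_iff (Localization.AtPrime 𝔭) 𝔭 a).mp h2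
  · intro ha
    have hu : IsUnit (algebraMap A (Localization.AtPrime 𝔭) a) :=
      (IsLocalization.AtPrime.isUnit_to_map_iff (Localization.AtPrime 𝔭) 𝔭 a).mpr ha
    have hu' := hu.map (F.codRestrict V.toSubring hV)
    rw [isUnit_iff_exists_inv] at hu'
    obtain ⟨b, hb⟩ := hu'
    refine ⟨b.1, b.2, ?_⟩
    have h2 : F (algebraMap A _ a) * b.1 = 1 := congrArg Subtype.val hb
    rw [← hF a]; exact h2

theorem exists_rank_two {A : Type u} [CommRing A] (𝔭₁ 𝔭₂ 𝔭₃ : Ideal A) [𝔭₁.IsPrime] [𝔭₂.IsPrime]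
    [𝔭₃.IsPrime] (h12 : 𝔭₁ ≤ 𝔭₂) (h23 : 𝔭₂ ≤ 𝔭₃) :
    ∃ (V : ValuationSubring (FractionRing (A ⧸ 𝔭₁))) (φ : A →+* V),
      (∀ a, ((φ a : V) : FractionRing (A ⧸ 𝔭₁)) =
        algebraMap (A ⧸ 𝔭₁) (FractionRing (A ⧸ 𝔭₁)) (Ideal.Quotient.mk 𝔭₁ a)) ∧
      (∃ 𝔮 : Ideal V, 𝔮.IsPrime ∧ 𝔮.comap φ = 𝔭₂) ∧
        (IsLocalRing.maximalIdeal V).comap φ = 𝔭₃ := by
  have hinj : Function.Injective (algebraMap (A ⧸ 𝔭₁) (FractionRing (A ⧸ 𝔭₁))) :=
    IsFractionRing.injective _ _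
  obtain ⟨ι, hι⟩ : ∃ ι : A →+* FractionRing (A ⧸ 𝔭₁),
      ∀ a, ι a = algebraMap (A ⧸ 𝔭₁) _ (Ideal.Quotient.mk 𝔭₁ a) :=
    ⟨(algebraMap _ _).comp (Ideal.Quotient.mk 𝔭₁), fun a => rfl⟩
  have hι0 : ∀ a, ι a = 0 → a ∈ 𝔭₁ := fun a h => by
    rw [hι, map_eq_zero_iff _ hinj, Ideal.Quotient.eq_zero_iff_mem] at h; exact h
  obtain ⟨V₁, hm₁, hu₁⟩ := exists_dom 𝔭₂ ι (fun a h => h12 (hι0 a h))
  obtain ⟨φ₁, hφ₁⟩ : ∃ φ₁ : A →+* V₁, ∀ a, ((φ₁ a : V₁) : FractionRing (A ⧸ 𝔭₁)) = ι a :=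
    ⟨ι.codRestrict V₁ hm₁, fun a => rfl⟩
  have hφ₁m : ∀ a, φ₁ a ∈ IsLocalRing.maximalIdeal V₁ ↔ a ∈ 𝔭₂ := fun a => by
    rw [mem_maximalIdeal_iff', hφ₁, hu₁, not_not]
  obtain ⟨ρ₂, hρ₂⟩ : ∃ ρ₂ : A →+* IsLocalRing.ResidueField V₁,
      ∀ a, ρ₂ a = IsLocalRing.residue V₁ (φ₁ a) :=
    ⟨(IsLocalRing.residue V₁).comp φ₁, fun a => rfl⟩
  have hρ₂0 : ∀ a, ρ₂ a = 0 → a ∈ 𝔭₂ := fun a h => by
    rw [hρ₂, IsLocalRing.residue_eq_zero_iff] at h; exact (hφ₁m a).mp h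
  obtain ⟨V₂, hm₂, hu₂⟩ := exists_dom 𝔭₃ ρ₂ (fun a h => h23 (hρ₂0 a h))
  have hmemV : ∀ a, ι a ∈ comp V₁ V₂ := fun a =>
    (mem_comp V₁ V₂).mpr ⟨φ₁ a, by rw [← hρ₂]; exact hm₂ a, hφ₁ a⟩
  obtain ⟨φ, hφ⟩ : ∃ φ : A →+* comp V₁ V₂,
      ∀ a, ((φ a : comp V₁ V₂) : FractionRing (A ⧸ 𝔭₁)) = ι a :=
    ⟨ι.codRestrict (comp V₁ V₂) hmemV, fun a => rfl⟩
  refine ⟨comp V₁ V₂, φ, fun a => by rw [hφ, hι], ?_, ?_⟩
  · have hsub : ∀ v : comp V₁ V₂, (v : FractionRing (A ⧸ 𝔭₁)) ∈ V₁ := fun v => by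
      obtain ⟨v₁, -, h⟩ := (mem_comp V₁ V₂).mp v.2
      rw [← h]; exact v₁.2
    obtain ⟨incl, hincl⟩ : ∃ incl : comp V₁ V₂ →+* V₁,
        ∀ v, ((incl v : V₁) : FractionRing (A ⧸ 𝔭₁)) = v :=
      ⟨(comp V₁ V₂).subtype.codRestrict V₁ hsub, fun v => rfl⟩
    refine ⟨(IsLocalRing.maximalIdeal V₁).comap incl, Ideal.comap_isPrime _ _, ?_⟩
    ext a
    rw [Ideal.mem_comap, Ideal.mem_comap, ← hφ₁m]
    have e : incl (φ a) = φ₁ a := Subtype.ext (by rw [hincl, hφ, hφ₁])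
    rw [e]
  · ext a
    rw [Ideal.mem_comap, mem_maximalIdeal_iff', hφ, ← not_iff_not, not_not]
    constructor
    · rintro ⟨y, hy, h⟩
      obtain ⟨v₁, hv₁, rfl⟩ := (mem_comp V₁ V₂).mp hy
      have h1 : φ₁ a * v₁ = 1 :=
        Subtype.ext (show ((φ₁ a : V₁) : FractionRing (A ⧸ 𝔭₁)) * (v₁ : _) = 1 by
          rw [hφ₁]; exact h)
      have h2 : ρ₂ a * IsLocalRing.residue V₁ v₁ = 1 := by
        rw [hρ₂, ← map_mul, h1, map_one]
      exact (hu₂ a).mp ⟨_, hv₁, h2⟩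
    · intro ha
      obtain ⟨w, hw, h⟩ := (hu₂ a).mpr ha
      have ha₂ : a ∉ 𝔭₂ := fun h' => ha (h23 h')
      obtain ⟨y, hy, hy1⟩ := (hu₁ a).mpr ha₂
      refine ⟨y, (mem_comp V₁ V₂).mpr ⟨⟨y, hy⟩, ?_, rfl⟩, hy1⟩
      have h1 : φ₁ a * ⟨y, hy⟩ = 1 :=
        Subtype.ext (show ((φ₁ a : V₁) : FractionRing (A ⧸ 𝔭₁)) * y = 1 by
          rw [hφ₁]; exact hy1)
      have h2 : ρ₂ a * IsLocalRing.residue V₁ ⟨y, hy⟩ = 1 := by
        rw [hρ₂, ← map_mul, h1, map_one]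
      have hne : ρ₂ a ≠ 0 := fun h0 => by
        rw [h0, zero_mul] at h; exact zero_ne_one h
      have e : IsLocalRing.residue V₁ ⟨y, hy⟩ = w := mul_left_cancel₀ hne (h2.trans h.symm)
      rw [e]; exact hw

open Groth.Agent.Lib.ReflSpec_helper7 in
theorem three_chain_aux {X Y : Scheme.{u}} (f : Y ⟶ X) [Mono f]
    (hV : ∀ S : ValuativeCommSq f,
        (∃ l₀ : Spec (CommRingCat.of (IsLocalRing.ResidueField S.R)) ⟶ Y,
            l₀ ≫ f = Spec.map (CommRingCat.ofHom (IsLocalRing.residue S.R)) ≫ S.i₂) →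
          S.commSq.HasLift)
    (B : CommRingCat.{u}) (s : Spec B ⟶ X) (p₁ p₂ p₃ : ↥(Spec B))
    (hle12 : PrimeSpectrum.asIdeal p₁ ≤ PrimeSpectrum.asIdeal p₂)
    (hle23 : PrimeSpectrum.asIdeal p₂ ≤ PrimeSpectrum.asIdeal p₃)
    (h₁ : s p₁ ∈ Set.range f) (h₃ : s p₃ ∈ Set.range f) : s p₂ ∈ Set.range f := by
  obtain ⟨𝔭₁, h𝔭₁⟩ : ∃ I : Ideal B, I = PrimeSpectrum.asIdeal p₁ := ⟨_, rfl⟩
  obtain ⟨𝔭₂, h𝔭₂⟩ : ∃ I : Ideal B, I = PrimeSpectrum.asIdeal p₂ := ⟨_, rfl⟩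
  obtain ⟨𝔭₃, h𝔭₃⟩ : ∃ I : Ideal B, I = PrimeSpectrum.asIdeal p₃ := ⟨_, rfl⟩
  haveI : 𝔭₁.IsPrime := by rw [h𝔭₁]; exact PrimeSpectrum.isPrime p₁
  haveI : 𝔭₂.IsPrime := by rw [h𝔭₂]; exact PrimeSpectrum.isPrime p₂
  haveI : 𝔭₃.IsPrime := by rw [h𝔭₃]; exact PrimeSpectrum.isPrime p₃
  rw [← h𝔭₁, ← h𝔭₂] at hle12
  rw [← h𝔭₂, ← h𝔭₃] at hle23
  obtain ⟨V, φ, hφ, ⟨𝔮, h𝔮p, h𝔮⟩, hφm⟩ := exists_rank_two 𝔭₁ 𝔭₂ 𝔭₃ hle12 hle23
  obtain ⟨Ψ, hΨ⟩ : ∃ Ψ : B ⟶ CommRingCat.of V, Ψ = CommRingCat.ofHom φ := ⟨_, rfl⟩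
  have hΨa : ∀ b : B, Ψ.hom b = φ b := fun b => by rw [hΨ]; rfl
  obtain ⟨sV, hsV⟩ : ∃ sV : Spec (CommRingCat.of V) ⟶ X, sV = Spec.map Ψ ≫ s := ⟨_, rfl⟩
  have hcl : sV (IsLocalRing.closedPoint V) = s p₃ := by
    rw [hsV]
    show s (Spec.map Ψ (IsLocalRing.closedPoint V)) = s p₃
    congr 1
    apply PrimeSpectrum.ext
    show Ideal.comap Ψ.hom (IsLocalRing.maximalIdeal V) = PrimeSpectrum.asIdeal p₃
    rw [← h𝔭₃, ← hφm]
    ext b
    rw [Ideal.mem_comap, Ideal.mem_comap, hΨa]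
  have hmid : sV (⟨𝔮, h𝔮p⟩ : PrimeSpectrum V) = s p₂ := by
    rw [hsV]
    show s (Spec.map Ψ (⟨𝔮, h𝔮p⟩ : PrimeSpectrum V)) = s p₂
    congr 1
    apply PrimeSpectrum.ext
    show Ideal.comap Ψ.hom 𝔮 = PrimeSpectrum.asIdeal p₂
    rw [← h𝔭₂, ← h𝔮]
    ext b
    rw [Ideal.mem_comap, Ideal.mem_comap, hΨa]
  obtain ⟨pt, -⟩ : ∃ pt : ↥(Spec (CommRingCat.of (FractionRing (B ⧸ 𝔭₁)))), pt = pt :=
    ⟨(⟨⊥, Ideal.bot_prime⟩ : PrimeSpectrum (FractionRing (B ⧸ 𝔭₁))), rfl⟩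
  have hptbot : PrimeSpectrum.asIdeal pt = ⊥ := by
    haveI := PrimeSpectrum.isPrime pt
    exact Ideal.eq_bot_of_prime _
  obtain ⟨alg, halg⟩ : ∃ alg : CommRingCat.of V ⟶ CommRingCat.of (FractionRing (B ⧸ 𝔭₁)),
      alg = CommRingCat.ofHom (algebraMap V (FractionRing (B ⧸ 𝔭₁))) := ⟨_, rfl⟩
  have hinj : Function.Injective (algebraMap (B ⧸ 𝔭₁) (FractionRing (B ⧸ 𝔭₁))) :=
    IsFractionRing.injective _ _
  have hgen : sV (Spec.map alg pt) = s p₁ := by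
    rw [hsV]
    show s (Spec.map Ψ (Spec.map alg pt)) = s p₁
    congr 1
    apply PrimeSpectrum.ext
    rw [← h𝔭₁]
    ext b
    show alg.hom (Ψ.hom b) ∈ PrimeSpectrum.asIdeal pt ↔ b ∈ 𝔭₁
    rw [hptbot, Ideal.mem_bot, halg, hΨa]
    show ((φ b : V) : FractionRing (B ⧸ 𝔭₁)) = 0 ↔ b ∈ 𝔭₁
    rw [hφ, map_eq_zero_iff _ hinj, Ideal.Quotient.eq_zero_iff_mem]
  haveI : Subsingleton ↥(Spec (CommRingCat.of (FractionRing (B ⧸ 𝔭₁)))) :=
    show Subsingleton (PrimeSpectrum (FractionRing (B ⧸ 𝔭₁))) from inferInstance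
  haveI : Subsingleton ↥(Spec (CommRingCat.of (IsLocalRing.ResidueField V))) :=
    show Subsingleton (PrimeSpectrum (IsLocalRing.ResidueField V)) from inferInstance
  obtain ⟨y₁, hy₁⟩ := h₁
  obtain ⟨y₃, hy₃⟩ := h₃
  obtain ⟨l₁, hl₁⟩ := Groth.Agent.Lib.MonoQC_helper7.exists_lift_of_mono f
    (Spec.map alg ≫ sV) ⟨y₁, pt, by
      show f y₁ = sV (Spec.map alg pt)
      rw [hgen, hy₁]⟩
  obtain ⟨res, hres⟩ : ∃ res : CommRingCat.of V ⟶ CommRingCat.of (IsLocalRing.ResidueField V),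
      res = CommRingCat.ofHom (IsLocalRing.residue V) := ⟨_, rfl⟩
  obtain ⟨ptk, -⟩ : ∃ ptk : ↥(Spec (CommRingCat.of (IsLocalRing.ResidueField V))), ptk = ptk :=
    ⟨(⟨⊥, Ideal.bot_prime⟩ : PrimeSpectrum (IsLocalRing.ResidueField V)), rfl⟩
  have hptkbot : PrimeSpectrum.asIdeal ptk = ⊥ := by
    haveI := PrimeSpectrum.isPrime ptk
    exact Ideal.eq_bot_of_prime _
  have hresk : Spec.map res ptk = IsLocalRing.closedPoint V := by
    apply PrimeSpectrum.ext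
    show Ideal.comap res.hom (PrimeSpectrum.asIdeal ptk) = IsLocalRing.maximalIdeal V
    rw [hptkbot, ← RingHom.ker_eq_comap_bot, hres]
    exact IsLocalRing.ker_residue
  obtain ⟨l₀, hl₀⟩ := Groth.Agent.Lib.MonoQC_helper7.exists_lift_of_mono f
    (Spec.map res ≫ sV) ⟨y₃, ptk, by
      show f y₃ = sV (Spec.map res ptk)
      rw [hresk, hcl, hy₃]⟩
  have w : l₁ ≫ f =
      Spec.map (CommRingCat.ofHom (algebraMap V (FractionRing (B ⧸ 𝔭₁)))) ≫ sV := by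
    rw [hl₁, halg]
  let S : ValuativeCommSq f :=
    { R := V, K := FractionRing (B ⧸ 𝔭₁), i₁ := l₁, i₂ := sV, commSq := ⟨w⟩, .. }
  have hlift : S.commSq.HasLift := by
    apply hV S
    refine ⟨l₀, ?_⟩
    show l₀ ≫ f = Spec.map (CommRingCat.ofHom (IsLocalRing.residue V)) ≫ sV
    rw [hl₀, hres]
  obtain ⟨⟨l, hl1, hl2⟩⟩ := hlift.exists_lift
  have hl2' : l ≫ f = sV := hl2
  refine ⟨l (⟨𝔮, h𝔮p⟩ : PrimeSpectrum V), ?_⟩
  rw [← hmid]
  exact apply_comp_eq' hl2' _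

theorem three_chain {X Y : Scheme.{u}} (f : Y ⟶ X) [Mono f]
    (hV : ∀ S : ValuativeCommSq f,
        (∃ l₀ : Spec (CommRingCat.of (IsLocalRing.ResidueField S.R)) ⟶ Y,
            l₀ ≫ f = Spec.map (CommRingCat.ofHom (IsLocalRing.residue S.R)) ≫ S.i₂) →
          S.commSq.HasLift)
    (e x x' : X) (h1 : e ⤳ x) (h2 : x ⤳ x') (he : e ∈ Set.range f) (hx' : x' ∈ Set.range f) :
    x ∈ Set.range f := by
  obtain ⟨_, ⟨U, hU0, rfl⟩, hx'U, -⟩ := X.isBasis_affineOpens.exists_subset_of_mem_open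
    (Set.mem_univ x') isOpen_univ
  have hU : IsAffineOpen U := hU0
  have hxU : x ∈ U := h2.mem_open U.2 hx'U
  have heU : e ∈ U := h1.mem_open U.2 hxU
  have hr := IsAffineOpen.range_fromSpec hU
  obtain ⟨p₃, hp₃⟩ : x' ∈ Set.range (IsAffineOpen.fromSpec hU) := by rw [hr]; exact hx'U
  obtain ⟨p₂, hp₂⟩ : x ∈ Set.range (IsAffineOpen.fromSpec hU) := by rw [hr]; exact hxU
  obtain ⟨p₁, hp₁⟩ : e ∈ Set.range (IsAffineOpen.fromSpec hU) := by rw [hr]; exact heU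
  have hind := (IsAffineOpen.fromSpec hU).isOpenEmbedding.toIsEmbedding.toIsInducing
  have h12 : p₁ ⤳ p₂ := by
    rw [← hp₁, ← hp₂] at h1; exact hind.specializes_iff.mp h1
  have h23 : p₂ ⤳ p₃ := by
    rw [← hp₂, ← hp₃] at h2; exact hind.specializes_iff.mp h2
  have hle12 : PrimeSpectrum.asIdeal p₁ ≤ PrimeSpectrum.asIdeal p₂ :=
    (PrimeSpectrum.le_iff_specializes (R := Γ(X, U)) p₁ p₂).mpr h12
  have hle23 : PrimeSpectrum.asIdeal p₂ ≤ PrimeSpectrum.asIdeal p₃ :=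
    (PrimeSpectrum.le_iff_specializes (R := Γ(X, U)) p₂ p₃).mpr h23
  have := three_chain_aux f hV Γ(X, U) (IsAffineOpen.fromSpec hU) p₁ p₂ p₃ hle12 hle23
    (by rw [hp₁]; exact he) (by rw [hp₃]; exact hx')
  rw [hp₂] at this
  exact this

theorem exists_specializes_of_mem_closure {X Y : Scheme.{u}} (f : Y ⟶ X) [QuasiCompact f]
    [LocallyOfFinitePresentation f] (x : X) (hx : x ∈ closure (Set.range f)) :
    ∃ e ∈ Set.range f, e ⤳ x := by
  obtain ⟨_, ⟨U, hU0, rfl⟩, hxU, -⟩ := X.isBasis_affineOpens.exists_subset_of_mem_open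
    (Set.mem_univ x) isOpen_univ
  have hU : IsAffineOpen U := hU0
  have hE : Topology.IsLocallyConstructible (Set.range f) := by
    rw [← Set.image_univ]
    exact f.isLocallyConstructible_image Topology.IsConstructible.univ.isLocallyConstructible
  have hj := (IsAffineOpen.fromSpec hU).isOpenEmbedding
  have hjE : Topology.IsConstructible ((IsAffineOpen.fromSpec hU) ⁻¹' Set.range f) :=
    (hE.preimage_of_isOpenEmbedding hj).isConstructible
  obtain ⟨S, _, φ, hφ⟩ := PrimeSpectrum.exists_range_eq_of_isConstructible (R := Γ(X, U)) hjE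
  obtain ⟨p, hp⟩ : x ∈ Set.range (IsAffineOpen.fromSpec hU) := by
    rw [hU.range_fromSpec]; exact hxU
  have hpc : p ∈ closure ((IsAffineOpen.fromSpec hU) ⁻¹' Set.range f) := by
    apply hj.isOpenMap.preimage_closure_subset_closure_preimage
    show (IsAffineOpen.fromSpec hU) p ∈ closure (Set.range f)
    rw [hp]; exact hx
  have hpc' : (p : PrimeSpectrum Γ(X, U)) ∈ PrimeSpectrum.zeroLocus (RingHom.ker φ : Set Γ(X, U)) := by
    have h0 := PrimeSpectrum.closure_range_comap φ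
    rw [← h0, hφ]
    exact hpc
  have hker : (⊥ : Ideal S).comap φ ≤ PrimeSpectrum.asIdeal p := by
    rw [← RingHom.ker_eq_comap_bot]
    exact (PrimeSpectrum.mem_zeroLocus _ _).mp hpc'
  haveI := PrimeSpectrum.isPrime p
  obtain ⟨Q, -, hQ, hQle⟩ := Ideal.exists_ideal_comap_le_prime (f := φ) (PrimeSpectrum.asIdeal p) ⊥ hker
  have hmem : PrimeSpectrum.comap φ ⟨Q, hQ⟩ ∈ (IsAffineOpen.fromSpec hU) ⁻¹' Set.range f := by
    rw [← hφ]; exact ⟨_, rfl⟩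
  refine ⟨(IsAffineOpen.fromSpec hU) (PrimeSpectrum.comap φ ⟨Q, hQ⟩), hmem, ?_⟩
  rw [← hp]
  have hsp : (PrimeSpectrum.comap φ ⟨Q, hQ⟩ : PrimeSpectrum Γ(X, U)) ⤳ p :=
    (PrimeSpectrum.le_iff_specializes (R := Γ(X, U)) _ p).mp hQle
  exact hsp.map (IsAffineOpen.fromSpec hU).continuous

theorem isOpen_W {X Y : Scheme.{u}} [IsLocallyNoetherian X] (f : Y ⟶ X) [QuasiCompact f]
    [LocallyOfFinitePresentation f]
    (h3 : ∀ e x x' : X, e ⤳ x → x ⤳ x' → e ∈ Set.range f → x' ∈ Set.range f →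
      x ∈ Set.range f) :
    IsOpen (Set.range f ∪ (closure (Set.range f))ᶜ) := by
  have hE : Topology.IsLocallyConstructible (Set.range f) := by
    rw [← Set.image_univ]
    exact f.isLocallyConstructible_image Topology.IsConstructible.univ.isLocallyConstructible
  have hgen : ∀ w w' : X, w ∈ Set.range f ∪ (closure (Set.range f))ᶜ → w' ⤳ w →
      w' ∈ Set.range f ∪ (closure (Set.range f))ᶜ := by
    intro w w' hw hsp
    by_cases hw' : w' ∈ closure (Set.range f)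
    · left
      have hwc : w ∈ closure (Set.range f) := hsp.mem_closed isClosed_closure hw'
      have hwE : w ∈ Set.range f := by
        rcases hw with h | h
        · exact h
        · exact absurd hwc h
      obtain ⟨e, he, hew'⟩ := exists_specializes_of_mem_closure f w' hw'
      exact h3 e w' w hew' hsp he hwE
    · right; exact hw'
  rw [isOpen_iff_forall_mem_open]
  intro w hw
  obtain ⟨_, ⟨U, hU0, rfl⟩, hwU, -⟩ := X.isBasis_affineOpens.exists_subset_of_mem_open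
    (Set.mem_univ w) isOpen_univ
  have hU : IsAffineOpen U := hU0
  haveI : IsNoetherianRing Γ(X, U) := IsLocallyNoetherian.component_noetherian ⟨U, hU0⟩
  haveI : TopologicalSpace.NoetherianSpace ↥(Spec Γ(X, U)) :=
    show TopologicalSpace.NoetherianSpace (PrimeSpectrum Γ(X, U)) from inferInstance
  have hj := (IsAffineOpen.fromSpec hU).isOpenEmbedding
  have hs_open : IsOpen ((IsAffineOpen.fromSpec hU) ⁻¹'
      (Set.range f ∪ (closure (Set.range f))ᶜ)) := by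
    apply PrimeSpectrum.isOpen_of_stableUnderGeneralization_of_isConstructible (R := Γ(X, U))
    · intro p p' hpp' hp
      exact hgen _ _ hp (hpp'.map (IsAffineOpen.fromSpec hU).continuous)
    · rw [Set.preimage_union, Set.preimage_compl]
      refine Topology.IsConstructible.union ?_ ?_
      · exact (hE.preimage_of_isOpenEmbedding hj).isConstructible
      · have ho : IsOpen ((IsAffineOpen.fromSpec hU) ⁻¹' closure (Set.range f))ᶜ :=
          (isClosed_closure.preimage (IsAffineOpen.fromSpec hU).continuous).isOpen_compl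
        exact (TopologicalSpace.NoetherianSpace.isCompact _).isConstructible ho
  refine ⟨(IsAffineOpen.fromSpec hU) '' ((IsAffineOpen.fromSpec hU) ⁻¹'
    (Set.range f ∪ (closure (Set.range f))ᶜ)), Set.image_preimage_subset _ _,
    hj.isOpenMap _ hs_open, ?_⟩
  obtain ⟨p, hp⟩ : w ∈ Set.range (IsAffineOpen.fromSpec hU) := by
    rw [hU.range_fromSpec]; exact hwU
  exact ⟨p, by rw [Set.mem_preimage, hp]; exact hw, hp⟩

open Groth.Agent.Lib.ReflSpec_helper7 in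
theorem main {X Y : Scheme.{u}} [IsLocallyNoetherian X]
    (f : Y ⟶ X) [LocallyOfFinitePresentation f] [Mono f]
    (hb : ∀ S : ValuativeCommSq f, IsDiscreteValuationRing S.R →
        (∃ l₀ : Spec (CommRingCat.of (IsLocalRing.ResidueField S.R)) ⟶ Y,
            l₀ ≫ f = Spec.map (CommRingCat.ofHom (IsLocalRing.residue S.R)) ≫ S.i₂) →
          S.commSq.HasLift)
    (hc : ∀ (A : Type u) [CommRing A] [IsDomain A] (s : Spec (CommRingCat.of A) ⟶ X)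
        (D : Set ↥(Spec (CommRingCat.of A))),
        Dense D →
        (∀ p ∈ D, ∃ l : Spec ((Spec (CommRingCat.of A)).residueField p) ⟶ Y,
            l ≫ f = (Spec (CommRingCat.of A)).fromSpecResidueField p ≫ s) →
          ∃ U : (Spec (CommRingCat.of A)).Opens, (U : Set ↥(Spec (CommRingCat.of A))).Nonempty ∧
            ∃ l : (U : Scheme.{u}) ⟶ Y, l ≫ f = U.ι ≫ s) :
    IsImmersion f := by
  haveI : QuasiCompact f := Groth.Agent.Lib.MonoQC_helper7.main f hc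
  have hrefl := Groth.Agent.Lib.ReflSpecDVR_helper7.main f hb
  have hV := (Groth.Agent.S15344.result f).mp hrefl
  have h3 : ∀ e x x' : X, e ⤳ x → x ⤳ x' → e ∈ Set.range f → x' ∈ Set.range f →
      x ∈ Set.range f := fun e x x' h1 h2 he hx' => three_chain f hV e x x' h1 h2 he hx'
  have hWo := isOpen_W f h3
  obtain ⟨W, hW⟩ : ∃ W : X.Opens, (W : Set X) = Set.range f ∪ (closure (Set.range f))ᶜ :=
    ⟨⟨_, hWo⟩, rfl⟩
  have hfW : Set.range f ⊆ Set.range W.ι := by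
    rw [Scheme.Opens.range_ι, hW]; exact Set.subset_union_left
  obtain ⟨f', hf'⟩ : ∃ f' : Y ⟶ W.toScheme, f' ≫ W.ι = f :=
    ⟨IsOpenImmersion.lift W.ι f hfW, IsOpenImmersion.lift_fac _ _ _⟩
  haveI : Mono f' := mono_of_mono_fac hf'
  haveI : QuasiCompact f' := by
    haveI : QuasiCompact (f' ≫ W.ι) := by rw [hf']; infer_instance
    exact QuasiCompact.of_comp f' W.ι
  haveI : LocallyOfFiniteType f' := by
    haveI : LocallyOfFiniteType (f' ≫ W.ι) := by rw [hf']; infer_instance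
    exact locallyOfFiniteType_of_comp f' W.ι
  have huc : UniversallyClosed f' := by
    apply UniversallyClosed.of_valuativeCriterion
    intro S
    have w : S.i₁ ≫ f =
        Spec.map (CommRingCat.ofHom (algebraMap S.R S.K)) ≫ (S.i₂ ≫ W.ι) := by
      rw [← hf', ← Category.assoc, S.commSq.w, Category.assoc]
    let S₀ : ValuativeCommSq f :=
      { R := S.R, K := S.K, i₁ := S.i₁, i₂ := S.i₂ ≫ W.ι, commSq := ⟨w⟩ }
    -- the closed point lands in the image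
    have hz : (S.i₂ ≫ W.ι) (IsLocalRing.closedPoint S.R) ∈ Set.range f := by
      have hzW : (S.i₂ ≫ W.ι) (IsLocalRing.closedPoint S.R) ∈
          Set.range f ∪ (closure (Set.range f))ᶜ := by
        have : (S.i₂ ≫ W.ι) (IsLocalRing.closedPoint S.R) ∈ Set.range W.ι :=
          ⟨S.i₂ (IsLocalRing.closedPoint S.R), rfl⟩
        rw [Scheme.Opens.range_ι, hW] at this
        exact this
      obtain ⟨pt, -⟩ : ∃ pt : ↥(Spec (CommRingCat.of S.K)), pt = pt :=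
        ⟨(⟨⊥, Ideal.bot_prime⟩ : PrimeSpectrum S.K), rfl⟩
      have hsp : (Spec.map (CommRingCat.ofHom (algebraMap S.R S.K)) pt :
          ↥(Spec (CommRingCat.of S.R))) ⤳ IsLocalRing.closedPoint S.R :=
        IsLocalRing.specializes_closedPoint (R := S.R) _
      have hsp' := hsp.map (S.i₂ ≫ W.ι).continuous
      have hgenE : (S.i₂ ≫ W.ι) (Spec.map (CommRingCat.ofHom (algebraMap S.R S.K)) pt) ∈
          Set.range f := ⟨S.i₁ pt, apply_comp_eq w pt⟩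
      have hcl : (S.i₂ ≫ W.ι) (IsLocalRing.closedPoint S.R) ∈ closure (Set.range f) :=
        hsp'.mem_closed isClosed_closure (subset_closure hgenE)
      rcases hzW with h | h
      · exact h
      · exact absurd hcl h
    obtain ⟨y, hy⟩ := hz
    haveI : Subsingleton ↥(Spec (CommRingCat.of (IsLocalRing.ResidueField S.R))) :=
      show Subsingleton (PrimeSpectrum (IsLocalRing.ResidueField S.R)) from inferInstance
    obtain ⟨ptk, -⟩ : ∃ ptk : ↥(Spec (CommRingCat.of (IsLocalRing.ResidueField S.R))),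
        ptk = ptk :=
      ⟨(⟨⊥, Ideal.bot_prime⟩ : PrimeSpectrum (IsLocalRing.ResidueField S.R)), rfl⟩
    have hptkbot : PrimeSpectrum.asIdeal ptk = ⊥ := by
      haveI := PrimeSpectrum.isPrime ptk
      exact Ideal.eq_bot_of_prime _
    have hresk : Spec.map (CommRingCat.ofHom (IsLocalRing.residue S.R)) ptk =
        IsLocalRing.closedPoint S.R := by
      apply PrimeSpectrum.ext
      show Ideal.comap (IsLocalRing.residue S.R) (PrimeSpectrum.asIdeal ptk) =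
        IsLocalRing.maximalIdeal S.R
      rw [hptkbot, ← RingHom.ker_eq_comap_bot]
      exact IsLocalRing.ker_residue
    obtain ⟨l₀, hl₀⟩ := Groth.Agent.Lib.MonoQC_helper7.exists_lift_of_mono f
      (Spec.map (CommRingCat.ofHom (IsLocalRing.residue S.R)) ≫ (S.i₂ ≫ W.ι)) ⟨y, ptk, by
        show f y = (S.i₂ ≫ W.ι) (Spec.map (CommRingCat.ofHom (IsLocalRing.residue S.R)) ptk)
        rw [hresk, hy]⟩
    have hlift : S₀.commSq.HasLift := hV S₀ ⟨l₀, hl₀⟩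
    obtain ⟨⟨l, hl1, hl2⟩⟩ := hlift.exists_lift
    have hl2' : l ≫ f = S.i₂ ≫ W.ι := hl2
    have hfac : l ≫ f' = S.i₂ := by
      rw [← cancel_mono W.ι, Category.assoc, hf']; exact hl2'
    exact ⟨⟨⟨l, hl1, hfac⟩⟩⟩
  haveI : IsProper f' := (isProper_iff f').mpr ⟨inferInstance, huc, inferInstance⟩
  haveI : IsClosedImmersion f' :=
    (IsClosedImmersion.iff_isProper_and_mono (f := f')).mpr ⟨inferInstance, inferInstance⟩
  rw [← hf']
  infer_instance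

end Groth.Agent.Lib.MonoImm_helper7
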