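import Mathlib
import Groth.Agent.Lib.MonoImm_helper7

/-! # Local structure of unramified morphisms of schemes, and some Noetherian topology (helper7) -/

set_option autoImplicit false
set_option linter.style.haveILetI false

universe u

open CategoryTheory CategoryTheory.Limits AlgebraicGeometry

namespace Groth.Agent.Lib.UnramLocal_helper7

/-- A formally unramified morphism locally of finite type is, locally on the source, a closed
immersion into a scheme étale over the target. -/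
theorem exists_etale_closedImmersion {U V : Scheme.{u}} (g : U ⟶ V) [LocallyOfFiniteType g]
    [FormallyUnramified g] (u : U) :
    ∃ (W : Scheme.{u}) (e : W ⟶ V) (U' : U.Opens) (i : (U' : Scheme.{u}) ⟶ W),
      IsAffine W ∧ Etale e ∧ IsClosedImmersion i ∧ u ∈ U' ∧ i ≫ e = U'.ι ≫ g := by
  obtain ⟨_, ⟨V₁, hV₁0, rfl⟩, hgV₁, -⟩ := V.isBasis_affineOpens.exists_subset_of_mem_open
    (Set.mem_univ (g u)) isOpen_univ
  have hV₁ : IsAffineOpen V₁ := hV₁0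
  obtain ⟨_, ⟨U₁, hU₁0, rfl⟩, huU₁, hU₁V₁⟩ := U.isBasis_affineOpens.exists_subset_of_mem_open
    (show u ∈ ((g ⁻¹ᵁ V₁ : U.Opens) : Set U) from hgV₁) (g ⁻¹ᵁ V₁).2
  have hU₁ : IsAffineOpen U₁ := hU₁0
  have hle : U₁ ≤ g ⁻¹ᵁ V₁ := hU₁V₁
  have hft := g.finiteType_appLE hV₁ hU₁ hle
  have hfu := g.formallyUnramified_appLE hV₁ hU₁ hle
  have hnat := IsAffineOpen.SpecMap_appLE_fromSpec g hV₁ hU₁ hle
  obtain ⟨φ, hφ⟩ : ∃ φ : Γ(V, V₁) →+* Γ(U, U₁), φ = (g.appLE V₁ U₁ hle).hom := ⟨_, rfl⟩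
  have hφ' : CommRingCat.ofHom φ = g.appLE V₁ U₁ hle := by rw [hφ]; rfl
  rw [← hφ] at hft hfu
  rw [← hφ'] at hnat
  algebraize [φ]
  obtain ⟨Q, hQ⟩ : ∃ Q : PrimeSpectrum Γ(U, U₁), hU₁.fromSpec Q = u :=
    ⟨hU₁.primeIdealOf ⟨u, huU₁⟩, hU₁.fromSpec_primeIdealOf ⟨u, huU₁⟩⟩
  haveI : Algebra.IsUnramifiedAt Γ(V, V₁) Q.asIdeal :=
    Algebra.formallyUnramified_iff_forall.mp inferInstance Q
  obtain ⟨f, hfQ, P, ψ, hψ⟩ :=
    Algebra.IsUnramifiedAt.exists_hasStandardEtaleSurjectionOn (R := Γ(V, V₁)) Q.asIdeal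
  -- the open immersion `D(f) ⟶ U`
  obtain ⟨j, hj⟩ : ∃ j : Spec (CommRingCat.of (Localization.Away f)) ⟶ U,
      j = Spec.map (CommRingCat.ofHom (algebraMap Γ(U, U₁) (Localization.Away f))) ≫
        hU₁.fromSpec := ⟨_, rfl⟩
  haveI : IsOpenImmersion j := by rw [hj]; infer_instance
  -- the étale scheme
  obtain ⟨e, he⟩ : ∃ e : Spec (CommRingCat.of P.Ring) ⟶ V,
      e = Spec.map (CommRingCat.ofHom (algebraMap Γ(V, V₁) P.Ring)) ≫ hV₁.fromSpec := ⟨_, rfl⟩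
  have hee : Etale e := by
    rw [he]
    haveI : Etale (Spec.map (CommRingCat.ofHom (algebraMap Γ(V, V₁) P.Ring))) := by
      rw [HasRingHomProperty.Spec_iff (P := @Etale)]
      exact RingHom.etale_algebraMap.mpr inferInstance
    infer_instance
  refine ⟨Spec (CommRingCat.of P.Ring), e, j.opensRange,
    j.isoOpensRange.inv ≫ Spec.map (CommRingCat.ofHom ψ.toRingHom), inferInstance, hee, ?_, ?_, ?_⟩
  · haveI : IsClosedImmersion (Spec.map (CommRingCat.ofHom ψ.toRingHom)) :=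
      IsClosedImmersion.spec_of_surjective _ hψ
    infer_instance
  · have hQf : Q ∈ Set.range (PrimeSpectrum.comap (algebraMap Γ(U, U₁) (Localization.Away f))) := by
      rw [PrimeSpectrum.localization_away_comap_range (Localization.Away f) f]
      exact hfQ
    obtain ⟨q, hq⟩ := hQf
    refine ⟨q, ?_⟩
    rw [hj, ← hQ, ← hq]
    rfl
  · have h1 : ψ.toRingHom.comp (algebraMap Γ(V, V₁) P.Ring) =
        (algebraMap Γ(U, U₁) (Localization.Away f)).comp φ := by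
      ext r
      have := ψ.commutes r
      rw [IsScalarTower.algebraMap_apply Γ(V, V₁) Γ(U, U₁) (Localization.Away f)] at this
      exact this
    have h2 : Spec.map (CommRingCat.ofHom ψ.toRingHom) ≫
        Spec.map (CommRingCat.ofHom (algebraMap Γ(V, V₁) P.Ring)) =
        Spec.map (CommRingCat.ofHom (algebraMap Γ(U, U₁) (Localization.Away f))) ≫
          Spec.map (CommRingCat.ofHom φ) := by
      rw [← Spec.map_comp, ← Spec.map_comp, ← CommRingCat.ofHom_comp, ← CommRingCat.ofHom_comp, h1]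
    rw [he, Category.assoc, ← Category.assoc (Spec.map _) (Spec.map _), h2, Category.assoc, hnat,
      ← Category.assoc (Spec.map _), ← hj, Scheme.Hom.isoOpensRange_inv_comp_assoc]

/-- In a locally Noetherian scheme, points of the closure of the image of a closed subset under
a morphism of finite type from a quasi-compact scheme are specializations of points of the
image. -/
theorem exists_specializes_of_mem_closure_image {U W : Scheme.{u}} [IsLocallyNoetherian W]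
    (g : U ⟶ W) [LocallyOfFiniteType g] [CompactSpace U] (T : Set U) (hT : IsClosed T) (w : W)
    (hw : w ∈ closure (g '' T)) : ∃ t ∈ T, g t ⤳ w := by
  obtain ⟨I, hI⟩ : ∃ I : U.IdealSheafData, I = Scheme.IdealSheafData.vanishingIdeal ⟨T, hT⟩ :=
    ⟨_, rfl⟩
  have hr : Set.range I.subschemeι = T := by
    rw [Scheme.IdealSheafData.range_subschemeι, hI]
    exact Scheme.IdealSheafData.coe_support_vanishingIdeal ⟨T, hT⟩
  haveI : CompactSpace I.subscheme := I.subschemeι.isClosedEmbedding.compactSpace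
  haveI : LocallyOfFinitePresentation (I.subschemeι ≫ g) :=
    LocallyOfFinitePresentation.iff_locallyOfFiniteType.mpr inferInstance
  haveI : QuasiCompact (I.subschemeι ≫ g) := quasiCompact_of_compactSpace _
  have hrange : Set.range (I.subschemeι ≫ g) = g '' T := by
    rw [← hr]
    ext x
    constructor
    · rintro ⟨z, rfl⟩
      exact ⟨I.subschemeι z, ⟨z, rfl⟩, rfl⟩
    · rintro ⟨_, ⟨z, rfl⟩, rfl⟩
      exact ⟨z, rfl⟩
  obtain ⟨e, he, hew⟩ := Groth.Agent.Lib.MonoImm_helper7.exists_specializes_of_mem_closure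
    (I.subschemeι ≫ g) w (by rw [hrange]; exact hw)
  rw [hrange] at he
  obtain ⟨t, ht, rfl⟩ := he
  exact ⟨t, ht, hew⟩

/-- A nontrivial specialization in a locally Noetherian scheme is realized by a discrete
valuation ring. -/
theorem exists_dvr_of_specializes {W : Scheme.{u}} [IsLocallyNoetherian W] (b w : W)
    (h : b ⤳ w) (hne : b ≠ w) :
    ∃ (A : Type u) (_ : CommRing A) (_ : IsDomain A) (_ : IsDiscreteValuationRing A)
      (a : Spec (CommRingCat.of A) ⟶ W) (η : ↥(Spec (CommRingCat.of A))),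
      PrimeSpectrum.asIdeal η = ⊥ ∧ a (IsLocalRing.closedPoint A) = w ∧ a η = b := by
  obtain ⟨_, ⟨W₁, hW₁0, rfl⟩, hwW₁, -⟩ := W.isBasis_affineOpens.exists_subset_of_mem_open
    (Set.mem_univ w) isOpen_univ
  have hW₁ : IsAffineOpen W₁ := hW₁0
  have hbW₁ : b ∈ W₁ := h.mem_open W₁.2 hwW₁
  haveI : IsNoetherianRing Γ(W, W₁) := IsLocallyNoetherian.component_noetherian ⟨W₁, hW₁0⟩
  have hr := hW₁.range_fromSpec
  obtain ⟨p₀, hp₀⟩ : w ∈ Set.range hW₁.fromSpec := by rw [hr]; exact hwW₁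
  obtain ⟨p₁, hp₁⟩ : b ∈ Set.range hW₁.fromSpec := by rw [hr]; exact hbW₁
  have hind := hW₁.fromSpec.isOpenEmbedding.toIsEmbedding.toIsInducing
  have h10 : p₁ ⤳ p₀ := by
    rw [← hp₁, ← hp₀] at h; exact hind.specializes_iff.mp h
  have hle : PrimeSpectrum.asIdeal p₁ ≤ PrimeSpectrum.asIdeal p₀ :=
    (PrimeSpectrum.le_iff_specializes (R := Γ(W, W₁)) p₁ p₀).mpr h10
  have hne' : p₁ ≠ p₀ := fun e => hne (by rw [← hp₁, ← hp₀, e])
  obtain ⟨𝔭₁, h𝔭₁⟩ : ∃ I : Ideal Γ(W, W₁), I = PrimeSpectrum.asIdeal p₁ := ⟨_, rfl⟩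
  obtain ⟨𝔭₀, h𝔭₀⟩ : ∃ I : Ideal Γ(W, W₁), I = PrimeSpectrum.asIdeal p₀ := ⟨_, rfl⟩
  haveI : 𝔭₁.IsPrime := by rw [h𝔭₁]; exact PrimeSpectrum.isPrime p₁
  haveI : 𝔭₀.IsPrime := by rw [h𝔭₀]; exact PrimeSpectrum.isPrime p₀
  rw [← h𝔭₁, ← h𝔭₀] at hle
  have hmk : Function.Surjective (Ideal.Quotient.mk 𝔭₁) := Ideal.Quotient.mk_surjective
  have hker : RingHom.ker (Ideal.Quotient.mk 𝔭₁) ≤ 𝔭₀ := by rw [Ideal.mk_ker]; exact hle
  haveI h𝔮p : (𝔭₀.map (Ideal.Quotient.mk 𝔭₁)).IsPrime := Ideal.map_isPrime_of_surjective hmk hker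
  have hcomap : (𝔭₀.map (Ideal.Quotient.mk 𝔭₁)).comap (Ideal.Quotient.mk 𝔭₁) = 𝔭₀ := by
    rw [Ideal.comap_map_of_surjective _ hmk, ← RingHom.ker_eq_comap_bot, sup_eq_left.mpr hker]
  have h𝔮 : 𝔭₀.map (Ideal.Quotient.mk 𝔭₁) ≠ ⊥ := by
    intro hbot
    apply hne'
    apply PrimeSpectrum.ext
    have : 𝔭₀ = 𝔭₁ := by
      rw [← hcomap, hbot, ← RingHom.ker_eq_comap_bot, Ideal.mk_ker]
    rw [← h𝔭₁, ← h𝔭₀]; exact this.symm
  obtain ⟨R, hR, χ, hχ, hχm⟩ := Groth.Agent.Lib.ReflSpecDVR_helper7.exists_dvr_center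
    (Γ(W, W₁) ⧸ 𝔭₁) (𝔭₀.map (Ideal.Quotient.mk 𝔭₁)) h𝔮
  obtain ⟨Ψ, hΨ⟩ : ∃ Ψ : Γ(W, W₁) ⟶ CommRingCat.of R,
      Ψ = CommRingCat.ofHom (χ.comp (Ideal.Quotient.mk 𝔭₁)) := ⟨_, rfl⟩
  have hΨa : ∀ b : Γ(W, W₁), Ψ.hom b = χ (Ideal.Quotient.mk 𝔭₁ b) := fun b => by rw [hΨ]; rfl
  have hinj : Function.Injective (algebraMap (Γ(W, W₁) ⧸ 𝔭₁) (FractionRing (Γ(W, W₁) ⧸ 𝔭₁))) :=
    IsFractionRing.injective _ _
  obtain ⟨η, hη⟩ : ∃ η : ↥(Spec (CommRingCat.of R)), PrimeSpectrum.asIdeal η = ⊥ :=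
    ⟨(⟨⊥, Ideal.bot_prime⟩ : PrimeSpectrum R), rfl⟩
  refine ⟨R, inferInstance, inferInstance, hR, Spec.map Ψ ≫ hW₁.fromSpec, η, hη, ?_, ?_⟩
  · rw [← hp₀]
    show hW₁.fromSpec (Spec.map Ψ (IsLocalRing.closedPoint R)) = hW₁.fromSpec p₀
    congr 1
    apply PrimeSpectrum.ext
    show Ideal.comap Ψ.hom (IsLocalRing.maximalIdeal R) = PrimeSpectrum.asIdeal p₀
    rw [← h𝔭₀, ← hcomap, ← hχm, Ideal.comap_comap]
    ext b
    rw [Ideal.mem_comap, Ideal.mem_comap, hΨa]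
    rfl
  · rw [← hp₁]
    show hW₁.fromSpec (Spec.map Ψ η) = hW₁.fromSpec p₁
    congr 1
    apply PrimeSpectrum.ext
    rw [← h𝔭₁]
    ext b
    show Ψ.hom b ∈ PrimeSpectrum.asIdeal η ↔ b ∈ 𝔭₁
    rw [hη, Ideal.mem_bot, hΨa]
    have h3 : (χ (Ideal.Quotient.mk 𝔭₁ b) = 0) ↔
        ((χ (Ideal.Quotient.mk 𝔭₁ b) : R) : FractionRing (Γ(W, W₁) ⧸ 𝔭₁)) = 0 := by
      constructor
      · intro h0; rw [h0]; rfl
      · intro h0; exact Subtype.ext h0
    rw [h3, hχ, map_eq_zero_iff _ hinj, Ideal.Quotient.eq_zero_iff_mem]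

end Groth.Agent.Lib.UnramLocal_helper7
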