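import Groth.Agent.Lib.AlgStDenseLift_lead
import Groth.Agent.Lib.UnramLocal_helper7
import Groth.Agent.Lib.AlgSpUnram_helper7
import Groth.Agent.Lib.AlgSpOpen_helper7
import Groth.Agent.Lib.ImmFppf_helper7

/-! # Monomorphisms of algebraic spaces into schemes: étale local structure (helper7) -/

set_option autoImplicit false
set_option linter.style.haveILetI false
set_option backward.isDefEq.respectTransparency false
set_option backward.isDefEq.respectTransparency.types false

universe u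

open CategoryTheory CategoryTheory.Limits AlgebraicGeometry Opposite

namespace Groth.Agent.Lib.AlgSpUnramLocal

open AlgSp Groth.Agent.Lib.AlgStLocQ
  Groth.Agent.Lib.AlgSpQC_helper7 Groth.Agent.Lib.AlgSpDiag_helper7
  Groth.Agent.Lib.AlgSpPullback_helper7 Groth.Agent.Lib.AlgSpRepBySp_helper7
  Groth.Agent.Lib.AlgSpPoints_helper7 Groth.Agent.Lib.AlgSpLocP_helper7
  Groth.Agent.Lib.AlgSpBasic_helper7 Groth.Agent.Lib.AlgSpSep_helper7
  Groth.Agent.Lib.AlgSpLocP4_helper7 Groth.Agent.Lib.AlgSpLocP5_helper7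
  Groth.Agent.Lib.AlgSpLocP7_helper7 Groth.Agent.Lib.AlgSpQC2_helper7
  Groth.Agent.Lib.AlgSpLocP8_helper7 Groth.Agent.Lib.AlgSpLocP10_helper7
  Groth.Agent.Lib.AlgSpFpqc3_helper7 Groth.Agent.Lib.AlgSpLocP6_helper7
  Groth.Agent.Lib.AlgSpFpqc2_helper7 Groth.Agent.Lib.AlgSpFpqc_helper7
  Groth.Agent.Lib.AlgSpOpenSub_helper7 Groth.Agent.Lib.AlgSpOpen_helper7
  Groth.Agent.Lib.AlgSpUnram_helper7

variable {S : Scheme.{u}}

/-- The local separation property of a morphism from a sheaf to a scheme: after any étale base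
change from an affine scheme, the image of a point of an open subset is not in the closure of the
image of the complement. -/
def SepProp {X : Sp S} {V : Over S} (c : X ⟶ (yon S).obj V) : Prop :=
  ∀ (W : Over S) (e : W ⟶ V), IsAffine W.left → Etale e.left →
    ∀ (XW : Sp S) (q₁ : XW ⟶ X) (cW : XW ⟶ (yon S).obj W), IsPullback q₁ cW c ((yon S).map e) →
      ∀ (O : Set (Points XW)), IsOpen O → ∀ x₀ ∈ O, toBase cW x₀ ∉ closure (toBase cW '' Oᶜ)

theorem repWith_isOpenImmersion_of_etale_of_mono {F G : Sp S} (σ : F ⟶ G)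
    (h : RepWith @Etale σ) [Mono σ] : RepWith @IsOpenImmersion σ := by
  refine ⟨h.rep, fun T V g fst snd sq => ?_⟩
  have h1 : Etale snd.left := h.property _ _ _ sq
  haveI : Mono ((yon S).map snd) := sq.mono_snd_of_mono
  haveI : Mono snd := (yon S).mono_of_mono_map ‹_›
  haveI : Mono snd.left := inferInstance
  exact IsOpenImmersion.of_flat_of_mono snd.left

theorem toBase_map_comp {X X' : Sp S} {V V' : Over S} (c : X ⟶ (yon S).obj V)
    (c' : X' ⟶ (yon S).obj V') (a : X' ⟶ X) (j : V' ⟶ V) (h : a ≫ c = c' ≫ (yon S).map j)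
    (z : Points X') : toBase c (Points.map a z) = j.left (toBase c' z) := by
  unfold toBase
  rw [← Points.map_comp, h, Points.map_comp]
  have h1 := Points.map_yon_map_apply j (Points.toScheme V' (Points.map c' z))
  have h2 : Points.schemeHomeo V' (Points.toScheme V' (Points.map c' z)) = Points.map c' z :=
    Points.ofScheme_toScheme V' _
  rw [h2] at h1
  rw [h1]
  exact Points.toScheme_ofScheme V _

set_option maxHeartbeats 1600000 in
/-- The local piece: over an open neighbourhood of the image of `u` in the étale `W`, the base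
change of `c` is a closed immersion. -/
theorem piece {X : Sp S} (hX : IsAlgSpace X) {V : Over S} (c : X ⟶ (yon S).obj V) [Mono c]
    (hZ : SepProp c) {U : Over S} (p : (yon S).obj U ⟶ X) (hpe : RepWith @Etale p)
    {W Uo : Over S} (e : W ⟶ V) (ι' : Uo ⟶ U) (i : Uo ⟶ W) (hW : IsAffine W.left)
    (he : Etale e.left) (hι : IsOpenImmersion ι'.left) (hi : IsClosedImmersion i.left)
    (hcomm : (yon S).map i ≫ (yon S).map e = (yon S).map ι' ≫ p ≫ c) (u : ↥Uo.left) :
    ∃ (Wo Yo : Over S) (k : Wo ⟶ V) (io : Yo ⟶ Wo) (q : (yon S).obj Yo ⟶ X),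
      Etale k.left ∧ IsClosedImmersion io.left ∧ IsPullback q ((yon S).map io) c ((yon S).map k) ∧
        e.left (i.left u) ∈ Set.range k.left := by
  have hYV := IsAlgSpace.yon_obj V
  have sqW := IsPullback.of_hasPullback c ((yon S).map e)
  obtain ⟨XW, q₁, cW, sqW⟩ : ∃ (XW : Sp S) (q₁ : XW ⟶ X) (cW : XW ⟶ (yon S).obj W),
      IsPullback q₁ cW c ((yon S).map e) := ⟨_, _, _, sqW⟩
  haveI : Mono cW := sqW.mono_snd_of_mono
  have hXW : IsAlgSpace XW := isAlgSpace_of_isPullback hYV.diag hX (IsAlgSpace.yon_obj W) sqW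
  obtain ⟨σ, hσ1, hσ2⟩ : ∃ σ : (yon S).obj Uo ⟶ XW,
      σ ≫ q₁ = (yon S).map ι' ≫ p ∧ σ ≫ cW = (yon S).map i :=
    ⟨sqW.lift ((yon S).map ι' ≫ p) ((yon S).map i) (by rw [Category.assoc, ← hcomm]),
      sqW.lift_fst _ _ _, sqW.lift_snd _ _ _⟩
  have hq₁ : RepWith @Etale q₁ := repWith_fst_of_isPullback _ sqW ((repWith_yon_map_iff _ e).2 he)
  have hιe : RepWith @Etale ((yon S).map ι') :=
    (repWith_yon_map_iff _ ι').2 (inferInstance : Etale ι'.left)
  have hσe : RepWith @Etale σ := by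
    apply repWith_etale_of_comp σ q₁ _ hq₁
    rw [hσ1]
    exact (RepWith (S := S) @Etale).comp_mem _ _ hιe hpe
  haveI : Mono i.left := inferInstance
  haveI : Mono i := (Over.forget S).mono_of_mono_map ‹_›
  haveI : Mono ((yon S).map i) := inferInstance
  haveI : Mono σ := by
    haveI : Mono (σ ≫ cW) := by rw [hσ2]; infer_instance
    exact mono_of_mono σ cW
  have hσo : RepWith @IsOpenImmersion σ := repWith_isOpenImmersion_of_etale_of_mono σ hσe
  have hOopen : IsOpen (Set.range (Points.map σ)) := by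
    rw [range_map_yon]
    exact (isOpenMap_ofPt_of_etale σ hσe).isOpen_range
  have hx₀ : Points.ofPt σ u ∈ Set.range (Points.map σ) := by
    rw [range_map_yon]
    exact ⟨u, rfl⟩
  have hsep := hZ W e hW he XW q₁ cW sqW _ hOopen _ hx₀
  rw [toBase_ofPt cW σ i hσ2 u] at hsep
  obtain ⟨Wo, hWo⟩ : ∃ Wo : W.left.Opens,
      (Wo : Set ↥W.left) = (closure (toBase cW '' (Set.range (Points.map σ))ᶜ))ᶜ :=
    ⟨⟨_, isClosed_closure.isOpen_compl⟩, rfl⟩
  have hiu : i.left u ∈ (Wo : Set ↥W.left) := by rw [hWo]; exact hsep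
  obtain ⟨j, hj⟩ : ∃ j : Over.mk (Wo.ι ≫ W.hom) ⟶ W, j.left = Wo.ι := ⟨Over.homMk Wo.ι rfl, rfl⟩
  have sqO := IsPullback.of_hasPullback i j
  have sqOY := sqO.map (yon S)
  have sqOS := sqO.map (Over.forget S)
  have hio : IsClosedImmersion (pullback.snd i j).left :=
    MorphismProperty.of_isPullback (P := @IsClosedImmersion) sqOS hi
  have sqX := IsPullback.of_hasPullback cW ((yon S).map j)
  obtain ⟨σo, hσo1, hσo2⟩ : ∃ σo : (yon S).obj (pullback i j) ⟶ pullback cW ((yon S).map j),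
      σo ≫ pullback.fst cW ((yon S).map j) = (yon S).map (pullback.fst i j) ≫ σ ∧
      σo ≫ pullback.snd cW ((yon S).map j) = (yon S).map (pullback.snd i j) :=
    ⟨sqX.lift ((yon S).map (pullback.fst i j) ≫ σ) ((yon S).map (pullback.snd i j))
      (by rw [Category.assoc, hσ2]; exact sqOY.w), sqX.lift_fst _ _ _, sqX.lift_snd _ _ _⟩
  have top : IsPullback ((yon S).map (pullback.fst i j)) σo σ
      (pullback.fst cW ((yon S).map j)) := by
    refine IsPullback.of_bot ?_ hσo1.symm sqX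
    rw [hσo2, hσ2]
    exact sqOY
  have hσoo : RepWith @IsOpenImmersion σo := repWith_snd_of_isPullback _ top hσo
  have hsurj : IsSurjectiveMor σo := by
    intro z
    have hz1 : toBase cW (Points.map (pullback.fst cW ((yon S).map j)) z) =
        j.left (toBase (pullback.snd cW ((yon S).map j)) z) :=
      toBase_map_comp cW _ _ j sqX.w z
    have hz2 : Points.map (pullback.fst cW ((yon S).map j)) z ∈ Set.range (Points.map σ) := by
      by_contra hn
      have h3 : toBase cW (Points.map (pullback.fst cW ((yon S).map j)) z) ∈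
          closure (toBase cW '' (Set.range (Points.map σ))ᶜ) :=
        subset_closure ⟨_, hn, rfl⟩
      have h4 : toBase cW (Points.map (pullback.fst cW ((yon S).map j)) z) ∈
          (Wo : Set ↥W.left) := by
        rw [hz1, hj]
        exact (toBase (pullback.snd cW ((yon S).map j)) z).2
      rw [hWo] at h4
      exact h4 h3
    obtain ⟨y, hy⟩ := hz2
    obtain ⟨z', -, hz'⟩ := exists_of_isPullback top y z hy
    exact ⟨z', hz'⟩
  haveI : IsIso σo := isIso_of_openImmersion_of_surjective σo hσoo hsurj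
  have big := sqX.paste_horiz sqW
  have left : IsPullback σo (σo ≫ pullback.snd cW ((yon S).map j))
      (pullback.snd cW ((yon S).map j)) (𝟙 _) := IsPullback.of_horiz_isIso ⟨by simp⟩
  have all := left.paste_horiz big
  rw [hσo2, Category.id_comp, ← Functor.map_comp] at all
  refine ⟨_, _, j ≫ e, pullback.snd i j, _, ?_, hio, all, ?_⟩
  · rw [Over.comp_left, hj]
    infer_instance
  · refine ⟨⟨i.left u, hiu⟩, ?_⟩
    rw [Over.comp_left, hj]
    rfl

set_option maxHeartbeats 1600000 in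
/-- A monomorphism locally of finite type from an algebraic space to a scheme with the local
separation property is an immersion of schemes. -/
theorem exists_immersion_of_sepProp {X : Sp S} (hX : IsAlgSpace X) {V : Over S}
    (c : X ⟶ (yon S).obj V) [Mono c] (hlft : LocP @LocallyOfFiniteType c) (hZ : SepProp c) :
    ∃ (Y : Over S) (y : Y ⟶ V) (θ : X ≅ (yon S).obj Y),
      IsImmersion y.left ∧ θ.hom ≫ (yon S).map y = c := by
  classical
  have hYV := IsAlgSpace.yon_obj V
  obtain ⟨U, p, hpe, hps⟩ := hX.atlas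
  obtain ⟨g, hg⟩ := (yon S).map_surjective (p ≫ c)
  have hunr : LocP (@LocallyOfFiniteType ⊓ @FormallyUnramified) c :=
    locP_unramified_of_diagonal hX hYV c hlft
      (Groth.Agent.Lib.AlgSpBasic_helper7.repWith_of_isIso _ _)
  have hgu := hunr p (𝟙 _) g hpe (repWith_id _ V) (by rw [hg, Category.comp_id])
  haveI : LocallyOfFiniteType g.left := hgu.1
  haveI : FormallyUnramified g.left := hgu.2
  have key : ∀ u : ↥U.left, ∃ (Wo Yo : Over S) (k : Wo ⟶ V) (io : Yo ⟶ Wo)
      (q : (yon S).obj Yo ⟶ X), Etale k.left ∧ IsClosedImmersion io.left ∧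
        IsPullback q ((yon S).map io) c ((yon S).map k) ∧ g.left u ∈ Set.range k.left := by
    intro u
    obtain ⟨W₀, e₀, U', i₀, hW₀, he₀, hi₀, huU', hcomm⟩ :=
      Groth.Agent.Lib.UnramLocal_helper7.exists_etale_closedImmersion g.left u
    have hiw : i₀ ≫ e₀ ≫ V.hom = U'.ι ≫ U.hom := by
      rw [← Category.assoc, hcomm, Category.assoc, Over.w g]
    have hcomm' : (yon S).map
        (Over.homMk i₀ hiw : Over.mk (U'.ι ≫ U.hom) ⟶ Over.mk (e₀ ≫ V.hom)) ≫
        (yon S).map (Over.homMk e₀ rfl : Over.mk (e₀ ≫ V.hom) ⟶ V) =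
        (yon S).map (Over.homMk U'.ι rfl : Over.mk (U'.ι ≫ U.hom) ⟶ U) ≫ p ≫ c := by
      rw [← hg, ← Functor.map_comp, ← Functor.map_comp]
      congr 1
      ext
      exact hcomm
    obtain ⟨Wo, Yo, k, io, q, h1, h2, h3, h4⟩ := piece hX c hZ p hpe
      (Over.homMk e₀ rfl : Over.mk (e₀ ≫ V.hom) ⟶ V)
      (Over.homMk U'.ι rfl : Over.mk (U'.ι ≫ U.hom) ⟶ U)
      (Over.homMk i₀ hiw : Over.mk (U'.ι ≫ U.hom) ⟶ Over.mk (e₀ ≫ V.hom))
      hW₀ he₀ (inferInstance : IsOpenImmersion U'.ι) hi₀ hcomm' ⟨u, huU'⟩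
    refine ⟨Wo, Yo, k, io, q, h1, h2, h3, ?_⟩
    have h5 : e₀ (i₀ ⟨u, huU'⟩) = g.left u :=
      Groth.Agent.Lib.ReflSpec_helper7.apply_comp_eq hcomm ⟨u, huU'⟩
    rw [← h5]
    exact h4
  choose Wo Yo k io q hk hio hsq hrange using key
  have hopen : IsOpen (⋃ u, Set.range (k u).left) := isOpen_iUnion fun u => by
    haveI := hk u
    exact (k u).left.isOpenMap.isOpen_range
  obtain ⟨Vo, hVo⟩ : ∃ Vo : V.left.Opens, (Vo : Set ↥V.left) = ⋃ u, Set.range (k u).left :=
    ⟨⟨_, hopen⟩, rfl⟩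
  obtain ⟨ιV, hιV⟩ : ∃ ιV : Over.mk (Vo.ι ≫ V.hom) ⟶ V, ιV = Over.homMk Vo.ι rfl := ⟨_, rfl⟩
  have hιVl : ιV.left = Vo.ι := by rw [hιV]; rfl
  have hιVa : ∀ v : ↥Vo, ιV.left v = v.1 := fun v => by rw [hιV]; rfl
  have hιVo : RepWith @IsOpenImmersion ((yon S).map ιV) :=
    (repWith_yon_map_iff _ ιV).2 (by rw [hιVl]; infer_instance)
  haveI : Mono ((yon S).map ιV) := mono_of_openImmersion _ hιVo
  have hcVo : ∀ x : Points X, toBase c x ∈ (Vo : Set ↥V.left) := by
    intro x
    obtain ⟨u, rfl⟩ := ofPt_surjective p hps x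
    rw [toBase_ofPt c p g hg.symm u, hVo]
    exact Set.mem_iUnion.2 ⟨u, hrange u⟩
  obtain ⟨co, hco⟩ : ∃ co : X ⟶ (yon S).obj (Over.mk (Vo.ι ≫ V.hom)),
      co ≫ (yon S).map ιV = c := by
    rw [factors_iff_of_openImmersion ((yon S).map ιV) hιVo c]
    rintro _ ⟨x, rfl⟩
    refine ⟨Points.ofScheme (Over.mk (Vo.ι ≫ V.hom)) (⟨toBase c x, hcVo x⟩ : ↥Vo), ?_⟩
    rw [← Points.ofPt_eq_map_ofScheme, ofPt_yon_map, hιVa, ofScheme_toBase c x]
  haveI : Mono co := mono_of_mono_fac hco
  have hkVo : ∀ u, Set.range (k u).left ⊆ Set.range Vo.ι := fun u => by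
    rw [Scheme.Opens.range_ι, hVo]
    exact Set.subset_iUnion (fun u => Set.range (k u).left) u
  have hko : ∀ u, ∃ ko : Wo u ⟶ Over.mk (Vo.ι ≫ V.hom), ko ≫ ιV = k u := fun u => by
    refine ⟨Over.homMk (IsOpenImmersion.lift Vo.ι (k u).left (hkVo u)) ?_, ?_⟩
    · show IsOpenImmersion.lift Vo.ι (k u).left (hkVo u) ≫ Vo.ι ≫ V.hom = (Wo u).hom
      rw [← Category.assoc, IsOpenImmersion.lift_fac, Over.w]
    · ext
      rw [Over.comp_left, hιVl]
      exact IsOpenImmersion.lift_fac _ _ _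
  choose ko hko using hko
  have hkol : ∀ u, (ko u).left ≫ Vo.ι = (k u).left := fun u => by
    have h := congrArg Over.Hom.left (hko u)
    rw [Over.comp_left, hιVl] at h
    exact h
  have hkoe : ∀ u, Etale (ko u).left := fun u => by
    haveI := hk u
    haveI : Etale ((ko u).left ≫ Vo.ι) := by rw [hkol u]; infer_instance
    exact Etale.of_comp (ko u).left Vo.ι
  have hsq' : ∀ u, IsPullback (q u) ((yon S).map (io u)) co ((yon S).map (ko u)) := fun u => by
    apply (isPullback_comp_mono_iff ((yon S).map ιV)).1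
    rw [hco, ← Functor.map_comp, hko u]
    exact hsq u
  have hYo := IsAlgSpace.yon_obj (Over.mk (Vo.ι ≫ V.hom))
  have hcov : IsFppfCover (fun u : ↥U.left => (yon S).obj (Wo u))
      (fun u => (yon S).map (ko u)) := by
    refine ⟨fun u => ⟨?_, ?_⟩, fun w => ?_⟩
    · haveI := hkoe u
      exact locP_yon_map_of @Flat (fun _ _ g (hg : Etale g) => (inferInstance : Flat g)) _
        (inferInstance : Flat (ko u).left)
    · haveI := hkoe u
      exact locP_yon_map_of @LocallyOfFinitePresentation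
        (fun _ _ g (hg : Etale g) => (inferInstance : LocallyOfFinitePresentation g)) _
        (inferInstance : LocallyOfFinitePresentation (ko u).left)
    · obtain ⟨v, rfl⟩ := ofScheme_surjective (Over.mk (Vo.ι ≫ V.hom)) w
      have hv : (show ↥Vo from v).1 ∈ (Vo : Set ↥V.left) := (show ↥Vo from v).2
      rw [hVo] at hv
      obtain ⟨u, t, ht⟩ := Set.mem_iUnion.1 hv
      refine ⟨u, Points.ofScheme (Wo u) t, ?_⟩
      rw [← Points.ofPt_eq_map_ofScheme, ofPt_yon_map]
      congr 1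
      apply Vo.ι.isOpenEmbedding.injective
      have h6 : Vo.ι ((ko u).left t) = (k u).left t :=
        Groth.Agent.Lib.ReflSpec_helper7.apply_comp_eq' (hkol u) t
      rw [h6, ht]
      rfl
  have hcl : RepWith @IsClosedImmersion co :=
    (Groth.Agent.Lib.AffDescH7.isLocalOnBase_fpqc_repWith_isClosedImmersion
      (fun u : ↥U.left => (yon S).obj (Wo u)) (fun u => (yon S).map (ko u)) hYo
      (fun u => IsAlgSpace.yon_obj _)
      (isFpqcCover_of_isFppfCover hYo _ _ (fun u => IsAlgSpace.yon_obj _) hcov) co hX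
      (fun u => (yon S).obj (Yo u)) (fun u => (yon S).map (io u)) q
      (fun u => IsAlgSpace.yon_obj _) hsq').2
      (fun u => (repWith_yon_map_iff _ _).2 (hio u))
  obtain ⟨Y, y, fst, sq⟩ := hcl.rep (𝟙 ((yon S).obj (Over.mk (Vo.ι ≫ V.hom))))
  have hy : IsClosedImmersion y.left := hcl.property _ _ _ sq
  haveI : IsIso fst := sq.isIso_fst_of_isIso
  refine ⟨Y, y ≫ ιV, (asIso fst).symm, ?_, ?_⟩
  · rw [Over.comp_left, hιVl]
    infer_instance
  · rw [Iso.symm_hom, asIso_inv, IsIso.inv_comp_eq, Functor.map_comp, ← hco,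
      ← Category.assoc fst, sq.w, Category.comp_id]

end Groth.Agent.Lib.AlgSpUnramLocal
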