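import Mathlib
import Groth.Agent.Lib.AlgSpThickGlobal_helper6
import Groth.Agent.Lib.AlgSpUnramLocal_helper7
import Groth.Agent.Lib.AlgSpLocP9_helper7
import Groth.Agent.Lib.AlgSpLocP7_helper7
import Groth.Agent.Lib.AlgSpGlue2_helper7

/-!
# Deformations: iso / open immersion / mono / finite locally free (helper6)
-/

set_option autoImplicit false
universe u
open CategoryTheory CategoryTheory.Limits AlgebraicGeometry Opposite TopologicalSpace

namespace Groth.Agent.Lib.AlgSpDeformIsoH6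

open AlgSp Groth.Agent.Lib.AlgSpPoints_helper7 Groth.Agent.Lib.AlgSpOpenSub_helper7
  Groth.Agent.Lib.AlgSpPullback_helper7 Groth.Agent.Lib.AlgSpBasic_helper7
  Groth.Agent.Lib.AlgSpProper_helper7 Groth.Agent.Lib.AlgSpOpen_helper7
  Groth.Agent.Lib.AlgSpQC_helper7 Groth.Agent.Lib.AlgSpEmbed_helper6
  Groth.Agent.Lib.AlgSpThick_helper7 Groth.Agent.Lib.AlgSpThickGlobalH6
  Groth.Agent.Lib.AlgSpLocP_helper7 Groth.Agent.Lib.AlgSpLocP4_helper7
  Groth.Agent.Lib.AlgSpSmST_helper7 Groth.Agent.Lib.ElemDistSq_helper7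
  Groth.Agent.Lib.AlgSpEtSplitH6

variable {S : Scheme.{u}}

/-- The forward implications needed for a morphism of thickenings. -/
structure Facts {X X' Y Y' : Space S} (f : X ⟶ Y) (f' : X' ⟶ Y') : Prop where
  lft : LocP @LocallyOfFiniteType f.hom → LocP @LocallyOfFiniteType f'.hom
  et : IsEtaleMor f.hom → IsEtaleMor f'.hom
  flat : LocP @Flat f.hom → LocP @Flat f'.hom
  lfp : LocP @LocallyOfFinitePresentation f.hom → LocP @LocallyOfFinitePresentation f'.hom
  fin : IsFiniteMor f.hom → IsFiniteMor f'.hom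

theorem repWith_etale_of_isEtaleMor {X Y : Space S} (f : X ⟶ Y) (hrep : Representable f.hom)
    (hf : IsEtaleMor f.hom) : RepWith @Etale f.hom := by
  refine ⟨hrep, fun T V τ fst snd sq => ?_⟩
  have h1 : IsEtaleMor ((yon S).map snd) :=
    isEtaleMor_of_isPullback X.property Y.property (IsAlgSpace.yon_obj T) sq hf
  exact (isEtaleMor_yon_map_iff snd).1 h1

theorem isIso_up {X X' Y Y' : Space S} (iX : X ⟶ X') (iY : Y ⟶ Y') (f : X ⟶ Y) (f' : X' ⟶ Y')
    (hiX : IsThickMor iX.hom) (hiY : IsThickMor iY.hom) (w : iX ≫ f' = f ≫ iY)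
    (hcart : IsPullback iX.hom f.hom f'.hom iY.hom) (F : Facts f f') (hf : IsIso f.hom) :
    IsIso f'.hom := by
  haveI := hf
  have hfc : RepWith @IsClosedImmersion f.hom :=
    Groth.Agent.Lib.AlgSpBasic_helper7.repWith_of_isIso @IsClosedImmersion f.hom
  have hfl : LocP @LocallyOfFiniteType f.hom :=
    locP_of_repWith @LocallyOfFiniteType
      (fun _ _ g (hg : Etale g) => (inferInstance : LocallyOfFiniteType g)) f.hom
      (Groth.Agent.Lib.AlgSpBasic_helper7.repWith_of_isIso @LocallyOfFiniteType f.hom)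
  have hfe : IsEtaleMor f.hom :=
    isEtaleMor_of_repWith' f.hom (Groth.Agent.Lib.AlgSpBasic_helper7.repWith_of_isIso @Etale f.hom)
  have hf'c := (closedImmersion_iff iX iY f f' hiX hiY w hcart (F.lft hfl)).1 hfc
  have hf'e := F.et hfe
  haveI : Mono f'.hom := mono_of_closedImmersion f'.hom hf'c
  have hf'E : RepWith @Etale f'.hom := repWith_etale_of_isEtaleMor f' hf'c.rep hf'e
  have hf'o := Groth.Agent.Lib.AlgSpUnramLocal.repWith_isOpenImmersion_of_etale_of_mono f'.hom hf'E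
  have hsurj : IsSurjectiveMor f'.hom := by
    intro y'
    obtain ⟨y, rfl⟩ := (isHomeomorph_map_of_isThickMor iY.hom hiY).surjective y'
    refine ⟨Points.map iX.hom (Points.map (inv f.hom) y), ?_⟩
    have e : inv f.hom ≫ iX.hom ≫ f'.hom = iY.hom := by
      rw [hcart.w, IsIso.inv_hom_id_assoc]
    rw [← e, Points.map_comp, Points.map_comp]
  exact isIso_of_openImmersion_of_surjective f'.hom hf'o hsurj

theorem finLocFree_up {X X' Y Y' : Space S} (f : X ⟶ Y) (f' : X' ⟶ Y') (F : Facts f f')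
    (hf : IsFinLocFreeMor f.hom) : IsFinLocFreeMor f'.hom := by
  have hfin : IsFiniteMor f.hom :=
    isFiniteMor_of_repWith f.hom (repWith_mono (fun _ _ k (hk : finLocFree k) => hk.1) hf)
  have hflat : LocP @Flat f.hom :=
    locP_of_repWith @Flat (fun _ _ k (hk : Etale k) => (inferInstance : Flat k)) f.hom
      (repWith_mono (fun _ _ k (hk : finLocFree k) => hk.2.1) hf)
  have hlfp : LocP @LocallyOfFinitePresentation f.hom :=
    locP_of_repWith @LocallyOfFinitePresentation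
      (fun _ _ k (hk : Etale k) => (inferInstance : LocallyOfFinitePresentation k)) f.hom
      (repWith_mono (fun _ _ k (hk : finLocFree k) => hk.2.2) hf)
  have hfin' := F.fin hfin
  have hflat' := F.flat hflat
  have hlfp' := F.lfp hlfp
  have hrep' : RepWith @IsFinite f'.hom :=
    Groth.Agent.Lib.AlgSpGlue2H7.repWith_of_affine_local @IsFinite f'.hom
      (fun Z hZ g => by
        obtain ⟨W, i, fst, sq, -, hi⟩ := hfin' hZ g
        exact ⟨W, i, fst, sq, hi⟩)
  refine ⟨hrep'.rep, fun T V τ fst snd sq => ?_⟩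
  have h1 : IsFinite snd.left := hrep'.property τ fst snd sq
  have h2 : LocP @Flat ((yon S).map snd) :=
    locP_baseChange etLocal_flat X'.property Y'.property (IsAlgSpace.yon_obj T) f'.hom τ fst
      ((yon S).map snd) sq hflat'
  have h3 : LocP @LocallyOfFinitePresentation ((yon S).map snd) :=
    locP_baseChange Groth.Agent.Lib.AlgSpLocP7_helper7.etLocal_locallyOfFinitePresentation
      X'.property Y'.property (IsAlgSpace.yon_obj T) f'.hom τ fst ((yon S).map snd) sq hlfp'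
  exact ⟨h1, locP_yon_map h2, locP_yon_map h3⟩

theorem finLocFreeOfDeg_up {X X' Y Y' : Space S} (iX : X ⟶ X') (iY : Y ⟶ Y') (f : X ⟶ Y)
    (f' : X' ⟶ Y') (hiY : IsThickMor iY.hom) (hcart : IsPullback iX.hom f.hom f'.hom iY.hom)
    (F : Facts f f') (d : ℕ) (hf : IsFinLocFreeOfDegMor d f.hom) :
    IsFinLocFreeOfDegMor d f'.hom := by
  have hf0 : IsFinLocFreeMor f.hom :=
    repWith_mono (fun _ _ k (hk : finLocFreeOfDeg d k) => hk.1) hf
  have hf0' := finLocFree_up f f' F hf0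
  refine ⟨hf0'.rep, fun T V τ fst snd sq => ?_⟩
  have h1 : finLocFree snd.left := hf0'.property τ fst snd sq
  refine ⟨h1, fun y => ?_⟩
  obtain ⟨e, he0⟩ : ∃ e, e = hiY.rep.snd τ := ⟨_, rfl⟩
  obtain ⟨τ₀, hτ0⟩ : ∃ τ₀, τ₀ = hiY.rep.fst τ := ⟨_, rfl⟩
  have sqT : IsPullback τ₀ ((yon S).map e) iY.hom τ := by
    rw [he0, hτ0]; exact hiY.rep.isPullback τ
  have he : thick e.left := by rw [he0]; exact hiY.property_snd τ
  obtain ⟨y₀, rfl⟩ := he.2.surj y
  have sqO := IsPullback.of_hasPullback snd e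
  have sqS : IsPullback (pullback.fst snd e).left (pullback.snd snd e).left snd.left e.left :=
    sqO.map (Over.forget S)
  have sqYon := sqO.map (yon S)
  have wl : ((yon S).map (pullback.fst snd e) ≫ fst) ≫ f'.hom =
      ((yon S).map (pullback.snd snd e) ≫ τ₀) ≫ iY.hom := by
    calc ((yon S).map (pullback.fst snd e) ≫ fst) ≫ f'.hom
        = (yon S).map (pullback.fst snd e) ≫ (fst ≫ f'.hom) := Category.assoc _ _ _
      _ = (yon S).map (pullback.fst snd e) ≫ ((yon S).map snd ≫ τ) := by rw [sq.w]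
      _ = ((yon S).map (pullback.fst snd e) ≫ (yon S).map snd) ≫ τ := (Category.assoc _ _ _).symm
      _ = ((yon S).map (pullback.snd snd e) ≫ (yon S).map e) ≫ τ := by rw [sqYon.w]
      _ = (yon S).map (pullback.snd snd e) ≫ ((yon S).map e ≫ τ) := Category.assoc _ _ _
      _ = (yon S).map (pullback.snd snd e) ≫ (τ₀ ≫ iY.hom) := by rw [sqT.w]
      _ = ((yon S).map (pullback.snd snd e) ≫ τ₀) ≫ iY.hom := (Category.assoc _ _ _).symm
  obtain ⟨l, hl1, hl2⟩ : ∃ l : (yon S).obj (pullback snd e) ⟶ X.obj,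
      l ≫ iX.hom = (yon S).map (pullback.fst snd e) ≫ fst ∧
      l ≫ f.hom = (yon S).map (pullback.snd snd e) ≫ τ₀ :=
    ⟨hcart.lift _ _ wl, hcart.lift_fst _ _ _, hcart.lift_snd _ _ _⟩
  have big0 : IsPullback ((yon S).map (pullback.fst snd e) ≫ fst)
      ((yon S).map (pullback.snd snd e)) f'.hom ((yon S).map e ≫ τ) := sqYon.paste_horiz sq
  have big : IsPullback (l ≫ iX.hom) ((yon S).map (pullback.snd snd e)) f'.hom
      (τ₀ ≫ iY.hom) := by
    rw [hl1, sqT.w]; exact big0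
  have sql : IsPullback l ((yon S).map (pullback.snd snd e)) f.hom τ₀ :=
    IsPullback.of_right big hl2 hcart
  have hdeg : finLocFreeOfDeg d (pullback.snd snd e).left := hf.property τ₀ l _ sql
  haveI : IsFinite snd.left := h1.1
  haveI : Flat snd.left := h1.2.1
  have h5 := Scheme.Hom.finrank_of_isPullback _ _ _ _ sqS y₀
  show Scheme.Hom.finrank snd.left (e.left y₀) = d
  rw [← h5]
  exact hdeg.2 y₀


section Generic

variable {B B' : Space S} (iB : B ⟶ B')
  (Hyp : ∀ {X' Y' : Space S}, (X' ⟶ Y') → (Y' ⟶ B') → Prop)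

/-- The hypotheses on the family of facts. -/
structure Provider : Prop where
  thick : IsThickMor iB.hom
  facts : ∀ {X X' Y Y' : Space S} (iX : X ⟶ X') (iY : Y ⟶ Y') (f : X ⟶ Y) (f' : X' ⟶ Y')
    (g : Y ⟶ B) (g' : Y' ⟶ B'),
    IsPullback iX.hom (f ≫ g).hom (f' ≫ g').hom iB.hom → IsPullback iY.hom g.hom g'.hom iB.hom →
    iX ≫ f' = f ≫ iY → Hyp f' g' → Facts f f'
  opn : ∀ {X' Y' V' : Space S} (f'' : X' ⟶ V') (jV' : V' ⟶ Y') (g' : Y' ⟶ B'),
    RepWith @IsOpenImmersion jV'.hom → Hyp (f'' ≫ jV') g' → Hyp f'' (jV' ≫ g')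
  diag : ∀ {X' Y' P' : Space S} (f' : X' ⟶ Y') (g' : Y' ⟶ B') (p1 p2 : P' ⟶ X') (δ : X' ⟶ P'),
    IsPullback p1.hom p2.hom f'.hom f'.hom → δ ≫ p1 = 𝟙 X' → Hyp f' g' → Hyp δ (p1 ≫ f' ≫ g')

variable {iB Hyp} (Pr : Provider iB Hyp)
  {X X' Y Y' : Space S} (iX : X ⟶ X') (iY : Y ⟶ Y') (f : X ⟶ Y) (f' : X' ⟶ Y')
  (g : Y ⟶ B) (g' : Y' ⟶ B')
  (hcX : IsPullback iX.hom (f ≫ g).hom (f' ≫ g').hom iB.hom)
  (hcY : IsPullback iY.hom g.hom g'.hom iB.hom) (w : iX ≫ f' = f ≫ iY) (hyp : Hyp f' g')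

include Pr hcX hcY w hyp

theorem thickX : IsThickMor iX.hom := isThickMor_fst_of_isPullback hcX Pr.thick

theorem thickY : IsThickMor iY.hom := isThickMor_fst_of_isPullback hcY Pr.thick

theorem cart : IsPullback iX.hom f.hom f'.hom iY.hom := by
  have big : IsPullback iX.hom (f.hom ≫ g.hom) (f'.hom ≫ g'.hom) iB.hom := hcX
  exact IsPullback.of_bot big (congrArg (fun m => m.hom) w) hcY

theorem iso_iff : IsIso f.hom ↔ IsIso f'.hom := by
  have hcart := cart Pr iX iY f f' g g' hcX hcY w hyp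
  constructor
  · exact isIso_up iX iY f f' (thickX Pr iX iY f f' g g' hcX hcY w hyp)
      (thickY Pr iX iY f f' g g' hcX hcY w hyp) w hcart (Pr.facts iX iY f f' g g' hcX hcY w hyp)
  · intro h
    haveI := h
    exact hcart.isIso_snd_of_isIso

theorem openImm_iff : RepWith @IsOpenImmersion f.hom ↔ RepWith @IsOpenImmersion f'.hom := by
  have hcart := cart Pr iX iY f f' g g' hcX hcY w hyp
  have hiX := thickX Pr iX iY f f' g g' hcX hcY w hyp
  have hiY := thickY Pr iX iY f f' g g' hcX hcY w hyp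
  constructor
  swap
  · intro hf'
    exact MorphismProperty.of_isPullback (P := RepWith @IsOpenImmersion) hcart hf'
  intro hf
  have hjh := isHomeomorph_map_of_isThickMor iY.hom hiY
  have hih := isHomeomorph_map_of_isThickMor iX.hom hiX
  have hcomm : ∀ z, Points.map f'.hom (Points.map iX.hom z) =
      Points.map iY.hom (Points.map f.hom z) := by
    intro z
    rw [← Points.map_comp, ← Points.map_comp, hcart.w]
  have hfo : IsOpen (Set.range (Points.map f.hom)) := by
    obtain ⟨U₀, a₀, hae, has⟩ := X.property.atlas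
    have : Set.range (Points.map f.hom) = Set.range (Points.ofPt (a₀ ≫ f.hom)) := by
      ext y
      constructor
      · rintro ⟨x, rfl⟩
        obtain ⟨u, rfl⟩ := ofPt_surjective a₀ has x
        exact ⟨u, (Points.map_ofPt _ _ _).symm⟩
      · rintro ⟨u, rfl⟩
        exact ⟨Points.ofPt a₀ u, Points.map_ofPt _ _ _⟩
    rw [this]
    exact (isOpenMap_ofPt_of_etale _ (repWith_comp _ hae
      (repWith_mono (fun _ _ k (hk : IsOpenImmersion k) => (inferInstance : Etale k)) hf))).isOpen_range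
  obtain ⟨W', hW'def⟩ : ∃ W' : Set (Points Y'.obj), W' = Set.range (Points.map f'.hom) := ⟨_, rfl⟩
  have hW' : W' = Points.map iY.hom '' Set.range (Points.map f.hom) := by
    rw [hW'def]
    ext y'
    constructor
    · rintro ⟨x', rfl⟩
      obtain ⟨z, rfl⟩ := hih.surjective x'
      exact ⟨_, ⟨z, rfl⟩, (hcomm z).symm⟩
    · rintro ⟨_, ⟨z, rfl⟩, rfl⟩
      exact ⟨Points.map iX.hom z, hcomm z⟩
  have hW'o : IsOpen W' := by
    rw [hW']
    exact hjh.isOpenMap _ hfo
  let V' : Space S := ⟨openSub Y'.obj W', isAlgSpace_openSub Y'.property hW'o⟩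
  let jV' : V' ⟶ Y' := ObjectProperty.homMk (openSubι Y'.obj W')
  have hjV' : RepWith @IsOpenImmersion jV'.hom := repWith_isOpenImmersion_openSubι hW'o
  have hrV' : Set.range (Points.map jV'.hom) = W' := range_map_openSubι Y'.property hW'o
  haveI : Mono jV'.hom := mono_of_openImmersion _ hjV'
  obtain ⟨f₀'', hf''⟩ := (factors_iff_of_openImmersion jV'.hom hjV' f'.hom).2
    (by rw [hrV', hW'def])
  let f'' : X' ⟶ V' := ObjectProperty.homMk f₀''
  have hf''s : f'' ≫ jV' = f' := ObjectProperty.hom_ext _ hf''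
  have sqV := IsPullback.of_hasPullback iY.hom jV'.hom
  have hV : IsAlgSpace (pullback iY.hom jV'.hom) :=
    isAlgSpace_of_isPullback Y'.property.diag Y.property V'.property sqV
  let V : Space S := ⟨pullback iY.hom jV'.hom, hV⟩
  let pV : V ⟶ Y := ObjectProperty.homMk (pullback.fst iY.hom jV'.hom)
  let iV : V ⟶ V' := ObjectProperty.homMk (pullback.snd iY.hom jV'.hom)
  have hpV : RepWith @IsOpenImmersion pV.hom := repWith_fst_of_isPullback _ sqV hjV'
  haveI : Mono pV.hom := mono_of_openImmersion _ hpV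
  let fV₀ : X.obj ⟶ V.obj := pullback.lift f.hom (iX.hom ≫ f₀'')
    (by rw [Category.assoc, hf'']; exact hcart.w.symm)
  have hfV1 : fV₀ ≫ pV.hom = f.hom := pullback.lift_fst _ _ _
  have hfV2 : fV₀ ≫ iV.hom = iX.hom ≫ f₀'' := pullback.lift_snd _ _ _
  let fV : X ⟶ V := ObjectProperty.homMk fV₀
  have hfV1s : fV ≫ pV = f := ObjectProperty.hom_ext _ hfV1
  have w' : iX ≫ f'' = fV ≫ iV := ObjectProperty.hom_ext _ hfV2.symm
  have hcX' : IsPullback iX.hom (fV ≫ pV ≫ g).hom (f'' ≫ jV' ≫ g').hom iB.hom := by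
    rw [← Category.assoc, ← Category.assoc, hfV1s, hf''s]
    exact hcX
  have hcY' : IsPullback iV.hom (pV ≫ g).hom (jV' ≫ g').hom iB.hom :=
    sqV.flip.paste_vert hcY
  have hyp' : Hyp f'' (jV' ≫ g') := Pr.opn f'' jV' g' hjV' (by rw [hf''s]; exact hyp)
  have hfVo : RepWith @IsOpenImmersion fV₀ :=
    repWith_of_comp_mono @IsOpenImmersion fV₀ pV.hom (by rw [hfV1]; exact hf)
  have hfVs : IsSurjectiveMor fV₀ := by
    intro p
    have h1 : Points.map jV'.hom (Points.map iV.hom p) ∈ W' := by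
      rw [← hrV']; exact ⟨_, rfl⟩
    rw [hW'] at h1
    obtain ⟨_, ⟨x, rfl⟩, hx⟩ := h1
    have h2 : Points.map iY.hom (Points.map pV.hom p) =
        Points.map jV'.hom (Points.map iV.hom p) := by
      have e : pV.hom ≫ iY.hom = iV.hom ≫ jV'.hom := sqV.w
      rw [← Points.map_comp, ← Points.map_comp, e]
    have h3 : Points.map pV.hom p = Points.map f.hom x := hjh.injective (by rw [h2, hx])
    refine ⟨x, map_injective_of_mono pV.hom ?_⟩
    rw [← Points.map_comp, hfV1, h3]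
  have hfViso : IsIso fV.hom := isIso_of_openImmersion_of_surjective fV₀ hfVo hfVs
  have hf''iso : IsIso f''.hom :=
    (iso_iff Pr iX iV fV f'' (pV ≫ g) (jV' ≫ g') hcX' hcY' w' hyp').1 hfViso
  haveI : IsIso f₀'' := hf''iso
  rw [← hf'']
  exact repWith_comp _ (Groth.Agent.Lib.AlgSpBasic_helper7.repWith_of_isIso @IsOpenImmersion f₀'') hjV'

theorem mono_iff : Mono f.hom ↔ Mono f'.hom := by
  have hcart := cart Pr iX iY f f' g g' hcX hcY w hyp
  constructor
  swap
  · intro h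
    haveI := h
    exact hcart.mono_snd_of_mono
  intro hf
  haveI := hf
  have sqP := IsPullback.of_hasPullback f.hom f.hom
  have sqP' := IsPullback.of_hasPullback f'.hom f'.hom
  have hP : IsAlgSpace (pullback f.hom f.hom) :=
    isAlgSpace_of_isPullback Y.property.diag X.property X.property sqP
  have hP' : IsAlgSpace (pullback f'.hom f'.hom) :=
    isAlgSpace_of_isPullback Y'.property.diag X'.property X'.property sqP'
  let P : Space S := ⟨pullback f.hom f.hom, hP⟩
  let P' : Space S := ⟨pullback f'.hom f'.hom, hP'⟩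
  let p1 : P ⟶ X := ObjectProperty.homMk (pullback.fst f.hom f.hom)
  let p1' : P' ⟶ X' := ObjectProperty.homMk (pullback.fst f'.hom f'.hom)
  let p2' : P' ⟶ X' := ObjectProperty.homMk (pullback.snd f'.hom f'.hom)
  let δ₀ : X.obj ⟶ P.obj := pullback.lift (𝟙 _) (𝟙 _) rfl
  let δ₀' : X'.obj ⟶ P'.obj := pullback.lift (𝟙 _) (𝟙 _) rfl
  let δ : X ⟶ P := ObjectProperty.homMk δ₀
  let δ' : X' ⟶ P' := ObjectProperty.homMk δ₀'
  have hδ1 : δ₀ ≫ pullback.fst f.hom f.hom = 𝟙 _ := pullback.lift_fst _ _ _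
  have hδ2 : δ₀ ≫ pullback.snd f.hom f.hom = 𝟙 _ := pullback.lift_snd _ _ _
  have hδ1' : δ₀' ≫ pullback.fst f'.hom f'.hom = 𝟙 _ := pullback.lift_fst _ _ _
  have hδ2' : δ₀' ≫ pullback.snd f'.hom f'.hom = 𝟙 _ := pullback.lift_snd _ _ _
  have hδ1s : δ ≫ p1 = 𝟙 X := ObjectProperty.hom_ext _ hδ1
  have hδ1s' : δ' ≫ p1' = 𝟙 X' := ObjectProperty.hom_ext _ hδ1'
  let iP₀ : P.obj ⟶ P'.obj := pullback.lift (pullback.fst f.hom f.hom ≫ iX.hom)
    (pullback.snd f.hom f.hom ≫ iX.hom)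
    (by rw [Category.assoc, Category.assoc, hcart.w, ← Category.assoc, ← Category.assoc,
      pullback.condition])
  have hiP1 : iP₀ ≫ pullback.fst f'.hom f'.hom = pullback.fst f.hom f.hom ≫ iX.hom :=
    pullback.lift_fst _ _ _
  have hiP2 : iP₀ ≫ pullback.snd f'.hom f'.hom = pullback.snd f.hom f.hom ≫ iX.hom :=
    pullback.lift_snd _ _ _
  let iP : P ⟶ P' := ObjectProperty.homMk iP₀
  -- `P = P' ×_{X'} X`
  have sqA : IsPullback iP₀ (pullback.fst f.hom f.hom) (pullback.fst f'.hom f'.hom) iX.hom := by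
    have big0 : IsPullback (pullback.snd f.hom f.hom ≫ iX.hom) (pullback.fst f.hom f.hom) f'.hom
        (f.hom ≫ iY.hom) := sqP.flip.paste_horiz hcart
    have big : IsPullback (iP₀ ≫ pullback.snd f'.hom f'.hom) (pullback.fst f.hom f.hom) f'.hom
        (iX.hom ≫ f'.hom) := by
      rw [hiP2, hcart.w]
      exact big0
    exact IsPullback.of_right big hiP1 sqP'.flip
  have hcY'' : IsPullback iP.hom (p1 ≫ f ≫ g).hom (p1' ≫ f' ≫ g').hom iB.hom :=
    sqA.paste_vert hcX
  have hcX'' : IsPullback iX.hom (δ ≫ p1 ≫ f ≫ g).hom (δ' ≫ p1' ≫ f' ≫ g').hom iB.hom := by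
    rw [← Category.assoc δ, ← Category.assoc δ', hδ1s, hδ1s', Category.id_comp, Category.id_comp]
    exact hcX
  have w'' : iX ≫ δ' = δ ≫ iP := by
    apply ObjectProperty.hom_ext
    show iX.hom ≫ δ₀' = δ₀ ≫ iP₀
    apply pullback.hom_ext
    · rw [Category.assoc, hδ1', Category.comp_id, Category.assoc, hiP1, ← Category.assoc, hδ1,
        Category.id_comp]
    · rw [Category.assoc, hδ2', Category.comp_id, Category.assoc, hiP2, ← Category.assoc, hδ2,
        Category.id_comp]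
  have hyp'' : Hyp δ' (p1' ≫ f' ≫ g') := Pr.diag f' g' p1' p2' δ' sqP' hδ1s' hyp
  have hδiso : IsIso δ.hom := by
    haveI : IsIso (pullback.fst f.hom f.hom) := inferInstance
    have : δ₀ = inv (pullback.fst f.hom f.hom) := by
      rw [← cancel_mono (pullback.fst f.hom f.hom), hδ1, IsIso.inv_hom_id]
    show IsIso δ₀
    rw [this]
    infer_instance
  have hδ'iso : IsIso δ'.hom :=
    (iso_iff Pr iX iP δ δ' (p1 ≫ f ≫ g) (p1' ≫ f' ≫ g') hcX'' hcY'' w'' hyp'').1 hδiso
  haveI : IsIso δ₀' := hδ'iso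
  haveI : IsIso (pullback.fst f'.hom f'.hom) := by
    have : pullback.fst f'.hom f'.hom = inv δ₀' := by
      rw [← cancel_epi δ₀', hδ1', IsIso.hom_inv_id]
    rw [this]
    infer_instance
  exact IsKernelPair.mono_of_isIso_fst sqP'

theorem finLocFree_iff : IsFinLocFreeMor f.hom ↔ IsFinLocFreeMor f'.hom := by
  have hcart := cart Pr iX iY f f' g g' hcX hcY w hyp
  constructor
  · exact finLocFree_up f f' (Pr.facts iX iY f f' g g' hcX hcY w hyp)
  · intro h
    exact MorphismProperty.of_isPullback (P := RepWith finLocFree) hcart h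

theorem finLocFreeOfDeg_iff (d : ℕ) :
    IsFinLocFreeOfDegMor d f.hom ↔ IsFinLocFreeOfDegMor d f'.hom := by
  have hcart := cart Pr iX iY f f' g g' hcX hcY w hyp
  constructor
  · exact finLocFreeOfDeg_up iX iY f f' (thickY Pr iX iY f f' g g' hcX hcY w hyp) hcart
      (Pr.facts iX iY f f' g g' hcX hcY w hyp) d
  · intro h
    exact MorphismProperty.of_isPullback (P := RepWith (finLocFreeOfDeg d)) hcart h

theorem all_iff : (IsIso f.hom ↔ IsIso f'.hom) ∧
    (RepWith @IsOpenImmersion f.hom ↔ RepWith @IsOpenImmersion f'.hom) ∧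
    (Mono f.hom ↔ Mono f'.hom) ∧
    (IsFinLocFreeMor f.hom ↔ IsFinLocFreeMor f'.hom) ∧
    (∀ d : ℕ, IsFinLocFreeOfDegMor d f.hom ↔ IsFinLocFreeOfDegMor d f'.hom) :=
  ⟨iso_iff Pr iX iY f f' g g' hcX hcY w hyp, openImm_iff Pr iX iY f f' g g' hcX hcY w hyp,
    mono_iff Pr iX iY f f' g g' hcX hcY w hyp, finLocFree_iff Pr iX iY f f' g g' hcX hcY w hyp,
    fun d => finLocFreeOfDeg_iff Pr iX iY f f' g g' hcX hcY w hyp d⟩

end Generic

end Groth.Agent.Lib.AlgSpDeformIsoH6
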