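import Groth.Agent.Lib.Nil2_helper8

/-!
# Open immersions and isomorphisms over finite order thickenings with flat source (helper8)
-/

set_option autoImplicit false
universe u

open AlgebraicGeometry CategoryTheory CategoryTheory.Limits
open Groth.Agent.Lib.NilThick_helper6

namespace NilH8

variable {X X' Y Y' S S' : Scheme.{u}} {iX : X ⟶ X'} {iY : Y ⟶ Y'} {iS : S ⟶ S'}
  {f : X ⟶ Y} {f' : X' ⟶ Y'} {g : Y ⟶ S} {g' : Y' ⟶ S'}

theorem isFiniteOrderThickening_of_isPullback (hS : MoreMor.IsFiniteOrderThickening iS)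
    (hcY : IsPullback iY g g' iS) : MoreMor.IsFiniteOrderThickening iY := by
  haveI := hS.1.1
  haveI := hS.1.2
  exact ⟨⟨MorphismProperty.of_isPullback (P := @IsClosedImmersion) hcY.flip inferInstance,
    MorphismProperty.of_isPullback (P := @Surjective) hcY.flip inferInstance⟩,
    isNilpotent_ker_of_isPullback iY g g' iS hcY hS.2⟩

theorem isOpenImmersion_of_finiteOrderThickening (hS : MoreMor.IsFiniteOrderThickening iS)
    (hcX : IsPullback iX (f ≫ g) (f' ≫ g') iS) (hcY : IsPullback iY g g' iS)
    (w : iX ≫ f' = f ≫ iY) [Flat (f' ≫ g')] (hf : IsOpenImmersion f) : IsOpenImmersion f' := by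
  have hYthick := isFiniteOrderThickening_of_isPullback hS hcY
  haveI : Flat f' := flat_of_finiteOrderThickening hS hcX hcY w inferInstance
  haveI : LocallyOfFinitePresentation f' :=
    locallyOfFinitePresentation_of_finiteOrderThickening hS hcX hcY w inferInstance
  haveI : Mono f' := (finiteOrderThickening_mono_iff iX iY f f' hYthick
    (isPullback_top hcX hcY w)).mp inferInstance
  exact IsOpenImmersion.of_flat_of_mono f'

theorem isIso_of_finiteOrderThickening (hS : MoreMor.IsFiniteOrderThickening iS)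
    (hcX : IsPullback iX (f ≫ g) (f' ≫ g') iS) (hcY : IsPullback iY g g' iS)
    (w : iX ≫ f' = f ≫ iY) [Flat (f' ≫ g')] (hf : IsIso f) : IsIso f' := by
  have hYthick := isFiniteOrderThickening_of_isPullback hS hcY
  rw [isIso_iff_isOpenImmersion_and_surjective]
  refine ⟨isOpenImmersion_of_finiteOrderThickening hS hcX hcY w inferInstance, ⟨fun y' => ?_⟩⟩
  haveI := hYthick.1.2
  obtain ⟨y, rfl⟩ := iY.surjective y'
  obtain ⟨x, rfl⟩ := f.surjective y
  exact ⟨iX x, by rw [← Scheme.Hom.comp_apply, ← Scheme.Hom.comp_apply, w]⟩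

end NilH8
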