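import Mathlib
import Groth.Prelude.Def_AlgSpDec
import Groth.Agent.Lib.ResTrdeg3_helper8
import Groth.Agent.Lib.AlgSpPullback_helper7
import Groth.Agent.Lib.AlgSpQC_helper7

/-! Chart diagrams of a base change of a morphism of algebraic spaces: through any point of the
base change there is a chart diagram whose top arrow is a base change (as a morphism of schemes)
of the top arrow of a given chart diagram of the original morphism. -/

universe u
open AlgebraicGeometry CategoryTheory CategoryTheory.Limits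
open AlgSp
open Groth.Agent.Lib.AlgSpReduced_helper7 Groth.Agent.Lib.AlgSpPoints_helper7
  Groth.Agent.Lib.AlgSpPullback_helper7 Groth.Agent.Lib.AlgSpQC_helper7

namespace BCChartH8

variable {S : Scheme.{u}}

theorem isPullback_left_of_isPullback_yon {U V T W : Over S} {a : W ⟶ U} {b : W ⟶ V} {f : U ⟶ T}
    {g : V ⟶ T}
    (sq : IsPullback ((yon S).map a) ((yon S).map b) ((yon S).map f) ((yon S).map g)) :
    IsPullback a.left b.left f.left g.left := by
  have h1 : IsPullback a b f g := IsPullback.of_map (yon S)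
    ((yon S).map_injective (by rw [Functor.map_comp, Functor.map_comp, sq.w])) sq
  exact h1.map (Over.forget S)

theorem exists_bc_chart {X Y Y' X' : AlgSp.Space S} (f : X ⟶ Y) (g : Y' ⟶ Y) (g' : X' ⟶ X)
    (f' : X' ⟶ Y') (sq : IsPullback g'.hom f'.hom f.hom g.hom) (x' : Points X'.obj)
    {U V : Over S} (a : (yon S).obj U ⟶ X.obj) (b : (yon S).obj V ⟶ Y.obj) (h : U ⟶ V)
    (u : ↥U.left) (hae : RepWith @Etale a) (hbe : RepWith @Etale b)
    (comm : a ≫ f.hom = (yon S).map h ≫ b) (hu : Points.ofPt a u = Points.map g'.hom x') :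
    ∃ (W V'' : Over S) (r : (yon S).obj W ⟶ X'.obj) (b'' : (yon S).obj V'' ⟶ Y'.obj)
      (κ : W ⟶ V'') (aW : W ⟶ U) (φ : V'' ⟶ V) (w : ↥W.left),
      RepWith @Etale r ∧ RepWith @Etale b'' ∧ r ≫ f'.hom = (yon S).map κ ≫ b'' ∧
      Points.ofPt r w = x' ∧ aW.left w = u ∧ IsPullback aW.left κ.left h.left φ.left ∧
      r ≫ g'.hom = (yon S).map aW ≫ a ∧ b'' ≫ g.hom = (yon S).map φ ≫ b := by
  obtain ⟨V0, b0, v0, hb0e, hv0⟩ := ResTrdegH8.exists_chart Y' (Points.map f'.hom x')
  obtain ⟨W, aW, bW, r, hr1, hr2, sqW, hr⟩ :=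
    exists_chart_of_isPullback Y.property.diag sq a b0
  have hre : RepWith @Etale r := hr @Etale hae hb0e
  have sqV := hbe.rep.isPullback' (b0 ≫ g.hom)
  have hψe : RepWith @Etale ((yon S).map (hbe.rep.snd (b0 ≫ g.hom))) :=
    repWith_snd_of_isPullback _ sqV hbe
  have hkc : ((yon S).map aW ≫ (yon S).map h) ≫ b = (yon S).map bW ≫ b0 ≫ g.hom := by
    rw [Category.assoc, ← comm, sqW.w]
  obtain ⟨κ, hκ⟩ := (yon S).map_surjective
    (sqV.lift ((yon S).map aW ≫ (yon S).map h) ((yon S).map bW) hkc)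
  have hk1 : (yon S).map κ ≫ (yon S).map (hbe.rep.fst' (b0 ≫ g.hom)) =
      (yon S).map aW ≫ (yon S).map h := by rw [hκ]; exact sqV.lift_fst _ _ _
  have hk2 : (yon S).map κ ≫ (yon S).map (hbe.rep.snd (b0 ≫ g.hom)) = (yon S).map bW := by
    rw [hκ]; exact sqV.lift_snd _ _ _
  have sqK : IsPullback ((yon S).map κ) ((yon S).map aW)
      ((yon S).map (hbe.rep.fst' (b0 ≫ g.hom))) ((yon S).map h) := by
    refine IsPullback.of_right ?_ hk1 sqV.flip
    rw [hk2, ← comm]
    exact sqW.flip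
  have sqL := isPullback_left_of_isPullback_yon sqK
  -- the point
  have sqM := IsPullback.of_hasPullback f'.hom b0
  let n : (yon S).obj W ⟶ pullback f'.hom b0 := pullback.lift r ((yon S).map bW) hr2
  have hn1 : n ≫ pullback.fst f'.hom b0 = r := pullback.lift_fst _ _ _
  have hn2 : n ≫ pullback.snd f'.hom b0 = (yon S).map bW := pullback.lift_snd _ _ _
  have sqR : IsPullback (pullback.fst f'.hom b0 ≫ g'.hom) (pullback.snd f'.hom b0) f.hom
      (b0 ≫ g.hom) := sqM.paste_horiz sq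
  have sqN : IsPullback n ((yon S).map aW) (pullback.fst f'.hom b0 ≫ g'.hom) a := by
    refine IsPullback.of_right (h₁₂ := pullback.snd f'.hom b0) (h₂₂ := f.hom) ?_ ?_ sqR.flip
    · rw [hn2]; exact sqW.flip
    · rw [← Category.assoc, hn1, hr1]
  obtain ⟨z1, hz1a, hz1b⟩ := exists_of_isPullback sqM x' (Points.ofScheme V0 v0) (by
    rw [← Points.ofPt_eq_map_ofScheme, hv0])
  obtain ⟨z2, hz2a, hz2b⟩ := exists_of_isPullback sqN z1 (Points.ofScheme U u) (by
    rw [← Points.ofPt_eq_map_ofScheme, hu, Points.map_comp, hz1a])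
  obtain ⟨w, rfl⟩ := (Points.schemeEquiv W).surjective z2
  refine ⟨W, hbe.rep.pullback (b0 ≫ g.hom), r, (yon S).map (hbe.rep.snd (b0 ≫ g.hom)) ≫ b0,
    κ, aW, hbe.rep.fst' (b0 ≫ g.hom), w, hre, repWith_comp _ hψe hb0e, ?_, ?_, ?_, sqL.flip, hr1,
    ?_⟩
  · rw [hr2, ← Category.assoc, hk2]
  · have : Points.ofPt r w = Points.map r (Points.ofScheme W w) := Points.ofPt_eq_map_ofScheme r w
    rw [this, ← hn1, Points.map_comp]
    change Points.map (pullback.fst f'.hom b0) (Points.map n ((Points.schemeEquiv W) w)) = x'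
    rw [hz2a, hz1a]
  · apply ofScheme_injective U
    rw [← hz2b]
    change _ = Points.map _ (Points.ofScheme W w)
    rw [← Points.ofPt_eq_map_ofScheme, ofPt_yon_map]
  · rw [Category.assoc, sqV.w]
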