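import Mathlib
import Groth.Prelude.Def_MoreMor
import Groth.Agent.Lib.NilThick2_helper6
set_option autoImplicit false
universe u

namespace Groth.Agent.Lib.NilThick_helper6

open CategoryTheory CategoryTheory.Limits AlgebraicGeometry MorphismProperty

theorem universallyInjective_of_comp_surjective {X Y Z : Scheme.{u}} (h : X ⟶ Y) (g : Y ⟶ Z)
    [Surjective h] [hhg : UniversallyInjective (h ≫ g)] : UniversallyInjective g := by
  rw [universallyInjective_eq]
  intro Y' Z' i₁ i₂ g' hpb
  have hW : IsPullback (pullback.fst i₁ h) (pullback.snd i₁ h) i₁ h := IsPullback.of_hasPullback _ _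
  have hbig : IsPullback (pullback.fst i₁ h ≫ g') (pullback.snd i₁ h) i₂ (h ≫ g) :=
    hW.paste_horiz hpb
  have hinj : Function.Injective (pullback.fst i₁ h ≫ g') :=
    hhg.universally_injective _ _ _ hbig
  haveI : Surjective (pullback.fst i₁ h) := inferInstance
  intro y₁ y₂ e
  obtain ⟨w₁, rfl⟩ := (pullback.fst i₁ h).surjective y₁
  obtain ⟨w₂, rfl⟩ := (pullback.fst i₁ h).surjective y₂
  have : (pullback.fst i₁ h ≫ g') w₁ = (pullback.fst i₁ h ≫ g') w₂ := by
    rw [Scheme.Hom.comp_apply, Scheme.Hom.comp_apply]
    exact e
  rw [hinj this]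

theorem thickening_lft_mono_iff {X X' Y Y' : Scheme.{u}} (iX : X ⟶ X')
    (iY : Y ⟶ Y') (f : X ⟶ Y) (f' : X' ⟶ Y') (hY : MoreMor.IsThickening iY)
    (hc : IsPullback iX f f' iY) [LocallyOfFiniteType f'] :
    Mono f ↔ Mono f' := by
  haveI := hY.1
  haveI := hY.2
  constructor
  · intro hf
    haveI : IsIso (pullback.diagonal f) := (pullback.isIso_diagonal_iff f).mpr hf
    haveI : FormallyUnramified f := inferInstance
    haveI : FormallyUnramified f' :=
      (thickening_lft_formallyUnramified_iff iX iY f f' hY hc).mp inferInstance
    haveI : IsOpenImmersion (pullback.diagonal f') := inferInstance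
    haveI : Surjective iX := MorphismProperty.of_isPullback (P := @Surjective) hc.flip inferInstance
    haveI : UniversallyInjective (f ≫ iY) :=
      MorphismProperty.comp_mem _ f iY inferInstance inferInstance
    haveI : UniversallyInjective (iX ≫ f') := by rw [hc.w]; infer_instance
    haveI : UniversallyInjective f' := universallyInjective_of_comp_surjective iX f'
    haveI : Surjective (pullback.diagonal f') :=
      (UniversallyInjective.iff_diagonal f').mp inferInstance
    haveI : IsIso (pullback.diagonal f') :=
      (isIso_iff_isOpenImmersion_and_epi_base _).mpr ⟨inferInstance,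
        (TopCat.epi_iff_surjective _).mpr (pullback.diagonal f').surjective⟩
    exact (pullback.isIso_diagonal_iff f').mp inferInstance
  · intro hf'
    have : MorphismProperty.monomorphisms Scheme.{u} f :=
      MorphismProperty.of_isPullback (P := MorphismProperty.monomorphisms Scheme.{u}) hc
        (MorphismProperty.monomorphisms.infer_property f')
    exact this

end Groth.Agent.Lib.NilThick_helper6
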