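import Mathlib
import Groth.Prelude.Def_MoreMor
import Groth.Agent.Lib.NilThick3_helper6
set_option autoImplicit false
universe u

namespace Groth.Agent.Lib.NilThick_helper6

open CategoryTheory CategoryTheory.Limits AlgebraicGeometry MorphismProperty

theorem thickening_lft_isClosedImmersion_iff {X X' Y Y' : Scheme.{u}} (iX : X ⟶ X')
    (iY : Y ⟶ Y') (f : X ⟶ Y) (f' : X' ⟶ Y') (hY : MoreMor.IsThickening iY)
    (hc : IsPullback iX f f' iY) [LocallyOfFiniteType f'] :
    IsClosedImmersion f ↔ IsClosedImmersion f' := by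
  haveI := hY.1
  haveI := hY.2
  constructor
  · intro hf
    haveI : Mono f' := (thickening_lft_mono_iff iX iY f f' hY hc).mp inferInstance
    haveI : Surjective iX := MorphismProperty.of_isPullback (P := @Surjective) hc.flip inferInstance
    haveI : UniversallyClosed (iX ≫ f') := by rw [hc.w]; infer_instance
    haveI : UniversallyClosed f' := UniversallyClosed.of_comp_surjective iX f'
    haveI : IsProper f' := {}
    exact (IsClosedImmersion.iff_isProper_and_mono f').mpr ⟨inferInstance, inferInstance⟩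
  · intro hf'
    exact MorphismProperty.of_isPullback hc hf'

theorem isClosedImmersion_lift_of_range_eq {X Y : Scheme.{u}} (f : X ⟶ Y) [IsImmersion f]
    (V : Y.Opens) (hV : (V : Set Y) = f.coborderRange) (hle : Set.range f ⊆ Set.range V.ι) :
    IsClosedImmersion (IsOpenImmersion.lift V.ι f hle) := by
  have hr : Set.range f.coborderRange.ι = Set.range V.ι := by
    rw [Scheme.Opens.range_ι, Scheme.Opens.range_ι, hV]
  have he : (IsOpenImmersion.isoOfRangeEq f.coborderRange.ι V.ι hr).hom ≫ V.ι =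
      f.coborderRange.ι := IsOpenImmersion.isoOfRangeEq_hom_fac _ _ _
  have : IsOpenImmersion.lift V.ι f hle =
      f.liftCoborder ≫ (IsOpenImmersion.isoOfRangeEq f.coborderRange.ι V.ι hr).hom := by
    rw [← cancel_mono V.ι, IsOpenImmersion.lift_fac, Category.assoc, he, f.liftCoborder_ι]
  rw [this]
  infer_instance

theorem thickening_lft_isImmersion_iff {X X' Y Y' : Scheme.{u}} (iX : X ⟶ X')
    (iY : Y ⟶ Y') (f : X ⟶ Y) (f' : X' ⟶ Y') (hY : MoreMor.IsThickening iY)
    (hc : IsPullback iX f f' iY) [LocallyOfFiniteType f'] :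
    IsImmersion f ↔ IsImmersion f' := by
  haveI := hY.1
  haveI := hY.2
  constructor
  · intro hf
    haveI : Surjective iX := MorphismProperty.of_isPullback (P := @Surjective) hc.flip inferInstance
    have hhomeo : IsHomeomorph iY := isHomeomorph_iff_isEmbedding_surjective.mpr
      ⟨iY.isClosedEmbedding.isEmbedding, iY.surjective⟩
    obtain ⟨U', hU'⟩ : ∃ U' : Y'.Opens, (U' : Set Y') = iY '' (f.coborderRange : Set Y) :=
      ⟨⟨_, hhomeo.isOpenMap _ f.coborderRange.2⟩, rfl⟩
    have hpre : ((iY ⁻¹ᵁ U' : Y.Opens) : Set Y) = f.coborderRange := by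
      show iY ⁻¹' (U' : Set Y') = _
      rw [hU', Set.preimage_image_eq _ iY.isClosedEmbedding.injective]
    have hr' : Set.range f' ⊆ Set.range U'.ι := by
      rw [Scheme.Opens.range_ι, hU']
      rintro _ ⟨x', rfl⟩
      obtain ⟨x, rfl⟩ := iX.surjective x'
      refine ⟨f x, subset_coborder ⟨x, rfl⟩, ?_⟩
      rw [← Scheme.Hom.comp_apply, ← Scheme.Hom.comp_apply, hc.w]
    have hr : Set.range f ⊆ Set.range (iY ⁻¹ᵁ U').ι := by
      rw [Scheme.Opens.range_ι, hpre]
      rintro _ ⟨x, rfl⟩
      exact subset_coborder ⟨x, rfl⟩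
    have hcl : IsClosedImmersion (IsOpenImmersion.lift (iY ⁻¹ᵁ U').ι f hr) :=
      isClosedImmersion_lift_of_range_eq f _ hpre hr
    have hf₁ : IsOpenImmersion.lift (iY ⁻¹ᵁ U').ι f hr ≫ (iY ⁻¹ᵁ U').ι = f :=
      IsOpenImmersion.lift_fac _ _ _
    generalize IsOpenImmersion.lift (iY ⁻¹ᵁ U').ι f hr = f₁ at hcl hf₁
    have hf'₁ : IsOpenImmersion.lift U'.ι f' hr' ≫ U'.ι = f' := IsOpenImmersion.lift_fac _ _ _
    generalize IsOpenImmersion.lift U'.ι f' hr' = f'₁ at hf'₁
    have hp : f₁ ≫ (iY ∣_ U') = iX ≫ f'₁ := by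
      rw [← cancel_mono U'.ι, Category.assoc, Category.assoc, morphismRestrict_ι,
        reassoc_of% hf₁, hf'₁, hc.w]
    have hsq : IsPullback iX f₁ f'₁ (iY ∣_ U') := by
      refine (IsPullback.of_right ?_ hp (isPullback_morphismRestrict iY U').flip).flip
      rw [hf₁, hf'₁]
      exact hc.flip
    haveI : LocallyOfFiniteType (f'₁ ≫ U'.ι) := by rw [hf'₁]; infer_instance
    haveI : LocallyOfFiniteType f'₁ := locallyOfFiniteType_of_comp f'₁ U'.ι
    have hth : MoreMor.IsThickening (iY ∣_ U') :=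
      ⟨inferInstance, MorphismProperty.of_isPullback (P := @Surjective)
        (isPullback_morphismRestrict iY U').flip inferInstance⟩
    haveI : IsClosedImmersion f'₁ :=
      (thickening_lft_isClosedImmersion_iff iX (iY ∣_ U') f₁ f'₁ hth hsq).mp hcl
    rw [← hf'₁]
    infer_instance
  · intro hf'
    exact MorphismProperty.of_isPullback hc hf'

end Groth.Agent.Lib.NilThick_helper6
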