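import Mathlib
import Groth.Prelude.Def_MoreMor
import Groth.Agent.Lib.NilThick4_helper6
set_option autoImplicit false
universe u

namespace Groth.Agent.Lib.NilThick_helper6

open CategoryTheory CategoryTheory.Limits AlgebraicGeometry MorphismProperty

/-- the base change of a closed immersion with nilpotent ideal has nilpotent ideal -/
theorem isNilpotent_ker_of_isPullback {T T₀ S S' : Scheme.{u}} (i : T₀ ⟶ T) (s : T₀ ⟶ S)
    (t : T ⟶ S') (iS : S ⟶ S') [IsClosedImmersion iS] (h : IsPullback i s t iS)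
    (hnil : IsNilpotent iS.ker) : IsNilpotent i.ker := by
  haveI : IsClosedImmersion i :=
    MorphismProperty.of_isPullback (P := @IsClosedImmersion) h.flip inferInstance
  obtain ⟨n, hn⟩ := hnil
  refine ⟨n, ?_⟩
  refine Scheme.IdealSheafData.ext_of_iSup_eq_top
    (fun W : {W : T.affineOpens // ∃ U' : S'.affineOpens, W.1 ≤ t ⁻¹ᵁ U'.1} => W.1) ?_ ?_
  · rw [eq_top_iff]
    rintro x -
    obtain ⟨_, ⟨U', hU', rfl⟩, hxU', -⟩ :=
      S'.isBasis_affineOpens.exists_subset_of_mem_open (Set.mem_univ (t x)) isOpen_univ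
    obtain ⟨_, ⟨W, hW, rfl⟩, hxW, hWU⟩ :=
      T.isBasis_affineOpens.exists_subset_of_mem_open hxU' (t ⁻¹ᵁ U').isOpen
    exact TopologicalSpace.Opens.mem_iSup.mpr ⟨⟨⟨W, hW⟩, ⟨U', hU'⟩, hWU⟩, hxW⟩
  · rintro ⟨W, U', hWU⟩
    show (i.ker.ideal W) ^ n = ⊥
    rw [Scheme.Hom.ker_apply]
    have hUT : IsAffineOpen (iS ⁻¹ᵁ U'.1) := U'.2.preimage iS
    obtain ⟨haff, po⟩ := isPushout_appLE_of_isPullback h U'.2 hUT W.2 le_rfl hWU
    rw [Scheme.Hom.appLE_eq_app] at po
    obtain ⟨-, hker⟩ := pushout_surjective_ker (iS.app U'.1).hom (iS.app_surjective U'.1 U'.2)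
      (t.appLE U'.1 W.1 hWU).hom
      (s.appLE (iS ⁻¹ᵁ U'.1) (i ⁻¹ᵁ W.1 ⊓ s ⁻¹ᵁ iS ⁻¹ᵁ U'.1) inf_le_right).hom
      (i.appLE W.1 (i ⁻¹ᵁ W.1 ⊓ s ⁻¹ᵁ iS ⁻¹ᵁ U'.1) inf_le_left).hom po.flip
    have hle : RingHom.ker (i.app W.1).hom ≤
        RingHom.ker (i.appLE W.1 (i ⁻¹ᵁ W.1 ⊓ s ⁻¹ᵁ iS ⁻¹ᵁ U'.1) inf_le_left).hom := by
      intro x hx
      rw [RingHom.mem_ker] at hx ⊢
      rw [Scheme.Hom.appLE, CommRingCat.hom_comp, RingHom.comp_apply, hx, map_zero]
    have hkn : (RingHom.ker (iS.app U'.1).hom) ^ n = ⊥ := by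
      have := congrArg (fun I => I.ideal U') hn
      rw [← Scheme.Hom.ker_apply]
      simpa using this
    rw [eq_bot_iff]
    calc (RingHom.ker (i.app W.1).hom) ^ n
        ≤ ((RingHom.ker (iS.app U'.1).hom).map (t.appLE U'.1 W.1 hWU).hom) ^ n :=
          Ideal.pow_right_mono (hle.trans hker) n
      _ = ⊥ := by rw [← Ideal.map_pow, hkn, Ideal.map_bot]

theorem finiteOrderThickening_mono_iff {X X' S S' : Scheme.{u}} (iX : X ⟶ X')
    (iS : S ⟶ S') (f : X ⟶ S) (f' : X' ⟶ S') (hS : MoreMor.IsFiniteOrderThickening iS)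
    (hc : IsPullback iX f f' iS) : Mono f ↔ Mono f' := by
  haveI := hS.1.1
  constructor
  · intro hf
    haveI : IsIso (pullback.diagonal f) := (pullback.isIso_diagonal_iff f).mpr hf
    haveI : FormallyUnramified f := inferInstance
    haveI : FormallyUnramified f' :=
      (finiteOrderThickening_formallyUnramified_iff iX iS f f' hS hc).mp inferInstance
    constructor
    intro T a b hab
    have hpb := IsPullback.of_hasPullback (a ≫ f') iS
    have hi_nil : IsNilpotent (pullback.fst (a ≫ f') iS).ker :=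
      isNilpotent_ker_of_isPullback _ _ (a ≫ f') iS hpb hS.2
    haveI : IsClosedImmersion (pullback.fst (a ≫ f') iS) := inferInstance
    have wa : (pullback.fst (a ≫ f') iS ≫ a) ≫ f' = pullback.snd (a ≫ f') iS ≫ iS := by
      rw [Category.assoc, pullback.condition]
    have wb : (pullback.fst (a ≫ f') iS ≫ b) ≫ f' = pullback.snd (a ≫ f') iS ≫ iS := by
      rw [Category.assoc, ← hab, pullback.condition]
    have h0 : hc.lift _ _ wa = hc.lift _ _ wb := by
      rw [← cancel_mono f, hc.lift_snd, hc.lift_snd]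
    have hig : pullback.fst (a ≫ f') iS ≫ a = pullback.fst (a ≫ f') iS ≫ b := by
      rw [← hc.lift_fst _ _ wa, ← hc.lift_fst _ _ wb, h0]
    exact FormallyUnramified.hom_ext (pullback.fst (a ≫ f') iS) hi_nil f' hig hab
  · intro hf'
    have : MorphismProperty.monomorphisms Scheme.{u} f :=
      MorphismProperty.of_isPullback (P := MorphismProperty.monomorphisms Scheme.{u}) hc
        (MorphismProperty.monomorphisms.infer_property f')
    exact this

end Groth.Agent.Lib.NilThick_helper6
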