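import Mathlib
import Groth.Agent.Lib.NilThick5_helper6
import Groth.Agent.Lib.LocalCrit2_helper9

/-!
# Morphisms over finite order thickenings with flat source (helper8)

Affine-local data for a diagram `X ⟶ Y ⟶ S` obtained by base change of `X' ⟶ Y' ⟶ S'` along a
thickening `S ⟶ S'`, and the fibrewise flatness criterion in nilpotent form.
-/

set_option autoImplicit false
universe u

open AlgebraicGeometry CategoryTheory CategoryTheory.Limits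
open Groth.Agent.Lib.NilThick_helper6

namespace NilH8

section Sch

variable {X X' Y Y' S S' : Scheme.{u}} {iX : X ⟶ X'} {iY : Y ⟶ Y'} {iS : S ⟶ S'}
  {f : X ⟶ Y} {f' : X' ⟶ Y'} {g : Y ⟶ S} {g' : Y' ⟶ S'}

theorem isPullback_top (hcX : IsPullback iX (f ≫ g) (f' ≫ g') iS) (hcY : IsPullback iY g g' iS)
    (w : iX ≫ f' = f ≫ iY) : IsPullback iX f f' iY :=
  IsPullback.of_bot hcX w hcY

/-- Affine-local data over three compatible affine opens. -/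
theorem exists_affine_data (hcX : IsPullback iX (f ≫ g) (f' ≫ g') iS)
    (hcY : IsPullback iY g g' iS) (w : iX ≫ f' = f ≫ iY) [IsAffineHom iS]
    (W' : S'.affineOpens) (U' : Y'.affineOpens) (V' : X'.affineOpens)
    (e₁ : U'.1 ≤ g' ⁻¹ᵁ W'.1) (e₂ : V'.1 ≤ f' ⁻¹ᵁ U'.1) :
    ∃ (UY : Y.affineOpens) (UX : X.affineOpens) (hY : UY.1 ≤ iY ⁻¹ᵁ U'.1)
      (hX : UX.1 ≤ iX ⁻¹ᵁ V'.1) (hXY : UX.1 ≤ f ⁻¹ᵁ UY.1) (hYS : UY.1 ≤ g ⁻¹ᵁ (iS ⁻¹ᵁ W'.1)),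
      IsPushout (g'.appLE W'.1 U'.1 e₁) (iS.app W'.1) (iY.appLE U'.1 UY.1 hY)
        (g.appLE (iS ⁻¹ᵁ W'.1) UY.1 hYS) ∧
      IsPushout (g'.appLE W'.1 U'.1 e₁ ≫ f'.appLE U'.1 V'.1 e₂) (iS.app W'.1)
        (iX.appLE V'.1 UX.1 hX)
        (g.appLE (iS ⁻¹ᵁ W'.1) UY.1 hYS ≫ f.appLE UY.1 UX.1 hXY) ∧
      f'.appLE U'.1 V'.1 e₂ ≫ iX.appLE V'.1 UX.1 hX =
        iY.appLE U'.1 UY.1 hY ≫ f.appLE UY.1 UX.1 hXY := by
  have hUT : IsAffineOpen (iS ⁻¹ᵁ W'.1) := W'.2.preimage iS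
  have e₃ : V'.1 ≤ (f' ≫ g') ⁻¹ᵁ W'.1 := fun x hx => e₁ (e₂ hx)
  obtain ⟨haY, poY⟩ := isPushout_appLE_of_isPullback hcY W'.2 hUT U'.2 le_rfl e₁
  obtain ⟨haX, poX⟩ := isPushout_appLE_of_isPullback hcX W'.2 hUT V'.2 le_rfl e₃
  rw [Scheme.Hom.appLE_eq_app] at poY poX
  have hXY : iX ⁻¹ᵁ V'.1 ⊓ (f ≫ g) ⁻¹ᵁ (iS ⁻¹ᵁ W'.1) ≤
      f ⁻¹ᵁ (iY ⁻¹ᵁ U'.1 ⊓ g ⁻¹ᵁ (iS ⁻¹ᵁ W'.1)) := by
    intro x hx
    refine ⟨?_, hx.2⟩
    have h1 : f' (iX x) ∈ U'.1 := e₂ hx.1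
    have h2 : iY (f x) = f' (iX x) := by
      rw [← Scheme.Hom.comp_apply, ← Scheme.Hom.comp_apply, w]
    change iY (f x) ∈ U'.1
    rw [h2]
    exact h1
  refine ⟨⟨_, haY⟩, ⟨_, haX⟩, inf_le_left, inf_le_left, hXY, inf_le_right, poY, ?_, ?_⟩
  · rw [Scheme.Hom.appLE_comp_appLE, Scheme.Hom.appLE_comp_appLE]
    exact poX
  · rw [Scheme.Hom.appLE_comp_appLE, Scheme.Hom.appLE_comp_appLE]
    congr 1

end Sch

section Alg

open TensorProduct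

/-- The right-hand square of two pasted pushout squares is a pushout. -/
theorem isPushout_right {R' R A' A B' B : CommRingCat.{u}} {α : R' ⟶ A'} {β : A' ⟶ B'}
    {ρ : R' ⟶ R} {πA : A' ⟶ A} {πB : B' ⟶ B} {a : R ⟶ A} {φ : A ⟶ B}
    (h1 : IsPushout α ρ πA a) (h2 : IsPushout (α ≫ β) ρ πB (a ≫ φ)) (c : β ≫ πB = πA ≫ φ) :
    IsPushout β πA πB φ :=
  h2.of_left c h1

/-- **Fibrewise flatness criterion, nilpotent form, for a pushout square.** -/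
theorem flat_of_isPushout_of_nilpotent {R' A' A B' B : Type u} [CommRing R'] [CommRing A']
    [CommRing A] [CommRing B'] [CommRing B] (α : R' →+* A') (I : Ideal R') (hI : IsNilpotent I)
    (β : A' →+* B') (πA : A' →+* A) (πB : B' →+* B) (φ : A →+* B)
    (hπA : Function.Surjective πA) (hker : RingHom.ker πA ≤ I.map α)
    (po : IsPushout (CommRingCat.ofHom β) (CommRingCat.ofHom πA) (CommRingCat.ofHom πB)
      (CommRingCat.ofHom φ))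
    (hflat : (β.comp α).Flat) (hφ : φ.Flat) : β.Flat := by
  letI := α.toAlgebra
  letI := β.toAlgebra
  letI : Algebra R' B' := (β.comp α).toAlgebra
  haveI : IsScalarTower R' A' B' := IsScalarTower.of_algebraMap_eq' rfl
  letI := πA.toAlgebra
  letI := πB.toAlgebra
  letI := φ.toAlgebra
  letI : Algebra A' B := (φ.comp πA).toAlgebra
  haveI : IsScalarTower A' A B := IsScalarTower.of_algebraMap_eq' rfl
  have hw : πB.comp β = φ.comp πA := congrArg CommRingCat.Hom.hom po.w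
  haveI : IsScalarTower A' B' B := IsScalarTower.of_algebraMap_eq' hw.symm
  have hpo : Algebra.IsPushout A' A B' B := CommRingCat.isPushout_iff_isPushout.mp po.flip
  haveI : Module.Flat R' B' := hflat
  haveI : Module.Flat A B := hφ
  obtain ⟨J, hJ⟩ : ∃ J : Ideal A', J = I.map (algebraMap R' A') := ⟨_, rfl⟩
  obtain ⟨ψ, hψ⟩ : ∃ ψ : A →+* A' ⧸ J, ψ.comp πA = Ideal.Quotient.mk J := by
    refine ⟨RingHom.liftOfSurjective πA hπA ⟨Ideal.Quotient.mk J, ?_⟩,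
      RingHom.liftOfRightInverse_comp _ _ _ _⟩
    rw [Ideal.mk_ker, hJ]
    exact hker
  letI : Algebra A (A' ⧸ J) := ψ.toAlgebra
  haveI : IsScalarTower A' A (A' ⧸ J) := IsScalarTower.of_algebraMap_eq' hψ.symm
  have b1 : IsBaseChange A (IsScalarTower.toAlgHom A' B' B).toLinearMap := hpo.out
  have b2 : IsBaseChange (A' ⧸ J) (TensorProduct.mk A (A' ⧸ J) B 1) :=
    TensorProduct.isBaseChange A B (A' ⧸ J)
  have b3 := b1.comp b2
  have hfl : Module.Flat (A' ⧸ J) ((A' ⧸ J) ⊗[A'] B') := Module.Flat.of_linearEquiv b3.equiv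
  subst hJ
  exact Groth.Agent.Lib.LocalCrit2.flat_of_flat_of_nilpotent I hI hfl

end Alg

section Flat

variable {X X' Y Y' S S' : Scheme.{u}} {iX : X ⟶ X'} {iY : Y ⟶ Y'} {iS : S ⟶ S'}
  {f : X ⟶ Y} {f' : X' ⟶ Y'} {g : Y ⟶ S} {g' : Y' ⟶ S'}

/-- Three compatible affine opens around a point of `X'`. -/
theorem exists_three_affine (f' : X' ⟶ Y') (g' : Y' ⟶ S') (x' : X') :
    ∃ (W' : S'.affineOpens) (U' : Y'.affineOpens) (V' : X'.affineOpens),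
      x' ∈ V'.1 ∧ U'.1 ≤ g' ⁻¹ᵁ W'.1 ∧ V'.1 ≤ f' ⁻¹ᵁ U'.1 := by
  obtain ⟨_, ⟨W', hW', rfl⟩, hxW', -⟩ := S'.isBasis_affineOpens.exists_subset_of_mem_open
    (Set.mem_univ (g' (f' x'))) isOpen_univ
  obtain ⟨_, ⟨U', hU', rfl⟩, hxU', hU'W'⟩ := Y'.isBasis_affineOpens.exists_subset_of_mem_open
    (show f' x' ∈ g' ⁻¹ᵁ W' from hxW') (g' ⁻¹ᵁ W').isOpen
  obtain ⟨_, ⟨V', hV', rfl⟩, hxV', hV'U'⟩ := X'.isBasis_affineOpens.exists_subset_of_mem_open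
    (show x' ∈ f' ⁻¹ᵁ U' from hxU') (f' ⁻¹ᵁ U').isOpen
  exact ⟨⟨W', hW'⟩, ⟨U', hU'⟩, ⟨V', hV'⟩, hxV', hU'W', hV'U'⟩

theorem flat_of_finiteOrderThickening (hS : MoreMor.IsFiniteOrderThickening iS)
    (hcX : IsPullback iX (f ≫ g) (f' ≫ g') iS) (hcY : IsPullback iY g g' iS)
    (w : iX ≫ f' = f ≫ iY) [Flat (f' ≫ g')] (hf : Flat f) : Flat f' := by
  haveI := hS.1.1
  rw [HasRingHomProperty.iff_exists_appLE (P := @Flat)
    (RingHom.Flat.stableUnderComposition.stableUnderCompositionWithLocalizationAway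
      RingHom.Flat.holdsForLocalizationAway).left]
  intro x'
  obtain ⟨W', U', V', hxV', e₁, e₂⟩ := exists_three_affine f' g' x'
  refine ⟨U', V', hxV', e₂, ?_⟩
  obtain ⟨UY, UX, hY, hX, hXY, hYS, po1, po2, c⟩ := exists_affine_data hcX hcY w W' U' V' e₁ e₂
  have po3 := isPushout_right po1 po2 c
  obtain ⟨hπA, hkerA⟩ := pushout_surjective_ker (iS.app W'.1).hom (iS.app_surjective W'.1 W'.2)
    (g'.appLE W'.1 U'.1 e₁).hom (g.appLE (iS ⁻¹ᵁ W'.1) UY.1 hYS).hom (iY.appLE U'.1 UY.1 hY).hom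
    po1.flip
  refine flat_of_isPushout_of_nilpotent (g'.appLE W'.1 U'.1 e₁).hom (RingHom.ker (iS.app W'.1).hom)
    (isNilpotent_ker_app iS hS.2 W') (f'.appLE U'.1 V'.1 e₂).hom (iY.appLE U'.1 UY.1 hY).hom
    (iX.appLE V'.1 UX.1 hX).hom (f.appLE UY.1 UX.1 hXY).hom hπA hkerA po3 ?_ ?_
  · rw [← CommRingCat.hom_comp, Scheme.Hom.appLE_comp_appLE]
    exact HasRingHomProperty.appLE (P := @Flat) (f' ≫ g') inferInstance W' V' _
  · exact HasRingHomProperty.appLE (P := @Flat) f hf UY UX hXY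

end Flat

end NilH8
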