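import Groth.Agent.Lib.Nil1_helper8
import Groth.Agent.Lib.FSNilp_helper3

/-!
# Finite presentation over finite order thickenings with flat source (helper8)
-/

set_option autoImplicit false
universe u

open AlgebraicGeometry CategoryTheory CategoryTheory.Limits
open Groth.Agent.Lib.NilThick_helper6

namespace NilH8

section Alg

open TensorProduct MvPolynomial

/-- Nilpotent Nakayama for submodules. -/
theorem le_of_le_sup_smul_of_nilpotent {R M : Type*} [CommRing R] [AddCommGroup M] [Module R M]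
    (I : Ideal R) (hI : IsNilpotent I) (N N' : Submodule R M) (h : N ≤ N' ⊔ I • N) : N ≤ N' := by
  obtain ⟨k, hk⟩ := hI
  have key : ∀ k : ℕ, N ≤ N' ⊔ I ^ k • N := by
    intro k
    induction k with
    | zero =>
      rw [pow_zero, Ideal.one_eq_top, Submodule.top_smul]
      exact le_sup_right
    | succ k ih =>
      calc N ≤ N' ⊔ I • N := h
        _ ≤ N' ⊔ I • (N' ⊔ I ^ k • N) := sup_le_sup_left (Submodule.smul_mono le_rfl ih) _
        _ = N' ⊔ (I • N' ⊔ I • (I ^ k • N)) := by rw [Submodule.smul_sup]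
        _ ≤ N' ⊔ I ^ (k + 1) • N := by
          rw [← Submodule.mul_smul, ← pow_succ']
          exact sup_le le_sup_left
            (sup_le (Submodule.smul_le_right.trans le_sup_left) le_sup_right)
  have := key k
  rw [hk, Ideal.zero_eq_bot, Submodule.bot_smul, sup_bot_eq] at this
  exact this

theorem exists_fg_le_of_le_sup {P : Type*} [CommRing P] (K J L : Ideal P) (hL : L.FG)
    (h : L ≤ K ⊔ J) : ∃ L' : Ideal P, L'.FG ∧ L' ≤ K ∧ L ≤ L' ⊔ J := by
  classical
  obtain ⟨T, rfl⟩ := hL
  have h1 : ∀ t ∈ T, ∃ k ∈ K, ∃ j ∈ J, k + j = t := fun t ht =>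
    Submodule.mem_sup.1 (h (Submodule.subset_span ht))
  choose! κ hκ ι hι hsum using h1
  refine ⟨Ideal.span (T.image κ), ⟨T.image κ, rfl⟩, ?_, ?_⟩
  · rw [Ideal.span_le]
    intro x hx
    obtain ⟨t, ht, rfl⟩ := Finset.mem_image.1 (by exact_mod_cast hx)
    exact hκ t ht
  · rw [Submodule.span_le]
    intro t ht
    rw [← hsum t ht]
    refine Submodule.add_mem _ (Submodule.mem_sup_left (Ideal.subset_span ?_))
      (Submodule.mem_sup_right (hι t ht))
    exact_mod_cast Finset.mem_image_of_mem κ ht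

theorem isNilpotent_map_ideal {R S : Type*} [CommRing R] [CommRing S] (α : R →+* S) (I : Ideal R)
    (hI : IsNilpotent I) : IsNilpotent (I.map α) := by
  obtain ⟨k, hk⟩ := hI
  exact ⟨k, by rw [← Ideal.map_pow, hk, Ideal.zero_eq_bot, Ideal.map_bot]; rfl⟩

theorem isNilpotent_of_le {R : Type*} [CommRing R] {I J : Ideal R} (h : I ≤ J)
    (hJ : IsNilpotent J) : IsNilpotent I := by
  obtain ⟨k, hk⟩ := hJ
  refine ⟨k, le_bot_iff.1 ?_⟩
  rw [Ideal.zero_eq_bot] at hk
  rw [← hk]
  exact Ideal.pow_right_mono h k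

/-- **Finite presentation lifts along a nilpotent thickening when the source is flat over the
base.** -/
theorem finitePresentation_of_isPushout_of_nilpotent {R' A' A B' B : Type u} [CommRing R']
    [CommRing A'] [CommRing A] [CommRing B'] [CommRing B] (α : R' →+* A') (I : Ideal R')
    (hI : IsNilpotent I) (β : A' →+* B') (πA : A' →+* A) (πB : B' →+* B) (φ : A →+* B)
    (hπA : Function.Surjective πA) (hker : RingHom.ker πA ≤ I.map α)
    (po : IsPushout (CommRingCat.ofHom β) (CommRingCat.ofHom πA) (CommRingCat.ofHom πB)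
      (CommRingCat.ofHom φ))
    (hflat : (β.comp α).Flat) (hφ : φ.FinitePresentation) : β.FinitePresentation := by
  classical
  have hkernil : IsNilpotent (RingHom.ker πA) :=
    isNilpotent_of_le hker (isNilpotent_map_ideal α I hI)
  have hft : β.FiniteType :=
    finiteType_of_pushout_nilpotent πA hπA hkernil β φ πB po.flip (RingHom.FiniteType.of_finitePresentation hφ)
  obtain ⟨hπB, hkerB⟩ := pushout_surjective_ker πA hπA β φ πB po.flip
  have hw : πB.comp β = φ.comp πA := congrArg CommRingCat.Hom.hom po.w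
  letI := α.toAlgebra
  letI := β.toAlgebra
  letI : Algebra R' B' := (β.comp α).toAlgebra
  haveI : IsScalarTower R' A' B' := IsScalarTower.of_algebraMap_eq' rfl
  letI := φ.toAlgebra
  haveI : Module.Flat R' B' := hflat
  haveI : Algebra.FinitePresentation A B := hφ
  obtain ⟨n, Φ, hΦ⟩ := Algebra.FiniteType.iff_quotient_mvPolynomial''.mp hft
  obtain ⟨μ, hμdef⟩ : ∃ μ : MvPolynomial (Fin n) A' →+* MvPolynomial (Fin n) A,
      μ = MvPolynomial.map πA := ⟨_, rfl⟩
  have hμ : Function.Surjective μ := hμdef ▸ MvPolynomial.map_surjective πA hπA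
  obtain ⟨ΦA, hΦAdef⟩ : ∃ ΦA : MvPolynomial (Fin n) A →ₐ[A] B,
      ΦA = MvPolynomial.aeval (fun i => πB (Φ (X i))) := ⟨_, rfl⟩
  have hcomp : (ΦA : MvPolynomial (Fin n) A →+* B).comp μ =
      πB.comp (Φ : MvPolynomial (Fin n) A' →+* B') := by
    refine MvPolynomial.ringHom_ext (fun a => ?_) (fun i => ?_)
    · have h1 : (algebraMap A' B') a = β a := rfl
      have h2 : (algebraMap A B) (πA a) = φ (πA a) := rfl
      simp only [RingHom.comp_apply, hμdef, MvPolynomial.map_C, hΦAdef, RingHom.coe_coe,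
        MvPolynomial.algHom_C, h1, h2]
      exact (RingHom.congr_fun hw a).symm
    · simp only [RingHom.comp_apply, hμdef, MvPolynomial.map_X, hΦAdef, RingHom.coe_coe,
        MvPolynomial.aeval_X]
  have hΦA : Function.Surjective ΦA := by
    intro b
    obtain ⟨b', rfl⟩ := hπB b
    obtain ⟨p, rfl⟩ := hΦ b'
    exact ⟨μ p, RingHom.congr_fun hcomp p⟩
  have hkerΦA : (RingHom.ker ΦA.toRingHom).FG :=
    Algebra.FinitePresentation.ker_fG_of_surjective ΦA hΦA
  obtain ⟨L, hLfg, hLmap⟩ : ∃ L : Ideal (MvPolynomial (Fin n) A'),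
      L.FG ∧ L.map μ = RingHom.ker ΦA.toRingHom := by
    obtain ⟨T, hT⟩ := hkerΦA
    refine ⟨Ideal.span (T.image (Function.surjInv hμ)), ⟨_, rfl⟩, ?_⟩
    rw [Ideal.map_span, ← hT, Finset.coe_image, Set.image_image]
    congr 1
    simp [Function.surjInv_eq hμ]
  obtain ⟨K, hK⟩ : ∃ K : Ideal (MvPolynomial (Fin n) A'),
      K = RingHom.ker (Φ : MvPolynomial (Fin n) A' →+* B') := ⟨_, rfl⟩
  obtain ⟨IP, hIP⟩ : ∃ IP : Ideal (MvPolynomial (Fin n) A'),
      IP = I.map (algebraMap R' (MvPolynomial (Fin n) A')) := ⟨_, rfl⟩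
  have h1 : RingHom.ker (πB.comp (Φ : MvPolynomial (Fin n) A' →+* B')) = L ⊔ RingHom.ker μ := by
    rw [← hcomp, ← RingHom.comap_ker, ← AlgHom.toRingHom_eq_coe, ← hLmap,
      Ideal.comap_map_of_surjective μ hμ]
    rfl
  have h2 : RingHom.ker μ ≤ IP := by
    rw [hμdef, MvPolynomial.ker_map, hIP]
    refine (Ideal.map_mono hker).trans ?_
    rw [Ideal.map_map]
    exact le_of_eq rfl
  have h3 : K ≤ L ⊔ IP := by
    calc K ≤ RingHom.ker (πB.comp (Φ : MvPolynomial (Fin n) A' →+* B')) := fun x hx => by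
          rw [hK, RingHom.mem_ker] at hx
          rw [RingHom.mem_ker, RingHom.comp_apply, hx, map_zero]
      _ = L ⊔ RingHom.ker μ := h1
      _ ≤ L ⊔ IP := sup_le_sup_left h2 _
  have h4 : L ≤ K ⊔ IP := by
    have hL1 : L ≤ RingHom.ker (πB.comp (Φ : MvPolynomial (Fin n) A' →+* B')) :=
      h1 ▸ le_sup_left
    refine hL1.trans ?_
    rw [← RingHom.comap_ker]
    have hle : RingHom.ker πB ≤ IP.map (Φ : MvPolynomial (Fin n) A' →+* B') := by
      refine hkerB.trans ((Ideal.map_mono hker).trans ?_)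
      rw [Ideal.map_map, hIP, Ideal.map_map]
      refine le_of_eq ?_
      congr 1
      ext r
      simp only [RingHom.comp_apply, RingHom.coe_coe, AlgHom.commutes,
        IsScalarTower.algebraMap_apply R' A' (MvPolynomial (Fin n) A')]
      rfl
    refine (Ideal.comap_mono hle).trans ?_
    rw [Ideal.comap_map_of_surjective (Φ : MvPolynomial (Fin n) A' →+* B') hΦ, hK]
    exact le_of_eq (sup_comm _ _)
  obtain ⟨L', hL'fg, hL'K, hLL'⟩ := exists_fg_le_of_le_sup K IP L hLfg h4
  have h5 : K ≤ L' ⊔ IP := h3.trans (sup_le hLL' le_sup_right)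
  have h6 : K.restrictScalars R' ⊓ I • (⊤ : Submodule R' (MvPolynomial (Fin n) A')) =
      I • K.restrictScalars R' := by
    have := LinearMap.ker_inf_smul_top_eq_smul_of_flat I (Φ.toLinearMap.restrictScalars R') hΦ
    rw [hK]
    exact this
  have h7 : K.restrictScalars R' ≤ L'.restrictScalars R' ⊔ I • K.restrictScalars R' := by
    rw [← h6, inf_comm,
      ← sup_inf_assoc_of_le _ (show L'.restrictScalars R' ≤ K.restrictScalars R' from hL'K)]
    refine le_inf ?_ le_rfl
    rw [Ideal.smul_top_eq_map, ← hIP]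
    intro x hx
    obtain ⟨y, hy, z, hz, rfl⟩ := Submodule.mem_sup.1 (h5 hx)
    exact Submodule.add_mem _ (Submodule.mem_sup_left hy) (Submodule.mem_sup_right hz)
  have h8 := le_of_le_sup_smul_of_nilpotent I hI _ _ h7
  have h9 : K = L' := le_antisymm h8 hL'K
  exact ⟨n, Φ, hΦ, by rw [AlgHom.toRingHom_eq_coe, ← hK, h9]; exact hL'fg⟩

end Alg

section Alg2

/-- The hypotheses shared by all ring-level lifting statements. -/
structure LiftData {R' A' A B' B : Type u} [CommRing R'] [CommRing A'] [CommRing A] [CommRing B']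
    [CommRing B] (α : R' →+* A') (I : Ideal R') (β : A' →+* B') (πA : A' →+* A) (πB : B' →+* B)
    (φ : A →+* B) : Prop where
  nil : IsNilpotent I
  surj : Function.Surjective πA
  ker_le : RingHom.ker πA ≤ I.map α
  po : IsPushout (CommRingCat.ofHom β) (CommRingCat.ofHom πA) (CommRingCat.ofHom πB)
    (CommRingCat.ofHom φ)
  flat : (β.comp α).Flat

variable {R' A' A B' B : Type u} [CommRing R'] [CommRing A'] [CommRing A] [CommRing B']
  [CommRing B] {α : R' →+* A'} {I : Ideal R'} {β : A' →+* B'} {πA : A' →+* A} {πB : B' →+* B}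
  {φ : A →+* B}

theorem LiftData.flat_of (D : LiftData α I β πA πB φ) (h : φ.Flat) : β.Flat :=
  flat_of_isPushout_of_nilpotent α I D.nil β πA πB φ D.surj D.ker_le D.po D.flat h

theorem LiftData.finitePresentation_of (D : LiftData α I β πA πB φ) (h : φ.FinitePresentation) :
    β.FinitePresentation :=
  finitePresentation_of_isPushout_of_nilpotent α I D.nil β πA πB φ D.surj D.ker_le D.po D.flat h

theorem LiftData.smooth_of (D : LiftData α I β πA πB φ) (h : φ.Smooth) : β.Smooth := by
  rw [RingHom.smooth_def] at h ⊢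
  refine ⟨?_, D.finitePresentation_of h.2⟩
  have hflat : β.Flat := D.flat_of (RingHom.Smooth.flat (RingHom.smooth_def.2 h))
  obtain ⟨hπB, hkerB⟩ := pushout_surjective_ker πA D.surj β φ πB D.po.flip
  have hw : πB.comp β = φ.comp πA := congrArg CommRingCat.Hom.hom D.po.w
  obtain ⟨k, hk⟩ := isNilpotent_of_le D.ker_le (isNilpotent_map_ideal α I D.nil)
  refine Groth.Agent.Lib.FSNilpH3.formallySmooth_of_flat_of_nilpotent k β πA πB φ hflat D.surj hπB hw
    hk (le_antisymm hkerB ?_) h.1
  rw [Ideal.map_le_iff_le_comap]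
  intro x hx
  rw [Ideal.mem_comap, RingHom.mem_ker, ← RingHom.comp_apply, hw, RingHom.comp_apply,
    RingHom.mem_ker.1 hx, map_zero]

theorem LiftData.etale_of (D : LiftData α I β πA πB φ) (h : φ.Etale) : β.Etale := by
  rw [RingHom.etale_iff_formallyUnramified_and_smooth] at h ⊢
  exact ⟨formallyUnramified_of_pushout_nilpotent πA D.surj
    (isNilpotent_of_le D.ker_le (isNilpotent_map_ideal α I D.nil)) β φ πB D.po.flip h.1,
    D.smooth_of h.2⟩

end Alg2

section Sch

variable {X X' Y Y' S S' : Scheme.{u}} {iX : X ⟶ X'} {iY : Y ⟶ Y'} {iS : S ⟶ S'}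
  {f : X ⟶ Y} {f' : X' ⟶ Y'} {g : Y ⟶ S} {g' : Y' ⟶ S'}

/-- Generic lifting of an affine-local property of morphisms along a finite order thickening of the
base, when the source is flat over the base. -/
theorem of_finiteOrderThickening {P : MorphismProperty Scheme.{u}}
    {Q : ∀ {R S : Type u} [CommRing R] [CommRing S], (R →+* S) → Prop} [HasRingHomProperty P Q]
    (hQs : RingHom.StableUnderCompositionWithLocalizationAwaySource Q)
    (hS : MoreMor.IsFiniteOrderThickening iS)
    (hcX : IsPullback iX (f ≫ g) (f' ≫ g') iS) (hcY : IsPullback iY g g' iS)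
    (w : iX ≫ f' = f ≫ iY) [Flat (f' ≫ g')]
    (hQ : ∀ {R' A' A B' B : Type u} [CommRing R'] [CommRing A'] [CommRing A] [CommRing B']
      [CommRing B] (α : R' →+* A') (I : Ideal R') (β : A' →+* B') (πA : A' →+* A) (πB : B' →+* B)
      (φ : A →+* B), LiftData α I β πA πB φ → Q φ → Q β)
    (hf : P f) : P f' := by
  haveI := hS.1.1
  rw [HasRingHomProperty.iff_exists_appLE (P := P) hQs]
  intro x'
  obtain ⟨W', U', V', hxV', e₁, e₂⟩ := exists_three_affine f' g' x'
  refine ⟨U', V', hxV', e₂, ?_⟩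
  obtain ⟨UY, UX, hY, hX, hXY, hYS, po1, po2, c⟩ := exists_affine_data hcX hcY w W' U' V' e₁ e₂
  have po3 := isPushout_right po1 po2 c
  obtain ⟨hπA, hkerA⟩ := pushout_surjective_ker (iS.app W'.1).hom (iS.app_surjective W'.1 W'.2)
    (g'.appLE W'.1 U'.1 e₁).hom (g.appLE (iS ⁻¹ᵁ W'.1) UY.1 hYS).hom (iY.appLE U'.1 UY.1 hY).hom
    po1.flip
  refine hQ (g'.appLE W'.1 U'.1 e₁).hom (RingHom.ker (iS.app W'.1).hom)
    (f'.appLE U'.1 V'.1 e₂).hom (iY.appLE U'.1 UY.1 hY).hom
    (iX.appLE V'.1 UX.1 hX).hom (f.appLE UY.1 UX.1 hXY).hom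
    ⟨isNilpotent_ker_app iS hS.2 W', hπA, hkerA, po3, ?_⟩
    (HasRingHomProperty.appLE (P := P) f hf UY UX hXY)
  rw [← CommRingCat.hom_comp, Scheme.Hom.appLE_comp_appLE]
  exact HasRingHomProperty.appLE (P := @Flat) (f' ≫ g') inferInstance W' V' _

theorem locallyOfFinitePresentation_of_finiteOrderThickening
    (hS : MoreMor.IsFiniteOrderThickening iS)
    (hcX : IsPullback iX (f ≫ g) (f' ≫ g') iS) (hcY : IsPullback iY g g' iS)
    (w : iX ≫ f' = f ≫ iY) [Flat (f' ≫ g')] (hf : LocallyOfFinitePresentation f) :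
    LocallyOfFinitePresentation f' :=
  of_finiteOrderThickening (P := @LocallyOfFinitePresentation)
    (RingHom.finitePresentation_stableUnderComposition.stableUnderCompositionWithLocalizationAway
      RingHom.finitePresentation_holdsForLocalizationAway).left hS hcX hcY w
    (fun _ _ _ _ _ _ D h => D.finitePresentation_of h) hf

theorem smooth_of_finiteOrderThickening (hS : MoreMor.IsFiniteOrderThickening iS)
    (hcX : IsPullback iX (f ≫ g) (f' ≫ g') iS) (hcY : IsPullback iY g g' iS)
    (w : iX ≫ f' = f ≫ iY) [Flat (f' ≫ g')] (hf : Smooth f) : Smooth f' :=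
  of_finiteOrderThickening (P := @Smooth)
    (RingHom.Smooth.stableUnderComposition.stableUnderCompositionWithLocalizationAway
      RingHom.Smooth.holdsForLocalizationAway).left hS hcX hcY w
    (fun _ _ _ _ _ _ D h => D.smooth_of h) hf

theorem etale_holdsForLocalizationAway : RingHom.HoldsForLocalizationAway RingHom.Etale := by
  intro R S _ _ _ r _
  rw [RingHom.etale_algebraMap]
  exact Algebra.Etale.of_isLocalizationAway r

theorem etale_of_finiteOrderThickening (hS : MoreMor.IsFiniteOrderThickening iS)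
    (hcX : IsPullback iX (f ≫ g) (f' ≫ g') iS) (hcY : IsPullback iY g g' iS)
    (w : iX ≫ f' = f ≫ iY) [Flat (f' ≫ g')] (hf : Etale f) : Etale f' :=
  of_finiteOrderThickening (P := @Etale)
    (RingHom.Etale.stableUnderComposition.stableUnderCompositionWithLocalizationAway
      etale_holdsForLocalizationAway).left hS hcX hcY w
    (fun _ _ _ _ _ _ D h => D.etale_of h) hf

end Sch

end NilH8
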