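import Mathlib
import Groth.Prelude.Def_Flat
import Groth.Prelude.Def_Dual3
import Groth.Prelude.Def_Cyc
import Groth.Agent.Lib.FibCoh3_helper8
import Groth.Agent.Lib.FlatFibDim_helper8

universe u
open AlgebraicGeometry CategoryTheory

namespace FibCohH8

/-- If every point has relative dimension `d`, then every irreducible component of every fibre has
dimension `d`. -/
theorem hasRelDim_of_forall_fibreDimAt {U V : Scheme.{u}} (h : U ⟶ V) [LocallyOfFiniteType h]
    (d : ℕ) (H : ∀ u : U, FlatMor.fibreDimAt h u = (d : WithBot ℕ∞)) : Cyc.HasRelDim h d := by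
  intro y T hT
  obtain ⟨z₀, hTeq, hmax, hdim⟩ :=
    Groth.Agent.FlatFibDimH8.exists_generic_of_mem_irreducibleComponents (h.fiber y) T hT
  rw [hdim]
  have hy : h ((h.fiberι y) z₀) = y := Groth.Agent.FibRes2H8.fiberι_mem h y z₀
  generalize hu : (h.fiberι y) z₀ = u at hy
  subst hy
  have hz : z₀ = h.asFiber u := by
    apply (h.fiberι (h u)).isEmbedding.injective
    rw [hu, Scheme.Hom.fiberι_asFiber]
  subst hz
  obtain ⟨n, hn, hh⟩ := Groth.Agent.FibRes2H8.height_asFiber h u
  rw [hh]
  have key := H u
  rw [fibreDimAt_eq] at key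
  have hc : fibCoh h u = 0 := by
    have := stalk_fiber_eq_fibCoh h u
    rw [AlgebraicGeometry.ringKrullDim_stalk_eq_coheight, Order.coheight_eq_zero.mpr hmax] at this
    exact_mod_cast this.symm
  have h3 : Dual3.resTrdeg h u = (n : Cardinal.{u}) := hn
  rw [hc, h3, Cardinal.toENat_nat] at key
  simpa using key

end FibCohH8
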