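import Groth.Agent.Lib.AlgSpThickLocal_helper7
import Groth.Agent.Lib.AlgSpLocSurj_helper7
import Groth.Agent.Lib.ChartIndep_helper8
import Groth.Agent.Lib.Nil3_helper8
import Groth.Agent.S1309
import Groth.Agent.S1310
import Groth.Agent.S1312
import Groth.Agent.S1317
import Groth.Agent.S1320
import Groth.Agent.S1321
import Groth.Agent.S1322
import Groth.Agent.S9358
import Groth.Agent.S10311

/-! # Deformation of local properties along finite order thickenings of algebraic spaces (helper7) -/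

set_option autoImplicit false
set_option linter.style.haveILetI false
set_option backward.isDefEq.respectTransparency false
set_option backward.isDefEq.respectTransparency.types false

universe u

open CategoryTheory CategoryTheory.Limits AlgebraicGeometry Opposite

namespace Groth.Agent.Lib.AlgSpDeformH7

open AlgSp Groth.Agent.Lib.AlgStLocQ
  Groth.Agent.Lib.AlgSpQC_helper7 Groth.Agent.Lib.AlgSpDiag_helper7
  Groth.Agent.Lib.AlgSpPullback_helper7 Groth.Agent.Lib.AlgSpRepBySp_helper7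
  Groth.Agent.Lib.AlgSpPoints_helper7 Groth.Agent.Lib.AlgSpLocP_helper7
  Groth.Agent.Lib.AlgSpBasic_helper7 Groth.Agent.Lib.AlgSpSep_helper7
  Groth.Agent.Lib.AlgSpLocP4_helper7 Groth.Agent.Lib.AlgSpLocP5_helper7
  Groth.Agent.Lib.AlgSpLocP7_helper7 Groth.Agent.Lib.AlgSpQC2_helper7
  Groth.Agent.Lib.AlgSpLocP8_helper7 Groth.Agent.Lib.AlgSpLocP10_helper7
  Groth.Agent.Lib.AlgSpFpqc3_helper7 Groth.Agent.Lib.AlgSpLocP6_helper7
  Groth.Agent.Lib.AlgSpFpqc2_helper7 Groth.Agent.Lib.AlgSpFpqc_helper7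
  Groth.Agent.Lib.AlgSpOpenSub_helper7 Groth.Agent.Lib.AlgSpOpen_helper7
  Groth.Agent.Lib.AlgSpUnram_helper7 Groth.Agent.Lib.AlgSpLocSurjH7

variable {S : Scheme.{u}}

/-- Base change of a chart diagram along a cartesian square of target charts. -/
theorem chart_bc {X B B' X' : Sp S} (f : X ⟶ B) (g : B' ⟶ B) (fst : X' ⟶ X) (snd : X' ⟶ B')
    (hX' : IsPullback fst snd f g) {U W W₁ U₁ : Over S} (a : (yon S).obj U ⟶ X)
    (c : (yon S).obj W ⟶ B) (h : U ⟶ W) (comm : a ≫ f = (yon S).map h ≫ c)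
    (j : W₁ ⟶ W) (c₁ : (yon S).obj W₁ ⟶ B') (sqW : IsPullback c₁ ((yon S).map j) g c)
    (p : U₁ ⟶ U) (h₁ : U₁ ⟶ W₁) (sqU : IsPullback p h₁ h j) :
    ∃ a₁ : (yon S).obj U₁ ⟶ X', a₁ ≫ fst = (yon S).map p ≫ a ∧
      a₁ ≫ snd = (yon S).map h₁ ≫ c₁ ∧ IsPullback a₁ ((yon S).map p) fst a := by
  have sqUy := sqU.map (yon S)
  have outer : IsPullback ((yon S).map h₁ ≫ c₁) ((yon S).map p) g ((yon S).map h ≫ c) :=
    sqUy.flip.paste_horiz sqW
  rw [← comm] at outer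
  obtain ⟨a₁, ha₁⟩ : ∃ a₁, a₁ = hX'.lift ((yon S).map p ≫ a) ((yon S).map h₁ ≫ c₁)
      (by simpa using outer.w.symm) := ⟨_, rfl⟩
  have ha1 : a₁ ≫ fst = (yon S).map p ≫ a := by rw [ha₁]; exact hX'.lift_fst _ _ _
  have ha2 : a₁ ≫ snd = (yon S).map h₁ ≫ c₁ := by rw [ha₁]; exact hX'.lift_snd _ _ _
  have sqa : IsPullback a₁ ((yon S).map p) fst a := by
    refine IsPullback.of_right ?_ ha1 hX'.flip
    rw [ha2]; exact outer
  exact ⟨a₁, ha1, ha2, sqa⟩

/-- Compatible étale charts of `X' ⟶ Y' ⟶ B'` through a given point of `X'`, the chart of `B'`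
affine. -/
theorem exists_three_charts {X' Y' B' : Sp S} (hX' : IsAlgSpace X') (hY' : IsAlgSpace Y')
    (hB' : IsAlgSpace B') (f' : X' ⟶ Y') (g' : Y' ⟶ B') (x' : Points X') :
    ∃ (U' V' W' : Over S) (a' : (yon S).obj U' ⟶ X') (b' : (yon S).obj V' ⟶ Y')
      (c' : (yon S).obj W' ⟶ B') (h' : U' ⟶ V') (k' : V' ⟶ W') (u' : ↥U'.left),
      RepWith @Etale a' ∧ RepWith @Etale b' ∧ RepWith @Etale c' ∧ IsAffine W'.left ∧
      a' ≫ f' = (yon S).map h' ≫ b' ∧ b' ≫ g' = (yon S).map k' ≫ c' ∧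
      Points.ofPt a' u' = x' := by
  obtain ⟨W0, c0, hc0e, hc0s⟩ := hB'.atlas
  obtain ⟨w0, hw0⟩ := ofPt_surjective c0 hc0s (Points.map g' (Points.map f' x'))
  obtain ⟨O, hO, hwO⟩ : ∃ O : W0.left.Opens, IsAffineOpen O ∧ w0 ∈ O := by
    obtain ⟨_, ⟨O, hO, rfl⟩, hwO, -⟩ := W0.left.isBasis_affineOpens.exists_subset_of_mem_open
      (Set.mem_univ w0) isOpen_univ
    exact ⟨O, hO, hwO⟩
  obtain ⟨ι', hι'⟩ : ∃ ι' : Over.mk (O.ι ≫ W0.hom) ⟶ W0, ι'.left = O.ι :=
    ⟨Over.homMk O.ι rfl, rfl⟩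
  obtain ⟨c', hc'⟩ : ∃ c' : (yon S).obj (Over.mk (O.ι ≫ W0.hom)) ⟶ B',
      c' = (yon S).map ι' ≫ c0 := ⟨_, rfl⟩
  have hιe : Etale ι'.left := by rw [hι']; infer_instance
  have hc'e : RepWith @Etale c' := by
    rw [hc']; exact repWith_comp _ ((repWith_yon_map_iff _ _).2 hιe) hc0e
  obtain ⟨w', hw'⟩ : w0 ∈ Set.range O.ι := by rw [Scheme.Opens.range_ι]; exact hwO
  have hw'pt : Points.ofPt c' w' = Points.map g' (Points.map f' x') := by
    rw [hc', ofPt_comp, hι']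
    exact (congrArg (Points.ofPt c0) hw').trans hw0
  -- charts of `Y'`
  have sqY := IsPullback.of_hasPullback g' c'
  have hQY : IsAlgSpace (pullback g' c') :=
    isAlgSpace_of_isPullback hB'.diag hY' (IsAlgSpace.yon_obj _) sqY
  obtain ⟨V', v', hv'e, hv's⟩ := hQY.atlas
  obtain ⟨zY, hzY1, hzY2⟩ := Groth.Agent.Lib.AlgSpPoints_helper7.exists_of_isPullback sqY
    (Points.map f' x') (Points.ofScheme _ w') (by
      rw [← Points.ofPt_eq_map_ofScheme]; exact hw'pt.symm)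
  obtain ⟨v, hv⟩ := ofPt_surjective v' hv's zY
  obtain ⟨k', hk'⟩ := (yon S).map_surjective (v' ≫ pullback.snd g' c')
  have hb'e : RepWith @Etale (v' ≫ pullback.fst g' c') :=
    repWith_comp _ hv'e (repWith_fst_of_isPullback _ sqY hc'e)
  have comm2 : (v' ≫ pullback.fst g' c') ≫ g' = (yon S).map k' ≫ c' := by
    rw [Category.assoc, pullback.condition, ← Category.assoc, hk']
  have hvpt : Points.ofPt (v' ≫ pullback.fst g' c') v = Points.map f' x' := by
    rw [← Points.map_ofPt, hv, hzY1]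
  -- charts of `X'`
  have sqX := IsPullback.of_hasPullback f' (v' ≫ pullback.fst g' c')
  have hQX : IsAlgSpace (pullback f' (v' ≫ pullback.fst g' c')) :=
    isAlgSpace_of_isPullback hY'.diag hX' (IsAlgSpace.yon_obj _) sqX
  obtain ⟨U', um, hume, hums⟩ := hQX.atlas
  obtain ⟨zX, hzX1, hzX2⟩ := Groth.Agent.Lib.AlgSpPoints_helper7.exists_of_isPullback sqX
    x' (Points.ofScheme _ v) (by rw [← Points.ofPt_eq_map_ofScheme]; exact hvpt.symm)
  obtain ⟨u', hu'⟩ := ofPt_surjective um hums zX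
  obtain ⟨h', hh'⟩ := (yon S).map_surjective (um ≫ pullback.snd f' (v' ≫ pullback.fst g' c'))
  have ha'e : RepWith @Etale (um ≫ pullback.fst f' (v' ≫ pullback.fst g' c')) :=
    repWith_comp _ hume (repWith_fst_of_isPullback _ sqX hb'e)
  have comm1 : (um ≫ pullback.fst f' (v' ≫ pullback.fst g' c')) ≫ f' =
      (yon S).map h' ≫ (v' ≫ pullback.fst g' c') := by
    rw [Category.assoc, pullback.condition, ← Category.assoc, hh']
  have hupt : Points.ofPt (um ≫ pullback.fst f' (v' ≫ pullback.fst g' c')) u' = x' := by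
    rw [← Points.map_ofPt, hu', hzX1]
  exact ⟨U', V', _, _, _, c', h', k', u', ha'e, hb'e, hc'e, hO, comm1, comm2, hupt⟩

/-- Base change of the three charts along a cartesian square `W ⟶ W'` over `B ⟶ B'`. -/
theorem exists_bc_charts {X X' Y Y' B B' : Sp S} (iX : X ⟶ X') (iY : Y ⟶ Y') (iB : B ⟶ B')
    (f : X ⟶ Y) (f' : X' ⟶ Y') (g : Y ⟶ B) (g' : Y' ⟶ B')
    (hcX : IsPullback iX (f ≫ g) (f' ≫ g') iB) (hcY : IsPullback iY g g' iB)
    (w : iX ≫ f' = f ≫ iY)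
    {U' V' W' W : Over S} (a' : (yon S).obj U' ⟶ X') (b' : (yon S).obj V' ⟶ Y')
    (c' : (yon S).obj W' ⟶ B') (h' : U' ⟶ V') (k' : V' ⟶ W')
    (ha'e : RepWith @Etale a') (hb'e : RepWith @Etale b')
    (comm1 : a' ≫ f' = (yon S).map h' ≫ b') (comm2 : b' ≫ g' = (yon S).map k' ≫ c')
    (iW : W ⟶ W') (c₁ : (yon S).obj W ⟶ B) (sqW : IsPullback c₁ ((yon S).map iW) iB c') :
    ∃ (U V : Over S) (a : (yon S).obj U ⟶ X) (b : (yon S).obj V ⟶ Y) (h : U ⟶ V)
      (k : V ⟶ W) (iU : U ⟶ U') (iV : V ⟶ V'),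
      RepWith @Etale a ∧ RepWith @Etale b ∧ a ≫ f = (yon S).map h ≫ b ∧
      a ≫ iX = (yon S).map iU ≫ a' ∧ b ≫ iY = (yon S).map iV ≫ b' ∧
      IsPullback iU.left (h.left ≫ k.left) (h'.left ≫ k'.left) iW.left ∧
      IsPullback iV.left k.left k'.left iW.left ∧
      iU.left ≫ h'.left = h.left ≫ iV.left := by
  obtain ⟨V, iV, k, sqV⟩ : ∃ (V : Over S) (iV : V ⟶ V') (k : V ⟶ W), IsPullback iV k k' iW :=
    ⟨_, _, _, IsPullback.of_hasPullback k' iW⟩
  obtain ⟨U, iU, l, sqU⟩ : ∃ (U : Over S) (iU : U ⟶ U') (l : U ⟶ W),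
      IsPullback iU l (h' ≫ k') iW := ⟨_, _, _, IsPullback.of_hasPullback (h' ≫ k') iW⟩
  obtain ⟨b, hb1, hb2, sqb⟩ := chart_bc g' iB iY g hcY b' c' k' comm2 iW c₁ sqW iV k sqV
  have comm3 : a' ≫ (f' ≫ g') = (yon S).map (h' ≫ k') ≫ c' := by
    rw [← Category.assoc, comm1, Category.assoc, comm2, ← Category.assoc,
      ← CategoryTheory.Functor.map_comp]
  obtain ⟨a, ha1, ha2, sqa⟩ := chart_bc (f' ≫ g') iB iX (f ≫ g) hcX a' c' (h' ≫ k') comm3 iW c₁
    sqW iU l sqU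
  obtain ⟨h, hh1, hh2⟩ : ∃ h : U ⟶ V, h ≫ iV = iU ≫ h' ∧ h ≫ k = l :=
    ⟨sqV.lift (iU ≫ h') l (by rw [Category.assoc]; exact sqU.w), sqV.lift_fst _ _ _,
      sqV.lift_snd _ _ _⟩
  have hae : RepWith @Etale a := repWith_fst_of_isPullback _ sqa ha'e
  have hbe : RepWith @Etale b := repWith_fst_of_isPullback _ sqb hb'e
  have comm : a ≫ f = (yon S).map h ≫ b := by
    apply hcY.hom_ext
    · calc (a ≫ f) ≫ iY = a ≫ (f ≫ iY) := Category.assoc _ _ _
        _ = a ≫ (iX ≫ f') := by rw [w]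
        _ = (a ≫ iX) ≫ f' := (Category.assoc _ _ _).symm
        _ = ((yon S).map iU ≫ a') ≫ f' := by rw [ha1]
        _ = (yon S).map iU ≫ (a' ≫ f') := Category.assoc _ _ _
        _ = (yon S).map iU ≫ ((yon S).map h' ≫ b') := by rw [comm1]
        _ = (yon S).map (iU ≫ h') ≫ b' := by
          rw [CategoryTheory.Functor.map_comp, Category.assoc]
        _ = (yon S).map (h ≫ iV) ≫ b' := by rw [hh1]
        _ = (yon S).map h ≫ ((yon S).map iV ≫ b') := by
          rw [CategoryTheory.Functor.map_comp, Category.assoc]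
        _ = (yon S).map h ≫ (b ≫ iY) := by rw [hb1]
        _ = ((yon S).map h ≫ b) ≫ iY := (Category.assoc _ _ _).symm
    · calc (a ≫ f) ≫ g = a ≫ (f ≫ g) := Category.assoc _ _ _
        _ = (yon S).map l ≫ c₁ := ha2
        _ = (yon S).map (h ≫ k) ≫ c₁ := by rw [hh2]
        _ = (yon S).map h ≫ ((yon S).map k ≫ c₁) := by
          rw [CategoryTheory.Functor.map_comp, Category.assoc]
        _ = (yon S).map h ≫ (b ≫ g) := by rw [hb2]
        _ = ((yon S).map h ≫ b) ≫ g := (Category.assoc _ _ _).symm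
  have e : l.left = h.left ≫ k.left := by rw [← Over.comp_left, hh2]
  have sqUs : IsPullback iU.left (h.left ≫ k.left) (h'.left ≫ k'.left) iW.left := by
    rw [← e]; exact sqU.map (Over.forget S)
  have sqVs : IsPullback iV.left k.left k'.left iW.left := sqV.map (Over.forget S)
  have ws : iU.left ≫ h'.left = h.left ≫ iV.left := by
    rw [← Over.comp_left, ← Over.comp_left, hh1]
  exact ⟨U, V, a, b, h, k, iU, iV, hae, hbe, comm, ha1, hb1, sqUs, sqVs, ws⟩

/-- Transfer of a property étale local on the source-and-target from `f` to `f'`, given the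
corresponding fact for schemes. -/
theorem deform_up {P : MorphismProperty Scheme.{u}} [P.IsStableUnderBaseChange]
    [IsZariskiLocalAtSource P] (hP : EtLocal P)
    (hsch : ∀ {X X' Y Y' T T' : Scheme.{u}} (iX : X ⟶ X') (iY : Y ⟶ Y') (iT : T ⟶ T')
      (f : X ⟶ Y) (f' : X' ⟶ Y') (g : Y ⟶ T) (g' : Y' ⟶ T'),
      MoreMor.IsFiniteOrderThickening iT → IsPullback iX (f ≫ g) (f' ≫ g') iT →
      IsPullback iY g g' iT → iX ≫ f' = f ≫ iY → Flat (f' ≫ g') → P f → P f')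
    {X X' Y Y' B B' : Sp S} (hX' : IsAlgSpace X') (hY' : IsAlgSpace Y') (hB' : IsAlgSpace B')
    (iX : X ⟶ X') (iY : Y ⟶ Y') (iB : B ⟶ B')
    (f : X ⟶ Y) (f' : X' ⟶ Y') (g : Y ⟶ B) (g' : Y' ⟶ B')
    (hcX : IsPullback iX (f ≫ g) (f' ≫ g') iB) (hcY : IsPullback iY g g' iB)
    (w : iX ≫ f' = f ≫ iY) (hB : IsFinThickMor iB) (hflat : LocP @Flat (f' ≫ g'))
    (hf : LocP P f) : LocP P f' := by
  obtain ⟨n, hthick, haff⟩ := hB
  apply locP_of_forall_hasAtMor hP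
  intro x'
  obtain ⟨U', V', W', a', b', c', h', k', u', ha'e, hb'e, hc'e, hW', comm1, comm2, hu'⟩ :=
    exists_three_charts hX' hY' hB' f' g' x'
  obtain ⟨U, V, a, b, h, k, iU, iV, hae, hbe, comm, -, -, sqUs, sqVs, ws⟩ :=
    exists_bc_charts iX iY iB f f' g g' hcX hcY w a' b' c' h' k' ha'e hb'e comm1 comm2
      (hthick.rep.snd c') (hthick.rep.fst c') (hthick.rep.isPullback c')
  have hFO : MoreMor.IsFiniteOrderThickening (hthick.rep.snd c').left :=
    ⟨(thick_iff _).1 (hthick.property_snd c'),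
      ⟨n + 1, haff c' (hthick.rep.fst c') (hthick.rep.snd c') hW' hc'e
        (hthick.rep.isPullback c')⟩⟩
  have comm3 : a' ≫ (f' ≫ g') = (yon S).map (h' ≫ k') ≫ c' := by
    rw [← Category.assoc, comm1, Category.assoc, comm2, ← Category.assoc,
      ← CategoryTheory.Functor.map_comp]
  have hfl : Flat (h'.left ≫ k'.left) := hflat a' c' (h' ≫ k') ha'e hc'e comm3
  have hPh : P h.left := hf a b h hae hbe comm
  have hPh' : P h'.left :=
    hsch iU.left iV.left _ h.left h'.left k.left k'.left hFO sqUs sqVs ws hfl hPh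
  unfold HasAtMor
  exact ⟨U', V', a', b', h', u', ha'e, hb'e, comm1, hu', ⊤, TopologicalSpace.Opens.mem_top _,
    IsZariskiLocalAtSource.comp hPh' _⟩

theorem deform_down {P : MorphismProperty Scheme.{u}} [P.IsStableUnderBaseChange] (hP : EtLocal P)
    {X X' Y Y' B B' : Sp S} (hX' : IsAlgSpace X') (hY' : IsAlgSpace Y') (hY : IsAlgSpace Y)
    (iX : X ⟶ X') (iY : Y ⟶ Y') (iB : B ⟶ B')
    (f : X ⟶ Y) (f' : X' ⟶ Y') (g : Y ⟶ B) (g' : Y' ⟶ B')
    (hcX : IsPullback iX (f ≫ g) (f' ≫ g') iB) (hcY : IsPullback iY g g' iB)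
    (w : iX ≫ f' = f ≫ iY) (hf' : LocP P f') : LocP P f :=
  locP_baseChange hP hX' hY' hY f' iY iX f (IsPullback.of_bot hcX w hcY) hf'

theorem deform_iff {P : MorphismProperty Scheme.{u}} [P.IsStableUnderBaseChange]
    [IsZariskiLocalAtSource P] (hP : EtLocal P)
    (hsch : ∀ {X X' Y Y' T T' : Scheme.{u}} (iX : X ⟶ X') (iY : Y ⟶ Y') (iT : T ⟶ T')
      (f : X ⟶ Y) (f' : X' ⟶ Y') (g : Y ⟶ T) (g' : Y' ⟶ T'),
      MoreMor.IsFiniteOrderThickening iT → IsPullback iX (f ≫ g) (f' ≫ g') iT →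
      IsPullback iY g g' iT → iX ≫ f' = f ≫ iY → Flat (f' ≫ g') → P f → P f')
    {X X' Y Y' B B' : Sp S} (hX' : IsAlgSpace X') (hY' : IsAlgSpace Y') (hY : IsAlgSpace Y)
    (hB' : IsAlgSpace B')
    (iX : X ⟶ X') (iY : Y ⟶ Y') (iB : B ⟶ B')
    (f : X ⟶ Y) (f' : X' ⟶ Y') (g : Y ⟶ B) (g' : Y' ⟶ B')
    (hcX : IsPullback iX (f ≫ g) (f' ≫ g') iB) (hcY : IsPullback iY g g' iB)
    (w : iX ≫ f' = f ≫ iY) (hB : IsFinThickMor iB) (hflat : LocP @Flat (f' ≫ g')) :
    LocP P f ↔ LocP P f' :=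
  ⟨deform_up hP hsch hX' hY' hB' iX iY iB f f' g g' hcX hcY w hB hflat,
    deform_down hP hX' hY' hY iX iY iB f f' g g' hcX hcY w⟩

section Sch

variable {X X' Y Y' T T' : Scheme.{u}} (iX : X ⟶ X') (iY : Y ⟶ Y') (iT : T ⟶ T')
  (f : X ⟶ Y) (f' : X' ⟶ Y') (g : Y ⟶ T) (g' : Y' ⟶ T')

theorem sch_flat (hT : MoreMor.IsFiniteOrderThickening iT)
    (hcX : IsPullback iX (f ≫ g) (f' ≫ g') iT) (hcY : IsPullback iY g g' iT)
    (w : iX ≫ f' = f ≫ iY) (hfl : Flat (f' ≫ g')) (hf : Flat f) : Flat f' :=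
  (Groth.Agent.S1317.result iX iY iT f f' g g' hT hcX hcY w).1 hf

theorem sch_lfp (hT : MoreMor.IsFiniteOrderThickening iT)
    (hcX : IsPullback iX (f ≫ g) (f' ≫ g') iT) (hcY : IsPullback iY g g' iT)
    (w : iX ≫ f' = f ≫ iY) (hfl : Flat (f' ≫ g')) (hf : LocallyOfFinitePresentation f) :
    LocallyOfFinitePresentation f' :=
  (Groth.Agent.S1320.result iX iY iT f f' g g' hT hcX hcY w).1 hf

theorem sch_smooth (hT : MoreMor.IsFiniteOrderThickening iT)
    (hcX : IsPullback iX (f ≫ g) (f' ≫ g') iT) (hcY : IsPullback iY g g' iT)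
    (w : iX ≫ f' = f ≫ iY) (hfl : Flat (f' ≫ g')) (hf : Smooth f) : Smooth f' :=
  (Groth.Agent.S1321.result iX iY iT f f' g g' hT hcX hcY w).1 hf

theorem sch_etale (hT : MoreMor.IsFiniteOrderThickening iT)
    (hcX : IsPullback iX (f ≫ g) (f' ≫ g') iT) (hcY : IsPullback iY g g' iT)
    (w : iX ≫ f' = f ≫ iY) (hfl : Flat (f' ≫ g')) (hf : Etale f) : Etale f' :=
  (Groth.Agent.S1322.result iX iY iT f f' g g' hT hcX hcY w).1 hf

theorem sch_lft (hT : MoreMor.IsFiniteOrderThickening iT)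
    (hcX : IsPullback iX (f ≫ g) (f' ≫ g') iT) (hcY : IsPullback iY g g' iT)
    (w : iX ≫ f' = f ≫ iY) (_hfl : Flat (f' ≫ g')) (hf : LocallyOfFiniteType f) :
    LocallyOfFiniteType f' :=
  (Groth.Agent.S1309.result iX iY f f' (NilH8.isFiniteOrderThickening_of_isPullback hT hcY)
    (IsPullback.of_bot hcX w hcY)).1 hf

theorem sch_lqf (hT : MoreMor.IsFiniteOrderThickening iT)
    (hcX : IsPullback iX (f ≫ g) (f' ≫ g') iT) (hcY : IsPullback iY g g' iT)
    (w : iX ≫ f' = f ≫ iY) (_hfl : Flat (f' ≫ g'))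
    (hf : (@LocallyQuasiFinite ⊓ @LocallyOfFiniteType : MorphismProperty Scheme.{u}) f) :
    (@LocallyQuasiFinite ⊓ @LocallyOfFiniteType : MorphismProperty Scheme.{u}) f' := by
  have hYT := NilH8.isFiniteOrderThickening_of_isPullback hT hcY
  have top := IsPullback.of_bot hcX w hcY
  haveI : LocallyOfFiniteType f := hf.2
  haveI : LocallyOfFiniteType f' := (Groth.Agent.S1309.result iX iY f f' hYT top).1 hf.2
  exact ⟨(Groth.Agent.S1312.result iX iY f f' hYT.1 top).1 hf.1, inferInstance⟩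

theorem sch_unram (hT : MoreMor.IsFiniteOrderThickening iT)
    (hcX : IsPullback iX (f ≫ g) (f' ≫ g') iT) (hcY : IsPullback iY g g' iT)
    (w : iX ≫ f' = f ≫ iY) (_hfl : Flat (f' ≫ g'))
    (hf : (@LocallyOfFiniteType ⊓ @FormallyUnramified : MorphismProperty Scheme.{u}) f) :
    (@LocallyOfFiniteType ⊓ @FormallyUnramified : MorphismProperty Scheme.{u}) f' := by
  have hYT := NilH8.isFiniteOrderThickening_of_isPullback hT hcY
  have top := IsPullback.of_bot hcX w hcY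
  exact ⟨(Groth.Agent.S1309.result iX iY f f' hYT top).1 hf.1,
    (Groth.Agent.S1310.result iX iY f f' hYT top).1 hf.2⟩

end Sch

/-- Relative dimension `d` passes from `f` to `f'`. -/
theorem relDim_up {X X' Y Y' B B' : Sp S} (hX' : IsAlgSpace X') (hY' : IsAlgSpace Y')
    (hB' : IsAlgSpace B')
    (iX : X ⟶ X') (iY : Y ⟶ Y') (iB : B ⟶ B')
    (f : X ⟶ Y) (f' : X' ⟶ Y') (g : Y ⟶ B) (g' : Y' ⟶ B')
    (hcX : IsPullback iX (f ≫ g) (f' ≫ g') iB) (hcY : IsPullback iY g g' iB)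
    (w : iX ≫ f' = f ≫ iY) (hB : IsFinThickMor iB)
    (hlft : LocP @LocallyOfFiniteType f) (hlft' : LocP @LocallyOfFiniteType f')
    (d : WithBot ℕ∞)
    (hd : ∀ x, HasAtMor (fun _ _ h u => FlatMor.fibreDimAt h u = d) f x) (x' : Points X') :
    HasAtMor (fun _ _ h u => FlatMor.fibreDimAt h u = d) f' x' := by
  obtain ⟨n, hthick, haff⟩ := hB
  obtain ⟨U', V', W', a', b', c', h', k', u', ha'e, hb'e, hc'e, hW', comm1, comm2, hu'⟩ :=
    exists_three_charts hX' hY' hB' f' g' x'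
  obtain ⟨U, V, a, b, h, k, iU, iV, hae, hbe, comm, -, -, sqUs, sqVs, ws⟩ :=
    exists_bc_charts iX iY iB f f' g g' hcX hcY w a' b' c' h' k' ha'e hb'e comm1 comm2
      (hthick.rep.snd c') (hthick.rep.fst c') (hthick.rep.isPullback c')
  have hthk : thick (hthick.rep.snd c').left := hthick.property_snd c'
  have hsurj : Surjective iU.left :=
    MorphismProperty.of_isPullback (P := @Surjective) sqUs.flip hthk.2
  obtain ⟨u, hu⟩ := hsurj.surj u'
  obtain ⟨U₂, V₂, a₂, b₂, h₂, u₂, ha₂e, hb₂e, comm₂, hpt₂, hdim₂⟩ := hd (Points.ofPt a u)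
  have hdim₂' : FlatMor.fibreDimAt h₂.left u₂ = d := hdim₂
  have e1 : FlatMor.fibreDimAt h₂.left u₂ = FlatMor.fibreDimAt h.left u :=
    ChartIndepH8.fibreDimAt_chart_indep f hlft a₂ b₂ h₂ u₂ a b h u ha₂e hb₂e hae hbe comm₂ comm
      hpt₂
  haveI : LocallyOfFiniteType h'.left := hlft' a' b' h' ha'e hb'e comm1
  have top : IsPullback iU.left h.left h'.left iV.left := IsPullback.of_bot sqUs ws sqVs
  have e2 := (Groth.Agent.S9358.result h'.left iV.left iU.left h.left top 0).1 u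
  have e3 : iU.left.base u = u' := hu
  rw [e3] at e2
  unfold HasAtMor
  exact ⟨U', V', a', b', h', u', ha'e, hb'e, comm1, hu', e2.symm.trans (e1.symm.trans hdim₂')⟩

/-- Flatness of `g'` at the points in the image of `f'`. -/
theorem flatAt_of_comp {X' Y' B' : Sp S} (hX' : IsAlgSpace X') (f' : X' ⟶ Y') (g' : Y' ⟶ B')
    (hf' : LocP @Flat f') (hflat : LocP @Flat (f' ≫ g')) (x' : Points X') :
    IsFlatAtMor g' (Points.map f' x') := by
  intro V W b c k v hbe hce commk hpt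
  obtain ⟨X0, a0, ha0e, ha0s⟩ := hX'.atlas
  obtain ⟨x0, hx0⟩ := ofPt_surjective a0 ha0s x'
  obtain ⟨U, m, s, sq, hse⟩ : ∃ (U : Over S) (m : U ⟶ V) (s : U ⟶ X0),
      IsPullback ((yon S).map m) ((yon S).map s) b (a0 ≫ f') ∧ Etale s.left :=
    ⟨_, hbe.rep.fst' _, hbe.rep.snd _, hbe.rep.isPullback' _, hbe.property_snd _⟩
  have hae : RepWith @Etale ((yon S).map s ≫ a0) :=
    repWith_comp _ ((repWith_yon_map_iff _ _).2 hse) ha0e
  have comm_f : ((yon S).map s ≫ a0) ≫ f' = (yon S).map m ≫ b := by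
    rw [Category.assoc]; exact sq.w.symm
  obtain ⟨u, hu1, hu2⟩ := exists_ofPt_eq_of_isPullback sq v x0 (by
    rw [hpt, ← hx0, Points.map_ofPt])
  subst hu1
  haveI : Flat m.left := hf' _ b m hae hbe comm_f
  have comm_fg : ((yon S).map s ≫ a0) ≫ (f' ≫ g') = (yon S).map (m ≫ k) ≫ c := by
    rw [← Category.assoc, comm_f, Category.assoc, commk, ← Category.assoc,
      ← CategoryTheory.Functor.map_comp]
  haveI : Flat (m.left ≫ k.left) := hflat _ c (m ≫ k) hae hce comm_fg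
  have h1 : (m.left.stalkMap u).hom.Flat := Flat.stalkMap m.left u
  have h2 : ((m.left ≫ k.left).stalkMap u).hom.Flat := Flat.stalkMap (m.left ≫ k.left) u
  rw [Scheme.Hom.stalkMap_comp] at h2
  exact ringHom_flat_of_chain (k.left.stalkMap (m.left u)).hom (m.left.stalkMap u).hom
    (RingHom.id _) (m.left.stalkMap u).hom (RingHom.id_comp _).symm h1 h2

/-- S10596. -/
theorem deform_local_properties_iff {X X' Y Y' B B' : AlgSp.Space S} (iX : X ⟶ X') (iY : Y ⟶ Y')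
    (iB : B ⟶ B')
    (f : X ⟶ Y) (f' : X' ⟶ Y') (g : Y ⟶ B) (g' : Y' ⟶ B')
    (hcX : IsPullback iX.hom (f ≫ g).hom (f' ≫ g').hom iB.hom)
    (hcY : IsPullback iY.hom g.hom g'.hom iB.hom)
    (w : iX ≫ f' = f ≫ iY)
    (hB : AlgSp.IsFinThickMor iB.hom) (hflat : AlgSp.LocP @Flat (f' ≫ g').hom) (d : ℕ) :
    ((AlgSp.LocP @LocallyOfFiniteType f.hom ∧
        ∀ x, AlgSp.HasAtMor (fun _ _ h u => FlatMor.fibreDimAt h u = (d : WithBot ℕ∞)) f.hom x) ↔
      (AlgSp.LocP @LocallyOfFiniteType f'.hom ∧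
        ∀ x', AlgSp.HasAtMor (fun _ _ h u => FlatMor.fibreDimAt h u = (d : WithBot ℕ∞)) f'.hom x')) ∧
    (AlgSp.LocP @Flat f.hom ↔ AlgSp.LocP @Flat f'.hom) ∧
    (AlgSp.LocP @LocallyOfFiniteType f.hom ↔ AlgSp.LocP @LocallyOfFiniteType f'.hom) ∧
    (AlgSp.LocP (@LocallyQuasiFinite ⊓ @LocallyOfFiniteType) f.hom ↔
      AlgSp.LocP (@LocallyQuasiFinite ⊓ @LocallyOfFiniteType) f'.hom) ∧
    (AlgSp.LocP @LocallyOfFinitePresentation f.hom ↔ AlgSp.LocP @LocallyOfFinitePresentation f'.hom) ∧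
    (AlgSp.LocP @Smooth f.hom ↔ AlgSp.LocP @Smooth f'.hom) ∧
    (AlgSp.LocP (@LocallyOfFiniteType ⊓ @FormallyUnramified) f.hom ↔
      AlgSp.LocP (@LocallyOfFiniteType ⊓ @FormallyUnramified) f'.hom) ∧
    (AlgSp.IsEtaleMor f.hom ↔ AlgSp.IsEtaleMor f'.hom) := by
  have hcX' : IsPullback iX.hom (f.hom ≫ g.hom) (f'.hom ≫ g'.hom) iB.hom := hcX
  have w' : iX.hom ≫ f'.hom = f.hom ≫ iY.hom := congrArg (fun t => t.hom) w
  have hflat' : LocP @Flat (f'.hom ≫ g'.hom) := hflat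
  have top : IsPullback iX.hom f.hom f'.hom iY.hom := IsPullback.of_bot hcX' w' hcY
  have hLFT : LocP @LocallyOfFiniteType f.hom ↔ LocP @LocallyOfFiniteType f'.hom :=
    deform_iff etLocal_locallyOfFiniteType sch_lft X'.property Y'.property Y.property B'.property
      iX.hom iY.hom iB.hom f.hom f'.hom g.hom g'.hom hcX' hcY w' hB hflat'
  have hFlat : LocP @Flat f.hom ↔ LocP @Flat f'.hom :=
    deform_iff etLocal_flat sch_flat X'.property Y'.property Y.property B'.property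
      iX.hom iY.hom iB.hom f.hom f'.hom g.hom g'.hom hcX' hcY w' hB hflat'
  have hLQF : LocP (@LocallyQuasiFinite ⊓ @LocallyOfFiniteType) f.hom ↔
      LocP (@LocallyQuasiFinite ⊓ @LocallyOfFiniteType) f'.hom :=
    deform_iff etLocal_locallyQuasiFinite sch_lqf X'.property Y'.property Y.property B'.property
      iX.hom iY.hom iB.hom f.hom f'.hom g.hom g'.hom hcX' hcY w' hB hflat'
  have hLFP : LocP @LocallyOfFinitePresentation f.hom ↔
      LocP @LocallyOfFinitePresentation f'.hom :=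
    deform_iff etLocal_locallyOfFinitePresentation sch_lfp X'.property Y'.property Y.property
      B'.property iX.hom iY.hom iB.hom f.hom f'.hom g.hom g'.hom hcX' hcY w' hB hflat'
  have hSm : LocP @Smooth f.hom ↔ LocP @Smooth f'.hom :=
    deform_iff etLocal_smooth sch_smooth X'.property Y'.property Y.property B'.property
      iX.hom iY.hom iB.hom f.hom f'.hom g.hom g'.hom hcX' hcY w' hB hflat'
  have hUnr : LocP (@LocallyOfFiniteType ⊓ @FormallyUnramified) f.hom ↔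
      LocP (@LocallyOfFiniteType ⊓ @FormallyUnramified) f'.hom :=
    deform_iff etLocal_unramified sch_unram X'.property Y'.property Y.property B'.property
      iX.hom iY.hom iB.hom f.hom f'.hom g.hom g'.hom hcX' hcY w' hB hflat'
  have hEt : LocP @Etale f.hom ↔ LocP @Etale f'.hom :=
    deform_iff etLocal_etale sch_etale X'.property Y'.property Y.property B'.property
      iX.hom iY.hom iB.hom f.hom f'.hom g.hom g'.hom hcX' hcY w' hB hflat'
  refine ⟨⟨fun h12 => ⟨hLFT.1 h12.1, fun x' => relDim_up X'.property Y'.property B'.property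
      iX.hom iY.hom iB.hom f.hom f'.hom g.hom g'.hom hcX' hcY w' hB h12.1 (hLFT.1 h12.1) _
      h12.2 x'⟩,
    fun h12 => ⟨hLFT.2 h12.1, fun x => Groth.Agent.S10311.result f' iY iX f top h12.1 x _
      (h12.2 _)⟩⟩, hFlat, hLFT, hLQF, hLFP, hSm, hUnr, ?_⟩
  rw [isEtaleMor_iff_locP Y.property, isEtaleMor_iff_locP Y'.property]
  exact hEt

/-- S10595. -/
theorem thickening_flat_of_flat_base_change {X X' Y Y' B B' : AlgSp.Space S} (iX : X ⟶ X')
    (iY : Y ⟶ Y') (iB : B ⟶ B')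
    (f : X ⟶ Y) (f' : X' ⟶ Y') (g : Y ⟶ B) (g' : Y' ⟶ B')
    (hcX : IsPullback iX.hom (f ≫ g).hom (f' ≫ g').hom iB.hom)
    (hcY : IsPullback iY.hom g.hom g'.hom iB.hom)
    (w : iX ≫ f' = f ≫ iY)
    (hB : AlgSp.IsFinThickMor iB.hom) (hflat : AlgSp.LocP @Flat (f' ≫ g').hom)
    (hf : AlgSp.LocP @Flat f.hom) :
    AlgSp.LocP @Flat f'.hom ∧
    ∀ x' : AlgSp.Points X'.obj, AlgSp.IsFlatAtMor g'.hom (AlgSp.Points.map f'.hom x') := by
  have hcX' : IsPullback iX.hom (f.hom ≫ g.hom) (f'.hom ≫ g'.hom) iB.hom := hcX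
  have w' : iX.hom ≫ f'.hom = f.hom ≫ iY.hom := congrArg (fun t => t.hom) w
  have hflat' : LocP @Flat (f'.hom ≫ g'.hom) := hflat
  have hf' : LocP @Flat f'.hom :=
    deform_up etLocal_flat sch_flat X'.property Y'.property B'.property
      iX.hom iY.hom iB.hom f.hom f'.hom g.hom g'.hom hcX' hcY w' hB hflat' hf
  exact ⟨hf', fun x' => flatAt_of_comp X'.property f'.hom g'.hom hf' hflat' x'⟩

end Groth.Agent.Lib.AlgSpDeformH7
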