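import Groth.Agent.Lib.DenseFib2_helper8
import Groth.Agent.Lib.ChartIndep_helper8
import Groth.Agent.Lib.ResTrdeg3_helper8
import Groth.Agent.Lib.AlgSpOpenSub_helper7
import Groth.Agent.Lib.AlgSpQC_helper7
import Groth.Agent.Lib.AlgSpPullback_helper7

/-!
# Relative dimension of a flat morphism of algebraic spaces bounded over a dense open (helper7)
APPEND-ONLY once landed.
-/

set_option backward.isDefEq.respectTransparency false
set_option backward.isDefEq.respectTransparency.types false
set_option linter.style.haveILetI false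
set_option linter.unusedSectionVars false
set_option linter.unusedVariables false
set_option autoImplicit false
set_option maxHeartbeats 1600000
universe u
open CategoryTheory CategoryTheory.Limits AlgebraicGeometry Opposite

namespace Groth.Agent.Lib.AlgSpDenseFibH7

open AlgSp Groth.Agent.Lib.AlgSpPoints_helper7 Groth.Agent.Lib.AlgSpPullback_helper7
  Groth.Agent.Lib.AlgSpQC_helper7 Groth.Agent.Lib.AlgSpOpenSub_helper7

variable {S : Scheme.{u}}

theorem isRetrocompact_range {A B : Scheme.{u}} (ι : A ⟶ B) [QuasiCompact ι] :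
    IsRetrocompact (Set.range ι) := by
  intro K hK hKo
  have h1 : Set.range ι ∩ K = ι '' (ι ⁻¹' K) := by
    rw [Set.image_preimage_eq_inter_range, Set.inter_comm]
  rw [h1]
  exact (QuasiCompact.isCompact_preimage (f := ι) K hKo hK).image ι.continuous

/-- the inverse image in a chart of the points of an open subspace -/
theorem preimage_range_map_eq_range {V Y : Sp S} (j : V ⟶ Y) {W W₀ : Over S}
    (b : (yon S).obj W ⟶ Y) (fst : (yon S).obj W₀ ⟶ V) (ι : W₀ ⟶ W)
    (sq : IsPullback fst ((yon S).map ι) j b) :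
    Points.ofPt b ⁻¹' Set.range (Points.map j) = Set.range ι.left := by
  ext w
  constructor
  · rintro ⟨v, hv⟩
    have h1 : Points.map j v = Points.map b (Points.ofScheme W w) := by
      rw [hv, Points.ofPt_eq_map_ofScheme]
    obtain ⟨z, -, hz2⟩ := exists_of_isPullback sq v (Points.ofScheme W w) h1
    obtain ⟨w', rfl⟩ := ofScheme_surjective W₀ z
    refine ⟨w', ofScheme_injective W ?_⟩
    rw [← hz2, ← Points.ofPt_eq_map_ofScheme, ofPt_yon_map]
  · rintro ⟨w', rfl⟩
    refine ⟨Points.ofPt fst w', ?_⟩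
    rw [Points.map_ofPt, sq.w, ofPt_comp]

theorem main10653 {X Y V : AlgSp.Space S} (f : X ⟶ Y) (j : V ⟶ Y) (d : ℕ)
    (hf1 : AlgSp.LocP @Flat f.hom) (hf2 : AlgSp.LocP @LocallyOfFiniteType f.hom)
    (hj1 : AlgSp.RepWith @IsOpenImmersion j.hom)
    (hj2 : Dense (Set.range (AlgSp.Points.map j.hom)))
    (P : AlgSp.Space S) (fst : P ⟶ X) (snd : P ⟶ V)
    (hP : IsPullback fst.hom snd.hom f.hom j.hom)
    (hV : ∀ x, AlgSp.HasAtMor (fun _ _ h u => FlatMor.fibreDimAt h u ≤ (d : WithBot ℕ∞)) snd.hom x)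
    (h : AlgSp.LocP @LocallyOfFinitePresentation f.hom ∨ AlgSp.IsQuasiCompactMor j.hom) :
    ∀ x, AlgSp.HasAtMor (fun _ _ h u => FlatMor.fibreDimAt h u ≤ (d : WithBot ℕ∞)) f.hom x := by
  intro x
  obtain ⟨U, W, a, b, p, u, hae, hbe, comm, hu⟩ := ResTrdegH8.exists_chart_diagram f x
  haveI hpfl : Flat p.left := hf1 a b p hae hbe comm
  haveI hplft : LocallyOfFiniteType p.left := hf2 a b p hae hbe comm
  -- the open of `W` over `V`
  have sqW := hj1.rep.isPullback b
  haveI hoi : IsOpenImmersion (hj1.rep.snd b).left := hj1.property_snd b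
  obtain ⟨W₀, hW₀⟩ : ∃ W₀ : W.left.Opens, W₀ = (hj1.rep.snd b).left.opensRange := ⟨_, rfl⟩
  have hW₀set : (W₀ : Set W.left) = Points.ofPt b ⁻¹' Set.range (Points.map j.hom) := by
    rw [preimage_range_map_eq_range j.hom b _ _ sqW, hW₀]
    rfl
  have hdense : Dense (W₀ : Set W.left) := by
    rw [hW₀set]
    exact hj2.preimage (isOpenMap_ofPt_of_etale b hbe)
  have hfste : RepWith @Etale fst.hom :=
    repWith_fst_of_isPullback _ hP (repWith_etale_of_openImmersion hj1)
  have hje : RepWith @Etale j.hom := repWith_etale_of_openImmersion hj1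
  have hle : ∀ u' : U.left, p.left u' ∈ W₀ → FlatMor.fibreDimAt p.left u' ≤ (d : WithBot ℕ∞) := by
    intro u' hu'
    have hmem : p.left u' ∈ (W₀ : Set W.left) := hu'
    rw [hW₀set] at hmem
    obtain ⟨v, hv⟩ := hmem
    have h1 : Points.map f.hom (Points.ofPt a u') = Points.map j.hom v := by
      rw [Points.map_ofPt, comm, ofPt_comp, hv]
    obtain ⟨z, hz1, -⟩ := exists_of_isPullback hP (Points.ofPt a u') v h1
    obtain ⟨U₂, V₂, a₂, b₂, h₂, u₂, ha₂e, hb₂e, comm₂, hu₂, hd₂⟩ := hV z
    have comm₂' : (a₂ ≫ fst.hom) ≫ f.hom = (yon S).map h₂ ≫ (b₂ ≫ j.hom) := by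
      rw [Category.assoc, hP.w, ← Category.assoc, comm₂, Category.assoc]
    have hpt : Points.ofPt a u' = Points.ofPt (a₂ ≫ fst.hom) u₂ := by
      rw [← Points.map_ofPt, hu₂, hz1]
    rw [ChartIndepH8.fibreDimAt_chart_indep f.hom hf2 a b p u' (a₂ ≫ fst.hom) (b₂ ≫ j.hom) h₂ u₂
      hae hbe (repWith_comp _ ha₂e hfste) (repWith_comp _ hb₂e hje) comm comm₂' hpt]
    exact hd₂
  have hcond : LocallyOfFinitePresentation p.left ∨ IsRetrocompact (W₀ : Set W.left) := by
    rcases h with h | h
    · exact Or.inl (h a b p hae hbe comm)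
    · right
      have hrep : Representable j.hom := hj1.1
      have hqc : RepWith @QuasiCompact j.hom := repWith_quasiCompact_of_isQuasiCompactMor j.hom hrep h
      haveI : QuasiCompact (hj1.rep.snd b).left := hqc.property _ _ _ sqW
      rw [hW₀]
      exact isRetrocompact_range (hj1.rep.snd b).left
  refine ⟨U, W, a, b, p, u, hae, hbe, comm, hu, ?_⟩
  exact Groth.Agent.Lib.DenseFibH8.main1240 p.left W₀ hdense d hle hcond u

end Groth.Agent.Lib.AlgSpDenseFibH7
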