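import Groth.Agent.Lib.AlgSpDenseFib1_helper7
import Groth.Agent.S10649
import Groth.Agent.Lib.QSecA_helper8
import Groth.Agent.Lib.FibCoh3_helper8

/-!
# A flat proper morphism of algebraic spaces finite over a dense open is finite (helper7)
APPEND-ONLY once landed.
-/

set_option backward.isDefEq.respectTransparency false
set_option backward.isDefEq.respectTransparency.types false
set_option linter.style.haveILetI false
set_option linter.unusedSectionVars false
set_option linter.unusedVariables false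
set_option autoImplicit false
set_option maxHeartbeats 1600000
universe u
open CategoryTheory CategoryTheory.Limits AlgebraicGeometry Opposite

namespace Groth.Agent.Lib.AlgSpDenseFibH7

open AlgSp Groth.Agent.Lib.AlgSpPoints_helper7 Groth.Agent.Lib.AlgSpPullback_helper7
  Groth.Agent.Lib.AlgSpQC_helper7 Groth.Agent.Lib.AlgSpOpenSub_helper7

variable {S : Scheme.{u}}

theorem main10654 {X Y V : AlgSp.Space S} (f : X ⟶ Y) (j : V ⟶ Y)
    (hf1 : AlgSp.LocP @Flat f.hom) (hf2 : AlgSp.IsProperMor f.hom)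
    (hj1 : AlgSp.RepWith @IsOpenImmersion j.hom)
    (hj2 : Dense (Set.range (AlgSp.Points.map j.hom)))
    (P : AlgSp.Space S) (fst : P ⟶ X) (snd : P ⟶ V)
    (hP : IsPullback fst.hom snd.hom f.hom j.hom)
    (hV : AlgSp.IsFiniteMor snd.hom)
    (h : AlgSp.LocP @LocallyOfFinitePresentation f.hom ∨ AlgSp.IsQuasiCompactMor j.hom) :
    AlgSp.IsFiniteMor f.hom := by
  have hlft : LocP @LocallyOfFiniteType f.hom := hf2.2.1.1
  have hsndL : LocP (@LocallyQuasiFinite ⊓ @LocallyOfFiniteType : MorphismProperty Scheme.{u})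
      snd.hom := Groth.Agent.Lib.AlgSpFinTfaeH6.locP_of_isFiniteMor snd hV
  have hV' : ∀ z, AlgSp.HasAtMor
      (fun _ _ h u => FlatMor.fibreDimAt h u ≤ ((0 : ℕ) : WithBot ℕ∞)) snd.hom z := by
    intro z
    obtain ⟨U₂, V₂, a₂, b₂, h₂, u₂, ha₂e, hb₂e, comm₂, hu₂⟩ :=
      ResTrdegH8.exists_chart_diagram snd z
    obtain ⟨hq, ht⟩ := hsndL a₂ b₂ h₂ ha₂e hb₂e comm₂
    haveI : LocallyQuasiFinite h₂.left := hq
    haveI : LocallyOfFiniteType h₂.left := ht
    refine ⟨U₂, V₂, a₂, b₂, h₂, u₂, ha₂e, hb₂e, comm₂, hu₂, ?_⟩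
    show FlatMor.fibreDimAt h₂.left u₂ ≤ ((0 : ℕ) : WithBot ℕ∞)
    rw [FibCohH8.fibreDimAt_eq_zero_of_lqf h₂.left u₂]
    exact le_of_eq rfl
  have hall := main10653 f j 0 hf1 hlft hj1 hj2 P fst snd hP hV' h
  have hlocP : LocP (@LocallyQuasiFinite ⊓ @LocallyOfFiniteType : MorphismProperty Scheme.{u})
      f.hom := by
    intro U W a b p hae hbe comm
    haveI : LocallyOfFiniteType p.left := hlft a b p hae hbe comm
    refine ⟨?_, inferInstance⟩
    apply QSecH8.locallyQuasiFinite_of_fibreDimAt_le_zero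
    intro u
    obtain ⟨U', W', a', b', p', u', ha'e, hb'e, comm', hu', hd'⟩ := hall (Points.ofPt a u)
    rw [ChartIndepH8.fibreDimAt_chart_indep f.hom hlft a b p u a' b' p' u' hae hbe ha'e hb'e
      comm comm' hu'.symm]
    exact hd'
  have hT := (Groth.Agent.S10649.result f).out 1 0
  have hand : AlgSp.IsProperMor f.hom ∧
      AlgSp.LocP (@LocallyQuasiFinite ⊓ @LocallyOfFiniteType) f.hom := ⟨hf2, hlocP⟩
  exact hT.1 hand

end Groth.Agent.Lib.AlgSpDenseFibH7
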