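import Groth.Agent.Lib.AlgSpDescent_helper7
import Mathlib.AlgebraicGeometry.Morphisms.QuasiFinite
import Mathlib.AlgebraicGeometry.Morphisms.Separated

/-!
# The diagonal of an algebraic space (helper7)
-/

set_option autoImplicit false
universe u
open CategoryTheory CategoryTheory.Limits AlgebraicGeometry Opposite

namespace Groth.Agent.Lib.AlgSpDiag_helper7

open AlgSp Groth.Agent.Lib.AlgSpPoints_helper7 Groth.Agent.Lib.AlgSpQC_helper7
  Groth.Agent.Lib.AlgSpPullback_helper7 Groth.Agent.Lib.AlgSpDescent_helper7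

variable {S : Scheme.{u}}

/-- A representable monomorphism is representable by monomorphisms. -/
theorem repWith_mono_of_mono {F G : Sp S} (f : F ⟶ G) (hf : Representable f) [Mono f] :
    RepWith (MorphismProperty.monomorphisms Scheme.{u}) f := by
  refine ⟨hf, fun T V g fst snd sq => ?_⟩
  have h1 : Mono ((yon S).map snd) := sq.mono_snd_of_mono
  have h2 : Mono snd := (yon S).mono_of_mono_map h1
  exact (inferInstance : Mono snd.left)

theorem mono_diag (X : Sp S) : Mono (Limits.diag X) :=
  mono_of_mono_fac (prod.lift_fst (𝟙 X) (𝟙 X))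

theorem representable_diag_terminal : Representable (Limits.diag (⊤_ (Sp S))) := by
  have : IsIso (Limits.diag (⊤_ (Sp S))) := by
    refine ⟨prod.fst, prod.lift_fst _ _, ?_⟩
    apply Limits.prod.hom_ext
    · rw [Category.assoc, prod.lift_fst]; simp
    · exact Subsingleton.elim _ _
  exact Functor.relativelyRepresentable.of_isIso _ _

/-- A chart of `X ⨯ X` together with the base change of the diagonal to it. -/
theorem exists_diag_chart {X : Sp S} {U : Over S} (p : (yon S).obj U ⟶ X)
    (hp : Representable p) :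
    ∃ (W R : Over S) (a b : W ⟶ U) (r : (yon S).obj W ⟶ X ⨯ X) (ρ : R ⟶ W),
      IsPullback ((yon S).map (ρ ≫ a)) ((yon S).map (ρ ≫ b)) p p ∧
      IsPullback ((yon S).map (ρ ≫ a) ≫ p) ((yon S).map ρ) (Limits.diag X) r ∧
      ∀ (Q : MorphismProperty Scheme.{u}) [Q.IsStableUnderBaseChange] [Q.IsMultiplicative],
        RepWith Q p → RepWith Q r := by
  have sqP := IsPullback.of_hasBinaryProduct' X X
  obtain ⟨W, a, b, r, hr1, hr2, sqW, hr⟩ :=
    exists_chart_of_isPullback representable_diag_terminal sqP p p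
  let r1 := hp.fst' p
  let r2 := hp.snd p
  have sqR : IsPullback ((yon S).map r1) ((yon S).map r2) p p := hp.isPullback' p
  let ρ' : (yon S).obj (hp.pullback p) ⟶ (yon S).obj W :=
    sqW.lift ((yon S).map r1) ((yon S).map r2)
      (by rw [← Category.assoc, ← Category.assoc, sqR.w])
  obtain ⟨ρ, hρ⟩ := (yon S).map_surjective ρ'
  have hρ1 : ρ ≫ a = r1 := (yon S).map_injective (by rw [Functor.map_comp, hρ, sqW.lift_fst])
  have hρ2 : ρ ≫ b = r2 := (yon S).map_injective (by rw [Functor.map_comp, hρ, sqW.lift_snd])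
  refine ⟨W, hp.pullback p, a, b, r, ρ, by rw [hρ1, hρ2]; exact sqR, ?_, fun Q _ _ h => hr Q h h⟩
  rw [hρ1]
  have hwfst : ((yon S).map ρ ≫ r) ≫ prod.fst = (yon S).map r1 ≫ p := by
    rw [Category.assoc, hr1, ← Category.assoc, ← Functor.map_comp, hρ1]
  have hwsnd : ((yon S).map ρ ≫ r) ≫ prod.snd = (yon S).map r1 ≫ p := by
    rw [Category.assoc, hr2, ← Category.assoc, ← Functor.map_comp, hρ2, sqR.w]
  refine isPullback_of_forall_yon ?_ ?_
  · apply Limits.prod.hom_ext
    · rw [hwfst, Category.assoc, prod.lift_fst, Category.comp_id]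
    · rw [hwsnd, Category.assoc, prod.lift_snd, Category.comp_id]
  · intro T x β' hxβ
    obtain ⟨β, rfl⟩ := (yon S).map_surjective β'
    have h1 : x = (yon S).map (β ≫ a) ≫ p := by
      have := hxβ =≫ prod.fst
      rw [Category.assoc, prod.lift_fst, Category.comp_id, Category.assoc, hr1,
        ← Category.assoc, ← Functor.map_comp] at this
      exact this
    have h2 : x = (yon S).map (β ≫ b) ≫ p := by
      have := hxβ =≫ prod.snd
      rw [Category.assoc, prod.lift_snd, Category.comp_id, Category.assoc, hr2,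
        ← Category.assoc, ← Functor.map_comp] at this
      exact this
    let τ : T ⟶ hp.pullback p := hp.lift' (β ≫ a) (β ≫ b) (h1.symm.trans h2)
    have hτ1 : τ ≫ r1 = β ≫ a := hp.lift'_fst _ _ _
    have hτ2 : τ ≫ r2 = β ≫ b := hp.lift'_snd _ _ _
    have hτρ : τ ≫ ρ = β := by
      apply (yon S).map_injective
      apply sqW.hom_ext
      · rw [← Functor.map_comp, ← Functor.map_comp, Category.assoc, hρ1, hτ1]
      · rw [← Functor.map_comp, ← Functor.map_comp, Category.assoc, hρ2, hτ2]
    refine ⟨(yon S).map τ, ⟨?_, ?_⟩, ?_⟩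
    · rw [← Category.assoc, ← Functor.map_comp, hτ1, ← h1]
    · rw [← Functor.map_comp, hτρ]
    · rintro y' ⟨_, hy2⟩
      obtain ⟨y, rfl⟩ := (yon S).map_surjective y'
      rw [← Functor.map_comp] at hy2
      have hy := (yon S).map_injective hy2
      congr 1
      apply hp.hom_ext'
      · change y ≫ r1 = τ ≫ r1
        rw [hτ1, ← hρ1, ← Category.assoc, hy]
      · change y ≫ r2 = τ ≫ r2
        rw [hτ2, ← hρ2, ← Category.assoc, hy]

theorem repWith_locallyOfFiniteType_diag {X : Sp S} (hX : IsAlgSpace X) :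
    RepWith @LocallyOfFiniteType (Limits.diag X) := by
  obtain ⟨U, p, hpe, hps⟩ := hX.atlas
  obtain ⟨W, R, a, b, r, ρ, sqR, sqD, hr⟩ := exists_diag_chart p hpe.rep
  refine repWith_of_chart _ (descendsEtale_of_descendsAlong _) _ hX.diag r (hr _ hpe) (hr _ hps)
    _ ρ sqD ?_
  have h1 : Etale (ρ ≫ a).left := hpe.property _ _ _ sqR.flip
  have h2 : LocallyOfFiniteType (ρ.left ≫ a.left) := by
    rw [← Over.comp_left]; infer_instance
  exact locallyOfFiniteType_of_comp ρ.left a.left

/-- The diagonal of an algebraic space is representable, locally of finite type, a monomorphism,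
separated and locally quasi-finite. -/
theorem diag_properties {X : Sp S} (hX : IsAlgSpace X) :
    RepWith @LocallyOfFiniteType (Limits.diag X) ∧
      RepWith (MorphismProperty.monomorphisms Scheme.{u}) (Limits.diag X) ∧
      RepWith @IsSeparated (Limits.diag X) ∧
      RepWith @LocallyQuasiFinite (Limits.diag X) := by
  have h1 := repWith_locallyOfFiniteType_diag hX
  have : Mono (Limits.diag X) := mono_diag X
  have h2 := repWith_mono_of_mono (Limits.diag X) hX.diag
  refine ⟨h1, h2, ?_, ?_⟩
  · refine repWith_mono ?_ h2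
    intro A B g (hg : Mono g)
    exact (inferInstance : IsSeparated g)
  · refine ⟨hX.diag, fun T V g fst snd sq => ?_⟩
    have : Mono snd.left := h2.property _ _ _ sq
    have : LocallyOfFiniteType snd.left := h1.property _ _ _ sq
    exact (inferInstance : LocallyQuasiFinite snd.left)

/-- Cancellation: if `a ≫ b` and the diagonal of `b` are representable with `Q`, so is `a`. -/
theorem repWith_of_comp_of_diagonal (Q : MorphismProperty Scheme.{u}) [Q.IsStableUnderBaseChange]
    [Q.IsMultiplicative] {Z Y X : Sp S} (a : Z ⟶ Y) (b : Y ⟶ X) (hab : RepWith Q (a ≫ b))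
    (hd : RepWith Q (pullback.diagonal b)) : RepWith Q a := by
  have sq1 := pullback_lift_diagonal_isPullback a b
  have h1 := repWith_snd_of_isPullback Q sq1 hd
  have h2 := repWith_snd_of_isPullback Q (IsPullback.of_hasPullback (a ≫ b) b) hab
  have := repWith_comp Q h1 h2
  rwa [pullback.lift_snd] at this

theorem representable_of_comp_of_diagonal {Z Y X : Sp S} (a : Z ⟶ Y) (b : Y ⟶ X)
    (hab : Representable (a ≫ b)) (hd : Representable (pullback.diagonal b)) :
    Representable a := by
  have sq1 := pullback_lift_diagonal_isPullback a b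
  have h1 : Representable (pullback.lift (f := a ≫ b) (g := b) (𝟙 Z) a (by simp)) :=
    MorphismProperty.of_isPullback (P := Representable) sq1 hd
  have h2 : Representable (pullback.snd (a ≫ b) b) :=
    MorphismProperty.of_isPullback (P := Representable) (IsPullback.of_hasPullback (a ≫ b) b) hab
  have := MorphismProperty.comp_mem (Representable (S := S)) _ _ h1 h2
  rwa [pullback.lift_snd] at this

/-- The five standard properties of the relative diagonal. -/
theorem diagonal_properties {X Y : Sp S} (hX : IsAlgSpace X) (f : X ⟶ Y) :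
    RepWith @LocallyOfFiniteType (pullback.diagonal f) ∧
    RepWith (MorphismProperty.monomorphisms Scheme.{u}) (pullback.diagonal f) ∧
    RepWith @IsSeparated (pullback.diagonal f) ∧
    RepWith @LocallyQuasiFinite (pullback.diagonal f) := by
  obtain ⟨h1, h2, h3, h4⟩ := diag_properties hX
  exact ⟨Groth.Agent.Lib.AlgSpBasic_helper7.repWith_diagonal_of_repWith_diag _ f h1,
    Groth.Agent.Lib.AlgSpBasic_helper7.repWith_diagonal_of_repWith_diag _ f h2,
    Groth.Agent.Lib.AlgSpBasic_helper7.repWith_diagonal_of_repWith_diag _ f h3,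
    Groth.Agent.Lib.AlgSpBasic_helper7.repWith_diagonal_of_repWith_diag _ f h4⟩

theorem repWith_inf {P Q : MorphismProperty Scheme.{u}} {F G : Sp S} {f : F ⟶ G}
    (hP : RepWith P f) (hQ : RepWith Q f) : RepWith (P ⊓ Q) f :=
  ⟨hP.rep, fun _ _ _ _ _ sq => ⟨hP.property _ _ _ sq, hQ.property _ _ _ sq⟩⟩

theorem repWith_inf_iff {P Q : MorphismProperty Scheme.{u}} {F G : Sp S} {f : F ⟶ G} :
    RepWith (P ⊓ Q) f ↔ RepWith P f ∧ RepWith Q f :=
  ⟨fun h => ⟨repWith_mono inf_le_left h, repWith_mono inf_le_right h⟩,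
    fun h => repWith_inf h.1 h.2⟩

end Groth.Agent.Lib.AlgSpDiag_helper7
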