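import Groth.Agent.Lib.AlgSpUnramLocal_helper7

/-! # Monomorphisms of algebraic spaces into locally Noetherian schemes: DVR criterion for
immersions (helper7) -/

set_option autoImplicit false
set_option linter.style.haveILetI false
set_option backward.isDefEq.respectTransparency false
set_option backward.isDefEq.respectTransparency.types false

universe u

open CategoryTheory CategoryTheory.Limits AlgebraicGeometry Opposite

namespace Groth.Agent.Lib.AlgSpUnramLocal

open AlgSp Groth.Agent.Lib.AlgStLocQ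
  Groth.Agent.Lib.AlgSpQC_helper7 Groth.Agent.Lib.AlgSpDiag_helper7
  Groth.Agent.Lib.AlgSpPullback_helper7 Groth.Agent.Lib.AlgSpRepBySp_helper7
  Groth.Agent.Lib.AlgSpPoints_helper7 Groth.Agent.Lib.AlgSpLocP_helper7
  Groth.Agent.Lib.AlgSpBasic_helper7 Groth.Agent.Lib.AlgSpSep_helper7
  Groth.Agent.Lib.AlgSpLocP4_helper7 Groth.Agent.Lib.AlgSpLocP5_helper7
  Groth.Agent.Lib.AlgSpLocP7_helper7 Groth.Agent.Lib.AlgSpQC2_helper7
  Groth.Agent.Lib.AlgSpLocP8_helper7 Groth.Agent.Lib.AlgSpLocP10_helper7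
  Groth.Agent.Lib.AlgSpFpqc3_helper7 Groth.Agent.Lib.AlgSpLocP6_helper7
  Groth.Agent.Lib.AlgSpFpqc2_helper7 Groth.Agent.Lib.AlgSpFpqc_helper7
  Groth.Agent.Lib.AlgSpOpenSub_helper7 Groth.Agent.Lib.AlgSpOpen_helper7
  Groth.Agent.Lib.AlgSpUnram_helper7

variable {S : Scheme.{u}}

/-- The DVR-lift hypothesis for a morphism from a sheaf to a scheme. -/
def DvrLift {X : Sp S} {V : Over S} (c : X ⟶ (yon S).obj V) : Prop :=
  ∀ (A : Type u) [CommRing A] [IsDomain A] [IsDiscreteValuationRing A] (K : Type u) [Field K]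
    [Algebra A K] [IsFractionRing A K] (sA : Spec (CommRingCat.of A) ⟶ S) (t : Over.mk sA ⟶ V),
    (∃ σ : (yon S).obj (Over.mk (Spec.map (CommRingCat.ofHom (algebraMap A K)) ≫ sA)) ⟶ X,
      σ ≫ c = (yon S).map
        ((Over.homMk (Spec.map (CommRingCat.ofHom (algebraMap A K))) rfl :
          Over.mk (Spec.map (CommRingCat.ofHom (algebraMap A K)) ≫ sA) ⟶ Over.mk sA) ≫ t)) →
    (∃ σ : (yon S).obj (Over.mk (Spec.map (CommRingCat.ofHom (IsLocalRing.residue A)) ≫ sA)) ⟶ X,
      σ ≫ c = (yon S).map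
        ((Over.homMk (Spec.map (CommRingCat.ofHom (IsLocalRing.residue A))) rfl :
          Over.mk (Spec.map (CommRingCat.ofHom (IsLocalRing.residue A)) ≫ sA) ⟶ Over.mk sA) ≫
            t)) →
    ∃ σ : (yon S).obj (Over.mk sA) ⟶ X, σ ≫ c = (yon S).map t

theorem dvrLift_of_isPullback {X X' : Sp S} {V V' : Over S}
    {c : X ⟶ (yon S).obj V} {g : V' ⟶ V} {fst : X' ⟶ X}
    {c' : X' ⟶ (yon S).obj V'} (sq : IsPullback fst c' c ((yon S).map g))
    (hc : DvrLift c) : DvrLift c' := by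
  intro A _ _ _ K _ _ _ sA t hK hk
  obtain ⟨σ, hσ⟩ := hc A K sA (t ≫ g)
    (by
      obtain ⟨σK, hσK⟩ := hK
      refine ⟨σK ≫ fst, ?_⟩
      rw [Category.assoc, sq.w, ← Category.assoc, hσK, ← Functor.map_comp, Category.assoc])
    (by
      obtain ⟨σk, hσk⟩ := hk
      refine ⟨σk ≫ fst, ?_⟩
      rw [Category.assoc, sq.w, ← Category.assoc, hσk, ← Functor.map_comp, Category.assoc])
  refine ⟨sq.lift σ ((yon S).map t) ?_, sq.lift_snd _ _ _⟩
  rw [hσ, Functor.map_comp]

set_option maxHeartbeats 1600000 in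
theorem sepProp_of_dvrLift {X : Sp S} (hX : IsAlgSpace X) {V : Over S}
    [IsLocallyNoetherian V.left] (c : X ⟶ (yon S).obj V) [Mono c]
    (hlft : LocP @LocallyOfFiniteType c) (hqc : IsQuasiCompactMor c) (hdvr : DvrLift c) :
    SepProp c := by
  intro W e hW he XW q₁ cW sqW O hO x₀ hx₀ hcl
  haveI : IsAffine W.left := hW
  haveI : Etale e.left := he
  haveI : IsLocallyNoetherian W.left := LocallyOfFiniteType.isLocallyNoetherian e.left
  have hYV := IsAlgSpace.yon_obj V
  haveI : Mono cW := sqW.mono_snd_of_mono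
  have hXW : IsAlgSpace XW := isAlgSpace_of_isPullback hYV.diag hX (IsAlgSpace.yon_obj W) sqW
  have hcWqc : IsQuasiCompactMor cW := isQuasiCompactMor_of_isPullback sqW hqc
  have hcWlft : LocP @LocallyOfFiniteType cW :=
    locP_baseChange_scheme etLocal_locallyOfFiniteType hX c e q₁ cW sqW hlft
  have hcWdvr : DvrLift cW := dvrLift_of_isPullback sqW hdvr
  have hXWqc : IsQuasiCompactSp XW :=
    hcWqc (IsAlgSpace.yon_obj W) (isQuasiCompactSp_yon W) (𝟙 _) (𝟙 _) cW
      (IsPullback.of_horiz_isIso ⟨by simp⟩)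
  obtain ⟨U₂, p₂, hp₂e, hp₂s, hU₂c⟩ := hXWqc
  haveI : CompactSpace ↥U₂.left := hU₂c
  obtain ⟨g₂, hg₂⟩ := (yon S).map_surjective (p₂ ≫ cW)
  haveI : LocallyOfFiniteType g₂.left :=
    hcWlft p₂ (𝟙 _) g₂ hp₂e (repWith_id _ W) (by rw [hg₂, Category.comp_id])
  have hTcl : IsClosed (Points.ofPt p₂ ⁻¹' Oᶜ) :=
    hO.isClosed_compl.preimage (Points.continuous_ofPt p₂)
  have himg : toBase cW '' Oᶜ = g₂.left '' (Points.ofPt p₂ ⁻¹' Oᶜ) := by
    ext w
    constructor
    · rintro ⟨x, hx, rfl⟩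
      obtain ⟨t, rfl⟩ := ofPt_surjective p₂ hp₂s x
      exact ⟨t, hx, (toBase_ofPt cW p₂ g₂ hg₂.symm t).symm⟩
    · rintro ⟨t, ht, rfl⟩
      exact ⟨Points.ofPt p₂ t, ht, toBase_ofPt cW p₂ g₂ hg₂.symm t⟩
  rw [himg] at hcl
  obtain ⟨t, ht, hsp⟩ :=
    Groth.Agent.Lib.UnramLocal_helper7.exists_specializes_of_mem_closure_image g₂.left _ hTcl _ hcl
  have hx₁ : Points.ofPt p₂ t ∉ O := ht
  have hb : toBase cW (Points.ofPt p₂ t) = g₂.left t := toBase_ofPt cW p₂ g₂ hg₂.symm t
  have hne : g₂.left t ≠ toBase cW x₀ := by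
    intro h
    apply hx₁
    rw [toBase_injective cW (hb.trans h)]
    exact hx₀
  obtain ⟨A, _, _, _, a, η, hη, hacl, haη⟩ :=
    Groth.Agent.Lib.UnramLocal_helper7.exists_dvr_of_specializes (g₂.left t) (toBase cW x₀) hsp hne
  -- the generic point
  have hηK : Spec.map (CommRingCat.ofHom (algebraMap A (FractionRing A)))
      (IsLocalRing.closedPoint (FractionRing A)) = η := by
    apply PrimeSpectrum.ext
    rw [hη]
    show Ideal.comap (algebraMap A (FractionRing A))
      (IsLocalRing.maximalIdeal (FractionRing A)) = ⊥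
    rw [IsLocalRing.maximalIdeal_eq_bot, ← RingHom.ker_eq_comap_bot]
    exact (RingHom.injective_iff_ker_eq_bot _).1 (IsFractionRing.injective A (FractionRing A))
  have hsk : Spec.map (CommRingCat.ofHom (IsLocalRing.residue A))
      (IsLocalRing.closedPoint (IsLocalRing.ResidueField A)) = IsLocalRing.closedPoint A := by
    apply PrimeSpectrum.ext
    show Ideal.comap (IsLocalRing.residue A)
      (IsLocalRing.maximalIdeal (IsLocalRing.ResidueField A)) = IsLocalRing.maximalIdeal A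
    rw [IsLocalRing.maximalIdeal_eq_bot, ← RingHom.ker_eq_comap_bot]
    exact IsLocalRing.ker_residue
  obtain ⟨ℓ, hℓ⟩ := hcWdvr A (FractionRing A) (a ≫ W.hom)
    (Over.homMk a rfl : Over.mk (a ≫ W.hom) ⟶ W)
    (exists_section_of_point hXW cW (FractionRing A) _ _ (Points.ofPt p₂ t) (by
      rw [← ofScheme_toBase cW, hb]
      congr 1
      show g₂.left t = a (Spec.map (CommRingCat.ofHom (algebraMap A (FractionRing A)))
        (IsLocalRing.closedPoint (FractionRing A)))
      rw [hηK, haη]))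
    (exists_section_of_point hXW cW (IsLocalRing.ResidueField A) _ _ x₀ (by
      rw [← ofScheme_toBase cW]
      congr 1
      show toBase cW x₀ = a (Spec.map (CommRingCat.ofHom (IsLocalRing.residue A))
        (IsLocalRing.closedPoint (IsLocalRing.ResidueField A)))
      rw [hsk, hacl]))
  have h1 : Points.ofPt ℓ η = Points.ofPt p₂ t := by
    apply toBase_injective cW
    rw [toBase_ofPt cW ℓ _ hℓ η, hb]
    exact haη
  have h0 : Points.ofPt ℓ (IsLocalRing.closedPoint A) = x₀ := by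
    apply toBase_injective cW
    rw [toBase_ofPt cW ℓ _ hℓ (IsLocalRing.closedPoint A)]
    exact hacl
  have hsp' : (η : ↥(Spec (CommRingCat.of A))) ⤳ IsLocalRing.closedPoint A :=
    IsLocalRing.specializes_closedPoint (R := A) η
  have hsp'' := hsp'.map (Points.continuous_ofPt ℓ)
  rw [h1, h0] at hsp''
  exact hx₁ (hsp''.mem_open hO hx₀)

/-- The main theorem for algebraic spaces over a locally Noetherian scheme. -/
theorem repWith_qcImmersion_of_lifts {X : Sp S} (hX : IsAlgSpace X) {V : Over S}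
    [IsLocallyNoetherian V.left] (c : X ⟶ (yon S).obj V) [Mono c]
    (hlft : LocP @LocallyOfFiniteType c) (hdense : DenseLift c) (hdvr : DvrLift c) :
    RepWith (@IsImmersion ⊓ @QuasiCompact) c := by
  have hqc := isQuasiCompactMor_of_denseLift hX c hdense
  have hZ := sepProp_of_dvrLift hX c hlft hqc hdvr
  obtain ⟨Y, y, θ, hy, hθ⟩ := exists_immersion_of_sepProp hX c hlft hZ
  haveI : IsImmersion y.left := hy
  have hyqc : QuasiCompact y.left := quasiCompact_of_isImmersion_of_locNoeth y.left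
  rw [← hθ]
  exact MorphismProperty.RespectsIso.precomp _ θ.hom _
    ((repWith_yon_map_iff (@IsImmersion ⊓ @QuasiCompact) y).2 ⟨hy, hyqc⟩)

end Groth.Agent.Lib.AlgSpUnramLocal
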