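import Groth.Agent.Lib.ElemDistSq_helper7
import Groth.Agent.Lib.AlgSpFpqc3_helper7
import Groth.Agent.Lib.AffDesc5_helper7
import Groth.Agent.Lib.AlgSpGlue4_helper7
import Groth.Agent.Lib.AlgSpSep_helper7

/-!
# Separatedness from an elementary distinguished square (helper7)
-/

set_option autoImplicit false
universe u
open CategoryTheory CategoryTheory.Limits AlgebraicGeometry Opposite MorphismProperty
open AlgSp Groth.Agent.Lib.AlgSpPoints_helper7
  Groth.Agent.Lib.AlgSpQC_helper7 Groth.Agent.Lib.AlgSpDiag_helper7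
  Groth.Agent.Lib.AlgSpPullback_helper7 Groth.Agent.Lib.AlgSpSep_helper7
  Groth.Agent.Lib.AlgSpOpenSub_helper7 Groth.Agent.Lib.AlgSpSmST_helper7
  Groth.Agent.Lib.AlgSpFpqc3_helper7 Groth.Agent.Lib.AffDescH7 Groth.Agent.Lib.AlgSpGlue4H7
  Groth.Agent.Lib.ElemDistSq_helper7

namespace Groth.Agent.Lib.AlgSpEdsSepH7

variable {S : Scheme.{u}}

/-- An immersion with closed image is a closed immersion. -/
theorem repWith_ci_of_immersion_of_closed_range {A B : Sp S} (c : A ⟶ B)
    (hc : RepWith @IsImmersion c) (hcl : IsClosed (Set.range (Points.map c))) :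
    RepWith @IsClosedImmersion c := by
  refine ⟨hc.rep, fun U V g fst snd sq => ?_⟩
  haveI : IsImmersion snd.left := hc.property g fst snd sq
  show IsClosedImmersion snd.left
  apply IsClosedImmersion.of_isPreimmersion
  rw [← ofPt_preimage_range c g fst snd sq]
  exact hcl.preimage (Points.continuous_ofPt g)

/-- Base change of a two-member fpqc cover. -/
theorem isFpqcCover_pair_baseChange {U V X T TU TV : Sp S} (hX : IsAlgSpace X) (hT : IsAlgSpace T)
    (hU : IsAlgSpace U) (hV : IsAlgSpace V)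
    (j : U ⟶ X) (f : V ⟶ X) (hcov : IsFpqcCover (pair U V) (pairHom j f)) (t : T ⟶ X)
    (wU : TU ⟶ T) (vU : TU ⟶ U) (sqU : IsPullback wU vU t j)
    (wV : TV ⟶ T) (vV : TV ⟶ V) (sqV : IsPullback wV vV t f) :
    IsFpqcCover (pair TU TV) (pairHom wU wV) :=
  isFpqcCover_baseChange hX hT t (pair U V) (pairHom j f) (pair_isAlgSpace hU hV) (pair TU TV)
    (pairHom wU wV) (pairMap vU vV) (fun i => match i with
      | ⟨true⟩ => sqU
      | ⟨false⟩ => sqV) hcov

/-- Closed immersions can be checked on a two-member fpqc cover of the target. -/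
theorem repWith_ci_of_pair_cover {T TU TV R RU RV : Sp S} (hT : IsAlgSpace T)
    (hTU : IsAlgSpace TU) (hTV : IsAlgSpace TV) (hR : IsAlgSpace R) (hRU : IsAlgSpace RU)
    (hRV : IsAlgSpace RV) (wU : TU ⟶ T) (wV : TV ⟶ T)
    (hcov : IsFpqcCover (pair TU TV) (pairHom wU wV)) (φ : R ⟶ T)
    (qU : RU ⟶ R) (pU : RU ⟶ TU) (sqU : IsPullback qU pU φ wU)
    (qV : RV ⟶ R) (pV : RV ⟶ TV) (sqV : IsPullback qV pV φ wV)
    (hpU : RepWith @IsClosedImmersion pU) (hpV : RepWith @IsClosedImmersion pV) :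
    RepWith @IsClosedImmersion φ :=
  (isLocalOnBase_fpqc_repWith_isClosedImmersion (pair TU TV) (pairHom wU wV) hT
    (pair_isAlgSpace hTU hTV) hcov φ hR (pair RU RV) (pairMap pU pV) (pairHom qU qV)
    (pair_isAlgSpace hRU hRV) (fun i => match i with
      | ⟨true⟩ => sqU
      | ⟨false⟩ => sqV)).2 (fun i => match i with
      | ⟨true⟩ => hpU
      | ⟨false⟩ => hpV)

section Graph

variable {X Y A : Sp S}

/-- The graph `A ⟶ (X ×_Y X) ×_X A` of `a : A ⟶ X` (the base change of the diagonal of `g`). -/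
noncomputable def graphΔ (g : X ⟶ Y) (a : A ⟶ X) : A ⟶ pullback (pullback.fst g g) a :=
  pullback.lift (a ≫ pullback.diagonal g) (𝟙 A)
    (by rw [Category.assoc, pullback.diagonal_fst, Category.comp_id, Category.id_comp])

theorem graphΔ_fst (g : X ⟶ Y) (a : A ⟶ X) :
    graphΔ g a ≫ pullback.fst (pullback.fst g g) a = a ≫ pullback.diagonal g :=
  pullback.lift_fst _ _ _

theorem graphΔ_snd (g : X ⟶ Y) (a : A ⟶ X) :
    graphΔ g a ≫ pullback.snd (pullback.fst g g) a = 𝟙 A :=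
  pullback.lift_snd _ _ _

theorem graph_sq (g : X ⟶ Y) (a : A ⟶ X) :
    IsPullback a (graphΔ g a) (pullback.diagonal g) (pullback.fst (pullback.fst g g) a) := by
  have t := (IsPullback.of_hasPullback (pullback.fst g g) a).flip
  have s : IsPullback (graphΔ g a ≫ pullback.snd (pullback.fst g g) a) a a
      (pullback.diagonal g ≫ pullback.fst g g) := by
    rw [graphΔ_snd, pullback.diagonal_fst]
    exact IsPullback.of_horiz_isIso ⟨by simp⟩
  exact (IsPullback.of_right s (graphΔ_fst g a) t).flip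

theorem piece {B P' R : Sp S} (g : X ⟶ Y) (a : A ⟶ X) (b : B ⟶ X)
    (u : P' ⟶ A) (v : P' ⟶ B) (hP' : IsPullback u v (a ≫ g) (b ≫ g))
    (p : R ⟶ A) (q : R ⟶ B) (hR : IsPullback p q a b)
    (c : R ⟶ P') (hc₁ : c ≫ u = p) (hc₂ : c ≫ v = q) :
    ∃ w : P' ⟶ pullback (pullback.fst g g) a,
      IsPullback w v (pullback.fst (pullback.fst g g) a ≫ pullback.snd g g) b ∧
      IsPullback p c (graphΔ g a) w := by
  have hmw : (u ≫ a) ≫ g = (v ≫ b) ≫ g := by simpa only [Category.assoc] using hP'.w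
  obtain ⟨m, hm1, hm2⟩ : ∃ m : P' ⟶ pullback g g, m ≫ pullback.fst g g = u ≫ a ∧
      m ≫ pullback.snd g g = v ≫ b :=
    ⟨pullback.lift _ _ hmw, pullback.lift_fst _ _ _, pullback.lift_snd _ _ _⟩
  obtain ⟨w, hw1, hw2⟩ : ∃ w : P' ⟶ pullback (pullback.fst g g) a,
      w ≫ pullback.fst (pullback.fst g g) a = m ∧ w ≫ pullback.snd (pullback.fst g g) a = u :=
    ⟨pullback.lift m u hm1, pullback.lift_fst _ _ _, pullback.lift_snd _ _ _⟩
  have tb : IsPullback (pullback.fst (pullback.fst g g) a ≫ pullback.snd g g)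
      (pullback.snd (pullback.fst g g) a) g (a ≫ g) :=
    (IsPullback.of_hasPullback (pullback.fst g g) a).paste_horiz
      (IsPullback.of_hasPullback g g).flip
  have s1 : IsPullback v (w ≫ pullback.snd (pullback.fst g g) a) (b ≫ g) (a ≫ g) := by
    rw [hw2]; exact hP'.flip
  have e1 : v ≫ b = w ≫ pullback.fst (pullback.fst g g) a ≫ pullback.snd g g := by
    rw [← Category.assoc, hw1, hm2]
  have sq1 : IsPullback v w b (pullback.fst (pullback.fst g g) a ≫ pullback.snd g g) :=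
    IsPullback.of_bot s1 e1 tb
  have e2 : graphΔ g a ≫ pullback.fst (pullback.fst g g) a ≫ pullback.snd g g = a := by
    rw [← Category.assoc, graphΔ_fst, Category.assoc, pullback.diagonal_snd, Category.comp_id]
  have s2 : IsPullback (c ≫ v) p b
      (graphΔ g a ≫ pullback.fst (pullback.fst g g) a ≫ pullback.snd g g) := by
    rw [hc₂, e2]; exact hR.flip
  have e3 : c ≫ w = p ≫ graphΔ g a := by
    apply pullback.hom_ext
    · simp only [Category.assoc, hw1, graphΔ_fst]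
      apply pullback.hom_ext
      · simp only [Category.assoc, hm1, pullback.diagonal_fst, Category.comp_id]
        rw [← Category.assoc, hc₁]
      · simp only [Category.assoc, hm2, pullback.diagonal_snd, Category.comp_id]
        rw [← Category.assoc, hc₂, hR.w]
    · simp only [Category.assoc, hw2, graphΔ_snd, Category.comp_id]
      exact hc₁
  have sq2 : IsPullback c p w (graphΔ g a) := IsPullback.of_right s2 e3 sq1
  exact ⟨w, sq1.flip, sq2.flip⟩

end Graph

theorem repWith_ci_graph {U V X Y A PU' RU PV' RV : Sp S}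
    (hU : IsAlgSpace U) (hV : IsAlgSpace V) (hX : IsAlgSpace X) (hY : IsAlgSpace Y)
    (hA : IsAlgSpace A) (hPU' : IsAlgSpace PU') (hRU : IsAlgSpace RU) (hPV' : IsAlgSpace PV')
    (hRV : IsAlgSpace RV)
    (g : X ⟶ Y) (j : U ⟶ X) (f : V ⟶ X) (hcov : IsFpqcCover (pair U V) (pairHom j f))
    (a : A ⟶ X)
    (uU : PU' ⟶ A) (vU : PU' ⟶ U) (hPU : IsPullback uU vU (a ≫ g) (j ≫ g))
    (pU : RU ⟶ A) (qU : RU ⟶ U) (hRUsq : IsPullback pU qU a j)
    (cU : RU ⟶ PU') (hcU₁ : cU ≫ uU = pU) (hcU₂ : cU ≫ vU = qU)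
    (hcU : RepWith @IsClosedImmersion cU)
    (uV : PV' ⟶ A) (vV : PV' ⟶ V) (hPV : IsPullback uV vV (a ≫ g) (f ≫ g))
    (pV : RV ⟶ A) (qV : RV ⟶ V) (hRVsq : IsPullback pV qV a f)
    (cV : RV ⟶ PV') (hcV₁ : cV ≫ uV = pV) (hcV₂ : cV ≫ vV = qV)
    (hcV : RepWith @IsClosedImmersion cV) :
    RepWith @IsClosedImmersion (graphΔ g a) := by
  obtain ⟨wU, sU1, sU2⟩ := piece g a j uU vU hPU pU qU hRUsq cU hcU₁ hcU₂
  obtain ⟨wV, sV1, sV2⟩ := piece g a f uV vV hPV pV qV hRVsq cV hcV₁ hcV₂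
  have hXX : IsAlgSpace (pullback g g) :=
    isAlgSpace_of_isPullback hY.diag hX hX (IsPullback.of_hasPullback _ _)
  have hPA : IsAlgSpace (pullback (pullback.fst g g) a) :=
    isAlgSpace_of_isPullback hX.diag hXX hA (IsPullback.of_hasPullback _ _)
  have hcov' := isFpqcCover_pair_baseChange hX hPA hU hV j f hcov
    (pullback.fst (pullback.fst g g) a ≫ pullback.snd g g) wU vU sU1 wV vV sV1
  exact repWith_ci_of_pair_cover hPA hPU' hPV' hA hRU hRV wU wV hcov' (graphΔ g a) pU cU sU2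
    pV cV sV2 hcU hcV

theorem repWith_ci_diagonal_of_graphs {U V X Y : Sp S} (hU : IsAlgSpace U) (hV : IsAlgSpace V)
    (hX : IsAlgSpace X) (hY : IsAlgSpace Y) (g : X ⟶ Y) (j : U ⟶ X) (f : V ⟶ X)
    (hcov : IsFpqcCover (pair U V) (pairHom j f))
    (hΓU : RepWith @IsClosedImmersion (graphΔ g j))
    (hΓV : RepWith @IsClosedImmersion (graphΔ g f)) :
    RepWith @IsClosedImmersion (pullback.diagonal g) := by
  have hXX : IsAlgSpace (pullback g g) :=
    isAlgSpace_of_isPullback hY.diag hX hX (IsPullback.of_hasPullback _ _)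
  have hPU : IsAlgSpace (pullback (pullback.fst g g) j) :=
    isAlgSpace_of_isPullback hX.diag hXX hU (IsPullback.of_hasPullback _ _)
  have hPV : IsAlgSpace (pullback (pullback.fst g g) f) :=
    isAlgSpace_of_isPullback hX.diag hXX hV (IsPullback.of_hasPullback _ _)
  have hcov' := isFpqcCover_pair_baseChange hX hXX hU hV j f hcov (pullback.fst g g) _ _
    (IsPullback.of_hasPullback (pullback.fst g g) j) _ _
    (IsPullback.of_hasPullback (pullback.fst g g) f)
  exact repWith_ci_of_pair_cover hXX hPU hPV hX hU hV _ _ hcov' (pullback.diagonal g)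
    j (graphΔ g j) (graph_sq g j) f (graphΔ g f) (graph_sq g f) hΓU hΓV

theorem isSeparatedMor_of_eds {U V X Y PX PY QX QY : Sp S}
    (hU : IsAlgSpace U) (hV : IsAlgSpace V) (hX : IsAlgSpace X) (hY : IsAlgSpace Y)
    (hPX : IsAlgSpace PX) (hPY : IsAlgSpace PY) (hQX : IsAlgSpace QX) (hQY : IsAlgSpace QY)
    (g : X ⟶ Y) (j : U ⟶ X) (f : V ⟶ X) (hj : RepWith @IsOpenImmersion j)
    (hcov : IsFpqcCover (pair U V) (pairHom j f))
    (hUs : IsSeparatedMor (j ≫ g))
    (pX : PX ⟶ U) (qX : PX ⟶ V) (hPXsq : IsPullback pX qX j f)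
    (pY : PY ⟶ U) (qY : PY ⟶ V) (hPYsq : IsPullback pY qY (j ≫ g) (f ≫ g))
    (c : PX ⟶ PY) (hc₁ : c ≫ pY = pX) (hc₂ : c ≫ qY = qX) (hcl : IsClosedMor c)
    (rX₁ rX₂ : QX ⟶ V) (hQXsq : IsPullback rX₁ rX₂ f f)
    (rY₁ rY₂ : QY ⟶ V) (hQYsq : IsPullback rY₁ rY₂ (f ≫ g) (f ≫ g))
    (d : QX ⟶ QY) (hd₁ : d ≫ rY₁ = rX₁) (hd₂ : d ≫ rY₂ = rX₂)
    (hdcl : RepWith @IsClosedImmersion d) : IsSeparatedMor g := by
  have hqX : RepWith @IsOpenImmersion qX := repWith_snd_of_isPullback _ hPXsq hj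
  have hcimm : RepWith @IsImmersion c := by
    apply repWith_of_comp_of_diagonal @IsImmersion c qY
    · rw [hc₂]
      exact repWith_mono
        (fun _ _ k (hk : IsOpenImmersion k) => (inferInstance : IsImmersion k)) hqX
    · exact repWith_mono
        (fun _ _ k (hk : IsClosedImmersion k) => (inferInstance : IsImmersion k))
        (repWith_diagonal_of_isPullback _ hPYsq hUs)
  have hcci : RepWith @IsClosedImmersion c :=
    repWith_ci_of_immersion_of_closed_range c hcimm hcl.isClosed_range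
  haveI : Mono j := mono_of_openImmersion j hj
  have hUU : IsAlgSpace (pullback (j ≫ g) (j ≫ g)) :=
    isAlgSpace_of_isPullback hY.diag hU hU (IsPullback.of_hasPullback _ _)
  have hΓU : RepWith @IsClosedImmersion (graphΔ g j) :=
    repWith_ci_graph hU hV hX hY hU hUU hU hPY hPX g j f hcov j
      (pullback.fst _ _) (pullback.snd _ _) (IsPullback.of_hasPullback (j ≫ g) (j ≫ g))
      (𝟙 U) (𝟙 U) (IsKernelPair.id_of_mono j) (pullback.diagonal (j ≫ g))
      (pullback.diagonal_fst _) (pullback.diagonal_snd _) hUs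
      pY qY hPYsq pX qX hPXsq c hc₁ hc₂ hcci
  have hΓV : RepWith @IsClosedImmersion (graphΔ g f) :=
    repWith_ci_graph hU hV hX hY hV hPY hPX hQY hQX g j f hcov f
      qY pY hPYsq.flip qX pX hPXsq.flip c hc₂ hc₁ hcci
      rY₁ rY₂ hQYsq rX₁ rX₂ hQXsq d hd₁ hd₂ hdcl
  exact repWith_ci_diagonal_of_graphs hU hV hX hY g j f hcov hΓU hΓV

end Groth.Agent.Lib.AlgSpEdsSepH7
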