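import Mathlib
import Groth.Agent.Lib.FEtPi0_helper4

open AlgebraicGeometry CategoryTheory CategoryTheory.Limits

universe u

set_option linter.style.haveILetI false

namespace Groth.Agent.Lib.UnramSec2H4

theorem isOpenImmersion_of_section {X Y : Scheme.{u}} (f : X ⟶ Y) [FormallyUnramified f]
    [LocallyOfFiniteType f] (s : Y ⟶ X) (hs : s ≫ f = 𝟙 Y) : IsOpenImmersion s := by
  haveI : (@IsOpenImmersion).HasOfPostcompProperty (MorphismProperty.diagonal @IsOpenImmersion) :=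
    MorphismProperty.hasOfPostcompProperty_iff_le_diagonal.mpr le_rfl
  have hd : MorphismProperty.diagonal @IsOpenImmersion f :=
    (inferInstance : IsOpenImmersion (pullback.diagonal f))
  have hc : IsOpenImmersion (s ≫ f) := by
    rw [hs]
    infer_instance
  exact MorphismProperty.of_postcomp (W := @IsOpenImmersion)
    (W' := MorphismProperty.diagonal @IsOpenImmersion) s f hd hc

theorem isClosedImmersion_of_section {X Y : Scheme.{u}} (f : X ⟶ Y) [IsSeparated f]
    (s : Y ⟶ X) (hs : s ≫ f = 𝟙 Y) : IsClosedImmersion s := by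
  haveI : IsClosedImmersion (s ≫ f) := by
    rw [hs]
    infer_instance
  exact IsClosedImmersion.of_comp s f

theorem range_eq_component {X Y : Scheme.{u}} (f : X ⟶ Y) [FormallyUnramified f]
    [LocallyOfFiniteType f] [IsSeparated f] [ConnectedSpace Y] (s : Y ⟶ X) (hs : s ≫ f = 𝟙 Y) :
    ∃ x : X, Set.range s.base = connectedComponent x := by
  haveI := isOpenImmersion_of_section f s hs
  haveI := isClosedImmersion_of_section f s hs
  obtain ⟨y₀⟩ : Nonempty ↥Y := inferInstance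
  have hclopen : IsClopen (Set.range s.base) :=
    ⟨s.isClosedEmbedding.isClosed_range, s.isOpenEmbedding.isOpen_range⟩
  refine ⟨s.base y₀, Set.Subset.antisymm ?_ ?_⟩
  · exact (isPreconnected_range s.continuous).subset_connectedComponent ⟨y₀, rfl⟩
  · exact hclopen.connectedComponent_subset ⟨y₀, rfl⟩

theorem isIso_of_range_eq {X Y : Scheme.{u}} (f : X ⟶ Y) [FormallyUnramified f]
    [LocallyOfFiniteType f] (s : Y ⟶ X) (hs : s ≫ f = 𝟙 Y) (U : X.Opens)
    (hU : (U : Set X) = Set.range s.base) : IsIso (U.ι ≫ f) := by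
  haveI := isOpenImmersion_of_section f s hs
  have e : Set.range s = Set.range U.ι := by
    have h2 : Set.range U.ι = (U : Set X) := Scheme.Opens.range_ι U
    rw [h2, hU]
  have h1 : (IsOpenImmersion.isoOfRangeEq s U.ι e).hom ≫ U.ι = s :=
    IsOpenImmersion.isoOfRangeEq_hom_fac s U.ι e
  have h3 : U.ι ≫ f = (IsOpenImmersion.isoOfRangeEq s U.ι e).inv := by
    rw [← cancel_epi (IsOpenImmersion.isoOfRangeEq s U.ι e).hom, ← Category.assoc, h1, hs,
      Iso.hom_inv_id]
  rw [h3]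
  infer_instance

theorem section_ext {X Y : Scheme.{u}} (f : X ⟶ Y) [FormallyUnramified f]
    [LocallyOfFiniteType f] (s₁ s₂ : Y ⟶ X) (h₁ : s₁ ≫ f = 𝟙 Y) (h₂ : s₂ ≫ f = 𝟙 Y)
    (hr : Set.range s₁.base = Set.range s₂.base) : s₁ = s₂ := by
  haveI := isOpenImmersion_of_section f s₁ h₁
  haveI := isOpenImmersion_of_section f s₂ h₂
  have e : Set.range s₁ = Set.range s₂ := hr
  have h1 : (IsOpenImmersion.isoOfRangeEq s₁ s₂ e).hom ≫ s₂ = s₁ :=
    IsOpenImmersion.isoOfRangeEq_hom_fac s₁ s₂ e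
  have h3 : (IsOpenImmersion.isoOfRangeEq s₁ s₂ e).hom = 𝟙 Y := by
    have := congrArg (· ≫ f) h1
    simp only [Category.assoc, h₂, h₁, Category.comp_id] at this
    exact this
  rw [← h1, h3, Category.id_comp]

theorem range_inv_comp_ι {X Y : Scheme.{u}} (f : X ⟶ Y) (U : X.Opens) [IsIso (U.ι ≫ f)] :
    Set.range (inv (U.ι ≫ f) ≫ U.ι).base = (U : Set X) := by
  ext x
  constructor
  · rintro ⟨y, rfl⟩
    exact FEtPi0H4.ι_mem U ((inv (U.ι ≫ f)).base y)
  · intro hx
    obtain ⟨v, rfl⟩ := FEtPi0H4.exists_ι_eq U x hx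
    refine ⟨(U.ι ≫ f).base v, ?_⟩
    have h : (U.ι ≫ f) ≫ inv (U.ι ≫ f) ≫ U.ι = U.ι := by rw [IsIso.hom_inv_id_assoc]
    exact congrArg (fun φ : (U : Scheme.{u}) ⟶ X => φ.base v) h

theorem main18580 {X Y : Scheme.{u}} (f : X ⟶ Y) [FormallyUnramified f] [LocallyOfFiniteType f]
    [IsSeparated f] [ConnectedSpace Y] :
    ∃ e : {s : Y ⟶ X // s ≫ f = 𝟙 Y} ≃
        {U : X.Opens // (∃ x : X, (U : Set X) = connectedComponent x) ∧ IsIso (U.ι ≫ f)},
      ∀ s : {s : Y ⟶ X // s ≫ f = 𝟙 Y}, ((e s).1 : Set X) = Set.range s.1 := by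
  have hopen : ∀ s : {s : Y ⟶ X // s ≫ f = 𝟙 Y}, IsOpen (Set.range s.1.base) := fun s => by
    haveI := isOpenImmersion_of_section f s.1 s.2
    exact s.1.isOpenEmbedding.isOpen_range
  let F : {s : Y ⟶ X // s ≫ f = 𝟙 Y} →
      {U : X.Opens // (∃ x : X, (U : Set X) = connectedComponent x) ∧ IsIso (U.ι ≫ f)} :=
    fun s => ⟨⟨Set.range s.1.base, hopen s⟩, range_eq_component f s.1 s.2,
      isIso_of_range_eq f s.1 s.2 _ rfl⟩
  have hinj : Function.Injective F := by
    intro s₁ s₂ h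
    have hr : Set.range s₁.1.base = Set.range s₂.1.base :=
      congrArg (fun U : {U : X.Opens // (∃ x : X, (U : Set X) = connectedComponent x) ∧
        IsIso (U.ι ≫ f)} => (U.1 : Set X)) h
    exact Subtype.ext (section_ext f s₁.1 s₂.1 s₁.2 s₂.2 hr)
  have hsurj : Function.Surjective F := by
    rintro ⟨U, hU1, hU2⟩
    haveI := hU2
    refine ⟨⟨inv (U.ι ≫ f) ≫ U.ι, by rw [Category.assoc, IsIso.inv_hom_id]⟩, ?_⟩
    apply Subtype.ext
    apply TopologicalSpace.Opens.ext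
    exact range_inv_comp_ι f U
  exact ⟨Equiv.ofBijective F ⟨hinj, hsurj⟩, fun s => rfl⟩

end Groth.Agent.Lib.UnramSec2H4
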