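import Groth.Agent.Lib.AlgSpClosedPt2_helper6
import Groth.Agent.Lib.UnramSec2_helper4

/-!
# Elementary étale neighbourhoods form a cofiltered system (helper6)
-/

set_option autoImplicit false
universe u
open CategoryTheory CategoryTheory.Limits AlgebraicGeometry Opposite TopologicalSpace

namespace Groth.Agent.Lib.AlgSpElemNbhdH6

open AlgSp Groth.Agent.Lib.AlgSpPoints_helper7 Groth.Agent.Lib.AlgSpQC_helper7
  Groth.Agent.Lib.AlgSpPullback_helper7 Groth.Agent.Lib.AlgSpBasic_helper7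
  Groth.Agent.Lib.AlgSpEtale_helper7 Groth.Agent.Lib.AlgSpDecent3_helper6

variable {S : Scheme.{u}}

/-- a morphism from the spectrum of a field factors through the residue field of its image -/
theorem exists_factor_residueField' {T : Scheme.{u}} {K : Type u} [Field K]
    (f : Spec (CommRingCat.of K) ⟶ T) (t : ↥T) (ht : f (IsLocalRing.closedPoint K) = t) :
    ∃ c : Spec (CommRingCat.of K) ⟶ Spec (T.residueField t), c ≫ T.fromSpecResidueField t = f := by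
  subst ht
  exact ⟨Spec.map (Scheme.descResidueField (Scheme.stalkClosedPointTo f)),
    Scheme.descResidueField_stalkClosedPointTo_fromSpecResidueField K T f⟩

/-- a morphism from the spectrum of a field factors through the residue field of its image -/
theorem exists_factor_residueField {T : Over S} {K : Type u} [Field K]
    {sK : Spec (CommRingCat.of K) ⟶ S} (m : Over.mk sK ⟶ T) (t : ↥T.left)
    (ht : m.left (IsLocalRing.closedPoint K) = t) :
    ∃ c : Over.mk sK ⟶ Over.mk (T.left.fromSpecResidueField t ≫ T.hom),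
      c ≫ (Over.homMk (T.left.fromSpecResidueField t) rfl :
        Over.mk (T.left.fromSpecResidueField t ≫ T.hom) ⟶ T) = m := by
  obtain ⟨c, hc⟩ := exists_factor_residueField' (m.left : Spec (CommRingCat.of K) ⟶ T.left) t ht
  refine ⟨Over.homMk c ?_, Over.OverMorphism.ext hc⟩
  change c ≫ T.left.fromSpecResidueField t ≫ T.hom = sK
  rw [← Category.assoc, hc]
  exact Over.w m

theorem comp_left_apply {A B C : Over S} (f : A ⟶ B) (g : B ⟶ C) (a : ↥A.left) :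
    (f ≫ g).left a = g.left (f.left a) := rfl

theorem homMk_fromSpecResidueField_apply {T : Over S} (t : ↥T.left)
    (s : ↥(Spec (T.left.residueField t))) :
    (Over.homMk (T.left.fromSpecResidueField t) rfl :
      Over.mk (T.left.fromSpecResidueField t ≫ T.hom) ⟶ T).left s = t :=
  Scheme.fromSpecResidueField_apply t s

/-- If the residue field point of `u₁` lifts along `h : U ⟶ U₁` to a point `v` and
`Spec κ(u₁) ⟶ F` is a monomorphism then so is `Spec κ(v) ⟶ F`. -/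
theorem mono_ofPt_of_lift {F : Sp S} {U₁ U : Over S} (a₁ : (yon S).obj U₁ ⟶ F) (u₁ : ↥U₁.left)
    (hm : Mono (FieldPt.ofPt a₁ u₁).toHom) (h : U ⟶ U₁) (v : ↥U.left)
    (m : (FieldPt.ofPt a₁ u₁).pt ⟶ U)
    (hmh : m ≫ h = Over.homMk (U₁.left.fromSpecResidueField u₁) rfl)
    (hmv : m.left (IsLocalRing.closedPoint _) = v) :
    Mono (FieldPt.ofPt ((yon S).map h ≫ a₁) v).toHom := by
  obtain ⟨p₁, hp₁0⟩ : ∃ p₁ : FieldPt F, p₁ = FieldPt.ofPt a₁ u₁ := ⟨_, rfl⟩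
  obtain ⟨q, hq0⟩ : ∃ q : FieldPt F, q = FieldPt.ofPt ((yon S).map h ≫ a₁) v := ⟨_, rfl⟩
  let ι₁ : (FieldPt.ofPt a₁ u₁).pt ⟶ U₁ := Over.homMk (U₁.left.fromSpecResidueField u₁) rfl
  let ιv : (FieldPt.ofPt ((yon S).map h ≫ a₁) v).pt ⟶ U :=
    Over.homMk (U.left.fromSpecResidueField v) rfl
  have hp₁ : (FieldPt.ofPt a₁ u₁).toHom = (yon S).map ι₁ ≫ a₁ := FieldPt.toHom_ofPt a₁ u₁
  have hq : (FieldPt.ofPt ((yon S).map h ≫ a₁) v).toHom =
      (yon S).map ιv ≫ (yon S).map h ≫ a₁ := FieldPt.toHom_ofPt _ v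
  obtain ⟨c, hc'⟩ : ∃ c : (FieldPt.ofPt a₁ u₁).pt ⟶ (FieldPt.ofPt ((yon S).map h ≫ a₁) v).pt,
      c ≫ ιv = m := exists_factor_residueField m v hmv
  have hv : h.left v = u₁ := by
    rw [← hmv, ← comp_left_apply, hmh]
    exact homMk_fromSpecResidueField_apply u₁ _
  have hιv : (ιv ≫ h).left (IsLocalRing.closedPoint _) = u₁ := by
    change h.left ((U.left.fromSpecResidueField v) (IsLocalRing.closedPoint _)) = u₁
    rw [Scheme.fromSpecResidueField_apply, hv]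
  obtain ⟨d, hd'⟩ : ∃ d : (FieldPt.ofPt ((yon S).map h ≫ a₁) v).pt ⟶ (FieldPt.ofPt a₁ u₁).pt,
      d ≫ ι₁ = ιv ≫ h := exists_factor_residueField (ιv ≫ h) u₁ hιv
  have hcd : c.left ≫ d.left = 𝟙 _ := by
    have h1 : (c ≫ d) ≫ ι₁ = 𝟙 _ ≫ ι₁ := by
      rw [Category.assoc, hd', ← Category.assoc, hc', hmh, Category.id_comp]
    haveI : Mono ι₁.left := (inferInstance : Mono (U₁.left.fromSpecResidueField u₁))
    have h2 := congrArg (fun t => t.left) h1
    simp only [Over.comp_left, Over.id_left] at h2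
    exact (cancel_mono ι₁.left).1 h2
  obtain ⟨γ, hγ⟩ : ∃ γ : CommRingCat.of (FieldPt.ofPt ((yon S).map h ≫ a₁) v).K ⟶
      CommRingCat.of (FieldPt.ofPt a₁ u₁).K, Spec.map γ = c.left :=
    ⟨Spec.preimage _, Spec.map_preimage _⟩
  obtain ⟨δ, hδ⟩ : ∃ δ : CommRingCat.of (FieldPt.ofPt a₁ u₁).K ⟶
      CommRingCat.of (FieldPt.ofPt ((yon S).map h ≫ a₁) v).K, Spec.map δ = d.left :=
    ⟨Spec.preimage _, Spec.map_preimage _⟩
  have h1 : δ ≫ γ = 𝟙 _ := by
    apply Spec.map_injective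
    rw [Spec.map_comp, hγ, hδ, Spec.map_id]
    exact hcd
  have hγinj : Function.Injective γ.hom := γ.hom.injective
  have h2 : γ ≫ δ = 𝟙 _ := by
    ext y
    apply hγinj
    have := congrArg (fun t => t.hom (γ.hom y)) h1
    simpa using this
  have hdc : d ≫ c = 𝟙 _ := by
    apply Over.OverMorphism.ext
    change d.left ≫ c.left = 𝟙 _
    rw [← hγ, ← hδ, ← Spec.map_comp, h2, Spec.map_id]
    rfl
  have hcd' : c ≫ d = 𝟙 _ := Over.OverMorphism.ext hcd
  have hqd : (FieldPt.ofPt ((yon S).map h ≫ a₁) v).toHom =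
      (yon S).map d ≫ (FieldPt.ofPt a₁ u₁).toHom := by
    rw [hq, hp₁, ← Category.assoc ((yon S).map d), ← Functor.map_comp, hd', Functor.map_comp,
      Category.assoc]
  rw [hqd]
  haveI : IsIso ((yon S).map d) := ⟨⟨(yon S).map c, by
    rw [← Functor.map_comp, hdc, (yon S).map_id], by
    rw [← Functor.map_comp, hcd', (yon S).map_id]⟩⟩
  haveI := hm
  exact mono_comp _ _

/-- two elementary étale neighbourhoods are dominated by a third -/
theorem exists_dominating {F : Sp S} (hF : IsAlgSpace F) (x : Points F) {U₁ U₂ : Over S}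
    (a₁ : (yon S).obj U₁ ⟶ F) (a₂ : (yon S).obj U₂ ⟶ F) (u₁ : ↥U₁.left) (u₂ : ↥U₂.left)
    (h₁ : IsElemEtaleNbhd a₁ u₁ x) (h₂ : IsElemEtaleNbhd a₂ u₂ x) :
    ∃ (U : Over S) (a : (yon S).obj U ⟶ F) (v : ↥U.left) (k₁ : U ⟶ U₁) (k₂ : U ⟶ U₂),
      IsElemEtaleNbhd a v x ∧ (yon S).map k₁ ≫ a₁ = a ∧ (yon S).map k₂ ≫ a₂ = a ∧
        k₁.left v = u₁ ∧ k₂.left v = u₂ := by
  let ι₁ : (FieldPt.ofPt a₁ u₁).pt ⟶ U₁ := Over.homMk (U₁.left.fromSpecResidueField u₁) rfl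
  let ι₂ : (FieldPt.ofPt a₂ u₂).pt ⟶ U₂ := Over.homMk (U₂.left.fromSpecResidueField u₂) rfl
  have hp₁ : (FieldPt.ofPt a₁ u₁).toHom = (yon S).map ι₁ ≫ a₁ := FieldPt.toHom_ofPt a₁ u₁
  have hp₂ : (FieldPt.ofPt a₂ u₂).toHom = (yon S).map ι₂ ≫ a₂ := FieldPt.toHom_ofPt a₂ u₂
  have hmk : Points.mk (FieldPt.ofPt a₁ u₁) = Points.mk (FieldPt.ofPt a₂ u₂) :=
    h₁.ofPt_eq.trans h₂.ofPt_eq.symm
  obtain ⟨θ, hθ⟩ := exists_factor_of_mono (FieldPt.ofPt a₂ u₂) (FieldPt.ofPt a₁ u₁) h₂.mono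
    (hF.representable_from_yon _) hmk
  have R₂ := h₂.etale.rep
  let k₂ := R₂.fst' a₁
  let k₁ := R₂.snd a₁
  have sq : IsPullback ((yon S).map k₂) ((yon S).map k₁) a₂ a₁ := R₂.isPullback' a₁
  have hcomp : (yon S).map (θ ≫ ι₂) ≫ a₂ = (yon S).map ι₁ ≫ a₁ := by
    rw [Functor.map_comp, Category.assoc, ← hp₂, hθ, hp₁]
  obtain ⟨m, hm⟩ := (yon S).map_surjective (sq.lift _ _ hcomp)
  have hm1 : m ≫ k₂ = θ ≫ ι₂ := by
    apply (yon S).map_injective
    rw [Functor.map_comp, hm, sq.lift_fst]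
  have hm2 : m ≫ k₁ = ι₁ := by
    apply (yon S).map_injective
    rw [Functor.map_comp, hm, sq.lift_snd]
  obtain ⟨v, hv⟩ : ∃ v : ↥(R₂.pullback a₁).left, m.left (IsLocalRing.closedPoint _) = v :=
    ⟨_, rfl⟩
  have hk₁v : k₁.left v = u₁ := by
    rw [← hv, ← comp_left_apply, hm2]
    exact homMk_fromSpecResidueField_apply u₁ _
  have hk₂v : k₂.left v = u₂ := by
    rw [← hv, ← comp_left_apply, hm1, comp_left_apply]
    exact homMk_fromSpecResidueField_apply u₂ _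
  have hk₁e : RepWith @Etale ((yon S).map k₁) := repWith_snd_of_isPullback _ sq h₂.etale
  refine ⟨R₂.pullback a₁, (yon S).map k₁ ≫ a₁, v, k₁, k₂, ⟨repWith_comp _ hk₁e h₁.etale, ?_, ?_⟩,
    rfl, sq.w, hk₁v, hk₂v⟩
  · rw [ofPt_comp, hk₁v]; exact h₁.ofPt_eq
  · exact mono_ofPt_of_lift a₁ u₁ h₁.mono k₁ v m hm2 hv

/-- two parallel morphisms of elementary étale neighbourhoods are equalized by a third -/
theorem exists_equalizing {F : Sp S} (hF : IsAlgSpace F) (x : Points F) {U₁ U₂ : Over S}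
    (a₁ : (yon S).obj U₁ ⟶ F) (a₂ : (yon S).obj U₂ ⟶ F) (u₁ : ↥U₁.left) (u₂ : ↥U₂.left)
    (b c : U₁ ⟶ U₂) (h₁ : IsElemEtaleNbhd a₁ u₁ x) (h₂ : IsElemEtaleNbhd a₂ u₂ x)
    (hb : (yon S).map b ≫ a₂ = a₁) (hc : (yon S).map c ≫ a₂ = a₁)
    (hbu : b.left u₁ = u₂) (hcu : c.left u₁ = u₂) :
    ∃ (U : Over S) (a : (yon S).obj U ⟶ F) (v : ↥U.left) (k : U ⟶ U₁),
      IsElemEtaleNbhd a v x ∧ (yon S).map k ≫ a₁ = a ∧ k.left v = u₁ ∧ k ≫ b = k ≫ c := by
  let ι₁ : (FieldPt.ofPt a₁ u₁).pt ⟶ U₁ := Over.homMk (U₁.left.fromSpecResidueField u₁) rfl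
  let ι₂ : (FieldPt.ofPt a₂ u₂).pt ⟶ U₂ := Over.homMk (U₂.left.fromSpecResidueField u₂) rfl
  have hp₁ : (FieldPt.ofPt a₁ u₁).toHom = (yon S).map ι₁ ≫ a₁ := FieldPt.toHom_ofPt a₁ u₁
  have hp₂ : (FieldPt.ofPt a₂ u₂).toHom = (yon S).map ι₂ ≫ a₂ := FieldPt.toHom_ofPt a₂ u₂
  -- the two composites `Spec κ(u₁) ⟶ U₂` agree
  have hbpt : (ι₁ ≫ b).left (IsLocalRing.closedPoint _) = u₂ := by
    change b.left ((U₁.left.fromSpecResidueField u₁) (IsLocalRing.closedPoint _)) = u₂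
    rw [Scheme.fromSpecResidueField_apply, hbu]
  have hcpt : (ι₁ ≫ c).left (IsLocalRing.closedPoint _) = u₂ := by
    change c.left ((U₁.left.fromSpecResidueField u₁) (IsLocalRing.closedPoint _)) = u₂
    rw [Scheme.fromSpecResidueField_apply, hcu]
  obtain ⟨β, hβ⟩ : ∃ β : (FieldPt.ofPt a₁ u₁).pt ⟶ (FieldPt.ofPt a₂ u₂).pt, β ≫ ι₂ = ι₁ ≫ b :=
    exists_factor_residueField (ι₁ ≫ b) u₂ hbpt
  obtain ⟨γ, hγ⟩ : ∃ γ : (FieldPt.ofPt a₁ u₁).pt ⟶ (FieldPt.ofPt a₂ u₂).pt, γ ≫ ι₂ = ι₁ ≫ c :=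
    exists_factor_residueField (ι₁ ≫ c) u₂ hcpt
  have hβγ : β = γ := by
    apply (yon S).map_injective
    haveI := h₂.mono
    rw [← cancel_mono (FieldPt.ofPt a₂ u₂).toHom, hp₂, ← Category.assoc, ← Category.assoc,
      ← Functor.map_comp, ← Functor.map_comp]
    rw [hβ, hγ, Functor.map_comp, Functor.map_comp, Category.assoc, Category.assoc, hb, hc]
  have hbc : ι₁ ≫ b = ι₁ ≫ c := by rw [← hβ, ← hγ, hβγ]
  -- the fibre square of `U₂` over `F` and its diagonal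
  have R₂ := h₂.etale.rep
  let π₁ := R₂.fst' a₂
  let π₂ := R₂.snd a₂
  have sqD : IsPullback ((yon S).map π₁) ((yon S).map π₂) a₂ a₂ := R₂.isPullback' a₂
  obtain ⟨Δ, hΔ⟩ := (yon S).map_surjective (sqD.lift (𝟙 _) (𝟙 _) rfl)
  have hΔ1 : Δ ≫ π₁ = 𝟙 _ := by
    apply (yon S).map_injective
    rw [Functor.map_comp, hΔ, sqD.lift_fst, (yon S).map_id]
  have hΔ2 : Δ ≫ π₂ = 𝟙 _ := by
    apply (yon S).map_injective
    rw [Functor.map_comp, hΔ, sqD.lift_snd, (yon S).map_id]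
  haveI hπ₁ : Etale π₁.left :=
    (repWith_yon_map_iff _ _).1 (repWith_fst_of_isPullback _ sqD h₂.etale)
  haveI hΔo : IsOpenImmersion Δ.left :=
    Groth.Agent.Lib.UnramSec2H4.isOpenImmersion_of_section π₁.left Δ.left
      (congrArg (fun t => t.left) hΔ1)
  obtain ⟨bc, hbc0⟩ := (yon S).map_surjective
    (sqD.lift ((yon S).map b) ((yon S).map c) (hb.trans hc.symm))
  have hbc1 : bc ≫ π₁ = b := by
    apply (yon S).map_injective
    rw [Functor.map_comp, hbc0, sqD.lift_fst]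
  have hbc2 : bc ≫ π₂ = c := by
    apply (yon S).map_injective
    rw [Functor.map_comp, hbc0, sqD.lift_snd]
  -- the equalizer as an open subscheme
  let j : pullback bc.left Δ.left ⟶ U₁.left := pullback.fst bc.left Δ.left
  haveI : IsOpenImmersion j := inferInstance
  let E : Over S := Over.mk (j ≫ U₁.hom)
  let k : E ⟶ U₁ := Over.homMk j rfl
  let k' : E ⟶ U₂ := Over.homMk (pullback.snd bc.left Δ.left) (by
    change pullback.snd bc.left Δ.left ≫ U₂.hom = pullback.fst bc.left Δ.left ≫ U₁.hom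
    rw [← Over.w Δ, ← Category.assoc, ← pullback.condition, Category.assoc, Over.w bc])
  have hkk' : k ≫ bc = k' ≫ Δ := Over.OverMorphism.ext pullback.condition
  have hkb : k ≫ b = k' := by
    rw [← hbc1, ← Category.assoc, hkk', Category.assoc, hΔ1, Category.comp_id]
  have hkc : k ≫ c = k' := by
    rw [← hbc2, ← Category.assoc, hkk', Category.assoc, hΔ2, Category.comp_id]
  -- the residue field point lifts to the equalizer
  have hι : ι₁ ≫ bc = (ι₁ ≫ b) ≫ Δ := by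
    apply (yon S).map_injective
    apply sqD.hom_ext
    · rw [← Functor.map_comp, ← Functor.map_comp, Category.assoc, Category.assoc, hbc1, hΔ1,
        Category.comp_id]
    · rw [← Functor.map_comp, ← Functor.map_comp, Category.assoc, Category.assoc, hbc2, hΔ2,
        Category.comp_id, hbc]
  let m : (FieldPt.ofPt a₁ u₁).pt ⟶ E := Over.homMk
    (pullback.lift ι₁.left (ι₁ ≫ b).left (congrArg (fun t => t.left) hι)) (by
      change pullback.lift _ _ _ ≫ pullback.fst bc.left Δ.left ≫ U₁.hom = _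
      rw [pullback.lift_fst_assoc]
      exact Over.w ι₁)
  have hmk : m ≫ k = ι₁ := Over.OverMorphism.ext (pullback.lift_fst _ _ _)
  obtain ⟨v, hv⟩ : ∃ v : ↥E.left, m.left (IsLocalRing.closedPoint _) = v := ⟨_, rfl⟩
  have hkv : k.left v = u₁ := by
    rw [← hv, ← comp_left_apply, hmk]
    exact homMk_fromSpecResidueField_apply u₁ _
  have hke : RepWith @Etale ((yon S).map k) := by
    rw [repWith_yon_map_iff]
    change Etale j
    infer_instance
  refine ⟨E, (yon S).map k ≫ a₁, v, k, ⟨repWith_comp _ hke h₁.etale, ?_, ?_⟩, rfl, hkv,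
    hkb.trans hkc.symm⟩
  · rw [ofPt_comp, hkv]; exact h₁.ofPt_eq
  · exact mono_ofPt_of_lift a₁ u₁ h₁.mono k v m hmk hv

end Groth.Agent.Lib.AlgSpElemNbhdH6
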