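import Mathlib
import Groth.Agent.Lib.CMMor2_helper8
import Groth.Agent.Lib.Chev4_helper8
import Groth.Agent.Lib.TopDimLoc_helper8

set_option autoImplicit false
universe u

namespace Groth.Agent.Lib.CMMorH8

open AlgebraicGeometry CategoryTheory Limits TopologicalSpace Topology

variable {X Y : Scheme.{u}}

set_option maxHeartbeats 1600000 in
/-- Local structure: around a point where the fibre has local dimension `e` there is an affine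
open neighbourhood with a locally quasi-finite morphism to the affine space of dimension `e`
over a given affine open of the base. -/
theorem exists_lqf_affine (f : X ⟶ Y) [LocallyOfFiniteType f] (x : X) (e : ℕ)
    (hx : FlatMor.fibreDimAt f x = e) (U₀ : X.Opens) (hxU₀ : x ∈ U₀)
    (V : Y.Opens) (hV : IsAffineOpen V) (hxV : f x ∈ V) :
    ∃ (U : X.Opens) (_ : IsAffineOpen U) (hUV : U ≤ f ⁻¹ᵁ V)
      (g : (U : Scheme.{u}) ⟶ 𝔸(ULift.{u} (Fin e); (V : Scheme.{u}))),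
      x ∈ U ∧ U ≤ U₀ ∧
      g ≫ (𝔸(ULift.{u} (Fin e); (V : Scheme.{u})) ↘ (V : Scheme.{u})) = f.resLE V U hUV ∧
      LocallyQuasiFinite g := by
  -- the open set where the fibre dimension is at most `e`
  let O : X.Opens := ⟨{u | FlatMor.fibreDimAt f u ≤ (e : WithBot ℕ∞)}, ChevH8.isOpen_fibreDimAt_le f e⟩
  have hxO : x ∈ O := le_of_eq hx
  obtain ⟨U₁, hU₁, hxU₁, hU₁sub⟩ : ∃ U₁ : X.Opens, IsAffineOpen U₁ ∧ x ∈ U₁ ∧
      (U₁ : Set X) ⊆ ((U₀ ⊓ O ⊓ f ⁻¹ᵁ V : X.Opens) : Set X) := by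
    obtain ⟨_, ⟨U₁, hU₁, rfl⟩, hxU₁, hU₁sub⟩ :=
      X.isBasis_affineOpens.exists_subset_of_mem_open
        (show x ∈ ((U₀ ⊓ O ⊓ f ⁻¹ᵁ V : X.Opens) : Set X) from ⟨⟨hxU₀, hxO⟩, hxV⟩)
        (U₀ ⊓ O ⊓ f ⁻¹ᵁ V).2
    exact ⟨U₁, hU₁, hxU₁, hU₁sub⟩
  have hU₁U₀ : U₁ ≤ U₀ := fun u hu => (hU₁sub hu).1.1
  have hU₁O : U₁ ≤ O := fun u hu => (hU₁sub hu).1.2
  have hU₁V : U₁ ≤ f ⁻¹ᵁ V := fun u hu => (hU₁sub hu).2
  haveI : IsAffine (U₁ : Scheme.{u}) := hU₁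
  haveI : IsAffine (V : Scheme.{u}) := hV
  set f₁ : (U₁ : Scheme.{u}) ⟶ (V : Scheme.{u}) := f.resLE V U₁ hU₁V with hf₁
  have hf₁ι : f₁ ≫ V.ι = U₁.ι ≫ f := Scheme.Hom.resLE_comp_ι f hU₁V
  haveI : LocallyOfFiniteType (f₁ ≫ V.ι) := by rw [hf₁ι]; infer_instance
  haveI : LocallyOfFiniteType f₁ := locallyOfFiniteType_of_comp f₁ V.ι
  have hdim₁ : ∀ u₁ : (U₁ : Scheme.{u}), FlatMor.fibreDimAt f₁ u₁ ≤ e := by
    intro u₁
    rw [← FibCohH8.fibreDimAt_etale_local f f₁ U₁.ι V.ι hf₁ι u₁]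
    exact hU₁O u₁.2
  let x₁ : (U₁ : Scheme.{u}) := ⟨x, hxU₁⟩
  have hdimx₁ : FlatMor.fibreDimAt f₁ x₁ = e := by
    rw [← FibCohH8.fibreDimAt_etale_local f f₁ U₁.ι V.ι hf₁ι x₁]
    exact hx
  set y₁ : (V : Scheme.{u}) := f₁ x₁ with hy₁
  have hy₁range : y₁ ∈ Set.range f₁.base := ⟨x₁, rfl⟩
  -- the dimension of the fibre
  have he : topologicalKrullDim ↥(f₁.fiber y₁) = e := by
    apply le_antisymm
    · rw [TopDimLocH8.topDim_le_iff_forall_localDim]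
      intro z
      rw [FieldExtH8.localDim_fiber_eq_fibreDimAt f₁ y₁ z _ rfl]
      exact hdim₁ _
    · have h1 := TopDimLocH8.localDim_le_topDim (f₁.fiber y₁) (f₁.asFiber x₁)
      rw [FieldExtH8.localDim_fiber_eq_fibreDimAt f₁ y₁ (f₁.asFiber x₁) x₁
        (Scheme.Hom.fiberι_asFiber f₁ x₁), hdimx₁] at h1
      exact h1
  obtain ⟨g₁, hg₁, hfin⟩ := Groth.Agent.Lib.NoethNormH8.main3394 f₁ y₁ hy₁range e he
  obtain ⟨-, U₂, hU₂, hlqf⟩ := Groth.Agent.Lib.AffDimH8.main3395 f₁ y₁ e he g₁ hg₁ hfin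
  haveI := hlqf
  haveI : LocallyOfFiniteType (g₁ ≫ (𝔸(ULift.{u} (Fin e); (V : Scheme.{u})) ↘ (V : Scheme.{u}))) := by
    rw [hg₁]; infer_instance
  haveI : LocallyOfFiniteType g₁ := locallyOfFiniteType_of_comp g₁
    (𝔸(ULift.{u} (Fin e); (V : Scheme.{u})) ↘ (V : Scheme.{u}))
  have hx₁U₂ : x₁ ∈ U₂ := hU₂ (show f₁ x₁ = y₁ from rfl)
  -- an affine open neighbourhood of `x₁` inside `U₂`
  obtain ⟨D, hD, hx₁D, hDU₂⟩ : ∃ D : (U₁ : Scheme.{u}).Opens, IsAffineOpen D ∧ x₁ ∈ D ∧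
      (D : Set (U₁ : Scheme.{u})) ⊆ (U₂ : Set (U₁ : Scheme.{u})) := by
    obtain ⟨_, ⟨D, hD, rfl⟩, hx₁D, hsub⟩ :=
      (U₁ : Scheme.{u}).isBasis_affineOpens.exists_subset_of_mem_open hx₁U₂ U₂.2
    exact ⟨D, hD, hx₁D, hsub⟩
  have hUU₁ : U₁.ι ''ᵁ D ≤ U₁ := Scheme.Opens.ι_image_le U₁ D
  have hUV : U₁.ι ''ᵁ D ≤ f ⁻¹ᵁ V := hUU₁.trans hU₁V
  refine ⟨U₁.ι ''ᵁ D, hD.image_of_isOpenImmersion U₁.ι, hUV, X.homOfLE hUU₁ ≫ g₁,
    ⟨x₁, hx₁D, rfl⟩, hUU₁.trans hU₁U₀, ?_, ?_⟩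
  · rw [Category.assoc, hg₁]
    rw [← cancel_mono V.ι, Category.assoc, hf₁ι, Scheme.Hom.resLE_comp_ι, ← Category.assoc,
      Scheme.homOfLE_ι]
  · rw [← Scheme.Hom.quasiFiniteLocus_eq_top_iff]
    ext u
    simp only [TopologicalSpace.Opens.coe_top, Set.mem_univ, iff_true]
    change (X.homOfLE hUU₁ ≫ g₁).QuasiFiniteAt u
    rw [Scheme.Hom.quasiFiniteAt_comp_iff_of_isOpenImmersion]
    obtain ⟨u₂, hu₂, hu₂eq⟩ := u.2
    have hu₂' : X.homOfLE hUU₁ u = u₂ := by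
      apply U₁.ι.isEmbedding.injective
      rw [← Scheme.Hom.comp_apply, Scheme.homOfLE_ι]
      exact hu₂eq.symm
    rw [hu₂']
    have h1 : (U₂.ι ≫ g₁).QuasiFiniteAt (⟨u₂, hDU₂ hu₂⟩ : (U₂ : Scheme.{u})) :=
      Scheme.Hom.quasiFiniteAt _ _
    rw [Scheme.Hom.quasiFiniteAt_comp_iff_of_isOpenImmersion] at h1
    exact h1

end Groth.Agent.Lib.CMMorH8
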