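import Mathlib
import Groth.Agent.Lib.CMMor3_helper8
import Groth.Agent.Lib.CMMor4_helper8
import Groth.Agent.Lib.CentSch_helper1
import Groth.Agent.S0386

set_option autoImplicit false
universe u

namespace Groth.Agent.Lib.CMMorH8

open AlgebraicGeometry CategoryTheory Limits TopologicalSpace Topology
open Groth.Agent.FibStalkCM

variable {X Y : Scheme.{u}}

/-- Cohen–Macaulayness at a point is insensitive to restricting the source to an open. -/
theorem isCMAt_ι_comp_iff (f : X ⟶ Y) [LocallyOfFiniteType f] (U : X.Opens) (u : U) :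
    MoreMor.IsCMAt (U.ι ≫ f) u ↔ MoreMor.IsCMAt f (U.ι u) := by
  constructor
  · intro h
    exact (main9767 U.ι f u (Groth.Agent.FibChainH8.isLocallyNoetherian_fiber _ _) h
      (Flat.stalkMap U.ι u)).2
  · intro h
    exact main9766 U.ι f u (Groth.Agent.FibChainH8.isLocallyNoetherian_fiber _ _)
      (isCMAt_of_lqf U.ι u (Flat.stalkMap U.ι u)) h

/-- Local structure, global target: a locally quasi-finite morphism to the affine space of
dimension `e` over `Y`, near a point where the fibre has local dimension `e`. -/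
theorem exists_lqf_of_fibreDimAt (f : X ⟶ Y) [LocallyOfFiniteType f] (x : X) (e : ℕ)
    (hx : FlatMor.fibreDimAt f x = e) (U₀ : X.Opens) (hxU₀ : x ∈ U₀) :
    ∃ (U : X.Opens) (g : (U : Scheme.{u}) ⟶ 𝔸(ULift.{u} (Fin e); Y)),
      x ∈ U ∧ U ≤ U₀ ∧ g ≫ (𝔸(ULift.{u} (Fin e); Y) ↘ Y) = U.ι ≫ f ∧ LocallyQuasiFinite g := by
  obtain ⟨V, hV, hfxV⟩ : ∃ V : Y.Opens, IsAffineOpen V ∧ f x ∈ V := by
    obtain ⟨_, ⟨V, hV, rfl⟩, hfxV, -⟩ :=
      Y.isBasis_affineOpens.exists_subset_of_mem_open (Set.mem_univ (f x)) isOpen_univ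
    exact ⟨V, hV, hfxV⟩
  obtain ⟨U, -, hUV, g, hxU, hUU₀, hg, hlqf⟩ := exists_lqf_affine f x e hx U₀ hxU₀ V hV hfxV
  haveI := hlqf
  refine ⟨U, g ≫ AffineSpace.map _ V.ι, hxU, hUU₀, ?_, ?_⟩
  · rw [Category.assoc, AffineSpace.map_over, reassoc_of% hg, Scheme.Hom.resLE_comp_ι]
  · haveI : LocallyQuasiFinite (AffineSpace.map (ULift.{u} (Fin e)) V.ι) :=
      MorphismProperty.of_isPullback (P := @LocallyQuasiFinite)
        (AffineSpace.isPullback_map (n := ULift.{u} (Fin e)) V.ι).flip inferInstance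
    infer_instance

/-- **Openness of the Cohen–Macaulay locus** of a morphism locally of finite presentation. -/
theorem isOpen_isCMAt (f : X ⟶ Y) [LocallyOfFinitePresentation f] :
    IsOpen {x : X | MoreMor.IsCMAt f x} := by
  rw [isOpen_iff_forall_mem_open]
  intro x hx
  obtain ⟨d, hd⟩ := EquidimIrrH8.exists_nat_fibreDimAt f x
  obtain ⟨U, g, hxU, -, hg, hlqf⟩ := exists_lqf_of_fibreDimAt f x d hd ⊤ trivial
  haveI := hlqf
  haveI hfp : LocallyOfFinitePresentation (g ≫ (𝔸(ULift.{u} (Fin d); Y) ↘ Y)) := by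
    rw [hg]; infer_instance
  haveI : LocallyOfFiniteType (g ≫ (𝔸(ULift.{u} (Fin d); Y) ↘ Y)) := inferInstance
  haveI : LocallyOfFiniteType g :=
    locallyOfFiniteType_of_comp g (𝔸(ULift.{u} (Fin d); Y) ↘ Y)
  haveI : LocallyOfFinitePresentation g :=
    Groth.Agent.Lib.CentSchH1.locallyOfFinitePresentation_of_comp g (𝔸(ULift.{u} (Fin d); Y) ↘ Y)
  let x' : (U : Scheme.{u}) := ⟨x, hxU⟩
  have hcm' : MoreMor.IsCMAt (g ≫ (𝔸(ULift.{u} (Fin d); Y) ↘ Y)) x' := by
    rw [hg]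
    exact (isCMAt_ι_comp_iff f U x').mpr hx
  have hd' : FlatMor.fibreDimAt (g ≫ (𝔸(ULift.{u} (Fin d); Y) ↘ Y)) x' = d := by
    rw [hg, Groth.Agent.Lib.EquidimAtH8.fibreDimAt_ι_comp f U x']
    exact hd
  have hflx : (g.stalkMap x').hom.Flat := flat_stalkMap_of_isCMAt d g x' hcm' hd'
  have hopen := Groth.Agent.S0386.result g
  -- the flat locus of `g`, as an open of `X`
  refine ⟨U.ι '' {u : (U : Scheme.{u}) | (g.stalkMap u).hom.Flat}, ?_, ?_, ⟨x', hflx, rfl⟩⟩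
  · rintro _ ⟨u, hu, rfl⟩
    have h1 : MoreMor.IsCMAt (g ≫ (𝔸(ULift.{u} (Fin d); Y) ↘ Y)) u :=
      isCMAt_of_flat_lqf d g u hu
    rw [hg] at h1
    exact (isCMAt_ι_comp_iff f U u).mp h1
  · exact U.ι.isOpenEmbedding.isOpenMap _ hopen

end Groth.Agent.Lib.CMMorH8
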