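import Mathlib
import Groth.Agent.Lib.CMMor5_helper8
import Groth.Agent.Lib.FibMapFlat_helper5
import Groth.Agent.Lib.CodimZero_helper8

set_option autoImplicit false
universe u

namespace Groth.Agent.Lib.CMMorH8

open AlgebraicGeometry CategoryTheory Limits TopologicalSpace Topology

variable {X Y : Scheme.{u}}

/-- the Cohen–Macaulay locus of a flat morphism locally of finite type is dense in every fibre. -/
theorem dense_isCMAt_fiber (f : X ⟶ Y) [Flat f] [LocallyOfFiniteType f] (s : Y) :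
    Dense ((f.fiberι s) ⁻¹' {x : X | MoreMor.IsCMAt f x}) := by
  haveI := Groth.Agent.FibChainH8.isLocallyNoetherian_fiber f s
  rw [dense_iff_inter_open]
  rintro W hW ⟨w, hw⟩
  obtain ⟨η, hηw, hη⟩ := CodimZeroH8.exists_isMax_ge w
  refine ⟨η, hηw.mem_open hW hw, ?_⟩
  refine ⟨Flat.stalkMap f _, ?_⟩
  obtain ⟨e⟩ := Groth.Agent.FibMapFlat.fiberStalk_transport_equiv f s η _ rfl
  haveI : LocCoh.IsCohenMacaulayLocalRing ((f.fiber s).presheaf.stalk η) := by
    apply Groth.Agent.FlatCM.isCMLocalRing_of_dim_zero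
    rw [AlgebraicGeometry.ringKrullDim_stalk_eq_coheight, hη]
    rfl
  exact Groth.Agent.FlatCM.isCMLocalRing_of_ringEquiv e.symm

end Groth.Agent.Lib.CMMorH8
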