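import Mathlib
import Groth.Agent.Lib.CMMor6_helper8

set_option autoImplicit false
universe u

namespace Groth.Agent.Lib.CMMorH8

open AlgebraicGeometry CategoryTheory Limits TopologicalSpace Topology

variable {X Y : Scheme.{u}}

/-- S4949: pointwise characterisation of Cohen–Macaulay points. -/
theorem isCMAt_iff_exists_lqf_flatAt (f : X ⟶ Y) [LocallyOfFinitePresentation f] (x : X) :
    MoreMor.IsCMAt f x ↔ ∃ (n : ℕ) (U : X.Opens) (hx : x ∈ U)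
      (g : (U : Scheme.{u}) ⟶ 𝔸(ULift.{u} (Fin n); Y)),
      g ≫ (𝔸(ULift.{u} (Fin n); Y) ↘ Y) = U.ι ≫ f ∧ LocallyQuasiFinite g ∧
        (g.stalkMap ⟨x, hx⟩).hom.Flat := by
  constructor
  · intro hx
    obtain ⟨d, hd⟩ := EquidimIrrH8.exists_nat_fibreDimAt f x
    obtain ⟨U, g, hxU, -, hg, hlqf⟩ := exists_lqf_of_fibreDimAt f x d hd ⊤ trivial
    haveI := hlqf
    haveI hfp : LocallyOfFinitePresentation (g ≫ (𝔸(ULift.{u} (Fin d); Y) ↘ Y)) := by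
      rw [hg]; infer_instance
    haveI : LocallyOfFiniteType (g ≫ (𝔸(ULift.{u} (Fin d); Y) ↘ Y)) := inferInstance
    haveI : LocallyOfFiniteType g :=
      locallyOfFiniteType_of_comp g (𝔸(ULift.{u} (Fin d); Y) ↘ Y)
    let x' : (U : Scheme.{u}) := ⟨x, hxU⟩
    have hcm' : MoreMor.IsCMAt (g ≫ (𝔸(ULift.{u} (Fin d); Y) ↘ Y)) x' := by
      rw [hg]
      exact (isCMAt_ι_comp_iff f U x').mpr hx
    have hd' : FlatMor.fibreDimAt (g ≫ (𝔸(ULift.{u} (Fin d); Y) ↘ Y)) x' = d := by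
      rw [hg, Groth.Agent.Lib.EquidimAtH8.fibreDimAt_ι_comp f U x']
      exact hd
    exact ⟨d, U, hxU, g, hg, hlqf, flat_stalkMap_of_isCMAt d g x' hcm' hd'⟩
  · rintro ⟨n, U, hxU, g, hg, hlqf, hfl⟩
    haveI := hlqf
    haveI : LocallyOfFiniteType (g ≫ (𝔸(ULift.{u} (Fin n); Y) ↘ Y)) := by
      rw [hg]; infer_instance
    haveI : LocallyOfFiniteType g :=
      locallyOfFiniteType_of_comp g (𝔸(ULift.{u} (Fin n); Y) ↘ Y)
    have h1 : MoreMor.IsCMAt (g ≫ (𝔸(ULift.{u} (Fin n); Y) ↘ Y)) ⟨x, hxU⟩ :=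
      isCMAt_of_flat_lqf n g ⟨x, hxU⟩ hfl
    rw [hg] at h1
    exact (isCMAt_ι_comp_iff f U ⟨x, hxU⟩).mp h1

/-- S1343. -/
theorem isCMAt_iff_exists_flat_lqf (f : X ⟶ Y) [LocallyOfFinitePresentation f] (x : X) (d : ℕ)
    (hd : FlatMor.fibreDimAt f x = d) :
    MoreMor.IsCMAt f x ↔ ∃ (U : X.Opens) (g : (U : Scheme.{u}) ⟶ 𝔸(ULift.{u} (Fin d); Y)),
      x ∈ U ∧ g ≫ (𝔸(ULift.{u} (Fin d); Y) ↘ Y) = U.ι ≫ f ∧ Flat g ∧ LocallyQuasiFinite g := by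
  constructor
  · intro hx
    obtain ⟨U, g, hxU, -, hg, hlqf⟩ := exists_lqf_of_fibreDimAt f x d hd ⊤ trivial
    haveI := hlqf
    haveI hfp : LocallyOfFinitePresentation (g ≫ (𝔸(ULift.{u} (Fin d); Y) ↘ Y)) := by
      rw [hg]; infer_instance
    haveI : LocallyOfFiniteType (g ≫ (𝔸(ULift.{u} (Fin d); Y) ↘ Y)) := inferInstance
    haveI : LocallyOfFiniteType g :=
      locallyOfFiniteType_of_comp g (𝔸(ULift.{u} (Fin d); Y) ↘ Y)
    haveI : LocallyOfFinitePresentation g :=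
      Groth.Agent.Lib.CentSchH1.locallyOfFinitePresentation_of_comp g
        (𝔸(ULift.{u} (Fin d); Y) ↘ Y)
    let x' : (U : Scheme.{u}) := ⟨x, hxU⟩
    have hcm' : MoreMor.IsCMAt (g ≫ (𝔸(ULift.{u} (Fin d); Y) ↘ Y)) x' := by
      rw [hg]
      exact (isCMAt_ι_comp_iff f U x').mpr hx
    have hd' : FlatMor.fibreDimAt (g ≫ (𝔸(ULift.{u} (Fin d); Y) ↘ Y)) x' = d := by
      rw [hg, Groth.Agent.Lib.EquidimAtH8.fibreDimAt_ι_comp f U x']
      exact hd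
    have hflx : (g.stalkMap x').hom.Flat := flat_stalkMap_of_isCMAt d g x' hcm' hd'
    let W : (U : Scheme.{u}).Opens :=
      ⟨{u : (U : Scheme.{u}) | (g.stalkMap u).hom.Flat}, Groth.Agent.S0386.result g⟩
    have hWU : U.ι ''ᵁ W ≤ U := Scheme.Opens.ι_image_le U W
    refine ⟨U.ι ''ᵁ W, X.homOfLE hWU ≫ g, ⟨x', hflx, rfl⟩, ?_, ?_, inferInstance⟩
    · rw [Category.assoc, hg, ← Category.assoc, Scheme.homOfLE_ι]
    · apply Flat.of_stalkMap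
      intro u
      rw [Scheme.Hom.stalkMap_comp]
      refine RingHom.Flat.comp ?_ ?_
      · obtain ⟨u₂, hu₂, hu₂eq⟩ := u.2
        have hu₂' : X.homOfLE hWU u = u₂ := by
          apply U.ι.isEmbedding.injective
          rw [← Scheme.Hom.comp_apply, Scheme.homOfLE_ι]
          exact hu₂eq.symm
        have hmem : X.homOfLE hWU u ∈ W := hu₂'.symm ▸ hu₂
        exact hmem
      · exact Flat.stalkMap (X.homOfLE hWU) u
  · rintro ⟨U, g, hxU, hg, hfl, hlqf⟩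
    haveI := hlqf
    haveI := hfl
    haveI : LocallyOfFiniteType (g ≫ (𝔸(ULift.{u} (Fin d); Y) ↘ Y)) := by
      rw [hg]; infer_instance
    haveI : LocallyOfFiniteType g :=
      locallyOfFiniteType_of_comp g (𝔸(ULift.{u} (Fin d); Y) ↘ Y)
    have h1 : MoreMor.IsCMAt (g ≫ (𝔸(ULift.{u} (Fin d); Y) ↘ Y)) ⟨x, hxU⟩ :=
      isCMAt_of_flat_lqf d g ⟨x, hxU⟩ (Flat.stalkMap g _)
    rw [hg] at h1
    exact (isCMAt_ι_comp_iff f U ⟨x, hxU⟩).mp h1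

end Groth.Agent.Lib.CMMorH8
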