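import Mathlib
import Groth.Agent.Lib.CMMor7_helper8

set_option autoImplicit false
universe u

namespace Groth.Agent.Lib.CMMorH8

open AlgebraicGeometry CategoryTheory Limits TopologicalSpace Topology IsLocalRing
open Groth.Agent.FibStalkDimH8 FibRedH8 Groth.Agent.FibStalkIso Groth.Agent.FibStalkCM

set_option maxHeartbeats 1600000 in
/-- additivity of the dimension of the fibre local rings along a morphism flat at the point. -/
theorem fibCoh_comp_of_flat {U V Y : Scheme.{u}} (g : U ⟶ V) (k : V ⟶ Y)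
    [LocallyOfFiniteType g] [LocallyOfFiniteType k] (x : U) (hfl : (g.stalkMap x).hom.Flat) :
    FibCohH8.fibCoh (g ≫ k) x = FibCohH8.fibCoh k (g x) + FibCohH8.fibCoh g x := by
  letI algRT : Algebra (Y.presheaf.stalk (k (g x))) (V.presheaf.stalk (g x)) :=
    (k.stalkMap (g x)).hom.toAlgebra
  letI algTB : Algebra (V.presheaf.stalk (g x)) (U.presheaf.stalk x) :=
    (g.stalkMap x).hom.toAlgebra
  haveI : IsLocalHom (algebraMap (Y.presheaf.stalk (k (g x))) (V.presheaf.stalk (g x))) :=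
    inferInstanceAs (IsLocalHom (k.stalkMap (g x)).hom)
  haveI : IsLocalHom (algebraMap (V.presheaf.stalk (g x)) (U.presheaf.stalk x)) :=
    inferInstanceAs (IsLocalHom (g.stalkMap x).hom)
  haveI : Module.Flat (V.presheaf.stalk (g x)) (U.presheaf.stalk x) := hfl
  have hI : EGA4.mB (Y.presheaf.stalk (k (g x))) (V.presheaf.stalk (g x)) ≤
      maximalIdeal (V.presheaf.stalk (g x)) :=
    IsLocalRing.map_maximalIdeal_le (algebraMap _ _)
  -- the three fibre rings
  have h2 : fibIdeal (g ≫ k) x = (fibIdeal k (g x)).map (g.stalkMap x).hom := fibIdeal_comp g k x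
  let eB : (U.presheaf.stalk x ⧸
      (EGA4.mB (Y.presheaf.stalk (k (g x))) (V.presheaf.stalk (g x))).map
          (algebraMap (V.presheaf.stalk (g x)) (U.presheaf.stalk x))) ≃+*
      ((g ≫ k).fiber ((g ≫ k) x)).presheaf.stalk ((g ≫ k).asFiber x) :=
    (Ideal.quotEquivOfEq h2).symm.trans (fibStalkEquiv (g ≫ k) x)
  let eT : (V.presheaf.stalk (g x) ⧸
      EGA4.mB (Y.presheaf.stalk (k (g x))) (V.presheaf.stalk (g x))) ≃+*
      (k.fiber (k (g x))).presheaf.stalk (k.asFiber (g x)) := fibStalkEquiv k (g x)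
  let eF : (U.presheaf.stalk x ⧸ EGA4.mB (V.presheaf.stalk (g x)) (U.presheaf.stalk x)) ≃+*
      (g.fiber (g x)).presheaf.stalk (g.asFiber x) := fibStalkEquiv g x
  haveI : LocallyOfFiniteType (g ≫ k) := inferInstance
  haveI := Groth.Agent.FibChainH8.isLocallyNoetherian_fiber (g ≫ k) ((g ≫ k) x)
  haveI := Groth.Agent.FibChainH8.isLocallyNoetherian_fiber k (k (g x))
  haveI : IsNoetherianRing (U.presheaf.stalk x ⧸
      (EGA4.mB (Y.presheaf.stalk (k (g x))) (V.presheaf.stalk (g x))).map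
          (algebraMap (V.presheaf.stalk (g x)) (U.presheaf.stalk x))) :=
    isNoetherianRing_of_ringEquiv _ eB.symm
  haveI : IsNoetherianRing (V.presheaf.stalk (g x) ⧸
      EGA4.mB (Y.presheaf.stalk (k (g x))) (V.presheaf.stalk (g x))) :=
    isNoetherianRing_of_ringEquiv _ eT.symm
  haveI : IsLocalRing (V.presheaf.stalk (g x) ⧸
      EGA4.mB (Y.presheaf.stalk (k (g x))) (V.presheaf.stalk (g x))) :=
    Groth.Agent.FibDim.isLocalRing_quot hI
  haveI : IsLocalRing (U.presheaf.stalk x ⧸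
      (EGA4.mB (Y.presheaf.stalk (k (g x))) (V.presheaf.stalk (g x))).map
          (algebraMap (V.presheaf.stalk (g x)) (U.presheaf.stalk x))) :=
    Groth.Agent.FibDim.isLocalRing_quot (Groth.Agent.FibDim.map_le_maximalIdeal hI)
  haveI := Groth.Agent.FibDim.isLocalHom_quot (B := U.presheaf.stalk x) hI
  haveI : Module.Flat (V.presheaf.stalk (g x) ⧸
      EGA4.mB (Y.presheaf.stalk (k (g x))) (V.presheaf.stalk (g x)))
      (U.presheaf.stalk x ⧸
      (EGA4.mB (Y.presheaf.stalk (k (g x))) (V.presheaf.stalk (g x))).map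
          (algebraMap (V.presheaf.stalk (g x)) (U.presheaf.stalk x))) :=
    Groth.Agent.Lib.FSNilpH3.flat_quot _
  have hadd := Groth.Agent.FlatCM.dim_eq_add
    (V.presheaf.stalk (g x) ⧸ EGA4.mB (Y.presheaf.stalk (k (g x))) (V.presheaf.stalk (g x)))
    (U.presheaf.stalk x ⧸
      (EGA4.mB (Y.presheaf.stalk (k (g x))) (V.presheaf.stalk (g x))).map
          (algebraMap (V.presheaf.stalk (g x)) (U.presheaf.stalk x)))
  obtain ⟨eq⟩ := fibRing_quot_equiv' (V.presheaf.stalk (g x)) (U.presheaf.stalk x)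
    (EGA4.mB (Y.presheaf.stalk (k (g x))) (V.presheaf.stalk (g x))) hI
  rw [ringKrullDim_eq_of_ringEquiv eq, ringKrullDim_eq_of_ringEquiv eB,
    ringKrullDim_eq_of_ringEquiv eT] at hadd
  have hF : ringKrullDim (EGA4.FibRing (V.presheaf.stalk (g x)) (U.presheaf.stalk x)) = _ :=
    ringKrullDim_eq_of_ringEquiv eF
  rw [hF, FibCohH8.stalk_fiber_eq_fibCoh, FibCohH8.stalk_fiber_eq_fibCoh,
    FibCohH8.stalk_fiber_eq_fibCoh] at hadd
  exact_mod_cast hadd

/-- additivity of the fibre dimension at a point along a morphism flat at the point. -/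
theorem fibreDimAt_comp_of_flat {U V Y : Scheme.{u}} (g : U ⟶ V) (k : V ⟶ Y)
    [LocallyOfFiniteType g] [LocallyOfFiniteType k] (x : U) (hfl : (g.stalkMap x).hom.Flat) :
    FlatMor.fibreDimAt (g ≫ k) x = FlatMor.fibreDimAt k (g x) + FlatMor.fibreDimAt g x := by
  rw [FibCohH8.fibreDimAt_eq, FibCohH8.fibreDimAt_eq, FibCohH8.fibreDimAt_eq,
    fibCoh_comp_of_flat g k x hfl, ResTrdegH8.resTrdeg_comp]
  obtain ⟨n, hn⟩ := Groth.Agent.ResQuot2H8.exists_trdeg_nat k (g x)
  have hn' : Dual3.resTrdeg k (g x) = n := hn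
  obtain ⟨m, hm⟩ := Groth.Agent.ResQuot2H8.exists_trdeg_nat g x
  have hm' : Dual3.resTrdeg g x = m := hm
  rw [hn', hm']
  have : ((n : Cardinal.{u}) + (m : Cardinal.{u})) = ((n + m : ℕ) : Cardinal.{u}) := by
    push_cast; rfl
  rw [this, Cardinal.toENat_nat, Cardinal.toENat_nat, Cardinal.toENat_nat]
  push_cast
  generalize ((FibCohH8.fibCoh k (g x) : ℕ∞) : WithBot ℕ∞) = a
  generalize ((FibCohH8.fibCoh g x : ℕ∞) : WithBot ℕ∞) = b
  rw [add_add_add_comm]

end Groth.Agent.Lib.CMMorH8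

namespace Groth.Agent.Lib.CMMorH8

open AlgebraicGeometry CategoryTheory Limits TopologicalSpace Topology

/-- S9374: the fibre dimension of a Cohen–Macaulay morphism is locally constant. -/
theorem isLocallyConstant_fibreDimAt {X S : Scheme.{u}} (f : X ⟶ S)
    [LocallyOfFinitePresentation f] (hcm : ∀ x : X, MoreMor.IsCMAt f x) :
    IsLocallyConstant (fun x : ↑X => FlatMor.fibreDimAt f x) := by
  rw [IsLocallyConstant.iff_exists_open]
  intro x
  obtain ⟨d, hd⟩ := EquidimIrrH8.exists_nat_fibreDimAt f x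
  obtain ⟨U, g, hxU, hg, hfl, hlqf⟩ := (isCMAt_iff_exists_flat_lqf f x d hd).mp (hcm x)
  haveI := hlqf
  haveI := hfl
  haveI : LocallyOfFiniteType (g ≫ (𝔸(ULift.{u} (Fin d); S) ↘ S)) := by
    rw [hg]; infer_instance
  haveI : LocallyOfFiniteType g :=
    locallyOfFiniteType_of_comp g (𝔸(ULift.{u} (Fin d); S) ↘ S)
  refine ⟨U, U.2, hxU, ?_⟩
  intro x' hx'
  change FlatMor.fibreDimAt f x' = FlatMor.fibreDimAt f x
  rw [hd]
  have h1 := fibreDimAt_comp_of_flat g (𝔸(ULift.{u} (Fin d); S) ↘ S) ⟨x', hx'⟩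
    (Flat.stalkMap g _)
  rw [Groth.Agent.Lib.EquidimAtH8.fibreDimAt_affineSpace,
    FibCohH8.fibreDimAt_eq_zero_of_lqf g (⟨x', hx'⟩ : (U : Scheme.{u})), add_zero] at h1
  have h2 := Groth.Agent.Lib.EquidimAtH8.fibreDimAt_ι_comp f U (⟨x', hx'⟩ : (U : Scheme.{u}))
  have h3 : FlatMor.fibreDimAt f x' = FlatMor.fibreDimAt (U.ι ≫ f) (⟨x', hx'⟩ : (U : Scheme.{u})) :=
    h2.symm
  rw [h3, ← hg]
  exact h1

end Groth.Agent.Lib.CMMorH8
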