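import Mathlib
import Groth.Agent.Lib.CMMor8_helper8
import Groth.Agent.Lib.CMMor6_helper8

/-!
# Open strata of constant fibre dimension in the CM locus (helper8)

APPEND-ONLY once landed.
-/

set_option autoImplicit false
universe u

namespace Groth.Agent.Lib.CMMorH8

open AlgebraicGeometry CategoryTheory Limits TopologicalSpace Topology

variable {X S : Scheme.{u}}

/-- The locus where `f` is CM with fibre dimension `d` is open. -/
theorem isOpen_isCMAt_fibreDimAt_eq (f : X ⟶ S) [LocallyOfFinitePresentation f] (d : WithBot ℕ∞) :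
    IsOpen {x : X | MoreMor.IsCMAt f x ∧ FlatMor.fibreDimAt f x = d} := by
  set W : X.Opens := ⟨{x | MoreMor.IsCMAt f x}, isOpen_isCMAt f⟩ with hW
  have hcm : ∀ w : (W : Scheme.{u}), MoreMor.IsCMAt (W.ι ≫ f) w := fun w =>
    (isCMAt_ι_comp_iff f W w).2 w.2
  have hlc := isLocallyConstant_fibreDimAt (W.ι ≫ f) hcm
  have hop : IsOpen {w : (W : Scheme.{u}) | FlatMor.fibreDimAt (W.ι ≫ f) w = d} :=
    hlc.isOpen_fiber d
  have himg := W.ι.isOpenEmbedding.isOpenMap _ hop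
  convert himg using 1
  ext x
  constructor
  · rintro ⟨h1, h2⟩
    refine ⟨(⟨x, h1⟩ : (W : Scheme.{u})), ?_, rfl⟩
    show FlatMor.fibreDimAt (W.ι ≫ f) _ = d
    rw [Groth.Agent.Lib.EquidimAtH8.fibreDimAt_ι_comp]
    exact h2
  · rintro ⟨w, hw, rfl⟩
    refine ⟨w.2, ?_⟩
    have : FlatMor.fibreDimAt (W.ι ≫ f) w = d := hw
    rw [Groth.Agent.Lib.EquidimAtH8.fibreDimAt_ι_comp] at this
    exact this

theorem main9757 (f : X ⟶ S) [Flat f] [LocallyOfFinitePresentation f] :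
    ∃ U : ℕ → X.Opens, (∀ s : S, Dense ((f.fiberι s) ⁻¹' ((⨆ d, U d : X.Opens) : Set ↑X))) ∧
      ∀ (d : ℕ) (x : ↑X), x ∈ U d → FlatMor.fibreDimAt f x = d := by
  refine ⟨fun d => ⟨{x : X | MoreMor.IsCMAt f x ∧ FlatMor.fibreDimAt f x = (d : WithBot ℕ∞)},
    isOpen_isCMAt_fibreDimAt_eq f _⟩, ?_, ?_⟩
  · intro s
    refine (dense_isCMAt_fiber f s).mono ?_
    intro z hz
    obtain ⟨D, hD⟩ := EquidimIrrH8.exists_nat_fibreDimAt f (f.fiberι s z)
    have : f.fiberι s z ∈ ((⨆ d : ℕ, (⟨{x : X | MoreMor.IsCMAt f x ∧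
        FlatMor.fibreDimAt f x = (d : WithBot ℕ∞)}, isOpen_isCMAt_fibreDimAt_eq f _⟩ : X.Opens) :
          X.Opens) : Set X) := by
      rw [Opens.coe_iSup]
      exact Set.mem_iUnion.2 ⟨D, hz, hD⟩
    exact this
  · intro d x hx
    exact hx.2

end Groth.Agent.Lib.CMMorH8
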