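import Mathlib
import Groth.Agent.Lib.CMMor12_helper8
import Groth.Agent.Lib.OpenAtEq_helper8
import Groth.Agent.Lib.FibGen_helper8
import Groth.Agent.Lib.FieldExt3_helper8
import Groth.Agent.Lib.TopDimLoc_helper8

/-!
# Fibre-generic points are CM points; semicontinuity of fibre dimension on the base (helper8)

APPEND-ONLY once landed.
-/

set_option autoImplicit false
universe u

namespace Groth.Agent.Lib.CMMorH8

open AlgebraicGeometry CategoryTheory Limits TopologicalSpace Topology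

variable {X S : Scheme.{u}}

/-- A point which is generic in its fibre and at which `f` is flat is a CM point. -/
theorem isCMAt_of_isMax_fibre (f : X ⟶ S) [LocallyOfFiniteType f] (x : X)
    (hfl : (f.stalkMap x).hom.Flat)
    (hmax : ∀ x'' : X, f x'' = f x → x'' ⤳ x → x'' = x) : MoreMor.IsCMAt f x := by
  refine ⟨hfl, ?_⟩
  haveI := Groth.Agent.FibChainH8.isLocallyNoetherian_fiber f (f x)
  apply Groth.Agent.FlatCM.isCMLocalRing_of_dim_zero
  rw [FibCohH8.stalk_fiber_eq_fibCoh, OpenAtEqH8.fibCoh_eq_zero_of_isMax f x hmax]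
  rfl

/-- Every point has a fibre-generic generization in its fibre. -/
theorem exists_fibre_generic₀ (f : X ⟶ S) (z : X) :
    ∃ x' : X, f x' = f z ∧ x' ⤳ z ∧ (∀ x'' : X, f x'' = f z → x'' ⤳ x' → x'' = x') := by
  set F := f.fiber (f z) with hF
  set ζ₀ : F := f.asFiber z with hζ₀
  have hZ := irreducibleComponent_mem_irreducibleComponents ζ₀
  obtain ⟨ζ, hζcl, hζmax⟩ :=
    Groth.Agent.Lib.EquidimAtH8.exists_generic_of_mem_irreducibleComponents _ hZ
  have hsp : ζ ⤳ ζ₀ := by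
    rw [specializes_iff_mem_closure, hζcl]
    exact mem_irreducibleComponent
  refine ⟨f.fiberι (f z) ζ, Groth.Agent.FibRes2H8.fiberι_mem f (f z) ζ, ?_, ?_⟩
  · have := hsp.map (f.fiberι (f z)).continuous
    rwa [hζ₀, Scheme.Hom.fiberι_asFiber] at this
  · intro x'' hx'' hsp''
    have hmem : x'' ∈ Set.range (f.fiberι (f z)) := by
      rw [Scheme.Hom.range_fiberι]; exact hx''
    obtain ⟨ζ'', rfl⟩ := hmem
    have := ((f.fiberι (f z)).isEmbedding.isInducing.specializes_iff).mp hsp''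
    rw [hζmax ζ'' this]

/-- Every point has a fibre-generic generization with at least the same fibre dimension. -/
theorem exists_fibre_generic (f : X ⟶ S) [LocallyOfFiniteType f] (z : X) :
    ∃ x' : X, f x' = f z ∧ x' ⤳ z ∧ (∀ x'' : X, f x'' = f z → x'' ⤳ x' → x'' = x') ∧
      FlatMor.fibreDimAt f z ≤ FlatMor.fibreDimAt f x' := by
  obtain ⟨n, hn⟩ := EquidimIrrH8.exists_nat_fibreDimAt f z
  by_contra hcon
  push Not at hcon
  obtain ⟨x₀, h1, h2, h3⟩ := exists_fibre_generic₀ f z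
  obtain ⟨m, hm⟩ := EquidimIrrH8.exists_nat_fibreDimAt f x₀
  have h0 := hcon x₀ h1 h2 h3
  rw [hn, hm] at h0
  have hmn : m < n := by exact_mod_cast h0
  obtain ⟨k, rfl⟩ : ∃ k, n = k + 1 := ⟨n - 1, by omega⟩
  have hle : FlatMor.fibreDimAt f z ≤ ((k : ℕ∞) : WithBot ℕ∞) := by
    apply FibGenH8.fibreDimAt_le_of_fibre_generic f z k
    intro x' hx' hsp hmax
    have hlt := hcon x' hx' hsp hmax
    have hmax' : ∀ x'' : X, f x'' = f x' → x'' ⤳ x' → x'' = x' := fun x'' hx'' =>
      hmax x'' (hx''.trans hx')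
    rw [hn, FibCohH8.fibreDimAt_eq f x', OpenAtEqH8.fibCoh_eq_zero_of_isMax f x' hmax'] at hlt
    have h5 : ((Cardinal.toENat (Dual3.resTrdeg f x') : ℕ∞) : WithBot ℕ∞) <
        (((k + 1 : ℕ) : ℕ∞) : WithBot ℕ∞) := by simpa using hlt
    have h6 : Cardinal.toENat (Dual3.resTrdeg f x') < ((k + 1 : ℕ) : ℕ∞) :=
      WithBot.coe_lt_coe.1 h5
    have h7 : Cardinal.toENat (Dual3.resTrdeg f x') < (k : ℕ∞) + 1 := by
      simpa using h6
    exact Order.le_of_lt_add_one h7
  rw [hn] at hle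
  have : ((k + 1 : ℕ) : WithBot ℕ∞) ≤ ((k : ℕ) : WithBot ℕ∞) := by exact_mod_cast hle
  have : k + 1 ≤ k := by exact_mod_cast this
  omega

end Groth.Agent.Lib.CMMorH8
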