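import Mathlib
import Groth.Agent.Lib.CMMor13_helper8

set_option autoImplicit false
universe u

namespace Groth.Agent.Lib.CMMorH8

open AlgebraicGeometry CategoryTheory Limits TopologicalSpace Topology

variable {X S : Scheme.{u}}

theorem main9739 (f : X ⟶ S) [Flat f] [LocallyOfFinitePresentation f]
    (x x' : X) (hsp : x' ⤳ x)
    (hgen : ∃ Z ∈ irreducibleComponents ↥(f.fiber (f x)), IsGenericPoint (f.asFiber x) Z) :
    FlatMor.fibreDimAt f x' = FlatMor.fibreDimAt f x := by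
  obtain ⟨Z, hZ, hgenZ⟩ := hgen
  have hζmax : ∀ z : ↥(f.fiber (f x)), z ⤳ f.asFiber x → z = f.asFiber x := by
    apply (Groth.Agent.SchFTH8.closure_mem_irreducibleComponents_iff (f.asFiber x)).mp
    rw [hgenZ.def]; exact hZ
  have hmax : ∀ x'' : X, f x'' = f x → x'' ⤳ x → x'' = x := by
    intro x'' hx'' hsp''
    have hmem : x'' ∈ Set.range (f.fiberι (f x)) := by
      rw [Scheme.Hom.range_fiberι]; exact hx''
    obtain ⟨ζ'', rfl⟩ := hmem
    have h1 : f.fiberι (f x) ζ'' ⤳ f.fiberι (f x) (f.asFiber x) := by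
      rw [Scheme.Hom.fiberι_asFiber]; exact hsp''
    have := ((f.fiberι (f x)).isEmbedding.isInducing.specializes_iff).mp h1
    rw [hζmax ζ'' this, Scheme.Hom.fiberι_asFiber]
  have hcm : MoreMor.IsCMAt f x := isCMAt_of_isMax_fibre f x (Flat.stalkMap f x) hmax
  have hopen := isOpen_isCMAt_fibreDimAt_eq f (FlatMor.fibreDimAt f x)
  have hx : x ∈ {y : X | MoreMor.IsCMAt f y ∧ FlatMor.fibreDimAt f y = FlatMor.fibreDimAt f x} :=
    ⟨hcm, rfl⟩
  exact (hsp.mem_open hopen hx).2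

theorem main0404 (f : X ⟶ S) [Flat f] [LocallyOfFinitePresentation f] (c : WithBot ℕ∞) :
    IsOpen {s : S | c < topologicalKrullDim (f.fiber s)} := by
  have hop : IsOpen {x : X | MoreMor.IsCMAt f x ∧ c < FlatMor.fibreDimAt f x} := by
    have : {x : X | MoreMor.IsCMAt f x ∧ c < FlatMor.fibreDimAt f x} =
        ⋃ d : {d : WithBot ℕ∞ // c < d},
          {x : X | MoreMor.IsCMAt f x ∧ FlatMor.fibreDimAt f x = d.1} := by
      ext x
      simp only [Set.mem_ofPred_eq, Set.mem_iUnion, Subtype.exists, exists_prop]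
      constructor
      · rintro ⟨h1, h2⟩
        exact ⟨_, h2, h1, rfl⟩
      · rintro ⟨d, hd, h1, h2⟩
        exact ⟨h1, h2 ▸ hd⟩
    rw [this]
    exact isOpen_iUnion fun d => isOpen_isCMAt_fibreDimAt_eq f d.1
  have himg := f.isOpenMap _ hop
  convert himg using 1
  ext s
  constructor
  · intro hs
    have hs' : c < topologicalKrullDim (f.fiber s) := hs
    have h1 : ¬ topologicalKrullDim (f.fiber s) ≤ c := not_le.mpr hs'
    rw [TopDimLocH8.topDim_le_iff_forall_localDim] at h1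
    push Not at h1
    obtain ⟨z, hz⟩ := h1
    rw [FieldExtH8.localDim_fiber_eq_fibreDimAt f s z _ rfl] at hz
    obtain ⟨x', hx'1, hx'2, hx'3, hx'4⟩ := exists_fibre_generic f (f.fiberι s z)
    have hmax' : ∀ x'' : X, f x'' = f x' → x'' ⤳ x' → x'' = x' := fun x'' hx'' =>
      hx'3 x'' (hx''.trans hx'1)
    refine ⟨x', ⟨isCMAt_of_isMax_fibre f x' (Flat.stalkMap f x') hmax', lt_of_lt_of_le hz hx'4⟩, ?_⟩
    rw [hx'1]
    exact Groth.Agent.FibRes2H8.fiberι_mem f s z
  · rintro ⟨x, ⟨-, hx⟩, rfl⟩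
    show c < topologicalKrullDim (f.fiber (f x))
    refine lt_of_lt_of_le hx ?_
    exact TopDimLocH8.localDim_le_topDim _ _

end Groth.Agent.Lib.CMMorH8
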