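import Groth.Agent.S10678
import Groth.Agent.Lib.CMMor14_helper8
import Groth.Agent.Lib.ChartIndep_helper8
import Groth.Agent.Lib.AlgSpPullback_helper7
import Groth.Agent.Lib.AlgSpPoints_helper7
import Groth.Agent.Lib.AlgSpQC_helper7

/-!
# Lower semicontinuity of the fibre dimension of a flat finitely presented morphism of algebraic
spaces (helper7)
APPEND-ONLY once landed.
-/

set_option backward.isDefEq.respectTransparency false
set_option backward.isDefEq.respectTransparency.types false
set_option linter.style.haveILetI false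
set_option linter.unusedSectionVars false
set_option linter.unusedVariables false
set_option autoImplicit false
set_option maxHeartbeats 1600000
universe u
open CategoryTheory CategoryTheory.Limits AlgebraicGeometry Opposite

namespace Groth.Agent.Lib.AlgSpFibDimH7

open AlgSp Groth.Agent.Lib.AlgSpPoints_helper7 Groth.Agent.Lib.AlgSpPullback_helper7
  Groth.Agent.Lib.AlgSpQC_helper7

variable {S : Scheme.{u}}

/-- the dimension of a fibre of a morphism of schemes is bounded iff all the local fibre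
dimensions are -/
theorem topDim_fiber_le_iff {U W : Scheme.{u}} (p : U ⟶ W) (w : W) (c : WithBot ℕ∞) :
    topologicalKrullDim (p.fiber w) ≤ c ↔ ∀ u : U, p u = w → FlatMor.fibreDimAt p u ≤ c := by
  rw [TopDimLocH8.topDim_le_iff_forall_localDim]
  constructor
  · intro h u hu
    subst hu
    exact h (p.asFiber u)
  · intro h z
    rw [FieldExtH8.localDim_fiber_eq_fibreDimAt p w z _ rfl]
    exact h _ (Groth.Agent.FibRes2H8.fiberι_mem p w z)

theorem topDim_fiber_eq_bot_iff {U W : Scheme.{u}} (p : U ⟶ W) (w : W) :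
    topologicalKrullDim (p.fiber w) = ⊥ ↔ w ∉ Set.range p := by
  constructor
  · rintro h ⟨u, rfl⟩
    exact TopDimLocH8.topDim_ne_bot _ (p.asFiber u) h
  · intro h
    haveI : IsEmpty (p.fiber w) :=
      ⟨fun z => h ⟨p.fiberι w z, Groth.Agent.FibRes2H8.fiberι_mem p w z⟩⟩
    exact TopDimLocH8.topDim_eq_bot_of_isEmpty _

/-- The dimension of the fibre of `f` over a field point in the class of the image of `w`
is the dimension of the fibre over `w` of a chart of `f`, provided the chart covers the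
fibre product. -/
theorem dim_fibre_le_iff {X Y : AlgSp.Space S} (f : X ⟶ Y) (hf : AlgSp.IsFiniteTypeMor f.hom)
    {U W : Over S} (a : (yon S).obj U ⟶ X.obj) (q : (yon S).obj W ⟶ Y.obj) (p : U ⟶ W)
    (hae : RepWith @Etale a) (hqe : RepWith @Etale q)
    (comm : a ≫ f.hom = (yon S).map p ≫ q)
    (hsurj : ∀ (x : Points X.obj) (w : W.left), Points.map f.hom x = Points.ofPt q w →
      ∃ u : U.left, Points.ofPt a u = x ∧ p.left u = w)
    (w : W.left) (k : FieldPt Y.obj) (hk : Points.mk k = Points.ofPt q w)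
    (Xk : Sp S) (fst : Xk ⟶ X.obj) (snd : Xk ⟶ (yon S).obj k.pt)
    (h : IsPullback fst snd f.hom k.toHom) (c : WithBot ℕ∞) :
    AlgSp.dim Xk ≤ c ↔ topologicalKrullDim (p.left.fiber w) ≤ c := by
  obtain ⟨h1, h2⟩ := Groth.Agent.S10678.result f hf (Points.ofPt q w) k hk Xk fst snd h
  have hmapa : ∀ u : U.left, Points.map f.hom (Points.ofPt a u) = Points.ofPt q (p.left u) := by
    intro u
    rw [Points.map_ofPt, comm, ofPt_comp]
  have hrange : Points.ofPt q w ∈ Set.range (Points.map f.hom) ↔ w ∈ Set.range p.left := by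
    constructor
    · rintro ⟨x, hx⟩
      obtain ⟨u, -, hu⟩ := hsurj x w hx
      exact ⟨u, hu⟩
    · rintro ⟨u, rfl⟩
      exact ⟨Points.ofPt a u, hmapa u⟩
  induction c with
  | bot =>
    rw [le_bot_iff, le_bot_iff, h1, topDim_fiber_eq_bot_iff, hrange]
  | coe c =>
    induction c with
    | top =>
      have ht : ((⊤ : ℕ∞) : WithBot ℕ∞) = ⊤ := rfl
      rw [ht]
      exact ⟨fun _ => le_top, fun _ => le_top⟩
    | coe n =>
      have hn : (((n : ℕ) : ℕ∞) : WithBot ℕ∞) = ((n : ℕ) : WithBot ℕ∞) := rfl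
      rw [hn, h2 n, topDim_fiber_le_iff]
      constructor
      · intro H u hu
        obtain ⟨U₂, V₂, a₂, b₂, h₂, u₂, ha₂e, hb₂e, comm₂, hu₂, hd₂⟩ :=
          H (Points.ofPt a u) (by rw [hmapa, hu])
        rw [ChartIndepH8.fibreDimAt_chart_indep f.hom hf.1 a q p u a₂ b₂ h₂ u₂ hae hqe ha₂e hb₂e
          comm comm₂ hu₂.symm]
        exact hd₂
      · intro H x hx
        obtain ⟨u, hu1, hu2⟩ := hsurj x w hx
        exact ⟨U, W, a, q, p, u, hae, hqe, comm, hu1, H u hu2⟩

theorem main10679 {X Y : AlgSp.Space S} (f : X ⟶ Y)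
    (hf1 : AlgSp.LocP @Flat f.hom) (hf2 : AlgSp.IsFinitePresentationMor f.hom)
    (d : WithBot ℕ∞) :
    IsOpen {y : AlgSp.Points Y.obj | ∀ (k : AlgSp.FieldPt Y.obj), AlgSp.Points.mk k = y →
      ∀ (Xk : AlgSp.Sp S) (fst : Xk ⟶ X.obj) (snd : Xk ⟶ (AlgSp.yon S).obj k.pt),
        IsPullback fst snd f.hom k.toHom → d < AlgSp.dim Xk} := by
  obtain ⟨W, q, hqe, hqs⟩ := Y.property.atlas
  rw [isOpen_iff_of_atlas q hqe hqs]
  have sq := IsPullback.of_hasPullback f.hom q
  have hP : IsAlgSpace (pullback f.hom q) :=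
    isAlgSpace_of_isPullback Y.property.diag X.property (IsAlgSpace.yon_obj W) sq
  obtain ⟨U, e, hee, hes⟩ := hP.atlas
  obtain ⟨p, hp⟩ := (yon S).map_surjective (e ≫ pullback.snd f.hom q)
  have hfe : RepWith @Etale (pullback.fst f.hom q) := repWith_fst_of_isPullback _ sq hqe
  have hae : RepWith @Etale (e ≫ pullback.fst f.hom q) := repWith_comp _ hee hfe
  have hcomm : (e ≫ pullback.fst f.hom q) ≫ f.hom = (yon S).map p ≫ q := by
    rw [Category.assoc, sq.w, ← Category.assoc, hp]
  haveI hfl : Flat p.left := hf1 _ q p hae hqe hcomm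
  haveI hlfp : LocallyOfFinitePresentation p.left := hf2.1 _ q p hae hqe hcomm
  have hlft : LocP @LocallyOfFiniteType f.hom := by
    intro U' V' a' b' h' ha'e hb'e comm'
    haveI : LocallyOfFinitePresentation h'.left := hf2.1 a' b' h' ha'e hb'e comm'
    infer_instance
  have hft : IsFiniteTypeMor f.hom := ⟨hlft, hf2.2.1⟩
  have hsurj : ∀ (x : Points X.obj) (w : W.left), Points.map f.hom x = Points.ofPt q w →
      ∃ u : U.left, Points.ofPt (e ≫ pullback.fst f.hom q) u = x ∧ p.left u = w := by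
    intro x w hx
    have h1 : Points.map f.hom x = Points.map q (Points.ofScheme W w) := by
      rw [hx, Points.ofPt_eq_map_ofScheme]
    obtain ⟨z, hz1, hz2⟩ := exists_of_isPullback sq x (Points.ofScheme W w) h1
    obtain ⟨u, rfl⟩ := ofPt_surjective e hes z
    refine ⟨u, ?_, ofScheme_injective W ?_⟩
    · rw [← Points.map_ofPt, hz1]
    · rw [← hz2, Points.map_ofPt, ← hp, ofPt_yon_map]
  have hset : Points.ofPt q ⁻¹' {y : AlgSp.Points Y.obj | ∀ (k : AlgSp.FieldPt Y.obj),
      AlgSp.Points.mk k = y →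
      ∀ (Xk : AlgSp.Sp S) (fst : Xk ⟶ X.obj) (snd : Xk ⟶ (AlgSp.yon S).obj k.pt),
        IsPullback fst snd f.hom k.toHom → d < AlgSp.dim Xk} =
      {w : W.left | d < topologicalKrullDim (p.left.fiber w)} := by
    ext w
    constructor
    · intro H
      obtain ⟨k, hk⟩ := Points.mk_surjective (Points.ofPt q w)
      have sqk := IsPullback.of_hasPullback f.hom k.toHom
      have h1 : d < AlgSp.dim (pullback f.hom k.toHom) := H k hk _ _ _ sqk
      show d < topologicalKrullDim (p.left.fiber w)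
      rw [← not_le] at h1 ⊢
      intro h2
      exact h1 ((dim_fibre_le_iff f hft _ q p hae hqe hcomm hsurj w k hk _ _ _ sqk d).2 h2)
    · intro H k hk Xk fst snd sqk
      have H' : d < topologicalKrullDim (p.left.fiber w) := H
      rw [← not_le] at H' ⊢
      intro h2
      exact H' ((dim_fibre_le_iff f hft _ q p hae hqe hcomm hsurj w k hk Xk fst snd sqk d).1 h2)
  rw [hset]
  exact Groth.Agent.Lib.CMMorH8.main0404 p.left d

end Groth.Agent.Lib.AlgSpFibDimH7
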