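import Groth.Agent.S10680
import Groth.Agent.Lib.AlgSpFibDimLsc_helper7
import Groth.Agent.Lib.EquidimIrr_helper8
import Groth.Agent.Lib.AlgSpQC2_helper7

/-!
# Local constancy of the fibre dimension of a proper flat finitely presented morphism of algebraic
spaces (helper7)
APPEND-ONLY once landed.
-/

set_option backward.isDefEq.respectTransparency false
set_option backward.isDefEq.respectTransparency.types false
set_option linter.style.haveILetI false
set_option linter.unusedSectionVars false
set_option linter.unusedVariables false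
set_option autoImplicit false
set_option maxHeartbeats 1600000
universe u
open CategoryTheory CategoryTheory.Limits AlgebraicGeometry Opposite

namespace Groth.Agent.Lib.AlgSpFibDimH7

open AlgSp Groth.Agent.Lib.AlgSpPoints_helper7 Groth.Agent.Lib.AlgSpPullback_helper7
  Groth.Agent.Lib.AlgSpQC_helper7 Groth.Agent.Lib.AlgSpQC2_helper7

variable {S : Scheme.{u}}

/-- the fibres of a morphism of finite type have finite dimension -/
theorem dim_fibre_lt_top {X Y : AlgSp.Space S} (f : X ⟶ Y) (hf : AlgSp.IsFiniteTypeMor f.hom)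
    (k : FieldPt Y.obj)
    (Xk : Sp S) (fst : Xk ⟶ X.obj) (snd : Xk ⟶ (yon S).obj k.pt)
    (h : IsPullback fst snd f.hom k.toHom) :
    ∃ n : ℕ, AlgSp.dim Xk ≤ (n : WithBot ℕ∞) := by
  obtain ⟨-, h2⟩ := Groth.Agent.S10678.result f hf (Points.mk k) k rfl Xk fst snd h
  haveI : CompactSpace ↥k.pt.left :=
    inferInstanceAs (CompactSpace (PrimeSpectrum k.K))
  have hqc : IsQuasiCompactSp Xk :=
    hf.2 (IsAlgSpace.yon_obj k.pt) (isQuasiCompactSp_yon k.pt) k.toHom fst snd h
  haveI : CompactSpace (Points Xk) := compactSpace_of_isQuasiCompactSp hqc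
  obtain ⟨O, hO⟩ : ∃ O : ℕ → Set (Points X.obj), O = fun (n : ℕ) => {x : Points X.obj |
      AlgSp.HasAtMor (fun _ _ h u => FlatMor.fibreDimAt h u ≤ (n : WithBot ℕ∞)) f.hom x} :=
    ⟨_, rfl⟩
  have hOo : ∀ n, IsOpen (O n) := by
    intro n
    rw [hO]
    exact Groth.Agent.S10308.result f hf.1 n
  have hmono : ∀ n m : ℕ, n ≤ m → O n ⊆ O m := by
    intro n m hnm x hx
    rw [hO] at hx ⊢
    obtain ⟨U, V, a, b, h', u, hae, hbe, comm, hu, hd⟩ := hx
    refine ⟨U, V, a, b, h', u, hae, hbe, comm, hu, le_trans hd ?_⟩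
    exact_mod_cast hnm
  have hcov : ∀ x : Points X.obj, ∃ n, x ∈ O n := by
    intro x
    obtain ⟨U, V, a, b, h', u, hae, hbe, comm, hu⟩ := ResTrdegH8.exists_chart_diagram f x
    haveI : LocallyOfFiniteType h'.left := hf.1 a b h' hae hbe comm
    obtain ⟨D, hD⟩ := EquidimIrrH8.exists_nat_fibreDimAt h'.left u
    refine ⟨D, ?_⟩
    rw [hO]
    exact ⟨U, V, a, b, h', u, hae, hbe, comm, hu, le_of_eq hD⟩
  have hdir : Directed (· ⊆ ·) (fun n => Points.map fst ⁻¹' O n) := by
    intro n m
    exact ⟨max n m, Set.preimage_mono (hmono n _ (le_max_left n m)),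
      Set.preimage_mono (hmono m _ (le_max_right n m))⟩
  obtain ⟨n, hn⟩ := isCompact_univ.elim_directed_cover (fun n => Points.map fst ⁻¹' O n)
    (fun n => (hOo n).preimage (Points.continuous_map fst))
    (by
      intro z _
      obtain ⟨n, hn⟩ := hcov (Points.map fst z)
      exact Set.mem_iUnion.2 ⟨n, hn⟩) hdir
  refine ⟨n, (h2 n).2 ?_⟩
  intro x hx
  haveI hsub := FieldFibreH8.subsingleton_points_yon_field k.K k.str
  have hpt : Points.map k.toHom (Points.mk (ofHom (𝟙 ((yon S).obj k.pt)))) = Points.mk k := by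
    rw [map_mk_ofHom, Category.id_comp, ofHom_toHom]
  obtain ⟨z, hz, -⟩ := exists_of_isPullback h x
    (Points.mk (ofHom (𝟙 ((yon S).obj k.pt)))) (by rw [hx, hpt])
  have hmem : z ∈ Points.map fst ⁻¹' O n := hn (Set.mem_univ z)
  have hmem' : x ∈ O n := by
    rw [← hz]
    exact hmem
  rw [hO] at hmem'
  exact hmem'

theorem main10692 {X Y : AlgSp.Space S} (f : X ⟶ Y) (hf1 : AlgSp.IsProperMor f.hom)
    (hf2 : AlgSp.LocP @Flat f.hom) (hf3 : AlgSp.IsFinitePresentationMor f.hom)
    (d : WithBot ℕ∞) :
    IsOpen {y : AlgSp.Points Y.obj | ∀ (k : AlgSp.FieldPt Y.obj), AlgSp.Points.mk k = y →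
      ∀ (Xk : AlgSp.Sp S) (fst : Xk ⟶ X.obj) (snd : Xk ⟶ (AlgSp.yon S).obj k.pt),
        IsPullback fst snd f.hom k.toHom → AlgSp.dim Xk = d} := by
  have hlft : LocP @LocallyOfFiniteType f.hom := by
    intro U' V' a' b' h' ha'e hb'e comm'
    haveI : LocallyOfFinitePresentation h'.left := hf3.1 a' b' h' ha'e hb'e comm'
    infer_instance
  have hft : IsFiniteTypeMor f.hom := ⟨hlft, hf3.2.1⟩
  have hup := fun c => Groth.Agent.S10680.result f hf1 c
  have hlow := fun c => main10679 f hf2 hf3 c
  induction d with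
  | bot =>
    convert hup ((0 : ℕ) : WithBot ℕ∞) using 1
    ext y
    simp only [Set.mem_ofPred_eq]
    refine forall_congr' fun k => forall_congr' fun hk => forall_congr' fun Xk =>
      forall_congr' fun fst => forall_congr' fun snd => forall_congr' fun sq => ?_
    generalize AlgSp.dim Xk = D
    induction D with
    | bot => simp
    | coe D =>
      constructor
      · intro h
        exact absurd h (WithBot.coe_ne_bot)
      · intro h
        exfalso
        have : D < ((0 : ℕ) : ℕ∞) := by exact_mod_cast h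
        simp at this
  | coe d =>
    induction d with
    | top =>
      convert isOpen_empty
      ext y
      simp only [Set.mem_ofPred_eq, Set.mem_empty_iff_false, iff_false]
      intro H
      obtain ⟨k, hk⟩ := Points.mk_surjective y
      have sqk := IsPullback.of_hasPullback f.hom k.toHom
      obtain ⟨n, hn⟩ := dim_fibre_lt_top f hft k _ _ _ sqk
      rw [H k hk _ _ _ sqk] at hn
      have : ((⊤ : ℕ∞) : WithBot ℕ∞) ≤ ((n : ℕ∞) : WithBot ℕ∞) := hn
      rw [WithBot.coe_le_coe] at this
      exact absurd this (by simp)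
    | coe n =>
      obtain ⟨c, hc⟩ : ∃ c : WithBot ℕ∞, ∀ D : WithBot ℕ∞,
          D = (((n : ℕ) : ℕ∞) : WithBot ℕ∞) ↔
            (D < (((n + 1 : ℕ) : ℕ∞) : WithBot ℕ∞) ∧ c < D) := by
        have hlt : ∀ D : WithBot ℕ∞, D < (((n + 1 : ℕ) : ℕ∞) : WithBot ℕ∞) ↔
            D ≤ (((n : ℕ) : ℕ∞) : WithBot ℕ∞) := by
          intro D
          induction D with
          | bot => simp
          | coe D =>
            rw [WithBot.coe_lt_coe, WithBot.coe_le_coe]
            push_cast
            exact ENat.lt_add_one_iff (ENat.natCast_ne_top n)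
        cases n with
        | zero =>
          refine ⟨⊥, fun D => ?_⟩
          rw [hlt]
          constructor
          · rintro rfl
            exact ⟨le_rfl, WithBot.bot_lt_coe _⟩
          · rintro ⟨h1, h2⟩
            refine le_antisymm h1 ?_
            induction D with
            | bot => exact absurd h2 (lt_irrefl _)
            | coe D =>
              rw [WithBot.coe_le_coe]
              exact bot_le
        | succ m =>
          refine ⟨(((m : ℕ) : ℕ∞) : WithBot ℕ∞), fun D => ?_⟩
          rw [hlt]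
          constructor
          · rintro rfl
            refine ⟨le_rfl, ?_⟩
            rw [WithBot.coe_lt_coe]
            exact_mod_cast Nat.lt_succ_self m
          · rintro ⟨h1, h2⟩
            refine le_antisymm h1 ?_
            induction D with
            | bot => exact absurd h2 (by simp)
            | coe D =>
              rw [WithBot.coe_lt_coe] at h2
              rw [WithBot.coe_le_coe]
              push_cast
              exact Order.add_one_le_of_lt h2
      convert (hup (((n + 1 : ℕ) : ℕ∞) : WithBot ℕ∞)).inter (hlow c) using 1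
      ext y
      simp only [Set.mem_ofPred_eq, Set.mem_inter_iff]
      constructor
      · intro H
        exact ⟨fun k hk Xk fst snd sq => ((hc _).1 (H k hk Xk fst snd sq)).1,
          fun k hk Xk fst snd sq => ((hc _).1 (H k hk Xk fst snd sq)).2⟩
      · rintro ⟨H1, H2⟩ k hk Xk fst snd sq
        exact (hc _).2 ⟨H1 k hk Xk fst snd sq, H2 k hk Xk fst snd sq⟩

end Groth.Agent.Lib.AlgSpFibDimH7
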