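import Groth.Agent.Lib.AlgSpFibEmb_helper6
import Groth.Agent.Lib.AlgSpDescent2_helper7

/-!
# Reduced spaces mapping to a quasi-compact monomorphic point factor through it (helper6)
-/

set_option autoImplicit false
universe u
open CategoryTheory CategoryTheory.Limits AlgebraicGeometry Opposite TopologicalSpace Topology

namespace Groth.Agent.Lib.AlgSpFibEmb2_helper6

open AlgSp Groth.Agent.Lib.AlgSpPoints_helper7 Groth.Agent.Lib.AlgSpQC_helper7
  Groth.Agent.Lib.AlgSpPullback_helper7 Groth.Agent.Lib.AlgSpBasic_helper7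
  Groth.Agent.Lib.AlgSpEtale_helper7 Groth.Agent.Lib.AlgSpField_helper7
  Groth.Agent.Lib.AlgSpFibre_helper6 Groth.Agent.Lib.AlgSpSpecial_helper6
  Groth.Agent.Lib.AlgSpPointSp2_helper6 Groth.Agent.Lib.AlgSpClosedPt_helper6
  Groth.Agent.Lib.AlgSpClosedPt2_helper6 Groth.Agent.Lib.AlgSpEmbed_helper6
  Groth.Agent.Lib.AlgSpDecentZar_helper6 Groth.Agent.Lib.AlgSpFibEmb_helper6
  Groth.Agent.Lib.AlgSpDescent_helper7 Groth.Agent.Lib.AlgSpDescent2_helper7
  Groth.Agent.Lib.AlgSpIso_helper7

variable {S : Scheme.{u}}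

/-- For a chart `c = h_α ≫ b` factoring through an étale chart `b` of `X`, the base change along
`c` of a quasi-compact monomorphic point of `X` is a preimmersion. -/
theorem isPreimmersion_snd_of_chart {X : Sp S} (r : FieldPt X) (hm : Mono r.toHom)
    (hq : RepWith @QuasiCompact r.toHom) {W V : Over S} (b : (yon S).obj W ⟶ X)
    (hbe : RepWith @Etale b) (α : V ⟶ W) :
    IsPreimmersion (hq.rep.snd ((yon S).map α ≫ b)).left := by
  haveI := hm
  let e := hq.rep.fst' b
  let j := hq.rep.snd b
  have sqE : IsPullback ((yon S).map e) ((yon S).map j) r.toHom b := hq.rep.isPullback' b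
  let E : Scheme.{u} := (hq.rep.pullback b).left
  let e' : E ⟶ Spec (CommRingCat.of r.K) := e.left
  let j' : E ⟶ W.left := j.left
  haveI hjm : Mono j' := by
    have h1 : Mono ((yon S).map j) := sqE.mono_snd_of_mono
    have h2 : Mono j := (yon S).mono_of_mono_map h1
    exact (inferInstance : Mono j.left)
  haveI hjq : QuasiCompact j' := hq.property_snd b
  haveI hee : Etale e' := by
    have h1 : RepWith @Etale ((yon S).map e) := repWith_fst_of_isPullback _ sqE hbe
    exact (repWith_yon_map_iff _ _).1 h1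
  have hfib : ∀ v : ↥E, Points.ofPt b (j' v) = Points.mk r := by
    intro v
    change Points.ofPt b (j.left v) = Points.mk r
    rw [← ofPt_comp, ← sqE.w, ofPt_comp, Points.ofPt_toHom]
  have hjinj : Function.Injective j' := by
    haveI : UniversallyInjective j' := inferInstance
    exact j'.injective
  have hsp : ∀ v v' : ↥E, j' v' ⤳ j' v → v' = v := by
    intro v v' hs
    have := eq_of_specializes_of_finite_fibres (Points.mk r) (fun V c hV hc => by
        haveI : CompactSpace ↥V.left := by haveI := hV; infer_instance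
        exact finite_fibre_of_qc_point r hq c hc) b hbe (j' v) (j' v') (hfib v) (hfib v') hs
    exact (hjinj this).symm
  haveI hpre : IsPreimmersion j' := isPreimmersion_of_mono_of_etale_field (K := r.K) j' e' hsp
  let ε := hq.rep.fst' ((yon S).map α ≫ b)
  let ι := hq.rep.snd ((yon S).map α ≫ b)
  have sqV : IsPullback ((yon S).map ε) ((yon S).map ι) r.toHom ((yon S).map α ≫ b) :=
    hq.rep.isPullback' _
  have hβ0 : (yon S).map ε ≫ r.toHom = ((yon S).map ι ≫ (yon S).map α) ≫ b := by
    rw [sqV.w, Category.assoc]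
  obtain ⟨β, hβ⟩ := (yon S).map_surjective
    (sqE.lift ((yon S).map ε) ((yon S).map ι ≫ (yon S).map α) hβ0)
  have hβ1 : (yon S).map β ≫ (yon S).map e = (yon S).map ε := by rw [hβ, sqE.lift_fst]
  have hβ2 : (yon S).map β ≫ (yon S).map j = (yon S).map ι ≫ (yon S).map α := by
    rw [hβ, sqE.lift_snd]
  have sqL : IsPullback ((yon S).map β) ((yon S).map ι) ((yon S).map j) ((yon S).map α) := by
    refine IsPullback.of_right ?_ hβ2 sqE
    rw [hβ1]; exact sqV
  have hβ3 : β ≫ j = ι ≫ α := by
    apply (yon S).map_injective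
    rw [Functor.map_comp, Functor.map_comp]; exact hβ2
  have sqL' : IsPullback β ι j α := IsPullback.of_map (yon S) hβ3 sqL
  have sqL'' : IsPullback β.left ι.left j.left α.left := sqL'.map (Over.forget S)
  exact MorphismProperty.of_isPullback (P := @IsPreimmersion) sqL'' hpre

/-- A morphism from a reduced algebraic space whose image is a point represented by a
quasi-compact monomorphism factors through that monomorphism. -/
theorem exists_factor_of_reduced {Y X : Sp S} (hY : IsAlgSpace Y) (hX : IsAlgSpace X) (f : Y ⟶ X)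
    (p : FieldPt X) (hm : Mono p.toHom) (hq : RepWith @QuasiCompact p.toHom)
    (hred : EtaleLocally (fun U => IsReduced U) Y)
    (hf : ∀ y : Points Y, Points.map f y = Points.mk p) :
    ∃ g : Y ⟶ (yon S).obj p.pt, g ≫ p.toHom = f := by
  haveI := hm
  obtain ⟨UY, pY, hpYe, hpYs, hUred⟩ := hred
  haveI : IsReduced UY.left := hUred
  obtain ⟨W, b, hbe, hbs⟩ := hX.atlas
  let c : (yon S).obj UY ⟶ X := pY ≫ f
  -- chart of `UY` over `W`
  let π := hbe.rep.snd c
  let α := hbe.rep.fst' c
  have sqW : IsPullback ((yon S).map α) ((yon S).map π) b c := hbe.rep.isPullback' c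
  haveI hπe : Etale π.left := hbe.property_snd c
  haveI hπs : Surjective π.left := hbs.property _ _ _ sqW
  -- the fibre over `UY`
  let εY := hq.rep.fst' c
  let ιY := hq.rep.snd c
  have sqY : IsPullback ((yon S).map εY) ((yon S).map ιY) p.toHom c := hq.rep.isPullback' c
  -- the fibre over the chart
  let c' : (yon S).obj (hbe.rep.pullback c) ⟶ X := (yon S).map α ≫ b
  have hc' : c' = (yon S).map π ≫ c := sqW.w
  let ε' := hq.rep.fst' c'
  let ι' := hq.rep.snd c'
  have sqV' : IsPullback ((yon S).map ε') ((yon S).map ι') p.toHom c' := hq.rep.isPullback' c'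
  haveI hpre : IsPreimmersion ι'.left := isPreimmersion_snd_of_chart p hm hq b hbe α
  have hptc : ∀ u : ↥UY.left, Points.ofPt c u = Points.mk p := by
    intro u
    change Points.ofPt (pY ≫ f) u = Points.mk p
    rw [← Points.map_ofPt]; exact hf _
  have hptc' : ∀ v : ↥(hbe.rep.pullback c).left, Points.ofPt c' v = Points.mk p := by
    intro v
    rw [hc', ofPt_comp]; exact hptc _
  have hsurj' : Function.Surjective ι'.left := by
    intro v
    have h : Points.ofPt p.toHom (IsLocalRing.closedPoint p.K) = Points.ofPt c' v := by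
      rw [Points.ofPt_toHom, hptc']
    obtain ⟨w, -, hw⟩ := exists_ofPt_eq_of_isPullback sqV' _ v h
    exact ⟨w, hw⟩
  have hci' : IsClosedImmersion ι'.left := by
    apply IsClosedImmersion.of_isPreimmersion
    rw [hsurj'.range_eq]; exact isClosed_univ
  -- pullback square relating the two fibres
  have hγ0 : (yon S).map ε' ≫ p.toHom = ((yon S).map ι' ≫ (yon S).map π) ≫ c := by
    rw [sqV'.w, Category.assoc]
    exact congrArg (fun t => (yon S).map ι' ≫ t) hc'
  obtain ⟨γ, hγ⟩ := (yon S).map_surjective
    (sqY.lift ((yon S).map ε') ((yon S).map ι' ≫ (yon S).map π) hγ0)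
  have hγ1 : (yon S).map γ ≫ (yon S).map εY = (yon S).map ε' := by rw [hγ, sqY.lift_fst]
  have hγ2 : (yon S).map γ ≫ (yon S).map ιY = (yon S).map ι' ≫ (yon S).map π := by
    rw [hγ, sqY.lift_snd]
  have sqT : IsPullback ((yon S).map ι') ((yon S).map γ) ((yon S).map π) ((yon S).map ιY) := by
    refine IsPullback.of_bot ?_ hγ2.symm sqY.flip
    rw [hγ1]
    have h0 : IsPullback ((yon S).map ι') ((yon S).map ε') c' p.toHom := sqV'.flip
    have h1 : ((yon S).map π ≫ c) = c' := hc'.symm
    rw [h1]; exact h0
  have hγ3 : ι' ≫ π = γ ≫ ιY := by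
    apply (yon S).map_injective
    rw [Functor.map_comp, Functor.map_comp]; exact hγ2.symm
  have sqT' : IsPullback ι' γ π ιY := IsPullback.of_map (yon S) hγ3 sqT
  have sqT'' : IsPullback γ.left ι'.left ιY.left π.left := (sqT'.map (Over.forget S)).flip
  have hciY : IsClosedImmersion ιY.left := descendsEtale_isClosedImmersion sqT'' hπe hπs hci'
  haveI : Surjective ιY.left := by
    refine ⟨fun u => ?_⟩
    have h : Points.ofPt p.toHom (IsLocalRing.closedPoint p.K) = Points.ofPt c u := by
      rw [Points.ofPt_toHom, hptc]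
    obtain ⟨w, -, hw⟩ := exists_ofPt_eq_of_isPullback sqY _ u h
    exact ⟨w, hw⟩
  haveI hisoL : IsIso ιY.left := isIso_of_isClosedImmersion_of_surjective ιY.left
  haveI hiso : IsIso ιY := by
    haveI : IsIso ((Over.forget S).map ιY) := hisoL
    exact isIso_of_reflects_iso _ (Over.forget S)
  -- the section
  let s : (yon S).obj UY ⟶ (yon S).obj p.pt := (yon S).map (inv ιY) ≫ (yon S).map εY
  have hs : s ≫ p.toHom = c := by
    change ((yon S).map (inv ιY) ≫ (yon S).map εY) ≫ p.toHom = c
    rw [Category.assoc, sqY.w, ← Category.assoc, ← Functor.map_comp, IsIso.inv_hom_id]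
    erw [(yon S).map_id, Category.id_comp]
  -- the pullback of the point along `f`
  haveI hpYepi : Epi pY := epi_of_atlas pY hpYe hpYs
  have hfac : pullback.lift pY s hs.symm ≫ pullback.fst f p.toHom = pY := pullback.lift_fst _ _ _
  haveI : Epi (pullback.lift pY s hs.symm ≫ pullback.fst f p.toHom) := by rw [hfac]; exact hpYepi
  haveI : Epi (pullback.fst f p.toHom) := epi_of_epi (pullback.lift pY s hs.symm) _
  haveI : Mono (pullback.fst f p.toHom) := inferInstance
  haveI : IsIso (pullback.fst f p.toHom) := isIso_of_mono_of_epi _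
  refine ⟨inv (pullback.fst f p.toHom) ≫ pullback.snd f p.toHom, ?_⟩
  rw [Category.assoc, ← pullback.condition, IsIso.inv_hom_id_assoc]

end Groth.Agent.Lib.AlgSpFibEmb2_helper6
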