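import Groth.Agent.Lib.AlgSpEmbed_helper6
import Groth.Agent.Lib.AlgSpClosedPt2_helper6
import Mathlib.AlgebraicGeometry.Morphisms.Preimmersion
import Mathlib.AlgebraicGeometry.Morphisms.IsIso

/-!
# The fibre of a morphism of algebraic spaces over a quasi-compact monomorphic point embeds (helper6)
-/

set_option autoImplicit false
universe u
open CategoryTheory CategoryTheory.Limits AlgebraicGeometry Opposite TopologicalSpace Topology

namespace Groth.Agent.Lib.AlgSpFibEmb_helper6

open AlgSp Groth.Agent.Lib.AlgSpPoints_helper7 Groth.Agent.Lib.AlgSpQC_helper7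
  Groth.Agent.Lib.AlgSpPullback_helper7 Groth.Agent.Lib.AlgSpBasic_helper7
  Groth.Agent.Lib.AlgSpEtale_helper7 Groth.Agent.Lib.AlgSpField_helper7
  Groth.Agent.Lib.AlgSpFibre_helper6 Groth.Agent.Lib.AlgSpSpecial_helper6
  Groth.Agent.Lib.AlgSpPointSp2_helper6 Groth.Agent.Lib.AlgSpClosedPt_helper6
  Groth.Agent.Lib.AlgSpClosedPt2_helper6 Groth.Agent.Lib.AlgSpEmbed_helper6
  Groth.Agent.Lib.AlgSpDecentZar_helper6

/-- stalk surjectivity of a monomorphism at a point whose local ring is a field -/
theorem stalkMap_surjective_of_mono_of_isField {E W : Scheme.{u}} (j : E ⟶ W) [Mono j] (e : ↥E)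
    (hfield : IsField ↥(E.presheaf.stalk e)) : Function.Surjective (j.stalkMap e) := by
  let φ := j.residueFieldMap e
  haveI h1 : Mono (Spec.map φ ≫ W.fromSpecResidueField (j e)) := by
    rw [Scheme.Hom.SpecMap_residueFieldMap_fromSpecResidueField]
    infer_instance
  haveI h2 : Mono (Spec.map φ) := mono_of_mono (Spec.map φ) (W.fromSpecResidueField (j e))
  haveI : Nonempty ↥(Spec (E.residueField e)) := ⟨IsLocalRing.closedPoint _⟩
  have hiso : IsIso (Spec.map φ) :=
    isIso_of_mono_of_nonempty_of_field (K := ↥(W.residueField (j e))) (Spec.map φ)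
  have hbij : Function.Bijective φ.hom := isIso_SpecMap_iff.1 hiso
  have hinj : Function.Injective (E.residue e).hom := by
    have hker : RingHom.ker (E.residue e).hom = ⊥ := by
      change RingHom.ker (IsLocalRing.residue ↥(E.presheaf.stalk e)) = ⊥
      rw [IsLocalRing.ker_residue, ← IsLocalRing.isField_iff_maximalIdeal_eq]
      exact hfield
    exact (RingHom.injective_iff_ker_eq_bot _).2 hker
  intro x
  obtain ⟨y', hy'⟩ := hbij.2 ((E.residue e).hom x)
  obtain ⟨y, rfl⟩ := W.residue_surjective (j e) y'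
  refine ⟨y, hinj ?_⟩
  have h := ConcreteCategory.congr_hom (Scheme.residue_residueFieldMap j e) y
  simp only [CommRingCat.comp_apply] at h
  exact h.symm.trans hy'

/-- a quasi-compact monomorphism from a scheme étale over a field whose image has no nontrivial
specializations is a preimmersion -/
theorem isPreimmersion_of_mono_of_etale_field {E W : Scheme.{u}} {K : Type u} [Field K]
    (j : E ⟶ W) [Mono j] [QuasiCompact j] (ρ : E ⟶ Spec (CommRingCat.of K)) [Etale ρ]
    (hsp : ∀ e e' : ↥E, j e' ⤳ j e → e' = e) : IsPreimmersion j := by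
  haveI : DiscreteTopology ↥E := discreteTopology_of_etale_field ρ
  haveI : IsReduced E := isReduced_of_etale_field ρ
  have hinj : Function.Injective j := by
    haveI : UniversallyInjective j := inferInstance
    exact j.injective
  have hnospec : ∀ u u' : ↥E, u' ⤳ u → u' = u := fun u u' h => h.eq
  have key : ∀ e : ↥E, ∃ O : Set ↥W, IsOpen O ∧ j ⁻¹' O = {e} := by
    intro e
    let 𝒰 := W.affineCover
    let i := 𝒰.idx (j e)
    let O₁ : W.Opens := (𝒰.f i).opensRange
    have hO₁ : j e ∈ O₁ := 𝒰.covers (j e)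
    have hO₁c : IsCompact (O₁ : Set ↥W) := (isAffineOpen_opensRange (𝒰.f i)).isCompact
    have hA₁ : (j ⁻¹' (O₁ : Set ↥W)).Finite :=
      (QuasiCompact.isCompact_preimage (f := j) _ O₁.isOpen hO₁c).finite_of_discrete
    let T : Set ↥W := j '' (j ⁻¹' (O₁ : Set ↥W) \ {e})
    have hT : T.Finite := (hA₁.subset Set.diff_subset).image j
    let C : Set ↥W := ⋃ x ∈ T, closure {x}
    have hC : IsClosed C := hT.isClosed_biUnion fun _ _ => isClosed_closure
    refine ⟨(O₁ : Set ↥W) ∩ Cᶜ, O₁.isOpen.inter hC.isOpen_compl, ?_⟩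
    ext x'
    simp only [Set.mem_preimage, Set.mem_inter_iff, Set.mem_compl_iff, Set.mem_singleton_iff]
    constructor
    · rintro ⟨h1, h2⟩
      by_contra hne
      apply h2
      have hx'T : j x' ∈ T := ⟨x', ⟨h1, hne⟩, rfl⟩
      exact Set.mem_biUnion hx'T (subset_closure (Set.mem_singleton _))
    · rintro rfl
      refine ⟨hO₁, ?_⟩
      intro hmem
      rw [Set.mem_iUnion₂] at hmem
      obtain ⟨x, ⟨e', ⟨-, hne⟩, rfl⟩, hx⟩ := hmem
      exact hne (hsp x' e' (specializes_iff_mem_closure.2 hx))
  have hemb : IsEmbedding j := by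
    refine ⟨⟨le_antisymm j.continuous.le_induced ?_⟩, hinj⟩
    rw [TopologicalSpace.le_def]
    intro A _
    rw [isOpen_induced_iff]
    choose O hO hOe using key
    refine ⟨⋃ e ∈ A, O e, isOpen_biUnion fun e _ => hO e, ?_⟩
    ext x
    simp only [Set.preimage_iUnion, Set.mem_iUnion, Set.mem_preimage]
    constructor
    · rintro ⟨e, he, hx⟩
      have hx' : x ∈ j ⁻¹' O e := hx
      rw [hOe e] at hx'
      rw [Set.mem_singleton_iff.1 hx']; exact he
    · intro hx
      refine ⟨x, hx, ?_⟩
      have : x ∈ j ⁻¹' O x := by rw [hOe x]; exact Set.mem_singleton x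
      exact this
  exact { stalkMap_surjective := fun e => stalkMap_surjective_of_mono_of_isField j e
            (isField_stalk_of_no_specializations hnospec e)
          isEmbedding := hemb }

variable {S : Scheme.{u}}

/-- The fibre over a point represented by a quasi-compact monomorphism embeds. -/
theorem isEmbedding_fibre {X Y Xk : Sp S} (hX : IsAlgSpace X) (hY : IsAlgSpace Y) (f : X ⟶ Y)
    (r : FieldPt Y) (hm : Mono r.toHom) (hq : RepWith @QuasiCompact r.toHom)
    (fst : Xk ⟶ X) (snd : Xk ⟶ (yon S).obj r.pt) (hsq : IsPullback fst snd f r.toHom) :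
    IsEmbedding (Points.map fst) ∧
      Set.range (Points.map fst) = Points.map f ⁻¹' {Points.mk r} := by
  haveI := hm
  haveI hmono : Mono fst := hsq.flip.mono_snd_of_mono
  have hinj : Function.Injective (Points.map fst) := by
    intro z z' h
    obtain ⟨K, _, sK, m, rfl⟩ := mk_surjective' z
    obtain ⟨L, _, sL, n, rfl⟩ := mk_surjective' z'
    rw [map_mk_ofHom, map_mk_ofHom, mk_ofHom_eq_iff] at h
    obtain ⟨Ω, _, w, a, b, hab⟩ := h
    rw [mk_ofHom_eq_iff]
    refine ⟨Ω, inferInstance, w, a, b, ?_⟩
    rw [← cancel_mono fst, Category.assoc, Category.assoc]; exact hab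
  have hrange : Set.range (Points.map fst) = Points.map f ⁻¹' {Points.mk r} := by
    ext x
    constructor
    · rintro ⟨z, rfl⟩
      change Points.map f (Points.map fst z) = Points.mk r
      rw [← Points.map_comp, hsq.w, Points.map_comp, map_eq_mk_ofHom, ofHom_toHom]
    · intro hx
      let y : Points ((yon S).obj r.pt) := Points.ofScheme r.pt (IsLocalRing.closedPoint r.K)
      have hy : Points.map f x = Points.map r.toHom y := by
        rw [map_eq_mk_ofHom, ofHom_toHom]; exact hx
      obtain ⟨z, hz, -⟩ := exists_of_isPullback hsq x y hy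
      exact ⟨z, hz⟩
  refine ⟨⟨?_, hinj⟩, hrange⟩
  obtain ⟨W, b, hbe, hbs⟩ := hY.atlas
  obtain ⟨U', p, α, hpe, hps, hcomm⟩ := exists_chart_over hX f b hbe hbs
  have R := hq.rep
  let e := R.fst' b
  let j := R.snd b
  have sqE : IsPullback ((yon S).map e) ((yon S).map j) r.toHom b := R.isPullback' b
  let E : Scheme.{u} := (R.pullback b).left
  let e' : E ⟶ Spec (CommRingCat.of r.K) := e.left
  let j' : E ⟶ W.left := j.left
  haveI hjm : Mono j' := by
    have h1 : Mono ((yon S).map j) := sqE.mono_snd_of_mono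
    have h2 : Mono j := (yon S).mono_of_mono_map h1
    exact (inferInstance : Mono j.left)
  haveI hjq : QuasiCompact j' := hq.property_snd b
  haveI hee : Etale e' := by
    have h1 : RepWith @Etale ((yon S).map e) := repWith_fst_of_isPullback _ sqE hbe
    exact (repWith_yon_map_iff _ _).1 h1
  have hfib : ∀ v : ↥E, Points.ofPt b (j' v) = Points.mk r := by
    intro v
    change Points.ofPt b (j.left v) = Points.mk r
    rw [← ofPt_comp, ← sqE.w, ofPt_comp, Points.ofPt_toHom]
  have hjinj : Function.Injective j' := by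
    haveI : UniversallyInjective j' := inferInstance
    exact j'.injective
  have hsp : ∀ v v' : ↥E, j' v' ⤳ j' v → v' = v := by
    intro v v' hs
    have := eq_of_specializes_of_finite_fibres (Points.mk r) (fun V c hV hc => by
        haveI : CompactSpace ↥V.left := by haveI := hV; infer_instance
        exact finite_fibre_of_qc_point r hq c hc) b hbe (j' v) (j' v') (hfib v) (hfib v') hs
    exact (hjinj this).symm
  haveI hpre : IsPreimmersion j' := isPreimmersion_of_mono_of_etale_field (K := r.K) j' e' hsp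
  let ε := R.fst' (p ≫ f)
  let ι := R.snd (p ≫ f)
  have sqV : IsPullback ((yon S).map ε) ((yon S).map ι) r.toHom (p ≫ f) := R.isPullback' (p ≫ f)
  have hβ0 : (yon S).map ε ≫ r.toHom = ((yon S).map ι ≫ (yon S).map α) ≫ b := by
    rw [sqV.w, Category.assoc]
    exact congrArg (fun t => (yon S).map ι ≫ t) hcomm
  obtain ⟨β, hβ⟩ := (yon S).map_surjective
    (sqE.lift ((yon S).map ε) ((yon S).map ι ≫ (yon S).map α) hβ0)
  have hβ1 : (yon S).map β ≫ (yon S).map e = (yon S).map ε := by rw [hβ, sqE.lift_fst]
  have hβ2 : (yon S).map β ≫ (yon S).map j = (yon S).map ι ≫ (yon S).map α := by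
    rw [hβ, sqE.lift_snd]
  have sqL : IsPullback ((yon S).map β) ((yon S).map ι) ((yon S).map j) ((yon S).map α) := by
    refine IsPullback.of_right ?_ hβ2 sqE
    rw [hβ1, ← hcomm]; exact sqV
  have hβ3 : β ≫ j = ι ≫ α := by
    apply (yon S).map_injective
    rw [Functor.map_comp, Functor.map_comp]; exact hβ2
  have sqL' : IsPullback β ι j α := IsPullback.of_map (yon S) hβ3 sqL
  have sqL'' : IsPullback β.left ι.left j.left α.left := sqL'.map (Over.forget S)
  haveI hιpre : IsPreimmersion ι.left :=
    MorphismProperty.of_isPullback (P := @IsPreimmersion) sqL'' hpre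
  let b' : (yon S).obj (R.pullback (p ≫ f)) ⟶ Xk :=
    hsq.lift ((yon S).map ι ≫ p) ((yon S).map ε) (by rw [Category.assoc]; exact sqV.w.symm)
  have hb'1 : b' ≫ fst = (yon S).map ι ≫ p := hsq.lift_fst _ _ _
  have hb'2 : b' ≫ snd = (yon S).map ε := hsq.lift_snd _ _ _
  have sqT : IsPullback b' ((yon S).map ι) fst p := by
    have big : IsPullback ((yon S).map ι) (b' ≫ snd) (p ≫ f) r.toHom := by
      rw [hb'2]; exact sqV.flip
    exact (IsPullback.of_bot big hb'1.symm hsq).flip
  have hb's : RepWith @Surjective b' := repWith_fst_of_isPullback _ sqT hps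
  have comm : ∀ v, Points.map fst (Points.ofPt b' v) = Points.ofPt p (ι.left v) := by
    intro v
    rw [Points.map_ofPt, hb'1, ofPt_comp]
  have cart : ∀ (z : Points Xk) (u : ↥U'.left), Points.map fst z = Points.ofPt p u →
      ∃ v, Points.ofPt b' v = z ∧ ι.left v = u :=
    fun z u h => exists_of_isPullback_chart sqT z u h
  exact isInducing_of_square (ι := ι.left) (q := Points.ofPt b') (p := Points.ofPt p)
    ι.left.isEmbedding.isInducing (Points.continuous_ofPt _) (ofPt_surjective _ hb's)
    (isOpenMap_ofPt_of_etale p hpe) (Points.continuous_map fst) comm cart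

end Groth.Agent.Lib.AlgSpFibEmb_helper6
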