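import Groth.Agent.Lib.FieldQuot5_helper6

/-!
# Finite fibres from finite base changes to field points (helper6)
-/

set_option autoImplicit false
universe u
open CategoryTheory CategoryTheory.Limits AlgebraicGeometry Opposite TensorProduct

namespace Groth.Agent.Lib.FieldQuot6H6

open AlgSp Groth.Agent.Lib.FieldQuot2H6 Groth.Agent.Lib.FieldQuot3H6 Groth.Agent.Lib.FieldQuot4H6
  Groth.Agent.Lib.AlgSpPoints_helper7

variable {S : Scheme.{u}}

/-- The base change of an étale chart to a field point is a finite set when it is finite over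
the field. -/
theorem finite_pullback_of_isFinite {X : Sp S} (q : FieldPt X) {U : Over S}
    (φ : (yon S).obj U ⟶ X) (hφ : RepWith @Etale φ)
    (hfin : IsFinite (hφ.rep.snd q.toHom).left) : Finite ↥(hφ.rep.pullback q.toHom).left := by
  haveI : Etale (hφ.rep.snd q.toHom).left := hφ.property_snd q.toHom
  haveI := hfin
  haveI : CompactSpace ↥q.pt.left :=
    inferInstanceAs (CompactSpace ↥(Spec (CommRingCat.of q.K)))
  haveI : CompactSpace ↥(hφ.rep.pullback q.toHom).left :=
    QuasiCompact.compactSpace_of_compactSpace (hφ.rep.snd q.toHom).left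
  exact finite_of_etale_of_compactSpace q.K
    ((hφ.rep.snd q.toHom).left : _ ⟶ Spec (CommRingCat.of q.K))

/-- The fibre of a chart over a field point whose base change is finite. -/
theorem finite_fibre_of_isFinite {X : Sp S} (q : FieldPt X) {U : Over S}
    (φ : (yon S).obj U ⟶ X) (hφ : RepWith @Etale φ)
    (hfin : IsFinite (hφ.rep.snd q.toHom).left) : (Points.ofPt φ ⁻¹' {Points.mk q}).Finite := by
  have sqP := hφ.rep.isPullback' q.toHom
  haveI := finite_pullback_of_isFinite q φ hφ hfin
  refine (Set.finite_range (hφ.rep.fst' q.toHom).left).subset ?_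
  intro u hu
  obtain ⟨s₀⟩ := nonempty_spec_field q.K
  have h : Points.ofPt φ u = Points.ofPt q.toHom s₀ := by
    rw [Points.ofPt_toHom]; exact hu
  obtain ⟨w, hw, -⟩ := exists_ofPt_eq_of_isPullback sqP u s₀ h
  exact ⟨w, hw⟩

/-- The fibre of the projection `t : R ⟶ U` of the kernel pair of a chart over a point whose
base change is finite. -/
theorem finite_preimage_of_isFinite {X : Sp S} {U : Over S} (φ : (yon S).obj U ⟶ X)
    (hφ : RepWith @Etale φ) (u' : ↥U.left)
    (hfin : IsFinite (hφ.rep.snd (FieldPt.ofPt φ u').toHom).left) {R : Over S} (s t : R ⟶ U)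
    (sqR : IsPullback ((yon S).map t) ((yon S).map s) φ φ) :
    {r : ↥R.left | t.left r = u'}.Finite := by
  have sqP := hφ.rep.isPullback' (FieldPt.ofPt φ u').toHom
  let ι' : (FieldPt.ofPt φ u').pt ⟶ U := Over.homMk (U.left.fromSpecResidueField u') rfl
  have hq : (FieldPt.ofPt φ u').toHom = (yon S).map ι' ≫ φ := FieldPt.toHom_ofPt φ u'
  have hw : (yon S).map (hφ.rep.snd (FieldPt.ofPt φ u').toHom ≫ ι') ≫ φ =
      (yon S).map (hφ.rep.fst' (FieldPt.ofPt φ u').toHom) ≫ φ := by
    rw [Functor.map_comp, Category.assoc, ← hq]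
    exact sqP.w.symm
  obtain ⟨m, hm⟩ := (yon S).map_surjective (sqR.lift _ _ hw)
  have hmt : m ≫ t = hφ.rep.snd (FieldPt.ofPt φ u').toHom ≫ ι' :=
    (yon S).map_injective (by rw [Functor.map_comp, hm, sqR.lift_fst])
  have hms : m ≫ s = hφ.rep.fst' (FieldPt.ofPt φ u').toHom :=
    (yon S).map_injective (by rw [Functor.map_comp, hm, sqR.lift_snd])
  have sqL : IsPullback ((yon S).map m) ((yon S).map (hφ.rep.snd (FieldPt.ofPt φ u').toHom))
      ((yon S).map t) ((yon S).map ι') := by
    refine IsPullback.of_right ?_ ?_ sqR.flip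
    · rw [← Functor.map_comp, hms, ← hq]
      exact sqP
    · rw [← Functor.map_comp, ← Functor.map_comp, hmt]
  haveI := finite_pullback_of_isFinite (FieldPt.ofPt φ u') φ hφ hfin
  refine (Set.finite_range m.left).subset ?_
  intro r hr
  obtain ⟨s₀⟩ := nonempty_spec_field (FieldPt.ofPt φ u').K
  have h : Points.ofPt ((yon S).map t) r = Points.ofPt ((yon S).map ι') s₀ := by
    rw [ofPt_yon_map, ofPt_yon_map]
    congr 1
    exact hr.trans (Scheme.fromSpecResidueField_apply u' s₀).symm
  obtain ⟨v, hv, -⟩ := exists_ofPt_eq_of_isPullback sqL r s₀ h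
  exact ⟨v, hv⟩

/-- The fibre of the relation over a point all of whose lifts to the chart have finite base
change. -/
theorem finite_relation_total_fibre' {X : Sp S} {U : Over S} (φ : (yon S).obj U ⟶ X)
    (hφ : RepWith @Etale φ) (x : Points X) (hU : (Points.ofPt φ ⁻¹' {x}).Finite)
    (hfin : ∀ u' ∈ Points.ofPt φ ⁻¹' {x},
      IsFinite (hφ.rep.snd (FieldPt.ofPt φ u').toHom).left) {R : Over S} (s t : R ⟶ U)
    (sqR : IsPullback ((yon S).map t) ((yon S).map s) φ φ) :
    (Points.ofPt ((yon S).map t ≫ φ) ⁻¹' {x}).Finite := by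
  have hsub : Points.ofPt ((yon S).map t ≫ φ) ⁻¹' {x} ⊆
      ⋃ u' ∈ (Points.ofPt φ ⁻¹' {x}), {r : ↥R.left | t.left r = u'} := by
    intro r hr
    have h1 : Points.ofPt φ (t.left r) = x := by
      rw [← ofPt_comp]; exact hr
    simp only [Set.mem_iUnion]
    exact ⟨t.left r, h1, rfl⟩
  exact (Set.Finite.biUnion hU fun u' hu' =>
    finite_preimage_of_isFinite φ hφ u' (hfin u' hu') s t sqR).subset hsub

end Groth.Agent.Lib.FieldQuot6H6
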