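import Groth.Agent.Lib.AlgSpClosedPt2_helper6
import Groth.Agent.Lib.FieldQuot6_helper6

/-!
# Finiteness of the set of points of a fibre product over a pair of points (helper6)
-/

set_option autoImplicit false
universe u
open CategoryTheory CategoryTheory.Limits AlgebraicGeometry Opposite TopologicalSpace

namespace Groth.Agent.Lib.AlgSpFibProdFinH6

open AlgSp Groth.Agent.Lib.AlgSpPoints_helper7 Groth.Agent.Lib.AlgSpQC_helper7
  Groth.Agent.Lib.AlgSpPullback_helper7 Groth.Agent.Lib.AlgSpBasic_helper7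
  Groth.Agent.Lib.AlgSpEtale_helper7 Groth.Agent.Lib.AlgSpDecent3_helper6
  Groth.Agent.Lib.FieldQuot3H6

variable {S : Scheme.{u}}

/-- a scheme locally quasi-finite over the spectrum of a field is discrete -/
theorem discreteTopology_of_lqf_field {F : Scheme.{u}} {K : Type u} [Field K]
    (r : F ⟶ Spec (CommRingCat.of K)) [LocallyQuasiFinite r] : DiscreteTopology ↥F := by
  rcases isEmpty_or_nonempty ↥F with hF | ⟨⟨f⟩⟩
  · infer_instance
  have hd := r.isDiscrete_preimage_singleton (r f)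
  have huniv : r ⁻¹' {r f} = Set.univ := by
    ext y
    simp only [Set.mem_preimage, Set.mem_singleton_iff, Set.mem_univ, iff_true]
    exact Subsingleton.elim _ _
  rw [huniv] at hd
  exact isDiscrete_univ_iff.1 hd

/-- the residue field of a point of a scheme locally quasi-finite and locally of finite type over
a field is finite over the field -/
theorem isFinite_fromSpecResidueField_comp_of_lqf_field {F : Scheme.{u}} {K : Type u} [Field K]
    (r : F ⟶ Spec (CommRingCat.of K)) [LocallyQuasiFinite r] [LocallyOfFiniteType r] (w : ↥F) :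
    IsFinite (F.fromSpecResidueField w ≫ r) := by
  haveI : DiscreteTopology ↥F := discreteTopology_of_lqf_field r
  haveI : IsClosedImmersion (F.fromSpecResidueField w) :=
    isClosed_singleton_iff_isClosedImmersion.mp (isClosed_discrete _)
  haveI : JacobsonSpace ↥(Spec (CommRingCat.of K)) := by
    change JacobsonSpace (PrimeSpectrum K)
    rw [← PrimeSpectrum.isJacobsonRing_iff_jacobsonSpace]
    infer_instance
  exact (isFinite_iff_locallyOfFiniteType_of_jacobsonSpace).2 inferInstance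

/-- two field extensions of a field over `S` have a common extension -/
theorem exists_common_ext {Ω Ω₁ Ω₂ : Type u} [Field Ω] [Field Ω₁] [Field Ω₂]
    {sΩ : Spec (CommRingCat.of Ω) ⟶ S} {s₁ : Spec (CommRingCat.of Ω₁) ⟶ S}
    {s₂ : Spec (CommRingCat.of Ω₂) ⟶ S}
    (a₁ : Over.mk s₁ ⟶ Over.mk sΩ) (a₂ : Over.mk s₂ ⟶ Over.mk sΩ) :
    ∃ (Ω₃ : Type u) (_ : Field Ω₃) (s₃ : Spec (CommRingCat.of Ω₃) ⟶ S)
      (c₁ : Over.mk s₃ ⟶ Over.mk s₁) (c₂ : Over.mk s₃ ⟶ Over.mk s₂), c₁ ≫ a₁ = c₂ ≫ a₂ := by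
  haveI := subsingleton_spec_field Ω
  have h : Points.mk (ofHom ((yon S).map a₁)) = Points.mk (ofHom ((yon S).map a₂)) := by
    apply (Points.schemeEquiv (Over.mk sΩ)).symm.injective
    exact Subsingleton.elim (α := ↥(Spec (CommRingCat.of Ω))) _ _
  rw [mk_ofHom_eq_iff] at h
  obtain ⟨Ω₃, i, s₃, c₁, c₂, hc⟩ := h
  refine ⟨Ω₃, i, s₃, c₁, c₂, ?_⟩
  apply (yon S).map_injective
  rw [Functor.map_comp, Functor.map_comp, hc]

/-- Points of a fibre product `X ×_Y Z` over a pair `(x, z)`, where the common image in `Y` is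
represented by a monomorphism from a field and `Z ⟶ Y` is quasi-finite at `z`, are finite in
number. -/
theorem finite_points_over_pair {X Y Z W : Sp S} (hY : IsAlgSpace Y) (f : X ⟶ Y) (g : Z ⟶ Y)
    (p : W ⟶ X) (q : W ⟶ Z) (hW : IsPullback p q f g) (x : Points X) (z : Points Z)
    (hxz : Points.map f x = Points.map g z)
    (r : FieldPt Y) (hr : Points.mk r = Points.map g z) (hm : Mono r.toHom)
    (hg : HasAtMor (fun U _ h u => ∃ W : U.Opens, u ∈ W ∧ LocallyQuasiFinite (W.ι ≫ h) ∧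
      LocallyOfFiniteType (W.ι ≫ h)) g z) :
    {w : Points W | Points.map p w = x ∧ Points.map q w = z}.Finite := by
  obtain ⟨U, V, a, b, h, u, hae, hbe, hcomm, hu, W₀, huW, hlqf, hlft⟩ := hg
  let U₀ : Over S := Over.mk (W₀.ι ≫ U.hom)
  let ι₀ : U₀ ⟶ U := Over.homMk W₀.ι rfl
  let h₀ : U₀ ⟶ V := ι₀ ≫ h
  let u₀ : ↥U₀.left := ⟨u, huW⟩
  have hu₀ : ι₀.left u₀ = u := rfl
  obtain ⟨φ, hφ0⟩ : ∃ φ : (yon S).obj U₀ ⟶ Y, φ = (yon S).map h₀ ≫ b := ⟨_, rfl⟩
  have hφ : (yon S).map ι₀ ≫ a ≫ g = φ := by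
    rw [hφ0]
    change _ = (yon S).map (ι₀ ≫ h) ≫ b
    rw [hcomm, ← Category.assoc, ← Functor.map_comp]
  have Rr : Representable r.toHom := hY.representable_from_yon _
  have hle1 : @Etale ≤ @LocallyQuasiFinite := fun _ _ t ht => by
    haveI : Etale t := ht
    exact locallyQuasiFinite_of_unramified t
  have hle2 : @Etale ≤ @LocallyOfFiniteType := fun _ _ t ht => by
    haveI : Etale t := ht
    infer_instance
  have hφ1 : RepWith @LocallyQuasiFinite φ := by
    rw [hφ0]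
    exact repWith_comp _ ((repWith_yon_map_iff _ _).2 hlqf) (repWith_mono hle1 hbe)
  have hφ2 : RepWith @LocallyOfFiniteType φ := by
    rw [hφ0]
    exact repWith_comp _ ((repWith_yon_map_iff _ _).2 hlft) (repWith_mono hle2 hbe)
  let ρ := Rr.fst' φ
  let σ := Rr.snd φ
  have sq : IsPullback ((yon S).map ρ) ((yon S).map σ) r.toHom φ := Rr.isPullback' φ
  let F₀ : Scheme.{u} := (Rr.pullback φ).left
  let ρ' : F₀ ⟶ Spec (CommRingCat.of r.K) := ρ.left
  haveI : LocallyQuasiFinite ρ' :=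
    (repWith_yon_map_iff _ _).1 (repWith_fst_of_isPullback _ sq hφ1)
  haveI : LocallyOfFiniteType ρ' :=
    (repWith_yon_map_iff _ _).1 (repWith_fst_of_isPullback _ sq hφ2)
  obtain ⟨s₀⟩ := nonempty_spec_field r.K
  have hpt : Points.ofPt r.toHom s₀ = Points.ofPt φ u₀ := by
    rw [Points.ofPt_toHom, hr, ← hu, ← hφ, ofPt_comp]
    rfl
  obtain ⟨u', hu'1, hu'2⟩ := exists_ofPt_eq_of_isPullback sq s₀ u₀ hpt
  -- the representative of `z`
  let az : (yon S).obj (Rr.pullback φ) ⟶ Z := (yon S).map σ ≫ (yon S).map ι₀ ≫ a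
  let pz : FieldPt Z := FieldPt.ofPt az u'
  have hpz : Points.mk pz = z := by
    change Points.ofPt ((yon S).map σ ≫ (yon S).map ι₀ ≫ a) u' = z
    rw [ofPt_comp, ofPt_comp, hu'2]
    exact hu
  let ι' : pz.pt ⟶ Rr.pullback φ := Over.homMk (F₀.fromSpecResidueField u') rfl
  have hpz' : pz.toHom = (yon S).map ι' ≫ az := FieldPt.toHom_ofPt az u'
  let cz : pz.pt ⟶ r.pt := ι' ≫ ρ
  have hcz : (yon S).map cz ≫ r.toHom = pz.toHom ≫ g := by
    change (yon S).map (ι' ≫ ρ) ≫ r.toHom = _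
    rw [hpz', Functor.map_comp, Category.assoc, sq.w]
    simp only [az, Category.assoc]
    rw [hφ]
  haveI hczfin : IsFinite cz.left := by
    change IsFinite (F₀.fromSpecResidueField u' ≫ ρ')
    exact isFinite_fromSpecResidueField_comp_of_lqf_field ρ' u'
  -- the representative of `x`
  obtain ⟨K, _, sK, mx, rfl⟩ := mk_surjective' x
  have hx' : Points.mk (ofHom (mx ≫ f)) = Points.mk r := by rw [← map_mk_ofHom, hxz, hr]
  obtain ⟨cx, hcx⟩ : ∃ cx : Over.mk sK ⟶ r.pt, (yon S).map cx ≫ r.toHom = mx ≫ f := by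
    obtain ⟨cx, hcx⟩ := exists_factor_of_mono r (ofHom (mx ≫ f)) hm Rr hx'
    rw [toHom_ofHom] at hcx
    exact ⟨cx, hcx⟩
  -- the fibre product of the two field points over `Spec k`
  let T : Over S := Over.mk (pullback.fst cx.left cz.left ≫ sK)
  let prK : T ⟶ Over.mk sK := Over.homMk (pullback.fst cx.left cz.left) rfl
  have hsL : pullback.snd cx.left cz.left ≫ pz.str = pullback.fst cx.left cz.left ≫ sK := by
    have h1 : cx.left ≫ r.str = sK := Over.w cx
    have h2 : cz.left ≫ r.str = pz.str := Over.w cz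
    calc pullback.snd cx.left cz.left ≫ pz.str
        = pullback.snd cx.left cz.left ≫ cz.left ≫ r.str := by rw [h2]
      _ = pullback.fst cx.left cz.left ≫ cx.left ≫ r.str := by
          rw [← Category.assoc, ← pullback.condition, Category.assoc]
      _ = pullback.fst cx.left cz.left ≫ sK := by rw [h1]
  let prL : T ⟶ pz.pt := Over.homMk (pullback.snd cx.left cz.left) hsL
  have hpr : prK ≫ cx = prL ≫ cz := Over.OverMorphism.ext pullback.condition
  haveI hTfin : Finite ↥T.left := by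
    let fstK : pullback cx.left cz.left ⟶ Spec (CommRingCat.of K) := pullback.fst cx.left cz.left
    haveI : IsFinite fstK :=
      MorphismProperty.pullback_fst (P := @IsFinite) _ _ hczfin
    haveI := subsingleton_spec_field K
    obtain ⟨k₀⟩ := nonempty_spec_field K
    have hfin := fstK.finite_preimage_singleton k₀
    have huniv : fstK ⁻¹' {k₀} = Set.univ := by
      ext y
      simp only [Set.mem_preimage, Set.mem_singleton_iff, Set.mem_univ, iff_true]
      exact Subsingleton.elim _ _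
    rw [huniv] at hfin
    exact Set.finite_univ_iff.1 hfin
  have hτ : ((yon S).map prK ≫ mx) ≫ f = ((yon S).map prL ≫ pz.toHom) ≫ g := by
    rw [Category.assoc, Category.assoc, ← hcx, ← hcz, ← Category.assoc, ← Category.assoc,
      ← Functor.map_comp, ← Functor.map_comp, hpr]
  let τ : (yon S).obj T ⟶ W := hW.lift _ _ hτ
  have hτ1 : τ ≫ p = (yon S).map prK ≫ mx := hW.lift_fst _ _ hτ
  have hτ2 : τ ≫ q = (yon S).map prL ≫ pz.toHom := hW.lift_snd _ _ hτ
  refine (Set.finite_range (Points.ofPt τ)).subset ?_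
  rintro w ⟨hw1, hw2⟩
  obtain ⟨Ω, _, sΩ, mw, rfl⟩ := mk_surjective' w
  rw [map_mk_ofHom, mk_ofHom_eq_iff] at hw1
  obtain ⟨Ω₁, _, s₁, a₁, b₁, h₁⟩ := hw1
  have hw2' : Points.mk (ofHom (mw ≫ q)) = Points.mk (ofHom pz.toHom) := by
    rw [← map_mk_ofHom, hw2, ofHom_toHom, hpz]
  rw [mk_ofHom_eq_iff] at hw2'
  obtain ⟨Ω₂, _, s₂, a₂, b₂, h₂⟩ := hw2'
  obtain ⟨Ω₃, _, s₃, c₁, c₂, hc⟩ := exists_common_ext a₁ a₂
  obtain ⟨e, he⟩ : ∃ e : Over.mk s₃ ⟶ Over.mk sΩ, e = c₁ ≫ a₁ := ⟨_, rfl⟩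
  have e1 : (yon S).map e ≫ mw ≫ p = (yon S).map (c₁ ≫ b₁) ≫ mx := by
    rw [he, Functor.map_comp, Functor.map_comp, Category.assoc, h₁, Category.assoc]
  have e2 : (yon S).map e ≫ mw ≫ q = (yon S).map (c₂ ≫ b₂) ≫ pz.toHom := by
    rw [he, hc, Functor.map_comp, Functor.map_comp, Category.assoc, h₂, Category.assoc]
  have hb : (c₁ ≫ b₁) ≫ cx = (c₂ ≫ b₂) ≫ cz := by
    apply (yon S).map_injective
    haveI := hm
    rw [← cancel_mono r.toHom]
    calc (yon S).map ((c₁ ≫ b₁) ≫ cx) ≫ r.toHom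
        = (yon S).map (c₁ ≫ b₁) ≫ mx ≫ f := by rw [Functor.map_comp, Category.assoc, hcx]
      _ = (yon S).map e ≫ mw ≫ p ≫ f := by
          simpa only [Category.assoc] using (congrArg (fun m => m ≫ f) e1).symm
      _ = (yon S).map e ≫ mw ≫ q ≫ g := by rw [hW.w]
      _ = (yon S).map (c₂ ≫ b₂) ≫ pz.toHom ≫ g := by
          simpa only [Category.assoc] using congrArg (fun m => m ≫ g) e2
      _ = (yon S).map ((c₂ ≫ b₂) ≫ cz) ≫ r.toHom := by
          rw [(yon S).map_comp (c₂ ≫ b₂) cz, Category.assoc, hcz]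
  let d : Over.mk s₃ ⟶ T := Over.homMk
    (pullback.lift (c₁ ≫ b₁).left (c₂ ≫ b₂).left (congrArg (fun m => m.left) hb)) (by
      change pullback.lift _ _ _ ≫ pullback.fst cx.left cz.left ≫ sK = s₃
      rw [pullback.lift_fst_assoc]
      exact Over.w (c₁ ≫ b₁))
  have hd1 : d ≫ prK = c₁ ≫ b₁ := Over.OverMorphism.ext (pullback.lift_fst _ _ _)
  have hd2 : d ≫ prL = c₂ ≫ b₂ := Over.OverMorphism.ext (pullback.lift_snd _ _ _)
  have hdτ : (yon S).map d ≫ τ = (yon S).map e ≫ mw := by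
    apply hW.hom_ext
    · rw [Category.assoc, hτ1, ← Category.assoc, ← Functor.map_comp, hd1, Category.assoc, e1]
    · rw [Category.assoc, hτ2, ← Category.assoc, ← Functor.map_comp, hd2, Category.assoc, e2]
  refine ⟨d.left (IsLocalRing.closedPoint Ω₃), ?_⟩
  rw [ofPt_eq_mk_ofHom, hdτ, mk_ofHom_comp]

end Groth.Agent.Lib.AlgSpFibProdFinH6
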