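import Groth.Agent.Lib.FibreFlat_helper7
import Groth.Agent.Lib.AlgSpLocP4_helper7
import Groth.Agent.Lib.AlgSpQC_helper7

/-!
# Fibrewise criterion of flatness for locally Noetherian algebraic spaces (helper7)
-/

set_option autoImplicit false
universe u
open CategoryTheory CategoryTheory.Limits AlgebraicGeometry Opposite
open AlgSp Groth.Agent.Lib.AlgSpPoints_helper7 Groth.Agent.Lib.AlgSpPullback_helper7
  Groth.Agent.Lib.AlgSpQC_helper7 Groth.Agent.Lib.AlgSpLocP4_helper7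

namespace Groth.Agent.Lib.AlgSpFibreFlatH7

variable {S : Scheme.{u}}

/-- The fibre of a chart of the form `U = U₁ ×_Z W` over `t : T ⟶ W` is an étale chart of the
fibre of `X` over `T`. -/
theorem repWith_etale_fibre_chart {X Z : Sp S} (φ : X ⟶ Z) {U1 U W T : Over S}
    (a1 : (yon S).obj U1 ⟶ X) (ha1 : RepWith @Etale a1) (c : (yon S).obj W ⟶ Z)
    (kU : U ⟶ W) (sU : U ⟶ U1)
    (sqU : IsPullback ((yon S).map kU) ((yon S).map sU) c (a1 ≫ φ))
    (t : T ⟶ W) {Ut : Over S} (uf : Ut ⟶ U) (ut : Ut ⟶ T) (sqt : IsPullback uf ut kU t)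
    (at' : (yon S).obj Ut ⟶ pullback φ ((yon S).map t ≫ c))
    (h1 : at' ≫ pullback.fst φ ((yon S).map t ≫ c) = (yon S).map uf ≫ (yon S).map sU ≫ a1)
    (h2 : at' ≫ pullback.snd φ ((yon S).map t ≫ c) = (yon S).map ut) :
    RepWith @Etale at' := by
  have sqUt : IsPullback ((yon S).map uf) ((yon S).map ut) ((yon S).map kU) ((yon S).map t) :=
    IsPullback.map (yon S) sqt
  have big : IsPullback ((yon S).map ut) ((yon S).map uf ≫ (yon S).map sU) ((yon S).map t ≫ c)
      (a1 ≫ φ) := sqUt.flip.paste_vert sqU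
  have sqX := IsPullback.of_hasPullback φ ((yon S).map t ≫ c)
  have sqA : IsPullback at' ((yon S).map uf ≫ (yon S).map sU)
      (pullback.fst φ ((yon S).map t ≫ c)) a1 := by
    refine IsPullback.of_right ?_ ?_ sqX.flip
    · rw [h2]; exact big
    · rw [h1, Category.assoc]
  exact repWith_fst_of_isPullback _ sqA ha1

/-- Scheme-level fibre data for the chart diagram, from flatness of the fibre morphism of
algebraic spaces. -/
theorem fibre_data {X Y Z : Sp S} (f : X ⟶ Y) (h : Y ⟶ Z) {U1 V0 U V W T : Over S}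
    (a1 : (yon S).obj U1 ⟶ X) (b0 : (yon S).obj V0 ⟶ Y) (c : (yon S).obj W ⟶ Z) (g1 : U1 ⟶ V0)
    (ha1 : RepWith @Etale a1) (hb0 : RepWith @Etale b0) (comm1 : a1 ≫ f = (yon S).map g1 ≫ b0)
    (kU : U ⟶ W) (sU : U ⟶ U1) (kV : V ⟶ W) (sV : V ⟶ V0) (g : U ⟶ V)
    (sqU : IsPullback ((yon S).map kU) ((yon S).map sU) c (a1 ≫ f ≫ h))
    (sqV : IsPullback ((yon S).map kV) ((yon S).map sV) c (b0 ≫ h))
    (hg1 : g ≫ kV = kU) (hg2 : g ≫ sV = sU ≫ g1) (t : T ⟶ W)
    (fz : pullback (f ≫ h) ((yon S).map t ≫ c) ⟶ pullback h ((yon S).map t ≫ c))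
    (hfz1 : fz ≫ pullback.fst h ((yon S).map t ≫ c) =
      pullback.fst (f ≫ h) ((yon S).map t ≫ c) ≫ f)
    (hfz2 : fz ≫ pullback.snd h ((yon S).map t ≫ c) = pullback.snd (f ≫ h) ((yon S).map t ≫ c))
    (hfz : LocP @Flat fz) :
    ∃ (Uw Vw : Scheme.{u}) (p1 : Uw ⟶ U.left) (p2 : Uw ⟶ T.left) (q1 : Vw ⟶ V.left)
      (q2 : Vw ⟶ T.left) (gw : Uw ⟶ Vw), IsPullback p1 p2 (g.left ≫ kV.left) t.left ∧
      IsPullback q1 q2 kV.left t.left ∧ gw ≫ q1 = p1 ≫ g.left ∧ gw ≫ q2 = p2 ∧ Flat gw := by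
  subst hg1
  have sqUt := IsPullback.of_hasPullback (g ≫ kV) t
  have sqVt := IsPullback.of_hasPullback kV t
  obtain ⟨gt, hgt1, hgt2⟩ : ∃ gt : pullback (g ≫ kV) t ⟶ pullback kV t,
      gt ≫ pullback.fst kV t = pullback.fst (g ≫ kV) t ≫ g ∧
      gt ≫ pullback.snd kV t = pullback.snd (g ≫ kV) t :=
    ⟨pullback.lift (pullback.fst (g ≫ kV) t ≫ g) (pullback.snd (g ≫ kV) t) (by
      rw [Category.assoc, pullback.condition]), pullback.lift_fst _ _ _, pullback.lift_snd _ _ _⟩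
  obtain ⟨at', hat1, hat2⟩ : ∃ at' : (yon S).obj (pullback (g ≫ kV) t) ⟶
      pullback (f ≫ h) ((yon S).map t ≫ c),
      at' ≫ pullback.fst _ _ = (yon S).map (pullback.fst (g ≫ kV) t) ≫ (yon S).map sU ≫ a1 ∧
      at' ≫ pullback.snd _ _ = (yon S).map (pullback.snd (g ≫ kV) t) :=
    ⟨pullback.lift ((yon S).map (pullback.fst (g ≫ kV) t) ≫ (yon S).map sU ≫ a1)
      ((yon S).map (pullback.snd (g ≫ kV) t)) (by
        rw [Category.assoc, Category.assoc, ← sqU.w, ← Category.assoc,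
          ← CategoryTheory.Functor.map_comp, pullback.condition,
          CategoryTheory.Functor.map_comp, Category.assoc]),
      pullback.lift_fst _ _ _, pullback.lift_snd _ _ _⟩
  have hate : RepWith @Etale at' :=
    repWith_etale_fibre_chart (f ≫ h) a1 ha1 c (g ≫ kV) sU sqU t _ _ sqUt at' hat1 hat2
  obtain ⟨bt, hbt1, hbt2⟩ : ∃ bt : (yon S).obj (pullback kV t) ⟶
      pullback h ((yon S).map t ≫ c),
      bt ≫ pullback.fst _ _ = (yon S).map (pullback.fst kV t) ≫ (yon S).map sV ≫ b0 ∧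
      bt ≫ pullback.snd _ _ = (yon S).map (pullback.snd kV t) :=
    ⟨pullback.lift ((yon S).map (pullback.fst kV t) ≫ (yon S).map sV ≫ b0)
      ((yon S).map (pullback.snd kV t)) (by
        rw [Category.assoc, Category.assoc, ← sqV.w, ← Category.assoc,
          ← CategoryTheory.Functor.map_comp, pullback.condition,
          CategoryTheory.Functor.map_comp, Category.assoc]),
      pullback.lift_fst _ _ _, pullback.lift_snd _ _ _⟩
  have hbte : RepWith @Etale bt :=
    repWith_etale_fibre_chart h b0 hb0 c kV sV sqV t _ _ sqVt bt hbt1 hbt2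
  have e1 : (yon S).map gt ≫ (yon S).map (pullback.fst kV t) =
      (yon S).map (pullback.fst (g ≫ kV) t) ≫ (yon S).map g := by
    rw [← CategoryTheory.Functor.map_comp, hgt1, CategoryTheory.Functor.map_comp]
  have e2 : (yon S).map g ≫ (yon S).map sV = (yon S).map sU ≫ (yon S).map g1 := by
    rw [← CategoryTheory.Functor.map_comp, hg2, CategoryTheory.Functor.map_comp]
  have comm_t : at' ≫ fz = (yon S).map gt ≫ bt := by
    apply pullback.hom_ext
    · rw [Category.assoc, hfz1, reassoc_of% hat1, comm1, Category.assoc, hbt1, reassoc_of% e1,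
        reassoc_of% e2]
    · rw [Category.assoc, hfz2, hat2, Category.assoc, hbt2, ← CategoryTheory.Functor.map_comp,
        hgt2]
  have hflat : Flat gt.left := hfz at' bt gt hate hbte comm_t
  refine ⟨(pullback (g ≫ kV) t).left, (pullback kV t).left, (pullback.fst (g ≫ kV) t).left,
    (pullback.snd (g ≫ kV) t).left, (pullback.fst kV t).left, (pullback.snd kV t).left, gt.left,
    sqUt.map (Over.forget S), sqVt.map (Over.forget S), ?_, ?_, hflat⟩
  · exact congrArg CommaMorphism.left hgt1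
  · exact congrArg CommaMorphism.left hgt2

theorem main {X Y Z : Space S} (f : X ⟶ Y) (h : Y ⟶ Z)
    (hX : IsLocNoethSp X.obj) (hYn : IsLocNoethSp Y.obj) (hZ : IsLocNoethSp Z.obj)
    (hfl : LocP @Flat (f ≫ h).hom)
    (hfib : ∀ (K : Type u) [Field K] (sK : Spec (CommRingCat.of K) ⟶ S)
      (z : (yon S).obj (Over.mk sK) ⟶ Z.obj) (Xz Yz : Sp S)
      (pX : Xz ⟶ X.obj) (qX : Xz ⟶ (yon S).obj (Over.mk sK))
      (pY : Yz ⟶ Y.obj) (qY : Yz ⟶ (yon S).obj (Over.mk sK)) (fz : Xz ⟶ Yz),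
      IsPullback pX qX (f ≫ h).hom z → IsPullback pY qY h.hom z → fz ≫ pY = pX ≫ f.hom →
      fz ≫ qY = qX → LocP @Flat fz) :
    LocP @Flat f.hom ∧ (IsSurjectiveMor f.hom → LocP @Flat h.hom) := by
  obtain ⟨W, c, hce, hcs, hWn⟩ := hZ
  obtain ⟨V0, b0, hb0e, hb0s, hV0n⟩ := hYn
  obtain ⟨X0, a0, ha0e, ha0s, hX0n⟩ := hX
  obtain ⟨U1, g1, s1, sq1, hs1e, hs1s⟩ : ∃ (U1 : Over S) (g1 : U1 ⟶ V0) (s1 : U1 ⟶ X0),
      IsPullback ((yon S).map g1) ((yon S).map s1) b0 (a0 ≫ f.hom) ∧ Etale s1.left ∧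
      Surjective s1.left :=
    ⟨_, hb0e.rep.fst' _, hb0e.rep.snd _, hb0e.rep.isPullback' _, hb0e.property_snd _,
      hb0s.property _ _ _ (hb0e.rep.isPullback _)⟩
  have ha1e : RepWith @Etale ((yon S).map s1 ≫ a0) :=
    repWith_comp _ ((repWith_yon_map_iff _ _).2 hs1e) ha0e
  have ha1s : RepWith @Surjective ((yon S).map s1 ≫ a0) :=
    repWith_comp _ ((repWith_yon_map_iff _ _).2 hs1s) ha0s
  have comm1 : ((yon S).map s1 ≫ a0) ≫ f.hom = (yon S).map g1 ≫ b0 := by
    rw [Category.assoc]; exact sq1.w.symm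
  obtain ⟨V, kV, sV, sqV, hsVe, hsVs⟩ : ∃ (V : Over S) (kV : V ⟶ W) (sV : V ⟶ V0),
      IsPullback ((yon S).map kV) ((yon S).map sV) c (b0 ≫ h.hom) ∧ Etale sV.left ∧
      Surjective sV.left :=
    ⟨_, hce.rep.fst' _, hce.rep.snd _, hce.rep.isPullback' _, hce.property_snd _,
      hcs.property _ _ _ (hce.rep.isPullback _)⟩
  obtain ⟨U, kU, sU, sqU, hsUe, hsUs⟩ : ∃ (U : Over S) (kU : U ⟶ W) (sU : U ⟶ U1),
      IsPullback ((yon S).map kU) ((yon S).map sU) c
        (((yon S).map s1 ≫ a0) ≫ f.hom ≫ h.hom) ∧ Etale sU.left ∧ Surjective sU.left :=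
    ⟨_, hce.rep.fst' _, hce.rep.snd _, hce.rep.isPullback' _, hce.property_snd _,
      hcs.property _ _ _ (hce.rep.isPullback _)⟩
  have hgc : (yon S).map kU ≫ c = (yon S).map (sU ≫ g1) ≫ b0 ≫ h.hom := by
    rw [sqU.w, ← Category.assoc ((yon S).map s1 ≫ a0) f.hom h.hom, comm1,
      CategoryTheory.Functor.map_comp]
    simp only [Category.assoc]
  obtain ⟨g, hg⟩ := (yon S).map_surjective
    (sqV.lift ((yon S).map kU) ((yon S).map (sU ≫ g1)) hgc)
  have hg1 : g ≫ kV = kU := (yon S).map_injective (by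
    rw [CategoryTheory.Functor.map_comp, hg, sqV.lift_fst])
  have hg2 : g ≫ sV = sU ≫ g1 := (yon S).map_injective (by
    rw [CategoryTheory.Functor.map_comp, hg, sqV.lift_snd])
  have hbe : RepWith @Etale ((yon S).map sV ≫ b0) :=
    repWith_comp _ ((repWith_yon_map_iff _ _).2 hsVe) hb0e
  have hbs : RepWith @Surjective ((yon S).map sV ≫ b0) :=
    repWith_comp _ ((repWith_yon_map_iff _ _).2 hsVs) hb0s
  have hae : RepWith @Etale ((yon S).map sU ≫ (yon S).map s1 ≫ a0) :=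
    repWith_comp _ ((repWith_yon_map_iff _ _).2 hsUe) ha1e
  have has : RepWith @Surjective ((yon S).map sU ≫ (yon S).map s1 ≫ a0) :=
    repWith_comp _ ((repWith_yon_map_iff _ _).2 hsUs) ha1s
  have e2 : (yon S).map g ≫ (yon S).map sV = (yon S).map sU ≫ (yon S).map g1 := by
    rw [← CategoryTheory.Functor.map_comp, hg2, CategoryTheory.Functor.map_comp]
  have comm_f : ((yon S).map sU ≫ (yon S).map s1 ≫ a0) ≫ f.hom =
      (yon S).map g ≫ (yon S).map sV ≫ b0 := by
    rw [Category.assoc, comm1, reassoc_of% e2]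
  have comm_h : ((yon S).map sV ≫ b0) ≫ h.hom = (yon S).map kV ≫ c := by
    rw [Category.assoc]; exact sqV.w.symm
  have comm_fh : ((yon S).map sU ≫ (yon S).map s1 ≫ a0) ≫ (f ≫ h).hom =
      (yon S).map (g ≫ kV) ≫ c := by
    rw [hg1, Category.assoc]; exact sqU.w.symm
  haveI : IsLocallyNoetherian W.left := hWn
  haveI : IsLocallyNoetherian V0.left := hV0n
  haveI : IsLocallyNoetherian X0.left := hX0n
  haveI := hs1e
  haveI := hsVe
  haveI := hsUe
  haveI : IsLocallyNoetherian U1.left := LocallyOfFiniteType.isLocallyNoetherian s1.left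
  haveI : IsLocallyNoetherian V.left := LocallyOfFiniteType.isLocallyNoetherian sV.left
  haveI : IsLocallyNoetherian U.left := LocallyOfFiniteType.isLocallyNoetherian sU.left
  haveI hgk : Flat (g.left ≫ kV.left) := hfl _ c (g ≫ kV) hae hce comm_fh
  have hT1 := Groth.Agent.Lib.FibreFlatH7.flat_of_fibrewise_flat g.left kV.left (fun w => ?_)
  · refine ⟨locP_of_one_chart etLocal_flat f.hom _ _ g hae has hbe comm_f hT1.1, fun hsurj => ?_⟩
    have hsurj1 : IsSurjectiveMor (a0 ≫ f.hom) := fun y => by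
      obtain ⟨x, hx⟩ := hsurj y
      obtain ⟨x0, hx0⟩ := isSurjectiveMor_of_repWith a0 ha0s x
      exact ⟨x0, by rw [Points.map_comp, hx0, hx]⟩
    have hg1s : Surjective g1.left := surjective_left_of_isPullback sq1.flip hsurj1
    have sqG : IsPullback ((yon S).map g) ((yon S).map sU) ((yon S).map sV) ((yon S).map g1) := by
      refine IsPullback.of_right ?_ e2 sqV
      rw [← CategoryTheory.Functor.map_comp, hg1, ← Category.assoc ((yon S).map g1), ← comm1]
      exact sqU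
    have hgs : Surjective g.left := surjective_left_of_isPullback sqG.flip
      (isSurjectiveMor_of_repWith _ ((repWith_yon_map_iff @Surjective g1).2 hg1s))
    exact locP_of_one_chart etLocal_flat h.hom _ c kV hbe hbs hce comm_h (hT1.2 hgs)
  · exact fibre_data f.hom h.hom ((yon S).map s1 ≫ a0) b0 c g1 ha1e hb0e comm1 kU sU kV sV g
      sqU sqV hg1 hg2 (Over.homMk (W.left.fromSpecResidueField w) rfl :
        Over.mk (W.left.fromSpecResidueField w ≫ W.hom) ⟶ W)
      (pullback.lift (pullback.fst _ _ ≫ f.hom) (pullback.snd _ _) (by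
        rw [Category.assoc]; exact pullback.condition))
      (pullback.lift_fst _ _ _) (pullback.lift_snd _ _ _)
      (hfib ↑(W.left.residueField w) (W.left.fromSpecResidueField w ≫ W.hom) _ _ _ _ _ _ _ _
        (IsPullback.of_hasPullback _ _) (IsPullback.of_hasPullback _ _)
        (pullback.lift_fst _ _ _) (pullback.lift_snd _ _ _))

end Groth.Agent.Lib.AlgSpFibreFlatH7
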