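import Groth.Agent.Lib.AlgSpSpecial_helper6

/-!
# Fibres of étale charts over a quasi-compact monomorphic point are finite (helper6)
-/

set_option autoImplicit false
universe u
open CategoryTheory CategoryTheory.Limits AlgebraicGeometry Opposite

namespace Groth.Agent.Lib.AlgSpFibre_helper6

open AlgSp Groth.Agent.Lib.AlgSpPoints_helper7 Groth.Agent.Lib.AlgSpQC_helper7
  Groth.Agent.Lib.AlgSpPullback_helper7 Groth.Agent.Lib.AlgSpBasic_helper7
  Groth.Agent.Lib.AlgSpEtale_helper7 Groth.Agent.Lib.AlgSpSpecial_helper6

variable {S : Scheme.{u}}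

/-- A quasi-compact scheme étale over the spectrum of a field is finite. -/
theorem finite_of_etale_field {F : Scheme.{u}} {K : Type u} [Field K]
    (r : F ⟶ Spec (CommRingCat.of K)) [Etale r] [CompactSpace ↥F] : Finite ↥F := by
  haveI : LocallyQuasiFinite r := locallyQuasiFinite_of_unramified r
  rcases isEmpty_or_nonempty ↥F with hF | ⟨⟨f⟩⟩
  · infer_instance
  have hd := r.isDiscrete_preimage_singleton (r f)
  have huniv : r ⁻¹' {r f} = Set.univ := by
    ext y
    simp only [Set.mem_preimage, Set.mem_singleton_iff, Set.mem_univ, iff_true]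
    exact Subsingleton.elim _ _
  rw [huniv] at hd
  haveI : DiscreteTopology ↥F := isDiscrete_univ_iff.1 hd
  exact finite_of_compact_of_discrete

/-- If `x` is represented by a quasi-compact field point then the fibre over `x` of every
étale chart from a quasi-compact scheme is finite. -/
theorem finite_fibre_of_qc_point {X : Sp S} (p : FieldPt X)
    (hq : RepWith @QuasiCompact p.toHom) {V : Over S} [CompactSpace ↥V.left]
    (b : (yon S).obj V ⟶ X) (hb : RepWith @Etale b) :
    (Points.ofPt b ⁻¹' {Points.mk p}).Finite := by
  have R := hq.rep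
  let r := R.fst' b
  let s := R.snd b
  have sq : IsPullback ((yon S).map r) ((yon S).map s) p.toHom b := R.isPullback' b
  have hs1 : QuasiCompact s.left := hq.property_snd b
  have hr1 : Etale r.left := by
    have h1 : RepWith @Etale ((yon S).map r) := repWith_fst_of_isPullback _ sq hb
    exact (repWith_yon_map_iff _ _).1 h1
  haveI : CompactSpace ↥(R.pullback b).left :=
    QuasiCompact.compactSpace_of_compactSpace s.left
  haveI : Finite ↥(R.pullback b).left :=
    finite_of_etale_field (K := p.K) (F := (R.pullback b).left) r.left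
  refine (Set.finite_range s.left).subset ?_
  intro v hv
  have hv' : Points.ofPt p.toHom (IsLocalRing.closedPoint p.K) = Points.ofPt b v := by
    rw [Points.ofPt_toHom]; exact hv.symm
  obtain ⟨f, -, hf⟩ := exists_ofPt_eq_of_isPullback sq _ v hv'
  exact ⟨f, hf⟩

/-- On a decent space there are no nontrivial specializations in the fibres of étale charts. -/
theorem eq_of_specializes_of_isDecent {X : Sp S} (hX : IsDecent X)
    {U : Over S} (a : (yon S).obj U ⟶ X) (ha : RepWith @Etale a) (u u' : ↥U.left)
    (he : Points.ofPt a u = Points.ofPt a u') (hs : u' ⤳ u) : u = u' := by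
  obtain ⟨p, hp, -, hpq⟩ := hX (Points.ofPt a u)
  refine eq_of_specializes_of_finite_fibres (Points.ofPt a u) ?_ a ha u u' rfl he.symm hs
  intro V b hV hb
  rw [← hp]
  haveI : CompactSpace ↥V.left := by haveI := hV; infer_instance
  exact finite_fibre_of_qc_point p hpq b hb

end Groth.Agent.Lib.AlgSpFibre_helper6
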