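import Mathlib
import Groth.Prelude.Def_Curv2
import Groth.Agent.Lib.SchFT_helper8

/-!
# Closed points with separable residue field are dense in a smooth scheme over a field (helper6).
-/

set_option autoImplicit false
set_option linter.style.haveILetI false
universe u

open CategoryTheory CategoryTheory.Limits AlgebraicGeometry TopologicalSpace Opposite

namespace Groth.Agent.Lib.SepPts_helper6

open Groth.Agent

section Ring

/-- Every nonempty open of affine space over a field contains a closed point with finite separable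
residue field. -/
theorem exists_closed_separable_mvPolynomial (k : Type u) [Field k] (n : ℕ)
    (O : Set (PrimeSpectrum (MvPolynomial (Fin n) k))) (hO : IsOpen O) (hne : O.Nonempty) :
    ∃ m : Ideal (MvPolynomial (Fin n) k), ∃ hm : m.IsMaximal,
      (⟨m, hm.isPrime⟩ : PrimeSpectrum (MvPolynomial (Fin n) k)) ∈ O ∧
      Module.Finite k (MvPolynomial (Fin n) k ⧸ m) ∧
      Algebra.IsSeparable k (MvPolynomial (Fin n) k ⧸ m) := by
  classical
  obtain ⟨x, hx⟩ := hne
  obtain ⟨_, ⟨_, ⟨h, rfl⟩, rfl⟩, hxh, hhO⟩ :=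
    PrimeSpectrum.isBasis_basic_opens.exists_subset_of_mem_open hx hO
  have hh0 : h ≠ 0 := by
    rintro rfl
    simp at hxh
  rcases finite_or_infinite k with hfin | hinf
  · haveI : PerfectField k := PerfectField.ofFinite
    have hjac : h ∉ (⊥ : Ideal (MvPolynomial (Fin n) k)).jacobson := by
      rw [(inferInstance : IsJacobsonRing (MvPolynomial (Fin n) k)).out Ideal.isRadical_bot]
      simpa using hh0
    rw [Ideal.jacobson, Ideal.mem_sInf] at hjac
    push_neg at hjac
    obtain ⟨m, ⟨-, hm⟩, hhm⟩ := hjac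
    letI : Field (MvPolynomial (Fin n) k ⧸ m) := Ideal.Quotient.field m
    haveI : Module.Finite k (MvPolynomial (Fin n) k ⧸ m) :=
      finite_of_finite_type_of_isJacobsonRing k (MvPolynomial (Fin n) k ⧸ m)
    haveI : Algebra.IsAlgebraic k (MvPolynomial (Fin n) k ⧸ m) := Algebra.IsAlgebraic.of_finite k _
    refine ⟨m, hm, hhO ?_, inferInstance, Algebra.IsAlgebraic.isSeparable_of_perfectField⟩
    exact hhm
  · have hex : ∃ a : Fin n → k, MvPolynomial.eval a h ≠ 0 := by
      by_contra hcon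
      push_neg at hcon
      exact hh0 (MvPolynomial.funext (fun a => by rw [hcon a, map_zero]))
    obtain ⟨a, ha⟩ := hex
    have hsurj : Function.Surjective (MvPolynomial.aeval a : MvPolynomial (Fin n) k →ₐ[k] k) :=
      fun c => ⟨MvPolynomial.C c, by simp⟩
    let e := Ideal.quotientKerAlgEquivOfSurjective hsurj
    have hm : (RingHom.ker (MvPolynomial.aeval a : MvPolynomial (Fin n) k →ₐ[k] k)).IsMaximal :=
      RingHom.ker_isMaximal_of_surjective _ hsurj
    refine ⟨_, hm, hhO ?_, Module.Finite.equiv e.symm.toLinearEquiv,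
      AlgEquiv.Algebra.isSeparable e.symm⟩
    show h ∉ RingHom.ker (MvPolynomial.aeval a : MvPolynomial (Fin n) k →ₐ[k] k)
    rw [RingHom.mem_ker]
    simpa [MvPolynomial.aeval_eq_eval] using ha

/-- An algebra étale over a polynomial ring over a field `k` has, in every nonempty basic open,
a prime whose residue field is finite separable over `k`. -/
theorem exists_prime_separable (k A : Type u) [Field k] [CommRing A] [Algebra k A] (n : ℕ)
    [Algebra (MvPolynomial (Fin n) k) A] [IsScalarTower k (MvPolynomial (Fin n) k) A]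
    [Algebra.Etale (MvPolynomial (Fin n) k) A] (f : A) (hf : ¬ IsNilpotent f) :
    ∃ q : Ideal A, ∃ _ : q.IsPrime, f ∉ q ∧ Module.Finite k q.ResidueField ∧
      Algebra.IsSeparable k q.ResidueField := by
  have hopen : IsOpenMap (PrimeSpectrum.comap (algebraMap (MvPolynomial (Fin n) k) A)) :=
    PrimeSpectrum.isOpenMap_comap_of_hasGoingDown_of_finitePresentation
  have hne : (PrimeSpectrum.basicOpen f : Set (PrimeSpectrum A)).Nonempty :=
    (TopologicalSpace.Opens.ne_bot_iff_nonempty _).1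
      (fun h => hf ((PrimeSpectrum.basicOpen_eq_bot_iff f).1 h))
  obtain ⟨m, hm, hmO, hfin, hsep⟩ := exists_closed_separable_mvPolynomial k n _
    (hopen _ (PrimeSpectrum.basicOpen f).isOpen) (hne.image _)
  obtain ⟨q, hqf, hqm⟩ := hmO
  haveI := hm
  haveI : m.IsPrime := hm.isPrime
  haveI := q.2
  haveI : q.asIdeal.LiesOver m := ⟨by
    have := congrArg PrimeSpectrum.asIdeal hqm
    exact this.symm⟩
  letI := Localization.AtPrime.algebraOfLiesOver m q.asIdeal
  have hbij := m.bijective_algebraMap_quotient_residueField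
  let e : (MvPolynomial (Fin n) k ⧸ m) ≃ₐ[k] m.ResidueField :=
    AlgEquiv.ofBijective (IsScalarTower.toAlgHom k (MvPolynomial (Fin n) k ⧸ m) m.ResidueField) hbij
  haveI := hfin
  haveI := hsep
  haveI : Module.Finite k m.ResidueField := Module.Finite.equiv e.toLinearEquiv
  haveI : Algebra.IsSeparable k m.ResidueField := AlgEquiv.Algebra.isSeparable e
  haveI : Algebra.IsSeparable m.ResidueField q.asIdeal.ResidueField := inferInstance
  haveI : Module.Finite m.ResidueField q.asIdeal.ResidueField := inferInstance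
  refine ⟨q.asIdeal, q.2, hqf, Module.Finite.trans m.ResidueField _,
    Algebra.IsSeparable.trans k m.ResidueField _⟩

end Ring

section Scheme

variable (k : Type u) [Field k] (X : Scheme.{u}) [X.Over (Spec (CommRingCat.of k))]

attribute [local instance] Curv2.resAlgebra

/-- The residue field of `X` at `x` is, as a `k`-algebra, the residue field of the corresponding
prime of an affine open. -/
theorem exists_residueField_algEquiv {V : X.Opens} (hV : IsAffineOpen V) (x : X) (hx : x ∈ V)
    (q : PrimeSpectrum Γ(X, V)) (hq : hV.primeIdealOf ⟨x, hx⟩ = q) :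
    letI := SchFTH8.secAlgebra k X V
    Nonempty (q.asIdeal.ResidueField ≃ₐ[k] X.residueField x) := by
  subst hq
  letI := SchFTH8.secAlgebra k X V
  letI := TopCat.Presheaf.algebra_section_stalk X.presheaf (⟨x, hx⟩ : V)
  haveI : IsLocalization.AtPrime (X.presheaf.stalk x) (hV.primeIdealOf ⟨x, hx⟩).asIdeal :=
    hV.isLocalization_stalk ⟨x, hx⟩
  let e : Localization.AtPrime (hV.primeIdealOf ⟨x, hx⟩).asIdeal ≃ₐ[Γ(X, V)] X.presheaf.stalk x :=
    IsLocalization.algEquiv (hV.primeIdealOf ⟨x, hx⟩).asIdeal.primeCompl _ _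
  let ε0 : (hV.primeIdealOf ⟨x, hx⟩).asIdeal.ResidueField ≃+* X.residueField x :=
    IsLocalRing.ResidueField.mapEquiv e.toRingEquiv
  refine ⟨{ ε0 with commutes' := fun c => ?_ }⟩
  have h3 := RingHom.congr_fun (SchFTH8.toRes_comp_secMap k V x hx) c
  show ε0 (algebraMap k _ c) = Curv2.resMap k X x c
  rw [← h3]
  have h1 : algebraMap k (hV.primeIdealOf ⟨x, hx⟩).asIdeal.ResidueField c =
      IsLocalRing.residue _ (algebraMap Γ(X, V)
        (Localization.AtPrime (hV.primeIdealOf ⟨x, hx⟩).asIdeal) (algebraMap k Γ(X, V) c)) := rfl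
  rw [h1]
  show IsLocalRing.residue _ (e (algebraMap Γ(X, V)
        (Localization.AtPrime (hV.primeIdealOf ⟨x, hx⟩).asIdeal) (algebraMap k Γ(X, V) c))) = _
  rw [e.commutes]
  rfl

/-- A point with residue field finite over `k` is closed. -/
theorem isClosed_singleton_of_finite (y : X) [Module.Finite k (X.residueField y)] :
    IsClosed ({y} : Set X) := by
  rw [← closure_subset_iff_isClosed]
  intro z hz
  have hyz : y ⤳ z := specializes_iff_mem_closure.2 hz
  obtain ⟨_, ⟨W, hW', rfl⟩, hzW, -⟩ :=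
    X.isBasis_affineOpens.exists_subset_of_mem_open (Set.mem_univ z) isOpen_univ
  have hW : IsAffineOpen W := hW'
  have hz' : z ∈ W := hzW
  have hy' : y ∈ W := hyz.mem_open W.isOpen hz'
  have hle := (SchFTH8.specializes_iff_primeIdealOf_le hW y z hy' hz').1 hyz
  letI := SchFTH8.secAlgebra k X W
  have hker := SchFTH8.ker_toRes hW y hy'
  let φ : Γ(X, W) →ₐ[k] X.residueField y :=
    { SchFTH8.toRes W y hy' with
      commutes' := fun c => RingHom.congr_fun (SchFTH8.toRes_comp_secMap k W y hy') c }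
  have hkerφ : RingHom.ker φ = (hW.primeIdealOf ⟨y, hy'⟩).asIdeal := hker
  have hψ : Function.Injective (Ideal.kerLiftAlg φ) := Ideal.kerLiftAlg_injective φ
  haveI : Module.Finite k (Γ(X, W) ⧸ RingHom.ker φ) :=
    Module.Finite.of_injective (Ideal.kerLiftAlg φ).toLinearMap hψ
  haveI : (RingHom.ker φ).IsPrime := hkerφ ▸ (hW.primeIdealOf ⟨y, hy'⟩).2
  haveI : IsDomain (Γ(X, W) ⧸ RingHom.ker φ) := Ideal.Quotient.isDomain _
  haveI : Algebra.IsIntegral k (Γ(X, W) ⧸ RingHom.ker φ) := Algebra.IsIntegral.of_finite k _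
  have hfield : IsField (Γ(X, W) ⧸ RingHom.ker φ) :=
    isField_of_isIntegral_of_isField' (Field.toIsField k)
  have hmax : (hW.primeIdealOf ⟨y, hy'⟩).asIdeal.IsMaximal :=
    hkerφ ▸ Ideal.Quotient.maximal_of_isField _ hfield
  have heq : hW.primeIdealOf ⟨y, hy'⟩ = hW.primeIdealOf ⟨z, hz'⟩ :=
    PrimeSpectrum.ext (hmax.eq_of_le (hW.primeIdealOf ⟨z, hz'⟩).2.ne_top hle)
  have h1 := hW.fromSpec_primeIdealOf ⟨y, hy'⟩
  have h2 := hW.fromSpec_primeIdealOf ⟨z, hz'⟩
  rw [heq, h2] at h1
  exact h1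

theorem dense_sepPts [Smooth (X ↘ Spec (CommRingCat.of k))] :
    Dense {x : X | IsClosed ({x} : Set X) ∧ FiniteDimensional k (X.residueField x) ∧
      Algebra.IsSeparable k (X.residueField x)} := by
  rw [dense_iff_inter_open]
  intro U hU hUne
  obtain ⟨x0, hx0⟩ := hUne
  obtain ⟨U', hU', V, hV, hxV, e, hstd⟩ :=
    Smooth.exists_isStandardSmooth (X ↘ Spec (CommRingCat.of k)) x0
  haveI : Subsingleton (Spec (CommRingCat.of k)) :=
    inferInstanceAs (Subsingleton (PrimeSpectrum k))
  have hUtop : U' = ⊤ := by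
    ext p
    simp only [Opens.coe_top, Set.mem_univ, iff_true]
    have hp : p = (X ↘ Spec (CommRingCat.of k)) x0 := Subsingleton.elim _ _
    rw [hp]
    exact e hxV
  subst hUtop
  have hstd' : (SchFTH8.secMap k X V).IsStandardSmooth := by
    have h2 : SchFTH8.secMap k X V = ((X ↘ Spec (CommRingCat.of k)).appLE ⊤ V e).hom.comp
        (Scheme.ΓSpecIso (CommRingCat.of k)).symm.commRingCatIsoToRingEquiv.toRingHom := by
      ext a
      simp only [SchFTH8.secMap, Coh.toGlobal, Scheme.Hom.appLE, Scheme.Hom.appTop]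
      rfl
    rw [h2]
    exact RingHom.isStandardSmooth_respectsIso.2 _ _ hstd
  obtain ⟨n, g, hgC, hg⟩ := RingHom.IsStandardSmooth.exists_etale_mvPolynomial hstd'
  letI := SchFTH8.secAlgebra k X V
  letI := g.toAlgebra
  haveI : IsScalarTower k (MvPolynomial (Fin n) k) Γ(X, V) :=
    IsScalarTower.of_algebraMap_eq' hgC.symm
  haveI : Algebra.Etale (MvPolynomial (Fin n) k) Γ(X, V) := hg
  obtain ⟨f, hfU, hx0f⟩ := hV.exists_basicOpen_le (V := ⟨U, hU⟩) ⟨x0, hx0⟩ hxV
  have hfn : ¬ IsNilpotent f := by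
    rintro ⟨m, hm⟩
    have hu := (Scheme.mem_basicOpen X f x0 hxV).1 hx0f
    have hu' := hu.pow m
    rw [← map_pow, hm, map_zero] at hu'
    exact not_isUnit_zero hu'
  obtain ⟨q, hq, hfq, hfinq, hsepq⟩ := exists_prime_separable k Γ(X, V) n f hfn
  have hyV := SchFTH8.fromSpec_mem hV (⟨q, hq⟩ : PrimeSpectrum Γ(X, V))
  have hprime := SchFTH8.primeIdealOf_fromSpec hV (⟨q, hq⟩ : PrimeSpectrum Γ(X, V)) hyV
  have hyf : hV.fromSpec (⟨q, hq⟩ : PrimeSpectrum Γ(X, V)) ∈ X.basicOpen f := by
    have h2 := hV.fromSpec_preimage_basicOpen f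
    have h3 : (⟨q, hq⟩ : PrimeSpectrum Γ(X, V)) ∈ (hV.fromSpec ⁻¹ᵁ X.basicOpen f) := by
      rw [h2]
      exact hfq
    exact h3
  obtain ⟨ε⟩ := exists_residueField_algEquiv k X hV _ hyV _ hprime
  haveI := hfinq
  haveI := hsepq
  haveI hfin : Module.Finite k (X.residueField (hV.fromSpec (⟨q, hq⟩ : PrimeSpectrum Γ(X, V)))) :=
    Module.Finite.equiv ε.toLinearEquiv
  refine ⟨hV.fromSpec (⟨q, hq⟩ : PrimeSpectrum Γ(X, V)), hfU hyf, ?_, hfin, ?_⟩
  · exact isClosed_singleton_of_finite k X _
  · exact AlgEquiv.Algebra.isSeparable ε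

end Scheme

end Groth.Agent.Lib.SepPts_helper6
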