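import Groth.Agent.Lib.AlgSpProdChart_helper7
import Groth.Agent.Lib.RedInduced_helper7
import Groth.Agent.Lib.AlgSpDecent6_helper6
import Groth.Agent.Lib.AlgSpEmbed_helper6
import Groth.Agent.Lib.SepPts_helper6
import Groth.Agent.Lib.StalkDict_helper4

/-!
# Miscellaneous results on algebraic spaces (over fields): integral closed subspaces, density of
separable points, local finiteness of irreducible components (helper7)
-/

set_option autoImplicit false
set_option linter.style.haveILetI false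
universe u
open CategoryTheory CategoryTheory.Limits AlgebraicGeometry Opposite TopologicalSpace Topology

namespace Groth.Agent.Lib.AlgSpFieldMiscH7

open AlgSp Groth.Agent.Lib.AlgSpPoints_helper7 Groth.Agent.Lib.AlgSpQC_helper7
  Groth.Agent.Lib.AlgSpPullback_helper7

section top

variable {A P : Type*} [TopologicalSpace A] [TopologicalSpace P]

theorem irreducibleSpace_of_isInducing {f : A → P} (hf : IsInducing f)
    (h : IsIrreducible (Set.range f)) : IrreducibleSpace A := by
  obtain ⟨⟨_, ⟨a, rfl⟩⟩, hp⟩ := h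
  refine { isPreirreducible_univ := ?_, toNonempty := ⟨a⟩ }
  rintro u v hu hv ⟨x, -, hxu⟩ ⟨y, -, hyv⟩
  obtain ⟨u', hu', rfl⟩ := hf.isOpen_iff.1 hu
  obtain ⟨v', hv', rfl⟩ := hf.isOpen_iff.1 hv
  obtain ⟨_, ⟨z, rfl⟩, hz1, hz2⟩ := hp u' v' hu' hv' ⟨f x, ⟨x, rfl⟩, hxu⟩ ⟨f y, ⟨y, rfl⟩, hyv⟩
  exact ⟨z, trivial, hz1, hz2⟩

theorem isIrreducible_preimage_val {T D : Set P} (hD : IsIrreducible D) (hDT : D ⊆ T) :
    IsIrreducible (((↑) : ↥T → P) ⁻¹' D) := by
  obtain ⟨⟨d, hd⟩, hp⟩ := hD
  refine ⟨⟨⟨d, hDT hd⟩, hd⟩, ?_⟩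
  rintro u v hu hv ⟨x, hxD, hxu⟩ ⟨y, hyD, hyv⟩
  obtain ⟨u', hu', rfl⟩ := isOpen_induced_iff.1 hu
  obtain ⟨v', hv', rfl⟩ := isOpen_induced_iff.1 hv
  obtain ⟨z, hzD, hz1, hz2⟩ := hp u' v' hu' hv' ⟨x.1, hxD, hxu⟩ ⟨y.1, hyD, hyv⟩
  exact ⟨⟨z, hDT hzD⟩, hzD, hz1, hz2⟩

theorem locallyFinite_components_of_chart (q : A → P) (hqc : Continuous q) (hqo : IsOpenMap q)
    (hqs : Function.Surjective q)
    (hA : ∀ a : A, ∃ W : Set A, IsOpen W ∧ a ∈ W ∧ NoetherianSpace ↥W)
    (T : Set P) (hT : IsClosed T) :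
    LocallyFinite (fun Z : ↥(irreducibleComponents ↥T) =>
      ((↑) : ↥T → P) '' (Z : Set ↥T)) := by
  intro x
  obtain ⟨a, rfl⟩ := hqs x
  obtain ⟨W, hWo, haW, hWn⟩ := hA a
  have hG : Continuous (fun w : ↥W => q w.1) := hqc.comp continuous_subtype_val
  have hN : IsOpen (q '' W) := hqo W hWo
  refine ⟨q '' W, hN.mem_nhds ⟨a, haW, rfl⟩, ?_⟩
  obtain ⟨Sf, hSf, hSc, hSi, hSU⟩ :=
    NoetherianSpace.exists_finite_set_isClosed_irreducible (hT.preimage hG)
  have key : ∀ Z : ↥(irreducibleComponents ↥T),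
      (((↑) : ↥T → P) '' (Z : Set ↥T) ∩ q '' W).Nonempty →
      ((↑) : ↥T → P) '' (Z : Set ↥T) ∈
        (fun c : Set ↥W => closure ((fun w : ↥W => q w.1) '' c)) '' Sf := by
    rintro ⟨Z, hZ⟩ hne
    have hZirr : IsIrreducible (((↑) : ↥T → P) '' Z) :=
      hZ.1.image _ continuous_subtype_val.continuousOn
    have hZT : ((↑) : ↥T → P) '' Z ⊆ T := by
      rintro _ ⟨z, -, rfl⟩
      exact z.2
    let F : Finset (Set P) := insert (q '' W)ᶜ
      (hSf.toFinset.image (fun c : Set ↥W => closure ((fun w : ↥W => q w.1) '' c)))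
    have hFc : ∀ z ∈ F, IsClosed z := by
      intro z hz
      rcases Finset.mem_insert.1 hz with rfl | hz
      · exact hN.isClosed_compl
      · obtain ⟨c, -, rfl⟩ := Finset.mem_image.1 hz
        exact isClosed_closure
    have hcov : ((↑) : ↥T → P) '' Z ⊆ ⋃₀ (↑F : Set (Set P)) := by
      intro z hz
      by_cases hzN : z ∈ q '' W
      · obtain ⟨w, hwW, rfl⟩ := hzN
        have hwT : (⟨w, hwW⟩ : ↥W) ∈ (fun w : ↥W => q w.1) ⁻¹' T := hZT hz
        rw [hSU] at hwT
        obtain ⟨c, hc, hwc⟩ := hwT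
        refine ⟨closure ((fun w : ↥W => q w.1) '' c), ?_, subset_closure ⟨_, hwc, rfl⟩⟩
        exact Finset.mem_coe.2 (Finset.mem_insert_of_mem
          (Finset.mem_image.2 ⟨c, hSf.mem_toFinset.2 hc, rfl⟩))
      · exact ⟨(q '' W)ᶜ, Finset.mem_coe.2 (Finset.mem_insert_self _ _), hzN⟩
    obtain ⟨D, hD, hZD⟩ := isIrreducible_iff_sUnion_isClosed.1 hZirr F hFc hcov
    rcases Finset.mem_insert.1 hD with rfl | hD
    · exfalso
      obtain ⟨z, hz, hzN⟩ := hne
      exact hZD hz hzN
    · obtain ⟨c, hc, rfl⟩ := Finset.mem_image.1 hD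
      have hc' : c ∈ Sf := hSf.mem_toFinset.1 hc
      refine ⟨c, hc', ?_⟩
      have hDirr : IsIrreducible (closure ((fun w : ↥W => q w.1) '' c)) :=
        ((hSi c hc').image _ hG.continuousOn).closure
      have hDT : closure ((fun w : ↥W => q w.1) '' c) ⊆ T := by
        refine closure_minimal ?_ hT
        rintro _ ⟨w, hw, rfl⟩
        have : w ∈ (fun w : ↥W => q w.1) ⁻¹' T := by
          rw [hSU]
          exact ⟨c, hc', hw⟩
        exact this
      have hpre := isIrreducible_preimage_val hDirr hDT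
      have hle : Z ≤ ((↑) : ↥T → P) ⁻¹' closure ((fun w : ↥W => q w.1) '' c) :=
        fun z hz => hZD ⟨z, hz, rfl⟩
      have hge := hZ.2 hpre hle
      apply Set.Subset.antisymm
      · intro d hd
        exact ⟨⟨d, hDT hd⟩, hge hd, rfl⟩
      · exact hZD
  have hfin : ((fun c : Set ↥W => closure ((fun w : ↥W => q w.1) '' c)) '' Sf).Finite :=
    hSf.image _
  refine Set.Finite.of_finite_image (f := fun Z : ↥(irreducibleComponents ↥T) =>
    ((↑) : ↥T → P) '' (Z : Set ↥T)) (hfin.subset ?_) ?_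
  · rintro _ ⟨Z, hZ, rfl⟩
    exact key Z hZ
  · intro Z1 _ Z2 _ h
    exact Subtype.ext (Set.image_injective.2 Subtype.val_injective h)

end top

variable {S : Scheme.{u}}

theorem main10491 (X : AlgSp.Space S) (hX : IsLocNoethSp X.obj) (T : Set (Points X.obj))
    (hT : IsClosed T) :
    LocallyFinite (fun Z : ↥(irreducibleComponents ↥T) =>
      ((↑) : ↥T → Points X.obj) '' (Z : Set ↥T)) := by
  obtain ⟨U, a, hae, has, hU⟩ := hX
  haveI : IsLocallyNoetherian U.left := hU
  refine locallyFinite_components_of_chart (Points.ofPt a) (Points.continuous_ofPt a)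
    (isOpenMap_ofPt_of_etale a hae) (ofPt_surjective a has) (fun u => ?_) T hT
  obtain ⟨_, ⟨W, hW', rfl⟩, huW, -⟩ :=
    U.left.isBasis_affineOpens.exists_subset_of_mem_open (Set.mem_univ u) isOpen_univ
  haveI : IsNoetherianRing Γ(U.left, W) := IsLocallyNoetherian.component_noetherian ⟨W, hW'⟩
  exact ⟨(W : Set ↥U.left), W.2, huW, noetherianSpace_of_isAffineOpen W hW'⟩

theorem main10496 (X : AlgSp.Space S) (hX : IsDecent X.obj) (T : Set (Points X.obj))
    (hT : IsClosed T) (hTi : IsIrreducible T) :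
    ∃ (Z : AlgSp.Space S) (i : Z ⟶ X), RepWith @IsClosedImmersion i.hom ∧
      IsIntegralSp Z.obj ∧ Set.range (Points.map i.hom) = T := by
  obtain ⟨Z, i, hci, hr, hred⟩ := Groth.Agent.Lib.RedInducedH7.exists_isRedInduced X T hT
  have himm : RepWith @IsImmersion i.hom :=
    repWith_mono (fun _ _ g (hg : IsClosedImmersion g) => (inferInstance : IsImmersion g)) hci
  have hemb := (Groth.Agent.Lib.AlgSpEmbed_helper6.isEmbedding_map_of_immersion X.property i.hom
    himm).1
  have hirr : IrreducibleSpace (Points Z.obj) :=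
    irreducibleSpace_of_isInducing hemb.isInducing (by rw [hr]; exact hTi)
  refine ⟨Z, i, hci, ?_, hr⟩
  show _ ∧ _ ∧ _
  exact ⟨hred, Groth.Agent.Lib.AlgSpDecent6_helper6.isDecent_of_representable i.hom hci.rep hX,
    hirr⟩

section field

attribute [local instance] Curv2.resAlgebra Curv2.stalkAlgebra

variable (k : Type u) [Field k]

theorem fromSpecResidueField_comp (X : Scheme.{u}) [X.Over (Spec (CommRingCat.of k))] (x : X) :
    X.fromSpecResidueField x ≫ (X ↘ Spec (CommRingCat.of k)) =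
      Spec.map (CommRingCat.ofHom (algebraMap k (X.residueField x))) := by
  calc X.fromSpecResidueField x ≫ (X ↘ Spec (CommRingCat.of k))
      = Spec.map (X.residue x) ≫ (X.fromSpecStalk x ≫ (X ↘ Spec (CommRingCat.of k))) := by
        rw [← Category.assoc]; rfl
    _ = Spec.map (X.residue x) ≫
          Spec.map (CommRingCat.ofHom (algebraMap k (X.presheaf.stalk x))) := by
        rw [Groth.Agent.Lib.StalkDictH4.fromSpecStalk_comp]; rfl
    _ = Spec.map (CommRingCat.ofHom (algebraMap k (X.residueField x))) := by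
        rw [← Spec.map_comp]; rfl

theorem main10490 (X : AlgSp.Space (Spec (CommRingCat.of k)))
    (p : X.obj ⟶ (yon (Spec (CommRingCat.of k))).obj (Over.mk (𝟙 _))) (hp : LocP @Smooth p) :
    Dense {x : Points X.obj | ∃ (k' : Type u) (_ : Field k') (_ : Algebra k k'),
      Module.Finite k k' ∧ Algebra.IsSeparable k k' ∧
        ∃ v : X.obj.obj.obj (Opposite.op
          (Over.mk (Spec.map (CommRingCat.ofHom (algebraMap k k'))))),
          Points.mk ⟨k', Spec.map (CommRingCat.ofHom (algebraMap k k')), v⟩ = x} := by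
  obtain ⟨U, a, hae, has⟩ := X.property.atlas
  have t : IsTerminal ((yon (Spec (CommRingCat.of k))).obj (Over.mk (𝟙 _))) :=
    IsTerminal.isTerminalObj (yon (Spec (CommRingCat.of k))) _ Over.mkIdTerminal
  have hsm : Smooth U.hom :=
    hp a (𝟙 _) (Over.homMk U.hom (Category.comp_id _) : U ⟶ Over.mk (𝟙 _)) hae
      (repWith_id @Etale _) (t.hom_ext _ _)
  letI : U.left.Over (Spec (CommRingCat.of k)) := ⟨U.hom⟩
  haveI : Smooth (U.left ↘ Spec (CommRingCat.of k)) := hsm
  have hd := Groth.Agent.Lib.SepPts_helper6.dense_sepPts k U.left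
  have hd' := (ofPt_surjective a has).denseRange.dense_image (Points.continuous_ofPt a) hd
  refine hd'.mono ?_
  rintro _ ⟨u, ⟨-, hfin, hsep⟩, rfl⟩
  have hstr : U.left.fromSpecResidueField u ≫ U.hom =
      Spec.map (CommRingCat.ofHom (algebraMap k (U.left.residueField u))) :=
    fromSpecResidueField_comp k U.left u
  obtain ⟨m, hm⟩ : ∃ m : (Over.mk (Spec.map (CommRingCat.ofHom
      (algebraMap k (U.left.residueField u)))) : Over (Spec (CommRingCat.of k))) ⟶ U,
      m.left = U.left.fromSpecResidueField u := ⟨Over.homMk (U.left.fromSpecResidueField u) hstr, rfl⟩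
  refine ⟨U.left.residueField u, inferInstance, Curv2.resAlgebra k U.left u, hfin, hsep,
    (ofHom ((yon (Spec (CommRingCat.of k))).map m ≫ a)).val, ?_⟩
  have h1 := ofPt_eq_mk_ofHom a m
  rw [hm, Scheme.fromSpecResidueField_apply] at h1
  exact h1.symm

end field

end Groth.Agent.Lib.AlgSpFieldMiscH7
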