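import Groth.Agent.Lib.AlgSpUniv_helper7
import Mathlib.AlgebraicGeometry.Morphisms.FlatMono

/-!
# Field valued points of algebraic spaces (helper7)
-/

set_option autoImplicit false
universe u
open CategoryTheory CategoryTheory.Limits AlgebraicGeometry Opposite

namespace Groth.Agent.Lib.AlgSpField_helper7

open AlgSp Groth.Agent.Lib.AlgSpPoints_helper7 Groth.Agent.Lib.AlgSpQC_helper7

variable {S : Scheme.{u}}

/-- A monomorphism from a nonempty scheme to the spectrum of a field is an isomorphism. -/
theorem isIso_of_mono_of_nonempty_of_field {E : Scheme.{u}} {K : Type u} [Field K]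
    (f : E ⟶ Spec (CommRingCat.of K)) [Mono f] [Nonempty ↥E] : IsIso f := by
  have hinj : Function.Injective f := by
    have : UniversallyInjective f := inferInstance
    exact f.injective
  have : Surjective f := ⟨fun y => ⟨Classical.arbitrary _, Subsingleton.elim _ _⟩⟩
  have hsub : Subsingleton ↥E := hinj.subsingleton
  have : QuasiCompact f := by
    constructor
    intro U _ _
    exact (Set.subsingleton_of_subsingleton).isCompact
  exact Flat.isIso_of_surjective_of_mono f

/-- Two `K`-valued points of a sheaf with representable diagonal which agree after restriction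
to a nonempty scheme over `Spec K` are equal. -/
theorem eq_of_comp_eq_of_field {X : Sp S} (hX : Representable (Limits.diag X)) {K : Type u}
    [Field K] {sK : Spec (CommRingCat.of K) ⟶ S} {T : Over S} [Nonempty ↥T.left]
    (j : T ⟶ Over.mk sK) (a b : (yon S).obj (Over.mk sK) ⟶ X)
    (h : (yon S).map j ≫ a = (yon S).map j ≫ b) : a = b := by
  let ab : (yon S).obj (Over.mk sK) ⟶ X ⨯ X := prod.lift a b
  have sq := hX.isPullback ab
  -- the projection is a monomorphism
  have hm : Mono ((yon S).map (hX.snd ab)) := by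
    have : Mono (Limits.diag X) :=
      mono_of_mono_fac (prod.lift_fst (𝟙 X) (𝟙 X))
    exact sq.mono_snd_of_mono
  have hm' : Mono (hX.snd ab) := (yon S).mono_of_mono_map hm
  have hm'' : Mono (hX.snd ab).left := inferInstance
  -- the fibre product is nonempty
  let l : (yon S).obj T ⟶ (yon S).obj (hX.pullback ab) :=
    sq.lift ((yon S).map j ≫ a) ((yon S).map j) (by
      apply Limits.prod.hom_ext <;> simp [ab, h])
  obtain ⟨l', hl'⟩ := (yon S).map_surjective l
  have hne : Nonempty ↥(hX.pullback ab).left := ⟨l'.left (Classical.arbitrary _)⟩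
  have hiso : IsIso (hX.snd ab).left :=
    isIso_of_mono_of_nonempty_of_field (E := (hX.pullback ab).left) (hX.snd ab).left
  have hiso' : IsIso (hX.snd ab) := by
    haveI : IsIso ((Over.forget S).map (hX.snd ab)) := hiso
    exact isIso_of_reflects_iso _ (Over.forget S)
  have e1 : hX.fst ab = (yon S).map (hX.snd ab) ≫ a := by
    have := sq.w =≫ prod.fst
    rw [Category.assoc, Category.assoc] at this
    erw [prod.lift_fst, prod.lift_fst] at this
    rwa [Category.comp_id] at this
  have e2 : hX.fst ab = (yon S).map (hX.snd ab) ≫ b := by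
    have := sq.w =≫ prod.snd
    rw [Category.assoc, Category.assoc] at this
    erw [prod.lift_snd, prod.lift_snd] at this
    rwa [Category.comp_id] at this
  have : (yon S).map (hX.snd ab) ≫ a = (yon S).map (hX.snd ab) ≫ b := e1.symm.trans e2
  have hi : IsIso ((yon S).map (hX.snd ab)) := inferInstance
  exact (cancel_epi _).1 this

/-- injectivity on field valued points -/
def InjOnFieldPts {X Y : Sp S} (f : X ⟶ Y) : Prop :=
  ∀ (K : Type u) [Field K] (str : Spec (CommRingCat.of K) ⟶ S),
    Function.Injective (fun a : (yon S).obj (Over.mk str) ⟶ X => a ≫ f)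

theorem isUnivInjectiveMor_of_injOnFieldPts {X Y : Sp S} (f : X ⟶ Y) (h : InjOnFieldPts f) :
    IsUnivInjectiveMor f := by
  intro Z Z' _ g fst snd sq z₁ z₂ hz
  obtain ⟨K, _, sK, m, rfl⟩ := mk_surjective' z₁
  obtain ⟨L, _, sL, n, rfl⟩ := mk_surjective' z₂
  rw [map_mk_ofHom, map_mk_ofHom, mk_ofHom_eq_iff] at hz
  obtain ⟨Ω, _, w, a, b, hab⟩ := hz
  rw [mk_ofHom_eq_iff]
  refine ⟨Ω, inferInstance, w, a, b, ?_⟩
  apply sq.hom_ext
  · apply h Ω w
    simp only [Category.assoc, sq.w]
    simp only [← Category.assoc] at hab ⊢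
    rw [hab]
  · simpa using hab

theorem injOnFieldPts_of_isUnivInjectiveMor {X Y : Sp S} (hX : Representable (Limits.diag X))
    (f : X ⟶ Y) (h : IsUnivInjectiveMor f) : InjOnFieldPts f := by
  intro K _ str a b hab
  dsimp only at hab
  let c := a ≫ f
  have hinj := h (IsAlgSpace.yon_obj _) c _ _ (IsPullback.of_hasPullback f c)
  let sa : (yon S).obj (Over.mk str) ⟶ pullback f c := pullback.lift a (𝟙 _) (by simp [c])
  let sb : (yon S).obj (Over.mk str) ⟶ pullback f c := pullback.lift b (𝟙 _) (by simp [c, hab])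
  have : Points.mk (ofHom sa) = Points.mk (ofHom sb) := by
    apply hinj
    rw [map_mk_ofHom, map_mk_ofHom]
    congr 2
    exact (pullback.lift_snd _ _ _).trans (pullback.lift_snd _ _ _).symm
  rw [mk_ofHom_eq_iff] at this
  obtain ⟨Ω, _, w, α, β, hαβ⟩ := this
  have h1 := hαβ =≫ pullback.snd f c
  simp only [sa, sb, Category.assoc, pullback.lift_snd, Category.comp_id] at h1
  have h2 := hαβ =≫ pullback.fst f c
  simp only [sa, sb, Category.assoc, pullback.lift_fst] at h2
  rw [← h1] at h2
  have : Nonempty ↥(Over.mk w).left := by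
    change Nonempty ↥(Spec (CommRingCat.of Ω))
    infer_instance
  exact eq_of_comp_eq_of_field hX α a b h2

theorem injOnFieldPts_iff_isUnivInjectiveMor {X Y : Sp S} (hX : Representable (Limits.diag X))
    (f : X ⟶ Y) : InjOnFieldPts f ↔ IsUnivInjectiveMor f :=
  ⟨isUnivInjectiveMor_of_injOnFieldPts f, injOnFieldPts_of_isUnivInjectiveMor hX f⟩

theorem isSurjectiveMor_diagonal_of_injOnFieldPts {X Y : Sp S} (f : X ⟶ Y)
    (h : InjOnFieldPts f) : IsSurjectiveMor (pullback.diagonal f) := by
  intro z
  obtain ⟨K, _, sK, m, rfl⟩ := mk_surjective' z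
  have : m ≫ pullback.fst f f = m ≫ pullback.snd f f := by
    apply h K sK
    simp [pullback.condition]
  refine ⟨Points.mk (ofHom (m ≫ pullback.fst f f)), ?_⟩
  rw [map_mk_ofHom]
  congr 2
  apply pullback.hom_ext
  · simp
  · simp [this]

theorem injOnFieldPts_of_isSurjectiveMor_diagonal {X Y : Sp S}
    (hX : Representable (Limits.diag X)) (f : X ⟶ Y)
    (h : IsSurjectiveMor (pullback.diagonal f)) : InjOnFieldPts f := by
  intro K _ str a b hab
  dsimp only at hab
  let m : (yon S).obj (Over.mk str) ⟶ pullback f f := pullback.lift a b hab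
  obtain ⟨x, hx⟩ := h (Points.mk (ofHom m))
  obtain ⟨L, _, sL, n, rfl⟩ := mk_surjective' x
  rw [map_mk_ofHom, mk_ofHom_eq_iff] at hx
  obtain ⟨Ω, _, w, α, β, hαβ⟩ := hx
  have h1 := hαβ =≫ pullback.fst f f
  have h2 := hαβ =≫ pullback.snd f f
  simp only [m, Category.assoc, pullback.lift_fst, pullback.lift_snd, pullback.diagonal_fst,
    pullback.diagonal_snd, Category.comp_id] at h1 h2
  have : Nonempty ↥(Over.mk w).left := by
    change Nonempty ↥(Spec (CommRingCat.of Ω))
    infer_instance
  exact eq_of_comp_eq_of_field hX β a b (h1.symm.trans h2)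

/-- If the base change of `f` to a field valued point `c` is injective on points, two lifts of
`c` to `X` are equal. -/
theorem eq_of_injective_map_snd {X Y : Sp S} (hX : Representable (Limits.diag X)) {f : X ⟶ Y}
    {K : Type u} [Field K] {str : Spec (CommRingCat.of K) ⟶ S}
    {c : (yon S).obj (Over.mk str) ⟶ Y} {P : Sp S} {fst : P ⟶ X}
    {snd : P ⟶ (yon S).obj (Over.mk str)} (sq : IsPullback fst snd f c)
    (hinj : Function.Injective (Points.map snd)) (a b : (yon S).obj (Over.mk str) ⟶ X)
    (ha : a ≫ f = c) (hb : b ≫ f = c) : a = b := by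
  let sa : (yon S).obj (Over.mk str) ⟶ P := sq.lift a (𝟙 _) (by simp [ha])
  let sb : (yon S).obj (Over.mk str) ⟶ P := sq.lift b (𝟙 _) (by simp [hb])
  have : Points.mk (ofHom sa) = Points.mk (ofHom sb) := by
    apply hinj
    rw [map_mk_ofHom, map_mk_ofHom]
    congr 2
    exact (sq.lift_snd _ _ _).trans (sq.lift_snd _ _ _).symm
  rw [mk_ofHom_eq_iff] at this
  obtain ⟨Ω, _, w, α, β, hαβ⟩ := this
  have h1 := hαβ =≫ snd
  simp only [sa, sb, Category.assoc, IsPullback.lift_snd, Category.comp_id] at h1
  have h2 := hαβ =≫ fst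
  simp only [sa, sb, Category.assoc, IsPullback.lift_fst] at h2
  rw [← h1] at h2
  have : Nonempty ↥(Over.mk w).left := by
    change Nonempty ↥(Spec (CommRingCat.of Ω))
    infer_instance
  exact eq_of_comp_eq_of_field hX α a b h2

/-- Universal injectivity descends along a base change which is surjective on points. -/
theorem isUnivInjectiveMor_of_surjective_baseChange {X Y Z P : Sp S}
    (hX : Representable (Limits.diag X)) (hZ : IsAlgSpace Z) (f : X ⟶ Y) (g : Z ⟶ Y)
    (hg : IsSurjectiveMor g) {fst : P ⟶ X} {snd : P ⟶ Z} (sq : IsPullback fst snd f g)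
    (h : IsUnivInjectiveMor snd) : IsUnivInjectiveMor f := by
  apply isUnivInjectiveMor_of_injOnFieldPts
  intro K _ str a b hab
  dsimp only at hab
  obtain ⟨z, hz⟩ := hg (Points.mk (ofHom (a ≫ f)))
  obtain ⟨L, _, sL, n, rfl⟩ := mk_surjective' z
  rw [map_mk_ofHom, mk_ofHom_eq_iff] at hz
  obtain ⟨Ω, _, w, α, β, hαβ⟩ := hz
  have : Nonempty ↥(Over.mk w).left := by
    change Nonempty ↥(Spec (CommRingCat.of Ω))
    infer_instance
  apply eq_of_comp_eq_of_field hX β a b
  let c' : (yon S).obj (Over.mk w) ⟶ Z := (yon S).map α ≫ n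
  have sq' : IsPullback (pullback.fst snd c' ≫ fst) (pullback.snd snd c') f (c' ≫ g) :=
    (IsPullback.of_hasPullback snd c').paste_horiz sq
  have hinj := h (IsAlgSpace.yon_obj _) c' _ _ (IsPullback.of_hasPullback snd c')
  apply eq_of_injective_map_snd hX sq' hinj
  · simp only [c', Category.assoc]
    simpa using hαβ.symm
  · simp only [c', Category.assoc, ← hab]
    simpa using hαβ.symm

end Groth.Agent.Lib.AlgSpField_helper7
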