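import Groth.Agent.Lib.AlgSpThickCI_helper7
import Groth.Agent.Lib.AlgSpThickSep_helper7
import Groth.Agent.Lib.RedInduced_helper7
import Groth.Agent.Lib.AlgSpLocP4_helper7
import Groth.Agent.S10193

/-!
# Properness can be tested on a finite jointly surjective family of closed subspaces (helper7)
-/

set_option autoImplicit false
set_option linter.style.haveILetI false
universe u
open CategoryTheory CategoryTheory.Limits AlgebraicGeometry Opposite

namespace Groth.Agent.Lib.AlgSpFinCoverH7

open AlgSp Groth.Agent.Lib.AlgSpQC2_helper7 Groth.Agent.Lib.AlgSpPoints_helper7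
  Groth.Agent.Lib.AlgSpPullback_helper7 Groth.Agent.Lib.AlgSpProper_helper7
  Groth.Agent.Lib.AlgSpDiag_helper7 Groth.Agent.Lib.AlgSpQC_helper7
  Groth.Agent.Lib.AlgSpLocP4_helper7 Groth.Agent.Lib.AlgSpThickSepH7
  Groth.Agent.Lib.AlgSpLocP_helper7

variable {S : Scheme.{u}}

theorem isUnivClosedMor_of_finite_family {ι : Type*} [Finite ι] {W M : Sp S} {Z : ι → Sp S}
    (j : ∀ k, Z k ⟶ W) (m : W ⟶ M)
    (hsurj : ∀ w : Points W, ∃ (k : ι) (z : Points (Z k)), Points.map (j k) z = w)
    (h : ∀ k, IsUnivClosedMor (j k ≫ m)) : IsUnivClosedMor m := by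
  intro T P hT t fst snd sq
  have hk : ∀ k, IsClosedMap (Points.map (pullback.snd (j k) fst ≫ snd)) := fun k =>
    h k hT t _ _ ((IsPullback.of_hasPullback (j k) fst).paste_vert sq)
  intro C hC
  have himg : Points.map snd '' C = ⋃ k, Points.map (pullback.snd (j k) fst ≫ snd) ''
      (Points.map (pullback.snd (j k) fst) ⁻¹' C) := by
    ext y
    simp only [Set.mem_image, Set.mem_iUnion, Set.mem_preimage]
    constructor
    · rintro ⟨p, hp, rfl⟩
      obtain ⟨k, z, hz⟩ := hsurj (Points.map fst p)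
      obtain ⟨e, he1, he2⟩ := exists_of_isPullback (IsPullback.of_hasPullback (j k) fst) z p hz
      refine ⟨k, e, ?_, ?_⟩
      · rw [he2]; exact hp
      · rw [Points.map_comp, he2]
    · rintro ⟨k, e, he, rfl⟩
      exact ⟨_, he, (Points.map_comp _ _ e).symm⟩
  rw [himg]
  exact isClosed_iUnion_of_finite fun k =>
    hk k _ (hC.preimage (Points.continuous_map _))

theorem isQuasiCompactMor_of_finite_family {ι : Type*} [Finite ι] {W M : Sp S} {Z : ι → Sp S}
    (hW : IsAlgSpace W) (hM : Functor.relativelyRepresentable.{u} (yon S) (Limits.diag M))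
    (j : ∀ k, Z k ⟶ W) (m : W ⟶ M)
    (hsurj : ∀ w : Points W, ∃ (k : ι) (z : Points (Z k)), Points.map (j k) z = w)
    (h : ∀ k, IsQuasiCompactMor (j k ≫ m)) : IsQuasiCompactMor m := by
  intro T P hT hTqc t fst snd sq
  have hP : IsAlgSpace P := isAlgSpace_of_isPullback hM hW hT sq
  have hk : ∀ k, CompactSpace (Points (pullback (j k) fst)) := fun k =>
    compactSpace_of_isQuasiCompactSp
      (h k hT hTqc t _ _ ((IsPullback.of_hasPullback (j k) fst).paste_vert sq))
  haveI : CompactSpace (Points P) := by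
    refine ⟨?_⟩
    have huniv : (Set.univ : Set (Points P)) =
        ⋃ k, Set.range (Points.map (pullback.snd (j k) fst)) := by
      ext p
      simp only [Set.mem_univ, Set.mem_iUnion, Set.mem_range, true_iff]
      obtain ⟨k, z, hz⟩ := hsurj (Points.map fst p)
      obtain ⟨e, he1, he2⟩ := exists_of_isPullback (IsPullback.of_hasPullback (j k) fst) z p hz
      exact ⟨k, e, he2⟩
    rw [huniv]
    exact isCompact_iUnion fun k => by
      haveI := hk k
      exact isCompact_range (Points.continuous_map _)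
  exact isQuasiCompactSp_of_compactSpace hP

theorem isProperMor_of_finite_closed_cover {ι : Type*} [Finite ι] {W Y : Sp S} {Z : ι → Sp S}
    (hW : IsAlgSpace W) (hY : IsAlgSpace Y)
    (j : ∀ k, Z k ⟶ W) (hcl : ∀ k, RepWith @IsClosedImmersion (j k)) (q : W ⟶ Y)
    (hsurj : ∀ w : Points W, ∃ (k : ι) (z : Points (Z k)), Points.map (j k) z = w)
    (hq : LocP @LocallyOfFiniteType q) (h : ∀ k, IsProperMor (j k ≫ q)) : IsProperMor q := by
  refine ⟨?_, ⟨hq, isQuasiCompactMor_of_finite_family hW hY.diag j q hsurj fun k => (h k).2.1.2⟩,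
    isUnivClosedMor_of_finite_family j q hsurj fun k => (h k).2.2⟩
  apply isSeparatedMor_of_isUnivClosedMor_diagonal hW q
  apply isUnivClosedMor_of_finite_family j _ hsurj
  intro k
  rw [diagonal_comp_map]
  exact (isProperMor_of_repWith_isClosedImmersion _
    (repWith_comp _ (h k).1 (repWith_closedImmersion_map (j k) q (hcl k)))).2.2

theorem exists_closedSubspace_iUnion_isProperMor {X Y : AlgSp.Space S}
    (f : X ⟶ Y) (hf : AlgSp.LocP @LocallyOfFiniteType f.hom)
    {n : ℕ} (Z : Fin n → AlgSp.Space S) (i : ∀ k, Z k ⟶ X)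
    (hi : ∀ k, AlgSp.RepWith @IsClosedImmersion (i k).hom) (hZ : ∀ k, AlgSp.IsProperMor (i k ≫ f).hom) :
    ∃ (W : AlgSp.Space S) (j : W ⟶ X), AlgSp.RepWith @IsClosedImmersion j.hom ∧
      Set.range (AlgSp.Points.map j.hom) = ⋃ k, Set.range (AlgSp.Points.map (i k).hom) ∧
      AlgSp.IsProperMor (j ≫ f).hom := by
  have hT : IsClosed (⋃ k, Set.range (AlgSp.Points.map (i k).hom)) :=
    isClosed_iUnion_of_finite fun k =>
      (Groth.Agent.Lib.AlgSpUnramLocal.closed_inj_of_repWith_isClosedImmersion (Z k).property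
        X.property _ (hi k)).1.isClosed_range
  obtain ⟨W, j, hjcl, hjrange, -⟩ := Groth.Agent.Lib.RedInducedH7.exists_isRedInduced X _ hT
  refine ⟨W, j, hjcl, hjrange, ?_⟩
  choose Zr r hr using fun k => Groth.Agent.Lib.RedInducedH7.exists_isRedInduced (Z k) Set.univ
    isClosed_univ
  have hfac : ∀ k, ∃ g : Zr k ⟶ W, g ≫ j = r k ≫ i k := fun k => by
    refine (Groth.Agent.S10193.result j hjcl (hr k).2.2 (r k ≫ i k)).2 ?_
    rintro _ ⟨z, rfl⟩
    rw [hjrange]
    refine Set.mem_iUnion.2 ⟨k, AlgSp.Points.map (r k).hom z, ?_⟩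
    exact (AlgSp.Points.map_comp (r k).hom (i k).hom z).symm
  choose g hg using hfac
  have hjinj : Function.Injective (AlgSp.Points.map j.hom) :=
    (Groth.Agent.Lib.AlgSpUnramLocal.closed_inj_of_repWith_isClosedImmersion W.property
      X.property _ hjcl).2
  haveI : Mono j.hom := Groth.Agent.Lib.SchImageH7.mono_of_closedImmersion j.hom hjcl
  have hgcl : ∀ k, RepWith @IsClosedImmersion (g k).hom := fun k => by
    refine repWith_of_comp_of_diagonal _ (g k).hom j.hom ?_
      (repWith_diagonal_of_mono @IsClosedImmersion j.hom)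
    have e : (g k).hom ≫ j.hom = (r k).hom ≫ (i k).hom := by
      have := congrArg (fun φ => φ.hom) (hg k)
      exact this
    rw [e]
    exact repWith_comp _ (hr k).1 (hi k)
  have hsurj : ∀ w : Points W.obj, ∃ (k : Fin n) (z : Points (Zr k).obj),
      Points.map (g k).hom z = w := by
    intro w
    have hw : AlgSp.Points.map j.hom w ∈ ⋃ k, Set.range (AlgSp.Points.map (i k).hom) := by
      rw [← hjrange]; exact ⟨w, rfl⟩
    obtain ⟨k, z, hz⟩ := Set.mem_iUnion.1 hw
    have hz' : z ∈ Set.range (AlgSp.Points.map (r k).hom) := by rw [(hr k).2.1]; trivial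
    obtain ⟨z', rfl⟩ := hz'
    refine ⟨k, z', hjinj ?_⟩
    rw [← hz, ← Points.map_comp, ← Points.map_comp]
    have e : (g k).hom ≫ j.hom = (r k).hom ≫ (i k).hom := by
      have := congrArg (fun φ => φ.hom) (hg k)
      exact this
    rw [e]
  have hq : LocP @LocallyOfFiniteType (j ≫ f).hom :=
    locP_comp etLocal_locallyOfFiniteType W.property X.property Y.property j.hom f.hom
      (locP_of_repWith @LocallyOfFiniteType
        (fun _ _ k (hk : Etale k) => (inferInstance : LocallyOfFiniteType k)) j.hom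
        (repWith_mono (fun _ _ k (hk : IsClosedImmersion k) =>
          (inferInstance : LocallyOfFiniteType k)) hjcl)) hf
  refine isProperMor_of_finite_closed_cover W.property Y.property (fun k => (g k).hom) hgcl
    (j ≫ f).hom hsurj hq ?_
  intro k
  have e : (g k).hom ≫ (j ≫ f).hom = (r k).hom ≫ (i k ≫ f).hom := by
    have := congrArg (fun φ => φ.hom ≫ f.hom) (hg k)
    simpa using this
  rw [e]
  exact isProperMor_comp (Zr k).property (Z k).property Y.property _ _
    (isProperMor_of_repWith_isClosedImmersion _ (hr k).1) (hZ k)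

end Groth.Agent.Lib.AlgSpFinCoverH7
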