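import Groth.Agent.Lib.AlgSpGeneriz2_helper6

/-!
# Finite fibres over a point: from an étale covering to all affine étale charts (helper6)
-/

set_option autoImplicit false
universe u
open CategoryTheory CategoryTheory.Limits AlgebraicGeometry Opposite

namespace Groth.Agent.Lib.AlgSpFinFib_helper6

open AlgSp Groth.Agent.Lib.AlgSpPoints_helper7 Groth.Agent.Lib.AlgSpQC_helper7
  Groth.Agent.Lib.AlgSpPullback_helper7 Groth.Agent.Lib.AlgSpBasic_helper7
  Groth.Agent.Lib.AlgSpEtale_helper7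

variable {S : Scheme.{u}}

/-- affine-to-affine locally quasi-finite morphisms have finite fibres (restricted form) -/
theorem finite_inter_preimage_of_affine {W U : Scheme.{u}} (f : W ⟶ U) [LocallyQuasiFinite f]
    (U' : U.Opens) (hU' : IsAffineOpen U') (W' : W.Opens) (hW' : IsAffineOpen W')
    (e : W' ≤ f ⁻¹ᵁ U') (u : ↥U) : ((W' : Set ↥W) ∩ f ⁻¹' {u}).Finite := by
  by_cases hu : u ∈ U'
  · haveI : IsAffine W'.toScheme := hW'
    haveI : IsAffine U'.toScheme := hU'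
    have hfin := (f.resLE U' W' e).finite_preimage_singleton ⟨u, hu⟩
    refine (hfin.image W'.ι).subset ?_
    rintro w ⟨hwW, hwu⟩
    refine ⟨⟨w, hwW⟩, ?_, rfl⟩
    apply Subtype.ext
    have h1 : (f.resLE U' W' e ≫ U'.ι) ⟨w, hwW⟩ = (W'.ι ≫ f) ⟨w, hwW⟩ := by
      rw [Scheme.Hom.resLE_comp_ι]
    simpa using h1.trans hwu
  · convert Set.finite_empty
    ext w
    simp only [Set.mem_inter_iff, SetLike.mem_coe, Set.mem_preimage, Set.mem_singleton_iff,
      Set.mem_empty_iff_false, iff_false, not_and]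
    intro hw hwu
    exact hu (hwu ▸ e hw)

/-- a locally quasi-finite morphism has finite fibres on compact subsets of the source -/
theorem finite_inter_preimage_of_isCompact {W U : Scheme.{u}} (f : W ⟶ U) [LocallyQuasiFinite f]
    (K : Set ↥W) (hK : IsCompact K) (u : ↥U) : (K ∩ f ⁻¹' {u}).Finite := by
  have h1 : ∀ w : ↥W, ∃ U' : U.Opens, IsAffineOpen U' ∧ f w ∈ U' := fun w => by
    obtain ⟨U', h, hm, -⟩ := exists_isAffineOpen_mem_and_subset (x := f w) (U := ⊤) trivial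
    exact ⟨U', h, hm⟩
  choose U' hU' hfU' using h1
  have h2 : ∀ w : ↥W, ∃ W' : W.Opens, IsAffineOpen W' ∧ w ∈ W' ∧ W' ≤ f ⁻¹ᵁ (U' w) := fun w => by
    obtain ⟨W', h, hm, hs⟩ := exists_isAffineOpen_mem_and_subset (x := w) (U := f ⁻¹ᵁ (U' w))
      (hfU' w)
    exact ⟨W', h, hm, hs⟩
  choose W' hW' hwW' hle using h2
  obtain ⟨t, -, ht⟩ := hK.elim_nhds_subcover (fun w => (W' w : Set ↥W))
    (fun w _ => (W' w).isOpen.mem_nhds (hwW' w))
  have : K ∩ f ⁻¹' {u} ⊆ ⋃ w ∈ t, ((W' w : Set ↥W) ∩ f ⁻¹' {u}) := by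
    rintro w ⟨hwK, hwu⟩
    obtain ⟨w0, hw0, hw⟩ := Set.mem_iUnion₂.1 (ht hwK)
    exact Set.mem_iUnion₂.2 ⟨w0, hw0, hw, hwu⟩
  refine Set.Finite.subset ?_ this
  exact Set.Finite.biUnion t.finite_toSet
    (fun w _ => finite_inter_preimage_of_affine f (U' w) (hU' w) (W' w) (hW' w) (hle w) u)

/-- If `x` has finite fibres in the members of an étale covering by schemes, then it has finite
fibre in every étale chart from a quasi-compact scheme. -/
theorem finite_fibre_of_etale_cover {X : Sp S} (x : Points X) {ι : Type u} (U : ι → Over S)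
    (φ : ∀ i, (yon S).obj (U i) ⟶ X) (hφ : ∀ i, RepWith @Etale (φ i))
    (hsurj : ∀ y : Points X, ∃ (i : ι) (v : ↥(U i).left), Points.ofPt (φ i) v = y)
    (hfin : ∀ i, (Points.ofPt (φ i) ⁻¹' {x}).Finite)
    {V : Over S} [CompactSpace ↥V.left] (ψ : (yon S).obj V ⟶ X) (hψ : RepWith @Etale ψ) :
    (Points.ofPt ψ ⁻¹' {x}).Finite := by
  let a := fun i => (hφ i).rep.fst' ψ
  let b := fun i => (hφ i).rep.snd ψ
  have sq : ∀ i, IsPullback ((yon S).map (a i)) ((yon S).map (b i)) (φ i) ψ :=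
    fun i => (hφ i).rep.isPullback' ψ
  have hb : ∀ i, Etale (b i).left := fun i => (hφ i).property_snd ψ
  have ha : ∀ i, Etale (a i).left := fun i => by
    have h1 : RepWith @Etale ((yon S).map (a i)) := repWith_fst_of_isPullback _ (sq i) hψ
    exact (repWith_yon_map_iff _ _).1 h1
  have h1 : ∀ v : ↥V.left, ∃ (i : ι) (w : ↥((hφ i).rep.pullback ψ).left), (b i).left w = v := by
    intro v
    obtain ⟨i, u, hu⟩ := hsurj (Points.ofPt ψ v)
    obtain ⟨w, -, hw⟩ := exists_ofPt_eq_of_isPullback (sq i) u v hu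
    exact ⟨i, w, hw⟩
  choose i w hw using h1
  have h2 : ∀ v : ↥V.left, ∃ O : ((hφ (i v)).rep.pullback ψ).left.Opens,
      IsAffineOpen O ∧ w v ∈ O := fun v => by
    obtain ⟨O, h, hm, -⟩ := exists_isAffineOpen_mem_and_subset (x := w v) (U := ⊤) trivial
    exact ⟨O, h, hm⟩
  choose O hO hwO using h2
  have hopen : ∀ v, IsOpen ((b (i v)).left '' (O v : Set _)) := fun v =>
    (b (i v)).left.isOpenMap _ (O v).isOpen
  obtain ⟨t, -, ht⟩ := (isCompact_univ (X := ↥V.left)).elim_nhds_subcover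
    (fun v => (b (i v)).left '' (O v : Set _))
    (fun v _ => (hopen v).mem_nhds ⟨w v, hwO v, hw v⟩)
  -- the finite sets
  have hfinv : ∀ v, ((O v : Set _) ∩ (a (i v)).left ⁻¹' (Points.ofPt (φ (i v)) ⁻¹' {x})).Finite := by
    intro v
    haveI : LocallyQuasiFinite (a (i v)).left := locallyQuasiFinite_of_unramified _
    have : (O v : Set _) ∩ (a (i v)).left ⁻¹' (Points.ofPt (φ (i v)) ⁻¹' {x}) =
        ⋃ u ∈ (Points.ofPt (φ (i v)) ⁻¹' {x}), ((O v : Set _) ∩ (a (i v)).left ⁻¹' {u}) := by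
      ext z
      simp only [Set.mem_inter_iff, Set.mem_preimage, Set.mem_singleton_iff, Set.mem_iUnion,
        exists_prop]
      constructor
      · rintro ⟨h1, h2⟩; exact ⟨_, h2, h1, rfl⟩
      · rintro ⟨u, h2, h1, rfl⟩; exact ⟨h1, h2⟩
    rw [this]
    exact Set.Finite.biUnion (hfin (i v))
      (fun u _ => finite_inter_preimage_of_isCompact _ _ (hO v).isCompact u)
  have hsub : Points.ofPt ψ ⁻¹' {x} ⊆ ⋃ v ∈ t, (b (i v)).left ''
      ((O v : Set _) ∩ (a (i v)).left ⁻¹' (Points.ofPt (φ (i v)) ⁻¹' {x})) := by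
    intro v0 hv0
    obtain ⟨v, hvt, z, hzO, hz⟩ := Set.mem_iUnion₂.1 (ht (Set.mem_univ v0))
    refine Set.mem_iUnion₂.2 ⟨v, hvt, z, ⟨hzO, ?_⟩, hz⟩
    change Points.ofPt (φ (i v)) ((a (i v)).left z) = x
    rw [← ofPt_comp, (sq (i v)).w, ofPt_comp, hz]
    exact hv0
  refine Set.Finite.subset ?_ hsub
  exact Set.Finite.biUnion t.finite_toSet (fun v _ => (hfinv v).image _)

end Groth.Agent.Lib.AlgSpFinFib_helper6
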