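import Mathlib
import Groth.Prelude.Def_MoreMor
import Groth.Agent.Lib.FibMapFlat_helper5
import Groth.Agent.Lib.FlatPtBC_helper4
import Groth.Agent.Lib.FlatDescent_helper4

/-!
# CM at a point descends along a base change flat at the image point (helper5): S1347
APPEND-ONLY once landed.
-/

set_option autoImplicit false
universe u

namespace Groth.Agent.CMPtDescent

open AlgebraicGeometry CategoryTheory Limits IsLocalRing

/-- If `g` is flat at `f' x'` in a cartesian square and `f'` is flat at `x'`, then `f` is flat at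
`g' x'`. -/
theorem flat_descends {X Y X' Y' : Scheme.{u}} (f : X ⟶ Y)
    (f' : X' ⟶ Y') (g' : X' ⟶ X) (g : Y' ⟶ Y) (hc : IsPullback g' f' f g) (x' : X')
    (hflat : (g.stalkMap (f' x')).hom.Flat) (h : (f'.stalkMap x').hom.Flat) :
    (f.stalkMap (g' x')).hom.Flat := by
  have hg' : (g'.stalkMap x').hom.Flat :=
    Groth.Agent.Lib.FlatPtBCH4.flat_baseChange_of_flat hc.flip x' hflat
  have hg'ff : (g'.stalkMap x').hom.FaithfullyFlat := by
    letI : Algebra (X.presheaf.stalk (g' x')) (X'.presheaf.stalk x') :=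
      (g'.stalkMap x').hom.toAlgebra
    exact @Module.FaithfullyFlat.of_flat_of_isLocalHom _ _ _ _ _ _ _ hg' (g'.toLRSHom.prop x')
  have h1 : ((f' ≫ g).stalkMap x').hom.Flat := by
    rw [Scheme.Hom.stalkMap_comp]; exact RingHom.Flat.comp hflat h
  have h2 : ((g' ≫ f).stalkMap x').hom.Flat := by rw [hc.w]; exact h1
  rw [Scheme.Hom.stalkMap_comp] at h2
  have h2' : ((g'.stalkMap x').hom.comp (f.stalkMap (g' x')).hom).Flat := h2
  exact Groth.Agent.Lib.FlatDescent_helper4.ringHom_flat_of_comp _ _ hg'ff h2'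

theorem main1347 {X Y X' Y' : Scheme.{u}} (f : X ⟶ Y)
    (hN : ∀ y : Y, IsLocallyNoetherian (f.fiber y))
    (f' : X' ⟶ Y') (g' : X' ⟶ X) (g : Y' ⟶ Y) (hc : IsPullback g' f' f g) (x' : X')
    (hflat : (g.stalkMap (f' x')).hom.Flat) (h : MoreMor.IsCMAt f' x') :
    MoreMor.IsCMAt f (g' x') :=
  Groth.Agent.FibMapFlat.main1346 f hN f' g' g hc x'
    (flat_descends f f' g' g hc x' hflat h.1) h

end Groth.Agent.CMPtDescent
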