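import Groth.Agent.Lib.AlgSpFormal_helper7

/-!
# Infinitesimal lifting along thickenings of algebraic spaces (helper7)
-/

set_option autoImplicit false
universe u
open CategoryTheory CategoryTheory.Limits AlgebraicGeometry Opposite MorphismProperty
open AlgSp Groth.Agent.Lib.FormalEtale_helper7 Groth.Agent.Lib.AlgSpCov_helper7
  Groth.Agent.Lib.AlgSpOpenSub_helper7 Groth.Agent.Lib.AlgSpPullback_helper7
  Groth.Agent.Lib.AlgSpIso_helper7 Groth.Agent.Lib.AlgSpInfLift_helper6
  Groth.Agent.Lib.AlgSpQC_helper7 Groth.Agent.Lib.AlgSpPoints_helper7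
  Groth.Agent.Lib.AlgSpFormal_helper7

namespace Groth.Agent.Lib.AlgSpFormal2_helper7

variable {S : Scheme.{u}}

/-- The affine étale chart data of a first order thickening: over an affine étale chart
`r : h_{Spec R} ⟶ T'` the thickening becomes `Spec (R ⧸ K) ⟶ Spec R` with `K ^ 2 = 0`. -/
theorem exists_affine_thickening_chart {T T' : Sp S} (j : T ⟶ T') (hj : IsFOThickMor j)
    {R : CommRingCat.{u}} (str : Spec R ⟶ S) (r : (yon S).obj (Over.mk str) ⟶ T')
    (hre : RepWith @Etale r) :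
    ∃ (K : Ideal R) (_ : K ^ 2 = ⊥)
      (t : (yon S).obj (Over.mk (thk K ≫ str)) ⟶ T),
      t ≫ j = (yon S).map (Over.homMk (thk K) rfl : Over.mk (thk K ≫ str) ⟶ Over.mk str) ≫ r := by
  let Wk := hj.1.rep.pullback r
  let snd : Wk ⟶ Over.mk str := hj.1.rep.snd r
  let fst : (yon S).obj Wk ⟶ T := hj.1.rep.fst r
  have hpb : IsPullback fst ((yon S).map snd) j r := hj.1.rep.isPullback r
  have hthick : thick snd.left := hj.1.property_snd r
  have haff : IsAffine (Over.mk str).left := by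
    change IsAffine (Spec R)
    infer_instance
  have hsq : sqZero snd.left := hj.2 r fst snd haff hre hpb
  haveI : IsClosedImmersion snd.left := hthick.1
  obtain ⟨K, e, he⟩ := IsClosedImmersion.Spec_iff.1 (inferInstance : IsClosedImmersion snd.left)
  have he' : snd.left = e.hom ≫ thk K := he
  have hK : K ^ 2 = ⊥ := by
    apply pow_zero_of_ker_thk
    have h1 : snd.left.ker ^ 2 = ⊥ := by rw [pow_two]; exact hsq
    rw [he', Scheme.Hom.ker_comp_of_isIso] at h1
    exact h1
  let e' : Over.mk (thk K ≫ str) ⟶ Wk := Over.homMk e.inv (by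
    have hw := Over.w snd
    change e.inv ≫ Wk.hom = thk K ≫ str
    rw [← hw, he', Category.assoc, Iso.inv_hom_id_assoc]
    rfl)
  have he's : e' ≫ snd = (Over.homMk (thk K) rfl : Over.mk (thk K ≫ str) ⟶ Over.mk str) := by
    ext
    change e.inv ≫ snd.left = thk K
    rw [he', Iso.inv_hom_id_assoc]
  refine ⟨K, hK, (yon S).map e' ≫ fst, ?_⟩
  rw [Category.assoc, hpb.w, ← Category.assoc, ← Functor.map_comp, he's]

/-- Formally unramified morphisms have at most one lift along first order thickenings of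
algebraic spaces. -/
theorem unram_uniq_of_FOThick {X Y T T' : Sp S} (hT' : IsAlgSpace T') (f : X ⟶ Y)
    (hf : IsFormallyUnramifiedMor f) (j : T ⟶ T') (hj : IsFOThickMor j)
    (l l' : T' ⟶ X) (h1 : j ≫ l = j ≫ l') (h2 : l ≫ f = l' ≫ f) : l = l' := by
  obtain ⟨U, p, hpe, hps⟩ := hT'.atlas
  haveI := epi_of_atlas p hpe hps
  rw [← cancel_epi p]
  let 𝒲 := U.left.affineOpenCover
  let Tk : 𝒲.I₀ → Over S := fun k => Over.mk (𝒲.f k ≫ U.hom)
  let c : ∀ k, Tk k ⟶ U := fun k => Over.homMk (𝒲.f k) rfl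
  have hoi : ∀ k, IsOpenImmersion (c k).left := fun k => 𝒲.map_prop k
  refine hom_ext_of_fppf_family Tk c (fun k => ?_) (fun k => ?_) (fun t => ?_) (p ≫ l) (p ≫ l')
    fun k => ?_
  · haveI := hoi k; infer_instance
  · haveI := hoi k; infer_instance
  · obtain ⟨k, y, rfl⟩ := 𝒲.openCover.exists_eq t
    exact ⟨k, y, rfl⟩
  let r : (yon S).obj (Tk k) ⟶ T' := (yon S).map (c k) ≫ p
  have hre : RepWith @Etale r := by
    haveI := hoi k
    exact repWith_comp _ ((repWith_yon_map_iff _ _).2 (inferInstance : Etale (c k).left)) hpe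
  obtain ⟨K, hK, t, ht⟩ := exists_affine_thickening_chart j hj (𝒲.f k ≫ U.hom) r hre
  let jK : Over.mk (thk K ≫ 𝒲.f k ≫ U.hom) ⟶ Tk k := Over.homMk (thk K) rfl
  have ht' : ∀ {Z : Sp S} (m : T' ⟶ Z), t ≫ j ≫ m = (yon S).map jK ≫ r ≫ m := fun m =>
    (Category.assoc _ _ _).symm.trans ((congrArg (· ≫ m) ht).trans (Category.assoc _ _ _))
  let sq : InfSq f :=
    { A := 𝒲.X k, I := K, sq_zero := hK, str := 𝒲.f k ≫ U.hom,
      top := t ≫ j ≫ l,
      bot := r ≫ l ≫ f,
      comm := by
        have := ht' (l ≫ f)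
        simpa only [Category.assoc] using this }
  have key := hf sq (r ≫ l) (r ≫ l')
    (ht' l).symm
    (Category.assoc _ _ _)
    (by
      change (yon S).map jK ≫ r ≫ l' = t ≫ j ≫ l
      rw [h1]
      exact (ht' l').symm)
    (by
      change (r ≫ l') ≫ f = r ≫ l ≫ f
      rw [Category.assoc, h2])
  simpa [r, Category.assoc] using key

end Groth.Agent.Lib.AlgSpFormal2_helper7
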