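import Mathlib
import Groth.Prelude.Def_MoreMor

/-!
# Formally étale morphisms of schemes (lifting sense) — helper7

`MoreMor.IsFormallyEtaleHom` is local on the source and agrees with the ring-level notion on affines.
-/

set_option autoImplicit false
universe u
open CategoryTheory CategoryTheory.Limits AlgebraicGeometry

namespace Groth.Agent.Lib.FormalEtale_helper7

variable {X Y Z : Scheme.{u}}

section Thk
variable {A : Type u} [CommRing A] (I : Ideal A)

/-- The closed immersion `Spec (A ⧸ I) ⟶ Spec A`. -/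
noncomputable abbrev thk : Spec (CommRingCat.of (A ⧸ I)) ⟶ Spec (CommRingCat.of A) :=
  Spec.map (CommRingCat.ofHom (Ideal.Quotient.mk I))

instance thk_isClosedImmersion : IsClosedImmersion (thk I) :=
  IsClosedImmersion.spec_of_surjective _ Ideal.Quotient.mk_surjective

lemma thk_surjective {n : ℕ} (hI : I ^ n = ⊥) : Function.Surjective (thk I) := by
  intro t
  have : t ∈ Set.range (PrimeSpectrum.comap (Ideal.Quotient.mk I)) := by
    rw [range_comap_of_surjective _ _ Ideal.Quotient.mk_surjective, Ideal.mk_ker]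
    intro x hx
    have h1 : x ^ n ∈ I ^ n := Ideal.pow_mem_pow hx n
    rw [hI] at h1
    have h0 : x ^ n = 0 := h1
    exact t.isPrime.mem_of_pow_mem n (h0 ▸ t.asIdeal.zero_mem)
  obtain ⟨s, hs⟩ := this
  exact ⟨s, hs⟩

lemma thk_injective : Function.Injective (thk I) :=
  (thk I).isClosedEmbedding.injective

lemma ker_thk_ideal_top :
    (thk I).ker.ideal ⟨⊤, isAffineOpen_top _⟩ =
      I.comap (Scheme.ΓSpecIso (CommRingCat.of A)).hom.hom := by
  rw [Scheme.Hom.ker_apply]
  ext x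
  simp only [RingHom.mem_ker, Ideal.mem_comap]
  have hnat := Scheme.ΓSpecIso_naturality (CommRingCat.ofHom (Ideal.Quotient.mk I))
  have h2 : (Scheme.ΓSpecIso (CommRingCat.of (A ⧸ I))).hom.hom ((thk I).appTop.hom x) =
      Ideal.Quotient.mk I ((Scheme.ΓSpecIso (CommRingCat.of A)).hom.hom x) := by
    exact congrArg (fun φ => φ.hom x) hnat
  have hinj : Function.Injective (Scheme.ΓSpecIso (CommRingCat.of (A ⧸ I))).hom.hom :=
    (ConcreteCategory.bijective_of_isIso (Scheme.ΓSpecIso (CommRingCat.of (A ⧸ I))).hom).1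
  constructor
  · intro h
    have : (Scheme.ΓSpecIso (CommRingCat.of (A ⧸ I))).hom.hom ((thk I).appTop.hom x) = 0 := by
      have h' : (thk I).appTop.hom x = 0 := h
      rw [h', map_zero]
    rw [h2] at this
    exact Ideal.Quotient.eq_zero_iff_mem.mp this
  · intro h
    have h3 := Ideal.Quotient.eq_zero_iff_mem.mpr h
    rw [← h2] at h3
    exact hinj (h3.trans (map_zero _).symm)

lemma isNilpotent_ker_thk {n : ℕ} (hI : I ^ n = ⊥) : IsNilpotent (thk I).ker := by
  refine ⟨n, ?_⟩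
  refine Scheme.IdealSheafData.ext_of_isAffine ?_
  rw [Scheme.IdealSheafData.ideal_pow, Pi.pow_apply, ker_thk_ideal_top]
  change _ = (⊥ : Ideal _)
  rw [eq_bot_iff]
  refine (Ideal.le_comap_pow _ n).trans ?_
  rw [hI]
  intro x hx
  have hinj : Function.Injective (Scheme.ΓSpecIso (CommRingCat.of A)).hom.hom :=
    (ConcreteCategory.bijective_of_isIso (Scheme.ΓSpecIso (CommRingCat.of A)).hom).1
  have : (Scheme.ΓSpecIso (CommRingCat.of A)).hom.hom x = 0 := hx
  exact hinj (this.trans (map_zero _).symm)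

end Thk

section Basic

/-- shorthand -/
abbrev FE (f : X ⟶ Y) : Prop := MoreMor.IsFormallyEtaleHom f

lemma fe_comp {f : X ⟶ Y} {g : Y ⟶ Z} (hf : FE f) (hg : FE g) : FE (f ≫ g) := by
  intro A _ I hI a b comm
  obtain ⟨l1, ⟨h1, h2⟩, hu1⟩ := hg A I hI (a ≫ f) b (by rw [comm, Category.assoc])
  obtain ⟨l, ⟨h3, h4⟩, hu⟩ := hf A I hI a l1 h1
  refine ⟨l, ⟨h3, by rw [← Category.assoc, h4, h2]⟩, ?_⟩
  rintro l' ⟨h5, h6⟩
  have e1 : l' ≫ f = l1 := hu1 (l' ≫ f) ⟨by rw [← Category.assoc, h5], by rw [Category.assoc, h6]⟩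
  exact hu l' ⟨h5, e1⟩

lemma fe_of_mono_of_lift (f : X ⟶ Y) [Mono f]
    (H : ∀ (A : Type u) [CommRing A] (I : Ideal A), I ^ 2 = ⊥ →
      ∀ (a : Spec (CommRingCat.of (A ⧸ I)) ⟶ X) (b : Spec (CommRingCat.of A) ⟶ Y),
        thk I ≫ b = a ≫ f → ∃ l : Spec (CommRingCat.of A) ⟶ X, l ≫ f = b) : FE f := by
  intro A _ I hI a b comm
  obtain ⟨l, hl⟩ := H A I hI a b comm
  refine ⟨l, ⟨?_, hl⟩, ?_⟩
  · rw [← cancel_mono f, Category.assoc, hl, comm]
  · rintro l' ⟨-, h⟩
    rw [← cancel_mono f, h, hl]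

lemma fe_of_isOpenImmersion (f : X ⟶ Y) [IsOpenImmersion f] : FE f := by
  refine fe_of_mono_of_lift f fun A _ I hI a b comm => ?_
  have hr : Set.range b ⊆ Set.range f := by
    rintro _ ⟨t, rfl⟩
    obtain ⟨t0, rfl⟩ := thk_surjective I hI t
    refine ⟨a t0, ?_⟩
    have := congrArg (fun g : Spec (CommRingCat.of (A ⧸ I)) ⟶ Y => g t0) comm
    simpa using this.symm
  exact ⟨IsOpenImmersion.lift f b hr, IsOpenImmersion.lift_fac f b hr⟩

lemma fe_of_isIso (f : X ⟶ Y) [IsIso f] : FE f := fe_of_isOpenImmersion f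

lemma fe_of_comp_mono {f : X ⟶ Y} (g : Y ⟶ Z) [Mono g] (h : FE (f ≫ g)) : FE f := by
  intro A _ I hI a b comm
  obtain ⟨l, ⟨h1, h2⟩, hu⟩ := h A I hI a (b ≫ g) (by rw [← Category.assoc, comm, Category.assoc])
  refine ⟨l, ⟨h1, ?_⟩, ?_⟩
  · rw [← cancel_mono g, Category.assoc, h2]
  · rintro l' ⟨h3, h4⟩
    exact hu l' ⟨h3, by rw [← Category.assoc, h4]⟩

/-- a formally étale morphism (lifting sense) is formally unramified in Mathlib's sense -/
lemma formallyUnramified_of_fe {f : X ⟶ Y} (h : FE f) : FormallyUnramified f := by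
  refine FormallyUnramified.of_hom_ext f fun R S φ hφ hker g₁ g₂ h1 h2 => ?_
  let I : Ideal R := RingHom.ker φ.hom
  let ψ : R ⧸ I →+* S := RingHom.kerLift φ.hom
  have hψ : Function.Bijective ψ :=
    ⟨RingHom.kerLift_injective φ.hom, Ideal.Quotient.lift_surjective_of_surjective _ _ hφ⟩
  let e : (CommRingCat.of (R ⧸ I)) ≅ S := (RingEquiv.ofBijective ψ hψ).toCommRingCatIso
  have hφe : φ = CommRingCat.ofHom (Ideal.Quotient.mk I) ≫ e.hom := by
    ext x
    rfl
  have hSφ : Spec.map φ = Spec.map e.hom ≫ thk I := by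
    rw [hφe, Spec.map_comp]
  have h1' : thk I ≫ g₁ = thk I ≫ g₂ := by
    rw [hSφ, Category.assoc, Category.assoc] at h1
    exact (cancel_epi (Spec.map e.hom)).1 h1
  obtain ⟨l, -, hu⟩ := h R I hker (thk I ≫ g₁) (g₁ ≫ f) (by rw [Category.assoc])
  rw [hu g₁ ⟨rfl, rfl⟩, hu g₂ ⟨h1'.symm, h2.symm⟩]

end Basic

section SpecMap

lemma fe_specMap_of {R S : CommRingCat.{u}} (φ : R ⟶ S) (h : φ.hom.FormallyEtale) :
    FE (Spec.map φ) := by
  intro A _ I hI a b comm
  letI : Algebra R S := φ.hom.toAlgebra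
  have h' : Algebra.FormallyEtale R S := h
  let ρ : R ⟶ CommRingCat.of A := Spec.preimage b
  let α : S ⟶ CommRingCat.of (A ⧸ I) := Spec.preimage a
  have hρ : Spec.map ρ = b := Spec.map_preimage b
  have hα : Spec.map α = a := Spec.map_preimage a
  letI : Algebra R A := ρ.hom.toAlgebra
  have hcomm : ρ ≫ CommRingCat.ofHom (Ideal.Quotient.mk I) = φ ≫ α := by
    apply Spec.map_injective
    rw [Spec.map_comp, Spec.map_comp, hρ, hα]
    exact comm
  let g : S →ₐ[R] A ⧸ I :=
    { α.hom with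
      commutes' := fun r => by
        have := congrArg (fun ψ : R ⟶ CommRingCat.of (A ⧸ I) => ψ.hom r) hcomm
        exact this.symm }
  obtain ⟨hinj, hsurj⟩ := Algebra.FormallyEtale.comp_bijective R S I hI
  obtain ⟨ψ, hψ⟩ := hsurj g
  have key : ∀ (l' : Spec (CommRingCat.of A) ⟶ Spec S), thk I ≫ l' = a → l' ≫ Spec.map φ = b →
      l' = Spec.map (CommRingCat.ofHom ψ.toRingHom) := by
    intro l' h1 h2
    let ψ0 : S ⟶ CommRingCat.of A := Spec.preimage l'
    have hψ0 : Spec.map ψ0 = l' := Spec.map_preimage l'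
    have e2 : φ ≫ ψ0 = ρ := by
      apply Spec.map_injective
      rw [Spec.map_comp, hψ0, hρ, h2]
    have e1 : ψ0 ≫ CommRingCat.ofHom (Ideal.Quotient.mk I) = α := by
      apply Spec.map_injective
      rw [Spec.map_comp, hψ0, hα, h1]
    let ψ' : S →ₐ[R] A :=
      { ψ0.hom with
        commutes' := fun r => congrArg (fun χ : R ⟶ CommRingCat.of A => χ.hom r) e2 }
    have : (Ideal.Quotient.mkₐ R I).comp ψ' = g := by
      ext x
      exact congrArg (fun χ : S ⟶ CommRingCat.of (A ⧸ I) => χ.hom x) e1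
    have hψ' : ψ' = ψ := hinj (this.trans hψ.symm)
    rw [← hψ0]
    congr 1
    ext x
    exact congrArg (fun χ : S →ₐ[R] A => χ x) hψ'
  refine ⟨Spec.map (CommRingCat.ofHom ψ.toRingHom), ⟨?_, ?_⟩, fun l' hl' => key l' hl'.1 hl'.2⟩
  · rw [← hα, ← Spec.map_comp]
    congr 1
    ext x
    exact congrArg (fun χ : S →ₐ[R] A ⧸ I => χ x) hψ
  · rw [← hρ, ← Spec.map_comp]
    congr 1
    ext r
    exact ψ.commutes r

lemma fe_specMap_to {R S : CommRingCat.{u}} (φ : R ⟶ S) (h : FE (Spec.map φ)) :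
    φ.hom.FormallyEtale := by
  letI : Algebra R S := φ.hom.toAlgebra
  show Algebra.FormallyEtale R S
  rw [Algebra.FormallyEtale.iff_comp_bijective]
  intro B _ _ I hI
  have setup : ∀ g : S →ₐ[R] B ⧸ I,
      thk I ≫ Spec.map (CommRingCat.ofHom (algebraMap R B)) =
        Spec.map (CommRingCat.ofHom g.toRingHom) ≫ Spec.map φ := by
    intro g
    rw [← Spec.map_comp, ← Spec.map_comp]
    congr 1
    ext r
    exact (g.commutes r).symm
  have hlift : ∀ (ψ : S →ₐ[R] B),
      thk I ≫ Spec.map (CommRingCat.ofHom ψ.toRingHom) =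
        Spec.map (CommRingCat.ofHom ((Ideal.Quotient.mkₐ R I).comp ψ).toRingHom) ∧
      Spec.map (CommRingCat.ofHom ψ.toRingHom) ≫ Spec.map φ =
        Spec.map (CommRingCat.ofHom (algebraMap R B)) := by
    intro ψ
    constructor
    · rw [← Spec.map_comp]
      rfl
    · rw [← Spec.map_comp]
      congr 1
      ext r
      exact ψ.commutes r
  constructor
  · intro ψ₁ ψ₂ heq
    obtain ⟨l, -, hu⟩ := h B I hI _ _ (setup ((Ideal.Quotient.mkₐ R I).comp ψ₁))
    have e1 := hu _ ⟨(hlift ψ₁).1, (hlift ψ₁).2⟩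
    have e2 := hu _ ⟨by rw [(hlift ψ₂).1]; exact congrArg (fun χ : S →ₐ[R] B ⧸ I =>
      Spec.map (CommRingCat.ofHom χ.toRingHom)) heq.symm, (hlift ψ₂).2⟩
    have e3 := Spec.map_injective (e1.trans e2.symm)
    ext x
    exact congrArg (fun χ : S ⟶ CommRingCat.of B => χ.hom x) e3
  · intro g
    obtain ⟨l, ⟨h1, h2⟩, -⟩ := h B I hI _ _ (setup g)
    let ψ0 : S ⟶ CommRingCat.of B := Spec.preimage l
    have hψ0 : Spec.map ψ0 = l := Spec.map_preimage l
    have e2 : φ ≫ ψ0 = CommRingCat.ofHom (algebraMap R B) := by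
      apply Spec.map_injective
      rw [Spec.map_comp, hψ0, h2]
    have e1 : ψ0 ≫ CommRingCat.ofHom (Ideal.Quotient.mk I) = CommRingCat.ofHom g.toRingHom := by
      apply Spec.map_injective
      rw [Spec.map_comp, hψ0, h1]
    let ψ' : S →ₐ[R] B :=
      { ψ0.hom with
        commutes' := fun r => congrArg (fun χ : R ⟶ CommRingCat.of B => χ.hom r) e2 }
    refine ⟨ψ', ?_⟩
    ext x
    exact congrArg (fun χ : S ⟶ CommRingCat.of (B ⧸ I) => χ.hom x) e1

lemma fe_specMap_iff {R S : CommRingCat.{u}} (φ : R ⟶ S) :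
    FE (Spec.map φ) ↔ φ.hom.FormallyEtale :=
  ⟨fe_specMap_to φ, fe_specMap_of φ⟩

end SpecMap

section Glue

variable {A : Type u} [CommRing A] (I : Ideal A)

/-- the map induced on quotients by a ring map -/
noncomputable abbrev kap {B : Type u} [CommRing B] (φ : A →+* B) : A ⧸ I →+* B ⧸ I.map φ :=
  Ideal.quotientMap (I.map φ) φ Ideal.le_comap_map

lemma map_pow_zero {n : ℕ} {B : Type u} [CommRing B] (φ : A →+* B) (hI : I ^ n = ⊥) :
    (I.map φ) ^ n = ⊥ := by
  rw [← Ideal.map_pow, hI, Ideal.map_bot]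

lemma thk_map_comm {B : Type u} [CommRing B] (φ : A →+* B) :
    thk (I.map φ) ≫ Spec.map (CommRingCat.ofHom φ) =
      Spec.map (CommRingCat.ofHom (kap I φ)) ≫ thk I := by
  rw [← Spec.map_comp, ← Spec.map_comp]
  congr 1

/-- `m` solves the lifting problem `(a, b)` restricted along `φ : A → B`. -/
structure IsSol (f : X ⟶ Y) (a : Spec (CommRingCat.of (A ⧸ I)) ⟶ X)
    (b : Spec (CommRingCat.of A) ⟶ Y) {B : Type u} [CommRing B] (φ : A →+* B)
    (m : Spec (CommRingCat.of B) ⟶ X) : Prop where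
  top : thk (I.map φ) ≫ m = Spec.map (CommRingCat.ofHom (kap I φ)) ≫ a
  bot : m ≫ f = Spec.map (CommRingCat.ofHom φ) ≫ b

variable {I}
variable {f : X ⟶ Y} {a : Spec (CommRingCat.of (A ⧸ I)) ⟶ X} {b : Spec (CommRingCat.of A) ⟶ Y}

lemma IsSol.unique [FormallyUnramified f] {n : ℕ} (hI : I ^ n = ⊥) {B : Type u} [CommRing B]
    {φ : A →+* B} {m m' : Spec (CommRingCat.of B) ⟶ X}
    (h1 : IsSol I f a b φ m) (h2 : IsSol I f a b φ m') : m = m' :=
  FormallyUnramified.hom_ext (thk (I.map φ)) (isNilpotent_ker_thk _ (map_pow_zero I φ hI)) f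
    (h1.top.trans h2.top.symm) (h1.bot.trans h2.bot.symm)

lemma IsSol.restrict {B C : Type u} [CommRing B] [CommRing C]
    {φ : A →+* B} {m : Spec (CommRingCat.of B) ⟶ X} (g : B →+* C)
    (h : IsSol I f a b φ m) :
    IsSol I f a b (g.comp φ) (Spec.map (CommRingCat.ofHom g) ≫ m) := by
  have hle : I.map φ ≤ (I.map (g.comp φ)).comap g := by
    rw [Ideal.map_le_iff_le_comap, Ideal.comap_comap]
    exact Ideal.le_comap_map
  let κ' : B ⧸ I.map φ →+* C ⧸ I.map (g.comp φ) := Ideal.quotientMap _ g hle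
  have e1 : thk (I.map (g.comp φ)) ≫ Spec.map (CommRingCat.ofHom g) =
      Spec.map (CommRingCat.ofHom κ') ≫ thk (I.map φ) := by
    rw [← Spec.map_comp, ← Spec.map_comp]
    congr 1
  have e2 : κ'.comp (kap I φ) = kap I (g.comp φ) := by
    apply Ideal.Quotient.ringHom_ext
    ext x
    rfl
  constructor
  · rw [← Category.assoc, e1, Category.assoc, h.top, ← Category.assoc, ← Spec.map_comp, ← e2]
    rfl
  · rw [Category.assoc, h.bot, ← Category.assoc, ← Spec.map_comp]
    rfl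

lemma IsSol.congr {B : Type u} [CommRing B] {φ ψ : A →+* B} (hφ : φ = ψ)
    {m : Spec (CommRingCat.of B) ⟶ X} (h : IsSol I f a b φ m) : IsSol I f a b ψ m := by
  subst hφ; exact h

lemma isOpenMap_thk {n : ℕ} (hI : I ^ n = ⊥) : IsOpenMap (thk I) :=
  ((isHomeomorph_iff_isEmbedding_surjective).2
    ⟨(thk I).isClosedEmbedding.isEmbedding, thk_surjective I hI⟩).isOpenMap

lemma exists_local_sol (f : X ⟶ Y) (hloc : ∀ x : X, ∃ U : X.Opens, x ∈ U ∧ FE (U.ι ≫ f))
    (hI : I ^ 2 = ⊥) (a : Spec (CommRingCat.of (A ⧸ I)) ⟶ X) (b : Spec (CommRingCat.of A) ⟶ Y)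
    (comm : thk I ≫ b = a ≫ f) (t : Spec (CommRingCat.of A)) :
    ∃ c : A, c ∉ t.asIdeal ∧ ∃ m : Spec (CommRingCat.of (Localization.Away c)) ⟶ X,
      IsSol I f a b (algebraMap A (Localization.Away c)) m := by
  obtain ⟨t0, rfl⟩ := thk_surjective I hI t
  obtain ⟨U, hxU, hU⟩ := hloc (a t0)
  have hopen : IsOpen ((thk I) '' (a ⁻¹' (U : Set X))) :=
    isOpenMap_thk hI _ (U.isOpen.preimage a.continuous)
  obtain ⟨_, ⟨_, ⟨c, rfl⟩, rfl⟩, htc, hcO⟩ := PrimeSpectrum.isBasis_basic_opens.exists_subset_of_mem_open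
    (Set.mem_image_of_mem (thk I) (show t0 ∈ a ⁻¹' (U : Set X) from hxU)) hopen
  refine ⟨c, htc, ?_⟩
  let φ : A →+* Localization.Away c := algebraMap A (Localization.Away c)
  let a' : Spec (CommRingCat.of (Localization.Away c ⧸ I.map φ)) ⟶ X :=
    Spec.map (CommRingCat.ofHom (kap I φ)) ≫ a
  have hrange : Set.range a' ⊆ Set.range U.ι := by
    rw [Scheme.Opens.range_ι]
    rintro _ ⟨y, rfl⟩
    have h1 : (thk I) ((Spec.map (CommRingCat.ofHom (kap I φ))) y) =
        (Spec.map (CommRingCat.ofHom φ)) ((thk (I.map φ)) y) := by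
      have := congrArg (fun g : Spec (CommRingCat.of (Localization.Away c ⧸ I.map φ)) ⟶
        Spec (CommRingCat.of A) => g y) (thk_map_comm I φ)
      simpa using this.symm
    have h2 : (Spec.map (CommRingCat.ofHom φ)) ((thk (I.map φ)) y) ∈
        (PrimeSpectrum.basicOpen c : Set (PrimeSpectrum A)) := by
      rw [← PrimeSpectrum.localization_away_comap_range (Localization.Away c) c]
      exact ⟨_, rfl⟩
    rw [← h1] at h2
    obtain ⟨z, hz, hzeq⟩ := hcO h2
    have : z = (Spec.map (CommRingCat.ofHom (kap I φ))) y := thk_injective I hzeq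
    subst this
    simpa [a'] using hz
  let a'' := IsOpenImmersion.lift U.ι a' hrange
  have fac : a'' ≫ U.ι = a' := IsOpenImmersion.lift_fac U.ι a' hrange
  have comm' : thk (I.map φ) ≫ (Spec.map (CommRingCat.ofHom φ) ≫ b) = a'' ≫ U.ι ≫ f := by
    rw [← Category.assoc, thk_map_comm, Category.assoc, comm, ← Category.assoc a'', fac]
    simp [a']
  obtain ⟨l, ⟨h1, h2⟩, -⟩ := hU (Localization.Away c) (I.map φ) (map_pow_zero I φ hI) a''
    (Spec.map (CommRingCat.ofHom φ) ≫ b) comm'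
  refine ⟨l ≫ U.ι, ⟨?_, ?_⟩⟩
  · rw [← Category.assoc, h1, fac]
  · rw [Category.assoc, h2]

lemma span_eq_top_of_forall_notMem (c : PrimeSpectrum A → A) (hc : ∀ t, c t ∉ t.asIdeal) :
    Ideal.span (Set.range c) = ⊤ := by
  by_contra h
  obtain ⟨M, hM, hle⟩ := Ideal.exists_le_maximal _ h
  exact hc ⟨M, hM.isPrime⟩ (hle (Ideal.subset_span ⟨_, rfl⟩))

end Glue

section Local

open TensorProduct in
/-- Being formally étale (lifting sense) is local on the source. -/
theorem fe_of_local (f : X ⟶ Y) (hloc : ∀ x : X, ∃ U : X.Opens, x ∈ U ∧ FE (U.ι ≫ f)) : FE f := by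
  have hFU : FormallyUnramified f := by
    choose U hxU hU using hloc
    refine IsZariskiLocalAtSource.of_iSup_eq_top (P := @FormallyUnramified) U ?_
      (fun x => formallyUnramified_of_fe (hU x))
    exact top_le_iff.mp fun x _ => TopologicalSpace.Opens.mem_iSup.2 ⟨x, hxU x⟩
  intro A _ I hI a b comm
  refine existsUnique_of_exists_of_unique ?_ ?_
  swap
  · rintro l l' ⟨h1, h2⟩ ⟨h1', h2'⟩
    exact FormallyUnramified.hom_ext (thk I) (isNilpotent_ker_thk I hI) f (h1.trans h1'.symm)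
      (h2.trans h2'.symm)
  choose c hc m hm using exists_local_sol f hloc hI a b comm
  have hspan : Ideal.span (Set.range c) = ⊤ := span_eq_top_of_forall_notMem c hc
  let 𝒰 : (Spec (CommRingCat.of A)).OpenCover :=
    (Scheme.affineOpenCoverOfSpanRangeEqTop (R := CommRingCat.of A) c hspan).openCover
  have hoverlap : ∀ t t' : 𝒰.I₀, pullback.fst (𝒰.f t) (𝒰.f t') ≫ m t = pullback.snd _ _ ≫ m t' := by
    intro t t'
    let e := pullbackSpecIso A (Localization.Away (c t)) (Localization.Away (c t'))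
    change pullback.fst (Spec.map (CommRingCat.ofHom (algebraMap A (Localization.Away (c t)))))
      (Spec.map (CommRingCat.ofHom (algebraMap A (Localization.Away (c t'))))) ≫ m t =
      pullback.snd _ _ ≫ m t'
    rw [← cancel_epi e.inv, pullbackSpecIso_inv_fst_assoc, pullbackSpecIso_inv_snd_assoc]
    have s1 := (hm t).restrict (Algebra.TensorProduct.includeLeftRingHom
      (R := A) (A := Localization.Away (c t)) (B := Localization.Away (c t')))
    have s2 := (hm t').restrict ((Algebra.TensorProduct.includeRight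
      (R := A) (A := Localization.Away (c t)) (B := Localization.Away (c t'))).toRingHom)
    exact (s1.congr Algebra.TensorProduct.includeLeftRingHom_comp_algebraMap).unique hI s2
  let l := 𝒰.glueMorphisms m hoverlap
  have hl : ∀ t : 𝒰.I₀, Spec.map (CommRingCat.ofHom (algebraMap A (Localization.Away (c t)))) ≫ l
      = m t := fun t => 𝒰.ι_glueMorphisms m hoverlap t
  refine ⟨l, ?_, ?_⟩
  · -- top
    have hspan' : Ideal.span (Set.range fun t0 : PrimeSpectrum (A ⧸ I) =>
        Ideal.Quotient.mk I (c ((thk I) t0))) = ⊤ :=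
      span_eq_top_of_forall_notMem (fun t0 => Ideal.Quotient.mk I (c ((thk I) t0)))
        (fun t0 => hc ((thk I) t0))
    let 𝒱 : (Spec (CommRingCat.of (A ⧸ I))).OpenCover :=
      (Scheme.affineOpenCoverOfSpanRangeEqTop (R := CommRingCat.of (A ⧸ I)) _ hspan').openCover
    refine 𝒱.hom_ext _ _ fun t0 => ?_
    let c₀ : A := c ((thk I) t0)
    let L := Localization.Away (Ideal.Quotient.mk I c₀)
    let φ : A →+* Localization.Away c₀ := algebraMap A (Localization.Away c₀)
    let g : A →+* L := (algebraMap (A ⧸ I) L).comp (Ideal.Quotient.mk I)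
    have hunit : IsUnit (g c₀) := IsLocalization.Away.algebraMap_isUnit (Ideal.Quotient.mk I c₀)
    let μ : Localization.Away c₀ →+* L := IsLocalization.Away.lift c₀ hunit
    have hμ : μ.comp φ = g := IsLocalization.Away.lift_comp c₀ hunit
    have hker : ∀ x ∈ I.map φ, μ x = 0 := by
      have : I.map φ ≤ RingHom.ker μ := by
        rw [Ideal.map_le_iff_le_comap]
        intro x hx
        rw [Ideal.mem_comap, RingHom.mem_ker]
        have : μ (φ x) = g x := congrArg (fun χ : A →+* L => χ x) hμ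
        rw [this]
        change algebraMap (A ⧸ I) L (Ideal.Quotient.mk I x) = 0
        rw [Ideal.Quotient.eq_zero_iff_mem.mpr hx, map_zero]
      exact fun x hx => this hx
    let ν : Localization.Away c₀ ⧸ I.map φ →+* L := Ideal.Quotient.lift (I.map φ) μ hker
    have hν1 : ν.comp (Ideal.Quotient.mk (I.map φ)) = μ := Ideal.Quotient.lift_comp_mk _ _ _
    have hν2 : ν.comp (kap I φ) = algebraMap (A ⧸ I) L := by
      apply Ideal.Quotient.ringHom_ext
      ext x
      change ν (Ideal.Quotient.mk _ (φ x)) = g x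
      rw [Ideal.Quotient.lift_mk]
      exact congrArg (fun χ : A →+* L => χ x) hμ
    change Spec.map (CommRingCat.ofHom (algebraMap (A ⧸ I) L)) ≫ thk I ≫ l =
      Spec.map (CommRingCat.ofHom (algebraMap (A ⧸ I) L)) ≫ a
    have e1 : Spec.map (CommRingCat.ofHom (algebraMap (A ⧸ I) L)) ≫ thk I =
        Spec.map (CommRingCat.ofHom μ) ≫ Spec.map (CommRingCat.ofHom φ) := by
      rw [← Spec.map_comp, ← Spec.map_comp]
      congr 1
      rw [← CommRingCat.ofHom_comp, ← CommRingCat.ofHom_comp, hμ]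
    have e2 : Spec.map (CommRingCat.ofHom μ) =
        Spec.map (CommRingCat.ofHom ν) ≫ thk (I.map φ) := by
      rw [← Spec.map_comp, ← CommRingCat.ofHom_comp, hν1]
    have e3 : Spec.map (CommRingCat.ofHom ν) ≫ Spec.map (CommRingCat.ofHom (kap I φ)) =
        Spec.map (CommRingCat.ofHom (algebraMap (A ⧸ I) L)) := by
      rw [← Spec.map_comp, ← CommRingCat.ofHom_comp, hν2]
    rw [← Category.assoc, e1, Category.assoc, hl ((thk I) t0), e2, Category.assoc,
      (hm ((thk I) t0)).top, ← Category.assoc, e3]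
  · -- bot
    refine 𝒰.hom_ext _ _ fun t => ?_
    change Spec.map (CommRingCat.ofHom (algebraMap A (Localization.Away (c t)))) ≫ l ≫ f =
      Spec.map (CommRingCat.ofHom (algebraMap A (Localization.Away (c t)))) ≫ b
    rw [← Category.assoc, hl t, (hm t).bot]

/-- restriction to opens -/
lemma fe_comp_openImmersion {f : X ⟶ Y} (hf : FE f) {W : Scheme.{u}} (i : W ⟶ X) [IsOpenImmersion i] :
    FE (i ≫ f) := fe_comp (fe_of_isOpenImmersion i) hf

end Local

section Main

/-- S1487: formally étale (lifting sense) iff affine-locally formally étale ring maps. -/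
theorem fe_iff_affineLocally (f : X ⟶ Y) :
    FE f ↔ ∀ (U : X.Opens) (V : Y.Opens) (_ : IsAffineOpen U) (_ : IsAffineOpen V)
      (hUV : U ≤ f ⁻¹ᵁ V), (f.appLE V U hUV).hom.FormallyEtale := by
  constructor
  · intro hf U V hU hV hUV
    apply fe_specMap_to
    have h1 : FE (hU.fromSpec ≫ f) := fe_comp_openImmersion hf hU.fromSpec
    rw [← hV.SpecMap_appLE_fromSpec f hU hUV] at h1
    exact fe_of_comp_mono hV.fromSpec h1
  · intro H
    refine fe_of_local f fun x => ?_
    obtain ⟨_, ⟨V, hV, rfl⟩, hxV, -⟩ :=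
      Y.isBasis_affineOpens.exists_subset_of_mem_open (Set.mem_univ (f x)) isOpen_univ
    obtain ⟨_, ⟨U, hU, rfl⟩, hxU, hUV : U ≤ f ⁻¹ᵁ V⟩ :=
      X.isBasis_affineOpens.exists_subset_of_mem_open hxV (f ⁻¹ᵁ V).isOpen
    refine ⟨U, hxU, ?_⟩
    rw [← hU.isoSpec_hom_fromSpec, Category.assoc, ← hV.SpecMap_appLE_fromSpec f hU hUV]
    exact fe_comp (fe_of_isIso _) (fe_comp (fe_specMap_of _ (H U V hU hV hUV))
      (fe_of_isOpenImmersion _))

/-- S1489: étale iff locally of finite presentation and formally étale (lifting sense). -/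
theorem etale_iff_lfp_and_fe (f : X ⟶ Y) :
    Etale f ↔ LocallyOfFinitePresentation f ∧ FE f := by
  constructor
  · intro hf
    refine ⟨inferInstance, (fe_iff_affineLocally f).2 fun U V hU hV hUV => ?_⟩
    have hE := f.etale_appLE hV hU hUV
    letI : Algebra Γ(Y, V) Γ(X, U) := (f.appLE V U hUV).hom.toAlgebra
    have h' : Algebra.Etale Γ(Y, V) Γ(X, U) := hE
    exact h'.formallyEtale
  · rintro ⟨h1, h2⟩
    refine ⟨fun {V} hV {U} hU e => ?_⟩
    have hfe := (fe_iff_affineLocally f).1 h2 U V hU hV e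
    have hfp := f.finitePresentation_appLE hV hU e
    letI : Algebra Γ(Y, V) Γ(X, U) := (f.appLE V U e).hom.toAlgebra
    have a1 : Algebra.FormallyEtale Γ(Y, V) Γ(X, U) := hfe
    have a2 : Algebra.FinitePresentation Γ(Y, V) Γ(X, U) := hfp
    exact (⟨a1, a2⟩ : Algebra.Etale Γ(Y, V) Γ(X, U))

lemma fe_of_etale (f : X ⟶ Y) [Etale f] : FE f := ((etale_iff_lfp_and_fe f).1 inferInstance).2

end Main


section Thickening

variable {T T' : Scheme.{u}}

lemma ker_pow_eq_bot_of_isPullback_of_isOpenImmersion (t : T ⟶ T') [QuasiCompact t]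
    {V P : Scheme.{u}} (v : V ⟶ T') [IsOpenImmersion v]
    (t' : P ⟶ V) (p : P ⟶ T) (H : IsPullback t' p v t) {n : ℕ} (h : t.ker ^ n = ⊥) :
    t'.ker ^ n = ⊥ := by
  apply Scheme.IdealSheafData.ext
  funext W
  rw [Scheme.IdealSheafData.ideal_pow, Pi.pow_apply,
    Scheme.ker_ideal_of_isPullback_of_isOpenImmersion t t' p v H W]
  change _ = (⊥ : Ideal _)
  rw [eq_bot_iff]
  refine (Ideal.le_comap_pow _ n).trans ?_
  have h2 : (t.ker.ideal ⟨v ''ᵁ W, W.2.image_of_isOpenImmersion _⟩) ^ n = ⊥ := by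
    have := congrArg (fun J : T'.IdealSheafData =>
      J.ideal ⟨v ''ᵁ W, W.2.image_of_isOpenImmersion _⟩) h
    simpa using this
  rw [h2]
  intro x hx
  have hinj : Function.Injective (v.appIso W).inv.hom :=
    (ConcreteCategory.bijective_of_isIso (v.appIso W).inv).1
  have : (v.appIso W).inv.hom x = 0 := hx
  exact hinj (this.trans (map_zero _).symm)

lemma pow_zero_of_ker_thk {A : Type u} [CommRing A] (K : Ideal A) {n : ℕ}
    (h : (thk K).ker ^ n = ⊥) : K ^ n = ⊥ := by
  have h1 := congrArg (fun J : (Spec (CommRingCat.of A)).IdealSheafData =>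
    J.ideal ⟨⊤, isAffineOpen_top _⟩) h
  simp only [Scheme.IdealSheafData.ideal_pow, Pi.pow_apply] at h1
  rw [ker_thk_ideal_top] at h1
  have hsurj : Function.Surjective (Scheme.ΓSpecIso (CommRingCat.of A)).hom.hom :=
    (ConcreteCategory.bijective_of_isIso (Scheme.ΓSpecIso (CommRingCat.of A)).hom).2
  have h1' : (K.comap (Scheme.ΓSpecIso (CommRingCat.of A)).hom.hom) ^ n = ⊥ := h1
  rw [← Ideal.map_comap_of_surjective _ hsurj K, ← Ideal.map_pow, h1', Ideal.map_bot]

variable (t : T ⟶ T') (a : T ⟶ X) (b : T' ⟶ Y)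

/-- `g` solves the lifting problem over `v : V ⟶ T'`. -/
structure IsLocSol (f : X ⟶ Y) {V : Scheme.{u}} (v : V ⟶ T') (g : V ⟶ X) : Prop where
  top : pullback.snd t v ≫ g = pullback.fst t v ≫ a
  bot : g ≫ f = v ≫ b

variable {t a b} {f : X ⟶ Y}

lemma IsLocSol.restrict {V W : Scheme.{u}} {v : V ⟶ T'} {g : V ⟶ X} (h : IsLocSol t a b f v g)
    (u : W ⟶ V) : IsLocSol t a b f (u ≫ v) (u ≫ g) := by
  let θ : pullback t (u ≫ v) ⟶ pullback t v :=
    pullback.lift (pullback.fst _ _) (pullback.snd _ _ ≫ u)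
      (by rw [pullback.condition, Category.assoc])
  have h1 : θ ≫ pullback.snd t v = pullback.snd _ _ ≫ u := pullback.lift_snd _ _ _
  have h2 : θ ≫ pullback.fst t v = pullback.fst _ _ := pullback.lift_fst _ _ _
  constructor
  · rw [← Category.assoc, ← h1, Category.assoc, h.top, ← Category.assoc, h2]
  · rw [Category.assoc, h.bot, Category.assoc]

lemma IsLocSol.congr {V : Scheme.{u}} {v v' : V ⟶ T'} (hv : v = v') {g : V ⟶ X}
    (h : IsLocSol t a b f v g) : IsLocSol t a b f v' g := by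
  subst hv; exact h

lemma IsLocSol.unique [IsClosedImmersion t] [FormallyUnramified f] {n : ℕ} (ht : t.ker ^ n = ⊥)
    {V : Scheme.{u}} {v : V ⟶ T'} [IsOpenImmersion v] {g g' : V ⟶ X}
    (h : IsLocSol t a b f v g) (h' : IsLocSol t a b f v g') : g = g' := by
  have hnil : IsNilpotent (pullback.snd t v).ker :=
    ⟨n, ker_pow_eq_bot_of_isPullback_of_isOpenImmersion t v (pullback.snd t v) (pullback.fst t v)
      (IsPullback.of_hasPullback t v).flip ht⟩
  exact FormallyUnramified.hom_ext (pullback.snd t v) hnil f (h.top.trans h'.top.symm)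
    (h.bot.trans h'.bot.symm)

lemma exists_isLocSol_of_affine (hf : FE f) [IsClosedImmersion t] (hsq : t.ker ^ 2 = ⊥)
    (w : t ≫ b = a ≫ f) {A : Type u} [CommRing A] (v : Spec (CommRingCat.of A) ⟶ T')
    (hv : IsOpenImmersion v) : ∃ g : Spec (CommRingCat.of A) ⟶ X, IsLocSol t a b f v g := by
  obtain ⟨K, e, he⟩ := IsClosedImmersion.Spec_iff.1
    (inferInstance : IsClosedImmersion (pullback.snd t v))
  have he' : pullback.snd t v = e.hom ≫ thk K := he
  have hK : K ^ 2 = ⊥ := by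
    apply pow_zero_of_ker_thk
    have h1 := ker_pow_eq_bot_of_isPullback_of_isOpenImmersion t v
      (pullback.snd t v) (pullback.fst t v) (IsPullback.of_hasPullback t v).flip hsq
    rw [he', Scheme.Hom.ker_comp_of_isIso] at h1
    exact h1
  have hthk : thk K = e.inv ≫ pullback.snd t v := by
    rw [he', Iso.inv_hom_id_assoc]
  have comm : thk K ≫ (v ≫ b) = (e.inv ≫ pullback.fst t v ≫ a) ≫ f := by
    rw [hthk, Category.assoc, ← pullback.condition_assoc, w]
    simp only [Category.assoc]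
  obtain ⟨l, ⟨h1, h2⟩, -⟩ := hf _ K hK _ _ comm
  refine ⟨l, ⟨?_, h2⟩⟩
  rw [he', Category.assoc, h1, Iso.hom_inv_id_assoc]

/-- S1516: a formally étale morphism has unique lifts along every first order thickening of schemes. -/
theorem fe_lift_firstOrder (hf : FE f) (t : T ⟶ T')
    (ht : MoreMor.IsFirstOrderThickening t) (a : T ⟶ X) (b : T' ⟶ Y) (w : t ≫ b = a ≫ f) :
    ∃! l : T' ⟶ X, t ≫ l = a ∧ l ≫ f = b := by
  have hFU : FormallyUnramified f := formallyUnramified_of_fe hf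
  have hci : IsClosedImmersion t := ht.1.1
  have hsq : t.ker ^ 2 = ⊥ := by rw [pow_two]; exact ht.2
  refine existsUnique_of_exists_of_unique ?_ ?_
  swap
  · rintro l l' ⟨h1, h2⟩ ⟨h1', h2'⟩
    exact FormallyUnramified.hom_ext t ⟨2, hsq⟩ f (h1.trans h1'.symm) (h2.trans h2'.symm)
  let 𝒱 : T'.OpenCover := T'.affineCover
  haveI : ∀ i, IsOpenImmersion (𝒱.f i) := fun i => Scheme.Cover.map_prop 𝒱 i
  have hloc : ∀ i : 𝒱.I₀, ∃ g : 𝒱.X i ⟶ X, IsLocSol t a b f (𝒱.f i) g :=
    fun i => exists_isLocSol_of_affine hf hsq w (𝒱.f i) (Scheme.Cover.map_prop 𝒱 i)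
  choose g hg using hloc
  have hoverlap : ∀ i j : 𝒱.I₀, pullback.fst (𝒱.f i) (𝒱.f j) ≫ g i = pullback.snd _ _ ≫ g j := by
    intro i j
    have s1 := (hg i).restrict (pullback.fst (𝒱.f i) (𝒱.f j))
    have s2 := ((hg j).restrict (pullback.snd (𝒱.f i) (𝒱.f j))).congr pullback.condition.symm
    exact s1.unique hsq s2
  let l := 𝒱.glueMorphisms g hoverlap
  have hl : ∀ i, 𝒱.f i ≫ l = g i := fun i => 𝒱.ι_glueMorphisms g hoverlap i
  refine ⟨l, ?_, ?_⟩
  · refine Scheme.Cover.hom_ext (𝒱.pullback₁ t) _ _ fun i => ?_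
    change pullback.fst t (𝒱.f i) ≫ t ≫ l = pullback.fst t (𝒱.f i) ≫ a
    rw [pullback.condition_assoc, hl, (hg i).top]
  · refine 𝒱.hom_ext _ _ fun i => ?_
    rw [← Category.assoc, hl, (hg i).bot]

end Thickening

end Groth.Agent.Lib.FormalEtale_helper7
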