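import Mathlib
import Groth.Agent.Lib.FormalEtale_helper7

/-!
# Lifting étale algebras along square-zero thickenings (helper7)
-/

set_option autoImplicit false
universe u
open CategoryTheory CategoryTheory.Limits AlgebraicGeometry Polynomial TensorProduct

namespace Groth.Agent.Lib.EtaleLift_helper7

open Groth.Agent.Lib.FormalEtale_helper7

section Pair

variable {A : Type u} [CommRing A] (I : Ideal A)

/-- Standard étale pairs lift along square-zero quotients. -/
theorem exists_lift_standardEtalePair (hI : I ^ 2 = ⊥) (P₀ : StandardEtalePair (A ⧸ I)) :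
    ∃ P : StandardEtalePair A, P.map (algebraMap A (A ⧸ I)) = P₀ := by
  obtain ⟨f₀, hf₀, g₀, hc₀⟩ := P₀
  obtain ⟨p₁', p₂', n, e₀⟩ := hc₀
  have hsurj : Function.Surjective (Polynomial.map (Ideal.Quotient.mk I)) :=
    Polynomial.map_surjective _ Ideal.Quotient.mk_surjective
  obtain ⟨f, hf, -, hfm⟩ := Polynomial.lifts_and_natDegree_eq_and_monic
    ((Polynomial.mem_lifts _).2 (hsurj f₀)) hf₀
  obtain ⟨g, hg⟩ := hsurj g₀
  obtain ⟨p₁, hp₁⟩ := hsurj p₁'
  obtain ⟨p₂, hp₂⟩ := hsurj p₂'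
  have hδ0 : Polynomial.map (Ideal.Quotient.mk I) (derivative f * p₁ + f * p₂ - g ^ n) = 0 := by
    rw [Polynomial.map_sub, Polynomial.map_add, Polynomial.map_mul, Polynomial.map_mul,
      Polynomial.map_pow, ← Polynomial.derivative_map, hf, hg, hp₁, hp₂, e₀, sub_self]
  have hδmem : (derivative f * p₁ + f * p₂ - g ^ n) ∈ Ideal.map (C : A →+* A[X]) I := by
    have h1 : (derivative f * p₁ + f * p₂ - g ^ n) ∈
        RingHom.ker (Polynomial.mapRingHom (Ideal.Quotient.mk I)) := hδ0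
    rwa [Polynomial.ker_mapRingHom, Ideal.mk_ker] at h1
  have hδ : (derivative f * p₁ + f * p₂ - g ^ n) * (derivative f * p₁ + f * p₂ - g ^ n) = 0 := by
    have h2 : (derivative f * p₁ + f * p₂ - g ^ n) * (derivative f * p₁ + f * p₂ - g ^ n) ∈
        (Ideal.map (C : A →+* A[X]) I) ^ 2 := by
      rw [pow_two]
      exact Ideal.mul_mem_mul hδmem hδmem
    rw [← Ideal.map_pow, hI, Ideal.map_bot] at h2
    exact h2
  refine ⟨⟨f, hfm, g, p₁ * (g ^ n - (derivative f * p₁ + f * p₂ - g ^ n)),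
    p₂ * (g ^ n - (derivative f * p₁ + f * p₂ - g ^ n)), 2 * n, ?_⟩, ?_⟩
  · linear_combination (-1 : A[X]) * hδ
  · subst hf hg
    rfl

end Pair

section Alg

/-- transport along an equality of standard étale pairs -/
noncomputable def ringEquivOfEq {R : Type u} [CommRing R] {P Q : StandardEtalePair R} (h : P = Q) :
    P.Ring ≃ₐ[R] Q.Ring := by
  subst h
  exact AlgEquiv.refl

/-- Lifting an étale algebra over `A ⧸ I` to an étale algebra over `A`, locally at a prime. -/
theorem exists_etale_lift_at {A : Type u} [CommRing A] (I : Ideal A) (hI : I ^ 2 = ⊥)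
    {C : Type u} [CommRing C] [Algebra (A ⧸ I) C] [Algebra.Etale (A ⧸ I) C]
    (q : PrimeSpectrum C) :
    ∃ (B : Type u) (_ : CommRing B) (_ : Algebra A B), Algebra.Etale A B ∧
      ∃ (ψ : C →ₐ[A ⧸ I] B ⧸ I.map (algebraMap A B))
        (q' : PrimeSpectrum (B ⧸ I.map (algebraMap A B))),
        PrimeSpectrum.comap ψ.toRingHom q' = q := by
  haveI : q.asIdeal.IsPrime := q.isPrime
  haveI : Algebra.FormallyEtale C (Localization.AtPrime q.asIdeal) :=
    Algebra.FormallyEtale.of_isLocalization q.asIdeal.primeCompl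
  haveI : Algebra.IsEtaleAt (A ⧸ I) q.asIdeal :=
    Algebra.FormallyEtale.comp (A ⧸ I) C (Localization.AtPrime q.asIdeal)
  obtain ⟨f, hfq, hstd⟩ := Algebra.IsEtaleAt.exists_isStandardEtale (R := A ⧸ I) q.asIdeal
  let pres : StandardEtalePresentation (A ⧸ I) (Localization.Away f) :=
    hstd.nonempty_standardEtalePresentation.some
  obtain ⟨P, hP⟩ := exists_lift_standardEtalePair I hI pres.P
  let presP : StandardEtalePresentation A P.Ring :=
    ⟨P, P.X, P.hasMap_X, by simpa [StandardEtalePair.lift_X_left] using Function.bijective_id⟩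
  let e₁ : (P.Ring ⧸ I.map (algebraMap A P.Ring)) ≃ₐ[A ⧸ I] (A ⧸ I) ⊗[A] P.Ring :=
    Algebra.TensorProduct.quotIdealMapEquivQuotTensor P.Ring I
  let e₂ : (A ⧸ I) ⊗[A] P.Ring ≃ₐ[A ⧸ I] (P.map (algebraMap A (A ⧸ I))).Ring :=
    (presP.baseChange (T := A ⧸ I)).equivRing
  let e₃ : (P.map (algebraMap A (A ⧸ I))).Ring ≃ₐ[A ⧸ I] pres.P.Ring :=
    ringEquivOfEq hP
  let e₄ : pres.P.Ring ≃ₐ[A ⧸ I] Localization.Away f := pres.equivRing.symm
  obtain ⟨e⟩ : Nonempty (Localization.Away f ≃ₐ[A ⧸ I] (P.Ring ⧸ I.map (algebraMap A P.Ring))) :=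
    ⟨(e₁.trans (e₂.trans (e₃.trans e₄))).symm⟩
  clear_value e₁ e₂ e₃ e₄
  refine ⟨P.Ring, inferInstance, inferInstance, inferInstance,
    e.toAlgHom.comp (IsScalarTower.toAlgHom (A ⧸ I) C (Localization.Away f)), ?_⟩
  have hq : q ∈ Set.range (PrimeSpectrum.comap (algebraMap C (Localization.Away f))) := by
    rw [PrimeSpectrum.localization_away_comap_range (Localization.Away f) f]
    exact hfq
  obtain ⟨q₁, hq₁⟩ := hq
  refine ⟨PrimeSpectrum.comap (e.symm : _ →+* Localization.Away f) q₁, ?_⟩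
  rw [← hq₁]
  refine PrimeSpectrum.ext (Ideal.ext fun x => ?_)
  have h1 : (e.toAlgHom.comp (IsScalarTower.toAlgHom (A ⧸ I) C (Localization.Away f))).toRingHom x
      = e (algebraMap C (Localization.Away f) x) := rfl
  have h2 : e.symm (e (algebraMap C (Localization.Away f) x)) =
      algebraMap C (Localization.Away f) x := e.symm_apply_apply _
  rw [PrimeSpectrum.comap_asIdeal, Ideal.mem_comap, h1, PrimeSpectrum.comap_asIdeal,
    Ideal.mem_comap, PrimeSpectrum.comap_asIdeal, Ideal.mem_comap]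
  exact Iff.of_eq (congrArg (· ∈ q₁.asIdeal) h2)

end Alg

section Sch

/-- Topological invariance of the étale site, existence part, locally: an étale morphism to
`Spec (A ⧸ I)` lifts, locally on the source, to an étale `A`-algebra. -/
theorem exists_etale_lift_scheme {A : Type u} [CommRing A] (I : Ideal A) (hI : I ^ 2 = ⊥)
    {W : Scheme.{u}} (π : W ⟶ Spec (CommRingCat.of (A ⧸ I))) [Etale π] (w : W) :
    ∃ (B : Type u) (_ : CommRing B) (β : A →+* B), β.Etale ∧ (kap I β).Etale ∧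
      ∃ σ : Spec (CommRingCat.of (B ⧸ I.map β)) ⟶ W,
        σ ≫ π = Spec.map (CommRingCat.ofHom (kap I β)) ∧ w ∈ Set.range σ := by
  let 𝒲 := W.affineOpenCover
  obtain ⟨k, y, rfl⟩ := 𝒲.openCover.exists_eq w
  let γ : CommRingCat.of (A ⧸ I) ⟶ 𝒲.X k := Spec.preimage (𝒲.f k ≫ π)
  have hγ : Spec.map γ = 𝒲.f k ≫ π := Spec.map_preimage _
  haveI : IsOpenImmersion (𝒲.f k) := 𝒲.map_prop k
  have hE : Etale (Spec.map γ) := by rw [hγ]; infer_instance
  have hγE : γ.hom.Etale := (HasRingHomProperty.Spec_iff (P := @Etale)).1 hE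
  letI : Algebra (A ⧸ I) (𝒲.X k) := γ.hom.toAlgebra
  haveI : Algebra.Etale (A ⧸ I) (𝒲.X k) := hγE
  obtain ⟨B, _, _, hB, ψ, q', hq'⟩ := exists_etale_lift_at I hI (C := 𝒲.X k) y
  haveI : Algebra.Etale (A ⧸ I) (B ⧸ I.map (algebraMap A B)) :=
    .of_equiv (Algebra.TensorProduct.quotIdealMapEquivQuotTensor B I).symm
  refine ⟨B, inferInstance, algebraMap A B, RingHom.etale_algebraMap.2 hB, ?_,
    Spec.map (CommRingCat.ofHom ψ.toRingHom) ≫ 𝒲.f k, ?_, ?_⟩
  · change (algebraMap (A ⧸ I) (B ⧸ I.map (algebraMap A B))).Etale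
    exact RingHom.etale_algebraMap.2 inferInstance
  · rw [Category.assoc, ← hγ, ← Spec.map_comp]
    congr 1
    ext a₀
    exact ψ.commutes a₀
  · refine ⟨q', ?_⟩
    change (𝒲.f k) ((Spec.map (CommRingCat.ofHom ψ.toRingHom)) q') = (𝒲.f k) y
    congr 1

end Sch

end Groth.Agent.Lib.EtaleLift_helper7
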