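import Groth.Agent.Lib.AlgSpFormal2_helper7
import Groth.Agent.Lib.EtaleLift_helper7

/-!
# Étale on top: existence of infinitesimal lifts descends along étale surjections (helper7)
-/

set_option autoImplicit false
universe u
open CategoryTheory CategoryTheory.Limits AlgebraicGeometry Opposite MorphismProperty
open AlgSp Groth.Agent.Lib.FormalEtale_helper7 Groth.Agent.Lib.AlgSpCov_helper7
  Groth.Agent.Lib.AlgSpOpenSub_helper7 Groth.Agent.Lib.AlgSpPullback_helper7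
  Groth.Agent.Lib.AlgSpIso_helper7 Groth.Agent.Lib.AlgSpInfLift_helper6
  Groth.Agent.Lib.AlgSpQC_helper7 Groth.Agent.Lib.AlgSpPoints_helper7
  Groth.Agent.Lib.AlgSpFormal_helper7 Groth.Agent.Lib.EtaleLift_helper7

namespace Groth.Agent.Lib.AlgSpFormal3_helper7

variable {S : Scheme.{u}}

lemma yon_comp_assoc {U V W : Over S} (f : U ⟶ V) (g : V ⟶ W) {F : Sp S}
    (m : (yon S).obj W ⟶ F) :
    (yon S).map f ≫ (yon S).map g ≫ m = (yon S).map (f ≫ g) ≫ m := by
  rw [Functor.map_comp, Category.assoc]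

/-- Gluing maps out of `h_T` into a sheaf along a covering family. -/
theorem desc_of_cover {T : Over S} {κ : Type u} (Tk : κ → Over S) (c : ∀ k, Tk k ⟶ T)
    (hcov : Sieve.ofArrows Tk c ∈ J S T) {G : Sp S} (m : ∀ k, (yon S).obj (Tk k) ⟶ G)
    (hcompat : ∀ (i j : κ) (Z : Over S) (gi : Z ⟶ Tk i) (gj : Z ⟶ Tk j), gi ≫ c i = gj ≫ c j →
      (yon S).map gi ≫ m i = (yon S).map gj ≫ m j) :
    ∃ l : (yon S).obj T ⟶ G, ∀ k, (yon S).map (c k) ≫ l = m k := by
  have hG : Presieve.IsSheaf (J S) G.obj := (isSheaf_iff_isSheaf_of_type _ _).1 G.property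
  have hsh : Presieve.IsSheafFor G.obj (Presieve.ofArrows Tk c) :=
    (Presieve.isSheafFor_iff_generate _).2 (hG _ hcov)
  rw [Presieve.isSheafFor_arrows_iff] at hsh
  obtain ⟨t, ht, -⟩ := hsh (fun k => yE (m k)) (fun i j Z gi gj h => by
    have e1 := yE_symm_map gi (yE (m i))
    have e2 := yE_symm_map gj (yE (m j))
    rw [Equiv.symm_apply_apply] at e1 e2
    exact yE.symm.injective (e1.symm.trans ((hcompat i j Z gi gj h).trans e2)))
  refine ⟨yE.symm t, fun k => ?_⟩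
  rw [yE_symm_map, ht k, Equiv.symm_apply_apply]

section Sol

variable {G H : Sp S} {b : G ⟶ H} (sq : InfSq b)

/-- `m` solves the lifting problem `sq` restricted along `φ`. -/
structure IsSolSp {B : Type u} [CommRing B] (φ : sq.A →+* B)
    (m : (yon S).obj (resT' sq φ) ⟶ G) : Prop where
  top : (yon S).map (resJ sq φ) ≫ m = (yon S).map (resκ sq φ) ≫ sq.top
  bot : m ≫ b = (yon S).map (resρ sq φ) ≫ sq.bot

variable {sq}

lemma IsSolSp.unique (hb : IsFormallyUnramifiedMor b) {B : Type u} [CommRing B] {φ : sq.A →+* B}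
    {m m' : (yon S).obj (resT' sq φ) ⟶ G} (h : IsSolSp sq φ m) (h' : IsSolSp sq φ m') :
    m = m' := by
  have comm : ((yon S).map (resκ sq φ) ≫ sq.top) ≫ b =
      (yon S).map (resJ sq φ) ≫ (yon S).map (resρ sq φ) ≫ sq.bot := by
    rw [Category.assoc, sq.comm, yon_comp_assoc, yon_comp_assoc, resJ_ρ]
  exact hb (resSq sq φ b _ _ comm) m m' h.top h.bot h'.top h'.bot

lemma IsSolSp.restrict_aux {B₁ : Type u} [CommRing B₁] {φ₁ : sq.A →+* B₁}
    {m₁ : (yon S).obj (resT' sq φ₁) ⟶ G} (h : IsSolSp sq φ₁ m₁)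
    {C : Type u} [CommRing C] (γ : B₁ →+* C) :
    ∀ (φ : sq.A →+* C) (_ : φ = γ.comp φ₁) (d : resT' sq φ ⟶ resT' sq φ₁)
      (_ : d.left = Spec.map (CommRingCat.ofHom γ)), IsSolSp sq φ ((yon S).map d ≫ m₁) := by
  intro φ hφ
  subst hφ
  intro d hdl
  have hd : d ≫ resρ sq φ₁ = resρ sq (γ.comp φ₁) := by
    ext
    change d.left ≫ Spec.map (CommRingCat.ofHom φ₁) = Spec.map (CommRingCat.ofHom (γ.comp φ₁))
    rw [hdl, ← Spec.map_comp]
    rfl
  have hle : sq.I.map φ₁ ≤ (sq.I.map (γ.comp φ₁)).comap γ := by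
    rw [Ideal.map_le_iff_le_comap, Ideal.comap_comap]
    exact Ideal.le_comap_map
  let κ' : B₁ ⧸ sq.I.map φ₁ →+* C ⧸ sq.I.map (γ.comp φ₁) := Ideal.quotientMap _ γ hle
  have e1 : thk (sq.I.map (γ.comp φ₁)) ≫ d.left =
      Spec.map (CommRingCat.ofHom κ') ≫ thk (sq.I.map φ₁) := by
    rw [hdl, ← Spec.map_comp, ← Spec.map_comp]
    congr 1
  have e2 : Spec.map (CommRingCat.ofHom κ') ≫ Spec.map (CommRingCat.ofHom (kap sq.I φ₁)) =
      Spec.map (CommRingCat.ofHom (kap sq.I (γ.comp φ₁))) := by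
    rw [← Spec.map_comp]
    congr 1
    have : κ'.comp (kap sq.I φ₁) = kap sq.I (γ.comp φ₁) := by
      apply Ideal.Quotient.ringHom_ext
      ext x
      rfl
    rw [← this]
    rfl
  let d₀ : resT sq (γ.comp φ₁) ⟶ resT sq φ₁ := Over.homMk (Spec.map (CommRingCat.ofHom κ')) (by
    have hw := Over.w d
    change Spec.map (CommRingCat.ofHom κ') ≫ thk (sq.I.map φ₁) ≫ (resT' sq φ₁).hom =
      thk (sq.I.map (γ.comp φ₁)) ≫ (resT' sq (γ.comp φ₁)).hom
    rw [← hw, ← Category.assoc, ← e1, Category.assoc])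
  have f1 : resJ sq (γ.comp φ₁) ≫ d = d₀ ≫ resJ sq φ₁ := by
    ext
    exact e1
  have f2 : d₀ ≫ resκ sq φ₁ = resκ sq (γ.comp φ₁) := by
    ext
    exact e2
  constructor
  · rw [yon_comp_assoc, f1, ← yon_comp_assoc, h.top, yon_comp_assoc, f2]
  · rw [Category.assoc, h.bot, yon_comp_assoc, hd]

lemma IsSolSp.restrict' {B₁ : Type u} [CommRing B₁] {φ₁ : sq.A →+* B₁}
    {m₁ : (yon S).obj (resT' sq φ₁) ⟶ G} (h : IsSolSp sq φ₁ m₁)
    {C : Type u} [CommRing C] (φ : sq.A →+* C) (d : resT' sq φ ⟶ resT' sq φ₁)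
    (hd : d ≫ resρ sq φ₁ = resρ sq φ) : IsSolSp sq φ ((yon S).map d ≫ m₁) := by
  let γ : B₁ →+* C := (Spec.preimage d.left).hom
  have hγ : Spec.map (CommRingCat.ofHom γ) = d.left := Spec.map_preimage d.left
  have hφ : φ = γ.comp φ₁ := by
    have h1 : d.left ≫ Spec.map (CommRingCat.ofHom φ₁) = Spec.map (CommRingCat.ofHom φ) :=
      congrArg (fun k => k.left) hd
    rw [← hγ, ← Spec.map_comp] at h1
    have h2 := Spec.map_injective h1
    exact (congrArg (fun χ => χ.hom) h2).symm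
  exact h.restrict_aux γ φ hφ d hγ.symm

/-- solutions over two pieces agree on any overlap -/
theorem compat_piece (hb : IsFormallyUnramifiedMor b) {B₁ B₂ : Type u} [CommRing B₁] [CommRing B₂]
    {φ₁ : sq.A →+* B₁} {φ₂ : sq.A →+* B₂} {m₁ : (yon S).obj (resT' sq φ₁) ⟶ G}
    {m₂ : (yon S).obj (resT' sq φ₂) ⟶ G} (h₁ : IsSolSp sq φ₁ m₁) (h₂ : IsSolSp sq φ₂ m₂)
    (Z : Over S) (g₁ : Z ⟶ resT' sq φ₁) (g₂ : Z ⟶ resT' sq φ₂)
    (hg : g₁ ≫ resρ sq φ₁ = g₂ ≫ resρ sq φ₂) :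
    (yon S).map g₁ ≫ m₁ = (yon S).map g₂ ≫ m₂ := by
  let 𝒵 := Z.left.affineOpenCover
  let Zk : 𝒵.I₀ → Over S := fun k => Over.mk (𝒵.f k ≫ Z.hom)
  let ck : ∀ k, Zk k ⟶ Z := fun k => Over.homMk (𝒵.f k) rfl
  have hoi : ∀ k, IsOpenImmersion (ck k).left := fun k => 𝒵.map_prop k
  refine hom_ext_of_fppf_family Zk ck (fun k => ?_) (fun k => ?_) (fun t => ?_) _ _ fun k => ?_
  · haveI := hoi k; infer_instance
  · haveI := hoi k; infer_instance
  · obtain ⟨k, y, rfl⟩ := 𝒵.openCover.exists_eq t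
    exact ⟨k, y, rfl⟩
  have hgl : g₁.left ≫ Spec.map (CommRingCat.ofHom φ₁) = g₂.left ≫ Spec.map (CommRingCat.ofHom φ₂) :=
    congrArg (fun k => k.left) hg
  let φ : sq.A →+* 𝒵.X k :=
    (Spec.preimage (𝒵.f k ≫ g₁.left ≫ Spec.map (CommRingCat.ofHom φ₁))).hom
  have hφ : Spec.map (CommRingCat.ofHom φ) = 𝒵.f k ≫ g₁.left ≫ Spec.map (CommRingCat.ofHom φ₁) :=
    Spec.map_preimage _
  have hw1 := Over.w g₁
  have hw2 := Over.w g₂
  let d₁ : resT' sq φ ⟶ resT' sq φ₁ := Over.homMk (𝒵.f k ≫ g₁.left) (by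
    change (𝒵.f k ≫ g₁.left) ≫ Spec.map (CommRingCat.ofHom φ₁) ≫ sq.str =
      Spec.map (CommRingCat.ofHom φ) ≫ sq.str
    rw [hφ]
    simp only [Category.assoc])
  let d₂ : resT' sq φ ⟶ resT' sq φ₂ := Over.homMk (𝒵.f k ≫ g₂.left) (by
    change (𝒵.f k ≫ g₂.left) ≫ Spec.map (CommRingCat.ofHom φ₂) ≫ sq.str =
      Spec.map (CommRingCat.ofHom φ) ≫ sq.str
    rw [hφ, Category.assoc, ← Category.assoc g₂.left, ← hgl]
    simp only [Category.assoc])
  let i' : Zk k ⟶ resT' sq φ := Over.homMk (𝟙 _) (by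
    change 𝟙 _ ≫ Spec.map (CommRingCat.ofHom φ) ≫ sq.str = 𝒵.f k ≫ Z.hom
    rw [Category.id_comp, hφ, ← hw1]
    simp only [Category.assoc]
    rfl)
  have hd₁ : d₁ ≫ resρ sq φ₁ = resρ sq φ := by
    ext
    change (𝒵.f k ≫ g₁.left) ≫ Spec.map (CommRingCat.ofHom φ₁) = Spec.map (CommRingCat.ofHom φ)
    rw [hφ, Category.assoc]
  have hd₂ : d₂ ≫ resρ sq φ₂ = resρ sq φ := by
    ext
    change (𝒵.f k ≫ g₂.left) ≫ Spec.map (CommRingCat.ofHom φ₂) = Spec.map (CommRingCat.ofHom φ)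
    rw [hφ, Category.assoc, hgl]
  have hc1 : ck k ≫ g₁ = i' ≫ d₁ := by
    ext
    change 𝒵.f k ≫ g₁.left = 𝟙 _ ≫ 𝒵.f k ≫ g₁.left
    rw [Category.id_comp]
  have hc2 : ck k ≫ g₂ = i' ≫ d₂ := by
    ext
    change 𝒵.f k ≫ g₂.left = 𝟙 _ ≫ 𝒵.f k ≫ g₂.left
    rw [Category.id_comp]
  have key : (yon S).map d₁ ≫ m₁ = (yon S).map d₂ ≫ m₂ :=
    (h₁.restrict' φ d₁ hd₁).unique hb (h₂.restrict' φ d₂ hd₂)
  rw [yon_comp_assoc, yon_comp_assoc, hc1, hc2, ← yon_comp_assoc, ← yon_comp_assoc, key]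

end Sol

section Main

variable {F G H : Sp S}

/-- étale on top, existence: if `a` is a representable étale surjection and `a ≫ b` is formally
étale then `b` is formally smooth (via topological invariance of the étale site). -/
theorem smooth_of_comp_of_etale_surj (a : F ⟶ G) (b : G ⟶ H) (ha : RepWith @Etale a)
    (ha' : RepWith @Surjective a) (hab : IsFormallyEtaleMor (a ≫ b)) : IsFormallySmoothMor b := by
  have hb : IsFormallyUnramifiedMor b :=
    unram_of_comp_of_etale_surj a b ha ha' ((isFormallyEtaleMor_iff (a ≫ b)).1 hab).2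
  intro sq
  let W := ha.rep.pullback sq.top
  let π : W ⟶ sq.ptT := ha.rep.snd sq.top
  let q : (yon S).obj W ⟶ F := ha.rep.fst sq.top
  have hpb : IsPullback q ((yon S).map π) a sq.top := ha.rep.isPullback sq.top
  have hπe : Etale π.left := ha.property_snd sq.top
  have hπs : Surjective π.left := ha'.property _ _ _ hpb
  have key : ∀ w : W.left, ∃ (B : Type u) (_ : CommRing B) (β : sq.A →+* B), β.Etale ∧
      (kap sq.I β).Etale ∧ ∃ σ : Spec (CommRingCat.of (B ⧸ sq.I.map β)) ⟶ W.left,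
        σ ≫ π.left = Spec.map (CommRingCat.ofHom (kap sq.I β)) ∧ w ∈ Set.range σ :=
    fun w => exists_etale_lift_scheme sq.I sq.sq_zero π.left w
  choose B instB β hβ hκ σ hσ hw using key
  letI : ∀ w, CommRing (B w) := instB
  let σ' : ∀ w, resT sq (β w) ⟶ W := fun w => Over.homMk (σ w) (by
    have := Over.w π
    change σ w ≫ W.hom = thk (sq.I.map (β w)) ≫ Spec.map (CommRingCat.ofHom (β w)) ≫ sq.str
    rw [← this, ← Category.assoc, hσ w]
    change Spec.map (CommRingCat.ofHom (kap sq.I (β w))) ≫ thk sq.I ≫ sq.str = _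
    rw [← Category.assoc, ← thk_map_comm, Category.assoc])
  have hσ' : ∀ w, σ' w ≫ π = resκ sq (β w) := by
    intro w
    ext
    exact hσ w
  have hqa : ∀ w, ((yon S).map (σ' w) ≫ q) ≫ a = (yon S).map (resκ sq (β w)) ≫ sq.top := by
    intro w
    rw [Category.assoc, hpb.w, yon_comp_assoc, hσ' w]
  have comm : ∀ w, ((yon S).map (σ' w) ≫ q) ≫ a ≫ b =
      (yon S).map (resJ sq (β w)) ≫ (yon S).map (resρ sq (β w)) ≫ sq.bot := by
    intro w
    rw [← Category.assoc, hqa w, Category.assoc, sq.comm, yon_comp_assoc, yon_comp_assoc, resJ_ρ]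
  have hp : ∀ w, ∃ p : (yon S).obj (resT' sq (β w)) ⟶ F,
      (yon S).map (resJ sq (β w)) ≫ p = (yon S).map (σ' w) ≫ q ∧
      p ≫ a ≫ b = (yon S).map (resρ sq (β w)) ≫ sq.bot := by
    intro w
    obtain ⟨p, ⟨h1, h2⟩, -⟩ := hab (resSq sq (β w) (a ≫ b) ((yon S).map (σ' w) ≫ q)
      ((yon S).map (resρ sq (β w)) ≫ sq.bot) (comm w))
    exact ⟨p, h1, h2⟩
  choose p hp1 hp2 using hp
  have hm : ∀ w, IsSolSp sq (β w) (p w ≫ a) := fun w =>
    ⟨by rw [← Category.assoc, hp1 w, hqa w], by rw [Category.assoc, hp2 w]⟩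
  have hρE : ∀ w, Etale (resρ sq (β w)).left := fun w =>
    (HasRingHomProperty.Spec_iff (P := @Etale)).2 (hβ w)
  have hκE : ∀ w, Etale (resκ sq (β w)).left := fun w =>
    (HasRingHomProperty.Spec_iff (P := @Etale)).2 (hκ w)
  have hκs : ∀ t₀ : ↥sq.ptT.left, ∃ w, t₀ ∈ Set.range (resκ sq (β w)).left := by
    intro t₀
    obtain ⟨w, rfl⟩ := hπs.surj t₀
    obtain ⟨y, hy⟩ := hw w
    refine ⟨w, y, ?_⟩
    change (Spec.map (CommRingCat.ofHom (kap sq.I (β w)))) y = _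
    rw [← hσ w]
    exact congrArg (fun z => π.left z) hy
  have hρs : ∀ t : ↥sq.ptT'.left, ∃ w, t ∈ Set.range (resρ sq (β w)).left := by
    intro t
    obtain ⟨t₀, rfl⟩ := thk_surjective sq.I sq.sq_zero t
    obtain ⟨w, y, hy⟩ := hκs t₀
    refine ⟨w, thk (sq.I.map (β w)) y, ?_⟩
    change (thk (sq.I.map (β w)) ≫ Spec.map (CommRingCat.ofHom (β w))) y = _
    rw [thk_map_comm, ← hy]
    rfl
  have hfρ : ∀ w, Flat (resρ sq (β w)).left := fun w => by haveI := hρE w; infer_instance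
  have hpρ : ∀ w, LocallyOfFinitePresentation (resρ sq (β w)).left := fun w => by
    haveI := hρE w; infer_instance
  have hfκ : ∀ w, Flat (resκ sq (β w)).left := fun w => by haveI := hκE w; infer_instance
  have hpκ : ∀ w, LocallyOfFinitePresentation (resκ sq (β w)).left := fun w => by
    haveI := hκE w; infer_instance
  obtain ⟨l, hl⟩ := desc_of_cover (T := sq.ptT') (fun w => resT' sq (β w))
    (fun w => resρ sq (β w)) (ofArrows_mem_J _ _ hfρ hpρ hρs) (fun w => p w ≫ a)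
    (fun i j Z gi gj h => compat_piece hb (hm i) (hm j) Z gi gj h)
  refine ⟨l, ?_, ?_⟩
  · refine hom_ext_of_fppf_family (fun w => resT sq (β w)) (fun w => resκ sq (β w)) hfκ hpκ hκs
      _ _ fun w => ?_
    rw [yon_comp_assoc, ← resJ_ρ, ← yon_comp_assoc, hl w]
    exact (hm w).top
  · refine hom_ext_of_fppf_family (fun w => resT' sq (β w)) (fun w => resρ sq (β w)) hfρ hpρ hρs
      _ _ fun w => ?_
    rw [← Category.assoc, hl w]
    exact (hm w).bot

/-- étale on top: formally étale descends along a representable étale surjection. -/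
theorem etale_of_comp_of_etale_surj (a : F ⟶ G) (b : G ⟶ H) (ha : RepWith @Etale a)
    (ha' : RepWith @Surjective a) (hab : IsFormallyEtaleMor (a ≫ b)) : IsFormallyEtaleMor b :=
  (isFormallyEtaleMor_iff b).2 ⟨smooth_of_comp_of_etale_surj a b ha ha' hab,
    unram_of_comp_of_etale_surj a b ha ha' ((isFormallyEtaleMor_iff (a ≫ b)).1 hab).2⟩

end Main

end Groth.Agent.Lib.AlgSpFormal3_helper7
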