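import Groth.Agent.Lib.AlgSpLocP7_helper7

/-!
# Étale morphisms of algebraic spaces via charts; locality results for the classes of `AlgSpLocP7`
(helper7)
-/

set_option autoImplicit false
universe u
open CategoryTheory CategoryTheory.Limits AlgebraicGeometry Opposite MorphismProperty
open AlgSp Groth.Agent.Lib.AlgSpQC2_helper7 Groth.Agent.Lib.AlgSpPoints_helper7
  Groth.Agent.Lib.AlgSpQC_helper7 Groth.Agent.Lib.AlgSpDiag_helper7 Groth.Agent.Lib.AlgSpTop_helper7
  Groth.Agent.Lib.AlgSpPullback_helper7 Groth.Agent.Lib.AlgSpSep_helper7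
  Groth.Agent.Lib.AlgSpLocP_helper7 Groth.Agent.Lib.AlgSpUniv_helper7
  Groth.Agent.Lib.AlgSpFpqc_helper7 Groth.Agent.Lib.AlgSpFpqc2_helper7
  Groth.Agent.Lib.AlgSpDescent_helper7 Groth.Agent.Lib.AlgSpEtale_helper7
  Groth.Agent.Lib.AlgSpLocP2_helper7 Groth.Agent.Lib.AlgSpLocP3_helper7
  Groth.Agent.Lib.AlgSpEpi_helper7
  Groth.Agent.Lib.SchSrcLocal_helper7 Groth.Agent.Lib.AlgSpLocP4_helper7
  Groth.Agent.Lib.AlgSpLocP5_helper7 Groth.Agent.Lib.AlgSpLocP6_helper7
  Groth.Agent.Lib.SchSrcLocal2_helper7 Groth.Agent.Lib.AlgSpSrc_helper7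
  Groth.Agent.Lib.AlgSpLocP7_helper7

namespace Groth.Agent.Lib.AlgSpLocP8_helper7

variable {S : Scheme.{u}}

/-- A morphism to an algebraic space which is étale on charts is étale in the sense of the
reference. -/
theorem isEtaleMor_of_locP {X Y : Sp S} (hY : IsAlgSpace Y) (f : X ⟶ Y) (h : LocP @Etale f) :
    IsEtaleMor f := by
  intro U φ hφ
  have hrep : Representable (φ ≫ f) := hY.representable_from_yon _
  apply (locP_iff_repWith_listed @Etale (Or.inr (Or.inr (Or.inr (Or.inr (Or.inl rfl))))) hY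
    (φ ≫ f) hrep).1
  intro U' V' a' b' h' hae' hbe' comm'
  exact h (a' ≫ φ) b' h' (repWith_comp _ hae' hφ) hbe' (by rw [Category.assoc, comm'])

theorem isEtaleMor_iff_locP {X Y : Sp S} (hY : IsAlgSpace Y) (f : X ⟶ Y) :
    IsEtaleMor f ↔ LocP @Etale f :=
  ⟨locP_of_isEtaleMor _ (fun _ _ _ hg => hg) f, isEtaleMor_of_locP hY f⟩

/-- Family version of the source-locality of a class étale local on the source-and-target. -/
theorem EtLocal.of_family {P : MorphismProperty Scheme.{u}} [IsZariskiLocalAtSource P]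
    (hP : EtLocal P) {ι : Type u} {U V : Scheme.{u}} (W : ι → Scheme.{u}) (c : ∀ i, W i ⟶ U)
    (h : U ⟶ V) (hc : ∀ i, Etale (c i)) (hs : ∀ x : U, ∃ i, x ∈ Set.range (c i))
    (hch : ∀ i, P (c i ≫ h)) : P h := by
  let σ : ∐ W ⟶ U := Sigma.desc c
  have hσs : Surjective σ := by
    refine ⟨fun z => ?_⟩
    obtain ⟨j, w, rfl⟩ := hs z
    refine ⟨Sigma.ι W j w, ?_⟩
    rw [← Scheme.Hom.comp_apply, Sigma.ι_desc]
  have hσe : Etale σ := IsZariskiLocalAtSource.sigmaDesc hc
  have e : σ ≫ h = Sigma.desc fun i => c i ≫ h := by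
    apply Sigma.hom_ext
    intro i
    rw [Sigma.ι_desc, ← Category.assoc, Sigma.ι_desc]
  have h2 : P (σ ≫ h) := by
    rw [e]
    exact IsZariskiLocalAtSource.sigmaDesc hch
  exact hP.src σ h hσe hσs h2

/-- For `P` étale local on the source-and-target (and containing the étale morphisms), `LocP P` is
étale local on the source. -/
theorem locP_isLocalOnSource_etale (P : MorphismProperty Scheme.{u}) [P.IsStableUnderBaseChange]
    [P.IsStableUnderComposition] [IsZariskiLocalAtSource P] (hP : EtLocal P)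
    (hE : ∀ ⦃A B : Scheme.{u}⦄ (g : A ⟶ B), Etale g → P g) :
    IsLocalOnSource (IsEtCover (S := S)) (LocP P) := by
  intro ι X Xi g hX hXi hcov Y f hY
  constructor
  · intro hf i
    exact locP_comp hP (hXi i) hX hY (g i) f (locP_of_isEtaleMor P hE (g i) (hcov.1 i)) hf
  · intro h
    exact locP_of_cover_source P @Etale etLocal_etale
      (fun W c h hc hs hch => EtLocal.of_family hP W c h hc hs hch) hX f Xi g hXi
      (fun i => locP_of_isEtaleMor _ (fun _ _ _ hg => hg) (g i) (hcov.1 i)) hcov.2 h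

theorem isLocalOnSource_congr {τ : CovNotion S} {P P' : MorphismProperty (Sp S)}
    (h : ∀ {X Y : Sp S} (f : X ⟶ Y), IsAlgSpace Y → (P f ↔ P' f))
    (hP : IsLocalOnSource τ P) : IsLocalOnSource τ P' := by
  intro ι X Xi g hX hXi hcov Y f hY
  rw [← h f hY]
  have := hP Xi g hX hXi hcov f hY
  rw [this]
  exact forall_congr' fun i => h _ hY

theorem isLocalOnSource_etale_isEtaleMor :
    IsLocalOnSource (IsEtCover (S := S)) IsEtaleMor :=
  isLocalOnSource_congr (fun f hY => (isEtaleMor_iff_locP hY f).symm)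
    (locP_isLocalOnSource_etale @Etale etLocal_etale fun _ _ _ hg => hg)

theorem isLocalOnSource_etale_locallyQuasiFinite :
    IsLocalOnSource (IsEtCover (S := S)) (LocP (@LocallyQuasiFinite ⊓ @LocallyOfFiniteType)) :=
  locP_isLocalOnSource_etale _ etLocal_locallyQuasiFinite
    fun _ _ g _ => ⟨locallyQuasiFinite_of_unramified g, inferInstance⟩

theorem isLocalOnSource_etale_unramified :
    IsLocalOnSource (IsEtCover (S := S)) (LocP (@LocallyOfFiniteType ⊓ @FormallyUnramified)) :=
  locP_isLocalOnSource_etale _ etLocal_unramified fun _ _ g _ => ⟨inferInstance, inferInstance⟩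

theorem isLocalOnBase_fpqc_locP_locallyOfFinitePresentation :
    IsLocalOnBase (IsFpqcCover (S := S)) (LocP @LocallyOfFinitePresentation) :=
  locP_isLocalOnBase_fpqc _ etLocal_locallyOfFinitePresentation
    (descendsFlatCover_of_descendsAlong _)

theorem isLocalOnBase_fpqc_locP_unramified :
    IsLocalOnBase (IsFpqcCover (S := S)) (LocP (@LocallyOfFiniteType ⊓ @FormallyUnramified)) :=
  locP_isLocalOnBase_fpqc _ etLocal_unramified
    (descendsFlatCover_inf (descendsFlatCover_of_descendsAlong _)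
      (descendsFlatCover_of_descendsAlong _))

theorem isLocalOnBase_fpqc_locP_etale :
    IsLocalOnBase (IsFpqcCover (S := S)) (LocP @Etale) :=
  locP_isLocalOnBase_fpqc _ etLocal_etale (descendsFlatCover_of_descendsAlong _)

theorem isLocalOnBase_fpqc_isEtaleMor :
    IsLocalOnBase (IsFpqcCover (S := S)) IsEtaleMor := by
  intro ι Y Yi g hY hYi hcov X f hX Xi p q hXi sqs
  rw [isEtaleMor_iff_locP hY f]
  rw [isLocalOnBase_fpqc_locP_etale Yi g hY hYi hcov f hX Xi p q hXi sqs]
  exact forall_congr' fun i => (isEtaleMor_iff_locP (hYi i) (p i)).symm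

theorem isLocalOnBase_fpqc_isFinitePresentationMor :
    IsLocalOnBase (IsFpqcCover (S := S)) IsFinitePresentationMor :=
  isLocalOnBase_and isLocalOnBase_fpqc_locP_locallyOfFinitePresentation
    (isLocalOnBase_and isLocalOnBase_fpqc_isQuasiCompactMor isLocalOnBase_fpqc_isQuasiSeparatedMor)

end Groth.Agent.Lib.AlgSpLocP8_helper7
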