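import Groth.Agent.Lib.AlgSpFormal3_helper7
import Groth.Agent.Lib.AlgSpLocP8_helper7

/-!
# Formally étale morphisms of algebraic spaces via charts (helper7)
-/

set_option autoImplicit false
universe u
open CategoryTheory CategoryTheory.Limits AlgebraicGeometry Opposite MorphismProperty
open AlgSp Groth.Agent.Lib.FormalEtale_helper7 Groth.Agent.Lib.AlgSpCov_helper7
  Groth.Agent.Lib.AlgSpOpenSub_helper7 Groth.Agent.Lib.AlgSpPullback_helper7
  Groth.Agent.Lib.AlgSpIso_helper7 Groth.Agent.Lib.AlgSpInfLift_helper6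
  Groth.Agent.Lib.AlgSpQC_helper7 Groth.Agent.Lib.AlgSpPoints_helper7
  Groth.Agent.Lib.AlgSpFormal_helper7 Groth.Agent.Lib.AlgSpFormal3_helper7
  Groth.Agent.Lib.AlgSpLocP8_helper7

namespace Groth.Agent.Lib.AlgSpFormal4_helper7

variable {S : Scheme.{u}}

/-- bookkeeping: `h_g` is formally étale as a map of sheaves iff `g.left` is formally étale. -/
theorem isFormallyEtaleMor_yon_map_iff {U V : Over S} (g : U ⟶ V) :
    IsFormallyEtaleMor ((yon S).map g) ↔ FE g.left := by
  constructor
  · intro hg A _ I hI a₀ b₀ comm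
    let str : Spec (CommRingCat.of A) ⟶ S := b₀ ≫ V.hom
    let t : Over.mk (thk I ≫ str) ⟶ U := Over.homMk a₀ (by
      change a₀ ≫ U.hom = thk I ≫ b₀ ≫ V.hom
      rw [← Over.w g, ← Category.assoc, ← comm, Category.assoc])
    let s : Over.mk str ⟶ V := Over.homMk b₀ rfl
    let jj : Over.mk (thk I ≫ str) ⟶ Over.mk str := Over.homMk (thk I) rfl
    have hts : t ≫ g = jj ≫ s := by
      ext
      exact comm.symm
    let sq : InfSq ((yon S).map g) :=
      { A := A, I := I, sq_zero := hI, str := str,
        top := (yon S).map t, bot := (yon S).map s,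
        comm := by rw [← Functor.map_comp, ← Functor.map_comp, hts] }
    obtain ⟨l, ⟨h1, h2⟩, hu⟩ := hg sq
    obtain ⟨m, rfl⟩ := (yon S).map_surjective l
    have h1' : jj ≫ m = t := (yon S).map_injective (by rw [Functor.map_comp]; exact h1)
    have h2' : m ≫ g = s := (yon S).map_injective (by rw [Functor.map_comp]; exact h2)
    refine ⟨m.left, ⟨congrArg (fun k => k.left) h1', congrArg (fun k => k.left) h2'⟩, ?_⟩
    rintro l' ⟨h3, h4⟩
    let m' : Over.mk str ⟶ U := Over.homMk l' (by
      change l' ≫ U.hom = b₀ ≫ V.hom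
      rw [← Over.w g, ← Category.assoc, h4])
    have h3' : jj ≫ m' = t := by
      ext
      exact h3
    have h4' : m' ≫ g = s := by
      ext
      exact h4
    have := hu ((yon S).map m') ⟨by
      change (yon S).map jj ≫ (yon S).map m' = (yon S).map t
      rw [← Functor.map_comp, h3'], by
      change (yon S).map m' ≫ (yon S).map g = (yon S).map s
      rw [← Functor.map_comp, h4']⟩
    exact congrArg (fun k => k.left) ((yon S).map_injective this)
  · intro hg sq
    obtain ⟨t, ht⟩ := (yon S).map_surjective sq.top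
    obtain ⟨s, hs⟩ := (yon S).map_surjective sq.bot
    have hts : t ≫ g = sq.j ≫ s := (yon S).map_injective (by
      rw [Functor.map_comp, Functor.map_comp, ht, hs]
      exact sq.comm)
    obtain ⟨l₀, ⟨h1, h2⟩, hu⟩ := hg sq.A sq.I sq.sq_zero t.left s.left
      (congrArg (fun k => k.left) hts).symm
    let m : sq.ptT' ⟶ U := Over.homMk l₀ (by
      change l₀ ≫ U.hom = sq.str
      rw [← Over.w g, ← Category.assoc, h2]
      exact Over.w s)
    have hm1 : sq.j ≫ m = t := by
      ext
      exact h1
    have hm2 : m ≫ g = s := by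
      ext
      exact h2
    refine ⟨(yon S).map m, ⟨?_, ?_⟩, ?_⟩
    · rw [← Functor.map_comp, hm1, ht]
    · rw [← Functor.map_comp, hm2, hs]
    · rintro l' ⟨h3, h4⟩
      obtain ⟨m', rfl⟩ := (yon S).map_surjective l'
      have h3' : sq.j ≫ m' = t := (yon S).map_injective (by rw [Functor.map_comp, ht]; exact h3)
      have h4' : m' ≫ g = s := (yon S).map_injective (by rw [Functor.map_comp, hs]; exact h4)
      have : m'.left = l₀ :=
        hu m'.left ⟨congrArg (fun k => k.left) h3', congrArg (fun k => k.left) h4'⟩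
      have hmm : m' = m := by
        ext
        exact this
      rw [hmm]

variable {F G : Sp S}

/-- charts of a formally étale morphism are formally étale -/
theorem fe_chart_of_etale (f : F ⟶ G) (hf : IsFormallyEtaleMor f)
    {U V : Over S} (a : (yon S).obj U ⟶ F) (b : (yon S).obj V ⟶ G) (h : U ⟶ V)
    (hae : RepWith @Etale a) (hbe : RepWith @Etale b) (comm : a ≫ f = (yon S).map h ≫ b) :
    FE h.left := by
  have h1 : IsFormallyEtaleMor (a ≫ f) := etale_comp (isFormallyEtaleMor_of_repWith_etale a hae) hf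
  rw [comm] at h1
  exact (isFormallyEtaleMor_yon_map_iff h).1
    (etale_of_comp (isFormallyUnramifiedMor_of_repWith_etale b hbe) h1)

/-- one chart with surjective étale source chart detects formal étaleness -/
theorem etale_of_chart (f : F ⟶ G) {U V : Over S} (a : (yon S).obj U ⟶ F)
    (b : (yon S).obj V ⟶ G) (h : U ⟶ V) (hae : RepWith @Etale a) (has : RepWith @Surjective a)
    (hbe : RepWith @Etale b) (comm : a ≫ f = (yon S).map h ≫ b)
    (hh : FE h.left) : IsFormallyEtaleMor f := by
  have h1 : IsFormallyEtaleMor ((yon S).map h ≫ b) :=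
    etale_comp ((isFormallyEtaleMor_yon_map_iff h).2 hh) (isFormallyEtaleMor_of_repWith_etale b hbe)
  rw [← comm] at h1
  exact etale_of_comp_of_etale_surj a f hae has h1

theorem etale_iff_locP (hF : IsAlgSpace F) (hG : IsAlgSpace G) (f : F ⟶ G) :
    IsFormallyEtaleMor f ↔ LocP @MoreMor.IsFormallyEtaleHom f := by
  constructor
  · intro hf U V a b h hae hbe comm
    exact fe_chart_of_etale f hf a b h hae hbe comm
  · intro hL
    obtain ⟨U, V, a, b, h, hae, has, hbe, -, comm⟩ := exists_chart_square hF hG f
    exact etale_of_chart f a b h hae has hbe comm (hL a b h hae hbe comm)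

/-- étale morphisms of algebraic spaces are formally étale -/
theorem isFormallyEtaleMor_of_isEtaleMor (hF : IsAlgSpace F) (f : F ⟶ G) (hf : IsEtaleMor f) :
    IsFormallyEtaleMor f := by
  obtain ⟨U, a, hae, has⟩ := hF.atlas
  exact etale_of_comp_of_etale_surj a f hae has
    (isFormallyEtaleMor_of_repWith_etale _ (hf a hae))

/-- étale = locally of finite presentation + formally étale -/
theorem isEtaleMor_iff_lfp_and_formallyEtale (hF : IsAlgSpace F) (hG : IsAlgSpace G) (f : F ⟶ G) :
    IsEtaleMor f ↔ LocP @LocallyOfFinitePresentation f ∧ IsFormallyEtaleMor f := by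
  rw [isEtaleMor_iff_locP hG f, etale_iff_locP hF hG f]
  constructor
  · intro h
    exact ⟨fun U V a b k hae hbe comm => ((etale_iff_lfp_and_fe _).1 (h a b k hae hbe comm)).1,
      fun U V a b k hae hbe comm => ((etale_iff_lfp_and_fe _).1 (h a b k hae hbe comm)).2⟩
  · rintro ⟨h1, h2⟩ U V a b k hae hbe comm
    exact (etale_iff_lfp_and_fe _).2 ⟨h1 a b k hae hbe comm, h2 a b k hae hbe comm⟩

end Groth.Agent.Lib.AlgSpFormal4_helper7
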