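import Groth.Agent.Lib.AlgSpFormal5_helper7

/-!
# Gluing lifts along first order thickenings of algebraic spaces from affine chart data (helper7)
-/

set_option autoImplicit false
universe u
open CategoryTheory CategoryTheory.Limits AlgebraicGeometry Opposite MorphismProperty
open AlgSp Groth.Agent.Lib.FormalEtale_helper7 Groth.Agent.Lib.AlgSpCov_helper7
  Groth.Agent.Lib.AlgSpOpenSub_helper7 Groth.Agent.Lib.AlgSpPullback_helper7
  Groth.Agent.Lib.AlgSpIso_helper7 Groth.Agent.Lib.AlgSpInfLift_helper6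
  Groth.Agent.Lib.AlgSpQC_helper7 Groth.Agent.Lib.AlgSpPoints_helper7
  Groth.Agent.Lib.AlgSpFormal_helper7 Groth.Agent.Lib.AlgSpFormal2_helper7
  Groth.Agent.Lib.AlgSpFormal3_helper7 Groth.Agent.Lib.AlgSpEpi_helper7
  Groth.Agent.Lib.AlgSpFormal5_helper7

namespace Groth.Agent.Lib.AlgSpFormal6_helper7

variable {S : Scheme.{u}}

section Gen

variable {X Y T T' : Sp S} (f : X ⟶ Y) (j : T ⟶ T') (a : T ⟶ X) (b : T' ⟶ Y)

/-- uniqueness of solutions on affine étale chart data of the thickening -/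
def LocUniq : Prop :=
  ∀ (R : CommRingCat.{u}) (str : Spec R ⟶ S) (r : (yon S).obj (Over.mk str) ⟶ T')
    (_ : RepWith @Etale r) (K : Ideal R) (_ : K ^ 2 = ⊥)
    (t : (yon S).obj (Over.mk (thk K ≫ str)) ⟶ T)
    (_ : IsPullback t
      ((yon S).map (Over.homMk (thk K) rfl : Over.mk (thk K ≫ str) ⟶ Over.mk str)) j r)
    (m m' : (yon S).obj (Over.mk str) ⟶ X),
    (yon S).map (Over.homMk (thk K) rfl : Over.mk (thk K ≫ str) ⟶ Over.mk str) ≫ m = t ≫ a →
    m ≫ f = r ≫ b →
    (yon S).map (Over.homMk (thk K) rfl : Over.mk (thk K ≫ str) ⟶ Over.mk str) ≫ m' = t ≫ a →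
    m' ≫ f = r ≫ b → m = m'

/-- existence of solutions on affine étale chart data of the thickening -/
def LocEx : Prop :=
  ∀ (R : CommRingCat.{u}) (str : Spec R ⟶ S) (r : (yon S).obj (Over.mk str) ⟶ T')
    (_ : RepWith @Etale r) (K : Ideal R) (_ : K ^ 2 = ⊥)
    (t : (yon S).obj (Over.mk (thk K ≫ str)) ⟶ T)
    (_ : IsPullback t
      ((yon S).map (Over.homMk (thk K) rfl : Over.mk (thk K ≫ str) ⟶ Over.mk str)) j r),
    ∃ m : (yon S).obj (Over.mk str) ⟶ X,
      (yon S).map (Over.homMk (thk K) rfl : Over.mk (thk K ≫ str) ⟶ Over.mk str) ≫ m = t ≫ a ∧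
      m ≫ f = r ≫ b

variable {f j a b}

/-- the chart thickening `Spec (R ⧸ K) ⟶ Spec R` is a first order thickening of sheaves -/
theorem isFOThickMor_chart (hj : IsFOThickMor j) {R : CommRingCat.{u}} {str : Spec R ⟶ S}
    {r : (yon S).obj (Over.mk str) ⟶ T'} (hre : RepWith @Etale r) {K : Ideal R}
    {t : (yon S).obj (Over.mk (thk K ≫ str)) ⟶ T}
    (hP : IsPullback t
      ((yon S).map (Over.homMk (thk K) rfl : Over.mk (thk K ≫ str) ⟶ Over.mk str)) j r) :
    IsFOThickMor
      ((yon S).map (Over.homMk (thk K) rfl : Over.mk (thk K ≫ str) ⟶ Over.mk str)) := by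
  refine ⟨repWith_snd_of_isPullback thick hP hj.1, ?_⟩
  intro V W bV fst snd hV hbV hpb
  exact hj.2 (bV ≫ r) (fst ≫ t) snd hV (repWith_comp _ hbV hre) (hpb.paste_horiz hP)

theorem isLiftOn_unique_gen (hu : LocUniq f j a b) (hj : IsFOThickMor j)
    {V : Over S} {r : (yon S).obj V ⟶ T'} (hre : RepWith @Etale r)
    {m m' : (yon S).obj V ⟶ X} (h : IsLiftOn f j a b r m) (h' : IsLiftOn f j a b r m') :
    m = m' := by
  let 𝒲 := V.left.affineOpenCover
  let Tk : 𝒲.I₀ → Over S := fun k => Over.mk (𝒲.f k ≫ V.hom)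
  let c : ∀ k, Tk k ⟶ V := fun k => Over.homMk (𝒲.f k) rfl
  have hoi : ∀ k, IsOpenImmersion (c k).left := fun k => 𝒲.map_prop k
  refine hom_ext_of_fppf_family Tk c (fun k => ?_) (fun k => ?_) (fun t => ?_) m m' fun k => ?_
  · haveI := hoi k; infer_instance
  · haveI := hoi k; infer_instance
  · obtain ⟨k, y, rfl⟩ := 𝒲.openCover.exists_eq t
    exact ⟨k, y, rfl⟩
  let rk : (yon S).obj (Tk k) ⟶ T' := (yon S).map (c k) ≫ r
  have hrke : RepWith @Etale rk := by
    haveI := hoi k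
    exact repWith_comp _ ((repWith_yon_map_iff _ _).2 (inferInstance : Etale (c k).left)) hre
  obtain ⟨K, hK, t, hP⟩ := exists_affine_thickening_chart' j hj (𝒲.f k ≫ V.hom) rk hrke
  let jK : Over.mk (thk K ≫ 𝒲.f k ≫ V.hom) ⟶ Tk k := Over.homMk (thk K) rfl
  have ht' : t ≫ j = (yon S).map (jK ≫ c k) ≫ r := by
    rw [hP.w, ← yon_comp_assoc]
  refine hu (𝒲.X k) (𝒲.f k ≫ V.hom) rk hrke K hK t hP _ _ ?_ ?_ ?_ ?_
  · change (yon S).map jK ≫ (yon S).map (c k) ≫ m = t ≫ a
    rw [yon_comp_assoc]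
    exact h.top _ t (jK ≫ c k) ht'
  · change ((yon S).map (c k) ≫ m) ≫ f = ((yon S).map (c k) ≫ r) ≫ b
    rw [Category.assoc, h.bot, Category.assoc]
  · change (yon S).map jK ≫ (yon S).map (c k) ≫ m' = t ≫ a
    rw [yon_comp_assoc]
    exact h'.top _ t (jK ≫ c k) ht'
  · change ((yon S).map (c k) ≫ m') ≫ f = ((yon S).map (c k) ≫ r) ≫ b
    rw [Category.assoc, h'.bot, Category.assoc]

theorem exists_isLiftOn_affine_gen (he : LocEx f j a b) (hj : IsFOThickMor j)
    {R : CommRingCat.{u}} (str : Spec R ⟶ S)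
    (r : (yon S).obj (Over.mk str) ⟶ T') (hre : RepWith @Etale r) :
    ∃ m, IsLiftOn f j a b r m := by
  obtain ⟨K, hK, t, hP⟩ := exists_affine_thickening_chart' j hj str r hre
  let jK : Over.mk (thk K ≫ str) ⟶ Over.mk str := Over.homMk (thk K) rfl
  obtain ⟨m, hm1, hm2⟩ := he R str r hre K hK t hP
  have hm1' : (yon S).map jK ≫ m = t ≫ a := hm1
  refine ⟨m, hm2, fun Z g g' hg => ?_⟩
  have e1 : hP.lift g ((yon S).map g') hg ≫ t = g := hP.lift_fst _ _ _
  have e2 : hP.lift g ((yon S).map g') hg ≫ (yon S).map jK = (yon S).map g' := hP.lift_snd _ _ _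
  rw [← e2, Category.assoc, hm1', ← Category.assoc, e1]

/-- existence of lifts along first order thickenings of algebraic spaces, from chart data -/
theorem exists_lift_gen (hT' : IsAlgSpace T') (hu : LocUniq f j a b) (he : LocEx f j a b)
    (hj : IsFOThickMor j) : ∃ l : T' ⟶ X, j ≫ l = a ∧ l ≫ f = b := by
  obtain ⟨U, p, hpe, hps⟩ := hT'.atlas
  haveI hpepi : Epi p := epi_of_atlas p hpe hps
  let 𝒲 := U.left.affineOpenCover
  let Tk : 𝒲.I₀ → Over S := fun k => Over.mk (𝒲.f k ≫ U.hom)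
  let c : ∀ k, Tk k ⟶ U := fun k => Over.homMk (𝒲.f k) rfl
  have hoi : ∀ k, IsOpenImmersion (c k).left := fun k => 𝒲.map_prop k
  have hrke : ∀ k, RepWith @Etale ((yon S).map (c k) ≫ p) := fun k => by
    haveI := hoi k
    exact repWith_comp _ ((repWith_yon_map_iff _ _).2 (inferInstance : Etale (c k).left)) hpe
  have hex : ∀ k, ∃ m, IsLiftOn f j a b ((yon S).map (c k) ≫ p) m := fun k =>
    exists_isLiftOn_affine_gen he hj (𝒲.f k ≫ U.hom) _ (hrke k)
  choose lk hlk using hex
  have hcompat : ∀ (i k : 𝒲.I₀) (Z : Over S) (gi : Z ⟶ Tk i) (gk : Z ⟶ Tk k),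
      gi ≫ c i = gk ≫ c k → (yon S).map gi ≫ lk i = (yon S).map gk ≫ lk k := by
    intro i k Z gi gk hgik
    let Vik : Over S := Over.mk (pullback.fst (c i).left (c k).left ≫ (Tk i).hom)
    let ei : Vik ⟶ Tk i := Over.homMk (pullback.fst (c i).left (c k).left) rfl
    let ek : Vik ⟶ Tk k := Over.homMk (pullback.snd (c i).left (c k).left) (by
      change pullback.snd (c i).left (c k).left ≫ (Tk k).hom =
        pullback.fst (c i).left (c k).left ≫ (Tk i).hom
      rw [← Over.w (c i), ← Over.w (c k), ← Category.assoc, ← Category.assoc, pullback.condition])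
    let z : Z ⟶ Vik := Over.homMk (pullback.lift gi.left gk.left (congrArg (fun q => q.left) hgik))
      (by
        change pullback.lift gi.left gk.left _ ≫ pullback.fst (c i).left (c k).left ≫ (Tk i).hom =
          Z.hom
        rw [← Category.assoc, pullback.lift_fst]
        exact Over.w gi)
    have hzi : gi = z ≫ ei := by
      ext
      exact (pullback.lift_fst _ _ _).symm
    have hzk : gk = z ≫ ek := by
      ext
      exact (pullback.lift_snd _ _ _).symm
    have heik : ei ≫ c i = ek ≫ c k := by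
      ext
      exact pullback.condition
    have hre : RepWith @Etale ((yon S).map ei ≫ (yon S).map (c i) ≫ p) := by
      haveI := hoi i
      haveI := hoi k
      have : Etale ei.left := by
        change Etale (pullback.fst (c i).left (c k).left)
        infer_instance
      exact repWith_comp _ ((repWith_yon_map_iff _ _).2 this) (hrke i)
    have h1 := (hlk i).restrict ei
    have h2 : IsLiftOn f j a b ((yon S).map ei ≫ (yon S).map (c i) ≫ p)
        ((yon S).map ek ≫ lk k) :=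
      ((hlk k).restrict ek).congr (by rw [yon_comp_assoc, yon_comp_assoc, heik])
    have := isLiftOn_unique_gen hu hj hre h1 h2
    rw [hzi, hzk, ← yon_comp_assoc, ← yon_comp_assoc, this]
  obtain ⟨m, hm⟩ := desc_of_cover Tk c (ofArrows_mem_J Tk c
    (fun k => by haveI := hoi k; infer_instance) (fun k => by haveI := hoi k; infer_instance)
    (fun t => by
      obtain ⟨k, y, rfl⟩ := 𝒲.openCover.exists_eq t
      exact ⟨k, y, rfl⟩)) lk hcompat
  have hmL : IsLiftOn f j a b p m :=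
    isLiftOn_of_openCover p m 𝒲.openCover fun k => by
      have := hlk k
      rw [← hm k] at this
      exact this
  haveI : EffectiveEpi p := effectiveEpi_of_epi p
  let R := hpe.rep.pullback p
  let fstR : (yon S).obj R ⟶ (yon S).obj U := hpe.rep.fst p
  let sndR : R ⟶ U := hpe.rep.snd p
  have hR : IsPullback fstR ((yon S).map sndR) p p := hpe.rep.isPullback p
  obtain ⟨φ₁, hφ₁⟩ := (yon S).map_surjective fstR
  have hsndE : RepWith @Etale ((yon S).map sndR ≫ p) :=
    repWith_comp _ ((repWith_yon_map_iff _ _).2 (hpe.property_snd p)) hpe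
  have hRm : fstR ≫ m = (yon S).map sndR ≫ m := by
    have h1 : IsLiftOn f j a b ((yon S).map sndR ≫ p) (fstR ≫ m) := by
      have h0 : IsLiftOn f j a b ((yon S).map sndR ≫ p) ((yon S).map φ₁ ≫ m) :=
        (hmL.restrict φ₁).congr (by rw [hφ₁]; exact hR.w)
      rwa [hφ₁] at h0
    exact isLiftOn_unique_gen hu hj hsndE h1 (hmL.restrict sndR)
  have hdesc : ∀ {Z : Sp S} (g₁ g₂ : Z ⟶ (yon S).obj U), g₁ ≫ p = g₂ ≫ p → g₁ ≫ m = g₂ ≫ m := by
    intro Z g₁ g₂ hg
    apply hom_ext_yon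
    intro V x
    obtain ⟨γ₂, hγ₂⟩ := (yon S).map_surjective (x ≫ g₂)
    have hcond : (x ≫ g₁) ≫ p = (yon S).map γ₂ ≫ p := by
      rw [hγ₂, Category.assoc, Category.assoc, hg]
    have e1 : (yon S).map (hpe.rep.lift (x ≫ g₁) γ₂ hcond) ≫ fstR = x ≫ g₁ :=
      hpe.rep.lift_fst _ _ _
    have e2 : hpe.rep.lift (x ≫ g₁) γ₂ hcond ≫ sndR = γ₂ := hpe.rep.lift_snd _ _ _
    rw [← Category.assoc, ← e1, Category.assoc, hRm, yon_comp_assoc, e2, hγ₂, Category.assoc]
  refine ⟨EffectiveEpi.desc p m hdesc, ?_, ?_⟩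
  · apply hom_ext_yon
    intro V x
    let P' := hpe.rep.pullback (x ≫ j)
    let fst' : (yon S).obj P' ⟶ (yon S).obj U := hpe.rep.fst (x ≫ j)
    let snd' : P' ⟶ V := hpe.rep.snd (x ≫ j)
    have hP' : IsPullback fst' ((yon S).map snd') p (x ≫ j) := hpe.rep.isPullback (x ≫ j)
    have hse : Etale snd'.left := hpe.property_snd (x ≫ j)
    have hss : Surjective snd'.left := hps.property _ _ _ hP'
    haveI : Epi ((yon S).map snd') :=
      epi_yon_map snd' hss inferInstance inferInstance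
    rw [← cancel_epi ((yon S).map snd')]
    obtain ⟨φ, hφ⟩ := (yon S).map_surjective fst'
    have h1 := hmL.top P' ((yon S).map snd' ≫ x) φ (by
      rw [hφ, hP'.w, Category.assoc])
    rw [hφ] at h1
    calc (yon S).map snd' ≫ x ≫ j ≫ EffectiveEpi.desc p m hdesc
        = (fst' ≫ p) ≫ EffectiveEpi.desc p m hdesc := by
          rw [hP'.w, Category.assoc, Category.assoc]
      _ = fst' ≫ m := by rw [Category.assoc, EffectiveEpi.fac]
      _ = (yon S).map snd' ≫ x ≫ a := by rw [h1, Category.assoc]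
  · rw [← cancel_epi p, ← Category.assoc, EffectiveEpi.fac]
    exact hmL.bot

/-- uniqueness of lifts along first order thickenings of algebraic spaces, from chart data -/
theorem uniq_gen (hT' : IsAlgSpace T') (hu : LocUniq f j a b) (hj : IsFOThickMor j)
    (l l' : T' ⟶ X) (h1 : j ≫ l = a) (h2 : l ≫ f = b) (h3 : j ≫ l' = a) (h4 : l' ≫ f = b) :
    l = l' := by
  obtain ⟨U, p, hpe, hps⟩ := hT'.atlas
  haveI hpepi : Epi p := epi_of_atlas p hpe hps
  rw [← cancel_epi p]
  have key : ∀ l₀ : T' ⟶ X, j ≫ l₀ = a → l₀ ≫ f = b → IsLiftOn f j a b p (p ≫ l₀) := by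
    intro l₀ e1 e2
    refine ⟨by rw [Category.assoc, e2], fun Z g g' hg => ?_⟩
    rw [← Category.assoc, ← hg, Category.assoc, e1]
  exact isLiftOn_unique_gen hu hj hpe (key l h1 h2) (key l' h3 h4)

end Gen

end Groth.Agent.Lib.AlgSpFormal6_helper7
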