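import Mathlib

/-!
# Algebraic core of the "local lifts glue" theorem (helper7)

* `alg_core`: `A → C → A/I` with `I² = 0`, `ker(C → A/I)² = 0`, `C/IC` finitely presented over
  `A/I`, and `A`-retractions of `C` Zariski-locally on `A` (compatible with the augmentation):
  then a global `A`-retraction `C → A` compatible with the augmentation exists.
* `chart_fp`: the finiteness of a chart `A/I → B/(IB + 𝓙²)`.
-/

set_option autoImplicit false
universe u

namespace Groth.Agent.Lib.GLiftAlgH7

section helpers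

variable {A : Type u} [CommRing A]

/-- Clear denominators for a finite family in `I · A_g`. -/
theorem exists_common_pow {Ag : Type u} [CommRing Ag] [Algebra A Ag] (g : A)
    [IsLocalization.Away g Ag] (I : Ideal A) {n : ℕ} (y : Fin n → Ag)
    (hy : ∀ i, y i ∈ I.map (algebraMap A Ag)) :
    ∃ (N : ℕ) (x : Fin n → A), (∀ i, x i ∈ I) ∧
      ∀ i, y i * algebraMap A Ag (g ^ N) = algebraMap A Ag (x i) := by
  have h1 : ∀ i, ∃ (xi : A) (ni : ℕ), xi ∈ I ∧
      y i * algebraMap A Ag (g ^ ni) = algebraMap A Ag xi := by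
    intro i
    obtain ⟨⟨⟨xi, hxi⟩, ⟨m, ni, rfl⟩⟩, h⟩ :=
      (IsLocalization.mem_map_algebraMap_iff (Submonoid.powers g) Ag).1 (hy i)
    exact ⟨xi, ni, hxi, h⟩
  choose x0 n0 hx0 h0 using h1
  refine ⟨∑ i, n0 i, fun i => g ^ ((∑ k, n0 k) - n0 i) * x0 i,
    fun i => I.mul_mem_left _ (hx0 i), fun i => ?_⟩
  have hle : n0 i ≤ ∑ k, n0 k :=
    Finset.single_le_sum (fun _ _ => Nat.zero_le _) (Finset.mem_univ i)
  have : g ^ (∑ k, n0 k) = g ^ n0 i * g ^ ((∑ k, n0 k) - n0 i) := by
    rw [← pow_add, Nat.add_sub_cancel' hle]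
  rw [this, map_mul, ← mul_assoc, h0 i, map_mul, mul_comm]

theorem exists_common_pow_zero {Ag : Type u} [CommRing Ag] [Algebra A Ag] (g : A)
    [IsLocalization.Away g Ag] {m : ℕ} (z : Fin m → A)
    (hz : ∀ j, algebraMap A Ag (z j) = 0) : ∃ N : ℕ, ∀ j, g ^ N * z j = 0 := by
  have h1 : ∀ j, ∃ nj : ℕ, g ^ nj * z j = 0 := by
    intro j
    obtain ⟨⟨m', nj, rfl⟩, h⟩ :=
      (IsLocalization.map_eq_zero_iff (Submonoid.powers g) Ag (z j)).1 (hz j)
    exact ⟨nj, h⟩
  choose n0 h0 using h1
  refine ⟨∑ j, n0 j, fun j => ?_⟩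
  have hle : n0 j ≤ ∑ k, n0 k :=
    Finset.single_le_sum (fun _ _ => Nat.zero_le _) (Finset.mem_univ j)
  rw [← Nat.sub_add_cancel hle, pow_add, mul_assoc, h0 j, mul_zero]

end helpers

section core

variable {A C : Type u} [CommRing A] [CommRing C] [Algebra A C] (I : Ideal A)

/-- The extension of `I` to `C`. -/
abbrev ext (C : Type u) [CommRing C] [Algebra A C] : Ideal C := I.map (algebraMap A C)

theorem alg_core (hI : ∀ x ∈ I, ∀ y ∈ I, x * y = 0)
    (ε : C →ₐ[A] A ⧸ I) (hJ : ∀ x y : C, ε x = 0 → ε y = 0 → x * y = 0)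
    [Algebra.FinitePresentation (A ⧸ I) (C ⧸ I.map (algebraMap A C))]
    (G : Set A) (hG : Ideal.span G = ⊤)
    (hloc : ∀ g ∈ G, ∃ (Ag : Type u) (_ : CommRing Ag) (_ : Algebra A Ag),
      IsLocalization.Away g Ag ∧
        ∃ ρ : C →ₐ[A] Ag, ∀ c, ε c = 0 → ρ c ∈ I.map (algebraMap A Ag)) :
    ∃ ρ : C →ₐ[A] A, ∀ c, Ideal.Quotient.mk I (ρ c) = ε c := by
  classical
  have hεalg : ∀ a : A, ε (algebraMap A C a) = Ideal.Quotient.mk I a := fun a => ε.commutes a
  have hεI : ∀ x ∈ I, ε (algebraMap A C x) = 0 := fun x hx => by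
    rw [hεalg]; exact Ideal.Quotient.eq_zero_iff_mem.2 hx
  have key : ∀ c : C, ∃ a : A, ε (c - algebraMap A C a) = 0 := by
    intro c
    obtain ⟨a, ha⟩ := Ideal.Quotient.mk_surjective (ε c)
    exact ⟨a, by rw [map_sub, hεalg, ha, sub_self]⟩
  have hICmem : ∀ z ∈ ext I C, ∃ x ∈ I, z = algebraMap A C x := by
    intro z hz
    have hz' : z ∈ Ideal.span ((algebraMap A C) '' (I : Set A)) := hz
    refine Submodule.span_induction (p := fun z _ => ∃ x ∈ I, z = algebraMap A C x)
      ?_ ?_ ?_ ?_ hz'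
    · rintro _ ⟨x, hx, rfl⟩; exact ⟨x, hx, rfl⟩
    · exact ⟨0, I.zero_mem, (map_zero _).symm⟩
    · rintro _ _ _ _ ⟨x, hx, rfl⟩ ⟨y, hy, rfl⟩
      exact ⟨x + y, I.add_mem hx hy, (map_add _ _ _).symm⟩
    · rintro c _ _ ⟨x, hx, rfl⟩
      obtain ⟨a, ha⟩ := key c
      refine ⟨a * x, I.mul_mem_left _ hx, ?_⟩
      have h0 : (c - algebraMap A C a) * algebraMap A C x = 0 := hJ _ _ ha (hεI x hx)
      rw [smul_eq_mul, map_mul]
      linear_combination h0
  have hεIC : ∀ z ∈ ext I C, ε.toRingHom z = 0 := by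
    intro z hz; obtain ⟨x, hx, rfl⟩ := hICmem z hz; exact hεI x hx
  -- the augmentation of `C / IC`
  let εbar : (C ⧸ ext I C) →ₐ[A ⧸ I] (A ⧸ I) :=
    { Ideal.Quotient.lift (ext I C) ε.toRingHom hεIC with
      commutes' := by
        intro r
        obtain ⟨a, rfl⟩ := Ideal.Quotient.mk_surjective r
        exact hεalg a }
  have hεbar_mk : ∀ c : C, εbar (Ideal.Quotient.mk (ext I C) c) = ε c := fun c => rfl
  have hεbar_surj : Function.Surjective εbar := fun r => ⟨algebraMap _ _ r, εbar.commutes r⟩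
  have hkerfg : (RingHom.ker εbar.toRingHom).FG :=
    Algebra.FinitePresentation.ker_fG_of_surjective εbar hεbar_surj
  obtain ⟨n, sbar, hsbar⟩ := Submodule.fg_iff_exists_fin_generating_family.1 hkerfg
  choose s hs using fun i => Ideal.Quotient.mk_surjective (sbar i)
  have hεs : ∀ i, ε (s i) = 0 := by
    intro i
    have h1 : sbar i ∈ RingHom.ker εbar.toRingHom := by
      rw [← hsbar]; exact Submodule.subset_span ⟨i, rfl⟩
    rw [RingHom.mem_ker, ← hs i] at h1
    exact h1
  -- every element is `a + Σ vᵢ sᵢ`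
  have hrep : ∀ c : C, ∃ (a : A) (v : Fin n → A), c = algebraMap A C a + ∑ i, v i • s i := by
    intro c
    obtain ⟨a₀, ha₀⟩ := key c
    have hjker : Ideal.Quotient.mk (ext I C) (c - algebraMap A C a₀) ∈
        Ideal.span (Set.range sbar) := by
      have : Ideal.Quotient.mk (ext I C) (c - algebraMap A C a₀) ∈
          RingHom.ker εbar.toRingHom := by
        rw [RingHom.mem_ker]; exact ha₀
      rw [← hsbar] at this; exact this
    obtain ⟨cbar, hcbar⟩ := Ideal.mem_span_range_iff_exists_fun.1 hjker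
    choose cc hcc using fun i => Ideal.Quotient.mk_surjective (cbar i)
    have hmem : (c - algebraMap A C a₀) - ∑ i, cc i * s i ∈ ext I C := by
      rw [← Ideal.Quotient.eq_zero_iff_mem, map_sub (Ideal.Quotient.mk (ext I C)), map_sum]
      simp only [map_mul, hcc, hs]
      rw [hcbar, sub_self]
    obtain ⟨x, hx, hxeq⟩ := hICmem _ hmem
    choose aa haa using fun i => key (cc i)
    have hprod : ∀ i, cc i * s i = aa i • s i := by
      intro i
      have h0 : (cc i - algebraMap A C (aa i)) * s i = 0 := hJ _ _ (haa i) (hεs i)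
      rw [Algebra.smul_def]; linear_combination h0
    refine ⟨a₀ + x, aa, ?_⟩
    have h1 : ∑ i, cc i * s i = ∑ i, aa i • s i := Finset.sum_congr rfl fun i _ => hprod i
    rw [map_add, ← h1, ← hxeq]; ring
  -- the presentation of `C / IC` as a module
  let Lbar : ((A ⧸ I) × (Fin n → A ⧸ I)) →ₗ[A ⧸ I] (C ⧸ ext I C) :=
    LinearMap.coprod (LinearMap.toSpanSingleton (A ⧸ I) (C ⧸ ext I C) 1)
      (Fintype.linearCombination (A ⧸ I) sbar)
  have hLbar_apply : ∀ (a : A ⧸ I) (v : Fin n → A ⧸ I),
      Lbar (a, v) = a • (1 : C ⧸ ext I C) + ∑ i, v i • sbar i := by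
    intro a v
    simp [Lbar, Fintype.linearCombination_apply]
  have hmk_smul : ∀ (a : A) (c : C), Ideal.Quotient.mk (ext I C) (a • c) =
      Ideal.Quotient.mk I a • Ideal.Quotient.mk (ext I C) c := by
    intro a c
    rw [Ideal.Quotient.mk_smul_mk_quotient_map_quotient, Algebra.smul_def]
  have hmk_L : ∀ (a : A) (v : Fin n → A),
      Ideal.Quotient.mk (ext I C) (algebraMap A C a + ∑ i, v i • s i) =
        Lbar (Ideal.Quotient.mk I a, fun i => Ideal.Quotient.mk I (v i)) := by
    intro a v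
    rw [hLbar_apply, map_add, map_sum]
    congr 1
    · have : algebraMap A C a = a • (1 : C) := by rw [Algebra.smul_def, mul_one]
      rw [this, hmk_smul, map_one]
    · refine Finset.sum_congr rfl fun i _ => ?_
      rw [hmk_smul, hs]
  have hLbar_surj : Function.Surjective Lbar := by
    intro z
    obtain ⟨c, rfl⟩ := Ideal.Quotient.mk_surjective z
    obtain ⟨a, v, rfl⟩ := hrep c
    exact ⟨_, (hmk_L a v).symm⟩
  have : Module.Finite (A ⧸ I) (C ⧸ ext I C) := Module.Finite.of_surjective Lbar hLbar_surj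
  have : Module.FinitePresentation (A ⧸ I) (C ⧸ ext I C) :=
    Module.FinitePresentation.of_finite_of_finitePresentation _ _
  have hkerL : (LinearMap.ker Lbar).FG := Module.FinitePresentation.fg_ker Lbar hLbar_surj
  obtain ⟨m, wbar, hwbar⟩ := Submodule.fg_iff_exists_fin_generating_family.1 hkerL
  choose a0 ha0 using fun j => Ideal.Quotient.mk_surjective (wbar j).1
  choose V hV using fun j i => Ideal.Quotient.mk_surjective ((wbar j).2 i)
  have hrelIC : ∀ j, algebraMap A C (a0 j) + ∑ i, V j i • s i ∈ ext I C := by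
    intro j
    rw [← Ideal.Quotient.eq_zero_iff_mem, hmk_L]
    have h1 : wbar j ∈ LinearMap.ker Lbar := by
      rw [← hwbar]; exact Submodule.subset_span ⟨j, rfl⟩
    rw [LinearMap.mem_ker] at h1
    have e : (Ideal.Quotient.mk I (a0 j), fun i => Ideal.Quotient.mk I (V j i)) = wbar j :=
      Prod.ext (ha0 j) (funext fun i => hV j i)
    rw [e]; exact h1
  choose x0 hx0 hx0eq using fun j => hICmem _ (hrelIC j)
  have hrel : ∀ j, algebraMap A C (a0 j - x0 j) + ∑ i, V j i • s i = 0 := by
    intro j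
    rw [map_sub, ← hx0eq j]; ring
  -- injectivity of `A → C`
  have hinj : ∀ x : A, algebraMap A C x = 0 → x = 0 := by
    intro x hx
    have : x ∈ (⊥ : Submodule A A) := by
      refine Submodule.mem_of_span_eq_top_of_smul_pow_mem _ G hG x ?_
      rintro ⟨g, hg⟩
      obtain ⟨Ag, _, _, hloc', ρ, -⟩ := hloc g hg
      have := hloc'
      have h0 : algebraMap A Ag x = 0 := by rw [← ρ.commutes, hx, map_zero]
      obtain ⟨⟨_, N, rfl⟩, hN⟩ :=
        (IsLocalization.map_eq_zero_iff (Submonoid.powers g) Ag x).1 h0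
      exact ⟨N, by simpa using hN⟩
    simpa using this
  -- relations
  have hK : ∀ (a : A) (v : Fin n → A), algebraMap A C a + ∑ i, v i • s i = 0 →
      ∃ l : Fin m → A, a = ∑ j, l j * (a0 j - x0 j) ∧ ∀ i, v i - ∑ j, l j * V j i ∈ I := by
    intro a v h
    have hmem : (Ideal.Quotient.mk I a, fun i => Ideal.Quotient.mk I (v i)) ∈
        LinearMap.ker Lbar := by
      rw [LinearMap.mem_ker, ← hmk_L, h, map_zero]
    rw [← hwbar] at hmem
    obtain ⟨lbar, hlbar⟩ := (Submodule.mem_span_range_iff_exists_fun _).1 hmem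
    choose l hl using fun j => Ideal.Quotient.mk_surjective (lbar j)
    have hv : ∀ i, v i - ∑ j, l j * V j i ∈ I := by
      intro i
      rw [← Ideal.Quotient.eq_zero_iff_mem, map_sub, map_sum, sub_eq_zero]
      have h1 := congrArg (fun p => p.2 i) hlbar
      simp only [Prod.snd_sum, Prod.smul_snd, Finset.sum_apply, Pi.smul_apply, smul_eq_mul] at h1
      rw [← h1]
      refine Finset.sum_congr rfl fun j _ => ?_
      rw [map_mul, hl, hV]
    refine ⟨l, ?_, hv⟩
    have h2 : algebraMap A C (a - ∑ j, l j * (a0 j - x0 j)) = 0 := by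
      have h3 : ∑ j, l j • (algebraMap A C (a0 j - x0 j) + ∑ i, V j i • s i) = 0 :=
        Finset.sum_eq_zero fun j _ => by rw [hrel j, smul_zero]
      have h4 : ∀ i, (v i - ∑ j, l j * V j i) • s i = 0 := by
        intro i
        rw [Algebra.smul_def]
        exact hJ _ _ (hεI _ (hv i)) (hεs i)
      have hsum : ∑ j, l j • (algebraMap A C (a0 j - x0 j) + ∑ i, V j i • s i) =
          algebraMap A C (∑ j, l j * (a0 j - x0 j)) + ∑ i, (∑ j, l j * V j i) • s i := by
        rw [Finset.sum_congr rfl (fun j _ => smul_add (l j) _ _), Finset.sum_add_distrib]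
        congr 1
        · rw [map_sum]
          exact Finset.sum_congr rfl fun j _ => by rw [Algebra.smul_def, map_mul]
        · simp only [Finset.smul_sum, smul_smul, Finset.sum_smul]
          exact Finset.sum_comm
      have h6 : algebraMap A C (a - ∑ j, l j * (a0 j - x0 j)) +
          ∑ i, (v i - ∑ j, l j * V j i) • s i = 0 := by
        have h7 : ∑ i, (v i - ∑ j, l j * V j i) • s i =
            ∑ i, v i • s i - ∑ i, (∑ j, l j * V j i) • s i := by
          rw [← Finset.sum_sub_distrib]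
          exact Finset.sum_congr rfl fun i _ => sub_smul _ _ _
        rw [h7, map_sub]
        rw [hsum] at h3
        linear_combination h - h3
      rw [Finset.sum_eq_zero (fun i _ => h4 i), add_zero] at h6
      exact h6
    exact sub_eq_zero.1 (hinj _ h2)
  -- the linear system
  have hsys : ∃ d : Fin n → A, (∀ i, d i ∈ I) ∧
      ∀ j, (a0 j - x0 j) + ∑ i, V j i * d i = 0 := by
    let Λ : (Fin n → I) →ₗ[A] (Fin m → A) :=
      { toFun := fun d j => ∑ i, V j i * (d i : A)
        map_add' := by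
          intro d d'; funext j
          simp [mul_add, Finset.sum_add_distrib]
        map_smul' := by
          intro r d; funext j
          simp [Finset.mul_sum, mul_left_comm] }
    have hΛ : ∀ d j, Λ d j = ∑ i, V j i * (d i : A) := fun _ _ => rfl
    have hmem : (fun j => - (a0 j - x0 j)) ∈ LinearMap.range Λ := by
      refine Submodule.mem_of_span_eq_top_of_smul_pow_mem _ G hG _ ?_
      rintro ⟨g, hg⟩
      obtain ⟨Ag, _, _, hloc', ρ, hρ⟩ := hloc g hg
      have := hloc'
      obtain ⟨N₁, x, hxI, hx⟩ :=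
        exists_common_pow g I (fun i => ρ (s i)) (fun i => hρ _ (hεs i))
      have hz : ∀ j, algebraMap A Ag (g ^ N₁ * (a0 j - x0 j) + ∑ i, V j i * x i) = 0 := by
        intro j
        have h1 := congrArg ρ (hrel j)
        rw [map_add, map_sum, map_zero, ρ.commutes] at h1
        simp only [map_smul] at h1
        have h2 : algebraMap A Ag (g ^ N₁ * (a0 j - x0 j) + ∑ i, V j i * x i) =
            algebraMap A Ag (g ^ N₁) *
              (algebraMap A Ag (a0 j - x0 j) + ∑ i, V j i • ρ (s i)) := by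
          rw [map_add, map_mul, map_sum, mul_add, Finset.mul_sum]
          congr 1
          refine Finset.sum_congr rfl fun i _ => ?_
          rw [map_mul, ← hx i, Algebra.smul_def]; ring
        rw [h2, h1, mul_zero]
      obtain ⟨N₂, hN₂⟩ := exists_common_pow_zero g _ hz
      refine ⟨N₁ + N₂, LinearMap.mem_range.2
        ⟨fun i => ⟨g ^ N₂ * x i, I.mul_mem_left _ (hxI i)⟩, ?_⟩⟩
      funext j
      have h3 := hN₂ j
      rw [hΛ]
      simp only [Pi.smul_apply, smul_eq_mul]
      have e : ∑ i, V j i * (g ^ N₂ * x i) = g ^ N₂ * ∑ i, V j i * x i := by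
        rw [Finset.mul_sum]; exact Finset.sum_congr rfl fun i _ => by ring
      rw [e, pow_add]; linear_combination h3
    obtain ⟨d, hd⟩ := LinearMap.mem_range.1 hmem
    refine ⟨fun i => (d i : A), fun i => (d i).2, fun j => ?_⟩
    have h1 := congrFun hd j
    rw [hΛ] at h1
    rw [h1]; ring
  obtain ⟨d, hdI, hd⟩ := hsys
  -- the retraction
  let L : (A × (Fin n → A)) →ₗ[A] C :=
    LinearMap.coprod (Algebra.linearMap A C) (Fintype.linearCombination A s)
  have hL : ∀ a v, L (a, v) = algebraMap A C a + ∑ i, v i • s i := by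
    intro a v
    simp [L, Fintype.linearCombination_apply]
  have hLsurj : Function.Surjective L := by
    intro c; obtain ⟨a, v, rfl⟩ := hrep c; exact ⟨(a, v), hL a v⟩
  let r' : (A × (Fin n → A)) →ₗ[A] A :=
    LinearMap.coprod LinearMap.id (Fintype.linearCombination A d)
  have hr' : ∀ a v, r' (a, v) = a + ∑ i, v i * d i := by
    intro a v
    simp [r', Fintype.linearCombination_apply]
  have hker : LinearMap.ker L ≤ LinearMap.ker r' := by
    rintro ⟨a, v⟩ h
    rw [LinearMap.mem_ker, hL] at h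
    rw [LinearMap.mem_ker, hr']
    obtain ⟨l, hl, hv⟩ := hK a v h
    have h1 : ∀ i, (v i - ∑ j, l j * V j i) * d i = 0 := fun i => hI _ (hv i) _ (hdI i)
    have h2 : ∑ i, v i * d i = ∑ j, l j * ∑ i, V j i * d i := by
      have h3 : ∀ i, v i * d i = (∑ j, l j * V j i) * d i := fun i => by
        linear_combination h1 i
      rw [Finset.sum_congr rfl fun i _ => h3 i]
      simp only [Finset.sum_mul, Finset.mul_sum]
      rw [Finset.sum_comm]
      exact Finset.sum_congr rfl fun j _ => Finset.sum_congr rfl fun i _ => by ring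
    rw [hl, h2, ← Finset.sum_add_distrib]
    exact Finset.sum_eq_zero fun j _ => by rw [← mul_add, hd j, mul_zero]
  let ρl : C →ₗ[A] A := ((LinearMap.ker L).liftQ r' hker).comp
    (L.quotKerEquivOfSurjective hLsurj).symm.toLinearMap
  have hρL : ∀ p, ρl (L p) = r' p := by
    intro p
    have h1 : (L.quotKerEquivOfSurjective hLsurj).symm (L p) = Submodule.Quotient.mk p := by
      rw [LinearEquiv.symm_apply_eq, LinearMap.quotKerEquivOfSurjective_apply_mk]
    simp only [ρl, LinearMap.comp_apply, LinearEquiv.coe_coe]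
    rw [h1, Submodule.liftQ_apply]
  have hρ1 : ρl 1 = 1 := by
    have h1 : L (1, 0) = 1 := by rw [hL]; simp
    rw [← h1, hρL, hr']; simp
  have hεsum : ∀ v : Fin n → A, ε (∑ i, v i • s i) = 0 := by
    intro v; rw [map_sum]
    exact Finset.sum_eq_zero fun i _ => by rw [map_smul, hεs, smul_zero]
  have hρmul : ∀ x y, ρl (x * y) = ρl x * ρl y := by
    intro x y
    obtain ⟨⟨a, v⟩, rfl⟩ := hLsurj x
    obtain ⟨⟨a', v'⟩, rfl⟩ := hLsurj y
    have hprod : L (a, v) * L (a', v') = L (a * a', fun i => a * v' i + a' * v i) := by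
      rw [hL, hL, hL]
      have h0 : (∑ i, v i • s i) * (∑ i, v' i • s i) = 0 := hJ _ _ (hεsum v) (hεsum v')
      have e1 : ∑ i, (a * v' i + a' * v i) • s i =
          algebraMap A C a * ∑ i, v' i • s i + algebraMap A C a' * ∑ i, v i • s i := by
        rw [Finset.mul_sum, Finset.mul_sum, ← Finset.sum_add_distrib]
        refine Finset.sum_congr rfl fun i _ => ?_
        rw [add_smul, mul_smul, mul_smul, Algebra.smul_def a, Algebra.smul_def a']
      rw [e1, map_mul]
      linear_combination h0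
    rw [hprod, hρL, hρL, hρL, hr', hr', hr']
    have h0 : (∑ i, v i * d i) * (∑ i, v' i * d i) = 0 :=
      hI _ (I.sum_mem fun i _ => I.mul_mem_left _ (hdI i)) _
        (I.sum_mem fun i _ => I.mul_mem_left _ (hdI i))
    have e2 : ∑ i, (a * v' i + a' * v i) * d i =
        a * ∑ i, v' i * d i + a' * ∑ i, v i * d i := by
      rw [Finset.mul_sum, Finset.mul_sum, ← Finset.sum_add_distrib]
      exact Finset.sum_congr rfl fun i _ => by ring
    rw [e2]; linear_combination (-1 : A) * h0
  refine ⟨AlgHom.ofLinearMap ρl hρ1 hρmul, fun c => ?_⟩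
  obtain ⟨⟨a, v⟩, rfl⟩ := hLsurj c
  change Ideal.Quotient.mk I (ρl (L (a, v))) = _
  rw [hρL, hr', hL, map_add, map_add, hεalg, hεsum, add_zero, map_sum,
    Finset.sum_eq_zero, add_zero]
  intro i _
  rw [map_mul, Ideal.Quotient.eq_zero_iff_mem.2 (hdI i), mul_zero]

end core

section chart

theorem chart_fp {A B T A₀g : Type u} [CommRing A] [CommRing B] [CommRing T] [CommRing A₀g]
    (I : Ideal A) (α : A →+* B) (hα : α.FinitePresentation)
    (θ : B →+* T) (hθ : Function.Surjective θ)
    (ζ : B →+* A₀g) (hζ : Function.Surjective ζ)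
    (ψ : A ⧸ I →+* T) (hψ : ψ.comp (Ideal.Quotient.mk I) = θ.comp α)
    (ν : A ⧸ I →+* A₀g) (hν : ν.FinitePresentation)
    (hνc : ν.comp (Ideal.Quotient.mk I) = ζ.comp α)
    (hker : RingHom.ker θ = I.map α ⊔ (RingHom.ker ζ) ^ 2) : ψ.FinitePresentation := by
  algebraize [α]
  obtain ⟨n, φ, hφ, hKfg⟩ := Algebra.FinitePresentation.out (R := A) (A := B)
  have hφC : ∀ a : A, φ.toRingHom (MvPolynomial.C a) = α a := fun a => φ.commutes a
  let μ : MvPolynomial (Fin n) A →+* MvPolynomial (Fin n) (A ⧸ I) :=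
    MvPolynomial.map (Ideal.Quotient.mk I)
  have hμ : Function.Surjective μ := MvPolynomial.map_surjective _ Ideal.Quotient.mk_surjective
  let Θ : MvPolynomial (Fin n) (A ⧸ I) →+* T :=
    MvPolynomial.eval₂Hom ψ (fun i => θ (φ (MvPolynomial.X i)))
  let Z : MvPolynomial (Fin n) (A ⧸ I) →+* A₀g :=
    MvPolynomial.eval₂Hom ν (fun i => ζ (φ (MvPolynomial.X i)))
  have hΘμ : Θ.comp μ = θ.comp φ.toRingHom := by
    apply MvPolynomial.ringHom_ext
    · intro a
      have h1 := congrArg (fun f => f a) hψ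
      simp only [RingHom.comp_apply] at h1
      simp only [RingHom.comp_apply, μ, Θ, MvPolynomial.map_C, MvPolynomial.coe_eval₂Hom,
        MvPolynomial.eval₂_C]
      rw [h1, hφC]
    · intro i
      simp [μ, Θ]
  have hZμ : Z.comp μ = ζ.comp φ.toRingHom := by
    apply MvPolynomial.ringHom_ext
    · intro a
      have h1 := congrArg (fun f => f a) hνc
      simp only [RingHom.comp_apply] at h1
      simp only [RingHom.comp_apply, μ, Z, MvPolynomial.map_C, MvPolynomial.coe_eval₂Hom,
        MvPolynomial.eval₂_C]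
      rw [h1, hφC]
    · intro i
      simp [μ, Z]
  have hφ' : Function.Surjective φ.toRingHom := hφ
  have hΘsurj : Function.Surjective Θ := by
    have h1 : Function.Surjective (Θ.comp μ) := by rw [hΘμ]; exact hθ.comp hφ'
    rw [RingHom.coe_comp] at h1
    exact Function.Surjective.of_comp h1
  have hZsurj : Function.Surjective Z := by
    have h1 : Function.Surjective (Z.comp μ) := by rw [hZμ]; exact hζ.comp hφ'
    rw [RingHom.coe_comp] at h1
    exact Function.Surjective.of_comp h1
  have hZfg : (RingHom.ker Z).FG := by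
    letI := ν.toAlgebra
    have : Algebra.FinitePresentation (A ⧸ I) A₀g := hν
    let Zalg : MvPolynomial (Fin n) (A ⧸ I) →ₐ[A ⧸ I] A₀g :=
      MvPolynomial.aeval (fun i => ζ (φ (MvPolynomial.X i)))
    have hZalg : Zalg.toRingHom = Z := by
      apply MvPolynomial.ringHom_ext
      · intro a
        simp only [Zalg, Z, MvPolynomial.coe_eval₂Hom, MvPolynomial.eval₂_C]
        exact MvPolynomial.aeval_C _ a
      · intro i
        simp [Zalg, Z]
    have h1 := Algebra.FinitePresentation.ker_fG_of_surjective Zalg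
      (by intro z; obtain ⟨p, hp⟩ := hZsurj z; exact ⟨p, by rw [← hp, ← hZalg]; rfl⟩)
    rwa [hZalg] at h1
  have hkerΘ : RingHom.ker Θ = ((RingHom.ker φ.toRingHom).map μ) ⊔ (RingHom.ker Z) ^ 2 := by
    have h1 : RingHom.ker Θ = (RingHom.ker (Θ.comp μ)).map μ := by
      rw [← RingHom.comap_ker, Ideal.map_comap_of_surjective μ hμ]
    have hN₀ : (RingHom.ker (ζ.comp φ.toRingHom)).map μ = RingHom.ker Z := by
      rw [← hZμ, ← RingHom.comap_ker, Ideal.map_comap_of_surjective μ hμ]
    have h2 : RingHom.ker (θ.comp φ.toRingHom) =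
        I.map (MvPolynomial.C : A →+* MvPolynomial (Fin n) A) ⊔
          (RingHom.ker (ζ.comp φ.toRingHom)) ^ 2 ⊔ RingHom.ker φ.toRingHom := by
      rw [← RingHom.comap_ker θ φ.toRingHom, hker]
      have e1 : I.map α =
          (I.map (MvPolynomial.C : A →+* MvPolynomial (Fin n) A)).map φ.toRingHom := by
        rw [Ideal.map_map]; congr 1
        ext a; exact (hφC a).symm
      have e2 : RingHom.ker ζ = (RingHom.ker (ζ.comp φ.toRingHom)).map φ.toRingHom := by
        rw [← RingHom.comap_ker, Ideal.map_comap_of_surjective _ hφ']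
      rw [e1, e2, ← Ideal.map_pow, ← Ideal.map_sup, Ideal.comap_map_of_surjective _ hφ',
        ← RingHom.ker_eq_comap_bot]
    rw [h1, hΘμ, h2, Ideal.map_sup, Ideal.map_sup, Ideal.map_pow, hN₀]
    have e3 : (I.map (MvPolynomial.C : A →+* MvPolynomial (Fin n) A)).map μ = ⊥ := by
      rw [Ideal.map_map]
      have h3 : μ.comp MvPolynomial.C =
          (MvPolynomial.C : A ⧸ I →+* MvPolynomial (Fin n) (A ⧸ I)).comp
            (Ideal.Quotient.mk I) := by
        ext a; simp [μ]
      rw [h3, ← Ideal.map_map, Ideal.map_quotient_self, Ideal.map_bot]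
    rw [e3, bot_sup_eq, sup_comm]
  have hΘfp : Θ.FinitePresentation :=
    RingHom.FinitePresentation.of_surjective Θ hΘsurj
      (by rw [hkerΘ]; exact Submodule.FG.sup (hKfg.map μ) hZfg.pow)
  have hC : (MvPolynomial.C : A ⧸ I →+* MvPolynomial (Fin n) (A ⧸ I)).FinitePresentation := by
    rw [← MvPolynomial.algebraMap_eq]
    exact RingHom.finitePresentation_algebraMap.2 inferInstance
  have h4 : ψ = Θ.comp MvPolynomial.C := by
    ext a; simp [Θ]
  rw [h4]; exact hΘfp.comp hC

end chart

end Groth.Agent.Lib.GLiftAlgH7
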