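import Mathlib
import Groth.Prelude.Def_MoreMor
import Groth.Agent.Lib.FormalEtale_helper7

/-!
# First order thickenings of schemes: permanence — helper7
-/

set_option autoImplicit false
universe u
open CategoryTheory CategoryTheory.Limits AlgebraicGeometry

namespace Groth.Agent.Lib.Thickening_helper7

open Groth.Agent.Lib.FormalEtale_helper7

section Thk
variable {A : Type u} [CommRing A] (I : Ideal A)

lemma ker_thk_pow {n : ℕ} (hI : I ^ n = ⊥) : (thk I).ker ^ n = ⊥ := by
  refine Scheme.IdealSheafData.ext_of_isAffine ?_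
  rw [Scheme.IdealSheafData.ideal_pow, Pi.pow_apply, ker_thk_ideal_top]
  change _ = (⊥ : Ideal _)
  rw [eq_bot_iff]
  refine (Ideal.le_comap_pow _ n).trans ?_
  rw [hI]
  intro x hx
  have hinj : Function.Injective (Scheme.ΓSpecIso (CommRingCat.of A)).hom.hom :=
    (ConcreteCategory.bijective_of_isIso (Scheme.ΓSpecIso (CommRingCat.of A)).hom).1
  have : (Scheme.ΓSpecIso (CommRingCat.of A)).hom.hom x = 0 := hx
  exact hinj (this.trans (map_zero _).symm)

lemma fot_thk (hI : I ^ 2 = ⊥) : MoreMor.IsFirstOrderThickening (thk I) := by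
  refine ⟨⟨inferInstance, ⟨thk_surjective I hI⟩⟩, ?_⟩
  rw [← pow_two]
  exact ker_thk_pow I hI

end Thk

variable {Z P Z' : Scheme.{u}}

/-- If `l ≫ p` is a first order thickening and `p` is a closed immersion, `l` is a first order
thickening. -/
lemma fot_of_comp (l : Z ⟶ P) (p : P ⟶ Z') [IsClosedImmersion p]
    (h : MoreMor.IsFirstOrderThickening (l ≫ p)) : MoreMor.IsFirstOrderThickening l := by
  obtain ⟨⟨hci, hsurj⟩, hsq⟩ := h
  haveI : IsClosedImmersion (l ≫ p) := hci
  haveI : IsClosedImmersion l := IsClosedImmersion.of_comp_isClosedImmersion l p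
  refine ⟨⟨inferInstance, ⟨?_⟩⟩, ?_⟩
  · intro x
    obtain ⟨z, hz⟩ := hsurj.surj (p x)
    refine ⟨z, p.isClosedEmbedding.injective ?_⟩
    simpa using hz
  · rw [eq_bot_iff]
    refine Scheme.IdealSheafData.le_of_iSup_eq_top
      (fun U' : Z'.affineOpens => (⟨p ⁻¹ᵁ U'.1, U'.2.preimage p⟩ : P.affineOpens)) ?_ ?_
    · rw [eq_top_iff]
      intro x _
      obtain ⟨_, ⟨U, hU, rfl⟩, hxU, -⟩ :=
        Z'.isBasis_affineOpens.exists_subset_of_mem_open (Set.mem_univ (p x)) isOpen_univ
      exact TopologicalSpace.Opens.mem_iSup.2 ⟨⟨U, hU⟩, hxU⟩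
    · intro U'
      rw [Scheme.IdealSheafData.ideal_mul, Pi.mul_apply, Scheme.Hom.ker_apply]
      change _ ≤ (⊥ : Ideal _)
      rw [Ideal.mul_le]
      intro r hr s hs
      obtain ⟨r', rfl⟩ := p.app_surjective U'.1 U'.2 r
      obtain ⟨s', rfl⟩ := p.app_surjective U'.1 U'.2 s
      have hr' : r' ∈ (l ≫ p).ker.ideal U' := by
        rw [Scheme.Hom.ker_apply, RingHom.mem_ker, Scheme.Hom.comp_app]
        exact hr
      have hs' : s' ∈ (l ≫ p).ker.ideal U' := by
        rw [Scheme.Hom.ker_apply, RingHom.mem_ker, Scheme.Hom.comp_app]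
        exact hs
      have hmul : r' * s' ∈ ((l ≫ p).ker * (l ≫ p).ker).ideal U' := by
        rw [Scheme.IdealSheafData.ideal_mul, Pi.mul_apply]
        exact Ideal.mul_mem_mul hr' hs'
      rw [hsq] at hmul
      have h0 : r' * s' = 0 := hmul
      rw [Ideal.mem_bot, ← map_mul, h0, map_zero]

/-- Restriction of a first order thickening to an open of the target. -/
lemma fot_morphismRestrict (i : Z ⟶ Z') (h : MoreMor.IsFirstOrderThickening i) (V' : Z'.Opens) :
    MoreMor.IsFirstOrderThickening (i ∣_ V') := by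
  obtain ⟨⟨hci, hsurj⟩, hsq⟩ := h
  haveI := hci
  haveI := hsurj
  refine ⟨⟨inferInstance, IsZariskiLocalAtTarget.restrict hsurj V'⟩, ?_⟩
  rw [← pow_two]
  exact ker_pow_eq_bot_of_isPullback_of_isOpenImmersion i V'.ι (i ∣_ V') (i ⁻¹ᵁ V').ι
    (isPullback_morphismRestrict i V') (by rw [pow_two]; exact hsq)

end Groth.Agent.Lib.Thickening_helper7
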