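import Mathlib
import Groth.Prelude.Def_MoreMor
import Groth.Agent.Lib.Thickening_helper7

/-!
# Infinitesimal neighbourhoods of closed subschemes — helper7
-/

set_option autoImplicit false
universe u
open CategoryTheory CategoryTheory.Limits AlgebraicGeometry

namespace Groth.Agent.Lib.Thickening4_helper7

open Groth.Agent.Lib.FormalEtale_helper7 Groth.Agent.Lib.Thickening_helper7

variable {T T' X : Scheme.{u}}

/-- If the kernel ideal sheaf of a quasi-compact `t` has vanishing `n`-th power, so has the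
sectionwise kernel over every open. -/
lemma ker_app_pow_eq_bot (t : T ⟶ T') [QuasiCompact t] {n : ℕ} (h : t.ker ^ n = ⊥)
    (W : T'.Opens) : RingHom.ker (t.app W).hom ^ n = ⊥ := by
  rw [eq_bot_iff]
  intro z hz
  rw [Ideal.mem_bot]
  apply T'.IsSheaf.section_ext fun x hx => ?_
  obtain ⟨_, ⟨O₁, hO₁, rfl⟩, hxO₁, hle : O₁ ≤ W⟩ :=
    T'.isBasis_affineOpens.exists_subset_of_mem_open hx W.isOpen
  refine ⟨O₁, hle, hxO₁, ?_⟩
  rw [map_zero]
  have hres : RingHom.ker (t.app W).hom ≤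
      (t.ker.ideal ⟨O₁, hO₁⟩).comap (T'.presheaf.map (homOfLE hle).op).hom := by
    intro s hs
    rw [Ideal.mem_comap, Scheme.Hom.ker_apply, RingHom.mem_ker]
    have hn := t.naturality (homOfLE hle).op
    have h5 := congrArg (fun φ => φ.hom s) hn
    have hs0 : (t.app W).hom s = 0 := hs
    have h6 : (t.app O₁).hom ((T'.presheaf.map (homOfLE hle).op).hom s) =
        (T.presheaf.map _).hom ((t.app W).hom s) := h5
    rw [h6, hs0, map_zero]
  have hz' := Ideal.le_comap_pow _ n (Ideal.pow_right_mono hres n hz)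
  have h0 := congrArg (fun J : T'.IdealSheafData => J.ideal ⟨O₁, hO₁⟩) h
  simp only [Scheme.IdealSheafData.ideal_pow, Pi.pow_apply, Scheme.IdealSheafData.ideal_bot,
    Pi.bot_apply] at h0
  rw [Ideal.mem_comap, h0, Ideal.mem_bot] at hz'
  exact hz'

/-- If `J` vanishes on `T` and `T ⊆ T'` has `ker ^ n = 0`, then `J ^ n` vanishes on `T'`. -/
lemma pow_le_ker_of_le_ker_comp (t : T ⟶ T') [QuasiCompact t] {n : ℕ} (h : t.ker ^ n = ⊥)
    (b : T' ⟶ X) (J : X.IdealSheafData) (hJ : J ≤ (t ≫ b).ker) : J ^ n ≤ b.ker := by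
  change J ^ n ≤ Scheme.IdealSheafData.ofIdeals _
  rw [Scheme.IdealSheafData.le_ofIdeals_iff]
  intro O
  rw [Scheme.IdealSheafData.ideal_pow, Pi.pow_apply]
  have h1 : J.ideal O ≤ (RingHom.ker (t.app (b ⁻¹ᵁ O.1)).hom).comap (b.app O.1).hom := by
    intro x hx
    have h2 := (Scheme.Hom.ideal_ker_le (t ≫ b) O) (hJ O hx)
    rw [Ideal.mem_comap, RingHom.mem_ker]
    exact h2
  calc J.ideal O ^ n ≤ ((RingHom.ker (t.app (b ⁻¹ᵁ O.1)).hom).comap (b.app O.1).hom) ^ n :=
        Ideal.pow_right_mono h1 n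
    _ ≤ ((RingHom.ker (t.app (b ⁻¹ᵁ O.1)).hom) ^ n).comap (b.app O.1).hom :=
        Ideal.le_comap_pow _ n
    _ = RingHom.ker (b.app O.1).hom := by
      rw [ker_app_pow_eq_bot t h, ← RingHom.ker_eq_comap_bot]

variable {Z P Z' : Scheme.{u}}

/-- If `l ≫ p` and `p` are closed immersions with `ker (l ≫ p) ^ 2 ≤ ker p`, then `ker l` has
square zero. -/
lemma ker_mul_ker_eq_bot_of_comp (l : Z ⟶ P) (p : P ⟶ Z') [IsClosedImmersion p]
    [IsClosedImmersion (l ≫ p)] (hsq : (l ≫ p).ker * (l ≫ p).ker ≤ p.ker) :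
    l.ker * l.ker = ⊥ := by
  haveI : IsClosedImmersion l := IsClosedImmersion.of_comp_isClosedImmersion l p
  rw [eq_bot_iff]
  refine Scheme.IdealSheafData.le_of_iSup_eq_top
    (fun U' : Z'.affineOpens => (⟨p ⁻¹ᵁ U'.1, U'.2.preimage p⟩ : P.affineOpens)) ?_ ?_
  · rw [eq_top_iff]
    intro x _
    obtain ⟨_, ⟨U, hU, rfl⟩, hxU, -⟩ :=
      Z'.isBasis_affineOpens.exists_subset_of_mem_open (Set.mem_univ (p x)) isOpen_univ
    exact TopologicalSpace.Opens.mem_iSup.2 ⟨⟨U, hU⟩, hxU⟩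
  · intro U'
    rw [Scheme.IdealSheafData.ideal_mul, Pi.mul_apply, Scheme.Hom.ker_apply]
    change _ ≤ (⊥ : Ideal _)
    rw [Ideal.mul_le]
    intro r hr s hs
    obtain ⟨r', rfl⟩ := p.app_surjective U'.1 U'.2 r
    obtain ⟨s', rfl⟩ := p.app_surjective U'.1 U'.2 s
    have hr' : r' ∈ (l ≫ p).ker.ideal U' := by
      rw [Scheme.Hom.ker_apply, RingHom.mem_ker, Scheme.Hom.comp_app]
      exact hr
    have hs' : s' ∈ (l ≫ p).ker.ideal U' := by
      rw [Scheme.Hom.ker_apply, RingHom.mem_ker, Scheme.Hom.comp_app]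
      exact hs
    have hmul : r' * s' ∈ ((l ≫ p).ker * (l ≫ p).ker).ideal U' := by
      rw [Scheme.IdealSheafData.ideal_mul, Pi.mul_apply]
      exact Ideal.mul_mem_mul hr' hs'
    have h0 := hsq U' hmul
    rw [Scheme.Hom.ker_apply, RingHom.mem_ker] at h0
    rw [Ideal.mem_bot, ← map_mul]
    exact h0

/-- `V(I) ⟶ V(I ^ 2)` is a first order thickening. -/
theorem fot_inclusion (I : X.IdealSheafData) (h : I ^ 2 ≤ I) :
    MoreMor.IsFirstOrderThickening (Scheme.IdealSheafData.inclusion h) := by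
  have hcomp : Scheme.IdealSheafData.inclusion h ≫ (I ^ 2).subschemeι = I.subschemeι :=
    Scheme.IdealSheafData.inclusion_subschemeι h
  haveI : IsClosedImmersion (Scheme.IdealSheafData.inclusion h ≫ (I ^ 2).subschemeι) := by
    rw [hcomp]; infer_instance
  haveI : IsClosedImmersion (Scheme.IdealSheafData.inclusion h) :=
    IsClosedImmersion.of_comp_isClosedImmersion _ (I ^ 2).subschemeι
  refine ⟨⟨inferInstance, ⟨?_⟩⟩, ?_⟩
  · intro z
    have hz : (I ^ 2).subschemeι z ∈ Set.range I.subschemeι := by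
      rw [Scheme.IdealSheafData.range_subschemeι, ← Scheme.IdealSheafData.support_pow I 2 (by norm_num),
        ← Scheme.IdealSheafData.range_subschemeι]
      exact ⟨z, rfl⟩
    obtain ⟨y, hy⟩ := hz
    refine ⟨y, (I ^ 2).subschemeι.isClosedEmbedding.injective ?_⟩
    rw [← hy]
    have h3 : (Scheme.IdealSheafData.inclusion h ≫ (I ^ 2).subschemeι) y = I.subschemeι y := by
      rw [hcomp]
    exact (Scheme.Hom.comp_apply _ _ _).symm.trans h3
  · apply ker_mul_ker_eq_bot_of_comp (Scheme.IdealSheafData.inclusion h) (I ^ 2).subschemeι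
    rw [hcomp, Scheme.IdealSheafData.ker_subschemeι, Scheme.IdealSheafData.ker_subschemeι, pow_two]

/-- Universal property of the first order infinitesimal neighbourhood (existence). -/
theorem exists_lift_infNbhd (I : X.IdealSheafData) (t : T ⟶ T')
    (ht : MoreMor.IsFirstOrderThickening t) (a : T ⟶ I.subscheme) (b : T' ⟶ X)
    (w : a ≫ I.subschemeι = t ≫ b) : ∃ a' : T' ⟶ (I ^ 2).subscheme, a' ≫ (I ^ 2).subschemeι = b := by
  haveI : IsClosedImmersion t := ht.1.1
  have hJ : I ≤ (t ≫ b).ker := by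
    rw [← w]
    conv_lhs => rw [← Scheme.IdealSheafData.ker_subschemeι I]
    exact Scheme.Hom.le_ker_comp _ _
  have h2 : I ^ 2 ≤ b.ker :=
    pow_le_ker_of_le_ker_comp t (by rw [pow_two]; exact ht.2) b I hJ
  refine ⟨IsClosedImmersion.lift (I ^ 2).subschemeι b ?_, IsClosedImmersion.lift_fac _ _ _⟩
  rw [Scheme.IdealSheafData.ker_subschemeι]
  exact h2

end Groth.Agent.Lib.Thickening4_helper7
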