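import Mathlib
import Groth.Prelude.Def_MoreMor
import Groth.Prelude.Def_Omega3
import Groth.Agent.Lib.FormalEtale_helper7
import Groth.Agent.Lib.Thickening_helper7

/-!
# Universal first order thickenings of schemes: formal properties — helper7

Permanence of `OmegaSh.IsUnivThickening` (open immersions on the base, isomorphisms on the source,
restriction to opens, uniqueness) and a local-to-global principle for the lifting property.
-/

set_option autoImplicit false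
universe u
open CategoryTheory CategoryTheory.Limits AlgebraicGeometry

namespace Groth.Agent.Lib.UnivThickSch1_helper7

open Groth.Agent.Lib.FormalEtale_helper7 Groth.Agent.Lib.Thickening_helper7

variable {X : Scheme.{u}}

/-- Precomposing a first order thickening with an isomorphism. -/
lemma fot_iso_comp {Z₁ Z Z' : Scheme.{u}} (e : Z₁ ⟶ Z) [IsIso e] (i : Z ⟶ Z')
    (hi : MoreMor.IsFirstOrderThickening i) : MoreMor.IsFirstOrderThickening (e ≫ i) := by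
  obtain ⟨⟨hci, hsurj⟩, hsq⟩ := hi
  haveI := hci
  haveI := hsurj
  refine ⟨⟨inferInstance, inferInstance⟩, ?_⟩
  rw [Scheme.Hom.ker_comp_of_isIso]
  exact hsq

/-- A thickening is a homeomorphism. -/
lemma isHomeomorph_of_fot {T T' : Scheme.{u}} (t : T ⟶ T')
    (ht : MoreMor.IsFirstOrderThickening t) : IsHomeomorph t := by
  haveI := ht.1.1
  haveI := ht.1.2
  exact isHomeomorph_iff_isEmbedding_surjective.2 ⟨t.isClosedEmbedding.isEmbedding, t.surjective⟩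

/-- A thickening induces a bijection on open subsets. -/
lemma exists_opens_preimage_eq {T T' : Scheme.{u}} (t : T ⟶ T')
    (ht : MoreMor.IsFirstOrderThickening t) (O : T.Opens) : ∃ V : T'.Opens, t ⁻¹ᵁ V = O := by
  have hh : IsHomeomorph t := isHomeomorph_of_fot t ht
  refine ⟨⟨t '' (O : Set T), hh.isOpenMap _ O.isOpen⟩, ?_⟩
  apply TopologicalSpace.Opens.ext
  exact Set.preimage_image_eq _ hh.injective

/-- Postcomposing the base with an open immersion. -/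
theorem isUnivThickening_comp_openImmersion {Z Z' Y : Scheme.{u}} {h : Z ⟶ Y} {i : Z ⟶ Z'}
    {h' : Z' ⟶ Y} (hu : OmegaSh.IsUnivThickening h i h') (j : Y ⟶ X) [IsOpenImmersion j] :
    OmegaSh.IsUnivThickening (h ≫ j) i (h' ≫ j) := by
  obtain ⟨hi, hic, hu3⟩ := hu
  refine ⟨hi, by rw [← Category.assoc, hic], ?_⟩
  intro T T' t b a ht hw
  have hsurj : Function.Surjective t := ht.1.2.surj
  have hrange : Set.range b ⊆ Set.range j := by
    rintro _ ⟨y, rfl⟩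
    obtain ⟨x, rfl⟩ := hsurj y
    have e1 : b (t x) = j (h (a x)) := by
      have := congrArg (fun k : T ⟶ X => k x) hw
      simpa using this
    rw [e1]
    exact ⟨_, rfl⟩
  have hb : IsOpenImmersion.lift j b hrange ≫ j = b := IsOpenImmersion.lift_fac _ _ _
  have hw' : t ≫ IsOpenImmersion.lift j b hrange = a ≫ h := by
    rw [← cancel_mono j, Category.assoc, hb, hw, Category.assoc]
  obtain ⟨a', ⟨h1, h2⟩, hau⟩ := hu3 T T' t _ a ht hw'
  refine ⟨a', ⟨h1, by rw [← Category.assoc, h2, hb]⟩, ?_⟩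
  rintro a'' ⟨h1', h2'⟩
  apply hau
  refine ⟨h1', ?_⟩
  rw [← cancel_mono j, Category.assoc, h2', hb]

/-- Precomposing the source with an isomorphism. -/
theorem isUnivThickening_iso_comp {Z₁ Z Z' : Scheme.{u}} {h : Z ⟶ X} {i : Z ⟶ Z'} {h' : Z' ⟶ X}
    (hu : OmegaSh.IsUnivThickening h i h') (e : Z₁ ⟶ Z) [IsIso e] :
    OmegaSh.IsUnivThickening (e ≫ h) (e ≫ i) h' := by
  obtain ⟨hi, hic, hu3⟩ := hu
  refine ⟨fot_iso_comp e i hi, by rw [Category.assoc, hic], ?_⟩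
  intro T T' t b a ht hw
  have hw' : t ≫ b = (a ≫ e) ≫ h := by rw [hw, Category.assoc]
  obtain ⟨a', ⟨h1, h2⟩, hau⟩ := hu3 T T' t b (a ≫ e) ht hw'
  refine ⟨a', ⟨by rw [h1, Category.assoc], h2⟩, ?_⟩
  rintro a'' ⟨h1', h2'⟩
  exact hau a'' ⟨by rw [h1', Category.assoc], h2'⟩

/-- Restriction of a universal first order thickening to an open of the thickening. -/
theorem isUnivThickening_restrict {Z Z' : Scheme.{u}} {h : Z ⟶ X} {i : Z ⟶ Z'} {h' : Z' ⟶ X}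
    (hu : OmegaSh.IsUnivThickening h i h') (V' : Z'.Opens) :
    OmegaSh.IsUnivThickening ((i ⁻¹ᵁ V').ι ≫ h) (i ∣_ V') (V'.ι ≫ h') := by
  obtain ⟨hi, hic, hu3⟩ := hu
  refine ⟨fot_morphismRestrict i hi V', ?_, ?_⟩
  · rw [← Category.assoc, morphismRestrict_ι, Category.assoc, hic]
  · intro T T' t β α ht hw
    have hw' : t ≫ β = (α ≫ (i ⁻¹ᵁ V').ι) ≫ h := by rw [hw, Category.assoc]
    obtain ⟨a', ⟨ha1, ha2⟩, hau⟩ := hu3 T T' t β (α ≫ (i ⁻¹ᵁ V').ι) ht hw'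
    have hsurj : Function.Surjective t := ht.1.2.surj
    have hrange : Set.range a' ⊆ Set.range V'.ι := by
      rintro _ ⟨y, rfl⟩
      obtain ⟨x, rfl⟩ := hsurj y
      have e1 : a' (t x) = i ((i ⁻¹ᵁ V').ι (α x)) := by
        have := congrArg (fun k : T ⟶ Z' => k x) ha1
        simpa using this
      rw [e1, Scheme.Opens.range_ι]
      exact (α x).2
    refine ⟨IsOpenImmersion.lift V'.ι a' hrange, ⟨?_, ?_⟩, ?_⟩
    · rw [← cancel_mono V'.ι, Category.assoc, IsOpenImmersion.lift_fac, ha1, Category.assoc,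
        Category.assoc, morphismRestrict_ι]
    · rw [IsOpenImmersion.lift_fac_assoc, ha2]
    · rintro a₂ ⟨h1, h2⟩
      rw [← cancel_mono V'.ι, IsOpenImmersion.lift_fac]
      apply hau
      refine ⟨?_, ?_⟩
      · rw [← Category.assoc, h1, Category.assoc, morphismRestrict_ι, Category.assoc]
      · rw [Category.assoc, h2]

/-- Universal first order thickenings are unique up to unique isomorphism. -/
theorem exists_iso_of_isUnivThickening {Z₁ Z₂ Z'₁ Z'₂ : Scheme.{u}} {h₁ : Z₁ ⟶ X} {h₂ : Z₂ ⟶ X}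
    {i₁ : Z₁ ⟶ Z'₁} {h'₁ : Z'₁ ⟶ X} {i₂ : Z₂ ⟶ Z'₂} {h'₂ : Z'₂ ⟶ X}
    (hu₁ : OmegaSh.IsUnivThickening h₁ i₁ h'₁) (hu₂ : OmegaSh.IsUnivThickening h₂ i₂ h'₂)
    (e : Z₁ ≅ Z₂) (he : e.hom ≫ h₂ = h₁) :
    ∃ e' : Z'₁ ≅ Z'₂, i₁ ≫ e'.hom = e.hom ≫ i₂ ∧ e'.hom ≫ h'₂ = h'₁ := by
  obtain ⟨hi₁, hic₁, hu3₁⟩ := hu₁
  obtain ⟨hi₂, hic₂, hu3₂⟩ := hu₂
  have he' : e.inv ≫ h₁ = h₂ := by rw [← he, Iso.inv_hom_id_assoc]
  obtain ⟨φ, ⟨hφ1, hφ2⟩, -⟩ := hu3₂ Z₁ Z'₁ i₁ h'₁ e.hom hi₁ (by rw [hic₁, he])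
  obtain ⟨ψ, ⟨hψ1, hψ2⟩, -⟩ := hu3₁ Z₂ Z'₂ i₂ h'₂ e.inv hi₂ (by rw [hic₂, he'])
  have h11 : φ ≫ ψ = 𝟙 _ :=
    (hu3₁ Z₁ Z'₁ i₁ h'₁ (𝟙 _) hi₁ (by rw [hic₁, Category.id_comp])).unique
      ⟨by rw [← Category.assoc, hφ1, Category.assoc, hψ1, Iso.hom_inv_id_assoc,
          Category.id_comp],
        by rw [Category.assoc, hψ2, hφ2]⟩
      ⟨by rw [Category.comp_id, Category.id_comp], by rw [Category.id_comp]⟩
  have h22 : ψ ≫ φ = 𝟙 _ :=
    (hu3₂ Z₂ Z'₂ i₂ h'₂ (𝟙 _) hi₂ (by rw [hic₂, Category.id_comp])).unique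
      ⟨by rw [← Category.assoc, hψ1, Category.assoc, hφ1, Iso.inv_hom_id_assoc,
          Category.id_comp],
        by rw [Category.assoc, hφ2, hψ2]⟩
      ⟨by rw [Category.comp_id, Category.id_comp], by rw [Category.id_comp]⟩
  exact ⟨⟨φ, ψ, h11, h22⟩, hφ1, hφ2⟩

/-- Local-to-global principle for lifts along a first order thickening into the source of a
formally unramified morphism. -/
theorem existsUnique_lift_of_local {Y T T' : Scheme.{u}} (f : Y ⟶ X) [FormallyUnramified f]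
    (t : T ⟶ T') (ht : MoreMor.IsFirstOrderThickening t) (a : T ⟶ Y) (b : T' ⟶ X)
    (hloc : ∀ y : T', ∃ V : T'.Opens, y ∈ V ∧ ∃ g : (V : Scheme.{u}) ⟶ Y,
      (t ∣_ V) ≫ g = (t ⁻¹ᵁ V).ι ≫ a ∧ g ≫ f = V.ι ≫ b) :
    ∃! l : T' ⟶ Y, t ≫ l = a ∧ l ≫ f = b := by
  haveI hci : IsClosedImmersion t := ht.1.1
  have hsq : t.ker ^ 2 = ⊥ := by rw [pow_two]; exact ht.2
  refine existsUnique_of_exists_of_unique ?_ ?_
  swap
  · rintro l l' ⟨h1, h2⟩ ⟨h1', h2'⟩
    exact FormallyUnramified.hom_ext t ⟨2, hsq⟩ f (h1.trans h1'.symm) (h2.trans h2'.symm)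
  choose V hV g hg using hloc
  let 𝒱 : T'.OpenCover := T'.openCoverOfIsOpenCover V
    (TopologicalSpace.IsOpenCover.mk (eq_top_iff.2 fun y _ =>
      TopologicalSpace.Opens.mem_iSup.2 ⟨y, hV y⟩))
  haveI : ∀ i, IsOpenImmersion (𝒱.f i) := fun i => Scheme.Cover.map_prop 𝒱 i
  have hsol : ∀ i : 𝒱.I₀, IsLocSol t a b f (𝒱.f i) (g i) := by
    intro i
    refine ⟨?_, (hg i).2⟩
    change pullback.snd t (V i).ι ≫ g i = pullback.fst t (V i).ι ≫ a
    rw [← pullbackRestrictIsoRestrict_hom_morphismRestrict, Category.assoc, (hg i).1,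
      pullbackRestrictIsoRestrict_hom_ι_assoc]
  have hoverlap : ∀ i j : 𝒱.I₀,
      pullback.fst (𝒱.f i) (𝒱.f j) ≫ g i = pullback.snd (𝒱.f i) (𝒱.f j) ≫ g j := by
    intro i j
    have s1 := (hsol i).restrict (pullback.fst (𝒱.f i) (𝒱.f j))
    have s2 := ((hsol j).restrict (pullback.snd (𝒱.f i) (𝒱.f j))).congr pullback.condition.symm
    exact s1.unique hsq s2
  let l := 𝒱.glueMorphisms g hoverlap
  have hl : ∀ i, 𝒱.f i ≫ l = g i := fun i => 𝒱.ι_glueMorphisms g hoverlap i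
  refine ⟨l, ?_, ?_⟩
  · refine Scheme.Cover.hom_ext (𝒱.pullback₁ t) _ _ fun i => ?_
    change pullback.fst t (𝒱.f i) ≫ t ≫ l = pullback.fst t (𝒱.f i) ≫ a
    rw [pullback.condition_assoc, hl, (hsol i).top]
  · refine 𝒱.hom_ext _ _ fun i => ?_
    rw [← Category.assoc, hl, (hsol i).bot]

end Groth.Agent.Lib.UnivThickSch1_helper7
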