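import Mathlib
import Groth.Prelude.Def_MoreMor
import Groth.Agent.Lib.Thickening4_helper7
import Groth.Agent.Lib.UnivThickSch1_helper7
import Groth.Agent.Lib.ThickAff5_helper6
import Groth.Agent.Lib.GLiftAlg_helper7

/-!
# Local lifts along a first order thickening of an affine scheme glue (helper7)

Geometric part: the first order neighbourhood `W` of the given section in `X`, an affine scheme;
sections factor through `W`; finiteness of `Γ(W)/I` over `Γ(T)/I`; conclusion `exists_section`.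
-/

set_option autoImplicit false
universe u
open CategoryTheory CategoryTheory.Limits AlgebraicGeometry

namespace Groth.Agent.Lib.GLiftGeomH7

open Groth.Agent.Lib.Thickening4_helper7 Groth.Agent.Lib.Thickening_helper7
  Groth.Agent.Lib.UnivThickSch1_helper7 Groth.Agent.Lib.FormalEtale_helper7
  Groth.Agent.Lib.GLiftAlgH7

theorem res_eq_bijective (Y : Scheme.{u}) {O₁ O₂ : Y.Opens} (e : O₁ = O₂) :
    Function.Bijective (Y.presheaf.map (homOfLE e.le).op).hom := by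
  subst e
  have h : Y.presheaf.map (homOfLE (le_refl O₁)).op = 𝟙 _ := by
    rw [show homOfLE (le_refl O₁) = 𝟙 O₁ from rfl, op_id, Y.presheaf.map_id]
  rw [h]
  exact Function.bijective_id

theorem morphismRestrict_homOfLE {X Y : Scheme.{u}} (f : X ⟶ Y) {U V : Y.Opens} (h : U ≤ V) :
    (f ∣_ U) ≫ Y.homOfLE h =
      X.homOfLE (show f ⁻¹ᵁ U ≤ f ⁻¹ᵁ V from fun _ hx => h hx) ≫ (f ∣_ V) := by
  rw [← cancel_mono V.ι]
  simp only [Category.assoc, Scheme.homOfLE_ι, morphismRestrict_ι, Scheme.homOfLE_ι_assoc]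

theorem appLE_congr {X Y : Scheme.{u}} {m m' : X ⟶ Y} (hm : m = m') (U : Y.Opens) (V : X.Opens)
    (e : V ≤ m ⁻¹ᵁ U) (e' : V ≤ m' ⁻¹ᵁ U) : m.appLE U V e = m'.appLE U V e' := by
  subst hm; rfl

theorem isoSpec_inv_appTop' (T : Scheme.{u}) [IsAffine T] :
    T.isoSpec.inv.appTop = (Scheme.ΓSpecIso Γ(T, ⊤)).inv := by
  have h : T.isoSpec.hom.appTop = (Scheme.ΓSpecIso Γ(T, ⊤)).hom := Scheme.toSpecΓ_appTop T
  have h2 : T.isoSpec.hom.appTop ≫ T.isoSpec.inv.appTop = 𝟙 _ := by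
    rw [← Scheme.Hom.comp_appTop, Iso.inv_hom_id]
    rfl
  rw [h] at h2
  exact ((Iso.eq_inv_comp _).2 h2).trans (Category.comp_id _)

theorem exists_hom_appTop' {Y T : Scheme.{u}} [IsAffine T] (ψ : Γ(T, ⊤) ⟶ Γ(Y, ⊤)) :
    ∃ g : Y ⟶ T, g.appTop = ψ := by
  refine ⟨Y.toSpecΓ ≫ Spec.map ψ ≫ T.isoSpec.inv, ?_⟩
  rw [Scheme.Hom.comp_appTop, Scheme.Hom.comp_appTop, Scheme.toSpecΓ_appTop,
    isoSpec_inv_appTop', ← Scheme.ΓSpecIso_inv_naturality, Category.assoc,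
    Iso.inv_hom_id, Category.comp_id]

section Setup

variable {X T₀ : Scheme.{u}} (σ₀ : T₀ ⟶ X) [IsImmersion σ₀]

/-- The closed immersion into the coborder of the image. -/
noncomputable abbrev sg : T₀ ⟶ σ₀.coborderRange.toScheme := σ₀.liftCoborder

/-- The first order neighbourhood of the image of `σ₀`. -/
noncomputable abbrev W : Scheme.{u} := ((sg σ₀).ker ^ 2).subscheme

noncomputable abbrev om : W σ₀ ⟶ σ₀.coborderRange.toScheme := ((sg σ₀).ker ^ 2).subschemeι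

theorem ker_sq_le : (sg σ₀).ker ^ 2 ≤ (sg σ₀).ker := fun _ => Ideal.pow_le_self two_ne_zero

noncomputable def ta : T₀ ⟶ W σ₀ :=
  (sg σ₀).toImage ≫ Scheme.IdealSheafData.inclusion (ker_sq_le σ₀)

theorem ta_om : ta σ₀ ≫ om σ₀ = sg σ₀ := by
  rw [ta, Category.assoc, Scheme.IdealSheafData.inclusion_subschemeι]
  exact (sg σ₀).toImage_imageι

theorem fot_ta : MoreMor.IsFirstOrderThickening (ta σ₀) :=
  fot_iso_comp _ _ (fot_inclusion _ (ker_sq_le σ₀))

theorem isAffine_W [IsAffine T₀] : IsAffine (W σ₀) := by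
  have h := fot_ta σ₀
  have := h.1.1
  have := h.1.2
  exact Groth.Agent.Lib.ThickAffH6.isAffine_of_thickening (ta σ₀)

theorem ta_om_ι : ta σ₀ ≫ om σ₀ ≫ σ₀.coborderRange.ι = σ₀ := by
  rw [← Category.assoc, ta_om, Scheme.Hom.liftCoborder_ι]

/-- Sections over opens of `T` compatible with `σ₀` factor through `W`. -/
theorem factor_section {T : Scheme.{u}} (i : T₀ ⟶ T)
    (hi : MoreMor.IsFirstOrderThickening i) (D : T.Opens) (s : D.toScheme ⟶ X)
    (hs₂ : (i ∣_ D) ≫ s = (i ⁻¹ᵁ D).ι ≫ σ₀) :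
    ∃ s'' : D.toScheme ⟶ W σ₀, s'' ≫ om σ₀ ≫ σ₀.coborderRange.ι = s ∧
      (i ∣_ D) ≫ s'' = (i ⁻¹ᵁ D).ι ≫ ta σ₀ := by
  have hfot : MoreMor.IsFirstOrderThickening (i ∣_ D) := fot_morphismRestrict i hi D
  have : Surjective (i ∣_ D) := hfot.1.2
  have hrange : Set.range s ⊆ Set.range σ₀.coborderRange.ι := by
    rintro _ ⟨y, rfl⟩
    obtain ⟨z, rfl⟩ := (i ∣_ D).surjective y
    rw [Scheme.Opens.range_ι]
    have h1 : s ((i ∣_ D) z) = σ₀ ((i ⁻¹ᵁ D).ι z) := by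
      rw [← Scheme.Hom.comp_apply, hs₂, Scheme.Hom.comp_apply]
    rw [h1]
    exact subset_coborder ⟨_, rfl⟩
  let s' : D.toScheme ⟶ σ₀.coborderRange.toScheme :=
    IsOpenImmersion.lift σ₀.coborderRange.ι s hrange
  have hs' : s' ≫ σ₀.coborderRange.ι = s := IsOpenImmersion.lift_fac _ _ _
  have himg : (sg σ₀).toImage ≫ (sg σ₀).ker.subschemeι = sg σ₀ := (sg σ₀).toImage_imageι
  have w : ((i ⁻¹ᵁ D).ι ≫ (sg σ₀).toImage) ≫ (sg σ₀).ker.subschemeι = (i ∣_ D) ≫ s' := by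
    rw [← cancel_mono σ₀.coborderRange.ι, Category.assoc, Category.assoc, Category.assoc, hs',
      hs₂, reassoc_of% himg, Scheme.Hom.liftCoborder_ι]
  obtain ⟨a', ha'⟩ := exists_lift_infNbhd (sg σ₀).ker (i ∣_ D) hfot _ s' w
  have ha'' : a' ≫ om σ₀ = s' := ha'
  refine ⟨a', ?_, ?_⟩
  · rw [← Category.assoc, ha'', hs']
  · rw [← cancel_mono (om σ₀ ≫ σ₀.coborderRange.ι), Category.assoc, Category.assoc,
      reassoc_of% ha'', hs', hs₂, ta_om_ι]

/-- Existence of charts. -/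
theorem exists_chart {T : Scheme.{u}} [IsAffine T] (p : X ⟶ T) (i : T₀ ⟶ T)
    (hi : MoreMor.IsFirstOrderThickening i) (hσ : σ₀ ≫ p = i) (t : T) :
    ∃ (g : Γ(T, ⊤)) (V' : σ₀.coborderRange.toScheme.Opens), t ∈ T.basicOpen g ∧
      IsAffineOpen V' ∧ om σ₀ ⁻¹ᵁ V' =
        (W σ₀).basicOpen ((om σ₀ ≫ σ₀.coborderRange.ι ≫ p).appTop g) := by
  have hτq : ta σ₀ ≫ om σ₀ ≫ σ₀.coborderRange.ι ≫ p = i := by
    rw [← Category.assoc, ← Category.assoc, Category.assoc (ta σ₀), ta_om_ι, hσ]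
  have : Surjective (ta σ₀) := (fot_ta σ₀).1.2
  have : Surjective i := hi.1.2
  obtain ⟨t₀, rfl⟩ := i.surjective t
  obtain ⟨_, ⟨V, hV, rfl⟩, huV, -⟩ :=
    (σ₀.coborderRange.toScheme).isBasis_affineOpens.exists_subset_of_mem_open
      (Set.mem_univ (om σ₀ (ta σ₀ t₀))) isOpen_univ
  obtain ⟨VT, hVT⟩ := exists_opens_preimage_eq i hi (ta σ₀ ⁻¹ᵁ (om σ₀ ⁻¹ᵁ V))
  have hq : (om σ₀ ≫ σ₀.coborderRange.ι ≫ p) ⁻¹ᵁ VT = om σ₀ ⁻¹ᵁ V := by
    ext x
    obtain ⟨y, rfl⟩ := (ta σ₀).surjective x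
    have h1 : (om σ₀ ≫ σ₀.coborderRange.ι ≫ p) (ta σ₀ y) = i y := by
      rw [← Scheme.Hom.comp_apply, hτq]
    have h2 : y ∈ i ⁻¹ᵁ VT ↔ y ∈ ta σ₀ ⁻¹ᵁ (om σ₀ ⁻¹ᵁ V) := by rw [hVT]
    change (om σ₀ ≫ σ₀.coborderRange.ι ≫ p) (ta σ₀ y) ∈ VT ↔ _
    rw [h1]
    exact h2
  have ht : i t₀ ∈ VT := by
    have h2 : t₀ ∈ i ⁻¹ᵁ VT := by rw [hVT]; exact huV
    exact h2
  obtain ⟨g, hgle, htg⟩ := (isAffineOpen_top T).exists_basicOpen_le ⟨i t₀, ht⟩ trivial
  let b : Γ(σ₀.coborderRange.toScheme, V) := (σ₀.coborderRange.ι ≫ p).appLE ⊤ V le_top g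
  refine ⟨g, (σ₀.coborderRange.toScheme).basicOpen b, htg, hV.basicOpen b, ?_⟩
  have e1 : (om σ₀).app V b = (W σ₀).presheaf.map (homOfLE (le_top : om σ₀ ⁻¹ᵁ V ≤ ⊤)).op
      ((om σ₀ ≫ σ₀.coborderRange.ι ≫ p).appTop g) := by
    have h := Scheme.Hom.appLE_comp_appLE (om σ₀) (σ₀.coborderRange.ι ≫ p) ⊤ V (om σ₀ ⁻¹ᵁ V)
      le_top le_rfl
    rw [← Scheme.Hom.app_eq_appLE] at h
    exact congrArg (fun φ => φ.hom g) h
  rw [Scheme.preimage_basicOpen, e1, Scheme.basicOpen_res, inf_eq_right,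
    ← Scheme.preimage_basicOpen_top (om σ₀ ≫ σ₀.coborderRange.ι ≫ p) g, ← hq]
  exact fun x hx => hgle hx

/-- Finiteness: `Γ(W)/I` is finitely presented over `Γ(T)/I`. -/
theorem fp_quotient {T : Scheme.{u}} [IsAffine T] [IsAffine T₀] (p : X ⟶ T)
    [LocallyOfFinitePresentation p] (i : T₀ ⟶ T) (hi : MoreMor.IsFirstOrderThickening i)
    (hσ : σ₀ ≫ p = i) [IsAffine (W σ₀)] :
    letI : Algebra Γ(T, ⊤) Γ(W σ₀, ⊤) :=
      (om σ₀ ≫ σ₀.coborderRange.ι ≫ p).appTop.hom.toAlgebra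
    Algebra.FinitePresentation (Γ(T, ⊤) ⧸ RingHom.ker i.appTop.hom)
      (Γ(W σ₀, ⊤) ⧸ (RingHom.ker i.appTop.hom).map (algebraMap Γ(T, ⊤) Γ(W σ₀, ⊤))) := by
  letI : Algebra Γ(T, ⊤) Γ(W σ₀, ⊤) :=
    (om σ₀ ≫ σ₀.coborderRange.ι ≫ p).appTop.hom.toAlgebra
  have : IsClosedImmersion i := hi.1.1
  have hτq : ta σ₀ ≫ om σ₀ ≫ σ₀.coborderRange.ι ≫ p = i := by
    rw [← Category.assoc, ← Category.assoc, Category.assoc (ta σ₀), ta_om_ι, hσ]
  have hsgi : sg σ₀ ≫ σ₀.coborderRange.ι ≫ p = i := by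
    rw [Scheme.Hom.liftCoborder_ι_assoc, hσ]
  rw [← RingHom.finitePresentation_algebraMap]
  let Gc : Set Γ(T, ⊤) := {g | ∃ V' : σ₀.coborderRange.toScheme.Opens, IsAffineOpen V' ∧
      om σ₀ ⁻¹ᵁ V' = (W σ₀).basicOpen ((om σ₀ ≫ σ₀.coborderRange.ι ≫ p).appTop g)}
  have hGc : Ideal.span Gc = ⊤ := by
    rw [← (isAffineOpen_top T).iSup_basicOpen_eq_self_iff, eq_top_iff]
    intro t _
    obtain ⟨g, V', htg, hV', he⟩ := exists_chart σ₀ p i hi hσ t
    exact TopologicalSpace.Opens.mem_iSup.2 ⟨⟨g, V', hV', he⟩, htg⟩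
  refine RingHom.finitePresentation_ofLocalizationSpanTarget.ofIsLocalization
    RingHom.finitePresentation_respectsIso _
    (((Ideal.Quotient.mk ((RingHom.ker i.appTop.hom).map
      (algebraMap Γ(T, ⊤) Γ(W σ₀, ⊤)))).comp (algebraMap Γ(T, ⊤) Γ(W σ₀, ⊤))) '' Gc) ?_ ?_
  · rw [← Ideal.map_span, hGc, Ideal.map_top]
  · rintro ⟨_, g, ⟨V', hV', he⟩, rfl⟩
    -- the localized quotient
    refine ⟨Γ(W σ₀, (W σ₀).basicOpen (algebraMap Γ(T, ⊤) Γ(W σ₀, ⊤) g)) ⧸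
      ((RingHom.ker i.appTop.hom).map (algebraMap Γ(T, ⊤) Γ(W σ₀, ⊤))).map
        (algebraMap Γ(W σ₀, ⊤) Γ(W σ₀, (W σ₀).basicOpen (algebraMap Γ(T, ⊤) Γ(W σ₀, ⊤) g))),
      inferInstance, inferInstance, ?_, ?_⟩
    · have h1 : IsLocalization (Algebra.algebraMapSubmonoid
          (Γ(W σ₀, ⊤) ⧸ (RingHom.ker i.appTop.hom).map (algebraMap Γ(T, ⊤) Γ(W σ₀, ⊤)))
          (Submonoid.powers (algebraMap Γ(T, ⊤) Γ(W σ₀, ⊤) g)))
          (Γ(W σ₀, (W σ₀).basicOpen (algebraMap Γ(T, ⊤) Γ(W σ₀, ⊤) g)) ⧸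
            ((RingHom.ker i.appTop.hom).map (algebraMap Γ(T, ⊤) Γ(W σ₀, ⊤))).map
              (algebraMap Γ(W σ₀, ⊤)
                Γ(W σ₀, (W σ₀).basicOpen (algebraMap Γ(T, ⊤) Γ(W σ₀, ⊤) g)))) := inferInstance
      have h2 : Algebra.algebraMapSubmonoid
          (Γ(W σ₀, ⊤) ⧸ (RingHom.ker i.appTop.hom).map (algebraMap Γ(T, ⊤) Γ(W σ₀, ⊤)))
          (Submonoid.powers (algebraMap Γ(T, ⊤) Γ(W σ₀, ⊤) g)) =
          Submonoid.powers (((Ideal.Quotient.mk ((RingHom.ker i.appTop.hom).map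
            (algebraMap Γ(T, ⊤) Γ(W σ₀, ⊤)))).comp (algebraMap Γ(T, ⊤) Γ(W σ₀, ⊤))) g) := by
        rw [Algebra.algebraMapSubmonoid, Submonoid.map_powers]; rfl
      rw [h2] at h1
      exact h1
    · -- the chart
      have he' : om σ₀ ⁻¹ᵁ V' = (W σ₀).basicOpen (algebraMap Γ(T, ⊤) Γ(W σ₀, ⊤) g) := he
      have hκα : ((σ₀.coborderRange.ι ≫ p).appLE ⊤ V' le_top ≫
          (om σ₀).appLE V' ((W σ₀).basicOpen (algebraMap Γ(T, ⊤) Γ(W σ₀, ⊤) g)) he'.ge).hom =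
          (algebraMap Γ(W σ₀, ⊤)
            Γ(W σ₀, (W σ₀).basicOpen (algebraMap Γ(T, ⊤) Γ(W σ₀, ⊤) g))).comp
            (algebraMap Γ(T, ⊤) Γ(W σ₀, ⊤)) := by
        rw [Scheme.Hom.appLE_comp_appLE]
        rfl
      have hζα : ((σ₀.coborderRange.ι ≫ p).appLE ⊤ V' le_top ≫ (sg σ₀).app V').hom =
          ((T₀.presheaf.map (homOfLE (le_top : sg σ₀ ⁻¹ᵁ V' ≤ ⊤)).op).hom).comp i.appTop.hom := by
        rw [Scheme.Hom.app_eq_appLE, Scheme.Hom.appLE_comp_appLE,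
          appLE_congr hsgi ⊤ (sg σ₀ ⁻¹ᵁ V') _ le_top]
        rfl
      have hκsurj : Function.Surjective
          ((om σ₀).appLE V' ((W σ₀).basicOpen (algebraMap Γ(T, ⊤) Γ(W σ₀, ⊤) g)) he'.ge).hom := by
        have h1 : ((om σ₀).appLE V' ((W σ₀).basicOpen (algebraMap Γ(T, ⊤) Γ(W σ₀, ⊤) g))
            he'.ge).hom = ((W σ₀).presheaf.map (homOfLE he'.ge).op).hom.comp
              ((om σ₀).app V').hom := rfl
        rw [h1, RingHom.coe_comp]
        exact (res_eq_bijective (W σ₀) he'.symm).2.comp ((om σ₀).app_surjective V' hV')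
      have hκker : RingHom.ker
          ((om σ₀).appLE V' ((W σ₀).basicOpen (algebraMap Γ(T, ⊤) Γ(W σ₀, ⊤) g)) he'.ge).hom =
          RingHom.ker ((sg σ₀).app V').hom ^ 2 := by
        have h1 : ((om σ₀).appLE V' ((W σ₀).basicOpen (algebraMap Γ(T, ⊤) Γ(W σ₀, ⊤) g))
            he'.ge).hom = ((W σ₀).presheaf.map (homOfLE he'.ge).op).hom.comp
              ((om σ₀).app V').hom := rfl
        rw [h1, ← RingHom.comap_ker,
          (RingHom.injective_iff_ker_eq_bot _).1 (res_eq_bijective (W σ₀) he'.symm).1,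
          ← RingHom.ker_eq_comap_bot]
        have h2 := Scheme.IdealSheafData.ker_subschemeι_app ((sg σ₀).ker ^ 2) ⟨V', hV'⟩
        rw [h2, Scheme.IdealSheafData.ideal_pow, Pi.pow_apply, Scheme.Hom.ker_apply]
      -- the map ν
      have hνI : ∀ a ∈ RingHom.ker i.appTop.hom,
          (((sg σ₀).app V').hom.comp ((σ₀.coborderRange.ι ≫ p).appLE ⊤ V' le_top).hom) a = 0 := by
        intro a ha
        have h1 := congrArg (fun φ => φ a) hζα
        simp only [CommRingCat.hom_comp, RingHom.comp_apply] at h1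
        rw [RingHom.comp_apply, h1, (RingHom.mem_ker).1 ha, map_zero]
      have hbasic : sg σ₀ ⁻¹ᵁ V' = T₀.basicOpen (i.appTop g) := by
        rw [← ta_om σ₀, Scheme.Hom.comp_preimage, he', ← hτq]
        exact Scheme.preimage_basicOpen_top (ta σ₀) _
      have hres : ((T₀.presheaf.map (homOfLE (le_top : sg σ₀ ⁻¹ᵁ V' ≤ ⊤)).op).hom).FinitePresentation := by
        let _ := ((T₀.presheaf.map (homOfLE (le_top : sg σ₀ ⁻¹ᵁ V' ≤ ⊤)).op).hom).toAlgebra
        have h1 : IsLocalization.Away (i.appTop g) Γ(T₀, sg σ₀ ⁻¹ᵁ V') :=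
          (isAffineOpen_top T₀).isLocalization_of_eq_basicOpen (i.appTop g)
            (homOfLE le_top) hbasic
        exact RingHom.finitePresentation_algebraMap.2
          (IsLocalization.Away.finitePresentation (i.appTop g))
      have hπ : Function.Surjective i.appTop.hom := i.app_surjective ⊤ (isAffineOpen_top T)
      refine chart_fp (RingHom.ker i.appTop.hom)
        ((σ₀.coborderRange.ι ≫ p).appLE ⊤ V' le_top).hom
        (HasRingHomProperty.appLE (P := @LocallyOfFinitePresentation) (σ₀.coborderRange.ι ≫ p)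
          inferInstance ⟨⊤, isAffineOpen_top T⟩ ⟨V', hV'⟩ le_top)
        ((Ideal.Quotient.mk _).comp
          ((om σ₀).appLE V' ((W σ₀).basicOpen (algebraMap Γ(T, ⊤) Γ(W σ₀, ⊤) g)) he'.ge).hom)
        (Ideal.Quotient.mk_surjective.comp hκsurj)
        ((sg σ₀).app V').hom ((sg σ₀).app_surjective V' hV') _ ?_
        (Ideal.Quotient.lift _ _ hνI) ?_ ?_ ?_
      · -- ψ ∘ mk = θ ∘ α
        ext a
        have h1 := congrArg (fun φ => φ a) hκα
        simp only [CommRingCat.hom_comp, RingHom.comp_apply] at h1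
        simp only [RingHom.comp_apply]
        rw [h1]
        rfl
      · -- ν finitely presented
        have h1 : Ideal.Quotient.lift (RingHom.ker i.appTop.hom) _ hνI =
            ((T₀.presheaf.map (homOfLE (le_top : sg σ₀ ⁻¹ᵁ V' ≤ ⊤)).op).hom).comp
              (RingHom.quotientKerEquivOfSurjective hπ).toRingHom := by
          apply Ideal.Quotient.ringHom_ext
          ext a
          have h2 := congrArg (fun φ => φ a) hζα
          simp only [CommRingCat.hom_comp, RingHom.comp_apply] at h2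
          simp only [RingHom.comp_apply, Ideal.Quotient.lift_mk, RingEquiv.toRingHom_eq_coe,
            RingHom.coe_coe, RingHom.quotientKerEquivOfSurjective_apply_mk]
          exact h2
        rw [h1]
        exact hres.comp (RingHom.FinitePresentation.of_bijective
          (RingHom.quotientKerEquivOfSurjective hπ).bijective)
      · -- ν ∘ mk = ζ ∘ α
        ext a
        simp only [RingHom.comp_apply, Ideal.Quotient.lift_mk]
      · -- the kernel
        rw [← RingHom.comap_ker, Ideal.mk_ker, Ideal.map_map, ← hκα, CommRingCat.hom_comp,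
          ← Ideal.map_map, Ideal.comap_map_of_surjective _ hκsurj, ← RingHom.ker_eq_comap_bot,
          hκker]

/-- **Local sections glue**: a section of a morphism locally of finite presentation over a
first order thickening `T₀ ⊆ T` of affine schemes, given on `T₀`, extends to `T` as soon as it
extends Zariski locally on `T`. -/
theorem exists_section_aux {T : Scheme.{u}} [IsAffine T] [IsAffine T₀] (p : X ⟶ T)
    [LocallyOfFinitePresentation p] (i : T₀ ⟶ T) (hi : MoreMor.IsFirstOrderThickening i)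
    (hσ : σ₀ ≫ p = i)
    (hloc : ∀ t : T, ∃ (D : T.Opens) (s : D.toScheme ⟶ X), t ∈ D ∧ s ≫ p = D.ι ∧
      (i ∣_ D) ≫ s = (i ⁻¹ᵁ D).ι ≫ σ₀) :
    ∃ σ : T ⟶ X, σ ≫ p = 𝟙 T ∧ i ≫ σ = σ₀ := by
  have : IsClosedImmersion i := hi.1.1
  have : IsAffine (W σ₀) := isAffine_W σ₀
  letI : Algebra Γ(T, ⊤) Γ(W σ₀, ⊤) :=
    (om σ₀ ≫ σ₀.coborderRange.ι ≫ p).appTop.hom.toAlgebra
  have hfp := fp_quotient σ₀ p i hi hσ
  have hτq : ta σ₀ ≫ om σ₀ ≫ σ₀.coborderRange.ι ≫ p = i := by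
    rw [← Category.assoc, ← Category.assoc, Category.assoc (ta σ₀), ta_om_ι, hσ]
  have hπ : Function.Surjective i.appTop.hom := i.app_surjective ⊤ (isAffineOpen_top T)
  have hεπ : ∀ a : Γ(T, ⊤), (ta σ₀).appTop.hom (algebraMap Γ(T, ⊤) Γ(W σ₀, ⊤) a) =
      i.appTop.hom a := by
    intro a
    have h1 := congrArg (fun m => m.appTop.hom a) hτq
    exact h1
  -- square zero
  have hI : ∀ x ∈ RingHom.ker i.appTop.hom, ∀ y ∈ RingHom.ker i.appTop.hom, x * y = 0 := by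
    intro x hx y hy
    have h1 := ker_app_pow_eq_bot i (n := 2) (by rw [pow_two]; exact hi.2) ⊤
    have h2 : x * y ∈ RingHom.ker (i.app ⊤).hom ^ 2 := by
      rw [pow_two]; exact Ideal.mul_mem_mul hx hy
    rw [h1] at h2
    exact h2
  have hJ0 : ∀ x y : Γ(W σ₀, ⊤), (ta σ₀).appTop.hom x = 0 → (ta σ₀).appTop.hom y = 0 →
      x * y = 0 := by
    intro x y hx hy
    have := (fot_ta σ₀).1.1
    have h1 := ker_app_pow_eq_bot (ta σ₀) (n := 2) (by rw [pow_two]; exact (fot_ta σ₀).2) ⊤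
    have h2 : x * y ∈ RingHom.ker ((ta σ₀).app ⊤).hom ^ 2 := by
      rw [pow_two]; exact Ideal.mul_mem_mul hx hy
    rw [h1] at h2
    exact h2
  -- the augmentation
  let e := RingHom.quotientKerEquivOfSurjective hπ
  let ε : Γ(W σ₀, ⊤) →ₐ[Γ(T, ⊤)] (Γ(T, ⊤) ⧸ RingHom.ker i.appTop.hom) :=
    { (e.symm.toRingHom).comp (ta σ₀).appTop.hom with
      commutes' := by
        intro a
        change e.symm ((ta σ₀).appTop.hom (algebraMap Γ(T, ⊤) Γ(W σ₀, ⊤) a)) = _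
        rw [hεπ, RingEquiv.symm_apply_eq]
        exact (RingHom.quotientKerEquivOfSurjective_apply_mk hπ a).symm }
  have hε : ∀ c, ε c = e.symm ((ta σ₀).appTop.hom c) := fun c => rfl
  have hε0 : ∀ c, ε c = 0 ↔ (ta σ₀).appTop.hom c = 0 := by
    intro c
    rw [hε, RingEquiv.symm_apply_eq, map_zero]
  -- local sections over basic opens
  let G : Set Γ(T, ⊤) := {g | ∃ s : (T.basicOpen g).toScheme ⟶ X, s ≫ p = (T.basicOpen g).ι ∧
    (i ∣_ T.basicOpen g) ≫ s = (i ⁻¹ᵁ T.basicOpen g).ι ≫ σ₀}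
  have hG : Ideal.span G = ⊤ := by
    rw [← (isAffineOpen_top T).iSup_basicOpen_eq_self_iff, eq_top_iff]
    intro t _
    obtain ⟨D, s, htD, hs₁, hs₂⟩ := hloc t
    obtain ⟨g, hgle, htg⟩ := (isAffineOpen_top T).exists_basicOpen_le ⟨t, htD⟩ trivial
    refine TopologicalSpace.Opens.mem_iSup.2 ⟨⟨g, T.homOfLE hgle ≫ s, ?_, ?_⟩, htg⟩
    · rw [Category.assoc, hs₁, Scheme.homOfLE_ι]
    · rw [← Category.assoc, morphismRestrict_homOfLE, Category.assoc, hs₂,
        Scheme.homOfLE_ι_assoc]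
  obtain ⟨ρ, hρ⟩ := alg_core (RingHom.ker i.appTop.hom) hI ε
    (fun x y hx hy => hJ0 x y ((hε0 x).1 hx) ((hε0 y).1 hy)) G hG (by
      rintro g ⟨s, hs₁, hs₂⟩
      obtain ⟨s'', hs''₁, hs''₂⟩ := factor_section σ₀ i hi (T.basicOpen g) s hs₂
      refine ⟨Γ((T.basicOpen g).toScheme, ⊤), inferInstance, inferInstance, inferInstance, ?_⟩
      have hcomm : s'' ≫ om σ₀ ≫ σ₀.coborderRange.ι ≫ p = (T.basicOpen g).ι := by
        rw [← hs₁, ← hs''₁, Category.assoc, Category.assoc]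
      refine ⟨{ s''.appTop.hom with
        commutes' := by
          intro a
          exact congrArg (fun m => m.appTop.hom a) hcomm }, ?_⟩
      intro c hc
      change s''.appTop.hom c ∈ _
      have hc' : (ta σ₀).appTop.hom c = 0 := (hε0 c).1 hc
      have hD' : IsAffineOpen ((T.basicOpen g).ι ''ᵁ ⊤) := by
        rw [Scheme.Opens.ι_image_top]; exact (isAffineOpen_top T).basicOpen g
      have hy : (i.app ((T.basicOpen g).ι ''ᵁ ⊤)).hom (s''.appTop.hom c) = 0 := by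
        have h1 : ((i ∣_ T.basicOpen g).appTop).hom (s''.appTop.hom c) = 0 := by
          have h2 := congrArg (fun m => m.appTop.hom c) hs''₂
          simp only [Scheme.Hom.comp_appTop, CommRingCat.hom_comp, RingHom.comp_apply] at h2
          rw [h2, hc', map_zero]
        rw [morphismRestrict_appTop] at h1
        have h1' : (T₀.presheaf.map
            (eqToHom (image_morphismRestrict_preimage i (T.basicOpen g) ⊤)).op).hom
            ((i.app ((T.basicOpen g).ι ''ᵁ ⊤)).hom (s''.appTop.hom c)) = 0 := h1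
        exact (ConcreteCategory.bijective_of_isIso
          (T₀.presheaf.map (eqToHom (image_morphismRestrict_preimage i (T.basicOpen g) ⊤)).op)).1
          (h1'.trans (map_zero _).symm)
      have hmem : s''.appTop.hom c ∈ i.ker.ideal ⟨(T.basicOpen g).ι ''ᵁ ⊤, hD'⟩ := by
        rw [Scheme.Hom.ker_apply]; exact hy
      rw [← i.ker.map_ideal (U := ⟨(T.basicOpen g).ι ''ᵁ ⊤, hD'⟩)
        (V := ⟨⊤, isAffineOpen_top T⟩) (show (T.basicOpen g).ι ''ᵁ ⊤ ≤ ⊤ from le_top),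
        Scheme.Hom.ker_apply] at hmem
      exact hmem)
  -- the global section
  obtain ⟨σ', hσ'⟩ := exists_hom_appTop' (Y := T) (T := W σ₀) (CommRingCat.ofHom ρ.toRingHom)
  have h1 : σ' ≫ om σ₀ ≫ σ₀.coborderRange.ι ≫ p = 𝟙 T := by
    apply ext_of_isAffine
    rw [Scheme.Hom.comp_appTop, hσ']
    ext a
    exact ρ.commutes a
  have h2 : i ≫ σ' = ta σ₀ := by
    apply ext_of_isAffine
    rw [Scheme.Hom.comp_appTop, hσ']
    ext c
    change i.appTop.hom (ρ c) = (ta σ₀).appTop.hom c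
    have h3 := hρ c
    rw [hε, RingEquiv.eq_symm_apply, RingHom.quotientKerEquivOfSurjective_apply_mk] at h3
    exact h3
  refine ⟨σ' ≫ om σ₀ ≫ σ₀.coborderRange.ι, ?_, ?_⟩
  · rw [Category.assoc, Category.assoc]; exact h1
  · rw [← Category.assoc, h2, ta_om_ι]

end Setup

end Groth.Agent.Lib.GLiftGeomH7
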