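import Mathlib
import Groth.Prelude.Def_MoreMor
import Groth.Agent.Lib.GLiftGeom_helper7

/-!
# Local lifts along a first order thickening with affine source glue (helper7)

`exists_lift`: `f : X ⟶ S` locally of finite presentation, `i : T₀ ⟶ T` a first order thickening
with `T₀` affine, a commutative square `a₀ ≫ f = i ≫ a`; if lifts exist Zariski locally on `T`
then a global lift exists.
-/

set_option autoImplicit false
universe u
open CategoryTheory CategoryTheory.Limits AlgebraicGeometry

namespace Groth.Agent.Lib.GLiftMainH7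

open Groth.Agent.Lib.GLiftGeomH7

/-- A closed immersion whose sectionwise kernels have square zero on affine opens is a first
order thickening. -/
theorem fot_of_hsq {T T₀ : Scheme.{u}} (i : T₀ ⟶ T) [IsClosedImmersion i]
    (hsq : ∀ (U : T.affineOpens) (x y : Γ(T, U.1)),
      x ∈ RingHom.ker (i.app U.1).hom → y ∈ RingHom.ker (i.app U.1).hom → x * y = 0) :
    MoreMor.IsFirstOrderThickening i := by
  have hker : i.ker * i.ker = ⊥ := by
    apply Scheme.IdealSheafData.ext
    funext U
    rw [Scheme.IdealSheafData.ideal_mul, Pi.mul_apply, Scheme.Hom.ker_apply,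
      Scheme.IdealSheafData.ideal_bot, Pi.bot_apply, eq_bot_iff, Ideal.mul_le]
    intro x hx y hy
    rw [Ideal.mem_bot]
    exact hsq U x y hx hy
  refine ⟨⟨inferInstance, ⟨fun x => ?_⟩⟩, hker⟩
  have h1 : i.ker.support = ⊤ := by
    rw [← Scheme.IdealSheafData.support_pow i.ker 2 two_ne_zero, pow_two, hker,
      Scheme.IdealSheafData.support_bot]
  have h2 : x ∈ (i.ker.support : Set T) := by rw [h1]; trivial
  rw [Scheme.Hom.support_ker, i.isClosedEmbedding.isClosed_range.closure_eq] at h2
  exact h2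

theorem exists_lift {S X T T₀ : Scheme.{u}} (f : X ⟶ S) [LocallyOfFinitePresentation f]
    (i : T₀ ⟶ T) [IsAffine T₀] (hi : MoreMor.IsFirstOrderThickening i)
    (a : T ⟶ S) (a₀ : T₀ ⟶ X) (hsqr : a₀ ≫ f = i ≫ a)
    (hloc : ∀ t : T, ∃ (D : T.Opens) (b : D.toScheme ⟶ X), t ∈ D ∧ b ≫ f = D.ι ≫ a ∧
      (i ∣_ D) ≫ b = (i ⁻¹ᵁ D).ι ≫ a₀) :
    ∃ b' : T ⟶ X, b' ≫ f = a ∧ i ≫ b' = a₀ := by
  have := hi.1.1
  have := hi.1.2
  have : IsAffine T := Groth.Agent.Lib.ThickAffH6.isAffine_of_thickening i
  have hσ : pullback.lift a₀ i hsqr ≫ pullback.snd f a = i := pullback.lift_snd _ _ _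
  have : IsImmersion (pullback.lift a₀ i hsqr ≫ pullback.snd f a) := by
    rw [hσ]; infer_instance
  have : IsImmersion (pullback.lift a₀ i hsqr) :=
    IsImmersion.of_comp (pullback.lift a₀ i hsqr) (pullback.snd f a)
  obtain ⟨σ, hσ1, hσ2⟩ := exists_section_aux (pullback.lift a₀ i hsqr) (pullback.snd f a) i hi hσ
    (by
      intro t
      obtain ⟨D, b, htD, hb₁, hb₂⟩ := hloc t
      refine ⟨D, pullback.lift b D.ι hb₁, htD, pullback.lift_snd _ _ _, ?_⟩
      apply pullback.hom_ext
      · rw [Category.assoc, Category.assoc, pullback.lift_fst, pullback.lift_fst, hb₂]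
      · rw [Category.assoc, Category.assoc, pullback.lift_snd, pullback.lift_snd,
          morphismRestrict_ι])
  refine ⟨σ ≫ pullback.fst f a, ?_, ?_⟩
  · rw [Category.assoc, pullback.condition, ← Category.assoc, hσ1, Category.id_comp]
  · rw [← Category.assoc, hσ2, pullback.lift_fst]

end Groth.Agent.Lib.GLiftMainH7
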