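import Mathlib
import Groth.Prelude.Def_MoreMor
import Groth.Agent.Lib.GLiftMain_helper7
import Groth.Agent.Lib.AffLift_helper7

/-!
# Smooth ⇔ locally of finite presentation + formally smooth (lifting sense) — helper7

* `smooth_lift`: a smooth morphism lifts along every first order thickening with affine source.
* `fs_of_smooth`, `smooth_of_lfp_fs`, `smooth_iff`.
-/

set_option autoImplicit false
universe u
open CategoryTheory CategoryTheory.Limits AlgebraicGeometry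

namespace Groth.Agent.Lib.FSmoothIffH7

open Groth.Agent.Lib.FormalEtale_helper7 Groth.Agent.Lib.Thickening_helper7
open Groth.Agent.Lib.UnivThickSch1_helper7 Groth.Agent.Lib.AffLiftH7

variable {X Y Z : Scheme.{u}}

/-- A smooth morphism lifts along every first order thickening with affine source. -/
theorem smooth_lift {X S T T₀ : Scheme.{u}} (f : X ⟶ S) [Smooth f] (i : T₀ ⟶ T) [IsAffine T₀]
    (hi : MoreMor.IsFirstOrderThickening i) (b : T ⟶ S) (a : T₀ ⟶ X) (comm : a ≫ f = i ≫ b) :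
    ∃ l : T ⟶ X, l ≫ f = b ∧ i ≫ l = a := by
  have hci : IsClosedImmersion i := hi.1.1
  have hsurj : Surjective i := hi.1.2
  refine Groth.Agent.Lib.GLiftMainH7.exists_lift f i hi b a comm fun t => ?_
  obtain ⟨t₀, rfl⟩ := i.surjective t
  have hbt : b (i t₀) = f (a t₀) := by
    have := congrArg (fun g : T₀ ⟶ S => g t₀) comm
    simpa using this.symm
  obtain ⟨_, ⟨(V : S.Opens), hV, rfl⟩, hxV, -⟩ :=
    S.isBasis_affineOpens.exists_subset_of_mem_open (Set.mem_univ (f (a t₀))) isOpen_univ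
  obtain ⟨_, ⟨(U : X.Opens), hU, rfl⟩, hxU, hUV : U ≤ f ⁻¹ᵁ V⟩ :=
    X.isBasis_affineOpens.exists_subset_of_mem_open hxV (f ⁻¹ᵁ V).isOpen
  obtain ⟨W, hW⟩ := exists_opens_preimage_eq i hi (a ⁻¹ᵁ U)
  have htW : i t₀ ∈ W := by
    have h1 : t₀ ∈ i ⁻¹ᵁ W := by rw [hW]; exact hxU
    exact h1
  have htV : i t₀ ∈ b ⁻¹ᵁ V := by
    show b (i t₀) ∈ V
    rw [hbt]; exact hxV
  have htWV : i t₀ ∈ W ⊓ b ⁻¹ᵁ V := ⟨htW, htV⟩
  obtain ⟨_, ⟨(D : T.Opens), hD, rfl⟩, htD, hDW : D ≤ W ⊓ b ⁻¹ᵁ V⟩ :=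
    T.isBasis_affineOpens.exists_subset_of_mem_open htWV (W ⊓ b ⁻¹ᵁ V).isOpen
  have hDW1 : D ≤ W := hDW.trans inf_le_left
  have hDV : D ≤ b ⁻¹ᵁ V := hDW.trans inf_le_right
  have e' : i ⁻¹ᵁ D ≤ a ⁻¹ᵁ U := by
    rw [← hW]
    exact fun y hy => hDW1 hy
  have : IsAffine D.toScheme := hD
  have : IsAffine (i ⁻¹ᵁ D).toScheme := hD.preimage i
  have : IsAffine U.toScheme := hU
  have : IsAffine V.toScheme := hV
  have hfot := fot_morphismRestrict i hi D
  have : IsClosedImmersion (i ∣_ D) := hfot.1.1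
  have hthick : IsThick (i ∣_ D) := by
    refine ⟨(IsClosedImmersion.isAffine_surjective_of_isAffine (i ∣_ D)).2, fun x y hx hy => ?_⟩
    have hk : RingHom.ker ((i ∣_ D).app ⊤).hom ^ 2 = ⊥ :=
      Groth.Agent.Lib.Thickening4_helper7.ker_app_pow_eq_bot (i ∣_ D)
        (by rw [pow_two]; exact hfot.2) ⊤
    have hx' : x ∈ RingHom.ker ((i ∣_ D).app ⊤).hom := (RingHom.mem_ker).mpr hx
    have hy' : y ∈ RingHom.ker ((i ∣_ D).app ⊤).hom := (RingHom.mem_ker).mpr hy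
    have hxy : x * y ∈ RingHom.ker ((i ∣_ D).app ⊤).hom ^ 2 := by
      rw [pow_two]
      exact Ideal.mul_mem_mul hx' hy'
    rw [hk] at hxy
    exact (Ideal.mem_bot).mp hxy
  obtain ⟨c, hc1, hc2⟩ := hasLift_of_smooth (f.resLE V U hUV) _ _ inferInstance inferInstance
    (i ∣_ D) hthick (a.resLE U (i ⁻¹ᵁ D) e') (b.resLE V D hDV) (by
      rw [← cancel_mono V.ι, Category.assoc, Category.assoc, Scheme.Hom.resLE_comp_ι f hUV,
        Scheme.Hom.resLE_comp_ι b hDV, Scheme.Hom.resLE_comp_ι_assoc a e', comm,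
        morphismRestrict_ι_assoc])
  refine ⟨D, c ≫ U.ι, htD, ?_, ?_⟩
  · rw [Category.assoc, ← Scheme.Hom.resLE_comp_ι f hUV, ← Category.assoc, hc2,
      Scheme.Hom.resLE_comp_ι b hDV]
  · rw [← Category.assoc, hc1, Scheme.Hom.resLE_comp_ι a e']

/-- Formally smooth in the lifting sense. -/
abbrev FS (f : X ⟶ Y) : Prop := MoreMor.IsFormallySmoothHom f

lemma fs_of_fe {f : X ⟶ Y} (h : FE f) : FS f := by
  intro A _ I hI a b comm
  obtain ⟨l, hl, -⟩ := h A I hI a b comm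
  exact ⟨l, hl⟩

lemma fs_comp {f : X ⟶ Y} {g : Y ⟶ Z} (hf : FS f) (hg : FS g) : FS (f ≫ g) := by
  intro A _ I hI a b comm
  obtain ⟨l1, h1, h2⟩ := hg A I hI (a ≫ f) b (by rw [comm, Category.assoc])
  obtain ⟨l, h3, h4⟩ := hf A I hI a l1 h1
  exact ⟨l, h3, by rw [← Category.assoc, h4, h2]⟩

lemma fs_of_comp_mono {f : X ⟶ Y} (g : Y ⟶ Z) [Mono g] (h : FS (f ≫ g)) : FS f := by
  intro A _ I hI a b comm
  obtain ⟨l, h1, h2⟩ := h A I hI a (b ≫ g) (by rw [← Category.assoc, comm, Category.assoc])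
  exact ⟨l, h1, by rw [← cancel_mono g, Category.assoc, h2]⟩

lemma fs_specMap_to {R S : CommRingCat.{u}} (φ : R ⟶ S) (h : FS (Spec.map φ)) :
    φ.hom.FormallySmooth := by
  letI : Algebra R S := φ.hom.toAlgebra
  show Algebra.FormallySmooth R S
  apply Algebra.FormallySmooth.of_comp_surjective
  intro B _ _ I hI g
  have setup : thk I ≫ Spec.map (CommRingCat.ofHom (algebraMap R B)) =
        Spec.map (CommRingCat.ofHom g.toRingHom) ≫ Spec.map φ := by
    rw [← Spec.map_comp, ← Spec.map_comp]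
    congr 1
    ext r
    exact (g.commutes r).symm
  obtain ⟨l, h1, h2⟩ := h B I hI _ _ setup
  let ψ0 : S ⟶ CommRingCat.of B := Spec.preimage l
  have hψ0 : Spec.map ψ0 = l := Spec.map_preimage l
  have e2 : φ ≫ ψ0 = CommRingCat.ofHom (algebraMap R B) := by
    apply Spec.map_injective
    rw [Spec.map_comp, hψ0, h2]
  have e1 : ψ0 ≫ CommRingCat.ofHom (Ideal.Quotient.mk I) = CommRingCat.ofHom g.toRingHom := by
    apply Spec.map_injective
    rw [Spec.map_comp, hψ0, h1]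
  let ψ' : S →ₐ[R] B :=
    { ψ0.hom with
      commutes' := fun r => congrArg (fun χ : R ⟶ CommRingCat.of B => χ.hom r) e2 }
  refine ⟨ψ', ?_⟩
  ext x
  exact congrArg (fun χ : S ⟶ CommRingCat.of (B ⧸ I) => χ.hom x) e1

theorem fs_of_smooth (f : X ⟶ Y) [Smooth f] : FS f := by
  intro A _ I hI a b comm
  obtain ⟨l, h1, h2⟩ := smooth_lift f (thk I) (fot_thk I hI) b a comm.symm
  exact ⟨l, h2, h1⟩

theorem smooth_of_lfp_fs (f : X ⟶ Y) [LocallyOfFinitePresentation f] (H : FS f) : Smooth f := by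
  rw [HasRingHomProperty.iff_appLE (P := @Smooth)]
  intro V U e
  have h1 : FS (U.2.fromSpec ≫ f) := fs_comp (fs_of_fe (fe_of_isOpenImmersion U.2.fromSpec)) H
  rw [← V.2.SpecMap_appLE_fromSpec f U.2 e] at h1
  have h2 : FS (Spec.map (f.appLE V.1 U.1 e)) := fs_of_comp_mono V.2.fromSpec h1
  have h3 := fs_specMap_to _ h2
  have hfp : RingHom.FinitePresentation (f.appLE V.1 U.1 e).hom :=
    f.finitePresentation_appLE V.2 U.2 e
  rw [RingHom.smooth_def]
  exact ⟨h3, hfp⟩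

theorem smooth_iff (f : X ⟶ Y) :
    Smooth f ↔ LocallyOfFinitePresentation f ∧ MoreMor.IsFormallySmoothHom f :=
  ⟨fun _ => ⟨inferInstance, fs_of_smooth f⟩, fun ⟨_, h2⟩ => smooth_of_lfp_fs f h2⟩

end Groth.Agent.Lib.FSmoothIffH7
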