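import Mathlib
import Groth.Prelude.Def_AlgSpInf
import Groth.Agent.Lib.FSmoothIff_helper7
import Groth.Agent.Lib.AlgSpInfLift_helper6

/-!
# Representable smooth / étale / unramified ⇒ formally smooth / étale / unramified (helper7)
-/

set_option autoImplicit false
universe u
open CategoryTheory CategoryTheory.Limits AlgebraicGeometry
open AlgSp

namespace Groth.Agent.Lib.AlgSpFormalRepH7

open Groth.Agent.Lib.FormalEtale_helper7 Groth.Agent.Lib.FSmoothIffH7
open Groth.Agent.Lib.AlgSpInfLift_helper6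

variable {S : Scheme.{u}} {F G : Sp S} {a : F ⟶ G}

theorem hasLift_of_fs (sq : InfSq a) {V : Over S} (snd : V ⟶ sq.ptT') (fst : (yon S).obj V ⟶ F)
    (hpb : IsPullback fst ((yon S).map snd) a sq.bot)
    (hfs : MoreMor.IsFormallySmoothHom snd.left) : sq.HasLift := by
  obtain ⟨t, ht⟩ := (yon S).map_surjective (hpb.lift sq.top ((yon S).map sq.j) sq.comm)
  have ht1 : (yon S).map t ≫ fst = sq.top := by rw [ht]; exact hpb.lift_fst _ _ _
  have ht2 : t ≫ snd = sq.j := by
    apply (yon S).map_injective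
    rw [Functor.map_comp, ht]; exact hpb.lift_snd _ _ _
  have ht2' : t.left ≫ snd.left = thk sq.I := congrArg CommaMorphism.left ht2
  obtain ⟨l, hl1, hl2⟩ := hfs sq.A sq.I sq.sq_zero t.left (𝟙 _)
    (by rw [Category.comp_id]; exact ht2'.symm)
  have hw : l ≫ V.hom = sq.str := by
    have h1 : snd.left ≫ sq.str = V.hom := Over.w snd
    rw [← h1, ← Category.assoc, hl2, Category.id_comp]
  let l' : sq.ptT' ⟶ V := Over.homMk l hw
  have hjl : sq.j ≫ l' = t := by
    apply Over.OverMorphism.ext
    exact hl1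
  have hls : l' ≫ snd = 𝟙 _ := by
    apply Over.OverMorphism.ext
    exact hl2
  refine ⟨(yon S).map l' ≫ fst, ?_, ?_⟩
  · rw [← Category.assoc, ← Functor.map_comp, hjl, ht1]
  · rw [Category.assoc, hpb.w, ← Category.assoc, ← Functor.map_comp, hls, CategoryTheory.Functor.map_id,
      Category.id_comp]

theorem hasUniq_of_unram (sq : InfSq a) {V : Over S} (snd : V ⟶ sq.ptT')
    (fst : (yon S).obj V ⟶ F) (hpb : IsPullback fst ((yon S).map snd) a sq.bot)
    [FormallyUnramified snd.left] : sq.HasUniq := by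
  intro l l' h1 h2 h1' h2'
  obtain ⟨m, hm⟩ := (yon S).map_surjective (hpb.lift l (𝟙 _) (by rw [h2, Category.id_comp]))
  obtain ⟨m', hm'⟩ := (yon S).map_surjective (hpb.lift l' (𝟙 _) (by rw [h2', Category.id_comp]))
  have hmf : (yon S).map m ≫ fst = l := by rw [hm]; exact hpb.lift_fst _ _ _
  have hmf' : (yon S).map m' ≫ fst = l' := by rw [hm']; exact hpb.lift_fst _ _ _
  have hms : m ≫ snd = 𝟙 _ := by
    apply (yon S).map_injective
    rw [Functor.map_comp, hm, CategoryTheory.Functor.map_id]; exact hpb.lift_snd _ _ _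
  have hms' : m' ≫ snd = 𝟙 _ := by
    apply (yon S).map_injective
    rw [Functor.map_comp, hm', CategoryTheory.Functor.map_id]; exact hpb.lift_snd _ _ _
  have hj : sq.j ≫ m = sq.j ≫ m' := by
    apply (yon S).map_injective
    apply hpb.hom_ext
    · rw [Functor.map_comp, Functor.map_comp, Category.assoc, Category.assoc, hmf, hmf', h1, h1']
    · rw [← Functor.map_comp, ← Functor.map_comp, Category.assoc, Category.assoc, hms, hms']
  have hleft : m.left = m'.left := by
    refine FormallyUnramified.hom_ext (thk sq.I) (isNilpotent_ker_thk sq.I sq.sq_zero) snd.left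
      ?_ ?_
    · exact congrArg CommaMorphism.left hj
    · have e1 : m.left ≫ snd.left = 𝟙 _ := congrArg CommaMorphism.left hms
      have e2 : m'.left ≫ snd.left = 𝟙 _ := congrArg CommaMorphism.left hms'
      exact e1.trans e2.symm
  have hmm : m = m' := Over.OverMorphism.ext hleft
  rw [← hmf, ← hmf', hmm]

theorem main (a : F ⟶ G) :
    (RepWith @Smooth a → IsFormallySmoothMor a) ∧
    (RepWith @Etale a → IsFormallyEtaleMor a) ∧
    (RepWith (@LocallyOfFiniteType ⊓ @FormallyUnramified) a → IsFormallyUnramifiedMor a) := by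
  refine ⟨fun h sq => ?_, fun h sq => ?_, fun h sq => ?_⟩
  · obtain ⟨V, snd, fst, hpb⟩ := h.1 sq.bot
    have hs : Smooth snd.left := h.2 _ _ _ hpb
    exact hasLift_of_fs sq snd fst hpb (fs_of_smooth snd.left)
  · obtain ⟨V, snd, fst, hpb⟩ := h.1 sq.bot
    have hs : Etale snd.left := h.2 _ _ _ hpb
    have hfe : FE snd.left := fe_of_etale snd.left
    have : FormallyUnramified snd.left := formallyUnramified_of_fe hfe
    rw [hasUniqLift_iff]
    exact ⟨hasLift_of_fs sq snd fst hpb (fs_of_fe hfe), hasUniq_of_unram sq snd fst hpb⟩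
  · obtain ⟨V, snd, fst, hpb⟩ := h.1 sq.bot
    have hs : (@LocallyOfFiniteType ⊓ @FormallyUnramified) snd.left := h.2 _ _ _ hpb
    have : FormallyUnramified snd.left := hs.2
    exact hasUniq_of_unram sq snd fst hpb

end Groth.Agent.Lib.AlgSpFormalRepH7
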