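import Mathlib
import Groth.Agent.Lib.UnramLoc_helper4

/-!
# Fibre-field characterisations of unramified / étale / mono morphisms (helper4)
-/

universe u

set_option linter.style.haveILetI false

open IsLocalRing CategoryTheory CategoryTheory.Limits AlgebraicGeometry

namespace Groth.Agent.Lib.FibreFieldH4

noncomputable section

section Ring

variable {A B : Type u} [CommRing A] [CommRing B] [IsLocalRing A] [IsLocalRing B]

/-- the `quotientMap` algebra for `J = maximalIdeal B` is the residue-field algebra. -/
theorem quot_alg_iff [Algebra A B] [IsLocalHom (algebraMap A B)] (J : Ideal B)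
    (hle : maximalIdeal A ≤ J.comap (algebraMap A B)) (hJ : J = maximalIdeal B) :
    (letI := (Ideal.quotientMap J (algebraMap A B) hle).toAlgebra
     Module.Finite (A ⧸ maximalIdeal A) (B ⧸ J) ∧
        Algebra.IsSeparable (A ⧸ maximalIdeal A) (B ⧸ J)) ↔
    (Module.Finite (ResidueField A) (ResidueField B) ∧
      Algebra.IsSeparable (ResidueField A) (ResidueField B)) := by
  subst hJ
  have halg : (Ideal.quotientMap (maximalIdeal B) (algebraMap A B) hle).toAlgebra =
      (inferInstance : Algebra (ResidueField A) (ResidueField B)) := by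
    apply Algebra.algebra_ext
    intro r
    obtain ⟨r, rfl⟩ := residue_surjective r
    rfl
  rw [halg]
  exact Iff.rfl

theorem unram_iff_fibre_field (φ : A →+* B) [IsLocalHom φ] (hφ : φ.EssFiniteType) :
    φ.FormallyUnramified ↔
      (letI := (Ideal.quotientMap ((maximalIdeal A).map φ) φ Ideal.le_comap_map).toAlgebra
       IsField (B ⧸ (maximalIdeal A).map φ) ∧
        Module.Finite (A ⧸ maximalIdeal A) (B ⧸ (maximalIdeal A).map φ) ∧
        Algebra.IsSeparable (A ⧸ maximalIdeal A) (B ⧸ (maximalIdeal A).map φ)) := by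
  letI := φ.toAlgebra
  haveI : IsLocalHom (algebraMap A B) := ‹IsLocalHom φ›
  haveI : Algebra.EssFiniteType A B := hφ
  constructor
  · intro h
    haveI : Algebra.FormallyUnramified A B := h
    have hJ : (maximalIdeal A).map φ = maximalIdeal B :=
      Algebra.FormallyUnramified.map_maximalIdeal (R := A) (S := B)
    refine ⟨?_, ?_⟩
    · rw [← Ideal.Quotient.maximal_ideal_iff_isField_quotient, hJ]
      exact maximalIdeal.isMaximal B
    · exact (quot_alg_iff ((maximalIdeal A).map φ) Ideal.le_comap_map hJ).mpr
        ⟨inferInstance, inferInstance⟩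
  · rintro ⟨h1, h2⟩
    have hmax : ((maximalIdeal A).map φ).IsMaximal :=
      (Ideal.Quotient.maximal_ideal_iff_isField_quotient _).mpr h1
    have hJ : (maximalIdeal A).map φ = maximalIdeal B := eq_maximalIdeal hmax
    obtain ⟨_, hsep⟩ := (quot_alg_iff ((maximalIdeal A).map φ) Ideal.le_comap_map hJ).mp h2
    exact Algebra.FormallyUnramified.of_map_maximalIdeal hJ

/-- residue-level congruence from surjectivity of the residue field map. -/
theorem exists_sub_mem_maximalIdeal (φ : A →+* B) [IsLocalHom φ]
    (hs : Function.Surjective (ResidueField.map φ)) (b : B) :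
    ∃ a : A, φ a - b ∈ maximalIdeal B := by
  obtain ⟨a, ha⟩ := hs (residue B b)
  obtain ⟨a, rfl⟩ := residue_surjective a
  refine ⟨a, ?_⟩
  rw [ResidueField.map_residue] at ha
  exact Ideal.Quotient.eq.mp ha

theorem residueMap_surjective_of_forall (φ : A →+* B) [IsLocalHom φ]
    (h : ∀ b : B, ∃ a : A, φ a - b ∈ maximalIdeal B) :
    Function.Surjective (ResidueField.map φ) := by
  intro b
  obtain ⟨b, rfl⟩ := residue_surjective b
  obtain ⟨a, ha⟩ := h b
  refine ⟨residue A a, ?_⟩
  rw [ResidueField.map_residue]
  exact Ideal.Quotient.eq.mpr ha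

theorem isSeparable_of_residueMap_surjective (φ : A →+* B) [IsLocalHom φ]
    (hs : Function.Surjective (ResidueField.map φ)) :
    letI := φ.toAlgebra
    haveI : IsLocalHom (algebraMap A B) := ‹IsLocalHom φ›
    Algebra.IsSeparable (ResidueField A) (ResidueField B) := by
  letI := φ.toAlgebra
  haveI : IsLocalHom (algebraMap A B) := ‹IsLocalHom φ›
  constructor
  intro b
  obtain ⟨a, rfl⟩ := hs b
  exact isSeparable_algebraMap (F := ResidueField A) (K := ResidueField B) a

/-- M1 -/
theorem formallyUnramified_of_quotientMap_bijective (φ : A →+* B) [IsLocalHom φ]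
    (hφ : φ.EssFiniteType)
    (h : Function.Bijective
      (Ideal.quotientMap ((maximalIdeal A).map φ) φ Ideal.le_comap_map)) :
    φ.FormallyUnramified ∧ Function.Surjective (ResidueField.map φ) := by
  letI := φ.toAlgebra
  haveI : IsLocalHom (algebraMap A B) := ‹IsLocalHom φ›
  haveI : Algebra.EssFiniteType A B := hφ
  have hfieldA : IsField (A ⧸ maximalIdeal A) :=
    (Ideal.Quotient.maximal_ideal_iff_isField_quotient _).mp (maximalIdeal.isMaximal A)
  let e : (A ⧸ maximalIdeal A) ≃+* (B ⧸ (maximalIdeal A).map φ) := RingEquiv.ofBijective _ h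
  have hfieldB : IsField (B ⧸ (maximalIdeal A).map φ) :=
    MulEquiv.isField hfieldA e.symm.toMulEquiv
  have hmax : ((maximalIdeal A).map φ).IsMaximal :=
    (Ideal.Quotient.maximal_ideal_iff_isField_quotient _).mpr hfieldB
  have hJ : (maximalIdeal A).map φ = maximalIdeal B := eq_maximalIdeal hmax
  have hsurj : Function.Surjective (ResidueField.map φ) := by
    apply residueMap_surjective_of_forall
    intro b
    obtain ⟨a, ha⟩ := h.2 (Ideal.Quotient.mk _ b)
    obtain ⟨a, rfl⟩ := Ideal.Quotient.mk_surjective a
    refine ⟨a, ?_⟩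
    rw [Ideal.quotientMap_mk, Ideal.Quotient.eq, hJ] at ha
    exact ha
  refine ⟨?_, hsurj⟩
  haveI := isSeparable_of_residueMap_surjective φ hsurj
  exact Algebra.FormallyUnramified.of_map_maximalIdeal hJ

/-- M2 -/
theorem quotientMap_bijective_of_formallyUnramified (φ : A →+* B) [IsLocalHom φ]
    (hφ : φ.EssFiniteType) (h : φ.FormallyUnramified)
    (hs : Function.Surjective (ResidueField.map φ)) :
    Function.Bijective
      (Ideal.quotientMap ((maximalIdeal A).map φ) φ Ideal.le_comap_map) := by
  letI := φ.toAlgebra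
  haveI : IsLocalHom (algebraMap A B) := ‹IsLocalHom φ›
  haveI : Algebra.EssFiniteType A B := hφ
  haveI : Algebra.FormallyUnramified A B := h
  have hJ : (maximalIdeal A).map φ = maximalIdeal B :=
    Algebra.FormallyUnramified.map_maximalIdeal (R := A) (S := B)
  constructor
  · apply Ideal.quotientMap_injective'
    apply IsLocalRing.le_maximalIdeal
    apply Ideal.comap_ne_top
    rw [hJ]
    exact (maximalIdeal.isMaximal B).ne_top
  · intro b
    obtain ⟨b, rfl⟩ := Ideal.Quotient.mk_surjective b
    obtain ⟨a, ha⟩ := exists_sub_mem_maximalIdeal φ hs b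
    refine ⟨Ideal.Quotient.mk _ a, ?_⟩
    rw [Ideal.quotientMap_mk, Ideal.Quotient.eq, hJ]
    exact ha

theorem residueMap_surjective_of_purelyInseparable (φ : A →+* B) [IsLocalHom φ]
    (hφ : φ.EssFiniteType) (h : φ.FormallyUnramified)
    (hp : (ResidueField.map φ).IsPurelyInseparable) :
    Function.Surjective (ResidueField.map φ) := by
  letI := φ.toAlgebra
  haveI : IsLocalHom (algebraMap A B) := ‹IsLocalHom φ›
  haveI : Algebra.EssFiniteType A B := hφ
  haveI : Algebra.FormallyUnramified A B := h
  have halg : (ResidueField.map φ).toAlgebra =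
      (inferInstance : Algebra (ResidueField A) (ResidueField B)) := by
    apply Algebra.algebra_ext
    intro r
    obtain ⟨r, rfl⟩ := residue_surjective r
    rfl
  haveI : IsPurelyInseparable (ResidueField A) (ResidueField B) := by
    have := hp
    unfold RingHom.IsPurelyInseparable at this
    rw [halg] at this
    exact this
  have := IsPurelyInseparable.surjective_algebraMap_of_isSeparable
    (ResidueField A) (ResidueField B)
  intro b
  obtain ⟨a, ha⟩ := this b
  refine ⟨a, ?_⟩
  rw [← ha]
  obtain ⟨a, rfl⟩ := residue_surjective a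
  rfl

theorem isPurelyInseparable_of_surjective (φ : A →+* B) [IsLocalHom φ]
    (hs : Function.Surjective (ResidueField.map φ)) :
    (ResidueField.map φ).IsPurelyInseparable := by
  unfold RingHom.IsPurelyInseparable
  letI := (ResidueField.map φ).toAlgebra
  exact ⟨Algebra.isIntegral_of_surjective hs, fun x _ => hs x⟩

/-- if `m_A B = m_B` and the residue field map is surjective, `A → B/m_B^n` is surjective. -/
theorem exists_sub_mem_pow (φ : A →+* B) [IsLocalHom φ]
    (hJ : (maximalIdeal A).map φ = maximalIdeal B)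
    (hs : Function.Surjective (ResidueField.map φ)) (n : ℕ) :
    ∀ b : B, ∃ a : A, φ a - b ∈ maximalIdeal B ^ n := by
  have h1 : ∀ b : B, ∃ a : A, φ a - b ∈ maximalIdeal B := exists_sub_mem_maximalIdeal φ hs
  have step : ∀ n : ℕ, ∀ b ∈ maximalIdeal B ^ n,
      ∃ a : A, φ a - b ∈ maximalIdeal B ^ (n + 1) := by
    intro n b hb
    have hpow : ((maximalIdeal A) ^ n).map φ = maximalIdeal B ^ n := by
      rw [Ideal.map_pow, hJ]
    rw [← hpow] at hb
    induction hb using Submodule.span_induction with
    | mem x hx =>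
      obtain ⟨a, -, rfl⟩ := hx
      exact ⟨a, by simp⟩
    | zero => exact ⟨0, by simp⟩
    | add x y _ _ hx hy =>
      obtain ⟨a1, h1'⟩ := hx
      obtain ⟨a2, h2'⟩ := hy
      refine ⟨a1 + a2, ?_⟩
      have : φ (a1 + a2) - (x + y) = (φ a1 - x) + (φ a2 - y) := by rw [map_add]; ring
      rw [this]
      exact Ideal.add_mem _ h1' h2'
    | smul c x hxmem hx =>
      obtain ⟨a, ha⟩ := hx
      obtain ⟨c', hc'⟩ := h1 c
      refine ⟨c' * a, ?_⟩
      have hxB : x ∈ maximalIdeal B ^ n := by rw [← hpow]; exact hxmem
      have : φ (c' * a) - c • x = φ c' * (φ a - x) + (φ c' - c) * x := by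
        rw [map_mul, smul_eq_mul]; ring
      rw [this]
      refine Ideal.add_mem _ (Ideal.mul_mem_left _ _ ha) ?_
      rw [pow_succ']
      exact Ideal.mul_mem_mul hc' hxB
  induction n with
  | zero => intro b; exact ⟨0, by simp⟩
  | succ n ih =>
    intro b
    obtain ⟨a, ha⟩ := ih b
    obtain ⟨a', ha'⟩ := step n (φ a - b) ha
    refine ⟨a - a', ?_⟩
    have : φ (a - a') - b = -(φ a' - (φ a - b)) := by rw [map_sub]; ring
    rw [this]
    exact neg_mem ha'

theorem surjective_mk_comp_iff (φ : A →+* B) (I : Ideal B) :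
    Function.Surjective ((Ideal.Quotient.mk I).comp φ) ↔ ∀ b : B, ∃ a : A, φ a - b ∈ I := by
  constructor
  · intro h b
    obtain ⟨a, ha⟩ := h (Ideal.Quotient.mk I b)
    exact ⟨a, Ideal.Quotient.eq.mp ha⟩
  · intro h b
    obtain ⟨b, rfl⟩ := Ideal.Quotient.mk_surjective b
    obtain ⟨a, ha⟩ := h b
    exact ⟨a, Ideal.Quotient.eq.mpr ha⟩

theorem unram_iff_surj_pow (φ : A →+* B) [IsLocalHom φ] (hφ : φ.EssFiniteType)
    [IsNoetherianRing B]
    (hk : Function.Surjective (ResidueField.map φ) ∨ IsSepClosed (ResidueField A)) :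
    φ.FormallyUnramified ↔
      ∀ n : ℕ, Function.Surjective ((Ideal.Quotient.mk (maximalIdeal B ^ n)).comp φ) := by
  letI := φ.toAlgebra
  haveI : IsLocalHom (algebraMap A B) := ‹IsLocalHom φ›
  haveI : Algebra.EssFiniteType A B := hφ
  constructor
  · intro h n
    haveI : Algebra.FormallyUnramified A B := h
    have hJ : (maximalIdeal A).map φ = maximalIdeal B :=
      Algebra.FormallyUnramified.map_maximalIdeal (R := A) (S := B)
    have hs : Function.Surjective (ResidueField.map φ) := by
      rcases hk with hk | hk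
      · exact hk
      · have := IsSepClosed.algebraMap_surjective (ResidueField A) (ResidueField B)
        intro b
        obtain ⟨a, ha⟩ := this b
        refine ⟨a, ?_⟩
        rw [← ha]
        obtain ⟨a, rfl⟩ := residue_surjective a
        rfl
    rw [surjective_mk_comp_iff]
    exact exists_sub_mem_pow φ hJ hs n
  · intro H
    have H1 := (surjective_mk_comp_iff φ _).mp (H 1)
    have H2 := (surjective_mk_comp_iff φ _).mp (H 2)
    rw [pow_one] at H1
    have hs : Function.Surjective (ResidueField.map φ) :=
      residueMap_surjective_of_forall φ H1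
    have hle : (maximalIdeal A).map φ ≤ maximalIdeal B := map_maximalIdeal_le φ
    have hge : maximalIdeal B ≤ (maximalIdeal A).map φ := by
      apply Submodule.le_of_le_smul_of_le_jacobson_bot (I := maximalIdeal B)
        (IsNoetherian.noetherian _) (maximalIdeal_le_jacobson _)
      intro b hb
      obtain ⟨a, ha⟩ := H2 b
      have hφa : φ a ∈ maximalIdeal B := by
        have : φ a = (φ a - b) + b := by ring
        rw [this]
        exact Ideal.add_mem _ (Ideal.pow_le_self two_ne_zero ha) hb
      have ha' : a ∈ maximalIdeal A := by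
        rw [← maximalIdeal_comap φ]
        exact hφa
      have hb' : b = φ a + -(φ a - b) := by ring
      rw [hb']
      refine Submodule.add_mem_sup (Ideal.mem_map_of_mem φ ha') ?_
      rw [smul_eq_mul, ← pow_two]
      exact neg_mem ha
    have hJ : (maximalIdeal A).map φ = maximalIdeal B := le_antisymm hle hge
    haveI := isSeparable_of_residueMap_surjective φ hs
    exact Algebra.FormallyUnramified.of_map_maximalIdeal hJ

end Ring

section Scheme

variable {X Y : Scheme.{u}}

theorem main5011 (f : X ⟶ Y) [LocallyOfFinitePresentation f] :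
    Etale f ↔ Flat f ∧ ∀ x : ↥X,
      letI φ := (f.stalkMap x).hom
      letI 𝔪 := IsLocalRing.maximalIdeal ↑(Y.presheaf.stalk (f.base x))
      letI := (Ideal.quotientMap (𝔪.map φ) φ Ideal.le_comap_map).toAlgebra
      IsField (↑(X.presheaf.stalk x) ⧸ 𝔪.map φ) ∧
        Module.Finite (↑(Y.presheaf.stalk (f.base x)) ⧸ 𝔪) (↑(X.presheaf.stalk x) ⧸ 𝔪.map φ) ∧
        Algebra.IsSeparable (↑(Y.presheaf.stalk (f.base x)) ⧸ 𝔪)
          (↑(X.presheaf.stalk x) ⧸ 𝔪.map φ) := by
  rw [Etale.iff_flat_and_formallyUnramified]
  constructor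
  · rintro ⟨h1, h2, -⟩
    refine ⟨h1, fun x => ?_⟩
    exact (unram_iff_fibre_field (f.stalkMap x).hom (LocallyOfFiniteType.stalkMap f x)).mp
      (FormallyUnramified.stalkMap f x)
  · rintro ⟨h1, h2⟩
    refine ⟨h1, ?_, inferInstance⟩
    apply Groth.Agent.Lib.UnramLocH4.formallyUnramified_of_forall_stalk
    intro x
    exact (unram_iff_fibre_field (f.stalkMap x).hom (LocallyOfFiniteType.stalkMap f x)).mpr
      (h2 x)

theorem main5017 (f : X ⟶ Y) [LocallyOfFiniteType f] :
    Mono f ↔ ∀ x : ↥X,
      (∀ x' : ↥X, f.base x' = f.base x → x' = x) ∧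
        Function.Bijective
          (Ideal.quotientMap
            ((IsLocalRing.maximalIdeal ↑(Y.presheaf.stalk (f.base x))).map (f.stalkMap x).hom)
            (f.stalkMap x).hom Ideal.le_comap_map) := by
  constructor
  · intro hm x
    haveI : IsIso (pullback.diagonal f) := (pullback.isIso_diagonal_iff f).mpr hm
    haveI : FormallyUnramified f := inferInstance
    have hUI : UniversallyInjective f := inferInstance
    have h3 : Function.Injective f ∧ ∀ x, (f.residueFieldMap x).hom.IsPurelyInseparable :=
      ((tfae_universallyInjective f).out 0 2).mp hUI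
    refine ⟨fun x' hx' => h3.1 hx', ?_⟩
    have hFU := FormallyUnramified.stalkMap f x
    have hE := LocallyOfFiniteType.stalkMap f x
    exact quotientMap_bijective_of_formallyUnramified _ hE hFU
      (residueMap_surjective_of_purelyInseparable _ hE hFU (h3.2 x))
  · intro H
    have hM1 := fun x => formallyUnramified_of_quotientMap_bijective (f.stalkMap x).hom
      (LocallyOfFiniteType.stalkMap f x) (H x).2
    haveI : FormallyUnramified f :=
      Groth.Agent.Lib.UnramLocH4.formallyUnramified_of_forall_stalk f (fun x => (hM1 x).1)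
    have h3 : Function.Injective f ∧ ∀ x, (f.residueFieldMap x).hom.IsPurelyInseparable := by
      refine ⟨fun x' x hx => (H x).1 x' hx, fun x => ?_⟩
      exact isPurelyInseparable_of_surjective (f.stalkMap x).hom (hM1 x).2
    have h4 : Surjective (pullback.diagonal f) :=
      ((tfae_universallyInjective f).out 2 3).mp h3
    haveI : IsIso (pullback.diagonal f) :=
      (isIso_iff_isOpenImmersion_and_surjective _).mpr ⟨inferInstance, h4⟩
    exact (pullback.isIso_diagonal_iff f).mp inferInstance

theorem main2802 (f : X ⟶ Y) [LocallyOfFiniteType f]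
    [IsLocallyNoetherian Y] (x : X)
    (hk : Function.Surjective (f.residueFieldMap x) ∨
      IsSepClosed (Y.residueField (f.base x))) :
    (∃ U : X.Opens, x ∈ U ∧ FormallyUnramified (U.ι ≫ f)) ↔
      ∀ n : ℕ, Function.Surjective
        ((Ideal.Quotient.mk (IsLocalRing.maximalIdeal (X.presheaf.stalk x) ^ n)).comp
          (f.stalkMap x).hom) := by
  haveI : IsLocallyNoetherian X := LocallyOfFiniteType.isLocallyNoetherian f
  rw [Groth.Agent.Lib.UnramLocH4.exists_nhd_iff_stalk f x]
  refine unram_iff_surj_pow (f.stalkMap x).hom (LocallyOfFiniteType.stalkMap f x) ?_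
  rcases hk with hk | hk
  · exact Or.inl hk
  · exact Or.inr hk

end Scheme

end

end Groth.Agent.Lib.FibreFieldH4
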