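import Groth.Agent.Lib.SmoothFppfDesc_helper7
import Groth.Agent.Lib.AlgSpLocP8_helper7
import Groth.Agent.Lib.AlgSpPoints_helper7
import Groth.Agent.Lib.AlgSpPullback_helper7
import Groth.Agent.S1128
import Groth.Agent.S5011

/-!
# Descent of properties of morphisms along fppf covers of the source, for algebraic spaces (helper7)
-/

set_option autoImplicit false
universe u
open CategoryTheory CategoryTheory.Limits AlgebraicGeometry Opposite
open AlgSp Groth.Agent.Lib.AlgSpPoints_helper7 Groth.Agent.Lib.AlgSpPullback_helper7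
  Groth.Agent.Lib.AlgSpLocP8_helper7

namespace Groth.Agent.Lib.AlgSpFppfSrcH7

/-- Ring lemma: the "fibre is a finite separable field extension" condition descends along a
flat local homomorphism. -/
theorem quot_field_descent {A B D : Type u} [CommRing A] [CommRing B] [CommRing D]
    [IsLocalRing A] [IsLocalRing B] [IsLocalRing D]
    (φ : A →+* B) (ψ : B →+* D) (φt : A →+* D) (hc : φt = ψ.comp φ) [IsLocalHom ψ] (hψ : ψ.Flat)
    (h : letI := (Ideal.quotientMap ((IsLocalRing.maximalIdeal A).map φt) φt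
        Ideal.le_comap_map).toAlgebra
      IsField (D ⧸ (IsLocalRing.maximalIdeal A).map φt) ∧
        Module.Finite (A ⧸ IsLocalRing.maximalIdeal A) (D ⧸ (IsLocalRing.maximalIdeal A).map φt) ∧
        Algebra.IsSeparable (A ⧸ IsLocalRing.maximalIdeal A)
          (D ⧸ (IsLocalRing.maximalIdeal A).map φt)) :
    letI := (Ideal.quotientMap ((IsLocalRing.maximalIdeal A).map φ) φ Ideal.le_comap_map).toAlgebra
    IsField (B ⧸ (IsLocalRing.maximalIdeal A).map φ) ∧
      Module.Finite (A ⧸ IsLocalRing.maximalIdeal A) (B ⧸ (IsLocalRing.maximalIdeal A).map φ) ∧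
      Algebra.IsSeparable (A ⧸ IsLocalRing.maximalIdeal A)
        (B ⧸ (IsLocalRing.maximalIdeal A).map φ) := by
  subst hc
  letI fA : Field (A ⧸ IsLocalRing.maximalIdeal A) :=
    Ideal.Quotient.field (IsLocalRing.maximalIdeal A)
  letI algAD : Algebra (A ⧸ IsLocalRing.maximalIdeal A)
      (D ⧸ (IsLocalRing.maximalIdeal A).map (ψ.comp φ)) :=
    (Ideal.quotientMap ((IsLocalRing.maximalIdeal A).map (ψ.comp φ)) (ψ.comp φ)
      Ideal.le_comap_map).toAlgebra
  letI algAB : Algebra (A ⧸ IsLocalRing.maximalIdeal A)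
      (B ⧸ (IsLocalRing.maximalIdeal A).map φ) :=
    (Ideal.quotientMap ((IsLocalRing.maximalIdeal A).map φ) φ Ideal.le_comap_map).toAlgebra
  obtain ⟨hDf, hDfin, hDsep⟩ := h
  have hIJ : (IsLocalRing.maximalIdeal A).map φ ≤
      ((IsLocalRing.maximalIdeal A).map (ψ.comp φ)).comap ψ := by
    rw [← Ideal.map_map]; exact Ideal.le_comap_map
  letI algBD0 : Algebra B D := ψ.toAlgebra
  haveI : Module.Flat B D := hψ
  haveI : IsLocalHom (algebraMap B D) := ‹IsLocalHom ψ›
  haveI : Module.FaithfullyFlat B D := Module.FaithfullyFlat.of_flat_of_isLocalHom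
  have hJI : ((IsLocalRing.maximalIdeal A).map (ψ.comp φ)).comap ψ ≤
      (IsLocalRing.maximalIdeal A).map φ := by
    rw [← Ideal.map_map]
    exact (Ideal.comap_map_eq_self_of_faithfullyFlat (A := B) (B := D)
      ((IsLocalRing.maximalIdeal A).map φ)).le
  have hinj : Function.Injective (Ideal.quotientMap
      ((IsLocalRing.maximalIdeal A).map (ψ.comp φ)) ψ hIJ) := Ideal.quotientMap_injective' hJI
  letI algBD : Algebra (B ⧸ (IsLocalRing.maximalIdeal A).map φ)
      (D ⧸ (IsLocalRing.maximalIdeal A).map (ψ.comp φ)) :=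
    (Ideal.quotientMap ((IsLocalRing.maximalIdeal A).map (ψ.comp φ)) ψ hIJ).toAlgebra
  haveI : IsScalarTower (A ⧸ IsLocalRing.maximalIdeal A) (B ⧸ (IsLocalRing.maximalIdeal A).map φ)
      (D ⧸ (IsLocalRing.maximalIdeal A).map (ψ.comp φ)) :=
    IsScalarTower.of_algebraMap_eq (fun x => by
      obtain ⟨a, rfl⟩ := Ideal.Quotient.mk_surjective x
      rfl)
  haveI : IsDomain (D ⧸ (IsLocalRing.maximalIdeal A).map (ψ.comp φ)) := hDf.isDomain
  haveI : IsDomain (B ⧸ (IsLocalRing.maximalIdeal A).map φ) :=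
    Function.Injective.isDomain (Ideal.quotientMap
      ((IsLocalRing.maximalIdeal A).map (ψ.comp φ)) ψ hIJ) hinj
  have hιinj : Function.Injective (IsScalarTower.toAlgHom (A ⧸ IsLocalRing.maximalIdeal A)
      (B ⧸ (IsLocalRing.maximalIdeal A).map φ)
      (D ⧸ (IsLocalRing.maximalIdeal A).map (ψ.comp φ))) := hinj
  haveI : Module.Finite (A ⧸ IsLocalRing.maximalIdeal A)
      (D ⧸ (IsLocalRing.maximalIdeal A).map (ψ.comp φ)) := hDfin
  haveI hBfin : Module.Finite (A ⧸ IsLocalRing.maximalIdeal A)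
      (B ⧸ (IsLocalRing.maximalIdeal A).map φ) :=
    Module.Finite.of_injective (IsScalarTower.toAlgHom (A ⧸ IsLocalRing.maximalIdeal A)
      (B ⧸ (IsLocalRing.maximalIdeal A).map φ)
      (D ⧸ (IsLocalRing.maximalIdeal A).map (ψ.comp φ))).toLinearMap hιinj
  haveI : Algebra.IsIntegral (A ⧸ IsLocalRing.maximalIdeal A)
      (B ⧸ (IsLocalRing.maximalIdeal A).map φ) := Algebra.IsIntegral.of_finite _ _
  refine ⟨isField_of_isIntegral_of_isField' (R := A ⧸ IsLocalRing.maximalIdeal A)
    ((Ideal.Quotient.maximal_ideal_iff_isField_quotient (IsLocalRing.maximalIdeal A)).mp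
      inferInstance), hBfin, ?_⟩
  haveI := hDsep
  refine ⟨fun x => ?_⟩
  have hx := Algebra.IsSeparable.isSeparable (A ⧸ IsLocalRing.maximalIdeal A)
    (IsScalarTower.toAlgHom (A ⧸ IsLocalRing.maximalIdeal A)
      (B ⧸ (IsLocalRing.maximalIdeal A).map φ)
      (D ⧸ (IsLocalRing.maximalIdeal A).map (ψ.comp φ)) x)
  unfold IsSeparable at hx ⊢
  rwa [minpoly.algHom_eq _ hιinj] at hx

/-- **Étaleness descends along an fppf cover of the source.** -/
theorem etale_of_fppf_comp {U V W : Scheme.{u}} (g : U ⟶ V) (h : V ⟶ W) [Surjective g] [Flat g]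
    [LocallyOfFinitePresentation g] [Etale (g ≫ h)] : Etale h := by
  haveI : LocallyOfFinitePresentation (g ≫ h) := inferInstance
  haveI : Flat (g ≫ h) := inferInstance
  haveI hlfp : LocallyOfFinitePresentation h := Groth.Agent.S0114.result g h
  haveI hfl : Flat h := Groth.Agent.S1128.result g h
  have H := (Groth.Agent.S5011.result (g ≫ h)).1 inferInstance
  rw [Groth.Agent.S5011.result h]
  refine ⟨hfl, fun v => ?_⟩
  obtain ⟨u, rfl⟩ := Surjective.surj (f := g) v
  exact quot_field_descent (h.stalkMap (g u)).hom (g.stalkMap u).hom ((g ≫ h).stalkMap u).hom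
    (by rw [Scheme.Hom.stalkMap_comp]; rfl) (Flat.stalkMap g u) (H.2 u)

variable {S : Scheme.{u}}

/-- Transfer to algebraic spaces of a property of morphisms of schemes which descends along
fppf covers of the source. -/
theorem locP_of_fppf_precomp (P : MorphismProperty Scheme.{u})
    (hP : ∀ {U V W : Scheme.{u}} (g : U ⟶ V) (h : V ⟶ W), Surjective g → Flat g →
      LocallyOfFinitePresentation g → P (g ≫ h) → P h)
    {X Y B : Space S} (f : X ⟶ Y) (q : Y ⟶ B) (hs : IsSurjectiveMor f.hom)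
    (hfl : LocP @Flat f.hom) (hfp : LocP @LocallyOfFinitePresentation f.hom)
    (hfq : LocP P (f ≫ q).hom) : LocP P q.hom := by
  intro V W b c h hb hc comm
  obtain ⟨X0, a0, ha0e, ha0s⟩ := X.property.atlas
  obtain ⟨U, g, s, sq, hse⟩ : ∃ (U : Over S) (g : U ⟶ V) (s : U ⟶ X0),
      IsPullback ((yon S).map g) ((yon S).map s) b (a0 ≫ f.hom) ∧ Etale s.left :=
    ⟨_, hb.rep.fst' _, hb.rep.snd _, hb.rep.isPullback' _, hb.property_snd _⟩
  have hae : RepWith @Etale ((yon S).map s ≫ a0) :=
    repWith_comp _ ((repWith_yon_map_iff _ _).2 hse) ha0e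
  have comm_f : ((yon S).map s ≫ a0) ≫ f.hom = (yon S).map g ≫ b := by
    rw [Category.assoc]; exact sq.w.symm
  have comm_fq : ((yon S).map s ≫ a0) ≫ (f ≫ q).hom = (yon S).map (g ≫ h) ≫ c := by
    show ((yon S).map s ≫ a0) ≫ f.hom ≫ q.hom = _
    rw [← Category.assoc, comm_f, Category.assoc, comm, CategoryTheory.Functor.map_comp,
      Category.assoc]
  have hgfl : Flat g.left := hfl _ b g hae hb comm_f
  have hgfp : LocallyOfFinitePresentation g.left := hfp _ b g hae hb comm_f
  have hgs : Surjective g.left := by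
    refine ⟨fun v => ?_⟩
    obtain ⟨x, hx⟩ := hs (Points.ofPt b v)
    obtain ⟨x0, hx0⟩ := ofPt_surjective a0 ha0s x
    have e : Points.ofPt b v = Points.ofPt (a0 ≫ f.hom) x0 := by
      rw [← Points.map_ofPt, hx0, hx]
    obtain ⟨u, hu1, -⟩ := exists_ofPt_eq_of_isPullback sq v x0 e
    exact ⟨u, hu1⟩
  exact hP g.left h.left hgs hgfl hgfp (hfq _ c (g ≫ h) hae hc comm_fq)

/-- Smoothness and étaleness descend along fppf covers of the source, for algebraic spaces. -/
theorem smooth_etale_of_fppf_comp {X Y B : Space S} (f : X ⟶ Y) (q : Y ⟶ B)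
    (hs : IsSurjectiveMor f.hom) (hfl : LocP @Flat f.hom)
    (hfp : LocP @LocallyOfFinitePresentation f.hom) :
    (LocP @Smooth (f ≫ q).hom → LocP @Smooth q.hom) ∧
    (IsEtaleMor (f ≫ q).hom → IsEtaleMor q.hom) := by
  refine ⟨fun hsm => locP_of_fppf_precomp @Smooth (fun g h h1 h2 h3 h4 => by
      haveI := h1; haveI := h2; haveI := h3; haveI := h4
      exact Groth.Agent.Lib.SmoothFppfDescH7.smooth_of_fppf_comp g h) f q hs hfl hfp hsm,
    fun he => ?_⟩
  rw [isEtaleMor_iff_locP B.property] at he ⊢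
  exact locP_of_fppf_precomp @Etale (fun g h h1 h2 h3 h4 => by
      haveI := h1; haveI := h2; haveI := h3; haveI := h4
      exact etale_of_fppf_comp g h) f q hs hfl hfp he

end Groth.Agent.Lib.AlgSpFppfSrcH7
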