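import Mathlib
import Groth.Prelude.Def_AlgSp
import Groth.Agent.Lib.SpCoprod5_helper7

set_option autoImplicit false

/-! Morphisms out of a scheme decomposed by a map to a coproduct of sheaves. -/

namespace Groth.Agent.Lib.SpCoprod6H7
open CategoryTheory CategoryTheory.Limits AlgebraicGeometry Opposite AlgSp TopologicalSpace
open Groth.Agent.Lib.SpCoprodH7 Groth.Agent.Lib.SpCoprod2H7 Groth.Agent.Lib.SpCoprod3H7
open Groth.Agent.Lib.SpCoprod4H7
universe u

variable {S : Scheme.{u}}

/-- `sigmaOver Z` is the coproduct of the `Z i` in `Over S`. -/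
noncomputable def isColimitSigmaOver {ι : Type u} (Z : ι → Over S) :
    IsColimit (Cofan.mk (sigmaOver Z) (sigmaOverι Z)) :=
  mkCofanColimit _ (fun t => sigmaOverDesc Z t.inj) (fun t k => sigmaOverι_desc Z t.inj k)
    (fun t m hm => by
      ext
      refine Sigma.hom_ext _ _ (fun k => ?_)
      have h1 : (sigmaOverι Z k).left ≫ m.left = (t.inj k).left :=
        congrArg (fun f => f.left) (hm k)
      have h2 : (sigmaOverι Z k).left ≫ (sigmaOverDesc Z t.inj).left = (t.inj k).left :=
        congrArg (fun f => f.left) (sigmaOverι_desc Z t.inj k)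
      exact h1.trans h2.symm)

section Parts

variable {ι : Type u} {X : ι → Sp S} (c : Cofan X) (hc : IsColimit c)
  {T : Over S} (γ : (yon S).obj T ⟶ c.pt)

lemma over_hom_ext_parts {Y : Over S} (f f' : T ⟶ Y)
    (h : ∀ i, partι c hc γ i ≫ f = partι c hc γ i ≫ f') : f = f' := by
  obtain ⟨hT⟩ := nonempty_isColimit_part c hc γ
  ext
  refine Cofan.IsColimit.hom_ext hT _ _ (fun i => ?_)
  exact congrArg (fun f => f.left) (h i)

lemma exists_desc_parts {Y : Over S} (f : ∀ i, partOver c hc γ i ⟶ Y) :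
    ∃ F : T ⟶ Y, ∀ i, partι c hc γ i ≫ F = f i := by
  obtain ⟨hT⟩ := nonempty_isColimit_part c hc γ
  have hfac : ∀ i, (partι c hc γ i).left ≫ Cofan.IsColimit.desc hT (fun i => (f i).left) =
      (f i).left := fun i => Cofan.IsColimit.fac hT _ i
  have hw : Cofan.IsColimit.desc hT (fun i => (f i).left) ≫ Y.hom = T.hom := by
    refine Cofan.IsColimit.hom_ext hT _ _ (fun i => ?_)
    change (partι c hc γ i).left ≫ _ ≫ Y.hom = (partι c hc γ i).left ≫ T.hom
    rw [← Category.assoc, hfac, Over.w (f i), Over.w (partι c hc γ i)]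
  refine ⟨Over.homMk (Cofan.IsColimit.desc hT (fun i => (f i).left)) hw, fun i => ?_⟩
  ext
  exact hfac i

end Parts

end Groth.Agent.Lib.SpCoprod6H7
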