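import Mathlib
import Groth.Prelude.Def_AlgSp
import Groth.Agent.Lib.SpCoprod6_helper7

set_option autoImplicit false

/-! A free action of a group on a scheme gives an etale equivalence relation. -/

namespace Groth.Agent.Lib.AlgSpFreeActionH7
open CategoryTheory CategoryTheory.Limits AlgebraicGeometry Opposite AlgSp TopologicalSpace
open Groth.Agent.Lib.SpCoprodH7 Groth.Agent.Lib.SpCoprod2H7 Groth.Agent.Lib.SpCoprod3H7
open Groth.Agent.Lib.SpCoprod4H7 Groth.Agent.Lib.SpCoprod6H7
universe u

lemma epi_Spec_map_field {K L : CommRingCat.{u}} (hK : IsField K) (hL : IsField L) (φ : K ⟶ L) :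
    Epi (Spec.map φ) := by
  letI := hK.toField
  letI := hL.toField
  haveI : Flat (Spec.map φ) := by
    rw [HasRingHomProperty.Spec_iff (P := @Flat)]
    letI := φ.hom.toAlgebra
    exact (inferInstance : Module.Flat K L)
  haveI : Surjective (Spec.map φ) := by
    constructor
    intro p
    haveI : Subsingleton (Spec K) := by
      change Subsingleton (PrimeSpectrum K); infer_instance
    haveI : Nonempty (Spec L) := by
      change Nonempty (PrimeSpectrum L); infer_instance
    exact ⟨Classical.arbitrary _, Subsingleton.elim _ _⟩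
  exact Flat.epi_of_flat_of_surjective _

variable {S : Scheme.{u}} {U : Over S} {G : Type u} [Group G] (ρ : G →* Aut U)

section

variable (hfree : ∀ (g : G) (x : U.left), g ≠ 1 →
  U.left.fromSpecResidueField x ≫ (ρ g).hom.left ≠ U.left.fromSpecResidueField x)

include hfree in
lemma eq_of_comp_eq {W : Scheme.{u}} [Nonempty W] (β : W ⟶ U.left) (g h : G)
    (hβ : β ≫ (ρ g).hom.left = β ≫ (ρ h).hom.left) : g = h := by
  by_contra hne
  have hk : h⁻¹ * g ≠ 1 := fun hk => hne (by rw [inv_mul_eq_one] at hk; exact hk.symm)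
  have hρ : (ρ (h⁻¹ * g)).hom = (ρ g).hom ≫ (ρ h).inv := by
    rw [map_mul, map_inv]; rfl
  have hβ' : β ≫ (ρ (h⁻¹ * g)).hom.left = β := by
    rw [hρ, Over.comp_left, ← Category.assoc, hβ, Category.assoc, ← Over.comp_left,
      Iso.hom_inv_id, Over.id_left, Category.comp_id]
  obtain ⟨x₀⟩ := ‹Nonempty W›
  have h1 := Scheme.Hom.SpecMap_residueFieldMap_fromSpecResidueField β x₀
  haveI := epi_Spec_map_field (Field.toIsField _) (Field.toIsField _) (β.residueFieldMap x₀)
  apply hfree _ (β x₀) hk
  rw [← cancel_epi (Spec.map (β.residueFieldMap x₀)), ← Category.assoc, h1, Category.assoc, hβ']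

end

variable (c : Cofan (fun _ : G => U)) (hc : IsColimit c)

noncomputable def ptIso : c.pt ≅ sigmaOver (fun _ : G => U) :=
  hc.coconePointUniqueUpToIso (isColimitSigmaOver _)

lemma inj_ptIso (g : G) : c.inj g ≫ (ptIso c hc).hom = sigmaOverι (fun _ : G => U) g :=
  IsColimit.comp_coconePointUniqueUpToIso_hom hc _ ⟨g⟩

include hc in
lemma nonempty_isColimit_yon :
    Nonempty (IsColimit (Cofan.mk ((yon S).obj c.pt) (fun g => (yon S).map (c.inj g)))) := by
  obtain ⟨h0⟩ := isColimit_yon_sigma (fun _ : G => U)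
  refine ⟨IsColimit.ofIsoColimit h0
    (Cofan.ext ((yon S).mapIso (ptIso c hc).symm) (fun g => ?_))⟩
  change (yon S).map (sigmaOverι _ g) ≫ (yon S).map (ptIso c hc).inv = (yon S).map (c.inj g)
  rw [← Functor.map_comp, ← inj_ptIso c hc g, Category.assoc, Iso.hom_inv_id, Category.comp_id]

include hc in
lemma etale_left_of_components (f : c.pt ⟶ U) (hf : ∀ g, Etale (c.inj g ≫ f).left) :
    Etale f.left := by
  have h1 : f = (ptIso c hc).hom ≫
      sigmaOverDesc (fun _ : G => U) (fun g => c.inj g ≫ f) := by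
    refine Cofan.IsColimit.hom_ext hc _ _ (fun g => ?_)
    rw [← Category.assoc, inj_ptIso, sigmaOverι_desc]
  rw [h1, Over.comp_left]
  haveI : IsIso (ptIso c hc).hom.left :=
    inferInstanceAs (IsIso ((Over.forget S).map (ptIso c hc).hom))
  haveI : Etale (sigmaOverDesc (fun _ : G => U) (fun g => c.inj g ≫ f)).left := by
    change Etale (Sigma.desc (fun g => (c.inj g ≫ f).left))
    exact IsZariskiLocalAtSource.sigmaDesc (P := @Etale) hf
  infer_instance

variable (s t : c.pt ⟶ U) (hs : ∀ g, c.inj g ≫ s = 𝟙 U) (ht : ∀ g, c.inj g ≫ t = (ρ g).hom)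

include hs in
lemma partι_comp (hC : IsColimit (Cofan.mk ((yon S).obj c.pt) (fun g => (yon S).map (c.inj g))))
    {T : Over S} (r : T ⟶ c.pt) (g : G) :
    partι _ hC ((yon S).map r) g ≫ r = (partι _ hC ((yon S).map r) g ≫ r ≫ s) ≫ c.inj g := by
  obtain ⟨fst, sq⟩ := exists_isPullback_part _ hC ((yon S).map r) g
  obtain ⟨a, rfl⟩ := (yon S).map_surjective fst
  have h1 : a ≫ c.inj g = partι _ hC ((yon S).map r) g ≫ r := by
    apply (yon S).map_injective
    rw [Functor.map_comp, Functor.map_comp]
    exact sq.w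
  have h2 : a = partι _ hC ((yon S).map r) g ≫ r ≫ s := by
    rw [← Category.assoc, ← h1, Category.assoc, hs, Category.comp_id]
  rw [← h2, h1]

variable (hfree : ∀ (g : G) (x : U.left), g ≠ 1 →
  U.left.fromSpecResidueField x ≫ (ρ g).hom.left ≠ U.left.fromSpecResidueField x)

include hs ht hfree in
lemma inj_aux (hC : IsColimit (Cofan.mk ((yon S).obj c.pt) (fun g => (yon S).map (c.inj g))))
    {T : Over S} (r r' : T ⟶ c.pt) (htt : r ≫ t = r' ≫ t) (hss : r ≫ s = r' ≫ s) (g : G)
    (hr : r = (r ≫ s) ≫ c.inj g) : r = r' := by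
  refine over_hom_ext_parts _ hC ((yon S).map r') r r' (fun h => ?_)
  have e2 := partι_comp c s hs hC r' h
  by_cases hne : Nonempty (partOver _ hC ((yon S).map r') h).left
  · have hrt : r ≫ t = (r ≫ s) ≫ (ρ g).hom := by
      conv_lhs => rw [hr]
      rw [Category.assoc, ht]
    have hgh : g = h := by
      refine eq_of_comp_eq ρ hfree (partι _ hC ((yon S).map r') h ≫ r ≫ s).left g h ?_
      have h3 : (partι _ hC ((yon S).map r') h ≫ r ≫ s) ≫ (ρ g).hom =
          (partι _ hC ((yon S).map r') h ≫ r ≫ s) ≫ (ρ h).hom := by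
        calc (partι _ hC ((yon S).map r') h ≫ r ≫ s) ≫ (ρ g).hom
            = partι _ hC ((yon S).map r') h ≫ r ≫ t := by
              rw [hrt]; simp only [Category.assoc]
          _ = (partι _ hC ((yon S).map r') h ≫ r') ≫ t := by rw [htt, Category.assoc]
          _ = (partι _ hC ((yon S).map r') h ≫ r' ≫ s) ≫ (ρ h).hom := by
              rw [e2, Category.assoc, ht]
          _ = _ := by rw [hss]
      exact congrArg (fun f => f.left) h3
    subst hgh
    calc partι _ hC ((yon S).map r') g ≫ r
        = (partι _ hC ((yon S).map r') g ≫ r' ≫ s) ≫ c.inj g := by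
          conv_lhs => rw [hr]
          rw [hss]; simp only [Category.assoc]
      _ = partι _ hC ((yon S).map r') g ≫ r' := e2.symm
  · haveI : IsEmpty (partOver _ hC ((yon S).map r') h).left := not_nonempty_iff.1 hne
    ext
    exact (isInitialOfIsEmpty (X := (partOver _ hC ((yon S).map r') h).left)).hom_ext _ _

include hc hs ht hfree in
theorem isEtaleEqvRel : IsEtaleEqvRel s t := by
  obtain ⟨hC⟩ := nonempty_isColimit_yon c hc
  have hσs : Cofan.IsColimit.desc hc (fun g => (ρ g).hom ≫ c.inj g⁻¹) ≫ s = t := by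
    refine Cofan.IsColimit.hom_ext hc _ _ (fun g => ?_)
    rw [← Category.assoc, Cofan.IsColimit.fac, Category.assoc, hs, Category.comp_id, ht]
  have hσt : Cofan.IsColimit.desc hc (fun g => (ρ g).hom ≫ c.inj g⁻¹) ≫ t = s := by
    refine Cofan.IsColimit.hom_ext hc _ _ (fun g => ?_)
    rw [← Category.assoc, Cofan.IsColimit.fac, Category.assoc, ht, hs, map_inv]
    exact (ρ g).hom_inv_id
  have hτs : ∀ g, Cofan.IsColimit.desc hc (fun h => c.inj (g * h)) ≫ s = s := by
    intro g
    refine Cofan.IsColimit.hom_ext hc _ _ (fun h => ?_)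
    rw [← Category.assoc, Cofan.IsColimit.fac, hs, hs]
  have hτt : ∀ g, Cofan.IsColimit.desc hc (fun h => c.inj (g * h)) ≫ t = t ≫ (ρ g).hom := by
    intro g
    refine Cofan.IsColimit.hom_ext hc _ _ (fun h => ?_)
    rw [← Category.assoc, Cofan.IsColimit.fac, ht, ← Category.assoc, ht, map_mul]
    rfl
  refine { injective := ?_, equivalence := ?_, etale_left := ?_, etale_right := ?_ }
  · intro T r r' htt hss
    refine over_hom_ext_parts _ hC ((yon S).map r) r r' (fun g => ?_)
    refine inj_aux ρ c s t hs ht hfree hC _ _ ?_ ?_ g ?_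
    · rw [Category.assoc, htt, Category.assoc]
    · rw [Category.assoc, hss, Category.assoc]
    · rw [Category.assoc]
      exact partι_comp c s hs hC r g
  · intro T
    refine ⟨?_, ?_, ?_⟩
    · intro a
      refine ⟨a ≫ c.inj 1, ?_, ?_⟩
      · rw [Category.assoc, ht, map_one]
        exact Category.comp_id a
      · rw [Category.assoc, hs, Category.comp_id]
    · rintro a b ⟨r, h1, h2⟩
      refine ⟨r ≫ Cofan.IsColimit.desc hc (fun g => (ρ g).hom ≫ c.inj g⁻¹), ?_, ?_⟩
      · rw [Category.assoc, hσt, h2]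
      · rw [Category.assoc, hσs, h1]
    · rintro a b d ⟨r₁, h1, h2⟩ ⟨r₂, h3, h4⟩
      obtain ⟨r₃, hr₃⟩ := exists_desc_parts _ hC ((yon S).map r₁)
        (fun g => partι _ hC ((yon S).map r₁) g ≫ r₂ ≫
          Cofan.IsColimit.desc hc (fun h => c.inj (g * h)))
      refine ⟨r₃, ?_, ?_⟩
      · refine over_hom_ext_parts _ hC ((yon S).map r₁) _ _ (fun g => ?_)
        have e1 := partι_comp c s hs hC r₁ g
        calc partι _ hC ((yon S).map r₁) g ≫ r₃ ≫ t
            = partι _ hC ((yon S).map r₁) g ≫ r₂ ≫ t ≫ (ρ g).hom := by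
              rw [← Category.assoc, hr₃]; simp only [Category.assoc]; rw [hτt]
          _ = (partι _ hC ((yon S).map r₁) g ≫ r₁ ≫ s) ≫ (ρ g).hom := by
              rw [h2, ← Category.assoc r₂, h3, Category.assoc]
          _ = (partι _ hC ((yon S).map r₁) g ≫ r₁) ≫ t := by
              rw [e1]; simp only [Category.assoc, ht]
          _ = partι _ hC ((yon S).map r₁) g ≫ a := by rw [Category.assoc, h1]
      · refine over_hom_ext_parts _ hC ((yon S).map r₁) _ _ (fun g => ?_)
        rw [← Category.assoc, hr₃]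
        simp only [Category.assoc]
        rw [hτs, h4]
  · exact etale_left_of_components c hc s (fun g => by rw [hs]; dsimp; infer_instance)
  · exact etale_left_of_components c hc t (fun g => by
      rw [ht]
      haveI : IsIso (ρ g).hom.left := inferInstanceAs (IsIso ((Over.forget S).map (ρ g).hom))
      infer_instance)

end Groth.Agent.Lib.AlgSpFreeActionH7
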