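import Groth.Agent.Lib.AlgSpResidual_helper7
import Groth.Agent.Lib.AlgSpCov_helper7
import Groth.Agent.Lib.AlgSpDescent_helper7
import Mathlib.CategoryTheory.Sites.Subsheaf

/-!
# Images of morphisms from schemes to algebraic spaces (helper7)

If `m : h_T₀ ⟶ X` is a morphism to an algebraic space such that the projection
`h_T₀ ×_X h_T₀ ⟶ h_T₀` is etale and surjective, then the sheaf image of `m` is an algebraic space
with etale atlas `h_T₀`.  This is applied to construct residual spaces.
-/

set_option autoImplicit false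
universe u
open CategoryTheory CategoryTheory.Limits AlgebraicGeometry Opposite

namespace Groth.Agent.Lib.AlgSpImage_helper7

open AlgSp Groth.Agent.Lib.AlgSpPoints_helper7 Groth.Agent.Lib.AlgSpTop_helper7
  Groth.Agent.Lib.AlgSpPullback_helper7 Groth.Agent.Lib.AlgSpBasic_helper7
  Groth.Agent.Lib.AlgSpLocP_helper7 Groth.Agent.Lib.AlgSpLocP4_helper7
  Groth.Agent.Lib.AlgSpLocP6_helper7 Groth.Agent.Lib.AlgSpLocP7_helper7
  Groth.Agent.Lib.AlgSpEtale_helper7 Groth.Agent.Lib.AlgSpSrc_helper7
  Groth.Agent.Lib.AlgSpFieldFlat_helper7 Groth.Agent.Lib.AlgSpOnePt_helper7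
  Groth.Agent.Lib.AlgSpOpenSub_helper7 Groth.Agent.Lib.AlgSpDescent_helper7

variable {S : Scheme.{u}}

/-- A property of morphisms of schemes which is Zariski local on the target and descends along
fppf coverings consisting of a single morphism descends along arbitrary fppf covering families. -/
theorem of_forall_exists_fppf (P : MorphismProperty Scheme.{u}) [IsZariskiLocalAtTarget P]
    [P.DescendsAlong (@Surjective ⊓ @Flat ⊓ @LocallyOfFinitePresentation)]
    {V T : Scheme.{u}} (f : V ⟶ T)
    (h : ∀ τ : T, ∃ (T' : Scheme.{u}) (c : T' ⟶ T), Flat c ∧ LocallyOfFinitePresentation c ∧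
      τ ∈ Set.range c ∧ ∃ (A : Scheme.{u}) (a₁ : A ⟶ V) (a₂ : A ⟶ T'),
        IsPullback a₁ a₂ f c ∧ P a₂) : P f := by
  choose T' c hfl hfp hmem A a₁ a₂ hsq hP using h
  have hopen : ∀ τ, IsOpen (Set.range (c τ)) := fun τ => by
    haveI := hfl τ
    haveI := hfp τ
    exact (c τ).isOpenMap.isOpen_range
  let W : T → T.Opens := fun τ => ⟨Set.range (c τ), hopen τ⟩
  have hW : iSup W = ⊤ := by
    rw [eq_top_iff]
    intro τ _
    exact TopologicalSpace.Opens.mem_iSup.2 ⟨τ, hmem τ⟩
  refine IsZariskiLocalAtTarget.of_iSup_eq_top W hW fun τ => ?_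
  haveI := hfl τ
  haveI := hfp τ
  have hrange : Set.range (c τ) ⊆ Set.range (W τ).ι := by
    rw [Scheme.Opens.range_ι]
    rfl
  let c' : T' τ ⟶ (W τ).toScheme := IsOpenImmersion.lift (W τ).ι (c τ) hrange
  have hc' : c' ≫ (W τ).ι = c τ := IsOpenImmersion.lift_fac _ _ _
  have hc'fl : Flat c' :=
    MorphismProperty.of_postcomp (W := @Flat) (W' := @IsOpenImmersion) c' (W τ).ι inferInstance
      (by rw [hc']; infer_instance)
  have hc'fp : LocallyOfFinitePresentation c' :=
    MorphismProperty.of_postcomp (W := @LocallyOfFinitePresentation) (W' := @IsOpenImmersion)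
      c' (W τ).ι inferInstance (by rw [hc']; infer_instance)
  have hc's : Surjective c' := ⟨fun w => by
    obtain ⟨t, ht⟩ := w.2
    refine ⟨t, ?_⟩
    apply (W τ).ι.isOpenEmbedding.injective
    rw [← Scheme.Hom.comp_apply, hc']
    exact ht⟩
  have sqR := (isPullback_morphismRestrict f (W τ)).flip
  let l : A τ ⟶ (f ⁻¹ᵁ W τ).toScheme := sqR.lift (a₁ τ) (a₂ τ ≫ c')
    (by rw [Category.assoc, hc', (hsq τ).w])
  have hl1 : l ≫ (f ⁻¹ᵁ W τ).ι = a₁ τ := sqR.lift_fst _ _ _
  have hl2 : l ≫ (f ∣_ W τ) = a₂ τ ≫ c' := sqR.lift_snd _ _ _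
  have big : IsPullback (l ≫ (f ⁻¹ᵁ W τ).ι) (a₂ τ) f (c' ≫ (W τ).ι) := by
    rw [hl1, hc']
    exact hsq τ
  have sq := IsPullback.of_right big hl2 sqR
  exact MorphismProperty.of_isPullback_of_descendsAlong (P := P)
    (Q := @Surjective ⊓ @Flat ⊓ @LocallyOfFinitePresentation) sq.flip ⟨⟨hc's, hc'fl⟩, hc'fp⟩ (hP τ)

/-- The base change of the inclusion of a point along a morphism from a discrete scheme whose
local rings are fields is an open immersion. -/
theorem isOpenImmersion_of_isPullback_fromSpecResidueField {F U R' : Scheme.{u}}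
    [DiscreteTopology ↥F] (hF : ∀ y : ↥F, IsField ↥(F.presheaf.stalk y)) {g : F ⟶ U} {u : ↥U}
    {π₁ : R' ⟶ F} {π₂ : R' ⟶ Spec (U.residueField u)} {j : Spec (U.residueField u) ⟶ U}
    (hj : j = U.fromSpecResidueField u)
    (sq : IsPullback π₁ π₂ g j) : IsOpenImmersion π₁ := by
  subst hj
  haveI : IsPreimmersion π₁ :=
    MorphismProperty.of_isPullback (P := @IsPreimmersion) sq.flip inferInstance
  have hemb : Topology.IsOpenEmbedding π₁ := ⟨π₁.isEmbedding, isOpen_discrete _⟩
  haveI : ∀ x, IsIso (π₁.stalkMap x) := fun x => by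
    letI : Field ↥(F.presheaf.stalk (π₁ x)) := (hF (π₁ x)).toField
    rw [ConcreteCategory.isIso_iff_bijective]
    exact ⟨(π₁.stalkMap x).hom.injective, π₁.stalkMap_surjective x⟩
  exact IsOpenImmersion.of_isIso_stalkMap π₁ hemb

/-- A morphism is representable if its composition with a monomorphism is. -/
theorem representable_of_comp_mono {F Z X : Sp S} (c : F ⟶ Z) (i : Z ⟶ X) [Mono i]
    (h : Representable (c ≫ i)) : Representable c := by
  intro T' c'
  obtain ⟨b, snd, fst, sq⟩ := h (c' ≫ i)
  exact ⟨b, snd, fst, (isPullback_comp_mono_iff i).1 sq⟩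

set_option backward.isDefEq.respectTransparency.types false in
/-- Sections of the target of an epimorphism of fppf sheaves lift fppf locally. -/
theorem exists_local_lift_of_epi {F Z : Sp S} (q : F ⟶ Z) [Epi q] {T : Over S}
    (t : (yon S).obj T ⟶ Z) (τ : ↥T.left) :
    ∃ (T' : Over S) (c : T' ⟶ T) (l : (yon S).obj T' ⟶ F), Flat c.left ∧
      LocallyOfFinitePresentation c.left ∧ τ ∈ Set.range c.left ∧
      l ≫ q = (yon S).map c ≫ t := by
  have hloc : Sheaf.IsLocallySurjective q := (Sheaf.isLocallySurjective_iff_epi q).2 inferInstance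
  have hmem := Presheaf.imageSieve_mem (J S) q.hom (U := op T) (yE t)
  have h0 : MorphismProperty.IsMultiplicative
      (@LocallyOfFinitePresentation : MorphismProperty Scheme.{u}) :=
    { id_mem := fun _ => inferInstance }
  have : Scheme.fppfPrecoverage.{u}.HasIsos := by
    unfold Scheme.fppfPrecoverage
    infer_instance
  have : Scheme.fppfPrecoverage.{u}.HasPullbacks := by
    unfold Scheme.fppfPrecoverage
    infer_instance
  rw [J_eq, GrothendieckTopology.mem_over_iff,
    Precoverage.mem_toGrothendieck_iff_of_isStableUnderComposition] at hmem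
  obtain ⟨Rp, hRp, hle⟩ := hmem
  obtain ⟨ι, Y, f, rfl⟩ := Rp.exists_eq_ofArrows
  have hRp' := (Scheme.ofArrows_mem_precoverage_iff _).1 hRp
  obtain ⟨hsurj, hprop⟩ := hRp'
  obtain ⟨k, hk⟩ := hsurj τ
  have hin := hle _ (f k) (Presieve.ofArrows.mk k)
  rw [Sieve.overEquiv_iff] at hin
  obtain ⟨r, hr⟩ := hin
  refine ⟨Over.mk (f k ≫ T.hom), Over.homMk (f k), yE.symm r, (hprop k).1, (hprop k).2, hk, ?_⟩
  apply yE.injective
  rw [yE_comp, Equiv.apply_symm_apply, hr]
  have h1 := yE_symm_map (X := Z) (Over.homMk (f k) : Over.mk (f k ≫ T.hom) ⟶ T) (yE t)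
  rw [Equiv.symm_apply_apply] at h1
  rw [h1, Equiv.apply_symm_apply]

/-- If `q : h_T₀ ⟶ Z` is a representable epimorphism of sheaves whose kernel pair is represented
by a scheme with projection having a property `P` which descends along fppf coverings, then `q`
has `P`. -/
theorem repWith_of_epi_of_isPullback (P : MorphismProperty Scheme.{u}) [P.IsStableUnderBaseChange]
    [IsZariskiLocalAtTarget P]
    [P.DescendsAlong (@Surjective ⊓ @Flat ⊓ @LocallyOfFinitePresentation)]
    {Z : Sp S} {T₀ R' : Over S} (q : (yon S).obj T₀ ⟶ Z) (hq : Representable q) [Epi q]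
    (π₂ pr : R' ⟶ T₀) (sq : IsPullback ((yon S).map π₂) ((yon S).map pr) q q)
    (hpr : P pr.left) : RepWith P q := by
  refine ⟨hq, fun T V t fst snd sqV => ?_⟩
  apply of_forall_exists_fppf P snd.left
  intro τ
  obtain ⟨T', c, l, hfl, hfp, hτ, hl⟩ := exists_local_lift_of_epi q t τ
  obtain ⟨lam, rfl⟩ := (yon S).map_surjective l
  have sqA : IsPullback ((yon S).map (pullback.snd lam pr) ≫ (yon S).map π₂)
      ((yon S).map (pullback.fst lam pr)) q ((yon S).map lam ≫ q) :=
    ((IsPullback.of_hasPullback lam pr).map (yon S)).flip.paste_horiz sq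
  have sqB : IsPullback ((yon S).map (pullback.fst snd c) ≫ fst)
      ((yon S).map (pullback.snd snd c)) q ((yon S).map c ≫ t) :=
    ((IsPullback.of_hasPullback snd c).map (yon S)).paste_horiz sqV
  rw [← hl] at sqB
  have hA : P (pullback.fst lam pr).left :=
    P.of_isPullback ((IsPullback.of_hasPullback lam pr).map (Over.forget S)).flip hpr
  have hB : P (pullback.snd snd c).left := (property_iff_of_isPullback P sqA sqB).1 hA
  exact ⟨T'.left, c.left, hfl, hfp, hτ, (pullback snd c).left, (pullback.fst snd c).left,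
    (pullback.snd snd c).left, (IsPullback.of_hasPullback snd c).map (Over.forget S), hB⟩

/-- The image of a morphism from a scheme to an algebraic space whose kernel pair has etale
surjective projections is an algebraic space, with the scheme as an atlas. -/
theorem isAlgSpace_image {X : Sp S} (hX : IsAlgSpace X) {T₀ R' : Over S}
    (m : (yon S).obj T₀ ⟶ X) (π₂ pr : R' ⟶ T₀)
    (sq : IsPullback ((yon S).map π₂) ((yon S).map pr) m m)
    (hpe : Etale pr.left) (hps : Surjective pr.left) :
    IsAlgSpace (Sheaf.image m) ∧ RepWith @Etale (Sheaf.toImage m) ∧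
      RepWith @Surjective (Sheaf.toImage m) := by
  have hrep : ∀ {T : Over S} (c : (yon S).obj T ⟶ Sheaf.image m), Representable c := fun c =>
    representable_of_comp_mono c (Sheaf.imageι m) (hX.representable_from_yon _)
  have sq' : IsPullback ((yon S).map π₂) ((yon S).map pr) (Sheaf.toImage m)
      (Sheaf.toImage m) := by
    apply (isPullback_comp_mono_iff (Sheaf.imageι m)).1
    rw [Sheaf.toImage_ι]
    exact sq
  have he := repWith_of_epi_of_isPullback @Etale _ (hrep _) π₂ pr sq' hpe
  have hs := repWith_of_epi_of_isPullback @Surjective _ (hrep _) π₂ pr sq' hps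
  exact ⟨⟨Functor.relativelyRepresentable.diag_of_map_from_obj (fun _ c => hrep c),
    ⟨T₀, _, he, hs⟩⟩, he, hs⟩

/-- The kernel pair of the inclusion of a point of an etale chart into an algebraic space has
etale surjective projections. -/
theorem exists_residual_chart {X : Sp S} {U : Over S}
    (a : (yon S).obj U ⟶ X) (hae : RepWith @Etale a) (u : ↥U.left) :
    ∃ (ι : Over.mk (U.left.fromSpecResidueField u ≫ U.hom) ⟶ U) (R' : Over S)
      (π₂ pr : R' ⟶ Over.mk (U.left.fromSpecResidueField u ≫ U.hom)),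
      ι.left = U.left.fromSpecResidueField u ∧
      IsPullback ((yon S).map π₂) ((yon S).map pr) ((yon S).map ι ≫ a) ((yon S).map ι ≫ a) ∧
      Etale pr.left ∧ Surjective pr.left := by
  obtain ⟨ι, hι⟩ : ∃ ι : Over.mk (U.left.fromSpecResidueField u ≫ U.hom) ⟶ U,
      ι.left = U.left.fromSpecResidueField u := ⟨Over.homMk _ rfl, rfl⟩
  obtain ⟨m, hm⟩ : ∃ m, m = (yon S).map ι ≫ a := ⟨_, rfl⟩
  have sqF : IsPullback ((yon S).map (hae.rep.fst' m)) ((yon S).map (hae.rep.snd m)) a m :=
    hae.rep.isPullback' m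
  have hee : Etale (hae.rep.snd m).left := hae.property_snd m
  haveI : DiscreteTopology ↥(hae.rep.pullback m).left :=
    discreteTopology_of_etale_field (K := ↥(U.left.residueField u)) (hae.rep.snd m).left
  haveI : IsReduced (hae.rep.pullback m).left :=
    isReduced_of_etale_field (K := ↥(U.left.residueField u)) (hae.rep.snd m).left
  have hFfield : ∀ y : ↥(hae.rep.pullback m).left,
      IsField ↥((hae.rep.pullback m).left.presheaf.stalk y) :=
    isField_stalk_of_no_specializations (fun _ _ h => h.eq)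
  have sqO := IsPullback.of_hasPullback (hae.rep.fst' m) ι
  have sqS : IsPullback (pullback.fst (hae.rep.fst' m) ι).left (pullback.snd (hae.rep.fst' m) ι).left
      (hae.rep.fst' m).left ι.left := sqO.map (Over.forget S)
  haveI : IsOpenImmersion (pullback.fst (hae.rep.fst' m) ι).left :=
    isOpenImmersion_of_isPullback_fromSpecResidueField hFfield hι sqS
  have hpe : Etale (pullback.fst (hae.rep.fst' m) ι ≫ hae.rep.snd m).left := by
    rw [Over.comp_left]
    infer_instance
  have sq : IsPullback ((yon S).map (pullback.snd (hae.rep.fst' m) ι))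
      ((yon S).map (pullback.fst (hae.rep.fst' m) ι ≫ hae.rep.snd m)) m m := by
    have h := (sqO.map (yon S)).flip.paste_vert sqF
    rw [← hm, ← Functor.map_comp] at h
    exact h
  refine ⟨ι, pullback (hae.rep.fst' m) ι, pullback.snd (hae.rep.fst' m) ι,
    pullback.fst (hae.rep.fst' m) ι ≫ hae.rep.snd m, hι, hm ▸ sq, hpe, ?_⟩
  obtain ⟨d, hd⟩ := (yon S).map_surjective (sq.lift (𝟙 _) (𝟙 _) rfl)
  refine ⟨fun y => ⟨d.left (IsLocalRing.closedPoint ↥(U.left.residueField u)), ?_⟩⟩
  exact Subsingleton.elim (α := PrimeSpectrum ↥(U.left.residueField u)) _ _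

end Groth.Agent.Lib.AlgSpImage_helper7
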