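import Groth.Agent.Lib.AlgSpPullback_helper7
import Groth.Agent.Lib.AlgSpReduced_helper7

/-!
# Charts of `X ⨯ h_Y` from charts of `X` (helper7)

For a sheaf `X` over `S`, a chart `a : h_U ⟶ X` and a scheme `Y` over `S`, the map
`h_{U × Y} ⟶ X ⨯ h_Y` is a base change of `a`; hence it inherits every representable property.
-/

set_option autoImplicit false
universe u
open CategoryTheory CategoryTheory.Limits AlgebraicGeometry Opposite

namespace Groth.Agent.Lib.AlgSpProdChartH7

open AlgSp Groth.Agent.Lib.AlgSpPoints_helper7 Groth.Agent.Lib.AlgSpQC_helper7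
  Groth.Agent.Lib.AlgSpPullback_helper7

section General

universe v w
variable {C : Type w} [Category.{v} C] [HasBinaryProducts C]

/-- `A ⨯ B` is the pullback of `X ⨯ B ⟶ X` along `a : A ⟶ X`. -/
theorem isPullback_prod_map {A X : C} (a : A ⟶ X) (B : C) :
    IsPullback (prod.fst : A ⨯ B ⟶ A) (prod.map a (𝟙 B)) a (prod.fst : X ⨯ B ⟶ X) := by
  have w : (prod.fst : A ⨯ B ⟶ A) ≫ a = prod.map a (𝟙 B) ≫ (prod.fst : X ⨯ B ⟶ X) := by
    rw [prod.map_fst]
  refine ⟨⟨w⟩, ⟨PullbackCone.IsLimit.mk w (fun s => prod.lift s.fst (s.snd ≫ prod.snd)) ?_ ?_ ?_⟩⟩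
  · intro s
    rw [prod.lift_fst]
  · intro s
    apply prod.hom_ext
    · rw [Category.assoc, prod.map_fst, prod.lift_fst_assoc, s.condition]
    · rw [Category.assoc, prod.map_snd, prod.lift_snd_assoc, Category.comp_id]
  · intro s m h1 h2
    apply prod.hom_ext
    · rw [prod.lift_fst, h1]
    · rw [prod.lift_snd, ← h2, Category.assoc, prod.map_snd, Category.comp_id]

end General

variable {S : Scheme.{u}}

/-- The chart `h_{U × Y} ⟶ X ⨯ h_Y` induced by a chart `a : h_U ⟶ X`. -/
noncomputable def bcChart {X : Sp S} {U : Over S} (a : (yon S).obj U ⟶ X) (Y : Over S) :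
    (yon S).obj (U ⨯ Y) ⟶ X ⨯ (yon S).obj Y :=
  prod.lift ((yon S).map prod.fst ≫ a) ((yon S).map prod.snd)

@[reassoc]
theorem bcChart_fst {X : Sp S} {U : Over S} (a : (yon S).obj U ⟶ X) (Y : Over S) :
    bcChart a Y ≫ prod.fst = (yon S).map prod.fst ≫ a := prod.lift_fst _ _

@[reassoc]
theorem bcChart_snd {X : Sp S} {U : Over S} (a : (yon S).obj U ⟶ X) (Y : Over S) :
    bcChart a Y ≫ prod.snd = (yon S).map prod.snd := prod.lift_snd _ _

theorem isPullback_bcChart {X : Sp S} {U : Over S} (a : (yon S).obj U ⟶ X) (Y : Over S) :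
    IsPullback ((yon S).map (prod.fst : U ⨯ Y ⟶ U)) (bcChart a Y) a
      (prod.fst : X ⨯ (yon S).obj Y ⟶ X) := by
  have h := isPullback_prod_map a ((yon S).obj Y)
  refine h.of_iso (PreservesLimitPair.iso (yon S) U Y).symm (Iso.refl _) (Iso.refl _)
    (Iso.refl _) ?_ ?_ ?_ ?_
  · rw [Iso.refl_hom, Category.comp_id, Iso.symm_hom, PreservesLimitPair.iso_inv_fst]
  · rw [Iso.refl_hom, Category.comp_id, Iso.symm_hom]
    apply prod.hom_ext
    · rw [prod.map_fst, Category.assoc, bcChart_fst, PreservesLimitPair.iso_inv_fst_assoc]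
    · rw [prod.map_snd, Category.comp_id, Category.assoc, bcChart_snd,
        PreservesLimitPair.iso_inv_snd]
  · simp only [Iso.refl_hom, Category.comp_id, Category.id_comp]
  · simp only [Iso.refl_hom, Category.comp_id, Category.id_comp]

theorem repWith_bcChart (P : MorphismProperty Scheme.{u}) {X : Sp S} {U : Over S}
    {a : (yon S).obj U ⟶ X} (ha : RepWith P a) (Y : Over S) : RepWith P (bcChart a Y) :=
  repWith_snd_of_isPullback P (isPullback_bcChart a Y) ha

/-- The product of an algebraic space with a scheme over `S` is an algebraic space. -/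
theorem isAlgSpace_prod {X : Sp S} (hX : IsAlgSpace X) (Y : Over S) :
    IsAlgSpace (X ⨯ (yon S).obj Y) := by
  have t : IsTerminal ((yon S).obj (Over.mk (𝟙 S))) :=
    IsTerminal.isTerminalObj (yon S) _ Over.mkIdTerminal
  exact isAlgSpace_of_isPullback (IsAlgSpace.yon_obj _).diag hX (IsAlgSpace.yon_obj Y)
    (IsPullback.of_is_product' (prodIsProd _ _) t)

/-- `X ⨯ h_Y` is reduced iff `U ×_S Y` is reduced, for an atlas `U` of `X`. -/
theorem etaleLocally_isReduced_prod_iff {X : Sp S} (hX : IsAlgSpace X) {U : Over S}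
    (a : (yon S).obj U ⟶ X) (hae : RepWith @Etale a) (has : RepWith @Surjective a) (Y : Over S) :
    EtaleLocally (fun V => IsReduced V) (X ⨯ (yon S).obj Y) ↔
      IsReduced (pullback U.hom Y.hom) := by
  constructor
  · intro h
    haveI : IsReduced (U ⨯ Y).left :=
      Groth.Agent.Lib.AlgSpReduced_helper7.isReduced_chart_of_isReducedSp (isAlgSpace_prod hX Y) h
        (bcChart a Y) (repWith_bcChart @Etale hae Y)
    exact isReduced_of_isOpenImmersion (Over.prodLeftIsoPullback U Y).inv
  · intro h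
    haveI := h
    exact ⟨U ⨯ Y, bcChart a Y, repWith_bcChart @Etale hae Y, repWith_bcChart @Surjective has Y,
      isReduced_of_isOpenImmersion (Over.prodLeftIsoPullback U Y).hom⟩

end Groth.Agent.Lib.AlgSpProdChartH7
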