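import Groth.Agent.Lib.AlgSpGlue_helper7
import Mathlib.CategoryTheory.Sites.LocallyInjective
import Mathlib.AlgebraicGeometry.Morphisms.FlatDescent
import Mathlib.AlgebraicGeometry.Morphisms.LocalFlatDescent

/-!
# Effectiveness of equivalence relations on schemes in fppf sheaves (helper7)

* `isLocalAtTarget_fppf_of_descendsAlong`: properties that descend along fppf coverings are
  local at the target for the fppf precoverage.
* `isPullback_of_isEqvRel`: if `s, t : R ⟶ U` is an equivalence relation over `S` and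
  `p : h_U ⟶ Q` is a (weak) coequalizer of `h_s, h_t` in fppf sheaves, then
  `h_R = h_U ×_Q h_U`.
* `isPullback_quot`: the case of `QuotSh.quot`.
-/

set_option autoImplicit false
universe u
open CategoryTheory CategoryTheory.Limits AlgebraicGeometry Opposite

namespace Groth.Agent.Lib.AlgSpQuotEffH7

open AlgSp Groth.Agent.Lib.AlgSpOpenSub_helper7 Groth.Agent.Lib.AlgSpGlueH7
  Groth.Agent.Lib.AlgSpPullback_helper7

section Local

open MorphismProperty

theorem isLocalAtTarget_fppf_of_descendsAlong (P : MorphismProperty Scheme.{u})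
    [IsZariskiLocalAtTarget P] [P.IsStableUnderBaseChange]
    [P.DescendsAlong (@Surjective ⊓ @Flat ⊓ @LocallyOfFinitePresentation)] :
    P.IsLocalAtTarget Scheme.fppfPrecoverage := by
  haveI : Precoverage.Small.{u} Scheme.fppfPrecoverage.{u} := by
    unfold Scheme.fppfPrecoverage
    infer_instance
  refine MorphismProperty.IsLocalAtTarget.mk_of_small.{u}
    (fun 𝒰 hf i => P.pullback_snd _ _ hf) (fun {X Y f} 𝒰 h => ?_)
  have hmem := 𝒰.mem₀
  unfold Scheme.fppfPrecoverage at hmem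
  rw [Scheme.presieve₀_mem_precoverage_iff] at hmem
  obtain ⟨hsurj, hP⟩ := hmem
  have hσ : (@Surjective ⊓ @Flat ⊓ @LocallyOfFinitePresentation : MorphismProperty Scheme.{u})
      (Sigma.desc 𝒰.f) := by
    refine ⟨⟨⟨fun y => ?_⟩, IsZariskiLocalAtSource.sigmaDesc (fun i => (hP i).1)⟩,
      IsZariskiLocalAtSource.sigmaDesc (fun i => (hP i).2)⟩
    obtain ⟨i, x, hx⟩ := hsurj y
    refine ⟨(Sigma.ι 𝒰.X i) x, ?_⟩
    rw [← Scheme.Hom.comp_apply, Sigma.ι_desc]
    exact hx
  have h2 : P (pullback.snd f (Sigma.desc 𝒰.f)) := by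
    refine IsZariskiLocalAtTarget.of_openCover (sigmaOpenCover 𝒰.X) (fun i => ?_)
    have big : IsPullback (pullback.fst (pullback.snd f (Sigma.desc 𝒰.f)) (Sigma.ι 𝒰.X i) ≫
        pullback.fst f (Sigma.desc 𝒰.f))
        (pullback.snd (pullback.snd f (Sigma.desc 𝒰.f)) (Sigma.ι 𝒰.X i)) f (𝒰.f i) := by
      have := (IsPullback.of_hasPullback (pullback.snd f (Sigma.desc 𝒰.f))
        (Sigma.ι 𝒰.X i)).paste_horiz (IsPullback.of_hasPullback f (Sigma.desc 𝒰.f))
      rwa [Sigma.ι_desc] at this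
    have e1 : pullback.snd (pullback.snd f (Sigma.desc 𝒰.f)) (Sigma.ι 𝒰.X i) =
        big.isoPullback.hom ≫ pullback.snd f (𝒰.f i) := big.isoPullback_hom_snd.symm
    change P (pullback.snd (pullback.snd f (Sigma.desc 𝒰.f)) (Sigma.ι 𝒰.X i))
    rw [e1]
    exact (P.cancel_left_of_respectsIso _ _).2 (h i)
  exact MorphismProperty.of_pullback_snd_of_descendsAlong hσ h2

instance etale_isLocalAtTarget_fppf :
    MorphismProperty.IsLocalAtTarget (@Etale : MorphismProperty Scheme.{u})
      Scheme.fppfPrecoverage :=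
  isLocalAtTarget_fppf_of_descendsAlong _

instance surjective_isLocalAtTarget_fppf :
    MorphismProperty.IsLocalAtTarget (@Surjective : MorphismProperty Scheme.{u})
      Scheme.fppfPrecoverage :=
  isLocalAtTarget_fppf_of_descendsAlong _

end Local

variable {S : Scheme.{u}} {R U : Over S} (s t : R ⟶ U)

/-- The relation on `T`-points of `U` defined by `R`. -/
def rel (T : Over S) (a b : T ⟶ U) : Prop := ∃ r : T ⟶ R, r ≫ t = a ∧ r ≫ s = b

lemma rel_comp {T T' : Over S} (m : T' ⟶ T) {a b : T ⟶ U} (h : rel s t T a b) :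
    rel s t T' (m ≫ a) (m ≫ b) := by
  obtain ⟨r, h1, h2⟩ := h
  exact ⟨m ≫ r, by rw [Category.assoc, h1], by rw [Category.assoc, h2]⟩

/-- The presheaf quotient `T ↦ U(T)/R(T)`. -/
noncomputable def Q₀ : (Over S)ᵒᵖ ⥤ Type (u + 1) where
  obj T := Quot (fun a b : ULift.{u + 1} (T.unop ⟶ U) => rel s t T.unop a.down b.down)
  map {T T'} m := ↾(Quot.map (fun a => (⟨m.unop ≫ a.down⟩ : ULift.{u + 1} (T'.unop ⟶ U)))
    (fun a b h => rel_comp s t m.unop h))
  map_id T := by
    ext x
    obtain ⟨a, rfl⟩ := Quot.exists_rep x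
    show Quot.mk _ _ = Quot.mk _ _
    refine congrArg (Quot.mk _) (ULift.ext _ _ ?_)
    simp
  map_comp {T T' T''} m n := by
    ext x
    obtain ⟨a, rfl⟩ := Quot.exists_rep x
    show Quot.mk _ _ = Quot.mk _ _
    refine congrArg (Quot.mk _) (ULift.ext _ _ ?_)
    simp

/-- The quotient map of presheaves. -/
noncomputable def π₀ : ((yon S).obj U).obj ⟶ Q₀ s t where
  app T := ↾(fun a => Quot.mk _ a)
  naturality T T' m := by
    ext a
    rfl

/-- The sheafified quotient. -/
noncomputable def Q₁ : Sp S := (presheafToSheaf (J S) (Type (u + 1))).obj (Q₀ s t)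

/-- The map `h_U ⟶ Q₁`. -/
noncomputable def g₁ : (yon S).obj U ⟶ Q₁ s t :=
  ObjectProperty.homMk (π₀ s t ≫ toSheafify (J S) (Q₀ s t))

lemma g₁_app {T : Over S} (a : T ⟶ U) :
    yE ((yon S).map a ≫ g₁ s t) =
      (toSheafify (J S) (Q₀ s t)).app (op T) (Quot.mk _ (ULift.up a)) := by
  rw [yE_comp, yE_yon_map]
  rfl

lemma g₁_condition : (yon S).map s ≫ g₁ s t = (yon S).map t ≫ g₁ s t := by
  apply yE.injective
  rw [g₁_app, g₁_app]
  congr 1
  refine (Quot.sound ?_).symm
  exact ⟨𝟙 R, Category.id_comp _, Category.id_comp _⟩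

variable {s t}

/-- Two points identified in the sheaf quotient are locally related. -/
lemma exists_rel_of_eq (hR : IsEqvRel s t) {T : Over S} (a b : T ⟶ U)
    (h : (yon S).map a ≫ g₁ s t = (yon S).map b ≫ g₁ s t) :
    ∃ Sv ∈ J S T, ∀ ⦃T' : Over S⦄ (m : T' ⟶ T), Sv m → rel s t T' (m ≫ a) (m ≫ b) := by
  have h' := congrArg yE h
  rw [g₁_app, g₁_app] at h'
  have hmem := Presheaf.equalizerSieve_mem (J S) (toSheafify (J S) (Q₀ s t))
    (X := op T) _ _ h'
  refine ⟨_, hmem, fun T' m hm => ?_⟩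
  have hm' : Quot.mk (fun a b : ULift.{u + 1} (T' ⟶ U) => rel s t T' a.down b.down)
      (ULift.up (m ≫ a)) = Quot.mk _ (ULift.up (m ≫ b)) := hm
  have heq : Equivalence (fun a b : ULift.{u + 1} (T' ⟶ U) => rel s t T' a.down b.down) :=
    (hR.equivalence T').comap ULift.down
  exact (heq.quot_mk_eq_iff _ _).1 hm'

/-- **Effectiveness**: `h_R` is the kernel pair of a (weak) coequalizer of `h_s, h_t`. -/
theorem isPullback_of_isEqvRel (hR : IsEqvRel s t) {Q : Sp S} (p : (yon S).obj U ⟶ Q)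
    (w : (yon S).map s ≫ p = (yon S).map t ≫ p)
    (hdesc : ∀ {W : Sp S} (k : (yon S).obj U ⟶ W),
      (yon S).map s ≫ k = (yon S).map t ≫ k → ∃ c : Q ⟶ W, p ≫ c = k) :
    IsPullback ((yon S).map t) ((yon S).map s) p p := by
  obtain ⟨c, hc⟩ := hdesc (g₁ s t) (g₁_condition s t)
  refine isPullback_of_forall_yon w.symm (fun T α β hαβ => ?_)
  obtain ⟨a, rfl⟩ := (yon S).map_surjective α
  obtain ⟨b, rfl⟩ := (yon S).map_surjective β
  have hab : (yon S).map a ≫ g₁ s t = (yon S).map b ≫ g₁ s t := by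
    rw [← hc, ← Category.assoc, hαβ, Category.assoc]
  obtain ⟨Sv, hSv, hrel⟩ := exists_rel_of_eq hR a b hab
  choose r hr1 hr2 using hrel
  have hsh : Presieve.IsSheafFor ((yon S).obj R).obj Sv.arrows :=
    ((isSheaf_iff_isSheaf_of_type _ _).1 ((yon S).obj R).property) Sv hSv
  have hsep : Presieve.IsSeparatedFor ((yon S).obj U).obj Sv.arrows :=
    (((isSheaf_iff_isSheaf_of_type _ _).1 ((yon S).obj U).property) Sv hSv).isSeparatedFor
  let x : Presieve.FamilyOfElements ((yon S).obj R).obj Sv.arrows :=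
    fun T' m hm => ULift.up (r m hm)
  have hx : x.Compatible := by
    intro Y₁ Y₂ Z g₁' g₂' f₁ f₂ h₁ h₂ hcomm
    show ULift.up (g₁' ≫ r f₁ h₁) = ULift.up (g₂' ≫ r f₂ h₂)
    congr 1
    apply hR.injective
    · rw [Category.assoc, Category.assoc, hr1, hr1, ← Category.assoc, ← Category.assoc, hcomm]
    · rw [Category.assoc, Category.assoc, hr2, hr2, ← Category.assoc, ← Category.assoc, hcomm]
  have hglue : ∀ ⦃T' : Over S⦄ (m : T' ⟶ T) (hm : Sv m),
      ((yon S).obj R).obj.map m.op (hsh.amalgamate x hx) = x m hm :=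
    fun T' m hm => hsh.valid_glue hx m hm
  obtain ⟨ρ, hρ⟩ : ∃ ρ : T ⟶ R, ULift.up ρ = hsh.amalgamate x hx := ⟨(hsh.amalgamate x hx).down, rfl⟩
  have hρm : ∀ ⦃T' : Over S⦄ (m : T' ⟶ T) (hm : Sv m), m ≫ ρ = r m hm := by
    intro T' m hm
    have := hglue m hm
    rw [← hρ] at this
    exact congrArg ULift.down this
  have h1 : ρ ≫ t = a := by
    have : (ULift.up (ρ ≫ t) : ((yon S).obj U).obj.obj (op T)) = ULift.up a := by
      apply hsep.ext
      intro T' m hm
      show ULift.up (m ≫ ρ ≫ t) = ULift.up (m ≫ a)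
      rw [← Category.assoc, hρm m hm, hr1]
    exact congrArg ULift.down this
  have h2 : ρ ≫ s = b := by
    have : (ULift.up (ρ ≫ s) : ((yon S).obj U).obj.obj (op T)) = ULift.up b := by
      apply hsep.ext
      intro T' m hm
      show ULift.up (m ≫ ρ ≫ s) = ULift.up (m ≫ b)
      rw [← Category.assoc, hρm m hm, hr2]
    exact congrArg ULift.down this
  refine ⟨(yon S).map ρ, ⟨by rw [← Functor.map_comp, h1], by rw [← Functor.map_comp, h2]⟩, ?_⟩
  rintro ρ' ⟨h1', h2'⟩
  obtain ⟨ρ'', rfl⟩ := (yon S).map_surjective ρ'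
  congr 1
  apply hR.injective
  · apply (yon S).map_injective
    rw [h1, Functor.map_comp, h1']
  · apply (yon S).map_injective
    rw [h2, Functor.map_comp, h2']

section Quot

variable (s t)

local notation "repIso" => QuotSh.repIsoUliftYoneda Scheme.fppfPrecoverage

/-- Naturality of the identification of `QuotSh.rep` with `h_V`. -/
lemma yon_map_comp_repIso_inv {V W : Over S} (g : V ⟶ W) :
    (yon S).map g ≫ (repIso W).inv = (repIso V).inv ≫ QuotSh.repMap Scheme.fppfPrecoverage g :=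
  (sheafificationNatIso (J S) (Type (u + 1))).hom.naturality ((yon S).map g)

lemma repMap_comp_repIso_hom {V W : Over S} (g : V ⟶ W) :
    QuotSh.repMap Scheme.fppfPrecoverage g ≫ (repIso W).hom = (repIso V).hom ≫ (yon S).map g := by
  rw [← cancel_epi (repIso V).inv, ← Category.assoc, ← yon_map_comp_repIso_inv, Category.assoc,
    Iso.inv_hom_id, Category.comp_id, Iso.inv_hom_id_assoc]

/-- The quotient map `h_U ⟶ U/R`. -/
noncomputable def quotP : (yon S).obj U ⟶ QuotSh.quot Scheme.fppfPrecoverage s t :=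
  (repIso U).inv ≫ QuotSh.quotπ Scheme.fppfPrecoverage s t

lemma quotP_condition : (yon S).map s ≫ quotP s t = (yon S).map t ≫ quotP s t := by
  unfold quotP
  rw [← Category.assoc, yon_map_comp_repIso_inv, Category.assoc, QuotSh.quot_condition,
    ← Category.assoc, ← yon_map_comp_repIso_inv, Category.assoc]

lemma quotP_desc {W : Sp S} (k : (yon S).obj U ⟶ W)
    (hk : (yon S).map s ≫ k = (yon S).map t ≫ k) :
    ∃ c : QuotSh.quot Scheme.fppfPrecoverage s t ⟶ W, quotP s t ≫ c = k := by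
  have cond : QuotSh.repMap Scheme.fppfPrecoverage s ≫ (repIso U).hom ≫ k =
      QuotSh.repMap Scheme.fppfPrecoverage t ≫ (repIso U).hom ≫ k := by
    rw [← Category.assoc, repMap_comp_repIso_hom, ← Category.assoc, repMap_comp_repIso_hom,
      Category.assoc, Category.assoc, hk]
  refine ⟨(coequalizer.desc ((repIso U).hom ≫ k) cond :
    QuotSh.quot Scheme.fppfPrecoverage s t ⟶ W), ?_⟩
  unfold quotP QuotSh.quotπ
  rw [Category.assoc]
  erw [coequalizer.π_desc]
  rw [Iso.inv_hom_id_assoc]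

/-- `h_R = h_U ×_{U/R} h_U` for an equivalence relation. -/
theorem isPullback_quot (hR : IsEqvRel s t) :
    IsPullback ((yon S).map t) ((yon S).map s) (quotP s t) (quotP s t) :=
  isPullback_of_isEqvRel hR _ (quotP_condition s t) (quotP_desc s t)

lemma isLocallySurjective_quotP : Sheaf.IsLocallySurjective (quotP s t) := by
  have : Epi (quotP s t) := by
    haveI : Epi (QuotSh.quotπ Scheme.fppfPrecoverage s t) := by
      unfold QuotSh.quotπ QuotSh.quot
      exact coequalizer.π_epi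
    unfold quotP
    exact epi_comp _ _
  exact (Sheaf.isLocallySurjective_iff_epi _).2 this

end Quot

end Groth.Agent.Lib.AlgSpQuotEffH7
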