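import Groth.Agent.Lib.SepLqf7_helper7
import Groth.Agent.Lib.AlgSpLocP4_helper7
import Groth.Agent.Lib.AlgSpLocP7_helper7
import Groth.Agent.Lib.AlgSpPullback_helper7
import Groth.Agent.Lib.AlgSpAffineMor_helper7
import Groth.Agent.Lib.AlgSpEtale_helper7

/-!
# A sheaf with a representable étale surjective chart is an algebraic space (helper7)

The diagonal is obtained from: a monomorphism, locally of finite type, from an algebraic space to
a scheme is representable (`main10613`, `main10259`).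
-/

set_option autoImplicit false
set_option linter.style.haveILetI false
set_option backward.isDefEq.respectTransparency false
set_option backward.isDefEq.respectTransparency.types false
universe u
open CategoryTheory CategoryTheory.Limits AlgebraicGeometry Opposite MorphismProperty

namespace Groth.Agent.Lib.EtChartSpH7

open AlgSp Groth.Agent.Lib.AlgSpLocP4_helper7 Groth.Agent.Lib.AlgSpLocP7_helper7
  Groth.Agent.Lib.AlgSpPullback_helper7 Groth.Agent.Lib.AlgSpQC_helper7
  Groth.Agent.Lib.AlgSpPoints_helper7 Groth.Agent.Lib.SepLqf4H7 Groth.Agent.Lib.SepLqf6H7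
  Groth.Agent.Lib.SepLqf7H7 Groth.Agent.Lib.AlgSpBasic_helper7 Groth.Agent.Lib.AlgSpEtale_helper7
  Groth.Agent.Lib.AlgSpAffineMorH7

/-- scheme-level: the map `V₁ ×_U V₂ ⟶ T₁ ×_S T₂` is locally of finite type. -/
theorem lft_of_isPullback {W V₁ V₂ U T₁ T₂ S : Scheme.{u}} {w₁ : W ⟶ V₁} {w₂ : W ⟶ V₂}
    {g₁ : V₁ ⟶ U} {g₂ : V₂ ⟶ U} (sqW : IsPullback w₁ w₂ g₁ g₂) (u : U ⟶ S) (v₁ : V₁ ⟶ T₁)
    (v₂ : V₂ ⟶ T₂) (t₁ : T₁ ⟶ S) (t₂ : T₂ ⟶ S) (e₁ : g₁ ≫ u = v₁ ≫ t₁) (e₂ : g₂ ≫ u = v₂ ≫ t₂)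
    [LocallyOfFiniteType v₁] [LocallyOfFiniteType v₂] (h : W ⟶ pullback t₁ t₂)
    (h1 : h ≫ pullback.fst t₁ t₂ = w₁ ≫ v₁) (h2 : h ≫ pullback.snd t₁ t₂ = w₂ ≫ v₂) :
    LocallyOfFiniteType h := by
  let k : pullback g₁ g₂ ⟶ pullback (g₁ ≫ u) (g₂ ≫ u) :=
    pullback.map g₁ g₂ (g₁ ≫ u) (g₂ ≫ u) (𝟙 _) (𝟙 _) u (Category.id_comp _).symm
      (Category.id_comp _).symm
  let e : pullback (g₁ ≫ u) (g₂ ≫ u) ⟶ pullback t₁ t₂ :=
    pullback.map (g₁ ≫ u) (g₂ ≫ u) t₁ t₂ v₁ v₂ (𝟙 _) ((Category.comp_id _).trans e₁)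
      ((Category.comp_id _).trans e₂)
  have hk : IsImmersion k :=
    MorphismProperty.of_isPullback (P := @IsImmersion)
      (pullback_map_diagonal_isPullback g₁ g₂ u) inferInstance
  have he : LocallyOfFiniteType e :=
    MorphismProperty.pullbackMap (P := @LocallyOfFiniteType) ‹_› ‹_› e₁ e₂
  have hh : h = sqW.isoPullback.hom ≫ k ≫ e := by
    apply pullback.hom_ext
    · rw [h1]; simp [k, e]
    · rw [h2]; simp [k, e]
  rw [hh]
  infer_instance

variable {S : Scheme.{u}}

/-- A sheaf with a monomorphism to a scheme has representable diagonal. -/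
theorem representable_diag_of_mono {E : Sp S} {B : Over S} (m : E ⟶ (yon S).obj B) [Mono m] :
    Representable (Limits.diag E) := by
  refine Functor.relativelyRepresentable.diag_of_map_from_obj (fun a g a' g' => ?_)
  obtain ⟨V, p2, p1, sq⟩ := representable_of_yon (g ≫ m) (g' ≫ m)
  exact ⟨V, p2, p1, (isPullback_comp_mono_iff m).1 sq⟩

/-- If `F` has a representable étale surjective chart, every map from a scheme to `F` is
representable. -/
theorem representable_of_etale_chart {F : Sp S} {U : Over S} (c : (yon S).obj U ⟶ F)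
    (hce : RepWith @Etale c) (hcs : RepWith @Surjective c) {T₁ : Over S}
    (x₁ : (yon S).obj T₁ ⟶ F) : Representable x₁ := by
  intro T₂ x₂
  let V₁ := hce.rep.pullback x₁
  let v₁ : V₁ ⟶ T₁ := hce.rep.snd x₁
  let g₁ : V₁ ⟶ U := hce.rep.fst' x₁
  have sq₁ : IsPullback ((yon S).map g₁) ((yon S).map v₁) c x₁ := hce.rep.isPullback' _
  have hv₁e : Etale v₁.left := hce.property_snd _
  let V₂ := hce.rep.pullback x₂
  let v₂ : V₂ ⟶ T₂ := hce.rep.snd x₂
  let g₂ : V₂ ⟶ U := hce.rep.fst' x₂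
  have sq₂ : IsPullback ((yon S).map g₂) ((yon S).map v₂) c x₂ := hce.rep.isPullback' _
  have hv₂e : Etale v₂.left := hce.property_snd _
  have hv₂s : Surjective v₂.left := hcs.property _ _ _ (hce.rep.isPullback _)
  let W : Over S := pullback g₁ g₂
  let w₁ : W ⟶ V₁ := pullback.fst g₁ g₂
  let w₂ : W ⟶ V₂ := pullback.snd g₁ g₂
  have sqW0 : IsPullback w₁ w₂ g₁ g₂ := IsPullback.of_hasPullback g₁ g₂
  have sqW : IsPullback ((yon S).map w₁) ((yon S).map w₂) ((yon S).map g₁) ((yon S).map g₂) :=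
    sqW0.map (yon S)
  have sqA : IsPullback ((yon S).map w₁ ≫ (yon S).map v₁) ((yon S).map w₂) x₁
      ((yon S).map v₂ ≫ x₂) := by
    have := sqW.paste_horiz sq₁.flip
    rwa [sq₂.w] at this
  have sqE := IsPullback.of_hasPullback x₁ x₂
  obtain ⟨φ, sqφ, hφ1, hφ2⟩ : ∃ φ : (yon S).obj W ⟶ pullback x₁ x₂,
      IsPullback φ ((yon S).map w₂) (pullback.snd x₁ x₂) ((yon S).map v₂) ∧
      φ ≫ pullback.fst x₁ x₂ = (yon S).map w₁ ≫ (yon S).map v₁ ∧
      φ ≫ pullback.snd x₁ x₂ = (yon S).map w₂ ≫ (yon S).map v₂ :=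
    ⟨_, IsPullback.of_right' sqA sqE, sqE.lift_fst _ _ _, sqE.lift_snd _ _ _⟩
  have hφe : RepWith @Etale φ :=
    repWith_fst_of_isPullback _ sqφ ((repWith_yon_map_iff _ _).2 hv₂e)
  have hφs : RepWith @Surjective φ :=
    repWith_fst_of_isPullback _ sqφ ((repWith_yon_map_iff _ _).2 hv₂s)
  -- the monomorphism to the product
  let B : Over S := T₁ ⨯ T₂
  obtain ⟨m, hm⟩ : ∃ m : pullback x₁ x₂ ⟶ (yon S).obj B,
      m = prod.lift (pullback.fst x₁ x₂) (pullback.snd x₁ x₂) ≫
        inv (prodComparison (yon S) T₁ T₂) := ⟨_, rfl⟩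
  have hm1 : m ≫ (yon S).map (prod.fst : B ⟶ T₁) = pullback.fst x₁ x₂ := by
    rw [hm, Category.assoc, ← prodComparison_fst (yon S), IsIso.inv_hom_id_assoc, prod.lift_fst]
  have hm2 : m ≫ (yon S).map (prod.snd : B ⟶ T₂) = pullback.snd x₁ x₂ := by
    rw [hm, Category.assoc, ← prodComparison_snd (yon S), IsIso.inv_hom_id_assoc, prod.lift_snd]
  haveI : Mono m := ⟨fun a b hab => by
    apply pullback.hom_ext
    · rw [← hm1, ← Category.assoc, hab, Category.assoc]
    · rw [← hm2, ← Category.assoc, hab, Category.assoc]⟩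
  have hE : IsAlgSpace (pullback x₁ x₂) := ⟨representable_diag_of_mono m, ⟨W, φ, hφe, hφs⟩⟩
  obtain ⟨h, hh1, hh2⟩ : ∃ h : W ⟶ B, h ≫ prod.fst = w₁ ≫ v₁ ∧ h ≫ prod.snd = w₂ ≫ v₂ :=
    ⟨prod.lift _ _, prod.lift_fst _ _, prod.lift_snd _ _⟩
  have hcomm : φ ≫ m = (yon S).map h := by
    rw [← cancel_mono (prodComparison (yon S) T₁ T₂)]
    apply Limits.prod.hom_ext
    · simp only [Category.assoc, prodComparison_fst]
      rw [hm1, hφ1, ← Functor.map_comp, ← Functor.map_comp, hh1]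
    · simp only [Category.assoc, prodComparison_snd]
      rw [hm2, hφ2, ← Functor.map_comp, ← Functor.map_comp, hh2]
  have hhlft : LocallyOfFiniteType h.left := by
    have sqW' : IsPullback w₁.left w₂.left g₁.left g₂.left := sqW0.map (Over.forget S)
    haveI : LocallyOfFiniteType v₁.left := inferInstance
    haveI : LocallyOfFiniteType v₂.left := inferInstance
    have key := lft_of_isPullback sqW' U.hom v₁.left v₂.left T₁.hom T₂.hom
      ((Over.w g₁).trans (Over.w v₁).symm) ((Over.w g₂).trans (Over.w v₂).symm)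
      (h.left ≫ (Over.prodLeftIsoPullback T₁ T₂).hom)
      (by rw [Category.assoc, Over.prodLeftIsoPullback_hom_fst, ← Over.comp_left, hh1,
        Over.comp_left])
      (by rw [Category.assoc, Over.prodLeftIsoPullback_hom_snd, ← Over.comp_left, hh2,
        Over.comp_left])
    exact (MorphismProperty.cancel_right_of_respectsIso @LocallyOfFiniteType h.left
      (Over.prodLeftIsoPullback T₁ T₂).hom).1 key
  have hlft : LocP @LocallyOfFiniteType m :=
    locP_of_one_chart etLocal_locallyOfFiniteType m φ (𝟙 _) h hφe hφs (repWith_id _ B)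
      (by rw [hcomm, Category.comp_id]) hhlft
  have hYB : IsAlgSpace ((yon S).obj B) := IsAlgSpace.yon_obj B
  obtain ⟨-, hsep, hqf⟩ := (main10613 hE hYB m).2.2.2 ⟨hlft, inferInstance⟩
  obtain ⟨V, ⟨r⟩⟩ := (main10259 B hE m hqf hsep).has_representation
  let e : (yon S).obj V ≅ pullback x₁ x₂ := isoOfRepresentableBy r
  obtain ⟨snd, hsnd⟩ := (yon S).map_surjective (e.hom ≫ pullback.snd x₁ x₂)
  refine ⟨V, snd, e.hom ≫ pullback.fst x₁ x₂, ?_⟩
  rw [hsnd]
  exact IsPullback.of_iso sqE e.symm (Iso.refl _) (Iso.refl _) (Iso.refl _) (by simp) (by simp)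
    (by simp) (by simp)

/-- A sheaf with a representable étale surjective chart is an algebraic space. -/
theorem isAlgSpace_of_etale_chart {F : Sp S} {U : Over S} (c : (yon S).obj U ⟶ F)
    (hce : RepWith @Etale c) (hcs : RepWith @Surjective c) : IsAlgSpace F :=
  ⟨Functor.relativelyRepresentable.diag_of_map_from_obj
    (fun _ x => representable_of_etale_chart c hce hcs x), ⟨U, c, hce, hcs⟩⟩

theorem main9873 (X : Space S) (F : Sp S) (f : X.obj ⟶ F) (he : RepWith @Etale f)
    (hs : RepWith @Surjective f) : IsAlgSpace F := by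
  obtain ⟨U, q, hqe, hqs⟩ := X.property.atlas
  exact isAlgSpace_of_etale_chart (q ≫ f) (repWith_comp _ hqe he) (repWith_comp _ hqs hs)

/-- A map from an algebraic space which is representable by spaces, étale and surjective, becomes
representable by schemes, étale and surjective after composing with an atlas. -/
theorem exists_rep_of_repBySpWith {F X : Sp S} (hX : IsAlgSpace X) (p : X ⟶ F)
    (H : ∀ ⦃T : Over S⦄ (ξ : (yon S).obj T ⟶ F) ⦃F' : Sp S⦄ (fst : F' ⟶ X)
      (snd : F' ⟶ (yon S).obj T), IsPullback fst snd p ξ →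
      IsAlgSpace F' ∧ (IsSurjectiveMor ⊓ IsEtaleMor) snd)
    {U : Over S} (q : (yon S).obj U ⟶ X) (hqe : RepWith @Etale q) (hqs : RepWith @Surjective q)
    {T : Over S} (s : (yon S).obj T ⟶ F) :
    ∃ (V : Over S) (fst : (yon S).obj V ⟶ (yon S).obj U) (snd : V ⟶ T),
      IsPullback fst ((yon S).map snd) (q ≫ p) s ∧ Etale snd.left ∧ Surjective snd.left := by
  have sqP := IsPullback.of_hasPullback p s
  obtain ⟨hP, hp₂s, hp₂e⟩ := H s _ _ sqP
  have sqQ := IsPullback.of_hasPullback (q ≫ p) s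
  obtain ⟨r, hr1, hr2⟩ : ∃ r : pullback (q ≫ p) s ⟶ pullback p s,
      r ≫ pullback.fst p s = pullback.fst (q ≫ p) s ≫ q ∧
      r ≫ pullback.snd p s = pullback.snd (q ≫ p) s :=
    ⟨pullback.lift (pullback.fst (q ≫ p) s ≫ q) (pullback.snd (q ≫ p) s)
      (by rw [Category.assoc]; exact pullback.condition), pullback.lift_fst _ _ _,
      pullback.lift_snd _ _ _⟩
  have sqr : IsPullback r (pullback.fst (q ≫ p) s) (pullback.fst p s) q := by
    refine IsPullback.of_right ?_ hr1 sqP.flip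
    rw [hr2]
    exact sqQ.flip
  have hQ : IsAlgSpace (pullback (q ≫ p) s) :=
    isAlgSpace_of_isPullback hX.diag hP (IsAlgSpace.yon_obj U) sqr
  have hre : RepWith @Etale r := repWith_fst_of_isPullback _ sqr hqe
  have hrs : RepWith @Surjective r := repWith_fst_of_isPullback _ sqr hqs
  obtain ⟨W, ψ, hψe, hψs⟩ := hQ.atlas
  have hψb : RepWith @Etale (ψ ≫ pullback.snd (q ≫ p) s) := by
    have := hp₂e (ψ ≫ r) (repWith_comp _ hψe hre)
    rwa [Category.assoc, hr2] at this
  obtain ⟨k, hk⟩ := (yon S).map_surjective (ψ ≫ pullback.snd (q ≫ p) s)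
  have hke : Etale k.left := by
    rw [← hk] at hψb
    exact (repWith_yon_map_iff _ _).1 hψb
  have hbqf : LocP (@LocallyQuasiFinite ⊓ @LocallyOfFiniteType) (pullback.snd (q ≫ p) s) := by
    haveI := hke
    haveI : LocallyQuasiFinite k.left := locallyQuasiFinite_of_unramified k.left
    exact locP_of_one_chart etLocal_locallyQuasiFinite _ ψ (𝟙 _) k hψe hψs (repWith_id _ T)
      (by rw [hk, Category.comp_id])
      ⟨(inferInstance : LocallyQuasiFinite k.left), (inferInstance : LocallyOfFiniteType k.left)⟩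
  have hbe : LocP @Etale (pullback.snd (q ≫ p) s) :=
    locP_of_one_chart etLocal_etale _ ψ (𝟙 _) k hψe hψs (repWith_id _ T)
      (by rw [hk, Category.comp_id]) hke
  have hbs : IsSurjectiveMor (pullback.snd (q ≫ p) s) := by
    rw [← hr2]
    exact isSurjectiveMor_comp r _ (isSurjectiveMor_of_repWith r hrs) hp₂s
  have hrepQ : (pullback (q ≫ p) s).obj.IsRepresentable :=
    isRepresentable_of_jointly_mono hQ (pullback.fst (q ≫ p) s) (pullback.snd (q ≫ p) s)
      (fun Z u v h1 h2 => pullback.hom_ext h1 h2) hbqf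
  obtain ⟨V, ⟨ρ⟩⟩ := hrepQ.has_representation
  let e : (yon S).obj V ≅ pullback (q ≫ p) s := isoOfRepresentableBy ρ
  obtain ⟨snd, hsnd⟩ := (yon S).map_surjective (e.hom ≫ pullback.snd (q ≫ p) s)
  refine ⟨V, e.hom ≫ pullback.fst (q ≫ p) s, snd, ?_, ?_, ?_⟩
  · rw [hsnd]
    exact IsPullback.of_iso sqQ e.symm (Iso.refl _) (Iso.refl _) (Iso.refl _) (by simp) (by simp)
      (by simp) (by simp)
  · exact hbe e.hom (𝟙 _) snd (Groth.Agent.Lib.AlgSpBasic_helper7.repWith_of_isIso _ _)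
      (repWith_id _ T) (by rw [hsnd, Category.comp_id])
  · have h1 : IsSurjectiveMor ((yon S).map snd) := by
      rw [hsnd]
      exact isSurjectiveMor_comp _ _ (isSurjectiveMor_of_repWith _
        (Groth.Agent.Lib.AlgSpBasic_helper7.repWith_of_isIso _ _)) hbs
    exact surjective_left_of_isPullback IsPullback.of_id_fst h1

theorem main10101 (F : Sp S) (X : Space S) (p : X.obj ⟶ F)
    (hp : RepBySpWith (IsSurjectiveMor ⊓ IsEtaleMor) p.hom) : IsAlgSpace F := by
  have H := (repBySpWith_hom_iff _ p).1 hp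
  obtain ⟨U, q, hqe, hqs⟩ := X.property.atlas
  refine isAlgSpace_of_etale_chart (q ≫ p) ?_ ?_
  · apply MorphismProperty.relative.of_exists
    intro T s
    obtain ⟨V, fst, snd, sq, h1, -⟩ := exists_rep_of_repBySpWith X.property p H q hqe hqs s
    exact ⟨V, fst, snd, sq, h1⟩
  · apply MorphismProperty.relative.of_exists
    intro T s
    obtain ⟨V, fst, snd, sq, -, h2⟩ := exists_rep_of_repBySpWith X.property p H q hqe hqs s
    exact ⟨V, fst, snd, sq, h2⟩

end Groth.Agent.Lib.EtChartSpH7
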