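import Groth.Agent.Lib.ShDesc6_helper7
import Groth.Agent.Lib.AlgSpQuotEff_helper7
import Groth.Agent.Lib.AlgSpImage_helper7
import Groth.Agent.Lib.AlgSpFormal_helper7
import Groth.Agent.Lib.EtChartSp1_helper7
import Groth.Agent.Lib.AlgSpLocP_helper7
import Groth.Agent.Lib.AlgSpProdChart_helper7

/-!
# Descent along epimorphisms of fppf sheaves, part 7: the quotient of a scheme by an étale
equivalence relation is an algebraic space (helper7)
-/

set_option autoImplicit false
set_option linter.style.haveILetI false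
universe u
open CategoryTheory CategoryTheory.Limits AlgebraicGeometry Opposite MorphismProperty
open AlgSp Groth.Agent.Lib.AlgSpPoints_helper7
  Groth.Agent.Lib.AlgSpQC_helper7 Groth.Agent.Lib.AlgSpPullback_helper7
  Groth.Agent.Lib.AlgSpAffineMorH7 Groth.Agent.Lib.AlgSpQC2_helper7
  Groth.Agent.Lib.AlgSpProper_helper7 Groth.Agent.Lib.SepLqf6H7
  Groth.Agent.Lib.AlgSpUnramLocusH7 Groth.Agent.Lib.AlgSpQuotEffH7
  Groth.Agent.Lib.AlgSpImage_helper7 Groth.Agent.Lib.AlgSpFormal_helper7
  Groth.Agent.Lib.EtChartSpH7 Groth.Agent.Lib.AlgSpLocP_helper7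
  Groth.Agent.Lib.AlgSpGlue5H7

namespace Groth.Agent.Lib.ShDescH7

variable {S : Scheme.{u}}

/-- The graph form of a pullback square. -/
theorem isPullback_graph {C : Type*} [Category C] [HasBinaryProducts C] {V P Z T U : C}
    {f : V ⟶ P} {v : V ⟶ Z} {π₂ : P ⟶ T} {c : Z ⟶ T} (sq : IsPullback f v π₂ c) (π₁ : P ⟶ U) :
    IsPullback (prod.lift v (f ≫ π₁)) f (prod.map c (𝟙 U)) (prod.lift π₂ π₁) := by
  refine Groth.Agent.Lib.AlgSpRepBySp_helper7.isPullback_of_existsUnique ?_ ?_
  · rw [prod.lift_map, prod.comp_lift, Category.comp_id, sq.w]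
  · intro W α β h
    have h1 : β ≫ π₂ = (α ≫ prod.fst) ≫ c := by
      have := congrArg (· ≫ prod.fst) h
      simp only [Category.assoc, prod.map_fst, prod.lift_fst] at this
      rw [Category.assoc]
      exact this.symm
    have h2 : α ≫ prod.snd = β ≫ π₁ := by
      have := congrArg (· ≫ prod.snd) h
      simp only [Category.assoc, prod.map_snd, prod.lift_snd, Category.comp_id] at this
      exact this
    refine ⟨sq.lift β (α ≫ prod.fst) h1, ⟨?_, sq.lift_fst _ _ _⟩, ?_⟩
    · apply prod.hom_ext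
      · rw [Category.assoc, prod.lift_fst, sq.lift_snd]
      · rw [Category.assoc, prod.lift_snd, sq.lift_fst_assoc, h2]
    · rintro m ⟨hm1, hm2⟩
      apply sq.hom_ext
      · rw [hm2, sq.lift_fst]
      · rw [sq.lift_snd, ← hm1, Category.assoc, prod.lift_fst]

/-- A surjective flat morphism of schemes locally of finite presentation gives an fppf morphism
of sheaves representable by algebraic spaces. -/
theorem repBySpWith_fppf_yon_map {Z' T : Over S} (c : Z' ⟶ T) (hs : Surjective c.left)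
    (hfl : Flat c.left) (hfp : LocallyOfFinitePresentation c.left) :
    RepBySpWith (IsSurjectiveMor ⊓ LocP @Flat ⊓ LocP @LocallyOfFinitePresentation)
      ((yon S).map c).hom := by
  have r1 := (repWith_yon_map_iff @Surjective c).2 hs
  have r2 := (repWith_yon_map_iff @Flat c).2 hfl
  have r3 := (repWith_yon_map_iff @LocallyOfFinitePresentation c).2 hfp
  rw [repBySpWith_hom_iff]
  intro X ξ F'' fst snd sq
  refine ⟨(repBySp_hom_iff _).1 (Representable.repBySp r2.rep) ξ fst snd sq, ⟨?_, ?_⟩, ?_⟩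
  · exact isSurjectiveMor_of_repWith _ (repWith_snd_of_isPullback _ sq r1)
  · exact locP_of_repWith @Flat (fun _ _ g hg => inferInstance) _
      (repWith_snd_of_isPullback _ sq r2)
  · exact locP_of_repWith @LocallyOfFinitePresentation (fun _ _ g hg => inferInstance) _
      (repWith_snd_of_isPullback _ sq r3)

set_option backward.isDefEq.respectTransparency false in
/-- A monomorphism locally of finite type of algebraic spaces is representable by algebraic
spaces, separated and locally quasi-finite. -/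
theorem repBySpWith_sep_lqf_of_mono {E F : Sp S} (hE : IsAlgSpace E) (hF : IsAlgSpace F)
    (a : E ⟶ F) [Mono a] (hlft : LocP @LocallyOfFiniteType a) :
    RepBySpWith (IsSeparatedMor ⊓ LocP (@LocallyQuasiFinite ⊓ @LocallyOfFiniteType)) a.hom := by
  rw [repBySpWith_hom_iff]
  intro U ξ E' fst snd sq'
  have hE' : IsAlgSpace E' := isAlgSpace_of_isPullback hF.diag hE (IsAlgSpace.yon_obj U) sq'
  have hlft' : LocP @LocallyOfFiniteType snd :=
    Groth.Agent.Lib.AlgSpLocP4_helper7.locP_baseChange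
      Groth.Agent.Lib.AlgSpLocP4_helper7.etLocal_locallyOfFiniteType hE hF
      (IsAlgSpace.yon_obj U) _ ξ fst snd sq' hlft
  haveI : Mono snd := sq'.mono_snd_of_mono
  obtain ⟨-, hsep, hqf⟩ :=
    (main10613 hE' (IsAlgSpace.yon_obj U) snd).2.2.2 ⟨hlft', inferInstance⟩
  exact ⟨hE', hsep, hqf⟩

set_option backward.isDefEq.respectTransparency false in
/-- Sections of the target of an epimorphism from a representable sheaf lift along an affine
fppf covering of an affine scheme. -/
theorem exists_affine_fppf_lift {U : Over S} {Z : Sp S} (q : (yon S).obj U ⟶ Z) [Epi q]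
    {T : Over S} (hT : IsAffine T.left) (t : (yon S).obj T ⟶ Z) :
    ∃ (Z' : Over S) (c : Z' ⟶ T) (l : Z' ⟶ U), IsAffine Z'.left ∧ Surjective c.left ∧
      Flat c.left ∧ LocallyOfFinitePresentation c.left ∧
      (yon S).map l ≫ q = (yon S).map c ≫ t := by
  haveI := hT
  choose T' c l hfl hfp hτ hl using fun τ : ↥T.left => exists_local_lift_of_epi q t τ
  choose l' hl' using fun τ => (yon S).map_surjective (l τ)
  let Vf : ↥T.left → Scheme.{u} := fun τ => (T' τ).left
  let F : (∐ Vf) ⟶ T.left := Sigma.desc (fun τ => (c τ).left)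
  let L : (∐ Vf) ⟶ U.left := Sigma.desc (fun τ => (l' τ).left)
  have hιF : ∀ τ, Sigma.ι Vf τ ≫ F = (c τ).left := fun τ => Sigma.ι_desc _ τ
  have hιL : ∀ τ, Sigma.ι Vf τ ≫ L = (l' τ).left := fun τ => Sigma.ι_desc _ τ
  have hLF : L ≫ U.hom = F ≫ T.hom := by
    apply Sigma.hom_ext
    intro τ
    rw [← Category.assoc, ← Category.assoc, hιL, hιF, CategoryTheory.Over.w, CategoryTheory.Over.w]
  haveI : Flat F := IsZariskiLocalAtSource.sigmaDesc (P := @Flat) hfl
  haveI : LocallyOfFinitePresentation F :=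
    IsZariskiLocalAtSource.sigmaDesc (P := @LocallyOfFinitePresentation) hfp
  haveI hFS : Surjective F := ⟨fun τ => by
    obtain ⟨x, hx⟩ := hτ τ
    exact ⟨(Sigma.ι Vf τ) x, by rw [← Scheme.Hom.comp_apply, hιF]; exact hx⟩⟩
  let VV : Over S := Over.mk (F ≫ T.hom)
  let cV : VV ⟶ T := Over.homMk F rfl
  let lV : VV ⟶ U := Over.homMk L hLF
  let ιV : ∀ τ, T' τ ⟶ VV := fun τ => Over.homMk (Sigma.ι Vf τ) (by
    show Sigma.ι Vf τ ≫ F ≫ T.hom = (T' τ).hom
    rw [← Category.assoc, hιF, CategoryTheory.Over.w])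
  have hιc : ∀ τ, ιV τ ≫ cV = c τ := fun τ => Over.OverMorphism.ext (hιF τ)
  have hιl : ∀ τ, ιV τ ≫ lV = l' τ := fun τ => Over.OverMorphism.ext (hιL τ)
  have hkey : (yon S).map lV ≫ q = (yon S).map cV ≫ t := by
    refine hom_ext_of_fppf_family T' ιV (fun τ => ?_) (fun τ => ?_) (fun v => ?_) _ _
      (fun τ => ?_)
    · show Flat (Sigma.ι Vf τ)
      infer_instance
    · show LocallyOfFinitePresentation (Sigma.ι Vf τ)
      infer_instance
    · obtain ⟨τ, x, hx⟩ := (sigmaOpenCover Vf).exists_eq v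
      exact ⟨τ, x, hx⟩
    · rw [← Category.assoc, ← Functor.map_comp, hιl, hl', hl, ← hιc, Functor.map_comp,
        Category.assoc]
  obtain ⟨Vo, hVc, hVimg⟩ : ∃ Vo : (∐ Vf).Opens, IsCompact (Vo : Set ↥(∐ Vf)) ∧
      F '' (Vo : Set ↥(∐ Vf)) = Set.univ :=
    F.isOpenMap.exists_opens_image_eq_of_prespectralSpace
      F.continuous (fun t _ => hFS.surj t) isOpen_univ isCompact_univ
  haveI : CompactSpace ↥Vo.toScheme := isCompact_iff_compactSpace.1 hVc
  obtain ⟨Y, r, hrs, hre, hY⟩ := exists_affine_etale_cover Vo.toScheme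
  haveI := hre
  let Z' : Over S := Over.mk (r ≫ Vo.ι ≫ F ≫ T.hom)
  let j : Z' ⟶ VV := Over.homMk (r ≫ Vo.ι) (by simp [Z', VV])
  refine ⟨Z', j ≫ cV, j ≫ lV, hY, ?_, ?_, ?_, ?_⟩
  · refine ⟨fun τ => ?_⟩
    have ht : τ ∈ F '' (Vo : Set ↥(∐ Vf)) := by
      rw [hVimg]
      exact Set.mem_univ τ
    obtain ⟨v, hv, rfl⟩ := ht
    obtain ⟨y, hy⟩ := hrs.surj ⟨v, hv⟩
    refine ⟨y, ?_⟩
    show F (Vo.ι (r y)) = F v
    rw [hy]
    rfl
  · show Flat ((r ≫ Vo.ι) ≫ F)
    infer_instance
  · show LocallyOfFinitePresentation ((r ≫ Vo.ι) ≫ F)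
    infer_instance
  · rw [Functor.map_comp, Functor.map_comp, Category.assoc, hkey, Category.assoc]

section Quot

variable {R U : Over S} (s t : R ⟶ U)

set_option backward.isDefEq.respectTransparency false in
theorem exists_rep_quotP_affine (h : IsEtaleEqvRel s t) {T : Over S} (hT : IsAffine T.left)
    (a : (yon S).obj T ⟶ QuotSh.quot Scheme.fppfPrecoverage s t) :
    ∃ (W : Over S) (w : W ⟶ T) (fst : (yon S).obj W ⟶ (yon S).obj U),
      IsPullback fst ((yon S).map w) (quotP s t) a ∧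
      (@Etale ⊓ @Surjective : MorphismProperty Scheme.{u}) w.left := by
  haveI : Epi (quotP s t) :=
    (Sheaf.isLocallySurjective_iff_epi _).1 (isLocallySurjective_quotP s t)
  have sqR := isPullback_quot s t h.toIsEqvRel
  obtain ⟨qP, hqP⟩ : ∃ qP, qP = quotP s t := ⟨_, rfl⟩
  rw [← hqP] at sqR ⊢
  haveI : Epi qP := hqP ▸ inferInstance
  obtain ⟨Z', c, l, hZ', hcs, hcfl, hcfp, hl⟩ := exists_affine_fppf_lift qP hT a
  have hss : Surjective s.left := by
    obtain ⟨r, -, hr2⟩ := (h.equivalence U).refl (𝟙 U)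
    refine ⟨fun x => ⟨r.left x, ?_⟩⟩
    rw [← Scheme.Hom.comp_apply, ← Over.comp_left, hr2]
    rfl
  obtain ⟨V', p₁, p₂, sq0⟩ : ∃ (V' : Over S) (p₁ : V' ⟶ R) (p₂ : V' ⟶ Z'),
      IsPullback p₁ p₂ s l := ⟨_, _, _, IsPullback.of_hasPullback s l⟩
  have sqV := sq0.map (yon S)
  have sqL : IsPullback p₁.left p₂.left s.left l.left := sq0.map (Over.forget S)
  have hp₂e : Etale p₂.left := MorphismProperty.of_isPullback (P := @Etale) sqL h.etale_left
  have hp₂s : Surjective p₂.left := MorphismProperty.of_isPullback (P := @Surjective) sqL hss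
  obtain ⟨P, π₁, π₂, sqP⟩ : ∃ (P : Sp S) (π₁ : P ⟶ (yon S).obj U) (π₂ : P ⟶ (yon S).obj T),
      IsPullback π₁ π₂ qP a := ⟨_, _, _, IsPullback.of_hasPullback qP a⟩
  have wq : (yon S).map (p₁ ≫ t) ≫ qP = ((yon S).map p₂ ≫ (yon S).map c) ≫ a := by
    have e1 := sqR.w
    have e2 := sqV.w
    simp only [Functor.map_comp, Category.assoc]
    rw [e1, ← Category.assoc, e2, Category.assoc, hl]
  obtain ⟨f, hf1, hf2⟩ : ∃ f : (yon S).obj V' ⟶ P, f ≫ π₁ = (yon S).map (p₁ ≫ t) ∧
      f ≫ π₂ = (yon S).map p₂ ≫ (yon S).map c :=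
    ⟨sqP.lift _ _ wq, sqP.lift_fst _ _ _, sqP.lift_snd _ _ _⟩
  have big : IsPullback ((yon S).map p₁ ≫ (yon S).map t) ((yon S).map p₂) qP
      ((yon S).map l ≫ qP) := sqV.paste_horiz sqR
  have big' : IsPullback (f ≫ π₁) ((yon S).map p₂) qP ((yon S).map c ≫ a) := by
    rw [hf1, Functor.map_comp, ← hl]
    exact big
  have sqQ : IsPullback f ((yon S).map p₂) π₂ ((yon S).map c) := IsPullback.of_right big' hf2 sqP
  have sqG := isPullback_graph sqQ π₁
  have hg : RepBySpWith (IsSurjectiveMor ⊓ LocP @Flat ⊓ LocP @LocallyOfFinitePresentation)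
      (prod.map ((yon S).map c) (𝟙 ((yon S).obj U))).hom :=
    repBySpWith_of_isPullback _
      (Groth.Agent.Lib.AlgSpRepBySp_helper7.isPullback_prod_fst_map ((yon S).map c)
        ((yon S).obj U)) (repBySpWith_fppf_yon_map c hcs hcfl hcfp)
  haveI hbm : Mono (prod.lift π₂ π₁) := ⟨fun α β hαβ => by
    refine sqP.hom_ext ?_ ?_
    · have := congrArg (· ≫ prod.snd) hαβ
      simpa only [Category.assoc, prod.lift_snd] using this
    · have := congrArg (· ≫ prod.fst) hαβ
      simpa only [Category.assoc, prod.lift_fst] using this⟩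
  haveI : Mono (prod.lift ((yon S).map p₂) (f ≫ π₁)) := sqG.mono_fst_of_mono
  have hlft : LocP @LocallyOfFiniteType (prod.lift ((yon S).map p₂) (f ≫ π₁)) := by
    refine locP_lft_of_comp (IsAlgSpace.yon_obj Z') _
      (prod.fst : (yon S).obj Z' ⨯ (yon S).obj U ⟶ (yon S).obj Z') ?_
    rw [prod.lift_fst]
    haveI := hp₂e
    exact locP_of_repWith @LocallyOfFiniteType (fun _ _ g hg => inferInstance) _
      ((repWith_yon_map_iff @LocallyOfFiniteType p₂).2 inferInstance)
  have ha := repBySpWith_sep_lqf_of_mono (IsAlgSpace.yon_obj V')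
    (isAlgSpace_prod_self (IsAlgSpace.yon_obj Z') (IsAlgSpace.yon_obj U)) _ hlft
  have hb := (main10098 _ _ _ _ sqG hg ha).1
  obtain ⟨W, snd', fst', sqW⟩ := hb.rep (PreservesLimitPair.iso (yon S) T U).hom
  haveI : IsIso fst' := sqW.isIso_fst_of_isIso
  obtain ⟨w, hw⟩ := (yon S).map_surjective (fst' ≫ π₂)
  have sqW' : IsPullback (fst' ≫ π₁) ((yon S).map w) qP a := by
    rw [hw]
    exact IsPullback.of_iso sqP (asIso fst').symm (Iso.refl _) (Iso.refl _) (Iso.refl _)
      (by simp) (by simp) (by simp) (by simp)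
  obtain ⟨φ, hφ⟩ := (yon S).map_surjective (f ≫ inv fst')
  have sqD : IsPullback ((yon S).map φ) ((yon S).map p₂) ((yon S).map w) ((yon S).map c) := by
    rw [hφ, hw]
    exact IsPullback.of_iso sqQ (Iso.refl _) (asIso fst').symm (Iso.refl _) (Iso.refl _)
      (by simp) (by simp) (by simp) (by simp)
  have sqD0 : IsPullback φ p₂ w c := IsPullback.of_map (yon S)
    ((yon S).map_injective (by rw [Functor.map_comp, Functor.map_comp, sqD.w])) sqD
  have sqDL : IsPullback φ.left p₂.left w.left c.left := sqD0.map (Over.forget S)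
  have hwe : Etale w.left :=
    MorphismProperty.of_isPullback_of_descendsAlong (P := @Etale)
      (Q := @Surjective ⊓ @Flat ⊓ @LocallyOfFinitePresentation) sqDL.flip
      ⟨⟨hcs, hcfl⟩, hcfp⟩ hp₂e
  have hws : Surjective w.left := ⟨fun τ => by
    obtain ⟨z, rfl⟩ := hcs.surj τ
    obtain ⟨v, rfl⟩ := hp₂s.surj z
    refine ⟨φ.left v, ?_⟩
    rw [← Scheme.Hom.comp_apply, sqDL.w, Scheme.Hom.comp_apply]⟩
  exact ⟨W, w, fst' ≫ π₁, sqW', hwe, hws⟩

set_option backward.isDefEq.respectTransparency false in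
/-- The quotient of a scheme by an étale equivalence relation is an algebraic space. -/
theorem main9868 (h : IsEtaleEqvRel s t) :
    IsAlgSpace (QuotSh.quot Scheme.fppfPrecoverage s t) := by
  have key : ∀ (T : Over S) (a : (yon S).obj T ⟶ QuotSh.quot Scheme.fppfPrecoverage s t),
      ∃ (W : Over S) (w : W ⟶ T) (fst : (yon S).obj W ⟶ (yon S).obj U),
        IsPullback fst ((yon S).map w) (quotP s t) a ∧
        (@Etale ⊓ @Surjective : MorphismProperty Scheme.{u}) w.left := by
    intro T a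
    refine exists_rep_of_openCover _ (quotP s t) a T.left.affineCover (fun i => ?_)
    exact exists_rep_quotP_affine s t h (T := Over.mk (T.left.affineCover.f i ≫ T.hom))
      (inferInstanceAs (IsAffine (T.left.affineCover.X i))) _
  refine isAlgSpace_of_etale_chart (quotP s t) ?_ ?_
  · refine MorphismProperty.relative.of_exists (fun T a => ?_)
    obtain ⟨W, w, fst, sqW, hP⟩ := key T a
    exact ⟨W, fst, w, sqW, hP.1⟩
  · refine MorphismProperty.relative.of_exists (fun T a => ?_)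
    obtain ⟨W, w, fst, sqW, hP⟩ := key T a
    exact ⟨W, fst, w, sqW, hP.2⟩

end Quot

end Groth.Agent.Lib.ShDescH7
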