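import Mathlib
import Groth.Prelude.Def_AlgSp
import Groth.Agent.Lib.AlgSpFreeAction_helper7
import Groth.Agent.S9868
import Groth.Agent.S9869
import Groth.Agent.S9889
set_option autoImplicit false
universe u

/-!
# Field points of the quotient of a scheme by a free group action: Galois data (helper6)
-/

open CategoryTheory CategoryTheory.Limits AlgebraicGeometry Opposite AlgSp
open Groth.Agent.Lib.AlgSpFreeActionH7 Groth.Agent.Lib.SpCoprod4H7 Groth.Agent.Lib.SpCoprod6H7

namespace Groth.Agent.Lib.AlgSpFreeQuotGalH6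

variable {S : Scheme.{u}}

section Pullback

variable {F : Sp S} {U T₀ B : Over S} {p : (yon S).obj U ⟶ F} {ξ : (yon S).obj B ⟶ F}
  {x₀ : T₀ ⟶ U} {pr : T₀ ⟶ B}

theorem exists_lift (sq : IsPullback ((yon S).map x₀) ((yon S).map pr) p ξ) {T : Over S}
    (b : T ⟶ U) (a : T ⟶ B) (h : (yon S).map b ≫ p = (yon S).map a ≫ ξ) :
    ∃ l : T ⟶ T₀, l ≫ x₀ = b ∧ l ≫ pr = a := by
  refine ⟨(yon S).preimage (sq.lift ((yon S).map b) ((yon S).map a) h), ?_, ?_⟩
  · apply (yon S).map_injective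
    rw [Functor.map_comp, Functor.map_preimage, sq.lift_fst]
  · apply (yon S).map_injective
    rw [Functor.map_comp, Functor.map_preimage, sq.lift_snd]

theorem lift_unique (sq : IsPullback ((yon S).map x₀) ((yon S).map pr) p ξ) {T : Over S}
    (l₁ l₂ : T ⟶ T₀) (h1 : l₁ ≫ x₀ = l₂ ≫ x₀) (h2 : l₁ ≫ pr = l₂ ≫ pr) : l₁ = l₂ := by
  apply (yon S).map_injective
  apply sq.hom_ext
  · rw [← Functor.map_comp, ← Functor.map_comp, h1]
  · rw [← Functor.map_comp, ← Functor.map_comp, h2]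

end Pullback

section Free

variable {U : Over S} {G : Type u} [Group G] (ρ : G →* Aut U)
  (c : Cofan (fun _ : G => U)) (hc : IsColimit c) (s t : c.pt ⟶ U)
  (hs : ∀ g, c.inj g ≫ s = 𝟙 U) (ht : ∀ g, c.inj g ≫ t = (ρ g).hom)

include hc in
theorem exists_factor_inj {T : Over S} (r : T ⟶ c.pt) (pt : T.left)
    (hpt : ∀ y : T.left, y = pt) : ∃ (g : G) (l : T ⟶ U), r = l ≫ c.inj g := by
  let r' : T ⟶ sigmaOver (fun _ : G => U) := r ≫ (ptIso c hc).hom
  obtain ⟨⟨g, y⟩, hy⟩ := (sigmaMk (fun _ : G => U.left)).surjective (r'.left pt)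
  rw [sigmaMk_mk] at hy
  have hrange : Set.range r'.left ⊆ Set.range (Sigma.ι (fun _ : G => U.left) g) := by
    rintro _ ⟨y', rfl⟩
    rw [hpt y']
    exact ⟨y, hy⟩
  let l₀ : T.left ⟶ U.left :=
    IsOpenImmersion.lift (Sigma.ι (fun _ : G => U.left) g) r'.left hrange
  have hl₀ : l₀ ≫ Sigma.ι (fun _ : G => U.left) g = r'.left := IsOpenImmersion.lift_fac _ _ _
  have hw : l₀ ≫ U.hom = T.hom := by
    have h1 : Sigma.ι (fun _ : G => U.left) g ≫ (sigmaOver (fun _ : G => U)).hom = U.hom := by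
      simp [sigmaOver]
    rw [← h1, ← Category.assoc, hl₀]
    exact Over.w r'
  refine ⟨g, Over.homMk l₀ hw, ?_⟩
  have h2 : r' = Over.homMk l₀ hw ≫ sigmaOverι (fun _ : G => U) g := by
    ext
    exact hl₀.symm
  have h3 : r ≫ (ptIso c hc).hom = (Over.homMk l₀ hw ≫ c.inj g) ≫ (ptIso c hc).hom := by
    rw [Category.assoc, inj_ptIso]
    exact h2
  exact (cancel_mono (ptIso c hc).hom).1 h3

include hc hs ht in
theorem exists_eq_comp_of_field {F : Sp S} {p : (yon S).obj U ⟶ F}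
    (hpb : IsPullback ((yon S).map t) ((yon S).map s) p p)
    {T : Over S} (pt : T.left) (hpt : ∀ y : T.left, y = pt) (a b : T ⟶ U)
    (h : (yon S).map b ≫ p = (yon S).map a ≫ p) : ∃ g : G, b = a ≫ (ρ g).hom := by
  obtain ⟨r, hr1, hr2⟩ : ∃ r : T ⟶ c.pt, r ≫ t = b ∧ r ≫ s = a := by
    refine ⟨(yon S).preimage (hpb.lift ((yon S).map b) ((yon S).map a) h), ?_, ?_⟩
    · apply (yon S).map_injective
      rw [Functor.map_comp, Functor.map_preimage, hpb.lift_fst]
    · apply (yon S).map_injective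
      rw [Functor.map_comp, Functor.map_preimage, hpb.lift_snd]
  obtain ⟨g, l, hl⟩ := exists_factor_inj c hc r pt hpt
  refine ⟨g, ?_⟩
  have hla : l = a := by rw [← hr2, hl, Category.assoc, hs, Category.comp_id]
  rw [← hr1, hl, Category.assoc, ht, hla]

include hs ht in
theorem map_rho_comp {F : Sp S} {p : (yon S).obj U ⟶ F}
    (hw : (yon S).map t ≫ p = (yon S).map s ≫ p) (g : G) :
    (yon S).map (ρ g).hom ≫ p = p := by
  have h1 : (yon S).map (c.inj g) ≫ (yon S).map t ≫ p =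
      (yon S).map (c.inj g) ≫ (yon S).map s ≫ p := by rw [hw]
  rw [← Category.assoc, ← Functor.map_comp, ht, ← Category.assoc, ← Functor.map_comp, hs] at h1
  rw [h1]
  erw [(yon S).map_id]
  rw [Category.id_comp]

end Free

section Field

variable (k : Type u) [Field k] (σ : Spec (CommRingCat.of k) ⟶ S)

/-- `Spec K` over `S` through `σ`, for a `k`-algebra `K`. -/
noncomputable abbrev SK (K : Type u) [CommRing K] [Algebra k K] : Over S :=
  Over.mk (Spec.map (CommRingCat.ofHom (algebraMap k K)) ≫ σ)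

noncomputable def toBase (K : Type u) [CommRing K] [Algebra k K] : SK k σ K ⟶ Over.mk σ :=
  Over.homMk (Spec.map (CommRingCat.ofHom (algebraMap k K))) rfl

noncomputable def specAlgHom {K L : Type u} [CommRing K] [CommRing L] [Algebra k K] [Algebra k L]
    (j : K →ₐ[k] L) : SK k σ L ⟶ SK k σ K :=
  Over.homMk (Spec.map (CommRingCat.ofHom j.toRingHom)) (by
    change Spec.map _ ≫ Spec.map _ ≫ σ = Spec.map _ ≫ σ
    rw [← Category.assoc, ← Spec.map_comp, ← CommRingCat.ofHom_comp]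
    congr 3
    exact j.comp_algebraMap)

variable {k σ} in
theorem specAlgHom_toBase {K L : Type u} [CommRing K] [CommRing L] [Algebra k K] [Algebra k L]
    (j : K →ₐ[k] L) : specAlgHom k σ j ≫ toBase k σ K = toBase k σ L := by
  ext
  change Spec.map _ ≫ Spec.map _ = Spec.map _
  rw [← Spec.map_comp, ← CommRingCat.ofHom_comp]
  congr 2
  exact j.comp_algebraMap

variable {k σ} in
theorem specAlgHom_comp {K L M : Type u} [CommRing K] [CommRing L] [CommRing M] [Algebra k K]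
    [Algebra k L] [Algebra k M] (j₁ : K →ₐ[k] L) (j₂ : L →ₐ[k] M) :
    specAlgHom k σ (j₂.comp j₁) = specAlgHom k σ j₂ ≫ specAlgHom k σ j₁ := by
  ext
  change Spec.map _ = Spec.map _ ≫ Spec.map _
  rw [← Spec.map_comp, ← CommRingCat.ofHom_comp]
  rfl

variable {k σ} in
theorem specAlgHom_id {K : Type u} [CommRing K] [Algebra k K] :
    specAlgHom k σ (AlgHom.id k K) = 𝟙 _ := by
  ext
  change Spec.map _ = 𝟙 _
  rw [← Spec.map_id]
  rfl

theorem exists_pt (K : Type u) [Field K] [Algebra k K] :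
    ∃ pt : (SK k σ K).left, ∀ y : (SK k σ K).left, y = pt := by
  haveI : Subsingleton (Spec (CommRingCat.of K)) := by
    change Subsingleton (PrimeSpectrum K); infer_instance
  haveI : Nonempty (Spec (CommRingCat.of K)) := by
    change Nonempty (PrimeSpectrum K); infer_instance
  exact ⟨(Classical.arbitrary (Spec (CommRingCat.of K)) : _),
    fun y => @Subsingleton.elim (Spec (CommRingCat.of K)) _ _ _⟩

end Field

section PointData

variable (k : Type u) [Field k] (σ : Spec (CommRingCat.of k) ⟶ S)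

theorem exists_point_data {F : Sp S} {U : Over S} (p : (yon S).obj U ⟶ F)
    (hp : RepWith @Etale p) (hps : RepWith @Surjective p)
    (ξ : (yon S).obj (Over.mk σ) ⟶ F) :
    ∃ (k' : Type u) (_ : Field k') (_ : Algebra k k') (_ : FiniteDimensional k k')
      (_ : Algebra.IsSeparable k k') (T₀ : Over S) (x₀ : T₀ ⟶ U) (pr : T₀ ⟶ Over.mk σ)
      (A : CommRingCat.{u}) (j : Spec A ⟶ T₀.left) (_ : IsOpenImmersion j)
      (q : A ⟶ CommRingCat.of k') (ι : SK k σ k' ⟶ T₀),
      IsPullback ((yon S).map x₀) ((yon S).map pr) p ξ ∧ Function.Surjective q.hom ∧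
        ι.left = Spec.map q ≫ j ∧ ι ≫ pr = toBase k σ k' := by
  obtain ⟨T₀, pr, fst, sq⟩ := hp.1 ξ
  obtain ⟨x₀, rfl⟩ := (yon S).map_surjective fst
  have hpe : Etale pr.left := hp.2 ξ _ pr sq
  have hpsurj : Surjective pr.left := hps.2 ξ _ pr sq
  haveI : Nonempty (Spec (CommRingCat.of k)) := by
    change Nonempty (PrimeSpectrum k); infer_instance
  obtain ⟨z, -⟩ := hpsurj.surj (Classical.arbitrary (Spec (CommRingCat.of k)))
  let 𝒰 := T₀.left.affineOpenCover
  let A : CommRingCat.{u} := 𝒰.X (𝒰.idx z)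
  let j : Spec A ⟶ T₀.left := 𝒰.f (𝒰.idx z)
  haveI : IsOpenImmersion j := inferInstance
  obtain ⟨z', hz'⟩ := 𝒰.covers z
  let f₀ : Spec A ⟶ Spec (CommRingCat.of k) := j ≫ pr.left
  haveI : Etale f₀ := by
    haveI := hpe
    exact inferInstanceAs (Etale (j ≫ pr.left))
  let φ : CommRingCat.of k ⟶ A := Spec.preimage f₀
  have hφ : Spec.map φ = f₀ := Spec.map_preimage _
  have hφe : φ.hom.Etale := by
    have : Etale (Spec.map φ) := by rw [hφ]; infer_instance
    exact (HasRingHomProperty.Spec_iff (P := @Etale)).mp this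
  letI : Algebra k A := φ.hom.toAlgebra
  haveI : Algebra.Etale k A := hφe
  obtain ⟨I, hI, Ai, hAf, hAa, e, hAi⟩ :=
    (Algebra.Etale.iff_exists_algEquiv_prod k A).mp inferInstance
  have hne : Nonempty I := by
    by_contra hI'
    rw [not_nonempty_iff] at hI'
    haveI : Subsingleton (∀ i, Ai i) := inferInstance
    haveI : Subsingleton A := e.injective.subsingleton
    exact (show PrimeSpectrum A from z').isPrime.ne_top (Subsingleton.elim _ _)
  obtain ⟨i₀⟩ := hne
  letI := hAf i₀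
  letI := hAa i₀
  let qa : A →ₐ[k] Ai i₀ := (Pi.evalAlgHom k Ai i₀).comp e.toAlgHom
  have hqa : Function.Surjective qa := (Function.surjective_eval i₀).comp e.surjective
  let q : A ⟶ CommRingCat.of (Ai i₀) := CommRingCat.ofHom qa.toRingHom
  have hqφ : φ ≫ q = CommRingCat.ofHom (algebraMap k (Ai i₀)) := by
    ext x
    exact qa.commutes x
  have h1 : pr.left ≫ σ = T₀.hom := Over.w pr
  have hleft : (Spec.map q ≫ j) ≫ T₀.hom =
      Spec.map (CommRingCat.ofHom (algebraMap k (Ai i₀))) ≫ σ := by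
    rw [← h1, Category.assoc, ← Category.assoc j]
    change Spec.map q ≫ f₀ ≫ σ = _
    rw [← hφ, ← Category.assoc, ← Spec.map_comp, hqφ]
  refine ⟨Ai i₀, hAf i₀, hAa i₀, (hAi i₀).1, (hAi i₀).2, T₀, x₀, pr, A, j, inferInstance, q,
    Over.homMk (Spec.map q ≫ j) hleft, sq, hqa, rfl, ?_⟩
  ext
  change (Spec.map q ≫ j) ≫ pr.left = Spec.map _
  rw [Category.assoc]
  change Spec.map q ≫ f₀ = _
  rw [← hφ, ← Spec.map_comp, hqφ]

end PointData

section Main

theorem main_of_data {U : Over S} {G : Type u} [Group G] (ρ : G →* Aut U)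
    (hfree : ∀ (g : G) (x : U.left), g ≠ 1 →
      U.left.fromSpecResidueField x ≫ (ρ g).hom.left ≠ U.left.fromSpecResidueField x)
    (c : Cofan (fun _ : G => U)) (hc : IsColimit c) (s t : c.pt ⟶ U)
    (hs : ∀ g, c.inj g ≫ s = 𝟙 U) (ht : ∀ g, c.inj g ≫ t = (ρ g).hom)
    (k : Type u) [Field k] (σ : Spec (CommRingCat.of k) ⟶ S)
    {F : Sp S} (p : (yon S).obj U ⟶ F)
    (hpb : IsPullback ((yon S).map t) ((yon S).map s) p p)
    (ξ : (yon S).obj (Over.mk σ) ⟶ F)
    (k' : Type u) [Field k'] [Algebra k k'] [FiniteDimensional k k'] [Algebra.IsSeparable k k']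
    (T₀ : Over S) (x₀ : T₀ ⟶ U) (pr : T₀ ⟶ Over.mk σ)
    (sq : IsPullback ((yon S).map x₀) ((yon S).map pr) p ξ)
    (A : CommRingCat.{u}) (j : Spec A ⟶ T₀.left) [IsOpenImmersion j]
    (q : A ⟶ CommRingCat.of k') (hq : Function.Surjective q.hom)
    (ι : SK k σ k' ⟶ T₀) (hι : ι.left = Spec.map q ≫ j) (hιpr : ι ≫ pr = toBase k σ k') :
    IsGalois k k' ∧ ∃ (H : Subgroup G) (_ : Finite H) (e : H ≃* (k' ≃ₐ[k] k')),
      ∀ h : H, Spec.map (CommRingCat.ofHom (e h).symm.toRingEquiv.toRingHom) ≫ (ι ≫ x₀).left =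
        (ι ≫ x₀).left ≫ (ρ (h : G)).hom.left := by
  classical
  obtain ⟨pt, hpt⟩ := exists_pt k σ k'
  have hw : (yon S).map t ≫ p = (yon S).map s ≫ p := hpb.w
  have hinv : ∀ g : G, (yon S).map (ρ g).hom ≫ p = p := map_rho_comp ρ c s t hs ht hw
  obtain ⟨x', hx'⟩ : ∃ x' : SK k σ k' ⟶ U, x' = ι ≫ x₀ := ⟨_, rfl⟩
  have hxp : (yon S).map x' ≫ p = (yon S).map (toBase k σ k') ≫ ξ := by
    rw [hx', Functor.map_comp, Category.assoc, sq.w, ← Category.assoc, ← Functor.map_comp, hιpr]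
  have hmono : Mono ι.left := by
    rw [hι]
    haveI : IsClosedImmersion (Spec.map q) := IsClosedImmersion.spec_of_surjective q hq
    infer_instance
  have hex : ∀ τ : k' ≃ₐ[k] k', ∃ g : G,
      specAlgHom k σ τ.toAlgHom ≫ x' = x' ≫ (ρ g).hom := by
    intro τ
    refine exists_eq_comp_of_field ρ c hc s t hs ht hpb pt hpt x'
      (specAlgHom k σ τ.toAlgHom ≫ x') ?_
    rw [Functor.map_comp, Category.assoc, hxp, ← Category.assoc, ← Functor.map_comp,
      specAlgHom_toBase]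
  have huniq : ∀ g g' : G, x' ≫ (ρ g).hom = x' ≫ (ρ g').hom → g = g' := by
    intro g g' h
    haveI : Nonempty (SK k σ k').left := ⟨pt⟩
    exact eq_of_comp_eq ρ hfree x'.left g g' (by rw [← Over.comp_left, ← Over.comp_left, h])
  have hone : ∀ τ : k' ≃ₐ[k] k', specAlgHom k σ τ.toAlgHom ≫ x' = x' → τ = 1 := by
    intro τ h
    have h1 : specAlgHom k σ τ.toAlgHom ≫ ι = ι := by
      apply lift_unique sq
      · rw [Category.assoc, ← hx', h]
      · rw [Category.assoc, hιpr, specAlgHom_toBase]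
    have h2 : Spec.map (CommRingCat.ofHom τ.toAlgHom.toRingHom) ≫ ι.left = ι.left :=
      congrArg (fun m => m.left) h1
    have h3 : Spec.map (CommRingCat.ofHom τ.toAlgHom.toRingHom) = 𝟙 _ := by
      rw [← cancel_mono ι.left, h2, Category.id_comp]
    rw [← Spec.map_id] at h3
    have h4 := Spec.map_injective h3
    ext x
    have := congrArg (fun f => f.hom x) h4
    simpa using this
  -- Galois
  let Ω := AlgebraicClosure k'
  let i₁ : k' →ₐ[k] Ω := IsScalarTower.toAlgHom k k' Ω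
  have hi₁ : Function.Injective i₁ := i₁.toRingHom.injective
  have hF3 : ∀ i₂ : k' →ₐ[k] Ω, ∃ τ : k' →ₐ[k] k', i₁.comp τ = i₂ := by
    intro i₂
    obtain ⟨ptΩ, hptΩ⟩ := exists_pt k σ Ω
    have hcond : ∀ i : k' →ₐ[k] Ω, (yon S).map (specAlgHom k σ i ≫ x') ≫ p =
        (yon S).map (toBase k σ Ω) ≫ ξ := by
      intro i
      rw [Functor.map_comp, Category.assoc, hxp, ← Category.assoc, ← Functor.map_comp,
        specAlgHom_toBase]
    obtain ⟨g, hg⟩ := exists_eq_comp_of_field ρ c hc s t hs ht hpb ptΩ hptΩ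
      (specAlgHom k σ i₁ ≫ x') (specAlgHom k σ i₂ ≫ x') (by rw [hcond, hcond])
    obtain ⟨t', ht'1, ht'2⟩ := exists_lift sq (x' ≫ (ρ g).hom) (toBase k σ k') (by
      rw [Functor.map_comp, Category.assoc, hinv, hxp])
    have heq : specAlgHom k σ i₁ ≫ t' = specAlgHom k σ i₂ ≫ ι := by
      apply lift_unique sq
      · rw [Category.assoc, ht'1, Category.assoc, ← hx', hg, Category.assoc]
      · rw [Category.assoc, ht'2, Category.assoc, hιpr, specAlgHom_toBase, specAlgHom_toBase]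
    have heqL : Spec.map (CommRingCat.ofHom i₁.toRingHom) ≫ t'.left =
        Spec.map (CommRingCat.ofHom i₂.toRingHom) ≫ ι.left := congrArg (fun m => m.left) heq
    have hrange : Set.range t'.left ⊆ Set.range j := by
      rintro _ ⟨y, rfl⟩
      have hy : y = (Spec.map (CommRingCat.ofHom i₁.toRingHom)) ptΩ :=
        (hpt y).trans (hpt _).symm
      rw [hy, ← Scheme.Hom.comp_apply, heqL, hι]
      exact ⟨(Spec.map (CommRingCat.ofHom i₂.toRingHom) ≫ Spec.map q) ptΩ, by
        rw [← Scheme.Hom.comp_apply, Category.assoc]⟩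
    let t'' : Spec (CommRingCat.of k') ⟶ Spec A := IsOpenImmersion.lift j t'.left hrange
    have ht'' : t'' ≫ j = t'.left := IsOpenImmersion.lift_fac _ _ _
    let θ : A ⟶ CommRingCat.of k' := Spec.preimage t''
    have hθ : Spec.map θ = t'' := Spec.map_preimage _
    have h5 : θ ≫ CommRingCat.ofHom i₁.toRingHom = q ≫ CommRingCat.ofHom i₂.toRingHom := by
      apply Spec.map_injective
      rw [Spec.map_comp, Spec.map_comp, hθ, ← cancel_mono j, Category.assoc, ht'', heqL, hι,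
        Category.assoc]
    have h5' : ∀ a : A, i₁ (θ.hom a) = i₂ (q.hom a) := fun a =>
      congrArg (fun f => f.hom a) h5
    have hker : RingHom.ker q.hom ≤ RingHom.ker θ.hom := by
      intro a ha
      rw [RingHom.mem_ker] at ha ⊢
      apply hi₁
      rw [map_zero, h5', ha, map_zero]
    let τ₀ : k' →+* k' := RingHom.liftOfSurjective q.hom hq ⟨θ.hom, hker⟩
    have hτ₀ : ∀ a : A, τ₀ (q.hom a) = θ.hom a := fun a =>
      RingHom.liftOfSurjective_comp_apply q.hom hq ⟨θ.hom, hker⟩ a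
    have h6 : ∀ b : k', i₁ (τ₀ b) = i₂ b := by
      intro b
      obtain ⟨a, rfl⟩ := hq b
      rw [hτ₀, h5']
    have hτk : ∀ r : k, τ₀ (algebraMap k k' r) = algebraMap k k' r := by
      intro r
      apply hi₁
      rw [h6, AlgHom.commutes, AlgHom.commutes]
    exact ⟨{ τ₀ with commutes' := hτk }, AlgHom.ext h6⟩
  have hbij : Function.Bijective (fun τ : k' ≃ₐ[k] k' => i₁.comp τ.toAlgHom) := by
    constructor
    · intro τ₁ τ₂ h
      ext b
      have := congrArg (fun f : k' →ₐ[k] Ω => f b) h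
      exact hi₁ this
    · intro i₂
      obtain ⟨τ, hτ⟩ := hF3 i₂
      exact ⟨AlgEquiv.ofBijective τ (AlgHom.bijective τ), hτ⟩
  have hcard : Nat.card (k' ≃ₐ[k] k') = Module.finrank k k' := by
    rw [Nat.card_congr (Equiv.ofBijective _ hbij)]
    exact Field.finSepDegree_eq_finrank_of_isSeparable k k'
  have hgal : IsGalois k k' := IsGalois.of_card_aut_eq_finrank k k' hcard
  -- the group homomorphism
  choose ψ hψ using hex
  have hψ_uniq : ∀ (τ : k' ≃ₐ[k] k') (g : G),
      specAlgHom k σ τ.toAlgHom ≫ x' = x' ≫ (ρ g).hom → ψ τ = g :=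
    fun τ g h => huniq _ _ ((hψ τ).symm.trans h)
  have hψ_mul : ∀ τ₁ τ₂ : k' ≃ₐ[k] k', ψ (τ₁ * τ₂) = ψ τ₂ * ψ τ₁ := by
    intro τ₁ τ₂
    apply hψ_uniq
    have e1 : specAlgHom k σ (τ₁ * τ₂).toAlgHom =
        specAlgHom k σ τ₁.toAlgHom ≫ specAlgHom k σ τ₂.toAlgHom :=
      specAlgHom_comp τ₂.toAlgHom τ₁.toAlgHom
    rw [e1, Category.assoc, hψ τ₂, ← Category.assoc, hψ τ₁, Category.assoc, map_mul]
    rfl
  have hψ_one : ψ 1 = 1 := by
    apply hψ_uniq
    rw [map_one]
    have : specAlgHom k σ (1 : k' ≃ₐ[k] k').toAlgHom = 𝟙 _ := specAlgHom_id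
    rw [this, Category.id_comp]
    exact (Category.comp_id _).symm
  let φ' : (k' ≃ₐ[k] k') →* G :=
    { toFun := fun τ => ψ τ⁻¹
      map_one' := by rw [inv_one]; exact hψ_one
      map_mul' := fun τ₁ τ₂ => by rw [mul_inv_rev, hψ_mul] }
  have hφ'inj : Function.Injective φ' := by
    rw [injective_iff_map_eq_one]
    intro τ hτ
    have h1 : specAlgHom k σ (τ⁻¹).toAlgHom ≫ x' = x' := by
      have := hψ τ⁻¹
      rw [show ψ τ⁻¹ = 1 from hτ, map_one] at this
      exact this.trans (Category.comp_id _)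
    exact inv_eq_one.mp (hone _ h1)
  refine ⟨hgal, φ'.range, ?_, (MonoidHom.ofInjective hφ'inj).symm, ?_⟩
  · exact Finite.of_equiv _ (MonoidHom.ofInjective hφ'inj).toEquiv
  · intro h
    obtain ⟨τ, hτ⟩ : ∃ τ, (MonoidHom.ofInjective hφ'inj).symm h = τ := ⟨_, rfl⟩
    have hτ' : ψ τ⁻¹ = (h : G) := by
      have h1 : MonoidHom.ofInjective hφ'inj τ = h := by
        rw [← hτ, MulEquiv.apply_symm_apply]
      exact congrArg Subtype.val h1
    have h1 := hψ τ⁻¹
    rw [hτ'] at h1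
    have h3 := congrArg (fun m => m.left) h1
    rw [hτ, ← hx']
    exact h3

end Main

section Final

theorem main9895 (S : Scheme.{u}) (U : Over S) (G : Type u) [Group G]
    (ρ : G →* Aut U)
    (hfree : ∀ (g : G) (x : U.left), g ≠ 1 →
      U.left.fromSpecResidueField x ≫ (ρ g).hom.left ≠ U.left.fromSpecResidueField x)
    (c : Cofan (fun _ : G => U)) (hc : IsColimit c) (s t : c.pt ⟶ U)
    (hs : ∀ g, c.inj g ≫ s = 𝟙 U) (ht : ∀ g, c.inj g ≫ t = (ρ g).hom)
    (k : Type u) [Field k] (σ : Spec (CommRingCat.of k) ⟶ S)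
    (ξ : (AlgSp.yon S).obj (Over.mk σ) ⟶ QuotSh.quot Scheme.fppfPrecoverage s t) :
    ∃ (k' : Type u) (_ : Field k') (_ : Algebra k k') (_ : FiniteDimensional k k')
      (_ : IsGalois k k')
      (H : Subgroup G) (_ : Finite H) (e : H ≃* (k' ≃ₐ[k] k'))
      (x' : Over.mk (Spec.map (CommRingCat.ofHom (algebraMap k k')) ≫ σ) ⟶ U),
      (∀ h : H, Spec.map (CommRingCat.ofHom (e h).symm.toRingEquiv.toRingHom) ≫ x'.left =
        x'.left ≫ (ρ (h : G)).hom.left) ∧
      (AlgSp.yon S).map x' ≫ (QuotSh.repIsoUliftYoneda Scheme.fppfPrecoverage U).inv ≫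
          QuotSh.quotπ Scheme.fppfPrecoverage s t =
        (AlgSp.yon S).map (Over.homMk (Spec.map (CommRingCat.ofHom (algebraMap k k'))) :
          Over.mk (Spec.map (CommRingCat.ofHom (algebraMap k k')) ≫ σ) ⟶ Over.mk σ) ≫ ξ := by
  have hE : IsEtaleEqvRel s t := Groth.Agent.S9889.result S U G ρ hfree c hc s t hs ht
  have hQ := Groth.Agent.S9868.result S s t hE
  have pres := Groth.Agent.S9869.result S s t hE hQ
  obtain ⟨k', hk'f, hk'a, hk'fd, hk'sep, T₀, x₀, pr, A, j, hj, q, ι, sq, hq, hι, hιpr⟩ :=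
    exists_point_data k σ _ pres.etale pres.surjective ξ
  obtain ⟨hgal, H, hH, e, he⟩ := main_of_data ρ hfree c hc s t hs ht k σ _ pres.isPullback ξ k'
    T₀ x₀ pr sq A j q hq ι hι hιpr
  refine ⟨k', hk'f, hk'a, hk'fd, hgal, H, hH, e, ι ≫ x₀, he, ?_⟩
  rw [Functor.map_comp, Category.assoc, sq.w, ← Category.assoc, ← Functor.map_comp, hιpr]
  rfl

end Final

end Groth.Agent.Lib.AlgSpFreeQuotGalH6
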