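import Mathlib
set_option autoImplicit false
universe u

/-!
# Morphisms out of a finite coproduct of schemes: quasi-compact, closed immersion (helper6)
-/

open CategoryTheory CategoryTheory.Limits AlgebraicGeometry

namespace Groth.Agent.Lib.SigmaDescFinH6

variable {ι : Type u} {Y : ι → Scheme.{u}} {X : Scheme.{u}} (f : ∀ i, Y i ⟶ X)

theorem desc_sigmaMk (i : ι) (y : Y i) :
    (Sigma.desc f : (∐ Y) ⟶ X) (sigmaMk Y ⟨i, y⟩) = f i y := by
  rw [sigmaMk_mk, ← Scheme.Hom.comp_apply, Sigma.ι_desc]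

theorem preimage_desc (V : Set X) :
    (Sigma.desc f : (∐ Y) ⟶ X) ⁻¹' V = ⋃ i, (Sigma.ι Y i) '' ((f i) ⁻¹' V) := by
  ext z
  obtain ⟨⟨i, y⟩, rfl⟩ := (sigmaMk Y).surjective z
  simp only [Set.mem_preimage, Set.mem_iUnion, Set.mem_image]
  rw [desc_sigmaMk]
  constructor
  · intro h
    exact ⟨i, y, h, (sigmaMk_mk Y i y).symm⟩
  · rintro ⟨j, y', hy', h⟩
    rw [← sigmaMk_mk, (sigmaMk Y).injective.eq_iff] at h
    cases h
    exact hy'

theorem quasiCompact_sigmaDesc [Finite ι] (hf : ∀ i, QuasiCompact (f i)) :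
    QuasiCompact (Sigma.desc f : (∐ Y) ⟶ X) := by
  constructor
  intro V hV hVc
  rw [preimage_desc]
  apply isCompact_iUnion
  intro i
  exact ((hf i).isCompact_preimage V hV hVc).image (Sigma.ι Y i).continuous

theorem image_desc (Z : Set ↥(∐ Y)) :
    (Sigma.desc f : (∐ Y) ⟶ X) '' Z = ⋃ i, (f i) '' ((Sigma.ι Y i) ⁻¹' Z) := by
  ext x
  simp only [Set.mem_image, Set.mem_iUnion, Set.mem_preimage]
  constructor
  · rintro ⟨z, hz, rfl⟩
    obtain ⟨⟨i, y⟩, rfl⟩ := (sigmaMk Y).surjective z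
    refine ⟨i, y, ?_, (desc_sigmaMk f i y).symm⟩
    rw [← sigmaMk_mk]
    exact hz
  · rintro ⟨i, y, hy, rfl⟩
    refine ⟨Sigma.ι Y i y, hy, ?_⟩
    rw [← sigmaMk_mk, desc_sigmaMk]

theorem isClosedImmersion_sigmaDesc [Finite ι] (hf : ∀ i, IsClosedImmersion (f i))
    (hinj : Function.Injective (Sigma.desc f : (∐ Y) ⟶ X)) :
    IsClosedImmersion (Sigma.desc f : (∐ Y) ⟶ X) := by
  haveI : SurjectiveOnStalks (Sigma.desc f : (∐ Y) ⟶ X) :=
    IsZariskiLocalAtSource.sigmaDesc (P := @SurjectiveOnStalks) (fun i => inferInstance)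
  refine ⟨?_⟩
  apply Topology.IsClosedEmbedding.of_continuous_injective_isClosedMap
    (Sigma.desc f : (∐ Y) ⟶ X).continuous hinj
  intro Z hZ
  rw [image_desc]
  apply isClosed_iUnion_of_finite
  intro i
  exact (f i).isClosedEmbedding.isClosedMap _ (hZ.preimage (Sigma.ι Y i).continuous)

end Groth.Agent.Lib.SigmaDescFinH6
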