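import Mathlib
import Groth.Prelude.Def_AlgSp
import Groth.Agent.Lib.AlgSpFreeAction_helper7
import Groth.Agent.Lib.AlgSpProdChart_helper7
import Groth.Agent.Lib.AlgSpFieldBC_helper4
import Groth.Agent.Lib.AlgSpDescent_helper7
import Groth.Agent.Lib.AlgSpDescent2_helper7
import Groth.Agent.Lib.AlgSpPullback_helper7
import Groth.Agent.Lib.SigmaDescFin_helper6
import Groth.Agent.S9868
import Groth.Agent.S9869
import Groth.Agent.S9889
set_option autoImplicit false
universe u

/-!
# Separation of the quotient of a scheme by a free action of a finite group (helper6)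
-/

open CategoryTheory CategoryTheory.Limits AlgebraicGeometry Opposite AlgSp
open Groth.Agent.Lib.AlgSpQC_helper7 Groth.Agent.Lib.AlgSpPullback_helper7
  Groth.Agent.Lib.AlgSpDescent_helper7 Groth.Agent.Lib.AlgSpDescent2_helper7
  Groth.Agent.Lib.AlgSpProdChartH7 Groth.Agent.Lib.AlgSpFieldBC_helper4
  Groth.Agent.Lib.AlgSpFreeActionH7 Groth.Agent.Lib.SpCoprod4H7 Groth.Agent.Lib.SpCoprod6H7
  Groth.Agent.Lib.SigmaDescFinH6

namespace Groth.Agent.Lib.AlgSpFreeQuotSepH6

variable {S : Scheme.{u}}

section Chart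

variable {F : Sp S} {R U : Over S} (s t : R ⟶ U) (p : (yon S).obj U ⟶ F)

/-- the chart of `F ⨯ F` induced by a chart of `F` -/
noncomputable def prodChart : (yon S).obj (U ⨯ U) ⟶ F ⨯ F :=
  prod.lift ((yon S).map prod.fst ≫ p) ((yon S).map prod.snd ≫ p)

theorem prodChart_eq : prodChart p = bcChart p U ≫ prod.map (𝟙 F) p := by
  apply prod.hom_ext
  · rw [prodChart, prod.lift_fst, Category.assoc, prod.map_fst, Category.comp_id, bcChart_fst]
  · rw [prodChart, prod.lift_snd, Category.assoc, prod.map_snd, bcChart_snd_assoc]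

theorem repWith_prodChart (P : MorphismProperty Scheme.{u}) [P.IsStableUnderBaseChange]
    [P.IsMultiplicative] (hp : RepWith P p) : RepWith P (prodChart p) := by
  rw [prodChart_eq]
  have h1 : RepWith P (bcChart p U) := repWith_bcChart P hp U
  have h2 : RepWith P (prod.map (𝟙 F) p) :=
    repWith_fst_of_isPullback P (isPullback_prod_map_snd p F) hp
  exact repWith_comp P h1 h2

theorem isPullback_diag (hsq : IsPullback ((yon S).map t) ((yon S).map s) p p) :
    IsPullback ((yon S).map t ≫ p) ((yon S).map (prod.lift t s)) (Limits.diag F)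
      (prodChart p) := by
  have hjf : (yon S).map (prod.lift t s) ≫ (yon S).map prod.fst = (yon S).map t := by
    rw [← Functor.map_comp, prod.lift_fst]
  have hjs : (yon S).map (prod.lift t s) ≫ (yon S).map prod.snd = (yon S).map s := by
    rw [← Functor.map_comp, prod.lift_snd]
  have w : ((yon S).map t ≫ p) ≫ Limits.diag F =
      (yon S).map (prod.lift t s) ≫ prodChart p := by
    apply prod.hom_ext
    · rw [Category.assoc, Limits.diag, prod.lift_fst, Category.comp_id, Category.assoc,
        prodChart, prod.lift_fst, ← Category.assoc, hjf]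
    · rw [Category.assoc, Limits.diag, prod.lift_snd, Category.comp_id, Category.assoc,
        prodChart, prod.lift_snd, ← Category.assoc, hjs, hsq.w]
  have hmono : ∀ {T : Sp S} (a b : T ⟶ (yon S).obj (U ⨯ U)),
      a ≫ (yon S).map prod.fst = b ≫ (yon S).map prod.fst →
      a ≫ (yon S).map prod.snd = b ≫ (yon S).map prod.snd → a = b := by
    intro T a b h1 h2
    rw [← cancel_mono (prodComparison (yon S) U U)]
    apply prod.hom_ext
    · rw [Category.assoc, Category.assoc, prodComparison_fst]
      exact h1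
    · rw [Category.assoc, Category.assoc, prodComparison_snd]
      exact h2
  have hc1 : ∀ c : PullbackCone (Limits.diag F) (prodChart p),
      c.fst = c.snd ≫ (yon S).map prod.fst ≫ p := by
    intro c
    have h := congrArg (fun k => k ≫ prod.fst) c.condition
    have e1 : (c.fst ≫ Limits.diag F) ≫ prod.fst = c.fst := by
      rw [Category.assoc]
      exact (congrArg (fun k => c.fst ≫ k) (prod.lift_fst (𝟙 F) (𝟙 F))).trans (Category.comp_id _)
    have e2 : (c.snd ≫ prodChart p) ≫ prod.fst = c.snd ≫ (yon S).map prod.fst ≫ p := by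
      rw [Category.assoc]
      exact congrArg (fun k => c.snd ≫ k) (prod.lift_fst _ _)
    exact e1.symm.trans (h.trans e2)
  have hc2 : ∀ c : PullbackCone (Limits.diag F) (prodChart p),
      c.fst = c.snd ≫ (yon S).map prod.snd ≫ p := by
    intro c
    have h := congrArg (fun k => k ≫ prod.snd) c.condition
    have e1 : (c.fst ≫ Limits.diag F) ≫ prod.snd = c.fst := by
      rw [Category.assoc]
      exact (congrArg (fun k => c.fst ≫ k) (prod.lift_snd (𝟙 F) (𝟙 F))).trans (Category.comp_id _)
    have e2 : (c.snd ≫ prodChart p) ≫ prod.snd = c.snd ≫ (yon S).map prod.snd ≫ p := by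
      rw [Category.assoc]
      exact congrArg (fun k => c.snd ≫ k) (prod.lift_snd _ _)
    exact e1.symm.trans (h.trans e2)
  have hcond : ∀ c : PullbackCone (Limits.diag F) (prodChart p),
      (c.snd ≫ (yon S).map prod.fst) ≫ p = (c.snd ≫ (yon S).map prod.snd) ≫ p := by
    intro c
    rw [Category.assoc, Category.assoc, ← hc1 c, ← hc2 c]
  refine ⟨⟨w⟩, ⟨PullbackCone.IsLimit.mk w
    (fun c => hsq.lift (c.snd ≫ (yon S).map prod.fst) (c.snd ≫ (yon S).map prod.snd) (hcond c))
    ?_ ?_ ?_⟩⟩
  · intro c
    rw [← Category.assoc, hsq.lift_fst, Category.assoc, ← hc1 c]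
  · intro c
    apply hmono
    · rw [Category.assoc, hjf, hsq.lift_fst]
    · rw [Category.assoc, hjs, hsq.lift_snd]
  · intro c m hm1 hm2
    apply hsq.hom_ext
    · rw [hsq.lift_fst, ← hm2, Category.assoc, hjf]
    · rw [hsq.lift_snd, ← hm2, Category.assoc, hjs]

theorem repWith_diag_of_presentation (P : MorphismProperty Scheme.{u})
    [P.IsStableUnderBaseChange] (hP : DescendsEtale P) (hF : IsAlgSpace F)
    (pres : IsPresentation s t p) (hj : P (prod.lift t s : R ⟶ U ⨯ U).left) :
    RepWith P (Limits.diag F) := by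
  have hqe : RepWith @Etale (prodChart p) := repWith_prodChart p @Etale pres.etale
  have hqs : RepWith @Surjective (prodChart p) := repWith_prodChart p @Surjective pres.surjective
  exact repWith_of_chart P hP (Limits.diag F) hF.diag (prodChart p) hqe hqs
    ((yon S).map t ≫ p) (prod.lift t s) (isPullback_diag s t p pres.isPullback) hj

end Chart

section FreeAction

variable {U : Over S} {G : Type u} [Group G] (ρ : G →* Aut U)
  (c : Cofan (fun _ : G => U)) (hc : IsColimit c) (s t : c.pt ⟶ U)
  (hs : ∀ g, c.inj g ≫ s = 𝟙 U) (ht : ∀ g, c.inj g ≫ t = (ρ g).hom)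

include hs ht in
theorem inj_lift (g : G) : c.inj g ≫ prod.lift t s = prod.lift (ρ g).hom (𝟙 U) := by
  apply prod.hom_ext
  · rw [Category.assoc, prod.lift_fst, prod.lift_fst, ht]
  · rw [Category.assoc, prod.lift_snd, prod.lift_snd, hs]

theorem graph_eq (g : G) :
    prod.lift (ρ g).hom (𝟙 U) = Limits.diag U ≫ prod.map (ρ g).hom (𝟙 U) := by
  apply prod.hom_ext
  · rw [prod.lift_fst, Category.assoc, prod.map_fst, Limits.diag, prod.lift_fst_assoc,
      Category.id_comp]
  · rw [prod.lift_snd, Category.assoc, prod.map_snd, Limits.diag, prod.lift_snd_assoc,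
      Category.id_comp]

theorem P_graph (P : MorphismProperty Scheme.{u}) [P.RespectsIso]
    (hd : P (pullback.diagonal U.hom)) (g : G) :
    P (prod.lift (ρ g).hom (𝟙 U) : U ⟶ U ⨯ U).left := by
  rw [graph_eq, Over.comp_left]
  haveI : IsIso (prod.map (ρ g).hom (𝟙 U)) := inferInstance
  haveI : IsIso (prod.map (ρ g).hom (𝟙 U)).left :=
    inferInstanceAs (IsIso ((Over.forget S).map (prod.map (ρ g).hom (𝟙 U))))
  rw [P.cancel_right_of_respectsIso]
  rw [← diag_left_comp_prodLeftIsoPullback] at hd
  exact (P.cancel_right_of_respectsIso _ _).mp hd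

include hc hs ht in
theorem lift_left_eq :
    (prod.lift t s : c.pt ⟶ U ⨯ U).left = (ptIso c hc).hom.left ≫
      Sigma.desc (fun g => (prod.lift (ρ g).hom (𝟙 U) : U ⟶ U ⨯ U).left) := by
  have h1 : prod.lift t s = (ptIso c hc).hom ≫
      sigmaOverDesc (fun _ : G => U) (fun g => prod.lift (ρ g).hom (𝟙 U)) := by
    refine Cofan.IsColimit.hom_ext hc _ _ (fun g => ?_)
    rw [← Category.assoc, inj_ptIso, sigmaOverι_desc, inj_lift ρ c s t hs ht]
  rw [h1, Over.comp_left]
  rfl

variable [Finite G]

include hc hs ht in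
theorem quasiCompact_lift (hqs : QuasiSeparated U.hom) :
    QuasiCompact (prod.lift t s : c.pt ⟶ U ⨯ U).left := by
  rw [lift_left_eq ρ c hc s t hs ht]
  have hiso : IsIso (ptIso c hc).hom.left :=
    inferInstanceAs (IsIso ((Over.forget S).map (ptIso c hc).hom))
  have hD : QuasiCompact (Sigma.desc (fun g => (prod.lift (ρ g).hom (𝟙 U) : U ⟶ U ⨯ U).left)) :=
    quasiCompact_sigmaDesc _
      (fun g => P_graph ρ @QuasiCompact hqs.quasiCompact_diagonal g)
  exact (@MorphismProperty.cancel_left_of_respectsIso _ _ @QuasiCompact _ _ _ _ _ _ hiso).mpr hD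

include hc hs ht in
theorem isClosedImmersion_lift (hE : IsEqvRel s t) (hsep : IsSeparated U.hom) :
    IsClosedImmersion (prod.lift t s : c.pt ⟶ U ⨯ U).left := by
  haveI : Mono (prod.lift t s : c.pt ⟶ U ⨯ U) := by
    constructor
    intro T r r' h
    apply hE.injective T r r'
    · have := congrArg (fun k => k ≫ prod.fst) h
      rwa [Category.assoc, Category.assoc, prod.lift_fst] at this
    · have := congrArg (fun k => k ≫ prod.snd) h
      rwa [Category.assoc, Category.assoc, prod.lift_snd] at this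
  have hm : Mono (prod.lift t s : c.pt ⟶ U ⨯ U).left := inferInstance
  have hE' := lift_left_eq ρ c hc s t hs ht
  have hiso : IsIso (ptIso c hc).hom.left :=
    inferInstanceAs (IsIso ((Over.forget S).map (ptIso c hc).hom))
  haveI : Mono (Sigma.desc (fun g => (prod.lift (ρ g).hom (𝟙 U) : U ⟶ U ⨯ U).left)) := by
    have h3 : Mono ((ptIso c hc).hom.left ≫
        Sigma.desc (fun g => (prod.lift (ρ g).hom (𝟙 U) : U ⟶ U ⨯ U).left)) := hE' ▸ hm
    exact (@MorphismProperty.cancel_left_of_respectsIso _ _
      (MorphismProperty.monomorphisms Scheme.{u}) _ _ _ _ _ _ hiso).mp h3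
  have hD : IsClosedImmersion
      (Sigma.desc (fun g => (prod.lift (ρ g).hom (𝟙 U) : U ⟶ U ⨯ U).left)) :=
    isClosedImmersion_sigmaDesc _
      (fun g => P_graph ρ @IsClosedImmersion hsep.isClosedImmersion_diagonal g)
      (Scheme.Hom.injective _)
  rw [hE']
  exact (@MorphismProperty.cancel_left_of_respectsIso _ _ @IsClosedImmersion _ _ _ _ _ _ hiso).mpr hD

end FreeAction

section Main

theorem main9890 (S : Scheme.{u}) (U : Over S) (G : Type u) [Group G] [Finite G]
    (ρ : G →* Aut U)
    (hfree : ∀ (g : G) (x : U.left), g ≠ 1 →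
      U.left.fromSpecResidueField x ≫ (ρ g).hom.left ≠ U.left.fromSpecResidueField x)
    (c : Cofan (fun _ : G => U)) (hc : IsColimit c) (s t : c.pt ⟶ U)
    (hs : ∀ g, c.inj g ≫ s = 𝟙 U) (ht : ∀ g, c.inj g ≫ t = (ρ g).hom) :
    (QuasiSeparated U.hom → AlgSp.IsQuasiSeparatedSp (QuotSh.quot Scheme.fppfPrecoverage s t)) ∧
      (IsSeparated U.hom → AlgSp.IsSeparatedSp (QuotSh.quot Scheme.fppfPrecoverage s t)) := by
  have hE : IsEtaleEqvRel s t := Groth.Agent.S9889.result S U G ρ hfree c hc s t hs ht
  have hQ := Groth.Agent.S9868.result S s t hE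
  have pres := Groth.Agent.S9869.result S s t hE hQ
  constructor
  · intro hqs
    exact repWith_diag_of_presentation s t _ @QuasiCompact descendsEtale_quasiCompact hQ pres
      (quasiCompact_lift ρ c hc s t hs ht hqs)
  · intro hsep
    exact repWith_diag_of_presentation s t _ @IsClosedImmersion descendsEtale_isClosedImmersion
      hQ pres (isClosedImmersion_lift ρ c hc s t hs ht hE.toIsEqvRel hsep)

end Main

end Groth.Agent.Lib.AlgSpFreeQuotSepH6
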