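import Groth.Agent.Lib.GeomRedFibreTFAE_helper7

/-!
# Geometrically reduced fibres of a morphism of algebraic spaces, read on a chart (helper7)
APPEND-ONLY once landed.
-/

set_option backward.isDefEq.respectTransparency false
set_option backward.isDefEq.respectTransparency.types false
set_option linter.style.haveILetI false
set_option linter.unusedSectionVars false
set_option linter.unusedVariables false
set_option autoImplicit false
set_option maxHeartbeats 1600000
universe u
open CategoryTheory CategoryTheory.Limits AlgebraicGeometry Opposite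

namespace Groth.Agent.Lib.AlgSpGRFibH7

open AlgSp Groth.Agent.Lib.AlgSpPoints_helper7 Groth.Agent.Lib.AlgSpPullback_helper7
  Groth.Agent.Lib.AlgSpReduced_helper7 Groth.Agent.Lib.AlgSpLocP_helper7
  Groth.Agent.Lib.AlgSpQC_helper7 Groth.Agent.Lib.GeomFibreBC Groth.Agent.Lib.GeomRedFibreTFAEH7

variable {S : Scheme.{u}}

/-- geometric reducedness of the fibre of `f` over the field point `k` (as in the statements) -/
def GRat {X Y : AlgSp.Space S} (f : X ⟶ Y) (k : AlgSp.FieldPt Y.obj) : Prop :=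
  ∀ (k' : Type u) [Field k'] (φ : k.K →+* k') (Xk' : AlgSp.Sp S) (a : Xk' ⟶ X.obj)
    (b : Xk' ⟶ (AlgSp.yon S).obj (Over.mk (Spec.map (CommRingCat.ofHom φ) ≫ k.str))),
    IsPullback a b f.hom ((AlgSp.yon S).map (Over.homMk (Spec.map (CommRingCat.ofHom φ)) rfl :
      Over.mk (Spec.map (CommRingCat.ofHom φ) ≫ k.str) ⟶ k.pt) ≫ k.toHom) →
    AlgSp.EtaleLocally (fun U => IsReduced U) Xk'

/-- the set of points of `|Y|` with geometrically reduced fibre -/
def GRset {X Y : AlgSp.Space S} (f : X ⟶ Y) : Set (AlgSp.Points Y.obj) :=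
  {y | ∀ (k : AlgSp.FieldPt Y.obj), AlgSp.Points.mk k = y → GRat f k}

/-- A scheme-level pullback square over a chart of a fibre product gives a chart of the base
changed fibre product. -/
theorem exists_chart_of_scheme_isPullback {X Y : Sp S} (f : X ⟶ Y) {T U T' : Over S}
    (g : (yon S).obj T ⟶ Y)
    {P : Sp S} {a : P ⟶ X} {b : P ⟶ (yon S).obj T} (sq : IsPullback a b f g)
    (e : (yon S).obj U ⟶ P) (hee : RepWith @Etale e) (hes : RepWith @Surjective e)
    (p : U ⟶ T) (hp : e ≫ b = (yon S).map p) (n : T' ⟶ T)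
    {Xk' : Sp S} {a' : Xk' ⟶ X} {b' : Xk' ⟶ (yon S).obj T'}
    (sq' : IsPullback a' b' f ((yon S).map n ≫ g))
    {Z : Scheme.{u}} (c₁l : Z ⟶ U.left) (c₂l : Z ⟶ T'.left)
    (hsq : IsPullback c₁l c₂l p.left n.left) :
    ∃ e' : (yon S).obj (Over.mk (c₁l ≫ U.hom)) ⟶ Xk', RepWith @Etale e' ∧ RepWith @Surjective e' := by
  obtain ⟨c₁, hc₁⟩ : ∃ c₁ : Over.mk (c₁l ≫ U.hom) ⟶ U, c₁ = Over.homMk c₁l rfl := ⟨_, rfl⟩
  have hw2 : c₂l ≫ T'.hom = c₁l ≫ U.hom := by
    rw [← Over.w n, ← Category.assoc, ← hsq.w, Category.assoc, Over.w p]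
  obtain ⟨c₂, hc₂⟩ : ∃ c₂ : Over.mk (c₁l ≫ U.hom) ⟶ T', c₂ = Over.homMk c₂l hw2 := ⟨_, rfl⟩
  have hO : IsPullback c₁ c₂ p n := by
    subst hc₁ hc₂
    refine IsPullback.of_map (Over.forget S) ?_ ?_
    · ext
      exact hsq.w
    · exact hsq
  have hY : IsPullback ((yon S).map c₁) ((yon S).map c₂) ((yon S).map p) ((yon S).map n) :=
    IsPullback.map (yon S) hO
  -- the map `Xk' ⟶ P`
  have hw : a' ≫ f = (b' ≫ (yon S).map n) ≫ g := by
    rw [Category.assoc]
    exact sq'.w
  obtain ⟨r, hr⟩ : ∃ r : Xk' ⟶ P, r = sq.lift a' (b' ≫ (yon S).map n) hw := ⟨_, rfl⟩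
  have hr1 : r ≫ a = a' := by rw [hr]; exact sq.lift_fst _ _ _
  have hr2 : r ≫ b = b' ≫ (yon S).map n := by rw [hr]; exact sq.lift_snd _ _ _
  have sqr : IsPullback r b' b ((yon S).map n) := by
    refine IsPullback.of_right ?_ hr2 sq
    rw [hr1]
    exact sq'
  have hw' : ((yon S).map c₁ ≫ e) ≫ b = (yon S).map c₂ ≫ (yon S).map n := by
    rw [Category.assoc, hp]
    exact hY.w
  obtain ⟨e', he'⟩ : ∃ e' : (yon S).obj (Over.mk (c₁l ≫ U.hom)) ⟶ Xk',
      e' = sqr.lift ((yon S).map c₁ ≫ e) ((yon S).map c₂) hw' := ⟨_, rfl⟩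
  have he1 : e' ≫ r = (yon S).map c₁ ≫ e := by rw [he']; exact sqr.lift_fst _ _ _
  have he2 : e' ≫ b' = (yon S).map c₂ := by rw [he']; exact sqr.lift_snd _ _ _
  have sqA : IsPullback e' ((yon S).map c₁) r e := by
    refine IsPullback.of_right ?_ he1 sqr.flip
    rw [he2, hp]
    exact hY.flip
  exact ⟨e', repWith_fst_of_isPullback _ sqA hee, repWith_fst_of_isPullback _ sqA hes⟩

section Chart

variable {X Y : AlgSp.Space S} (f : X ⟶ Y) {T U : Over S} (g : (yon S).obj T ⟶ Y.obj)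
  {P : Sp S} {a : P ⟶ X.obj} {b : P ⟶ (yon S).obj T} (sq : IsPullback a b f.hom g)
  (e : (yon S).obj U ⟶ P) (hee : RepWith @Etale e) (hes : RepWith @Surjective e)
  (p : U ⟶ T) (hp : e ≫ b = (yon S).map p) (t : T.left)

/-- the canonical field point at `t` -/
noncomputable abbrev mPt (T : Over S) (t : T.left) :
    Over.mk (T.left.fromSpecResidueField t ≫ T.hom) ⟶ T :=
  Over.homMk (T.left.fromSpecResidueField t) rfl

theorem mk_ofHom_mPt :
    Points.mk (ofHom ((yon S).map (mPt T t) ≫ g)) = Points.ofPt g t := by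
  have h := ofPt_eq_mk_ofHom g (mPt T t)
  rw [← h]
  congr 1
  exact Scheme.fromSpecResidueField_apply t _

include sq hee hes hp in
/-- chart of the fibre over an extension of the residue field -/
theorem exists_chart_fibre {K : Type u} [Field K] (φ : T.left.residueField t →+* K)
    {Xk' : Sp S} {a' : Xk' ⟶ X.obj}
    {b' : Xk' ⟶ (yon S).obj (Over.mk (Spec.map (CommRingCat.ofHom φ) ≫
      T.left.fromSpecResidueField t ≫ T.hom))}
    (sq' : IsPullback a' b' f.hom ((yon S).map (Over.homMk (Spec.map (CommRingCat.ofHom φ)) rfl :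
      Over.mk (Spec.map (CommRingCat.ofHom φ) ≫ T.left.fromSpecResidueField t ≫ T.hom) ⟶
        Over.mk (T.left.fromSpecResidueField t ≫ T.hom)) ≫ (yon S).map (mPt T t) ≫ g)) :
    ∃ (U' : Over S) (e' : (yon S).obj U' ⟶ Xk'), RepWith @Etale e' ∧ RepWith @Surjective e' ∧
      U'.left = pullback (p.left.fiberToSpecResidueField t) (Spec.map (CommRingCat.ofHom φ)) := by
  obtain ⟨n, hn⟩ : ∃ n : Over.mk (Spec.map (CommRingCat.ofHom φ) ≫
      T.left.fromSpecResidueField t ≫ T.hom) ⟶ T,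
      n = (Over.homMk (Spec.map (CommRingCat.ofHom φ)) rfl :
      Over.mk (Spec.map (CommRingCat.ofHom φ) ≫ T.left.fromSpecResidueField t ≫ T.hom) ⟶
        Over.mk (T.left.fromSpecResidueField t ≫ T.hom)) ≫ mPt T t := ⟨_, rfl⟩
  have hnl : n.left = Spec.map (CommRingCat.ofHom φ) ≫ T.left.fromSpecResidueField t := by
    rw [hn]
    rfl
  have hcomp : (yon S).map n ≫ g = (yon S).map (Over.homMk (Spec.map (CommRingCat.ofHom φ)) rfl :
      Over.mk (Spec.map (CommRingCat.ofHom φ) ≫ T.left.fromSpecResidueField t ≫ T.hom) ⟶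
        Over.mk (T.left.fromSpecResidueField t ≫ T.hom)) ≫ (yon S).map (mPt T t) ≫ g := by
    rw [hn, Functor.map_comp, Category.assoc]
  have sq'' : IsPullback a' b' f.hom ((yon S).map n ≫ g) := by
    rw [hcomp]
    exact sq'
  have h1 : IsPullback
      (pullback.fst (p.left.fiberToSpecResidueField t) (Spec.map (CommRingCat.ofHom φ)))
      (pullback.snd (p.left.fiberToSpecResidueField t) (Spec.map (CommRingCat.ofHom φ)))
      (p.left.fiberToSpecResidueField t) (Spec.map (CommRingCat.ofHom φ)) :=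
    IsPullback.of_hasPullback _ _
  have h2 : IsPullback (p.left.fiberι t) (p.left.fiberToSpecResidueField t) p.left
      (T.left.fromSpecResidueField t) := IsPullback.of_hasPullback _ _
  have h3 := h1.paste_horiz h2
  rw [← hnl] at h3
  obtain ⟨e', h4, h5⟩ := exists_chart_of_scheme_isPullback f.hom g sq e hee hes p hp n sq'' _ _ h3
  exact ⟨_, e', h4, h5, rfl⟩

include sq hee hes hp in
theorem mem_GRset_of_geomRed (h : GeometricallyReduced (p.left.fiberToSpecResidueField t)) :
    Points.ofPt g t ∈ GRset f := by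
  have hk₀ := mk_ofHom_mPt g t
  have hT := ((main10686 f (Points.ofPt g t)).out 0 1).1
  refine hT ⟨ofHom ((yon S).map (mPt T t) ≫ g), hk₀, ?_⟩
  intro k' _ φ Xk' a' b' sq'
  rw [toHom_ofHom] at sq'
  obtain ⟨U', e', h4, h5, h6⟩ := exists_chart_fibre f g sq e hee hes p hp t φ sq'
  refine ⟨U', e', h4, h5, ?_⟩
  show IsReduced U'.left
  rw [h6]
  exact h.geometrically_isReduced _ _ _ (IsPullback.of_hasPullback _ _)

include sq hee hes hp in
theorem geomRed_of_mem_GRset (h : Points.ofPt g t ∈ GRset f) :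
    GeometricallyReduced (p.left.fiberToSpecResidueField t) := by
  have hk₀ := mk_ofHom_mPt g t
  have hG : GRat f (ofHom ((yon S).map (mPt T t) ≫ g)) := h _ hk₀
  constructor
  intro K _ y Z fst snd hZ
  obtain ⟨α, rfl⟩ := Spec.map_surjective y
  obtain ⟨φ, hφ⟩ : ∃ φ : T.left.residueField t →+* K, φ = α.hom := ⟨_, rfl⟩
  have hα : α = CommRingCat.ofHom φ := by subst hφ; rfl
  subst hα
  have sq' := IsPullback.of_hasPullback f.hom
    ((yon S).map (Over.homMk (Spec.map (CommRingCat.ofHom φ)) rfl :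
      Over.mk (Spec.map (CommRingCat.ofHom φ) ≫ T.left.fromSpecResidueField t ≫ T.hom) ⟶
        Over.mk (T.left.fromSpecResidueField t ≫ T.hom)) ≫ (yon S).map (mPt T t) ≫ g)
  have hred : AlgSp.EtaleLocally (fun U => IsReduced U) (pullback f.hom
    ((yon S).map (Over.homMk (Spec.map (CommRingCat.ofHom φ)) rfl :
      Over.mk (Spec.map (CommRingCat.ofHom φ) ≫ T.left.fromSpecResidueField t ≫ T.hom) ⟶
        Over.mk (T.left.fromSpecResidueField t ≫ T.hom)) ≫ (yon S).map (mPt T t) ≫ g)) := by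
    have h0 := hG K φ _ _ _
      (by rw [toHom_ofHom]; exact sq')
    exact h0
  have hXk : IsAlgSpace (pullback f.hom
    ((yon S).map (Over.homMk (Spec.map (CommRingCat.ofHom φ)) rfl :
      Over.mk (Spec.map (CommRingCat.ofHom φ) ≫ T.left.fromSpecResidueField t ≫ T.hom) ⟶
        Over.mk (T.left.fromSpecResidueField t ≫ T.hom)) ≫ (yon S).map (mPt T t) ≫ g)) :=
    isAlgSpace_of_isPullback Y.property.diag X.property (IsAlgSpace.yon_obj _) sq'
  obtain ⟨U', e', h4, h5, h6⟩ := exists_chart_fibre f g sq e hee hes p hp t φ sq'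
  have h7 : IsReduced U'.left := isReduced_chart_of_isReducedSp hXk hred e' h4
  rw [h6] at h7
  haveI := h7
  exact isReduced_of_isOpenImmersion hZ.isoPullback.hom

include sq hee hes hp in
theorem mem_GRset_iff :
    Points.ofPt g t ∈ GRset f ↔ GeometricallyReduced (p.left.fiberToSpecResidueField t) :=
  ⟨geomRed_of_mem_GRset f g sq e hee hes p hp t, mem_GRset_of_geomRed f g sq e hee hes p hp t⟩

end Chart

end Groth.Agent.Lib.AlgSpGRFibH7
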