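import Mathlib
import Groth.Prelude.Def_W4ega4s0809p4Pair
import Groth.Agent.Lib.ConsProp2_helper7
import Groth.Agent.Lib.LimDescFP4_helper7
import Groth.Agent.S9218

/-!
# Ind-constructible properties of pairs of algebraic schemes (helper7)

For a morphism property `Q` stable under base change which spreads out from cofiltered limits
(`DescendsIn Q`), the relation `PairProp Q (X, Y, k)` : "there are an extension `k'` of `k` and a
`k'`-morphism `X_{k'} ⟶ Y_{k'}` with `Q`" is an ind-constructible property of pairs of algebraic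
schemes (`isIndConsPair`).
-/

set_option autoImplicit false
set_option linter.style.haveILetI false
set_option linter.unusedVariables false
universe u
open CategoryTheory CategoryTheory.Limits AlgebraicGeometry TopologicalSpace Topology

namespace Groth.Agent.Lib.ConsPairH7

open Groth.Agent.Lib.LimDescFPH7 Groth.Agent.Lib.ConsPropH7

/-- the relation "after some field extension there is a morphism with property `Q`" -/
abbrev PairProp (Q : MorphismProperty Scheme.{u}) :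
    ∀ ⦃X Y T : Scheme.{u}⦄, (X ⟶ T) → (Y ⟶ T) → Prop :=
  fun X Y T gX gY => ∃ (T' X' Y' : Scheme.{u}) (h : T' ⟶ T) (gX' : X' ⟶ T') (gY' : Y' ⟶ T')
    (eX : X' ⟶ X) (eY : Y' ⟶ Y), IsIntegral T' ∧ Subsingleton ↥T' ∧
      IsPullback eX gX' gX h ∧ IsPullback eY gY' gY h ∧
        ∃ g : X' ⟶ Y', g ≫ gY' = gX' ∧ Q g

/-- `Q` spreads out from a cofiltered limit to a stage -/
def DescendsIn (Q : MorphismProperty Scheme.{u}) : Prop :=
  ∀ {I : Type u} [SmallCategory I] [IsCofiltered I] (D : I ⥤ Scheme.{u}) (c : Cone D)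
    (_ : IsLimit c) [∀ (i j : I) (f : i ⟶ j), IsAffineHom (D.map f)] (i₀ : I)
    [CompactSpace (D.obj i₀)] [QuasiSeparatedSpace (D.obj i₀)] {X₀ Y₀ : Scheme.{u}}
    (f₀ : X₀ ⟶ Y₀) (g₀ : Y₀ ⟶ D.obj i₀)
    [LocallyOfFinitePresentation g₀] [QuasiCompact g₀] [QuasiSeparated g₀]
    [LocallyOfFinitePresentation (f₀ ≫ g₀)] [QuasiCompact (f₀ ≫ g₀)] [QuasiSeparated (f₀ ≫ g₀)]
    {X Y : Scheme.{u}} (f : X ⟶ Y) (g : Y ⟶ c.pt) (qY : Y ⟶ Y₀) (qX : X ⟶ X₀)
    (_ : IsPullback qY g g₀ (c.π.app i₀)) (_ : IsPullback qX f f₀ qY), Q f →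
    ∃ (i : I) (φ : i ⟶ i₀) (Xi Yi : Scheme.{u}) (fi : Xi ⟶ Yi) (gi : Yi ⟶ D.obj i)
      (pY : Yi ⟶ Y₀) (pX : Xi ⟶ X₀),
      IsPullback pY gi g₀ (D.map φ) ∧ IsPullback pX fi f₀ pY ∧ Q fi

section FieldStable

/-- base change of a square along a further extension -/
theorem isPullback_lift_of_isPullback {X X' X₁ T T' T₁ T'' : Scheme.{u}} {gX : X ⟶ T}
    {gX' : X' ⟶ T'} {eX : X' ⟶ X} {h : T' ⟶ T} (hX : IsPullback eX gX' gX h)
    {gX₁ : X₁ ⟶ T₁} {eX₁ : X₁ ⟶ X} {h₁ : T₁ ⟶ T} (hX₁ : IsPullback eX₁ gX₁ gX h₁)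
    (a : T'' ⟶ T₁) (b : T'' ⟶ T') (hab : a ≫ h₁ = b ≫ h) :
    ∃ e : pullback gX₁ a ⟶ X', IsPullback e (pullback.snd gX₁ a) gX' b := by
  have wX : (pullback.fst gX₁ a ≫ eX₁) ≫ gX = (pullback.snd gX₁ a ≫ b) ≫ h := by
    rw [Category.assoc, Category.assoc, hX₁.w, pullback.condition_assoc, hab]
  have bigX : IsPullback (pullback.fst gX₁ a ≫ eX₁) (pullback.snd gX₁ a) gX (a ≫ h₁) :=
    (IsPullback.of_hasPullback gX₁ a).paste_horiz hX₁
  refine ⟨hX.lift _ _ wX, ?_⟩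
  refine IsPullback.of_right ?_ (hX.lift_snd _ _ wX) hX
  rw [hX.lift_fst, ← hab]
  exact bigX

theorem isFieldStablePair (Q : MorphismProperty Scheme.{u}) [Q.IsStableUnderBaseChange] :
    ConsPropPair.IsFieldStablePair (PairProp Q) := by
  intro X X' Y Y' T T' gX gY gX' gY' eX eY h _ _ _ _ _ _ _ _ hX hY
  constructor
  · rintro ⟨T₁, X₁, Y₁, h₁, gX₁, gY₁, eX₁, eY₁, hint, hsub, hX₁, hY₁, g, hg, hQ⟩
    haveI := hint
    obtain ⟨t₁⟩ : Nonempty T₁ := inferInstance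
    obtain ⟨t'⟩ : Nonempty T' := inferInstance
    obtain ⟨z, -, -⟩ := Scheme.Pullback.exists_preimage_pullback (f := h₁) (g := h) t₁ t'
      (Subsingleton.elim _ _)
    obtain ⟨a, b, hab⟩ : ∃ (a : Spec ((pullback h₁ h).residueField z) ⟶ T₁)
        (b : Spec ((pullback h₁ h).residueField z) ⟶ T'), a ≫ h₁ = b ≫ h :=
      ⟨(pullback h₁ h).fromSpecResidueField z ≫ pullback.fst h₁ h,
        (pullback h₁ h).fromSpecResidueField z ≫ pullback.snd h₁ h, by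
          rw [Category.assoc, Category.assoc, pullback.condition]⟩
    have w : (pullback.fst gX₁ a ≫ g) ≫ gY₁ = pullback.snd gX₁ a ≫ a := by
      rw [Category.assoc, hg, pullback.condition]
    obtain ⟨g'', hg''1, hg''2⟩ : ∃ g'' : pullback gX₁ a ⟶ pullback gY₁ a,
        g'' ≫ pullback.fst gY₁ a = pullback.fst gX₁ a ≫ g ∧
          g'' ≫ pullback.snd gY₁ a = pullback.snd gX₁ a :=
      ⟨pullback.lift (pullback.fst gX₁ a ≫ g) (pullback.snd gX₁ a) w,
        pullback.lift_fst _ _ _, pullback.lift_snd _ _ _⟩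
    have sq : IsPullback (pullback.fst gX₁ a) g'' g (pullback.fst gY₁ a) := by
      refine IsPullback.of_bot ?_ hg''1.symm (IsPullback.of_hasPullback gY₁ a)
      rw [hg''2, hg]
      exact IsPullback.of_hasPullback gX₁ a
    have hQ'' : Q g'' := Q.of_isPullback sq hQ
    obtain ⟨eX'', sqX⟩ := isPullback_lift_of_isPullback hX hX₁ a b hab
    obtain ⟨eY'', sqY⟩ := isPullback_lift_of_isPullback hY hY₁ a b hab
    exact ⟨Spec ((pullback h₁ h).residueField z), pullback gX₁ a, pullback gY₁ a, b,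
      pullback.snd gX₁ a, pullback.snd gY₁ a, eX'', eY'', inferInstance, inferInstance, sqX, sqY,
      g'', hg''2, hQ''⟩
  · rintro ⟨T₁, X₁, Y₁, h₁, gX₁, gY₁, eX₁, eY₁, hint, hsub, hX₁, hY₁, g, hg, hQ⟩
    exact ⟨T₁, X₁, Y₁, h₁ ≫ h, gX₁, gY₁, eX₁ ≫ eX, eY₁ ≫ eY, hint, hsub,
      hX₁.paste_horiz hX, hY₁.paste_horiz hY, g, hg, hQ⟩

end FieldStable

section Stage

/-- a morphism with `Q` between base changes to the limit descends to a stage -/
theorem exists_stage_hom {Q : MorphismProperty Scheme.{u}} (hdesc : DescendsIn Q)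
    {I : Type u} [SmallCategory I] [IsCofiltered I] (D : I ⥤ Scheme.{u}) (c : Cone D)
    (hc : IsLimit c) [∀ (i j : I) (f : i ⟶ j), IsAffineHom (D.map f)] (i₀ : I)
    [CompactSpace (D.obj i₀)] [QuasiSeparatedSpace (D.obj i₀)] {X₀ Y₀ : Scheme.{u}}
    (x₀ : X₀ ⟶ D.obj i₀) (y₀ : Y₀ ⟶ D.obj i₀)
    [LocallyOfFinitePresentation x₀] [QuasiCompact x₀] [QuasiSeparated x₀]
    [LocallyOfFinitePresentation y₀] [QuasiCompact y₀] [QuasiSeparated y₀]
    {X' Y' : Scheme.{u}} (gX' : X' ⟶ c.pt) (gY' : Y' ⟶ c.pt) (qX : X' ⟶ X₀) (qY : Y' ⟶ Y₀)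
    (hX : IsPullback qX gX' x₀ (c.π.app i₀)) (hY : IsPullback qY gY' y₀ (c.π.app i₀))
    (g : X' ⟶ Y') (hg : g ≫ gY' = gX') (hQ : Q g) :
    ∃ (i : I) (φ : i ⟶ i₀) (Xi Yi : Scheme.{u}) (yi : Yi ⟶ D.obj i) (pX : Xi ⟶ X₀)
      (pY : Yi ⟶ Y₀) (fi : Xi ⟶ Yi),
      IsPullback pX (fi ≫ yi) x₀ (D.map φ) ∧ IsPullback pY yi y₀ (D.map φ) ∧ Q fi := by
  haveI : CompactSpace X₀ := QuasiCompact.compactSpace_of_compactSpace x₀
  haveI : QuasiSeparatedSpace X₀ := quasiSeparatedSpace_of_quasiSeparated x₀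
  haveI : CompactSpace Y₀ := QuasiCompact.compactSpace_of_compactSpace y₀
  haveI : QuasiSeparatedSpace Y₀ := quasiSeparatedSpace_of_quasiSeparated y₀
  obtain ⟨j, φ, fj, sX, sY, h1, h2, h3, h4, h5, h6⟩ :=
    Groth.Agent.S9218.result D c hc i₀ x₀ y₀ qX gX' hX qY gY' hY g hg
  have hw : c.π.app j ≫ D.map φ = c.π.app i₀ := c.w φ
  have hXj : IsPullback sX gX' (pullback.snd x₀ (D.map φ)) (c.π.app j) := by
    refine IsPullback.of_right ?_ h3 (IsPullback.of_hasPullback x₀ (D.map φ))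
    rw [h2, hw]
    exact hX
  have hYj : IsPullback sY gY' (pullback.snd y₀ (D.map φ)) (c.π.app j) := by
    refine IsPullback.of_right ?_ h5 (IsPullback.of_hasPullback y₀ (D.map φ))
    rw [h4, hw]
    exact hY
  have hTop : IsPullback sX g fj sY := by
    refine IsPullback.of_bot ?_ h6 hYj
    rw [hg, h1]
    exact hXj
  haveI : CompactSpace (D.obj j) := QuasiCompact.compactSpace_of_compactSpace (D.map φ)
  haveI : QuasiSeparatedSpace (D.obj j) := quasiSeparatedSpace_of_quasiSeparated (D.map φ)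
  haveI : LocallyOfFinitePresentation (fj ≫ pullback.snd y₀ (D.map φ)) := by
    rw [h1]; infer_instance
  haveI : QuasiCompact (fj ≫ pullback.snd y₀ (D.map φ)) := by
    rw [h1]; infer_instance
  haveI : QuasiSeparated (fj ≫ pullback.snd y₀ (D.map φ)) := by
    rw [h1]; infer_instance
  obtain ⟨i, φ', Xi, Yi, fi, gi, pY, pX, hYi, hXi, hQi⟩ :=
    hdesc D c hc j fj (pullback.snd y₀ (D.map φ)) g gY' sY sX hYj hTop hQ
  refine ⟨i, φ' ≫ φ, Xi, Yi, gi, pX ≫ pullback.fst x₀ (D.map φ),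
    pY ≫ pullback.fst y₀ (D.map φ), fi, ?_, ?_, hQi⟩
  · have h7 := hXi.paste_vert hYi
    rw [h1] at h7
    have h8 := h7.paste_horiz (IsPullback.of_hasPullback x₀ (D.map φ))
    rwa [← D.map_comp] at h8
  · have h8 := hYi.paste_horiz (IsPullback.of_hasPullback y₀ (D.map φ))
    rwa [← D.map_comp] at h8

end Stage

section Model

/-- A morphism with `Q` between the base changes of two finitely presented `S`-schemes to an affine
scheme `T'` over `S` (landing in an affine open) is defined, with `Q`, over an affine scheme of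
finite presentation over `S` through which `T'` factors. -/
theorem exists_finiteType_model {Q : MorphismProperty Scheme.{u}} (hdesc : DescendsIn Q)
    {X Y S : Scheme.{u}} (u : X ⟶ S) (v : Y ⟶ S)
    [LocallyOfFinitePresentation u] [QuasiCompact u] [QuasiSeparated u]
    [LocallyOfFinitePresentation v] [QuasiCompact v] [QuasiSeparated v]
    {T' X' Y' : Scheme.{u}} [IsAffine T'] (hT : T' ⟶ S) (U₀ : S.Opens) (hU₀ : IsAffineOpen U₀)
    (hrange : Set.range hT ⊆ (U₀ : Set S))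
    (gX' : X' ⟶ T') (gY' : Y' ⟶ T') (eX : X' ⟶ X) (eY : Y' ⟶ Y)
    (hX : IsPullback eX gX' u hT) (hY : IsPullback eY gY' v hT)
    (g : X' ⟶ Y') (hg : g ≫ gY' = gX') (hQ : Q g) :
    ∃ (S' Xs Ys : Scheme.{u}) (β : S' ⟶ S) (t : T' ⟶ S') (ys : Ys ⟶ S') (pX : Xs ⟶ X)
      (pY : Ys ⟶ Y) (f' : Xs ⟶ Ys), IsAffine S' ∧ LocallyOfFinitePresentation β ∧ t ≫ β = hT ∧
        IsPullback pX (f' ≫ ys) u β ∧ IsPullback pY ys v β ∧ Q f' := by
  have hr : Set.range hT ⊆ Set.range hU₀.fromSpec := by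
    rw [hU₀.range_fromSpec]
    exact hrange
  obtain ⟨ĥ, hĥ⟩ : ∃ ĥ : T' ⟶ Spec Γ(S, U₀), ĥ ≫ hU₀.fromSpec = hT :=
    ⟨IsOpenImmersion.lift hU₀.fromSpec hT hr, IsOpenImmersion.lift_fac _ _ _⟩
  obtain ⟨ψ, hψ⟩ : ∃ ψ : Γ(S, U₀) ⟶ Γ(T', ⊤), Spec.map ψ = T'.isoSpec.inv ≫ ĥ :=
    ⟨Spec.preimage (T'.isoSpec.inv ≫ ĥ), Spec.map_preimage _⟩
  letI : Algebra Γ(S, U₀) Γ(T', ⊤) := ψ.hom.toAlgebra
  have hc := isLimitConeS Γ(S, U₀) Γ(T', ⊤)
  obtain ⟨i₀⟩ : Nonempty (AlgColim2H7.Idx Γ(S, U₀) Γ(T', ⊤))ᵒᵖ :=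
    ⟨Opposite.op (Classical.arbitrary _)⟩
  -- structure maps of the stages
  obtain ⟨σ, hσdef⟩ : ∃ σ : ∀ j : (AlgColim2H7.Idx Γ(S, U₀) Γ(T', ⊤))ᵒᵖ,
      (DS Γ(S, U₀) Γ(T', ⊤)).obj j ⟶ Spec Γ(S, U₀), ∀ j, σ j =
        Spec.map ((AlgColim2H7.D (R := Γ(S, U₀)) (A := Γ(T', ⊤))).obj j.unop).hom :=
    ⟨fun j => Spec.map ((AlgColim2H7.D (R := Γ(S, U₀)) (A := Γ(T', ⊤))).obj j.unop).hom,
      fun j => rfl⟩
  have hσ : ∀ j, (coneS Γ(S, U₀) Γ(T', ⊤)).π.app j ≫ σ j = Spec.map ψ := by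
    intro j
    rw [hσdef]
    show Spec.map ((AlgColim2H7.cocone (R := Γ(S, U₀)) (A := Γ(T', ⊤))).ι.app j.unop).right ≫
      Spec.map _ = _
    rw [← Spec.map_comp, Under.w]
    rfl
  have hσmap : ∀ {i j : (AlgColim2H7.Idx Γ(S, U₀) Γ(T', ⊤))ᵒᵖ} (φ : i ⟶ j),
      (DS Γ(S, U₀) Γ(T', ⊤)).map φ ≫ σ j = σ i := by
    intro i j φ
    rw [hσdef, hσdef]
    show Spec.map ((AlgColim2H7.D (R := Γ(S, U₀)) (A := Γ(T', ⊤))).map φ.unop).right ≫
      Spec.map _ = _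
    rw [← Spec.map_comp, Under.w]
  have hσlfp : ∀ j, LocallyOfFinitePresentation (σ j) := by
    intro j
    rw [hσdef]
    exact (HasRingHomProperty.Spec_iff (P := @LocallyOfFinitePresentation)).mpr
      (AlgColim2H7.D_fp j.unop)
  obtain ⟨e', he'def⟩ : ∃ e' : T' ⟶ (coneS Γ(S, U₀) Γ(T', ⊤)).pt, e' = T'.isoSpec.hom :=
    ⟨T'.isoSpec.hom, rfl⟩
  haveI : IsIso e' := by
    rw [he'def]
    infer_instance
  have hplain : T'.isoSpec.hom ≫ Spec.map ψ ≫ hU₀.fromSpec = hT := by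
    rw [hψ, Category.assoc, Iso.hom_inv_id_assoc, hĥ]
  obtain ⟨β₀, hβ₀def⟩ : ∃ β₀ : (DS Γ(S, U₀) Γ(T', ⊤)).obj i₀ ⟶ S, β₀ = σ i₀ ≫ hU₀.fromSpec :=
    ⟨_, rfl⟩
  have hβ₀ : e' ≫ (coneS Γ(S, U₀) Γ(T', ⊤)).π.app i₀ ≫ β₀ = hT := by
    rw [hβ₀def, ← Category.assoc ((coneS Γ(S, U₀) Γ(T', ⊤)).π.app i₀), hσ, he'def]
    exact hplain
  have h3 : inv e' ≫ hT = (coneS Γ(S, U₀) Γ(T', ⊤)).π.app i₀ ≫ β₀ := by
    rw [← hβ₀, IsIso.inv_hom_id_assoc]
  -- the two families over the stage `i₀`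
  have key : ∀ {Z Z' : Scheme.{u}} (w : Z ⟶ S) (gZ' : Z' ⟶ T') (eZ : Z' ⟶ Z)
      (hZ : IsPullback eZ gZ' w hT), ∃ qZ : Z' ⟶ pullback w β₀,
        IsPullback qZ (gZ' ≫ e') (pullback.snd w β₀) ((coneS Γ(S, U₀) Γ(T', ⊤)).π.app i₀) := by
    intro Z Z' w gZ' eZ hZ
    have wZ : eZ ≫ w = (gZ' ≫ e' ≫ (coneS Γ(S, U₀) Γ(T', ⊤)).π.app i₀) ≫ β₀ := by
      rw [hZ.w, Category.assoc, Category.assoc, hβ₀]
    refine ⟨pullback.lift eZ (gZ' ≫ e' ≫ (coneS Γ(S, U₀) Γ(T', ⊤)).π.app i₀) wZ, ?_⟩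
    refine IsPullback.of_right ?_ (by rw [pullback.lift_snd, Category.assoc])
      (IsPullback.of_hasPullback w β₀)
    rw [pullback.lift_fst]
    have h1 : IsPullback (𝟙 Z') (gZ' ≫ e') gZ' (inv e') := IsPullback.of_horiz_isIso ⟨by simp⟩
    have h2 := h1.paste_horiz hZ
    rw [Category.id_comp, h3] at h2
    exact h2
  obtain ⟨qX, hqX⟩ := key u gX' eX hX
  obtain ⟨qY, hqY⟩ := key v gY' eY hY
  obtain ⟨i, φ, Xi, Yi, yi, pX, pY, fi, hXi, hYi, hQi⟩ :=
    exists_stage_hom hdesc (DS Γ(S, U₀) Γ(T', ⊤)) (coneS Γ(S, U₀) Γ(T', ⊤)) hc i₀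
      (pullback.snd u β₀) (pullback.snd v β₀) (gX' ≫ e') (gY' ≫ e') qX qY hqX hqY g
      (by rw [← Category.assoc, hg]) hQ
  have hβ : (DS Γ(S, U₀) Γ(T', ⊤)).map φ ≫ β₀ = σ i ≫ hU₀.fromSpec := by
    rw [hβ₀def, ← Category.assoc, hσmap]
  haveI := hσlfp i
  refine ⟨(DS Γ(S, U₀) Γ(T', ⊤)).obj i, Xi, Yi, (DS Γ(S, U₀) Γ(T', ⊤)).map φ ≫ β₀,
    e' ≫ (coneS Γ(S, U₀) Γ(T', ⊤)).π.app i, yi, pX ≫ pullback.fst u β₀,
    pY ≫ pullback.fst v β₀, fi, inferInstance, ?_, ?_,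
    hXi.paste_horiz (IsPullback.of_hasPullback u β₀),
    hYi.paste_horiz (IsPullback.of_hasPullback v β₀), hQi⟩
  · rw [hβ]
    infer_instance
  · rw [Category.assoc, ← Category.assoc ((coneS Γ(S, U₀) Γ(T', ⊤)).π.app i),
      (coneS Γ(S, U₀) Γ(T', ⊤)).w φ, hβ₀]

end Model

section Generic

theorem interior_nonempty_of_model (Q : MorphismProperty Scheme.{u}) [Q.IsStableUnderBaseChange]
    {X Y S : Scheme.{u}} (u : X ⟶ S) (v : Y ⟶ S) [IsIntegral S] [IsNoetherian S]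
    {S' Xs Ys : Scheme.{u}} [CompactSpace S'] (β : S' ⟶ S) [LocallyOfFinitePresentation β]
    (hη : genericPoint S ∈ Set.range β) (ys : Ys ⟶ S') (pX : Xs ⟶ X) (pY : Ys ⟶ Y)
    (f' : Xs ⟶ Ys) (hXs : IsPullback pX (f' ≫ ys) u β) (hYs : IsPullback pY ys v β)
    (hQ : Q f') :
    (interior (ConsPropPair.locusPair (PairProp Q) u v)).Nonempty := by
  haveI : QuasiCompact β := inferInstance
  have hcons : IsConstructible (Set.range β) := by
    have := β.isConstructible_image IsConstructible.univ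
    rwa [Set.image_univ] at this
  obtain ⟨U, hU, hηU, hcase⟩ :=
    Groth.Agent.Lib.Constr_lead.exists_open_generic_of_isConstructible hcons (genericPoint_spec S)
  have hsub : U ⊆ Set.range β := by
    rcases hcase with h1 | h1
    · exact fun s hs => h1 ⟨hs, trivial⟩
    · exact absurd hη (h1 ⟨hηU, trivial⟩)
  refine ⟨genericPoint S, mem_interior.mpr ⟨U, ?_, hU, hηU⟩⟩
  intro s hs
  obtain ⟨s', rfl⟩ := hsub hs
  exact ⟨Spec (S'.residueField s'), (f' ≫ ys).fiber s', ys.fiber s',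
    Spec.map (β.residueFieldMap s'), (f' ≫ ys).fiberToSpecResidueField s',
    ys.fiberToSpecResidueField s', _, _, inferInstance, inferInstance,
    isPullback_fiberToSpecResidueField_of_isPullback hXs s',
    isPullback_fiberToSpecResidueField_of_isPullback hYs s',
    MoreMor.fiberMap f' ys s', fiberMap_comp_toSpec f' ys s',
    Q.of_isPullback (isPullback_fiberMap f' ys s') hQ⟩

theorem pair_generic (Q : MorphismProperty Scheme.{u}) [Q.IsStableUnderBaseChange]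
    (hdesc : DescendsIn Q) {X Y S : Scheme.{u}} (u : X ⟶ S) (v : Y ⟶ S) [IsIntegral S]
    [IsNoetherian S] [LocallyOfFiniteType u] [QuasiCompact u] [LocallyOfFiniteType v]
    [QuasiCompact v]
    (hη : genericPoint S ∈ ConsPropPair.locusPair (PairProp Q) u v) :
    (interior (ConsPropPair.locusPair (PairProp Q) u v)).Nonempty := by
  obtain ⟨T', X', Y', h, gX', gY', eX, eY, hint, hsub, hX, hY, g, hg, hQ⟩ := hη
  haveI := hint
  haveI := hsub
  haveI : IsAffine T' := isAffine_of_subsingleton T'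
  haveI : IsLocallyNoetherian X := LocallyOfFiniteType.isLocallyNoetherian u
  haveI : QuasiSeparated u := QuasiSeparated.of_quasiSeparatedSpace u
  haveI : LocallyOfFinitePresentation u := inferInstance
  haveI : IsLocallyNoetherian Y := LocallyOfFiniteType.isLocallyNoetherian v
  haveI : QuasiSeparated v := QuasiSeparated.of_quasiSeparatedSpace v
  haveI : LocallyOfFinitePresentation v := inferInstance
  obtain ⟨_, ⟨U₀, hU₀, rfl⟩, hηU₀, -⟩ :=
    S.isBasis_affineOpens.exists_subset_of_mem_open (Set.mem_univ (genericPoint S)) isOpen_univ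
  have hpt : ∀ t : T', (h ≫ S.fromSpecResidueField (genericPoint S)) t = genericPoint S := by
    intro t
    have h1 : (h ≫ S.fromSpecResidueField (genericPoint S)) t ∈
        Set.range (S.fromSpecResidueField (genericPoint S)) :=
      ⟨h t, (Scheme.Hom.comp_apply _ _ _).symm⟩
    rw [Scheme.range_fromSpecResidueField] at h1
    exact h1
  have hrange : Set.range (h ≫ S.fromSpecResidueField (genericPoint S)) ⊆ (U₀ : Set S) := by
    rintro _ ⟨t, rfl⟩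
    rw [hpt]
    exact hηU₀
  have hX' := hX.paste_horiz (IsPullback.of_hasPullback u (S.fromSpecResidueField (genericPoint S)))
  have hY' := hY.paste_horiz (IsPullback.of_hasPullback v (S.fromSpecResidueField (genericPoint S)))
  obtain ⟨S', Xs, Ys, β, t, ys, pX, pY, f', haff, hlfp, htβ, hXs, hYs, hQ'⟩ :=
    exists_finiteType_model hdesc u v (h ≫ S.fromSpecResidueField (genericPoint S)) U₀ hU₀ hrange
      gX' gY' _ _ hX' hY' g hg hQ
  haveI := haff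
  haveI := hlfp
  refine interior_nonempty_of_model Q u v β ?_ ys pX pY f' hXs hYs hQ'
  obtain ⟨t₀⟩ : Nonempty T' := inferInstance
  refine ⟨t t₀, ?_⟩
  rw [← Scheme.Hom.comp_apply, htβ, hpt]

/-- **Main theorem**: `PairProp Q` is an ind-constructible property of pairs. -/
theorem isIndConsPair (Q : MorphismProperty Scheme.{u}) [Q.IsStableUnderBaseChange]
    (hdesc : DescendsIn Q) : ConsPropPair.IsIndConsPair (PairProp Q) :=
  ⟨isFieldStablePair Q, fun X Y S u v _ _ _ _ _ _ hη => pair_generic Q hdesc u v hη⟩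

end Generic

end Groth.Agent.Lib.ConsPairH7
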