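import Mathlib
import Groth.Prelude.Def_EGA4Misc
import Groth.Agent.Lib.FibDimCons_helper8
import Groth.Agent.Lib.Constr_lead
import Groth.Agent.Lib.FieldExt3_helper8
import Groth.Agent.Lib.EquidimSub_helper8
import Groth.Agent.Lib.SubLocDim_helper8
import Groth.Agent.Lib.TopDimLoc_helper8

/-!
# `dim X ∈ Φ` is a constructible property of algebraic schemes (helper7)

* `topDim_eq_of_isPullback`: the dimension of a scheme locally of finite type over a one-point
  scheme is invariant under base change to another one-point scheme.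
* `generic_dim`: over an integral Noetherian base, the dimension of the fibres of a morphism of
  finite type is constant on a neighbourhood of the generic point.
* `main5888`.
-/

set_option autoImplicit false
set_option linter.style.haveILetI false
set_option linter.unusedVariables false
universe u
open CategoryTheory CategoryTheory.Limits AlgebraicGeometry TopologicalSpace Topology

namespace Groth.Agent.Lib.ConsDimH7

section Top

variable {T : Type*} [TopologicalSpace T]

theorem localDim_open (U : Set T) (hU : IsOpen U) (t : T) (ht : t ∈ U) :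
    FlatMor.localDim ↥U ⟨t, ht⟩ = FlatMor.localDim T t := by
  rw [SubLocDimH8.localDim_subtype_eq U t ht]
  unfold FlatMor.localDim
  apply le_antisymm
  · refine le_iInf ?_
    rintro ⟨V, hV⟩
    refine (iInf_le _ (⟨V, hV⟩ : {V : Opens T // t ∈ V})).trans ?_
    exact SubLocDimH8.topDim_mono Set.inter_subset_left
  · refine le_iInf ?_
    rintro ⟨V, hV⟩
    refine (iInf_le _ (⟨V ⊓ ⟨U, hU⟩, ⟨hV, ht⟩⟩ : {V : Opens T // t ∈ V})).trans ?_
    show topologicalKrullDim ↥((V : Set T) ∩ U) ≤ _
    exact le_rfl

end Top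

/-- Over a one-point base the fibre dimension is the local dimension. -/
theorem fibreDimAt_eq_localDim_of_subsingleton {Y T : Scheme.{u}} (g : Y ⟶ T) [Subsingleton T]
    (y : Y) : FlatMor.fibreDimAt g y = FlatMor.localDim ↥Y y := by
  rw [EquidimSubH8.fibreDimAt_eq_localDim_preimage]
  have hU : g.base ⁻¹' {g.base y} = Set.univ := by
    ext z
    simp only [Set.mem_preimage, Set.mem_singleton_iff, Set.mem_univ, iff_true]
    exact Subsingleton.elim _ _
  exact localDim_open (g.base ⁻¹' {g.base y}) (by rw [hU]; exact isOpen_univ) y rfl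

theorem topDim_le_iff_forall_fibreDimAt {Y T : Scheme.{u}} (g : Y ⟶ T) [Subsingleton T]
    (c : WithBot ℕ∞) :
    topologicalKrullDim ↥Y ≤ c ↔ ∀ y : Y, FlatMor.fibreDimAt g y ≤ c := by
  rw [TopDimLocH8.topDim_le_iff_forall_localDim]
  exact forall_congr' fun y => by rw [fibreDimAt_eq_localDim_of_subsingleton]

/-- Invariance of dimension under change of the one-point base. -/
theorem topDim_eq_of_isPullback {Y Y' T T' : Scheme.{u}} (g : Y ⟶ T) (g' : Y' ⟶ T') (e : Y' ⟶ Y)
    (h : T' ⟶ T) [Subsingleton T] [Subsingleton T'] [Nonempty T'] [LocallyOfFiniteType g]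
    (sq : IsPullback e g' g h) : topologicalKrullDim ↥Y' = topologicalKrullDim ↥Y := by
  haveI : Surjective h := ⟨fun t => ⟨Classical.arbitrary _, Subsingleton.elim _ _⟩⟩
  haveI : Surjective e := MorphismProperty.of_isPullback sq.flip inferInstance
  have key : ∀ c : WithBot ℕ∞, topologicalKrullDim ↥Y' ≤ c ↔ topologicalKrullDim ↥Y ≤ c := by
    intro c
    rw [topDim_le_iff_forall_fibreDimAt g' c, topDim_le_iff_forall_fibreDimAt g c]
    constructor
    · intro H y
      obtain ⟨y', rfl⟩ := e.surjective y
      rw [← FieldExtH8.fibreDimAt_baseChange g h e g' sq y']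
      exact H y'
    · intro H y'
      rw [FieldExtH8.fibreDimAt_baseChange g h e g' sq y']
      exact H _
  exact le_antisymm ((key _).mpr le_rfl) ((key _).mp le_rfl)

/-- Generic constancy of the fibre dimension. -/
theorem generic_dim {X S : Scheme.{u}} (u : X ⟶ S) [IsIntegral S] [IsNoetherian S]
    [LocallyOfFiniteType u] [QuasiCompact u] :
    ∃ U : Set S, IsOpen U ∧ genericPoint S ∈ U ∧ ∀ s ∈ U,
      topologicalKrullDim ↥(u.fiber s) = topologicalKrullDim ↥(u.fiber (genericPoint S)) := by
  have hlc := FibDimConsH8.isLocallyConstructible_dim_eq u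
    (topologicalKrullDim ↥(u.fiber (genericPoint S)))
  have hc : IsConstructible {s : S | topologicalKrullDim ↥(u.fiber s) =
      topologicalKrullDim ↥(u.fiber (genericPoint S))} := hlc.isConstructible
  obtain ⟨U, hU, hηU, h⟩ :=
    Groth.Agent.Lib.Constr_lead.exists_open_generic_of_isConstructible hc (genericPoint_spec S)
  refine ⟨U, hU, hηU, ?_⟩
  rcases h with h | h
  · intro s hs
    exact h ⟨hs, trivial⟩
  · exact absurd rfl (h ⟨hηU, trivial⟩)

/-- **S5888** -/
theorem main5888 (Φ : Set (WithBot ℕ∞)) :
    ConsProp.IsCons.{u} (fun Y T g => topologicalKrullDim ↥Y ∈ Φ) := by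
  refine ⟨?_, ?_⟩
  · intro Y Y' T T' g g' e h _ _ _ _ _ _ sq
    show topologicalKrullDim ↥Y ∈ Φ ↔ topologicalKrullDim ↥Y' ∈ Φ
    rw [topDim_eq_of_isPullback g g' e h sq]
  · intro X S u _ _ _ _
    obtain ⟨U, hU, hηU, hdim⟩ := generic_dim u
    by_cases hΦ : topologicalKrullDim ↥(u.fiber (genericPoint S)) ∈ Φ
    · left
      refine ⟨genericPoint S, mem_interior.mpr ⟨U, ?_, hU, hηU⟩⟩
      intro s hs
      show topologicalKrullDim ↥(u.fiber s) ∈ Φ
      rw [hdim s hs]
      exact hΦ
    · right
      refine ⟨genericPoint S, mem_interior.mpr ⟨U, ?_, hU, hηU⟩⟩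
      intro s hs hs'
      have hs'' : topologicalKrullDim ↥(u.fiber s) ∈ Φ := hs'
      rw [hdim s hs] at hs''
      exact hΦ hs''

end Groth.Agent.Lib.ConsDimH7
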