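import Mathlib
import Groth.Prelude.Def_EGA4Misc
import Groth.Agent.Lib.ConsProp2_helper7
import Groth.Agent.Lib.ConsDim_helper7
import Groth.Agent.Lib.LqfLocus_helper8
import Groth.Agent.Lib.AffDim10_helper8

/-!
# Constructible properties of algebraic schemes, V: finite and quasi-finite (helper7)

* `isCons_congr`, `isConsMor_congr`: transfer along pointwise equivalence over fields.
* `main5886`: being finite is a constructible property of algebraic schemes.
* `main5889`: being quasi-finite is a constructible property of morphisms.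
-/

set_option autoImplicit false
set_option linter.style.haveILetI false
set_option linter.unusedVariables false
universe u
open CategoryTheory CategoryTheory.Limits AlgebraicGeometry TopologicalSpace Topology

namespace Groth.Agent.Lib.ConsPropH7

/-- transfer of `IsCons` along pointwise equivalence over fields -/
theorem isCons_congr {P Q : ∀ ⦃Y T : Scheme.{u}⦄, (Y ⟶ T) → Prop}
    (hPQ : ∀ ⦃Y T : Scheme.{u}⦄ (g : Y ⟶ T) [IsIntegral T] [Subsingleton T]
      [LocallyOfFiniteType g] [QuasiCompact g], P g ↔ Q g) (hP : ConsProp.IsCons P) :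
    ConsProp.IsCons Q := by
  refine ⟨?_, ?_⟩
  · intro Y Y' T T' g g' e h _ _ _ _ _ _ sq
    haveI : LocallyOfFiniteType g' :=
      MorphismProperty.of_isPullback (P := @LocallyOfFiniteType) sq inferInstance
    haveI : QuasiCompact g' :=
      MorphismProperty.of_isPullback (P := @QuasiCompact) sq inferInstance
    rw [← hPQ g, ← hPQ g']
    exact hP.1 g g' e h sq
  · intro X S u _ _ _ _
    have e : ConsProp.locus Q u = ConsProp.locus P u := by
      ext s
      haveI : LocallyOfFiniteType (u.fiberToSpecResidueField s) :=
        MorphismProperty.pullback_snd _ _ inferInstance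
      haveI : QuasiCompact (u.fiberToSpecResidueField s) :=
        MorphismProperty.pullback_snd _ _ inferInstance
      exact (hPQ (u.fiberToSpecResidueField s)).symm
    rw [e]
    exact hP.2 u

/-- transfer of `IsConsMor` along pointwise equivalence over fields -/
theorem isConsMor_congr {P Q : ∀ ⦃X Y T : Scheme.{u}⦄, (X ⟶ Y) → (Y ⟶ T) → Prop}
    (hPQ : ∀ ⦃X Y T : Scheme.{u}⦄ (f : X ⟶ Y) (g : Y ⟶ T) [IsIntegral T] [Subsingleton T]
      [LocallyOfFiniteType g] [QuasiCompact g] [LocallyOfFiniteType (f ≫ g)]
      [QuasiCompact (f ≫ g)], P f g ↔ Q f g)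
    (hP : ConsProp.IsConsMor P) : ConsProp.IsConsMor Q := by
  refine ⟨?_, ?_⟩
  · intro X X' Y Y' T T' f g f' g' eX eY h _ _ _ _ _ _ _ _ hY hX
    haveI : LocallyOfFiniteType g' :=
      MorphismProperty.of_isPullback (P := @LocallyOfFiniteType) hY inferInstance
    haveI : QuasiCompact g' :=
      MorphismProperty.of_isPullback (P := @QuasiCompact) hY inferInstance
    haveI : LocallyOfFiniteType (f' ≫ g') :=
      MorphismProperty.of_isPullback (P := @LocallyOfFiniteType) (hX.paste_vert hY) inferInstance
    haveI : QuasiCompact (f' ≫ g') :=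
      MorphismProperty.of_isPullback (P := @QuasiCompact) (hX.paste_vert hY) inferInstance
    rw [← hPQ f g, ← hPQ f' g']
    exact hP.1 f g f' g' eX eY h hY hX
  · intro X Y S f g _ _ _ _ _ _
    have e : ConsProp.locusMor Q f g = ConsProp.locusMor P f g := by
      ext s
      haveI : LocallyOfFiniteType (g.fiberToSpecResidueField s) :=
        MorphismProperty.pullback_snd _ _ inferInstance
      haveI : QuasiCompact (g.fiberToSpecResidueField s) :=
        MorphismProperty.pullback_snd _ _ inferInstance
      haveI : LocallyOfFiniteType (MoreMor.fiberMap f g s ≫ g.fiberToSpecResidueField s) := by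
        rw [fiberMap_comp_toSpec]
        exact MorphismProperty.pullback_snd _ _ inferInstance
      haveI : QuasiCompact (MoreMor.fiberMap f g s ≫ g.fiberToSpecResidueField s) := by
        rw [fiberMap_comp_toSpec]
        exact MorphismProperty.pullback_snd _ _ inferInstance
      exact (hPQ (MoreMor.fiberMap f g s) (g.fiberToSpecResidueField s)).symm
    rw [e]
    exact hP.2 f g

/-- locally quasi-finite iff all fibre dimensions vanish -/
theorem lqf_iff_forall_fibreDimAt {X Y : Scheme.{u}} (f : X ⟶ Y) [LocallyOfFiniteType f] :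
    LocallyQuasiFinite f ↔ ∀ x, FlatMor.fibreDimAt f x = 0 := by
  rw [← Scheme.Hom.quasiFiniteLocus_eq_top_iff]
  constructor
  · intro h x
    rw [LqfLocusH8.fibreDimAt_eq_zero_iff_quasiFiniteAt]
    have hx : x ∈ f.quasiFiniteLocus := by
      rw [h]
      trivial
    exact hx
  · intro h
    refine eq_top_iff.mpr (fun x _ => ?_)
    exact (LqfLocusH8.fibreDimAt_eq_zero_iff_quasiFiniteAt f x).mp (h x)

/-- over a field: finite iff dimension `≤ 0` -/
theorem topDim_le_zero_iff_isFinite {Y T : Scheme.{u}} (g : Y ⟶ T) [IsIntegral T]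
    [Subsingleton T] [LocallyOfFiniteType g] [QuasiCompact g] :
    topologicalKrullDim ↥Y ∈ Set.Iic (0 : WithBot ℕ∞) ↔ IsFinite g := by
  rw [Set.mem_Iic, ConsDimH7.topDim_le_iff_forall_fibreDimAt g 0]
  constructor
  · intro H
    haveI : LocallyQuasiFinite g := (lqf_iff_forall_fibreDimAt g).mpr
      (fun y => le_antisymm (H y) (by simpa using Groth.Agent.Lib.AffDimH8.fibreDimAt_nonneg g y))
    exact IsFinite.of_locallyQuasiFinite g
  · intro H y
    haveI := H
    exact ((lqf_iff_forall_fibreDimAt g).mp inferInstance y).le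

theorem main5886 : ConsProp.IsCons.{u} (fun Y T g => AlgebraicGeometry.IsFinite g) :=
  isCons_congr (P := fun Y T g => topologicalKrullDim ↥Y ∈ Set.Iic (0 : WithBot ℕ∞))
    (fun Y T g _ _ _ _ => topDim_le_zero_iff_isFinite g) (ConsDimH7.main5888 _)

theorem main5889 : ConsProp.IsConsMor.{u}
    (fun X Y T f g => AlgebraicGeometry.LocallyOfFiniteType f ∧ AlgebraicGeometry.QuasiCompact f ∧
      AlgebraicGeometry.LocallyQuasiFinite f) := by
  refine isConsMor_congr
    (P := fun X Y T f g => ∀ y : ↥Y, IsFinite (f.fiberToSpecResidueField y)) ?_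
    (main5884 main5886)
  intro X Y T f g _ _ _ _ _ _
  haveI : IsNoetherian T := isNoetherian_of_subsingleton T
  haveI : IsLocallyNoetherian Y := LocallyOfFiniteType.isLocallyNoetherian g
  haveI : QuasiSeparated g := QuasiSeparated.of_quasiSeparatedSpace g
  haveI : LocallyOfFiniteType f := locallyOfFiniteType_of_comp f g
  haveI : QuasiCompact f := QuasiCompact.of_comp f g
  constructor
  · intro H
    refine ⟨inferInstance, inferInstance, ?_⟩
    exact LocallyQuasiFinite.of_fiberToSpecResidueField f (fun x => by
      haveI := H x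
      infer_instance)
  · rintro ⟨-, -, h3⟩ y
    haveI := h3
    infer_instance

end Groth.Agent.Lib.ConsPropH7
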