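import Mathlib
import Groth.Prelude
import Groth.Agent.Lib.SchDescent_helper6

set_option autoImplicit false
universe u
open CategoryTheory CategoryTheory.Limits AlgebraicGeometry TopologicalSpace

namespace Groth.Agent.Lib.QAffDescent

set_option backward.isDefEq.respectTransparency false in
/-- Flat base change of global sections: for `f : X ⟶ S` flat over an affine base and `Y` qcqs,
the comparison `θ : X ×_S Y ⟶ X ×_S Spec Γ(Y)` induces isomorphisms on sections over the
preimages of affine opens of `X`. -/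
theorem isIso_app_pullback_map_toSpecΓ {S X Y : Scheme.{u}} [IsAffine S] (f : X ⟶ S)
    (g : Y ⟶ S) [Flat f] [CompactSpace Y] [QuasiSeparatedSpace Y]
    (φ : Spec Γ(Y, ⊤) ⟶ S) (hφ : Y.toSpecΓ ≫ φ = g) (V : X.Opens) (hV : IsAffineOpen V) :
    IsIso ((pullback.map f g f φ (𝟙 X) Y.toSpecΓ (𝟙 _) (by simp) (by simp [hφ])).app
      (pullback.fst f φ ⁻¹ᵁ V)) := by
  set θ := pullback.map f g f φ (𝟙 X) Y.toSpecΓ (𝟙 _) (by simp) (by simp [hφ]) with hθ
  have hfst : θ ≫ pullback.fst f φ = pullback.fst f g := by simp [hθ]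
  have hsnd : θ ≫ pullback.snd f φ = pullback.snd f g ≫ Y.toSpecΓ := by simp [hθ]
  set W := pullback.fst f φ ⁻¹ᵁ V with hWdef
  have H : IsPullback (pullback.snd f g) (pullback.fst f g) g f :=
    (IsPullback.of_hasPullback f g).flip
  have H' : IsPullback (pullback.snd f φ) (pullback.fst f φ) φ f :=
    (IsPullback.of_hasPullback f φ).flip
  have hUST : V ≤ f ⁻¹ᵁ ⊤ := by simp
  have hUSX : (⊤ : Y.Opens) ≤ g ⁻¹ᵁ ⊤ := by simp
  have hUSX' : (⊤ : (Spec Γ(Y, ⊤)).Opens) ≤ φ ⁻¹ᵁ ⊤ := by simp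
  have hUY : θ ⁻¹ᵁ W = pullback.snd f g ⁻¹ᵁ ⊤ ⊓ pullback.fst f g ⁻¹ᵁ V := by
    simp only [W, ← Scheme.Hom.comp_preimage, hfst, Scheme.Hom.preimage_top, top_inf_eq]
  have hUY' : W = pullback.snd f φ ⁻¹ᵁ ⊤ ⊓ pullback.fst f φ ⁻¹ᵁ V := by
    simp [W]
  have h1 : IsIso (pushoutSection H hUST hUSX hUY) :=
    isIso_pushoutSection_of_isQuasiSeparated_of_flat_right H hUST hUSX hUY (isAffineOpen_top _) hV
      isCompact_univ (isQuasiSeparated_univ_iff.mpr inferInstance)
  have h2 : IsIso (pushoutSection H' hUST hUSX' hUY') :=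
    isIso_pushoutSection_of_isAffineOpen H' hUST hUSX' hUY' (isAffineOpen_top _) hV
      (isAffineOpen_top _)
  have hle : (⊤ : Y.Opens) ≤ Y.toSpecΓ ⁻¹ᵁ ⊤ := by simp
  have hc : IsIso (Y.toSpecΓ.appLE ⊤ ⊤ hle) := by
    have : Y.toSpecΓ.appLE ⊤ ⊤ hle = Y.toSpecΓ.appTop := by
      simp [Scheme.Hom.appTop, Scheme.Hom.appLE]
    rw [this, Scheme.toSpecΓ_appTop]; infer_instance
  let m : pushout (φ.appLE ⊤ ⊤ hUSX') (f.appLE ⊤ V hUST) ⟶
      pushout (g.appLE ⊤ ⊤ hUSX) (f.appLE ⊤ V hUST) :=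
    pushout.map _ _ _ _ (Y.toSpecΓ.appLE ⊤ ⊤ hle) (𝟙 _) (𝟙 _)
      (by simp [Scheme.Hom.appLE_comp_appLE, hφ]) (by simp)
  have hm : IsIso m := by dsimp only [m]; infer_instance
  have key : pushoutSection H' hUST hUSX' hUY' ≫ θ.app W =
      m ≫ pushoutSection H hUST hUSX hUY := by
    apply pushout.hom_ext
    · simp only [m, Scheme.Hom.app_eq_appLE, pushout.inl_desc_assoc, pushout.map,
        Category.assoc, pushout.inl_desc, Scheme.Hom.appLE_comp_appLE, hsnd]
    · simp only [m, Scheme.Hom.app_eq_appLE, pushout.inr_desc_assoc, pushout.map,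
        pushout.inr_desc, Scheme.Hom.appLE_comp_appLE, hfst, Category.id_comp]
  have : IsIso (pushoutSection H' hUST hUSX' hUY' ≫ θ.app W) := by rw [key]; infer_instance
  exact IsIso.of_isIso_comp_left (pushoutSection H' hUST hUSX' hUY') _

set_option backward.isDefEq.respectTransparency false in
/-- If moreover the preimages in `X ×_S Y` of affine opens of `X` are quasi-affine schemes, the
comparison `θ` is an open immersion. -/
theorem isOpenImmersion_pullback_map_toSpecΓ {S X Y : Scheme.{u}} [IsAffine S] (f : X ⟶ S)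
    (g : Y ⟶ S) [Flat f] [CompactSpace Y] [QuasiSeparatedSpace Y]
    (φ : Spec Γ(Y, ⊤) ⟶ S) (hφ : Y.toSpecΓ ≫ φ = g)
    (hqa : ∀ V : X.Opens, IsAffineOpen V →
      Scheme.IsQuasiAffine (pullback.fst f g ⁻¹ᵁ V : Scheme.{u})) :
    IsOpenImmersion (pullback.map f g f φ (𝟙 X) Y.toSpecΓ (𝟙 _) (by simp) (by simp [hφ])) := by
  have hiso := isIso_app_pullback_map_toSpecΓ f g φ hφ
  set θ := pullback.map f g f φ (𝟙 X) Y.toSpecΓ (𝟙 _) (by simp) (by simp [hφ]) with hθ
  have hfst : θ ≫ pullback.fst f φ = pullback.fst f g := by simp [hθ]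
  have hφa : IsAffineHom (pullback.fst f φ) :=
    MorphismProperty.pullback_fst f φ (inferInstance : IsAffineHom φ)
  apply IsZariskiLocalAtTarget.of_forall_exists_morphismRestrict (P := @IsOpenImmersion) fun x ↦ ?_
  obtain ⟨_, ⟨V, hV, rfl⟩, hxV, -⟩ := X.isBasis_affineOpens.exists_subset_of_mem_open
    (Set.mem_univ ((pullback.fst f φ) x)) isOpen_univ
  set W := pullback.fst f φ ⁻¹ᵁ V with hWdef
  have hW : IsAffineOpen W := hV.preimage _
  refine ⟨W, hxV, ?_⟩
  have hTW : θ ⁻¹ᵁ W = pullback.fst f g ⁻¹ᵁ V := by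
    simp only [W, ← Scheme.Hom.comp_preimage, hfst]
  haveI : Scheme.IsQuasiAffine (θ ⁻¹ᵁ W : Scheme.{u}) := by rw [hTW]; exact hqa V hV
  haveI : IsAffine (W : Scheme.{u}) := hW
  have hnat := Scheme.toSpecΓ_naturality (θ ∣_ W)
  have hgen : ∀ O : (pullback f φ).Opens, O = W → IsIso (θ.app O) := by
    rintro _ rfl; exact hiso V hV
  haveI : IsIso (θ.app (W.ι ''ᵁ ⊤)) := hgen _ (by simp)
  haveI : IsIso (θ ∣_ W).appTop := by
    rw [morphismRestrict_appTop]; infer_instance
  haveI : IsOpenImmersion ((θ ∣_ W) ≫ (W : Scheme.{u}).toSpecΓ) := by rw [hnat]; infer_instance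
  exact IsOpenImmersion.of_comp _ (W : Scheme.{u}).toSpecΓ

set_option backward.isDefEq.respectTransparency false in
/-- Affine base: fpqc descent of quasi-affineness of a qcqs scheme. -/
theorem isQuasiAffine_of_pullback {S X Y : Scheme.{u}} [IsAffine S] (f : X ⟶ S)
    (g : Y ⟶ S) [Flat f] [Surjective f] [QuasiCompact f] [CompactSpace Y] [QuasiSeparatedSpace Y]
    (hqa : ∀ V : X.Opens, IsAffineOpen V →
      Scheme.IsQuasiAffine (pullback.fst f g ⁻¹ᵁ V : Scheme.{u})) :
    Scheme.IsQuasiAffine Y := by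
  let φ : Spec Γ(Y, ⊤) ⟶ S := Spec.map g.appTop ≫ S.isoSpec.inv
  have hφ : Y.toSpecΓ ≫ φ = g := by
    simp only [φ]
    rw [← Scheme.toSpecΓ_naturality_assoc]
    simp
  have hθ := isOpenImmersion_pullback_map_toSpecΓ f g φ hφ hqa
  set θ := pullback.map f g f φ (𝟙 X) Y.toSpecΓ (𝟙 _) (by simp) (by simp [hφ]) with hθdef
  have hsnd : θ ≫ pullback.snd f φ = pullback.snd f g ≫ Y.toSpecΓ := by simp [hθdef]
  have hfst : θ ≫ pullback.fst f φ = pullback.fst f g := by simp [hθdef]
  have hpb : IsPullback θ (pullback.snd f g) (pullback.snd f φ) Y.toSpecΓ := by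
    refine IsPullback.of_right ?_ hsnd (IsPullback.of_hasPullback f φ)
    rw [hfst, hφ]
    exact IsPullback.of_hasPullback f g
  have hQ : (@Surjective ⊓ @Flat ⊓ @QuasiCompact : MorphismProperty Scheme.{u})
      (pullback.snd f φ) :=
    MorphismProperty.pullback_snd _ _ ⟨⟨inferInstance, inferInstance⟩, inferInstance⟩
  have ht : IsOpenImmersion Y.toSpecΓ :=
    MorphismProperty.of_isPullback_of_descendsAlong (P := @IsOpenImmersion)
      (Q := (@Surjective ⊓ @Flat ⊓ @QuasiCompact : MorphismProperty Scheme.{u})) hpb hQ hθ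
  exact { }

/-- Quasi-affine morphisms are stable under base change along open immersions (and isos). -/
theorem isQuasiAffine_of_isPullback {A B A' B' : Scheme.{u}} {p : A' ⟶ A} {q : A' ⟶ B'}
    {h : A ⟶ B} {o : B' ⟶ B} (sq : IsPullback p q h o) [IsOpenImmersion o]
    (hh : Mor2.IsQuasiAffine h) : Mor2.IsQuasiAffine q := by
  obtain ⟨hqc, hqa⟩ := hh
  have hqqc : QuasiCompact q := MorphismProperty.of_isPullback (P := @QuasiCompact) sq hqc
  refine ⟨hqqc, fun V' hV' => ?_⟩
  have hp : IsOpenImmersion p :=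
    MorphismProperty.of_isPullback (P := @IsOpenImmersion) sq.flip inferInstance
  have hV : IsAffineOpen (o ''ᵁ V') := hV'.image_of_isOpenImmersion o
  haveI := hqa (o ''ᵁ V') hV
  have hle : q ⁻¹ᵁ V' ≤ p ⁻¹ᵁ (h ⁻¹ᵁ (o ''ᵁ V')) := by
    intro a ha
    show h (p a) ∈ o ''ᵁ V'
    rw [← Scheme.Hom.comp_apply, sq.w, Scheme.Hom.comp_apply]
    exact ⟨q a, ha, rfl⟩
  haveI : CompactSpace (q ⁻¹ᵁ V' : Scheme.{u}) :=
    isCompact_iff_compactSpace.mp (QuasiCompact.isCompact_preimage (f := q) _ V'.2 hV'.isCompact)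
  exact Scheme.IsQuasiAffine.of_isImmersion (p.resLE (h ⁻¹ᵁ (o ''ᵁ V')) (q ⁻¹ᵁ V') hle)

attribute [local instance] Groth.Agent.Lib.SchDescent_helper6.descendsAlong_quasiCompact
  Groth.Agent.Lib.SchDescent_helper6.descendsAlong_quasiSeparated

set_option backward.isDefEq.respectTransparency false in
/-- Quasi-affine morphisms descend along fpqc morphisms. -/
theorem descendsAlong_quasiAffine :
    MorphismProperty.DescendsAlong
      (fun _ _ f => Mor2.IsQuasiAffine f : MorphismProperty Scheme.{u})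
      (@Surjective ⊓ @Flat ⊓ @QuasiCompact : MorphismProperty Scheme.{u}) := by
  refine ⟨fun {A X Y Z fst₀ snd₀ f g} sq hf hfst₀ => ?_⟩
  -- pass to the canonical pullback
  have hfst : Mor2.IsQuasiAffine (pullback.fst f g) := by
    have sq' : IsPullback sq.isoPullback.inv (pullback.fst f g) fst₀ (𝟙 X) :=
      IsPullback.of_horiz_isIso ⟨by simp⟩
    exact isQuasiAffine_of_isPullback sq' hfst₀
  have hf' := hf
  obtain ⟨⟨hs, hfl⟩, hqc⟩ := hf
  have hgqc : QuasiCompact g :=
    MorphismProperty.of_pullback_fst_of_descendsAlong (P := @QuasiCompact)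
      (Q := (@Surjective ⊓ @Flat ⊓ @QuasiCompact : MorphismProperty Scheme.{u})) (f := f) hf' hfst.1
  have hfstqs : QuasiSeparated (pullback.fst f g) := by
    rw [HasAffineProperty.iff_of_iSup_eq_top (P := @QuasiSeparated) (fun U : X.affineOpens => U)
      (iSup_affineOpens_eq_top X)]
    intro U
    haveI := hfst.2 U.1 U.2
    show QuasiSeparatedSpace (pullback.fst f g ⁻¹ᵁ U.1 : Scheme.{u})
    infer_instance
  have hgqs : QuasiSeparated g :=
    MorphismProperty.of_pullback_fst_of_descendsAlong (P := @QuasiSeparated)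
      (Q := (@Surjective ⊓ @Flat ⊓ @QuasiCompact : MorphismProperty Scheme.{u})) (f := f) hf' hfstqs
  refine ⟨hgqc, fun V hV => ?_⟩
  haveI : IsAffine (V : Scheme.{u}) := hV
  let ι := V.ι
  let e : pullback (pullback.snd f ι) (pullback.snd g ι) ≅
      pullback (pullback.fst f g) (pullback.fst f ι) :=
    pullbackLeftPullbackSndIso f ι (pullback.snd g ι) ≪≫
      pullback.congrHom rfl pullback.condition.symm ≪≫
      (pullbackAssoc f g g ι).symm ≪≫ pullback.congrHom pullback.condition.symm rfl ≪≫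
      (pullbackRightPullbackFstIso f ι (pullback.fst f g)).symm
  have heq : e.hom ≫ pullback.snd (pullback.fst f g) (pullback.fst f ι) =
      pullback.fst (pullback.snd f ι) (pullback.snd g ι) := by
    apply pullback.hom_ext <;> simp [e, pullback.condition]
  have sq2 : IsPullback (e.hom ≫ pullback.fst (pullback.fst f g) (pullback.fst f ι))
      (pullback.fst (pullback.snd f ι) (pullback.snd g ι)) (pullback.fst f g)
      (pullback.fst f ι) := by
    refine IsPullback.of_iso (IsPullback.of_hasPullback (pullback.fst f g) (pullback.fst f ι))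
      e.symm (Iso.refl _) (Iso.refl _) (Iso.refl _) (by simp) ?_ (by simp) (by simp)
    simp only [Iso.refl_hom, Category.comp_id, Iso.symm_hom]
    rw [← heq, Iso.inv_hom_id_assoc]
  have hqa' := (isQuasiAffine_of_isPullback sq2 hfst).2
  haveI : Flat (pullback.snd f ι) := MorphismProperty.pullback_snd _ _ hfl
  haveI : Surjective (pullback.snd f ι) := MorphismProperty.pullback_snd _ _ hs
  haveI : QuasiCompact (pullback.snd f ι) := MorphismProperty.pullback_snd _ _ hqc
  haveI : QuasiCompact (pullback.snd g ι) := MorphismProperty.pullback_snd _ _ hgqc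
  haveI : QuasiSeparated (pullback.snd g ι) := MorphismProperty.pullback_snd _ _ hgqs
  haveI : CompactSpace ↥(pullback g ι) :=
    (HasAffineProperty.iff_of_isAffine (P := @QuasiCompact) (f := pullback.snd g ι)).mp ‹_›
  haveI : QuasiSeparatedSpace ↥(pullback g ι) :=
    (HasAffineProperty.iff_of_isAffine (P := @QuasiSeparated) (f := pullback.snd g ι)).mp ‹_›
  haveI : Scheme.IsQuasiAffine (pullback g ι) :=
    isQuasiAffine_of_pullback (pullback.snd f ι) (pullback.snd g ι) hqa'
  exact Scheme.IsQuasiAffine.of_isAffineHom (pullbackRestrictIsoRestrict g V).inv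

end Groth.Agent.Lib.QAffDescent
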