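import Mathlib
import Groth.Prelude.Def_Mor2
import Groth.Prelude.Def_MoreMor

/-! Quasi-affine morphisms: locality on the target, base change, composition. -/

universe u
open AlgebraicGeometry CategoryTheory Limits TopologicalSpace

namespace Groth.Agent.Lib.QuasiAffine_helper3

/-- A quasi-compact scheme covered by quasi-affine basic opens of global sections is quasi-affine. -/
theorem isQuasiAffine_of_forall_exists_basicOpen (X : Scheme.{u}) [CompactSpace X]
    (H : ∀ x : X, ∃ r : Γ(X, ⊤), x ∈ X.basicOpen r ∧ (X.basicOpen r : Scheme.{u}).IsQuasiAffine) :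
    X.IsQuasiAffine := by
  have hqs : QuasiSeparatedSpace X := by
    choose r hxr hr using H
    refine .of_isOpenCover (U := fun x => X.basicOpen (r x))
      (eq_top_iff.mpr fun x _ => Opens.mem_iSup.mpr ⟨x, hxr x⟩)
      (fun _ => isRetrocompact_basicOpen _) (fun x => ?_)
    have := hr x
    have hq : QuasiSeparatedSpace ((X.basicOpen (r x) : X.Opens) : Scheme.{u}) := inferInstance
    exact (isQuasiSeparated_iff_quasiSeparatedSpace _ (X.basicOpen (r x)).2).mpr hq
  refine .of_forall_exists_mem_basicOpen _ fun x => ?_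
  obtain ⟨r, hxr, hr⟩ := H x
  obtain ⟨_, ⟨_, ⟨t, ht, rfl⟩, rfl⟩, hxt, -⟩ :=
    (Scheme.IsQuasiAffine.isBasis_basicOpen (X.basicOpen r : Scheme.{u})).exists_subset_of_mem_open
      (Set.mem_univ (⟨x, hxr⟩ : (X.basicOpen r : Scheme.{u}))) isOpen_univ
  -- `t` as a section of `X` over `X.basicOpen r`
  let t' : Γ(X, X.basicOpen r) := (X.basicOpen r).topIso.hom t
  have himg : (X.basicOpen r).ι ''ᵁ ((X.basicOpen r).toScheme.basicOpen t) = X.basicOpen t' := by
    have h := Scheme.Opens.ι_image_basicOpen_topIso_inv (X.basicOpen r) t'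
    rwa [show (X.basicOpen r).topIso.inv t' = t from by
      change ((X.basicOpen r).topIso.hom ≫ (X.basicOpen r).topIso.inv) t = t
      rw [Iso.hom_inv_id]; rfl] at h
  have haff : IsAffineOpen (X.basicOpen t') := by
    rw [← himg]
    exact ht.image_of_isOpenImmersion _
  have hxt' : x ∈ X.basicOpen t' := by
    rw [← himg]
    exact ⟨⟨x, hxr⟩, hxt, rfl⟩
  obtain ⟨n, s, hs⟩ := exists_eq_pow_mul_of_isCompact_of_isQuasiSeparated X ⊤ isCompact_univ
    isQuasiSeparated_univ r t'
  have hle : X.basicOpen t' ≤ X.basicOpen r := X.basicOpen_le t'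
  have heq : X.basicOpen (s * r) = X.basicOpen t' := by
    have h1 := congrArg X.basicOpen hs
    dsimp only [TopCat.Presheaf.restrictOpenCommRingCat_apply] at h1
    have hu : IsUnit ((X.presheaf.map (homOfLE (X.basicOpen_le r)).op r) ^ n) :=
      IsUnit.pow _ (RingedSpace.isUnit_res_basicOpen _ r)
    rw [Scheme.basicOpen_res, Scheme.basicOpen_mul, X.basicOpen_of_isUnit hu] at h1
    rw [Scheme.basicOpen_mul, inf_comm, h1]
    exact inf_eq_right.mpr hle
  exact ⟨s * r, heq ▸ haff, heq ▸ hxt'⟩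

/-- The affine-target property: the source is a quasi-affine scheme. -/
def QAff : AffineTargetMorphismProperty.{u} := fun X _ _ _ => X.IsQuasiAffine

instance QAff_isLocal : (QAff.{u}).IsLocal where
  respectsIso := by
    apply AffineTargetMorphismProperty.respectsIso_mk
    · rintro X Y Z e _ _ H
      have : Y.IsQuasiAffine := H
      exact Scheme.IsQuasiAffine.of_isAffineHom e.hom
    · exact fun _ _ _ => id
  to_basicOpen := by
    intro X Y _ f r H
    have : X.IsQuasiAffine := H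
    change ((f ⁻¹ᵁ Y.basicOpen r : X.Opens) : Scheme.{u}).IsQuasiAffine
    have hcpt : IsCompact ((f ⁻¹ᵁ Y.basicOpen r : X.Opens) : Set X) := by
      rw [Scheme.preimage_basicOpen_top]
      simpa using isRetrocompact_basicOpen (f.appTop r) isCompact_univ isOpen_univ
    have hc : CompactSpace ((f ⁻¹ᵁ Y.basicOpen r : X.Opens) : Scheme.{u}) :=
      isCompact_iff_compactSpace.mp hcpt
    exact Scheme.IsQuasiAffine.of_isImmersion (f ⁻¹ᵁ Y.basicOpen r).ι
  of_basicOpenCover := by
    intro X Y _ f S hS hS'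
    have hS'' : ∀ r : S, ((f ⁻¹ᵁ Y.basicOpen r.1 : X.Opens) : Scheme.{u}).IsQuasiAffine := hS'
    have hcov : ⨆ r : S, Y.basicOpen r.1 = ⊤ := (isAffineOpen_top Y).iSup_basicOpen_eq_self_iff.mpr hS
    have hmem : ∀ x : X, ∃ r : S, x ∈ f ⁻¹ᵁ Y.basicOpen r.1 := by
      intro x
      have : f.base x ∈ (⨆ r : S, Y.basicOpen r.1 : Y.Opens) := by rw [hcov]; trivial
      obtain ⟨r, hr⟩ := Opens.mem_iSup.mp this
      exact ⟨r, hr⟩
    have hc : CompactSpace X := by
      constructor
      have : (Set.univ : Set X) = ⋃ r : S, ((f ⁻¹ᵁ Y.basicOpen r.1 : X.Opens) : Set X) := by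
        ext x
        simp only [Set.mem_univ, Set.mem_iUnion, true_iff]
        exact hmem x
      rw [this]
      exact isCompact_iUnion fun r => by
        have := hS'' r
        have hcs : CompactSpace ((f ⁻¹ᵁ Y.basicOpen r.1 : X.Opens) : Scheme.{u}) := inferInstance
        exact isCompact_iff_compactSpace.mpr hcs
    change X.IsQuasiAffine
    refine isQuasiAffine_of_forall_exists_basicOpen X fun x => ?_
    obtain ⟨r, hr⟩ := hmem x
    refine ⟨f.appTop r.1, ?_, ?_⟩
    · rw [← Scheme.preimage_basicOpen_top]; exact hr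
    · rw [← Scheme.preimage_basicOpen_top]; exact hS'' r

theorem QAff_isStableUnderBaseChange : QAff.IsStableUnderBaseChange := by
  apply AffineTargetMorphismProperty.IsStableUnderBaseChange.mk
  intro X Y S _ _ f g H
  have : Y.IsQuasiAffine := H
  change (pullback f g).IsQuasiAffine
  have : IsAffineHom (pullback.snd f g) := MorphismProperty.pullback_snd (P := @IsAffineHom) f g inferInstance
  exact Scheme.IsQuasiAffine.of_isAffineHom (pullback.snd f g)

/-- The preimage of every affine open is a quasi-affine scheme. -/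
abbrev PQA : MorphismProperty Scheme.{u} := targetAffineLocally QAff

theorem PQA_iff {X Y : Scheme.{u}} (f : X ⟶ Y) :
    PQA f ↔ ∀ V : Y.Opens, IsAffineOpen V → Scheme.IsQuasiAffine (f ⁻¹ᵁ V : Scheme.{u}) :=
  ⟨fun h V hV => h ⟨V, hV⟩, fun h V => h V.1 V.2⟩

theorem mor2_iff {X Y : Scheme.{u}} (f : X ⟶ Y) : Mor2.IsQuasiAffine f ↔ QuasiCompact f ∧ PQA f :=
  and_congr Iff.rfl (PQA_iff f).symm

theorem moreMor_iff {X Y : Scheme.{u}} (f : X ⟶ Y) : MoreMor.IsQuasiAffineHom f ↔ QuasiCompact f ∧ PQA f :=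
  and_congr Iff.rfl (PQA_iff f).symm

instance PQA_isStableUnderBaseChange : (PQA.{u}).IsStableUnderBaseChange :=
  HasAffineProperty.isStableUnderBaseChange QAff_isStableUnderBaseChange

/-- A quasi-affine morphism to a quasi-affine scheme has quasi-affine source. -/
theorem isQuasiAffine_of_PQA {X Y : Scheme.{u}} (f : X ⟶ Y) [QuasiCompact f] (hf : PQA f) [Y.IsQuasiAffine] :
    X.IsQuasiAffine := by
  have : CompactSpace X := QuasiCompact.compactSpace_of_compactSpace f
  refine isQuasiAffine_of_forall_exists_basicOpen X fun x => ?_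
  obtain ⟨_, ⟨_, ⟨r, hr, rfl⟩, rfl⟩, hxr, -⟩ :=
    (Scheme.IsQuasiAffine.isBasis_basicOpen Y).exists_subset_of_mem_open (Set.mem_univ (f.base x)) isOpen_univ
  refine ⟨f.appTop r, ?_, ?_⟩
  · rw [← Scheme.preimage_basicOpen_top]; exact hxr
  · rw [← Scheme.preimage_basicOpen_top]; exact (PQA_iff f).mp hf _ hr

theorem PQA_comp {X Y Z : Scheme.{u}} (f : X ⟶ Y) (g : Y ⟶ Z) [QuasiCompact f] (hf : PQA f) (hg : PQA g) :
    PQA (f ≫ g) := by
  rw [PQA_iff]
  intro V hV
  have : (g ⁻¹ᵁ V : Scheme.{u}).IsQuasiAffine := (PQA_iff g).mp hg V hV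
  have h1 : PQA (f ∣_ (g ⁻¹ᵁ V)) := IsZariskiLocalAtTarget.restrict hf _
  have hqc : QuasiCompact (f ∣_ (g ⁻¹ᵁ V)) :=
    IsZariskiLocalAtTarget.restrict (P := @QuasiCompact) (f := f) ‹_› _
  exact @isQuasiAffine_of_PQA _ _ (f ∣_ (g ⁻¹ᵁ V)) hqc h1 this

theorem PQA_of_isImmersion {X Y : Scheme.{u}} (f : X ⟶ Y) [IsImmersion f] [QuasiCompact f] : PQA f := by
  rw [PQA_iff]
  intro V hV
  have : IsAffine (V : Scheme.{u}) := hV
  have : CompactSpace ((f ⁻¹ᵁ V : X.Opens) : Scheme.{u}) :=
    isCompact_iff_compactSpace.mp (QuasiCompact.isCompact_preimage (f := f) _ V.2 hV.isCompact)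
  exact Scheme.IsQuasiAffine.of_isImmersion (f ∣_ V)

end Groth.Agent.Lib.QuasiAffine_helper3
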