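import Mathlib
import Groth.Prelude
import Groth.Agent.Lib.QuasiAffine_helper3
import Groth.Agent.Lib.LimDescend_helper7

set_option autoImplicit false
set_option backward.isDefEq.respectTransparency false
universe u
open CategoryTheory CategoryTheory.Limits AlgebraicGeometry

namespace Groth.Agent.Lib.LimQAffH7

open Groth.Agent.Lib.LimBaseChangeH7 Groth.Agent.Lib.LimIsoH7 Groth.Agent.Lib.QuasiAffine_helper3

/-- Quasi-affineness (preimages of affine opens are quasi-affine schemes) descends to an affine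
stage for quasi-compact quasi-separated morphisms. -/
theorem affineStage_PQA :
    AffineStage PQA.{u} (fun f => QuasiCompact f ∧ QuasiSeparated f) := by
  intro J _ _ E cE hcE _ j₀ _ X₀ f₀ hf₀ hP
  obtain ⟨h1, h2⟩ := hf₀
  haveI : IsAffineHom (cE.π.app j₀) := isAffineHom_π_app E cE hcE j₀
  haveI hpt : IsAffine cE.pt := isAffine_of_isAffineHom (cE.π.app j₀)
  haveI : IsAffine (((Functor.const J).obj cE.pt).obj j₀) := hpt
  have hqa : (pullback f₀ (cE.π.app j₀)).IsQuasiAffine :=
    (HasAffineProperty.iff_of_isAffine (P := PQA.{u}) (Q := QAff.{u})).mp hP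
  have hXpb := IsPullback.of_hasPullback f₀ (cE.π.app j₀)
  haveI : ∀ j, CompactSpace ((bcDiagram E j₀ f₀).obj j) := fun j => by
    haveI : IsAffine (E.obj j.left) := isAffine_of_isAffineHom (E.map j.hom)
    exact QuasiCompact.compactSpace_of_compactSpace (pullback.snd f₀ (E.map j.hom))
  haveI : ∀ j, QuasiSeparatedSpace ((bcDiagram E j₀ f₀).obj j) := fun j => by
    haveI : IsAffine (E.obj j.left) := isAffine_of_isAffineHom (E.map j.hom)
    exact quasiSeparatedSpace_of_quasiSeparated (pullback.snd f₀ (E.map j.hom))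
  haveI : (bcCone cE hXpb).pt.IsQuasiAffine := by
    show (pullback f₀ (cE.π.app j₀)).IsQuasiAffine
    exact hqa
  obtain ⟨j, hj⟩ := Scheme.exists_isQuasiAffine_of_isLimit (bcDiagram E j₀ f₀) (bcCone cE hXpb)
    (isLimitBcCone cE hXpb hcE)
  have hj' : (pullback f₀ (E.map j.hom)).IsQuasiAffine := hj
  haveI : IsAffine (E.obj j.left) := isAffine_of_isAffineHom (E.map j.hom)
  exact ⟨j.left, j.hom, (HasAffineProperty.iff_of_isAffine (P := PQA.{u}) (Q := QAff.{u})).mpr hj'⟩

end Groth.Agent.Lib.LimQAffH7
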