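import Mathlib
import Groth.Agent.Lib.FibMorCons_helper8

set_option autoImplicit false
set_option linter.style.haveILetI false
set_option linter.unusedSectionVars false

universe u
open AlgebraicGeometry CategoryTheory TopologicalSpace Limits Topology

namespace Groth.Agent.Lib.FibRadConsH4

open FibMorConsH8

theorem surjective_iff_of_isPullback {P A B C : Scheme.{u}} {a : P ⟶ A} {b : P ⟶ B}
    {p : A ⟶ C} {q : B ⟶ C} (h : IsPullback a b p q) :
    Function.Surjective b.base ↔ Set.range q.base ⊆ Set.range p.base := by
  constructor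
  · rintro hs _ ⟨y, rfl⟩
    obtain ⟨z, rfl⟩ := hs y
    refine ⟨a.base z, ?_⟩
    exact congrArg (fun φ : P ⟶ C => φ.base z) h.w
  · intro hsub y
    obtain ⟨x, hx⟩ := hsub ⟨y, rfl⟩
    obtain ⟨z, -, hz⟩ := exists_preimage_of_isPullback h x y hx
    exact ⟨z, hz⟩

theorem range_eq_of_isPullback {P A B C : Scheme.{u}} {a : P ⟶ A} {b : P ⟶ B}
    {p : A ⟶ C} {q : B ⟶ C} (h : IsPullback a b p q) :
    Set.range a.base = p.base ⁻¹' Set.range q.base := by
  ext x
  constructor
  · rintro ⟨z, rfl⟩
    exact ⟨b.base z, (congrArg (fun φ : P ⟶ C => φ.base z) h.w).symm⟩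
  · rintro ⟨y, hy⟩
    obtain ⟨z, hz, -⟩ := exists_preimage_of_isPullback h x y hy.symm
    exact ⟨z, hz⟩

section Diag

variable {X Y X' Y' : Scheme.{u}} {f : X ⟶ Y} {f' : X' ⟶ Y'} {pX : X' ⟶ X} {pY : Y' ⟶ Y}

/-- the map on diagonal objects -/
noncomputable def qmap (h : IsPullback pX f' f pY) : pullback f' f' ⟶ pullback f f :=
  pullback.map f' f' f f pX pX pY h.w.symm h.w.symm

theorem qmap_fst (h : IsPullback pX f' f pY) :
    qmap h ≫ pullback.fst f f = pullback.fst f' f' ≫ pX := pullback.lift_fst _ _ _

theorem qmap_snd (h : IsPullback pX f' f pY) :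
    qmap h ≫ pullback.snd f f = pullback.snd f' f' ≫ pX := pullback.lift_snd _ _ _

theorem top_square (h : IsPullback pX f' f pY) :
    IsPullback (qmap h) (pullback.fst f' f') (pullback.fst f f) pX := by
  have houter : IsPullback (pullback.snd f' f' ≫ pX) (pullback.fst f' f') f (f' ≫ pY) :=
    (IsPullback.of_hasPullback f' f').flip.paste_horiz h
  have houter' : IsPullback (qmap h ≫ pullback.snd f f) (pullback.fst f' f') f (pX ≫ f) := by
    rw [qmap_snd, h.w]
    exact houter
  exact IsPullback.of_right houter' (qmap_fst h) (IsPullback.of_hasPullback f f).flip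

theorem squareA (h : IsPullback pX f' f pY) :
    IsPullback (qmap h) (pullback.fst f' f' ≫ f') (pullback.fst f f ≫ f) pY :=
  (top_square h).paste_vert h

theorem squareB (h : IsPullback pX f' f pY) :
    IsPullback (pullback.diagonal f') pX (qmap h) (pullback.diagonal f) := by
  have houter : IsPullback (pullback.diagonal f' ≫ pullback.fst f' f') pX pX
      (pullback.diagonal f ≫ pullback.fst f f) := by
    rw [pullback.diagonal_fst, pullback.diagonal_fst]
    exact IsPullback.of_horiz_isIso ⟨by simp⟩
  refine IsPullback.of_right houter ?_ (top_square h).flip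
  apply pullback.hom_ext
  · rw [Category.assoc, Category.assoc, qmap_fst, pullback.diagonal_fst, Category.comp_id,
      ← Category.assoc, pullback.diagonal_fst, Category.id_comp]
  · rw [Category.assoc, Category.assoc, qmap_snd, pullback.diagonal_snd, Category.comp_id,
      ← Category.assoc, pullback.diagonal_snd, Category.id_comp]

end Diag

variable {X Y S : Scheme.{u}} (f : X ⟶ Y) (g : Y ⟶ S)

theorem univInj_fs_iff (s : S) :
    UniversallyInjective (fs f g s) ↔
      ∀ z : ↥(pullback f f), (pullback.fst f f ≫ f ≫ g).base z = s →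
        z ∈ Set.range (pullback.diagonal f).base := by
  have hsq := isPullback_fs f g s
  have hB := (squareB hsq).flip
  have hA := squareA hsq
  have hr : Set.range (pullback.fst g (S.fromSpecResidueField s)).base = g.base ⁻¹' {s} :=
    Scheme.Hom.range_fiberι g s
  rw [UniversallyInjective.iff_diagonal, surjective_iff, surjective_iff_of_isPullback hB,
    range_eq_of_isPullback hA, hr]
  constructor
  · intro h z hz
    exact h hz
  · intro h z hz
    exact h z hz

theorem main3444 [LocallyOfFinitePresentation g] [QuasiCompact g] [QuasiSeparated g]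
    [LocallyOfFinitePresentation (f ≫ g)] [QuasiCompact (f ≫ g)] [QuasiSeparated (f ≫ g)] :
    IsLocallyConstructible {s : S | UniversallyInjective (fs f g s)} := by
  haveI : LocallyOfFinitePresentation f := lfp_of_comp f g
  haveI : QuasiCompact f := QuasiCompact.of_comp f g
  haveI : QuasiSeparated f := QuasiSeparated.of_comp f g
  haveI : LocallyOfFinitePresentation (pullback.diagonal f) := by
    haveI : LocallyOfFinitePresentation (pullback.diagonal f ≫ pullback.fst f f) := by
      rw [pullback.diagonal_fst]
      infer_instance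
    exact lfp_of_comp (pullback.diagonal f) (pullback.fst f f)
  have hset : {s : S | UniversallyInjective (fs f g s)} =
      ((pullback.fst f f ≫ f ≫ g).base '' (Set.range (pullback.diagonal f).base)ᶜ)ᶜ := by
    ext s
    rw [Set.mem_setOf_eq, univInj_fs_iff]
    simp only [Set.mem_compl_iff, Set.mem_image, not_exists, not_and]
    constructor
    · intro h z hz hzs
      exact hz (h z hzs)
    · intro h z hzs
      by_contra hcon
      exact h z hcon hzs
  rw [hset]
  apply FibDimConsH8.isLocallyConstructible_compl
  apply (pullback.fst f f ≫ f ≫ g).isLocallyConstructible_image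
  apply FibDimConsH8.isLocallyConstructible_compl
  rw [← Set.image_univ]
  exact (pullback.diagonal f).isLocallyConstructible_image IsLocallyConstructible.univ

end Groth.Agent.Lib.FibRadConsH4
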