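import Mathlib
import Groth.Prelude.Def_EGA4Misc
import Groth.Agent.Lib.ConsPair1_helper7
import Groth.Agent.Lib.ConsProp3_helper7
import Groth.Agent.Lib.ConsProp5_helper7
import Groth.Agent.Lib.AffineDescent_helper7
import Groth.Agent.Lib.QAffDescent_helper9
import Groth.Agent.Lib.QuasiAffine_helper3
import Groth.Agent.S2582
import Groth.Agent.S2592
import Groth.Agent.S3444

/-!
# Ind-constructible properties of morphisms from limit descent and fpqc descent (helper7)

* `isIndConsMor_of`: a morphism property `Q` stable under base change, descending along fpqc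
  morphisms and spreading out from cofiltered limits gives an ind-constructible property of
  morphisms of algebraic schemes.
* `main4802`, `main4803`: affine / quasi-affine fibre morphisms form an ind-constructible set.
* `main5890`, `main5887`: universally injective is a constructible property.
-/

set_option autoImplicit false
set_option linter.style.haveILetI false
set_option linter.unusedVariables false
universe u
open CategoryTheory CategoryTheory.Limits AlgebraicGeometry TopologicalSpace Topology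

namespace Groth.Agent.Lib.ConsPairH7

open Groth.Agent.Lib.LimDescFPH7 Groth.Agent.Lib.ConsPropH7

section FieldStable

theorem fpqc_of_subsingleton {T' T : Scheme.{u}} (h : T' ⟶ T) [IsIntegral T] [Subsingleton T]
    [IsIntegral T'] [Subsingleton T'] :
    (@Surjective ⊓ @Flat ⊓ @QuasiCompact : MorphismProperty Scheme.{u}) h := by
  haveI : IsAffine T' := isAffine_of_subsingleton T'
  haveI : IsAffine T := isAffine_of_subsingleton T
  haveI : Surjective h := ⟨fun t => ⟨Classical.arbitrary _, Subsingleton.elim _ _⟩⟩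
  haveI : Flat h := inferInstance
  haveI : QuasiCompact h := inferInstance
  exact ⟨⟨inferInstance, inferInstance⟩, inferInstance⟩

theorem fpqc_of_isPullback {A X Y Z : Scheme.{u}} {fst : A ⟶ X} {snd : A ⟶ Y} {f : X ⟶ Z}
    {g : Y ⟶ Z} (sq : IsPullback fst snd f g)
    (hg : (@Surjective ⊓ @Flat ⊓ @QuasiCompact : MorphismProperty Scheme.{u}) g) :
    (@Surjective ⊓ @Flat ⊓ @QuasiCompact : MorphismProperty Scheme.{u}) fst :=
  ⟨⟨MorphismProperty.of_isPullback (P := @Surjective) sq.flip hg.1.1,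
    MorphismProperty.of_isPullback (P := @Flat) sq.flip hg.1.2⟩,
    MorphismProperty.of_isPullback (P := @QuasiCompact) sq.flip hg.2⟩

theorem isFieldStableMor_of_descends (Q : MorphismProperty Scheme.{u}) [Q.IsStableUnderBaseChange]
    [Q.DescendsAlong (@Surjective ⊓ @Flat ⊓ @QuasiCompact : MorphismProperty Scheme.{u})] :
    ConsProp.IsFieldStableMor (fun X Y T f g => Q f) := by
  intro X X' Y Y' T T' f g f' g' eX eY h _ _ _ _ _ _ _ _ hY hX
  have heY := fpqc_of_isPullback hY (fpqc_of_subsingleton h)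
  exact (MorphismProperty.iff_of_isPullback hX.flip heY).symm

theorem isFieldStable_of_descends (Q : MorphismProperty Scheme.{u}) [Q.IsStableUnderBaseChange]
    [Q.DescendsAlong (@Surjective ⊓ @Flat ⊓ @QuasiCompact : MorphismProperty Scheme.{u})] :
    ConsProp.IsFieldStable (fun Y T g => Q g) := by
  intro Y Y' T T' g g' e h _ _ _ _ _ _ sq
  exact (MorphismProperty.iff_of_isPullback sq.flip (fpqc_of_subsingleton h)).symm

end FieldStable

section Model

/-- A base change with `Q` of `f : X ⟶ Y` (over `S`) to an affine scheme `T'` over `S` (landing in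
an affine open) already has `Q` over an affine scheme of finite presentation over `S` through which
`T'` factors. -/
theorem exists_finiteType_model_mor {Q : MorphismProperty Scheme.{u}} (hdesc : DescendsIn Q)
    {X Y S : Scheme.{u}} (f : X ⟶ Y) (g : Y ⟶ S)
    [LocallyOfFinitePresentation g] [QuasiCompact g] [QuasiSeparated g]
    [LocallyOfFinitePresentation (f ≫ g)] [QuasiCompact (f ≫ g)] [QuasiSeparated (f ≫ g)]
    {T' X' Y' : Scheme.{u}} [IsAffine T'] (hT : T' ⟶ S) (U₀ : S.Opens) (hU₀ : IsAffineOpen U₀)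
    (hrange : Set.range hT ⊆ (U₀ : Set S))
    (f' : X' ⟶ Y') (g' : Y' ⟶ T') (eX : X' ⟶ X) (eY : Y' ⟶ Y)
    (hY : IsPullback eY g' g hT) (hX : IsPullback eX f' f eY) (hQ : Q f') :
    ∃ (S' Xs Ys : Scheme.{u}) (β : S' ⟶ S) (t : T' ⟶ S') (fs : Xs ⟶ Ys) (gs : Ys ⟶ S')
      (pX : Xs ⟶ X) (pY : Ys ⟶ Y), IsAffine S' ∧ LocallyOfFinitePresentation β ∧ t ≫ β = hT ∧
        IsPullback pY gs g β ∧ IsPullback pX fs f pY ∧ Q fs := by
  have hr : Set.range hT ⊆ Set.range hU₀.fromSpec := by
    rw [hU₀.range_fromSpec]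
    exact hrange
  obtain ⟨ĥ, hĥ⟩ : ∃ ĥ : T' ⟶ Spec Γ(S, U₀), ĥ ≫ hU₀.fromSpec = hT :=
    ⟨IsOpenImmersion.lift hU₀.fromSpec hT hr, IsOpenImmersion.lift_fac _ _ _⟩
  obtain ⟨ψ, hψ⟩ : ∃ ψ : Γ(S, U₀) ⟶ Γ(T', ⊤), Spec.map ψ = T'.isoSpec.inv ≫ ĥ :=
    ⟨Spec.preimage (T'.isoSpec.inv ≫ ĥ), Spec.map_preimage _⟩
  letI : Algebra Γ(S, U₀) Γ(T', ⊤) := ψ.hom.toAlgebra
  have hc := isLimitConeS Γ(S, U₀) Γ(T', ⊤)
  obtain ⟨i₀⟩ : Nonempty (AlgColim2H7.Idx Γ(S, U₀) Γ(T', ⊤))ᵒᵖ :=
    ⟨Opposite.op (Classical.arbitrary _)⟩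
  obtain ⟨σ, hσdef⟩ : ∃ σ : ∀ j : (AlgColim2H7.Idx Γ(S, U₀) Γ(T', ⊤))ᵒᵖ,
      (DS Γ(S, U₀) Γ(T', ⊤)).obj j ⟶ Spec Γ(S, U₀), ∀ j, σ j =
        Spec.map ((AlgColim2H7.D (R := Γ(S, U₀)) (A := Γ(T', ⊤))).obj j.unop).hom :=
    ⟨fun j => Spec.map ((AlgColim2H7.D (R := Γ(S, U₀)) (A := Γ(T', ⊤))).obj j.unop).hom,
      fun j => rfl⟩
  have hσ : ∀ j, (coneS Γ(S, U₀) Γ(T', ⊤)).π.app j ≫ σ j = Spec.map ψ := by
    intro j
    rw [hσdef]
    show Spec.map ((AlgColim2H7.cocone (R := Γ(S, U₀)) (A := Γ(T', ⊤))).ι.app j.unop).right ≫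
      Spec.map _ = _
    rw [← Spec.map_comp, Under.w]
    rfl
  have hσmap : ∀ {i j : (AlgColim2H7.Idx Γ(S, U₀) Γ(T', ⊤))ᵒᵖ} (φ : i ⟶ j),
      (DS Γ(S, U₀) Γ(T', ⊤)).map φ ≫ σ j = σ i := by
    intro i j φ
    rw [hσdef, hσdef]
    show Spec.map ((AlgColim2H7.D (R := Γ(S, U₀)) (A := Γ(T', ⊤))).map φ.unop).right ≫
      Spec.map _ = _
    rw [← Spec.map_comp, Under.w]
  have hσlfp : ∀ j, LocallyOfFinitePresentation (σ j) := by
    intro j
    rw [hσdef]
    exact (HasRingHomProperty.Spec_iff (P := @LocallyOfFinitePresentation)).mpr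
      (AlgColim2H7.D_fp j.unop)
  obtain ⟨e', he'def⟩ : ∃ e' : T' ⟶ (coneS Γ(S, U₀) Γ(T', ⊤)).pt, e' = T'.isoSpec.hom :=
    ⟨T'.isoSpec.hom, rfl⟩
  haveI : IsIso e' := by
    rw [he'def]
    infer_instance
  have hplain : T'.isoSpec.hom ≫ Spec.map ψ ≫ hU₀.fromSpec = hT := by
    rw [hψ, Category.assoc, Iso.hom_inv_id_assoc, hĥ]
  obtain ⟨β₀, hβ₀def⟩ : ∃ β₀ : (DS Γ(S, U₀) Γ(T', ⊤)).obj i₀ ⟶ S, β₀ = σ i₀ ≫ hU₀.fromSpec :=
    ⟨_, rfl⟩
  have hβ₀ : e' ≫ (coneS Γ(S, U₀) Γ(T', ⊤)).π.app i₀ ≫ β₀ = hT := by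
    rw [hβ₀def, ← Category.assoc ((coneS Γ(S, U₀) Γ(T', ⊤)).π.app i₀), hσ, he'def]
    exact hplain
  have h3 : inv e' ≫ hT = (coneS Γ(S, U₀) Γ(T', ⊤)).π.app i₀ ≫ β₀ := by
    rw [← hβ₀, IsIso.inv_hom_id_assoc]
  -- the family `Y` over the stage `i₀`
  have wY : eY ≫ g = (g' ≫ e' ≫ (coneS Γ(S, U₀) Γ(T', ⊤)).π.app i₀) ≫ β₀ := by
    rw [hY.w, Category.assoc, Category.assoc, hβ₀]
  obtain ⟨qY, hqYfst, hqYsnd⟩ : ∃ qY : Y' ⟶ pullback g β₀, qY ≫ pullback.fst g β₀ = eY ∧
      qY ≫ pullback.snd g β₀ = g' ≫ e' ≫ (coneS Γ(S, U₀) Γ(T', ⊤)).π.app i₀ :=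
    ⟨pullback.lift eY (g' ≫ e' ≫ (coneS Γ(S, U₀) Γ(T', ⊤)).π.app i₀) wY,
      pullback.lift_fst _ _ _, pullback.lift_snd _ _ _⟩
  have hY₀ := IsPullback.of_hasPullback g β₀
  have hX₀ := IsPullback.of_hasPullback f (pullback.fst g β₀)
  have hqY : IsPullback qY (g' ≫ e') (pullback.snd g β₀)
      ((coneS Γ(S, U₀) Γ(T', ⊤)).π.app i₀) := by
    refine IsPullback.of_right ?_ (by rw [hqYsnd, Category.assoc]) hY₀
    rw [hqYfst]
    have h1 : IsPullback (𝟙 Y') (g' ≫ e') g' (inv e') := IsPullback.of_horiz_isIso ⟨by simp⟩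
    have h2 := h1.paste_horiz hY
    rw [Category.id_comp, h3] at h2
    exact h2
  haveI : LocallyOfFinitePresentation (pullback.snd f (pullback.fst g β₀) ≫ pullback.snd g β₀) :=
    MorphismProperty.of_isPullback (P := @LocallyOfFinitePresentation) (hX₀.paste_vert hY₀)
      inferInstance
  haveI : QuasiCompact (pullback.snd f (pullback.fst g β₀) ≫ pullback.snd g β₀) :=
    MorphismProperty.of_isPullback (P := @QuasiCompact) (hX₀.paste_vert hY₀) inferInstance
  haveI : QuasiSeparated (pullback.snd f (pullback.fst g β₀) ≫ pullback.snd g β₀) :=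
    MorphismProperty.of_isPullback (P := @QuasiSeparated) (hX₀.paste_vert hY₀) inferInstance
  have wX : eX ≫ f = (f' ≫ qY) ≫ pullback.fst g β₀ := by
    rw [Category.assoc, hqYfst, hX.w]
  have hqX : IsPullback (pullback.lift eX (f' ≫ qY) wX) f'
      (pullback.snd f (pullback.fst g β₀)) qY := by
    refine IsPullback.of_right ?_ (pullback.lift_snd _ _ _) hX₀
    rw [pullback.lift_fst, hqYfst]
    exact hX
  obtain ⟨i, φ, Xi, Yi, fi, gi, pY, pX, hYi, hXi, hQi⟩ :=
    hdesc (DS Γ(S, U₀) Γ(T', ⊤)) (coneS Γ(S, U₀) Γ(T', ⊤)) hc i₀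
      (pullback.snd f (pullback.fst g β₀)) (pullback.snd g β₀) f' (g' ≫ e') qY _ hqY hqX hQ
  have hβ : (DS Γ(S, U₀) Γ(T', ⊤)).map φ ≫ β₀ = σ i ≫ hU₀.fromSpec := by
    rw [hβ₀def, ← Category.assoc, hσmap]
  haveI := hσlfp i
  refine ⟨(DS Γ(S, U₀) Γ(T', ⊤)).obj i, Xi, Yi, (DS Γ(S, U₀) Γ(T', ⊤)).map φ ≫ β₀,
    e' ≫ (coneS Γ(S, U₀) Γ(T', ⊤)).π.app i, fi, gi, pX ≫ pullback.fst f (pullback.fst g β₀),
    pY ≫ pullback.fst g β₀, inferInstance, ?_, ?_, hYi.paste_horiz hY₀, hXi.paste_horiz hX₀, hQi⟩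
  · rw [hβ]
    infer_instance
  · rw [Category.assoc, ← Category.assoc ((coneS Γ(S, U₀) Γ(T', ⊤)).π.app i),
      (coneS Γ(S, U₀) Γ(T', ⊤)).w φ, hβ₀]

end Model

section Generic

theorem mor_generic (Q : MorphismProperty Scheme.{u}) [Q.IsStableUnderBaseChange]
    [Q.DescendsAlong (@Surjective ⊓ @Flat ⊓ @QuasiCompact : MorphismProperty Scheme.{u})]
    (hdesc : DescendsIn Q) {X Y S : Scheme.{u}} (f : X ⟶ Y) (g : Y ⟶ S) [IsIntegral S]
    [IsNoetherian S] [LocallyOfFiniteType g] [QuasiCompact g] [LocallyOfFiniteType (f ≫ g)]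
    [QuasiCompact (f ≫ g)]
    (hη : genericPoint S ∈ ConsProp.locusMor (fun X Y T f g => Q f) f g) :
    (interior (ConsProp.locusMor (fun X Y T f g => Q f) f g)).Nonempty := by
  haveI : IsLocallyNoetherian Y := LocallyOfFiniteType.isLocallyNoetherian g
  haveI : QuasiSeparated g := QuasiSeparated.of_quasiSeparatedSpace g
  haveI : LocallyOfFinitePresentation g := inferInstance
  haveI : IsLocallyNoetherian X := LocallyOfFiniteType.isLocallyNoetherian (f ≫ g)
  haveI : QuasiSeparated (f ≫ g) := QuasiSeparated.of_quasiSeparatedSpace (f ≫ g)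
  haveI : LocallyOfFinitePresentation (f ≫ g) := inferInstance
  obtain ⟨_, ⟨U₀, hU₀, rfl⟩, hηU₀, -⟩ :=
    S.isBasis_affineOpens.exists_subset_of_mem_open (Set.mem_univ (genericPoint S)) isOpen_univ
  have hrange : Set.range (S.fromSpecResidueField (genericPoint S)) ⊆ (U₀ : Set S) := by
    rw [Scheme.range_fromSpecResidueField]
    intro z hz
    rw [Set.mem_singleton_iff.mp hz]
    exact hηU₀
  have hY := IsPullback.of_hasPullback g (S.fromSpecResidueField (genericPoint S))
  have hX := isPullback_fiberMap f g (genericPoint S)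
  obtain ⟨S', Xs, Ys, β, t, fs, gs, pX, pY, haff, hlfp, htβ, hYs, hXs, hQs⟩ :=
    exists_finiteType_model_mor hdesc f g (S.fromSpecResidueField (genericPoint S)) U₀ hU₀ hrange
      (MoreMor.fiberMap f g (genericPoint S)) (g.fiberToSpecResidueField (genericPoint S)) _ _
      hY hX hη
  haveI := haff
  haveI := hlfp
  haveI : QuasiCompact β := inferInstance
  have hηβ : genericPoint S ∈ Set.range β := by
    obtain ⟨t₀⟩ : Nonempty (Spec (S.residueField (genericPoint S))) := inferInstance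
    refine ⟨t t₀, ?_⟩
    rw [← Scheme.Hom.comp_apply, htβ]
    have h1 : S.fromSpecResidueField (genericPoint S) t₀ ∈
        Set.range (S.fromSpecResidueField (genericPoint S)) := ⟨t₀, rfl⟩
    rw [Scheme.range_fromSpecResidueField] at h1
    exact h1
  have hcons : IsConstructible (Set.range β) := by
    have := β.isConstructible_image IsConstructible.univ
    rwa [Set.image_univ] at this
  obtain ⟨U, hU, hηU, hcase⟩ :=
    Groth.Agent.Lib.Constr_lead.exists_open_generic_of_isConstructible hcons (genericPoint_spec S)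
  have hsub : U ⊆ Set.range β := by
    rcases hcase with h1 | h1
    · exact fun s hs => h1 ⟨hs, trivial⟩
    · exact absurd hηβ (h1 ⟨hηU, trivial⟩)
  refine ⟨genericPoint S, mem_interior.mpr ⟨U, ?_, hU, hηU⟩⟩
  intro s hs
  obtain ⟨s', rfl⟩ := hsub hs
  rw [← locusMor_baseChange (isFieldStableMor_of_descends Q) f g fs gs pX pY β hYs hXs s']
  exact Q.of_isPullback (isPullback_fiberMap fs gs s') hQs

/-- **Main theorem** for morphisms. -/
theorem isIndConsMor_of (Q : MorphismProperty Scheme.{u}) [Q.IsStableUnderBaseChange]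
    [Q.DescendsAlong (@Surjective ⊓ @Flat ⊓ @QuasiCompact : MorphismProperty Scheme.{u})]
    (hdesc : DescendsIn Q) : ConsProp.IsIndConsMor (fun X Y T f g => Q f) :=
  ⟨isFieldStableMor_of_descends Q, fun X Y S f g _ _ _ _ _ _ hη => mor_generic Q hdesc f g hη⟩

end Generic

section Cases

theorem descendsIn_isAffineHom' : DescendsIn.{u} (@IsAffineHom) := by
  intro I _ _ D c hc _ i₀ _ _ X₀ Y₀ f₀ g₀ _ _ _ _ _ _ X Y f g qY qX hY hX hf
  haveI : IsAffineHom f := hf
  exact Groth.Agent.S2582.result D c hc i₀ f₀ g₀ f g qY qX hY hX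

theorem main4802 {X Y S : Scheme.{u}} (f : X ⟶ Y) (g : Y ⟶ S)
    [LocallyOfFinitePresentation g] [QuasiCompact g] [QuasiSeparated g]
    [LocallyOfFinitePresentation (f ≫ g)] [QuasiCompact (f ≫ g)] [QuasiSeparated (f ≫ g)] :
    ProCons.IsIndConstructible {s : S |
      IsAffineHom (pullback.lift (pullback.fst (f ≫ g) (S.fromSpecResidueField s) ≫ f)
          (pullback.snd (f ≫ g) (S.fromSpecResidueField s))
          ((Category.assoc _ _ _).trans pullback.condition) :
        pullback (f ≫ g) (S.fromSpecResidueField s) ⟶ pullback g (S.fromSpecResidueField s))} := by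
  haveI := Groth.Agent.Lib.AffineDescent_helper7.isAffineHom_descends.{u}
  exact main5881 (isIndConsMor_of (@IsAffineHom) descendsIn_isAffineHom') f g

/-- quasi-affine morphisms as a morphism property -/
abbrev QAffProp : MorphismProperty Scheme.{u} := fun _ _ f => Mor2.IsQuasiAffine f

theorem qAffProp_eq : QAffProp.{u} =
    (@QuasiCompact ⊓ @Groth.Agent.Lib.QuasiAffine_helper3.PQA.{u} : MorphismProperty Scheme.{u}) := by
  ext X Y f
  exact Groth.Agent.Lib.QuasiAffine_helper3.mor2_iff f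

instance : (QAffProp.{u}).IsStableUnderBaseChange := by
  rw [qAffProp_eq]
  infer_instance

theorem descendsIn_qAff : DescendsIn.{u} QAffProp := by
  intro I _ _ D c hc _ i₀ _ _ X₀ Y₀ f₀ g₀ _ _ _ _ _ _ X Y f g qY qX hY hX hf
  exact Groth.Agent.S2592.result D c hc i₀ f₀ g₀ f g qY qX hY hX hf

theorem main4803 {X Y S : Scheme.{u}} (f : X ⟶ Y) (g : Y ⟶ S)
    [LocallyOfFinitePresentation g] [QuasiCompact g] [QuasiSeparated g]
    [LocallyOfFinitePresentation (f ≫ g)] [QuasiCompact (f ≫ g)] [QuasiSeparated (f ≫ g)] :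
    ProCons.IsIndConstructible {s : S |
      MoreMor.IsQuasiAffineHom (pullback.lift (pullback.fst (f ≫ g) (S.fromSpecResidueField s) ≫ f)
          (pullback.snd (f ≫ g) (S.fromSpecResidueField s))
          ((Category.assoc _ _ _).trans pullback.condition) :
        pullback (f ≫ g) (S.fromSpecResidueField s) ⟶ pullback g (S.fromSpecResidueField s))} := by
  haveI : (QAffProp.{u}).DescendsAlong
      (@Surjective ⊓ @Flat ⊓ @QuasiCompact : MorphismProperty Scheme.{u}) :=
    Groth.Agent.Lib.QAffDescent.descendsAlong_quasiAffine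
  exact main5881 (isIndConsMor_of QAffProp descendsIn_qAff) f g

/-- universally injective is a constructible property of morphisms -/
theorem main5890 : ConsProp.IsConsMor.{u}
    (fun X Y T f g => AlgebraicGeometry.UniversallyInjective f) := by
  refine ⟨isFieldStableMor_of_descends (@UniversallyInjective), ?_⟩
  intro X Y S f g _ _ _ _ _ _
  haveI : IsLocallyNoetherian Y := LocallyOfFiniteType.isLocallyNoetherian g
  haveI : QuasiSeparated g := QuasiSeparated.of_quasiSeparatedSpace g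
  haveI : LocallyOfFinitePresentation g := inferInstance
  haveI : IsLocallyNoetherian X := LocallyOfFiniteType.isLocallyNoetherian (f ≫ g)
  haveI : QuasiSeparated (f ≫ g) := QuasiSeparated.of_quasiSeparatedSpace (f ≫ g)
  haveI : LocallyOfFinitePresentation (f ≫ g) := inferInstance
  have hlc := Groth.Agent.S3444.result f g
  have hc : IsConstructible (ConsProp.locusMor
      (fun X Y T f g => AlgebraicGeometry.UniversallyInjective f) f g) := hlc.isConstructible
  obtain ⟨U, hU, hηU, hcase⟩ :=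
    Groth.Agent.Lib.Constr_lead.exists_open_generic_of_isConstructible hc (genericPoint_spec S)
  rcases hcase with h1 | h1
  · left
    exact ⟨genericPoint S, mem_interior.mpr ⟨U, fun s hs => h1 ⟨hs, trivial⟩, hU, hηU⟩⟩
  · right
    exact ⟨genericPoint S, mem_interior.mpr ⟨U, fun s hs => h1 ⟨hs, trivial⟩, hU, hηU⟩⟩

/-- universally injective is a constructible property of algebraic schemes -/
theorem main5887 : ConsProp.IsCons.{u}
    (fun Y T g => AlgebraicGeometry.UniversallyInjective g) := by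
  refine ⟨isFieldStable_of_descends (@UniversallyInjective), ?_⟩
  intro X S u _ _ _ _
  haveI : IsLocallyNoetherian X := LocallyOfFiniteType.isLocallyNoetherian u
  haveI : QuasiSeparated u := QuasiSeparated.of_quasiSeparatedSpace u
  haveI : LocallyOfFinitePresentation u := inferInstance
  have hlc := Groth.Agent.S3444.result u (𝟙 S)
  have hset : {s : S | UniversallyInjective
      (pullback.lift (pullback.fst (u ≫ 𝟙 S) (S.fromSpecResidueField s) ≫ u)
        (pullback.snd (u ≫ 𝟙 S) (S.fromSpecResidueField s))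
        ((Category.assoc _ _ _).trans pullback.condition) :
        pullback (u ≫ 𝟙 S) (S.fromSpecResidueField s) ⟶
          pullback (𝟙 S) (S.fromSpecResidueField s))} =
      ConsProp.locus (fun Y T g => AlgebraicGeometry.UniversallyInjective g) (u ≫ 𝟙 S) := by
    ext s
    have h1 := fiberMap_comp_toSpec u (𝟙 S) s
    haveI : IsIso (Scheme.Hom.fiberToSpecResidueField (𝟙 S) s) :=
      inferInstanceAs (IsIso (pullback.snd (𝟙 S) (S.fromSpecResidueField s)))
    show UniversallyInjective (MoreMor.fiberMap u (𝟙 S) s) ↔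
      UniversallyInjective ((u ≫ 𝟙 S).fiberToSpecResidueField s)
    rw [← h1]
    exact (MorphismProperty.cancel_right_of_respectsIso @UniversallyInjective _ _).symm
  rw [hset, Category.comp_id] at hlc
  have hc : IsConstructible (ConsProp.locus
      (fun Y T g => AlgebraicGeometry.UniversallyInjective g) u) := hlc.isConstructible
  obtain ⟨U, hU, hηU, hcase⟩ :=
    Groth.Agent.Lib.Constr_lead.exists_open_generic_of_isConstructible hc (genericPoint_spec S)
  rcases hcase with h1 | h1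
  · left
    exact ⟨genericPoint S, mem_interior.mpr ⟨U, fun s hs => h1 ⟨hs, trivial⟩, hU, hηU⟩⟩
  · right
    exact ⟨genericPoint S, mem_interior.mpr ⟨U, fun s hs => h1 ⟨hs, trivial⟩, hU, hηU⟩⟩

end Cases

end Groth.Agent.Lib.ConsPairH7
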