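import Mathlib
import Groth.Agent.Lib.GenFreeG_helper8

/-!
# Generic geometric reducedness, part 1: injectivity on fibres (helper8)
APPEND-ONLY once landed.
-/

set_option autoImplicit false
universe u
open TensorProduct

namespace GeomRedGenH8

section P1

variable {A : Type*} [CommRing A] {N₁ N₂ M : Type*} [AddCommGroup N₁] [AddCommGroup N₂]
  [AddCommGroup M] [Module A N₁] [Module A N₂] [Module A M]

/-- If `a` acts bijectively on `L`, then `N ⊗ L → N_a ⊗ L` is injective. -/
theorem rTensor_mk_injective (N : Type*) [AddCommGroup N] [Module A N] (a : A)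
    (L : Type*) [CommRing L] [Algebra A L] (haL : IsUnit (algebraMap A L a)) :
    Function.Injective
      ((LocalizedModule.mkLinearMap (Submonoid.powers a) N).rTensor L) := by
  set S := Submonoid.powers a
  haveI hloc : IsLocalizedModule S
      (AlgebraTensorModule.rTensor A L (LocalizedModule.mkLinearMap S N)) :=
    inferInstance
  rw [injective_iff_map_eq_zero]
  intro x hx
  have hx' : (AlgebraTensorModule.rTensor A L (LocalizedModule.mkLinearMap S N)) x = 0 := hx
  rw [IsLocalizedModule.eq_zero_iff S] at hx'
  obtain ⟨⟨s, k, rfl⟩, hs⟩ := hx'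
  -- `a ^ k` acts injectively on `N ⊗ L`
  have hu : IsUnit (algebraMap A L (a ^ k)) := by rw [map_pow]; exact haL.pow k
  obtain ⟨u, hu⟩ := hu
  have hinj : Function.Injective (fun y : N ⊗[A] L => (a ^ k) • y) := by
    have h1 : (fun y : N ⊗[A] L => (a ^ k) • y) =
        (LinearMap.lTensor N (LinearMap.mulLeft A (u : L))) := by
      funext y
      induction y using TensorProduct.induction_on with
      | zero => simp
      | tmul n l =>
        simp only [LinearMap.lTensor_tmul, LinearMap.mulLeft_apply, hu]
        rw [← Algebra.smul_def, TensorProduct.tmul_smul]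
      | add y z hy hz =>
        simp only [smul_add, map_add] at hy hz ⊢
        rw [hy, hz]
    rw [h1]
    have h2 : Function.LeftInverse (LinearMap.lTensor N (LinearMap.mulLeft A ((u⁻¹ : Lˣ) : L)))
        (LinearMap.lTensor N (LinearMap.mulLeft A (u : L))) := by
      intro y
      rw [← LinearMap.comp_apply, ← LinearMap.lTensor_comp]
      have : LinearMap.mulLeft A ((u⁻¹ : Lˣ) : L) ∘ₗ LinearMap.mulLeft A (u : L) =
          LinearMap.id := by
        ext l
        simp
      rw [this, LinearMap.lTensor_id, LinearMap.id_apply]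
    exact h2.injective
  apply hinj
  show (a ^ k) • x = (a ^ k) • (0 : N ⊗[A] L)
  rw [smul_zero]
  exact hs

/-- **Injectivity on fibres.** For an exact sequence `N₁ → N₂ → M → 0` whose first map becomes
injective after inverting `a` and whose cokernel becomes free after inverting `a`, the map
`N₁ ⊗ L → N₂ ⊗ L` is injective for every algebra `L` in which `a` is invertible. -/
theorem rTensor_injective_of_gfw (ι : N₁ →ₗ[A] N₂) (π : N₂ →ₗ[A] M)
    (hπ : Function.Surjective π) (hex : Function.Exact ι π) {a : A}
    (hι : ∀ x, ι x = 0 → ∃ k : ℕ, a ^ k • x = 0)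
    (hM : GenFreeH8.GFW A M a) (L : Type*) [CommRing L] [Algebra A L]
    (haL : IsUnit (algebraMap A L a)) : Function.Injective (ι.rTensor L) := by
  set S := Submonoid.powers a with hS
  let m₁ := LocalizedModule.mkLinearMap S N₁
  let m₂ := LocalizedModule.mkLinearMap S N₂
  let m₃ := LocalizedModule.mkLinearMap S M
  let ι' := IsLocalizedModule.map S m₁ m₂ ι
  let π' := IsLocalizedModule.map S m₂ m₃ π
  have hπ' : Function.Surjective π' := IsLocalizedModule.map_surjective S m₂ m₃ π hπ
  have hex' : Function.Exact ι' π' := IsLocalizedModule.map_exact S m₁ m₂ m₃ ι π hex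
  have hι' : Function.Injective ι' := by
    rw [injective_iff_map_eq_zero]
    intro x hx
    obtain ⟨⟨n, s⟩, rfl⟩ := IsLocalizedModule.mk'_surjective S m₁ x
    simp only [Function.uncurry_apply_pair] at hx ⊢
    rw [show ι' = IsLocalizedModule.map S m₁ m₂ ι from rfl, IsLocalizedModule.map_mk',
      IsLocalizedModule.mk'_eq_zero'] at hx
    obtain ⟨⟨t, j, rfl⟩, ht⟩ := hx
    have ht' : ι ((a ^ j) • n) = 0 := by rw [map_smul]; exact ht
    obtain ⟨k, hk⟩ := hι _ ht'
    rw [IsLocalizedModule.mk'_eq_zero']
    refine ⟨⟨a ^ (k + j), k + j, rfl⟩, ?_⟩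
    show a ^ (k + j) • n = 0
    rw [pow_add, mul_smul]
    exact hk
  haveI : Module.Flat A (LocalizedModule S M) := hM.flat m₃
  have key : Function.Injective (ι'.lTensor L) :=
    LinearMap.lTensor_injective_of_exact_of_flat π' hπ' ι' hι' hex' L
  have key' : Function.Injective (ι'.rTensor L) := by
    have h := LinearMap.comm_comp_rTensor_comp_comm_eq (Q := L) ι'
    intro x y hxy
    have h1 : ι'.lTensor L ((TensorProduct.comm A _ L) x) =
        ι'.lTensor L ((TensorProduct.comm A _ L) y) := by
      rw [← h]
      simp only [LinearMap.coe_comp, LinearEquiv.coe_coe, Function.comp_apply]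
      have e1 : (TensorProduct.comm A L (LocalizedModule S N₁))
          ((TensorProduct.comm A (LocalizedModule S N₁) L) x) = x :=
        (TensorProduct.comm A (LocalizedModule S N₁) L).symm_apply_apply x
      have e2 : (TensorProduct.comm A L (LocalizedModule S N₁))
          ((TensorProduct.comm A (LocalizedModule S N₁) L) y) = y :=
        (TensorProduct.comm A (LocalizedModule S N₁) L).symm_apply_apply y
      rw [e1, e2, hxy]
    exact (TensorProduct.comm A _ L).injective (key h1)
  have hsq : (ι'.rTensor L) ∘ₗ (m₁.rTensor L) = (m₂.rTensor L) ∘ₗ (ι.rTensor L) := by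
    rw [← LinearMap.rTensor_comp, ← LinearMap.rTensor_comp]
    congr 1
    exact IsLocalizedModule.map_comp S m₁ m₂ ι
  have hm₁ : Function.Injective (m₁.rTensor L) := rTensor_mk_injective N₁ a L haL
  have hcomp : Function.Injective ((ι'.rTensor L) ∘ₗ (m₁.rTensor L)) := by
    rw [LinearMap.coe_comp]
    exact key'.comp hm₁
  rw [hsq, LinearMap.coe_comp] at hcomp
  exact Function.Injective.of_comp hcomp

end P1

section P2

variable {A : Type*} [CommRing A] {T T' : Type*} [CommRing T] [CommRing T'] [Algebra A T]
  [Algebra A T'] [Algebra T T'] [IsScalarTower A T T']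

/-- If `h` acts injectively on `T ⊗ L`, then `T ⊗ L → T_h ⊗ L` is injective. -/
theorem map_injective_of_mul_injective (h : T) [IsLocalization.Away h T']
    (L : Type*) [CommRing L] [Algebra A L]
    (hh : Function.Injective (fun x : T ⊗[A] L => (h ⊗ₜ[A] (1 : L)) * x)) :
    Function.Injective
      (Algebra.TensorProduct.map (IsScalarTower.toAlgHom A T T') (AlgHom.id A L)) := by
  set S := Submonoid.powers h
  haveI : IsLocalizedModule S (Algebra.linearMap T T') :=
    (isLocalizedModule_iff_isLocalization).mpr inferInstance
  haveI hloc : IsLocalizedModule S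
      (AlgebraTensorModule.rTensor A L (Algebra.linearMap T T')) := inferInstance
  have hfun : ∀ x : T ⊗[A] L,
      (Algebra.TensorProduct.map (IsScalarTower.toAlgHom A T T') (AlgHom.id A L)) x =
        (AlgebraTensorModule.rTensor A L (Algebra.linearMap T T')) x := by
    intro x
    induction x using TensorProduct.induction_on with
    | zero => simp
    | tmul t l => simp
    | add y z hy hz => rw [map_add, map_add, hy, hz]
  rw [injective_iff_map_eq_zero]
  intro x hx
  rw [hfun, IsLocalizedModule.eq_zero_iff S] at hx
  obtain ⟨⟨s, k, rfl⟩, hs⟩ := hx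
  have hs' : (h ^ k) • x = 0 := hs
  have hpow : ∀ (k : ℕ) (y : T ⊗[A] L), (h ^ k) • y = 0 → y = 0 := by
    intro k
    induction k with
    | zero => intro y hy; simpa using hy
    | succ k ih =>
      intro y hy
      apply ih
      apply hh
      show (h ⊗ₜ[A] (1 : L)) * ((h ^ k) • y) = (h ⊗ₜ[A] (1 : L)) * 0
      rw [mul_zero, ← hy, pow_succ, mul_smul]
      have : ∀ z : T ⊗[A] L, (h ⊗ₜ[A] (1 : L)) * z = h • z := by
        intro z
        induction z using TensorProduct.induction_on with
        | zero => simp
        | tmul t l =>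
          rw [Algebra.TensorProduct.tmul_mul_tmul, one_mul, TensorProduct.smul_tmul', smul_eq_mul]
        | add y z hy hz => rw [mul_add, smul_add, hy, hz]
      rw [this, smul_comm]
  exact hpow k x hs'

end P2

end GeomRedGenH8
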