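import Mathlib
import Groth.Agent.Lib.GenSmoothGR_helper6

/-!
# Generic geometric reducedness, part 2: a dense smooth basic open of a geometrically reduced
algebra over a field (helper8)
APPEND-ONLY once landed.
-/

set_option autoImplicit false
set_option linter.style.haveILetI false
universe u
open TensorProduct

namespace GeomRedGenH8

section Field

variable {K : Type u} [Field K] {C : Type u} [CommRing C] [Algebra K C]

/-- A minimal prime of an algebra over a field whose base change to the algebraic closure is
reduced is a smooth point. -/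
theorem minimalPrime_mem_smoothLocus
    (hbar : IsReduced (AlgebraicClosure K ⊗[K] C)) (q : Ideal C) (hq : q ∈ minimalPrimes C) :
    haveI := hq.1.1
    (⟨q, hq.1.1⟩ : PrimeSpectrum C) ∈ Algebra.smoothLocus K C := by
  haveI hqp : q.IsPrime := hq.1.1
  set F := Localization.AtPrime q
  haveI : IsReduced C :=
    isReduced_of_injective (Algebra.TensorProduct.includeRight :
      C →ₐ[K] (AlgebraicClosure K) ⊗[K] C)
      (Algebra.TensorProduct.includeRight_injective (RingHom.injective _))
  haveI : Ring.KrullDimLE 0 F := Ring.KrullDimLE.of_isLocalization q hq F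
  have hF : IsField F := Ring.KrullDimLE.isField_of_isReduced
  -- `K̄ ⊗ F` is a localization of `K̄ ⊗ C`
  let ψ : (AlgebraicClosure K ⊗[K] C) →ₐ[AlgebraicClosure K] (AlgebraicClosure K ⊗[K] F) :=
    Algebra.TensorProduct.map (AlgHom.id _ _) (IsScalarTower.toAlgHom K C F)
  letI : Algebra (AlgebraicClosure K ⊗[K] C) (AlgebraicClosure K ⊗[K] F) := ψ.toRingHom.toAlgebra
  haveI : IsScalarTower (AlgebraicClosure K) (AlgebraicClosure K ⊗[K] C)
      (AlgebraicClosure K ⊗[K] F) := IsScalarTower.of_algebraMap_eq' (by
    ext x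
    simp [RingHom.algebraMap_toAlgebra, ψ])
  haveI hloc : IsLocalization (q.primeCompl.map (Algebra.TensorProduct.includeRight
      (R := K) (A := AlgebraicClosure K))) (AlgebraicClosure K ⊗[K] F) :=
    IsLocalization.tensorProduct_tensorProduct_right K (AlgebraicClosure K) q.primeCompl F (by
      ext x
      simp [RingHom.algebraMap_toAlgebra, ψ])
  haveI : IsReduced (AlgebraicClosure K ⊗[K] F) :=
    isReduced_localizationPreserves (q.primeCompl.map (Algebra.TensorProduct.includeRight
      (R := K) (A := AlgebraicClosure K))) (AlgebraicClosure K ⊗[K] F) hbar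
  have hgr : Algebra.IsGeometricallyReduced K F :=
    (Algebra.isGeometricallyReduced_field_iff K F).mpr inferInstance
  exact Groth.Agent.Lib.GenSmoothGRH6.formallySmooth_of_isField hF hgr

/-- In a Noetherian algebra over a field whose base change to the algebraic closure is reduced
there is a nonzerodivisor `g'` whose basic open is smooth. -/
theorem exists_nzd_smooth [Algebra.FiniteType K C]
    (hbar : IsReduced (AlgebraicClosure K ⊗[K] C)) :
    ∃ g' : C, (∀ c : C, g' * c = 0 → c = 0) ∧
      (↑(PrimeSpectrum.basicOpen g') ⊆ Algebra.smoothLocus K C) := by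
  classical
  haveI : IsReduced C :=
    isReduced_of_injective (Algebra.TensorProduct.includeRight :
      C →ₐ[K] (AlgebraicClosure K) ⊗[K] C)
      (Algebra.TensorProduct.includeRight_injective (RingHom.injective _))
  haveI : IsNoetherianRing C := Algebra.FiniteType.isNoetherianRing K C
  haveI : Algebra.FinitePresentation K C :=
    Algebra.FinitePresentation.of_finiteType.mp inferInstance
  have hfin : (minimalPrimes C).Finite := minimalPrimes.finite_of_isNoetherianRing C
  have hopen : IsOpen (Algebra.smoothLocus K C) := Algebra.isOpen_smoothLocus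
  set Z : Set (PrimeSpectrum C) := (Algebra.smoothLocus K C)ᶜ with hZ
  have hZc : IsClosed Z := hopen.isClosed_compl
  set I : Ideal C := PrimeSpectrum.vanishingIdeal Z with hI
  have hzI : PrimeSpectrum.zeroLocus (I : Set C) = Z := by
    rw [hI, PrimeSpectrum.zeroLocus_vanishingIdeal_eq_closure, hZc.closure_eq]
  have hnot : ∀ q ∈ minimalPrimes C, ¬ I ≤ q := by
    intro q hq hle
    haveI := hq.1.1
    have h1 : (⟨q, hq.1.1⟩ : PrimeSpectrum C) ∈ Z := by
      rw [← hzI]
      exact hle
    exact h1 (minimalPrime_mem_smoothLocus hbar q hq)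
  have havoid : ¬ ((I : Set C) ⊆ ⋃ q ∈ (hfin.toFinset : Set (Ideal C)), (q : Set C)) := by
    intro hsub
    obtain ⟨q, hq, hle⟩ := (Ideal.subset_union_prime (s := hfin.toFinset) (f := fun q => q)
      ⊥ ⊥ (fun q hq _ _ => (hfin.mem_toFinset.mp hq).1.1)).mp hsub
    exact hnot q (hfin.mem_toFinset.mp hq) hle
  obtain ⟨g', hg'I, hg'⟩ := Set.not_subset.mp havoid
  have hg'q : ∀ q ∈ minimalPrimes C, g' ∉ q := by
    intro q hq hmem
    apply hg'
    exact Set.mem_iUnion₂.mpr ⟨q, by simpa using hq, hmem⟩
  refine ⟨g', ?_, ?_⟩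
  · intro c hc
    have hcq : ∀ q ∈ minimalPrimes C, c ∈ q := by
      intro q hq
      haveI := hq.1.1
      have : g' * c ∈ q := by rw [hc]; exact q.zero_mem
      exact (Ideal.IsPrime.mem_or_mem hq.1.1 this).resolve_left (hg'q q hq)
    have hmem : c ∈ sInf (minimalPrimes C) := by
      rw [Ideal.mem_sInf]
      intro q hq
      exact hcq q hq
    have hrad : sInf (minimalPrimes C) = (⊥ : Ideal C).radical := Ideal.sInf_minimalPrimes
    rw [hrad] at hmem
    have : (⊥ : Ideal C).radical = ⊥ := nilradical_eq_zero C
    rw [this] at hmem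
    exact hmem
  · intro p hp
    by_contra hcon
    have hpZ : p ∈ Z := hcon
    rw [← hzI] at hpZ
    exact hp (hpZ hg'I)

end Field

section Domain

variable {A B : Type u} [CommRing A] [IsDomain A] [CommRing B] [Algebra A B]
  [Algebra.FiniteType A B]

/-- The element `g` of `B` cutting out a dense smooth open of the generic fibre. -/
theorem exists_nzd_smooth_fiber
    (hbar : IsReduced (AlgebraicClosure (⊥ : Ideal A).ResidueField ⊗[(⊥ : Ideal A).ResidueField]
      ((⊥ : Ideal A).Fiber B))) :
    ∃ g : B, (∀ c : (⊥ : Ideal A).Fiber B,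
        ((1 : (⊥ : Ideal A).ResidueField) ⊗ₜ[A] g) * c = 0 → c = 0) ∧
      Algebra.Smooth (⊥ : Ideal A).ResidueField
        (Localization.Away (((1 : (⊥ : Ideal A).ResidueField) ⊗ₜ[A] g) : (⊥ : Ideal A).Fiber B)) := by
  set K := (⊥ : Ideal A).ResidueField with hK
  set C := (⊥ : Ideal A).Fiber B with hC
  haveI : Algebra.FiniteType K C := inferInstance
  haveI : IsNoetherianRing C := Algebra.FiniteType.isNoetherianRing K C
  haveI : Algebra.FinitePresentation K C :=
    Algebra.FinitePresentation.of_finiteType.mp inferInstance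
  obtain ⟨g', hnzd, hsm⟩ := exists_nzd_smooth (K := K) (C := C) hbar
  obtain ⟨r, hr, s, hrs⟩ := Ideal.Fiber.exists_smul_eq_one_tmul (⊥ : Ideal A) g'
  have hrK : algebraMap A K r ≠ 0 := by
    intro h0
    exact hr (Ideal.algebraMap_residueField_eq_zero.mp h0)
  have hu : IsUnit (algebraMap A C r) := by
    rw [IsScalarTower.algebraMap_apply A K C]
    exact (IsUnit.mk0 _ hrK).map _
  have heq : ((1 : K) ⊗ₜ[A] s : C) = algebraMap A C r * g' := by
    rw [← hrs, Algebra.smul_def]
  refine ⟨s, ?_, ?_⟩
  · intro c hc
    rw [heq, mul_assoc] at hc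
    exact hnzd c (hu.mul_right_eq_zero.mp hc)
  · rw [← Algebra.basicOpen_subset_smoothLocus_iff_smooth]
    intro p hp
    apply hsm
    rw [SetLike.mem_coe, PrimeSpectrum.mem_basicOpen] at hp ⊢
    intro hmem
    apply hp
    rw [heq]
    exact Ideal.mul_mem_left _ _ hmem

end Domain

end GeomRedGenH8
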