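import Mathlib
import Groth.Agent.Lib.GeomRedGen1_helper8
import Groth.Agent.Lib.GeomRedGen2_helper8
import Groth.Agent.Lib.GenFreeF_helper8
import Groth.Agent.S9407

/-!
# Generic geometric reducedness, part 3: spreading out smoothness and the core theorem (helper8)
APPEND-ONLY once landed.
-/

set_option autoImplicit false
set_option linter.style.haveILetI false
universe u
open TensorProduct

namespace GeomRedGenH8

section Spread

variable {A B' : Type u} [CommRing A] [IsDomain A] [CommRing B'] [Algebra A B']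
  [Module.Flat A B'] [Algebra.FinitePresentation A B']

/-- Smoothness of the generic fibre of a flat finitely presented algebra over a domain spreads out
over a basic open of the base. -/
theorem exists_smooth_away
    (hsm : Algebra.FormallySmooth (⊥ : Ideal A).ResidueField ((⊥ : Ideal A).Fiber B')) :
    ∃ a : A, a ≠ 0 ∧ Algebra.Smooth A (Localization.Away (algebraMap A B' a)) := by
  have hopen : IsOpen (Algebra.smoothLocus A B') := Algebra.isOpen_smoothLocus
  set Z : Set (PrimeSpectrum B') := (Algebra.smoothLocus A B')ᶜ with hZ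
  have hZc : IsClosed Z := hopen.isClosed_compl
  set J : Ideal B' := PrimeSpectrum.vanishingIdeal Z with hJ
  have hzJ : PrimeSpectrum.zeroLocus (J : Set B') = Z := by
    rw [hJ, PrimeSpectrum.zeroLocus_vanishingIdeal_eq_closure, hZc.closure_eq]
  set T : Submonoid B' := Algebra.algebraMapSubmonoid B' (nonZeroDivisors A) with hT
  have hnd : ¬ Disjoint (J : Set B') (T : Set B') := by
    intro hdis
    obtain ⟨p, hp, hJp, hpT⟩ := Ideal.exists_le_prime_disjoint J T hdis
    haveI := hp
    have hpZ : (⟨p, hp⟩ : PrimeSpectrum B') ∈ Z := by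
      rw [← hzJ]
      exact hJp
    haveI : p.LiesOver (⊥ : Ideal A) := by
      constructor
      ext r
      simp only [Ideal.mem_bot, Ideal.under, Ideal.mem_comap]
      constructor
      · rintro rfl
        simp
      · intro hr
        by_contra hr0
        have h1 : algebraMap A B' r ∈ T :=
          ⟨r, mem_nonZeroDivisors_of_ne_zero hr0, rfl⟩
        exact Set.disjoint_left.mp hpT hr h1
    have hsmAt : Algebra.IsSmoothAt A p := Algebra.IsSmoothAt.of_formallySmooth_fiber ⊥ p
    exact hpZ hsmAt
  obtain ⟨x, hxJ, hxT⟩ := Set.not_disjoint_iff.mp hnd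
  obtain ⟨a, ha, rfl⟩ := hxT
  refine ⟨a, nonZeroDivisors.ne_zero ha, ?_⟩
  rw [← Algebra.basicOpen_subset_smoothLocus_iff_smooth]
  intro p hp
  by_contra hcon
  have hpZ : p ∈ Z := hcon
  rw [← hzJ] at hpZ
  exact hp (hpZ hxJ)

end Spread

section CoreFlat

variable {A B : Type u} [CommRing A] [IsDomain A] [CommRing B] [Algebra A B]
  [Module.Flat A B] [Algebra.FinitePresentation A B]

omit [Module.Flat A B] [Algebra.FinitePresentation A B] in
/-- The generic fibre of `B_g` is the localization of the generic fibre of `B`. -/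
theorem formallySmooth_fiber_away (g : B)
    (hsm : Algebra.Smooth (⊥ : Ideal A).ResidueField
      (Localization.Away (((1 : (⊥ : Ideal A).ResidueField) ⊗ₜ[A] g) : (⊥ : Ideal A).Fiber B))) :
    Algebra.FormallySmooth (⊥ : Ideal A).ResidueField
      ((⊥ : Ideal A).Fiber (Localization.Away g)) := by
  set K := (⊥ : Ideal A).ResidueField with hK
  let B' := Localization.Away g
  let ψ : (K ⊗[A] B) →ₐ[K] (K ⊗[A] B') :=
    Algebra.TensorProduct.map (AlgHom.id _ _) (IsScalarTower.toAlgHom A B B')
  letI : Algebra (K ⊗[A] B) (K ⊗[A] B') := ψ.toRingHom.toAlgebra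
  haveI : IsScalarTower K (K ⊗[A] B) (K ⊗[A] B') := IsScalarTower.of_algebraMap_eq' (by
    ext x
    simp [RingHom.algebraMap_toAlgebra, ψ])
  haveI hloc : IsLocalization ((Submonoid.powers g).map (Algebra.TensorProduct.includeRight
      (R := A) (A := K))) (K ⊗[A] B') :=
    IsLocalization.tensorProduct_tensorProduct_right A K (Submonoid.powers g) B' (by
      ext x
      simp [RingHom.algebraMap_toAlgebra, ψ])
  have hpow : (Submonoid.powers g).map (Algebra.TensorProduct.includeRight
      (R := A) (A := K) (B := B)) = Submonoid.powers ((1 : K) ⊗ₜ[A] g) := by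
    rw [Submonoid.map_powers]
    rfl
  rw [hpow] at hloc
  haveI : IsLocalization.Away ((1 : K) ⊗ₜ[A] g : K ⊗[A] B) (K ⊗[A] B') := hloc
  let e : Localization.Away ((1 : K) ⊗ₜ[A] g : K ⊗[A] B) ≃ₐ[K ⊗[A] B] (K ⊗[A] B') :=
    IsLocalization.algEquiv (Submonoid.powers ((1 : K) ⊗ₜ[A] g : K ⊗[A] B)) _ _
  haveI : Algebra.FormallySmooth K (Localization.Away ((1 : K) ⊗ₜ[A] g : K ⊗[A] B)) :=
    hsm.1
  exact Algebra.FormallySmooth.of_equiv (e.restrictScalars K)

/-- **Core theorem, flat finitely presented case.** -/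
theorem core_flat
    (hbar : IsReduced (AlgebraicClosure (⊥ : Ideal A).ResidueField ⊗[(⊥ : Ideal A).ResidueField]
      ((⊥ : Ideal A).Fiber B))) :
    ∃ a : A, a ≠ 0 ∧ ∀ (L : Type u) [CommRing L] [IsReduced L] [Algebra A L],
      IsUnit (algebraMap A L a) → IsReduced (L ⊗[A] B) := by
  set K := (⊥ : Ideal A).ResidueField with hK
  haveI : Algebra.FiniteType A B := inferInstance
  obtain ⟨g, hnzd, hsm⟩ := exists_nzd_smooth_fiber (A := A) (B := B) hbar
  -- `g` is a nonzerodivisor of `B`
  have hinc : Function.Injective (Algebra.TensorProduct.includeRight : B →ₐ[A] K ⊗[A] B) :=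
    Algebra.TensorProduct.includeRight_injective
      (IsFractionRing.injective A K)
  have hgB : ∀ x : B, g * x = 0 → x = 0 := by
    intro x hx
    apply hinc
    rw [map_zero]
    apply hnzd
    show ((1 : K) ⊗ₜ[A] g) * ((1 : K) ⊗ₜ[A] x) = 0
    rw [Algebra.TensorProduct.tmul_mul_tmul, hx, mul_one, TensorProduct.tmul_zero]
  -- the localization `B' = B_g`
  let B' := Localization.Away g
  haveI : Algebra.FinitePresentation B B' := IsLocalization.Away.finitePresentation g
  haveI : Algebra.FinitePresentation A B' := Algebra.FinitePresentation.trans A B B'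
  haveI : Module.Flat A B' := inferInstance
  have hfs : Algebra.FormallySmooth K ((⊥ : Ideal A).Fiber B') :=
    formallySmooth_fiber_away g hsm
  obtain ⟨a₂, ha₂, hsm₂⟩ := exists_smooth_away (A := A) (B' := B') hfs
  -- generic freeness of `B ⧸ (g)`
  let M := B ⧸ Ideal.span {g}
  obtain ⟨a₃, ha₃, hgfw, -⟩ := GenFreeH8.main (R := A) (S := B) M
  refine ⟨a₂ * a₃, mul_ne_zero ha₂ ha₃, ?_⟩
  intro L _ _ _ haL
  rw [map_mul] at haL
  have hu₂ : IsUnit (algebraMap A L a₂) := isUnit_of_mul_isUnit_left haL
  have hu₃ : IsUnit (algebraMap A L a₃) := isUnit_of_mul_isUnit_right haL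
  -- step i: `g ⊗ 1` acts injectively on `B ⊗ L`
  let ι : B →ₗ[A] B := LinearMap.mulLeft A g
  let π : B →ₗ[A] M := (Ideal.Quotient.mkₐ A (Ideal.span {g})).toLinearMap
  have hπ : Function.Surjective π := Ideal.Quotient.mkₐ_surjective A _
  have hex : Function.Exact ι π := by
    intro y
    show (Ideal.Quotient.mk (Ideal.span {g}) y = 0) ↔ y ∈ Set.range ι
    rw [Ideal.Quotient.eq_zero_iff_mem, Ideal.mem_span_singleton']
    constructor
    · rintro ⟨x, hx⟩
      exact ⟨x, by show g * x = y; rw [mul_comm]; exact hx⟩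
    · rintro ⟨x, hx⟩
      exact ⟨x, by rw [mul_comm]; exact hx⟩
  have hι : ∀ x, ι x = 0 → ∃ k : ℕ, a₃ ^ k • x = 0 := by
    intro x hx
    exact ⟨0, by rw [pow_zero, one_smul]; exact hgB x hx⟩
  have hinj₁ : Function.Injective (ι.rTensor L) :=
    rTensor_injective_of_gfw ι π hπ hex hι hgfw L hu₃
  have hmul₁ : Function.Injective (fun x : B ⊗[A] L => (g ⊗ₜ[A] (1 : L)) * x) := by
    have : (fun x : B ⊗[A] L => (g ⊗ₜ[A] (1 : L)) * x) = ι.rTensor L := by
      funext x
      induction x using TensorProduct.induction_on with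
      | zero => simp
      | tmul b l =>
        rw [Algebra.TensorProduct.tmul_mul_tmul, one_mul, LinearMap.rTensor_tmul]
        rfl
      | add y z hy hz =>
        simp only [mul_add, map_add] at hy hz ⊢
        rw [hy, hz]
    rw [this]
    exact hinj₁
  -- step ii
  have hstep₂ : Function.Injective
      (Algebra.TensorProduct.map (IsScalarTower.toAlgHom A B B') (AlgHom.id A L)) :=
    map_injective_of_mul_injective g L hmul₁
  -- step iii
  let C₂ := Localization.Away (algebraMap A B' a₂)
  have hmul₂ : Function.Injective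
      (fun x : B' ⊗[A] L => ((algebraMap A B' a₂) ⊗ₜ[A] (1 : L)) * x) := by
    have hunit : IsUnit (((algebraMap A B' a₂) ⊗ₜ[A] (1 : L)) : B' ⊗[A] L) := by
      have h1 : ((algebraMap A B' a₂) ⊗ₜ[A] (1 : L) : B' ⊗[A] L) =
          (1 : B') ⊗ₜ[A] (algebraMap A L a₂) := by
        rw [Algebra.algebraMap_eq_smul_one, Algebra.algebraMap_eq_smul_one,
          TensorProduct.smul_tmul]
      rw [h1]
      exact hu₂.map (Algebra.TensorProduct.includeRight : L →ₐ[A] B' ⊗[A] L)
    intro x y hxy
    exact hunit.mul_right_injective hxy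
  have hstep₃ : Function.Injective
      (Algebra.TensorProduct.map (IsScalarTower.toAlgHom A B' C₂) (AlgHom.id A L)) :=
    map_injective_of_mul_injective (algebraMap A B' a₂) L hmul₂
  -- step iv
  haveI : Algebra.Smooth A C₂ := hsm₂
  haveI : Algebra.Smooth L (L ⊗[A] C₂) := inferInstance
  haveI : IsReduced (L ⊗[A] C₂) := Groth.Agent.S9407.result L (L ⊗[A] C₂)
  -- assemble
  let φ : (L ⊗[A] B) →ₐ[A] (L ⊗[A] C₂) :=
    ((Algebra.TensorProduct.comm A C₂ L).toAlgHom.comp
      (Algebra.TensorProduct.map (IsScalarTower.toAlgHom A B' C₂) (AlgHom.id A L))).comp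
      ((Algebra.TensorProduct.map (IsScalarTower.toAlgHom A B B') (AlgHom.id A L)).comp
        (Algebra.TensorProduct.comm A L B).toAlgHom)
  have hφ : Function.Injective φ := by
    show Function.Injective ((Algebra.TensorProduct.comm A C₂ L) ∘
      (Algebra.TensorProduct.map (IsScalarTower.toAlgHom A B' C₂) (AlgHom.id A L)) ∘
      (Algebra.TensorProduct.map (IsScalarTower.toAlgHom A B B') (AlgHom.id A L)) ∘
      (Algebra.TensorProduct.comm A L B))
    exact (Algebra.TensorProduct.comm A C₂ L).injective.comp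
      (hstep₃.comp (hstep₂.comp (Algebra.TensorProduct.comm A L B).injective))
  exact isReduced_of_injective φ.toRingHom hφ

end CoreFlat

section Core

variable {A B : Type u} [CommRing A] [IsDomain A] [CommRing B] [Algebra A B]

/-- Reduction of the core theorem to a localization of the base over which the algebra is flat and
finitely presented. -/
theorem core_of_away
    (h : ∀ (L : Type u) [Field L] [Algebra A L], Function.Injective (algebraMap A L) →
      IsReduced (L ⊗[A] B)) (a₁ : A) (ha₁ : a₁ ≠ 0) (A₁ : Type u) [CommRing A₁] [Algebra A A₁]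
    [IsLocalization.Away a₁ A₁] [Module.Flat A₁ (A₁ ⊗[A] B)]
    [Algebra.FinitePresentation A₁ (A₁ ⊗[A] B)] :
    ∃ a : A, a ≠ 0 ∧ ∀ (L : Type u) [CommRing L] [IsReduced L] [Algebra A L],
      IsUnit (algebraMap A L a) → IsReduced (L ⊗[A] B) := by
  haveI : IsDomain A₁ :=
    IsLocalization.isDomain_of_le_nonZeroDivisors (M := Submonoid.powers a₁) A₁
      (powers_le_nonZeroDivisors_of_noZeroDivisors ha₁)
  have hA₁inj : Function.Injective (algebraMap A A₁) :=
    IsLocalization.injective A₁ (powers_le_nonZeroDivisors_of_noZeroDivisors ha₁)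
  -- the hypothesis for `(A₁, B₁)`
  have hbar : IsReduced (AlgebraicClosure (⊥ : Ideal A₁).ResidueField ⊗[(⊥ : Ideal A₁).ResidueField]
      ((⊥ : Ideal A₁).Fiber (A₁ ⊗[A] B))) := by
    have hinj : Function.Injective
        (algebraMap A (AlgebraicClosure (⊥ : Ideal A₁).ResidueField)) := by
      have e1 : algebraMap A (AlgebraicClosure (⊥ : Ideal A₁).ResidueField) =
          (algebraMap (⊥ : Ideal A₁).ResidueField
            (AlgebraicClosure (⊥ : Ideal A₁).ResidueField)).comp
          ((algebraMap A₁ (⊥ : Ideal A₁).ResidueField).comp (algebraMap A A₁)) := by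
        rw [← IsScalarTower.algebraMap_eq A A₁ (⊥ : Ideal A₁).ResidueField,
          ← IsScalarTower.algebraMap_eq A (⊥ : Ideal A₁).ResidueField
            (AlgebraicClosure (⊥ : Ideal A₁).ResidueField)]
      rw [e1, RingHom.coe_comp, RingHom.coe_comp]
      exact (RingHom.injective (algebraMap (⊥ : Ideal A₁).ResidueField
        (AlgebraicClosure (⊥ : Ideal A₁).ResidueField))).comp
        ((IsFractionRing.injective A₁ (⊥ : Ideal A₁).ResidueField).comp hA₁inj)
    haveI : IsReduced (AlgebraicClosure (⊥ : Ideal A₁).ResidueField ⊗[A] B) := h _ hinj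
    let e₁ := Algebra.TensorProduct.cancelBaseChange A₁ (⊥ : Ideal A₁).ResidueField
      (AlgebraicClosure (⊥ : Ideal A₁).ResidueField)
      (AlgebraicClosure (⊥ : Ideal A₁).ResidueField) (A₁ ⊗[A] B)
    let e₂ := Algebra.TensorProduct.cancelBaseChange A A₁
      (AlgebraicClosure (⊥ : Ideal A₁).ResidueField)
      (AlgebraicClosure (⊥ : Ideal A₁).ResidueField) B
    exact isReduced_of_injective (e₁.trans e₂).toAlgHom.toRingHom (e₁.trans e₂).injective
  obtain ⟨a', ha', hcore⟩ := core_flat (A := A₁) (B := A₁ ⊗[A] B) hbar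
  obtain ⟨n, a'', hn⟩ := IsLocalization.Away.surj a₁ a'
  have ha₁' : algebraMap A A₁ a₁ ≠ 0 := by
    intro h1
    exact ha₁ (hA₁inj (by rw [h1, map_zero]))
  have ha'' : a'' ≠ 0 := by
    rintro rfl
    rw [map_zero] at hn
    rcases mul_eq_zero.mp hn with h0 | h0
    · exact ha' h0
    · exact pow_ne_zero n ha₁' h0
  refine ⟨a₁ * a'', mul_ne_zero ha₁ ha'', ?_⟩
  intro L _ _ _ haL
  rw [map_mul] at haL
  have hu₁ : IsUnit (algebraMap A L a₁) := isUnit_of_mul_isUnit_left haL
  have hu'' : IsUnit (algebraMap A L a'') := isUnit_of_mul_isUnit_right haL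
  letI : Algebra A₁ L := (IsLocalization.Away.lift a₁ hu₁).toAlgebra
  haveI : IsScalarTower A A₁ L := IsScalarTower.of_algebraMap_eq' (by
    rw [RingHom.algebraMap_toAlgebra]
    exact (IsLocalization.Away.lift_comp a₁ hu₁).symm)
  have hu' : IsUnit (algebraMap A₁ L a') := by
    have h1 : algebraMap A₁ L a' * (algebraMap A L a₁) ^ n = algebraMap A L a'' := by
      rw [IsScalarTower.algebraMap_apply A A₁ L a₁, IsScalarTower.algebraMap_apply A A₁ L a'',
        ← map_pow, ← map_mul, hn]
    have h2 : IsUnit (algebraMap A₁ L a' * (algebraMap A L a₁) ^ n) := by rw [h1]; exact hu''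
    exact isUnit_of_mul_isUnit_left h2
  haveI : IsReduced (L ⊗[A₁] (A₁ ⊗[A] B)) := hcore L hu'
  let e := Algebra.TensorProduct.cancelBaseChange A A₁ L L B
  exact isReduced_of_injective e.symm.toAlgHom.toRingHom e.symm.injective

/-- **Core theorem**: a finite type algebra over a domain whose generic fibre is geometrically
reduced has geometrically reduced fibres over a nonempty basic open. -/
theorem core [Algebra.FiniteType A B]
    (h : ∀ (L : Type u) [Field L] [Algebra A L], Function.Injective (algebraMap A L) →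
      IsReduced (L ⊗[A] B)) :
    ∃ a : A, a ≠ 0 ∧ ∀ (L : Type u) [CommRing L] [IsReduced L] [Algebra A L],
      IsUnit (algebraMap A L a) → IsReduced (L ⊗[A] B) := by
  obtain ⟨a₁, ha₁, -, hfree, hfp, -⟩ := GenFreeH8.generic_freeness (R := A) (S := B) B
  haveI := hfree
  haveI := hfp
  haveI : Module.Flat (Localization.Away a₁) (Localization.Away a₁ ⊗[A] B) := inferInstance
  exact core_of_away h a₁ ha₁ (Localization.Away a₁)

end Core

end GeomRedGenH8
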