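import Mathlib
import Groth.Agent.Lib.GeomRedGen3_helper8

/-!
# Generic geometric reducedness, part 4: base rings with prime nilradical (helper8)
APPEND-ONLY once landed.
-/

set_option autoImplicit false
set_option linter.style.haveILetI false
universe u
open TensorProduct

namespace GeomRedGenH8

section CoreNil

variable {A₀ B : Type u} [CommRing A₀] [CommRing B] [Algebra A₀ B] [Algebra.FiniteType A₀ B]

theorem core_nil_aux (A : Type u) [CommRing A] [IsDomain A] [Algebra A₀ A]
    (hsurj : Function.Surjective (algebraMap A₀ A))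
    (hker : RingHom.ker (algebraMap A₀ A) = nilradical A₀)
    (h : ∀ (L : Type u) [Field L] [Algebra A₀ L], RingHom.ker (algebraMap A₀ L) = nilradical A₀ →
      IsReduced (L ⊗[A₀] B)) :
    ∃ a : A₀, a ∉ nilradical A₀ ∧ ∀ (L : Type u) [CommRing L] [IsReduced L] [Algebra A₀ L],
      IsUnit (algebraMap A₀ L a) → IsReduced (L ⊗[A₀] B) := by
  have hcore := core (A := A) (B := A ⊗[A₀] B) (fun L _ _ hinj => by
    letI : Algebra A₀ L := Algebra.compHom L (algebraMap A₀ A)
    haveI : IsScalarTower A₀ A L := IsScalarTower.of_algebraMap_eq (fun x => rfl)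
    have hk : RingHom.ker (algebraMap A₀ L) = nilradical A₀ := by
      rw [← hker]
      ext x
      rw [RingHom.mem_ker, RingHom.mem_ker, IsScalarTower.algebraMap_apply A₀ A L,
        map_eq_zero_iff _ hinj]
    haveI := h L hk
    exact isReduced_of_injective (Algebra.TensorProduct.cancelBaseChange A₀ A L L B)
      (AlgEquiv.injective _))
  obtain ⟨a', ha', H⟩ := hcore
  obtain ⟨a, rfl⟩ := hsurj a'
  refine ⟨a, fun hmem => ha' ?_, fun L _ _ _ hu => ?_⟩
  · rw [← hker] at hmem
    exact hmem
  · have hle : RingHom.ker (algebraMap A₀ A) ≤ RingHom.ker (algebraMap A₀ L) := by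
      rw [hker]
      intro x hx
      rw [RingHom.mem_ker]
      exact ((mem_nilradical.mp hx).map (algebraMap A₀ L)).eq_zero
    let ψ : A →+* L := (algebraMap A₀ A).liftOfSurjective hsurj ⟨algebraMap A₀ L, hle⟩
    have hψ : ∀ x, ψ (algebraMap A₀ A x) = algebraMap A₀ L x := fun x =>
      RingHom.liftOfRightInverse_comp_apply _ _ _ _ x
    letI : Algebra A L := ψ.toAlgebra
    haveI : IsScalarTower A₀ A L := IsScalarTower.of_algebraMap_eq (fun x => (hψ x).symm)
    have hu' : IsUnit (algebraMap A L (algebraMap A₀ A a)) := by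
      rw [← IsScalarTower.algebraMap_apply A₀ A L]
      exact hu
    haveI := H L hu'
    exact isReduced_of_injective (Algebra.TensorProduct.cancelBaseChange A₀ A L L B).symm
      (AlgEquiv.injective _)

theorem core_nilradical (hp : (nilradical A₀).IsPrime)
    (h : ∀ (L : Type u) [Field L] [Algebra A₀ L], RingHom.ker (algebraMap A₀ L) = nilradical A₀ →
      IsReduced (L ⊗[A₀] B)) :
    ∃ a : A₀, a ∉ nilradical A₀ ∧ ∀ (L : Type u) [CommRing L] [IsReduced L] [Algebra A₀ L],
      IsUnit (algebraMap A₀ L a) → IsReduced (L ⊗[A₀] B) := by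
  haveI := hp
  exact core_nil_aux (A₀ ⧸ nilradical A₀) Ideal.Quotient.mk_surjective Ideal.mk_ker h

end CoreNil

end GeomRedGenH8
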