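import Mathlib
import Groth.Agent.Lib.GenFreeB_helper8

/-! Generic freeness over arbitrary (e.g. reduced) rings, part 1: the cyclic case in elementary
form, with a stabilisation argument replacing the domain hypothesis. -/

open MvPolynomial
open scoped MonomialOrder

namespace GenFreeH8

variable {σ : Type*} [Finite σ] {R : Type*} [CommRing R]

/-- The cyclic case of generic freeness over an arbitrary commutative ring: given a nonzero `g₀`
there is a nonzero multiple `c` of `g₀`, a finite subset `G` of the ideal `I` and a set `Std` of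
monomials such that every element of `I` supported in `Std` is killed by a power of `c`, and every
polynomial, multiplied by a power of `c`, is congruent modulo `G` to a polynomial supported in
`Std`. -/
theorem cyclic_elementary' (m : MonomialOrder σ) (I : Ideal (MvPolynomial σ R)) (g₀ : R)
    (hg₀ : g₀ ≠ 0) :
    ∃ (c : R) (G : Finset (MvPolynomial σ R)) (Std : Set (σ →₀ ℕ)), g₀ ∣ c ∧ c ≠ 0 ∧
      (↑G : Set (MvPolynomial σ R)) ⊆ I ∧
      (∀ q ∈ I, (∀ t ∈ q.support, t ∈ Std) → ∃ k : ℕ, C c ^ k * q = 0) ∧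
      (∀ f : MvPolynomial σ R, ∃ k : ℕ, ∃ h ∈ Ideal.span (↑G : Set (MvPolynomial σ R)),
        ∃ r : MvPolynomial σ R, C c ^ k * f = h + r ∧ ∀ t ∈ r.support, t ∈ Std) := by
  classical
  -- degrees of elements whose leading coefficient becomes a unit after inverting `c`
  set D : R → Set (σ →₀ ℕ) := fun c =>
    {d | ∃ f ∈ I, f ≠ 0 ∧ (∃ k : ℕ, m.leadingCoeff f ∣ c ^ k) ∧ m.degree f = d} with hD
  set J : R → Ideal (MvPolynomial σ ℚ) := fun c =>
    Ideal.span ((fun d => monomial d (1 : ℚ)) '' D c) with hJ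
  have hDmono : ∀ c c' : R, c ∣ c' → D c ⊆ D c' := by
    rintro c c' hcc' d ⟨f, hfI, hf0, ⟨k, hk⟩, hd⟩
    exact ⟨f, hfI, hf0, ⟨k, hk.trans (pow_dvd_pow_of_dvd hcc' k)⟩, hd⟩
  have hJmono : ∀ c c' : R, c ∣ c' → J c ≤ J c' := fun c c' h =>
    Ideal.span_mono (Set.image_mono (hDmono c c' h))
  -- choose `c` with `J c` maximal
  obtain ⟨J₀, ⟨c, ⟨hg₀c, hc0⟩, rfl⟩, hmax⟩ := (wellFounded_gt (α := Ideal (MvPolynomial σ ℚ))).has_min
    (J '' {c | g₀ ∣ c ∧ c ≠ 0}) ⟨_, g₀, ⟨dvd_rfl, hg₀⟩, rfl⟩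
  have hclaim : ∀ f ∈ I, f ≠ 0 → c * m.leadingCoeff f ≠ 0 → ∃ d ∈ D c, d ≤ m.degree f := by
    intro f hfI hf0 hcf
    have hc' : J (c * m.leadingCoeff f) ∈ J '' {c | g₀ ∣ c ∧ c ≠ 0} :=
      ⟨_, ⟨hg₀c.mul_right _, hcf⟩, rfl⟩
    have h1 : J c = J (c * m.leadingCoeff f) := by
      apply le_antisymm (hJmono _ _ (dvd_mul_right _ _))
      by_contra hnle
      exact hmax _ hc' (lt_of_le_not_ge (hJmono _ _ (dvd_mul_right _ _)) hnle)
    have h2 : monomial (m.degree f) (1 : ℚ) ∈ J (c * m.leadingCoeff f) := by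
      apply Ideal.subset_span
      exact ⟨m.degree f, ⟨f, hfI, hf0, ⟨1, by rw [pow_one]; exact dvd_mul_left _ _⟩, rfl⟩, rfl⟩
    rw [← h1, hJ, mem_ideal_span_monomial_image] at h2
    have h3 : m.degree f ∈ (monomial (m.degree f) (1 : ℚ)).support := by
      rw [support_monomial, if_neg one_ne_zero]; simp
    exact h2 _ h3
  obtain ⟨D₀, hD₀, hdick⟩ := dickson (D c)
  have hD₀' : ∀ d ∈ D₀, ∃ f ∈ I, f ≠ 0 ∧ (∃ k : ℕ, m.leadingCoeff f ∣ c ^ k) ∧ m.degree f = d :=
    fun d hd => hD₀ hd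
  choose! g hgI hg0 hgk hgd using hD₀'
  choose! kk hkk using hgk
  set K : ℕ := ∑ d ∈ D₀, kk d with hK
  have hdvd : ∀ d ∈ D₀, m.leadingCoeff (g d) ∣ c ^ K := fun d hd =>
    (hkk d hd).trans (pow_dvd_pow c (Finset.single_le_sum (fun _ _ => Nat.zero_le _) hd))
  refine ⟨c, D₀.image g, {t | ∀ d ∈ D₀, ¬ d ≤ t}, hg₀c, hc0, ?_, ?_, ?_⟩
  · intro p hp
    simp only [Finset.coe_image, Set.mem_image, Finset.mem_coe] at hp
    obtain ⟨d, hd, rfl⟩ := hp
    exact hgI d hd
  · -- standard elements of `I` are `c`-power torsion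
    suffices H : ∀ (n : ℕ) (q : MvPolynomial σ R), q.support.card = n → q ∈ I →
        (∀ t ∈ q.support, t ∈ {t | ∀ d ∈ D₀, ¬ d ≤ t}) → ∃ k : ℕ, C c ^ k * q = 0 from
      fun q hqI hq => H _ q rfl hqI hq
    intro n
    induction n using Nat.strong_induction_on with
    | _ n ih =>
      intro q hn hqI hq
      by_cases hq0 : q = 0
      · exact ⟨0, by simp [hq0]⟩
      have hcq : c * m.leadingCoeff q = 0 := by
        by_contra hne
        obtain ⟨d, hd, hle⟩ := hclaim q hqI hq0 hne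
        obtain ⟨d₀, hd₀, hle₀⟩ := hdick d hd
        exact hq _ (m.degree_mem_support hq0) d₀ hd₀ (hle₀.trans hle)
      have hsub : (C c * q).support ⊆ q.support.erase (m.degree q) := by
        intro t ht
        rw [mem_support_iff, coeff_C_mul] at ht
        rw [Finset.mem_erase, mem_support_iff]
        refine ⟨?_, fun h => ht (by rw [h, mul_zero])⟩
        rintro rfl
        exact ht hcq
      have hcard : (C c * q).support.card < n := by
        rw [← hn]
        exact lt_of_le_of_lt (Finset.card_le_card hsub)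
          (Finset.card_erase_lt_of_mem (m.degree_mem_support hq0))
      obtain ⟨k, hk⟩ := ih _ hcard (C c * q) rfl (I.mul_mem_left _ hqI)
        (fun t ht => hq t (Finset.mem_of_mem_erase (hsub ht)))
      exact ⟨k + 1, by rw [pow_succ, mul_assoc]; exact hk⟩
  · intro f
    obtain ⟨k, h, hh, r, heq, hr⟩ := pseudoDiv (m := m) (fun d : D₀ => g d)
      (c ^ K) (fun d => hdvd d d.2) f
    refine ⟨K * k, h, ?_, r, ?_, ?_⟩
    · refine Ideal.span_mono ?_ hh
      rintro _ ⟨d, rfl⟩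
      simp only [Finset.coe_image, Set.mem_image, Finset.mem_coe]
      exact ⟨d, d.2, rfl⟩
    · rw [← heq, map_pow, pow_mul]
    · intro t ht d hd
      have := hr t ht ⟨d, hd⟩
      rwa [hgd d hd] at this

end GenFreeH8
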