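import Mathlib
import Groth.Agent.Lib.GenFreeG_helper8

/-! Generic freeness over arbitrary rings, part 2: the predicate "free after inverting `c`" in the
form: there is a free module mapping to `M` with `c`-power torsion kernel and cokernel. -/

universe u

namespace GenFreeH8

variable (R : Type u) [CommRing R] (M : Type*) [AddCommGroup M] [Module R M]

/-- `M` becomes free over `R` after inverting `c`: there is a map from a free module to `M` whose
kernel and cokernel are `c`-power torsion. -/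
def GFR (c : R) : Prop :=
  ∃ (L : Type u) (_ : AddCommGroup L) (_ : Module R L) (_ : Module.Free R L) (φ : L →ₗ[R] M),
    (∀ l : L, φ l = 0 → ∃ k : ℕ, c ^ k • l = 0) ∧
    (∀ x : M, ∃ k : ℕ, c ^ k • x ∈ LinearMap.range φ)

variable {R M}

theorem GFR.mono {c : R} (h : GFR R M c) (b : R) : GFR R M (c * b) := by
  obtain ⟨L, _, _, _, φ, hk, hc⟩ := h
  refine ⟨L, _, _, inferInstance, φ, ?_, ?_⟩
  · intro l hl
    obtain ⟨k, hk'⟩ := hk l hl
    exact ⟨k, by rw [mul_pow, mul_comm, mul_smul, hk', smul_zero]⟩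
  · intro x
    obtain ⟨k, hk'⟩ := hc x
    exact ⟨k, by rw [mul_pow, mul_comm, mul_smul]; exact Submodule.smul_mem _ _ hk'⟩

theorem GFR.of_dvd {c c' : R} (h : GFR R M c) (hcc' : c ∣ c') : GFR R M c' := by
  obtain ⟨b, rfl⟩ := hcc'
  exact h.mono b

theorem GFR.of_equiv {M' : Type*} [AddCommGroup M'] [Module R M'] {c : R} (h : GFR R M c)
    (e : M ≃ₗ[R] M') : GFR R M' c := by
  obtain ⟨L, _, _, _, φ, hk, hc⟩ := h
  refine ⟨L, _, _, inferInstance, e.toLinearMap ∘ₗ φ, ?_, ?_⟩
  · intro l hl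
    exact hk l (by simpa using hl)
  · intro y
    obtain ⟨k, z, hz⟩ := hc (e.symm y)
    refine ⟨k, z, ?_⟩
    rw [LinearMap.comp_apply, hz, LinearEquiv.coe_coe, map_smul, e.apply_symm_apply]

theorem GFR.of_exact {M₁ M₃ : Type*} [AddCommGroup M₁] [Module R M₁] [AddCommGroup M₃]
    [Module R M₃] {c : R} (f : M₁ →ₗ[R] M) (g : M →ₗ[R] M₃) (hf : Function.Injective f)
    (hg : Function.Surjective g) (hfg : Function.Exact f g) (h₁ : GFR R M₁ c) (h₃ : GFR R M₃ c) :
    GFR R M c := by
  obtain ⟨L₁, _, _, _, φ₁, hk₁, hc₁⟩ := h₁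
  obtain ⟨L₃, _, _, _, φ₃, hk₃, hc₃⟩ := h₃
  obtain ⟨ψ₃, hψ₃⟩ := Module.projective_lifting_property g φ₃ hg
  have hψ₃' : ∀ l, g (ψ₃ l) = φ₃ l := fun l => LinearMap.congr_fun hψ₃ l
  refine ⟨L₁ × L₃, _, _, inferInstance, (f ∘ₗ φ₁).coprod ψ₃, ?_, ?_⟩
  · rintro ⟨l₁, l₃⟩ hl
    have h0 : f (φ₁ l₁) + ψ₃ l₃ = 0 := by simpa using hl
    have h1 : φ₃ l₃ = 0 := by
      have := congrArg g h0
      rwa [map_add, hfg.apply_apply_eq_zero, zero_add, map_zero, hψ₃'] at this
    obtain ⟨k₃, hk₃'⟩ := hk₃ l₃ h1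
    have h2 : φ₁ (c ^ k₃ • l₁) = 0 := by
      apply hf
      have := congrArg (fun z => c ^ k₃ • z) h0
      simp only [smul_add, smul_zero] at this
      rw [← map_smul ψ₃, hk₃', map_zero, add_zero] at this
      rw [map_smul, map_smul, this, map_zero]
    obtain ⟨k₁, hk₁'⟩ := hk₁ _ h2
    refine ⟨k₁ + k₃, ?_⟩
    rw [Prod.smul_mk, pow_add, mul_smul, hk₁', mul_smul, hk₃', smul_zero]
    rfl
  · intro x
    obtain ⟨k₃, l₃, hl₃⟩ := hc₃ (g x)
    have hker : g (c ^ k₃ • x - ψ₃ l₃) = 0 := by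
      rw [map_sub, map_smul, hψ₃', hl₃, sub_self]
    obtain ⟨z, hz⟩ := (hfg _).mp hker
    obtain ⟨k₁, l₁, hl₁⟩ := hc₁ z
    refine ⟨k₁ + k₃, (l₁, c ^ k₁ • l₃), ?_⟩
    rw [LinearMap.coprod_apply, LinearMap.comp_apply, hl₁, map_smul, map_smul, hz, smul_sub,
      sub_add_cancel, smul_smul, ← pow_add]

/-- The localized statement: a module which is `GFR` at `c` has free localization at `c`. -/
theorem GFR.free {c : R} (h : GFR R M c) {A M' : Type*} [CommRing A] [Algebra R A]
    [IsLocalization.Away c A] [AddCommGroup M'] [Module R M'] [Module A M'] [IsScalarTower R A M']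
    (g : M →ₗ[R] M') [IsLocalizedModule (Submonoid.powers c) g] : Module.Free A M' := by
  obtain ⟨L, _, _, _, φ, hk, hc⟩ := h
  haveI : IsLocalizedModule (Submonoid.powers c) (g ∘ₗ φ) := by
    apply isLocalizedModule_comp
    · intro l hl
      obtain ⟨k, hk'⟩ := hk l hl
      exact ⟨⟨c ^ k, k, rfl⟩, hk'⟩
    · intro x
      obtain ⟨k, hk'⟩ := hc x
      exact ⟨⟨c ^ k, k, rfl⟩, hk'⟩
  exact Module.free_of_isLocalizedModule (Submonoid.powers c) (g ∘ₗ φ)

theorem GFR.flat {c : R} (h : GFR R M c) {M' : Type*} [AddCommGroup M'] [Module R M']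
    (g : M →ₗ[R] M') [IsLocalizedModule (Submonoid.powers c) g] : Module.Flat R M' := by
  haveI : Module.Free (Localization.Away c) (LocalizedModule (Submonoid.powers c) M) :=
    h.free (LocalizedModule.mkLinearMap (Submonoid.powers c) M)
  haveI : Module.Flat R (Localization.Away c) := IsLocalization.flat _ (Submonoid.powers c)
  haveI : Module.Flat R (LocalizedModule (Submonoid.powers c) M) :=
    Module.Flat.trans R (Localization.Away c) _
  exact Module.Flat.of_linearEquiv (IsLocalizedModule.iso (Submonoid.powers c) g).symm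

theorem GFR.flat_of_isLocalizedModule {B : Type*} [CommRing B] [Algebra R B]
    [Module B M] [IsScalarTower R B M] {c : R}
    (h : GFR R M c) (T : Submonoid B) (hcT : algebraMap R B c ∈ T)
    {M' : Type*} [AddCommGroup M'] [Module R M'] [Module B M'] [IsScalarTower R B M']
    (γ : M →ₗ[B] M') [IsLocalizedModule T γ] : Module.Flat R M' := by
  set c' : B := algebraMap R B c with hc'
  let N := LocalizedModule (Submonoid.powers c') M
  let ι : M →ₗ[B] N := LocalizedModule.mkLinearMap (Submonoid.powers c') M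
  haveI : IsLocalizedModule (Submonoid.powers (algebraMap R B c)) ι :=
    inferInstanceAs (IsLocalizedModule (Submonoid.powers c')
      (LocalizedModule.mkLinearMap (Submonoid.powers c') M))
  haveI : IsLocalizedModule (Submonoid.powers c) (ι.restrictScalars R) :=
    IsLocalizedModule.restrictScalars_powers c ι
  haveI : Module.Flat R N := h.flat (ι.restrictScalars R)
  have hle : Submonoid.powers c' ≤ T := by
    rw [Submonoid.powers_le]; exact hcT
  exact flat_of_isLocalizedModule_algebra T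
    (IsLocalizedModule.liftOfLE (Submonoid.powers c') T hle ι γ)

end GenFreeH8
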