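import Mathlib
import Groth.Agent.Lib.GenFreeR1_helper8
import Groth.Agent.Lib.GenFreeR2_helper8
import Groth.Agent.Lib.GenFreeE_helper8

/-! Generic freeness over arbitrary rings, part 3: the main theorem in elementary form. -/

open MvPolynomial

universe u v

namespace GenFreeH8

theorem FPZ.of_sq {S : Type*} [CommRing S] {M : Type*} [AddCommGroup M] [Module S M] {c : S}
    (h : FPZ S M (c * c)) : FPZ S M c := by
  intro c' t π hπ
  have h1 := h c' t π (by
    intro x
    obtain ⟨k, hk⟩ := hπ x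
    refine ⟨k, ?_⟩
    rw [show c * c * c' = c * (c * c') by ring, mul_pow, mul_smul]
    exact Submodule.smul_mem _ _ hk)
  obtain ⟨G, hG, hsp⟩ := h1
  refine ⟨G, hG, fun x hx => ?_⟩
  obtain ⟨k, hk⟩ := hsp x hx
  refine ⟨2 * k, ?_⟩
  have : (c * c') ^ (2 * k) = c' ^ k * (c * c * c') ^ k := by
    rw [pow_mul, ← mul_pow]; congr 1; ring
  rw [this, mul_smul]
  exact Submodule.smul_mem _ _ hk

section Cyclic

variable {σ : Type} [Finite σ] {R : Type u} [CommRing R]
  {M : Type*} [AddCommGroup M] [Module R M]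

theorem cyclic_main' (m : MonomialOrder σ) (θ : MvPolynomial σ R →ₗ[R] M)
    (hθ : Function.Surjective θ) (I : Ideal (MvPolynomial σ R)) (hI : ∀ f, θ f = 0 ↔ f ∈ I)
    (g₀ : R) (hg₀ : g₀ ≠ 0) :
    ∃ (c : R) (G : Finset (MvPolynomial σ R)), g₀ ∣ c ∧ c ≠ 0 ∧
      (↑G : Set (MvPolynomial σ R)) ⊆ I ∧ GFR R M c ∧
      ∀ f ∈ I, ∃ k : ℕ, C c ^ k * f ∈ Ideal.span (↑G : Set (MvPolynomial σ R)) := by
  classical
  obtain ⟨c, G, Std, hgc, hc0, hGI, hli, hsp⟩ := cyclic_elementary' m I g₀ hg₀
  have hspanI : Ideal.span (↑G : Set (MvPolynomial σ R)) ≤ I := Ideal.span_le.mpr hGI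
  refine ⟨c, G, hgc, hc0, hGI, ?_, ?_⟩
  · set v : Std → M := fun t => θ (monomial (t : σ →₀ ℕ) 1) with hv
    refine ⟨Std →₀ R, inferInstance, inferInstance, inferInstance,
      Finsupp.linearCombination R v, ?_, ?_⟩
    · intro l hl
      set q : MvPolynomial σ R := l.sum fun t r => monomial (t : σ →₀ ℕ) r with hq
      have hθq : θ q = 0 := by
        rw [hq, map_finsuppSum, ← hl, Finsupp.linearCombination_apply]
        refine Finsupp.sum_congr fun t _ => ?_
        rw [hv, ← map_smul, smul_monomial, smul_eq_mul, mul_one]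
      have hcoeff : ∀ t : Std, coeff (t : σ →₀ ℕ) q = l t := by
        intro t
        rw [hq, Finsupp.sum, coeff_sum, Finset.sum_eq_single t]
        · rw [coeff_monomial, if_pos rfl]
        · intro j _ hjt
          rw [coeff_monomial, if_neg]
          exact fun h => hjt (Subtype.ext h)
        · intro ht
          rw [Finsupp.notMem_support_iff.mp ht, coeff_monomial, if_pos rfl]
      have hsupp : ∀ t ∈ q.support, t ∈ Std := by
        intro t ht
        rw [mem_support_iff, hq, Finsupp.sum, coeff_sum] at ht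
        obtain ⟨j, _, hj⟩ := Finset.exists_ne_zero_of_sum_ne_zero ht
        rw [coeff_monomial] at hj
        have : (j : σ →₀ ℕ) = t := by
          by_contra h
          exact hj (if_neg h)
        rw [← this]; exact j.2
      obtain ⟨k, hk⟩ := hli q ((hI q).mp hθq) hsupp
      refine ⟨k, ?_⟩
      ext t
      have := congrArg (coeff (t : σ →₀ ℕ)) hk
      rw [← map_pow, coeff_C_mul, hcoeff, coeff_zero] at this
      simpa using this
    · intro x
      obtain ⟨f, rfl⟩ := hθ x
      obtain ⟨k, h, hh, r, heq, hr⟩ := hsp f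
      refine ⟨k, ?_⟩
      have h1 : c ^ k • θ f = θ r := by
        rw [← map_smul, smul_eq_C_mul, map_pow, heq, map_add, (hI h).mpr (hspanI hh), zero_add]
      rw [h1, Finsupp.range_linearCombination, r.as_sum, map_sum]
      refine Submodule.sum_mem _ fun t ht => ?_
      have h2 : θ (monomial t (coeff t r)) = coeff t r • θ (monomial t 1) := by
        rw [← map_smul, smul_monomial, smul_eq_mul, mul_one]
      rw [h2]
      exact Submodule.smul_mem _ _ (Submodule.subset_span ⟨⟨t, hr t ht⟩, rfl⟩)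
  · intro f hf
    obtain ⟨k, h, hh, r, heq, hr⟩ := hsp f
    have hrI : r ∈ I := by
      have : r = C c ^ k * f - h := by rw [heq]; ring
      rw [this]
      exact I.sub_mem (I.mul_mem_left _ hf) (hspanI hh)
    obtain ⟨j, hj⟩ := hli r hrI hr
    refine ⟨j + k, ?_⟩
    rw [pow_add, mul_assoc, heq, mul_add, hj, add_zero]
    exact Ideal.mul_mem_left _ _ hh

end Cyclic

section Main

variable {R : Type u} [CommRing R] {S : Type*} [CommRing S] [Algebra R S]
  [Algebra.FiniteType R S]

theorem main_cyclic' {M : Type*} [AddCommGroup M] [Module S M] [Module R M] [IsScalarTower R S M]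
    (x : M) (hx : ∀ y : M, ∃ s : S, y = s • x) (g₀ : R) (hg₀ : g₀ ≠ 0) :
    ∃ c : R, g₀ ∣ c ∧ c ≠ 0 ∧ GFR R M c ∧ FPZ S M (algebraMap R S c) := by
  classical
  obtain ⟨n, ρ, hρ⟩ := Algebra.FiniteType.iff_quotient_mvPolynomial''.mp
    (inferInstance : Algebra.FiniteType R S)
  set θ : MvPolynomial (Fin n) R →ₗ[R] M :=
    ((LinearMap.toSpanSingleton S M x).restrictScalars R) ∘ₗ ρ.toLinearMap with hθ
  have hθapp : ∀ f, θ f = ρ f • x := fun f => rfl
  set J : Ideal S := LinearMap.ker (LinearMap.toSpanSingleton S M x) with hJ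
  have hJmem : ∀ j : S, j ∈ J ↔ j • x = 0 := by
    intro j
    rw [hJ, LinearMap.mem_ker, LinearMap.toSpanSingleton_apply]
  obtain ⟨c, G, hgc, hc0, hGI, hgfr, hfg⟩ := cyclic_main' (MonomialOrder.lex (σ := Fin n)) θ
    (by
      intro y
      obtain ⟨s, rfl⟩ := hx y
      obtain ⟨f, rfl⟩ := hρ s
      exact ⟨f, rfl⟩)
    (Ideal.comap ρ J) (by
      intro f
      rw [Ideal.mem_comap, hJmem, hθapp]) g₀ hg₀
  refine ⟨c, hgc, hc0, hgfr, ?_⟩
  refine FPZ.cyclic x hx (G.image ρ) ?_ ?_
  · intro g hg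
    simp only [Finset.mem_image] at hg
    obtain ⟨g, hg, rfl⟩ := hg
    have := hGI hg
    rwa [SetLike.mem_coe, Ideal.mem_comap, hJmem] at this
  · intro j hj
    obtain ⟨f, rfl⟩ := hρ j
    obtain ⟨k, hk⟩ := hfg f (by rw [Ideal.mem_comap, hJmem]; exact hj)
    refine ⟨k, ?_⟩
    have h1 : ρ (C c ^ k * f) ∈ Ideal.map ρ (Ideal.span (↑G : Set (MvPolynomial (Fin n) R))) :=
      Ideal.mem_map_of_mem _ hk
    rw [Ideal.map_span, map_mul, map_pow] at h1
    have h2 : ρ (C c) = algebraMap R S c := by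
      rw [← MvPolynomial.algebraMap_eq, AlgHom.commutes]
    rw [h2] at h1
    simpa using h1

theorem main_aux' (n : ℕ) : ∀ (M : Type v) [AddCommGroup M] [Module S M] [Module R M]
    [IsScalarTower R S M] (x : Fin n → M), Submodule.span S (Set.range x) = ⊤ →
    ∀ g₀ : R, g₀ ≠ 0 → ∃ c : R, g₀ ∣ c ∧ c ≠ 0 ∧ GFR R M c ∧ FPZ S M (algebraMap R S c) := by
  induction n with
  | zero =>
    intro M _ _ _ _ x hx g₀ hg₀
    haveI : Subsingleton M := by
      rw [← Submodule.subsingleton_iff S, ← subsingleton_iff_bot_eq_top, ← hx]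
      simp
    exact main_cyclic' (0 : M) (fun y => ⟨0, Subsingleton.elim _ _⟩) g₀ hg₀
  | succ n ih =>
    intro M _ _ _ _ x hx g₀ hg₀
    set M₁ : Submodule S M := Submodule.span S {x 0} with hM₁
    obtain ⟨c₁, hgc₁, hc₁, hg₁, hp₁⟩ := main_cyclic' (R := R) (S := S) (M := M₁)
      ⟨x 0, Submodule.mem_span_singleton_self _⟩ (by
        rintro ⟨y, hy⟩
        obtain ⟨s, rfl⟩ := Submodule.mem_span_singleton.mp hy
        exact ⟨s, rfl⟩) g₀ hg₀
    obtain ⟨c₃, hcc₃, hc₃, hg₃, hp₃⟩ := ih (M ⧸ M₁) (fun i => M₁.mkQ (x i.succ)) (by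
      have h1 : Submodule.map M₁.mkQ (Submodule.span S (Set.range x)) = ⊤ := by
        rw [hx, Submodule.map_top, Submodule.range_mkQ]
      rw [Submodule.map_span] at h1
      rw [← h1, ← Submodule.span_insert_zero]
      apply le_antisymm
      · apply Submodule.span_mono
        rintro y (rfl | ⟨i, rfl⟩)
        · exact ⟨x 0, ⟨0, rfl⟩, by
            rw [Submodule.mkQ_apply, Submodule.Quotient.mk_eq_zero]
            exact Submodule.mem_span_singleton_self _⟩
        · exact ⟨x i.succ, ⟨_, rfl⟩, rfl⟩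
      · apply Submodule.span_mono
        rintro _ ⟨_, ⟨i, rfl⟩, rfl⟩
        refine Fin.cases ?_ (fun j => ?_) i
        · left
          rw [Submodule.mkQ_apply, Submodule.Quotient.mk_eq_zero]
          exact Submodule.mem_span_singleton_self _
        · right; exact ⟨j, rfl⟩) c₁ hc₁
    refine ⟨c₃, hgc₁.trans hcc₃, hc₃, ?_, ?_⟩
    · exact GFR.of_exact (M₁.subtype.restrictScalars R) (M₁.mkQ.restrictScalars R)
        M₁.injective_subtype M₁.mkQ_surjective (LinearMap.exact_subtype_mkQ M₁)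
        (hg₁.of_dvd hcc₃) hg₃
    · apply FPZ.of_sq
      obtain ⟨b, hb⟩ := hcc₃
      have hp₁' : FPZ S M₁ (algebraMap R S c₃) := by
        rw [hb, map_mul]; exact hp₁.mono _
      exact FPZ.of_exact M₁.subtype M₁.mkQ M₁.injective_subtype M₁.mkQ_surjective
        (LinearMap.exact_subtype_mkQ M₁) hp₁' hp₃

/-- **Generic freeness** over an arbitrary ring, elementary form: for a finite module `M` over a
finite type `R`-algebra `S` and any nonzero `g₀ ∈ R` there is a nonzero multiple `c` of `g₀` such that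
`M` is free over `R` and finitely presented over `S` after inverting `c`. -/
theorem main' (M : Type*) [AddCommGroup M] [Module S M] [Module R M]
    [IsScalarTower R S M] [Module.Finite S M] (g₀ : R) (hg₀ : g₀ ≠ 0) :
    ∃ c : R, g₀ ∣ c ∧ c ≠ 0 ∧ GFR R M c ∧ FPZ S M (algebraMap R S c) := by
  obtain ⟨n, x, hx⟩ := Module.Finite.exists_fin (R := S) (M := M)
  exact main_aux' n M x hx g₀ hg₀

end Main

end GenFreeH8
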