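import Mathlib
import Groth.Agent.Lib.GenFreeR3_helper8

/-! Generic freeness over arbitrary rings, part 4: finite presentation of the algebra after
inverting an element, and the final assembled statement. -/

open MvPolynomial

universe u

namespace GenFreeH8

section AwayFP

variable {R Q S : Type u} [CommRing R] [CommRing Q] [CommRing S]

theorem awayMap_comp_finitePresentation (f : R →+* Q) (g : Q →+* S) (c : R)
    (hf : f.FinitePresentation) (hg : Function.Surjective g)
    (hker : ∀ a, g a = 0 → ∃ n : ℕ, (f c) ^ n * a = 0) :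
    (Localization.awayMap (g.comp f) c).FinitePresentation := by
  have h1 : (Localization.awayMap f c).FinitePresentation :=
    RingHom.finitePresentation_localizationPreserves.away f c _ _ hf
  have h2 : Function.Bijective (Localization.awayMap g (f c)) := by
    refine ⟨Localization.awayMap_injective_iff.mpr hker, Localization.awayMap_surjective_iff.mpr ?_⟩
    intro a
    obtain ⟨b, rfl⟩ := hg a
    exact ⟨b, 0, by simp⟩
  have h3 : Localization.awayMap (g.comp f) c
      = (Localization.awayMap g (f c)).comp (Localization.awayMap f c) := by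
    apply IsLocalization.ringHom_ext (Submonoid.powers c)
    ext x
    simp [Localization.awayMap, IsLocalization.Away.map]
  rw [h3]
  exact (RingHom.FinitePresentation.of_bijective h2).comp h1

end AwayFP

section

variable {R : Type u} [CommRing R] {S : Type u} [CommRing S] [Algebra R S]
  [Algebra.FiniteType R S]

theorem exists_awayMap_finitePresentation (g₀ : R) (hg₀ : g₀ ≠ 0) :
    ∃ c : R, g₀ ∣ c ∧ c ≠ 0 ∧ (Localization.awayMap (algebraMap R S) c).FinitePresentation := by
  classical
  obtain ⟨n, ρ, hρ⟩ := Algebra.FiniteType.iff_quotient_mvPolynomial''.mp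
    (inferInstance : Algebra.FiniteType R S)
  obtain ⟨c, G, hgc, hc0, hGI, -, hfg⟩ := cyclic_main' (MonomialOrder.lex (σ := Fin n))
    ρ.toLinearMap hρ (RingHom.ker ρ) (fun f => by simp [RingHom.mem_ker]) g₀ hg₀
  refine ⟨c, hgc, hc0, ?_⟩
  set I₀ : Ideal (MvPolynomial (Fin n) R) := Ideal.span (↑G : Set (MvPolynomial (Fin n) R)) with hI₀
  have hI₀le : ∀ f ∈ I₀, ρ f = 0 := by
    intro f hf
    have : I₀ ≤ RingHom.ker ρ := Ideal.span_le.mpr hGI
    exact this hf
  haveI : Algebra.FinitePresentation R (MvPolynomial (Fin n) R ⧸ I₀) :=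
    Algebra.FinitePresentation.quotient ⟨G, rfl⟩
  set ψ : (MvPolynomial (Fin n) R ⧸ I₀) →ₐ[R] S := Ideal.Quotient.liftₐ I₀ ρ hI₀le with hψ
  have hcomp : algebraMap R S
      = (ψ : (MvPolynomial (Fin n) R ⧸ I₀) →+* S).comp
        (algebraMap R (MvPolynomial (Fin n) R ⧸ I₀)) := ψ.comp_algebraMap.symm
  rw [hcomp]
  apply awayMap_comp_finitePresentation
  · exact RingHom.finitePresentation_algebraMap.mpr inferInstance
  · intro x
    obtain ⟨f, rfl⟩ := hρ x
    exact ⟨Ideal.Quotient.mk I₀ f, by simp [hψ]⟩
  · intro z hz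
    obtain ⟨f, rfl⟩ := Ideal.Quotient.mk_surjective z
    have hf : ρ f = 0 := by simpa [hψ] using hz
    obtain ⟨k, hk⟩ := hfg f hf
    refine ⟨k, ?_⟩
    have : algebraMap R (MvPolynomial (Fin n) R ⧸ I₀) c = Ideal.Quotient.mk I₀ (C c) := rfl
    rw [this, ← map_pow, ← map_mul, Ideal.Quotient.eq_zero_iff_mem]
    exact hk

/-- **Generic freeness** over an arbitrary ring, localized form at a single element. -/
theorem generic_freeness' (M : Type u) [AddCommGroup M] [Module S M] [Module R M]
    [IsScalarTower R S M] [Module.Finite S M] (g₀ : R) (hg₀ : g₀ ≠ 0) :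
    ∃ f : R, g₀ ∣ f ∧ f ≠ 0 ∧
      Module.Free (Localization.Away f) (LocalizedModule (Submonoid.powers f) M) ∧
      Module.Free (Localization.Away f) (LocalizedModule (Submonoid.powers f) S) ∧
      (Localization.awayMap (algebraMap R S) f).FinitePresentation ∧
      Module.FinitePresentation (Localization.Away (algebraMap R S f))
        (LocalizedModule (Submonoid.powers (algebraMap R S f)) M) := by
  obtain ⟨c₁, h01, hc₁, hg₁, hp₁⟩ := main' (R := R) (S := S) M g₀ hg₀
  obtain ⟨c₂, h12, hc₂, hg₂, -⟩ := main' (R := R) (S := S) S c₁ hc₁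
  obtain ⟨c₃, h23, hc₃, h₃⟩ := exists_awayMap_finitePresentation (R := R) (S := S) c₂ hc₂
  refine ⟨c₃, h01.trans (h12.trans h23), hc₃, ?_, ?_, h₃, ?_⟩
  · exact (hg₁.of_dvd (h12.trans h23)).free (LocalizedModule.mkLinearMap (Submonoid.powers c₃) M)
  · exact (hg₂.of_dvd h23).free (LocalizedModule.mkLinearMap (Submonoid.powers c₃) S)
  · obtain ⟨b, hb⟩ := h12.trans h23
    have h := hp₁.mono (algebraMap R S b)
    rw [← map_mul, ← hb] at h
    exact h.finitePresentation (LocalizedModule.mkLinearMap _ M)

end

end GenFreeH8
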