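import Mathlib
import Groth.Agent.Lib.GenFreeR4_helper8

/-! Generic freeness over arbitrary rings, part 5: ring-hom form, stable under multiples, for use
with schemes. -/

open MvPolynomial

universe u

namespace GenFreeH8

section AFZ

/-- The `R`-algebra `S` is finitely presented after inverting `c`, elementary form. -/
def AFZ (R S : Type u) [CommRing R] [CommRing S] [Algebra R S] (c : R) : Prop :=
  ∃ (n : ℕ) (ρ : MvPolynomial (Fin n) R →ₐ[R] S) (G : Finset (MvPolynomial (Fin n) R)),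
    Function.Surjective ρ ∧ (∀ g ∈ G, ρ g = 0) ∧
    ∀ f, ρ f = 0 → ∃ k : ℕ, C c ^ k * f ∈ Ideal.span (↑G : Set (MvPolynomial (Fin n) R))

variable {R S : Type u} [CommRing R] [CommRing S] [Algebra R S]

theorem AFZ.of_dvd {c c' : R} (h : AFZ R S c) (hcc' : c ∣ c') : AFZ R S c' := by
  obtain ⟨n, ρ, G, hρ, hG, hfg⟩ := h
  refine ⟨n, ρ, G, hρ, hG, fun f hf => ?_⟩
  obtain ⟨k, hk⟩ := hfg f hf
  obtain ⟨b, rfl⟩ := hcc'
  refine ⟨k, ?_⟩
  rw [map_mul, mul_pow, mul_comm (C c ^ k), mul_assoc]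
  exact Ideal.mul_mem_left _ _ hk

theorem exists_afz [Algebra.FiniteType R S] (g₀ : R) (hg₀ : g₀ ≠ 0) :
    ∃ c : R, g₀ ∣ c ∧ c ≠ 0 ∧ AFZ R S c := by
  classical
  obtain ⟨n, ρ, hρ⟩ := Algebra.FiniteType.iff_quotient_mvPolynomial''.mp
    (inferInstance : Algebra.FiniteType R S)
  obtain ⟨c, G, hgc, hc0, hGI, -, hfg⟩ := cyclic_main' (MonomialOrder.lex (σ := Fin n))
    ρ.toLinearMap hρ (RingHom.ker ρ) (fun f => by simp [RingHom.mem_ker]) g₀ hg₀
  refine ⟨c, hgc, hc0, n, ρ, G, hρ, fun g hg => hGI hg, fun f hf => hfg f hf⟩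

theorem AFZ.awayMap_finitePresentation {c : R} (h : AFZ R S c) :
    (Localization.awayMap (algebraMap R S) c).FinitePresentation := by
  classical
  obtain ⟨n, ρ, G, hρ, hG, hfg⟩ := h
  set I₀ : Ideal (MvPolynomial (Fin n) R) := Ideal.span (↑G : Set (MvPolynomial (Fin n) R)) with hI₀
  have hI₀le : ∀ f ∈ I₀, ρ f = 0 := by
    intro f hf
    have : I₀ ≤ RingHom.ker ρ := Ideal.span_le.mpr fun g hg => hG g hg
    exact this hf
  haveI : Algebra.FinitePresentation R (MvPolynomial (Fin n) R ⧸ I₀) :=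
    Algebra.FinitePresentation.quotient ⟨G, rfl⟩
  set ψ : (MvPolynomial (Fin n) R ⧸ I₀) →ₐ[R] S := Ideal.Quotient.liftₐ I₀ ρ hI₀le with hψ
  have hcomp : algebraMap R S
      = (ψ : (MvPolynomial (Fin n) R ⧸ I₀) →+* S).comp
        (algebraMap R (MvPolynomial (Fin n) R ⧸ I₀)) := ψ.comp_algebraMap.symm
  rw [hcomp]
  apply awayMap_comp_finitePresentation
  · exact RingHom.finitePresentation_algebraMap.mpr inferInstance
  · intro x
    obtain ⟨f, rfl⟩ := hρ x
    exact ⟨Ideal.Quotient.mk I₀ f, by simp [hψ]⟩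
  · intro z hz
    obtain ⟨f, rfl⟩ := Ideal.Quotient.mk_surjective z
    have hf : ρ f = 0 := by simpa [hψ] using hz
    obtain ⟨k, hk⟩ := hfg f hf
    refine ⟨k, ?_⟩
    have : algebraMap R (MvPolynomial (Fin n) R ⧸ I₀) c = Ideal.Quotient.mk I₀ (C c) := rfl
    rw [this, ← map_pow, ← map_mul, Ideal.Quotient.eq_zero_iff_mem]
    exact hk

theorem GFR.awayMap_flat {c : R} (h : GFR R S c) :
    (Localization.awayMap (algebraMap R S) c).Flat := by
  let c' : S := algebraMap R S c
  letI : Algebra (Localization.Away c) (Localization.Away c') :=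
    (Localization.awayMap (algebraMap R S) c).toAlgebra
  haveI : IsScalarTower R (Localization.Away c) (Localization.Away c') := by
    refine IsScalarTower.of_algebraMap_eq fun r => ?_
    rw [RingHom.algebraMap_toAlgebra, IsScalarTower.algebraMap_apply R S (Localization.Away c')]
    simp [Localization.awayMap, IsLocalization.Away.map, c']
  haveI : IsLocalization (Algebra.algebraMapSubmonoid S (Submonoid.powers c))
      (Localization.Away c') := by
    have : Algebra.algebraMapSubmonoid S (Submonoid.powers c) = Submonoid.powers c' := by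
      rw [Algebra.algebraMapSubmonoid, Submonoid.map_powers]
    rw [this]
    infer_instance
  haveI : IsLocalizedModule (Submonoid.powers c)
      (IsScalarTower.toAlgHom R S (Localization.Away c')).toLinearMap :=
    isLocalizedModule_iff_isLocalization.mpr inferInstance
  haveI : Module.Free (Localization.Away c) (Localization.Away c') :=
    h.free (IsScalarTower.toAlgHom R S (Localization.Away c')).toLinearMap
  show Module.Flat (Localization.Away c) (Localization.Away c')
  infer_instance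

end AFZ

section Hom

variable {R A : Type u} [CommRing R] [CommRing A]

/-- The ring hom `φ` becomes free (as a module) and finitely presented after inverting `c`. -/
def GoodHom (φ : R →+* A) (c : R) : Prop :=
  letI := φ.toAlgebra
  GFR R A c ∧ AFZ R A c

theorem GoodHom.of_dvd {φ : R →+* A} {c c' : R} (h : GoodHom φ c) (hcc' : c ∣ c') :
    GoodHom φ c' := by
  letI := φ.toAlgebra
  exact ⟨h.1.of_dvd hcc', h.2.of_dvd hcc'⟩

theorem exists_goodHom {φ : R →+* A} (hφ : φ.FiniteType) (g₀ : R) (hg₀ : g₀ ≠ 0) :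
    ∃ c : R, g₀ ∣ c ∧ c ≠ 0 ∧ GoodHom φ c := by
  letI := φ.toAlgebra
  haveI : Algebra.FiniteType R A := hφ
  obtain ⟨c₁, h01, hc₁, hg₁, -⟩ := main' (R := R) (S := A) A g₀ hg₀
  obtain ⟨c₂, h12, hc₂, h₂⟩ := exists_afz (R := R) (S := A) c₁ hc₁
  exact ⟨c₂, h01.trans h12, hc₂, hg₁.of_dvd h12, h₂⟩

theorem GoodHom.awayMap {φ : R →+* A} {c : R} (h : GoodHom φ c) :
    (Localization.awayMap φ c).Flat ∧ (Localization.awayMap φ c).FinitePresentation := by
  letI := φ.toAlgebra
  exact ⟨h.1.awayMap_flat, h.2.awayMap_finitePresentation⟩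

/-- Transport to arbitrary models of the localizations. -/
theorem GoodHom.of_isLocalization {φ : R →+* A} {c : R} (h : GoodHom φ c)
    (R' A' : Type u) [CommRing R'] [CommRing A'] [Algebra R R'] [Algebra A A']
    [IsLocalization.Away c R'] [IsLocalization.Away (φ c) A'] (ψ : R' →+* A')
    (hψ : ψ.comp (algebraMap R R') = (algebraMap A A').comp φ) :
    ψ.Flat ∧ ψ.FinitePresentation := by
  have h1 : ψ = IsLocalization.Away.map R' A' φ c := by
    apply IsLocalization.ringHom_ext (Submonoid.powers c)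
    rw [hψ]
    ext x
    simp [IsLocalization.Away.map]
  rw [h1]
  exact ⟨(RingHom.Flat.respectsIso.isLocalization_away_iff R' A' φ c).mp h.awayMap.1,
    (RingHom.finitePresentation_respectsIso.isLocalization_away_iff R' A' φ c).mp h.awayMap.2⟩

end Hom

/-- A finite family of dense, upward closed predicates has a common witness. -/
theorem exists_common {R : Type*} [CommRing R] {ι : Type*} (t : Finset ι) (p : ι → R → Prop)
    (hdvd : ∀ i c c', p i c → c ∣ c' → p i c')
    (hex : ∀ i ∈ t, ∀ g₀ : R, g₀ ≠ 0 → ∃ c, g₀ ∣ c ∧ c ≠ 0 ∧ p i c) :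
    ∀ g₀ : R, g₀ ≠ 0 → ∃ c, g₀ ∣ c ∧ c ≠ 0 ∧ ∀ i ∈ t, p i c := by
  classical
  induction t using Finset.induction_on with
  | empty =>
    intro g₀ hg₀
    exact ⟨g₀, dvd_rfl, hg₀, by simp⟩
  | insert a s ha ih =>
    intro g₀ hg₀
    obtain ⟨c₁, h01, hc₁, h₁⟩ := ih (fun i hi => hex i (Finset.mem_insert_of_mem hi)) g₀ hg₀
    obtain ⟨c₂, h12, hc₂, h₂⟩ := hex a (Finset.mem_insert_self a s) c₁ hc₁
    refine ⟨c₂, h01.trans h12, hc₂, fun i hi => ?_⟩
    rcases Finset.mem_insert.mp hi with rfl | hi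
    · exact h₂
    · exact hdvd i c₁ c₂ (h₁ i hi) h12

end GenFreeH8
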