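import Mathlib
import Groth.Agent.Lib.GenFreeR5_helper8

/-! Generic flatness and finite presentation for schemes over a reduced base. -/

open AlgebraicGeometry CategoryTheory TopologicalSpace

universe u

namespace GenFlatSch2H8

variable {X S : Scheme.{u}} (f : X ⟶ S)

/-- A property of morphisms given by a ring hom property can be checked, for the restriction of `f`
over an open `U`, on affine charts of `f` lying over `U`. -/
theorem restrict_of_exists_appLE {P : MorphismProperty Scheme.{u}}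
    {Q : ∀ {R S : Type u} [CommRing R] [CommRing S], (R →+* S) → Prop} [HasRingHomProperty P Q]
    (hQ : RingHom.StableUnderCompositionWithLocalizationAwaySource Q) (U : S.Opens)
    (H : ∀ x : X, f x ∈ U → ∃ (V : S.affineOpens) (W : X.affineOpens), V.1 ≤ U ∧ x ∈ W.1 ∧
      ∃ e : W.1 ≤ f ⁻¹ᵁ V.1, Q (f.appLE V.1 W.1 e).hom) : P (f ∣_ U) := by
  rw [HasRingHomProperty.iff_exists_appLE (P := P) hQ]
  intro x
  obtain ⟨V, W, hVU, hxW, e, hQ'⟩ := H x.1 x.2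
  have hWU : W.1 ≤ f ⁻¹ᵁ U := e.trans (f.preimage_mono hVU)
  have hV' : IsAffineOpen (U.ι ⁻¹ᵁ V.1) :=
    V.2.preimage_of_isOpenImmersion U.ι (by rw [Scheme.Opens.opensRange_ι]; exact hVU)
  have hW' : IsAffineOpen ((f ⁻¹ᵁ U).ι ⁻¹ᵁ W.1) :=
    W.2.preimage_of_isOpenImmersion (f ⁻¹ᵁ U).ι (by rw [Scheme.Opens.opensRange_ι]; exact hWU)
  have e' : (f ⁻¹ᵁ U).ι ⁻¹ᵁ W.1 ≤ (f ∣_ U) ⁻¹ᵁ (U.ι ⁻¹ᵁ V.1) := by
    rw [← Scheme.Hom.comp_preimage, morphismRestrict_ι, Scheme.Hom.comp_preimage]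
    exact (f ⁻¹ᵁ U).ι.preimage_mono e
  refine ⟨⟨_, hV'⟩, ⟨_, hW'⟩, hxW, e', ?_⟩
  rw [morphismRestrict_appLE]
  have h1 : U.ι ''ᵁ (U.ι ⁻¹ᵁ V.1) = V.1 := by
    rw [Scheme.Hom.image_preimage_eq_opensRange_inf, Scheme.Opens.opensRange_ι,
      inf_eq_right.mpr hVU]
  have h2 : (f ⁻¹ᵁ U).ι ''ᵁ ((f ⁻¹ᵁ U).ι ⁻¹ᵁ W.1) = W.1 := by
    rw [Scheme.Hom.image_preimage_eq_opensRange_inf, Scheme.Opens.opensRange_ι,
      inf_eq_right.mpr hWU]
  exact (Scheme.Hom.appLE_congr f _ h1 h2 (fun φ => Q φ.hom)).mpr hQ'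

theorem exists_good_basicOpen [LocallyOfFiniteType f] [QuasiCompact f] {V : S.Opens}
    (hV : IsAffineOpen V) (g₀ : Γ(S, V)) (hg₀ : g₀ ≠ 0) :
    ∃ c : Γ(S, V), g₀ ∣ c ∧ c ≠ 0 ∧ ∀ x : X, f x ∈ S.basicOpen c →
      ∃ W : X.affineOpens, x ∈ W.1 ∧ ∃ e : W.1 ≤ f ⁻¹ᵁ (S.basicOpen c),
        (f.appLE (S.basicOpen c) W.1 e).hom.Flat ∧
        (f.appLE (S.basicOpen c) W.1 e).hom.FinitePresentation := by
  classical
  have hcpt : IsCompact (f ⁻¹ᵁ V : Set X) := f.isCompact_preimage hV.isCompact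
  let ι := {W : X.affineOpens // W.1 ≤ f ⁻¹ᵁ V}
  obtain ⟨t, ht⟩ := hcpt.elim_finite_subcover (fun i : ι => (i.1.1 : Set X))
    (fun i => i.1.1.isOpen) (by
      intro x hx
      obtain ⟨_, ⟨W, hW, rfl⟩, hxW, hsub⟩ :=
        X.isBasis_affineOpens.exists_subset_of_mem_open hx (f ⁻¹ᵁ V).isOpen
      exact Set.mem_iUnion.mpr ⟨⟨⟨W, hW⟩, hsub⟩, hxW⟩)
  obtain ⟨c, hgc, hc0, hc⟩ := GenFreeH8.exists_common t
    (fun (i : ι) (c : Γ(S, V)) => GenFreeH8.GoodHom (f.appLE V i.1.1 i.2).hom c)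
    (fun i c c' h hcc' => h.of_dvd hcc')
    (fun i _ g₀ hg₀ => GenFreeH8.exists_goodHom (f.finiteType_appLE hV i.1.2 i.2) g₀ hg₀) g₀ hg₀
  refine ⟨c, hgc, hc0, fun x hx => ?_⟩
  have hxV : x ∈ (f ⁻¹ᵁ V : Set X) := S.basicOpen_le c hx
  obtain ⟨i, hi⟩ := Set.mem_iUnion.mp (ht hxV)
  obtain ⟨hit, hxi⟩ := Set.mem_iUnion.mp hi
  have hgood := hc i hit
  have hbo : X.basicOpen ((f.appLE V i.1.1 i.2) c) = i.1.1 ⊓ f ⁻¹ᵁ (S.basicOpen c) :=
    Scheme.basicOpen_appLE f i.1.1 V i.2 c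
  refine ⟨⟨X.basicOpen ((f.appLE V i.1.1 i.2) c), i.1.2.basicOpen _⟩, ?_, ?_, ?_⟩
  · show x ∈ X.basicOpen ((f.appLE V i.1.1 i.2) c)
    rw [hbo]; exact ⟨hxi, hx⟩
  · show X.basicOpen ((f.appLE V i.1.1 i.2) c) ≤ _
    rw [hbo]; exact inf_le_right
  · rw [AlgebraicGeometry.IsAffineOpen.appLE_eq_away_map f hV i.1.2 i.2 c, CommRingCat.hom_ofHom]
    haveI := hV.isLocalization_basicOpen c
    haveI := i.1.2.isLocalization_basicOpen (f.appLE V i.1.1 i.2 c)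
    exact ⟨(RingHom.Flat.respectsIso.isLocalization_away_iff _ _ _ c).mp hgood.awayMap.1,
      (RingHom.finitePresentation_respectsIso.isLocalization_away_iff _ _ _ c).mp hgood.awayMap.2⟩


/-- **Generic flatness** over a reduced base: a finite type morphism is flat and locally of finite
presentation over a dense open of the base. -/
theorem generic_flat_fp [IsReduced S] [LocallyOfFiniteType f] [QuasiCompact f] :
    ∃ U : S.Opens, Dense (U : Set S) ∧ Flat (f ∣_ U) ∧ LocallyOfFinitePresentation (f ∣_ U) := by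
  classical
  let Good : (V : S.affineOpens) → Γ(S, V.1) → Prop := fun V c => ∀ x : X, f x ∈ S.basicOpen c →
      ∃ W : X.affineOpens, x ∈ W.1 ∧ ∃ e : W.1 ≤ f ⁻¹ᵁ (S.basicOpen c),
        (f.appLE (S.basicOpen c) W.1 e).hom.Flat ∧
        (f.appLE (S.basicOpen c) W.1 e).hom.FinitePresentation
  let U : S.Opens := ⨆ (p : {p : Σ V : S.affineOpens, Γ(S, V.1) // Good p.1 p.2}),
    S.basicOpen p.1.2
  have hmem : ∀ s ∈ U, ∃ (V : S.affineOpens) (c : Γ(S, V.1)), Good V c ∧ s ∈ S.basicOpen c := by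
    intro s hs
    obtain ⟨p, hp⟩ := Opens.mem_iSup.mp hs
    exact ⟨p.1.1, p.1.2, p.2, hp⟩
  have hle : ∀ (V : S.affineOpens) (c : Γ(S, V.1)), Good V c → S.basicOpen c ≤ U := by
    intro V c h
    exact le_iSup (fun p : {p : Σ V : S.affineOpens, Γ(S, V.1) // Good p.1 p.2} =>
      S.basicOpen p.1.2) ⟨⟨V, c⟩, h⟩
  have key : ∀ x : X, f x ∈ U → ∃ (V : S.affineOpens) (W : X.affineOpens), V.1 ≤ U ∧ x ∈ W.1 ∧
      ∃ e : W.1 ≤ f ⁻¹ᵁ V.1, (f.appLE V.1 W.1 e).hom.Flat ∧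
        (f.appLE V.1 W.1 e).hom.FinitePresentation := by
    intro x hx
    obtain ⟨V, c, hgood, hs⟩ := hmem _ hx
    obtain ⟨W, hxW, e, h1, h2⟩ := hgood x hs
    exact ⟨⟨S.basicOpen c, V.2.basicOpen c⟩, W, hle V c hgood, hxW, e, h1, h2⟩
  refine ⟨U, ?_, ?_, ?_⟩
  · rw [dense_iff_inter_open]
    rintro O hO ⟨s, hs⟩
    obtain ⟨_, ⟨V, hV, rfl⟩, hsV, hVO⟩ := S.isBasis_affineOpens.exists_subset_of_mem_open hs hO
    haveI : Nonempty V := ⟨⟨s, hsV⟩⟩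
    haveI : Nontrivial Γ(S, V) := inferInstance
    obtain ⟨c, -, hc0, hgood⟩ := exists_good_basicOpen f hV (1 : Γ(S, V)) one_ne_zero
    have hne : S.basicOpen c ≠ ⊥ := fun h => hc0 ((AlgebraicGeometry.basicOpen_eq_bot_iff c).mp h)
    obtain ⟨t, ht⟩ : ∃ t, t ∈ S.basicOpen c := by
      by_contra hcon
      exact hne (Opens.ext (Set.eq_empty_of_forall_notMem fun t ht => hcon ⟨t, ht⟩))
    exact ⟨t, hVO (S.basicOpen_le c ht), hle ⟨V, hV⟩ c hgood ht⟩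
  · exact restrict_of_exists_appLE f (P := @Flat)
      (RingHom.Flat.stableUnderComposition.stableUnderCompositionWithLocalizationAway
        RingHom.Flat.holdsForLocalizationAway).1 U (fun x hx => by
        obtain ⟨V, W, h1, h2, e, h3, -⟩ := key x hx
        exact ⟨V, W, h1, h2, e, h3⟩)
  · exact restrict_of_exists_appLE f (P := @LocallyOfFinitePresentation)
      (RingHom.finitePresentation_stableUnderComposition.stableUnderCompositionWithLocalizationAway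
        RingHom.finitePresentation_holdsForLocalizationAway).1 U (fun x hx => by
        obtain ⟨V, W, h1, h2, e, -, h4⟩ := key x hx
        exact ⟨V, W, h1, h2, e, h4⟩)

end GenFlatSch2H8
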