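import Mathlib
import Groth.Agent.Lib.GeomRedInsep_helper4
import Groth.Agent.Lib.GeomRedSch2_helper4

set_option autoImplicit false
set_option linter.style.haveILetI false
set_option linter.unusedSectionVars false

universe u

open TensorProduct

namespace Groth.Agent.Lib.InsepRedQuotH4

open Groth.Agent.Lib.GeomRedInsepH4 Groth.Agent.Lib.GeomRedSch2H4

section
variable (k A L P : Type u) [Field k] [CommRing A] [Algebra k A] [Field L] [Field P]
  [Algebra k L] [Algebra k P] [Algebra L P] [IsScalarTower k L P]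

/-- The base change map `L ⊗ A → P ⊗ A`. -/
noncomputable abbrev phi : L ⊗[k] A →ₐ[k] P ⊗[k] A :=
  Algebra.TensorProduct.map (IsScalarTower.toAlgHom k L P) (AlgHom.id k A)

theorem phi_injective : Function.Injective (phi k A L P) :=
  Module.Flat.rTensor_preserves_injective_linearMap _ (RingHom.injective _)

theorem symm_phi (t : L ⊗[k] A) :
    (Algebra.TensorProduct.cancelBaseChange k L P P A).symm (phi k A L P t) =
      (Algebra.TensorProduct.includeRight : L ⊗[k] A →ₐ[L] P ⊗[L] (L ⊗[k] A)) t := by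
  induction t using TensorProduct.induction_on with
  | zero => rw [map_zero, map_zero, map_zero]
  | tmul l a =>
    show (Algebra.TensorProduct.cancelBaseChange k L P P A).symm ((algebraMap L P l) ⊗ₜ[k] a) =
      (1 : P) ⊗ₜ[L] (l ⊗ₜ[k] a)
    rw [Algebra.TensorProduct.cancelBaseChange_symm_tmul, Algebra.algebraMap_eq_smul_one,
      TensorProduct.smul_tmul, TensorProduct.smul_tmul', smul_eq_mul, mul_one]
  | add x y hx hy => rw [map_add, map_add, map_add, hx, hy]

theorem core [PerfectField P]
    (hgen : ∀ x : P ⊗[k] A, IsNilpotent x →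
      x ∈ Ideal.map (phi k A L P) (nilradical (L ⊗[k] A))) :
    Algebra.IsGeometricallyReduced L ((L ⊗[k] A) ⧸ nilradical (L ⊗[k] A)) := by
  have hJ : Ideal.map (Algebra.TensorProduct.includeRight :
        L ⊗[k] A →ₐ[L] P ⊗[L] (L ⊗[k] A)) (nilradical (L ⊗[k] A)) =
      nilradical (P ⊗[L] (L ⊗[k] A)) := by
    apply le_antisymm
    · rw [Ideal.map_le_iff_le_comap]
      intro t ht
      rw [Ideal.mem_comap]
      exact mem_nilradical.mpr ((mem_nilradical.mp ht).map _)
    · intro x hx
      have hx' : IsNilpotent ((Algebra.TensorProduct.cancelBaseChange k L P P A) x) :=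
        (mem_nilradical.mp hx).map _
      have h1 := hgen _ hx'
      have h2 : Ideal.map (phi k A L P) (nilradical (L ⊗[k] A)) ≤
          Ideal.comap (Algebra.TensorProduct.cancelBaseChange k L P P A).symm
            (Ideal.map (Algebra.TensorProduct.includeRight :
              L ⊗[k] A →ₐ[L] P ⊗[L] (L ⊗[k] A)) (nilradical (L ⊗[k] A))) := by
        rw [Ideal.map_le_iff_le_comap]
        intro t ht
        rw [Ideal.mem_comap, Ideal.mem_comap, symm_phi]
        exact Ideal.mem_map_of_mem _ ht
      have h3 := h2 h1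
      rw [Ideal.mem_comap, AlgEquiv.symm_apply_apply] at h3
      exact h3
  have hrad : (Ideal.map (Algebra.TensorProduct.includeRight :
        L ⊗[k] A →ₐ[L] P ⊗[L] (L ⊗[k] A)) (nilradical (L ⊗[k] A))).IsRadical := by
    rw [hJ]
    exact Ideal.radical_isRadical _
  haveI hq : IsReduced ((P ⊗[L] (L ⊗[k] A)) ⧸ Ideal.map (Algebra.TensorProduct.includeRight :
        L ⊗[k] A →ₐ[L] P ⊗[L] (L ⊗[k] A)) (nilradical (L ⊗[k] A))) :=
    (Ideal.isRadical_iff_quotient_reduced _).mp hrad
  haveI : IsReduced (P ⊗[L] ((L ⊗[k] A) ⧸ nilradical (L ⊗[k] A))) :=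
    isReduced_of_injective
      (Algebra.TensorProduct.tensorQuotientEquiv (R := L) P (L ⊗[k] A) P (nilradical (L ⊗[k] A)))
      (AlgEquiv.injective _)
  exact geomRed_of_perfect_ext L P ((L ⊗[k] A) ⧸ nilradical (L ⊗[k] A))

end

theorem exists_of_perfect (k : Type u) [Field k] (A : Type u) [CommRing A] [Algebra k A]
    [Algebra.FiniteType k A]
    (P : Type u) [Field P] [Algebra k P] [IsPurelyInseparable k P] [PerfectField P] :
    ∃ (k' : Type u) (_ : Field k') (_ : Algebra k k'), FiniteDimensional k k' ∧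
      IsPurelyInseparable k k' ∧
      Algebra.IsGeometricallyReduced k' ((k' ⊗[k] A) ⧸ nilradical (k' ⊗[k] A)) := by
  classical
  haveI : IsNoetherianRing (P ⊗[k] A) := Algebra.FiniteType.isNoetherianRing P (P ⊗[k] A)
  obtain ⟨G, hG⟩ := (IsNoetherian.noetherian (nilradical (P ⊗[k] A)) :
    (nilradical (P ⊗[k] A)).FG)
  have hG' : Ideal.span (↑G : Set (P ⊗[k] A)) = nilradical (P ⊗[k] A) := hG
  choose S hS using fun g : P ⊗[k] A => TensorProduct.exists_finset g
  let C : Finset P := G.biUnion fun g => (S g).image Prod.fst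
  haveI : Finite (↑C : Set P) := C.finite_toSet.to_subtype
  haveI hfin : FiniteDimensional k (IntermediateField.adjoin k (↑C : Set P)) :=
    IntermediateField.finiteDimensional_adjoin (fun a _ => IsPurelyInseparable.isIntegral' k a)
  haveI hpi : IsPurelyInseparable k (IntermediateField.adjoin k (↑C : Set P)) :=
    IsPurelyInseparable.tower_bot k (IntermediateField.adjoin k (↑C : Set P)) P
  refine ⟨IntermediateField.adjoin k (↑C : Set P), inferInstance, inferInstance, hfin, hpi, ?_⟩
  apply core k A (IntermediateField.adjoin k (↑C : Set P)) P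
  intro x hx
  have hx' : x ∈ Ideal.span (↑G : Set (P ⊗[k] A)) := by
    rw [hG']
    exact mem_nilradical.mpr hx
  refine (Ideal.span_le.mpr ?_) hx'
  intro g hg
  have hgG : g ∈ G := Finset.mem_coe.mp hg
  have hmem : ∀ i ∈ S g, ∃ l : IntermediateField.adjoin k (↑C : Set P),
      algebraMap (IntermediateField.adjoin k (↑C : Set P)) P l = i.1 := fun i hi =>
    ⟨⟨i.1, IntermediateField.subset_adjoin k _ (Finset.mem_coe.mpr
      (Finset.mem_biUnion.mpr ⟨g, hgG, Finset.mem_image_of_mem Prod.fst hi⟩))⟩, rfl⟩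
  obtain ⟨y, hy⟩ := exists_preimage (k := k) (S := A)
    (IntermediateField.adjoin k (↑C : Set P)) P (S g) hmem
  have hyg : phi k A (IntermediateField.adjoin k (↑C : Set P)) P y = g := hy.trans (hS g).symm
  have hgn : g ∈ nilradical (P ⊗[k] A) := by
    rw [← hG']
    exact Ideal.subset_span hg
  have hynil : IsNilpotent y := by
    obtain ⟨n, hn⟩ := mem_nilradical.mp hgn
    refine ⟨n, phi_injective k A (IntermediateField.adjoin k (↑C : Set P)) P ?_⟩
    rw [map_pow, hyg, hn, map_zero]
  rw [SetLike.mem_coe, ← hyg]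
  exact Ideal.mem_map_of_mem _ (mem_nilradical.mpr hynil)

theorem main2514 {k : Type u} [Field k]
    (A : Type u) [CommRing A] [Algebra k A] [Algebra.FiniteType k A] :
    ∃ (k' : Type u) (_ : Field k') (_ : Algebra k k'), FiniteDimensional k k' ∧
      IsPurelyInseparable k k' ∧
      Algebra.IsGeometricallyReduced k' ((k' ⊗[k] A) ⧸ nilradical (k' ⊗[k] A)) :=
  exists_of_perfect k A (perfectClosure k (AlgebraicClosure k))

end Groth.Agent.Lib.InsepRedQuotH4
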