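import Mathlib

open CategoryTheory AlgebraicGeometry Limits TopologicalSpace
universe u

namespace Groth.Agent.Lib.RedFibre

instance flat_fromSpecStalk (X : Scheme.{u}) (x : X) : Flat (X.fromSpecStalk x) := by
  obtain ⟨_, ⟨U, hU, rfl⟩, hxU, -⟩ :=
    X.isBasis_affineOpens.exists_subset_of_mem_open (Set.mem_univ x) isOpen_univ
  rw [← hU.fromSpecStalk_eq_fromSpecStalk hxU]
  dsimp only [IsAffineOpen.fromSpecStalk]
  have : Flat (Spec.map (X.presheaf.germ U x hxU)) := by
    rw [HasRingHomProperty.Spec_iff (P := @Flat)]
    letI : Algebra Γ(X, U) (X.presheaf.stalk x) := (X.presheaf.germ U x hxU).hom.toAlgebra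
    haveI := hU.isLocalization_stalk ⟨x, hxU⟩
    exact (RingHom.flat_algebraMap_iff).mpr
      (IsLocalization.flat _ (hU.primeIdealOf ⟨x, hxU⟩).asIdeal.primeCompl)
  infer_instance

theorem isReduced_of_flat_of_isPreimmersion {Z X : Scheme.{u}} (p : Z ⟶ X) [Flat p]
    [IsPreimmersion p] [IsReduced X] : IsReduced Z := by
  apply +allowSynthFailures isReduced_of_isReduced_stalk
  intro z
  have hs : Function.Surjective (p.stalkMap z).hom := p.stalkMap_surjective z
  have hf : (p.stalkMap z).hom.Flat := Flat.stalkMap p z
  have hinj : Function.Injective (p.stalkMap z).hom := by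
    algebraize [(p.stalkMap z).hom]
    have : IsLocalHom (algebraMap (X.presheaf.stalk (p z)) (Z.presheaf.stalk z)) :=
      inferInstanceAs (IsLocalHom (p.stalkMap z).hom)
    have : Module.FaithfullyFlat (X.presheaf.stalk (p z)) (Z.presheaf.stalk z) :=
      Module.FaithfullyFlat.of_flat_of_isLocalHom
    exact FaithfulSMul.algebraMap_injective _ _
  exact isReduced_of_injective (RingEquiv.ofBijective _ ⟨hinj, hs⟩).symm (RingEquiv.injective _)

instance isReduced_nilradical_subscheme (X : Scheme.{u}) : IsReduced X.nilradical.subscheme := by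
  apply +allowSynthFailures @IsReduced.of_openCover (𝒰 := X.nilradical.subschemeCover.openCover)
  intro U
  show IsReduced (Spec (.of (Γ(X, U.1) ⧸ X.nilradical.ideal U)))
  rw [affine_isReduced_iff]
  show _root_.IsReduced (Γ(X, U.1) ⧸ X.nilradical.ideal U)
  rw [← Ideal.isRadical_iff_quotient_reduced]
  have : X.nilradical.ideal U = ((⊥ : Scheme.IdealSheafData X).ideal U).radical := by
    rw [← Scheme.IdealSheafData.radical_bot, Scheme.IdealSheafData.radical_ideal]
  rw [this]
  exact Ideal.radical_isRadical _

theorem isReduced_fiber_nilradical {X Y : Scheme.{u}} (f : X ⟶ Y) (η : Y) (W : Set ↑Y) (hW : W ∈ irreducibleComponents ↑Y) (hη : IsGenericPoint η W) :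
    IsReduced ((X.nilradical.subschemeι ≫ f).fiber η) := by
  set f0 := X.nilradical.subschemeι ≫ f with hf0
  have hred : IsReduced X.nilradical.subscheme := inferInstance
  let b := Y.fromSpecStalk η
  let a := Spec.map (Y.residue η)
  have hX1 : IsReduced (pullback f0 b) := isReduced_of_flat_of_isPreimmersion (pullback.fst f0 b)
  have hgen : ∀ y : Y, y ⤳ η → y = η := by
    intro y hy
    have h1 : W ≤ closure {y} := by
      rw [← hη.def]
      exact isClosed_closure.closure_subset_iff.mpr (Set.singleton_subset_iff.mpr hy.mem_closure)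
    have h2 : closure {y} ≤ W := hW.2 isIrreducible_singleton.closure h1
    have h3 : y ∈ closure {η} := by
      rw [hη.def]; exact h2 (subset_closure rfl)
    exact (hy.antisymm (specializes_iff_mem_closure.mpr h3)).eq
  have hsub : Subsingleton (Spec (Y.presheaf.stalk η)) := by
    constructor
    intro s t
    apply b.isEmbedding.injective
    have hs : b s ∈ Set.range b := ⟨s, rfl⟩
    have ht : b t ∈ Set.range b := ⟨t, rfl⟩
    rw [Scheme.range_fromSpecStalk] at hs ht
    rw [hgen _ hs, hgen _ ht]
  have hsurj : Surjective a := by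
    constructor
    intro x
    exact ⟨IsLocalRing.closedPoint _, Subsingleton.elim _ _⟩
  have hcl : IsClosedImmersion a :=
    IsClosedImmersion.spec_of_surjective _ (Y.residue_surjective η)
  have hiso : IsIso (pullback.fst (pullback.snd f0 b) a) :=
    isIso_of_isClosedImmersion_of_surjective _
  have h2 : IsReduced (pullback (pullback.snd f0 b) a) :=
    isReduced_of_isOpenImmersion (pullback.fst (pullback.snd f0 b) a)
  exact isReduced_of_isOpenImmersion (pullbackLeftPullbackSndIso f0 b a).inv

end Groth.Agent.Lib.RedFibre
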