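import Mathlib
import Groth.Prelude.Def_Curv2
import Groth.Agent.Lib.GeomConnFin_helper4
import Groth.Agent.Lib.InsepRedQuot_helper4
import Groth.Agent.Lib.GeomRedGenPts_helper4
import Groth.Agent.Lib.StalkDict5_helper4
import Groth.Agent.Lib.GrpMaxPt_helper4
import Groth.Agent.Lib.RedFibre_helper9
import Groth.Agent.Lib.PerfectRed_lead

set_option autoImplicit false
set_option linter.style.haveILetI false
set_option linter.unusedSectionVars false

universe u

open scoped TensorProduct
open CategoryTheory CategoryTheory.Limits AlgebraicGeometry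

namespace Groth.Agent.Lib.InsepRedSchH4

open Groth.Agent.Lib.GeomConnFinH4 Groth.Agent.Lib.InsepRedQuotH4 Groth.Agent.Lib.GeomRedInsepH4

local notation:max "sm[" k ", " K "]" => Spec.map (CommRingCat.ofHom (algebraMap k K))

/-! ### Algebra: a finite set of elements of the perfect closure suffices -/

theorem exists_finset_core (k : Type u) [Field k] (A : Type u) [CommRing A] [Algebra k A]
    [Algebra.FiniteType k A]
    (P : Type u) [Field P] [Algebra k P] [IsPurelyInseparable k P] [PerfectField P] :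
    ∃ C : Finset P, ∀ (L : Type u) [Field L] [Algebra k L] [Algebra L P] [IsScalarTower k L P],
      (∀ c ∈ C, ∃ l : L, algebraMap L P l = c) →
      Algebra.IsGeometricallyReduced L ((L ⊗[k] A) ⧸ nilradical (L ⊗[k] A)) := by
  classical
  haveI : IsNoetherianRing (P ⊗[k] A) := Algebra.FiniteType.isNoetherianRing P (P ⊗[k] A)
  obtain ⟨G, hG⟩ := (IsNoetherian.noetherian (nilradical (P ⊗[k] A)) :
    (nilradical (P ⊗[k] A)).FG)
  have hG' : Ideal.span (↑G : Set (P ⊗[k] A)) = nilradical (P ⊗[k] A) := hG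
  choose S hS using fun g : P ⊗[k] A => TensorProduct.exists_finset g
  refine ⟨G.biUnion fun g => (S g).image Prod.fst, fun L _ _ _ _ hCL => ?_⟩
  apply core k A L P
  intro x hx
  have hx' : x ∈ Ideal.span (↑G : Set (P ⊗[k] A)) := by
    rw [hG']
    exact mem_nilradical.mpr hx
  refine (Ideal.span_le.mpr ?_) hx'
  intro g hg
  have hgG : g ∈ G := Finset.mem_coe.mp hg
  have hmem : ∀ i ∈ S g, ∃ l : L, algebraMap L P l = i.1 := fun i hi =>
    hCL i.1 (Finset.mem_biUnion.mpr ⟨g, hgG, Finset.mem_image_of_mem Prod.fst hi⟩)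
  obtain ⟨y, hy⟩ := exists_preimage (k := k) (S := A) L P (S g) hmem
  have hyg : phi k A L P y = g := hy.trans (hS g).symm
  have hgn : g ∈ nilradical (P ⊗[k] A) := by
    rw [← hG']
    exact Ideal.subset_span hg
  have hynil : IsNilpotent y := by
    obtain ⟨n, hn⟩ := mem_nilradical.mp hgn
    refine ⟨n, phi_injective k A L P ?_⟩
    rw [map_pow, hyg, hn, map_zero]
  rw [SetLike.mem_coe, ← hyg]
  exact Ideal.mem_map_of_mem _ (mem_nilradical.mpr hynil)

/-! ### Scheme-level pieces -/

theorem geomRed_spec (K B : Type u) [Field K] [CommRing B] [Algebra K B]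
    [Algebra.IsGeometricallyReduced K B] :
    GeometricallyReduced (Spec.map (CommRingCat.ofHom (algebraMap K B))) := by
  refine ⟨fun M _ y Z fst snd hpb => ?_⟩
  obtain ⟨ψ, rfl⟩ : ∃ ψ : CommRingCat.of K ⟶ CommRingCat.of M, Spec.map ψ = y :=
    ⟨Spec.preimage _, Spec.map_preimage _⟩
  letI : Algebra K M := ψ.hom.toAlgebra
  haveI h1 : _root_.IsReduced (M ⊗[K] B) :=
    Groth.Agent.Lib.PerfectRed.isReduced_tensor_of_isGeometricallyReduced K B M
  haveI h2 : _root_.IsReduced (B ⊗[K] M) :=
    isReduced_of_injective (Algebra.TensorProduct.comm K B M) (AlgEquiv.injective _)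
  haveI h3 : IsReduced (Spec (CommRingCat.of (B ⊗[K] M))) := inferInstance
  haveI h4 : IsReduced (pullback (Spec.map (CommRingCat.ofHom (algebraMap K B)))
      (Spec.map ψ)) :=
    isReduced_of_isOpenImmersion (pullbackSpecIso K B M).hom
  exact isReduced_of_isOpenImmersion hpb.isoPullback.hom

theorem geomReducedAt_of_openImm (k : Type u) [Field k] (Y W : Scheme.{u})
    [Y.Over (Spec (CommRingCat.of k))] [W.Over (Spec (CommRingCat.of k))] (c : W ⟶ Y)
    [IsOpenImmersion c]
    (hc : (W ↘ Spec (CommRingCat.of k)) = c ≫ (Y ↘ Spec (CommRingCat.of k))) (w : W)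
    (h : Curv2.IsGeomReducedAt k W w) : Curv2.IsGeomReducedAt k Y (c w) := by
  intro K _ _ y' hy'
  obtain ⟨w', hw'⟩ := mem_range_Gm (Y ↘ Spec (CommRingCat.of k)) c
    (W ↘ Spec (CommRingCat.of k)) hc K y' w hy'
  subst hw'
  haveI hG : IsOpenImmersion (Gm (Y ↘ Spec (CommRingCat.of k)) c
      (W ↘ Spec (CommRingCat.of k)) hc K) := isOpenImmersion_Gm _ c _ hc K
  have e0 : (pullback.fst (Y ↘ Spec (CommRingCat.of k)) sm[k, K])
      ((Gm (Y ↘ Spec (CommRingCat.of k)) c (W ↘ Spec (CommRingCat.of k)) hc K) w') =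
      c ((pullback.fst (W ↘ Spec (CommRingCat.of k)) sm[k, K]) w') :=
    congrArg (fun ψ : pullback (W ↘ Spec (CommRingCat.of k)) sm[k, K] ⟶ Y => ψ.base w')
      (Gm_fst (Y ↘ Spec (CommRingCat.of k)) c (W ↘ Spec (CommRingCat.of k)) hc K)
  have hw : (pullback.fst (W ↘ Spec (CommRingCat.of k)) sm[k, K]) w' = w :=
    c.isOpenEmbedding.injective (e0.symm.trans hy')
  haveI hred : _root_.IsReduced ((Curv2.bc k W K).presheaf.stalk w') := h K w' hw
  exact isReduced_of_injective
    (asIso ((Gm (Y ↘ Spec (CommRingCat.of k)) c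
      (W ↘ Spec (CommRingCat.of k)) hc K).stalkMap w')).commRingCatIsoToRingEquiv
    (RingEquiv.injective _)

theorem surj_ι (P : Scheme.{u}) : Surjective P.nilradical.subschemeι := by
  constructor
  rw [← Set.range_eq_univ, Scheme.IdealSheafData.range_subschemeι]
  rfl

theorem generalizing_of_surj_closedImm {Y X' : Scheme.{u}} (ι : Y ⟶ X') [IsClosedImmersion ι]
    [Surjective ι] : GeneralizingMap ι := by
  intro y x' hx'
  obtain ⟨y', rfl⟩ := ι.surjective x'
  exact ⟨y', ι.isClosedEmbedding.isInducing.specializes_iff.mp hx', rfl⟩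

theorem comp_square {C : Type*} [Category C] {T P Y X' S Bb Rr : C} (t1 : T ⟶ P) (t2 : T ⟶ Bb)
    (p1 : P ⟶ Y) (p2 : P ⟶ Rr) (ι : Y ⟶ X') (ch : Rr ⟶ X') (r : Bb ⟶ Rr) (s : X' ⟶ S)
    (b : Bb ⟶ S) (c1 : p1 ≫ ι = p2 ≫ ch) (c2 : t1 ≫ p2 = t2 ≫ r) (hs : r ≫ ch ≫ s = b) :
    t1 ≫ (p1 ≫ ι ≫ s) = t2 ≫ b := by
  calc t1 ≫ (p1 ≫ ι ≫ s) = (t1 ≫ p2) ≫ (ch ≫ s) := by
        rw [← Category.assoc p1 ι s, c1]
        simp only [Category.assoc]
    _ = t2 ≫ b := by
        rw [c2, ← hs]
        simp only [Category.assoc]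

theorem geomRed_piece {K : Type u} [Field K] {X' Y : Scheme.{u}} (ι : Y ⟶ X')
    [IsClosedImmersion ι] [Surjective ι] [IsReduced Y]
    (R B : Type u) [CommRing R] [CommRing B] [_root_.IsReduced B] (ρ : R →+* B)
    (hρ : Function.Surjective ρ) (hker : ∀ x, ρ x = 0 → IsNilpotent x)
    [Algebra K B] [Algebra.IsGeometricallyReduced K B]
    (ch : Spec (CommRingCat.of R) ⟶ X') [IsOpenImmersion ch] (s : X' ⟶ Spec (CommRingCat.of K))
    (hs : Spec.map (CommRingCat.ofHom ρ) ≫ ch ≫ s =
      Spec.map (CommRingCat.ofHom (algebraMap K B))) :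
    GeometricallyReduced (pullback.fst ι ch ≫ ι ≫ s) := by
  haveI hP : IsReduced (pullback ι ch) := isReduced_of_isOpenImmersion (pullback.fst ι ch)
  haveI hr1 : IsClosedImmersion (Spec.map (CommRingCat.ofHom ρ)) :=
    IsClosedImmersion.spec_of_surjective (CommRingCat.ofHom ρ) hρ
  haveI hr2 : Surjective (Spec.map (CommRingCat.ofHom ρ)) := by
    refine ⟨fun p => ?_⟩
    have h1 : Set.range (PrimeSpectrum.comap ρ) = Set.univ := by
      rw [_root_.range_comap_of_surjective _ ρ hρ, PrimeSpectrum.zeroLocus_eq_univ_iff]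
      intro x hx
      exact mem_nilradical.mpr (hker x hx)
    have h2 : p ∈ Set.range (PrimeSpectrum.comap ρ) := by
      rw [h1]
      exact Set.mem_univ _
    exact h2
  haveI hB : IsReduced (Spec (CommRingCat.of B)) := inferInstance
  haveI hgr : GeometricallyReduced (Spec.map (CommRingCat.ofHom (algebraMap K B))) :=
    geomRed_spec K B
  haveI i1 : IsIso (pullback.fst (pullback.snd ι ch) (Spec.map (CommRingCat.ofHom ρ))) :=
    isIso_of_isClosedImmersion_of_surjective _
  haveI i2 : IsIso (pullback.snd (pullback.snd ι ch) (Spec.map (CommRingCat.ofHom ρ))) :=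
    isIso_of_isClosedImmersion_of_surjective _
  have e : pullback.fst (pullback.snd ι ch) (Spec.map (CommRingCat.ofHom ρ)) ≫
      (pullback.fst ι ch ≫ ι ≫ s) =
      pullback.snd (pullback.snd ι ch) (Spec.map (CommRingCat.ofHom ρ)) ≫
        Spec.map (CommRingCat.ofHom (algebraMap K B)) :=
    comp_square _ _ _ _ _ _ _ _ _ pullback.condition pullback.condition hs
  have h3 : GeometricallyReduced
      (pullback.snd (pullback.snd ι ch) (Spec.map (CommRingCat.ofHom ρ)) ≫
        Spec.map (CommRingCat.ofHom (algebraMap K B))) :=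
    (MorphismProperty.cancel_left_of_respectsIso @GeometricallyReduced _ _).mpr hgr
  rw [← e] at h3
  exact (MorphismProperty.cancel_left_of_respectsIso @GeometricallyReduced _ _).mp h3

theorem chart_core_aux {K : Type u} [Field K] {X' : Scheme.{u}}
    (s : X' ⟶ Spec (CommRingCat.of K))
    (R B : Type u) [CommRing R] [CommRing B] [_root_.IsReduced B] (ρ : R →+* B)
    (hρ : Function.Surjective ρ) (hker : ∀ x, ρ x = 0 → IsNilpotent x)
    [Algebra K B] [Algebra.IsGeometricallyReduced K B]
    (ch : Spec (CommRingCat.of R) ⟶ X') [IsOpenImmersion ch]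
    (hs : Spec.map (CommRingCat.ofHom ρ) ≫ ch ≫ s =
      Spec.map (CommRingCat.ofHom (algebraMap K B)))
    (η' : ↥X'.nilradical.subscheme) (hη' : X'.nilradical.subschemeι η' ∈ Set.range ch) :
    letI : X'.nilradical.subscheme.Over (Spec (CommRingCat.of K)) :=
      ⟨X'.nilradical.subschemeι ≫ s⟩
    Curv2.IsGeomReducedAt K X'.nilradical.subscheme η' := by
  letI hO : X'.nilradical.subscheme.Over (Spec (CommRingCat.of K)) :=
    ⟨X'.nilradical.subschemeι ≫ s⟩
  show Curv2.IsGeomReducedAt K X'.nilradical.subscheme η'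
  haveI hsurj : Surjective X'.nilradical.subschemeι := surj_ι X'
  haveI hred : IsReduced X'.nilradical.subscheme :=
    Groth.Agent.Lib.RedFibre.isReduced_nilradical_subscheme X'
  haveI hgr : GeometricallyReduced
      (pullback.fst X'.nilradical.subschemeι ch ≫ X'.nilradical.subschemeι ≫ s) :=
    geomRed_piece X'.nilradical.subschemeι R B ρ hρ hker ch s hs
  obtain ⟨r0, hr0⟩ := hη'
  obtain ⟨t, ht1, -⟩ := Scheme.Pullback.exists_preimage_pullback
    (f := X'.nilradical.subschemeι) (g := ch) η' r0 hr0.symm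
  letI hPO : (pullback X'.nilradical.subschemeι ch).Over (Spec (CommRingCat.of K)) :=
    ⟨pullback.fst X'.nilradical.subschemeι ch ≫ X'.nilradical.subschemeι ≫ s⟩
  haveI : GeometricallyReduced
      ((pullback X'.nilradical.subschemeι ch) ↘ Spec (CommRingCat.of K)) := hgr
  have h1 := Groth.Agent.Lib.StalkDict5H4.forall_pts_of_geomRed K
    (pullback X'.nilradical.subschemeι ch) t
  have h2 := geomReducedAt_of_openImm K X'.nilradical.subscheme
    (pullback X'.nilradical.subschemeι ch) (pullback.fst X'.nilradical.subschemeι ch) rfl t h1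
  have h3 : Curv2.IsGeomReducedAt K X'.nilradical.subscheme η' := by
    rw [← ht1]
    exact h2
  exact h3

theorem chart_core {k : Type u} [Field k] {X : Scheme.{u}} (f : X ⟶ Spec (CommRingCat.of k))
    (A : Type u) [CommRing A] [Algebra k A] (c : Spec (CommRingCat.of A) ⟶ X) [IsOpenImmersion c]
    (hg : sm[k, A] = c ≫ f) (K : Type u) [Field K] [Algebra k K]
    [hB : Algebra.IsGeometricallyReduced K ((K ⊗[k] A) ⧸ nilradical (K ⊗[k] A))]
    (η' : ↥(pullback f sm[k, K]).nilradical.subscheme)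
    (hη' : (pullback.fst f sm[k, K]) ((pullback f sm[k, K]).nilradical.subschemeι η') ∈
      Set.range c) :
    letI : (pullback f sm[k, K]).nilradical.subscheme.Over (Spec (CommRingCat.of K)) :=
      ⟨(pullback f sm[k, K]).nilradical.subschemeι ≫ pullback.snd f sm[k, K]⟩
    Curv2.IsGeomReducedAt K (pullback f sm[k, K]).nilradical.subscheme η' := by
  haveI hGo : IsOpenImmersion (Gm f c sm[k, A] hg K) := isOpenImmersion_Gm f c sm[k, A] hg K
  haveI hcho : IsOpenImmersion ((pullbackSpecIso k A K).inv ≫ Gm f c sm[k, A] hg K) :=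
    @IsOpenImmersion.comp _ _ _ (pullbackSpecIso k A K).inv (Gm f c sm[k, A] hg K)
      inferInstance hGo
  let ρ : A ⊗[k] K →+* (K ⊗[k] A) ⧸ nilradical (K ⊗[k] A) :=
    (Ideal.Quotient.mk (nilradical (K ⊗[k] A))).comp
      (Algebra.TensorProduct.comm k A K).toRingEquiv.toRingHom
  have hρs : Function.Surjective ρ :=
    Ideal.Quotient.mk_surjective.comp (Algebra.TensorProduct.comm k A K).surjective
  have hker : ∀ x, ρ x = 0 → IsNilpotent x := fun x hx => by
    have h1 : Algebra.TensorProduct.comm k A K x ∈ nilradical (K ⊗[k] A) :=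
      Ideal.Quotient.eq_zero_iff_mem.mp hx
    exact (IsNilpotent.map_iff (Algebra.TensorProduct.comm k A K).injective).mp
      (mem_nilradical.mp h1)
  haveI hBred : _root_.IsReduced ((K ⊗[k] A) ⧸ nilradical (K ⊗[k] A)) :=
    (Ideal.isRadical_iff_quotient_reduced _).mp (Ideal.radical_isRadical _)
  have hρalg : ρ.comp (Algebra.TensorProduct.includeRight : K →ₐ[k] A ⊗[k] K).toRingHom =
      algebraMap K ((K ⊗[k] A) ⧸ nilradical (K ⊗[k] A)) := by
    refine RingHom.ext fun y => ?_
    show Ideal.Quotient.mk _ (Algebra.TensorProduct.comm k A K ((1 : A) ⊗ₜ[k] y)) = _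
    rw [Algebra.TensorProduct.comm_tmul]
    rfl
  have hs : Spec.map (CommRingCat.ofHom ρ) ≫
      ((pullbackSpecIso k A K).inv ≫ Gm f c sm[k, A] hg K) ≫ pullback.snd f sm[k, K] =
      Spec.map (CommRingCat.ofHom (algebraMap K ((K ⊗[k] A) ⧸ nilradical (K ⊗[k] A)))) := by
    have e1 : ((pullbackSpecIso k A K).inv ≫ Gm f c sm[k, A] hg K) ≫ pullback.snd f sm[k, K] =
        Spec.map (CommRingCat.ofHom
          (Algebra.TensorProduct.includeRight : K →ₐ[k] A ⊗[k] K).toRingHom) :=
      (Category.assoc _ _ _).trans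
        ((congrArg (fun t => (pullbackSpecIso k A K).inv ≫ t) (Gm_snd f c sm[k, A] hg K)).trans
          (pullbackSpecIso_inv_snd k A K))
    rw [e1, ← Spec.map_comp, ← CommRingCat.ofHom_comp]
    exact congrArg (fun r => Spec.map (CommRingCat.ofHom r)) hρalg
  obtain ⟨w0, hw0⟩ := hη'
  obtain ⟨a, ha⟩ := mem_range_Gm f c sm[k, A] hg K
    ((pullback f sm[k, K]).nilradical.subschemeι η') w0 hw0.symm
  have hpt : ((pullbackSpecIso k A K).inv ≫ Gm f c sm[k, A] hg K)
      ((pullbackSpecIso k A K).hom a) = (pullback f sm[k, K]).nilradical.subschemeι η' := by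
    have h1 : ((pullbackSpecIso k A K).hom ≫ (pullbackSpecIso k A K).inv ≫
        Gm f c sm[k, A] hg K) a = (Gm f c sm[k, A] hg K) a := by
      rw [Iso.hom_inv_id_assoc]
    exact h1.trans ha
  exact chart_core_aux (pullback.snd f sm[k, K]) (A ⊗[k] K)
    ((K ⊗[k] A) ⧸ nilradical (K ⊗[k] A)) ρ hρs hker
    ((pullbackSpecIso k A K).inv ≫ Gm f c sm[k, A] hg K) hs η'
    ⟨(pullbackSpecIso k A K).hom a, hpt⟩

theorem chartGood {k : Type u} [Field k] {X : Scheme.{u}} (f : X ⟶ Spec (CommRingCat.of k))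
    [LocallyOfFiniteType f] (i : X.affineCover.I₀)
    (P : Type u) [Field P] [Algebra k P] [IsPurelyInseparable k P] [PerfectField P] :
    ∃ C : Finset P, ∀ L : IntermediateField k P, (↑C : Set P) ⊆ (L : Set P) →
      ∀ η' : ↥(pullback f sm[k, L]).nilradical.subscheme,
        (pullback.fst f sm[k, L]) ((pullback f sm[k, L]).nilradical.subschemeι η') ∈
          Set.range (X.affineCover.f i) →
        letI : (pullback f sm[k, L]).nilradical.subscheme.Over (Spec (CommRingCat.of L)) :=
          ⟨(pullback f sm[k, L]).nilradical.subschemeι ≫ pullback.snd f sm[k, L]⟩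
        Curv2.IsGeomReducedAt L (pullback f sm[k, L]).nilradical.subscheme η' := by
  let c' : Spec Γ(X.affineCover.X i, ⊤) ⟶ X := (X.affineCover.X i).isoSpec.inv ≫ X.affineCover.f i
  let φ : CommRingCat.of k ⟶ Γ(X.affineCover.X i, ⊤) := Spec.preimage (c' ≫ f)
  letI : Algebra k Γ(X.affineCover.X i, ⊤) := φ.hom.toAlgebra
  have hg : sm[k, Γ(X.affineCover.X i, ⊤)] = c' ≫ f := Spec.map_preimage (c' ≫ f)
  haveI hc'o : IsOpenImmersion c' := inferInstance
  haveI hft : Algebra.FiniteType k Γ(X.affineCover.X i, ⊤) := by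
    have h1 : LocallyOfFiniteType (c' ≫ f) := inferInstance
    rw [← hg] at h1
    exact (HasRingHomProperty.Spec_iff (P := @LocallyOfFiniteType)).mp h1
  obtain ⟨C, hC⟩ := exists_finset_core k Γ(X.affineCover.X i, ⊤) P
  refine ⟨C, fun L hCL η' hη' => ?_⟩
  haveI hB := hC (↥L) (fun c hc => ⟨⟨c, hCL (Finset.mem_coe.mpr hc)⟩, rfl⟩)
  obtain ⟨w, hw⟩ := hη'
  have hw' : c' ((X.affineCover.X i).isoSpec.hom w) =
      (pullback.fst f sm[k, L]) ((pullback f sm[k, L]).nilradical.subschemeι η') := by
    show ((X.affineCover.X i).isoSpec.inv ≫ X.affineCover.f i) _ = _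
    rw [Scheme.Hom.comp_apply, ← Scheme.Hom.comp_apply _ (X.affineCover.X i).isoSpec.inv,
      Iso.hom_inv_id]
    exact hw
  exact @chart_core k _ X f ↑Γ(X.affineCover.X i, ⊤) _ (φ.hom.toAlgebra) c' hc'o hg ↥L _ _ hB η' ⟨_, hw'⟩

theorem main_P (k : Type u) [Field k] (X : Scheme.{u}) [X.Over (Spec (CommRingCat.of k))]
    [LocallyOfFiniteType (X ↘ (Spec (CommRingCat.of k)))]
    (hirr : (irreducibleComponents (X : Type u)).Finite)
    (P : Type u) [Field P] [Algebra k P] [IsPurelyInseparable k P] [PerfectField P] :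
    ∃ (k' : Type u) (_ : Field k') (_ : Algebra k k'), FiniteDimensional k k' ∧
      IsPurelyInseparable k k' ∧
      GeometricallyReduced ((Curv2.bc k X k').nilradical.subschemeι ≫ Curv2.bcSnd k X k') := by
  classical
  have hch : ∀ Z : ↥(irreducibleComponents (X : Type u)), ∃ i : X.affineCover.I₀,
      ∀ x : X, closure {x} = Z.1 → x ∈ Set.range (X.affineCover.f i) := by
    intro Z
    have hZirr : IsIrreducible Z.1 := Z.2.1
    have hZcl : IsClosed Z.1 := isClosed_of_mem_irreducibleComponents Z.1 Z.2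
    obtain ⟨x0, hx0⟩ := QuasiSober.sober hZirr hZcl
    obtain ⟨i, w, hw⟩ := X.affineCover.exists_eq x0
    refine ⟨i, fun x hx => ?_⟩
    have hxx : x = x0 := IsGenericPoint.eq (show IsGenericPoint x Z.1 from hx) hx0
    rw [hxx]
    exact ⟨w, hw⟩
  choose idx hidx using hch
  have hC0 := fun Z : ↥(irreducibleComponents (X : Type u)) =>
    chartGood (X ↘ Spec (CommRingCat.of k)) (idx Z) P
  choose C hC using hC0
  haveI : Fintype ↥(irreducibleComponents (X : Type u)) := hirr.fintype
  haveI hCfin : Finite (↑(Finset.univ.biUnion C) : Set P) :=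
    (Finset.univ.biUnion C).finite_toSet.to_subtype
  haveI hfin : FiniteDimensional k
      (IntermediateField.adjoin k (↑(Finset.univ.biUnion C) : Set P)) :=
    IntermediateField.finiteDimensional_adjoin (fun a _ => IsPurelyInseparable.isIntegral' k a)
  haveI hpi : IsPurelyInseparable k
      (IntermediateField.adjoin k (↑(Finset.univ.biUnion C) : Set P)) :=
    IsPurelyInseparable.tower_bot k
      (IntermediateField.adjoin k (↑(Finset.univ.biUnion C) : Set P)) P
  refine ⟨IntermediateField.adjoin k (↑(Finset.univ.biUnion C) : Set P), inferInstance,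
    inferInstance, hfin, hpi, ?_⟩
  letI hO : (pullback (X ↘ Spec (CommRingCat.of k))
      sm[k, IntermediateField.adjoin k (↑(Finset.univ.biUnion C) : Set P)]).nilradical.subscheme.Over
      (Spec (CommRingCat.of (IntermediateField.adjoin k (↑(Finset.univ.biUnion C) : Set P)))) :=
    ⟨(pullback (X ↘ Spec (CommRingCat.of k))
      sm[k, IntermediateField.adjoin k (↑(Finset.univ.biUnion C) : Set P)]).nilradical.subschemeι ≫
      pullback.snd (X ↘ Spec (CommRingCat.of k))
        sm[k, IntermediateField.adjoin k (↑(Finset.univ.biUnion C) : Set P)]⟩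
  haveI hred : IsReduced (pullback (X ↘ Spec (CommRingCat.of k))
      sm[k, IntermediateField.adjoin k (↑(Finset.univ.biUnion C) : Set P)]).nilradical.subscheme :=
    Groth.Agent.Lib.RedFibre.isReduced_nilradical_subscheme _
  haveI hsurj : Surjective (pullback (X ↘ Spec (CommRingCat.of k))
      sm[k, IntermediateField.adjoin k (↑(Finset.univ.biUnion C) : Set P)]).nilradical.subschemeι :=
    surj_ι _
  haveI hflat : Flat sm[k, IntermediateField.adjoin k (↑(Finset.univ.biUnion C) : Set P)] :=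
    Flat.SpecMap_iff.mpr (RingHom.flat_algebraMap_iff.mpr inferInstance)
  have hmain : GeometricallyReduced ((pullback (X ↘ Spec (CommRingCat.of k))
      sm[k, IntermediateField.adjoin k (↑(Finset.univ.biUnion C) : Set P)]).nilradical.subscheme ↘
      Spec (CommRingCat.of (IntermediateField.adjoin k (↑(Finset.univ.biUnion C) : Set P)))) := by
    refine Groth.Agent.Lib.GeomRedGenPtsH4.main1543
      (IntermediateField.adjoin k (↑(Finset.univ.biUnion C) : Set P)) _ (fun Z hZ η hη => ?_)
    have hclos : closure {η} ∈ irreducibleComponents _ := by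
      rw [hη.def]
      exact hZ
    have h1 := Groth.Agent.Lib.GrpMaxPtH4.closure_mem_irreducibleComponents_of_generalizing
      (Scheme.Hom.continuous _)
      (generalizing_of_surj_closedImm (pullback (X ↘ Spec (CommRingCat.of k))
        sm[k, IntermediateField.adjoin k (↑(Finset.univ.biUnion C) : Set P)]).nilradical.subschemeι)
      hclos
    have h2 := Groth.Agent.Lib.GrpMaxPtH4.closure_mem_irreducibleComponents_of_generalizing
      (Scheme.Hom.continuous _)
      (Flat.generalizingMap (pullback.fst (X ↘ Spec (CommRingCat.of k))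
        sm[k, IntermediateField.adjoin k (↑(Finset.univ.biUnion C) : Set P)])) h1
    have hmem := hidx ⟨_, h2⟩ _ rfl
    exact hC ⟨_, h2⟩ (IntermediateField.adjoin k (↑(Finset.univ.biUnion C) : Set P))
      (fun a ha => IntermediateField.subset_adjoin k _ (Finset.mem_coe.mpr
        (Finset.mem_biUnion.mpr ⟨_, Finset.mem_univ _, Finset.mem_coe.mp ha⟩))) η hmem
  exact hmain

theorem main1629 (k : Type u) [Field k] (X : Scheme.{u}) [X.Over (Spec (CommRingCat.of k))]
    [LocallyOfFiniteType (X ↘ (Spec (CommRingCat.of k)))]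
    (hirr : (irreducibleComponents (X : Type u)).Finite) :
    ∃ (k' : Type u) (_ : Field k') (_ : Algebra k k'), FiniteDimensional k k' ∧
      IsPurelyInseparable k k' ∧
      GeometricallyReduced ((Curv2.bc k X k').nilradical.subschemeι ≫ Curv2.bcSnd k X k') :=
  main_P k X hirr (perfectClosure k (AlgebraicClosure k))

end Groth.Agent.Lib.InsepRedSchH4
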