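import Mathlib
import Groth.Agent.Lib.GenFlatSch2_helper8
import Groth.Agent.Lib.InsepRedSch_helper4
import Groth.Agent.Lib.RedFibre_helper9

set_option autoImplicit false
open CategoryTheory CategoryTheory.Limits AlgebraicGeometry Opposite
universe u

namespace Groth.Agent.Lib.NearGenericH6

/-- For a morphism of finite type to an irreducible scheme, there is an open neighbourhood `V` of
the generic point such that every point over `V` has a generization in the generic fibre
(by generic flatness over the reduction of the base). -/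
theorem exists_open_generization {X Y : Scheme.{u}} (f : X ⟶ Y) [IrreducibleSpace ↑Y]
    [LocallyOfFiniteType f] [QuasiCompact f] :
    ∃ V : Y.Opens, genericPoint Y ∈ V ∧
      ∀ x : X, f x ∈ V → ∃ x' : X, x' ⤳ x ∧ f x' = genericPoint Y := by
  let ιY : Y.nilradical.subscheme ⟶ Y := Y.nilradical.subschemeι
  haveI : IsReduced Y.nilradical.subscheme :=
    Groth.Agent.Lib.RedFibre.isReduced_nilradical_subscheme Y
  haveI : Surjective ιY := Groth.Agent.Lib.InsepRedSchH4.surj_ι Y
  haveI : Surjective (pullback.fst f ιY) :=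
    MorphismProperty.pullback_fst (P := @Surjective) f ιY inferInstance
  obtain ⟨U', hU'd, hU'flat, -⟩ := GenFlatSch2H8.generic_flat_fp (pullback.snd f ιY)
  obtain ⟨η', hη'⟩ := ιY.surjective (genericPoint Y)
  have hspec : ∀ y' : Y.nilradical.subscheme, η' ⤳ y' := fun y' => by
    rw [← ιY.isEmbedding.isInducing.specializes_iff, hη']
    exact (genericPoint_spec Y).specializes trivial
  have hη'U : η' ∈ U' := by
    haveI : Nonempty Y.nilradical.subscheme := ⟨η'⟩
    obtain ⟨u, hu⟩ := hU'd.nonempty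
    exact (hspec u).mem_open U'.2 hu
  have hclosed : IsClosedMap ιY := ιY.isClosedEmbedding.isClosedMap
  have hcond : ∀ x' : ↥(pullback f ιY),
      ιY ((pullback.snd f ιY) x') = f ((pullback.fst f ιY) x') := by
    intro x'
    have h := congrArg (fun φ : pullback f ιY ⟶ Y => φ x') (pullback.condition (f := f) (g := ιY))
    simpa only [Scheme.Hom.comp_apply] using h.symm
  refine ⟨⟨(ιY '' (U' : Set Y.nilradical.subscheme)ᶜ)ᶜ,
    (hclosed _ U'.2.isClosed_compl).isOpen_compl⟩, ?_, ?_⟩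
  · rintro ⟨u, hu, hue⟩
    have : u = η' := ιY.isEmbedding.injective (hue.trans hη'.symm)
    exact hu (this ▸ hη'U)
  · intro x hx
    obtain ⟨x', rfl⟩ := (pullback.fst f ιY).surjective x
    have hfx' : (pullback.snd f ιY) x' ∈ U' := by
      by_contra hn
      exact hx ⟨(pullback.snd f ιY) x', hn, hcond x'⟩
    haveI := hU'flat
    have hgen := Flat.generalizingMap (pullback.snd f ιY ∣_ U')
    let a : ((pullback.snd f ιY) ⁻¹ᵁ U').toScheme := ⟨x', hfx'⟩
    let b : U'.toScheme := ⟨η', hη'U⟩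
    have hb : b ⤳ (pullback.snd f ιY ∣_ U') a := by
      rw [← U'.ι.isEmbedding.isInducing.specializes_iff]
      exact hspec _
    obtain ⟨a', ha', ha'b⟩ := hgen hb
    refine ⟨(pullback.fst f ιY) (((pullback.snd f ιY) ⁻¹ᵁ U').ι a'), ?_, ?_⟩
    · have h1 : ((pullback.snd f ιY) ⁻¹ᵁ U').ι a' ⤳ ((pullback.snd f ιY) ⁻¹ᵁ U').ι a :=
        ha'.map ((pullback.snd f ιY) ⁻¹ᵁ U').ι.continuous
      exact h1.map (pullback.fst f ιY).continuous
    · rw [← hcond]
      have h2 : (pullback.snd f ιY) (((pullback.snd f ιY) ⁻¹ᵁ U').ι a') =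
          U'.ι ((pullback.snd f ιY ∣_ U') a') := by
        have h := congrArg (fun φ : ((pullback.snd f ιY) ⁻¹ᵁ U').toScheme ⟶ Y.nilradical.subscheme
          => φ a') (morphismRestrict_ι (pullback.snd f ιY) U')
        simpa only [Scheme.Hom.comp_apply] using h.symm
      rw [h2, ha'b]
      exact hη'

theorem main1299 {X Y : Scheme.{u}} (f : X ⟶ Y) [IrreducibleSpace ↑Y] [LocallyOfFiniteType f]
    [QuasiCompact f]
    {ι : Type} [Finite ι] (Z : ι → Set ↑(f.fiber (genericPoint ↑Y))) (hZ : ∀ i, IsClosed (Z i))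
    (hcov : ⋃ i, Z i = Set.univ) :
    ∃ V : Y.Opens, (V : Set ↑Y).Nonempty ∧ ∀ y ∈ V,
      ⋃ i, (f.fiberι y) ⁻¹' closure ((f.fiberι (genericPoint ↑Y)) '' Z i) = Set.univ := by
  obtain ⟨V, hηV, hV⟩ := exists_open_generization f
  refine ⟨V, ⟨_, hηV⟩, fun y hy => ?_⟩
  rw [Set.eq_univ_iff_forall]
  intro z
  have hz : f ((f.fiberι y) z) = y := by
    have : (f.fiberι y) z ∈ Set.range (f.fiberι y) := ⟨z, rfl⟩
    rw [f.range_fiberι y] at this
    exact this
  obtain ⟨x', hx'sp, hx'η⟩ := hV ((f.fiberι y) z) (by rw [hz]; exact hy)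
  have hx'mem : x' ∈ Set.range (f.fiberι (genericPoint ↑Y)) := by
    rw [f.range_fiberι]; exact hx'η
  obtain ⟨w, rfl⟩ := hx'mem
  have hw : w ∈ ⋃ i, Z i := by rw [hcov]; trivial
  obtain ⟨i, hi⟩ := Set.mem_iUnion.1 hw
  refine Set.mem_iUnion.2 ⟨i, ?_⟩
  show (f.fiberι y) z ∈ closure ((f.fiberι (genericPoint ↑Y)) '' Z i)
  exact hx'sp.mem_closed isClosed_closure (subset_closure ⟨w, hi, rfl⟩)

end Groth.Agent.Lib.NearGenericH6
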