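import Mathlib
import Groth.Agent.Lib.GenFreeG_helper8

/-! Generic exactness (EGA IV 9.4.2), algebra form. -/

open TensorProduct

namespace GenExactH8

section Tors

variable {R : Type*} [CommRing R] (a : R) (A : Type*) [CommRing A] [Algebra R A]
  {N M : Type*} [AddCommGroup N] [Module R N] [AddCommGroup M] [Module R M]

theorem mul_algebraMap_tmul (c : A) (r : R) (n : N) :
    (c * algebraMap R A r) ⊗ₜ[R] n = c ⊗ₜ[R] (r • n) := by
  rw [mul_comm, ← Algebra.smul_def, TensorProduct.smul_tmul]

/-- An injective map with `a`-power torsion cokernel stays injective after base change to an algebra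
in which `a` is a unit. -/
theorem baseChange_injective_of_torsion_coker (ha : IsUnit (algebraMap R A a)) (ψ : N →ₗ[R] M)
    (hinj : Function.Injective ψ) (hcoker : ∀ x : M, ∃ k : ℕ, a ^ k • x ∈ LinearMap.range ψ) :
    Function.Injective (ψ.baseChange A) := by
  obtain ⟨u, hu⟩ := ha
  set ui : A := ↑u⁻¹ with hui
  have hmul : ∀ j : ℕ, ui ^ j * algebraMap R A (a ^ j) = 1 := by
    intro j
    rw [map_pow, ← hu, ← mul_pow, hui, Units.inv_mul, one_pow]
  choose k n hn using hcoker
  have key : ∀ (x : M) (j : ℕ) (m : N), ψ m = a ^ j • x →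
      (ui ^ (k x)) ⊗ₜ[R] n x = (ui ^ j) ⊗ₜ[R] m := by
    intro x j m hm
    have h1 : a ^ j • n x = a ^ (k x) • m := by
      apply hinj
      rw [map_smul, map_smul, hn, hm, smul_smul, smul_smul, mul_comm]
    calc (ui ^ (k x)) ⊗ₜ[R] n x = (ui ^ (k x) * ui ^ j * algebraMap R A (a ^ j)) ⊗ₜ[R] n x := by
          rw [mul_assoc, hmul, mul_one]
      _ = (ui ^ (k x) * ui ^ j) ⊗ₜ[R] (a ^ (k x) • m) := by rw [mul_algebraMap_tmul, h1]
      _ = (ui ^ j * (ui ^ (k x) * algebraMap R A (a ^ (k x)))) ⊗ₜ[R] m := by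
          rw [← mul_algebraMap_tmul]; congr 1; ring
      _ = (ui ^ j) ⊗ₜ[R] m := by rw [hmul, mul_one]
  let θ : M →ₗ[R] A ⊗[R] N :=
    { toFun := fun x => (ui ^ (k x)) ⊗ₜ[R] n x
      map_add' := by
        intro x y
        have h1 : ψ (a ^ (k y) • n x + a ^ (k x) • n y) = a ^ (k x + k y) • (x + y) := by
          rw [map_add, map_smul, map_smul, hn, hn, smul_smul, smul_smul, smul_add, pow_add,
            mul_comm (a ^ k y)]
        rw [key (x + y) _ _ h1, tmul_add, pow_add]
        congr 1
        · rw [← mul_algebraMap_tmul, mul_assoc, hmul, mul_one]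
        · rw [← mul_algebraMap_tmul, mul_comm (ui ^ k x), mul_assoc, hmul, mul_one]
      map_smul' := by
        intro r x
        have h1 : ψ (r • n x) = a ^ (k x) • (r • x) := by
          rw [map_smul, hn, smul_comm]
        rw [key (r • x) _ _ h1, RingHom.id_apply, tmul_smul] }
  have hθ : ∀ m : N, θ (ψ m) = 1 ⊗ₜ[R] m := by
    intro m
    have := key (ψ m) 0 m (by simp)
    rw [pow_zero] at this
    exact this
  have hleft : ∀ z : A ⊗[R] N, (θ.liftBaseChange A) (ψ.baseChange A z) = z := by
    intro z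
    induction z using TensorProduct.induction_on with
    | zero => simp
    | tmul c m =>
      rw [LinearMap.baseChange_tmul, LinearMap.liftBaseChange_tmul, hθ, smul_tmul', smul_eq_mul,
        mul_one]
    | add x y hx hy => rw [map_add, map_add, hx, hy]
  exact Function.LeftInverse.injective hleft

end Tors

section ClaimA

variable {R : Type*} [CommRing R] (a : R) (A : Type*) [CommRing A] [Algebra R A]
  {H : Type*} [AddCommGroup H] [Module R H]

/-- If the quotient `H ⧸ I` is generically free at `a`, the inclusion of `I` in `H` stays injective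
after base change to an algebra in which `a` is a unit. -/
theorem subtype_baseChange_injective (ha : IsUnit (algebraMap R A a)) (I : Submodule R H)
    (hC : GenFreeH8.GFW R (H ⧸ I) a) : Function.Injective (I.subtype.baseChange A) := by
  obtain ⟨s, hs, hsp⟩ := hC
  set lift : (H ⧸ I) → H := Function.surjInv I.mkQ_surjective with hlift
  have hlift' : ∀ c, I.mkQ (lift c) = c := Function.surjInv_eq I.mkQ_surjective
  set φ : (s →₀ R) →ₗ[R] H := Finsupp.linearCombination R (fun c : s => lift c) with hφ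
  have hmkφ : ∀ l, I.mkQ (φ l) = Finsupp.linearCombination R ((↑) : s → H ⧸ I) l := by
    intro l
    rw [hφ, Finsupp.linearCombination_apply, Finsupp.linearCombination_apply, map_finsuppSum]
    refine Finsupp.sum_congr fun i _ => ?_
    rw [map_smul, hlift']
  set ψ : (I × (s →₀ R)) →ₗ[R] H := I.subtype.coprod φ with hψ
  have hψinj : Function.Injective ψ := by
    rw [← LinearMap.ker_eq_bot, LinearMap.ker_eq_bot']
    rintro ⟨y, l⟩ h
    have h1 : (y : H) + φ l = 0 := by simpa [hψ] using h
    have h2 : I.mkQ (φ l) = 0 := by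
      have := congrArg I.mkQ h1
      rw [map_add, map_zero, Submodule.mkQ_apply, (Submodule.Quotient.mk_eq_zero I).mpr y.2,
        zero_add] at this
      exact this
    rw [hmkφ] at h2
    have hl : l = 0 := (linearIndependent_iff.mp hs) l h2
    subst hl
    rw [map_zero, add_zero] at h1
    exact Prod.ext (Subtype.ext h1) rfl
  have hψcoker : ∀ x : H, ∃ k : ℕ, a ^ k • x ∈ LinearMap.range ψ := by
    intro x
    obtain ⟨k, hk⟩ := hsp (I.mkQ x)
    refine ⟨k, ?_⟩
    rw [← Subtype.range_coe (s := s), ← Finsupp.range_linearCombination] at hk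
    obtain ⟨l, hl⟩ := hk
    have h1 : a ^ k • x - φ l ∈ I := by
      rw [← Submodule.Quotient.mk_eq_zero, Submodule.Quotient.mk_sub, ← Submodule.mkQ_apply,
        ← Submodule.mkQ_apply, map_smul, hmkφ, hl, sub_self]
    refine ⟨(⟨_, h1⟩, l), ?_⟩
    simp [hψ]
  have h1 := baseChange_injective_of_torsion_coker a A ha ψ hψinj hψcoker
  have h2 : I.subtype = ψ ∘ₗ LinearMap.inl R I (s →₀ R) := by
    ext y; simp [hψ]
  have h3 : Function.Injective ((LinearMap.inl R I (s →₀ R)).baseChange A) := by
    have h4 : ((LinearMap.fst R I (s →₀ R)).baseChange A) ∘ₗ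
        ((LinearMap.inl R I (s →₀ R)).baseChange A) = LinearMap.id := by
      rw [← LinearMap.baseChange_comp, LinearMap.fst_comp_inl, LinearMap.baseChange_id]
    exact Function.LeftInverse.injective (g := (LinearMap.fst R I (s →₀ R)).baseChange A)
      (fun z => LinearMap.congr_fun h4 z)
  rw [h2, LinearMap.baseChange_comp]
  exact h1.comp h3

end ClaimA

section Generic

variable {R : Type*} [CommRing R] [IsDomain R]
  {F G H : Type*} [AddCommGroup F] [Module R F] [AddCommGroup G] [Module R G]
  [AddCommGroup H] [Module R H]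

theorem tmul_eq_zero_iff {M : Type*} [AddCommGroup M] [Module R M] (m : M) :
    (1 : FractionRing R) ⊗ₜ[R] m = 0 ↔ ∃ r : R, r ≠ 0 ∧ r • m = 0 := by
  have h := IsLocalizedModule.eq_zero_iff (nonZeroDivisors R)
    (TensorProduct.mk R (FractionRing R) M 1) (m := m)
  rw [TensorProduct.mk_apply] at h
  rw [h]
  constructor
  · rintro ⟨c, hc⟩
    exact ⟨c, nonZeroDivisors.coe_ne_zero c, hc⟩
  · rintro ⟨r, hr, hrm⟩
    exact ⟨⟨r, mem_nonZeroDivisors_of_ne_zero hr⟩, hrm⟩

theorem torsion_comp (u : F →ₗ[R] G) (v : G →ₗ[R] H)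
    (hgen : Function.Exact (u.baseChange (FractionRing R)) (v.baseChange (FractionRing R)))
    (x : F) : ∃ r : R, r ≠ 0 ∧ r • v (u x) = 0 := by
  rw [← tmul_eq_zero_iff]
  have := hgen.apply_apply_eq_zero ((1 : FractionRing R) ⊗ₜ[R] x)
  simpa using this

theorem torsion_ker (u : F →ₗ[R] G) (v : G →ₗ[R] H)
    (hgen : Function.Exact (u.baseChange (FractionRing R)) (v.baseChange (FractionRing R)))
    (n : G) (hn : v n = 0) : ∃ r : R, r ≠ 0 ∧ r • n ∈ LinearMap.range u := by
  have h1 : v.baseChange (FractionRing R) ((1 : FractionRing R) ⊗ₜ[R] n) = 0 := by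
    rw [LinearMap.baseChange_tmul, hn, tmul_zero]
  obtain ⟨w, hw⟩ := (hgen _).mp h1
  obtain ⟨⟨x, s⟩, hxs⟩ := IsLocalizedModule.surj (nonZeroDivisors R)
    (TensorProduct.mk R (FractionRing R) F 1) w
  simp only [TensorProduct.mk_apply] at hxs
  have h2 : (1 : FractionRing R) ⊗ₜ[R] ((s : R) • n - u x) = 0 := by
    rw [tmul_sub, tmul_smul, ← hw, ← LinearMap.baseChange_tmul, ← hxs, Submonoid.smul_def,
      ← LinearMap.map_smul_of_tower, sub_self]
  obtain ⟨c, hc, hc0⟩ := (tmul_eq_zero_iff _).mp h2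
  refine ⟨c * s, mul_ne_zero hc (nonZeroDivisors.coe_ne_zero s), c • x, ?_⟩
  rw [smul_sub, sub_eq_zero] at hc0
  rw [map_smul, ← hc0, mul_smul]

end Generic

section Main

variable {R : Type*} [CommRing R] [IsDomain R] {B : Type*} [CommRing B] [Algebra R B]
  [Algebra.FiniteType R B]
  {F G H : Type*} [AddCommGroup F] [Module B F] [Module R F] [IsScalarTower R B F]
  [Module.Finite B F]
  [AddCommGroup G] [Module B G] [Module R G] [IsScalarTower R B G] [Module.Finite B G]
  [AddCommGroup H] [Module B H] [Module R H] [IsScalarTower R B H] [Module.Finite B H]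

omit [Algebra.FiniteType R B] [Module R F] [IsScalarTower R B F] [Module.Finite B H] in
/-- uniform torsion bound on a finite module -/
theorem exists_uniform_torsion (w : F →ₗ[B] H)
    (hw : ∀ x : F, ∃ r : R, r ≠ 0 ∧ r • w x = 0) : ∃ r : R, r ≠ 0 ∧ ∀ x : F, r • w x = 0 := by
  classical
  obtain ⟨S, hS⟩ := (Module.finite_def (R := B) (M := F)).mp inferInstance
  choose r hr0 hr using hw
  refine ⟨∏ x ∈ S, r x, Finset.prod_ne_zero_iff.mpr fun x _ => hr0 x, ?_⟩
  intro x
  have hx : x ∈ Submodule.span B (S : Set F) := hS ▸ Submodule.mem_top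
  induction hx using Submodule.span_induction with
  | mem y hy =>
    rw [← Finset.mul_prod_erase S r hy, mul_comm, mul_smul, hr, smul_zero]
  | zero => simp
  | add y z _ _ hy hz => rw [map_add, smul_add, hy, hz, add_zero]
  | smul b y _ hy => rw [map_smul, smul_comm, hy, smul_zero]

omit [Module R F] [IsScalarTower R B F] [Module.Finite B F] [Module.Finite B H] in
/-- the kernel of `v` is contained in the range of `u` up to uniformly bounded torsion -/
theorem exists_uniform_ker (u : F →ₗ[B] G) (v : G →ₗ[B] H)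
    (hk : ∀ n : G, v n = 0 → ∃ r : R, r ≠ 0 ∧ r • n ∈ LinearMap.range u) :
    ∃ a : R, a ≠ 0 ∧ ∀ n : G, v n = 0 → ∃ k : ℕ, a ^ k • n ∈ LinearMap.range u := by
  classical
  obtain ⟨a₂, ha₂, -, hfpz⟩ := GenFreeH8.main (R := R) (S := B) (LinearMap.range v)
  obtain ⟨t, π₀, hπ₀⟩ := Module.Finite.exists_fin' B G
  set π : (Fin t → B) →ₗ[B] LinearMap.range v := v.rangeRestrict ∘ₗ π₀ with hπ
  have hπsurj : Function.Surjective π := v.surjective_rangeRestrict.comp hπ₀
  have hπrange : ∀ x : LinearMap.range v, ∃ k : ℕ,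
      ((algebraMap R B) a₂ * 1) ^ k • x ∈ LinearMap.range π := by
    intro x
    refine ⟨0, ?_⟩
    rw [pow_zero, one_smul]
    exact LinearMap.mem_range.mpr (hπsurj x)
  obtain ⟨G', hG', hsp⟩ := hfpz 1 t π hπrange
  rw [mul_one] at hsp
  have hkerπ : ∀ z, z ∈ LinearMap.ker π ↔ v (π₀ z) = 0 := by
    intro z
    rw [LinearMap.mem_ker, hπ, LinearMap.comp_apply, ← Subtype.coe_inj]
    rfl
  have hgen : ∀ g ∈ G', ∃ r : R, r ≠ 0 ∧ r • π₀ g ∈ LinearMap.range u :=
    fun g hg => hk _ ((hkerπ g).mp (hG' hg))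
  choose! r hr0 hr using hgen
  set r₀ : R := ∏ g ∈ G', r g with hr₀
  have hr₀0 : r₀ ≠ 0 := Finset.prod_ne_zero_iff.mpr fun g hg => hr0 g hg
  have hspan : ∀ z ∈ Submodule.span B (↑G' : Set (Fin t → B)),
      r₀ • π₀ z ∈ LinearMap.range u := by
    intro z hz
    induction hz using Submodule.span_induction with
    | mem y hy =>
      rw [hr₀, ← Finset.mul_prod_erase G' r hy, mul_comm, mul_smul]
      exact (LinearMap.range u).smul_of_tower_mem _ (hr y hy)
    | zero => simp
    | add y z _ _ hy hz => rw [map_add, smul_add]; exact Submodule.add_mem _ hy hz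
    | smul b y _ hy =>
      rw [map_smul, smul_comm]
      exact Submodule.smul_mem _ _ hy
  refine ⟨r₀ * a₂, mul_ne_zero hr₀0 ha₂, ?_⟩
  intro n hn
  obtain ⟨z, rfl⟩ := hπ₀ n
  obtain ⟨k, hk'⟩ := hsp z ((hkerπ z).mpr hn)
  refine ⟨k + 1, ?_⟩
  have h1 := hspan _ hk'
  rw [map_smul, ← map_pow, algebraMap_smul] at h1
  have h2 : (r₀ * a₂) ^ (k + 1) • π₀ z = (r₀ ^ k * a₂) • (r₀ • (a₂ ^ k) • π₀ z) := by
    rw [smul_smul, smul_smul]
    congr 1
    ring
  rw [h2]
  exact (LinearMap.range u).smul_of_tower_mem _ h1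

/-- **Generic exactness**: if a sequence of finite modules over a finite type algebra over a domain
is exact at the generic point of the base, it is exact on the fibres over a nonempty open. -/
theorem generic_exact (u : F →ₗ[B] G) (v : G →ₗ[B] H)
    (hgen : Function.Exact ((u.restrictScalars R).baseChange (FractionRing R))
      ((v.restrictScalars R).baseChange (FractionRing R))) :
    ∃ f : R, f ≠ 0 ∧ ∀ p : PrimeSpectrum R, f ∉ p.asIdeal →
      Function.Exact ((u.restrictScalars R).baseChange p.asIdeal.ResidueField)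
        ((v.restrictScalars R).baseChange p.asIdeal.ResidueField) := by
  classical
  -- (1) the cokernel of `v` is generically free
  obtain ⟨a₁, ha₁, hgfw, -⟩ := GenFreeH8.main (R := R) (S := B) (H ⧸ LinearMap.range v)
  -- (3) kernel of `v` is in the range of `u` up to torsion
  obtain ⟨a₃, ha₃, hker⟩ := exists_uniform_ker (R := R) u v
    (fun n hn => torsion_ker (u.restrictScalars R) (v.restrictScalars R) hgen n hn)
  -- (4) `v ∘ u` is torsion
  obtain ⟨r₄, hr₄, hcomp⟩ := exists_uniform_torsion (R := R) (v ∘ₗ u)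
    (fun x => torsion_comp (u.restrictScalars R) (v.restrictScalars R) hgen x)
  refine ⟨a₁ * a₃ * r₄, mul_ne_zero (mul_ne_zero ha₁ ha₃) hr₄, ?_⟩
  intro p hp
  set κ := p.asIdeal.ResidueField with hκ
  have hunit : ∀ r : R, r ∉ p.asIdeal → IsUnit (algebraMap R κ r) := by
    intro r hr
    rw [isUnit_iff_ne_zero, ne_eq, Ideal.algebraMap_residueField_eq_zero]
    exact hr
  have hp₁ : a₁ ∉ p.asIdeal := fun h => hp (Ideal.mul_mem_right _ _ (Ideal.mul_mem_right _ _ h))
  have hp₃ : a₃ ∉ p.asIdeal := fun h => hp (Ideal.mul_mem_right _ _ (Ideal.mul_mem_left _ _ h))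
  have hp₄ : r₄ ∉ p.asIdeal := fun h => hp (Ideal.mul_mem_left _ _ h)
  set uR := u.restrictScalars R with huR
  set vR := v.restrictScalars R with hvR
  rw [LinearMap.exact_iff]
  apply le_antisymm
  · -- kernel ≤ range
    intro z hz
    rw [LinearMap.mem_ker] at hz
    set I : Submodule R H := LinearMap.range vR with hI
    have hgfw' : GenFreeH8.GFW R (H ⧸ I) a₁ :=
      hgfw.of_equiv (Submodule.Quotient.restrictScalarsEquiv R (LinearMap.range v)).symm
    have hinj := subtype_baseChange_injective a₁ κ (hunit a₁ hp₁) I hgfw'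
    set v' : G →ₗ[R] I := vR.rangeRestrict with hv'
    have hfac : vR = I.subtype ∘ₗ v' := by
      ext x; rfl
    have hz' : v'.baseChange κ z = 0 := by
      apply hinj
      rw [map_zero, ← LinearMap.comp_apply, ← LinearMap.baseChange_comp, ← hfac]
      exact hz
    have hex : Function.Exact ((LinearMap.ker v').subtype.lTensor κ) (v'.lTensor κ) :=
      lTensor_exact κ (LinearMap.exact_subtype_ker_map v') vR.surjective_rangeRestrict
    have hz'' : v'.lTensor κ z = 0 := hz'
    obtain ⟨w, hw⟩ := (hex z).mp hz''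
    rw [← hw]
    clear hw hz hz' hz''
    induction w using TensorProduct.induction_on with
    | zero => simp
    | tmul c n =>
      have hn : v (n : G) = 0 := by
        have := n.2
        rw [LinearMap.mem_ker] at this
        have h2 := congrArg Subtype.val this
        exact h2
      obtain ⟨k, x, hx⟩ := hker n hn
      obtain ⟨e, he⟩ := hunit (a₃ ^ k) (fun h => hp₃ (p.isPrime.mem_of_pow_mem _ h))
      rw [LinearMap.lTensor_tmul, Submodule.subtype_apply]
      refine ⟨(c * ↑e⁻¹) ⊗ₜ[R] x, ?_⟩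
      rw [LinearMap.baseChange_tmul, huR, LinearMap.restrictScalars_apply, hx,
        ← mul_algebraMap_tmul, ← he, mul_assoc, Units.inv_mul, mul_one]
    | add x y hx hy =>
      rw [map_add]
      exact Submodule.add_mem _ hx hy
  · -- range ≤ kernel
    rintro _ ⟨w, rfl⟩
    rw [LinearMap.mem_ker]
    induction w using TensorProduct.induction_on with
    | zero => simp
    | tmul c x =>
      obtain ⟨e, he⟩ := hunit r₄ hp₄
      rw [LinearMap.baseChange_tmul, LinearMap.baseChange_tmul]
      have h1 : c ⊗ₜ[R] vR (uR x) = (c * ↑e⁻¹ * algebraMap R κ r₄) ⊗ₜ[R] vR (uR x) := by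
        rw [← he, mul_assoc, Units.inv_mul, mul_one]
      rw [h1, mul_algebraMap_tmul]
      have h2 : r₄ • vR (uR x) = 0 := hcomp x
      rw [h2, tmul_zero]
    | add x y hx hy => rw [map_add, map_add, hx, hy, add_zero]

end Main

end GenExactH8
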