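import Mathlib
import Groth.Prelude
import Groth.Agent.Lib.GenExact_helper8

/-! Non-reducedness of the generic fibre spreads to nearby fibres (via generic freeness).

Main results:
* `tmul_ne_zero_of_generic`: for a finite type algebra `S` over a domain `R` and `b : S` which is
  not `R`-torsion, there is `g ≠ 0` in `R` such that `1 ⊗ b ≠ 0` in `L ⊗[R] S` for every field
  `L` over `R` in which `g` is invertible.
* `nonred_general`: algebraic form of the statement, over a base ring with prime nilradical.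
* `chart`: the open immersion `Spec (Γ(X, W) ⊗ κ(y)) ⟶ f.fiber y` for affine opens `W ≤ f⁻¹ V`.
* `main1330`.
-/

set_option autoImplicit false
set_option linter.style.haveILetI false
set_option linter.unusedVariables false
set_option backward.isDefEq.respectTransparency false
set_option maxHeartbeats 800000

universe u

open CategoryTheory CategoryTheory.Limits AlgebraicGeometry TensorProduct

namespace Groth.Agent.Lib.NonRedGenH4

open GenFreeH8

section Alg

/-- A generically free module which is generically nonzero has an element which stays nonzero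
after base change to any nontrivial algebra in which the witness is invertible. -/
theorem exists_tmul_ne_zero {R : Type u} [CommRing R] {M : Type u} [AddCommGroup M] [Module R M]
    {a : R} (h : GFW R M a) (hne : ∃ m : M, ∀ k : ℕ, a ^ k • m ≠ 0)
    (L : Type u) [CommRing L] [Nontrivial L] [Algebra R L] (ha : IsUnit (algebraMap R L a)) :
    ∃ m : M, (1 : L) ⊗ₜ[R] m ≠ 0 := by
  classical
  obtain ⟨s, hs, hsp⟩ := h
  obtain ⟨m₀, hm₀⟩ := hne
  have hsne : s.Nonempty := by
    by_contra hcon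
    rw [Set.not_nonempty_iff_eq_empty] at hcon
    obtain ⟨k, hk⟩ := hsp m₀
    rw [hcon, Submodule.span_empty, Submodule.mem_bot] at hk
    exact hm₀ k hk
  obtain ⟨i, hi⟩ := hsne
  have hφinj : Function.Injective (Finsupp.linearCombination R ((↑) : s → M)) := hs
  have hφcoker : ∀ x : M, ∃ k : ℕ,
      a ^ k • x ∈ LinearMap.range (Finsupp.linearCombination R ((↑) : s → M)) := by
    intro x
    obtain ⟨k, hk⟩ := hsp x
    refine ⟨k, ?_⟩
    rw [Finsupp.range_linearCombination, Subtype.range_coe]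
    exact hk
  have hinj := GenExactH8.baseChange_injective_of_torsion_coker a L ha
    (Finsupp.linearCombination R ((↑) : s → M)) hφinj hφcoker
  refine ⟨i, fun h0 => ?_⟩
  have h1 : (Finsupp.linearCombination R ((↑) : s → M)).baseChange L
      ((1 : L) ⊗ₜ[R] Finsupp.single (⟨i, hi⟩ : s) (1 : R)) = 0 := by
    rw [LinearMap.baseChange_tmul, Finsupp.linearCombination_single, one_smul]
    exact h0
  have h2 : (1 : L) ⊗ₜ[R] Finsupp.single (⟨i, hi⟩ : s) (1 : R) = 0 :=
    hinj (h1.trans (map_zero _).symm)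
  have h3 := congrArg ((Finsupp.lapply (⟨i, hi⟩ : s) : (s →₀ R) →ₗ[R] R).baseChange L) h2
  rw [LinearMap.baseChange_tmul, map_zero, Finsupp.lapply_apply, Finsupp.single_eq_same] at h3
  have h4 := congrArg (TensorProduct.rid R L) h3
  rw [TensorProduct.rid_tmul, map_zero, one_smul] at h4
  exact one_ne_zero h4

/-- **Generic nonvanishing of an element.** -/
theorem tmul_ne_zero_of_generic {R : Type u} [CommRing R] [IsDomain R] {S : Type u} [CommRing S]
    [Algebra R S] [Algebra.FiniteType R S] (b : S) (hb : ∀ c : R, c ≠ 0 → c • b ≠ 0) :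
    ∃ g : R, g ≠ 0 ∧ ∀ (L : Type u) [Field L] [Algebra R L], algebraMap R L g ≠ 0 →
      (1 : L) ⊗ₜ[R] b ≠ 0 := by
  classical
  obtain ⟨a₁, ha₁, hg₁, -⟩ := GenFreeH8.main (R := R) (S := S)
    (S ⧸ (Submodule.span S ({b} : Set S)))
  obtain ⟨a₂, ha₂, hg₂, -⟩ := GenFreeH8.main (R := R) (S := S)
    (Submodule.span S ({b} : Set S))
  have hg₁' : GFW R (S ⧸ (Submodule.span S ({b} : Set S)).restrictScalars R) a₁ :=
    hg₁.of_equiv (Submodule.Quotient.restrictScalarsEquiv R (Submodule.span S ({b} : Set S))).symm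
  have hg₂' : GFW R ((Submodule.span S ({b} : Set S)).restrictScalars R) a₂ :=
    hg₂.of_equiv
      { toFun := fun x => ⟨x.1, x.2⟩
        invFun := fun x => ⟨x.1, x.2⟩
        map_add' := fun _ _ => rfl
        map_smul' := fun _ _ => rfl
        left_inv := fun _ => rfl
        right_inv := fun _ => rfl }
  have hbI : b ∈ (Submodule.span S ({b} : Set S)).restrictScalars R :=
    (Submodule.restrictScalars_mem R _ _).mpr (Submodule.mem_span_singleton_self b)
  refine ⟨a₁ * a₂, mul_ne_zero ha₁ ha₂, ?_⟩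
  intro L _ _ hgL
  rw [map_mul] at hgL
  have hu1 : IsUnit (algebraMap R L a₁) := IsUnit.mk0 _ (left_ne_zero_of_mul hgL)
  have hu2 : IsUnit (algebraMap R L a₂) := IsUnit.mk0 _ (right_ne_zero_of_mul hgL)
  have hinj := GenExactH8.subtype_baseChange_injective a₁ L hu1
    ((Submodule.span S ({b} : Set S)).restrictScalars R) hg₁'
  obtain ⟨m, hm⟩ := exists_tmul_ne_zero hg₂'
    ⟨⟨b, hbI⟩, fun k h0 => hb (a₂ ^ k) (pow_ne_zero k ha₂) (congrArg Subtype.val h0)⟩ L hu2
  intro h0
  apply hm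
  apply hinj
  rw [map_zero]
  obtain ⟨t, ht⟩ := Submodule.mem_span_singleton.mp ((Submodule.restrictScalars_mem R _ _).mp m.2)
  have h5 : (((Submodule.span S ({b} : Set S)).restrictScalars R).subtype.baseChange L)
      ((1 : L) ⊗ₜ[R] m) = (1 : L) ⊗ₜ[R] (m : S) := by
    rw [LinearMap.baseChange_tmul]
    rfl
  rw [h5, ← ht, smul_eq_mul]
  have h6 : (1 : L) ⊗ₜ[R] (t * b) = ((1 : L) ⊗ₜ[R] t) * ((1 : L) ⊗ₜ[R] b) := by
    rw [Algebra.TensorProduct.tmul_mul_tmul, one_mul]
  rw [h6, h0, mul_zero]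

/-- Domain case. -/
theorem nonred_domain {R : Type u} [CommRing R] [IsDomain R] {S : Type u} [CommRing S]
    [Algebra R S] [Algebra.FiniteType R S] (K : Type u) [Field K] [Algebra R K]
    [IsFractionRing R K] (hred : ¬ _root_.IsReduced (K ⊗[R] S)) :
    ∃ g : R, g ≠ 0 ∧ ∀ (L : Type u) [Field L] [Algebra R L], algebraMap R L g ≠ 0 →
      ¬ _root_.IsReduced (L ⊗[R] S) := by
  classical
  obtain ⟨z, hznil, hz0⟩ : ∃ z : K ⊗[R] S, IsNilpotent z ∧ z ≠ 0 := by
    by_contra hcon
    refine hred ⟨fun x hx => ?_⟩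
    by_contra hx0
    exact hcon ⟨x, hx, hx0⟩
  obtain ⟨⟨b, r⟩, hbr⟩ := IsLocalizedModule.surj (nonZeroDivisors R) (TensorProduct.mk R K S 1) z
  have hr0 : (r : R) ≠ 0 := nonZeroDivisors.ne_zero r.2
  have hrK : algebraMap R K (r : R) ≠ 0 :=
    (map_ne_zero_iff _ (IsFractionRing.injective R K)).mpr hr0
  have hw : (1 : K) ⊗ₜ[R] b = algebraMap R K (r : R) • z := by
    have h1 : (r : R) • z = (1 : K) ⊗ₜ[R] b := hbr
    rw [← h1, algebra_compatible_smul K (r : R) z]
  have hw0 : (1 : K) ⊗ₜ[R] b ≠ 0 := by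
    intro h0
    apply hz0
    rw [hw] at h0
    calc z = (algebraMap R K (r : R))⁻¹ • (algebraMap R K (r : R) • z) :=
          (inv_smul_smul₀ hrK z).symm
      _ = 0 := by rw [h0, smul_zero]
  obtain ⟨n, hn⟩ := hznil
  have hwn : (1 : K) ⊗ₜ[R] (b ^ n) = 0 := by
    have h1 : ((1 : K) ⊗ₜ[R] b) ^ n = 0 := by
      rw [hw, smul_pow, hn, smul_zero]
    rwa [Algebra.TensorProduct.tmul_pow, one_pow] at h1
  obtain ⟨r₁, hr₁⟩ := (IsLocalizedModule.eq_zero_iff (nonZeroDivisors R)
    (TensorProduct.mk R K S 1)).mp hwn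
  have hr₁0 : (r₁ : R) ≠ 0 := nonZeroDivisors.ne_zero r₁.2
  have hr₁' : (r₁ : R) • b ^ n = 0 := hr₁
  have hb : ∀ c : R, c ≠ 0 → c • b ≠ 0 := by
    intro c hc h0
    apply hw0
    exact (IsLocalizedModule.eq_zero_iff (nonZeroDivisors R) (TensorProduct.mk R K S 1)).mpr
      ⟨⟨c, mem_nonZeroDivisors_of_ne_zero hc⟩, h0⟩
  obtain ⟨g, hg, H⟩ := tmul_ne_zero_of_generic b hb
  refine ⟨(r₁ : R) * g, mul_ne_zero hr₁0 hg, ?_⟩
  intro L _ _ hgL hredL
  rw [map_mul] at hgL
  have hur : IsUnit (algebraMap R L (r₁ : R)) := IsUnit.mk0 _ (left_ne_zero_of_mul hgL)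
  have hgL' : algebraMap R L g ≠ 0 := right_ne_zero_of_mul hgL
  apply H L hgL'
  apply hredL.eq_zero
  refine ⟨n, ?_⟩
  rw [Algebra.TensorProduct.tmul_pow, one_pow]
  have h5 : algebraMap R L (r₁ : R) • ((1 : L) ⊗ₜ[R] (b ^ n)) = 0 := by
    rw [← algebra_compatible_smul L (r₁ : R), ← TensorProduct.tmul_smul, hr₁', tmul_zero]
  exact hur.smul_eq_zero.mp h5

/-- Tower case: the base ring `A` surjects (through `A₀`) ... -/
theorem nonred_tower {A : Type u} [CommRing A] (A₀ : Type u) [CommRing A₀] [IsDomain A₀]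
    [Algebra A A₀] {B : Type u} [CommRing B] [Algebra A B] [Algebra.FiniteType A B]
    (K : Type u) [Field K] [Algebra A K] [Algebra A₀ K] [IsScalarTower A A₀ K]
    [IsFractionRing A₀ K] (hred : ¬ _root_.IsReduced (K ⊗[A] B)) :
    ∃ g : A₀, g ≠ 0 ∧ ∀ (L : Type u) [Field L] [Algebra A L] [Algebra A₀ L]
      [IsScalarTower A A₀ L], algebraMap A₀ L g ≠ 0 → ¬ _root_.IsReduced (L ⊗[A] B) := by
  have hred' : ¬ _root_.IsReduced (K ⊗[A₀] (A₀ ⊗[A] B)) := fun h =>
    hred (haveI := h
      isReduced_of_injective (Algebra.TensorProduct.cancelBaseChange A A₀ A₀ K B).symm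
        (AlgEquiv.injective _))
  obtain ⟨g, hg, H⟩ := nonred_domain (R := A₀) (S := A₀ ⊗[A] B) K hred'
  refine ⟨g, hg, fun L _ _ _ _ hgL hredL => H L hgL ?_⟩
  haveI := hredL
  exact isReduced_of_injective (Algebra.TensorProduct.cancelBaseChange A A₀ A₀ L B)
    (AlgEquiv.injective _)

/-- General case: base ring whose nilradical is the kernel of `A → K`, `K` being the fraction
field of the quotient. -/
theorem nonred_general {A : Type u} [CommRing A] {B : Type u} [CommRing B] [Algebra A B]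
    [Algebra.FiniteType A B] (K : Type u) [Field K] [Algebra A K]
    (h1 : ∀ a : A, algebraMap A K a = 0 → IsNilpotent a)
    (h2 : ∀ x : K, ∃ a s : A, algebraMap A K s ≠ 0 ∧ x * algebraMap A K s = algebraMap A K a)
    (hred : ¬ _root_.IsReduced (B ⊗[A] K)) :
    ∃ g : A, algebraMap A K g ≠ 0 ∧ ∀ (L : Type u) [Field L] [Algebra A L],
      algebraMap A L g ≠ 0 → ¬ _root_.IsReduced (B ⊗[A] L) := by
  haveI : (RingHom.ker (algebraMap A K)).IsPrime := RingHom.ker_isPrime _
  letI algK : Algebra (A ⧸ RingHom.ker (algebraMap A K)) K :=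
    (RingHom.kerLift (algebraMap A K)).toAlgebra
  haveI : IsScalarTower A (A ⧸ RingHom.ker (algebraMap A K)) K :=
    IsScalarTower.of_algebraMap_eq (fun a => rfl)
  haveI : FaithfulSMul (A ⧸ RingHom.ker (algebraMap A K)) K :=
    (faithfulSMul_iff_algebraMap_injective _ _).mpr (RingHom.kerLift_injective _)
  haveI : IsFractionRing (A ⧸ RingHom.ker (algebraMap A K)) K :=
    IsFractionRing.of_field (R := A ⧸ RingHom.ker (algebraMap A K)) (K := K) (fun z => by
      obtain ⟨a, s, hs, hz⟩ := h2 z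
      refine ⟨Ideal.Quotient.mk _ a, Ideal.Quotient.mk _ s, ?_⟩
      rw [eq_div_iff (show algebraMap (A ⧸ RingHom.ker (algebraMap A K)) K
        (Ideal.Quotient.mk _ s) ≠ 0 from hs)]
      exact hz)
  have hred' : ¬ _root_.IsReduced (K ⊗[A] B) := fun h =>
    hred (haveI := h
      isReduced_of_injective (Algebra.TensorProduct.comm A B K) (AlgEquiv.injective _))
  obtain ⟨g₀, hg₀, H⟩ := nonred_tower (A₀ := A ⧸ RingHom.ker (algebraMap A K)) K hred'
  obtain ⟨g, rfl⟩ := Ideal.Quotient.mk_surjective g₀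
  refine ⟨g, fun h => hg₀ (Ideal.Quotient.eq_zero_iff_mem.mpr h), ?_⟩
  intro L _ _ hgL hredL
  have hker : ∀ a ∈ RingHom.ker (algebraMap A K), algebraMap A L a = 0 := fun a ha =>
    ((h1 a ha).map (algebraMap A L)).eq_zero
  letI algL : Algebra (A ⧸ RingHom.ker (algebraMap A K)) L :=
    (Ideal.Quotient.lift (RingHom.ker (algebraMap A K)) (algebraMap A L) hker).toAlgebra
  haveI : IsScalarTower A (A ⧸ RingHom.ker (algebraMap A K)) L :=
    IsScalarTower.of_algebraMap_eq (fun a => rfl)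
  refine H L hgL ?_
  haveI := hredL
  exact isReduced_of_injective (Algebra.TensorProduct.comm A L B) (AlgEquiv.injective _)

end Alg

section Geom

variable {X Y : Scheme.{u}} (f : X ⟶ Y)

theorem isReduced_tensor_of_isReduced_pullback {R S T : Type u} [CommRing R] [CommRing S]
    [CommRing T] [Algebra R S] [Algebra R T]
    (h : IsReduced (pullback (Spec.map (CommRingCat.ofHom (algebraMap R S)))
      (Spec.map (CommRingCat.ofHom (algebraMap R T))))) : _root_.IsReduced (S ⊗[R] T) := by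
  haveI := h
  haveI : IsReduced (Spec (CommRingCat.of (S ⊗[R] T))) :=
    isReduced_of_isOpenImmersion (pullbackSpecIso R S T).inv
  exact (affine_isReduced_iff (CommRingCat.of (S ⊗[R] T))).mp inferInstance

theorem isReduced_pullback_of_isReduced_tensor {R S T : Type u} [CommRing R] [CommRing S]
    [CommRing T] [Algebra R S] [Algebra R T] (h : _root_.IsReduced (S ⊗[R] T)) :
    IsReduced (pullback (Spec.map (CommRingCat.ofHom (algebraMap R S)))
      (Spec.map (CommRingCat.ofHom (algebraMap R T)))) := by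
  haveI : IsReduced (Spec (CommRingCat.of (S ⊗[R] T))) :=
    (affine_isReduced_iff (CommRingCat.of (S ⊗[R] T))).mpr h
  exact isReduced_of_isOpenImmersion (pullbackSpecIso R S T).hom

theorem fromSpecResidueField_eq {V : Y.Opens} (hV : IsAffineOpen V) (y : Y) (hy : y ∈ V) :
    Spec.map (Y.evaluation V y hy) ≫ hV.fromSpec = Y.fromSpecResidueField y := by
  have h1 : Y.fromSpecStalk y = Spec.map (Y.presheaf.germ V y hy) ≫ hV.fromSpec :=
    (hV.fromSpecStalk_eq_fromSpecStalk hy).symm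
  have h2 : Spec.map (Y.evaluation V y hy) =
      Spec.map (Y.residue y) ≫ Spec.map (Y.presheaf.germ V y hy) := by
    rw [← Spec.map_comp]
    rfl
  rw [h2, Category.assoc, ← h1]
  rfl

/-- The chart `Spec Γ(X, W) ×_{Spec Γ(Y, V)} Spec κ(y) ⟶ f.fiber y` of the fibre. -/
noncomputable def chart {V : Y.Opens} (hV : IsAffineOpen V) {W : X.Opens} (hW : IsAffineOpen W)
    (e : W ≤ f ⁻¹ᵁ V) (y : Y) (hy : y ∈ V) :
    pullback (Spec.map (f.appLE V W e)) (Spec.map (Y.evaluation V y hy)) ⟶ f.fiber y :=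
  pullback.map (Spec.map (f.appLE V W e)) (Spec.map (Y.evaluation V y hy)) f
    (Y.fromSpecResidueField y) hW.fromSpec (𝟙 _) hV.fromSpec
    (IsAffineOpen.SpecMap_appLE_fromSpec f hV hW e)
    ((fromSpecResidueField_eq hV y hy).trans (Category.id_comp _).symm)

instance chart_isOpenImmersion {V : Y.Opens} (hV : IsAffineOpen V) {W : X.Opens}
    (hW : IsAffineOpen W) (e : W ≤ f ⁻¹ᵁ V) (y : Y) (hy : y ∈ V) :
    IsOpenImmersion (chart f hV hW e y hy) := by
  unfold chart
  infer_instance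

theorem mem_range_chart {V : Y.Opens} (hV : IsAffineOpen V) {W : X.Opens}
    (hW : IsAffineOpen W) (e : W ≤ f ⁻¹ᵁ V) (y : Y) (hy : y ∈ V) (z : f.fiber y)
    (hz : f.fiberι y z ∈ W) : z ∈ Set.range (chart f hV hW e y hy) := by
  have hr := Scheme.Pullback.range_map (f := Spec.map (f.appLE V W e))
    (g := Spec.map (Y.evaluation V y hy)) f (Y.fromSpecResidueField y) hW.fromSpec
    (𝟙 (Spec (Y.residueField y))) hV.fromSpec
    (IsAffineOpen.SpecMap_appLE_fromSpec f hV hW e)
    ((fromSpecResidueField_eq hV y hy).trans (Category.id_comp _).symm)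
  have hz' : z ∈ pullback.fst f (Y.fromSpecResidueField y) ⁻¹' Set.range hW.fromSpec ∩
      pullback.snd f (Y.fromSpecResidueField y) ⁻¹'
        Set.range (𝟙 (Spec (Y.residueField y)) : Spec (Y.residueField y) ⟶ _) := by
    refine ⟨?_, ?_⟩
    · show f.fiberι y z ∈ Set.range hW.fromSpec
      rw [hW.range_fromSpec]
      exact hz
    · exact ⟨_, rfl⟩
  rw [← hr] at hz'
  exact hz'

theorem exists_chart_not_isReduced (y : Y) (hnr : ¬ IsReduced (f.fiber y)) {V : Y.Opens}
    (hV : IsAffineOpen V) (hy : y ∈ V) :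
    ∃ (W : X.Opens) (hW : IsAffineOpen W) (e : W ≤ f ⁻¹ᵁ V),
      ¬ IsReduced (pullback (Spec.map (f.appLE V W e)) (Spec.map (Y.evaluation V y hy))) := by
  by_contra hcon
  apply hnr
  have hall : ∀ (W : X.Opens) (hW : IsAffineOpen W) (e : W ≤ f ⁻¹ᵁ V),
      IsReduced (pullback (Spec.map (f.appLE V W e)) (Spec.map (Y.evaluation V y hy))) := by
    intro W hW e
    by_contra hc
    exact hcon ⟨W, hW, e, hc⟩
  haveI : ∀ z : f.fiber y, _root_.IsReduced ((f.fiber y).presheaf.stalk z) := by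
    intro z
    have hz : f (f.fiberι y z) = y := by
      have h0 : f.fiberι y z ∈ Set.range (f.fiberι y) := Set.mem_range_self z
      rw [f.range_fiberι y] at h0
      exact h0
    have hzV : f.fiberι y z ∈ f ⁻¹ᵁ V := by
      show f (f.fiberι y z) ∈ V
      rw [hz]
      exact hy
    obtain ⟨_, ⟨W, hW, rfl⟩, hzW, hWV⟩ := X.isBasis_affineOpens.exists_subset_of_mem_open hzV
      (f ⁻¹ᵁ V).isOpen
    have e : W ≤ f ⁻¹ᵁ V := SetLike.coe_subset_coe.mp hWV
    obtain ⟨p, hp⟩ := mem_range_chart f hV hW e y hy z hzW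
    haveI := hall W hW e
    subst hp
    exact isReduced_of_injective ((chart f hV hW e y hy).stalkMap p).hom
      (ConcreteCategory.bijective_of_isIso ((chart f hV hW e y hy).stalkMap p)).1
  exact isReduced_of_isReduced_stalk _

theorem exists_frac {V : Y.Opens} (hV : IsAffineOpen V) (y : Y) (hy : y ∈ V)
    (x : Y.residueField y) :
    ∃ a s : Γ(Y, V), (Y.evaluation V y hy).hom s ≠ 0 ∧
      x * (Y.evaluation V y hy).hom s = (Y.evaluation V y hy).hom a := by
  obtain ⟨z, rfl⟩ := IsLocalRing.residue_surjective (R := Y.presheaf.stalk y) x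
  letI : Algebra Γ(Y, V) (Y.presheaf.stalk y) :=
    TopCat.Presheaf.algebra_section_stalk Y.presheaf ⟨y, hy⟩
  haveI : IsLocalization.AtPrime (Y.presheaf.stalk y) (hV.primeIdealOf ⟨y, hy⟩).asIdeal :=
    hV.isLocalization_stalk ⟨y, hy⟩
  obtain ⟨⟨a, s⟩, has⟩ := IsLocalization.surj (hV.primeIdealOf ⟨y, hy⟩).asIdeal.primeCompl z
  refine ⟨a, s, ?_, ?_⟩
  · have hu : IsUnit (algebraMap Γ(Y, V) (Y.presheaf.stalk y) s) :=
      IsLocalization.map_units (M := (hV.primeIdealOf ⟨y, hy⟩).asIdeal.primeCompl) _ s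
    exact (hu.map (IsLocalRing.residue (Y.presheaf.stalk y))).ne_zero
  · have h3 := congrArg (IsLocalRing.residue (Y.presheaf.stalk y)) has
    rw [map_mul] at h3
    exact h3

theorem nilpotent_of_eval_eq_zero [IrreducibleSpace Y] {V : Y.Opens} (hV : IsAffineOpen V)
    (hη : genericPoint Y ∈ V) (a : Γ(Y, V))
    (h : (Y.evaluation V (genericPoint Y) hη).hom a = 0) : IsNilpotent a := by
  rw [Scheme.isNilpotent_iff_basicOpen_eq_bot_of_isCompact hV.isCompact]
  by_contra hne
  have hne' : (Y.basicOpen a : Set Y).Nonempty := by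
    by_contra hcon
    exact hne ((TopologicalSpace.Opens.not_nonempty_iff_eq_bot _).mp hcon)
  obtain ⟨w, hw⟩ := hne'
  have hmem : genericPoint Y ∈ Y.basicOpen a :=
    ((genericPoint_spec Y).specializes (Set.mem_univ w)).mem_open (Y.basicOpen a).isOpen hw
  exact (Y.evaluation_eq_zero_iff_notMem_basicOpen (genericPoint Y) hη a).mp h hmem

/-- If the generic fibre of a morphism locally of finite type to an irreducible scheme is not
reduced, then no fibre over some nonempty open is reduced. -/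
theorem main1330 {X Y : Scheme.{u}} (f : X ⟶ Y) [IrreducibleSpace ↑Y] [LocallyOfFiniteType f]
    (h : ¬ IsReduced (f.fiber (genericPoint ↑Y))) :
    ∃ V : Y.Opens, (V : Set ↑Y).Nonempty ∧ ∀ y ∈ V, ¬ IsReduced (f.fiber y) := by
  obtain ⟨_, ⟨V, hV, rfl⟩, hηV, -⟩ := Y.isBasis_affineOpens.exists_subset_of_mem_open
    (Set.mem_univ (genericPoint Y)) isOpen_univ
  obtain ⟨W, hW, e, hnr⟩ := exists_chart_not_isReduced f (genericPoint Y) h hV hηV
  letI algB : Algebra Γ(Y, V) Γ(X, W) := (f.appLE V W e).hom.toAlgebra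
  letI algK : Algebra Γ(Y, V) (Y.residueField (genericPoint Y)) :=
    (Y.evaluation V (genericPoint Y) hηV).hom.toAlgebra
  haveI : Algebra.FiniteType Γ(Y, V) Γ(X, W) :=
    HasRingHomProperty.appLE @LocallyOfFiniteType f inferInstance ⟨V, hV⟩ ⟨W, hW⟩ e
  have hnr' : ¬ _root_.IsReduced (Γ(X, W) ⊗[Γ(Y, V)] (Y.residueField (genericPoint Y))) :=
    fun hr => hnr (isReduced_pullback_of_isReduced_tensor (R := Γ(Y, V)) (S := Γ(X, W))
      (T := Y.residueField (genericPoint Y)) hr)
  obtain ⟨g, hg, H⟩ := nonred_general (A := Γ(Y, V)) (B := Γ(X, W))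
    (Y.residueField (genericPoint Y))
    (fun a ha => nilpotent_of_eval_eq_zero hV hηV a ha)
    (fun x => exists_frac hV (genericPoint Y) hηV x) hnr'
  refine ⟨Y.basicOpen g, ⟨genericPoint Y,
    (Y.evaluation_ne_zero_iff_mem_basicOpen (genericPoint Y) hηV g).mp hg⟩, ?_⟩
  intro y hy hred
  have hyV : y ∈ V := Y.basicOpen_le g hy
  letI algL : Algebra Γ(Y, V) (Y.residueField y) := (Y.evaluation V y hyV).hom.toAlgebra
  have hgL : algebraMap Γ(Y, V) (Y.residueField y) g ≠ 0 :=
    (Y.evaluation_ne_zero_iff_mem_basicOpen y hyV g).mpr hy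
  apply H (Y.residueField y) hgL
  haveI := hred
  have hP : IsReduced (pullback (Spec.map (f.appLE V W e)) (Spec.map (Y.evaluation V y hyV))) :=
    isReduced_of_isOpenImmersion (chart f hV hW e y hyV)
  exact isReduced_tensor_of_isReduced_pullback (R := Γ(Y, V)) (S := Γ(X, W))
    (T := Y.residueField y) hP

end Geom

end Groth.Agent.Lib.NonRedGenH4
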