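import Mathlib
import Groth.Prelude
import Groth.Agent.Lib.NonRedGen_helper4
import Groth.Agent.Lib.NearGeneric_helper6
import Groth.Agent.Lib.GenLift1_helper8

/-! Numbers of irreducible / connected components of fibres near the generic point.

* `nontrivial_general`: generic nonvanishing of `B ⊗[A] L` (algebraic form).
* `exists_open_subset_range`: a morphism locally of finite type to an irreducible scheme whose image
  contains the generic point has image containing a neighbourhood of the generic point.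
* `exists_open_disjoint_of_closed`: a closed subset missing the generic fibre of a quasi-compact
  morphism misses the fibres over a neighbourhood of the generic point.
* `main1328`, `main1329`.
-/

set_option autoImplicit false
set_option linter.style.haveILetI false
set_option linter.unusedVariables false
set_option backward.isDefEq.respectTransparency false
set_option maxHeartbeats 800000

universe u

open CategoryTheory CategoryTheory.Limits AlgebraicGeometry TensorProduct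

namespace Groth.Agent.Lib.FibCompGenH4

open Groth.Agent.Lib.NonRedGenH4

section Alg

theorem nontrivial_domain {R : Type u} [CommRing R] [IsDomain R] {S : Type u} [CommRing S]
    [Algebra R S] [Algebra.FiniteType R S] (K : Type u) [Field K] [Algebra R K]
    [IsFractionRing R K] (hnt : Nontrivial (K ⊗[R] S)) :
    ∃ g : R, g ≠ 0 ∧ ∀ (L : Type u) [Field L] [Algebra R L], algebraMap R L g ≠ 0 →
      Nontrivial (L ⊗[R] S) := by
  have hb : ∀ c : R, c ≠ 0 → c • (1 : S) ≠ 0 := by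
    intro c hc h0
    have h1 : (1 : K) ⊗ₜ[R] (1 : S) = 0 :=
      (IsLocalizedModule.eq_zero_iff (nonZeroDivisors R) (TensorProduct.mk R K S 1)).mpr
        ⟨⟨c, mem_nonZeroDivisors_of_ne_zero hc⟩, h0⟩
    have h2 : (1 : K ⊗[R] S) = 0 := by
      rw [Algebra.TensorProduct.one_def]
      exact h1
    exact one_ne_zero h2
  obtain ⟨g, hg, H⟩ := tmul_ne_zero_of_generic (1 : S) hb
  exact ⟨g, hg, fun L _ _ hgL => nontrivial_of_ne _ _ (H L hgL)⟩

theorem nontrivial_tower {A : Type u} [CommRing A] (A₀ : Type u) [CommRing A₀] [IsDomain A₀]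
    [Algebra A A₀] {B : Type u} [CommRing B] [Algebra A B] [Algebra.FiniteType A B]
    (K : Type u) [Field K] [Algebra A K] [Algebra A₀ K] [IsScalarTower A A₀ K]
    [IsFractionRing A₀ K] (hnt : Nontrivial (K ⊗[A] B)) :
    ∃ g : A₀, g ≠ 0 ∧ ∀ (L : Type u) [Field L] [Algebra A L] [Algebra A₀ L]
      [IsScalarTower A A₀ L], algebraMap A₀ L g ≠ 0 → Nontrivial (L ⊗[A] B) := by
  have hnt' : Nontrivial (K ⊗[A₀] (A₀ ⊗[A] B)) :=
    (Algebra.TensorProduct.cancelBaseChange A A₀ A₀ K B).toEquiv.nontrivial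
  obtain ⟨g, hg, H⟩ := nontrivial_domain (R := A₀) (S := A₀ ⊗[A] B) K hnt'
  refine ⟨g, hg, fun L _ _ _ _ hgL => ?_⟩
  haveI := H L hgL
  exact (Algebra.TensorProduct.cancelBaseChange A A₀ A₀ L B).symm.toEquiv.nontrivial

theorem nontrivial_general {A : Type u} [CommRing A] {B : Type u} [CommRing B] [Algebra A B]
    [Algebra.FiniteType A B] (K : Type u) [Field K] [Algebra A K]
    (h1 : ∀ a : A, algebraMap A K a = 0 → IsNilpotent a)
    (h2 : ∀ x : K, ∃ a s : A, algebraMap A K s ≠ 0 ∧ x * algebraMap A K s = algebraMap A K a)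
    (hnt : Nontrivial (B ⊗[A] K)) :
    ∃ g : A, algebraMap A K g ≠ 0 ∧ ∀ (L : Type u) [Field L] [Algebra A L],
      algebraMap A L g ≠ 0 → Nontrivial (B ⊗[A] L) := by
  haveI : (RingHom.ker (algebraMap A K)).IsPrime := RingHom.ker_isPrime _
  letI algK : Algebra (A ⧸ RingHom.ker (algebraMap A K)) K :=
    (RingHom.kerLift (algebraMap A K)).toAlgebra
  haveI : IsScalarTower A (A ⧸ RingHom.ker (algebraMap A K)) K :=
    IsScalarTower.of_algebraMap_eq (fun a => rfl)
  haveI : FaithfulSMul (A ⧸ RingHom.ker (algebraMap A K)) K :=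
    (faithfulSMul_iff_algebraMap_injective _ _).mpr (RingHom.kerLift_injective _)
  haveI : IsFractionRing (A ⧸ RingHom.ker (algebraMap A K)) K :=
    IsFractionRing.of_field (R := A ⧸ RingHom.ker (algebraMap A K)) (K := K) (fun z => by
      obtain ⟨a, s, hs, hz⟩ := h2 z
      refine ⟨Ideal.Quotient.mk _ a, Ideal.Quotient.mk _ s, ?_⟩
      rw [eq_div_iff (show algebraMap (A ⧸ RingHom.ker (algebraMap A K)) K
        (Ideal.Quotient.mk _ s) ≠ 0 from hs)]
      exact hz)
  have hnt' : Nontrivial (K ⊗[A] B) := (Algebra.TensorProduct.comm A K B).toEquiv.nontrivial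
  obtain ⟨g₀, hg₀, H⟩ := nontrivial_tower (A₀ := A ⧸ RingHom.ker (algebraMap A K)) K hnt'
  obtain ⟨g, rfl⟩ := Ideal.Quotient.mk_surjective g₀
  refine ⟨g, fun h => hg₀ (Ideal.Quotient.eq_zero_iff_mem.mpr h), ?_⟩
  intro L _ _ hgL
  have hker : ∀ a ∈ RingHom.ker (algebraMap A K), algebraMap A L a = 0 := fun a ha =>
    ((h1 a ha).map (algebraMap A L)).eq_zero
  letI algL : Algebra (A ⧸ RingHom.ker (algebraMap A K)) L :=
    (Ideal.Quotient.lift (RingHom.ker (algebraMap A K)) (algebraMap A L) hker).toAlgebra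
  haveI : IsScalarTower A (A ⧸ RingHom.ker (algebraMap A K)) L :=
    IsScalarTower.of_algebraMap_eq (fun a => rfl)
  haveI := H L hgL
  exact (Algebra.TensorProduct.comm A B L).toEquiv.nontrivial

theorem equivFin_of_enat_card {α : Type*} {n : ℕ} (h : ENat.card α = n) :
    Nonempty (α ≃ Fin n) := by
  haveI : Finite α := by
    rw [← ENat.card_lt_top, h]
    exact ENat.coe_lt_top n
  letI := Fintype.ofFinite α
  have h1 : ENat.card α = (Fintype.card α : ℕ∞) := ENat.card_eq_coe_fintype_card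
  rw [h] at h1
  have h2 : Fintype.card α = n := by exact_mod_cast h1.symm
  exact ⟨Fintype.equivFinOfCardEq h2⟩

end Alg

section Geom

variable {X Y : Scheme.{u}} (f : X ⟶ Y)

theorem nontrivial_tensor_of_nonempty_pullback {R S T : Type u} [CommRing R] [CommRing S]
    [CommRing T] [Algebra R S] [Algebra R T]
    (h : Nonempty ↥(pullback (Spec.map (CommRingCat.ofHom (algebraMap R S)))
      (Spec.map (CommRingCat.ofHom (algebraMap R T))))) : Nontrivial (S ⊗[R] T) := by
  obtain ⟨p⟩ := h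
  exact PrimeSpectrum.nontrivial (R := S ⊗[R] T) ((pullbackSpecIso R S T).hom p)

theorem nonempty_pullback_of_nontrivial_tensor {R S T : Type u} [CommRing R] [CommRing S]
    [CommRing T] [Algebra R S] [Algebra R T] (h : Nontrivial (S ⊗[R] T)) :
    Nonempty ↥(pullback (Spec.map (CommRingCat.ofHom (algebraMap R S)))
      (Spec.map (CommRingCat.ofHom (algebraMap R T)))) := by
  obtain ⟨p⟩ := (PrimeSpectrum.nonempty_iff_nontrivial (R := S ⊗[R] T)).mpr h
  exact ⟨(pullbackSpecIso R S T).inv p⟩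

theorem map_fiberι (y : Y) (z : f.fiber y) : f (f.fiberι y z) = y := by
  have h0 : f.fiberι y z ∈ Set.range (f.fiberι y) := Set.mem_range_self z
  rw [f.range_fiberι y] at h0
  exact h0

theorem exists_fiberι_eq (y : Y) (x : X) (hx : f x = y) : ∃ z : f.fiber y, f.fiberι y z = x := by
  have h0 : x ∈ Set.range (f.fiberι y) := by
    rw [f.range_fiberι y]
    exact hx
  exact h0

/-- If the generic point is in the image of a morphism locally of finite type, so is a
neighbourhood of it. -/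
theorem exists_open_subset_range [IrreducibleSpace ↑Y] [LocallyOfFiniteType f]
    (x₀ : X) (hx₀ : f x₀ = genericPoint Y) :
    ∃ V : Y.Opens, genericPoint Y ∈ V ∧ ∀ y ∈ V, ∃ x : X, f x = y := by
  obtain ⟨_, ⟨V, hV, rfl⟩, hηV, -⟩ := Y.isBasis_affineOpens.exists_subset_of_mem_open
    (Set.mem_univ (genericPoint Y)) isOpen_univ
  have hx₀V : x₀ ∈ f ⁻¹ᵁ V := by
    show f x₀ ∈ V
    rw [hx₀]
    exact hηV
  obtain ⟨_, ⟨W, hW, rfl⟩, hx₀W, hWV⟩ := X.isBasis_affineOpens.exists_subset_of_mem_open hx₀V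
    (f ⁻¹ᵁ V).isOpen
  have e : W ≤ f ⁻¹ᵁ V := SetLike.coe_subset_coe.mp hWV
  obtain ⟨z₀, hz₀⟩ := exists_fiberι_eq f (genericPoint Y) x₀ hx₀
  obtain ⟨p₀, -⟩ := mem_range_chart f hV hW e (genericPoint Y) hηV z₀ (by rw [hz₀]; exact hx₀W)
  letI algB : Algebra Γ(Y, V) Γ(X, W) := (f.appLE V W e).hom.toAlgebra
  letI algK : Algebra Γ(Y, V) (Y.residueField (genericPoint Y)) :=
    (Y.evaluation V (genericPoint Y) hηV).hom.toAlgebra
  haveI : Algebra.FiniteType Γ(Y, V) Γ(X, W) :=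
    HasRingHomProperty.appLE @LocallyOfFiniteType f inferInstance ⟨V, hV⟩ ⟨W, hW⟩ e
  have hnt : Nontrivial (Γ(X, W) ⊗[Γ(Y, V)] (Y.residueField (genericPoint Y))) :=
    nontrivial_tensor_of_nonempty_pullback (R := Γ(Y, V)) (S := Γ(X, W))
      (T := Y.residueField (genericPoint Y)) ⟨p₀⟩
  obtain ⟨g, hg, H⟩ := nontrivial_general (A := Γ(Y, V)) (B := Γ(X, W))
    (Y.residueField (genericPoint Y))
    (fun a ha => nilpotent_of_eval_eq_zero hV hηV a ha)
    (fun x => exists_frac hV (genericPoint Y) hηV x) hnt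
  refine ⟨Y.basicOpen g,
    (Y.evaluation_ne_zero_iff_mem_basicOpen (genericPoint Y) hηV g).mp hg, ?_⟩
  intro y hy
  have hyV : y ∈ V := Y.basicOpen_le g hy
  letI algL : Algebra Γ(Y, V) (Y.residueField y) := (Y.evaluation V y hyV).hom.toAlgebra
  have hgL : algebraMap Γ(Y, V) (Y.residueField y) g ≠ 0 :=
    (Y.evaluation_ne_zero_iff_mem_basicOpen y hyV g).mpr hy
  have hntL := H (Y.residueField y) hgL
  obtain ⟨p⟩ := nonempty_pullback_of_nontrivial_tensor (R := Γ(Y, V)) (S := Γ(X, W))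
    (T := Y.residueField y) hntL
  exact ⟨f.fiberι y (chart f hV hW e y hyV p), map_fiberι f y _⟩

/-- A closed subset missing the generic fibre of a quasi-compact morphism misses the fibres over
a neighbourhood of the generic point. -/
theorem exists_open_disjoint_of_closed [IrreducibleSpace ↑Y] [QuasiCompact f]
    (Z : Set X) (hZ : IsClosed Z) (hmiss : ∀ x ∈ Z, f x ≠ genericPoint Y) :
    ∃ V : Y.Opens, genericPoint Y ∈ V ∧ ∀ x ∈ Z, f x ∉ V := by
  by_contra hcon
  have hcon' : ∀ V : Y.Opens, genericPoint Y ∈ V → ∃ x ∈ Z, f x ∈ V := by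
    intro V hV
    by_contra hc
    exact hcon ⟨V, hV, fun x hx hfx => hc ⟨x, hx, hfx⟩⟩
  obtain ⟨I, hI⟩ : ∃ I : X.IdealSheafData, (I.support : Set X) = Z :=
    ⟨Scheme.IdealSheafData.vanishingIdeal ⟨Z, hZ⟩,
      Scheme.IdealSheafData.coe_support_vanishingIdeal _⟩
  have hr : Set.range I.subschemeι = Z := by rw [I.range_subschemeι, hI]
  haveI : IsDominant (I.subschemeι ≫ f) := ⟨by
    rw [DenseRange, dense_iff_inter_open]
    intro O hO hOne
    obtain ⟨w, hw⟩ := hOne
    have hηO : genericPoint Y ∈ O :=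
      ((genericPoint_spec Y).specializes (Set.mem_univ w)).mem_open hO hw
    obtain ⟨x, hxZ, hfx⟩ := hcon' ⟨O, hO⟩ hηO
    rw [← hr] at hxZ
    obtain ⟨t, rfl⟩ := hxZ
    exact ⟨f (I.subschemeι t), hfx, t, rfl⟩⟩
  obtain ⟨t, ht⟩ := GenLiftH8.mem_range_of_generic (I.subschemeι ≫ f) (genericPoint Y)
    (fun w hw => (hw.antisymm ((genericPoint_spec Y).specializes (Set.mem_univ w))).eq)
  have htZ : I.subschemeι t ∈ Z := by
    rw [← hr]
    exact Set.mem_range_self t
  have ht' : f (I.subschemeι t) = genericPoint Y := ht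
  exact hmiss _ htZ ht'

theorem exists_open_forall_finite [IrreducibleSpace ↑Y] {α : Type*} [Finite α]
    (P : α → Y → Prop)
    (h : ∀ i, ∃ V : Y.Opens, genericPoint Y ∈ V ∧ ∀ y ∈ V, P i y) :
    ∃ V : Y.Opens, genericPoint Y ∈ V ∧ ∀ y ∈ V, ∀ i, P i y := by
  choose V hV hP using h
  refine ⟨⟨⋂ i, (V i : Set Y), isOpen_iInter_of_finite (fun i => (V i).2)⟩, ?_, ?_⟩
  · exact Set.mem_iInter.mpr hV
  · intro y hy i
    exact hP i y (Set.mem_iInter.mp hy i)

section Core

variable [IrreducibleSpace ↑Y] [LocallyOfFiniteType f] [QuasiCompact f] (n : ℕ)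
  (C : Fin n → Set ↑(f.fiber (genericPoint ↑Y))) (hCc : ∀ i, IsClosed (C i))

omit [LocallyOfFiniteType f] [QuasiCompact f] in
include hCc in
theorem mem_of_fiberι_mem_closure (i : Fin n) (z : ↑(f.fiber (genericPoint ↑Y)))
    (hz : f.fiberι (genericPoint ↑Y) z ∈ closure ((f.fiberι (genericPoint ↑Y)) '' C i)) :
    z ∈ C i := by
  have h1 := (f.fiberι (genericPoint ↑Y)).isEmbedding.isInducing.closure_eq_preimage_closure_image
    (C i)
  have h2 : z ∈ closure (C i) := by
    rw [h1]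
    exact hz
  rwa [(hCc i).closure_eq] at h2

include hCc in
theorem core_conn (hcov : ⋃ i, C i = Set.univ)
    (hdisj : ∀ i j, i ≠ j → Disjoint (C i) (C j)) (hne : ∀ i, (C i).Nonempty) :
    ∃ V : Y.Opens, genericPoint Y ∈ V ∧ ∀ y ∈ V,
      (n : ℕ∞) ≤ ENat.card (_root_.ConnectedComponents ↑(f.fiber y)) := by
  classical
  obtain ⟨Z, hZdef⟩ : ∃ Z : Fin n → Set X,
      Z = fun i => closure ((f.fiberι (genericPoint ↑Y)) '' C i) := ⟨_, rfl⟩
  have hZi : ∀ i, Z i = closure ((f.fiberι (genericPoint ↑Y)) '' C i) := fun i => by rw [hZdef]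
  have hZc : ∀ i, IsClosed (Z i) := fun i => by rw [hZi]; exact isClosed_closure
  have ha : ∀ i (z : ↑(f.fiber (genericPoint ↑Y))),
      f.fiberι (genericPoint ↑Y) z ∈ Z i → z ∈ C i := fun i z hz =>
    mem_of_fiberι_mem_closure f n C hCc i z (by rw [← hZi]; exact hz)
  -- covering
  obtain ⟨V₁, hV₁ne, hV₁⟩ := Groth.Agent.Lib.NearGenericH6.main1299 f C hCc hcov
  have hηV₁ : genericPoint Y ∈ V₁ := by
    obtain ⟨w, hw⟩ := hV₁ne
    exact ((genericPoint_spec Y).specializes (Set.mem_univ w)).mem_open V₁.2 hw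
  have hcovy : ∀ y ∈ V₁, ∀ z : ↑(f.fiber y), ∃ i, f.fiberι y z ∈ Z i := by
    intro y hy z
    have hz : z ∈ ⋃ i, (f.fiberι y) ⁻¹' closure ((f.fiberι (genericPoint ↑Y)) '' C i) := by
      rw [hV₁ y hy]
      trivial
    obtain ⟨i, hi⟩ := Set.mem_iUnion.mp hz
    exact ⟨i, by rw [hZi]; exact hi⟩
  -- disjointness
  have hb : ∀ ij : Fin n × Fin n, ∃ V : Y.Opens, genericPoint Y ∈ V ∧ ∀ y ∈ V,
      (ij.1 ≠ ij.2 → ∀ x, x ∈ Z ij.1 → x ∈ Z ij.2 → f x ≠ y) := by
    rintro ⟨i, j⟩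
    by_cases hij : i = j
    · exact ⟨⊤, trivial, fun y _ h => absurd hij h⟩
    · obtain ⟨V, hηV, hV⟩ := exists_open_disjoint_of_closed f (Z i ∩ Z j)
        ((hZc i).inter (hZc j)) (by
          intro x hx hfx
          obtain ⟨z, rfl⟩ := exists_fiberι_eq f (genericPoint Y) x hfx
          exact (hdisj i j hij).le_bot ⟨ha i z hx.1, ha j z hx.2⟩)
      refine ⟨V, hηV, fun y hy _ x hxi hxj hfx => hV x ⟨hxi, hxj⟩ ?_⟩
      rw [hfx]
      exact hy
  obtain ⟨V₂, hηV₂, hV₂⟩ := exists_open_forall_finite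
    (fun (ij : Fin n × Fin n) (y : Y) =>
      (ij.1 ≠ ij.2 → ∀ x, x ∈ Z ij.1 → x ∈ Z ij.2 → f x ≠ y)) hb
  -- nonemptiness
  have hd : ∀ i : Fin n, ∃ V : Y.Opens, genericPoint Y ∈ V ∧ ∀ y ∈ V, ∃ x ∈ Z i, f x = y := by
    intro i
    obtain ⟨z, hz⟩ := hne i
    obtain ⟨I, hI⟩ : ∃ I : X.IdealSheafData, (I.support : Set X) = Z i :=
      ⟨Scheme.IdealSheafData.vanishingIdeal ⟨Z i, hZc i⟩,
        Scheme.IdealSheafData.coe_support_vanishingIdeal _⟩
    have hr : Set.range I.subschemeι = Z i := by rw [I.range_subschemeι, hI]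
    have hxZ : f.fiberι (genericPoint ↑Y) z ∈ Z i := by
      rw [hZi]
      exact subset_closure ⟨z, hz, rfl⟩
    rw [← hr] at hxZ
    obtain ⟨t, ht⟩ := hxZ
    have hft : (I.subschemeι ≫ f) t = genericPoint Y := by
      show f (I.subschemeι t) = genericPoint Y
      rw [ht]
      exact map_fiberι f _ z
    obtain ⟨V, hηV, hV⟩ := exists_open_subset_range (I.subschemeι ≫ f) t hft
    refine ⟨V, hηV, fun y hy => ?_⟩
    obtain ⟨t', ht'⟩ := hV y hy
    refine ⟨I.subschemeι t', ?_, ht'⟩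
    rw [← hr]
    exact Set.mem_range_self t'
  obtain ⟨V₃, hηV₃, hV₃⟩ := exists_open_forall_finite
    (fun (i : Fin n) (y : Y) => ∃ x ∈ Z i, f x = y) hd
  refine ⟨V₁ ⊓ V₂ ⊓ V₃, ⟨⟨hηV₁, hηV₂⟩, hηV₃⟩, ?_⟩
  rintro y ⟨⟨hy₁, hy₂⟩, hy₃⟩
  -- the map to `Fin n`
  obtain ⟨φ, hφ⟩ : ∃ φ : ↑(f.fiber y) → Fin n, ∀ z, f.fiberι y z ∈ Z (φ z) :=
    ⟨fun z => Classical.choose (hcovy y hy₁ z), fun z => Classical.choose_spec (hcovy y hy₁ z)⟩
  have huniq : ∀ z i, f.fiberι y z ∈ Z i → φ z = i := by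
    intro z i hzi
    by_contra hne'
    exact hV₂ y hy₂ (φ z, i) hne' (f.fiberι y z) (hφ z) hzi (map_fiberι f y z)
  have hφcont : Continuous φ := by
    rw [continuous_iff_isClosed]
    intro s _
    have hs : φ ⁻¹' s = ⋃ i ∈ s, (f.fiberι y) ⁻¹' Z i := by
      ext z
      simp only [Set.mem_preimage, Set.mem_iUnion, exists_prop]
      constructor
      · intro hz
        exact ⟨φ z, hz, hφ z⟩
      · rintro ⟨i, his, hzi⟩
        rw [huniq z i hzi]
        exact his
    rw [hs]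
    exact Set.Finite.isClosed_biUnion s.toFinite
      (fun i _ => (hZc i).preimage (f.fiberι y).continuous)
  have hφsurj : Function.Surjective φ := by
    intro i
    obtain ⟨x, hxZ, hfx⟩ := hV₃ y hy₃ i
    obtain ⟨z, rfl⟩ := exists_fiberι_eq f y x hfx
    exact ⟨z, huniq z i hxZ⟩
  have hlsurj : Function.Surjective hφcont.connectedComponentsLift := by
    intro i
    obtain ⟨z, hz⟩ := hφsurj i
    exact ⟨(z : _root_.ConnectedComponents ↑(f.fiber y)), by
      rw [hφcont.connectedComponentsLift_apply_coe, hz]⟩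
  have hle := ENat.card_le_card_of_injective (Function.injective_surjInv hlsurj)
  simpa using hle

include hCc in
theorem core_irr (hcov : ⋃ i, C i = Set.univ)
    (hpriv : ∀ i, ∃ z ∈ C i, ∀ j, j ≠ i → z ∉ C j) :
    ∃ V : Y.Opens, genericPoint Y ∈ V ∧ ∀ y ∈ V,
      (n : ℕ∞) ≤ (irreducibleComponents ↑(f.fiber y)).encard := by
  classical
  obtain ⟨Z, hZdef⟩ : ∃ Z : Fin n → Set X,
      Z = fun i => closure ((f.fiberι (genericPoint ↑Y)) '' C i) := ⟨_, rfl⟩
  have hZi : ∀ i, Z i = closure ((f.fiberι (genericPoint ↑Y)) '' C i) := fun i => by rw [hZdef]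
  have hZc : ∀ i, IsClosed (Z i) := fun i => by rw [hZi]; exact isClosed_closure
  have ha : ∀ i (z : ↑(f.fiber (genericPoint ↑Y))),
      f.fiberι (genericPoint ↑Y) z ∈ Z i → z ∈ C i := fun i z hz =>
    mem_of_fiberι_mem_closure f n C hCc i z (by rw [← hZi]; exact hz)
  obtain ⟨V₁, hV₁ne, hV₁⟩ := Groth.Agent.Lib.NearGenericH6.main1299 f C hCc hcov
  have hηV₁ : genericPoint Y ∈ V₁ := by
    obtain ⟨w, hw⟩ := hV₁ne
    exact ((genericPoint_spec Y).specializes (Set.mem_univ w)).mem_open V₁.2 hw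
  have hcovy : ∀ y ∈ V₁, ∀ z : ↑(f.fiber y), ∃ i, f.fiberι y z ∈ Z i := by
    intro y hy z
    have hz : z ∈ ⋃ i, (f.fiberι y) ⁻¹' closure ((f.fiberι (genericPoint ↑Y)) '' C i) := by
      rw [hV₁ y hy]
      trivial
    obtain ⟨i, hi⟩ := Set.mem_iUnion.mp hz
    exact ⟨i, by rw [hZi]; exact hi⟩
  -- private points
  have hd : ∀ i : Fin n, ∃ V : Y.Opens, genericPoint Y ∈ V ∧ ∀ y ∈ V,
      ∃ x : X, f x = y ∧ ∀ j, j ≠ i → x ∉ Z j := by
    intro i
    obtain ⟨z, hzi, hzj⟩ := hpriv i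
    have hUo : IsOpen (⋃ j ∈ {j : Fin n | j ≠ i}, Z j)ᶜ :=
      (Set.Finite.isClosed_biUnion (Set.toFinite _) (fun j _ => hZc j)).isOpen_compl
    have hxU : f.fiberι (genericPoint ↑Y) z ∈ (⋃ j ∈ {j : Fin n | j ≠ i}, Z j)ᶜ := by
      intro hmem
      simp only [Set.mem_iUnion, Set.mem_setOf_eq, exists_prop] at hmem
      obtain ⟨j, hji, hzZ⟩ := hmem
      exact hzj j hji (ha j z hzZ)
    obtain ⟨U, hU⟩ : ∃ U : X.Opens, (U : Set X) = (⋃ j ∈ {j : Fin n | j ≠ i}, Z j)ᶜ :=
      ⟨⟨_, hUo⟩, rfl⟩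
    have hxU' : f.fiberι (genericPoint ↑Y) z ∈ U := by
      show f.fiberι (genericPoint ↑Y) z ∈ (U : Set X)
      rw [hU]
      exact hxU
    have hft : (U.ι ≫ f) ⟨f.fiberι (genericPoint ↑Y) z, hxU'⟩ = genericPoint Y :=
      map_fiberι f _ z
    obtain ⟨V, hηV, hV⟩ := exists_open_subset_range (U.ι ≫ f) ⟨_, hxU'⟩ hft
    refine ⟨V, hηV, fun y hy => ?_⟩
    obtain ⟨t', ht'⟩ := hV y hy
    refine ⟨U.ι t', ht', fun j hji hmem => ?_⟩
    have h1 : U.ι t' ∈ (U : Set X) := t'.2
    rw [hU] at h1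
    exact h1 (Set.mem_biUnion (show j ∈ {j : Fin n | j ≠ i} from hji) hmem)
  obtain ⟨V₃, hηV₃, hV₃⟩ := exists_open_forall_finite
    (fun (i : Fin n) (y : Y) => ∃ x : X, f x = y ∧ ∀ j, j ≠ i → x ∉ Z j) hd
  refine ⟨V₁ ⊓ V₃, ⟨hηV₁, hηV₃⟩, ?_⟩
  rintro y ⟨hy₁, hy₃⟩
  -- points `w i` of the fibre
  have hw : ∀ i : Fin n, ∃ w : ↑(f.fiber y), f.fiberι y w ∈ Z i ∧
      ∀ j, j ≠ i → f.fiberι y w ∉ Z j := by
    intro i
    obtain ⟨x, hfx, hxj⟩ := hV₃ y hy₃ i
    obtain ⟨w, rfl⟩ := exists_fiberι_eq f y x hfx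
    obtain ⟨k, hk⟩ := hcovy y hy₁ w
    have hki : k = i := by
      by_contra hne'
      exact hxj k hne' hk
    exact ⟨w, hki ▸ hk, hxj⟩
  choose w hwi hwj using hw
  have hsub : ∀ i, irreducibleComponent (w i) ⊆ (f.fiberι y) ⁻¹' Z i := by
    intro i
    have hirr : IsIrreducible (irreducibleComponent (w i)) := isIrreducible_irreducibleComponent
    have hD2 : IsClosed ((f.fiberι y) ⁻¹' (⋃ j ∈ {j : Fin n | j ≠ i}, Z j)) :=
      (Set.Finite.isClosed_biUnion (Set.toFinite _) (fun j _ => hZc j)).preimage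
        (f.fiberι y).continuous
    have hcov2 : irreducibleComponent (w i) ⊆ (f.fiberι y) ⁻¹' Z i ∪
        (f.fiberι y) ⁻¹' (⋃ j ∈ {j : Fin n | j ≠ i}, Z j) := by
      intro z _
      obtain ⟨k, hk⟩ := hcovy y hy₁ z
      by_cases hki : k = i
      · exact Or.inl (hki ▸ hk)
      · exact Or.inr (Set.mem_biUnion (show k ∈ {j : Fin n | j ≠ i} from hki) hk)
    rcases isPreirreducible_iff_isClosed_union_isClosed.mp hirr.isPreirreducible _ _
      ((hZc i).preimage (f.fiberι y).continuous) hD2 hcov2 with h1 | h1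
    · exact h1
    · exfalso
      have h2 := h1 (mem_irreducibleComponent (x := w i))
      simp only [Set.mem_preimage, Set.mem_iUnion, Set.mem_setOf_eq, exists_prop] at h2
      obtain ⟨j, hji, hmem⟩ := h2
      exact hwj i j hji hmem
  have hinj : Function.Injective (fun i : Fin n =>
      (⟨irreducibleComponent (w i), irreducibleComponent_mem_irreducibleComponents (w i)⟩ :
        ↥(irreducibleComponents ↑(f.fiber y)))) := by
    intro i j hij
    by_contra hne'
    have h1 : irreducibleComponent (w i) = irreducibleComponent (w j) := congrArg Subtype.val hij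
    have h2 : w j ∈ (f.fiberι y) ⁻¹' Z i := hsub i (h1 ▸ mem_irreducibleComponent (x := w j))
    exact hwj j i hne' h2
  have hle := ENat.card_le_card_of_injective hinj
  simpa using hle

end Core

/-- S1329 -/
theorem main1329 [IrreducibleSpace ↑Y] [LocallyOfFiniteType f] [QuasiCompact f] (n : ℕ)
    (h : ENat.card (_root_.ConnectedComponents ↑(f.fiber (genericPoint ↑Y))) = n) :
    ∃ V : Y.Opens, (V : Set ↑Y).Nonempty ∧ ∀ y ∈ V,
      (n : ℕ∞) ≤ ENat.card (_root_.ConnectedComponents ↑(f.fiber y)) := by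
  obtain ⟨e⟩ := equivFin_of_enat_card h
  obtain ⟨V, hηV, hV⟩ := core_conn f n
    (fun i => (fun z : ↑(f.fiber (genericPoint ↑Y)) =>
      (z : _root_.ConnectedComponents ↑(f.fiber (genericPoint ↑Y)))) ⁻¹' {e.symm i})
    (fun i => by
      obtain ⟨x, hx⟩ := ConnectedComponents.surjective_coe (e.symm i)
      rw [← hx]
      have := connectedComponents_preimage_singleton (x := x)
      rw [this]
      exact isClosed_connectedComponent)
    (Set.eq_univ_of_forall fun z => Set.mem_iUnion.mpr ⟨e (z : _root_.ConnectedComponents _), by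
      simp⟩)
    (fun i j hij => Set.disjoint_left.mpr fun z hz1 hz2 =>
      hij (e.symm.injective ((show _ = e.symm i from hz1).symm.trans (show _ = e.symm j from hz2))))
    (fun i => by
      obtain ⟨x, hx⟩ := ConnectedComponents.surjective_coe (e.symm i)
      exact ⟨x, hx⟩)
  exact ⟨V, ⟨_, hηV⟩, hV⟩

/-- S1328 -/
theorem main1328 [IrreducibleSpace ↑Y] [LocallyOfFiniteType f] [QuasiCompact f] (n : ℕ)
    (h : (irreducibleComponents ↑(f.fiber (genericPoint ↑Y))).encard = n) :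
    ∃ V : Y.Opens, (V : Set ↑Y).Nonempty ∧ ∀ y ∈ V,
      (n : ℕ∞) ≤ (irreducibleComponents ↑(f.fiber y)).encard := by
  obtain ⟨e⟩ := equivFin_of_enat_card
    (α := ↥(irreducibleComponents ↑(f.fiber (genericPoint ↑Y)))) (n := n) h
  have hCc : ∀ i, IsClosed ((e.symm i).1) := fun i =>
    isClosed_of_mem_irreducibleComponents _ (e.symm i).2
  obtain ⟨V, hηV, hV⟩ := core_irr f n (fun i => (e.symm i).1) hCc
    (Set.eq_univ_of_forall fun z => Set.mem_iUnion.mpr
      ⟨e ⟨irreducibleComponent z, irreducibleComponent_mem_irreducibleComponents z⟩, by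
        simp only [Equiv.symm_apply_apply]
        exact mem_irreducibleComponent⟩)
    (fun i => by
      have hirr : IsIrreducible (e.symm i).1 := (e.symm i).2.1
      have hgen := hirr.isGenericPoint_genericPoint (hCc i)
      refine ⟨hirr.genericPoint, hgen.mem, fun j hji hmem => hji ?_⟩
      have hsub : (e.symm i).1 ⊆ (e.symm j).1 := by
        rw [← hgen.def]
        exact (hCc j).closure_subset_iff.mpr (Set.singleton_subset_iff.mpr hmem)
      have heq : (e.symm i).1 = (e.symm j).1 :=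
        (e.symm i).2.eq_of_subset (e.symm j).2.1 hsub
      exact (e.symm.injective (Subtype.ext heq)).symm)
  exact ⟨V, ⟨_, hηV⟩, hV⟩

end Geom

end Groth.Agent.Lib.FibCompGenH4
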