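import Mathlib
import Groth.Prelude
import Groth.Agent.Lib.FibCompGen_helper4

/-! Non geometric reducedness of the generic fibre spreads to nearby fibres. -/

set_option autoImplicit false
set_option linter.style.haveILetI false
set_option linter.unusedVariables false
set_option backward.isDefEq.respectTransparency false
set_option maxHeartbeats 800000

universe u

open CategoryTheory CategoryTheory.Limits AlgebraicGeometry TensorProduct

namespace Groth.Agent.Lib.GeomRedGenH4

open Groth.Agent.Lib.NonRedGenH4 Groth.Agent.Lib.FibCompGenH4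

section Alg

/-- Over a domain `R` with a field `Ω` containing it: `1 ⊗ m = 0` in `Ω ⊗[R] M` forces `m` to be
torsion. -/
theorem exists_smul_eq_zero_of_tmul_eq_zero {R : Type u} [CommRing R] [IsDomain R] (Ω : Type u)
    [Field Ω] [Algebra R Ω] (hinj : Function.Injective (algebraMap R Ω)) {M : Type u}
    [AddCommGroup M] [Module R M] (m : M) (h : (1 : Ω) ⊗ₜ[R] m = 0) :
    ∃ r : R, r ≠ 0 ∧ r • m = 0 := by
  letI algK : Algebra (FractionRing R) Ω := (IsFractionRing.lift hinj).toAlgebra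
  haveI : IsScalarTower R (FractionRing R) Ω :=
    IsScalarTower.of_algebraMap_eq (fun r => (IsFractionRing.lift_algebraMap hinj r).symm)
  haveI : FaithfulSMul (FractionRing R) Ω :=
    (faithfulSMul_iff_algebraMap_injective _ _).mpr (RingHom.injective _)
  have h1 : (TensorProduct.AlgebraTensorModule.cancelBaseChange R (FractionRing R)
      (FractionRing R) Ω M)
      ((1 : Ω) ⊗ₜ[FractionRing R] ((1 : FractionRing R) ⊗ₜ[R] m)) = (1 : Ω) ⊗ₜ[R] m := by
    rw [TensorProduct.AlgebraTensorModule.cancelBaseChange_tmul, one_smul]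
  have h2 : (1 : Ω) ⊗ₜ[FractionRing R] ((1 : FractionRing R) ⊗ₜ[R] m) = 0 := by
    apply (TensorProduct.AlgebraTensorModule.cancelBaseChange R (FractionRing R)
      (FractionRing R) Ω M).injective
    rw [h1, h, map_zero]
  have h3 : (1 : FractionRing R) ⊗ₜ[R] m = 0 := by
    apply Module.Flat.tensorProduct_mk_injective (FractionRing R) (FractionRing R ⊗[R] M) Ω
    rw [TensorProduct.mk_apply, h2, map_zero]
  obtain ⟨r, hr⟩ := (IsLocalizedModule.eq_zero_iff (nonZeroDivisors R)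
    (TensorProduct.mk R (FractionRing R) M 1)).mp h3
  exact ⟨r, nonZeroDivisors.ne_zero r.2, hr⟩

theorem nonred_domain' {R : Type u} [CommRing R] [IsDomain R] {S : Type u} [CommRing S]
    [Algebra R S] [Algebra.FiniteType R S] (Ω : Type u) [Field Ω] [Algebra R Ω]
    (hinj : Function.Injective (algebraMap R Ω)) (b : S)
    (hb0 : (1 : Ω) ⊗ₜ[R] b ≠ 0) (hbn : IsNilpotent ((1 : Ω) ⊗ₜ[R] b)) :
    ∃ g : R, g ≠ 0 ∧ ∀ (L : Type u) [Field L] [Algebra R L], algebraMap R L g ≠ 0 →
      ¬ _root_.IsReduced (L ⊗[R] S) := by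
  obtain ⟨n, hn⟩ := hbn
  rw [Algebra.TensorProduct.tmul_pow, one_pow] at hn
  obtain ⟨r₁, hr₁0, hr₁⟩ := exists_smul_eq_zero_of_tmul_eq_zero Ω hinj (b ^ n) hn
  have hb : ∀ c : R, c ≠ 0 → c • b ≠ 0 := by
    intro c hc h0
    apply hb0
    have hcΩ : algebraMap R Ω c ≠ 0 := (map_ne_zero_iff _ hinj).mpr hc
    calc (1 : Ω) ⊗ₜ[R] b = ((algebraMap R Ω c)⁻¹ * algebraMap R Ω c) ⊗ₜ[R] b := by
          rw [inv_mul_cancel₀ hcΩ]
      _ = (c • (algebraMap R Ω c)⁻¹) ⊗ₜ[R] b := by
          rw [mul_comm, ← Algebra.smul_def]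
      _ = (algebraMap R Ω c)⁻¹ ⊗ₜ[R] (c • b) := TensorProduct.smul_tmul _ _ _
      _ = 0 := by rw [h0, tmul_zero]
  obtain ⟨g, hg, H⟩ := tmul_ne_zero_of_generic b hb
  refine ⟨r₁ * g, mul_ne_zero hr₁0 hg, ?_⟩
  intro L _ _ hgL hredL
  rw [map_mul] at hgL
  have hur : IsUnit (algebraMap R L r₁) := IsUnit.mk0 _ (left_ne_zero_of_mul hgL)
  have hgL' : algebraMap R L g ≠ 0 := right_ne_zero_of_mul hgL
  apply H L hgL'
  apply hredL.eq_zero
  refine ⟨n, ?_⟩
  rw [Algebra.TensorProduct.tmul_pow, one_pow]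
  have h5 : algebraMap R L r₁ • ((1 : L) ⊗ₜ[R] (b ^ n)) = 0 := by
    rw [← algebra_compatible_smul L r₁, ← TensorProduct.tmul_smul, hr₁, tmul_zero]
  exact hur.smul_eq_zero.mp h5

/-- If `Ω ⊗[A] B` is not reduced for a field `Ω` over `A`, the failure is witnessed over a finitely
generated subalgebra `A'` of `Ω`, and spreads out over a nonempty open of `Spec A'`. -/
theorem exists_subalgebra_nonred {A : Type u} [CommRing A] {B : Type u} [CommRing B]
    [Algebra A B] [Algebra.FiniteType A B] (Ω : Type u) [Field Ω] [Algebra A Ω]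
    (hred : ¬ _root_.IsReduced (Ω ⊗[A] B)) :
    ∃ A' : Subalgebra A Ω, A'.FG ∧ ∃ g : A', g ≠ 0 ∧
      ∀ (L : Type u) [Field L] [Algebra A L] [Algebra A' L] [IsScalarTower A A' L],
        algebraMap A' L g ≠ 0 → ¬ _root_.IsReduced (L ⊗[A] B) := by
  classical
  obtain ⟨x, hxnil, hx0⟩ : ∃ x : Ω ⊗[A] B, IsNilpotent x ∧ x ≠ 0 := by
    by_contra hcon
    refine hred ⟨fun x hx => ?_⟩
    by_contra hx0
    exact hcon ⟨x, hx, hx0⟩
  obtain ⟨T, hT⟩ := TensorProduct.exists_finset x
  obtain ⟨A', hA'⟩ : ∃ A' : Subalgebra A Ω,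
      A' = Algebra.adjoin A ((T.image Prod.fst : Finset Ω) : Set Ω) := ⟨_, rfl⟩
  have hfg : A'.FG := by
    rw [hA']
    exact Subalgebra.fg_adjoin_finset _
  have hmem : ∀ i ∈ T, i.1 ∈ A' := by
    intro i hi
    rw [hA']
    exact Algebra.subset_adjoin (Finset.mem_coe.mpr (Finset.mem_image_of_mem _ hi))
  obtain ⟨b, hb⟩ : ∃ b : A' ⊗[A] B,
      b = ∑ i ∈ T.attach, (⟨i.1.1, hmem i.1 i.2⟩ : A') ⊗ₜ[A] i.1.2 := ⟨_, rfl⟩
  have he : (Algebra.TensorProduct.cancelBaseChange A A' A' Ω B) ((1 : Ω) ⊗ₜ[A'] b) = x := by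
    rw [hT, hb, TensorProduct.tmul_sum, map_sum]
    rw [← Finset.sum_attach T (fun i => i.1 ⊗ₜ[A] i.2)]
    refine Finset.sum_congr rfl (fun i _ => ?_)
    rw [Algebra.TensorProduct.cancelBaseChange_tmul]
    congr 1
    rw [Subalgebra.smul_def, smul_eq_mul, mul_one]
  have hb0 : (1 : Ω) ⊗ₜ[A'] b ≠ 0 := fun h0 => hx0 (by rw [← he, h0, map_zero])
  have hbn : IsNilpotent ((1 : Ω) ⊗ₜ[A'] b) := by
    obtain ⟨n, hn⟩ := hxnil
    refine ⟨n, (Algebra.TensorProduct.cancelBaseChange A A' A' Ω B).injective ?_⟩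
    rw [map_pow, he, hn, map_zero]
  have hinj : Function.Injective (algebraMap A' Ω) := Subtype.val_injective
  obtain ⟨g, hg, H⟩ := nonred_domain' (R := A') (S := A' ⊗[A] B) Ω hinj b hb0 hbn
  refine ⟨A', hfg, g, hg, fun L _ _ _ _ hgL hredL => H L hgL ?_⟩
  haveI := hredL
  exact isReduced_of_injective (Algebra.TensorProduct.cancelBaseChange A A' A' L B)
    (AlgEquiv.injective _)

end Alg

section Geom

variable {X Y : Scheme.{u}} (f : X ⟶ Y)

/-- Extract a field-valued point over `y` with non-reduced base change. -/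
theorem exists_point_not_isReduced (y : Y)
    (h : ¬ GeometricallyReduced (f.fiberToSpecResidueField y)) :
    ∃ (Ω : Type u) (_ : Field Ω) (g : Spec (CommRingCat.of Ω) ⟶ Y),
      (∀ s, g s = y) ∧ ¬ IsReduced (pullback f g) := by
  have h1 : ∃ (Ω : Type u) (_ : Field Ω) (t : Spec (CommRingCat.of Ω) ⟶ Spec (Y.residueField y)),
      ¬ IsReduced (pullback (f.fiberToSpecResidueField y) t) := by
    by_contra hcon
    apply h
    rw [geometricallyReduced_iff, geometrically_iff_of_isClosedUnderIsomorphisms]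
    intro K _ t
    by_contra hc
    exact hcon ⟨K, inferInstance, t, hc⟩
  obtain ⟨Ω, _, t, ht⟩ := h1
  refine ⟨Ω, inferInstance, t ≫ Y.fromSpecResidueField y, fun s => ?_, fun hred => ht ?_⟩
  · rw [Scheme.Hom.comp_apply, Scheme.fromSpecResidueField_apply]
  · haveI := hred
    exact isReduced_of_isOpenImmersion
      (pullbackLeftPullbackSndIso f (Y.fromSpecResidueField y) t).hom

/-- A field-valued point with non-reduced base change shows the fibre is not geometrically
reduced. -/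
theorem not_geomRed_of_pullback {L : Type u} [Field L] (g : Spec (CommRingCat.of L) ⟶ Y)
    (hnr : ¬ IsReduced (pullback f g)) :
    ¬ GeometricallyReduced (f.fiberToSpecResidueField (g (IsLocalRing.closedPoint L))) := by
  intro hgr
  apply hnr
  have hg : Spec.map ((Scheme.SpecToEquivOfField L Y) g).2 ≫
      Y.fromSpecResidueField ((Scheme.SpecToEquivOfField L Y) g).1 = g :=
    (Scheme.SpecToEquivOfField L Y).symm_apply_apply g
  have hred : IsReduced (pullback
      (pullback.snd f (Y.fromSpecResidueField ((Scheme.SpecToEquivOfField L Y) g).1))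
      (Spec.map ((Scheme.SpecToEquivOfField L Y) g).2)) :=
    pullback_of_geometrically hgr.geometrically_isReduced L _
  haveI : IsReduced (pullback f (Spec.map ((Scheme.SpecToEquivOfField L Y) g).2 ≫
      Y.fromSpecResidueField ((Scheme.SpecToEquivOfField L Y) g).1)) := by
    haveI := hred
    exact isReduced_of_isOpenImmersion
      (pullbackLeftPullbackSndIso f (Y.fromSpecResidueField _)
        (Spec.map ((Scheme.SpecToEquivOfField L Y) g).2)).inv
  exact isReduced_of_isOpenImmersion (pullback.congrHom rfl hg.symm).hom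

theorem exists_factor {V : Y.Opens} (hV : IsAffineOpen V) {Ω : Type u} [Field Ω]
    (g : Spec (CommRingCat.of Ω) ⟶ Y) (hg : ∀ s, g s ∈ V) :
    ∃ ψ : Γ(Y, V) ⟶ CommRingCat.of Ω, Spec.map ψ ≫ hV.fromSpec = g := by
  have hr : Set.range g ⊆ Set.range hV.fromSpec := by
    rw [hV.range_fromSpec]
    rintro _ ⟨s, rfl⟩
    exact hg s
  refine ⟨Spec.preimage (IsOpenImmersion.lift hV.fromSpec g hr), ?_⟩
  rw [Spec.map_preimage, IsOpenImmersion.lift_fac]

/-- The chart of a base change `X ×_Y Spec R` for `Spec R ⟶ Spec Γ(Y, V) ⟶ Y`. -/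
noncomputable def chart' {V : Y.Opens} (hV : IsAffineOpen V) {W : X.Opens} (hW : IsAffineOpen W)
    (e : W ≤ f ⁻¹ᵁ V) {R : CommRingCat.{u}} (ψ : Γ(Y, V) ⟶ R) :
    pullback (Spec.map (f.appLE V W e)) (Spec.map ψ) ⟶ pullback f (Spec.map ψ ≫ hV.fromSpec) :=
  pullback.map (Spec.map (f.appLE V W e)) (Spec.map ψ) f (Spec.map ψ ≫ hV.fromSpec)
    hW.fromSpec (𝟙 _) hV.fromSpec
    (IsAffineOpen.SpecMap_appLE_fromSpec f hV hW e) (Category.id_comp _).symm

instance chart'_isOpenImmersion {V : Y.Opens} (hV : IsAffineOpen V) {W : X.Opens}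
    (hW : IsAffineOpen W) (e : W ≤ f ⁻¹ᵁ V) {R : CommRingCat.{u}} (ψ : Γ(Y, V) ⟶ R) :
    IsOpenImmersion (chart' f hV hW e ψ) := by
  unfold chart'
  infer_instance

theorem mem_range_chart' {V : Y.Opens} (hV : IsAffineOpen V) {W : X.Opens}
    (hW : IsAffineOpen W) (e : W ≤ f ⁻¹ᵁ V) {R : CommRingCat.{u}} (ψ : Γ(Y, V) ⟶ R)
    (z : ↥(pullback f (Spec.map ψ ≫ hV.fromSpec)))
    (hz : pullback.fst f (Spec.map ψ ≫ hV.fromSpec) z ∈ W) :
    z ∈ Set.range (chart' f hV hW e ψ) := by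
  have hr := Scheme.Pullback.range_map (f := Spec.map (f.appLE V W e))
    (g := Spec.map ψ) f (Spec.map ψ ≫ hV.fromSpec) hW.fromSpec
    (𝟙 (Spec R)) hV.fromSpec
    (IsAffineOpen.SpecMap_appLE_fromSpec f hV hW e) (Category.id_comp _).symm
  have hz' : z ∈ pullback.fst f (Spec.map ψ ≫ hV.fromSpec) ⁻¹' Set.range hW.fromSpec ∩
      pullback.snd f (Spec.map ψ ≫ hV.fromSpec) ⁻¹'
        Set.range (𝟙 (Spec R) : Spec R ⟶ _) := by
    refine ⟨?_, ?_⟩
    · show pullback.fst f (Spec.map ψ ≫ hV.fromSpec) z ∈ Set.range hW.fromSpec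
      rw [hW.range_fromSpec]
      exact hz
    · exact ⟨_, rfl⟩
  rw [← hr] at hz'
  exact hz'

theorem exists_chart'_not_isReduced {V : Y.Opens} (hV : IsAffineOpen V) {R : CommRingCat.{u}}
    (ψ : Γ(Y, V) ⟶ R) (hnr : ¬ IsReduced (pullback f (Spec.map ψ ≫ hV.fromSpec))) :
    ∃ (W : X.Opens) (hW : IsAffineOpen W) (e : W ≤ f ⁻¹ᵁ V),
      ¬ IsReduced (pullback (Spec.map (f.appLE V W e)) (Spec.map ψ)) := by
  by_contra hcon
  apply hnr
  have hall : ∀ (W : X.Opens) (hW : IsAffineOpen W) (e : W ≤ f ⁻¹ᵁ V),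
      IsReduced (pullback (Spec.map (f.appLE V W e)) (Spec.map ψ)) := by
    intro W hW e
    by_contra hc
    exact hcon ⟨W, hW, e, hc⟩
  haveI : ∀ z : ↥(pullback f (Spec.map ψ ≫ hV.fromSpec)),
      _root_.IsReduced ((pullback f (Spec.map ψ ≫ hV.fromSpec)).presheaf.stalk z) := by
    intro z
    have hcond : f (pullback.fst f (Spec.map ψ ≫ hV.fromSpec) z) =
        (Spec.map ψ ≫ hV.fromSpec) (pullback.snd f (Spec.map ψ ≫ hV.fromSpec) z) := by
      have h0 := congrArg (fun φ : pullback f (Spec.map ψ ≫ hV.fromSpec) ⟶ Y => φ z)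
        (pullback.condition (f := f) (g := Spec.map ψ ≫ hV.fromSpec))
      simpa only [Scheme.Hom.comp_apply] using h0
    have hzV : pullback.fst f (Spec.map ψ ≫ hV.fromSpec) z ∈ f ⁻¹ᵁ V := by
      show f (pullback.fst f (Spec.map ψ ≫ hV.fromSpec) z) ∈ V
      rw [hcond, Scheme.Hom.comp_apply]
      have h1 : hV.fromSpec (Spec.map ψ (pullback.snd f (Spec.map ψ ≫ hV.fromSpec) z)) ∈
          Set.range hV.fromSpec := ⟨_, rfl⟩
      rw [hV.range_fromSpec] at h1
      exact h1
    obtain ⟨_, ⟨W, hW, rfl⟩, hzW, hWV⟩ := X.isBasis_affineOpens.exists_subset_of_mem_open hzV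
      (f ⁻¹ᵁ V).isOpen
    have e : W ≤ f ⁻¹ᵁ V := SetLike.coe_subset_coe.mp hWV
    obtain ⟨p, hp⟩ := mem_range_chart' f hV hW e ψ z hzW
    haveI := hall W hW e
    subst hp
    exact isReduced_of_injective ((chart' f hV hW e ψ).stalkMap p).hom
      (ConcreteCategory.bijective_of_isIso ((chart' f hV hW e ψ).stalkMap p)).1
  exact isReduced_of_isReduced_stalk _

/-- S1331 -/
theorem main1331 [IrreducibleSpace ↑Y] [LocallyOfFiniteType f]
    (h : ¬ GeometricallyReduced (f.fiberToSpecResidueField (genericPoint ↑Y))) :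
    ∃ V : Y.Opens, (V : Set ↑Y).Nonempty ∧ ∀ y ∈ V,
      ¬ GeometricallyReduced (f.fiberToSpecResidueField y) := by
  obtain ⟨Ω, _, g₀, hg₀, hnr₀⟩ := exists_point_not_isReduced f (genericPoint Y) h
  obtain ⟨_, ⟨V, hV, rfl⟩, hηV, -⟩ := Y.isBasis_affineOpens.exists_subset_of_mem_open
    (Set.mem_univ (genericPoint Y)) isOpen_univ
  obtain ⟨ψ, hψ⟩ := exists_factor hV g₀ (fun s => by rw [hg₀ s]; exact hηV)
  rw [← hψ] at hnr₀
  obtain ⟨W, hW, e, hnrW⟩ := exists_chart'_not_isReduced f hV ψ hnr₀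
  letI algB : Algebra Γ(Y, V) Γ(X, W) := (f.appLE V W e).hom.toAlgebra
  letI algΩ : Algebra Γ(Y, V) Ω := ψ.hom.toAlgebra
  haveI : Algebra.FiniteType Γ(Y, V) Γ(X, W) :=
    HasRingHomProperty.appLE @LocallyOfFiniteType f inferInstance ⟨V, hV⟩ ⟨W, hW⟩ e
  have hnr' : ¬ _root_.IsReduced (Ω ⊗[Γ(Y, V)] Γ(X, W)) := fun hr => by
    haveI := hr
    haveI : _root_.IsReduced (Γ(X, W) ⊗[Γ(Y, V)] Ω) :=
      isReduced_of_injective (Algebra.TensorProduct.comm Γ(Y, V) Γ(X, W) Ω)
        (AlgEquiv.injective _)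
    exact hnrW (isReduced_pullback_of_isReduced_tensor (R := Γ(Y, V)) (S := Γ(X, W)) (T := Ω)
      inferInstance)
  obtain ⟨A', hfg, g', hg', H⟩ := exists_subalgebra_nonred (A := Γ(Y, V)) (B := Γ(X, W)) Ω hnr'
  haveI : Algebra.FiniteType Γ(Y, V) A' := (Subalgebra.fg_iff_finiteType A').mp hfg
  haveI : Algebra.FiniteType Γ(Y, V) (Localization.Away g') :=
    Algebra.FiniteType.trans (S := A') inferInstance inferInstance
  haveI : LocallyOfFiniteType
      (Spec.map (CommRingCat.ofHom (algebraMap Γ(Y, V) (Localization.Away g')))) :=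
    (HasRingHomProperty.Spec_iff (P := @LocallyOfFiniteType)).mpr
      (RingHom.finiteType_algebraMap.mpr inferInstance)
  -- the point of `Spec C` over the generic point
  have hunit : IsUnit ((algebraMap A' Ω) g') :=
    IsUnit.mk0 _ (fun h0 => hg' (Subtype.ext h0))
  have hlift : ∀ a : Γ(Y, V), (IsLocalization.Away.lift g' hunit)
      (algebraMap Γ(Y, V) (Localization.Away g') a) = ψ.hom a := by
    intro a
    rw [IsScalarTower.algebraMap_apply Γ(Y, V) A' (Localization.Away g'),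
      IsLocalization.Away.lift_eq]
    rfl
  have hcomp : CommRingCat.ofHom (algebraMap Γ(Y, V) (Localization.Away g')) ≫
      CommRingCat.ofHom (IsLocalization.Away.lift g' hunit) = ψ := by
    ext a
    exact hlift a
  have hc₀ : (Spec.map (CommRingCat.ofHom (algebraMap Γ(Y, V) (Localization.Away g'))) ≫
      hV.fromSpec) ((Spec.map (CommRingCat.ofHom (IsLocalization.Away.lift g' hunit)))
        (IsLocalRing.closedPoint Ω)) = genericPoint Y := by
    rw [← Scheme.Hom.comp_apply, ← Category.assoc, ← Spec.map_comp, hcomp, hψ]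
    exact hg₀ _
  obtain ⟨V₁, hηV₁, hV₁⟩ := exists_open_subset_range
    (Spec.map (CommRingCat.ofHom (algebraMap Γ(Y, V) (Localization.Away g'))) ≫ hV.fromSpec)
    _ hc₀
  refine ⟨V₁, ⟨_, hηV₁⟩, fun y hy => ?_⟩
  obtain ⟨c, hc⟩ := hV₁ y hy
  -- the residue field at `c`
  obtain ⟨p, hp⟩ : ∃ p : PrimeSpectrum (Localization.Away g'), p = c := ⟨c, rfl⟩
  have hgL : algebraMap A' p.asIdeal.ResidueField g' ≠ 0 := by
    rw [IsScalarTower.algebraMap_apply A' (Localization.Away g') p.asIdeal.ResidueField]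
    exact ((IsLocalization.Away.algebraMap_isUnit (S := Localization.Away g') g').map
      (algebraMap (Localization.Away g') p.asIdeal.ResidueField)).ne_zero
  have hnrL := H p.asIdeal.ResidueField hgL
  -- the morphism `Spec L ⟶ Y`
  have hpt : (Spec.map (CommRingCat.ofHom
      (algebraMap (Localization.Away g') p.asIdeal.ResidueField)))
      (IsLocalRing.closedPoint p.asIdeal.ResidueField) = c := by
    rw [← hp]
    apply PrimeSpectrum.ext
    show Ideal.comap (algebraMap (Localization.Away g') p.asIdeal.ResidueField)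
      (IsLocalRing.maximalIdeal p.asIdeal.ResidueField) = p.asIdeal
    rw [IsLocalRing.maximalIdeal_eq_bot, ← RingHom.ker_eq_comap_bot]
    exact Ideal.ker_algebraMap_residueField p.asIdeal
  have hcompL : CommRingCat.ofHom (algebraMap Γ(Y, V) (Localization.Away g')) ≫
      CommRingCat.ofHom (algebraMap (Localization.Away g') p.asIdeal.ResidueField) =
      CommRingCat.ofHom (algebraMap Γ(Y, V) p.asIdeal.ResidueField) := by
    ext a
    exact (IsScalarTower.algebraMap_apply Γ(Y, V) (Localization.Away g')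
      p.asIdeal.ResidueField a).symm
  have hgLy : (Spec.map (CommRingCat.ofHom (algebraMap Γ(Y, V) p.asIdeal.ResidueField)) ≫
      hV.fromSpec) (IsLocalRing.closedPoint p.asIdeal.ResidueField) = y := by
    rw [← hcompL, Spec.map_comp, Category.assoc, Scheme.Hom.comp_apply, hpt]
    exact hc
  rw [← hgLy]
  apply not_geomRed_of_pullback f
  intro hred
  apply hnrL
  haveI := hred
  haveI hP : IsReduced (pullback (Spec.map (f.appLE V W e))
      (Spec.map (CommRingCat.ofHom (algebraMap Γ(Y, V) p.asIdeal.ResidueField)))) :=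
    isReduced_of_isOpenImmersion (chart' f hV hW e
      (CommRingCat.ofHom (algebraMap Γ(Y, V) p.asIdeal.ResidueField)))
  haveI : _root_.IsReduced (Γ(X, W) ⊗[Γ(Y, V)] p.asIdeal.ResidueField) :=
    isReduced_tensor_of_isReduced_pullback (R := Γ(Y, V)) (S := Γ(X, W))
      (T := p.asIdeal.ResidueField) hP
  exact isReduced_of_injective
    (Algebra.TensorProduct.comm Γ(Y, V) p.asIdeal.ResidueField Γ(X, W)) (AlgEquiv.injective _)

end Geom

end Groth.Agent.Lib.GeomRedGenH4
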