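import Mathlib
import Groth.Agent.Lib.GeomRedGen4_helper8
import Groth.Agent.Lib.GeomRedGen_helper4

/-!
# Generic geometric reducedness, part 5: scheme translation (helper8)
APPEND-ONLY once landed.
-/

set_option autoImplicit false
set_option linter.style.haveILetI false
universe u
open TensorProduct CategoryTheory CategoryTheory.Limits AlgebraicGeometry

namespace GeomRedGenH8

open Groth.Agent.Lib.NonRedGenH4 Groth.Agent.Lib.GeomRedGenH4

section Chart

theorem chart_core {A₀ B : CommRingCat.{u}} (φ : A₀ ⟶ B) (hφ : φ.hom.FiniteType)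
    (hp : (nilradical A₀).IsPrime)
    (h : ∀ (L : Type u) [Field L] (ψ : A₀ ⟶ CommRingCat.of L),
      RingHom.ker ψ.hom = nilradical A₀ → IsReduced (pullback (Spec.map φ) (Spec.map ψ))) :
    ∃ a : A₀, a ∉ nilradical A₀ ∧ ∀ (L : Type u) [Field L] (ψ : A₀ ⟶ CommRingCat.of L),
      ψ.hom a ≠ 0 → IsReduced (pullback (Spec.map φ) (Spec.map ψ)) := by
  letI algB : Algebra A₀ B := φ.hom.toAlgebra
  haveI : Algebra.FiniteType A₀ B := hφ
  have hφ' : CommRingCat.ofHom (algebraMap A₀ B) = φ := rfl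
  obtain ⟨a, ha, H⟩ := core_nilradical (A₀ := A₀) (B := B) hp (fun L _ _ hk => by
    have h1 := h L (CommRingCat.ofHom (algebraMap A₀ L)) hk
    rw [← hφ'] at h1
    haveI := isReduced_tensor_of_isReduced_pullback (R := A₀) (S := B) (T := L) h1
    exact isReduced_of_injective (Algebra.TensorProduct.comm A₀ L B) (AlgEquiv.injective _))
  refine ⟨a, ha, fun L _ ψ hne => ?_⟩
  letI algL : Algebra A₀ L := ψ.hom.toAlgebra
  have hψ' : CommRingCat.ofHom (algebraMap A₀ L) = ψ := rfl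
  have hu : IsUnit (algebraMap A₀ L a) := IsUnit.mk0 _ hne
  haveI := H L hu
  haveI : _root_.IsReduced (B ⊗[A₀] L) :=
    isReduced_of_injective (Algebra.TensorProduct.comm A₀ B L) (AlgEquiv.injective _)
  have h2 := isReduced_pullback_of_isReduced_tensor (R := A₀) (S := B) (T := L) inferInstance
  rw [hφ', hψ'] at h2
  exact h2

end Chart

end GeomRedGenH8

namespace GeomRedGenH8

open Groth.Agent.Lib.NonRedGenH4 Groth.Agent.Lib.GeomRedGenH4

section Geom

variable {X Y : Scheme.{u}} (f : X ⟶ Y)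

/-- If the charts of `X ×_Y Spec R` over the members of an affine open cover of `f⁻¹ V` are
reduced, then so is `X ×_Y Spec R`. -/
theorem isReduced_pullback_of_charts {V : Y.Opens} (hV : IsAffineOpen V) {R : CommRingCat.{u}}
    (ψ : Γ(Y, V) ⟶ R) (s : Set X.affineOpens)
    (hs : ((f ⁻¹ᵁ V : X.Opens) : Set X) = ⋃ i ∈ s, ((i : X.Opens) : Set X))
    (hall : ∀ W ∈ s, ∀ (e : (W : X.Opens) ≤ f ⁻¹ᵁ V),
      IsReduced (pullback (Spec.map (f.appLE V W e)) (Spec.map ψ))) :
    IsReduced (pullback f (Spec.map ψ ≫ hV.fromSpec)) := by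
  haveI : ∀ z : ↥(pullback f (Spec.map ψ ≫ hV.fromSpec)),
      _root_.IsReduced ((pullback f (Spec.map ψ ≫ hV.fromSpec)).presheaf.stalk z) := by
    intro z
    have hcond : f (pullback.fst f (Spec.map ψ ≫ hV.fromSpec) z) =
        (Spec.map ψ ≫ hV.fromSpec) (pullback.snd f (Spec.map ψ ≫ hV.fromSpec) z) := by
      have h0 := congrArg (fun φ : pullback f (Spec.map ψ ≫ hV.fromSpec) ⟶ Y => φ z)
        (pullback.condition (f := f) (g := Spec.map ψ ≫ hV.fromSpec))
      simpa only [Scheme.Hom.comp_apply] using h0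
    have hzV : pullback.fst f (Spec.map ψ ≫ hV.fromSpec) z ∈ ((f ⁻¹ᵁ V : X.Opens) : Set X) := by
      show f (pullback.fst f (Spec.map ψ ≫ hV.fromSpec) z) ∈ V
      rw [hcond, Scheme.Hom.comp_apply]
      have h1 : hV.fromSpec (Spec.map ψ (pullback.snd f (Spec.map ψ ≫ hV.fromSpec) z)) ∈
          Set.range hV.fromSpec := ⟨_, rfl⟩
      rw [hV.range_fromSpec] at h1
      exact h1
    rw [hs] at hzV
    obtain ⟨W, hWs, hzW⟩ := Set.mem_iUnion₂.mp hzV
    have e : (W : X.Opens) ≤ f ⁻¹ᵁ V := by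
      intro x hx
      have : x ∈ ⋃ i ∈ s, ((i : X.Opens) : Set X) := Set.mem_iUnion₂.mpr ⟨W, hWs, hx⟩
      rw [← hs] at this
      exact this
    obtain ⟨p, hp⟩ := mem_range_chart' f hV W.2 e ψ z hzW
    haveI := hall W hWs e
    subst hp
    exact isReduced_of_injective ((chart' f hV W.2 e ψ).stalkMap p).hom
      (ConcreteCategory.bijective_of_isIso ((chart' f hV W.2 e ψ).stalkMap p)).1
  exact isReduced_of_isReduced_stalk _

/-- `GeometricallyReduced` in the form: reducedness of the pullback to field-valued points. -/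
theorem isReduced_pullback_of_geomRed {L : Type u} [Field L] (g : Spec (CommRingCat.of L) ⟶ Y)
    (hgr : GeometricallyReduced (f.fiberToSpecResidueField (g (IsLocalRing.closedPoint L)))) :
    IsReduced (pullback f g) := by
  by_contra hnr
  exact not_geomRed_of_pullback f g hnr hgr

theorem nilradical_isPrime_of_isAffineOpen [IrreducibleSpace ↑Y] {V : Y.Opens}
    (hV : IsAffineOpen V) (hne : (V : Set Y).Nonempty) : (nilradical Γ(Y, V)).IsPrime := by
  have h1 : IsPreirreducible (hV.fromSpec ⁻¹' (Set.univ : Set Y)) :=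
    (IrreducibleSpace.isIrreducible_univ Y).isPreirreducible.preimage
      hV.fromSpec.isOpenEmbedding
  rw [Set.preimage_univ] at h1
  have h2 : (Set.univ : Set (Spec Γ(Y, V))).Nonempty := by
    obtain ⟨y, hy⟩ := hne
    have : y ∈ Set.range hV.fromSpec := by rw [hV.range_fromSpec]; exact hy
    obtain ⟨x, -⟩ := this
    exact ⟨x, trivial⟩
  have h3 : IsIrreducible (PrimeSpectrum.zeroLocus ((⊥ : Ideal Γ(Y, V)) : Set Γ(Y, V))) := by
    have : PrimeSpectrum.zeroLocus ((⊥ : Ideal Γ(Y, V)) : Set Γ(Y, V)) = Set.univ := by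
      rw [PrimeSpectrum.zeroLocus_eq_univ_iff]
      intro x hx
      rw [SetLike.mem_coe, Ideal.mem_bot] at hx
      rw [hx]
      exact Ideal.zero_mem _
    rw [this]
    exact ⟨h2, h1⟩
  have h4 := (PrimeSpectrum.isIrreducible_zeroLocus_iff (⊥ : Ideal Γ(Y, V))).mp h3
  exact h4

theorem closure_singleton_eq_univ {R : Type u} [CommRing R] (x : PrimeSpectrum R)
    (hx : x.asIdeal = nilradical R) : closure ({x} : Set (PrimeSpectrum R)) = Set.univ := by
  rw [PrimeSpectrum.closure_singleton, hx, PrimeSpectrum.zeroLocus_eq_univ_iff]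

theorem fromSpec_eq_genericPoint [IrreducibleSpace ↑Y] {V : Y.Opens}
    (hV : IsAffineOpen V) {L : Type u} [Field L] (ψ : Γ(Y, V) ⟶ CommRingCat.of L)
    (hk : RingHom.ker ψ.hom = nilradical Γ(Y, V)) :
    (Spec.map ψ ≫ hV.fromSpec) (IsLocalRing.closedPoint L) = genericPoint Y := by
  have hgen : IsGenericPoint ((Spec.map ψ ≫ hV.fromSpec) (IsLocalRing.closedPoint L))
      (⊤ : Set Y) := by
    rw [isGenericPoint_def]
    set x : Spec Γ(Y, V) := Spec.map ψ (IsLocalRing.closedPoint L) with hx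
    have hxI : x.asIdeal = nilradical Γ(Y, V) := by
      rw [← hk]
      show Ideal.comap ψ.hom (IsLocalRing.maximalIdeal L) = RingHom.ker ψ.hom
      rw [IsLocalRing.maximalIdeal_eq_bot, ← RingHom.ker_eq_comap_bot]
    have hcl : closure ({x} : Set (Spec Γ(Y, V))) = Set.univ :=
      closure_singleton_eq_univ x hxI
    have hsub : Set.range hV.fromSpec ⊆
        closure ({(Spec.map ψ ≫ hV.fromSpec) (IsLocalRing.closedPoint L)} : Set Y) := by
      rintro _ ⟨z, rfl⟩
      have hz : z ∈ closure ({x} : Set (Spec Γ(Y, V))) := by rw [hcl]; trivial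
      have := image_closure_subset_closure_image hV.fromSpec.continuous ⟨z, hz, rfl⟩
      rw [Set.image_singleton] at this
      rw [Scheme.Hom.comp_apply]
      exact this
    have hne : (Set.range hV.fromSpec).Nonempty := ⟨_, ⟨x, rfl⟩⟩
    have hdense : Dense (Set.range hV.fromSpec) :=
      (hV.fromSpec.isOpenEmbedding.isOpen_range).dense hne
    apply Set.eq_univ_of_univ_subset
    rw [← hdense.closure_eq]
    exact closure_minimal hsub isClosed_closure
  exact ((genericPoint_spec Y).eq hgen).symm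


/-- S0434 -/
theorem main0434 [IrreducibleSpace ↑Y] [LocallyOfFiniteType f] [QuasiCompact f]
    (h : GeometricallyReduced (f.fiberToSpecResidueField (genericPoint ↑Y))) :
    ∃ V : Y.Opens, (V : Set ↑Y).Nonempty ∧ GeometricallyReduced (f ∣_ V) := by
  obtain ⟨_, ⟨V₀, hV₀, rfl⟩, hηV₀, -⟩ := Y.isBasis_affineOpens.exists_subset_of_mem_open
    (Set.mem_univ (genericPoint Y)) isOpen_univ
  have hp : (nilradical Γ(Y, V₀)).IsPrime :=
    nilradical_isPrime_of_isAffineOpen hV₀ ⟨_, hηV₀⟩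
  have hcpt : IsCompact ((f ⁻¹ᵁ V₀ : X.Opens) : Set X) := f.isCompact_preimage hV₀.isCompact
  obtain ⟨s, hsfin, hs⟩ := (isCompact_and_isOpen_iff_finite_and_eq_biUnion_affineOpens
    (X := X)).mp ⟨hcpt, (f ⁻¹ᵁ V₀).isOpen⟩
  -- the generic hypothesis
  have hgenred : ∀ (L : Type u) [Field L] (ψ : Γ(Y, V₀) ⟶ CommRingCat.of L),
      RingHom.ker ψ.hom = nilradical Γ(Y, V₀) →
      IsReduced (pullback f (Spec.map ψ ≫ hV₀.fromSpec)) := by
    intro L _ ψ hk
    apply isReduced_pullback_of_geomRed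
    rw [fromSpec_eq_genericPoint hV₀ ψ hk]
    exact h
  -- choose `a W`
  have hex : ∀ W : X.affineOpens, ∃ a : Γ(Y, V₀), a ∉ nilradical Γ(Y, V₀) ∧
      (W ∈ s → ∀ (e : (W : X.Opens) ≤ f ⁻¹ᵁ V₀) (L : Type u) [Field L]
        (ψ : Γ(Y, V₀) ⟶ CommRingCat.of L), ψ.hom a ≠ 0 →
        IsReduced (pullback (Spec.map (f.appLE V₀ W e)) (Spec.map ψ))) := by
    intro W
    by_cases hW : W ∈ s
    · have e : (W : X.Opens) ≤ f ⁻¹ᵁ V₀ := by
        intro x hx
        have : x ∈ ⋃ i ∈ s, ((i : X.Opens) : Set X) := Set.mem_iUnion₂.mpr ⟨W, hW, hx⟩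
        rw [← hs] at this
        exact this
      have hft : (f.appLE V₀ W e).hom.FiniteType :=
        HasRingHomProperty.appLE @LocallyOfFiniteType f inferInstance ⟨V₀, hV₀⟩ W e
      obtain ⟨a, ha, H⟩ := chart_core (f.appLE V₀ W e) hft hp (fun L _ ψ hk => by
        haveI := hgenred L ψ hk
        exact isReduced_of_isOpenImmersion (chart' f hV₀ W.2 e ψ))
      exact ⟨a, ha, fun _ e' L _ ψ hne => H L ψ hne⟩
    · exact ⟨1, fun h1 => hp.ne_top ((Ideal.eq_top_iff_one _).mpr h1), fun hW' => (hW hW').elim⟩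
  choose a ha1 ha2 using hex
  set a₀ : Γ(Y, V₀) := ∏ W ∈ hsfin.toFinset, a W with ha₀
  have ha₀n : a₀ ∉ nilradical Γ(Y, V₀) := by
    intro hmem
    obtain ⟨W, -, hW⟩ := (Ideal.IsPrime.prod_mem_iff (hp := hp)).mp hmem
    exact ha1 W hW
  refine ⟨Y.basicOpen a₀, ?_, ?_⟩
  · -- nonempty
    have hx : (⟨nilradical Γ(Y, V₀), hp⟩ : PrimeSpectrum Γ(Y, V₀)) ∈
        PrimeSpectrum.basicOpen a₀ := ha₀n
    rw [← hV₀.fromSpec_preimage_basicOpen] at hx
    exact ⟨_, hx⟩
  · rw [geometricallyReduced_iff, geometrically_iff_of_isClosedUnderIsomorphisms]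
    intro K _ t
    have hsq : IsPullback (pullback.fst (f ∣_ Y.basicOpen a₀) t ≫ (f ⁻¹ᵁ Y.basicOpen a₀).ι)
        (pullback.snd (f ∣_ Y.basicOpen a₀) t) f (t ≫ (Y.basicOpen a₀).ι) :=
      (IsPullback.of_hasPullback (f ∣_ Y.basicOpen a₀) t).paste_horiz
        (isPullback_morphismRestrict f (Y.basicOpen a₀)).flip
    have hgV : ∀ z, (t ≫ (Y.basicOpen a₀).ι) z ∈ V₀ := fun z => by
      rw [Scheme.Hom.comp_apply]
      exact Y.basicOpen_le a₀ (t z).2
    obtain ⟨ψ, hψ⟩ := exists_factor hV₀ (t ≫ (Y.basicOpen a₀).ι) hgV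
    have hne : ψ.hom a₀ ≠ 0 := by
      intro h0
      have hx : Spec.map ψ (IsLocalRing.closedPoint K) ∈ hV₀.fromSpec ⁻¹ᵁ Y.basicOpen a₀ := by
        show hV₀.fromSpec (Spec.map ψ (IsLocalRing.closedPoint K)) ∈ Y.basicOpen a₀
        rw [← Scheme.Hom.comp_apply, hψ, Scheme.Hom.comp_apply]
        exact (t (IsLocalRing.closedPoint K)).2
      rw [hV₀.fromSpec_preimage_basicOpen] at hx
      apply hx
      show a₀ ∈ Ideal.comap ψ.hom (IsLocalRing.maximalIdeal K)
      rw [Ideal.mem_comap, h0]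
      exact Ideal.zero_mem _
    haveI : IsReduced (pullback f (t ≫ (Y.basicOpen a₀).ι)) := by
      rw [← hψ]
      apply isReduced_pullback_of_charts f hV₀ ψ s hs
      intro W hW e
      apply ha2 W hW e K ψ
      intro h0
      apply hne
      rw [ha₀, map_prod]
      exact Finset.prod_eq_zero (hsfin.mem_toFinset.mpr hW) h0
    exact isReduced_of_isOpenImmersion hsq.isoPullback.hom

end Geom

end GeomRedGenH8
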