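import Mathlib
import Groth.Prelude.Def_EGA4Misc
import Groth.Agent.Lib.GeomRedGen5_helper8
import Groth.Agent.Lib.GeomBC_helper4
import Groth.Agent.Lib.ConsMor1_helper7

/-!
# Geometric reducedness of fibres is a constructible property (helper8)
APPEND-ONLY once landed.
-/

set_option autoImplicit false
set_option linter.style.haveILetI false
universe u
open CategoryTheory CategoryTheory.Limits AlgebraicGeometry Topology

namespace GeomRedConsH8

open Groth.Agent.Lib.GeomBC_helper4 Groth.Agent.Lib.ConsPropH7 Groth.Agent.Lib.ConsPairH7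

section Descent

instance isIntegral_spec_field (K : Type u) [Field K] : IsIntegral (Spec (CommRingCat.of K)) :=
  inferInstance

instance subsingleton_spec_field (K : Type u) [Field K] :
    Subsingleton ↥(Spec (CommRingCat.of K)) :=
  inferInstanceAs (Subsingleton (PrimeSpectrum K))

/-- `geometrically P` descends along surjective base changes, for `P` descending along flat
surjective morphisms. -/
theorem geometrically_descends {P : ObjectProperty Scheme.{u}} [P.IsClosedUnderIsomorphisms]
    (hP : DescendsFlatSurj P) {A X Y Z : Scheme.{u}} {fst : A ⟶ X} {snd : A ⟶ Y} {f : X ⟶ Z}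
    {g : Y ⟶ Z} (sq : IsPullback fst snd f g) [Surjective f] (h : geometrically P fst) :
    geometrically P g := by
  rw [geometrically_iff_of_isClosedUnderIsomorphisms]
  intro K _ y
  haveI : Surjective (pullback.snd f y) := MorphismProperty.pullback_snd f y inferInstance
  obtain ⟨w, -⟩ := (pullback.snd f y).surjective (IsLocalRing.closedPoint K)
  obtain ⟨a, b, hab⟩ : ∃ (a : Spec (CommRingCat.of ((pullback f y).residueField w)) ⟶ X)
      (b : Spec (CommRingCat.of ((pullback f y).residueField w)) ⟶ Spec (CommRingCat.of K)),
      a ≫ f = b ≫ y :=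
    ⟨(pullback f y).fromSpecResidueField w ≫ pullback.fst f y,
      (pullback f y).fromSpecResidueField w ≫ pullback.snd f y, by
        rw [Category.assoc, Category.assoc, pullback.condition]⟩
  have h1 : P (pullback fst a) := pullback_of_geometrically h _ a
  have sq1 : IsPullback (pullback.fst fst a ≫ snd) (pullback.snd fst a) g (a ≫ f) :=
    (IsPullback.of_hasPullback fst a).paste_horiz sq.flip
  rw [hab] at sq1
  have sq2 : IsPullback (pullback.fst (pullback.snd g y) b ≫ pullback.fst g y)
      (pullback.snd (pullback.snd g y) b) g (b ≫ y) :=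
    (IsPullback.of_hasPullback (pullback.snd g y) b).paste_horiz (IsPullback.of_hasPullback g y)
  have hPW : P (pullback (pullback.snd g y) b) :=
    P.prop_of_iso (IsPullback.isoIsPullback _ _ sq1 sq2) h1
  have hb := fpqc_of_subsingleton b
  haveI : Flat b := hb.1.2
  haveI : Surjective b := hb.1.1
  haveI : Flat (pullback.fst (pullback.snd g y) b) := MorphismProperty.pullback_fst _ _ inferInstance
  haveI : Surjective (pullback.fst (pullback.snd g y) b) :=
    MorphismProperty.pullback_fst _ _ inferInstance
  exact hP (pullback.fst (pullback.snd g y) b) hPW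

instance geomRed_descendsAlong : MorphismProperty.DescendsAlong (@GeometricallyReduced)
    (@Surjective ⊓ @Flat ⊓ @QuasiCompact : MorphismProperty Scheme.{u}) := by
  refine ⟨fun {A X Y Z fst snd f g} sq hf hfst => ?_⟩
  haveI : Surjective f := hf.1.1
  rw [geometricallyReduced_iff] at hfst ⊢
  exact geometrically_descends descendsFlatSurj_reduced sq hfst

theorem isFieldStable_geomRed :
    ConsProp.IsFieldStable.{u} (fun _ _ g => GeometricallyReduced g) :=
  isFieldStable_of_descends @GeometricallyReduced

end Descent

section Cons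

theorem isCons_geomRed : ConsProp.IsCons.{u} (fun _ _ g => GeometricallyReduced g) := by
  refine ⟨isFieldStable_geomRed, ?_⟩
  intro X S u _ _ _ _
  by_cases h : GeometricallyReduced (u.fiberToSpecResidueField (genericPoint S))
  · left
    obtain ⟨V, hVne, hV⟩ := GeomRedGenH8.main0434 u h
    obtain ⟨y, hy⟩ := hVne
    refine ⟨y, mem_interior.mpr ⟨V, fun s hs => ?_, V.isOpen, hy⟩⟩
    haveI := hV
    have h1 := (locus_baseChange isFieldStable_geomRed u V.ι (u ⁻¹ᵁ V).ι (u ∣_ V)
      (isPullback_morphismRestrict u V).flip ⟨s, hs⟩).mp inferInstance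
    exact h1
  · right
    obtain ⟨V, hVne, hV⟩ := Groth.Agent.Lib.GeomRedGenH4.main1331 u h
    obtain ⟨y, hy⟩ := hVne
    exact ⟨y, mem_interior.mpr ⟨V, fun s hs => hV s hs, V.isOpen, hy⟩⟩

end Cons

section AffineBase

variable {P : ∀ ⦃Y T : Scheme.{u}⦄, (Y ⟶ T) → Prop}

/-- Over an affine base the locus of a constructible property of algebraic schemes is
constructible (finitely presented, quasi-separated case). -/
theorem isConstructible_locus_of_isAffine (hP : ConsProp.IsCons P) {X S : Scheme.{u}}
    [IsAffine S] (u : X ⟶ S) [LocallyOfFinitePresentation u] [QuasiCompact u]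
    [QuasiSeparated u] : IsConstructible (ConsProp.locus P u) := by
  haveI : LocallyOfFinitePresentation (𝟙 X ≫ u) := by rw [Category.id_comp]; infer_instance
  haveI : QuasiCompact (𝟙 X ≫ u) := by rw [Category.id_comp]; infer_instance
  haveI : QuasiSeparated (𝟙 X ≫ u) := by rw [Category.id_comp]; infer_instance
  obtain ⟨S₀, X₀, Y₀, hN, f₀, g₀, h, qX, qY, h1, h2, h3, h4, h5, h6⟩ :=
    exists_noetherian_model_of_isAffine (𝟙 X) u
  haveI := hN
  haveI := h1
  haveI := h2
  have e : ConsProp.locus P u = h ⁻¹' ConsProp.locus P g₀ := by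
    ext s
    exact locus_baseChange hP.1 g₀ h qY u h5 s
  rw [e]
  exact h.isConstructible_preimage (isConstructible_locus hP g₀)

end AffineBase

end GeomRedConsH8
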