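import Mathlib
import Groth.Prelude.Def_EGA4Misc
import Groth.Agent.Lib.GeomRedCons1_helper8
import Groth.Agent.Lib.GeomRedBC_helper9

/-!
# The locus of geometrically reduced fibres is locally constructible (helper8)
APPEND-ONLY once landed.
-/

set_option autoImplicit false
set_option linter.style.haveILetI false
universe u
open CategoryTheory CategoryTheory.Limits AlgebraicGeometry Topology
open scoped Set.Notation

namespace GeomRedConsH8

open Groth.Agent.Lib.ConsPropH7 Groth.Agent.Lib.GeomRedGenH4 GeomRedGenH8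

section Cover

/-- A scheme covered by reduced open subschemes is reduced. -/
theorem isReduced_of_forall_exists_openImmersion (Z : Scheme.{u})
    (h : ∀ z : Z, ∃ (U : Scheme.{u}) (j : U ⟶ Z), IsOpenImmersion j ∧ IsReduced U ∧
      z ∈ Set.range j) : IsReduced Z := by
  haveI : ∀ z : Z, _root_.IsReduced (Z.presheaf.stalk z) := by
    intro z
    obtain ⟨U, j, hj, hU, ⟨p, hp⟩⟩ := h z
    subst hp
    exact isReduced_of_injective (j.stalkMap p).hom
      (ConcreteCategory.bijective_of_isIso (j.stalkMap p)).1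
  exact isReduced_of_isReduced_stalk _

variable {X S : Scheme.{u}} (u : X ⟶ S)

theorem geomRed_fiber_of_open (W : X.Opens) (s : S)
    (h : GeometricallyReduced (u.fiberToSpecResidueField s)) :
    GeometricallyReduced ((W.ι ≫ u).fiberToSpecResidueField s) := by
  haveI := h
  haveI : IsOpenImmersion (MoreMor.fiberMap W.ι u s) :=
    MorphismProperty.of_isPullback (P := @IsOpenImmersion) (isPullback_fiberMap W.ι u s)
      inferInstance
  rw [← fiberMap_comp_toSpec W.ι u s]
  exact Groth.Agent.Lib.GeomRedBC.geometricallyReduced_comp_of_isOpenImmersion _ _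

theorem geomRed_fiber_of_cover (𝒲 : Set X.Opens)
    (hcov : ∀ x : X, ∃ W ∈ 𝒲, x ∈ W) (s : S)
    (h : ∀ W ∈ 𝒲, GeometricallyReduced ((W.ι ≫ u).fiberToSpecResidueField s)) :
    GeometricallyReduced (u.fiberToSpecResidueField s) := by
  by_contra hcon
  obtain ⟨Ω, _, g, hg, hnr⟩ := exists_point_not_isReduced u s hcon
  apply hnr
  apply isReduced_of_forall_exists_openImmersion
  intro z
  obtain ⟨W, hW, hzW⟩ := hcov (pullback.fst u g z)
  have hred : IsReduced (pullback (W.ι ≫ u) g) := by
    apply isReduced_pullback_of_geomRed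
    rw [hg]
    exact h W hW
  refine ⟨pullback (W.ι ≫ u) g,
    pullback.map (W.ι ≫ u) g u g W.ι (𝟙 _) (𝟙 _) (by simp) (by simp), inferInstance, hred, ?_⟩
  have hr := Scheme.Pullback.range_map (f := W.ι ≫ u) (g := g) u g W.ι (𝟙 _) (𝟙 _)
    (by simp) (by simp)
  rw [hr]
  refine ⟨?_, ?_⟩
  · show pullback.fst u g z ∈ Set.range W.ι
    rw [Scheme.Opens.range_ι]
    exact hzW
  · exact ⟨_, rfl⟩

end Cover

section Main

/-- Affine base: the locus of geometrically reduced fibres of a quasi-compact morphism locally of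
finite presentation is constructible. -/
theorem isConstructible_locus_geomRed_of_isAffine {X S : Scheme.{u}} [IsAffine S] (u : X ⟶ S)
    [LocallyOfFinitePresentation u] [QuasiCompact u] :
    IsConstructible (ConsProp.locus (fun _ _ g => GeometricallyReduced g) u) := by
  haveI : CompactSpace X := QuasiCompact.compactSpace_of_compactSpace u
  obtain ⟨s, hsfin, hs⟩ := (isCompact_and_isOpen_iff_finite_and_eq_biUnion_affineOpens
    (X := X)).mp ⟨isCompact_univ, isOpen_univ⟩
  have hcov : ∀ x : X, ∃ W ∈ (fun W : X.affineOpens => (W : X.Opens)) '' s, x ∈ W := by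
    intro x
    have hx : x ∈ ⋃ i ∈ s, ((i : X.Opens) : Set X) := by rw [← hs]; trivial
    obtain ⟨W, hWs, hxW⟩ := Set.mem_iUnion₂.mp hx
    exact ⟨W, ⟨W, hWs, rfl⟩, hxW⟩
  have heq : ConsProp.locus (fun _ _ g => GeometricallyReduced g) u =
      ⋂ W ∈ s, ConsProp.locus (fun _ _ g => GeometricallyReduced g)
        ((W : X.Opens).ι ≫ u) := by
    ext t
    constructor
    · intro ht
      exact Set.mem_iInter₂.mpr (fun W _ => geomRed_fiber_of_open u W t ht)
    · intro ht
      apply geomRed_fiber_of_cover u _ hcov t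
      rintro _ ⟨W, hWs, rfl⟩
      exact Set.mem_iInter₂.mp ht W hWs
  rw [heq]
  apply IsConstructible.biInter hsfin
  intro W _
  haveI : IsAffine ((W : X.Opens) : Scheme.{u}) := W.2
  exact isConstructible_locus_of_isAffine isCons_geomRed ((W : X.Opens).ι ≫ u)

/-- S1301 -/
theorem main1301 {X Y : Scheme.{u}} (f : X ⟶ Y) [QuasiCompact f]
    [LocallyOfFinitePresentation f] :
    IsLocallyConstructible {y : ↑Y | GeometricallyReduced (f.fiberToSpecResidueField y)} := by
  intro y
  obtain ⟨_, ⟨V, hV, rfl⟩, hyV, -⟩ :=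
    Y.isBasis_affineOpens.exists_subset_of_mem_open (Set.mem_univ y) isOpen_univ
  refine ⟨V, V.2.mem_nhds hyV, V.2, ?_⟩
  haveI : IsAffine (V : Scheme.{u}) := hV
  have heq : ((V : Set Y) ↓∩ {y : ↑Y | GeometricallyReduced (f.fiberToSpecResidueField y)}) =
      ConsProp.locus (fun _ _ g => GeometricallyReduced g) (f ∣_ V) := by
    ext t
    exact (locus_baseChange isFieldStable_geomRed f (Scheme.Opens.ι V) (f ⁻¹ᵁ V).ι (f ∣_ V)
      (isPullback_morphismRestrict f V).flip t).symm
  rw [heq]
  exact isConstructible_locus_geomRed_of_isAffine (f ∣_ V)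

end Main

end GeomRedConsH8
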