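import Groth.Agent.Lib.AlgSpGRFib1_helper7
import Groth.Agent.Lib.GeomRedCons2_helper8

/-!
# The locus of geometrically reduced fibres of a quasi-compact lfp morphism of algebraic spaces is
etale locally constructible (helper7)
APPEND-ONLY once landed.
-/

set_option backward.isDefEq.respectTransparency false
set_option backward.isDefEq.respectTransparency.types false
set_option linter.style.haveILetI false
set_option linter.unusedSectionVars false
set_option linter.unusedVariables false
set_option autoImplicit false
set_option maxHeartbeats 1600000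
universe u
open CategoryTheory CategoryTheory.Limits AlgebraicGeometry Opposite

namespace Groth.Agent.Lib.AlgSpGRFibH7

open AlgSp Groth.Agent.Lib.AlgSpPoints_helper7 Groth.Agent.Lib.AlgSpPullback_helper7
  Groth.Agent.Lib.AlgSpReduced_helper7 Groth.Agent.Lib.AlgSpLocP_helper7
  Groth.Agent.Lib.AlgSpQC_helper7 Groth.Agent.Lib.GeomFibreBC Groth.Agent.Lib.GeomRedFibreTFAEH7

variable {S : Scheme.{u}}

theorem main10683 {X Y : AlgSp.Space S} (f : X ⟶ Y)
    (hf1 : AlgSp.IsQuasiCompactMor f.hom) (hf2 : AlgSp.LocP @LocallyOfFinitePresentation f.hom)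
    (V : Over S) (hV : IsAffine V.left) (a : (AlgSp.yon S).obj V ⟶ Y.obj)
    (ha : AlgSp.RepWith @Etale a) :
    Topology.IsConstructible ((AlgSp.Points.ofPt a) ⁻¹' GRset f) := by
  haveI := hV
  have sq := IsPullback.of_hasPullback f.hom a
  have hqc : IsQuasiCompactSp (pullback f.hom a) :=
    hf1 (IsAlgSpace.yon_obj V) (isQuasiCompactSp_yon V) a _ _ sq
  obtain ⟨U, e, hee, hes, hUc⟩ := hqc
  obtain ⟨p, hp⟩ := (yon S).map_surjective (e ≫ pullback.snd f.hom a)
  have hfe : RepWith @Etale (pullback.fst f.hom a) := repWith_fst_of_isPullback _ sq ha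
  have hcomm : (e ≫ pullback.fst f.hom a) ≫ f.hom = (yon S).map p ≫ a := by
    rw [Category.assoc, sq.w, ← Category.assoc, hp]
  haveI hlfp : LocallyOfFinitePresentation p.left :=
    hf2 (e ≫ pullback.fst f.hom a) a p (repWith_comp _ hee hfe) ha hcomm
  haveI : CompactSpace U.left := hUc
  haveI hqcp : QuasiCompact p.left :=
    (HasAffineProperty.iff_of_isAffine (P := @QuasiCompact)).2 inferInstance
  have h1 := GeomRedConsH8.main1301 p.left
  have h2 : Topology.IsConstructible
      {y : V.left | GeometricallyReduced (p.left.fiberToSpecResidueField y)} := h1.isConstructible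
  have hset : (AlgSp.Points.ofPt a) ⁻¹' GRset f =
      {y : V.left | GeometricallyReduced (p.left.fiberToSpecResidueField y)} := by
    ext t
    exact mem_GRset_iff f a sq e hee hes p hp.symm t
  rw [hset]
  exact h2

end Groth.Agent.Lib.AlgSpGRFibH7
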