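import Groth.Agent.Lib.AlgSpGRFib1_helper7
import Groth.Prelude.Def_FDesc

/-!
# Etale invariance of pointwise geometric reducedness of fibres (helper7)
APPEND-ONLY once landed.
-/

set_option backward.isDefEq.respectTransparency false
set_option backward.isDefEq.respectTransparency.types false
set_option linter.style.haveILetI false
set_option linter.unusedSectionVars false
set_option linter.unusedVariables false
set_option autoImplicit false
set_option maxHeartbeats 1600000
universe u
open CategoryTheory CategoryTheory.Limits AlgebraicGeometry Opposite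

namespace Groth.Agent.Lib.AlgSpGRFibH7

open Groth.Agent.Lib.AlgSpReduced_helper7

section PB

variable {C : Type*} [Category C]

theorem isPullback_lift_comp {X X' Y Z : C} (f : X ⟶ Z) (g : Y ⟶ Z) (r : X' ⟶ X) (f' : X' ⟶ Z)
    (hf' : r ≫ f = f') [HasPullback f g] [HasPullback f' g] (ρ : pullback f' g ⟶ pullback f g)
    (h1 : ρ ≫ pullback.fst f g = pullback.fst f' g ≫ r)
    (h2 : ρ ≫ pullback.snd f g = pullback.snd f' g) :
    IsPullback ρ (pullback.fst f' g) (pullback.fst f g) r := by
  subst hf'
  have right : IsPullback (pullback.snd f g) (pullback.fst f g) g f :=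
    (IsPullback.of_hasPullback f g).flip
  have big : IsPullback (pullback.snd (r ≫ f) g) (pullback.fst (r ≫ f) g) g (r ≫ f) :=
    (IsPullback.of_hasPullback (r ≫ f) g).flip
  refine IsPullback.of_right ?_ h1 right
  rw [h2]
  exact big

end PB

section Field

variable {k : Type u} [Field k] {F G : Scheme.{u}}

/-- pointwise geometric reducedness is insensitive to etale morphisms -/
theorem isGeomReducedAt_comp_etale_iff (g : G ⟶ Spec (CommRingCat.of k)) (ρ : F ⟶ G) [Etale ρ]
    (z : F) :
    FBase.IsGeomReducedAt (ρ ≫ g) z ↔ FBase.IsGeomReducedAt g (ρ z) := by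
  have key : ∀ (K : Type u) [Field K] [Algebra k K],
      ∃ ρK : pullback (ρ ≫ g) (Spec.map (CommRingCat.ofHom (algebraMap k K))) ⟶
        pullback g (Spec.map (CommRingCat.ofHom (algebraMap k K))),
        IsPullback ρK (pullback.fst (ρ ≫ g) (Spec.map (CommRingCat.ofHom (algebraMap k K))))
          (pullback.fst g (Spec.map (CommRingCat.ofHom (algebraMap k K)))) ρ := by
    intro K _ _
    have hc : (pullback.fst (ρ ≫ g) (Spec.map (CommRingCat.ofHom (algebraMap k K))) ≫ ρ) ≫ g =
        pullback.snd (ρ ≫ g) (Spec.map (CommRingCat.ofHom (algebraMap k K))) ≫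
          Spec.map (CommRingCat.ofHom (algebraMap k K)) := by
      rw [Category.assoc]
      exact pullback.condition
    exact ⟨pullback.lift _ _ hc, isPullback_lift_comp g _ ρ (ρ ≫ g) rfl _
      (pullback.lift_fst _ _ hc) (pullback.lift_snd _ _ hc)⟩
  constructor
  · intro h K _ _ z'' hz''
    obtain ⟨ρK, sqK⟩ := key K
    change pullback.fst g (Spec.map (CommRingCat.ofHom (algebraMap k K))) z'' = ρ z at hz''
    change _root_.IsReduced ((pullback g
      (Spec.map (CommRingCat.ofHom (algebraMap k K)))).presheaf.stalk z'')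
    obtain ⟨w, hw1, hw2⟩ := Scheme.Pullback.exists_preimage_pullback
      (f := pullback.fst g (Spec.map (CommRingCat.ofHom (algebraMap k K)))) (g := ρ) z'' z hz''
    obtain ⟨z', hz'⟩ : ∃ z', z' = sqK.isoPullback.inv w := ⟨_, rfl⟩
    have e1 : ρK z' = z'' := by
      rw [hz', ← Scheme.Hom.comp_apply, IsPullback.isoPullback_inv_fst]
      exact hw1
    have e2 : pullback.fst (ρ ≫ g) (Spec.map (CommRingCat.ofHom (algebraMap k K))) z' = z := by
      rw [hz', ← Scheme.Hom.comp_apply, IsPullback.isoPullback_inv_snd]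
      exact hw2
    have hred : _root_.IsReduced ((pullback (ρ ≫ g)
        (Spec.map (CommRingCat.ofHom (algebraMap k K)))).presheaf.stalk z') := h K z' e2
    haveI : Etale ρK := MorphismProperty.of_isPullback (P := @Etale) sqK.flip inferInstance
    have := isReduced_stalk_of_flat ρK z' hred
    rwa [e1] at this
  · intro h K _ _ z' hz'
    obtain ⟨ρK, sqK⟩ := key K
    change pullback.fst (ρ ≫ g) (Spec.map (CommRingCat.ofHom (algebraMap k K))) z' = z at hz'
    change _root_.IsReduced ((pullback (ρ ≫ g)
      (Spec.map (CommRingCat.ofHom (algebraMap k K)))).presheaf.stalk z')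
    haveI : Etale ρK := MorphismProperty.of_isPullback (P := @Etale) sqK.flip inferInstance
    have e1 : pullback.fst g (Spec.map (CommRingCat.ofHom (algebraMap k K))) (ρK z') = ρ z := by
      rw [← Scheme.Hom.comp_apply, sqK.w, Scheme.Hom.comp_apply, hz']
    have hred : _root_.IsReduced ((pullback g
        (Spec.map (CommRingCat.ofHom (algebraMap k K)))).presheaf.stalk (ρK z')) := h K (ρK z') e1
    exact isReduced_stalk_of_etale ρK z' hred

end Field

section Fib

variable {U V R : Scheme.{u}} (p : U ⟶ V) (r : R ⟶ U) [Etale r] (q : R ⟶ V) (hq : r ≫ p = q)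

/-- the locus of points at which the fibre is geometrically reduced -/
def grLocus {U V : Scheme.{u}} (p : U ⟶ V) : Set U :=
  {x : U | FBase.IsGeomReducedAt (p.fiberToSpecResidueField (p.base x)) (p.asFiber x)}

/-- fibrewise membership: any point of any fibre -/
theorem mem_grLocus_iff (v : V) (z : p.fiber v) :
    p.fiberι v z ∈ grLocus p ↔ FBase.IsGeomReducedAt (p.fiberToSpecResidueField v) z := by
  have hy : p (p.fiberι v z) = v := by
    have := (p.fiberHomeo v z).2
    simpa using this
  have key : ∀ (v₀ : V) (h : v₀ = v) (z₀ : p.fiber v₀), p.fiberι v₀ z₀ = p.fiberι v z →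
      (FBase.IsGeomReducedAt (p.fiberToSpecResidueField v₀) z₀ ↔
        FBase.IsGeomReducedAt (p.fiberToSpecResidueField v) z) := by
    intro v₀ h z₀ hz
    subst h
    have : z₀ = z := (p.fiberι v₀).isEmbedding.injective hz
    rw [this]
  exact key _ hy _ (p.fiberι_asFiber _)

include hq in
theorem mem_grLocus_etale_iff (x : R) : x ∈ grLocus q ↔ r x ∈ grLocus p := by
  obtain ⟨v, hv⟩ : ∃ v, v = q x := ⟨_, rfl⟩
  have hc : (q.fiberι v ≫ r) ≫ p = q.fiberToSpecResidueField v ≫ V.fromSpecResidueField v := by
    rw [Category.assoc, hq]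
    exact pullback.condition
  obtain ⟨ρ, hρ⟩ : ∃ ρ : q.fiber v ⟶ p.fiber v, ρ = pullback.lift _ _ hc := ⟨_, rfl⟩
  have hρ1 : ρ ≫ p.fiberι v = q.fiberι v ≫ r := by rw [hρ]; exact pullback.lift_fst _ _ hc
  have hρ2 : ρ ≫ p.fiberToSpecResidueField v = q.fiberToSpecResidueField v := by
    rw [hρ]; exact pullback.lift_snd _ _ hc
  have sqρ : IsPullback ρ (q.fiberι v) (p.fiberι v) r :=
    isPullback_lift_comp p (V.fromSpecResidueField v) r q hq ρ hρ1 hρ2
  haveI : Etale ρ := MorphismProperty.of_isPullback (P := @Etale) sqρ.flip inferInstance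
  obtain ⟨z, hz⟩ : ∃ z : q.fiber v, q.fiberι v z = x := by
    subst hv
    exact ⟨q.asFiber x, q.fiberι_asFiber x⟩
  have h1 := mem_grLocus_iff q v z
  rw [hz] at h1
  have h2 := mem_grLocus_iff p v (ρ z)
  have h3 : p.fiberι v (ρ z) = r x := by
    rw [← Scheme.Hom.comp_apply, hρ1, Scheme.Hom.comp_apply, hz]
  rw [h3] at h2
  rw [h1, h2, ← hρ2]
  exact isGeomReducedAt_comp_etale_iff (p.fiberToSpecResidueField v) ρ z

end Fib

end Groth.Agent.Lib.AlgSpGRFibH7
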