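import Mathlib

/-!
# Support of a base change (helper6)

For a finite `R`-module `N`, an `R`-algebra `S` and a prime `q` of `S` over `p`:
`p ∈ Supp N → q ∈ Supp (S ⊗ N)`.
-/

set_option autoImplicit false
universe u

open TensorProduct

namespace Groth.Agent.Lib.GrpdSuppH6

theorem mem_support_baseChange_of_mem {R S N : Type u} [CommRing R] [CommRing S] [Algebra R S]
    [AddCommGroup N] [Module R N] [Module.Finite R N] (q : PrimeSpectrum S)
    (h : PrimeSpectrum.comap (algebraMap R S) q ∈ Module.support R N) :
    q ∈ Module.support S (S ⊗[R] N) := by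
  obtain ⟨p, hp⟩ : ∃ p : PrimeSpectrum R, p = PrimeSpectrum.comap (algebraMap R S) q := ⟨_, rfl⟩
  rw [← hp] at h
  have hpq : p.asIdeal = q.asIdeal.comap (algebraMap R S) := by rw [hp]; rfl
  letI algkK : Algebra p.asIdeal.ResidueField q.asIdeal.ResidueField :=
    (Ideal.ResidueField.map p.asIdeal q.asIdeal (algebraMap R S) hpq).toAlgebra
  haveI : IsScalarTower R p.asIdeal.ResidueField q.asIdeal.ResidueField := by
    refine IsScalarTower.of_algebraMap_eq' ?_
    ext r
    show algebraMap R q.asIdeal.ResidueField r =
      Ideal.ResidueField.map p.asIdeal q.asIdeal (algebraMap R S) hpq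
        (algebraMap R p.asIdeal.ResidueField r)
    rw [Ideal.ResidueField.map_algebraMap, ← IsScalarTower.algebraMap_apply]
  rw [Module.mem_support_iff_nontrivial_residueField_tensorProduct] at h ⊢
  let e1 := AlgebraTensorModule.cancelBaseChange R S q.asIdeal.ResidueField
    q.asIdeal.ResidueField N
  let e2 := AlgebraTensorModule.cancelBaseChange R p.asIdeal.ResidueField
    q.asIdeal.ResidueField q.asIdeal.ResidueField N
  haveI : Nontrivial (q.asIdeal.ResidueField ⊗[p.asIdeal.ResidueField]
      (p.asIdeal.ResidueField ⊗[R] N)) := inferInstance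
  haveI : Nontrivial (q.asIdeal.ResidueField ⊗[R] N) := e2.symm.toEquiv.nontrivial
  exact e1.toEquiv.nontrivial

end Groth.Agent.Lib.GrpdSuppH6
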