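import Mathlib
import Groth.Prelude
import Groth.Agent.Lib.GrpdSupp1_helper6
import Groth.Agent.Lib.BCDim_helper8

/-!
# Base change of a one-step dévissage (lead) — S12231
-/

set_option autoImplicit false
set_option linter.unusedSimpArgs false
set_option linter.unusedVariables false
set_option linter.unusedSectionVars false
set_option linter.style.longLine false
set_option linter.unnecessarySimpa false
set_option linter.style.haveILetI false
set_option maxHeartbeats 1600000

universe u

open TensorProduct CategoryTheory AlgebraicGeometry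

namespace Groth.Agent.Lib.Dev12231

/-! ### support of a base change -/

theorem support_baseChange {S A N : Type u} [CommRing S] [CommRing A] [Algebra S A]
    [AddCommGroup N] [Module S N] [Module.Finite S N] :
    Module.support A (A ⊗[S] N) =
      PrimeSpectrum.comap (algebraMap S A) ⁻¹' Module.support S N := by
  apply Set.Subset.antisymm
  · intro P hP
    have h1 : PrimeSpectrum.comap (algebraMap S A) P ∈ Module.support S (A ⊗[S] N) :=
      Module.support_subset_preimage_comap (R := S) (A := A) (M := A ⊗[S] N) hP
    rw [Set.mem_preimage, Module.mem_support_iff_of_finite]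
    refine le_trans ?_ (Module.annihilator_le_of_mem_support h1)
    intro s hs
    rw [Module.mem_annihilator] at hs ⊢
    intro x
    induction x using TensorProduct.induction_on with
    | zero => simp
    | tmul a n => rw [← TensorProduct.tmul_smul, hs n, TensorProduct.tmul_zero]
    | add x y hx hy => rw [smul_add, hx, hy, add_zero]
  · intro P hP
    exact Groth.Agent.Lib.GrpdSuppH6.mem_support_baseChange_of_mem P hP

theorem supportDim_baseChange_eq {S A N : Type u} [CommRing S] [CommRing A] [Algebra S A]
    [AddCommGroup N] [Module S N] [Module.Finite S N] (I : Ideal S)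
    (hI : Module.support S N = PrimeSpectrum.zeroLocus (I : Set S)) :
    Module.supportDim A (A ⊗[S] N) = ringKrullDim (A ⧸ I.map (algebraMap S A)) := by
  have h : Module.support A (A ⊗[S] N) =
      PrimeSpectrum.zeroLocus ((I.map (algebraMap S A) : Ideal A) : Set A) := by
    rw [support_baseChange, hI, PrimeSpectrum.preimage_comap_zeroLocus, Ideal.map,
      PrimeSpectrum.zeroLocus_span]
  rw [ringKrullDim_quotient, Module.supportDim, h]

/-! ### pushout squares -/

theorem isPushout_right (R S R' S' C C' : Type u) [CommRing R] [CommRing S] [CommRing R']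
    [CommRing S'] [CommRing C] [CommRing C']
    [Algebra R S] [Algebra R R'] [Algebra R' S'] [Algebra R S'] [Algebra S S']
    [IsScalarTower R R' S'] [IsScalarTower R S S'] [Algebra.IsPushout R R' S S']
    [Algebra S C] [Algebra R C] [IsScalarTower R S C]
    [Algebra R' C'] [Algebra R C'] [Algebra C C'] [IsScalarTower R R' C'] [IsScalarTower R C C']
    [Algebra.IsPushout R R' C C']
    [Algebra S' C'] [IsScalarTower R' S' C'] [Algebra S C'] [IsScalarTower S S' C']
    [IsScalarTower S C C'] :
    Algebra.IsPushout S S' C C' := by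
  haveI : IsScalarTower R S' C' := IsScalarTower.of_algebraMap_eq fun x => by
    rw [IsScalarTower.algebraMap_apply R R' C', IsScalarTower.algebraMap_apply R' S' C',
      ← IsScalarTower.algebraMap_apply R R' S']
  haveI : Algebra.IsPushout R S R' S' := Algebra.IsPushout.symm inferInstance
  haveI : Algebra.IsPushout R C R' C' := Algebra.IsPushout.symm inferInstance
  have h : Algebra.IsPushout S C S' C' :=
    (Algebra.IsPushout.comp_iff R S R' S' (T := C) (T' := C')).mp inferInstance
  exact Algebra.IsPushout.symm h

theorem isPullback_spec (R R' D D' : Type u) [CommRing R] [CommRing R'] [CommRing D] [CommRing D']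
    [Algebra R R'] [Algebra R D] [Algebra R' D'] [Algebra R D'] [Algebra D D']
    [IsScalarTower R R' D'] [IsScalarTower R D D'] [Algebra.IsPushout R R' D D'] :
    IsPullback (Spec.map (CommRingCat.ofHom (algebraMap D D')))
      (Spec.map (CommRingCat.ofHom (algebraMap R' D')))
      (Spec.map (CommRingCat.ofHom (algebraMap R D)))
      (Spec.map (CommRingCat.ofHom (algebraMap R R'))) :=
  (isPullback_SpecMap_of_isPushout _ _ _ _ (CommRingCat.isPushout_of_isPushout R R' D D')).flip

/-! ### the dimension of the support of the fibre module -/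

attribute [local instance] Algebra.TensorProduct.rightAlgebra

theorem supportDim_fiber_baseChange
    (R S : Type u) [CommRing R] [CommRing S] [Algebra R S] [Algebra.FiniteType R S]
    (N : Type u) [AddCommGroup N] [Module S N] [Module R N] [IsScalarTower R S N]
    [Module.Finite S N] (p : Ideal R) [p.IsPrime]
    (R' : Type u) [CommRing R'] [Algebra R R'] (p' : Ideal R') [p'.IsPrime] [p'.LiesOver p]
    (S' : Type u) [CommRing S'] [Algebra R' S'] [Algebra R S'] [Algebra S S']
    [IsScalarTower R R' S'] [IsScalarTower R S S'] [Algebra.IsPushout R R' S S']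
    (N' : Type u) [AddCommGroup N'] [Module S' N'] [Module R' N'] [IsScalarTower R' S' N']
    [Module S N'] [IsScalarTower S S' N'] (f : N →ₗ[S] N') (hf : IsBaseChange S' f) :
    Module.supportDim (p'.Fiber S') (FlatCA.fiberMod p' S' N') =
      Module.supportDim (p.Fiber S) (FlatCA.fiberMod p S N) := by
  classical
  have hI : Module.support S N = PrimeSpectrum.zeroLocus (Module.annihilator S N : Set S) :=
    Module.support_eq_zeroLocus
  haveI : Module.Finite S' N' := Module.Finite.equiv hf.equiv
  have hI' : Module.support S' N' = PrimeSpectrum.zeroLocus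
      (((Module.annihilator S N).map (algebraMap S S') : Ideal S') : Set S') := by
    rw [← hf.equiv.support_eq, support_baseChange, hI, PrimeSpectrum.preimage_comap_zeroLocus,
      Ideal.map, PrimeSpectrum.zeroLocus_span]
  have h1 : Module.supportDim (p.Fiber S) (FlatCA.fiberMod p S N) =
      ringKrullDim (p.Fiber S ⧸ (Module.annihilator S N).map (algebraMap S (p.Fiber S))) :=
    supportDim_baseChange_eq (S := S) (A := p.Fiber S) (N := N) _ hI
  have h2 : Module.supportDim (p'.Fiber S') (FlatCA.fiberMod p' S' N') =
      ringKrullDim (p'.Fiber S' ⧸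
        ((Module.annihilator S N).map (algebraMap S S')).map (algebraMap S' (p'.Fiber S'))) :=
    supportDim_baseChange_eq (S := S') (A := p'.Fiber S') (N := N') _ hI'
  have hp : p = p'.comap (algebraMap R R') := Ideal.over_def p' p
  letI algκ : Algebra p.ResidueField p'.ResidueField :=
    (Ideal.ResidueField.map p p' (algebraMap R R') hp).toAlgebra
  haveI : IsScalarTower R p.ResidueField p'.ResidueField :=
    IsScalarTower.of_algebraMap_eq' (by
      ext r
      rw [RingHom.comp_apply, RingHom.algebraMap_toAlgebra,
        Ideal.ResidueField.map_algebraMap p p' (algebraMap R R') hp r,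
        IsScalarTower.algebraMap_apply R R' p'.ResidueField])
  have d1 : ringKrullDim (p.Fiber S ⧸ (Module.annihilator S N).map (algebraMap S (p.Fiber S))) =
      ringKrullDim (p.ResidueField ⊗[R] (S ⧸ Module.annihilator S N)) :=
    (ringKrullDim_eq_of_ringEquiv (Algebra.TensorProduct.tensorQuotientEquiv (R := R)
      p.ResidueField S p.ResidueField (Module.annihilator S N)).toRingEquiv).symm
  have d2 : ringKrullDim (p'.Fiber S' ⧸
        ((Module.annihilator S N).map (algebraMap S S')).map (algebraMap S' (p'.Fiber S'))) =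
      ringKrullDim (p'.ResidueField ⊗[R'] (S' ⧸ (Module.annihilator S N).map (algebraMap S S'))) :=
    (ringKrullDim_eq_of_ringEquiv (Algebra.TensorProduct.tensorQuotientEquiv (R := R')
      p'.ResidueField S' p'.ResidueField
      ((Module.annihilator S N).map (algebraMap S S'))).toRingEquiv).symm
  let e3 : (S' ⧸ (Module.annihilator S N).map (algebraMap S S')) ≃ₐ[R']
      R' ⊗[R] (S ⧸ Module.annihilator S N) :=
    ((Algebra.TensorProduct.quotIdealMapEquivTensorQuot S'
      (Module.annihilator S N)).restrictScalars R').trans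
      (Algebra.IsPushout.cancelBaseChangeAlg R R' S S' (S ⧸ Module.annihilator S N))
  let e4 : p'.ResidueField ⊗[R'] (S' ⧸ (Module.annihilator S N).map (algebraMap S S')) ≃ₐ[p'.ResidueField]
      p'.ResidueField ⊗[R'] (R' ⊗[R] (S ⧸ Module.annihilator S N)) :=
    Algebra.TensorProduct.congr AlgEquiv.refl e3
  let e5 : p'.ResidueField ⊗[R'] (R' ⊗[R] (S ⧸ Module.annihilator S N)) ≃ₐ[p'.ResidueField]
      p'.ResidueField ⊗[R] (S ⧸ Module.annihilator S N) :=
    Algebra.TensorProduct.cancelBaseChange R R' p'.ResidueField p'.ResidueField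
      (S ⧸ Module.annihilator S N)
  let e6 : p'.ResidueField ⊗[p.ResidueField] (p.ResidueField ⊗[R] (S ⧸ Module.annihilator S N))
      ≃ₐ[p'.ResidueField] p'.ResidueField ⊗[R] (S ⧸ Module.annihilator S N) :=
    Algebra.TensorProduct.cancelBaseChange R p.ResidueField p'.ResidueField p'.ResidueField
      (S ⧸ Module.annihilator S N)
  have d3 : ringKrullDim (p'.ResidueField ⊗[R'] (S' ⧸ (Module.annihilator S N).map (algebraMap S S'))) =
      ringKrullDim (p'.ResidueField ⊗[p.ResidueField]
        (p.ResidueField ⊗[R] (S ⧸ Module.annihilator S N))) :=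
    ringKrullDim_eq_of_ringEquiv (e4.trans (e5.trans e6.symm)).toRingEquiv
  have d4 := Groth.Agent.BCDimH8.ringKrullDim_tensor_field p.ResidueField p'.ResidueField
    (p.ResidueField ⊗[R] (S ⧸ Module.annihilator S N))
  rw [h2, d2, d3, d4, h1, d1]

/-! ### the main theorem -/

theorem main12231
    (R S : Type u) [CommRing R] [CommRing S] [Algebra R S] [Algebra.FiniteType R S]
    (N : Type u) [AddCommGroup N] [Module S N] [Module R N] [IsScalarTower R S N] [Module.Finite S N]
    (p : Ideal R) [p.IsPrime]
    (C D G : Type u) [CommRing C] [CommRing D] [Algebra S C] [Algebra R C] [IsScalarTower R S C]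
    [Algebra R D] [Algebra D C] [IsScalarTower R D C] [AddCommGroup G] [Module C G] [Module S G]
    [IsScalarTower S C G] (n : ℕ)
    (h : FlatCA.IsOneStepDevissage R S N p C D G n)
    (R' : Type u) [CommRing R'] [Algebra R R'] (p' : Ideal R') [p'.IsPrime] [p'.LiesOver p]
    (S' C' D' : Type u) [CommRing S'] [CommRing C'] [CommRing D']
    [Algebra R' S'] [Algebra R S'] [Algebra S S'] [IsScalarTower R R' S'] [IsScalarTower R S S']
    [Algebra.IsPushout R R' S S']
    [Algebra R' C'] [Algebra R C'] [Algebra C C'] [IsScalarTower R R' C'] [IsScalarTower R C C']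
    [Algebra.IsPushout R R' C C']
    [Algebra R' D'] [Algebra R D'] [Algebra D D'] [IsScalarTower R R' D'] [IsScalarTower R D D']
    [Algebra.IsPushout R R' D D']
    [Algebra S' C'] [IsScalarTower R' S' C'] [Algebra S C'] [IsScalarTower S S' C'] [IsScalarTower S C C']
    [Algebra D' C'] [IsScalarTower R' D' C'] [Algebra D C'] [IsScalarTower D D' C'] [IsScalarTower D C C']
    (N' : Type u) [AddCommGroup N'] [Module S' N'] [Module R' N'] [IsScalarTower R' S' N']
    [Module S N'] [IsScalarTower S S' N'] (f : N →ₗ[S] N') (hf : IsBaseChange S' f)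
    (G' : Type u) [AddCommGroup G'] [Module C' G'] [Module S' G'] [IsScalarTower S' C' G']
    [Module C G'] [IsScalarTower C C' G'] (g : G →ₗ[C] G') (hg : IsBaseChange C' g) :
    FlatCA.IsOneStepDevissage R' S' N' p' C' D' G' n := by
  obtain ⟨⟨e⟩, hsurj, hfp, hfinDC, hfinCG, hsm, hirr, hdim⟩ := h
  haveI := hfp
  haveI := hfinDC
  haveI := hfinCG
  haveI pSC : Algebra.IsPushout S S' C C' := isPushout_right R S R' S' C C'
  haveI pDC : Algebra.IsPushout D D' C C' := isPushout_right R D R' D' C C'
  refine ⟨?_, ?_, ?_, ?_, ?_, ?_, ?_, ?_⟩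
  · -- N' ≃ G'
    have e1 : N' ≃ₗ[S'] S' ⊗[S] N := hf.equiv.symm
    have e2 : S' ⊗[S] N ≃ₗ[S'] S' ⊗[S] G :=
      TensorProduct.AlgebraTensorModule.congr (LinearEquiv.refl S' S') e
    have e3 : C' ⊗[C] G ≃ₗ[S'] S' ⊗[S] G := Algebra.IsPushout.cancelBaseChange S S' C C' G
    have e4 : C' ⊗[C] G ≃ₗ[S'] G' := hg.equiv.restrictScalars S'
    exact ⟨e1 ≪≫ₗ e2 ≪≫ₗ e3.symm ≪≫ₗ e4⟩
  · -- surjectivity
    intro c'
    have hbc : IsBaseChange S' (IsScalarTower.toAlgHom S C C').toLinearMap := pSC.out
    refine hbc.inductionOn c' _ ?_ ?_ ?_ ?_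
    · exact ⟨0, map_zero _⟩
    · intro c
      obtain ⟨s, rfl⟩ := hsurj c
      refine ⟨algebraMap S S' s, ?_⟩
      rw [← IsScalarTower.algebraMap_apply S S' C', IsScalarTower.algebraMap_apply S C C']
      rfl
    · rintro s' x ⟨y, hy⟩
      exact ⟨s' * y, by rw [map_mul, hy, Algebra.smul_def]⟩
    · rintro x₁ x₂ ⟨y₁, hy₁⟩ ⟨y₂, hy₂⟩
      exact ⟨y₁ + y₂, by rw [map_add, hy₁, hy₂]⟩
  · exact Algebra.FinitePresentation.equiv (Algebra.IsPushout.equiv S S' C C')
  · exact Module.Finite.equiv (Algebra.IsPushout.equiv D D' C C').toLinearEquiv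
  · exact Module.Finite.equiv hg.equiv
  · exact (smoothOfRelativeDimension_isStableUnderBaseChange n).of_isPullback
      (isPullback_spec R R' D D') hsm
  · exact MorphismProperty.of_isPullback (P := @GeometricallyIrreducible)
      (isPullback_spec R R' D D') hirr
  · rw [supportDim_fiber_baseChange R S N p R' p' S' N' f hf]
    exact hdim

end Groth.Agent.Lib.Dev12231
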