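import Mathlib
import Groth.Agent.Lib.FlatDesc12_helper8

/-!
# The kernel of a surjection onto a finitely presented module flat over the base (EGA IV 11.3.9.1)

If `B` is a finitely presented `A`-algebra, `N` a finitely presented `B`-module flat over `A`, and
`p : M → N` a surjection from a finitely presented `B`-module, then `ker p` is finitely presented.
-/

namespace Groth.Agent.Lib.KerFPH6

open TensorProduct

universe u

section Step2

variable {B : Type u} [CommRing B] {F M N : Type u} [AddCommGroup F] [Module B F]
  [AddCommGroup M] [Module B M] [AddCommGroup N] [Module B N]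

/-- If one surjection from a finite projective module onto `N` has finitely presented kernel,
every surjection from a finitely presented module has finitely presented kernel. -/
theorem fp_ker_of_projective_fp_ker [Module.Projective B F] [Module.Finite B F]
    [Module.FinitePresentation B M] [Module.FinitePresentation B N]
    (π : F →ₗ[B] N) (hπ : Function.Surjective π) [Module.FinitePresentation B (LinearMap.ker π)]
    (p : M →ₗ[B] N) (hp : Function.Surjective p) :
    Module.FinitePresentation B (LinearMap.ker p) := by
  -- the fibre product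
  let P : Submodule B (F × M) := LinearMap.ker (π.coprod (-p))
  have hP : ∀ z : F × M, z ∈ P ↔ π z.1 = p z.2 := by
    intro z
    show (π.coprod (-p)) z = 0 ↔ _
    rw [LinearMap.coprod_apply, LinearMap.neg_apply, ← sub_eq_add_neg, sub_eq_zero]
  let sndP : P →ₗ[B] M := (LinearMap.snd B F M).comp P.subtype
  let fstP : P →ₗ[B] F := (LinearMap.fst B F M).comp P.subtype
  have hsnd : Function.Surjective sndP := by
    intro y
    obtain ⟨x, hx⟩ := hπ (p y)
    exact ⟨⟨(x, y), (hP _).mpr hx⟩, rfl⟩
  have hfst : Function.Surjective fstP := by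
    intro x
    obtain ⟨y, hy⟩ := hp (π x)
    exact ⟨⟨(x, y), (hP _).mpr hy.symm⟩, rfl⟩
  -- kernel of `sndP` is `ker π`
  let φ₀ : LinearMap.ker π →ₗ[B] P :=
    LinearMap.codRestrict P ((LinearMap.inl B F M).comp (LinearMap.ker π).subtype) (fun x => by
      rw [hP]
      show π x.1 = p 0
      rw [map_zero]
      exact x.2)
  let φ : LinearMap.ker π →ₗ[B] LinearMap.ker sndP :=
    LinearMap.codRestrict (LinearMap.ker sndP) φ₀ (fun x => by
      rw [LinearMap.mem_ker]
      rfl)
  have hφinj : Function.Injective φ := by
    intro x x' h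
    have h1 : ((φ x : P) : F × M).1 = ((φ x' : P) : F × M).1 := by rw [h]
    exact Subtype.ext h1
  have hφsurj : Function.Surjective φ := by
    rintro ⟨⟨⟨x, y⟩, hz⟩, hk⟩
    have hy : y = 0 := hk
    subst hy
    have hx : π x = 0 := by
      have := (hP _).mp hz
      rw [this]
      exact map_zero p
    refine ⟨⟨x, hx⟩, ?_⟩
    apply Subtype.ext
    apply Subtype.ext
    rfl
  haveI : Module.FinitePresentation B (LinearMap.ker sndP) :=
    Module.FinitePresentation.of_equiv (R := B) (M := LinearMap.ker π) (N := LinearMap.ker sndP)
      (LinearEquiv.ofBijective φ ⟨hφinj, hφsurj⟩)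
  haveI : Module.FinitePresentation B P := Module.finitePresentation_of_ker sndP hsnd
  -- `ker p → P → F` is exact
  let ι : LinearMap.ker p →ₗ[B] P :=
    LinearMap.codRestrict P ((LinearMap.inr B F M).comp (LinearMap.ker p).subtype) (fun y => by
      rw [hP]
      show π 0 = p y.1
      rw [map_zero]
      exact y.2.symm)
  have hιinj : Function.Injective ι := by
    intro y y' h
    have h1 : ((ι y : P) : F × M).2 = ((ι y' : P) : F × M).2 := by rw [h]
    exact Subtype.ext h1
  have hex : Function.Exact ι fstP := by
    intro z
    constructor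
    · intro hz
      obtain ⟨⟨x, y⟩, hzP⟩ := z
      have hx : x = 0 := hz
      subst hx
      have hy : p y = 0 := by
        have := (hP _).mp hzP
        rw [← this]
        exact map_zero π
      refine ⟨⟨y, hy⟩, ?_⟩
      apply Subtype.ext
      rfl
    · rintro ⟨y, rfl⟩
      rfl
  exact Module.finitePresentation_of_projective_of_exact ι fstP hιinj hfst hex

end Step2

section Step1

open Groth.Agent.Lib.FlatDescH8

/-- There is a surjection from a finite free module onto `N` with finitely presented kernel. -/
theorem exists_free_surj_fp_ker {A B : Type u} [CommRing A] [CommRing B] [Algebra A B]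
    [Algebra.FinitePresentation A B] (N : Type u) [AddCommGroup N] [Module B N] [Module A N]
    [IsScalarTower A B N] [Module.FinitePresentation B N] [Module.Flat A N] :
    ∃ (F : Type u) (_ : AddCommGroup F) (_ : Module B F) (_ : Module.Free B F)
      (_ : Module.Finite B F) (π : F →ₗ[B] N), Function.Surjective π ∧
        Module.FinitePresentation B (LinearMap.ker π) := by
  obtain ⟨R₀, _, _, S₀, _, _, _, _, _, _, M₀, _, _, _, _, _, _, f', hft, hftS, hfin, hflat, hpush,
    hbc⟩ := exists_finiteType_int_model A B N
  haveI : IsNoetherianRing R₀ := Algebra.FiniteType.isNoetherianRing ℤ R₀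
  haveI : IsNoetherianRing S₀ := Algebra.FiniteType.isNoetherianRing R₀ S₀
  haveI := hfin
  haveI := hflat
  haveI := hpush
  obtain ⟨n, π₀, hπ₀⟩ := Module.Finite.exists_fin' S₀ M₀
  haveI : Module.Finite S₀ (LinearMap.ker π₀) := Module.IsNoetherian.finite S₀ _
  haveI : Module.FinitePresentation S₀ (LinearMap.ker π₀) := Module.finitePresentation_of_finite S₀ _
  -- injectivity of the base change of the inclusion of the kernel
  have hinjA : Function.Injective
      (((LinearMap.ker π₀).subtype.restrictScalars R₀).lTensor A) :=
    LinearMap.lTensor_injective_of_exact_of_flat (π₀.restrictScalars R₀) hπ₀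
      ((LinearMap.ker π₀).subtype.restrictScalars R₀) (LinearMap.ker π₀).injective_subtype
      (LinearMap.exact_subtype_ker_map π₀) A
  have hnat : ∀ y : A ⊗[R₀] (LinearMap.ker π₀),
      ((LinearMap.ker π₀).subtype.lTensor B)
        ((Algebra.IsPushout.cancelBaseChange R₀ A S₀ B (LinearMap.ker π₀)).symm y) =
      (Algebra.IsPushout.cancelBaseChange R₀ A S₀ B (Fin n → S₀)).symm
        ((((LinearMap.ker π₀).subtype.restrictScalars R₀).lTensor A) y) := by
    intro y
    induction y with
    | zero => simp
    | add x y hx hy => simp only [map_add, hx, hy]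
    | tmul a k =>
      rw [Algebra.IsPushout.cancelBaseChange_symm_tmul, LinearMap.lTensor_tmul,
        LinearMap.lTensor_tmul, Algebra.IsPushout.cancelBaseChange_symm_tmul]
      rfl
  have hinjB : Function.Injective ((LinearMap.ker π₀).subtype.lTensor B) := by
    intro x x' h
    obtain ⟨y, rfl⟩ :=
      (Algebra.IsPushout.cancelBaseChange R₀ A S₀ B (LinearMap.ker π₀)).symm.surjective x
    obtain ⟨y', rfl⟩ :=
      (Algebra.IsPushout.cancelBaseChange R₀ A S₀ B (LinearMap.ker π₀)).symm.surjective x'
    rw [hnat, hnat] at h
    rw [hinjA ((Algebra.IsPushout.cancelBaseChange R₀ A S₀ B (Fin n → S₀)).symm.injective h)]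
  -- the base-changed maps
  let j : B ⊗[S₀] (LinearMap.ker π₀) →ₗ[B] B ⊗[S₀] (Fin n → S₀) :=
    (LinearMap.ker π₀).subtype.baseChange B
  let π' : B ⊗[S₀] (Fin n → S₀) →ₗ[B] B ⊗[S₀] M₀ := π₀.baseChange B
  have hj : Function.Injective j := hinjB
  have hπ' : Function.Surjective π' := LinearMap.lTensor_surjective B hπ₀
  have hex : Function.Exact j π' :=
    lTensor_exact B (LinearMap.exact_subtype_ker_map π₀) hπ₀
  let e : B ⊗[S₀] M₀ ≃ₗ[B] N := hbc.equiv
  refine ⟨B ⊗[S₀] (Fin n → S₀), inferInstance, inferInstance, inferInstance, inferInstance,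
    e.toLinearMap ∘ₗ π', e.surjective.comp hπ', ?_⟩
  have hker : LinearMap.ker (e.toLinearMap ∘ₗ π') = LinearMap.range j := by
    rw [LinearEquiv.ker_comp]
    exact (LinearMap.exact_iff.mp hex)
  rw [hker]
  exact Module.FinitePresentation.of_equiv (R := B) (M := B ⊗[S₀] (LinearMap.ker π₀))
    (N := LinearMap.range j) (LinearEquiv.ofInjective j hj)

end Step1

/-- **EGA IV 11.3.9.1 (algebra)**: the kernel of a surjection from a finitely presented `B`-module
onto a finitely presented `B`-module flat over `A` (with `B` finitely presented over `A`) is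
finitely presented. -/
theorem finitePresentation_ker_of_flat {A B : Type u} [CommRing A] [CommRing B] [Algebra A B]
    [Algebra.FinitePresentation A B] {M N : Type u} [AddCommGroup M] [Module B M]
    [AddCommGroup N] [Module B N] [Module A N] [IsScalarTower A B N]
    [Module.FinitePresentation B M] [Module.FinitePresentation B N] [Module.Flat A N]
    (p : M →ₗ[B] N) (hp : Function.Surjective p) :
    Module.FinitePresentation B (LinearMap.ker p) := by
  obtain ⟨F, _, _, _, _, π, hπ, hfp⟩ := exists_free_surj_fp_ker (A := A) (B := B) N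
  haveI := hfp
  exact fp_ker_of_projective_fp_ker π hπ p hp

end Groth.Agent.Lib.KerFPH6
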