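import Mathlib
import Groth.Agent.S0387
import Groth.Agent.Lib.KerFP_helper6
import Groth.Agent.Lib.FlatLocFP1_helper6

/-!
# Fibrewise (S_k), part 1: spreading out regularity of an element with flat cokernel (helper5)

Ring-level analogue of EGA IV 11.3.7 for the endomorphism `b : M → M`:
if `b` is `M_q`-regular and `(M/bM)_q` is `A`-flat, the same holds at all primes of a
neighbourhood of `q`.  APPEND-ONLY once landed.
-/

set_option autoImplicit false

namespace Groth.Agent.Lib.FibSkH5

open TensorProduct Pointwise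

universe u

variable {A B : Type u} [CommRing A] [CommRing B] [Algebra A B]

/-- If a `B`-module `N` is `A`-flat at all primes of `B` not containing `s`, then `N_s` is
`A`-flat. -/
theorem flat_away_of_forall (N : Type u) [AddCommGroup N] [Module B N] [Module A N]
    [IsScalarTower A B N] (s : B)
    (h : ∀ (q : Ideal B) [q.IsPrime], s ∉ q →
      Module.Flat A (LocalizedModule q.primeCompl N)) :
    Module.Flat A (LocalizedModule (Submonoid.powers s) N) := by
  rw [Groth.Agent.Lib.FlatLocFP1H6.flat_localizedModule_iff]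
  intro I ξ hξ
  by_contra hcon
  push Not at hcon
  let J : Ideal B := LinearMap.ker (LinearMap.toSpanSingleton B (N ⊗[A] I) ξ)
  have hJ : ∀ t : B, t ∈ J ↔ t • ξ = 0 := fun t => by
    simp only [J, LinearMap.mem_ker, LinearMap.toSpanSingleton_apply]
  have hdisj : Disjoint (J : Set B) (Submonoid.powers s : Set B) := by
    rw [Set.disjoint_left]
    intro t htJ hts
    exact hcon t hts ((hJ t).mp htJ)
  obtain ⟨q, hq, hJq, hqs⟩ := Ideal.exists_le_prime_disjoint J (Submonoid.powers s) hdisj
  have hsq : s ∉ q := fun hs =>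
    Set.disjoint_left.mp hqs hs (Submonoid.mem_powers s)
  have hfl := h q hsq
  rw [Groth.Agent.Lib.FlatLocFP1H6.flat_localizedModule_iff] at hfl
  obtain ⟨t, ht, htξ⟩ := hfl I ξ hξ
  exact ht (hJq ((hJ t).mpr htξ))

section K

variable [Algebra.FinitePresentation A B] (M : Type u) [AddCommGroup M] [Module B M] [Module A M]
  [IsScalarTower A B M] [Module.FinitePresentation B M] (b : B)

instance : Module.FinitePresentation B (QuotSMulTop b M) := by
  refine Module.finitePresentation_of_surjective (Submodule.mkQ _) (Submodule.mkQ_surjective _) ?_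
  rw [Submodule.ker_mkQ]
  have : (b • (⊤ : Submodule B M)) = Submodule.map (LinearMap.lsmul B M b) ⊤ := by
    ext x
    simp [Submodule.mem_smul_pointwise_iff_exists]
  rw [this]
  exact Submodule.FG.map _ Module.Finite.fg_top

omit [Algebra.FinitePresentation A B] [Module A M] [IsScalarTower A B M]
  [Module.FinitePresentation B M] in
theorem smul_quotSMulTop_eq_zero (n : QuotSMulTop b M) : b • n = 0 := by
  obtain ⟨m, rfl⟩ := Submodule.mkQ_surjective _ n
  rw [← map_smul, Submodule.mkQ_apply, Submodule.Quotient.mk_eq_zero]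
  exact Submodule.smul_mem_pointwise_smul m b ⊤ Submodule.mem_top

/-- regularity of `b` on a localization, in terms of elements -/
theorem isSMulRegular_localizedModule_iff (S : Submonoid B) :
    IsSMulRegular (LocalizedModule S M) b ↔
      ∀ m : M, (∃ u ∈ S, u • b • m = 0) → ∃ u ∈ S, u • m = 0 := by
  rw [isSMulRegular_iff_right_eq_zero_of_smul]
  constructor
  · intro h m ⟨u, hu, hum⟩
    have h1 : b • (LocalizedModule.mk m (1 : S)) = 0 := by
      rw [LocalizedModule.smul'_mk, ← LocalizedModule.zero_mk (1 : S), LocalizedModule.mk_eq]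
      exact ⟨⟨u, hu⟩, by simp [Submonoid.smul_def, hum]⟩
    have h2 := h _ h1
    rw [← LocalizedModule.zero_mk (1 : S), LocalizedModule.mk_eq] at h2
    obtain ⟨v, hv⟩ := h2
    refine ⟨v, v.2, ?_⟩
    simpa [Submonoid.smul_def] using hv
  · intro h x hx
    induction x using LocalizedModule.induction_on with
    | h m t =>
      rw [LocalizedModule.smul'_mk, ← LocalizedModule.zero_mk t, LocalizedModule.mk_eq] at hx
      obtain ⟨v, hv⟩ := hx
      obtain ⟨u, hu, hum⟩ := h m ⟨v * t, (v * t).2, by
        simpa [Submonoid.smul_def, mul_smul] using hv⟩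
      rw [← LocalizedModule.zero_mk t, LocalizedModule.mk_eq]
      refine ⟨⟨u, hu⟩, ?_⟩
      simp only [Submonoid.smul_def, smul_zero]
      rw [smul_comm, hum, smul_zero]

theorem exists_nearby_regular (q : Ideal B) [q.IsPrime]
    (hreg : IsSMulRegular (LocalizedModule q.primeCompl M) b)
    (hflat : Module.Flat A (LocalizedModule q.primeCompl (QuotSMulTop b M))) :
    ∃ s : B, s ∉ q ∧ ∀ (q' : Ideal B) [q'.IsPrime], s ∉ q' →
      IsSMulRegular (LocalizedModule q'.primeCompl M) b ∧
        Module.Flat A (LocalizedModule q'.primeCompl (QuotSMulTop b M)) := by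
  classical
  have hopen := Groth.Agent.S0387.result (R := A) (S := B) (M := QuotSMulTop b M)
  obtain ⟨_, ⟨s₁, rfl⟩, hq₁, hsub⟩ :=
    PrimeSpectrum.isTopologicalBasis_basic_opens.exists_subset_of_mem_open
      (show (⟨q, inferInstance⟩ : PrimeSpectrum B) ∈ {q : PrimeSpectrum B |
        Module.Flat A (LocalizedModule q.asIdeal.primeCompl (QuotSMulTop b M))} from hflat) hopen
  have hs₁q : s₁ ∉ q := hq₁
  have hflat₁ : ∀ (q' : Ideal B) [q'.IsPrime], s₁ ∉ q' →
      Module.Flat A (LocalizedModule q'.primeCompl (QuotSMulTop b M)) :=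
    fun q' _ h => hsub (show (⟨q', inferInstance⟩ : PrimeSpectrum B) ∈
      (PrimeSpectrum.basicOpen s₁ : Set (PrimeSpectrum B)) from h)
  set S₁ : Submonoid B := Submonoid.powers s₁ with hS₁
  have hS₁q : ∀ u ∈ S₁, u ∉ q := by
    rintro u ⟨n, rfl⟩ hu
    exact hs₁q (Ideal.IsPrime.mem_of_pow_mem inferInstance n hu)
  haveI : Module.Flat A (LocalizedModule S₁ (QuotSMulTop b M)) :=
    flat_away_of_forall _ s₁ hflat₁
  let π' : LocalizedModule S₁ M →ₗ[Localization S₁] LocalizedModule S₁ (QuotSMulTop b M) :=
    LocalizedModule.map S₁ (Submodule.mkQ (b • (⊤ : Submodule B M)))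
  have hπ' : Function.Surjective π' :=
    LocalizedModule.map_surjective _ _ (Submodule.mkQ_surjective _)
  haveI : Algebra.FinitePresentation A (Localization S₁) :=
    inferInstanceAs (Algebra.FinitePresentation A (Localization.Away s₁))
  haveI : Module.FinitePresentation (Localization S₁) (LinearMap.ker π') :=
    Groth.Agent.Lib.KerFPH6.finitePresentation_ker_of_flat (A := A) π' hπ'
  have hbN : ∀ n' : LocalizedModule S₁ (QuotSMulTop b M), b • n' = 0 := by
    intro n'
    induction n' using LocalizedModule.induction_on with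
    | h n t =>
      rw [LocalizedModule.smul'_mk, smul_quotSMulTop_eq_zero, LocalizedModule.zero_mk]
  have hβmem : ∀ m' : LocalizedModule S₁ M,
      (algebraMap B (Localization S₁) b • LinearMap.id :
        LocalizedModule S₁ M →ₗ[Localization S₁] LocalizedModule S₁ M) m' ∈ LinearMap.ker π' := by
    intro m'
    rw [LinearMap.mem_ker, LinearMap.smul_apply, LinearMap.id_apply, map_smul, algebraMap_smul]
    exact hbN _
  let β : LocalizedModule S₁ M →ₗ[Localization S₁] LinearMap.ker π' :=
    (algebraMap B (Localization S₁) b • LinearMap.id).codRestrict _ hβmem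
  have hβapp : ∀ m', ((β m' : LinearMap.ker π') : LocalizedModule S₁ M) = b • m' := by
    intro m'
    show (algebraMap B (Localization S₁) b • LinearMap.id :
        LocalizedModule S₁ M →ₗ[Localization S₁] LocalizedModule S₁ M) m' = _
    rw [LinearMap.smul_apply, LinearMap.id_apply, algebraMap_smul]
  have hβ : Function.Surjective β := by
    rintro ⟨y, hy⟩
    induction y using LocalizedModule.induction_on with
    | h m t =>
      rw [LinearMap.mem_ker, LocalizedModule.map_mk, ← LocalizedModule.zero_mk t,
        LocalizedModule.mk_eq] at hy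
      obtain ⟨u, hu⟩ := hy
      have hu' : (u : B) • (t : B) • m ∈ (b • (⊤ : Submodule B M)) := by
        rw [← Submodule.Quotient.mk_eq_zero, Submodule.Quotient.mk_smul,
          Submodule.Quotient.mk_smul]
        simpa [Submonoid.smul_def] using hu
      obtain ⟨m₀, -, hm₀⟩ := (Submodule.mem_smul_pointwise_iff_exists _ _ _).mp hu'
      refine ⟨LocalizedModule.mk m₀ (u * t * t), Subtype.ext ?_⟩
      rw [hβapp, LocalizedModule.smul'_mk, hm₀, LocalizedModule.mk_eq]
      refine ⟨1, ?_⟩
      simp only [Submonoid.smul_def, Submonoid.coe_mul, one_smul, mul_smul]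
      rw [smul_comm (t : B) (u : B) ((t : B) • m)]
  obtain ⟨G, hG⟩ := Module.FinitePresentation.fg_ker β hβ
  have hkerβ : ∀ x : LocalizedModule S₁ M, x ∈ LinearMap.ker β ↔ b • x = 0 := by
    intro x
    rw [LinearMap.mem_ker]
    constructor
    · intro h
      rw [← hβapp, h]
      rfl
    · intro h
      exact Subtype.ext (by rw [hβapp, h]; rfl)
  have hkill : ∀ x ∈ G, ∃ c : B, c ∉ q ∧ c • x = 0 := by
    intro x hx
    have hx' : x ∈ LinearMap.ker β := hG ▸ Submodule.subset_span hx
    rw [hkerβ] at hx'
    induction x using LocalizedModule.induction_on with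
    | h m t =>
      rw [LocalizedModule.smul'_mk, ← LocalizedModule.zero_mk t, LocalizedModule.mk_eq] at hx'
      obtain ⟨u, hu⟩ := hx'
      have h1 : ∃ v ∈ q.primeCompl, v • b • ((u : B) • (t : B) • m) = 0 := by
        refine ⟨1, Submonoid.one_mem _, ?_⟩
        rw [one_smul, smul_comm b (u : B), smul_comm b (t : B)]
        simpa [Submonoid.smul_def] using hu
      obtain ⟨w, hw, hwm⟩ := (isSMulRegular_localizedModule_iff M b q.primeCompl).mp hreg _ h1
      refine ⟨w * u * t, ?_, ?_⟩
      · intro hmem
        rcases Ideal.IsPrime.mem_or_mem inferInstance hmem with h2 | h2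
        · rcases Ideal.IsPrime.mem_or_mem inferInstance h2 with h3 | h3
          · exact hw h3
          · exact hS₁q u u.2 h3
        · exact hS₁q t t.2 h2
      · rw [LocalizedModule.smul'_mk, mul_smul, mul_smul, hwm, LocalizedModule.zero_mk]
  choose! c hc using hkill
  have hgq : (∏ x ∈ G, c x) ∉ q := by
    intro hmem
    obtain ⟨x, hxG, hx⟩ := (Ideal.IsPrime.prod_mem_iff (hp := inferInstance)).mp hmem
    exact (hc x hxG).1 hx
  have hgk : ∀ y ∈ LinearMap.ker β, (∏ x ∈ G, c x) • y = 0 := by
    intro y hy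
    rw [← hG] at hy
    refine Submodule.span_induction ?_ ?_ ?_ ?_ hy
    · intro x hxG
      rw [← Finset.mul_prod_erase G c hxG, mul_comm, mul_smul, (hc x hxG).2, smul_zero]
    · exact smul_zero _
    · intro a a' _ _ ha ha'
      rw [smul_add, ha, ha', add_zero]
    · intro r a _ ha
      rw [smul_comm, ha, smul_zero]
  refine ⟨s₁ * ∏ x ∈ G, c x, fun hmem => ?_, ?_⟩
  · rcases Ideal.IsPrime.mem_or_mem inferInstance hmem with h | h
    · exact hs₁q h
    · exact hgq h
  · intro q' _ hsq'
    have hs₁q' : s₁ ∉ q' := fun h => hsq' (Ideal.mul_mem_right _ _ h)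
    have hgq' : (∏ x ∈ G, c x) ∉ q' := fun h => hsq' (Ideal.mul_mem_left _ _ h)
    refine ⟨?_, hflat₁ q' hs₁q'⟩
    rw [isSMulRegular_localizedModule_iff]
    rintro m ⟨u, hu, hum⟩
    have hy : (LocalizedModule.mk (u • m) (1 : S₁)) ∈ LinearMap.ker β := by
      rw [hkerβ, LocalizedModule.smul'_mk, smul_comm, hum, LocalizedModule.zero_mk]
    have h2 := hgk _ hy
    rw [LocalizedModule.smul'_mk, ← LocalizedModule.zero_mk (1 : S₁), LocalizedModule.mk_eq] at h2
    obtain ⟨v, hv⟩ := h2
    refine ⟨(v : B) * (∏ x ∈ G, c x) * u, ?_, ?_⟩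
    · intro hmem
      rcases Ideal.IsPrime.mem_or_mem inferInstance hmem with h3 | h3
      · rcases Ideal.IsPrime.mem_or_mem inferInstance h3 with h4 | h4
        · obtain ⟨n, hn⟩ := v.2
          rw [← hn] at h4
          exact hs₁q' (Ideal.IsPrime.mem_of_pow_mem inferInstance n h4)
        · exact hgq' h4
      · exact hu h3
    · rw [mul_smul, mul_smul]
      simpa [Submonoid.smul_def] using hv

end K


end Groth.Agent.Lib.FibSkH5
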