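import Mathlib
import Groth.Agent.S2107
import Groth.Agent.Lib.FibInjF_helper6
import Groth.Agent.Lib.FibSk1_helper5

/-!
# Fibrewise (S_k), part 2: the fibre ring `B_q / pB_q`, pointwise flatness criterion for one
element, and openness of the fibrewise weakly regular locus (ring level) (helper5)

APPEND-ONLY once landed.
-/

set_option autoImplicit false

namespace Groth.Agent.Lib.FibSkH5

open TensorProduct Pointwise

universe u

variable (A : Type u) {B : Type u} [CommRing A] [CommRing B] [Algebra A B]

/-- the ideal `p B_q` of `B_q`, where `p = q ∩ A` -/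
noncomputable abbrev fibJ (q : Ideal B) [q.IsPrime] : Ideal (Localization.AtPrime q) :=
  (q.comap (algebraMap A B)).map (algebraMap A (Localization.AtPrime q))

/-- the local ring of the fibre at `q`: `B_q / p B_q` -/
abbrev Fib (q : Ideal B) [q.IsPrime] : Type u := Localization.AtPrime q ⧸ fibJ A q

variable (q : Ideal B) [q.IsPrime] (M : Type u) [AddCommGroup M] [Module B M]

/-- `Fib ⊗_B M ≅ M_q / J M_q` -/
noncomputable def fibMEquiv :
    Fib A q ⊗[B] M ≃ₗ[Localization.AtPrime q]
      (LocalizedModule q.primeCompl M ⧸
        (fibJ A q • ⊤ : Submodule (Localization.AtPrime q) (LocalizedModule q.primeCompl M))) :=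
  (AlgebraTensorModule.cancelBaseChange B (Localization.AtPrime q) (Localization.AtPrime q)
      (Fib A q) M).symm ≪≫ₗ
    (AlgebraTensorModule.congr (LinearEquiv.refl (Localization.AtPrime q) (Fib A q))
      (IsLocalizedModule.isBaseChange q.primeCompl (Localization.AtPrime q)
        (LocalizedModule.mkLinearMap q.primeCompl M)).equiv) ≪≫ₗ
    TensorProduct.quotTensorEquivQuotSMul (LocalizedModule q.primeCompl M) (fibJ A q)

/-- localization commutes with `QuotSMulTop` -/
noncomputable def locQuotSMulTopEquiv (S : Submonoid B) (b : B) :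
    LocalizedModule S (QuotSMulTop b M) ≃ₗ[B] QuotSMulTop b (LocalizedModule S M) :=
  ((IsLocalizedModule.isBaseChange S (Localization S)
      (LocalizedModule.mkLinearMap S (QuotSMulTop b M))).equiv.symm.restrictScalars B) ≪≫ₗ
    QuotSMulTop.tensorQuotSMulTopEquivQuotSMulTop b (Localization S) M ≪≫ₗ
    QuotSMulTop.congr b ((IsLocalizedModule.isBaseChange S (Localization S)
      (LocalizedModule.mkLinearMap S M)).equiv.restrictScalars B)

variable [Module A M] [IsScalarTower A B M]

/-- `N/bN` for `N = M_q` in the two forms -/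
noncomputable def quotRangeEquiv (b : B) :
    (LocalizedModule q.primeCompl M ⧸ LinearMap.range
      (LinearMap.lsmul (Localization.AtPrime q) (LocalizedModule q.primeCompl M)
        (algebraMap B (Localization.AtPrime q) b))) ≃ₗ[A]
      LocalizedModule q.primeCompl (QuotSMulTop b M) :=
  ((Submodule.Quotient.restrictScalarsEquiv B _).symm ≪≫ₗ
    Submodule.quotEquivOfEq _ (b • (⊤ : Submodule B (LocalizedModule q.primeCompl M))) (by
      ext x
      simp only [Submodule.restrictScalars_mem, LinearMap.mem_range, LinearMap.lsmul_apply,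
        algebraMap_smul, Submodule.mem_smul_pointwise_iff_exists, Submodule.mem_top, true_and]) ≪≫ₗ
    (locQuotSMulTopEquiv M q.primeCompl b).symm).restrictScalars A

/-- transfer of regularity along a `B`-linear equivalence -/
theorem isSMulRegular_congr {X Y : Type u} [AddCommGroup X] [Module B X] [AddCommGroup Y]
    [Module B Y] (e : X ≃ₗ[B] Y) (b : B) : IsSMulRegular X b ↔ IsSMulRegular Y b := by
  rw [isSMulRegular_iff_right_eq_zero_of_smul, isSMulRegular_iff_right_eq_zero_of_smul]
  constructor
  · intro h y hy
    have := h (e.symm y) (by rw [← map_smul, hy, map_zero])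
    simpa using congrArg e this
  · intro h x hx
    have := h (e x) (by rw [← map_smul, hx, map_zero])
    simpa using congrArg e.symm this

/-- regularity on the fibre module, in terms of `M_q` -/
theorem isSMulRegular_fib_iff (b : B) :
    IsSMulRegular (Fib A q ⊗[B] M) b ↔
      ∀ n : LocalizedModule q.primeCompl M,
        b • n ∈ (fibJ A q • ⊤ : Submodule (Localization.AtPrime q)
          (LocalizedModule q.primeCompl M)) →
        n ∈ (fibJ A q • ⊤ : Submodule (Localization.AtPrime q)
          (LocalizedModule q.primeCompl M)) := by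
  rw [isSMulRegular_congr ((fibMEquiv A q M).restrictScalars B) b]
  rw [isSMulRegular_iff_right_eq_zero_of_smul]
  constructor
  · intro h n hn
    have := h (Submodule.Quotient.mk n) (by
      rw [← Submodule.Quotient.mk_smul]
      exact (Submodule.Quotient.mk_eq_zero _).mpr hn)
    exact (Submodule.Quotient.mk_eq_zero _).mp this
  · intro h x hx
    obtain ⟨n, rfl⟩ := Submodule.Quotient.mk_surjective _ x
    rw [← Submodule.Quotient.mk_smul, Submodule.Quotient.mk_eq_zero] at hx
    exact (Submodule.Quotient.mk_eq_zero _).mpr (h n hx)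

/-- the easy direction of the pointwise criterion -/
theorem isSMulRegular_fib_of_flat (b : B)
    (hreg : IsSMulRegular (LocalizedModule q.primeCompl M) b)
    (hfl : Module.Flat A (LocalizedModule q.primeCompl (QuotSMulTop b M))) :
    IsSMulRegular (Fib A q ⊗[B] M) b := by
  rw [isSMulRegular_fib_iff]
  intro n hn
  set u := LinearMap.lsmul (Localization.AtPrime q) (LocalizedModule q.primeCompl M)
    (algebraMap B (Localization.AtPrime q) b) with hu
  have hinj : Function.Injective u := by
    intro x y hxy
    simp only [hu, LinearMap.lsmul_apply, algebraMap_smul] at hxy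
    exact hreg hxy
  haveI : Module.Flat A (LocalizedModule q.primeCompl M ⧸ LinearMap.range u) :=
    Module.Flat.of_linearEquiv (quotRangeEquiv A q M b)
  refine Groth.Agent.Lib.FibInjH6.fibre_of_injective_of_flat_coker (R := A) u hinj inferInstance
    (q.comap (algebraMap A B)) n ?_
  simpa only [hu, LinearMap.lsmul_apply, algebraMap_smul] using hn

/-- the hard direction of the pointwise criterion (local criterion of flatness) -/
theorem isSMulRegular_and_flat_of_fib [Algebra.FinitePresentation A B]
    [Module.FinitePresentation B M] (b : B)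
    (hflat : Module.Flat A (LocalizedModule q.primeCompl M))
    (hreg : IsSMulRegular (Fib A q ⊗[B] M) b) :
    IsSMulRegular (LocalizedModule q.primeCompl M) b ∧
      Module.Flat A (LocalizedModule q.primeCompl (QuotSMulTop b M)) := by
  classical
  set p : Ideal A := q.comap (algebraMap A B) with hp
  haveI : q.LiesOver p := ⟨rfl⟩
  let R := Localization.AtPrime p
  let S := Localization.AtPrime q
  letI algRS : Algebra R S := Localization.AtPrime.algebraOfLiesOver p q
  haveI : IsLocalHom (algebraMap R S) :=
    Localization.isLocalHom_localRingHom p q (algebraMap A B) _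
  haveI : IsScalarTower A R S := inferInstance
  have hS : CAlgX.IsEssFinitePresentation R S :=
    Groth.Agent.Lib.FibInjH6.isEssFinitePresentation_of_localizations p q (by
      rintro _ ⟨a, ha, rfl⟩
      exact ha)
  let N := LocalizedModule q.primeCompl M
  letI : Module R N := Module.compHom N (algebraMap R S)
  haveI : IsScalarTower R S N := IsScalarTower.of_algebraMap_smul fun _ _ => rfl
  haveI : IsScalarTower A R N := IsScalarTower.of_algebraMap_smul fun a x => by
    show algebraMap R S (algebraMap A R a) • x = a • x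
    rw [← IsScalarTower.algebraMap_apply, algebraMap_smul]
  haveI : Module.Flat R N := (Module.flat_iff_of_isLocalization R p.primeCompl N).mpr hflat
  have hJ : (IsLocalRing.maximalIdeal R).map (algebraMap R S) = fibJ A q := by
    rw [← Localization.AtPrime.map_eq_maximalIdeal, Ideal.map_map,
      ← IsScalarTower.algebraMap_eq]
  set u := LinearMap.lsmul S N (algebraMap B S b) with hu
  obtain ⟨hinj, hfl⟩ := Groth.Agent.S2107.result (R := R) hS u (by
    rw [hJ]
    intro x hx
    refine (isSMulRegular_fib_iff A q M b).mp hreg x ?_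
    simpa only [hu, LinearMap.lsmul_apply, algebraMap_smul] using hx)
  refine ⟨?_, ?_⟩
  · intro x y hxy
    apply hinj
    simpa only [hu, LinearMap.lsmul_apply, algebraMap_smul] using hxy
  · haveI := hfl
    haveI : Module.Flat A (N ⧸ LinearMap.range u) := Module.Flat.trans A R _
    exact Module.Flat.of_linearEquiv (quotRangeEquiv A q M b).symm

section Open

variable {A}
variable [Algebra.FinitePresentation A B]

omit [Module A M] [IsScalarTower A B M] in
/-- flatness at `q` spreads to a basic open neighbourhood -/
theorem exists_nearby_flat {M : Type u} [AddCommGroup M] [Module B M] [Module A M]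
    [IsScalarTower A B M] [Module.FinitePresentation B M] (q : Ideal B) [q.IsPrime]
    (hflat : Module.Flat A (LocalizedModule q.primeCompl M)) :
    ∃ s : B, s ∉ q ∧ ∀ (q' : Ideal B) [q'.IsPrime], s ∉ q' →
      Module.Flat A (LocalizedModule q'.primeCompl M) := by
  have hopen := Groth.Agent.S0387.result (R := A) (S := B) (M := M)
  obtain ⟨_, ⟨s₁, rfl⟩, hq₁, hsub⟩ :=
    PrimeSpectrum.isTopologicalBasis_basic_opens.exists_subset_of_mem_open
      (show (⟨q, inferInstance⟩ : PrimeSpectrum B) ∈ {q : PrimeSpectrum B |
        Module.Flat A (LocalizedModule q.asIdeal.primeCompl M)} from hflat) hopen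
  exact ⟨s₁, hq₁, fun q' _ h => hsub (show (⟨q', inferInstance⟩ : PrimeSpectrum B) ∈
    (PrimeSpectrum.basicOpen s₁ : Set (PrimeSpectrum B)) from h)⟩

/-- **Openness of the fibrewise weakly regular locus** (ring level, pointed form). -/
theorem exists_nearby_wreg (g : List B) :
    ∀ (M : Type u) [AddCommGroup M] [Module B M] [Module A M] [IsScalarTower A B M]
      [Module.FinitePresentation B M] (q : Ideal B) [q.IsPrime],
      Module.Flat A (LocalizedModule q.primeCompl M) →
      RingTheory.Sequence.IsWeaklyRegular (Fib A q ⊗[B] M) g →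
      ∃ s : B, s ∉ q ∧ ∀ (q' : Ideal B) [q'.IsPrime], s ∉ q' →
        Module.Flat A (LocalizedModule q'.primeCompl M) ∧
          RingTheory.Sequence.IsWeaklyRegular (Fib A q' ⊗[B] M) g := by
  induction g with
  | nil =>
    intro M _ _ _ _ _ q _ hfl _
    obtain ⟨s, hs, h⟩ := exists_nearby_flat q hfl
    exact ⟨s, hs, fun q' _ hq' => ⟨h q' hq', RingTheory.Sequence.IsWeaklyRegular.nil B _⟩⟩
  | cons b g ih =>
    intro M _ _ _ _ _ q _ hfl hw
    rw [RingTheory.Sequence.isWeaklyRegular_cons_iff] at hw
    obtain ⟨hb, hg⟩ := hw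
    obtain ⟨hreg, hfl'⟩ := isSMulRegular_and_flat_of_fib A q M b hfl hb
    have hg' : RingTheory.Sequence.IsWeaklyRegular (Fib A q ⊗[B] QuotSMulTop b M) g :=
      ((QuotSMulTop.tensorQuotSMulTopEquivQuotSMulTop b (Fib A q) M).isWeaklyRegular_congr g).mpr
        hg
    obtain ⟨s₁, hs₁, h₁⟩ := ih (QuotSMulTop b M) q hfl' hg'
    obtain ⟨s₂, hs₂, h₂⟩ := exists_nearby_regular M b q hreg hfl'
    obtain ⟨s₃, hs₃, h₃⟩ := exists_nearby_flat q hfl
    refine ⟨s₁ * s₂ * s₃, fun hmem => ?_, fun q' _ hq' => ?_⟩
    · rcases Ideal.IsPrime.mem_or_mem inferInstance hmem with h | h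
      · rcases Ideal.IsPrime.mem_or_mem inferInstance h with h' | h'
        · exact hs₁ h'
        · exact hs₂ h'
      · exact hs₃ h
    · have hq₁ : s₁ ∉ q' := fun h => hq' (Ideal.mul_mem_right _ _ (Ideal.mul_mem_right _ _ h))
      have hq₂ : s₂ ∉ q' := fun h => hq' (Ideal.mul_mem_right _ _ (Ideal.mul_mem_left _ _ h))
      have hq₃ : s₃ ∉ q' := fun h => hq' (Ideal.mul_mem_left _ _ h)
      obtain ⟨-, hw'⟩ := h₁ q' hq₁
      obtain ⟨hreg', hflq⟩ := h₂ q' hq₂
      refine ⟨h₃ q' hq₃, ?_⟩
      rw [RingTheory.Sequence.isWeaklyRegular_cons_iff]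
      exact ⟨isSMulRegular_fib_of_flat A q' M b hreg' hflq,
        ((QuotSMulTop.tensorQuotSMulTopEquivQuotSMulTop b (Fib A q') M).isWeaklyRegular_congr
          g).mp hw'⟩

end Open

end Groth.Agent.Lib.FibSkH5
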