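import Mathlib
import Groth.Prelude.Def_DualSch
import Groth.Agent.Lib.SchDual_helper6
import Groth.Agent.Lib.DMod97_helper6
import Groth.Agent.Lib.DepthLoc_helper5

/-!
# Scheme-level consequences of ring-level dualizing complex results, II (helper6)

Stalks of the cohomology sheaves of a dualizing complex on a scheme versus supports of the
cohomology modules on affine charts; Cohen–Macaulay locus.
-/

set_option autoImplicit false
universe u
open CategoryTheory CategoryTheory.Limits AlgebraicGeometry

attribute [local instance] HasDerivedCategory.standard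

namespace Groth.Agent.Lib.SchDual_helper6

open Groth.Agent.Lib.DMod_helper6

section Generic

universe w₁ w₂ v₁ v₂ u₁ u₂

variable {C₁ : Type u₁} [Category.{v₁} C₁] [Abelian C₁] [HasDerivedCategory.{w₁} C₁]
  {C₂ : Type u₂} [Category.{v₂} C₂] [Abelian C₂] [HasDerivedCategory.{w₂} C₂]
  (F : C₁ ⥤ C₂) [F.Additive] [PreservesFiniteLimits F] [PreservesFiniteColimits F]

/-- an exact functor commutes with the cohomology objects of the derived category. -/
lemma nonempty_homology_mapDerivedCategory_iso (K : DerivedCategory C₁) (i : ℤ) :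
    Nonempty ((DerivedCategory.homologyFunctor C₂ i).obj (F.mapDerivedCategory.obj K) ≅
      F.obj ((DerivedCategory.homologyFunctor C₁ i).obj K)) := by
  let Cx : CochainComplex C₁ ℤ := DerivedCategory.Q.objPreimage K
  let eC : DerivedCategory.Q.obj Cx ≅ K := DerivedCategory.Q.objObjPreimageIso K
  let Cx' : CochainComplex C₂ ℤ := (F.mapHomologicalComplex (ComplexShape.up ℤ)).obj Cx
  let e1 : (DerivedCategory.homologyFunctor C₂ i).obj (F.mapDerivedCategory.obj K) ≅
      Cx'.homology i :=
    (DerivedCategory.homologyFunctor C₂ i).mapIso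
      (F.mapDerivedCategory.mapIso eC.symm ≪≫ F.mapDerivedCategoryFactors.app Cx) ≪≫
      (DerivedCategory.homologyFunctorFactors C₂ i).app Cx'
  let e2 : Cx'.homology i ≅ F.obj (Cx.homology i) := (Cx.sc i).mapHomologyIso F
  let e3 : Cx.homology i ≅ (DerivedCategory.homologyFunctor C₁ i).obj K :=
    ((DerivedCategory.homologyFunctorFactors C₁ i).app Cx).symm ≪≫
      (DerivedCategory.homologyFunctor C₁ i).mapIso eC
  exact ⟨e1 ≪≫ e2 ≪≫ F.mapIso e3⟩

end Generic

section Stalks

/-- stalks of the restriction to an open subscheme. -/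
noncomputable def restrictStalkIso {U X : Scheme.{u}} (j : U ⟶ X) [IsOpenImmersion j]
    (F : X.Modules) (x : U) :
    (F.restrict j).presheaf.stalk x ≅ F.presheaf.stalk (j.base x) :=
  PresheafedSpace.restrictStalkIso (C := Ab) ⟨X.toTopCat, F.presheaf⟩ j.isOpenEmbedding x

/-- isomorphic modules have isomorphic stalks. -/
noncomputable def stalkIsoOfIso {X : Scheme.{u}} {F G : X.Modules} (e : F ≅ G) (x : X) :
    F.presheaf.stalk x ≅ G.presheaf.stalk x :=
  (TopCat.Presheaf.stalkFunctor Ab x).mapIso ((Scheme.Modules.toPresheaf X).mapIso e)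

lemma nontrivial_tilde_stalk_iff {R : CommRingCat.{u}} (M : ModuleCat.{u} R)
    (p : PrimeSpectrum R) :
    Nontrivial ((tilde M).presheaf.stalk p) ↔ p ∈ Module.support R M := by
  rw [Module.mem_support_iff]
  exact (IsLocalizedModule.iso p.asIdeal.primeCompl
    (tilde.toStalk M p).hom).toEquiv.nontrivial_congr.symm

variable {R : CommRingCat.{u}} {X : Scheme.{u}}
  (j : Spec R ⟶ X) [IsOpenImmersion j]
  [PreservesFiniteLimits (Scheme.Modules.restrictFunctor j)]
  [PreservesFiniteLimits (tilde.functor R)]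

/-- the stalk at a point of an affine chart of a cohomology sheaf of `K` is nonzero iff the point
lies in the support of the corresponding cohomology module. -/
theorem nontrivial_stalk_HD_iff (K : DCoh.D X) (ω : DerivedCategory (ModuleCat.{u} R))
    (e : (DCoh.restrictD j).obj K ≅ (DCoh.tildeD R).obj ω)
    (p : PrimeSpectrum R) (i : ℤ) :
    Nontrivial ((DCoh.HD K i).presheaf.stalk (j.base p)) ↔
      p ∈ Module.support R ((DerivedCategory.homologyFunctor (ModuleCat.{u} R) i).obj ω) := by
  obtain ⟨e1⟩ := nonempty_homology_mapDerivedCategory_iso (Scheme.Modules.restrictFunctor j) K i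
  obtain ⟨e2⟩ := nonempty_homology_mapDerivedCategory_iso (tilde.functor R) ω i
  let e3 : (DCoh.HD K i).restrict j ≅
      tilde ((DerivedCategory.homologyFunctor (ModuleCat.{u} R) i).obj ω) :=
    e1.symm ≪≫ (DerivedCategory.homologyFunctor _ i).mapIso e ≪≫ e2
  let e4 := stalkIsoOfIso e3 p
  let e5 := restrictStalkIso j (DCoh.HD K i) p
  rw [← nontrivial_tilde_stalk_iff]
  exact (e5.symm ≪≫ e4).addCommGroupIsoToAddEquiv.toEquiv.nontrivial_congr

end Stalks

section CM

variable {R S : Type u} [CommRing R] [CommRing S]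

lemma depth_le_of_ringEquiv [IsLocalRing R] [IsLocalRing S] (e : R ≃+* S) :
    LocCoh.depth R R ≤ LocCoh.depth S S := by
  rw [← ENat.forall_natCast_le_iff_le]
  intro n hn
  unfold LocCoh.depth at hn ⊢
  rw [Groth.Agent.DepthLib.le_idealDepth_iff] at hn ⊢
  rcases hn with h | ⟨rs, h1, h2, h3⟩
  · exfalso
    have hle : IsLocalRing.maximalIdeal R • (⊤ : Submodule R R) ≤ IsLocalRing.maximalIdeal R :=
      Submodule.smul_le.2 (fun r hr n _ => (IsLocalRing.maximalIdeal R).mul_mem_right n hr)
    rw [h] at hle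
    exact (IsLocalRing.maximalIdeal.isMaximal R).ne_top (top_le_iff.1 hle)
  · refine Or.inr ⟨rs.map e, ?_, ?_, by rw [List.length_map, h3]⟩
    · refine (AddEquiv.isWeaklyRegular_congr (e := e.toAddEquiv) ?_).1 h1
      exact List.forall₂_map_right_iff.mpr (List.forall₂_same.mpr fun r _ x => map_mul e r x)
    · intro s hs
      obtain ⟨r, hr, rfl⟩ := List.mem_map.1 hs
      have := h2 r hr
      rw [IsLocalRing.mem_maximalIdeal, mem_nonunits_iff] at this ⊢
      exact fun hu => this ((isUnit_map_iff e r).1 hu)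

lemma isCohenMacaulayLocalRing_of_ringEquiv (e : R ≃+* S)
    [h : LocCoh.IsCohenMacaulayLocalRing S] : LocCoh.IsCohenMacaulayLocalRing R := by
  haveI : IsNoetherianRing R := isNoetherianRing_of_ringEquiv S e.symm
  haveI : IsLocalRing R := e.symm.isLocalRing
  have hd : LocCoh.depth R R = LocCoh.depth S S :=
    le_antisymm (depth_le_of_ringEquiv e) (depth_le_of_ringEquiv e.symm)
  refine { supportDim_eq_depth := ?_ }
  rw [Module.supportDim_self_eq_ringKrullDim, ringKrullDim_eq_of_ringEquiv e, hd,
    ← Module.supportDim_self_eq_ringKrullDim]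
  exact h.supportDim_eq_depth

end CM

section Ring

variable {A : Type u} [CommRing A] [IsNoetherianRing A] (ω : Dual.D A)

theorem exists_mem_support_HD (hω : Dual.IsDualizing A ω) (p : PrimeSpectrum A) :
    ∃ i : ℤ, p ∈ Module.support A (Dual.HD A ω i) := by
  obtain ⟨q, hq, hqp⟩ := Ideal.exists_minimalPrimes_le (bot_le : (⊥ : Ideal A) ≤ p.asIdeal)
  haveI hqprime : q.IsPrime := hq.1.1
  have hq' : q ∈ minimalPrimes A := hq
  obtain ⟨n, hn1, -⟩ := existsUnique_nontrivial_localized_HD ω hω q hq'
  refine ⟨n, Module.mem_support_mono (p := ⟨q, hqprime⟩) hqp ?_⟩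
  rw [Module.mem_support_iff]
  exact hn1

theorem isCohenMacaulayLocalRing_atPrime_iff_existsUnique (hω : Dual.IsDualizing A ω)
    (p : PrimeSpectrum A) :
    LocCoh.IsCohenMacaulayLocalRing (Localization.AtPrime p.asIdeal) ↔
      ∃! i : ℤ, p ∈ Module.support A (Dual.HD A ω i) := by
  rw [isCohenMacaulayLocalRing_atPrime_iff ω hω p]
  obtain ⟨i₀, hi₀⟩ := exists_mem_support_HD ω hω p
  constructor
  · rintro ⟨n, hn⟩
    have h0 : i₀ = n := by
      by_contra hne
      exact hn i₀ hne hi₀
    refine ⟨n, h0 ▸ hi₀, fun i hi => ?_⟩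
    by_contra hne
    exact hn i hne hi
  · rintro ⟨n, _, huniq⟩
    exact ⟨n, fun i hi hmem => hi (huniq i hmem)⟩

end Ring

/-- every point lies in an affine chart. -/
lemma exists_chart (X : Scheme.{u}) (x : X) :
    ∃ (A : Type u) (_ : CommRing A) (j : Spec (CommRingCat.of A) ⟶ X) (_ : IsOpenImmersion j)
      (p : PrimeSpectrum A), j.base p = x := by
  obtain ⟨U, hU, hxU, -⟩ := TopologicalSpace.Opens.isBasis_iff_nbhd.1 X.isBasis_affineOpens
    (show x ∈ (⊤ : X.Opens) from trivial)
  have hU' : IsAffineOpen U := hU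
  have hrange : Set.range hU'.fromSpec.base = U := hU'.range_fromSpec
  have hxr : x ∈ Set.range hU'.fromSpec.base := by rw [hrange]; exact hxU
  obtain ⟨p, hp⟩ := hxr
  exact ⟨Γ(X, U), inferInstance, hU'.fromSpec, inferInstance, p, hp⟩

end Groth.Agent.Lib.SchDual_helper6
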