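import Mathlib
import Groth.Prelude.Def_FlatMod2
import Groth.Agent.Lib.QCohLoc_helper4
import Groth.Agent.Lib.SchDual2_helper6

/-!
# Stalks of modules on affine charts as semilinear localizations (helper6)

For an open immersion `j : Spec R ⟶ X`, `F : X.Modules` and an isomorphism
`F.restrict j ≅ tilde M`, the pair `(O_{X, j p}, F_{j p})` is semilinearly isomorphic to
`(R_p, M_p)`.
-/

set_option autoImplicit false
universe u
open CategoryTheory CategoryTheory.Limits AlgebraicGeometry TopologicalSpace Opposite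

namespace Groth.Agent.Lib.StalkSemi_helper6

open Groth.Agent.Lib.SchDual_helper6
open Groth.Agent.Lib.QCohLoc_helper4 (germ_smul)

section General

variable {X : Scheme.{u}}

lemma exists_common_germ (F : X.Modules) (x : X) (o : X.presheaf.stalk x)
    (t : F.presheaf.stalk x) :
    ∃ (U : X.Opens) (hx : x ∈ U) (r : Γ(X, U)) (s : Γ(F, U)),
      X.presheaf.germ U x hx r = o ∧ F.presheaf.germ U x hx s = t := by
  obtain ⟨U, hxU, r, rfl⟩ := TopCat.Presheaf.exists_germ_eq X.presheaf o
  obtain ⟨V, hxV, s, rfl⟩ := TopCat.Presheaf.exists_germ_eq F.presheaf t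
  refine ⟨U ⊓ V, ⟨hxU, hxV⟩, X.presheaf.map (homOfLE inf_le_left).op r,
    F.presheaf.map (homOfLE inf_le_right).op s, ?_, ?_⟩
  · exact TopCat.Presheaf.germ_res_apply X.presheaf (homOfLE inf_le_left) x ⟨hxU, hxV⟩ r
  · exact TopCat.Presheaf.germ_res_apply F.presheaf (homOfLE inf_le_right) x ⟨hxU, hxV⟩ s

/-- the map on stalks induced by a morphism of modules. -/
noncomputable def stalkHom {G G' : X.Modules} (φ : G ⟶ G') (y : X) :
    G.presheaf.stalk y →+ G'.presheaf.stalk y :=
  ((TopCat.Presheaf.stalkFunctor Ab y).map ((Scheme.Modules.toPresheaf X).map φ)).hom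

lemma stalkHom_germ {G G' : X.Modules} (φ : G ⟶ G') (y : X) (U : X.Opens) (hx : y ∈ U)
    (s : Γ(G, U)) :
    stalkHom φ y (G.presheaf.germ U y hx s) = G'.presheaf.germ U y hx (φ.app U s) :=
  TopCat.Presheaf.stalkFunctor_map_germ_apply U y hx ((Scheme.Modules.toPresheaf X).map φ) s

lemma stalkHom_smul {G G' : X.Modules} (φ : G ⟶ G') (y : X) (o : X.presheaf.stalk y)
    (t : G.presheaf.stalk y) :
    stalkHom φ y (o • t) = o • stalkHom φ y t := by
  obtain ⟨U, hx, r, s, rfl, rfl⟩ := exists_common_germ G y o t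
  rw [← germ_smul, stalkHom_germ, stalkHom_germ, Scheme.Modules.Hom.app_smul, germ_smul]

end General

section Restrict

variable {U' X : Scheme.{u}} (j : U' ⟶ X) [IsOpenImmersion j] (F : X.Modules) (u : U')

/-- the stalk map of the restriction, as an additive map. -/
noncomputable def restrictStalkHom :
    (F.restrict j).presheaf.stalk u →+ F.presheaf.stalk (j.base u) :=
  (restrictStalkIso j F u).hom.hom

lemma restrictStalkHom_germ (V : U'.Opens) (hu : u ∈ V) (s : Γ(F.restrict j, V)) :
    restrictStalkHom j F u ((F.restrict j).presheaf.germ V u hu s) =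
      F.presheaf.germ (j ''ᵁ V) (j.base u) ⟨u, hu, rfl⟩ (s : Γ(F, j ''ᵁ V)) :=
  PresheafedSpace.restrictStalkIso_hom_eq_germ_apply (C := Ab) ⟨X.toTopCat, F.presheaf⟩
    j.isOpenEmbedding V u hu s

/-- the ring isomorphism on stalks induced by an open immersion. -/
noncomputable def stalkRingEquiv : X.presheaf.stalk (j.base u) ≃+* U'.presheaf.stalk u :=
  (asIso (j.stalkMap u)).commRingCatIsoToRingEquiv

lemma stalkRingEquiv_germ (V : U'.Opens) (hu : u ∈ V) (r : Γ(U', V)) :
    stalkRingEquiv j u (X.presheaf.germ (j ''ᵁ V) (j.base u) ⟨u, hu, rfl⟩ ((j.appIso V).inv r)) =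
      U'.presheaf.germ V u hu r := by
  show j.stalkMap u (X.presheaf.germ (j ''ᵁ V) (j.base u) ⟨u, hu, rfl⟩ ((j.appIso V).inv r)) = _
  rw [Scheme.Hom.germ_stalkMap_apply]
  have h3 : j.app (j ''ᵁ V) ((j.appIso V).inv r) =
      U'.presheaf.map (eqToHom (j.preimage_image_eq V)).op r :=
    congr($(j.appIso_inv_app V) r)
  rw [h3, TopCat.Presheaf.germ_res_apply]

lemma restrictStalkHom_smul (o : U'.presheaf.stalk u) (t : (F.restrict j).presheaf.stalk u) :
    restrictStalkHom j F u (o • t) =
      (stalkRingEquiv j u).symm o • restrictStalkHom j F u t := by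
  obtain ⟨V, hu, r, s, rfl, rfl⟩ := exists_common_germ (F.restrict j) u o t
  rw [← germ_smul, restrictStalkHom_germ, restrictStalkHom_germ]
  let s' : Γ(F, j ''ᵁ V) := s
  have h1 : (r • s : Γ(F.restrict j, V)) = ((j.appIso V).inv r • s' : Γ(F, j ''ᵁ V)) := rfl
  rw [h1, germ_smul, ← stalkRingEquiv_germ j u V hu r, RingEquiv.symm_apply_apply]

end Restrict

section Alg

/-- an `A`-linear map between modules over two isomorphic localizations of `A` is semilinear. -/
lemma semilinear_of_isLocalization {A : Type*} [CommRing A] (S : Submonoid A) {B O : Type*}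
    [CommRing B] [Algebra A B] [IsLocalization S B] [CommRing O] [Algebra A O] (σ : B ≃ₐ[A] O)
    {N T : Type*} [AddCommGroup N] [Module A N] [Module B N] [IsScalarTower A B N]
    [AddCommGroup T] [Module A T] [Module O T] [IsScalarTower A O T] (ε : N →ₗ[A] T)
    (b : B) (x : N) : ε (b • x) = σ b • ε x := by
  obtain ⟨a, s, rfl⟩ := IsLocalization.exists_mk'_eq S b
  have hu : IsUnit (algebraMap A O s) := by
    rw [← σ.commutes]
    exact (IsLocalization.map_units B s).map σ
  apply (hu.smul_left_cancel).1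
  calc algebraMap A O s • ε (IsLocalization.mk' B a s • x)
      = (s : A) • ε (IsLocalization.mk' B a s • x) := algebraMap_smul O _ _
    _ = ε ((s : A) • (IsLocalization.mk' B a s • x)) := (map_smul ε _ _).symm
    _ = ε (a • x) := by
        rw [← algebraMap_smul B (s : A), smul_smul, IsLocalization.mk'_spec', algebraMap_smul]
    _ = a • ε x := map_smul ε _ _
    _ = algebraMap A O a • ε x := (algebraMap_smul O a _).symm
    _ = (algebraMap A O s * σ (IsLocalization.mk' B a s)) • ε x := by
        rw [← σ.commutes (s : A), ← map_mul, IsLocalization.mk'_spec', σ.commutes]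
    _ = algebraMap A O s • σ (IsLocalization.mk' B a s) • ε x := mul_smul _ _ _

end Alg

section Main

variable {R : CommRingCat.{u}} {X : Scheme.{u}} (j : Spec R ⟶ X) [IsOpenImmersion j]

set_option backward.isDefEq.respectTransparency false in
/-- `R_p ≃ O_{Spec R, p}`. -/
noncomputable def tildeRingEquiv (p : PrimeSpectrum R) :
    Localization.AtPrime p.asIdeal ≃+* (Spec R).presheaf.stalk p :=
  (StructureSheaf.stalkIso R p).toRingEquiv

set_option backward.isDefEq.respectTransparency false in
/-- `M_p ≃ (tilde M)_p`. -/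
noncomputable def tildeAddEquiv (M : ModuleCat.{u} R) (p : PrimeSpectrum R) :
    LocalizedModule p.asIdeal.primeCompl M ≃+ (tilde M).presheaf.stalk p :=
  (IsLocalizedModule.iso p.asIdeal.primeCompl (tilde.toStalk M p).hom).toAddEquiv

set_option backward.isDefEq.respectTransparency false in
theorem tilde_semilinear (M : ModuleCat.{u} R) (p : PrimeSpectrum R)
    (b : Localization.AtPrime p.asIdeal) (m : LocalizedModule p.asIdeal.primeCompl M) :
    tildeAddEquiv M p (b • m) = tildeRingEquiv p b • tildeAddEquiv M p m := by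
  letI k : Algebra R ((Spec R).presheaf.stalk p) := StructureSheaf.stalkAlgebra R p
  haveI : IsScalarTower R ((Spec R).presheaf.stalk p) ((tilde M).presheaf.stalk p) :=
    .of_algebraMap_smul fun _ _ => rfl
  exact semilinear_of_isLocalization (A := R) p.asIdeal.primeCompl
    (B := Localization.AtPrime p.asIdeal) (O := (Spec R).presheaf.stalk p)
    (StructureSheaf.stalkIso R p) (N := LocalizedModule p.asIdeal.primeCompl M)
    (T := (tilde M).presheaf.stalk p)
    (IsLocalizedModule.iso p.asIdeal.primeCompl (tilde.toStalk M p).hom).toLinearMap b m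

theorem exists_semilinear (F : X.Modules) (M : ModuleCat.{u} R) (e : F.restrict j ≅ tilde M)
    (p : PrimeSpectrum R) :
    ∃ (σ : Localization.AtPrime p.asIdeal ≃+* X.presheaf.stalk (j.base p))
      (ε : LocalizedModule p.asIdeal.primeCompl M ≃+ F.presheaf.stalk (j.base p)),
      ∀ (b : Localization.AtPrime p.asIdeal) (m : LocalizedModule p.asIdeal.primeCompl M),
        ε (b • m) = σ b • ε m := by
  let ε₂ : (tilde M).presheaf.stalk p ≃+ (F.restrict j).presheaf.stalk p :=
    (stalkIsoOfIso e.symm p).addCommGroupIsoToAddEquiv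
  let ε₃ : (F.restrict j).presheaf.stalk p ≃+ F.presheaf.stalk (j.base p) :=
    (restrictStalkIso j F p).addCommGroupIsoToAddEquiv
  have hB : ∀ (o : (Spec R).presheaf.stalk p) (t : (tilde M).presheaf.stalk p),
      ε₂ (o • t) = o • ε₂ t := fun o t => stalkHom_smul e.inv p o t
  have hC : ∀ (o : (Spec R).presheaf.stalk p) (t : (F.restrict j).presheaf.stalk p),
      ε₃ (o • t) = (stalkRingEquiv j p).symm o • ε₃ t :=
    fun o t => restrictStalkHom_smul j F p o t
  refine ⟨(tildeRingEquiv p).trans (stalkRingEquiv j p).symm,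
    ((tildeAddEquiv M p).trans ε₂).trans ε₃, fun b m => ?_⟩
  show ε₃ (ε₂ (tildeAddEquiv M p (b • m))) =
    (stalkRingEquiv j p).symm (tildeRingEquiv p b) • ε₃ (ε₂ (tildeAddEquiv M p m))
  rw [tilde_semilinear, hB, hC]

end Main

end Groth.Agent.Lib.StalkSemi_helper6
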