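import Mathlib
import Groth.Agent.Lib.FibSk2_helper5
import Groth.Agent.Lib.SemiSk_helper6
import Groth.Agent.Lib.StalkSemi_helper6
import Groth.Agent.Lib.DepthLoc_helper5

/-!
# Fibrewise (S_k), part 3: localizations of the fibre ring and the ring-level openness theorem
(helper5)

* `exists_semilinear_fib`: `(B_q/pB_q)_P ≅ B_{q'}/pB_{q'}` for `q' = P ∩ B`.
* `isOpen_hasSk_fib`: if the fibrewise Cohen–Macaulay locus of a flat finitely presented algebra is
  open, so is the fibrewise `(S_k)` locus.

APPEND-ONLY once landed.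
-/

set_option autoImplicit false

namespace Groth.Agent.Lib.FibSkH5

open TensorProduct Pointwise

universe u

/-- a localization at a prime, up to a ring isomorphism, gives a semilinear pair -/
theorem exists_semilinear_of_isLocalization {R X Y : Type u} [CommRing R] [CommRing X]
    [Algebra R X] (P : Ideal R) [P.IsPrime] [IsLocalization.AtPrime X P] [CommRing Y]
    (e₃ : X ≃+* Y) :
    ∃ (σ : Localization.AtPrime P ≃+* Y) (ε : LocalizedModule P.primeCompl R ≃+ Y),
      ∀ (b : Localization.AtPrime P) (x : LocalizedModule P.primeCompl R),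
        ε (b • x) = σ b • ε x := by
  let e₂ : Localization.AtPrime P ≃ₐ[R] X :=
    IsLocalization.algEquiv P.primeCompl (Localization.AtPrime P) X
  let ε₀ : LocalizedModule P.primeCompl R ≃ₗ[R] X :=
    IsLocalizedModule.iso P.primeCompl (Algebra.linearMap R X)
  refine ⟨e₂.toRingEquiv.trans e₃, ε₀.toAddEquiv.trans e₃.toAddEquiv, fun b x => ?_⟩
  have h5 : ε₀ (b • x) = e₂ b • ε₀ x :=
    Groth.Agent.Lib.StalkSemi_helper6.semilinear_of_isLocalization (A := R)
      P.primeCompl e₂ ε₀.toLinearMap b x
  show e₃ (ε₀ (b • x)) = e₃ (e₂ b) • e₃ (ε₀ x)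
  rw [h5, smul_eq_mul, map_mul, smul_eq_mul]

section Key

variable (A : Type u) {B : Type u} [CommRing A] [CommRing B] [Algebra A B]
variable (q : Ideal B) [q.IsPrime] (P : Ideal (Fib A q)) [P.IsPrime]

/-- the prime of `B` below a prime of the fibre ring -/
noncomputable abbrev below : Ideal B := P.comap (algebraMap B (Fib A q))

theorem below_le : below A q P ≤ q := by
  intro b hb
  by_contra hbq
  have hu : IsUnit (algebraMap B (Localization.AtPrime q) b) :=
    IsLocalization.map_units _ (⟨b, hbq⟩ : q.primeCompl)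
  have hu' : IsUnit (algebraMap B (Fib A q) b) := by
    rw [IsScalarTower.algebraMap_apply B (Localization.AtPrime q) (Fib A q)]
    exact hu.map _
  exact (Ideal.IsPrime.ne_top (inferInstance : P.IsPrime)) (Ideal.eq_top_of_isUnit_mem P hb hu')

theorem algebraMap_fib_eq_zero {a : A} (ha : a ∈ q.comap (algebraMap A B)) :
    algebraMap A (Fib A q) a = 0 := by
  rw [IsScalarTower.algebraMap_apply A (Localization.AtPrime q) (Fib A q),
    Ideal.Quotient.algebraMap_eq, Ideal.Quotient.eq_zero_iff_mem]
  exact Ideal.mem_map_of_mem _ ha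

theorem comap_below :
    (below A q P).comap (algebraMap A B) = q.comap (algebraMap A B) := by
  apply le_antisymm
  · exact Ideal.comap_mono (below_le A q P)
  · intro a ha
    show algebraMap B (Fib A q) (algebraMap A B a) ∈ P
    rw [← IsScalarTower.algebraMap_apply, algebraMap_fib_eq_zero A q ha]
    exact zero_mem _

set_option maxHeartbeats 1000000 in
theorem exists_semilinear_fib :
    ∃ (σ : Localization.AtPrime P ≃+* Fib A (below A q P))
      (ε : LocalizedModule P.primeCompl (Fib A q) ≃+ Fib A (below A q P)),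
      ∀ (b : Localization.AtPrime P) (x : LocalizedModule P.primeCompl (Fib A q)),
        ε (b • x) = σ b • ε x := by
  classical
  let S₀ := Localization.AtPrime q
  let J : Ideal S₀ := fibJ A q
  let P' : Ideal S₀ := P.comap (Ideal.Quotient.mk J)
  haveI : P'.IsPrime := Ideal.comap_isPrime _ _
  let T₁ := Localization.AtPrime P'
  have hq' : P'.comap (algebraMap B S₀) = below A q P := by
    show (P.comap (Ideal.Quotient.mk J)).comap (algebraMap B S₀) = _
    rw [Ideal.comap_comap]
    rfl
  -- `T₁` is the localization of `B` at `below`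
  haveI h1 : IsLocalization.AtPrime T₁ (below A q P) := by
    exact IsLocalization.isLocalization_atPrime_localization_atPrime q.primeCompl P'
  let e₁ : T₁ ≃ₐ[B] Localization.AtPrime (below A q P) :=
    IsLocalization.algEquiv (below A q P).primeCompl _ _
  -- quotient
  have h2 : IsLocalization (Algebra.algebraMapSubmonoid (S₀ ⧸ J) P'.primeCompl)
      (T₁ ⧸ J.map (algebraMap S₀ T₁)) := inferInstance
  have hsub : Algebra.algebraMapSubmonoid (S₀ ⧸ J) P'.primeCompl = P.primeCompl := by
    ext y
    constructor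
    · rintro ⟨x, hx, rfl⟩
      exact hx
    · intro hy
      obtain ⟨x, rfl⟩ := Ideal.Quotient.mk_surjective y
      exact ⟨x, hy, rfl⟩
  haveI h3 : IsLocalization P.primeCompl (T₁ ⧸ J.map (algebraMap S₀ T₁)) := hsub ▸ h2
  have hmaps : ((e₁ : T₁ ≃+* Localization.AtPrime (below A q P)) : T₁ →+* _).comp
      ((algebraMap S₀ T₁).comp (algebraMap A S₀)) =
        algebraMap A (Localization.AtPrime (below A q P)) := by
    ext a
    simp only [RingHom.comp_apply, RingHom.coe_coe]
    rw [← IsScalarTower.algebraMap_apply A S₀ T₁, IsScalarTower.algebraMap_apply A B T₁]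
    show e₁ (algebraMap B T₁ (algebraMap A B a)) = _
    rw [e₁.commutes, ← IsScalarTower.algebraMap_apply]
  have hIJ : fibJ A (below A q P) =
      (J.map (algebraMap S₀ T₁)).map
        ((e₁ : T₁ ≃+* Localization.AtPrime (below A q P)) : T₁ →+* _) := by
    show ((below A q P).comap (algebraMap A B)).map _ = _
    rw [comap_below, Ideal.map_map, Ideal.map_map, ← hmaps]
    rfl
  let e₃ : (T₁ ⧸ J.map (algebraMap S₀ T₁)) ≃+* Fib A (below A q P) :=
    Ideal.quotientEquiv _ _ (e₁ : T₁ ≃+* Localization.AtPrime (below A q P)) hIJ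
  exact exists_semilinear_of_isLocalization (R := Fib A q) (X := T₁ ⧸ J.map (algebraMap S₀ T₁))
    (Y := Fib A (below A q P)) P e₃

end Key

section Local

variable (A : Type u) {B : Type u} [CommRing A] [CommRing B] [Algebra A B]
variable (q : Ideal B) [q.IsPrime]

theorem fibJ_le_maximalIdeal : fibJ A q ≤ IsLocalRing.maximalIdeal (Localization.AtPrime q) := by
  rw [Ideal.map_le_iff_le_comap]
  intro a ha
  rw [Ideal.mem_comap, IsScalarTower.algebraMap_apply A B (Localization.AtPrime q)]
  exact (IsLocalization.AtPrime.to_map_mem_maximal_iff _ q _).mpr ha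

instance : Nontrivial (Fib A q) :=
  Ideal.Quotient.nontrivial_iff.mpr (fun h =>
    (Ideal.IsPrime.ne_top (IsLocalRing.maximalIdeal.isMaximal _).isPrime)
      (top_le_iff.mp (h ▸ fibJ_le_maximalIdeal A q)))

instance : IsLocalRing (Fib A q) :=
  IsLocalRing.of_surjective' (Ideal.Quotient.mk (fibJ A q)) Ideal.Quotient.mk_surjective

theorem algebraMap_mem_maximalIdeal_fib {b : B} (hb : b ∈ q) :
    algebraMap B (Fib A q) b ∈ IsLocalRing.maximalIdeal (Fib A q) := by
  haveI : IsLocalHom (Ideal.Quotient.mk (fibJ A q)) :=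
    IsLocalHom.of_surjective _ Ideal.Quotient.mk_surjective
  rw [IsScalarTower.algebraMap_apply B (Localization.AtPrime q) (Fib A q)]
  have h1 : algebraMap B (Localization.AtPrime q) b ∈
      IsLocalRing.maximalIdeal (Localization.AtPrime q) :=
    (IsLocalization.AtPrime.to_map_mem_maximal_iff _ q _).mpr hb
  rw [IsLocalRing.mem_maximalIdeal, mem_nonunits_iff] at h1 ⊢
  intro hu
  exact h1 (isUnit_of_map_unit (Ideal.Quotient.mk (fibJ A q)) _ hu)

variable (P : Ideal (Fib A q)) [P.IsPrime]

theorem depth_loc_fib :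
    LocCoh.depth (Localization.AtPrime P) (LocalizedModule P.primeCompl (Fib A q)) =
      LocCoh.depth (Fib A (below A q P)) (Fib A (below A q P)) := by
  obtain ⟨σ, ε, h⟩ := exists_semilinear_fib A q P
  have hs := Groth.Agent.Lib.SemiSk_helper6.symm_semilinear (R := Localization.AtPrime P)
    (R' := Fib A (below A q P)) (M := LocalizedModule P.primeCompl (Fib A q))
    (M' := Fib A (below A q P)) σ ε h
  exact le_antisymm (Groth.Agent.Lib.SemiSk_helper6.depth_le σ ε h)
    (Groth.Agent.Lib.SemiSk_helper6.depth_le σ.symm ε.symm hs)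

theorem supportDim_loc_fib :
    Module.supportDim (Localization.AtPrime P) (LocalizedModule P.primeCompl (Fib A q)) =
      Module.supportDim (Fib A (below A q P)) (Fib A (below A q P)) := by
  obtain ⟨σ, ε, h⟩ := exists_semilinear_fib A q P
  have hs := Groth.Agent.Lib.SemiSk_helper6.symm_semilinear (R := Localization.AtPrime P)
    (R' := Fib A (below A q P)) (M := LocalizedModule P.primeCompl (Fib A q))
    (M' := Fib A (below A q P)) σ ε h
  exact le_antisymm
    (Groth.Agent.Lib.SemiSk_helper6.supportDim_le σ.symm ε.symm hs)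
    (Groth.Agent.Lib.SemiSk_helper6.supportDim_le σ ε h)

/-- pointwise description of `(S_k)` for the fibre ring -/
theorem hasSk_fib_iff (k : ℕ) :
    LocCoh.HasSk k (Fib A q) (Fib A q) ↔
      ∀ (P : Ideal (Fib A q)) [P.IsPrime],
        min (k : WithBot ℕ∞) (Module.supportDim (Fib A (below A q P)) (Fib A (below A q P))) ≤
          ((LocCoh.depth (Fib A (below A q P)) (Fib A (below A q P)) : ℕ∞) : WithBot ℕ∞) := by
  unfold LocCoh.HasSk
  refine forall_congr' fun P => forall_congr' fun _ => ?_
  rw [depth_loc_fib, supportDim_loc_fib]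

/-- elements of `I · Fib` are unit multiples of images of elements of `I` -/
theorem exists_unit_mul_of_mem_map (I : Ideal B) {r : Fib A q}
    (hr : r ∈ I.map (algebraMap B (Fib A q))) :
    ∃ b ∈ I, ∃ u : (Fib A q)ˣ, r = u * algebraMap B (Fib A q) b := by
  rw [IsScalarTower.algebraMap_eq B (Localization.AtPrime q) (Fib A q), ← Ideal.map_map,
    Ideal.Quotient.algebraMap_eq,
    Ideal.mem_map_iff_of_surjective _ Ideal.Quotient.mk_surjective] at hr
  obtain ⟨x, hx, rfl⟩ := hr
  obtain ⟨⟨b, s⟩, hbs⟩ := (IsLocalization.mem_map_algebraMap_iff q.primeCompl _).mp hx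
  have hu : IsUnit (Ideal.Quotient.mk (fibJ A q) (algebraMap B (Localization.AtPrime q) s)) :=
    (IsLocalization.map_units (Localization.AtPrime q) s).map _
  refine ⟨b, b.2, hu.unit⁻¹, ?_⟩
  rw [Units.eq_inv_mul_iff_mul_eq, IsUnit.unit_spec, ← map_mul, mul_comm, hbs,
    IsScalarTower.algebraMap_apply B (Localization.AtPrime q) (Fib A q)]
  rfl

end Local

section Lift

variable {B R : Type u} [CommRing B] [CommRing R] [Algebra B R] (I : Ideal B)

open RingTheory.Sequence in
/-- a weakly regular sequence whose members are unit multiples of images of elements of `I`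
can be replaced by one coming from `I` -/
theorem exists_lift_isWeaklyRegular :
    ∀ (rs : List R) (M : Type u) [AddCommGroup M] [Module R M],
      (∀ r ∈ rs, ∃ b ∈ I, ∃ u : Rˣ, r = u * algebraMap B R b) → IsWeaklyRegular M rs →
      ∃ bs : List B, (∀ b ∈ bs, b ∈ I) ∧ bs.length = rs.length ∧
        IsWeaklyRegular M (bs.map (algebraMap B R)) := by
  intro rs
  induction rs with
  | nil =>
    intro M _ _ _ _
    exact ⟨[], by simp, rfl, by simp⟩
  | cons r rs ih =>
    intro M _ _ hmem hw
    rw [isWeaklyRegular_cons_iff] at hw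
    obtain ⟨hr, hrs⟩ := hw
    obtain ⟨b, hbI, u, hru⟩ := hmem r (List.mem_cons_self)
    have hreg : IsSMulRegular M (algebraMap B R b) := by
      rw [hru] at hr
      exact IsSMulRegular.of_mul hr
    have heq : (r • (⊤ : Submodule R M)) = (algebraMap B R b) • (⊤ : Submodule R M) := by
      ext x
      simp only [Submodule.mem_smul_pointwise_iff_exists, Submodule.mem_top, true_and]
      constructor
      · rintro ⟨y, rfl⟩
        exact ⟨(u : R) • y, by rw [hru, mul_comm, mul_smul]⟩
      · rintro ⟨y, rfl⟩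
        refine ⟨((u⁻¹ : Rˣ) : R) • y, ?_⟩
        rw [hru, ← mul_smul, mul_assoc, mul_comm (algebraMap B R b), ← mul_assoc,
          Units.mul_inv, one_mul]
    obtain ⟨bs, hbs, hlen, hwbs⟩ := ih (QuotSMulTop r M)
      (fun r' hr' => hmem r' (List.mem_cons_of_mem _ hr')) hrs
    refine ⟨b :: bs, ?_, by simp [hlen], ?_⟩
    · intro b' hb'
      rcases List.mem_cons.mp hb' with rfl | h
      · exact hbI
      · exact hbs b' h
    · rw [List.map_cons, isWeaklyRegular_cons_iff]
      exact ⟨hreg, ((Submodule.quotEquivOfEq _ _ heq).isWeaklyRegular_congr _).mp hwbs⟩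

end Lift

section Main

variable {A B : Type u} [CommRing A] [CommRing B] [Algebra A B]

/-- the fibrewise Cohen–Macaulay condition at `q` (dimension equals depth) -/
def FibCM (A : Type u) {B : Type u} [CommRing A] [CommRing B] [Algebra A B]
    (q : PrimeSpectrum B) : Prop :=
  Module.supportDim (Fib A q.asIdeal) (Fib A q.asIdeal) =
    ((LocCoh.depth (Fib A q.asIdeal) (Fib A q.asIdeal) : ℕ∞) : WithBot ℕ∞)

theorem hasSk_of_good (k : ℕ) (U : Set (PrimeSpectrum B)) (hU : IsOpen U)
    (hgood : ∀ q' ∈ U, FibCM A q' ∨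
      (k : ℕ∞) ≤ LocCoh.depth (Fib A q'.asIdeal) (Fib A q'.asIdeal))
    (q : PrimeSpectrum B) (hq : q ∈ U) :
    LocCoh.HasSk k (Fib A q.asIdeal) (Fib A q.asIdeal) := by
  rw [hasSk_fib_iff]
  intro P _
  have hle : below A q.asIdeal P ≤ q.asIdeal := below_le A q.asIdeal P
  have hmem : (⟨below A q.asIdeal P, inferInstance⟩ : PrimeSpectrum B) ∈ U := by
    have hspec : (⟨below A q.asIdeal P, inferInstance⟩ : PrimeSpectrum B) ⤳ q :=
      (PrimeSpectrum.le_iff_specializes _ _).mp hle
    exact hspec.mem_open hU hq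
  rcases hgood _ hmem with h | h
  · have h' : Module.supportDim (Fib A (below A q.asIdeal P)) (Fib A (below A q.asIdeal P)) =
        ((LocCoh.depth (Fib A (below A q.asIdeal P)) (Fib A (below A q.asIdeal P)) : ℕ∞) :
          WithBot ℕ∞) := h
    rw [h']
    exact min_le_right _ _
  · refine (min_le_left _ _).trans ?_
    have h' : (k : ℕ∞) ≤
        LocCoh.depth (Fib A (below A q.asIdeal P)) (Fib A (below A q.asIdeal P)) := h
    exact_mod_cast h'

variable [Algebra.FinitePresentation A B] [Module.Flat A B]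

open RingTheory.Sequence in
/-- **Ring-level theorem**: for a flat finitely presented algebra, openness of the fibrewise
Cohen–Macaulay locus implies openness of the fibrewise `(S_k)` locus. -/
theorem isOpen_hasSk_fib (hN : ∀ (q : Ideal B) [q.IsPrime], IsNoetherianRing (Fib A q))
    (hCM : IsOpen {q : PrimeSpectrum B | FibCM A q}) (k : ℕ) :
    IsOpen {q : PrimeSpectrum B | LocCoh.HasSk k (Fib A q.asIdeal) (Fib A q.asIdeal)} := by
  classical
  rw [isOpen_iff_forall_mem_open]
  intro q hq
  by_cases hcm : FibCM A q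
  · exact ⟨{q : PrimeSpectrum B | FibCM A q},
      fun q'' hq'' => hasSk_of_good k _ hCM (fun q' h => Or.inl h) q'' hq'', hCM, hcm⟩
  set W : Set (PrimeSpectrum B) := {q : PrimeSpectrum B | FibCM A q}ᶜ with hW
  have hWc : IsClosed W := hCM.isClosed_compl
  set I : Ideal B := PrimeSpectrum.vanishingIdeal W with hI
  have hzero : PrimeSpectrum.zeroLocus (I : Set B) = W := by
    rw [hI, PrimeSpectrum.zeroLocus_vanishingIdeal_eq_closure, hWc.closure_eq]
  have hIle : ∀ q' : PrimeSpectrum B, q' ∈ W → I ≤ q'.asIdeal := by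
    intro q' hq' b hb
    exact (PrimeSpectrum.mem_vanishingIdeal _ _).mp hb q' hq'
  have hmemW : ∀ q' : PrimeSpectrum B, I ≤ q'.asIdeal → ¬ FibCM A q' := by
    intro q' hq' hc
    have : q' ∈ PrimeSpectrum.zeroLocus (I : Set B) := hq'
    rw [hzero] at this
    exact this hc
  have hIq : I ≤ q.asIdeal := hIle q hcm
  haveI := hN q.asIdeal
  have hdepth : ∀ (P : Ideal (Fib A q.asIdeal)) [P.IsPrime],
      I.map (algebraMap B (Fib A q.asIdeal)) ≤ P → (k : ℕ∞) ≤
        LocCoh.depth (Localization.AtPrime P)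
          (LocalizedModule P.primeCompl (Fib A q.asIdeal)) := by
    intro P _ hIP
    rw [depth_loc_fib]
    have hIq' : I ≤ below A q.asIdeal P := Ideal.map_le_iff_le_comap.mp hIP
    have hncm : ¬ FibCM A ⟨below A q.asIdeal P, inferInstance⟩ := hmemW _ hIq'
    have hSk := (hasSk_fib_iff A q.asIdeal k).mp hq P
    haveI := hN (below A q.asIdeal P)
    have hle := Groth.Agent.DepthLib.depth_le_supportDim (Fib A (below A q.asIdeal P))
      (Fib A (below A q.asIdeal P))
    rcases min_le_iff.mp hSk with h | h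
    · exact_mod_cast h
    · exact absurd (le_antisymm h hle) hncm
  have hk := Groth.Agent.DepthLib.le_idealDepth_of_forall_localization
    (I := I.map (algebraMap B (Fib A q.asIdeal))) k (Fib A q.asIdeal) hdepth
  rw [Groth.Agent.DepthLib.le_idealDepth_iff] at hk
  have hmapm : I.map (algebraMap B (Fib A q.asIdeal)) ≤
      IsLocalRing.maximalIdeal (Fib A q.asIdeal) := by
    rw [Ideal.map_le_iff_le_comap]
    intro b hb
    exact algebraMap_mem_maximalIdeal_fib A q.asIdeal (hIq hb)
  rcases hk with htop | ⟨rs, hw, hmem, hlen⟩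
  · exfalso
    rw [smul_eq_mul, Ideal.mul_top] at htop
    rw [htop, top_le_iff] at hmapm
    exact (Ideal.IsPrime.ne_top (IsLocalRing.maximalIdeal.isMaximal _).isPrime) hmapm
  obtain ⟨bs, hbsI, hlen', hwbs⟩ := exists_lift_isWeaklyRegular I rs (Fib A q.asIdeal)
    (fun r hr => exists_unit_mul_of_mem_map A q.asIdeal I (hmem r hr)) hw
  have hwB : IsWeaklyRegular (Fib A q.asIdeal) bs :=
    (isWeaklyRegular_map_algebraMap_iff (Fib A q.asIdeal) (Fib A q.asIdeal) bs).mp hwbs
  have hwT : IsWeaklyRegular (Fib A q.asIdeal ⊗[B] B) bs :=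
    ((TensorProduct.rid B (Fib A q.asIdeal)).isWeaklyRegular_congr bs).mpr hwB
  have hflat : ∀ (q' : Ideal B) [q'.IsPrime],
      Module.Flat A (LocalizedModule q'.primeCompl B) := by
    intro q' _
    haveI : Module.Flat B (Localization.AtPrime q') := IsLocalization.flat _ q'.primeCompl
    haveI : Module.Flat A (Localization.AtPrime q') := Module.Flat.trans A B _
    exact (Groth.Agent.Lib.FlatLocFP1H6.flat_iff_of_isLocalizedModule (A := A) (C := B)
      q'.primeCompl (Algebra.linearMap B (Localization.AtPrime q'))).mp inferInstance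
  obtain ⟨s, hs, hnear⟩ := exists_nearby_wreg bs B q.asIdeal (hflat q.asIdeal) hwT
  refine ⟨PrimeSpectrum.basicOpen s, ?_, (PrimeSpectrum.basicOpen s).isOpen, hs⟩
  intro q'' hq''
  refine hasSk_of_good k _ (PrimeSpectrum.basicOpen s).isOpen ?_ q'' hq''
  intro q' hq'
  by_cases hc : FibCM A q'
  · exact Or.inl hc
  right
  have hIq' : I ≤ q'.asIdeal := hIle q' hc
  obtain ⟨-, hw'⟩ := hnear q'.asIdeal hq'
  have hw'' : IsWeaklyRegular (Fib A q'.asIdeal) bs :=
    ((TensorProduct.rid B (Fib A q'.asIdeal)).isWeaklyRegular_congr bs).mp hw'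
  unfold LocCoh.depth
  rw [Groth.Agent.DepthLib.le_idealDepth_iff]
  right
  refine ⟨bs.map (algebraMap B (Fib A q'.asIdeal)),
    (isWeaklyRegular_map_algebraMap_iff (Fib A q'.asIdeal) (Fib A q'.asIdeal) bs).mpr hw'', ?_,
    by rw [List.length_map, hlen', hlen]⟩
  intro r hr
  obtain ⟨b, hb, rfl⟩ := List.mem_map.mp hr
  exact algebraMap_mem_maximalIdeal_fib A q'.asIdeal (hIq' (hbsI b hb))

end Main

end Groth.Agent.Lib.FibSkH5
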