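import Mathlib
import Groth.Agent.Lib.FibSk3_helper5
import Groth.Agent.Lib.FibPD_helper7
import Groth.Agent.Lib.KerFP_helper6

/-!
# Projective dimension of fibre modules, part 1 (helper5)

For a flat finitely presented `A`-algebra `B` and a finitely presented `B`-module `M` flat over
`A`, the fibre module at a prime `q` of `B` is `FibModQ A q M = M_q / p M_q` over the fibre local
ring `Fib A q = B_q / pB_q` (this is the Prelude's `EGA4.FibLocMod`).

* `free_of_projective_fibModQ`: fibrewise criterion of freeness (from S2107).
* `isOpen_fibModQ_hasPDLE`: the set of `q` where the fibre module has projective dimension `≤ m`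
  is open (non-Noetherian version of helper7's `FibPDH7.pd_iff` + `PDOpenH7.isOpen_hasPDLE`).

APPEND-ONLY once landed.
-/

set_option autoImplicit false
set_option backward.isDefEq.respectTransparency false

namespace Groth.Agent.Lib.FibPdH5

open TensorProduct Pointwise CategoryTheory
open Groth.Agent.Lib.FibSkH5 Groth.Agent.Lib.FibPDH7

universe u

variable (A : Type u) {B : Type u} [CommRing A] [CommRing B] [Algebra A B]

/-- the fibre module at `q`: `M_q / p M_q` -/
abbrev FibModQ (q : Ideal B) [q.IsPrime] (M : Type u) [AddCommGroup M] [Module B M] : Type u :=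
  LocalizedModule q.primeCompl M ⧸
    (fibJ A q • ⊤ : Submodule (Localization.AtPrime q) (LocalizedModule q.primeCompl M))

section Free

variable (q : Ideal B) [q.IsPrime] (M : Type u) [AddCommGroup M] [Module B M]
  [Module A M] [IsScalarTower A B M]

theorem fibJ_le_jacobson :
    fibJ A q ≤ Ideal.jacobson (⊥ : Ideal (Localization.AtPrime q)) := by
  rw [IsLocalRing.jacobson_eq_maximalIdeal ⊥ bot_ne_top]
  exact fibJ_le_maximalIdeal A q

/-- **Fibrewise criterion of freeness.** -/
theorem free_of_projective_fibModQ [Algebra.FinitePresentation A B]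
    [Module.FinitePresentation B M]
    (hflat : Module.Flat A (LocalizedModule q.primeCompl M))
    (h : Module.Projective (Fib A q) (FibModQ A q M)) :
    Module.Free (Localization.AtPrime q) (LocalizedModule q.primeCompl M) := by
  classical
  set p : Ideal A := q.comap (algebraMap A B) with hp
  haveI : q.LiesOver p := ⟨rfl⟩
  let R := Localization.AtPrime p
  let S := Localization.AtPrime q
  letI algRS : Algebra R S := Localization.AtPrime.algebraOfLiesOver p q
  haveI : IsLocalHom (algebraMap R S) :=
    Localization.isLocalHom_localRingHom p q (algebraMap A B) _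
  haveI : IsScalarTower A R S := inferInstance
  have hS : CAlgX.IsEssFinitePresentation R S :=
    Groth.Agent.Lib.FibInjH6.isEssFinitePresentation_of_localizations p q (by
      rintro _ ⟨a, ha, rfl⟩
      exact ha)
  let N := LocalizedModule q.primeCompl M
  letI : Module R N := Module.compHom N (algebraMap R S)
  haveI : IsScalarTower R S N := IsScalarTower.of_algebraMap_smul fun _ _ => rfl
  haveI : IsScalarTower A R N := IsScalarTower.of_algebraMap_smul fun a x => by
    show algebraMap R S (algebraMap A R a) • x = a • x
    rw [← IsScalarTower.algebraMap_apply, algebraMap_smul]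
  haveI : Module.Flat R N := (Module.flat_iff_of_isLocalization R p.primeCompl N).mpr hflat
  have hJ : (IsLocalRing.maximalIdeal R).map (algebraMap R S) = fibJ A q := by
    rw [← Localization.AtPrime.map_eq_maximalIdeal, Ideal.map_map,
      ← IsScalarTower.algebraMap_eq]
  -- a basis of the fibre module
  haveI : Module.Flat (Fib A q) (FibModQ A q M) := inferInstance
  haveI : Module.Free (Fib A q) (FibModQ A q M) := Module.free_of_flat_of_isLocalRing
  let ι := Module.Free.ChooseBasisIndex (Fib A q) (FibModQ A q M)
  let b : Module.Basis ι (Fib A q) (FibModQ A q M) :=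
    Module.Free.chooseBasis (Fib A q) (FibModQ A q M)
  haveI : Fintype ι := inferInstance
  choose n hn using fun i => Submodule.Quotient.mk_surjective
    (fibJ A q • (⊤ : Submodule S N)) (b i)
  let φ : (ι → S) →ₗ[S] N := Fintype.linearCombination S n
  have hφmk : ∀ c : ι → S, (Submodule.Quotient.mk (φ c) : FibModQ A q M) =
      ∑ i, (Ideal.Quotient.mk (fibJ A q) (c i)) • b i := by
    intro c
    show Submodule.Quotient.mk (Fintype.linearCombination S n c) = _
    rw [Fintype.linearCombination_apply]
    have : (Submodule.Quotient.mk (∑ i, c i • n i) : FibModQ A q M) =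
        ∑ i, Submodule.Quotient.mk (c i • n i) :=
      map_sum (Submodule.mkQ (fibJ A q • (⊤ : Submodule S N))) _ _
    rw [this]
    refine Finset.sum_congr rfl fun i _ => ?_
    rw [← hn i]
    rfl
  -- surjectivity
  have hφ : Function.Surjective φ := by
    rw [← LinearMap.range_eq_top, eq_top_iff]
    refine Submodule.le_of_le_smul_of_le_jacobson_bot (I := fibJ A q) Module.Finite.fg_top
      (fibJ_le_jacobson A q) ?_
    intro y _
    obtain ⟨c, hc⟩ : ∃ c : ι → S, ∀ i, Ideal.Quotient.mk (fibJ A q) (c i) =
        b.repr (Submodule.Quotient.mk y) i :=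
      ⟨fun i => (Ideal.Quotient.mk_surjective (b.repr (Submodule.Quotient.mk y) i)).choose,
        fun i => (Ideal.Quotient.mk_surjective (b.repr (Submodule.Quotient.mk y) i)).choose_spec⟩
    have h1 : (Submodule.Quotient.mk (φ c) : FibModQ A q M) = Submodule.Quotient.mk y := by
      rw [hφmk]
      conv_rhs => rw [← b.sum_repr (Submodule.Quotient.mk y)]
      exact Finset.sum_congr rfl fun i _ => by rw [hc i]
    have h2 : y - φ c ∈ fibJ A q • (⊤ : Submodule S N) := by
      rw [← Submodule.Quotient.mk_eq_zero, Submodule.Quotient.mk_sub, h1, sub_self]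
    have h3 : y = φ c + (y - φ c) := by abel
    rw [h3]
    exact Submodule.add_mem_sup (LinearMap.mem_range_self φ c) h2
  -- injectivity, from S2107
  have hcoord : ∀ x : ι → S, φ x ∈ fibJ A q • (⊤ : Submodule S N) → ∀ i, x i ∈ fibJ A q := by
    intro x hx i
    have h1 : (∑ i, (Ideal.Quotient.mk (fibJ A q) (x i)) • b i) = 0 := by
      rw [← hφmk, (Submodule.Quotient.mk_eq_zero _).mpr hx]
    have h2 := Fintype.linearIndependent_iff.mp b.linearIndependent
      (fun i => Ideal.Quotient.mk (fibJ A q) (x i)) h1 i
    exact Ideal.Quotient.eq_zero_iff_mem.mp h2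
  obtain ⟨hinj, -⟩ := Groth.Agent.S2107.result (R := R) hS φ (by
    rw [hJ]
    intro x hx
    rw [pi_eq_sum_univ x]
    refine Submodule.sum_mem _ fun i _ => ?_
    exact Submodule.smul_mem_smul (hcoord x hx i) trivial)
  exact Module.Free.of_equiv (LinearEquiv.ofBijective φ ⟨hinj, hφ⟩)

end Free

section Step

/-- reduction of a linear equivalence modulo an ideal -/
noncomputable def redEquiv {S : Type u} [CommRing S] (I : Ideal S) {X Y : Type u}
    [AddCommGroup X] [Module S X] [AddCommGroup Y] [Module S Y] (e : X ≃ₗ[S] Y) :
    (X ⧸ (I • ⊤ : Submodule S X)) ≃ₗ[S ⧸ I] (Y ⧸ (I • ⊤ : Submodule S Y)) :=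
  LinearEquiv.ofLinearMap (red I e.toLinearMap) (red I e.symm.toLinearMap)
    (by
      apply LinearMap.ext
      intro y
      obtain ⟨y, rfl⟩ := Submodule.Quotient.mk_surjective _ y
      simp [red_mk])
    (by
      apply LinearMap.ext
      intro x
      obtain ⟨x, rfl⟩ := Submodule.Quotient.mk_surjective _ x
      simp [red_mk])

theorem localizedModule_map_exact (T : Submonoid B) {X Y Z : Type u} [AddCommGroup X] [Module B X]
    [AddCommGroup Y] [Module B Y] [AddCommGroup Z] [Module B Z] (g : X →ₗ[B] Y) (h : Y →ₗ[B] Z)
    (ex : Function.Exact g h) :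
    Function.Exact (LocalizedModule.map T g) (LocalizedModule.map T h) :=
  LocalizedModule.map_exact T g h ex

variable (q : Ideal B) [q.IsPrime]

/-- the syzygy shift for fibre modules -/
theorem hasPDLE_succ_iff [Module.Flat A B] {M : Type u} [AddCommGroup M] [Module B M]
    [Module A M] [IsScalarTower A B M]
    (hflat : Module.Flat A (LocalizedModule q.primeCompl M)) {k : ℕ}
    (f : (Fin k → B) →ₗ[B] M) (hf : Function.Surjective f) (m : ℕ) :
    HasProjectiveDimensionLE (ModuleCat.of (Fib A q) (FibModQ A q M)) (m + 1) ↔
      HasProjectiveDimensionLE (ModuleCat.of (Fib A q) (FibModQ A q (LinearMap.ker f))) m := by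
  let S := Localization.AtPrime q
  let fq : LocalizedModule q.primeCompl (Fin k → B) →ₗ[S] LocalizedModule q.primeCompl M :=
    LocalizedModule.map q.primeCompl f
  have hfq : Function.Surjective fq := LocalizedModule.map_surjective q.primeCompl f hf
  let iq : LocalizedModule q.primeCompl (LinearMap.ker f) →ₗ[S]
      LocalizedModule q.primeCompl (Fin k → B) :=
    LocalizedModule.map q.primeCompl (LinearMap.ker f).subtype
  have hiq : Function.Injective iq :=
    LocalizedModule.map_injective q.primeCompl _ (LinearMap.ker f).injective_subtype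
  have hex : Function.Exact iq fq :=
    localizedModule_map_exact q.primeCompl _ f (LinearMap.exact_subtype_ker_map f)
  -- the kernel of the localized map is the localized kernel
  have hrange : LinearMap.range iq = LinearMap.ker fq := (LinearMap.exact_iff.mp hex).symm
  let e : LocalizedModule q.primeCompl (LinearMap.ker f) ≃ₗ[S] LinearMap.ker fq :=
    (LinearEquiv.ofInjective iq hiq).trans (LinearEquiv.ofEq _ _ hrange)
  haveI : Module.Flat A (LocalizedModule q.primeCompl M) := hflat
  obtain ⟨hinj, hexr, hsurj⟩ := red_shortExact (q.comap (algebraMap A B)) fq hfq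
  let T : ShortComplex (ModuleCat.{u} (Fib A q)) :=
    ShortComplex.mk
      (ModuleCat.ofHom (red (M := LinearMap.ker fq)
        (M' := LocalizedModule q.primeCompl (Fin k → B)) (fibJ A q) (LinearMap.ker fq).subtype))
      (ModuleCat.ofHom (red (M := LocalizedModule q.primeCompl (Fin k → B))
        (M' := LocalizedModule q.primeCompl M) (fibJ A q) fq)) (by
        apply ModuleCat.hom_ext
        apply LinearMap.ext
        intro x
        exact hexr.apply_apply_eq_zero x)
  have hT : T.ShortExact := ModuleCat.shortComplex_shortExact T hexr hinj hsurj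
  have projB : Projective T.X₂ := by
    haveI : Module.Projective S (LocalizedModule q.primeCompl (Fin k → B)) := inferInstance
    haveI := projective_red (fibJ A q) (LocalizedModule q.primeCompl (Fin k → B))
    show Projective (ModuleCat.of (Fib A q) (FibModQ A q (Fin k → B)))
    exact ModuleCat.projective_of_categoryTheory_projective _
  let eI : ModuleCat.of (Fib A q) (FibModQ A q (LinearMap.ker f)) ≅ T.X₁ :=
    (redEquiv (fibJ A q) e).toModuleIso
  simp only [HasProjectiveDimensionLE]
  rw [hT.hasProjectiveDimensionLT_X₃_iff m projB]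
  exact ⟨fun h => hasProjectiveDimensionLT_of_iso eI.symm _,
    fun h => hasProjectiveDimensionLT_of_iso eI _⟩

end Step

section Open

variable {A}

theorem flat_localizedModule_of_flat (q : Ideal B) [q.IsPrime] (M : Type u) [AddCommGroup M]
    [Module B M] [Module A M] [IsScalarTower A B M] [Module.Flat A M] :
    Module.Flat A (LocalizedModule q.primeCompl M) := by
  rw [Groth.Agent.Lib.FlatLocFP1H6.flat_localizedModule_iff]
  intro I ξ hξ
  refine ⟨1, q.primeCompl.one_mem, ?_⟩
  rw [one_smul]
  exact Module.Flat.lTensor_preserves_injective_linearMap (M := M) I.subtype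
    Subtype.val_injective (by rw [hξ, map_zero])

variable [Algebra.FinitePresentation A B]

theorem fibModQ_projective_iff (q : PrimeSpectrum B) (M : Type u) [AddCommGroup M]
    [Module B M] [Module A M] [IsScalarTower A B M] [Module.FinitePresentation B M]
    [Module.Flat A M] :
    Module.Projective (Fib A q.asIdeal) (FibModQ A q.asIdeal M) ↔ q ∈ Module.freeLocus B M := by
  rw [Module.mem_freeLocus]
  constructor
  · intro h
    exact free_of_projective_fibModQ A q.asIdeal M (flat_localizedModule_of_flat q.asIdeal M) h
  · intro h
    haveI := h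
    exact projective_red (fibJ A q.asIdeal) (LocalizedModule q.asIdeal.primeCompl M)

variable [Module.Flat A B]

/-- **Upper semicontinuity of the projective dimension of the fibre modules.** -/
theorem isOpen_fibModQ_hasPDLE : ∀ (m : ℕ) (M : Type u) [AddCommGroup M] [Module B M]
    [Module A M] [IsScalarTower A B M] [Module.FinitePresentation B M] [Module.Flat A M],
    IsOpen {q : PrimeSpectrum B | HasProjectiveDimensionLE
      (ModuleCat.of (Fib A q.asIdeal) (FibModQ A q.asIdeal M)) m} := by
  intro m
  induction m with
  | zero =>
    intro M _ _ _ _ _ _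
    have h : {q : PrimeSpectrum B | HasProjectiveDimensionLE
        (ModuleCat.of (Fib A q.asIdeal) (FibModQ A q.asIdeal M)) 0} = Module.freeLocus B M := by
      ext q
      rw [Set.mem_ofPred_eq, ← projective_iff_hasProjectiveDimensionLE_zero,
        ← IsProjective.iff_projective]
      exact fibModQ_projective_iff q M
    rw [h]
    exact Module.isOpen_freeLocus
  | succ m ih =>
    intro M _ _ _ _ _ _
    obtain ⟨k, f, hf⟩ := Module.Finite.exists_fin' B M
    haveI : Module.FinitePresentation B (LinearMap.ker f) :=
      Groth.Agent.Lib.KerFPH6.finitePresentation_ker_of_flat (A := A) f hf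
    haveI : Module.Flat A (Fin k → B) := Module.Flat.trans A B (Fin k → B)
    haveI : Module.Flat A (LinearMap.ker f) :=
      flat_of_exact ((LinearMap.ker f).subtype.restrictScalars A) (f.restrictScalars A)
        (LinearMap.ker f).injective_subtype hf (by
          intro y
          constructor
          · intro hy
            exact ⟨⟨y, hy⟩, rfl⟩
          · rintro ⟨z, rfl⟩
            exact z.2)
    have h : {q : PrimeSpectrum B | HasProjectiveDimensionLE
        (ModuleCat.of (Fib A q.asIdeal) (FibModQ A q.asIdeal M)) (m + 1)} =
        {q : PrimeSpectrum B | HasProjectiveDimensionLE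
          (ModuleCat.of (Fib A q.asIdeal) (FibModQ A q.asIdeal (LinearMap.ker f))) m} := by
      ext q
      exact hasPDLE_succ_iff A q.asIdeal (flat_localizedModule_of_flat q.asIdeal M) f hf m
    rw [h]
    exact ih (LinearMap.ker f)

end Open

end Groth.Agent.Lib.FibPdH5
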