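import Mathlib
import Groth.Agent.Lib.FibProjDim1_helper5
import Groth.Agent.Lib.Dev12231_lead
import Groth.Agent.Lib.AusBuch_helper5
import Groth.Agent.Lib.GlDim_helper5
import Groth.Agent.Lib.CMSeq_helper5
import Groth.Agent.Lib.RegQuot_helper5

/-!
# Codepth of fibre modules, part 2: the ring-level openness theorem for algebras with regular
fibres (helper5)

`A` a ring, `B` a flat finitely presented `A`-algebra all of whose fibre local rings `Fib A q`
are regular, `M` a finitely presented `B`-module flat over `A`.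

* `exists_nearby_le_idealDepth`: lower semicontinuity of the grade of `I · Fib A q`.
* `supportDim_fibModQ`: `dim Supp (M_q/pM_q) = dim (Fib A q / Ann(M) Fib A q)`.
* `isOpen_codepth_fibModQ_of_regular`: the locus where the codepth of the fibre module is `≤ n`
  is open.

APPEND-ONLY once landed.
-/

set_option autoImplicit false
set_option backward.isDefEq.respectTransparency false

namespace Groth.Agent.Lib.FibPdH5

open TensorProduct Pointwise CategoryTheory
open Groth.Agent.Lib.FibSkH5 Groth.Agent.Lib.FibPDH7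

universe u

section Grade

variable {A B : Type u} [CommRing A] [CommRing B] [Algebra A B]
  [Algebra.FinitePresentation A B] [Module.Flat A B]

open RingTheory.Sequence in
/-- **Lower semicontinuity of the grade of `I` on the fibre rings.** -/
theorem exists_nearby_le_idealDepth (I : Ideal B) (q : Ideal B) [q.IsPrime] (hIq : I ≤ q) (γ : ℕ)
    (hγ : (γ : ℕ∞) ≤ LocCoh.idealDepth (I.map (algebraMap B (Fib A q))) (Fib A q)) :
    ∃ s : B, s ∉ q ∧ ∀ (q' : Ideal B) [q'.IsPrime], s ∉ q' → I ≤ q' →
      (γ : ℕ∞) ≤ LocCoh.idealDepth (I.map (algebraMap B (Fib A q'))) (Fib A q') := by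
  classical
  rw [Groth.Agent.DepthLib.le_idealDepth_iff] at hγ
  have hmapm : I.map (algebraMap B (Fib A q)) ≤ IsLocalRing.maximalIdeal (Fib A q) := by
    rw [Ideal.map_le_iff_le_comap]
    intro b hb
    exact algebraMap_mem_maximalIdeal_fib A q (hIq hb)
  rcases hγ with htop | ⟨rs, hw, hmem, hlen⟩
  · exfalso
    rw [smul_eq_mul, Ideal.mul_top] at htop
    rw [htop, top_le_iff] at hmapm
    exact (Ideal.IsPrime.ne_top (IsLocalRing.maximalIdeal.isMaximal _).isPrime) hmapm
  obtain ⟨bs, hbsI, hlen', hwbs⟩ := exists_lift_isWeaklyRegular I rs (Fib A q)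
    (fun r hr => exists_unit_mul_of_mem_map A q I (hmem r hr)) hw
  have hwB : IsWeaklyRegular (Fib A q) bs :=
    (isWeaklyRegular_map_algebraMap_iff (Fib A q) (Fib A q) bs).mp hwbs
  have hwT : IsWeaklyRegular (Fib A q ⊗[B] B) bs :=
    ((TensorProduct.rid B (Fib A q)).isWeaklyRegular_congr bs).mpr hwB
  have hflat : ∀ (q' : Ideal B) [q'.IsPrime],
      Module.Flat A (LocalizedModule q'.primeCompl B) := by
    intro q' _
    haveI : Module.Flat B (Localization.AtPrime q') := IsLocalization.flat _ q'.primeCompl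
    haveI : Module.Flat A (Localization.AtPrime q') := Module.Flat.trans A B _
    exact (Groth.Agent.Lib.FlatLocFP1H6.flat_iff_of_isLocalizedModule (A := A) (C := B)
      q'.primeCompl (Algebra.linearMap B (Localization.AtPrime q'))).mp inferInstance
  obtain ⟨s, hs, hnear⟩ := exists_nearby_wreg bs B q (hflat q) hwT
  refine ⟨s, hs, fun q' _ hq' hIq' => ?_⟩
  obtain ⟨-, hw'⟩ := hnear q' hq'
  have hw'' : IsWeaklyRegular (Fib A q') bs :=
    ((TensorProduct.rid B (Fib A q')).isWeaklyRegular_congr bs).mp hw'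
  rw [Groth.Agent.DepthLib.le_idealDepth_iff]
  right
  refine ⟨bs.map (algebraMap B (Fib A q')),
    (isWeaklyRegular_map_algebraMap_iff (Fib A q') (Fib A q') bs).mpr hw'', ?_,
    by rw [List.length_map, hlen', hlen]⟩
  intro r hr
  obtain ⟨b, hb, rfl⟩ := List.mem_map.mp hr
  exact Ideal.mem_map_of_mem _ (hbsI b hb)

end Grade

section Support

variable (A : Type u) {B : Type u} [CommRing A] [CommRing B] [Algebra A B]
variable (q : Ideal B) [q.IsPrime] (M : Type u) [AddCommGroup M] [Module B M]

/-- `Fib ⊗_B M ≅ M_q / p M_q`, linearly over the fibre ring -/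
noncomputable def fibMEquiv' : Fib A q ⊗[B] M ≃ₗ[Fib A q] FibModQ A q M :=
  LinearEquiv.extendScalarsOfSurjective
    (Ideal.Quotient.mk_surjective (I := fibJ A q)) (fibMEquiv A q M)

theorem supportDim_fibModQ [Module.Finite B M] :
    Module.supportDim (Fib A q) (FibModQ A q M) =
      ringKrullDim (Fib A q ⧸ (Module.annihilator B M).map (algebraMap B (Fib A q))) := by
  rw [← Module.supportDim_eq_of_equiv (fibMEquiv' A q M)]
  exact Groth.Agent.Lib.Dev12231.supportDim_baseChange_eq (S := B) (A := Fib A q) (N := M)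
    (Module.annihilator B M) Module.support_eq_zeroLocus

end Support

section Formula

variable (R : Type u) [CommRing R] [IsRegularLocalRing R]
  (N : Type u) [AddCommGroup N] [Module R N] [Module.Finite R N] [Nontrivial N]

/-- finite nonzero modules over a regular local ring have a (finite) projective dimension -/
theorem exists_pd_eq : ∃ e : ℕ, projectiveDimension (ModuleCat.of R N) = e := by
  obtain ⟨d, hd⟩ := Groth.Agent.GlDim.exists_dim R
  have h1 : HasProjectiveDimensionLT (ModuleCat.of R N) (d + 1) :=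
    Groth.Agent.GlDim.hasProjectiveDimensionLT_of_regular R d hd N
  have h2 : projectiveDimension (ModuleCat.of R N) < ((d + 1 : ℕ) : WithBot ℕ∞) :=
    projectiveDimension_lt_iff.mpr h1
  have h3 : projectiveDimension (ModuleCat.of R N) ≠ ⊥ := by
    rw [Ne, projectiveDimension_eq_bot_iff]
    intro hz
    have : Subsingleton (ModuleCat.of R N) := ModuleCat.subsingleton_of_isZero hz
    exact not_subsingleton N this
  obtain ⟨x, hx⟩ := WithBot.ne_bot_iff_exists.mp h3
  have h4 : x ≠ ⊤ := by
    rintro rfl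
    rw [← hx] at h2
    exact absurd h2 (by simp)
  obtain ⟨e, he⟩ := ENat.ne_top_iff_exists.mp h4
  exact ⟨e, by rw [← hx, ← he]; rfl⟩

/-- **codepth over a regular local ring**: `codepth N = pd N - grade (Ann N)` -/
theorem codepth_le_iff_of_regular (J : Ideal R) (hJ : J ≠ ⊤)
    (hsd : Module.supportDim R N = ringKrullDim (R ⧸ J)) (e g n : ℕ)
    (he : projectiveDimension (ModuleCat.of R N) = e) (hg : LocCoh.idealDepth J R = g) :
    Module.supportDim R N ≤ ((LocCoh.depth R N : ℕ∞) : WithBot ℕ∞) + n ↔ e ≤ g + n := by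
  obtain ⟨d, hd⟩ := Groth.Agent.GlDim.exists_dim R
  have hCM : LocCoh.IsCohenMacaulayModule R R := Groth.Agent.RegQuot.isCM_of_regular R
  have hdep : LocCoh.depth R R = (d : ℕ∞) := by
    have h := hCM
    unfold LocCoh.IsCohenMacaulayModule at h
    rw [Module.supportDim_self_eq_ringKrullDim, hd] at h
    have h' : ((d : ℕ∞) : WithBot ℕ∞) = ((LocCoh.depth R R : ℕ∞) : WithBot ℕ∞) := by
      rw [← h]; rfl
    exact (WithBot.coe_injective h').symm
  have hAB := Groth.Agent.AB.auslander_buchsbaum (R := R) N e he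
  rw [hdep] at hAB
  have htop : LocCoh.depth R N ≠ ⊤ := by
    intro h
    rw [h] at hAB
    simp at hAB
  obtain ⟨t, ht⟩ := ENat.ne_top_iff_exists.mp htop
  rw [← ht] at hAB
  have hdet : d = e + t := by exact_mod_cast hAB
  have h5 := Groth.Agent.DepthLib.supportDim_eq_add_idealDepth_of_isCM J hJ g R hCM hg
  rw [Groth.Agent.DepthLib.supportDim_quot_smul_top_self, Module.supportDim_self_eq_ringKrullDim,
    hd] at h5
  have hne : ringKrullDim (R ⧸ J) ≠ ⊥ := by
    intro h
    rw [h] at h5
    simp at h5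
  obtain ⟨x, hx⟩ := WithBot.ne_bot_iff_exists.mp hne
  rw [← hx] at h5
  have h5' : (d : ℕ∞) = x + (g : ℕ∞) := by
    apply WithBot.coe_injective
    rw [WithBot.coe_add]
    exact h5
  have hxtop : x ≠ ⊤ := by
    rintro rfl
    rw [top_add] at h5'
    exact ENat.natCast_ne_top d h5'
  obtain ⟨c, hc⟩ := ENat.ne_top_iff_exists.mp hxtop
  rw [← hc] at h5'
  have hdcg : d = c + g := by exact_mod_cast h5'
  rw [hsd, ← hx, ← hc, ← ht]
  have : (((c : ℕ∞) : WithBot ℕ∞) ≤ (((t : ℕ∞) : ℕ∞) : WithBot ℕ∞) + (n : WithBot ℕ∞)) ↔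
      c ≤ t + n := by
    norm_cast
  rw [this]
  omega

end Formula

section Nontriv

variable (A : Type u) {B : Type u} [CommRing A] [CommRing B] [Algebra A B]
variable (q : Ideal B) [q.IsPrime] (M : Type u) [AddCommGroup M] [Module B M] [Module.Finite B M]

instance : Module.Finite (Fib A q) (FibModQ A q M) := inferInstance

theorem nontrivial_fibModQ (h : Module.annihilator B M ≤ q) : Nontrivial (FibModQ A q M) := by
  have hs : (⟨q, inferInstance⟩ : PrimeSpectrum B) ∈ Module.support B M :=
    Module.mem_support_iff_of_finite.mpr h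
  haveI : Nontrivial (LocalizedModule q.primeCompl M) := Module.mem_support_iff.mp hs
  rw [Submodule.Quotient.nontrivial_iff, ne_comm]
  apply Submodule.top_ne_ideal_smul_of_le_jacobson_annihilator
  refine (fibJ_le_maximalIdeal A q).trans (IsLocalRing.maximalIdeal_le_jacobson _)

theorem subsingleton_fibModQ (h : ¬ Module.annihilator B M ≤ q) :
    Subsingleton (FibModQ A q M) := by
  have hs : (⟨q, inferInstance⟩ : PrimeSpectrum B) ∉ Module.support B M := fun hs =>
    h (Module.mem_support_iff_of_finite.mp hs)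
  haveI : Subsingleton (LocalizedModule q.primeCompl M) := Module.notMem_support_iff.mp hs
  infer_instance

end Nontriv

section Open

variable {A B : Type u} [CommRing A] [CommRing B] [Algebra A B]
  [Algebra.FinitePresentation A B] [Module.Flat A B]

/-- the codepth condition on the fibre module at `q` -/
def CodepthLE (A : Type u) {B : Type u} [CommRing A] [CommRing B] [Algebra A B]
    (M : Type u) [AddCommGroup M] [Module B M] (n : ℕ) (q : PrimeSpectrum B) : Prop :=
  Module.supportDim (Fib A q.asIdeal) (FibModQ A q.asIdeal M) ≤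
    ((LocCoh.depth (Fib A q.asIdeal) (FibModQ A q.asIdeal M) : ℕ∞) : WithBot ℕ∞) + n

theorem codepthLE_of_not_le (M : Type u) [AddCommGroup M] [Module B M] [Module.Finite B M]
    (n : ℕ) (q : PrimeSpectrum B) (h : ¬ Module.annihilator B M ≤ q.asIdeal) :
    CodepthLE A M n q := by
  haveI := subsingleton_fibModQ A q.asIdeal M h
  unfold CodepthLE
  rw [Module.supportDim_eq_bot_of_subsingleton]
  exact bot_le

/-- **Ring-level openness of the fibrewise codepth locus, for algebras with regular fibres.** -/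
theorem isOpen_codepthLE_of_regular
    (hreg : ∀ (q : Ideal B) [q.IsPrime], IsRegularLocalRing (Fib A q))
    (M : Type u) [AddCommGroup M] [Module B M] [Module A M] [IsScalarTower A B M]
    [Module.FinitePresentation B M] [Module.Flat A M] (n : ℕ) :
    IsOpen {q : PrimeSpectrum B | CodepthLE A M n q} := by
  classical
  rw [isOpen_iff_forall_mem_open]
  intro q hq
  set I : Ideal B := Module.annihilator B M with hI
  by_cases hIq : I ≤ q.asIdeal
  swap
  · obtain ⟨s, hsI, hsq⟩ := SetLike.not_le_iff_exists.mp hIq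
    refine ⟨PrimeSpectrum.basicOpen s, ?_, (PrimeSpectrum.basicOpen s).isOpen, hsq⟩
    intro q' hq'
    exact codepthLE_of_not_le M n q' (fun h => hq' (h hsI))
  haveI := hreg q.asIdeal
  haveI := nontrivial_fibModQ A q.asIdeal M hIq
  obtain ⟨e, he⟩ := exists_pd_eq (Fib A q.asIdeal) (FibModQ A q.asIdeal M)
  have hmapm : ∀ (q' : PrimeSpectrum B), I ≤ q'.asIdeal →
      I.map (algebraMap B (Fib A q'.asIdeal)) ≠ ⊤ := by
    intro q' hIq' htop
    have hle : I.map (algebraMap B (Fib A q'.asIdeal)) ≤
        IsLocalRing.maximalIdeal (Fib A q'.asIdeal) := by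
      rw [Ideal.map_le_iff_le_comap]
      intro b hb
      exact algebraMap_mem_maximalIdeal_fib A q'.asIdeal (hIq' hb)
    rw [htop, top_le_iff] at hle
    exact (Ideal.IsPrime.ne_top (IsLocalRing.maximalIdeal.isMaximal _).isPrime) hle
  have hgfin : ∀ (q' : PrimeSpectrum B), I ≤ q'.asIdeal →
      ∃ g : ℕ, LocCoh.idealDepth (I.map (algebraMap B (Fib A q'.asIdeal)))
        (Fib A q'.asIdeal) = g := by
    intro q' hIq'
    haveI := hreg q'.asIdeal
    have := Groth.Agent.DepthLib.idealDepth_ne_top (I.map (algebraMap B (Fib A q'.asIdeal)))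
      (Fib A q'.asIdeal) (by
        rw [smul_eq_mul, Ideal.mul_top]
        exact hmapm q' hIq')
    obtain ⟨g, hg⟩ := ENat.ne_top_iff_exists.mp this
    exact ⟨g, hg.symm⟩
  obtain ⟨g, hg⟩ := hgfin q hIq
  have hform : ∀ (q' : PrimeSpectrum B), I ≤ q'.asIdeal → ∀ (e' g' : ℕ),
      haveI := hreg q'.asIdeal
      projectiveDimension (ModuleCat.of (Fib A q'.asIdeal) (FibModQ A q'.asIdeal M)) = e' →
      LocCoh.idealDepth (I.map (algebraMap B (Fib A q'.asIdeal))) (Fib A q'.asIdeal) = g' →
      (CodepthLE A M n q' ↔ e' ≤ g' + n) := by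
    intro q' hIq' e' g' he' hg'
    haveI := hreg q'.asIdeal
    haveI := nontrivial_fibModQ A q'.asIdeal M hIq'
    exact codepth_le_iff_of_regular (Fib A q'.asIdeal) (FibModQ A q'.asIdeal M)
      (I.map (algebraMap B (Fib A q'.asIdeal))) (hmapm q' hIq')
      (supportDim_fibModQ A q'.asIdeal M) e' g' n he' hg'
  have heg : e ≤ g + n := (hform q hIq e g he hg).mp hq
  -- the two open conditions
  have hopen1 := isOpen_fibModQ_hasPDLE (A := A) (B := B) e M
  obtain ⟨s, hs, hnear⟩ := exists_nearby_le_idealDepth (A := A) I q.asIdeal hIq g (by rw [hg])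
  refine ⟨{q' : PrimeSpectrum B | HasProjectiveDimensionLE
      (ModuleCat.of (Fib A q'.asIdeal) (FibModQ A q'.asIdeal M)) e} ∩
      (PrimeSpectrum.basicOpen s : Set (PrimeSpectrum B)), ?_,
    hopen1.inter (PrimeSpectrum.basicOpen s).isOpen, ⟨?_, hs⟩⟩
  · rintro q' ⟨hpd, hsq'⟩
    by_cases hIq' : I ≤ q'.asIdeal
    swap
    · exact codepthLE_of_not_le M n q' hIq'
    haveI := hreg q'.asIdeal
    haveI := nontrivial_fibModQ A q'.asIdeal M hIq'
    obtain ⟨e', he'⟩ := exists_pd_eq (Fib A q'.asIdeal) (FibModQ A q'.asIdeal M)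
    obtain ⟨g', hg'⟩ := hgfin q' hIq'
    refine (hform q' hIq' e' g' he' hg').mpr ?_
    have h1 : e' ≤ e := by
      have := (projectiveDimension_le_iff _ e).mpr hpd
      rw [he'] at this
      exact_mod_cast this
    have h2 : g ≤ g' := by
      have := hnear q'.asIdeal hsq' hIq'
      rw [hg'] at this
      exact_mod_cast this
    omega
  · show HasProjectiveDimensionLE _ e
    rw [← projectiveDimension_le_iff, he]

end Open

end Groth.Agent.Lib.FibPdH5
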