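import Mathlib
import Groth.Prelude.Def_CAlg
import Groth.Agent.Lib.Depth_helper5
import Groth.Agent.Lib.DepthRingChange_helper5

/-!
# Depth along a finite ring map (helper5)

For `(A, m)` Noetherian local, `B` a finite `A`-algebra, `a ≤ m` an ideal and `M` a finite
`B`-module, `depth_A(a, M) = depth_B(aB, M)`.
-/

set_option autoImplicit false
universe u

namespace Groth.Agent.DepthLib

open RingTheory.Sequence Pointwise

section

variable (A B : Type u) [CommRing A] [CommRing B] [IsLocalRing A]
  [IsNoetherianRing A] [Algebra A B]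

/-- Nakayama: if `a ≤ m` and `aM = M` then `M = 0`. -/
theorem subsingleton_of_smul_top_eq_top' (a : Ideal A) (ha : a ≤ IsLocalRing.maximalIdeal A)
    (M : Type u) [AddCommGroup M] [Module A M]
    [Module.Finite A M] (h : a • (⊤ : Submodule A M) = ⊤) :
    Subsingleton M := by
  have h2 : IsLocalRing.maximalIdeal A • (⊤ : Submodule A M) = ⊤ := by
    apply le_antisymm le_top
    calc (⊤ : Submodule A M) = a • (⊤ : Submodule A M) := h.symm
      _ ≤ _ := Submodule.smul_mono_left ha
  exact subsingleton_of_smul_top_eq_top A M h2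

/-- elements of `aB` kill what `a` kills -/
theorem map_smul_eq_zero (a : Ideal A) (M : Type u) [AddCommGroup M] [Module B M] [Module A M]
    [IsScalarTower A B M] (m₀ : M) (h : ∀ x ∈ a, x • m₀ = 0) {y : B}
    (hy : y ∈ a.map (algebraMap A B)) : y • m₀ = 0 := by
  unfold Ideal.map at hy
  induction hy using Submodule.span_induction with
  | mem y hy =>
    obtain ⟨x, hx, rfl⟩ := hy
    rw [algebraMap_smul]
    exact h x hx
  | zero => exact zero_smul _ _
  | add y z _ _ hy hz => rw [add_smul, hy, hz, add_zero]
  | smul b y _ hy => rw [smul_eq_mul, mul_smul, hy, smul_zero]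

/-- `aB • M ⊆ a • M` -/
theorem map_smul_mem (a : Ideal A) (M : Type u) [AddCommGroup M] [Module B M] [Module A M]
    [IsScalarTower A B M] {y : B}
    (hy : y ∈ a.map (algebraMap A B)) : ∀ m : M, y • m ∈ a • (⊤ : Submodule A M) := by
  unfold Ideal.map at hy
  induction hy using Submodule.span_induction with
  | mem y hy =>
    obtain ⟨x, hx, rfl⟩ := hy
    intro m
    rw [algebraMap_smul]
    exact Submodule.smul_mem_smul hx Submodule.mem_top
  | zero => intro m; rw [zero_smul]; exact Submodule.zero_mem _
  | add y z _ _ hy hz => intro m; rw [add_smul]; exact Submodule.add_mem _ (hy m) (hz m)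
  | smul b y _ hy =>
    intro m
    rw [smul_eq_mul, mul_comm, mul_smul]
    exact hy (b • m)

theorem smul_top_eq_top_of_map (a : Ideal A) (M : Type u) [AddCommGroup M] [Module B M]
    [Module A M] [IsScalarTower A B M]
    (h : (a.map (algebraMap A B)) • (⊤ : Submodule B M) = ⊤) :
    a • (⊤ : Submodule A M) = ⊤ := by
  apply le_antisymm le_top
  intro m _
  have hm : m ∈ (a.map (algebraMap A B)) • (⊤ : Submodule B M) := by rw [h]; trivial
  refine Submodule.smul_induction_on hm ?_ ?_
  · intro y hy n _
    exact map_smul_mem A B a M hy n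
  · intro x y hx hy
    exact Submodule.add_mem _ hx hy

variable [Module.Finite A B]

/-- easy direction: `depth_A(a, M) ≤ depth_B(aB, M)` -/
theorem idealDepth_le_idealDepth_map (a : Ideal A) (ha : a ≤ IsLocalRing.maximalIdeal A)
    (M : Type u) [AddCommGroup M] [Module B M] [Module A M]
    [IsScalarTower A B M] [Module.Finite A M] :
    LocCoh.idealDepth a M ≤ LocCoh.idealDepth (a.map (algebraMap A B)) M := by
  rw [← ENat.forall_natCast_le_iff_le]
  intro n hn
  rw [le_idealDepth_iff] at hn ⊢
  rcases hn with h | ⟨rs, h1, h2, h3⟩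
  · haveI := subsingleton_of_smul_top_eq_top' A a ha M h
    exact Or.inl (Subsingleton.elim _ _)
  · right
    refine ⟨rs.map (algebraMap A B), (isWeaklyRegular_map_algebraMap_iff B M rs).2 h1, ?_, ?_⟩
    · intro r hr
      obtain ⟨x, hx, rfl⟩ := List.mem_map.1 hr
      exact Ideal.mem_map_of_mem _ (h2 x hx)
    · rw [List.length_map, h3]

/-- if `depth_B(aB, M) ≥ 1` then `depth_A(a, M) ≥ 1` -/
theorem one_le_idealDepth_of_map (a : Ideal A) (ha : a ≤ IsLocalRing.maximalIdeal A)
    (M : Type u) [AddCommGroup M] [Module B M] [Module A M]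
    [IsScalarTower A B M] [Module.Finite A M]
    (h : 1 ≤ LocCoh.idealDepth (a.map (algebraMap A B)) M) :
    1 ≤ LocCoh.idealDepth a M := by
  classical
  by_contra hnot
  obtain ⟨q, hq, hmq⟩ := exists_associatedPrime_of_not_one_le _ _ hnot
  obtain ⟨_, m₀, hm₀⟩ := isAssociatedPrime_iff.1 hq
  have hm₀ne : m₀ ≠ 0 := by
    rintro rfl
    apply hq.isPrime.ne_top
    rw [hm₀, Ideal.eq_top_iff_one, Submodule.mem_colon_singleton]
    simp
  have hm₀kill : ∀ x ∈ a, x • m₀ = 0 := by
    intro x hx
    have hxq := hmq hx
    rw [hm₀, Submodule.mem_colon_singleton, Submodule.mem_bot] at hxq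
    exact hxq
  rcases (one_le_idealDepth_iff _ _).1 h with htop | ⟨y, hy, hyreg⟩
  · have h2 := smul_top_eq_top_of_map A B a M htop
    haveI := subsingleton_of_smul_top_eq_top' A a ha M h2
    exact hm₀ne (Subsingleton.elim _ _)
  · have h0 := map_smul_eq_zero A B a M m₀ hm₀kill hy
    apply hm₀ne
    apply hyreg
    show y • m₀ = y • 0
    rw [h0, smul_zero]

/-- `depth_B(aB, M) ≤ depth_A(a, M)` -/
theorem le_idealDepth_of_map (a : Ideal A) (ha : a ≤ IsLocalRing.maximalIdeal A) (n : ℕ) :
    ∀ (M : Type u) [AddCommGroup M] [Module B M] [Module A M] [IsScalarTower A B M]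
      [Module.Finite A M], (n : ℕ∞) ≤ LocCoh.idealDepth (a.map (algebraMap A B)) M →
        (n : ℕ∞) ≤ LocCoh.idealDepth a M := by
  haveI : IsNoetherianRing B := IsNoetherianRing.of_finite A B
  induction n with
  | zero => intro M _ _ _ _ _ _; simp
  | succ n ih =>
    intro M _ _ _ _ _ hn
    haveI : Module.Finite B M := Module.Finite.of_restrictScalars_finite A B M
    have h1B : 1 ≤ LocCoh.idealDepth (a.map (algebraMap A B)) M := by
      refine le_trans ?_ hn
      exact_mod_cast Nat.succ_le_succ (Nat.zero_le n)
    have h1A := one_le_idealDepth_of_map A B a ha M h1B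
    rcases (one_le_idealDepth_iff _ _).1 h1A with htop | ⟨x, hx, hxreg⟩
    · rw [le_idealDepth_iff]
      exact Or.inl htop
    · have hx' : algebraMap A B x ∈ a.map (algebraMap A B) := Ideal.mem_map_of_mem _ hx
      have hxreg' : IsSMulRegular M (algebraMap A B x) := by
        intro m m' hab
        apply hxreg
        show x • m = x • m'
        have h2 : algebraMap A B x • m = algebraMap A B x • m' := hab
        rwa [algebraMap_smul, algebraMap_smul] at h2
      set P : Submodule B M := (algebraMap A B x) • (⊤ : Submodule B M) with hP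
      set gB : M →ₗ[B] (M ⧸ P) := P.mkQ with hgB
      set gA : M →ₗ[A] (M ⧸ P) := gB.restrictScalars A with hgA
      have hsurj : Function.Surjective gB := Submodule.mkQ_surjective _
      haveI : Module.Finite A (M ⧸ P) := Module.Finite.of_surjective gA hsurj
      haveI : Module.Finite B (M ⧸ P) := Module.Finite.of_surjective gB hsurj
      have hexB : Function.Exact ((algebraMap A B x) • LinearMap.id : M →ₗ[B] M) gB := by
        intro m
        rw [hgB, Submodule.mkQ_apply, Submodule.Quotient.mk_eq_zero]
        constructor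
        · intro hm
          obtain ⟨m', _, hm'⟩ := (Submodule.mem_smul_pointwise_iff_exists _ _ _).1 hm
          exact ⟨m', hm'⟩
        · rintro ⟨m', rfl⟩
          exact Submodule.smul_mem_pointwise_smul _ _ _ Submodule.mem_top
      have hexA : Function.Exact (x • LinearMap.id : M →ₗ[A] M) gA := by
        intro m
        have := hexB m
        rw [show gA m = gB m from rfl, this]
        constructor
        · rintro ⟨m', hm'⟩
          refine ⟨m', ?_⟩
          rw [← hm']
          simp
        · rintro ⟨m', hm'⟩
          refine ⟨m', ?_⟩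
          rw [← hm']
          simp
      have h3 := (le_idealDepth_iff_of_smul_ses (a.map (algebraMap A B)) M (M ⧸ P) hx' hxreg'
        gB hsurj hexB n).2 hn
      have h4 := ih (M ⧸ P) h3
      exact (le_idealDepth_iff_of_smul_ses a M (M ⧸ P) hx hxreg
        gA hsurj hexA n).1 h4

/-- **depth along a finite map** -/
theorem idealDepth_eq_idealDepth_map (a : Ideal A) (ha : a ≤ IsLocalRing.maximalIdeal A)
    (M : Type u) [AddCommGroup M] [Module B M] [Module A M]
    [IsScalarTower A B M] [Module.Finite B M] :
    LocCoh.idealDepth a M = LocCoh.idealDepth (a.map (algebraMap A B)) M := by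
  haveI : Module.Finite A M := Module.Finite.trans B M
  apply le_antisymm (idealDepth_le_idealDepth_map A B a ha M)
  rw [← ENat.forall_natCast_le_iff_le]
  intro n hn
  exact le_idealDepth_of_map A B a ha n M hn

end

end Groth.Agent.DepthLib
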