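import Mathlib
import Groth.Agent.Lib.DepthFinite_helper5

/-!
# Depth and support dimension along a surjective ring map (helper5)

For a surjection `φ : R → R'` of local rings (`R` Noetherian) and a `φ`-semilinear additive
isomorphism `N ≃+ N'`: `depth_R N = depth_{R'} N'` and `dim Supp_R N = dim Supp_{R'} N'`.

APPEND-ONLY once landed.
-/

set_option autoImplicit false

namespace Groth.Agent.Lib.SurjSemiH5

universe u

open IsLocalRing

section

variable {R R' : Type u} [CommRing R] [CommRing R'] [IsLocalRing R] [IsLocalRing R']
  [IsNoetherianRing R] (φ : R →+* R') (hφ : Function.Surjective φ)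
  {N N' : Type u} [AddCommGroup N] [Module R N] [AddCommGroup N'] [Module R' N']
  [Module.Finite R' N'] (ε : N ≃+ N') (hε : ∀ (r : R) (x : N), ε (r • x) = φ r • ε x)

include hφ hε

/-- depth is invariant along a surjection-semilinear additive isomorphism -/
theorem depth_eq : LocCoh.depth R N = LocCoh.depth R' N' := by
  letI : Algebra R R' := φ.toAlgebra
  letI : Module R N' := Module.compHom N' φ
  haveI : IsScalarTower R R' N' := IsScalarTower.of_algebraMap_smul fun _ _ => rfl
  haveI : Module.Finite R R' := Module.Finite.of_surjective (Algebra.linearMap R R') hφ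
  let εL : N ≃ₗ[R] N' := { ε with map_smul' := fun r x => hε r x }
  unfold LocCoh.depth
  rw [Groth.Agent.DepthLib.idealDepth_congr (maximalIdeal R) N εL,
    Groth.Agent.DepthLib.idealDepth_eq_idealDepth_map R R' (maximalIdeal R) le_rfl N']
  have : (maximalIdeal R).map (algebraMap R R') = maximalIdeal R' :=
    IsLocalRing.map_maximalIdeal_of_surjective φ hφ
  rw [this]

/-- the dimension of the support is invariant along a surjection-semilinear additive
isomorphism -/
theorem supportDim_eq : Module.supportDim R N = Module.supportDim R' N' := by
  letI : Algebra R R' := φ.toAlgebra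
  letI : Module R N' := Module.compHom N' φ
  haveI : IsScalarTower R R' N' := IsScalarTower.of_algebraMap_smul fun _ _ => rfl
  haveI : Module.Finite R R' := Module.Finite.of_surjective (Algebra.linearMap R R') hφ
  haveI : Module.Finite R N' := Module.Finite.trans R' N'
  let εL : N ≃ₗ[R] N' := { ε with map_smul' := fun r x => hε r x }
  rw [Module.supportDim_eq_of_equiv εL, Module.supportDim_eq_ringKrullDim_quotient_annihilator,
    Module.supportDim_eq_ringKrullDim_quotient_annihilator]
  have hann : Module.annihilator R N' = (Module.annihilator R' N').comap φ := by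
    ext r
    rw [Ideal.mem_comap, Module.mem_annihilator, Module.mem_annihilator]
    rfl
  let ψ : R →+* R' ⧸ Module.annihilator R' N' := (Ideal.Quotient.mk _).comp φ
  have hψ : Function.Surjective ψ := Ideal.Quotient.mk_surjective.comp hφ
  have hker : RingHom.ker ψ = Module.annihilator R N' := by
    rw [hann]
    ext r
    rw [RingHom.mem_ker, Ideal.mem_comap]
    exact Ideal.Quotient.eq_zero_iff_mem
  exact ringKrullDim_eq_of_ringEquiv
    ((Ideal.quotEquivOfEq hker.symm).trans (RingHom.quotientKerEquivOfSurjective hψ))

end

end Groth.Agent.Lib.SurjSemiH5
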