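import Mathlib
import Groth.Agent.Lib.FibProjDim2_helper5
import Groth.Agent.Lib.SurjSemi_helper5
import Groth.Agent.Lib.FlatCM_helper9

/-!
# Codepth of fibre modules, part 3: general finitely presented algebras (helper5)

* `isRegularLocalRing_fib_mvPolynomial`: the fibre local rings of a polynomial algebra are regular.
* `codepthLE_under_iff`: for a surjection `P → B` of `A`-algebras, the codepth of the fibre module
  at a prime `q` of `B` is the same computed over `P`.
* `isOpen_codepthLE`: **EGA IV 12.1.1 (v)**, ring form.

APPEND-ONLY once landed.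
-/

set_option autoImplicit false
set_option backward.isDefEq.respectTransparency false

namespace Groth.Agent.Lib.FibPdH5

open TensorProduct Pointwise CategoryTheory
open Groth.Agent.Lib.FibSkH5 Groth.Agent.Lib.FibPDH7

universe u

section Transfer

variable (A : Type u) {P B : Type u} [CommRing A] [CommRing P] [CommRing B] [Algebra A P]
  [Algebra A B] [Algebra P B] [IsScalarTower A P B]
  (hsurj : Function.Surjective (algebraMap P B)) (q : Ideal B) [q.IsPrime]
  (M : Type u) [AddCommGroup M] [Module B M] [Module P M] [IsScalarTower P B M]

/-- the prime of `P` under `q` -/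
abbrev under : Ideal P := q.comap (algebraMap P B)

instance : (under (P := P) q).IsPrime := Ideal.comap_isPrime _ _

/-- `P_Q → B_q` -/
noncomputable def locMap : Localization.AtPrime (under (P := P) q) →+* Localization.AtPrime q :=
  Localization.localRingHom (under (P := P) q) q (algebraMap P B) rfl

include hsurj in
theorem locMap_surjective : Function.Surjective (locMap (P := P) q) :=
  (RingHom.surjectiveOnStalks_of_surjective hsurj).localRingHom_surjective _ q rfl

theorem locMap_algebraMap (x : P) :
    locMap (P := P) q (algebraMap P _ x) = algebraMap B _ (algebraMap P B x) :=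
  Localization.localRingHom_to_map _ _ _ _ x

theorem fibJ_le_comap :
    fibJ A (under (P := P) q) ≤ (fibJ A q).comap (locMap (P := P) q) := by
  rw [Ideal.map_le_iff_le_comap]
  intro a ha
  rw [Ideal.mem_comap, Ideal.mem_comap,
    IsScalarTower.algebraMap_apply A P (Localization.AtPrime (under (P := P) q)),
    locMap_algebraMap, ← IsScalarTower.algebraMap_apply A P B,
    ← IsScalarTower.algebraMap_apply A B (Localization.AtPrime q)]
  apply Ideal.mem_map_of_mem
  rw [Ideal.mem_comap, IsScalarTower.algebraMap_apply A P B]
  exact ha

/-- `Fib A Q → Fib A q` -/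
noncomputable def fibMap : Fib A (under (P := P) q) →+* Fib A q :=
  Ideal.quotientMap (fibJ A q) (locMap (P := P) q) (fibJ_le_comap A q)

include hsurj in
theorem fibMap_surjective : Function.Surjective (fibMap (P := P) A q) :=
  Ideal.quotientMap_surjective (locMap_surjective hsurj q)

theorem fibMap_mk (x : Localization.AtPrime (under (P := P) q)) :
    fibMap (P := P) A q (Ideal.Quotient.mk _ x) = Ideal.Quotient.mk _ (locMap (P := P) q x) :=
  rfl

end Transfer


section Transfer2

variable (A : Type u) {P B : Type u} [CommRing A] [CommRing P] [CommRing B] [Algebra A P]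
  [Algebra A B] [Algebra P B] [IsScalarTower A P B]
  (hsurj : Function.Surjective (algebraMap P B)) (q : Ideal B) [q.IsPrime]
  (M : Type u) [AddCommGroup M] [Module B M] [Module P M] [IsScalarTower P B M]

include hsurj in
theorem algebraMapSubmonoid_under :
    Algebra.algebraMapSubmonoid B (under (P := P) q).primeCompl = q.primeCompl := by
  ext b
  constructor
  · rintro ⟨x, hx, rfl⟩
    exact hx
  · intro hb
    obtain ⟨x, rfl⟩ := hsurj b
    exact ⟨x, hb, rfl⟩

include hsurj in
theorem isLocalizedModule_under :
    IsLocalizedModule (under (P := P) q).primeCompl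
      ((LocalizedModule.mkLinearMap q.primeCompl M).restrictScalars P) := by
  haveI : IsLocalizedModule (Algebra.algebraMapSubmonoid B (under (P := P) q).primeCompl)
      (LocalizedModule.mkLinearMap q.primeCompl M) := by
    rw [algebraMapSubmonoid_under hsurj q]
    infer_instance
  exact IsLocalizedModule.restrictScalars (under (P := P) q).primeCompl
    (LocalizedModule.mkLinearMap q.primeCompl M)

/-- `M_Q ≃ M_q` -/
noncomputable def locModEquiv :
    LocalizedModule (under (P := P) q).primeCompl M ≃ₗ[P] LocalizedModule q.primeCompl M :=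
  haveI := isLocalizedModule_under hsurj q M
  IsLocalizedModule.linearEquiv (under (P := P) q).primeCompl
    (LocalizedModule.mkLinearMap (under (P := P) q).primeCompl M)
    ((LocalizedModule.mkLinearMap q.primeCompl M).restrictScalars P)

theorem locModEquiv_smul (r : Localization.AtPrime (under (P := P) q))
    (x : LocalizedModule (under (P := P) q).primeCompl M) :
    locModEquiv hsurj q M (r • x) = locMap (P := P) q r • locModEquiv hsurj q M x := by
  obtain ⟨⟨p, t⟩, hpt⟩ := IsLocalization.surj (under (P := P) q).primeCompl r
  -- `r * t = p`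
  have h1 : (t : P) • (r • x) = p • x := by
    rw [← algebraMap_smul (Localization.AtPrime (under (P := P) q)) (t : P) (r • x), smul_smul,
      mul_comm, hpt, algebraMap_smul]
  have h2 : (t : P) • locModEquiv hsurj q M (r • x) = p • locModEquiv hsurj q M x := by
    rw [← map_smul, h1, map_smul]
  have h3 : (t : P) • (locMap (P := P) q r • locModEquiv hsurj q M x) =
      p • locModEquiv hsurj q M x := by
    rw [← algebraMap_smul B (t : P), ← algebraMap_smul (Localization.AtPrime q)
      (algebraMap P B (t : P)), smul_smul, ← locMap_algebraMap, ← map_mul, mul_comm, hpt,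
      locMap_algebraMap, algebraMap_smul, algebraMap_smul]
  have hunit : IsUnit (algebraMap B (Localization.AtPrime q) (algebraMap P B (t : P))) :=
    IsLocalization.map_units (Localization.AtPrime q)
      (⟨algebraMap P B (t : P), t.2⟩ : q.primeCompl)
  have hinj : ∀ y z : LocalizedModule q.primeCompl M, (t : P) • y = (t : P) • z → y = z := by
    intro y z hyz
    rw [← algebraMap_smul B (t : P) y, ← algebraMap_smul B (t : P) z,
      ← algebraMap_smul (Localization.AtPrime q) (algebraMap P B (t : P)) y,
      ← algebraMap_smul (Localization.AtPrime q) (algebraMap P B (t : P)) z] at hyz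
    exact hunit.smul_left_cancel.mp hyz
  exact hinj _ _ (h2.trans h3.symm)

end Transfer2


section Transfer3

variable (A : Type u) {P B : Type u} [CommRing A] [CommRing P] [CommRing B] [Algebra A P]
  [Algebra A B] [Algebra P B] [IsScalarTower A P B]
  (hsurj : Function.Surjective (algebraMap P B)) (q : Ideal B) [q.IsPrime]
  (M : Type u) [AddCommGroup M] [Module B M] [Module P M] [IsScalarTower P B M]

theorem map_fibJ_under : (fibJ A (under (P := P) q)).map (locMap (P := P) q) = fibJ A q := by
  have hcomp : (locMap (P := P) q).comp
      (algebraMap A (Localization.AtPrime (under (P := P) q))) =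
      algebraMap A (Localization.AtPrime q) := by
    ext a
    rw [RingHom.comp_apply,
      IsScalarTower.algebraMap_apply A P (Localization.AtPrime (under (P := P) q)),
      locMap_algebraMap, ← IsScalarTower.algebraMap_apply A P B,
      ← IsScalarTower.algebraMap_apply A B (Localization.AtPrime q)]
  have hp : (under (P := P) q).comap (algebraMap A P) = q.comap (algebraMap A B) := by
    ext a
    rw [Ideal.mem_comap, Ideal.mem_comap, Ideal.mem_comap, IsScalarTower.algebraMap_apply A P B]
  show Ideal.map (locMap (P := P) q) (Ideal.map (algebraMap A (Localization.AtPrime (under (P := P) q)))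
    ((under (P := P) q).comap (algebraMap A P))) = _
  rw [Ideal.map_map, hcomp, hp]

theorem map_fibJ_smul_top :
    ((fibJ A (under (P := P) q) • (⊤ : Submodule (Localization.AtPrime (under (P := P) q))
      (LocalizedModule (under (P := P) q).primeCompl M))).restrictScalars P).map
        (locModEquiv hsurj q M : _ →ₗ[P] _) =
      (fibJ A q • (⊤ : Submodule (Localization.AtPrime q)
        (LocalizedModule q.primeCompl M))).restrictScalars P := by
  apply le_antisymm
  · rintro _ ⟨x, hx, rfl⟩
    rw [SetLike.mem_coe, Submodule.restrictScalars_mem] at hx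
    rw [Submodule.restrictScalars_mem]
    refine Submodule.smul_induction_on hx (fun j hj m _ => ?_) (fun a b ha hb => ?_)
    · show locModEquiv hsurj q M (j • m) ∈ _
      rw [locModEquiv_smul]
      exact Submodule.smul_mem_smul (fibJ_le_comap A q hj) trivial
    · rw [map_add]
      exact add_mem ha hb
  · intro y hy
    rw [Submodule.restrictScalars_mem] at hy
    refine Submodule.smul_induction_on hy (fun j' hj' m' _ => ?_) (fun a b ha hb => ?_)
    · rw [← map_fibJ_under (P := P) A q,
        Ideal.mem_map_iff_of_surjective _ (locMap_surjective hsurj q)] at hj'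
      obtain ⟨j, hj, rfl⟩ := hj'
      refine ⟨j • (locModEquiv hsurj q M).symm m', ?_, ?_⟩
      · rw [SetLike.mem_coe, Submodule.restrictScalars_mem]
        exact Submodule.smul_mem_smul hj trivial
      · show locModEquiv hsurj q M (j • (locModEquiv hsurj q M).symm m') = _
        rw [locModEquiv_smul, LinearEquiv.apply_symm_apply]
    · exact add_mem ha hb

/-- `M_Q / p M_Q ≃ M_q / p M_q` -/
noncomputable def fibModEquiv : FibModQ A (under (P := P) q) M ≃ₗ[P] FibModQ A q M :=
  (Submodule.Quotient.restrictScalarsEquiv P _).symm ≪≫ₗ
    Submodule.Quotient.equiv _ _ (locModEquiv hsurj q M) (map_fibJ_smul_top A hsurj q M) ≪≫ₗ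
    Submodule.Quotient.restrictScalarsEquiv P _

theorem fibModEquiv_mk (x : LocalizedModule (under (P := P) q).primeCompl M) :
    fibModEquiv A hsurj q M (Submodule.Quotient.mk x) =
      Submodule.Quotient.mk (locModEquiv hsurj q M x) := rfl

theorem fibModEquiv_smul (r : Fib A (under (P := P) q)) (x : FibModQ A (under (P := P) q) M) :
    fibModEquiv A hsurj q M (r • x) = fibMap (P := P) A q r • fibModEquiv A hsurj q M x := by
  obtain ⟨r, rfl⟩ := Ideal.Quotient.mk_surjective r
  obtain ⟨x, rfl⟩ := Submodule.Quotient.mk_surjective _ x
  rw [fibMap_mk, fibModEquiv_mk]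
  have h1 : (Ideal.Quotient.mk (fibJ A (under (P := P) q)) r) •
      (Submodule.Quotient.mk x : FibModQ A (under (P := P) q) M) =
      Submodule.Quotient.mk (r • x) := rfl
  rw [h1, fibModEquiv_mk, locModEquiv_smul]
  rfl

variable [Module.Finite B M] [IsNoetherianRing (Fib A (under (P := P) q))]

include hsurj in
/-- **Transfer of the codepth condition from `Spec B` to `Spec P`.** -/
theorem codepthLE_under_iff (n : ℕ) :
    CodepthLE A (B := P) M n ⟨under (P := P) q, inferInstance⟩ ↔
      CodepthLE A M n ⟨q, inferInstance⟩ := by
  unfold CodepthLE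
  have h1 := Groth.Agent.Lib.SurjSemiH5.depth_eq (fibMap (P := P) A q)
    (fibMap_surjective A hsurj q) (fibModEquiv A hsurj q M).toAddEquiv
    (fun r x => fibModEquiv_smul A hsurj q M r x)
  have h2 := Groth.Agent.Lib.SurjSemiH5.supportDim_eq (fibMap (P := P) A q)
    (fibMap_surjective A hsurj q) (fibModEquiv A hsurj q M).toAddEquiv
    (fun r x => fibModEquiv_smul A hsurj q M r x)
  show Module.supportDim (Fib A (under (P := P) q)) (FibModQ A (under (P := P) q) M) ≤
      ((LocCoh.depth (Fib A (under (P := P) q)) (FibModQ A (under (P := P) q) M) : ℕ∞) :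
        WithBot ℕ∞) + n ↔
    Module.supportDim (Fib A q) (FibModQ A q M) ≤
      ((LocCoh.depth (Fib A q) (FibModQ A q M) : ℕ∞) : WithBot ℕ∞) + n
  rw [h1, h2]

end Transfer3

/-- the fibre local rings of a polynomial algebra are regular -/
theorem isRegularLocalRing_fib_mvPolynomial (A : Type u) [CommRing A] (N : ℕ)
    (Q : Ideal (MvPolynomial (Fin N) A)) [Q.IsPrime] : IsRegularLocalRing (Fib A Q) := by
  obtain ⟨q', hq', ⟨σ⟩⟩ := Groth.Agent.FlatCM.exists_fibre_equiv A (MvPolynomial (Fin N) A) Q
  set p := Q.comap (algebraMap A (MvPolynomial (Fin N) A)) with hp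
  haveI : p.IsPrime := Ideal.comap_isPrime _ _
  let e : p.Fiber (MvPolynomial (Fin N) A) ≃ₐ[p.ResidueField]
      MvPolynomial (Fin N) p.ResidueField := MvPolynomial.scalarRTensorAlgEquiv
  haveI : IsRegularRing (p.Fiber (MvPolynomial (Fin N) A)) :=
    IsRegularRing.of_ringEquiv e.symm.toRingEquiv
  haveI : IsRegularLocalRing (Localization.AtPrime q') := inferInstance
  exact IsRegularLocalRing.of_ringEquiv (R := Localization.AtPrime q') (R' := Fib A Q) σ


section General

variable {A B : Type u} [CommRing A] [CommRing B] [Algebra A B] [Algebra.FinitePresentation A B]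

/-- **Ring-level openness of the fibrewise codepth locus** (EGA IV 12.1.1 (v), ring form):
for a finitely presented `A`-algebra `B` and a finitely presented `B`-module `M` flat over `A`,
the set of primes `q` of `B` at which the fibre module `M_q / p M_q` has codepth `≤ n` over the
fibre local ring `B_q / p B_q` is open. -/
theorem isOpen_codepthLE (M : Type u) [AddCommGroup M] [Module B M] [Module A M]
    [IsScalarTower A B M] [Module.FinitePresentation B M] [Module.Flat A M] (n : ℕ) :
    IsOpen {q : PrimeSpectrum B | CodepthLE A M n q} := by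
  classical
  obtain ⟨N, f, hf, hker⟩ := Algebra.FinitePresentation.out (R := A) (A := B)
  letI algPB : Algebra (MvPolynomial (Fin N) A) B := f.toRingHom.toAlgebra
  haveI : IsScalarTower A (MvPolynomial (Fin N) A) B :=
    IsScalarTower.of_algebraMap_eq fun a => (f.commutes a).symm
  letI modPM : Module (MvPolynomial (Fin N) A) M := Module.compHom M f.toRingHom
  haveI : IsScalarTower (MvPolynomial (Fin N) A) B M :=
    IsScalarTower.of_algebraMap_smul fun _ _ => rfl
  haveI : IsScalarTower A (MvPolynomial (Fin N) A) M :=
    IsScalarTower.of_algebraMap_smul fun a m => by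
      show f (algebraMap A (MvPolynomial (Fin N) A) a) • m = a • m
      rw [f.commutes, algebraMap_smul]
  have hsurj : Function.Surjective (algebraMap (MvPolynomial (Fin N) A) B) := hf
  haveI : Module.FinitePresentation (MvPolynomial (Fin N) A) B := by
    refine Module.finitePresentation_of_surjective
      (Algebra.linearMap (MvPolynomial (Fin N) A) B) hsurj ?_
    have : LinearMap.ker (Algebra.linearMap (MvPolynomial (Fin N) A) B) =
        (RingHom.ker f.toRingHom : Ideal (MvPolynomial (Fin N) A)) := by
      ext x
      rfl
    rw [this]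
    exact hker
  haveI : Module.FinitePresentation (MvPolynomial (Fin N) A) M :=
    Module.FinitePresentation.trans (MvPolynomial (Fin N) A) M B
  have hreg : ∀ (Q : Ideal (MvPolynomial (Fin N) A)) [Q.IsPrime], IsRegularLocalRing (Fib A Q) :=
    fun Q _ => isRegularLocalRing_fib_mvPolynomial A N Q
  have hopen := isOpen_codepthLE_of_regular (A := A) (B := MvPolynomial (Fin N) A) hreg M n
  have hset : {q : PrimeSpectrum B | CodepthLE A M n q} =
      PrimeSpectrum.comap (algebraMap (MvPolynomial (Fin N) A) B) ⁻¹'
        {Q : PrimeSpectrum (MvPolynomial (Fin N) A) | CodepthLE A M n Q} := by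
    ext q
    haveI := hreg (under (P := MvPolynomial (Fin N) A) q.asIdeal)
    exact (codepthLE_under_iff A hsurj q.asIdeal M n).symm
  rw [hset]
  exact hopen.preimage (PrimeSpectrum.continuous_comap _)

end General

end Groth.Agent.Lib.FibPdH5
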